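import Mathlib
import Cfsg.Statements.S1756

set_option autoImplicit false
open Cfsg
open scoped commutatorElement

namespace Cfsg.Agent.S1756

/-- Lemma A: let `P` be a group with `P' = Z(P)` of order 2 and `α` an automorphism of order at most 2 whose
fixed points form a subgroup `F` of index at most 2.  Then `α q * q⁻¹` is central for all `q`. -/
theorem central_of_index_two {P : Type*} [Group P] [Finite P]
    (hcomm : commutator P = Subgroup.center P) (hcard : Nat.card (Subgroup.center P) = 2)
    (α : P ≃* P) (hα : ∀ q, α (α q) = q) (F : Subgroup P) (hF : ∀ q, q ∈ F ↔ α q = q)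
    (hidx : F.index ≤ 2) (q : P) : α q * q⁻¹ ∈ Subgroup.center P := by
  -- index is 1 or 2
  have hidx0 : F.index ≠ 0 := Subgroup.index_ne_zero_of_finite
  rcases (by omega : F.index = 1 ∨ F.index = 2) with h1 | h2
  · rw [Subgroup.index_eq_one] at h1
    have : q ∈ F := by rw [h1]; trivial
    rw [(hF q).mp this, mul_inv_cancel]
    exact Subgroup.one_mem _
  -- (a) the centre is fixed by α
  have hZF : ∀ z ∈ Subgroup.center P, α z = z := by
    intro z hz
    have hαz : α z ∈ Subgroup.center P := by
      rw [Subgroup.mem_center_iff] at hz ⊢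
      intro g
      obtain ⟨g', rfl⟩ := α.surjective g
      rw [← map_mul, ← map_mul, hz g']
    by_cases hz1 : z = 1
    · rw [hz1, map_one]
    obtain ⟨w, _, hw⟩ := (Nat.card_eq_two_iff' (1 : Subgroup.center P)).mp hcard
    have e1 : (⟨z, hz⟩ : Subgroup.center P) = w := hw _ (fun h => hz1 (congrArg Subtype.val h))
    have e2 : (⟨α z, hαz⟩ : Subgroup.center P) = w :=
      hw _ (fun h => hz1 (by
        have : α z = 1 := congrArg Subtype.val h
        exact (map_eq_one_iff α α.injective).mp this))
    exact congrArg Subtype.val (e2.trans e1.symm)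
  have hcommF : ∀ a b : P, α (a * b * a⁻¹ * b⁻¹) = a * b * a⁻¹ * b⁻¹ := by
    intro a b
    apply hZF
    rw [← hcomm]
    have : a * b * a⁻¹ * b⁻¹ = ⁅a, b⁆ := by rw [commutatorElement_def]
    rw [this]
    exact Subgroup.commutator_mem_commutator (Subgroup.mem_top a) (Subgroup.mem_top b)
  have hcommZ : ∀ a b : P, a * b * a⁻¹ * b⁻¹ ∈ Subgroup.center P := by
    intro a b
    rw [← hcomm]
    have : a * b * a⁻¹ * b⁻¹ = ⁅a, b⁆ := by rw [commutatorElement_def]
    rw [this]
    exact Subgroup.commutator_mem_commutator (Subgroup.mem_top a) (Subgroup.mem_top b)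
  -- choose x outside F
  obtain ⟨x, hx⟩ : ∃ x, x ∉ F := by
    by_contra hall
    push Not at hall
    have : F = ⊤ := by
      rw [Subgroup.eq_top_iff']; exact hall
    rw [← Subgroup.index_eq_one] at this
    omega
  have hxinv : x⁻¹ ∉ F := fun h => hx (by simpa using F.inv_mem h)
  set c := α x * x⁻¹ with hc
  have hαx : α x = c * x := by rw [hc]; group
  -- (i) c commutes with F
  have hcF : ∀ f ∈ F, f * c = c * f := by
    intro f hf
    have hαf : α f = f := (hF f).mp hf
    have h1 := hcommF f x
    rw [map_mul, map_mul, map_mul, map_inv, map_inv, hαf, hαx] at h1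
    -- h1 : f * (c * x) * f⁻¹ * (c * x)⁻¹ = f * x * f⁻¹ * x⁻¹
    have hw := hcommZ f x
    rw [Subgroup.mem_center_iff] at hw
    have hw' := hw c⁻¹
    -- derive f c f⁻¹ c⁻¹ = 1
    have h2 : f * c * f⁻¹ * c⁻¹ = 1 := by
      have e : f * (c * x) * f⁻¹ * (c * x)⁻¹ = f * c * f⁻¹ * (f * x * f⁻¹ * x⁻¹) * c⁻¹ := by group
      rw [e] at h1
      have e2 : f * c * f⁻¹ * (f * x * f⁻¹ * x⁻¹) * c⁻¹ = f * c * f⁻¹ * (c⁻¹ * (f * x * f⁻¹ * x⁻¹)) := by
        rw [hw']; group
      rw [e2] at h1
      have e3 : f * c * f⁻¹ * (c⁻¹ * (f * x * f⁻¹ * x⁻¹)) = (f * c * f⁻¹ * c⁻¹) * (f * x * f⁻¹ * x⁻¹) := by group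
      rw [e3] at h1
      exact mul_eq_right.mp h1
    calc f * c = f * c * f⁻¹ * c⁻¹ * (c * f) := by group
      _ = c * f := by rw [h2, one_mul]
  -- every element is in F or is (element of F) * x
  have hdecomp : ∀ g : P, g ∈ F ∨ ∃ f ∈ F, g = f * x := by
    intro g
    by_cases hg : g ∈ F
    · left; exact hg
    right
    refine ⟨g * x⁻¹, ?_, by group⟩
    rw [Subgroup.mul_mem_iff_of_index_two h2]
    exact ⟨fun h => absurd h hg, fun h => absurd h hxinv⟩
  -- if c commutes with x then c is central
  have hcentral_of : x * c = c * x → c ∈ Subgroup.center P := by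
    intro hxc
    rw [Subgroup.mem_center_iff]
    intro g
    rcases hdecomp g with hg | ⟨f, hf, rfl⟩
    · exact hcF g hg
    · rw [mul_assoc, hxc, ← mul_assoc, hcF f hf, mul_assoc]
  -- (ii) c ∈ F
  have hcinF : c ∈ F := by
    by_contra hcn
    have hf : c * x⁻¹ ∈ F := by
      rw [Subgroup.mul_mem_iff_of_index_two h2]
      exact ⟨fun h => absurd h hcn, fun h => absurd h hxinv⟩
    have h3 := hcF _ hf
    -- c commutes with c * x⁻¹ hence with x
    have hxc : x * c = c * x := by
      have : c * x⁻¹ * c = c * (c * x⁻¹) := h3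
      have h4 : x⁻¹ * c = c * x⁻¹ := by
        have := congrArg (fun u => c⁻¹ * u) this
        simpa [mul_assoc] using this
      calc x * c = x * (c * x⁻¹) * x := by group
        _ = x * (x⁻¹ * c) * x := by rw [h4]
        _ = c * x := by group
    have := hcentral_of hxc
    exact hcn ((hF c).mpr (hZF c this))
  have hαc : α c = c := (hF c).mp hcinF
  -- (iii) c * c = 1
  have hcc : c * c = 1 := by
    have := hα x
    rw [hαx, map_mul, hαc, hαx] at this
    have h5 : c * (c * x) = (c * c) * x := by group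
    rw [h5] at this
    exact mul_eq_right.mp this
  -- (iv) c commutes with x
  have hxc : x * c = c * x := by
    have hxx : x * x ∈ F := Subgroup.mul_self_mem_of_index_two h2 x
    have h6 := (hF _).mp hxx
    rw [map_mul, hαx] at h6
    -- c x c x = x x
    have h7 : c * x * c = x := by
      have : c * x * (c * x) = (c * x * c) * x := by group
      rw [this] at h6
      exact mul_right_cancel h6
    calc x * c = (c * c) * x * c := by rw [hcc, one_mul]
      _ = c * (c * x * c) := by group
      _ = c * x := by rw [h7]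
  have hcZ := hcentral_of hxc
  -- conclude
  rcases hdecomp q with hq | ⟨f, hf, rfl⟩
  · rw [(hF q).mp hq, mul_inv_cancel]; exact Subgroup.one_mem _
  · have : α (f * x) * (f * x)⁻¹ = f * c * f⁻¹ := by
      rw [map_mul, (hF f).mp hf, hαx]; group
    rw [this]
    rw [Subgroup.mem_center_iff] at hcZ
    have : f * c * f⁻¹ = c := by rw [hcZ f]; group
    rw [this]
    exact Subgroup.mem_center_iff.mpr hcZ

/-- The commutator homomorphism `q ↦ [y, q]` into the centre, for a group with `P' ≤ Z(P)`. -/
noncomputable def commHom {P : Type*} [Group P] (hcomm : commutator P = Subgroup.center P) (y : P) :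
    P →* Subgroup.center P where
  toFun q := ⟨y * q * y⁻¹ * q⁻¹, by
    rw [← hcomm]
    have : y * q * y⁻¹ * q⁻¹ = ⁅y, q⁆ := by rw [commutatorElement_def]
    rw [this]
    exact Subgroup.commutator_mem_commutator (Subgroup.mem_top y) (Subgroup.mem_top q)⟩
  map_one' := by
    apply Subtype.ext
    simp
  map_mul' a b := by
    apply Subtype.ext
    have hb : y * b * y⁻¹ * b⁻¹ ∈ Subgroup.center P := by
      rw [← hcomm]
      have : y * b * y⁻¹ * b⁻¹ = ⁅y, b⁆ := by rw [commutatorElement_def]
      rw [this]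
      exact Subgroup.commutator_mem_commutator (Subgroup.mem_top y) (Subgroup.mem_top b)
    rw [Subgroup.mem_center_iff] at hb
    have h1 := hb a⁻¹
    change y * (a * b) * y⁻¹ * (a * b)⁻¹ = (y * a * y⁻¹ * a⁻¹) * (y * b * y⁻¹ * b⁻¹)
    calc y * (a * b) * y⁻¹ * (a * b)⁻¹ = y * a * y⁻¹ * ((y * b * y⁻¹ * b⁻¹) * a⁻¹) := by group
      _ = y * a * y⁻¹ * (a⁻¹ * (y * b * y⁻¹ * b⁻¹)) := by rw [h1]
      _ = (y * a * y⁻¹ * a⁻¹) * (y * b * y⁻¹ * b⁻¹) := by group

theorem commHom_apply {P : Type*} [Group P] (hcomm : commutator P = Subgroup.center P) (y q : P) :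
    ((commHom hcomm y q : Subgroup.center P) : P) = y * q * y⁻¹ * q⁻¹ := rfl

/-- Lemma B: in a finite group with `P' = Z(P)` of order 2, every homomorphism `P → Z(P)` is of the form
`q ↦ [y, q]`. -/
theorem exists_commHom_eq {P : Type*} [Group P] [Finite P]
    (hcomm : commutator P = Subgroup.center P) (hcard : Nat.card (Subgroup.center P) = 2)
    (c : P →* Subgroup.center P) : ∃ y : P, ∀ q, c q = commHom hcomm y q := by
  classical
  -- an injective character of the centre
  obtain ⟨z, hz1, hzuniq⟩ := (Nat.card_eq_two_iff' (1 : Subgroup.center P)).mp hcard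
  have hne : NeZero (Monoid.exponent (Subgroup.center P)) := ⟨Monoid.exponent_ne_zero_of_finite⟩
  obtain ⟨ψ, hψ⟩ : ∃ ψ : Subgroup.center P →* ℂˣ, ψ z ≠ 1 := by
    open scoped IsMulCommutative in
    exact CommGroup.exists_apply_ne_one_of_hasEnoughRootsOfUnity (Subgroup.center P) ℂ hz1
  have hψinj : Function.Injective ψ := by
    rw [injective_iff_map_eq_one]
    intro a ha
    by_contra ha1
    rw [hzuniq a ha1] at ha
    exact hψ ha
  -- the homomorphism Φ : P → Hom(P, ℂˣ)
  let Φ : P →* (P →* ℂˣ) :=
    { toFun := fun y => ψ.comp (commHom hcomm y)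
      map_one' := by
        ext q
        simp only [MonoidHom.comp_apply, MonoidHom.one_apply]
        have : commHom hcomm 1 q = 1 := by
          apply Subtype.ext
          rw [commHom_apply]; simp
        rw [this, map_one]
      map_mul' := by
        intro a b
        ext q
        simp only [MonoidHom.comp_apply, MonoidHom.mul_apply]
        rw [← map_mul]
        congr 2
        apply Subtype.ext
        rw [Subgroup.coe_mul, commHom_apply, commHom_apply, commHom_apply]
        have hb : b * q * b⁻¹ * q⁻¹ ∈ Subgroup.center P := (commHom hcomm b q).2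
        rw [Subgroup.mem_center_iff] at hb
        have h1 := hb a⁻¹
        calc a * b * q * (a * b)⁻¹ * q⁻¹ = a * ((b * q * b⁻¹ * q⁻¹) * a⁻¹) * (a * q * a⁻¹ * q⁻¹) := by group
          _ = a * (a⁻¹ * (b * q * b⁻¹ * q⁻¹)) * (a * q * a⁻¹ * q⁻¹) := by rw [h1]
          _ = (b * q * b⁻¹ * q⁻¹) * (a * q * a⁻¹ * q⁻¹) := by group
          _ = (a * q * a⁻¹ * q⁻¹) * (b * q * b⁻¹ * q⁻¹) := (hb _).symm }
  have hΦ : ∀ y q, Φ y q = ψ (commHom hcomm y q) := fun y q => rfl
  -- kernel of Φ is the centre
  have hker : Φ.ker = Subgroup.center P := by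
    ext y
    rw [MonoidHom.mem_ker, Subgroup.mem_center_iff]
    constructor
    · intro h g
      have h1 : Φ y g = 1 := by rw [h]; rfl
      rw [hΦ] at h1
      have h2 : commHom hcomm y g = 1 := hψinj (by rw [h1, map_one])
      have h3 : y * g * y⁻¹ * g⁻¹ = 1 := congrArg Subtype.val h2
      have : y * g = g * y := by
        calc y * g = (y * g * y⁻¹ * g⁻¹) * (g * y) := by group
          _ = g * y := by rw [h3, one_mul]
      exact this.symm
    · intro h
      ext g
      rw [hΦ]
      have : commHom hcomm y g = 1 := by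
        apply Subtype.ext
        rw [commHom_apply]
        have := h g
        calc y * g * y⁻¹ * g⁻¹ = (g * y) * y⁻¹ * g⁻¹ := by rw [this]
          _ = 1 := by group
      rw [this, map_one]; rfl
  -- counting
  have hne2 : NeZero (Monoid.exponent (Abelianization P)) := ⟨Monoid.exponent_ne_zero_of_finite⟩
  have hcardHom : Nat.card (P →* ℂˣ) = Nat.card P / 2 := by
    rw [Nat.card_congr (Abelianization.lift (G := P) (A := ℂˣ)),
      CommGroup.card_monoidHom_of_hasEnoughRootsOfUnity (Abelianization P) ℂ]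
    have h1 : Nat.card (Abelianization P) = (commutator P).index := rfl
    have h2 := (commutator P).card_mul_index
    rw [hcomm, hcard] at h2
    rw [h1, hcomm]
    omega
  have hfin : Finite (P →* ℂˣ) := by
    apply Nat.finite_of_card_ne_zero
    rw [hcardHom]
    have h2 := (Subgroup.center P).card_mul_index
    rw [hcard] at h2
    have : 0 < (Subgroup.center P).index := Nat.pos_of_ne_zero Subgroup.index_ne_zero_of_finite
    omega
  have hsurj : Function.Surjective Φ := by
    apply MonoidHom.surjective_of_card_ker_le_div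
    rw [hker, hcard, hcardHom]
    have h2 := (Subgroup.center P).card_mul_index
    rw [hcard] at h2
    have : 0 < (Subgroup.center P).index := Nat.pos_of_ne_zero Subgroup.index_ne_zero_of_finite
    have h3 : Nat.card P / 2 = (Subgroup.center P).index := by omega
    rw [h3, ← h2]
    rw [Nat.mul_div_cancel _ this]
  obtain ⟨y, hy⟩ := hsurj (ψ.comp c)
  refine ⟨y, fun q => ?_⟩
  apply hψinj
  have := congrArg (fun f : P →* ℂˣ => f q) hy
  simp only [MonoidHom.comp_apply] at this
  rw [← this, hΦ]

/-- Combination of Lemmas A and B: such an automorphism is inner. -/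
theorem inner_of_index_two {P : Type*} [Group P] [Finite P]
    (hcomm : commutator P = Subgroup.center P) (hcard : Nat.card (Subgroup.center P) = 2)
    (α : P ≃* P) (hα : ∀ q, α (α q) = q) (F : Subgroup P) (hF : ∀ q, q ∈ F ↔ α q = q)
    (hidx : F.index ≤ 2) : ∃ y : P, ∀ q, α q = y * q * y⁻¹ := by
  have hA := central_of_index_two hcomm hcard α hα F hF hidx
  let c : P →* Subgroup.center P :=
    { toFun := fun q => ⟨α q * q⁻¹, hA q⟩
      map_one' := by
        apply Subtype.ext
        simp
      map_mul' := by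
        intro a b
        apply Subtype.ext
        have hb := hA b
        rw [Subgroup.mem_center_iff] at hb
        have h1 := hb a⁻¹
        change α (a * b) * (a * b)⁻¹ = (α a * a⁻¹) * (α b * b⁻¹)
        rw [map_mul]
        calc α a * α b * (a * b)⁻¹ = α a * ((α b * b⁻¹) * a⁻¹) := by group
          _ = α a * (a⁻¹ * (α b * b⁻¹)) := by rw [h1]
          _ = (α a * a⁻¹) * (α b * b⁻¹) := by group }
  obtain ⟨y, hy⟩ := exists_commHom_eq hcomm hcard c
  refine ⟨y, fun q => ?_⟩
  have h1 : α q * q⁻¹ = y * q * y⁻¹ * q⁻¹ := congrArg Subtype.val (hy q)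
  calc α q = α q * q⁻¹ * q := by group
    _ = y * q * y⁻¹ * q⁻¹ * q := by rw [h1]
    _ = y * q * y⁻¹ := by group

theorem result {G : Type*} [Group G] [Finite G] (Q : Subgroup G)
    (hQ : Cfsg.IsExtraspecial 2 ↥Q) (t : G) (ht : orderOf t = 2) (htN : t ∈ Subgroup.normalizer (Q : Set G))
    (hi : (Subgroup.centralizer ({t} : Set G) ⊓ Q).relIndex Q ≤ 2) :
    t ∈ Q ⊔ Subgroup.centralizer (Q : Set G) := by
  obtain ⟨⟨_, _, hcomm⟩, hcard⟩ := hQ
  have htt : t * t = 1 := by
    have := pow_orderOf_eq_one t
    rw [ht, pow_two] at this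
    exact this
  have htinv : t⁻¹ = t := inv_eq_of_mul_eq_one_left htt
  have hmem : ∀ q ∈ Q, t * q * t⁻¹ ∈ Q := by
    intro q hq
    rw [Subgroup.mem_normalizer_iff] at htN
    exact (htN q).mp hq
  -- conjugation by t as an automorphism of Q
  let α : ↥Q ≃* ↥Q :=
    { toFun := fun q => ⟨t * q.1 * t⁻¹, hmem q.1 q.2⟩
      invFun := fun q => ⟨t * q.1 * t⁻¹, hmem q.1 q.2⟩
      left_inv := by
        intro q
        apply Subtype.ext
        change t * (t * q.1 * t⁻¹) * t⁻¹ = q.1
        rw [htinv]
        calc t * (t * q.1 * t) * t = (t * t) * q.1 * (t * t) := by group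
          _ = q.1 := by rw [htt]; group
      right_inv := by
        intro q
        apply Subtype.ext
        change t * (t * q.1 * t⁻¹) * t⁻¹ = q.1
        rw [htinv]
        calc t * (t * q.1 * t) * t = (t * t) * q.1 * (t * t) := by group
          _ = q.1 := by rw [htt]; group
      map_mul' := by
        intro a b
        apply Subtype.ext
        change t * (a.1 * b.1) * t⁻¹ = (t * a.1 * t⁻¹) * (t * b.1 * t⁻¹)
        group }
  have hαval : ∀ q : ↥Q, ((α q : ↥Q) : G) = t * q.1 * t⁻¹ := fun q => rfl
  have hα : ∀ q, α (α q) = q := by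
    intro q
    apply Subtype.ext
    rw [hαval, hαval, htinv]
    calc t * (t * q.1 * t) * t = (t * t) * q.1 * (t * t) := by group
      _ = q.1 := by rw [htt]; group
  have hF : ∀ q : ↥Q, q ∈ (Subgroup.centralizer ({t} : Set G) ⊓ Q).subgroupOf Q ↔ α q = q := by
    intro q
    rw [Subgroup.mem_subgroupOf, Subgroup.mem_inf, Subgroup.mem_centralizer_iff]
    constructor
    · rintro ⟨h, _⟩
      apply Subtype.ext
      rw [hαval]
      have := h t rfl
      calc t * q.1 * t⁻¹ = q.1 * t * t⁻¹ := by rw [this]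
        _ = q.1 := by group
    · intro h
      refine ⟨?_, q.2⟩
      intro y hy
      rw [Set.mem_singleton_iff] at hy
      rw [hy]
      have h1 : t * q.1 * t⁻¹ = q.1 := by rw [← hαval, h]
      calc t * q.1 = t * q.1 * t⁻¹ * t := by group
        _ = q.1 * t := by rw [h1]
  obtain ⟨y, hy⟩ := inner_of_index_two hcomm hcard α hα _ hF hi
  -- y⁻¹ t centralizes Q
  have hcent : y.1⁻¹ * t ∈ Subgroup.centralizer (Q : Set G) := by
    rw [Subgroup.mem_centralizer_iff]
    intro q hq
    have h1 : t * q * t⁻¹ = y.1 * q * y.1⁻¹ := by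
      have := congrArg Subtype.val (hy ⟨q, hq⟩)
      rw [hαval] at this
      exact this
    calc q * (y.1⁻¹ * t) = y.1⁻¹ * (y.1 * q * y.1⁻¹) * t := by group
      _ = y.1⁻¹ * (t * q * t⁻¹) * t := by rw [h1]
      _ = y.1⁻¹ * t * q := by group
  have : t = y.1 * (y.1⁻¹ * t) := by group
  rw [this]
  exact Subgroup.mul_mem_sup y.2 hcent

end Cfsg.Agent.S1756
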