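import Cfsg.Statements.S1757

set_option autoImplicit false
open Cfsg

namespace Cfsg.Agent.S1757

theorem result {G : Type*} [Group G] [Finite G] (p : ℕ) [Fact p.Prime] (A B : Subgroup G)
    (hA : IsPGroup p ↥A) (hB : IsPGroup p ↥B)
    (hAti : ∀ g : G, A.map (MulAut.conj g).toMonoidHom = A ∨ A.map (MulAut.conj g).toMonoidHom ⊓ A = ⊥)
    (hBti : ∀ g : G, B.map (MulAut.conj g).toMonoidHom = B ∨ B.map (MulAut.conj g).toMonoidHom ⊓ B = ⊥)
    (hle : Nat.card ↥A ≤ Nat.card ↥B) (hAB : A ⊓ B = ⊥) (hN : B ≤ Subgroup.normalizer (A : Set G)) : ⁅A, B⁆ = ⊥ := by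
  -- B normalizes A: b a b⁻¹ ∈ A
  have hconjA : ∀ b ∈ B, ∀ a ∈ A, b * a * b⁻¹ ∈ A := by
    intro b hb a ha
    have := hN hb
    rw [Subgroup.mem_normalizer_iff] at this
    exact (this a).mp ha
  rw [Subgroup.commutator_eq_bot_iff_le_centralizer]
  intro a ha
  rw [Subgroup.mem_centralizer_iff]
  by_contra hcon
  push Not at hcon
  obtain ⟨b0, hb0, hne0⟩ := hcon
  -- a ≠ 1
  have ha1 : a ≠ 1 := by
    rintro rfl
    simp at hne0
  -- a does not normalize B, else [a, b] ∈ A ⊓ B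
  have key : ∀ c ∈ B, c * a = a * c → c = 1 := by
    intro c hc hca
    by_contra hc1
    -- c ∈ B ⊓ a B a⁻¹
    have hmem : c ∈ B.map (MulAut.conj a).toMonoidHom ⊓ B := by
      refine ⟨⟨c, hc, ?_⟩, hc⟩
      simp [MulAut.conj_apply, ← hca]
    rcases hBti a with h | h
    · -- a normalizes B
      apply hne0
      have h1 : a * b0 * a⁻¹ ∈ B := by
        rw [← h]
        exact ⟨b0, hb0, by simp [MulAut.conj_apply]⟩
      have h2 : a * b0 * a⁻¹ * b0⁻¹ ∈ A ⊓ B := by
        refine ⟨?_, B.mul_mem h1 (B.inv_mem hb0)⟩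
        have : a * b0 * a⁻¹ * b0⁻¹ = a * (b0 * a⁻¹ * b0⁻¹) := by group
        rw [this]
        exact A.mul_mem ha (hconjA b0 hb0 _ (A.inv_mem ha))
      rw [hAB, Subgroup.mem_bot] at h2
      have : a * b0 = b0 * a := by
        have h3 : a * b0 * a⁻¹ * b0⁻¹ * (b0 * a) = 1 * (b0 * a) := by rw [h2]
        rw [one_mul] at h3
        rw [← h3]; group
      exact this.symm
    · rw [h, Subgroup.mem_bot] at hmem
      exact hc1 hmem
  -- injective map B → {x : A // x ≠ 1}
  let f : B → {x : A // x ≠ 1} := fun b =>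
    ⟨⟨b.1 * a * b.1⁻¹, hconjA b.1 b.2 a ha⟩, by
      intro h
      apply ha1
      have h' : b.1 * a * b.1⁻¹ = 1 := congrArg Subtype.val h
      have : a = b.1⁻¹ * (b.1 * a * b.1⁻¹) * b.1 := by group
      rw [this, h']; group⟩
  have hf : Function.Injective f := by
    intro b b' hbb'
    have h' : b.1 * a * b.1⁻¹ = b'.1 * a * b'.1⁻¹ := by
      have := congrArg (fun x : {x : A // x ≠ 1} => (x.1 : G)) hbb'
      exact this
    have hc : (b'.1⁻¹ * b.1) * a = a * (b'.1⁻¹ * b.1) := by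
      have : b'.1⁻¹ * b.1 * a = b'.1⁻¹ * (b.1 * a * b.1⁻¹) * b.1 := by group
      rw [this, h']; group
    have := key (b'.1⁻¹ * b.1) (B.mul_mem (B.inv_mem b'.2) b.2) hc
    apply Subtype.ext
    have h4 : b.1 = b'.1 * (b'.1⁻¹ * b.1) := by group
    rw [h4, this, mul_one]
  have hcard : Nat.card B ≤ Nat.card {x : A // x ≠ 1} := Nat.card_le_card_of_injective f hf
  have hcard2 : Nat.card {x : A // x ≠ 1} < Nat.card A := by
    have : Nat.card {x : A // x ≠ 1} = Nat.card A - 1 := by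
      classical
      have hfin : Fintype A := Fintype.ofFinite A
      rw [Nat.card_eq_fintype_card, Nat.card_eq_fintype_card, Fintype.card_subtype_compl, Fintype.card_subtype_eq]
    rw [this]
    have : 0 < Nat.card A := Nat.card_pos
    omega
  omega

end Cfsg.Agent.S1757
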