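import Mathlib
import Cfsg.Statements.S1774
import Cfsg.Agent.Lib.Helper1_Cores
import Cfsg.Agent.Lib.Helper21_FStar
import Cfsg.Agent.Lib.Helper29_Local
import Cfsg.Agent.Lib.Helper93_LES
import Cfsg.Agent.Lib.Helper93_LESSym
import Cfsg.Agent.Lib.Helper89_SympOrth
import Cfsg.Agent.Lib.Helper89_SympExp4

set_option autoImplicit false
open Cfsg

namespace Cfsg.Agent.S1774

open Cfsg.Agent.Lib.Helper93_LES Cfsg.Agent.Lib.Helper93_LESSym
open Cfsg.Agent.Lib.Helper89_SympOrth Cfsg.Agent.Lib.Helper89_SympExp4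

/-- if `F*(C_G(z))` is a `2`-group it is `O_2(C_G(z))`. -/
theorem map_eq_tc {G : Type*} [Group G] [Finite G] (z : G)
    (hP : IsPGroup 2 ↥(Cfsg.generalizedFittingSubgroup ↥(Subgroup.centralizer ({z} : Set G)))) :
    (Cfsg.generalizedFittingSubgroup ↥(Subgroup.centralizer ({z} : Set G))).map
      (Subgroup.centralizer ({z} : Set G)).subtype = tc z := by
  have : Fact (Nat.Prime 2) := ⟨Nat.prime_two⟩
  have hn : (Cfsg.generalizedFittingSubgroup ↥(Subgroup.centralizer ({z} : Set G))).Normal :=
    Cfsg.Agent.Lib.Helper29_Local.generalizedFittingSubgroup_normal _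
  have h1 : Cfsg.generalizedFittingSubgroup ↥(Subgroup.centralizer ({z} : Set G)) =
      pCore 2 ↥(Subgroup.centralizer ({z} : Set G)) := by
    apply le_antisymm
    · exact le_pCore 2 _ hn hP
    · exact (Cfsg.Agent.Lib.Helper1_Cores.pCore_le_fittingSubgroup 2).trans
        (Cfsg.Agent.Lib.Helper29_Local.fittingSubgroup_le_generalizedFittingSubgroup _)
  unfold tc
  rw [h1]

/-- conjugates of `tc`. -/
theorem map_conj_tc {G : Type*} [Group G] (z g : G) :
    (tc z).map (MulAut.conj g).toMonoidHom = tc (g * z * g⁻¹) := by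
  ext a
  constructor
  · rintro ⟨b, hb, rfl⟩
    have := mem_tc_conj g hb
    simpa [MulAut.conj_apply] using this
  · intro ha
    have h1 : g * (g⁻¹ * a * g) * g⁻¹ = a := by group
    have h2 : g⁻¹ * a * g ∈ tc z := by
      rw [← mem_tc_conj_iff g, h1]
      exact ha
    exact ⟨g⁻¹ * a * g, h2, by simp only [MulEquiv.coe_toMonoidHom, MulAut.conj_apply]; exact h1⟩

/-- the hypotheses give the weak extraspecial package for `tc z`. -/
theorem wes_of_hyp {G : Type*} [Group G] [Finite G] (z : G) (hz : orderOf z = 2)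
    (hQ : Cfsg.IsOfSymplecticType ↥(Cfsg.generalizedFittingSubgroup ↥(Subgroup.centralizer ({z} : Set G))))
    (h4 : ∀ q ∈ (Cfsg.generalizedFittingSubgroup ↥(Subgroup.centralizer ({z} : Set G))).map
      (Subgroup.centralizer ({z} : Set G)).subtype, q ^ 4 = 1) : WES (tc z) z := by
  have hmap := map_eq_tc z hQ.1
  have hz2 : z ^ 2 = 1 := by rw [← hz]; exact pow_orderOf_eq_one z
  have hzz : z * z = 1 := by rw [← pow_two]; exact hz2
  have hz1 : z ≠ 1 := by
    intro h; rw [h, orderOf_one] at hz; omega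
  have hmem : z ∈ tc z := self_mem_tc hz2
  -- `z` as an element of `F`
  have hzF : z ∈ (Cfsg.generalizedFittingSubgroup ↥(Subgroup.centralizer ({z} : Set G))).map
      (Subgroup.centralizer ({z} : Set G)).subtype := by rw [hmap]; exact hmem
  obtain ⟨w, hw, hwz⟩ := hzF
  obtain ⟨z₀, hz₀⟩ : ∃ z₀ : ↥(Cfsg.generalizedFittingSubgroup ↥(Subgroup.centralizer ({z} : Set G))),
      ((z₀ : ↥(Subgroup.centralizer ({z} : Set G))) : G) = z := ⟨⟨w, hw⟩, hwz⟩
  have hz₀1 : z₀ ≠ 1 := by
    intro h
    apply hz1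
    rw [← hz₀, h]
    rfl
  have hz₀2 : z₀ * z₀ = 1 := by
    apply Subtype.ext
    apply Subtype.ext
    show ((z₀ : ↥(Subgroup.centralizer ({z} : Set G))) : G) *
      ((z₀ : ↥(Subgroup.centralizer ({z} : Set G))) : G) = 1
    rw [hz₀, hzz]
  have hz₀c : ∀ a : ↥(Cfsg.generalizedFittingSubgroup ↥(Subgroup.centralizer ({z} : Set G))),
      a * z₀ = z₀ * a := by
    intro a
    apply Subtype.ext
    apply Subtype.ext
    show ((a : ↥(Subgroup.centralizer ({z} : Set G))) : G) *
      ((z₀ : ↥(Subgroup.centralizer ({z} : Set G))) : G) =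
      ((z₀ : ↥(Subgroup.centralizer ({z} : Set G))) : G) *
      ((a : ↥(Subgroup.centralizer ({z} : Set G))) : G)
    rw [hz₀]
    have := Subgroup.mem_centralizer_iff.mp (a : ↥(Subgroup.centralizer ({z} : Set G))).2
    exact (this z (Set.mem_singleton z)).symm
  have h4' : ∀ q : ↥(Cfsg.generalizedFittingSubgroup ↥(Subgroup.centralizer ({z} : Set G))),
      q ^ 4 = 1 := by
    intro q
    apply Subtype.ext
    apply Subtype.ext
    have := h4 ((q : ↥(Subgroup.centralizer ({z} : Set G))) : G)
      ⟨(q : ↥(Subgroup.centralizer ({z} : Set G))), q.2, rfl⟩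
    simpa using this
  have hcommF := comm_of_symplectic hQ.1 hQ.2 h4' hz₀1 hz₀2 hz₀c
  refine ⟨hz1, hzz, hmem, fun a ha => commute_of_mem_tc ha, ?_, ?_⟩
  · intro a ha b hb
    rw [← hmap] at ha hb
    obtain ⟨a', ha', rfl⟩ := ha
    obtain ⟨b', hb', rfl⟩ := hb
    rcases hcommF ⟨a', ha'⟩ ⟨b', hb'⟩ with h | h
    · left
      have := congrArg (fun t : ↥(Cfsg.generalizedFittingSubgroup
        ↥(Subgroup.centralizer ({z} : Set G))) =>
        ((t : ↥(Subgroup.centralizer ({z} : Set G))) : G)) h
      simpa using this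
    · right
      have := congrArg (fun t : ↥(Cfsg.generalizedFittingSubgroup
        ↥(Subgroup.centralizer ({z} : Set G))) =>
        ((t : ↥(Subgroup.centralizer ({z} : Set G))) : G)) h
      rw [hz₀] at this
      simpa using this
  · intro c hc hc2
    have hcz : c * z = z * c := hc z hmem
    have hcC : c ∈ Subgroup.centralizer ({z} : Set G) := by
      rw [Subgroup.mem_centralizer_iff]
      intro y hy
      rw [Set.mem_singleton_iff] at hy
      subst hy
      exact hcz.symm
    have hcF : (⟨c, hcC⟩ : ↥(Subgroup.centralizer ({z} : Set G))) ∈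
        Cfsg.generalizedFittingSubgroup ↥(Subgroup.centralizer ({z} : Set G)) := by
      apply Cfsg.Agent.Lib.Helper21_FStar.centralizer_generalizedFitting_le
      rw [Subgroup.mem_centralizer_iff]
      intro f hf
      apply Subtype.ext
      have : (f : G) ∈ tc z := by
        rw [← hmap]; exact ⟨f, hf, rfl⟩
      exact (hc _ this).symm
    have hcc : ∀ a : ↥(Cfsg.generalizedFittingSubgroup ↥(Subgroup.centralizer ({z} : Set G))),
        a * ⟨⟨c, hcC⟩, hcF⟩ = ⟨⟨c, hcC⟩, hcF⟩ * a := by
      intro a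
      apply Subtype.ext
      apply Subtype.ext
      have : ((a : ↥(Subgroup.centralizer ({z} : Set G))) : G) ∈ tc z := by
        rw [← hmap]; exact ⟨(a : ↥(Subgroup.centralizer ({z} : Set G))), a.2, rfl⟩
      exact (hc _ this).symm
    have hc2' : (⟨⟨c, hcC⟩, hcF⟩ : ↥(Cfsg.generalizedFittingSubgroup
        ↥(Subgroup.centralizer ({z} : Set G)))) * ⟨⟨c, hcC⟩, hcF⟩ = 1 := by
      apply Subtype.ext
      apply Subtype.ext
      exact hc2
    rcases central_involution_unique hQ.2 hz₀1 hz₀2 hz₀c hc2' hcc with h | h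
    · left
      have := congrArg (fun t : ↥(Cfsg.generalizedFittingSubgroup
        ↥(Subgroup.centralizer ({z} : Set G))) =>
        ((t : ↥(Subgroup.centralizer ({z} : Set G))) : G)) h
      simpa using this
    · right
      have := congrArg (fun t : ↥(Cfsg.generalizedFittingSubgroup
        ↥(Subgroup.centralizer ({z} : Set G))) =>
        ((t : ↥(Subgroup.centralizer ({z} : Set G))) : G)) h
      rw [hz₀] at this
      simpa using this

/-- Let G be a finite group and let z be an involution of G such that Q, the generalized Fitting subgroup of the centralizer C of z, is a 2-group of symplectic type (every characteristic abelian subgroup of Q is cyclic); suppose every element of Q has order dividing 4. Let g ∈ G with z' = g z g⁻¹ ≠ z and z' ∈ Q. Then z lies in the conjugate g Q g⁻¹, and the subgroup X generated by Q and g Q g⁻¹ induces every automorphism of the four-group generated by z and z': for any two distinct non-identity elements u, v of that four-group there is x ∈ X with x z x⁻¹ =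 u and x z' x⁻¹ = v. -/
theorem result {G : Type*} [Group G] [Finite G] (z : G) (hz : orderOf z = 2) (hQ : Cfsg.IsOfSymplecticType ↥(Cfsg.generalizedFittingSubgroup ↥(Subgroup.centralizer ({z} : Set G))))
    (h4 : ∀ q ∈ (Cfsg.generalizedFittingSubgroup ↥(Subgroup.centralizer ({z} : Set G))).map (Subgroup.centralizer ({z} : Set G)).subtype, q ^ 4 = 1) (g : G) (hne : g * z * g⁻¹ ≠ z) (hin : g * z * g⁻¹ ∈ (Cfsg.generalizedFittingSubgroup ↥(Subgroup.centralizer ({z} : Set G))).map (Subgroup.centralizer ({z} : Set G)).subtype) :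
    z ∈ ((Cfsg.generalizedFittingSubgroup ↥(Subgroup.centralizer ({z} : Set G))).map (Subgroup.centralizer ({z} : Set G)).subtype).map (MulAut.conj g).toMonoidHom ∧
      ∀ u ∈ Subgroup.closure ({z, g * z * g⁻¹} : Set G), ∀ v ∈ Subgroup.closure ({z, g * z * g⁻¹} : Set G),
        u ≠ 1 → v ≠ 1 → u ≠ v →
          ∃ x ∈ (Cfsg.generalizedFittingSubgroup ↥(Subgroup.centralizer ({z} : Set G))).map (Subgroup.centralizer ({z} : Set G)).subtype ⊔ ((Cfsg.generalizedFittingSubgroup ↥(Subgroup.centralizer ({z} : Set G))).map (Subgroup.centralizer ({z} : Set G)).subtype).map (MulAut.conj g).toMonoidHom, x * z * x⁻¹ = u ∧ x * (g * z * g⁻¹) * x⁻¹ = v := by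
  have hW := wes_of_hyp z hz hQ h4
  have hmap := map_eq_tc z hQ.1
  rw [hmap] at hin ⊢
  rw [map_conj_tc]
  exact ⟨sym_orth hW g hin, sym3_action hW g hin hne⟩

end Cfsg.Agent.S1774
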