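import Mathlib
import Cfsg.Statements.S1780

set_option autoImplicit false
open Cfsg

namespace Cfsg.Agent.S1780

section
variable {V : Type*} [AddCommGroup V]

/-- Key step: if `τ = 1 + d` satisfies `C(τ²) = C(τ)`, `d (d a) = 0` and `2 (d a) = 0` then `d a = 0`. -/
theorem key_step (τ : AddMonoid.End V) (hC : ∀ a : V, τ (τ a) = a → τ a = a)
    (a : V) (h1 : (τ - 1) ((τ - 1) a) = 0) (h2 : (τ - 1) a + (τ - 1) a = 0) : (τ - 1) a = 0 := by
  have e1 : ∀ b : V, (τ - 1) b = τ b - b := fun b => rfl
  have hfix : τ (τ a) = a := by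
    rw [e1, e1, map_sub] at h1
    rw [e1] at h2
    have h3 : τ (τ a) - a = (τ (τ a) - τ a - (τ a - a)) + ((τ a - a) + (τ a - a)) := by abel
    rw [h1, h2, add_zero] at h3
    exact sub_eq_zero.mp h3
  rw [e1, hC a hfix, sub_self]

theorem pow_step (τ : AddMonoid.End V) (hC : ∀ a : V, τ (τ a) = a → τ a = a) :
    ∀ j : ℕ, ∀ a : V, a + a = 0 → ((τ - 1) ^ (j + 1)) a = 0 → (τ - 1) a = 0 := by
  intro j
  induction j with
  | zero => intro a _ h; simpa using h
  | succ j ih =>
    intro a ha h
    have h' : ((τ - 1) ^ (j + 1)) ((τ - 1) a) = 0 := by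
      rw [pow_succ] at h
      exact h
    have hda : (τ - 1) a + (τ - 1) a = 0 := by
      rw [← map_add, ha, map_zero]
    have := ih _ hda h'
    exact key_step τ hC a this hda

theorem nilp (τ : AddMonoid.End V) (k : ℕ) (hk : 1 ≤ k) (hτ : τ ^ (2 ^ k) = 1) :
    ∃ s : AddMonoid.End V, (τ - 1) ^ (2 ^ k) = 2 * s := by
  have hcomm : Commute τ (-1 : AddMonoid.End V) := (Commute.one_right τ).neg_right
  obtain ⟨r, hr⟩ := hcomm.exists_add_pow_prime_pow_eq Nat.prime_two k
  have heven : Even (2 ^ k) := (Nat.even_pow.mpr ⟨even_two, by omega⟩)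
  rw [← sub_eq_add_neg, hτ, heven.neg_one_pow] at hr
  refine ⟨1 + τ * (-1) * r, ?_⟩
  rw [hr]
  push_cast
  noncomm_ring

theorem main (τ : AddMonoid.End V) (hC : ∀ a : V, τ (τ a) = a → τ a = a)
    (k : ℕ) (hk : 1 ≤ k) (hτ : τ ^ (2 ^ k) = 1) :
    ∀ m : ℕ, ∀ a : V, (2 ^ m) • a = 0 → (τ - 1) a = 0 := by
  obtain ⟨s, hs⟩ := nilp τ k hk hτ
  have hkill : ∀ a : V, a + a = 0 → (τ - 1) a = 0 := by
    intro a ha
    have hpos : 2 ^ k = (2 ^ k - 1) + 1 := by
      have : 0 < 2 ^ k := by positivity
      omega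
    apply pow_step τ hC (2 ^ k - 1) a ha
    rw [← hpos, hs]
    have : ((2 : AddMonoid.End V) * s) a = s a + s a := by
      have h2 : (2 : AddMonoid.End V) = 1 + 1 := by norm_num
      rw [h2, add_mul, one_mul]
      rfl
    rw [this, ← map_add, ha, map_zero]
  intro m
  induction m with
  | zero => intro a ha; simp at ha; rw [ha, map_zero]
  | succ m ih =>
    intro a ha
    have h2a : (2 ^ m) • (a + a) = 0 := by
      rw [← two_nsmul, smul_smul, ← pow_succ]; exact ha
    have hda : (τ - 1) a + (τ - 1) a = 0 := by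
      rw [← map_add]; exact ih _ h2a
    exact key_step τ hC a (hkill _ hda) hda

end

/-- Let A be a finite abelian 2-group and t an automorphism of A whose order is a power of 2. If every element of A fixed by t² is fixed by t, then t fixes every element of A. -/
theorem result {A : Type*} [CommGroup A] [Finite A]
    (hA : IsPGroup 2 A) (t : MulAut A) (ht : ∃ k : ℕ, orderOf t = 2 ^ k) (hC : ∀ a : A, t (t a) = a → t a = a) :
    ∀ a : A, t a = a := by
  obtain ⟨k, hk⟩ := ht
  rcases Nat.eq_zero_or_pos k with rfl | hkpos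
  · simp only [pow_zero, orderOf_eq_one_iff] at hk
    intro a; rw [hk]; rfl
  · let τ : AddMonoid.End (Additive A) := (MulEquiv.toAdditive t).toAddMonoidHom
    have hτapp : ∀ a : Additive A, τ a = Additive.ofMul (t a.toMul) := fun a => rfl
    have hpow : ∀ n : ℕ, ∀ a : Additive A, (τ ^ n) a = Additive.ofMul ((t ^ n) a.toMul) := by
      intro n
      induction n with
      | zero => intro a; simp
      | succ n ih =>
        intro a
        rw [pow_succ, pow_succ]
        show (τ ^ n) (τ a) = _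
        rw [ih, hτapp]
        rfl
    have hτ : τ ^ (2 ^ k) = 1 := by
      ext a
      rw [hpow, ← hk, pow_orderOf_eq_one]
      rfl
    have hC' : ∀ a : Additive A, τ (τ a) = a → τ a = a := by
      intro a h
      exact congrArg Additive.ofMul (hC a.toMul (congrArg Additive.toMul h))
    intro a
    obtain ⟨m, hm⟩ := hA a
    have hm' : (2 ^ m) • (Additive.ofMul a) = 0 := by
      rw [← ofMul_pow, hm]; rfl
    have := main τ hC' k hkpos hτ m (Additive.ofMul a) hm'
    have e1 : (τ - 1) (Additive.ofMul a) = τ (Additive.ofMul a) - Additive.ofMul a := rfl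
    rw [e1, sub_eq_zero] at this
    exact congrArg Additive.toMul this

end Cfsg.Agent.S1780
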