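import Mathlib
import Cfsg.Statements.S1781
import Cfsg.Agent.S1780

set_option autoImplicit false
open Cfsg

namespace Cfsg.Agent.S1781

open scoped IsMulCommutative in
/-- Key lemma: `B` an abelian 2-group, `a ∈ A ∩ N(B)` a 2-element with `a² ≠ 1`, `A ∩ B = 1`,
centralizers of nonidentity elements of `A` normalize `A`. Then `B` centralizes `a`. -/
theorem keyL {G : Type*} [Group G] [Finite G] (A B : Subgroup G)
    (hB2 : IsPGroup 2 ↥B) (hBa : IsMulCommutative ↥B)
    (hAB : A ⊓ B = ⊥)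
    (hTI : ∀ x ∈ A, x ≠ 1 → Subgroup.centralizer ({x} : Set G) ≤ Subgroup.normalizer (A : Set G))
    (a : G) (haA : a ∈ A) (haN : a ∈ Subgroup.normalizer (B : Set G)) (ha2 : a ^ 2 ≠ 1)
    (hord : ∃ k : ℕ, orderOf a = 2 ^ k) :
    ∀ y ∈ B, a * y * a⁻¹ = y := by
  let t : MulAut ↥B := B.normalizerMonoidHom ⟨a, haN⟩
  have ht : ∃ k : ℕ, orderOf t = 2 ^ k := by
    obtain ⟨k, hk⟩ := hord
    have h1 : orderOf t ∣ orderOf (⟨a, haN⟩ : ↥(Subgroup.normalizer (B : Set G))) :=
      orderOf_map_dvd _ _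
    have h2 : orderOf (⟨a, haN⟩ : ↥(Subgroup.normalizer (B : Set G))) = orderOf a := by
      rw [← Subgroup.orderOf_coe]
    rw [h2, hk] at h1
    obtain ⟨j, _, hj⟩ := (Nat.dvd_prime_pow Nat.prime_two).mp h1
    exact ⟨j, hj⟩
  have htapp : ∀ y : ↥B, ((t y : ↥B) : G) = a * y * a⁻¹ := fun y => rfl
  have hC : ∀ y : ↥B, t (t y) = y → t y = y := by
    intro y hy
    have hy' : a * (a * y * a⁻¹) * a⁻¹ = y := by
      have := congrArg (fun z : ↥B => (z : G)) hy
      simpa [htapp] using this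
    -- y centralizes a ^ 2
    have hcent : (y : G) ∈ Subgroup.centralizer ({a ^ 2} : Set G) := by
      rw [Subgroup.mem_centralizer_singleton_iff]
      have : a ^ 2 * y * (a ^ 2)⁻¹ = y := by
        rw [pow_two, mul_inv_rev]
        simpa [mul_assoc] using hy'
      calc (y : G) * a ^ 2 = (a ^ 2 * y * (a ^ 2)⁻¹) * a ^ 2 := by rw [this]
        _ = a ^ 2 * y := by group
    have hyN : (y : G) ∈ Subgroup.normalizer (A : Set G) :=
      hTI (a ^ 2) (A.pow_mem haA 2) ha2 hcent
    -- the commutator lies in A ⊓ B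
    have h1 : (y : G) * a * (y : G)⁻¹ * a⁻¹ ∈ A := by
      have : (y : G) * a * (y : G)⁻¹ ∈ A := (Subgroup.mem_normalizer_iff.mp hyN a).mp haA
      exact A.mul_mem this (A.inv_mem haA)
    have h2 : (y : G) * a * (y : G)⁻¹ * a⁻¹ ∈ B := by
      have : a * (y : G)⁻¹ * a⁻¹ ∈ B :=
        (Subgroup.mem_normalizer_iff.mp haN _).mp (B.inv_mem y.2)
      have := B.mul_mem y.2 this
      simpa [mul_assoc] using this
    have h3 : (y : G) * a * (y : G)⁻¹ * a⁻¹ ∈ A ⊓ B := ⟨h1, h2⟩
    rw [hAB, Subgroup.mem_bot] at h3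
    apply Subtype.ext
    rw [htapp]
    have : (y : G) * a = a * y := by
      have := congrArg (fun z => z * a * (y : G)) h3
      simpa [mul_assoc] using this
    rw [← this]; group
  have := Cfsg.Agent.S1780.result hB2 t ht hC
  intro y hy
  have := congrArg (fun z : ↥B => (z : G)) (this ⟨y, hy⟩)
  simpa [htapp] using this

/-- Let A be an abelian 2-subgroup of the finite group G such that every conjugate of A equals A or meets A trivially, and let g ∈ G with g A g⁻¹ ≠ A. Then either the subgroup of those elements of A that normalize g A g⁻¹ is an elementary abelian 2-group, or A and g A g⁻¹ commute elementwise. -/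
theorem result {G : Type*} [Group G] [Finite G] (A : Subgroup G)
    (hA2 : IsPGroup 2 ↥A) (hAa : IsMulCommutative ↥A)
    (hti : ∀ h : G, A.map (MulAut.conj h).toMonoidHom = A ∨ A.map (MulAut.conj h).toMonoidHom ⊓ A = ⊥)
    (g : G) (hg : A.map (MulAut.conj g).toMonoidHom ≠ A) :
    Cfsg.IsElementaryAbelian 2 (A ⊓ Subgroup.normalizer ((A.map (MulAut.conj g).toMonoidHom : Subgroup G) : Set G)) ∨
      ⁅A, A.map (MulAut.conj g).toMonoidHom⁆ = ⊥ := by
  classical
  set B : Subgroup G := A.map (MulAut.conj g).toMonoidHom with hB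
  have hBA : B ⊓ A = ⊥ := (hti g).resolve_left hg
  have hAB : A ⊓ B = ⊥ := by rw [inf_comm]; exact hBA
  -- centralizers of nonidentity elements of A normalize A
  have hTIA : ∀ x ∈ A, x ≠ 1 → Subgroup.centralizer ({x} : Set G) ≤ Subgroup.normalizer (A : Set G) := by
    intro x hx hx1 h hh
    rw [Subgroup.mem_centralizer_singleton_iff] at hh
    rcases hti h with h1 | h1
    · exact Subgroup.mem_normalizer_iff_map_conj_eq.mpr h1
    · exfalso
      have : x ∈ A.map (MulAut.conj h).toMonoidHom ⊓ A := by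
        refine ⟨⟨x, hx, ?_⟩, hx⟩
        show h * x * h⁻¹ = x
        rw [hh]; group
      rw [h1, Subgroup.mem_bot] at this
      exact hx1 this
  have hmemB : ∀ y : G, y ∈ B ↔ ∃ x ∈ A, g * x * g⁻¹ = y := by
    intro y
    rw [hB, Subgroup.mem_map]
    rfl
  have hTIB : ∀ y ∈ B, y ≠ 1 → Subgroup.centralizer ({y} : Set G) ≤ Subgroup.normalizer (B : Set G) := by
    intro y hy hy1 h hh
    rw [Subgroup.mem_centralizer_singleton_iff] at hh
    obtain ⟨x, hx, rfl⟩ := (hmemB y).mp hy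
    have hx1 : x ≠ 1 := by
      rintro rfl
      apply hy1; group
    have h1 : g⁻¹ * h * g ∈ Subgroup.centralizer ({x} : Set G) := by
      rw [Subgroup.mem_centralizer_singleton_iff]
      have := congrArg (fun z => g⁻¹ * z * g) hh
      simpa [mul_assoc] using this
    have h2 := hTIA x hx hx1 h1
    rw [Subgroup.mem_normalizer_iff] at h2 ⊢
    intro z
    have h3 := h2 (g⁻¹ * z * g)
    have e1 : z ∈ B ↔ g⁻¹ * z * g ∈ A := by
      rw [hmemB]
      constructor
      · rintro ⟨w, hw, rfl⟩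
        simpa [mul_assoc] using hw
      · intro hw
        exact ⟨_, hw, by group⟩
    have e2 : h * z * h⁻¹ ∈ B ↔ g⁻¹ * h * g * (g⁻¹ * z * g) * (g⁻¹ * h * g)⁻¹ ∈ A := by
      rw [hmemB]
      constructor
      · rintro ⟨w, hw, hw'⟩
        have : g⁻¹ * h * g * (g⁻¹ * z * g) * (g⁻¹ * h * g)⁻¹ = w := by
          have := congrArg (fun u => g⁻¹ * u * g) hw'
          simp only [mul_assoc, inv_mul_cancel_left, inv_mul_cancel, mul_one] at this
          rw [this]; group
        rw [this]; exact hw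
      · intro hw
        exact ⟨_, hw, by group⟩
    rw [e1, e2]
    exact h3
  have hB2 : IsPGroup 2 ↥B := hA2.map _
  have hBa : IsMulCommutative ↥B := by
    refine ⟨⟨?_⟩⟩
    rintro ⟨y1, hy1⟩ ⟨y2, hy2⟩
    obtain ⟨x1, hx1, rfl⟩ := (hmemB y1).mp hy1
    obtain ⟨x2, hx2, rfl⟩ := (hmemB y2).mp hy2
    apply Subtype.ext
    have hc := hAa.is_comm.comm ⟨x1, hx1⟩ ⟨x2, hx2⟩
    have hc' : x1 * x2 = x2 * x1 := congrArg (fun z : ↥A => (z : G)) hc
    show g * x1 * g⁻¹ * (g * x2 * g⁻¹) = g * x2 * g⁻¹ * (g * x1 * g⁻¹)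
    calc g * x1 * g⁻¹ * (g * x2 * g⁻¹) = g * (x1 * x2) * g⁻¹ := by group
      _ = g * (x2 * x1) * g⁻¹ := by rw [hc']
      _ = g * x2 * g⁻¹ * (g * x1 * g⁻¹) := by group
  by_cases hE : ∀ a ∈ A ⊓ Subgroup.normalizer (B : Set G), a ^ 2 = 1
  · left
    refine ⟨⟨⟨?_⟩⟩, hE⟩
    rintro ⟨x1, hx1⟩ ⟨x2, hx2⟩
    apply Subtype.ext
    have hc := hAa.is_comm.comm ⟨x1, hx1.1⟩ ⟨x2, hx2.1⟩
    exact congrArg (fun z : ↥A => (z : G)) hc
  · right
    push Not at hE
    obtain ⟨a, ⟨haA, haN⟩, ha2⟩ := hE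
    have hordA : ∀ x ∈ A, ∃ k : ℕ, orderOf x = 2 ^ k := by
      intro x hx
      haveI : Fact (Nat.Prime 2) := ⟨Nat.prime_two⟩
      obtain ⟨k, hk⟩ := (IsPGroup.iff_orderOf.mp hA2) ⟨x, hx⟩
      exact ⟨k, by rw [← hk, ← Subgroup.orderOf_coe]⟩
    -- B centralizes a, hence normalizes A
    have hBcent := keyL A B hB2 hBa hAB hTIA a haA haN ha2 (hordA a haA)
    have ha1 : a ≠ 1 := by
      rintro rfl
      exact ha2 (one_pow 2)
    have hBN : B ≤ Subgroup.normalizer (A : Set G) := by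
      intro y hy
      apply hTIA a haA ha1
      rw [Subgroup.mem_centralizer_singleton_iff]
      have := hBcent y hy
      calc y * a = (a * y * a⁻¹) * a := by rw [this]
        _ = a * y := by group
    -- now swap the roles: b = g a g⁻¹
    have hbB : g * a * g⁻¹ ∈ B := (hmemB _).mpr ⟨a, haA, rfl⟩
    have hb2 : (g * a * g⁻¹) ^ 2 ≠ 1 := by
      intro h
      apply ha2
      have : (g * a * g⁻¹) ^ 2 = g * a ^ 2 * g⁻¹ := by rw [pow_two, pow_two]; group
      rw [this] at h
      have := congrArg (fun z => g⁻¹ * z * g) h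
      simpa [mul_assoc] using this
    have hbord : ∃ k : ℕ, orderOf (g * a * g⁻¹) = 2 ^ k := by
      obtain ⟨k, hk⟩ := hordA a haA
      refine ⟨k, ?_⟩
      rw [← hk]
      have : g * a * g⁻¹ = MulAut.conj g a := rfl
      rw [this, MulEquiv.orderOf_eq]
    have hAcent := keyL B A hA2 hAa hBA hTIB (g * a * g⁻¹) hbB (hBN hbB) hb2 hbord
    have hb1 : g * a * g⁻¹ ≠ 1 := by
      intro h
      apply hb2; rw [h]; exact one_pow 2
    have hAN : A ≤ Subgroup.normalizer (B : Set G) := by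
      intro x hx
      apply hTIB _ hbB hb1
      rw [Subgroup.mem_centralizer_singleton_iff]
      have := hAcent x hx
      calc x * (g * a * g⁻¹) = ((g * a * g⁻¹) * x * (g * a * g⁻¹)⁻¹) * (g * a * g⁻¹) := by rw [this]
        _ = (g * a * g⁻¹) * x := by group
    rw [eq_bot_iff, ← hAB]
    rw [Subgroup.commutator_le]
    intro x hx y hy
    refine ⟨?_, ?_⟩
    · have : y * x⁻¹ * y⁻¹ ∈ A := (Subgroup.mem_normalizer_iff.mp (hBN hy) _).mp (A.inv_mem hx)
      have := A.mul_mem hx this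
      rw [commutatorElement_def]
      simpa [mul_assoc] using this
    · have : x * y * x⁻¹ ∈ B := (Subgroup.mem_normalizer_iff.mp (hAN hx) _).mp hy
      have := B.mul_mem this (B.inv_mem hy)
      rw [commutatorElement_def]
      exact this

end Cfsg.Agent.S1781
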