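import Mathlib
import Cfsg.Statements.S1782
import Cfsg.Agent.Lib.Helper53_Conj

set_option autoImplicit false
open Cfsg

namespace Cfsg.Agent.S1782

open Cfsg.Agent.Lib.Helper53_Conj

/-- A finite group all of whose elements square to one has trivial Frattini subgroup. -/
theorem frattini_eq_bot_of_sq {R : Type*} [Group R] [Finite R] (h : ∀ r : R, r ^ 2 = 1) :
    frattini R = ⊥ := by
  have hinv : ∀ a : R, a⁻¹ = a := fun a => by
    have := h a
    rw [pow_two] at this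
    exact inv_eq_of_mul_eq_one_left this
  have hcomm : ∀ a b : R, a * b = b * a := by
    intro a b
    have h1 := hinv (a * b)
    rw [mul_inv_rev, hinv a, hinv b] at h1
    exact h1.symm
  letI : CommGroup R := { (inferInstance : Group R) with mul_comm := hcomm }
  rw [eq_bot_iff]
  intro x hx
  rw [Subgroup.mem_bot]
  by_contra hx1
  obtain ⟨K, -, hK⟩ := Finite.exists_le_maximal (p := fun K : Subgroup R => x ∉ K) (a := ⊥)
    (by simpa [Subgroup.mem_bot] using hx1)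
  have hcoatom : IsCoatom K := by
    refine ⟨fun h => hK.prop (h ▸ Subgroup.mem_top x), fun L hL => ?_⟩
    have hxL : x ∈ L := by
      by_contra hxL
      exact (not_le_of_gt hL) (hK.le_of_ge hxL hL.le)
    rw [eq_top_iff]
    intro y _
    by_cases hy : y ∈ K
    · exact hL.le hy
    · have hlt : K < K ⊔ Subgroup.zpowers y := by
        refine lt_of_le_of_ne le_sup_left ?_
        intro heq
        apply hy
        rw [heq]
        exact (le_sup_right : Subgroup.zpowers y ≤ _) (Subgroup.mem_zpowers y)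
      have hx' : x ∈ K ⊔ Subgroup.zpowers y := by
        by_contra hh
        exact (not_le_of_gt hlt) (hK.le_of_ge hh hlt.le)
      obtain ⟨k, hk, z, hz, rfl⟩ := Subgroup.mem_sup.mp hx'
      obtain ⟨n, rfl⟩ := Subgroup.mem_zpowers_iff.mp hz
      rcases Int.even_or_odd n with ⟨m, rfl⟩ | ⟨m, rfl⟩
      · exfalso
        apply hK.prop
        have : y ^ (m + m) = 1 := by
          rw [← two_mul, zpow_mul, zpow_ofNat, h, one_zpow]
        rw [this, mul_one]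
        exact hk
      · have hy1 : y ^ (2 * m + 1) = y := by
          rw [zpow_add, zpow_mul, zpow_ofNat, h, one_zpow, one_mul, zpow_one]
        rw [hy1] at hxL
        have := L.mul_mem (L.inv_mem (hL.le hk)) hxL
        simpa using this
  exact hK.prop (frattini_le_coatom hcoatom hx)

/-- A subgroup with nontrivial Frattini subgroup has an element whose square is not one. -/
theorem exists_sq_ne_one {S : Type*} [Group S] [Finite S] (R : Subgroup S) (h : frattini ↥R ≠ ⊥) :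
    ∃ r ∈ R, r ^ 2 ≠ 1 := by
  by_contra hno
  push Not at hno
  apply h
  apply frattini_eq_bot_of_sq
  intro r
  apply Subtype.ext
  simpa using hno r r.2

section
variable {S : Type*} [Group S]

/-- elementwise commutation from a trivial commutator subgroup -/
theorem comm_of_comm_eq_bot {A B : Subgroup S} (h : ⁅A, B⁆ = ⊥) {x y : S} (hx : x ∈ A) (hy : y ∈ B) :
    x * y = y * x := by
  rw [Subgroup.commutator_eq_bot_iff_le_centralizer] at h
  exact ((Subgroup.mem_centralizer_iff.mp (h hx)) y hy).symm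

/-- (L1) If `B` normalizes `A`, they have the same order and `B` is TI under conjugation by `A`,
then `[A,B] = 1`. -/
theorem L1 [Finite S] (A B : Subgroup S) (hcard : Nat.card A = Nat.card B)
    (hAB : A ⊓ B = ⊥) (hti : ∀ a ∈ A, cj a B = B ∨ cj a B ⊓ B = ⊥)
    (hBN : B ≤ Subgroup.normalizer (A : Set S)) : ⁅A, B⁆ = ⊥ := by
  classical
  -- first, A normalizes B
  have hAN : A ≤ Subgroup.normalizer (B : Set S) := by
    intro a ha
    rw [← cj_eq_self_iff]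
    rcases hti a ha with h | h
    · exact h
    · by_contra hne
      -- f : B → A, b ↦ b⁻¹ a b a⁻¹ is injective hence surjective
      let f : ↥B → ↥A := fun b => ⟨(b : S)⁻¹ * a * b * a⁻¹, by
        have h1 : (b : S)⁻¹ * a * ((b : S)⁻¹)⁻¹ ∈ A :=
          (Subgroup.mem_normalizer_iff.mp (hBN (B.inv_mem b.2)) a).mp ha
        rw [inv_inv] at h1
        exact A.mul_mem h1 (A.inv_mem ha)⟩
      have hf : Function.Injective f := by
        intro b b' hbb'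
        have h1 : (b : S)⁻¹ * a * b * a⁻¹ = (b' : S)⁻¹ * a * b' * a⁻¹ := congrArg Subtype.val hbb'
        have h2 : (b : S)⁻¹ * a * b = (b' : S)⁻¹ * a * b' := mul_right_cancel h1
        -- b' b⁻¹ commutes with a
        have h3 : a * ((b' : S) * (b : S)⁻¹) * a⁻¹ = (b' : S) * (b : S)⁻¹ := by
          have : a * (b : S) = (b : S) * ((b' : S)⁻¹ * a * b') := by
            rw [← h2]; group
          calc a * ((b' : S) * (b : S)⁻¹) * a⁻¹
              = (b' : S) * ((b' : S)⁻¹ * a * b') * ((b : S)⁻¹ * a⁻¹) := by group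
            _ = (b' : S) * ((b : S)⁻¹ * a * b) * ((b : S)⁻¹ * a⁻¹) := by rw [h2]
            _ = (b' : S) * (b : S)⁻¹ := by group
        have h4 : (b' : S) * (b : S)⁻¹ ∈ cj a B ⊓ B := by
          refine ⟨?_, B.mul_mem b'.2 (B.inv_mem b.2)⟩
          rw [← h3]
          exact conj_mem_cj (B.mul_mem b'.2 (B.inv_mem b.2))
        rw [h, Subgroup.mem_bot] at h4
        apply Subtype.ext
        exact (mul_inv_eq_one.mp h4).symm
      have hsurj : Function.Surjective f := by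
        haveI : Finite ↥B := inferInstance
        haveI : Finite ↥A := inferInstance
        have hbij : Function.Bijective f := by
          rw [Nat.bijective_iff_injective_and_card]
          exact ⟨hf, hcard.symm⟩
        exact hbij.2
      obtain ⟨b₀, hb₀⟩ := hsurj ⟨a⁻¹, A.inv_mem ha⟩
      have h1 : (b₀ : S)⁻¹ * a * b₀ * a⁻¹ = a⁻¹ := congrArg Subtype.val hb₀
      have h2 : a = 1 := by
        have : (b₀ : S)⁻¹ * a * b₀ = 1 := by
          have := congrArg (fun z => z * a) h1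
          simpa [mul_assoc] using this
        have := congrArg (fun z => (b₀ : S) * z * (b₀ : S)⁻¹) this
        simpa [mul_assoc] using this
      apply hne
      rw [h2, cj_one]
  rw [eq_bot_iff, ← hAB, Subgroup.commutator_le]
  intro x hx y hy
  refine ⟨?_, ?_⟩
  · have : y * x⁻¹ * y⁻¹ ∈ A := (Subgroup.mem_normalizer_iff.mp (hBN hy) _).mp (A.inv_mem hx)
    have := A.mul_mem hx this
    rw [commutatorElement_def]
    simpa [mul_assoc] using this
  · have : x * y * x⁻¹ ∈ B := (Subgroup.mem_normalizer_iff.mp (hAN hx) _).mp hy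
    have := B.mul_mem this (B.inv_mem hy)
    rw [commutatorElement_def]
    exact this

/-- (L3) In a 2-group, an element outside a subgroup `P` has a power outside `P` whose square is in `P`. -/
theorem L3 (hS : IsPGroup 2 S) (B P : Subgroup S) (h : ¬ B ≤ P) :
    ∃ b ∈ B, b ∉ P ∧ b ^ 2 ∈ P := by
  classical
  obtain ⟨b₀, hb₀B, hb₀P⟩ := SetLike.not_le_iff_exists.mp h
  have hex : ∃ n : ℕ, b₀ ^ (2 ^ n) ∈ P := by
    obtain ⟨k, hk⟩ := hS b₀
    exact ⟨k, by rw [hk]; exact P.one_mem⟩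
  have hn0 : Nat.find hex ≠ 0 := by
    intro h0
    have := Nat.find_spec hex
    rw [h0, pow_zero, pow_one] at this
    exact hb₀P this
  obtain ⟨m, hm⟩ := Nat.exists_eq_succ_of_ne_zero hn0
  refine ⟨b₀ ^ (2 ^ m), B.pow_mem hb₀B _, ?_, ?_⟩
  · exact Nat.find_min hex (by omega)
  · have := Nat.find_spec hex
    rw [hm, pow_succ, pow_mul] at this
    exact this

/-- (L4) The key computation. -/
theorem L4 (A B : Subgroup S) (a b : S) (ha : a ∈ A) (hb : b ∈ B)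
    (hA : A ⊓ cj b A = ⊥) (hAc : ⁅A, cj b A⁆ = ⊥) (hb2 : b ^ 2 ∈ Subgroup.normalizer (A : Set S))
    (hBc : ⁅B, cj a B⁆ = ⊥) : a ^ 2 = 1 := by
  -- c = (b a b⁻¹) a⁻¹ = b (a b⁻¹ a⁻¹)
  have hA' : ∀ x ∈ A, b * x * b⁻¹ ∈ cj b A := fun x hx => conj_mem_cj hx
  have hB' : ∀ y ∈ B, a * y * a⁻¹ ∈ cj a B := fun y hy => conj_mem_cj hy
  have e1 : ((b * a * b⁻¹) * a⁻¹) ^ 2 = (b * a ^ 2 * b⁻¹) * (a ^ 2)⁻¹ := by
    have hc : a⁻¹ * (b * a * b⁻¹) = (b * a * b⁻¹) * a⁻¹ :=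
      comm_of_comm_eq_bot hAc (A.inv_mem ha) (hA' a ha)
    calc ((b * a * b⁻¹) * a⁻¹) ^ 2 = (b * a * b⁻¹) * (a⁻¹ * (b * a * b⁻¹)) * a⁻¹ := by
          rw [pow_two]; group
      _ = (b * a * b⁻¹) * ((b * a * b⁻¹) * a⁻¹) * a⁻¹ := by rw [hc]
      _ = (b * a ^ 2 * b⁻¹) * (a ^ 2)⁻¹ := by rw [pow_two]; group
  have e2 : ((b * a * b⁻¹) * a⁻¹) ^ 2 = (b ^ 2 * a * (b ^ 2)⁻¹) * a⁻¹ := by
    have hc : (a * b⁻¹ * a⁻¹) * b = b * (a * b⁻¹ * a⁻¹) :=
      (comm_of_comm_eq_bot hBc hb (hB' _ (B.inv_mem hb))).symm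
    calc ((b * a * b⁻¹) * a⁻¹) ^ 2 = b * ((a * b⁻¹ * a⁻¹) * b) * (a * b⁻¹ * a⁻¹) := by
          rw [pow_two]; group
      _ = b * (b * (a * b⁻¹ * a⁻¹)) * (a * b⁻¹ * a⁻¹) := by rw [hc]
      _ = (b ^ 2 * a * (b ^ 2)⁻¹) * a⁻¹ := by rw [pow_two]; group
  have h1 : (b * a ^ 2 * b⁻¹) * (a ^ 2)⁻¹ ∈ A := by
    rw [← e1, e2]
    exact A.mul_mem ((Subgroup.mem_normalizer_iff.mp hb2 a).mp ha) (A.inv_mem ha)
  have h2 : b * a ^ 2 * b⁻¹ ∈ A := by
    have := A.mul_mem h1 (A.pow_mem ha 2)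
    simpa [mul_assoc] using this
  have h3 : b * a ^ 2 * b⁻¹ ∈ A ⊓ cj b A := ⟨h2, hA' _ (A.pow_mem ha 2)⟩
  rw [hA, Subgroup.mem_bot] at h3
  have := congrArg (fun z => b⁻¹ * z * b) h3
  simpa [mul_assoc] using this

/-- (L5) The doubling step. -/
theorem L5 (A B : Subgroup S) (a b : S) (ha : a ∈ A) (hb : b ∈ B)
    (hi : ∀ x ∈ A, x ^ 2 ≠ 1 → x ∈ Subgroup.normalizer (B : Set S))
    (hi' : ∀ y ∈ B, y ^ 2 ≠ 1 → y ∈ Subgroup.normalizer (A : Set S))
    (haN : a ∉ Subgroup.normalizer (B : Set S))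
    (hA : A ⊓ cj b A = ⊥) (hAc : ⁅A, cj b A⁆ = ⊥)
    (hB : B ⊓ cj a B = ⊥) (hBc : ⁅B, cj a B⁆ = ⊥)
    (a₁ : S) (ha₁ : a₁ ∈ A) (hsq : a₁ ^ 2 ≠ 1) : (a₁ ^ 2) ^ 2 ≠ 1 := by
  have hA' : ∀ x ∈ A, b * x * b⁻¹ ∈ cj b A := fun x hx => conj_mem_cj hx
  have hB' : ∀ y ∈ B, a * y * a⁻¹ ∈ cj a B := fun y hy => conj_mem_cj hy
  have ha₁N := hi a₁ ha₁ hsq
  -- a has order ≤ 2 and inverts a₁
  have ha2 : a ^ 2 = 1 := by
    by_contra h
    exact haN (hi a ha h)
  have haa₁ : (a * a₁) ^ 2 = 1 := by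
    by_contra h
    have h1 := hi (a * a₁) (A.mul_mem ha ha₁) h
    apply haN
    have := (Subgroup.normalizer (B : Set S)).mul_mem h1 ((Subgroup.normalizer (B : Set S)).inv_mem ha₁N)
    simpa [mul_assoc] using this
  have hinvert : a * a₁⁻¹ * a⁻¹ = a₁ := by
    have h1 : a * a₁ * (a * a₁) = 1 := by rw [← pow_two]; exact haa₁
    have h2 : a * a = 1 := by rw [← pow_two]; exact ha2
    have h3 : a⁻¹ = a := inv_eq_of_mul_eq_one_left h2
    rw [h3]
    have h4 : a₁ * a * a₁ = a⁻¹ := by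
      have := congrArg (fun z => a⁻¹ * z) h1
      simpa [mul_assoc] using this
    rw [h3] at h4
    calc a * a₁⁻¹ * a = a * a₁⁻¹ * (a₁ * a * a₁) := by rw [h4]
      _ = (a * a) * a₁ := by group
      _ = a₁ := by rw [h2, one_mul]
  -- d = (b a₁ b⁻¹) a₁⁻¹ ∈ B
  set d : S := (b * a₁ * b⁻¹) * a₁⁻¹ with hd
  have hdB : d ∈ B := by
    have h1 : a₁ * b⁻¹ * a₁⁻¹ ∈ B := (Subgroup.mem_normalizer_iff.mp ha₁N _).mp (B.inv_mem hb)
    have := B.mul_mem hb h1
    rw [hd]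
    simpa [mul_assoc] using this
  have hd2 : d ^ 2 = (b * a₁ ^ 2 * b⁻¹) * (a₁ ^ 2)⁻¹ := by
    have hc : a₁⁻¹ * (b * a₁ * b⁻¹) = (b * a₁ * b⁻¹) * a₁⁻¹ :=
      comm_of_comm_eq_bot hAc (A.inv_mem ha₁) (hA' a₁ ha₁)
    calc d ^ 2 = (b * a₁ * b⁻¹) * (a₁⁻¹ * (b * a₁ * b⁻¹)) * a₁⁻¹ := by
          rw [hd, pow_two]; group
      _ = (b * a₁ * b⁻¹) * ((b * a₁ * b⁻¹) * a₁⁻¹) * a₁⁻¹ := by rw [hc]
      _ = (b * a₁ ^ 2 * b⁻¹) * (a₁ ^ 2)⁻¹ := by rw [pow_two]; group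
  have hd2ne : d ^ 2 ≠ 1 := by
    intro h
    rw [hd2] at h
    have h1 : b * a₁ ^ 2 * b⁻¹ = a₁ ^ 2 := by
      have := congrArg (fun z => z * a₁ ^ 2) h
      simpa [mul_assoc] using this
    have h2 : a₁ ^ 2 ∈ A ⊓ cj b A := by
      refine ⟨A.pow_mem ha₁ 2, ?_⟩
      rw [← h1]
      exact hA' _ (A.pow_mem ha₁ 2)
    rw [hA, Subgroup.mem_bot] at h2
    exact hsq h2
  have hdN := hi' d hdB hd2ne
  -- e = (a d a⁻¹) d⁻¹ = a₁ ^ 2
  have he : (a * d * a⁻¹) * d⁻¹ = a₁ ^ 2 := by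
    have hc1 : a * (b * a₁ * b⁻¹) = (b * a₁ * b⁻¹) * a :=
      comm_of_comm_eq_bot hAc ha (hA' a₁ ha₁)
    have hc2 : a₁ * (b * a₁⁻¹ * b⁻¹) = (b * a₁⁻¹ * b⁻¹) * a₁ :=
      comm_of_comm_eq_bot hAc ha₁ (hA' _ (A.inv_mem ha₁))
    have hc3 : a₁ * (b * a₁ * b⁻¹) = (b * a₁ * b⁻¹) * a₁ :=
      comm_of_comm_eq_bot hAc ha₁ (hA' _ ha₁)
    have e1 : a * d * a⁻¹ = (b * a₁ * b⁻¹) * a₁ := by
      calc a * d * a⁻¹ = (a * (b * a₁ * b⁻¹)) * a₁⁻¹ * a⁻¹ := by rw [hd]; group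
        _ = ((b * a₁ * b⁻¹) * a) * a₁⁻¹ * a⁻¹ := by rw [hc1]
        _ = (b * a₁ * b⁻¹) * (a * a₁⁻¹ * a⁻¹) := by group
        _ = (b * a₁ * b⁻¹) * a₁ := by rw [hinvert]
    have e2 : d⁻¹ = a₁ * (b * a₁⁻¹ * b⁻¹) := by rw [hd]; group
    rw [e1, e2]
    calc (b * a₁ * b⁻¹) * a₁ * (a₁ * (b * a₁⁻¹ * b⁻¹))
        = (b * a₁ * b⁻¹) * a₁ * ((b * a₁⁻¹ * b⁻¹) * a₁) := by rw [hc2]
      _ = ((b * a₁ * b⁻¹) * a₁) * (b * a₁⁻¹ * b⁻¹) * a₁ := by group
      _ = (a₁ * (b * a₁ * b⁻¹)) * (b * a₁⁻¹ * b⁻¹) * a₁ := by rw [hc3]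
      _ = a₁ ^ 2 := by rw [pow_two]; group
  -- e² ≠ 1
  have he2 : ((a * d * a⁻¹) * d⁻¹) ^ 2 = (a * d ^ 2 * a⁻¹) * (d ^ 2)⁻¹ := by
    have hc : d⁻¹ * (a * d * a⁻¹) = (a * d * a⁻¹) * d⁻¹ :=
      comm_of_comm_eq_bot hBc (B.inv_mem hdB) (hB' d hdB)
    calc ((a * d * a⁻¹) * d⁻¹) ^ 2 = (a * d * a⁻¹) * (d⁻¹ * (a * d * a⁻¹)) * d⁻¹ := by
          rw [pow_two]; group
      _ = (a * d * a⁻¹) * ((a * d * a⁻¹) * d⁻¹) * d⁻¹ := by rw [hc]
      _ = (a * d ^ 2 * a⁻¹) * (d ^ 2)⁻¹ := by rw [pow_two]; group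
  intro h
  rw [← he, he2] at h
  have h1 : a * d ^ 2 * a⁻¹ = d ^ 2 := by
    have := congrArg (fun z => z * d ^ 2) h
    simpa [mul_assoc] using this
  have h2 : d ^ 2 ∈ B ⊓ cj a B := by
    refine ⟨B.pow_mem hdB 2, ?_⟩
    rw [← h1]
    exact hB' _ (B.pow_mem hdB 2)
  rw [hB, Subgroup.mem_bot] at h2
  exact hd2ne h2

end

/-- The main induction. -/
theorem core {S : Type*} [Group S] [Finite S] (hS : IsPGroup 2 S)
    (Δ : Set (Subgroup S)) (hinv : ∀ s : S, ∀ R ∈ Δ, cj s R ∈ Δ)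
    (hsq : ∀ R ∈ Δ, ∃ r ∈ R, r ^ 2 ≠ 1) (hord : ∀ R ∈ Δ, ∀ T ∈ Δ, Nat.card ↥R = Nat.card ↥T)
    (hti : ∀ R ∈ Δ, ∀ T ∈ Δ, R = T ∨ R ⊓ T = ⊥) :
    ∀ n : ℕ, ∀ X : Subgroup S, Nat.card ↥X ≤ n → ∀ A ∈ Δ, ∀ B ∈ Δ, A ≤ X → B ≤ X → A ≠ B →
      ⁅A, B⁆ = ⊥ := by
  classical
  haveI : Fact (Nat.Prime 2) := ⟨Nat.prime_two⟩
  intro n
  induction n with
  | zero =>
    intro X hX
    exfalso
    have : 0 < Nat.card ↥X := Nat.card_pos
    omega
  | succ n ih =>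
    intro X hX A hA B hB hAX hBX hAB
    -- (L2) conjugates inside X commute
    have L2 : ∀ D ∈ Δ, D ≤ X → ∀ x ∈ X, cj x D ≠ D → ⁅D, cj x D⁆ = ⊥ := by
      intro D hD hDX x hx hne
      have hDne : D.subgroupOf X ≠ ⊤ := by
        intro htop
        apply hne
        have : X ≤ D := Subgroup.subgroupOf_eq_top.mp htop
        exact cj_eq_of_mem (this hx)
      obtain ⟨M', hM'co, hDM'⟩ := (eq_top_or_exists_le_coatom (D.subgroupOf X)).resolve_left hDne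
      haveI : Group.IsNilpotent ↥X := (hS.to_subgroup X).isNilpotent
      have hM'n : M'.Normal :=
        Subgroup.NormalizerCondition.normal_of_coatom M' Group.normalizerCondition_of_isNilpotent hM'co
      set M : Subgroup S := M'.map X.subtype with hM
      have hMX : M < X := by
        have h1 : M'.map X.subtype < (⊤ : Subgroup ↥X).map X.subtype :=
          Subgroup.map_subtype_lt_map_subtype.mpr hM'co.lt_top
        rw [← MonoidHom.range_eq_map, Subgroup.range_subtype] at h1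
        exact h1
      have hMcard : Nat.card ↥M ≤ n := by
        have : Nat.card ↥M < Nat.card ↥X := by
          by_contra hge
          exact hMX.ne (Subgroup.eq_of_le_of_card_ge hMX.le (not_lt.mp hge))
        omega
      have hDM : D ≤ M := by
        intro y hy
        exact ⟨⟨y, hDX hy⟩, hDM' hy, rfl⟩
      have hcjM : cj x D ≤ M := by
        rw [cj_le_iff]
        intro y hy
        obtain ⟨m, hm, hmy⟩ := hDM hy
        have := hM'n.conj_mem m hm ⟨x, hx⟩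
        refine ⟨_, this, ?_⟩
        rw [← hmy]
        rfl
      exact ih M hMcard D hD (cj x D) (hinv x D hD) hDM hcjM (Ne.symm hne)
    by_contra hcomm
    have hABbot : A ⊓ B = ⊥ := (hti A hA B hB).resolve_left hAB
    have hBAbot : B ⊓ A = ⊥ := by rw [inf_comm]; exact hABbot
    have htiB : ∀ a ∈ A, cj a B = B ∨ cj a B ⊓ B = ⊥ := fun a _ => hti _ (hinv a B hB) B hB
    have htiA : ∀ b ∈ B, cj b A = A ∨ cj b A ⊓ A = ⊥ := fun b _ => hti _ (hinv b A hA) A hA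
    have hBnotN : ¬ B ≤ Subgroup.normalizer (A : Set S) := fun h =>
      hcomm (L1 A B (hord A hA B hB) hABbot htiB h)
    have hAnotN : ¬ A ≤ Subgroup.normalizer (B : Set S) := fun h => by
      apply hcomm
      rw [Subgroup.commutator_comm]
      exact L1 B A (hord B hB A hA) hBAbot htiA h
    obtain ⟨b, hbB, hbN, hb2⟩ := L3 hS B _ hBnotN
    obtain ⟨a, haA, haN, ha2⟩ := L3 hS A _ hAnotN
    have hcjb : cj b A ≠ A := fun h => hbN (cj_eq_self_iff.mp h)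
    have hcja : cj a B ≠ B := fun h => haN (cj_eq_self_iff.mp h)
    have hAcb : ⁅A, cj b A⁆ = ⊥ := L2 A hA hAX b (hBX hbB) hcjb
    have hBca : ⁅B, cj a B⁆ = ⊥ := L2 B hB hBX a (hAX haA) hcja
    have hAb : A ⊓ cj b A = ⊥ := by
      rw [inf_comm]; exact (htiA b hbB).resolve_left hcjb
    have hBa : B ⊓ cj a B = ⊥ := by
      rw [inf_comm]; exact (htiB a haA).resolve_left hcja
    have hi : ∀ x ∈ A, x ^ 2 ≠ 1 → x ∈ Subgroup.normalizer (B : Set S) := by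
      intro x hx hx2
      by_contra hxN
      have hcjx : cj x B ≠ B := fun h => hxN (cj_eq_self_iff.mp h)
      exact hx2 (L4 A B x b hx hbB hAb hAcb hb2 (L2 B hB hBX x (hAX hx) hcjx))
    have hi' : ∀ y ∈ B, y ^ 2 ≠ 1 → y ∈ Subgroup.normalizer (A : Set S) := by
      intro y hy hy2
      by_contra hyN
      have hcjy : cj y A ≠ A := fun h => hyN (cj_eq_self_iff.mp h)
      exact hy2 (L4 B A y a hy haA hBa hBca ha2 (L2 A hA hAX y (hBX hy) hcjy))
    obtain ⟨a₁, ha₁, ha₁sq⟩ := hsq A hA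
    have hdouble : ∀ x ∈ A, x ^ 2 ≠ 1 → (x ^ 2) ^ 2 ≠ 1 :=
      fun x hx hx2 => L5 A B a b haA hbB hi hi' haN hAb hAcb hBa hBca x hx hx2
    have hall : ∀ k : ℕ, (a₁ ^ (2 ^ k)) ^ 2 ≠ 1 := by
      intro k
      induction k with
      | zero => simpa using ha₁sq
      | succ k ihk =>
        have := hdouble (a₁ ^ (2 ^ k)) (A.pow_mem ha₁ _) ihk
        have e : a₁ ^ 2 ^ (k + 1) = (a₁ ^ 2 ^ k) ^ 2 := by rw [pow_succ, pow_mul]
        rw [e]
        exact this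
    obtain ⟨k, hk⟩ := hS a₁
    apply hall k
    rw [hk, one_pow]

/-- Let S be a finite 2-group and Δ a set of subgroups of S closed under conjugation by S, all of the same order, each with nontrivial Frattini subgroup, and such that two distinct members of Δ meet trivially. Then any two distinct members of Δ commute elementwise. -/
theorem result {S : Type*} [Group S] [Finite S] (hS : IsPGroup 2 S)
    (Δ : Set (Subgroup S)) (hinv : ∀ s : S, ∀ R ∈ Δ, R.map (MulAut.conj s).toMonoidHom ∈ Δ)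
    (hΦ : ∀ R ∈ Δ, frattini ↥R ≠ ⊥) (hord : ∀ R ∈ Δ, ∀ T ∈ Δ, Nat.card ↥R = Nat.card ↥T)
    (hti : ∀ R ∈ Δ, ∀ T ∈ Δ, R = T ∨ R ⊓ T = ⊥) :
    ∀ R ∈ Δ, ∀ T ∈ Δ, R ≠ T → ⁅R, T⁆ = ⊥ := by
  intro R hR T hT hne
  exact core hS Δ hinv (fun R hR => exists_sq_ne_one R (hΦ R hR)) hord hti (Nat.card ↥(⊤ : Subgroup S)) ⊤
    le_rfl R hR T hT le_top le_top hne

end Cfsg.Agent.S1782
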