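import Mathlib
import Cfsg.Statements.S1783
import Cfsg.Agent.S1782
import Cfsg.Agent.Lib.Helper53_Conj
import Cfsg.Agent.Lib.Helper49_CharP
import Cfsg.Agent.Lib.Helper21_FStar
import Cfsg.Agent.Lib.Helper1_Frattini

set_option autoImplicit false
open Cfsg

namespace Cfsg.Agent.S1783

open Cfsg.Agent.Lib.Helper53_Conj Cfsg.Agent.S1782

/-- (L3') In a 2-subgroup `B`, an element outside a subgroup `P` has a power outside `P` whose
square is in `P`. -/
theorem L3' {S : Type*} [Group S] (B P : Subgroup S) (hB : IsPGroup 2 ↥B) (h : ¬ B ≤ P) :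
    ∃ b ∈ B, b ∉ P ∧ b ^ 2 ∈ P := by
  classical
  obtain ⟨b₀, hb₀B, hb₀P⟩ := SetLike.not_le_iff_exists.mp h
  have hex : ∃ n : ℕ, b₀ ^ (2 ^ n) ∈ P := by
    obtain ⟨k, hk⟩ := hB ⟨b₀, hb₀B⟩
    have hk' : b₀ ^ (2 ^ k) = 1 := by
      have := congrArg Subtype.val hk
      simpa using this
    exact ⟨k, by rw [hk']; exact P.one_mem⟩
  have hn0 : Nat.find hex ≠ 0 := by
    intro h0
    have := Nat.find_spec hex
    rw [h0, pow_zero, pow_one] at this
    exact hb₀P this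
  obtain ⟨m, hm⟩ := Nat.exists_eq_succ_of_ne_zero hn0
  refine ⟨b₀ ^ (2 ^ m), B.pow_mem hb₀B _, ?_, ?_⟩
  · exact Nat.find_min hex (by omega)
  · have := Nat.find_spec hex
    rw [hm, pow_succ, pow_mul] at this
    exact this

/-- The main induction of S1782, inside an arbitrary finite group: members of `Δ` lying in a common
2-subgroup commute. -/
theorem core' {S : Type*} [Group S] [Finite S]
    (Δ : Set (Subgroup S)) (hinv : ∀ s : S, ∀ R ∈ Δ, cj s R ∈ Δ)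
    (hsq : ∀ R ∈ Δ, ∃ r ∈ R, r ^ 2 ≠ 1) (hord : ∀ R ∈ Δ, ∀ T ∈ Δ, Nat.card ↥R = Nat.card ↥T)
    (hti : ∀ R ∈ Δ, ∀ T ∈ Δ, R = T ∨ R ⊓ T = ⊥) :
    ∀ n : ℕ, ∀ X : Subgroup S, IsPGroup 2 ↥X → Nat.card ↥X ≤ n → ∀ A ∈ Δ, ∀ B ∈ Δ, A ≤ X → B ≤ X →
      A ≠ B → ⁅A, B⁆ = ⊥ := by
  classical
  haveI : Fact (Nat.Prime 2) := ⟨Nat.prime_two⟩
  intro n
  induction n with
  | zero =>
    intro X _ hX
    exfalso
    have : 0 < Nat.card ↥X := Nat.card_pos
    omega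
  | succ n ih =>
    intro X hX2 hX A hA B hB hAX hBX hAB
    -- (L2) conjugates inside X commute
    have L2 : ∀ D ∈ Δ, D ≤ X → ∀ x ∈ X, cj x D ≠ D → ⁅D, cj x D⁆ = ⊥ := by
      intro D hD hDX x hx hne
      have hDne : D.subgroupOf X ≠ ⊤ := by
        intro htop
        apply hne
        have : X ≤ D := Subgroup.subgroupOf_eq_top.mp htop
        exact cj_eq_of_mem (this hx)
      obtain ⟨M', hM'co, hDM'⟩ := (eq_top_or_exists_le_coatom (D.subgroupOf X)).resolve_left hDne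
      haveI : Group.IsNilpotent ↥X := hX2.isNilpotent
      have hM'n : M'.Normal :=
        Subgroup.NormalizerCondition.normal_of_coatom M' Group.normalizerCondition_of_isNilpotent hM'co
      set M : Subgroup S := M'.map X.subtype with hM
      have hMX : M < X := by
        have h1 : M'.map X.subtype < (⊤ : Subgroup ↥X).map X.subtype :=
          Subgroup.map_subtype_lt_map_subtype.mpr hM'co.lt_top
        rw [← MonoidHom.range_eq_map, Subgroup.range_subtype] at h1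
        exact h1
      have hMcard : Nat.card ↥M ≤ n := by
        have : Nat.card ↥M < Nat.card ↥X := by
          by_contra hge
          exact hMX.ne (Subgroup.eq_of_le_of_card_ge hMX.le (not_lt.mp hge))
        omega
      have hDM : D ≤ M := by
        intro y hy
        exact ⟨⟨y, hDX hy⟩, hDM' hy, rfl⟩
      have hcjM : cj x D ≤ M := by
        rw [cj_le_iff]
        intro y hy
        obtain ⟨m, hm, hmy⟩ := hDM hy
        have := hM'n.conj_mem m hm ⟨x, hx⟩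
        refine ⟨_, this, ?_⟩
        rw [← hmy]
        rfl
      exact ih M (hX2.to_le hMX.le) hMcard D hD (cj x D) (hinv x D hD) hDM hcjM (Ne.symm hne)
    by_contra hcomm
    have hABbot : A ⊓ B = ⊥ := (hti A hA B hB).resolve_left hAB
    have hBAbot : B ⊓ A = ⊥ := by rw [inf_comm]; exact hABbot
    have htiB : ∀ a ∈ A, cj a B = B ∨ cj a B ⊓ B = ⊥ := fun a _ => hti _ (hinv a B hB) B hB
    have htiA : ∀ b ∈ B, cj b A = A ∨ cj b A ⊓ A = ⊥ := fun b _ => hti _ (hinv b A hA) A hA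
    have hBnotN : ¬ B ≤ Subgroup.normalizer (A : Set S) := fun h =>
      hcomm (L1 A B (hord A hA B hB) hABbot htiB h)
    have hAnotN : ¬ A ≤ Subgroup.normalizer (B : Set S) := fun h => by
      apply hcomm
      rw [Subgroup.commutator_comm]
      exact L1 B A (hord B hB A hA) hBAbot htiA h
    obtain ⟨b, hbB, hbN, hb2⟩ := L3' B _ (hX2.to_le hBX) hBnotN
    obtain ⟨a, haA, haN, ha2⟩ := L3' A _ (hX2.to_le hAX) hAnotN
    have hcjb : cj b A ≠ A := fun h => hbN (cj_eq_self_iff.mp h)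
    have hcja : cj a B ≠ B := fun h => haN (cj_eq_self_iff.mp h)
    have hAcb : ⁅A, cj b A⁆ = ⊥ := L2 A hA hAX b (hBX hbB) hcjb
    have hBca : ⁅B, cj a B⁆ = ⊥ := L2 B hB hBX a (hAX haA) hcja
    have hAb : A ⊓ cj b A = ⊥ := by
      rw [inf_comm]; exact (htiA b hbB).resolve_left hcjb
    have hBa : B ⊓ cj a B = ⊥ := by
      rw [inf_comm]; exact (htiB a haA).resolve_left hcja
    have hi : ∀ x ∈ A, x ^ 2 ≠ 1 → x ∈ Subgroup.normalizer (B : Set S) := by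
      intro x hx hx2
      by_contra hxN
      have hcjx : cj x B ≠ B := fun h => hxN (cj_eq_self_iff.mp h)
      exact hx2 (L4 A B x b hx hbB hAb hAcb hb2 (L2 B hB hBX x (hAX hx) hcjx))
    have hi' : ∀ y ∈ B, y ^ 2 ≠ 1 → y ∈ Subgroup.normalizer (A : Set S) := by
      intro y hy hy2
      by_contra hyN
      have hcjy : cj y A ≠ A := fun h => hyN (cj_eq_self_iff.mp h)
      exact hy2 (L4 B A y a hy haA hBa hBca ha2 (L2 A hA hAX y (hBX hy) hcjy))
    obtain ⟨a₁, ha₁, ha₁sq⟩ := hsq A hA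
    have hdouble : ∀ x ∈ A, x ^ 2 ≠ 1 → (x ^ 2) ^ 2 ≠ 1 :=
      fun x hx hx2 => L5 A B a b haA hbB hi hi' haN hAb hAcb hBa hBca x hx hx2
    have hall : ∀ k : ℕ, (a₁ ^ (2 ^ k)) ^ 2 ≠ 1 := by
      intro k
      induction k with
      | zero => simpa using ha₁sq
      | succ k ihk =>
        have := hdouble (a₁ ^ (2 ^ k)) (A.pow_mem ha₁ _) ihk
        have e : a₁ ^ 2 ^ (k + 1) = (a₁ ^ 2 ^ k) ^ 2 := by rw [pow_succ, pow_mul]
        rw [e]
        exact this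
    obtain ⟨k, hk⟩ := hX2 ⟨a₁, hAX ha₁⟩
    have hk' : a₁ ^ (2 ^ k) = 1 := by
      have := congrArg Subtype.val hk
      simpa using this
    apply hall k
    rw [hk', one_pow]

/-- Members of a conjugation-invariant TI family with an element of order `> 2`, lying in a common
2-subgroup, commute. -/
theorem comm_of_le_two_group {S : Type*} [Group S] [Finite S]
    (Δ : Set (Subgroup S)) (hinv : ∀ s : S, ∀ R ∈ Δ, cj s R ∈ Δ)
    (hsq : ∀ R ∈ Δ, ∃ r ∈ R, r ^ 2 ≠ 1) (hord : ∀ R ∈ Δ, ∀ T ∈ Δ, Nat.card ↥R = Nat.card ↥T)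
    (hti : ∀ R ∈ Δ, ∀ T ∈ Δ, R = T ∨ R ⊓ T = ⊥)
    (X : Subgroup S) (hX : IsPGroup 2 ↥X) (A B : Subgroup S) (hA : A ∈ Δ) (hB : B ∈ Δ)
    (hAX : A ≤ X) (hBX : B ≤ X) (hAB : A ≠ B) : ⁅A, B⁆ = ⊥ :=
  core' Δ hinv hsq hord hti (Nat.card ↥X) X hX le_rfl A hA B hB hAX hBX hAB


section
variable {X : Type*} [Group X]

/-- `℧¹(R)`: the subgroup generated by the squares of the elements of `R`. -/
def ag (R : Subgroup X) : Subgroup X := Subgroup.closure ((fun r : X => r ^ 2) '' (R : Set X))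

theorem sq_mem_ag {R : Subgroup X} {r : X} (hr : r ∈ R) : r ^ 2 ∈ ag R :=
  Subgroup.subset_closure ⟨r, hr, rfl⟩

theorem ag_le (R : Subgroup X) : ag R ≤ R := by
  unfold ag
  rw [Subgroup.closure_le]
  rintro _ ⟨r, hr, rfl⟩
  exact R.pow_mem hr 2

theorem ag_mono {R T : Subgroup X} (h : R ≤ T) : ag R ≤ ag T := by
  unfold ag
  apply Subgroup.closure_mono
  rintro _ ⟨r, hr, rfl⟩
  exact ⟨r, h hr, rfl⟩

theorem cj_ag (g : X) (R : Subgroup X) : cj g (ag R) = ag (cj g R) := by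
  unfold ag
  rw [cj, MonoidHom.map_closure]
  congr 1
  ext y
  constructor
  · rintro ⟨_, ⟨r, hr, rfl⟩, rfl⟩
    refine ⟨g * r * g⁻¹, conj_mem_cj hr, ?_⟩
    simp
  · rintro ⟨_, ⟨r, hr, rfl⟩, rfl⟩
    refine ⟨r ^ 2, ⟨r, hr, rfl⟩, ?_⟩
    simp

theorem ag_normal {R : Subgroup X} (hR : R.Normal) : (ag R).Normal := by
  constructor
  intro n hn g
  have h1 : g * n * g⁻¹ ∈ cj g (ag R) := conj_mem_cj hn
  rw [cj_ag] at h1
  have h2 : cj g R = R := cj_eq_self_iff.mpr (by rw [Subgroup.normalizer_eq_top]; trivial)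
  rwa [h2] at h1

theorem ag_ne_self [Finite X] {R : Subgroup X} (hR : IsPGroup 2 ↥R) (hne : R ≠ ⊥) : ag R ≠ R := by
  have : Fact (Nat.Prime 2) := ⟨Nat.prime_two⟩
  intro h
  have h1 : ag R ≤ (frattini ↥R).map R.subtype := by
    unfold ag
    rw [Subgroup.closure_le]
    rintro _ ⟨r, hr, rfl⟩
    refine ⟨(⟨r, hr⟩ : ↥R) ^ 2,
      Cfsg.Agent.Lib.Helper1_Frattini.pow_mem_frattini_of_isPGroup hR _, ?_⟩
    simp
  rw [h] at h1
  have h2 : frattini ↥R = ⊤ := by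
    rw [eq_top_iff]
    intro r _
    obtain ⟨y, hy, hyr⟩ := h1 r.2
    have : y = r := Subtype.ext hyr
    rwa [← this]
  have hnt : (⊥ : Subgroup ↥R) ≠ ⊤ := by
    intro hb
    apply hne
    rw [eq_bot_iff]
    intro r hr
    have : (⟨r, hr⟩ : ↥R) ∈ (⊥ : Subgroup ↥R) := by rw [hb]; trivial
    rw [Subgroup.mem_bot] at this
    rw [Subgroup.mem_bot]
    exact congrArg Subtype.val this
  obtain ⟨M, hM, -⟩ := (eq_top_or_exists_le_coatom (⊥ : Subgroup ↥R)).resolve_left hnt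
  have := frattini_le_coatom hM
  rw [h2] at this
  exact hM.1 (eq_top_iff.mpr this)

theorem card_ag_lt [Finite X] {R : Subgroup X} (hR : IsPGroup 2 ↥R) (hne : R ≠ ⊥) :
    Nat.card ↥(ag R) < Nat.card ↥R := by
  by_contra hge
  exact ag_ne_self hR hne (Subgroup.eq_of_le_of_card_ge (ag_le R) (not_lt.mp hge))

/-- The stability group of all the series `R ≥ ℧¹(R)` for `R ⊴ X`, `R ≤ Q`. -/
def stab (Q : Subgroup X) : Subgroup X where
  carrier := {x | ∀ R : Subgroup X, R.Normal → R ≤ Q → ∀ r ∈ R, x * r * x⁻¹ * r⁻¹ ∈ ag R}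
  one_mem' := by
    intro R _ _ r _
    simp
  mul_mem' := by
    intro x y hx hy R hRn hRQ r hr
    have h1 := hx R hRn hRQ r hr
    have h2 := hy R hRn hRQ r hr
    have h3 := (ag_normal hRn).conj_mem _ h2 x
    have := (ag R).mul_mem h3 h1
    have e : x * y * r * (x * y)⁻¹ * r⁻¹ = x * (y * r * y⁻¹ * r⁻¹) * x⁻¹ * (x * r * x⁻¹ * r⁻¹) := by
      group
    rw [e]
    exact this
  inv_mem' := by
    intro x hx R hRn hRQ r hr
    have h1 := hx R hRn hRQ r hr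
    have h3 := (ag_normal hRn).conj_mem _ ((ag R).inv_mem h1) x⁻¹
    have e : x⁻¹ * r * x⁻¹⁻¹ * r⁻¹ = x⁻¹ * (x * r * x⁻¹ * r⁻¹)⁻¹ * x⁻¹⁻¹ := by group
    rw [e]
    exact h3

theorem mem_stab {Q : Subgroup X} {x : X} :
    x ∈ stab Q ↔ ∀ R : Subgroup X, R.Normal → R ≤ Q → ∀ r ∈ R, x * r * x⁻¹ * r⁻¹ ∈ ag R :=
  Iff.rfl

theorem stab_normal (Q : Subgroup X) : (stab Q).Normal := by
  constructor
  intro x hx g R hRn hRQ r hr
  have hr' : g⁻¹ * r * g⁻¹⁻¹ ∈ R := hRn.conj_mem r hr g⁻¹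
  have h1 := hx R hRn hRQ _ hr'
  have h2 := (ag_normal hRn).conj_mem _ h1 g
  have e : g * x * g⁻¹ * r * (g * x * g⁻¹)⁻¹ * r⁻¹
      = g * (x * (g⁻¹ * r * g⁻¹⁻¹) * x⁻¹ * (g⁻¹ * r * g⁻¹⁻¹)⁻¹) * g⁻¹ := by group
  rw [e]
  exact h2

/-- An element of odd order in the stability group centralizes every normal subgroup `R ≤ Q`. -/
theorem stab_commute [Finite X] {Q : Subgroup X} (hQ : IsPGroup 2 ↥Q) {x : X} (hx : x ∈ stab Q)
    (hodd : (orderOf x).Coprime 2) :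
    ∀ n : ℕ, ∀ R : Subgroup X, R.Normal → R ≤ Q → Nat.card ↥R ≤ n → ∀ r ∈ R, Commute x r := by
  have : Fact (Nat.Prime 2) := ⟨Nat.prime_two⟩
  intro n
  induction n with
  | zero =>
    intro R _ _ hc
    exfalso
    have : 0 < Nat.card ↥R := Nat.card_pos
    omega
  | succ n ih =>
    intro R hRn hRQ hc r hr
    by_cases hb : R = ⊥
    · rw [hb, Subgroup.mem_bot] at hr
      rw [hr]
      exact Commute.one_right x
    · have hlt := card_ag_lt (hQ.to_le hRQ) hb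
      have hagQ : ag R ≤ Q := le_trans (ag_le R) hRQ
      have hcomm := ih (ag R) (ag_normal hRn) hagQ (by omega)
      have h1 := hx R hRn hRQ r hr
      have h2 : r⁻¹ * (x * r * x⁻¹ * r⁻¹) * r⁻¹⁻¹ ∈ ag R := (ag_normal hRn).conj_mem _ h1 r⁻¹
      have e : x * r * x⁻¹ = r * (r⁻¹ * (x * r * x⁻¹ * r⁻¹) * r⁻¹⁻¹) := by group
      exact Cfsg.Agent.Lib.Helper49_CharP.commute_of_coprime_of_conj_eq_mul x r _ hodd e
        (hcomm _ h2) (Cfsg.Agent.Lib.Helper49_CharP.orderOf_eq_pow_of_mem hQ (hagQ h2))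

/-- If `C_X(Q) ≤ Q` for a normal 2-subgroup `Q`, the stability group is a 2-group. -/
theorem stab_isPGroup [Finite X] {Q : Subgroup X} (hQn : Q.Normal) (hQ : IsPGroup 2 ↥Q)
    (hC : Subgroup.centralizer (Q : Set X) ≤ Q) : IsPGroup 2 ↥(stab Q) := by
  have : Fact (Nat.Prime 2) := ⟨Nat.prime_two⟩
  apply Cfsg.Agent.Lib.Helper49_CharP.isPGroup_of_forall_coprime_eq_one
  intro x hx hodd
  have h1 : x ∈ Subgroup.centralizer (Q : Set X) := by
    rw [Subgroup.mem_centralizer_iff]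
    intro q hq
    exact ((stab_commute hQ hx hodd (Nat.card ↥Q) Q hQn le_rfl le_rfl q hq).eq).symm
  exact Cfsg.Agent.Lib.Helper49_CharP.eq_one_of_coprime_of_mem hQ (hC h1) hodd

/-- A quadratically acting element has its square in the stability group. -/
theorem sq_mem_stab {Q : Subgroup X} (a : X)
    (hquad : ∀ q ∈ Q, Commute a (q * a⁻¹ * q⁻¹)) : a ^ 2 ∈ stab Q := by
  intro R hRn hRQ r hr
  have hc : a * r * a⁻¹ * r⁻¹ ∈ R := R.mul_mem (hRn.conj_mem r hr a) (R.inv_mem hr)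
  have h1 := sq_mem_ag hc
  have hcomm : a * (r * a⁻¹ * r⁻¹) = (r * a⁻¹ * r⁻¹) * a := (hquad r (hRQ hr)).eq
  have e : a ^ 2 * r * (a ^ 2)⁻¹ * r⁻¹ = (a * r * a⁻¹ * r⁻¹) ^ 2 := by
    calc a ^ 2 * r * (a ^ 2)⁻¹ * r⁻¹ = a * (a * (r * a⁻¹ * r⁻¹)) * r * a⁻¹ * r⁻¹ := by
          rw [pow_two]; group
      _ = a * ((r * a⁻¹ * r⁻¹) * a) * r * a⁻¹ * r⁻¹ := by rw [hcomm]
      _ = (a * r * a⁻¹ * r⁻¹) ^ 2 := by rw [pow_two]; group
  rw [e]
  exact h1

end

theorem result {X : Type*} [Group X] [Finite X]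
    (hX : Cfsg.generalizedFittingSubgroup X = Cfsg.pCore 2 X) (A : Subgroup X) (hA2 : IsPGroup 2 ↥A) (hAa : IsMulCommutative ↥A)
    (hti : ∀ h : X, A.map (MulAut.conj h).toMonoidHom = A ∨ A.map (MulAut.conj h).toMonoidHom ⊓ A = ⊥) :
    Subgroup.closure ((fun a : X => a ^ 2) '' (A : Set X)) ≤ Cfsg.pCore 2 X ∧
      (¬ Cfsg.IsElementaryAbelian 2 (Subgroup.closure ((fun a : X => a ^ 2) '' (A : Set X))) →
        IsMulCommutative ↥(Subgroup.normalClosure ((fun a : X => a ^ 2) '' (A : Set X)))) := by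
  classical
  have : Fact (Nat.Prime 2) := ⟨Nat.prime_two⟩
  set Q : Subgroup X := Cfsg.pCore 2 X with hQdef
  have hQn : Q.Normal := Cfsg.Agent.Lib.Helper49_CharP.pCoreNormal 2 X
  have hQ2 : IsPGroup 2 ↥Q := Cfsg.Agent.Lib.Helper49_CharP.pCore_isPGroup 2 X
  have hC : Subgroup.centralizer (Q : Set X) ≤ Q := by
    have := Cfsg.Agent.Lib.Helper21_FStar.centralizer_generalizedFitting_le (G := X)
    rwa [hX] at this
  have hAcomm : ∀ a ∈ A, ∀ a' ∈ A, a * a' = a' * a := by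
    intro a ha a' ha'
    have := hAa.is_comm.comm (⟨a, ha⟩ : ↥A) ⟨a', ha'⟩
    exact congrArg Subtype.val this
  change ag A ≤ Q ∧ (¬ Cfsg.IsElementaryAbelian 2 (ag A) → _)
  -- the family of conjugates of `A`
  have htiA : ∀ x y : X, cj x A = cj y A ∨ cj x A ⊓ cj y A = ⊥ := by
    intro x y
    have e : cj y A = cj x (cj (x⁻¹ * y) A) := by
      rw [← cj_mul]; congr 1; group
    rcases hti (x⁻¹ * y) with h | h
    · left
      rw [e]
      change cj (x⁻¹ * y) A = A at h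
      rw [h]
    · right
      change cj (x⁻¹ * y) A ⊓ A = ⊥ at h
      rw [e, cj, cj, ← Subgroup.map_inf _ _ _ (MulAut.conj x).injective, inf_comm, h]
      exact Subgroup.map_bot _
  -- part 1 under the assumption that `A` has an element of order `> 2`
  have part1 : (∃ a ∈ A, a ^ 2 ≠ 1) → ag A ≤ Q := by
    rintro ⟨a₀, ha₀, ha₀sq⟩
    let Δ : Set (Subgroup X) := {R | ∃ x : X, R = cj x A}
    have hinv : ∀ s : X, ∀ R ∈ Δ, cj s R ∈ Δ := by
      rintro s _ ⟨x, rfl⟩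
      exact ⟨s * x, (cj_mul s x A).symm⟩
    have hsq : ∀ R ∈ Δ, ∃ r ∈ R, r ^ 2 ≠ 1 := by
      rintro _ ⟨x, rfl⟩
      refine ⟨x * a₀ * x⁻¹, conj_mem_cj ha₀, ?_⟩
      intro h
      apply ha₀sq
      have e : (x * a₀ * x⁻¹) ^ 2 = x * a₀ ^ 2 * x⁻¹ := by rw [pow_two, pow_two]; group
      rw [e] at h
      have := congrArg (fun z => x⁻¹ * z * x) h
      simpa [mul_assoc] using this
    have hord : ∀ R ∈ Δ, ∀ T ∈ Δ, Nat.card ↥R = Nat.card ↥T := by
      rintro _ ⟨x, rfl⟩ _ ⟨y, rfl⟩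
      rw [card_cj, card_cj]
    have htiΔ : ∀ R ∈ Δ, ∀ T ∈ Δ, R = T ∨ R ⊓ T = ⊥ := by
      rintro _ ⟨x, rfl⟩ _ ⟨y, rfl⟩
      exact htiA x y
    have hT : IsPGroup 2 ↥(Q ⊔ A) := IsPGroup.to_sup_of_normal_left hQ2 hA2
    have hquad : ∀ a ∈ A, ∀ q ∈ Q, Commute a (q * a⁻¹ * q⁻¹) := by
      intro a ha q hq
      by_cases hcj : cj q A = A
      · have : q * a⁻¹ * q⁻¹ ∈ cj q A := conj_mem_cj (A.inv_mem ha)
        rw [hcj] at this
        exact hAcomm a ha _ this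
      · have hle : cj q A ≤ Q ⊔ A := by
          rw [cj_le_iff]
          intro y hy
          have hqT : q ∈ Q ⊔ A := (le_sup_left : Q ≤ Q ⊔ A) hq
          exact (Q ⊔ A).mul_mem ((Q ⊔ A).mul_mem hqT ((le_sup_right : A ≤ Q ⊔ A) hy))
            ((Q ⊔ A).inv_mem hqT)
        have h0 := comm_of_le_two_group Δ hinv hsq hord htiΔ (Q ⊔ A) hT A (cj q A)
          ⟨1, (cj_one A).symm⟩ ⟨q, rfl⟩ le_sup_right hle (Ne.symm hcj)
        exact comm_of_comm_eq_bot h0 ha (conj_mem_cj (A.inv_mem ha))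
    have hstab : ag A ≤ stab Q := by
      unfold ag
      rw [Subgroup.closure_le]
      rintro _ ⟨a, ha, rfl⟩
      exact sq_mem_stab a (hquad a ha)
    exact le_trans hstab
      (Cfsg.Agent.Lib.Helper49_CharP.le_pCore (stab_normal Q) (stab_isPGroup hQn hQ2 hC))
  refine ⟨?_, ?_⟩
  · by_cases hsqA : ∃ a ∈ A, a ^ 2 ≠ 1
    · exact part1 hsqA
    · push Not at hsqA
      unfold ag
      rw [Subgroup.closure_le]
      rintro _ ⟨a, ha, rfl⟩
      change a ^ 2 ∈ Q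
      rw [hsqA a ha]
      exact Q.one_mem
  · intro hne
    have hBA : ag A ≤ A := ag_le A
    have hBcomm : ∀ b ∈ ag A, ∀ b' ∈ ag A, b * b' = b' * b :=
      fun b hb b' hb' => hAcomm b (hBA hb) b' (hBA hb')
    -- an element of `B` whose square is not one
    obtain ⟨b₀, hb₀, hb₀sq⟩ : ∃ b ∈ ag A, b ^ 2 ≠ 1 := by
      by_contra hno
      push Not at hno
      apply hne
      refine ⟨⟨⟨?_⟩⟩, hno⟩
      rintro ⟨b, hb⟩ ⟨b', hb'⟩
      exact Subtype.ext (hBcomm b hb b' hb')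
    have hBQ : ag A ≤ Q := part1 ⟨b₀, hBA hb₀, hb₀sq⟩
    let Δ : Set (Subgroup X) := {R | ∃ x : X, R = cj x (ag A)}
    have hinv : ∀ s : X, ∀ R ∈ Δ, cj s R ∈ Δ := by
      rintro s _ ⟨x, rfl⟩
      exact ⟨s * x, (cj_mul s x _).symm⟩
    have hsq : ∀ R ∈ Δ, ∃ r ∈ R, r ^ 2 ≠ 1 := by
      rintro _ ⟨x, rfl⟩
      refine ⟨x * b₀ * x⁻¹, conj_mem_cj hb₀, ?_⟩
      intro h
      apply hb₀sq
      have e : (x * b₀ * x⁻¹) ^ 2 = x * b₀ ^ 2 * x⁻¹ := by rw [pow_two, pow_two]; group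
      rw [e] at h
      have := congrArg (fun z => x⁻¹ * z * x) h
      simpa [mul_assoc] using this
    have hord : ∀ R ∈ Δ, ∀ T ∈ Δ, Nat.card ↥R = Nat.card ↥T := by
      rintro _ ⟨x, rfl⟩ _ ⟨y, rfl⟩
      rw [card_cj, card_cj]
    have htiB : ∀ x y : X, cj x (ag A) = cj y (ag A) ∨ cj x (ag A) ⊓ cj y (ag A) = ⊥ := by
      intro x y
      rcases htiA x y with h | h
      · left
        rw [cj_ag, cj_ag, h]
      · right
        rw [eq_bot_iff, ← h]
        exact inf_le_inf (cj_mono hBA) (cj_mono hBA)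
    have htiΔ : ∀ R ∈ Δ, ∀ T ∈ Δ, R = T ∨ R ⊓ T = ⊥ := by
      rintro _ ⟨x, rfl⟩ _ ⟨y, rfl⟩
      exact htiB x y
    have hcjQ : ∀ x : X, cj x (ag A) ≤ Q := by
      intro x
      rw [cj_le_iff]
      intro y hy
      exact hQn.conj_mem y (hBQ hy) x
    have hpair : ∀ x y : X, ∀ u ∈ cj x (ag A), ∀ v ∈ cj y (ag A), u * v = v * u := by
      intro x y u hu v hv
      by_cases hxy : cj x (ag A) = cj y (ag A)
      · rw [← hxy] at hv
        obtain ⟨b, hb, rfl⟩ := hu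
        obtain ⟨b', hb', rfl⟩ := hv
        have := hBcomm b hb b' hb'
        simp only [MulEquiv.coe_toMonoidHom, MulAut.conj_apply]
        calc x * b * x⁻¹ * (x * b' * x⁻¹) = x * (b * b') * x⁻¹ := by group
          _ = x * (b' * b) * x⁻¹ := by rw [this]
          _ = x * b' * x⁻¹ * (x * b * x⁻¹) := by group
      · have h0 := comm_of_le_two_group Δ hinv hsq hord htiΔ Q hQ2 _ _ ⟨x, rfl⟩ ⟨y, rfl⟩
          (hcjQ x) (hcjQ y) hxy
        exact comm_of_comm_eq_bot h0 hu hv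
    unfold Subgroup.normalClosure
    apply Subgroup.isMulCommutative_closure
    intro u hu v hv
    rw [Group.mem_conjugatesOfSet_iff] at hu hv
    obtain ⟨_, ⟨a, ha, rfl⟩, hau⟩ := hu
    obtain ⟨_, ⟨a', ha', rfl⟩, hav⟩ := hv
    obtain ⟨c, rfl⟩ := isConj_iff.mp hau
    obtain ⟨c', rfl⟩ := isConj_iff.mp hav
    exact hpair c c' _ (conj_mem_cj (sq_mem_ag ha)) _ (conj_mem_cj (sq_mem_ag ha'))

end Cfsg.Agent.S1783
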