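import Mathlib
import Cfsg.Statements.S1785
import Cfsg.Agent.Lib.Helper53_Conj
import Cfsg.Agent.Lib.Helper22_Basic

set_option autoImplicit false
open Cfsg

namespace Cfsg.Agent.S1785

open Cfsg.Agent.Lib.Helper53_Conj Cfsg.Agent.Lib.Helper22_Basic

section
variable {X : Type*} [Group X]

theorem ea_comm {W : Subgroup X} (hW : IsElementaryAbelian 2 W) {x y : X} (hx : x ∈ W) (hy : y ∈ W) :
    x * y = y * x :=
  congrArg Subtype.val (hW.1.is_comm.comm ⟨x, hx⟩ ⟨y, hy⟩)

theorem ea_sq {W : Subgroup X} (hW : IsElementaryAbelian 2 W) {x : X} (hx : x ∈ W) : x * x = 1 := by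
  have := hW.2 x hx
  rwa [pow_two] at this

theorem ea_inv {W : Subgroup X} (hW : IsElementaryAbelian 2 W) {x : X} (hx : x ∈ W) : x⁻¹ = x :=
  inv_eq_of_mul_eq_one_left (ea_sq hW hx)

/-- (T1') An involution acting on an elementary abelian 2-group `W`: `|W| ≤ |C_W(v)|²`. -/
theorem T1 [Finite X] (W : Subgroup X) (hW : IsElementaryAbelian 2 W) (v : X) (hv : v * v = 1)
    (hvW : ∀ w ∈ W, v * w * v⁻¹ ∈ W) :
    Nat.card ↥W ≤ Nat.card ↥(W ⊓ Subgroup.centralizer ({v} : Set X)) ^ 2 := by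
  have hvinv : v⁻¹ = v := inv_eq_of_mul_eq_one_left hv
  let φ : ↥W →* ↥W :=
    { toFun := fun w => ⟨(w : X) * (v * w * v⁻¹), W.mul_mem w.2 (hvW w w.2)⟩
      map_one' := by apply Subtype.ext; simp
      map_mul' := by
        intro w₁ w₂
        apply Subtype.ext
        have hc : (w₂ : X) * (v * w₁ * v⁻¹) = (v * w₁ * v⁻¹) * w₂ := ea_comm hW w₂.2 (hvW w₁ w₁.2)
        show (w₁ : X) * w₂ * (v * (w₁ * w₂) * v⁻¹) = w₁ * (v * w₁ * v⁻¹) * (w₂ * (v * w₂ * v⁻¹))
        calc (w₁ : X) * w₂ * (v * (w₁ * w₂) * v⁻¹)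
            = w₁ * (w₂ * (v * w₁ * v⁻¹)) * (v * w₂ * v⁻¹) := by group
          _ = w₁ * ((v * w₁ * v⁻¹) * w₂) * (v * w₂ * v⁻¹) := by rw [hc]
          _ = w₁ * (v * w₁ * v⁻¹) * (w₂ * (v * w₂ * v⁻¹)) := by group }
  have hφ : ∀ w : ↥W, ((φ w : ↥W) : X) = (w : X) * (v * w * v⁻¹) := fun w => rfl
  set C := W ⊓ Subgroup.centralizer ({v} : Set X) with hC
  -- kernel injects into C
  have hker : Nat.card ↥φ.ker ≤ Nat.card ↥C := by
    refine Nat.card_le_card_of_injective (fun w => ⟨(w : ↥W), ?_⟩) ?_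
    · refine Subgroup.mem_inf.mpr ⟨(w : ↥W).2, ?_⟩
      rw [Subgroup.mem_centralizer_singleton_iff]
      have h1 : φ (w : ↥W) = 1 := w.2
      have h2 : ((w : ↥W) : X) * (v * (w : ↥W) * v⁻¹) = 1 := by
        rw [← hφ, h1]; rfl
      have h3 : v * ((w : ↥W) : X) * v⁻¹ = ((w : ↥W) : X) := by
        have := eq_inv_of_mul_eq_one_right h2
        rw [this, ea_inv hW (w : ↥W).2]
      calc ((w : ↥W) : X) * v = (v * ((w : ↥W) : X) * v⁻¹) * v := by rw [h3]
        _ = v * ((w : ↥W) : X) := by group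
    · intro a b hab
      apply Subtype.ext; apply Subtype.ext
      exact congrArg (fun z : ↥C => (z : X)) hab
  -- range injects into C
  have hrange : Nat.card ↥φ.range ≤ Nat.card ↥C := by
    refine Nat.card_le_card_of_injective (fun y => ⟨(y : ↥W), ?_⟩) ?_
    · refine Subgroup.mem_inf.mpr ⟨(y : ↥W).2, ?_⟩
      rw [Subgroup.mem_centralizer_singleton_iff]
      obtain ⟨w, hw⟩ := y.2
      have h1 : ((y : ↥W) : X) = (w : X) * (v * w * v⁻¹) := by rw [← hw]; rfl
      have hc : (w : X) * (v * w * v⁻¹) = (v * w * v⁻¹) * w := ea_comm hW w.2 (hvW w w.2)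
      rw [h1]
      calc (w : X) * (v * w * v⁻¹) * v = (v * w * v⁻¹) * w * v := by rw [hc]
        _ = v * w * (v⁻¹ * w * v) := by group
        _ = v * w * (v * w * v⁻¹) := by rw [hvinv]
        _ = v * (w * (v * w * v⁻¹)) := by group
    · intro a b hab
      apply Subtype.ext; apply Subtype.ext
      exact congrArg (fun z : ↥C => (z : X)) hab
  have h1 := Subgroup.card_eq_card_quotient_mul_card_subgroup φ.ker
  have h2 : Nat.card (↥W ⧸ φ.ker) = Nat.card ↥φ.range :=
    Nat.card_congr (QuotientGroup.quotientKerEquivRange φ).toEquiv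
  rw [h1, h2, pow_two]
  exact Nat.mul_le_mul hrange hker


theorem inf_centralizer_eq_self {W A : Subgroup X} (h : A ≤ Subgroup.centralizer (W : Set X)) :
    W ⊓ Subgroup.centralizer (A : Set X) = W :=
  inf_eq_left.mpr (Subgroup.le_centralizer_iff.mp h)

/-- order doubling: `D < D'` implies `2 |D| ≤ |D'|` -/
theorem two_mul_card_le [Finite X] {D D' : Subgroup X} (hle : D ≤ D') (hne : D ≠ D') :
    2 * Nat.card ↥D ≤ Nat.card ↥D' := by
  obtain ⟨m, hm⟩ := Subgroup.card_dvd_of_le hle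
  have hpos : 0 < Nat.card ↥D := Nat.card_pos
  have hpos' : 0 < Nat.card ↥D' := Nat.card_pos
  have hm1 : m ≠ 1 := by
    intro h1
    apply hne
    exact Subgroup.eq_of_le_of_card_ge hle (by rw [hm, h1, mul_one])
  have hm0 : m ≠ 0 := by
    intro h0
    rw [h0, mul_zero] at hm
    omega
  have : 2 ≤ m := by omega
  rw [hm, mul_comm]
  exact Nat.mul_le_mul_left _ this

/-- (Q'') iterated fixed-point bound. -/
theorem Q2 [Finite X] : ∀ n : ℕ, ∀ (W A D : Subgroup X), IsElementaryAbelian 2 W →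
    IsElementaryAbelian 2 A → (∀ a ∈ A, ∀ w ∈ W, a * w * a⁻¹ ∈ W) → D ≤ A →
    D ≤ Subgroup.centralizer (W : Set X) → Nat.card ↥A ≤ 2 ^ n * Nat.card ↥D →
    Nat.card ↥W ≤ Nat.card ↥(W ⊓ Subgroup.centralizer (A : Set X)) ^ (2 ^ n) := by
  intro n
  induction n with
  | zero =>
    intro W A D _ _ _ hDA hDW hcard
    have hAD : D = A := Subgroup.eq_of_le_of_card_ge hDA (by simpa using hcard)
    rw [inf_centralizer_eq_self (hAD ▸ hDW)]
    simp
  | succ n ih =>
    intro W A D hW hA hAW hDA hDW hcard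
    by_cases hAD : A ≤ D
    · have hcard' : Nat.card ↥A ≤ 2 ^ n * Nat.card ↥D := by
        have h1 : Nat.card ↥A ≤ Nat.card ↥D := Nat.card_le_card_of_injective _ (Subgroup.inclusion_injective hAD)
        have h2 : 1 ≤ 2 ^ n := Nat.one_le_two_pow
        calc Nat.card ↥A ≤ 1 * Nat.card ↥D := by rw [one_mul]; exact h1
          _ ≤ 2 ^ n * Nat.card ↥D := Nat.mul_le_mul_right _ h2
      have h1 := ih W A D hW hA hAW hDA hDW hcard'
      have hpos : 0 < Nat.card ↥(W ⊓ Subgroup.centralizer (A : Set X)) := Nat.card_pos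
      exact h1.trans (Nat.pow_le_pow_right hpos (Nat.pow_le_pow_right (by norm_num) (Nat.le_succ n)))
    · obtain ⟨a, haA, haD⟩ := SetLike.not_le_iff_exists.mp hAD
      set D' : Subgroup X := D ⊔ Subgroup.zpowers a with hD'
      set W' : Subgroup X := W ⊓ Subgroup.centralizer ({a} : Set X) with hW'
      have hW'ea : IsElementaryAbelian 2 W' := isElementaryAbelian_of_le hW inf_le_left
      have hAW' : ∀ x ∈ A, ∀ w ∈ W', x * w * x⁻¹ ∈ W' := by
        intro x hx w hw
        refine Subgroup.mem_inf.mpr ⟨hAW x hx w hw.1, ?_⟩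
        rw [Subgroup.mem_centralizer_singleton_iff]
        have h1 : w * a = a * w := Subgroup.mem_centralizer_singleton_iff.mp hw.2
        have h2 : x * a = a * x := ea_comm hA hx haA
        have h3 : x⁻¹ * a = a * x⁻¹ := ea_comm hA (A.inv_mem hx) haA
        calc x * w * x⁻¹ * a = x * w * (x⁻¹ * a) := by group
          _ = x * w * (a * x⁻¹) := by rw [h3]
          _ = x * (w * a) * x⁻¹ := by group
          _ = x * (a * w) * x⁻¹ := by rw [h1]
          _ = (x * a) * w * x⁻¹ := by group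
          _ = (a * x) * w * x⁻¹ := by rw [h2]
          _ = a * (x * w * x⁻¹) := by group
      have hD'A : D' ≤ A := sup_le hDA (Subgroup.zpowers_le.mpr haA)
      have hD'W' : D' ≤ Subgroup.centralizer (W' : Set X) := by
        refine sup_le (hDW.trans (Subgroup.centralizer_le ?_)) ?_
        · exact fun w hw => hw.1
        · rw [Subgroup.zpowers_le, Subgroup.mem_centralizer_iff]
          intro w hw
          exact Subgroup.mem_centralizer_singleton_iff.mp hw.2
      have hDD' : D ≠ D' := by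
        intro h
        apply haD
        rw [h]
        exact (le_sup_right : Subgroup.zpowers a ≤ D') (Subgroup.mem_zpowers a)
      have hcard' : Nat.card ↥A ≤ 2 ^ n * Nat.card ↥D' := by
        have := two_mul_card_le (le_sup_left : D ≤ D') hDD'
        calc Nat.card ↥A ≤ 2 ^ (n + 1) * Nat.card ↥D := hcard
          _ = 2 ^ n * (2 * Nat.card ↥D) := by ring
          _ ≤ 2 ^ n * Nat.card ↥D' := Nat.mul_le_mul_left _ this
      have h1 := ih W' A D' hW'ea hA hAW' hD'A hD'W' hcard'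
      have h2 : W' ⊓ Subgroup.centralizer (A : Set X) = W ⊓ Subgroup.centralizer (A : Set X) := by
        rw [hW', inf_assoc]
        congr 1
        apply inf_eq_right.mpr
        apply Subgroup.centralizer_le
        intro y hy
        rw [Set.mem_singleton_iff] at hy
        rw [hy]; exact haA
      rw [h2] at h1
      have h3 := T1 W hW a (ea_sq hA haA) (hAW a haA)
      calc Nat.card ↥W ≤ Nat.card ↥W' ^ 2 := h3
        _ ≤ (Nat.card ↥(W ⊓ Subgroup.centralizer (A : Set X)) ^ (2 ^ n)) ^ 2 := Nat.pow_le_pow_left h1 2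
        _ = Nat.card ↥(W ⊓ Subgroup.centralizer (A : Set X)) ^ (2 ^ (n + 1)) := by
          rw [← pow_mul, pow_succ]


/-- adjoining a commuting involution to an elementary abelian 2-group -/
theorem ea_sup_zpowers {V : Subgroup X} (hV : IsElementaryAbelian 2 V) {e : X} (he2 : e * e = 1)
    (hec : ∀ v ∈ V, e * v = v * e) : IsElementaryAbelian 2 (V ⊔ Subgroup.zpowers e) := by
  have hK : V ⊔ Subgroup.zpowers e = Subgroup.closure ((V : Set X) ∪ {e}) := by
    rw [Subgroup.closure_union, Subgroup.closure_eq, Subgroup.zpowers_eq_closure]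
  have hcomm : ∀ x ∈ ((V : Set X) ∪ {e}), ∀ y ∈ ((V : Set X) ∪ {e}), x * y = y * x := by
    rintro x (hx | hx) y (hy | hy)
    · exact ea_comm hV hx hy
    · rw [Set.mem_singleton_iff] at hy; rw [hy]; exact (hec x hx).symm
    · rw [Set.mem_singleton_iff] at hx; rw [hx]; exact hec y hy
    · rw [Set.mem_singleton_iff] at hx hy; rw [hx, hy]
  have hc : IsMulCommutative ↥(Subgroup.closure ((V : Set X) ∪ {e})) :=
    Subgroup.isMulCommutative_closure hcomm
  rw [hK]
  refine ⟨hc, ?_⟩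
  intro a ha
  induction ha using Subgroup.closure_induction with
  | mem x hx =>
    rcases hx with hx | hx
    · exact hV.2 x hx
    · rw [Set.mem_singleton_iff] at hx; rw [hx, pow_two]; exact he2
  | one => exact one_pow 2
  | mul x y hx hy ihx ihy =>
    have hxy : x * y = y * x := congrArg Subtype.val (hc.is_comm.comm ⟨x, hx⟩ ⟨y, hy⟩)
    rw [(show Commute x y from hxy).mul_pow, ihx, ihy, one_mul]
  | inv x hx ihx => rw [inv_pow, ihx, inv_one]

theorem card_sup_zpowers [Finite X] {V : Subgroup X} {e : X} (he2 : e * e = 1)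
    (hec : ∀ v ∈ V, e * v = v * e) (heV : e ∉ V) :
    Nat.card ↥(V ⊔ Subgroup.zpowers e) = 2 * Nat.card ↥V := by
  have hn : Subgroup.zpowers e ≤ Subgroup.normalizer (V : Set X) := by
    rw [Subgroup.zpowers_le, Subgroup.mem_normalizer_iff]
    intro v
    have hev : ∀ v : X, v ∈ V → e * v * e⁻¹ = v := fun v hv => by rw [hec v hv]; group
    constructor
    · intro hv; rw [hev v hv]; exact hv
    · intro hv
      have h1 : e * v = (e * v * e⁻¹) * e := by group
      have h2 := hec _ hv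
      have h3 : v = e * v * e⁻¹ := by
        have : e * (e * v * e⁻¹) = e * v := by rw [h2]; group
        exact (mul_left_cancel this).symm
      rw [h3]; exact hv
  have h1 := card_sup_dvd_of_le_normalizer V (Subgroup.zpowers e) hn
  have h2 : Nat.card ↥(Subgroup.zpowers e) ∣ 2 := by
    rw [Nat.card_zpowers]
    apply orderOf_dvd_of_pow_eq_one
    rw [pow_two]; exact he2
  have h3 : Nat.card ↥(V ⊔ Subgroup.zpowers e) ∣ Nat.card ↥V * 2 := h1.trans (Nat.mul_dvd_mul_left _ h2)
  have hne : V ≠ V ⊔ Subgroup.zpowers e := by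
    intro h
    apply heV
    rw [h]
    exact (le_sup_right : Subgroup.zpowers e ≤ _) (Subgroup.mem_zpowers e)
  have h4 := two_mul_card_le (le_sup_left : V ≤ V ⊔ Subgroup.zpowers e) hne
  have hpos : 0 < Nat.card ↥V := Nat.card_pos
  have h5 := Nat.le_of_dvd (by positivity) h3
  omega

/-- (EXT) every elementary abelian subgroup of order 4 or 8 is centralized by an element of `E` outside it. -/
theorem EXT [Finite X] (hX : IsPGroup 2 X) (E : Subgroup X) [E.Normal] (hE : IsElementaryAbelian 2 E)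
    (hE32 : 32 ≤ Nat.card ↥E) (U : Subgroup X) (hU : IsElementaryAbelian 2 U)
    (hcard : Nat.card ↥U = 4 ∨ Nat.card ↥U = 8) :
    ∃ e ∈ E, e ∈ Subgroup.centralizer (U : Set X) ∧ e ∉ U := by
  by_contra hno
  push Not at hno
  set D : Subgroup X := U ⊓ E with hD
  have hCD : E ⊓ Subgroup.centralizer (U : Set X) ≤ D := by
    intro x hx
    exact ⟨hno x hx.1 hx.2, hx.1⟩
  have hcardCD : Nat.card ↥(E ⊓ Subgroup.centralizer (U : Set X)) ≤ Nat.card ↥D :=
    Nat.card_le_card_of_injective _ (Subgroup.inclusion_injective hCD)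
  have hDU : D ≤ U := inf_le_left
  have hDE : D ≤ Subgroup.centralizer (E : Set X) := by
    intro x hx
    rw [Subgroup.mem_centralizer_iff]
    intro y hy
    exact ea_comm hE hy hx.2
  have hUE : ∀ a ∈ U, ∀ w ∈ E, a * w * a⁻¹ ∈ E := fun a _ w hw => Subgroup.Normal.conj_mem inferInstance w hw a
  have key : ∀ n : ℕ, Nat.card ↥U ≤ 2 ^ n * Nat.card ↥D → 32 ≤ Nat.card ↥D ^ (2 ^ n) := by
    intro n hn
    exact hE32.trans ((Q2 n E U D hE hU hUE hDU hDE hn).trans (Nat.pow_le_pow_left hcardCD _))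
  obtain ⟨d, hd⟩ := IsPGroup.iff_card.mp (hX.to_subgroup D)
  have hdvd : Nat.card ↥D ∣ Nat.card ↥U := Subgroup.card_dvd_of_le hDU
  rcases hcard with h4 | h8
  · rw [h4, hd] at hdvd
    have hd2 : d ≤ 2 := by
      have : (2 : ℕ) ^ d ∣ 2 ^ 2 := by simpa using hdvd
      exact (Nat.pow_dvd_pow_iff_le_right (by norm_num)).mp this
    interval_cases d
    · have := key 2 (by rw [h4, hd]; norm_num)
      rw [hd] at this; norm_num at this
    · have := key 1 (by rw [h4, hd]; norm_num)
      rw [hd] at this; norm_num at this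
    · have := key 0 (by rw [h4, hd]; norm_num)
      rw [hd] at this; norm_num at this
  · rw [h8, hd] at hdvd
    have hd3 : d ≤ 3 := by
      have : (2 : ℕ) ^ d ∣ 2 ^ 3 := by simpa using hdvd
      exact (Nat.pow_dvd_pow_iff_le_right (by norm_num)).mp this
    interval_cases d
    · have := key 3 (by rw [h8, hd]; norm_num)
      rw [hd] at this; norm_num at this
    · have := key 2 (by rw [h8, hd]; norm_num)
      rw [hd] at this; norm_num at this
    · have := key 1 (by rw [h8, hd]; norm_num)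
      rw [hd] at this; norm_num at this
    · have := key 0 (by rw [h8, hd]; norm_num)
      rw [hd] at this; norm_num at this


/-- the adjacency relation of the statement -/
abbrev Adj (C D : Subgroup X) : Prop :=
  Cfsg.IsElementaryAbelian 2 C ∧ Nat.card ↥C = 8 ∧ Cfsg.IsElementaryAbelian 2 D ∧ Nat.card ↥D = 8 ∧ ⁅C, D⁆ = ⊥

theorem adj_symm {C D : Subgroup X} : Adj C D → Adj D C := by
  rintro ⟨h1, h2, h3, h4, h5⟩
  exact ⟨h3, h4, h1, h2, by rw [Subgroup.commutator_comm]; exact h5⟩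

theorem rtg_symm {A B : Subgroup X} (h : Relation.ReflTransGen (Adj (X := X)) A B) :
    Relation.ReflTransGen (Adj (X := X)) B A := by
  induction h with
  | refl => exact Relation.ReflTransGen.refl
  | tail _ hbc ih => exact Relation.ReflTransGen.head (adj_symm hbc) ih

/-- (STEP) an elementary abelian subgroup of order 8 not inside `E` is adjacent to one meeting `E`
in a bigger subgroup. -/
theorem STEP [Finite X] (hX : IsPGroup 2 X) (E : Subgroup X) [E.Normal] (hE : IsElementaryAbelian 2 E)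
    (hE32 : 32 ≤ Nat.card ↥E) (A : Subgroup X) (hA : IsElementaryAbelian 2 A) (hA8 : Nat.card ↥A = 8)
    (hAE : ¬ A ≤ E) :
    ∃ A' : Subgroup X, Adj A A' ∧ 2 * Nat.card ↥(A ⊓ E) ≤ Nat.card ↥(A' ⊓ E) := by
  haveI : Fact (Nat.Prime 2) := ⟨Nat.prime_two⟩
  obtain ⟨e, heE, heC, heA⟩ := EXT hX E hE hE32 A hA (Or.inr hA8)
  set D : Subgroup X := A ⊓ E with hD
  have hDA : D ≤ A := inf_le_left
  have hDneA : D ≠ A := by
    intro h
    apply hAE
    rw [← h]; exact inf_le_right
  obtain ⟨d, hd⟩ := IsPGroup.iff_card.mp (hX.to_subgroup D)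
  have hdvd : Nat.card ↥D ∣ Nat.card ↥A := Subgroup.card_dvd_of_le hDA
  have hd2 : d ≤ 2 := by
    rw [hA8, hd] at hdvd
    have h3 : d ≤ 3 := by
      have : (2 : ℕ) ^ d ∣ 2 ^ 3 := by simpa using hdvd
      exact (Nat.pow_dvd_pow_iff_le_right (by norm_num)).mp this
    by_contra hcon
    have hd3 : d = 3 := by omega
    apply hDneA
    exact Subgroup.eq_of_le_of_card_ge hDA (by rw [hA8, hd, hd3]; norm_num)
  -- an intermediate subgroup of order 4
  have hcardD' : Nat.card ↥(D.subgroupOf A) = 2 ^ d := by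
    rw [Nat.card_congr (Subgroup.subgroupOfEquivOfLe hDA).toEquiv, hd]
  obtain ⟨K', hK'card, hK'D⟩ := Sylow.exists_subgroup_card_pow_prime_le 2
    (show 2 ^ 2 ∣ Nat.card ↥A by rw [hA8]; norm_num) (D.subgroupOf A) hcardD' hd2
  set A₀ : Subgroup X := K'.map A.subtype with hA₀
  have hA₀A : A₀ ≤ A := Subgroup.map_subtype_le K'
  have hA₀card : Nat.card ↥A₀ = 4 := by
    rw [hA₀, Subgroup.card_map_of_injective A.subtype_injective, hK'card]; norm_num
  have hDA₀ : D ≤ A₀ := by
    intro x hx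
    exact ⟨⟨x, hDA hx⟩, hK'D (Subgroup.mem_subgroupOf.mpr hx), rfl⟩
  have hA₀ea : IsElementaryAbelian 2 A₀ := isElementaryAbelian_of_le hA hA₀A
  have he2 : e * e = 1 := ea_sq hE heE
  have hecA : ∀ v ∈ A, e * v = v * e := fun v hv => ((Subgroup.mem_centralizer_iff.mp heC) v hv).symm
  have heA₀ : e ∉ A₀ := fun h => heA (hA₀A h)
  refine ⟨A₀ ⊔ Subgroup.zpowers e, ⟨hA, hA8, ea_sup_zpowers hA₀ea he2 (fun v hv => hecA v (hA₀A hv)), ?_, ?_⟩, ?_⟩
  · rw [card_sup_zpowers he2 (fun v hv => hecA v (hA₀A hv)) heA₀, hA₀card]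
  · rw [Subgroup.commutator_eq_bot_iff_le_centralizer, Subgroup.le_centralizer_iff]
    refine sup_le ?_ ?_
    · intro x hx
      rw [Subgroup.mem_centralizer_iff]
      intro y hy
      exact ea_comm hA hy (hA₀A hx)
    · rw [Subgroup.zpowers_le]; exact heC
  · have hle : D ⊔ Subgroup.zpowers e ≤ (A₀ ⊔ Subgroup.zpowers e) ⊓ E := by
      refine le_inf (sup_le_sup_right hDA₀ _) (sup_le inf_le_right ?_)
      rw [Subgroup.zpowers_le]; exact heE
    have h1 : Nat.card ↥(D ⊔ Subgroup.zpowers e) = 2 * Nat.card ↥D :=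
      card_sup_zpowers he2 (fun v hv => hecA v (hDA hv)) (fun h => heA (hDA h))
    rw [← h1]
    exact Nat.card_le_card_of_injective _ (Subgroup.inclusion_injective hle)

/-- every elementary abelian subgroup of order 8 is connected to one inside `E`. -/
theorem chain_to_E [Finite X] (hX : IsPGroup 2 X) (E : Subgroup X) [E.Normal] (hE : IsElementaryAbelian 2 E)
    (hE32 : 32 ≤ Nat.card ↥E) : ∀ k : ℕ, ∀ A : Subgroup X, IsElementaryAbelian 2 A → Nat.card ↥A = 8 →
    8 ≤ 2 ^ k * Nat.card ↥(A ⊓ E) →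
    ∃ A' : Subgroup X, IsElementaryAbelian 2 A' ∧ Nat.card ↥A' = 8 ∧ A' ≤ E ∧
      Relation.ReflTransGen (Adj (X := X)) A A' := by
  intro k
  induction k with
  | zero =>
    intro A hA hA8 hk
    refine ⟨A, hA, hA8, ?_, Relation.ReflTransGen.refl⟩
    have : A ⊓ E = A := Subgroup.eq_of_le_of_card_ge inf_le_left (by rw [hA8]; simpa using hk)
    rw [← this]; exact inf_le_right
  | succ k ih =>
    intro A hA hA8 hk
    by_cases hAE : A ≤ E
    · exact ⟨A, hA, hA8, hAE, Relation.ReflTransGen.refl⟩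
    · obtain ⟨A', hadj, hcard⟩ := STEP hX E hE hE32 A hA hA8 hAE
      have hk' : 8 ≤ 2 ^ k * Nat.card ↥(A' ⊓ E) := by
        calc 8 ≤ 2 ^ (k + 1) * Nat.card ↥(A ⊓ E) := hk
          _ = 2 ^ k * (2 * Nat.card ↥(A ⊓ E)) := by ring
          _ ≤ 2 ^ k * Nat.card ↥(A' ⊓ E) := Nat.mul_le_mul_left _ hcard
      obtain ⟨A'', h1, h2, h3, h4⟩ := ih A' hadj.2.2.1 hadj.2.2.2.1 hk'
      exact ⟨A'', h1, h2, h3, Relation.ReflTransGen.head hadj h4⟩

end

/-- Let X be a finite 2-group having a normal elementary abelian subgroup of order at least 32. Then (a) for any two elementary abelian subgroups A, B of X of order 8 there is a chain A = A₁, A₂, …, Aₙ = B of elementary abelian subgroups of order 8 in which consecutive members commute elementwise; and (b) every elementary abelian subgroup of X of order 4 is contained in an elementary abelian subgroup of order 8. -/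
theorem result {X : Type*} [Group X] [Finite X]
    (hX : IsPGroup 2 X) (E : Subgroup X) [E.Normal] (hE : Cfsg.IsElementaryAbelian 2 E) (hE32 : 32 ≤ Nat.card ↥E) :
    (∀ A B : Subgroup X, Cfsg.IsElementaryAbelian 2 A → Nat.card ↥A = 8 → Cfsg.IsElementaryAbelian 2 B → Nat.card ↥B = 8 →
        Relation.ReflTransGen
          (fun C D : Subgroup X => Cfsg.IsElementaryAbelian 2 C ∧ Nat.card ↥C = 8 ∧ Cfsg.IsElementaryAbelian 2 D ∧ Nat.card ↥D = 8 ∧ ⁅C, D⁆ = ⊥)
          A B) ∧
      (∀ V : Subgroup X, Cfsg.IsElementaryAbelian 2 V → Nat.card ↥V = 4 →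
        ∃ A : Subgroup X, V ≤ A ∧ Cfsg.IsElementaryAbelian 2 A ∧ Nat.card ↥A = 8) := by
  refine ⟨?_, ?_⟩
  · intro A B hA hA8 hB hB8
    have hposA : 1 ≤ Nat.card ↥(A ⊓ E) := Nat.card_pos
    have hposB : 1 ≤ Nat.card ↥(B ⊓ E) := Nat.card_pos
    obtain ⟨A', hA', hA'8, hA'E, hchA⟩ := chain_to_E hX E hE hE32 3 A hA hA8 (by omega)
    obtain ⟨B', hB', hB'8, hB'E, hchB⟩ := chain_to_E hX E hE hE32 3 B hB hB8 (by omega)
    have hadj : Adj A' B' := by
      refine ⟨hA', hA'8, hB', hB'8, ?_⟩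
      rw [Subgroup.commutator_eq_bot_iff_le_centralizer]
      intro x hx
      rw [Subgroup.mem_centralizer_iff]
      intro y hy
      exact ea_comm hE (hB'E hy) (hA'E hx)
    have hchB' : Relation.ReflTransGen (Adj (X := X)) B' B := rtg_symm hchB
    exact (hchA.tail hadj).trans hchB'
  · intro V hV hV4
    obtain ⟨e, heE, heC, heV⟩ := EXT hX E hE hE32 V hV (Or.inl hV4)
    have he2 : e * e = 1 := ea_sq hE heE
    have hecV : ∀ v ∈ V, e * v = v * e := fun v hv => ((Subgroup.mem_centralizer_iff.mp heC) v hv).symm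
    refine ⟨V ⊔ Subgroup.zpowers e, le_sup_left, ea_sup_zpowers hV he2 hecV, ?_⟩
    rw [card_sup_zpowers he2 hecV heV, hV4]

end Cfsg.Agent.S1785
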