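import Cfsg.Statements.S1892
import Cfsg.Agent.Lib.Helper76_PSolvable
import Cfsg.Agent.Lib.Helper47_PLocal

set_option autoImplicit false
open Cfsg
open scoped commutatorElement

namespace Cfsg.Agent.S1892

/-- Let S be a finite p-solvable group with no nontrivial normal subgroup of order prime to p, A a p-subgroup of S, and Q a nontrivial A-invariant subgroup of order prime to p with [A, Q] = Q. Then the commutator [O_p(S), A, Q] is nontrivial. -/
theorem result {S : Type*} [Group S] [Finite S] {p : ℕ} [Fact p.Prime]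
    (hS : Cfsg.IsPSolvable p S) (hred : Cfsg.pPrimeCore p S = ⊥)
    (A Q : Subgroup S) (hA : IsPGroup p A) (hQ : ¬ p ∣ Nat.card Q) (hQ1 : Q ≠ ⊥)
    (hinv : ∀ a ∈ A, ∀ x ∈ Q, a * x * a⁻¹ ∈ Q) (hAQ : ⁅A, Q⁆ = Q) :
    ⁅⁅Cfsg.pCore p S, A⁆, Q⁆ ≠ ⊥ := by
  intro hbot
  have hUn : (Cfsg.pCore p S).Normal := Cfsg.Agent.Lib.Helper76_PSolvable.pCore_normal p
  have hUp : IsPGroup p (Cfsg.pCore p S) := Cfsg.Agent.Lib.Helper47_PLocal.pCore_isPGroup p S
  obtain ⟨U, hU⟩ : ∃ U : Subgroup S, U = Cfsg.pCore p S := ⟨_, rfl⟩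
  rw [← hU] at hbot hUn hUp
  obtain ⟨M, hM⟩ : ∃ M : Subgroup S, M = ⁅U, A⁆ := ⟨_, rfl⟩
  rw [← hM] at hbot
  have hMU : M ≤ U := by rw [hM]; exact Subgroup.commutator_le_left U A
  have hAM : A ≤ Subgroup.normalizer (M : Set S) := by
    rw [hM]; exact Cfsg.Agent.Lib.Helper47_PLocal.le_normalizer_commutator_right U A
  -- Q centralizes M
  have hQM : ∀ x ∈ Q, ∀ m ∈ M, Commute x m := by
    intro x hx m hm
    have h1 : ⁅m, x⁆ ∈ ⁅M, Q⁆ := Subgroup.commutator_mem_commutator hm hx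
    rw [hbot, Subgroup.mem_bot] at h1
    have h2 : m * x = x * m := by
      have := commutatorElement_eq_one_iff_mul_comm.mp h1
      exact this
    exact h2.symm
  have hQN : Q ≤ Subgroup.normalizer (M : Set S) := by
    intro x hx
    rw [Subgroup.mem_normalizer_iff]
    intro m
    constructor
    · intro hm
      have := (hQM x hx m hm).eq
      rw [this, mul_assoc, mul_inv_cancel, mul_one]; exact hm
    · intro hm
      have h1 := (hQM x hx _ hm).eq
      have h2 : m = x * m * x⁻¹ := by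
        have : x * (x * m * x⁻¹) = x * m := by rw [h1]; group
        have h3 : x * (x * m * x⁻¹) * x⁻¹ = x * m * x⁻¹ := by rw [this]
        have h4 : x * (x * m * x⁻¹) * x⁻¹ = x * (x * m * x⁻¹) * x⁻¹ := rfl
        have h5 : x * m * x⁻¹ * x = x * (x * m * x⁻¹) := h1.symm
        have h6 : x * m = x * (x * m * x⁻¹) := by rw [← h5]; group
        have h7 : m = x * m * x⁻¹ := mul_left_cancel h6
        exact h7
      rw [h2]; exact hm
  -- the subgroup T of elements of N(M) acting trivially on U / M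
  let T : Subgroup S :=
    { carrier := {g | g ∈ Subgroup.normalizer (M : Set S) ∧ ∀ k ∈ U, g * k * g⁻¹ * k⁻¹ ∈ M}
      one_mem' := by
        refine ⟨Subgroup.one_mem _, ?_⟩
        intro k _
        have : (1 : S) * k * 1⁻¹ * k⁻¹ = 1 := by group
        rw [this]; exact M.one_mem
      mul_mem' := by
        rintro g h ⟨hg, hg'⟩ ⟨hh, hh'⟩
        refine ⟨Subgroup.mul_mem _ hg hh, ?_⟩
        intro k hk
        have e : g * h * k * (g * h)⁻¹ * k⁻¹
            = (g * (h * k * h⁻¹ * k⁻¹) * g⁻¹) * (g * k * g⁻¹ * k⁻¹) := by group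
        rw [e]
        exact M.mul_mem ((Subgroup.mem_normalizer_iff.mp hg _).mp (hh' k hk)) (hg' k hk)
      inv_mem' := by
        rintro g ⟨hg, hg'⟩
        refine ⟨Subgroup.inv_mem _ hg, ?_⟩
        intro k hk
        have hk' : g⁻¹ * k * g ∈ U := by
          have := hUn.conj_mem k hk g⁻¹
          simpa using this
        have h1 := hg' _ hk'
        have e : g⁻¹ * k * g⁻¹⁻¹ * k⁻¹ = (g * (g⁻¹ * k * g) * g⁻¹ * (g⁻¹ * k * g)⁻¹)⁻¹ := by group
        rw [e]; exact M.inv_mem h1 }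
  have hTmem : ∀ g, g ∈ T ↔ g ∈ Subgroup.normalizer (M : Set S) ∧ ∀ k ∈ U, g * k * g⁻¹ * k⁻¹ ∈ M :=
    fun g => Iff.rfl
  have hAT : A ≤ T := by
    intro a ha
    rw [hTmem]
    refine ⟨hAM ha, ?_⟩
    intro k hk
    have h1 : ⁅k, a⁆ ∈ ⁅U, A⁆ := Subgroup.commutator_mem_commutator hk ha
    have e : a * k * a⁻¹ * k⁻¹ = ⁅k, a⁆⁻¹ := by
      rw [commutatorElement_def]; group
    rw [e, hM]; exact Subgroup.inv_mem _ h1
  -- T is normalized by N(M)
  have hTconj : ∀ g ∈ T, ∀ x ∈ Subgroup.normalizer (M : Set S), x * g * x⁻¹ ∈ T := by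
    intro g hg x hx
    rw [hTmem] at hg ⊢
    obtain ⟨hg1, hg2⟩ := hg
    refine ⟨Subgroup.mul_mem _ (Subgroup.mul_mem _ hx hg1) (Subgroup.inv_mem _ hx), ?_⟩
    intro k hk
    have hk' : x⁻¹ * k * x ∈ U := by
      have := hUn.conj_mem k hk x⁻¹
      simpa using this
    have h1 := hg2 _ hk'
    have e : x * g * x⁻¹ * k * (x * g * x⁻¹)⁻¹ * k⁻¹
        = x * (g * (x⁻¹ * k * x) * g⁻¹ * (x⁻¹ * k * x)⁻¹) * x⁻¹ := by group
    rw [e]
    exact (Subgroup.mem_normalizer_iff.mp hx _).mp h1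
  have hQT : Q ≤ T := by
    rw [← hAQ, Subgroup.commutator_le]
    intro a ha x hx
    have h1 : x * a⁻¹ * x⁻¹ ∈ T := hTconj _ (T.inv_mem (hAT ha)) x (hQN hx)
    have e : ⁅a, x⁆ = a * (x * a⁻¹ * x⁻¹) := by rw [commutatorElement_def]; group
    rw [e]; exact T.mul_mem (hAT ha) h1
  -- Q centralizes U
  have hQU : Q ≤ Subgroup.centralizer (U : Set S) := by
    intro x hx
    have hxo : (orderOf x).Coprime p := by
      have h1 : orderOf x ∣ Nat.card Q := by
        have := Subgroup.orderOf_dvd_natCard Q hx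
        exact this
      have hp : p.Prime := Fact.out
      have : ¬ p ∣ orderOf x := fun h => hQ (dvd_trans h h1)
      exact ((Nat.Prime.coprime_iff_not_dvd hp).mpr this).symm
    have h2 := Cfsg.Agent.Lib.Helper47_PLocal.commute_of_coprime_of_commutator_mem U M x hxo
      (by
        intro r hr
        have := ((hTmem x).mp (hQT hx)).2 r hr
        have e : ⁅r, x⁆ = (x * r * x⁻¹ * r⁻¹)⁻¹ := by rw [commutatorElement_def]; group
        rw [e]; exact M.inv_mem this)
      (fun c hc => hQM x hx c hc)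
      (fun c hc => Cfsg.Agent.Lib.Helper47_PLocal.orderOf_eq_pow_of_mem hUp (hMU hc))
    rw [Subgroup.mem_centralizer_iff]
    intro r hr
    exact ((h2 r hr).eq).symm
  have hcent := Cfsg.Agent.Lib.Helper76_PSolvable.centralizer_pCore_le p hS hred
  rw [← hU] at hcent
  have hQleU : Q ≤ U := le_trans hQU hcent
  have hQp : IsPGroup p Q := hUp.to_le hQleU
  obtain ⟨k, hk⟩ := IsPGroup.iff_card.mp hQp
  have hk0 : k = 0 := by
    by_contra hne
    apply hQ
    rw [hk]
    exact dvd_pow_self p hne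
  rw [hk0, pow_zero] at hk
  exact hQ1 (Subgroup.card_eq_one.mp hk)

end Cfsg.Agent.S1892
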