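import Cfsg.Statements.S1893
import Mathlib
import Cfsg.Agent.Lib.Helper10_QuadFit
import Cfsg.Agent.Lib.Helper32_Cores
-- import your own Cfsg.Agent.* helpers here

set_option autoImplicit false
open Cfsg

namespace Cfsg.Agent.S1893

theorem nilpotent_of_injective {K L : Type*} [Group K] [Group L] (f : K →* L)
    (hf : Function.Injective f) (hL : Group.IsNilpotent L) : Group.IsNilpotent K := by
  have : Group.IsNilpotent f.range := Subgroup.isNilpotent _
  exact Group.nilpotent_of_mulEquiv (MonoidHom.ofInjective hf).symm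

/-- Subgroups whose orders have disjoint prime divisors intersect trivially. -/
theorem inf_eq_bot_of_primes {G : Type*} [Group G] [Finite G] (π : Set ℕ) (H K : Subgroup G)
    (hH : ∀ p : ℕ, p.Prime → p ∣ Nat.card H → p ∈ π)
    (hK : ∀ p : ℕ, p.Prime → p ∣ Nat.card K → p ∈ πᶜ) : H ⊓ K = ⊥ := by
  rw [← Subgroup.card_eq_one, Nat.eq_one_iff_not_exists_prime_dvd]
  intro p hp hdvd
  have h1 : p ∈ π := hH p hp (hdvd.trans (Subgroup.card_dvd_of_le inf_le_left))
  have h2 : p ∈ πᶜ := hK p hp (hdvd.trans (Subgroup.card_dvd_of_le inf_le_right))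
  exact h2 h1

/-- A normal `q`-subgroup lies in every subgroup of index prime to `q`. -/
theorem normal_pgroup_le {G : Type*} [Group G] [Finite G] {q : ℕ} [Fact q.Prime]
    (N : Subgroup G) [N.Normal] (hN : IsPGroup q N) (H : Subgroup G) (hH : ¬ q ∣ H.index) :
    N ≤ H := by
  rw [← Subgroup.relIndex_eq_one]
  have h1 : H.relIndex N ∣ H.index :=
    Cfsg.Agent.Lib.Helper71_Fitting.relIndex_dvd_index_of_normal_right H N
  have h2 : H.relIndex N ∣ Nat.card N := Subgroup.relIndex_dvd_card H N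
  obtain ⟨m, hm⟩ := IsPGroup.iff_card.mp hN
  rw [hm] at h2
  obtain ⟨i, _, hi⟩ := (Nat.dvd_prime_pow (Fact.out : q.Prime)).mp h2
  rcases Nat.eq_zero_or_pos i with h0 | hpos
  · rw [hi, h0, pow_zero]
  · exfalso
    apply hH
    refine dvd_trans ?_ h1
    rw [hi]
    exact dvd_pow_self q hpos.ne'

/-- Let S be a finite solvable group, π a set of primes containing neither 2 nor 3, H a Hall π-subgroup of S, and A a self-centralizing normal subgroup of the Fitting subgroup F(H). Then C_S(A) = A × D for a normal subgroup D of C_S(A) whose order has no prime divisor in π. -/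
theorem result {S : Type*} [Group S] [Finite S] [Group.IsSolvable S]
    (π : Set ℕ) (h2 : 2 ∉ π) (h3 : 3 ∉ π) (H : Subgroup S) (hH : Cfsg.IsPiHall π H)
    (A : Subgroup S) (hA : Cfsg.IsSCN ((Cfsg.fittingSubgroup H).map H.subtype) A) :
    ∃ D : Subgroup S, D ≤ Subgroup.centralizer (A : Set S) ∧
      (∀ c ∈ Subgroup.centralizer (A : Set S), ∀ d ∈ D, c * d * c⁻¹ ∈ D) ∧
      A ⊓ D = ⊥ ∧ A ⊔ D = Subgroup.centralizer (A : Set S) ∧
      ∀ q : ℕ, q.Prime → q ∣ Nat.card D → q ∉ π := by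
  classical
  obtain ⟨hHπ, hHidx⟩ := hH
  obtain ⟨hAF, hFN, hAC⟩ := hA
  obtain ⟨K, hK⟩ : ∃ K : Subgroup S, K = Cfsg.piCore πᶜ S := ⟨_, rfl⟩
  have hKn : K.Normal := by rw [hK]; infer_instance
  have hKπ : ∀ q : ℕ, q.Prime → q ∣ Nat.card K → q ∈ πᶜ := by
    rw [hK]; exact Cfsg.Agent.Lib.Helper32_Cores.card_piCore πᶜ
  have hHK : H ⊓ K = ⊥ := inf_eq_bot_of_primes π H K hHπ hKπ
  have hFH : (Cfsg.fittingSubgroup H).map H.subtype ≤ H := Subgroup.map_subtype_le _
  have hAH : A ≤ H := hAF.trans hFH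
  have f0 : A ≤ Subgroup.centralizer (A : Set S) := by
    intro a ha
    rw [← hAC] at ha
    exact (Subgroup.mem_inf.mp ha).2
  -- the quotient by `K = O_{π'}(S)`
  obtain ⟨mk, hmk⟩ : ∃ mk : S →* S ⧸ K, mk = QuotientGroup.mk' K := ⟨_, rfl⟩
  have hmks : Function.Surjective mk := by rw [hmk]; exact QuotientGroup.mk'_surjective K
  have hker : ∀ x : S, mk x = 1 ↔ x ∈ K := fun x => by
    rw [hmk, QuotientGroup.mk'_apply, QuotientGroup.eq_one_iff]
  -- `O_q(S/K) = 1` for `q ∉ π`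
  have hπ : ∀ q : ℕ, q.Prime → q ∉ π → pCore q (S ⧸ K) = ⊥ := by
    intro q hq hqπ
    have : Fact q.Prime := ⟨hq⟩
    have hbot : Cfsg.piCore πᶜ (S ⧸ K) = ⊥ := by
      subst hK; exact Cfsg.Agent.Lib.Helper32_Cores.piCore_quotient_eq_bot πᶜ
    rw [eq_bot_iff, ← hbot]
    apply Cfsg.Agent.Lib.Helper32_Cores.le_piCore (Cfsg.Agent.Lib.Helper1_Cores.pCore_normal q)
    intro p hp hpd
    obtain ⟨m, hm⟩ := IsPGroup.iff_card.mp
      (Cfsg.Agent.Lib.Helper1_Cores.pCore_isPGroup (G := S ⧸ K) q)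
    rw [hm] at hpd
    have : p = q := (Nat.prime_dvd_prime_iff_eq hp hq).mp (hp.dvd_of_dvd_pow hpd)
    rw [this]; exact hqπ
  -- `φ : H → S/K` is injective
  obtain ⟨φ, hφ⟩ : ∃ φ : H →* S ⧸ K, φ = mk.comp H.subtype := ⟨_, rfl⟩
  have hφa : ∀ x : H, φ x = mk (x : S) := fun x => by rw [hφ]; rfl
  have hφinj : Function.Injective φ := by
    rw [injective_iff_map_eq_one]
    intro x hx
    rw [hφa] at hx
    have h1 : (x : S) ∈ K := (hker _).mp hx
    have h2 : (x : S) ∈ H ⊓ K := Subgroup.mem_inf.mpr ⟨x.2, h1⟩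
    rw [hHK, Subgroup.mem_bot] at h2
    exact Subtype.ext h2
  obtain ⟨F₁, hF₁⟩ : ∃ F₁ : Subgroup (S ⧸ K),
      F₁ = ((Cfsg.fittingSubgroup H).map H.subtype).map mk := ⟨_, rfl⟩
  have hF₁' : F₁ = (Cfsg.fittingSubgroup H).map φ := by rw [hF₁, hφ, Subgroup.map_map]
  have hF₁nil : Group.IsNilpotent F₁ := by
    rw [hF₁']
    have := Cfsg.Agent.Lib.Helper1_Cores.fittingSubgroup_isNilpotent (G := H)
    exact Group.nilpotent_of_surjective (φ.subgroupMap _) (φ.subgroupMap_surjective _)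
  -- `F(S/K) ≤ HK/K`
  have hHbar : ∀ q : ℕ, q.Prime → q ∈ π → ¬ q ∣ (H.map mk).index := by
    intro q hq hqπ hd
    apply hHidx q hq hqπ
    have h1 : (H.map mk).index = (H ⊔ K).index := by
      rw [Subgroup.index_map, hmk, QuotientGroup.ker_mk',
        MonoidHom.range_eq_top.mpr (QuotientGroup.mk'_surjective K), Subgroup.index_top, mul_one]
    rw [h1] at hd
    exact hd.trans (Subgroup.index_dvd_of_le le_sup_left)
  have hFXH : Cfsg.fittingSubgroup (S ⧸ K) ≤ H.map mk := by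
    rw [Cfsg.Agent.Lib.Helper1_Cores.fittingSubgroup_eq_iSup_pCore]
    refine iSup_le (fun q => ?_)
    have : Fact (q : ℕ).Prime := ⟨q.2⟩
    by_cases hqπ : (q : ℕ) ∈ π
    · haveI := Cfsg.Agent.Lib.Helper1_Cores.pCore_normal (G := S ⧸ K) (q : ℕ)
      exact normal_pgroup_le _ (Cfsg.Agent.Lib.Helper1_Cores.pCore_isPGroup _) _
        (hHbar q q.2 hqπ)
    · rw [hπ q q.2 hqπ]; exact bot_le
  have hFF : Cfsg.fittingSubgroup (S ⧸ K) ≤ F₁ := by
    obtain ⟨N₀, hN₀⟩ : ∃ N₀ : Subgroup H, N₀ = (Cfsg.fittingSubgroup (S ⧸ K)).comap φ :=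
      ⟨_, rfl⟩
    have hN₀n : N₀.Normal := by
      rw [hN₀]
      exact Subgroup.Normal.comap (Cfsg.Agent.Lib.Helper1_Cores.fittingSubgroup_normal) φ
    have hN₀nil : Group.IsNilpotent N₀ := by
      rw [hN₀]
      have := Cfsg.Agent.Lib.Helper1_Cores.fittingSubgroup_isNilpotent (G := S ⧸ K)
      refine nilpotent_of_injective (φ.subgroupComap _) ?_ inferInstance
      intro x y hxy
      apply Subtype.ext
      apply hφinj
      exact congrArg Subtype.val hxy
    have hN₀F : N₀ ≤ Cfsg.fittingSubgroup H :=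
      Cfsg.Agent.Lib.Helper1_Cores.le_fittingSubgroup hN₀n hN₀nil
    rw [hF₁']
    intro x hx
    obtain ⟨h, hh, rfl⟩ := Subgroup.mem_map.mp (hFXH hx)
    refine Subgroup.mem_map.mpr ⟨⟨h, hh⟩, hN₀F ?_, ?_⟩
    · rw [hN₀, Subgroup.mem_comap, hφa]; exact hx
    · rw [hφa]
  -- the image of `A` is in `SCN(F₁)`
  have hSCN : Cfsg.IsSCN F₁ (A.map mk) := by
    rw [hF₁]
    refine ⟨Subgroup.map_mono hAF, ?_, ?_⟩
    · exact (Subgroup.map_mono hFN).trans (Subgroup.le_normalizer_map mk)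
    · apply le_antisymm
      · intro x hx
        obtain ⟨hx1, hx2⟩ := Subgroup.mem_inf.mp hx
        obtain ⟨f, hf, rfl⟩ := Subgroup.mem_map.mp hx1
        have hfH : f ∈ H := hFH hf
        have hfc : f ∈ Subgroup.centralizer (A : Set S) := by
          rw [Subgroup.mem_centralizer_iff]
          intro a ha
          rw [Subgroup.mem_centralizer_iff] at hx2
          have h1 := hx2 (mk a) (Subgroup.mem_map_of_mem mk ha)
          have h2 : mk (a * f * (f * a)⁻¹) = 1 := by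
            rw [map_mul, map_inv, map_mul, map_mul, h1]; group
          have h3 : a * f * (f * a)⁻¹ ∈ K := (hker _).mp h2
          have h4 : a * f * (f * a)⁻¹ ∈ H :=
            H.mul_mem (H.mul_mem (hAH ha) hfH) (H.inv_mem (H.mul_mem hfH (hAH ha)))
          have h5 : a * f * (f * a)⁻¹ ∈ H ⊓ K := Subgroup.mem_inf.mpr ⟨h4, h3⟩
          rw [hHK, Subgroup.mem_bot] at h5
          exact mul_inv_eq_one.mp h5
        have : f ∈ A := by rw [← hAC]; exact Subgroup.mem_inf.mpr ⟨hf, hfc⟩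
        exact Subgroup.mem_map_of_mem mk this
      · apply le_inf (Subgroup.map_mono hAF)
        intro x hx
        obtain ⟨a, ha, rfl⟩ := Subgroup.mem_map.mp hx
        rw [Subgroup.mem_centralizer_iff]
        intro y hy
        obtain ⟨b, hb, rfl⟩ := Subgroup.mem_map.mp hy
        have := f0 ha
        rw [Subgroup.mem_centralizer_iff] at this
        rw [← map_mul, ← map_mul, this b hb]
  have hT := Cfsg.Agent.Lib.Helper10_QuadFit.centralizer_scn_le π h2 h3 hπ F₁ hF₁nil hFF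
    (A.map mk) hSCN
  -- the conclusion
  refine ⟨K ⊓ Subgroup.centralizer (A : Set S), inf_le_right, ?_, ?_, ?_, ?_⟩
  · intro c hc d hd
    obtain ⟨hd1, hd2⟩ := Subgroup.mem_inf.mp hd
    exact Subgroup.mem_inf.mpr ⟨hKn.conj_mem d hd1 c,
      Subgroup.mul_mem _ (Subgroup.mul_mem _ hc hd2) (Subgroup.inv_mem _ hc)⟩
  · rw [eq_bot_iff, ← hHK]
    exact inf_le_inf hAH inf_le_left
  · apply le_antisymm (sup_le f0 inf_le_right)
    intro c hc
    have h1 : mk c ∈ Subgroup.centralizer ((A.map mk : Subgroup (S ⧸ K)) : Set (S ⧸ K)) := by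
      rw [Subgroup.mem_centralizer_iff]
      intro y hy
      obtain ⟨b, hb, rfl⟩ := Subgroup.mem_map.mp hy
      rw [Subgroup.mem_centralizer_iff] at hc
      rw [← map_mul, ← map_mul, hc b hb]
    obtain ⟨a, ha, hac⟩ := Subgroup.mem_map.mp (hT h1)
    have h2 : a⁻¹ * c ∈ K := by
      rw [← hker, map_mul, map_inv, hac, inv_mul_cancel]
    have h3 : a⁻¹ * c ∈ Subgroup.centralizer (A : Set S) :=
      Subgroup.mul_mem _ (Subgroup.inv_mem _ (f0 ha)) hc
    have h4 : c = a * (a⁻¹ * c) := by group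
    rw [h4]
    exact Subgroup.mul_mem_sup ha (Subgroup.mem_inf.mpr ⟨h2, h3⟩)
  · intro q hq hqd hqπ
    exact hKπ q hq (hqd.trans (Subgroup.card_dvd_of_le inf_le_left)) hqπ

end Cfsg.Agent.S1893
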