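import Mathlib
import Cfsg.Statements.S1894
import Cfsg.Agent.Lib.Helper32_PGroup

set_option autoImplicit false
open Cfsg

namespace Cfsg.Agent.S1894

open Cfsg.Agent.Lib.Helper32_PGroup

/-- Let P be a finite p-group, A a normal subgroup of P and B an abelian subgroup of A that is normal in P. Then some subgroup C of A containing B is normal in P and is self-centralizing and normal in A (C ∈ SCN(A)). -/
theorem result {P : Type*} [Group P] [Finite P] {p : ℕ} [Fact p.Prime] (hP : IsPGroup p P)
    (A : Subgroup P) [A.Normal] (B : Subgroup P) [B.Normal] (hBA : B ≤ A) (hB : IsMulCommutative B) :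
    ∃ C : Subgroup P, C.Normal ∧ B ≤ C ∧ Cfsg.IsSCN A C := by
  classical
  let 𝒮 : Set (Subgroup P) := {C | C.Normal ∧ B ≤ C ∧ C ≤ A ∧ IsMulCommutative C}
  have hfin : 𝒮.Finite := Set.toFinite _
  have hne : 𝒮.Nonempty := ⟨B, inferInstance, le_refl _, hBA, hB⟩
  obtain ⟨C, hC𝒮, hCmax⟩ := hfin.exists_maximal hne
  obtain ⟨hCn, hBC, hCA, hCab⟩ := hC𝒮
  refine ⟨C, hCn, hBC, hCA, ?_, ?_⟩
  · rw [Subgroup.normalizer_eq_top]; exact le_top
  · have hCcent : C ≤ Subgroup.centralizer (C : Set P) := Subgroup.le_centralizer_iff_isMulCommutative.mpr hCab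
    apply le_antisymm _ (le_inf hCA hCcent)
    by_contra hnot
    set D := A ⊓ Subgroup.centralizer (C : Set P) with hD
    have hDn : D.Normal := inferInstance
    let π := QuotientGroup.mk' C
    have hπD : D.map π ≠ ⊥ := by
      intro h
      apply hnot
      have h2 := (Subgroup.map_eq_bot_iff D (f := π)).mp h
      rwa [QuotientGroup.ker_mk'] at h2
    have hDmapn : (D.map π).Normal := Subgroup.Normal.map hDn π (QuotientGroup.mk'_surjective C)
    have hPq : IsPGroup p (P ⧸ C) := hP.to_quotient C
    obtain ⟨z, hzD, hzc, hz1⟩ := exists_mem_center_of_normal hPq (D.map π) hπD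
    obtain ⟨x, hxD, rfl⟩ := hzD
    have hxC : x ∉ C := by
      intro h
      apply hz1
      exact (QuotientGroup.eq_one_iff x).mpr h
    have hxcent : x ∈ Subgroup.centralizer (C : Set P) := hxD.2
    let C' := Subgroup.zpowers x ⊔ C
    have hC'eq : C' = ((Subgroup.zpowers x).map π).comap π := by
      rw [Subgroup.comap_map_eq, QuotientGroup.ker_mk']
    have hzn : ((Subgroup.zpowers x).map π).Normal := by
      rw [MonoidHom.map_zpowers]
      apply normal_of_le_center
      rw [Subgroup.zpowers_le]; exact hzc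
    have hC'n : C'.Normal := by rw [hC'eq]; infer_instance
    have hzx : Subgroup.zpowers x ≤ Subgroup.centralizer (C : Set P) := by
      rw [Subgroup.zpowers_le]; exact hxcent
    have hzxab : Subgroup.zpowers x ≤ Subgroup.centralizer (Subgroup.zpowers x : Set P) :=
      Subgroup.le_centralizer_iff_isMulCommutative.mpr inferInstance
    have hC'ab : IsMulCommutative C' := by
      rw [← Subgroup.le_centralizer_iff_isMulCommutative]
      apply sup_le
      · rw [Subgroup.le_centralizer_iff]
        exact sup_le hzxab (Subgroup.le_centralizer_iff.mp hzx)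
      · rw [Subgroup.le_centralizer_iff]
        exact sup_le hzx hCcent
    have hC'A : C' ≤ A := sup_le (by rw [Subgroup.zpowers_le]; exact hxD.1) hCA
    have hC'𝒮 : C' ∈ 𝒮 := ⟨hC'n, le_trans hBC le_sup_right, hC'A, hC'ab⟩
    have hle : C ≤ C' := le_sup_right
    have := hCmax hC'𝒮 hle
    exact hxC (this (Subgroup.mem_sup_left (Subgroup.mem_zpowers x)))

end Cfsg.Agent.S1894
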