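import Cfsg.Statements.S1895
import Cfsg.Agent.Lib.Helper32_ChiefRankTwo

set_option autoImplicit false
open Cfsg

namespace Cfsg.Agent.S1895

/-- Let p be an odd prime and G a finite p-solvable group with no elementary abelian subgroup of order p³. Then every chief factor H/K of G (H, K normal in G with no normal subgroup of G strictly between them) whose order is a power of p has order p or p². -/
theorem result {G : Type*} [Group G] [Finite G] {p : ℕ} [Fact p.Prime] (hp : p ≠ 2)
    (hG : Cfsg.IsPSolvable p G) (hr : Cfsg.PRankLE p 2 G)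
    (H K : Subgroup G) [H.Normal] [K.Normal] (hKH : K < H) (hpow : ∃ n : ℕ, K.relIndex H = p ^ n)
    (hchief : ∀ L : Subgroup G, L.Normal → K ≤ L → L ≤ H → L = K ∨ L = H) :
    K.relIndex H = p ∨ K.relIndex H = p ^ 2 := by
  classical
  have hpP : p.Prime := Fact.out
  obtain ⟨n, hn⟩ := hpow
  -- a Sylow `p`-subgroup of `H`
  obtain ⟨S⟩ : Nonempty (Sylow p ↥H) := inferInstance
  set P0 : Subgroup G := (S : Subgroup ↥H).map H.subtype with hP0
  have hP0H : P0 ≤ H := by
    rintro _ ⟨x, -, rfl⟩
    exact x.2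
  have hP0p : IsPGroup p ↥P0 := S.isPGroup'.map H.subtype
  have hfrat : Subgroup.normalizer (P0 : Set G) ⊔ H = ⊤ := Sylow.normalizer_sup_eq_top S
  set N : Subgroup G := Subgroup.normalizer (P0 : Set G) with hN
  have hP0N : P0 ≤ N := Subgroup.le_normalizer
  -- `P0 K = H`
  have hsub : P0.subgroupOf H = (S : Subgroup ↥H) :=
    Subgroup.comap_map_eq_self_of_injective H.subtype_injective _
  have hidx : ¬ p ∣ P0.relIndex H := by
    rw [Subgroup.relIndex, hsub]
    exact S.not_dvd_index
  have hsup : P0 ⊔ K = H := by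
    apply le_antisymm (sup_le hP0H hKH.le)
    rw [← Subgroup.relIndex_eq_one]
    have h1 : (P0 ⊔ K).relIndex H ∣ K.relIndex H := Subgroup.relIndex_dvd_of_le_left H le_sup_right
    have h2 : (P0 ⊔ K).relIndex H ∣ P0.relIndex H := Subgroup.relIndex_dvd_of_le_left H le_sup_left
    rw [hn] at h1
    obtain ⟨i, -, hi⟩ := (Nat.dvd_prime_pow hpP).mp h1
    rcases i with _ | i
    · simpa using hi
    · exfalso
      apply hidx
      apply dvd_trans _ h2
      rw [hi, pow_succ]
      exact dvd_mul_left p _
  have hrel : K.relIndex H = (P0 ⊓ K).relIndex P0 := by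
    rw [← hsup, Subgroup.relIndex_sup_right, Subgroup.inf_relIndex_left]
  -- the setting inside `N`
  set P : Subgroup ↥N := P0.subgroupOf N with hP
  set K0 : Subgroup ↥N := P0.subgroupOf N ⊓ K.subgroupOf N with hK0
  have hK0eq : K0 = (P0 ⊓ K).subgroupOf N := by
    ext x
    simp [hK0, Subgroup.mem_subgroupOf]
  have hPn : P.Normal := Subgroup.normal_in_normalizer
  have hK0n : K0.Normal := by
    have : (K.subgroupOf N).Normal := inferInstance
    exact Subgroup.normal_inf_normal _ _
  have hset : Cfsg.Agent.Lib.Helper32_ChiefRankTwo.Setting p P K0 := by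
    refine ⟨hPn, hK0n, hP0p.comap_subtype, ?_, ?_, ?_⟩
    · -- `K0 < P`
      apply lt_of_le_of_ne inf_le_left
      intro heq
      have heq' : K0 = P := heq
      have h1 : P0 ≤ K := by
        intro x hx
        have h2 : (⟨x, hP0N hx⟩ : ↥N) ∈ P := Subgroup.mem_subgroupOf.mpr hx
        rw [← heq'] at h2
        exact Subgroup.mem_subgroupOf.mp (Subgroup.mem_inf.mp h2).2
      have h3 : H ≤ K := by
        rw [← hsup]
        exact sup_le h1 le_rfl
      exact hKH.not_ge h3
    · -- rank
      intro A _ hAc hAe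
      have h1 : IsMulCommutative ↥(A.map N.subtype) := by
        refine ⟨⟨?_⟩⟩
        rintro ⟨_, ⟨a, ha, rfl⟩⟩ ⟨_, ⟨b, hb, rfl⟩⟩
        apply Subtype.ext
        have := congrArg Subtype.val (hAc a ha b hb)
        simpa using this
      have h2 : ∀ x ∈ A.map N.subtype, x ^ p = 1 := by
        rintro _ ⟨a, ha, rfl⟩
        have := congrArg Subtype.val (hAe a ha)
        simpa using this
      have h3 := hr (A.map N.subtype) h1 h2
      rwa [Subgroup.card_map_of_injective N.subtype_injective] at h3
    · -- chief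
      intro L hLn hKL hLP
      set L' : Subgroup G := L.map N.subtype with hL'
      have hL'P0 : L' ≤ P0 := by
        rintro _ ⟨x, hx, rfl⟩
        exact Subgroup.mem_subgroupOf.mp (hLP hx)
      set M : Subgroup G := L' ⊔ K with hM
      have hconj : ∀ g ∈ N, ∀ m ∈ M, g * m * g⁻¹ ∈ M := by
        intro g hg m hm
        rw [hM, Subgroup.mem_sup_of_normal_right] at hm
        obtain ⟨l, hl, k, hk, rfl⟩ := hm
        obtain ⟨l0, hl0, rfl⟩ := hl
        have h1 : (⟨g, hg⟩ : ↥N) * l0 * (⟨g, hg⟩ : ↥N)⁻¹ ∈ L := hLn.conj_mem l0 hl0 _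
        have h2 : g * (l0 : G) * g⁻¹ ∈ L' := ⟨_, h1, by simp⟩
        have h3 : g * k * g⁻¹ ∈ K := ‹K.Normal›.conj_mem k hk g
        have h4 : g * ((l0 : G) * k) * g⁻¹ = (g * (l0 : G) * g⁻¹) * (g * k * g⁻¹) := by group
        show g * (N.subtype l0 * k) * g⁻¹ ∈ M
        rw [Subgroup.coe_subtype, h4]
        exact Subgroup.mul_mem _ (Subgroup.mem_sup_left h2) (Subgroup.mem_sup_right h3)
      have hNM : N ≤ Subgroup.normalizer (M : Set G) := by
        intro g hg
        rw [Subgroup.mem_normalizer_iff]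
        intro m
        constructor
        · exact hconj g hg m
        · intro hm
          have := hconj g⁻¹ (N.inv_mem hg) _ hm
          have h5 : g⁻¹ * (g * m * g⁻¹) * g⁻¹⁻¹ = m := by group
          rwa [h5] at this
      have hKM : K ≤ Subgroup.normalizer (M : Set G) := le_sup_right.trans Subgroup.le_normalizer
      have hMn : M.Normal := by
        rw [← Subgroup.normalizer_eq_top_iff, eq_top_iff, ← hfrat]
        apply sup_le hNM
        rw [← hsup]
        exact sup_le (hP0N.trans hNM) hKM
      have hMH : M ≤ H := sup_le (hL'P0.trans hP0H) hKH.le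
      rcases hchief M hMn le_sup_right hMH with h1 | h1
      · left
        apply le_antisymm _ hKL
        intro x hx
        have hxL' : (x : G) ∈ L' := ⟨x, hx, rfl⟩
        have hxK : (x : G) ∈ K := by
          rw [← h1]
          exact Subgroup.mem_sup_left hxL'
        exact Subgroup.mem_inf.mpr ⟨Subgroup.mem_subgroupOf.mpr (hL'P0 hxL'),
          Subgroup.mem_subgroupOf.mpr hxK⟩
      · right
        apply le_antisymm hLP
        intro x hx
        have hxP0 : (x : G) ∈ P0 := Subgroup.mem_subgroupOf.mp hx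
        have hxM : (x : G) ∈ L' ⊔ K := by
          rw [← hM, h1]
          exact hP0H hxP0
        rw [Subgroup.mem_sup_of_normal_right] at hxM
        obtain ⟨l, hl, k, hk, hlk⟩ := hxM
        obtain ⟨l0, hl0, rfl⟩ := hl
        have hkP0 : k ∈ P0 := by
          have : k = (l0 : G)⁻¹ * (x : G) := by rw [← hlk]; simp
          rw [this]
          exact P0.mul_mem (P0.inv_mem (hL'P0 ⟨l0, hl0, rfl⟩)) hxP0
        have hkL : (⟨k, hP0N hkP0⟩ : ↥N) ∈ L := by
          apply hKL
          exact Subgroup.mem_inf.mpr ⟨Subgroup.mem_subgroupOf.mpr hkP0,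
            Subgroup.mem_subgroupOf.mpr hk⟩
        have : x = l0 * ⟨k, hP0N hkP0⟩ := Subtype.ext (by simpa using hlk.symm)
        rw [this]
        exact L.mul_mem hl0 hkL
  have hmain := hset.relIndex_le hp
  have hrel2 : K0.relIndex P = (P0 ⊓ K).relIndex P0 := by
    rw [hK0eq, hP]
    exact Subgroup.relIndex_subgroupOf hP0N
  rw [hrel2, ← hrel, hn] at hmain
  have hn0 : n ≠ 0 := by
    intro h0
    rw [h0, pow_zero, Subgroup.relIndex_eq_one] at hn
    exact hKH.not_ge hn
  have hn2 : n ≤ 2 := (Nat.pow_le_pow_iff_right hpP.one_lt).mp hmain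
  rw [hn]
  rcases (by omega : n = 1 ∨ n = 2) with h1 | h1
  · left; rw [h1, pow_one]
  · right; rw [h1]

end Cfsg.Agent.S1895
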