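import Cfsg.Statements.S4211
import Cfsg.Agent.Lib.Helper50_UniqueInv

set_option autoImplicit false
open Cfsg

namespace Cfsg.Agent.S4211

section basic
variable {K : Type*} [Group K]

theorem pow_mul_comm_of (x y c : K) (h : x * y = c * y * x) (hcx : Commute c x) (_hcy : Commute c y) :
    ∀ n : ℕ, x ^ n * y = c ^ n * y * x ^ n := by
  intro n
  induction n with
  | zero => simp
  | succ n ih =>
    calc x ^ (n + 1) * y = x * (x ^ n * y) := by rw [pow_succ', mul_assoc]
      _ = x * (c ^ n * y * x ^ n) := by rw [ih]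
      _ = c ^ n * (x * y) * x ^ n := by
        have : Commute x (c ^ n) := (hcx.symm).pow_right n
        rw [← mul_assoc, ← mul_assoc, this.eq, mul_assoc (c ^ n)]
      _ = c ^ n * (c * y * x) * x ^ n := by rw [h]
      _ = c ^ (n + 1) * y * x ^ (n + 1) := by
        rw [pow_succ, pow_succ']; simp only [mul_assoc]

theorem mul_pow_comm_of (x y c : K) (h : x * y = c * y * x) (_hcx : Commute c x) (hcy : Commute c y) :
    ∀ n : ℕ, x * y ^ n = c ^ n * y ^ n * x := by
  intro n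
  induction n with
  | zero => simp
  | succ n ih =>
    calc x * y ^ (n + 1) = (x * y ^ n) * y := by rw [pow_succ, mul_assoc]
      _ = c ^ n * y ^ n * x * y := by rw [ih]
      _ = c ^ n * y ^ n * (x * y) := by simp only [mul_assoc]
      _ = c ^ n * y ^ n * (c * y * x) := by rw [h]
      _ = c ^ (n + 1) * y ^ (n + 1) * x := by
        have h1 : Commute (y ^ n) c := (hcy.symm).pow_left n
        calc c ^ n * y ^ n * (c * y * x) = c ^ n * (y ^ n * c) * y * x := by simp only [mul_assoc]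
          _ = c ^ n * (c * y ^ n) * y * x := by rw [h1.eq]
          _ = c ^ (n + 1) * y ^ (n + 1) * x := by
            rw [pow_succ, pow_succ]; simp only [mul_assoc]

theorem pow_mul_pow_eq (u v d : K) (h : u * v = d * v * u) (hdu : Commute d u) (hdv : Commute d v) :
    ∀ n : ℕ, u ^ n * v ^ n = d ^ (n.choose 2) * (u * v) ^ n := by
  intro n
  induction n with
  | zero => simp
  | succ n ih =>
    -- v^n * u = d^{-n} ... avoid inverses: u * v^n = d^n * v^n * u
    have h1 : u * v ^ n = d ^ n * v ^ n * u := mul_pow_comm_of u v d h hdu hdv n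
    have hch : (n + 1).choose 2 = n + n.choose 2 := by
      rw [Nat.choose_succ_succ' n 1, Nat.choose_one_right]
    calc u ^ (n + 1) * v ^ (n + 1) = u ^ n * (u * v ^ n) * v := by
          rw [pow_succ, pow_succ]; simp only [mul_assoc]
      _ = u ^ n * (d ^ n * v ^ n * u) * v := by rw [h1]
      _ = d ^ n * (u ^ n * v ^ n) * (u * v) := by
          have : Commute (u ^ n) (d ^ n) := ((hdu.symm).pow_left n).pow_right n
          calc u ^ n * (d ^ n * v ^ n * u) * v = (u ^ n * d ^ n) * v ^ n * u * v := by simp only [mul_assoc]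
            _ = (d ^ n * u ^ n) * v ^ n * u * v := by rw [this.eq]
            _ = d ^ n * (u ^ n * v ^ n) * (u * v) := by simp only [mul_assoc]
      _ = d ^ n * (d ^ (n.choose 2) * (u * v) ^ n) * (u * v) := by rw [ih]
      _ = d ^ ((n + 1).choose 2) * (u * v) ^ (n + 1) := by
          rw [hch, pow_add, pow_succ]; simp only [mul_assoc]

end basic

theorem dvd_choose_two_odd (p : ℕ) (hp : p.Prime) (hp2 : p ≠ 2) (k : ℕ) (hk : 1 ≤ k) :
    p ∣ (p ^ k).choose 2 := by
  have h2 : (p ^ k).choose 2 * 2 = p ^ k * (p ^ k - 1) := by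
    rw [Nat.choose_two_right]
    exact Nat.div_mul_cancel (Nat.even_mul_pred_self (p ^ k)).two_dvd
  have h3 : p ∣ (p ^ k).choose 2 * 2 := by
    rw [h2]; exact Dvd.dvd.mul_right (dvd_pow_self p (by omega)) _
  have hcop : Nat.Coprime p 2 := (Nat.coprime_primes hp Nat.prime_two).mpr hp2
  exact hcop.dvd_of_dvd_mul_right h3

theorem two_dvd_choose_two (k : ℕ) (hk : 2 ≤ k) : 2 ∣ (2 ^ k).choose 2 := by
  obtain ⟨j, rfl⟩ : ∃ j, k = j + 2 := ⟨k - 2, by omega⟩
  have h2 : (2 ^ (j + 2)).choose 2 * 2 = 2 ^ (j + 2) * (2 ^ (j + 2) - 1) := by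
    rw [Nat.choose_two_right]
    exact Nat.div_mul_cancel (Nat.even_mul_pred_self (2 ^ (j + 2))).two_dvd
  have h3 : (2 ^ (j + 2)).choose 2 = 2 ^ (j + 1) * (2 ^ (j + 2) - 1) := by
    have : 2 ^ (j + 2) * (2 ^ (j + 2) - 1) = (2 ^ (j + 1) * (2 ^ (j + 2) - 1)) * 2 := by
      rw [pow_succ 2 (j + 1)]; ring
    rw [this] at h2
    exact Nat.eq_of_mul_eq_mul_right (by norm_num) h2
  rw [h3]
  exact Dvd.dvd.mul_right (dvd_pow_self 2 (by omega)) _

theorem exists_pow_eq_of_mem_zpowers {K : Type*} [Group K] [Finite K] (x c : K)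
    (h : c ∈ Subgroup.zpowers x) : ∃ r : ℕ, x ^ r = c := by
  have h1 := (isOfFinOrder_of_finite x).mem_powers_iff_mem_zpowers.mpr h
  obtain ⟨r, hr⟩ := h1
  exact ⟨r, hr⟩

/-- If `c = x^r` with `c^p = 1` and `orderOf x = p^α`, `α ≥ 1`, then `p^(α-1) ∣ r`. -/
theorem dvd_exponent {K : Type*} [Group K] (p : ℕ) (hp : p.Prime) (x c : K) (α : ℕ) (hα : 1 ≤ α)
    (hox : orderOf x = p ^ α) (r : ℕ) (hr : x ^ r = c) (hcp : c ^ p = 1) : p ^ (α - 1) ∣ r := by
  have h1 : x ^ (r * p) = 1 := by rw [pow_mul, hr, hcp]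
  have h2 : p ^ α ∣ r * p := by rw [← hox]; exact orderOf_dvd_of_pow_eq_one h1
  have h3 : p ^ α = p ^ (α - 1) * p := by rw [← pow_succ]; congr 1; omega
  rw [h3] at h2
  exact (Nat.mul_dvd_mul_iff_right hp.pos).mp h2

theorem key_lemma {K : Type*} [Group K] [Finite K] (p : ℕ) (hp : p.Prime) (x y c : K)
    (h : x * y = c * y * x) (hc1 : c ≠ 1) (hcx : Commute c x) (hcy : Commute c y)
    (hcmx : c ∈ Subgroup.zpowers x) (hcmy : c ∈ Subgroup.zpowers y) (hcp : c ^ p = 1)
    (α β : ℕ) (hox : orderOf x = p ^ α) (hoy : orderOf y = p ^ β) (hβα : β ≤ α)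
    (hmin : ∀ w : K, x * w ≠ w * x → orderOf y ≤ orderOf w) :
    p = 2 ∧ α = 2 ∧ β = 2 := by
  by_contra hne
  have hβ1 : 1 ≤ β := by
    by_contra hb
    have hb0 : β = 0 := by omega
    rw [hb0, pow_zero, orderOf_eq_one_iff] at hoy
    apply hc1
    rw [hoy] at h
    simpa using h
  have hα1 : 1 ≤ α := le_trans hβ1 hβα
  have hoc : orderOf c = p := by
    rcases (Nat.dvd_prime hp).mp (orderOf_dvd_of_pow_eq_one hcp) with h1 | h1
    · exact absurd (orderOf_eq_one_iff.mp h1) hc1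
    · exact h1
  obtain ⟨r, hr⟩ := exists_pow_eq_of_mem_zpowers x c hcmx
  obtain ⟨s, hs⟩ := exists_pow_eq_of_mem_zpowers y c hcmy
  obtain ⟨r', hr'⟩ := dvd_exponent p hp x c α hα1 hox r hr hcp
  obtain ⟨s', hs'⟩ := dvd_exponent p hp y c β hβ1 hoy s hs hcp
  have hps' : ¬ p ∣ s' := by
    rintro ⟨t, ht⟩
    apply hc1
    rw [← hs, hs', ht, ← mul_assoc, ← pow_succ, show β - 1 + 1 = β by omega, ← hoy, pow_mul,
      pow_orderOf_eq_one, one_pow]
  -- the elements
  set a : ℕ := r' * p ^ (α - β) with ha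
  set u : K := x ^ a with hu
  set Y : K := y ^ s' with hY
  set n : ℕ := p ^ (β - 1) with hn
  have hun : u ^ n = c := by
    rw [hu, ← pow_mul, ← hr, hr', ha, hn]
    congr 1
    have : p ^ (α - β) * p ^ (β - 1) = p ^ (α - 1) := by
      rw [← pow_add]; congr 1; omega
    rw [mul_assoc, this, mul_comm]
  have hYn : Y ^ n = c := by
    rw [hY, ← pow_mul, ← hs, hs', hn, mul_comm]
  -- commutation of x with Y
  have hxY : x * Y = c ^ s' * Y * x := mul_pow_comm_of x y c h hcx hcy s'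
  have hcs'x : Commute (c ^ s') x := hcx.pow_left s'
  have hcs'Y : Commute (c ^ s') Y := (hcy.pow_left s').pow_right s'
  have huY : u * Y = (c ^ s') ^ a * Y * u := pow_mul_comm_of x Y (c ^ s') hxY hcs'x hcs'Y a
  set e : K := (c ^ s') ^ a with he
  have heu : Commute e u := (hcs'x.pow_left a).pow_right a
  have heY : Commute e Y := hcs'Y.pow_left a
  have hep : e ^ p = 1 := by
    calc e ^ p = c ^ (p * (s' * a)) := by
          rw [he, ← pow_mul, ← pow_mul]; congr 1; ring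
      _ = 1 := by rw [pow_mul, hcp, one_pow]
  -- u * Y⁻¹ = e⁻¹ * Y⁻¹ * u
  have huv : u * Y⁻¹ = e⁻¹ * Y⁻¹ * u := by
    have h1 : Y⁻¹ * (u * Y) * Y⁻¹ = Y⁻¹ * ((e * Y) * u) * Y⁻¹ := by rw [huY]
    have h2 : Y⁻¹ * (u * Y) * Y⁻¹ = Y⁻¹ * u := by group
    have h3 : Y⁻¹ * ((e * Y) * u) * Y⁻¹ = e * (u * Y⁻¹) := by
      rw [heY.eq]; group
    rw [h2, h3] at h1
    -- Y⁻¹ * u = e * (u * Y⁻¹)
    calc u * Y⁻¹ = e⁻¹ * (e * (u * Y⁻¹)) := by group
      _ = e⁻¹ * (Y⁻¹ * u) := by rw [← h1]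
      _ = e⁻¹ * Y⁻¹ * u := by rw [mul_assoc]
  have hd1 : Commute e⁻¹ u := heu.inv_left
  have hd2 : Commute e⁻¹ Y⁻¹ := heY.inv_inv
  have hmain := pow_mul_pow_eq u Y⁻¹ e⁻¹ huv hd1 hd2 n
  have hlhs : u ^ n * Y⁻¹ ^ n = 1 := by
    rw [inv_pow, hun, hYn, mul_inv_cancel]
  -- the correction term vanishes
  have hcorr : e⁻¹ ^ (n.choose 2) = 1 := by
    rw [inv_pow, inv_eq_one]
    by_cases hβ2 : β = 1
    · rw [hn, hβ2]; simp
    have hβ2' : 2 ≤ β := by omega
    by_cases hp2 : p = 2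
    · by_cases hαβ : β < α
      · -- e = 1
        have : e = 1 := by
          rw [he, ← pow_mul, ha]
          have h2 : p ∣ s' * (r' * p ^ (α - β)) := by
            apply Dvd.dvd.mul_left
            apply Dvd.dvd.mul_left
            exact dvd_pow_self p (by omega)
          obtain ⟨t, ht⟩ := h2
          rw [ht, pow_mul, hcp, one_pow]
        rw [this, one_pow]
      · have hαβ' : α = β := by omega
        have hβ3 : 3 ≤ β := by
          by_contra hb
          exact hne ⟨hp2, by omega, by omega⟩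
        have h2 : 2 ∣ (2 ^ (β - 1)).choose 2 := two_dvd_choose_two (β - 1) (by omega)
        rw [hn, hp2]
        obtain ⟨t, ht⟩ := h2
        rw [ht, pow_mul]
        rw [hp2] at hep
        rw [hep, one_pow]
    · have h2 : p ∣ (p ^ (β - 1)).choose 2 := dvd_choose_two_odd p hp hp2 (β - 1) (by omega)
      obtain ⟨t, ht⟩ := h2
      rw [hn, ht, pow_mul, hep, one_pow]
  rw [hlhs, hcorr, one_mul] at hmain
  -- so w = u * Y⁻¹ has small order
  set w : K := u * Y⁻¹ with hw
  have how : orderOf w ∣ p ^ (β - 1) := orderOf_dvd_of_pow_eq_one hmain.symm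
  have how' : orderOf w < orderOf y := by
    rw [hoy]
    calc orderOf w ≤ p ^ (β - 1) := Nat.le_of_dvd (pow_pos hp.pos _) how
      _ < p ^ β := Nat.pow_lt_pow_right hp.one_lt (by omega)
  have hxw : x * w ≠ w * x := by
    intro hcomm
    -- x commutes with u
    have hxu : Commute x u := (Commute.refl x).pow_right a
    have hxYi : x * Y⁻¹ = Y⁻¹ * x := by
      have h1 : x * (u * Y⁻¹) = u * Y⁻¹ * x := hcomm
      have h2 : u * (x * Y⁻¹) = u * (Y⁻¹ * x) := by
        rw [← mul_assoc, ← hxu.eq, mul_assoc, h1, mul_assoc]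
      exact mul_left_cancel h2
    have hxY' : x * Y = Y * x := by
      have h5 : Commute x Y⁻¹ := hxYi
      have h6 := h5.inv_right
      rw [inv_inv] at h6
      exact h6.eq
    rw [hxY'] at hxY
    have h3 : c ^ s' = 1 := by
      have h4 : 1 * (Y * x) = c ^ s' * (Y * x) := by rw [one_mul, ← mul_assoc]; exact hxY
      exact (mul_right_cancel h4).symm
    have := orderOf_dvd_of_pow_eq_one h3
    rw [hoc] at this
    exact hps' this
  exact absurd (hmin w hxw) (by omega)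

theorem comm_mem_zpowers {K : Type*} [Group K] (hn : ∀ H : Subgroup K, H.Normal) (u v : K) :
    u * v * u⁻¹ * v⁻¹ ∈ Subgroup.zpowers u ∧ u * v * u⁻¹ * v⁻¹ ∈ Subgroup.zpowers v := by
  constructor
  · have h1 : v * u⁻¹ * v⁻¹ ∈ Subgroup.zpowers u :=
      (hn (Subgroup.zpowers u)).conj_mem u⁻¹ (inv_mem (Subgroup.mem_zpowers u)) v
    have h2 := mul_mem (Subgroup.mem_zpowers u) h1
    have h3 : u * (v * u⁻¹ * v⁻¹) = u * v * u⁻¹ * v⁻¹ := by group
    rwa [h3] at h2
  · have h1 : u * v * u⁻¹ ∈ Subgroup.zpowers v :=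
      (hn (Subgroup.zpowers v)).conj_mem v (Subgroup.mem_zpowers v) u
    exact mul_mem h1 (inv_mem (Subgroup.mem_zpowers v))

/-- In an element of order 4, the only involution among the powers is the square. -/
theorem eq_sq_of_mem_zpowers {K : Type*} [Group K] [Finite K] (x c : K) (hox : orderOf x = 4)
    (hc : c ∈ Subgroup.zpowers x) (hc1 : c ≠ 1) (hc2 : c ^ 2 = 1) : c = x ^ 2 := by
  obtain ⟨r, hr⟩ := exists_pow_eq_of_mem_zpowers x c hc
  have hx4 : x ^ 4 = 1 := by rw [← hox]; exact pow_orderOf_eq_one x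
  have hr' : x ^ (r % 4) = c := by
    rw [← hr, ← hox]; exact pow_mod_orderOf x r
  have hlt : r % 4 < 4 := Nat.mod_lt _ (by norm_num)
  have hx2 : x ^ 2 ≠ 1 := by
    intro h2
    have := orderOf_dvd_of_pow_eq_one h2
    rw [hox] at this
    omega
  interval_cases hm : r % 4
  · exact absurd (by rw [← hr']; simp) hc1
  · rw [pow_one] at hr'
    rw [← hr'] at hc2
    exact absurd hc2 hx2
  · exact hr'.symm
  · rw [← hr', ← pow_mul] at hc2
    have : x ^ (3 * 2) = x ^ 2 := by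
      have : x ^ (3 * 2) = x ^ 4 * x ^ 2 := by rw [← pow_add]
      rw [this, hx4, one_mul]
    rw [this] at hc2
    exact absurd hc2 hx2

theorem exists_quaternion_pair {K : Type*} [Group K] [Finite K]
    (hn : ∀ H : Subgroup K, H.Normal) (hna : ∃ a b : K, a * b ≠ b * a) :
    ∃ x y : K, orderOf x = 4 ∧ orderOf y = 4 ∧ y ^ 2 = x ^ 2 ∧ y * x * y⁻¹ = x⁻¹ := by
  classical
  -- minimal pair
  have hex : ∃ n : ℕ, ∃ x y : K, x * y ≠ y * x ∧ orderOf x + orderOf y = n := by
    obtain ⟨a, b, hab⟩ := hna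
    exact ⟨_, a, b, hab, rfl⟩
  obtain ⟨x, y, hxy, hsum⟩ := Nat.find_spec hex
  have hmin : ∀ x' y' : K, x' * y' ≠ y' * x' → orderOf x + orderOf y ≤ orderOf x' + orderOf y' := by
    intro x' y' h'
    rw [hsum]
    exact Nat.find_min' hex ⟨x', y', h', rfl⟩
  set c : K := x * y * x⁻¹ * y⁻¹ with hc
  obtain ⟨hcmx, hcmy⟩ := comm_mem_zpowers hn x y
  rw [← hc] at hcmx hcmy
  have hcx : Commute c x := by
    obtain ⟨r, hr⟩ := exists_pow_eq_of_mem_zpowers x c hcmx
    rw [← hr]; exact (Commute.refl x).pow_left r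
  have hcy : Commute c y := by
    obtain ⟨r, hr⟩ := exists_pow_eq_of_mem_zpowers y c hcmy
    rw [← hr]; exact (Commute.refl y).pow_left r
  have h : x * y = c * y * x := by rw [hc]; group
  have hc1 : c ≠ 1 := by
    intro h1
    rw [h1, one_mul] at h
    exact hxy h
  have hx1 : x ≠ 1 := by
    intro h1; apply hxy; rw [h1]; simp
  have hy1 : y ≠ 1 := by
    intro h1; apply hxy; rw [h1]; simp
  have hoxpos : 0 < orderOf x := orderOf_pos x
  have hoypos : 0 < orderOf y := orderOf_pos y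
  -- primes dividing the orders kill c
  have hqx : ∀ q : ℕ, q.Prime → q ∣ orderOf x → c ^ q = 1 := by
    intro q hq hqd
    have hcomm : x ^ q * y = y * x ^ q := by
      by_contra hne
      have h1 := hmin (x ^ q) y hne
      have h2 : orderOf (x ^ q) = orderOf x / q := orderOf_pow_of_dvd hq.ne_zero hqd
      have h3 : orderOf x / q < orderOf x := Nat.div_lt_self hoxpos hq.one_lt
      omega
    have h4 := pow_mul_comm_of x y c h hcx hcy q
    rw [hcomm] at h4
    have h5 : 1 * (y * x ^ q) = c ^ q * (y * x ^ q) := by rw [one_mul, ← mul_assoc]; exact h4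
    exact (mul_right_cancel h5).symm
  have hqy : ∀ q : ℕ, q.Prime → q ∣ orderOf y → c ^ q = 1 := by
    intro q hq hqd
    have hcomm : x * y ^ q = y ^ q * x := by
      by_contra hne
      have h1 := hmin x (y ^ q) hne
      have h2 : orderOf (y ^ q) = orderOf y / q := orderOf_pow_of_dvd hq.ne_zero hqd
      have h3 : orderOf y / q < orderOf y := Nat.div_lt_self hoypos hq.one_lt
      omega
    have h4 := mul_pow_comm_of x y c h hcx hcy q
    rw [hcomm] at h4
    have h5 : 1 * (y ^ q * x) = c ^ q * (y ^ q * x) := by rw [one_mul, ← mul_assoc]; exact h4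
    exact (mul_right_cancel h5).symm
  have hq_eq : ∀ q : ℕ, q.Prime → c ^ q = 1 → q = orderOf c := by
    intro q hq hcq
    rcases (Nat.dvd_prime hq).mp (orderOf_dvd_of_pow_eq_one hcq) with h1 | h1
    · exact absurd (orderOf_eq_one_iff.mp h1) hc1
    · exact h1.symm
  set p := orderOf c with hp_def
  have hox1 : orderOf x ≠ 1 := fun h1 => hx1 (orderOf_eq_one_iff.mp h1)
  have hoy1 : orderOf y ≠ 1 := fun h1 => hy1 (orderOf_eq_one_iff.mp h1)
  obtain ⟨q0, hq0, hq0d⟩ := Nat.exists_prime_and_dvd hox1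
  have hp : p.Prime := by
    have := hq_eq q0 hq0 (hqx q0 hq0 hq0d)
    rw [← this]; exact hq0
  have hcp : c ^ p = 1 := pow_orderOf_eq_one c
  have hoxp : orderOf x = p ^ (orderOf x).primeFactorsList.length :=
    Nat.eq_prime_pow_of_unique_prime_dvd hoxpos.ne' (fun {d} hd hdd => hq_eq d hd (hqx d hd hdd))
  have hoyp : orderOf y = p ^ (orderOf y).primeFactorsList.length :=
    Nat.eq_prime_pow_of_unique_prime_dvd hoypos.ne' (fun {d} hd hdd => hq_eq d hd (hqy d hd hdd))
  set α := (orderOf x).primeFactorsList.length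
  set β := (orderOf y).primeFactorsList.length
  have hfin : p = 2 ∧ α = 2 ∧ β = 2 := by
    rcases le_total β α with hle | hle
    · exact key_lemma p hp x y c h hc1 hcx hcy hcmx hcmy hcp α β hoxp hoyp hle
        (fun w hw => by
          have := hmin x w hw
          omega)
    · have h' : y * x = c⁻¹ * x * y := by
        calc y * x = c⁻¹ * (c * y * x) := by group
          _ = c⁻¹ * (x * y) := by rw [← h]
          _ = c⁻¹ * x * y := by rw [mul_assoc]
      have hk := key_lemma p hp y x c⁻¹ h' (inv_ne_one.mpr hc1) hcy.inv_left hcx.inv_left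
        (inv_mem hcmy) (inv_mem hcmx) (by rw [inv_pow, hcp, inv_one]) β α hoyp hoxp hle
        (fun w hw => by
          have := hmin w y (fun hh => hw hh.symm)
          omega)
      exact ⟨hk.1, hk.2.2, hk.2.1⟩
  obtain ⟨hp2, hα2, hβ2⟩ := hfin
  have hox4 : orderOf x = 4 := by rw [hoxp, hp2, hα2]; norm_num
  have hoy4 : orderOf y = 4 := by rw [hoyp, hp2, hβ2]; norm_num
  have hc2 : c ^ 2 = 1 := by rw [← hp2]; exact hcp
  have hcx2 : c = x ^ 2 := eq_sq_of_mem_zpowers x c hox4 hcmx hc1 hc2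
  have hcy2 : c = y ^ 2 := eq_sq_of_mem_zpowers y c hoy4 hcmy hc1 hc2
  refine ⟨x, y, hox4, hoy4, by rw [← hcy2, hcx2], ?_⟩
  -- y x y⁻¹ = x⁻¹
  have h6 : y * x * y⁻¹ = c⁻¹ * x := by
    have h7 : y * x = c⁻¹ * (x * y) := by
      calc y * x = c⁻¹ * (c * y * x) := by group
        _ = c⁻¹ * (x * y) := by rw [← h]
    rw [h7]; group
  rw [h6, hcx2]; group

section quat
variable {G : Type*} [Group G]

theorem conj_inv_of (x y : G) (hyx : y * x * y⁻¹ = x⁻¹) : y * x⁻¹ * y⁻¹ = x := by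
  calc y * x⁻¹ * y⁻¹ = (y * x * y⁻¹)⁻¹ := by group
    _ = x := by rw [hyx, inv_inv]

theorem conj_y_of (x y : G) (hx4 : x ^ 4 = 1) (hy : y ^ 2 = x ^ 2) (hyx : y * x * y⁻¹ = x⁻¹) :
    x * y * x⁻¹ = y⁻¹ := by
  have h1 : y * x⁻¹ = x * y := by
    have := conj_inv_of x y hyx
    calc y * x⁻¹ = (y * x⁻¹ * y⁻¹) * y := by group
      _ = x * y := by rw [this]
  have h2 : x * y * x⁻¹ * y = 1 := by
    calc x * y * x⁻¹ * y = x * (y * x⁻¹) * y := by group
      _ = x * (x * y) * y := by rw [h1]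
      _ = x ^ 2 * y ^ 2 := by rw [pow_two, pow_two]; simp only [mul_assoc]
      _ = x ^ 4 := by rw [hy, ← pow_add]
      _ = 1 := hx4
  exact eq_inv_of_mul_eq_one_left h2

theorem not_comm_of (x y : G) (hox : orderOf x = 4) (hyx : y * x * y⁻¹ = x⁻¹) : x * y ≠ y * x := by
  intro h
  have h1 : y * x * y⁻¹ = x := by rw [← h]; group
  rw [h1] at hyx
  have h2 : x ^ 2 = 1 := by
    calc x ^ 2 = x * x := pow_two x
      _ = x * x⁻¹ := by rw [← hyx]
      _ = 1 := mul_inv_cancel x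
  have := orderOf_dvd_of_pow_eq_one h2
  rw [hox] at this
  omega

theorem mem_closure_cases (hn : ∀ H : Subgroup G, H.Normal) (x y : G) (hy : y ^ 2 = x ^ 2) :
    ∀ g ∈ Subgroup.closure ({x, y} : Set G),
      g ∈ Subgroup.zpowers x ∨ g * y⁻¹ ∈ Subgroup.zpowers x := by
  have hN : (Subgroup.zpowers x).Normal := hn _
  have hy2 : y ^ 2 ∈ Subgroup.zpowers x := by
    rw [hy]; exact pow_mem (Subgroup.mem_zpowers x) 2
  intro g hg
  induction hg using Subgroup.closure_induction with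
  | mem g hg =>
    rcases hg with rfl | hg
    · exact Or.inl (Subgroup.mem_zpowers _)
    · rw [Set.mem_singleton_iff] at hg
      right; rw [hg, mul_inv_cancel]; exact one_mem _
  | one => exact Or.inl (one_mem _)
  | mul a b _ _ ha hb =>
    rcases ha with ha | ha <;> rcases hb with hb | hb
    · exact Or.inl (mul_mem ha hb)
    · right
      rw [mul_assoc]; exact mul_mem ha hb
    · right
      have h1 : y * b * y⁻¹ ∈ Subgroup.zpowers x := hN.conj_mem b hb y
      have h2 : a * b * y⁻¹ = (a * y⁻¹) * (y * b * y⁻¹) := by group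
      rw [h2]; exact mul_mem ha h1
    · left
      have h1 : y * (b * y⁻¹) * y⁻¹ ∈ Subgroup.zpowers x := hN.conj_mem _ hb y
      have h2 : a * b = (a * y⁻¹) * (y * (b * y⁻¹) * y⁻¹) * y ^ 2 := by group
      rw [h2]; exact mul_mem (mul_mem ha h1) hy2
  | inv a _ ha =>
    rcases ha with ha | ha
    · exact Or.inl (inv_mem ha)
    · right
      have h1 : y⁻¹ * (a * y⁻¹)⁻¹ * y⁻¹⁻¹ ∈ Subgroup.zpowers x := hN.conj_mem _ (inv_mem ha) y⁻¹
      have h2 : a⁻¹ * y⁻¹ = (y⁻¹ * (a * y⁻¹)⁻¹ * y⁻¹⁻¹) * (y ^ 2)⁻¹ := by group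
      rw [h2]; exact mul_mem h1 (inv_mem hy2)

theorem card_closure [Finite G] (hn : ∀ H : Subgroup G, H.Normal) (x y : G) (hox : orderOf x = 4)
    (hy : y ^ 2 = x ^ 2) (hyx : y * x * y⁻¹ = x⁻¹) :
    Nat.card (Subgroup.closure ({x, y} : Set G)) = 8 := by
  set Q := Subgroup.closure ({x, y} : Set G) with hQ
  set N := Subgroup.zpowers x with hN
  have hxQ : x ∈ Q := Subgroup.subset_closure (by simp)
  have hyQ : y ∈ Q := Subgroup.subset_closure (by simp)
  have hNQ : N ≤ Q := by rw [hN, Subgroup.zpowers_le]; exact hxQ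
  have hynN : y ∉ N := by
    intro hyN
    obtain ⟨r, hr⟩ := exists_pow_eq_of_mem_zpowers x y hyN
    apply not_comm_of x y hox hyx
    rw [← hr, ← pow_succ', ← pow_succ]
  have hidx : (N.subgroupOf Q).index = 2 := by
    rw [Subgroup.index_eq_two_iff]
    refine ⟨⟨y⁻¹, inv_mem hyQ⟩, ?_⟩
    intro b
    have hb := mem_closure_cases hn x y hy b.1 b.2
    have e1 : (b * ⟨y⁻¹, inv_mem hyQ⟩ ∈ N.subgroupOf Q) ↔ (b.1 * y⁻¹ ∈ N) := by
      rw [Subgroup.mem_subgroupOf]; rfl
    have e2 : (b ∈ N.subgroupOf Q) ↔ (b.1 ∈ N) := Subgroup.mem_subgroupOf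
    rw [e1, e2]
    rcases hb with hb | hb
    · right
      refine ⟨hb, ?_⟩
      intro h2
      apply hynN
      have : y = (b.1 * y⁻¹)⁻¹ * b.1 := by group
      rw [this]; exact mul_mem (inv_mem h2) hb
    · left
      refine ⟨hb, ?_⟩
      intro h2
      apply hynN
      have : y = (b.1 * y⁻¹)⁻¹ * b.1 := by group
      rw [this]; exact mul_mem (inv_mem hb) h2
  have h1 := Subgroup.card_mul_index (N.subgroupOf Q)
  rw [hidx, Nat.card_congr (Subgroup.subgroupOfEquivOfLe hNQ).toEquiv, hN, Nat.card_zpowers, hox] at h1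
  omega

theorem eq_one_or_sq_of_mem_closure [Finite G] (hn : ∀ H : Subgroup G, H.Normal) (x y : G)
    (hox : orderOf x = 4)
    (hy : y ^ 2 = x ^ 2) (hyx : y * x * y⁻¹ = x⁻¹) (g : G)
    (hg : g ∈ Subgroup.closure ({x, y} : Set G)) (hgx : g * x = x * g) (hgy : g * y = y * g) :
    g = 1 ∨ g = x ^ 2 := by
  have hx4 : x ^ 4 = 1 := by rw [← hox]; exact pow_orderOf_eq_one x
  have hnc := not_comm_of x y hox hyx
  rcases mem_closure_cases hn x y hy g hg with h1 | h1
  · obtain ⟨r, hr⟩ := exists_pow_eq_of_mem_zpowers x g h1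
    have hr' : x ^ (r % 4) = g := by
      rw [← hr, ← hox]; exact pow_mod_orderOf x r
    have hlt : r % 4 < 4 := Nat.mod_lt _ (by norm_num)
    interval_cases hm : r % 4
    · left; rw [← hr']; simp
    · exfalso; rw [pow_one] at hr'; rw [← hr'] at hgy; exact hnc hgy
    · right; exact hr'.symm
    · exfalso
      have h3 : g = x⁻¹ := by
        rw [← hr']
        apply eq_inv_of_mul_eq_one_left
        rw [← pow_succ]; exact hx4
      rw [h3] at hgy
      apply hnc
      calc x * y = x * (x⁻¹ * y) * x := by rw [hgy]; group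
        _ = y * x := by group
  · exfalso
    obtain ⟨r, hr⟩ := exists_pow_eq_of_mem_zpowers x _ h1
    have h2 : g = x ^ r * y := by rw [hr]; group
    apply hnc
    rw [h2] at hgx
    have h3 : x ^ r * (y * x) = x ^ r * (x * y) := by
      rw [← mul_assoc, hgx, ← mul_assoc, ← pow_succ', ← mul_assoc, ← pow_succ]
    exact (mul_left_cancel h3).symm

/-- an element of order 4 in `zpowers x` (x of order 4) is `x` or `x⁻¹`. -/
theorem eq_or_eq_inv_of_mem_zpowers [Finite G] (x w : G) (hox : orderOf x = 4)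
    (hw : w ∈ Subgroup.zpowers x) (how : orderOf w = 4) : w = x ∨ w = x⁻¹ := by
  have hx4 : x ^ 4 = 1 := by rw [← hox]; exact pow_orderOf_eq_one x
  obtain ⟨r, hr⟩ := exists_pow_eq_of_mem_zpowers x w hw
  have hr' : x ^ (r % 4) = w := by
    rw [← hr, ← hox]; exact pow_mod_orderOf x r
  have hlt : r % 4 < 4 := Nat.mod_lt _ (by norm_num)
  have hw2 : w ^ 2 ≠ 1 := by
    intro h2
    have := orderOf_dvd_of_pow_eq_one h2
    rw [how] at this
    omega
  interval_cases hm : r % 4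
  · exfalso; apply hw2; rw [← hr']; simp
  · left; rw [← hr', pow_one]
  · exfalso; apply hw2; rw [← hr', ← pow_mul]; exact hx4
  · right
    rw [← hr']
    apply eq_inv_of_mul_eq_one_left
    rw [← pow_succ]; exact hx4

theorem conj_cases [Finite G] (hn : ∀ H : Subgroup G, H.Normal) (x g : G) (hox : orderOf x = 4) :
    g * x * g⁻¹ = x ∨ g * x * g⁻¹ = x⁻¹ := by
  apply eq_or_eq_inv_of_mem_zpowers x _ hox
  · exact (hn (Subgroup.zpowers x)).conj_mem x (Subgroup.mem_zpowers x) g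
  · have := (MulAut.conj g).orderOf_eq x
    rw [MulAut.conj_apply] at this
    rw [this, hox]

theorem mem_centralizer_of_conj (x y h : G) (h1 : h * x * h⁻¹ = x) (h2 : h * y * h⁻¹ = y) :
    h ∈ Subgroup.centralizer ({x, y} : Set G) := by
  rw [Subgroup.mem_centralizer_iff]
  intro z hz
  rcases hz with rfl | hz
  · calc z * h = (h * z * h⁻¹) * h := by rw [h1]
      _ = h * z := by group
  · rw [Set.mem_singleton_iff] at hz
    rw [hz]
    calc y * h = (h * y * h⁻¹) * h := by rw [h2]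
      _ = h * y := by group

theorem exists_mul_mem_centralizer [Finite G] (hn : ∀ H : Subgroup G, H.Normal) (x y : G)
    (hox : orderOf x = 4) (hoy : orderOf y = 4)
    (hy : y ^ 2 = x ^ 2) (hyx : y * x * y⁻¹ = x⁻¹) (g : G) :
    ∃ q ∈ Subgroup.closure ({x, y} : Set G), g * q ∈ Subgroup.centralizer ({x, y} : Set G) := by
  have hx4 : x ^ 4 = 1 := by rw [← hox]; exact pow_orderOf_eq_one x
  have hxy := conj_y_of x y hx4 hy hyx
  have hxQ : x ∈ Subgroup.closure ({x, y} : Set G) := Subgroup.subset_closure (by simp)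
  have hyQ : y ∈ Subgroup.closure ({x, y} : Set G) := Subgroup.subset_closure (by simp)
  have hconj : ∀ q z : G, (g * q) * z * (g * q)⁻¹ = g * (q * z * q⁻¹) * g⁻¹ := by
    intro q z; group
  have hinv : ∀ z : G, g * z⁻¹ * g⁻¹ = (g * z * g⁻¹)⁻¹ := by intro z; group
  rcases conj_cases hn x g hox with h1 | h1 <;> rcases conj_cases hn y g hoy with h2 | h2
  · refine ⟨1, one_mem _, ?_⟩
    rw [mul_one]
    exact mem_centralizer_of_conj x y g h1 h2
  · refine ⟨x, hxQ, ?_⟩
    apply mem_centralizer_of_conj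
    · rw [hconj, mul_inv_cancel_right, h1]
    · rw [hconj, hxy, hinv, h2, inv_inv]
  · refine ⟨y, hyQ, ?_⟩
    apply mem_centralizer_of_conj
    · rw [hconj, hyx, hinv, h1, inv_inv]
    · rw [hconj, mul_inv_cancel_right, h2]
  · refine ⟨x * y, mul_mem hxQ hyQ, ?_⟩
    apply mem_centralizer_of_conj
    · rw [hconj]
      have : x * y * x * (x * y)⁻¹ = x⁻¹ := by
        calc x * y * x * (x * y)⁻¹ = x * (y * x * y⁻¹) * x⁻¹ := by group
          _ = x⁻¹ := by rw [hyx]; group
      rw [this, hinv, h1, inv_inv]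
    · rw [hconj]
      have : x * y * y * (x * y)⁻¹ = y⁻¹ := by
        calc x * y * y * (x * y)⁻¹ = x * y * x⁻¹ := by group
          _ = y⁻¹ := hxy
      rw [this, hinv, h2, inv_inv]

theorem sq_eq_one_of_pow_four [Finite G] (hn : ∀ H : Subgroup G, H.Normal) (x y : G)
    (hox : orderOf x = 4) (hoy : orderOf y = 4)
    (hy : y ^ 2 = x ^ 2) (hyx : y * x * y⁻¹ = x⁻¹) (g : G)
    (hg : g ∈ Subgroup.centralizer ({x, y} : Set G)) (hg4 : g ^ 4 = 1) : g ^ 2 = 1 := by
  have hx4 : x ^ 4 = 1 := by rw [← hox]; exact pow_orderOf_eq_one x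
  have hy4 : y ^ 4 = 1 := by rw [← hoy]; exact pow_orderOf_eq_one y
  have hxy := conj_y_of x y hx4 hy hyx
  have hnc := not_comm_of x y hox hyx
  rw [Subgroup.mem_centralizer_iff] at hg
  have hgx : x * g = g * x := hg x (by simp)
  have hgy : y * g = g * y := hg y (by simp)
  have hy2 : y ^ 2 ≠ 1 := by
    intro h2
    have := orderOf_dvd_of_pow_eq_one h2
    rw [hoy] at this
    omega
  have hcgy : Commute g y := hgy.symm
  set t : G := g * y with ht
  have ht2 : t ^ 2 = g ^ 2 * y ^ 2 := hcgy.mul_pow 2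
  have ht3 : t ^ 3 = g ^ 3 * y ^ 3 := hcgy.mul_pow 3
  have ht4 : t ^ 4 = 1 := by rw [ht, hcgy.mul_pow 4, hg4, hy4, one_mul]
  have hconj : x * t * x⁻¹ = g * y⁻¹ := by
    calc x * t * x⁻¹ = (x * g) * y * x⁻¹ := by rw [ht]; group
      _ = g * (x * y * x⁻¹) := by rw [hgx]; group
      _ = g * y⁻¹ := by rw [hxy]
  have hmem : g * y⁻¹ ∈ Subgroup.zpowers t := by
    rw [← hconj]
    exact (hn (Subgroup.zpowers t)).conj_mem t (Subgroup.mem_zpowers t) x
  obtain ⟨r, hr⟩ := exists_pow_eq_of_mem_zpowers t _ hmem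
  have hr' : t ^ (r % 4) = g * y⁻¹ := by
    rw [← hr]; exact (pow_eq_pow_mod r ht4).symm
  have hlt : r % 4 < 4 := Nat.mod_lt _ (by norm_num)
  have hgney : g ≠ y := by
    intro h; rw [h] at hgx; exact hnc hgx
  interval_cases hm : r % 4
  · exfalso
    rw [pow_zero] at hr'
    apply hgney
    calc g = (g * y⁻¹) * y := by group
      _ = y := by rw [← hr', one_mul]
  · exfalso
    rw [pow_one, ht] at hr'
    have h1 : y = y⁻¹ := mul_left_cancel hr'
    apply hy2
    calc y ^ 2 = y * y := pow_two y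
      _ = y * y⁻¹ := by rw [← h1]
      _ = 1 := mul_inv_cancel y
  · exfalso
    rw [ht2] at hr'
    -- g^2 y^2 = g y⁻¹ → g = y^(-3) = y
    apply hgney
    have h1 : g * y ^ 2 = y⁻¹ := by
      have : g * (g * y ^ 2) = g * y⁻¹ := by rw [← hr', pow_two g, mul_assoc]
      exact mul_left_cancel this
    calc g = (g * y ^ 2) * (y ^ 2)⁻¹ := by group
      _ = y⁻¹ * (y ^ 2)⁻¹ := by rw [h1]
      _ = y ^ 4 * (y⁻¹ * (y ^ 2)⁻¹) := by rw [hy4, one_mul]
      _ = y := by group
  · rw [ht3] at hr'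
    -- g^3 y^3 = g y⁻¹ → g^2 = y^(-4) = 1
    have h1 : g ^ 2 * y ^ 3 = y⁻¹ := by
      have : g * (g ^ 2 * y ^ 3) = g * y⁻¹ := by
        rw [← hr', ← mul_assoc, ← pow_succ']
      exact mul_left_cancel this
    calc g ^ 2 = (g ^ 2 * y ^ 3) * (y ^ 3)⁻¹ := by group
      _ = y⁻¹ * (y ^ 3)⁻¹ := by rw [h1]
      _ = (y ^ 4)⁻¹ := by group
      _ = 1 := by rw [hy4, inv_one]

theorem sq_eq_one_of_two_pow [Finite G] (hn : ∀ H : Subgroup G, H.Normal) (x y : G)
    (hox : orderOf x = 4) (hoy : orderOf y = 4)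
    (hy : y ^ 2 = x ^ 2) (hyx : y * x * y⁻¹ = x⁻¹) :
    ∀ k : ℕ, ∀ g ∈ Subgroup.centralizer ({x, y} : Set G), g ^ (2 ^ k) = 1 → g ^ 2 = 1 := by
  intro k
  induction k with
  | zero =>
    intro g _ hgk
    rw [pow_zero, pow_one] at hgk
    rw [hgk, one_pow]
  | succ k ih =>
    intro g hg hgk
    rcases k with _ | j
    · simpa using hgk
    · apply ih g hg
      have h1 : (g ^ (2 ^ j)) ^ 4 = 1 := by
        rw [← pow_mul, ← hgk]; congr 1; ring
      have h2 := sq_eq_one_of_pow_four hn x y hox hoy hy hyx (g ^ (2 ^ j)) (pow_mem hg _) h1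
      rw [← pow_mul, ← pow_succ] at h2
      exact h2

theorem commute_of_mem_centralizer [Finite G] (hn : ∀ H : Subgroup G, H.Normal) (x y : G)
    (hox : orderOf x = 4) (hoy : orderOf y = 4)
    (hy : y ^ 2 = x ^ 2) (hyx : y * x * y⁻¹ = x⁻¹) :
    ∀ a ∈ Subgroup.centralizer ({x, y} : Set G), ∀ b ∈ Subgroup.centralizer ({x, y} : Set G),
      a * b = b * a := by
  set C := Subgroup.centralizer ({x, y} : Set G) with hC
  by_contra hcon
  simp only [not_forall] at hcon
  obtain ⟨a, ha, b, hb, hab⟩ := hcon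
  have hnC : ∀ H : Subgroup C, H.Normal := by
    intro H
    have h1 : (H.map C.subtype).Normal := hn _
    have h2 : (H.map C.subtype).comap C.subtype = H :=
      Subgroup.comap_map_eq_self_of_injective (Subgroup.subtype_injective C) H
    rw [← h2]
    exact h1.comap _
  have hnaC : ∃ a b : C, a * b ≠ b * a := by
    refine ⟨⟨a, ha⟩, ⟨b, hb⟩, ?_⟩
    intro h
    apply hab
    exact congrArg Subtype.val h
  obtain ⟨x', _, hox', _, _, _⟩ := exists_quaternion_pair hnC hnaC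
  have h4 : (x' : G) ^ 4 = 1 := by
    have : x' ^ 4 = 1 := by rw [← hox']; exact pow_orderOf_eq_one x'
    have := congrArg Subtype.val this
    simpa using this
  have h2 := sq_eq_one_of_pow_four hn x y hox hoy hy hyx (x' : G) x'.2 h4
  have h2' : x' ^ 2 = 1 := by
    apply Subtype.ext
    simpa using h2
  have := orderOf_dvd_of_pow_eq_one h2'
  rw [hox'] at this
  omega

/-- the subgroup of elements of a commutative subgroup killed by `n`. -/
def torsionIn (C : Subgroup G) (hC : ∀ a ∈ C, ∀ b ∈ C, a * b = b * a) (n : ℕ) : Subgroup G where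
  carrier := {g | g ∈ C ∧ g ^ n = 1}
  mul_mem' := by
    rintro a b ⟨ha, ha'⟩ ⟨hb, hb'⟩
    refine ⟨mul_mem ha hb, ?_⟩
    have : Commute a b := hC a ha b hb
    rw [this.mul_pow, ha', hb', one_mul]
  one_mem' := ⟨one_mem _, one_pow _⟩
  inv_mem' := by
    rintro a ⟨ha, ha'⟩
    exact ⟨inv_mem ha, by rw [inv_pow, ha', inv_one]⟩

theorem mem_torsionIn (C : Subgroup G) (hC : ∀ a ∈ C, ∀ b ∈ C, a * b = b * a) (n : ℕ) (g : G) :
    g ∈ torsionIn C hC n ↔ g ∈ C ∧ g ^ n = 1 := Iff.rfl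

/-- coprime splitting in a commutative subgroup. -/
theorem exists_split [Finite G] (C : Subgroup G) (k m : ℕ) (hm : Odd m)
    (hcard : Nat.card G = 2 ^ k * m) (h : G) (hh : h ∈ C) :
    ∃ e a : G, e ∈ C ∧ a ∈ C ∧ e ^ (2 ^ k) = 1 ∧ a ^ m = 1 ∧ h = e * a := by
  have hcop : Nat.Coprime (2 ^ k) m := Nat.Coprime.pow_left k (Nat.coprime_two_left.mpr hm)
  have hbez := Nat.gcd_eq_gcd_ab (2 ^ k) m
  rw [hcop.gcd_eq_one] at hbez
  set u := Nat.gcdA (2 ^ k) m
  set v := Nat.gcdB (2 ^ k) m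
  have hcardpow : h ^ (2 ^ k * m) = 1 := by rw [← hcard]; exact pow_card_eq_one'
  refine ⟨(h ^ m) ^ v, (h ^ (2 ^ k)) ^ u, zpow_mem (pow_mem hh _) _, zpow_mem (pow_mem hh _) _,
    ?_, ?_, ?_⟩
  · rw [← zpow_natCast, ← zpow_mul, mul_comm, zpow_mul, zpow_natCast, ← pow_mul, mul_comm,
      hcardpow, one_zpow]
  · rw [← zpow_natCast, ← zpow_mul, mul_comm, zpow_mul, zpow_natCast, ← pow_mul, hcardpow, one_zpow]
  · rw [← zpow_natCast h m, ← zpow_natCast h (2 ^ k), ← zpow_mul, ← zpow_mul, ← zpow_add]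
    have : (m : ℤ) * v + ((2 ^ k : ℕ) : ℤ) * u = 1 := by
      rw [add_comm]; exact hbez.symm
    rw [this, zpow_one]

end quat

theorem result {G : Type*} [Group G] [Finite G] (hna : ¬ IsMulCommutative G) (hn : ∀ H : Subgroup G, H.Normal) : ∃ Q E A : Subgroup G, Nonempty (Q ≃* QuaternionGroup 2) ∧ Cfsg.IsElementaryAbelian 2 E ∧ IsMulCommutative A ∧ Odd (Nat.card A) ∧ E ⊓ A = ⊥ ∧ Q ⊓ (E ⊔ A) = ⊥ ∧ Q ⊔ (E ⊔ A) = ⊤ := by
  classical
  have hna' : ∃ a b : G, a * b ≠ b * a := by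
    by_contra hcon
    simp only [not_exists, not_not] at hcon
    exact hna ⟨⟨hcon⟩⟩
  obtain ⟨x, y, hox, hoy, hy, hyx⟩ := exists_quaternion_pair hn hna'
  have hx4 : x ^ 4 = 1 := by rw [← hox]; exact pow_orderOf_eq_one x
  set Q := Subgroup.closure ({x, y} : Set G) with hQ
  set C := Subgroup.centralizer ({x, y} : Set G) with hC
  have hxQ : x ∈ Q := Subgroup.subset_closure (by simp)
  have hyQ : y ∈ Q := Subgroup.subset_closure (by simp)
  have hCcomm := commute_of_mem_centralizer hn x y hox hoy hy hyx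
  have hsq := sq_eq_one_of_two_pow hn x y hox hoy hy hyx
  obtain ⟨k, m, hmodd, hkm⟩ := Nat.exists_eq_two_pow_mul_odd (n := Nat.card G) Nat.card_pos.ne'
  set E₂ := torsionIn C hCcomm 2 with hE₂
  set A := torsionIn C hCcomm m with hA
  obtain ⟨c, hc⟩ : ∃ c : G, c = x ^ 2 := ⟨_, rfl⟩
  have hcC : c ∈ C := by
    rw [hC, Subgroup.mem_centralizer_iff]
    intro z hz
    rcases hz with rfl | hz
    · rw [hc, ← pow_succ', ← pow_succ]
    · rw [Set.mem_singleton_iff] at hz
      rw [hz, hc, ← hy, ← pow_succ', ← pow_succ]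
  have hc2 : c ^ 2 = 1 := by rw [hc, ← pow_mul]; exact hx4
  have hc1 : c ≠ 1 := by
    intro h1
    rw [hc] at h1
    have := orderOf_dvd_of_pow_eq_one h1
    rw [hox] at this
    omega
  have hcE₂ : c ∈ E₂ := ⟨hcC, hc2⟩
  -- E₂ ⊓ A = ⊥ elementwise
  have hEA : ∀ g : G, g ^ 2 = 1 → g ^ m = 1 → g = 1 := by
    intro g h2 hm
    have h3 : orderOf g ∣ Nat.gcd 2 m :=
      Nat.dvd_gcd (orderOf_dvd_of_pow_eq_one h2) (orderOf_dvd_of_pow_eq_one hm)
    rw [(Nat.coprime_two_left.mpr hmodd).gcd_eq_one, Nat.dvd_one, orderOf_eq_one_iff] at h3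
    exact h3
  -- the complement E
  have hfin : {E' : Subgroup G | E' ≤ E₂ ∧ c ∉ E'}.Finite := Set.toFinite _
  have hne : {E' : Subgroup G | E' ≤ E₂ ∧ c ∉ E'}.Nonempty :=
    ⟨⊥, bot_le, by rw [Subgroup.mem_bot]; exact hc1⟩
  obtain ⟨E, hEmax⟩ := hfin.exists_maximal hne
  obtain ⟨hEE₂, hcE⟩ := hEmax.prop
  have hsplitE : ∀ g ∈ E₂, g ∈ E ∨ g * c ∈ E := by
    intro g hg
    by_cases hgE : g ∈ E
    · exact Or.inl hgE
    right
    have hN : (Subgroup.zpowers g).Normal := hn _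
    have hle : E ≤ E ⊔ Subgroup.zpowers g := le_sup_left
    have hcmem : c ∈ E ⊔ Subgroup.zpowers g := by
      by_contra hcn
      have hmem : E ⊔ Subgroup.zpowers g ∈ {E' : Subgroup G | E' ≤ E₂ ∧ c ∉ E'} :=
        ⟨sup_le hEE₂ (by rw [Subgroup.zpowers_le]; exact hg), hcn⟩
      have := hEmax.le_of_ge hmem hle
      exact hgE (this (le_sup_right (a := E) (Subgroup.mem_zpowers g)))
    have hset : c ∈ ((E ⊔ Subgroup.zpowers g : Subgroup G) : Set G) := hcmem
    rw [Subgroup.mul_normal] at hset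
    obtain ⟨e, he, z, hz, hez⟩ := Set.mem_mul.mp hset
    obtain ⟨r, hr⟩ := exists_pow_eq_of_mem_zpowers g z hz
    have hg2 : g ^ 2 = 1 := hg.2
    have hr' : g ^ (r % 2) = z := by
      rw [← hr]; exact (pow_eq_pow_mod r hg2).symm
    have hlt : r % 2 < 2 := Nat.mod_lt _ (by norm_num)
    interval_cases hm : r % 2
    · exfalso
      rw [pow_zero] at hr'
      rw [← hr', mul_one] at hez
      rw [← hez] at hcE
      exact hcE he
    · rw [pow_one] at hr'
      rw [← hr'] at hez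
      -- e * g = c → g * c = e⁻¹ ... use commutativity in C
      have heC : e ∈ C := (hEE₂ he).1
      have hgC : g ∈ C := hg.1
      have h1 : g * c = e := by
        rw [← hez]
        calc g * (e * g) = g * (g * e) := by rw [hCcomm e heC g hgC]
          _ = g ^ 2 * e := by rw [pow_two, mul_assoc]
          _ = e := by rw [hg2, one_mul]
      rw [h1]; exact he
  have hEC : E ≤ C := fun g hg => (hEE₂ hg).1
  have hAC : A ≤ C := fun g hg => hg.1
  have hEAC : E ⊔ A ≤ C := sup_le hEC hAC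
  refine ⟨Q, E, A, ?_, ?_, ?_, ?_, ?_, ?_, ?_⟩
  · -- Q ≃* QuaternionGroup 2
    have hcard := card_closure hn x y hox hy hyx
    have h1 : orderOf (⟨x, hxQ⟩ : Q) = 2 * 2 := by
      rw [← Subgroup.orderOf_coe]; exact hox
    exact Cfsg.Agent.Lib.Helper50_UniqueInv.nonempty_mulEquiv_quaternionGroup (P := Q) (n := 2)
      (a := ⟨x, hxQ⟩) (le_refl 2) ⟨y, hyQ⟩ h1
      (by apply Subtype.ext; simpa using hy)
      (by apply Subtype.ext; simpa using hyx)
      (by rw [hcard])
  · -- elementary abelian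
    refine ⟨⟨⟨fun a b => ?_⟩⟩, fun a ha => (hEE₂ ha).2⟩
    apply Subtype.ext
    exact hCcomm a.1 (hEC a.2) b.1 (hEC b.2)
  · refine ⟨⟨fun a b => ?_⟩⟩
    apply Subtype.ext
    exact hCcomm a.1 (hAC a.2) b.1 (hAC b.2)
  · -- odd card
    by_contra hodd
    rw [Nat.not_odd_iff_even] at hodd
    have h2 : 2 ∣ Nat.card A := hodd.two_dvd
    have : Fact (Nat.Prime 2) := ⟨Nat.prime_two⟩
    obtain ⟨a, ha⟩ := exists_prime_orderOf_dvd_card' 2 h2
    have ha2 : (a : G) ^ 2 = 1 := by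
      have : a ^ 2 = 1 := by rw [← ha]; exact pow_orderOf_eq_one a
      have := congrArg Subtype.val this
      simpa using this
    have ha1 := hEA a.1 ha2 a.2.2
    have : a = 1 := Subtype.ext ha1
    rw [this, orderOf_one] at ha
    omega
  · -- E ⊓ A = ⊥
    rw [eq_bot_iff]
    intro g hg
    rw [Subgroup.mem_bot]
    exact hEA g (hEE₂ hg.1).2 hg.2.2
  · -- Q ⊓ (E ⊔ A) = ⊥
    rw [eq_bot_iff]
    intro g hg
    rw [Subgroup.mem_bot]
    have hgC : g ∈ C := hEAC hg.2
    have hgC' := hgC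
    rw [hC, Subgroup.mem_centralizer_iff] at hgC'
    have hgx : g * x = x * g := (hgC' x (by simp)).symm
    have hgy : g * y = y * g := (hgC' y (by simp)).symm
    rcases eq_one_or_sq_of_mem_closure hn x y hox hy hyx g hg.1 hgx hgy with h1 | h1
    · exact h1
    · exfalso
      have hset : g ∈ ((E ⊔ A : Subgroup G) : Set G) := hg.2
      have hAN : A.Normal := hn _
      rw [Subgroup.mul_normal] at hset
      obtain ⟨e, he, a, ha, hea⟩ := Set.mem_mul.mp hset
      -- a = e⁻¹ * c ∈ E₂ ∩ A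
      have ha2 : a ^ 2 = 1 := by
        have h3 : a = e⁻¹ * c := by rw [hc, ← h1, ← hea]; group
        have h4 : e⁻¹ * c ∈ E₂ := mul_mem (inv_mem (hEE₂ he)) hcE₂
        rw [h3]; exact h4.2
      have ha1 := hEA a ha2 ha.2
      rw [ha1, mul_one] at hea
      rw [hea, h1, ← hc] at he
      exact hcE he
  · -- Q ⊔ (E ⊔ A) = ⊤
    rw [eq_top_iff]
    intro g _
    obtain ⟨q, hq, hgq⟩ := exists_mul_mem_centralizer hn x y hox hoy hy hyx g
    obtain ⟨e, a, heC, haC, he, ha, hsplit⟩ := exists_split C k m hmodd hkm (g * q) hgq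
    have he2 : e ^ 2 = 1 := hsq k e heC he
    have haA : a ∈ A := ⟨haC, ha⟩
    have heE₂ : e ∈ E₂ := ⟨heC, he2⟩
    have hcQ : c ∈ Q := by rw [hc]; exact pow_mem hxQ 2
    have hg : g = e * a * q⁻¹ := by rw [← hsplit]; group
    have hqm : q⁻¹ ∈ Q ⊔ (E ⊔ A) := Subgroup.mem_sup_left (inv_mem hq)
    have ham : a ∈ Q ⊔ (E ⊔ A) := Subgroup.mem_sup_right (Subgroup.mem_sup_right haA)
    have hem : e ∈ Q ⊔ (E ⊔ A) := by
      rcases hsplitE e heE₂ with h1 | h1
      · exact Subgroup.mem_sup_right (Subgroup.mem_sup_left h1)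
      · have h2 : e = (e * c) * c := by
          rw [mul_assoc, ← pow_two, hc2, mul_one]
        rw [h2]
        exact mul_mem (Subgroup.mem_sup_right (Subgroup.mem_sup_left h1))
          (Subgroup.mem_sup_left hcQ)
    rw [hg]
    exact mul_mem (mul_mem hem ham) hqm

end Cfsg.Agent.S4211
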