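import Cfsg.Statements.S1896
import Mathlib
import Cfsg.Agent.Lib.Helper1_Frattini
import Cfsg.Agent.S4370
import Cfsg.Agent.S4189
import Cfsg.Agent.S4211

set_option autoImplicit false
open Cfsg

namespace Cfsg.Agent.S1896

/-- L1: a non-2-group has an element of odd prime order. -/
theorem exists_odd_prime_order {A : Type*} [Group A] [Finite A] (h : ¬ IsPGroup 2 A) :
    ∃ (α : A) (q : ℕ), q.Prime ∧ q ≠ 2 ∧ orderOf α = q := by
  unfold IsPGroup at h
  push Not at h
  obtain ⟨g, hg⟩ := h
  have hpos : 0 < orderOf g := orderOf_pos g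
  have hnot : ∀ k, orderOf g ≠ 2 ^ k := by
    intro k hk
    apply hg k
    rw [← hk]; exact pow_orderOf_eq_one g
  -- there's an odd prime dividing orderOf g
  have : ∃ q, q.Prime ∧ q ≠ 2 ∧ q ∣ orderOf g := by
    by_contra hcon
    push Not at hcon
    apply hnot (orderOf g).primeFactorsList.length
    apply Nat.eq_prime_pow_of_unique_prime_dvd hpos.ne'
    intro q hq hqd
    by_contra hq2
    exact hcon q hq hq2 hqd
  obtain ⟨q, hq, hq2, hqd⟩ := this
  refine ⟨g ^ (orderOf g / q), q, hq, hq2, ?_⟩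
  exact orderOf_pow_orderOf_div hpos.ne' hqd

/-- In a 2-group, `m ^ q = 1` with `q` odd forces `m = 1`. -/
theorem eq_one_of_pow_odd {X : Type*} [Group X] (hX : IsPGroup 2 X) {q : ℕ} (hq : Odd q) {m : X}
    (hm : m ^ q = 1) : m = 1 := by
  obtain ⟨k, hk2⟩ := hX m
  have hc : Nat.Coprime q (2 ^ k) := (Nat.coprime_two_right.2 hq).pow_right k
  have h1 : orderOf m ∣ q := orderOf_dvd_of_pow_eq_one hm
  have h2 : orderOf m ∣ 2 ^ k := orderOf_dvd_of_pow_eq_one hk2
  have h3 : orderOf m ∣ 1 := by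
    have := Nat.dvd_gcd h1 h2
    rwa [hc] at this
  exact orderOf_eq_one_iff.1 (Nat.dvd_one.1 h3)

/-- L2. -/
theorem fix_of_mul {X : Type*} [Group X] (hX : IsPGroup 2 X) (β : MulAut X) (q : ℕ) (hq : Odd q)
    (hβ : β ^ q = 1) (x m : X) (h1 : β x = x * m) (h2 : β m = m) : β x = x := by
  have hk : ∀ k : ℕ, (β ^ k) x = x * m ^ k := by
    intro k
    induction k with
    | zero => simp
    | succ k ih =>
      rw [pow_succ', MulAut.mul_apply, ih, map_mul, map_pow, h1, h2, pow_succ', mul_assoc]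
  have h3 := hk q
  rw [hβ, MulAut.one_apply] at h3
  have hm : m ^ q = 1 := by
    have := mul_left_cancel (a := x) (b := 1) (c := m ^ q) (by rw [mul_one]; exact h3)
    exact this.symm
  have hm1 : m = 1 := eq_one_of_pow_odd hX hq hm
  rw [h1, hm1, mul_one]

/-- L3: an endomorphism of odd finite order of a finite cyclic 2-group is the identity. -/
theorem cyc_id {C : Type*} [Group C] [Finite C] [hc : IsCyclic C] (hC : IsPGroup 2 C) (f : C →* C)
    (q : ℕ) (hq : Odd q) (hf : ∀ c, f^[q] c = c) : ∀ c, f c = c := by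
  obtain ⟨g, hg⟩ := hc.exists_generator
  obtain ⟨m, hm⟩ : ∃ m : ℕ, g ^ m = f g := by
    have := hg (f g)
    rw [← mem_powers_iff_mem_zpowers] at this
    exact this
  have hk : ∀ k : ℕ, f^[k] g = g ^ (m ^ k) := by
    intro k
    induction k with
    | zero => simp
    | succ k ih =>
      rw [Function.iterate_succ_apply', ih, map_pow, ← hm, ← pow_mul, pow_succ']
  have h1 : g ^ (m ^ q) = g ^ 1 := by rw [← hk q, hf g, pow_one]
  rw [pow_eq_pow_iff_modEq] at h1
  obtain ⟨r, hr⟩ : ∃ r, orderOf g = 2 ^ r := by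
    obtain ⟨r, hr⟩ := (IsPGroup.iff_card (p := 2) (G := C)).1 hC
    have hdvd : orderOf g ∣ 2 ^ r := hr ▸ orderOf_dvd_natCard g
    obtain ⟨j, -, hj⟩ := (Nat.dvd_prime_pow Nat.prime_two).1 hdvd
    exact ⟨j, hj⟩
  have hm1 : m ≡ 1 [MOD orderOf g] := by
    rw [hr] at h1 ⊢
    haveI : NeZero (2 ^ r) := ⟨by positivity⟩
    have h2 : ((m : ZMod (2 ^ r))) ^ q = 1 := by
      have := (ZMod.natCast_eq_natCast_iff (m ^ q) 1 (2 ^ r)).2 h1
      simpa using this
    have hq0 : q ≠ 0 := by rintro rfl; simp at hq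
    let u : (ZMod (2 ^ r))ˣ := Units.ofPowEqOne (m : ZMod (2 ^ r)) q h2 hq0
    have hu : u ^ q = 1 := by
      apply Units.ext
      simp [u, h2]
    have hU : IsPGroup 2 (ZMod (2 ^ r))ˣ := by
      rcases Nat.eq_zero_or_pos r with rfl | hrpos
      · apply IsPGroup.of_card (n := 0)
        rw [Nat.card_eq_fintype_card, ZMod.card_units_eq_totient]; simp
      · apply IsPGroup.of_card (n := r - 1)
        rw [Nat.card_eq_fintype_card, ZMod.card_units_eq_totient,
          Nat.totient_prime_pow Nat.prime_two hrpos]; simp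
    have hu1 : u = 1 := eq_one_of_pow_odd hU hq hu
    have h3 : (m : ZMod (2 ^ r)) = 1 := by
      have := congrArg Units.val hu1
      simpa [u] using this
    have := (ZMod.natCast_eq_natCast_iff m 1 (2 ^ r)).1 (by simpa using h3)
    exact this
  have hfg : f g = g := by
    rw [← hm]
    have := (pow_eq_pow_iff_modEq (x := g) (n := m) (m := 1)).2 hm1
    rw [this, pow_one]
  intro c
  obtain ⟨i, rfl⟩ := Subgroup.mem_zpowers_iff.1 (hg c)
  rw [map_zpow, hfg]

/-- L4a: an odd-order automorphism fixes pointwise every invariant cyclic subgroup of a 2-group. -/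
theorem fix_cyclic_subgroup {X : Type*} [Group X] [Finite X] (hX : IsPGroup 2 X) (β : MulAut X)
    (q : ℕ) (hq : Odd q) (hβ : β ^ q = 1) (C : Subgroup X) [IsCyclic C]
    (hmap : ∀ c ∈ C, β c ∈ C) : ∀ c ∈ C, β c = c := by
  let f : C →* C := (β.toMonoidHom.comp C.subtype).codRestrict C (fun c => hmap c c.2)
  have hfk : ∀ (k : ℕ) (c : C), ((f^[k] c : C) : X) = (β ^ k) (c : X) := by
    intro k
    induction k with
    | zero => intro c; simp
    | succ k ih =>
      intro c
      rw [Function.iterate_succ_apply', pow_succ', MulAut.mul_apply, ← ih]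
      rfl
  have hf : ∀ c, f^[q] c = c := by
    intro c
    apply Subtype.ext
    rw [hfk, hβ, MulAut.one_apply]
  have := cyc_id (hX.to_subgroup C) f q hq hf
  intro c hc
  have h1 := congrArg Subtype.val (this ⟨c, hc⟩)
  exact h1

/-- L4b: an odd-order automorphism acts trivially on an invariant cyclic quotient of a 2-group. -/
theorem fix_cyclic_quotient {X : Type*} [Group X] [Finite X] (hX : IsPGroup 2 X) (β : MulAut X)
    (q : ℕ) (hq : Odd q) (hβ : β ^ q = 1) (N : Subgroup X) [N.Normal] [IsCyclic (X ⧸ N)]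
    (hmap : ∀ n ∈ N, β n ∈ N) : ∀ x, x⁻¹ * β x ∈ N := by
  let f : X ⧸ N →* X ⧸ N := QuotientGroup.map N N β.toMonoidHom (fun n hn => hmap n hn)
  have hfk : ∀ (k : ℕ) (x : X), f^[k] (QuotientGroup.mk x) = QuotientGroup.mk ((β ^ k) x) := by
    intro k
    induction k with
    | zero => intro x; simp
    | succ k ih =>
      intro x
      rw [Function.iterate_succ_apply', pow_succ', MulAut.mul_apply, ih]
      rfl
  have hf : ∀ c, f^[q] c = c := by
    intro c
    obtain ⟨x, rfl⟩ := QuotientGroup.mk_surjective c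
    rw [hfk, hβ, MulAut.one_apply]
  have := cyc_id (hX.to_quotient N) f q hq hf
  intro x
  have h1 := this (QuotientGroup.mk x)
  have h2 : f (QuotientGroup.mk x) = QuotientGroup.mk (β x) := rfl
  rw [h2] at h1
  exact (QuotientGroup.eq.1 h1.symm)

/-- L5. -/
theorem eq_one_of_invariant {X : Type*} [Group X] [Finite X] (hX : IsPGroup 2 X) (β : MulAut X)
    (q : ℕ) (hq : Odd q) (hβ : β ^ q = 1) (N : Subgroup X) [N.Normal] [IsCyclic N]
    [IsCyclic (X ⧸ N)] (hmap : ∀ n ∈ N, β n ∈ N) : β = 1 := by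
  apply MulEquiv.ext
  intro x
  have h1 := fix_cyclic_quotient hX β q hq hβ N hmap x
  have h2 := fix_cyclic_subgroup hX β q hq hβ N hmap _ h1
  rw [MulAut.one_apply]
  exact fix_of_mul hX β q hq hβ x (x⁻¹ * β x) (by group) h2

/-- L6': fixed points in invariant cosets. -/
theorem exists_fixed_in_coset {X : Type*} [Group X] [Finite X] (hX : IsPGroup 2 X) (β : MulAut X)
    (q : ℕ) (hqp : q.Prime) (hq2 : q ≠ 2) (hβ : β ^ q = 1) (K : Subgroup X)
    (hK : ∀ k ∈ K, β k ∈ K) (c : X) (hc : c⁻¹ * β c ∈ K) : ∃ y, c⁻¹ * y ∈ K ∧ β y = y := by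
  classical
  haveI : Fact q.Prime := ⟨hqp⟩
  let S := {y : X // c⁻¹ * y ∈ K}
  haveI : Fintype S := Fintype.ofFinite S
  have hmem : ∀ y : X, c⁻¹ * y ∈ K → c⁻¹ * β y ∈ K := by
    intro y hy
    have : c⁻¹ * β y = (c⁻¹ * β c) * β (c⁻¹ * y) := by rw [map_mul, map_inv]; group
    rw [this]; exact K.mul_mem hc (hK _ hy)
  let f : Function.End S := fun y => ⟨β y.1, hmem y.1 y.2⟩
  have hfk : ∀ (k : ℕ) (y : S), ((f ^ k) y : X) = (β ^ k) y.1 := by
    intro k
    induction k with
    | zero => intro y; rfl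
    | succ k ih =>
      intro y
      rw [pow_succ', pow_succ', MulAut.mul_apply, ← ih]
      rfl
  have hf : f ^ q ^ 1 = 1 := by
    rw [pow_one]
    funext y
    apply Subtype.ext
    rw [hfk, hβ, MulAut.one_apply]
    rfl
  have hmod := Equiv.Perm.card_fixedPoints_modEq (f := f) (p := q) (n := 1) hf
  have hcard : Fintype.card S = Nat.card K := by
    rw [← Nat.card_eq_fintype_card]
    apply Nat.card_congr
    exact
      { toFun := fun y => ⟨c⁻¹ * y.1, y.2⟩
        invFun := fun k => ⟨c * k.1, by simp⟩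
        left_inv := fun y => by simp
        right_inv := fun k => by simp }
  obtain ⟨j, hj⟩ := (IsPGroup.iff_card (p := 2) (G := K)).1 (hX.to_subgroup K)
  by_contra hcon
  push Not at hcon
  have hempty : Fintype.card (Function.fixedPoints f) = 0 := by
    rw [Fintype.card_eq_zero_iff]
    constructor
    rintro ⟨y, hy⟩
    apply hcon y.1 y.2
    have := congrArg Subtype.val hy
    exact this
  rw [hempty, hcard, hj] at hmod
  have hdvd : q ∣ 2 ^ j := (Nat.modEq_zero_iff_dvd).1 hmod
  have := (Nat.prime_dvd_prime_iff_eq hqp Nat.prime_two).1 (hqp.dvd_of_dvd_pow hdvd)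
  exact hq2 this

/-- L6: Burnside's basis-type lemma for 2-generated 2-groups. -/
theorem burnside_lite {X : Type*} [Group X] [Finite X] (hX : IsPGroup 2 X) (β : MulAut X)
    (q : ℕ) (hqp : q.Prime) (hq2 : q ≠ 2) (hβ : β ^ q = 1) (a b : X)
    (hgen : Subgroup.closure {a, b} = ⊤) (htriv : ∀ x, x⁻¹ * β x ∈ frattini X) : β = 1 := by
  have hK : ∀ k ∈ frattini X, β k ∈ frattini X := by
    intro k hk
    have : β k = k * (k⁻¹ * β k) := by group
    rw [this]; exact (frattini X).mul_mem hk (htriv k)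
  obtain ⟨x, hx, hxf⟩ := exists_fixed_in_coset hX β q hqp hq2 hβ (frattini X) hK a (htriv a)
  obtain ⟨y, hy, hyf⟩ := exists_fixed_in_coset hX β q hqp hq2 hβ (frattini X) hK b (htriv b)
  have hxy : Subgroup.closure {x, y} = ⊤ := by
    apply frattini_nongenerating
    rw [eq_top_iff, ← hgen, Subgroup.closure_le]
    intro z hz
    rcases hz with rfl | rfl
    · have : z = x * (z⁻¹ * x)⁻¹ := by group
      rw [this]
      exact Subgroup.mul_mem _ (Subgroup.mem_sup_left (Subgroup.subset_closure (by simp)))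
        (Subgroup.mem_sup_right ((frattini X).inv_mem hx))
    · have : z = y * (z⁻¹ * y)⁻¹ := by group
      rw [this]
      exact Subgroup.mul_mem _ (Subgroup.mem_sup_left (Subgroup.subset_closure (by simp)))
        (Subgroup.mem_sup_right ((frattini X).inv_mem hy))
  have : β.toMonoidHom = MonoidHom.id X := by
    apply MonoidHom.eq_of_eqOn_dense hxy
    intro z hz
    rcases hz with rfl | rfl
    · exact hxf
    · exact hyf
  apply MulEquiv.ext
  intro z
  exact DFunLike.congr_fun this z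

theorem zpow_cases {Q : Type*} [Group Q] (u : Q) (hu : u * u = 1) (m : ℤ) :
    u ^ m = 1 ∨ u ^ m = u := by
  rcases Int.even_or_odd' m with ⟨k, rfl | rfl⟩
  · left; rw [zpow_mul, zpow_two, hu, one_zpow]
  · right; rw [zpow_add, zpow_mul, zpow_two, hu, one_zpow, one_mul, zpow_one]

theorem quot_sq {X : Type*} [Group X] [Finite X] (hX : IsPGroup 2 X) (u : X ⧸ frattini X) :
    u * u = 1 := by
  obtain ⟨x, rfl⟩ := QuotientGroup.mk_surjective u
  rw [← QuotientGroup.mk_mul, QuotientGroup.eq_one_iff, ← pow_two]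
  haveI : Fact (Nat.Prime 2) := ⟨Nat.prime_two⟩
  exact Cfsg.Agent.Lib.Helper1_Frattini.pow_mem_frattini_of_isPGroup hX x

theorem quot_comm {X : Type*} [Group X] [Finite X] (hX : IsPGroup 2 X) (u v : X ⧸ frattini X) :
    u * v = v * u := by
  have h1 := quot_sq hX (u * v)
  have hu := quot_sq hX u
  have hv := quot_sq hX v
  have hu' : u⁻¹ = u := inv_eq_of_mul_eq_one_right hu
  have hv' : v⁻¹ = v := inv_eq_of_mul_eq_one_right hv
  have h2 : (u * v)⁻¹ = u * v := inv_eq_of_mul_eq_one_right h1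
  rw [mul_inv_rev, hu', hv'] at h2
  exact h2.symm

theorem quot_cases {X : Type*} [Group X] [Finite X] (hX : IsPGroup 2 X) (a b : X)
    (hgen : Subgroup.closure {a, b} = ⊤) (u : X ⧸ frattini X) :
    u = 1 ∨ u = (a : X ⧸ frattini X) ∨ u = (b : X ⧸ frattini X) ∨
      u = (a : X ⧸ frattini X) * (b : X ⧸ frattini X) := by
  have hcl : Subgroup.closure {(a : X ⧸ frattini X), (b : X ⧸ frattini X)} = ⊤ := by
    have h1 := MonoidHom.map_closure (QuotientGroup.mk' (frattini X)) {a, b}
    rw [hgen, Set.image_pair, ← MonoidHom.range_eq_map,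
      MonoidHom.range_eq_top.2 (QuotientGroup.mk'_surjective _)] at h1
    exact h1.symm
  letI : CommGroup (X ⧸ frattini X) :=
    { (inferInstance : Group (X ⧸ frattini X)) with mul_comm := quot_comm hX }
  have hu : u ∈ Subgroup.closure {(a : X ⧸ frattini X), (b : X ⧸ frattini X)} := by
    rw [hcl]; exact Subgroup.mem_top u
  rw [Subgroup.mem_closure_pair] at hu
  obtain ⟨m, n, rfl⟩ := hu
  rcases zpow_cases (a : X ⧸ frattini X) (quot_sq hX _) m with h1 | h1 <;>
  rcases zpow_cases (b : X ⧸ frattini X) (quot_sq hX _) n with h2 | h2 <;>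
  rw [h1, h2] <;> simp

/-- If both generators lie in `⟨g⟩ Φ(X)` then `X` is cyclic. -/
theorem cyclic_of_mem_sup {X : Type*} [Group X] [Finite X] (a b : X)
    (hgen : Subgroup.closure {a, b} = ⊤) (g : X)
    (ha : a ∈ Subgroup.zpowers g ⊔ frattini X) (hb : b ∈ Subgroup.zpowers g ⊔ frattini X) :
    Subgroup.zpowers g = ⊤ := by
  apply frattini_nongenerating
  rw [eq_top_iff, ← hgen, Subgroup.closure_le]
  intro z hz
  rcases hz with rfl | rfl
  · exact ha
  · exact hb

theorem frattini_map_iff {X : Type*} [Group X] (α : MulAut X) (x : X) :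
    α x ∈ frattini X ↔ x ∈ frattini X := by
  have h := (frattini_characteristic (G := X)).fixed α
  constructor
  · intro hx
    rw [← h]; exact hx
  · intro hx
    rw [← h] at hx; exact hx

theorem npow_cases {Q : Type*} [Group Q] (u : Q) (hu : u * u = 1) (n : ℕ) :
    (Even n → u ^ n = 1) ∧ (Odd n → u ^ n = u) := by
  constructor
  · rintro ⟨k, rfl⟩
    rw [← two_mul, pow_mul, pow_two, hu, one_pow]
  · rintro ⟨k, rfl⟩
    rw [pow_succ, pow_mul, pow_two, hu, one_pow, one_mul]

theorem closure_pair_top_of {X : Type*} [Group X] {a b c d : X} (hgen : Subgroup.closure {a, b} = ⊤)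
    (ha : a ∈ Subgroup.closure {c, d}) (hb : b ∈ Subgroup.closure {c, d}) :
    Subgroup.closure {c, d} = ⊤ := by
  rw [eq_top_iff, ← hgen, Subgroup.closure_le]
  intro z hz
  rcases hz with hz | hz
  · rw [hz]; exact ha
  · have hz' : z = b := hz
    rw [hz']; exact hb

section moved

variable {X : Type*} [Group X] [Finite X] (hX : IsPGroup 2 X) (α : MulAut X) (q : ℕ)
  (hqp : q.Prime) (hq2 : q ≠ 2) (hα : α ^ q = 1) (hα1 : α ≠ 1)

include hX hqp hq2 hα hα1

/-- The key lemma on the Frattini quotient: `α` moves the coset of each member of a generating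
pair. -/
theorem coset_moved (a b : X) (hgen : Subgroup.closure {a, b} = ⊤)
    (hnc : ∀ g : X, Subgroup.zpowers g ≠ ⊤) : a⁻¹ * α a ∉ frattini X := by
  intro hcon
  have hqodd : Odd q := hqp.odd_of_ne_two hq2
  have hT : frattini X ≤ (frattini X).comap α.toMonoidHom := by
    intro x hx
    exact (frattini_map_iff α x).2 hx
  let θ : X ⧸ frattini X →* X ⧸ frattini X := QuotientGroup.map _ _ α.toMonoidHom hT
  have hθ : ∀ x : X, θ (x : X ⧸ frattini X) = ((α x : X) : X ⧸ frattini X) := fun x => rfl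
  have hsq := quot_sq hX
  have hcomm := quot_comm hX
  have hcases := quot_cases hX a b hgen
  have hθa : θ (a : X ⧸ frattini X) = (a : X ⧸ frattini X) := by
    rw [hθ]; exact (QuotientGroup.eq.2 hcon).symm
  have hθk : ∀ (k : ℕ) (x : X), θ^[k] (x : X ⧸ frattini X) = (((α ^ k) x : X) : X ⧸ frattini X) := by
    intro k
    induction k with
    | zero => intro x; simp
    | succ k ih =>
      intro x
      rw [Function.iterate_succ_apply', pow_succ', MulAut.mul_apply, ih, hθ]
  have hθq : ∀ u, θ^[q] u = u := by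
    intro u
    obtain ⟨x, rfl⟩ := QuotientGroup.mk_surjective u
    rw [hθk, hα, MulAut.one_apply]
  have hker : ∀ x : X, θ (x : X ⧸ frattini X) = 1 → x ∈ frattini X := by
    intro x hx
    rw [hθ, QuotientGroup.eq_one_iff] at hx
    exact (frattini_map_iff α x).1 hx
  have hamem : a ∈ Subgroup.zpowers a ⊔ frattini X :=
    Subgroup.mem_sup_left (Subgroup.mem_zpowers a)
  have hbmem : b ∈ Subgroup.zpowers b ⊔ frattini X :=
    Subgroup.mem_sup_left (Subgroup.mem_zpowers b)
  rcases hcases (θ (b : X ⧸ frattini X)) with h | h | h | h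
  · -- θ b = 1
    have hb := hker b h
    exact hnc a (cyclic_of_mem_sup a b hgen a hamem (Subgroup.mem_sup_right hb))
  · -- θ b = a = θ a
    have h1 : θ ((a⁻¹ * b : X) : X ⧸ frattini X) = 1 := by
      rw [QuotientGroup.mk_mul, map_mul, QuotientGroup.mk_inv, map_inv, hθa, h, inv_mul_cancel]
    have h2 := hker _ h1
    have hb : b ∈ Subgroup.zpowers a ⊔ frattini X := by
      have : b = a * (a⁻¹ * b) := by group
      rw [this]
      exact Subgroup.mul_mem _ hamem (Subgroup.mem_sup_right h2)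
    exact hnc a (cyclic_of_mem_sup a b hgen a hamem hb)
  · -- θ b = b: θ = id
    have hid : ∀ u, θ u = u := by
      intro u
      rcases hcases u with rfl | rfl | rfl | rfl
      · exact map_one θ
      · exact hθa
      · exact h
      · rw [map_mul, hθa, h]
    apply hα1
    apply burnside_lite hX α q hqp hq2 hα a b hgen
    intro x
    have := hid (x : X ⧸ frattini X)
    rw [hθ] at this
    exact QuotientGroup.eq.1 this.symm
  · -- θ b = a b
    have h2 : ∀ u, θ (θ u) = u := by
      intro u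
      rcases hcases u with rfl | rfl | rfl | rfl
      · rw [map_one, map_one]
      · rw [hθa, hθa]
      · rw [h, map_mul, hθa, h, ← mul_assoc, hsq, one_mul]
      · rw [map_mul, hθa, h, map_mul, map_mul, hθa, h, ← mul_assoc, ← mul_assoc, hsq, one_mul]
    have heven : ∀ (m : ℕ) u, θ^[2 * m] u = u := by
      intro m
      induction m with
      | zero => intro u; simp
      | succ m ih =>
        intro u
        have : 2 * (m + 1) = 2 * m + 1 + 1 := by ring
        rw [this, Function.iterate_succ_apply', Function.iterate_succ_apply', ih, h2]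
    obtain ⟨m, hm⟩ := hqodd
    have hid : ∀ u, θ u = u := by
      intro u
      have := hθq u
      rw [hm, show 2 * m + 1 = (2 * m).succ from rfl, Function.iterate_succ_apply', heven] at this
      exact this
    have h3 := hid (b : X ⧸ frattini X)
    rw [h] at h3
    have h4 : (a : X ⧸ frattini X) = 1 := by
      have := mul_right_cancel (b := (b : X ⧸ frattini X)) (a := (a : X ⧸ frattini X)) (c := 1)
        (by rw [one_mul]; exact h3)
      exact this
    have ha : a ∈ frattini X := (QuotientGroup.eq_one_iff a).1 h4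
    exact hnc b (cyclic_of_mem_sup a b hgen b (Subgroup.mem_sup_right ha) hbmem)

/-- `a` and `α a` generate. -/
theorem gen_pair (a b : X) (hgen : Subgroup.closure {a, b} = ⊤)
    (hnc : ∀ g : X, Subgroup.zpowers g ≠ ⊤) : Subgroup.closure {a, α a} = ⊤ := by
  apply frattini_nongenerating
  have hcases := quot_cases hX a b hgen ((α a : X) : X ⧸ frattini X)
  have ha : a ∈ Subgroup.closure {a, α a} ⊔ frattini X :=
    Subgroup.mem_sup_left (Subgroup.subset_closure (by simp))
  have hαa : α a ∈ Subgroup.closure {a, α a} ⊔ frattini X :=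
    Subgroup.mem_sup_left (Subgroup.subset_closure (by simp))
  rw [eq_top_iff, ← hgen, Subgroup.closure_le]
  intro z hz
  rcases hz with hz | hz
  · rw [hz]; exact ha
  · have hz' : z = b := hz
    rw [hz']
    rcases hcases with h | h | h | h
    · exfalso
      have h1 : α a ∈ frattini X := (QuotientGroup.eq_one_iff _).1 h
      have h2 : a ∈ frattini X := (frattini_map_iff α a).1 h1
      exact hnc b (cyclic_of_mem_sup a b hgen b (Subgroup.mem_sup_right h2)
        (Subgroup.mem_sup_left (Subgroup.mem_zpowers b)))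
    · exfalso
      exact coset_moved hX α q hqp hq2 hα hα1 a b hgen hnc (QuotientGroup.eq.1 h.symm)
    · have h1 : (α a)⁻¹ * b ∈ frattini X := QuotientGroup.eq.1 h
      have : b = α a * ((α a)⁻¹ * b) := by group
      rw [this]
      exact Subgroup.mul_mem _ hαa (Subgroup.mem_sup_right h1)
    · rw [← QuotientGroup.mk_mul] at h
      have h1 : (α a)⁻¹ * (a * b) ∈ frattini X := QuotientGroup.eq.1 h
      have : b = a⁻¹ * (α a * ((α a)⁻¹ * (a * b))) := by group
      rw [this]
      exact Subgroup.mul_mem _ (Subgroup.inv_mem _ ha)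
        (Subgroup.mul_mem _ hαa (Subgroup.mem_sup_right h1))

/-- Parity of the exponents in `α (α a) = a ^ r * (α a) ^ s`. -/
theorem parity (a : X) (hgen : Subgroup.closure {a, α a} = ⊤)
    (hnc : ∀ g : X, Subgroup.zpowers g ≠ ⊤) (r s : ℕ) (hrs : α (α a) = a ^ r * (α a) ^ s) :
    Odd r ∧ Odd s := by
  have hsq := quot_sq hX
  have hcomm := quot_comm hX
  have hQ : ((α (α a) : X) : X ⧸ frattini X) =
      (a : X ⧸ frattini X) ^ r * ((α a : X) : X ⧸ frattini X) ^ s := by
    rw [hrs, QuotientGroup.mk_mul, QuotientGroup.mk_pow, QuotientGroup.mk_pow]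
  have hgen' : Subgroup.closure {α a, a} = ⊤ := by rw [Set.pair_comm]; exact hgen
  have hmoved := coset_moved hX α q hqp hq2 hα hα1 (α a) a hgen' hnc
  have hr : Odd r := by
    by_contra hr
    rw [Nat.not_odd_iff_even] at hr
    rw [(npow_cases _ (hsq _) r).1 hr, one_mul] at hQ
    rcases Nat.even_or_odd s with hs | hs
    · rw [(npow_cases _ (hsq _) s).1 hs] at hQ
      have h1 : α (α a) ∈ frattini X := (QuotientGroup.eq_one_iff _).1 hQ
      have h2 : α a ∈ frattini X := (frattini_map_iff α _).1 h1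
      have h3 : a ∈ frattini X := (frattini_map_iff α _).1 h2
      exact hnc 1 (cyclic_of_mem_sup a (α a) hgen 1 (Subgroup.mem_sup_right h3)
        (Subgroup.mem_sup_right h2))
    · rw [(npow_cases _ (hsq _) s).2 hs] at hQ
      exact hmoved (QuotientGroup.eq.1 hQ.symm)
  have hs : Odd s := by
    by_contra hs
    rw [Nat.not_odd_iff_even] at hs
    rw [(npow_cases _ (hsq _) r).2 hr, (npow_cases _ (hsq _) s).1 hs, mul_one] at hQ
    -- α fixes the coset of a * α a
    have hgen2 : Subgroup.closure {a * α a, a} = ⊤ := by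
      apply closure_pair_top_of hgen
      · exact Subgroup.subset_closure (by simp)
      · have : α a = a⁻¹ * (a * α a) := by group
        rw [this]
        exact Subgroup.mul_mem _ (Subgroup.inv_mem _ (Subgroup.subset_closure (by simp)))
          (Subgroup.subset_closure (by simp))
    have hm2 := coset_moved hX α q hqp hq2 hα hα1 (a * α a) a hgen2 hnc
    apply hm2
    apply QuotientGroup.eq.1
    rw [map_mul, QuotientGroup.mk_mul, QuotientGroup.mk_mul, hQ]
    exact hcomm _ _
  exact ⟨hr, hs⟩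

end moved

/-- Internal direct product of two cyclic groups of order `2 ^ k`. -/
theorem homocyclic_iso {X : Type*} [Group X] (N N' : Subgroup X) (hN : N.Normal) (hN' : N'.Normal)
    (hNc : IsCyclic N) (hNc' : IsCyclic N') (hdisj : N ⊓ N' = ⊥) (hsup : N ⊔ N' = ⊤) (k : ℕ)
    (hk : Nat.card N = 2 ^ k) (hk' : Nat.card N' = 2 ^ k) :
    Nonempty (X ≃* Multiplicative (ZMod (2 ^ k)) × Multiplicative (ZMod (2 ^ k))) := by
  have hcomm : ∀ (n : N) (n' : N'), Commute (N.subtype n) (N'.subtype n') := by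
    intro n n'
    exact Subgroup.commute_of_normal_of_disjoint N N' hN hN' (disjoint_iff.2 hdisj) n n' n.2 n'.2
  let φ : N × N' →* X := MonoidHom.noncommCoprod N.subtype N'.subtype hcomm
  have hφ : ∀ p : N × N', φ p = (p.1 : X) * (p.2 : X) := fun p => rfl
  have hinj : Function.Injective φ := by
    rw [injective_iff_map_eq_one]
    rintro ⟨n, n'⟩ h
    rw [hφ] at h
    have h1 : (n : X) = (n' : X)⁻¹ := eq_inv_of_mul_eq_one_left h
    have h2 : (n : X) ∈ N ⊓ N' := ⟨n.2, by rw [h1]; exact N'.inv_mem n'.2⟩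
    rw [hdisj, Subgroup.mem_bot] at h2
    have h3 : (n' : X) = 1 := by rw [h2, one_mul] at h; exact h
    exact Prod.ext (Subtype.ext h2) (Subtype.ext h3)
  have hsurj : Function.Surjective φ := by
    rw [← MonoidHom.range_eq_top, eq_top_iff, ← hsup, sup_le_iff]
    constructor
    · intro x hx
      exact ⟨(⟨x, hx⟩, 1), by rw [hφ]; simp⟩
    · intro x hx
      exact ⟨(1, ⟨x, hx⟩), by rw [hφ]; simp⟩
  have e1 : N × N' ≃* X := MulEquiv.ofBijective φ ⟨hinj, hsurj⟩
  have cyc : ∀ (C : Type _) [Group C] [IsCyclic C] (m : ℕ), Nat.card C = m →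
      Nonempty (C ≃* Multiplicative (ZMod m)) := by
    intro C _ hC m hm
    subst hm
    exact ⟨(zmodCyclicMulEquiv hC).symm⟩
  obtain ⟨e2⟩ := cyc N (2 ^ k) hk
  obtain ⟨e3⟩ := cyc N' (2 ^ k) hk'
  exact ⟨e1.symm.trans (MulEquiv.prodCongr e2 e3)⟩


theorem comm_of_mem_zpowers {X : Type*} [Group X] {g x y : X} (hx : x ∈ Subgroup.zpowers g)
    (hy : y ∈ Subgroup.zpowers g) : x * y = y * x := by
  obtain ⟨i, rfl⟩ := Subgroup.mem_zpowers_iff.1 hx
  obtain ⟨j, rfl⟩ := Subgroup.mem_zpowers_iff.1 hy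
  rw [← zpow_add, ← zpow_add, add_comm]

theorem comm_sq {G : Type*} [Group G] (u v : G)
    (hc : (u * v * u⁻¹ * v⁻¹) * u = u * (u * v * u⁻¹ * v⁻¹)) (hu2 : u * u * v = v * (u * u)) :
    (u * v * u⁻¹ * v⁻¹) * (u * v * u⁻¹ * v⁻¹) = 1 := by
  calc (u * v * u⁻¹ * v⁻¹) * (u * v * u⁻¹ * v⁻¹)
      = ((u * v * u⁻¹ * v⁻¹) * u) * (v * u⁻¹ * v⁻¹) := by group
    _ = (u * (u * v * u⁻¹ * v⁻¹)) * (v * u⁻¹ * v⁻¹) := by rw [hc]
    _ = (u * u * v) * u⁻¹ * u⁻¹ * v⁻¹ := by group
    _ = v * (u * u) * u⁻¹ * u⁻¹ * v⁻¹ := by rw [hu2]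
    _ = 1 := by group

theorem card_mul_of_sup {X : Type*} [Group X] (N N' : Subgroup X) [N.Normal]
    (hsup : N ⊔ N' = ⊤) :
    Nat.card (N ⊓ N' : Subgroup X) * Nat.card X = Nat.card N * Nat.card N' := by
  have h1 : N.index = (N ⊓ N').relIndex N' := by
    rw [Subgroup.inf_relIndex_right, ← Subgroup.relIndex_top_right, ← hsup, sup_comm,
      Subgroup.relIndex_sup_right]
  have h2 : Nat.card (N ⊓ N' : Subgroup X) * (N ⊓ N').relIndex N' = Nat.card N' := by
    have := Subgroup.relIndex_mul_relIndex ⊥ (N ⊓ N') N' bot_le inf_le_right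
    rwa [Subgroup.relIndex_bot_left, Subgroup.relIndex_bot_left] at this
  rw [← N.card_mul_index, h1, ← h2]
  ring

theorem exists_npow_of_mem_zpowers {X : Type*} [Group X] [Finite X] {g x : X}
    (hx : x ∈ Subgroup.zpowers g) : ∃ n : ℕ, g ^ n = x := by
  rw [← mem_powers_iff_mem_zpowers] at hx
  exact (Submonoid.mem_powers_iff _ _).1 hx

theorem even_choose_two (m : ℕ) : Even ((2 ^ (m + 2)).choose 2) := by
  rw [Nat.choose_two_right]
  have h : 2 ^ (m + 2) = 2 * (2 * 2 ^ m) := by ring
  rw [h, mul_assoc, Nat.mul_div_cancel_left _ (by norm_num : 0 < 2)]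
  rw [mul_assoc]
  exact even_two_mul _


theorem core {X : Type*} [Group X] [Finite X] (hX : IsPGroup 2 X) (N : Subgroup X)
    (hNn : N.Normal) (hQc : IsCyclic (X ⧸ N)) (α : MulAut X) (q : ℕ)
    (hqp : q.Prime) (hq2 : q ≠ 2) (hα : α ^ q = 1) (hα1 : α ≠ 1) (a : X)
    (hNa : N = Subgroup.zpowers a) (hnc : ∀ g : X, Subgroup.zpowers g ≠ ⊤)
    (hgen : Subgroup.closure {a, α a} = ⊤) :
    Nonempty (X ≃* QuaternionGroup 2) ∨
      ∃ n : ℕ, Nonempty (X ≃* Multiplicative (ZMod (2 ^ n)) × Multiplicative (ZMod (2 ^ n))) := by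
  have hqodd : Odd q := hqp.odd_of_ne_two hq2
  have haN : a ∈ N := by rw [hNa]; exact Subgroup.mem_zpowers a
  haveI hNc : IsCyclic N := by rw [hNa]; infer_instance
  obtain ⟨a', ha'⟩ : ∃ a' : X, a' = α a := ⟨_, rfl⟩
  obtain ⟨N', hN'⟩ : ∃ N' : Subgroup X, N' = Subgroup.zpowers a' := ⟨_, rfl⟩
  have ha'N' : a' ∈ N' := by rw [hN']; exact Subgroup.mem_zpowers a'
  haveI hNc' : IsCyclic N' := by rw [hN']; infer_instance
  have hmap : N.map α.toMonoidHom = N' := by
    rw [hNa, hN', MonoidHom.map_zpowers, ha']; rfl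
  have hN'n : N'.Normal := hmap ▸ Subgroup.Normal.map hNn α.toMonoidHom α.surjective
  have hsup : N ⊔ N' = ⊤ := by
    rw [eq_top_iff, ← hgen, Subgroup.closure_le]
    intro z hz
    rcases hz with hz | hz
    · rw [hz]; exact Subgroup.mem_sup_left haN
    · have hz' : z = α a := hz
      rw [hz', ← ha']; exact Subgroup.mem_sup_right ha'N'
  have hoa : orderOf a' = orderOf a := by rw [ha']; exact MulEquiv.orderOf_eq α a
  have hcN : Nat.card N = orderOf a := by rw [hNa]; exact Nat.card_zpowers a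
  have hcN' : Nat.card N' = orderOf a := by rw [hN', ← hoa]; exact Nat.card_zpowers a'
  -- the intersection
  obtain ⟨D, hD⟩ : ∃ D : Subgroup X, D = N ⊓ N' := ⟨_, rfl⟩
  have hDN : D ≤ N := hD ▸ inf_le_left
  have hDN' : D ≤ N' := hD ▸ inf_le_right
  have hDmap : D.map α.toMonoidHom = D := by
    apply Cfsg.Agent.S4370.eq_of_card_eq_of_le_cyclic N'
    · rw [← hmap]; exact Subgroup.map_mono hDN
    · exact hDN'
    · exact Subgroup.card_map_of_injective α.injective
  haveI hDc : IsCyclic D := Subgroup.isCyclic_of_le hDN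
  have hfixD : ∀ c ∈ D, α c = c := by
    apply fix_cyclic_subgroup hX α q hqodd hα D
    intro c hc
    have : α.toMonoidHom c ∈ D.map α.toMonoidHom := Subgroup.mem_map_of_mem _ hc
    rw [hDmap] at this
    exact this
  have hDcen : ∀ d ∈ D, ∀ x : X, d * x = x * d := by
    intro d hd x
    have hx : x ∈ Subgroup.closure {a, α a} := by rw [hgen]; trivial
    have hle : Subgroup.closure {a, α a} ≤ Subgroup.centralizer {d} := by
      rw [Subgroup.closure_le]
      intro z hz
      rw [SetLike.mem_coe, Subgroup.mem_centralizer_iff]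
      intro h hh
      have hh' : h = d := hh
      rw [hh']
      rcases hz with hz | hz
      · rw [hz]
        have h1 : d ∈ Subgroup.zpowers a := hNa ▸ hDN hd
        exact comm_of_mem_zpowers h1 (Subgroup.mem_zpowers a)
      · have hz' : z = α a := hz
        rw [hz', ← ha']
        have h1 : d ∈ Subgroup.zpowers a' := hN' ▸ hDN' hd
        exact comm_of_mem_zpowers h1 (Subgroup.mem_zpowers a')
    have := hle hx
    rw [Subgroup.mem_centralizer_iff] at this
    exact this d rfl
  -- cardinalities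
  obtain ⟨k, hk⟩ := (IsPGroup.iff_card.1 (hX.to_subgroup N))
  obtain ⟨l, hl⟩ := (IsPGroup.iff_card.1 (hX.to_subgroup D))
  have hlk : l ≤ k := by
    have := Subgroup.card_dvd_of_le hDN
    rw [hk, hl] at this
    exact (Nat.pow_dvd_pow_iff_le_right (by norm_num : 1 < 2)).1 this
  have hlk' : l < k := by
    rcases lt_or_eq_of_le hlk with h | h
    · exact h
    · exfalso
      apply hα1
      have hDN_eq : D = N := by
        apply Subgroup.eq_of_le_of_card_ge hDN
        rw [hk, hl, h]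
      have hNN' : N = N' := by
        apply Subgroup.eq_of_le_of_card_ge (hDN_eq ▸ hDN')
        rw [hcN, hcN']
      apply eq_one_of_invariant hX α q hqodd hα N
      intro n hn
      have : α.toMonoidHom n ∈ N.map α.toMonoidHom := Subgroup.mem_map_of_mem _ hn
      rw [hmap, ← hNN'] at this
      exact this
  have hoak : orderOf a = 2 ^ k := by rw [← hcN, hk]
  -- the generator of `D`
  obtain ⟨e, he⟩ : ∃ e : ℕ, e = 2 ^ (k - l) := ⟨_, rfl⟩
  obtain ⟨d, hd⟩ : ∃ d : X, d = a ^ e := ⟨_, rfl⟩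
  have hod : orderOf d = 2 ^ l := by
    rw [hd, orderOf_pow_of_dvd (by rw [he]; positivity)
      (by rw [hoak, he]; exact pow_dvd_pow 2 (Nat.sub_le k l)), hoak, he,
      Nat.pow_div (Nat.sub_le k l) (by norm_num), Nat.sub_sub_self hlk]
  have hdN : d ∈ N := by rw [hd]; exact N.pow_mem haN e
  have hDd : D = Subgroup.zpowers d := by
    apply Cfsg.Agent.S4370.eq_of_card_eq_of_le_cyclic N D (Subgroup.zpowers d) hDN
      ((Subgroup.zpowers_le).2 hdN)
    rw [hl, Nat.card_zpowers, hod]
  have hdD : d ∈ D := by rw [hDd]; exact Subgroup.mem_zpowers d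
  have ha'e : a' ^ e = d := by
    rw [ha', ← map_pow, ← hd]
    exact hfixD d hdD
  rcases Nat.eq_zero_or_pos l with hl0 | hl0
  · -- homocyclic case
    right
    refine ⟨k, ?_⟩
    have hDbot : N ⊓ N' = ⊥ := by
      rw [← hD, ← Subgroup.card_eq_one, hl, hl0, pow_zero]
    exact homocyclic_iso N N' hNn hN'n hNc hNc' hDbot hsup k hk (by rw [hcN', hoak])
  -- now `l ≥ 1`
  left
  have hmem : α a' ∈ ((N ⊔ N' : Subgroup X) : Set X) := by rw [hsup]; trivial
  haveI := hN'n
  rw [Subgroup.mul_normal N N'] at hmem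
  obtain ⟨u, hu, v, hv, huv⟩ := Set.mem_mul.1 hmem
  obtain ⟨r, hr⟩ := exists_npow_of_mem_zpowers (show u ∈ Subgroup.zpowers a from hNa ▸ hu)
  obtain ⟨s, hs⟩ := exists_npow_of_mem_zpowers (show v ∈ Subgroup.zpowers a' from hN' ▸ hv)
  have hrs : α (α a) = a ^ r * (α a) ^ s := by
    rw [← ha', hr, hs, huv]
  obtain ⟨hrodd, hsodd⟩ := parity hX α q hqp hq2 hα hα1 a hgen hnc r s hrs
  obtain ⟨dd, hdd⟩ : ∃ dd : X, dd = u * v * u⁻¹ * v⁻¹ := ⟨_, rfl⟩
  have hddD : dd ∈ D := by
    rw [hD]
    constructor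
    · have h1 : v * u⁻¹ * v⁻¹ ∈ N := hNn.conj_mem u⁻¹ (N.inv_mem hu) v
      have : dd = u * (v * u⁻¹ * v⁻¹) := by rw [hdd]; group
      rw [this]; exact N.mul_mem hu h1
    · have h1 : u * v * u⁻¹ ∈ N' := hN'n.conj_mem v hv u
      rw [hdd]; exact N'.mul_mem h1 (N'.inv_mem hv)
  have huvdd : u * v = dd * v * u := by rw [hdd]; group
  have hkey := Cfsg.Agent.S4211.pow_mul_pow_eq u v dd huvdd (hDcen dd hddD u) (hDcen dd hddD v) e
  have hue : u ^ e = d ^ r := by rw [← hr, hd, ← pow_mul, ← pow_mul, mul_comm]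
  have hve : v ^ e = d ^ s := by rw [← hs, ← ha'e, ← pow_mul, ← pow_mul, mul_comm]
  have huve : (u * v) ^ e = d := by
    rw [huv, ← map_pow, ha'e]; exact hfixD d hdD
  rw [hue, hve, huve] at hkey
  obtain ⟨w, hw⟩ := exists_npow_of_mem_zpowers (show dd ∈ Subgroup.zpowers d from hDd ▸ hddD)
  rcases Nat.lt_or_ge (k - l) 2 with hkl | hkl
  swap
  · exfalso
    obtain ⟨m, hm⟩ : ∃ m, k - l = m + 2 := ⟨k - l - 2, by omega⟩
    have hC : Even (e.choose 2) := by rw [he, hm]; exact even_choose_two m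
    rw [← hw, ← pow_mul, ← pow_add, ← pow_succ, pow_eq_pow_iff_modEq, hod] at hkey
    have h2 : (2 : ℕ) ∣ 2 ^ l := dvd_pow_self 2 (by omega)
    have hmod := Nat.ModEq.of_dvd h2 hkey
    have hC' : Even (w * e.choose 2) := hC.mul_left w
    rw [Nat.even_iff] at hC'
    rw [Nat.odd_iff] at hrodd hsodd
    unfold Nat.ModEq at hmod
    omega
  · have hkl1 : k - l = 1 := by omega
    have he2 : e = 2 := by rw [he, hkl1]; norm_num
    have hC1 : e.choose 2 = 1 := by rw [he2]; rfl
    rw [hC1, pow_one] at hkey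
    obtain ⟨r', hr'⟩ := hrodd
    obtain ⟨s', hs'⟩ := hsodd
    have hdd' : dd = d ^ (2 * (r' + s') + 1) := by
      have : d ^ r * d ^ s = d ^ (2 * (r' + s') + 1) * d := by
        rw [← pow_add, ← pow_succ, hr', hs']; congr 1; ring
      rw [this] at hkey
      exact (mul_right_cancel hkey).symm
    have hu2 : u * u = d ^ r := by rw [← hue, he2, pow_two]
    have hddsq : dd * dd = 1 := by
      rw [hdd]
      apply comm_sq
      · rw [← hdd]; exact hDcen dd hddD u
      · rw [hu2]; exact hDcen (d ^ r) (D.pow_mem hdD r) v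
    have hd2 : d ^ 2 = 1 := by
      apply eq_one_of_pow_odd hX (q := 2 * (r' + s') + 1) ⟨r' + s', rfl⟩
      have : (d ^ 2) ^ (2 * (r' + s') + 1) = d ^ (2 * (r' + s') + 1) * d ^ (2 * (r' + s') + 1) := by
        rw [← pow_mul, ← pow_add]; congr 1; ring
      rw [this, ← hdd']
      exact hddsq
    have hl1 : l = 1 := by
      have h1 : orderOf d ∣ 2 := orderOf_dvd_of_pow_eq_one hd2
      rw [hod] at h1
      have h2 : 2 ^ l ∣ 2 ^ 1 := by simpa using h1
      have := (Nat.pow_dvd_pow_iff_le_right (by norm_num : 1 < 2)).1 h2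
      omega
    have hk2 : k = 2 := by omega
    have ho4 : orderOf a = 4 := by rw [hoak, hk2]; norm_num
    have ha4 : a ^ 4 = 1 := by
      have := pow_orderOf_eq_one a
      rwa [ho4] at this
    have hda2 : d = a ^ 2 := by rw [hd, he2]
    have ha'2 : a' ^ 2 = a ^ 2 := by rw [← hda2, ← he2]; exact ha'e
    have htN : a' * a * a'⁻¹ ∈ Subgroup.zpowers a := hNa ▸ hNn.conj_mem a haN a'
    obtain ⟨i, hi⟩ := exists_npow_of_mem_zpowers htN
    have hi' : a ^ (i % 4) = a' * a * a'⁻¹ := by rw [← ho4, pow_mod_orderOf]; exact hi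
    have hi4 : i % 4 < 4 := Nat.mod_lt _ (by norm_num)
    have hconj : a' * a * a'⁻¹ = a⁻¹ := by
      obtain ⟨j, hj⟩ : ∃ j, j = i % 4 := ⟨_, rfl⟩
      rw [← hj] at hi' hi4
      interval_cases j
      · exfalso
        rw [pow_zero] at hi'
        have : a = 1 := conj_eq_one_iff.1 hi'.symm
        rw [this, orderOf_one] at ho4
        norm_num at ho4
      · exfalso
        rw [pow_one] at hi'
        have hcomm : a' * a = a * a' := mul_inv_eq_iff_eq_mul.1 hi'.symm
        have hc : Commute a a' := hcomm.symm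
        have huvc : u * v = v * u := by
          rw [← hr, ← hs]; exact Commute.pow_pow hc r s
        have hdd1 : dd = 1 := by rw [hdd, huvc]; group
        rw [hdd1] at hdd'
        have hd1 : d = 1 := eq_one_of_pow_odd hX (q := 2 * (r' + s') + 1) ⟨r' + s', rfl⟩ hdd'.symm
        rw [hd1, orderOf_one, hl1] at hod
        norm_num at hod
      · exfalso
        have h1 : (a ^ 2) ^ 2 = a' * a ^ 2 * a'⁻¹ := by rw [← conj_pow, ← hi']
        rw [← pow_mul, ha4] at h1
        have h2 : a ^ 2 = 1 := conj_eq_one_iff.1 h1.symm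
        have h3 : orderOf a ∣ 2 := orderOf_dvd_of_pow_eq_one h2
        rw [ho4] at h3
        norm_num at h3
      · rw [← hi']
        apply eq_inv_of_mul_eq_one_left
        rw [← pow_succ]; exact ha4
    have hcard : Nat.card X = 8 := by
      haveI := hNn
      have := card_mul_of_sup N N' hsup
      rw [← hD, hl, hk, hcN', hoak, hl1, hk2] at this
      norm_num at this
      omega
    have hgen'' : Subgroup.closure {a, a'} = ⊤ := by rw [ha']; exact hgen
    exact Cfsg.Agent.S4189.quaternion_iso a a' hgen'' ha4 ha'2 hconj hcard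

theorem main {X : Type*} [Group X] [Finite X] (hX : IsPGroup 2 X) (N : Subgroup X)
    (hNn : N.Normal) (hNc : IsCyclic N) (hQc : IsCyclic (X ⧸ N)) (α : MulAut X) (q : ℕ)
    (hqp : q.Prime) (hq2 : q ≠ 2) (hαo : orderOf α = q) :
    Nonempty (X ≃* QuaternionGroup 2) ∨
      ∃ n : ℕ, Nonempty (X ≃* Multiplicative (ZMod (2 ^ n)) × Multiplicative (ZMod (2 ^ n))) := by
  have hα : α ^ q = 1 := hαo ▸ pow_orderOf_eq_one α
  have hα1 : α ≠ 1 := by
    intro h
    rw [h, orderOf_one] at hαo
    exact hqp.one_lt.ne hαo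
  have hqodd : Odd q := hqp.odd_of_ne_two hq2
  -- `X` is not cyclic
  have hnc : ∀ g : X, Subgroup.zpowers g ≠ ⊤ := by
    intro g hg
    haveI : IsCyclic X := ⟨⟨g, fun x => by
      have : x ∈ Subgroup.zpowers g := by rw [hg]; exact Subgroup.mem_top x
      exact this⟩⟩
    apply hα1
    have hfk : ∀ (k : ℕ) (x : X), (α.toMonoidHom)^[k] x = (α ^ k) x := by
      intro k
      induction k with
      | zero => intro x; simp
      | succ k ih =>
        intro x
        rw [Function.iterate_succ_apply', pow_succ', MulAut.mul_apply, ih]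
        rfl
    have := cyc_id hX α.toMonoidHom q hqodd (fun c => by rw [hfk, hα]; rfl)
    exact MulEquiv.ext this
  -- generators
  obtain ⟨a0, ha0⟩ := hNc.exists_generator
  obtain ⟨b0, hb0⟩ := hQc.exists_generator
  obtain ⟨b, rfl⟩ := QuotientGroup.mk_surjective b0
  have hNa : N = Subgroup.zpowers (a0 : X) := by
    apply le_antisymm
    · intro n hn
      obtain ⟨i, hi⟩ := Subgroup.mem_zpowers_iff.1 (ha0 ⟨n, hn⟩)
      refine Subgroup.mem_zpowers_iff.2 ⟨i, ?_⟩
      have := congrArg Subtype.val hi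
      simpa using this
    · rw [Subgroup.zpowers_le]; exact a0.2
  obtain ⟨a, ha⟩ : ∃ a : X, a = (a0 : X) := ⟨_, rfl⟩
  rw [← ha] at hNa
  have haN : a ∈ N := ha ▸ a0.2
  clear ha ha0 a0
  have hgen : Subgroup.closure {a, b} = ⊤ := by
    rw [eq_top_iff]
    intro x _
    obtain ⟨i, hi⟩ := Subgroup.mem_zpowers_iff.1 (hb0 (QuotientGroup.mk x))
    rw [← QuotientGroup.mk_zpow] at hi
    have h1 : (b ^ i)⁻¹ * x ∈ N := QuotientGroup.eq.1 hi
    rw [hNa] at h1
    obtain ⟨j, hj⟩ := Subgroup.mem_zpowers_iff.1 h1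
    have : x = b ^ i * a ^ j := by rw [hj]; group
    rw [this]
    exact Subgroup.mul_mem _ (Subgroup.zpow_mem _ (Subgroup.subset_closure (by simp)) i)
      (Subgroup.zpow_mem _ (Subgroup.subset_closure (by simp)) j)
  have hgen' : Subgroup.closure {a, α a} = ⊤ := gen_pair hX α q hqp hq2 hα hα1 a b hgen hnc
  exact core hX N hNn hQc α q hqp hq2 hα hα1 a hNa hnc hgen'


/-- A finite metacyclic 2-group whose automorphism group is not a 2-group is isomorphic to the quaternion group of order 8 or to a homocyclic abelian group Z_{2^n} × Z_{2^n}. -/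
theorem result {X : Type*} [Group X] [Finite X] (hX : IsPGroup 2 X)
    (hm : Cfsg.IsMetacyclic X) (hA : ¬ IsPGroup 2 (MulAut X)) :
    Nonempty (X ≃* QuaternionGroup 2) ∨
      ∃ n : ℕ, Nonempty (X ≃* Multiplicative (ZMod (2 ^ n)) × Multiplicative (ZMod (2 ^ n))) := by
  obtain ⟨N, hNn, hNc, hQc⟩ := hm
  obtain ⟨α, q, hqp, hq2, hαo⟩ := exists_odd_prime_order hA
  exact main hX N hNn hNc hQc α q hqp hq2 hαo

end Cfsg.Agent.S1896
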