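import Mathlib
import Cfsg.Statements.S1898

set_option autoImplicit false
open Cfsg
open scoped commutatorElement

namespace Cfsg.Agent.S1898

variable {X : Type*} [Group X]

/-- In a group whose derived subgroup is central of exponent two, fourth powers are multiplicative. -/
theorem mul_pow_four (hsq : ∀ a ∈ commutator X, a ^ 2 = 1) (hcen : commutator X ≤ Subgroup.center X)
    (x y : X) : (x * y) ^ 4 = x ^ 4 * y ^ 4 := by
  set c : X := y⁻¹ * x⁻¹ * y * x with hc
  have hcmem : c ∈ commutator X := by
    have : c = ⁅y⁻¹, x⁻¹⁆ := by rw [commutatorElement_def, hc]; group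
    rw [this]
    exact Subgroup.commutator_mem_commutator (Subgroup.mem_top _) (Subgroup.mem_top _)
  have hcc : c * c = 1 := by rw [← pow_two]; exact hsq c hcmem
  have hcz : ∀ g : X, g * c = c * g := Subgroup.mem_center_iff.mp (hcen hcmem)
  have hyx : y * x = x * y * c := by rw [hc]; group
  -- squares commute
  have hsqc : y * y * (x * x) = x * x * (y * y) := by
    calc y * y * (x * x) = y * (y * x) * x := by group
      _ = y * (x * y * c) * x := by rw [hyx]
      _ = (y * x) * (y * (c * x)) := by group
      _ = (y * x) * (y * (x * c)) := by rw [hcz x]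
      _ = (y * x) * ((y * x) * c) := by group
      _ = (x * y * c) * ((x * y * c) * c) := by rw [hyx]
      _ = (x * y * c) * (x * y * (c * c)) := by group
      _ = (x * y * c) * (x * y) := by rw [hcc, mul_one]
      _ = x * y * (c * x) * y := by group
      _ = x * y * (x * c) * y := by rw [hcz x]
      _ = x * (y * x) * (c * y) := by group
      _ = x * (x * y * c) * (y * c) := by rw [hyx, hcz y]
      _ = x * x * y * (c * y) * c := by group
      _ = x * x * y * (y * c) * c := by rw [hcz y]
      _ = x * x * (y * y) * (c * c) := by group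
      _ = x * x * (y * y) := by rw [hcc, mul_one]
  have h2 : (x * y) * (x * y) = x * x * (y * y) * c := by
    calc (x * y) * (x * y) = x * (y * x) * y := by group
      _ = x * (x * y * c) * y := by rw [hyx]
      _ = x * x * y * (c * y) := by group
      _ = x * x * y * (y * c) := by rw [hcz y]
      _ = x * x * (y * y) * c := by group
  calc (x * y) ^ 4 = ((x * y) * (x * y)) * ((x * y) * (x * y)) := by simp only [pow_succ, pow_zero, one_mul, mul_assoc]
    _ = (x * x * (y * y) * c) * (x * x * (y * y) * c) := by rw [h2]
    _ = x * x * (y * y) * (c * (x * x * (y * y))) * c := by group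
    _ = x * x * (y * y) * ((x * x * (y * y)) * c) * c := by rw [hcz (x * x * (y * y))]
    _ = x * x * (y * y * (x * x)) * (y * y) * (c * c) := by group
    _ = x * x * (x * x * (y * y)) * (y * y) := by rw [hsqc, hcc, mul_one]
    _ = x ^ 4 * y ^ 4 := by simp only [pow_succ, pow_zero, one_mul, mul_assoc]

/-- The fourth-power endomorphism. -/
def powFour (hsq : ∀ a ∈ commutator X, a ^ 2 = 1) (hcen : commutator X ≤ Subgroup.center X) : X →* X where
  toFun x := x ^ 4
  map_one' := one_pow 4
  map_mul' := mul_pow_four hsq hcen

/-- Let X be a finite 2-group whose derived subgroup is elementary abelian and central. Then the subgroup generated by the elements of order dividing 4 has exponent dividing 4, and every automorphism of X fixing each element of order dividing 4 has 2-power order. -/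
theorem result {X : Type*} [Group X] [Finite X] (hX : IsPGroup 2 X)
    (hel : Cfsg.IsElementaryAbelian 2 (commutator X)) (hcen : commutator X ≤ Subgroup.center X) :
    (∀ x ∈ Subgroup.closure {g : X | g ^ 4 = 1}, x ^ 4 = 1) ∧
      ∀ φ : MulAut X, (∀ g : X, g ^ 4 = 1 → φ g = g) → ∃ k : ℕ, φ ^ (2 ^ k) = 1 := by
  have hsq : ∀ a ∈ commutator X, a ^ 2 = 1 := hel.2
  have hmul := mul_pow_four hsq hcen
  constructor
  · intro x hx
    have hle : Subgroup.closure {g : X | g ^ 4 = 1} ≤ (powFour hsq hcen).ker := by
      rw [Subgroup.closure_le]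
      intro g hg
      exact hg
    exact hle hx
  · intro φ hφ
    -- key induction
    have key : ∀ k : ℕ, ∃ j : ℕ, ∀ x : X, x ^ (4 ^ k) = 1 → (φ ^ (2 ^ j)) x = x := by
      intro k
      induction k with
      | zero =>
        refine ⟨0, fun x hx => ?_⟩
        simp only [pow_zero, pow_one] at hx
        rw [hx, map_one]
      | succ k ih =>
        obtain ⟨j, hj⟩ := ih
        refine ⟨j + 2, fun x hx => ?_⟩
        set ψ : MulAut X := φ ^ (2 ^ j) with hψ
        have hx4 : (x ^ 4) ^ (4 ^ k) = 1 := by rw [← pow_mul, ← pow_succ']; exact hx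
        have h1 : ψ (x ^ 4) = x ^ 4 := hj _ hx4
        set c : X := x⁻¹ * ψ x with hc
        have hc4 : c ^ 4 = 1 := by
          have : c ^ 4 = (x⁻¹) ^ 4 * (ψ x) ^ 4 := hmul _ _
          rw [this, ← map_pow, h1, inv_pow, inv_mul_cancel]
        have hφc : ∀ m : ℕ, (φ ^ m) c = c := by
          intro m
          induction m with
          | zero => simp
          | succ m ihm => rw [pow_succ, MulAut.mul_apply, hφ c hc4, ihm]
        have hψc : ψ c = c := hφc _
        have hψx : ψ x = x * c := by rw [hc]; group
        have hpow : ∀ m : ℕ, (ψ ^ m) x = x * c ^ m := by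
          intro m
          induction m with
          | zero => simp
          | succ m ihm =>
            rw [pow_succ', MulAut.mul_apply, ihm, map_mul, map_pow, hψc, hψx, pow_succ']
            group
        have : φ ^ (2 ^ (j + 2)) = ψ ^ 4 := by
          rw [hψ, ← pow_mul]; congr 1; rw [pow_add]; norm_num
        rw [this, hpow 4, hc4, mul_one]
    obtain ⟨m, hm⟩ := IsPGroup.iff_card.mp hX
    obtain ⟨j, hj⟩ := key m
    refine ⟨j, ?_⟩
    ext x
    rw [MulAut.one_apply]
    apply hj
    have : (4 : ℕ) ^ m = 2 ^ m * 2 ^ m := by rw [← mul_pow]; norm_num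
    rw [this, pow_mul, ← hm, pow_card_eq_one']
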