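import Mathlib
import Cfsg.Statements.S1899

set_option autoImplicit false
open Cfsg

namespace Cfsg.Agent.S1899

/-- Let a dihedral group of order 2n, n odd and n > 1, act on a finite abelian 2-group A through automorphisms d and t with d^n = 1, t² = 1 and t d t⁻¹ = d⁻¹, and suppose that d fixes only the identity. Then A is the internal direct product of C_A(t) and its image under d. -/
theorem result {A : Type*} [CommGroup A] [Finite A] (hA : IsPGroup 2 A)
    {n : ℕ} (hn : Odd n) (hn1 : 1 < n) (d t : MulAut A) (hd : d ^ n = 1) (ht : t ^ 2 = 1) (hdt : t * d * t⁻¹ = d⁻¹)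
    (hfix : ∀ a : A, d a = a → a = 1) :
    (MulEquiv.toMonoidHom t).eqLocus (MonoidHom.id A) ⊓ ((MulEquiv.toMonoidHom t).eqLocus (MonoidHom.id A)).map d.toMonoidHom = ⊥ ∧
      (MulEquiv.toMonoidHom t).eqLocus (MonoidHom.id A) ⊔ ((MulEquiv.toMonoidHom t).eqLocus (MonoidHom.id A)).map d.toMonoidHom = ⊤ := by
  set C : Subgroup A := (MulEquiv.toMonoidHom t).eqLocus (MonoidHom.id A) with hC
  have memC : ∀ a : A, a ∈ C ↔ t a = a := by
    intro a
    rw [hC]
    rfl
  have htt : t * t = 1 := by rw [← pow_two]; exact ht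
  have htinv : t⁻¹ = t := inv_eq_of_mul_eq_one_right htt
  rw [htinv] at hdt
  -- the key identity
  have hkey : d * t * d⁻¹ * t = d * d := by
    calc d * t * d⁻¹ * t = d * t * (t * d * t) * t := by rw [hdt]
      _ = d * (t * t) * d * (t * t) := by group
      _ = d * d := by rw [htt]; group
  have hta : ∀ a : A, t (t a) = a := by
    intro a
    have := congrArg (fun f : MulAut A => f a) htt
    simpa using this
  -- fixed points of d * d
  obtain ⟨m, hm⟩ := hn
  have hdd : ∀ a : A, d (d a) = a → a = 1 := by
    intro a ha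
    apply hfix
    have h1 : ∀ k : ℕ, ((d * d) ^ k) a = a := by
      intro k
      induction k with
      | zero => simp
      | succ k ih => rw [pow_succ, MulAut.mul_apply, MulAut.mul_apply, ha, ih]
    have h2 : (d * d) ^ (m + 1) = d := by
      rw [← pow_two, ← pow_mul]
      have : 2 * (m + 1) = n + 1 := by omega
      rw [this, pow_succ, hd, one_mul]
    have := h1 (m + 1)
    rwa [h2] at this
  constructor
  · -- trivial intersection
    rw [eq_bot_iff]
    intro a ha
    rw [Subgroup.mem_bot]
    obtain ⟨haC, haC'⟩ := Subgroup.mem_inf.mp ha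
    rw [memC] at haC
    obtain ⟨c, hcC, hca⟩ := haC'
    rw [SetLike.mem_coe, memC] at hcC
    have hca' : d c = a := hca
    apply hdd
    -- d (d a) = (d * t * d⁻¹ * t) a
    have h3 : (d * t * d⁻¹ * t) a = a := by
      simp only [MulAut.mul_apply]
      rw [haC, ← hca', MulAut.inv_apply_self, hcC]
    rw [hkey] at h3
    simpa using h3
  · -- generation
    rw [eq_top_iff]
    intro a _
    set S : Subgroup A := C ⊔ C.map d.toMonoidHom with hS
    -- inversion modulo S
    have h1 : ∀ b : A, (QuotientGroup.mk (t b) : A ⧸ S) = (QuotientGroup.mk b)⁻¹ := by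
      intro b
      rw [eq_inv_iff_mul_eq_one, ← QuotientGroup.mk_mul, QuotientGroup.eq_one_iff]
      apply Subgroup.mem_sup_left
      rw [memC, map_mul, hta, mul_comm]
    have h2 : ∀ b : A, (QuotientGroup.mk ((d * t * d⁻¹) b) : A ⧸ S) = (QuotientGroup.mk b)⁻¹ := by
      intro b
      rw [eq_inv_iff_mul_eq_one, ← QuotientGroup.mk_mul, QuotientGroup.eq_one_iff]
      apply Subgroup.mem_sup_right
      refine ⟨t (d⁻¹ b) * d⁻¹ b, ?_, ?_⟩
      · rw [SetLike.mem_coe, memC, map_mul, hta, mul_comm]
      · show d (t (d⁻¹ b) * d⁻¹ b) = _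
        rw [map_mul, MulAut.apply_inv_self]
        simp [MulAut.mul_apply]
    have h3 : ∀ b : A, (QuotientGroup.mk (d (d b)) : A ⧸ S) = QuotientGroup.mk b := by
      intro b
      have : d (d b) = (d * t * d⁻¹) (t b) := by
        have := congrArg (fun f : MulAut A => f b) hkey
        simp only [MulAut.mul_apply] at this ⊢
        exact this.symm
      rw [this, h2, h1, inv_inv]
    -- the map b ↦ b⁻¹ * d (d b) is surjective
    let f : A →* A := (MonoidHom.id A)⁻¹ * (MulEquiv.toMonoidHom (d * d))
    have hf : ∀ b : A, f b = b⁻¹ * d (d b) := fun b => rfl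
    have hfinj : Function.Injective f := by
      rw [injective_iff_map_eq_one]
      intro b hb
      apply hdd
      rw [hf] at hb
      exact (inv_mul_eq_one.mp hb).symm
    obtain ⟨b, hb⟩ := (Finite.injective_iff_surjective.mp hfinj) a
    rw [← QuotientGroup.eq_one_iff, ← hb, hf, QuotientGroup.mk_mul, QuotientGroup.mk_inv, h3]
    exact inv_mul_cancel _

end Cfsg.Agent.S1899
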