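import Cfsg.Statements.S1900
import Cfsg.Agent.S0058

set_option autoImplicit false
open Cfsg
open scoped commutatorElement

namespace Cfsg.Agent.S1900

section lemmas

variable {S : Type*} [Group S]

/-- Elements of a join `H ⊔ K` are products when `H` normalizes `K`. -/
theorem exists_mul_of_mem_sup (H K : Subgroup S)
    (hHK : ∀ h ∈ H, ∀ k ∈ K, h⁻¹ * k * h ∈ K) {x : S} (hx : x ∈ H ⊔ K) :
    ∃ h ∈ H, ∃ k ∈ K, x = h * k := by
  let T : Subgroup S :=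
    { carrier := {x | ∃ h ∈ H, ∃ k ∈ K, x = h * k}
      one_mem' := ⟨1, H.one_mem, 1, K.one_mem, by simp⟩
      mul_mem' := by
        rintro _ _ ⟨h, hh, k, hk, rfl⟩ ⟨h', hh', k', hk', rfl⟩
        exact ⟨h * h', H.mul_mem hh hh', (h'⁻¹ * k * h') * k',
          K.mul_mem (hHK h' hh' k hk) hk', by group⟩
      inv_mem' := by
        rintro _ ⟨h, hh, k, hk, rfl⟩
        refine ⟨h⁻¹, H.inv_mem hh, (h⁻¹)⁻¹ * k⁻¹ * h⁻¹, hHK _ (H.inv_mem hh) _ (K.inv_mem hk), ?_⟩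
        group }
  have h1 : H ≤ T := fun h hh => ⟨h, hh, 1, K.one_mem, by simp⟩
  have h2 : K ≤ T := fun k hk => ⟨1, H.one_mem, k, hk, by simp⟩
  exact (sup_le h1 h2) hx

/-- Conjugation by an element preserving `H₁` and `H₂` preserves `⁅H₁, H₂⁆`. -/
theorem conj_mem_commutator (H₁ H₂ : Subgroup S) (g : S)
    (h₁ : ∀ r ∈ H₁, g * r * g⁻¹ ∈ H₁) (h₂ : ∀ r ∈ H₂, g * r * g⁻¹ ∈ H₂) :
    ∀ d ∈ ⁅H₁, H₂⁆, g * d * g⁻¹ ∈ ⁅H₁, H₂⁆ := by
  have : ⁅H₁, H₂⁆ ≤ (⁅H₁, H₂⁆).comap (MulAut.conj g).toMonoidHom := by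
    rw [Subgroup.commutator_le]
    intro a ha b hb
    rw [Subgroup.mem_comap]
    have e : (MulAut.conj g).toMonoidHom ⁅a, b⁆ = ⁅g * a * g⁻¹, g * b * g⁻¹⁆ := by
      simp only [MulEquiv.coe_toMonoidHom, MulAut.conj_apply, commutatorElement_def]
      group
    rw [e]
    exact Subgroup.commutator_mem_commutator (h₁ a ha) (h₂ b hb)
  intro d hd
  have := this hd
  rw [Subgroup.mem_comap] at this
  simpa using this

theorem conj_mem_centralizer_singleton {x y g : S} (hx : x ∈ Subgroup.centralizer {y})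
    (hg : g ∈ Subgroup.centralizer {y}) : x * g * x⁻¹ ∈ Subgroup.centralizer {y} :=
  Subgroup.mul_mem _ (Subgroup.mul_mem _ hx hg) (Subgroup.inv_mem _ hx)

/-- Half of the key step. -/
theorem half (R D : Subgroup S) [Finite R] (x y : S)
    (hxR : ∀ r ∈ R, x * r * x⁻¹ ∈ R)
    (hxD : ∀ d ∈ D, x * d * x⁻¹ ∈ D)
    (hxy : x ∈ Subgroup.centralizer {y})
    (hRD : ∀ r ∈ R, ∀ d ∈ D, r * d * r⁻¹ ∈ D)
    (hcomm : ∀ r ∈ R, ∀ s ∈ R, ⁅r, s⁆ ∈ D)
    (hdec : ∀ d ∈ D, ∃ c₁ ∈ D ⊓ Subgroup.centralizer {x}, ∃ c₂ ∈ D ⊓ Subgroup.centralizer {y},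
      d = c₁ * c₂)
    (hfpf : ∀ b ∈ R ⊓ Subgroup.centralizer {y}, x * b * x⁻¹ = b → b = 1) :
    ∀ a ∈ R ⊓ Subgroup.centralizer {x}, ∀ b ∈ R ⊓ Subgroup.centralizer {y},
      ⁅a, b⁆ ∈ D ⊓ Subgroup.centralizer {y} := by
  intro a ha b hb
  -- the map b ↦ b⁻¹ * x b x⁻¹ on R ⊓ C(y)
  have hmem : ∀ b ∈ R ⊓ Subgroup.centralizer {y},
      b⁻¹ * (x * b * x⁻¹) ∈ R ⊓ Subgroup.centralizer {y} := by
    intro b hb
    refine Subgroup.mul_mem _ (Subgroup.inv_mem _ hb) ?_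
    exact Subgroup.mem_inf.mpr ⟨hxR b (Subgroup.mem_inf.mp hb).1,
      conj_mem_centralizer_singleton hxy (Subgroup.mem_inf.mp hb).2⟩
  let φ : ↥(R ⊓ Subgroup.centralizer {y}) → ↥(R ⊓ Subgroup.centralizer {y}) :=
    fun b => ⟨(b : S)⁻¹ * (x * (b : S) * x⁻¹), hmem b b.2⟩
  have hfin : Finite ↥(R ⊓ Subgroup.centralizer {y}) :=
    Finite.of_injective (fun b => (⟨b.1, (Subgroup.mem_inf.mp b.2).1⟩ : R))
      (fun b b' h => Subtype.ext (by simpa using congrArg Subtype.val h))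
  have hinj : Function.Injective φ := by
    intro b b' h
    have h1 : (b : S)⁻¹ * (x * (b : S) * x⁻¹) = (b' : S)⁻¹ * (x * (b' : S) * x⁻¹) :=
      congrArg Subtype.val h
    have h2 : x * ((b' : S) * (b : S)⁻¹) * x⁻¹ = (b' : S) * (b : S)⁻¹ := by
      have e1 : x * ((b' : S) * (b : S)⁻¹) * x⁻¹
          = (x * (b' : S) * x⁻¹) * (x * (b : S) * x⁻¹)⁻¹ := by group
      have e2 : x * (b : S) * x⁻¹ = (b : S) * ((b' : S)⁻¹ * (x * (b' : S) * x⁻¹)) := by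
        rw [← h1]; group
      rw [e1, e2]; group
    have h3 := hfpf _ (Subgroup.mul_mem _ b'.2 (Subgroup.inv_mem _ b.2)) h2
    have h4 : (b' : S) = (b : S) := by
      have := mul_inv_eq_one.mp h3
      exact this
    exact Subtype.ext h4.symm
  have hsurj : Function.Surjective φ := Finite.injective_iff_surjective.mp hinj
  obtain ⟨b', hb'⟩ := hsurj ⟨b, hb⟩
  have hbeq : b = (b' : S)⁻¹ * (x * (b' : S) * x⁻¹) := (congrArg Subtype.val hb').symm
  have hb'R : (b' : S) ∈ R := (Subgroup.mem_inf.mp b'.2).1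
  have hb'y : (b' : S) ∈ Subgroup.centralizer {y} := (Subgroup.mem_inf.mp b'.2).2
  have haR : a ∈ R := (Subgroup.mem_inf.mp ha).1
  have hax : a * x = x * a := Subgroup.mem_centralizer_singleton_iff.mp (Subgroup.mem_inf.mp ha).2
  obtain ⟨c₁, hc₁, c₂, hc₂, hc⟩ := hdec _ (hcomm a haR b' hb'R)
  have hc₁x : c₁ * x = x * c₁ :=
    Subgroup.mem_centralizer_singleton_iff.mp (Subgroup.mem_inf.mp hc₁).2
  -- the main identity
  have e1 : ⁅a, (b' : S)⁻¹ * (x * (b' : S) * x⁻¹)⁆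
      = (b' : S)⁻¹ * (⁅a, (b' : S)⁆⁻¹ * (x * ⁅x⁻¹ * a * x, (b' : S)⁆ * x⁻¹)) * (b' : S) := by
    simp only [commutatorElement_def]; group
  have e2 : x⁻¹ * a * x = a := by rw [mul_assoc, hax, ← mul_assoc, inv_mul_cancel, one_mul]
  have e3 : (c₁ * c₂)⁻¹ * (x * (c₁ * c₂) * x⁻¹) = c₂⁻¹ * (x * c₂ * x⁻¹) := by
    have : x * (c₁ * c₂) * x⁻¹ = c₁ * (x * c₂ * x⁻¹) := by
      rw [← mul_assoc x c₁ c₂, ← hc₁x]; group
    rw [this]; group
  rw [hbeq, e1, e2, hc, e3]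
  -- membership
  have hc₂D : c₂ ∈ D := (Subgroup.mem_inf.mp hc₂).1
  have hc₂y : c₂ ∈ Subgroup.centralizer {y} := (Subgroup.mem_inf.mp hc₂).2
  have h5 : c₂⁻¹ * (x * c₂ * x⁻¹) ∈ D ⊓ Subgroup.centralizer {y} :=
    Subgroup.mul_mem _ (Subgroup.inv_mem _ hc₂)
      (Subgroup.mem_inf.mpr ⟨hxD _ hc₂D, conj_mem_centralizer_singleton hxy hc₂y⟩)
  have h6 := hRD _ (R.inv_mem hb'R) _ (Subgroup.mem_inf.mp h5).1
  have h7 := conj_mem_centralizer_singleton (Subgroup.inv_mem _ hb'y) (Subgroup.mem_inf.mp h5).2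
  rw [inv_inv] at h6 h7
  exact Subgroup.mem_inf.mpr ⟨h6, h7⟩

/-- The key induction: the two fixed-point subgroups commute, for every `Q`-invariant subgroup
`R` of the `p`-group `P`. -/
theorem key [Finite S] {p : ℕ} [Fact p.Prime] (P Q : Subgroup S) (x₁ x₂ : S) (hP : IsPGroup p P)
    (hx₁ : x₁ ∈ Q) (hx₂ : x₂ ∈ Q)
    (hQc : Q ≤ Subgroup.centralizer {x₁} ⊓ Subgroup.centralizer {x₂})
    (hfix : P ⊓ Subgroup.centralizer {x₁} ⊓ Subgroup.centralizer {x₂} = ⊥)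
    (hgen : ∀ R : Subgroup S, R ≤ P → (∀ g ∈ Q, ∀ r ∈ R, g * r * g⁻¹ ∈ R) →
      R ≤ (R ⊓ Subgroup.centralizer {x₁}) ⊔ (R ⊓ Subgroup.centralizer {x₂})) :
    ∀ n : ℕ, ∀ R : Subgroup S, Nat.card R = n → R ≤ P → (∀ g ∈ Q, ∀ r ∈ R, g * r * g⁻¹ ∈ R) →
      ∀ a ∈ R ⊓ Subgroup.centralizer {x₁}, ∀ b ∈ R ⊓ Subgroup.centralizer {x₂}, ⁅a, b⁆ = 1 := by
  intro n
  induction n using Nat.strong_induction_on with
  | _ n ih =>
  intro R hRn hRP hRQ a ha b hb
  by_cases hR : R = ⊥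
  · have : a = 1 := by
      have := (Subgroup.mem_inf.mp ha).1
      rw [hR, Subgroup.mem_bot] at this; exact this
    rw [this]; exact commutatorElement_one_left b
  have hRp : IsPGroup p R := hP.to_le hRP
  have hnil : Group.IsNilpotent R := hRp.isNilpotent
  have hDlt : ⁅R, R⁆ < R := by
    have hnt : Nontrivial R := (Subgroup.nontrivial_iff_ne_bot R).mpr hR
    have h1 : commutator R < ⊤ := Group.IsSolvable.commutator_lt_top_of_nontrivial R
    have h2 : (commutator R).map R.subtype < (⊤ : Subgroup R).map R.subtype :=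
      Subgroup.map_subtype_lt_map_subtype.mpr h1
    rw [Subgroup.map_subtype_commutator, ← MonoidHom.range_eq_map, Subgroup.range_subtype] at h2
    exact h2
  obtain ⟨D, hD⟩ : ∃ D : Subgroup S, D = ⁅R, R⁆ := ⟨_, rfl⟩
  rw [← hD] at hDlt
  have hDR : D ≤ R := hDlt.le
  have hDcard : Nat.card D < n := by
    rw [← hRn]
    by_contra hcon
    have := Subgroup.eq_of_le_of_card_ge hDR (not_lt.mp hcon)
    exact hDlt.ne this
  have hDQ : ∀ g ∈ Q, ∀ d ∈ D, g * d * g⁻¹ ∈ D := by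
    intro g hg
    rw [hD]
    exact conj_mem_commutator R R g (hRQ g hg) (hRQ g hg)
  have hRD : ∀ r ∈ R, ∀ d ∈ D, r * d * r⁻¹ ∈ D := by
    intro r hr
    rw [hD]
    have hh : ∀ s ∈ R, r * s * r⁻¹ ∈ R := fun s hs => R.mul_mem (R.mul_mem hr hs) (R.inv_mem hr)
    exact conj_mem_commutator R R r hh hh
  have hcomm : ∀ r ∈ R, ∀ s ∈ R, ⁅r, s⁆ ∈ D := by
    intro r hr s hs
    rw [hD]; exact Subgroup.commutator_mem_commutator hr hs
  have hDP : D ≤ P := le_trans hDR hRP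
  have ihD := ih (Nat.card D) hDcard D rfl hDP hDQ
  have hgenD := hgen D hDP hDQ
  have hx₁₂ : x₁ ∈ Subgroup.centralizer {x₂} := (Subgroup.mem_inf.mp (hQc hx₁)).2
  have hx₂₁ : x₂ ∈ Subgroup.centralizer {x₁} := (Subgroup.mem_inf.mp (hQc hx₂)).1
  have hdec : ∀ d ∈ D, ∃ c₁ ∈ D ⊓ Subgroup.centralizer {x₁},
      ∃ c₂ ∈ D ⊓ Subgroup.centralizer {x₂}, d = c₁ * c₂ := by
    intro d hd
    refine exists_mul_of_mem_sup _ _ ?_ (hgenD hd)
    intro h hh k hk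
    have h1 : ⁅h, k⁆ = 1 := ihD h hh k hk
    have h2 : h * k = k * h := commutatorElement_eq_one_iff_mul_comm.mp h1
    have h3 : h⁻¹ * k * h = k := by rw [mul_assoc, ← h2, ← mul_assoc, inv_mul_cancel, one_mul]
    rw [h3]; exact hk
  have hdec' : ∀ d ∈ D, ∃ c₂ ∈ D ⊓ Subgroup.centralizer {x₂},
      ∃ c₁ ∈ D ⊓ Subgroup.centralizer {x₁}, d = c₂ * c₁ := by
    intro d hd
    obtain ⟨c₁, hc₁, c₂, hc₂, hc⟩ := hdec d hd
    refine ⟨c₂, hc₂, c₁, hc₁, ?_⟩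
    have h1 : ⁅c₁, c₂⁆ = 1 := ihD c₁ hc₁ c₂ hc₂
    rw [hc]; exact commutatorElement_eq_one_iff_mul_comm.mp h1
  have hfixmem : ∀ g ∈ P, g ∈ Subgroup.centralizer {x₁} → g ∈ Subgroup.centralizer {x₂} →
      g = 1 := by
    intro g hg h1 h2
    have : g ∈ P ⊓ Subgroup.centralizer {x₁} ⊓ Subgroup.centralizer {x₂} :=
      Subgroup.mem_inf.mpr ⟨Subgroup.mem_inf.mpr ⟨hg, h1⟩, h2⟩
    rw [hfix, Subgroup.mem_bot] at this; exact this
  have hfpf₁ : ∀ b ∈ R ⊓ Subgroup.centralizer {x₂}, x₁ * b * x₁⁻¹ = b → b = 1 := by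
    intro b hb hxb
    refine hfixmem b (hRP (Subgroup.mem_inf.mp hb).1) ?_ (Subgroup.mem_inf.mp hb).2
    rw [Subgroup.mem_centralizer_singleton_iff]
    have : x₁ * b = b * x₁ := by
      have h1 : x₁ * b * x₁⁻¹ * x₁ = b * x₁ := by rw [hxb]
      rw [← h1]; group
    exact this.symm
  have hfpf₂ : ∀ b ∈ R ⊓ Subgroup.centralizer {x₁}, x₂ * b * x₂⁻¹ = b → b = 1 := by
    intro b hb hxb
    refine hfixmem b (hRP (Subgroup.mem_inf.mp hb).1) (Subgroup.mem_inf.mp hb).2 ?_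
    rw [Subgroup.mem_centralizer_singleton_iff]
    have : x₂ * b = b * x₂ := by
      have h1 : x₂ * b * x₂⁻¹ * x₂ = b * x₂ := by rw [hxb]
      rw [← h1]; group
    exact this.symm
  have hfinR : Finite R := inferInstance
  have H1 := half R D x₁ x₂ (hRQ x₁ hx₁) (hDQ x₁ hx₁) hx₁₂ hRD hcomm hdec hfpf₁ a ha b hb
  have H2 := half R D x₂ x₁ (hRQ x₂ hx₂) (hDQ x₂ hx₂) hx₂₁ hRD hcomm hdec' hfpf₂ b hb a ha
  have H2' : ⁅a, b⁆ ∈ D ⊓ Subgroup.centralizer {x₁} := by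
    have e : ⁅a, b⁆ = ⁅b, a⁆⁻¹ := (commutatorElement_inv b a).symm
    rw [e]; exact Subgroup.inv_mem _ H2
  exact hfixmem _ (hDP (Subgroup.mem_inf.mp H1).1) (Subgroup.mem_inf.mp H2').2
    (Subgroup.mem_inf.mp H1).2

end lemmas

/-- Let S = PQ be a finite group with P a normal Sylow p-subgroup and Q elementary abelian of order q², q a prime different from p. If exactly two subgroups X₁, X₂ of order q in Q have a nontrivial centralizer in P, then P is the internal direct product of C_P(X₁) and C_P(X₂): they commute elementwise, meet trivially and generate P. -/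
theorem result {S : Type*} [Group S] [Finite S] {p q : ℕ} [Fact p.Prime] [Fact q.Prime] (hpq : p ≠ q)
    (P : Sylow p S) [(P : Subgroup S).Normal] (Q : Subgroup S) (hQ : Cfsg.IsElementaryAbelian q Q) (hQc : Nat.card Q = q ^ 2)
    (hS : (P : Subgroup S) ⊔ Q = ⊤)
    (X₁ X₂ : Subgroup S) (h₁ : X₁ ≤ Q) (h₂ : X₂ ≤ Q) (h₁₂ : X₁ ≠ X₂) (hc₁ : Nat.card X₁ = q) (hc₂ : Nat.card X₂ = q)
    (hf₁ : (P : Subgroup S) ⊓ Subgroup.centralizer (X₁ : Set S) ≠ ⊥)
    (hf₂ : (P : Subgroup S) ⊓ Subgroup.centralizer (X₂ : Set S) ≠ ⊥)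
    (honly : ∀ X : Subgroup S, X ≤ Q → Nat.card X = q →
      (P : Subgroup S) ⊓ Subgroup.centralizer (X : Set S) ≠ ⊥ → X = X₁ ∨ X = X₂) :
    ⁅(P : Subgroup S) ⊓ Subgroup.centralizer (X₁ : Set S), (P : Subgroup S) ⊓ Subgroup.centralizer (X₂ : Set S)⁆ = ⊥ ∧
      ((P : Subgroup S) ⊓ Subgroup.centralizer (X₁ : Set S)) ⊓ ((P : Subgroup S) ⊓ Subgroup.centralizer (X₂ : Set S)) = ⊥ ∧
      ((P : Subgroup S) ⊓ Subgroup.centralizer (X₁ : Set S)) ⊔ ((P : Subgroup S) ⊓ Subgroup.centralizer (X₂ : Set S)) = P := by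
  have hp : p.Prime := Fact.out
  have hq : q.Prime := Fact.out
  obtain ⟨hQcomm, hQexp⟩ := hQ
  -- a nonidentity element of a subgroup of order `q` generates it
  have hgenX : ∀ X : Subgroup S, Nat.card X = q → ∀ x ∈ X, x ≠ 1 → Subgroup.zpowers x = X := by
    intro X hX x hx hx1
    apply Subgroup.eq_of_le_of_card_ge (Subgroup.zpowers_le.mpr hx)
    rw [hX, Nat.card_zpowers]
    have h1 : orderOf x ∣ q := by rw [← hX]; exact Subgroup.orderOf_dvd_natCard X hx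
    rcases (Nat.dvd_prime hq).mp h1 with h | h
    · exact absurd (orderOf_eq_one_iff.mp h) hx1
    · exact h.ge
  have hcz : ∀ x : S, Subgroup.centralizer (Subgroup.zpowers x : Set S)
      = Subgroup.centralizer {x} := by
    intro x
    apply le_antisymm
    · apply Subgroup.centralizer_le
      intro z hz
      rw [Set.mem_singleton_iff] at hz
      rw [hz]; exact Subgroup.mem_zpowers x
    · intro g hg
      rw [Subgroup.mem_centralizer_singleton_iff] at hg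
      rw [Subgroup.mem_centralizer_iff]
      intro h hh
      obtain ⟨k, rfl⟩ := Subgroup.mem_zpowers_iff.mp hh
      exact ((Commute.zpow_right (show Commute g x from hg) k).eq).symm
  have hcardz : ∀ a ∈ Q, a ≠ 1 → Nat.card (Subgroup.zpowers a) = q := by
    intro a ha ha1
    rw [Nat.card_zpowers]
    exact orderOf_eq_prime (hQexp a ha) ha1
  obtain ⟨x₁, hx₁X, hx₁1⟩ : ∃ x ∈ X₁, x ≠ 1 := by
    rcases Subgroup.bot_or_exists_ne_one X₁ with h | h
    · exfalso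
      rw [h, Subgroup.card_bot] at hc₁
      exact hq.one_lt.ne hc₁
    · exact h
  obtain ⟨x₂, hx₂X, hx₂1⟩ : ∃ x ∈ X₂, x ≠ 1 := by
    rcases Subgroup.bot_or_exists_ne_one X₂ with h | h
    · exfalso
      rw [h, Subgroup.card_bot] at hc₂
      exact hq.one_lt.ne hc₂
    · exact h
  have hZ₁ : Subgroup.zpowers x₁ = X₁ := hgenX X₁ hc₁ x₁ hx₁X hx₁1
  have hZ₂ : Subgroup.zpowers x₂ = X₂ := hgenX X₂ hc₂ x₂ hx₂X hx₂1
  have hC₁ : Subgroup.centralizer (X₁ : Set S) = Subgroup.centralizer {x₁} := by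
    rw [← hZ₁]; exact hcz x₁
  have hC₂ : Subgroup.centralizer (X₂ : Set S) = Subgroup.centralizer {x₂} := by
    rw [← hZ₂]; exact hcz x₂
  have hQmul : ∀ a ∈ Q, ∀ b ∈ Q, a * b = b * a := by
    intro a ha b hb
    have := hQcomm.is_comm.comm (⟨a, ha⟩ : Q) ⟨b, hb⟩
    exact congrArg Subtype.val this
  have hQcent : Q ≤ Subgroup.centralizer {x₁} ⊓ Subgroup.centralizer {x₂} := by
    intro g hg
    refine Subgroup.mem_inf.mpr ⟨?_, ?_⟩
    · rw [Subgroup.mem_centralizer_singleton_iff]; exact hQmul g hg x₁ (h₁ hx₁X)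
    · rw [Subgroup.mem_centralizer_singleton_iff]; exact hQmul g hg x₂ (h₂ hx₂X)
  have hQncyc : ¬ IsCyclic Q := by
    intro hcyc
    obtain ⟨g, hg⟩ := hcyc.exists_generator
    have h1 : orderOf g = Nat.card Q := orderOf_eq_card_of_forall_mem_zpowers hg
    have h2 : g ^ q = 1 := by
      apply Subtype.ext
      rw [Subgroup.coe_pow]
      exact hQexp g g.2
    have h3 : orderOf g ∣ q := orderOf_dvd_of_pow_eq_one h2
    rw [h1, hQc] at h3
    have h4 : q ^ 2 ≤ q := Nat.le_of_dvd hq.pos h3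
    have h5 : q < q ^ 2 := by
      have := hq.one_lt
      nlinarith
    omega
  have hx₂notX₁ : x₂ ∉ X₁ := by
    intro h
    have hle : X₂ ≤ X₁ := by rw [← hZ₂]; exact Subgroup.zpowers_le.mpr h
    exact h₁₂ (Subgroup.eq_of_le_of_card_ge hle (by rw [hc₁, hc₂])).symm
  have hx₁notX₂ : x₁ ∉ X₂ := by
    intro h
    have hle : X₁ ≤ X₂ := by rw [← hZ₁]; exact Subgroup.zpowers_le.mpr h
    exact h₁₂ (Subgroup.eq_of_le_of_card_ge hle (by rw [hc₁, hc₂]))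
  have hfix : (P : Subgroup S) ⊓ Subgroup.centralizer {x₁} ⊓ Subgroup.centralizer {x₂} = ⊥ := by
    have hyQ : x₁ * x₂ ∈ Q := Q.mul_mem (h₁ hx₁X) (h₂ hx₂X)
    have hy1 : x₁ * x₂ ≠ 1 := by
      intro h
      have h' : x₂ = x₁⁻¹ := eq_inv_of_mul_eq_one_right h
      exact hx₂notX₁ (h' ▸ X₁.inv_mem hx₁X)
    have hYbot : (P : Subgroup S) ⊓ Subgroup.centralizer (Subgroup.zpowers (x₁ * x₂) : Set S)
        = ⊥ := by
      by_contra hne
      rcases honly (Subgroup.zpowers (x₁ * x₂)) (Subgroup.zpowers_le.mpr hyQ)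
        (hcardz _ hyQ hy1) hne with h | h
      · have hy : x₁ * x₂ ∈ X₁ := h ▸ Subgroup.mem_zpowers (x₁ * x₂)
        have e : x₂ = x₁⁻¹ * (x₁ * x₂) := by group
        exact hx₂notX₁ (e ▸ X₁.mul_mem (X₁.inv_mem hx₁X) hy)
      · have hy : x₁ * x₂ ∈ X₂ := h ▸ Subgroup.mem_zpowers (x₁ * x₂)
        have e : x₁ = (x₁ * x₂) * x₂⁻¹ := by group
        exact hx₁notX₂ (e ▸ X₂.mul_mem hy (X₂.inv_mem hx₂X))
    rw [eq_bot_iff, ← hYbot, hcz (x₁ * x₂)]
    intro g hg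
    obtain ⟨hg1, hg2⟩ := Subgroup.mem_inf.mp hg
    obtain ⟨hgP, hg1⟩ := Subgroup.mem_inf.mp hg1
    refine Subgroup.mem_inf.mpr ⟨hgP, ?_⟩
    rw [Subgroup.mem_centralizer_singleton_iff] at hg1 hg2 ⊢
    rw [← mul_assoc, hg1, mul_assoc, hg2, mul_assoc]
  have hgen : ∀ R : Subgroup S, R ≤ (P : Subgroup S) → (∀ g ∈ Q, ∀ r ∈ R, g * r * g⁻¹ ∈ R) →
      R ≤ (R ⊓ Subgroup.centralizer {x₁}) ⊔ (R ⊓ Subgroup.centralizer {x₂}) := by
    intro R hRP hRQ
    have hnorm : Q ≤ Subgroup.normalizer (R : Set S) := by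
      intro g hg
      rw [Subgroup.mem_normalizer_iff]
      intro r
      constructor
      · exact hRQ g hg r
      · intro h
        have := hRQ g⁻¹ (Q.inv_mem hg) _ h
        simpa [mul_assoc] using this
    have hcop : (Nat.card Q).Coprime (Nat.card R) := by
      obtain ⟨k, hk⟩ := IsPGroup.iff_card.mp (P.isPGroup'.to_le hRP)
      rw [hQc, hk]
      exact Nat.Coprime.pow _ _ ((Nat.coprime_primes hq hp).mpr hpq.symm)
    have hQcomm' : IsMulCommutative Q := hQcomm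
    have h58 := Cfsg.Agent.S0058.result Q R hQncyc hnorm hcop
    refine le_trans (le_of_eq h58.symm) ?_
    refine iSup_le fun a => iSup_le fun ha => ?_
    obtain ⟨haQ, ha1⟩ := ha
    by_cases hz : (P : Subgroup S) ⊓ Subgroup.centralizer (Subgroup.zpowers a : Set S) = ⊥
    · have : R ⊓ Subgroup.centralizer {a} ≤ ⊥ := by
        rw [← hz, hcz a]; exact inf_le_inf_right _ hRP
      exact le_trans this bot_le
    · rcases honly (Subgroup.zpowers a) (Subgroup.zpowers_le.mpr haQ) (hcardz a haQ ha1) hz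
        with h | h
      · have : Subgroup.centralizer {a} = Subgroup.centralizer {x₁} := by
          rw [← hcz a, h, hC₁]
        rw [this]; exact le_sup_left
      · have : Subgroup.centralizer {a} = Subgroup.centralizer {x₂} := by
          rw [← hcz a, h, hC₂]
        rw [this]; exact le_sup_right
  rw [hC₁, hC₂]
  have hPQ : ∀ g ∈ Q, ∀ r ∈ (P : Subgroup S), g * r * g⁻¹ ∈ (P : Subgroup S) :=
    fun g _ r hr => (inferInstance : (P : Subgroup S).Normal).conj_mem r hr g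
  have hkey := key (P : Subgroup S) Q x₁ x₂ P.isPGroup' (h₁ hx₁X) (h₂ hx₂X) hQcent hfix hgen
    (Nat.card (P : Subgroup S)) P rfl le_rfl hPQ
  refine ⟨?_, ?_, ?_⟩
  · rw [eq_bot_iff, Subgroup.commutator_le]
    intro a ha b hb
    rw [Subgroup.mem_bot]; exact hkey a ha b hb
  · rw [eq_bot_iff, ← hfix]
    intro g hg
    obtain ⟨h1, h2⟩ := Subgroup.mem_inf.mp hg
    exact Subgroup.mem_inf.mpr ⟨h1, (Subgroup.mem_inf.mp h2).2⟩
  · exact le_antisymm (sup_le inf_le_left inf_le_left) (hgen P le_rfl hPQ)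

end Cfsg.Agent.S1900
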