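import Mathlib
import Cfsg.Statements.S1901
import Cfsg.Agent.Lib.Helper32_Sylow
import Cfsg.Agent.Lib.Helper32_Cores
import Cfsg.Agent.Lib.Helper32_PSolvable

set_option autoImplicit false
open Cfsg

namespace Cfsg.Agent.S1901

open Cfsg.Agent.Lib.Helper32_Sylow Cfsg.Agent.Lib.Helper32_Cores Cfsg.Agent.Lib.Helper32_PSolvable

universe u

/-- The statement proved by induction on the order of the group. -/
def Claim (p : ℕ) (G : Type u) [Group G] : Prop :=
  ∀ (Q : Subgroup G), (Nat.card Q).Coprime p → ∀ P : Sylow p G,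
    Q ≤ Subgroup.normalizer ((P : Subgroup G) : Set G) →
    ∀ x ∈ Subgroup.normalizer (Q : Set G), ∀ k : ℕ, x ^ (p ^ k) = 1 →
      x ∈ Subgroup.centralizer (Q : Set G)

/-- Passing to a quotient by a nontrivial normal subgroup for which the claim holds. -/
theorem step {p : ℕ} [Fact p.Prime] {G : Type u} [Group G] [Finite G] (M : Subgroup G) [M.Normal]
    (hM : Claim p (G ⧸ M)) (Q : Subgroup G) (hQ : (Nat.card Q).Coprime p) (P : Sylow p G)
    (hQP : Q ≤ Subgroup.normalizer ((P : Subgroup G) : Set G))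
    (x : G) (hx : x ∈ Subgroup.normalizer (Q : Set G)) (k : ℕ) (hxk : x ^ (p ^ k) = 1) :
    ∀ q ∈ Q, q⁻¹ * x * q * x⁻¹ ∈ Q ⊓ M := by
  intro q hq
  let π := QuotientGroup.mk' M
  let Pbar : Sylow p (G ⧸ M) := P.mapSurjective (QuotientGroup.mk'_surjective M)
  have hQbar : (Nat.card (Q.map π)).Coprime p :=
    Nat.Coprime.coprime_dvd_left (Subgroup.card_map_dvd Q π) hQ
  have h1 : Q.map π ≤ Subgroup.normalizer ((Pbar : Subgroup (G ⧸ M)) : Set (G ⧸ M)) := by
    rw [Sylow.coe_mapSurjective]
    exact (Subgroup.map_mono hQP).trans (Subgroup.le_normalizer_map π)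
  have h2 : π x ∈ Subgroup.normalizer ((Q.map π : Subgroup (G ⧸ M)) : Set (G ⧸ M)) :=
    (Subgroup.le_normalizer_map π) (Subgroup.mem_map_of_mem π hx)
  have h3 : (π x) ^ (p ^ k) = 1 := by rw [← map_pow, hxk, map_one]
  have h4 := hM (Q.map π) hQbar Pbar h1 (π x) h2 k h3
  rw [Subgroup.mem_centralizer_iff] at h4
  have h5 := h4 (π q) (Subgroup.mem_map_of_mem π hq)
  refine Subgroup.mem_inf.mpr ⟨?_, ?_⟩
  · have : x * q * x⁻¹ ∈ Q := (Subgroup.mem_normalizer_iff.mp hx q).mp hq
    have e : q⁻¹ * x * q * x⁻¹ = q⁻¹ * (x * q * x⁻¹) := by group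
    rw [e]
    exact Q.mul_mem (Q.inv_mem hq) this
  · rw [← QuotientGroup.eq_one_iff]
    show π (q⁻¹ * x * q * x⁻¹) = 1
    rw [map_mul, map_mul, map_mul, map_inv, map_inv, mul_assoc (π q)⁻¹, ← h5]
    group

theorem claim_all (p : ℕ) [Fact p.Prime] :
    ∀ n : ℕ, ∀ (G : Type u) [Group G] [Finite G], Nat.card G = n → Cfsg.IsPSolvable p G → Claim p G := by
  intro n
  induction n using Nat.strong_induction_on with
  | _ n ih =>
    intro G _ _ hn hG Q hQ P hQP x hx k hxk
    rcases subsingleton_or_nontrivial G with hsub | hnt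
    · have : x = 1 := Subsingleton.elim _ _
      rw [this]; exact one_mem _
    -- the claim holds in proper quotients
    have hquot : ∀ (M : Subgroup G) [M.Normal], M ≠ ⊥ → Claim p (G ⧸ M) := by
      intro M _ hM
      have hlt : Nat.card (G ⧸ M) < n := by
        rw [← hn, Subgroup.card_eq_card_quotient_mul_card_subgroup M]
        have h1 : 1 < Nat.card M := by
          rw [Subgroup.one_lt_card_iff_ne_bot]; exact hM
        have h2 : 0 < Nat.card (G ⧸ M) := Nat.card_pos
        nlinarith
      exact ih _ hlt (G ⧸ M) rfl (isPSolvable_quotient M hG)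
    rw [Subgroup.mem_centralizer_iff]
    intro q hq
    rcases exists_core_ne_bot hG with hM | hU
    · -- quotient by O_{p'}(G)
      set M := Cfsg.pPrimeCore p G with hMdef
      have hMc : (Nat.card M).Coprime p := card_pPrimeCore_coprime p
      have hc := step M (hquot M hM) Q hQ P hQP x hx k hxk
      set c := q⁻¹ * x * q * x⁻¹ with hcdef
      have hcQM : c ∈ Q ⊓ M := hc q hq
      -- Q ⊓ M centralizes P
      have hcentP : (P : Subgroup G) ≤ Subgroup.centralizer ((Q ⊓ M : Subgroup G) : Set G) := by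
        rw [Subgroup.le_centralizer_iff]
        intro z hz
        exact mem_centralizer_of_mem_normalizer hMc P.isPGroup' (Subgroup.mem_inf.mp hz).2
          (hQP (Subgroup.mem_inf.mp hz).1)
      -- x normalizes Q ⊓ M
      have hxN : x ∈ Subgroup.normalizer ((Q ⊓ M : Subgroup G) : Set G) := by
        rw [Subgroup.mem_normalizer_iff]
        intro h
        rw [Subgroup.mem_inf, Subgroup.mem_inf, ← Subgroup.mem_normalizer_iff.mp hx h]
        constructor
        · rintro ⟨h1, h2⟩
          exact ⟨h1, Subgroup.Normal.conj_mem inferInstance _ h2 x⟩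
        · rintro ⟨h1, h2⟩
          refine ⟨h1, ?_⟩
          have e : h = x⁻¹ * (x * h * x⁻¹) * x⁻¹⁻¹ := by group
          rw [e]
          exact Subgroup.Normal.conj_mem inferInstance _ h2 x⁻¹
      -- x centralizes Q ⊓ M
      have hxC : x ∈ Subgroup.centralizer ((Q ⊓ M : Subgroup G) : Set G) := by
        have hPN : (P : Subgroup G) ≤ Subgroup.normalizer ((Q ⊓ M : Subgroup G) : Set G) :=
          hcentP.trans (Subgroup.centralizer_le_normalizer _)
        have hzx : Subgroup.zpowers x ≤ Subgroup.normalizer ((Q ⊓ M : Subgroup G) : Set G) := by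
          rw [Subgroup.zpowers_le]; exact hxN
        have hpz : IsPGroup p (Subgroup.zpowers x) := by
          intro z
          obtain ⟨z, hz⟩ := z
          obtain ⟨i, rfl⟩ := Subgroup.mem_zpowers_iff.mp hz
          refine ⟨k, Subtype.ext ?_⟩
          simp only [Subgroup.coe_pow, Subgroup.coe_one]
          rw [← zpow_natCast, ← zpow_mul, mul_comm, zpow_mul, zpow_natCast, hxk, one_zpow]
        obtain ⟨g, hgN, hg⟩ := sylow_conj_into _ P hPN _ hzx hpz
        have h1 := hcentP (hg x (Subgroup.mem_zpowers x))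
        have h2 := conj_mem_centralizer_of_mem_normalizer hgN h1
        have e : g⁻¹ * (g * x * g⁻¹) * g = x := by group
        rwa [e] at h2
      have hxc : c * x = x * c := (Subgroup.mem_centralizer_iff.mp hxC) c hcQM
      -- iterate
      have hiter : ∀ j : ℕ, x ^ j * q * (x ^ j)⁻¹ = q * c ^ j := by
        intro j
        induction j with
        | zero => simp
        | succ j ihj =>
          have hcomm : c ^ j * x = x * c ^ j := ((Commute.pow_left (show Commute c x from hxc) j)).eq
          calc x ^ (j + 1) * q * (x ^ (j + 1))⁻¹ = x * (x ^ j * q * (x ^ j)⁻¹) * x⁻¹ := by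
                rw [pow_succ']; group
            _ = x * (q * c ^ j) * x⁻¹ := by rw [ihj]
            _ = (x * q * x⁻¹) * (x * c ^ j) * x⁻¹ := by group
            _ = (q * c) * (c ^ j * x) * x⁻¹ := by
                rw [hcomm]
                have : x * q * x⁻¹ = q * c := by rw [hcdef]; group
                rw [this]
            _ = q * c ^ (j + 1) := by rw [pow_succ']; group
      have h1 := hiter (p ^ k)
      rw [hxk] at h1
      have h2 : c ^ (p ^ k) = 1 := by
        have : q * c ^ (p ^ k) = q := by rw [← h1]; group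
        exact mul_eq_left.mp this  
      have h3 : c = 1 := eq_one_of_pow_eq_one_of_mem_coprime hQ h2 (Subgroup.mem_inf.mp hcQM).1
      have : q⁻¹ * x * q * x⁻¹ = 1 := h3
      calc q * x = q * (q⁻¹ * x * q * x⁻¹) * x := by rw [this]; group
        _ = x * q := by group
    · -- quotient by O_p(G)
      set U := Cfsg.pCore p G with hUdef
      have hUp : IsPGroup p U := Sylow.sSup_of_normal _ (fun _ hH => hH.2) (fun _ hH => hH.1)
      have hc := step U (hquot U hU) Q hQ P hQP x hx k hxk q hq
      have hbot : U ⊓ Q = ⊥ := inf_eq_bot_of_pgroup_of_coprime hUp hQ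
      rw [inf_comm, hbot, Subgroup.mem_bot] at hc
      calc q * x = q * (q⁻¹ * x * q * x⁻¹) * x := by rw [hc]; group
        _ = x * q := by group

/-- Let G be a finite p-solvable group and Q a subgroup of order prime to p such that p divides the index of C_G(Q) in N_G(Q). Then Q normalizes no Sylow p-subgroup of G. -/
theorem result {G : Type*} [Group G] [Finite G] {p : ℕ} [Fact p.Prime]
    (hG : Cfsg.IsPSolvable p G) (Q : Subgroup G) (hQ : ¬ p ∣ Nat.card Q)
    (hA : p ∣ (Subgroup.centralizer (Q : Set G)).relIndex (Subgroup.normalizer (Q : Set G)))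
    (P : Sylow p G) : ¬ Q ≤ Subgroup.normalizer ((P : Subgroup G) : Set G) := by
  intro hQP
  have hp : p.Prime := Fact.out
  have hQc : (Nat.card Q).Coprime p := ((Nat.Prime.coprime_iff_not_dvd hp).mpr hQ).symm
  have hclaim := claim_all p _ G rfl hG Q hQc P hQP
  -- an element of order p in N/C
  set N := Subgroup.normalizer (Q : Set G) with hN
  set C' : Subgroup N := (Subgroup.centralizer (Q : Set G)).subgroupOf N with hC'
  have hC'n : C'.Normal := inferInstance
  have hcard : p ∣ Nat.card (N ⧸ C') := hA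
  obtain ⟨xbar, hxbar⟩ := exists_prime_orderOf_dvd_card' p hcard
  obtain ⟨x₀, rfl⟩ := QuotientGroup.mk_surjective xbar
  obtain ⟨a, m, hm, hx₀⟩ := Nat.exists_eq_pow_mul_and_not_dvd (orderOf_pos x₀).ne' p hp.ne_one
  set x := x₀ ^ m with hxdef
  have hxa : x ^ (p ^ a) = 1 := by
    rw [hxdef, ← pow_mul, mul_comm, ← hx₀]; exact pow_orderOf_eq_one x₀
  have hxC : x ∉ C' := by
    intro hmem
    have h1 : (QuotientGroup.mk x : N ⧸ C') = 1 := (QuotientGroup.eq_one_iff x).mpr hmem
    rw [hxdef, QuotientGroup.mk_pow] at h1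
    have h2 := orderOf_dvd_of_pow_eq_one h1
    rw [hxbar] at h2
    exact hm h2
  apply hxC
  rw [hC', Subgroup.mem_subgroupOf]
  apply hclaim (x : G) x.2 a
  have := congrArg Subtype.val hxa
  simpa using this

end Cfsg.Agent.S1901
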