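import Cfsg.Statements.S1902
import Cfsg.Agent.Lib.Helper22_PConstrainedInv
import Cfsg.Agent.Lib.Helper76_PSolvable
import Cfsg.Agent.Lib.Helper32_Cores

set_option autoImplicit false
open Cfsg

namespace Cfsg.Agent.S1902

/-- Let p be an odd prime, G a finite p-solvable group, and B an elementary abelian subgroup of order p² such that B is the subgroup generated by the elements of order p of some Sylow p-subgroup of C_G(b₀), for some nontrivial b₀ ∈ B. Then every B-invariant subgroup of G of order prime to p lies in O_{p'}(G). -/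
theorem result {G : Type*} [Group G] [Finite G] {p : ℕ} [Fact p.Prime] (hp : p ≠ 2)
    (hG : Cfsg.IsPSolvable p G) (B : Subgroup G) (hB : Cfsg.IsElementaryAbelian p B) (hBc : Nat.card B = p ^ 2)
    (b₀ : G) (hb₀ : b₀ ∈ B) (hb₁ : b₀ ≠ 1) (P : Sylow p ↥(Subgroup.centralizer ({b₀} : Set G)))
    (hBP : B = Subgroup.closure {x : G | x ∈ ((P : Subgroup ↥(Subgroup.centralizer ({b₀} : Set G))).map
      (Subgroup.centralizer ({b₀} : Set G)).subtype : Subgroup G) ∧ orderOf x = p})
    (Q : Subgroup G) (hQ : ¬ p ∣ Nat.card Q) (hinv : ∀ b ∈ B, ∀ x ∈ Q, b * x * b⁻¹ ∈ Q) :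
    Q ≤ Cfsg.pPrimeCore p G := by
  have hpp : p.Prime := Fact.out
  -- `G` is `p`-constrained
  have hcon : IsPConstrained p G := by
    rw [Cfsg.Agent.Lib.Helper23_PConstrained.isPConstrained_iff_centralizer_pCore_le]
    have : (pPrimeCore p G).Normal := Cfsg.Agent.Lib.Helper76_PSolvable.pPrimeCore_normal p
    exact Cfsg.Agent.Lib.Helper76_PSolvable.centralizer_pCore_le p
      (Cfsg.Agent.Lib.Helper76_PSolvable.isPSolvable_quotient p _ hG)
      (Cfsg.Agent.Lib.Helper32_Cores.pPrimeCore_quotient_eq_bot p)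
  have hBcomm : ∀ a ∈ B, ∀ b ∈ B, a * b = b * a := by
    intro a ha b hb
    exact congrArg Subtype.val (hB.1.is_comm.comm (⟨a, ha⟩ : B) ⟨b, hb⟩)
  have hBpg : IsPGroup p B := IsPGroup.of_card hBc
  -- elements of order `p` of `C_G(B)` lie in `B`
  have hΩ : ∀ x ∈ Subgroup.centralizer (B : Set G), orderOf x = p → x ∈ B := by
    intro x hxC hxo
    have hxB : ∀ b ∈ B, b * x = x * b := fun b hb => Subgroup.mem_centralizer_iff.mp hxC b hb
    have hxp : x ^ p = 1 := by rw [← hxo]; exact pow_orderOf_eq_one x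
    set T := B ⊔ Subgroup.zpowers x with hT
    have hzn : Subgroup.zpowers x ≤ Subgroup.normalizer (B : Set G) := by
      rw [Subgroup.zpowers_le]
      exact Subgroup.centralizer_le_normalizer _ hxC
    -- every element of `T` has order dividing `p` and lies in `C₀`
    have hTp : ∀ t ∈ T, t ^ p = 1 ∧ t ∈ (Subgroup.centralizer ({b₀} : Set G)) := by
      intro t ht
      obtain ⟨b, hb, a, ha, rfl⟩ := Cfsg.Agent.Lib.Helper24_CoprimeAction.exists_mul_of_mem_sup
        (Subgroup.zpowers x) B hzn ht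
      obtain ⟨i, rfl⟩ := Subgroup.mem_zpowers_iff.mp ha
      have hcomm : Commute b (x ^ i) := (Commute.zpow_right (hxB b hb) i)
      refine ⟨?_, ?_⟩
      · rw [hcomm.mul_pow, hB.2 b hb, one_mul, ← zpow_natCast, ← zpow_mul, mul_comm, zpow_mul,
          zpow_natCast, hxp, one_zpow]
      · rw [Subgroup.mem_centralizer_singleton_iff]
        have h1 : b * b₀ = b₀ * b := hBcomm b hb b₀ hb₀
        have h2 : Commute (x ^ i) b₀ := Commute.zpow_left (hxB b₀ hb₀).symm i
        calc b * x ^ i * b₀ = b * (x ^ i * b₀) := by group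
          _ = b * (b₀ * x ^ i) := by rw [h2.eq]
          _ = b * b₀ * x ^ i := by group
          _ = b₀ * b * x ^ i := by rw [h1]
          _ = b₀ * (b * x ^ i) := by group
    have hTC : T ≤ (Subgroup.centralizer ({b₀} : Set G)) := fun t ht => (hTp t ht).2
    have hTpg : IsPGroup p T := by
      intro t
      refine ⟨1, ?_⟩
      apply Subtype.ext
      rw [pow_one, Subgroup.coe_pow, Subgroup.coe_one]
      exact (hTp t t.2).1
    have hT' : IsPGroup p (T.subgroupOf (Subgroup.centralizer ({b₀} : Set G))) := hTpg.comap_subtype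
    obtain ⟨S, hS⟩ := hT'.exists_le_sylow
    obtain ⟨g, hg⟩ := MulAction.exists_smul_eq ↥(Subgroup.centralizer ({b₀} : Set G)) P S
    -- `T ≤ g B g⁻¹`
    have hTB : ∀ t ∈ T, (g : G)⁻¹ * t * (g : G) ∈ B := by
      intro t ht
      by_cases ht1 : t = 1
      · rw [ht1, mul_one, inv_mul_cancel]; exact B.one_mem
      have htS : (⟨t, hTC ht⟩ : ↥(Subgroup.centralizer ({b₀} : Set G))) ∈ (S : Subgroup ↥(Subgroup.centralizer ({b₀} : Set G))) :=
        hS (by rw [Subgroup.mem_subgroupOf]; exact ht)
      rw [← hg, Sylow.smul_def, Sylow.pointwise_smul_def, Subgroup.mem_pointwise_smul_iff_inv_smul_mem,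
        MulAut.smul_def] at htS
      have h1 : (g : G)⁻¹ * t * (g : G) ∈ ((P : Subgroup ↥(Subgroup.centralizer ({b₀} : Set G))).map (Subgroup.centralizer ({b₀} : Set G)).subtype : Subgroup G) := by
        refine ⟨_, htS, ?_⟩
        simp
      have h2 : orderOf ((g : G)⁻¹ * t * (g : G)) = p := by
        have : Fact p.Prime := ⟨hpp⟩
        apply orderOf_eq_prime
        · have e : ((g : G)⁻¹ * t * (g : G)) ^ p = (g : G)⁻¹ * t ^ p * (g : G) := by
            have := conj_pow (a := (g : G)⁻¹) (b := t) (i := p)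
            simpa using this
          rw [e, (hTp t ht).1, mul_one, inv_mul_cancel]
        · intro h
          apply ht1
          have : t = (g : G) * ((g : G)⁻¹ * t * (g : G)) * (g : G)⁻¹ := by group
          rw [this, h, mul_one, mul_inv_cancel]
      rw [hBP]
      exact Subgroup.subset_closure ⟨h1, h2⟩
    -- compare orders
    set Bg : Subgroup G := B.map (MulAut.conj (g : G)).toMonoidHom with hBg
    have hTBg : T ≤ Bg := by
      intro t ht
      refine ⟨(g : G)⁻¹ * t * (g : G), hTB t ht, ?_⟩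
      simp [MulAut.conj_apply, mul_assoc]
    have hcard : Nat.card Bg = Nat.card B :=
      Subgroup.card_map_of_injective (MulAut.conj (g : G)).injective
    have hBT : B ≤ T := le_sup_left
    have hBBg : B = Bg := Subgroup.eq_of_le_of_card_ge (hBT.trans hTBg) (le_of_eq hcard)
    have : x ∈ T := Subgroup.mem_sup_right (Subgroup.mem_zpowers x)
    rw [hBBg]
    exact hTBg this
  have hBQ : B ≤ Subgroup.normalizer (Q : Set G) := by
    intro b hb
    rw [Subgroup.mem_normalizer_iff]
    intro y
    constructor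
    · exact hinv b hb y
    · intro hy
      have := hinv b⁻¹ (B.inv_mem hb) _ hy
      have e : b⁻¹ * (b * y * b⁻¹) * b⁻¹⁻¹ = y := by group
      rwa [e] at this
  exact Cfsg.Agent.Lib.Helper22_PConstrainedInv.le_pPrimeCore_of_invariant p hp hcon B hBpg hΩ Q hQ hBQ

end Cfsg.Agent.S1902
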