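import Mathlib
import Cfsg.Agent.S1248
import Cfsg.Agent.Lib.Helper56_U320Defs
import Cfsg.Agent.Lib.Helper56_U320Model
import Cfsg.Agent.Lib.Helper56_U320_DATAfin
import Cfsg.Agent.Lib.Helper78_U320_HOM
import Cfsg.Agent.Lib.Helper31_U320_ZETA
import Cfsg.Agent.Lib.Helper82_U320_ACT
import Cfsg.Agent.Lib.Helper25_U320_CENT
import Cfsg.Agent.Lib.Helper12_U320_CARDaux
import Cfsg.Agent.Lib.Helper26_U320_COMM
import Cfsg.Agent.Lib.Helper9_U320_TRANS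
import Cfsg.Statements.S1903

set_option autoImplicit false
open Cfsg
open Cfsg.Agent.S1248 Cfsg.Agent.Lib.Helper56_U320Defs Cfsg.Agent.Lib.Helper56_U320Model

namespace Cfsg.Agent.S1903

section
variable {F : Type*} [Field F] [Fintype F] [CharP F 2] [h16 : Fact (∀ x : F, x ^ 16 = x)]

theorem card_cent (hF : Fintype.card F = 16) :
    Nat.card (Subgroup.centralizer ({mSU hF (p0 : PF F)} : Set (Cfsg.SU 3 F 4))) = 320 := by
  obtain ⟨ζ, hζ, hζ1⟩ := Cfsg.Agent.Lib.Helper31_U320_ZETA.exists_zeta hF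
  exact Cfsg.Agent.Lib.Helper12_U320_CARDaux.card_cent_of hF ζ hζ
    (fun p => Cfsg.Agent.Lib.Helper82_U320_ACT.hSU_conj hF ζ hζ p)
    (Cfsg.Agent.Lib.Helper82_U320_ACT.hSU_pow_five hF ζ hζ)
    (fun j => Cfsg.Agent.Lib.Helper82_U320_ACT.hSU_pow_mem_iff hF ζ hζ hζ1 j)
    (fun g hg => Cfsg.Agent.Lib.Helper25_U320_CENT.cent_matrix hF ζ hζ hζ1 g hg)

theorem comm_cent (hF : Fintype.card F = 16) :
    Nat.card (commutator ↥(Subgroup.centralizer ({mSU hF (p0 : PF F)} : Set (Cfsg.SU 3 F 4)))) = 64 ∧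
    Nonempty (↥(commutator ↥(Subgroup.centralizer ({mSU hF (p0 : PF F)} : Set (Cfsg.SU 3 F 4)))) ≃* PF F) := by
  obtain ⟨ζ, hζ, hζ1⟩ := Cfsg.Agent.Lib.Helper31_U320_ZETA.exists_zeta hF
  exact Cfsg.Agent.Lib.Helper26_U320_COMM.comm_cent_aux hF ζ hζ hζ1
    (fun ξ hξ p => Cfsg.Agent.Lib.Helper82_U320_ACT.hSU_conj hF ξ hξ p)
    (fun g hg => Cfsg.Agent.Lib.Helper25_U320_CENT.cent_matrix hF ζ hζ hζ1 g hg)

theorem model_data_SU (hF : Fintype.card F = 16) :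
    Nonempty (Data ↥(Subgroup.centralizer ({mSU hF (p0 : PF F)} : Set (Cfsg.SU 3 F 4)))) := by
  obtain ⟨hc, ⟨e⟩⟩ := comm_cent (F := F) hF
  obtain ⟨τ, hτ⟩ := exists_tau hF
  obtain ⟨t, ht⟩ := exists_t hF
  have hK := (props hF τ hτ t ht e hc).1
  exact Cfsg.Agent.Lib.Helper56_U320_DATAfin.data_of_hyp (card_cent hF) hc hK

end

/-- A finite group `G` of order 320 whose derived subgroup has order 64 with a Klein four-group as centre is
isomorphic to the centraliser of an involution in `PSU₃(4)`. -/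
theorem result {G : Type*} [Group G] [Finite G] (hG : Nat.card G = 320) (hD : Nat.card (commutator G) = 64)
    (hZ : IsKleinFour (Subgroup.center (commutator G)))
    {F : Type*} [Field F] [Fintype F] (hF : Fintype.card F = 16) :
    ∃ t : Cfsg.PSU 3 F 4, orderOf t = 2 ∧ Nonempty (G ≃* Subgroup.centralizer ({t} : Set (Cfsg.PSU 3 F 4))) := by
  have := charP_two hF
  have : Fact (∀ x : F, x ^ 16 = x) := ⟨pow_sixteen hF⟩
  obtain ⟨D₁⟩ := Cfsg.Agent.Lib.Helper56_U320_DATAfin.data_of_hyp hG hD hZ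
  obtain ⟨D₂⟩ := model_data_SU (F := F) hF
  obtain ⟨ht, ⟨e⟩⟩ := Cfsg.Agent.Lib.Helper9_U320_TRANS.centralizer_equiv (F := F) hF
  obtain ⟨e1⟩ := Cfsg.Agent.Lib.Helper78_U320_HOM.iso_of_data D₁ D₂
  exact ⟨muHom hF p0, ht, ⟨e1.trans e⟩⟩

end Cfsg.Agent.S1903
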