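import Cfsg.Statements.S1905
import Cfsg.Agent.Lib.Helper32_Involutions

set_option autoImplicit false
open Cfsg

namespace Cfsg.Agent.S1905

open Cfsg.Agent.Lib.Helper32_Involutions

section lemmas

variable {S : Type*} [Group S]

theorem orderOf_conj' (c x : S) : orderOf (c * x * c⁻¹) = orderOf x :=
  (SemiconjBy.orderOf_eq _ (SemiconjBy.conj_mk c x)).symm

/-- An involution of `M` and an involution outside `M` have a product of odd order. -/
theorem odd_order_mul [Finite S] (M : Subgroup S)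
    (hC : ∀ i ∈ M, orderOf i = 2 → Subgroup.centralizer ({i} : Set S) ≤ M)
    {i j : S} (hi : i ∈ M) (hi2 : orderOf i = 2) (hj : j ∉ M) (hj2 : orderOf j = 2) :
    Odd (orderOf (i * j)) := by
  by_contra hodd
  rw [Nat.not_odd_iff_even] at hodd
  obtain ⟨k, hk⟩ := hodd
  have hk0 : 0 < k := by
    have := orderOf_pos (i * j)
    omega
  obtain ⟨hw2, hwi, hwj, -⟩ := exists_central_of_even i j (mul_self_of_orderOf_two hi2)
    (mul_self_of_orderOf_two hj2) k hk0 (by rw [hk]; ring)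
  have hwM : (i * j) ^ k ∈ M :=
    hC i hi hi2 (by rw [Subgroup.mem_centralizer_singleton_iff]; exact hwi.symm)
  have hjM : j ∈ M :=
    hC _ hwM hw2 (by rw [Subgroup.mem_centralizer_singleton_iff]; exact hwj)
  exact hj hjM

/-- Some involution lies outside `M`. -/
theorem exists_involution_not_mem [Finite S] (M : Subgroup S) (hM : Even (Nat.card M))
    (hcore : Odd (Nat.card M.normalCore)) : ∃ j : S, orderOf j = 2 ∧ j ∉ M := by
  by_contra hcon
  have hall : ∀ j : S, orderOf j = 2 → j ∈ M := by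
    intro j hj
    by_contra h
    exact hcon ⟨j, hj, h⟩
  obtain ⟨i, hi⟩ := exists_prime_orderOf_dvd_card' (G := M) 2 (even_iff_two_dvd.mp hM)
  have hKM : Subgroup.normalClosure {x : S | orderOf x = 2} ≤ M := by
    rw [Subgroup.normalClosure, Subgroup.closure_le]
    intro y hy
    rw [Group.mem_conjugatesOfSet_iff] at hy
    obtain ⟨x, hx, hxy⟩ := hy
    obtain ⟨c, hc⟩ := isConj_iff.mp hxy
    apply hall
    rw [← hc, orderOf_conj']
    exact hx
  have hKcore : Subgroup.normalClosure {x : S | orderOf x = 2} ≤ M.normalCore :=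
    Subgroup.normal_le_normalCore.mpr hKM
  have hiK : (i : S) ∈ Subgroup.normalClosure {x : S | orderOf x = 2} :=
    Subgroup.subset_normalClosure (by
      show orderOf (i : S) = 2
      rw [Subgroup.orderOf_coe]; exact hi)
  have h2 : 2 ∣ Nat.card M.normalCore := by
    have h1 : orderOf (i : S) ∣ Nat.card M.normalCore :=
      Subgroup.orderOf_dvd_natCard _ (hKcore hiK)
    rwa [Subgroup.orderOf_coe, hi] at h1
  exact (Nat.not_even_iff_odd.mpr hcore) (even_iff_two_dvd.mpr h2)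

/-- Part 1. -/
theorem part1 [Finite S] (M : Subgroup S) (hM : Even (Nat.card M))
    (hC : ∀ i ∈ M, orderOf i = 2 → Subgroup.centralizer ({i} : Set S) ≤ M)
    (hcore : Odd (Nat.card M.normalCore)) :
    ∀ x y : S, orderOf x = 2 → orderOf y = 2 → IsConj x y := by
  obtain ⟨j₀, hj₀, hj₀M⟩ := exists_involution_not_mem M hM hcore
  obtain ⟨i₀, hi₀⟩ := exists_prime_orderOf_dvd_card' (G := M) 2 (even_iff_two_dvd.mp hM)
  have hi₀' : orderOf (i₀ : S) = 2 := by rw [Subgroup.orderOf_coe]; exact hi₀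
  have key : ∀ x : S, orderOf x = 2 → IsConj x j₀ := by
    intro x hx
    by_cases hxM : x ∈ M
    · exact isConj_of_odd_order (mul_self_of_orderOf_two hx) (mul_self_of_orderOf_two hj₀)
        (odd_order_mul M hC hxM hx hj₀M hj₀)
    · have h1 : IsConj (i₀ : S) x :=
        isConj_of_odd_order (mul_self_of_orderOf_two hi₀') (mul_self_of_orderOf_two hx)
          (odd_order_mul M hC i₀.2 hi₀' hxM hx)
      have h2 : IsConj (i₀ : S) j₀ :=
        isConj_of_odd_order (mul_self_of_orderOf_two hi₀') (mul_self_of_orderOf_two hj₀)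
          (odd_order_mul M hC i₀.2 hi₀' hj₀M hj₀)
      exact h1.symm.trans h2
  intro x y hx hy
  exact (key x hx).trans (key y hy).symm

/-- If `y` commutes with the conjugate `g k g⁻¹` of an involution `k ∈ M`, then `g⁻¹ y g ∈ M`. -/
theorem conj_mem_of_commute (M : Subgroup S)
    (hC : ∀ i ∈ M, orderOf i = 2 → Subgroup.centralizer ({i} : Set S) ≤ M)
    {k : S} (hk : k ∈ M) (hk2 : orderOf k = 2) (g y : S)
    (hy : y * (g * k * g⁻¹) = (g * k * g⁻¹) * y) : g⁻¹ * y * g ∈ M := by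
  apply hC k hk hk2
  rw [Subgroup.mem_centralizer_singleton_iff]
  calc g⁻¹ * y * g * k = g⁻¹ * (y * (g * k * g⁻¹)) * g := by group
    _ = g⁻¹ * ((g * k * g⁻¹) * y) * g := by rw [hy]
    _ = k * (g⁻¹ * y * g) := by group

/-- `M` is strongly embedded: an involution of `M` lies in no other conjugate of `M`. -/
theorem strongly_embedded [Finite S] (M : Subgroup S)
    (hC : ∀ i ∈ M, orderOf i = 2 → Subgroup.centralizer ({i} : Set S) ≤ M)
    (X : Sylow 2 M) (I : M)
    (hI : I ∈ (Subgroup.center ↥(X : Subgroup ↥M)).map (X : Subgroup ↥M).subtype)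
    (hI2 : orderOf I = 2)
    (hN : Subgroup.normalizer (((X : Subgroup M).map M.subtype : Subgroup S) : Set S) ≤ M) :
    ∀ z ∈ M, orderOf z = 2 → ∀ g : S, g⁻¹ * z * g ∈ M → g ∈ M := by
  obtain ⟨XS, hXS⟩ : ∃ XS : Subgroup S, XS = (X : Subgroup M).map M.subtype := ⟨_, rfl⟩
  rw [← hXS] at hN
  have hXSM : XS ≤ M := by rw [hXS]; exact Subgroup.map_subtype_le _
  have hXS2 : IsPGroup 2 XS := by rw [hXS]; exact X.isPGroup'.map _
  obtain ⟨c₀, hc₀, hc₀I⟩ := Subgroup.mem_map.mp hI
  have hIX : I ∈ (X : Subgroup M) := by rw [← hc₀I]; exact c₀.2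
  have hIcomm : ∀ x ∈ XS, x * (I : S) = (I : S) * x := by
    intro x hx
    rw [hXS] at hx
    obtain ⟨x', hx', rfl⟩ := Subgroup.mem_map.mp hx
    have h1 := Subgroup.mem_center_iff.mp hc₀ ⟨x', hx'⟩
    have h2 : x' * I = I * x' := by rw [← hc₀I]; exact congrArg Subtype.val h1
    exact congrArg Subtype.val h2
  have hI'2 : orderOf (I : S) = 2 := by rw [Subgroup.orderOf_coe]; exact hI2
  have factA : ∀ U : Subgroup S, IsPGroup 2 U → U ≤ M → ∃ c ∈ M, ∀ u ∈ U, c * u * c⁻¹ ∈ XS := by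
    intro U hU hUM
    have hpg : IsPGroup 2 (U.subgroupOf M) := hU.comap_subtype
    obtain ⟨R, hR⟩ := hpg.exists_le_sylow
    obtain ⟨c, hc⟩ := MulAction.exists_smul_eq M R X
    refine ⟨c, c.2, ?_⟩
    intro u hu
    have h1 : (⟨u, hUM hu⟩ : M) ∈ R := hR (by simpa [Subgroup.mem_subgroupOf] using hu)
    have h2 : c * ⟨u, hUM hu⟩ * c⁻¹ ∈ (X : Subgroup M) := by
      rw [← hc, Sylow.coe_subgroup_smul]
      exact Subgroup.smul_mem_pointwise_smul _ _ _ h1
    rw [hXS]
    exact Subgroup.mem_map.mpr ⟨_, h2, by simp⟩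
  intro z hzM hz2 g hgz
  obtain ⟨D, hD⟩ : ∃ D : Subgroup S, D = M ⊓ M.map (MulAut.conj g).toMonoidHom := ⟨_, rfl⟩
  have hmemD : ∀ y, y ∈ D ↔ y ∈ M ∧ g⁻¹ * y * g ∈ M := by
    intro y
    rw [hD, Subgroup.mem_inf]
    constructor
    · rintro ⟨h1, h2⟩
      obtain ⟨m, hm, he⟩ := Subgroup.mem_map.mp h2
      refine ⟨h1, ?_⟩
      rw [← he]
      have e : g⁻¹ * ((MulAut.conj g).toMonoidHom m) * g = m := by
        simp only [MulEquiv.coe_toMonoidHom, MulAut.conj_apply]; group
      rw [e]; exact hm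
    · rintro ⟨h1, h2⟩
      refine ⟨h1, Subgroup.mem_map.mpr ⟨g⁻¹ * y * g, h2, ?_⟩⟩
      simp only [MulEquiv.coe_toMonoidHom, MulAut.conj_apply]; group
  have hzD : z ∈ D := (hmemD z).mpr ⟨hzM, hgz⟩
  have hzp : IsPGroup 2 (Subgroup.zpowers (⟨z, hzD⟩ : D)) := by
    apply IsPGroup.of_card (n := 1)
    rw [Nat.card_zpowers, Subgroup.orderOf_mk, hz2, pow_one]
  obtain ⟨P, hP⟩ := hzp.exists_le_sylow
  obtain ⟨T, hT⟩ : ∃ T : Subgroup S, T = (P : Subgroup D).map D.subtype := ⟨_, rfl⟩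
  have hTD : T ≤ D := by rw [hT]; exact Subgroup.map_subtype_le _
  have hT2 : IsPGroup 2 T := by rw [hT]; exact P.isPGroup'.map _
  have hzT : z ∈ T := by
    rw [hT]; exact Subgroup.mem_map.mpr ⟨⟨z, hzD⟩, hP (Subgroup.mem_zpowers _), rfl⟩
  have hTmax : ∀ T' : Subgroup S, IsPGroup 2 T' → T' ≤ D → T ≤ T' → T' = T := by
    intro T' hT' hT'D hTT'
    have h1 : IsPGroup 2 (T'.subgroupOf D) := hT'.comap_subtype
    have h2 : (P : Subgroup D) ≤ T'.subgroupOf D := by
      intro y hy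
      rw [Subgroup.mem_subgroupOf]
      exact hTT' (by rw [hT]; exact Subgroup.mem_map.mpr ⟨y, hy, rfl⟩)
    have h3 := P.is_maximal' h1 h2
    rw [hT, ← h3, Subgroup.map_subgroupOf_eq_of_le hT'D]
  have hTM : T ≤ M := fun y hy => ((hmemD y).mp (hTD hy)).1
  obtain ⟨c, hcM, hc⟩ := factA T hT2 hTM
  have hTg2 : IsPGroup 2 (T.map (MulAut.conj g⁻¹).toMonoidHom) := hT2.map _
  have hTgM : T.map (MulAut.conj g⁻¹).toMonoidHom ≤ M := by
    intro y hy
    obtain ⟨u, hu, rfl⟩ := Subgroup.mem_map.mp hy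
    have := ((hmemD u).mp (hTD hu)).2
    simpa [MulAut.conj_apply] using this
  obtain ⟨c', hc'M, hc'⟩ := factA _ hTg2 hTgM
  have hc'T : ∀ u ∈ T, c' * (g⁻¹ * u * g) * c'⁻¹ ∈ XS := by
    intro u hu
    exact hc' (g⁻¹ * u * g) (Subgroup.mem_map.mpr ⟨u, hu, by simp [MulAut.conj_apply]⟩)
  -- the involution `i`
  obtain ⟨i, hi⟩ : ∃ i : S, i = c⁻¹ * (I : S) * c := ⟨_, rfl⟩
  have hiM : i ∈ M := by rw [hi]; exact M.mul_mem (M.mul_mem (M.inv_mem hcM) I.2) hcM
  have hi2 : orderOf i = 2 := by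
    have := orderOf_conj' c⁻¹ (I : S)
    rw [inv_inv] at this
    rw [hi, this]; exact hI'2
  have hicomm : ∀ u ∈ T, u * i = i * u := by
    intro u hu
    have h1 := hIcomm _ (hc u hu)
    calc u * i = c⁻¹ * ((c * u * c⁻¹) * I) * c := by rw [hi]; group
      _ = c⁻¹ * (I * (c * u * c⁻¹)) * c := by rw [h1]
      _ = i * u := by rw [hi]; group
  have hzk : z = g * (g⁻¹ * z * g) * g⁻¹ := by group
  have hk2 : orderOf (g⁻¹ * z * g) = 2 := by
    have := orderOf_conj' g⁻¹ z
    rw [inv_inv] at this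
    rw [this]; exact hz2
  have hgi : g⁻¹ * i * g ∈ M := by
    apply conj_mem_of_commute M hC hgz hk2 g i
    rw [← hzk]
    exact (hicomm z hzT).symm
  have hiD : i ∈ D := (hmemD i).mpr ⟨hiM, hgi⟩
  have hiT : i ∈ T := by
    have hTcent : T ≤ Subgroup.centralizer (Subgroup.zpowers i : Set S) := by
      intro u hu
      rw [Subgroup.mem_centralizer_iff]
      intro y hy
      obtain ⟨n, rfl⟩ := Subgroup.mem_zpowers_iff.mp hy
      exact ((Commute.zpow_right (show Commute u i from hicomm u hu) n).eq).symm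
    have hzi : IsPGroup 2 (Subgroup.zpowers i) := by
      apply IsPGroup.of_card (n := 1)
      rw [Nat.card_zpowers, hi2, pow_one]
    have hsup : IsPGroup 2 (T ⊔ Subgroup.zpowers i : Subgroup S) :=
      IsPGroup.to_sup_of_normal_right' hT2 hzi
        (le_trans hTcent (Subgroup.centralizer_le_normalizer _))
    have hsupD : T ⊔ Subgroup.zpowers i ≤ D := sup_le hTD (Subgroup.zpowers_le.mpr hiD)
    have := hTmax _ hsup hsupD le_sup_left
    rw [← this]; exact Subgroup.mem_sup_right (Subgroup.mem_zpowers i)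
  -- `X' = c⁻¹ XS c`
  have hX'mem : ∀ x ∈ XS, c⁻¹ * x * c ∈ XS.map (MulAut.conj c⁻¹).toMonoidHom :=
    fun x hx => Subgroup.mem_map.mpr ⟨x, hx, by simp [MulAut.conj_apply]⟩
  have hX'2 : IsPGroup 2 (XS.map (MulAut.conj c⁻¹).toMonoidHom) := hXS2.map _
  have hik : i = g * (g⁻¹ * i * g) * g⁻¹ := by group
  have hk2' : orderOf (g⁻¹ * i * g) = 2 := by
    have := orderOf_conj' g⁻¹ i
    rw [inv_inv] at this
    rw [this]; exact hi2
  have hX'D : XS.map (MulAut.conj c⁻¹).toMonoidHom ≤ D := by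
    intro y hy
    obtain ⟨x, hx, rfl⟩ := Subgroup.mem_map.mp hy
    simp only [MulEquiv.coe_toMonoidHom, MulAut.conj_apply, inv_inv]
    rw [hmemD]
    refine ⟨M.mul_mem (M.mul_mem (M.inv_mem hcM) (hXSM hx)) hcM, ?_⟩
    apply conj_mem_of_commute M hC hgi hk2' g
    rw [← hik]
    have h1 := hIcomm x hx
    calc c⁻¹ * x * c * i = c⁻¹ * (x * I) * c := by rw [hi]; group
      _ = c⁻¹ * (I * x) * c := by rw [h1]
      _ = i * (c⁻¹ * x * c) := by rw [hi]; group
  have hTX' : T ≤ XS.map (MulAut.conj c⁻¹).toMonoidHom := by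
    intro u hu
    have := hX'mem _ (hc u hu)
    have e : c⁻¹ * (c * u * c⁻¹) * c = u := by group
    rwa [e] at this
  have hX'T : XS.map (MulAut.conj c⁻¹).toMonoidHom = T := hTmax _ hX'2 hX'D hTX'
  have hn : c' * g⁻¹ * c⁻¹ ∈ Subgroup.normalizer (XS : Set S) := by
    apply Subgroup.mem_normalizer_fintype
    intro x hx
    have h1 : c⁻¹ * x * c ∈ T := by rw [← hX'T]; exact hX'mem x hx
    have h2 := hc'T _ h1
    have e : c' * g⁻¹ * c⁻¹ * x * (c' * g⁻¹ * c⁻¹)⁻¹
        = c' * (g⁻¹ * (c⁻¹ * x * c) * g) * c'⁻¹ := by group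
    rw [e]; exact h2
  have hnM := hN hn
  have hginv : g⁻¹ ∈ M := by
    have e : g⁻¹ = c'⁻¹ * (c' * g⁻¹ * c⁻¹) * c := by group
    rw [e]; exact M.mul_mem (M.mul_mem (M.inv_mem hc'M) hnM) hcM
  simpa using M.inv_mem hginv

end lemmas

/-- Let M be a subgroup of even order of a finite group S such that M contains the centralizer in S of each of its involutions and the normal core of M in S has odd order. Then all involutions of S are conjugate. If moreover N_S(X) ≤ M for a Sylow 2-subgroup X of M and I is an involution in the centre of X, then all involutions of M are conjugate in M and M = M₀ C_M(I) for some subgroup M₀ of M of odd order. -/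
theorem result {S : Type*} [Group S] [Finite S] (M : Subgroup S) (hM : Even (Nat.card M))
    (hC : ∀ i ∈ M, orderOf i = 2 → Subgroup.centralizer ({i} : Set S) ≤ M) (hcore : Odd (Nat.card M.normalCore)) :
    (∀ x y : S, orderOf x = 2 → orderOf y = 2 → IsConj x y) ∧
      ∀ (X : Sylow 2 M) (I : M), I ∈ (Subgroup.center ↥(X : Subgroup ↥M)).map (X : Subgroup ↥M).subtype → orderOf I = 2 →
        Subgroup.normalizer (((X : Subgroup M).map M.subtype : Subgroup S) : Set S) ≤ M →
        (∀ x y : M, orderOf x = 2 → orderOf y = 2 → IsConj x y) ∧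
          ∃ M₀ : Subgroup M, Odd (Nat.card M₀) ∧
            ∀ m : M, ∃ a ∈ M₀, ∃ c ∈ Subgroup.centralizer ({I} : Set M), m = a * c := by
  have hp1 := part1 M hM hC hcore
  refine ⟨hp1, ?_⟩
  intro X I hI hI2 hN
  have SE := strongly_embedded M hC X I hI hI2 hN
  have hI'2 : orderOf (I : S) = 2 := by rw [Subgroup.orderOf_coe]; exact hI2
  refine ⟨?_, ?_⟩
  · intro x y hx hy
    have hx' : orderOf (x : S) = 2 := by rw [Subgroup.orderOf_coe]; exact hx
    have hy' : orderOf (y : S) = 2 := by rw [Subgroup.orderOf_coe]; exact hy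
    obtain ⟨g, hg⟩ := isConj_iff.mp (hp1 x y hx' hy')
    have hgM : g ∈ M := by
      apply SE (y : S) y.2 hy' g
      rw [← hg]
      have e : g⁻¹ * (g * (x : S) * g⁻¹) * g = x := by group
      rw [e]; exact x.2
    rw [isConj_iff]
    refine ⟨⟨g, hgM⟩, ?_⟩
    apply Subtype.ext
    simpa using hg
  · obtain ⟨t, ht2, htM⟩ := exists_involution_not_mem M hM hcore
    have htt : t * t = 1 := mul_self_of_orderOf_two ht2
    have htinv : t⁻¹ = t := inv_eq_self_of_mul_self htt
    refine ⟨(M ⊓ M.map (MulAut.conj t).toMonoidHom).subgroupOf M, ?_, ?_⟩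
    · -- odd order
      rw [← Nat.not_even_iff_odd, even_iff_two_dvd]
      intro h2
      obtain ⟨y, hy⟩ := exists_prime_orderOf_dvd_card'
        (G := ((M ⊓ M.map (MulAut.conj t).toMonoidHom).subgroupOf M : Subgroup M)) 2 h2
      have hy' : orderOf ((y : M) : S) = 2 := by
        rw [Subgroup.orderOf_coe, Subgroup.orderOf_coe]; exact hy
      have hymem := y.2
      rw [Subgroup.mem_subgroupOf, Subgroup.mem_inf] at hymem
      obtain ⟨m, hm, he⟩ := Subgroup.mem_map.mp hymem.2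
      apply htM
      apply SE _ hymem.1 hy' t
      rw [← he]
      have e : t⁻¹ * ((MulAut.conj t).toMonoidHom m) * t = m := by
        simp only [MulEquiv.coe_toMonoidHom, MulAut.conj_apply]; group
      rw [e]; exact hm
    · intro m
      -- z' = m I m⁻¹
      have hz'M : (m : S) * (I : S) * (m : S)⁻¹ ∈ M := (m * I * m⁻¹).2
      have hz'2 : orderOf ((m : S) * (I : S) * (m : S)⁻¹) = 2 := by
        rw [orderOf_conj']; exact hI'2
      -- b = t z' t⁻¹ ∉ M
      have hb2 : orderOf (t * ((m : S) * (I : S) * (m : S)⁻¹) * t⁻¹) = 2 := by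
        rw [orderOf_conj']; exact hz'2
      have hbM : t * ((m : S) * (I : S) * (m : S)⁻¹) * t⁻¹ ∉ M := by
        intro hb
        apply htM
        apply SE _ hb hb2 t
        have e : t⁻¹ * (t * ((m : S) * (I : S) * (m : S)⁻¹) * t⁻¹) * t
            = (m : S) * (I : S) * (m : S)⁻¹ := by group
        rw [e]; exact hz'M
      have hodd := odd_order_mul M hC I.2 hI'2 hbM hb2
      obtain ⟨k, hk⟩ := hodd
      have hpow : ((I : S) * (t * ((m : S) * (I : S) * (m : S)⁻¹) * t⁻¹)) ^ (2 * k + 1) = 1 := by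
        rw [← hk]; exact pow_orderOf_eq_one _
      obtain ⟨hr1, hr2⟩ := exists_swap_of_odd (I : S) _ (mul_self_of_orderOf_two hI'2)
        (mul_self_of_orderOf_two hb2) k hpow
      obtain ⟨r, hr⟩ : ∃ r : S, r = (I : S) *
          ((I : S) * (t * ((m : S) * (I : S) * (m : S)⁻¹) * t⁻¹)) ^ (k + 1) := ⟨_, rfl⟩
      rw [← hr] at hr1 hr2
      have hrinv : r⁻¹ = r := inv_eq_self_of_mul_self hr1
      -- r t ∈ M
      have hrtM : r * t ∈ M := by
        apply SE (I : S) I.2 hI'2 (r * t)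
        have e : (r * t)⁻¹ * (I : S) * (r * t) = t⁻¹ * (r * (I : S) * r) * t := by
          rw [mul_inv_rev, hrinv]; group
        rw [e, hr2]
        have e2 : t⁻¹ * (t * ((m : S) * (I : S) * (m : S)⁻¹) * t⁻¹) * t
            = (m : S) * (I : S) * (m : S)⁻¹ := by group
        rw [e2]; exact hz'M
      -- d = t r
      have hdconj : (t * r) * (I : S) * (t * r)⁻¹ = (m : S) * (I : S) * (m : S)⁻¹ := by
        have e : (t * r) * (I : S) * (t * r)⁻¹ = t * (r * (I : S) * r) * t⁻¹ := by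
          rw [mul_inv_rev, hrinv]; group
        rw [e, hr2]
        rw [htinv]
        calc t * (t * ((m : S) * (I : S) * (m : S)⁻¹) * t) * t
            = (t * t) * ((m : S) * (I : S) * (m : S)⁻¹) * (t * t) := by group
          _ = (m : S) * (I : S) * (m : S)⁻¹ := by rw [htt, one_mul, mul_one]
      have hdM : t * r ∈ M := by
        apply SE _ hz'M hz'2 (t * r)
        rw [← hdconj]
        have e : (t * r)⁻¹ * ((t * r) * (I : S) * (t * r)⁻¹) * (t * r) = (I : S) := by group
        rw [e]; exact I.2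
      have hdmap : t * r ∈ M.map (MulAut.conj t).toMonoidHom := by
        refine Subgroup.mem_map.mpr ⟨r * t, hrtM, ?_⟩
        simp only [MulEquiv.coe_toMonoidHom, MulAut.conj_apply]
        rw [htinv]
        calc t * (r * t) * t = t * r * (t * t) := by group
          _ = t * r := by rw [htt, mul_one]
      refine ⟨⟨t * r, hdM⟩, ?_, (⟨t * r, hdM⟩ : M)⁻¹ * m, ?_, ?_⟩
      · rw [Subgroup.mem_subgroupOf]
        exact Subgroup.mem_inf.mpr ⟨hdM, hdmap⟩
      · rw [Subgroup.mem_centralizer_singleton_iff]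
        apply Subtype.ext
        simp only [Subgroup.coe_mul, Subgroup.coe_inv]
        -- (d⁻¹ m) I = I (d⁻¹ m)
        have h1 : (m : S) * (I : S) = (t * r) * (I : S) * (t * r)⁻¹ * (m : S) := by
          rw [hdconj]; group
        calc (t * r)⁻¹ * (m : S) * (I : S) = (t * r)⁻¹ * ((m : S) * (I : S)) := by group
          _ = (t * r)⁻¹ * ((t * r) * (I : S) * (t * r)⁻¹ * (m : S)) := by rw [h1]
          _ = (I : S) * ((t * r)⁻¹ * (m : S)) := by group
      · group

end Cfsg.Agent.S1905
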