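import Cfsg.Statements.S1906
import Cfsg.Agent.Lib.Helper8_S1906_L1
import Cfsg.Agent.Lib.Helper73_S1906_L2
import Cfsg.Agent.Lib.Helper24_S1906_N
import Cfsg.Agent.Lib.Helper52_S1906_T
import Cfsg.Agent.Lib.Helper32_PGroup

set_option autoImplicit false
open Cfsg

namespace Cfsg.Agent.S1906

open Cfsg.Agent.Lib.Helper8_S1906_L1 Cfsg.Agent.Lib.Helper73_S1906_L2 Cfsg.Agent.Lib.Helper24_S1906_N
  Cfsg.Agent.Lib.Helper52_S1906_T
open scoped commutatorElement

/-- the data produced by the linear algebra: a linear character `lam` of `X0`, a central involution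
`c` with `lam c = -1`, and at most one central involution in the kernel of `lam`. -/
theorem lin_data {X0 : Type*} [Group X0] [Finite X0] (hX : IsPGroup 2 X0)
    {F : Type*} [Field F] [Fintype F] (hF : Odd (Fintype.card F))
    (f : X0 →* GL (Fin 3) F) (hf : Function.Injective f)
    (E : Subgroup X0) (hEc : ∀ a ∈ E, ∀ b ∈ E, a * b = b * a) (hE2 : ∀ a ∈ E, a ^ 2 = 1)
    (hE8 : Nat.card E = 8) (hnc : ∃ a b : X0, a * b ≠ b * a) :
    ∃ (lam : X0 →* Fˣ) (c : X0), c ∈ Subgroup.center X0 ∧ c ^ 2 = 1 ∧ lam c = -1 ∧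
      ∀ m z : X0, m ∈ Subgroup.center X0 → z ∈ Subgroup.center X0 → m ^ 2 = 1 → z ^ 2 = 1 →
        lam m = 1 → lam z = 1 → m ≠ 1 → z ≠ 1 → m = z := by
  obtain ⟨P, hP⟩ := exists_block_form hX hF f
  let g : X0 →* GL (Fin 3) F := (MulAut.conj P).toMonoidHom.comp f
  have hgx : ∀ x, g x = P * f x * P⁻¹ := fun x => rfl
  have hg : Function.Injective g := by
    intro a b hab
    apply hf
    have := hab
    rw [hgx, hgx] at this
    have h1 : P⁻¹ * (P * f a * P⁻¹) * P = P⁻¹ * (P * f b * P⁻¹) * P := by rw [this]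
    simpa [mul_assoc] using h1
  exact lin_data_of_block hF g hg (fun x => by rw [hgx]; exact hP x) E hEc hE2 hE8 hnc

/-- Let G be a finite group with no subgroup of index 2 whose Sylow 2-subgroup X embeds in GL₃(F) for a finite field F of odd order. If X contains an elementary abelian subgroup of order 8, then X is abelian. -/
theorem result {G : Type*} [Group G] [Finite G] (hG : ∀ H : Subgroup G, H.index ≠ 2) (X : Sylow 2 G)
    {F : Type*} [Field F] [Fintype F] (hF : Odd (Fintype.card F))
    (f : ↥(X : Subgroup G) →* GL (Fin 3) F) (hf : Function.Injective f)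
    (E : Subgroup G) (hE : E ≤ (X : Subgroup G)) (hEa : Cfsg.IsElementaryAbelian 2 E) (hE8 : Nat.card E = 8) :
    IsMulCommutative (X : Subgroup G) := by
  by_contra hncX
  have hnc : ∃ a b : ↥(X : Subgroup G), a * b ≠ b * a := by
    by_contra hcon
    push Not at hcon
    exact hncX ⟨⟨hcon⟩⟩
  -- the elementary abelian subgroup inside X
  let E' : Subgroup ↥(X : Subgroup G) := E.subgroupOf (X : Subgroup G)
  have hE'card : Nat.card E' = 8 := by
    rw [← hE8]
    exact Nat.card_congr (Subgroup.subgroupOfEquivOfLe hE).toEquiv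
  have hE'c : ∀ a ∈ E', ∀ b ∈ E', a * b = b * a := by
    intro a ha b hb
    have hcomm := hEa.1
    have h1 : (⟨(a : G), ha⟩ : E) * ⟨(b : G), hb⟩ = ⟨(b : G), hb⟩ * ⟨(a : G), ha⟩ :=
      hcomm.is_comm.comm _ _
    have h2 := congrArg Subtype.val h1
    exact Subtype.ext h2
  have hE'2 : ∀ a ∈ E', a ^ 2 = 1 := by
    intro a ha
    have := hEa.2 (a : G) ha
    exact Subtype.ext (by simpa using this)
  have hXp : IsPGroup 2 ↥(X : Subgroup G) := X.isPGroup'
  obtain ⟨lam, c, hcZ, hc2, hlc, huniq⟩ := lin_data hXp hF f hf E' hE'c hE'2 hE'card hnc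
  -- F has odd characteristic: -1 ≠ 1 in Fˣ
  have hneg : (-1 : Fˣ) ≠ 1 := by
    intro h
    have h1 : ((-1 : Fˣ) : F) = 1 := by rw [h]; rfl
    have h2 : (2 : F) = 0 := by
      have : (-1 : F) = 1 := by simpa using h1
      linear_combination -this
    have hchar : ringChar F ∣ 2 := (ringChar.spec F 2).mp (by exact_mod_cast h2)
    have hcard : ringChar F ∣ Fintype.card F := by
      have := FiniteField.card F (ringChar F)
      obtain ⟨n, hp, hn⟩ := this
      rw [hn]
      exact dvd_pow_self _ n.ne_zero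
    have hp : (ringChar F).Prime := CharP.char_is_prime F (ringChar F)
    have h2' : ringChar F = 2 := (Nat.prime_dvd_prime_iff_eq hp Nat.prime_two).1 hchar
    rw [h2'] at hcard
    exact (Nat.not_even_iff_odd.mpr hF) (even_iff_two_dvd.mpr hcard)
  -- the transfer is trivial
  have htr := transfer_eq_one_of_no_index_two hG X lam (c : G)
  have hA : ∀ a b : Fˣ, a ^ 2 = 1 → b ^ 2 = 1 → a ≠ 1 → b ≠ 1 → a = b := by
    intro a b ha hb ha1 hb1
    have key : ∀ u : Fˣ, u ^ 2 = 1 → u ≠ 1 → u = -1 := by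
      intro u hu hu1
      have h1 : ((u : F) - 1) * ((u : F) + 1) = 0 := by
        have : ((u ^ 2 : Fˣ) : F) = 1 := by rw [hu]; rfl
        push_cast at this
        linear_combination this
      rcases mul_eq_zero.mp h1 with h | h
      · exfalso; apply hu1; ext; simpa [sub_eq_zero] using h
      · ext; push_cast; linear_combination h
    rw [key a ha ha1, key b hb hb1]
  obtain ⟨x, v, hvx, hvZ, hlv⟩ :=
    exists_central_conj_of_transfer_eq_one X hA lam c hcZ hc2 htr
  -- Burnside's fusion lemma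
  have hcC : (c : G) ∈ Subgroup.centralizer ((X : Subgroup G) : Set G) := by
    rw [Subgroup.mem_centralizer_iff]
    intro k hk
    have := Subgroup.mem_center_iff.mp hcZ ⟨k, hk⟩
    exact congrArg Subtype.val this
  have hvC : x⁻¹ * (c : G) * x ∈ Subgroup.centralizer ((X : Subgroup G) : Set G) := by
    rw [← hvx, Subgroup.mem_centralizer_iff]
    intro k hk
    have := Subgroup.mem_center_iff.mp hvZ ⟨k, hk⟩
    exact congrArg Subtype.val this
  obtain ⟨n, hn, hnc'⟩ := Sylow.conj_eq_normalizer_conj_of_mem_centralizer X (c : G) x hcC hvC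
  -- an involution z' in X' ∩ Z(X)
  have hcomm_ne : commutator ↥(X : Subgroup G) ≠ ⊥ := by
    intro hbot
    obtain ⟨a, b, hab⟩ := hnc
    apply hab
    have hm : ⁅a, b⁆ ∈ commutator ↥(X : Subgroup G) :=
      Subgroup.commutator_mem_commutator (Subgroup.mem_top a) (Subgroup.mem_top b)
    rw [hbot, Subgroup.mem_bot, commutatorElement_eq_one_iff_mul_comm] at hm
    exact hm
  have hK := Cfsg.Agent.Lib.Helper32_PGroup.normal_inf_center_ne_bot hXp
    (commutator ↥(X : Subgroup G)) hcomm_ne
  have hKp : IsPGroup 2 ↥(commutator ↥(X : Subgroup G) ⊓ Subgroup.center ↥(X : Subgroup G)) :=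
    hXp.to_subgroup _
  have hKnt : Nontrivial ↥(commutator ↥(X : Subgroup G) ⊓ Subgroup.center ↥(X : Subgroup G)) :=
    (Subgroup.nontrivial_iff_ne_bot _).mpr hK
  have h2dvd : 2 ∣ Nat.card ↥(commutator ↥(X : Subgroup G) ⊓ Subgroup.center ↥(X : Subgroup G)) := by
    obtain ⟨k, hk⟩ := hKp.exists_card_eq
    rw [hk]
    rcases Nat.eq_zero_or_pos k with h0 | h0
    · exfalso
      rw [h0, pow_zero] at hk
      have := Finite.one_lt_card_iff_nontrivial.mpr hKnt
      omega
    · exact dvd_pow_self 2 h0.ne'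
  obtain ⟨z', hz'⟩ := exists_prime_orderOf_dvd_card' 2 h2dvd
  have hz'mem := z'.2
  have hz'1 : (z' : ↥(X : Subgroup G)) ≠ 1 := by
    intro h
    have : z' = 1 := Subtype.ext h
    rw [this, orderOf_one] at hz'
    omega
  have hz'2 : (z' : ↥(X : Subgroup G)) ^ 2 = 1 := by
    have := pow_orderOf_eq_one z'
    rw [hz'] at this
    exact congrArg Subtype.val this
  have hz'lam : lam (z' : ↥(X : Subgroup G)) = 1 := by
    have := Abelianization.commutator_subset_ker lam hz'mem.1
    exact MonoidHom.mem_ker.mp this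
  -- v is an involution
  have hv2 : v ^ 2 = 1 := by
    apply Subtype.ext
    push_cast
    rw [hvx]
    have hc2' : (c : G) ^ 2 = 1 := by
      have := congrArg Subtype.val hc2
      simpa using this
    calc (x⁻¹ * (c : G) * x) ^ 2 = x⁻¹ * (c : G) ^ 2 * x := by
          rw [pow_two, pow_two]; group
      _ = 1 := by rw [hc2']; group
  have hc1 : c ≠ 1 := by
    intro h
    rw [h, map_one] at hlc
    exact hneg hlc.symm
  have hv1 : v ≠ 1 := by
    intro h
    apply hc1
    apply Subtype.ext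
    have h1 : (v : G) = 1 := by rw [h]; rfl
    rw [hvx] at h1
    have : (c : G) = x * (x⁻¹ * (c : G) * x) * x⁻¹ := by group
    rw [this, h1]
    simp
  have hvz : v = (z' : ↥(X : Subgroup G)) :=
    huniq v z' hvZ hz'mem.2 hv2 hz'2 hlv hz'lam hv1 hz'1
  -- conjugation by n as an endomorphism of X
  have hnX : ∀ y : G, y ∈ (X : Subgroup G) → n * y * n⁻¹ ∈ (X : Subgroup G) := by
    intro y hy
    exact (Subgroup.mem_normalizer_iff.mp hn y).mp hy
  let φ : ↥(X : Subgroup G) →* ↥(X : Subgroup G) :=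
    MonoidHom.mk' (fun y => ⟨n * (y : G) * n⁻¹, hnX y y.2⟩) (by
      intro a b
      apply Subtype.ext
      push_cast
      group)
  have hφv : φ v = c := by
    apply Subtype.ext
    change n * (v : G) * n⁻¹ = (c : G)
    rw [hvx, hnc']
    group
  have hμ : (lam.comp φ) v = 1 := by
    have hvcomm : v ∈ commutator ↥(X : Subgroup G) := by rw [hvz]; exact hz'mem.1
    have := Abelianization.commutator_subset_ker (lam.comp φ) hvcomm
    exact MonoidHom.mem_ker.mp this
  rw [MonoidHom.comp_apply, hφv, hlc] at hμ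
  exact hneg hμ

end Cfsg.Agent.S1906
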