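import Mathlib
import Cfsg.Statements.S1907
import Cfsg.Agent.Lib.Helper32_Sylow
import Cfsg.Agent.Lib.Helper32_Cores

set_option autoImplicit false
open Cfsg

namespace Cfsg.Agent.S1907

open Cfsg.Agent.Lib.Helper32_Sylow Cfsg.Agent.Lib.Helper32_Cores

variable {G : Type*} [Group G] {p : ℕ}

theorem pPrimePCore_normal' : (Cfsg.pPrimePCore p G).Normal := by
  unfold Cfsg.pPrimePCore
  infer_instance

theorem pPrimeCore_le_pPrimePCore : Cfsg.pPrimeCore p G ≤ Cfsg.pPrimePCore p G := by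
  intro x hx
  unfold Cfsg.pPrimePCore
  rw [Subgroup.mem_comap]
  have : QuotientGroup.mk' (Cfsg.pPrimeCore p G) x = 1 := by
    rw [← MonoidHom.mem_ker, QuotientGroup.ker_mk']; exact hx
  rw [this]; exact one_mem _

theorem pCore_isPGroup' [Fact p.Prime] (G : Type*) [Group G] : IsPGroup p (Cfsg.pCore p G) :=
  Sylow.sSup_of_normal _ (fun _ hH => hH.2) (fun _ hH => hH.1)

/-- `O_{p',p}(G) = O_{p'}(G) (P ∩ O_{p',p}(G))`. -/
theorem exists_mul_of_mem_pPrimePCore [Finite G] [Fact p.Prime] (P : Sylow p G) {k : G} (hk : k ∈ Cfsg.pPrimePCore p G) :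
    ∃ d ∈ Cfsg.pPrimeCore p G, ∃ h ∈ (P : Subgroup G) ⊓ Cfsg.pPrimePCore p G, k = d * h := by
  set D := Cfsg.pPrimeCore p G with hD
  have hk' : QuotientGroup.mk' D k ∈ Cfsg.pCore p (G ⧸ D) := hk
  let Pbar : Sylow p (G ⧸ D) := P.mapSurjective (QuotientGroup.mk'_surjective D)
  have hle : Cfsg.pCore p (G ⧸ D) ≤ (Pbar : Subgroup (G ⧸ D)) :=
    (pCore_isPGroup' (G ⧸ D)).le_sylow_of_normal Pbar
  have h1 : QuotientGroup.mk' D k ∈ (P : Subgroup G).map (QuotientGroup.mk' D) := by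
    have := hle hk'
    rwa [Sylow.coe_mapSurjective] at this
  obtain ⟨x, hxP, hxk⟩ := h1
  have h2 : x⁻¹ * k ∈ D := by
    rw [← QuotientGroup.eq]
    exact hxk
  have hDK : D ≤ Cfsg.pPrimePCore p G := pPrimeCore_le_pPrimePCore
  have hxK : x ∈ Cfsg.pPrimePCore p G := by
    have : x = k * (x⁻¹ * k)⁻¹ := by group
    rw [this]
    exact (Cfsg.pPrimePCore p G).mul_mem hk ((Cfsg.pPrimePCore p G).inv_mem (hDK h2))
  refine ⟨x * (x⁻¹ * k) * x⁻¹, Subgroup.Normal.conj_mem inferInstance _ h2 x, x, ⟨hxP, hxK⟩, by group⟩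

theorem sylow_le_normalizer_inf (P : Sylow p G) (K : Subgroup G) [K.Normal] :
    (P : Subgroup G) ≤ Subgroup.normalizer (((P : Subgroup G) ⊓ K : Subgroup G) : Set G) := by
  intro g hg
  rw [Subgroup.mem_normalizer_iff]
  intro h
  rw [Subgroup.mem_inf, Subgroup.mem_inf]
  constructor
  · rintro ⟨h1, h2⟩
    exact ⟨(P : Subgroup G).mul_mem ((P : Subgroup G).mul_mem hg h1) ((P : Subgroup G).inv_mem hg),
      Subgroup.Normal.conj_mem inferInstance _ h2 g⟩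
  · rintro ⟨h1, h2⟩
    constructor
    · have : h = g⁻¹ * (g * h * g⁻¹) * g := by group
      rw [this]
      exact (P : Subgroup G).mul_mem ((P : Subgroup G).mul_mem ((P : Subgroup G).inv_mem hg) h1) hg
    · have : h = g⁻¹ * (g * h * g⁻¹) * g⁻¹⁻¹ := by group
      rw [this]
      exact Subgroup.Normal.conj_mem inferInstance _ h2 g⁻¹

/-- elements of `O_{p'}(G)` normalizing a `p`-subgroup centralize it -/
theorem mem_centralizer_of_mem_normalizer [Finite G] [Fact p.Prime] {D H : Subgroup G} [D.Normal] (hD : (Nat.card D).Coprime p)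
    (hH : IsPGroup p H) {c : G} (hcD : c ∈ D) (hcN : c ∈ Subgroup.normalizer (H : Set G)) :
    c ∈ Subgroup.centralizer (H : Set G) := by
  rw [Subgroup.mem_centralizer_iff]
  intro h hh
  have hHD : H ⊓ D = ⊥ := inf_eq_bot_of_pgroup_of_coprime hH hD
  have h1 : c * h * c⁻¹ ∈ H := (Subgroup.mem_normalizer_iff.mp hcN h).mp hh
  have h2 : c * h * c⁻¹ * h⁻¹ ∈ H := H.mul_mem h1 (H.inv_mem hh)
  have h3 : c * h * c⁻¹ * h⁻¹ ∈ D := by
    have : c * h * c⁻¹ * h⁻¹ = c * (h * c⁻¹ * h⁻¹) := by group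
    rw [this]
    exact D.mul_mem hcD (Subgroup.Normal.conj_mem inferInstance _ (D.inv_mem hcD) h)
  have h4 : c * h * c⁻¹ * h⁻¹ ∈ H ⊓ D := ⟨h2, h3⟩
  rw [hHD, Subgroup.mem_bot] at h4
  calc h * c = (c * h * c⁻¹ * h⁻¹)⁻¹ * (c * h) := by group
    _ = c * h := by rw [h4]; group

theorem card_subgroupOf_coprime {D N : Subgroup G} (hD : (Nat.card D).Coprime p) :
    (Nat.card (D.subgroupOf N)).Coprime p := by
  have h1 : D.subgroupOf N = (D ⊓ N).subgroupOf N := (Subgroup.inf_subgroupOf_right D N).symm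
  have h2 : Nat.card ((D ⊓ N).subgroupOf N) = Nat.card (D ⊓ N : Subgroup G) :=
    Nat.card_congr (Subgroup.subgroupOfEquivOfLe inf_le_right).toEquiv
  rw [h1, h2]
  exact Nat.Coprime.coprime_dvd_left (Subgroup.card_dvd_of_le inf_le_left) hD

theorem part_a [Finite G] [Fact p.Prime] (P : Sylow p G) :
    ∀ y ∈ Subgroup.normalizer (((P : Subgroup G) ⊓ Cfsg.pPrimePCore p G : Subgroup G) : Set G), (∃ k : ℕ, orderOf y = p ^ k) →
      ∀ d ∈ Cfsg.pPrimeCore p G, d⁻¹ * y * d ∈ Subgroup.normalizer (((P : Subgroup G) ⊓ Cfsg.pPrimePCore p G : Subgroup G) : Set G) →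
        ∃ d₁ ∈ Cfsg.pPrimeCore p G ⊓ Subgroup.centralizer ({y} : Set G),
          ∃ d₂ ∈ Cfsg.pPrimeCore p G ⊓ Subgroup.centralizer (((P : Subgroup G) ⊓ Cfsg.pPrimePCore p G : Subgroup G) : Set G), d = d₁ * d₂ := by
  intro y hy hyk d hd hy'
  obtain ⟨k, hk⟩ := hyk
  set D := Cfsg.pPrimeCore p G with hD
  set H : Subgroup G := (P : Subgroup G) ⊓ Cfsg.pPrimePCore p G with hH
  set N := Subgroup.normalizer (H : Set G) with hN
  have hDc : (Nat.card D).Coprime p := card_pPrimeCore_coprime p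
  have hHp : IsPGroup p H := P.isPGroup'.to_le inf_le_left
  have hCc : (Nat.card (D.subgroupOf N)).Coprime p := card_subgroupOf_coprime hDc
  have hyp : y ^ (p ^ k) = 1 := by rw [← hk]; exact pow_orderOf_eq_one y
  have hy'p : (d⁻¹ * y * d) ^ (p ^ k) = 1 := by
    have : d⁻¹ * y * d = d⁻¹ * y * d⁻¹⁻¹ := by group
    rw [this, conj_pow, hyp]; group
  have hmem : (⟨y, hy⟩ : N)⁻¹ * ⟨d⁻¹ * y * d, hy'⟩ ∈ D.subgroupOf N := by
    rw [Subgroup.mem_subgroupOf]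
    show y⁻¹ * (d⁻¹ * y * d) ∈ D
    have : y⁻¹ * (d⁻¹ * y * d) = (y⁻¹ * d⁻¹ * y⁻¹⁻¹) * d := by group
    rw [this]
    exact D.mul_mem (Subgroup.Normal.conj_mem inferInstance _ (D.inv_mem hd) _) hd
  obtain ⟨c, hcC, hc⟩ := conj_of_mem_coset_coprime_normal (D.subgroupOf N) hCc
    (⟨y, hy⟩ : N) ⟨d⁻¹ * y * d, hy'⟩ k (Subtype.ext (by simpa using hyp))
    (Subtype.ext (by simpa using hy'p)) hmem
  have hcD : (c : G) ∈ D := Subgroup.mem_subgroupOf.mp hcC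
  have hc' : (c : G) * (d⁻¹ * y * d) * (c : G)⁻¹ = y := by
    have := congrArg Subtype.val hc
    simpa using this
  refine ⟨d * (c : G)⁻¹, Subgroup.mem_inf.mpr ⟨D.mul_mem hd (D.inv_mem hcD), ?_⟩, (c : G),
    Subgroup.mem_inf.mpr ⟨hcD, mem_centralizer_of_mem_normalizer hDc hHp hcD c.2⟩, by group⟩
  rw [Subgroup.mem_centralizer_singleton_iff]
  calc d * (c : G)⁻¹ * y = d * (c : G)⁻¹ * ((c : G) * (d⁻¹ * y * d) * (c : G)⁻¹) := by rw [hc']
    _ = y * (d * (c : G)⁻¹) := by group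

/-- Let P be a Sylow p-subgroup of a finite group G, H = P ∩ O_{p',p}(G), N = N_G(H) and D = O_{p'}(G). (a) If y is an element of p-power order of N and d ∈ D with d⁻¹ y d ∈ N, then d = d₁ d₂ with d₁ ∈ C_D(y) and d₂ ∈ C_D(H). (b) Two elements of P that are conjugate in G are conjugate in N. -/
theorem result {G : Type*} [Group G] [Finite G] {p : ℕ} [Fact p.Prime] (P : Sylow p G) :
    (∀ y ∈ Subgroup.normalizer (((P : Subgroup G) ⊓ Cfsg.pPrimePCore p G : Subgroup G) : Set G), (∃ k : ℕ, orderOf y = p ^ k) →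
      ∀ d ∈ Cfsg.pPrimeCore p G, d⁻¹ * y * d ∈ Subgroup.normalizer (((P : Subgroup G) ⊓ Cfsg.pPrimePCore p G : Subgroup G) : Set G) →
        ∃ d₁ ∈ Cfsg.pPrimeCore p G ⊓ Subgroup.centralizer ({y} : Set G),
          ∃ d₂ ∈ Cfsg.pPrimeCore p G ⊓ Subgroup.centralizer (((P : Subgroup G) ⊓ Cfsg.pPrimePCore p G : Subgroup G) : Set G), d = d₁ * d₂) ∧
    ∀ x y : G, x ∈ (P : Subgroup G) → y ∈ (P : Subgroup G) → IsConj x y →
      ∃ n ∈ Subgroup.normalizer (((P : Subgroup G) ⊓ Cfsg.pPrimePCore p G : Subgroup G) : Set G), n * x * n⁻¹ = y := by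
  refine ⟨part_a P, ?_⟩
  intro x y hx hy hxy
  have : (Cfsg.pPrimePCore p G).Normal := pPrimePCore_normal'
  set D := Cfsg.pPrimeCore p G with hD
  set H : Subgroup G := (P : Subgroup G) ⊓ Cfsg.pPrimePCore p G with hH
  set N := Subgroup.normalizer (H : Set G) with hN
  have hPN : (P : Subgroup G) ≤ N := sylow_le_normalizer_inf P _
  obtain ⟨g, hg⟩ := isConj_iff.mp hxy
  obtain ⟨k₀, hk₀, n, hn, hgkn⟩ := frattini_inf P (Cfsg.pPrimePCore p G) g
  obtain ⟨d, hd, h, hh, hk₀dh⟩ := exists_mul_of_mem_pPrimePCore P hk₀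
  have hHN : H ≤ N := Subgroup.le_normalizer
  set n' := h * n with hn'
  have hn'N : n' ∈ N := N.mul_mem (hHN hh) hn
  set x' := n' * x * n'⁻¹ with hx'
  have hx'N : x' ∈ N := N.mul_mem (N.mul_mem hn'N (hPN hx)) (N.inv_mem hn'N)
  have hyx' : y = d * x' * d⁻¹ := by
    rw [← hg, hgkn, hk₀dh, hx', hn']; group
  obtain ⟨k, hk⟩ := (IsPGroup.iff_orderOf.mp P.isPGroup') ⟨x, hx⟩
  have hox' : orderOf x' = p ^ k := by
    have hsc : SemiconjBy n' x x' := by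
      show n' * x = x' * n'
      rw [hx']; group
    rw [← hsc.orderOf_eq, ← hk, Subgroup.orderOf_mk]
  have hdN : d⁻¹⁻¹ * x' * d⁻¹ ∈ N := by
    rw [inv_inv, ← hyx']; exact hPN hy
  obtain ⟨d₁, hd₁, d₂, hd₂, hdd⟩ := part_a P x' hx'N ⟨k, hox'⟩ d⁻¹ (D.inv_mem hd) hdN
  have hd₁c : d₁ * x' = x' * d₁ := Subgroup.mem_centralizer_singleton_iff.mp hd₁.2
  have hd₂N : d₂ ∈ N := Subgroup.centralizer_le_normalizer _ hd₂.2
  refine ⟨d₂⁻¹ * n', N.mul_mem (N.inv_mem hd₂N) hn'N, ?_⟩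
  have hd' : d = d₂⁻¹ * d₁⁻¹ := by
    have := congrArg (fun t => t⁻¹) hdd
    simpa using this
  rw [hyx', hd']
  calc d₂⁻¹ * n' * x * (d₂⁻¹ * n')⁻¹ = d₂⁻¹ * x' * d₂ := by rw [hx']; group
    _ = d₂⁻¹ * (d₁⁻¹ * (d₁ * x')) * d₂ := by group
    _ = d₂⁻¹ * (d₁⁻¹ * (x' * d₁)) * d₂ := by rw [hd₁c]
    _ = d₂⁻¹ * d₁⁻¹ * x' * (d₂⁻¹ * d₁⁻¹)⁻¹ := by group

end Cfsg.Agent.S1907
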