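import Cfsg.Statements.S1910
import Cfsg.Agent.Lib.Helper48_SPE
import Cfsg.Agent.Lib.Helper48_PMinimal
import Cfsg.Agent.Lib.Helper48_Tight

set_option autoImplicit false
open Cfsg
open scoped Pointwise

namespace Cfsg.Agent.S1910

/-- Let Q be a tightly embedded subgroup of a finite group G, g an element outside N_G(Q), T a nontrivial Sylow 2-subgroup of Q^g ∩ N_G(Q), and S a Sylow 2-subgroup of QT containing T. Then T ∩ Q = 1, and N_S(T) is the direct product of T and N_S(T) ∩ Q, with N_S(T) ∩ Q isomorphic to T. -/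
theorem result {G : Type*} [Group G] [Finite G] (Q : Subgroup G) (hQ : Cfsg.IsTightlyEmbedded Q)
    (g : G) (hg : g ∉ Subgroup.normalizer (Q : Set G))
    (T : Subgroup G) (hT1 : T ≠ ⊥) (hT : T ≤ Q.map (MulAut.conj g).toMonoidHom ⊓ Subgroup.normalizer (Q : Set G))
    (hTsyl : IsPGroup 2 T ∧ ¬ 2 ∣ T.relIndex (Q.map (MulAut.conj g).toMonoidHom ⊓ Subgroup.normalizer (Q : Set G)))
    (S : Subgroup G) (hTS : T ≤ S) (hS : S ≤ Q ⊔ T) (hSsyl : IsPGroup 2 S ∧ ¬ 2 ∣ S.relIndex (Q ⊔ T)) :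
    T ⊓ Q = ⊥ ∧
      T ⊓ (S ⊓ Subgroup.normalizer (T : Set G) ⊓ Q) = ⊥ ∧
      ⁅T, S ⊓ Subgroup.normalizer (T : Set G) ⊓ Q⁆ = ⊥ ∧
      T ⊔ (S ⊓ Subgroup.normalizer (T : Set G) ⊓ Q) = S ⊓ Subgroup.normalizer (T : Set G) ∧
      Nonempty (↥(S ⊓ Subgroup.normalizer (T : Set G) ⊓ Q) ≃* T) := by
  have hT' : Cfsg.Agent.Lib.Helper48_SPE.IsSylowIn 2 T
      (MulAut.conj g • Q ⊓ Subgroup.normalizer (Q : Set G)) :=
    Cfsg.Agent.Lib.Helper48_PMinimal.isSylowIn_of_not_dvd_relIndex hT hTsyl.1 hTsyl.2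
  have hS' : Cfsg.Agent.Lib.Helper48_SPE.IsSylowIn 2 S (Q ⊔ T) :=
    Cfsg.Agent.Lib.Helper48_PMinimal.isSylowIn_of_not_dvd_relIndex hS hSsyl.1 hSsyl.2
  have hTQ : T ≤ MulAut.conj g • Q := hT.trans inf_le_left
  have hTN : T ≤ Subgroup.normalizer (Q : Set G) := hT.trans inf_le_right
  have h1 : T ⊓ Q = ⊥ := Cfsg.Agent.Lib.Helper48_Tight.inf_eq_bot hQ hg hTQ hTsyl.1
  refine ⟨h1, ?_, ?_, ?_, ?_⟩
  · rw [eq_bot_iff, ← h1]
    exact le_inf inf_le_left (inf_le_right.trans inf_le_right)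
  · exact Cfsg.Agent.Lib.Helper48_Tight.commutator_eq_bot hTN h1
  · exact Cfsg.Agent.Lib.Helper48_Tight.sup_eq hTN hTS hS
  · exact Cfsg.Agent.Lib.Helper48_Tight.nonempty_mulEquiv hQ hg hT1 hT' hTS hS'

end Cfsg.Agent.S1910
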