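import Cfsg.Statements.S1921
import Cfsg.Agent.Lib.Helper21_Components
import Cfsg.Agent.Lib.Helper29_Local

set_option autoImplicit false
open Cfsg

namespace Cfsg.Agent.S1921

/-- Elements of a join `H ⊔ K` are products when `H` normalizes `K`. -/
theorem exists_mul_of_mem_sup {S : Type*} [Group S] (H K : Subgroup S)
    (hHK : ∀ h ∈ H, ∀ k ∈ K, h⁻¹ * k * h ∈ K) {x : S} (hx : x ∈ H ⊔ K) :
    ∃ h ∈ H, ∃ k ∈ K, x = h * k := by
  let T : Subgroup S :=
    { carrier := {x | ∃ h ∈ H, ∃ k ∈ K, x = h * k}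
      one_mem' := ⟨1, H.one_mem, 1, K.one_mem, by simp⟩
      mul_mem' := by
        rintro _ _ ⟨h, hh, k, hk, rfl⟩ ⟨h', hh', k', hk', rfl⟩
        exact ⟨h * h', H.mul_mem hh hh', (h'⁻¹ * k * h') * k',
          K.mul_mem (hHK h' hh' k hk) hk', by group⟩
      inv_mem' := by
        rintro _ ⟨h, hh, k, hk, rfl⟩
        refine ⟨h⁻¹, H.inv_mem hh, (h⁻¹)⁻¹ * k⁻¹ * h⁻¹, hHK _ (H.inv_mem hh) _ (K.inv_mem hk), ?_⟩
        group }
  have h1 : H ≤ T := fun h hh => ⟨h, hh, 1, K.one_mem, by simp⟩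
  have h2 : K ≤ T := fun k hk => ⟨1, H.one_mem, k, hk, by simp⟩
  exact (sup_le h1 h2) hx

/-- Conjugating by `l * c` agrees with conjugating by `l` on elements commuting with `c`. -/
theorem conj_mul_of_commute {G : Type*} [Group G] (l c n : G) (h : n * c = c * n) :
    (l * c) * n * (l * c)⁻¹ = l * n * l⁻¹ := by
  rw [mul_inv_rev]
  calc l * c * n * (c⁻¹ * l⁻¹) = l * (c * n) * c⁻¹ * l⁻¹ := by group
    _ = l * (n * c) * c⁻¹ * l⁻¹ := by rw [h]
    _ = l * n * l⁻¹ := by group

/-- Let a be an involution of a finite group H and L a component of H with a L a⁻¹ ≠ L; put M = ⟨L, aLa⁻¹⟩ and let J be the subgroup generated by the elements x · a x a⁻¹ with x ∈ L (the diagonal). Then every element of M outside J·Z(M) generates M together with J. -/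
theorem result {H : Type*} [Group H] [Finite H] (a : H) (ha : orderOf a = 2) (L : Subgroup H) (hL : Cfsg.IsComponent L)
    (hLa : L.map (MulAut.conj a).toMonoidHom ≠ L) (x : H) (hxM : x ∈ L ⊔ L.map (MulAut.conj a).toMonoidHom)
    (hxJ : x ∉ Subgroup.closure {y : H | ∃ l ∈ L, y = l * (a * l * a⁻¹)} ⊔
      ((L ⊔ L.map (MulAut.conj a).toMonoidHom) ⊓ Subgroup.centralizer ((L ⊔ L.map (MulAut.conj a).toMonoidHom : Subgroup H) : Set H))) :
    Subgroup.closure {y : H | ∃ l ∈ L, y = l * (a * l * a⁻¹)} ⊔ Subgroup.zpowers x = L ⊔ L.map (MulAut.conj a).toMonoidHom := by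
  have hLac : Cfsg.IsComponent (L.map (MulAut.conj a).toMonoidHom) :=
    Cfsg.Agent.Lib.Helper29_Local.isComponent_map_mulEquiv (MulAut.conj a) hL
  obtain ⟨La, hLadef⟩ : ∃ La : Subgroup H, La = L.map (MulAut.conj a).toMonoidHom := ⟨_, rfl⟩
  rw [← hLadef] at hLac hLa hxM hxJ ⊢
  have hLane : L ≠ La := fun h => hLa h.symm
  have hcomm : ∀ u ∈ L, ∀ v ∈ La, Commute u v := fun u hu v hv =>
    Cfsg.Agent.Lib.Helper21_Components.IsComponent.commute_of_ne hL hLac hLane hu hv
  have hconj : ∀ l ∈ L, a * l * a⁻¹ ∈ La := by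
    intro l hl
    rw [hLadef]
    exact Subgroup.mem_map.mpr ⟨l, hl, by simp [MulAut.conj_apply]⟩
  obtain ⟨J, hJdef⟩ : ∃ J : Subgroup H,
      J = Subgroup.closure {y : H | ∃ l ∈ L, y = l * (a * l * a⁻¹)} := ⟨_, rfl⟩
  rw [← hJdef] at hxJ ⊢
  have hJmem : ∀ l ∈ L, l * (a * l * a⁻¹) ∈ J := by
    intro l hl
    rw [hJdef]
    exact Subgroup.subset_closure ⟨l, hl, rfl⟩
  have hJM : J ≤ L ⊔ La := by
    rw [hJdef, Subgroup.closure_le]
    rintro y ⟨l, hl, rfl⟩
    exact Subgroup.mul_mem _ (Subgroup.mem_sup_left hl) (Subgroup.mem_sup_right (hconj l hl))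
  -- decompose x
  obtain ⟨u, hu, v', hv', hx⟩ := exists_mul_of_mem_sup L La (by
    intro h hh k hk
    have := (hcomm h hh k hk).eq
    have e : h⁻¹ * k * h = k := by rw [mul_assoc, ← this, ← mul_assoc, inv_mul_cancel, one_mul]
    rw [e]; exact hk) hxM
  obtain ⟨v, hv, hvv'⟩ : ∃ v ∈ L, a * v * a⁻¹ = v' := by
    rw [hLadef] at hv'
    obtain ⟨v, hv, he⟩ := Subgroup.mem_map.mp hv'
    exact ⟨v, hv, by simpa [MulAut.conj_apply] using he⟩
  have hwL : u * v⁻¹ ∈ L := L.mul_mem hu (L.inv_mem hv)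
  have hxw : x = (u * v⁻¹) * (v * (a * v * a⁻¹)) := by rw [hx, ← hvv']; group
  apply le_antisymm
  · exact sup_le hJM (Subgroup.zpowers_le.mpr hxM)
  · have hJK : J ≤ J ⊔ Subgroup.zpowers x := le_sup_left
    have hxK : x ∈ J ⊔ Subgroup.zpowers x := Subgroup.mem_sup_right (Subgroup.mem_zpowers x)
    have hwK : u * v⁻¹ ∈ J ⊔ Subgroup.zpowers x := by
      have e : u * v⁻¹ = x * (v * (a * v * a⁻¹))⁻¹ := by rw [hxw]; group
      rw [e]
      exact Subgroup.mul_mem _ hxK (Subgroup.inv_mem _ (hJK (hJmem v hv)))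
    -- K ∩ L is normal in L
    have hnorm : ((J ⊔ Subgroup.zpowers x).subgroupOf L).Normal := by
      constructor
      intro n hn l
      rw [Subgroup.mem_subgroupOf] at hn ⊢
      have e : ((l * n * l⁻¹ : L) : H)
          = ((l : H) * (a * (l : H) * a⁻¹)) * (n : H) * ((l : H) * (a * (l : H) * a⁻¹))⁻¹ := by
        have c1 := (hcomm (n : H) n.2 _ (hconj l l.2)).eq
        rw [conj_mul_of_commute _ _ _ c1]
        simp
      rw [e]
      exact Subgroup.mul_mem _ (Subgroup.mul_mem _ (hJK (hJmem l l.2)) hn)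
        (Subgroup.inv_mem _ (hJK (hJmem l l.2)))
    rcases Cfsg.Agent.Lib.Helper21_Components.IsQuasisimple.normal_eq_top_or_le_center hL.2
      ((J ⊔ Subgroup.zpowers x).subgroupOf L) with h | h
    · rw [Subgroup.subgroupOf_eq_top] at h
      apply sup_le h
      intro y hy
      rw [hLadef] at hy
      obtain ⟨l, hl, he⟩ := Subgroup.mem_map.mp hy
      have e : y = l⁻¹ * (l * (a * l * a⁻¹)) := by
        rw [← he]; simp [MulAut.conj_apply]
      rw [e]
      exact Subgroup.mul_mem _ (Subgroup.inv_mem _ (h hl)) (hJK (hJmem l hl))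
    · exfalso
      apply hxJ
      have hwc : (⟨u * v⁻¹, hwL⟩ : L) ∈ Subgroup.center L :=
        h (by rw [Subgroup.mem_subgroupOf]; exact hwK)
      have hwcent : u * v⁻¹ ∈ Subgroup.centralizer ((L ⊔ La : Subgroup H) : Set H) := by
        rw [Subgroup.mem_centralizer_iff]
        intro m hm
        have hle : L ⊔ La ≤ Subgroup.centralizer {u * v⁻¹} := by
          apply sup_le
          · intro l hl
            rw [Subgroup.mem_centralizer_singleton_iff]
            have := Subgroup.mem_center_iff.mp hwc ⟨l, hl⟩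
            exact congrArg Subtype.val this
          · intro k hk
            rw [Subgroup.mem_centralizer_singleton_iff]
            exact ((hcomm _ hwL k hk).eq).symm
        exact (Subgroup.mem_centralizer_singleton_iff.mp (hle hm))
      rw [hxw]
      rw [sup_comm]
      exact Subgroup.mul_mem _
        (Subgroup.mem_sup_left (Subgroup.mem_inf.mpr ⟨Subgroup.mem_sup_left hwL, hwcent⟩))
        (Subgroup.mem_sup_right (hJmem v hv))

end Cfsg.Agent.S1921
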