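import Cfsg.Statements.S1922
import Cfsg.Agent.Lib.Helper32_Involutions
import Cfsg.Agent.Lib.Helper32_Sylow

set_option autoImplicit false
open Cfsg

namespace Cfsg.Agent.S1922

open Cfsg.Agent.Lib.Helper32_Involutions

section lemmas

variable {G : Type*} [Group G]

theorem orderOf_conj' (c x : G) : orderOf (c * x * c⁻¹) = orderOf x :=
  (SemiconjBy.orderOf_eq _ (SemiconjBy.conj_mk c x)).symm

theorem mem_map_conj_iff (H : Subgroup G) (g y : G) :
    y ∈ H.map (MulAut.conj g).toMonoidHom ↔ g⁻¹ * y * g ∈ H := by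
  constructor
  · intro h
    obtain ⟨m, hm, he⟩ := Subgroup.mem_map.mp h
    rw [← he]
    have e : g⁻¹ * ((MulAut.conj g).toMonoidHom m) * g = m := by
      simp only [MulEquiv.coe_toMonoidHom, MulAut.conj_apply]; group
    rw [e]; exact hm
  · intro h
    refine Subgroup.mem_map.mpr ⟨g⁻¹ * y * g, h, ?_⟩
    simp only [MulEquiv.coe_toMonoidHom, MulAut.conj_apply]; group

variable (z : G) (H : Subgroup G)

/-- L1: the fixed coset of a conjugate of `z`. -/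
theorem fx_conj (h0 : ∀ g : G, g⁻¹ * z * g ∈ H ↔ g ∈ H) (d g : G) :
    g⁻¹ * (d * z * d⁻¹) * g ∈ H ↔ d⁻¹ * g ∈ H := by
  rw [← h0 (d⁻¹ * g)]
  have e : (d⁻¹ * g)⁻¹ * z * (d⁻¹ * g) = g⁻¹ * (d * z * d⁻¹) * g := by group
  rw [e]

/-- L2: the conjugated form of hypothesis (1). -/
theorem fx_mul
    (h1 : ∀ t : G, IsConj z t → t ≠ z → t * z = z * t → ∀ g : G, g⁻¹ * (z * t) * g ∈ H ↔ g ∈ H)
    (d t' g : G) (ht' : IsConj z t') (hne : t' ≠ d * z * d⁻¹)
    (hcomm : t' * (d * z * d⁻¹) = (d * z * d⁻¹) * t') :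
    g⁻¹ * ((d * z * d⁻¹) * t') * g ∈ H ↔ d⁻¹ * g ∈ H := by
  have hconj : IsConj z (d⁻¹ * t' * d) := by
    refine ht'.trans (isConj_iff.mpr ⟨d⁻¹, ?_⟩)
    rw [inv_inv]
  have hne' : d⁻¹ * t' * d ≠ z := by
    intro h
    apply hne
    rw [← h]; group
  have hcomm' : d⁻¹ * t' * d * z = z * (d⁻¹ * t' * d) := by
    calc d⁻¹ * t' * d * z = d⁻¹ * (t' * (d * z * d⁻¹)) * d := by group
      _ = d⁻¹ * ((d * z * d⁻¹) * t') * d := by rw [hcomm]
      _ = z * (d⁻¹ * t' * d) := by group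
  rw [← h1 _ hconj hne' hcomm' (d⁻¹ * g)]
  have e : (d⁻¹ * g)⁻¹ * (z * (d⁻¹ * t' * d)) * (d⁻¹ * g) = g⁻¹ * ((d * z * d⁻¹) * t') * g := by
    group
  rw [e]

/-- L3: if the product of two conjugates of `z` has even order, the second one's fixed coset
is the first one's. -/
theorem fx_of_even (hz : orderOf z = 2) (h0 : ∀ g : G, g⁻¹ * z * g ∈ H ↔ g ∈ H)
    (h1 : ∀ t : G, IsConj z t → t ≠ z → t * z = z * t → ∀ g : G, g⁻¹ * (z * t) * g ∈ H ↔ g ∈ H)
    (d e : G) (heven : Even (orderOf ((d * z * d⁻¹) * (e * z * e⁻¹)))) (hfin : 0 < orderOf ((d * z * d⁻¹) * (e * z * e⁻¹))) (g : G)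
    (hg : g⁻¹ * (e * z * e⁻¹) * g ∈ H) : g⁻¹ * (d * z * d⁻¹) * g ∈ H := by
  obtain ⟨a, ha⟩ : ∃ a : G, a = d * z * d⁻¹ := ⟨_, rfl⟩
  obtain ⟨b, hb⟩ : ∃ b : G, b = e * z * e⁻¹ := ⟨_, rfl⟩
  rw [← ha, ← hb] at heven hfin
  rw [← hb] at hg
  rw [← ha]
  have ha2 : orderOf a = 2 := by rw [ha, orderOf_conj']; exact hz
  have hb2 : orderOf b = 2 := by rw [hb, orderOf_conj']; exact hz
  have haa := mul_self_of_orderOf_two ha2
  have hbb := mul_self_of_orderOf_two hb2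
  obtain ⟨k, hk⟩ := heven
  have hk0 : 0 < k := by omega
  obtain ⟨hw2, hwa, hwb, c, hc⟩ := exists_central_of_even a b haa hbb k hk0 (by rw [hk]; ring)
  obtain ⟨w, hw⟩ : ∃ w : G, w = (a * b) ^ k := ⟨_, rfl⟩
  rw [← hw] at hw2 hwa hwb hc
  have hw1 : w ≠ 1 := ne_one_of_orderOf_two hw2
  have hww : w * w = 1 := mul_self_of_orderOf_two hw2
  -- t' = a * w is a conjugate of z
  have hza : IsConj z a := isConj_iff.mpr ⟨d, ha.symm⟩
  have hzb : IsConj z b := isConj_iff.mpr ⟨e, hb.symm⟩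
  have ht' : IsConj z (a * w) := by
    rcases hc with hc | hc
    · rw [hc]
      refine hza.trans (isConj_iff.mpr ⟨c⁻¹, ?_⟩)
      rw [inv_inv]
    · rw [hc]
      refine hzb.trans (isConj_iff.mpr ⟨c⁻¹, ?_⟩)
      rw [inv_inv]
  have hne : a * w ≠ d * z * d⁻¹ := by
    rw [← ha]
    intro h
    apply hw1
    have : a * w = a * 1 := by rw [mul_one]; exact h
    exact mul_left_cancel this
  have hcomm : (a * w) * (d * z * d⁻¹) = (d * z * d⁻¹) * (a * w) := by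
    rw [← ha, mul_assoc, ← hwa, ← mul_assoc]
  have key : ∀ g' : G, g'⁻¹ * w * g' ∈ H ↔ g'⁻¹ * a * g' ∈ H := by
    intro g'
    have h2 := fx_mul z H h1 d (a * w) g' ht' hne hcomm
    rw [← ha] at h2
    have e1 : a * (a * w) = w := by rw [← mul_assoc, haa, one_mul]
    rw [e1] at h2
    rw [h2, ha, fx_conj z H h0]
  rw [← key g]
  -- g and w g both lie in the fixed coset of b
  have h3 : e⁻¹ * g ∈ H := by
    rw [hb] at hg
    exact (fx_conj z H h0 e g).mp hg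
  have h4 : e⁻¹ * (w * g) ∈ H := by
    apply (fx_conj z H h0 e (w * g)).mp
    rw [← hb]
    have e2 : (w * g)⁻¹ * b * (w * g) = g⁻¹ * (w⁻¹ * (b * w)) * g := by group
    have e2' : w⁻¹ * (b * w) = b := by rw [hwb, ← mul_assoc, inv_mul_cancel, one_mul]
    rw [e2, e2']
    exact hg
  have e3 : g⁻¹ * w * g = (e⁻¹ * g)⁻¹ * (e⁻¹ * (w * g)) := by group
  rw [e3]
  exact H.mul_mem (H.inv_mem h3) h4

/-- square roots are unique among elements of odd order -/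
theorem eq_of_sq_eq_of_odd {x x' : G} (hx : Odd (orderOf x)) (hx' : Odd (orderOf x'))
    (h : x * x = x' * x') : x = x' := by
  obtain ⟨j, hj⟩ := hx
  have hxN : x ^ (2 * j + 1) = 1 := by rw [← hj]; exact pow_orderOf_eq_one x
  have h2 : x ^ 2 = x' ^ 2 := by rw [pow_two, pow_two]; exact h
  have e1 : x = x' ^ (2 * j + 2) := by
    calc x = x ^ (2 * j + 1) * x := by rw [hxN, one_mul]
      _ = (x ^ 2) ^ (j + 1) := by rw [← pow_succ, ← pow_mul]; congr 1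
      _ = (x' ^ 2) ^ (j + 1) := by rw [h2]
      _ = x' ^ (2 * j + 2) := by rw [← pow_mul]; congr 1
  have e2 : x' ^ (2 * (2 * j + 1)) = 1 := by
    calc x' ^ (2 * (2 * j + 1)) = (x' ^ 2) ^ (2 * j + 1) := by rw [pow_mul]
      _ = (x ^ 2) ^ (2 * j + 1) := by rw [h2]
      _ = (x ^ (2 * j + 1)) ^ 2 := by rw [← pow_mul, ← pow_mul, mul_comm]
      _ = 1 := by rw [hxN, one_pow]
  have h3 : orderOf x' ∣ 2 * (2 * j + 1) := orderOf_dvd_of_pow_eq_one e2
  have h4 : (orderOf x').Coprime 2 := Nat.Coprime.symm (Nat.coprime_two_left.mpr hx')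
  have h5 : orderOf x' ∣ 2 * j + 1 := h4.dvd_of_dvd_mul_left h3
  have h6 : x' ^ (2 * j + 1) = 1 := orderOf_dvd_iff_pow_eq_one.mp h5
  rw [e1, show 2 * j + 2 = (2 * j + 1) + 1 from rfl, pow_succ, h6, one_mul]

/-- A subgroup of odd index contains a Sylow 2-subgroup. -/
theorem exists_sylow_le_of_odd_index [Finite G] (H : Subgroup G) (h : ¬ 2 ∣ H.index) :
    ∃ P : Sylow 2 G, (P : Subgroup G) ≤ H := by
  obtain ⟨S⟩ : Nonempty (Sylow 2 H) := Sylow.nonempty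
  have hS' : IsPGroup 2 ((S : Subgroup H).map H.subtype) := S.2.map _
  have hidx : ¬ 2 ∣ ((S : Subgroup H).map H.subtype).index := by
    rw [Subgroup.index_map_subtype]
    exact Nat.prime_two.not_dvd_mul S.not_dvd_index h
  refine ⟨hS'.toSylow hidx, ?_⟩
  rw [IsPGroup.toSylow_coe]
  exact Subgroup.map_subtype_le _

/-- conjugation action of a subgroup `P ≤ H` on the conjugates of `z` lying in `H` -/
@[reducible] def conjOn (z : G) (H P : Subgroup G) (hPH : P ≤ H) :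
    MulAction P {a : G // IsConj z a ∧ a ∈ H} where
  smul p a := ⟨(p : G) * a.1 * (p : G)⁻¹, a.2.1.trans (isConj_iff.mpr ⟨p, rfl⟩),
    H.mul_mem (H.mul_mem (hPH p.2) a.2.2) (H.inv_mem (hPH p.2))⟩
  one_smul a := by
    apply Subtype.ext
    show ((1 : P) : G) * a.1 * ((1 : P) : G)⁻¹ = a.1
    simp
  mul_smul p q a := by
    apply Subtype.ext
    show ((p * q : P) : G) * a.1 * ((p * q : P) : G)⁻¹
      = (p : G) * ((q : G) * a.1 * (q : G)⁻¹) * (p : G)⁻¹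
    simp [mul_assoc]

section counting

variable (hz : orderOf z = 2) (h0 : ∀ g : G, g⁻¹ * z * g ∈ H ↔ g ∈ H)
  (h1 : ∀ t : G, IsConj z t → t ≠ z → t * z = z * t → ∀ g : G, g⁻¹ * (z * t) * g ∈ H ↔ g ∈ H)

include hz in
theorem conj_sq {a : G} (ha : IsConj z a) : a * a = 1 := by
  obtain ⟨c, hc⟩ := isConj_iff.mp ha
  apply mul_self_of_orderOf_two
  rw [← hc, orderOf_conj']; exact hz

include hz in
theorem conj_inv {a : G} (ha : IsConj z a) : a⁻¹ = a :=
  inv_eq_self_of_mul_self (conj_sq z hz ha)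

include h0 in
theorem conj_mem_iff (d : G) : d * z * d⁻¹ ∈ H ↔ d ∈ H := by
  have := fx_conj z H h0 d 1
  simp only [inv_one, one_mul, mul_one] at this
  rw [this]
  constructor
  · intro h; simpa using H.inv_mem h
  · intro h; exact H.inv_mem h

include hz h0 h1 in
/-- conjugates of `z` with different fixed cosets have a product of odd order -/
theorem odd_of_ne [Finite G] (d e g : G) (hb : g⁻¹ * (e * z * e⁻¹) * g ∈ H)
    (ha : g⁻¹ * (d * z * d⁻¹) * g ∉ H) :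
    Odd (orderOf ((d * z * d⁻¹) * (e * z * e⁻¹))) := by
  by_contra hne
  rw [Nat.not_odd_iff_even] at hne
  exact ha (fx_of_even z H hz h0 h1 d e hne (orderOf_pos _) g hb)

include hz h0 h1 in
/-- surjectivity: every conjugate of `z` in `H` is swapped with `b₀` by some conjugate `r`
with `r ∈ g₀ H` -/
theorem exists_swap [Finite G] (g₀ : G) (hg₀ : g₀ ∉ H) (d : G) (hd : d ∈ H) :
    ∃ r : G, IsConj z r ∧ g₀⁻¹ * r ∈ H ∧ r * (g₀ * z * g₀⁻¹) * r⁻¹ = d * z * d⁻¹ := by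
  have hzH : z ∈ H := by
    have := (h0 1).mpr H.one_mem
    simpa using this
  have hFb : g₀⁻¹ * (g₀ * z * g₀⁻¹) * g₀ ∈ H := by
    have e : g₀⁻¹ * (g₀ * z * g₀⁻¹) * g₀ = z := by group
    rw [e]; exact hzH
  have hFa : g₀⁻¹ * (d * z * d⁻¹) * g₀ ∉ H := by
    intro h
    have h2 := (fx_conj z H h0 d g₀).mp h
    apply hg₀
    have e : g₀ = d * (d⁻¹ * g₀) := by group
    rw [e]; exact H.mul_mem hd h2
  obtain ⟨k, hk⟩ := odd_of_ne z H hz h0 h1 d g₀ g₀ hFb hFa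
  have hza : IsConj z (d * z * d⁻¹) := isConj_iff.mpr ⟨d, rfl⟩
  have hzb : IsConj z (g₀ * z * g₀⁻¹) := isConj_iff.mpr ⟨g₀, rfl⟩
  have haa := conj_sq z hz hza
  have hbb := conj_sq z hz hzb
  have hpow : ((d * z * d⁻¹) * (g₀ * z * g₀⁻¹)) ^ (2 * k + 1) = 1 := by
    rw [← hk]; exact pow_orderOf_eq_one _
  obtain ⟨hr1, hr2⟩ := exists_swap_of_odd _ _ haa hbb k hpow
  obtain ⟨c, hc⟩ := refl_conj _ _ haa hbb (k + 1)
  obtain ⟨r, hr⟩ : ∃ r : G, r = (d * z * d⁻¹) * ((d * z * d⁻¹) * (g₀ * z * g₀⁻¹)) ^ (k + 1) :=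
    ⟨_, rfl⟩
  rw [← hr] at hr1 hr2 hc
  have hrinv : r⁻¹ = r := inv_eq_self_of_mul_self hr1
  have hrconj : IsConj z r := by
    rcases hc with hc | hc
    · rw [hc]
      refine hza.trans (isConj_iff.mpr ⟨c⁻¹, ?_⟩)
      rw [inv_inv]
    · rw [hc]
      refine hzb.trans (isConj_iff.mpr ⟨c⁻¹, ?_⟩)
      rw [inv_inv]
  refine ⟨r, hrconj, ?_, ?_⟩
  · -- b₀ = (r d) z (r d)⁻¹, fixed coset contains g₀
    have e1 : g₀ * z * g₀⁻¹ = (r * d) * z * (r * d)⁻¹ := by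
      rw [← hr2, mul_inv_rev, hrinv]; group
    have h3 : g₀⁻¹ * ((r * d) * z * (r * d)⁻¹) * g₀ ∈ H := by rw [← e1]; exact hFb
    have h4 := (fx_conj z H h0 (r * d) g₀).mp h3
    -- (r d)⁻¹ g₀ ∈ H, so r⁻¹ g₀ ∈ H, so g₀⁻¹ r ∈ H
    have h5 : r⁻¹ * g₀ ∈ H := by
      have e : r⁻¹ * g₀ = d * ((r * d)⁻¹ * g₀) := by group
      rw [e]; exact H.mul_mem hd h4
    have e : g₀⁻¹ * r = (r⁻¹ * g₀)⁻¹ := by group
    rw [e]; exact H.inv_mem h5
  · rw [hrinv, ← hr2]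
    calc r * (r * (d * z * d⁻¹) * r) * r = (r * r) * (d * z * d⁻¹) * (r * r) := by group
      _ = d * z * d⁻¹ := by rw [hr1, one_mul, mul_one]

include hz h0 in
/-- the swap map lands in `H` -/
theorem swap_mem (g₀ : G) {r : G} (hr : IsConj z r) (hrg : g₀⁻¹ * r ∈ H) :
    r * (g₀ * z * g₀⁻¹) * r⁻¹ ∈ H := by
  have e : r * (g₀ * z * g₀⁻¹) * r⁻¹ = (r * g₀) * z * (r * g₀)⁻¹ := by group
  rw [e, conj_mem_iff z H h0]
  have e2 : r * g₀ = (g₀⁻¹ * r⁻¹)⁻¹ := by group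
  rw [e2, conj_inv z hz hr]
  exact H.inv_mem hrg

include hz h0 h1 in
/-- injectivity of the swap map -/
theorem swap_inj [Finite G] (g₀ : G) (hg₀ : g₀ ∉ H) {r r' : G} (hr : IsConj z r)
    (hrg : g₀⁻¹ * r ∈ H) (hr' : IsConj z r') (hrg' : g₀⁻¹ * r' ∈ H)
    (h : r * (g₀ * z * g₀⁻¹) * r⁻¹ = r' * (g₀ * z * g₀⁻¹) * r'⁻¹) : r = r' := by
  have hzH : z ∈ H := by
    have := (h0 1).mpr H.one_mem
    simpa using this
  have hFb : g₀⁻¹ * (g₀ * z * g₀⁻¹) * g₀ ∈ H := by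
    have e : g₀⁻¹ * (g₀ * z * g₀⁻¹) * g₀ = z := by group
    rw [e]; exact hzH
  have hnotF : ∀ s : G, g₀⁻¹ * s ∈ H → g₀⁻¹ * s * g₀ ∉ H := by
    intro s hs hs'
    apply hg₀
    have e : g₀ = (g₀⁻¹ * s)⁻¹ * (g₀⁻¹ * s * g₀) := by group
    rw [e]; exact H.mul_mem (H.inv_mem hs) hs'
  have hoddx : ∀ s : G, IsConj z s → g₀⁻¹ * s ∈ H → Odd (orderOf (s * (g₀ * z * g₀⁻¹))) := by
    intro s hs hsg
    obtain ⟨c, hc⟩ := isConj_iff.mp hs
    rw [← hc]
    apply odd_of_ne z H hz h0 h1 c g₀ g₀ hFb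
    rw [hc]; exact hnotF s hsg
  have hrinv := conj_inv z hz hr
  have hr'inv := conj_inv z hz hr'
  rw [hrinv, hr'inv] at h
  have hsq : (r * (g₀ * z * g₀⁻¹)) * (r * (g₀ * z * g₀⁻¹))
      = (r' * (g₀ * z * g₀⁻¹)) * (r' * (g₀ * z * g₀⁻¹)) := by
    calc (r * (g₀ * z * g₀⁻¹)) * (r * (g₀ * z * g₀⁻¹))
        = (r * (g₀ * z * g₀⁻¹) * r) * (g₀ * z * g₀⁻¹) := by group
      _ = (r' * (g₀ * z * g₀⁻¹) * r') * (g₀ * z * g₀⁻¹) := by rw [h]
      _ = (r' * (g₀ * z * g₀⁻¹)) * (r' * (g₀ * z * g₀⁻¹)) := by group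
  have := eq_of_sq_eq_of_odd (hoddx r hr hrg) (hoddx r' hr' hrg') hsq
  exact mul_right_cancel this

include hz h0 h1 in
/-- the number of conjugates of `z` in the coset `g₀ H` is odd -/
theorem odd_card_swaps [Finite G] (g₀ : G) (hg₀ : g₀ ∉ H) (r₀ : G) (hr₀ : IsConj z r₀)
    (hr₀g : g₀⁻¹ * r₀ ∈ H) : Odd (Nat.card {r : G // IsConj z r ∧ g₀⁻¹ * r ∈ H}) := by
  have hr₀sq := conj_sq z hz hr₀
  have hr₀inv := conj_inv z hz hr₀
  have hmem : ∀ r : G, IsConj z r → g₀⁻¹ * r ∈ H → g₀⁻¹ * (r₀ * r * r₀⁻¹) ∈ H := by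
    intro r hr hrg
    have e : g₀⁻¹ * (r₀ * r * r₀⁻¹) = (g₀⁻¹ * r₀) * (g₀⁻¹ * r⁻¹)⁻¹ * (g₀⁻¹ * r₀⁻¹) := by group
    rw [e, conj_inv z hz hr, hr₀inv]
    exact H.mul_mem (H.mul_mem hr₀g (H.inv_mem hrg)) hr₀g
  let f : {r : G // IsConj z r ∧ g₀⁻¹ * r ∈ H} → {r : G // IsConj z r ∧ g₀⁻¹ * r ∈ H} :=
    fun r => ⟨r₀ * r.1 * r₀⁻¹, r.2.1.trans (isConj_iff.mpr ⟨r₀, rfl⟩), hmem r.1 r.2.1 r.2.2⟩
  apply odd_card_of_involutive f
  · intro r
    apply Subtype.ext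
    show r₀ * (r₀ * r.1 * r₀⁻¹) * r₀⁻¹ = r.1
    rw [hr₀inv]
    calc r₀ * (r₀ * r.1 * r₀) * r₀ = (r₀ * r₀) * r.1 * (r₀ * r₀) := by group
      _ = r.1 := by rw [hr₀sq, one_mul, mul_one]
  · show f ⟨r₀, hr₀, hr₀g⟩ = ⟨r₀, hr₀, hr₀g⟩
    apply Subtype.ext
    show r₀ * r₀ * r₀⁻¹ = r₀
    group
  · intro r hfr
    apply Subtype.ext
    show r.1 = r₀
    have h2 : r₀ * r.1 * r₀⁻¹ = r.1 := congrArg Subtype.val hfr
    by_contra hne
    -- r commutes with r₀ and differs from it: r₀ * r has the fixed coset of r₀, but lies in H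
    obtain ⟨c, hc⟩ := isConj_iff.mp hr₀
    have hcomm : r.1 * (c * z * c⁻¹) = (c * z * c⁻¹) * r.1 := by
      rw [hc]
      calc r.1 * r₀ = (r₀ * r.1 * r₀⁻¹) * r₀ := by rw [h2]
        _ = r₀ * r.1 := by group
    have hne' : r.1 ≠ c * z * c⁻¹ := by rw [hc]; exact hne
    have h3 := fx_mul z H h1 c r.1 1 r.2.1 hne' hcomm
    rw [hc] at h3
    have h4 : (1 : G)⁻¹ * (r₀ * r.1) * 1 ∈ H := by
      have e : (1 : G)⁻¹ * (r₀ * r.1) * 1 = (g₀⁻¹ * r₀⁻¹)⁻¹ * (g₀⁻¹ * r.1) := by group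
      rw [e, hr₀inv]
      exact H.mul_mem (H.inv_mem hr₀g) r.2.2
    have h5 := h3.mp h4
    -- c⁻¹ ∈ H, so r₀ ∈ H, so g₀ ∈ H
    have h6 : r₀ ∈ H := by
      rw [← hc, conj_mem_iff z H h0]
      have : c⁻¹ ∈ H := by simpa using h5
      simpa using H.inv_mem this
    apply hg₀
    have e : g₀ = r₀ * (g₀⁻¹ * r₀)⁻¹ := by group
    rw [e]; exact H.mul_mem h6 (H.inv_mem hr₀g)

include hz h0 in
/-- `H` has odd index -/
theorem odd_index [Finite G] : ¬ 2 ∣ H.index := by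
  have hzz := mul_self_of_orderOf_two hz
  have hzinv := inv_eq_self_of_mul_self hzz
  have hzH : z ∈ H := by
    have := (h0 1).mpr H.one_mem
    simpa using this
  have hodd : Odd (Nat.card (G ⧸ H)) := by
    refine odd_card_of_involutive (fun q : G ⧸ H => z • q) ?_ ((1 : G) : G ⧸ H) ?_ ?_
    · intro q
      show z • z • q = q
      rw [← mul_smul, hzz, one_smul]
    · show ((z * 1 : G) : G ⧸ H) = ((1 : G) : G ⧸ H)
      rw [QuotientGroup.eq]
      simpa using H.mul_mem (H.inv_mem hzH) H.one_mem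
    · intro q hq
      induction q using QuotientGroup.induction_on with
      | H g =>
        have h2 : ((z * g : G) : G ⧸ H) = (g : G ⧸ H) := hq
        rw [QuotientGroup.eq] at h2
        have h3 : g⁻¹ * z * g ∈ H := by
          have e : (z * g)⁻¹ * g = g⁻¹ * z⁻¹ * g := by group
          rw [e, hzinv] at h2
          exact h2
        have h4 := (h0 g).mp h3
        rw [QuotientGroup.eq]
        simpa using H.inv_mem h4
  rw [Subgroup.index_eq_card]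
  intro h2
  exact (Nat.not_even_iff_odd.mpr hodd) (even_iff_two_dvd.mpr h2)

include hz h0 h1 in
/-- `z` is 2-central. -/
theorem two_central [Finite G] (hH : H ≠ ⊤) :
    ∃ P : Sylow 2 G, z ∈ (Subgroup.center ↥(P : Subgroup G)).map (P : Subgroup G).subtype := by
  obtain ⟨g₀, hg₀⟩ : ∃ g₀ : G, g₀ ∉ H := by
    by_contra hcon
    apply hH
    rw [eq_top_iff]
    intro g _
    by_contra hg
    exact hcon ⟨g, hg⟩
  obtain ⟨r₀, hr₀, hr₀g, -⟩ := exists_swap z H hz h0 h1 g₀ hg₀ 1 H.one_mem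
  have hoddswaps := odd_card_swaps z H hz h0 h1 g₀ hg₀ r₀ hr₀ hr₀g
  have hcard : Nat.card {a : G // IsConj z a ∧ a ∈ H}
      = Nat.card {r : G // IsConj z r ∧ g₀⁻¹ * r ∈ H} := by
    symm
    let f : {r : G // IsConj z r ∧ g₀⁻¹ * r ∈ H} → {a : G // IsConj z a ∧ a ∈ H} :=
      fun r => ⟨r.1 * (g₀ * z * g₀⁻¹) * r.1⁻¹,
        (isConj_iff.mpr ⟨g₀, rfl⟩ : IsConj z (g₀ * z * g₀⁻¹)).trans (isConj_iff.mpr ⟨r.1, rfl⟩),
        swap_mem z H hz h0 g₀ r.2.1 r.2.2⟩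
    have hinj : Function.Injective f := by
      intro r r' h
      apply Subtype.ext
      exact swap_inj z H hz h0 h1 g₀ hg₀ r.2.1 r.2.2 r'.2.1 r'.2.2 (congrArg Subtype.val h)
    have hsurj : Function.Surjective f := by
      rintro ⟨a, ha, haH⟩
      obtain ⟨d, hd⟩ := isConj_iff.mp ha
      have hdH : d ∈ H := by rw [← conj_mem_iff z H h0 d, hd]; exact haH
      obtain ⟨r, hr, hrg, hre⟩ := exists_swap z H hz h0 h1 g₀ hg₀ d hdH
      refine ⟨⟨r, hr, hrg⟩, ?_⟩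
      apply Subtype.ext
      show r * (g₀ * z * g₀⁻¹) * r⁻¹ = a
      rw [hre, hd]
    exact Nat.card_congr (Equiv.ofBijective f ⟨hinj, hsurj⟩)
  have hoddIa : ¬ 2 ∣ Nat.card {a : G // IsConj z a ∧ a ∈ H} := by
    rw [hcard]
    intro h2
    exact (Nat.not_even_iff_odd.mpr hoddswaps) (even_iff_two_dvd.mpr h2)
  obtain ⟨P, hPH⟩ := exists_sylow_le_of_odd_index H (odd_index z H hz h0)
  let _inst := conjOn z H (P : Subgroup G) hPH
  obtain ⟨a, ha⟩ := P.isPGroup'.nonempty_fixed_point_of_prime_not_dvd_card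
    {a : G // IsConj z a ∧ a ∈ H} hoddIa
  obtain ⟨d, hd⟩ := isConj_iff.mp a.2.1
  have hfix : ∀ p ∈ (P : Subgroup G), p * a.1 * p⁻¹ = a.1 := by
    intro p hp
    have := ha ⟨p, hp⟩
    exact congrArg Subtype.val this
  refine ⟨d⁻¹ • P, ?_⟩
  have hP'mem : ∀ x, x ∈ ((d⁻¹ • P : Sylow 2 G) : Subgroup G) ↔ d * x * d⁻¹ ∈ (P : Subgroup G) := by
    intro x
    rw [Sylow.coe_subgroup_smul, Subgroup.mem_pointwise_smul_iff_inv_smul_mem]
    simp [MulAut.smul_def, MulAut.conj_apply]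
  have hcommz : ∀ x ∈ ((d⁻¹ • P : Sylow 2 G) : Subgroup G), x * z = z * x := by
    intro x hx
    have h2 := hfix _ ((hP'mem x).mp hx)
    rw [← hd] at h2
    have h3 : x * z * x⁻¹ = z := by
      have e : x * z * x⁻¹
          = d⁻¹ * ((d * x * d⁻¹) * (d * z * d⁻¹) * (d * x * d⁻¹)⁻¹) * d := by group
      rw [e, h2]; group
    calc x * z = (x * z * x⁻¹) * x := by group
      _ = z * x := by rw [h3]
  have hzP' : z ∈ ((d⁻¹ • P : Sylow 2 G) : Subgroup G) := by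
    have hcent : Subgroup.zpowers z
        ≤ Subgroup.normalizer (((d⁻¹ • P : Sylow 2 G) : Subgroup G) : Set G) := by
      refine le_trans ?_ (Subgroup.centralizer_le_normalizer _)
      rw [Subgroup.zpowers_le, Subgroup.mem_centralizer_iff]
      intro x hx
      exact hcommz x hx
    have hzp : IsPGroup 2 (Subgroup.zpowers z) := by
      apply IsPGroup.of_card (n := 1)
      rw [Nat.card_zpowers, hz, pow_one]
    have hsup : IsPGroup 2
        ((((d⁻¹ • P : Sylow 2 G) : Subgroup G)) ⊔ Subgroup.zpowers z : Subgroup G) :=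
      IsPGroup.to_sup_of_normal_left' (d⁻¹ • P : Sylow 2 G).isPGroup' hzp hcent
    have := (d⁻¹ • P : Sylow 2 G).is_maximal' hsup le_sup_left
    rw [← this]; exact Subgroup.mem_sup_right (Subgroup.mem_zpowers z)
  refine Subgroup.mem_map.mpr ⟨⟨z, hzP'⟩, ?_, rfl⟩
  rw [Subgroup.mem_center_iff]
  intro x
  apply Subtype.ext
  exact hcommz x.1 x.2

end counting

end lemmas

/-- Let z be an involution of a finite group G and H a proper subgroup such that z lies in gHg⁻¹ exactly when g ∈ H. Then the following are equivalent: (1) for every conjugate t ≠ z of z commuting with z, the product zt lies in gHg⁻¹ exactly when g ∈ H; (2) z lies in the centre of some Sylow 2-subgroup of G, and for every conjugate t ≠ z of z commuting with z, the centralizer of zt is contained in H. -/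
theorem result {G : Type*} [Group G] [Finite G] (z : G) (hz : orderOf z = 2) (H : Subgroup G) (hH : H ≠ ⊤)
    (h0 : ∀ g : G, z ∈ H.map (MulAut.conj g).toMonoidHom ↔ g ∈ H) :
    (∀ t : G, IsConj z t → t ≠ z → t * z = z * t → ∀ g : G, z * t ∈ H.map (MulAut.conj g).toMonoidHom ↔ g ∈ H) ↔
      ((∃ P : Sylow 2 G, z ∈ (Subgroup.center ↥(P : Subgroup G)).map (P : Subgroup G).subtype) ∧
        ∀ t : G, IsConj z t → t ≠ z → t * z = z * t → Subgroup.centralizer ({z * t} : Set G) ≤ H) := by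
  have h0' : ∀ g : G, g⁻¹ * z * g ∈ H ↔ g ∈ H := fun g => by
    rw [← mem_map_conj_iff]; exact h0 g
  have hzz := mul_self_of_orderOf_two hz
  have hzH : z ∈ H := by
    have := (h0' 1).mpr H.one_mem
    simpa using this
  have hCz : ∀ c : G, c * z = z * c → c ∈ H := by
    intro c hc
    apply (h0' c).mp
    have : c⁻¹ * z * c = z := by rw [mul_assoc, ← hc, ← mul_assoc, inv_mul_cancel, one_mul]
    rw [this]; exact hzH
  constructor
  · intro h1
    have h1' : ∀ t : G, IsConj z t → t ≠ z → t * z = z * t →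
        ∀ g : G, g⁻¹ * (z * t) * g ∈ H ↔ g ∈ H := fun t a b c g => by
      rw [← mem_map_conj_iff]; exact h1 t a b c g
    refine ⟨two_central z H hz h0' h1' hH, ?_⟩
    intro t ht hne hcomm c hc
    rw [Subgroup.mem_centralizer_singleton_iff] at hc
    apply (h1' t ht hne hcomm c).mp
    have hztH : z * t ∈ H := by
      have := (h1' t ht hne hcomm 1).mpr H.one_mem
      simpa using this
    have : c⁻¹ * (z * t) * c = z * t := by
      rw [mul_assoc, ← hc, ← mul_assoc, inv_mul_cancel, one_mul]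
    rw [this]; exact hztH
  · rintro ⟨⟨P, hP⟩, h2⟩ t ht hne hcomm g
    rw [mem_map_conj_iff]
    obtain ⟨c₀, hc₀, hc₀z⟩ := Subgroup.mem_map.mp hP
    have hPcomm : ∀ x ∈ (P : Subgroup G), x * z = z * x := by
      intro x hx
      have := Subgroup.mem_center_iff.mp hc₀ ⟨x, hx⟩
      have h3 := congrArg Subtype.val this
      rw [← hc₀z]; exact h3
    have hPH : (P : Subgroup G) ≤ H := fun x hx => hCz x (hPcomm x hx)
    have htH : t ∈ H := hCz t hcomm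
    have hztH : z * t ∈ H := H.mul_mem hzH htH
    constructor
    · intro hg
      have ht2 : orderOf t = 2 := by
        obtain ⟨c, hc⟩ := isConj_iff.mp ht
        rw [← hc, orderOf_conj']; exact hz
      have htt := mul_self_of_orderOf_two ht2
      have hu2 : (z * t) * (z * t) = 1 := by
        calc (z * t) * (z * t) = z * (t * z) * t := by group
          _ = z * (z * t) * t := by rw [hcomm]
          _ = (z * z) * (t * t) := by group
          _ = 1 := by rw [hzz, htt, one_mul]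
      have hu'2 : (g⁻¹ * (z * t) * g) ^ 2 = 1 := by
        rw [pow_two]
        calc (g⁻¹ * (z * t) * g) * (g⁻¹ * (z * t) * g) = g⁻¹ * ((z * t) * (z * t)) * g := by group
          _ = 1 := by rw [hu2]; group
      have hU : IsPGroup 2 (Subgroup.zpowers (g⁻¹ * (z * t) * g)) := by
        apply IsPGroup.of_card_dvd_pow (n := 1)
        rw [Nat.card_zpowers, pow_one]
        exact orderOf_dvd_of_pow_eq_one hu'2
      obtain ⟨c, hcH, hc⟩ := Cfsg.Agent.Lib.Helper32_Sylow.sylow_conj_into H P hPH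
        (Subgroup.zpowers (g⁻¹ * (z * t) * g)) (Subgroup.zpowers_le.mpr hg) hU
      have h3 := hPcomm _ (hc _ (Subgroup.mem_zpowers _))
      -- a = c g⁻¹; a⁻¹ z a commutes with z t
      have h4 : (c * g⁻¹)⁻¹ * z * (c * g⁻¹) ∈ Subgroup.centralizer ({z * t} : Set G) := by
        rw [Subgroup.mem_centralizer_singleton_iff]
        calc (c * g⁻¹)⁻¹ * z * (c * g⁻¹) * (z * t)
            = (c * g⁻¹)⁻¹ * (z * (c * (g⁻¹ * (z * t) * g) * c⁻¹)) * (c * g⁻¹) := by group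
          _ = (c * g⁻¹)⁻¹ * ((c * (g⁻¹ * (z * t) * g) * c⁻¹) * z) * (c * g⁻¹) := by rw [h3]
          _ = (z * t) * ((c * g⁻¹)⁻¹ * z * (c * g⁻¹)) := by group
      have h5 := h2 t ht hne hcomm h4
      have h6 := (h0' (c * g⁻¹)).mp h5
      have e : g = (c * g⁻¹)⁻¹ * c := by group
      rw [e]; exact H.mul_mem (H.inv_mem h6) hcH
    · intro hg
      exact H.mul_mem (H.mul_mem (H.inv_mem hg) hztH) hg

end Cfsg.Agent.S1922
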