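import Cfsg.Statements.S1924
import Cfsg.Agent.Lib.Helper55_CosetSign
import Cfsg.Agent.Lib.Helper2_PResidual

set_option autoImplicit false
open Cfsg

namespace Cfsg.Agent.S1924

open Cfsg.Agent.Lib.Helper55_CosetSign

/-- A product of two subgroups meeting trivially embeds in their join. -/
theorem card_mul_le_card_sup {G : Type*} [Group G] [Finite G] (T C : Subgroup G)
    (h : T ⊓ C = ⊥) : Nat.card T * Nat.card C ≤ Nat.card ↥(T ⊔ C) := by
  rw [← Nat.card_prod]
  let f : ↥T × ↥C → ↥(T ⊔ C) := fun p =>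
    ⟨(p.1 : G) * (p.2 : G), Subgroup.mul_mem_sup p.1.2 p.2.2⟩
  apply Nat.card_le_card_of_injective f
  rintro ⟨⟨t1, ht1⟩, ⟨c1, hc1⟩⟩ ⟨⟨t2, ht2⟩, ⟨c2, hc2⟩⟩ heq
  have heq' : t1 * c1 = t2 * c2 := congrArg Subtype.val heq
  have h1 : t2⁻¹ * t1 = c2 * c1⁻¹ := by
    rw [inv_mul_eq_iff_eq_mul, ← mul_assoc, ← heq', mul_assoc, mul_inv_cancel, mul_one]
  have hmemT : t2⁻¹ * t1 ∈ T := T.mul_mem (T.inv_mem ht2) ht1
  have hmemC : t2⁻¹ * t1 ∈ C := by rw [h1]; exact C.mul_mem hc2 (C.inv_mem hc1)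
  have h2 : t2⁻¹ * t1 ∈ T ⊓ C := ⟨hmemT, hmemC⟩
  rw [h, Subgroup.mem_bot] at h2
  have ht : t1 = t2 := by
    rw [inv_mul_eq_one] at h2; exact h2.symm
  subst ht
  have hc : c1 = c2 := mul_left_cancel heq'
  subst hc
  rfl

theorem relIndex_mul_card' {G : Type*} [Group G] {H K : Subgroup G} (h : H ≤ K) :
    H.relIndex K * Nat.card H = Nat.card K := by
  have h1 := (H.subgroupOf K).card_mul_index
  have h2 : Nat.card ↥(H.subgroupOf K) = Nat.card H :=
    Nat.card_congr (Subgroup.subgroupOfEquivOfLe h).toEquiv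
  rw [h2, mul_comm] at h1
  exact h1

/-- A consequence of Thompson's transfer lemma. -/
theorem result {G : Type*} [Group G] [Finite G] (L T S D C : Subgroup G) (hL : Cfsg.pResidual 2 ↥L = ⊤)
    (hTL : T ≤ L) (hT2 : IsPGroup 2 T) (hTsyl : ¬ 2 ∣ T.relIndex L)
    (hS2 : IsPGroup 2 S) (hSsyl : ¬ 2 ∣ S.index) (hTS : T ≤ S)
    (hDS : D ≤ S) (hDih : ∃ n : ℕ, 2 ≤ n ∧ Nonempty (↥D ≃* DihedralGroup n)) (hDT : D ⊓ T = ⊥) (hTD : T ⊔ D = S) (hTDc : Nat.card T * Nat.card D = Nat.card S)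
    (hCD : C ≤ D) (hC : IsCyclic ↥C) (hCi : C.relIndex D = 2)
    (h1 : ∀ x ∈ D, x ∉ C → orderOf x = 2 → ∀ g : G, g * x * g⁻¹ ∈ T ⊔ C → False)
    (h2 : ∀ c ∈ C, orderOf c = 2 → ∀ g : G, g * c * g⁻¹ ∈ T → False) :
    ∃ K : Subgroup G, K.Normal ∧ K ⊔ D = ⊤ ∧
      ∀ T' : Subgroup G, T' ≤ L → IsPGroup 2 T' → ¬ 2 ∣ T'.relIndex L → T' ≤ K ∧ ¬ 2 ∣ T'.relIndex K := by
  classical
  have : Fact (Nat.Prime 2) := ⟨Nat.prime_two⟩
  obtain ⟨n, hn, ⟨e⟩⟩ := hDih
  -- every element of `D ∖ C` is an involution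
  have hinv : ∀ x ∈ D, x ∉ C → orderOf x = 2 := by
    intro x hxD hxC
    have hcyc : IsCyclic ↥((C.subgroupOf D).map e.toMonoidHom) := by
      have : IsCyclic ↥(C.subgroupOf D) := by
        have e2 : ↥(C.subgroupOf D) ≃* ↥C := Subgroup.subgroupOfEquivOfLe hCD
        exact isCyclic_of_surjective e2.symm e2.symm.surjective
      exact isCyclic_of_surjective ((C.subgroupOf D).equivMapOfInjective e.toMonoidHom e.injective)
        (MulEquiv.surjective _)
    have hidx : ((C.subgroupOf D).map e.toMonoidHom).index = 2 := by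
      rw [Subgroup.index_map_of_bijective (f := e.toMonoidHom) e.bijective]; exact hCi
    have hnot : e ⟨x, hxD⟩ ∉ (C.subgroupOf D).map e.toMonoidHom := by
      rintro ⟨y, hy, hye⟩
      have : y = ⟨x, hxD⟩ := e.injective hye
      rw [this] at hy
      exact hxC (Subgroup.mem_subgroupOf.1 hy)
    have h := DihedralGroup.orderOf_eq_two_of_not_mem hn _ hcyc hidx _ hnot
    rw [MulEquiv.orderOf_eq] at h
    rw [← Subgroup.orderOf_mk x hxD]; exact h
  -- pick `x ∈ D ∖ C`
  obtain ⟨x, hxD, hxC⟩ : ∃ x ∈ D, x ∉ C := by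
    by_contra hcon
    push Not at hcon
    have : C.relIndex D = 1 := Subgroup.relIndex_eq_one.2 hcon
    omega
  -- cardinalities
  have hcardD : Nat.card D = 2 * Nat.card C := by
    have := relIndex_mul_card' hCD
    rw [hCi] at this
    exact this.symm
  obtain ⟨M, hMdef⟩ : ∃ M : Subgroup G, M = T ⊔ C := ⟨_, rfl⟩
  have hMS : M ≤ S := by rw [hMdef]; exact sup_le hTS (hCD.trans hDS)
  have hxM : x ∉ M := by
    intro h
    apply h1 x hxD hxC (hinv x hxD hxC) 1
    rw [← hMdef]; simpa using h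
  have hTC : T ⊓ C = ⊥ := by
    rw [eq_bot_iff, ← hDT]
    exact le_inf (inf_le_right.trans hCD) inf_le_left
  have hge : Nat.card T * Nat.card C ≤ Nat.card M := by
    rw [hMdef]; exact card_mul_le_card_sup T C hTC
  have hMdvd : Nat.card M ∣ Nat.card S := Subgroup.card_dvd_of_le hMS
  have hSpos : 0 < Nat.card S := Nat.card_pos
  have hMpos : 0 < Nat.card M := Nat.card_pos
  have hMcard : Nat.card M * 2 = Nat.card S := by
    obtain ⟨k, hk⟩ := hMdvd
    have hk1 : k ≠ 1 := by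
      intro hk1
      rw [hk1, mul_one] at hk
      have : M = S := Subgroup.eq_of_le_of_card_ge hMS (le_of_eq hk)
      exact hxM (this ▸ hDS hxD)
    have hk0 : k ≠ 0 := by
      intro hk0; rw [hk0, mul_zero] at hk; omega
    have hk2 : k ≤ 2 := by
      by_contra hk3
      push Not at hk3
      have h3 : Nat.card M * 3 ≤ Nat.card S := by
        rw [hk]; exact Nat.mul_le_mul_left _ hk3
      rw [← hTDc, hcardD] at h3
      nlinarith
    have : k = 2 := by omega
    rw [hk, this]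
  have hSodd : Odd S.index := by
    rw [← Nat.not_even_iff_odd, even_iff_two_dvd]; exact hSsyl
  have hMidx : M.index = 2 ^ (0 + 1) * S.index := by
    have h3 : M.relIndex S * S.index = M.index := Subgroup.relIndex_mul_index hMS
    have h4 : M.relIndex S * Nat.card M = Nat.card S := relIndex_mul_card' hMS
    have h5 : M.relIndex S = 2 := by
      rw [← hMcard, mul_comm] at h4
      exact Nat.eq_of_mul_eq_mul_left hMpos h4
    rw [← h3, h5]; norm_num
  -- the sign character on `G ⧸ M`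
  have hsign : ∀ y ∈ D, y ∉ C → cosetSign M y = -1 := by
    intro y hyD hyC
    have hy2 := hinv y hyD hyC
    apply cosetSign_eq_neg_one M 0 S.index hMidx hSodd y
    · rw [← hy2]; simp [pow_orderOf_eq_one]
    · intro g hg
      apply h1 y hyD hyC hy2 g⁻¹
      rw [← hMdef]
      simpa using hg
  obtain ⟨N, hNdef⟩ : ∃ N : Subgroup G, N = (cosetSign M).ker := ⟨_, rfl⟩
  have hNidx : N.index = 2 := by
    rw [hNdef]; exact index_ker_of_apply_eq_neg_one _ x (hsign x hxD hxC)
  have hRN : Cfsg.pResidual 2 G ≤ N := pResidual_le_of_index_two N hNidx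
  have hLR : L ≤ Cfsg.pResidual 2 G := le_pResidual_of_pResidual_eq_top L hL
  have hTR : T ≤ Cfsg.pResidual 2 G := hTL.trans hLR
  have hCN : C ≤ N := by
    intro c hc
    rw [hNdef, MonoidHom.mem_ker]
    have hxc : x * c ∉ C := fun h => hxC ((Subgroup.mul_mem_cancel_right C hc).1 h)
    have h3 := hsign (x * c) (D.mul_mem hxD (hCD hc)) hxc
    rw [map_mul, hsign x hxD hxC] at h3
    have : (-1 : ℤˣ) * cosetSign M c = (-1) * 1 := by rw [h3, mul_one]
    exact mul_left_cancel this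
  -- a generator of `C`
  obtain ⟨a, ha⟩ := hS2.exists_card_eq.imp fun a ha => ha
  have hC2 : IsPGroup 2 C := hS2.to_le (hCD.trans hDS)
  obtain ⟨m, hm⟩ := hC2.exists_card_eq
  obtain ⟨⟨c, hcC⟩, hgen⟩ := hC.exists_generator
  have hcord : orderOf c = 2 ^ m := by
    rw [← Subgroup.orderOf_mk c hcC, orderOf_eq_card_of_forall_mem_zpowers hgen, hm]
  -- index computation
  have hTN : T ≤ N := hTR.trans hRN
  have hidx : T.relIndex N = 2 ^ m * S.index := by
    have h3 : T.relIndex N * N.index = T.index := Subgroup.relIndex_mul_index hTN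
    have h4 : T.relIndex S * S.index = T.index := Subgroup.relIndex_mul_index hTS
    have h5 : T.relIndex S * Nat.card T = Nat.card S := relIndex_mul_card' hTS
    have hTpos : 0 < Nat.card T := Nat.card_pos
    have h6 : T.relIndex S = 2 * 2 ^ m := by
      rw [← hTDc, hcardD, hm, mul_comm] at h5
      exact Nat.eq_of_mul_eq_mul_left hTpos h5
    rw [hNidx, ← h4, h6] at h3
    have : T.relIndex N * 2 = (2 ^ m * S.index) * 2 := by rw [h3]; ring
    exact Nat.eq_of_mul_eq_mul_right (by norm_num) this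
  have hkey : ¬ 2 ∣ T.relIndex (Cfsg.pResidual 2 G) := by
    apply not_two_dvd_relIndex_pResidual_of_le N T c m S.index hRN hTR (hCN hcC) hSodd hidx
    · rw [← hcord]; exact pow_orderOf_eq_one c
    · intro k hk g hg
      have hord : orderOf (c ^ 2 ^ k) = 2 := by
        rw [orderOf_pow, hcord, hk]
        have : Nat.gcd (2 ^ (k + 1)) (2 ^ k) = 2 ^ k :=
          Nat.gcd_eq_right (pow_dvd_pow 2 (Nat.le_succ k))
        rw [this, pow_succ, Nat.mul_div_cancel_left _ (by positivity)]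
      apply h2 (c ^ 2 ^ k) (C.pow_mem hcC _) hord g⁻¹
      simpa using hg
  -- assemble
  refine ⟨Cfsg.pResidual 2 G, Cfsg.Agent.Lib.Helper2_PResidual.pResidual_normal, ?_, ?_⟩
  · have h3 := Cfsg.Agent.Lib.Helper2_PResidual.sylow_sup_pResidual (hS2.toSylow hSsyl)
    rw [IsPGroup.toSylow_coe] at h3
    rw [eq_top_iff, ← h3, ← hTD]
    refine sup_le (sup_le (hTR.trans le_sup_left) le_sup_right) le_sup_left
  · intro T' hT'L hT'2 hT'syl
    refine ⟨hT'L.trans hLR, ?_⟩
    -- `|T'| = |T|`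
    have hcardeq : Nat.card T' = Nat.card T := by
      have hs1 : IsPGroup 2 ↥(T'.subgroupOf L) := hT'2.comap_subtype
      have hs2 : IsPGroup 2 ↥(T.subgroupOf L) := hT2.comap_subtype
      have e1 := (hs1.toSylow (P := T'.subgroupOf L) hT'syl).card_eq_multiplicity
      have e2 := (hs2.toSylow (P := T.subgroupOf L) hTsyl).card_eq_multiplicity
      have c1 : Nat.card ↥(T'.subgroupOf L) = Nat.card T' :=
        Nat.card_congr (Subgroup.subgroupOfEquivOfLe hT'L).toEquiv
      have c2 : Nat.card ↥(T.subgroupOf L) = Nat.card T :=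
        Nat.card_congr (Subgroup.subgroupOfEquivOfLe hTL).toEquiv
      rw [← c1, ← c2]
      exact e1.trans e2.symm
    have h3 : T'.relIndex (Cfsg.pResidual 2 G) * Nat.card T' = Nat.card (Cfsg.pResidual 2 G) :=
      relIndex_mul_card' (hT'L.trans hLR)
    have h4 : T.relIndex (Cfsg.pResidual 2 G) * Nat.card T = Nat.card (Cfsg.pResidual 2 G) :=
      relIndex_mul_card' hTR
    have hTpos : 0 < Nat.card T := Nat.card_pos
    have : T'.relIndex (Cfsg.pResidual 2 G) = T.relIndex (Cfsg.pResidual 2 G) := by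
      rw [hcardeq, ← h4] at h3
      exact Nat.eq_of_mul_eq_mul_right hTpos h3
    rw [this]; exact hkey

end Cfsg.Agent.S1924
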