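-- Statement S1936: p'-subgroups abelian of exponent dividing p - 1 implies solvable.
import Cfsg.Statements.S1936
import Cfsg.Agent.Lib.Helper21_PP9
import Cfsg.Agent.Lib.Helper3_CharBurnside

set_option autoImplicit false
open Cfsg

namespace Cfsg.Agent.S1936

open Subgroup

universe u

/-- The hypothesis of the statement, in elementwise form. -/
def Hyp (p : ℕ) (G : Type u) [Group G] : Prop :=
  ∀ H : Subgroup G, (Nat.card H).Coprime p →
    (∀ a ∈ H, ∀ b ∈ H, a * b = b * a) ∧ ∀ x ∈ H, x ^ (p - 1) = 1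

theorem Hyp.subgroup {p : ℕ} {G : Type u} [Group G] (h : Hyp p G) (K : Subgroup G) :
    Hyp p K := by
  intro H hH
  have hcard : Nat.card (H.map K.subtype) = Nat.card H :=
    Subgroup.card_map_of_injective K.subtype_injective
  obtain ⟨h1, h2⟩ := h (H.map K.subtype) (by rw [hcard]; exact hH)
  refine ⟨fun a ha b hb => ?_, fun x hx => ?_⟩
  · apply Subtype.ext
    have := h1 a ⟨a, ha, rfl⟩ b ⟨b, hb, rfl⟩
    simpa using this
  · apply Subtype.ext
    have := h2 x ⟨x, hx, rfl⟩
    simpa using this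

/-- Lifting a `p'`-subgroup of a quotient to a `p'`-subgroup (Frattini plus Schur-Zassenhaus). -/
theorem exists_lift {p : ℕ} [Fact p.Prime] {G : Type u} [Group G] [Finite G]
    (N : Subgroup G) [N.Normal]
    (Hbar : Subgroup (G ⧸ N)) (hHbar : (Nat.card Hbar).Coprime p) :
    ∃ C : Subgroup G, (Nat.card C).Coprime p ∧
      ∀ x ∈ Hbar, ∃ c ∈ C, (QuotientGroup.mk c : G ⧸ N) = x := by
  classical
  have hp := (Fact.out : p.Prime)
  set H : Subgroup G := Hbar.comap (QuotientGroup.mk' N) with hH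
  have hNH : N ≤ H := by
    intro n hn
    rw [hH, Subgroup.mem_comap]
    have : (QuotientGroup.mk' N) n = 1 := (QuotientGroup.eq_one_iff n).mpr hn
    rw [this]; exact one_mem _
  obtain ⟨P₀⟩ : Nonempty (Sylow p N) := inferInstance
  set P : Subgroup G := (P₀ : Subgroup N).map N.subtype with hP
  have hfrat : normalizer (P : Set G) ⊔ N = ⊤ := Sylow.normalizer_sup_eq_top P₀
  have hPN : P ≤ N := Subgroup.map_subtype_le _
  have hPp : IsPGroup p P := P₀.isPGroup'.map _
  set M : Subgroup G := H ⊓ normalizer (P : Set G) with hM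
  have hPM : P ≤ M := le_inf (hPN.trans hNH) Subgroup.le_normalizer
  have : (P.subgroupOf M).Normal :=
    (Subgroup.normal_subgroupOf_iff_le_normalizer hPM).mpr inf_le_right
  have hrelNH : N.relIndex H = Nat.card Hbar := by
    have h1 := Subgroup.relIndex_comap (H := (⊥ : Subgroup (G ⧸ N))) (QuotientGroup.mk' N) H
    rw [MonoidHom.comap_bot, QuotientGroup.ker_mk', Subgroup.relIndex_bot_left, hH,
      Subgroup.map_comap_eq_self_of_surjective (QuotientGroup.mk'_surjective N)] at h1
    exact h1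
  have hrelPN : ¬ p ∣ P.relIndex N := by
    have h1 : P.subgroupOf N = (P₀ : Subgroup N) :=
      Subgroup.comap_map_eq_self_of_injective N.subtype_injective _
    rw [Subgroup.relIndex, h1]
    exact P₀.not_dvd_index
  have hidx : ¬ p ∣ P.relIndex M := by
    intro hdvd
    have h1 : P.relIndex M * M.relIndex H = P.relIndex H :=
      Subgroup.relIndex_mul_relIndex P M H hPM inf_le_left
    have h2 : P.relIndex N * N.relIndex H = P.relIndex H :=
      Subgroup.relIndex_mul_relIndex P N H hPN hNH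
    have h3 : p ∣ P.relIndex N * N.relIndex H := by
      rw [h2, ← h1]; exact dvd_mul_of_dvd_left hdvd _
    rcases (Nat.Prime.dvd_mul hp).mp h3 with h4 | h4
    · exact hrelPN h4
    · rw [hrelNH] at h4
      exact (Nat.Prime.coprime_iff_not_dvd hp).mp hHbar.symm h4
  have hcop : Nat.Coprime (Nat.card (P.subgroupOf M)) (P.subgroupOf M).index := by
    rw [Cfsg.Agent.Lib.Helper24_CoprimeAction.card_subgroupOf_of_le hPM]
    obtain ⟨a, ha⟩ := IsPGroup.iff_card.mp hPp
    rw [ha]
    apply Nat.Coprime.pow_left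
    exact (Nat.Prime.coprime_iff_not_dvd hp).mpr hidx
  obtain ⟨C₀, hC₀⟩ := Subgroup.exists_right_complement'_of_coprime hcop
  have hcardC₀ : Nat.card C₀ = (P.subgroupOf M).index := by
    have := hC₀.symm.index_eq_card
    exact this.symm
  refine ⟨C₀.map M.subtype, ?_, ?_⟩
  · rw [Subgroup.card_map_of_injective M.subtype_injective, hcardC₀]
    exact ((Nat.Prime.coprime_iff_not_dvd hp).mpr hidx).symm
  · intro x hx
    obtain ⟨g, rfl⟩ := QuotientGroup.mk_surjective x
    have hgH : g ∈ H := hx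
    have hg : g ∈ normalizer (P : Set G) ⊔ N := by rw [hfrat]; exact Subgroup.mem_top g
    have hg' : g ∈ ((normalizer (P : Set G) ⊔ N : Subgroup G) : Set G) := hg
    rw [Subgroup.mul_normal] at hg'
    obtain ⟨a, ha, n, hn, rfl⟩ := Set.mem_mul.mp hg'
    have haH : a ∈ H := by
      have h1 : a = (a * n) * n⁻¹ := by group
      rw [h1]; exact H.mul_mem hgH (H.inv_mem (hNH hn))
    have haM : a ∈ M := ⟨haH, ha⟩
    obtain ⟨⟨⟨u, hu⟩, ⟨c, hc⟩⟩, huc⟩ := hC₀.2 ⟨a, haM⟩
    have huc' : (u : G) * (c : G) = a := by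
      have := congrArg Subtype.val huc
      simpa using this
    have huN : (u : G) ∈ N := hPN (Subgroup.mem_subgroupOf.mp hu)
    refine ⟨(c : G), ⟨c, hc, rfl⟩, ?_⟩
    rw [← huc']
    rw [QuotientGroup.mk_mul, QuotientGroup.mk_mul, (QuotientGroup.eq_one_iff (u : G)).mpr huN,
      (QuotientGroup.eq_one_iff n).mpr hn, one_mul, mul_one]

theorem Hyp.quotient {p : ℕ} [Fact p.Prime] {G : Type u} [Group G] [Finite G] (h : Hyp p G)
    (N : Subgroup G) [N.Normal] : Hyp p (G ⧸ N) := by
  intro Hbar hHbar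
  obtain ⟨C, hC, hlift⟩ := exists_lift N Hbar hHbar
  obtain ⟨h1, h2⟩ := h C hC
  refine ⟨fun a ha b hb => ?_, fun x hx => ?_⟩
  · obtain ⟨c, hc, rfl⟩ := hlift a ha
    obtain ⟨d, hd, rfl⟩ := hlift b hb
    rw [← QuotientGroup.mk_mul, ← QuotientGroup.mk_mul, h1 c hc d hd]
  · obtain ⟨c, hc, rfl⟩ := hlift x hx
    rw [← QuotientGroup.mk_pow, h2 c hc, QuotientGroup.mk_one]

/-- The main induction for `p ≥ 5`. -/
theorem aux (p : ℕ) [Fact p.Prime] (hp5 : 5 ≤ p) :
    ∀ (n : ℕ) (G : Type u) [Group G] [Finite G], Nat.card G = n → Hyp p G →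
      Group.IsSolvable G := by
  intro n
  induction n using Nat.strong_induction_on with
  | _ n ih =>
  intro G _ _ hn hyp
  by_cases hab : ∀ a b : G, a * b = b * a
  · exact Group.isSolvable_of_comm hab
  by_cases hsimple : ∀ N : Subgroup G, N.Normal → N = ⊥ ∨ N = ⊤
  · exfalso
    refine Cfsg.Agent.Lib.Helper21_PP9.main p hp5 hyp hsimple hab ?_
    intro H hH
    have hlt : Nat.card H < n := by
      rw [← hn]
      refine lt_of_le_of_ne (Nat.le_of_dvd Nat.card_pos (Subgroup.card_subgroup_dvd_card H)) ?_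
      intro h
      exact hH (Subgroup.card_eq_iff_eq_top H |>.mp h)
    exact ih _ hlt H rfl (hyp.subgroup H)
  · simp only [not_forall, not_or] at hsimple
    obtain ⟨N, hN, hbot, htop⟩ := hsimple
    have := hN
    have hNcard : Nat.card N < n := by
      rw [← hn]
      refine lt_of_le_of_ne (Nat.le_of_dvd Nat.card_pos (Subgroup.card_subgroup_dvd_card N)) ?_
      intro h
      exact htop (Subgroup.card_eq_iff_eq_top N |>.mp h)
    have hQcard : Nat.card (G ⧸ N) < n := by
      rw [← hn, ← Subgroup.card_mul_index N]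
      have h1 : 1 < Nat.card N := by
        rw [Finite.one_lt_card_iff_nontrivial]
        exact (Subgroup.nontrivial_iff_ne_bot N).mpr hbot
      have h2 : 0 < N.index := Nat.pos_of_ne_zero (Subgroup.index_ne_zero_of_finite)
      rw [Subgroup.index_eq_card] at h2 ⊢
      nlinarith
    have : Group.IsSolvable N := ih _ hNcard N rfl (hyp.subgroup N)
    have : Group.IsSolvable (G ⧸ N) := ih _ hQcard (G ⧸ N) rfl (hyp.quotient N)
    refine Group.isSolvable_of_ker_le_range N.subtype (QuotientGroup.mk' N) ?_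
    rw [QuotientGroup.ker_mk', Subgroup.range_subtype]

/-- The small cases `p ≤ 3`: only the primes `2` and `3` divide the order. -/
theorem small (p : ℕ) [Fact p.Prime] (hp3 : p ≤ 3) {G : Type u} [Group G] [Finite G]
    (hyp : Hyp p G) : Group.IsSolvable G := by
  have hp := (Fact.out : p.Prime)
  refine Cfsg.Agent.Lib.Helper3_CharBurnside.isSolvable_of_two_primes 2 3 Nat.prime_two
    Nat.prime_three _ G rfl ?_
  intro r hr hdvd
  by_cases hrp : r = p
  · have h2 := hp.two_le
    rw [hrp]
    omega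
  · have : Fact r.Prime := ⟨hr⟩
    obtain ⟨x, hx⟩ := exists_prime_orderOf_dvd_card' r hdvd
    have hcard : Nat.card (Subgroup.zpowers x) = r := by rw [Nat.card_zpowers, hx]
    have hcop : (Nat.card (Subgroup.zpowers x)).Coprime p := by
      rw [hcard]
      exact (Nat.coprime_primes hr hp).mpr hrp
    have h1 := (hyp _ hcop).2 x (Subgroup.mem_zpowers x)
    have h2 : r ∣ p - 1 := by
      rw [← hx]; exact orderOf_dvd_of_pow_eq_one h1
    have h3 : r ≤ p - 1 := Nat.le_of_dvd (by have := hp.two_le; omega) h2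
    have h4 := hr.two_le
    left
    omega

theorem result {G : Type*} [Group G] [Finite G] (p : ℕ) [Fact p.Prime] (h : ∀ H : Subgroup G, (Nat.card ↥H).Coprime p → IsMulCommutative ↥H ∧ ∀ x ∈ H, x ^ (p - 1) = 1) : Group.IsSolvable G := by
  have hp := (Fact.out : p.Prime)
  have hyp : Hyp p G := by
    intro H hH
    obtain ⟨h1, h2⟩ := h H hH
    refine ⟨fun a ha b hb => ?_, h2⟩
    have := h1.is_comm.comm ⟨a, ha⟩ ⟨b, hb⟩
    exact congrArg Subtype.val this
  by_cases hp3 : p ≤ 3
  · exact small p hp3 hyp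
  · have hp5 : 5 ≤ p := by
      have h4 : p ≠ 4 := by
        intro h4
        rw [h4] at hp
        exact absurd hp (by decide)
      omega
    exact aux p hp5 _ G rfl hyp

end Cfsg.Agent.S1936
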