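import Mathlib
import Cfsg.Statements.S1939

set_option autoImplicit false
open Cfsg

namespace Cfsg.Agent.S1939

theorem sylow_conj_into {G : Type*} [Group G] [Finite G] {p : ℕ} [Fact p.Prime]
    (C : Subgroup G) (P : Sylow p G) (hPC : (P : Subgroup G) ≤ C) (Q : Subgroup G) (hQC : Q ≤ C)
    (hQ : IsPGroup p Q) : ∃ c ∈ C, ∀ x ∈ Q, c * x * c⁻¹ ∈ (P : Subgroup G) := by
  let P' : Sylow p C := P.subtype hPC
  have hpg : IsPGroup p (Q.subgroupOf C) := hQ.comap_subtype
  obtain ⟨R, hR⟩ := hpg.exists_le_sylow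
  obtain ⟨c, hc⟩ := MulAction.exists_smul_eq C R P'
  refine ⟨c, c.2, ?_⟩
  intro x hx
  have h1 : (⟨x, hQC hx⟩ : C) ∈ R := hR (by simpa [Subgroup.mem_subgroupOf] using hx)
  have h2 : c * ⟨x, hQC hx⟩ * c⁻¹ ∈ (P' : Subgroup C) := by
    rw [← hc, Sylow.coe_subgroup_smul]
    exact Subgroup.smul_mem_pointwise_smul _ _ _ h1
  have h3 : (P' : Subgroup C) = (P : Subgroup G).subgroupOf C := Sylow.coe_subtype P hPC
  rw [h3, Subgroup.mem_subgroupOf] at h2
  simpa using h2

/-- Let S be a Sylow p-subgroup of the finite group G and a an element of S that is the only G-conjugate of a lying in S. Then every power of a has the same property: for every n, the only G-conjugate of a^n lying in S is a^n. -/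
theorem result {G : Type*} [Group G] [Finite G] {p : ℕ} [Fact p.Prime] (S : Sylow p G) (a : G)
    (haS : a ∈ (S : Subgroup G)) (hwc : ∀ g : G, g * a * g⁻¹ ∈ (S : Subgroup G) → g * a * g⁻¹ = a) (n : ℕ) :
    ∀ g : G, g * a ^ n * g⁻¹ ∈ (S : Subgroup G) → g * a ^ n * g⁻¹ = a ^ n := by
  intro g hg
  -- a is central in S
  have hcent : ∀ s ∈ (S : Subgroup G), s * a = a * s := by
    intro s hs
    have := hwc s ((S : Subgroup G).mul_mem ((S : Subgroup G).mul_mem hs haS) ((S : Subgroup G).inv_mem hs))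
    calc s * a = s * a * s⁻¹ * s := by group
      _ = a * s := by rw [this]
  set y := g * a ^ n * g⁻¹ with hy
  -- the conjugate Sylow subgroup
  let S' : Sylow p G := g • S
  have hS' : ∀ z, z ∈ (S' : Subgroup G) ↔ g⁻¹ * z * g ∈ (S : Subgroup G) := by
    intro z
    show z ∈ ((g • S : Sylow p G) : Subgroup G) ↔ _
    rw [Sylow.coe_subgroup_smul, Subgroup.mem_pointwise_smul_iff_inv_smul_mem]
    simp [MulAut.smul_def]
  have hS'C : (S' : Subgroup G) ≤ Subgroup.centralizer ({y} : Set G) := by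
    intro z hz
    rw [hS'] at hz
    rw [Subgroup.mem_centralizer_singleton_iff]
    have h1 := hcent _ hz
    have h2 : (g⁻¹ * z * g) * a ^ n = a ^ n * (g⁻¹ * z * g) := by
      exact ((Commute.pow_right (show Commute (g⁻¹ * z * g) a from h1) n)).eq
    rw [hy]
    calc z * (g * a ^ n * g⁻¹) = g * ((g⁻¹ * z * g) * a ^ n) * g⁻¹ := by group
      _ = g * (a ^ n * (g⁻¹ * z * g)) * g⁻¹ := by rw [h2]
      _ = g * a ^ n * g⁻¹ * z := by group
  have haC : Subgroup.zpowers a ≤ Subgroup.centralizer ({y} : Set G) := by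
    rw [Subgroup.zpowers_le, Subgroup.mem_centralizer_singleton_iff]
    exact (hcent y hg).symm
  have hpa : IsPGroup p (Subgroup.zpowers a) :=
    S.isPGroup'.to_le (by rw [Subgroup.zpowers_le]; exact haS)
  obtain ⟨c, hcC, hc⟩ := sylow_conj_into _ S' hS'C _ haC hpa
  have h1 := hc a (Subgroup.mem_zpowers a)
  rw [hS'] at h1
  have h2 : (g⁻¹ * c) * a * (g⁻¹ * c)⁻¹ = a := by
    apply hwc
    convert h1 using 1
    group
  have h3 : c * a * c⁻¹ = g * a * g⁻¹ := by
    calc c * a * c⁻¹ = g * ((g⁻¹ * c) * a * (g⁻¹ * c)⁻¹) * g⁻¹ := by group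
      _ = g * a * g⁻¹ := by rw [h2]
  have h4 : c * a ^ n * c⁻¹ = y := by
    rw [hy, ← conj_pow, ← conj_pow, h3]
  rw [Subgroup.mem_centralizer_singleton_iff] at hcC
  -- hcC : c * y = y * c
  calc y = c⁻¹ * (c * y) := by group
    _ = c⁻¹ * (y * c) := by rw [hcC]
    _ = c⁻¹ * (c * a ^ n * c⁻¹ * c) := by rw [h4]
    _ = a ^ n := by group

end Cfsg.Agent.S1939
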