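import Mathlib
import Cfsg.Statements.S1940

set_option autoImplicit false
open Cfsg

namespace Cfsg.Agent.S1940

/-- Let the finite group L act by automorphisms on the finite abelian group M, and let N be an L-invariant subgroup of M such that M/N is a p-group on which L acts trivially (every l • m lies in the coset mN). If every element of M is a product of an element of N and an element fixed by a Sylow p-subgroup T of L, then every element of M is a product of an element of N and an element fixed by all of L. -/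
theorem result {L : Type*} [Group L] [Finite L] {M : Type*} [CommGroup M] [Finite M] [MulDistribMulAction L M]
    {p : ℕ} [Fact p.Prime] (N : Subgroup M) (hN : ∀ (l : L) (m : M), m ∈ N → l • m ∈ N)
    (hquot : IsPGroup p (M ⧸ N)) (htriv : ∀ (l : L) (m : M), (l • m) * m⁻¹ ∈ N) (T : Sylow p L)
    (hT : ∀ m : M, ∃ n ∈ N, ∃ c : M, (∀ t ∈ (T : Subgroup L), t • c = c) ∧ m = n * c) :
    ∀ m : M, ∃ n ∈ N, ∃ c : M, (∀ l : L, l • c = c) ∧ m = n * c := by
  classical
  intro m
  have : Fintype (L ⧸ (T : Subgroup L)) := Fintype.ofFinite _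
  have hcop : (Nat.card (M ⧸ N)).Coprime (T : Subgroup L).index := by
    obtain ⟨e, he⟩ := IsPGroup.exists_card_eq hquot
    rw [he]
    apply Nat.Coprime.pow_left
    rw [Nat.Prime.coprime_iff_not_dvd Fact.out]; exact T.not_dvd_index
  obtain ⟨y, hy⟩ := (powCoprime hcop).surjective (QuotientGroup.mk m : M ⧸ N)
  obtain ⟨m₁, rfl⟩ := QuotientGroup.mk_surjective y
  obtain ⟨n₁, hn₁, c₁, hc₁, hm₁⟩ := hT m₁
  let f : L ⧸ (T : Subgroup L) → M := fun q => Quotient.liftOn' q (fun l => l • c₁) (by
    intro a b hab
    rw [QuotientGroup.leftRel_apply] at hab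
    have : b = a * (a⁻¹ * b) := by group
    show a • c₁ = b • c₁
    rw [this, mul_smul, hc₁ _ hab])
  have hf : ∀ l : L, f (QuotientGroup.mk l) = l • c₁ := fun l => rfl
  have hfl : ∀ (l : L) (q : L ⧸ (T : Subgroup L)), l • f q = f (l • q) := by
    intro l q
    induction q using QuotientGroup.induction_on with
    | H x =>
      rw [hf, MulAction.Quotient.smul_mk, hf, smul_eq_mul, mul_smul]
  set c' : M := ∏ q : L ⧸ (T : Subgroup L), f q with hc'
  have hfix : ∀ l : L, l • c' = c' := by
    intro l
    rw [hc', Finset.smul_prod']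
    simp_rw [hfl]
    exact Equiv.prod_comp (MulAction.toPerm l) f
  have hmk : ∀ q, (QuotientGroup.mk (f q) : M ⧸ N) = QuotientGroup.mk c₁ := by
    intro q
    induction q using QuotientGroup.induction_on with
    | H x =>
      rw [hf, QuotientGroup.eq]
      have := htriv x c₁
      have h2 : (x • c₁)⁻¹ * c₁ = ((x • c₁) * c₁⁻¹)⁻¹ := by simp [mul_comm]
      rw [h2]; exact N.inv_mem this
  have hmk' : (QuotientGroup.mk c' : M ⧸ N) = QuotientGroup.mk m := by
    rw [hc', ← QuotientGroup.mk'_apply, map_prod]
    simp only [QuotientGroup.mk'_apply, hmk]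
    rw [Finset.prod_const, Finset.card_univ, ← hy]
    have h3 : (QuotientGroup.mk m₁ : M ⧸ N) = QuotientGroup.mk c₁ := by
      rw [hm₁, QuotientGroup.mk_mul, (QuotientGroup.eq_one_iff n₁).mpr hn₁, one_mul]
    rw [powCoprime_apply, h3, Subgroup.index, Nat.card_eq_fintype_card]
  refine ⟨m * c'⁻¹, ?_, c', hfix, by simp⟩
  rw [← QuotientGroup.eq_one_iff, QuotientGroup.mk_mul, QuotientGroup.mk_inv, hmk']
  simp
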