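import Cfsg.Statements.S1941
import Cfsg.Agent.Lib.Helper95_Gaschutz
import Cfsg.Agent.Lib.Helper21_FStar
import Cfsg.Agent.Lib.Helper29_Local
import Cfsg.Agent.Lib.Helper1_Cores

set_option autoImplicit false
open Cfsg

namespace Cfsg.Agent.S1941

/-- Let G be a finite group with no nontrivial normal subgroup of order prime to p, T a Sylow p-subgroup of G and E(G) the layer of G (the subgroup generated by its components). An automorphism of G of p-power order that fixes T and E(G) elementwise is inner. -/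
theorem result {G : Type*} [Group G] [Finite G] {p : ℕ} [Fact p.Prime] (hcore : Cfsg.pPrimeCore p G = ⊥)
    (T : Sylow p G) (α : MulAut G) (hα : ∃ j : ℕ, orderOf α = p ^ j) (hfixT : ∀ x ∈ (T : Subgroup G), α x = x)
    (hfixE : ∀ x ∈ Cfsg.layer G, α x = x) : ∃ g : G, ∀ x : G, α x = g * x * g⁻¹ := by
  classical
  -- the fixed-point subgroup of α
  let Fix : Subgroup G := MonoidHom.eqLocus α.toMonoidHom (MonoidHom.id G)
  have hFix : ∀ x, x ∈ Fix ↔ α x = x := fun x => Iff.rfl
  -- F(G) ≤ O_p(G)
  have hF : fittingSubgroup G ≤ pCore p G := by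
    rw [Cfsg.Agent.Lib.Helper1_Cores.fittingSubgroup_eq_iSup_pCore]
    refine iSup_le (fun q => ?_)
    by_cases hq : (q : ℕ) = p
    · rw [hq]
    · have : Fact (q : ℕ).Prime := ⟨q.2⟩
      have h1 : pCore (q : ℕ) G ≤ pPrimeCore p G :=
        Cfsg.Agent.Lib.Helper1_Cores.le_pPrimeCore (Cfsg.Agent.Lib.Helper1_Cores.pCore_normal _)
          (Cfsg.Agent.Lib.Helper1_Cores.pCore_card_coprime hq)
      rw [hcore] at h1
      exact h1.trans bot_le
  have hFstar : generalizedFittingSubgroup G ≤ Fix := by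
    unfold generalizedFittingSubgroup
    refine sup_le (fun x hx => (hFix x).mpr (hfixE x hx)) ?_
    intro x hx
    exact (hFix x).mpr (hfixT x (Cfsg.Agent.Lib.Helper1_Cores.pCore_le_sylow p T (hF hx)))
  have hFn : (generalizedFittingSubgroup G).Normal :=
    Cfsg.Agent.Lib.Helper29_Local.generalizedFittingSubgroup_normal G
  let K : Subgroup G := Subgroup.centralizer (generalizedFittingSubgroup G : Set G)
  have hKn : K.Normal := Subgroup.normal_centralizer
  have hKle : K ≤ generalizedFittingSubgroup G :=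
    Cfsg.Agent.Lib.Helper21_FStar.centralizer_generalizedFitting_le
  have hKcomm : IsMulCommutative K := by
    refine ⟨⟨fun a b => ?_⟩⟩
    apply Subtype.ext
    have := Subgroup.mem_centralizer_iff.mp a.2 b (hKle b.2)
    simpa using this.symm
  have hKnil : Group.IsNilpotent K := by
    let inst : CommGroup K := { (inferInstance : Group K) with mul_comm := fun a b => mul_comm' a b }
    exact @CommGroup.isNilpotent K inst
  have hKp : IsPGroup p K := by
    have h1 : K ≤ pCore p G :=
      (Cfsg.Agent.Lib.Helper1_Cores.le_fittingSubgroup hKn hKnil).trans hF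
    exact (Cfsg.Agent.Lib.Helper1_Cores.pCore_isPGroup p).to_le h1
  -- the crossed homomorphism
  have hdmem : ∀ g : G, α g * g⁻¹ ∈ K := by
    intro g
    rw [Subgroup.mem_centralizer_iff]
    intro x hx
    have hy : g⁻¹ * x * g ∈ generalizedFittingSubgroup G := by
      have := hFn.conj_mem x hx g⁻¹
      simpa using this
    have h1 : α (g⁻¹ * x * g) = g⁻¹ * x * g := (hFix _).mp (hFstar hy)
    have h2 : α x = x := (hFix _).mp (hFstar hx)
    rw [map_mul, map_mul, map_inv, h2] at h1
    -- (α g)⁻¹ * x * α g = g⁻¹ * x * g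
    have h3 : x * α g = α g * (g⁻¹ * x * g) := by
      rw [← h1]; group
    calc x * (α g * g⁻¹) = (x * α g) * g⁻¹ := by group
      _ = α g * (g⁻¹ * x * g) * g⁻¹ := by rw [h3]
      _ = α g * g⁻¹ * x := by group
  let d : G → K := fun g => ⟨α g * g⁻¹, hdmem g⟩
  have hd : Cfsg.Agent.Lib.Helper95_Gaschutz.IsCrossed K d := by
    intro g h
    apply Subtype.ext
    show α (g * h) * (g * h)⁻¹ = (α g * g⁻¹) * (g * (α h * h⁻¹) * g⁻¹)
    rw [map_mul]; group
  have hU : ∀ u ∈ (T : Subgroup G), d u = 1 := by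
    intro u hu
    apply Subtype.ext
    show α u * u⁻¹ = 1
    rw [hfixT u hu, mul_inv_cancel]
  have hcop : (Nat.card K).Coprime (T : Subgroup G).index := by
    obtain ⟨k, hk⟩ := IsPGroup.iff_card.mp hKp
    rw [hk]
    apply Nat.Coprime.pow_left
    rw [Nat.Prime.coprime_iff_not_dvd Fact.out]
    exact T.not_dvd_index
  obtain ⟨e, he⟩ := Cfsg.Agent.Lib.Helper95_Gaschutz.IsCrossed.exists_principal hd (T : Subgroup G) hU hcop
  refine ⟨(e : G), fun x => ?_⟩
  have h1 := congrArg (fun k : K => (k : G)) (he x)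
  have h2 : α x * x⁻¹ = (e : G) * ((x * (e : G) * x⁻¹))⁻¹ := h1
  calc α x = (α x * x⁻¹) * x := by group
    _ = (e : G) * ((x * (e : G) * x⁻¹))⁻¹ * x := by rw [h2]
    _ = (e : G) * x * (e : G)⁻¹ := by group

end Cfsg.Agent.S1941
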