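import Cfsg.Statements.S1944
import Cfsg.Agent.Lib.Helper33_Trace
import Cfsg.Agent.Lib.Helper1_Cores
import Cfsg.Agent.Lib.Helper53_Conj

set_option autoImplicit false
open Cfsg

namespace Cfsg.Agent.S1944

open Cfsg.Agent.Lib.Helper1_Cores Cfsg.Agent.Lib.Helper33_Trace

variable {G : Type*} [Group G] [Finite G] {p : ℕ} [Fact p.Prime]

/-- a `p`-subgroup meets the `p'`-core trivially -/
theorem eq_one_of_mem_of_mem_pPrimeCore {P : Subgroup G} (hP : IsPGroup p P) {x : G}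
    (hx : x ∈ P) (hxK : x ∈ Cfsg.pPrimeCore p G) : x = 1 := by
  have hp : p.Prime := Fact.out
  have h1 : IsPGroup p ((P ⊓ Cfsg.pPrimeCore p G : Subgroup G)) := hP.to_le inf_le_left
  have h2 : Nat.card (P ⊓ Cfsg.pPrimeCore p G : Subgroup G) ∣ Nat.card (Cfsg.pPrimeCore p G) :=
    Subgroup.card_dvd_of_le inf_le_right
  have h3 : (Nat.card (P ⊓ Cfsg.pPrimeCore p G : Subgroup G)).Coprime p :=
    Nat.Coprime.coprime_dvd_left h2 (pPrimeCore_card_coprime p)
  have h4 : Nat.card (P ⊓ Cfsg.pPrimeCore p G : Subgroup G) = 1 := by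
    rcases h1.card_eq_or_dvd with h | h
    · exact h
    · exact absurd h ((Nat.Prime.coprime_iff_not_dvd hp).mp h3.symm)
  have h5 : (P ⊓ Cfsg.pPrimeCore p G : Subgroup G) = ⊥ := Subgroup.card_eq_one.mp h4
  have : x ∈ (P ⊓ Cfsg.pPrimeCore p G : Subgroup G) := ⟨hx, hxK⟩
  rw [h5] at this
  exact Subgroup.mem_bot.mp this


local notation "Kp" => Cfsg.pPrimeCore p G

open Cfsg.Agent.Lib.Helper53_Conj in
theorem main (S : Sylow p G)
    (hZ : ((S : Subgroup G) ⊓ Subgroup.centralizer ((S : Subgroup G) : Set G)) ≤ Cfsg.pPrimePCore p G) :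
    ∃ W K : Subgroup G, (∀ x : G, x ∈ W ↔ (x ∈ (S : Subgroup G) ∧ ∀ g : G, g * x * g⁻¹ ∈ (S : Subgroup G) → g * x * g⁻¹ = x)) ∧
      K ≤ ((S : Subgroup G) ⊓ Subgroup.centralizer ((S : Subgroup G) : Set G)) ∧ W ⊓ K = ⊥ ∧ W ⊔ K = ((S : Subgroup G) ⊓ Subgroup.centralizer ((S : Subgroup G) : Set G)) := by
  classical
  have hp : p.Prime := Fact.out
  obtain ⟨π, hπdef⟩ : ∃ π : G →* G ⧸ Kp, π = QuotientGroup.mk' Kp := ⟨_, rfl⟩
  have hπ : Function.Surjective π := hπdef ▸ QuotientGroup.mk'_surjective Kp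
  have hπker : ∀ x : G, π x = 1 ↔ x ∈ Kp := by
    intro x
    rw [hπdef, QuotientGroup.mk'_apply, QuotientGroup.eq_one_iff]
  obtain ⟨ZS, hZS⟩ : ∃ ZS : Subgroup G, ZS = (S : Subgroup G) ⊓
      Subgroup.centralizer ((S : Subgroup G) : Set G) := ⟨_, rfl⟩
  rw [← hZS] at hZ ⊢
  have hZS_S : ZS ≤ (S : Subgroup G) := hZS ▸ inf_le_left
  have hZS_c : ∀ z ∈ ZS, ∀ s ∈ (S : Subgroup G), s * z = z * s := by
    intro z hz s hs
    rw [hZS, Subgroup.mem_inf] at hz
    exact (Subgroup.mem_centralizer_iff.mp hz.2) s hs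
  -- kernel facts
  have hker : ∀ x ∈ (S : Subgroup G), π x = 1 → x = 1 := by
    intro x hx h
    apply eq_one_of_mem_of_mem_pPrimeCore S.2 hx
    exact (hπker x).mp h
  -- the Sylow subgroup of the quotient
  obtain ⟨Tb, hTb⟩ : ∃ Tb : Subgroup (G ⧸ Kp), Tb = (S : Subgroup G).map π := ⟨_, rfl⟩
  have hSb : ((S.mapSurjective hπ : Sylow p (G ⧸ Kp)) : Subgroup (G ⧸ Kp)) = Tb :=
    hTb ▸ Sylow.coe_mapSurjective hπ S
  have hTbidx : ¬ p ∣ Tb.index := hSb ▸ (S.mapSurjective hπ).not_dvd_index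
  obtain ⟨Qb, hQb⟩ : ∃ Qb : Subgroup (G ⧸ Kp), Qb = Cfsg.pCore p (G ⧸ Kp) := ⟨_, rfl⟩
  haveI hQbn : Qb.Normal := by rw [hQb]; infer_instance
  have hQbTb : Qb ≤ Tb := by
    rw [hQb, ← hSb]
    exact pCore_le_sylow p _
  have hZQ : ∀ z ∈ ZS, π z ∈ Qb := by
    intro z hz
    have h1 := hZ hz
    unfold Cfsg.pPrimePCore at h1
    rw [Subgroup.mem_comap, ← hπdef, ← hQb] at h1
    exact h1
  -- the abelian normal subgroup `V`
  obtain ⟨Vb, hVb⟩ : ∃ Vb : Subgroup (G ⧸ Kp), Vb = Qb ⊓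
      Subgroup.centralizer (Qb : Set (G ⧸ Kp)) := ⟨_, rfl⟩
  haveI hVn : Vb.Normal := by
    haveI : (Subgroup.centralizer (Qb : Set (G ⧸ Kp))).Normal := Subgroup.normal_centralizer
    rw [hVb]
    infer_instance
  have hVle : Vb ≤ Qb ⊓ Subgroup.centralizer (Qb : Set (G ⧸ Kp)) := hVb.le
  haveI hVc : IsMulCommutative Vb := ⟨⟨fun a b => Subtype.ext (by
    have ha := Subgroup.mem_inf.mp (hVle a.2)
    have hb := Subgroup.mem_inf.mp (hVle b.2)
    exact ((Subgroup.mem_centralizer_iff.mp ha.2) (b : G ⧸ Kp) hb.1).symm)⟩⟩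
  have hVQ : Vb ≤ Qb := hVb ▸ inf_le_left
  have hmemV : ∀ z ∈ ZS, π z ∈ Vb := by
    intro z hz
    rw [hVb, Subgroup.mem_inf]
    refine ⟨hZQ z hz, ?_⟩
    rw [Subgroup.mem_centralizer_iff]
    intro y hy
    have hy' := hQbTb hy
    rw [hTb] at hy'
    obtain ⟨s, hs, rfl⟩ := hy'
    rw [← map_mul, ← map_mul, hZS_c z hz s hs]
  have hinv : ∀ z ∈ ZS, ∀ t ∈ Tb, t * π z * t⁻¹ = π z := by
    intro z hz t ht
    rw [hTb] at ht
    obtain ⟨s, hs, rfl⟩ := ht
    rw [← map_inv, ← map_mul, ← map_mul, hZS_c z hz s hs]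
    congr 1
    group
  -- the trace homomorphism
  let φ : ↥ZS →* ↥Vb := MonoidHom.mk' (fun z => tr Vb Tb ⟨π z, hmemV z z.2⟩) (by
    intro a b
    rw [← tr_mul]
    congr 1
    apply Subtype.ext
    simp [map_mul])
  have hφ : ∀ z : ↥ZS, φ z = tr Vb Tb ⟨π z, hmemV z z.2⟩ := fun z => rfl
  -- the subgroup `W`
  obtain ⟨W, hW⟩ : ∃ W : Subgroup G, W = (S : Subgroup G) ⊓
      (Subgroup.center (G ⧸ Kp)).comap π := ⟨_, rfl⟩
  have hWmem : ∀ x, x ∈ W ↔ x ∈ (S : Subgroup G) ∧ ∀ gb : G ⧸ Kp, gb * π x = π x * gb := by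
    intro x
    rw [hW, Subgroup.mem_inf, Subgroup.mem_comap, Subgroup.mem_center_iff]
  -- forward direction of the characterization
  have hchar1 : ∀ x ∈ W, ∀ g : G, g * x * g⁻¹ ∈ (S : Subgroup G) → g * x * g⁻¹ = x := by
    intro x hx g hg
    obtain ⟨hxS, hxc⟩ := (hWmem x).mp hx
    have h1 : x⁻¹ * (g * x * g⁻¹) ∈ (S : Subgroup G) :=
      Subgroup.mul_mem _ (Subgroup.inv_mem _ hxS) hg
    have h2 : π (x⁻¹ * (g * x * g⁻¹)) = 1 := by
      rw [map_mul, map_mul, map_mul, map_inv, map_inv, hxc (π g)]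
      group
    have h3 := hker _ h1 h2
    have : g * x * g⁻¹ = x * (x⁻¹ * (g * x * g⁻¹)) := by group
    rw [this, h3, mul_one]
  have hWZS : W ≤ ZS := by
    intro x hx
    have hxS := ((hWmem x).mp hx).1
    rw [hZS, Subgroup.mem_inf]
    refine ⟨hxS, ?_⟩
    rw [Subgroup.mem_centralizer_iff]
    intro s hs
    have h1 := hchar1 x hx s (Subgroup.mul_mem _ (Subgroup.mul_mem _ hs hxS) (Subgroup.inv_mem _ hs))
    calc s * x = (s * x * s⁻¹) * s := by group
      _ = x * s := by rw [h1]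
  have hWS : W ≤ (S : Subgroup G) := hWZS.trans hZS_S
  -- central elements of `V` coming from `W`
  have hWcen : ∀ x ∈ W, ∀ h : G ⧸ Kp, h * π x * h⁻¹ = π x := by
    intro x hx h
    rw [((hWmem x).mp hx).2 h]
    group
  refine ⟨W, φ.ker.map ZS.subtype, ?_, Subgroup.map_subtype_le _, ?_, ?_⟩
  · -- the characterization of `W`
    intro x
    constructor
    · intro hx
      exact ⟨hWS hx, hchar1 x hx⟩
    · rintro ⟨hxS, hwc⟩
      have hxZ : x ∈ ZS := by
        rw [hZS, Subgroup.mem_inf]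
        refine ⟨hxS, ?_⟩
        rw [Subgroup.mem_centralizer_iff]
        intro s hs
        have h1 := hwc s (Subgroup.mul_mem _ (Subgroup.mul_mem _ hs hxS) (Subgroup.inv_mem _ hs))
        calc s * x = (s * x * s⁻¹) * s := by group
          _ = x * s := by rw [h1]
      rw [hWmem]
      refine ⟨hxS, ?_⟩
      intro gb
      obtain ⟨g, rfl⟩ := hπ gb
      -- the conjugate `y = g x g⁻¹`
      have hyQ : π (g * x * g⁻¹) ∈ Qb := by
        rw [map_mul, map_mul, map_inv]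
        exact hQbn.conj_mem _ (hZQ x hxZ) _
      have hyT := hQbTb hyQ
      rw [hTb] at hyT
      obtain ⟨s, hs, hsy⟩ := hyT
      have hy : g * x * g⁻¹ ∈ (S : Subgroup G) ⊔ Kp := by
        have h1 : s⁻¹ * (g * x * g⁻¹) ∈ Kp := by
          rw [← hπker, map_mul, map_inv, hsy]
          group
        have h2 : g * x * g⁻¹ = s * (s⁻¹ * (g * x * g⁻¹)) := by group
        rw [h2]
        exact Subgroup.mul_mem _ (le_sup_left (a := (S : Subgroup G)) hs)
          (le_sup_right (b := Kp) h1)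
      have hYp : IsPGroup p ((Subgroup.zpowers x).map (MulAut.conj g).toMonoidHom) :=
        (S.2.to_le ((Subgroup.zpowers_le).mpr hxS)).map _
      have hYle : (Subgroup.zpowers x).map (MulAut.conj g).toMonoidHom ≤
          (S : Subgroup G) ⊔ Kp := by
        rw [MonoidHom.map_zpowers, Subgroup.zpowers_le]
        exact hy
      obtain ⟨n, hn, hle⟩ := exists_mem_le_cj_sylow S ((S : Subgroup G) ⊔ Kp) _ le_sup_left
        hYle hYp
      have hyn : n⁻¹ * (g * x * g⁻¹) * n ∈ (S : Subgroup G) := by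
        rw [← mem_cj]
        apply hle
        exact ⟨x, Subgroup.mem_zpowers x, rfl⟩
      have h3 := hwc (n⁻¹ * g) (by
        have e : n⁻¹ * g * x * (n⁻¹ * g)⁻¹ = n⁻¹ * (g * x * g⁻¹) * n := by group
        rw [e]; exact hyn)
      have h4 : g * x * g⁻¹ = n * x * n⁻¹ := by
        have e : n⁻¹ * g * x * (n⁻¹ * g)⁻¹ = n⁻¹ * (g * x * g⁻¹) * n := by group
        rw [e] at h3
        calc g * x * g⁻¹ = n * (n⁻¹ * (g * x * g⁻¹) * n) * n⁻¹ := by group
          _ = n * x * n⁻¹ := by rw [h3]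
      -- `π n` lies in `Tb`
      have hnT : π n ∈ Tb := by
        have h5 : ((S : Subgroup G) ⊔ Kp).map π = Tb := by
          rw [Subgroup.map_sup, ← hTb]
          have : Subgroup.map π Kp = ⊥ := by
            rw [hπdef]
            exact QuotientGroup.map_mk'_self Kp
          rw [this, sup_bot_eq]
        rw [← h5]
        exact Subgroup.mem_map_of_mem π hn
      have h6 := hinv x hxZ (π n) hnT
      have h7 : π g * π x * (π g)⁻¹ = π x := by
        have e1 : π g * π x * (π g)⁻¹ = π (g * x * g⁻¹) := by rw [map_mul, map_mul, map_inv]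
        have e2 : π n * π x * (π n)⁻¹ = π (n * x * n⁻¹) := by rw [map_mul, map_mul, map_inv]
        rw [e1, h4, ← e2, h6]
      calc π g * π x = (π g * π x * (π g)⁻¹) * π g := by group
        _ = π x * π g := by rw [h7]
  · -- `W ⊓ K = ⊥`
    rw [eq_bot_iff]
    rintro x ⟨hxW, z, hzker, rfl⟩
    rw [Subgroup.mem_bot]
    have hzW : (z : G) ∈ W := hxW
    have h1 : φ z = 1 := hzker
    rw [hφ, tr_of_central Vb Tb _ (hWcen _ hzW)] at h1
    obtain ⟨k, hk⟩ := S.2 ⟨(z : G), hZS_S z.2⟩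
    have hk' : (z : G) ^ p ^ k = 1 := by
      have := congrArg Subtype.val hk
      simpa using this
    have h2 : (⟨π z, hmemV z z.2⟩ : ↥Vb) ^ p ^ k = 1 := by
      apply Subtype.ext
      show (π z) ^ p ^ k = 1
      rw [← map_pow, hk', map_one]
    have hd1 : orderOf (⟨π z, hmemV z z.2⟩ : ↥Vb) ∣ Tb.index := orderOf_dvd_of_pow_eq_one h1
    have hd2 : orderOf (⟨π z, hmemV z z.2⟩ : ↥Vb) ∣ p ^ k := orderOf_dvd_of_pow_eq_one h2
    have hcop : Nat.Coprime Tb.index (p ^ k) :=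
      Nat.Coprime.pow_right k ((Nat.Prime.coprime_iff_not_dvd hp).mpr hTbidx).symm
    have h3 : orderOf (⟨π z, hmemV z z.2⟩ : ↥Vb) = 1 := Nat.eq_one_of_dvd_coprimes hcop hd1 hd2
    have h4 : (⟨π z, hmemV z z.2⟩ : ↥Vb) = 1 := orderOf_eq_one_iff.mp h3
    have h5 : π z = 1 := congrArg Subtype.val h4
    exact hker _ (hZS_S z.2) h5
  · -- `W ⊔ K = Z(S)`
    apply le_antisymm
    · exact sup_le hWZS (Subgroup.map_subtype_le _)
    · intro z hz
      -- the trace of `z`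
      obtain ⟨tb, htb⟩ : ∃ tb : ↥Vb, tb = φ ⟨z, hz⟩ := ⟨_, rfl⟩
      have htbT := hQbTb (hVQ tb.2)
      rw [hTb] at htbT
      obtain ⟨t, ht, htt⟩ := htbT
      have htcen : ∀ h : G ⧸ Kp, h * (tb : G ⧸ Kp) * h⁻¹ = tb := by
        intro h
        rw [htb, hφ]
        exact conj_tr Vb Tb _ (fun s hs => hinv z hz s hs) h
      have htW : t ∈ W := by
        rw [hWmem]
        refine ⟨ht, ?_⟩
        intro gb
        rw [htt]
        calc gb * (tb : G ⧸ Kp) = (gb * (tb : G ⧸ Kp) * gb⁻¹) * gb := by group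
          _ = (tb : G ⧸ Kp) * gb := by rw [htcen gb]
      -- take the `n`-th root of `t` in `W`
      have hWp : IsPGroup p W := S.2.to_le hWS
      have hcopn : p.Coprime Tb.index := (Nat.Prime.coprime_iff_not_dvd hp).mpr hTbidx
      obtain ⟨w, hw⟩ := (hWp.powEquiv hcopn).surjective ⟨t, htW⟩
      have hw' : (w : G) ^ Tb.index = t := by
        have := congrArg Subtype.val hw
        simpa [IsPGroup.powEquiv] using this
      have hwZ : (w : G) ∈ ZS := hWZS w.2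
      have hφw : φ ⟨(w : G), hwZ⟩ = tb := by
        rw [hφ, tr_of_central Vb Tb _ (hWcen _ w.2)]
        apply Subtype.ext
        show (π (w : G)) ^ Tb.index = tb
        rw [← map_pow, hw', htt]
      have hmem : (w : G)⁻¹ * z ∈ φ.ker.map ZS.subtype := by
        refine ⟨⟨(w : G), hwZ⟩⁻¹ * ⟨z, hz⟩, ?_, rfl⟩
        show _ ∈ φ.ker
        rw [MonoidHom.mem_ker, map_mul, map_inv, hφw, htb]
        exact inv_mul_cancel _
      have : z = (w : G) * ((w : G)⁻¹ * z) := by group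
      rw [this]
      exact Subgroup.mul_mem _ (le_sup_left (a := W) w.2)
        (le_sup_right (b := φ.ker.map ZS.subtype) hmem)

/-- Let S be a Sylow p-subgroup of the finite group G and suppose that the centre Z(S) lies in O_{p',p}(G). The elements of S each of which is its only G-conjugate in S form a subgroup W of Z(S); W is then a direct factor of Z(S): there is a subgroup K of Z(S) with W ∩ K = 1 and WK = Z(S). -/
theorem result {G : Type*} [Group G] [Finite G] {p : ℕ} [Fact p.Prime] (S : Sylow p G)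
    (hZ : ((S : Subgroup G) ⊓ Subgroup.centralizer ((S : Subgroup G) : Set G)) ≤ Cfsg.pPrimePCore p G) :
    ∃ W K : Subgroup G, (∀ x : G, x ∈ W ↔ (x ∈ (S : Subgroup G) ∧ ∀ g : G, g * x * g⁻¹ ∈ (S : Subgroup G) → g * x * g⁻¹ = x)) ∧
      K ≤ ((S : Subgroup G) ⊓ Subgroup.centralizer ((S : Subgroup G) : Set G)) ∧ W ⊓ K = ⊥ ∧ W ⊔ K = ((S : Subgroup G) ⊓ Subgroup.centralizer ((S : Subgroup G) : Set G)) :=
  main S hZ

end Cfsg.Agent.S1944
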