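import Cfsg.Statements.S2799
import Cfsg.Agent.S1974
import Cfsg.Agent.Lib.Helper72_WCS4

set_option autoImplicit false
open Cfsg

namespace Cfsg.Agent.S2799

open Cfsg.Agent.Lib.Helper72_JAFunctor Cfsg.Agent.Lib.Helper72_JAloc

/-- once an iterated commutator is trivial it stays trivial -/
theorem iterCommutator_eq_bot {G : Type*} [Group G] (U Z : Subgroup G)
    (h : ⁅⁅U, Z⁆, Z⁆ = ⊥) : ∀ k : ℕ, Cfsg.iterCommutator U Z (k + 2) = ⊥ := by
  intro k
  induction k with
  | zero => exact h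
  | succ k ih =>
    show ⁅Cfsg.iterCommutator U Z (k + 2), Z⁆ = ⊥
    rw [ih, Subgroup.commutator_bot_left]

/-- Let S be a Sylow p-subgroup of the finite group G, J(S) the subgroup generated by the abelian subgroups of S of largest order, and x an element of S lying in the centre of N_G(J(S)). Assume that p is odd, or that x is a p-th power of an element of Z(S), or that the symmetric group of degree 4 is not involved in G. Then x is weakly closed in S with respect to G: every G-conjugate of x that lies in S equals x. -/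
theorem result {G : Type*} [Group G] [Finite G] {p : ℕ} [Fact p.Prime] (S : Sylow p G) (x : G) (hxS : x ∈ (S : Subgroup G)) (hxZ : x ∈ (Subgroup.center ↥(Subgroup.normalizer ((Cfsg.thompsonSubgroupAOf (S : Subgroup G)) : Set G))).map (Subgroup.normalizer ((Cfsg.thompsonSubgroupAOf (S : Subgroup G)) : Set G)).subtype) (h : p ≠ 2 ∨ (∃ z ∈ (S : Subgroup G) ⊓ Subgroup.centralizer ((S : Subgroup G) : Set G), z ^ p = x) ∨ ¬ Cfsg.Involves (Equiv.Perm (Fin 4)) G) : ∀ g : G, g * x * g⁻¹ ∈ (S : Subgroup G) → g * x * g⁻¹ = x := by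
  have hW : Cfsg.IsConjugacyFunctor p (WJ (G := G)) := isConjugacyFunctor_WJ
  have hWZ : ∀ P : Subgroup G, IsPGroup p ↥P → P ⊓ Subgroup.centralizer (P : Set G) ≤ WJ P :=
    fun P _ => center_le_WJ P
  have hSp : IsPGroup p ↥(S : Subgroup G) := S.2
  have hidx : ¬ p ∣ (S : Subgroup G).relIndex ⊤ := by
    rw [Subgroup.relIndex_top_right]; exact S.not_dvd_index
  -- `x` centralizes `N_G(J(S))`
  have hxC : x ∈ Subgroup.centralizer ((Subgroup.normalizer ((WJ (S : Subgroup G) : Subgroup G) : Set G) : Subgroup G) : Set G) := by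
    obtain ⟨y, hy, rfl⟩ := hxZ
    rw [Subgroup.mem_centralizer_iff]
    intro n hn
    have := Subgroup.mem_center_iff.mp hy ⟨n, hn⟩
    exact congrArg Subtype.val this
  have hxC' : x ∈ (S : Subgroup G) ⊓ Subgroup.centralizer (((⊤ : Subgroup G) ⊓ Subgroup.normalizer ((WJ (S : Subgroup G) : Subgroup G) : Set G) : Subgroup G) : Set G) := by
    refine Subgroup.mem_inf.mpr ⟨hxS, ?_⟩
    rw [Subgroup.mem_centralizer_iff]
    intro n hn
    exact Subgroup.mem_centralizer_iff.mp hxC n hn.2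
  -- the odd case
  have hodd : p ≠ 2 → ∀ g : G, g * x * g⁻¹ ∈ (S : Subgroup G) → g * x * g⁻¹ = x := by
    intro hp2 g hg
    have hp3 : 3 ≤ p := by
      have := (Fact.out : p.Prime).two_le
      omega
    obtain ⟨k, hk⟩ : ∃ k, p - 1 = k + 2 := ⟨p - 3, by omega⟩
    have hloc : ∀ (H T : Subgroup G), T ≤ H → IsPGroup p ↥T → ¬ p ∣ (T).relIndex (H) → ¬ H ≤ Subgroup.normalizer ((WJ T : Subgroup G) : Set G) → ∃ g : G, g ∈ T ∧ g ∉ Cfsg.pCoreOf p H ∧ ∀ U V : Subgroup ↥H, Cfsg.IsChiefFactor U V → U.map H.subtype ≤ Cfsg.pCoreOf p H ⊓ Subgroup.centralizer ((Cfsg.pCoreOf p H : Subgroup G) : Set G) → Cfsg.iterCommutator (U.map H.subtype) (Subgroup.zpowers g) (p - 1) ≤ V.map H.subtype := by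
      intro H T hTH hT hidxT hnN
      obtain ⟨g, hgT, hgP, hquad⟩ := hloc_quadratic H T hTH hT hidxT hnN
      refine ⟨g, hgT, hgP, ?_⟩
      intro U V _ hUB
      have h1 : ⁅⁅U.map H.subtype, Subgroup.zpowers g⁆, Subgroup.zpowers g⁆ = ⊥ := by
        rw [eq_bot_iff, ← hquad]
        exact Subgroup.commutator_mono (Subgroup.commutator_mono hUB le_rfl) le_rfl
      rw [hk, iterCommutator_eq_bot _ _ h1 k]
      exact bot_le
    exact Cfsg.Agent.Lib.Helper72_WCEngel.engel_weakly_closed WJ hW hWZ hloc ⊤ (S : Subgroup G)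
      le_top hSp hidx x hxC' g (Subgroup.mem_top g) hg
  rcases h with h | h | h
  · exact hodd h
  · -- `x` is a `p`-th power of an element of `Z(S)`
    obtain ⟨z, hz, rfl⟩ := h
    have hloc : ∀ (H T : Subgroup G), T ≤ H → IsPGroup p ↥T → ¬ p ∣ (T).relIndex (H) → ¬ H ≤ Subgroup.normalizer ((WJ T : Subgroup G) : Set G) → ∃ g : G, g ∈ T ∧ g ∉ Cfsg.pCoreOf p H ∧ ⁅⁅Cfsg.pCoreOf p H ⊓ Subgroup.centralizer ((Cfsg.pCoreOf p H : Subgroup G) : Set G), Subgroup.zpowers g⁆, Subgroup.zpowers g⁆ = ⊥ :=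
      fun H T hTH hT hidxT hnN => hloc_quadratic H T hTH hT hidxT hnN
    have key := (Cfsg.Agent.S1974.result S WJ hW hWZ hloc _ rfl).1
    intro g hg
    apply key (z ^ p) _ g hg
    refine Subgroup.mem_inf.mpr ⟨?_, hxC⟩
    apply Subgroup.subset_closure
    exact ⟨z, hz, rfl⟩
  · by_cases hp2 : p = 2
    · subst hp2
      intro g hg
      exact Cfsg.Agent.Lib.Helper72_WCS4.s4free_weakly_closed h ⊤ (S : Subgroup G) le_top hSp hidx
        x hxC' g (Subgroup.mem_top g) hg
    · exact hodd hp2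

end Cfsg.Agent.S2799
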