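import Cfsg.Statements.S1945
import Cfsg.Agent.S1944
import Cfsg.Agent.S1963
import Cfsg.Agent.S2799
import Cfsg.Agent.Lib.Helper33_TraceSplit
import Cfsg.Agent.Lib.Helper72_JAFunctor
import Cfsg.Agent.Lib.Helper55_Fitting
import Cfsg.Agent.Lib.Helper23_PComp

set_option autoImplicit false
open Cfsg

namespace Cfsg.Agent.S1945

open Cfsg.Agent.Lib.Helper1_Cores Cfsg.Agent.Lib.Helper72_JAFunctor

variable {G : Type*} [Group G] [Finite G] {p : ℕ} [Fact p.Prime]

/-- In a solvable group `Z(S) ≤ O_{p',p}(G)` (Hall–Higman 1.2.3). -/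
theorem center_le_of_solvable [Group.IsSolvable G] (S : Sylow p G) :
    ((S : Subgroup G) ⊓ Subgroup.centralizer ((S : Subgroup G) : Set G)) ≤
      Cfsg.pPrimePCore p G := by
  intro z hz
  unfold Cfsg.pPrimePCore
  rw [Subgroup.mem_comap]
  obtain ⟨π, hπdef⟩ : ∃ π : G →* G ⧸ Cfsg.pPrimeCore p G,
    π = QuotientGroup.mk' (Cfsg.pPrimeCore p G) := ⟨_, rfl⟩
  rw [← hπdef]
  have hπ : Function.Surjective π := hπdef ▸ QuotientGroup.mk'_surjective _
  have h0 := Cfsg.Agent.Lib.Helper23_PComp.pPrimeCore_quotient_eq_bot G p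
  have h1 := Cfsg.Agent.Lib.Helper55_Fitting.centralizer_pCore_le
    (G := G ⧸ Cfsg.pPrimeCore p G) p h0
  apply h1
  rw [Subgroup.mem_centralizer_iff]
  intro y hy
  have h2 : y ∈ ((S.mapSurjective hπ : Sylow p (G ⧸ Cfsg.pPrimeCore p G)) :
      Subgroup (G ⧸ Cfsg.pPrimeCore p G)) := pCore_le_sylow p _ hy
  rw [Sylow.coe_mapSurjective] at h2
  obtain ⟨s, hs, rfl⟩ := h2
  rw [← map_mul, ← map_mul, (Subgroup.mem_centralizer_iff.mp hz.2) s hs]

/-- The case of an odd prime. -/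
theorem odd_case (hp2 : p ≠ 2) (S : Sylow p G) :
    ∃ W K : Subgroup G, (∀ x : G, x ∈ W ↔ (x ∈ (S : Subgroup G) ∧
        ∀ g : G, g * x * g⁻¹ ∈ (S : Subgroup G) → g * x * g⁻¹ = x)) ∧
      K ≤ ((S : Subgroup G) ⊓ Subgroup.centralizer ((S : Subgroup G) : Set G)) ∧ W ⊓ K = ⊥ ∧
      W ⊔ K = ((S : Subgroup G) ⊓ Subgroup.centralizer ((S : Subgroup G) : Set G)) := by
  classical
  have hp : p.Prime := Fact.out
  obtain ⟨J, hJ⟩ : ∃ J : Subgroup G, J = Cfsg.thompsonSubgroupAOf (S : Subgroup G) := ⟨_, rfl⟩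
  obtain ⟨N, hN⟩ : ∃ N : Subgroup G, N = Subgroup.normalizer
    ((Cfsg.thompsonSubgroupAOf (S : Subgroup G) : Subgroup G) : Set G) := ⟨_, rfl⟩
  obtain ⟨ZS, hZS⟩ : ∃ ZS : Subgroup G, ZS = (S : Subgroup G) ⊓
    Subgroup.centralizer ((S : Subgroup G) : Set G) := ⟨_, rfl⟩
  obtain ⟨U, hU⟩ : ∃ U : Subgroup G, U = J ⊓ Subgroup.centralizer (J : Set G) := ⟨_, rfl⟩
  rw [← hZS]
  have hJS : J ≤ (S : Subgroup G) := hJ ▸ Subgroup.map_subtype_le _
  have hWf : Cfsg.IsConjugacyFunctor p (WJ (G := G)) := isConjugacyFunctor_WJ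
  have hNJ : N = Subgroup.normalizer (J : Set G) := by rw [hN, hJ]
  have hSN : (S : Subgroup G) ≤ N := by
    rw [hN]
    exact (Subgroup.le_normalizer).trans
      (Cfsg.Agent.S1963.normalizer_le_normalizer_W WJ hWf S.2)
  have hZSJ : ZS ≤ J := by
    rw [hZS, hJ]
    exact center_le_WJ (S : Subgroup G)
  have hZSU : ZS ≤ U := by
    intro z hz
    rw [hU, Subgroup.mem_inf]
    refine ⟨hZSJ hz, ?_⟩
    rw [hZS] at hz
    exact Subgroup.centralizer_le (by exact_mod_cast hJS) hz.2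
  have hUJ : U ≤ J := hU ▸ inf_le_left
  have hUS : U ≤ (S : Subgroup G) := hUJ.trans hJS
  have hUN : U ≤ N := hUS.trans hSN
  have hUc : ∀ a ∈ U, ∀ b ∈ U, a * b = b * a := by
    intro a ha b hb
    rw [hU] at ha hb
    exact (Subgroup.mem_centralizer_iff.mp hb.2 a ha.1)
  -- conjugation by `N` preserves `U`
  have hNU : ∀ n ∈ N, ∀ u ∈ U, n * u * n⁻¹ ∈ U := by
    intro n hn u hu
    rw [hNJ] at hn
    rw [hU, Subgroup.mem_inf] at hu ⊢
    refine ⟨(Subgroup.mem_normalizer_iff.mp hn u).mp hu.1, ?_⟩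
    rw [Subgroup.mem_centralizer_iff]
    intro j hj
    have hj' : n⁻¹ * j * n ∈ J := by
      have := (Subgroup.mem_normalizer_iff.mp (Subgroup.inv_mem _ hn) j).mp hj
      simpa using this
    have h1 := Subgroup.mem_centralizer_iff.mp hu.2 _ hj'
    calc j * (n * u * n⁻¹) = n * ((n⁻¹ * j * n) * u) * n⁻¹ := by group
      _ = n * (u * (n⁻¹ * j * n)) * n⁻¹ := by rw [h1]
      _ = n * u * n⁻¹ * j := by group
  -- pass to the group `↥N`
  obtain ⟨V', hV'⟩ : ∃ V' : Subgroup ↥N, V' = U.subgroupOf N := ⟨_, rfl⟩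
  obtain ⟨T', hT'⟩ : ∃ T' : Subgroup ↥N, T' = (S : Subgroup G).subgroupOf N := ⟨_, rfl⟩
  have hV'n : V'.Normal := by
    constructor
    intro v hv n
    rw [hV', Subgroup.mem_subgroupOf] at hv ⊢
    exact hNU n n.2 v hv
  have hV'c : ∀ a ∈ V', ∀ b ∈ V', a * b = b * a := by
    intro a ha b hb
    rw [hV', Subgroup.mem_subgroupOf] at ha hb
    exact Subtype.ext (hUc a ha b hb)
  have hV'p : IsPGroup p V' := by
    rw [hV']
    exact (S.2.to_le hUS).comap_subtype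
  have hidx : ¬ p ∣ T'.index := by
    rw [hT']
    intro hdvd
    apply S.not_dvd_index
    have h1 : (S : Subgroup G).relIndex N * N.index = (S : Subgroup G).index :=
      Subgroup.relIndex_mul_index hSN
    rw [← h1]
    exact Dvd.dvd.mul_right hdvd _
  obtain ⟨K', hK'le, hK'inf, hK'sup⟩ :=
    Cfsg.Agent.Lib.Helper33_TraceSplit.exists_complement V' hV'c hV'p T' hidx
  -- membership in `V' ⊓ C(T')` and `V' ⊓ Z(N)`
  have hmemZ : ∀ x : ↥N, x ∈ V' ⊓ Subgroup.centralizer (T' : Set ↥N) ↔ (x : G) ∈ ZS := by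
    intro x
    rw [Subgroup.mem_inf, hV', Subgroup.mem_subgroupOf, Subgroup.mem_centralizer_iff]
    constructor
    · rintro ⟨hxU, hxc⟩
      rw [hZS, Subgroup.mem_inf]
      refine ⟨hUS hxU, ?_⟩
      rw [Subgroup.mem_centralizer_iff]
      intro s hs
      have := hxc ⟨s, hSN hs⟩ (by rw [hT', SetLike.mem_coe, Subgroup.mem_subgroupOf]; exact hs)
      exact congrArg Subtype.val this
    · intro hx
      refine ⟨hZSU hx, ?_⟩
      intro t ht
      rw [hT', SetLike.mem_coe, Subgroup.mem_subgroupOf] at ht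
      rw [hZS] at hx
      exact Subtype.ext (Subgroup.mem_centralizer_iff.mp hx.2 t ht)
  have hwc_of : ∀ x : G, x ∈ ZS → (∀ n ∈ N, n * x = x * n) →
      ∀ g : G, g * x * g⁻¹ ∈ (S : Subgroup G) → g * x * g⁻¹ = x := by
    intro x hx hxN
    have hxS : x ∈ (S : Subgroup G) := by rw [hZS] at hx; exact hx.1
    apply Cfsg.Agent.S2799.result S x hxS ?_ (Or.inl hp2)
    rw [← hN]
    refine ⟨⟨x, hSN hxS⟩, ?_, rfl⟩
    rw [SetLike.mem_coe, Subgroup.mem_center_iff]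
    intro n
    exact Subtype.ext (hxN n n.2)
  have of_wc : ∀ x : G, x ∈ (S : Subgroup G) →
      (∀ g : G, g * x * g⁻¹ ∈ (S : Subgroup G) → g * x * g⁻¹ = x) →
      x ∈ ZS ∧ ∀ n ∈ N, n * x = x * n := by
    intro x hxS hwc
    have hxZ : x ∈ ZS := by
      rw [hZS, Subgroup.mem_inf]
      refine ⟨hxS, ?_⟩
      rw [Subgroup.mem_centralizer_iff]
      intro s hs
      have h1 := hwc s (Subgroup.mul_mem _ (Subgroup.mul_mem _ hs hxS) (Subgroup.inv_mem _ hs))
      calc s * x = (s * x * s⁻¹) * s := by group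
        _ = x * s := by rw [h1]
    refine ⟨hxZ, ?_⟩
    intro n hn
    have h1 : n * x * n⁻¹ ∈ J := by
      rw [hNJ] at hn
      exact (Subgroup.mem_normalizer_iff.mp hn x).mp (hZSJ hxZ)
    have h2 := hwc n (hJS h1)
    calc n * x = (n * x * n⁻¹) * n := by group
      _ = x * n := by rw [h2]
  have hmemW : ∀ x : ↥N, x ∈ V' ⊓ Subgroup.center ↥N ↔
      ((x : G) ∈ ZS ∧ ∀ n ∈ N, n * (x : G) = (x : G) * n) := by
    intro x
    rw [Subgroup.mem_inf, hV', Subgroup.mem_subgroupOf, Subgroup.mem_center_iff]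
    constructor
    · rintro ⟨hxU, hxc⟩
      have hxN : ∀ n ∈ N, n * (x : G) = (x : G) * n := by
        intro n hn
        exact congrArg Subtype.val (hxc ⟨n, hn⟩)
      refine ⟨?_, hxN⟩
      rw [hZS, Subgroup.mem_inf]
      refine ⟨hUS hxU, ?_⟩
      rw [Subgroup.mem_centralizer_iff]
      intro s hs
      exact hxN s (hSN hs)
    · rintro ⟨hxZ, hxN⟩
      refine ⟨hZSU hxZ, ?_⟩
      intro n
      exact Subtype.ext (hxN n n.2)
  refine ⟨(V' ⊓ Subgroup.center ↥N).map N.subtype, K'.map N.subtype, ?_, ?_, ?_, ?_⟩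
  · intro x
    constructor
    · rintro ⟨y, hy, rfl⟩
      obtain ⟨hyZ, hyN⟩ := (hmemW y).mp hy
      refine ⟨?_, hwc_of _ hyZ hyN⟩
      rw [hZS] at hyZ
      exact hyZ.1
    · rintro ⟨hxS, hwc⟩
      obtain ⟨hxZ, hxN⟩ := of_wc x hxS hwc
      exact ⟨⟨x, hSN hxS⟩, (hmemW _).mpr ⟨hxZ, hxN⟩, rfl⟩
  · rintro _ ⟨y, hy, rfl⟩
    exact (hmemZ y).mp (hK'le hy)
  · rw [← Subgroup.map_inf _ _ _ N.subtype_injective, hK'inf, Subgroup.map_bot]
  · rw [← Subgroup.map_sup, hK'sup]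
    ext x
    constructor
    · rintro ⟨y, hy, rfl⟩
      exact (hmemZ y).mp hy
    · intro hx
      have hxS : x ∈ (S : Subgroup G) := by rw [hZS] at hx; exact hx.1
      exact ⟨⟨x, hSN hxS⟩, (hmemZ _).mpr hx, rfl⟩

/-- Let S be a Sylow p-subgroup of the finite group G, and assume that p is odd or that G is solvable. The elements of S each of which is its only G-conjugate in S form a subgroup W of Z(S); W is then a direct factor of Z(S): there is a subgroup K of Z(S) with W ∩ K = 1 and WK = Z(S). (For p = 2 and G not solvable this can fail.) -/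
theorem result {G : Type*} [Group G] [Finite G] {p : ℕ} [Fact p.Prime] (S : Sylow p G) (h : p ≠ 2 ∨ Group.IsSolvable G) :
    ∃ W K : Subgroup G, (∀ x : G, x ∈ W ↔ (x ∈ (S : Subgroup G) ∧ ∀ g : G, g * x * g⁻¹ ∈ (S : Subgroup G) → g * x * g⁻¹ = x)) ∧
      K ≤ ((S : Subgroup G) ⊓ Subgroup.centralizer ((S : Subgroup G) : Set G)) ∧ W ⊓ K = ⊥ ∧ W ⊔ K = ((S : Subgroup G) ⊓ Subgroup.centralizer ((S : Subgroup G) : Set G)) := by
  rcases h with h | h
  · exact odd_case h S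
  · exact Cfsg.Agent.S1944.result S (center_le_of_solvable S)

end Cfsg.Agent.S1945
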