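-- Statement S1946: normal p-complement iff P controls fusion of its elements of order p (and 4).
import Cfsg.Statements.S1946
import Cfsg.Agent.Lib.Helper35_PGroupAut
import Cfsg.Agent.S0072

set_option autoImplicit false
open Cfsg

namespace Cfsg.Agent.S1946

open Cfsg.Agent.Lib.Helper35_FrobeniusNPC Cfsg.Agent.Lib.Helper35_PGroupAut Subgroup

section aux

variable {G : Type*} [Group G]

/-- a subgroup with a normal complement controls its own fusion -/
theorem control_of_isComplement' {N H : Subgroup G} (hNn : N.Normal) (hNc : N.IsComplement' H)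
    {x : G} (hx : x ∈ H) {g : G} (hy : g * x * g⁻¹ ∈ H) :
    ∃ h ∈ H, g * x * g⁻¹ = h * x * h⁻¹ := by
  obtain ⟨⟨n, h⟩, hnh, -⟩ := (Subgroup.isComplement_iff_existsUnique.mp hNc) g
  refine ⟨h, h.2, ?_⟩
  have hnh' : (n : G) * h = g := hnh
  set y := g * x * g⁻¹ with hydef
  set x' := (h : G) * x * (h : G)⁻¹ with hx'
  have hx'H : x' ∈ H := mul_mem (mul_mem h.2 hx) (inv_mem h.2)
  have hy' : y = n * x' * (n : G)⁻¹ := by rw [hydef, ← hnh', hx']; group
  have h1 : y * x'⁻¹ ∈ N := by
    have : y * x'⁻¹ = n * (x' * (n : G)⁻¹ * x'⁻¹) := by rw [hy']; group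
    rw [this]
    exact mul_mem n.2 (hNn.conj_mem _ (inv_mem n.2) x')
  have h2 : y * x'⁻¹ ∈ H := mul_mem hy (inv_mem hx'H)
  have h3 : y * x'⁻¹ ∈ N ⊓ H := ⟨h1, h2⟩
  rw [hNc.disjoint.eq_bot, Subgroup.mem_bot] at h3
  exact mul_inv_eq_one.mp h3

end aux

/-- Let P be a Sylow p-subgroup of the finite group G. Then G has a normal p-complement if and only if P controls the fusion of its elements of order dividing p (dividing 4 when p = 2): whenever such an element a of P has a G-conjugate g a g⁻¹ in P, that conjugate is already x a x⁻¹ for some x in P. -/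
theorem result {G : Type*} [Group G] [Finite G] {p : ℕ} [Fact p.Prime] (P : Sylow p G) :
    Cfsg.HasNormalPComplement p G ↔
      ∀ a ∈ (P : Subgroup G), (a ^ p = 1 ∨ (p = 2 ∧ a ^ 4 = 1)) → ∀ g : G, g * a * g⁻¹ ∈ (P : Subgroup G) →
        ∃ x ∈ (P : Subgroup G), g * a * g⁻¹ = x * a * x⁻¹ := by
  have hp : p.Prime := Fact.out
  rw [Cfsg.Agent.S0072.hasNPC_iff]
  constructor
  · rintro ⟨K, hKn, hKc, n, hKi⟩ a ha _ g hg
    exact control_of_isComplement' hKn (isComplement'_of_npc hKc hKi P) ha hg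
  · intro hyp
    apply hasNPC_of_frobHyp
    apply frobHyp_of_le_sylow P
    intro Q hQP g hgN hgo
    -- the exponent `e`
    obtain ⟨e, hpe, hpe2, hcond⟩ : ∃ e : ℕ, p ∣ e ∧ p ∣ e.choose 2 ∧
        ∀ x : G, x ^ e = 1 → (x ^ p = 1 ∨ (p = 2 ∧ x ^ 4 = 1)) := by
      by_cases hp2 : p = 2
      · subst hp2
        exact ⟨4, by norm_num, by decide, fun x hx => Or.inr ⟨rfl, hx⟩⟩
      · have h2 : 2 < p := lt_of_le_of_ne hp.two_le (Ne.symm hp2)
        exact ⟨p, dvd_rfl, hp.dvd_choose_self (by norm_num) h2, fun x hx => Or.inl hx⟩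
    have key : ∀ (n : ℕ) (Q : Subgroup G), Q ≤ (P : Subgroup G) → Nat.card ↥Q = n →
        g ∈ normalizer (Q : Set G) → g ∈ centralizer (Q : Set G) := by
      intro n
      induction n using Nat.strong_induction_on with
      | _ n ih =>
      intro Q hQP hcard hgN
      have hQ : IsPGroup p Q := P.2.to_le hQP
      rcases mem_centralizer_or_exponent hpe hpe2 hgo Q hQ hgN
        (fun R hRQ hRne hNR =>
          ih _ (hcard ▸ card_lt_of_le_of_ne hRQ hRne) R (hRQ.trans hQP) rfl hNR) with h | h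
      · exact h
      · apply mem_centralizer_of_control P hQP hgN hgo
        intro x hx
        exact hyp x (hQP hx) (hcond x (h x hx)) g
          (hQP ((Subgroup.mem_normalizer_iff.mp hgN x).mp hx))
    exact key _ Q hQP rfl hgN

end Cfsg.Agent.S1946
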