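-- Statement S1947: elements of order p (4) in a term of the upper central series ⇒ normal p-complement.
import Cfsg.Statements.S1947
import Cfsg.Agent.Lib.Helper35_PGroupAut
import Cfsg.Agent.S0072

set_option autoImplicit false
open Cfsg

namespace Cfsg.Agent.S1947

open Cfsg.Agent.Lib.Helper35_FrobeniusNPC Cfsg.Agent.Lib.Helper35_PGroupAut Subgroup
open scoped commutatorElement

section aux

variable {G : Type*} [Group G]

/-- the terms of the upper central series are nilpotent groups -/
theorem isNilpotent_upperCentralSeries (n : ℕ) :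
    Group.IsNilpotent ↥(Subgroup.upperCentralSeries G n) := by
  rw [Subgroup.nilpotent_iff_finite_ascending_central_series]
  refine ⟨n, fun j => (Subgroup.upperCentralSeries G j).subgroupOf
    (Subgroup.upperCentralSeries G n), ⟨?_, ?_⟩, ?_⟩
  · beta_reduce
    rw [Subgroup.upperCentralSeries_zero, Subgroup.bot_subgroupOf]
  · intro x j hx g
    beta_reduce at hx ⊢
    rw [Subgroup.mem_subgroupOf] at hx ⊢
    exact Subgroup.mem_upperCentralSeries_succ_iff.mp hx g
  · beta_reduce
    rw [Subgroup.subgroupOf_self]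

/-- in a finite nilpotent group the `p`-elements lie in any given Sylow `p`-subgroup -/
theorem mem_sylow_of_isNilpotent {K : Type*} [Group K] [Finite K] [Group.IsNilpotent K] {p : ℕ}
    [Fact p.Prime] (S : Sylow p K) {a : K} {k : ℕ} (ha : a ^ p ^ k = 1) : a ∈ S := by
  have hz : IsPGroup p (Subgroup.zpowers a) := by
    rintro ⟨y, hy⟩
    obtain ⟨i, rfl⟩ := Subgroup.mem_zpowers_iff.mp hy
    refine ⟨k, ?_⟩
    apply Subtype.ext
    change (a ^ i) ^ p ^ k = 1
    rw [← zpow_natCast, ← zpow_mul, mul_comm, zpow_mul, zpow_natCast, ha, one_zpow]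
  obtain ⟨S', hS'⟩ := hz.exists_le_sylow
  obtain ⟨g, hg⟩ := MulAction.exists_smul_eq K S S'
  have : S' = S := by rw [← hg, Sylow.smul_eq_of_normal]
  rw [← this]
  exact hS' (Subgroup.mem_zpowers a)

end aux

/-- Let G be a finite group and p a prime. If every element of G of order dividing p (dividing 4 when p = 2) lies in some fixed term Z_n(G) of the upper central series, then G has a normal p-complement. -/
theorem result {G : Type*} [Group G] [Finite G] {p : ℕ} [Fact p.Prime] (n : ℕ)
    (h : ∀ a : G, (a ^ p = 1 ∨ (p = 2 ∧ a ^ 4 = 1)) → a ∈ Subgroup.upperCentralSeries G n) : Cfsg.HasNormalPComplement p G := by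
  have hp : p.Prime := Fact.out
  set K : Subgroup G := Subgroup.upperCentralSeries G n with hK
  have hnil : Group.IsNilpotent ↥K := isNilpotent_upperCentralSeries n
  obtain ⟨S⟩ : Nonempty (Sylow p ↥K) := inferInstance
  -- `V`: the `p`-elements of `K`
  have hV : ∀ (a : G) (k : ℕ), a ∈ K → a ^ p ^ k = 1 → ∃ ha : a ∈ K, (⟨a, ha⟩ : ↥K) ∈ S := by
    intro a k ha hak
    refine ⟨ha, mem_sylow_of_isNilpotent S (k := k) ?_⟩
    apply Subtype.ext
    exact hak
  -- every `p'`-element commutes with every `p`-element of `K`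
  have key : ∀ g : G, (orderOf g).Coprime p → ∀ i : ℕ, ∀ a : G, a ∈ Subgroup.upperCentralSeries G i →
      (∃ ha : a ∈ K, (⟨a, ha⟩ : ↥K) ∈ S) → Commute g a := by
    intro g hg i
    induction i with
    | zero =>
      intro a ha _
      rw [Subgroup.upperCentralSeries_zero, Subgroup.mem_bot] at ha
      rw [ha]; exact Commute.one_right g
    | succ i ih =>
      intro a ha ⟨haK, haS⟩
      set c := a⁻¹ * (g * a * g⁻¹) with hcdef
      have hcZ : c ∈ Subgroup.upperCentralSeries G i := by
        have : c = ⁅a⁻¹, g⁆ := by rw [hcdef, commutatorElement_def]; group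
        rw [this]
        exact Subgroup.mem_upperCentralSeries_succ_iff.mp (inv_mem ha) g
      have hgK : g * a * g⁻¹ ∈ K := by
        have hKn : K.Normal := by rw [hK]; infer_instance
        exact hKn.conj_mem a haK g
      -- `g a g⁻¹` is a `p`-element of `K`
      obtain ⟨k, hk⟩ := S.2 ⟨⟨a, haK⟩, haS⟩
      have hak : a ^ p ^ k = 1 := by
        have := congrArg (fun t : ↥(S : Subgroup ↥K) => ((t : ↥K) : G)) hk
        simpa using this
      have hgak : (g * a * g⁻¹) ^ p ^ k = 1 := by rw [conj_pow, hak]; group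
      obtain ⟨hgK', hgS⟩ := hV _ k hgK hgak
      have hcK : c ∈ K := mul_mem (inv_mem haK) hgK
      have hcS : (⟨c, hcK⟩ : ↥K) ∈ S := by
        have : (⟨c, hcK⟩ : ↥K) = (⟨a, haK⟩ : ↥K)⁻¹ * ⟨g * a * g⁻¹, hgK'⟩ := by
          apply Subtype.ext; rfl
        rw [this]
        exact mul_mem (inv_mem haS) hgS
      have hgc : Commute g c := ih c hcZ ⟨hcK, hcS⟩
      obtain ⟨k', hk'⟩ := (IsPGroup.iff_orderOf.mp S.2) ⟨⟨c, hcK⟩, hcS⟩
      have hoc : orderOf c = p ^ k' := by
        rw [← hk', Subgroup.orderOf_mk, Subgroup.orderOf_mk]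
      have hconj : g * a * g⁻¹ = a * c := by rw [hcdef]; group
      exact commute_of_conj_eq_mul hconj hgc (by rw [hoc]; exact Nat.Coprime.pow_right k' hg)
  rw [Cfsg.Agent.S0072.hasNPC_iff]
  apply hasNPC_of_frobHyp
  intro Q hQ g hgN hgo
  by_cases hp2 : p = 2
  · subst hp2
    apply mem_centralizer_of_commute_omega_two hgo Q hQ hgN
    intro x _ hx4
    have hxK : x ∈ K := h x (Or.inr ⟨rfl, hx4⟩)
    exact key g hgo n x hxK (hV x 2 hxK (by norm_num; exact hx4))
  · apply mem_centralizer_of_commute_omega_odd hp2 hgo Q hQ hgN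
    intro x _ hxp
    have hxK : x ∈ K := h x (Or.inl hxp)
    exact key g hgo n x hxK (hV x 1 hxK (by rw [pow_one]; exact hxp))

end Cfsg.Agent.S1947
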