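import Cfsg.Statements.S1948
import Cfsg.Agent.Lib.Helper23_Locals
import Mathlib.GroupTheory.Transfer

set_option autoImplicit false
open Cfsg

namespace Cfsg.Agent.S1948

open Cfsg.Agent.Lib.Helper49_CharP Cfsg.Agent.Lib.Helper23_Layer Cfsg.Agent.Lib.Helper23_PComp
  Cfsg.Agent.Lib.Helper23_Locals in
/-- A finite group with trivial `p'`-core and a normal Sylow `p`-subgroup has characteristic `p`. -/
theorem isCharP_of_normal_sylow {K : Type*} [Group K] [Finite K] {p : ℕ} [Fact p.Prime]
    (hO : Cfsg.pPrimeCore p K = ⊥) (S : Sylow p K) (hS : (S : Subgroup K).Normal) :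
    IsCharP p K := by
  have hSQ : (S : Subgroup K) ≤ Cfsg.pCore p K := le_pCore hS S.2
  -- every `p`-subgroup lies in `S`
  have hall : ∀ R : Subgroup K, IsPGroup p ↥R → R ≤ (S : Subgroup K) := by
    intro R hR
    obtain ⟨Q, hRQ⟩ := hR.exists_le_sylow
    obtain ⟨g, hg⟩ := MulAction.exists_smul_eq K S Q
    rw [Sylow.smul_eq_of_normal] at hg
    rw [hg]; exact hRQ
  have hQS : Cfsg.pCore p K = (S : Subgroup K) :=
    le_antisymm (hall _ (pCore_isPGroup p K)) hSQ
  have hZn : (Subgroup.centralizer ((S : Subgroup K) : Set K)).Normal := Subgroup.normal_centralizer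
  -- the centralizer `Z` of `S` has trivial `p'`-core
  have hOZ : Cfsg.pPrimeCore p ↥(Subgroup.centralizer ((S : Subgroup K) : Set K)) = ⊥ := by
    have hsn : ((Cfsg.pPrimeCore p ↥(Subgroup.centralizer ((S : Subgroup K) : Set K))).map
        (Subgroup.centralizer ((S : Subgroup K) : Set K)).subtype).IsSubnormal :=
      Subgroup.IsSubnormal.trans' (Subgroup.Normal.isSubnormal inferInstance) hZn.isSubnormal
    have hc : (Nat.card ↥((Cfsg.pPrimeCore p ↥(Subgroup.centralizer ((S : Subgroup K) : Set K))).map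
        (Subgroup.centralizer ((S : Subgroup K) : Set K)).subtype)).Coprime p := by
      rw [Subgroup.card_map_of_injective (Subgroup.subtype_injective _)]
      exact pPrimeCore_coprime p
    have hle := subnormal_coprime_le_pPrimeCore p hsn hc
    rw [hO, le_bot_iff, Subgroup.map_eq_bot_iff_of_injective _ (Subgroup.subtype_injective _)] at hle
    exact hle
  -- Burnside: `Z` is a `p`-group
  obtain ⟨P₀⟩ : Nonempty (Sylow p ↥(Subgroup.centralizer ((S : Subgroup K) : Set K))) := inferInstance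
  have hP₀S : ∀ w ∈ (P₀ : Subgroup ↥(Subgroup.centralizer ((S : Subgroup K) : Set K))),
      (w : K) ∈ (S : Subgroup K) := by
    intro w hw
    have := hall _ (P₀.2.map (Subgroup.centralizer ((S : Subgroup K) : Set K)).subtype)
    exact this ⟨w, hw, rfl⟩
  have hNC : Subgroup.normalizer ((P₀ : Subgroup ↥(Subgroup.centralizer ((S : Subgroup K) : Set K))) :
      Set ↥(Subgroup.centralizer ((S : Subgroup K) : Set K))) ≤
      Subgroup.centralizer ((P₀ : Subgroup ↥(Subgroup.centralizer ((S : Subgroup K) : Set K))) :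
        Set ↥(Subgroup.centralizer ((S : Subgroup K) : Set K))) := by
    intro z _
    rw [Subgroup.mem_centralizer_iff]
    intro w hw
    have hz := Subgroup.mem_centralizer_iff.mp z.2 (w : K) (hP₀S w hw)
    exact Subtype.ext hz
  have hcompl := MonoidHom.ker_transferSylow_isComplement' P₀ hNC
  have hker : (MonoidHom.transferSylow P₀ hNC).ker = ⊥ := by
    rw [← le_bot_iff, ← hOZ]
    apply le_pPrimeCore (MonoidHom.normal_ker _)
    have h1 := hcompl.card_mul_card
    have h3 := (P₀ : Subgroup ↥(Subgroup.centralizer ((S : Subgroup K) : Set K))).card_mul_index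
    have h4 : Nat.card ↥(MonoidHom.transferSylow P₀ hNC).ker =
        (P₀ : Subgroup ↥(Subgroup.centralizer ((S : Subgroup K) : Set K))).index := by
      have hpos : 0 < Nat.card ↥(P₀ : Subgroup ↥(Subgroup.centralizer ((S : Subgroup K) : Set K))) :=
        Nat.card_pos
      have : Nat.card ↥(MonoidHom.transferSylow P₀ hNC).ker *
          Nat.card ↥(P₀ : Subgroup ↥(Subgroup.centralizer ((S : Subgroup K) : Set K))) =
          (P₀ : Subgroup ↥(Subgroup.centralizer ((S : Subgroup K) : Set K))).index *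
          Nat.card ↥(P₀ : Subgroup ↥(Subgroup.centralizer ((S : Subgroup K) : Set K))) := by
        rw [h1, mul_comm, h3]
      exact Nat.eq_of_mul_eq_mul_right hpos this
    rw [h4]
    have hidx : ¬ p ∣ (P₀ : Subgroup ↥(Subgroup.centralizer ((S : Subgroup K) : Set K))).index :=
      P₀.not_dvd_index
    exact ((Nat.Prime.coprime_iff_not_dvd Fact.out).mpr hidx).symm
  have htop : (P₀ : Subgroup ↥(Subgroup.centralizer ((S : Subgroup K) : Set K))) = ⊤ := by
    have := hcompl.sup_eq_top
    rwa [hker, bot_sup_eq] at this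
  have hZp : IsPGroup p ↥(Subgroup.centralizer ((S : Subgroup K) : Set K)) := by
    have := P₀.2
    rw [htop] at this
    exact this.of_equiv Subgroup.topEquiv
  intro x hx
  rw [hQS] at hx ⊢
  exact hall _ hZp hx

/-- Let S be a Sylow p-subgroup of the finite group G. Then G = N_G(S)·O_{p'}(G) if and only if G is p-constrained and N_G(S) controls fusion in S, in the sense that whenever a subgroup Q of S has a conjugate g Q g⁻¹ inside S, the element g is a product n c with n normalizing S and c centralizing Q. -/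
theorem result {G : Type*} [Group G] [Finite G] {p : ℕ} [Fact p.Prime] (S : Sylow p G) :
    Subgroup.normalizer ((S : Subgroup G) : Set G) ⊔ Cfsg.pPrimeCore p G = ⊤ ↔
      (Cfsg.IsPConstrained p G ∧
        ∀ Q : Subgroup G, Q ≤ (S : Subgroup G) → ∀ g : G, Q.map (MulAut.conj g).toMonoidHom ≤ (S : Subgroup G) →
          ∃ n ∈ Subgroup.normalizer ((S : Subgroup G) : Set G), ∃ c ∈ Subgroup.centralizer (Q : Set G), g = n * c) := by
  have hsurj : Function.Surjective (QuotientGroup.mk' (Cfsg.pPrimeCore p G)) :=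
    QuotientGroup.mk'_surjective _
  have hOn : (Cfsg.pPrimeCore p G).Normal := inferInstance
  have hSO : Cfsg.pPrimeCore p G ⊓ (S : Subgroup G) = ⊥ :=
    Cfsg.Agent.Lib.Helper23_PConstrained.pPrimeCore_inf_eq_bot p S.2
  constructor
  · intro htop
    constructor
    · rw [Cfsg.Agent.Lib.Helper23_PConstrained.isPConstrained_iff_centralizer_pCore_le]
      have hnormal : ((S.mapSurjective hsurj : Sylow p (G ⧸ Cfsg.pPrimeCore p G)) :
          Subgroup (G ⧸ Cfsg.pPrimeCore p G)).Normal := by
        rw [Sylow.coe_mapSurjective]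
        apply Subgroup.normalizer_eq_top_iff.mp
        rw [eq_top_iff]
        calc (⊤ : Subgroup (G ⧸ Cfsg.pPrimeCore p G))
            = (⊤ : Subgroup G).map (QuotientGroup.mk' (Cfsg.pPrimeCore p G)) :=
              (Subgroup.map_top_of_surjective _ hsurj).symm
          _ = (Subgroup.normalizer ((S : Subgroup G) : Set G) ⊔ Cfsg.pPrimeCore p G).map
              (QuotientGroup.mk' (Cfsg.pPrimeCore p G)) := by rw [htop]
          _ = (Subgroup.normalizer ((S : Subgroup G) : Set G)).map
              (QuotientGroup.mk' (Cfsg.pPrimeCore p G)) := by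
              rw [Subgroup.map_sup, QuotientGroup.map_mk'_self, sup_bot_eq]
          _ ≤ _ := Subgroup.le_normalizer_map _
      exact isCharP_of_normal_sylow
        (Cfsg.Agent.Lib.Helper23_PComp.pPrimeCore_quotient_eq_bot G p) _ hnormal
    · intro Q hQS g hg
      have hgmem : g ∈ Subgroup.normalizer ((S : Subgroup G) : Set G) ⊔ Cfsg.pPrimeCore p G := by
        rw [htop]; trivial
      rw [← SetLike.mem_coe, Subgroup.mul_normal, Set.mem_mul] at hgmem
      obtain ⟨n, hn, o, ho, rfl⟩ := hgmem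
      refine ⟨n, hn, o, ?_, rfl⟩
      rw [Subgroup.mem_centralizer_iff]
      intro x hx
      have h1 : n * o * x * (n * o)⁻¹ ∈ (S : Subgroup G) := hg ⟨x, hx, rfl⟩
      have h2 : o * x * o⁻¹ ∈ (S : Subgroup G) := by
        have := (Subgroup.mem_normalizer_iff''.mp hn (n * o * x * (n * o)⁻¹)).mp h1
        have e : n⁻¹ * (n * o * x * (n * o)⁻¹) * n = o * x * o⁻¹ := by group
        rwa [e] at this
      have h3 : o * x * o⁻¹ * x⁻¹ ∈ (S : Subgroup G) := mul_mem h2 (inv_mem (hQS hx))
      have h4 : o * x * o⁻¹ * x⁻¹ ∈ Cfsg.pPrimeCore p G := by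
        have := hOn.conj_mem o⁻¹ (inv_mem ho) x
        have e : o * x * o⁻¹ * x⁻¹ = o * (x * o⁻¹ * x⁻¹) := by group
        rw [e]
        exact mul_mem ho this
      have h5 : o * x * o⁻¹ * x⁻¹ ∈ Cfsg.pPrimeCore p G ⊓ (S : Subgroup G) :=
        Subgroup.mem_inf.mpr ⟨h4, h3⟩
      rw [hSO, Subgroup.mem_bot] at h5
      have : x * o = (o * x * o⁻¹ * x⁻¹)⁻¹ * (o * x) := by group
      rw [this, h5, inv_one, one_mul]
  · rintro ⟨hc, hctrl⟩
    rw [eq_top_iff]
    intro g _
    -- a Sylow subgroup `T` of `M = O_{p',p}(G)` inside `S`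
    obtain ⟨T₀⟩ : Nonempty (Sylow p ↥(Cfsg.pPrimePCore p G)) := inferInstance
    obtain ⟨S₁, hS₁⟩ := (T₀.2.map (Cfsg.pPrimePCore p G).subtype).exists_le_sylow
    obtain ⟨h, hh⟩ := MulAction.exists_smul_eq G S₁ S
    have hT : ((MulAut.conjNormal (H := Cfsg.pPrimePCore p G) h • T₀ :
        Sylow p ↥(Cfsg.pPrimePCore p G)) : Subgroup ↥(Cfsg.pPrimePCore p G)).map
        (Cfsg.pPrimePCore p G).subtype ≤ (S : Subgroup G) := by
      rw [Cfsg.Agent.Lib.Helper23_Layer.sylow_conjNormal_map, ← hh, Sylow.smul_def,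
        Sylow.pointwise_smul_def]
      exact Subgroup.map_mono hS₁
    set T := (MulAut.conjNormal (H := Cfsg.pPrimePCore p G) h • T₀ :
        Sylow p ↥(Cfsg.pPrimePCore p G)) with hTdef
    -- conjugating `T` by `g`
    have h1 := Cfsg.Agent.Lib.Helper23_Layer.sylow_conjNormal_map (Cfsg.pPrimePCore p G) g T
    obtain ⟨m, hm, h2⟩ := Cfsg.Agent.Lib.Helper23_Layer.sylow_exists_cj (Cfsg.pPrimePCore p G) T
      (MulAut.conjNormal (H := Cfsg.pPrimePCore p G) g • T)
    rw [h1] at h2
    have hMle := Cfsg.Agent.Lib.Helper23_Layer.pPrimePCore_le_sup_sylow p (Cfsg.pPrimePCore p G)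
      le_rfl T
    have hm' := hMle hm
    rw [← SetLike.mem_coe, Subgroup.normal_mul, Set.mem_mul] at hm'
    obtain ⟨o, ho, t, ht, rfl⟩ := hm'
    -- `o⁻¹ g` normalizes the image of `T`
    have h3 : Cfsg.Agent.Lib.Helper23_Layer.cj (o⁻¹ * g)
        ((T : Subgroup ↥(Cfsg.pPrimePCore p G)).map (Cfsg.pPrimePCore p G).subtype) =
        (T : Subgroup ↥(Cfsg.pPrimePCore p G)).map (Cfsg.pPrimePCore p G).subtype := by
      rw [Cfsg.Agent.Lib.Helper23_Locals.cj_mul, h2, Cfsg.Agent.Lib.Helper23_Locals.cj_mul,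
        Cfsg.Agent.Lib.Helper23_PComp.cj_eq_of_mem ht, Cfsg.Agent.Lib.Helper23_Locals.cj_inv_cj]
    obtain ⟨n, hn, c, hcc, hgnc⟩ := hctrl _ hT (o⁻¹ * g) (le_of_eq h3 |>.trans hT)
    have hcM : c ∈ Cfsg.pPrimePCore p G := hc T hcc
    have hTN : (T : Subgroup ↥(Cfsg.pPrimePCore p G)).map (Cfsg.pPrimePCore p G).subtype ≤
        Subgroup.normalizer ((S : Subgroup G) : Set G) := hT.trans Subgroup.le_normalizer
    have hcmem : c ∈ Subgroup.normalizer ((S : Subgroup G) : Set G) ⊔ Cfsg.pPrimeCore p G := by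
      have := hMle hcM
      rw [sup_comm] at this
      exact (sup_le_sup_right hTN _) this
    have hg : g = o * (n * c) := by rw [← hgnc]; group
    rw [hg]
    exact mul_mem (Subgroup.mem_sup_right ho) (mul_mem (Subgroup.mem_sup_left hn) hcmem)

end Cfsg.Agent.S1948
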