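import Cfsg.Statements.S1952
import Cfsg.Agent.Lib.Helper33_Jordan

set_option autoImplicit false
open Cfsg

namespace Cfsg.Agent.S1952

open Cfsg.Agent.Lib.Helper33_Jordan
open scoped IsMulCommutative

/-- The order of a Sylow `p`-subgroup of the symmetric group of degree `p²` is `p^(p+1)`. -/
theorem card_sylow_perm (p : ℕ) [hp : Fact p.Prime] (Q : Sylow p (Equiv.Perm (Fin (p ^ 2)))) :
    Nat.card (Q : Subgroup (Equiv.Perm (Fin (p ^ 2)))) = p ^ (p + 1) := by
  rw [Sylow.card_eq_multiplicity, Nat.card_perm, Nat.card_fin, Nat.factorization_def _ hp.out]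
  congr 1
  rw [pow_two, padicValNat_factorial_mul]
  have h1 : padicValNat p (p).factorial = 1 := by
    have h2 := padicValNat_factorial_mul (p := p) 1
    rw [mul_one] at h2
    rw [h2]
    simp
  omega

/-- The group-theoretic core of the argument: a subgroup of index `p²` whose normal core has index
at least `p^(p+1)`. -/
theorem exists_subgroup {P : Type*} [Group P] [Finite P] {p : ℕ} [hp : Fact p.Prime]
    (A : Subgroup P) [A.Normal] [IsMulCommutative A] (hexp : ∀ a ∈ A, a ^ p = 1)
    (hidx : A.index = p) (x y : P) (hx : x ∈ A)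
    (hprod : ((List.range p).map (fun i => (y ^ i)⁻¹ * x * y ^ i)).prod ≠ 1) :
    ∃ H : Subgroup P, H.index = p ^ 2 ∧ p ^ (p + 1) ≤ H.normalCore.index := by
  classical
  have hexp' : ∀ m : Additive ↥A, p • m = 0 := by
    intro m
    have h1 := hexp (Additive.toMul m : ↥A) (Additive.toMul m).2
    apply Additive.toMul.injective
    rw [toMul_nsmul, toMul_zero]
    exact Subtype.ext (by simpa using h1)
  letI : Module (ZMod p) (Additive ↥A) := AddCommGroup.zmodModule hexp'
  let σ : ↥A →* ↥A := (MulAut.conjNormal y⁻¹ : MulAut ↥A).toMonoidHom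
  let τ : Additive ↥A →+ Additive ↥A := MonoidHom.toAdditive σ
  have hτ_app : ∀ a : ↥A, τ (Additive.ofMul a) = Additive.ofMul (MulAut.conjNormal y⁻¹ a) :=
    fun a => rfl
  have hτ_iter : ∀ (n : ℕ) (a : ↥A),
      τ^[n] (Additive.ofMul a) = Additive.ofMul (MulAut.conjNormal ((y⁻¹) ^ n) a) := by
    intro n
    induction n with
    | zero => intro a; simp
    | succ n ih =>
      intro a
      rw [Function.iterate_succ_apply', ih, pow_succ', map_mul, hτ_app]
      rfl
  have hconjA : ∀ g : P, g ∈ A → ∀ a : ↥A, MulAut.conjNormal g a = a := by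
    intro g hg a
    apply Subtype.ext
    rw [MulAut.conjNormal_apply]
    have h1 := mul_comm (⟨g, hg⟩ : ↥A) a
    have h2 : g * (a : P) = a * g := congrArg Subtype.val h1
    rw [h2, mul_inv_cancel_right]
  have hτ : ∀ m : Additive ↥A, τ^[p] m = m := by
    intro m
    have h1 := hτ_iter p (Additive.toMul m)
    rw [ofMul_toMul] at h1
    rw [h1, hconjA _ (hidx ▸ Subgroup.pow_index_mem A y⁻¹)]
    rfl
  have hsum : ∀ n : ℕ,
      ((Additive.toMul (∑ i ∈ Finset.range n, τ^[i] (Additive.ofMul (⟨x, hx⟩ : ↥A))) : ↥A) : P) =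
      ((List.range n).map (fun i => (y ^ i)⁻¹ * x * y ^ i)).prod := by
    intro n
    induction n with
    | zero => simp
    | succ n ih =>
      rw [Finset.sum_range_succ, toMul_add, Subgroup.coe_mul, ih, List.range_succ,
        List.map_append, List.prod_append, hτ_iter, toMul_ofMul, MulAut.conjNormal_apply]
      simp [inv_pow]
  have hz : ∑ i ∈ Finset.range p, τ^[i] (Additive.ofMul (⟨x, hx⟩ : ↥A)) ≠ 0 := by
    intro h0
    apply hprod
    rw [← hsum p, h0]
    rfl
  obtain ⟨φ, hφs, hφC⟩ := exists_functional τ hτ (Additive.ofMul (⟨x, hx⟩ : ↥A)) hz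
  let ψ : ↥A →* Multiplicative (ZMod p) := AddMonoidHom.toMultiplicativeRight φ
  have hψ_app : ∀ a : ↥A, ψ a = Multiplicative.ofAdd (φ (Additive.ofMul a)) := fun a => rfl
  have hψs : Function.Surjective ψ := by
    intro c
    obtain ⟨m, hm⟩ := hφs (Multiplicative.toAdd c)
    refine ⟨Additive.toMul m, ?_⟩
    rw [hψ_app, ofMul_toMul, hm]
    rfl
  have hkidx : ψ.ker.index = p := by
    rw [Subgroup.index_ker, MonoidHom.range_eq_top.mpr hψs, Subgroup.card_top,
      Nat.card_congr Multiplicative.toAdd, Nat.card_zmod]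
  refine ⟨ψ.ker.map A.subtype, ?_, ?_⟩
  · rw [Subgroup.index_map_subtype, hkidx, hidx, pow_two]
  · set H : Subgroup P := ψ.ker.map A.subtype with hH
    set C : Subgroup P := H.normalCore with hC
    have hCH : C ≤ H := Subgroup.normalCore_le H
    have hHA : H ≤ A := by
      rw [hH]
      exact Subgroup.map_subtype_le _
    have hCA : C ≤ A := hCH.trans hHA
    have hCn : C.Normal := Subgroup.normalCore_normal H
    let Cadd : AddSubgroup (Additive ↥A) := Subgroup.toAddSubgroup (C.subgroupOf A)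
    have hmem : ∀ m : Additive ↥A, m ∈ Cadd ↔ ((Additive.toMul m : ↥A) : P) ∈ C := fun m => Iff.rfl
    have h0 : ∀ c ∈ Cadd, φ c = 0 := by
      intro c hc
      have h1 : ((Additive.toMul c : ↥A) : P) ∈ H := hCH ((hmem c).mp hc)
      rw [hH, Subgroup.mem_map] at h1
      obtain ⟨a', ha', hae⟩ := h1
      have hae' : a' = Additive.toMul c := Subtype.ext hae
      rw [hae', MonoidHom.mem_ker, hψ_app, ofMul_toMul] at ha'
      exact ha'
    have hinv : ∀ c ∈ Cadd, τ c ∈ Cadd := by
      intro c hc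
      rw [hmem] at hc ⊢
      have h1 : τ c = Additive.ofMul (MulAut.conjNormal y⁻¹ (Additive.toMul c)) := rfl
      rw [h1, toMul_ofMul, MulAut.conjNormal_apply]
      exact hCn.conj_mem _ hc _
    have hle := hφC Cadd h0 hinv
    have hcardC : Nat.card C ≤ Nat.card Cadd := by
      apply Nat.card_le_card_of_injective
        (fun c : C => (⟨Additive.ofMul (⟨c.1, hCA c.2⟩ : ↥A), c.2⟩ : Cadd))
      intro a b hab
      apply Subtype.ext
      have h1 := congrArg (fun t : Cadd => ((Additive.toMul t.1 : ↥A) : P)) hab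
      exact h1
    have hcardA : Nat.card (Additive ↥A) = Nat.card ↥A := rfl
    rw [hcardA] at hle
    have h2 := A.card_mul_index
    have h3 := C.card_mul_index
    rw [hidx] at h2
    have hpos : 0 < Nat.card C := Nat.card_pos
    have h4 : Nat.card C * p ^ (p + 1) ≤ Nat.card C * C.index := by
      rw [h3, ← h2, pow_succ, ← mul_assoc]
      exact Nat.mul_le_mul_right _ ((Nat.mul_le_mul_right _ hcardC).trans hle)
    exact Nat.le_of_mul_le_mul_left h4 hpos

/-- Let P be a finite p-group with a normal elementary abelian subgroup A of index p, and let x ∈ A and y ∈ P with y outside A. If the product of the p conjugates y^(-i) x y^i (i = 0, …, p−1) is not the identity, then the wreath product Z_p ≀ Z_p, realised as a Sylow p-subgroup of the symmetric group of degree p², is a homomorphic image of P. -/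
theorem result {P : Type*} [Group P] [Finite P] {p : ℕ} [Fact p.Prime] (hP : IsPGroup p P) (A : Subgroup P) [A.Normal]
    (hA : Cfsg.IsElementaryAbelian p A) (hidx : A.index = p) (x y : P) (hx : x ∈ A) (hy : y ∉ A)
    (hprod : ((List.range p).map (fun i => (y ^ i)⁻¹ * x * y ^ i)).prod ≠ 1) :
    ∃ (Q : Sylow p (Equiv.Perm (Fin (p ^ 2)))) (f : P →* ↥(Q : Subgroup (Equiv.Perm (Fin (p ^ 2))))), Function.Surjective f := by
  classical
  haveI := hA.1
  obtain ⟨H, hHidx, hcore⟩ := exists_subgroup A hA.2 hidx x y hx hprod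
  have hcardQ : Nat.card (P ⧸ H) = p ^ 2 := by rw [← Subgroup.index_eq_card, hHidx]
  let e : (P ⧸ H) ≃ Fin (p ^ 2) := Finite.equivFinOfCardEq hcardQ
  let f₁ : P →* Equiv.Perm (Fin (p ^ 2)) :=
    (e.permCongrHom : Equiv.Perm (P ⧸ H) →* Equiv.Perm (Fin (p ^ 2))).comp
      (MulAction.toPermHom P (P ⧸ H))
  have hker : f₁.ker = H.normalCore := by
    rw [Subgroup.normalCore_eq_ker]
    exact MonoidHom.ker_mulEquiv_comp _ _
  have hRp : IsPGroup p f₁.range := hP.of_surjective f₁.rangeRestrict f₁.rangeRestrict_surjective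
  obtain ⟨Q, hRQ⟩ := hRp.exists_le_sylow
  have hRcard : Nat.card f₁.range = H.normalCore.index := by rw [← hker, Subgroup.index_ker]
  have hEq : f₁.range = (Q : Subgroup (Equiv.Perm (Fin (p ^ 2)))) := by
    apply Subgroup.eq_of_le_of_card_ge hRQ
    rw [card_sylow_perm, hRcard]
    exact hcore
  refine ⟨Q, f₁.codRestrict (Q : Subgroup (Equiv.Perm (Fin (p ^ 2)))) (fun g => hRQ ⟨g, rfl⟩), ?_⟩
  intro q
  have hq : (q : Equiv.Perm (Fin (p ^ 2))) ∈ f₁.range := by
    rw [hEq]
    exact q.2
  obtain ⟨g, hg⟩ := hq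
  exact ⟨g, Subtype.ext hg⟩

end Cfsg.Agent.S1952
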