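import Cfsg.Statements.S1954
import Cfsg.Agent.Lib.Helper51_Local

set_option autoImplicit false
open Cfsg
open Cfsg.Agent.Lib.Helper33_Conj Cfsg.Agent.Lib.Helper33_Alperin Cfsg.Agent.Lib.Helper51_Local

namespace Cfsg.Agent.S1954

section Ctl

variable {G : Type*} [Group G]

/-- `N_N(V)` controls strong fusion in `Q` with respect to `N`. -/
def Ctl (N Q V : Subgroup G) : Prop :=
  ∀ A : Subgroup G, A ≤ Q → ∀ n ∈ N, cj n A ≤ Q →
    ∃ h ∈ N ⊓ Subgroup.normalizer (V : Set G), ∃ c ∈ N ⊓ Subgroup.centralizer (A : Set G), n = h * c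

theorem ctl_bot (N Q : Subgroup G) : Ctl N Q ⊥ := by
  intro A _ n hn _
  have hnb : n ∈ Subgroup.normalizer (((⊥ : Subgroup G) : Subgroup G) : Set G) := by
    rw [mem_normalizer_iff_cj]
    exact Subgroup.map_bot _
  exact ⟨n, ⟨hn, hnb⟩, 1, Subgroup.one_mem _, (mul_one n).symm⟩

theorem ctl_cj {N Q V : Subgroup G} [N.Normal] {x : G} (hx : cj x Q = Q) (h : Ctl N Q V) :
    Ctl N Q (cj x V) := by
  intro A hA n hn hnA
  have hx' : cj x⁻¹ Q = Q := by rw [← hx, cj_inv_cj, hx]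
  have hA' : cj x⁻¹ A ≤ Q := by rw [← hx']; exact cj_mono hA
  have hn' : x⁻¹ * n * x ∈ N := by
    have := ‹N.Normal›.conj_mem n hn x⁻¹
    rwa [inv_inv] at this
  have hnA' : cj (x⁻¹ * n * x) (cj x⁻¹ A) ≤ Q := by
    rw [cj_mul, cj_mul, cj_cj_inv, ← hx']
    exact cj_mono hnA
  obtain ⟨h', ⟨hh'N, hh'V⟩, c', ⟨hc'N, hc'A⟩, e⟩ := h _ hA' _ hn' hnA'
  refine ⟨x * h' * x⁻¹, ⟨‹N.Normal›.conj_mem _ hh'N x, ?_⟩, x * c' * x⁻¹,
    ⟨‹N.Normal›.conj_mem _ hc'N x, ?_⟩, ?_⟩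
  · rw [← cj_normalizer]; exact conj_mem_cj hh'V
  · have := conj_mem_cj (g := x) hc'A
    rwa [cj_centralizer, cj_cj_inv] at this
  · have : x * h' * x⁻¹ * (x * c' * x⁻¹) = x * (h' * c') * x⁻¹ := by group
    rw [this, ← e]; group

theorem ctl_sup {N Q V₁ V₂ : Subgroup G} (hV₁Q : V₁ ≤ Q) (h₁ : Ctl N Q V₁) (h₂ : Ctl N Q V₂) :
    Ctl N Q (V₁ ⊔ V₂) := by
  intro A hA n hn hnA
  obtain ⟨a, ⟨haN, haV⟩, c₁, ⟨hc₁N, hc₁A⟩, rfl⟩ := h₁ A hA n hn hnA
  have e1 : cj (a * c₁) A = cj a A := by rw [cj_mul, cj_of_mem_centralizer hc₁A]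
  have haV' : cj a V₁ = V₁ := mem_normalizer_iff_cj.mp haV
  have hA₁ : A ⊔ V₁ ≤ Q := sup_le hA hV₁Q
  have haA₁ : cj a (A ⊔ V₁) ≤ Q := by
    have : cj a (A ⊔ V₁) = cj a A ⊔ cj a V₁ := Subgroup.map_sup _ _ _
    rw [this, haV', ← e1]
    exact sup_le hnA hV₁Q
  obtain ⟨b, ⟨hbN, hbV⟩, c₂, ⟨hc₂N, hc₂A⟩, e⟩ := h₂ _ hA₁ a haN haA₁
  have hc₂V₁ : c₂ ∈ Subgroup.centralizer (V₁ : Set G) :=
    Subgroup.centralizer_le (by exact_mod_cast (le_sup_right : V₁ ≤ A ⊔ V₁)) hc₂A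
  have hc₂A' : c₂ ∈ Subgroup.centralizer (A : Set G) :=
    Subgroup.centralizer_le (by exact_mod_cast (le_sup_left : A ≤ A ⊔ V₁)) hc₂A
  have hbV₁ : b ∈ Subgroup.normalizer (V₁ : Set G) := by
    have hb : b = a * c₂⁻¹ := by rw [e]; group
    rw [mem_normalizer_iff_cj, hb, cj_mul,
      cj_of_mem_centralizer (Subgroup.inv_mem _ hc₂V₁), haV']
  refine ⟨b, ⟨hbN, Subgroup.normalizer_inf_normalizer_le_normalizer_sup _ _ ⟨hbV₁, hbV⟩⟩,
    c₂ * c₁, ⟨N.mul_mem hc₂N hc₁N, Subgroup.mul_mem _ hc₂A' hc₁A⟩, ?_⟩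
  rw [e]; group

theorem ctl_sSup [Finite G] {N Q : Subgroup G} (𝒯 : Set (Subgroup G))
    (h : ∀ V' ∈ 𝒯, V' ≤ Q ∧ Ctl N Q V') : sSup 𝒯 ≤ Q ∧ Ctl N Q (sSup 𝒯) := by
  have hfin : 𝒯.Finite := Set.toFinite 𝒯
  induction 𝒯, hfin using Set.Finite.induction_on with
  | empty => rw [sSup_empty]; exact ⟨bot_le, ctl_bot N Q⟩
  | @insert a s _ _ ih =>
    rw [sSup_insert]
    have ha := h a (Set.mem_insert a s)
    have hs := ih (fun V' hV' => h V' (Set.mem_insert_of_mem a hV'))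
    exact ⟨sup_le ha.1 hs.1, ctl_sup ha.1 ha.2 hs.2⟩

end Ctl


section Local

variable {G : Type*} [Group G]

/-- The subgroup of `N_G(U)` of elements acting trivially on `U/(W ∩ U)` and acting on `W ∩ U` like
an element of `W`. -/
def Ysub (W U : Subgroup G)
    (h : ∀ x ∈ Subgroup.normalizer (U : Set G), ∀ y ∈ W ⊓ U, x * y * x⁻¹ ∈ W ⊓ U) : Subgroup G where
  carrier := {x | x ∈ Subgroup.normalizer (U : Set G) ∧ (∀ u ∈ U, x * u * x⁻¹ * u⁻¹ ∈ W ⊓ U) ∧
      ∃ w ∈ W, AgreeOn ((W ⊓ U : Subgroup G) : Set G) x w}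
  mul_mem' := by
    rintro x₁ x₂ ⟨hx₁M, hx₁U, w₁, hw₁, ag₁⟩ ⟨hx₂M, hx₂U, w₂, hw₂, ag₂⟩
    refine ⟨Subgroup.mul_mem _ hx₁M hx₂M, ?_, w₁ * w₂, W.mul_mem hw₁ hw₂, ?_⟩
    · intro u hu
      have e : x₁ * x₂ * u * (x₁ * x₂)⁻¹ * u⁻¹ =
          x₁ * (x₂ * u * x₂⁻¹ * u⁻¹) * x₁⁻¹ * (x₁ * u * x₁⁻¹ * u⁻¹) := by group
      rw [e]
      exact Subgroup.mul_mem _ (h x₁ hx₁M _ (hx₂U u hu)) (hx₁U u hu)
    · refine AgreeOn.mul ag₂ ?_
      have : cjs x₂ ((W ⊓ U : Subgroup G) : Set G) = ((W ⊓ U : Subgroup G) : Set G) := by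
        rw [← coe_cj, cj_eq_of_forall_conj_mem h hx₂M]
      rw [this]; exact ag₁
  one_mem' := by
    refine ⟨Subgroup.one_mem _, ?_, 1, W.one_mem, AgreeOn.refl _ _⟩
    intro u _
    simp
  inv_mem' := by
    rintro x ⟨hxM, hxU, w, hw, ag⟩
    refine ⟨Subgroup.inv_mem _ hxM, ?_, w⁻¹, W.inv_mem hw, ?_⟩
    · intro u hu
      have hu' : x⁻¹ * u * x ∈ U := (Subgroup.mem_normalizer_iff''.mp hxM u).mp hu
      have h1 := hxU _ hu'
      have e : x * (x⁻¹ * u * x) * x⁻¹ * (x⁻¹ * u * x)⁻¹ = (x⁻¹ * u * x⁻¹⁻¹ * u⁻¹)⁻¹ := by group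
      rw [e] at h1
      exact (Subgroup.inv_mem_iff _).mp h1
    · have := AgreeOn.inv ag
      have e : cjs x ((W ⊓ U : Subgroup G) : Set G) = ((W ⊓ U : Subgroup G) : Set G) := by
        rw [← coe_cj, cj_eq_of_forall_conj_mem h hxM]
      rwa [e] at this

variable {W U : Subgroup G}
  {h : ∀ x ∈ Subgroup.normalizer (U : Set G), ∀ y ∈ W ⊓ U, x * y * x⁻¹ ∈ W ⊓ U}

theorem mem_Ysub {x : G} : x ∈ Ysub W U h ↔ x ∈ Subgroup.normalizer (U : Set G) ∧
    (∀ u ∈ U, x * u * x⁻¹ * u⁻¹ ∈ W ⊓ U) ∧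
      ∃ w ∈ W, AgreeOn ((W ⊓ U : Subgroup G) : Set G) x w := Iff.rfl

theorem Ysub_le : Ysub W U h ≤ Subgroup.normalizer (U : Set G) := fun _ hx => hx.1

theorem centralizer_le_Ysub : Subgroup.centralizer (U : Set G) ≤ Ysub W U h := by
  intro c hc
  have hcomm : ∀ u ∈ U, c * u * c⁻¹ = u := by
    intro u hu
    have := Subgroup.mem_centralizer_iff.mp hc u hu
    rw [← this]; group
  refine ⟨Subgroup.centralizer_le_normalizer _ hc, ?_, 1, W.one_mem, ?_⟩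
  · intro u hu
    rw [hcomm u hu, mul_inv_cancel]; exact Subgroup.one_mem _
  · intro y hy
    rw [hcomm y hy.2]; group

theorem inf_normalizer_le_Ysub {P : Subgroup G} (hUP : U ≤ P)
    (hPW : P ≤ Subgroup.normalizer (W : Set G)) :
    W ⊓ Subgroup.normalizer (U : Set G) ≤ Ysub W U h := by
  rintro w ⟨hw, hwM⟩
  refine ⟨hwM, ?_, w, hw, AgreeOn.refl _ _⟩
  intro u hu
  constructor
  · have h1 : u * w⁻¹ * u⁻¹ ∈ W :=
      (Subgroup.mem_normalizer_iff.mp (hPW (hUP hu)) w⁻¹).mp (W.inv_mem hw)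
    have e : w * u * w⁻¹ * u⁻¹ = w * (u * w⁻¹ * u⁻¹) := by group
    rw [e]; exact W.mul_mem hw h1
  · have h1 : w * u * w⁻¹ ∈ U := (Subgroup.mem_normalizer_iff.mp hwM u).mp hu
    exact U.mul_mem h1 (U.inv_mem hu)

/-- `N_G(U)` normalizes `Ysub`. -/
theorem Ysub_conj_mem
    (hB : ∀ m ∈ Subgroup.normalizer (U : Set G), ∃ k ∈ Subgroup.normalizer (W : Set G),
      AgreeOn ((W ⊓ U : Subgroup G) : Set G) m k)
    {m : G} (hm : m ∈ Subgroup.normalizer (U : Set G)) {x : G} (hx : x ∈ Ysub W U h) :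
    m * x * m⁻¹ ∈ Ysub W U h := by
  obtain ⟨hxM, hxU, w, hw, ag⟩ := hx
  have hset : ∀ z ∈ Subgroup.normalizer (U : Set G),
      cjs z ((W ⊓ U : Subgroup G) : Set G) = ((W ⊓ U : Subgroup G) : Set G) := by
    intro z hz
    rw [← coe_cj, cj_eq_of_forall_conj_mem h hz]
  have hm' : m⁻¹ ∈ Subgroup.normalizer (U : Set G) := Subgroup.inv_mem _ hm
  refine ⟨Subgroup.mul_mem _ (Subgroup.mul_mem _ hm hxM) hm', ?_, ?_⟩
  · intro u hu
    have hu' : m⁻¹ * u * m ∈ U := (Subgroup.mem_normalizer_iff''.mp hm u).mp hu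
    have h1 := h m hm _ (hxU _ hu')
    have e : m * (x * (m⁻¹ * u * m) * x⁻¹ * (m⁻¹ * u * m)⁻¹) * m⁻¹ =
        m * x * m⁻¹ * u * (m * x * m⁻¹)⁻¹ * u⁻¹ := by group
    rwa [e] at h1
  · obtain ⟨k, hk, agm⟩ := hB m hm
    refine ⟨k * w * k⁻¹, (Subgroup.mem_normalizer_iff.mp hk w).mp hw, ?_⟩
    have ag_inv : AgreeOn ((W ⊓ U : Subgroup G) : Set G) m⁻¹ k⁻¹ := by
      have := AgreeOn.inv agm
      rwa [hset m hm] at this
    have ag2 : AgreeOn ((W ⊓ U : Subgroup G) : Set G) (x * m⁻¹) (w * k⁻¹) :=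
      AgreeOn.mul ag_inv (by rw [hset _ hm']; exact ag)
    have ag3 : AgreeOn ((W ⊓ U : Subgroup G) : Set G) (m * (x * m⁻¹)) (k * (w * k⁻¹)) :=
      AgreeOn.mul ag2 (by rw [hset _ (Subgroup.mul_mem _ hxM hm')]; exact agm)
    rwa [← mul_assoc, ← mul_assoc] at ag3

/-- every element of `Ysub` has a `|W|²`-th power centralizing `U` -/
theorem Ysub_pow_mem [Finite G] {y : G} (hy : y ∈ Ysub W U h) :
    y ^ (Nat.card W * Nat.card W) ∈ Subgroup.centralizer (U : Set G) := by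
  obtain ⟨hyM, hyU, w, hw, ag⟩ := hy
  have hset : ∀ z ∈ Subgroup.normalizer (U : Set G),
      cjs z ((W ⊓ U : Subgroup G) : Set G) = ((W ⊓ U : Subgroup G) : Set G) := by
    intro z hz
    rw [← coe_cj, cj_eq_of_forall_conj_mem h hz]
  have hpowW : ∀ t ∈ W, t ^ Nat.card W = 1 := by
    intro t ht
    have h2 : ((⟨t, ht⟩ : W) ^ Nat.card W : W) = 1 := pow_card_eq_one'
    have h3 := congrArg (fun x : W => (x : G)) h2
    simp only [Subgroup.coe_pow, Subgroup.coe_one] at h3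
    exact h3
  -- y^k agrees with w^k
  have agk : ∀ k : ℕ, AgreeOn ((W ⊓ U : Subgroup G) : Set G) (y ^ k) (w ^ k) := by
    intro k
    induction k with
    | zero => simp only [pow_zero]; exact AgreeOn.refl _ _
    | succ k ih =>
      rw [pow_succ, pow_succ]
      exact AgreeOn.mul ag (by rw [hset y hyM]; exact ih)
  set a := Nat.card W with ha
  set z := y ^ a with hz
  have hzY : z ∈ Ysub W U h :=
    Subgroup.pow_mem _ (show y ∈ Ysub W U h from ⟨hyM, hyU, w, hw, ag⟩) a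
  have hzc : ∀ t ∈ W ⊓ U, z * t * z⁻¹ = t := by
    intro t ht
    have := agk a t ht
    rw [hpowW w hw] at this
    rw [← hz] at this
    rw [this]; group
  -- z^k u z^-k = τ^k u
  have hzk : ∀ k : ℕ, ∀ u ∈ U, z ^ k * u * (z ^ k)⁻¹ = (z * u * z⁻¹ * u⁻¹) ^ k * u := by
    intro k u hu
    induction k with
    | zero => simp
    | succ k ih =>
      have hτ := hzY.2.1 u hu
      have hτk : (z * u * z⁻¹ * u⁻¹) ^ k ∈ W ⊓ U := Subgroup.pow_mem _ hτ k
      calc z ^ (k + 1) * u * (z ^ (k + 1))⁻¹ = z * (z ^ k * u * (z ^ k)⁻¹) * z⁻¹ := by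
            rw [pow_succ']; group
        _ = z * ((z * u * z⁻¹ * u⁻¹) ^ k * u) * z⁻¹ := by rw [ih]
        _ = (z * (z * u * z⁻¹ * u⁻¹) ^ k * z⁻¹) * (z * u * z⁻¹ * u⁻¹) * u := by group
        _ = (z * u * z⁻¹ * u⁻¹) ^ k * (z * u * z⁻¹ * u⁻¹) * u := by rw [hzc _ hτk]
        _ = (z * u * z⁻¹ * u⁻¹) ^ (k + 1) * u := by rw [pow_succ]
  rw [pow_mul, ← hz]
  rw [Subgroup.mem_centralizer_iff]
  intro u hu
  have h1 := hzk a u hu
  rw [hpowW _ (hzY.2.1 u hu).1, one_mul] at h1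
  calc u * z ^ a = (z ^ a * u * (z ^ a)⁻¹) * z ^ a := by rw [h1]
    _ = z ^ a * u := by group

end Local


section Main

variable {G : Type*} [Group G] [Finite G] {p : ℕ} [Fact p.Prime]

theorem weak_closed {P : Sylow p G} {W : Subgroup G}
    (sc : ∀ w ∈ W, ∀ g : G, g * w * g⁻¹ ∈ (P : Subgroup G) → g * w * g⁻¹ ∈ W)
    {g : G} (hg : cj g W ≤ (P : Subgroup G)) : cj g W = W := by
  apply Subgroup.eq_of_le_of_card_ge
  · intro x hx
    have hx' := mem_cj.mp hx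
    have e : g * (g⁻¹ * x * g) * g⁻¹ = x := by group
    have := sc _ hx' g (by rw [e]; exact hg hx)
    rwa [e] at this
  · rw [card_cj]

theorem local_step {P : Sylow p G} {W : Subgroup G} (hWP : W ≤ (P : Subgroup G))
    (hPW : (P : Subgroup G) ≤ Subgroup.normalizer (W : Set G))
    (sc : ∀ w ∈ W, ∀ g : G, g * w * g⁻¹ ∈ (P : Subgroup G) → g * w * g⁻¹ ∈ W)
    (hB : ∀ A : Subgroup G, A ≤ W → ∀ g : G, cj g A ≤ (P : Subgroup G) →
      ∃ k ∈ Subgroup.normalizer (W : Set G), AgreeOn (A : Set G) g k)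
    (U : Subgroup G) (hUP : U ≤ (P : Subgroup G))
    (hUfn : ¬ p ∣ ((P : Subgroup G) ⊓ Subgroup.normalizer (U : Set G)).relIndex
        (Subgroup.normalizer (U : Set G)))
    (IH : ∀ Q : Subgroup G, Q ≤ (P : Subgroup G) → Nat.card U < Nat.card Q →
        ∀ g : G, cj g Q ≤ (P : Subgroup G) →
          ∃ k ∈ Subgroup.normalizer (W : Set G), AgreeOn (Q : Set G) g k)
    (m : G) (hm : m ∈ Subgroup.normalizer (U : Set G)) :
    ∃ k ∈ Subgroup.normalizer (W : Set G), AgreeOn (U : Set G) m k := by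
  by_cases hWU : W ≤ U
  · have h1 : cj m W ≤ (P : Subgroup G) := by
      refine (cj_mono hWU).trans ?_
      rw [mem_normalizer_iff_cj.mp hm]; exact hUP
    exact ⟨m, mem_normalizer_iff_cj.mpr (weak_closed sc h1), AgreeOn.refl _ _⟩
  · -- the invariance of W ⊓ U
    have hinv : ∀ x ∈ Subgroup.normalizer (U : Set G), ∀ y ∈ W ⊓ U, x * y * x⁻¹ ∈ W ⊓ U := by
      intro x hx y hy
      have hyU : x * y * x⁻¹ ∈ U := (Subgroup.mem_normalizer_iff.mp hx y).mp hy.2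
      exact ⟨sc y hy.1 x (hUP hyU), hyU⟩
    have hYM : Ysub W U hinv ≤ Subgroup.normalizer (U : Set G) := Ysub_le
    have hCY : Subgroup.centralizer (U : Set G) ≤ Ysub W U hinv := centralizer_le_Ysub
    have hBM : ∀ m ∈ Subgroup.normalizer (U : Set G), ∃ k ∈ Subgroup.normalizer (W : Set G),
        AgreeOn ((W ⊓ U : Subgroup G) : Set G) m k := by
      intro m' hm'
      apply hB _ inf_le_left
      rw [cj_eq_of_forall_conj_mem hinv hm']
      exact inf_le_left.trans hWP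
    have hYnorm : ∀ m ∈ Subgroup.normalizer (U : Set G), cj m (Ysub W U hinv) = Ysub W U hinv :=
      fun m' hm' => cj_eq_of_forall_conj_mem (fun a ha x hx => Ysub_conj_mem hBM ha hx) hm'
    -- W ∩ M ≰ U
    obtain ⟨w, hwW, hwM, hwU⟩ : ∃ w, w ∈ W ∧ w ∈ Subgroup.normalizer (U : Set G) ∧ w ∉ U := by
      have hlt : U < U ⊔ W := by
        refine lt_of_le_of_ne le_sup_left ?_
        intro heq
        apply hWU
        rw [heq]; exact le_sup_right
      have hS : IsPGroup p (U ⊔ W : Subgroup G) := P.2.to_le (sup_le hUP hWP)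
      have h2 := lt_inf_normalizer hS hlt
      obtain ⟨x, hx, hxU⟩ := SetLike.exists_of_lt h2
      have hcoe := Subgroup.coe_mul_of_left_le_normalizer_right U W (hUP.trans hPW)
      have hx1 : x ∈ ((U ⊔ W : Subgroup G) : Set G) := hx.1
      rw [hcoe] at hx1
      obtain ⟨u, hu, w, hw, huw⟩ := hx1
      refine ⟨w, hw, ?_, ?_⟩
      · have : w = u⁻¹ * x := by rw [← huw]; group
        rw [this]
        exact Subgroup.mul_mem _ (Subgroup.inv_mem _ (Subgroup.le_normalizer hu)) hx.2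
      · intro hwU
        apply hxU
        rw [← huw]
        exact U.mul_mem hu hwU
    -- the Sylow subgroup of Y
    have hU2syl : ¬ p ∣ (((P : Subgroup G) ⊓ Subgroup.normalizer (U : Set G)) ⊓
        Ysub W U hinv).relIndex (Ysub W U hinv) :=
      sylow_inf_normal hYM hYnorm inf_le_right (P.2.to_le inf_le_left) hUfn
    -- |Y : C| is a p-power
    obtain ⟨j, hj⟩ := IsPGroup.iff_card.mp (P.2.to_le hWP)
    have hpow : ∃ n : ℕ, (Subgroup.centralizer (U : Set G)).relIndex (Ysub W U hinv) = p ^ n := by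
      apply relIndex_eq_pow_of_forall_pow_mem hCY
        (hYM.trans (normalizer_le_normalizer_centralizer U)) (j + j)
      intro y hy
      have := Ysub_pow_mem hy
      rwa [hj, ← pow_add] at this
    have hYle := le_sup_of_sylow_of_relIndex_pow hU2syl hpow
    -- Frattini
    obtain ⟨y, hyY, hyU2⟩ := frattini hYnorm inf_le_right
      (P.2.to_le (inf_le_left.trans inf_le_left)) hU2syl hm
    set U2 := ((P : Subgroup G) ⊓ Subgroup.normalizer (U : Set G)) ⊓ Ysub W U hinv with hU2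
    have hm'M : y * m ∈ Subgroup.normalizer (U : Set G) := Subgroup.mul_mem _ (hYM hyY) hm
    have hA : cj (y * m) (U ⊔ U2) = U ⊔ U2 := by
      have : cj (y * m) (U ⊔ U2) = cj (y * m) U ⊔ cj (y * m) U2 := Subgroup.map_sup _ _ _
      rw [this, hyU2, mem_normalizer_iff_cj.mp hm'M]
    have hAP : U ⊔ U2 ≤ (P : Subgroup G) := sup_le hUP (inf_le_left.trans inf_le_left)
    have hwU2 : w ∈ U2 := ⟨⟨hWP hwW, hwM⟩, inf_normalizer_le_Ysub hUP hPW ⟨hwW, hwM⟩⟩
    have hlt : Nat.card U < Nat.card (U ⊔ U2 : Subgroup G) := by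
      apply card_lt_of_lt
      refine lt_of_le_of_ne le_sup_left ?_
      intro heq
      apply hwU
      rw [heq]
      exact (le_sup_right : U2 ≤ U ⊔ U2) hwU2
    obtain ⟨k₁, hk₁, ag₁⟩ := IH _ hAP hlt (y * m) (by rw [hA]; exact hAP)
    have ag₁' : AgreeOn (U : Set G) (y * m) k₁ :=
      ag₁.mono (by exact_mod_cast (le_sup_left : U ≤ U ⊔ U2))
    -- y⁻¹ = u * c
    have hyinv : y⁻¹ ∈ U2 ⊔ Subgroup.centralizer (U : Set G) :=
      hYle (Subgroup.inv_mem _ hyY)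
    have hU2C : U2 ≤ Subgroup.normalizer ((Subgroup.centralizer (U : Set G) : Subgroup G) : Set G) :=
      (inf_le_left.trans inf_le_right).trans (normalizer_le_normalizer_centralizer U)
    have hcoe := Subgroup.coe_mul_of_left_le_normalizer_right U2 _ hU2C
    have hy1 : y⁻¹ ∈ ((U2 ⊔ Subgroup.centralizer (U : Set G) : Subgroup G) : Set G) := hyinv
    rw [hcoe] at hy1
    obtain ⟨u, hu, c, hc, huc⟩ := hy1
    have ag₂ : AgreeOn (U : Set G) y⁻¹ u := by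
      intro a ha
      rw [← huc]
      have hac : a * c = c * a := Subgroup.mem_centralizer_iff.mp hc a ha
      calc u * c * a * (u * c)⁻¹ = u * (c * a) * c⁻¹ * u⁻¹ := by group
        _ = u * (a * c) * c⁻¹ * u⁻¹ := by rw [hac]
        _ = u * a * u⁻¹ := by group
    have hset : cjs (y * m) (U : Set G) = (U : Set G) := by
      rw [← coe_cj, mem_normalizer_iff_cj.mp hm'M]
    have ag₃ : AgreeOn (U : Set G) (y⁻¹ * (y * m)) (u * k₁) :=
      AgreeOn.mul ag₁' (by rw [hset]; exact ag₂)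
    refine ⟨u * k₁, Subgroup.mul_mem _ (hPW hu.1.1) hk₁, ?_⟩
    have e : y⁻¹ * (y * m) = m := by group
    rwa [e] at ag₃

theorem main (N : Subgroup G) [N.Normal] (P : Sylow p G) (W : Subgroup G)
    (hWQ : W ≤ (P : Subgroup G) ⊓ N)
    (hNQ : Subgroup.normalizer ((((P : Subgroup G) ⊓ N : Subgroup G)) : Set G) ≤
      Subgroup.normalizer (W : Set G))
    (hctl : Ctl N ((P : Subgroup G) ⊓ N) W) :
    ∀ A : Subgroup G, A ≤ (P : Subgroup G) → ∀ g : G, cj g A ≤ (P : Subgroup G) →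
      ∃ h ∈ Subgroup.normalizer (W : Set G), ∃ c ∈ Subgroup.centralizer (A : Set G), g = h * c := by
  have hNnorm : ∀ m ∈ (⊤ : Subgroup G), cj m N = N := fun m _ =>
    mem_normalizer_iff_cj.mp (by rw [Subgroup.normalizer_eq_top_iff.mpr inferInstance]; trivial)
  have hPtop : ¬ p ∣ (P : Subgroup G).relIndex ⊤ := by
    rw [Subgroup.relIndex_top_right]; exact P.not_dvd_index
  have hQsyl : ¬ p ∣ ((P : Subgroup G) ⊓ N).relIndex N :=
    sylow_inf_normal le_top hNnorm le_top P.2 hPtop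
  have hWP : W ≤ (P : Subgroup G) := hWQ.trans inf_le_left
  have hPQ : (P : Subgroup G) ≤ Subgroup.normalizer ((((P : Subgroup G) ⊓ N : Subgroup G)) : Set G) := by
    intro x hx
    rw [mem_normalizer_iff_cj, cj_inf, cj_of_mem hx, hNnorm x trivial]
  have hPW := hPQ.trans hNQ
  -- step B
  have stepB : ∀ A : Subgroup G, A ≤ (P : Subgroup G) ⊓ N → ∀ g : G, cj g A ≤ (P : Subgroup G) →
      ∃ h ∈ Subgroup.normalizer (W : Set G), ∃ c ∈ Subgroup.centralizer (A : Set G), g = h * c := by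
    intro A hA g hg
    obtain ⟨y, hyN, hy⟩ := frattini hNnorm inf_le_right (P.2.to_le inf_le_left) hQsyl
      (m := g⁻¹) trivial
    have hmQ : g * y⁻¹ ∈ Subgroup.normalizer ((((P : Subgroup G) ⊓ N : Subgroup G)) : Set G) := by
      have h1 : (y * g⁻¹) ∈ Subgroup.normalizer ((((P : Subgroup G) ⊓ N : Subgroup G)) : Set G) :=
        mem_normalizer_iff_cj.mpr hy
      have h2 := Subgroup.inv_mem _ h1
      have e : (y * g⁻¹)⁻¹ = g * y⁻¹ := by group
      rwa [e] at h2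
    have hgA : cj g A ≤ (P : Subgroup G) ⊓ N :=
      le_inf hg ((cj_mono (hA.trans inf_le_right)).trans (hNnorm g trivial).le)
    have hyA : cj y A ≤ (P : Subgroup G) ⊓ N := by
      have e : cj y A = cj (y * g⁻¹) (cj g A) := by
        rw [← cj_mul]; congr 1; group
      rw [e, ← hy]; exact cj_mono hgA
    obtain ⟨h, ⟨_, hhW⟩, c, ⟨_, hcA⟩, e⟩ := hctl A hA y hyN hyA
    refine ⟨g * y⁻¹ * h, Subgroup.mul_mem _ (hNQ hmQ) hhW, c, hcA, ?_⟩
    rw [mul_assoc, mul_assoc, ← e]; group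
  -- strong closure
  have sc : ∀ w ∈ W, ∀ g : G, g * w * g⁻¹ ∈ (P : Subgroup G) → g * w * g⁻¹ ∈ W := by
    intro w hw g hg
    have hA : Subgroup.closure {w} ≤ (P : Subgroup G) ⊓ N :=
      (Subgroup.closure_le _).mpr (Set.singleton_subset_iff.mpr (hWQ hw))
    have hgA : cj g (Subgroup.closure {w}) ≤ (P : Subgroup G) := by
      rw [cj_closure, Set.image_singleton, Subgroup.closure_le, Set.singleton_subset_iff]
      exact hg
    obtain ⟨h, hh, c, hc, e⟩ := stepB _ hA g hgA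
    have hcw : w * c = c * w :=
      Subgroup.mem_centralizer_iff.mp hc w (Subgroup.subset_closure rfl)
    have e2 : g * w * g⁻¹ = h * w * h⁻¹ := by
      rw [e]
      calc h * c * w * (h * c)⁻¹ = h * (c * w) * c⁻¹ * h⁻¹ := by group
        _ = h * (w * c) * c⁻¹ * h⁻¹ := by rw [hcw]
        _ = h * w * h⁻¹ := by group
    rw [e2]; exact (Subgroup.mem_normalizer_iff.mp hh w).mp hw
  have hB : ∀ A : Subgroup G, A ≤ W → ∀ g : G, cj g A ≤ (P : Subgroup G) →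
      ∃ k ∈ Subgroup.normalizer (W : Set G), AgreeOn (A : Set G) g k := by
    intro A hA g hg
    obtain ⟨h, hh, c, hc, e⟩ := stepB A (hA.trans hWQ) g hg
    refine ⟨h, hh, ?_⟩
    intro a ha
    have hca : a * c = c * a := Subgroup.mem_centralizer_iff.mp hc a ha
    rw [e]
    calc h * c * a * (h * c)⁻¹ = h * (c * a) * c⁻¹ * h⁻¹ := by group
      _ = h * (a * c) * c⁻¹ * h⁻¹ := by rw [hca]
      _ = h * a * h⁻¹ := by group
  -- Alperin
  have key := alperin P Set.univ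
    (fun T hT => by
      obtain ⟨U, hU, hg, hfn⟩ := exists_fully_normalized P hT
      exact ⟨U, trivial, hU, hg, hfn⟩)
    (fun A g => ∃ k ∈ Subgroup.normalizer (W : Set G), AgreeOn A g k)
    ⟨fun A A' g ⟨k, hk, ag⟩ hsub => ⟨k, hk, ag.mono hsub⟩,
     fun A g h ⟨k₁, hk₁, ag₁⟩ ⟨k₂, hk₂, ag₂⟩ =>
       ⟨k₂ * k₁, Subgroup.mul_mem _ hk₂ hk₁, AgreeOn.mul ag₁ ag₂⟩,
     fun A g ⟨k, hk, ag⟩ => ⟨k⁻¹, Subgroup.inv_mem _ hk, AgreeOn.inv ag⟩⟩
    (fun U _ hUP hUfn IH m hm => local_step hWP hPW sc hB U hUP hUfn IH m hm)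
  intro A hA g hg
  obtain ⟨k, hk, ag⟩ := key A hA g hg
  refine ⟨k, hk, k⁻¹ * g, ?_, by group⟩
  rw [Subgroup.mem_centralizer_iff]
  intro a ha
  have h1 := ag a ha
  calc a * (k⁻¹ * g) = k⁻¹ * (k * a * k⁻¹) * g := by group
    _ = k⁻¹ * (g * a * g⁻¹) * g := by rw [h1]
    _ = k⁻¹ * g * a := by group

end Main

/-- Let N be a normal subgroup of the finite group G, P a Sylow p-subgroup of G, and V a subgroup of P ∩ N normal in P ∩ N such that N_N(V) controls strong fusion in P ∩ N with respect to N (whenever a subgroup A of P ∩ N has n A n⁻¹ ≤ P ∩ N for some n in N, then n = h c with h in N_N(V) and c in C_N(A)). Let W be the subgroup generated by the conjugates of V under N_G(P ∩ N). Then N_G(W) controls strong fusion in P with respect to G. -/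
theorem result {G : Type*} [Group G] [Finite G] {p : ℕ} [Fact p.Prime] (N : Subgroup G) [N.Normal] (P : Sylow p G) (V : Subgroup G)
    (hV : V ≤ (P : Subgroup G) ⊓ N) (hVn : ∀ x ∈ (P : Subgroup G) ⊓ N, V.map (MulAut.conj x).toMonoidHom = V)
    (hctrl : ∀ A : Subgroup G, A ≤ (P : Subgroup G) ⊓ N → ∀ n ∈ N, A.map (MulAut.conj n).toMonoidHom ≤ (P : Subgroup G) ⊓ N →
      ∃ h ∈ N ⊓ Subgroup.normalizer (V : Set G), ∃ c ∈ N ⊓ Subgroup.centralizer (A : Set G), n = h * c)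
    (W : Subgroup G) (hW : W = Subgroup.closure (⋃ x ∈ Subgroup.normalizer (((P : Subgroup G) ⊓ N : Subgroup G) : Set G),
      ((V.map (MulAut.conj x).toMonoidHom : Subgroup G) : Set G))) :
    ∀ A : Subgroup G, A ≤ (P : Subgroup G) → ∀ g : G, A.map (MulAut.conj g).toMonoidHom ≤ (P : Subgroup G) →
        ∃ h ∈ Subgroup.normalizer (W : Set G), ∃ c ∈ Subgroup.centralizer (A : Set G), g = h * c := by
  classical
  -- W is the join of the N_G(Q)-conjugates of V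
  set 𝒯 : Set (Subgroup G) := {V' | ∃ x ∈ Subgroup.normalizer ((((P : Subgroup G) ⊓ N : Subgroup G)) : Set G),
    cj x V = V'} with h𝒯
  have hWsup : W = sSup 𝒯 := by
    rw [hW]
    apply le_antisymm
    · rw [Subgroup.closure_le]
      intro y hy
      simp only [Set.mem_iUnion] at hy
      obtain ⟨x, hx, hy⟩ := hy
      exact (le_sSup (show cj x V ∈ 𝒯 from ⟨x, hx, rfl⟩)) hy
    · apply sSup_le
      rintro V' ⟨x, hx, rfl⟩
      intro y hy
      apply Subgroup.subset_closure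
      simp only [Set.mem_iUnion]
      exact ⟨x, hx, hy⟩
  have h1 := ctl_sSup (N := N) (Q := (P : Subgroup G) ⊓ N) 𝒯 (by
    rintro V' ⟨x, hx, rfl⟩
    have hxQ := mem_normalizer_iff_cj.mp hx
    refine ⟨?_, ctl_cj hxQ hctrl⟩
    rw [← hxQ]; exact cj_mono hV)
  rw [← hWsup] at h1
  have hNQ : Subgroup.normalizer ((((P : Subgroup G) ⊓ N : Subgroup G)) : Set G) ≤
      Subgroup.normalizer (W : Set G) := by
    intro z hz
    rw [mem_normalizer_iff_cj]
    apply Subgroup.eq_of_le_of_card_ge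
    · rw [hWsup, Subgroup.map_le_iff_le_comap]
      apply sSup_le
      rintro V' ⟨x, hx, rfl⟩
      rw [← Subgroup.map_le_iff_le_comap]
      have : cj z (cj x V) = cj (z * x) V := (cj_mul z x V).symm
      show cj z (cj x V) ≤ sSup 𝒯
      rw [this]
      exact le_sSup ⟨z * x, Subgroup.mul_mem _ hz hx, rfl⟩
    · rw [card_cj]
  exact main N P W h1.1 hNQ h1.2
end Cfsg.Agent.S1954
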