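import Cfsg.Statements.S1957
import Cfsg.Agent.Lib.Helper1_Cores
import Cfsg.Agent.Lib.Helper32_PGroup
import Cfsg.Agent.Lib.Helper48_Generation

set_option autoImplicit false
open Cfsg

namespace Cfsg.Agent.S1957

open scoped commutatorElement
open Cfsg.Agent.Lib.Helper1_Cores

/-- **Chain stabilizer lemma.** If `C_H(O_2(H)) ≤ O_2(H)`, `c` is a central element with `c² = 1`
and `[x, r] ∈ {1, c}` for all `r ∈ O_2(H)`, then `x ∈ O_2(H)`. -/
theorem mem_pCore_of_stabilizes {H : Type*} [Group H] [Finite H]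
    (hchar : Subgroup.centralizer (Cfsg.pCore 2 H : Set H) ≤ Cfsg.pCore 2 H)
    (c : H) (hc : ∀ h : H, h * c = c * h) (hc2 : c * c = 1) (x : H)
    (hx : ∀ r ∈ Cfsg.pCore 2 H, ⁅x, r⁆ = 1 ∨ ⁅x, r⁆ = c) : x ∈ Cfsg.pCore 2 H := by
  haveI : Fact (Nat.Prime 2) := ⟨Nat.prime_two⟩
  have hRn : (Cfsg.pCore 2 H).Normal := inferInstance
  have hcinv : c⁻¹ = c := inv_eq_of_mul_eq_one_left hc2
  have hconj : ∀ (g e : H), (e = 1 ∨ e = c) → g * e * g⁻¹ = e := by
    rintro g e (rfl | rfl)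
    · group
    · rw [hc g, mul_inv_cancel_right]
  let S : Subgroup H :=
    { carrier := {h | ∀ r ∈ Cfsg.pCore 2 H, ⁅h, r⁆ = 1 ∨ ⁅h, r⁆ = c}
      one_mem' := by
        intro r _
        left
        exact commutatorElement_one_left r
      mul_mem' := by
        intro a b ha hb r hr
        have h1 : ⁅a * b, r⁆ = a * ⁅b, r⁆ * a⁻¹ * ⁅a, r⁆ := by
          simp only [commutatorElement_def]; group
        rw [h1, hconj a _ (hb r hr)]
        rcases hb r hr with h2 | h2 <;> rcases ha r hr with h3 | h3 <;> rw [h2, h3]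
        · left; rw [mul_one]
        · right; rw [one_mul]
        · right; rw [mul_one]
        · left; exact hc2
      inv_mem' := by
        intro a ha r hr
        have h1 : ⁅a⁻¹, r⁆ = a⁻¹ * (⁅a, r⁆)⁻¹ * a := by
          simp only [commutatorElement_def]; group
        have h2 : (⁅a, r⁆)⁻¹ = 1 ∨ (⁅a, r⁆)⁻¹ = c := by
          rcases ha r hr with h3 | h3
          · left; rw [h3, inv_one]
          · right; rw [h3, hcinv]
        have h4 := hconj a⁻¹ _ h2
        rw [inv_inv] at h4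
        rw [h1, h4]
        exact h2 }
  have hSmem : ∀ h, h ∈ S ↔ ∀ r ∈ Cfsg.pCore 2 H, ⁅h, r⁆ = 1 ∨ ⁅h, r⁆ = c := fun h => Iff.rfl
  have hSn : S.Normal := by
    constructor
    intro h hh g
    rw [hSmem] at hh ⊢
    intro r hr
    have hr' : g⁻¹ * r * g ∈ Cfsg.pCore 2 H := by
      have := hRn.conj_mem r hr g⁻¹
      rwa [inv_inv] at this
    have h1 : ⁅g * h * g⁻¹, r⁆ = g * ⁅h, g⁻¹ * r * g⁆ * g⁻¹ := by
      simp only [commutatorElement_def]; group
    rw [h1, hconj g _ (hh _ hr')]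
    exact hh _ hr'
  have hSsq : ∀ h ∈ S, h * h ∈ Cfsg.pCore 2 H := by
    intro h hh
    apply hchar
    rw [Subgroup.mem_centralizer_iff]
    intro r hr
    have h1 : h * r * h⁻¹ = ⁅h, r⁆ * r := by
      rw [commutatorElement_def]; group
    have h2 : (h * h) * r * (h * h)⁻¹ = ⁅h, r⁆ * ⁅h, r⁆ * r := by
      have h3 : (h * h) * r * (h * h)⁻¹ = h * (h * r * h⁻¹) * h⁻¹ := by group
      rw [h3, h1]
      have h4 : h * (⁅h, r⁆ * r) * h⁻¹ = (h * ⁅h, r⁆ * h⁻¹) * (h * r * h⁻¹) := by group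
      rw [h4, hconj h _ (hh r hr), h1, mul_assoc]
    have h5 : ⁅h, r⁆ * ⁅h, r⁆ = 1 := by
      rcases hh r hr with h6 | h6 <;> rw [h6]
      · rw [mul_one]
      · exact hc2
    rw [h5, one_mul] at h2
    calc r * (h * h) = ((h * h) * r * (h * h)⁻¹) * (h * h) := by rw [h2]
      _ = (h * h) * r := by group
  have hSp : IsPGroup 2 S := by
    intro s
    obtain ⟨k, hk⟩ := (pCore_isPGroup (G := H) 2) ⟨s.1 * s.1, hSsq s.1 s.2⟩
    refine ⟨k + 1, ?_⟩
    apply Subtype.ext
    have h1 := congrArg Subtype.val hk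
    simp only [Subgroup.coe_pow, Subgroup.coe_one] at h1 ⊢
    rw [pow_succ', pow_mul, pow_two]
    exact h1
  exact le_pCore hSn hSp ((hSmem x).mpr hx)

section General

variable {G : Type*} [Group G]

theorem eq_one_or_of_mem_zpowers {u x : G} (hu : u * u = 1) (hx : x ∈ Subgroup.zpowers u) :
    x = 1 ∨ x = u := by
  obtain ⟨k, rfl⟩ := Subgroup.mem_zpowers_iff.mp hx
  have h2 : u ^ (2 : ℤ) = 1 := by rw [zpow_two]; exact hu
  rcases Int.emod_two_eq_zero_or_one k with h | h
  · left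
    have : k = 2 * (k / 2) := by omega
    rw [this, zpow_mul, h2, one_zpow]
  · right
    have : k = 2 * (k / 2) + 1 := by omega
    rw [this, zpow_add, zpow_mul, h2, one_zpow, one_mul, zpow_one]

theorem mem_normalizer_zpowers_iff {u : G} (hu : u * u = 1) (hu1 : u ≠ 1) (n : G) :
    n ∈ Subgroup.normalizer ((Subgroup.zpowers u : Subgroup G) : Set G) ↔ n * u = u * n := by
  constructor
  · intro hn
    have h1 := (Subgroup.mem_normalizer_iff.mp hn u).mp (Subgroup.mem_zpowers u)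
    rcases eq_one_or_of_mem_zpowers hu h1 with h2 | h2
    · exfalso
      exact hu1 (conj_eq_one_iff.mp h2)
    · calc n * u = n * u * n⁻¹ * n := by group
        _ = u * n := by rw [h2]
  · intro hn
    have : n ∈ Subgroup.centralizer ((Subgroup.zpowers u : Subgroup G) : Set G) := by
      rw [Subgroup.zpowers_eq_closure, Subgroup.centralizer_closure,
        Subgroup.mem_centralizer_singleton_iff]
      exact hn
    exact Subgroup.centralizer_le_normalizer _ this

/-- the data of a four-group `U` normalized by `P` -/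
structure FourData (P U : Subgroup G) : Prop where
  le : U ≤ P
  norm : P ≤ Subgroup.normalizer (U : Set G)
  sq : ∀ a ∈ U, a * a = 1
  comm : ∀ a ∈ U, ∀ b ∈ U, a * b = b * a
  three : ∀ x ∈ U, ∀ y ∈ U, ∀ w ∈ U, x ≠ 1 → y ≠ 1 → x ≠ y → w ≠ 1 → w ≠ x → w ≠ y → w = x * y

theorem FourData.inv_eq {P U : Subgroup G} (h : FourData P U) {a : G} (ha : a ∈ U) : a⁻¹ = a :=
  inv_eq_of_mul_eq_one_left (h.sq a ha)

theorem FourData.conj_mem {P U : Subgroup G} (h : FourData P U) {r : G} (hr : r ∈ P) {v : G}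
    (hv : v ∈ U) : r * v * r⁻¹ ∈ U :=
  (Subgroup.mem_normalizer_iff.mp (h.norm hr) v).mp hv

/-- `P` acts on `U` modulo a central involution `c ∈ U` trivially -/
theorem FourData.conj_eq {P U : Subgroup G} (h : FourData P U) {c : G} (hcU : c ∈ U) (hc1 : c ≠ 1)
    (hcP : ∀ r ∈ P, r * c = c * r) {r : G} (hr : r ∈ P) {v : G} (hv : v ∈ U) :
    r * v * r⁻¹ = v ∨ r * v * r⁻¹ = c * v := by
  have hwU := h.conj_mem hr hv
  by_cases hv1 : v = 1
  · left
    rw [hv1]; group
  by_cases hvc : v = c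
  · left
    rw [hvc, hcP r hr, mul_inv_cancel_right]
  by_cases hwv : r * v * r⁻¹ = v
  · left; exact hwv
  right
  have hw1 : r * v * r⁻¹ ≠ 1 := fun h0 => hv1 (conj_eq_one_iff.mp h0)
  have hwc : r * v * r⁻¹ ≠ c := by
    intro h0
    apply hvc
    have h1 : v = r⁻¹ * (r * v * r⁻¹) * r := by group
    rw [h1, h0]
    have h2 : r⁻¹ * c * r = r⁻¹ * (c * r) := by group
    rw [h2, ← hcP r hr]; group
  exact h.three c hcU v hv _ hwU hc1 hv1 (Ne.symm hvc) hw1 hwc hwv

/-- commutator form -/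
theorem FourData.comm_eq {P U : Subgroup G} (h : FourData P U) {c : G} (hcU : c ∈ U) (hc1 : c ≠ 1)
    (hcP : ∀ r ∈ P, r * c = c * r) {r : G} (hr : r ∈ P) {v : G} (hv : v ∈ U) :
    ⁅v, r⁆ = 1 ∨ ⁅v, r⁆ = c := by
  have h1 : ⁅v, r⁆ = v * (r * v * r⁻¹)⁻¹ := by
    rw [commutatorElement_def]; group
  rcases h.conj_eq hcU hc1 hcP hr hv with h2 | h2
  · left
    rw [h1, h2, mul_inv_cancel]
  · right
    rw [h1, h2, mul_inv_rev, mul_inv_cancel_left, h.inv_eq hcU]

end General

section Main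

variable {G : Type*} [Group G] [Finite G]

theorem coe_commutatorElement' {N : Subgroup G} (a b : ↥N) : ((⁅a, b⁆ : ↥N) : G) = ⁅(a : G), (b : G)⁆ := by
  simp [commutatorElement_def]

/-- Case 1: `u ∈ Z(P)`. -/
theorem key_central (h2 : Cfsg.IsCharacteristicTwoType G) (P : Sylow 2 G) (U : Subgroup G)
    (hF : FourData (P : Subgroup G) U) {u : G} (huU : u ∈ U) (hu1 : u ≠ 1)
    (hucent : ∀ r ∈ (P : Subgroup G), r * u = u * r) {v : G} (hv : v ∈ U)
    (hvN : v ∈ Subgroup.normalizer ((Subgroup.zpowers u : Subgroup G) : Set G)) :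
    (⟨v, hvN⟩ : ↥(Subgroup.normalizer ((Subgroup.zpowers u : Subgroup G) : Set G))) ∈
      Cfsg.pCore 2 ↥(Subgroup.normalizer ((Subgroup.zpowers u : Subgroup G) : Set G)) := by
  haveI : Fact (Nat.Prime 2) := ⟨Nat.prime_two⟩
  have husq := hF.sq u huU
  have hNiff := mem_normalizer_zpowers_iff husq hu1
  have hT : IsPGroup 2 (Subgroup.zpowers u) :=
    Cfsg.Agent.Lib.Helper48_Generation.isPGroup_zpowers_of_pow_eq_one
      (by rw [pow_two]; exact husq)
  have hTne : Subgroup.zpowers u ≠ ⊥ := Subgroup.zpowers_ne_bot.mpr hu1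
  have hchar := h2.2 _ hT hTne
  unfold Cfsg.IsOfCharacteristicTwo at hchar
  have huN : u ∈ Subgroup.normalizer ((Subgroup.zpowers u : Subgroup G) : Set G) :=
    (hNiff u).mpr rfl
  have hPN : (P : Subgroup G) ≤ Subgroup.normalizer ((Subgroup.zpowers u : Subgroup G) : Set G) :=
    fun r hr => (hNiff r).mpr (hucent r hr)
  have hcore : ∀ r ∈ Cfsg.pCore 2 ↥(Subgroup.normalizer ((Subgroup.zpowers u : Subgroup G) : Set G)),
      (r : G) ∈ (P : Subgroup G) := by
    intro r hr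
    have h1 : r ∈ ((P.subtype hPN : Sylow 2 _) : Subgroup _) := pCore_le_sylow 2 (P.subtype hPN) hr
    rw [Sylow.coe_subtype] at h1
    exact Subgroup.mem_subgroupOf.mp h1
  apply mem_pCore_of_stabilizes hchar ⟨u, huN⟩
  · intro h
    apply Subtype.ext
    exact (hNiff h.1).mp h.2
  · apply Subtype.ext
    exact husq
  · intro r hr
    rcases hF.comm_eq huU hu1 hucent (hcore r hr) hv with h3 | h3
    · left
      apply Subtype.ext
      rw [coe_commutatorElement']
      exact h3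
    · right
      apply Subtype.ext
      rw [coe_commutatorElement']
      exact h3

end Main

section CI

variable {G : Type*} [Group G]

theorem card_mul_relIndex' {H K : Subgroup G} (h : H ≤ K) :
    Nat.card H * H.relIndex K = Nat.card K := by
  have := (H.subgroupOf K).card_mul_index
  rwa [Nat.card_congr (Subgroup.subgroupOfEquivOfLe h).toEquiv] at this

/-- `x` is a central element of `Q` with `x² = 1` -/
def IsCI (Q : Subgroup G) (x : G) : Prop := x ∈ Q ∧ (∀ b ∈ Q, b * x = x * b) ∧ x * x = 1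

theorem IsCI.inv_eq {Q : Subgroup G} {x : G} (hx : IsCI Q x) : x⁻¹ = x :=
  inv_eq_of_mul_eq_one_left hx.2.2

theorem IsCI.comm {Q : Subgroup G} {x y : G} (hx : IsCI Q x) (hy : IsCI Q y) : x * y = y * x :=
  hy.2.1 x hx.1

theorem IsCI.mul {Q : Subgroup G} {x y : G} (hx : IsCI Q x) (hy : IsCI Q y) : IsCI Q (x * y) := by
  refine ⟨mul_mem hx.1 hy.1, ?_, ?_⟩
  · intro b hb
    rw [← mul_assoc, hx.2.1 b hb, mul_assoc, hy.2.1 b hb, mul_assoc]
  · calc x * y * (x * y) = x * (y * x) * y := by group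
      _ = x * (x * y) * y := by rw [hx.comm hy]
      _ = (x * x) * (y * y) := by group
      _ = 1 := by rw [hx.2.2, hy.2.2, one_mul]

theorem IsCI.conj {Q : Subgroup G} {x g : G} (hx : IsCI Q x)
    (hg : g ∈ Subgroup.normalizer (Q : Set G)) : IsCI Q (g * x * g⁻¹) := by
  refine ⟨(Subgroup.mem_normalizer_iff.mp hg x).mp hx.1, ?_, ?_⟩
  · intro b hb
    have hginv : g⁻¹ ∈ Subgroup.normalizer (Q : Set G) := inv_mem hg
    have h1 : g⁻¹ * b * g ∈ Q := by
      have := (Subgroup.mem_normalizer_iff.mp hginv b).mp hb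
      rwa [inv_inv] at this
    have h2 := hx.2.1 _ h1
    calc b * (g * x * g⁻¹) = g * ((g⁻¹ * b * g) * x) * g⁻¹ := by group
      _ = g * (x * (g⁻¹ * b * g)) * g⁻¹ := by rw [h2]
      _ = g * x * g⁻¹ * b := by group
  · calc g * x * g⁻¹ * (g * x * g⁻¹) = g * (x * x) * g⁻¹ := by group
      _ = 1 := by rw [hx.2.2]; group

end CI

section Case2

variable {G : Type*} [Group G]

theorem mem_inf_centralizer_singleton (P : Subgroup G) (u y : G) :
    y ∈ P ⊓ Subgroup.centralizer ({u} : Set G) ↔ y ∈ P ∧ y * u = u * y := by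
  rw [Subgroup.mem_inf, Subgroup.mem_centralizer_singleton_iff]

theorem conj_t_eq {P U : Subgroup G} (hF : FourData P U)
    {u : G} (huU : u ∈ U) {t : G} (htP : t ∈ P) (htu : t * u ≠ u * t)
    {z : G} (hzU : z ∈ U) (hz1 : z ≠ 1) (hzP : ∀ r ∈ P, r * z = z * r) :
    t * u * t⁻¹ = z * u := by
  rcases hF.conj_eq hzU hz1 hzP htP huU with h | h
  · exfalso
    apply htu
    calc t * u = t * u * t⁻¹ * t := by group
      _ = u * t := by rw [h]
  · exact h

theorem relIndex_two {P U : Subgroup G} (hF : FourData P U)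
    {u : G} (huU : u ∈ U) {t : G} (htP : t ∈ P) (htu : t * u ≠ u * t)
    {z : G} (hzU : z ∈ U) (hz1 : z ≠ 1) (hzP : ∀ r ∈ P, r * z = z * r) :
    (P ⊓ Subgroup.centralizer ({u} : Set G)).relIndex P = 2 := by
  rw [Subgroup.relIndex_eq_two_iff]
  refine ⟨t, htP, ?_⟩
  intro b hb
  have htconj := conj_t_eq hF huU htP htu hzU hz1 hzP
  have hzu_ne : z * u ≠ u := by
    intro h
    apply hz1
    calc z = z * u * u⁻¹ := by group
      _ = 1 := by rw [h, mul_inv_cancel]
  have hbt : (b * t) * u * (b * t)⁻¹ = z * (b * u * b⁻¹) := by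
    calc (b * t) * u * (b * t)⁻¹ = b * (t * u * t⁻¹) * b⁻¹ := by group
      _ = b * (z * u) * b⁻¹ := by rw [htconj]
      _ = (b * z) * u * b⁻¹ := by group
      _ = (z * b) * u * b⁻¹ := by rw [hzP b hb]
      _ = z * (b * u * b⁻¹) := by group
  have hiff : ∀ y, y * u = u * y ↔ y * u * y⁻¹ = u := by
    intro y
    rw [mul_inv_eq_iff_eq_mul]
  rw [mem_inf_centralizer_singleton, mem_inf_centralizer_singleton, hiff, hiff, hbt]
  rcases hF.conj_eq hzU hz1 hzP hb huU with h | h
  · right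
    rw [h]
    exact ⟨⟨hb, rfl⟩, fun h' => hzu_ne h'.2⟩
  · left
    rw [h]
    refine ⟨⟨mul_mem hb htP, ?_⟩, fun h' => hzu_ne h'.2⟩
    rw [← mul_assoc, hF.sq z hzU, one_mul]

theorem comm_eq_of_normalizes {P U : Subgroup G} (hF : FourData P U)
    {u : G} (huU : u ∈ U) {t : G} (htP : t ∈ P) (htu : t * u ≠ u * t)
    {z : G} (hzU : z ∈ U) (hz1 : z ≠ 1) (hzP : ∀ r ∈ P, r * z = z * r)
    (hinvol : ∀ y ∈ P, (∀ b ∈ P, b * y = y * b) → y * y = 1 → y = 1 ∨ y = z)
    {r₀ : G} (hr₀u : r₀ * u = u * r₀)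
    (hr₀ : r₀ ∈ Subgroup.normalizer
      ((P ⊓ Subgroup.centralizer ({u} : Set G) : Subgroup G) : Set G)) :
    ⁅z, r₀⁆ = 1 ∨ ⁅z, r₀⁆ = u := by
  have hmem := mem_inf_centralizer_singleton P u
  have hidx := relIndex_two hF huU htP htu hzU hz1 hzP
  have htconj := conj_t_eq hF huU htP htu hzU hz1 hzP
  set P₀ := P ⊓ Subgroup.centralizer ({u} : Set G) with hP₀
  have hP₀P : P₀ ≤ P := inf_le_left
  have hPnorm : P ≤ Subgroup.normalizer (P₀ : Set G) :=
    (Subgroup.normal_subgroupOf_iff_le_normalizer hP₀P).mp (Subgroup.normal_of_index_eq_two hidx)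
  have htn : t ∈ Subgroup.normalizer (P₀ : Set G) := hPnorm htP
  have htP₀ : t ∉ P₀ := fun h => htu ((hmem t).mp h).2
  have hmul : ∀ a ∈ P, ∀ b ∈ P, (a * b ∈ P₀ ↔ (a ∈ P₀ ↔ b ∈ P₀)) := by
    intro a ha b hb
    have := Subgroup.mul_mem_iff_of_index_two (H := P₀.subgroupOf P) hidx
      (a := ⟨a, ha⟩) (b := ⟨b, hb⟩)
    simpa [Subgroup.mem_subgroupOf] using this
  have htt : t * t ∈ P₀ := (hmul t htP t htP).mpr Iff.rfl
  have hcoset : ∀ b ∈ P, b ∉ P₀ → t⁻¹ * b ∈ P₀ := by
    intro b hb hbP₀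
    rw [hmul _ (inv_mem htP) _ hb]
    constructor
    · intro h
      exact absurd (inv_mem_iff.mp h) htP₀
    · intro h
      exact absurd h hbP₀
  have hcentP : ∀ y, IsCI P₀ y → t * y = y * t → ∀ b ∈ P, b * y = y * b := by
    intro y hy hty b hb
    by_cases hbP₀ : b ∈ P₀
    · exact hy.2.1 b hbP₀
    · have h1 := hy.2.1 _ (hcoset b hb hbP₀)
      calc b * y = t * ((t⁻¹ * b) * y) := by group
        _ = t * (y * (t⁻¹ * b)) := by rw [h1]
        _ = (t * y) * (t⁻¹ * b) := by group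
        _ = (y * t) * (t⁻¹ * b) := by rw [hty]
        _ = y * b := by group
  have hCIinvol : ∀ y, IsCI P₀ y → t * y = y * t → y = 1 ∨ y = z :=
    fun y hy hty => hinvol y (hP₀P hy.1) (hcentP y hy hty) hy.2.2
  have hzCI : IsCI P₀ z :=
    ⟨(hmem z).mpr ⟨hF.le hzU, hF.comm z hzU u huU⟩, fun b hb => hzP b (hP₀P hb), hF.sq z hzU⟩
  have huCI : IsCI P₀ u :=
    ⟨(hmem u).mpr ⟨hF.le huU, rfl⟩, fun b hb => ((hmem b).mp hb).2, hF.sq u huU⟩
  have hwCI : IsCI P₀ (r₀ * z * r₀⁻¹) := hzCI.conj hr₀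
  have hcomm_form : ⁅z, r₀⁆ = z * (r₀ * z * r₀⁻¹)⁻¹ := by
    rw [commutatorElement_def]; group
  have hw1 : r₀ * z * r₀⁻¹ ≠ 1 := fun h => hz1 (conj_eq_one_iff.mp h)
  have hzu : z ≠ u := by
    rintro rfl
    exact htu (hzP t htP)
  have hwu : r₀ * z * r₀⁻¹ ≠ u := by
    intro h
    apply hzu
    have h1 : z = r₀⁻¹ * (r₀ * z * r₀⁻¹) * r₀ := by group
    rw [h1, h]
    calc r₀⁻¹ * u * r₀ = r₀⁻¹ * (u * r₀) := by group
      _ = r₀⁻¹ * (r₀ * u) := by rw [hr₀u]
      _ = u := by group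
  rw [hcomm_form, hwCI.inv_eq]
  generalize r₀ * z * r₀⁻¹ = w at hwCI hw1 hwu ⊢
  have htwCI : IsCI P₀ (t * w * t⁻¹) := hwCI.conj htn
  have hvfix : t * (w * (t * w * t⁻¹)) = (w * (t * w * t⁻¹)) * t := by
    have h1 : (t * t) * w = w * (t * t) := hwCI.2.1 _ htt
    calc t * (w * (t * w * t⁻¹)) = (t * w * t⁻¹) * ((t * t) * w) * t⁻¹ := by group
      _ = (t * w * t⁻¹) * (w * (t * t)) * t⁻¹ := by rw [h1]
      _ = ((t * w * t⁻¹) * w) * t := by group
      _ = (w * (t * w * t⁻¹)) * t := by rw [htwCI.comm hwCI]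
  rcases hCIinvol _ (hwCI.mul htwCI) hvfix with hv | hv
  · have h1 : t * w * t⁻¹ = w := by
      have h0 : t * w * t⁻¹ = w⁻¹ := eq_inv_of_mul_eq_one_right hv
      rw [h0, hwCI.inv_eq]
    have h2 : t * w = w * t := by
      calc t * w = t * w * t⁻¹ * t := by group
        _ = w * t := by rw [h1]
    rcases hCIinvol w hwCI h2 with h3 | h3
    · exact absurd h3 hw1
    · left
      rw [h3]
      exact hF.sq z hzU
  · have h1 : t * w * t⁻¹ = w * z := by
      have h0 : t * w * t⁻¹ = w⁻¹ * z := by rw [← hv]; group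
      rw [h0, hwCI.inv_eq]
    have hyCI : IsCI P₀ (w * u) := hwCI.mul huCI
    have h2 : t * (w * u) = (w * u) * t := by
      have h3 : t * (w * u) * t⁻¹ = w * u := by
        calc t * (w * u) * t⁻¹ = (t * w * t⁻¹) * (t * u * t⁻¹) := by group
          _ = (w * z) * (z * u) := by rw [h1, htconj]
          _ = w * (z * z) * u := by group
          _ = w * u := by rw [hF.sq z hzU, mul_one]
      calc t * (w * u) = t * (w * u) * t⁻¹ * t := by group
        _ = (w * u) * t := by rw [h3]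
    rcases hCIinvol _ hyCI h2 with h3 | h3
    · exfalso
      apply hwu
      have h4 : w = u⁻¹ := eq_inv_of_mul_eq_one_left h3
      rw [h4, huCI.inv_eq]
    · right
      have h4 : w = z * u := by
        have h5 : w = z * u⁻¹ := by rw [← h3]; group
        rw [h5, huCI.inv_eq]
      rw [h4]
      calc z * (z * u) = (z * z) * u := by group
        _ = u := by rw [hF.sq z hzU, one_mul]

theorem eq_one_or_of_cyclic_center [Finite G] {P : Subgroup G}
    (hcyc : IsCyclic ↥(P ⊓ Subgroup.centralizer (P : Set G)))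
    {z : G} (hzP : z ∈ P) (hzc : ∀ r ∈ P, r * z = z * r) (hz1 : z ≠ 1) (hzsq : z * z = 1)
    {y : G} (hyP : y ∈ P) (hyc : ∀ b ∈ P, b * y = y * b) (hysq : y * y = 1) : y = 1 ∨ y = z := by
  classical
  by_contra hcon
  push Not at hcon
  have hzZ : z ∈ P ⊓ Subgroup.centralizer (P : Set G) := by
    rw [Subgroup.mem_inf, Subgroup.mem_centralizer_iff]
    exact ⟨hzP, hzc⟩
  have hyZ : y ∈ P ⊓ Subgroup.centralizer (P : Set G) := by
    rw [Subgroup.mem_inf, Subgroup.mem_centralizer_iff]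
    exact ⟨hyP, hyc⟩
  letI : Fintype ↥(P ⊓ Subgroup.centralizer (P : Set G)) := Fintype.ofFinite _
  have hle := IsCyclic.card_pow_eq_one_le (α := ↥(P ⊓ Subgroup.centralizer (P : Set G))) (n := 2)
    (by norm_num)
  have hsub : ({1, ⟨z, hzZ⟩, ⟨y, hyZ⟩} : Finset ↥(P ⊓ Subgroup.centralizer (P : Set G))) ⊆
      Finset.univ.filter (fun a => a ^ 2 = 1) := by
    intro a ha
    rw [Finset.mem_filter]
    refine ⟨Finset.mem_univ _, ?_⟩
    simp only [Finset.mem_insert, Finset.mem_singleton] at ha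
    rcases ha with rfl | rfl | rfl
    · exact one_pow 2
    · apply Subtype.ext
      simp [pow_two, hzsq]
    · apply Subtype.ext
      simp [pow_two, hysq]
  have hcard : ({1, ⟨z, hzZ⟩, ⟨y, hyZ⟩} :
      Finset ↥(P ⊓ Subgroup.centralizer (P : Set G))).card = 3 := by
    rw [Finset.card_insert_of_notMem, Finset.card_insert_of_notMem, Finset.card_singleton]
    · simp only [Finset.mem_singleton]
      intro h
      exact hcon.2 (congrArg Subtype.val h).symm
    · simp only [Finset.mem_insert, Finset.mem_singleton]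
      rintro (h | h)
      · exact hz1 (congrArg Subtype.val h).symm
      · exact hcon.1 (congrArg Subtype.val h).symm
  have := (Finset.card_le_card hsub).trans hle
  omega

/-- Case 2: `u ∉ Z(P)`; then the central involution `z` lies in `O_2(C_G(u))`. -/
theorem key_noncentral [Finite G] (h2 : Cfsg.IsCharacteristicTwoType G) (P : Sylow 2 G)
    (U : Subgroup G) (hF : FourData (P : Subgroup G) U)
    (hcyc : IsCyclic ↥((P : Subgroup G) ⊓ Subgroup.centralizer ((P : Subgroup G) : Set G)))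
    {u : G} (huU : u ∈ U) (hu1 : u ≠ 1)
    {t : G} (htP : t ∈ (P : Subgroup G)) (htu : t * u ≠ u * t)
    {z : G} (hzU : z ∈ U) (hz1 : z ≠ 1) (hzP : ∀ r ∈ (P : Subgroup G), r * z = z * r)
    (hzN : z ∈ Subgroup.normalizer ((Subgroup.zpowers u : Subgroup G) : Set G)) :
    (⟨z, hzN⟩ : ↥(Subgroup.normalizer ((Subgroup.zpowers u : Subgroup G) : Set G))) ∈
      Cfsg.pCore 2 ↥(Subgroup.normalizer ((Subgroup.zpowers u : Subgroup G) : Set G)) := by
  haveI : Fact (Nat.Prime 2) := ⟨Nat.prime_two⟩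
  have husq := hF.sq u huU
  have hNiff := mem_normalizer_zpowers_iff husq hu1
  have hT : IsPGroup 2 (Subgroup.zpowers u) :=
    Cfsg.Agent.Lib.Helper48_Generation.isPGroup_zpowers_of_pow_eq_one
      (by rw [pow_two]; exact husq)
  have hTne : Subgroup.zpowers u ≠ ⊥ := Subgroup.zpowers_ne_bot.mpr hu1
  have hchar := h2.2 _ hT hTne
  unfold Cfsg.IsOfCharacteristicTwo at hchar
  have huN : u ∈ Subgroup.normalizer ((Subgroup.zpowers u : Subgroup G) : Set G) :=
    (hNiff u).mpr rfl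
  have hinvol : ∀ y ∈ (P : Subgroup G), (∀ b ∈ (P : Subgroup G), b * y = y * b) → y * y = 1 →
      y = 1 ∨ y = z :=
    fun y hy hyc hysq =>
      eq_one_or_of_cyclic_center hcyc (hF.le hzU) hzP hz1 (hF.sq z hzU) hy hyc hysq
  apply mem_pCore_of_stabilizes hchar ⟨u, huN⟩
  · intro h
    apply Subtype.ext
    exact (hNiff h.1).mp h.2
  · apply Subtype.ext
    exact husq
  intro r hr
  have hP₀N : (P : Subgroup G) ⊓ Subgroup.centralizer ({u} : Set G) ≤
      Subgroup.normalizer ((Subgroup.zpowers u : Subgroup G) : Set G) :=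
    fun y hy => (hNiff y).mpr ((mem_inf_centralizer_singleton _ _ _).mp hy).2
  have hP₀p : IsPGroup 2 ↥((P : Subgroup G) ⊓ Subgroup.centralizer ({u} : Set G)) :=
    P.2.to_le inf_le_left
  have hT₁ : IsPGroup 2 ↥(Cfsg.pCore 2 ↥(Subgroup.normalizer
      ((Subgroup.zpowers u : Subgroup G) : Set G)) ⊔
      ((P : Subgroup G) ⊓ Subgroup.centralizer ({u} : Set G)).subgroupOf
        (Subgroup.normalizer ((Subgroup.zpowers u : Subgroup G) : Set G))) :=
    IsPGroup.to_sup_of_normal_left (pCore_isPGroup 2) hP₀p.comap_subtype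
  obtain ⟨Q, hQ⟩ := (hT₁.map (Subgroup.normalizer
      ((Subgroup.zpowers u : Subgroup G) : Set G)).subtype).exists_le_sylow
  have hrQ : (r : G) ∈ (Q : Subgroup G) :=
    hQ (Subgroup.mem_map_of_mem _ (Subgroup.mem_sup_left hr))
  have hP₀Q : (P : Subgroup G) ⊓ Subgroup.centralizer ({u} : Set G) ≤ (Q : Subgroup G) := by
    intro y hy
    apply hQ
    exact ⟨⟨y, hP₀N hy⟩, Subgroup.mem_sup_right (Subgroup.mem_subgroupOf.mpr hy), rfl⟩
  have hcardQ : Nat.card (Q : Subgroup G) = Nat.card (P : Subgroup G) := by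
    rw [Sylow.card_eq_multiplicity, Sylow.card_eq_multiplicity]
  have hidxP := relIndex_two hF huU htP htu hzU hz1 hzP
  have h1 := card_mul_relIndex'
    (inf_le_left : (P : Subgroup G) ⊓ Subgroup.centralizer ({u} : Set G) ≤ (P : Subgroup G))
  have h2' := card_mul_relIndex' hP₀Q
  have hidxQ : ((P : Subgroup G) ⊓ Subgroup.centralizer ({u} : Set G)).relIndex
      (Q : Subgroup G) = 2 := by
    rw [hidxP] at h1
    rw [hcardQ, ← h1] at h2'
    exact Nat.eq_of_mul_eq_mul_left Nat.card_pos h2'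
  have hQnorm : (Q : Subgroup G) ≤ Subgroup.normalizer
      (((P : Subgroup G) ⊓ Subgroup.centralizer ({u} : Set G) : Subgroup G) : Set G) :=
    (Subgroup.normal_subgroupOf_iff_le_normalizer hP₀Q).mp
      (Subgroup.normal_of_index_eq_two hidxQ)
  have hr₀u : (r : G) * u = u * (r : G) := (hNiff r.1).mp r.2
  rcases comm_eq_of_normalizes hF huU htP htu hzU hz1 hzP hinvol hr₀u (hQnorm hrQ) with h3 | h3
  · left
    apply Subtype.ext
    rw [coe_commutatorElement']
    exact h3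
  · right
    apply Subtype.ext
    rw [coe_commutatorElement']
    exact h3

end Case2

section Final

variable {G : Type*} [Group G] [Finite G]

theorem self_mem_pCore {u : G} (husq : u * u = 1)
    (huN : u ∈ Subgroup.normalizer ((Subgroup.zpowers u : Subgroup G) : Set G))
    (hcent : ∀ h : ↥(Subgroup.normalizer ((Subgroup.zpowers u : Subgroup G) : Set G)),
      h * ⟨u, huN⟩ = ⟨u, huN⟩ * h) :
    (⟨u, huN⟩ : ↥(Subgroup.normalizer ((Subgroup.zpowers u : Subgroup G) : Set G))) ∈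
      Cfsg.pCore 2 ↥(Subgroup.normalizer ((Subgroup.zpowers u : Subgroup G) : Set G)) := by
  haveI : Fact (Nat.Prime 2) := ⟨Nat.prime_two⟩
  have h1 : Subgroup.zpowers (⟨u, huN⟩ :
      ↥(Subgroup.normalizer ((Subgroup.zpowers u : Subgroup G) : Set G))) ≤ Subgroup.center _ := by
    rw [Subgroup.zpowers_le, Subgroup.mem_center_iff]
    exact hcent
  have h2 := Cfsg.Agent.Lib.Helper32_PGroup.normal_of_le_center _ h1
  have h3 : IsPGroup 2 (Subgroup.zpowers (⟨u, huN⟩ :
      ↥(Subgroup.normalizer ((Subgroup.zpowers u : Subgroup G) : Set G)))) :=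
    Cfsg.Agent.Lib.Helper48_Generation.isPGroup_zpowers_of_pow_eq_one
      (by rw [pow_two]; exact Subtype.ext husq)
  exact le_pCore h2 h3 (Subgroup.mem_zpowers _)

/-- For every involution `u ∈ U`, the four-group `U` lies in `O_2(C_G(u))`. -/
theorem key (h2 : Cfsg.IsCharacteristicTwoType G) (P : Sylow 2 G) (U : Subgroup G)
    (hF : FourData (P : Subgroup G) U)
    (hUZ : ¬ IsCyclic ↥((P : Subgroup G) ⊓ Subgroup.centralizer ((P : Subgroup G) : Set G)) →
      U ≤ Subgroup.centralizer ((P : Subgroup G) : Set G))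
    {u : G} (huU : u ∈ U) (hu1 : u ≠ 1) {v : G} (hv : v ∈ U)
    (hvN : v ∈ Subgroup.normalizer ((Subgroup.zpowers u : Subgroup G) : Set G)) :
    (⟨v, hvN⟩ : ↥(Subgroup.normalizer ((Subgroup.zpowers u : Subgroup G) : Set G))) ∈
      Cfsg.pCore 2 ↥(Subgroup.normalizer ((Subgroup.zpowers u : Subgroup G) : Set G)) := by
  haveI : Fact (Nat.Prime 2) := ⟨Nat.prime_two⟩
  by_cases hucent : ∀ r ∈ (P : Subgroup G), r * u = u * r
  · exact key_central h2 P U hF huU hu1 hucent hv hvN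
  push Not at hucent
  obtain ⟨t, htP, htu⟩ := hucent
  have husq := hF.sq u huU
  have hNiff := mem_normalizer_zpowers_iff husq hu1
  have hcyc : IsCyclic ↥((P : Subgroup G) ⊓ Subgroup.centralizer ((P : Subgroup G) : Set G)) := by
    by_contra hnc
    have h1 := hUZ hnc huU
    exact htu ((Subgroup.mem_centralizer_iff.mp h1) t htP)
  obtain ⟨z, hzU, hz1, hzP⟩ : ∃ z ∈ U, z ≠ 1 ∧ ∀ r ∈ (P : Subgroup G), r * z = z * r := by
    haveI : (U.subgroupOf (P : Subgroup G)).Normal :=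
      (Subgroup.normal_subgroupOf_iff_le_normalizer hF.le).mpr hF.norm
    have hne : U.subgroupOf (P : Subgroup G) ≠ ⊥ := by
      intro h
      apply hu1
      have h1 : (⟨u, hF.le huU⟩ : ↥(P : Subgroup G)) ∈ U.subgroupOf (P : Subgroup G) :=
        Subgroup.mem_subgroupOf.mpr huU
      rw [h, Subgroup.mem_bot] at h1
      exact congrArg Subtype.val h1
    obtain ⟨z', hz'U, hz'c, hz'1⟩ :=
      Cfsg.Agent.Lib.Helper32_PGroup.exists_mem_center_of_normal P.2
        (U.subgroupOf (P : Subgroup G)) hne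
    refine ⟨z'.1, Subgroup.mem_subgroupOf.mp hz'U, fun h => hz'1 (Subtype.ext h), ?_⟩
    intro r hr
    have h1 := Subgroup.mem_center_iff.mp hz'c ⟨r, hr⟩
    exact congrArg Subtype.val h1
  have hzu : z ≠ u := by
    rintro rfl
    exact htu (hzP t htP)
  have hUN : ∀ x ∈ U, x ∈ Subgroup.normalizer ((Subgroup.zpowers u : Subgroup G) : Set G) :=
    fun x hx => (hNiff x).mpr (hF.comm x hx u huU)
  have hz' := key_noncentral h2 P U hF hcyc huU hu1 htP htu hzU hz1 hzP (hUN z hzU)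
  have hu' := self_mem_pCore husq (hUN u huU) (fun h => Subtype.ext ((hNiff h.1).mp h.2))
  by_cases hv1 : v = 1
  · have h1 : (⟨v, hvN⟩ : ↥(Subgroup.normalizer ((Subgroup.zpowers u : Subgroup G) : Set G))) = 1 :=
      Subtype.ext hv1
    rw [h1]
    exact one_mem _
  by_cases hvz : v = z
  · subst hvz
    exact hz'
  by_cases hvu : v = u
  · subst hvu
    exact hu'
  have hvzu : v = z * u := hF.three z hzU u huU v hv hz1 hu1 hzu hv1 hvz hvu
  have h1 : (⟨v, hvN⟩ : ↥(Subgroup.normalizer ((Subgroup.zpowers u : Subgroup G) : Set G))) =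
      ⟨z, hUN z hzU⟩ * ⟨u, hUN u huU⟩ := Subtype.ext hvzu
  rw [h1]
  exact mul_mem hz' hu'

end Final

/-- Let `G` be a finite non-abelian simple group in which every local subgroup is solvable and which is of characteristic 2 type. Let `P` be a Sylow 2-subgroup of `G` and `U` a normal subgroup of `P` that is a four-group, with `U` central in `P` if the centre of `P` is not cyclic. Then `U` centralizes every subgroup of odd order of `G` that it normalizes. -/
theorem result {G : Type*} [Group G] [Finite G]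
    [IsSimpleGroup G] (hna : ¬ IsMulCommutative G) (hN : Cfsg.IsNGroup G) (h2 : Cfsg.IsCharacteristicTwoType G)
    (P : Sylow 2 G) (U : Subgroup G) (hUP : U ≤ (P : Subgroup G)) (hUn : (P : Subgroup G) ≤ Subgroup.normalizer (U : Set G))
    (hU4 : IsKleinFour ↥U)
    (hUZ : ¬ IsCyclic ↥((P : Subgroup G) ⊓ Subgroup.centralizer ((P : Subgroup G) : Set G)) →
      U ≤ Subgroup.centralizer ((P : Subgroup G) : Set G))
    (K : Subgroup G) (hK : Odd (Nat.card K)) (hUK : U ≤ Subgroup.normalizer (K : Set G)) :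
    U ≤ Subgroup.centralizer (K : Set G) := by
  classical
  haveI : Fact (Nat.Prime 2) := ⟨Nat.prime_two⟩
  have hF : FourData (P : Subgroup G) U :=
    { le := hUP
      norm := hUn
      sq := fun a ha => congrArg Subtype.val (IsKleinFour.mul_self (⟨a, ha⟩ : ↥U))
      comm := fun a ha b hb =>
        congrArg Subtype.val
          ((IsKleinFour.isMulCommutative (G := ↥U)).is_comm.comm ⟨a, ha⟩ ⟨b, hb⟩)
      three := fun x hx y hy w hw hx1 hy1 hxy hw1 hwx hwy =>
        congrArg Subtype.val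
          (IsKleinFour.eq_mul_of_ne_all (G := ↥U) (x := ⟨x, hx⟩) (y := ⟨y, hy⟩) (z := ⟨w, hw⟩)
            (fun h => hx1 (congrArg Subtype.val h)) (fun h => hy1 (congrArg Subtype.val h))
            (fun h => hxy (congrArg Subtype.val h)) (fun h => hw1 (congrArg Subtype.val h))
            (fun h => hwx (congrArg Subtype.val h)) (fun h => hwy (congrArg Subtype.val h))) }
  -- the main claim
  have hmain : ∀ u ∈ U, u ≠ 1 →
      K ⊓ Subgroup.centralizer ({u} : Set G) ≤ Subgroup.centralizer (U : Set G) := by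
    intro u huU hu1 k hk
    rw [Subgroup.mem_inf, Subgroup.mem_centralizer_singleton_iff] at hk
    obtain ⟨hkK, hku⟩ := hk
    rw [Subgroup.mem_centralizer_iff]
    intro v hv
    have husq := hF.sq u huU
    have hNiff := mem_normalizer_zpowers_iff husq hu1
    have hvN : v ∈ Subgroup.normalizer ((Subgroup.zpowers u : Subgroup G) : Set G) :=
      (hNiff v).mpr (hF.comm v hv u huU)
    have hkN : k ∈ Subgroup.normalizer ((Subgroup.zpowers u : Subgroup G) : Set G) :=
      (hNiff k).mpr hku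
    have hvcore := key h2 P U hF hUZ huU hu1 hv hvN
    have hcn : (Cfsg.pCore 2 ↥(Subgroup.normalizer
        ((Subgroup.zpowers u : Subgroup G) : Set G))).Normal := inferInstance
    have hc1 : ((⟨k, hkN⟩ : ↥(Subgroup.normalizer ((Subgroup.zpowers u : Subgroup G) : Set G))) *
        ⟨v, hvN⟩ * ⟨k, hkN⟩⁻¹) * ⟨v, hvN⟩⁻¹ ∈ Cfsg.pCore 2 ↥(Subgroup.normalizer
        ((Subgroup.zpowers u : Subgroup G) : Set G)) :=
      mul_mem (hcn.conj_mem _ hvcore _) (inv_mem hvcore)
    have hc2 : k * v * k⁻¹ * v⁻¹ ∈ K := by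
      have hvK : v ∈ Subgroup.normalizer (K : Set G) := hUK hv
      have h1 : v * k⁻¹ * v⁻¹ ∈ K := (Subgroup.mem_normalizer_iff.mp hvK k⁻¹).mp (inv_mem hkK)
      have e : k * v * k⁻¹ * v⁻¹ = k * (v * k⁻¹ * v⁻¹) := by group
      rw [e]
      exact mul_mem hkK h1
    obtain ⟨n, hn⟩ := (pCore_isPGroup (G := ↥(Subgroup.normalizer
        ((Subgroup.zpowers u : Subgroup G) : Set G))) 2) ⟨_, hc1⟩
    have hpow : (k * v * k⁻¹ * v⁻¹) ^ (2 ^ n) = 1 := by
      have h1 := congrArg Subtype.val (congrArg Subtype.val hn)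
      simpa using h1
    have hord1 : orderOf (k * v * k⁻¹ * v⁻¹) ∣ 2 ^ n := orderOf_dvd_of_pow_eq_one hpow
    have hord2 : orderOf (k * v * k⁻¹ * v⁻¹) ∣ Nat.card K := by
      have h1 := orderOf_dvd_natCard (⟨_, hc2⟩ : ↥K)
      rwa [Subgroup.orderOf_mk] at h1
    have hcop : Nat.Coprime (2 ^ n) (Nat.card K) :=
      Nat.Coprime.pow_left n (Nat.coprime_two_left.mpr hK)
    have h1 : orderOf (k * v * k⁻¹ * v⁻¹) = 1 := Nat.eq_one_of_dvd_coprimes hcop hord1 hord2
    have h3 : k * v * k⁻¹ * v⁻¹ = 1 := orderOf_eq_one_iff.mp h1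
    calc v * k = (k * v * k⁻¹ * v⁻¹)⁻¹ * (k * v) := by group
      _ = k * v := by rw [h3]; group
  -- two distinct involutions of `U`
  obtain ⟨a, b, haU, hbU, ha1, hb1, hab⟩ :
      ∃ a b : G, a ∈ U ∧ b ∈ U ∧ a ≠ 1 ∧ b ≠ 1 ∧ a ≠ b := by
    haveI : Finite ↥U := inferInstance
    letI : Fintype ↥U := Fintype.ofFinite _
    have hcard : 2 < Fintype.card ↥U := by
      rw [← Nat.card_eq_fintype_card, IsKleinFour.card_four]
      norm_num
    obtain ⟨x, y, w, hxy, hxw, hyw⟩ := Fintype.two_lt_card_iff.mp hcard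
    by_cases hx1 : x = 1
    · refine ⟨y.1, w.1, y.2, w.2, ?_, ?_, fun h => hyw (Subtype.ext h)⟩
      · intro h
        exact hxy (hx1.trans (Subtype.ext h).symm)
      · intro h
        exact hxw (hx1.trans (Subtype.ext h).symm)
    by_cases hy1 : y = 1
    · refine ⟨x.1, w.1, x.2, w.2, fun h => hx1 (Subtype.ext h), ?_, fun h => hxw (Subtype.ext h)⟩
      intro h
      exact hyw (hy1.trans (Subtype.ext h).symm)
    · exact ⟨x.1, y.1, x.2, y.2, fun h => hx1 (Subtype.ext h), fun h => hy1 (Subtype.ext h),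
        fun h => hxy (Subtype.ext h)⟩
  have hK2 : ¬ 2 ∣ Nat.card K := by
    rw [← even_iff_two_dvd, Nat.not_even_iff_odd]
    exact hK
  have hKle : K ≤ Subgroup.centralizer (U : Set G) := by
    apply Cfsg.Agent.Lib.Helper48_Generation.le_of_centralizers_le (p := 2) K hK2 a b
      (hUK haU) (hUK hbU) (by rw [pow_two]; exact hF.sq a haU) (by rw [pow_two]; exact hF.sq b hbU)
      (hF.comm a haU b hbU) (Subgroup.centralizer (U : Set G)) (hmain b hbU hb1)
    intro i
    apply hmain (a * b ^ i) (mul_mem haU (pow_mem hbU i))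
    intro h
    rcases Nat.even_or_odd i with ⟨j, hj⟩ | ⟨j, hj⟩
    · have h1 : b ^ i = 1 := by
        rw [hj, ← two_mul, pow_mul, pow_two, hF.sq b hbU, one_pow]
      rw [h1, mul_one] at h
      exact ha1 h
    · have h1 : b ^ i = b := by
        rw [hj, pow_succ, pow_mul, pow_two, hF.sq b hbU, one_pow, one_mul]
      rw [h1] at h
      apply hab
      have h4 : a = b⁻¹ := eq_inv_of_mul_eq_one_left h
      rw [h4, hF.inv_eq hbU]
  intro v hv
  rw [Subgroup.mem_centralizer_iff]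
  intro k hk
  exact ((Subgroup.mem_centralizer_iff.mp (hKle hk)) v hv).symm

end Cfsg.Agent.S1957
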