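import Cfsg.Statements.S1962
import Cfsg.Agent.Lib.Helper33_WTransfer
import Cfsg.Agent.S1963

set_option autoImplicit false
open Cfsg

namespace Cfsg.Agent.S1962

open Cfsg.Agent.Lib.Helper33_Conj Cfsg.Agent.Lib.Helper33_Alperin Cfsg.Agent.Lib.Helper33_WTransfer

/-- Local-to-global control of transfer through well-placed subgroups. Let p be a prime, G a finite group with Sylow p-subgroup S, and W a conjugacy functor for p on G. If W controls transfer in N_G(T) for every nonidentity subgroup T of S that is well placed in S with respect to W, then W controls transfer in G: S ∩ G' = S ∩ (N_G(W(S)))'. -/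
theorem result {G : Type*} [Group G] [Finite G] {p : ℕ} [Fact p.Prime] (S : Sylow p G) (W : Subgroup G → Subgroup G) (hW : Cfsg.IsConjugacyFunctor p W) (hloc : ∀ T : Subgroup G, T ≠ ⊥ → Cfsg.IsWellPlaced p W (S : Subgroup G) T → Cfsg.ControlsTransferIn p W (Subgroup.normalizer ((T : Subgroup G) : Set G))) : Cfsg.ControlsTransferIn p W ⊤ := by
  rw [controlsTransfer_iff_singleton]
  apply familyControlsTransfer_of_local S (𝓦 := {W}) (by intro W' hW'; rw [Set.mem_singleton_iff] at hW'; rw [hW']; exact hW)
    {T : Subgroup G | Cfsg.IsWellPlaced p W (S : Subgroup G) T}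
  · intro T hT
    obtain ⟨g, hg⟩ := Cfsg.Agent.S1963.result S W hW T hT
    exact ⟨_, hg, hg.1, ⟨g, rfl⟩, hg.2 0⟩
  · intro U hU _ hUne _
    exact controlsTransfer_iff_singleton.mp (hloc U hUne hU)

end Cfsg.Agent.S1962
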