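import Cfsg.Statements.S1966

set_option autoImplicit false
open Cfsg

namespace Cfsg.Agent.S1966

theorem normal_pgroup_le_sylow {G : Type*} [Group G] [Finite G] {p : ℕ} [Fact p.Prime] (S : Sylow p G)
    (N : Subgroup G) [hN : N.Normal] (hp : IsPGroup p N) : N ≤ (S : Subgroup G) := by
  obtain ⟨S', hS'⟩ := hp.exists_le_sylow
  obtain ⟨g, rfl⟩ := MulAction.exists_smul_eq G S' S
  intro x hx
  show x ∈ ((g • S' : Sylow p G) : Subgroup G)
  rw [Sylow.coe_subgroup_smul, Subgroup.mem_pointwise_smul_iff_inv_smul_mem]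
  apply hS'
  have := hN.conj_mem x hx g⁻¹
  simpa [MulAut.smul_def] using this

theorem pCore_le_sylow {G : Type*} [Group G] [Finite G] {p : ℕ} [Fact p.Prime] (S : Sylow p G) :
    Cfsg.pCore p G ≤ (S : Subgroup G) := by
  unfold Cfsg.pCore
  apply sSup_le
  rintro N ⟨hN, hp⟩
  exact normal_pgroup_le_sylow S N hp

/-- Let p be a prime, G a finite group with Sylow p-subgroup S and 𝓕 a conjugation family for S in G. Then the members of 𝓕 containing O_p(G) still form a conjugation family for S in G. -/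
theorem result {G : Type*} [Group G] [Finite G] {p : ℕ} [Fact p.Prime] (S : Sylow p G) (𝓕 : Set (Subgroup G)) (h : Cfsg.IsConjugationFamily 𝓕 (S : Subgroup G)) : Cfsg.IsConjugationFamily {T : Subgroup G | T ∈ 𝓕 ∧ Cfsg.pCore p G ≤ T} (S : Subgroup G) := by
  obtain ⟨h1, h2⟩ := h
  refine ⟨fun T hT => h1 T hT.1, ?_⟩
  intro A g hAne hAS hAg
  have hQS : Cfsg.pCore p G ≤ (S : Subgroup G) := pCore_le_sylow S
  have hQn : (Cfsg.pCore p G).Normal := Subgroup.sSup_normal _ (fun _ h => h.1)
  obtain ⟨n, T, x, hprod, hT, hx, h0, hstep⟩ := h2 (A ∪ (Cfsg.pCore p G : Set G)) g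
    (hAne.mono Set.subset_union_left)
    (Set.union_subset hAS hQS)
    (by
      rintro _ ⟨a, ha | ha, rfl⟩
      · exact hAg ⟨a, ha, rfl⟩
      · apply hQS
        have := hQn.conj_mem a ha g⁻¹
        simpa using this)
  refine ⟨n, T, x, hprod, ?_, hx, ?_, ?_⟩
  · intro i
    refine ⟨hT i, ?_⟩
    obtain ⟨i, hi⟩ := i
    cases i with
    | zero =>
      intro q hq
      exact h0 (by omega) (Or.inr hq)
    | succ j =>
      intro q hq
      apply hstep ⟨j, by omega⟩ hi
      refine ⟨((List.ofFn x).take (j + 1)).prod * q * (((List.ofFn x).take (j + 1)).prod)⁻¹, Or.inr ?_, ?_⟩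
      · exact hQn.conj_mem q hq _
      · simp only []
        group
  · intro hn
    exact Set.subset_union_left.trans (h0 hn)
  · intro i hi
    refine Set.Subset.trans ?_ (hstep i hi)
    exact Set.image_mono Set.subset_union_left

end Cfsg.Agent.S1966
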