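import Cfsg.Statements.S1967
import Cfsg.Agent.Lib.Helper33_Conj

set_option autoImplicit false
open Cfsg

namespace Cfsg.Agent.S1967

open Cfsg.Agent.Lib.Helper33_Conj

/-- Let p be a prime, G a finite group with Sylow p-subgroup S and W a conjugacy functor for p on G. Then W controls strong fusion in G if and only if, whenever T ≤ S and g ∈ G satisfy gTg⁻¹ ≤ S, one can write g = n c with n ∈ N_G(W(S)) and c ∈ C_G(T). -/
theorem result {G : Type*} [Group G] [Finite G] {p : ℕ} [Fact p.Prime] (S : Sylow p G) (W : Subgroup G → Subgroup G) (hW : Cfsg.IsConjugacyFunctor p W) : Cfsg.ControlsStrongFusionIn p W ⊤ ↔ ∀ (T : Subgroup G) (g : G), T ≤ (S : Subgroup G) → T.map (MulAut.conj g).toMonoidHom ≤ (S : Subgroup G) → ∃ n ∈ Subgroup.normalizer ((W (S : Subgroup G) : Subgroup G) : Set G), ∃ c ∈ Subgroup.centralizer (T : Set G), g = n * c := by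
  constructor
  · rintro ⟨T₀, -, hT₀p, hT₀idx, hctl⟩ T g hTS hTg
    rw [Subgroup.relIndex_top_right] at hT₀idx
    obtain ⟨k, rfl⟩ := exists_cj_eq_of_index S T₀ hT₀p hT₀idx
    have hWk : W (cj k (S : Subgroup G)) = cj k (W (S : Subgroup G)) := (hW _ S.2).2.2 k
    obtain ⟨x, hx, hxa⟩ := hctl ((cj k T : Subgroup G) : Set G) (k * g * k⁻¹) (Subgroup.mem_top _)
      (cj_mono hTS)
      (by
        rintro _ ⟨a, ha, rfl⟩
        rw [SetLike.mem_coe, mem_cj] at ha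
        rw [SetLike.mem_coe, mem_cj]
        have h1 : g * (k⁻¹ * a * k) * g⁻¹ ∈ cj g T := conj_mem_cj ha
        have h2 := hTg h1
        have : k⁻¹ * (k * g * k⁻¹ * a * (k * g * k⁻¹)⁻¹) * k = g * (k⁻¹ * a * k) * g⁻¹ := by group
        rw [this]; exact h2)
    have hx2 : x ∈ Subgroup.normalizer ((cj k (W (S : Subgroup G)) : Subgroup G) : Set G) := by
      rw [← hWk]; exact hx.2
    rw [← cj_normalizer, mem_cj] at hx2
    refine ⟨k⁻¹ * x * k, hx2, (k⁻¹ * x * k)⁻¹ * g, ?_, by group⟩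
    rw [Subgroup.mem_centralizer_iff]
    intro t ht
    have := hxa (k * t * k⁻¹) (conj_mem_cj ht)
    have h3 : (k⁻¹ * x * k) * t * (k⁻¹ * x * k)⁻¹ = g * t * g⁻¹ := by
      calc (k⁻¹ * x * k) * t * (k⁻¹ * x * k)⁻¹ = k⁻¹ * (x * (k * t * k⁻¹) * x⁻¹) * k := by group
        _ = k⁻¹ * (k * g * k⁻¹ * (k * t * k⁻¹) * (k * g * k⁻¹)⁻¹) * k := by rw [this]
        _ = g * t * g⁻¹ := by group
    calc t * ((k⁻¹ * x * k)⁻¹ * g) = (k⁻¹ * x * k)⁻¹ * ((k⁻¹ * x * k) * t * (k⁻¹ * x * k)⁻¹) * (k⁻¹ * x * k) * ((k⁻¹ * x * k)⁻¹ * g) := by group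
      _ = (k⁻¹ * x * k)⁻¹ * (g * t * g⁻¹) * (k⁻¹ * x * k) * ((k⁻¹ * x * k)⁻¹ * g) := by rw [h3]
      _ = (k⁻¹ * x * k)⁻¹ * g * t := by group
  · intro h
    refine ⟨(S : Subgroup G), le_top, S.2, ?_, ?_⟩
    · rw [Subgroup.relIndex_top_right]
      exact S.not_dvd_index
    · intro A g _ hAS hAg
      have h1 : Subgroup.closure A ≤ (S : Subgroup G) := (Subgroup.closure_le _).mpr hAS
      have h2 : cj g (Subgroup.closure A) ≤ (S : Subgroup G) := by
        rw [cj_closure]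
        exact (Subgroup.closure_le _).mpr hAg
      obtain ⟨n, hn, c, hc, rfl⟩ := h (Subgroup.closure A) g h1 h2
      refine ⟨n, ⟨Subgroup.mem_top _, hn⟩, ?_⟩
      intro a ha
      have := (Subgroup.mem_centralizer_iff.mp hc) a (Subgroup.subset_closure ha)
      calc n * a * n⁻¹ = n * (a * c) * c⁻¹ * n⁻¹ := by group
        _ = n * (c * a) * c⁻¹ * n⁻¹ := by rw [this]
        _ = n * c * a * (n * c)⁻¹ := by group

end Cfsg.Agent.S1967
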