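import Cfsg.Statements.S1971
import Cfsg.Agent.Lib.Helper34_NPC
import Cfsg.Agent.Lib.Helper33_WTransfer
import Cfsg.Agent.Lib.Helper87_Hyperfocal
import Cfsg.Agent.Lib.Helper35_PGroupAut
import Cfsg.Agent.S0642

set_option autoImplicit false
open Cfsg

universe u

namespace Cfsg.Agent.S1971

open Cfsg.Agent.Lib.Helper34_NPC Cfsg.Agent.Lib.Helper33_WTransfer Cfsg.Agent.Lib.Helper33_Conj

variable {p : ℕ} [Fact p.Prime] {W : ∀ (Q : Type u) [Group Q], Subgroup Q}

/-- the induced functor of an isomorphism-invariant functor is a conjugacy functor -/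
theorem isConjugacyFunctor_induced (hW : Cfsg.IsCharPFunctor.{u} p W) (X : Type u) [Group X]
    [Finite X] : Cfsg.IsConjugacyFunctor p (Cfsg.inducedFunctor (G := X) W) :=
  fun P hP => ⟨inducedFunctor_le W P, inducedFunctor_ne_bot hW hP,
    fun g => inducedFunctor_conj hW P hP g⟩

/-- transfer control in the whole group `X` -/
def CT (p : ℕ) (W : ∀ (Q : Type u) [Group Q], Subgroup Q) (X : Type u) [Group X] : Prop :=
  Cfsg.ControlsTransferIn p (Cfsg.inducedFunctor (G := X) W) ⊤

/-- consequence of transfer control for an arbitrary Sylow subgroup -/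
theorem CT.sylow (hW : Cfsg.IsCharPFunctor.{u} p W) {X : Type u} [Group X] [Finite X]
    (h : CT p W X) (S : Sylow p X) :
    (S : Subgroup X) ⊓ ⁅(⊤ : Subgroup X), ⊤⁆ =
      (S : Subgroup X) ⊓ ⁅Subgroup.normalizer
        ((Cfsg.inducedFunctor W (S : Subgroup X) : Subgroup X) : Set X),
        Subgroup.normalizer ((Cfsg.inducedFunctor W (S : Subgroup X) : Subgroup X) : Set X)⁆ := by
  have h1 : Cfsg.FamilyControlsTransferIn p {Cfsg.inducedFunctor (G := X) W} ⊤ :=
    controlsTransfer_iff_singleton.mp h
  have h𝓦 : ∀ W' ∈ ({Cfsg.inducedFunctor (G := X) W} : Set (Subgroup X → Subgroup X)),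
      Cfsg.IsConjugacyFunctor p W' := by
    intro W' hW'
    rw [Set.mem_singleton_iff] at hW'
    rw [hW']
    exact isConjugacyFunctor_induced hW X
  have h2 := eq_DD_of_controls h𝓦 h1 (le_top : (S : Subgroup X) ≤ ⊤) S.2
    (by rw [Subgroup.relIndex_top_right]; exact S.not_dvd_index)
  rw [h2]
  unfold DD
  simp only [Set.mem_singleton_iff, iSup_iSup_eq_left]
  unfold DDterm
  rw [top_inf_eq]

/-- transfer control is invariant under isomorphism -/
theorem CT.of_equiv (hW : Cfsg.IsCharPFunctor.{u} p W) {Q X : Type u} [Group Q] [Group X]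
    [Finite Q] (e : Q ≃* X) (h : CT p W Q) : CT p W X := by
  obtain ⟨T, -, hTp, hTi, hT⟩ := h
  have hinj : Function.Injective e.toMonoidHom := e.injective
  refine ⟨T.map e.toMonoidHom, le_top, hTp.map _, ?_, ?_⟩
  · rw [Subgroup.relIndex_top_right] at hTi ⊢
    have : (T.map e.toMonoidHom).index = T.index := Subgroup.index_map_equiv T e
    rw [this]
    exact hTi
  · have hfun := inducedFunctor_map hW e.toMonoidHom T hTp
      (fun x _ hx => by
        have : e x = e 1 := by rw [map_one]; exact hx
        exact e.injective this)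
    have htop : (⊤ : Subgroup X) = (⊤ : Subgroup Q).map e.toMonoidHom :=
      (Subgroup.map_top_of_surjective e.toMonoidHom e.surjective).symm
    rw [hfun, ← Subgroup.map_equiv_normalizer_eq, htop, ← Subgroup.map_inf _ _ _ hinj,
      ← Subgroup.map_commutator, ← Subgroup.map_commutator, ← Subgroup.map_inf _ _ _ hinj,
      ← Subgroup.map_inf _ _ _ hinj, hT]

/-- the section hypothesis: transfer control in every group involved in `G` -/
def SecCT (p : ℕ) (W : ∀ (Q : Type u) [Group Q], Subgroup Q) (G : Type u) [Group G] : Prop :=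
  ∀ (X : Type u) [Group X], Cfsg.Involves X G → CT p W X

theorem SecCT.of_subgroup {G : Type u} [Group G] (h : SecCT p W G) (M : Subgroup G) :
    SecCT p W M :=
  fun X _ hX => h X (involves_of_subgroup M hX)

theorem SecCT.of_surjective {G G' : Type u} [Group G] [Group G'] (h : SecCT p W G)
    (π : G →* G') (hπ : Function.Surjective π) : SecCT p W G' :=
  fun X _ hX => h X (involves_of_surjective π hπ hX)


/-! ### Producing normal subgroups of index `p` -/

/-- a group mapping onto a nontrivial finite `p`-group has a normal subgroup of index `p` -/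
theorem exists_index_p_of_surjective {X Y : Type*} [Group X] [Group Y] [Finite Y]
    (hY : IsPGroup p Y) [Nontrivial Y] (f : X →* Y) (hf : Function.Surjective f) :
    ∃ N : Subgroup X, N.Normal ∧ N.index = p := by
  obtain ⟨M, hMn, hMi⟩ := Cfsg.Agent.S0642.exists_normal_index_p hY
  refine ⟨M.comap f, hMn.comap f, ?_⟩
  rw [Subgroup.index_comap_of_surjective _ hf]
  exact hMi

/-- a finite group with a `p`-element outside its commutator subgroup has a normal subgroup of
index `p` -/
theorem exists_index_p_of_not_mem_commutator {X : Type*} [Group X] [Finite X] {s : X} {j : ℕ}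
    (hs : s ^ p ^ j = 1) (hsX : s ∉ commutator X) :
    ∃ N : Subgroup X, N.Normal ∧ N.index = p := by
  have hp : p.Prime := Fact.out
  -- the abelianization
  let A := Abelianization X
  have hA0 : Nat.card A ≠ 0 := Nat.card_pos.ne'
  obtain ⟨k, m, hm, hkm⟩ := Nat.exists_eq_pow_mul_and_not_dvd hA0 p hp.ne_one
  let f : A →* A := powMonoidHom m
  let Y := f.range
  have hYp : IsPGroup p Y := by
    rintro ⟨y, a, rfl⟩
    refine ⟨k, ?_⟩
    apply Subtype.ext
    show (f a) ^ p ^ k = 1
    show (a ^ m) ^ p ^ k = 1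
    rw [← pow_mul, mul_comm, ← hkm]
    exact pow_card_eq_one'
  let a : A := Abelianization.of s
  have ha1 : a ≠ 1 := by
    intro h
    apply hsX
    have : (QuotientGroup.mk s : X ⧸ commutator X) = 1 := h
    rwa [QuotientGroup.eq_one_iff] at this
  have hapj : a ^ p ^ j = 1 := by
    show (Abelianization.of s) ^ p ^ j = 1
    rw [← map_pow, hs, map_one]
  have ham : a ^ m ≠ 1 := by
    intro h
    have h1 : orderOf a ∣ m := orderOf_dvd_of_pow_eq_one h
    have h2 : orderOf a ∣ p ^ j := orderOf_dvd_of_pow_eq_one hapj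
    have hcop : Nat.Coprime m (p ^ j) :=
      Nat.Coprime.pow_right j ((Nat.Prime.coprime_iff_not_dvd hp).mpr hm).symm
    have h3 : orderOf a = 1 := Nat.eq_one_of_dvd_coprimes hcop h1 h2
    exact ha1 (orderOf_eq_one_iff.mp h3)
  have hYnt : Nontrivial Y := by
    refine ⟨⟨⟨a ^ m, a, rfl⟩, 1, ?_⟩⟩
    intro h
    apply ham
    exact congrArg Subtype.val h
  have hsurj : Function.Surjective (f.rangeRestrict.comp (Abelianization.of (G := X))) :=
    f.rangeRestrict_surjective.comp (QuotientGroup.mk'_surjective _)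
  exact exists_index_p_of_surjective hYp _ hsurj


/-! ### The hypothesis on `N(S)/C(S)` -/

/-- the hypothesis that `N(S)/C(S)` is a `p`-group -/
def NCHyp (p : ℕ) {X : Type*} [Group X] (S : Subgroup X) : Prop :=
  ∀ g ∈ Subgroup.normalizer (S : Set X), (orderOf g).Coprime p →
    g ∈ Subgroup.centralizer (S : Set X)

theorem ncHyp_subgroup {X : Type*} [Group X] (S H : Subgroup X) (hSH : S ≤ H)
    (hN : NCHyp p S) : NCHyp p (S.subgroupOf H) := by
  intro g hg hco
  have hgN : (g : X) ∈ Subgroup.normalizer (S : Set X) := by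
    rw [Subgroup.mem_normalizer_iff] at hg ⊢
    intro x
    constructor
    · intro hx
      have := (hg ⟨x, hSH hx⟩).mp (Subgroup.mem_subgroupOf.mpr hx)
      exact Subgroup.mem_subgroupOf.mp this
    · intro hx
      have hxH : x ∈ H := by
        have h1 : (g : X) * x * (g : X)⁻¹ ∈ H := hSH hx
        have := H.mul_mem (H.mul_mem (H.inv_mem g.2) h1) g.2
        have e : (g : X)⁻¹ * ((g : X) * x * (g : X)⁻¹) * (g : X) = x := by group
        rwa [e] at this
      have := (hg ⟨x, hxH⟩).mpr (Subgroup.mem_subgroupOf.mpr hx)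
      exact Subgroup.mem_subgroupOf.mp this
  have hc := hN (g : X) hgN (by rwa [Subgroup.orderOf_coe])
  rw [Subgroup.mem_centralizer_iff] at hc ⊢
  rintro ⟨y, hyH⟩ hy
  apply Subtype.ext
  exact hc y (Subgroup.mem_subgroupOf.mp hy)

theorem ncHyp_quotient {X : Type*} [Group X] [Finite X] (S V : Subgroup X) [V.Normal]
    (hVS : V ≤ S) (hN : NCHyp p S) : NCHyp p (S.map (QuotientGroup.mk' V)) := by
  intro gb hgb hco
  obtain ⟨g, rfl⟩ := QuotientGroup.mk'_surjective V gb
  have hcomap : (S.map (QuotientGroup.mk' V)).comap (QuotientGroup.mk' V) = S := by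
    rw [Subgroup.comap_map_eq, QuotientGroup.ker_mk', sup_eq_left.mpr hVS]
  have hgN : g ∈ Subgroup.normalizer (S : Set X) := by
    have h1 : g ∈ (Subgroup.normalizer ((S.map (QuotientGroup.mk' V) : Subgroup (X ⧸ V)) :
        Set (X ⧸ V))).comap (QuotientGroup.mk' V) := hgb
    have h2 := Subgroup.le_normalizer_comap (QuotientGroup.mk' V) h1
    rw [hcomap] at h2
    exact h2
  obtain ⟨k, hk1, hk2⟩ := Cfsg.Agent.Lib.Helper87_Hyperfocal.exists_pow_coprime (p := p) g
    (orderOf_pos g).ne' (m' := orderOf (QuotientGroup.mk' V g)) hco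
  have hgk : g ^ k ∈ Subgroup.centralizer (S : Set X) :=
    hN (g ^ k) (Subgroup.pow_mem _ hgN k) hk1
  have hmk : QuotientGroup.mk' V (g ^ k) = QuotientGroup.mk' V g := by
    rw [map_pow]
    have := (pow_eq_pow_iff_modEq (x := QuotientGroup.mk' V g) (n := k) (m := 1)).mpr hk2
    rw [this, pow_one]
  rw [← hmk, Subgroup.mem_centralizer_iff]
  rintro _ ⟨y, hy, rfl⟩
  rw [← map_mul, ← map_mul, (Subgroup.mem_centralizer_iff.mp hgk) y hy]

/-- the case of a normal Sylow subgroup -/
theorem exists_index_p_of_normal_sylow {X : Type*} [Group X] [Finite X] (S : Sylow p X)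
    (hSn : (S : Subgroup X).Normal) (hSne : (S : Subgroup X) ≠ ⊥)
    (hN : NCHyp p (S : Subgroup X)) : ∃ N : Subgroup X, N.Normal ∧ N.index = p := by
  haveI := hSn
  have hp : p.Prime := Fact.out
  have hcop : Nat.Coprime (Nat.card (S : Subgroup X)) (S : Subgroup X).index :=
    S.card_coprime_index
  obtain ⟨K, hK⟩ := Subgroup.exists_left_complement'_of_coprime hcop
  have hKcard : (S : Subgroup X).index = Nat.card K := hK.index_eq_card
  have hKidx : K.index = Nat.card (S : Subgroup X) := hK.symm.index_eq_card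
  have hKcen : K ≤ Subgroup.centralizer ((S : Subgroup X) : Set X) := by
    intro k hk
    apply hN k
    · rw [Subgroup.normalizer_eq_top]; exact Subgroup.mem_top k
    · have h1 : orderOf (⟨k, hk⟩ : K) ∣ Nat.card K := orderOf_dvd_natCard _
      rw [Subgroup.orderOf_mk, ← hKcard] at h1
      exact Nat.Coprime.coprime_dvd_left h1
        ((Nat.Prime.coprime_iff_not_dvd hp).mpr S.not_dvd_index).symm
  have hKn : K.Normal := by
    constructor
    intro k hk x
    obtain ⟨⟨⟨k', hk'⟩, ⟨s, hs⟩⟩, hks, -⟩ := hK.existsUnique x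
    have hks' : k' * s = x := hks
    have hc : s * k = k * s := (Subgroup.mem_centralizer_iff.mp (hKcen hk)) s hs
    have e : x * k * x⁻¹ = k' * k * k'⁻¹ := by
      rw [← hks']
      calc k' * s * k * (k' * s)⁻¹ = k' * (s * k) * s⁻¹ * k'⁻¹ := by group
        _ = k' * (k * s) * s⁻¹ * k'⁻¹ := by rw [hc]
        _ = k' * k * k'⁻¹ := by group
    rw [e]
    exact K.mul_mem (K.mul_mem hk' hk) (K.inv_mem hk')
  haveI := hKn
  obtain ⟨n, hn⟩ := S.2.exists_card_eq
  have hcardq : Nat.card (X ⧸ K) = p ^ n := by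
    rw [← Subgroup.index_eq_card, hKidx, hn]
  have hYp : IsPGroup p (X ⧸ K) := IsPGroup.of_card hcardq
  have hYnt : Nontrivial (X ⧸ K) := by
    rw [← Finite.one_lt_card_iff_nontrivial, ← Subgroup.index_eq_card, hKidx]
    exact (Subgroup.one_lt_card_iff_ne_bot _).mpr hSne
  exact exists_index_p_of_surjective hYp (QuotientGroup.mk' K) (QuotientGroup.mk'_surjective K)

/-! ### The main induction -/

theorem main (hW : Cfsg.IsCharPFunctor.{u} p W) : ∀ n : ℕ, ∀ (X : Type u) [Group X] [Finite X],
    Nat.card X = n → SecCT p W X → ∀ S : Sylow p X, (S : Subgroup X) ≠ ⊥ →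
    NCHyp p (S : Subgroup X) → ∃ N : Subgroup X, N.Normal ∧ N.index = p := by
  intro n
  induction n using Nat.strong_induction_on with
  | _ n ih =>
  intro X _ _ hcard hsec S hSne hN
  obtain ⟨V, hV⟩ : ∃ V, V = Cfsg.inducedFunctor W (S : Subgroup X) := ⟨_, rfl⟩
  have hVS : V ≤ S := hV ▸ inducedFunctor_le W _
  have hVne : V ≠ ⊥ := hV ▸ inducedFunctor_ne_bot hW S.2 hSne
  have hNSV : Subgroup.normalizer ((S : Subgroup X) : Set X) ≤ Subgroup.normalizer (V : Set X) :=
    hV ▸ normalizer_le_normalizer_inducedFunctor hW _ S.2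
  have hcts := (hsec X (involves_self X)).sylow hW S
  rw [← hV] at hcts
  by_cases hVn : Subgroup.normalizer (V : Set X) = ⊤
  · -- `V` is normal
    haveI hVnormal : V.Normal := Subgroup.normalizer_eq_top_iff.mp hVn
    by_cases hSV : (S : Subgroup X) ≤ V
    · have hSeq : (S : Subgroup X) = V := le_antisymm hSV hVS
      exact exists_index_p_of_normal_sylow S (hSeq ▸ hVnormal) hSne hN
    · -- pass to the quotient
      have hπ : Function.Surjective (QuotientGroup.mk' V) := QuotientGroup.mk'_surjective V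
      have hSb : ((S.mapSurjective hπ : Sylow p (X ⧸ V)) : Subgroup (X ⧸ V)) =
          (S : Subgroup X).map (QuotientGroup.mk' V) := Sylow.coe_mapSurjective hπ S
      have hSbne : ((S.mapSurjective hπ : Sylow p (X ⧸ V)) : Subgroup (X ⧸ V)) ≠ ⊥ := by
        rw [hSb]
        intro h
        apply hSV
        rw [Subgroup.map_eq_bot_iff, QuotientGroup.ker_mk'] at h
        exact h
      have hlt : Nat.card (X ⧸ V) < n := by
        rw [← hcard, ← Subgroup.index_eq_card]
        have h1 := V.card_mul_index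
        have h2 : 1 < Nat.card V := (Subgroup.one_lt_card_iff_ne_bot V).mpr hVne
        have h3 : 0 < V.index := Nat.pos_of_ne_zero Subgroup.index_ne_zero_of_finite
        nlinarith
      obtain ⟨Nb, hNbn, hNbi⟩ := ih _ hlt (X ⧸ V) rfl
        (hsec.of_surjective (QuotientGroup.mk' V) hπ) (S.mapSurjective hπ) hSbne
        (by rw [hSb]; exact ncHyp_quotient _ V hVS hN)
      exact ⟨Nb.comap (QuotientGroup.mk' V), hNbn.comap _,
        by rw [Subgroup.index_comap_of_surjective _ hπ]; exact hNbi⟩
  · -- pass to `H = N(V)`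
    obtain ⟨H, hH⟩ : ∃ H, H = Subgroup.normalizer (V : Set X) := ⟨_, rfl⟩
    rw [← hH] at hVn hNSV hcts
    have hSH : (S : Subgroup X) ≤ H := Subgroup.le_normalizer.trans hNSV
    have hlt : Nat.card H < n := by
      rw [← hcard]
      have hlt' : H < ⊤ := lt_top_iff_ne_top.mpr hVn
      have := Cfsg.Agent.Lib.Helper33_Alperin.card_lt_of_lt hlt'
      rwa [Subgroup.card_top] at this
    have hSHcoe : ((S.subtype hSH : Sylow p H) : Subgroup H) = (S : Subgroup X).subgroupOf H :=
      Sylow.coe_subtype _ _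
    have hSHne : ((S.subtype hSH : Sylow p H) : Subgroup H) ≠ ⊥ := by
      rw [hSHcoe]
      intro h
      apply hSne
      rw [Subgroup.subgroupOf_eq_bot] at h
      have := h.eq_bot
      rwa [inf_eq_left.mpr hSH] at this
    obtain ⟨NH, hNHn, hNHi⟩ := ih _ hlt H rfl (hsec.of_subgroup H) (S.subtype hSH) hSHne
      (by rw [hSHcoe]; exact ncHyp_subgroup _ _ hSH hN)
    have hnot : ¬ (S : Subgroup X) ≤ ⁅H, H⁆ := by
      intro hle
      have h1 : commutator H ≤ NH := by
        rw [commutator_def, Subgroup.commutator_le]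
        intro x _ y _
        exact Cfsg.Agent.Lib.Helper35_PGroupAut.commutator_mem_of_index_eq NH hNHi x y
      have h2 : ((S.subtype hSH : Sylow p H) : Subgroup H) ≤ NH := by
        intro x hx
        apply h1
        rw [hSHcoe, Subgroup.mem_subgroupOf] at hx
        have := hle hx
        rw [← Subgroup.map_subtype_commutator] at this
        obtain ⟨y, hy, hyx⟩ := this
        have : y = x := Subtype.ext hyx
        rwa [← this]
      have h3 : NH.index ∣ ((S.subtype hSH : Sylow p H) : Subgroup H).index :=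
        Subgroup.index_dvd_of_le h2
      rw [hNHi] at h3
      exact (S.subtype hSH).not_dvd_index h3
    obtain ⟨s, hsS, hsH⟩ := SetLike.not_le_iff_exists.mp hnot
    have hsX : s ∉ commutator X := by
      intro h
      have h1 : s ∈ (S : Subgroup X) ⊓ ⁅(⊤ : Subgroup X), ⊤⁆ := ⟨hsS, by rwa [← commutator_def]⟩
      rw [hcts] at h1
      exact hsH h1.2
    obtain ⟨j, hj⟩ := S.2 ⟨s, hsS⟩
    have hj' : s ^ p ^ j = 1 := by
      have := congrArg Subtype.val hj
      simpa using this
    exact exists_index_p_of_not_mem_commutator hj' hsX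

/-- Let p be a prime, G a finite group with nontrivial Sylow p-subgroup S, and W an isomorphism-invariant p-group functor (W assigns to every group Q a subgroup W(Q), nontrivial whenever Q is a nontrivial finite p-group, and every isomorphism from a finite p-group Q onto a group R carries W(Q) onto W(R)) that controls transfer in every section of G. If N_G(S)/C_G(S) is a p-group (every element of N_G(S) of order prime to p centralizes S), then G has a normal subgroup of index p. -/
theorem result {G : Type u} [Group G] [Finite G] {p : ℕ} [Fact p.Prime] (W : ∀ (Q : Type u) [Group Q], Subgroup Q) (hW : Cfsg.IsCharPFunctor.{u} p W) (hctl : ∀ (K R : Subgroup G) [hR : (R.subgroupOf K).Normal], Cfsg.ControlsTransferIn p (Cfsg.inducedFunctor (G := (↥K ⧸ R.subgroupOf K)) W) ⊤) (S : Sylow p G) (hS : (S : Subgroup G) ≠ ⊥) (hN : ∀ g ∈ Subgroup.normalizer (((S : Subgroup G) : Subgroup G) : Set G), (orderOf g).Coprime p → g ∈ Subgroup.centralizer ((S : Subgroup G) : Set G)) : ∃ N : Subgroup G, N.Normal ∧ N.index = p :=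 by
  refine main hW _ G rfl ?_ S hS hN
  intro X _ hX
  obtain ⟨K, R, hn, ⟨e⟩⟩ := hX
  exact CT.of_equiv hW e (hctl K R)

end Cfsg.Agent.S1971
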