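import Cfsg.Statements.S1980

set_option autoImplicit false
open Cfsg

namespace Cfsg.Agent.S1980

theorem comm_self_eq_bot {P : Type*} [Group P] (A : Subgroup P) (hA : IsMulCommutative ↥A) : ⁅A, A⁆ = ⊥ := by
  rw [Subgroup.commutator_eq_bot_iff_le_centralizer]
  intro x hx
  rw [Subgroup.mem_centralizer_iff]
  intro y hy
  have := hA.is_comm.comm ⟨y, hy⟩ ⟨x, hx⟩
  exact congrArg Subtype.val this

theorem le_centralizer_self {P : Type*} [Group P] (A : Subgroup P) (hA : IsMulCommutative ↥A) :
    A ≤ Subgroup.centralizer (A : Set P) := by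
  rw [← Subgroup.commutator_eq_bot_iff_le_centralizer]
  exact comm_self_eq_bot A hA

theorem mem_classTwo {P : Type*} [Group P] (A : Subgroup P) (hA : IsMulCommutative ↥A) :
    A ∈ Cfsg.classTwoSubgroups P := by
  show ⁅A, A⁆ ≤ Subgroup.centralizer (A : Set P)
  rw [comm_self_eq_bot A hA]
  exact bot_le

theorem mem_lower {P : Type*} [Group P] (A : Subgroup P) [A.Normal] (hA : IsMulCommutative ↥A)
    (Q : Subgroup P) : A ∈ Cfsg.kLowerStarFamily Q := by
  refine ⟨mem_classTwo A hA, ?_, ?_⟩
  · rw [Subgroup.normalizer_eq_top]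
    exact le_top
  · intro B _ _ _ _ _
    have h1 : A ⊓ Subgroup.centralizer (A : Set P) = A :=
      inf_eq_left.mpr (le_centralizer_self A hA)
    rw [h1]
    exact Subgroup.commutator_le_left A B

theorem mem_upper {P : Type*} [Group P] (A : Subgroup P) [A.Normal] (hA : IsMulCommutative ↥A)
    (Q : Subgroup P) : A ∈ Cfsg.kUpperStarFamily Q := by
  refine ⟨mem_classTwo A hA, ?_⟩
  have h1 : A ⊓ Subgroup.centralizer (A : Set P) = A :=
    inf_eq_left.mpr (le_centralizer_self A hA)
  rw [h1]
  exact Subgroup.commutator_le_left A Q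

/-- Let P be a finite p-group and A an abelian normal subgroup of P. Then A belongs to every family used to build the K-sequence of P: the class-two family, every lower-star family relative to an odd-indexed term, and every upper-star family relative to an even-indexed term. In particular A lies in every term of the K-sequence. -/
theorem result {P : Type*} [Group P] [Finite P] {p : ℕ} [Fact p.Prime] (hP : IsPGroup p P) (A : Subgroup P) [A.Normal] (hA : IsMulCommutative ↥A) : A ∈ Cfsg.classTwoSubgroups P ∧ ∀ n : ℕ, A ∈ Cfsg.kLowerStarFamily (Cfsg.kSeqOdd P n) ∧ A ∈ Cfsg.kUpperStarFamily (Cfsg.kSeqEven P n) := by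
  exact ⟨mem_classTwo A hA, fun n => ⟨mem_lower A hA _, mem_upper A hA _⟩⟩

end Cfsg.Agent.S1980
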