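import Cfsg.Statements.S1981
import Cfsg.Agent.S1980

set_option autoImplicit false
open Cfsg

namespace Cfsg.Agent.S1981

theorem sSup_eq_top_of_contains {P : Type*} [Group P] (F : Set (Subgroup P))
    (hgen : ⨆ A ∈ {A : Subgroup P | A.Normal ∧ IsMulCommutative ↥A}, A = ⊤)
    (hF : ∀ A : Subgroup P, A.Normal → IsMulCommutative ↥A → A ∈ F) : sSup F = ⊤ := by
  rw [eq_top_iff, ← hgen]
  refine iSup₂_le ?_
  intro A hA
  exact le_sSup (hF A hA.1 hA.2)

/-- Let P be a finite p-group generated by its abelian normal subgroups. Then both K-infinity subgroups of P equal P. -/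
theorem result {P : Type*} [Group P] [Finite P] {p : ℕ} [Fact p.Prime] (hP : IsPGroup p P) (hgen : ⨆ A ∈ {A : Subgroup P | A.Normal ∧ IsMulCommutative ↥A}, A = ⊤) : Cfsg.kInfLower P = ⊤ ∧ Cfsg.kInfUpper P = ⊤ := by
  have hEven : ∀ n, Cfsg.kSeqEven P n = ⊤ := by
    intro n
    unfold Cfsg.kSeqEven
    apply sSup_eq_top_of_contains _ hgen
    intro A hAn hAc
    haveI := hAn
    exact Cfsg.Agent.S1980.mem_lower A hAc _
  have hOdd : ∀ n, Cfsg.kSeqOdd P n = ⊤ := by
    intro n
    cases n with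
    | zero => rfl
    | succ n =>
      show sSup (kUpperStarFamily (sSup (kLowerStarFamily (kSeqOdd P n)))) = ⊤
      apply sSup_eq_top_of_contains _ hgen
      intro A hAn hAc
      haveI := hAn
      exact Cfsg.Agent.S1980.mem_upper A hAc _
  constructor
  · unfold Cfsg.kInfLower
    rw [eq_top_iff]
    calc (⊤ : Subgroup P) = Cfsg.kSeqEven P 0 := (hEven 0).symm
      _ ≤ ⨆ n, Cfsg.kSeqEven P n := le_iSup (fun n => Cfsg.kSeqEven P n) 0
  · unfold Cfsg.kInfUpper
    simp [hOdd]

end Cfsg.Agent.S1981
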