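import Cfsg.Statements.S1992
import Cfsg.Agent.S1991
import Cfsg.Agent.Lib.Helper3_CharBurnside

set_option autoImplicit false
open Cfsg

namespace Cfsg.Agent.S1992

universe u

/-- The hypothesis: every Sylow subgroup (for primes dividing the order) is self-normalizing. -/
def Hyp (G : Type u) [Group G] : Prop :=
  ∀ q : ℕ, q.Prime → q ∣ Nat.card G → ∀ Q : Sylow q G,
    Subgroup.normalizer ((Q : Subgroup G) : Set G) = Q

/-- Frattini step: a proper normal subgroup `K` with `G/K` an `r`-group forces `G` to be an
`r`-group. -/
theorem isPGroup_of_normal {G : Type u} [Group G] [Finite G] (h : Hyp G) {r : ℕ} (hr : r.Prime)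
    (K : Subgroup G) [K.Normal] (hK : K ≠ ⊤) (hpow : ∀ g : G, ∃ k : ℕ, g ^ (r ^ k) ∈ K) :
    IsPGroup r G := by
  have hall : ∀ {l : ℕ}, l.Prime → l ∣ Nat.card G → l = r := by
    intro l hl hdvd
    by_contra hne
    have : Fact l.Prime := ⟨hl⟩
    obtain ⟨L⟩ : Nonempty (Sylow l G) := inferInstance
    have hLK : (L : Subgroup G) ≤ K := by
      intro x hx
      obtain ⟨k, hk⟩ := hpow x
      obtain ⟨j, hj⟩ := (IsPGroup.iff_orderOf.mp L.2) ⟨x, hx⟩
      have hord : orderOf x = l ^ j := by
        rw [← hj]
        exact (Subgroup.orderOf_mk x hx).symm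
      have hcop : (r ^ k).Coprime (orderOf x) := by
        rw [hord]
        exact Nat.Coprime.pow _ _ ((Nat.coprime_primes hr hl).mpr (fun e => hne e.symm))
      obtain ⟨m, hm⟩ := exists_pow_eq_self_of_coprime hcop
      rw [← hm]
      exact K.pow_mem hk m
    have hfr := Sylow.normalizer_sup_eq_top' L hLK
    have e : Subgroup.normalizer ((L : Subgroup G) : Set G) = L := h l hl hdvd L
    have hfr' : (L : Subgroup G) ⊔ K = ⊤ := (congrArg (· ⊔ K) e).symm.trans hfr
    rw [sup_of_le_right hLK] at hfr'
    exact hK hfr'
  have hne : Nat.card G ≠ 0 := Nat.card_pos.ne'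
  exact IsPGroup.of_card (Nat.eq_prime_pow_of_unique_prime_dvd hne hall)

/-- A nontrivial finite solvable group has a proper normal subgroup with quotient an `r`-group. -/
theorem exists_normal_of_solvable {G : Type u} [Group G] [Finite G] [Nontrivial G]
    (hs : Group.IsSolvable G) :
    ∃ r : ℕ, r.Prime ∧ ∃ K : Subgroup G, K.Normal ∧ K ≠ ⊤ ∧ ∀ g : G, ∃ k : ℕ, g ^ (r ^ k) ∈ K := by
  have hlt : commutator G < ⊤ := Group.IsSolvable.commutator_lt_top_of_nontrivial G
  have hnt : Nontrivial (Abelianization G) := by
    by_contra hcon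
    rw [not_nontrivial_iff_subsingleton] at hcon
    have : commutator G = ⊤ := by
      rw [eq_top_iff]
      intro g _
      have := Subsingleton.elim (Abelianization.of g) 1
      exact (QuotientGroup.eq_one_iff g).mp this
    exact hlt.ne this
  have hcard : 1 < Nat.card (Abelianization G) := Finite.one_lt_card
  set n := Nat.card (Abelianization G) with hn
  obtain ⟨r, hr, hrn⟩ := Nat.exists_prime_and_dvd (by omega : n ≠ 1)
  have : Fact r.Prime := ⟨hr⟩
  have hn0 : n ≠ 0 := by omega
  let m := ordCompl[r] n
  let ψ : G →* Abelianization G := (powMonoidHom m).comp Abelianization.of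
  refine ⟨r, hr, ψ.ker, inferInstance, ?_, ?_⟩
  · intro htop
    obtain ⟨a, ha⟩ := exists_prime_orderOf_dvd_card' r hrn
    obtain ⟨g, rfl⟩ := QuotientGroup.mk_surjective a
    have hg : g ∈ ψ.ker := htop ▸ Subgroup.mem_top g
    rw [MonoidHom.mem_ker] at hg
    have h1 : (Abelianization.of g) ^ m = 1 := hg
    have h2 : r ∣ m := by
      have := orderOf_dvd_of_pow_eq_one h1
      have e : orderOf (Abelianization.of g) = r := ha
      rwa [e] at this
    exact Nat.not_dvd_ordCompl hr hn0 h2
  · intro g
    refine ⟨n.factorization r, ?_⟩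
    rw [MonoidHom.mem_ker]
    show (Abelianization.of (g ^ (r ^ n.factorization r))) ^ m = 1
    rw [map_pow, ← pow_mul, Nat.ordProj_mul_ordCompl_eq_self n r]
    exact pow_card_eq_one'

/-- The conditional form: given S1991 for all groups in the universe. -/
theorem main
    (h1991 : ∀ {G : Type u} [Group G] [Finite G] {p : ℕ} [Fact p.Prime] (_ : 5 ≤ p) (S : Sylow p G)
      (_ : (S : Subgroup G) ≠ ⊥)
      (_ : ∀ g ∈ Subgroup.normalizer (((S : Subgroup G) : Subgroup G) : Set G),
        (orderOf g).Coprime p →
          g ∈ Subgroup.centralizer (((S : Subgroup G) : Subgroup G) : Set G)),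
      ∃ N : Subgroup G, N.Normal ∧ N.index = p)
    {G : Type u} [Group G] [Finite G] (h : Hyp G) : ∃ q : ℕ, q.Prime ∧ IsPGroup q G := by
  rcases subsingleton_or_nontrivial G with hsub | hnt
  · refine ⟨2, Nat.prime_two, ?_⟩
    apply IsPGroup.of_card (n := 0)
    rw [pow_zero]
    exact Nat.card_unique
  · by_cases hbig : ∃ p : ℕ, p.Prime ∧ 5 ≤ p ∧ p ∣ Nat.card G
    · obtain ⟨p, hp, hp5, hdvd⟩ := hbig
      have : Fact p.Prime := ⟨hp⟩
      obtain ⟨S⟩ : Nonempty (Sylow p G) := inferInstance
      have hS : (S : Subgroup G) ≠ ⊥ := by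
        intro hbot
        have hc := S.card_eq_multiplicity
        rw [hbot, Subgroup.card_bot] at hc
        have h0 : (Nat.card G).factorization p = 0 := by
          by_contra h0
          have : 1 < p ^ (Nat.card G).factorization p :=
            Nat.one_lt_pow h0 hp.one_lt
          omega
        have hpos : 0 < (Nat.card G).factorization p :=
          hp.factorization_pos_of_dvd Nat.card_pos.ne' hdvd
        omega
      have hN : ∀ g ∈ Subgroup.normalizer (((S : Subgroup G) : Subgroup G) : Set G),
          (orderOf g).Coprime p →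
            g ∈ Subgroup.centralizer (((S : Subgroup G) : Subgroup G) : Set G) := by
        intro g hg hcop
        rw [h p hp hdvd S] at hg
        obtain ⟨j, hj⟩ := (IsPGroup.iff_orderOf.mp S.2) ⟨g, hg⟩
        have hord : orderOf g = p ^ j := by
          rw [← hj]
          exact (Subgroup.orderOf_mk g hg).symm
        rw [hord] at hcop
        have hj0 : j = 0 := by
          by_contra hj0
          have := (Nat.coprime_pow_left_iff (Nat.pos_of_ne_zero hj0) p p).mp hcop
          exact hp.one_lt.ne' ((Nat.coprime_self p).mp this)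
        rw [hj0, pow_zero] at hord
        rw [orderOf_eq_one_iff.mp hord]
        exact Subgroup.one_mem _
      obtain ⟨N, hNn, hidx⟩ := h1991 hp5 S hS hN
      refine ⟨p, hp, isPGroup_of_normal h hp N ?_ ?_⟩
      · intro htop
        rw [htop, Subgroup.index_top] at hidx
        exact hp.one_lt.ne hidx
      · intro g
        refine ⟨1, ?_⟩
        rw [pow_one, ← hidx]
        exact Subgroup.pow_index_mem N g
    · push Not at hbig
      have hs : Group.IsSolvable G := by
        refine Cfsg.Agent.Lib.Helper3_CharBurnside.isSolvable_of_two_primes 2 3 Nat.prime_two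
          Nat.prime_three _ G rfl ?_
        intro r hr hdvd
        have hlt : r < 5 := by
          by_contra hge
          exact hbig r hr (not_lt.mp hge) hdvd
        have h2 := hr.two_le
        interval_cases r
        · left; rfl
        · right; rfl
        · exact absurd hr (by decide)
      obtain ⟨r, hr, K, hKn, hK, hpow⟩ := exists_normal_of_solvable hs
      exact ⟨r, hr, isPGroup_of_normal h hr K hK hpow⟩

/-- Let G be a finite group in which, for every prime q dividing the order of G, every Sylow q-subgroup is its own normalizer. Then the order of G is a power of a single prime (G is a q-group for some prime q; for G trivial any prime works). -/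
theorem result {G : Type*} [Group G] [Finite G] (h : ∀ q : ℕ, q.Prime → q ∣ Nat.card G → ∀ Q : Sylow q G, Subgroup.normalizer ((Q : Subgroup G) : Set G) = Q) : ∃ q : ℕ, q.Prime ∧ IsPGroup q G := by
  exact main (fun hp S hS hN => Cfsg.Agent.S1991.result hp S hS hN) h

end Cfsg.Agent.S1992
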