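import Cfsg.Statements.S1993
import Cfsg.Agent.Lib.Helper34_KInfGlue
import Cfsg.Agent.Lib.Helper33_KInfStable
import Cfsg.Agent.S1971
import Cfsg.Agent.S1984
import Cfsg.Agent.Lib.Helper54_KInfEngel

set_option autoImplicit false
universe u
open Cfsg

namespace Cfsg.Agent.S1993

/-- Let p be a prime, G a finite group with Sylow p-subgroup S, and K the upper K-infinity subgroup of S. If p ≥ 5 then S ∩ G' = S ∩ (N_G(K))'; and if p is odd and every section of G is p-stable in the normalizer form, then K controls strong fusion in G. -/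
theorem result {G : Type u} [Group G] [Finite G] {p : ℕ} [Fact p.Prime] (S : Sylow p G) : (5 ≤ p → (S : Subgroup G) ⊓ commutator G = (S : Subgroup G) ⊓ ⁅Subgroup.normalizer ((Cfsg.inducedFunctor Cfsg.kInfUpper (S : Subgroup G) : Subgroup G) : Set G), Subgroup.normalizer ((Cfsg.inducedFunctor Cfsg.kInfUpper (S : Subgroup G) : Subgroup G) : Set G)⁆) ∧ (p ≠ 2 → (∀ (K R : Subgroup G) [hR : (R.subgroupOf K).Normal], Cfsg.IsNormalizerPStable p (↥K ⧸ R.subgroupOf K)) → Cfsg.ControlsStrongFusion p (Cfsg.inducedFunctor Cfsg.kInfUpper (S : Subgroup G))) := by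
  classical
  have hW := Cfsg.Agent.Lib.Helper54_KInf.isCharPFunctor_kInfUpper.{u} p
  constructor
  · intro hp5
    have hct : Cfsg.Agent.S1971.CT p (fun Q _ => Cfsg.kInfUpper Q) G :=
      Cfsg.Agent.S1984.controls_of_engel hp5 (fun Q _ => Cfsg.kInfUpper Q) hW
        (fun X _ _ T hT =>
          Cfsg.Agent.Lib.Helper54_KInfEngel.exists_engel_of_not_normal T (Or.inr hT))
    have h1 := Cfsg.Agent.S1971.CT.sylow hW hct S
    rw [commutator_def]
    exact h1
  · intro hp hst
    have HN : Cfsg.Agent.Lib.Helper34_KInfGlue.NormalHyp.{u} p (fun Q _ => Cfsg.kInfUpper Q) :=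
      fun X _ _ hst' hc T => (Cfsg.Agent.Lib.Helper33_KInfStable.kInf_normal hst' hc T).2
    exact Cfsg.Agent.Lib.Helper34_KInfGlue.controls_of_stable hp hW HN hst S

end Cfsg.Agent.S1993
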