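import Cfsg.Statements.S1996
import Cfsg.Agent.Lib.Helper34_SecFusion

set_option autoImplicit false
universe u
open Cfsg

namespace Cfsg.Agent.S1996


/-- Let p be a prime, G a finite group and W₁, W₂ two isomorphism-invariant p-group functors (W assigns to every group Q a subgroup W(Q), nontrivial whenever Q is a nontrivial finite p-group, and every isomorphism from a finite p-group Q onto a group R carries W(Q) onto W(R)). Suppose that G* = N_{G*}(W₁(S*)) N_{G*}(W₂(S*)) whenever G* = K/R is a section of G with C_{G*}(O_p(G*)) ≤ O_p(G*) and S* is a Sylow p-subgroup of G*. Then the pair {W₁, W₂} controls strong fusion in G. -/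
theorem result {G : Type u} [Group G] [Finite G] {p : ℕ} [Fact p.Prime] (W₁ W₂ : ∀ (Q : Type u) [Group Q], Subgroup Q) (hW₁ : Cfsg.IsCharPFunctor.{u} p W₁) (hW₂ : Cfsg.IsCharPFunctor.{u} p W₂) (hfac : ∀ (K R : Subgroup G) [hR : (R.subgroupOf K).Normal], Subgroup.centralizer ((Cfsg.pCore p (↥K ⧸ R.subgroupOf K) : Subgroup (↥K ⧸ R.subgroupOf K)) : Set (↥K ⧸ R.subgroupOf K)) ≤ Cfsg.pCore p (↥K ⧸ R.subgroupOf K) → ∀ T : Sylow p (↥K ⧸ R.subgroupOf K), ∀ x : (↥K ⧸ R.subgroupOf K), ∃ a ∈ Subgroup.normalizer ((Cfsg.inducedFunctor (G := (↥K ⧸ R.subgroupOf K)) W₁ (T : Subgroup (↥K ⧸ R.subgroupOf K)) : Subgroup (↥K ⧸ R.subgroupOf K)) : Set (↥K ⧸ R.subgroupOf K)), ∃ b ∈ Subgroup.normalizer ((Cfsg.inducedFunctor (G := (↥K ⧸ R.subgroupOf K)) W₂ (T : Subgroup (↥K ⧸ R.subgroupOf K)) : Subgroup (↥K ⧸ R.subgroupOf K)) : Set (↥K ⧸ R.subgroupOf K)), x = a * b) : Cfsg.FamilyControlsStrongFusionIn p {Cfsg.inducedFunctor (G := G) W₁, Cfsg.inducedFunctor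 (G := G) W₂} ⊤ := by
  classical
  have h𝓦 : ∀ W' ∈ ({W₁, W₂} : Set (∀ (Q : Type u) [Group Q], Subgroup Q)),
      Cfsg.IsCharPFunctor.{u} p W' := by
    intro W' hW'
    rcases hW' with h | h
    · rw [h]; exact hW₁
    · rw [Set.mem_singleton_iff] at h
      rw [h]; exact hW₂
  have hsec : Cfsg.Agent.Lib.Helper34_SecFusion.SecGood p {W₁, W₂} G := by
    apply Cfsg.Agent.Lib.Helper34_SecFusion.secGood_of_sections h𝓦
    intro K R _ hcon
    obtain T : Sylow p (↥K ⧸ R.subgroupOf K) := default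
    exact Cfsg.Agent.Lib.Helper34_SecFusion.good_of_factorization hW₁ hW₂ T (hfac K R hcon T)
  have hgood := Cfsg.Agent.Lib.Helper34_SecFusion.main h𝓦 _ G rfl hsec
  have hfam : Cfsg.Agent.Lib.Helper34_SecFusion.fam
      ({W₁, W₂} : Set (∀ (Q : Type u) [Group Q], Subgroup Q)) G =
      {Cfsg.inducedFunctor (G := G) W₁, Cfsg.inducedFunctor (G := G) W₂} := by
    unfold Cfsg.Agent.Lib.Helper34_SecFusion.fam
    rw [Set.image_pair]
  unfold Cfsg.Agent.Lib.Helper34_SecFusion.Good at hgood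
  rw [hfam] at hgood
  exact hgood


end Cfsg.Agent.S1996
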