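import Cfsg.Statements.S2002
import Cfsg.Agent.Lib.Helper33_Alperin
import Cfsg.Agent.Lib.Helper33_WFusion
import Cfsg.Agent.Lib.Helper32_Sylow
import Cfsg.Agent.S1963

set_option autoImplicit false
open Cfsg

namespace Cfsg.Agent.S2002

open Cfsg.Agent.Lib.Helper33_Conj Cfsg.Agent.Lib.Helper33_Alperin

variable {G : Type*} [Group G]

/-- A chain of left conjugations by steps in the set `St`, all intermediate images staying inside
`T`; the index `g` is the product of the steps. -/
inductive SChain (St : Set G) (T : Subgroup G) : Set G → G → Prop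
  | nil (A : Set G) : SChain St T A 1
  | cons (A : Set G) (y g : G) : y ∈ St → cjs y A ⊆ (T : Set G) → SChain St T (cjs y A) g →
      SChain St T A (g * y)

variable {St St' : Set G} {T : Subgroup G}

theorem SChain.restrict {A : Set G} {g : G} (h : SChain St T A g) :
    ∀ A' : Set G, A' ⊆ A → SChain St T A' g := by
  induction h with
  | nil A => intro A' _; exact SChain.nil A'
  | cons A y g hy hA _ ih =>
    intro A' hA'
    exact SChain.cons A' y g hy ((cjs_mono hA').trans hA) (ih _ (cjs_mono hA'))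

theorem SChain.mono (hSt : St ⊆ St') {A : Set G} {g : G} (h : SChain St T A g) :
    SChain St' T A g := by
  induction h with
  | nil A => exact SChain.nil A
  | cons A y g hy hA _ ih => exact SChain.cons A y g (hSt hy) hA ih

theorem SChain.trans {A : Set G} {g : G} (h : SChain St T A g) :
    ∀ h' : G, SChain St T (cjs g A) h' → SChain St T A (h' * g) := by
  induction h with
  | nil A => intro h' hh'; simpa [cjs_one] using hh'
  | cons A y g hy hA _ ih =>
    intro h' hh'
    rw [cjs_mul] at hh'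
    have := SChain.cons A y (h' * g) hy hA (ih h' hh')
    rwa [mul_assoc] at this

theorem SChain.single {A : Set G} {y : G} (hy : y ∈ St) (hA : cjs y A ⊆ (T : Set G)) :
    SChain St T A y := by
  have := SChain.cons A y 1 hy hA (SChain.nil _)
  rwa [one_mul] at this

theorem SChain.target_subset {A : Set G} {g : G} (h : SChain St T A g) :
    A ⊆ (T : Set G) → cjs g A ⊆ (T : Set G) := by
  induction h with
  | nil A => intro hA; rwa [cjs_one]
  | cons A y g _ hA _ ih =>
    intro _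
    rw [cjs_mul]
    exact ih hA

theorem SChain.symm (hinv : ∀ y ∈ St, y⁻¹ ∈ St) {A : Set G} {g : G} (h : SChain St T A g) :
    A ⊆ (T : Set G) → SChain St T (cjs g A) g⁻¹ := by
  induction h with
  | nil A => intro _; simpa [cjs_one] using SChain.nil A
  | cons A y g hy hA _ ih =>
    intro hAT
    have h1 := ih hA
    rw [cjs_mul]
    have h2 : SChain St T (cjs y A) y⁻¹ :=
      SChain.single (hinv y hy) (by rw [cjs_inv_cjs]; exact hAT)
    have h3 := h1.trans y⁻¹ (by rw [cjs_inv_cjs]; exact h2)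
    rwa [← mul_inv_rev] at h3

/-- conjugating a chain -/
theorem SChain.conj {P : Subgroup G} {t : G} {A₁ : Set G} {g : G}
    (h : SChain St (cj t P) A₁ g) :
    SChain {y | t * y * t⁻¹ ∈ St} P (cjs t⁻¹ A₁) (t⁻¹ * g * t) := by
  induction h with
  | nil A =>
    have : t⁻¹ * 1 * t = 1 := by group
    rw [this]; exact SChain.nil _
  | cons A y g hy hyA _ ih =>
    have hy' : t⁻¹ * y * t ∈ {y | t * y * t⁻¹ ∈ St} := by
      show t * (t⁻¹ * y * t) * t⁻¹ ∈ St
      have : t * (t⁻¹ * y * t) * t⁻¹ = y := by group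
      rw [this]; exact hy
    have e1 : cjs (t⁻¹ * y * t) (cjs t⁻¹ A) = cjs t⁻¹ (cjs y A) := by
      rw [← cjs_mul, ← cjs_mul]; congr 1; group
    have hsub : cjs (t⁻¹ * y * t) (cjs t⁻¹ A) ⊆ (P : Set G) := by
      rw [e1]
      have := cjs_mono (g := t⁻¹) hyA
      rwa [← coe_cj, cj_inv_cj] at this
    have := SChain.cons (cjs t⁻¹ A) (t⁻¹ * y * t) (t⁻¹ * g * t) hy' hsub (by rw [e1]; exact ih)
    have e2 : t⁻¹ * g * t * (t⁻¹ * y * t) = t⁻¹ * (g * y) * t := by group
    rwa [e2] at this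

/-- from a list of right-conjugation steps to a chain -/
theorem chain_of_list (hinv : ∀ y ∈ St, y⁻¹ ∈ St) : ∀ (l : List G) (A : Set G),
    (∀ y ∈ l, y ∈ St) →
    (∀ k : ℕ, k ≤ l.length →
      (fun x => ((l.take k).prod)⁻¹ * x * (l.take k).prod) '' A ⊆ (T : Set G)) →
    SChain St T A (l.prod)⁻¹ := by
  intro l
  induction l with
  | nil =>
    intro A _ _
    simpa using SChain.nil (St := St) (T := T) A
  | cons y l ih =>
    intro A hl hk
    have hy : y⁻¹ ∈ St := hinv y (hl y (List.mem_cons_self))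
    have h1 : cjs y⁻¹ A ⊆ (T : Set G) := by
      have := hk 1 (by simp)
      simpa [cjs] using this
    have h2 : SChain St T (cjs y⁻¹ A) (l.prod)⁻¹ := by
      apply ih _ (fun z hz => hl z (List.mem_cons_of_mem _ hz))
      intro k hk'
      have := hk (k + 1) (by simpa using hk')
      rintro _ ⟨_, ⟨a, ha, rfl⟩, rfl⟩
      have h3 := this ⟨a, ha, rfl⟩
      simp only [List.take_succ_cons, List.prod_cons, mul_inv_rev] at h3
      have e : ((l.take k).prod)⁻¹ * (y⁻¹ * a * y⁻¹⁻¹) * (l.take k).prod =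
          ((l.take k).prod)⁻¹ * y⁻¹ * a * (y * (l.take k).prod) := by
        rw [inv_inv]; group
      show ((l.take k).prod)⁻¹ * (y⁻¹ * a * y⁻¹⁻¹) * (l.take k).prod ∈ (T : Set G)
      rw [e]; exact h3
    have := SChain.cons A y⁻¹ (l.prod)⁻¹ hy h1 h2
    simpa [mul_inv_rev] using this

/-- from a chain to a list of right-conjugation steps -/
theorem list_of_chain (hinv : ∀ y ∈ St, y⁻¹ ∈ St) {A : Set G} {g : G} (h : SChain St T A g) :
    A ⊆ (T : Set G) → ∃ l : List G, (∀ y ∈ l, y ∈ St) ∧ l.prod = g⁻¹ ∧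
      ∀ k : ℕ, k ≤ l.length →
        (fun x => ((l.take k).prod)⁻¹ * x * (l.take k).prod) '' A ⊆ (T : Set G) := by
  induction h with
  | nil A =>
    intro hA
    refine ⟨[], by simp, by simp, ?_⟩
    intro k _
    simpa using hA
  | cons A y g hy hyA _ ih =>
    intro hA
    obtain ⟨l, hl, hprod, hk⟩ := ih hyA
    refine ⟨y⁻¹ :: l, ?_, ?_, ?_⟩
    · intro z hz
      rcases List.mem_cons.mp hz with rfl | hz
      · exact hinv y hy
      · exact hl z hz
    · simp [hprod, mul_inv_rev]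
    · intro k hk'
      cases k with
      | zero => simpa using hA
      | succ k =>
        have hk'' : k ≤ l.length := by simpa using hk'
        rintro _ ⟨a, ha, rfl⟩
        have h3 := hk k hk'' ⟨y * a * y⁻¹, conj_mem_cjs ha, rfl⟩
        simp only [List.take_succ_cons, List.prod_cons, mul_inv_rev, inv_inv]
        have e : ((l.take k).prod)⁻¹ * y * a * (y⁻¹ * (l.take k).prod) =
            ((l.take k).prod)⁻¹ * (y * a * y⁻¹) * (l.take k).prod := by group
        rw [e]; exact h3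

/-! ### The global relation -/

/-- the global relation: conjugation by `g` on `A ⊆ S` agrees with a chain of `St`-steps inside `S` -/
def GR (St : Set G) (S : Subgroup G) (A : Set G) (g : G) : Prop :=
  A ⊆ (S : Set G) ∧ ∃ g', SChain St S A g' ∧ AgreeOn A g' g

theorem GR.fusionRel (hinv : ∀ y ∈ St, y⁻¹ ∈ St) (S : Subgroup G) : FusionRel (GR St S) where
  restrict := by
    rintro A A' g ⟨hA, g', hch, hag⟩ hA'
    exact ⟨hA'.trans hA, g', hch.restrict A' hA', hag.mono hA'⟩
  trans := by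
    rintro A g h ⟨hA, g', hch, hag⟩ ⟨_, h', hch', hag'⟩
    have e : cjs g A = cjs g' A := hag.cjs_eq.symm
    rw [e] at hch' hag'
    exact ⟨hA, h' * g', hch.trans h' hch', hag.mul hag'⟩
  symm := by
    rintro A g ⟨hA, g', hch, hag⟩
    have e : cjs g A = cjs g' A := hag.cjs_eq.symm
    rw [e]
    exact ⟨hch.target_subset hA, g'⁻¹, hch.symm hinv hA, hag.inv⟩

theorem GR.of_agree {S : Subgroup G} {A : Set G} {g h : G} (hg : GR St S A g)
    (hag : AgreeOn A g h) : GR St S A h := by
  obtain ⟨hA, g', hch, hag'⟩ := hg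
  exact ⟨hA, g', hch, hag'.trans hag⟩

theorem GR.one {S : Subgroup G} {A : Set G} (hA : A ⊆ (S : Set G)) : GR St S A 1 :=
  ⟨hA, 1, SChain.nil A, AgreeOn.refl A 1⟩

theorem GR.single {S : Subgroup G} {A : Set G} {y : G} (hy : y ∈ St) (hA : A ⊆ (S : Set G))
    (hyA : cjs y A ⊆ (S : Set G)) : GR St S A y :=
  ⟨hA, y, SChain.single hy hyA, AgreeOn.refl A y⟩

/-- a chain relative to `P ≤ S`, all of whose steps are globally explained, is globally explained -/
theorem GR.of_chain (hinv : ∀ y ∈ St, y⁻¹ ∈ St) {S P : Subgroup G} (hPS : P ≤ S)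
    (C : ∀ z ∈ St', ∀ B : Set G, B ⊆ (P : Set G) → cjs z B ⊆ (P : Set G) → GR St S B z)
    {B : Set G} {g : G} (h : SChain St' P B g) : B ⊆ (P : Set G) → GR St S B g := by
  induction h with
  | nil B => intro hB; exact GR.one (hB.trans hPS)
  | cons B y g hy hyB _ ih =>
    intro hB
    have h1 := C y hy B hB hyB
    exact (GR.fusionRel hinv S).trans B y g h1 (ih hyB)

/-! ### The local control property -/

/-- the step set of the pair `(W, V)` in `M` relative to `Q` -/
def StLoc (W V : Subgroup G → Subgroup G) (M Q : Subgroup G) : Set G :=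
  {y | y ∈ M ⊓ Subgroup.normalizer ((W Q : Subgroup G) : Set G) ∨
    y ∈ M ⊓ Subgroup.centralizer ((V Q : Subgroup G) : Set G)}

theorem StLoc_inv (W V : Subgroup G → Subgroup G) (M Q : Subgroup G) :
    ∀ y ∈ StLoc W V M Q, y⁻¹ ∈ StLoc W V M Q := by
  rintro y (hy | hy)
  · exact Or.inl (inv_mem hy)
  · exact Or.inr (inv_mem hy)

/-- `(W, V)` controls strong fusion in `M` with respect to `Q` (the property in the statement) -/
def Ctl (W V : Subgroup G → Subgroup G) (M Q : Subgroup G) : Prop :=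
  ∀ (X : Set G) (a : G), X ⊆ Q → a ∈ M → (fun x => a⁻¹ * x * a) '' X ⊆ Q →
    ∃ c ∈ M ⊓ Subgroup.centralizer X, ∃ (n : ℕ) (b : Fin n → G),
      (∀ i, b i ∈ M ⊓ Subgroup.normalizer ((W Q : Subgroup G) : Set G) ∨
        b i ∈ M ⊓ Subgroup.centralizer ((V Q : Subgroup G) : Set G)) ∧
      a = c * (List.ofFn b).prod ∧
      ∀ k : ℕ, k ≤ n → (fun x => (((List.ofFn b).take k).prod)⁻¹ * x *
        ((List.ofFn b).take k).prod) '' ((fun x => c⁻¹ * x * c) '' X) ⊆ Q

theorem image_conj_of_mem_centralizer {X : Set G} {c : G} (hc : c ∈ Subgroup.centralizer X) :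
    (fun x => c⁻¹ * x * c) '' X = X := by
  have : ∀ x ∈ X, c⁻¹ * x * c = x := by
    intro x hx
    have h := Subgroup.mem_centralizer_iff.mp hc x hx
    rw [mul_assoc, h, ← mul_assoc, inv_mul_cancel, one_mul]
  ext x
  constructor
  · rintro ⟨y, hy, rfl⟩
    show c⁻¹ * y * c ∈ X
    rw [this y hy]; exact hy
  · intro hx
    exact ⟨x, hx, this x hx⟩

theorem exists_chain_of_ctl {W V : Subgroup G → Subgroup G} {M Q : Subgroup G}
    (h : Ctl W V M Q) (B : Set G) (m : G) (hB : B ⊆ (Q : Set G)) (hm : m ∈ M)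
    (hmB : cjs m B ⊆ (Q : Set G)) :
    ∃ g', SChain (StLoc W V M Q) Q B g' ∧ AgreeOn B g' m := by
  have hmB' : (fun x => (m⁻¹)⁻¹ * x * m⁻¹) '' B ⊆ (Q : Set G) := by
    simpa [cjs] using hmB
  obtain ⟨c, hc, n, b, hb, ha, hk⟩ := h B m⁻¹ hB (inv_mem hm) hmB'
  rw [Subgroup.mem_inf] at hc
  rw [image_conj_of_mem_centralizer hc.2] at hk
  have hch := chain_of_list (St := StLoc W V M Q) (T := Q) (StLoc_inv W V M Q) (List.ofFn b) B
    (by
      intro y hy
      obtain ⟨i, rfl⟩ := (List.mem_ofFn' b y).mp hy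
      exact hb i)
    (by
      intro k hk'
      rw [List.length_ofFn] at hk'
      exact hk k hk')
  refine ⟨_, hch, ?_⟩
  intro x hx
  have hm' : m = ((List.ofFn b).prod)⁻¹ * c⁻¹ := by
    rw [← mul_inv_rev, ← ha, inv_inv]
  have hcx : c⁻¹ * x * c = x := by
    have h := Subgroup.mem_centralizer_iff.mp hc.2 x hx
    rw [mul_assoc, h, ← mul_assoc, inv_mul_cancel, one_mul]
  rw [hm']
  calc ((List.ofFn b).prod)⁻¹ * x * (((List.ofFn b).prod)⁻¹)⁻¹
      = ((List.ofFn b).prod)⁻¹ * (c⁻¹ * x * c) * (((List.ofFn b).prod)⁻¹)⁻¹ := by rw [hcx]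
    _ = _ := by group


/-! ### Change of Sylow subgroup -/

section

variable {p : ℕ} {W V : Subgroup G → Subgroup G}

theorem StLoc_conj (hW : Cfsg.IsConjugacyFunctor p W) (hV : Cfsg.IsConjugacyFunctor p V)
    {M P : Subgroup G} (hP : IsPGroup p P) {t : G} (ht : t ∈ M) :
    {y | t * y * t⁻¹ ∈ StLoc W V M (cj t P)} ⊆ StLoc W V M P := by
  intro y hy
  have hM : t * y * t⁻¹ ∈ M → y ∈ M := by
    intro h
    have : y = t⁻¹ * (t * y * t⁻¹) * t := by group
    rw [this]
    exact M.mul_mem (M.mul_mem (M.inv_mem ht) h) ht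
  rcases hy with hy | hy
  · rw [Subgroup.mem_inf] at hy
    left
    refine Subgroup.mem_inf.mpr ⟨hM hy.1, ?_⟩
    have h2 := hy.2
    rw [(hW P hP).2.2 t, ← cj_normalizer, conj_mem_cj_iff] at h2
    exact h2
  · rw [Subgroup.mem_inf] at hy
    right
    refine Subgroup.mem_inf.mpr ⟨hM hy.1, ?_⟩
    have h2 := hy.2
    rw [(hV P hP).2.2 t, ← cj_centralizer, conj_mem_cj_iff] at h2
    exact h2

/-- If `(W, V)` controls strong fusion in `M` with respect to some Sylow subgroup, the chain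
property holds for every Sylow `p`-subgroup `P` of `M`. -/
theorem exists_chain_of_ctl' [Finite G] [Fact p.Prime] (hW : Cfsg.IsConjugacyFunctor p W)
    (hV : Cfsg.IsConjugacyFunctor p V) {M Q P : Subgroup G}
    (hQM : Q ≤ M) (hQp : IsPGroup p Q) (hQidx : ¬ p ∣ Q.relIndex M) (hctl : Ctl W V M Q)
    (hPM : P ≤ M) (hP : IsPGroup p P) (hidx : ¬ p ∣ P.relIndex M)
    (A : Set G) (h : G) (hh : h ∈ M) (hA : A ⊆ (P : Set G)) (hhA : cjs h A ⊆ (P : Set G)) :
    ∃ g, SChain (StLoc W V M P) P A g ∧ AgreeOn A g h := by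
  obtain ⟨t, htM, htle⟩ := exists_cj_le_of_relIndex hQM hQp hQidx hPM hP
  have hQ' : Q = cj t P := by
    apply Cfsg.Agent.Lib.Helper33_WFusion.eq_of_le_of_not_dvd_relIndex' (p := p) htle hQM hQp
    have : (cj t P).relIndex M = (cj t P).relIndex (cj t M) := by rw [cj_of_mem htM]
    rw [this, Cfsg.Agent.Lib.Helper33_WFusion.relIndex_cj']
    exact hidx
  subst hQ'
  have hA1 : cjs t A ⊆ ((cj t P : Subgroup G) : Set G) := by
    rw [coe_cj]; exact cjs_mono hA
  have hA2 : cjs (t * h * t⁻¹) (cjs t A) ⊆ ((cj t P : Subgroup G) : Set G) := by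
    rw [← cjs_mul, coe_cj]
    have : t * h * t⁻¹ * t = t * h := by group
    rw [this, cjs_mul]
    exact cjs_mono hhA
  obtain ⟨g', hch, hag⟩ := exists_chain_of_ctl hctl (cjs t A) (t * h * t⁻¹)
    hA1 (M.mul_mem (M.mul_mem htM hh) (M.inv_mem htM)) hA2
  have hch2 := (SChain.conj hch).mono (StLoc_conj hW hV hP htM)
  rw [cjs_inv_cjs] at hch2
  refine ⟨_, hch2, ?_⟩
  intro a ha
  have := hag (t * a * t⁻¹) (conj_mem_cjs ha)
  calc t⁻¹ * g' * t * a * (t⁻¹ * g' * t)⁻¹
      = t⁻¹ * (g' * (t * a * t⁻¹) * g'⁻¹) * t := by group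
    _ = t⁻¹ * (t * h * t⁻¹ * (t * a * t⁻¹) * (t * h * t⁻¹)⁻¹) * t := by rw [this]
    _ = h * a * h⁻¹ := by group

end

/-! ### Towers -/

theorem functorTower_shift (W : Subgroup G → Subgroup G) (S H : Subgroup G) (i : ℕ) :
    Cfsg.functorTower W S (Cfsg.functorTower W S H 1) i = Cfsg.functorTower W S H (i + 1) := by
  induction i with
  | zero => rfl
  | succ i ih =>
    show W (S ⊓ Subgroup.normalizer ((Cfsg.functorTower W S (Cfsg.functorTower W S H 1) i :
      Subgroup G) : Set G)) = W (S ⊓ Subgroup.normalizer ((Cfsg.functorTower W S H (i + 1) :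
      Subgroup G) : Set G))
    rw [ih]

theorem functorTower_one (W : Subgroup G → Subgroup G) (S H : Subgroup G) :
    Cfsg.functorTower W S H 1 = W (S ⊓ Subgroup.normalizer (H : Set G)) := rfl

theorem isWellPlaced_tower_one {p : ℕ} {W : Subgroup G → Subgroup G}
    (hW : Cfsg.IsConjugacyFunctor p W) {S H : Subgroup G} (hS : IsPGroup p S)
    (h : Cfsg.IsWellPlaced p W S H) :
    Cfsg.IsWellPlaced p W S (W (S ⊓ Subgroup.normalizer (H : Set G))) := by
  refine ⟨((hW _ (hS.to_le inf_le_left)).1).trans inf_le_left, ?_⟩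
  intro i
  have := h.2 (i + 1)
  rw [← functorTower_one W S H, functorTower_shift]
  exact this

/-- a relative version of "Sylow ∩ normal is Sylow" -/
theorem not_dvd_relIndex_inf_of_normalizer [Finite G] {p : ℕ} [Fact p.Prime] {T K M : Subgroup G}
    (hT : IsPGroup p T) (hTM : T ≤ M) (hKM : K ≤ M)
    (hnorm : M ≤ Subgroup.normalizer (K : Set G)) (hidx : ¬ p ∣ T.relIndex M) :
    ¬ p ∣ (T ⊓ K).relIndex K := by
  have : (K.subgroupOf M).Normal := (Subgroup.normal_subgroupOf_iff_le_normalizer hKM).mpr hnorm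
  have hT' : IsPGroup p (T.subgroupOf M) := hT.comap_subtype
  let S' : Sylow p M := hT'.toSylow hidx
  have h1 := Cfsg.Agent.Lib.Helper32_Sylow.not_dvd_relIndex_inf_normal S' (K.subgroupOf M)
  have h2 : ((S' : Sylow p M) : Subgroup M) = T.subgroupOf M := IsPGroup.toSylow_coe hT' hidx
  rw [h2, Subgroup.inf_relIndex_right, Subgroup.relIndex_subgroupOf hKM] at h1
  rwa [Subgroup.inf_relIndex_right]


/-! ### The well-placed claim -/

section Main

variable [Finite G] {p : ℕ} [Fact p.Prime] {W V : Subgroup G → Subgroup G}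

theorem center_le_center {S T : Subgroup G} (hTS : T ≤ S)
    (hZT : S ⊓ Subgroup.centralizer (S : Set G) ≤ T) :
    S ⊓ Subgroup.centralizer (S : Set G) ≤ T ⊓ Subgroup.centralizer (T : Set G) :=
  le_inf hZT (inf_le_right.trans (Subgroup.centralizer_le (SetLike.coe_subset_coe.mpr hTS)))

theorem wellPlaced_claim (S : Sylow p G) (hSne : (S : Subgroup G) ≠ ⊥)
    (hW : Cfsg.IsConjugacyFunctor p W) (hV : Cfsg.IsConjugacyFunctor p V)
    (hWZ : ∀ H : Subgroup G, IsPGroup p ↥H →
      H ⊓ Subgroup.centralizer ((H : Subgroup G) : Set G) ≤ W H)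
    (hVmono : ∀ H K : Subgroup G, IsPGroup p ↥H → IsPGroup p ↥K → H ≠ ⊥ → K ≠ ⊥ →
      H ⊓ Subgroup.centralizer ((H : Subgroup G) : Set G) ≤
        K ⊓ Subgroup.centralizer ((K : Subgroup G) : Set G) → V H ≤ V K)
    (hloc : ∀ H : Subgroup G,
      (S : Subgroup G) ⊓ Subgroup.centralizer ((S : Subgroup G) : Set G) ≤ H →
      H ≤ (S : Subgroup G) → ∃ Q : Subgroup G, Q ≤ Subgroup.normalizer (H : Set G) ∧
        IsPGroup p ↥Q ∧ ¬ p ∣ Q.relIndex (Subgroup.normalizer (H : Set G)) ∧
        Ctl W V (Subgroup.normalizer (H : Set G)) Q) :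
    ∀ n : ℕ, ∀ H : Subgroup G, Cfsg.IsWellPlaced p W (S : Subgroup G) H →
      (S : Subgroup G) ⊓ Subgroup.centralizer ((S : Subgroup G) : Set G) ≤ H →
      Nat.card (S : Subgroup G) -
        Nat.card ((S : Subgroup G) ⊓ Subgroup.normalizer (H : Set G) : Subgroup G) = n →
      ∀ m ∈ Subgroup.normalizer (H : Set G), ∀ B : Set G,
        B ⊆ (((S : Subgroup G) ⊓ Subgroup.normalizer (H : Set G) : Subgroup G) : Set G) →
        cjs m B ⊆ (((S : Subgroup G) ⊓ Subgroup.normalizer (H : Set G) : Subgroup G) : Set G) →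
        GR (StLoc W V ⊤ (S : Subgroup G)) (S : Subgroup G) B m := by
  intro n
  induction n using Nat.strong_induction_on with
  | _ n ih =>
  intro H hwp hZH hn m hm B hB hmB
  have hTp : IsPGroup p ((S : Subgroup G) ⊓ Subgroup.normalizer (H : Set G) : Subgroup G) :=
    S.2.to_le inf_le_left
  have hHS : H ≤ (S : Subgroup G) := hwp.1
  have hTidx : ¬ p ∣ ((S : Subgroup G) ⊓ Subgroup.normalizer (H : Set G)).relIndex
      (Subgroup.normalizer (H : Set G)) := hwp.2 0
  obtain ⟨Q, hQM, hQp, hQidx, hctl⟩ := hloc H hZH hHS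
  obtain ⟨g', hch, hag⟩ := exists_chain_of_ctl' hW hV hQM hQp hQidx hctl inf_le_right hTp hTidx
    B m hm hB hmB
  have hinv := StLoc_inv W V ⊤ (S : Subgroup G)
  refine (GR.of_chain hinv inf_le_left ?_ hch hB).of_agree hag
  intro z hz B' hB' hzB'
  have hZT : (S : Subgroup G) ⊓ Subgroup.centralizer ((S : Subgroup G) : Set G) ≤
      (S : Subgroup G) ⊓ Subgroup.normalizer (H : Set G) :=
    le_inf inf_le_left (hZH.trans Subgroup.le_normalizer)
  have hB'S : B' ⊆ ((S : Subgroup G) : Set G) :=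
    hB'.trans (SetLike.coe_subset_coe.mpr inf_le_left)
  have hzB'S : cjs z B' ⊆ ((S : Subgroup G) : Set G) :=
    hzB'.trans (SetLike.coe_subset_coe.mpr inf_le_left)
  rcases hz with hz | hz
  · rw [Subgroup.mem_inf] at hz
    rcases eq_or_lt_of_le (inf_le_left : (S : Subgroup G) ⊓ Subgroup.normalizer (H : Set G) ≤
        (S : Subgroup G)) with hTS | hTlt
    · refine GR.single (Or.inl (Subgroup.mem_inf.mpr ⟨Subgroup.mem_top z, ?_⟩)) hB'S hzB'S
      have h2 := hz.2
      rw [hTS] at h2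
      exact h2
    · have hwp2 := isWellPlaced_tower_one hW S.2 hwp
      have hZH2 : (S : Subgroup G) ⊓ Subgroup.centralizer ((S : Subgroup G) : Set G) ≤
          W ((S : Subgroup G) ⊓ Subgroup.normalizer (H : Set G)) :=
        (center_le_center inf_le_left hZT).trans (hWZ _ hTp)
      have h1 := lt_inf_normalizer S.2 hTlt
      have h2 : (S : Subgroup G) ⊓ Subgroup.normalizer
          (((S : Subgroup G) ⊓ Subgroup.normalizer (H : Set G) : Subgroup G) : Set G) ≤
          (S : Subgroup G) ⊓ Subgroup.normalizer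
            ((W ((S : Subgroup G) ⊓ Subgroup.normalizer (H : Set G)) : Subgroup G) : Set G) :=
        inf_le_inf_left _ (Cfsg.Agent.S1963.normalizer_le_normalizer_W W hW hTp)
      have hcard := lt_of_lt_of_le (card_lt_of_lt h1) (Subgroup.card_le_of_le h2)
      have hle : Nat.card ((S : Subgroup G) ⊓ Subgroup.normalizer
            ((W ((S : Subgroup G) ⊓ Subgroup.normalizer (H : Set G)) : Subgroup G) : Set G) :
            Subgroup G) ≤ Nat.card (S : Subgroup G) := Subgroup.card_le_of_le inf_le_left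
      have hTH2 := h1.le.trans h2
      exact ih _ (by omega) _ hwp2 hZH2 rfl z hz.2 B'
        (hB'.trans (SetLike.coe_subset_coe.mpr hTH2))
        (hzB'.trans (SetLike.coe_subset_coe.mpr hTH2))
  · rw [Subgroup.mem_inf] at hz
    have hTne : (S : Subgroup G) ⊓ Subgroup.normalizer (H : Set G) ≠ ⊥ := by
      intro h
      have hH : H = ⊥ := by
        rw [eq_bot_iff, ← h]
        exact le_inf hHS Subgroup.le_normalizer
      apply hSne
      rw [eq_bot_iff, ← h]
      refine le_inf le_rfl ?_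
      intro x _
      rw [hH, Subgroup.mem_normalizer_iff]
      intro y
      simp [Subgroup.mem_bot]
    have hVle : V (S : Subgroup G) ≤ V ((S : Subgroup G) ⊓ Subgroup.normalizer (H : Set G)) :=
      hVmono _ _ S.2 hTp hSne hTne (center_le_center inf_le_left hZT)
    refine GR.single (Or.inr (Subgroup.mem_inf.mpr ⟨Subgroup.mem_top z, ?_⟩)) hB'S hzB'S
    exact Subgroup.centralizer_le (SetLike.coe_subset_coe.mpr hVle) hz.2

/-- the global theorem in left-conjugation form -/
theorem global_gr (S : Sylow p G) (hSne : (S : Subgroup G) ≠ ⊥)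
    (hW : Cfsg.IsConjugacyFunctor p W) (hV : Cfsg.IsConjugacyFunctor p V)
    (hWZ : ∀ H : Subgroup G, IsPGroup p ↥H →
      H ⊓ Subgroup.centralizer ((H : Subgroup G) : Set G) ≤ W H)
    (hVmono : ∀ H K : Subgroup G, IsPGroup p ↥H → IsPGroup p ↥K → H ≠ ⊥ → K ≠ ⊥ →
      H ⊓ Subgroup.centralizer ((H : Subgroup G) : Set G) ≤
        K ⊓ Subgroup.centralizer ((K : Subgroup G) : Set G) → V H ≤ V K)
    (hloc : ∀ H : Subgroup G,
      (S : Subgroup G) ⊓ Subgroup.centralizer ((S : Subgroup G) : Set G) ≤ H →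
      H ≤ (S : Subgroup G) → ∃ Q : Subgroup G, Q ≤ Subgroup.normalizer (H : Set G) ∧
        IsPGroup p ↥Q ∧ ¬ p ∣ Q.relIndex (Subgroup.normalizer (H : Set G)) ∧
        Ctl W V (Subgroup.normalizer (H : Set G)) Q) :
    ∀ Q : Subgroup G, Q ≤ (S : Subgroup G) → ∀ g : G, cj g Q ≤ (S : Subgroup G) →
      GR (StLoc W V ⊤ (S : Subgroup G)) (S : Subgroup G) (Q : Set G) g := by
  have hinv := StLoc_inv W V ⊤ (S : Subgroup G)
  have hR := GR.fusionRel hinv (S : Subgroup G)
  apply alperin S {U | Cfsg.IsWellPlaced p W (S : Subgroup G) U} ?_ _ hR ?_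
  · intro T hT
    obtain ⟨g, hg⟩ := Cfsg.Agent.S1963.result S W hW T hT
    exact ⟨cj g T, hg, hg.1, ⟨g, rfl⟩, hg.2 0⟩
  · intro U hU hUS hUfn IH m hm
    have hmU : cjs m (U : Set G) = (U : Set G) := by
      rw [← coe_cj, mem_normalizer_iff_cj.mp hm]
    have hUP : U ≤ (S : Subgroup G) ⊓ Subgroup.normalizer (U : Set G) :=
      le_inf hUS Subgroup.le_normalizer
    by_cases hcen : (S : Subgroup G) ⊓ Subgroup.centralizer (U : Set G) ≤ U
    · have hZU : (S : Subgroup G) ⊓ Subgroup.centralizer ((S : Subgroup G) : Set G) ≤ U :=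
        (inf_le_inf_left _ (Subgroup.centralizer_le (SetLike.coe_subset_coe.mpr hUS))).trans hcen
      exact wellPlaced_claim S hSne hW hV hWZ hVmono hloc _ U hU hZU rfl m hm (U : Set G)
        (SetLike.coe_subset_coe.mpr hUP) (by rw [hmU]; exact SetLike.coe_subset_coe.mpr hUP)
    · have hTp : IsPGroup p ((S : Subgroup G) ⊓ Subgroup.normalizer (U : Set G) : Subgroup G) :=
        S.2.to_le inf_le_left
      have hKM : Subgroup.centralizer (U : Set G) ≤ Subgroup.normalizer (U : Set G) :=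
        Subgroup.centralizer_le_normalizer _
      have hMK : Subgroup.normalizer (U : Set G) ≤
          Subgroup.normalizer ((Subgroup.centralizer (U : Set G) : Subgroup G) : Set G) := by
        intro x hx
        rw [mem_normalizer_iff_cj] at hx ⊢
        rw [cj_centralizer, hx]
      have hidx := not_dvd_relIndex_inf_of_normalizer hTp inf_le_right hKM hMK hUfn
      have hDK : cj m ((S : Subgroup G) ⊓ Subgroup.centralizer (U : Set G)) ≤
          Subgroup.centralizer (U : Set G) := by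
        have h1 : cj m ((S : Subgroup G) ⊓ Subgroup.centralizer (U : Set G)) ≤
            cj m (Subgroup.centralizer (U : Set G)) := cj_mono inf_le_right
        rw [cj_centralizer, mem_normalizer_iff_cj.mp hm] at h1
        exact h1
      obtain ⟨c, hcK, hcle⟩ := exists_cj_le_of_relIndex (p := p)
        (inf_le_right : ((S : Subgroup G) ⊓ Subgroup.normalizer (U : Set G)) ⊓
          Subgroup.centralizer (U : Set G) ≤ Subgroup.centralizer (U : Set G))
        (hTp.to_le inf_le_left) hidx hDK (isPGroup_cj (S.2.to_le inf_le_left))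
      have hagree : AgreeOn (U : Set G) (c * m) m := by
        intro u hu
        have hmu : m * u * m⁻¹ ∈ U := (Subgroup.mem_normalizer_iff.mp hm u).mp hu
        have hc := Subgroup.mem_centralizer_iff.mp hcK _ hmu
        calc c * m * u * (c * m)⁻¹ = c * (m * u * m⁻¹) * c⁻¹ := by group
          _ = (m * u * m⁻¹) * c * c⁻¹ := by rw [hc]
          _ = m * u * m⁻¹ := by group
      have hlt : U < U ⊔ ((S : Subgroup G) ⊓ Subgroup.centralizer (U : Set G)) := by
        refine lt_of_le_of_ne le_sup_left ?_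
        intro h
        exact hcen (le_sup_right.trans (le_of_eq h.symm))
      have hU1S : U ⊔ ((S : Subgroup G) ⊓ Subgroup.centralizer (U : Set G)) ≤ (S : Subgroup G) :=
        sup_le hUS inf_le_left
      have hU1 : cj (c * m) (U ⊔ ((S : Subgroup G) ⊓ Subgroup.centralizer (U : Set G))) ≤
          (S : Subgroup G) := by
        rw [cj_mul]
        show Subgroup.map _ (Subgroup.map _ _) ≤ _
        rw [Subgroup.map_sup, Subgroup.map_sup]
        refine sup_le ?_ ?_
        · have e1 : cj m U = U := mem_normalizer_iff_cj.mp hm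
          have e2 : cj c U = U := mem_normalizer_iff_cj.mp (hKM hcK)
          show cj c (cj m U) ≤ _
          rw [e1, e2]
          exact hUS
        · exact hcle.trans (inf_le_left.trans inf_le_left)
      have h3 := IH _ hU1S (card_lt_of_lt hlt) (c * m) hU1
      exact (hR.restrict _ (U : Set G) _ h3 (SetLike.coe_subset_coe.mpr le_sup_left)).of_agree
        hagree

end Main

/-- Let p be a prime dividing the order of the finite group G, P a Sylow p-subgroup, W a conjugacy functor for p on G with Z(H) ≤ W(H) for every nontrivial p-subgroup H, and V a central functor (a conjugacy functor with V(H) ≤ Z(H), and V(H) ≤ V(K) whenever Z(H) ≤ Z(K)). Say that W with V controls strong fusion in a subgroup L when some Sylow p-subgroup Q of L has the property: whenever X ⊆ Q and a ∈ L with a⁻¹Xa ⊆ Q, then a = c b with c ∈ C_L(X) and b = b₁ ⋯ bₙ a product of elements each in N_L(W(Q)) or in C_L(V(Q)) such that every partial conjugate (b₁ ⋯ bₖ)⁻¹ X (b₁ ⋯ bₖ) lies in Q. If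 W with V controls strong fusion in N_G(H) for every subgroup H with Z(P) ≤ H ≤ P, then W with V controls strong fusion in G. -/
theorem result {G : Type*} [Group G] [Finite G] {p : ℕ} [Fact p.Prime] (hdiv : p ∣ Nat.card G) (P : Sylow p G) (W V : Subgroup G → Subgroup G) (hW : Cfsg.IsConjugacyFunctor p W) (hV : Cfsg.IsConjugacyFunctor p V) (hWZ : ∀ H : Subgroup G, IsPGroup p ↥H → H ⊓ Subgroup.centralizer ((H : Subgroup G) : Set G) ≤ W H) (hVZ : ∀ H : Subgroup G, IsPGroup p ↥H → V H ≤ H ⊓ Subgroup.centralizer ((H : Subgroup G) : Set G)) (hVmono : ∀ H K : Subgroup G, IsPGroup p ↥H → IsPGroup p ↥K → H ≠ ⊥ → K ≠ ⊥ → H ⊓ Subgroup.centralizer ((H : Subgroup G) : Set G) ≤ K ⊓ Subgroup.centralizer ((K : Subgroup G) : Set G) → V H ≤ V K) (hloc : ∀ H : Subgroup G, (P : Subgroup G) ⊓ Subgroup.centralizer (((P : Subgroup G) : Subgroup G) : Set G) ≤ H → H ≤ (P : Subgroup G) → ∃ Q : Subgroup G, Q ≤ Subgroup.normalizer ((H : Subgroup G) : Set G) ∧ IsPGroup p ↥Q ∧ ¬ p ∣ (Q).relIndex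 (Subgroup.normalizer ((H : Subgroup G) : Set G)) ∧ ∀ (X : Set G) (a : G), X ⊆ Q → a ∈ Subgroup.normalizer ((H : Subgroup G) : Set G) → (fun x => a⁻¹ * x * a) '' X ⊆ Q → ∃ c ∈ Subgroup.normalizer ((H : Subgroup G) : Set G) ⊓ Subgroup.centralizer X, ∃ (n : ℕ) (b : Fin n → G), (∀ i, b i ∈ Subgroup.normalizer ((H : Subgroup G) : Set G) ⊓ Subgroup.normalizer ((W Q : Subgroup G) : Set G) ∨ b i ∈ Subgroup.normalizer ((H : Subgroup G) : Set G) ⊓ Subgroup.centralizer ((V Q : Subgroup G) : Set G)) ∧ a = c * (List.ofFn b).prod ∧ ∀ k : ℕ, k ≤ n → (fun x => (((List.ofFn b).take k).prod)⁻¹ * x * ((List.ofFn b).take k).prod) '' ((fun x => c⁻¹ * x * c) '' X) ⊆ Q) : ∃ Q : Subgroup G, IsPGroup p ↥Q ∧ ¬ p ∣ Q.index ∧ ∀ (X : Set G) (a : G), X ⊆ Q → (fun x => a⁻¹ * x * a) '' X ⊆ Q → ∃ c ∈ Subgroup.centralizer X, ∃ (n : ℕ) (b : Fin n → G), (∀ i, b i ∈ ⊤ ⊓ Subgroup.normalizer ((W Q : Subgroup G) : Set G) ∨ b i ∈ ⊤ ⊓ Subgroup.centralizer ((V Q : Subgroup G) : Set G)) ∧ a = c * (List.ofFn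 b).prod ∧ ∀ k : ℕ, k ≤ n → (fun x => (((List.ofFn b).take k).prod)⁻¹ * x * ((List.ofFn b).take k).prod) '' ((fun x => c⁻¹ * x * c) '' X) ⊆ Q := by
  have hSne : (P : Subgroup G) ≠ ⊥ := P.ne_bot_of_dvd_card hdiv
  have key := global_gr P hSne hW hV hWZ hVmono hloc
  have hinv := StLoc_inv W V ⊤ (P : Subgroup G)
  refine ⟨(P : Subgroup G), P.2, P.not_dvd_index, ?_⟩
  intro X a hX haX
  have hcl : Subgroup.closure X ≤ (P : Subgroup G) := (Subgroup.closure_le _).mpr hX
  have haX' : cjs a⁻¹ X ⊆ ((P : Subgroup G) : Set G) := by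
    simpa [cjs] using haX
  have h1 := key (Subgroup.closure X) hcl a⁻¹ (cjs_subset_coe_iff.mp haX')
  have h2 := (GR.fusionRel hinv (P : Subgroup G)).restrict _ X a⁻¹ h1 Subgroup.subset_closure
  obtain ⟨_, g', hch, hag⟩ := h2
  obtain ⟨l, hl, hprod, hk⟩ := list_of_chain hinv hch hX
  have hcX : a * g' ∈ Subgroup.centralizer X := by
    rw [Subgroup.mem_centralizer_iff]
    intro x hx
    have h := hag x hx
    rw [inv_inv] at h
    calc x * (a * g') = a * (a⁻¹ * x * a) * g' := by group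
      _ = a * (g' * x * g'⁻¹) * g' := by rw [h]
      _ = a * g' * x := by group
  refine ⟨a * g', hcX, l.length, l.get, ?_, ?_, ?_⟩
  · intro i
    exact hl _ (List.get_mem l i)
  · rw [List.ofFn_get, hprod]
    group
  · intro k hk'
    rw [image_conj_of_mem_centralizer hcX, List.ofFn_get]
    exact hk k hk'


end Cfsg.Agent.S2002
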