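import Cfsg.Statements.S2001
import Cfsg.Agent.Lib.Helper33_WTransfer
import Cfsg.Agent.S2002

set_option autoImplicit false
open Cfsg

namespace Cfsg.Agent.S2001

open Cfsg.Agent.Lib.Helper33_Conj Cfsg.Agent.Lib.Helper33_Alperin
  Cfsg.Agent.Lib.Helper33_WTransfer
open scoped commutatorElement

variable {G : Type*} [Group G]

/-- `T ∩ (N_M(W T))'` -/
def AA (W : Subgroup G → Subgroup G) (M T : Subgroup G) : Subgroup G :=
  T ⊓ ⁅M ⊓ Subgroup.normalizer ((W T : Subgroup G) : Set G),
    M ⊓ Subgroup.normalizer ((W T : Subgroup G) : Set G)⁆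

/-- `T ∩ (C_M(V T))'` -/
def BB (V : Subgroup G → Subgroup G) (M T : Subgroup G) : Subgroup G :=
  T ⊓ ⁅M ⊓ Subgroup.centralizer ((V T : Subgroup G) : Set G),
    M ⊓ Subgroup.centralizer ((V T : Subgroup G) : Set G)⁆

variable {p : ℕ} {W V : Subgroup G → Subgroup G}

theorem cj_AA (hW : Cfsg.IsConjugacyFunctor p W) {M P : Subgroup G} (hP : IsPGroup p P)
    {t : G} (ht : t ∈ M) : cj t (AA W M P) = AA W M (cj t P) := by
  unfold AA
  rw [cj_inf, cj_commutator, cj_inf, cj_normalizer, cj_of_mem ht, (hW P hP).2.2 t]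

theorem cj_BB (hV : Cfsg.IsConjugacyFunctor p V) {M P : Subgroup G} (hP : IsPGroup p P)
    {t : G} (ht : t ∈ M) : cj t (BB V M P) = BB V M (cj t P) := by
  unfold BB
  rw [cj_inf, cj_commutator, cj_inf, cj_centralizer, cj_of_mem ht, (hV P hP).2.2 t]

/-- the local transfer property, in the form of the statement -/
def CtlT (W V : Subgroup G → Subgroup G) (M Q : Subgroup G) : Prop :=
  ∀ x : G, x ∈ Q ⊓ ⁅M, M⁆ ↔
    ∃ a ∈ Q ⊓ ⁅M ⊓ Subgroup.normalizer ((W Q : Subgroup G) : Set G),
        M ⊓ Subgroup.normalizer ((W Q : Subgroup G) : Set G)⁆,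
      ∃ b ∈ Q ⊓ ⁅M ⊓ Subgroup.centralizer ((V Q : Subgroup G) : Set G),
        M ⊓ Subgroup.centralizer ((V Q : Subgroup G) : Set G)⁆, x = a * b

theorem le_sup_of_ctlT {M Q : Subgroup G} (h : CtlT W V M Q) :
    Q ⊓ ⁅M, M⁆ ≤ AA W M Q ⊔ BB V M Q := by
  intro x hx
  obtain ⟨a, ha, b, hb, rfl⟩ := (h x).mp hx
  exact Subgroup.mul_mem _ (Subgroup.mem_sup_left ha) (Subgroup.mem_sup_right hb)

/-- the local transfer inequality for every Sylow subgroup `P` of `M` -/
theorem le_sup_of_ctlT' [Finite G] [Fact p.Prime] (hW : Cfsg.IsConjugacyFunctor p W)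
    (hV : Cfsg.IsConjugacyFunctor p V) {M Q P : Subgroup G}
    (hQM : Q ≤ M) (hQp : IsPGroup p Q) (hQidx : ¬ p ∣ Q.relIndex M) (hctl : CtlT W V M Q)
    (hPM : P ≤ M) (hP : IsPGroup p P) (hidx : ¬ p ∣ P.relIndex M) :
    P ⊓ ⁅M, M⁆ ≤ AA W M P ⊔ BB V M P := by
  obtain ⟨t, htM, htle⟩ := exists_cj_le_of_relIndex hQM hQp hQidx hPM hP
  have hQ' : Q = cj t P := by
    apply Cfsg.Agent.Lib.Helper33_WFusion.eq_of_le_of_not_dvd_relIndex' (p := p) htle hQM hQp
    have : (cj t P).relIndex M = (cj t P).relIndex (cj t M) := by rw [cj_of_mem htM]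
    rw [this, Cfsg.Agent.Lib.Helper33_WFusion.relIndex_cj']
    exact hidx
  subst hQ'
  have h1 := le_sup_of_ctlT hctl
  rw [← cj_AA hW hP htM, ← cj_BB hV hP htM] at h1
  have h2 : cj t (P ⊓ ⁅M, M⁆) ≤ cj t (AA W M P ⊔ BB V M P) := by
    rw [cj_inf, cj_commutator, cj_of_mem htM]
    show _ ≤ Subgroup.map _ _
    rw [Subgroup.map_sup]
    exact h1
  have h3 := cj_mono (g := t⁻¹) h2
  rwa [cj_inv_cj, cj_inv_cj] at h3

section Main

variable [Finite G] [Fact p.Prime]

theorem wellPlaced_claim (S : Sylow p G) (hSne : (S : Subgroup G) ≠ ⊥)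
    (hW : Cfsg.IsConjugacyFunctor p W) (hV : Cfsg.IsConjugacyFunctor p V)
    (hWZ : ∀ H : Subgroup G, IsPGroup p ↥H →
      H ⊓ Subgroup.centralizer ((H : Subgroup G) : Set G) ≤ W H)
    (hVmono : ∀ H K : Subgroup G, IsPGroup p ↥H → IsPGroup p ↥K → H ≠ ⊥ → K ≠ ⊥ →
      H ⊓ Subgroup.centralizer ((H : Subgroup G) : Set G) ≤
        K ⊓ Subgroup.centralizer ((K : Subgroup G) : Set G) → V H ≤ V K)
    (hloc : ∀ H : Subgroup G,
      (S : Subgroup G) ⊓ Subgroup.centralizer ((S : Subgroup G) : Set G) ≤ H →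
      H ≤ (S : Subgroup G) → ∃ Q : Subgroup G, Q ≤ Subgroup.normalizer (H : Set G) ∧
        IsPGroup p ↥Q ∧ ¬ p ∣ Q.relIndex (Subgroup.normalizer (H : Set G)) ∧
        CtlT W V (Subgroup.normalizer (H : Set G)) Q)
    (D : Subgroup G)
    (hDA : (S : Subgroup G) ⊓ ⁅Subgroup.normalizer ((W (S : Subgroup G) : Subgroup G) : Set G),
      Subgroup.normalizer ((W (S : Subgroup G) : Subgroup G) : Set G)⁆ ≤ D)
    (hDB : (S : Subgroup G) ⊓ ⁅Subgroup.centralizer ((V (S : Subgroup G) : Subgroup G) : Set G),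
      Subgroup.centralizer ((V (S : Subgroup G) : Subgroup G) : Set G)⁆ ≤ D) :
    ∀ n : ℕ, ∀ H : Subgroup G, Cfsg.IsWellPlaced p W (S : Subgroup G) H →
      (S : Subgroup G) ⊓ Subgroup.centralizer ((S : Subgroup G) : Set G) ≤ H →
      Nat.card (S : Subgroup G) -
        Nat.card ((S : Subgroup G) ⊓ Subgroup.normalizer (H : Set G) : Subgroup G) = n →
      ((S : Subgroup G) ⊓ Subgroup.normalizer (H : Set G)) ⊓
        ⁅Subgroup.normalizer (H : Set G), Subgroup.normalizer (H : Set G)⁆ ≤ D := by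
  intro n
  induction n using Nat.strong_induction_on with
  | _ n ih =>
  intro H hwp hZH hn
  have hTp : IsPGroup p ((S : Subgroup G) ⊓ Subgroup.normalizer (H : Set G) : Subgroup G) :=
    S.2.to_le inf_le_left
  have hHS : H ≤ (S : Subgroup G) := hwp.1
  have hTidx : ¬ p ∣ ((S : Subgroup G) ⊓ Subgroup.normalizer (H : Set G)).relIndex
      (Subgroup.normalizer (H : Set G)) := hwp.2 0
  obtain ⟨Q, hQM, hQp, hQidx, hctl⟩ := hloc H hZH hHS
  refine (le_sup_of_ctlT' hW hV hQM hQp hQidx hctl inf_le_right hTp hTidx).trans ?_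
  have hZT : (S : Subgroup G) ⊓ Subgroup.centralizer ((S : Subgroup G) : Set G) ≤
      (S : Subgroup G) ⊓ Subgroup.normalizer (H : Set G) :=
    le_inf inf_le_left (hZH.trans Subgroup.le_normalizer)
  refine sup_le ?_ ?_
  · -- the normalizer part
    rcases eq_or_lt_of_le (inf_le_left : (S : Subgroup G) ⊓ Subgroup.normalizer (H : Set G) ≤
        (S : Subgroup G)) with hTS | hTlt
    · refine le_trans ?_ hDA
      unfold AA
      rw [hTS]
      exact inf_le_inf_left _ (Subgroup.commutator_mono inf_le_right inf_le_right)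
    · have hwp2 := Cfsg.Agent.S2002.isWellPlaced_tower_one hW S.2 hwp
      have hZH2 : (S : Subgroup G) ⊓ Subgroup.centralizer ((S : Subgroup G) : Set G) ≤
          W ((S : Subgroup G) ⊓ Subgroup.normalizer (H : Set G)) :=
        (Cfsg.Agent.S2002.center_le_center inf_le_left hZT).trans (hWZ _ hTp)
      have h1 := lt_inf_normalizer S.2 hTlt
      have h2 : (S : Subgroup G) ⊓ Subgroup.normalizer
          (((S : Subgroup G) ⊓ Subgroup.normalizer (H : Set G) : Subgroup G) : Set G) ≤
          (S : Subgroup G) ⊓ Subgroup.normalizer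
            ((W ((S : Subgroup G) ⊓ Subgroup.normalizer (H : Set G)) : Subgroup G) : Set G) :=
        inf_le_inf_left _ (Cfsg.Agent.S1963.normalizer_le_normalizer_W W hW hTp)
      have hcard := lt_of_lt_of_le (card_lt_of_lt h1) (Subgroup.card_le_of_le h2)
      have hle : Nat.card ((S : Subgroup G) ⊓ Subgroup.normalizer
            ((W ((S : Subgroup G) ⊓ Subgroup.normalizer (H : Set G)) : Subgroup G) : Set G) :
            Subgroup G) ≤ Nat.card (S : Subgroup G) := Subgroup.card_le_of_le inf_le_left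
      have hTH2 := h1.le.trans h2
      refine le_trans ?_ (ih _ (by omega) _ hwp2 hZH2 rfl)
      unfold AA
      exact inf_le_inf hTH2 (Subgroup.commutator_mono inf_le_right inf_le_right)
  · -- the centralizer part
    have hTne : (S : Subgroup G) ⊓ Subgroup.normalizer (H : Set G) ≠ ⊥ := by
      intro h
      have hH : H = ⊥ := by
        rw [eq_bot_iff, ← h]
        exact le_inf hHS Subgroup.le_normalizer
      apply hSne
      rw [eq_bot_iff, ← h]
      refine le_inf le_rfl ?_
      intro x _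
      rw [hH, Subgroup.mem_normalizer_iff]
      intro y
      simp [Subgroup.mem_bot]
    have hVle : V (S : Subgroup G) ≤ V ((S : Subgroup G) ⊓ Subgroup.normalizer (H : Set G)) :=
      hVmono _ _ S.2 hTp hSne hTne (Cfsg.Agent.S2002.center_le_center inf_le_left hZT)
    refine le_trans ?_ hDB
    unfold BB
    have hcen : Subgroup.normalizer (H : Set G) ⊓ Subgroup.centralizer
        ((V ((S : Subgroup G) ⊓ Subgroup.normalizer (H : Set G)) : Subgroup G) : Set G) ≤
        Subgroup.centralizer ((V (S : Subgroup G) : Subgroup G) : Set G) :=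
      inf_le_right.trans (Subgroup.centralizer_le (SetLike.coe_subset_coe.mpr hVle))
    exact inf_le_inf inf_le_left (Subgroup.commutator_mono hcen hcen)

theorem AgreeOn.tr {D : Subgroup G} {A : Set G} {g h : G} (hag : AgreeOn A g h)
    (hg : TR D A g) : TR D A h := by
  intro a ha
  rw [← hag a ha]
  exact hg a ha

/-- the global theorem: the focal relation holds with respect to `D` -/
theorem global_tr (S : Sylow p G) (hSne : (S : Subgroup G) ≠ ⊥)
    (hW : Cfsg.IsConjugacyFunctor p W) (hV : Cfsg.IsConjugacyFunctor p V)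
    (hWZ : ∀ H : Subgroup G, IsPGroup p ↥H →
      H ⊓ Subgroup.centralizer ((H : Subgroup G) : Set G) ≤ W H)
    (hVmono : ∀ H K : Subgroup G, IsPGroup p ↥H → IsPGroup p ↥K → H ≠ ⊥ → K ≠ ⊥ →
      H ⊓ Subgroup.centralizer ((H : Subgroup G) : Set G) ≤
        K ⊓ Subgroup.centralizer ((K : Subgroup G) : Set G) → V H ≤ V K)
    (hloc : ∀ H : Subgroup G,
      (S : Subgroup G) ⊓ Subgroup.centralizer ((S : Subgroup G) : Set G) ≤ H →
      H ≤ (S : Subgroup G) → ∃ Q : Subgroup G, Q ≤ Subgroup.normalizer (H : Set G) ∧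
        IsPGroup p ↥Q ∧ ¬ p ∣ Q.relIndex (Subgroup.normalizer (H : Set G)) ∧
        CtlT W V (Subgroup.normalizer (H : Set G)) Q)
    (D : Subgroup G)
    (hDA : (S : Subgroup G) ⊓ ⁅Subgroup.normalizer ((W (S : Subgroup G) : Subgroup G) : Set G),
      Subgroup.normalizer ((W (S : Subgroup G) : Subgroup G) : Set G)⁆ ≤ D)
    (hDB : (S : Subgroup G) ⊓ ⁅Subgroup.centralizer ((V (S : Subgroup G) : Subgroup G) : Set G),
      Subgroup.centralizer ((V (S : Subgroup G) : Subgroup G) : Set G)⁆ ≤ D) :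
    ∀ Q : Subgroup G, Q ≤ (S : Subgroup G) → ∀ g : G, cj g Q ≤ (S : Subgroup G) →
      TR D (Q : Set G) g := by
  have hR := TR.fusionRel D
  apply alperin S {U | Cfsg.IsWellPlaced p W (S : Subgroup G) U} ?_ _ hR ?_
  · intro T hT
    obtain ⟨g, hg⟩ := Cfsg.Agent.S1963.result S W hW T hT
    exact ⟨cj g T, hg, hg.1, ⟨g, rfl⟩, hg.2 0⟩
  · intro U hU hUS hUfn IH m hm
    have hUP : U ≤ (S : Subgroup G) ⊓ Subgroup.normalizer (U : Set G) :=
      le_inf hUS Subgroup.le_normalizer
    by_cases hcen : (S : Subgroup G) ⊓ Subgroup.centralizer (U : Set G) ≤ U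
    · have hZU : (S : Subgroup G) ⊓ Subgroup.centralizer ((S : Subgroup G) : Set G) ≤ U :=
        (inf_le_inf_left _ (Subgroup.centralizer_le (SetLike.coe_subset_coe.mpr hUS))).trans hcen
      have hcl := wellPlaced_claim S hSne hW hV hWZ hVmono hloc D hDA hDB _ U hU hZU rfl
      intro a ha
      apply hcl
      rw [Subgroup.mem_inf]
      have hmam : m * a * m⁻¹ ∈ U := ((Subgroup.mem_normalizer_iff.mp hm) a).mp ha
      constructor
      · exact hUP (U.mul_mem ha (U.inv_mem hmam))
      · have e : a * (m * a * m⁻¹)⁻¹ = ⁅a, m⁆ := by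
          rw [commutatorElement_def]; group
        rw [e]
        exact Subgroup.commutator_mem_commutator (Subgroup.le_normalizer ha) hm
    · have hTp : IsPGroup p ((S : Subgroup G) ⊓ Subgroup.normalizer (U : Set G) : Subgroup G) :=
        S.2.to_le inf_le_left
      have hKM : Subgroup.centralizer (U : Set G) ≤ Subgroup.normalizer (U : Set G) :=
        Subgroup.centralizer_le_normalizer _
      have hMK : Subgroup.normalizer (U : Set G) ≤
          Subgroup.normalizer ((Subgroup.centralizer (U : Set G) : Subgroup G) : Set G) := by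
        intro x hx
        rw [mem_normalizer_iff_cj] at hx ⊢
        rw [cj_centralizer, hx]
      have hidx := Cfsg.Agent.S2002.not_dvd_relIndex_inf_of_normalizer hTp inf_le_right hKM hMK
        hUfn
      have hDK : cj m ((S : Subgroup G) ⊓ Subgroup.centralizer (U : Set G)) ≤
          Subgroup.centralizer (U : Set G) := by
        have h1 : cj m ((S : Subgroup G) ⊓ Subgroup.centralizer (U : Set G)) ≤
            cj m (Subgroup.centralizer (U : Set G)) := cj_mono inf_le_right
        rw [cj_centralizer, mem_normalizer_iff_cj.mp hm] at h1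
        exact h1
      obtain ⟨c, hcK, hcle⟩ := exists_cj_le_of_relIndex (p := p)
        (inf_le_right : ((S : Subgroup G) ⊓ Subgroup.normalizer (U : Set G)) ⊓
          Subgroup.centralizer (U : Set G) ≤ Subgroup.centralizer (U : Set G))
        (hTp.to_le inf_le_left) hidx hDK (isPGroup_cj (S.2.to_le inf_le_left))
      have hagree : AgreeOn (U : Set G) (c * m) m := by
        intro u hu
        have hmu : m * u * m⁻¹ ∈ U := (Subgroup.mem_normalizer_iff.mp hm u).mp hu
        have hc := Subgroup.mem_centralizer_iff.mp hcK _ hmu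
        calc c * m * u * (c * m)⁻¹ = c * (m * u * m⁻¹) * c⁻¹ := by group
          _ = (m * u * m⁻¹) * c * c⁻¹ := by rw [hc]
          _ = m * u * m⁻¹ := by group
      have hlt : U < U ⊔ ((S : Subgroup G) ⊓ Subgroup.centralizer (U : Set G)) := by
        refine lt_of_le_of_ne le_sup_left ?_
        intro h
        exact hcen (le_sup_right.trans (le_of_eq h.symm))
      have hU1S : U ⊔ ((S : Subgroup G) ⊓ Subgroup.centralizer (U : Set G)) ≤ (S : Subgroup G) :=
        sup_le hUS inf_le_left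
      have hU1 : cj (c * m) (U ⊔ ((S : Subgroup G) ⊓ Subgroup.centralizer (U : Set G))) ≤
          (S : Subgroup G) := by
        rw [cj_mul]
        show Subgroup.map _ (Subgroup.map _ _) ≤ _
        rw [Subgroup.map_sup, Subgroup.map_sup]
        refine sup_le ?_ ?_
        · have e1 : cj m U = U := mem_normalizer_iff_cj.mp hm
          have e2 : cj c U = U := mem_normalizer_iff_cj.mp (hKM hcK)
          show cj c (cj m U) ≤ _
          rw [e1, e2]
          exact hUS
        · exact hcle.trans (inf_le_left.trans inf_le_left)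
      have h3 := IH _ hU1S (card_lt_of_lt hlt) (c * m) hU1
      exact AgreeOn.tr hagree
        (hR.restrict _ (U : Set G) _ h3 (SetLike.coe_subset_coe.mpr le_sup_left))

end Main

/-- Let p be a prime dividing the order of the finite group G, P a Sylow p-subgroup, W a conjugacy functor for p on G with Z(H) ≤ W(H) for every nontrivial p-subgroup H, and V a central functor: a conjugacy functor with V(H) ≤ Z(H), and V(H) ≤ V(K) whenever Z(H) ≤ Z(K), for nontrivial p-subgroups H, K. Say that W with V controls transfer in a subgroup L when some Sylow p-subgroup Q of L satisfies Q ∩ L' = (Q ∩ (N_L(W(Q)))')·(Q ∩ (C_L(V(Q)))') as a product of two subgroups. If W with V controls transfer in N_G(H) for every subgroup H with Z(P) ≤ H ≤ P, then W with V controls transfer in G. -/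
theorem result {G : Type*} [Group G] [Finite G] {p : ℕ} [Fact p.Prime] (hdiv : p ∣ Nat.card G) (P : Sylow p G) (W V : Subgroup G → Subgroup G) (hW : Cfsg.IsConjugacyFunctor p W) (hV : Cfsg.IsConjugacyFunctor p V) (hWZ : ∀ H : Subgroup G, IsPGroup p ↥H → H ⊓ Subgroup.centralizer ((H : Subgroup G) : Set G) ≤ W H) (hVZ : ∀ H : Subgroup G, IsPGroup p ↥H → V H ≤ H ⊓ Subgroup.centralizer ((H : Subgroup G) : Set G)) (hVmono : ∀ H K : Subgroup G, IsPGroup p ↥H → IsPGroup p ↥K → H ≠ ⊥ → K ≠ ⊥ → H ⊓ Subgroup.centralizer ((H : Subgroup G) : Set G) ≤ K ⊓ Subgroup.centralizer ((K : Subgroup G) : Set G) → V H ≤ V K) (hloc : ∀ H : Subgroup G, (P : Subgroup G) ⊓ Subgroup.centralizer (((P : Subgroup G) : Subgroup G) : Set G) ≤ H → H ≤ (P : Subgroup G) → ∃ Q : Subgroup G, Q ≤ Subgroup.normalizer ((H : Subgroup G) : Set G) ∧ IsPGroup p ↥Q ∧ ¬ p ∣ (Q).relIndex (Subgroup.normalizer ((H : Subgroup G) : Set G)) ∧ ∀ x : G, x ∈ Q ⊓ ⁅Subgroup.normalizer ((H : Subgroup G) : Set G), Subgroup.normalizer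 ((H : Subgroup G) : Set G)⁆ ↔ ∃ a ∈ Q ⊓ ⁅Subgroup.normalizer ((H : Subgroup G) : Set G) ⊓ Subgroup.normalizer ((W Q : Subgroup G) : Set G), Subgroup.normalizer ((H : Subgroup G) : Set G) ⊓ Subgroup.normalizer ((W Q : Subgroup G) : Set G)⁆, ∃ b ∈ Q ⊓ ⁅Subgroup.normalizer ((H : Subgroup G) : Set G) ⊓ Subgroup.centralizer ((V Q : Subgroup G) : Set G), Subgroup.normalizer ((H : Subgroup G) : Set G) ⊓ Subgroup.centralizer ((V Q : Subgroup G) : Set G)⁆, x = a * b) : ∃ Q : Subgroup G, IsPGroup p ↥Q ∧ ¬ p ∣ Q.index ∧ ∀ x : G, x ∈ Q ⊓ commutator G ↔ ∃ a ∈ Q ⊓ ⁅Subgroup.normalizer ((W Q : Subgroup G) : Set G), Subgroup.normalizer ((W Q : Subgroup G) : Set G)⁆, ∃ b ∈ Q ⊓ ⁅Subgroup.centralizer ((V Q : Subgroup G) : Set G), Subgroup.centralizer ((V Q : Subgroup G) : Set G)⁆, x = a * b := by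
  have hSne : (P : Subgroup G) ≠ ⊥ := P.ne_bot_of_dvd_card hdiv
  refine ⟨(P : Subgroup G), P.2, P.not_dvd_index, ?_⟩
  -- the two pieces
  set A : Subgroup G := (P : Subgroup G) ⊓
    ⁅Subgroup.normalizer ((W (P : Subgroup G) : Subgroup G) : Set G),
      Subgroup.normalizer ((W (P : Subgroup G) : Subgroup G) : Set G)⁆ with hA
  set B : Subgroup G := (P : Subgroup G) ⊓
    ⁅Subgroup.centralizer ((V (P : Subgroup G) : Subgroup G) : Set G),
      Subgroup.centralizer ((V (P : Subgroup G) : Subgroup G) : Set G)⁆ with hB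
  have hPN : (P : Subgroup G) ≤ Subgroup.normalizer ((W (P : Subgroup G) : Subgroup G) : Set G) :=
    Subgroup.le_normalizer.trans (Cfsg.Agent.S1963.normalizer_le_normalizer_W W hW P.2)
  have hBA : B ≤ Subgroup.normalizer (A : Set G) := by
    intro x hx
    have hxP : x ∈ (P : Subgroup G) := hx.1
    rw [mem_normalizer_iff_cj, hA, cj_inf, cj_commutator, cj_of_mem hxP, cj_of_mem (hPN hxP)]
  have key := global_tr P hSne hW hV hWZ hVmono hloc (A ⊔ B) le_sup_left le_sup_right
  intro x
  constructor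
  · intro hx
    have hxD : x ∈ A ⊔ B := by
      have hx' : x ∈ (P : Subgroup G).focalSubgroup := by
        rw [← Subgroup.commutator_inf_eq_focalSubgroup P, inf_comm]
        exact hx
      rw [Subgroup.focalSubgroup_def] at hx'
      refine (Subgroup.closure_le _).mpr ?_ hx'
      rintro g ⟨hgS, y, hyS, u, rfl⟩
      have k1 := key (Subgroup.zpowers y)
        (by rw [Subgroup.zpowers_le]; exact hyS) u
        (by
          have hy' : u * y * u⁻¹ ∈ (P : Subgroup G) := by
            have h1 : y⁻¹ * ⁅y, u⁆ ∈ (P : Subgroup G) :=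
              Subgroup.mul_mem _ (Subgroup.inv_mem _ hyS) hgS
            have e : y⁻¹ * ⁅y, u⁆ = (u * y * u⁻¹)⁻¹ := by
              rw [commutatorElement_def]; group
            rw [e] at h1
            exact (Subgroup.inv_mem_iff _).mp h1
          intro z hz
          rw [mem_cj] at hz
          obtain ⟨n, hn⟩ := Subgroup.mem_zpowers_iff.mp hz
          have : z = (u * y * u⁻¹) ^ n := by
            rw [conj_zpow, hn]; group
          rw [this]
          exact Subgroup.zpow_mem _ hy' n)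
      have := k1 y (Subgroup.mem_zpowers y)
      have e : ⁅y, u⁆ = y * (u * y * u⁻¹)⁻¹ := by
        rw [commutatorElement_def]; group
      rw [SetLike.mem_coe, e]
      exact this
    have hcoe := Subgroup.coe_mul_of_right_le_normalizer_left A B hBA
    have hx2 : x ∈ ((A ⊔ B : Subgroup G) : Set G) := hxD
    rw [hcoe] at hx2
    obtain ⟨a, ha, b, hb, rfl⟩ := Set.mem_mul.mp hx2
    exact ⟨a, ha, b, hb, rfl⟩
  · rintro ⟨a, ha, b, hb, rfl⟩
    have ha' : a ∈ (P : Subgroup G) ⊓ commutator G := by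
      refine Subgroup.mem_inf.mpr ⟨ha.1, ?_⟩
      rw [commutator_def]
      exact Subgroup.commutator_mono le_top le_top ha.2
    have hb' : b ∈ (P : Subgroup G) ⊓ commutator G := by
      refine Subgroup.mem_inf.mpr ⟨hb.1, ?_⟩
      rw [commutator_def]
      exact Subgroup.commutator_mono le_top le_top hb.2
    exact Subgroup.mul_mem _ ha' hb'

end Cfsg.Agent.S2001
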