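import Cfsg.Statements.S2003
import Mathlib
import Cfsg.Prelude.Def_PLocal
import Cfsg.Prelude.Def_LocalEven
import Cfsg.Agent.Lib.Helper54_KInf
import Cfsg.Agent.Lib.Helper54_KInfEngel
import Cfsg.Agent.Lib.Helper72_WCEngel
import Cfsg.Agent.S3766

set_option autoImplicit false
open Cfsg

namespace Cfsg.Agent.S2003

open Cfsg.Agent.Lib.Helper54_KInf Cfsg.Agent.Lib.Helper54_KInfEngel
open scoped commutatorElement

/-! ### The degree-adding lemma with a weaker hypothesis on `Y` -/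

section CoreGen

variable {L : Type*} [Group L]

theorem iter_anti {X H : Subgroup L} (h : H ≤ Subgroup.normalizer (X : Set L)) {k n : ℕ}
    (hkn : k ≤ n) : Cfsg.iterCommutator X H n ≤ Cfsg.iterCommutator X H k :=
  iter_le_of_le (iter_norm h k) le_rfl hkn

/-- the triple induction, assuming only that `X` centralizes `[Y, H; a]` -/
theorem core_aux' {X Y Z H : Subgroup L} (hXH : H ≤ Subgroup.normalizer (X : Set L))
    (hYH : H ≤ Subgroup.normalizer (Y : Set L)) (hZH : H ≤ Subgroup.normalizer (Z : Set L))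
    (hXY : ⁅X, Y⁆ ≤ Z) (hZX : ⁅Z, X⁆ = ⊥) (hZY : ⁅Z, Y⁆ = ⊥) (hZZ : ⁅Z, Z⁆ = ⊥) {a b : ℕ}
    (ha : ⁅X, Cfsg.iterCommutator Y H a⁆ = ⊥) (hb : Cfsg.iterCommutator Z H b = ⊥) :
    ∀ i l m : ℕ, a + b ≤ i + l + m + 1 →
      Cfsg.iterCommutator ⁅Cfsg.iterCommutator X H i, Cfsg.iterCommutator Y H l⁆ H m = ⊥ := by
  intro i
  induction i with
  | zero =>
    intro l m hlm
    by_cases hal : a ≤ l
    · have h0 : ⁅Cfsg.iterCommutator X H 0, Cfsg.iterCommutator Y H l⁆ = ⊥ := by
        rw [eq_bot_iff, ← ha]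
        exact Subgroup.commutator_mono le_rfl (iter_anti hYH hal)
      rw [h0, iter_bot]
    · have hbm : b ≤ m := by omega
      have h1 : ⁅Cfsg.iterCommutator X H 0, Cfsg.iterCommutator Y H l⁆ ≤ Z :=
        (Subgroup.commutator_mono (iter_le hXH 0) (iter_le hYH l)).trans hXY
      have h2 := iterCommutator_mono_left (Y := H) h1 m
      rw [iterCommutator_eq_bot_of_le hb hbm] at h2
      exact le_bot_iff.mp h2
  | succ i ih =>
    intro l m hlm
    have h1 := rec_le (H := H) hXY hZX hZY (iter_le hXH i) (iter_le hYH l) (iter_norm hXH i)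
      (iter_norm hYH l)
    have hP : ⁅⁅Cfsg.iterCommutator X H i, Cfsg.iterCommutator Y H l⁆, H⁆ ≤ Z :=
      (comm_le_of_norm (norm_comm (iter_norm hXH i) (iter_norm hYH l))).trans
        ((Subgroup.commutator_mono (iter_le hXH i) (iter_le hYH l)).trans hXY)
    have hQ : ⁅Cfsg.iterCommutator X H i, ⁅Cfsg.iterCommutator Y H l, H⁆⁆ ≤ Z :=
      (Subgroup.commutator_mono (iter_le hXH i) (iter_le hYH (l + 1))).trans hXY
    have h2 := (iterCommutator_mono_left (Y := H) h1 m).trans (iter_sup_le hZH hZZ hP hQ m)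
    have h3 : Cfsg.iterCommutator
        ⁅⁅Cfsg.iterCommutator X H i, Cfsg.iterCommutator Y H l⁆, H⁆ H m = ⊥ := by
      rw [iter_comm_left]
      exact ih l (m + 1) (by omega)
    have h4 : Cfsg.iterCommutator
        ⁅Cfsg.iterCommutator X H i, ⁅Cfsg.iterCommutator Y H l, H⁆⁆ H m = ⊥ :=
      ih (l + 1) m (by omega)
    rw [h3, h4, sup_bot_eq] at h2
    exact le_bot_iff.mp h2

theorem core_bot' {X Y Z H : Subgroup L} (hXH : H ≤ Subgroup.normalizer (X : Set L))
    (hYH : H ≤ Subgroup.normalizer (Y : Set L)) (hZH : H ≤ Subgroup.normalizer (Z : Set L))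
    (hXY : ⁅X, Y⁆ ≤ Z) (hZX : ⁅Z, X⁆ = ⊥) (hZY : ⁅Z, Y⁆ = ⊥) (hZZ : ⁅Z, Z⁆ = ⊥) {a b : ℕ}
    (ha : ⁅X, Cfsg.iterCommutator Y H a⁆ = ⊥) (hb : Cfsg.iterCommutator Z H b = ⊥) :
    ⁅Cfsg.iterCommutator X H (a + b - 1), Y⁆ = ⊥ :=
  core_aux' hXH hYH hZH hXY hZX hZY hZZ ha hb (a + b - 1) 0 0 (by omega)

/-- the same modulo a normal subgroup `N` -/
theorem core_mod' (N : Subgroup L) [N.Normal] {X Y Z H : Subgroup L}
    (hXH : H ≤ Subgroup.normalizer (X : Set L))
    (hYH : H ≤ Subgroup.normalizer (Y : Set L)) (hZH : H ≤ Subgroup.normalizer (Z : Set L))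
    (hXY : ⁅X, Y⁆ ≤ Z) (hZX : ⁅Z, X⁆ ≤ N) (hZY : ⁅Z, Y⁆ ≤ N) (hZZ : ⁅Z, Z⁆ ≤ N) {a b : ℕ}
    (ha : ⁅X, Cfsg.iterCommutator Y H a⁆ ≤ N) (hb : Cfsg.iterCommutator Z H b ≤ N) :
    ⁅Cfsg.iterCommutator X H (a + b - 1), Y⁆ ≤ N := by
  set π := QuotientGroup.mk' N with hπ
  have hker : π.ker = N := QuotientGroup.ker_mk' N
  have hbot : ∀ K : Subgroup L, K ≤ N → K.map π = ⊥ := by
    intro K hK
    rw [Subgroup.map_eq_bot_iff, hker]
    exact hK
  have hnorm : ∀ K : Subgroup L, H ≤ Subgroup.normalizer (K : Set L) →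
      H.map π ≤ Subgroup.normalizer ((K.map π : Subgroup (L ⧸ N)) : Set (L ⧸ N)) := by
    intro K hK
    exact (Subgroup.map_mono hK).trans (Subgroup.le_normalizer_map π)
  have key := core_bot' (X := X.map π) (Y := Y.map π) (Z := Z.map π) (H := H.map π) (a := a)
    (b := b) (hnorm X hXH) (hnorm Y hYH) (hnorm Z hZH)
    (by rw [← Subgroup.map_commutator]; exact Subgroup.map_mono hXY)
    (by rw [← Subgroup.map_commutator]; exact hbot _ hZX)
    (by rw [← Subgroup.map_commutator]; exact hbot _ hZY)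
    (by rw [← Subgroup.map_commutator]; exact hbot _ hZZ)
    (by
      rw [← Cfsg.Agent.Lib.Helper72_WCEngel.map_iterCommutator, ← Subgroup.map_commutator]
      exact hbot _ ha)
    (by rw [← Cfsg.Agent.Lib.Helper72_WCEngel.map_iterCommutator]; exact hbot _ hb)
  rw [← Cfsg.Agent.Lib.Helper72_WCEngel.map_iterCommutator, ← Subgroup.map_commutator,
    Subgroup.map_eq_bot_iff, hker] at key
  exact key

end CoreGen

/-! ### Chief chains -/

section Chain

variable {G : Type*} [Group G] [Finite G]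

theorem exists_chief_below {A B : Subgroup G} (hA : A.Normal) (hB : B.Normal) (hlt : B < A) :
    ∃ V : Subgroup G, V.Normal ∧ B ≤ V ∧ V < A ∧ Cfsg.IsChiefFactor A V := by
  obtain ⟨V, hBV, hmax⟩ := Finite.exists_le_maximal
    (p := fun V : Subgroup G => V.Normal ∧ B ≤ V ∧ V < A) (a := B) ⟨hB, le_rfl, hlt⟩
  obtain ⟨hVn, hBV', hVA⟩ := hmax.prop
  refine ⟨V, hVn, hBV, hVA, hVA, hA, hVn, ?_⟩
  intro N hN hVN hNA
  rcases eq_or_lt_of_le hNA with h | h
  · exact Or.inr h
  · left
    exact le_antisymm (hmax.le_of_ge ⟨hN, hBV.trans hVN, h⟩ hVN) hVN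

/-- a chain of normal subgroups from `A` down to `B` with chief factors, constant after `s` steps -/
theorem exists_chain (B : Subgroup G) (hB : B.Normal) (A : Subgroup G) :
    A.Normal → B ≤ A →
    ∃ (s : ℕ) (c : ℕ → Subgroup G), c 0 = A ∧ (∀ a, (c a).Normal) ∧ (∀ a, c (a + 1) ≤ c a) ∧
      (∀ a, B ≤ c a) ∧ (∀ a, s ≤ a → c a = B) ∧
      ∀ a, a < s → Cfsg.IsChiefFactor (c a) (c (a + 1)) := by
  refine WellFoundedLT.induction (motive := fun A : Subgroup G => A.Normal → B ≤ A →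
    ∃ (s : ℕ) (c : ℕ → Subgroup G), c 0 = A ∧ (∀ a, (c a).Normal) ∧ (∀ a, c (a + 1) ≤ c a) ∧
      (∀ a, B ≤ c a) ∧ (∀ a, s ≤ a → c a = B) ∧
      ∀ a, a < s → Cfsg.IsChiefFactor (c a) (c (a + 1))) A ?_
  intro A ih hA hBA
  rcases eq_or_lt_of_le hBA with h | h
  · refine ⟨0, fun _ => B, h, fun _ => hB, fun _ => le_rfl, fun _ => le_rfl, fun _ _ => rfl, ?_⟩
    intro a ha
    exact absurd ha (Nat.not_lt_zero a)
  · obtain ⟨V, hVn, hBV, hVA, hch⟩ := exists_chief_below hA hB h
    obtain ⟨s, c, hc0, hcn, hca, hcB, hcs, hcc⟩ := ih V hVA hVn hBV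
    refine ⟨s + 1, fun a => Nat.casesOn a A c, rfl, ?_, ?_, ?_, ?_, ?_⟩
    · intro a
      cases a with
      | zero => exact hA
      | succ a => exact hcn a
    · intro a
      cases a with
      | zero =>
        show c 0 ≤ A
        rw [hc0]
        exact hVA.le
      | succ a => exact hca a
    · intro a
      cases a with
      | zero => exact hBA
      | succ a => exact hcB a
    · intro a ha
      cases a with
      | zero => omega
      | succ a => exact hcs a (by omega)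
    · intro a ha
      cases a with
      | zero =>
        show Cfsg.IsChiefFactor A (c 0)
        rw [hc0]
        exact hch
      | succ a => exact hcc a (by omega)

end Chain

/-! ### Shifting subgroups -/

section Shift

variable {L : Type*} [Group L]

/-- the elements of `R` moving each `Y a` into `W (a + n)` -/
def shift (R : Subgroup L) (Y W : ℕ → Subgroup L) [hW : ∀ b, (W b).Normal] (n : ℕ) : Subgroup L :=
  ⨅ a, cstar R (Y a) (W (a + n))

theorem le_shift_iff (R : Subgroup L) (Y W : ℕ → Subgroup L) [hW : ∀ b, (W b).Normal] (n : ℕ)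
    (K : Subgroup L) : K ≤ shift R Y W n ↔ K ≤ R ∧ ∀ a, ⁅Y a, K⁆ ≤ W (a + n) := by
  unfold shift
  rw [le_iInf_iff]
  constructor
  · intro h
    exact ⟨((le_cstar_iff R _ _ K).mp (h 0)).1, fun a => ((le_cstar_iff R _ _ K).mp (h a)).2⟩
  · intro h a
    exact (le_cstar_iff R _ _ K).mpr ⟨h.1, h.2 a⟩

instance shift_normal (R : Subgroup L) (Y W : ℕ → Subgroup L) [R.Normal]
    [hY : ∀ a, (Y a).Normal] [hW : ∀ b, (W b).Normal] (n : ℕ) : (shift R Y W n).Normal :=
  Subgroup.normal_iInf_normal (fun a => cstar_normal R (Y a) (W (a + n)))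

/-- the layer lemma: the degrees of `Y` and `W` add on `shift n / shift (n + 1)` -/
theorem shift_step (R : Subgroup L) (Y W : ℕ → Subgroup L) [R.Normal]
    [hY : ∀ a, (Y a).Normal] [hW : ∀ b, (W b).Normal] (H : Subgroup L) (n α β : ℕ)
    (hdY : ∀ a, Cfsg.iterCommutator (Y a) H α ≤ Y (a + 1))
    (hdW : ∀ b, Cfsg.iterCommutator (W b) H β ≤ W (b + 1))
    (c1 : ∀ b, ⁅W b, shift R Y W n⁆ ≤ W (b + 1))
    (c2 : ∀ a b, ⁅W b, Y a⁆ ≤ W (b + 1))
    (c3 : ∀ b, ⁅W b, W b⁆ ≤ W (b + 1)) :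
    Cfsg.iterCommutator (shift R Y W n) H (α + β - 1) ≤ shift R Y W (n + 1) := by
  have hn : ∀ K : Subgroup L, K.Normal → H ≤ Subgroup.normalizer (K : Set L) := by
    intro K hK
    haveI := hK
    exact Subgroup.le_normalizer_of_normal
  have hER : shift R Y W n ≤ R := ((le_shift_iff R Y W n _).mp le_rfl).1
  have hEY : ∀ a, ⁅Y a, shift R Y W n⁆ ≤ W (a + n) := ((le_shift_iff R Y W n _).mp le_rfl).2
  rw [le_shift_iff]
  refine ⟨(iter_le (hn _ inferInstance) _).trans hER, fun a => ?_⟩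
  have key := core_mod' (W (a + n + 1)) (X := shift R Y W n) (Y := Y a) (Z := W (a + n))
    (H := H) (a := α) (b := β)
    (hn _ inferInstance) (hn _ inferInstance) (hn _ inferInstance)
    (by rw [Subgroup.commutator_comm]; exact hEY a)
    (c1 (a + n)) (c2 a (a + n)) (c3 (a + n))
    (by
      refine (Subgroup.commutator_mono le_rfl (hdY a)).trans ?_
      rw [Subgroup.commutator_comm]
      have := hEY (a + 1)
      rwa [show a + 1 + n = a + n + 1 by omega] at this)
    (hdW (a + n))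
  rw [Subgroup.commutator_comm]
  exact key

/-- descending along the shift subgroups -/
theorem good_shift (R : Subgroup L) (Y W : ℕ → Subgroup L) [R.Normal]
    [hY : ∀ a, (Y a).Normal] [hW : ∀ b, (W b).Normal] (H : Subgroup L) (d α β : ℕ)
    (hαβ : α + β - 1 ≤ d)
    (hdY : ∀ a, Cfsg.iterCommutator (Y a) H α ≤ Y (a + 1))
    (hdW : ∀ b, Cfsg.iterCommutator (W b) H β ≤ W (b + 1)) (n₀ N : ℕ) (hn₀ : n₀ ≤ N)
    (c1 : ∀ n, n₀ ≤ n → ∀ b, ⁅W b, shift R Y W n⁆ ≤ W (b + 1))
    (c2 : ∀ a b, ⁅W b, Y a⁆ ≤ W (b + 1))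
    (c3 : ∀ b, ⁅W b, W b⁆ ≤ W (b + 1))
    (hN : Good H d (shift R Y W N)) : Good H d (shift R Y W n₀) := by
  have hn : ∀ K : Subgroup L, K.Normal → H ≤ Subgroup.normalizer (K : Set L) := by
    intro K hK
    haveI := hK
    exact Subgroup.le_normalizer_of_normal
  have hstep : ∀ m, n₀ ≤ m → Good H d (shift R Y W (m + 1)) → Good H d (shift R Y W m) := by
    intro m hm hg
    refine good_step (Y := shift R Y W (m + 1)) hg ?_
    exact iter_le_of_le (hn _ inferInstance)
      (shift_step R Y W H m α β hdY hdW (c1 m hm) c2 c3) hαβ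
  have hall : ∀ k, n₀ ≤ N - k → Good H d (shift R Y W (N - k)) := by
    intro k
    induction k with
    | zero => intro _; exact hN
    | succ k ih =>
      intro hk
      by_cases hNk : N - k = 0
      · have : N - (k + 1) = N - k := by omega
        rw [this]
        exact ih (by omega)
      · have h1 : N - k = (N - (k + 1)) + 1 := by omega
        have h2 := ih (by omega)
        rw [h1] at h2
        exact hstep _ hk h2
  have := hall (N - n₀) (by omega)
  rwa [show N - (N - n₀) = n₀ by omega] at this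

end Shift

/-! ### The main theorem -/

section Main

variable {G : Type*} [Group G] [Finite G] {p : ℕ} [Fact p.Prime]

theorem chain_anti (c : ℕ → Subgroup G) (h : ∀ a, c (a + 1) ≤ c a) {a b : ℕ} (hab : a ≤ b) :
    c b ≤ c a := by
  induction b, hab using Nat.le_induction with
  | base => exact le_rfl
  | succ b _ ih => exact (h b).trans ih

theorem main (P Q : Subgroup G) [P.Normal] [Q.Normal] (hP : IsPGroup p ↥P)
    (hQ3 : ⁅P, Q⁆ ≤ ZZ Q) (hQ4 : P ⊓ Subgroup.centralizer (Q : Set G) ≤ ZZ Q)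
    (H : Subgroup G) (i j : ℕ) (hj : 1 ≤ j) (hji : j ≤ i)
    (hQi : Good H i Q) (hZj : Good H j (ZZ Q)) : Good H (i + j - 1) P := by
  classical
  set Z := ZZ Q with hZ
  haveI hZn : Z.Normal := (inferInstance : (Q ⊓ Subgroup.centralizer (Q : Set G)).Normal)
  set d := i + j - 1 with hd
  have hn : ∀ K : Subgroup G, K.Normal → H ≤ Subgroup.normalizer (K : Set G) := by
    intro K hK
    haveI := hK
    exact Subgroup.le_normalizer_of_normal
  have hZZ : ⁅Z, Z⁆ = ⊥ := ZZ_self_comm_eq_bot Q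
  have hZQ : ⁅Z, Q⁆ = ⊥ := ZZ_comm_eq_bot Q
  have hZleQ : Z ≤ Q := inf_le_left
  have hbotle : ∀ K K' : Subgroup G, K = ⊥ → K ≤ K' := by
    intro K K' h
    rw [h]
    exact bot_le
  -- the two chief chains
  obtain ⟨s, cQ, hcQ0, hcQn, hcQa, hcQge, hcQs, hcQc⟩ :=
    exists_chain Z hZn Q inferInstance hZleQ
  obtain ⟨r, cM, hcM0, hcMn, hcMa, -, hcMr, hcMc⟩ :=
    exists_chain (⊥ : Subgroup G) inferInstance Z hZn bot_le
  haveI hcQn' : ∀ a, (cQ a).Normal := hcQn
  haveI hcMn' : ∀ a, (cM a).Normal := hcMn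
  have hcQle : ∀ a, cQ a ≤ Q := fun a => by
    have := chain_anti cQ hcQa (Nat.zero_le a)
    rwa [hcQ0] at this
  have hcMle : ∀ a, cM a ≤ Z := fun a => by
    have := chain_anti cM hcMa (Nat.zero_le a)
    rwa [hcM0] at this
  -- degrees along the chains
  have hdQ : ∀ a, Cfsg.iterCommutator (cQ a) H i ≤ cQ (a + 1) := by
    intro a
    by_cases ha : a < s
    · exact hQi _ _ (hcQc a ha) (hcQle a)
    · rw [hcQs (a + 1) (by omega), ← hcQs a (by omega)]
      exact iter_le (hn _ inferInstance) i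
  have hdM : ∀ b, Cfsg.iterCommutator (cM b) H j ≤ cM (b + 1) := by
    intro b
    by_cases hb : b < r
    · exact hZj _ _ (hcMc b hb) (hcMle b)
    · rw [hcMr (b + 1) (by omega), ← hcMr b (by omega)]
      exact iter_le (hn _ inferInstance) j
  -- the centralizer of `Z` in `P`
  set T₀ := P ⊓ Subgroup.centralizer (Z : Set G) with hT₀
  haveI hT₀n : T₀.Normal := (inferInstance : (P ⊓ Subgroup.centralizer (Z : Set G)).Normal)
  have hZT₀ : ⁅Z, T₀⁆ = ⊥ := by
    rw [Subgroup.commutator_comm, Subgroup.commutator_eq_bot_iff_le_centralizer]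
    exact inf_le_right
  have hgZ : Good H d Z := good_of_le hZj (by omega)
  -- part 2: from `Z` up to `T₀`
  let W₂ : ℕ → Subgroup G := fun b => cM (b - s)
  haveI hW₂n : ∀ b, (W₂ b).Normal := fun b => hcMn (b - s)
  have hW₂le : ∀ b, W₂ b ≤ Z := fun b => hcMle (b - s)
  have hgT₀ : Good H d T₀ := by
    have h1 : Good H d (shift T₀ cQ W₂ (s + r)) := by
      refine good_mono hgZ ?_
      obtain ⟨hK1, hK2⟩ := (le_shift_iff T₀ cQ W₂ (s + r) _).mp le_rfl
      have h2 := hK2 0
      have h3 : W₂ (0 + (s + r)) = ⊥ := by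
        show cM (0 + (s + r) - s) = ⊥
        exact hcMr _ (by omega)
      rw [hcQ0, h3, le_bot_iff, Subgroup.commutator_comm,
        Subgroup.commutator_eq_bot_iff_le_centralizer] at h2
      exact (le_inf (hK1.trans inf_le_left) h2).trans hQ4
    have h2 : Good H d (shift T₀ cQ W₂ 0) := by
      refine good_shift T₀ cQ W₂ H d i j le_rfl hdQ ?_ 0 (s + r) (Nat.zero_le _) ?_ ?_ ?_ h1
      · intro b
        show Cfsg.iterCommutator (cM (b - s)) H j ≤ cM (b + 1 - s)
        by_cases hb : b < s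
        · rw [show b + 1 - s = b - s by omega]
          exact iter_le (hn _ inferInstance) j
        · rw [show b + 1 - s = (b - s) + 1 by omega]
          exact hdM (b - s)
      · intro n _ b
        refine hbotle _ _ (le_bot_iff.mp ?_)
        rw [← hZT₀]
        exact Subgroup.commutator_mono (hW₂le b) ((le_shift_iff T₀ cQ W₂ n _).mp le_rfl).1
      · intro a b
        refine hbotle _ _ (le_bot_iff.mp ?_)
        rw [← hZQ]
        exact Subgroup.commutator_mono (hW₂le b) (hcQle a)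
      · intro b
        refine hbotle _ _ (le_bot_iff.mp ?_)
        rw [← hZZ]
        exact Subgroup.commutator_mono (hW₂le b) (hW₂le b)
    refine good_mono h2 ?_
    rw [le_shift_iff]
    refine ⟨le_rfl, fun a => ?_⟩
    by_cases ha : s ≤ a
    · rw [hcQs a ha]
      exact hbotle _ _ hZT₀
    · have h3 : W₂ (a + 0) = Z := by
        show cM (a + 0 - s) = Z
        rw [show a + 0 - s = 0 by omega]
        exact hcM0
      rw [h3, Subgroup.commutator_comm]
      exact (Subgroup.commutator_mono inf_le_left (hcQle a)).trans hQ3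
  -- part 1: from `T₀` up to `P`
  have h1 : Good H d (shift P cM cM (r + 1)) := by
    refine good_mono hgT₀ ?_
    obtain ⟨hK1, hK2⟩ := (le_shift_iff P cM cM (r + 1) _).mp le_rfl
    have h2 := hK2 0
    rw [hcM0, hcMr (0 + (r + 1)) (by omega), le_bot_iff, Subgroup.commutator_comm,
      Subgroup.commutator_eq_bot_iff_le_centralizer] at h2
    exact le_inf hK1 h2
  have h2 : Good H d (shift P cM cM 1) := by
    refine good_shift P cM cM H d j j (by omega) hdM hdM 1 (r + 1) (by omega) ?_ ?_ ?_ h1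
    · intro n hn1 b
      exact (((le_shift_iff P cM cM n _).mp le_rfl).2 b).trans
        (chain_anti cM hcMa (by omega))
    · intro a b
      refine hbotle _ _ (le_bot_iff.mp ?_)
      rw [← hZZ]
      exact Subgroup.commutator_mono (hcMle b) (hcMle a)
    · intro b
      refine hbotle _ _ (le_bot_iff.mp ?_)
      rw [← hZZ]
      exact Subgroup.commutator_mono (hcMle b) (hcMle b)
  refine good_mono h2 ?_
  rw [le_shift_iff]
  refine ⟨le_rfl, fun a => ?_⟩
  by_cases ha : a < r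
  · obtain ⟨hlt, hUn, hVn, hmin⟩ := hcMc a ha
    have hnil : ∃ n, P.lowerCentralSeries n = ⊥ := by
      haveI : Group.IsNilpotent ↥P := hP.isNilpotent
      exact (Subgroup.isNilpotent_iff_lowerCentralSeries P).mp inferInstance
    exact Cfsg.Agent.S3766.chief_centralized (K := P) hnil ⟨hUn, hVn, hlt, hmin⟩
  · rw [hcMr a (by omega), Subgroup.commutator_bot_left]
    exact bot_le

end Main

/-- Let p be a prime, G a finite group, P a normal p-subgroup of G and Q a critical subgroup of P: a characteristic subgroup with Q/Z(Q) elementary abelian, [P, Q] ≤ Z(Q), C_P(Q) = Z(Q), and such that every automorphism of P of order prime to p fixing Q elementwise is trivial. Let g ∈ G and i, j ≥ 1, and suppose that [X, g, …, g] ≤ Y with i entries g for every chief factor X/Y of G with X ≤ Q, and with j entries g for every chief factor X/Y of G with X ≤ Z(Q). Then [X, g, …, g] ≤ Y with i + j − 1 entries g for every chief factor X/Y of G with X ≤ P. -/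
theorem result {G : Type*} [Group G] [Finite G] {p : ℕ} [Fact p.Prime] (P : Subgroup G) [P.Normal] (hP : IsPGroup p ↥P) (Q : Subgroup G) (hQP : Q ≤ P) (hQchar : (Q.subgroupOf P).Characteristic) (hQ1 : ∀ a ∈ Q, a ^ p ∈ Q ⊓ Subgroup.centralizer ((Q : Subgroup G) : Set G)) (hQ2 : ⁅Q, Q⁆ ≤ Subgroup.centralizer ((Q : Subgroup G) : Set G)) (hQ3 : ⁅P, Q⁆ ≤ Q ⊓ Subgroup.centralizer ((Q : Subgroup G) : Set G)) (hQ4 : P ⊓ Subgroup.centralizer ((Q : Subgroup G) : Set G) = Q ⊓ Subgroup.centralizer ((Q : Subgroup G) : Set G)) (hQ5 : ∀ φ : MulAut ↥P, (orderOf φ).Coprime p → (∀ a : ↥P, (a : G) ∈ Q → φ a = a) → φ = 1) (g : G) (i j : ℕ) (hi : 1 ≤ i) (hj : 1 ≤ j) (hQi : ∀ U V : Subgroup G, Cfsg.IsChiefFactor U V → U ≤ Q → Cfsg.iterCommutator U (Subgroup.zpowers g) i ≤ V) (hZj : ∀ U V : Subgroup G, Cfsg.IsChiefFactor U V → U ≤ Q ⊓ Subgroup.centralizer ((Q : Subgroup G) : Set G) → Cfsg.iterCommutator U (Subgroup.zpowers g) j ≤ V) : ∀ U V : Subgroup G, Cfsg.IsChiefFactor U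 V → U ≤ P → Cfsg.iterCommutator U (Subgroup.zpowers g) (i + j - 1) ≤ V := by
  classical
  haveI hQn : Q.Normal := by
    have h1 : (Q.subgroupOf P).map P.subtype = Q := Subgroup.map_subgroupOf_eq_of_le hQP
    haveI := hQchar
    have h2 : ((Q.subgroupOf P).map P.subtype).Normal :=
      ConjAct.normal_of_characteristic_of_normal
    rwa [h1] at h2
  have hQ4' : P ⊓ Subgroup.centralizer ((Q : Subgroup G) : Set G) ≤ ZZ Q := hQ4.le
  have hgQi : Good (Subgroup.zpowers g) i Q := hQi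
  have hgZi : Good (Subgroup.zpowers g) i (ZZ Q) := good_mono hgQi inf_le_left
  have hgZj : Good (Subgroup.zpowers g) j (ZZ Q) := hZj
  by_cases hji : j ≤ i
  · exact main (p := p) P Q hP hQ3 hQ4' (Subgroup.zpowers g) i j hj hji hgQi hgZj
  · have h1 := main (p := p) P Q hP hQ3 hQ4' (Subgroup.zpowers g) i i hi le_rfl hgQi hgZi
    exact good_of_le h1 (by omega)

end Cfsg.Agent.S2003
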