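import Cfsg.Statements.S2009

set_option autoImplicit false
open Cfsg

namespace Cfsg.Agent.S2009

/-- A fixed-point-free involution acting by conjugation on a finite normal subgroup inverts it. -/
theorem inverts_of_fpf {H : Type*} [Group H] [Finite H] (N : Subgroup H) [N.Normal] (e : H)
    (he2 : e * e = 1) (hfix : N ⊓ Subgroup.centralizer ({e} : Set H) = ⊥) :
    ∀ n ∈ N, e * n * e⁻¹ = n⁻¹ := by
  classical
  have einv : e⁻¹ = e := inv_eq_of_mul_eq_one_left he2
  -- the map n ↦ n⁻¹ * (e n e⁻¹) on N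
  let f : N → N := fun n => ⟨(n : H)⁻¹ * (e * n * e⁻¹),
    N.mul_mem (N.inv_mem n.2) (Subgroup.Normal.conj_mem inferInstance _ n.2 e)⟩
  have hinj : Function.Injective f := by
    intro a b hab
    have h1 : (a : H)⁻¹ * (e * a * e⁻¹) = (b : H)⁻¹ * (e * b * e⁻¹) := congrArg Subtype.val hab
    -- then b a⁻¹ is centralized by e
    have h2 : (b : H) * (a : H)⁻¹ ∈ N ⊓ Subgroup.centralizer ({e} : Set H) := by
      refine Subgroup.mem_inf.mpr ⟨N.mul_mem b.2 (N.inv_mem a.2), ?_⟩
      rw [Subgroup.mem_centralizer_singleton_iff]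
      have h3 : e * (b : H) * e⁻¹ * (e * (a : H) * e⁻¹)⁻¹ = (b : H) * (a : H)⁻¹ := by
        have : e * (b : H) * e⁻¹ = (b : H) * ((a : H)⁻¹ * (e * a * e⁻¹)) := by
          rw [h1]; group
        rw [this]; group
      have h4 : e * ((b : H) * (a : H)⁻¹) * e⁻¹ = (b : H) * (a : H)⁻¹ := by
        calc e * ((b : H) * (a : H)⁻¹) * e⁻¹ = e * (b : H) * e⁻¹ * (e * (a : H) * e⁻¹)⁻¹ := by group
          _ = (b : H) * (a : H)⁻¹ := h3
      calc (b : H) * (a : H)⁻¹ * e = e * ((b : H) * (a : H)⁻¹) * e⁻¹ * e := by rw [h4]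
        _ = e * ((b : H) * (a : H)⁻¹) := by group
    rw [hfix, Subgroup.mem_bot] at h2
    have : (b : H) = a := mul_inv_eq_one.mp h2
    exact Subtype.ext this.symm
  have hsurj : Function.Surjective f := Finite.surjective_of_injective hinj
  intro n hn
  obtain ⟨m, hm⟩ := hsurj ⟨n, hn⟩
  have hm' : (m : H)⁻¹ * (e * m * e⁻¹) = n := congrArg Subtype.val hm
  rw [← hm']
  calc e * ((m : H)⁻¹ * (e * m * e⁻¹)) * e⁻¹ = (e * (m:H)⁻¹ * e⁻¹) * ((e * e) * m * (e * e)⁻¹) := by group
    _ = (e * (m:H)⁻¹ * e⁻¹) * m := by rw [he2]; group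
    _ = ((m : H)⁻¹ * (e * m * e⁻¹))⁻¹ := by group

theorem exists_other {H : Type*} [Group H] (z : H) (E : Subgroup H) (hE : IsKleinFour ↥E) (hzE : z ∈ E) :
    ∃ e ∈ E, e ≠ 1 ∧ e ≠ z := by
  classical
  have hcard : Nat.card E = 4 := hE.card_four
  have : Finite E := Nat.finite_of_card_ne_zero (by omega)
  by_contra hcon
  push Not at hcon
  have hsub : ∀ x : E, x = 1 ∨ x = ⟨z, hzE⟩ := by
    intro x
    by_cases hx : (x : H) = 1
    · left; exact Subtype.ext hx
    · right; exact Subtype.ext (hcon x x.2 hx)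
  have : Fintype E := Fintype.ofFinite E
  have : Fintype.card E ≤ 2 := by
    calc Fintype.card E = (Finset.univ : Finset E).card := rfl
      _ ≤ ({1, ⟨z, hzE⟩} : Finset E).card := by
          apply Finset.card_le_card
          intro x _
          rcases hsub x with h | h <;> simp [h]
      _ ≤ 2 := Finset.card_le_two
  rw [Nat.card_eq_fintype_card] at hcard
  omega

theorem normal_eq_bot {H : Type*} [Group H] [Finite H] (z : H) (hz : orderOf z = 2) (hN : ∀ N : Subgroup H, N.Normal → N ≠ ⊤ → N ⊓ Subgroup.centralizer ({z} : Set H) = ⊥) (E : Subgroup H) (hE : IsKleinFour ↥E) (hzE : z ∈ E) (hc : ∀ e ∈ E, e ≠ 1 → IsConj z e)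
    (N : Subgroup H) [hNn : N.Normal] (hNt : N ≠ ⊤) : N = ⊥ := by
  classical
  -- every nonidentity element e of E is an involution acting fixed-point-freely on N
  have hfix : ∀ e ∈ E, e ≠ 1 → N ⊓ Subgroup.centralizer ({e} : Set H) = ⊥ := by
    intro e he hne
    obtain ⟨c, hc'⟩ := isConj_iff.mp (hc e he hne)
    -- e = c z c⁻¹
    rw [eq_bot_iff]
    intro x hx
    obtain ⟨hxN, hxC⟩ := Subgroup.mem_inf.mp hx
    rw [Subgroup.mem_bot]
    have hx' : c⁻¹ * x * c ∈ N ⊓ Subgroup.centralizer ({z} : Set H) := by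
      refine Subgroup.mem_inf.mpr ⟨?_, ?_⟩
      · have := hNn.conj_mem x hxN c⁻¹
        simpa using this
      · rw [Subgroup.mem_centralizer_singleton_iff] at hxC ⊢
        rw [← hc'] at hxC
        calc c⁻¹ * x * c * z = c⁻¹ * (x * (c * z * c⁻¹)) * c := by group
          _ = c⁻¹ * (c * z * c⁻¹ * x) * c := by rw [hxC]
          _ = z * (c⁻¹ * x * c) := by group
    rw [hN N hNn hNt, Subgroup.mem_bot] at hx'
    have : x = c * (c⁻¹ * x * c) * c⁻¹ := by group
    rw [this, hx']; group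
  have hsq : ∀ e ∈ E, e * e = 1 := by
    intro e he
    have h := hE.exponent_two
    have : (⟨e, he⟩ : E) ^ 2 = 1 := by
      rw [← h]; exact Monoid.pow_exponent_eq_one _
    have := congrArg Subtype.val this
    simpa [pow_two] using this
  -- pick a second nonidentity element e ≠ z in E
  have hz1 : z ≠ 1 := by
    intro h; rw [h, orderOf_one] at hz; omega
  obtain ⟨e, heE, he1, hez⟩ : ∃ e ∈ E, e ≠ 1 ∧ e ≠ z := exists_other z E hE hzE
  have hze : z * e ∈ E := E.mul_mem hzE heE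
  have hze1 : z * e ≠ 1 := by
    intro h
    have : e = z⁻¹ := (eq_inv_of_mul_eq_one_right h)
    have hzinv : z⁻¹ = z := inv_eq_of_mul_eq_one_left (hsq z hzE)
    exact hez (this.trans hzinv)
  have i1 := inverts_of_fpf N z (hsq z hzE) (hfix z hzE hz1)
  have i2 := inverts_of_fpf N e (hsq e heE) (hfix e heE he1)
  rw [eq_bot_iff]
  intro n hn
  rw [Subgroup.mem_bot]
  -- (z e) n (z e)⁻¹ = z (e n e⁻¹) z⁻¹ = z n⁻¹ z⁻¹ = n
  have h2 := i2 n hn
  have h1 := i1 n⁻¹ (N.inv_mem hn)
  have h4 : z * e * n * (z * e)⁻¹ = n := by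
    calc z * e * n * (z * e)⁻¹ = z * (e * n * e⁻¹) * z⁻¹ := by group
      _ = z * n⁻¹ * z⁻¹ := by rw [h2]
      _ = n := by rw [h1, inv_inv]
  -- so n is fixed by z*e, hence in N ⊓ C(z e) = ⊥
  have h5 : n ∈ N ⊓ Subgroup.centralizer ({z * e} : Set H) := by
    refine Subgroup.mem_inf.mpr ⟨hn, ?_⟩
    rw [Subgroup.mem_centralizer_singleton_iff]
    calc n * (z * e) = (z * e * n * (z * e)⁻¹) * (z * e) := by rw [h4]
      _ = z * e * n := by group
  rw [hfix _ hze hze1, Subgroup.mem_bot] at h5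
  exact h5

/-- Let H be a finite group and z an involution such that every proper normal subgroup of H meets the centralizer of z trivially, and suppose z lies in a Klein four-subgroup E of H all three of whose involutions are conjugate to z in H. Then H is simple. -/
theorem result {H : Type*} [Group H] [Finite H] (z : H) (hz : orderOf z = 2) (hN : ∀ N : Subgroup H, N.Normal → N ≠ ⊤ → N ⊓ Subgroup.centralizer ({z} : Set H) = ⊥) (E : Subgroup H) (hE : IsKleinFour ↥E) (hzE : z ∈ E) (hc : ∀ e ∈ E, e ≠ 1 → IsConj z e) : IsSimpleGroup H := by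
  have hz1 : z ≠ 1 := by
    intro h; rw [h, orderOf_one] at hz; omega
  have : Nontrivial H := ⟨⟨z, 1, hz1⟩⟩
  refine ⟨fun N hNn => ?_⟩
  by_cases hNt : N = ⊤
  · right; exact hNt
  · left
    exact normal_eq_bot z hz hN E hE hzE hc N hNt

end Cfsg.Agent.S2009
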