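-- Statement S2010 (row 2010), solved by helper11.
-- Solvable, S4-free, Sylow 2-subgroup of class at most two: G = N_G(J(S)) O_{2'}(G).
-- Route: pass to G / O_{2'}(G); there the failure of the Thompson factorization would give SL(2,2)
-- acting on a normal 2-subgroup (S0618), hence a section S4 (helper21's criterion); so J(G) centralizes
-- V = <Omega_1(Z(S))> (S0608); class two puts every commutator [O_2, a], a an involution of a largest
-- elementary abelian subgroup, inside V, so these subgroups stabilise the chain 1 <= V <= O_2 and lie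
-- in O_2; hence J(S) = J(G) is normal, and the normalizer lifts through the odd-order core.
import Cfsg.Statements.S2010
import Cfsg.Agent.Lib.Helper11_S4Fact
import Cfsg.Agent.Lib.Helper55_Fitting
import Cfsg.Agent.Lib.Lead_PSolvable
import Cfsg.Agent.Lib.Helper34_NPC
import Cfsg.Agent.Lib.Helper1_Cores
import Cfsg.Agent.Lib.Helper32_Sylow
import Cfsg.Agent.S0601
import Cfsg.Agent.S0602
import Cfsg.Agent.S0603
import Cfsg.Agent.S0608
import Cfsg.Agent.S0609
import Cfsg.Agent.S0618
import Cfsg.Agent.S0667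

set_option autoImplicit false
open Cfsg
open scoped commutatorElement

namespace Cfsg.Agent.S2010

universe u

section core

variable {G : Type u} [Group G] [Finite G]

theorem isPGroup_of_ea {A : Subgroup G} (h : Cfsg.IsElementaryAbelian 2 A) : IsPGroup 2 A := by
  intro a
  refine ⟨1, ?_⟩
  apply Subtype.ext
  simpa using h.2 a a.2

/-- an element stabilising the chain `1 ≤ V ≤ Q` (with `V` of exponent two and `C(Q) ≤ Q`) lies in
`O_2(G)` -/
theorem mem_pCore_of_stabilizes_chain (Q V : Subgroup G) [hQn : Q.Normal] [hVn : V.Normal]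
    (hQ : IsPGroup 2 Q) (hc : Subgroup.centralizer (Q : Set G) ≤ Q) (hV2 : ∀ v ∈ V, v * v = 1)
    (g : G) (hgV : g ∈ Subgroup.centralizer (V : Set G))
    (hgQ : ∀ q ∈ Q, g⁻¹ * q⁻¹ * g * q ∈ V) : g ∈ Cfsg.pCore 2 G := by
  classical
  set N' : Subgroup G := Subgroup.centralizer (V : Set G) ⊓
    (Subgroup.centralizer ((Q.map (QuotientGroup.mk' V) : Subgroup (G ⧸ V)) : Set (G ⧸ V))).comap
      (QuotientGroup.mk' V) with hN'
  have hQmn : (Q.map (QuotientGroup.mk' V)).Normal :=
    hQn.map (QuotientGroup.mk' V) (QuotientGroup.mk'_surjective V)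
  have hN'n : N'.Normal := by
    rw [hN']
    infer_instance
  have hmem : ∀ x : G, x ∈ N' ↔ x ∈ Subgroup.centralizer (V : Set G) ∧
      ∀ q ∈ Q, x⁻¹ * q⁻¹ * x * q ∈ V := by
    intro x
    rw [hN', Subgroup.mem_inf, Subgroup.mem_comap, Subgroup.mem_centralizer_iff]
    constructor
    · rintro ⟨h1, h2⟩
      refine ⟨h1, fun q hq => ?_⟩
      have h3 := h2 _ ⟨q, hq, rfl⟩
      rw [QuotientGroup.mk'_apply, QuotientGroup.mk'_apply, ← QuotientGroup.mk_mul,
        ← QuotientGroup.mk_mul, QuotientGroup.eq] at h3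
      have e : x⁻¹ * q⁻¹ * x * q = (q * x)⁻¹ * (x * q) := by group
      rw [e]
      exact h3
    · rintro ⟨h1, h2⟩
      refine ⟨h1, ?_⟩
      rintro _ ⟨q, hq, rfl⟩
      rw [QuotientGroup.mk'_apply, QuotientGroup.mk'_apply, ← QuotientGroup.mk_mul,
        ← QuotientGroup.mk_mul, QuotientGroup.eq]
      have e : (q * x)⁻¹ * (x * q) = x⁻¹ * q⁻¹ * x * q := by group
      rw [e]
      exact h2 q hq
  have hsq : ∀ x ∈ N', x * x ∈ Q := by
    intro x hx
    obtain ⟨hxV, hxQ⟩ := (hmem x).mp hx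
    apply hc
    rw [Subgroup.mem_centralizer_iff]
    intro q hq
    set v := x⁻¹ * q⁻¹ * x * q with hv
    have hvV : v ∈ V := hxQ q hq
    have hxv : v * x = x * v := (Subgroup.mem_centralizer_iff.mp hxV) v hvV
    have hvv : v * v = 1 := hV2 v hvV
    have e1 : x * q = q * x * v := by rw [hv]; group
    symm
    calc x * x * q = x * (x * q) := by group
      _ = x * (q * x * v) := by rw [e1]
      _ = (x * q) * x * v := by group
      _ = (q * x * v) * x * v := by rw [e1]
      _ = q * x * (v * x) * v := by group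
      _ = q * x * (x * v) * v := by rw [hxv]
      _ = q * x * x * (v * v) := by group
      _ = q * (x * x) := by rw [hvv]; group
  have hN'p : IsPGroup 2 N' := by
    intro x
    obtain ⟨k, hk⟩ := hQ ⟨(x : G) * x, hsq x x.2⟩
    refine ⟨k + 1, ?_⟩
    apply Subtype.ext
    have h1 : ((x : G) * x) ^ 2 ^ k = 1 := by simpa using congrArg Subtype.val hk
    rw [Subgroup.coe_pow, Subgroup.coe_one, pow_succ', pow_mul, pow_two]
    exact h1
  have hle : N' ≤ Cfsg.pCore 2 G := Cfsg.Agent.Lib.Helper1_Cores.le_pCore hN'n hN'p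
  exact hle ((hmem g).mpr ⟨hgV, hgQ⟩)

/-- the centralizer of a union of subgroups is the centralizer of their join -/
theorem centralizer_iSup_coe {ι : Sort*} (K : ι → Subgroup G) :
    Subgroup.centralizer (⨆ i, (K i : Set G)) =
      Subgroup.centralizer ((⨆ i, K i : Subgroup G) : Set G) := by
  apply le_antisymm
  · intro g hg
    rw [Subgroup.mem_centralizer_iff]
    have hle : (⨆ i, K i : Subgroup G) ≤ Subgroup.centralizer ({g} : Set G) := by
      apply iSup_le
      intro i h hh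
      rw [Subgroup.mem_centralizer_iff]
      intro x hx
      rw [Set.mem_singleton_iff] at hx
      subst hx
      have hmem : h ∈ (⨆ i, (K i : Set G)) := by
        rw [Set.iSup_eq_iUnion, Set.mem_iUnion]
        exact ⟨i, hh⟩
      exact ((Subgroup.mem_centralizer_iff.mp hg) h hmem).symm
    intro h hh
    have := (Subgroup.mem_centralizer_iff.mp (hle hh)) g (Set.mem_singleton g)
    exact this.symm
  · apply Subgroup.centralizer_le
    intro x hx
    rw [Set.iSup_eq_iUnion, Set.mem_iUnion] at hx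
    obtain ⟨i, hi⟩ := hx
    exact (le_iSup K i) hi

/-- the involvement criterion with the centralizer given up to equality -/
theorem involves_of_eq (V E C : Subgroup G) (hC : C = Subgroup.centralizer (V : Set G))
    (hV : IsPGroup 2 V) (hEV : E ≤ Subgroup.normalizer (V : Set G))
    (hn : (C.subgroupOf E).Normal)
    (e : (↥E ⧸ C.subgroupOf E) ≃* Matrix.SpecialLinearGroup (Fin 2) (ZMod 2)) :
    Cfsg.Involves (Equiv.Perm (Fin 4)) G := by
  subst hC
  exact Cfsg.Agent.Lib.Helper11_S4Fact.involves_S4_of_SL2_two V E hV hEV hn e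

/-- Thompson factorizability of a solvable `S₄`-free group with trivial odd core -/
theorem isThompsonFactorizable [Group.IsSolvable G]
    (hS4 : ¬ Cfsg.Involves (Equiv.Perm (Fin 4)) G) (hO : Cfsg.pPrimeCore 2 G = ⊥) :
    Cfsg.IsThompsonFactorizable 2 G := by
  by_contra hnf
  have hsep : Cfsg.IsPSolvable 2 G := Cfsg.Agent.Lib.Lead_PSolvable.isPSolvable_of_isSolvable 2
  have hc := Cfsg.Agent.Lib.Helper55_Fitting.centralizer_pCore_le (G := G) 2 hO
  obtain ⟨hVn, hVea, -⟩ := Cfsg.Agent.S0601.result (G := G) (p := 2) hc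
  obtain ⟨-, E, -, -, -, hn, ⟨e⟩⟩ := Cfsg.Agent.S0618.result hsep hO hnf
  apply hS4
  refine involves_of_eq _ E _ (centralizer_iSup_coe _) (isPGroup_of_ea hVea) ?_ hn e
  rw [Subgroup.normalizer_eq_top]
  exact le_top

/-- class two is inherited by all Sylow `2`-subgroups -/
theorem class_two_all (S : Sylow 2 G)
    (hcl : ⁅⁅(S : Subgroup G), (S : Subgroup G)⁆, (S : Subgroup G)⁆ = ⊥) (S' : Sylow 2 G) :
    ⁅⁅(S' : Subgroup G), (S' : Subgroup G)⁆, (S' : Subgroup G)⁆ = ⊥ := by
  obtain ⟨g, rfl⟩ := MulAction.exists_smul_eq G S S'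
  rw [Cfsg.Agent.S0608.coe_smul_sylow, ← Subgroup.map_commutator, ← Subgroup.map_commutator, hcl,
    Subgroup.map_bot]

/-- the largest elementary abelian `2`-subgroups lie in `O_2(G)` -/
theorem max_le_pCore [Group.IsSolvable G]
    (hS4 : ¬ Cfsg.Involves (Equiv.Perm (Fin 4)) G) (hO : Cfsg.pPrimeCore 2 G = ⊥)
    (hcl : ∀ S : Sylow 2 G, ⁅⁅(S : Subgroup G), (S : Subgroup G)⁆, (S : Subgroup G)⁆ = ⊥)
    {A : Subgroup G} (hA : A ∈ Cfsg.maxElementaryAbelianSubgroups 2 G) :
    A ≤ Cfsg.pCore 2 G := by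
  have hc := Cfsg.Agent.Lib.Helper55_Fitting.centralizer_pCore_le (G := G) 2 hO
  obtain ⟨hVn, hVea, -⟩ := Cfsg.Agent.S0601.result (G := G) (p := 2) hc
  have hTF := isThompsonFactorizable hS4 hO
  have hJ := (Cfsg.Agent.S0608.result (G := G) (p := 2) hO).mp hTF
  have hAJ : A ≤ Cfsg.thompsonSubgroup 2 G := le_sSup hA
  obtain ⟨S', hAS'⟩ := (isPGroup_of_ea hA.1).exists_le_sylow
  have hQS' : Cfsg.pCore 2 G ≤ S' := Cfsg.Agent.Lib.Helper1_Cores.pCore_le_sylow 2 S'
  have hcl' := hcl S'
  intro a ha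
  have haS : a ∈ (S' : Subgroup G) := hAS' ha
  have haa : a * a = 1 := by
    have := hA.1.2 a ha
    rwa [pow_two] at this
  refine mem_pCore_of_stabilizes_chain (Cfsg.pCore 2 G) _
    (Cfsg.Agent.Lib.Helper1_Cores.pCore_isPGroup 2) hc ?_ a (hJ (hAJ ha)) ?_
  · intro v hv
    have := hVea.2 v hv
    rwa [pow_two] at this
  · intro q hq
    have hqS : q ∈ (S' : Subgroup G) := hQS' hq
    set c := a⁻¹ * q⁻¹ * a * q with hc_def
    have hcS : c ∈ (S' : Subgroup G) :=
      Subgroup.mul_mem _ (Subgroup.mul_mem _ (Subgroup.mul_mem _ (Subgroup.inv_mem _ haS)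
        (Subgroup.inv_mem _ hqS)) haS) hqS
    have hcomm : c ∈ ⁅(S' : Subgroup G), (S' : Subgroup G)⁆ := by
      have : c = ⁅a⁻¹, q⁻¹⁆ := by rw [hc_def, commutatorElement_def]; group
      rw [this]
      exact Subgroup.commutator_mem_commutator (Subgroup.inv_mem _ haS) (Subgroup.inv_mem _ hqS)
    have hcen : ∀ s ∈ (S' : Subgroup G), s * c = c * s := by
      intro s hs
      have h1 : ⁅c, s⁆ ∈ ⁅⁅(S' : Subgroup G), (S' : Subgroup G)⁆, (S' : Subgroup G)⁆ :=
        Subgroup.commutator_mem_commutator hcomm hs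
      rw [hcl', Subgroup.mem_bot, commutatorElement_eq_one_iff_commute] at h1
      exact h1.eq.symm
    have hac : a * c = c * a := hcen a haS
    have h1 : a * (a⁻¹ * q⁻¹ * a * q) = q⁻¹ * a * q := by group
    have hcc : c * c = 1 := by
      have h2 : c * a = q⁻¹ * a * q := by rw [← hac, hc_def]; exact h1
      have h3 : a⁻¹ = a := inv_eq_of_mul_eq_one_left haa
      calc c * c = c * (a⁻¹ * q⁻¹ * a * q) := by rw [← hc_def]
        _ = c * (a * q⁻¹ * a * q) := by rw [h3]
        _ = (c * a) * (q⁻¹ * a * q) := by group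
        _ = (q⁻¹ * a * q) * (q⁻¹ * a * q) := by rw [h2]
        _ = q⁻¹ * (a * a) * q := by group
        _ = 1 := by rw [haa]; group
    have hcZ : c ∈ Cfsg.omegaOne 2 ((S' : Subgroup G) ⊓
        Subgroup.centralizer ((S' : Subgroup G) : Set G)) := by
      apply Subgroup.subset_closure
      refine ⟨⟨hcS, ?_⟩, ?_⟩
      · exact Subgroup.mem_centralizer_iff.mpr hcen
      · rw [pow_two]; exact hcc
    exact (le_iSup (fun S : Sylow 2 G => Cfsg.omegaOne 2 ((S : Subgroup G) ⊓
        Subgroup.centralizer ((S : Subgroup G) : Set G))) S') hcZ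

/-- **The core case.**  In a solvable `S₄`-free group with trivial odd core and Sylow `2`-subgroups
of class at most two, `J(S)` is normal. -/
theorem thompsonSubgroupOf_normal [Group.IsSolvable G]
    (hS4 : ¬ Cfsg.Involves (Equiv.Perm (Fin 4)) G) (hO : Cfsg.pPrimeCore 2 G = ⊥)
    (S : Sylow 2 G)
    (hcl : ⁅⁅(S : Subgroup G), (S : Subgroup G)⁆, (S : Subgroup G)⁆ = ⊥) :
    (Cfsg.thompsonSubgroupOf 2 (S : Subgroup G)).Normal := by
  have hall := class_two_all S hcl
  have hJQ : Cfsg.thompsonSubgroup 2 G ≤ Cfsg.pCore 2 G := by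
    apply sSup_le
    intro A hA
    exact max_le_pCore hS4 hO hall hA
  have hJS : Cfsg.thompsonSubgroup 2 G ≤ (S : Subgroup G) :=
    hJQ.trans (Cfsg.Agent.Lib.Helper1_Cores.pCore_le_sylow 2 S)
  rw [Cfsg.Agent.S0603.result (G := G) (p := 2) (S : Subgroup G) hJS]
  have := (Cfsg.Agent.S0602.result (G := G) (p := 2)).1
  infer_instance

end core

/-- Let G be a finite solvable group with no section isomorphic to the symmetric group of degree 4, whose Sylow 2-subgroup S has nilpotency class at most 2. Then G = N_G(J_e(S)) · O_{2'}(G), where J_e(S) is the subgroup generated by the elementary abelian subgroups of S of largest order. -/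
theorem result {G : Type*} [Group G] [Finite G]
    [Group.IsSolvable G] (hS4 : ¬ Cfsg.Involves (Equiv.Perm (Fin 4)) G) (S : Sylow 2 G)
    (hcl : Subgroup.lowerCentralSeries (S : Subgroup G) 2 = ⊥) :
    Subgroup.normalizer ((Cfsg.thompsonSubgroupOf 2 (S : Subgroup G)) : Set G) ⊔ Cfsg.pPrimeCore 2 G = ⊤ := by
  have hcl' : ⁅⁅(S : Subgroup G), (S : Subgroup G)⁆, (S : Subgroup G)⁆ = ⊥ := hcl
  set K := Cfsg.pPrimeCore 2 G with hK
  have hKc : (Nat.card K).Coprime 2 := Cfsg.Agent.Lib.Helper1_Cores.pPrimeCore_card_coprime 2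
  have hsurj : Function.Surjective (QuotientGroup.mk' K) := QuotientGroup.mk'_surjective K
  have hS4' : ¬ Cfsg.Involves (Equiv.Perm (Fin 4)) (G ⧸ K) := fun h =>
    hS4 (Cfsg.Agent.Lib.Helper34_NPC.involves_of_surjective (QuotientGroup.mk' K) hsurj h)
  have hO' : Cfsg.pPrimeCore 2 (G ⧸ K) = ⊥ :=
    Cfsg.Agent.Lib.Helper55_Fitting.pPrimeCore_quotient_pPrimeCore 2
  set Sb : Sylow 2 (G ⧸ K) := S.mapSurjective hsurj with hSb
  have hSbc : (Sb : Subgroup (G ⧸ K)) = (S : Subgroup G).map (QuotientGroup.mk' K) :=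
    Sylow.coe_mapSurjective hsurj S
  have hclb : ⁅⁅(Sb : Subgroup (G ⧸ K)), (Sb : Subgroup (G ⧸ K))⁆, (Sb : Subgroup (G ⧸ K))⁆ = ⊥ := by
    rw [hSbc, ← Subgroup.map_commutator, ← Subgroup.map_commutator, hcl', Subgroup.map_bot]
  have hn := thompsonSubgroupOf_normal hS4' hO' Sb hclb
  have hinj : ∀ x ∈ (S : Subgroup G), (QuotientGroup.mk' K) x = 1 → x = 1 := by
    intro x hx h1
    have hxK : x ∈ K := by
      rw [← QuotientGroup.ker_mk' K]
      exact h1
    have hinf : (S : Subgroup G) ⊓ K = ⊥ :=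
      Cfsg.Agent.Lib.Helper32_Sylow.inf_eq_bot_of_pgroup_of_coprime S.isPGroup' hKc
    have : x ∈ (S : Subgroup G) ⊓ K := ⟨hx, hxK⟩
    rwa [hinf, Subgroup.mem_bot] at this
  rw [hSbc, ← Cfsg.Agent.S0609.thompsonSubgroupOf_map_of_injOn (QuotientGroup.mk' K) 2
    (S : Subgroup G) hinj] at hn
  have hZp : IsPGroup 2 (Cfsg.thompsonSubgroupOf 2 (S : Subgroup G)) :=
    S.isPGroup'.to_le (Cfsg.Agent.S0609.thompsonSubgroupOf_le (S : Subgroup G))
  have := Cfsg.Agent.S0667.sup_normalizer_eq_top_of_map_normal K hKc _ hZp hn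
  rw [sup_comm]
  exact this

end Cfsg.Agent.S2010
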