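import Cfsg.Statements.S2011
import Cfsg.Agent.Lib.Helper34_Sylow
import Cfsg.Agent.Lib.Helper1_Cores
import Mathlib.GroupTheory.Transfer

set_option autoImplicit false
open Cfsg

namespace Cfsg.Agent.S2011

open Subgroup Cfsg.Agent.Lib.Helper34_Sylow Cfsg.Agent.Lib.Helper1_Cores

/-- Unfolding centricity in the fusion system of a group. -/
theorem centric_iff {G : Type*} [Group G] (P Q : Subgroup G) (hQ : Q ≤ P) :
    (Cfsg.groupFusionSystem P).IsCentric Q ↔
      ∀ g : G, cj g Q ≤ P → P ⊓ centralizer ((cj g Q : Subgroup G) : Set G) ≤ cj g Q := by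
  constructor
  · rintro ⟨_, h⟩ g hg
    apply h (cj g Q)
    refine ⟨Cfsg.conjHom Q g, ⟨hQ, ?_, g, fun x => rfl⟩, ?_⟩
    · intro x
      apply hg
      exact conj_mem_cj x.2
    · ext y
      constructor
      · rintro ⟨x, rfl⟩
        exact conj_mem_cj x.2
      · rintro ⟨x, hx, rfl⟩
        exact ⟨⟨x, hx⟩, rfl⟩
  · intro h
    refine ⟨hQ, ?_⟩
    rintro R ⟨φ, ⟨_, hφP, g, hg⟩, rfl⟩
    have hR : φ.range = cj g Q := by
      ext y
      constructor
      · rintro ⟨x, rfl⟩
        rw [hg]; exact conj_mem_cj x.2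
      · rintro ⟨x, hx, rfl⟩
        exact ⟨⟨x, hx⟩, by rw [hg]; rfl⟩
    have hle : cj g Q ≤ P := by
      rw [← hR]
      rintro _ ⟨x, rfl⟩
      exact hφP x
    have := h g hle
    rw [hR]
    exact this

theorem result {G : Type*} [Group G] [Finite G] (p : ℕ) [Fact p.Prime] (P : Sylow p G) (Q : Subgroup G) (hQ : Q ≤ P) : (Cfsg.groupFusionSystem (P : Subgroup G)).IsCentric Q ↔ Cfsg.IsInternalDirectProduct (Q ⊓ Subgroup.centralizer (Q : Set G)) ((Cfsg.pPrimeCore p ↥(Subgroup.centralizer (Q : Set G))).map (Subgroup.centralizer (Q : Set G)).subtype) (Subgroup.centralizer (Q : Set G)) := by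
  classical
  have hp : p.Prime := Fact.out
  rw [centric_iff _ _ hQ]
  set CQ : Subgroup G := centralizer (Q : Set G) with hCQ
  set O0 : Subgroup CQ := Cfsg.pPrimeCore p CQ with hO0
  have hQp : IsPGroup p Q := P.2.to_le hQ
  have hO0cop : (Nat.card O0).Coprime p := pPrimeCore_card_coprime p
  -- general facts: commuting and trivial intersection
  have hcomm : ∀ a ∈ Q ⊓ CQ, ∀ b ∈ O0.map CQ.subtype, a * b = b * a := by
    intro a ha b hb
    have hbC : b ∈ CQ := map_subtype_le _ hb
    rw [hCQ, mem_centralizer_iff] at hbC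
    exact hbC a (mem_inf.mp ha).1
  have hOord : ∀ b ∈ O0.map CQ.subtype, (orderOf b).Coprime p := by
    rintro _ ⟨y, hy, rfl⟩
    have h1 : orderOf (⟨y, hy⟩ : O0) ∣ Nat.card O0 := orderOf_dvd_natCard _
    have h2 : orderOf (⟨y, hy⟩ : O0) = orderOf y := by rw [← Subgroup.orderOf_coe]
    have h3 : orderOf (CQ.subtype y) = orderOf y := Subgroup.orderOf_coe y
    rw [h3, ← h2]
    exact Nat.Coprime.coprime_dvd_left h1 hO0cop
  have hone : ∀ b : G, (orderOf b).Coprime p → (∃ k : ℕ, b ^ (p ^ k) = 1) → b = 1 := by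
    intro b hb ⟨k, hk⟩
    have h1 : orderOf b ∣ p ^ k := orderOf_dvd_of_pow_eq_one hk
    have h2 : (orderOf b).Coprime (p ^ k) := Nat.Coprime.pow_right k hb
    have : orderOf b = 1 := Nat.Coprime.eq_one_of_dvd h2 h1
    exact orderOf_eq_one_iff.mp this
  have hdisj : (Q ⊓ CQ) ⊓ O0.map CQ.subtype = ⊥ := by
    rw [eq_bot_iff]
    intro x hx
    rw [mem_bot]
    obtain ⟨hx1, hx2⟩ := mem_inf.mp hx
    have hxQ : x ∈ Q := (mem_inf.mp hx1).1
    obtain ⟨k, hk⟩ := hQp ⟨x, hxQ⟩
    have hk' : x ^ (p ^ k) = 1 := by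
      have := congrArg Subtype.val hk
      simpa using this
    exact hone x (hOord x hx2) ⟨k, hk'⟩
  constructor
  · -- centric implies the direct decomposition
    intro hcen
    refine ⟨inf_le_right, map_subtype_le _, hcomm, hdisj, ?_⟩
    -- a Sylow p-subgroup D of CQ
    let D : Sylow p CQ := default
    set D' : Subgroup G := (D : Subgroup CQ).map CQ.subtype with hD'
    have hD'p : IsPGroup p D' := D.2.map _
    have hD'C : D' ≤ CQ := map_subtype_le _
    have hQD : IsPGroup p (Q ⊔ D' : Subgroup G) := by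
      apply IsPGroup.to_sup_of_normal_right' hQp hD'p
      intro q hq
      rw [mem_normalizer_iff]
      intro d
      -- q commutes with every element of CQ
      have key : ∀ d : G, d ∈ D' → q * d * q⁻¹ = d := by
        intro d hd
        have hdC := hD'C hd
        rw [hCQ, mem_centralizer_iff] at hdC
        have := hdC q hq
        rw [this]; group
      constructor
      · intro hd
        rw [key d hd]; exact hd
      · intro hd
        have hdq : q⁻¹ * (q * d * q⁻¹) * q ∈ D' := by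
          have h1 : q * d * q⁻¹ ∈ CQ := hD'C hd
          rw [hCQ, mem_centralizer_iff] at h1
          have h2 := h1 q hq
          have h3 : q⁻¹ * (q * d * q⁻¹) * q = q * d * q⁻¹ := by
            calc q⁻¹ * (q * d * q⁻¹) * q = q⁻¹ * ((q * d * q⁻¹) * q) := by group
              _ = q⁻¹ * (q * (q * d * q⁻¹)) := by rw [h2]
              _ = q * d * q⁻¹ := by group
          rw [h3]; exact hd
        have h4 : q⁻¹ * (q * d * q⁻¹) * q = d := by group
        rwa [h4] at hdq
    have hidx : ¬ p ∣ (P : Subgroup G).relIndex ⊤ := by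
      rw [relIndex_top_right]; exact P.not_dvd_index
    obtain ⟨g, _, hg⟩ := exists_cj_le_of_relIndex (H := ⊤) P.2 hidx le_top hQD
    have hgQ : cj g Q ≤ P := (cj_mono le_sup_left).trans hg
    have hgD : cj g D' ≤ P := (cj_mono le_sup_right).trans hg
    have hgD2 : cj g D' ≤ centralizer ((cj g Q : Subgroup G) : Set G) := by
      rw [← cj_centralizer]; exact cj_mono hD'C
    have hgD3 : cj g D' ≤ cj g Q := (le_inf hgD hgD2).trans (hcen g hgQ)
    have hDQ : D' ≤ Q := by
      have := cj_mono (g := g⁻¹) hgD3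
      rwa [cj_inv_cj, cj_inv_cj] at this
    have hDZ : D' ≤ Q ⊓ CQ := le_inf hDQ hD'C
    -- D is central in CQ
    have hDcent : normalizer ((D : Subgroup CQ) : Set CQ) ≤ centralizer ((D : Subgroup CQ) : Set CQ) := by
      intro c _
      rw [mem_centralizer_iff]
      intro d hd
      have hdQ : (d : G) ∈ Q := hDQ ⟨d, hd, rfl⟩
      have hc : (c : G) ∈ centralizer (Q : Set G) := c.2
      rw [mem_centralizer_iff] at hc
      exact Subtype.ext (hc d hdQ)
    let K0 : Subgroup CQ := (MonoidHom.transferSylow D hDcent).ker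
    have hK0compl : IsComplement' K0 D := MonoidHom.ker_transferSylow_isComplement' D hDcent
    have hK0card : ¬ p ∣ Nat.card K0 := MonoidHom.not_dvd_card_ker_transferSylow D hDcent
    have hK0le : K0 ≤ O0 :=
      le_pPrimeCore (MonoidHom.normal_ker _) ((Nat.Prime.coprime_iff_not_dvd hp).mpr hK0card).symm
    apply le_antisymm
    · exact sup_le inf_le_right (map_subtype_le _)
    · intro c hc
      obtain ⟨⟨k, d⟩, hkd, _⟩ := hK0compl.existsUnique (⟨c, hc⟩ : CQ)
      have hc' : c = (k : CQ) * (d : CQ) := by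
        have := congrArg Subtype.val hkd
        simpa using this.symm
      have h1 : ((d : CQ) : G) ∈ Q ⊓ CQ := hDZ ⟨d, d.2, rfl⟩
      have h2 : ((k : CQ) : G) ∈ O0.map CQ.subtype := ⟨k, hK0le k.2, rfl⟩
      rw [hc']
      exact (Q ⊓ CQ ⊔ O0.map CQ.subtype).mul_mem (mem_sup_right h2) (mem_sup_left h1)
  · -- the direct decomposition implies centric
    rintro ⟨_, _, _, _, hsup⟩ g hg x hx
    obtain ⟨hxP, hxC⟩ := mem_inf.mp hx
    rw [← cj_centralizer, mem_cj] at hxC
    set y := g⁻¹ * x * g with hy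
    -- decompose y = z * k in CQ
    have hO0n : O0.Normal := Cfsg.Agent.Lib.Helper1_Cores.pPrimeCore_normal p
    have hsup' : (Q ⊓ CQ).subgroupOf CQ ⊔ O0 = ⊤ := by
      have h1 := congrArg (fun H => H.subgroupOf CQ) hsup
      simp only [subgroupOf_self] at h1
      rw [subgroupOf_sup inf_le_right (map_subtype_le _)] at h1
      rw [← h1]
      congr 1
      ext c
      rw [mem_subgroupOf]
      constructor
      · intro hc; exact ⟨c, hc, rfl⟩
      · rintro ⟨c', hc', hcc⟩
        have : c' = c := Subtype.ext hcc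
        rwa [← this]
    have hymem : (⟨y, hxC⟩ : CQ) ∈ ((Q ⊓ CQ).subgroupOf CQ ⊔ O0 : Subgroup CQ) := by
      rw [hsup']; exact mem_top _
    rw [← SetLike.mem_coe, Subgroup.mul_normal] at hymem
    obtain ⟨z, hz, k, hk, hzk⟩ := hymem
    have hzk' : y = (z : G) * (k : G) := by
      have := congrArg Subtype.val hzk
      simpa using this.symm
    have hzZ : (z : G) ∈ Q ⊓ CQ := mem_subgroupOf.mp hz
    have hkO : (k : G) ∈ O0.map CQ.subtype := ⟨k, hk, rfl⟩
    -- y is a p-element
    obtain ⟨n, hn⟩ := P.2 ⟨x, hxP⟩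
    have hxn : x ^ (p ^ n) = 1 := by
      have := congrArg Subtype.val hn
      simpa using this
    have hyn : y ^ (p ^ n) = 1 := by
      have : y ^ (p ^ n) = g⁻¹ * x ^ (p ^ n) * g := by
        rw [hy]
        have := conj_pow (a := g⁻¹) (b := x) (i := p ^ n)
        rw [inv_inv] at this
        exact this
      rw [this, hxn]; group
    have hcm : Commute (z : G) (k : G) := hcomm _ hzZ _ hkO
    have hzkn : (z : G) ^ (p ^ n) * (k : G) ^ (p ^ n) = 1 := by
      rw [← hcm.mul_pow, ← hzk', hyn]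
    have hkn : (k : G) ^ (p ^ n) ∈ (Q ⊓ CQ) ⊓ O0.map CQ.subtype := by
      refine mem_inf.mpr ⟨?_, Subgroup.pow_mem _ hkO _⟩
      have : (k : G) ^ (p ^ n) = ((z : G) ^ (p ^ n))⁻¹ := (eq_inv_of_mul_eq_one_right hzkn)
      rw [this]
      exact Subgroup.inv_mem _ (Subgroup.pow_mem _ hzZ _)
    rw [hdisj, mem_bot] at hkn
    have hk1 : (k : G) = 1 := hone _ (hOord _ hkO) ⟨n, hkn⟩
    rw [hk1, mul_one] at hzk'
    rw [mem_cj]
    change y ∈ Q
    rw [hzk']
    exact (mem_inf.mp hzZ).1

end Cfsg.Agent.S2011
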