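import Cfsg.Statements.S2014
import Cfsg.Agent.Lib.Helper34_Sylow

set_option autoImplicit false
open Cfsg

namespace Cfsg.Agent.S2014

open Subgroup Cfsg.Agent.Lib.Helper34_Sylow

theorem result {G : Type*} [Group G] [Finite G] (p : ℕ) [Fact p.Prime] (P : Sylow p G) (A C : Subgroup G) (hA : A ≤ P) (hC : C ≤ P) (hext : ¬ p ∣ ((P : Subgroup G) ⊓ Subgroup.normalizer ((C : Subgroup G) : Set G)).relIndex (Subgroup.normalizer ((C : Subgroup G) : Set G))) (h : G) (hh : A.map (MulAut.conj h).toMonoidHom = C) : ∃ g : G, A.map (MulAut.conj g).toMonoidHom = C ∧ ((P : Subgroup G) ⊓ Subgroup.normalizer ((A : Subgroup G) : Set G)).map (MulAut.conj g).toMonoidHom ≤ (P : Subgroup G) ⊓ Subgroup.normalizer ((C : Subgroup G) : Set G) ∧ h * g⁻¹ ∈ (Cfsg.pResidual p ↥(Subgroup.normalizer ((C : Subgroup G) : Set G))).map (Subgroup.normalizer ((C : Subgroup G) : Set G)).subtype := by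
  classical
  set NC : Subgroup G := normalizer (C : Set G) with hNC
  set R : Subgroup G := (P : Subgroup G) ⊓ NC with hRdef
  set U : Subgroup G := cj h ((P : Subgroup G) ⊓ normalizer (A : Set G)) with hUdef
  have hRp : IsPGroup p R := P.2.to_le inf_le_left
  have hUp : IsPGroup p U := isPGroup_cj (P.2.to_le inf_le_left)
  have hUN : U ≤ NC := by
    rw [hUdef, cj_inf]
    refine inf_le_right.trans ?_
    rw [cj_normalizer]
    have : cj h A = C := hh
    rw [this]
  obtain ⟨x, hxN, hxU⟩ := exists_cj_le_of_relIndex hRp hext hUN hUp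
  -- decompose x inside the group NC
  have hidx : ¬ p ∣ (R.subgroupOf NC).index := hext
  obtain ⟨r, hr, m, hm, hxrm⟩ := exists_mul_pResidual (R.subgroupOf NC) hidx ⟨x, hxN⟩
  have hrR : (r : G) ∈ R := mem_subgroupOf.mp hr
  have hx' : x = (r : G) * (m : G) := by
    have := congrArg Subtype.val hxrm
    simpa using this
  have hmU : cj (m : G) U ≤ R := by
    rw [hx', cj_mul, cj_le_iff] at hxU
    have : cj (r : G)⁻¹ R = R := cj_eq_self_of_mem (R.inv_mem hrR)
    rwa [this] at hxU
  refine ⟨(m : G) * h, ?_, ?_, ?_⟩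
  · change cj ((m : G) * h) A = C
    rw [cj_mul]
    have : cj h A = C := hh
    rw [this]
    exact cj_eq_self_of_mem_normalizer m.2
  · change cj ((m : G) * h) _ ≤ _
    rw [cj_mul]
    exact hmU
  · refine ⟨m⁻¹, Subgroup.inv_mem _ hm, ?_⟩
    simp

end Cfsg.Agent.S2014
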