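import Cfsg.Statements.S2037
import Cfsg.Agent.S0376
import Cfsg.Agent.Lib.Helper26_M24Orbit
import Cfsg.Agent.Lib.Helper8_StemTwo

set_option autoImplicit false
open Cfsg
open Cfsg.Agent.Lib.Helper26_Golay
open Cfsg.Agent.Lib.Helper66_Stem
open Cfsg.Agent.Lib.Helper8_StemTwo

namespace Cfsg.Agent.S2037

/-! ### The tables

Points `0, …, 22` are the residues modulo 23 and `23` is the extra point.  The octad
`{0, 1, 2, 3, 5, 14, 17, ∞}` is fixed pointwise by the elementary abelian group `E` of order 16 with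
elements `0, …, 15` (the index is the coordinate vector); `16` is an element `c` of order three
acting as a 3-cycle on the octad, `17, 18` are involutions `s, t` generating a dihedral group of
order eight normalising `E` and `⟨c⟩`; `18 + v` conjugates the element `1` of `E` to the element
`v`; `34, 35, 36` conjugate it to `s`, `t`, `(s t)²`; `37, 38` are an element of order three commuting
with `c` and an involution centralising `c` and inverting it; `39, …, 42` have orders 5, 7, 11, 23. -/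

/-- the identity table -/
def idT : ℕ := 0xbdab49ca307b9ac5a928398a418820

/-- the list of tables -/
def tblList : List ℕ := [
    0xbdab49ca307b9ac5a928398a418820,
    0xb9e086be3593a6952d94b10a618820,
    0xb99b28523343aaa4b16f258a718820,
    0xb926faa22da3a0b6255231cb618820,
    0xbc92655a2c3b9706cea47d0a818820,
    0xbbd8459e29b39559b606920b418820,
    0xbd17661a2a23933ac1a7448af18820,
    0xba1474922b3398d85676a3cb218820,
    0xba91094e346b9e63d8955b0a918820,
    0xbae957b6289ba44b1cd0524ac18820,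
    0xbb1f3a4232ab916218ed4a8ab18820,
    0xba64d4562f83a87312d362caa18820,
    0xbcc8cb2a265b8f47c9096c0b518820,
    0xbb4c93ae2453ac893e8c9d4b018820,
    0xbc0ea332364b892451ebaccad18820,
    0xbd6cb22627638cfa224a834b318820,
    0xbc1669262dabaca79e74620a418041,
    0xbc16a94e3678da6ad127430a470801,
    0xbd8cf3b1d0a45b24254b9d46428820,
    0xba6b6a29d05c50d93e6761066008a1,
    0xbb1e93b628a9496950cb54c5003861,
    0xbcaaa6405368574259e941867880ae,
    0xbb6684c82ab16a7a19e45c06c70222,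
    0xbd21269869439559ad87258af88801,
    0xbb48a92c0fa88c7a59104ccac0ba23,
    0xbcdb6518ac78ab23d0884c06b03831,
    0xbbe69521d2a82d4332046ac2711623,
    0xbca74b106f605668213569c0a2ba22,
    0xbb0eba49c98166f32aa4b200d88c41,
    0xbad072401378949acacc351cd09471,
    0xbd4cf9a0104c6d45498b23447195c1,
    0xb9d445d40f33a49622909b43611471,
    0xb9e46b28aca3a0442db3aa46f00451,
    0xbda0ca3447339739248faa0aa18031,
    0xbcc68518ae61281b40079562b13d2d,
    0xba56f3460875aa793274515a308044,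
    0xba1435cc54a824531e2e63ec98048d,
    0xbd9eca1a3058db3ac9074a9c428041,
    0xbc00651c8d13ad20a5949a0712aeaf,
    0xbba8ab116d7c52899d90286a219a40,
    0xba073252b0345e13d96e91449531a0,
    0xbd6717b56939461b52507314831040,
    0xb82d5a4e5183dcd62d4941cc520c41]

/-- the `k`-th table -/
def tbl (k : ℕ) : ℕ := tblList.getD k idT

/-- the action of `c`, `s`, `t` on `E` -/
def cm (v : ℕ) : ℕ := ([0, 4, 9, 13, 5, 1, 12, 8, 15, 11, 6, 2, 10, 14, 3, 7] : List ℕ).getD v 0
def sm (v : ℕ) : ℕ := ([0, 9, 4, 13, 2, 11, 6, 15, 8, 1, 12, 5, 10, 3, 14, 7] : List ℕ).getD v 0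
def tm (v : ℕ) : ℕ := ([0, 12, 15, 3, 10, 6, 5, 9, 11, 7, 4, 8, 1, 13, 14, 2] : List ℕ).getD v 0

/-- the check that a table describes an element of the group -/
def inG (T : ℕ) : Bool := tblInM24 T && (img T 23 == 23)

theorem tables_in : allFold (fun k => inG (tbl k)) 43 = true := by decide +kernel

theorem idT_in : inG idT = true := by decide +kernel

theorem tbl_in (k : ℕ) : inG (tbl k) = true := by
  by_cases hk : k < 43
  · exact (allFold_eq_true _ _).mp tables_in k hk
  · have : tbl k = idT := by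
      unfold tbl
      apply List.getD_eq_default
      simp only [tblList, List.length_cons, List.length_nil]
      omega
    rw [this]; exact idT_in

theorem mem_M23_iff (g : Equiv.Perm GolayPt) :
    g ∈ Cfsg.Spor.M23 ↔ g ∈ M24 ∧ g (none : GolayPt) = none := by
  unfold Cfsg.Spor.M23
  rw [Subgroup.mem_inf]
  constructor
  · rintro ⟨h1, h2⟩
    exact ⟨h1, MulAction.mem_stabilizer_iff.mp h2⟩
  · rintro ⟨h1, h2⟩
    exact ⟨h1, MulAction.mem_stabilizer_iff.mpr h2⟩

theorem exists_of_inG {T : ℕ} (h : inG T = true) : ∃ σ ∈ Cfsg.Spor.M23, Represents σ T := by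
  unfold inG at h
  rw [Bool.and_eq_true, beq_iff_eq] at h
  obtain ⟨σ, hσ, hT⟩ := exists_of_tblInM24 h.1
  refine ⟨σ, (mem_M23_iff σ).mpr ⟨hσ, ?_⟩, hT⟩
  apply idx_injective
  have := hT (none : GolayPt)
  have e0 : idx (none : GolayPt) = 23 := rfl
  rw [e0] at this
  rw [this, h.2, e0]

/-- the element of the group with the `k`-th table -/
noncomputable def gk (k : ℕ) : ↥Cfsg.Spor.M23 :=
  ⟨(exists_of_inG (tbl_in k)).choose, (exists_of_inG (tbl_in k)).choose_spec.1⟩

theorem gk_rep (k : ℕ) : Represents (gk k).1 (tbl k) :=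
  (exists_of_inG (tbl_in k)).choose_spec.2

/-- the element of the group given by a word in the tables -/
noncomputable def gw (w : List ℕ) : ↥Cfsg.Spor.M23 := (w.map gk).prod

/-- the image of a point under a word -/
def evalW (w : List ℕ) (x : ℕ) : ℕ := w.foldr (fun k acc => img (tbl k) acc) x

theorem gw_nil : gw [] = 1 := rfl

theorem gw_cons (k : ℕ) (w : List ℕ) : gw (k :: w) = gk k * gw w := by
  unfold gw; rw [List.map_cons, List.prod_cons]

theorem gw_append (u v : List ℕ) : gw u * gw v = gw (u ++ v) := by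
  unfold gw; rw [List.map_append, List.prod_append]

theorem gw_rep (w : List ℕ) (p : GolayPt) : idx ((gw w).1 p) = evalW w (idx p) := by
  induction w with
  | nil => rfl
  | cons k w ih =>
    rw [gw_cons]
    show idx ((gk k).1 ((gw w).1 p)) = img (tbl k) (evalW w (idx p))
    rw [gk_rep k, ih]

/-- the check that two words describe the same permutation -/
def eqW (u v : List ℕ) : Bool := allFold (fun x => evalW u x == evalW v x) 24

/-- the check that two words describe different permutations -/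
def neW (u v : List ℕ) : Bool := !eqW u v

theorem gw_eq {u v : List ℕ} (h : eqW u v = true) : gw u = gw v := by
  unfold eqW at h
  rw [allFold_eq_true] at h
  apply Subtype.ext
  apply Equiv.ext
  intro p
  apply idx_injective
  rw [gw_rep, gw_rep]
  exact beq_iff_eq.mp (h _ (idx_lt p))

theorem gw_ne {u v : List ℕ} (h : neW u v = true) : gw u ≠ gw v := by
  intro he
  unfold neW at h
  rw [Bool.not_eq_true'] at h
  have : eqW u v = true := by
    unfold eqW
    rw [allFold_eq_true]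
    intro x hx
    rw [beq_iff_eq]
    have h1 := gw_rep u (pt x)
    have h2 := gw_rep v (pt x)
    rw [idx_pt x hx] at h1 h2
    rw [← h1, ← h2, he]
  rw [this] at h
  exact Bool.noConfusion h

/-- repeat a word -/
def rep : ℕ → List ℕ → List ℕ
  | 0, _ => []
  | n + 1, w => rep n w ++ w

theorem gw_pow (w : List ℕ) (n : ℕ) : gw w ^ n = gw (rep n w) := by
  induction n with
  | zero => rfl
  | succ n ih => rw [pow_succ, ih, gw_append]; rfl

/-- from `g e0 = e g` to `g e0 g⁻¹ = e` -/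
theorem conj_of_words {u e0 e : List ℕ} (h : eqW (u ++ e0) (e ++ u) = true) :
    gw u * gw e0 * (gw u)⁻¹ = gw e := by
  rw [gw_append, gw_eq h, ← gw_append]
  group

/-! ### The checks -/

theorem chk_E : allFold (fun v => allFold (fun w => eqW [v, w] [v ^^^ w] &&
    (v == w || neW [v] [w])) 16) 16 = true := by decide +kernel

theorem chk_one : eqW [0] [] = true := by decide +kernel

theorem chk_conjE : allFold (fun v => v == 0 || eqW [18 + v, 1] [v, 18 + v]) 16 = true := by
  decide +kernel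

theorem chk_c : allFold (fun v => eqW [16, v] [cm v, 16] && decide (cm v < 16) &&
    (v == 0 || neW [cm v] [v])) 16 = true := by decide +kernel

theorem chk_s : allFold (fun v => eqW [17, v] [sm v, 17] && decide (sm v < 16)) 16 = true := by
  decide +kernel

theorem chk_t : allFold (fun v => eqW [18, v] [tm v, 18] && decide (tm v < 16)) 16 = true := by
  decide +kernel

theorem chk_misc : eqW [16, 16, 16] [] = true ∧ eqW [34, 1] [17, 34] = true ∧
    eqW [35, 1] [18, 35] = true ∧ eqW [36, 1] [17, 18, 17, 18, 36] = true ∧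
    eqW [16, 17, 16] [17] = true ∧ eqW [18, 16] [16, 18] = true ∧ neW [1] [] = true ∧
    eqW [1, 1] [] = true := by decide +kernel

theorem chk_fix : allFold (fun v => v == 0 || !(img (tbl v) 4 == 4)) 16 = true ∧
    img (tbl 17) 4 = 4 ∧ img (tbl 18) 4 = 4 := by decide +kernel

theorem chk_odd : neW [16] [] = true ∧ eqW [37, 37, 37] [] = true ∧ neW [37, 37] [] = true ∧
    eqW [16, 37] [37, 16] = true ∧ eqW [38, 16] [16, 38] = true ∧
    eqW [38, 37] [37, 37, 38] = true ∧
    eqW (rep 5 [39]) [] = true ∧ neW [39] [] = true ∧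
    eqW (rep 7 [40]) [] = true ∧ neW [40] [] = true ∧
    eqW (rep 11 [41]) [] = true ∧ neW [41] [] = true ∧
    eqW (rep 23 [42]) [] = true ∧ neW [42] [] = true := by decide +kernel

/-! ### The group `E` -/

theorem hEmul : ∀ v < 16, ∀ w < 16, eqW [v, w] [v ^^^ w] = true ∧ (v = w ∨ neW [v] [w] = true) := by
  intro v hv w hw
  have h := (allFold_eq_true _ _).mp ((allFold_eq_true _ _).mp chk_E v hv) w hw
  rw [Bool.and_eq_true, Bool.or_eq_true, beq_iff_eq] at h
  exact h

theorem gw_zero : gw [0] = 1 := by rw [gw_eq chk_one]; rfl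

theorem gw_mul_E {v w : ℕ} (hv : v < 16) (hw : w < 16) : gw [v] * gw [w] = gw [v ^^^ w] := by
  rw [gw_append]; exact gw_eq (hEmul v hv w hw).1

theorem gw_sq_E {v : ℕ} (hv : v < 16) : gw [v] * gw [v] = 1 := by
  rw [gw_mul_E hv hv, Nat.xor_self, gw_zero]

theorem xor_lt {v w : ℕ} (hv : v < 16) (hw : w < 16) : v ^^^ w < 16 :=
  Nat.xor_lt_two_pow (n := 4) hv hw

/-- the elementary abelian group of order 16 fixing the octad pointwise -/
noncomputable def E : Subgroup ↥Cfsg.Spor.M23 where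
  carrier := {g | ∃ v < 16, g = gw [v]}
  one_mem' := ⟨0, by norm_num, gw_zero.symm⟩
  mul_mem' := by
    rintro _ _ ⟨v, hv, rfl⟩ ⟨w, hw, rfl⟩
    exact ⟨v ^^^ w, xor_lt hv hw, gw_mul_E hv hw⟩
  inv_mem' := by
    rintro _ ⟨v, hv, rfl⟩
    exact ⟨v, hv, inv_eq_self_of_sq (gw_sq_E hv)⟩

theorem mem_E {g : ↥Cfsg.Spor.M23} : g ∈ E ↔ ∃ v < 16, g = gw [v] := Iff.rfl

theorem gw_inj_E {v w : ℕ} (hv : v < 16) (hw : w < 16) (h : gw [v] = gw [w]) : v = w := by
  rcases (hEmul v hv w hw).2 with h1 | h1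
  · exact h1
  · exact absurd h (gw_ne h1)

theorem card_E : Nat.card ↥E = 16 := by
  have e : Fin 16 ≃ ↥E := Equiv.ofBijective
    (fun v => (⟨gw [v.1], ⟨v.1, v.2, rfl⟩⟩ : ↥E)) ⟨?_, ?_⟩
  · rw [← Nat.card_congr e, Nat.card_fin]
  · intro v w h
    exact Fin.ext (gw_inj_E v.2 w.2 (congrArg Subtype.val h))
  · rintro ⟨_, v, hv, rfl⟩
    exact ⟨⟨v, hv⟩, rfl⟩

/-- the conjugators -/
theorem conj_E {v : ℕ} (hv : v < 16) (hv0 : v ≠ 0) : ∃ g, g * gw [1] * g⁻¹ = gw [v] := by
  have h := (allFold_eq_true _ _).mp chk_conjE v hv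
  rw [Bool.or_eq_true, beq_iff_eq] at h
  rcases h with h | h
  · exact absurd h hv0
  · exact ⟨gw [18 + v], conj_of_words (u := [18 + v]) (e0 := [1]) (e := [v]) h⟩

theorem hEconj : ∀ e ∈ E, e = 1 ∨ ∃ g, g * gw [1] * g⁻¹ = e := by
  rintro _ ⟨v, hv, rfl⟩
  by_cases hv0 : v = 0
  · left; rw [hv0, gw_zero]
  · right; exact conj_E hv hv0

theorem hcE_aux {v : ℕ} (hv : v < 16) :
    gw [16] * gw [v] * (gw [16])⁻¹ = gw [cm v] ∧ cm v < 16 ∧ (v = 0 ∨ gw [cm v] ≠ gw [v]) := by
  have h := (allFold_eq_true _ _).mp chk_c v hv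
  rw [Bool.and_eq_true, Bool.and_eq_true, decide_eq_true_eq, Bool.or_eq_true, beq_iff_eq] at h
  refine ⟨conj_of_words (u := [16]) (e0 := [v]) (e := [cm v]) h.1.1, h.1.2, ?_⟩
  rcases h.2 with h2 | h2
  · exact Or.inl h2
  · exact Or.inr (gw_ne h2)

theorem hsE_aux {v : ℕ} (hv : v < 16) :
    gw [17] * gw [v] * (gw [17])⁻¹ = gw [sm v] ∧ sm v < 16 := by
  have h := (allFold_eq_true _ _).mp chk_s v hv
  rw [Bool.and_eq_true, decide_eq_true_eq] at h
  exact ⟨conj_of_words (u := [17]) (e0 := [v]) (e := [sm v]) h.1, h.2⟩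

theorem htE_aux {v : ℕ} (hv : v < 16) :
    gw [18] * gw [v] * (gw [18])⁻¹ = gw [tm v] ∧ tm v < 16 := by
  have h := (allFold_eq_true _ _).mp chk_t v hv
  rw [Bool.and_eq_true, decide_eq_true_eq] at h
  exact ⟨conj_of_words (u := [18]) (e0 := [v]) (e := [tm v]) h.1, h.2⟩

/-- the stabiliser of the point `4` -/
def P4 : Subgroup ↥Cfsg.Spor.M23 where
  carrier := {g | (g : Equiv.Perm GolayPt) (pt 4) = pt 4}
  one_mem' := rfl
  mul_mem' := by
    intro a b ha hb
    show (a : Equiv.Perm GolayPt) ((b : Equiv.Perm GolayPt) (pt 4)) = pt 4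
    rw [hb, ha]
  inv_mem' := by
    intro a ha
    show (a : Equiv.Perm GolayPt)⁻¹ (pt 4) = pt 4
    rw [Equiv.Perm.inv_eq_iff_eq]; exact ha.symm

theorem gw_mem_P4 (k : ℕ) : gw [k] ∈ P4 ↔ img (tbl k) 4 = 4 := by
  show (gw [k]).1 (pt 4) = pt 4 ↔ _
  have h := gw_rep [k] (pt 4)
  rw [idx_pt 4 (by norm_num)] at h
  constructor
  · intro h1
    rw [h1, idx_pt 4 (by norm_num)] at h
    exact h.symm
  · intro h1
    apply idx_injective
    rw [h, idx_pt 4 (by norm_num)]
    exact h1

theorem card_M23 : Nat.card ↥Cfsg.Spor.M23 = 10200960 := by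
  have h := Cfsg.Agent.S0376.result (none : GolayPt)
  have e : ↥Cfsg.Spor.M23 ≃ ↥(MulAction.stabilizer ↥M24 (none : GolayPt)) :=
    { toFun := fun x => ⟨⟨x.1, ((mem_M23_iff x.1).mp x.2).1⟩, by
        rw [MulAction.mem_stabilizer_iff]
        exact ((mem_M23_iff x.1).mp x.2).2⟩
      invFun := fun y => ⟨y.1.1, (mem_M23_iff y.1.1).mpr ⟨y.1.2, by
        have := y.2
        rw [MulAction.mem_stabilizer_iff] at this
        exact this⟩⟩
      left_inv := fun x => rfl
      right_inv := fun y => rfl }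
  rw [Nat.card_congr e, h]

theorem finite_M23 : Finite ↥Cfsg.Spor.M23 :=
  Nat.finite_of_card_ne_zero (by rw [card_M23]; norm_num)

/-! ### The 2-part -/

theorem hs2 : gw [17] * gw [18] * (gw [17] * gw [18]) = gw [17, 18, 17, 18] := by
  rw [gw_append, gw_append]; rfl

theorem hET : ∀ u ∈ E, u ∈ Subgroup.closure ({gw [17] * gw [18], gw [17]} : Set ↥Cfsg.Spor.M23) →
    u = 1 := by
  rintro _ ⟨v, hv, rfl⟩ hu
  obtain ⟨f1, f2, f3⟩ := chk_fix
  have h17 : gw [17] ∈ P4 := (gw_mem_P4 17).mpr f2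
  have h18 : gw [18] ∈ P4 := (gw_mem_P4 18).mpr f3
  have hle : Subgroup.closure ({gw [17] * gw [18], gw [17]} : Set ↥Cfsg.Spor.M23) ≤ P4 := by
    rw [Subgroup.closure_le]
    rintro x (rfl | hx)
    · exact P4.mul_mem h17 h18
    · rw [Set.mem_singleton_iff] at hx; subst hx; exact h17
  have h4 := (gw_mem_P4 v).mp (hle hu)
  have h := (allFold_eq_true _ _).mp f1 v hv
  rw [Bool.or_eq_true, beq_iff_eq, Bool.not_eq_true', beq_eq_false_iff_ne] at h
  rcases h with h | h
  · rw [h, gw_zero]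
  · exact absurd h4 h

theorem two_part {Γ : Type} [Group Γ] [Finite Γ] (σ : Γ →* ↥Cfsg.Spor.M23)
    (hσ : IsStemExtension σ) (hexp : ∀ a ∈ σ.ker, a * a = 1) (a : Γ) (ha : a ∈ σ.ker) :
    a ^ 79695 = 1 := by
  have hfin := finite_M23
  obtain ⟨m1, m2, m3, m4, m5, m6, m7, m8⟩ := chk_misc
  have e12 : gw [1] * gw [2] = gw [3] := gw_mul_E (by norm_num) (by norm_num)
  have e14 : gw [1] * gw [4] = gw [5] := gw_mul_E (by norm_num) (by norm_num)
  have e24 : gw [2] * gw [4] = gw [6] := gw_mul_E (by norm_num) (by norm_num)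
  have e124 : gw [1] * (gw [2] * gw [4]) = gw [7] := by
    rw [e24]; exact gw_mul_E (by norm_num) (by norm_num)
  have hsc : gw [17] * gw [16] * (gw [17])⁻¹ = (gw [16])⁻¹ := by
    have h : gw [16] * gw [17] * gw [16] = gw [17] := by
      rw [gw_append, gw_append]; exact gw_eq m5
    rw [mul_inv_eq_iff_eq_mul, eq_inv_mul_iff_mul_eq, ← mul_assoc]
    exact h
  have htc : gw [18] * gw [16] * (gw [18])⁻¹ = gw [16] := by
    rw [mul_inv_eq_iff_eq_mul, gw_append, gw_append]
    exact gw_eq m6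
  have hss : gw [17] * gw [17] = 1 := by
    obtain ⟨g, hg⟩ : ∃ g, g * gw [1] * g⁻¹ = gw [17] :=
      ⟨gw [34], conj_of_words (u := [34]) (e0 := [1]) (e := [17]) m2⟩
    have h1 : gw [1] * gw [1] = 1 := gw_sq_E (by norm_num)
    rw [← hg]
    calc g * gw [1] * g⁻¹ * (g * gw [1] * g⁻¹) = g * (gw [1] * gw [1]) * g⁻¹ := by group
      _ = 1 := by rw [h1]; group
  have htt : gw [18] * gw [18] = 1 := by
    obtain ⟨g, hg⟩ : ∃ g, g * gw [1] * g⁻¹ = gw [18] :=
      ⟨gw [35], conj_of_words (u := [35]) (e0 := [1]) (e := [18]) m3⟩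
    have h1 : gw [1] * gw [1] = 1 := gw_sq_E (by norm_num)
    rw [← hg]
    calc g * gw [1] * g⁻¹ * (g * gw [1] * g⁻¹) = g * (gw [1] * gw [1]) * g⁻¹ := by group
      _ = 1 := by rw [h1]; group
  have hrconj : ∃ g, g * gw [1] * g⁻¹ = gw [17] * gw [18] * (gw [17] * gw [18]) := by
    rw [hs2]
    exact ⟨gw [36], conj_of_words (u := [36]) (e0 := [1]) (e := [17, 18, 17, 18]) m4⟩
  have he0ne : gw [1] ≠ 1 := by
    rw [← gw_nil]; exact gw_ne m7
  have hr2 : gw [17] * gw [18] * (gw [17] * gw [18]) ≠ 1 := by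
    obtain ⟨g, hg⟩ := hrconj
    rw [← hg]
    intro h
    apply he0ne
    have : g * gw [1] * g⁻¹ = g * 1 * g⁻¹ := by rw [h]; group
    exact mul_left_cancel (mul_right_cancel this)
  have hr4 : gw [17] * gw [18] * (gw [17] * gw [18]) *
      (gw [17] * gw [18] * (gw [17] * gw [18])) = 1 := by
    obtain ⟨g, hg⟩ := hrconj
    have h1 : gw [1] * gw [1] = 1 := gw_sq_E (by norm_num)
    rw [← hg]
    calc g * gw [1] * g⁻¹ * (g * gw [1] * g⁻¹) = g * (gw [1] * gw [1]) * g⁻¹ := by group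
      _ = 1 := by rw [h1]; group
  have hsE : ∀ e ∈ E, gw [17] * e * (gw [17])⁻¹ ∈ E := by
    rintro _ ⟨v, hv, rfl⟩
    exact ⟨sm v, (hsE_aux hv).2, (hsE_aux hv).1⟩
  have htE : ∀ e ∈ E, gw [18] * e * (gw [18])⁻¹ ∈ E := by
    rintro _ ⟨v, hv, rfl⟩
    exact ⟨tm v, (htE_aux hv).2, (htE_aux hv).1⟩
  have h := pow_index_eq_one σ hσ hexp E (gw [1]) (gw [1]) (gw [2]) (gw [4])
    (gw_sq_E (by norm_num)) he0ne
    (conj_E (by norm_num) (by norm_num)) (conj_E (by norm_num) (by norm_num))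
    (conj_E (by norm_num) (by norm_num))
    (by rw [e12]; exact conj_E (by norm_num) (by norm_num))
    (by rw [e14]; exact conj_E (by norm_num) (by norm_num))
    (by rw [e24]; exact conj_E (by norm_num) (by norm_num))
    (by rw [e124]; exact conj_E (by norm_num) (by norm_num))
    hEconj (gw [16])
    (by rw [gw_append, gw_append]; exact gw_eq m1)
    (by
      rintro _ ⟨v, hv, rfl⟩
      exact ⟨cm v, (hcE_aux hv).2.1, (hcE_aux hv).1⟩)
    (by
      rintro _ ⟨v, hv, rfl⟩ hfix
      rw [(hcE_aux hv).1] at hfix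
      rcases (hcE_aux hv).2.2 with h0 | h0
      · rw [h0, gw_zero]
      · exact absurd hfix h0)
    (gw [17]) (gw [18])
    ⟨gw [34], conj_of_words (u := [34]) (e0 := [1]) (e := [17]) m2⟩
    ⟨gw [35], conj_of_words (u := [35]) (e0 := [1]) (e := [18]) m3⟩
    hrconj hsE htE (Or.inr hsc) (Or.inl htc) hET a ha
  have hcard := card_sup_dihedral E (gw [17]) (gw [18]) hss htt hr4 hr2 hsE htE hET
  rw [card_E] at hcard
  have hidx := Subgroup.card_mul_index
    (E ⊔ Subgroup.closure ({gw [17] * gw [18], gw [17]} : Set ↥Cfsg.Spor.M23))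
  rw [hcard, card_M23] at hidx
  have : (E ⊔ Subgroup.closure ({gw [17] * gw [18], gw [17]} : Set ↥Cfsg.Spor.M23)).index
      = 79695 := by omega
  rw [this] at h
  exact h

/-! ### The odd part -/

theorem odd_part {Γ : Type} [Group Γ] [Finite Γ] (σ : Γ →* ↥Cfsg.Spor.M23)
    (hσ : IsStemExtension σ) (a : Γ) (ha : a ∈ σ.ker) : a ^ (2 ^ 7) = 1 := by
  have hfin := finite_M23
  obtain ⟨c1, c2, c3, c4, c5, c6, c7, c8, c9, c10, c11, c12, c13, c14⟩ := chk_odd
  obtain ⟨m1, -⟩ := chk_misc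
  have : Fact (Nat.Prime 5) := ⟨by norm_num⟩
  have : Fact (Nat.Prime 7) := ⟨by norm_num⟩
  have : Fact (Nat.Prime 11) := ⟨by norm_num⟩
  have : Fact (Nat.Prime 23) := ⟨by norm_num⟩
  have pw : ∀ (k n : ℕ), eqW (rep n [k]) [] = true → gw [k] ^ n = 1 := by
    intro k n h
    rw [gw_pow, gw_eq h, gw_nil]
  have ne1 : ∀ w : List ℕ, neW w [] = true → gw w ≠ 1 := by
    intro w h
    rw [← gw_nil]; exact gw_ne h
  have h3 := pow_eq_one_of_nine σ hσ (gw [16]) (gw [37]) (gw [38])
    (pw 16 3 m1) (ne1 _ c1) (pw 37 3 c2)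
    (by rw [gw_pow]; exact ne1 _ c3)
    (by rw [gw_append, gw_append]; exact gw_eq c4)
    (by rw [gw_append, gw_append]; exact gw_eq c5)
    (by rw [gw_pow, gw_append, gw_append]; exact gw_eq c6) a ha
  have h5 := pow_eq_one_of_prime σ hσ 5 (gw [39]) (pw 39 5 c7) (ne1 _ c8) a ha
  have h7 := pow_eq_one_of_prime σ hσ 7 (gw [40]) (pw 40 7 c9) (ne1 _ c10) a ha
  have h11 := pow_eq_one_of_prime σ hσ 11 (gw [41]) (pw 41 11 c11) (ne1 _ c12) a ha
  have h23 := pow_eq_one_of_prime σ hσ 23 (gw [42]) (pw 42 23 c13) (ne1 _ c14) a ha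
  rw [card_M23] at h3 h5 h7 h11 h23
  have d3 := orderOf_dvd_of_pow_eq_one h3
  have d5 := orderOf_dvd_of_pow_eq_one h5
  have d7 := orderOf_dvd_of_pow_eq_one h7
  have d11 := orderOf_dvd_of_pow_eq_one h11
  have d23 := orderOf_dvd_of_pow_eq_one h23
  have d := Nat.dvd_gcd (Nat.dvd_gcd (Nat.dvd_gcd d3 d5) (Nat.dvd_gcd d7 d11)) d23
  norm_num at d
  exact orderOf_dvd_iff_pow_eq_one.mp (by norm_num; exact d)


/-- The Schur multiplier of the Mathieu group M₂₃ (the stabiliser of a point in the automorphism group of the length-24 binary code) is trivial; here the Schur multiplier is described through stem extensions, as in the definitions: surjective homomorphisms onto the group from a finite group, whose kernel is central in that finite group and contained in that finite group's commutator subgroup. -/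
theorem result : Cfsg.HasCyclicSchurMultiplier ↥Cfsg.Spor.M23 1 := by
  have hfin := finite_M23
  apply hasCyclicSchurMultiplier_one
  intro Γ _ _ σ hσ
  apply ker_eq_bot_of_exponent_two σ hσ 7 (odd_part σ hσ)
  intro Γ' _ _ σ' hσ' hexp
  rw [eq_bot_iff]
  intro a ha
  rw [Subgroup.mem_bot]
  have h := two_part σ' hσ' hexp a ha
  have e : a ^ 79695 = a := by
    rw [show 79695 = 2 * 39847 + 1 from rfl, pow_succ, pow_mul, pow_two, hexp a ha, one_pow,
      one_mul]
  rw [e] at h
  exact h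

end Cfsg.Agent.S2037
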