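import Cfsg.Statements.S2038
import Cfsg.Agent.S0364
import Cfsg.Agent.Lib.Helper26_M24Orbit
import Cfsg.Agent.Lib.Helper8_StemThree

set_option autoImplicit false
open Cfsg
open Cfsg.Agent.Lib.Helper26_Golay
open Cfsg.Agent.Lib.Helper66_Stem
open Cfsg.Agent.Lib.Helper8_StemTwo
open Cfsg.Agent.Lib.Helper8_StemThree
open scoped commutatorElement

namespace Cfsg.Agent.S2038

/-! ### The tables

Points `0, …, 22` are the residues modulo 23 and `23` is the extra point.  The tables `0, …, 63`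
are the elements of the elementary abelian group `E` of order 64 fixing each of the six tetrads of
a sextet (the index is the coordinate vector); `64` is an element `c` of order three of the kernel
of the action on the tetrads, acting on `E` without fixed points; `65, 66, 67` are involutions
`s, t, u` generating a group `D₈ × C₂` normalising `E` and `⟨c⟩`; `67 + v` conjugates the element
`1` or `21` of `E` (according to its class) to the element `v`; `131, …, 136` conjugate one of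
these two to `s, t, u, (s t)², u s, u t`; `137, 138` are elements `x, y` of order three generating an
extraspecial group of order 27 with centre `⟨c⟩`, and `139` is an involution inverting `x` and `y`;
`140, …, 143` have orders 5, 7, 11, 23. -/

/-- the identity table -/
def idT : ℕ := 0xbdab49ca307b9ac5a928398a418820

/-- the list of tables -/
def tblList : List ℕ := [
    0xbdab49ca307b9ac5a928398a418820,
    0x8adb2452ef816acb28d33a5c418820,
    0x71a4d7d4a89de8c4a9703da2418820,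
    0x2a695835d34464c32acf3aee418820,
    0xb99b28523343aaa4b16f258a718820,
    0x8a6b47cae8995aa332d022dc718820,
    0x75a95434af85e4a5b13321a2718820,
    0x2ae4d9d5d07c68ab30c8226e718820,
    0xba64d4562f83a87312d362caa18820,
    0x89a959b6f07964749168659ca18820,
    0x72eb4848b345da7b10cf6262a18820,
    0x2d9b27d1c89c6a75913061aea18820,
    0xbae957b6289ba44b1cd0524ac18820,
    0x8da4d856f34168459d2f519cc18820,
    0x725b29d0b07dea431ec852e2c18820,
    0x29ab4449cf845a449d7355aec18820,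
    0xbae4d8563343a8cb28cf3a4a410c01,
    0x8da957b6e89964c5a930399c410c01,
    0x726b4448af85dac32ad33ae2410c01,
    0x299b29d1d07c6ac4a9683dae410c01,
    0xba6959b6307ba4a332c822ca710c01,
    0x89a4d456ef8168a4b173259c710c01,
    0x72db27d0a89deaab30d02262710c01,
    0x2dab4849d3445aa5b12f21ae710c01,
    0xb9ab47ca289b9a749170658aa10c01,
    0x8a5b2852f3416a7312cf62dca10c01,
    0x75a4d9d4b07de875912861a2a10c01,
    0x2ae95435cf84647b10d3626ea10c01,
    0xbd9b24522f83aa459d33518ac10c01,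
    0x8aeb49caf0795a4b1cc8525cc10c01,
    0x71a95834b345e4449d6f55a2c10c01,
    0x2a64d7d5c89c68431ed052eec10c01,
    0xba5b27d2289baac32ad03aca408062,
    0x89ab484af3415ac4a96f3d9c408062,
    0x72e959b4b07de4cb28c83a62408062,
    0x2da4d455cf8468c5a93339ae408062,
    0xbaeb444a2f839aab30d3224a708062,
    0x8d9b29d2f0796aa5b128219c708062,
    0x7264d854b345e8a332cf22e2708062,
    0x29a957b5c89c64a4b17025ae708062,
    0xbda958363343a475912f618aa08062,
    0x8ae4d7d6e899687b10d0625ca08062,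
    0x719b2450af85ea74917365a2a08062,
    0x2a6b49c9d07c5a7312c862eea08062,
    0xb9a4d9d6307ba8449d68558ac08062,
    0x8a695436ef8164431ed352dcc08062,
    0x75ab47c8a89dda459d3051a2c08062,
    0x2adb2851d3446a4b1ccf526ec08062,
    0xb9a954362f83a4c4a9733d8a400443,
    0x8a64d9d6f07968c32ac83adc400443,
    0x759b2850b345eac5a92f39a2400443,
    0x2aeb47c9c89c5acb28d03a6e400443,
    0xbda4d7d6289ba8a5b130218a700443,
    0x8ae95836f34164ab30cf225c700443,
    0x71ab49c8b07ddaa4b16825a2700443,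
    0x2a5b2451cf846aa332d322ee700443,
    0xbadb29d2307baa7b10c8624aa00443,
    0x8dab444aef815a759133619ca00443,
    0x726957b4a89de47312d062e2a00443,
    0x29a4d855d3446874916f65aea00443,
    0xba6b484a33439a431ecf52cac00443,
    0x899b27d2e8996a449d70559cc00443,
    0x72e4d454af85e84b1cd35262c00443,
    0x2da959b5d07c64459d2851aec00443,
    0x2a5b47d6f383a4ab1d6861a2418402,
    0x2ae540d620139aab312339ae443e70,
    0xbd9e894e2daba0258534018a323147,
    0xb5e547d530999aa2b2283b96418440,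
    0x6b9285ceb07dcc02b2565522221c23,
    0x8b573b3ca885523a11c655e4261c20,
    0x5ca69a58ce8a20a69cb50dde260c80,
    0xa4cf54364b4b085838cf1594088ee1,
    0x8da1353ee43b9014816c198a2955b4,
    0x3a18d2c88f851469add115ea30a416,
    0x8a64469dca62eb3300b41decf08a08,
    0x858935a1f46b1514dea6148e1281c3,
    0x745ac21cb5a1a53b896a026d043c23,
    0x2458fb215774ce22812ba1a1590da1,
    0xaaa97415a764656219f00cdc01ac49,
    0x3ad936bd4934097b3ab2151000c465,
    0x84aee6166a3a222a81a40d1e3326cb,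
    0x2168772989b564088577999a81406f,
    0x49cacb11707cef450a26ab90168c12,
    0xb511314161025f76baa38c8c521d4c,
    0x28c2f94dd1bd40612a0db228462567,
    0xb2ca01052ebbe2a33503a4e0461e55,
    0x69a43b8aab48288b4e252382c53cf0,
    0x106aa3b0726da90038c4bad2f9a225,
    0x8da1353ee43b9014816c198a2955b4,
    0xb511314161025f76baa38c8c521d4c,
    0x13028bbc643c015549c534669b516d,
    0x4becc01d70428c59b84168c92ac697,
    0x3166f141610590a892e363927952ad,
    0xb46e3dc12ac44fa414c490b65a0d3,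
    0x7412b69a34a96cc99d1223eea10c01,
    0xabc670a9ac22056816407526b8dd26,
    0x314115dd275103572076a09906be72,
    0xb0d87b90c58ad530402e78928ad1b2,
    0x9b4e4729f72c182a8e510d1004d966,
    0xa41261ae42056d141661bbdae510ec,
    0xb40b70c4c2025cc99d0323d6aa4aad,
    0xaa42db4a8eb886f320ab644079aa04,
    0x8c1151c9c5b8a677ae8163406b2889,
    0x9da0160d06481f45b4ea290578c9d5,
    0x9562c22a8e28eeb6a007808264d9f3,
    0x850438827773c36926a55b50662887,
    0x91ec9419b37d16350590112a08b8b7,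
    0x9286f021b38303722e824d4f1358ae,
    0x15a0f8a0057066a3113762c676d255,
    0xb40b70c4c2025cc99d0323d6aa4aad,
    0xb002cb9d265c47213c856a9c8852b3,
    0x191a9aac26b2a8e64c52780f7820b1,
    0x6a12b65a4a3d0c3805e404ea2bc5c5,
    0x64d0e05c8a38e067d0a2b442d92575,
    0x84aee6166a3a222a81a40d1e3326cb,
    0x10e937a0326a6aa046d02996c21eee,
    0x299b1b5dc01d6885bc2950a478126c,
    0x681e1a0aa58b9071ae72542e6626c4,
    0x488b602cd043aea0b26393e35234f4,
    0x7850a9326019e0915a952b48e89aeb,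
    0xbd91363e243ba144d4ca92cad18041,
    0xac6771056328124d4b79c58f83514,
    0xbc28d4c8ab346a1989161bdc0530e4,
    0x25676b061152c534155892537ddc8,
    0x60eea090f343a2d049e2b40a6aa68b,
    0xa12f11baa1134ab618e04aa567cd10,
    0x909f38a2b72d20a0106e605a74aec6,
    0x3a4c37814c24171b4828b8a75695d4,
    0x558b7a38eda92284c1729998f00c41,
    0x31dc5add346ae2020d920aac27c268,
    0xa49c2186b729e2f6998049153822cb,
    0xb00432a16c555e9852773064d71c91,
    0x554e3a10306b0167de683484e4acb1,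
    0x906778daac539e813569194c43c014,
    0x7c9b512823400e564693b1209bb8cb,
    0x14403b226bbbe0d49dc52183454aac,
    0xb0a909a2f27b9a562c358a8c901c64,
    0xba6540362113ab0b4d63798a821d8a,
    0x6dd669a6b07d2c78b0a853a4418402,
    0xbb5669a6307bac1a8248150a321d8a,
    0x1d84b85ca47a68a04ea83ba4c899a1,
    0x6c9f4438414c60c5d4a7bd80a30e64,
    0xbd6717b56939461b52507314831040,
    0xb82d5a4e5183dcd62d4941cc520c41]

/-- the `k`-th table -/
def tbl (k : ℕ) : ℕ := tblList.getD k idT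

/-- the action of `c`, `s`, `t`, `u` on `E` -/
def cm (v : ℕ) : ℕ := ([0, 3, 1, 2, 12, 15, 13, 14, 4, 7, 5, 6, 8, 11, 9, 10, 32, 35, 33, 34, 44, 47, 45, 46, 36, 39, 37, 38, 40, 43, 41, 42, 48, 51, 49, 50, 60, 63, 61, 62, 52, 55, 53, 54, 56, 59, 57, 58, 16, 19, 17, 18, 28, 31, 29, 30, 20, 23, 21, 22, 24, 27, 25, 26] : List ℕ).getD v 0
def sm (v : ℕ) : ℕ := ([0, 34, 49, 19, 20, 54, 37, 7, 44, 14, 29, 63, 56, 26, 9, 43, 16, 50, 33, 3, 4, 38, 53, 23, 60, 30, 13, 47, 40, 10, 25, 59, 48, 18, 1, 35, 36, 6, 21, 55, 28, 62, 45, 15, 8, 42, 57, 27, 32, 2, 17, 51, 52, 22, 5, 39, 12, 46, 61, 31, 24, 58, 41, 11] : List ℕ).getD v 0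
def tm (v : ℕ) : ℕ := ([0, 1, 2, 3, 48, 49, 50, 51, 32, 33, 34, 35, 16, 17, 18, 19, 12, 13, 14, 15, 60, 61, 62, 63, 44, 45, 46, 47, 28, 29, 30, 31, 8, 9, 10, 11, 56, 57, 58, 59, 40, 41, 42, 43, 24, 25, 26, 27, 4, 5, 6, 7, 52, 53, 54, 55, 36, 37, 38, 39, 20, 21, 22, 23] : List ℕ).getD v 0
def um (v : ℕ) : ℕ := ([0, 3, 2, 1, 6, 5, 4, 7, 13, 14, 15, 12, 11, 8, 9, 10, 35, 32, 33, 34, 37, 38, 39, 36, 46, 45, 44, 47, 40, 43, 42, 41, 17, 18, 19, 16, 23, 20, 21, 22, 28, 31, 30, 29, 26, 25, 24, 27, 50, 49, 48, 51, 52, 55, 54, 53, 63, 60, 61, 62, 57, 58, 59, 56] : List ℕ).getD v 0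

/-- the representative (`1` or `21`) of the class of the element `v` of `E` -/
def srcE (v : ℕ) : ℕ := ([0, 1, 1, 1, 1, 1, 1, 1, 1, 1, 1, 1, 1, 1, 1, 1, 1, 1, 1, 1, 1, 21, 21, 1, 1, 21, 1, 21, 1, 1, 21, 21, 1, 1, 1, 1, 1, 1, 21, 21, 1, 21, 21, 1, 1, 21, 1, 21, 1, 1, 1, 1, 1, 21, 1, 21, 1, 1, 21, 21, 1, 21, 21, 1] : List ℕ).getD v 0

/-- membership in the set of fixed points of `c` -/
def inF (x : ℕ) : Bool := Nat.testBit 1065304 x

theorem tables_in : allFold (fun k => tblInM24 (tbl k)) 144 = true := by decide +kernel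

theorem idT_in : tblInM24 idT = true := by decide +kernel

theorem tbl_in (k : ℕ) : tblInM24 (tbl k) = true := by
  by_cases hk : k < 144
  · exact (allFold_eq_true _ _).mp tables_in k hk
  · have : tbl k = idT := by
      unfold tbl
      apply List.getD_eq_default
      simp only [tblList, List.length_cons, List.length_nil]
      omega
    rw [this]; exact idT_in

/-- the element of the group with the `k`-th table -/
noncomputable def gk (k : ℕ) : ↥Cfsg.M24 :=
  ⟨(exists_of_tblInM24 (tbl_in k)).choose, (exists_of_tblInM24 (tbl_in k)).choose_spec.1⟩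

theorem gk_rep (k : ℕ) : Represents (gk k).1 (tbl k) :=
  (exists_of_tblInM24 (tbl_in k)).choose_spec.2

/-- the element of the group given by a word in the tables -/
noncomputable def gw (w : List ℕ) : ↥Cfsg.M24 := (w.map gk).prod

/-- the image of a point under a word -/
def evalW (w : List ℕ) (x : ℕ) : ℕ := w.foldr (fun k acc => img (tbl k) acc) x

theorem gw_nil : gw [] = 1 := rfl

theorem gw_cons (k : ℕ) (w : List ℕ) : gw (k :: w) = gk k * gw w := by
  unfold gw; rw [List.map_cons, List.prod_cons]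

theorem gw_append (u v : List ℕ) : gw u * gw v = gw (u ++ v) := by
  unfold gw; rw [List.map_append, List.prod_append]

theorem gw_rep (w : List ℕ) (p : GolayPt) : idx ((gw w).1 p) = evalW w (idx p) := by
  induction w with
  | nil => rfl
  | cons k w ih =>
    rw [gw_cons]
    show idx ((gk k).1 ((gw w).1 p)) = img (tbl k) (evalW w (idx p))
    rw [gk_rep k, ih]

/-- the check that two words describe the same permutation -/
def eqW (u v : List ℕ) : Bool := allFold (fun x => evalW u x == evalW v x) 24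

/-- the check that two words describe different permutations -/
def neW (u v : List ℕ) : Bool := !eqW u v

theorem gw_eq {u v : List ℕ} (h : eqW u v = true) : gw u = gw v := by
  unfold eqW at h
  rw [allFold_eq_true] at h
  apply Subtype.ext
  apply Equiv.ext
  intro p
  apply idx_injective
  rw [gw_rep, gw_rep]
  exact beq_iff_eq.mp (h _ (idx_lt p))

theorem gw_ne {u v : List ℕ} (h : neW u v = true) : gw u ≠ gw v := by
  intro he
  unfold neW at h
  rw [Bool.not_eq_true'] at h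
  have : eqW u v = true := by
    unfold eqW
    rw [allFold_eq_true]
    intro x hx
    rw [beq_iff_eq]
    have h1 := gw_rep u (pt x)
    have h2 := gw_rep v (pt x)
    rw [idx_pt x hx] at h1 h2
    rw [← h1, ← h2, he]
  rw [this] at h
  exact Bool.noConfusion h

/-- repeat a word -/
def rep : ℕ → List ℕ → List ℕ
  | 0, _ => []
  | n + 1, w => rep n w ++ w

theorem gw_pow (w : List ℕ) (n : ℕ) : gw w ^ n = gw (rep n w) := by
  induction n with
  | zero => rfl
  | succ n ih => rw [pow_succ, ih, gw_append]; rfl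

/-- from `g e0 = e g` to `g e0 g⁻¹ = e` -/
theorem conj_of_words {u e0 e : List ℕ} (h : eqW (u ++ e0) (e ++ u) = true) :
    gw u * gw e0 * (gw u)⁻¹ = gw e := by
  rw [gw_append, gw_eq h, ← gw_append]
  group

/-! ### The checks -/

theorem chk_E : allFold (fun v => allFold (fun w => eqW [v, w] [v ^^^ w] &&
    (v == w || neW [v] [w])) 64) 64 = true := by decide +kernel

theorem chk_one : eqW [0] [] = true := by decide +kernel

theorem chk_conjE : allFold (fun v => v == 0 || eqW [67 + v, srcE v] [v, 67 + v]) 64 = true := by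
  decide +kernel

theorem chk_c : allFold (fun v => eqW [64, v] [cm v, 64] && decide (cm v < 64) &&
    (v == 0 || neW [cm v] [v])) 64 = true := by decide +kernel

theorem chk_s : allFold (fun v => eqW [65, v] [sm v, 65] && decide (sm v < 64)) 64 = true := by
  decide +kernel

theorem chk_t : allFold (fun v => eqW [66, v] [tm v, 66] && decide (tm v < 64)) 64 = true := by
  decide +kernel

theorem chk_u : allFold (fun v => eqW [67, v] [um v, 67] && decide (um v < 64)) 64 = true := by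
  decide +kernel

theorem chk_src : allFold (fun v => v == 0 || srcE v == 1 || srcE v == 21) 64 = true ∧
    srcE 1 = 1 ∧ srcE 2 = 1 ∧ srcE 4 = 1 ∧ srcE 3 = 1 ∧ srcE 5 = 1 ∧ srcE 6 = 1 ∧ srcE 7 = 1 ∧
    srcE 16 = 1 ∧ srcE 17 = 1 ∧ srcE 20 = 1 := by decide +kernel

theorem chk_misc : eqW [64, 64, 64] [] = true ∧ eqW [131, 1] [65, 131] = true ∧
    eqW [132, 1] [66, 132] = true ∧ eqW [133, 1] [67, 133] = true ∧
    eqW [134, 1] [65, 66, 65, 66, 134] = true ∧ eqW [135, 1] [67, 65, 135] = true ∧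
    eqW [136, 21] [67, 66, 136] = true ∧
    eqW [64, 65, 64] [65] = true ∧ eqW [66, 64] [64, 66] = true ∧
    eqW [64, 67, 64] [67] = true ∧ eqW [67, 65] [65, 67] = true ∧
    eqW [67, 66] [66, 67] = true ∧ neW [1] [] = true ∧
    eqW [65, 65] [] = true ∧ eqW [66, 66] [] = true ∧ eqW [67, 67] [] = true ∧
    neW [67] [] = true ∧ eqW [65, 66, 65, 66, 65, 66, 65, 66] [] = true ∧
    neW [65, 66, 65, 66] [] = true := by decide +kernel

theorem chk_fix : allFold (fun v => v == 0 ||
      !(allFold (fun x => inF (img (tbl v) x) == inF x) 24)) 64 = true ∧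
    allFold (fun x => inF (img (tbl 65) x) == inF x) 24 = true ∧
    allFold (fun x => inF (img (tbl 66) x) == inF x) 24 = true ∧
    allFold (fun x => inF (img (tbl 67) x) == inF x) 24 = true ∧
    img (tbl 65) 6 = 6 ∧ img (tbl 66) 6 = 6 ∧ img (tbl 67) 6 ≠ 6 := by decide +kernel

theorem chk_heis : eqW (rep 3 [137]) [] = true ∧ eqW (rep 3 [138]) [] = true ∧
    eqW [137, 138, 137, 137, 138, 138] [64, 64] = true ∧ neW [64, 64] [] = true ∧
    eqW [64, 64, 137] [137, 64, 64] = true ∧ eqW [64, 64, 138] [138, 64, 64] = true ∧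
    eqW [139, 137] [137, 137, 139] = true ∧ eqW [139, 138] [138, 138, 139] = true ∧
    eqW [139, 64, 64] [64, 64, 139] = true ∧ eqW [65, 64, 64] [64, 65] = true ∧
    eqW (rep 3 [64, 64]) [] = true := by
  decide +kernel

theorem chk_odd : eqW (rep 5 [140]) [] = true ∧ neW [140] [] = true ∧
    eqW (rep 7 [141]) [] = true ∧ neW [141] [] = true ∧
    eqW (rep 11 [142]) [] = true ∧ neW [142] [] = true ∧
    eqW (rep 23 [143]) [] = true ∧ neW [143] [] = true := by decide +kernel

/-! ### The group `E` -/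

theorem hEmul : ∀ v < 64, ∀ w < 64, eqW [v, w] [v ^^^ w] = true ∧ (v = w ∨ neW [v] [w] = true) := by
  intro v hv w hw
  have h := (allFold_eq_true _ _).mp ((allFold_eq_true _ _).mp chk_E v hv) w hw
  rw [Bool.and_eq_true, Bool.or_eq_true, beq_iff_eq] at h
  exact h

theorem gw_zero : gw [0] = 1 := by rw [gw_eq chk_one]; rfl

theorem gw_mul_E {v w : ℕ} (hv : v < 64) (hw : w < 64) : gw [v] * gw [w] = gw [v ^^^ w] := by
  rw [gw_append]; exact gw_eq (hEmul v hv w hw).1

theorem gw_sq_E {v : ℕ} (hv : v < 64) : gw [v] * gw [v] = 1 := by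
  rw [gw_mul_E hv hv, Nat.xor_self, gw_zero]

theorem xor_lt {v w : ℕ} (hv : v < 64) (hw : w < 64) : v ^^^ w < 64 :=
  Nat.xor_lt_two_pow (n := 6) hv hw

/-- the elementary abelian group of order 64 fixing the six tetrads of a sextet -/
noncomputable def E : Subgroup ↥Cfsg.M24 where
  carrier := {g | ∃ v < 64, g = gw [v]}
  one_mem' := ⟨0, by norm_num, gw_zero.symm⟩
  mul_mem' := by
    rintro _ _ ⟨v, hv, rfl⟩ ⟨w, hw, rfl⟩
    exact ⟨v ^^^ w, xor_lt hv hw, gw_mul_E hv hw⟩
  inv_mem' := by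
    rintro _ ⟨v, hv, rfl⟩
    exact ⟨v, hv, inv_eq_self_of_sq (gw_sq_E hv)⟩

theorem mem_E {g : ↥Cfsg.M24} : g ∈ E ↔ ∃ v < 64, g = gw [v] := Iff.rfl

theorem gw_inj_E {v w : ℕ} (hv : v < 64) (hw : w < 64) (h : gw [v] = gw [w]) : v = w := by
  rcases (hEmul v hv w hw).2 with h1 | h1
  · exact h1
  · exact absurd h (gw_ne h1)

theorem card_E : Nat.card ↥E = 64 := by
  have e : Fin 64 ≃ ↥E := Equiv.ofBijective
    (fun v => (⟨gw [v.1], ⟨v.1, v.2, rfl⟩⟩ : ↥E)) ⟨?_, ?_⟩
  · rw [← Nat.card_congr e, Nat.card_fin]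
  · intro v w h
    exact Fin.ext (gw_inj_E v.2 w.2 (congrArg Subtype.val h))
  · rintro ⟨_, v, hv, rfl⟩
    exact ⟨⟨v, hv⟩, rfl⟩

/-- the conjugators -/
theorem conj_E {v : ℕ} (hv : v < 64) (hv0 : v ≠ 0) :
    ∃ g, g * gw [srcE v] * g⁻¹ = gw [v] := by
  have h := (allFold_eq_true _ _).mp chk_conjE v hv
  rw [Bool.or_eq_true, beq_iff_eq] at h
  rcases h with h | h
  · exact absurd h hv0
  · exact ⟨gw [67 + v], conj_of_words (u := [67 + v]) (e0 := [srcE v]) (e := [v]) h⟩

theorem conj_A {v : ℕ} (hv : v < 64) (hv0 : v ≠ 0) (hs : srcE v = 1) :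
    ∃ g, g * gw [1] * g⁻¹ = gw [v] := by
  have h := conj_E hv hv0
  rwa [hs] at h

theorem src_cases {v : ℕ} (hv : v < 64) : v = 0 ∨ srcE v = 1 ∨ srcE v = 21 := by
  have h := (allFold_eq_true _ _).mp chk_src.1 v hv
  rw [Bool.or_eq_true, Bool.or_eq_true, beq_iff_eq, beq_iff_eq, beq_iff_eq] at h
  rcases h with (h | h) | h
  · exact Or.inl h
  · exact Or.inr (Or.inl h)
  · exact Or.inr (Or.inr h)

theorem hcE_aux {v : ℕ} (hv : v < 64) :
    gw [64] * gw [v] * (gw [64])⁻¹ = gw [cm v] ∧ cm v < 64 ∧ (v = 0 ∨ gw [cm v] ≠ gw [v]) := by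
  have h := (allFold_eq_true _ _).mp chk_c v hv
  rw [Bool.and_eq_true, Bool.and_eq_true, decide_eq_true_eq, Bool.or_eq_true, beq_iff_eq] at h
  refine ⟨conj_of_words (u := [64]) (e0 := [v]) (e := [cm v]) h.1.1, h.1.2, ?_⟩
  rcases h.2 with h2 | h2
  · exact Or.inl h2
  · exact Or.inr (gw_ne h2)

theorem hsE_aux {v : ℕ} (hv : v < 64) :
    gw [65] * gw [v] * (gw [65])⁻¹ = gw [sm v] ∧ sm v < 64 := by
  have h := (allFold_eq_true _ _).mp chk_s v hv
  rw [Bool.and_eq_true, decide_eq_true_eq] at h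
  exact ⟨conj_of_words (u := [65]) (e0 := [v]) (e := [sm v]) h.1, h.2⟩

theorem htE_aux {v : ℕ} (hv : v < 64) :
    gw [66] * gw [v] * (gw [66])⁻¹ = gw [tm v] ∧ tm v < 64 := by
  have h := (allFold_eq_true _ _).mp chk_t v hv
  rw [Bool.and_eq_true, decide_eq_true_eq] at h
  exact ⟨conj_of_words (u := [66]) (e0 := [v]) (e := [tm v]) h.1, h.2⟩

theorem huE_aux {v : ℕ} (hv : v < 64) :
    gw [67] * gw [v] * (gw [67])⁻¹ = gw [um v] ∧ um v < 64 := by
  have h := (allFold_eq_true _ _).mp chk_u v hv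
  rw [Bool.and_eq_true, decide_eq_true_eq] at h
  exact ⟨conj_of_words (u := [67]) (e0 := [v]) (e := [um v]) h.1, h.2⟩

/-- the stabiliser of the point `6` -/
def P6 : Subgroup ↥Cfsg.M24 where
  carrier := {g | (g : Equiv.Perm GolayPt) (pt 6) = pt 6}
  one_mem' := rfl
  mul_mem' := by
    intro a b ha hb
    show (a : Equiv.Perm GolayPt) ((b : Equiv.Perm GolayPt) (pt 6)) = pt 6
    rw [hb, ha]
  inv_mem' := by
    intro a ha
    show (a : Equiv.Perm GolayPt)⁻¹ (pt 6) = pt 6
    rw [Equiv.Perm.inv_eq_iff_eq]; exact ha.symm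

theorem gw_mem_P6 (k : ℕ) : gw [k] ∈ P6 ↔ img (tbl k) 6 = 6 := by
  show (gw [k]).1 (pt 6) = pt 6 ↔ _
  have h := gw_rep [k] (pt 6)
  rw [idx_pt 6 (by norm_num)] at h
  constructor
  · intro h1
    rw [h1, idx_pt 6 (by norm_num)] at h
    exact h.symm
  · intro h1
    apply idx_injective
    rw [h, idx_pt 6 (by norm_num)]
    exact h1

/-- the setwise stabiliser of the set of fixed points of `c` -/
def PF : Subgroup ↥Cfsg.M24 where
  carrier := {g | ∀ p : GolayPt, inF (idx ((g : Equiv.Perm GolayPt) p)) = inF (idx p)}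
  one_mem' := fun _ => rfl
  mul_mem' := by
    intro a b ha hb p
    show inF (idx ((a : Equiv.Perm GolayPt) ((b : Equiv.Perm GolayPt) p))) = inF (idx p)
    rw [ha, hb]
  inv_mem' := by
    intro a ha p
    show inF (idx ((a : Equiv.Perm GolayPt)⁻¹ p)) = inF (idx p)
    have h := ha ((a : Equiv.Perm GolayPt)⁻¹ p)
    have e : (a : Equiv.Perm GolayPt) ((a : Equiv.Perm GolayPt)⁻¹ p) = p :=
      Equiv.apply_symm_apply _ p
    rw [e] at h
    exact h.symm

theorem gw_mem_PF (k : ℕ) :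
    gw [k] ∈ PF ↔ allFold (fun x => inF (img (tbl k) x) == inF x) 24 = true := by
  rw [allFold_eq_true]
  constructor
  · intro h x hx
    rw [beq_iff_eq]
    have h1 := h (pt x)
    have h2 := gw_rep [k] (pt x)
    rw [idx_pt x hx] at h1 h2
    rw [h2] at h1
    exact h1
  · intro h p
    have h1 := h (idx p) (idx_lt p)
    rw [beq_iff_eq] at h1
    have h2 := gw_rep [k] p
    show inF (idx ((gw [k]).1 p)) = inF (idx p)
    rw [h2]
    exact h1

/-- the elements mapping `c` to itself or to its inverse -/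
def NC {G : Type*} [Group G] (c : G) : Subgroup G where
  carrier := {w | w * c * w⁻¹ = c ∨ w * c * w⁻¹ = c⁻¹}
  one_mem' := Or.inl (by group)
  mul_mem' := by
    intro a b ha hb
    have e : a * b * c * (a * b)⁻¹ = a * (b * c * b⁻¹) * a⁻¹ := by group
    show a * b * c * (a * b)⁻¹ = c ∨ a * b * c * (a * b)⁻¹ = c⁻¹
    rw [e]
    rcases hb with hb | hb
    · rw [hb]; exact ha
    · rw [hb]
      have e2 : a * c⁻¹ * a⁻¹ = (a * c * a⁻¹)⁻¹ := by group
      rw [e2]
      rcases ha with ha | ha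
      · right; rw [ha]
      · left; rw [ha, inv_inv]
  inv_mem' := by
    intro a ha
    show a⁻¹ * c * a⁻¹⁻¹ = c ∨ a⁻¹ * c * a⁻¹⁻¹ = c⁻¹
    rcases ha with ha | ha
    · left
      calc a⁻¹ * c * a⁻¹⁻¹ = a⁻¹ * (a * c * a⁻¹) * a⁻¹⁻¹ := by rw [ha]
        _ = c := by group
    · right
      have h2 : (a * c * a⁻¹)⁻¹ = c := by rw [ha, inv_inv]
      calc a⁻¹ * c * a⁻¹⁻¹ = a⁻¹ * (a * c * a⁻¹)⁻¹ * a⁻¹⁻¹ := by rw [h2]
        _ = c⁻¹ := by group

theorem card_M24 : Nat.card ↥Cfsg.M24 = 244823040 := Cfsg.Agent.S0364.result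

theorem finite_M24 : Finite ↥Cfsg.M24 :=
  Nat.finite_of_card_ne_zero (by rw [card_M24]; norm_num)

/-! ### The lifts of the involutions -/

section lifts

variable {Γ : Type} [Group Γ] (σ : Γ →* ↥Cfsg.M24) (hsurj : Function.Surjective σ)
  (hker : σ.ker ≤ Subgroup.center Γ) (hexp : ∀ a ∈ σ.ker, a * a = 1)

include hsurj hker hexp

theorem liftsInv_e0 : LiftsInv σ (gw [1]) := by
  obtain ⟨-, s1, s2, s4, s3, s5, s6, s7, -⟩ := chk_src
  apply liftsInv_of_seven σ hsurj hker hexp (gw [1]) (gw [1]) (gw [2]) (gw [4])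
    (gw_sq_E (by norm_num))
  · exact conj_A (by norm_num) (by norm_num) s1
  · exact conj_A (by norm_num) (by norm_num) s2
  · exact conj_A (by norm_num) (by norm_num) s4
  · rw [gw_mul_E (by norm_num) (by norm_num)]
    exact conj_A (v := 3) (by norm_num) (by norm_num) s3
  · rw [gw_mul_E (by norm_num) (by norm_num)]
    exact conj_A (v := 5) (by norm_num) (by norm_num) s5
  · rw [gw_mul_E (by norm_num) (by norm_num)]
    exact conj_A (v := 6) (by norm_num) (by norm_num) s6
  · have e24 : gw [2] * gw [4] = gw [6] := gw_mul_E (by norm_num) (by norm_num)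
    have e16 : gw [1] * gw [6] = gw [7] := gw_mul_E (by norm_num) (by norm_num)
    rw [e24, e16]
    exact conj_A (v := 7) (by norm_num) (by norm_num) s7

theorem liftsInv_A {v : ℕ} (hv : v < 64) (hv0 : v ≠ 0) (hs : srcE v = 1) :
    LiftsInv σ (gw [v]) := by
  obtain ⟨g, hg⟩ := conj_A hv hv0 hs
  rw [← hg]
  exact liftsInv_conj σ hsurj hker hexp (liftsInv_e0 σ hsurj hker hexp) g

theorem liftsInv_b0 : LiftsInv σ (gw [21]) := by
  obtain ⟨-, s1, -, s4, -, s5, -, -, s16, s17, s20⟩ := chk_src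
  have e : gw [1] * (gw [4] * gw [16]) = gw [21] := by
    have e1 : gw [4] * gw [16] = gw [20] := gw_mul_E (by norm_num) (by norm_num)
    have e2 : gw [1] * gw [20] = gw [21] := gw_mul_E (by norm_num) (by norm_num)
    rw [e1, e2]
  rw [← e]
  have lA := fun (v : ℕ) (hv : v < 64) (hv0 : v ≠ 0) (hs : srcE v = 1) =>
    liftsInv_A σ hsurj hker hexp hv hv0 hs
  apply liftsInv_mul3 σ hsurj hker hexp (lA 1 (by norm_num) (by norm_num) s1)
    (lA 4 (by norm_num) (by norm_num) s4) (lA 16 (by norm_num) (by norm_num) s16)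
  · rw [gw_mul_E (by norm_num) (by norm_num)]
    exact lA 5 (by norm_num) (by norm_num) s5
  · rw [gw_mul_E (by norm_num) (by norm_num)]
    exact lA 17 (by norm_num) (by norm_num) s17
  · rw [gw_mul_E (by norm_num) (by norm_num)]
    exact lA 20 (by norm_num) (by norm_num) s20

theorem liftsInv_E {v : ℕ} (hv : v < 64) : LiftsInv σ (gw [v]) := by
  rcases src_cases hv with h | h | h
  · rw [h, gw_zero]; exact liftsInv_one σ hexp
  · by_cases hv0 : v = 0
    · rw [hv0, gw_zero]; exact liftsInv_one σ hexp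
    · exact liftsInv_A σ hsurj hker hexp hv hv0 h
  · by_cases hv0 : v = 0
    · rw [hv0, gw_zero]; exact liftsInv_one σ hexp
    · obtain ⟨g, hg⟩ := conj_E hv hv0
      rw [h] at hg
      rw [← hg]
      exact liftsInv_conj σ hsurj hker hexp (liftsInv_b0 σ hsurj hker hexp) g

theorem hE_lifts : ∀ x : Γ, σ x ∈ E → x * x = 1 := by
  rintro x ⟨v, hv, hx⟩
  exact liftsInv_E σ hsurj hker hexp hv x hx

end lifts

/-! ### The 2-part -/

theorem hs2 : gw [65] * gw [66] * (gw [65] * gw [66]) = gw [65, 66, 65, 66] := by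
  rw [gw_append, gw_append]; rfl

theorem two_part {Γ : Type} [Group Γ] [Finite Γ] (σ : Γ →* ↥Cfsg.M24)
    (hσ : IsStemExtension σ) (hexp : ∀ a ∈ σ.ker, a * a = 1) (a : Γ) (ha : a ∈ σ.ker) :
    a ^ 239085 = 1 := by
  have hfin := finite_M24
  have hsurj := hσ.1
  have hker := hσ.2.1
  obtain ⟨m1, m2, m3, m4, m5, m6, m7, m8, m9, m10, m11, m12, m13, m14, m15, m16, m17, m18,
    m19⟩ := chk_misc
  obtain ⟨f1, f2, f3, f4, f5, f6, f7⟩ := chk_fix
  have lE1 := liftsInv_e0 σ hsurj hker hexp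
  have lE21 := liftsInv_b0 σ hsurj hker hexp
  -- the relations
  have hc3 : gw [64] * gw [64] * gw [64] = 1 := by
    rw [gw_append, gw_append]; exact gw_eq m1
  have hss : gw [65] * gw [65] = 1 := by rw [gw_append]; exact gw_eq m14
  have htt : gw [66] * gw [66] = 1 := by rw [gw_append]; exact gw_eq m15
  have huu : gw [67] * gw [67] = 1 := by rw [gw_append]; exact gw_eq m16
  have hu1 : gw [67] ≠ 1 := by rw [← gw_nil]; exact gw_ne m17
  have hr4 : gw [65] * gw [66] * (gw [65] * gw [66]) *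
      (gw [65] * gw [66] * (gw [65] * gw [66])) = 1 := by
    rw [hs2, gw_append]; exact gw_eq m18
  have hr2 : gw [65] * gw [66] * (gw [65] * gw [66]) ≠ 1 := by
    rw [hs2, ← gw_nil]; exact gw_ne m19
  have cus : gw [67] * gw [65] = gw [65] * gw [67] := by
    rw [gw_append, gw_append]; exact gw_eq m11
  have cut : gw [67] * gw [66] = gw [66] * gw [67] := by
    rw [gw_append, gw_append]; exact gw_eq m12
  have hsc : gw [65] * gw [64] * (gw [65])⁻¹ = (gw [64])⁻¹ := by
    have h : gw [64] * gw [65] * gw [64] = gw [65] := by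
      rw [gw_append, gw_append]; exact gw_eq m8
    rw [mul_inv_eq_iff_eq_mul, eq_inv_mul_iff_mul_eq, ← mul_assoc]
    exact h
  have htc : gw [66] * gw [64] * (gw [66])⁻¹ = gw [64] := by
    rw [mul_inv_eq_iff_eq_mul, gw_append, gw_append]
    exact gw_eq m9
  have huc : gw [67] * gw [64] * (gw [67])⁻¹ = (gw [64])⁻¹ := by
    have h : gw [64] * gw [67] * gw [64] = gw [67] := by
      rw [gw_append, gw_append]; exact gw_eq m10
    rw [mul_inv_eq_iff_eq_mul, eq_inv_mul_iff_mul_eq, ← mul_assoc]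
    exact h
  -- the lifts
  have ls : LiftsInv σ (gw [65]) := by
    rw [← conj_of_words (u := [131]) (e0 := [1]) (e := [65]) m2]
    exact liftsInv_conj σ hsurj hker hexp lE1 _
  have lt : LiftsInv σ (gw [66]) := by
    rw [← conj_of_words (u := [132]) (e0 := [1]) (e := [66]) m3]
    exact liftsInv_conj σ hsurj hker hexp lE1 _
  have lu : LiftsInv σ (gw [67]) := by
    rw [← conj_of_words (u := [133]) (e0 := [1]) (e := [67]) m4]
    exact liftsInv_conj σ hsurj hker hexp lE1 _
  have lr : LiftsInv σ (gw [65] * gw [66] * (gw [65] * gw [66])) := by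
    rw [hs2, ← conj_of_words (u := [134]) (e0 := [1]) (e := [65, 66, 65, 66]) m5]
    exact liftsInv_conj σ hsurj hker hexp lE1 _
  have lus : LiftsInv σ (gw [67] * gw [65]) := by
    rw [gw_append]
    show LiftsInv σ (gw [67, 65])
    rw [← conj_of_words (u := [135]) (e0 := [1]) (e := [67, 65]) m6]
    exact liftsInv_conj σ hsurj hker hexp lE1 _
  have lut : LiftsInv σ (gw [67] * gw [66]) := by
    rw [gw_append]
    show LiftsInv σ (gw [67, 66])
    rw [← conj_of_words (u := [136]) (e0 := [21]) (e := [67, 66]) m7]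
    exact liftsInv_conj σ hsurj hker hexp lE21 _
  -- the subgroup `T`
  have h65P : gw [65] ∈ P6 := (gw_mem_P6 65).mpr f5
  have h66P : gw [66] ∈ P6 := (gw_mem_P6 66).mpr f6
  have hDP : Subgroup.closure ({gw [65] * gw [66], gw [65]} : Set ↥Cfsg.M24) ≤ P6 := by
    rw [Subgroup.closure_le]
    rintro x (rfl | hx)
    · exact P6.mul_mem h65P h66P
    · rw [Set.mem_singleton_iff] at hx; subst hx; exact h65P
  have huD : gw [67] ∉ Subgroup.closure ({gw [65] * gw [66], gw [65]} : Set ↥Cfsg.M24) := by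
    intro h
    exact f7 ((gw_mem_P6 67).mp (hDP h))
  obtain ⟨T0, hT0map, hT0ker⟩ := exists_lift_D8xC2 σ hsurj (gw [65]) (gw [66]) (gw [67])
    ls lt lr lu lus lut hr2 huD
  -- `T` normalises `E`
  have hsE : ∀ e ∈ E, gw [65] * e * (gw [65])⁻¹ ∈ E := by
    rintro _ ⟨v, hv, rfl⟩
    exact ⟨sm v, (hsE_aux hv).2, (hsE_aux hv).1⟩
  have htE : ∀ e ∈ E, gw [66] * e * (gw [66])⁻¹ ∈ E := by
    rintro _ ⟨v, hv, rfl⟩
    exact ⟨tm v, (htE_aux hv).2, (htE_aux hv).1⟩
  have huE : ∀ e ∈ E, gw [67] * e * (gw [67])⁻¹ ∈ E := by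
    rintro _ ⟨v, hv, rfl⟩
    exact ⟨um v, (huE_aux hv).2, (huE_aux hv).1⟩
  have gen_le : ∀ K : Subgroup ↥Cfsg.M24, gw [65] ∈ K → gw [66] ∈ K → gw [67] ∈ K →
      Subgroup.closure ({gw [65] * gw [66], gw [65]} : Set ↥Cfsg.M24) ⊔
        Subgroup.zpowers (gw [67]) ≤ K := by
    intro K h1 h2 h3
    apply sup_le
    · rw [Subgroup.closure_le]
      rintro x (rfl | hx)
      · exact K.mul_mem h1 h2
      · rw [Set.mem_singleton_iff] at hx; subst hx; exact h1
    · rw [Subgroup.zpowers_le]; exact h3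
  have hTn := gen_le (Subgroup.normalizer (E : Set ↥Cfsg.M24))
    (mem_normalizer_of_sq hss hsE) (mem_normalizer_of_sq htt htE) (mem_normalizer_of_sq huu huE)
  have hTE : ∀ w ∈ Subgroup.closure ({gw [65] * gw [66], gw [65]} : Set ↥Cfsg.M24) ⊔
      Subgroup.zpowers (gw [67]), ∀ e ∈ E, w * e * w⁻¹ ∈ E := by
    intro w hw e he
    exact (Subgroup.mem_normalizer_iff.mp (hTn hw) e).mp he
  have hTc : ∀ w ∈ Subgroup.closure ({gw [65] * gw [66], gw [65]} : Set ↥Cfsg.M24) ⊔
      Subgroup.zpowers (gw [67]),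
      w * gw [64] * w⁻¹ = gw [64] ∨ w * gw [64] * w⁻¹ = (gw [64])⁻¹ := by
    intro w hw
    exact gen_le (NC (gw [64])) (Or.inr hsc) (Or.inl htc) (Or.inr huc) hw
  have hET : ∀ e ∈ E, e ∈ Subgroup.closure ({gw [65] * gw [66], gw [65]} : Set ↥Cfsg.M24) ⊔
      Subgroup.zpowers (gw [67]) → e = 1 := by
    rintro _ ⟨v, hv, rfl⟩ he
    have hPF := gen_le PF ((gw_mem_PF 65).mpr f2) ((gw_mem_PF 66).mpr f3)
      ((gw_mem_PF 67).mpr f4) he
    have h := (allFold_eq_true _ _).mp f1 v hv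
    rw [Bool.or_eq_true, beq_iff_eq, Bool.not_eq_true'] at h
    rcases h with h | h
    · rw [h, gw_zero]
    · rw [(gw_mem_PF v).mp hPF] at h
      exact Bool.noConfusion h
  have h := pow_index_eq_one_core σ hσ hexp E (hE_lifts σ hsurj hker hexp) (gw [64]) hc3
    (by
      rintro _ ⟨v, hv, rfl⟩
      exact ⟨cm v, (hcE_aux hv).2.1, (hcE_aux hv).1⟩)
    (by
      rintro _ ⟨v, hv, rfl⟩ hfix
      rw [(hcE_aux hv).1] at hfix
      rcases (hcE_aux hv).2.2 with h0 | h0
      · rw [h0, gw_zero]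
      · exact absurd hfix h0)
    _ T0 hT0map hT0ker hTE hTc hET a ha
  have hcard := card_sup_of_normalizes E _ hTE hET
  rw [card_E, card_D8xC2 (gw [65]) (gw [66]) (gw [67]) hss htt huu hu1 hr4 hr2 cus cut huD]
    at hcard
  have hidx := Subgroup.card_mul_index
    (E ⊔ (Subgroup.closure ({gw [65] * gw [66], gw [65]} : Set ↥Cfsg.M24) ⊔
      Subgroup.zpowers (gw [67])))
  rw [hcard, card_M24] at hidx
  have : (E ⊔ (Subgroup.closure ({gw [65] * gw [66], gw [65]} : Set ↥Cfsg.M24) ⊔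
      Subgroup.zpowers (gw [67]))).index = 239085 := by omega
  rw [this] at h
  exact h

/-! ### The 3-part -/

theorem three_part {Γ : Type} [Group Γ] [Finite Γ] (σ : Γ →* ↥Cfsg.M24)
    (hσ : IsStemExtension σ) (hexp : ∀ a ∈ σ.ker, a ^ 3 = 1) : σ.ker = ⊥ := by
  have hfin := finite_M24
  obtain ⟨c1, c2, c3, c4, c5, c6, c7, c8, c9, c10, c11⟩ := chk_heis
  obtain ⟨m1, -⟩ := chk_misc
  have hxi : (gw [137])⁻¹ = gw [137, 137] :=
    inv_eq_of_mul_eq_one_right (by rw [gw_append]; exact gw_eq c1)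
  have hyi : (gw [138])⁻¹ = gw [138, 138] :=
    inv_eq_of_mul_eq_one_right (by rw [gw_append]; exact gw_eq c2)
  have hzi : (gw [64, 64])⁻¹ = gw [64] :=
    inv_eq_of_mul_eq_one_right (by rw [gw_append]; exact gw_eq m1)
  have hz : ⁅gw [137], gw [138]⁆ = gw [64, 64] := by
    rw [commutatorElement_def, hxi, hyi, gw_append, gw_append, gw_append]
    exact gw_eq c3
  rw [eq_bot_iff]
  intro a ha
  rw [Subgroup.mem_bot]
  obtain ⟨h1, h27⟩ := pow_index_eq_one_heis σ hσ hexp (gw [137]) (gw [138]) (gw [139]) (gw [65])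
    (by rw [gw_pow]; exact gw_eq c1) (by rw [gw_pow]; exact gw_eq c2)
    (by rw [hz, gw_pow]; exact gw_eq c11)
    (by rw [hz, ← gw_nil]; exact gw_ne c4)
    (by rw [hz, gw_append, gw_append]; exact gw_eq c5)
    (by rw [hz, gw_append, gw_append]; exact gw_eq c6)
    (by rw [hxi]; exact conj_of_words (u := [139]) (e0 := [137]) (e := [137, 137]) c7)
    (by rw [hyi]; exact conj_of_words (u := [139]) (e0 := [138]) (e := [138, 138]) c8)
    (by rw [hz]; exact conj_of_words (u := [139]) (e0 := [64, 64]) (e := [64, 64]) c9)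
    (by rw [hz, hzi]; exact conj_of_words (u := [65]) (e0 := [64, 64]) (e := [64]) c10)
    a ha
  have hidx := Subgroup.card_mul_index
    (Subgroup.closure ({gw [137], gw [138]} : Set ↥Cfsg.M24))
  rw [h27, card_M24] at hidx
  have : (Subgroup.closure ({gw [137], gw [138]} : Set ↥Cfsg.M24)).index = 9067520 := by omega
  rw [this] at h1
  have h3 := hexp a ha
  have e : a ^ 9067520 = a ^ 2 := by
    rw [show 9067520 = 3 * 3022506 + 2 from rfl, pow_add, pow_mul, h3, one_pow, one_mul]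
  rw [e] at h1
  calc a = a ^ 3 * (a ^ 2)⁻¹ := by group
    _ = 1 := by rw [h3, h1, inv_one, mul_one]

/-! ### The odd part -/

theorem odd_part {Γ : Type} [Group Γ] [Finite Γ] (σ : Γ →* ↥Cfsg.M24)
    (hσ : IsStemExtension σ) (a : Γ) (ha : a ∈ σ.ker) : a ^ (2 ^ 10) = 1 := by
  have hfin := finite_M24
  obtain ⟨c7, c8, c9, c10, c11, c12, c13, c14⟩ := chk_odd
  have : Fact (Nat.Prime 5) := ⟨by norm_num⟩
  have : Fact (Nat.Prime 7) := ⟨by norm_num⟩
  have : Fact (Nat.Prime 11) := ⟨by norm_num⟩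
  have : Fact (Nat.Prime 23) := ⟨by norm_num⟩
  have pw : ∀ (k n : ℕ), eqW (rep n [k]) [] = true → gw [k] ^ n = 1 := by
    intro k n h
    rw [gw_pow, gw_eq h, gw_nil]
  have ne1 : ∀ w : List ℕ, neW w [] = true → gw w ≠ 1 := by
    intro w h
    rw [← gw_nil]; exact gw_ne h
  obtain ⟨b, hb, rfl⟩ := exists_pow_of_exponent σ hσ 3
    (fun Γ' _ _ σ' hσ' hexp' => three_part σ' hσ' hexp') 3 a ha
  have h5 := pow_eq_one_of_prime σ hσ 5 (gw [140]) (pw 140 5 c7) (ne1 _ c8) b hb
  have h7 := pow_eq_one_of_prime σ hσ 7 (gw [141]) (pw 141 7 c9) (ne1 _ c10) b hb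
  have h11 := pow_eq_one_of_prime σ hσ 11 (gw [142]) (pw 142 11 c11) (ne1 _ c12) b hb
  have h23 := pow_eq_one_of_prime σ hσ 23 (gw [143]) (pw 143 23 c13) (ne1 _ c14) b hb
  rw [card_M24] at h5 h7 h11 h23
  have d5 := orderOf_dvd_of_pow_eq_one h5
  have d7 := orderOf_dvd_of_pow_eq_one h7
  have d11 := orderOf_dvd_of_pow_eq_one h11
  have d23 := orderOf_dvd_of_pow_eq_one h23
  have d := Nat.dvd_gcd (Nat.dvd_gcd d5 d7) (Nat.dvd_gcd d11 d23)
  norm_num at d
  rw [← pow_mul]
  exact orderOf_dvd_iff_pow_eq_one.mp (by norm_num; exact d)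

/-- The Schur multiplier of the Mathieu group M₂₄ (the automorphism group of the length-24 binary code) is trivial; here the Schur multiplier is described through stem extensions, as in the definitions: surjective homomorphisms onto the group from a finite group, whose kernel is central in that finite group and contained in that finite group's commutator subgroup. -/
theorem result : Cfsg.HasCyclicSchurMultiplier ↥Cfsg.M24 1 := by
  have hfin := finite_M24
  apply hasCyclicSchurMultiplier_one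
  intro Γ _ _ σ hσ
  apply ker_eq_bot_of_exponent_two σ hσ 10 (odd_part σ hσ)
  intro Γ' _ _ σ' hσ' hexp
  rw [eq_bot_iff]
  intro a ha
  rw [Subgroup.mem_bot]
  have h := two_part σ' hσ' hexp a ha
  have e : a ^ 239085 = a := by
    rw [show 239085 = 2 * 119542 + 1 from rfl, pow_succ, pow_mul, pow_two, hexp a ha, one_pow,
      one_mul]
  rw [e] at h
  exact h

end Cfsg.Agent.S2038
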