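import Cfsg.Statements.S2039
import Cfsg.Agent.Lib.Helper90_J1Order
import Cfsg.Agent.Lib.Lead_StemLocal

set_option autoImplicit false
open Cfsg
open Cfsg.Agent.Lib.Helper90_J1Core
open Cfsg.Agent.Lib.Helper90_J1Table
open Cfsg.Agent.Lib.Helper90_J1Data
open Cfsg.Agent.Lib.Helper90_J1Order
open Cfsg.Agent.Lib.Helper66_Stem
open Cfsg.Agent.Lib.Helper66_StemTools
open Cfsg.Agent.Lib.Lead_StemLocal
open scoped commutatorElement

namespace Cfsg.Agent.S2039

/-! ### The abstract argument -/

section abstract

variable {Γ G : Type*} [Group Γ] [Group G]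

/-- transfer into the preimage of a cyclic subgroup of prime order -/
theorem pow_eq_one_of_prime [Finite G] (σ : Γ →* G) (hσ : IsStemExtension σ) (p : ℕ)
    [hp : Fact p.Prime] (u : G) (hu : u ^ p = 1) (hu1 : u ≠ 1) (a : Γ) (ha : a ∈ σ.ker) :
    a ^ (Nat.card G / p) = 1 := by
  obtain ⟨v, rfl⟩ := hσ.1 u
  have hcl : Subgroup.closure (σ '' ({v} : Set Γ)) = Subgroup.zpowers (σ v) := by
    rw [Set.image_singleton, Subgroup.zpowers_eq_closure]
  have hcard : Nat.card ↥(Subgroup.zpowers (σ v)) = p := by
    rw [Nat.card_zpowers]; exact orderOf_eq_prime hu hu1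
  have hidx : (Subgroup.zpowers (σ v)).index = Nat.card G / p := by
    have := Subgroup.card_mul_index (Subgroup.zpowers (σ v))
    rw [hcard] at this
    rw [← this, Nat.mul_div_cancel_left _ hp.out.pos]
  have h := pow_index_eq_one_of_commute σ hσ ({v} : Set Γ)
    (by
      intro a ha b hb
      rw [Set.mem_singleton_iff] at ha hb
      rw [ha, hb])
    (by
      rw [hcl]
      exact Subgroup.index_ne_zero_of_finite) a ha
  rwa [hcl, hidx] at h

/-- the lifts of three pairwise commuting elements commute pairwise, if some element `x`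
conjugates the first to the second, the second to the third and the third to the product of the
first two (the action of a Singer cycle on the additive group of the field of eight elements) -/
theorem lifts_commute_of_eight (σ : Γ →* G) (hc : σ.ker ≤ Subgroup.center Γ) (a b c x : Γ)
    (hab : σ a * σ b = σ b * σ a) (hac : σ a * σ c = σ c * σ a) (hbc : σ b * σ c = σ c * σ b)
    (hxa : σ x * σ a = σ b * σ x) (hxb : σ x * σ b = σ c * σ x)
    (hxc : σ x * σ c = σ a * σ b * σ x) :
    a * b = b * a ∧ a * c = c * a ∧ b * c = c * b := by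
  have hker : ∀ g h : Γ, σ g * σ h = σ h * σ g → ⁅g, h⁆ ∈ Subgroup.center Γ := by
    intro g h hgh
    apply hc
    rw [MonoidHom.mem_ker, map_commutatorElement, commutatorElement_eq_one_iff_mul_comm]
    exact hgh
  have hu := hker a b hab
  have hv := hker a c hac
  have hw := hker b c hbc
  -- conjugation by `x` fixes central elements
  have hconj : ∀ g h : Γ, ⁅g, h⁆ ∈ Subgroup.center Γ →
      ⁅x * g * x⁻¹, x * h * x⁻¹⁆ = ⁅g, h⁆ := by
    intro g h hgh
    have e1 : x * ⁅g, h⁆ * x⁻¹ = ⁅g, h⁆ := by
      rw [(Subgroup.mem_center_iff.mp hgh x)]; group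
    have e2 : x * ⁅g, h⁆ * x⁻¹ = ⁅x * g * x⁻¹, x * h * x⁻¹⁆ := by
      simp only [commutatorElement_def]; group
    rw [← e2, e1]
  have sa : σ (x * a * x⁻¹) = σ b := by
    rw [map_mul, map_mul, map_inv, hxa]; group
  have sb : σ (x * b * x⁻¹) = σ c := by
    rw [map_mul, map_mul, map_inv, hxb]; group
  have sc : σ (x * c * x⁻¹) = σ (a * b) := by
    rw [map_mul, map_mul, map_inv, hxc, map_mul]; group
  -- the three relations
  have r1 : ⁅a, b⁆ = ⁅b, c⁆ := by
    rw [← hconj a b hu]
    exact commutatorElement_congr_of_central σ hc sa sb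
  have r2 : ⁅a, c⁆ = ⁅a, b⁆⁻¹ := by
    rw [← hconj a c hv, commutatorElement_congr_of_central σ hc sa sc,
      commutatorElement_mul_right_of_central b a b
        (by rw [commutatorElement_self]; exact Subgroup.one_mem _),
      commutatorElement_self, mul_one, commutatorElement_inv]
  have r3 : ⁅b, c⁆ = ⁅a, c⁆⁻¹ * ⁅b, c⁆⁻¹ := by
    have hcb : ⁅c, b⁆ ∈ Subgroup.center Γ := by
      rw [← commutatorElement_inv]; exact Subgroup.inv_mem _ hw
    conv_lhs => rw [← hconj b c hw, commutatorElement_congr_of_central σ hc sb sc,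
      commutatorElement_mul_right_of_central c a b hcb]
    rw [commutatorElement_inv, commutatorElement_inv]
  have hw1 : ⁅b, c⁆ = 1 := by
    rw [r2, inv_inv, r1] at r3
    have : ⁅b, c⁆ = ⁅b, c⁆ * ⁅b, c⁆⁻¹ := r3
    rwa [mul_inv_cancel] at this
  have hu1 : ⁅a, b⁆ = 1 := by rw [r1, hw1]
  have hv1 : ⁅a, c⁆ = 1 := by rw [r2, hu1, inv_one]
  exact ⟨commutatorElement_eq_one_iff_mul_comm.mp hu1,
    commutatorElement_eq_one_iff_mul_comm.mp hv1, commutatorElement_eq_one_iff_mul_comm.mp hw1⟩

/-- transfer into the preimage of an elementary abelian subgroup of order eight normalised by a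
Singer cycle -/
theorem pow_eq_one_of_eight (σ : Γ →* G) (hσ : IsStemExtension σ) (a b c x : G)
    (hab : a * b = b * a) (hac : a * c = c * a) (hbc : b * c = c * b)
    (hxa : x * a = b * x) (hxb : x * b = c * x) (hxc : x * c = a * b * x)
    (hfin : (Subgroup.closure ({a, b, b * c} : Set G)).index ≠ 0)
    (k : Γ) (hk : k ∈ σ.ker) :
    k ^ (Subgroup.closure ({a, b, b * c} : Set G)).index = 1 := by
  obtain ⟨a', rfl⟩ := hσ.1 a
  obtain ⟨b', rfl⟩ := hσ.1 b
  obtain ⟨c', rfl⟩ := hσ.1 c
  obtain ⟨x', rfl⟩ := hσ.1 x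
  obtain ⟨h1, h2, h3⟩ := lifts_commute_of_eight σ hσ.2.1 a' b' c' x' hab hac hbc hxa hxb hxc
  have c1 : Commute a' b' := h1
  have c2 : Commute a' c' := h2
  have c3 : Commute b' c' := h3
  have himg : σ '' ({a', b', b' * c'} : Set Γ) = {σ a', σ b', σ b' * σ c'} := by
    rw [Set.image_insert_eq, Set.image_pair, map_mul]
  have h := pow_index_eq_one_of_commute σ hσ ({a', b', b' * c'} : Set Γ)
    (by
      rintro u (rfl | rfl | rfl) v (rfl | rfl | rfl)
      · rfl
      · exact c1.eq
      · exact (c1.mul_right c2).eq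
      · exact c1.symm.eq
      · rfl
      · exact ((Commute.refl u).mul_right c3).eq
      · exact (c1.mul_right c2).symm.eq
      · exact ((Commute.refl v).mul_right c3).symm.eq
      · rfl)
    (by rw [himg]; exact hfin) k hk
  rwa [himg] at h

end abstract

/-! ### The elements of the group -/

/-- the element of `J₁` given by a word -/
noncomputable def el (w : List ℕ) : ↥Spor.J1 := ⟨evalG w, evalG_mem w⟩

theorem el_mul (u v : List ℕ) : el u * el v = el (u ++ v) :=
  Subtype.ext (evalG_append u v).symm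

theorem el_eq {u v : List ℕ} (h : evalW u = evalW v) : el u = el v :=
  Subtype.ext (evalG_eq_of_code h)

theorem el_pow_eq_one {w : List ℕ} {p : ℕ} (h : orderOf (evalG w) = p) : el w ^ p = 1 := by
  apply Subtype.ext
  rw [Subgroup.coe_pow, Subgroup.coe_one]
  show evalG w ^ p = 1
  rw [← h]
  exact pow_orderOf_eq_one _

theorem el_ne_one {w : List ℕ} {p : ℕ} (h : orderOf (evalG w) = p) (hp : p ≠ 1) : el w ≠ 1 := by
  intro h1
  apply hp
  rw [← h]
  have : evalG w = 1 := congrArg Subtype.val h1
  rw [this, orderOf_one]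

/-- the first involution -/
def E0 : List ℕ := [1, 0, 3, 0]
/-- the second involution -/
def E1 : List ℕ := [0, 1, 0, 3]
/-- the third involution -/
def E2 : List ℕ := [0, 0, 1, 0, 3, 2]

theorem rel_ab : el E0 * el E1 = el E1 * el E0 := by
  rw [el_mul, el_mul]; exact el_eq (by decide +kernel)

theorem rel_ac : el E0 * el E2 = el E2 * el E0 := by
  rw [el_mul, el_mul]; exact el_eq (by decide +kernel)

theorem rel_bc : el E1 * el E2 = el E2 * el E1 := by
  rw [el_mul, el_mul]; exact el_eq (by decide +kernel)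

theorem rel_xa : el [0] * el E0 = el E1 * el [0] := by
  rw [el_mul, el_mul]; exact el_eq (by decide +kernel)

theorem rel_xb : el [0] * el E1 = el E2 * el [0] := by
  rw [el_mul, el_mul]; exact el_eq (by decide +kernel)

theorem rel_xc : el [0] * el E2 = el E0 * el E1 * el [0] := by
  rw [el_mul, el_mul, el_mul]; exact el_eq (by decide +kernel)

theorem rel_bc_eq : el E1 * el E2 = el Pw2 := by
  rw [el_mul]; exact el_eq (by decide +kernel)

theorem finite_J1 : Finite ↥Spor.J1 :=
  Nat.finite_of_card_ne_zero (by rw [card_J1]; norm_num)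

/-- the elementary abelian subgroup of order eight, inside `J₁` -/
theorem card_closure_eight :
    Nat.card ↥(Subgroup.closure ({el E0, el E1, el E1 * el E2} : Set ↥Spor.J1)) = 8 := by
  have e : (Subgroup.closure ({el E0, el E1, el E1 * el E2} : Set ↥Spor.J1)).map
      Spor.J1.subtype = P8 := by
    rw [MonoidHom.map_closure]
    unfold P8
    congr 1
    ext g
    constructor
    · rintro ⟨h, (rfl | rfl | rfl), rfl⟩
      · exact ⟨1, by norm_num, rfl⟩
      · exact ⟨0, by norm_num, rfl⟩
      · refine ⟨2, by norm_num, ?_⟩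
        rw [rel_bc_eq]
        rfl
    · rintro ⟨l, hl, rfl⟩
      interval_cases l
      · exact ⟨el E1, by simp, rfl⟩
      · exact ⟨el E0, by simp, rfl⟩
      · refine ⟨el E1 * el E2, by simp, ?_⟩
        rw [rel_bc_eq]
        rfl
  rw [← card_P8, ← e]
  exact (Subgroup.card_map_of_injective (Subgroup.subtype_injective _)).symm

theorem index_closure_eight :
    (Subgroup.closure ({el E0, el E1, el E1 * el E2} : Set ↥Spor.J1)).index = 21945 := by
  have h := Subgroup.card_mul_index
    (Subgroup.closure ({el E0, el E1, el E1 * el E2} : Set ↥Spor.J1))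
  rw [card_closure_eight, card_J1] at h
  omega

/-- The Schur multiplier of the Janko group J₁ (the group generated by two explicit 7 × 7 matrices over the integers modulo 11) is trivial; here the Schur multiplier is described through stem extensions, as in the definitions: surjective homomorphisms onto the group from a finite group, whose kernel is central in that finite group and contained in that finite group's commutator subgroup. -/
theorem result : Cfsg.HasCyclicSchurMultiplier ↥Cfsg.Spor.J1 1 := by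
  classical
  have hfin : Finite ↥Cfsg.Spor.J1 := finite_J1
  apply hasCyclicSchurMultiplier_one
  intro Γ _ _ σ hσ
  rw [eq_bot_iff]
  intro a ha
  rw [Subgroup.mem_bot]
  have : Fact (Nat.Prime 3) := ⟨by norm_num⟩
  have : Fact (Nat.Prime 5) := ⟨by norm_num⟩
  have : Fact (Nat.Prime 7) := ⟨by norm_num⟩
  have : Fact (Nat.Prime 11) := ⟨by norm_num⟩
  have : Fact (Nat.Prime 19) := ⟨by norm_num⟩
  have h3 := pow_eq_one_of_prime σ hσ 3 (el w3) (el_pow_eq_one orderOf_w3)
    (el_ne_one orderOf_w3 (by norm_num)) a ha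
  have h5 := pow_eq_one_of_prime σ hσ 5 (el [1]) (el_pow_eq_one orderOf_w5)
    (el_ne_one orderOf_w5 (by norm_num)) a ha
  have h7 := pow_eq_one_of_prime σ hσ 7 (el [0]) (el_pow_eq_one orderOf_w7)
    (el_ne_one orderOf_w7 (by norm_num)) a ha
  have h11 := pow_eq_one_of_prime σ hσ 11 (el w11) (el_pow_eq_one orderOf_w11)
    (el_ne_one orderOf_w11 (by norm_num)) a ha
  have h19 := pow_eq_one_of_prime σ hσ 19 (el w19) (el_pow_eq_one orderOf_w19)
    (el_ne_one orderOf_w19 (by norm_num)) a ha
  have h8 := pow_eq_one_of_eight σ hσ (el E0) (el E1) (el E2) (el [0]) rel_ab rel_ac rel_bc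
    rel_xa rel_xb rel_xc (by rw [index_closure_eight]; norm_num) a ha
  rw [index_closure_eight] at h8
  rw [card_J1] at h3 h5 h7 h11 h19
  have d3 := orderOf_dvd_of_pow_eq_one h3
  have d5 := orderOf_dvd_of_pow_eq_one h5
  have d7 := orderOf_dvd_of_pow_eq_one h7
  have d11 := orderOf_dvd_of_pow_eq_one h11
  have d19 := orderOf_dvd_of_pow_eq_one h19
  have d8 := orderOf_dvd_of_pow_eq_one h8
  have d := Nat.dvd_gcd (Nat.dvd_gcd (Nat.dvd_gcd d3 d5) (Nat.dvd_gcd d7 d11)) (Nat.dvd_gcd d19 d8)
  norm_num at d
  exact d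

end Cfsg.Agent.S2039
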