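import Cfsg.Statements.S2040
import Cfsg.Agent.Lib.Helper26_J2MAbs
import Cfsg.Agent.Lib.Helper26_J2MSyl
import Cfsg.Agent.Lib.Helper26_J2MOdd
import Cfsg.Agent.Lib.Helper26_J2MCover
import Cfsg.Agent.Lib.Helper65_J2M_E1

set_option autoImplicit false
open Cfsg

namespace Cfsg.Agent.S2040

open Cfsg.Spor Cfsg.Agent.Lib.Helper26_Ico Cfsg.Agent.Lib.Helper26_J2MAbs

/-- The Schur multiplier of the Hall–Janko group J₂ (the icosian reflection group modulo its centre) is cyclic of order 2; here the Schur multiplier is described through stem extensions, as in the definitions: surjective homomorphisms onto the group from a finite group, whose kernel is central in that finite group and contained in that finite group's commutator subgroup. -/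
theorem result : Cfsg.HasCyclicSchurMultiplier Cfsg.Spor.J2 2 := by
  apply Cfsg.Agent.Lib.Helper66_Stem.hasCyclicSchurMultiplier_of 2
  · have hfin := finite_twoJ2
    obtain ⟨h1, h2, h3⟩ := Cfsg.Agent.Lib.Helper65_J2M_E1.stem_of_center (H := ↥twoJ2) perfect_J2
      card_center_twoJ2 tLift tLift_sq_mem tLift_sq_ne
    exact ⟨↥twoJ2, inferInstance, hfin, QuotientGroup.mk' _, h1, h2, h3⟩
  · intro Γ _ _ σ hσ
    have hfin := finite_J2
    have hK := odd_part σ hσ
    have hcard : Nat.card ↥σ.ker ≤ 2 :=
      two_part σ hσ hK jz jx jx2 jx3 jx4 ja jb jg jh rfl rfl rfl r_a2 r_b2 r_ab r_zg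
        r_12 r_13 r_14 r_23 r_24 r_34 r_g1 r_g2 r_g3 r_g4 r_h odd_x odd_a odd_b odd_g
        odd_index_subT card_subQ_ge
    exact exists_gen_of_card_le_two σ.ker hcard

end Cfsg.Agent.S2040
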