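import Cfsg.Statements.S2049
import Cfsg.Agent.Lib.Helper56_HeMult
import Cfsg.Agent.Lib.Helper56_StemP

set_option autoImplicit false
open Cfsg
open Cfsg.Spor Cfsg.Agent.Lib.Helper28_CosetPerm Cfsg.Agent.Lib.Helper56_WordLB
open Cfsg.Agent.Lib.Helper28_S1683 Cfsg.Agent.Lib.Helper28_S1683Tab Cfsg.Agent.Lib.Helper56_HeLB
open Cfsg.Agent.Lib.Helper56_HeMult
open Cfsg.Agent.Lib.Helper66_Stem
open Cfsg.Agent.Lib.Helper8_StemTwo
open Cfsg.Agent.Lib.Helper8_StemThree
open Cfsg.Agent.Lib.Helper56_StemP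
open scoped commutatorElement

namespace Cfsg.Agent.S2049

/-! ### The group `E` (after helper8's proof for the Mathieu group of degree 24, `S2038`) -/

theorem hEmul : ∀ v < 64, ∀ w < 64, eqW [v, w] [v ^^^ w] = true ∧ (v = w ∨ neW [v] [w] = true) := by
  intro v hv w hw
  have h := (allFold_eq_true _ _).mp ((allFold_eq_true _ _).mp chk_E v hv) w hw
  rw [Bool.and_eq_true, Bool.or_eq_true, beq_iff_eq] at h
  exact h

theorem gw_zero : gw [0] = 1 := by rw [gw_eq chk_one]; rfl

theorem gw_mul_E {v w : ℕ} (hv : v < 64) (hw : w < 64) : gw [v] * gw [w] = gw [v ^^^ w] := by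
  rw [gw_append]; exact gw_eq (hEmul v hv w hw).1

theorem gw_sq_E {v : ℕ} (hv : v < 64) : gw [v] * gw [v] = 1 := by
  rw [gw_mul_E hv hv, Nat.xor_self, gw_zero]

theorem xor_lt {v w : ℕ} (hv : v < 64) (hw : w < 64) : v ^^^ w < 64 :=
  Nat.xor_lt_two_pow (n := 6) hv hw

/-- the elementary abelian group of order 64 -/
noncomputable def E : Subgroup G where
  carrier := {g | ∃ v < 64, g = gw [v]}
  one_mem' := ⟨0, by norm_num, gw_zero.symm⟩
  mul_mem' := by
    rintro _ _ ⟨v, hv, rfl⟩ ⟨w, hw, rfl⟩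
    exact ⟨v ^^^ w, xor_lt hv hw, gw_mul_E hv hw⟩
  inv_mem' := by
    rintro _ ⟨v, hv, rfl⟩
    exact ⟨v, hv, inv_eq_self_of_sq (gw_sq_E hv)⟩

theorem mem_E {g : G} : g ∈ E ↔ ∃ v < 64, g = gw [v] := Iff.rfl

theorem gw_inj_E {v w : ℕ} (hv : v < 64) (hw : w < 64) (h : gw [v] = gw [w]) : v = w := by
  rcases (hEmul v hv w hw).2 with h1 | h1
  · exact h1
  · exact absurd h (gw_ne h1)

theorem card_E : Nat.card ↥E = 64 := by
  have e : Fin 64 ≃ ↥E := Equiv.ofBijective
    (fun v => (⟨gw [v.1], ⟨v.1, v.2, rfl⟩⟩ : ↥E)) ⟨?_, ?_⟩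
  · rw [← Nat.card_congr e, Nat.card_fin]
  · intro v w h
    exact Fin.ext (gw_inj_E v.2 w.2 (congrArg Subtype.val h))
  · rintro ⟨_, v, hv, rfl⟩
    exact ⟨⟨v, hv⟩, rfl⟩

/-- the conjugators -/
theorem conj_E {v : ℕ} (hv : v < 64) (hv0 : v ≠ 0) :
    ∃ g, g * gw [srcE v] * g⁻¹ = gw [v] := by
  have h := (allFold_eq_true _ _).mp chk_conjE v hv
  rw [Bool.or_eq_true, beq_iff_eq] at h
  rcases h with h | h
  · exact absurd h hv0
  · exact ⟨gw [67 + v], conj_of_words (u := [67 + v]) (e0 := [srcE v]) (e := [v]) h⟩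

theorem conj_A {v : ℕ} (hv : v < 64) (hv0 : v ≠ 0) (hs : srcE v = 1) :
    ∃ g, g * gw [1] * g⁻¹ = gw [v] := by
  have h := conj_E hv hv0
  rwa [hs] at h

theorem src_cases {v : ℕ} (hv : v < 64) : v = 0 ∨ srcE v = 1 ∨ srcE v = 21 := by
  have h := (allFold_eq_true _ _).mp chk_src.1 v hv
  rw [Bool.or_eq_true, Bool.or_eq_true, beq_iff_eq, beq_iff_eq, beq_iff_eq] at h
  rcases h with (h | h) | h
  · exact Or.inl h
  · exact Or.inr (Or.inl h)
  · exact Or.inr (Or.inr h)

theorem hcE_aux {v : ℕ} (hv : v < 64) :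
    gw [64] * gw [v] * (gw [64])⁻¹ = gw [cm v] ∧ cm v < 64 ∧ (v = 0 ∨ gw [cm v] ≠ gw [v]) := by
  have h := (allFold_eq_true _ _).mp chk_c v hv
  rw [Bool.and_eq_true, Bool.and_eq_true, decide_eq_true_eq, Bool.or_eq_true, beq_iff_eq] at h
  refine ⟨conj_of_words (u := [64]) (e0 := [v]) (e := [cm v]) h.1.1, h.1.2, ?_⟩
  rcases h.2 with h2 | h2
  · exact Or.inl h2
  · exact Or.inr (gw_ne h2)

theorem hsE_aux {v : ℕ} (hv : v < 64) :
    gw [65] * gw [v] * (gw [65])⁻¹ = gw [sm v] ∧ sm v < 64 := by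
  have h := (allFold_eq_true _ _).mp chk_s v hv
  rw [Bool.and_eq_true, decide_eq_true_eq] at h
  exact ⟨conj_of_words (u := [65]) (e0 := [v]) (e := [sm v]) h.1, h.2⟩

theorem htE_aux {v : ℕ} (hv : v < 64) :
    gw [66] * gw [v] * (gw [66])⁻¹ = gw [tm v] ∧ tm v < 64 := by
  have h := (allFold_eq_true _ _).mp chk_t v hv
  rw [Bool.and_eq_true, decide_eq_true_eq] at h
  exact ⟨conj_of_words (u := [66]) (e0 := [v]) (e := [tm v]) h.1, h.2⟩

theorem huE_aux {v : ℕ} (hv : v < 64) :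
    gw [67] * gw [v] * (gw [67])⁻¹ = gw [um v] ∧ um v < 64 := by
  have h := (allFold_eq_true _ _).mp chk_u v hv
  rw [Bool.and_eq_true, decide_eq_true_eq] at h
  exact ⟨conj_of_words (u := [67]) (e0 := [v]) (e := [um v]) h.1, h.2⟩

/-- the point `997` -/
def p997 : Fin 2058 := ⟨997, by norm_num⟩

theorem gw_mem_pstab (k : ℕ) (h : walk 32767 col (wd k) 14955 = 14955) :
    gw [k] ∈ pstab rho [p997] := by
  have e : ex [k] = wd k := List.append_nil _
  unfold gw
  rw [e]
  apply Verified.mk_mem_pstab Cfsg.Agent.Lib.Helper28_S1683.verified [p997] (wd k)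
  intro b hb
  rw [List.mem_singleton] at hb
  subst hb
  exact h

theorem gw_not_mem_pstab (k : ℕ) (h : walk 32767 col (wd k) 14955 ≠ 14955) :
    gw [k] ∉ pstab rho [p997] := by
  intro hm
  apply h
  have e : ex [k] = wd k := List.append_nil _
  have h1 := (mem_pstab rho [p997] (gw [k])).mp hm p997 List.mem_cons_self
  have h2 := walk_rho (wd k) p997
  have h3 : (rho (gw [k]))⁻¹ p997 = p997 := by
    rw [Equiv.Perm.inv_eq_iff_eq]; exact h1.symm
  unfold gw at h3
  rw [e] at h3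
  rw [h3] at h2
  exact h2

/-- the elements mapping `c` to itself or to its inverse -/
def NC {H : Type*} [Group H] (c : H) : Subgroup H where
  carrier := {w | w * c * w⁻¹ = c ∨ w * c * w⁻¹ = c⁻¹}
  one_mem' := Or.inl (by group)
  mul_mem' := by
    intro a b ha hb
    have e : a * b * c * (a * b)⁻¹ = a * (b * c * b⁻¹) * a⁻¹ := by group
    show a * b * c * (a * b)⁻¹ = c ∨ a * b * c * (a * b)⁻¹ = c⁻¹
    rw [e]
    rcases hb with hb | hb
    · rw [hb]; exact ha
    · rw [hb]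
      have e2 : a * c⁻¹ * a⁻¹ = (a * c * a⁻¹)⁻¹ := by group
      rw [e2]
      rcases ha with ha | ha
      · right; rw [ha]
      · left; rw [ha, inv_inv]
  inv_mem' := by
    intro a ha
    show a⁻¹ * c * a⁻¹⁻¹ = c ∨ a⁻¹ * c * a⁻¹⁻¹ = c⁻¹
    rcases ha with ha | ha
    · left
      calc a⁻¹ * c * a⁻¹⁻¹ = a⁻¹ * (a * c * a⁻¹) * a⁻¹⁻¹ := by rw [ha]
        _ = c := by group
    · right
      have h2 : (a * c * a⁻¹)⁻¹ = c := by rw [ha, inv_inv]
      calc a⁻¹ * c * a⁻¹⁻¹ = a⁻¹ * (a * c * a⁻¹)⁻¹ * a⁻¹⁻¹ := by rw [h2]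
        _ = c⁻¹ := by group

theorem card_He : Nat.card G = 4030387200 := Cfsg.Agent.S1695.card_eq

theorem finite_He : Finite G :=
  Nat.finite_of_card_ne_zero (by rw [card_He]; norm_num)

/-! ### The lifts of the involutions -/

section lifts

variable {Γ : Type} [Group Γ] (σ : Γ →* G) (hsurj : Function.Surjective σ)
  (hker : σ.ker ≤ Subgroup.center Γ) (hexp : ∀ a ∈ σ.ker, a * a = 1)

include hsurj hker hexp

theorem liftsInv_e0 : LiftsInv σ (gw [1]) := by
  obtain ⟨-, s1, s2, s4, s3, s5, s6, s7, -⟩ := chk_src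
  apply liftsInv_of_seven σ hsurj hker hexp (gw [1]) (gw [1]) (gw [2]) (gw [4])
    (gw_sq_E (by norm_num))
  · exact conj_A (by norm_num) (by norm_num) s1
  · exact conj_A (by norm_num) (by norm_num) s2
  · exact conj_A (by norm_num) (by norm_num) s4
  · rw [gw_mul_E (by norm_num) (by norm_num)]
    exact conj_A (v := 3) (by norm_num) (by norm_num) s3
  · rw [gw_mul_E (by norm_num) (by norm_num)]
    exact conj_A (v := 5) (by norm_num) (by norm_num) s5
  · rw [gw_mul_E (by norm_num) (by norm_num)]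
    exact conj_A (v := 6) (by norm_num) (by norm_num) s6
  · have e24 : gw [2] * gw [4] = gw [6] := gw_mul_E (by norm_num) (by norm_num)
    have e16 : gw [1] * gw [6] = gw [7] := gw_mul_E (by norm_num) (by norm_num)
    rw [e24, e16]
    exact conj_A (v := 7) (by norm_num) (by norm_num) s7

theorem liftsInv_A {v : ℕ} (hv : v < 64) (hv0 : v ≠ 0) (hs : srcE v = 1) :
    LiftsInv σ (gw [v]) := by
  obtain ⟨g, hg⟩ := conj_A hv hv0 hs
  rw [← hg]
  exact liftsInv_conj σ hsurj hker hexp (liftsInv_e0 σ hsurj hker hexp) g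

theorem liftsInv_b0 : LiftsInv σ (gw [21]) := by
  obtain ⟨-, s1, -, s4, -, s5, -, -, s16, s17, s20⟩ := chk_src
  have e : gw [1] * (gw [4] * gw [16]) = gw [21] := by
    have e1 : gw [4] * gw [16] = gw [20] := gw_mul_E (by norm_num) (by norm_num)
    have e2 : gw [1] * gw [20] = gw [21] := gw_mul_E (by norm_num) (by norm_num)
    rw [e1, e2]
  rw [← e]
  have lA := fun (v : ℕ) (hv : v < 64) (hv0 : v ≠ 0) (hs : srcE v = 1) =>
    liftsInv_A σ hsurj hker hexp hv hv0 hs
  apply liftsInv_mul3 σ hsurj hker hexp (lA 1 (by norm_num) (by norm_num) s1)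
    (lA 4 (by norm_num) (by norm_num) s4) (lA 16 (by norm_num) (by norm_num) s16)
  · rw [gw_mul_E (by norm_num) (by norm_num)]
    exact lA 5 (by norm_num) (by norm_num) s5
  · rw [gw_mul_E (by norm_num) (by norm_num)]
    exact lA 17 (by norm_num) (by norm_num) s17
  · rw [gw_mul_E (by norm_num) (by norm_num)]
    exact lA 20 (by norm_num) (by norm_num) s20

theorem liftsInv_E {v : ℕ} (hv : v < 64) : LiftsInv σ (gw [v]) := by
  rcases src_cases hv with h | h | h
  · rw [h, gw_zero]; exact liftsInv_one σ hexp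
  · by_cases hv0 : v = 0
    · rw [hv0, gw_zero]; exact liftsInv_one σ hexp
    · exact liftsInv_A σ hsurj hker hexp hv hv0 h
  · by_cases hv0 : v = 0
    · rw [hv0, gw_zero]; exact liftsInv_one σ hexp
    · obtain ⟨g, hg⟩ := conj_E hv hv0
      rw [h] at hg
      rw [← hg]
      exact liftsInv_conj σ hsurj hker hexp (liftsInv_b0 σ hsurj hker hexp) g

theorem hE_lifts : ∀ x : Γ, σ x ∈ E → x * x = 1 := by
  rintro x ⟨v, hv, hx⟩
  exact liftsInv_E σ hsurj hker hexp hv x hx

end lifts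

/-! ### The 2-part -/

theorem hs2 : gw [65] * gw [66] * (gw [65] * gw [66]) = gw [65, 66, 65, 66] := by
  rw [gw_append, gw_append]; rfl

theorem two_part {Γ : Type} [Group Γ] [Finite Γ] (σ : Γ →* G)
    (hσ : IsStemExtension σ) (hexp : ∀ a ∈ σ.ker, a * a = 1) (a : Γ) (ha : a ∈ σ.ker) :
    a ^ 3935925 = 1 := by
  have hfin := finite_He
  have hsurj := hσ.1
  have hker := hσ.2.1
  obtain ⟨m1, m2, m3, m4, m5, m6, m7, m8, m9, m10, m11, m12, m13, m14, m15, m16, m17, m18,
    m19⟩ := chk_misc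
  obtain ⟨f1, f2, f3⟩ := chk_fix
  have lE1 := liftsInv_e0 σ hsurj hker hexp
  have lE21 := liftsInv_b0 σ hsurj hker hexp
  -- the relations
  have hc3 : gw [64] * gw [64] * gw [64] = 1 := by
    rw [gw_append, gw_append]; exact gw_eq m1
  have hss : gw [65] * gw [65] = 1 := by rw [gw_append]; exact gw_eq m14
  have htt : gw [66] * gw [66] = 1 := by rw [gw_append]; exact gw_eq m15
  have huu : gw [67] * gw [67] = 1 := by rw [gw_append]; exact gw_eq m16
  have hu1 : gw [67] ≠ 1 := by rw [← gw_nil]; exact gw_ne m17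
  have hr4 : gw [65] * gw [66] * (gw [65] * gw [66]) *
      (gw [65] * gw [66] * (gw [65] * gw [66])) = 1 := by
    rw [hs2, gw_append]; exact gw_eq m18
  have hr2 : gw [65] * gw [66] * (gw [65] * gw [66]) ≠ 1 := by
    rw [hs2, ← gw_nil]; exact gw_ne m19
  have cus : gw [67] * gw [65] = gw [65] * gw [67] := by
    rw [gw_append, gw_append]; exact gw_eq m11
  have cut : gw [67] * gw [66] = gw [66] * gw [67] := by
    rw [gw_append, gw_append]; exact gw_eq m12
  have hsc : gw [65] * gw [64] * (gw [65])⁻¹ = gw [64] := by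
    rw [mul_inv_eq_iff_eq_mul, gw_append, gw_append]
    exact gw_eq m8
  have htc : gw [66] * gw [64] * (gw [66])⁻¹ = gw [64] := by
    rw [mul_inv_eq_iff_eq_mul, gw_append, gw_append]
    exact gw_eq m9
  have huc : gw [67] * gw [64] * (gw [67])⁻¹ = (gw [64])⁻¹ := by
    have h : gw [64] * gw [67] * gw [64] = gw [67] := by
      rw [gw_append, gw_append]; exact gw_eq m10
    rw [mul_inv_eq_iff_eq_mul, eq_inv_mul_iff_mul_eq, ← mul_assoc]
    exact h
  -- the lifts
  have ls : LiftsInv σ (gw [65]) := by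
    rw [← conj_of_words (u := [131]) (e0 := [21]) (e := [65]) m2]
    exact liftsInv_conj σ hsurj hker hexp lE21 _
  have lt : LiftsInv σ (gw [66]) := by
    rw [← conj_of_words (u := [132]) (e0 := [21]) (e := [66]) m3]
    exact liftsInv_conj σ hsurj hker hexp lE21 _
  have lu : LiftsInv σ (gw [67]) := by
    rw [← conj_of_words (u := [133]) (e0 := [21]) (e := [67]) m4]
    exact liftsInv_conj σ hsurj hker hexp lE21 _
  have lr : LiftsInv σ (gw [65] * gw [66] * (gw [65] * gw [66])) := by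
    rw [hs2, ← conj_of_words (u := [134]) (e0 := [21]) (e := [65, 66, 65, 66]) m5]
    exact liftsInv_conj σ hsurj hker hexp lE21 _
  have lus : LiftsInv σ (gw [67] * gw [65]) := by
    rw [gw_append]
    show LiftsInv σ (gw [67, 65])
    rw [← conj_of_words (u := [135]) (e0 := [21]) (e := [67, 65]) m6]
    exact liftsInv_conj σ hsurj hker hexp lE21 _
  have lut : LiftsInv σ (gw [67] * gw [66]) := by
    rw [gw_append]
    show LiftsInv σ (gw [67, 66])
    rw [← conj_of_words (u := [136]) (e0 := [1]) (e := [67, 66]) m7]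
    exact liftsInv_conj σ hsurj hker hexp lE1 _
  -- the subgroup `T`
  have h65P : gw [65] ∈ pstab rho [p997] := gw_mem_pstab 65 f1
  have h66P : gw [66] ∈ pstab rho [p997] := gw_mem_pstab 66 f2
  have hDP : Subgroup.closure ({gw [65] * gw [66], gw [65]} : Set G) ≤ pstab rho [p997] := by
    rw [Subgroup.closure_le]
    rintro x (rfl | hx)
    · exact (pstab rho [p997]).mul_mem h65P h66P
    · rw [Set.mem_singleton_iff] at hx; subst hx; exact h65P
  have huD : gw [67] ∉ Subgroup.closure ({gw [65] * gw [66], gw [65]} : Set G) := by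
    intro h
    exact gw_not_mem_pstab 67 f3 (hDP h)
  obtain ⟨T0, hT0map, hT0ker⟩ := exists_lift_D8xC2 σ hsurj (gw [65]) (gw [66]) (gw [67])
    ls lt lr lu lus lut hr2 huD
  -- `T` normalises `E`
  have hsE : ∀ e ∈ E, gw [65] * e * (gw [65])⁻¹ ∈ E := by
    rintro _ ⟨v, hv, rfl⟩
    exact ⟨sm v, (hsE_aux hv).2, (hsE_aux hv).1⟩
  have htE : ∀ e ∈ E, gw [66] * e * (gw [66])⁻¹ ∈ E := by
    rintro _ ⟨v, hv, rfl⟩
    exact ⟨tm v, (htE_aux hv).2, (htE_aux hv).1⟩
  have huE : ∀ e ∈ E, gw [67] * e * (gw [67])⁻¹ ∈ E := by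
    rintro _ ⟨v, hv, rfl⟩
    exact ⟨um v, (huE_aux hv).2, (huE_aux hv).1⟩
  have gen_le : ∀ K : Subgroup G, gw [65] ∈ K → gw [66] ∈ K → gw [67] ∈ K →
      Subgroup.closure ({gw [65] * gw [66], gw [65]} : Set G) ⊔
        Subgroup.zpowers (gw [67]) ≤ K := by
    intro K h1 h2 h3
    apply sup_le
    · rw [Subgroup.closure_le]
      rintro x (rfl | hx)
      · exact K.mul_mem h1 h2
      · rw [Set.mem_singleton_iff] at hx; subst hx; exact h1
    · rw [Subgroup.zpowers_le]; exact h3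
  have hTn := gen_le (Subgroup.normalizer (E : Set G))
    (mem_normalizer_of_sq hss hsE) (mem_normalizer_of_sq htt htE) (mem_normalizer_of_sq huu huE)
  have hTE : ∀ w ∈ Subgroup.closure ({gw [65] * gw [66], gw [65]} : Set G) ⊔
      Subgroup.zpowers (gw [67]), ∀ e ∈ E, w * e * w⁻¹ ∈ E := by
    intro w hw e he
    exact (Subgroup.mem_normalizer_iff.mp (hTn hw) e).mp he
  have hTc : ∀ w ∈ Subgroup.closure ({gw [65] * gw [66], gw [65]} : Set G) ⊔
      Subgroup.zpowers (gw [67]),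
      w * gw [64] * w⁻¹ = gw [64] ∨ w * gw [64] * w⁻¹ = (gw [64])⁻¹ := by
    intro w hw
    exact gen_le (NC (gw [64])) (Or.inl hsc) (Or.inl htc) (Or.inr huc) hw
  have hcE : ∀ e ∈ E, gw [64] * e * (gw [64])⁻¹ ∈ E := by
    rintro _ ⟨v, hv, rfl⟩
    exact ⟨cm v, (hcE_aux hv).2.1, (hcE_aux hv).1⟩
  have hcfix : ∀ e ∈ E, gw [64] * e * (gw [64])⁻¹ = e → e = 1 := by
    rintro _ ⟨v, hv, rfl⟩ hfix
    rw [(hcE_aux hv).1] at hfix
    rcases (hcE_aux hv).2.2 with h0 | h0
    · rw [h0, gw_zero]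
    · exact absurd hfix h0
  -- `E` meets `T` trivially: an element of `E` normalising `⟨c⟩` is fixed by `c`
  have hET : ∀ e ∈ E, e ∈ Subgroup.closure ({gw [65] * gw [66], gw [65]} : Set G) ⊔
      Subgroup.zpowers (gw [67]) → e = 1 := by
    intro e he heT
    rcases hTc e heT with h | h
    · apply hcfix e he
      calc gw [64] * e * (gw [64])⁻¹ = (e * gw [64] * e⁻¹) * e * (gw [64])⁻¹ := by rw [h]
        _ = e * (gw [64] * (gw [64])⁻¹) := by group
        _ = e := by rw [mul_inv_cancel, mul_one]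
    · -- then `c²` lies in `E` and is fixed by `c`, hence `c = 1`
      have hcc : gw [64] * gw [64] ∈ E := by
        have h1 : gw [64] * e * (gw [64])⁻¹ * e⁻¹ = gw [64] * gw [64] := by
          calc gw [64] * e * (gw [64])⁻¹ * e⁻¹ = gw [64] * (e * gw [64] * e⁻¹)⁻¹ := by group
            _ = gw [64] * gw [64] := by rw [h, inv_inv]
        rw [← h1]
        exact E.mul_mem (hcE e he) (E.inv_mem he)
      have hcc1 : gw [64] * gw [64] = 1 := by
        apply hcfix _ hcc
        group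
      have hc1 : gw [64] = 1 := by
        have := hc3
        rw [hcc1, one_mul] at this
        exact this
      apply hcfix e he
      rw [hc1]; group
  have h := pow_index_eq_one_core σ hσ hexp E (hE_lifts σ hsurj hker hexp) (gw [64]) hc3
    hcE hcfix _ T0 hT0map hT0ker hTE hTc hET a ha
  have hcard := card_sup_of_normalizes E _ hTE hET
  rw [card_E, card_D8xC2 (gw [65]) (gw [66]) (gw [67]) hss htt huu hu1 hr4 hr2 cus cut huD]
    at hcard
  have hidx := Subgroup.card_mul_index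
    (E ⊔ (Subgroup.closure ({gw [65] * gw [66], gw [65]} : Set G) ⊔
      Subgroup.zpowers (gw [67])))
  rw [hcard, card_He] at hidx
  have : (E ⊔ (Subgroup.closure ({gw [65] * gw [66], gw [65]} : Set G) ⊔
      Subgroup.zpowers (gw [67]))).index = 3935925 := by omega
  rw [this] at h
  exact h

/-! ### The extraspecial Sylow subgroups for the primes three and seven -/

/-- the group-theoretic content of the check `heisB` -/
theorem heis_part {Γ : Type} [Group Γ] [Finite Γ] (σ : Γ →* G) (hσ : IsStemExtension σ)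
    (p : ℕ) [hp : Fact p.Prime] (hp1 : 1 ≤ p) (x y h1 h2 k l : ℕ)
    (hk1 : 1 ≤ k) (hk : Nat.Coprime (k - 1) p) (hl1 : 1 ≤ l) (hl : Nat.Coprime (l - 1) p)
    (hchk : heisB p x y h1 h2 k l = true) (hexp : ∀ a ∈ σ.ker, a ^ p = 1) (a : Γ)
    (ha : a ∈ σ.ker) : a ^ (Nat.card G / p ^ 3) = 1 := by
  have hfin := finite_He
  unfold heisB at hchk
  simp only [Bool.and_eq_true] at hchk
  obtain ⟨⟨⟨⟨⟨⟨⟨⟨⟨⟨⟨c1, c2⟩, c3⟩, c4⟩, c5⟩, c6⟩, c7⟩, c8⟩, c9⟩, c10⟩, c11⟩, c12⟩ := hchk
  have hrep : ∀ w : List ℕ, rep (p - 1 + 1) w = rep p w := by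
    intro w; rw [Nat.sub_add_cancel hp1]
  have hxi : (gw [x])⁻¹ = gw (rep (p - 1) [x]) := by
    apply inv_of_mul
    have e : [x] ++ rep (p - 1) [x] = rep p [x] := by
      rw [← hrep]
      clear c1 c2 c3 c4 c5 c6 c7 c8 c9 c10 c11 c12 hrep
      induction (p - 1) with
      | zero => rfl
      | succ n ih => show [x] ++ (rep n [x] ++ [x]) = rep (n + 1) [x] ++ [x]; rw [← List.append_assoc, ih]
    rw [e]; exact c1
  have hyi : (gw [y])⁻¹ = gw (rep (p - 1) [y]) := by
    apply inv_of_mul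
    have e : [y] ++ rep (p - 1) [y] = rep p [y] := by
      rw [← hrep]
      clear c1 c2 c3 c4 c5 c6 c7 c8 c9 c10 c11 c12 hrep hxi
      induction (p - 1) with
      | zero => rfl
      | succ n ih => show [y] ++ (rep n [y] ++ [y]) = rep (n + 1) [y] ++ [y]; rw [← List.append_assoc, ih]
    rw [e]; exact c2
  have hz : ⁅gw [x], gw [y]⁆ = gw (cmw p x y) := by
    rw [commutatorElement_def, hxi, hyi, gw_append, gw_append, gw_append]
    unfold cmw
    simp only [List.append_assoc, List.cons_append, List.nil_append]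
  obtain ⟨h1', h2'⟩ := pow_index_eq_one_heis_p σ hσ p hexp (gw [x]) (gw [y]) (gw [h1]) (gw [h2])
    k l hk1 hk hl1 hl
    (by rw [gw_pow]; exact gw_eq c1) (by rw [gw_pow]; exact gw_eq c2)
    (by rw [hz, gw_pow]; exact gw_eq c3)
    (by rw [hz, ← gw_nil]; exact gw_ne c4)
    (by rw [hz, gw_append]; rw [gw_eq c5, ← gw_cons])
    (by rw [hz, gw_append]; rw [gw_eq c6, ← gw_cons])
    (by
      rw [mul_inv_eq_iff_eq_mul, gw_append, gw_append]; exact gw_eq c7)
    (by
      rw [mul_inv_eq_iff_eq_mul, gw_pow, gw_append, gw_append]; exact gw_eq c8)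
    (by
      rw [hz, mul_inv_eq_iff_eq_mul, gw_pow, gw_append, gw_append]; exact gw_eq c9)
    (by
      rw [mul_inv_eq_iff_eq_mul, gw_pow, gw_append, gw_append]; exact gw_eq c10)
    (by
      rw [mul_inv_eq_iff_eq_mul, gw_append, gw_append]; exact gw_eq c11)
    (by
      rw [hz, mul_inv_eq_iff_eq_mul, gw_pow, gw_append, gw_append]; exact gw_eq c12)
    a ha
  have hidx := Subgroup.card_mul_index (Subgroup.closure ({gw [x], gw [y]} : Set G))
  rw [h2'] at hidx
  have hpos : 0 < p ^ 3 := pow_pos hp.out.pos 3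
  have : (Subgroup.closure ({gw [x], gw [y]} : Set G)).index = Nat.card G / p ^ 3 := by
    rw [← hidx, Nat.mul_div_cancel_left _ hpos]
  rw [this] at h1'
  exact h1'

theorem three_part {Γ : Type} [Group Γ] [Finite Γ] (σ : Γ →* G)
    (hσ : IsStemExtension σ) (hexp : ∀ a ∈ σ.ker, a ^ 3 = 1) : σ.ker = ⊥ := by
  have : Fact (Nat.Prime 3) := ⟨by norm_num⟩
  rw [eq_bot_iff]
  intro a ha
  rw [Subgroup.mem_bot]
  have h := heis_part σ hσ 3 (by norm_num) 137 138 139 140 2 2 (by norm_num) (by norm_num)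
    (by norm_num) (by norm_num) chk_heis3 hexp a ha
  rw [card_He] at h
  have h3 := hexp a ha
  exact eq_one_of_pow_coprime h h3 (by norm_num)

theorem seven_part {Γ : Type} [Group Γ] [Finite Γ] (σ : Γ →* G)
    (hσ : IsStemExtension σ) (hexp : ∀ a ∈ σ.ker, a ^ 7 = 1) : σ.ker = ⊥ := by
  have : Fact (Nat.Prime 7) := ⟨by norm_num⟩
  rw [eq_bot_iff]
  intro a ha
  rw [Subgroup.mem_bot]
  have h := heis_part σ hσ 7 (by norm_num) 144 145 146 147 2 4 (by norm_num) (by norm_num)
    (by norm_num) (by norm_num) chk_heis7 hexp a ha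
  rw [card_He] at h
  have h7 := hexp a ha
  exact eq_one_of_pow_coprime h h7 (by norm_num)

/-! ### The odd part -/

theorem odd_part {Γ : Type} [Group Γ] [Finite Γ] (σ : Γ →* G)
    (hσ : IsStemExtension σ) (a : Γ) (ha : a ∈ σ.ker) : a ^ (2 ^ 10) = 1 := by
  have hfin := finite_He
  obtain ⟨c1, c2, c3, c4, c5, c6, c7⟩ := chk_five
  obtain ⟨d1, d2⟩ := chk_seventeen
  have : Fact (Nat.Prime 5) := ⟨by norm_num⟩
  have : Fact (Nat.Prime 17) := ⟨by norm_num⟩
  obtain ⟨b, hb, rfl⟩ := exists_pow_of_exponent σ hσ 3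
    (fun Γ' _ _ σ' hσ' hexp' => three_part σ' hσ' hexp') 3 a ha
  obtain ⟨c, hc, rfl⟩ := exists_pow_of_exponent σ hσ 7
    (fun Γ' _ _ σ' hσ' hexp' => seven_part σ' hσ' hexp') 3 b hb
  have hyi : (gw [142])⁻¹ = gw [142, 142, 142, 142] :=
    inv_of_mul (w := [142]) (w' := [142, 142, 142, 142]) c3
  have h5 := pow_eq_one_of_prime_sq σ hσ 5 (by decide) (gw [141]) (gw [142]) (gw [143])
    (by rw [gw_pow]; exact gw_eq c1) (by rw [← gw_nil]; exact gw_ne c2)
    (by rw [gw_pow]; exact gw_eq c3) (by rw [← gw_nil]; exact gw_ne c4)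
    (by rw [gw_append, gw_append]; exact gw_eq c5)
    (by rw [gw_append, gw_append]; exact gw_eq c6)
    (by rw [hyi, mul_inv_eq_iff_eq_mul, gw_append, gw_append]; exact gw_eq c7) c hc
  have h17 := pow_eq_one_of_prime σ hσ 17 (gw [148]) (by rw [gw_pow]; exact gw_eq d1)
    (by rw [← gw_nil]; exact gw_ne d2) c hc
  rw [card_He] at h5 h17
  have e5 := orderOf_dvd_of_pow_eq_one h5
  have e17 := orderOf_dvd_of_pow_eq_one h17
  have d := Nat.dvd_gcd e5 e17
  norm_num at d
  rw [← pow_mul, ← pow_mul]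
  exact orderOf_dvd_iff_pow_eq_one.mp (by norm_num; exact d)

/-- The Schur multiplier of the Held group (the finitely presented group of the definitions) is trivial; here the Schur multiplier is described through stem extensions, as in the definitions: surjective homomorphisms onto the group from a finite group, whose kernel is central in that finite group and contained in that finite group's commutator subgroup. -/
theorem result : Cfsg.HasCyclicSchurMultiplier Cfsg.Spor.He 1 := by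
  have hfin := finite_He
  show Cfsg.HasCyclicSchurMultiplier G 1
  apply hasCyclicSchurMultiplier_one
  intro Γ _ _ σ hσ
  apply ker_eq_bot_of_exponent_two σ hσ 10 (odd_part σ hσ)
  intro Γ' _ _ σ' hσ' hexp
  rw [eq_bot_iff]
  intro a ha
  rw [Subgroup.mem_bot]
  have h := two_part σ' hσ' hexp a ha
  have e : a ^ 3935925 = a := by
    rw [show 3935925 = 2 * 1967962 + 1 from rfl, pow_succ, pow_mul, pow_two, hexp a ha, one_pow,
      one_mul]
  rw [e] at h
  exact h

end Cfsg.Agent.S2049
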