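import Cfsg.Statements.S2054
import Cfsg.Agent.Lib.helper19_M23Data
import Cfsg.Agent.Lib.Helper60_M23_UNIT
import Cfsg.Agent.Lib.Helper11_M23_TRANSFER
import Cfsg.Agent.Lib.Helper10_M23_GOODv
import Cfsg.Agent.Lib.Helper10_M23_SECTION
import Cfsg.Agent.Lib.Helper45_M23_D2
import Cfsg.Agent.Lib.Helper28_Fi23Order
import Cfsg.Agent.Lib.Helper66_Stem

/-!
# S2054: the Schur multiplier of `Fi23` is trivial

Architecture by helper19 (paper proof: `pending/helper19/S2054_proof.md`); packages by helper10 (GOOD,
SECTION), helper11 (UNIV, KER4, TRANSFER), helper17 (E6W), helper42 (LIFT, COMM), helper45 (D2),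
helper60 (UNIT), helper88 (COX); data on the 31671 points by helper19 (`helper19_M23Data`).

Part I: a subgroup `Ω8+(3)` given by root elements with the Steinberg relations, a triality element
normalising it and a transfer argument show that the kernel of a stem extension has no 3-torsion.
Part II: lifts of the ten generators conjugate along the tree of the diagram satisfy the Coxeter
relations, are rescaled so that the `E7` relator holds, and the spider relator holds because the lift
of the affine `E6` subgroup `3^5 : W(E6)` splits; so the extension splits and its kernel is trivial.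
-/

set_option autoImplicit false
open Cfsg

namespace Cfsg.Agent.S2054

open Cfsg.Spor Cfsg.Agent.Lib.Helper66_S96 Cfsg.Agent.Lib.Helper66_S92 Cfsg.Agent.Lib.Helper81_UceA
  Cfsg.Agent.Lib.Helper28_Fi23Order Cfsg.Agent.Lib.helper19_M23 Cfsg.Agent.Lib.helper19_M23Data

theorem m7_eq (i j : Fin 7) : m7 i j = coxLabel Fi23.edges (g7 i) (g7 j) := by
  revert i j; decide

theorem no14 : ¬ 3 ^ 14 ∣ Nat.card Spor.Fi23 := by
  have : Nat.card Spor.Fi23 = 4089470473293004800 := card_eq
  rw [this]; decide

theorem spider_rel :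
    (gen .d * gen .c * gen .b * gen .d * gen .e * gen .f * gen .d * gen .h * gen .i) ^ 10 = 1 := by
  have h : (Fi23.d * Fi23.c * Fi23.b * Fi23.d * Fi23.e * Fi23.f * Fi23.d * Fi23.h * Fi23.i) ^ 10 ∈
      coxRelators Fi23.edges ∪ {r | r ∈ Fi23.extra} := Or.inr (by simp [Fi23.extra])
  have := PresentedGroup.one_of_mem h
  simpa [PresentedGroup.of, gen] using this

/-- The Schur multiplier of the Fischer group Fi₂₃ (the finitely presented group of the definitions) is trivial; here the Schur multiplier is described through stem extensions, as in the definitions: surjective homomorphisms onto the group from a finite group, whose kernel is central in that finite group and contained in that finite group's commutator subgroup. -/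
theorem result : Cfsg.HasCyclicSchurMultiplier Cfsg.Spor.Fi23 1 := by
  haveI : Finite Spor.Fi23 := finiteG
  apply Cfsg.Agent.Lib.Helper66_Stem.hasCyclicSchurMultiplier_one
  intro Γ _ _ σ hσ
  have hC : CExt σ := ⟨hσ.1, hσ.2.1⟩
  obtain ⟨b, hb, hcox, h9⟩ := Cfsg.Agent.Lib.Helper10_M23_GOODv.exists_good_lifts σ hC
  have h3 : ∀ z ∈ σ.ker, z ^ 3 = 1 → z = 1 := by
    intro z hz hz3
    obtain ⟨m, hm, hzm⟩ := Cfsg.Agent.Lib.Helper11_M23_TRANSFER.three_part XS
      (Cfsg.Agent.Lib.Helper60_M23_UNIT.dStAB_of_unit R unitRel_R) xs_nc gT gT_cube gT_not_mem gT_norm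
      no14 σ hσ z hz
    have hcop : Nat.Coprime 3 m := (Nat.Prime.coprime_iff_not_dvd Nat.prime_three).mpr hm
    have h1 : orderOf z ∣ 3 := orderOf_dvd_of_pow_eq_one hz3
    have h2 : orderOf z ∣ m := orderOf_dvd_of_pow_eq_one hzm
    have h4 : orderOf z ∣ Nat.gcd 3 m := Nat.dvd_gcd h1 h2
    rw [hcop] at h4
    exact orderOf_eq_one_iff.mp (Nat.dvd_one.mp h4)
  let y : Fin 7 → Γ := fun i => b (g7 i)
  have hσy : ∀ i, σ (y i) = gen (g7 i) := fun i => hb _
  have hy : ∀ i j, (y i * y j) ^ m7 i j = 1 := by
    intro i j; rw [m7_eq]; exact hcox _ _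
  have hu : σ (uword y) = uword fun i => gen (g7 i) := by
    simp only [uword, map_mul, map_inv, hσy]
  have hrange : (fun i => σ (y i)) = fun i => gen (g7 i) := funext hσy
  have key := Cfsg.Agent.Lib.Helper45_M23_D2.d2 σ hσ.2.1 h3 y hy τ τ_cube τ_comm
    (by intro i k; rw [hσy]; exact τ_norm i k)
    (by rw [hσy, hu]; exact i_mem)
    (by rw [hrange]; exact card_S)
  have hmem : ∀ i, y i ∈ Subgroup.closure (Set.range y) := fun i => Subgroup.subset_closure ⟨i, rfl⟩
  have h10 : (b .d * b .c * b .b * b .d * b .e * b .f * b .d * b .h * b .i) ^ 10 = 1 := by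
    apply key
    · apply Subgroup.pow_mem
      have e0 : b .b = y 0 := rfl
      have e1 : b .h = y 1 := rfl
      have e2 : b .c = y 2 := rfl
      have e3 : b .d = y 3 := rfl
      have e4 : b .e = y 4 := rfl
      have e5 : b .f = y 5 := rfl
      have e6 : b .i = y 6 := rfl
      rw [e0, e1, e2, e3, e4, e5, e6]
      repeat' apply Subgroup.mul_mem
      all_goals exact hmem _
    · rw [map_pow]
      simp only [map_mul, hb]
      exact spider_rel
  exact Cfsg.Agent.Lib.Helper10_M23_SECTION.ker_eq_bot_of_good_lifts σ hσ b hb hcox h9 h10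

end Cfsg.Agent.S2054
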