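import Cfsg.Statements.S2065
import Cfsg.Agent.S2039
import Cfsg.Agent.Lib.Lead_J1OutPass0
import Cfsg.Agent.Lib.Lead_J1OutPass1
import Cfsg.Agent.Lib.Lead_J1OutPass2
import Cfsg.Agent.Lib.Lead_J1OutPass3
import Cfsg.Agent.Lib.Lead_J1OutPass4
import Cfsg.Agent.Lib.Lead_J1OutPass5

set_option autoImplicit false
open Cfsg
open Cfsg.Agent.Lib.Helper90_J1Core
open Cfsg.Agent.Lib.Helper90_J1Table
open Cfsg.Agent.Lib.Helper90_J1Data
open Cfsg.Agent.Lib.Helper90_J1Order
open Cfsg.Agent.Lib.Lead_J1Vec
open Cfsg.Agent.Lib.Lead_J1Cent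
open Cfsg.Agent.Lib.Lead_J1OutChk
open Cfsg.Agent.S2039 (el el_mul el_eq)
open scoped Pointwise

namespace Cfsg.Agent.S2065

/-! ### The test holds at every element -/

theorem chk_all {c j : ℕ} (hc : c < 660) (hj : j < 266) : chk c j = true := by
  rcases Nat.lt_or_ge c 110 with h | h
  · exact Cfsg.Agent.Lib.Lead_J1OutPass0.pass (Nat.zero_le c) h hj
  rcases Nat.lt_or_ge c 220 with h' | h'
  · exact Cfsg.Agent.Lib.Lead_J1OutPass1.pass h h' hj
  rcases Nat.lt_or_ge c 330 with h'' | h''
  · exact Cfsg.Agent.Lib.Lead_J1OutPass2.pass h' h'' hj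
  rcases Nat.lt_or_ge c 440 with h3 | h3
  · exact Cfsg.Agent.Lib.Lead_J1OutPass3.pass h'' h3 hj
  rcases Nat.lt_or_ge c 550 with h4 | h4
  · exact Cfsg.Agent.Lib.Lead_J1OutPass4.pass h3 h4 hj
  · exact Cfsg.Agent.Lib.Lead_J1OutPass5.pass h4 hc hj

/-! ### From the group to the matrices -/

/-- the matrix of an element of `J₁` -/
noncomputable def mat : ↥Spor.J1 →* M7 := (Units.coeHom M7).comp Spor.J1.subtype

theorem mat_apply (g : ↥Spor.J1) : mat g = ((g : GL (Fin 7) (ZMod 11)) : M7) := rfl

theorem mat_el (w : List ℕ) : mat (el w) = toMat (evalW w) := (toMat_evalW w).symm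

theorem mat_injective : Function.Injective mat := by
  intro g h hgh
  exact Subtype.ext (Units.ext hgh)

/-- the involution -/
noncomputable def t : ↥Spor.J1 := el TW

/-- the element of order three -/
noncomputable def b : ↥Spor.J1 := el BW

theorem mat_t : mat t = toMat tcode := by
  unfold t; rw [mat_el, TW_code]

theorem mat_b : mat b = toMat bcode := by
  unfold b; rw [mat_el, BW_code]

/-- the candidates for the image of `b` under an automorphism fixing `t` -/
theorem exists_conj (b' : ↥Spor.J1) (h3 : b' ^ 3 = 1) (h7 : (t * b') ^ 7 = 1)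
    (h19 : (t * b' * t * b' * b') ^ 19 = 1) : ∃ n : ↥Spor.J1, n * t = t * n ∧ n * b = b' * n := by
  obtain ⟨c, hc, j, hj, hg⟩ := J1_mem_cosets (b' : GL (Fin 7) (ZMod 11)) b'.2
  have hb' : mat b' = toMat (Ktab c) * toMat (Btab j) := hg
  have m3 : (toMat (Ktab c) * toMat (Btab j)) ^ 3 = 1 := by
    rw [← hb', ← map_pow, h3, map_one]
  have m7 : (toMat tcode * (toMat (Ktab c) * toMat (Btab j))) ^ 7 = 1 := by
    rw [← hb', ← mat_t, ← map_mul, ← map_pow, h7, map_one]
  have m19 : (toMat tcode * (toMat (Ktab c) * toMat (Btab j)) * toMat tcode *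
      (toMat (Ktab c) * toMat (Btab j)) * (toMat (Ktab c) * toMat (Btab j))) ^ 19 = 1 := by
    rw [← hb', ← mat_t, ← map_mul, ← map_mul, ← map_mul, ← map_mul, ← map_pow, h19, map_one]
  obtain ⟨i, hi, hcb⟩ := chk_sound (chk_all hc hj) m3 m7 m19
  obtain ⟨n, hn, hnT⟩ := table_mem_closure C_gen C_zero C_tree i hi
  have hnJ : n ∈ Spor.J1 := wordSet_subset_J1 _ _ hn
  have hmn : mat ⟨n, hnJ⟩ = toMat (Ctab i) := hnT
  refine ⟨⟨n, hnJ⟩, ?_, ?_⟩
  · apply mat_injective
    rw [map_mul, map_mul, hmn, mat_t, ← toMat_cmulR, ← toMat_cmulR,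
      Nat.eq_of_beq_eq_true (allLt_spec C_comm i hi)]
  · apply mat_injective
    rw [map_mul, map_mul, hmn, mat_b, hb', hcb]

/-! ### The involutions are conjugate -/

/-- the exponent of the conjugating power of `x` for the entries of the table of `P` -/
def kOf (i : ℕ) : ℕ :=
  Nat.rec (motive := fun _ => ℕ) 0 (fun i _ =>
    Nat.rec (motive := fun _ => ℕ) 1 (fun i _ =>
      Nat.rec (motive := fun _ => ℕ) 0 (fun i _ =>
        Nat.rec (motive := fun _ => ℕ) 4 (fun i _ =>
          Nat.rec (motive := fun _ => ℕ) 3 (fun i _ =>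
            Nat.rec (motive := fun _ => ℕ) 2 (fun i _ =>
              Nat.rec (motive := fun _ => ℕ) 5 (fun _ _ => 6) i) i) i) i) i) i) i

/-- the word of `x ^ k * t * x ^ (-k)` -/
def conjW (k : ℕ) : List ℕ := List.replicate k 0 ++ TW ++ List.replicate k 2

theorem Ptab_conj : ∀ i < 8, i ≠ 0 → Ptab i = evalW (conjW (kOf i)) := by
  intro i hi h0
  interval_cases i
  · exact absurd rfl h0
  all_goals decide +kernel

theorem replicate_cancel : ∀ k < 7, evalW (List.replicate k 0 ++ List.replicate k 2) = evalW [] := by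
  intro k hk
  interval_cases k <;> decide +kernel

theorem conj_el (k : ℕ) (hk : k < 7) :
    el (conjW k) = el (List.replicate k 0) * t * (el (List.replicate k 0))⁻¹ := by
  have h1 : el (List.replicate k 0) * el (List.replicate k 2) = 1 := by
    rw [el_mul]
    have := el_eq (replicate_cancel k hk)
    rw [this]
    rfl
  have h2 : (el (List.replicate k 0))⁻¹ = el (List.replicate k 2) :=
    inv_eq_of_mul_eq_one_right h1
  rw [h2]
  unfold conjW t
  rw [el_mul, el_mul]

theorem kOf_lt : ∀ i < 8, kOf i < 7 := by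
  intro i hi
  interval_cases i <;> decide

/-- the subgroup of order eight, inside `J₁` -/
noncomputable def P8s : Subgroup ↥Spor.J1 :=
  Subgroup.closure ({el S2039.E0, el S2039.E1, el S2039.E1 * el S2039.E2} : Set ↥Spor.J1)

theorem P8s_map : P8s.map Spor.J1.subtype = P8 := by
  unfold P8s
  rw [MonoidHom.map_closure]
  unfold P8
  congr 1
  ext g
  constructor
  · rintro ⟨h, (rfl | rfl | rfl), rfl⟩
    · exact ⟨1, by norm_num, rfl⟩
    · exact ⟨0, by norm_num, rfl⟩
    · refine ⟨2, by norm_num, ?_⟩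
      rw [S2039.rel_bc_eq]
      rfl
  · rintro ⟨l, hl, rfl⟩
    interval_cases l
    · exact ⟨el S2039.E1, by simp, rfl⟩
    · exact ⟨el S2039.E0, by simp, rfl⟩
    · refine ⟨el S2039.E1 * el S2039.E2, by simp, ?_⟩
      rw [S2039.rel_bc_eq]
      rfl

/-- the non-trivial elements of the subgroup of order eight are conjugate to `t` -/
theorem conj_of_mem_P8s (p : ↥Spor.J1) (hp : p ∈ P8s) (hp1 : p ≠ 1) :
    ∃ c : ↥Spor.J1, c * t * c⁻¹ = p := by
  have hp' : (p : GL (Fin 7) (ZMod 11)) ∈ P8 := by
    rw [← P8s_map]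
    exact ⟨p, hp, rfl⟩
  obtain ⟨i, hi, hpi⟩ := closure_mem_table P_gen (by norm_num : 0 < 8) P_zero P_closed _ hp'
  have hmp : mat p = toMat (Ptab i) := hpi
  have hi0 : i ≠ 0 := by
    rintro rfl
    apply hp1
    apply mat_injective
    rw [hmp, P_zero, toMat_cone, map_one]
  refine ⟨el (List.replicate (kOf i) 0), ?_⟩
  rw [← conj_el (kOf i) (kOf_lt i hi)]
  apply mat_injective
  rw [hmp, mat_el, Ptab_conj i hi hi0]

theorem t_ne_one : t ≠ 1 := by
  intro h
  have h1 : mat t = 1 := by rw [h, map_one]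
  rw [mat_t] at h1
  have h2 : cnorm tcode ≠ cnorm cone := by decide +kernel
  exact toMat_ne h2 (by rw [h1, toMat_cone])

theorem t_mul_t : t * t = 1 := by
  unfold t
  rw [el_mul]
  have := el_eq (show evalW (TW ++ TW) = evalW [] by decide +kernel)
  rw [this]
  rfl

theorem card_P8s : Nat.card ↥P8s = 8 := S2039.card_closure_eight

/-- every involution is conjugate to `t` -/
theorem conj_involution (z : ↥Spor.J1) (hz : z * z = 1) (hz1 : z ≠ 1) :
    ∃ c : ↥Spor.J1, c * t * c⁻¹ = z := by
  have : Finite ↥Spor.J1 := S2039.finite_J1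
  have : Fact (Nat.Prime 2) := ⟨by norm_num⟩
  have hfac : (Nat.card ↥Spor.J1).factorization 2 = 3 := by
    rw [card_J1, show (175560 : ℕ) = 2 ^ 3 * 21945 from rfl,
      Nat.factorization_mul (by norm_num) (by norm_num), Nat.Prime.factorization_pow Nat.prime_two]
    simp [Nat.factorization_eq_zero_of_not_dvd (show ¬ 2 ∣ 21945 by norm_num)]
  let P : Sylow 2 ↥Spor.J1 := Sylow.ofCard P8s (by rw [card_P8s, hfac]; rfl)
  have hoz : orderOf z = 2 := orderOf_eq_prime (by rw [pow_two]; exact hz) hz1
  have hpg : IsPGroup 2 ↥(Subgroup.zpowers z) :=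
    IsPGroup.of_card (n := 1) (by rw [Nat.card_zpowers, hoz, pow_one])
  obtain ⟨Q, hQ⟩ := hpg.exists_le_sylow
  obtain ⟨g, hg⟩ := MulAction.exists_smul_eq ↥Spor.J1 Q P
  have hzQ : z ∈ (Q : Subgroup ↥Spor.J1) := hQ (Subgroup.mem_zpowers z)
  have hgz : g * z * g⁻¹ ∈ P8s := by
    have h1 : MulAut.conj g • z ∈ MulAut.conj g • (Q : Subgroup ↥Spor.J1) :=
      Subgroup.smul_mem_pointwise_smul _ _ _ hzQ
    have h2 : (MulAut.conj g • (Q : Subgroup ↥Spor.J1)) = ((g • Q : Sylow 2 ↥Spor.J1) : Subgroup ↥Spor.J1) :=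
      rfl
    rw [h2, hg] at h1
    exact h1
  have hne : g * z * g⁻¹ ≠ 1 := by
    intro h
    apply hz1
    have : z = g⁻¹ * (g * z * g⁻¹) * g := by group
    rw [this, h]; group
  obtain ⟨c, hc⟩ := conj_of_mem_P8s _ hgz hne
  refine ⟨g⁻¹ * c, ?_⟩
  have : z = g⁻¹ * (g * z * g⁻¹) * g := by group
  rw [this, ← hc]; group

/-! ### Generation -/

/-- substitution of the words of `t` and `b` in a word in two letters -/
def sub : List Bool → List ℕ
  | [] => []
  | l :: w => (bif l then TW else BW) ++ sub w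

theorem evalG_sub_mem (w : List Bool) :
    evalG (sub w) ∈ Subgroup.closure ({evalG TW, evalG BW} : Set (GL (Fin 7) (ZMod 11))) := by
  induction w with
  | nil =>
    have : evalG (sub []) = 1 := by simp [sub, evalG]
    rw [this]; exact Subgroup.one_mem _
  | cons l w ih =>
    show evalG ((bif l then TW else BW) ++ sub w) ∈ _
    rw [evalG_append]
    apply Subgroup.mul_mem _ _ ih
    cases l
    · exact Subgroup.subset_closure (by simp)
    · exact Subgroup.subset_closure (by simp)

/-- the word of `x` in `t` and `b` -/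
def wx : List Bool := [false, false, true, false, true, false, true, false, false, true, false, true, false, false, true, false, true, false, false, true, false, true, false, true, false, false, true, false, true, false, true, false, false, true]

/-- the word of `y` in `t` and `b` -/
def wy : List Bool := [true, false, false, true, false, true, false, true, false, false, true, false, true, false, true, false, false, true, false, false, true, false, true, false, true, false, false, true, false, true, false, false, true, false, true, false, false, true, false, true, false, true, false, false]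

theorem wx_code : evalW [0] = evalW (sub wx) := by decide +kernel

theorem wy_code : evalW [1] = evalW (sub wy) := by decide +kernel

theorem J1_le : Spor.J1 ≤
    Subgroup.closure ({evalG TW, evalG BW} : Set (GL (Fin 7) (ZMod 11))) := by
  unfold Spor.J1
  rw [Subgroup.closure_le]
  rintro g (rfl | rfl)
  · have e : Spor.jankoX = evalG [0] := by simp [evalG, glet]
    rw [e, evalG_eq_of_code wx_code]
    exact evalG_sub_mem wx
  · have e : Spor.jankoY = evalG [1] := by simp [evalG, glet]
    rw [e, evalG_eq_of_code wy_code]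
    exact evalG_sub_mem wy

theorem closure_t_b : Subgroup.closure ({t, b} : Set ↥Spor.J1) = ⊤ := by
  rw [eq_top_iff]
  intro g _
  have h1 : (g : GL (Fin 7) (ZMod 11)) ∈
      (Subgroup.closure ({t, b} : Set ↥Spor.J1)).map Spor.J1.subtype := by
    rw [MonoidHom.map_closure, Set.image_pair]
    exact J1_le g.2
  obtain ⟨h, hh, hhg⟩ := h1
  have : h = g := Subtype.ext hhg
  rw [← this]; exact hh

/-! ### The automorphisms -/

theorem aut_inner (α : MulAut ↥Spor.J1) : ∃ c : ↥Spor.J1, α = MulAut.conj c := by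
  have hz : α t * α t = 1 := by rw [← map_mul, t_mul_t, map_one]
  have hz1 : α t ≠ 1 := by
    intro h
    apply t_ne_one
    apply α.injective
    rw [h, map_one]
  obtain ⟨c, hc⟩ := conj_involution (α t) hz hz1
  set β : MulAut ↥Spor.J1 := (MulAut.conj c)⁻¹ * α with hβ
  have hβt : β t = t := by
    show (MulAut.conj c)⁻¹ (α t) = t
    rw [← hc, ← map_inv, MulAut.conj_apply]
    group
  -- the relations
  have r3 : b ^ 3 = 1 := by
    unfold b
    rw [pow_succ, pow_two, el_mul, el_mul]
    have := el_eq (show evalW (BW ++ BW ++ BW) = evalW [] by decide +kernel)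
    rw [this]; rfl
  have r7 : (t * b) ^ 7 = 1 := by
    apply mat_injective
    have e : cpow (cmulR tcode bcode) 7 = cone := by decide +kernel
    rw [map_pow, map_mul, mat_t, mat_b, map_one, ← toMat_cmulR, ← toMat_cpow, ← toMat_cone, e]
  have r19 : (t * b * t * b * b) ^ 19 = 1 := by
    apply mat_injective
    have e : cpow (cmulR (cmulR (cmulR (cmulR tcode bcode) tcode) bcode) bcode) 19 = cone := by
      decide +kernel
    rw [map_pow, map_mul, map_mul, map_mul, map_mul, mat_t, mat_b, map_one, ← toMat_cmulR,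
      ← toMat_cmulR, ← toMat_cmulR, ← toMat_cmulR, ← toMat_cpow, ← toMat_cone, e]
  have s3 : (β b) ^ 3 = 1 := by rw [← map_pow, r3, map_one]
  have s7 : (t * β b) ^ 7 = 1 := by
    have := congrArg β r7
    rwa [map_pow, map_mul, hβt, map_one] at this
  have s19 : (t * β b * t * β b * β b) ^ 19 = 1 := by
    have := congrArg β r19
    rwa [map_pow, map_mul, map_mul, map_mul, map_mul, hβt, map_one] at this
  obtain ⟨n, hnt, hnb⟩ := exists_conj (β b) s3 s7 s19
  have hβn : β = MulAut.conj n := by
    have h : (β : ↥Spor.J1 ≃* ↥Spor.J1).toMonoidHom =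
        (MulAut.conj n : ↥Spor.J1 ≃* ↥Spor.J1).toMonoidHom := by
      apply MonoidHom.eq_of_eqOn_dense closure_t_b
      intro x hx
      rcases hx with rfl | rfl
      · show β t = n * t * n⁻¹
        rw [hβt, hnt]; group
      · show β b = n * b * n⁻¹
        rw [hnb]; group
    apply MulEquiv.ext
    intro x
    exact DFunLike.congr_fun h x
  refine ⟨c * n, ?_⟩
  rw [map_mul, ← hβn, hβ, mul_inv_cancel_left]

/-- The outer automorphism group of the Janko group J₁ (the group generated by two explicit 7 × 7 matrices over the integers modulo 11) is trivial: every automorphism is inner. -/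
theorem result : Nat.card (Cfsg.Out ↥Cfsg.Spor.J1) = 1 := by
  have htop : Cfsg.Inn ↥Cfsg.Spor.J1 = ⊤ := by
    rw [eq_top_iff]
    intro α _
    obtain ⟨c, rfl⟩ := aut_inner α
    exact ⟨c, rfl⟩
  show (Cfsg.Inn ↥Cfsg.Spor.J1).index = 1
  rw [htop]
  exact Subgroup.index_top

end Cfsg.Agent.S2065
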