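import Cfsg.Statements.S2066
import Cfsg.Agent.Lib.Helper7_J2OutSigma

set_option autoImplicit false
open Cfsg

namespace Cfsg.Agent.S2066

open Cfsg.Agent.Lib.Helper26_Ico Cfsg.Agent.Lib.Helper7_J2Out

/-- Conjugation is injective on `J₂` (trivial centre). -/
theorem conj_injective : Function.Injective (MulAut.conj : Cfsg.Spor.J2 →* MulAut Cfsg.Spor.J2) := by
  have hs := J2_simple
  have hc : Subgroup.center Cfsg.Spor.J2 = ⊥ := by
    rcases (Subgroup.center Cfsg.Spor.J2).normal_of_characteristic.eq_bot_or_eq_top with h | h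
    · exact h
    · exfalso
      obtain ⟨a, b, hab⟩ := J2_noncomm
      have ha : a ∈ Subgroup.center Cfsg.Spor.J2 := by rw [h]; exact Subgroup.mem_top a
      exact hab ((Subgroup.mem_center_iff.1 ha b).symm)
  rw [injective_iff_map_eq_one]
  intro g hg
  have : g ∈ Subgroup.center Cfsg.Spor.J2 := by
    rw [Subgroup.mem_center_iff]
    intro x
    have := DFunLike.congr_fun hg x
    rw [MulAut.conj_apply, MulAut.one_apply] at this
    calc x * g = g * x * g⁻¹ * g := by rw [this]
      _ = g * x := by group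
  rw [hc] at this
  exact Subgroup.mem_bot.1 this

/-- The outer automorphism group of the Hall–Janko group J₂ (the icosian reflection group modulo its centre) has order 2. -/
theorem result : Nat.card (Cfsg.Out Cfsg.Spor.J2) = 2 := by
  have hInn : Nat.card (Cfsg.Inn Cfsg.Spor.J2) = 604800 := by
    rw [← card_J2]
    exact (Nat.card_congr (MonoidHom.ofInjective conj_injective).toEquiv).symm
  have hmul := Subgroup.card_mul_index (Cfsg.Inn Cfsg.Spor.J2)
  have hle := card_aut_le
  rw [hInn] at hmul
  show (Cfsg.Inn Cfsg.Spor.J2).index = 2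
  have hne1 : (Cfsg.Inn Cfsg.Spor.J2).index ≠ 1 := by
    intro h
    rw [Subgroup.index_eq_one] at h
    obtain ⟨σ, hσ⟩ := exists_outer
    apply hσ
    rw [h]
    exact Subgroup.mem_top σ
  have hne0 : (Cfsg.Inn Cfsg.Spor.J2).index ≠ 0 := by
    intro h
    rw [h, mul_zero] at hmul
    have : Nat.card (MulAut Cfsg.Spor.J2) ≠ 0 := Nat.card_pos.ne'
    exact this hmul.symm
  have hle2 : 604800 * (Cfsg.Inn Cfsg.Spor.J2).index ≤ 604800 * 2 := by
    rw [hmul]
    exact hle
  have := Nat.le_of_mul_le_mul_left hle2 (by norm_num)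
  omega

end Cfsg.Agent.S2066
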