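import Cfsg.Statements.S2069
import Cfsg.Agent.Lib.Helper92_Co1Neg
import Cfsg.Agent.Lib.Helper92_OutNorm3
import Cfsg.Agent.S0397

/-!
The outer automorphism group of the automorphism group of the rank-24 lattice modulo its centre is
trivial.

Write `G` for the quotient (of order `23 · 180772904632320000`) and `a, d, c, b, e, z` for the
images of the coordinate permutations `x ↦ x + 1`, `x ↦ 2x`, the cube twist, `x ↦ -1/x`, the sign
change on the squares and a non-monomial involution.  The centraliser of `a` in `G` is `⟨a⟩`, the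
centraliser of `d` is `⟨d⟩ × {1, e, z, ez, ze, eze}` (`Helper92_Co1Cent`); relations
(`Helper92_Rep`) and inequalities (`Helper92_Co1Neg`) pin down the images of the six elements under
an automorphism up to an inner one (`Helper92_OutNorm3.normalize6`).  They generate `G`: the
subgroup they generate contains the image of the stabiliser of `(-3, 1^23)` (of index `98280`) and
the normalisers of `⟨a⟩` and `⟨d⟩`, so its index divides `98280` and is congruent to `1` modulo `23`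
and `11`.
-/

set_option autoImplicit false
set_option linter.constructorNameAsVariable false
open Cfsg
open scoped Pointwise

namespace Cfsg.Agent.S2069

open Cfsg.Agent.Lib.Helper7_M24 Cfsg.Agent.Lib.Helper7_Leech Cfsg.Agent.Lib.Helper92_Monomial
  Cfsg.Agent.Lib.Helper92_Co0Order Cfsg.Agent.Lib.Helper7_Mono Cfsg.Agent.Lib.Helper92_FixMono
  Cfsg.Agent.Lib.Helper92_FixLat Cfsg.Agent.Lib.Helper92_ZElt Cfsg.Agent.Lib.Helper92_QuadAut
  Cfsg.Agent.Lib.Helper93_OutM24 Cfsg.Agent.Lib.Helper93_M24Obj Cfsg.Agent.Lib.Helper92_Co3Cent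
  Cfsg.Agent.Lib.Helper92_Co2Cent Cfsg.Agent.Lib.Helper92_Co3Gen Cfsg.Agent.Lib.Helper92_Co2Gen
  Cfsg.Agent.Lib.Helper92_Rep Cfsg.Agent.Lib.Helper92_Co1Cent Cfsg.Agent.Lib.Helper92_Co1Neg
  Cfsg.Agent.Lib.Helper92_OutNorm2 Cfsg.Agent.Lib.Helper92_OutNorm3 Cfsg.Agent.Lib.Helper93_OutAbs
open Cfsg.Agent.S5546 (Lam vec8 e8)
open Cfsg.Spor (vecV vecU vecU' leechU leechU' leechV)
open Cfsg.Agent.S0398 (negElt negElt_mem_center center_cases negElt_ne_one)
open MulAction

/-! ### the quotient map -/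

/-- The quotient map. -/
noncomputable def qm : ↥Co0 →* Cfsg.Spor.Co1 := QuotientGroup.mk' (Subgroup.center ↥Co0)

theorem qm_surj : Function.Surjective qm := QuotientGroup.mk'_surjective _

theorem qm_negElt : qm negElt = 1 :=
  (QuotientGroup.eq_one_iff _).mpr negElt_mem_center

theorem qm_neg_mul (g : ↥Co0) : qm (negElt * g) = qm g := by
  rw [map_mul, qm_negElt, one_mul]

theorem qm_eq_iff (x y : ↥Co0) : qm x = qm y ↔ x = y ∨ x = negElt * y := by
  constructor
  · intro h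
    have h1 : x⁻¹ * y ∈ Subgroup.center ↥Co0 := QuotientGroup.eq.mp h
    rcases center_cases _ h1 with h2 | h2
    · left
      have : y = x := by
        calc y = x * (x⁻¹ * y) := by group
          _ = x := by rw [h2, mul_one]
      exact this.symm
    · right
      have : y = x * negElt := by
        calc y = x * (x⁻¹ * y) := by group
          _ = x * negElt := by rw [h2]
      rw [this, ← negElt_comm x, ← mul_assoc, negElt_sq, one_mul]
  · rintro (rfl | rfl)
    · rfl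
    · rw [qm_neg_mul]

theorem qm_eq_one_iff (x : ↥Co0) : qm x = 1 ↔ x = 1 ∨ x = negElt := by
  have := qm_eq_iff x 1
  rw [map_one, mul_one] at this
  exact this

theorem card_Co1 : Nat.card Cfsg.Spor.Co1 = 4157776806543360000 := by
  have h := Subgroup.card_eq_card_quotient_mul_card_subgroup (Subgroup.center ↥Co0)
  rw [Cfsg.Agent.S0397.result, Cfsg.Agent.S0398.result] at h
  have h2 : Nat.card Cfsg.Spor.Co1 = Nat.card (↥Co0 ⧸ Subgroup.center ↥Co0) := rfl
  omega

instance : Finite Cfsg.Spor.Co1 := Nat.finite_of_card_ne_zero (by rw [card_Co1]; norm_num)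

/-! ### relations in the lattice group -/

theorem PA_pow : PA ^ 23 = 1 := by
  rw [PA_eq, ← map_pow, show mA ^ 23 = 1 from Subtype.ext gA_pow, map_one]

theorem PD_pow : PD ^ 11 = 1 := by
  rw [PD_eq, ← map_pow, show mD ^ 11 = 1 from Subtype.ext gD_pow, map_one]

theorem gC_pow : gC ^ 5 = 1 :=
  (eq_one_iff (repF_npow gC_rep 5)).mpr (by decide +kernel)

theorem PC_pow : PC ^ 5 = 1 := by
  rw [PC_eq, ← map_pow, show mC ^ 5 = 1 from Subtype.ext gC_pow, map_one]

theorem rel0_DA : PD * PA * PD⁻¹ = PA ^ 2 := by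
  rw [PA_eq, PD_eq, ← map_inv, ← map_mul, ← map_mul, ← map_pow,
    show mD * mA * mD⁻¹ = mA ^ 2 from Subtype.ext rel_DA]

theorem rel0_CD : PC * PD * PC⁻¹ = PD ^ 3 := by
  rw [PC_eq, PD_eq, ← map_inv, ← map_mul, ← map_mul, ← map_pow,
    show mC * mD * mC⁻¹ = mD ^ 3 from Subtype.ext rel_CD]

theorem rel0_AC6 : (PA * PC) ^ 6 = 1 := by
  rw [PA_eq, PC_eq, ← map_mul, ← map_pow, show (mA * mC) ^ 6 = 1 from Subtype.ext rel_AC6,
    map_one]

theorem rel0_ACC5 : (PA * PC ^ 2) ^ 5 = 1 := by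
  rw [PA_eq, PC_eq, ← map_pow, ← map_mul, ← map_pow,
    show (mA * mC ^ 2) ^ 5 = 1 from Subtype.ext rel_ACC5, map_one]

theorem perm_ne_neg (σ : ↥M24) : perm σ ≠ negElt := by
  intro h
  have e : perm σ • e8 none = negElt • e8 none := by rw [h]
  rw [perm_e8, negElt_smul'] at e
  have e2 : ((e8 (σ.1 none) : Lam) : GolayPt → ℤ) (σ.1 none) =
      ((-e8 none : Lam) : GolayPt → ℤ) (σ.1 none) := congrArg (fun w : Lam => w.1 (σ.1 none)) e
  have e3 : ((e8 (σ.1 none) : Lam) : GolayPt → ℤ) (σ.1 none) = 8 := by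
    show vec8 (σ.1 none) (σ.1 none) = 8
    unfold vec8
    rw [if_pos rfl]
  have e4 : ((-e8 none : Lam) : GolayPt → ℤ) (σ.1 none) = -(vec8 none (σ.1 none)) := rfl
  rw [e3, e4] at e2
  unfold vec8 at e2
  split_ifs at e2
  omega

theorem PA_ne_one : PA ≠ 1 := by
  intro h
  apply PA_UL'
  rw [h, one_smul]

theorem rel0_BE : PB * EQ = negElt * (EQ * PB) := by
  have r1 : Rep (PB * EQ) (MB * ME) 1 := (rep_PB.mul rep_EQ).congr rfl (by norm_num)
  have r2 : Rep (negElt * (EQ * PB)) (-(ME * MB)) 1 :=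
    ((rep_EQ.mul rep_PB).congr rfl (by norm_num)).neg
  have e : MB * ME = -(ME * MB) := by decide +kernel
  exact Rep.ext (by norm_num) (r1.congr e rfl) r2

theorem rel0_EA : EQ * (PA * EQ * PA⁻¹) = (PA * EQ * PA⁻¹) * EQ := by
  have : PA * EQ * PA⁻¹ = eps (act mA eQ) := perm_conj_eps mA eQ
  rw [this]
  exact eps_comm _ _

theorem pow_odd_negElt (n : ℕ) (hn : Odd n) : negElt ^ n = negElt := by
  obtain ⟨k, rfl⟩ := hn
  rw [pow_succ, pow_mul, pow_two, negElt_sq, one_pow, one_mul]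

/-- A conjugate of an element of odd order `n` is not the negative of an element of order `n`. -/
theorem no_neg_conj (n : ℕ) (hn : Odd n) (x y g : ↥Co0) (hx : x ^ n = 1) (hy : y ^ n = 1)
    (h : g * x * g⁻¹ = negElt * y) : False := by
  have h1 : (g * x * g⁻¹) ^ n = 1 := by rw [conj_pow, hx, mul_one, mul_inv_cancel]
  have hc : Commute negElt y := negElt_comm y
  rw [h, hc.mul_pow, hy, mul_one, pow_odd_negElt n hn] at h1
  exact negElt_ne_one h1

/-! ### the six elements of the quotient -/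

noncomputable def a1 : Cfsg.Spor.Co1 := qm PA
noncomputable def d1 : Cfsg.Spor.Co1 := qm PD
noncomputable def c1 : Cfsg.Spor.Co1 := qm PC
noncomputable def b1 : Cfsg.Spor.Co1 := qm PB
noncomputable def e1 : Cfsg.Spor.Co1 := qm EQ
noncomputable def z1 : Cfsg.Spor.Co1 := qm zE

theorem a1_pow : a1 ^ 23 = 1 := by
  show qm PA ^ 23 = 1
  rw [← map_pow, PA_pow, map_one]

theorem a1_ne : a1 ≠ 1 := by
  intro h
  rcases (qm_eq_one_iff PA).mp h with h | h
  · exact PA_ne_one h
  · exact perm_ne_neg mA h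

theorem d1_pow : d1 ^ 11 = 1 := by
  show qm PD ^ 11 = 1
  rw [← map_pow, PD_pow, map_one]

theorem c1_pow : c1 ^ 5 = 1 := by
  show qm PC ^ 5 = 1
  rw [← map_pow, PC_pow, map_one]

theorem rel1_DA : d1 * a1 * d1⁻¹ = a1 ^ 2 := by
  show qm PD * qm PA * (qm PD)⁻¹ = qm PA ^ 2
  rw [← map_inv, ← map_mul, ← map_mul, ← map_pow, rel0_DA]

theorem rel1_CD : c1 * d1 * c1⁻¹ = d1 ^ 3 := by
  show qm PC * qm PD * (qm PC)⁻¹ = qm PD ^ 3
  rw [← map_inv, ← map_mul, ← map_mul, ← map_pow, rel0_CD]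

theorem rel1_AC6 : (a1 * c1) ^ 6 = 1 := by
  show (qm PA * qm PC) ^ 6 = 1
  rw [← map_mul, ← map_pow, rel0_AC6, map_one]

theorem rel1_ACC5 : (a1 * c1 ^ 2) ^ 5 = 1 := by
  show (qm PA * qm PC ^ 2) ^ 5 = 1
  rw [← map_pow, ← map_mul, ← map_pow, rel0_ACC5, map_one]

theorem e1_sq : e1 * e1 = 1 := by
  show qm EQ * qm EQ = 1
  rw [← map_mul, show EQ * EQ = 1 from eps_mul_self eQ, map_one]

theorem z1_sq : z1 * z1 = 1 := by
  show qm zE * qm zE = 1
  rw [← map_mul, zE_sq, map_one]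

theorem rel1_EZ3 : (e1 * z1) ^ 3 = 1 := by
  show (qm EQ * qm zE) ^ 3 = 1
  rw [← map_mul, ← map_pow, rel_EZ3, qm_negElt]

theorem e1_ne : e1 ≠ 1 := by
  intro h
  rcases (qm_eq_one_iff EQ).mp h with h | h
  · exact EQ_ne.1 h
  · exact EQ_ne.2 h

theorem z1_ne : z1 ≠ 1 := by
  intro h
  rcases (qm_eq_one_iff zE).mp h with h | h
  · exact zE_ne.1 h
  · exact zE_ne.2 h

theorem e1_ne_z1 : e1 ≠ z1 := by
  intro h
  rcases (qm_eq_iff EQ zE).mp h with h | h
  · exact EQ_ne_zE.1 h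
  · exact EQ_ne_zE.2 h

theorem rel1_ED : e1 * d1 = d1 * e1 := by
  show qm EQ * qm PD = qm PD * qm EQ
  rw [← map_mul, ← map_mul, EQ_PD]

theorem rel1_EC : e1 * c1 = c1 * e1 := by
  show qm EQ * qm PC = qm PC * qm EQ
  rw [← map_mul, ← map_mul, EQ_PC]

theorem rel1_ZD : z1 * d1 = d1 * z1 := by
  show qm zE * qm PD = qm PD * qm zE
  rw [← map_mul, ← map_mul, zE_PD]

theorem rel1_ZC : z1 * c1 = c1 * z1 := by
  show qm zE * qm PC = qm PC * qm zE
  rw [← map_mul, ← map_mul, zE_PC]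

theorem rel1_BD : b1 * d1 * b1⁻¹ = d1⁻¹ := by
  show qm PB * qm PD * (qm PB)⁻¹ = (qm PD)⁻¹
  rw [← map_inv, ← map_mul, ← map_mul, ← map_inv, PB_PD]

theorem rel1_BC : b1 * c1 = c1 * b1 := by
  show qm PB * qm PC = qm PC * qm PB
  rw [← map_mul, ← map_mul, PB_PC]

theorem rel1_BE : b1 * e1 = e1 * b1 := by
  show qm PB * qm EQ = qm EQ * qm PB
  rw [← map_mul, ← map_mul, rel0_BE, qm_neg_mul]

theorem rel1_BZ : b1 * z1 = e1 * z1 * e1 * b1 := by
  show qm PB * qm zE = qm EQ * qm zE * qm EQ * qm PB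
  rw [← map_mul, ← map_mul, ← map_mul, ← map_mul, rel_BZ, qm_neg_mul]

theorem rel1_EA : e1 * (a1 * e1 * a1⁻¹) = (a1 * e1 * a1⁻¹) * e1 := by
  show qm EQ * (qm PA * qm EQ * (qm PA)⁻¹) = (qm PA * qm EQ * (qm PA)⁻¹) * qm EQ
  rw [← map_inv, ← map_mul, ← map_mul, ← map_mul, ← map_mul, rel0_EA]

theorem rel1_AZ12 : (a1 * z1) ^ 12 = 1 := by
  show (qm PA * qm zE) ^ 12 = 1
  rw [← map_mul, ← map_pow, rel_AZ12, map_one]

theorem ne1_Z : z1 * (a1 * z1 * a1⁻¹) ≠ (a1 * z1 * a1⁻¹) * z1 := by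
  show qm zE * (qm PA * qm zE * (qm PA)⁻¹) ≠ (qm PA * qm zE * (qm PA)⁻¹) * qm zE
  rw [← map_inv, ← map_mul, ← map_mul, ← map_mul, ← map_mul]
  intro h
  rcases (qm_eq_iff _ _).mp h with h | h
  · exact neg1.1 h
  · exact neg1.2 h

theorem ne1_W : (e1 * z1 * e1) * (a1 * (e1 * z1 * e1) * a1⁻¹) ≠
    (a1 * (e1 * z1 * e1) * a1⁻¹) * (e1 * z1 * e1) := by
  show (qm EQ * qm zE * qm EQ) * (qm PA * (qm EQ * qm zE * qm EQ) * (qm PA)⁻¹) ≠
    (qm PA * (qm EQ * qm zE * qm EQ) * (qm PA)⁻¹) * (qm EQ * qm zE * qm EQ)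
  simp only [← map_inv, ← map_mul]
  intro h
  rcases (qm_eq_iff _ _).mp h with h | h
  · exact neg2.1 h
  · exact neg2.2 h

theorem ne1_AW : (a1 * (e1 * z1 * e1)) ^ 12 ≠ 1 := by
  show (qm PA * (qm EQ * qm zE * qm EQ)) ^ 12 ≠ 1
  simp only [← map_mul, ← map_pow]
  intro h
  rcases (qm_eq_one_iff _).mp h with h | h
  · exact neg3.1 h
  · exact neg3.2 h

/-! ### centralisers in the quotient -/

theorem hyp1_Ca (x : Cfsg.Spor.Co1) (h : x * a1 = a1 * x) : x ∈ Subgroup.zpowers a1 := by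
  obtain ⟨g, rfl⟩ := qm_surj x
  have h' : qm (g * PA) = qm (PA * g) := by rw [map_mul, map_mul]; exact h
  rcases (qm_eq_iff _ _).mp h' with h2 | h2
  · rcases cent_PA_cases g h2 with h3 | h3
    · obtain ⟨n, hn⟩ := Subgroup.mem_zpowers_iff.1 h3
      rw [← hn, map_zpow]
      exact Subgroup.zpow_mem_zpowers _ n
    · obtain ⟨n, hn⟩ := Subgroup.mem_zpowers_iff.1 h3
      rw [← qm_neg_mul g, ← hn, map_zpow]
      exact Subgroup.zpow_mem_zpowers _ n
  · exfalso
    apply no_neg_conj 23 (by decide) PA PA g PA_pow PA_pow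
    rw [h2]
    group

theorem S6_of_IsS6 (t : ↥Co0) (ht : IsS6 t) : qm t ∈ S6 e1 z1 := by
  rcases ht with rfl | rfl | rfl | rfl | rfl | rfl
  · rw [map_one]; exact one_mem_S6
  · exact e_mem_S6
  · exact z_mem_S6
  · rw [map_mul]; exact ez_mem_S6
  · rw [map_mul]; exact ze_mem_S6
  · rw [map_mul, map_mul]; exact eze_mem_S6

theorem hyp1_Cd (x : Cfsg.Spor.Co1) (h : x * d1 = d1 * x) :
    ∃ n < 11, ∃ t ∈ S6 e1 z1, x = d1 ^ n * t := by
  obtain ⟨g, rfl⟩ := qm_surj x
  have h' : qm (g * PD) = qm (PD * g) := by rw [map_mul, map_mul]; exact h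
  rcases (qm_eq_iff _ _).mp h' with h2 | h2
  · obtain ⟨t, ht, n, hg⟩ := cent_PD_cases g h2
    have hq : qm g = qm t * d1 ^ n := by
      rcases hg with hg | hg
      · rw [hg, map_mul, map_zpow]; rfl
      · rw [hg, qm_neg_mul, map_mul, map_zpow]; rfl
    have hcomm : qm t * d1 ^ n = d1 ^ n * qm t := by
      have : Commute (qm t) d1 := by
        show qm t * qm PD = qm PD * qm t
        rw [← map_mul, ← map_mul, comm_PD_of_S6 t ht]
      exact this.zpow_right n
    obtain ⟨m, hm, hdm⟩ := exists_pow_lt d1_pow (Subgroup.zpow_mem_zpowers d1 n)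
    refine ⟨m, hm, qm t, S6_of_IsS6 t ht, ?_⟩
    rw [hq, hcomm, hdm]
  · exfalso
    apply no_neg_conj 11 (by decide) PD PD g PD_pow PD_pow
    rw [h2]
    group

theorem permHom_ne_neg (σ : ↥M24) : permHom σ ≠ negElt := perm_ne_neg σ

theorem hyp1_pin (k : ℕ) (hk : k ∈ ([1, 22] : List ℕ)) (i : ℕ) (hi : i < 11)
    (h6 : (a1 ^ k * (c1 * d1 ^ i)) ^ 6 = 1)
    (h5 : (a1 ^ k * (c1 * d1 ^ i) ^ 2) ^ 5 = 1) : k = 1 ∧ i = 0 := by
  have e6 : qm (permHom ((mA ^ k * (mC * mD ^ i)) ^ 6)) = 1 := by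
    simp only [map_pow, map_mul]
    exact h6
  have e5 : qm (permHom ((mA ^ k * (mC * mD ^ i) ^ 2) ^ 5)) = 1 := by
    simp only [map_pow, map_mul]
    exact h5
  have f6 : (mA ^ k * (mC * mD ^ i)) ^ 6 = 1 := by
    rcases (qm_eq_one_iff _).mp e6 with h | h
    · apply permHom_inj
      rw [h, map_one]
    · exact absurd h (permHom_ne_neg _)
  have f5 : (mA ^ k * (mC * mD ^ i) ^ 2) ^ 5 = 1 := by
    rcases (qm_eq_one_iff _).mp e5 with h | h
    · apply permHom_inj
      rw [h, map_one]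
    · exact absurd h (permHom_ne_neg _)
  exact pin k hk i hi (congrArg Subtype.val f6) (congrArg Subtype.val f5)

/-! ### generation -/

/-- The subgroup of the lattice group generated by the six elements. -/
def Kt : Subgroup ↥Co0 := Subgroup.closure {PA, PD, PC, PB, EQ, zE}

/-- The subgroup of the quotient generated by the six elements. -/
def KB : Subgroup Cfsg.Spor.Co1 := Subgroup.closure {a1, d1, c1, b1, e1, z1}

theorem PA_memK : PA ∈ Kt := Subgroup.subset_closure (by simp)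
theorem PD_memK : PD ∈ Kt := Subgroup.subset_closure (by simp)
theorem PC_memK : PC ∈ Kt := Subgroup.subset_closure (by simp)
theorem PB_memK : PB ∈ Kt := Subgroup.subset_closure (by simp)
theorem EQ_memK : EQ ∈ Kt := Subgroup.subset_closure (by simp)
theorem zE_memK : zE ∈ Kt := Subgroup.subset_closure (by simp)

theorem a1_memK : a1 ∈ KB := Subgroup.subset_closure (by simp)
theorem d1_memK : d1 ∈ KB := Subgroup.subset_closure (by simp)
theorem c1_memK : c1 ∈ KB := Subgroup.subset_closure (by simp)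
theorem b1_memK : b1 ∈ KB := Subgroup.subset_closure (by simp)
theorem e1_memK : e1 ∈ KB := Subgroup.subset_closure (by simp)
theorem z1_memK : z1 ∈ KB := Subgroup.subset_closure (by simp)

theorem qm_memK (x : ↥Co0) (hx : x ∈ Kt) : qm x ∈ KB := by
  have hle : Kt ≤ KB.comap qm := by
    unfold Kt
    rw [Subgroup.closure_le]
    rintro y (rfl | rfl | rfl | rfl | rfl | rfl)
    · exact a1_memK
    · exact d1_memK
    · exact c1_memK
    · exact b1_memK
    · exact e1_memK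
    · exact z1_memK
  exact hle hx

theorem K2_le : K2 ≤ Kt := by
  unfold K2
  rw [Subgroup.closure_le]
  rintro y (rfl | rfl | rfl | rfl)
  · exact PA_memK
  · exact PD_memK
  · exact PC_memK
  · exact Kt.mul_mem PB_memK (Kt.mul_mem EQ_memK zE_memK)

theorem S6_le (t : Cfsg.Spor.Co1) (ht : t ∈ S6 e1 z1) : t ∈ KB := by
  rcases mem_S6 ht with rfl | rfl | rfl | rfl | rfl | rfl
  · exact KB.one_mem
  · exact e1_memK
  · exact z1_memK
  · exact KB.mul_mem e1_memK z1_memK
  · exact KB.mul_mem z1_memK e1_memK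
  · exact KB.mul_mem (KB.mul_mem e1_memK z1_memK) e1_memK

theorem fac_one (p s : ℕ) (hp : p.Prime) (hs0 : s ≠ 0) (hs : ¬ p ∣ s) :
    (p * s).factorization p = 1 := fac_eq_one p s hp hs0 hs

theorem index23 : KB.index ≡ 1 [MOD 23] := by
  have : Fact (Nat.Prime 23) := ⟨by norm_num⟩
  apply index_modEq_one 23 KB a1 (orderOf_eq_prime a1_pow a1_ne)
  · rw [card_Co1, show 4157776806543360000 = 23 * 180772904632320000 from by norm_num]
    exact fac_one 23 _ (by norm_num) (by norm_num) (by norm_num)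
  · intro x hx
    have hx' : x⁻¹ ∈ Subgroup.normalizer (Subgroup.zpowers a1 : Set Cfsg.Spor.Co1) :=
      (Subgroup.normalizer (Subgroup.zpowers a1 : Set Cfsg.Spor.Co1)).inv_mem hx
    have hmem : x⁻¹ * a1 * x⁻¹⁻¹ ∈ Subgroup.zpowers a1 :=
      (Subgroup.mem_normalizer_iff.mp hx' a1).mp (Subgroup.mem_zpowers a1)
    obtain ⟨k, hk⟩ := Subgroup.mem_zpowers_iff.1 hmem
    rw [inv_inv] at hk
    have hk' : a1 * x = x * a1 ^ k := by
      rw [hk]; group
    obtain ⟨g, rfl⟩ := qm_surj x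
    have h' : qm (PA * g) = qm (g * PA ^ k) := by
      rw [map_mul, map_mul, map_zpow]; exact hk'
    rcases (qm_eq_iff _ _).mp h' with h2 | h2
    · obtain ⟨σ, hσ, hg⟩ := norm_PA_cases g k h2
      have hσK : perm σ ∈ Kt := perm_mem_of Kt PA_memK PD_memK PC_memK σ hσ
      rcases hg with hg | hg
      · rw [hg]; exact qm_memK _ hσK
      · rw [hg, qm_neg_mul]; exact qm_memK _ hσK
    · exfalso
      have hy : (PA ^ k) ^ 23 = 1 := by
        rw [← zpow_natCast, ← zpow_mul, mul_comm, zpow_mul, zpow_natCast, PA_pow, one_zpow]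
      apply no_neg_conj 23 (by decide) (PA ^ k) PA g hy PA_pow
      -- `g * PA ^ k * g⁻¹ = negElt * PA`
      have e1 : g * PA ^ k = negElt * PA * g := by
        have : negElt * (PA * g) = negElt * (negElt * (g * PA ^ k)) := by rw [← h2]
        rw [← mul_assoc negElt negElt, negElt_sq, one_mul] at this
        rw [← this, mul_assoc]
      rw [e1]
      group

theorem index11 : KB.index ≡ 1 [MOD 11] := by
  have : Fact (Nat.Prime 11) := ⟨by norm_num⟩
  have d1_ne : d1 ≠ 1 := by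
    intro h
    rcases (qm_eq_one_iff PD).mp h with h | h
    · exact d2_ne (Subtype.ext h)
    · exact perm_ne_neg mD h
  apply index_modEq_one 11 KB d1 (orderOf_eq_prime d1_pow d1_ne)
  · rw [card_Co1, show 4157776806543360000 = 11 * 377979709685760000 from by norm_num]
    exact fac_one 11 _ (by norm_num) (by norm_num) (by norm_num)
  · apply normalizer_le_of' d1 c1 b1 d1_pow rel1_CD rel1_BD KB _ c1_memK b1_memK
    intro x hx
    obtain ⟨n, _, t, ht, rfl⟩ := hyp1_Cd x hx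
    exact KB.mul_mem (KB.pow_mem d1_memK n) (S6_le t ht)

/-- The image of the stabiliser of `(-3, 1^23)`. -/
noncomputable def φ2 : ↥G2 →* Cfsg.Spor.Co1 := qm.comp G2.subtype

theorem φ2_inj : Function.Injective φ2 := by
  intro x y h
  have h' : qm x.1 = qm y.1 := h
  rcases (qm_eq_iff _ _).mp h' with h2 | h2
  · exact Subtype.ext h2
  · exfalso
    have hx : x.1 • RL = RL := x.2
    have hy : y.1 • RL = RL := y.2
    rw [h2, mul_smul', hy, negElt_smul'] at hx
    have e : ((-RL : Lam) : GolayPt → ℤ) none = ((RL : Lam) : GolayPt → ℤ) none :=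
      congrArg (fun w : Lam => w.1 none) hx
    have e2 : ((-RL : Lam) : GolayPt → ℤ) none = 3 := by
      show -((-(vecV + vec8 none)) none) = 3
      decide
    have e3 : ((RL : Lam) : GolayPt → ℤ) none = -3 := by
      show (-(vecV + vec8 none)) none = -3
      decide
    rw [e2, e3] at e
    omega

theorem card_range : Nat.card ↥φ2.range = 42305421312000 := by
  rw [← card_G2]
  exact Nat.card_congr (MonoidHom.ofInjective φ2_inj).toEquiv.symm

theorem range_le : φ2.range ≤ KB := by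
  rintro x ⟨g, rfl⟩
  exact qm_memK g.1 (K2_le (stab_le2 g.1 g.2))

theorem KB_top : KB = ⊤ :=
  eq_top_of_index1 KB card_Co1 index23 index11 φ2.range range_le card_range

/-- The outer automorphism group of the Conway group Co₁ (the automorphism group of the rank-24 lattice modulo its centre) is trivial: every automorphism is inner. -/
theorem result : Nat.card (Cfsg.Out Cfsg.Spor.Co1) = 1 := by
  apply card_out_eq_one_of_gens ({a1, d1, c1, b1, e1, z1} : Set Cfsg.Spor.Co1) KB_top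
  intro α
  obtain ⟨g, h1, h2, h3, h4, h5, h6⟩ := normalize6 a1 d1 c1 b1 e1 z1 180772904632320000
    (by rw [card_Co1]) (by norm_num) a1_pow a1_ne rel1_DA hyp1_Ca d1_pow rel1_CD c1_pow
    e1_sq z1_sq rel1_EZ3 e1_ne z1_ne e1_ne_z1 rel1_ED rel1_EC rel1_ZD rel1_ZC hyp1_Cd
    rel1_AC6 rel1_ACC5 hyp1_pin rel1_BD rel1_BC rel1_BE rel1_BZ rel1_EA ne1_Z ne1_W
    rel1_AZ12 ne1_AW α
  refine ⟨g, ?_⟩
  intro x hx
  rcases hx with rfl | rfl | rfl | rfl | rfl | rfl
  · exact h1
  · exact h2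
  · exact h3
  · exact h4
  · exact h5
  · exact h6

end Cfsg.Agent.S2069
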