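import Cfsg.Statements.S2070
import Cfsg.Agent.Lib.Helper92_Co2Gen
import Cfsg.Agent.Lib.Helper6_SzOut
import Cfsg.Agent.S0400

/-!
The outer automorphism group of the stabiliser of a minimal vector in the automorphism group of
the rank-24 lattice is trivial.

All minimal vectors are conjugate (`S0400`), so we may take the stabiliser `G` of `(-3, 1^23)`, of
order `23 · 1839366144000` (`S0402`).  It contains the coordinate permutations `a : x ↦ x + 1` (of
order 23), `d : x ↦ 2 x` (of order 11, normalising `⟨a⟩`), the cube twist `c` and an involution `w`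
inverting `d` and commuting with `c`; they generate `G` (`Helper92_Co2Gen`).  The centralisers of
`a` and `d` in `G` are `⟨a⟩` and `⟨d⟩` (`Helper92_Co2Cent`).  Given an automorphism, Sylow's theorem
and the relations pin down the images of `a`, `d`, `c`, `w` up to an inner automorphism
(`Helper92_OutNorm2.normalize3w`).
-/

set_option autoImplicit false
open Cfsg
open scoped Pointwise

namespace Cfsg.Agent.S2070

open Cfsg.Agent.Lib.Helper7_Mono Cfsg.Agent.Lib.Helper92_FixMono
  Cfsg.Agent.Lib.Helper93_OutM24 Cfsg.Agent.Lib.Helper92_Co3Cent Cfsg.Agent.Lib.Helper92_Co2Cent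
  Cfsg.Agent.Lib.Helper92_Co2Gen Cfsg.Agent.Lib.Helper92_OutNorm2 Cfsg.Agent.Lib.Helper93_OutAbs
open Cfsg.Agent.S5546 (Lam)
open MulAction

theorem card_G2' : Nat.card ↥G2 = 23 * 1839366144000 := by
  rw [card_G2]

theorem gen2 : Subgroup.closure ({a2, d2, c2, w2} : Set ↥G2) = ⊤ := by
  apply closure_eq_top_of
  intro g hg
  have h1 : g ∈ K2 := stab_le2 g hg
  have h2 : K2 ≤ Subgroup.closure (Subtype.val '' ({a2, d2, c2, w2} : Set ↥G2)) := by
    unfold K2
    rw [Subgroup.closure_le]
    intro x hx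
    apply Subgroup.subset_closure
    rcases hx with rfl | rfl | rfl | rfl
    · exact ⟨a2, by simp, rfl⟩
    · exact ⟨d2, by simp, rfl⟩
    · exact ⟨c2, by simp, rfl⟩
    · exact ⟨w2, by simp, rfl⟩
  exact h2 h1

theorem out_G2 : Nat.card (Cfsg.Out ↥G2) = 1 := by
  apply card_out_eq_one_of_gens ({a2, d2, c2, w2} : Set ↥G2) gen2
  intro α
  obtain ⟨g, h1, h2, h3, h4⟩ := normalize3w a2 d2 c2 w2 1839366144000 card_G2' (by norm_num)
    a2_pow a2_ne rel2_DA hyp2_Ca hyp2_Cd d2_pow rel2_CD rel2_AC6 rel2_ACC5 hyp2_pin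
    rel2_WD rel2_WC α
  refine ⟨g, ?_⟩
  intro x hx
  rcases hx with rfl | rfl | rfl | rfl
  · exact h1
  · exact h2
  · exact h3
  · exact h4

/-- The stabiliser in the subgroup, and the intersection with the stabiliser in the group of all
permutations of the lattice. -/
def isoCo2 : ↥(stabilizer ↥Co0 Cfsg.Spor.leechU) ≃* ↥Cfsg.Spor.Co2 where
  toFun g := ⟨g.1.1, g.1.2, g.2⟩
  invFun g := ⟨⟨g.1, g.2.1⟩, g.2.2⟩
  left_inv _ := rfl
  right_inv _ := rfl
  map_mul' _ _ := rfl

/-- The outer automorphism group of the Conway group Co₂ (the stabiliser of a shortest vector in the rank-24 lattice) is trivial: every automorphism is inner. -/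
theorem result : Nat.card (Cfsg.Out ↥Cfsg.Spor.Co2) = 1 := by
  obtain ⟨t, ht⟩ := Cfsg.Agent.S0400.result RL Cfsg.Spor.leechU norm_RL norm_UL
  have e1 : ↥G2 ≃* ↥(stabilizer ↥Co0 Cfsg.Spor.leechU) :=
    stabilizerEquivStabilizer (G := ↥Co0) (g := t) ht.symm
  rw [← Cfsg.Agent.Lib.Helper6_SzOut.card_out_congr (e1.trans isoCo2)]
  exact out_G2

end Cfsg.Agent.S2070
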