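import Cfsg.Statements.S2071
import Cfsg.Agent.Lib.Helper92_Co3Gen
import Cfsg.Agent.Lib.Helper92_OutNorm
import Cfsg.Agent.Lib.Helper6_SzOut

/-!
The outer automorphism group of the stabiliser `G` of `(-5, -1^23)` in the automorphism group of the
rank-24 lattice is trivial.

`G` has order `23 · 21555072000` (`Helper92_Co3Main`), and contains the coordinate permutations
`a : x ↦ x + 1` (of order 23), `d : x ↦ 2 x` (of order 11, normalising `⟨a⟩`), the cube twist `c`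
and a non-monomial involution `z` commuting with `d` and `c` (`Helper92_ZElt`); they generate `G`
(`Helper92_Co3Gen`).  The centraliser of `a` in `G` is `⟨a⟩` and the centraliser of `d` is
`⟨d⟩ × ⟨z⟩` (`Helper92_Co3Cent`: a vector fixed by `a` or by `d` is constant on the orbits, which
leaves few lattice vectors of given norm and inner products).  Given an automorphism, Sylow's
theorem and the relations pin down the images of `a`, `d`, `c`, `z` up to an inner automorphism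
(`Helper92_OutNorm.normalize3z`).
-/

set_option autoImplicit false
open Cfsg
open scoped Pointwise

namespace Cfsg.Agent.S2071

open Cfsg.Agent.Lib.Helper7_M24 Cfsg.Agent.Lib.Helper7_Leech Cfsg.Agent.Lib.Helper92_Monomial
  Cfsg.Agent.Lib.Helper92_Co0Order Cfsg.Agent.Lib.Helper7_Mono Cfsg.Agent.Lib.Helper92_FixMono
  Cfsg.Agent.Lib.Helper92_ZElt Cfsg.Agent.Lib.Helper93_OutM24 Cfsg.Agent.Lib.Helper93_M24Obj
  Cfsg.Agent.Lib.Helper92_Co3Cent Cfsg.Agent.Lib.Helper92_Co3Gen Cfsg.Agent.Lib.Helper92_Co3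
  Cfsg.Agent.Lib.Helper92_OutNorm Cfsg.Agent.Lib.Helper93_OutAbs
open Cfsg.Agent.S5546 (Lam vec8 e8)
open Cfsg.Spor (vecV vecU vecU' leechU leechU' leechV)
open MulAction

/-- The stabiliser of `(-5, -1^23)`. -/
abbrev G3 : Subgroup ↥Co0 := stabilizer ↥Co0 VL

instance finiteG3 : Finite ↥G3 := inferInstance

/-- The four generators. -/
noncomputable def a3 : ↥G3 := ⟨PA, PA_fix⟩
noncomputable def d3 : ↥G3 := ⟨PD, PD_fix⟩
noncomputable def c3 : ↥G3 := ⟨PC, PC_fix⟩
noncomputable def z3 : ↥G3 := ⟨zE, zE_fix⟩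

theorem perm_inj {σ τ : ↥M24} (h : perm σ = perm τ) : σ = τ := by
  have h2 : eps 0 * perm σ = eps 0 * perm τ := by rw [h]
  exact (mono_injective h2).1

theorem permHom_inj : Function.Injective permHom := fun _ _ h => perm_inj h

theorem PA_eq : PA = permHom mA := rfl
theorem PD_eq : PD = permHom mD := rfl
theorem PC_eq : PC = permHom mC := rfl

theorem mA_pow : mA ^ 23 = 1 := Subtype.ext gA_pow
theorem mD_pow : mD ^ 11 = 1 := Subtype.ext gD_pow
theorem m_rel_DA : mD * mA * mD⁻¹ = mA ^ 2 := Subtype.ext rel_DA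
theorem m_rel_CD : mC * mD * mC⁻¹ = mD ^ 3 := Subtype.ext rel_CD
theorem m_rel_AC6 : (mA * mC) ^ 6 = 1 := Subtype.ext rel_AC6
theorem m_rel_ACC5 : (mA * mC ^ 2) ^ 5 = 1 := Subtype.ext rel_ACC5

theorem gC_pow : gC ^ 5 = 1 := by
  have e : gC ^ 5 = gC * (gC * (gC * (gC * gC))) := by
    rw [pow_succ', pow_succ', pow_succ', pow_succ', pow_one]
  rw [e]
  apply Equiv.ext
  intro p
  show gC (gC (gC (gC (gC p)))) = p
  rw [gC_apply, gC_apply, gC_apply, gC_apply, gC_apply]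
  revert p
  decide

theorem mC_pow : mC ^ 5 = 1 := Subtype.ext gC_pow

theorem a3_pow : a3 ^ 23 = 1 := by
  apply Subtype.ext
  show PA ^ 23 = 1
  rw [PA_eq, ← map_pow, mA_pow, map_one]

theorem d3_pow : d3 ^ 11 = 1 := by
  apply Subtype.ext
  show PD ^ 11 = 1
  rw [PD_eq, ← map_pow, mD_pow, map_one]

theorem c3_pow : c3 ^ 5 = 1 := by
  apply Subtype.ext
  show PC ^ 5 = 1
  rw [PC_eq, ← map_pow, mC_pow, map_one]

theorem a3_ne : a3 ≠ 1 := by
  intro h
  apply PA_UL'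
  have : PA = 1 := congrArg Subtype.val h
  rw [this, one_smul]

theorem d3_ne : d3 ≠ 1 := by
  intro h
  have h1 : PD = 1 := congrArg Subtype.val h
  rw [PD_eq, ← map_one permHom] at h1
  have h2 : mD = 1 := permHom_inj h1
  have h3 : gD = 1 := congrArg Subtype.val h2
  have h4 : gD (some 1) = some 1 := by rw [h3]; rfl
  rw [gD_apply] at h4
  revert h4
  decide

theorem z3_ne : z3 ≠ 1 := by
  intro h
  have h1 : zE = 1 := congrArg Subtype.val h
  have h2 := zE_UL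
  rw [h1, one_smul] at h2
  have h3 : (UL : GolayPt → ℤ) (some 1) = (M3 : GolayPt → ℤ) (some 1) := by rw [h2]
  revert h3
  show ¬ (vecU (some 1) = (-(vecV + vecU)) (some 1))
  decide

theorem rel3_DA : d3 * a3 * d3⁻¹ = a3 ^ 2 := by
  apply Subtype.ext
  show PD * PA * PD⁻¹ = PA ^ 2
  rw [PA_eq, PD_eq, ← map_inv, ← map_mul, ← map_mul, ← map_pow, m_rel_DA]

theorem rel3_CD : c3 * d3 * c3⁻¹ = d3 ^ 3 := by
  apply Subtype.ext
  show PC * PD * PC⁻¹ = PD ^ 3
  rw [PC_eq, PD_eq, ← map_inv, ← map_mul, ← map_mul, ← map_pow, m_rel_CD]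

theorem rel3_AC6 : (a3 * c3) ^ 6 = 1 := by
  apply Subtype.ext
  show (PA * PC) ^ 6 = 1
  rw [PA_eq, PC_eq, ← map_mul, ← map_pow, m_rel_AC6, map_one]

theorem rel3_ACC5 : (a3 * c3 ^ 2) ^ 5 = 1 := by
  apply Subtype.ext
  show (PA * PC ^ 2) ^ 5 = 1
  rw [PA_eq, PC_eq, ← map_pow, ← map_mul, ← map_pow, m_rel_ACC5, map_one]

theorem z3_sq : z3 * z3 = 1 := Subtype.ext zE_sq
theorem z3_d3 : z3 * d3 = d3 * z3 := Subtype.ext zE_PD
theorem z3_c3 : z3 * c3 = c3 * z3 := Subtype.ext zE_PC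

theorem hyp3_Ca (g : ↥G3) (h : g * a3 = a3 * g) : g ∈ Subgroup.zpowers a3 := by
  apply mem_zpowers_of
  exact cent_PA g.1 g.2 (congrArg Subtype.val h)

theorem hyp3_Cd (g : ↥G3) (h : g * d3 = d3 * g) :
    g ∈ Subgroup.zpowers d3 ∨ ∃ k ∈ Subgroup.zpowers d3, g = k * z3 := by
  rcases cent_PD g.1 g.2 (congrArg Subtype.val h) with h1 | ⟨k, hk, hgk⟩
  · left
    exact mem_zpowers_of G3 d3 g h1
  · right
    obtain ⟨n, hn⟩ := Subgroup.mem_zpowers_iff.1 hk
    refine ⟨d3 ^ n, Subgroup.zpow_mem_zpowers d3 n, ?_⟩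
    apply Subtype.ext
    show g.1 = (d3 ^ n : ↥G3).1 * zE
    rw [Subgroup.coe_zpow]
    show g.1 = PD ^ n * zE
    rw [hn, hgk]

theorem hyp3_pin (k : ℕ) (hk : k ∈ ([1, 22] : List ℕ)) (i : ℕ) (hi : i < 11)
    (h6 : (a3 ^ k * (c3 * d3 ^ i)) ^ 6 = 1)
    (h5 : (a3 ^ k * (c3 * d3 ^ i) ^ 2) ^ 5 = 1) : k = 1 ∧ i = 0 := by
  have e6 : (PA ^ k * (PC * PD ^ i)) ^ 6 = 1 := congrArg Subtype.val h6
  have e5 : (PA ^ k * (PC * PD ^ i) ^ 2) ^ 5 = 1 := congrArg Subtype.val h5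
  rw [PA_eq, PC_eq, PD_eq, ← map_pow, ← map_pow, ← map_mul, ← map_mul, ← map_pow,
    ← map_one permHom] at e6
  rw [PA_eq, PC_eq, PD_eq, ← map_pow, ← map_pow, ← map_mul, ← map_pow, ← map_mul, ← map_pow,
    ← map_one permHom] at e5
  have f6 := permHom_inj e6
  have f5 := permHom_inj e5
  exact pin k hk i hi (congrArg Subtype.val f6) (congrArg Subtype.val f5)

theorem card_G3 : Nat.card ↥G3 = 23 * 21555072000 := by
  rw [stab_card UL'_mem data_VL]

theorem gen3 : Subgroup.closure ({a3, d3, c3, z3} : Set ↥G3) = ⊤ := by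
  apply closure_eq_top_of
  intro g hg
  have h1 : g ∈ K0 := stab_le g hg
  have h2 : K0 ≤ Subgroup.closure (Subtype.val '' ({a3, d3, c3, z3} : Set ↥G3)) := by
    unfold K0
    rw [Subgroup.closure_le]
    intro x hx
    apply Subgroup.subset_closure
    rcases hx with rfl | rfl | rfl | rfl
    · exact ⟨a3, by simp, rfl⟩
    · exact ⟨d3, by simp, rfl⟩
    · exact ⟨c3, by simp, rfl⟩
    · exact ⟨z3, by simp, rfl⟩
  exact h2 h1

theorem out_G3 : Nat.card (Cfsg.Out ↥G3) = 1 := by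
  apply card_out_eq_one_of_gens ({a3, d3, c3, z3} : Set ↥G3) gen3
  intro α
  obtain ⟨g, h1, h2, h3, h4⟩ := normalize3z a3 d3 c3 z3 21555072000 card_G3 (by norm_num)
    a3_pow a3_ne rel3_DA hyp3_Ca z3_sq z3_ne z3_d3 z3_c3 hyp3_Cd d3_pow d3_ne c3_pow rel3_CD
    rel3_AC6 rel3_ACC5 hyp3_pin α
  refine ⟨g, ?_⟩
  intro x hx
  rcases hx with rfl | rfl | rfl | rfl
  · exact h1
  · exact h2
  · exact h3
  · exact h4

/-- The stabiliser in the subgroup, and the intersection with the stabiliser in the group of all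
permutations of the lattice. -/
def isoCo3 : ↥G3 ≃* ↥Cfsg.Spor.Co3 where
  toFun g := ⟨g.1.1, g.1.2, g.2⟩
  invFun g := ⟨⟨g.1, g.2.1⟩, g.2.2⟩
  left_inv _ := rfl
  right_inv _ := rfl
  map_mul' _ _ := rfl

/-- The outer automorphism group of the Conway group Co₃ (the stabiliser of a vector of the second shortest length in the rank-24 lattice) is trivial: every automorphism is inner. -/
theorem result : Nat.card (Cfsg.Out ↥Cfsg.Spor.Co3) = 1 := by
  rw [← Cfsg.Agent.Lib.Helper6_SzOut.card_out_congr isoCo3]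
  exact out_G3

end Cfsg.Agent.S2071
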