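import Cfsg.Statements.S2072
import Cfsg.Agent.Lib.Helper7_OutHS
import Cfsg.Agent.Lib.Helper7_HSconcrete
import Cfsg.Agent.Lib.Helper92_HSStab
import Cfsg.Agent.Lib.Helper92_Co2Str
import Cfsg.Agent.Lib.Helper26_LeechCensus
import Cfsg.Agent.S1666
import Cfsg.Agent.S1606

set_option autoImplicit false
open Cfsg

namespace Cfsg.Agent.S2072

open MulAction Cfsg.Agent.Lib.Helper92_HS Cfsg.Agent.Lib.Helper92_RankSimple
open Cfsg.Agent.Lib.Helper92_MaxN (bpL)
open Cfsg.Agent.Lib.Helper7_HSconcrete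
open Cfsg.Agent.Lib.Helper92_Co2 (M22s)
open Cfsg.Agent.Lib.Helper26_Leech (pa pb pa_ne_pb)

/-- the point stabiliser of the standard group of degree 100 has no subgroup of index 56 -/
theorem no_index_56 (L : Subgroup ↥(stabilizer ↥G1 y0)) : L.index ≠ 56 := by
  let e : ↥(stabilizer ↥G1 y0) ≃* ↥M22s :=
    (MulEquiv.subgroupCongr stab_y0).trans permEquiv.symm
  have h := (Cfsg.Agent.S1606.result pa pb pa_ne_pb (L.map (e : _ →* _))).1
  rw [Subgroup.index_map_equiv L e] at h
  exact h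

/-- the outer automorphism group of the standard group of degree 100 -/
theorem card_out_G1 : Nat.card (Cfsg.Out ↥G1) = 2 := by
  classical
  obtain ⟨a₂, ha₂⟩ := exists_mem_Cl3 1
  obtain ⟨b₂, hb₂⟩ := exists_mem_Cl3 2
  exact Cfsg.Agent.Lib.Helper7_OutHS.card_out y0 a₂ b₂ card_Y
    (by rw [ncard_orbit_stab 1 a₂ ha₂]; exact hR.1)
    (by rw [ncard_orbit_stab 2 b₂ hb₂]; exact hR.2.1) card_stab_y0 no_index_56

/-- The outer automorphism group of the Higman–Sims group (as a two-vector stabiliser in the automorphism group of the rank-24 lattice) has order 2. -/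
theorem result : Nat.card (Cfsg.Out ↥Cfsg.Spor.HS) = 2 := by
  obtain ⟨e⟩ := Cfsg.Agent.S1666.hs_iso_G1
  rw [Cfsg.Agent.Lib.Helper7_OutHS.card_out_congr e]
  exact card_out_G1

end Cfsg.Agent.S2072
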