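import Cfsg.Statements.S2073
import Cfsg.Agent.Lib.Helper93_McLMain

set_option autoImplicit false
open Cfsg

namespace Cfsg.Agent.S2073

/-- The outer automorphism group of the McLaughlin group (as a two-vector stabiliser in the automorphism group of the rank-24 lattice) has order 2. -/
theorem result : Nat.card (Cfsg.Out ↥Cfsg.Spor.McL) = 2 :=
  Cfsg.Agent.Lib.Helper93_McLMain.out_McL

end Cfsg.Agent.S2073
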