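import Mathlib
import Cfsg.Statements.S2074
import Cfsg.Agent.Lib.Helper90_OutCycGen
import Cfsg.Agent.Lib.Helper90_SuzAut
import Cfsg.Agent.Lib.Helper90_SuzOuter
import Cfsg.Agent.Lib.Helper90_SuzGen

set_option autoImplicit false
open Cfsg

namespace Cfsg.Agent.S2074

open Cfsg.Spor Cfsg.Agent.Lib.Helper90_SuzBase Cfsg.Agent.Lib.Helper90_SuzWalk
open Cfsg.Agent.Lib.Helper90_SuzMacro Cfsg.Agent.Lib.Helper90_SuzSigma
open Cfsg.Agent.Lib.Helper90_SuzOuter Cfsg.Agent.Lib.Helper90_SuzAut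
open Cfsg.Agent.Lib.Helper90_OutCycGen Cfsg.Agent.Lib.Helper96_SuzSimple

/-- two is a primitive root modulo thirteen -/
theorem two_pow_mod : ∀ k : Fin 13, k.val ≠ 0 → ∃ m : Fin 12, 2 ^ m.val % 13 = k.val := by
  decide

/-- the automorphism mapping `y` to `y ^ 2` -/
noncomputable def sigma' : MulAut Suz := MulAut.conj c1E⁻¹ * sigma

theorem sigma'_y : sigma' yE = yE ^ 2 := by
  show MulAut.conj c1E⁻¹ (sigma yE) = yE ^ 2
  rw [MulAut.conj_apply, inv_inv, mul_assoc, rel_c1, ← mul_assoc, inv_mul_cancel, one_mul]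

theorem sigma'_not_inn : sigma' ∉ Inn Suz := by
  intro h
  apply sigma_not_inn
  have h1 : MulAut.conj c1E⁻¹ ∈ Inn Suz := ⟨_, rfl⟩
  have h2 : sigma = (MulAut.conj c1E⁻¹)⁻¹ * sigma' := by
    unfold sigma'
    rw [inv_mul_cancel_left]
  rw [h2]
  exact (Inn Suz).mul_mem ((Inn Suz).inv_mem h1) h

/-- The outer automorphism group of the Suzuki sporadic group (the finitely presented group of the definitions) has order 2. -/
theorem result : Nat.card (Cfsg.Out Cfsg.Spor.Suz) = 2 := by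
  have hfin := suz_finite
  have hp : Fact (Nat.Prime 13) := ⟨by norm_num⟩
  have hprim : ∀ k : ℕ, 0 < k → k < 13 → ∃ m : ℕ, 2 ^ m % 13 = k := by
    intro k h0 h1
    obtain ⟨m, hm⟩ := two_pow_mod ⟨k, h1⟩ (by simpa using h0.ne')
    exact ⟨m.val, hm⟩
  have hcard : Nat.card Suz = 13 * 34488115200 := by rw [card_suz]
  have hc : c2E⁻¹ * yE * c2E⁻¹⁻¹ = yE ^ (2 * 2) := by
    rw [inv_inv, mul_assoc, rel_c2, ← mul_assoc, inv_mul_cancel, one_mul]
  exact card_out_eq_two_gen 13 2 hprim hcard (by norm_num) yE sigma' orderOf_yE sigma'_not_inn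
    sigma'_y c2E⁻¹ hc
    (surv_of_pair Cfsg.Agent.Lib.Helper90_SuzGen.closure_eq_top aut_fix)

end Cfsg.Agent.S2074
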