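import Cfsg.Statements.S2075
import Cfsg.Agent.Lib.Helper56_HeOut

set_option autoImplicit false
open Cfsg

namespace Cfsg.Agent.S2075

open Cfsg.Agent.Lib.Helper56_HeOut Cfsg.Agent.Lib.Helper56_OutP

/-- three is a primitive root modulo seventeen -/
theorem prim_root : ∀ k : Fin 17, k.val ≠ 0 → ∃ m : Fin 16, 3 ^ m.val % 17 = k.val := by
  decide

/-- The outer automorphism group of the Held group (the finitely presented group of the definitions) has order 2. -/
theorem result : Nat.card (Cfsg.Out Cfsg.Spor.He) = 2 := by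
  have hp : Fact (Nat.Prime 17) := ⟨by norm_num⟩
  have hcard : Nat.card Cfsg.Spor.He = 17 * 237081600 := by
    have h : Nat.card Cfsg.Spor.He = 4030387200 := Cfsg.Agent.S1695.card_eq
    rw [h]
  have hfin : Finite Cfsg.Spor.He := Cfsg.Agent.S1695.finG
  refine card_out_eq_two_of_fix (G := Cfsg.Spor.He) 17 3 237081600 hcard (by norm_num) ?_
    u0 cp⁻¹ sigma u0_order sigma_sq sigma_not_inn sigma_u0 surv
  intro k hk hk0
  obtain ⟨m, hm⟩ := prim_root ⟨k, hk⟩ hk0
  exact ⟨m.val, hm⟩

end Cfsg.Agent.S2075
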