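import Cfsg.Statements.S2086
import Cfsg.Agent.Lib.Helper72_S2086_Split
import Cfsg.Agent.Lib.Helper60_S2086_CENTER
import Cfsg.Agent.Lib.Helper60_S2086_SL2PERF
import Cfsg.Agent.Lib.Helper25_S2086_PERFSPLIT
import Cfsg.Agent.Lib.Helper25_S2086_GENSCHUR
import Cfsg.Agent.S0248
import Cfsg.Agent.S2117

set_option autoImplicit false
open Cfsg

namespace Cfsg.Agent.S2086

open Cfsg.Agent.Lib.Helper81_UceA Cfsg.Agent.Lib.Helper72_S2086_Split
open Cfsg.Agent.Lib.Helper60_S2086_CENTER (CENTER)
open Cfsg.Agent.Lib.Helper60_S2086_SL2PERF (SL2PERF)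
open Cfsg.Agent.Lib.Helper25_S2086_PERFSPLIT (PERFSPLIT)
open Cfsg.Agent.Lib.Helper25_S2086_GENSCHUR (GENSCHUR)

/-- Schur multipliers of the linear groups: for n ≥ 2 and a field F with q elements (q ≥ 4 when n = 2), apart from the five exceptional pairs (n, q) = (2, 4), (2, 9), (3, 2), (3, 4), (4, 2), the Schur multiplier of PSL_n(F) is cyclic of order gcd(n, q − 1); here the Schur multiplier is described through stem extensions, as in the definitions. -/
theorem result {F : Type*} [Field F] [Fintype F] {q : ℕ} (hF : Fintype.card F = q) (n : ℕ) (hn : 2 ≤ n) (h2 : n = 2 → 4 ≤ q) (hexc : (n, q) ∉ ({(2, 4), (2, 9), (3, 2), (3, 4), (4, 2)} : Set (ℕ × ℕ))) : Cfsg.HasCyclicSchurMultiplier (Matrix.ProjectiveSpecialLinearGroup (Fin n) F) (Nat.gcd n (q - 1)) := by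
  subst hF
  obtain ⟨e⟩ := CENTER (F := F) n (by omega)
  have hperf : commutator (Matrix.SpecialLinearGroup (Fin n) F) = ⊤ := by
    by_cases h3 : 3 ≤ n
    · exact Cfsg.Agent.S0248.result n h3
    · have hn2 : n = 2 := by omega
      subst hn2
      exact SL2PERF (h2 rfl)
  have hsplit : ∀ (E : Type _) [Group E] [Finite E] (π : E →* Matrix.SpecialLinearGroup (Fin n) F),
      CExt π → ∃ s : Matrix.SpecialLinearGroup (Fin n) F →* E, π.comp s = MonoidHom.id _ := by
    intro E _ _ π hc
    by_cases h3 : 3 ≤ n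
    · refine SPLIT h3 ?_ π hc
      intro hmem
      apply hexc
      simp only [Set.mem_insert_iff, Set.mem_singleton_iff, Prod.mk.injEq] at hmem ⊢
      omega
    · have hn2 : n = 2 := by omega
      subst hn2
      have h4 : Fintype.card F ≠ 4 := by
        intro h
        apply hexc
        rw [h]
        simp
      have h9 : Fintype.card F ≠ 9 := by
        intro h
        apply hexc
        rw [h]
        simp
      exact PERFSPLIT hperf (Cfsg.Agent.S2117.result h4 h9) E π hc
  exact GENSCHUR hperf hsplit e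

end Cfsg.Agent.S2086
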