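import Cfsg.Statements.S3958
import Cfsg.Agent.Lib.Helper66_SchurTriv

set_option autoImplicit false
universe u v
open Cfsg

namespace Cfsg.Agent.S3958

open Cfsg.Agent.Lib.Helper66_SchurMain Cfsg.Agent.Lib.Helper66_SchurCore
  Cfsg.Agent.Lib.Helper66_SchurTriv

/-- a surjective homomorphism maps the commutator subgroup onto the commutator subgroup -/
theorem map_commutator_of_surjective {G H : Type*} [Group G] [Group H] (f : G →* H)
    (hf : Function.Surjective f) : (commutator G).map f = commutator H := by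
  rw [commutator_def, commutator_def, Subgroup.map_commutator, ← MonoidHom.range_eq_map,
    MonoidHom.range_eq_top_of_surjective _ hf]

/-- Let `σ : Γ →* Q` be a finite stem extension of the finite group `Q` with `Γ` of trivial Schur multiplier. Then `σ` is a Schur covering group of `Q`: for every finite stem extension `τ : Δ →* Q` with `Δ` in the same universe as `Q`, the kernel of `τ` is a homomorphic image of the kernel of `σ`. -/
theorem result {Q : Type u} [Group Q] [Finite Q] {Γ : Type v} [Group Γ] [Finite Γ] (σ : Γ →* Q) (hσ : Cfsg.IsStemExtension σ) (hΓ : Cfsg.HasCyclicSchurMultiplier Γ 1) (Δ : Type u) [Group Δ] [Finite Δ] (τ : Δ →* Q) (hτ : Cfsg.IsStemExtension τ) : ∃ π : σ.ker →* τ.ker, Function.Surjective π := by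
  -- the pullback
  let P : Subgroup (Γ × Δ) := (σ.comp (MonoidHom.fst Γ Δ)).eqLocus (τ.comp (MonoidHom.snd Γ Δ))
  let p₁ : P →* Γ := (MonoidHom.fst Γ Δ).comp P.subtype
  let p₂ : P →* Δ := (MonoidHom.snd Γ Δ).comp P.subtype
  have hP : ∀ x : P, σ (p₁ x) = τ (p₂ x) := fun x => x.2
  have hp₁ : Function.Surjective p₁ := by
    intro g
    obtain ⟨d, hd⟩ := hτ.1 (σ g)
    exact ⟨⟨(g, d), hd.symm⟩, rfl⟩
  have hp₂ : Function.Surjective p₂ := by
    intro d
    obtain ⟨g, hg⟩ := hσ.1 (τ d)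
    exact ⟨⟨(g, d), hg⟩, rfl⟩
  have hc₁ : p₁.ker ≤ Subgroup.center P := by
    intro x hx
    have h1 : p₁ x = 1 := hx
    have h2 : p₂ x ∈ τ.ker := by
      rw [MonoidHom.mem_ker, ← hP, h1, map_one]
    have h3 := Subgroup.mem_center_iff.mp (hτ.2.1 h2)
    rw [Subgroup.mem_center_iff]
    intro y
    apply Subtype.ext
    apply Prod.ext
    · change p₁ y * p₁ x = p₁ x * p₁ y
      rw [h1, mul_one, one_mul]
    · exact h3 (p₂ y)
  have htriv : p₁.ker ⊓ commutator P = ⊥ := ker_inf_commutator_eq_bot hΓ p₁ hp₁ hc₁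
  have hm₁ := map_commutator_of_surjective p₁ hp₁
  have hm₂ := map_commutator_of_surjective p₂ hp₂
  let W : Subgroup P := commutator P ⊓ (σ.comp p₁).ker
  let f₁ : W →* σ.ker := (p₁.comp W.subtype).codRestrict σ.ker (fun w => w.2.2)
  let f₂ : W →* τ.ker := (p₂.comp W.subtype).codRestrict τ.ker (fun w => by
    rw [MonoidHom.mem_ker]
    change τ (p₂ w) = 1
    rw [← hP]
    exact w.2.2)
  have hf₁i : Function.Injective f₁ := by
    rw [injective_iff_map_eq_one]
    intro w hw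
    have h1 : p₁ (w : P) = 1 := congrArg Subtype.val hw
    have h2 : (w : P) ∈ p₁.ker ⊓ commutator P := Subgroup.mem_inf.mpr ⟨h1, w.2.1⟩
    rw [htriv, Subgroup.mem_bot] at h2
    exact Subtype.ext h2
  have hf₁s : Function.Surjective f₁ := by
    rintro ⟨g, hg⟩
    have h1 : g ∈ commutator Γ := hσ.2.2 hg
    rw [← hm₁] at h1
    obtain ⟨y, hy, rfl⟩ := h1
    exact ⟨⟨y, Subgroup.mem_inf.mpr ⟨hy, hg⟩⟩, rfl⟩
  have hf₂s : Function.Surjective f₂ := by
    rintro ⟨d, hd⟩
    have h1 : d ∈ commutator Δ := hτ.2.2 hd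
    rw [← hm₂] at h1
    obtain ⟨y, hy, rfl⟩ := h1
    refine ⟨⟨y, Subgroup.mem_inf.mpr ⟨hy, ?_⟩⟩, rfl⟩
    rw [MonoidHom.mem_ker, MonoidHom.comp_apply, hP]
    exact hd
  let e := MulEquiv.ofBijective f₁ ⟨hf₁i, hf₁s⟩
  exact ⟨f₂.comp e.symm.toMonoidHom, hf₂s.comp e.symm.surjective⟩

end Cfsg.Agent.S3958
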