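import Cfsg.Statements.S2087
import Cfsg.Agent.S0255
import Cfsg.Agent.S2117
import Cfsg.Agent.S3958
import Cfsg.Agent.Lib.Helper66_Stem

set_option autoImplicit false
open Cfsg

namespace Cfsg.Agent.S2087

universe u v w

/-- precomposing a stem extension with an isomorphism gives a stem extension -/
theorem isStemExtension_comp_equiv {Γ : Type u} {Γ' : Type v} {G : Type w} [Group Γ] [Group Γ']
    [Group G] (σ : Γ →* G) (hσ : IsStemExtension σ) (ε : Γ' ≃* Γ) :
    IsStemExtension (σ.comp ε.toMonoidHom) := by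
  obtain ⟨h1, h2, h3⟩ := hσ
  refine ⟨h1.comp ε.surjective, ?_, ?_⟩
  · intro x hx
    rw [Subgroup.mem_center_iff]
    intro y
    have hx' : ε x ∈ σ.ker := by
      rw [MonoidHom.mem_ker] at hx ⊢
      simpa using hx
    have hc := Subgroup.mem_center_iff.mp (h2 hx') (ε y)
    apply ε.injective
    rw [map_mul, map_mul]
    exact hc
  · intro x hx
    have hx' : ε x ∈ σ.ker := by
      rw [MonoidHom.mem_ker] at hx ⊢
      simpa using hx
    have h4 : ε x ∈ commutator Γ := h3 hx'
    have h5 : ε.symm (ε x) ∈ (commutator Γ).map ε.symm.toMonoidHom :=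
      Subgroup.mem_map_of_mem _ h4
    rw [commutator_def, Subgroup.map_commutator,
      Subgroup.map_top_of_surjective ε.symm.toMonoidHom ε.symm.surjective] at h5
    rw [commutator_def]
    simpa using h5

/-- the kernel of the composite is isomorphic to the kernel -/
noncomputable def kerCompEquiv {Γ : Type u} {Γ' : Type v} {G : Type w} [Group Γ] [Group Γ']
    [Group G] (σ : Γ →* G) (ε : Γ' ≃* Γ) : (σ.comp ε.toMonoidHom).ker ≃* σ.ker :=
  { toFun := fun x => ⟨ε x, by
      have := x.2
      rw [MonoidHom.mem_ker] at this ⊢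
      simpa using this⟩
    invFun := fun y => ⟨ε.symm y, by
      have := y.2
      rw [MonoidHom.mem_ker] at this ⊢
      simpa using this⟩
    left_inv := fun x => Subtype.ext (by simp)
    right_inv := fun y => Subtype.ext (by simp)
    map_mul' := fun x y => Subtype.ext (by
      show ε ((x * y : (σ.comp ε.toMonoidHom).ker) : Γ') = ε x * ε y
      rw [Subgroup.coe_mul, map_mul]) }

instance : Fact (Nat.Prime 7) := ⟨by norm_num⟩

/-- Exceptional Schur multiplier: over the field with 2 elements, PSL₃ has Schur multiplier cyclic of order 2 (here the Schur multiplier is described through stem extensions, as in the definitions). -/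
theorem result {F : Type*} [Field F] [Fintype F] (hF : Fintype.card F = 2) : Cfsg.HasCyclicSchurMultiplier (Matrix.ProjectiveSpecialLinearGroup (Fin 3) F) 2 := by
  classical
  have h7 : Fintype.card (ZMod 7) = 7 := ZMod.card 7
  obtain ⟨e⟩ := Cfsg.Agent.S0255.result (F := ZMod 7) (K := F) h7 hF
  -- the stem extension `SL(2,7) → PSL(2,7) ≃ PSL(3,2)`
  let S := Matrix.SpecialLinearGroup (Fin 2) (ZMod 7)
  let σ0 : S →* Matrix.ProjectiveSpecialLinearGroup (Fin 3) F :=
    e.toMonoidHom.comp (QuotientGroup.mk' (Subgroup.center S))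
  have hker : σ0.ker = Subgroup.center S := by
    ext x
    rw [MonoidHom.mem_ker]
    show e (QuotientGroup.mk' (Subgroup.center S) x) = 1 ↔ _
    rw [map_eq_one_iff e e.injective, QuotientGroup.mk'_apply, QuotientGroup.eq_one_iff]
  have hperf : commutator S = ⊤ := by
    apply Matrix.SL2.commutator_eq_top (a := (2 : ZMod 7)) (by decide) (by decide)
  have hσ0 : IsStemExtension σ0 := by
    refine ⟨e.surjective.comp (QuotientGroup.mk'_surjective _), ?_, ?_⟩
    · rw [hker]
    · rw [hperf]; exact le_top
  have hS : HasCyclicSchurMultiplier S 1 :=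
    Cfsg.Agent.S2117.result (F := ZMod 7) (by rw [h7]; decide) (by rw [h7]; decide)
  -- the kernel has two elements
  have hcard : Nat.card σ0.ker = 2 := by
    rw [hker]
    rw [Nat.card_congr (Matrix.SpecialLinearGroup.center_equiv_rootsOfUnity (n := Fin 2)
      (R := ZMod 7)).toEquiv]
    have hmax : max (Fintype.card (Fin 2)) 1 = 2 := by simp
    rw [hmax]
    exact (IsPrimitiveRoot.neg_one (R := ZMod 7) 7 (by decide)).card_rootsOfUnity
  have hcyc : IsCyclic σ0.ker := isCyclic_of_prime_card (p := 2) hcard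
  apply Cfsg.Agent.Lib.Helper66_Stem.hasCyclicSchurMultiplier_of
  · refine ⟨ULift S, inferInstance, inferInstance, σ0.comp MulEquiv.ulift.toMonoidHom,
      isStemExtension_comp_equiv σ0 hσ0 MulEquiv.ulift, ?_, ?_⟩
    · exact isCyclic_of_surjective (kerCompEquiv σ0 MulEquiv.ulift).symm
        (kerCompEquiv σ0 MulEquiv.ulift).symm.surjective
    · rw [Nat.card_congr (kerCompEquiv σ0 MulEquiv.ulift).toEquiv, hcard]
  · intro Γ _ _ τ hτ
    obtain ⟨π, hπ⟩ := Cfsg.Agent.S3958.result σ0 hσ0 hS Γ τ hτ
    obtain ⟨g, hg⟩ := hcyc.exists_generator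
    refine ⟨(π g : Γ), (π g).2, ?_, ?_⟩
    · intro z hz
      obtain ⟨y, hy⟩ := hπ ⟨z, hz⟩
      obtain ⟨k, hk⟩ := Subgroup.mem_zpowers_iff.mp (hg y)
      rw [Subgroup.mem_zpowers_iff]
      refine ⟨k, ?_⟩
      have : (π g) ^ k = ⟨z, hz⟩ := by rw [← map_zpow, hk, hy]
      have := congrArg Subtype.val this
      simpa using this
    · have h2 : g ^ 2 = 1 := by
        have := pow_card_eq_one' (G := σ0.ker) (x := g)
        rwa [hcard] at this
      have : (π g) ^ 2 = 1 := by rw [← map_pow, h2, map_one]
      have := congrArg Subtype.val this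
      simpa using this

end Cfsg.Agent.S2087
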