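import Cfsg.Statements.S2092
import Cfsg.Agent.Lib.Helper66_S92Final
import Cfsg.Agent.Lib.Helper58_S92_LIFT43
import Cfsg.Agent.Lib.Helper5_S92_TORUS_M
import Cfsg.Agent.Lib.Helper60_S92_CENTERSP
import Cfsg.Agent.Lib.Helper25_S2086_GENSCHUR
import Cfsg.Agent.Lib.Helper5_SpPerfect

set_option autoImplicit false
open Cfsg

namespace Cfsg.Agent.S2092

open Cfsg.Agent.Lib.Helper66_S92 Cfsg.Agent.Lib.Helper81_UceA
open Cfsg.Agent.Lib.Helper25_S2086_GENSCHUR (GENSCHUR)

/-- Schur multipliers of the symplectic groups: for m ≥ 2 and a field F with q elements (q ≥ 3 when m = 2), with (m, q) ≠ (3, 2), the Schur multiplier of PSp_2m(F) is cyclic of order gcd(2, q − 1); here the Schur multiplier is described through stem extensions, as in the definitions. -/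
theorem result {F : Type*} [Field F] [Fintype F] {q : ℕ} (hF : Fintype.card F = q) (m : ℕ) (hm : 2 ≤ m) (h2 : m = 2 → 3 ≤ q) (hexc : ¬ (m = 3 ∧ q = 2)) : Cfsg.HasCyclicSchurMultiplier (Cfsg.PSp m F) (Nat.gcd 2 (q - 1)) := by
  subst hF
  obtain ⟨e⟩ := center_sp (F := F) m (by omega)
  have hperf : commutator (Matrix.symplecticGroup (Fin m) F) = ⊤ := by
    apply Cfsg.Agent.Lib.Helper5_SpPerfect.sp_perfect
    by_cases h3 : 3 ≤ m
    · exact Or.inl h3
    · have : m = 2 := by omega
      exact Or.inr (Or.inl ⟨this, h2 this⟩)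
  have h2idx : ∃ i j : Fin m, i ≠ j := ⟨⟨0, by omega⟩, ⟨1, by omega⟩, by simp [Fin.ext_iff]⟩
  have hq2 : 2 ≤ Fintype.card F := by
    have := Fintype.one_lt_card (α := F)
    omega
  have hsplit : ∀ (E : Type _) [Group E] [Finite E] (π : E →* Matrix.symplecticGroup (Fin m) F),
      CExt π → ∃ s : Matrix.symplecticGroup (Fin m) F →* E, π.comp s = MonoidHom.id _ := by
    intro E _ _ π hc
    apply split_of_lift m π
    have hXM : CSt (XM (Fin m) F) := cSt_XM
    have C : WCalc (XM (Fin m) F) := wCalc_of_cSt hXM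
    by_cases hq4 : 4 ≤ Fintype.card F
    · exact exists_cSt_lift4 hXM C (torusM (Fin m) F) hc (h66_exists_sq_ne_one hq4) h2idx
    · by_cases hq3 : Fintype.card F = 3
      · exact exists_cSt_lift3 hXM C (torusM (Fin m) F) hc (by rw [Nat.card_eq_fintype_card]; exact hq3) h2idx
      · have hq2' : Fintype.card F = 2 := by omega
        have hm4 : 4 ≤ m := by
          by_contra hlt
          have hm23 : m = 2 ∨ m = 3 := by omega
          rcases hm23 with rfl | rfl
          · have := h2 rfl
            omega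
          · exact hexc ⟨rfl, hq2'⟩
        exact exists_cSt_lift2 (by rw [Nat.card_eq_fintype_card]; exact hq2') m hm4 π hc
  exact GENSCHUR hperf hsplit e

end Cfsg.Agent.S2092
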