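import Cfsg.Statements.S2100
import Cfsg.Agent.Lib.Helper81_UceMain
import Cfsg.Agent.Lib.Helper81_UceSchur
import Cfsg.Agent.Lib.Helper81_StUniB
import Cfsg.Agent.Lib.Helper81_StR3B

set_option autoImplicit false
open Cfsg

namespace Cfsg.Agent.S2100

/-- Schur multipliers of the Chevalley groups of type G₂: over a field with q ≥ 5 elements the Schur multiplier of G₂(q) is trivial (here the Schur multiplier is described through stem extensions, as in the definitions); the cases q = 3 and q = 4 are exceptional and q = 2 gives a non-simple group. -/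
theorem result {F : Type*} [Field F] [Fintype F] (hF : 5 ≤ Fintype.card F) : Cfsg.HasCyclicSchurMultiplier ↥(Cfsg.Lie.chevG2.group F) 1 := by
  have hmem : Cfsg.Lie.chevG2 ∈ [Cfsg.Lie.chevG2, Cfsg.Lie.chevB2, Cfsg.Lie.chevD4, Cfsg.Lie.chevF4, Cfsg.Lie.chevE6,
      Cfsg.Lie.chevE7, Cfsg.Lie.chevE8] := by simp
  obtain ⟨e1, -⟩ := Cfsg.Agent.Lib.Helper81_StR3B.exists_mulEquiv_cover (F := F) Cfsg.Lie.chevG2 hmem
  obtain ⟨e2, -⟩ := Cfsg.Agent.Lib.Helper81_StUniB.exists_mulEquiv (F := F) Cfsg.Lie.chevG2 (by simp)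
  have hK5 : ∃ s : Finset F, 4 < s.card := ⟨Finset.univ, by rw [Finset.card_univ]; omega⟩
  apply Cfsg.Agent.Lib.Helper81_UceSchur.hasCyclicSchurMultiplier_one (e1.trans e2)
  intro Γ _ σ hs hc
  obtain ⟨τ, hτ, -⟩ := Cfsg.Agent.Lib.Helper81_UceMain.exists_unique_lift Cfsg.Lie.chevG2 hmem hK5 σ hs hc
    (e1.trans e2).toMonoidHom
  exact ⟨τ, hτ⟩

end Cfsg.Agent.S2100
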