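import Cfsg.Statements.S2103
import Cfsg.Agent.Lib.Helper81_S2400_Glue
import Cfsg.Agent.Lib.Helper81_S2103_F4
import Cfsg.Agent.Lib.Helper81_Uce3C
import Cfsg.Agent.Lib.Helper81_UceSchur
import Cfsg.Agent.Lib.Helper81_StUniB
import Cfsg.Agent.Lib.Helper81_StR3B

set_option autoImplicit false
open Cfsg

namespace Cfsg.Agent.S2103

/-- Schur multipliers of the Chevalley groups of type F₄: over a finite field with more than 2 elements the Schur multiplier of F₄(q) is trivial (here the Schur multiplier is described through stem extensions, as in the definitions); q = 2 is exceptional. -/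
theorem result {F : Type*} [Field F] [Fintype F] (hF : 3 ≤ Fintype.card F) : Cfsg.HasCyclicSchurMultiplier ↥(Cfsg.Lie.chevF4.group F) 1 := by
  classical
  have hmem : Cfsg.Lie.chevF4 ∈ [Cfsg.Lie.chevG2, Cfsg.Lie.chevB2, Cfsg.Lie.chevD4, Cfsg.Lie.chevF4, Cfsg.Lie.chevE6,
      Cfsg.Lie.chevE7, Cfsg.Lie.chevE8] := by simp
  obtain ⟨e1, -⟩ := Cfsg.Agent.Lib.Helper81_StR3B.exists_mulEquiv_cover (F := F) Cfsg.Lie.chevF4 hmem
  obtain ⟨e2, -⟩ := Cfsg.Agent.Lib.Helper81_StUniB.exists_mulEquiv (F := F) Cfsg.Lie.chevF4 (by simp)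
  apply Cfsg.Agent.Lib.Helper81_UceSchur.hasCyclicSchurMultiplier_one (e1.trans e2)
  intro Γ _ σ hs hc
  apply Cfsg.Agent.Lib.Helper81_S2400_Glue.exists_lift_of_section σ hs hc
  intro ψ hψ
  by_cases h4 : 4 ≤ Fintype.card F
  · have hcard : ({0, 1, -1} : Finset F).card < Fintype.card F := by
      have := Finset.card_le_three (a := (0 : F)) (b := 1) (c := -1)
      omega
    obtain ⟨v, -, hv⟩ := Finset.exists_mem_notMem_of_card_lt_card (s := ({0, 1, -1} : Finset F)) (t := Finset.univ)
      (by rw [Finset.card_univ]; exact hcard)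
    simp only [Finset.mem_insert, Finset.mem_singleton, not_or] at hv
    have hv2 : v ^ 2 ≠ 1 := by
      intro h
      have : (v - 1) * (v + 1) = 0 := by ring_nf; rw [h]; ring
      rcases mul_eq_zero.mp this with h5 | h5
      · exact hv.2.1 (sub_eq_zero.mp h5)
      · exact hv.2.2 (eq_neg_of_add_eq_zero_left h5)
    exact Cfsg.Agent.Lib.Helper81_S2103_F4.exists_section_F4 hv.1 hv2 ψ hψ
  · have h3 : Fintype.card F = 3 := by omega
    exact Cfsg.Agent.Lib.Helper81_Uce3C.exists_section_F4_three h3 ψ hψ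

end Cfsg.Agent.S2103
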