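import Cfsg.Statements.S2105
import Cfsg.Agent.Lib.Helper35_SteinMain
import Cfsg.Agent.Lib.Helper35_SteinSchur
import Cfsg.Agent.Lib.Helper35_SteinCertE6
import Cfsg.Agent.Lib.Helper81_StR3B
import Cfsg.Agent.Lib.Helper81_StCenterB

set_option autoImplicit false
open Cfsg

namespace Cfsg.Agent.S2105

/-- Schur multipliers of the (adjoint, simple) Chevalley groups of type E₆: over a field with q elements the Schur multiplier is cyclic of order gcd(3, q − 1) (here the Schur multiplier is described through stem extensions, as in the definitions). -/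
theorem result {F : Type*} [Field F] [Fintype F] {q : ℕ} (hF : Fintype.card F = q) : Cfsg.HasCyclicSchurMultiplier ↥(Cfsg.Lie.chevE6.group F) (Nat.gcd 3 (q - 1)) := by
  classical
  have hmem : Cfsg.Lie.chevE6 ∈ [Cfsg.Lie.chevG2, Cfsg.Lie.chevB2, Cfsg.Lie.chevD4, Cfsg.Lie.chevF4, Cfsg.Lie.chevE6,
      Cfsg.Lie.chevE7, Cfsg.Lie.chevE8] := by simp
  obtain ⟨e1, -⟩ := Cfsg.Agent.Lib.Helper81_StR3B.exists_mulEquiv_cover (F := F) Cfsg.Lie.chevE6 hmem
  obtain ⟨θ, hsurj, hker, -⟩ := Cfsg.Agent.Lib.Helper81_StMain.exists_hom_ker_eq_center (F := F) Cfsg.Lie.chevE6 hmem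
  have hcard := Cfsg.Agent.Lib.Helper81_StCenterB.card_center_E6 (K := F)
  rw [hF] at hcard
  have hg : Nat.gcd 3 (q - 1) ≠ 0 := Nat.gcd_ne_zero_left (by norm_num)
  have hfinker : Finite θ.ker := by
    rw [hker]
    apply Nat.finite_of_card_ne_zero
    rw [hcard]
    exact hg
  have hfin : Finite (Cfsg.Lie.chevE6.SteinbergGroup F) :=
    Cfsg.Agent.Lib.Helper35_SteinSchur.finite_of_surjective_of_finite_ker θ hsurj
  have hperf : commutator (Cfsg.Lie.chevE6.SteinbergGroup F) = ⊤ :=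
    Cfsg.Agent.Lib.Helper35_SteinMain.commutator_eq_top Cfsg.Agent.Lib.Helper35_SteinCertE6.cert
      (Cfsg.Agent.Lib.Helper81_StMain.stGrp_pGen Cfsg.Agent.Lib.Helper81_StMain.relsAB_subset)
      Cfsg.Agent.Lib.Helper81_StMain.gen_pGen
  have hkc : Nat.card θ.ker = Nat.gcd 3 (q - 1) := by rw [hker, hcard]
  obtain ⟨e⟩ := Cfsg.Agent.Lib.Helper35_SteinSchur.exists_mulEquiv_zmod (K := θ.ker) Nat.prime_three
    (Nat.gcd_dvd_left 3 (q - 1)) hkc
  apply Cfsg.Agent.Lib.Helper35_SteinSchur.hasSchurMultiplier_of_uce θ hsurj hker.le hperf _ e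
  intro Γ _ σ hs hc
  obtain ⟨τ, hτ⟩ := Cfsg.Agent.Lib.Helper35_SteinMain.exists_lift Cfsg.Agent.Lib.Helper35_SteinCertE6.cert σ hs hc
    (θ.comp e1.toMonoidHom)
  refine ⟨τ.comp e1.symm.toMonoidHom, ?_⟩
  apply MonoidHom.ext
  intro x
  have := DFunLike.congr_fun hτ (e1.symm x)
  simp only [MonoidHom.comp_apply, MulEquiv.coe_toMonoidHom, MulEquiv.apply_symm_apply] at this ⊢
  exact this

end Cfsg.Agent.S2105
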