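import Cfsg.Statements.S2107
import Cfsg.Agent.Lib.Helper35_SteinMain
import Cfsg.Agent.Lib.Helper35_SteinCertE8
import Cfsg.Agent.Lib.Helper81_UceSchur
import Cfsg.Agent.Lib.Helper81_StR3B
import Cfsg.Agent.Lib.Helper81_StUniB

set_option autoImplicit false
open Cfsg

namespace Cfsg.Agent.S2107

/-- Schur multipliers of the Chevalley groups of type E₈: over every finite field the Schur multiplier of E₈(q) is trivial (here the Schur multiplier is described through stem extensions, as in the definitions). -/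
theorem result {F : Type*} [Field F] [Fintype F] : Cfsg.HasCyclicSchurMultiplier ↥(Cfsg.Lie.chevE8.group F) 1 := by
  have hmem : Cfsg.Lie.chevE8 ∈ [Cfsg.Lie.chevG2, Cfsg.Lie.chevB2, Cfsg.Lie.chevD4, Cfsg.Lie.chevF4, Cfsg.Lie.chevE6,
      Cfsg.Lie.chevE7, Cfsg.Lie.chevE8] := by simp
  obtain ⟨e1, -⟩ := Cfsg.Agent.Lib.Helper81_StR3B.exists_mulEquiv_cover (F := F) Cfsg.Lie.chevE8 hmem
  obtain ⟨e2, -⟩ := Cfsg.Agent.Lib.Helper81_StUniB.exists_mulEquiv (F := F) Cfsg.Lie.chevE8 (by simp)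
  apply Cfsg.Agent.Lib.Helper81_UceSchur.hasCyclicSchurMultiplier_one (e1.trans e2)
  intro Γ _ σ hs hc
  exact Cfsg.Agent.Lib.Helper35_SteinMain.exists_lift Cfsg.Agent.Lib.Helper35_SteinCertE8.cert σ hs hc
    (e1.trans e2).toMonoidHom

end Cfsg.Agent.S2107
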