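import Cfsg.Statements.S2113
import Cfsg.Agent.Lib.Helper50_ReeMultAbs
import Cfsg.Agent.Lib.Helper37_S2113_REE
import Cfsg.Agent.S1152
import Cfsg.Agent.S1156
import Cfsg.Agent.S1157

set_option autoImplicit false
open Cfsg

namespace Cfsg.Agent.S2113

/-- Schur multipliers of the small Ree groups: for q = 3^(2m+1) with m ≥ 1 the Schur multiplier of ²G₂(q) is trivial (here the Schur multiplier is described through stem extensions, as in the definitions). -/
theorem result {K : Type*} [Field K] [Fintype K] {m : ℕ} (hm : 1 ≤ m) (hK : Fintype.card K = 3 ^ (2 * m + 1)) : Cfsg.HasCyclicSchurMultiplier ↥(Cfsg.Lie.twistedG2 K (3 ^ m)) 1 := by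
  have hchar : CharP K 3 := by
    obtain ⟨p, hp⟩ := CharP.exists K
    have := hp
    obtain ⟨n, hpn, hcard⟩ := FiniteField.card K p
    have h3 : (3 : ℕ) ∣ p ^ (n : ℕ) := by
      rw [← hcard, hK]
      exact dvd_pow_self 3 (by omega)
    have h3p : 3 ∣ p := Nat.Prime.dvd_of_dvd_pow Nat.prime_three h3
    have : p = 3 := ((Nat.prime_dvd_prime_iff_eq Nat.prime_three hpn).mp h3p).symm
    subst this
    exact hp
  obtain ⟨w, h, U, w_mul, h_conj, hU, hidx⟩ := Cfsg.Agent.Lib.Helper37_S2113_REE.ree_data (m := m) hK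
  obtain ⟨a, haH, ha1, ha2⟩ := Cfsg.Agent.Lib.Helper37_S2113_REE.ree_invol (m := m) hK
  have h1152 := (Cfsg.Agent.S1152.result hK a haH ha1 ha2).2
  refine Cfsg.Agent.Lib.Helper50_ReeMultAbs.mult_trivial_abs (2 * m + 1) (by omega) hK
    (Cfsg.Agent.Lib.Helper37_S2113_REE.sHom K m) (Cfsg.Agent.Lib.Helper37_S2113_REE.sHom_sHom hK)
    w w_mul h h_conj U hU hidx ?_ ?_
  · intro S
    exact ⟨(h1152 S).1, (h1152 S).2, (Cfsg.Agent.S1157.result hm hK S).1, (Cfsg.Agent.S1157.result hm hK S).2⟩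
  · intro p _ hp P
    exact Cfsg.Agent.S1156.result hm hK hp P

end Cfsg.Agent.S2113
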