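import Cfsg.Statements.S2115
import Cfsg.Agent.Lib.Helper41_TiM2Main

set_option autoImplicit false
open Cfsg

namespace Cfsg.Agent.S2115

/-- The Tits group, the commutator subgroup of ²F₄(2), has trivial Schur multiplier (here the Schur multiplier is described through stem extensions, as in the definitions). -/
theorem result : Cfsg.HasCyclicSchurMultiplier Cfsg.Lie.TitsGroup 1 := by
  have hfin : Finite ↥(commutator Cfsg.Agent.Lib.Helper41_TiBridge.Gm) :=
    Cfsg.Agent.Lib.Helper41_TiM2Main.finite_tits
  show Cfsg.HasCyclicSchurMultiplier ↥(commutator Cfsg.Agent.Lib.Helper41_TiBridge.Gm) 1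
  apply Cfsg.Agent.Lib.Helper66_Stem.hasCyclicSchurMultiplier_one
  intro Γ _ _ σ hσ
  exact Cfsg.Agent.Lib.Helper41_TiM2Main.ker_eq_bot_tits σ hσ

end Cfsg.Agent.S2115
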