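import Cfsg.Statements.S2116
import Cfsg.Agent.S3335
import Cfsg.Agent.Lib.Helper6_Cliff
import Cfsg.Agent.Lib.Helper6_SchurAn7
import Cfsg.Agent.Lib.Helper6_SchurAn8
import Cfsg.Agent.Lib.Helper6_SchurAn10

set_option autoImplicit false
open Cfsg

namespace Cfsg.Agent.S2116

/-- Exceptional Schur multipliers of the alternating groups: for n = 6 and n = 7 the Schur multiplier of the alternating group of degree n is cyclic of order 6 (here the Schur multiplier is described through stem extensions, as in the definitions). -/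
theorem result (n : ℕ) (hn : n = 6 ∨ n = 7) : Cfsg.HasCyclicSchurMultiplier (alternatingGroup (Fin n)) 6 := by
  open Cfsg.Agent.Helper6SchurAn Cfsg.Agent.Helper6Cliff in
  obtain ⟨k, rfl, hk3, hk4⟩ : ∃ k, n = k + 3 ∧ 3 ≤ k ∧ k ≤ 4 := ⟨n - 3, by omega, by omega, by omega⟩
  obtain ⟨iso⟩ := Cfsg.Agent.S3335.main k
  haveI : Finite (Cfsg.Agent.Helper6SchurAn.P k) := Finite.of_equiv _ iso.symm.toEquiv
  refine ⟨?_, ?_⟩
  · -- existence of a stem extension with kernel cyclic of order 6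
    obtain ⟨Γ₃, i1, i2, σ₃, w, ⟨s3, c3, d3⟩, hk3', ho3⟩ :=
      Cfsg.Agent.Helper6SchurAn.exists_triple_cover k hk3 hk4
    have hker3 : (iso.toMonoidHom.comp σ₃).ker = σ₃.ker := by
      ext x
      rw [MonoidHom.mem_ker, MonoidHom.mem_ker, MonoidHom.comp_apply]
      exact MulEquiv.map_eq_one_iff iso
    have hstem3 : Cfsg.IsStemExtension (iso.toMonoidHom.comp σ₃) := by
      refine ⟨?_, ?_, ?_⟩
      · exact iso.surjective.comp s3
      · rw [hker3]; exact c3
      · rw [hker3]; exact d3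
    have hfin2 := Cfsg.Agent.Helper6Cliff.cover_finite (k + 3)
    have hstem2 : Cfsg.IsStemExtension (Cfsg.Agent.Helper6Cliff.coverHom (k + 3)) := by
      refine ⟨Cfsg.Agent.Helper6Cliff.coverHom_surjective (k + 3), ?_, ?_⟩
      · rw [Cfsg.Agent.Helper6Cliff.coverHom_ker, Subgroup.zpowers_le]
        exact Cfsg.Agent.Helper6Cliff.zc_central (k + 3)
      · rw [Cfsg.Agent.Helper6Cliff.coverHom_ker, Subgroup.zpowers_le]
        exact Cfsg.Agent.Helper6Cliff.zc_mem_commutator (by omega)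
    exact Cfsg.Agent.Helper6SchurAn.stem_fiber (Cfsg.Agent.Helper6Cliff.coverHom (k + 3))
      (iso.toMonoidHom.comp σ₃) hstem2 hstem3 (Cfsg.Agent.Helper6Cliff.zc (k + 3))
      (Cfsg.Agent.Helper6Cliff.coverHom_ker (k + 3)) (Cfsg.Agent.Helper6Cliff.orderOf_zc (k + 3))
      w (by rw [hker3]; exact hk3') ho3
  · -- every finite stem extension has kernel an image of `ZMod 6`
    intro Γ _ _ σ hσ
    obtain ⟨hs, hc, hd⟩ := hσ
    let e : Γ ⧸ σ.ker ≃* Cfsg.Agent.Helper6SchurAn.P k :=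
      (QuotientGroup.quotientKerEquivOfSurjective σ hs).trans iso.symm
    obtain ⟨A, _, u, f, hu, hf, hmem⟩ :=
      Cfsg.Agent.Helper6SchurAn.stem_ker_le_zpowers σ.ker hc hd (by omega : 1 ≤ k) e
    exact Cfsg.Agent.Helper6SchurAn.exists_surj_zmod6 u hu f hf hmem

end Cfsg.Agent.S2116
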