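import Cfsg.Statements.S2118
import Cfsg.Agent.Lib.Helper66_Stem
import Cfsg.Agent.Lib.Helper35_SL29Bound
import Cfsg.Agent.Lib.Helper35_ThreeA6
import Cfsg.Agent.S0254

set_option autoImplicit false
open Cfsg

namespace Cfsg.Agent.S2118

/-- For the field with 9 elements, the special linear group SL₂ has Schur multiplier cyclic of order 3 (here the Schur multiplier is described through stem extensions, as in the definitions). -/
theorem result {F : Type*} [Field F] [Fintype F] (hF : Fintype.card F = 9) : Cfsg.HasCyclicSchurMultiplier (Matrix.SpecialLinearGroup (Fin 2) F) 3 := by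
  classical
  apply Cfsg.Agent.Lib.Helper66_Stem.hasCyclicSchurMultiplier_of
  · obtain ⟨e⟩ := Cfsg.Agent.S0254.result hF
    have hstem := Cfsg.Agent.Lib.Helper35_ThreeA6.isStemExtension_p1 e
    have hne := Cfsg.Agent.Lib.Helper35_ThreeA6.ker_p1_ne_bot e
    refine ⟨Cfsg.Agent.Lib.Helper35_ThreeA6.PBs e, inferInstance, inferInstance,
      Cfsg.Agent.Lib.Helper35_ThreeA6.p1 e, hstem, ?_⟩
    obtain ⟨w, hw, hgen, hw3⟩ := Cfsg.Agent.Lib.Helper35_SL29Bound.bound
      (Cfsg.Agent.Lib.Helper35_ThreeA6.p1 e) hstem hF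
    have hker : (Cfsg.Agent.Lib.Helper35_ThreeA6.p1 e).ker = Subgroup.zpowers w := by
      apply le_antisymm
      · exact fun z hz => hgen z hz
      · rw [Subgroup.zpowers_le]; exact hw
    have hw1 : w ≠ 1 := by
      intro h
      apply hne
      rw [hker, h, Subgroup.zpowers_one_eq_bot]
    have hord : orderOf w = 3 := by
      have h1 : orderOf w ∣ 3 := orderOf_dvd_of_pow_eq_one hw3
      rcases (Nat.dvd_prime Nat.prime_three).mp h1 with h | h
      · exact absurd (orderOf_eq_one_iff.mp h) hw1
      · exact h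
    rw [hker]
    refine ⟨inferInstance, ?_⟩
    rw [Nat.card_zpowers, hord]
  · intro Γ _ _ σ hσ
    exact Cfsg.Agent.Lib.Helper35_SL29Bound.bound σ hσ hF

end Cfsg.Agent.S2118
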