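import Cfsg.Statements.S2121
import Cfsg.Agent.Lib.Helper18_ChevData5
import Cfsg.Agent.Lib.Helper18_ChevAutN
import Cfsg.Agent.Lib.Helper18_ChevAutCertsG2
import Cfsg.Agent.Lib.Helper36_ChevSimpleAll

set_option autoImplicit false
open Cfsg

namespace Cfsg.Agent.S2121

/-- Outer automorphisms of the Chevalley groups of type G₂: over a field with q = p^f (p prime) ≥ 3 elements, the outer automorphism group of G₂(q) has order f when p ≠ 3 and 2f when p = 3 (field automorphisms, and in characteristic 3 also the exceptional graph automorphism). -/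
theorem result {F : Type*} [Field F] [Fintype F] (p f : ℕ) [Fact p.Prime] [CharP F p] (hF : Fintype.card F = p ^ f) (hq : 3 ≤ p ^ f) : Nat.card (Cfsg.Out ↥(Cfsg.Lie.chevG2.group F)) = (if p = 3 then 2 * f else f) := by
  classical
  have c := Cfsg.Agent.Lib.Helper18_ChevDatumG2.dcert
  have tc := Cfsg.Agent.Lib.Helper18_ChevTCertG2.tcert
  have gc := Cfsg.Agent.Lib.Helper18_ChevGCertG2.gcert
  have pc := Cfsg.Agent.Lib.Helper18_ChevPCertG2.pcert
  have ac := Cfsg.Agent.Lib.Helper18_ChevACerts.acertG2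
  have hdesc := Cfsg.Agent.Lib.Helper18_ChevJCerts.descent_all Cfsg.Lie.chevG2 (by simp)
  have hR2 := Cfsg.Agent.Lib.Helper18_ChevComm2.r2_all c pc (F := F)
  have A : Cfsg.Agent.Lib.Helper18_ChevAutJ.AutBase2 Cfsg.Lie.chevG2 _ _ _ _ _ _
      Cfsg.Agent.Lib.Helper18_ChevW0Certs.w0G2 F :=
    ⟨Cfsg.Agent.Lib.Helper18_ChevDatumG2.dcert, tc, ac, gc, hdesc, hR2, Cfsg.Agent.Lib.Helper18_ChevW0Certs.w0CertG2,
      Cfsg.Agent.Lib.Helper18_ChevAutCertsG2.w0SimpleG2, Cfsg.Agent.Lib.Helper18_ChevAutCertsG2.headCertG2⟩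
  by_cases hp : p = 3
  · subst hp
    have hK : ∃ a : F, a ≠ 0 ∧ a ≠ 1 := by
      by_contra hcon
      simp only [not_exists, not_and, not_not] at hcon
      have h1 : (Finset.univ : Finset F) ⊆ {0, 1} := by
        intro a _
        by_cases h0 : a = 0
        · simp [h0]
        · simp [hcon a h0]
      have h2 := Finset.card_le_card h1
      have h3 : ({0, 1} : Finset F).card ≤ 2 := Finset.card_le_two
      rw [Finset.card_univ, hF] at h2
      omega
    have hsimple : IsSimpleGroup ↥(Cfsg.Lie.chevG2.group F) :=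
      (Cfsg.Agent.Lib.Helper36_ChevSimpleAll.simple_of_mem (F := F) Cfsg.Lie.chevG2 (by simp) (fun _ => hK)).1
    obtain ⟨ψ, hψ⟩ := Cfsg.Agent.Lib.Helper18_ChevAutN.exists_graphAut2 (F := F)
      Cfsg.Agent.Lib.Helper18_ChevDatumG2.dcert Cfsg.Agent.Lib.Helper18_ChevGraphG2.graphCertG2
      Cfsg.Agent.Lib.Helper18_ChevAutCertsG2.graphPermCertG2
    rw [Cfsg.Agent.Lib.Helper18_ChevAutL.card_out_graph2 3 A Cfsg.Agent.Lib.Helper18_ChevAutCertsG2.connCertG2
      Cfsg.Agent.Lib.Helper18_ChevOCerts.ocertG2 Cfsg.Agent.Lib.Helper18_ChevAutCertsG2.repCertG2 _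
      Cfsg.Agent.Lib.Helper18_ChevAutCertsG2.invCartanLG2 Cfsg.Agent.Lib.Helper18_ChevAutCertsG2.orbitCertG2
      Cfsg.Agent.Lib.Helper18_ChevAutCertsG2.pointedRigidG2 Cfsg.Agent.Lib.Helper18_ChevAutCertsG2.flipCertG2
      (by decide) (by decide) hψ,
      Cfsg.Agent.Lib.Helper18_ChevAutF.card_ringAut_eq 3 f hF]
    rw [if_pos rfl, mul_comm]
  · have hC : ((-3 : ℤ) : F) ≠ 0 := by
      apply Cfsg.Agent.Lib.Helper18_ChevAutM.intCast_ne_zero_of_not_dvd p
      intro hdvd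
      have h0 : (p : ℤ) ∣ ((3 : ℕ) : ℤ) := by
        have := (dvd_neg (a := (p : ℤ)) (b := (-3 : ℤ))).mpr hdvd
        simpa using this
      have h1 : p ∣ 3 := by exact_mod_cast h0
      exact hp ((Nat.prime_dvd_prime_iff_eq (Fact.out : p.Prime) Nat.prime_three).mp h1)
    rw [Cfsg.Agent.Lib.Helper18_ChevAutL.card_out2 p A Cfsg.Agent.Lib.Helper18_ChevAutCertsG2.connCertG2
      Cfsg.Agent.Lib.Helper18_ChevOCerts.ocertG2 Cfsg.Agent.Lib.Helper18_ChevAutCertsG2.repCertG2 _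
      Cfsg.Agent.Lib.Helper18_ChevAutCertsG2.invCartanLG2 Cfsg.Agent.Lib.Helper18_ChevAutCertsG2.orbitCertG2
      Cfsg.Agent.Lib.Helper18_ChevAutCertsG2.pointedRigidG2 Cfsg.Agent.Lib.Helper18_ChevAutCertsG2.flipCertG2
      (by decide)
      (fun θ h1 h2 => Cfsg.Agent.Lib.Helper18_ChevAutM.false_of_swapB c tc ac gc hR2
        Cfsg.Agent.Lib.Helper18_ChevAutCertsG2.swapCertG2 hC θ h1 h2),
      Cfsg.Agent.Lib.Helper18_ChevAutF.card_ringAut_eq p f hF]
    rw [if_neg hp]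

end Cfsg.Agent.S2121
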