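import Cfsg.Statements.S2122
import Cfsg.Agent.Lib.Helper18_ChevData5
import Cfsg.Agent.Lib.Helper18_ChevAutN
import Cfsg.Agent.Lib.Helper18_ChevAutCertsF4
import Cfsg.Agent.Lib.Helper36_ChevSimpleAll

set_option autoImplicit false
open Cfsg

namespace Cfsg.Agent.S2122

/-- Outer automorphisms of the Chevalley groups of type F₄: over a field with q = p^f (p prime) elements, the outer automorphism group of F₄(q) has order gcd(2, p) · f (field automorphisms, and in characteristic 2 also the exceptional graph automorphism). -/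
theorem result {F : Type*} [Field F] [Fintype F] (p f : ℕ) [Fact p.Prime] [CharP F p] (hF : Fintype.card F = p ^ f) : Nat.card (Cfsg.Out ↥(Cfsg.Lie.chevF4.group F)) = Nat.gcd 2 p * f := by
  classical
  have c := Cfsg.Agent.Lib.Helper18_ChevDatumF4.dcert
  have tc := Cfsg.Agent.Lib.Helper18_ChevTCertF4.tcert
  have gc := Cfsg.Agent.Lib.Helper18_ChevGCertF4.gcert
  have pc := Cfsg.Agent.Lib.Helper18_ChevPCertF4.pcert
  have ac := Cfsg.Agent.Lib.Helper18_ChevACerts.acertF4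
  have hdesc := Cfsg.Agent.Lib.Helper18_ChevJCerts.descent_all Cfsg.Lie.chevF4 (by simp)
  have hR2 := Cfsg.Agent.Lib.Helper18_ChevComm2.r2_all c pc (F := F)
  have A : Cfsg.Agent.Lib.Helper18_ChevAutJ.AutBase2 Cfsg.Lie.chevF4 _ _ _ _ _ _
      Cfsg.Agent.Lib.Helper18_ChevW0Certs.w0F4 F :=
    ⟨Cfsg.Agent.Lib.Helper18_ChevDatumF4.dcert, tc, ac, gc, hdesc, hR2, Cfsg.Agent.Lib.Helper18_ChevW0Certs.w0CertF4,
      Cfsg.Agent.Lib.Helper18_ChevAutCertsF4.w0SimpleF4, Cfsg.Agent.Lib.Helper18_ChevAutCertsF4.headCertF4⟩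
  by_cases hp : p = 2
  · subst hp
    have hsimple : IsSimpleGroup ↥(Cfsg.Lie.chevF4.group F) :=
      (Cfsg.Agent.Lib.Helper36_ChevSimpleAll.simple_of_mem (F := F) Cfsg.Lie.chevF4 (by simp)
        (fun h => by rcases h with h | h <;> exact absurd (congrArg Cfsg.Lie.ChevalleyDatum.rank h) (by decide))).1
    obtain ⟨ψ, hψ⟩ := Cfsg.Agent.Lib.Helper18_ChevAutN.exists_graphAut2 (F := F)
      Cfsg.Agent.Lib.Helper18_ChevDatumF4.dcert Cfsg.Agent.Lib.Helper18_ChevGraphF4.graphCertF4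
      Cfsg.Agent.Lib.Helper18_ChevAutCertsF4.graphPermCertF4
    rw [Cfsg.Agent.Lib.Helper18_ChevAutL.card_out_graph2 2 A Cfsg.Agent.Lib.Helper18_ChevAutCertsF4.connCertF4
      Cfsg.Agent.Lib.Helper18_ChevOCerts.ocertF4 Cfsg.Agent.Lib.Helper18_ChevAutCertsF4.repCertF4 _
      Cfsg.Agent.Lib.Helper18_ChevAutCertsF4.invCartanLF4 Cfsg.Agent.Lib.Helper18_ChevAutCertsF4.orbitCertF4
      Cfsg.Agent.Lib.Helper18_ChevAutCertsF4.pointedRigidF4 Cfsg.Agent.Lib.Helper18_ChevAutCertsF4.flipCertF4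
      (by decide) (by decide) hψ,
      Cfsg.Agent.Lib.Helper18_ChevAutF.card_ringAut_eq 2 f hF]
    rw [Nat.gcd_self, mul_comm]
  · have hC : ((2 : ℤ) : F) ≠ 0 := by
      apply Cfsg.Agent.Lib.Helper18_ChevAutM.intCast_ne_zero_of_not_dvd p
      intro hdvd
      have h1 : p ∣ 2 := by exact_mod_cast hdvd
      exact hp ((Nat.prime_dvd_prime_iff_eq (Fact.out : p.Prime) Nat.prime_two).mp h1)
    rw [Cfsg.Agent.Lib.Helper18_ChevAutL.card_out2 p A Cfsg.Agent.Lib.Helper18_ChevAutCertsF4.connCertF4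
      Cfsg.Agent.Lib.Helper18_ChevOCerts.ocertF4 Cfsg.Agent.Lib.Helper18_ChevAutCertsF4.repCertF4 _
      Cfsg.Agent.Lib.Helper18_ChevAutCertsF4.invCartanLF4 Cfsg.Agent.Lib.Helper18_ChevAutCertsF4.orbitCertF4
      Cfsg.Agent.Lib.Helper18_ChevAutCertsF4.pointedRigidF4 Cfsg.Agent.Lib.Helper18_ChevAutCertsF4.flipCertF4
      (by decide)
      (fun θ h1 h2 => Cfsg.Agent.Lib.Helper18_ChevAutM.false_of_swapA c tc ac gc hR2
        Cfsg.Agent.Lib.Helper18_ChevAutCertsF4.swapCertF4 hC θ h1 h2),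
      Cfsg.Agent.Lib.Helper18_ChevAutF.card_ringAut_eq p f hF]
    have h2 : Nat.gcd 2 p = 1 :=
      (Nat.coprime_primes Nat.prime_two (Fact.out : p.Prime)).mpr (Ne.symm hp)
    rw [h2, one_mul]

end Cfsg.Agent.S2122
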