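import Cfsg.Statements.S2123
import Cfsg.Agent.Lib.Helper18_ChevData5
import Cfsg.Agent.Lib.Helper18_ChevAutI
import Cfsg.Agent.Lib.Helper18_ChevAutCerts
import Cfsg.Agent.Lib.Helper18_ChevAutCertsE6
-- import your own Cfsg.Agent.* helpers here

set_option autoImplicit false
open Cfsg

namespace Cfsg.Agent.S2123

/-- Outer automorphisms of the (adjoint, simple) Chevalley groups of type E₆: over a field with q = p^f (p prime) elements, the outer automorphism group of E₆(q) has order 2 · gcd(3, q − 1) · f (diagonal, field and graph automorphisms). -/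
theorem result {F : Type*} [Field F] [Fintype F] (p f : ℕ) [Fact p.Prime] [CharP F p] (hF : Fintype.card F = p ^ f) : Nat.card (Cfsg.Out ↥(Cfsg.Lie.chevE6.group F)) = 2 * Nat.gcd 3 (p ^ f - 1) * f := by
  classical
  have c := Cfsg.Agent.Lib.Helper18_ChevDatumE6.dcert
  have tc := Cfsg.Agent.Lib.Helper18_ChevTCertE6.tcert
  have gc := Cfsg.Agent.Lib.Helper18_ChevGCertE6.gcert
  have pc := Cfsg.Agent.Lib.Helper18_ChevPCertE6.pcert
  have ac := Cfsg.Agent.Lib.Helper18_ChevACerts.acertE6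
  have hdesc := Cfsg.Agent.Lib.Helper18_ChevJCerts.descent_all Cfsg.Lie.chevE6 (by simp)
  have hR2 := Cfsg.Agent.Lib.Helper18_ChevComm2.r2_all c pc (F := F)
  have A : Cfsg.Agent.Lib.Helper18_ChevAutI.AutBase Cfsg.Lie.chevE6 _ _ _ _ _ _
      Cfsg.Agent.Lib.Helper18_ChevW0Certs.w0E6 F :=
    ⟨Cfsg.Agent.Lib.Helper18_ChevDatumE6.dcert, tc, ac, gc, hdesc, hR2, Cfsg.Agent.Lib.Helper18_ChevW0Certs.w0CertE6,
      Cfsg.Agent.Lib.Helper18_ChevAutCertsE6.w0SimpleE6, Cfsg.Agent.Lib.Helper18_ChevAutCertsE6.slCertE6⟩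
  rw [Cfsg.Agent.Lib.Helper18_ChevAutI.card_out_graph p A Cfsg.Agent.Lib.Helper18_ChevAutCertsE6.divCertE6
    Cfsg.Agent.Lib.Helper18_ChevAutCertsE6.connCertE6 Cfsg.Agent.Lib.Helper18_ChevOCerts.ocertE6
    Cfsg.Agent.Lib.Helper18_ChevAutCertsE6.compE6_zero Cfsg.Agent.Lib.Helper18_ChevAutCertsE6.orbitCertE6
    Cfsg.Agent.Lib.Helper18_ChevAutCertsE6.pointedRigidE6 (Cfsg.Agent.Lib.Helper18_ChevAutCertsE6.graphAutE6 F)
    (by decide) (by decide),
    Cfsg.Agent.Lib.Helper18_ChevAutF.card_ringAut_eq p f hF]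
  unfold Cfsg.Agent.Lib.Helper18_ChevAutH.cartanHom
  rw [Cfsg.Agent.Lib.Helper18_TorusKer.card_ker Cfsg.Agent.Lib.Helper18_ChevAutCertsE6.kerCertE6,
    Nat.card_eq_fintype_card, Fintype.card_units, hF, Nat.gcd_comm]
  ring

end Cfsg.Agent.S2123
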