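import Cfsg.Statements.S2124
import Cfsg.Agent.Lib.Helper18_ChevData5
import Cfsg.Agent.Lib.Helper18_ChevAutH
import Cfsg.Agent.Lib.Helper18_ChevAutCerts
import Cfsg.Agent.Lib.Helper18_ChevAutCertsE7
-- import your own Cfsg.Agent.* helpers here

set_option autoImplicit false
open Cfsg

namespace Cfsg.Agent.S2124

/-- Outer automorphisms of the (adjoint, simple) Chevalley groups of type E₇: over a field with q = p^f (p prime) elements, the outer automorphism group of E₇(q) has order gcd(2, q − 1) · f (diagonal and field automorphisms). -/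
theorem result {F : Type*} [Field F] [Fintype F] (p f : ℕ) [Fact p.Prime] [CharP F p] (hF : Fintype.card F = p ^ f) : Nat.card (Cfsg.Out ↥(Cfsg.Lie.chevE7.group F)) = Nat.gcd 2 (p ^ f - 1) * f := by
  classical
  have c := Cfsg.Agent.Lib.Helper18_ChevDatumE7.dcert
  have tc := Cfsg.Agent.Lib.Helper18_ChevTCertE7.tcert
  have gc := Cfsg.Agent.Lib.Helper18_ChevGCertE7.gcert
  have pc := Cfsg.Agent.Lib.Helper18_ChevPCertE7.pcert
  have ac := Cfsg.Agent.Lib.Helper18_ChevACerts.acertE7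
  have hdesc := Cfsg.Agent.Lib.Helper18_ChevJCerts.descent_all Cfsg.Lie.chevE7 (by simp)
  have hR2 := Cfsg.Agent.Lib.Helper18_ChevComm2.r2_all c pc (F := F)
  have A : Cfsg.Agent.Lib.Helper18_ChevAutF.AutData Cfsg.Lie.chevE7 _ _ _ _ _ _
      Cfsg.Agent.Lib.Helper18_ChevW0Certs.w0E7 F :=
    ⟨c, tc, ac, gc, hdesc, hR2, Cfsg.Agent.Lib.Helper18_ChevW0Certs.w0CertE7,
      Cfsg.Agent.Lib.Helper18_ChevAutCerts.w0SimpleE7, Cfsg.Agent.Lib.Helper18_ChevAutCerts.slCertE7,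
      Cfsg.Agent.Lib.Helper18_ChevAutCerts.rigidE7⟩
  rw [Cfsg.Agent.Lib.Helper18_ChevAutH.card_out_diag p A Cfsg.Agent.Lib.Helper18_ChevAutCertsE7.divCertE7
    Cfsg.Agent.Lib.Helper18_ChevAutCerts.connCertE7 Cfsg.Agent.Lib.Helper18_ChevOCerts.ocertE7
    Cfsg.Agent.Lib.Helper18_ChevAutCerts.compE7_zero,
    Cfsg.Agent.Lib.Helper18_ChevAutF.card_ringAut_eq p f hF]
  congr 1
  unfold Cfsg.Agent.Lib.Helper18_ChevAutH.cartanHom
  rw [Cfsg.Agent.Lib.Helper18_TorusKer.card_ker Cfsg.Agent.Lib.Helper18_ChevAutCertsE7.kerCertE7,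
    Nat.card_eq_fintype_card, Fintype.card_units, hF, Nat.gcd_comm]

end Cfsg.Agent.S2124
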