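import Cfsg.Statements.S2125
import Cfsg.Agent.Lib.Helper18_ChevData5
import Cfsg.Agent.Lib.Helper18_ChevAutF
import Cfsg.Agent.Lib.Helper18_ChevAutCerts
-- import your own Cfsg.Agent.* helpers here

set_option autoImplicit false
open Cfsg

namespace Cfsg.Agent.S2125

/-- Outer automorphisms of the Chevalley groups of type E₈: over a field with p^f elements, p prime, the outer automorphism group of E₈(p^f) has order f (field automorphisms only). -/
theorem result {F : Type*} [Field F] [Fintype F] (p f : ℕ) [Fact p.Prime] [CharP F p] (hF : Fintype.card F = p ^ f) : Nat.card (Cfsg.Out ↥(Cfsg.Lie.chevE8.group F)) = f := by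
  obtain ⟨Ns, w, d, Ts, hT, K', base, stepT, wl, ws, sc, c, tc, gc, pc, ac⟩ :=
    Cfsg.Agent.Lib.Helper18_ChevData5.exists_cert5 Cfsg.Lie.chevE8 (by simp)
  have hdesc := Cfsg.Agent.Lib.Helper18_ChevJCerts.descent_all Cfsg.Lie.chevE8 (by simp)
  have hR2 := Cfsg.Agent.Lib.Helper18_ChevComm2.r2_all c pc (F := F)
  have A : Cfsg.Agent.Lib.Helper18_ChevAutF.AutData Cfsg.Lie.chevE8 Ns wl ws sc w d
      Cfsg.Agent.Lib.Helper18_ChevW0Certs.w0E8 F :=
    ⟨c, tc, ac, gc, hdesc, hR2, Cfsg.Agent.Lib.Helper18_ChevW0Certs.w0CertE8,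
      Cfsg.Agent.Lib.Helper18_ChevAutCerts.w0SimpleE8, Cfsg.Agent.Lib.Helper18_ChevAutCerts.slCertE8,
      Cfsg.Agent.Lib.Helper18_ChevAutCerts.rigidE8⟩
  rw [Cfsg.Agent.Lib.Helper18_ChevAutF.card_out p A Cfsg.Agent.Lib.Helper18_ChevAutCerts.connCertE8
    Cfsg.Agent.Lib.Helper18_ChevOCerts.ocertE8 Cfsg.Agent.Lib.Helper18_ChevAutCerts.compE8_zero _
    Cfsg.Agent.Lib.Helper18_ChevAutCerts.invCartanLE8]
  exact Cfsg.Agent.Lib.Helper18_ChevAutF.card_ringAut_eq p f hF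

end Cfsg.Agent.S2125
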