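import Mathlib
import Cfsg.Statements.S2131
import Cfsg.Agent.Lib.Helper90_J1CentData

set_option autoImplicit false
open Cfsg

namespace Cfsg.Agent.S2131

open Cfsg.Agent.Lib.Helper90_J1Core Cfsg.Agent.Lib.Helper90_J1Table
  Cfsg.Agent.Lib.Helper90_J1Data Cfsg.Agent.Lib.Helper90_J1Order
  Cfsg.Agent.Lib.Helper90_J1Simple Cfsg.Agent.Lib.Helper90_J1Cent
  Cfsg.Agent.Lib.Helper90_J1CentData Cfsg.Spor

/-- The involution `t = x y x y⁻¹`. -/
noncomputable def t : J1 := gw [0, 1, 0, 3]

theorem t_mat : ((t : GL (Fin 7) (ZMod 11)) : M7) = toMat ct := by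
  rw [← t_code, toMat_evalW]
  rfl

theorem orderOf_t : orderOf t = 2 := by
  have : Fact (Nat.Prime 2) := ⟨Nat.prime_two⟩
  unfold t
  rw [orderOf_gw]
  exact orderOf_evalG (by rw [t_code]; exact t_sq) (by rw [t_code]; exact t_ne)

theorem card_cent_le : Nat.card (Subgroup.centralizer ({t} : Set J1)) ≤ 120 := by
  have h0 : genG 0 = cX := rfl
  have h1 : genG 1 = cY := rfl
  have h2 : ((t : GL (Fin 7) (ZMod 11)) : M7) = toMat (Ctab 0) := by rw [t_mat, C_zero]
  have h := card_centralizer_mul_le h0 h1 C_tree (bmLoop_spec C_bm) t h2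
  have h3 : (175560 : ℕ) = 120 * 1463 := by norm_num
  rw [h3] at h
  exact Nat.le_of_mul_le_mul_right h (by norm_num)

/-- The subgroup `A = ⟨u, v⟩`. -/
noncomputable def A : Subgroup (GL (Fin 7) (ZMod 11)) := Subgroup.closure (wordSet Aws 2)

theorem card_A : Nat.card A = 60 :=
  card_closure_table A_gen (by norm_num) A_zero A_closed A_tree A_dist

theorem A_le : A ≤ J1 := wordSet_subset_J1 _ _

/-- The five matrices. -/
noncomputable def N (k : Fin 5) : M7 := toMat (Ntab k)

theorem N_inj : Function.Injective N := by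
  intro i j h
  exact Fin.ext (chkDist_spec N_dist i i.2 j j.2 h)

/-- The permutation induced by `u`. -/
def pu : Equiv.Perm (Fin 5) := Equiv.swap 1 2 * Equiv.swap 3 4
/-- The permutation induced by `v`. -/
def pv : Equiv.Perm (Fin 5) := Equiv.swap 0 2 * Equiv.swap 0 4

theorem pu_val : ∀ k : Fin 5, ((pu k : Fin 5) : ℕ) = puf k := by decide
theorem pv_val : ∀ k : Fin 5, ((pv k : Fin 5) : ℕ) = pvf k := by decide

theorem allLt_and {n : ℕ} {f : ℕ → Bool} (h : ∀ i < n, f i = true) : allLt n f = true := by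
  induction n with
  | zero => rfl
  | succ n ih =>
    show (f n && allLt n f) = true
    rw [h n (Nat.lt_succ_self n), ih (fun i hi => h i (Nat.lt_succ_of_lt hi))]
    rfl

theorem u_mat : ((evalG (Aws 0) : GL (Fin 7) (ZMod 11)) : M7) = toMat Ac0 := by
  rw [← toMat_evalW]
  exact congrArg toMat Aw0_code

theorem v_mat : ((evalG (Aws 1) : GL (Fin 7) (ZMod 11)) : M7) = toMat Ac1 := by
  rw [← toMat_evalW]
  exact congrArg toMat Aw1_code

theorem acts_u : Acts N (evalG (Aws 0)) pu := by
  intro k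
  have h := allLt_spec N_u k k.2
  rw [Bool.and_eq_true] at h
  have h2 := Nat.eq_of_beq_eq_true h.2
  unfold N
  rw [u_mat, pu_val k, ← toMat_cmulR, ← toMat_cmulR, h2]

theorem acts_v : Acts N (evalG (Aws 1)) pv := by
  intro k
  have h := allLt_spec N_v k k.2
  rw [Bool.and_eq_true] at h
  have h2 := Nat.eq_of_beq_eq_true h.2
  unfold N
  rw [v_mat, pv_val k, ← toMat_cmulR, ← toMat_cmulR, h2]

theorem A_acts : ∀ g ∈ A, ∃ σ, Acts N g σ := by
  apply exists_acts_of_closure
  rintro s ⟨l, hl, rfl⟩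
  interval_cases l
  · exact ⟨pu, acts_u⟩
  · exact ⟨pv, acts_v⟩

/-- The action of `A` on the five matrices. -/
noncomputable def psi : A →* Equiv.Perm (Fin 5) := actHom N N_inj A A_acts

theorem u_mem : evalG (Aws 0) ∈ A := Subgroup.subset_closure ⟨0, by norm_num, rfl⟩
theorem v_mem : evalG (Aws 1) ∈ A := Subgroup.subset_closure ⟨1, by norm_num, rfl⟩

theorem psi_u : psi ⟨evalG (Aws 0), u_mem⟩ = pu := actHom_eq N N_inj A A_acts _ acts_u
theorem psi_v : psi ⟨evalG (Aws 1), v_mem⟩ = pv := actHom_eq N N_inj A A_acts _ acts_v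

theorem psi_injective : Function.Injective psi := by
  rw [injective_iff_map_eq_one]
  intro a ha
  have hact : Acts N a 1 := by
    have := actHom_spec N N_inj A A_acts a
    rwa [show actHom N N_inj A A_acts a = 1 from ha] at this
  obtain ⟨i, hi, hai⟩ := closure_mem_table A_gen (by norm_num : 0 < 60) A_zero A_closed a.1 a.2
  have hchk := allLt_spec A_faithful i hi
  unfold chkFaith at hchk
  simp only [force_eq, Bool.or_eq_true] at hchk
  rcases hchk with h0 | h0
  · have hi0 : i = 0 := Nat.eq_of_beq_eq_true h0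
    rw [hi0, A_zero, toMat_cone] at hai
    exact Subtype.ext (Units.ext hai)
  · exfalso
    have hall : allLt 5 (fun k => Nat.beq (cnormR (cmulR (Atab i) (Ntab k)))
        (cnormR (cmulR (Ntab k) (Atab i)))) = true := by
      apply allLt_and
      intro k hk
      have h1 := hact ⟨k, hk⟩
      rw [Equiv.Perm.one_apply, hai] at h1
      unfold N at h1
      rw [← toMat_cmulR, ← toMat_cmulR] at h1
      rw [cnormR_eq, cnormR_eq, cnorm_eq_of_toMat_eq h1]
      exact Nat.beq_refl _
    rw [hall] at h0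
    exact Bool.false_ne_true h0

theorem psi_mem_alt : ∀ a : A, psi a ∈ alternatingGroup (Fin 5) := by
  have key : ∀ g (hg : g ∈ A), Equiv.Perm.sign (psi ⟨g, hg⟩) = 1 := by
    intro g hg
    induction hg using Subgroup.closure_induction with
    | mem x hx =>
      obtain ⟨l, hl, rfl⟩ := hx
      interval_cases l
      · rw [psi_u]; decide
      · rw [psi_v]; decide
    | one => exact (congrArg Equiv.Perm.sign (map_one psi)).trans (map_one _)
    | mul x y hx hy ihx ihy =>
      have : (⟨x * y, Subgroup.mul_mem _ hx hy⟩ : A) = ⟨x, hx⟩ * ⟨y, hy⟩ := rfl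
      rw [this, map_mul, map_mul, ihx, ihy, mul_one]
    | inv x hx ihx =>
      have : (⟨x⁻¹, Subgroup.inv_mem _ hx⟩ : A) = (⟨x, hx⟩ : A)⁻¹ := rfl
      rw [this, map_inv, map_inv, ihx, inv_one]
  intro a
  rw [Equiv.Perm.mem_alternatingGroup]
  exact key a.1 a.2

/-- `A ≃* A₅`. -/
noncomputable def eA : A ≃* alternatingGroup (Fin 5) := by
  let f : A →* alternatingGroup (Fin 5) := psi.codRestrict _ psi_mem_alt
  have hf : Function.Injective f := by
    intro a b hab
    apply psi_injective
    exact congrArg Subtype.val hab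
  refine MulEquiv.ofBijective f (hf.bijective_of_nat_card_le ?_)
  rw [card_A, nat_card_alternatingGroup]
  simp [Nat.factorial]

/-! ### The centralizer -/

theorem t_comm_gen (l : ℕ) (hl : l < 2) :
    (t : GL (Fin 7) (ZMod 11)) * evalG (Aws l) = evalG (Aws l) * (t : GL (Fin 7) (ZMod 11)) := by
  apply Units.ext
  rw [Units.val_mul, Units.val_mul, t_mat]
  interval_cases l
  · rw [u_mat, ← toMat_cmulR, ← toMat_cmulR, t_comm_u]
  · rw [v_mat, ← toMat_cmulR, ← toMat_cmulR, t_comm_v]

theorem A_comm : ∀ g ∈ A, (t : GL (Fin 7) (ZMod 11)) * g = g * (t : GL (Fin 7) (ZMod 11)) := by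
  have h : A ≤ Subgroup.centralizer {(t : GL (Fin 7) (ZMod 11))} := by
    unfold A
    rw [Subgroup.closure_le]
    rintro s ⟨l, hl, rfl⟩
    rw [SetLike.mem_coe, Subgroup.mem_centralizer_singleton_iff]
    exact (t_comm_gen l hl).symm
  intro g hg
  have := h hg
  rw [Subgroup.mem_centralizer_singleton_iff] at this
  exact this.symm

theorem t_notin : (t : GL (Fin 7) (ZMod 11)) ∉ A := by
  intro h
  obtain ⟨i, hi, hti⟩ := closure_mem_table A_gen (by norm_num : 0 < 60) A_zero A_closed _ h
  rw [t_mat] at hti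
  have h1 := allLt_spec t_notin_A i hi
  rw [cnorm_eq_of_toMat_eq hti] at h1
  simp at h1

/-- `A` inside `J₁`. -/
noncomputable def A' : Subgroup J1 := A.subgroupOf J1

/-- `A' ≃* A`. -/
noncomputable def eA' : A' ≃* A := Subgroup.subgroupOfEquivOfLe A_le

theorem card_A' : Nat.card A' = 60 := by
  rw [Nat.card_congr eA'.toEquiv, card_A]

theorem mem_A' (g : J1) : g ∈ A' ↔ (g : GL (Fin 7) (ZMod 11)) ∈ A := Subgroup.mem_subgroupOf

theorem A'_comm (a : J1) (ha : a ∈ A') : t * a = a * t :=
  Subtype.ext (A_comm a ((mem_A' a).mp ha))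

theorem t_sq_eq : t * t = 1 := by
  have := pow_orderOf_eq_one t
  rwa [orderOf_t, pow_two] at this

theorem t_ne_one : t ≠ 1 := by
  intro h
  have := orderOf_t
  rw [h, orderOf_one] at this
  norm_num at this

theorem mem_zpowers_t (z : J1) (hz : z ∈ Subgroup.zpowers t) : z = 1 ∨ z = t := by
  obtain ⟨k, hk⟩ := Subgroup.mem_zpowers_iff.mp hz
  rcases Int.even_or_odd k with ⟨m, hm⟩ | ⟨m, hm⟩
  · left
    rw [← hk, hm, ← two_mul, zpow_mul, zpow_two, t_sq_eq, one_zpow]
  · right
    rw [← hk, hm, zpow_add, zpow_mul, zpow_two, t_sq_eq, one_zpow, one_mul, zpow_one]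

theorem card_Z : Nat.card (Subgroup.zpowers t) = 2 := by
  rw [Nat.card_zpowers, orderOf_t]

theorem Z_comm (z : J1) (hz : z ∈ Subgroup.zpowers t) (a : J1) (ha : a ∈ A') : z * a = a * z := by
  rcases mem_zpowers_t z hz with rfl | rfl
  · rw [one_mul, mul_one]
  · exact A'_comm a ha

theorem Z_inf_A' (z : J1) (hz : z ∈ Subgroup.zpowers t) (ha : z ∈ A') : z = 1 := by
  rcases mem_zpowers_t z hz with rfl | rfl
  · rfl
  · exact absurd ((mem_A' t).mp ha) t_notin

/-- The product map `⟨t⟩ × A' → C(t)`. -/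
noncomputable def Phi : Subgroup.zpowers t × A' →* Subgroup.centralizer ({t} : Set J1) :=
  (MonoidHom.noncommCoprod (Subgroup.zpowers t).subtype A'.subtype
    (fun z a => Z_comm z.1 z.2 a.1 a.2)).codRestrict _ (by
      rintro ⟨z, a⟩
      rw [Subgroup.mem_centralizer_singleton_iff]
      show (z.1 * a.1) * t = t * (z.1 * a.1)
      have h1 : z.1 * t = t * z.1 := by
        rcases mem_zpowers_t z.1 z.2 with h | h
        · rw [h, one_mul, mul_one]
        · rw [h]
      rw [mul_assoc, ← A'_comm a.1 a.2, ← mul_assoc, h1, mul_assoc])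

theorem Phi_apply (z : Subgroup.zpowers t) (a : A') : ((Phi (z, a) : J1)) = z.1 * a.1 := rfl

theorem Phi_injective : Function.Injective Phi := by
  rw [injective_iff_map_eq_one]
  rintro ⟨z, a⟩ h
  have h1 : z.1 * a.1 = 1 := by
    have := congrArg Subtype.val h
    rwa [Phi_apply] at this
  have h2 : z.1 = (a.1)⁻¹ := eq_inv_of_mul_eq_one_left h1
  have h3 : z.1 = 1 := Z_inf_A' z.1 z.2 (by rw [h2]; exact A'.inv_mem a.2)
  have h4 : a.1 = 1 := by rw [h3, one_mul] at h1; exact h1
  exact Prod.ext (Subtype.ext h3) (Subtype.ext h4)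

theorem Phi_bijective : Function.Bijective Phi := by
  apply Phi_injective.bijective_of_nat_card_le
  rw [Nat.card_prod, card_Z, card_A']
  exact card_cent_le

/-- The centralizer of t is `2 × A₅`. -/
noncomputable def eC : Subgroup.centralizer ({t} : Set J1) ≃*
    Multiplicative (ZMod 2) × alternatingGroup (Fin 5) :=
  have : Fact (Nat.Prime 2) := ⟨Nat.prime_two⟩
  (MulEquiv.ofBijective Phi Phi_bijective).symm.trans
    (MulEquiv.prodCongr (mulEquivOfPrimeCardEq (p := 2) card_Z (by simp))
      (eA'.trans eA))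

/-- The Janko group J₁ (the group generated by two explicit 7 × 7 matrices over the integers modulo 11) has an involution whose centraliser is isomorphic to the direct product of a group of order 2 with the alternating group of degree 5. -/
theorem result : ∃ t : ↥Cfsg.Spor.J1, orderOf t = 2 ∧ Nonempty (↥(Subgroup.centralizer ({t} : Set ↥Cfsg.Spor.J1)) ≃* Multiplicative (ZMod 2) × ↥(alternatingGroup (Fin 5))) := by
  exact ⟨t, orderOf_t, ⟨eC⟩⟩

end Cfsg.Agent.S2131
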