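import Cfsg.Statements.S2133
import Cfsg.Agent.S0445
import Cfsg.Agent.S0381
import Cfsg.Agent.Lib.Helper91_OctAffine

set_option autoImplicit false
open scoped Pointwise
open Cfsg
open Cfsg.Agent.Lib.Helper26_Golay
open Cfsg.Agent.Lib.Helper91_M24Stab Cfsg.Agent.Lib.Helper91_M24Stab3
open Cfsg.Agent.Lib.Helper91_OctAffine

namespace Cfsg.Agent.S2133

theorem card_le_mul_centralizer {G : Type*} [Group G] [Finite G] (z : G) (T : Set G)
    (hT : ∀ g : G, g * z * g⁻¹ ∈ T) :
    Nat.card G ≤ T.ncard * Nat.card (Subgroup.centralizer ({z} : Set G)) := by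
  have h1 := MulAction.index_stabilizer (ConjAct G) z
  have h2 := Subgroup.card_mul_index (MulAction.stabilizer (ConjAct G) z)
  have h3 : Nat.card (ConjAct G) = Nat.card G := rfl
  have h4 : MulAction.orbit (ConjAct G) z ⊆ T := by
    rintro x ⟨g, rfl⟩
    exact hT (ConjAct.ofConjAct g)
  have h5 : (MulAction.orbit (ConjAct G) z).ncard ≤ T.ncard :=
    Set.ncard_le_ncard h4 (Set.toFinite T)
  have h6 : Nat.card (MulAction.stabilizer (ConjAct G) z) =
      Nat.card (Subgroup.centralizer ({z} : Set G)) := by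
    apply Nat.card_congr
    symm
    apply Equiv.subtypeEquiv ConjAct.toConjAct.toEquiv
    intro a
    rw [Subgroup.centralizer_eq_comap_stabilizer]
    rfl
  rw [h1, h3, h6] at h2
  calc Nat.card G = Nat.card (Subgroup.centralizer ({z} : Set G)) *
      (MulAction.orbit (ConjAct G) z).ncard := h2.symm
    _ ≤ Nat.card (Subgroup.centralizer ({z} : Set G)) * T.ncard := Nat.mul_le_mul_left _ h5
    _ = T.ncard * Nat.card (Subgroup.centralizer ({z} : Set G)) := Nat.mul_comm _ _

def ZT : ℕ := 0xbd933a4a303b88c41aab7a86d28440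

def zt : ℕ := get120 ZT 0

theorem ZT_in : GensIn (M24 ⊓ MulAction.stabilizer (Equiv.Perm GolayPt) oct0) ZT 1 := by
  apply gensIn_stab1 oct0 (octAt 0) enc_oct0
  decide +kernel

theorem z0_exists : ∃ σ ∈ M24 ⊓ MulAction.stabilizer (Equiv.Perm GolayPt) oct0, Represents σ zt :=
  ZT_in 0 (by norm_num)

/-- an involution of `M24` fixing the base octad pointwise -/
noncomputable def z0 : Equiv.Perm GolayPt := Classical.choose z0_exists

theorem z0_M24 : z0 ∈ M24 := (Subgroup.mem_inf.mp (Classical.choose_spec z0_exists).1).1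

theorem z0_oct : z0 • oct0 = oct0 :=
  MulAction.mem_stabilizer_iff.mp (Subgroup.mem_inf.mp (Classical.choose_spec z0_exists).1).2

theorem z0_rep : Represents z0 zt := (Classical.choose_spec z0_exists).2

theorem zfixCheck : allFold (fun i => (img zt i == i) == ((octAt 0 >>> i) &&& 1 == 1)) 24 = true := by
  decide +kernel

theorem zsqCheck : allFold (fun i => img zt (img zt i) == i) 24 = true := by decide +kernel

theorem z0_fix_iff (q : GolayPt) : z0 q = q ↔ q ∈ oct0 := by
  have h := (allFold_eq_true _ _).mp zfixCheck (idx q) (idx_lt q)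
  rw [beq_iff_eq] at h
  rw [mem_iff_bit, enc_oct0]
  constructor
  · intro hq
    have h1 : (img zt (idx q) == idx q) = true := by
      rw [beq_iff_eq, ← z0_rep q, hq]
    rw [h1] at h
    exact beq_iff_eq.mp h.symm
  · intro hq
    have h1 : ((octAt 0 >>> idx q) &&& 1 == 1) = true := beq_iff_eq.mpr hq
    rw [h1, beq_iff_eq] at h
    apply idx_injective
    rw [z0_rep q, h]

theorem z0_sq : z0 * z0 = 1 := by
  apply Equiv.ext
  intro q
  rw [Equiv.Perm.mul_apply, Equiv.Perm.one_apply]
  apply idx_injective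
  have h := (allFold_eq_true _ _).mp zsqCheck (idx q) (idx_lt q)
  rw [beq_iff_eq] at h
  rw [z0_rep (z0 q), z0_rep q, h]

theorem z0_ne_one : z0 ≠ 1 := by
  intro h
  have h1 : pt 1 ∈ oct0 := by
    rw [← z0_fix_iff, h, Equiv.Perm.one_apply]
  rw [mem_iff_bit, enc_oct0, idx_pt 1 (by norm_num)] at h1
  revert h1
  decide +kernel

theorem z0_ptStab : z0 ∈ ptStab oct0 := by
  rw [mem_ptStab_iff]
  exact ⟨z0_M24, fun p hp => (z0_fix_iff p).mpr hp⟩

/-- the matrix of the involution -/
def S' : Matrix (Fin 5) (Fin 5) (ZMod 2) :=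
  Matrix.of fun i j => (((lw (img zt (bpIdx j)) >>> i.val) &&& 1 : ℕ) : ZMod 2)

theorem Mat_z0 : Mat z0 = S' := by
  ext i j
  unfold Mat S' ℓ
  rw [Matrix.of_apply, Matrix.of_apply, z0_rep (bp j)]
  unfold bp
  rw [idx_pt _ (bpIdx_lt j)]

/-- the change of basis taking the matrix of the involution to the standard transvection -/
def P : Matrix (Fin 5) (Fin 5) (ZMod 2) :=
  !![1, 0, 0, 0, 0; 1, 1, 1, 1, 1; 0, 0, 1, 0, 0; 0, 0, 0, 1, 0; 0, 0, 0, 0, 1]

theorem P_sq : P * P = 1 := by decide +kernel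

theorem P_conj : P * S' * P = Matrix.transvection 0 1 1 := by decide +kernel

theorem conjP (A B : Matrix (Fin 5) (Fin 5) (ZMod 2)) :
    (P * A * P) * (P * B * P) = P * (A * B) * P := by
  calc (P * A * P) * (P * B * P) = P * A * (P * P) * B * P := by simp only [Matrix.mul_assoc]
    _ = P * (A * B) * P := by rw [P_sq, Matrix.mul_one, Matrix.mul_assoc P A B]

theorem zmod2_mul_eq_one : ∀ a b : ZMod 2, a * b = 1 → a = 1 := by decide

theorem det_eq_one_of_mul_eq_one {A B : Matrix (Fin 5) (Fin 5) (ZMod 2)} (h : A * B = 1) :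
    A.det = 1 := by
  have h1 := congrArg Matrix.det h
  rw [Matrix.det_mul, Matrix.det_one] at h1
  exact zmod2_mul_eq_one _ _ h1

theorem det_P : P.det = 1 := det_eq_one_of_mul_eq_one P_sq

/-- an element commuting with the involution preserves the base octad -/
theorem smul_oct_of_comm {c : Equiv.Perm GolayPt} (hc : c * z0 = z0 * c) : c • oct0 = oct0 := by
  apply smul_eq_of_mem_iff
  intro x
  have hcx : c (z0 x) = z0 (c x) := by
    have := congrArg (fun τ : Equiv.Perm GolayPt => τ x) hc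
    simpa using this
  rw [← z0_fix_iff, ← z0_fix_iff, ← hcx]
  exact ⟨fun h => c.injective h, fun h => by rw [h]⟩

theorem det_Mat {c : Equiv.Perm GolayPt} (hc : c ∈ M24) (hco : c • oct0 = oct0) :
    (Mat c).det = 1 := by
  apply det_eq_one_of_mul_eq_one (B := Mat c⁻¹)
  rw [← Mat_mul hc hco, mul_inv_cancel, Mat_one]


/-- the centraliser of the involution has at least 21504 elements -/
theorem card_centralizer_ge (z : ↥M24) (hz : (z : Equiv.Perm GolayPt) = z0) :
    21504 ≤ Nat.card ↥(Subgroup.centralizer ({z} : Set ↥M24)) := by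
  have hz0G : z0 ∈ setStab oct0 := (mem_setStab_iff oct0 z0).mpr ⟨z0_M24, z0_oct⟩
  let z1 : ↥(setStab oct0) := ⟨z0, hz0G⟩
  let T : Set ↥(setStab oct0) :=
    {x | (x : Equiv.Perm GolayPt) ∈ ptStab oct0 ∧ (x : Equiv.Perm GolayPt) ≠ 1}
  have hT : ∀ g : ↥(setStab oct0), g * z1 * g⁻¹ ∈ T := by
    intro g
    have hg := (mem_setStab_iff oct0 g.1).mp g.2
    constructor
    · show (g : Equiv.Perm GolayPt) * z0 * (g : Equiv.Perm GolayPt)⁻¹ ∈ ptStab oct0
      rw [mem_ptStab_iff]
      refine ⟨M24.mul_mem (M24.mul_mem hg.1 z0_M24) (M24.inv_mem hg.1), ?_⟩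
      intro p hp
      have h1 : (g : Equiv.Perm GolayPt)⁻¹ p ∈ oct0 := by
        rw [← mem_iff_of_smul_eq hg.2]
        simpa using hp
      rw [Equiv.Perm.mul_apply, Equiv.Perm.mul_apply, (z0_fix_iff _).mpr h1]
      simp
    · show (g : Equiv.Perm GolayPt) * z0 * (g : Equiv.Perm GolayPt)⁻¹ ≠ 1
      intro h
      apply z0_ne_one
      have : z0 = (g : Equiv.Perm GolayPt)⁻¹ * ((g : Equiv.Perm GolayPt) * z0 *
          (g : Equiv.Perm GolayPt)⁻¹) * (g : Equiv.Perm GolayPt) := by group
      rw [this, h]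
      group
  have h1 := card_le_mul_centralizer z1 T hT
  rw [card_setStab oct0_mem] at h1
  -- the size of `T`
  have hTc : T.ncard ≤ 15 := by
    have hinj : Function.Injective (fun x : ↥(setStab oct0) => (x : Equiv.Perm GolayPt)) :=
      Subtype.val_injective
    have e1 : T.ncard = ((fun x : ↥(setStab oct0) => (x : Equiv.Perm GolayPt)) '' T).ncard :=
      (Set.ncard_image_of_injective T hinj).symm
    have e2 : (fun x : ↥(setStab oct0) => (x : Equiv.Perm GolayPt)) '' T ⊆
        ((ptStab oct0 : Subgroup (Equiv.Perm GolayPt)) : Set (Equiv.Perm GolayPt)) \ {1} := by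
      rintro _ ⟨x, hx, rfl⟩
      exact ⟨hx.1, hx.2⟩
    have e3 : (((ptStab oct0 : Subgroup (Equiv.Perm GolayPt)) : Set (Equiv.Perm GolayPt)) \
        {1}).ncard = 15 := by
      rw [Set.ncard_sdiff_singleton_of_mem (Subgroup.one_mem _)]
      have : ((ptStab oct0 : Subgroup (Equiv.Perm GolayPt)) : Set (Equiv.Perm GolayPt)).ncard = 16 := by
        rw [← (Cfsg.Agent.S0381.result oct0 oct0_mem).1]
        exact (Nat.card_coe_set_eq _).symm
      rw [this]
    rw [e1, ← e3]
    exact Set.ncard_le_ncard e2 (Set.toFinite _)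
  have h2 : 21504 ≤ Nat.card ↥(Subgroup.centralizer ({z1} : Set ↥(setStab oct0))) := by
    by_contra hcon
    have h3 : T.ncard * Nat.card ↥(Subgroup.centralizer ({z1} : Set ↥(setStab oct0))) ≤
        15 * 21503 := Nat.mul_le_mul hTc (by omega)
    omega
  -- transfer to the centraliser in `M24`
  let f : ↥(Subgroup.centralizer ({z1} : Set ↥(setStab oct0))) →
      ↥(Subgroup.centralizer ({z} : Set ↥M24)) := fun x =>
    ⟨⟨(x.1 : Equiv.Perm GolayPt), ((mem_setStab_iff oct0 _).mp x.1.2).1⟩, by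
      rw [Subgroup.mem_centralizer_iff]
      intro y hy
      rw [Set.mem_singleton_iff] at hy
      subst hy
      have hx := Subgroup.mem_centralizer_iff.mp x.2 z1 rfl
      have hx' := congrArg (fun t : ↥(setStab oct0) => (t : Equiv.Perm GolayPt)) hx
      apply Subtype.ext
      show (y : Equiv.Perm GolayPt) * (x.1 : Equiv.Perm GolayPt) =
        (x.1 : Equiv.Perm GolayPt) * (y : Equiv.Perm GolayPt)
      rw [hz]
      exact hx'⟩
  have hf : Function.Injective f := by
    intro a b hab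
    have h3 := congrArg (fun t : ↥(Subgroup.centralizer ({z} : Set ↥M24)) =>
      ((t : ↥M24) : Equiv.Perm GolayPt)) hab
    exact Subtype.ext (Subtype.ext h3)
  exact h2.trans (Nat.card_le_card_of_injective f hf)

/-- the conjugated matrix of an element of the stabiliser of the base octad -/
def conjMat (c : Equiv.Perm GolayPt) (hc : c ∈ M24) (hco : c • oct0 = oct0) :
    Matrix.SpecialLinearGroup (Fin 5) (ZMod 2) :=
  ⟨P * Mat c * P, by
    rw [Matrix.det_mul, Matrix.det_mul, det_P, det_Mat hc hco]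
    simp⟩

/-- M24 has an involution whose centraliser is isomorphic to the centraliser of a transvection in SL(5, 2). -/
theorem result (s : Matrix.SpecialLinearGroup (Fin 5) (ZMod 2)) (hs : (s : Matrix (Fin 5) (Fin 5) (ZMod 2)) = Matrix.transvection 0 1 1) : ∃ z : ↥Cfsg.M24, orderOf z = 2 ∧ Nonempty (↥(Subgroup.centralizer ({z} : Set ↥Cfsg.M24)) ≃* ↥(Subgroup.centralizer ({s} : Set (Matrix.SpecialLinearGroup (Fin 5) (ZMod 2))))) := by
  let z : ↥M24 := ⟨z0, z0_M24⟩
  have hzsq : z ^ 2 = 1 := by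
    apply Subtype.ext
    show z0 ^ 2 = 1
    rw [sq, z0_sq]
  have hzne : z ≠ 1 := by
    intro h
    exact z0_ne_one (congrArg Subtype.val h)
  refine ⟨z, orderOf_eq_prime hzsq hzne, ?_⟩
  -- facts on the elements of the centraliser
  have hcomm : ∀ c : ↥(Subgroup.centralizer ({z} : Set ↥M24)),
      ((c : ↥M24) : Equiv.Perm GolayPt) * z0 = z0 * ((c : ↥M24) : Equiv.Perm GolayPt) := by
    intro c
    have h := Subgroup.mem_centralizer_iff.mp c.2 z rfl
    exact (congrArg (fun t : ↥M24 => (t : Equiv.Perm GolayPt)) h).symm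
  have hmem : ∀ c : ↥(Subgroup.centralizer ({z} : Set ↥M24)),
      ((c : ↥M24) : Equiv.Perm GolayPt) ∈ M24 := fun c => (c : ↥M24).2
  have hoct : ∀ c : ↥(Subgroup.centralizer ({z} : Set ↥M24)),
      ((c : ↥M24) : Equiv.Perm GolayPt) • oct0 = oct0 := fun c => smul_oct_of_comm (hcomm c)
  have hsmat : ∀ c : ↥(Subgroup.centralizer ({z} : Set ↥M24)),
      Mat ((c : ↥M24) : Equiv.Perm GolayPt) * S' = S' * Mat ((c : ↥M24) : Equiv.Perm GolayPt) := by
    intro c
    rw [← Mat_z0, ← Mat_mul (hmem c) (hoct c), ← Mat_mul z0_M24 z0_oct, hcomm c]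
  let Ψ : ↥(Subgroup.centralizer ({z} : Set ↥M24)) →*
      ↥(Subgroup.centralizer ({s} : Set (Matrix.SpecialLinearGroup (Fin 5) (ZMod 2)))) :=
    { toFun := fun c => ⟨conjMat ((c : ↥M24) : Equiv.Perm GolayPt) (hmem c) (hoct c), by
        rw [Subgroup.mem_centralizer_iff]
        intro y hy
        rw [Set.mem_singleton_iff] at hy
        subst hy
        apply Subtype.ext
        show (y : Matrix (Fin 5) (Fin 5) (ZMod 2)) * (P * Mat ((c : ↥M24) : Equiv.Perm GolayPt) * P) =
          (P * Mat ((c : ↥M24) : Equiv.Perm GolayPt) * P) * (y : Matrix (Fin 5) (Fin 5) (ZMod 2))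
        rw [hs, ← P_conj, conjP, conjP, hsmat c]⟩
      map_one' := by
        apply Subtype.ext
        apply Subtype.ext
        show P * Mat ((1 : ↥M24) : Equiv.Perm GolayPt) * P = 1
        rw [Subgroup.coe_one, Mat_one, Matrix.mul_one, P_sq]
      map_mul' := fun c₁ c₂ => by
        apply Subtype.ext
        apply Subtype.ext
        show P * Mat (((c₁ * c₂ : ↥(Subgroup.centralizer ({z} : Set ↥M24))) : ↥M24) :
            Equiv.Perm GolayPt) * P =
          (P * Mat ((c₁ : ↥M24) : Equiv.Perm GolayPt) * P) *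
            (P * Mat ((c₂ : ↥M24) : Equiv.Perm GolayPt) * P)
        rw [conjP, ← Mat_mul (hmem c₁) (hoct c₁)]
        rfl }
  have hinj : Function.Injective Ψ := by
    rw [injective_iff_map_eq_one]
    intro c hc
    have h1 : P * Mat ((c : ↥M24) : Equiv.Perm GolayPt) * P = 1 :=
      congrArg (fun t : ↥(Subgroup.centralizer ({s} : Set (Matrix.SpecialLinearGroup (Fin 5)
        (ZMod 2)))) => ((t : Matrix.SpecialLinearGroup (Fin 5) (ZMod 2)) :
          Matrix (Fin 5) (Fin 5) (ZMod 2))) hc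
    have h2 : Mat ((c : ↥M24) : Equiv.Perm GolayPt) = 1 := by
      have := conjP (P * Mat ((c : ↥M24) : Equiv.Perm GolayPt) * P) 1
      rw [h1] at this
      have h3 : P * (P * Mat ((c : ↥M24) : Equiv.Perm GolayPt) * P) * P =
          Mat ((c : ↥M24) : Equiv.Perm GolayPt) := by
        calc P * (P * Mat ((c : ↥M24) : Equiv.Perm GolayPt) * P) * P
            = (P * P) * Mat ((c : ↥M24) : Equiv.Perm GolayPt) * (P * P) := by
              simp only [Matrix.mul_assoc]
          _ = Mat ((c : ↥M24) : Equiv.Perm GolayPt) := by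
              rw [P_sq, Matrix.one_mul, Matrix.mul_one]
      rw [← h3, h1, Matrix.mul_one, P_sq]
    have h4 := eq_one_of_Mat (hmem c) (hoct c) h2
    exact Subtype.ext (Subtype.ext h4)
  refine ⟨MulEquiv.ofBijective Ψ (Function.Injective.bijective_of_nat_card_le hinj ?_)⟩
  rw [Cfsg.Agent.S0445.result s hs]
  exact card_centralizer_ge z rfl
end Cfsg.Agent.S2133
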