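import Cfsg.Statements.S2134
import Cfsg.Agent.S0445
import Cfsg.Agent.Lib.Helper56_CzOrderU
import Cfsg.Agent.Lib.Helper56_CzUB
import Cfsg.Agent.Lib.Helper56_CzMat

set_option autoImplicit false
open Cfsg

namespace Cfsg.Agent.S2134

open Cfsg.Spor Cfsg.Agent.Lib.Helper28_CosetPerm Cfsg.Agent.Lib.Helper28_S1683
  Cfsg.Agent.Lib.Helper28_S1683Tab Cfsg.Agent.Lib.Helper56_HeLB Cfsg.Agent.Lib.Helper56_CentIso
  Cfsg.Agent.Lib.Helper56_CzHe Cfsg.Agent.Lib.Helper56_CzUB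

theorem zG_sq : zG ^ 2 = 1 := by
  rw [sq]
  exact Cfsg.Agent.S1695.gen_sq .e

/-- a point moved by the involution -/
def p5 : Fin 2058 := ⟨5, by norm_num⟩

theorem zG_ne_one : zG ≠ 1 := by
  intro h
  have h1 := walk_rho [(.e, true)] p5
  have h2 : ((rho (PresentedGroup.mk RELS (FreeGroup.mk [(.e, true)])))⁻¹ p5 : Fin 2058) = p5 := by
    show ((rho zG)⁻¹ p5 : Fin 2058) = p5
    rw [h, map_one]
    rfl
  rw [h2] at h1
  revert h1
  decide +kernel

/-- The Held group (presented on seven involutions, as in the definitions) has an involution whose centraliser is isomorphic to the centraliser of a transvection in SL(5, 2) (a group of shape 2^{1+6}:GL(3, 2)). -/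
theorem result (s : Matrix.SpecialLinearGroup (Fin 5) (ZMod 2)) (hs : (s : Matrix (Fin 5) (Fin 5) (ZMod 2)) = Matrix.transvection 0 1 1) : ∃ z : Cfsg.Spor.He, orderOf z = 2 ∧ Nonempty (↥(Subgroup.centralizer ({z} : Set Cfsg.Spor.He)) ≃* ↥(Subgroup.centralizer ({s} : Set (Matrix.SpecialLinearGroup (Fin 5) (ZMod 2))))) := by
  classical
  haveI : Finite Cfsg.Agent.Lib.Helper56_Cz.P := Cfsg.Agent.Lib.Helper56_CzOrder.card_le.1
  have hP : Nat.card Cfsg.Agent.Lib.Helper56_Cz.P ≤ 21504 := Cfsg.Agent.Lib.Helper56_CzOrder.card_le.2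
  refine ⟨zG, orderOf_eq_prime zG_sq zG_ne_one, ?_⟩
  obtain ⟨e1⟩ := iso_of_bounds Cfsg.Agent.Lib.Helper56_CzHe.phi
    (Subgroup.centralizer ({zG} : Set Cfsg.Agent.Lib.Helper56_CzHe.G))
    Cfsg.Agent.Lib.Helper56_CzHe.range_le 21504 hP Cfsg.Agent.Lib.Helper56_CzHe.card_range_ge
    Cfsg.Agent.Lib.Helper56_CzUB.card_centralizer_le
  obtain ⟨e2⟩ := iso_of_bounds Cfsg.Agent.Lib.Helper56_CzMat.psiM
    (Subgroup.centralizer ({s} : Set (Matrix.SpecialLinearGroup (Fin 5) (ZMod 2))))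
    (Cfsg.Agent.Lib.Helper56_CzMat.range_le s hs) 21504 hP
    Cfsg.Agent.Lib.Helper56_CzMat.card_range_ge (Cfsg.Agent.S0445.result s hs).le
  exact ⟨e1.symm.trans e2⟩

end Cfsg.Agent.S2134
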