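import Cfsg.Statements.S2136
import Cfsg.Agent.Lib.Helper92_E8f
import Cfsg.Agent.Lib.Helper1_Cores
import Cfsg.Agent.S0270
import Cfsg.Agent.S0246

/-!
The centraliser in the stabiliser of `(4, 4, 0^22)` of the sign change `t` on the complement of the
standard octad has shape `2^{1+8} Sp(6, 2)`.

The fixed lattice of `t` (the vectors supported on the octad) is a copy of the `E₈` lattice scaled
by `√2`; the centraliser acts on it fixing `(4, 4, 0^22)`, and the action on the orthogonal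
complement modulo 2 gives a homomorphism `phi` to `Sp(6, 2)` (`Helper92_E8c`).  It is onto
(`Helper92_E8g`: explicit elements, and `S0765`), its kernel consists of the 512 monomial elements
`ε_u π_σ` with `σ` fixing the octad pointwise and `u` disjoint from the octad (`Helper92_E8d`,
`Helper92_E8e`) and is extraspecial (`Helper92_E8f`).  As `Sp(6, 2)` is simple (`S0270`), the kernel
is the largest normal 2-subgroup.
-/

set_option autoImplicit false
open Cfsg

namespace Cfsg.Agent.S2136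

open Cfsg.Agent.Lib.Helper7_M24 Cfsg.Agent.Lib.Helper7_Leech Cfsg.Agent.Lib.Helper7_Mono
  Cfsg.Agent.Lib.Helper92_E8a Cfsg.Agent.Lib.Helper92_E8b Cfsg.Agent.Lib.Helper92_E8c
  Cfsg.Agent.Lib.Helper92_E8d Cfsg.Agent.Lib.Helper92_E8e Cfsg.Agent.Lib.Helper92_E8f
  Cfsg.Agent.Lib.Helper92_E8g
open Cfsg.Agent.S5546 (Lam)

abbrev Sp6 : Type := Matrix.symplecticGroup (Fin 3) (ZMod 2)

theorem neg_one_eq : (-1 : Matrix (Fin 3 ⊕ Fin 3) (Fin 3 ⊕ Fin 3) (ZMod 2)) = 1 := by decide

theorem center_Sp6 : Subgroup.center Sp6 = ⊥ := by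
  rw [eq_bot_iff]
  intro z hz
  rw [Subgroup.mem_bot]
  apply Subtype.ext
  rcases Cfsg.Agent.S0246.center_eq_one_or_neg_one 3 (by norm_num) z hz with h | h
  · exact h
  · rw [h]
    exact neg_one_eq

theorem simple_Sp6 : IsSimpleGroup Sp6 := by
  have h1 : IsSimpleGroup (Cfsg.PSp 3 (ZMod 2)) :=
    Cfsg.Agent.S0270.result 3 (by norm_num) (by intro h; omega)
  have e : Sp6 ⧸ Subgroup.center Sp6 ≃* Sp6 :=
    (QuotientGroup.quotientMulEquivOfEq center_Sp6).trans QuotientGroup.quotientBot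
  exact MulEquiv.isSimpleGroup e.symm

theorem no_normal_two (N : Subgroup Sp6) (hn : N.Normal) (hN : IsPGroup 2 N) : N = ⊥ := by
  have := simple_Sp6
  rcases hn.eq_bot_or_eq_top with h | h
  · exact h
  · exfalso
    have hP : IsPGroup 2 Sp6 := by
      intro g
      obtain ⟨k, hk⟩ := hN ⟨g, by rw [h]; exact Subgroup.mem_top g⟩
      exact ⟨k, congrArg Subtype.val hk⟩
    have hc := hP.center_nontrivial
    rw [center_Sp6] at hc
    exact not_nontrivial _ hc

theorem pCore_eq_ker {C : Type*} [Group C] (f : C →* Sp6) (hf : Function.Surjective f)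
    (hk : IsPGroup 2 f.ker) : Cfsg.pCore 2 C = f.ker := by
  have : Fact (Nat.Prime 2) := ⟨Nat.prime_two⟩
  apply le_antisymm
  · have h1 : (Cfsg.pCore 2 C).map f = ⊥ :=
      no_normal_two _ ((Cfsg.Agent.Lib.Helper1_Cores.pCore_normal 2).map f hf)
        ((Cfsg.Agent.Lib.Helper1_Cores.pCore_isPGroup 2).map f)
    exact (Subgroup.map_eq_bot_iff _).mp h1
  · exact Cfsg.Agent.Lib.Helper1_Cores.le_pCore (MonoidHom.normal_ker f) hk

/-- The involution. -/
def t : ↥Cfsg.Spor.Co2 := ⟨tE.1, tE.2, (tE_fix_iff UL).mpr supp8_UL⟩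

/-- The centraliser of the involution. -/
abbrev Ct : Subgroup ↥Cfsg.Spor.Co2 := Subgroup.centralizer ({t} : Set ↥Cfsg.Spor.Co2)

theorem mem_Ct (c : ↥Cfsg.Spor.Co2) : c ∈ Ct ↔ t * c = c * t := by
  rw [Subgroup.mem_centralizer_iff]
  constructor
  · intro h
    exact h t rfl
  · intro h x hx
    rw [Set.mem_singleton_iff] at hx
    rw [hx]
    exact h

theorem comm_iff (c : ↥Cfsg.Spor.Co2) :
    t * c = c * t ↔ tE * (⟨c.1, c.2.1⟩ : ↥Co0) = ⟨c.1, c.2.1⟩ * tE := by
  constructor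
  · intro h
    apply Subtype.ext
    have h1 : (t * c).1 = (c * t).1 := congrArg Subtype.val h
    exact h1
  · intro h
    apply Subtype.ext
    have h1 : (tE * (⟨c.1, c.2.1⟩ : ↥Co0)).1 = ((⟨c.1, c.2.1⟩ : ↥Co0) * tE).1 :=
      congrArg Subtype.val h
    exact h1

/-- The centraliser, inside the automorphism group of the lattice. -/
def isoC : ↥Ct ≃* ↥C0 where
  toFun c := ⟨⟨c.1.1, c.1.2.1⟩, (mem_C0 _).mpr ⟨(comm_iff c.1).mp ((mem_Ct c.1).mp c.2), c.1.2.2⟩⟩
  invFun g := ⟨⟨g.1.1, g.1.2, ((mem_C0 g.1).mp g.2).2⟩, (mem_Ct _).mpr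
    ((comm_iff _).mpr ((mem_C0 g.1).mp g.2).1)⟩
  left_inv _ := rfl
  right_inv _ := rfl
  map_mul' _ _ := rfl

/-- The homomorphism onto the symplectic group. -/
def f : ↥Ct →* Sp6 := phi.comp isoC.toMonoidHom

theorem f_surjective : Function.Surjective f := by
  intro y
  obtain ⟨g, hg⟩ := phi_surjective y
  exact ⟨isoC.symm g, by show phi (isoC (isoC.symm g)) = y; rw [MulEquiv.apply_symm_apply, hg]⟩

/-- The kernels correspond. -/
def isoK : ↥(phi.ker) ≃* ↥(f.ker) where
  toFun y := ⟨isoC.symm y.1, by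
    show phi (isoC (isoC.symm y.1)) = 1
    rw [MulEquiv.apply_symm_apply]
    exact y.2⟩
  invFun x := ⟨isoC x.1, x.2⟩
  left_inv y := Subtype.ext (MulEquiv.apply_symm_apply isoC y.1)
  right_inv x := Subtype.ext (MulEquiv.symm_apply_apply isoC x.1)
  map_mul' y z := Subtype.ext (map_mul isoC.symm y.1 z.1)

theorem card_ker : Nat.card ↥(f.ker) = 2 ^ 9 := by
  rw [← Nat.card_congr isoK.toEquiv]
  exact card_R

theorem orderOf_t : orderOf t = 2 := by
  apply orderOf_eq_prime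
  · apply Subtype.ext
    rw [pow_two]
    have h1 : (tE * tE).1 = (1 : ↥Co0).1 := congrArg Subtype.val (eps_mul_self uT)
    exact h1
  · intro h
    apply tE_ne_one
    apply Subtype.ext
    have h1 : t.1 = (1 : ↥Cfsg.Spor.Co2).1 := congrArg Subtype.val h
    exact h1

/-- The Conway group Co₂ (the stabiliser of a minimal vector of the rank-24 lattice) has an involution whose centraliser C has largest normal 2-subgroup extraspecial of order 2^9 with quotient C / O₂(C) isomorphic to the symplectic group Sp(6, 2) (shape 2^{1+8}Sp(6, 2)). -/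
theorem result : ∃ t : ↥Cfsg.Spor.Co2, orderOf t = 2 ∧ Cfsg.IsExtraspecial 2 (Cfsg.pCore 2 ↥(Subgroup.centralizer ({t} : Set ↥Cfsg.Spor.Co2))) ∧ Nat.card (Cfsg.pCore 2 ↥(Subgroup.centralizer ({t} : Set ↥Cfsg.Spor.Co2))) = 2 ^ 9 ∧ Nonempty (↥(Subgroup.centralizer ({t} : Set ↥Cfsg.Spor.Co2)) ⧸ Cfsg.pCore 2 ↥(Subgroup.centralizer ({t} : Set ↥Cfsg.Spor.Co2)) ≃* Matrix.symplecticGroup (Fin 3) (ZMod 2)) := by
  have hp : Cfsg.pCore 2 ↥Ct = f.ker :=
    pCore_eq_ker f f_surjective (IsPGroup.of_card (n := 9) card_ker)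
  refine ⟨t, orderOf_t, ?_, ?_, ?_⟩
  · exact Cfsg.Agent.Lib.Helper63_Heisenberg.isExtraspecial_of_mulEquiv
      (isoK.trans (MulEquiv.subgroupCongr hp.symm)) ker_extraspecial
  · rw [hp]
    exact card_ker
  · exact ⟨(QuotientGroup.quotientMulEquivOfEq hp).trans
      (QuotientGroup.quotientKerEquivOfSurjective f f_surjective)⟩

end Cfsg.Agent.S2136
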