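import Cfsg.Statements.S2140
import Cfsg.Agent.Lib.Helper72_MI_Main

set_option autoImplicit false
open Cfsg

namespace Cfsg.Agent.S2140

/-- Minimal index of a proper subgroup of the linear groups: for n ≥ 3 and a field F with q elements, (n, q) ≠ (4, 2), every proper subgroup of PSL_n(F) has index at least (q^n − 1)/(q − 1), and some subgroup has exactly that index (the stabiliser of a point of the projective space). -/
theorem result {F : Type*} [Field F] [Fintype F] {q : ℕ} (hF : Fintype.card F = q) (n : ℕ) (hn : 3 ≤ n) (hexc : ¬ (n = 4 ∧ q = 2)) : (∀ H : Subgroup (Matrix.ProjectiveSpecialLinearGroup (Fin n) F), H ≠ ⊤ → (q ^ n - 1) / (q - 1) ≤ H.index) ∧ (∃ H : Subgroup (Matrix.ProjectiveSpecialLinearGroup (Fin n) F), H.index = (q ^ n - 1) / (q - 1)) := by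
  classical
  subst hF
  have hq2 : 2 ≤ Fintype.card F := Fintype.one_lt_card
  have hN : Cfsg.Agent.Lib.Helper72_MinIdxDefs.Npts (Fintype.card F) n =
      (Fintype.card F ^ n - 1) / (Fintype.card F - 1) :=
    Cfsg.Agent.Lib.Helper72_MinIdxDefs.Npts_eq _ _ hq2
  have hfr : Module.finrank F (Fin n → F) = n := by simp
  refine ⟨?_, ?_⟩
  · intro H hH
    set f := QuotientGroup.mk' (Subgroup.center (Matrix.SpecialLinearGroup (Fin n) F)) with hf
    have hfsurj : Function.Surjective f := QuotientGroup.mk'_surjective _
    set H' := H.comap f with hH'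
    have hidx' : H'.index = H.index := Subgroup.index_comap_of_surjective H hfsurj
    have hH'ne : H' ≠ ⊤ := by
      intro h
      apply hH
      apply Subgroup.comap_injective hfsurj
      rw [← hH', h, Subgroup.comap_top]
    set e := (Matrix.SpecialLinearGroup.toLin'_equiv :
      Matrix.SpecialLinearGroup (Fin n) F ≃* SpecialLinearGroup F (Fin n → F)) with he
    set H'' := H'.map (e : Matrix.SpecialLinearGroup (Fin n) F →* SpecialLinearGroup F (Fin n → F))
      with hH''
    have hidx'' : H''.index = H'.index := Subgroup.index_map_equiv H' e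
    have hH''ne : H'' ≠ ⊤ := by
      intro h
      apply hH'ne
      have h1 : H''.comap (e : Matrix.SpecialLinearGroup (Fin n) F →* SpecialLinearGroup F (Fin n → F))
          = H' := Subgroup.comap_map_eq_self_of_injective e.injective H'
      rw [← h1, h, Subgroup.comap_top]
    have := Cfsg.Agent.Lib.Helper72_MI_Main.Npts_le_index (F := F) (V := Fin n → F)
      (by rw [hfr]; exact hn) (by rw [hfr]; exact hexc) H'' hH''ne
    rw [hfr, hN, hidx'', hidx'] at this
    exact this
  · haveI : Nonempty (Fin n) := ⟨⟨0, by omega⟩⟩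
    obtain ⟨p⟩ : Nonempty (Projectivization F (Fin n → F)) := by
      refine ⟨Projectivization.mk F (fun _ => (1 : F)) ?_⟩
      intro h
      have := congrFun h ⟨0, by omega⟩
      simp at this
    refine ⟨MulAction.stabilizer (Matrix.ProjectiveSpecialLinearGroup (Fin n) F) p, ?_⟩
    rw [MulAction.index_stabilizer_of_transitive, Projectivization.card_of_finrank F _ hfr,
      Nat.card_eq_fintype_card, ← hN]
    rfl

end Cfsg.Agent.S2140
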