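import Cfsg.Statements.S2141
import Cfsg.Agent.Lib.Helper66_MI_SpDefs
import Cfsg.Agent.Lib.Helper94_SpMatBridge
import Cfsg.Agent.Lib.Helper66_MISp_MAIN
import Cfsg.Agent.Lib.Helper58_MISp_PTS

set_option autoImplicit false
open Cfsg

namespace Cfsg.Agent.S2141

open Cfsg.Agent.Lib.Helper94_Symp Cfsg.Agent.Lib.Helper94_SympTI
  Cfsg.Agent.Lib.Helper94_SympPerfect Cfsg.Agent.Lib.Helper66_MI_SpDefs
  Cfsg.Agent.Lib.Helper94_Bridge Cfsg.Agent.Lib.Helper94_SpMatBridge
  Cfsg.Agent.Lib.Helper66_MISp_MAIN Cfsg.Agent.Lib.Helper58_MISp_PTS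

universe u

section

variable {F : Type*} [Field F] [Fintype F]

theorem setting_std {q : ℕ} (hF : Fintype.card F = q) (m : ℕ) : Setting (Bsymp m F) m q where
  alt := Bsymp_isAlt m
  nondeg := Bsymp_nondegenerate m
  card := by rw [Nat.card_eq_fintype_card, hF]
  dim := by
    rw [Module.finrank_fintype_fun_eq_card, Fintype.card_sum, Fintype.card_fin]
    ring

theorem relIndex_map_subtype {G : Type*} [Group G] (K : Subgroup G) (A : Subgroup ↥K) :
    (A.map K.subtype).relIndex K = A.index := by
  have h1 : (⊤ : Subgroup ↥K).map K.subtype = K := by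
    rw [← MonoidHom.range_eq_map, Subgroup.range_subtype]
  have h2 := Subgroup.relIndex_map_map_of_injective A ⊤ K.subtype_injective
  rw [h1, Subgroup.relIndex_top_right] at h2
  exact h2

/-- central elements of the isometry group fix every point -/
theorem center_fixes_points {V : Type*} [AddCommGroup V] [Module F V]
    (B : LinearMap.BilinForm F V) (hB : B.IsAlt) (hN : B.Nondegenerate)
    {z : V ≃ₗ[F] V} (hz : z ∈ isoGroup B)
    (hc : ∀ g ∈ isoGroup B, g * z = z * g) (v : V) (hv : v ≠ 0) :
    ∃ c : F, c ≠ 0 ∧ z v = c • v := by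
  obtain ⟨x, hx⟩ : ∃ x, B x v ≠ 0 := by
    by_contra hcon
    push Not at hcon
    exact hv (hN.2 v hcon)
  have h1 : z * stv B hB v 1 * z⁻¹ = stv B hB (z v) 1 := conj_stv B hB hz v 1
  have h2 : z * stv B hB v 1 * z⁻¹ = stv B hB v 1 := by
    rw [← hc _ (stv_mem_isoGroup B hB v 1)]
    group
  have h3 : stv B hB (z v) 1 x = stv B hB v 1 x := by rw [← h1, h2]
  rw [stv_apply, stv_apply, one_mul, one_mul] at h3
  have h4 : B x (z v) • z v = B x v • v := add_left_cancel h3
  have h5 : B x (z v) ≠ 0 := by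
    intro h0
    rw [h0, zero_smul] at h4
    exact (smul_ne_zero hx hv) h4.symm
  refine ⟨(B x (z v))⁻¹ * B x v, mul_ne_zero (inv_ne_zero h5) hx, ?_⟩
  rw [mul_smul, ← h4, smul_smul, inv_mul_cancel₀ h5, one_smul]

end

/-- Minimal index of a proper subgroup of the symplectic groups over fields with at least 3 elements: for m ≥ 2 and a field F with q ≥ 3 elements, (m, q) ≠ (2, 3), every proper subgroup of PSp_2m(F) has index at least (q^(2m) − 1)/(q − 1), and that index is attained. -/
theorem result {F : Type*} [Field F] [Fintype F] {q : ℕ} (hF : Fintype.card F = q) (m : ℕ) (hm : 2 ≤ m) (hq : 3 ≤ q) (hexc : ¬ (m = 2 ∧ q = 3)) : (∀ H : Subgroup (Cfsg.PSp m F), H ≠ ⊤ → (q ^ (2 * m) - 1) / (q - 1) ≤ H.index) ∧ (∃ H : Subgroup (Cfsg.PSp m F), H.index = (q ^ (2 * m) - 1) / (q - 1)) := by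
  set B := Bsymp m F with hBdef
  have S : Setting B m q := setting_std hF m
  have hNm : Nmin m q = (q ^ (2 * m) - 1) / (q - 1) := by
    unfold Nmin
    rw [if_neg hexc]
    rfl
  -- step 1: the matrix group
  have h1 : ∀ H : Subgroup (Matrix.symplecticGroup (Fin m) F), H ≠ ⊤ →
      (q ^ (2 * m) - 1) / (q - 1) ≤ H.index := by
    intro H hH
    set A : Subgroup ↥(isoGroup B) := H.map (spEquiv m).toMonoidHom with hA
    have hAidx : A.index = H.index := Subgroup.index_map_equiv H (spEquiv m)
    have hAne : A ≠ ⊤ := by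
      intro h
      apply hH
      rw [eq_top_iff]
      intro x _
      have : (spEquiv m) x ∈ A := by rw [h]; trivial
      obtain ⟨y, hy, hyx⟩ := this
      have : y = x := (spEquiv m).injective hyx
      rwa [← this]
    set H' : Subgroup ((Fin m ⊕ Fin m → F) ≃ₗ[F] (Fin m ⊕ Fin m → F)) :=
      A.map (isoGroup B).subtype with hH'
    have hle : H' ≤ isoGroup B := Subgroup.map_subtype_le A
    have hne : H' ≠ isoGroup B := by
      intro h
      apply hAne
      rw [eq_top_iff]
      intro x _
      have hx : (x : (Fin m ⊕ Fin m → F) ≃ₗ[F] (Fin m ⊕ Fin m → F)) ∈ H' := by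
        rw [h]; exact x.2
      obtain ⟨y, hy, hyx⟩ := hx
      have : y = x := Subtype.ext hyx
      rwa [← this]
    have := main_index q hq m hm _ B S H' hle hne
    rw [hNm, hH', relIndex_map_subtype, hAidx] at this
    exact this
  have hsurj : Function.Surjective
      (QuotientGroup.mk' (Subgroup.center (Matrix.symplecticGroup (Fin m) F))) :=
    QuotientGroup.mk'_surjective _
  constructor
  · intro H hH
    have hne : H.comap (QuotientGroup.mk' (Subgroup.center (Matrix.symplecticGroup (Fin m) F)))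
        ≠ ⊤ := by
      intro h
      apply hH
      apply Subgroup.comap_injective hsurj
      rw [h, Subgroup.comap_top]
    have := h1 _ hne
    rwa [Subgroup.index_comap_of_surjective _ hsurj] at this
  · -- the point stabiliser
    obtain ⟨v, hv⟩ : ∃ v : Fin m ⊕ Fin m → F, v ≠ 0 := by
      have hpos : 0 < Module.finrank F (Fin m ⊕ Fin m → F) := by rw [S.dim]; omega
      haveI : Nontrivial (Fin m ⊕ Fin m → F) := Module.finrank_pos_iff.mp hpos
      exact exists_ne 0
    set P0 : Subgroup ↥(isoGroup B) := (Pv B v).subgroupOf (isoGroup B) with hP0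
    have hP0idx : P0.index = Npts m q := relIndex_Pv B S (by omega) hv
    set H0 : Subgroup (Matrix.symplecticGroup (Fin m) F) := P0.comap (spEquiv m).toMonoidHom
      with hH0
    have hH0idx : H0.index = Npts m q := by
      rw [hH0, Subgroup.index_comap_of_surjective _ (spEquiv m).surjective, hP0idx]
    have hcen : Subgroup.center (Matrix.symplecticGroup (Fin m) F) ≤ H0 := by
      intro z hz
      rw [hH0, Subgroup.mem_comap, hP0, Subgroup.mem_subgroupOf]
      have hzc : ∀ g ∈ isoGroup B, g * ((spEquiv m z : ↥(isoGroup B)) :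
          (Fin m ⊕ Fin m → F) ≃ₗ[F] (Fin m ⊕ Fin m → F)) =
          ((spEquiv m z : ↥(isoGroup B)) : (Fin m ⊕ Fin m → F) ≃ₗ[F] (Fin m ⊕ Fin m → F)) * g := by
        intro g hg
        obtain ⟨y, hy⟩ := (spEquiv m).surjective ⟨g, hg⟩
        have h := Subgroup.mem_center_iff.mp hz y
        have h' := congrArg (spEquiv m) h
        rw [map_mul, map_mul, hy] at h'
        exact congrArg Subtype.val h'
      obtain ⟨c, hc0, hc⟩ := center_fixes_points B S.alt S.nondeg (spEquiv m z).2 hzc v hv
      exact ⟨(spEquiv m z).2, c, hc0, hc⟩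
    refine ⟨H0.map (QuotientGroup.mk' (Subgroup.center (Matrix.symplecticGroup (Fin m) F))), ?_⟩
    rw [Subgroup.index_map, QuotientGroup.ker_mk', sup_eq_left.2 hcen,
      MonoidHom.range_eq_top.2 hsurj, Subgroup.index_top, mul_one, hH0idx]
    rfl

end Cfsg.Agent.S2141
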