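import Cfsg.Statements.S2144
import Cfsg.Agent.Lib.Helper44_MI3Main
import Cfsg.Agent.Lib.Helper52_MI2_BRORB
import Cfsg.Agent.Lib.Helper14_MI2_BRLOW

set_option autoImplicit false
open Cfsg

namespace Cfsg.Agent.S2144

open Module Cfsg.Agent.Lib.Helper14_OmegaSimple Cfsg.Agent.Lib.Helper22_MI2Defs
  Cfsg.Agent.Lib.Helper44_MI3Defs Cfsg.Agent.Lib.Helper44_StdForms
  Cfsg.Agent.Lib.Helper44_MI3Main

/-- Minimal index of a proper subgroup of the odd-dimensional orthogonal groups over the field with 3 elements: for m ≥ 3, every proper subgroup of PΩ_(2m+1)(3) (for the form x₀² + Σ xᵢyᵢ) has index at least 3^m(3^m − 1)/2, and that index is attained. -/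
theorem result {F : Type*} [Field F] [Fintype F] (hF : Fintype.card F = 3) (m : ℕ) (hm : 3 ≤ m) : (∀ H : Subgroup (Cfsg.POmega F (Cfsg.quadFormOdd m F)), H ≠ ⊤ → 3 ^ m * (3 ^ m - 1) / 2 ≤ H.index) ∧ (∃ H : Subgroup (Cfsg.POmega F (Cfsg.quadFormOdd m F)), H.index = 3 ^ m * (3 ^ m - 1) / 2) := by
  have hset := Cfsg.Agent.Lib.Helper84_MI3_BRSET.oddSetting_qfOdd hF m (Cfsg.Agent.Lib.Helper61_MI3_BRCNT.card_levels_quadFormOdd hF m)
  have habs : ∀ M : Subgroup ((Unit ⊕ (Fin m ⊕ Fin m) → F) ≃ₗ[F] (Unit ⊕ (Fin m ⊕ Fin m) → F)),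
      M ≤ T (qfOdd m F) → M ≠ T (qfOdd m F) → Nmin3 m ≤ M.relIndex (T (qfOdd m F)) := by
    intro M hM hne
    haveI : Finite ((Unit ⊕ (Fin m ⊕ Fin m) → F) ≃ₗ[F] (Unit ⊕ (Fin m ⊕ Fin m) → F)) :=
      Finite.of_injective (fun g => (g : (Unit ⊕ (Fin m ⊕ Fin m) → F) → (Unit ⊕ (Fin m ⊕ Fin m) → F)))
        DFunLike.coe_injective
    obtain ⟨h1, h2, h3, h4⟩ := Cfsg.Agent.Lib.Helper52_MI2_BRORB.coset_orbit M (T (qfOdd m F)) hM
    rw [← h1]
    apply main_abstract3 (qfOdd m F) hset hm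
    exact ⟨Set.toFinite _, h2, h3, h4 hne⟩
  have hcard : 5 ≤ Fintype.card (Unit ⊕ (Fin m ⊕ Fin m)) := by
    simp only [Fintype.card_sum, Fintype.card_fin, Fintype.card_unit]
    omega
  have hlow : ∀ H : Subgroup (Cfsg.POmega F (Cfsg.quadFormOdd m F)), H ≠ ⊤ → Nmin3 m ≤ H.index := by
    have := Cfsg.Agent.Lib.Helper14_MI2_BRLOW.lower_gen (qfOdd m F) hset.nondeg hcard (Nmin3 m) habs
    rw [coe_qfOdd] at this
    exact this
  refine ⟨hlow, ?_⟩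
  apply Cfsg.Agent.Lib.Helper55_MI3_BREX.exists_index3 hF m hm hset _ hlow
  intro x y hx hxy
  apply Cfsg.Agent.Lib.Helper58_MI3_TRNS.exists_mem_T_map_level (qfOdd m F) hset.nondeg _ hset.two_ne hx hxy
  rw [hset.dim]; omega

end Cfsg.Agent.S2144
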