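import Cfsg.Statements.S2150
import Cfsg.Agent.Lib.Helper39_U4_Main
import Cfsg.Agent.Lib.Helper94_HermBridge
import Cfsg.Agent.Lib.Helper94_UQBridge
import Cfsg.Agent.Lib.Helper78_U4_BRHYP
import Cfsg.Agent.Lib.Helper73_U4_BRP
import Cfsg.Agent.Lib.Helper73_U4_BRIDX
import Cfsg.Agent.Lib.Helper9_U4_BREX

set_option autoImplicit false
open Cfsg

namespace Cfsg.Agent.S2150

/-- Minimal index of a proper subgroup of the four-dimensional unitary groups: for a field F with q² elements, every proper subgroup of PSU₄(q) has index at least (q + 1)(q³ + 1), and that index is attained. -/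
theorem result {F : Type*} [Field F] [Fintype F] (q : ℕ) (hF : Fintype.card F = q ^ 2) (hq : 2 ≤ q) : (∀ H : Subgroup (Cfsg.PSU 4 F q), H ≠ ⊤ → (q + 1) * (q ^ 3 + 1) ≤ H.index) ∧ (∃ H : Subgroup (Cfsg.PSU 4 F q), H.index = (q + 1) * (q ^ 3 + 1)) := by
  obtain ⟨σ, hσq, hσ⟩ := Cfsg.Agent.Lib.Helper94_HermBridge.exists_frob hF
  have Hy := Cfsg.Agent.Lib.Helper78_U4_BRHYP.br_hyp hF σ hσq hσ
  refine ⟨?_, Cfsg.Agent.Lib.Helper9_U4_BREX.br_exists hF hq⟩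
  apply Cfsg.Agent.Lib.Helper94_UQBridge.psu_bound σ hσq
  intro K hK hne
  have hK' : K ≤ Cfsg.Agent.Lib.Helper39_U4Defs.SUg
      (Cfsg.Agent.Lib.Helper94_HermBridge.hermB 4 σ hσq) := hK
  have hne' : K ≠ Cfsg.Agent.Lib.Helper39_U4Defs.SUg
      (Cfsg.Agent.Lib.Helper94_HermBridge.hermB 4 σ hσq) := hne
  show (q + 1) * (q ^ 3 + 1) ≤ K.relIndex (Cfsg.Agent.Lib.Helper39_U4Defs.SUg
      (Cfsg.Agent.Lib.Helper94_HermBridge.hermB 4 σ hσq))
  have hmain := Cfsg.Agent.Lib.Helper39_U4_Main.main_abs Hy hq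
    (Cfsg.Agent.Lib.Helper73_U4_BRP.br_card_P hF σ hσq hσ)
    (Cfsg.Agent.Lib.Helper73_U4_BRIDX.br_idx hF σ hσq hσ) K hK' hne'
  have h1 := Cfsg.Agent.Lib.Helper95_UQ_A1.relIndex_mul_card_inf K
    (Cfsg.Agent.Lib.Helper39_U4Defs.SUg (Cfsg.Agent.Lib.Helper94_HermBridge.hermB 4 σ hσq))
  rw [inf_eq_left.mpr hK'] at h1
  have hpos : 0 < Nat.card K := by
    haveI : Finite ((Fin 4 → F) ≃ₗ[F] (Fin 4 → F)) :=
      Finite.of_injective (fun e => (e : (Fin 4 → F) → (Fin 4 → F))) DFunLike.coe_injective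
    exact Nat.card_pos
  rw [← h1] at hmain
  exact Nat.le_of_mul_le_mul_right hmain hpos

end Cfsg.Agent.S2150
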