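import Cfsg.Statements.S2151
import Cfsg.Agent.Lib.Helper68_S2151_Main
import Cfsg.Agent.Lib.Helper68_S2151_REG
import Cfsg.Agent.Lib.Helper68_T5
import Cfsg.Agent.Lib.Helper94_UQBridge
import Cfsg.Agent.Lib.Helper27_PSUIndex

set_option autoImplicit false
open Cfsg

namespace Cfsg.Agent.S2151

open Module Cfsg.Agent.Lib.Helper94_Symp Cfsg.Agent.Lib.Helper94_Herm
  Cfsg.Agent.Lib.Helper94_HermBridge Cfsg.Agent.Lib.Helper13_PSUSimple
  Cfsg.Agent.Lib.Helper68_S2151_NUM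

/-- Minimal index of a proper subgroup of the unitary groups of odd dimension n ≥ 5: for a field F with q² elements, every proper subgroup of PSU_n(q) has index at least (q^n + 1)(q^(n−1) − 1)/(q² − 1), and that index is attained. -/
theorem result {F : Type*} [Field F] [Fintype F] (q : ℕ) (hF : Fintype.card F = q ^ 2) (hq : 2 ≤ q) (n : ℕ) (hn : 5 ≤ n) (hodd : Odd n) : (∀ H : Subgroup (Cfsg.PSU n F q), H ≠ ⊤ → (q ^ n + 1) * (q ^ (n - 1) - 1) / (q ^ 2 - 1) ≤ H.index) ∧ (∃ H : Subgroup (Cfsg.PSU n F q), H.index = (q ^ n + 1) * (q ^ (n - 1) - 1) / (q ^ 2 - 1)) := by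
  obtain ⟨σ, hσq, hσ⟩ := exists_frob hF
  have hB := hermB_isHerm (n := n) σ hσq hσ
  have hN := hermB_nondeg (n := n) σ hσq
  have hF' : Nat.card F = q ^ 2 := by rw [Nat.card_eq_fintype_card, hF]
  refine ⟨?_, Cfsg.Agent.Lib.Helper27_PSUIndex.exists_index_odd hF n (by omega) hodd⟩
  apply Cfsg.Agent.Lib.Helper94_UQBridge.psu_bound' σ hσq
  have := Cfsg.Agent.Lib.Helper68_S2151_Main.main_odd' hσ hF'
    (fun {V} _ _ _ B hB hN h5 => Cfsg.Agent.Lib.Helper68_T5.T5' hσ hF' B hB hN h5)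
    (fun hq2 {V} _ _ _ B hB hN h7 {Ω} _ _ _ hreg =>
      Cfsg.Agent.Lib.Helper68_S2151_REG.REG hσ hB hN hF' hq2 h7 hreg)
    (hermB n σ hσq) hB hN n (Module.finrank_fin_fun F) hn hodd
  exact this

end Cfsg.Agent.S2151
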