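import Cfsg.Statements.S2152
import Cfsg.Agent.Lib.Helper50_UQInd
import Cfsg.Agent.Lib.Helper50_UQNumDefs
import Cfsg.Agent.Lib.Helper94_UQBridge
import Cfsg.Agent.Lib.Helper94_HermBridge
import Cfsg.Agent.Lib.Helper27_PSUIndex

set_option autoImplicit false
open Cfsg

namespace Cfsg.Agent.S2152

/-- Minimal index of a proper subgroup of the unitary groups of even dimension n ≥ 6: for a field F with q² elements, q ≥ 3, every proper subgroup of PSU_n(q) has index at least (q^n − 1)(q^(n−1) + 1)/(q² − 1), and that index is attained (the isotropic points). -/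
theorem result {F : Type*} [Field F] [Fintype F] (q : ℕ) (hF : Fintype.card F = q ^ 2) (hq : 3 ≤ q) (n : ℕ) (hn : 6 ≤ n) (heven : Even n) : (∀ H : Subgroup (Cfsg.PSU n F q), H ≠ ⊤ → (q ^ n - 1) * (q ^ (n - 1) + 1) / (q ^ 2 - 1) ≤ H.index) ∧ (∃ H : Subgroup (Cfsg.PSU n F q), H.index = (q ^ n - 1) * (q ^ (n - 1) + 1) / (q ^ 2 - 1)) := by
  refine ⟨?_, Cfsg.Agent.Lib.Helper27_PSUIndex.exists_index_even hF n (by omega) heven⟩
  obtain ⟨σ, hσq, hσ⟩ := Cfsg.Agent.Lib.Helper94_HermBridge.exists_frob hF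
  obtain ⟨m, hm⟩ := heven
  have hn2 : n = 2 * m := by omega
  have hFn : Nat.card F = q ^ 2 := by rw [Nat.card_eq_fintype_card]; exact hF
  have key := Cfsg.Agent.Lib.Helper50_UQInd.main_even (F := F) hσ hFn hq m (by omega)
    (Fin n → F) (Cfsg.Agent.Lib.Helper94_HermBridge.hermB n σ hσq)
    (Cfsg.Agent.Lib.Helper94_HermBridge.hermB_isHerm σ hσq hσ)
    (Cfsg.Agent.Lib.Helper94_HermBridge.hermB_nondeg σ hσq)
    (by rw [Module.finrank_fin_fun, hn2])
  have hmu : Cfsg.Agent.Lib.Helper50_UQInd.muE q (2 * m) =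
      (q ^ n - 1) * (q ^ (n - 1) + 1) / (q ^ 2 - 1) := by
    have h4 : 2 * m ≠ 4 := by omega
    unfold Cfsg.Agent.Lib.Helper50_UQInd.muE
    rw [if_neg h4, ← hn2]
    rfl
  rw [hmu] at key
  exact Cfsg.Agent.Lib.Helper94_UQBridge.psu_bound' σ hσq _ key

end Cfsg.Agent.S2152
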