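import Cfsg.Statements.S2153
import Cfsg.Agent.Lib.Helper33_U2Ind
import Cfsg.Agent.Lib.Helper94_UQBridge
import Cfsg.Agent.Lib.Helper94_HermBridge
import Cfsg.Agent.Lib.Helper13_SU
import Cfsg.Agent.Lib.Helper13_PSUSimple
import Cfsg.Agent.S0783
import Cfsg.Agent.S0283

set_option autoImplicit false
open Cfsg

namespace Cfsg.Agent.S2153

open Module Cfsg.Agent.Lib.Helper94_Symp Cfsg.Agent.Lib.Helper94_Herm
  Cfsg.Agent.Lib.Helper94_HermTrans Cfsg.Agent.Lib.Helper94_HermBridge
  Cfsg.Agent.Lib.Helper13_SUGen Cfsg.Agent.Lib.Helper13_PSUSimple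
  Cfsg.Agent.Lib.Helper33_U2Main Cfsg.Agent.Lib.Helper33_U2Ind

open Cfsg.Agent.Lib.Helper55_S2153_GATT (GATT)

/-- Minimal index of a proper subgroup of the unitary groups PSU_n(2) with n divisible by 6, realised over the field with 4 elements: every proper subgroup has index at least 2^(n−1)(2^n − 1)/3, and that index is attained. -/
theorem result {F : Type*} [Field F] [Fintype F] (hF : Fintype.card F = 4) (n : ℕ) (hn : 6 ∣ n) (hpos : 6 ≤ n) : (∀ H : Subgroup (Cfsg.PSU n F 2), H ≠ ⊤ → 2 ^ (n - 1) * (2 ^ n - 1) / 3 ≤ H.index) ∧ (∃ H : Subgroup (Cfsg.PSU n F 2), H.index = 2 ^ (n - 1) * (2 ^ n - 1) / 3) := by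
  classical
  obtain ⟨m, rfl⟩ : ∃ m, n = 2 * m := by
    obtain ⟨k, rfl⟩ := hn
    exact ⟨3 * k, by ring⟩
  have hm : 3 ≤ m := by omega
  have hF' : Fintype.card F = 2 ^ 2 := by rw [hF]; norm_num
  obtain ⟨σ, hσq, hσ⟩ := exists_frob hF'
  have hB : IsHerm (hermB (2 * m) σ hσq) := hermB_isHerm σ hσq hσ
  have hN : NondegOn (hermB (2 * m) σ hσq) ⊤ := hermB_nondeg σ hσq
  have hfr : finrank F (Fin (2 * m) → F) = 2 * m := by simp
  have htop : finrank F (⊤ : Submodule F (Fin (2 * m) → F)) = 2 * m := by rw [finrank_top, hfr]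
  have hSU : SUg (hermB (2 * m) σ hσq) = tvGroup (hermB (2 * m) σ hσq) ⊤ :=
    le_antisymm (fun g hg => mem_tvGroup_of_four_le hσ hB hN (by omega) (mem_SUg.mp hg).1
      (mem_SUg.mp hg).2) (tvGroup_le_SUg hB ⊤)
  have hbnd : bnd m = 2 ^ (2 * m - 1) * (2 ^ (2 * m) - 1) / 3 := by
    rw [bnd, if_neg (by omega)]
  constructor
  · apply Cfsg.Agent.Lib.Helper94_UQBridge.psu_bound σ hσq
    intro H hle hne
    rw [hSU] at hle hne ⊢
    rw [← hbnd]
    exact main_bound hF hσ hB m (by omega) ⊤ hN htop H hle hne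
  · -- the stabiliser of a norm-one point
    have hn0 : 0 < 2 * m := by omega
    set x : Fin (2 * m) → F := Pi.single ⟨0, hn0⟩ 1 with hx
    have hxx : hermB (2 * m) σ hσq x x = 1 := by
      rw [hermB_apply]
      simp only [Cfsg.hermForm]
      rw [Finset.sum_eq_single ⟨0, hn0⟩]
      · simp [hx]
      · intro i _ hi
        simp [hx, hi]
      · intro h; exact absurd (Finset.mem_univ _) h
    have hatt := GATT hF hσ hB hN m (by omega) htop (x := x) Submodule.mem_top hxx
    set L := tvGroup (hermB (2 * m) σ hσq) ⊤ ⊓ stab (Submodule.span F {x}) with hL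
    have hrel : L.relIndex (SUg (hermB (2 * m) σ hσq)) =
        2 ^ (2 * m - 1) * (2 ^ (2 * m) - 1) / 3 := by
      rw [hSU]
      exact (Nat.div_eq_of_eq_mul_left (by norm_num) hatt.symm).symm
    set e := Cfsg.Agent.S0283.suEquiv σ hσq with he
    set L' : Subgroup ↥(SUg (hermB (2 * m) σ hσq)) := L.subgroupOf (SUg (hermB (2 * m) σ hσq))
      with hL'
    set H1 : Subgroup ↥(Cfsg.SU (2 * m) F 2) := L'.comap e.toMonoidHom with hH1
    have hH1idx : H1.index = 2 ^ (2 * m - 1) * (2 ^ (2 * m) - 1) / 3 := by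
      have h1 := Subgroup.index_comap_of_surjective L' (f := e.toMonoidHom) e.surjective
      rw [hH1, h1, ← hrel]
      rfl
    have hZle : Subgroup.center ↥(Cfsg.SU (2 * m) F 2) ≤ H1 := by
      intro z hz
      obtain ⟨ω, hωord, -, -⟩ := Cfsg.Agent.S0783.exists_omega hF'
      have hw1 : ω ^ (2 + 1) = 1 := by rw [← hωord]; exact pow_orderOf_eq_one ω
      have hw2 : ω ^ 2 ≠ 1 := by
        intro h
        have h1 := orderOf_dvd_of_pow_eq_one h
        rw [hωord] at h1
        have := Nat.le_of_dvd (by norm_num) h1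
        omega
      obtain ⟨a, -, -, hza⟩ := Cfsg.Agent.Lib.Helper13_SU.center_scalar hF' (by omega) ω hw1 hw2 z hz
      show e z ∈ L'
      rw [hL', Subgroup.mem_subgroupOf, hL, Subgroup.mem_inf]
      refine ⟨by rw [← hSU]; exact (e z).2, ?_⟩
      apply mem_stab_of_forall_mem
      intro v hv
      have hev : ((e z : ↥(SUg (hermB (2 * m) σ hσq))) : (Fin (2 * m) → F) ≃ₗ[F] (Fin (2 * m) → F)) v
          = (a : F) • v := by
        show Cfsg.Agent.S0780.toLE (2 * m) 2 F z v = _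
        rw [Cfsg.Agent.S0780.toLE_apply, hza]
        ext i
        rw [Matrix.mulVec_diagonal]
        rfl
      rw [hev]
      exact Submodule.smul_mem _ _ hv
    refine ⟨H1.map (QuotientGroup.mk' (Subgroup.center ↥(Cfsg.SU (2 * m) F 2))), ?_⟩
    rw [Subgroup.index_map_eq _ (QuotientGroup.mk'_surjective _)
      (by rw [QuotientGroup.ker_mk']; exact hZle), hH1idx]

end Cfsg.Agent.S2153
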