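import Cfsg.Statements.S2160
import Cfsg.Agent.Lib.Helper36_ChevDataG2
import Cfsg.Agent.Lib.Helper36_ChevDataB2
import Cfsg.Agent.Lib.Helper36_ChevDataD4
import Cfsg.Agent.Lib.Helper36_ChevDataF4
import Cfsg.Agent.Lib.Helper36_ChevDataE6
import Cfsg.Agent.Lib.Helper36_ChevDataE7
import Cfsg.Agent.Lib.Helper36_ChevDataE8

set_option autoImplicit false
open Cfsg

namespace Cfsg.Agent.S2160

open Cfsg.Lie Cfsg.Lie.ChevalleyDatum Cfsg.Agent.Lib.Helper36_ChevWeyl Cfsg.Agent.Lib.Helper36_ChevGen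

/-- The seven tabulated data: fundamental roots are root indices, and the group is generated by the fundamental
root elements and their negatives. -/
theorem data_facts (D : ChevalleyDatum)
    (hD : D ∈ [chevG2, chevB2, chevD4, chevF4, chevE6, chevE7, chevE8]) (F : Type*) [Field F] :
    SimpleOK D ∧ D.group F = fundSubgroup D F := by
  simp only [List.mem_cons, List.not_mem_nil, or_false] at hD
  rcases hD with rfl | rfl | rfl | rfl | rfl | rfl | rfl
  · exact ⟨Cfsg.Agent.Lib.Helper36_ChevDataG2.simpleOK, Cfsg.Agent.Lib.Helper36_ChevDataG2.group_eq F⟩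
  · exact ⟨Cfsg.Agent.Lib.Helper36_ChevDataB2.simpleOK, Cfsg.Agent.Lib.Helper36_ChevDataB2.group_eq F⟩
  · exact ⟨Cfsg.Agent.Lib.Helper36_ChevDataD4.simpleOK, Cfsg.Agent.Lib.Helper36_ChevDataD4.group_eq F⟩
  · exact ⟨Cfsg.Agent.Lib.Helper36_ChevDataF4.simpleOK, Cfsg.Agent.Lib.Helper36_ChevDataF4.group_eq F⟩
  · exact ⟨Cfsg.Agent.Lib.Helper36_ChevDataE6.simpleOK, Cfsg.Agent.Lib.Helper36_ChevDataE6.group_eq F⟩
  · exact ⟨Cfsg.Agent.Lib.Helper36_ChevDataE7.simpleOK, Cfsg.Agent.Lib.Helper36_ChevDataE7.group_eq F⟩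
  · exact ⟨Cfsg.Agent.Lib.Helper36_ChevDataE8.simpleOK, Cfsg.Agent.Lib.Helper36_ChevDataE8.group_eq F⟩

theorem result {F : Type*} [Field F] [Finite F] (D : Cfsg.Lie.ChevalleyDatum) (hD : D ∈ [Cfsg.Lie.chevG2, Cfsg.Lie.chevB2, Cfsg.Lie.chevD4, Cfsg.Lie.chevF4, Cfsg.Lie.chevE6, Cfsg.Lie.chevE7, Cfsg.Lie.chevE8]) (f g : ↥(D.group F) ≃* ↥(D.group F))
    (hf : D.IsFieldAut f) (hg : D.IsGraphAut g) (y : ↥(D.group F)) : f (g y) = g (f y) := by
  obtain ⟨hsimple, hgen⟩ := data_facts D hD F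
  obtain ⟨σ, hσ⟩ := hf
  obtain ⟨π, _, hgπ⟩ := hg
  -- the statement on the generators
  have key : ∀ (z : ↥(D.group F)), (z : GL D.Idx F) ∈ fundGens D F → f (g z) = g (f z) := by
    intro z hz
    obtain ⟨i, hi, t, hz | hz⟩ := hz
    · apply Subtype.ext
      apply Units.ext
      have h1 := (hgπ z ⟨i, hi⟩ t).1 hz
      have hπlt : D.simple (π ⟨i, hi⟩) < D.nroots := (hsimple _ (π ⟨i, hi⟩).isLt).1
      have h2 := hσ (g z) _ _ hπlt h1
      have h3 := hσ z _ _ (hsimple i hi).1 hz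
      have h4 := (hgπ (f z) ⟨i, hi⟩ (σ t)).1 h3
      rw [h2, h4, map_pow]
    · apply Subtype.ext
      apply Units.ext
      have h1 := (hgπ z ⟨i, hi⟩ t).2 hz
      have hπlt : D.neg (D.simple (π ⟨i, hi⟩)) < D.nroots := (hsimple _ (π ⟨i, hi⟩).isLt).2
      have h2 := hσ (g z) _ _ hπlt h1
      have h3 := hσ z _ _ (hsimple i hi).2 hz
      have h4 := (hgπ (f z) ⟨i, hi⟩ (σ t)).2 h3
      rw [h2, h4, map_pow]
  have hy : (y : GL D.Idx F) ∈ Subgroup.closure (fundGens D F) := by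
    have h1 : (y : GL D.Idx F) ∈ D.group F := y.2
    have h2 : D.group F ≤ Subgroup.closure (fundGens D F) := le_of_eq hgen
    exact h2 h1
  have main : ∀ (x : GL D.Idx F) (_ : x ∈ Subgroup.closure (fundGens D F)),
      ∀ hx : x ∈ D.group F, f (g ⟨x, hx⟩) = g (f ⟨x, hx⟩) := by
    intro x hx
    induction hx using Subgroup.closure_induction with
    | mem x hx => intro hx'; exact key ⟨x, hx'⟩ hx
    | one =>
      intro hx'
      have : (⟨1, hx'⟩ : ↥(D.group F)) = 1 := rfl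
      rw [this, map_one, map_one, map_one]
    | mul a b ha hb iha ihb =>
      intro hx'
      have ha' : a ∈ D.group F := by rw [hgen]; exact ha
      have hb' : b ∈ D.group F := by rw [hgen]; exact hb
      have : (⟨a * b, hx'⟩ : ↥(D.group F)) = ⟨a, ha'⟩ * ⟨b, hb'⟩ := rfl
      rw [this, map_mul, map_mul, map_mul, map_mul, iha ha', ihb hb']
    | inv a ha iha =>
      intro hx'
      have ha' : a ∈ D.group F := by rw [hgen]; exact ha
      have : (⟨a⁻¹, hx'⟩ : ↥(D.group F)) = (⟨a, ha'⟩ : ↥(D.group F))⁻¹ := rfl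
      rw [this, map_inv, map_inv, map_inv, map_inv, iha ha']
  exact main y.1 hy y.2

end Cfsg.Agent.S2160
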