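import Cfsg.Statements.S2162
import Cfsg.Agent.Lib.Helper54_SqZero

set_option autoImplicit false
open Cfsg

namespace Cfsg.Agent.S2162

/-- Conjugacy of involutions in the special linear group over a finite field of characteristic two, in dimension at least 3: two elements of order 2 of SL_n(F) are conjugate in SL_n(F) exactly when the matrices a − 1 and b − 1 have the same rank (the rank of a − 1 is the dimension of the commutator space [V, a]). -/
theorem result {F : Type*} [Field F] [Fintype F] [CharP F 2] {n : ℕ} (hn : 3 ≤ n) (a b : Matrix.SpecialLinearGroup (Fin n) F) (ha : orderOf a = 2) (hb : orderOf b = 2) :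
    IsConj a b ↔ ((a : Matrix (Fin n) (Fin n) F) - 1).rank = ((b : Matrix (Fin n) (Fin n) F) - 1).rank := by
  classical
  have hsq : ∀ c : Matrix.SpecialLinearGroup (Fin n) F, orderOf c = 2 →
      ((c : Matrix (Fin n) (Fin n) F) - 1) * ((c : Matrix (Fin n) (Fin n) F) - 1) = 0 := by
    intro c hc
    have h1 : c ^ 2 = 1 := by rw [← hc]; exact pow_orderOf_eq_one c
    have h2 : (c : Matrix (Fin n) (Fin n) F) * (c : Matrix (Fin n) (Fin n) F) = 1 := by
      have := congrArg (fun t : Matrix.SpecialLinearGroup (Fin n) F =>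
        (t : Matrix (Fin n) (Fin n) F)) h1
      simpa [pow_two] using this
    have h3 : (2 : Matrix (Fin n) (Fin n) F) = 0 := by
      have : (2 : F) = 0 := CharP.cast_eq_zero F 2
      ext i j
      have h4 : (2 : Matrix (Fin n) (Fin n) F) = (2 : F) • (1 : Matrix (Fin n) (Fin n) F) := by
        rw [two_smul]; norm_num
      rw [h4, this, zero_smul]
    calc ((c : Matrix (Fin n) (Fin n) F) - 1) * ((c : Matrix (Fin n) (Fin n) F) - 1)
        = (c : Matrix (Fin n) (Fin n) F) * (c : Matrix (Fin n) (Fin n) F)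
          - 2 * (c : Matrix (Fin n) (Fin n) F) + 1 := by noncomm_ring
      _ = 0 := by rw [h2, h3, zero_mul, sub_zero, one_add_one_eq_two, h3]
  constructor
  · intro hab
    obtain ⟨c, hc⟩ := isConj_iff.1 hab
    have h1 : (b : Matrix (Fin n) (Fin n) F) - 1 =
        (c : Matrix (Fin n) (Fin n) F) * ((a : Matrix (Fin n) (Fin n) F) - 1) *
          ((c⁻¹ : Matrix.SpecialLinearGroup (Fin n) F) : Matrix (Fin n) (Fin n) F) := by
      have h2 : (c : Matrix (Fin n) (Fin n) F) *
          ((c⁻¹ : Matrix.SpecialLinearGroup (Fin n) F) : Matrix (Fin n) (Fin n) F) = 1 := by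
        rw [← Matrix.SpecialLinearGroup.coe_mul, mul_inv_cancel, Matrix.SpecialLinearGroup.coe_one]
      rw [← hc, Matrix.SpecialLinearGroup.coe_mul, Matrix.SpecialLinearGroup.coe_mul, Matrix.mul_sub,
        Matrix.sub_mul, Matrix.mul_one, h2]
    rw [h1, Matrix.rank_mul_eq_left_of_isUnit_det _ _ (by rw [Matrix.SpecialLinearGroup.det_coe]; exact isUnit_one),
      Matrix.rank_mul_eq_right_of_isUnit_det _ _ (by rw [Matrix.SpecialLinearGroup.det_coe]; exact isUnit_one)]
  · intro hrank
    set A : Matrix (Fin n) (Fin n) F := (a : Matrix (Fin n) (Fin n) F) - 1 with hA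
    set B : Matrix (Fin n) (Fin n) F := (b : Matrix (Fin n) (Fin n) F) - 1 with hB
    have hA2 : A * A = 0 := hsq a ha
    have hB2 : B * B = 0 := hsq b hb
    have hNA : ∀ x, Matrix.toLin' A (Matrix.toLin' A x) = 0 := by
      intro x
      rw [← LinearMap.comp_apply, ← Matrix.toLin'_mul, hA2]; simp
    have hNB : ∀ x, Matrix.toLin' B (Matrix.toLin' B x) = 0 := by
      intro x
      rw [← LinearMap.comp_apply, ← Matrix.toLin'_mul, hB2]; simp
    have hr : Module.finrank F (LinearMap.range (Matrix.toLin' A)) =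
        Module.finrank F (LinearMap.range (Matrix.toLin' B)) := by
      have h1 : A.rank = Module.finrank F (LinearMap.range (Matrix.toLin' A)) := rfl
      have h2 : B.rank = Module.finrank F (LinearMap.range (Matrix.toLin' B)) := rfl
      rw [← h1, ← h2]; exact hrank
    obtain ⟨P, hPdet, hP⟩ := Cfsg.Agent.Lib.Helper54_SqZero.exists_conj_det_one
      (Matrix.toLin' A) (Matrix.toLin' B) hNA hNB hr
    have hM : (LinearMap.toMatrix' P).det = 1 := by rw [LinearMap.det_toMatrix']; exact hPdet
    have hcomm : LinearMap.toMatrix' P * A = B * LinearMap.toMatrix' P := by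
      have h1 : P ∘ₗ Matrix.toLin' A = Matrix.toLin' B ∘ₗ P := LinearMap.ext hP
      have h2 := congrArg LinearMap.toMatrix' h1
      rwa [LinearMap.toMatrix'_comp, LinearMap.toMatrix'_comp, LinearMap.toMatrix'_toLin',
        LinearMap.toMatrix'_toLin'] at h2
    rw [isConj_iff]
    let c : Matrix.SpecialLinearGroup (Fin n) F := ⟨LinearMap.toMatrix' P, hM⟩
    have hcval : (c : Matrix (Fin n) (Fin n) F) = LinearMap.toMatrix' P := rfl
    refine ⟨c, ?_⟩
    rw [mul_inv_eq_iff_eq_mul]
    apply Subtype.ext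
    rw [Matrix.SpecialLinearGroup.coe_mul, Matrix.SpecialLinearGroup.coe_mul, hcval]
    have ha' : (a : Matrix (Fin n) (Fin n) F) = A + 1 := by rw [hA]; abel
    have hb' : (b : Matrix (Fin n) (Fin n) F) = B + 1 := by rw [hB]; abel
    rw [ha', hb', Matrix.mul_add, Matrix.add_mul, hcomm, Matrix.mul_one, Matrix.one_mul]

end Cfsg.Agent.S2162
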