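import Cfsg.Statements.S2163

set_option autoImplicit false
open Cfsg

namespace Cfsg.Agent.S2163

open Matrix

/-- the nilpotent part -/
def Nmat (F : Type*) [Field F] (n ℓ : ℕ) : Matrix (Fin n) (Fin n) F :=
  Matrix.of (fun i j : Fin n => if j.val < ℓ ∧ i.val = j.val + (n - ℓ) then (1 : F) else 0)

theorem Nmat_sq (F : Type*) [Field F] (n ℓ : ℕ) (h2 : 2 * ℓ ≤ n) : Nmat F n ℓ * Nmat F n ℓ = 0 := by
  ext i k
  simp only [Matrix.mul_apply, Nmat, Matrix.of_apply, Matrix.zero_apply]
  apply Finset.sum_eq_zero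
  intro j _
  by_cases h : j.val < ℓ ∧ i.val = j.val + (n - ℓ)
  · have : ¬ (k.val < ℓ ∧ j.val = k.val + (n - ℓ)) := by omega
    simp [this]
  · simp [h]

theorem Nmat_lower (F : Type*) [Field F] (n ℓ : ℕ) (h1 : 1 ≤ ℓ) (h2 : 2 * ℓ ≤ n) :
    (1 + Nmat F n ℓ).BlockTriangular OrderDual.toDual := by
  intro i j hij
  have hij' : i < j := hij
  have hne : i ≠ j := ne_of_lt hij'
  have : ¬ (j.val < ℓ ∧ i.val = j.val + (n - ℓ)) := by
    have := Fin.lt_def.mp hij'
    omega
  simp [Nmat, Matrix.add_apply, Matrix.one_apply, hne, this]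

theorem det_one_add_Nmat (F : Type*) [Field F] (n ℓ : ℕ) (h1 : 1 ≤ ℓ) (h2 : 2 * ℓ ≤ n) :
    (1 + Nmat F n ℓ).det = 1 := by
  rw [Matrix.det_of_lowerTriangular _ (Nmat_lower F n ℓ h1 h2)]
  apply Finset.prod_eq_one
  intro i _
  have : ¬ (i.val < ℓ ∧ i.val = i.val + (n - ℓ)) := by omega
  simp only [Nmat, Matrix.add_apply, Matrix.one_apply_eq, Matrix.of_apply, if_neg this, add_zero]

theorem rank_Nmat (F : Type*) [Field F] (n ℓ : ℕ) (h1 : 1 ≤ ℓ) (h2 : 2 * ℓ ≤ n) :
    (Nmat F n ℓ).rank = ℓ := by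
  -- factor
  let A : Matrix (Fin n) (Fin ℓ) F := Matrix.of fun i k => if i.val = k.val + (n - ℓ) then 1 else 0
  let B : Matrix (Fin ℓ) (Fin n) F := Matrix.of fun k j => if j.val = k.val then 1 else 0
  have hAB : Nmat F n ℓ = A * B := by
    ext i j
    simp only [Nmat, Matrix.of_apply, Matrix.mul_apply, A, B]
    by_cases hj : j.val < ℓ
    · rw [Finset.sum_eq_single (⟨j.val, hj⟩ : Fin ℓ)]
      · simp [hj]
      · intro k _ hk
        have : ¬ (j.val = k.val) := by
          intro h
          apply hk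
          ext
          simp [h]
        simp [this]
      · simp
    · have : ∀ k : Fin ℓ, ¬ (j.val = k.val) := by
        intro k h
        have := k.isLt
        omega
      simp [hj, this]
  have hle : (Nmat F n ℓ).rank ≤ ℓ := by
    rw [hAB]
    refine le_trans (Matrix.rank_mul_le_left A B) ?_
    exact Matrix.rank_le_width A
  have hAtA : Aᵀ * A = 1 := by
    ext k k'
    simp only [Matrix.mul_apply, Matrix.transpose_apply, A, Matrix.of_apply, Matrix.one_apply]
    have hk : k.val + (n - ℓ) < n := by have := k.isLt; omega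
    rw [Finset.sum_eq_single (⟨k.val + (n - ℓ), hk⟩ : Fin n)]
    · by_cases hkk : k = k'
      · subst hkk; simp
      · have : ¬ (k.val + (n - ℓ) = k'.val + (n - ℓ)) := by
          intro h
          apply hkk
          ext
          omega
        simp only [Fin.val_mk, if_true, if_neg this, if_neg hkk, mul_zero]
    · intro i _ hi
      have : ¬ (i.val = k.val + (n - ℓ)) := by
        intro h
        apply hi
        ext
        simp [h]
      simp [this]
    · simp
  have hBBt : B * Bᵀ = 1 := by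
    ext k k'
    simp only [Matrix.mul_apply, Matrix.transpose_apply, B, Matrix.of_apply, Matrix.one_apply]
    have hk : k.val < n := by have := k.isLt; omega
    rw [Finset.sum_eq_single (⟨k.val, hk⟩ : Fin n)]
    · by_cases hkk : k = k'
      · subst hkk; simp
      · have : ¬ (k.val = k'.val) := by
          intro h
          apply hkk
          ext
          omega
        simp only [Fin.val_mk, if_true, if_neg this, if_neg hkk, mul_zero]
    · intro j _ hj
      have : ¬ (j.val = k.val) := by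
        intro h
        apply hj
        ext
        simp [h]
      simp [this]
    · simp
  have hge : ℓ ≤ (Nmat F n ℓ).rank := by
    have h1' : (1 : Matrix (Fin ℓ) (Fin ℓ) F) = Aᵀ * (Nmat F n ℓ) * Bᵀ := by
      rw [hAB, Matrix.mul_assoc, Matrix.mul_assoc, hBBt, Matrix.mul_one, hAtA]
    have hr : (1 : Matrix (Fin ℓ) (Fin ℓ) F).rank = ℓ := by
      rw [Matrix.rank_one]; simp
    calc ℓ = (Aᵀ * (Nmat F n ℓ) * Bᵀ).rank := by rw [← h1', hr]
      _ ≤ (Aᵀ * (Nmat F n ℓ)).rank := Matrix.rank_mul_le_left _ _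
      _ ≤ (Nmat F n ℓ).rank := Matrix.rank_mul_le_right _ _
  omega

theorem result {F : Type*} [Field F] [Fintype F] [CharP F 2] {n : ℕ} (hn : 3 ≤ n) (ℓ : ℕ) (h1 : 1 ≤ ℓ) (h2 : 2 * ℓ ≤ n) :
    ∃ a : Matrix.SpecialLinearGroup (Fin n) F, (a : Matrix (Fin n) (Fin n) F) = 1 + Matrix.of (fun i j : Fin n => if j.val < ℓ ∧ i.val = j.val + (n - ℓ) then (1 : F) else 0) ∧ orderOf a = 2 ∧ ((a : Matrix (Fin n) (Fin n) F) - 1).rank = ℓ := by
  set a : Matrix.SpecialLinearGroup (Fin n) F := ⟨1 + Nmat F n ℓ, det_one_add_Nmat F n ℓ h1 h2⟩ with ha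
  have hacoe : (a : Matrix (Fin n) (Fin n) F) = 1 + Nmat F n ℓ := rfl
  refine ⟨a, rfl, ?_, ?_⟩
  · haveI : Fact (Nat.Prime 2) := ⟨Nat.prime_two⟩
    apply orderOf_eq_prime
    · apply Subtype.ext
      rw [sq, Matrix.SpecialLinearGroup.coe_mul, Matrix.SpecialLinearGroup.coe_one, hacoe]
      rw [Matrix.mul_add, Matrix.add_mul, Matrix.add_mul, Matrix.one_mul, Matrix.mul_one, Matrix.one_mul,
        Nmat_sq F n ℓ h2, add_zero, add_assoc, ← two_smul F (Nmat F n ℓ)]
      have h20 : (2 : F) = 0 := CharTwo.two_eq_zero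
      rw [h20, zero_smul, add_zero]
    · intro h
      have h' := congrArg (fun a : Matrix.SpecialLinearGroup (Fin n) F => (a : Matrix (Fin n) (Fin n) F)) h
      simp only [Matrix.SpecialLinearGroup.coe_one, hacoe] at h'
      have hN : Nmat F n ℓ = 0 := by
        have := congrArg (fun M => M - 1) h'
        simpa using this
      have hr := rank_Nmat F n ℓ h1 h2
      rw [hN, Matrix.rank_zero] at hr
      omega
  · rw [hacoe, add_sub_cancel_left]
    exact rank_Nmat F n ℓ h1 h2

end Cfsg.Agent.S2163
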