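import Cfsg.Statements.S2164
import Cfsg.Agent.Lib.Helper13_UInv
import Cfsg.Agent.Lib.Helper13_Herm
import Cfsg.Agent.Lib.Helper94_HermBridge
import Cfsg.Agent.Lib.Helper5_SUCenter

set_option autoImplicit false
open Cfsg

namespace Cfsg.Agent.S2164

open Matrix Module Cfsg.Agent.Lib.Helper94_Symp Cfsg.Agent.Lib.Helper94_Bridge
  Cfsg.Agent.Lib.Helper94_Herm Cfsg.Agent.Lib.Helper94_HermBridge
  Cfsg.Agent.Lib.Helper13_UInv Cfsg.Agent.Lib.Helper13_Herm
  Cfsg.Agent.Lib.Helper5_GUOrder Cfsg.Agent.Lib.Helper5_SUOrder Cfsg.Agent.Lib.Helper5_SUCenter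

variable {F : Type*} [Field F] {q : ℕ} {n : ℕ}

/-- The special linear group acting on the standard space by linear equivalences. -/
noncomputable def slLE (n : ℕ) (F : Type*) [Field F] :
    Matrix.SpecialLinearGroup (Fin n) F →* ((Fin n → F) ≃ₗ[F] (Fin n → F)) :=
  (glEquiv (Fin n) F).toMonoidHom.comp Matrix.SpecialLinearGroup.toGL

theorem slLE_apply (A : Matrix.SpecialLinearGroup (Fin n) F) (v : Fin n → F) :
    slLE n F A v = (A : Matrix (Fin n) (Fin n) F) *ᵥ v := by
  simp [slLE]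

theorem slLE_injective : Function.Injective (slLE n F) := by
  intro A A' h
  apply Subtype.ext
  apply Matrix.toLin'.injective
  apply LinearMap.ext
  intro v
  rw [Matrix.toLin'_apply, Matrix.toLin'_apply, ← slLE_apply, ← slLE_apply, h]

theorem rank_eq_rk (A : Matrix.SpecialLinearGroup (Fin n) F) :
    ((A : Matrix (Fin n) (Fin n) F) - 1).rank = rk (slLE n F A) := by
  have h : ((A : Matrix (Fin n) (Fin n) F) - 1).mulVecLin = nm (slLE n F A) := by
    apply LinearMap.ext
    intro v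
    rw [Matrix.mulVecLin_apply, Matrix.sub_mulVec, Matrix.one_mulVec, nm_apply, slLE_apply]
  unfold Matrix.rank rk
  rw [h]

theorem rank_eq_of_isConj {A A' : Matrix.SpecialLinearGroup (Fin n) F} (h : IsConj A A') :
    ((A : Matrix (Fin n) (Fin n) F) - 1).rank = ((A' : Matrix (Fin n) (Fin n) F) - 1).rank := by
  obtain ⟨C, hC⟩ := isConj_iff.mp h
  rw [rank_eq_rk, rank_eq_rk, ← hC, map_mul, map_mul, map_inv, rk_conj]

variable [Fintype F]

theorem even_q [CharP F 2] (hF : Fintype.card F = q ^ 2) : ∃ m, q = 2 * m := by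
  have hc2 : CharP F 2 := inferInstance
  obtain ⟨p, j, hp, hchar, rfl⟩ := exists_char_pow hF
  have hp2 : p = 2 := CharP.eq F hchar hc2
  subst hp2
  have h2 := two_le_q hF
  rcases Nat.eq_zero_or_pos j with rfl | hj
  · simp at h2
  · exact ⟨2 ^ (j - 1), by rw [← pow_succ']; congr 1; omega⟩

theorem conj_of_rank_eq [CharP F 2] (hF : Fintype.card F = q ^ 2) (a b : ↥(Cfsg.SU n F q))
    (ha : orderOf a = 2) (hb : orderOf b = 2)
    (hr : (((a : Matrix.SpecialLinearGroup (Fin n) F) : Matrix (Fin n) (Fin n) F) - 1).rank =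
      (((b : Matrix.SpecialLinearGroup (Fin n) F) : Matrix (Fin n) (Fin n) F) - 1).rank) :
    IsConj a b := by
  obtain ⟨σ, hσq, hσ⟩ := exists_frob hF
  have hB := hermB_isHerm (n := n) σ hσq hσ
  have hN := hermB_nondeg (n := n) σ hσq
  have hq0 : q ≠ 0 := by have := two_le_q hF; omega
  have h2 : (2 : F) = 0 := by
    have := CharP.cast_eq_zero F 2
    exact_mod_cast this
  have memU : ∀ A : ↥(Cfsg.SU n F q), slLE n F A.1 ∈ uG (hermB n σ hσq) := by
    intro A x y
    rw [slLE_apply, slLE_apply, hermB_apply, hermB_apply]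
    exact A.2 x y
  have sq_one : ∀ A : ↥(Cfsg.SU n F q), orderOf A = 2 →
      slLE n F A.1 * slLE n F A.1 = 1 := by
    intro A hA
    have h1 : A ^ 2 = 1 := by rw [← hA]; exact pow_orderOf_eq_one A
    have h3 : A.1 * A.1 = 1 := by
      have := congrArg Subtype.val h1
      rw [pow_two] at this
      exact this
    rw [← map_mul, h3, map_one]
  have ne_one : ∀ A : ↥(Cfsg.SU n F q), orderOf A = 2 → slLE n F A.1 ≠ 1 := by
    intro A hA h
    have h1 : A.1 = 1 := slLE_injective (by rw [h, map_one])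
    have h3 : A = 1 := Subtype.ext h1
    rw [h3, orderOf_one] at hA
    omega
  have memS : ∀ g ∈ uG (hermB n σ hσq), g ∈ suppG (hermB n σ hσq) ⊤ := by
    intro g hg
    refine ⟨hg, ?_, fun x => Submodule.mem_top⟩
    intro x hx
    have : x = 0 := by
      by_contra hne
      obtain ⟨y, hy, hxy⟩ := hN x Submodule.mem_top hne
      exact hxy (hx y hy)
    rw [this, map_zero]
  have hrk : rk (slLE n F a.1) = rk (slLE n F b.1) := by
    rw [← rank_eq_rk, ← rank_eq_rk]
    exact hr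
  obtain ⟨g, hg, hgab⟩ := exists_conj hσ hB h2 (rk (slLE n F a.1)) ⊤ hN (slLE n F a.1)
    (slLE n F b.1) (memS _ (memU a)) (memS _ (memU b)) (sq_one a ha) (sq_one b hb) rfl hrk.symm
  -- the determinant of `g` has norm one
  have isU_of : ∀ g' ∈ uG (hermB n σ hσq),
      IsU n q (LinearMap.toMatrix' (g' : (Fin n → F) →ₗ[F] (Fin n → F))) := by
    intro g' hg' x y
    rw [LinearMap.toMatrix'_mulVec, LinearMap.toMatrix'_mulVec]
    exact hg' x y
  have hδ : LinearMap.det (g : (Fin n → F) →ₗ[F] (Fin n → F)) *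
      LinearMap.det (g : (Fin n → F) →ₗ[F] (Fin n → F)) ^ q = 1 := by
    have := det_mul_det_pow_of_isU hF (isU_of g hg.1)
    rw [LinearMap.det_toMatrix'] at this
    exact this
  obtain ⟨m, hm⟩ := even_q hF
  obtain ⟨δ, hδdef⟩ : ∃ δ, δ = LinearMap.det (g : (Fin n → F) →ₗ[F] (Fin n → F)) := ⟨_, rfl⟩
  rw [← hδdef] at hδ
  have hδ' : δ ^ (q + 1) = 1 := by rw [pow_succ']; exact hδ
  have hμ : δ ^ m * σ (δ ^ m) = 1 := by
    rw [hσq, ← pow_succ', ← pow_mul, mul_comm, pow_mul, hδ', one_pow]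
  obtain ⟨g', hg', hgab', hdet'⟩ := exists_conj_det hσ hB h2 hN (memU b) (sq_one b hb)
    (ne_one b hb) hg.1 hgab hμ
  have hdet1 : LinearMap.det (g' : (Fin n → F) →ₗ[F] (Fin n → F)) = 1 := by
    rw [hdet', ← hδdef, ← pow_add, ← pow_succ, ← two_mul, ← hm, hδ']
  obtain ⟨G, hG⟩ : ∃ G : ↥(Cfsg.SU n F q), slLE n F G.1 = g' := by
    refine ⟨mkSU (LinearMap.toMatrix' (g' : (Fin n → F) →ₗ[F] (Fin n → F))) (isU_of g' hg')
      (by rw [LinearMap.det_toMatrix', hdet1]), ?_⟩
    ext v i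
    rw [slLE_apply, mkSU_val, LinearMap.toMatrix'_mulVec]
    rfl
  rw [isConj_iff]
  refine ⟨G, ?_⟩
  apply Subtype.ext
  apply slLE_injective
  have : ((G * a * G⁻¹ : ↥(Cfsg.SU n F q)) : Matrix.SpecialLinearGroup (Fin n) F) =
      G.1 * a.1 * (G.1)⁻¹ := rfl
  rw [this, map_mul, map_mul, map_inv, hG, hgab']

/-- Conjugacy of involutions in the special unitary group SU_n(q), q even, n ≥ 3, realised over the field F with q² elements as the matrices of determinant 1 preserving the form Σ u_i v_i^q: for two elements of order 2 of SU_n(q) the following are equivalent — they are conjugate in SU_n(q); they are conjugate in SL_n(F); the matrices a − 1 and b − 1 have the same rank. -/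
theorem result {F : Type*} [Field F] [Fintype F] [CharP F 2] {n q : ℕ} (hF : Fintype.card F = q ^ 2) (hn : 3 ≤ n) (a b : ↥(Cfsg.SU n F q)) (ha : orderOf a = 2) (hb : orderOf b = 2) :
    (IsConj a b ↔ IsConj (a : Matrix.SpecialLinearGroup (Fin n) F) (b : Matrix.SpecialLinearGroup (Fin n) F)) ∧
    (IsConj a b ↔ (((a : Matrix.SpecialLinearGroup (Fin n) F) : Matrix (Fin n) (Fin n) F) - 1).rank = (((b : Matrix.SpecialLinearGroup (Fin n) F) : Matrix (Fin n) (Fin n) F) - 1).rank) := by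
  have h1 : IsConj a b → IsConj (a : Matrix.SpecialLinearGroup (Fin n) F)
      (b : Matrix.SpecialLinearGroup (Fin n) F) := by
    intro h
    obtain ⟨c, hc⟩ := isConj_iff.mp h
    rw [isConj_iff]
    exact ⟨c.1, congrArg Subtype.val hc⟩
  refine ⟨⟨h1, fun h => conj_of_rank_eq hF a b ha hb (rank_eq_of_isConj h)⟩,
    ⟨fun h => rank_eq_of_isConj (h1 h), fun h => conj_of_rank_eq hF a b ha hb h⟩⟩

end Cfsg.Agent.S2164
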