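import Cfsg.Statements.S2165

set_option autoImplicit false
open Cfsg

namespace Cfsg.Agent.S2165

open Matrix

/-- the involution of `Fin n` exchanging `i` and `i + (n - ℓ)` for `i < ℓ`. -/
def sw (n ℓ : ℕ) (h2 : 2 * ℓ ≤ n) (i : Fin n) : Fin n :=
  if h : i.val < ℓ then ⟨i.val + (n - ℓ), by omega⟩
  else if h' : n - ℓ ≤ i.val then ⟨i.val - (n - ℓ), by have := i.isLt; omega⟩
  else i

theorem sw_val (n ℓ : ℕ) (h2 : 2 * ℓ ≤ n) (i : Fin n) :
    (sw n ℓ h2 i).val = if i.val < ℓ then i.val + (n - ℓ) else if n - ℓ ≤ i.val then i.val - (n - ℓ) else i.val := by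
  unfold sw
  split_ifs <;> rfl

theorem sw_sw (n ℓ : ℕ) (h2 : 2 * ℓ ≤ n) (i : Fin n) : sw n ℓ h2 (sw n ℓ h2 i) = i := by
  apply Fin.ext
  rw [sw_val, sw_val]
  have := i.isLt
  split_ifs <;> omega

/-- the permutation matrix -/
def Pmat (F : Type*) [Field F] (n ℓ : ℕ) : Matrix (Fin n) (Fin n) F :=
  Matrix.of (fun i j : Fin n => if (j.val < ℓ ∧ i.val = j.val + (n - ℓ)) ∨ (i.val < ℓ ∧ j.val = i.val + (n - ℓ)) ∨ (i = j ∧ ℓ ≤ i.val ∧ i.val < n - ℓ) then (1 : F) else 0)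

theorem Pmat_apply (F : Type*) [Field F] (n ℓ : ℕ) (h2 : 2 * ℓ ≤ n) (i j : Fin n) :
    Pmat F n ℓ i j = if j = sw n ℓ h2 i then 1 else 0 := by
  unfold Pmat
  simp only [Matrix.of_apply]
  congr 1
  apply propext
  rw [Fin.ext_iff, Fin.ext_iff, sw_val]
  have := i.isLt
  have := j.isLt
  split_ifs <;> omega

theorem Pmat_mulVec (F : Type*) [Field F] (n ℓ : ℕ) (h2 : 2 * ℓ ≤ n) (u : Fin n → F) :
    Pmat F n ℓ *ᵥ u = fun i => u (sw n ℓ h2 i) := by
  ext i
  simp only [Matrix.mulVec, dotProduct, Pmat_apply F n ℓ h2]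
  simp

theorem Pmat_sq (F : Type*) [Field F] (n ℓ : ℕ) (h2 : 2 * ℓ ≤ n) : Pmat F n ℓ * Pmat F n ℓ = 1 := by
  ext i k
  rw [Matrix.mul_apply]
  simp only [Pmat_apply F n ℓ h2, Matrix.one_apply]
  rw [Finset.sum_eq_single (sw n ℓ h2 i)]
  · simp only [if_true, one_mul, sw_sw]
    by_cases h : i = k
    · subst h; simp
    · have : ¬ k = i := fun h' => h h'.symm
      simp [h, this]
  · intro j _ hj
    simp [hj]
  · simp

theorem det_Pmat (F : Type*) [Field F] [CharP F 2] (n ℓ : ℕ) (h2 : 2 * ℓ ≤ n) : (Pmat F n ℓ).det = 1 := by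
  have h := congrArg Matrix.det (Pmat_sq F n ℓ h2)
  rw [Matrix.det_mul, Matrix.det_one] at h
  have h20 : (2 : F) = 0 := CharTwo.two_eq_zero
  have h' : ((Pmat F n ℓ).det - 1) * ((Pmat F n ℓ).det - 1) = 0 := by
    have : ((Pmat F n ℓ).det - 1) * ((Pmat F n ℓ).det - 1) = (Pmat F n ℓ).det * (Pmat F n ℓ).det - 2 * (Pmat F n ℓ).det + (2 - 1) := by ring
    rw [this, h, h20]; ring
  have := mul_self_eq_zero.mp h'
  exact sub_eq_zero.mp this

theorem Pmat_herm (F : Type*) [Field F] (n ℓ q : ℕ) (h2 : 2 * ℓ ≤ n) (u v : Fin n → F) :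
    hermForm n F q (Pmat F n ℓ *ᵥ u) (Pmat F n ℓ *ᵥ v) = hermForm n F q u v := by
  rw [Pmat_mulVec F n ℓ h2, Pmat_mulVec F n ℓ h2]
  unfold hermForm
  exact Equiv.sum_comp (Function.Involutive.toPerm (sw n ℓ h2) (sw_sw n ℓ h2)) (fun i => u i * v i ^ q)

theorem rank_Pmat_sub_one (F : Type*) [Field F] (n ℓ : ℕ) (h1 : 1 ≤ ℓ) (h2 : 2 * ℓ ≤ n) :
    (Pmat F n ℓ - 1).rank = ℓ := by
  let A : Matrix (Fin n) (Fin ℓ) F := Matrix.of fun i k =>
    (if i.val = k.val + (n - ℓ) then 1 else 0) - (if i.val = k.val then 1 else 0)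
  let B : Matrix (Fin ℓ) (Fin n) F := Matrix.of fun k j =>
    (if j.val = k.val then 1 else 0) - (if j.val = k.val + (n - ℓ) then 1 else 0)
  have hAB : Pmat F n ℓ - 1 = A * B := by
    ext i j
    simp only [Matrix.sub_apply, Pmat_apply F n ℓ h2, Matrix.one_apply, Matrix.mul_apply, A, B, Matrix.of_apply]
    by_cases hj : j.val < ℓ
    · rw [Finset.sum_eq_single (⟨j.val, hj⟩ : Fin ℓ)]
      · have e1 : (j = sw n ℓ h2 i) ↔ i.val = j.val + (n - ℓ) := by
          rw [Fin.ext_iff, sw_val]; have := i.isLt; split_ifs <;> omega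
        have e2 : (i = j) ↔ i.val = j.val := Fin.ext_iff
        have e3 : ¬ (j.val = j.val + (n - ℓ)) := by omega
        simp only [e1, e2, e3, if_true, if_false, sub_zero, mul_one]
      · intro k _ hk
        have hk1 : ¬ (j.val = k.val) := by
          intro h; apply hk; ext; simp [h]
        have hk2 : ¬ (j.val = k.val + (n - ℓ)) := by omega
        simp [hk1, hk2]
      · simp
    · by_cases hj' : n - ℓ ≤ j.val
      · have hjl : j.val - (n - ℓ) < ℓ := by have := j.isLt; omega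
        rw [Finset.sum_eq_single (⟨j.val - (n - ℓ), hjl⟩ : Fin ℓ)]
        · have e1 : (j = sw n ℓ h2 i) ↔ i.val = j.val - (n - ℓ) := by
            rw [Fin.ext_iff, sw_val]; have := i.isLt; split_ifs <;> omega
          have e2 : (i = j) ↔ i.val = j.val := Fin.ext_iff
          have e3 : ¬ (j.val = j.val - (n - ℓ)) := by omega
          have e4 : j.val = j.val - (n - ℓ) + (n - ℓ) := by omega
          have e5 : (i.val = j.val - (n - ℓ) + (n - ℓ)) ↔ i.val = j.val := by omega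
          simp only [e1, e2, e3, ← e4, e5, if_true, if_false, zero_sub, mul_neg, mul_one, neg_sub]
        · intro k _ hk
          have hk1 : ¬ (j.val = k.val) := by have := k.isLt; omega
          have hk2 : ¬ (j.val = k.val + (n - ℓ)) := by
            intro h; apply hk; ext; simp [h]
          simp [hk1, hk2]
        · simp
      · have hk1 : ∀ k : Fin ℓ, ¬ (j.val = k.val) := by intro k; have := k.isLt; omega
        have hk2 : ∀ k : Fin ℓ, ¬ (j.val = k.val + (n - ℓ)) := by intro k; omega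
        have e1 : (j = sw n ℓ h2 i) ↔ (i = j) := by
          rw [Fin.ext_iff, Fin.ext_iff, sw_val]; have := i.isLt; split_ifs <;> omega
        simp [hk1, hk2, e1]
  have hle : (Pmat F n ℓ - 1).rank ≤ ℓ := by
    rw [hAB]
    refine le_trans (Matrix.rank_mul_le_left A B) ?_
    exact Matrix.rank_le_width A
  have hge : ℓ ≤ (Pmat F n ℓ - 1).rank := by
    have hsub : (Pmat F n ℓ - 1).submatrix (fun k : Fin ℓ => (⟨k.val + (n - ℓ), by have := k.isLt; omega⟩ : Fin n))
        (fun k : Fin ℓ => (⟨k.val, by have := k.isLt; omega⟩ : Fin n)) = 1 := by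
      ext k k'
      simp only [Matrix.submatrix_apply, Matrix.sub_apply, Pmat_apply F n ℓ h2, Matrix.one_apply]
      have e1 : ((⟨k'.val, by have := k'.isLt; omega⟩ : Fin n) = sw n ℓ h2 ⟨k.val + (n - ℓ), by have := k.isLt; omega⟩) ↔ k = k' := by
        rw [Fin.ext_iff, Fin.ext_iff, sw_val]
        have := k.isLt; have := k'.isLt
        simp only
        split_ifs <;> omega
      have e2 : ¬ ((⟨k.val + (n - ℓ), by have := k.isLt; omega⟩ : Fin n) = ⟨k'.val, by have := k'.isLt; omega⟩) := by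
        rw [Fin.ext_iff]
        have := k.isLt; have := k'.isLt
        simp only
        omega
      simp only [e1, e2, if_false, sub_zero]
    have hr : (1 : Matrix (Fin ℓ) (Fin ℓ) F).rank = ℓ := by
      rw [Matrix.rank_one]; simp
    have hle2 := Matrix.rank_submatrix_le (Pmat F n ℓ - 1)
      (fun k : Fin ℓ => (⟨k.val + (n - ℓ), by have := k.isLt; omega⟩ : Fin n))
      (fun k : Fin ℓ => (⟨k.val, by have := k.isLt; omega⟩ : Fin n))
    rw [hsub, hr] at hle2
    exact hle2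
  omega

theorem result {F : Type*} [Field F] [Fintype F] [CharP F 2] {n q : ℕ} (hF : Fintype.card F = q ^ 2) (hn : 3 ≤ n) (ℓ : ℕ) (h1 : 1 ≤ ℓ) (h2 : 2 * ℓ ≤ n) :
    ∃ a : ↥(Cfsg.SU n F q), (((a : Matrix.SpecialLinearGroup (Fin n) F) : Matrix (Fin n) (Fin n) F) = Matrix.of (fun i j : Fin n => if (j.val < ℓ ∧ i.val = j.val + (n - ℓ)) ∨ (i.val < ℓ ∧ j.val = i.val + (n - ℓ)) ∨ (i = j ∧ ℓ ≤ i.val ∧ i.val < n - ℓ) then (1 : F) else 0)) ∧ orderOf a = 2 ∧ ((((a : Matrix.SpecialLinearGroup (Fin n) F) : Matrix (Fin n) (Fin n) F)) - 1).rank = ℓ := by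
  set a0 : Matrix.SpecialLinearGroup (Fin n) F := ⟨Pmat F n ℓ, det_Pmat F n ℓ h2⟩ with ha0
  have ha0coe : (a0 : Matrix (Fin n) (Fin n) F) = Pmat F n ℓ := rfl
  have hmem : a0 ∈ Cfsg.SU n F q := by
    intro u v
    have : (slToMat n F) a0 = Pmat F n ℓ := rfl
    rw [this]
    exact Pmat_herm F n ℓ q h2 u v
  refine ⟨⟨a0, hmem⟩, rfl, ?_, ?_⟩
  · haveI : Fact (Nat.Prime 2) := ⟨Nat.prime_two⟩
    apply orderOf_eq_prime
    · apply Subtype.ext
      apply Subtype.ext
      rw [sq]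
      show (a0 * a0 : Matrix.SpecialLinearGroup (Fin n) F).val = (1 : Matrix.SpecialLinearGroup (Fin n) F).val
      rw [Matrix.SpecialLinearGroup.coe_mul, Matrix.SpecialLinearGroup.coe_one, ha0coe]
      exact Pmat_sq F n ℓ h2
    · intro h
      have h' : (a0 : Matrix (Fin n) (Fin n) F) = 1 := by
        have := congrArg (fun x : ↥(Cfsg.SU n F q) => ((x : Matrix.SpecialLinearGroup (Fin n) F) : Matrix (Fin n) (Fin n) F)) h
        simpa using this
      have hr := rank_Pmat_sub_one F n ℓ h1 h2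
      rw [← ha0coe, h', sub_self, Matrix.rank_zero] at hr
      omega
  · show ((a0 : Matrix (Fin n) (Fin n) F) - 1).rank = ℓ
    rw [ha0coe]
    exact rank_Pmat_sub_one F n ℓ h1 h2

end Cfsg.Agent.S2165
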