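import Cfsg.Statements.S2166
import Cfsg.Agent.Lib.Helper44_Inv2Sp
import Cfsg.Agent.Lib.Helper94_Bridge
import Cfsg.Agent.Lib.Helper13_Symp

set_option autoImplicit false
open Cfsg

namespace Cfsg.Agent.S2166

open Cfsg.Agent.Lib.Helper44_Inv2Sp Cfsg.Agent.Lib.Helper94_Bridge Cfsg.Agent.Lib.Helper13_Symp Matrix

/-- Conjugacy of involutions in the symplectic group Sp_{2m}(F), F a finite field of characteristic two, m ≥ 2 (Sp taken as the matrices A with A J Aᵀ = J, acting on column vectors, with the alternating form f(u, v) = u ⬝ (J v)). For an involution t write V(t) for the set of vectors v with f(v, t v) = 0 (a subspace). Two involutions a, b are conjugate in Sp_{2m}(F) exactly when a − 1 and b − 1 have the same rank and, in case that rank is even, V(a) and V(b) have the same number of elements. -/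
theorem result {F : Type*} [Field F] [Fintype F] [CharP F 2] {m : ℕ} (hm : 2 ≤ m) (a b : ↥(Matrix.symplecticGroup (Fin m) F)) (ha : orderOf a = 2) (hb : orderOf b = 2) :
    IsConj a b ↔ ((((a : ↥(Matrix.symplecticGroup (Fin m) F)) : Matrix (Fin m ⊕ Fin m) (Fin m ⊕ Fin m) F) - 1).rank = (((b : ↥(Matrix.symplecticGroup (Fin m) F)) : Matrix (Fin m ⊕ Fin m) (Fin m ⊕ Fin m) F) - 1).rank ∧
      (Even (((a : ↥(Matrix.symplecticGroup (Fin m) F)) : Matrix (Fin m ⊕ Fin m) (Fin m ⊕ Fin m) F) - 1).rank → Nat.card {v : Fin m ⊕ Fin m → F // Cfsg.sympForm m F v (Matrix.mulVec ((a : ↥(Matrix.symplecticGroup (Fin m) F)) : Matrix (Fin m ⊕ Fin m) (Fin m ⊕ Fin m) F) v) = 0} = Nat.card {v : Fin m ⊕ Fin m → F // Cfsg.sympForm m F v (Matrix.mulVec ((b : ↥(Matrix.symplecticGroup (Fin m) F)) : Matrix (Fin m ⊕ Fin m) (Fin m ⊕ Fin m) F) v) = 0})) := by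
  classical
  have h2 : (2 : F) = 0 := by
    have := CharP.cast_eq_zero F 2
    exact_mod_cast this
  have hB := Bsymp_nondegenerate (F := F) m
  have hAlt := Bsymp_isAlt (F := F) m
  have hiso : ∀ c : ↥(Matrix.symplecticGroup (Fin m) F), IsoB (Bsymp m F) (c : Matrix (Fin m ⊕ Fin m) (Fin m ⊕ Fin m) F) := by
    intro c u v
    rw [Bsymp_apply, Bsymp_apply]
    exact sympForm_mulVec_mulVec_of_mem m c.2 u v
  have hsq : ∀ c : ↥(Matrix.symplecticGroup (Fin m) F), orderOf c = 2 →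
      (c : Matrix (Fin m ⊕ Fin m) (Fin m ⊕ Fin m) F) * (c : Matrix (Fin m ⊕ Fin m) (Fin m ⊕ Fin m) F) = 1 := by
    intro c hc
    have h := pow_orderOf_eq_one c
    rw [hc, pow_two] at h
    have := congrArg (fun g : ↥(Matrix.symplecticGroup (Fin m) F) => (g : Matrix (Fin m ⊕ Fin m) (Fin m ⊕ Fin m) F)) h
    exact this
  have hV : ∀ c : ↥(Matrix.symplecticGroup (Fin m) F), ∀ v : Fin m ⊕ Fin m → F,
      Cfsg.sympForm m F v (Matrix.mulVec (c : Matrix (Fin m ⊕ Fin m) (Fin m ⊕ Fin m) F) v) = 0 ↔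
        Bsymp m F (((c : Matrix (Fin m ⊕ Fin m) (Fin m ⊕ Fin m) F) - 1) *ᵥ v) v = 0 := by
    intro c v
    rw [← Bsymp_apply, B_self_T (Bsymp m F) hAlt h2]
  constructor
  · intro h
    obtain ⟨c, hc'⟩ := isConj_iff.mp h
    have hc : c * a = b * c := mul_inv_eq_iff_eq_mul.mp hc'
    have hcm : (c : Matrix (Fin m ⊕ Fin m) (Fin m ⊕ Fin m) F) * (a : Matrix (Fin m ⊕ Fin m) (Fin m ⊕ Fin m) F)
        = (b : Matrix (Fin m ⊕ Fin m) (Fin m ⊕ Fin m) F) * (c : Matrix (Fin m ⊕ Fin m) (Fin m ⊕ Fin m) F) := by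
      have := congrArg (fun g : ↥(Matrix.symplecticGroup (Fin m) F) => (g : Matrix (Fin m ⊕ Fin m) (Fin m ⊕ Fin m) F)) hc
      exact this
    have hdet : IsUnit (c : Matrix (Fin m ⊕ Fin m) (Fin m ⊕ Fin m) F).det :=
      SymplecticGroup.symplectic_det c.2
    have hN : (c : Matrix (Fin m ⊕ Fin m) (Fin m ⊕ Fin m) F) * ((a : Matrix (Fin m ⊕ Fin m) (Fin m ⊕ Fin m) F) - 1)
        = ((b : Matrix (Fin m ⊕ Fin m) (Fin m ⊕ Fin m) F) - 1) * (c : Matrix (Fin m ⊕ Fin m) (Fin m ⊕ Fin m) F) := by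
      rw [Matrix.mul_sub, Matrix.sub_mul, hcm, Matrix.mul_one, Matrix.one_mul]
    have hcc' : (c : Matrix (Fin m ⊕ Fin m) (Fin m ⊕ Fin m) F) * ((c⁻¹ : ↥(Matrix.symplecticGroup (Fin m) F)) : Matrix (Fin m ⊕ Fin m) (Fin m ⊕ Fin m) F) = 1 := by
      have := congrArg (fun g : ↥(Matrix.symplecticGroup (Fin m) F) => (g : Matrix (Fin m ⊕ Fin m) (Fin m ⊕ Fin m) F)) (mul_inv_cancel c)
      exact this
    have hc'c : ((c⁻¹ : ↥(Matrix.symplecticGroup (Fin m) F)) : Matrix (Fin m ⊕ Fin m) (Fin m ⊕ Fin m) F) * (c : Matrix (Fin m ⊕ Fin m) (Fin m ⊕ Fin m) F) = 1 := by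
      have := congrArg (fun g : ↥(Matrix.symplecticGroup (Fin m) F) => (g : Matrix (Fin m ⊕ Fin m) (Fin m ⊕ Fin m) F)) (inv_mul_cancel c)
      exact this
    refine ⟨?_, fun _ => ?_⟩
    · rw [← Matrix.rank_mul_eq_right_of_isUnit_det (c : Matrix (Fin m ⊕ Fin m) (Fin m ⊕ Fin m) F) _ hdet, hN,
        Matrix.rank_mul_eq_left_of_isUnit_det (c : Matrix (Fin m ⊕ Fin m) (Fin m ⊕ Fin m) F) _ hdet]
    · let e : (Fin m ⊕ Fin m → F) ≃ (Fin m ⊕ Fin m → F) :=
        { toFun := fun v => (c : Matrix (Fin m ⊕ Fin m) (Fin m ⊕ Fin m) F) *ᵥ v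
          invFun := fun v => ((c⁻¹ : ↥(Matrix.symplecticGroup (Fin m) F)) : Matrix (Fin m ⊕ Fin m) (Fin m ⊕ Fin m) F) *ᵥ v
          left_inv := fun v => by
            show ((c⁻¹ : ↥(Matrix.symplecticGroup (Fin m) F)) : Matrix (Fin m ⊕ Fin m) (Fin m ⊕ Fin m) F) *ᵥ ((c : Matrix (Fin m ⊕ Fin m) (Fin m ⊕ Fin m) F) *ᵥ v) = v
            rw [Matrix.mulVec_mulVec, hc'c, Matrix.one_mulVec]
          right_inv := fun v => by
            show (c : Matrix (Fin m ⊕ Fin m) (Fin m ⊕ Fin m) F) *ᵥ (((c⁻¹ : ↥(Matrix.symplecticGroup (Fin m) F)) : Matrix (Fin m ⊕ Fin m) (Fin m ⊕ Fin m) F) *ᵥ v) = v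
            rw [Matrix.mulVec_mulVec, hcc', Matrix.one_mulVec] }
      apply Nat.card_congr
      refine Equiv.subtypeEquiv e ?_
      intro v
      show _ ↔ Cfsg.sympForm m F ((c : Matrix (Fin m ⊕ Fin m) (Fin m ⊕ Fin m) F) *ᵥ v)
        (Matrix.mulVec (b : Matrix (Fin m ⊕ Fin m) (Fin m ⊕ Fin m) F) ((c : Matrix (Fin m ⊕ Fin m) (Fin m ⊕ Fin m) F) *ᵥ v)) = 0
      rw [Matrix.mulVec_mulVec, ← hcm, ← Matrix.mulVec_mulVec, sympForm_mulVec_mulVec_of_mem m c.2]
  · rintro ⟨hr, hcard⟩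
    have hA := hiso a
    have hAA := hsq a ha
    have hB' := hiso b
    have hBB := hsq b hb
    have htype : (∀ v, Bsymp m F (((a : Matrix (Fin m ⊕ Fin m) (Fin m ⊕ Fin m) F) - 1) *ᵥ v) v = 0) ↔
        (∀ v, Bsymp m F (((b : Matrix (Fin m ⊕ Fin m) (Fin m ⊕ Fin m) F) - 1) *ᵥ v) v = 0) := by
      by_cases hev : Even ((a : Matrix (Fin m ⊕ Fin m) (Fin m ⊕ Fin m) F) - 1).rank
      · have hc := hcard hev
        rw [Nat.card_eq_fintype_card, Nat.card_eq_fintype_card] at hc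
        have hfull : ∀ c : ↥(Matrix.symplecticGroup (Fin m) F),
            (∀ v, Bsymp m F (((c : Matrix (Fin m ⊕ Fin m) (Fin m ⊕ Fin m) F) - 1) *ᵥ v) v = 0) →
            Fintype.card {v : Fin m ⊕ Fin m → F // Cfsg.sympForm m F v (Matrix.mulVec (c : Matrix (Fin m ⊕ Fin m) (Fin m ⊕ Fin m) F) v) = 0}
              = Fintype.card (Fin m ⊕ Fin m → F) :=
          fun c h => Fintype.card_congr (Equiv.subtypeUnivEquiv (fun v => (hV c v).mpr (h v)))
        have hlt : ∀ c : ↥(Matrix.symplecticGroup (Fin m) F),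
            (¬ ∀ v, Bsymp m F (((c : Matrix (Fin m ⊕ Fin m) (Fin m ⊕ Fin m) F) - 1) *ᵥ v) v = 0) →
            Fintype.card {v : Fin m ⊕ Fin m → F // Cfsg.sympForm m F v (Matrix.mulVec (c : Matrix (Fin m ⊕ Fin m) (Fin m ⊕ Fin m) F) v) = 0}
              < Fintype.card (Fin m ⊕ Fin m → F) := by
          intro c h
          push Not at h
          obtain ⟨v₀, hv₀⟩ := h
          exact Fintype.card_subtype_lt (x := v₀) (fun hp => hv₀ ((hV c v₀).mp hp))
        constructor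
        · intro h
          by_contra hcon
          have h1 := hfull a h
          have h3 := hlt b hcon
          omega
        · intro h
          by_contra hcon
          have h1 := hfull b h
          have h3 := hlt a hcon
          omega
      · have hev' : ¬ Even ((b : Matrix (Fin m ⊕ Fin m) (Fin m ⊕ Fin m) F) - 1).rank := by rw [← hr]; exact hev
        constructor
        · intro h
          exact absurd (even_rank_of_alt (Bsymp m F) hB hAlt h2 hA hAA h) hev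
        · intro h
          exact absurd (even_rank_of_alt (Bsymp m F) hB hAlt h2 hB' hBB h) hev'
    obtain ⟨G, hG, hGconj⟩ := conj_of_rank_type_sp (Bsymp m F) hB hAlt h2 hA hAA hB' hBB hr htype
    have hGmem : G ∈ Matrix.symplecticGroup (Fin m) F := by
      apply mem_symplecticGroup_of_preserves m
      intro u v
      rw [← Bsymp_apply, ← Bsymp_apply]
      exact hG u v
    rw [isConj_iff]
    refine ⟨⟨G, hGmem⟩, ?_⟩
    rw [mul_inv_eq_iff_eq_mul]
    apply Subtype.ext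
    exact hGconj

end Cfsg.Agent.S2166
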