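import Cfsg.Statements.S2167
import Cfsg.Agent.S0752
import Cfsg.Agent.Lib.Helper13_Symp

set_option autoImplicit false
open Cfsg

namespace Cfsg.Agent.S2167

open Matrix

/-- An alternating matrix has even rank. -/
theorem even_rank_of_alt {F : Type*} [Field F] {ι : Type*} [Fintype ι] [DecidableEq ι]
    (N : Matrix ι ι F) (hN : ∀ v : ι → F, v ⬝ᵥ N *ᵥ v = 0) : Even N.rank := by
  let B : LinearMap.BilinForm F (ι → F) := Matrix.toBilin' N
  have hB : ∀ u v, B u v = u ⬝ᵥ N *ᵥ v := fun u v => Matrix.toBilin'_apply' N u v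
  have hA : B.IsAlt := fun v => by rw [hB]; exact hN v
  obtain ⟨m, k, b, h1, h2, h3, h4⟩ := Cfsg.Agent.S0752.result B hA
  have hskew : ∀ u v, B u v = - B v u := fun u v => (hA.neg_eq v u).symm
  have hKmem : ∀ v, v ∈ LinearMap.ker N.mulVecLin ↔ ∀ u, B u v = 0 := by
    intro v
    rw [LinearMap.mem_ker, Matrix.mulVecLin_apply]
    constructor
    · intro h u; rw [hB, h, dotProduct_zero]
    · intro h
      apply dotProduct_eq_zero
      intro w
      rw [dotProduct_comm, ← hB]
      exact h w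
  have hrepr : ∀ (y : (Fin m ⊕ Fin m) ⊕ Fin k) (v : ι → F),
      B (b y) v = ∑ x, b.repr v x * B (b y) (b x) := by
    intro y v
    conv_lhs => rw [← b.sum_repr v]
    rw [map_sum]
    apply Finset.sum_congr rfl
    intro x _
    rw [map_smul, smul_eq_mul]
  have hKeq : LinearMap.ker N.mulVecLin =
      Submodule.span F (Set.range (fun j : Fin k => b (Sum.inr j))) := by
    apply le_antisymm
    · intro v hv
      rw [hKmem] at hv
      have c1 : ∀ i : Fin m, b.repr v (Sum.inl (Sum.inr i)) = 0 := by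
        intro i
        have := hv (b (Sum.inl (Sum.inl i)))
        rw [hrepr, Fintype.sum_sum_type, Fintype.sum_sum_type] at this
        simp only [h1, h2, mul_zero, Finset.sum_const_zero, zero_add, mul_ite, mul_one,
          Finset.sum_ite_eq, Finset.mem_univ, if_true] at this
        have h5 : ∀ j : Fin k, B (b (Sum.inl (Sum.inl i))) (b (Sum.inr j)) = 0 := by
          intro j; rw [hskew, h4, neg_zero]
        simp only [h5, mul_zero, Finset.sum_const_zero, add_zero] at this
        exact this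
      have c2 : ∀ i : Fin m, b.repr v (Sum.inl (Sum.inl i)) = 0 := by
        intro i
        have := hv (b (Sum.inl (Sum.inr i)))
        rw [hrepr, Fintype.sum_sum_type, Fintype.sum_sum_type] at this
        have h6 : ∀ j : Fin m, B (b (Sum.inl (Sum.inr i))) (b (Sum.inl (Sum.inl j))) =
            if i = j then -1 else 0 := by
          intro j; rw [hskew, h1]
          by_cases hij : i = j
          · subst hij; simp
          · rw [if_neg hij, if_neg (fun h => hij h.symm), neg_zero]
        have h5 : ∀ j : Fin k, B (b (Sum.inl (Sum.inr i))) (b (Sum.inr j)) = 0 := by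
          intro j; rw [hskew, h4, neg_zero]
        simp only [h6, h3, h5, mul_zero, Finset.sum_const_zero, add_zero, mul_ite, mul_neg, mul_one,
          Finset.sum_ite_eq, Finset.mem_univ, if_true, neg_eq_zero] at this
        exact this
      rw [← b.sum_repr v, Fintype.sum_sum_type, Fintype.sum_sum_type]
      simp only [c1, c2, zero_smul, Finset.sum_const_zero, zero_add]
      apply Submodule.sum_mem
      intro j _
      apply Submodule.smul_mem
      exact Submodule.subset_span ⟨j, rfl⟩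
    · rw [Submodule.span_le]
      rintro _ ⟨j, rfl⟩
      rw [SetLike.mem_coe, hKmem]
      intro u
      rw [hskew, h4, neg_zero]
  have hfin : Module.finrank F (LinearMap.ker N.mulVecLin) = k := by
    rw [hKeq]
    have hli : LinearIndependent F (fun j : Fin k => b (Sum.inr j)) :=
      b.linearIndependent.comp _ Sum.inr_injective
    rw [finrank_span_eq_card hli]
    simp
  have hrn := LinearMap.finrank_range_add_finrank_ker N.mulVecLin
  have hV : Module.finrank F (ι → F) = m + m + k := by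
    rw [Module.finrank_eq_card_basis b]; simp [Fintype.card_sum]
  have : N.rank = m + m := by
    unfold Matrix.rank; omega
  exact ⟨m, this⟩


section
variable {F : Type*} [Field F] {m : ℕ}

open Cfsg.Agent.Lib.Helper13_Symp

theorem symp_skew_invol {A : Matrix (Fin m ⊕ Fin m) (Fin m ⊕ Fin m) F}
    (hA : A ∈ Matrix.symplecticGroup (Fin m) F) (hAA : A * A = 1) (u v : Fin m ⊕ Fin m → F) :
    Cfsg.sympForm m F v (A *ᵥ u) = - Cfsg.sympForm m F u (A *ᵥ v) := by
  rw [← sympForm_mulVec_mulVec_of_mem m hA v (A *ᵥ u), Matrix.mulVec_mulVec, hAA,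
    Matrix.one_mulVec, sympForm_swap]

theorem Q_add {A : Matrix (Fin m ⊕ Fin m) (Fin m ⊕ Fin m) F}
    (hA : A ∈ Matrix.symplecticGroup (Fin m) F) (hAA : A * A = 1) (u v : Fin m ⊕ Fin m → F) :
    Cfsg.sympForm m F (u + v) (A *ᵥ (u + v)) =
      Cfsg.sympForm m F u (A *ᵥ u) + Cfsg.sympForm m F v (A *ᵥ v) := by
  rw [Matrix.mulVec_add, sympForm_add_left, sympForm_add_right, sympForm_add_right,
    symp_skew_invol hA hAA u v]
  ring

theorem Q_smul (A : Matrix (Fin m ⊕ Fin m) (Fin m ⊕ Fin m) F) (c : F)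
    (v : Fin m ⊕ Fin m → F) :
    Cfsg.sympForm m F (c • v) (A *ᵥ (c • v)) = c * c * Cfsg.sympForm m F v (A *ᵥ v) := by
  rw [Matrix.mulVec_smul, sympForm_smul_left, sympForm_smul_right]
  ring

theorem count [Fintype F] [CharP F 2] {A : Matrix (Fin m ⊕ Fin m) (Fin m ⊕ Fin m) F}
    (hA : A ∈ Matrix.symplecticGroup (Fin m) F) (hAA : A * A = 1) :
    Nat.card {v : Fin m ⊕ Fin m → F // Cfsg.sympForm m F v (A *ᵥ v) = 0} = Fintype.card F ^ (2 * m) ∨
    Nat.card {v : Fin m ⊕ Fin m → F // Cfsg.sympForm m F v (A *ᵥ v) = 0} * Fintype.card F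
      = Fintype.card F ^ (2 * m) := by
  classical
  let φ : (Fin m ⊕ Fin m → F) →+ F :=
    AddMonoidHom.mk' (fun v => Cfsg.sympForm m F v (A *ᵥ v)) (Q_add hA hAA)
  have hφ : ∀ v, φ v = Cfsg.sympForm m F v (A *ᵥ v) := fun _ => rfl
  have hcardV : Nat.card (Fin m ⊕ Fin m → F) = Fintype.card F ^ (2 * m) := by
    rw [Nat.card_eq_fintype_card, Fintype.card_fun, Fintype.card_sum, Fintype.card_fin, two_mul]
  have hker : Nat.card {v : Fin m ⊕ Fin m → F // Cfsg.sympForm m F v (A *ᵥ v) = 0} =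
      Nat.card φ.ker := by
    apply Nat.card_congr
    exact Equiv.subtypeEquivRight (fun v => by rw [AddMonoidHom.mem_ker, hφ])
  have hmul := AddSubgroup.card_mul_index φ.ker
  rw [AddSubgroup.index_ker, hcardV, ← hker] at hmul
  by_cases h0 : ∀ v, Cfsg.sympForm m F v (A *ᵥ v) = 0
  · left
    have hr : Nat.card φ.range = 1 := by
      rw [Nat.card_eq_one_iff_unique]
      refine ⟨⟨?_⟩, ⟨0⟩⟩
      rintro ⟨x, v, rfl⟩ ⟨y, w, rfl⟩
      apply Subtype.ext
      show φ v = φ w
      rw [hφ, hφ, h0, h0]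
    rw [hr, mul_one] at hmul
    exact hmul
  · right
    push Not at h0
    obtain ⟨v₀, hv₀⟩ := h0
    have hsurj : Function.Surjective φ := by
      intro z
      obtain ⟨c, hc⟩ := FiniteField.isSquare_of_char_two (ringChar.eq F 2)
        (z / Cfsg.sympForm m F v₀ (A *ᵥ v₀))
      refine ⟨c • v₀, ?_⟩
      rw [hφ, Q_smul, ← hc, div_mul_cancel₀ _ hv₀]
    have hr : Nat.card φ.range = Fintype.card F := by
      rw [AddMonoidHom.range_eq_top.mpr hsurj, ← Nat.card_eq_fintype_card]
      exact Nat.card_congr AddSubgroup.topEquiv.toEquiv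
    rw [hr] at hmul
    exact hmul

end


open Cfsg.Agent.Lib.Helper13_Symp in
/-- For an involution t of the symplectic group Sp_{2m}(F), m ≥ 2, F a finite field of characteristic two (matrices A with A J Aᵀ = J acting on column vectors, alternating form f(u, v) = u ⬝ (J v)): the set V(t) of vectors v with f(v, t v) = 0 has either q^{2m} or q^{2m−1} elements, q the order of F (it is a subspace of codimension at most 1), and if it is the whole space then t − 1 has even rank. -/
theorem result {F : Type*} [Field F] [Fintype F] [CharP F 2] {m : ℕ} (hm : 2 ≤ m) (a : ↥(Matrix.symplecticGroup (Fin m) F)) (ha : orderOf a = 2) :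
    (Nat.card {v : Fin m ⊕ Fin m → F // Cfsg.sympForm m F v (Matrix.mulVec ((a : ↥(Matrix.symplecticGroup (Fin m) F)) : Matrix (Fin m ⊕ Fin m) (Fin m ⊕ Fin m) F) v) = 0} = Fintype.card F ^ (2 * m) ∨ Nat.card {v : Fin m ⊕ Fin m → F // Cfsg.sympForm m F v (Matrix.mulVec ((a : ↥(Matrix.symplecticGroup (Fin m) F)) : Matrix (Fin m ⊕ Fin m) (Fin m ⊕ Fin m) F) v) = 0} * Fintype.card F = Fintype.card F ^ (2 * m)) ∧
    ((∀ v : Fin m ⊕ Fin m → F, Cfsg.sympForm m F v (Matrix.mulVec ((a : ↥(Matrix.symplecticGroup (Fin m) F)) : Matrix (Fin m ⊕ Fin m) (Fin m ⊕ Fin m) F) v) = 0) → Even (((a : ↥(Matrix.symplecticGroup (Fin m) F)) : Matrix (Fin m ⊕ Fin m) (Fin m ⊕ Fin m) F) - 1).rank) := by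
  have hA : (a : Matrix (Fin m ⊕ Fin m) (Fin m ⊕ Fin m) F) ∈ Matrix.symplecticGroup (Fin m) F := a.2
  have hAA : (a : Matrix (Fin m ⊕ Fin m) (Fin m ⊕ Fin m) F) * a = 1 := by
    have h := pow_orderOf_eq_one a
    rw [ha, pow_two] at h
    have := congrArg Subtype.val h
    simpa using this
  refine ⟨count hA hAA, ?_⟩
  intro h0
  have hrank : ((a : Matrix (Fin m ⊕ Fin m) (Fin m ⊕ Fin m) F) - 1).rank =
      (Matrix.J (Fin m) F * ((a : Matrix (Fin m ⊕ Fin m) (Fin m ⊕ Fin m) F) - 1)).rank :=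
    (Matrix.rank_mul_eq_right_of_isUnit_det _ _ (Matrix.isUnit_det_J (Fin m) F)).symm
  rw [hrank]
  apply even_rank_of_alt
  intro v
  rw [← Matrix.mulVec_mulVec, Matrix.sub_mulVec, Matrix.one_mulVec]
  have : v ⬝ᵥ (Matrix.J (Fin m) F *ᵥ ((a : Matrix (Fin m ⊕ Fin m) (Fin m ⊕ Fin m) F) *ᵥ v - v)) =
      Cfsg.sympForm m F v ((a : Matrix (Fin m ⊕ Fin m) (Fin m ⊕ Fin m) F) *ᵥ v - v) := rfl
  rw [this, sympForm_sub_right, h0, sympForm_self, sub_zero]

end Cfsg.Agent.S2167
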