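import Cfsg.Statements.S2169
import Cfsg.Agent.Lib.Helper44_Inv2
import Cfsg.Agent.Lib.Helper44_StdForms
import Cfsg.Agent.Lib.Helper44_Levi

set_option autoImplicit false
open Cfsg

namespace Cfsg.Agent.S2169

open Cfsg.Agent.Lib.Helper44_StdForms Cfsg.Agent.Lib.Helper44_Inv2

/-- For the hyperbolic quadratic form Σ x_i y_i in dimension 2m over a finite field F of characteristic two, m ≥ 4 (plus type): an element of order 2 of the full isometry group O lies in the commutator subgroup Ω of O exactly when t − 1 has even rank. -/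
theorem result {F : Type*} [Field F] [Fintype F] [CharP F 2] {m : ℕ} (hm : 4 ≤ m) (t : ↥(Cfsg.isometryGroup F (Cfsg.quadFormPlus m F))) (ht : orderOf t = 2) :
    t ∈ Cfsg.Omega F (Cfsg.quadFormPlus m F) ↔ Even ((((t : ↥(Cfsg.isometryGroup F (Cfsg.quadFormPlus m F))) : GL (Fin m ⊕ Fin m) F) : Matrix (Fin m ⊕ Fin m) (Fin m ⊕ Fin m) F) - 1).rank := by
  have h2 : (2 : F) = 0 := by
    have := CharP.cast_eq_zero F 2
    exact_mod_cast this
  revert t
  rw [← coe_qfPlus]
  intro t ht
  have hQ := Cfsg.Agent.Lib.Helper44_Levi.nondegenerate_qfPlus (m := m) (F := F)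
  have hcard : Fintype.card (Fin m ⊕ Fin m) = 2 * m := by
    simp [Fintype.card_sum]; ring
  have htt : t * t = 1 := by
    have h := pow_orderOf_eq_one t
    rw [ht] at h
    rw [← pow_two]
    exact h
  exact involution_mem_omega_iff h2 (qfPlus m F) hQ (by rw [hcard]; omega) t htt

end Cfsg.Agent.S2169
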