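import Cfsg.Statements.S2171
import Cfsg.Agent.Lib.Helper44_Inv2
import Cfsg.Agent.Lib.Helper44_StdForms

set_option autoImplicit false
open Cfsg

namespace Cfsg.Agent.S2171

open Cfsg.Agent.Lib.Helper44_StdForms Cfsg.Agent.Lib.Helper44_Inv2

/-- For the quadratic form Σ x_i y_i + (z₁² + c z₁ z₂ + d z₂²) in dimension 2m with anisotropic binary part over a finite field F of characteristic two, m ≥ 4 (minus type): an element of order 2 of the full isometry group O lies in the commutator subgroup Ω of O exactly when t − 1 has even rank. -/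
theorem result {F : Type*} [Field F] [Fintype F] [CharP F 2] {m : ℕ} (hm : 4 ≤ m) (c d : F) (hcd : ∀ z₁ z₂ : F, z₁ ^ 2 + c * z₁ * z₂ + d * z₂ ^ 2 = 0 → z₁ = 0 ∧ z₂ = 0) (t : ↥(Cfsg.isometryGroup F (Cfsg.quadFormMinus (m - 1) F c d))) (ht : orderOf t = 2) :
    t ∈ Cfsg.Omega F (Cfsg.quadFormMinus (m - 1) F c d) ↔ Even ((((t : ↥(Cfsg.isometryGroup F (Cfsg.quadFormMinus (m - 1) F c d))) : GL ((Fin (m - 1) ⊕ Fin (m - 1)) ⊕ Fin 2) F) : Matrix ((Fin (m - 1) ⊕ Fin (m - 1)) ⊕ Fin 2) ((Fin (m - 1) ⊕ Fin (m - 1)) ⊕ Fin 2) F) - 1).rank := by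
  have h2 : (2 : F) = 0 := by
    have := CharP.cast_eq_zero F 2
    exact_mod_cast this
  revert t
  rw [← coe_qfMinus]
  intro t ht
  have hc : c ≠ 0 := by
    intro hc0
    have hrc : ringChar F = 2 :=
      CharP.ringChar_of_prime_eq_zero Nat.prime_two (by exact_mod_cast h2)
    obtain ⟨e, he⟩ := FiniteField.isSquare_of_char_two hrc d
    have := (hcd e 1 (by rw [hc0, he]; linear_combination e ^ 2 * h2)).2
    exact one_ne_zero this
  have hdisc : 4 * d - c ^ 2 ≠ 0 := by
    have h4 : (4 : F) = 0 := by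
      have : (4 : F) = 2 * 2 := by norm_num
      rw [this, h2, mul_zero]
    rw [h4, zero_mul, zero_sub]
    exact neg_ne_zero.mpr (pow_ne_zero 2 hc)
  have hQ : (QuadraticMap.polarBilin (qfMinus (m - 1) F c d)).Nondegenerate := by
    refine (LinearMap.BilinForm.nondegenerate_iff_det_ne_zero
      (Pi.basisFun F ((Fin (m - 1) ⊕ Fin (m - 1)) ⊕ Fin 2))).mpr ?_
    have : LinearMap.BilinForm.toMatrix (Pi.basisFun F ((Fin (m - 1) ⊕ Fin (m - 1)) ⊕ Fin 2))
        (QuadraticMap.polarBilin (qfMinus (m - 1) F c d))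
        = Matrix.of (fun i j : (Fin (m - 1) ⊕ Fin (m - 1)) ⊕ Fin 2 =>
            QuadraticMap.polar (Cfsg.quadFormMinus (m - 1) F c d) (Pi.single i 1) (Pi.single j 1)) := by
      ext i j
      simp [LinearMap.BilinForm.toMatrix_apply, coe_qfMinus]
    rw [this, det_gram_quadFormMinus]
    exact mul_ne_zero (pow_ne_zero _ (neg_ne_zero.mpr one_ne_zero)) hdisc
  have hcard : Fintype.card ((Fin (m - 1) ⊕ Fin (m - 1)) ⊕ Fin 2) = 2 * m := by
    simp [Fintype.card_sum]; omega
  have htt : t * t = 1 := by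
    have h := pow_orderOf_eq_one t
    rw [ht] at h
    rw [← pow_two]
    exact h
  exact involution_mem_omega_iff h2 (qfMinus (m - 1) F c d) hQ (by rw [hcard]; omega) t htt

end Cfsg.Agent.S2171
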