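import Cfsg.Statements.S2172
import Cfsg.Agent.Lib.Helper44_Inv2Conj
import Cfsg.Agent.Lib.Helper44_StdForms
import Cfsg.Agent.Lib.Helper44_Levi

set_option autoImplicit false
open Cfsg

namespace Cfsg.Agent.S2172

open Cfsg.Agent.Lib.Helper44_StdForms Cfsg.Agent.Lib.Helper44_Inv2 Cfsg.Agent.Lib.Helper44_Inv2Conj
  Cfsg.Agent.Lib.Helper44_Orth Cfsg.Agent.Lib.Helper44_Spinor Cfsg.Agent.Lib.Helper14_CartanDieudonne Matrix Module

/-- Splitting of involution classes from O to Ω for the hyperbolic quadratic form Q = Σ x_i y_i in dimension 2m over a finite field F of characteristic two, m ≥ 4. Let t, s be involutions of the commutator subgroup Ω that are conjugate in the full isometry group O. If it is not the case that t − 1 has rank m and Q(v + t v) = 0 for every vector v, then t and s are conjugate by an element of Ω. If t − 1 has rank m and Q(v + t v) = 0 for all v, then t and s are conjugate by an element of Ω exactly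 when the intersection of the images of t − 1 and s − 1 has even dimension (so the class of t in O meets at most two classes of Ω). -/
theorem result {F : Type*} [Field F] [Fintype F] [CharP F 2] {m : ℕ} (hm : 4 ≤ m) (t s : ↥(Cfsg.isometryGroup F (Cfsg.quadFormPlus m F))) (ht : orderOf t = 2) (hs : orderOf s = 2) (htO : t ∈ Cfsg.Omega F (Cfsg.quadFormPlus m F)) (hsO : s ∈ Cfsg.Omega F (Cfsg.quadFormPlus m F)) (hconj : IsConj t s) :
    (¬ (((((t : ↥(Cfsg.isometryGroup F (Cfsg.quadFormPlus m F))) : GL (Fin m ⊕ Fin m) F) : Matrix (Fin m ⊕ Fin m) (Fin m ⊕ Fin m) F) - 1).rank = m ∧ ∀ v : Fin m ⊕ Fin m → F, Cfsg.quadFormPlus m F (v + Matrix.mulVec (((t : ↥(Cfsg.isometryGroup F (Cfsg.quadFormPlus m F))) : GL (Fin m ⊕ Fin m) F) : Matrix (Fin m ⊕ Fin m) (Fin m ⊕ Fin m) F) v) = 0) →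
      ∃ g ∈ Cfsg.Omega F (Cfsg.quadFormPlus m F), g * t * g⁻¹ = s) ∧
    ((((((t : ↥(Cfsg.isometryGroup F (Cfsg.quadFormPlus m F))) : GL (Fin m ⊕ Fin m) F) : Matrix (Fin m ⊕ Fin m) (Fin m ⊕ Fin m) F) - 1).rank = m ∧ ∀ v : Fin m ⊕ Fin m → F, Cfsg.quadFormPlus m F (v + Matrix.mulVec (((t : ↥(Cfsg.isometryGroup F (Cfsg.quadFormPlus m F))) : GL (Fin m ⊕ Fin m) F) : Matrix (Fin m ⊕ Fin m) (Fin m ⊕ Fin m) F) v) = 0) →
      ((∃ g ∈ Cfsg.Omega F (Cfsg.quadFormPlus m F), g * t * g⁻¹ = s) ↔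
        Even (Module.finrank F ↥(LinearMap.range (Matrix.toLin' ((((t : ↥(Cfsg.isometryGroup F (Cfsg.quadFormPlus m F))) : GL (Fin m ⊕ Fin m) F) : Matrix (Fin m ⊕ Fin m) (Fin m ⊕ Fin m) F) - 1)) ⊓ LinearMap.range (Matrix.toLin' ((((s : ↥(Cfsg.isometryGroup F (Cfsg.quadFormPlus m F))) : GL (Fin m ⊕ Fin m) F) : Matrix (Fin m ⊕ Fin m) (Fin m ⊕ Fin m) F) - 1)))))) := by
  have h2 : (2 : F) = 0 := by
    have := CharP.cast_eq_zero F 2
    exact_mod_cast this
  revert t s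
  rw [← coe_qfPlus]
  intro t s ht hs htO hsO hconj
  have hQ := Cfsg.Agent.Lib.Helper44_Levi.nondegenerate_qfPlus (m := m) (F := F)
  have hcard : Fintype.card (Fin m ⊕ Fin m) = 2 * m := by
    simp [Fintype.card_sum]; ring
  have hex : Fintype.card F ≠ 2 ∨ Fintype.card (Fin m ⊕ Fin m) ≠ 4 := Or.inr (by omega)
  have htt : t * t = 1 := by
    have h := pow_orderOf_eq_one t
    rw [ht] at h
    rw [← pow_two]
    exact h
  have hTT : ((t : Matrix.GeneralLinearGroup (Fin m ⊕ Fin m) F) : Matrix (Fin m ⊕ Fin m) (Fin m ⊕ Fin m) F)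
      * ((t : Matrix.GeneralLinearGroup (Fin m ⊕ Fin m) F) : Matrix (Fin m ⊕ Fin m) (Fin m ⊕ Fin m) F) = 1 := by
    have := congrArg (fun g : ↥(Cfsg.isometryGroup F (⇑(qfPlus m F))) =>
      ((g : Matrix.GeneralLinearGroup (Fin m ⊕ Fin m) F) : Matrix (Fin m ⊕ Fin m) (Fin m ⊕ Fin m) F)) htt
    exact this
  obtain ⟨g₀, hg₀'⟩ := isConj_iff.mp hconj
  have hg₀ : g₀ * t * g₀⁻¹ = s := hg₀'
  have hT := isIsom_of_mem (qfPlus m F) t
  have hvT : ∀ v : Fin m ⊕ Fin m → F,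
      v + ((t : Matrix.GeneralLinearGroup (Fin m ⊕ Fin m) F) : Matrix (Fin m ⊕ Fin m) (Fin m ⊕ Fin m) F) *ᵥ v
        = (((t : Matrix.GeneralLinearGroup (Fin m ⊕ Fin m) F) : Matrix (Fin m ⊕ Fin m) (Fin m ⊕ Fin m) F) - 1) *ᵥ v := by
    intro v
    rw [N_apply]
    have : v + ((t : Matrix.GeneralLinearGroup (Fin m ⊕ Fin m) F) : Matrix (Fin m ⊕ Fin m) (Fin m ⊕ Fin m) F) *ᵥ v
        = ((t : Matrix.GeneralLinearGroup (Fin m ⊕ Fin m) F) : Matrix (Fin m ⊕ Fin m) (Fin m ⊕ Fin m) F) *ᵥ v - v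
          + (2 : F) • v := by
      rw [two_smul]; abel
    rw [this, h2, zero_smul, add_zero]
  constructor
  · intro hnot
    by_contra hno
    have hfix : ∀ v : Fin m ⊕ Fin m → F,
        ((t : Matrix.GeneralLinearGroup (Fin m ⊕ Fin m) F) : Matrix (Fin m ⊕ Fin m) (Fin m ⊕ Fin m) F) *ᵥ v = v →
          qfPlus m F v = 0 := by
      intro v hTv
      by_contra hv
      exact hno (conj_in_omega_of_fixed_nonsingular h2 (qfPlus m F) hQ hex t s g₀ hg₀ hv hTv)
    obtain ⟨hr, hts⟩ := rank_of_fixed_singular (qfPlus m F) hQ h2 hT hTT hfix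
    apply hnot
    refine ⟨by omega, fun v => ?_⟩
    rw [hvT]
    exact hts v
  · rintro ⟨hr, hts⟩
    have hts' : ∀ x : Fin m ⊕ Fin m → F, qfPlus m F
        ((((t : Matrix.GeneralLinearGroup (Fin m ⊕ Fin m) F) : Matrix (Fin m ⊕ Fin m) (Fin m ⊕ Fin m) F) - 1) *ᵥ x) = 0 := by
      intro x
      rw [← hvT]
      exact hts x
    rw [Matrix.toLin'_apply', Matrix.toLin'_apply']
    have hU0 : ∀ u ∈ LinearMap.range
        (((t : Matrix.GeneralLinearGroup (Fin m ⊕ Fin m) F) : Matrix (Fin m ⊕ Fin m) (Fin m ⊕ Fin m) F) - 1).mulVecLin,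
        qfPlus m F u = 0 := by
      rintro _ ⟨x, rfl⟩
      exact hts' x
    have hUm : finrank F ↥(LinearMap.range
        (((t : Matrix.GeneralLinearGroup (Fin m ⊕ Fin m) F) : Matrix (Fin m ⊕ Fin m) (Fin m ⊕ Fin m) F) - 1).mulVecLin)
        = m := hr
    have key : ∀ g : ↥(Cfsg.isometryGroup F (⇑(qfPlus m F))), g * t * g⁻¹ = s →
        (g ∈ Cfsg.Omega F (⇑(qfPlus m F)) ↔ Even (m - finrank F ↥(LinearMap.range
          (((t : Matrix.GeneralLinearGroup (Fin m ⊕ Fin m) F) : Matrix (Fin m ⊕ Fin m) (Fin m ⊕ Fin m) F) - 1).mulVecLin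
          ⊓ LinearMap.range
          (((s : Matrix.GeneralLinearGroup (Fin m ⊕ Fin m) F) : Matrix (Fin m ⊕ Fin m) (Fin m ⊕ Fin m) F) - 1).mulVecLin))) := by
      intro g hg
      rw [mem_omega_iff_parity h2 (qfPlus m F) hQ hex hcard _ hU0 hUm g, range_conj _ g t s hg]
    have hmeven : Even m := (typeA (qfPlus m F) hQ h2 (by omega) m _ hT hTT hts' hr).1
    have hd_le : finrank F ↥(LinearMap.range
          (((t : Matrix.GeneralLinearGroup (Fin m ⊕ Fin m) F) : Matrix (Fin m ⊕ Fin m) (Fin m ⊕ Fin m) F) - 1).mulVecLin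
          ⊓ LinearMap.range
          (((s : Matrix.GeneralLinearGroup (Fin m ⊕ Fin m) F) : Matrix (Fin m ⊕ Fin m) (Fin m ⊕ Fin m) F) - 1).mulVecLin)
        ≤ m := by
      have h0 := Submodule.finrank_mono (inf_le_left : LinearMap.range
          (((t : Matrix.GeneralLinearGroup (Fin m ⊕ Fin m) F) : Matrix (Fin m ⊕ Fin m) (Fin m ⊕ Fin m) F) - 1).mulVecLin
          ⊓ LinearMap.range
          (((s : Matrix.GeneralLinearGroup (Fin m ⊕ Fin m) F) : Matrix (Fin m ⊕ Fin m) (Fin m ⊕ Fin m) F) - 1).mulVecLin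
          ≤ _)
      omega
    constructor
    · rintro ⟨g, hgO, hg⟩
      have h1 := (key g hg).mp hgO
      rcases hmeven with ⟨a, ha⟩
      rcases h1 with ⟨b, hb⟩
      exact ⟨a - b, by omega⟩
    · intro hd
      refine ⟨g₀, (key g₀ hg₀).mpr ?_, hg₀⟩
      rcases hmeven with ⟨a, ha⟩
      rcases hd with ⟨b, hb⟩
      exact ⟨a - b, by omega⟩

end Cfsg.Agent.S2172
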