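import Cfsg.Statements.S2173
import Cfsg.Agent.Lib.Helper44_Inv2Conj
import Cfsg.Agent.Lib.Helper44_StdForms
import Cfsg.Agent.Lib.Helper44_WittIndexMinus

set_option autoImplicit false
open Cfsg

namespace Cfsg.Agent.S2173

open Cfsg.Agent.Lib.Helper44_StdForms Cfsg.Agent.Lib.Helper44_Inv2 Cfsg.Agent.Lib.Helper44_Inv2Conj
  Cfsg.Agent.Lib.Helper44_Orth Cfsg.Agent.Lib.Helper44_Spinor Cfsg.Agent.Lib.Helper14_CartanDieudonne
  Cfsg.Agent.Lib.Helper44_WittIndexMinus Matrix Module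

/-- For the quadratic form Σ x_i y_i + (z₁² + c z₁ z₂ + d z₂²) in dimension 2m with anisotropic binary part over a finite field F of characteristic two, m ≥ 4 (minus type): two involutions of the commutator subgroup Ω that are conjugate in the full isometry group O are conjugate by an element of Ω (no class of involutions of O inside Ω splits). -/
theorem result {F : Type*} [Field F] [Fintype F] [CharP F 2] {m : ℕ} (hm : 4 ≤ m) (c d : F) (hcd : ∀ z₁ z₂ : F, z₁ ^ 2 + c * z₁ * z₂ + d * z₂ ^ 2 = 0 → z₁ = 0 ∧ z₂ = 0) (t s : ↥(Cfsg.isometryGroup F (Cfsg.quadFormMinus (m - 1) F c d))) (ht : orderOf t = 2) (hs : orderOf s = 2) (htO : t ∈ Cfsg.Omega F (Cfsg.quadFormMinus (m - 1) F c d)) (hsO : s ∈ Cfsg.Omega F (Cfsg.quadFormMinus (m - 1) F c d)) (hconj : IsConj t s) :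
    ∃ g ∈ Cfsg.Omega F (Cfsg.quadFormMinus (m - 1) F c d), g * t * g⁻¹ = s := by
  have h2 : (2 : F) = 0 := by
    have := CharP.cast_eq_zero F 2
    exact_mod_cast this
  revert t s
  rw [← coe_qfMinus]
  intro t s ht hs htO hsO hconj
  have hc : c ≠ 0 := by
    intro hc0
    have hrc : ringChar F = 2 :=
      CharP.ringChar_of_prime_eq_zero Nat.prime_two (by exact_mod_cast h2)
    obtain ⟨e, he⟩ := FiniteField.isSquare_of_char_two hrc d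
    have := (hcd e 1 (by rw [hc0, he]; linear_combination e ^ 2 * h2)).2
    exact one_ne_zero this
  have hdisc : 4 * d - c ^ 2 ≠ 0 := by
    have h4 : (4 : F) = 0 := by
      have : (4 : F) = 2 * 2 := by norm_num
      rw [this, h2, mul_zero]
    rw [h4, zero_mul, zero_sub]
    exact neg_ne_zero.mpr (pow_ne_zero 2 hc)
  have hQ : (QuadraticMap.polarBilin (qfMinus (m - 1) F c d)).Nondegenerate := by
    refine (LinearMap.BilinForm.nondegenerate_iff_det_ne_zero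
      (Pi.basisFun F ((Fin (m - 1) ⊕ Fin (m - 1)) ⊕ Fin 2))).mpr ?_
    have : LinearMap.BilinForm.toMatrix (Pi.basisFun F ((Fin (m - 1) ⊕ Fin (m - 1)) ⊕ Fin 2))
        (QuadraticMap.polarBilin (qfMinus (m - 1) F c d))
        = Matrix.of (fun i j : (Fin (m - 1) ⊕ Fin (m - 1)) ⊕ Fin 2 =>
            QuadraticMap.polar (Cfsg.quadFormMinus (m - 1) F c d) (Pi.single i 1) (Pi.single j 1)) := by
      ext i j
      simp [LinearMap.BilinForm.toMatrix_apply, coe_qfMinus]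
    rw [this, det_gram_quadFormMinus]
    exact mul_ne_zero (pow_ne_zero _ (neg_ne_zero.mpr one_ne_zero)) hdisc
  have hcard : Fintype.card ((Fin (m - 1) ⊕ Fin (m - 1)) ⊕ Fin 2) = 2 * m := by
    simp [Fintype.card_sum]; omega
  have hex : Fintype.card F ≠ 2 ∨ Fintype.card ((Fin (m - 1) ⊕ Fin (m - 1)) ⊕ Fin 2) ≠ 4 :=
    Or.inr (by omega)
  have htt : t * t = 1 := by
    have h := pow_orderOf_eq_one t
    rw [ht] at h
    rw [← pow_two]
    exact h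
  have hTT : ((t : Matrix.GeneralLinearGroup ((Fin (m - 1) ⊕ Fin (m - 1)) ⊕ Fin 2) F) : Matrix ((Fin (m - 1) ⊕ Fin (m - 1)) ⊕ Fin 2) ((Fin (m - 1) ⊕ Fin (m - 1)) ⊕ Fin 2) F)
      * ((t : Matrix.GeneralLinearGroup ((Fin (m - 1) ⊕ Fin (m - 1)) ⊕ Fin 2) F) : Matrix ((Fin (m - 1) ⊕ Fin (m - 1)) ⊕ Fin 2) ((Fin (m - 1) ⊕ Fin (m - 1)) ⊕ Fin 2) F) = 1 := by
    have := congrArg (fun g : ↥(Cfsg.isometryGroup F (⇑(qfMinus (m - 1) F c d))) =>
      ((g : Matrix.GeneralLinearGroup ((Fin (m - 1) ⊕ Fin (m - 1)) ⊕ Fin 2) F) : Matrix ((Fin (m - 1) ⊕ Fin (m - 1)) ⊕ Fin 2) ((Fin (m - 1) ⊕ Fin (m - 1)) ⊕ Fin 2) F)) htt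
    exact this
  obtain ⟨g₀, hg₀'⟩ := isConj_iff.mp hconj
  have hg₀ : g₀ * t * g₀⁻¹ = s := hg₀'
  have hT := isIsom_of_mem (qfMinus (m - 1) F c d) t
  by_contra hno
  have hfix : ∀ v : (Fin (m - 1) ⊕ Fin (m - 1)) ⊕ Fin 2 → F,
      ((t : Matrix.GeneralLinearGroup ((Fin (m - 1) ⊕ Fin (m - 1)) ⊕ Fin 2) F) : Matrix ((Fin (m - 1) ⊕ Fin (m - 1)) ⊕ Fin 2) ((Fin (m - 1) ⊕ Fin (m - 1)) ⊕ Fin 2) F) *ᵥ v = v →
        qfMinus (m - 1) F c d v = 0 := by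
    intro v hTv
    by_contra hv
    exact hno (conj_in_omega_of_fixed_nonsingular h2 (qfMinus (m - 1) F c d) hQ hex t s g₀ hg₀ hv hTv)
  obtain ⟨hr, hts⟩ := rank_of_fixed_singular (qfMinus (m - 1) F c d) hQ h2 hT hTT hfix
  have h5 := ts_finrank_le (m - 1) c d hcd hQ (LinearMap.range
    (((t : Matrix.GeneralLinearGroup ((Fin (m - 1) ⊕ Fin (m - 1)) ⊕ Fin 2) F) : Matrix ((Fin (m - 1) ⊕ Fin (m - 1)) ⊕ Fin 2) ((Fin (m - 1) ⊕ Fin (m - 1)) ⊕ Fin 2) F) - 1).mulVecLin)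
    (by rintro _ ⟨x, rfl⟩; exact hts x)
  have h6 : (((t : Matrix.GeneralLinearGroup ((Fin (m - 1) ⊕ Fin (m - 1)) ⊕ Fin 2) F) : Matrix ((Fin (m - 1) ⊕ Fin (m - 1)) ⊕ Fin 2) ((Fin (m - 1) ⊕ Fin (m - 1)) ⊕ Fin 2) F) - 1).rank
      = finrank F ↥(LinearMap.range
    (((t : Matrix.GeneralLinearGroup ((Fin (m - 1) ⊕ Fin (m - 1)) ⊕ Fin 2) F) : Matrix ((Fin (m - 1) ⊕ Fin (m - 1)) ⊕ Fin 2) ((Fin (m - 1) ⊕ Fin (m - 1)) ⊕ Fin 2) F) - 1).mulVecLin) := rfl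
  omega

end Cfsg.Agent.S2173
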