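import Cfsg.Statements.S2178
import Cfsg.Agent.Lib.Helper18_ChevData5
import Cfsg.Agent.Lib.Helper18_ChevCentCerts
-- import your own Cfsg.Agent.* helpers here

set_option autoImplicit false
open Cfsg

namespace Cfsg.Agent.S2178

theorem closure_three {F : Type*} [Field F] (D : Cfsg.Lie.ChevalleyDatum) (a b c : ℕ) :
    D.posUnipotent F ⊔ Subgroup.closure {g : GL D.Idx F | ∃ s ∈ [a, b, c], ∃ x : F,
      (g : Matrix D.Idx D.Idx F) = D.x F s x} =
    D.posUnipotent F ⊔ D.rootSubgroup F a ⊔ D.rootSubgroup F b ⊔ D.rootSubgroup F c := by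
  rw [sup_assoc, sup_assoc]
  congr 1
  unfold Cfsg.Lie.ChevalleyDatum.rootSubgroup
  rw [← Subgroup.closure_union, ← Subgroup.closure_union]
  congr 1
  ext g
  simp only [List.mem_cons, List.not_mem_nil, or_false, Set.mem_setOf_eq, Set.mem_union]
  constructor
  · rintro ⟨s, rfl | rfl | rfl, x, hx⟩
    · exact Or.inl ⟨x, hx⟩
    · exact Or.inr (Or.inl ⟨x, hx⟩)
    · exact Or.inr (Or.inr ⟨x, hx⟩)
  · rintro (⟨x, hx⟩ | ⟨x, hx⟩ | ⟨x, hx⟩)
    · exact ⟨a, Or.inl rfl, x, hx⟩
    · exact ⟨b, Or.inr (Or.inl rfl), x, hx⟩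
    · exact ⟨c, Or.inr (Or.inr rfl), x, hx⟩

/-- Centralizers of the long and the short root involutions in the Chevalley group G of type F₄ over a finite field F of characteristic two (this problem's root numbering for type F₄, from the Chevalley data module: fundamental roots p₁, p₂ short, p₃, p₄ long, with indices 33, 27, 25, 24, their negatives 14, 20, 22, 23; highest root 47, highest short root 44; U the subgroup generated by the positive root subgroups). For an element t of G with matrix x_47(1): the centralizer of t in G is the subgroup generated by U and the root subgroups X_{−p₁}, X_{−p₂}, X_{−p₃} (the unipotent radical of the maximal parabolic subgroup whose Levi factor has fundamental roots p₁, p₂, p₃, together with that Levi factor's root subgroups; the Levi factor is of type C₃). For an element u of G with matrix x_44(1): the centralizer of u in G is generated by U and X_{−p₂}, X_{−p₃}, X_{−p₄} (the same construction for the Levi factor with fundamental roots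 p₂, p₃, p₄, of type B₃). -/
theorem result {F : Type*} [Field F] [Fintype F] [CharP F 2] (t u : GL Cfsg.Lie.chevF4.Idx F) (ht : (t : Matrix Cfsg.Lie.chevF4.Idx Cfsg.Lie.chevF4.Idx F) = Cfsg.Lie.chevF4.x F 47 1) (hu : (u : Matrix Cfsg.Lie.chevF4.Idx Cfsg.Lie.chevF4.Idx F) = Cfsg.Lie.chevF4.x F 44 1) :
    Cfsg.Lie.chevF4.group F ⊓ Subgroup.centralizer {t} = Cfsg.Lie.chevF4.posUnipotent F ⊔ Cfsg.Lie.chevF4.rootSubgroup F 14 ⊔ Cfsg.Lie.chevF4.rootSubgroup F 20 ⊔ Cfsg.Lie.chevF4.rootSubgroup F 22 ∧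
    Cfsg.Lie.chevF4.group F ⊓ Subgroup.centralizer {u} = Cfsg.Lie.chevF4.posUnipotent F ⊔ Cfsg.Lie.chevF4.rootSubgroup F 20 ⊔ Cfsg.Lie.chevF4.rootSubgroup F 22 ⊔ Cfsg.Lie.chevF4.rootSubgroup F 23 := by
  obtain ⟨Ns, w, d, Ts, hT, K, base, stepT, wl, ws, sc, c, tc, gc, pc, ac⟩ :=
    Cfsg.Agent.Lib.Helper18_ChevData5.exists_cert5 Cfsg.Lie.chevF4 (by simp)
  have hdesc := Cfsg.Agent.Lib.Helper18_ChevJCerts.descent_all Cfsg.Lie.chevF4 (by simp)
  have hR2 := Cfsg.Agent.Lib.Helper18_ChevComm2.r2_all c pc (F := F)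
  have h2 : (((2 : ℤ) : ℤ) : F) = 0 := by
    have := CharP.cast_eq_zero F 2
    exact_mod_cast this
  constructor
  · rw [← closure_three, ← Cfsg.Agent.Lib.Helper18_ChevCent.closure_qGens_eq]
    exact Cfsg.Agent.Lib.Helper18_ChevCent.centralizer_eq c tc ac gc hdesc hR2
      Cfsg.Agent.Lib.Helper18_ChevCentCerts.centCertF4Long Int.cast_zero t ht
  · rw [← closure_three, ← Cfsg.Agent.Lib.Helper18_ChevCent.closure_qGens_eq]
    exact Cfsg.Agent.Lib.Helper18_ChevCent.centralizer_eq c tc ac gc hdesc hR2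
      Cfsg.Agent.Lib.Helper18_ChevCentCerts.centCertF4Short h2 u hu

end Cfsg.Agent.S2178
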