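import Cfsg.Statements.S2183
import Cfsg.Agent.Lib.Helper23_TD4InvGrp
import Cfsg.Agent.Lib.Helper36_TwistOrderD4
import Cfsg.Agent.Lib.Helper42_TD4Inv_NF
import Cfsg.Agent.Lib.Helper53_TD4Inv_SYL
import Cfsg.Agent.Lib.Helper95_TD4Inv_PARTC

set_option autoImplicit false
set_option maxRecDepth 100000
open Cfsg

namespace Cfsg.Agent.S2183

open Cfsg Cfsg.Lie Cfsg.Agent.Lib.Helper18_ChevGL Cfsg.Agent.Lib.Helper18_ChevUni
  Cfsg.Agent.Lib.Helper36_TwistU Cfsg.Agent.Lib.Helper36_TwistW
  Cfsg.Agent.Lib.Helper36_TwistTabD4 Cfsg.Agent.Lib.Helper36_TwistD4 Cfsg.Agent.Lib.Helper18_TD4Swap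
  Cfsg.Agent.Lib.Helper18_TD4Struct Cfsg.Agent.Lib.Helper23_TD4InvDefs Cfsg.Agent.Lib.Helper23_TD4InvMul
  Cfsg.Agent.Lib.Helper23_TD4InvConj
  Cfsg.Agent.Lib.Helper23_TD4InvRed Cfsg.Agent.Lib.Helper23_TD4InvGrp Cfsg.Agent.Lib.Helper23_TD4Field
  Cfsg.Agent.Lib.Helper42_TD4Inv_NF Cfsg.Agent.Lib.Helper53_TD4Inv_SYL Cfsg.Agent.Lib.Helper95_TD4Inv_PARTC

/-- The twisted group ³D₄(q), q even, realised inside the Chevalley group of type D₄ over the field K with q³ elements, has exactly two conjugacy classes of elements of order 2. -/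
theorem result {K : Type*} [Field K] [Fintype K] [CharP K 2] (q : ℕ) (hK : Fintype.card K = q ^ 3) :
    (ConjClasses.mk '' {g : ↥(Cfsg.Lie.twistedD4 K q) | orderOf g = 2}).ncard = 2 := by
  obtain ⟨m0, hm0, hm⟩ := h53_q_eq hK
  have hq : IsPrimePow q := ⟨2, m0, Nat.prime_two.prime, hm0, hm.symm⟩
  obtain ⟨f, hf⟩ := Cfsg.Agent.Lib.Helper36_TwistF.exists_frob hq hK
  have hinj := phi_eq_one hK f hf
  have hyp := hyp_twisted hK f hf hinj
  have hf3 := hyp.hf3
  -- the two representatives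
  have hzm : X 23 (1 : K) ∈ twistedD4 K q := by
    rw [← Phi_tz f]
    exact hyp.hPhi _ (good_tz f 1 (map_one f))
  have ham : yS dc pi eps f (18, 3) (1 : K) ∈ twistedD4 K q := by
    rw [← Phi_ta f]
    exact hyp.hPhi _ (good_ta f 1)
  set zz : ↥(twistedD4 K q) := ⟨X 23 1, hzm⟩ with hzz
  set aa : ↥(twistedD4 K q) := ⟨yS dc pi eps f (18, 3) 1, ham⟩ with haa
  -- transfer of conjugacy to the subtype
  have cj_sub : ∀ (g : ↥(twistedD4 K q)) (h : GL chevD4.Idx K) (hh : h ∈ twistedD4 K q),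
      CJ (twistedD4 K q) g.1 h → IsConj g ⟨h, hh⟩ := by
    intro g h hh ⟨c, hc, e⟩
    rw [isConj_iff]
    exact ⟨⟨c, hc⟩, Subtype.ext e⟩
  -- every involution is conjugate to one of them
  have h1 : ∀ g : ↥(twistedD4 K q), orderOf g = 2 → IsConj g zz ∨ IsConj g aa := by
    intro g hg
    obtain ⟨c, hc⟩ := exists_conj_mem_U hK g hg
    obtain ⟨x, hx, hxg⟩ := exists_phi hK f hf _ hc (c * g * c⁻¹).2
    have hgg : g * g = 1 := by
      rw [← sq, ← hg, pow_orderOf_eq_one]
    have hg1 : g ≠ 1 := by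
      rintro rfl
      rw [orderOf_one] at hg
      norm_num at hg
    have hx0 : x ≠ 0 := by
      rintro rfl
      rw [Phi_zero] at hxg
      have : c * g * c⁻¹ = 1 := Subtype.ext hxg.symm
      apply hg1
      have h2 : g = c⁻¹ * (c * g * c⁻¹) * c := by group
      rw [h2, this]
      group
    have hinv : mulT f x x = 0 := by
      apply hinj _ (good_mulT f hf3 x x hx hx)
      rw [← Phi_mul f hf3 x x hx hx, hxg]
      have : (c * g * c⁻¹) * (c * g * c⁻¹) = 1 := by
        calc (c * g * c⁻¹) * (c * g * c⁻¹) = c * (g * g) * c⁻¹ := by group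
          _ = 1 := by rw [hgg]; group
      exact congrArg Subtype.val this
    have hcg : IsConj g (c * g * c⁻¹) := by
      rw [isConj_iff]
      exact ⟨c, rfl⟩
    rcases involution_cj hyp x hx hx0 hinv with h | h
    · left
      rw [hxg] at h
      exact hcg.trans (cj_sub _ _ hzm h)
    · right
      rw [hxg] at h
      exact hcg.trans (cj_sub _ _ ham h)
  -- the two representatives are not conjugate
  have h2 : ¬ IsConj aa zz := by
    intro h
    rw [isConj_iff] at h
    obtain ⟨c, hc⟩ := h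
    have hcG : (c : GL chevD4.Idx K) ∈ chevD4.group K :=
      Cfsg.Agent.Lib.Helper36_TwistOrder.genSubgroup_le certs _ c.2
    exact not_conj f c.1 hcG (congrArg Subtype.val hc)
  -- their orders
  have h3 : orderOf zz = 2 := by
    apply orderOf_eq_prime
    · apply Subtype.ext
      show X 23 (1 : K) ^ 2 = 1
      rw [sq, X_add, CharTwo.add_self_eq_zero, X_zero]
    · intro h
      have h' : Phi f (tz (1 : K)) = 1 := by
        rw [Phi_tz]
        exact congrArg Subtype.val h
      have := hinj _ (good_tz f 1 (map_one f)) h'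
      have h0 := congrArg T6.n this
      simp [tz] at h0
  have h4 : orderOf aa = 2 := by
    apply orderOf_eq_prime
    · apply Subtype.ext
      show yS dc pi eps f (18, 3) (1 : K) ^ 2 = 1
      rw [sq, ← Phi_ta f, Phi_mul f hf3 _ _ (good_ta f 1) (good_ta f 1)]
      have : mulT f (ta (1 : K)) (ta 1) = 0 := by
        ext <;> simp [mulT, ta, CharTwo.add_self_eq_zero]
      rw [this, Phi_zero]
    · intro h
      have h' : Phi f (ta (1 : K)) = 1 := by
        rw [Phi_ta]
        exact congrArg Subtype.val h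
      have := hinj _ (good_ta f 1) h'
      have h0 := congrArg T6.t this
      simp [ta] at h0
  -- conclusion
  have himg : ConjClasses.mk '' {g : ↥(twistedD4 K q) | orderOf g = 2} = {ConjClasses.mk zz, ConjClasses.mk aa} := by
    ext C
    constructor
    · rintro ⟨g, hg, rfl⟩
      rcases h1 g hg with h | h
      · left
        exact ConjClasses.mk_eq_mk_iff_isConj.mpr h
      · right
        exact ConjClasses.mk_eq_mk_iff_isConj.mpr h
    · rintro (rfl | rfl)
      · exact ⟨zz, h3, rfl⟩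
      · exact ⟨aa, h4, rfl⟩
  rw [himg]
  apply Set.ncard_pair
  intro h
  exact h2 (ConjClasses.mk_eq_mk_iff_isConj.mp h).symm

end Cfsg.Agent.S2183
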