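import Cfsg.Statements.S2186
import Cfsg.Agent.Lib.Helper18_ChevData5
import Cfsg.Agent.Lib.Helper18_ChevHighCerts
-- import your own Cfsg.Agent.* helpers here

set_option autoImplicit false
open Cfsg

namespace Cfsg.Agent.S2186

/-- Let G be the Chevalley group of type G₂ (over a field with at least four elements), D₄, E₆, E₇ or E₈ over a finite field F of characteristic two, and let X be the root subgroup of the highest root (the last root index) — a long root subgroup, of order |F|. For every g in G, the subgroup generated by X and its conjugate g X g⁻¹ is either a 2-group or is conjugate by an element of G to the subgroup generated by X and the root subgroup of the lowest root (index 0, the negative of the highest root), which is a copy of SL₂(F). -/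
theorem result {F : Type*} [Field F] [Fintype F] [CharP F 2] (D : Cfsg.Lie.ChevalleyDatum) (hD : D ∈ [Cfsg.Lie.chevG2, Cfsg.Lie.chevD4, Cfsg.Lie.chevE6, Cfsg.Lie.chevE7, Cfsg.Lie.chevE8]) (hF : D = Cfsg.Lie.chevG2 → 4 ≤ Fintype.card F) (g : GL D.Idx F) (hg : g ∈ D.group F) :
    IsPGroup 2 ↥(D.rootSubgroup F (D.nroots - 1) ⊔ (D.rootSubgroup F (D.nroots - 1)).map (MulAut.conj g).toMonoidHom) ∨
    ∃ h ∈ D.group F, (D.rootSubgroup F (D.nroots - 1) ⊔ (D.rootSubgroup F (D.nroots - 1)).map (MulAut.conj g).toMonoidHom).map (MulAut.conj h).toMonoidHom = D.rootSubgroup F (D.nroots - 1) ⊔ D.rootSubgroup F 0 := by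
  have hD7 : D ∈ [Cfsg.Lie.chevG2, Cfsg.Lie.chevB2, Cfsg.Lie.chevD4, Cfsg.Lie.chevF4, Cfsg.Lie.chevE6,
      Cfsg.Lie.chevE7, Cfsg.Lie.chevE8] := by
    simp only [List.mem_cons, List.not_mem_nil, or_false] at hD ⊢
    rcases hD with h | h | h | h | h <;> simp [h]
  obtain ⟨Ns, w, d, Ts, hT, K, base, stepT, wl, ws, sc, c, tc, gc, pc, ac⟩ :=
    Cfsg.Agent.Lib.Helper18_ChevData5.exists_cert5 D hD7
  have hdesc := Cfsg.Agent.Lib.Helper18_ChevJCerts.descent_all D hD7
  have hR2 := Cfsg.Agent.Lib.Helper18_ChevComm2.r2_all c pc (F := F)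
  haveI : Fact (Nat.Prime 2) := ⟨Nat.prime_two⟩
  have hcert : ∃ tbl, Cfsg.Agent.Lib.Helper18_ChevHigh.HighCert D tbl := by
    simp only [List.mem_cons, List.not_mem_nil, or_false] at hD
    rcases hD with rfl | rfl | rfl | rfl | rfl
    · exact ⟨_, Cfsg.Agent.Lib.Helper18_ChevHighCerts.highCertG2⟩
    · exact ⟨_, Cfsg.Agent.Lib.Helper18_ChevHighCerts.highCertD4⟩
    · exact ⟨_, Cfsg.Agent.Lib.Helper18_ChevHighCerts.highCertE6⟩
    · exact ⟨_, Cfsg.Agent.Lib.Helper18_ChevHighCerts.highCertE7⟩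
    · exact ⟨_, Cfsg.Agent.Lib.Helper18_ChevHighCerts.highCertE8⟩
  obtain ⟨tbl, hc⟩ := hcert
  exact Cfsg.Agent.Lib.Helper18_ChevHigh.high_pair 2 c tc ac gc hdesc hR2 hc g hg

end Cfsg.Agent.S2186
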