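import Cfsg.Statements.S2214
import Cfsg.Agent.Lib.Helper18_ChevData5
import Cfsg.Agent.Lib.Helper18_ChevW0Certs
-- import your own Cfsg.Agent.* helpers here

set_option autoImplicit false
open Cfsg

namespace Cfsg.Agent.S2214

/-- Let k be an algebraically closed field of prime characteristic p, G the adjoint Chevalley group of type G₂, B₂, D₄, F₄, E₆, E₇ or E₈ over k (the matrix group generated by the root elements x_s(t), t ∈ k, acting on the Lie algebra), q = p^a with a ≥ 1, and K a subgroup of G containing every root element x_s(t) with t^q = t and consisting of matrices all of whose entries c satisfy c^q = c. Then the centralizer of K in G is trivial, and the normalizer of K in G is exactly the set of elements of G all of whose entries c satisfy c^q = c. -/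
theorem result {k : Type*} [Field k] [IsAlgClosed k] (p : ℕ) [Fact p.Prime] [CharP k p] (D : Cfsg.Lie.ChevalleyDatum) (hD : D ∈ [Cfsg.Lie.chevG2, Cfsg.Lie.chevB2, Cfsg.Lie.chevD4, Cfsg.Lie.chevF4, Cfsg.Lie.chevE6, Cfsg.Lie.chevE7, Cfsg.Lie.chevE8]) (a : ℕ) (ha : 1 ≤ a) (K : Subgroup (GL D.Idx k)) (hKG : K ≤ D.group k)
    (hLK : Subgroup.closure {g : GL D.Idx k | ∃ (s : ℕ) (t : k), t ^ (p ^ a) = t ∧ (g : Matrix D.Idx D.Idx k) = D.x k s t} ≤ K)
    (hKfix : ∀ g ∈ K, ∀ i j : D.Idx, ((g : Matrix D.Idx D.Idx k) i j) ^ (p ^ a) = (g : Matrix D.Idx D.Idx k) i j) :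
    D.group k ⊓ Subgroup.centralizer (K : Set (GL D.Idx k)) = ⊥ ∧
    ∀ g : GL D.Idx k, g ∈ D.group k → (g ∈ Subgroup.normalizer (K : Set (GL D.Idx k)) ↔ ∀ i j : D.Idx, ((g : Matrix D.Idx D.Idx k) i j) ^ (p ^ a) = (g : Matrix D.Idx D.Idx k) i j) := by
  obtain ⟨Ns, w, d, Ts, hT, K', base, stepT, wl, ws, sc, c, tc, gc, pc, ac⟩ :=
    Cfsg.Agent.Lib.Helper18_ChevData5.exists_cert5 D hD
  have hdesc := Cfsg.Agent.Lib.Helper18_ChevJCerts.descent_all D hD
  have hR2 := Cfsg.Agent.Lib.Helper18_ChevComm2.r2_all c pc (F := k)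
  obtain ⟨w0, hw⟩ := Cfsg.Agent.Lib.Helper18_ChevW0Certs.exists_w0Cert D hD
  have hLK' : Subgroup.closure (Cfsg.Agent.Lib.Helper18_ChevFrob.fixGens D (iterateFrobenius k p a)) ≤ K := hLK
  have hKfix' : ∀ g ∈ K, Cfsg.Agent.Lib.Helper18_ChevFrob.mapGL D (iterateFrobenius k p a) g = g := by
    intro g hg
    rw [Cfsg.Agent.Lib.Helper18_ChevFrob.mapGL_eq_self_iff]
    exact hKfix g hg
  refine ⟨Cfsg.Agent.Lib.Helper18_ChevFrob.centralizer_eq_bot c tc ac gc hdesc hR2 hw _ K hLK', ?_⟩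
  intro g hg
  rw [Cfsg.Agent.Lib.Helper18_ChevFrob.normalizer_iff c tc ac gc hdesc hR2 hw _ K hKG hLK' hKfix' g hg,
    Cfsg.Agent.Lib.Helper18_ChevFrob.mapGL_eq_self_iff]
  rfl

end Cfsg.Agent.S2214
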