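import Cfsg.Statements.S2222
import Cfsg.Agent.Lib.Helper67_Pron1
import Cfsg.Agent.Lib.Helper67_Pron4

set_option autoImplicit false
open Cfsg

namespace Cfsg.Agent.S2222

open Equiv Cfsg.Agent.Lib.Helper84_RelSylow Cfsg.Agent.Lib.Helper33_Conj
  Cfsg.Agent.Lib.Helper67_Pron1 Cfsg.Agent.Lib.Helper67_Pron2 Cfsg.Agent.Lib.Helper67_Pron4

/-- an odd index subgroup contains a Sylow 2-subgroup. -/
theorem exists_sylow_le {G : Type*} [Group G] [Finite G] (H : Subgroup G) (hH : Odd H.index) :
    ∃ T : Subgroup G, IsSylowIn 2 T ⊤ ∧ T ≤ H := by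
  have : Fact (Nat.Prime 2) := ⟨Nat.prime_two⟩
  obtain ⟨T, -, hT⟩ := exists_isSylowIn_ge (p := 2) (bot_le : ⊥ ≤ H) IsPGroup.of_bot
  refine ⟨T, ⟨le_top, hT.isPGroup, ?_⟩, hT.le⟩
  rw [Subgroup.relIndex_top_right, ← Subgroup.relIndex_mul_index hT.le]
  intro h
  rcases (Nat.Prime.dvd_mul Nat.prime_two).mp h with h | h
  · exact hT.not_dvd h
  · exact (Nat.not_even_iff_odd.mpr hH) (even_iff_two_dvd.mpr h)

/-- Sylow 2-subgroups of alternating groups of degree at least 6 are self-normalizing. -/
theorem normalizer_le_sylow (n : ℕ) (hn : 6 ≤ n) (T : Subgroup (alternatingGroup (Fin n)))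
    (hT : IsSylowIn 2 T ⊤) : Subgroup.normalizer (T : Set (alternatingGroup (Fin n))) ≤ T := by
  intro g hg
  have : Fact (Nat.Prime 2) := ⟨Nat.prime_two⟩
  set P := T.map (alternatingGroup (Fin n)).subtype with hPdef
  have hP : IsSylowIn 2 P (amb true (Fin n)) := by
    have := hT.map_of_injective (alternatingGroup (Fin n)).subtype
      (Subgroup.subtype_injective _)
    rwa [← MonoidHom.range_eq_map, Subgroup.range_subtype] at this
  have hy : Nzes (g : Perm (Fin n)) P := by
    rintro _ ⟨t, ht, rfl⟩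
    refine ⟨g * t * g⁻¹, ?_, by simp⟩
    exact (Subgroup.mem_normalizer_iff.mp hg t).mp ht
  obtain ⟨k, hk⟩ := normalizer_two n (Fin n) (Fintype.card_fin n) true (fun _ => hn) P hP _ hy
  have hk' : g ^ (2 ^ k) = 1 := Subtype.ext (by simpa using hk)
  have hz : IsPGroup 2 (Subgroup.zpowers g) := isPGroup_zpowers hk'
  have hsup := hz.to_sup_of_normal_right' hT.isPGroup (by rw [Subgroup.zpowers_le]; exact hg)
  have h1 := hT.eq_of_le le_sup_right le_top hsup
  rw [← h1]
  exact Subgroup.mem_sup_left (Subgroup.mem_zpowers g)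

theorem odd_divisors_sixty : ∀ i ≤ 60, i ∣ 60 → i % 2 = 1 → i = 1 ∨ i = 3 ∨ i = 5 ∨ i = 15 := by
  decide

/-- the case of degree 5. -/
theorem a5_case (H : Subgroup (alternatingGroup (Fin 5))) (hH : Odd H.index) :
    Cfsg.IsPronormal H := by
  have : Fact (Nat.Prime 2) := ⟨Nat.prime_two⟩
  have hcard : Nat.card (alternatingGroup (Fin 5)) = 60 := by
    rw [nat_card_alternatingGroup]; simp [Nat.factorial]
  have hdvd : H.index ∣ 60 := hcard ▸ Subgroup.index_dvd_card H
  have hle : H.index ≤ 60 := Nat.le_of_dvd (by norm_num) hdvd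
  rcases odd_divisors_sixty _ hle hdvd (Nat.odd_iff.mp hH) with h | h | h | h
  · rw [Subgroup.index_eq_one] at h
    subst h
    exact isPronormal_of_normal ⊤
  · exfalso
    have hcore : H.normalCore = ⊥ := by
      rcases (inferInstance : H.normalCore.Normal).eq_bot_or_eq_top with h' | h'
      · exact h'
      · have h2 : H = ⊤ := top_le_iff.mp (h' ▸ H.normalCore_le)
        rw [h2, Subgroup.index_top] at h
        omega
    rw [Subgroup.normalCore_eq_ker, MonoidHom.ker_eq_bot_iff] at hcore
    have h3 := Nat.card_le_card_of_injective _ hcore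
    rw [hcard, Nat.card_perm] at h3
    have h4 : Nat.card (alternatingGroup (Fin 5) ⧸ H) = 3 := h
    rw [h4] at h3
    norm_num [Nat.factorial] at h3
  · exact isPronormal_of_index_prime (by rw [h]; exact Nat.prime_five)
  · have h1 := Subgroup.card_mul_index H
    rw [h, hcard] at h1
    have h2 : Nat.card H = 2 ^ 2 := by omega
    apply isPronormal_of_isSylowIn_top (p := 2)
    refine ⟨le_top, IsPGroup.of_card h2, ?_⟩
    rw [Subgroup.relIndex_top_right, h]
    norm_num

/-- In the alternating group of degree n ≥ 5 every subgroup H of odd index is pronormal: for every element g, the subgroups H and gHg⁻¹ are conjugate by an element of the subgroup they generate. -/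
theorem result (n : ℕ) (hn : 5 ≤ n)
    (H : Subgroup (alternatingGroup (Fin n))) (hH : Odd H.index) : Cfsg.IsPronormal H := by
  rcases Nat.eq_or_lt_of_le hn with h5 | h6
  · subst h5
    exact a5_case H hH
  · have : Fact (Nat.Prime 2) := ⟨Nat.prime_two⟩
    obtain ⟨T, hT, hTH⟩ := exists_sylow_le H hH
    exact isPronormal_of_normalizer_le hT hTH ((normalizer_le_sylow n h6 T hT).trans hTH)

end Cfsg.Agent.S2222
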