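import Cfsg.Statements.S2231

set_option autoImplicit false
open Cfsg

namespace Cfsg.Agent.S2231

open scoped MatrixGroups

/-- All Sylow `p`-subgroups are commutative. -/
def SylAb (p : ℕ) (G : Type*) [Group G] : Prop :=
  ∀ P : Sylow p G, ∀ x ∈ P, ∀ y ∈ P, x * y = y * x

theorem sylAb_of_surjective {p : ℕ} [Fact p.Prime] {G H : Type*} [Group G] [Group H] [Finite G]
    (f : G →* H) (hf : Function.Surjective f) (h : SylAb p G) : SylAb p H := by
  intro P x hx y hy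
  obtain ⟨Q, rfl⟩ := Sylow.mapSurjective_surjective hf p P
  have hx' : x ∈ (Q : Subgroup G).map f := hx
  have hy' : y ∈ (Q : Subgroup G).map f := hy
  obtain ⟨a, ha, rfl⟩ := hx'
  obtain ⟨b, hb, rfl⟩ := hy'
  rw [← map_mul, ← map_mul, h Q a ha b hb]

theorem sylAb_subgroup {p : ℕ} [Fact p.Prime] {G : Type*} [Group G] [Finite G]
    (H : Subgroup G) (h : SylAb p G) : SylAb p H := by
  intro P x hx y hy
  obtain ⟨Q, hQ⟩ := (P.2.map H.subtype).exists_le_sylow
  have hx' : (x : G) ∈ Q := hQ ⟨x, hx, rfl⟩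
  have hy' : (y : G) ∈ Q := hQ ⟨y, hy, rfl⟩
  have := h Q _ hx' _ hy'
  exact Subtype.ext (by simpa using this)

/-! ### `p`-subgroups of `SL(2, K)` in characteristic `p` are commutative -/

theorem fix_param {K : Type*} [Field K] (a b c d x y : K)
    (hd : a * d - b * c = 1) (h0 : a * x + b * y = x) (h1 : c * x + d * y = y) (hx : x ≠ 0) :
    a = 1 - b * (y / x) ∧ d = 1 + b * (y / x) ∧ c = - b * (y / x) ^ 2 := by
  have ha : a = 1 - b * (y / x) := by
    field_simp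
    linear_combination h0
  have hc : c = (1 - d) * (y / x) := by
    field_simp
    linear_combination h1
  have hd' : d = 1 + b * (y / x) := by
    rw [ha, hc] at hd
    linear_combination hd
  refine ⟨ha, hd', ?_⟩
  rw [hc, hd']
  ring

theorem fix_param' {K : Type*} [Field K] (a b c d x y : K)
    (hd : a * d - b * c = 1) (h0 : a * x + b * y = x) (h1 : c * x + d * y = y) (hx : x = 0)
    (hy : y ≠ 0) : a = 1 ∧ d = 1 ∧ b = 0 := by
  subst hx
  have hb : b = 0 := by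
    have : b * y = 0 := by linear_combination h0
    rcases mul_eq_zero.mp this with h | h
    · exact h
    · exact absurd h hy
  have hd1 : d = 1 := by
    have : (d - 1) * y = 0 := by linear_combination h1
    rcases mul_eq_zero.mp this with h | h
    · linear_combination h
    · exact absurd h hy
  refine ⟨?_, hd1, hb⟩
  rw [hb, hd1] at hd
  linear_combination hd

theorem sl2_comm_of_fix {K : Type*} [Field K] (g h : SL(2, K)) (v : Fin 2 → K) (hv : v ≠ 0)
    (hg : (g : Matrix (Fin 2) (Fin 2) K).mulVec v = v)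
    (hh : (h : Matrix (Fin 2) (Fin 2) K).mulVec v = v) : g * h = h * g := by
  have hgd := g.2
  have hhd := h.2
  rw [Matrix.det_fin_two] at hgd hhd
  have g0 := congrFun hg 0
  have g1 := congrFun hg 1
  have h0 := congrFun hh 0
  have h1 := congrFun hh 1
  simp only [Matrix.mulVec, dotProduct, Fin.sum_univ_two] at g0 g1 h0 h1
  have hv' : v 0 ≠ 0 ∨ (v 0 = 0 ∧ v 1 ≠ 0) := by
    by_cases h0 : v 0 = 0
    · right
      refine ⟨h0, fun h1 => hv ?_⟩
      funext i
      fin_cases i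
      · exact h0
      · exact h1
    · exact Or.inl h0
  ext i j
  simp only [Matrix.SpecialLinearGroup.coe_mul, Matrix.mul_apply, Fin.sum_univ_two]
  rcases hv' with hx | ⟨hx, hy⟩
  · obtain ⟨e1, e2, e3⟩ := fix_param _ _ _ _ _ _ hgd g0 g1 hx
    obtain ⟨f1, f2, f3⟩ := fix_param _ _ _ _ _ _ hhd h0 h1 hx
    fin_cases i <;> fin_cases j <;> simp only [Fin.zero_eta, Fin.mk_one, Fin.isValue] <;>
      simp only [e1, e2, e3, f1, f2, f3] <;> ring
  · obtain ⟨e1, e2, e3⟩ := fix_param' _ _ _ _ _ _ hgd g0 g1 hx hy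
    obtain ⟨f1, f2, f3⟩ := fix_param' _ _ _ _ _ _ hhd h0 h1 hx hy
    fin_cases i <;> fin_cases j <;> simp only [Fin.zero_eta, Fin.mk_one, Fin.isValue] <;>
      simp only [e1, e2, e3, f1, f2, f3] <;> ring

theorem exists_fixed_vector {p : ℕ} [Fact p.Prime] {K : Type*} [Field K] [Fintype K] [CharP K p]
    (Q : Subgroup SL(2, K)) (hQ : IsPGroup p Q) :
    ∃ v : Fin 2 → K, v ≠ 0 ∧ ∀ g ∈ Q, (g : Matrix (Fin 2) (Fin 2) K).mulVec v = v := by
  have hcard : p ∣ Nat.card (Fin 2 → K) := by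
    obtain ⟨n, hp, hn⟩ := FiniteField.card K p
    rw [Nat.card_eq_fintype_card, Fintype.card_fun, hn, Fintype.card_fin]
    exact dvd_pow (dvd_pow_self p n.ne_zero) (by norm_num)
  have h0 : (0 : Fin 2 → K) ∈ MulAction.fixedPoints Q (Fin 2 → K) := by
    intro g
    exact smul_zero g
  obtain ⟨v, hv, hv0⟩ :=
    hQ.exists_fixed_point_of_prime_dvd_card_of_fixed_point (Fin 2 → K) hcard h0
  refine ⟨v, fun h => hv0 h.symm, fun g hg => ?_⟩
  exact hv ⟨g, hg⟩

theorem sylAb_SL2 {p : ℕ} [Fact p.Prime] {K : Type*} [Field K] [Fintype K] [CharP K p] :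
    SylAb p SL(2, K) := by
  intro P x hx y hy
  obtain ⟨v, hv, hfix⟩ := exists_fixed_vector (P : Subgroup SL(2, K)) P.2
  exact sl2_comm_of_fix x y v hv (hfix x hx) (hfix y hy)

/-! ### A non-commutative `p`-subgroup of `Qd(p)` -/

/-- upper unitriangular matrices in `SL(3, R)` -/
def U3 (R : Type*) [CommRing R] : Subgroup (SL(3, R)) where
  carrier := {M | M.1 0 0 = 1 ∧ M.1 1 1 = 1 ∧ M.1 2 2 = 1 ∧ M.1 1 0 = 0 ∧ M.1 2 0 = 0 ∧ M.1 2 1 = 0}
  mul_mem' := by
    rintro A B ⟨a1, a2, a3, a4, a5, a6⟩ ⟨b1, b2, b3, b4, b5, b6⟩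
    simp only [Set.mem_ofPred_eq, Matrix.SpecialLinearGroup.coe_mul, Matrix.mul_apply,
      Fin.sum_univ_three, a1, a2, a3, a4, a5, a6, b1, b2, b3, b4, b5, b6]
    simp
  one_mem' := by
    simp
  inv_mem' := by
    rintro A ⟨a1, a2, a3, a4, a5, a6⟩
    simp only [Set.mem_ofPred_eq, Matrix.SpecialLinearGroup.coe_inv, Matrix.adjugate_fin_three,
      a1, a2, a3, a4, a5, a6]
    simp

theorem U3_pow {p : ℕ} [Fact p.Prime] (M : SL(3, ZMod p)) (hM : M ∈ U3 (ZMod p)) :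
    M ^ (p ^ 2) = 1 := by
  obtain ⟨a1, a2, a3, a4, a5, a6⟩ := hM
  apply Subtype.ext
  rw [Matrix.SpecialLinearGroup.coe_pow, Matrix.SpecialLinearGroup.coe_one]
  set N : Matrix (Fin 3) (Fin 3) (ZMod p) := M.1 - 1 with hN
  have hMN : M.1 = N + 1 := by rw [hN]; abel
  have hN3 : N ^ 3 = 0 := by
    ext i j
    fin_cases i <;> fin_cases j <;>
      simp [hN, pow_succ, Matrix.mul_apply, Fin.sum_univ_three, a1, a2, a3, a4, a5, a6]
  have hp2 : 3 ≤ p ^ 2 := by
    have := (Fact.out : p.Prime).two_le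
    nlinarith
  rw [hMN, add_pow_char_pow_of_commute p 2 (Commute.one_right N), one_pow]
  have : N ^ (p ^ 2) = 0 := by
    rw [← Nat.sub_add_cancel hp2, pow_add, hN3, mul_zero]
  rw [this, zero_add]

theorem U3_isPGroup {p : ℕ} [Fact p.Prime] : IsPGroup p (U3 (ZMod p)) := by
  intro g
  refine ⟨2, ?_⟩
  apply Subtype.ext
  simpa using U3_pow g.1 g.2

/-- the elementary matrix `1 + E₀₁` -/
def xel (R : Type*) [CommRing R] : SL(3, R) :=
  ⟨!![1, 1, 0; 0, 1, 0; 0, 0, 1], by simp [Matrix.det_fin_three]⟩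

/-- the elementary matrix `1 + E₁₂` -/
def yel (R : Type*) [CommRing R] : SL(3, R) :=
  ⟨!![1, 0, 0; 0, 1, 1; 0, 0, 1], by simp [Matrix.det_fin_three]⟩

theorem not_sylAb_qd {p : ℕ} [Fact p.Prime] : ¬ SylAb p (Cfsg.qd p) := by
  intro h
  have hxq : xel (ZMod p) ∈ Cfsg.qd p := by
    apply Subgroup.subset_closure
    show _ ∧ _ ∧ _
    simp [xel]
  have hyq : yel (ZMod p) ∈ Cfsg.qd p := by
    apply Subgroup.subset_closure
    show _ ∧ _ ∧ _
    simp [yel]
  have hxU : xel (ZMod p) ∈ U3 (ZMod p) := by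
    show _ ∧ _ ∧ _ ∧ _ ∧ _ ∧ _
    simp [xel]
  have hyU : yel (ZMod p) ∈ U3 (ZMod p) := by
    show _ ∧ _ ∧ _ ∧ _ ∧ _ ∧ _
    simp [yel]
  have hU : IsPGroup p ((U3 (ZMod p)).subgroupOf (Cfsg.qd p)) := U3_isPGroup.comap_subtype
  obtain ⟨P, hP⟩ := hU.exists_le_sylow
  have hx : (⟨xel (ZMod p), hxq⟩ : Cfsg.qd p) ∈ P := hP (Subgroup.mem_subgroupOf.mpr hxU)
  have hy : (⟨yel (ZMod p), hyq⟩ : Cfsg.qd p) ∈ P := hP (Subgroup.mem_subgroupOf.mpr hyU)
  have hcomm := h P _ hx _ hy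
  have h2 : xel (ZMod p) * yel (ZMod p) = yel (ZMod p) * xel (ZMod p) :=
    congrArg Subtype.val hcomm
  have h2' : (!![1, 1, 0; 0, 1, 0; 0, 0, 1] : Matrix (Fin 3) (Fin 3) (ZMod p)) *
      !![1, 0, 0; 0, 1, 1; 0, 0, 1] = !![1, 0, 0; 0, 1, 1; 0, 0, 1] * !![1, 1, 0; 0, 1, 0; 0, 0, 1] :=
    congrArg Subtype.val h2
  have h3 := congrFun (congrFun h2' 0) 2
  simp [Matrix.mul_apply, Fin.sum_univ_three] at h3

/-- Let p be an odd prime and K a finite field of characteristic p. Then Qd(p) (the natural semidirect product of an elementary abelian group of order p² by SL₂(p)) is not involved in the projective special linear group PSL₂(K). -/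
theorem result {p : ℕ} [Fact p.Prime] (hp : p ≠ 2) {K : Type*} [Field K] [Fintype K] [CharP K p] : ¬ Cfsg.Involves ↥(Cfsg.qd p) (Matrix.ProjectiveSpecialLinearGroup (Fin 2) K) := by
  rintro ⟨H, R, hn, ⟨e⟩⟩
  have h1 : SylAb p (Matrix.ProjectiveSpecialLinearGroup (Fin 2) K) :=
    sylAb_of_surjective (QuotientGroup.mk' _) (QuotientGroup.mk'_surjective _) sylAb_SL2
  have h2 : SylAb p H := sylAb_subgroup H h1
  have h3 : SylAb p (H ⧸ R.subgroupOf H) :=
    sylAb_of_surjective (QuotientGroup.mk' _) (QuotientGroup.mk'_surjective _) h2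
  have h4 : SylAb p (Cfsg.qd p) :=
    sylAb_of_surjective e.toMonoidHom e.surjective h3
  exact not_sylAb_qd h4

end Cfsg.Agent.S2231
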