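import Cfsg.Statements.S2232
import Cfsg.Agent.S0780
import Cfsg.Agent.S5299
import Cfsg.Agent.Lib.Helper46_U3TI
import Cfsg.Agent.Lib.Helper46_SylGen
import Cfsg.Agent.Lib.Helper46_Qd2

set_option autoImplicit false
open Cfsg

namespace Cfsg.Agent.S2232

open Cfsg.Agent.Lib.Helper46_SylGen

section pclosed
variable {p : ℕ} [Fact p.Prime] {K H : Type*} [Group K] [Group H] [Finite K]

/-- if the Sylow `p`-subgroups of `K` intersect trivially, every quotient of `K` by a normal
subgroup of order divisible by `p` has a unique Sylow `p`-subgroup -/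
theorem unique_sylow_of_ti
    (hTI : ∀ (P₁ P₂ : Sylow p K) (x : K), x ∈ P₁ → x ∈ P₂ → x ≠ 1 → P₁ = P₂)
    (φ : K →* H) (hφ : Function.Surjective φ) (hker : p ∣ Nat.card φ.ker)
    (Q₁ Q₂ : Sylow p H) : Q₁ = Q₂ := by
  have hHfin : Finite H := Finite.of_surjective φ hφ
  let P₀ : Sylow p φ.ker := default
  have hP₀ : (P₀ : Subgroup φ.ker) ≠ ⊥ := P₀.ne_bot_of_dvd_card hker
  obtain ⟨⟨y, hyP⟩, hy1'⟩ := (Subgroup.ne_bot_iff_exists_ne_one).mp hP₀
  have hy1 : y ≠ 1 := fun h => hy1' (Subtype.ext h)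
  set P₀K : Subgroup K := (P₀ : Subgroup φ.ker).map φ.ker.subtype with hP₀K
  have hP₀Kp : IsPGroup p P₀K := P₀.isPGroup'.map _
  set A : Subgroup K := Subgroup.normalizer (P₀K : Set K) with hA
  have hfrat : A ⊔ φ.ker = ⊤ := Sylow.normalizer_sup_eq_top P₀
  -- the restriction of φ to A is surjective
  have hf : Function.Surjective (φ.comp A.subtype) := by
    intro h
    obtain ⟨k, rfl⟩ := hφ h
    have hk : k ∈ ((A ⊔ φ.ker : Subgroup K) : Set K) := by rw [hfrat]; trivial
    rw [Subgroup.mul_normal] at hk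
    obtain ⟨a, ha, w, hw, rfl⟩ := Set.mem_mul.mp hk
    refine ⟨⟨a, ha⟩, ?_⟩
    have hw' : φ w = 1 := hw
    rw [MonoidHom.comp_apply, map_mul, hw', mul_one]
    rfl
  obtain ⟨T, hT⟩ := hP₀Kp.exists_le_sylow
  have hP₀A : P₀K ≤ A := Subgroup.le_normalizer
  -- the nontrivial element
  have hy'K : ((y : φ.ker) : K) ∈ P₀K := Subgroup.mem_map_of_mem _ hyP
  have hy'1 : ((y : φ.ker) : K) ≠ 1 := by
    intro h
    apply hy1
    exact Subtype.ext h
  -- every Sylow of A lies in T
  have hRT : ∀ R : Sylow p A, (R : Subgroup A).map A.subtype ≤ (T : Subgroup K) := by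
    intro R
    have hnorm : (P₀K.subgroupOf A).Normal := Subgroup.normal_in_normalizer
    have hpg : IsPGroup p (P₀K.subgroupOf A) := hP₀Kp.comap_subtype
    have hle := normal_pGroup_le_sylow (P₀K.subgroupOf A) hpg R
    have hyR : ((y : φ.ker) : K) ∈ (R : Subgroup A).map A.subtype := by
      refine ⟨⟨((y : φ.ker) : K), hP₀A hy'K⟩, hle ?_, rfl⟩
      rw [Subgroup.mem_subgroupOf]
      exact hy'K
    obtain ⟨T', hT'⟩ := (R.isPGroup'.map A.subtype).exists_le_sylow
    have := hTI T' T _ (hT' hyR) (hT hy'K) hy'1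
    rw [← this]
    exact hT'
  have hS₀ : IsPGroup p ((T : Subgroup K).subgroupOf A) := T.isPGroup'.comap_subtype
  have huniq : ∀ R : Sylow p A, (R : Subgroup A) = (T : Subgroup K).subgroupOf A := by
    intro R
    have hle : (R : Subgroup A) ≤ (T : Subgroup K).subgroupOf A := by
      intro r hr
      rw [Subgroup.mem_subgroupOf]
      exact hRT R (Subgroup.mem_map_of_mem _ hr)
    exact (R.is_maximal' hS₀ hle).symm
  obtain ⟨R₁, rfl⟩ := Sylow.mapSurjective_surjective hf p Q₁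
  obtain ⟨R₂, rfl⟩ := Sylow.mapSurjective_surjective hf p Q₂
  have : R₁ = R₂ := Sylow.ext ((huniq R₁).trans (huniq R₂).symm)
  rw [this]

end pclosed

section final
open Cfsg.Agent.Lib.Helper46_Qd Cfsg.Agent.Lib.Helper46_Qd2 Cfsg.Agent.Lib.Helper46_U3TI
open Cfsg.Agent.Lib.Helper94_Herm Cfsg.Agent.Lib.Helper94_HermBridge
open scoped MatrixGroups

theorem card_transl (p : ℕ) [Fact p.Prime] : Nat.card (transl (ZMod p)) = p ^ 2 := by
  have e : transl (ZMod p) ≃ (Fin 2 → ZMod p) :=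
    Additive.ofMul.trans (translEquiv (R := ZMod p)).toEquiv
  rw [Nat.card_congr e, Nat.card_fun, Nat.card_zmod]
  simp

end final

/-- Let p be an odd prime, q a power of p and K a finite field with q² elements. Then Qd(p) (the natural semidirect product of an elementary abelian group of order p² by SL₂(p)) is not involved in the projective special unitary group PSU₃(q) realised over K. -/
theorem result {p : ℕ} [Fact p.Prime] (hp : p ≠ 2) {K : Type*} [Field K] [Fintype K] [CharP K p] (n : ℕ) (hn : 1 ≤ n) (hK : Fintype.card K = (p ^ n) ^ 2) : ¬ Cfsg.Involves ↥(Cfsg.qd p) (Cfsg.PSU 3 K (p ^ n)) := by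
  intro hinv
  obtain ⟨Kb, fb, hfb⟩ := Cfsg.Agent.S5299.involves_iff.mp hinv
  have hπ : Function.Surjective (QuotientGroup.mk' (Subgroup.center (Cfsg.SU 3 K (p ^ n)))) :=
    QuotientGroup.mk'_surjective _
  set π := QuotientGroup.mk' (Subgroup.center (Cfsg.SU 3 K (p ^ n))) with hπdef
  set K₁ : Subgroup (Cfsg.SU 3 K (p ^ n)) := Kb.comap π with hK₁
  have hr : Function.Surjective (π.subgroupComap Kb) :=
    MonoidHom.subgroupComap_surjective_of_surjective π Kb hπ
  let e : ↥(Cfsg.qd p) ≃* ↥(Cfsg.Agent.Lib.Helper46_Qd.affineSub (ZMod p)) :=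
    MulEquiv.subgroupCongr (Cfsg.Agent.Lib.Helper46_Qd.qd_eq p)
  set g' : K₁ →* ↥(Cfsg.Agent.Lib.Helper46_Qd.affineSub (ZMod p)) :=
    e.toMonoidHom.comp (fb.comp (π.subgroupComap Kb)) with hg'
  have hg's : Function.Surjective g' := e.surjective.comp (hfb.comp hr)
  set φ : K₁ →* Matrix.SpecialLinearGroup (Fin 2) (ZMod p) :=
    (Cfsg.Agent.Lib.Helper46_Qd.block (R := ZMod p)).comp g' with hφdef
  have hφ : Function.Surjective φ := Cfsg.Agent.Lib.Helper46_Qd.block_surjective.comp hg's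
  have hker : p ∣ Nat.card φ.ker := by
    have hk : φ.ker = (Cfsg.Agent.Lib.Helper46_Qd2.transl (ZMod p)).comap g' :=
      (MonoidHom.comap_ker _ g').symm
    rw [hk]
    have h1 := Subgroup.card_dvd_of_surjective _
      (MonoidHom.subgroupComap_surjective_of_surjective g'
        (Cfsg.Agent.Lib.Helper46_Qd2.transl (ZMod p)) hg's)
    rw [card_transl] at h1
    exact Dvd.dvd.trans (dvd_pow_self p two_ne_zero) h1
  -- the unitary geometry
  obtain ⟨σ, hσq, hσ⟩ := Cfsg.Agent.Lib.Helper94_HermBridge.exists_frob hK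
  have hB := Cfsg.Agent.Lib.Helper94_HermBridge.hermB_isHerm (n := 3) σ hσq hσ
  have hN := Cfsg.Agent.Lib.Helper94_HermBridge.hermB_nondeg (n := 3) σ hσq
  have h3 : Module.finrank K (Fin 3 → K) = 3 := Module.finrank_fin_fun K
  have hfinK₁ : Finite K₁ := inferInstance
  have hTI := Cfsg.Agent.Lib.Helper46_U3TI.sylow_ti (p := p) hσ hB hN h3
    ((Cfsg.Agent.S0780.toLE 3 (p ^ n) K).comp K₁.subtype)
    (Cfsg.Agent.S0780.toLE_injective.comp Subtype.val_injective)
    (by
      intro g x y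
      rw [MonoidHom.comp_apply, Cfsg.Agent.S0780.toLE_apply, Cfsg.Agent.S0780.toLE_apply,
        Cfsg.Agent.Lib.Helper94_HermBridge.hermB_apply,
        Cfsg.Agent.Lib.Helper94_HermBridge.hermB_apply]
      exact (K₁.subtype g).2 x y)
  obtain ⟨Q₁, Q₂, hne⟩ := Cfsg.Agent.Lib.Helper46_SylGen.exists_ne_sylow_SL2 (ZMod p) p
  exact hne (unique_sylow_of_ti hTI φ hφ hker Q₁ Q₂)

end Cfsg.Agent.S2232
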