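import Cfsg.Statements.S2239
import Mathlib
import Cfsg.Agent.Lib.Helper6_SzSubAlg
import Cfsg.Agent.Lib.Helper6_SzSubNorm
import Cfsg.Agent.Lib.Helper6_SzSubfield
import Cfsg.Agent.Lib.Helper37_SzMax
import Cfsg.Agent.Lib.Helper37_SzZass
import Cfsg.Agent.Lib.Helper37_SzSylow
import Cfsg.Agent.Lib.Helper37_SzBasic

set_option autoImplicit false
open Cfsg

namespace Cfsg.Agent.S2239

open Cfsg.Agent.Helper37Sz Cfsg.Agent.Lib.Helper6_SzSubNorm Cfsg.Agent.Lib.Helper6_SzSubfield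
open Cfsg.Agent.Lib.Helper6_SzSubAlg

section Std

variable {F : Type*} [Field F] [Fintype F] {m : ℕ} {K : Type*} [Field K] [Fintype K] {k : ℕ}

/-- every subgroup isomorphic to the small Suzuki group is conjugate to the standard one -/
theorem conj_std (hm : 1 ≤ m) (hF : Fintype.card F = 2 ^ (2 * m + 1)) (hk : 1 ≤ k)
    (hK : Fintype.card K = 2 ^ (2 * k + 1)) (hdiv : 2 * k + 1 ∣ 2 * m + 1) (ι : K →+* F)
    (S : Subgroup (Cfsg.Sz F m)) (ψ : S ≃* Cfsg.Sz K k) :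
    ∃ g : Cfsg.Sz F m, (szMap hm hk hF hK hdiv ι).range = S.map (MulAut.conj g).toMonoidHom := by
  classical
  have h2F : (2 : F) = 0 := two_eq_zero_of_card hF
  have h2K : (2 : K) = 0 := two_eq_zero_of_card hK
  have hSFdef : ∀ z, (sgHom F m h2F) z = z ^ 2 ^ (m + 1) := fun z => sgHom_apply m h2F z
  have hSF : ∀ z, (sgHom F m h2F) ((sgHom F m h2F) z) = z ^ 2 := fun z => sgHom_sgHom hF h2F z
  have hSKdef : ∀ z, (sgHom K k h2K) z = z ^ 2 ^ (k + 1) := fun z => sgHom_apply k h2K z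
  have hSK : ∀ z, (sgHom K k h2K) ((sgHom K k h2K) z) = z ^ 2 := fun z => sgHom_sgHom hK h2K z
  have hc : ∀ x, ι (sgHom K k h2K x) = sgHom F m h2F (ι x) := sg_compat hF hK hdiv ι
  -- the embedding given by `ψ`
  set θ : Cfsg.Sz K k →* Cfsg.Sz F m := S.subtype.comp ψ.symm.toMonoidHom with hθdef
  have hθinj : Function.Injective θ := by
    intro x y hxy
    have : (ψ.symm x : Cfsg.Sz F m) = ψ.symm y := hxy
    exact ψ.symm.injective (Subtype.ext this)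
  have hθrange : θ.range = S := by
    ext x
    constructor
    · rintro ⟨y, rfl⟩
      exact (ψ.symm y).2
    · intro hx
      exact ⟨ψ ⟨x, hx⟩, by
        show ((ψ.symm (ψ ⟨x, hx⟩) : S) : Cfsg.Sz F m) = x
        rw [MulEquiv.symm_apply_apply]⟩
  obtain ⟨t₀, ht₀, hgen⟩ := exists_unit_generator (m := k) hK
  obtain ⟨g, τ, htor, hinv, huni⟩ :=
    normalize hm hk hF h2F hSF hSFdef h2K hSK hSKdef θ hθinj t₀ ht₀
  set θ' : Cfsg.Sz K k →* Cfsg.Sz F m := (MulAut.conj g).toMonoidHom.comp θ with hθ'def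
  have hθ'app : ∀ x, θ' x = g * θ x * g⁻¹ := fun x => rfl
  have hθ'inj : Function.Injective θ' := (MulAut.conj g).injective.comp hθinj
  have N : Normal h2F hSF hSFdef h2K hSK hSKdef ι θ' t₀ τ :=
    { inj := hθ'inj
      compat := hc
      gen := hgen
      ord := ht₀
      tor := by rw [hθ'app]; exact htor
      inv := by rw [hθ'app]; exact hinv
      uni := fun a b => by
        obtain ⟨a', b', h⟩ := huni a b
        exact ⟨a', b', by rw [hθ'app]; exact h⟩ }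
  refine ⟨g, ?_⟩
  have hrange' : θ'.range = S.map (MulAut.conj g).toMonoidHom := by
    rw [hθ'def, ← MonoidHom.map_range, hθrange]
  rw [← hrange']
  -- the standard generators
  have hstd_u : ∀ a b : K, szMap hm hk hF hK hdiv ι (uQ h2K hSK hSKdef a b)
      = uQ h2F hSF hSFdef (ι a) (ι b) := by
    intro a b
    apply Subtype.ext
    rw [szMap_coe]
    exact map_uSL ι hc a b
  have hstd_h : ∀ t : Kˣ, szMap hm hk hF hK hdiv ι (hQ hSK hSKdef t)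
      = hQ hSF hSFdef (Units.map (ι : K →* F) t) := by
    intro t
    apply Subtype.ext
    rw [szMap_coe]
    exact map_hSL ι hc t
  have hstd_w : szMap hm hk hF hK hdiv ι (wQ h2K hSK hSKdef) = wQ h2F hSF hSFdef := by
    apply Subtype.ext
    rw [szMap_coe]
    exact map_wSL ι
  have hu_mem : ∀ a b : K, szMap hm hk hF hK hdiv ι (uQ h2K hSK hSKdef a b) ∈ θ'.range := by
    intro a b
    rw [hstd_u]
    obtain ⟨a₁, b₁, h⟩ := (mem_Pim hSKdef).1 (uQ_iota_mem hk hK N a b)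
    exact ⟨_, h⟩
  have hh_mem : ∀ t : Kˣ, szMap hm hk hF hK hdiv ι (hQ hSK hSKdef t) ∈ θ'.range := by
    intro t
    rw [hstd_h]
    obtain ⟨t', ht'⟩ := hQ_iota hK N t
    exact ⟨_, ht'⟩
  have hw_mem : szMap hm hk hF hK hdiv ι (wQ h2K hSK hSKdef) ∈ θ'.range := by
    rw [hstd_w]
    exact ⟨_, N.inv⟩
  have hle : (szMap hm hk hF hK hdiv ι).range ≤ θ'.range := by
    rintro y ⟨x, rfl⟩
    rcases decompQ hk hK h2K hSK hSKdef x with ⟨a, b, t, rfl⟩ | ⟨a, b, a', b', t, rfl⟩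
    · rw [map_mul]
      exact Subgroup.mul_mem _ (hu_mem a b) (hh_mem t)
    · rw [map_mul, map_mul, map_mul]
      exact Subgroup.mul_mem _ (Subgroup.mul_mem _ (hu_mem a b) hw_mem)
        (Subgroup.mul_mem _ (hu_mem a' b') (hh_mem t))
  apply Subgroup.eq_of_le_of_card_ge hle
  rw [← Nat.card_congr (MonoidHom.ofInjective hθ'inj).toEquiv,
    ← Nat.card_congr (MonoidHom.ofInjective (szMap_injective hm hk hF hK hdiv ι)).toEquiv]

end Std

/-- Subfield subgroups of the Suzuki group: let q = 2^(2m+1) and s = 2^(2k+1) with m, k ≥ 1 and 2k+1 dividing 2m+1 (so q is a power of s), both groups realised as stabilisers in SL₄ of the Suzuki–Tits ovoid. Then Sz(q) has a subgroup isomorphic to Sz(s), and any two subgroups of Sz(q) isomorphic to Sz(s) are conjugate. -/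
theorem result {F : Type*} [Field F] [Fintype F] {m : ℕ} (hm : 1 ≤ m) (hF : Fintype.card F = 2 ^ (2 * m + 1)) {K : Type*} [Field K] [Fintype K] {k : ℕ} (hk : 1 ≤ k) (hK : Fintype.card K = 2 ^ (2 * k + 1)) (hdiv : 2 * k + 1 ∣ 2 * m + 1) :
    (∃ S : Subgroup ↥(Cfsg.Sz F m), Nonempty (↥S ≃* ↥(Cfsg.Sz K k))) ∧
    ∀ S₁ S₂ : Subgroup ↥(Cfsg.Sz F m), Nonempty (↥S₁ ≃* ↥(Cfsg.Sz K k)) → Nonempty (↥S₂ ≃* ↥(Cfsg.Sz K k)) →
      ∃ g : ↥(Cfsg.Sz F m), S₂ = S₁.map (MulAut.conj g).toMonoidHom := by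
  obtain ⟨ι⟩ := exists_ringHom hF hK hdiv
  refine ⟨⟨(szMap hm hk hF hK hdiv ι).range,
    ⟨(MonoidHom.ofInjective (szMap_injective hm hk hF hK hdiv ι)).symm⟩⟩, ?_⟩
  rintro S₁ S₂ ⟨ψ₁⟩ ⟨ψ₂⟩
  obtain ⟨g₁, h₁⟩ := conj_std hm hF hk hK hdiv ι S₁ ψ₁
  obtain ⟨g₂, h₂⟩ := conj_std hm hF hk hK hdiv ι S₂ ψ₂
  refine ⟨g₂⁻¹ * g₁, ?_⟩
  ext x
  constructor
  · intro hx
    have h3 : g₂ * x * g₂⁻¹ ∈ S₂.map (MulAut.conj g₂).toMonoidHom := ⟨x, hx, rfl⟩
    rw [← h₂, h₁] at h3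
    obtain ⟨y, hy, hyx⟩ := h3
    refine ⟨y, hy, ?_⟩
    have hyx' : g₁ * y * g₁⁻¹ = g₂ * x * g₂⁻¹ := hyx
    show (g₂⁻¹ * g₁) * y * (g₂⁻¹ * g₁)⁻¹ = x
    have e : (g₂⁻¹ * g₁) * y * (g₂⁻¹ * g₁)⁻¹ = g₂⁻¹ * (g₁ * y * g₁⁻¹) * g₂ := by group
    rw [e, hyx']; group
  · rintro ⟨y, hy, rfl⟩
    have h3 : g₁ * y * g₁⁻¹ ∈ S₁.map (MulAut.conj g₁).toMonoidHom := ⟨y, hy, rfl⟩
    rw [← h₁, h₂] at h3
    obtain ⟨x, hx, hxy⟩ := h3
    have hxy' : g₂ * x * g₂⁻¹ = g₁ * y * g₁⁻¹ := hxy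
    have e : (MulAut.conj (g₂⁻¹ * g₁)).toMonoidHom y = g₂⁻¹ * (g₁ * y * g₁⁻¹) * g₂ := by
      show (g₂⁻¹ * g₁) * y * (g₂⁻¹ * g₁)⁻¹ = _
      group
    rw [e, ← hxy']
    have : g₂⁻¹ * (g₂ * x * g₂⁻¹) * g₂ = x := by group
    rw [this]
    exact hx

end Cfsg.Agent.S2239
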