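import Cfsg.Statements.S2245
import Cfsg.Agent.Lib.Helper67_AMax6

set_option autoImplicit false
open Cfsg

namespace Cfsg.Agent.S2245

open MulAction Equiv
open Cfsg.Agent.Lib.Helper67_AMax2

theorem toPermHom_perm (n : ℕ) (g : Perm (Fin n)) : toPermHom (Perm (Fin n)) (Fin n) g = g := by
  ext x; rfl

theorem toPermHom_alt (n : ℕ) (g : alternatingGroup (Fin n)) :
    toPermHom (alternatingGroup (Fin n)) (Fin n) g = (g : Perm (Fin n)) := by
  ext x; rfl

theorem amb_perm (n : ℕ) (hn : 5 ≤ n) : Amb n (Perm (Fin n)) where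
  inj := by
    intro a b h
    rwa [toPermHom_perm, toPermHom_perm] at h
  alt := fun σ _ => ⟨σ, toPermHom_perm n σ⟩
  coatom := fun s hs hsc hne => Equiv.Perm.isCoatom_stabilizer hs hsc (by rwa [Nat.card_fin])
  block := fun K s B _ hB hK hBl =>
    hBl.subsingleton_of_ssubset_of_stabilizer_Perm_le hB (by rwa [stabilizer_compl])
  mt := fun k _ => Equiv.Perm.isMultiplyPretransitive (Fin n) k
  sub := fun k => Set.powersetCard.isPretransitive
  jordan := by
    rintro K hprim ⟨g, hg, h3⟩ hidx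
    rw [toPermHom_perm] at h3
    have hle := Equiv.Perm.alternatingGroup_le_of_isPreprimitive_of_isThreeCycle_mem hprim h3 hg
    have hdvd := Subgroup.index_dvd_of_le hle
    have : Nontrivial (Fin n) := Fin.nontrivial_iff_two_le.mpr (by omega)
    rw [alternatingGroup.index_eq_two] at hdvd
    have h1 : K.index = 1 := by
      rcases (Nat.dvd_prime Nat.prime_two).mp hdvd with h | h
      · exact h
      · exact absurd (by rw [h]) hidx
    exact Subgroup.index_eq_one.mp h1

theorem amb_alt (n : ℕ) (hn : 5 ≤ n) : Amb n (alternatingGroup (Fin n)) where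
  inj := by
    intro a b h
    rw [toPermHom_alt, toPermHom_alt] at h
    exact Subtype.ext h
  alt := fun σ hσ => ⟨⟨σ, hσ⟩, toPermHom_alt n ⟨σ, hσ⟩⟩
  coatom := fun s hs hsc hne => alternatingGroup.isCoatom_stabilizer hs hsc (by rwa [Nat.card_fin])
  block := fun K s B hs hB hK hBl =>
    IsBlock.subsingleton_of_ssubset_compl_of_stabilizer_alternatingGroup_le hs hB hK hBl
  mt := fun k hk => by
    have := alternatingGroup.isMultiplyPretransitive (Fin n)
    exact isMultiplyPretransitive_of_le (n := Nat.card (Fin n) - 2)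
      (by rw [Nat.card_fin]; omega) (Nat.sub_le _ _)
  sub := fun k => Set.powersetCard.isPretransitive_alternatingGroup (by rw [Nat.card_fin]; omega)
  jordan := by
    rintro K hprim ⟨g, hg, h3⟩ -
    rw [toPermHom_alt] at h3
    rw [eq_top_iff, ← Subgroup.map_subtype_le_map_subtype,
      ← MonoidHom.range_eq_map, Subgroup.range_subtype]
    apply Equiv.Perm.alternatingGroup_le_of_isPreprimitive_of_isThreeCycle_mem _ h3
    · exact ⟨g, hg, rfl⟩
    · let φ := (alternatingGroup (Fin n)).subtype.subgroupMap K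
      let f : Fin n →ₑ[φ] Fin n := {
        toFun := id
        map_smul' _ _ := rfl }
      rwa [← isPreprimitive_congr (f := f)
        ((alternatingGroup (Fin n)).subtype.subgroupMap_surjective K) Function.bijective_id]

/-- For n ≥ 5 with n ≠ 6, a Sylow 2-subgroup of the alternating group A_n lies in exactly one maximal subgroup of A_n if and only if n = 2^k + 1 for some k ≥ 2; the same holds for the symmetric group S_n. -/
theorem result (n : ℕ) (hn : 5 ≤ n) (h6 : n ≠ 6) :
    ((∀ R : Sylow 2 ↥(alternatingGroup (Fin n)), (∃! M : Subgroup ↥(alternatingGroup (Fin n)), IsCoatom M ∧ (R : Subgroup ↥(alternatingGroup (Fin n))) ≤ M) ↔ ∃ k : ℕ, 2 ≤ k ∧ n = 2 ^ k + 1) ∧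
    (∀ R : Sylow 2 (Equiv.Perm (Fin n)), (∃! M : Subgroup (Equiv.Perm (Fin n)), IsCoatom M ∧ (R : Subgroup (Equiv.Perm (Fin n))) ≤ M) ↔ ∃ k : ℕ, 2 ≤ k ∧ n = 2 ^ k + 1)) :=
  ⟨fun R => Cfsg.Agent.Lib.Helper67_AMax6.main hn (amb_alt n hn) R,
    fun R => Cfsg.Agent.Lib.Helper67_AMax6.main hn (amb_perm n hn) R⟩

end Cfsg.Agent.S2245
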