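import Cfsg.Statements.S2247
import Cfsg.Agent.Lib.Helper37_SzMax

set_option autoImplicit false
open Cfsg

namespace Cfsg.Agent.S2247

open Cfsg.Agent.Helper37Sz

/-- In the Suzuki group with q = 2^(2m+1), m ≥ 1 (realised as the stabiliser in SL₄ of the Suzuki–Tits ovoid), the normalizer of a Sylow 2-subgroup P is a maximal subgroup and is the only maximal subgroup containing P. -/
theorem result {F : Type*} [Field F] [Fintype F] {m : ℕ} (hm : 1 ≤ m) (hF : Fintype.card F = 2 ^ (2 * m + 1)) (P : Sylow 2 ↥(Cfsg.Sz F m)) :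
    IsCoatom (Subgroup.normalizer ((P : Subgroup ↥(Cfsg.Sz F m)) : Set ↥(Cfsg.Sz F m))) ∧
    ∀ M : Subgroup ↥(Cfsg.Sz F m), IsCoatom M → (P : Subgroup ↥(Cfsg.Sz F m)) ≤ M → M = Subgroup.normalizer ((P : Subgroup ↥(Cfsg.Sz F m)) : Set ↥(Cfsg.Sz F m)) := by
  have h2 := two_eq_zero_of_card hF
  set S := sgHom F m h2 with hSd
  have hSdef : ∀ z, S z = z ^ 2 ^ (m + 1) := fun z => sgHom_apply m h2 z
  have hS : ∀ z, S (S z) = z ^ 2 := fun z => sgHom_sgHom hF h2 z
  obtain ⟨g, φ, hφ, hφval, -⟩ := sylow_two_param hm hF h2 hS hSdef P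
  -- membership in `P`
  have hmemP : ∀ y : Cfsg.Sz F m, y ∈ (P : Subgroup (Cfsg.Sz F m)) ↔
      ∃ q ∈ Qsub h2 hS m, y = g * q * g⁻¹ := by
    intro y
    constructor
    · intro hy
      obtain ⟨⟨a, b⟩, hab⟩ := hφ.2 ⟨y, hy⟩
      refine ⟨uQ h2 hS hSdef a b, uQ_mem_Qsub h2 hS hSdef a b, ?_⟩
      rw [← hφval a b, hab]
    · rintro ⟨q, hq, rfl⟩
      obtain ⟨a, b, rfl⟩ := exists_of_mem_Qsub h2 hS hSdef hq
      rw [← hφval a b]
      exact (φ (a, b)).2
  obtain ⟨α, hα⟩ : ∃ α, α = g • ptInf F m := ⟨_, rfl⟩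
  -- conjugating back
  have hback : ∀ x : Cfsg.Sz F m, x • α = α ↔ (g⁻¹ * x * g) • ptInf F m = ptInf F m := by
    intro x
    rw [hα, mul_smul, mul_smul, inv_smul_eq_iff]
  have hPfix : ∀ y ∈ (P : Subgroup (Cfsg.Sz F m)), y • α = α := by
    intro y hy
    obtain ⟨q, hq, rfl⟩ := (hmemP y).1 hy
    obtain ⟨a, b, rfl⟩ := exists_of_mem_Qsub h2 hS hSdef hq
    rw [hback]
    have : g⁻¹ * (g * uQ h2 hS hSdef a b * g⁻¹) * g = uQ h2 hS hSdef a b := by group
    rw [this, uQ_smul_ptInf]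
  -- conjugation by a stabiliser element preserves `P`
  have hconj : ∀ x : Cfsg.Sz F m, x • α = α → ∀ y ∈ (P : Subgroup (Cfsg.Sz F m)),
      x * y * x⁻¹ ∈ (P : Subgroup (Cfsg.Sz F m)) := by
    intro x hx y hy
    obtain ⟨q, hq, rfl⟩ := (hmemP y).1 hy
    rw [hmemP]
    refine ⟨(g⁻¹ * x * g) * q * (g⁻¹ * x * g)⁻¹,
      conj_mem_Qsub hm hF h2 hS hSdef ((hback x).1 hx) hq, ?_⟩
    group
  have hnorm : ∀ x : Cfsg.Sz F m,
      x ∈ Subgroup.normalizer ((P : Subgroup (Cfsg.Sz F m)) : Set (Cfsg.Sz F m)) ↔ x • α = α := by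
    intro x
    constructor
    · intro hx
      rw [Subgroup.mem_normalizer_iff] at hx
      -- the element `y₁ = g u(0,1) g⁻¹`
      set y₁ : Cfsg.Sz F m := g * uQ h2 hS hSdef 0 1 * g⁻¹ with hy₁
      have hy₁P : y₁ ∈ (P : Subgroup (Cfsg.Sz F m)) :=
        (hmemP y₁).2 ⟨_, uQ_mem_Qsub h2 hS hSdef 0 1, rfl⟩
      have h3 : x⁻¹ * y₁ * x ∈ (P : Subgroup (Cfsg.Sz F m)) := by
        rw [hx]
        have : x * (x⁻¹ * y₁ * x) * x⁻¹ = y₁ := by group
        rw [this]; exact hy₁P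
      have h4 := hPfix _ h3
      -- so `u(0,1)` fixes `g⁻¹ x g ∞`
      have h5 : uQ h2 hS hSdef 0 1 • ((g⁻¹ * x * g) • ptInf F m) = (g⁻¹ * x * g) • ptInf F m := by
        have e : uQ h2 hS hSdef 0 1 * (g⁻¹ * x * g) = g⁻¹ * x * (x⁻¹ * y₁ * x) * g := by
          rw [hy₁]; group
        rw [← mul_smul, e, mul_smul, mul_smul, ← hα, h4, hα, ← mul_smul]
      rw [hback]
      exact uQ_zero_fix h2 hS hSdef one_ne_zero _ h5
    · intro hx
      rw [Subgroup.mem_normalizer_iff]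
      intro y
      constructor
      · exact hconj x hx y
      · intro hy
        have hx' : x⁻¹ • α = α := by rw [inv_smul_eq_iff, hx]
        have := hconj x⁻¹ hx' _ hy
        have e : x⁻¹ * (x * y * x⁻¹) * x⁻¹⁻¹ = y := by group
        rwa [e] at this
  have hne : Subgroup.normalizer ((P : Subgroup (Cfsg.Sz F m)) : Set (Cfsg.Sz F m)) ≠ ⊤ := by
    intro htop
    have hmem : g * wQ h2 hS hSdef * g⁻¹ ∈
        Subgroup.normalizer ((P : Subgroup (Cfsg.Sz F m)) : Set (Cfsg.Sz F m)) := by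
      rw [htop]; exact Subgroup.mem_top _
    rw [hnorm, hback] at hmem
    have e : g⁻¹ * (g * wQ h2 hS hSdef * g⁻¹) * g = wQ h2 hS hSdef := by group
    rw [e, wQ_smul_ptInf] at hmem
    exact ptAff_ne_ptInf hSdef 0 0 hmem
  have hover : ∀ M : Subgroup (Cfsg.Sz F m), (P : Subgroup (Cfsg.Sz F m)) ≤ M →
      M ≤ Subgroup.normalizer ((P : Subgroup (Cfsg.Sz F m)) : Set (Cfsg.Sz F m)) ∨ M = ⊤ := by
    intro M hPM
    set M' : Subgroup (Cfsg.Sz F m) := M.comap (MulAut.conj g).toMonoidHom with hM'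
    have hmemM' : ∀ x, x ∈ M' ↔ g * x * g⁻¹ ∈ M := by
      intro x
      rw [hM', Subgroup.mem_comap]
      rfl
    have hQM' : Qsub h2 hS m ≤ M' := by
      intro q hq
      rw [hmemM']
      exact hPM ((hmemP _).2 ⟨q, hq, rfl⟩)
    rcases overgroup_Q hm hF h2 hS hSdef M' hQM' with h | h
    · left
      intro y hy
      rw [hnorm, hback]
      apply h
      rw [hmemM']
      have : g * (g⁻¹ * y * g) * g⁻¹ = y := by group
      rwa [this]
    · right
      rw [eq_top_iff]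
      intro y _
      have : g⁻¹ * y * g ∈ M' := by rw [h]; exact Subgroup.mem_top _
      rw [hmemM'] at this
      have e : g * (g⁻¹ * y * g) * g⁻¹ = y := by group
      rwa [e] at this
  have hPN : (P : Subgroup (Cfsg.Sz F m)) ≤
      Subgroup.normalizer ((P : Subgroup (Cfsg.Sz F m)) : Set (Cfsg.Sz F m)) :=
    Subgroup.le_normalizer
  constructor
  · refine ⟨hne, ?_⟩
    intro M hlt
    rcases hover M (hPN.trans hlt.le) with h | h
    · exact absurd h (not_le_of_gt hlt)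
    · exact h
  · intro M hM hPM
    rcases hover M hPM with h | h
    · by_contra hne'
      have hlt : M < Subgroup.normalizer ((P : Subgroup (Cfsg.Sz F m)) : Set (Cfsg.Sz F m)) :=
        lt_of_le_of_ne h hne'
      exact hne (hM.2 _ hlt)
    · exact absurd h hM.1

end Cfsg.Agent.S2247
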