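import Cfsg.Statements.S2250
import Cfsg.Agent.Lib.Helper67_SpSylow
import Cfsg.Agent.S2234

set_option autoImplicit false
open Cfsg

namespace Cfsg.Agent.S2250

open Matrix Cfsg.Agent.Lib.Helper67_SpSylow

section General

variable {G : Type*} [Group G]

/-- a normal `p`-subgroup lies in every Sylow `p`-subgroup -/
theorem normal_le_sylow {p : ℕ} [Fact p.Prime] (N : Subgroup G) [N.Normal] (hN : IsPGroup p N)
    (T : Sylow p G) : N ≤ T := by
  have h1 : IsPGroup p (N ⊔ (T : Subgroup G) : Subgroup G) :=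
    IsPGroup.to_sup_of_normal_left hN T.isPGroup'
  have h2 := T.is_maximal' h1 le_sup_right
  calc N ≤ N ⊔ (T : Subgroup G) := le_sup_left
    _ = T := h2

/-- transfer of a normal subgroup from one large `p`-subgroup to all Sylow `p`-subgroups -/
theorem exists_map_of_large [Finite G] (p : ℕ) [Fact p.Prime]
    (W : Subgroup G) (hW : IsPGroup p W)
    (hcard : p ^ (Nat.card G).factorization p ≤ Nat.card W)
    (D : Subgroup G) (hDW : D ≤ W) (hN : W ≤ Subgroup.normalizer (D : Set G)) (S : Sylow p G) :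
    ∃ f : G →* G, Function.Injective f ∧ D.map f ≤ S ∧
      (S : Subgroup G) ≤ Subgroup.normalizer ((D.map f : Subgroup G) : Set G) := by
  obtain ⟨Q, hQ⟩ := hW.exists_le_sylow
  have hWQ : W = Q := by
    apply Subgroup.eq_of_le_of_card_ge hQ
    rw [Q.card_eq_multiplicity]
    exact hcard
  obtain ⟨g, rfl⟩ := MulAction.exists_smul_eq G Q S
  rw [Sylow.coe_subgroup_smul, Subgroup.pointwise_smul_def, ← hWQ]
  refine ⟨_, ?_, Subgroup.map_mono hDW, ?_⟩
  · intro x y h
    exact (MulAut.conj g).injective h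
  · exact (Subgroup.map_mono hN).trans (Subgroup.le_normalizer_map _)

end General

section Sign

variable {F : Type*} [Field F]

theorem unit_cast_sq (u : ℤˣ) : ((u : ℤ) : F) * ((u : ℤ) : F) = 1 := by
  rcases Int.units_eq_one_or u with rfl | rfl <;> simp

/-- the sign scalar matrices in `SL₂(F)` -/
def signSL : ℤˣ →* Matrix.SpecialLinearGroup (Fin 2) F where
  toFun u := ⟨((u : ℤ) : F) • (1 : Matrix (Fin 2) (Fin 2) F), by
    rw [Matrix.det_smul, Matrix.det_one, Fintype.card_fin, mul_one, pow_two, unit_cast_sq]⟩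
  map_one' := by
    apply Subtype.ext
    simp
  map_mul' u v := by
    apply Subtype.ext
    show ((((u * v : ℤˣ) : ℤ) : F)) • (1 : Matrix (Fin 2) (Fin 2) F) =
      (((u : ℤ) : F) • (1 : Matrix (Fin 2) (Fin 2) F)) * (((v : ℤ) : F) • 1)
    rw [smul_mul_smul_comm, one_mul]
    push_cast
    rfl

theorem signSL_comm (u : ℤˣ) (g : Matrix.SpecialLinearGroup (Fin 2) F) :
    signSL u * g = g * signSL u := by
  apply Subtype.ext
  show (((u : ℤ) : F) • (1 : Matrix (Fin 2) (Fin 2) F)) * (g : Matrix (Fin 2) (Fin 2) F) =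
    (g : Matrix (Fin 2) (Fin 2) F) * (((u : ℤ) : F) • (1 : Matrix (Fin 2) (Fin 2) F))
  rw [smul_mul_assoc, one_mul, mul_smul_comm, mul_one]

theorem signSL_apply (u : ℤˣ) :
    ((signSL (F := F) u : Matrix.SpecialLinearGroup (Fin 2) F) : Matrix (Fin 2) (Fin 2) F) 0 0 =
      ((u : ℤ) : F) := by
  show (((u : ℤ) : F) • (1 : Matrix (Fin 2) (Fin 2) F)) 0 0 = _
  simp

theorem signSL_injective (h : (-1 : F) ≠ 1) : Function.Injective (signSL (F := F)) := by
  intro u v huv
  have h1 := congrArg (fun g : Matrix.SpecialLinearGroup (Fin 2) F =>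
    (g : Matrix (Fin 2) (Fin 2) F) 0 0) huv
  simp only [signSL_apply] at h1
  rcases Int.units_eq_one_or u with rfl | rfl <;> rcases Int.units_eq_one_or v with rfl | rfl
  · rfl
  · exfalso; apply h; simpa using h1.symm
  · exfalso; apply h; simpa using h1
  · rfl

instance signSL_range_normal : (signSL (F := F)).range.Normal := by
  constructor
  rintro _ ⟨u, rfl⟩ g
  rw [← signSL_comm, mul_inv_cancel_right]
  exact ⟨u, rfl⟩

theorem isPGroup_signSL_range : IsPGroup 2 (signSL (F := F)).range := by
  have h : IsPGroup 2 ℤˣ := by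
    apply IsPGroup.of_card (n := 1)
    simp
  rw [MonoidHom.range_eq_map]
  exact (h.to_subgroup ⊤).map _

variable (n : ℕ)

/-- the diagonal sign subgroup, as a homomorphism -/
def signHom : (Fin n → ℤˣ) →* symplecticGroup (Fin n) F where
  toFun u := baseHom n fun i => signSL (u i)
  map_one' := by
    rw [← map_one (baseHom n)]
    congr 1
    funext i
    exact map_one _
  map_mul' u v := by
    rw [← map_mul (baseHom n)]
    congr 1
    funext i
    exact map_mul _ _ _

theorem signHom_injective (h : (-1 : F) ≠ 1) : Function.Injective (signHom (F := F) n) := by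
  intro u v huv
  have := baseHom_injective n huv
  funext i
  exact signSL_injective h (congrFun this i)

theorem signHom_sq (u : Fin n → ℤˣ) : (signHom (F := F) n u) ^ 2 = 1 := by
  rw [← map_pow]
  have : u ^ 2 = 1 := by
    funext i
    simp [Int.units_sq]
  rw [this, map_one]

theorem card_signHom_range [Finite F] (h : (-1 : F) ≠ 1) :
    Nat.card (signHom (F := F) n).range = 2 ^ n := by
  rw [← Nat.card_congr (MonoidHom.ofInjective (signHom_injective n h)).toEquiv, Nat.card_fun]
  simp

theorem base_conj_sign (g : Fin n → Matrix.SpecialLinearGroup (Fin 2) F) (u : Fin n → ℤˣ) :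
    baseHom n g * signHom n u * (baseHom n g)⁻¹ = signHom n u := by
  rw [mul_inv_eq_iff_eq_mul]
  show baseHom n g * baseHom n _ = baseHom n _ * baseHom n g
  rw [← map_mul, ← map_mul]
  congr 1
  funext i
  exact (signSL_comm _ _).symm

theorem top_conj_sign (σ : Equiv.Perm (Fin n)) (u : Fin n → ℤˣ) :
    topHom n σ * signHom (F := F) n u * (topHom n σ)⁻¹ = signHom n (fun i => u (σ⁻¹ i)) := by
  rw [mul_inv_eq_iff_eq_mul]
  exact top_mul_base n σ _

theorem signHom_range_le_model (T : Sylow 2 (Matrix.SpecialLinearGroup (Fin 2) F))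
    (P : Subgroup (Equiv.Perm (Fin n))) :
    (signHom (F := F) n).range ≤ modelSub n (T : Subgroup (Matrix.SpecialLinearGroup (Fin 2) F)) P := by
  rintro _ ⟨u, rfl⟩
  apply le_sup_left (a := (baseHomT n (T : Subgroup (Matrix.SpecialLinearGroup (Fin 2) F))).range)
  have hu : ∀ i, signSL (F := F) (u i) ∈ (T : Subgroup (Matrix.SpecialLinearGroup (Fin 2) F)) :=
    fun i => normal_le_sylow _ isPGroup_signSL_range T ⟨u i, rfl⟩
  exact ⟨fun i => ⟨signSL (u i), hu i⟩, rfl⟩

theorem model_le_normalizer [Finite F] (T : Subgroup (Matrix.SpecialLinearGroup (Fin 2) F))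
    (P : Subgroup (Equiv.Perm (Fin n))) :
    modelSub n T P ≤ Subgroup.normalizer ((signHom (F := F) n).range : Set _) := by
  unfold modelSub
  apply sup_le
  · rintro _ ⟨t, rfl⟩
    apply Subgroup.mem_normalizer_fintype
    rintro _ ⟨u, rfl⟩
    show baseHom n _ * signHom n u * (baseHom n _)⁻¹ ∈ _
    rw [base_conj_sign]
    exact ⟨u, rfl⟩
  · rintro _ ⟨σ, -, rfl⟩
    apply Subgroup.mem_normalizer_fintype
    rintro _ ⟨u, rfl⟩
    rw [top_conj_sign]
    exact ⟨_, rfl⟩

end Sign

theorem neg_one_ne_one_of_odd {F : Type*} [Field F] [Fintype F] (hF : Odd (Fintype.card F)) :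
    (-1 : F) ≠ 1 := by
  intro h
  have h2 : (2 : F) = 0 := by
    have : (1 : F) + 1 = 0 := by linear_combination -h
    rw [← one_add_one_eq_two]; exact this
  have h3 : ringChar F = 2 := by
    apply CharP.ringChar_of_prime_eq_zero Nat.prime_two
    exact_mod_cast h2
  have := FiniteField.even_card_of_char_two h3
  rcases hF with ⟨r, hr⟩
  omega

/-- The normal 2-rank of the symplectic group over a finite field of odd order: for n ≥ 1 and S a Sylow 2-subgroup of Sp_{2n}(F), the largest rank of an elementary abelian subgroup of S that is normal in S equals n. -/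
theorem result {F : Type*} [Field F] [Fintype F] (hF : Odd (Fintype.card F)) (n : ℕ) (hn : 1 ≤ n) (S : Sylow 2 ↥(Matrix.symplecticGroup (Fin n) F)) :
    ((∃ E : Subgroup ↥(S : Subgroup ↥(Matrix.symplecticGroup (Fin n) F)), E.Normal ∧ Cfsg.IsElementaryAbelian 2 E ∧ 2 ^ (n) ≤ Nat.card ↥E) ∧
      ∀ E : Subgroup ↥(S : Subgroup ↥(Matrix.symplecticGroup (Fin n) F)), E.Normal → Cfsg.IsElementaryAbelian 2 E → Nat.card ↥E ≤ 2 ^ (n)) := by
  constructor
  · let T : Sylow 2 (Matrix.SpecialLinearGroup (Fin 2) F) := default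
    let P : Sylow 2 (Equiv.Perm (Fin n)) := default
    have hne := neg_one_ne_one_of_odd hF
    obtain ⟨f, hf, hle, hnorm⟩ := exists_map_of_large 2
      (modelSub n (T : Subgroup (Matrix.SpecialLinearGroup (Fin 2) F))
        (P : Subgroup (Equiv.Perm (Fin n))))
      (isPGroup_modelSub n _ _ T.isPGroup' P.isPGroup')
      (card_modelSub_sylow hF n T P)
      (signHom (F := F) n).range (signHom_range_le_model n T _) (model_le_normalizer n _ _) S
    refine ⟨((signHom (F := F) n).range.map f).subgroupOf S, ?_, ⟨?_, ?_⟩, ?_⟩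
    · rw [Subgroup.normal_subgroupOf_iff_le_normalizer hle]
      exact hnorm
    · infer_instance
    · rintro ⟨a, haS⟩ ha
      rw [Subgroup.mem_subgroupOf] at ha
      obtain ⟨_, ⟨u, rfl⟩, hfa⟩ := ha
      apply Subtype.ext
      rw [Subgroup.coe_pow, Subgroup.coe_one]
      show a ^ 2 = 1
      have hfa' : f (signHom n u) = a := hfa
      rw [← hfa', ← map_pow, signHom_sq, map_one]
    · rw [Nat.card_congr (Subgroup.subgroupOfEquivOfLe hle).toEquiv,
        Subgroup.card_map_of_injective hf, card_signHom_range n hne]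
  · intro E _ hE
    have h := Cfsg.Agent.S2234.sp_upper hF n (E.map (S : Subgroup _).subtype)
      (haveI := hE.1; inferInstance) (by
        rintro _ ⟨a, ha, rfl⟩
        rw [← map_pow, hE.2 a ha, map_one])
    rwa [Subgroup.card_map_of_injective (Subgroup.subtype_injective _)] at h

end Cfsg.Agent.S2250
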