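import Cfsg.Statements.S2254
import Cfsg.Agent.Lib.Helper29_NilpSym
import Cfsg.Agent.Lib.Helper29_NilpSym2

set_option autoImplicit false
open Cfsg

namespace Cfsg.Agent.S2254

open Cfsg.Agent.Lib.Helper29_NilpSym Cfsg.Agent.Lib.Helper29_NilpSym2 in
/-- Let n ≡ 3 (mod 4). Then every nilpotent subgroup of the symmetric group on n letters has order at most 3 times the order of a Sylow 2-subgroup of the symmetric group on n − 3 letters; the bound is attained by a nilpotent subgroup isomorphic to the direct product of such a Sylow 2-subgroup with a cyclic group of order 3; and any two nilpotent subgroups attaining the bound are conjugate. -/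
theorem result  (n : ℕ) (hn : n % 4 = 3)
    (P : Sylow 2 (Equiv.Perm (Fin (n - 3)))) :
    (∀ N : Subgroup (Equiv.Perm (Fin n)), Group.IsNilpotent N → Nat.card N ≤ 3 * Nat.card P) ∧
    (∃ M : Subgroup (Equiv.Perm (Fin n)), Group.IsNilpotent M ∧ Nat.card M = 3 * Nat.card P ∧
      Nonempty (M ≃* (↥(P : Subgroup (Equiv.Perm (Fin (n - 3)))) × Multiplicative (ZMod 3)))) ∧
    (∀ N₁ N₂ : Subgroup (Equiv.Perm (Fin n)), Group.IsNilpotent N₁ → Group.IsNilpotent N₂ →
      Nat.card N₁ = 3 * Nat.card P → Nat.card N₂ = 3 * Nat.card P →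
      ∃ g : Equiv.Perm (Fin n), N₂ = N₁.map (MulAut.conj g).toMonoidHom) := by
  have hP : Nat.card P = s2 (n - 3) := by
    rw [Sylow.card_eq_multiplicity, Nat.card_perm, Nat.card_fin]
    unfold s2
    rw [Nat.factorization_def _ Nat.prime_two]
  have hn' : Nat.card (Fin n) % 4 = 3 := by rw [Nat.card_fin]; exact hn
  refine ⟨?_, ?_, ?_⟩
  · intro N hN
    have h1 := card_le_F_perm N hN
    rwa [Nat.card_fin, F_eq_of_mod hn, ← hP] at h1
  · exact exists_std_subgroup (n - 3) P (by omega)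
  · intro N₁ N₂ h₁ h₂ c₁ c₂
    rw [hP] at c₁ c₂
    have c₁' : Nat.card N₁ = 3 * s2 (Nat.card (Fin n) - 3) := by rw [Nat.card_fin]; exact c₁
    have c₂' : Nat.card N₂ = 3 * s2 (Nat.card (Fin n) - 3) := by rw [Nat.card_fin]; exact c₂
    obtain ⟨s₁, hs₁⟩ := exists_isStd N₁ h₁ hn' c₁'
    obtain ⟨s₂, hs₂⟩ := exists_isStd N₂ h₂ hn' c₂'
    exact IsStd.conj hs₁ hs₂

end Cfsg.Agent.S2254
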