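import Cfsg.Statements.S2255
import Cfsg.Agent.Lib.Helper29_NilpSym
import Cfsg.Agent.Lib.Helper29_NilpAlt

set_option autoImplicit false
open Cfsg

namespace Cfsg.Agent.S2255

open Cfsg.Agent.Lib.Helper29_NilpSym Cfsg.Agent.Lib.Helper29_NilpAlt

/-- Let n be a natural number not congruent to 3 modulo 4, with n ∉ {5, 6, 9}. Then every nilpotent subgroup of the alternating group on n letters has order at most the order of a Sylow 2-subgroup of the alternating group (so the nilpotent subgroups of largest order are exactly the Sylow 2-subgroups). -/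
theorem result  (n : ℕ) (hn : n % 4 ≠ 3)
    (h5 : n ≠ 5) (h6 : n ≠ 6) (h9 : n ≠ 9)
    (N : Subgroup (alternatingGroup (Fin n))) (hN : Group.IsNilpotent N)
    (P : Sylow 2 (alternatingGroup (Fin n))) :
    Nat.card N ≤ Nat.card P := by
  have hE := card_le_E_of_subgroup_alt N hN
  by_cases h1 : n ≤ 1
  · rw [E_of_le_one h1] at hE
    exact hE.trans Nat.card_pos
  · have h2 : 2 ≤ n := by omega
    have e1 : 2 * E n = F n := two_mul_E h2 (by omega) h5 h6 h9
    have e2 : F n = s2 n := F_eq_s2 hn
    have e3 := two_mul_card_sylow_alt h2 P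
    have : E n = Nat.card P := by omega
    rwa [this] at hE

end Cfsg.Agent.S2255
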