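import Cfsg.Statements.S2256
import Cfsg.Agent.Lib.Helper29_NilpSym
import Cfsg.Agent.Lib.Helper29_NilpSym2
import Cfsg.Agent.Lib.Helper29_NilpAlt
import Cfsg.Agent.Lib.Helper29_NilpAlt2

set_option autoImplicit false
open Cfsg

namespace Cfsg.Agent.S2256

open Cfsg.Agent.Lib.Helper29_NilpSym Cfsg.Agent.Lib.Helper29_NilpSym2
  Cfsg.Agent.Lib.Helper29_NilpAlt Cfsg.Agent.Lib.Helper29_NilpAlt2

/-- Let n ≡ 3 (mod 4) with n ≥ 7. Then every nilpotent subgroup of the alternating group on n letters has order at most 3 times the order of a Sylow 2-subgroup of the alternating group on n − 3 letters; the bound is attained by a nilpotent subgroup isomorphic to the direct product of such a Sylow 2-subgroup with a cyclic group of order 3; and any two nilpotent subgroups of the alternating group attaining the bound are conjugate in it. -/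
theorem result  (n : ℕ) (hn : n % 4 = 3) (h7 : 7 ≤ n)
    (P : Sylow 2 (alternatingGroup (Fin (n - 3)))) :
    (∀ N : Subgroup (alternatingGroup (Fin n)), Group.IsNilpotent N → Nat.card N ≤ 3 * Nat.card P) ∧
    (∃ M : Subgroup (alternatingGroup (Fin n)), Group.IsNilpotent M ∧ Nat.card M = 3 * Nat.card P ∧
      Nonempty (M ≃* (↥(P : Subgroup (alternatingGroup (Fin (n - 3)))) × Multiplicative (ZMod 3)))) ∧
    (∀ N₁ N₂ : Subgroup (alternatingGroup (Fin n)), Group.IsNilpotent N₁ → Group.IsNilpotent N₂ →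
      Nat.card N₁ = 3 * Nat.card P → Nat.card N₂ = 3 * Nat.card P →
      ∃ g : alternatingGroup (Fin n), N₂ = N₁.map (MulAut.conj g).toMonoidHom) := by
  have hP : 2 * Nat.card P = s2 (n - 3) := two_mul_card_sylow_alt (by omega) P
  have hE : E n = 3 * Nat.card P := by
    have e1 : 2 * E n = F n := two_mul_E (by omega) (by omega) (by omega) (by omega) (by omega)
    have e2 : F n = 3 * s2 (n - 3) := F_eq_of_mod hn
    omega
  refine ⟨?_, ?_, ?_⟩
  · intro N hN
    rw [← hE]
    exact card_le_E_of_subgroup_alt N hN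
  · exact exists_std_subgroup_alt (n - 3) P (by omega)
  · intro N₁ N₂ hN₁ hN₂ hc₁ hc₂
    have hinj : Function.Injective (alternatingGroup (Fin n)).subtype :=
      Subgroup.subtype_injective _
    set N₁' : Subgroup (Equiv.Perm (Fin n)) := N₁.map (alternatingGroup (Fin n)).subtype with hN₁'
    set N₂' : Subgroup (Equiv.Perm (Fin n)) := N₂.map (alternatingGroup (Fin n)).subtype with hN₂'
    have c₁ : Nat.card N₁' = Nat.card N₁ := Subgroup.card_map_of_injective hinj
    have c₂ : Nat.card N₂' = Nat.card N₂ := Subgroup.card_map_of_injective hinj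
    have hnil₁ : Group.IsNilpotent N₁' :=
      Group.nilpotent_of_mulEquiv (Subgroup.equivMapOfInjective N₁ _ hinj)
    have hnil₂ : Group.IsNilpotent N₂' :=
      Group.nilpotent_of_mulEquiv (Subgroup.equivMapOfInjective N₂ _ hinj)
    have hle₁ : N₁' ≤ alternatingGroup (Fin n) := Subgroup.map_subtype_le N₁
    have hle₂ : N₂' ≤ alternatingGroup (Fin n) := Subgroup.map_subtype_le N₂
    obtain ⟨g, hgs, hg⟩ := exists_even_conj N₁' N₂' hnil₁ hnil₂ hle₁ hle₂
      (by rw [Nat.card_fin]; exact hn) (by rw [Nat.card_fin]; exact h7)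
      (by rw [Nat.card_fin, c₁, hc₁]; omega) (by rw [Nat.card_fin, c₂, hc₂]; omega)
    have hgA : g ∈ alternatingGroup (Fin n) := Equiv.Perm.mem_alternatingGroup.2 hgs
    refine ⟨⟨g, hgA⟩, ?_⟩
    apply Subgroup.map_injective hinj
    rw [← hN₂', hg, hN₁', Subgroup.map_map, Subgroup.map_map]
    congr 1

end Cfsg.Agent.S2256
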