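import Cfsg.Statements.S2257
import Cfsg.Agent.Lib.Helper99_SL2EvenSol

set_option autoImplicit false
open Cfsg

namespace Cfsg.Agent.S2257

/-- Let G = PSL_2(F) with F a field of order q = 2^p, p prime, and for x ∈ G call the solubilizer of x the set of y ∈ G such that x and y generate a solvable subgroup. Then the solubilizer of an involution has 3q(q − 1) elements; that of a non-identity element of order dividing q − 1 has 2q(q − 1) elements; and that of a non-identity element of order dividing q + 1 has 2(q + 1) elements. -/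
theorem result (p : ℕ) (hp : p.Prime) {F : Type*} [Field F] [Fintype F]
    (hF : Fintype.card F = 2 ^ p) (x : Matrix.ProjectiveSpecialLinearGroup (Fin 2) F) :
    (orderOf x = 2 → Nat.card {y : Matrix.ProjectiveSpecialLinearGroup (Fin 2) F // Group.IsSolvable ↥(Subgroup.closure ({x, y} : Set (Matrix.ProjectiveSpecialLinearGroup (Fin 2) F)))} = 3 * 2 ^ p * (2 ^ p - 1)) ∧
    (x ≠ 1 → orderOf x ∣ 2 ^ p - 1 → Nat.card {y : Matrix.ProjectiveSpecialLinearGroup (Fin 2) F // Group.IsSolvable ↥(Subgroup.closure ({x, y} : Set (Matrix.ProjectiveSpecialLinearGroup (Fin 2) F)))} = 2 * 2 ^ p * (2 ^ p - 1)) ∧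
    (x ≠ 1 → orderOf x ∣ 2 ^ p + 1 → Nat.card {y : Matrix.ProjectiveSpecialLinearGroup (Fin 2) F // Group.IsSolvable ↥(Subgroup.closure ({x, y} : Set (Matrix.ProjectiveSpecialLinearGroup (Fin 2) F)))} = 2 * (2 ^ p + 1)) := by
  classical
  have hp1 : 1 ≤ p := hp.one_lt.le
  have heven : Even (Fintype.card F) := by
    rw [hF]
    exact (Nat.even_pow' (by omega)).2 even_two
  have hF2 : ringChar F = 2 :=
    FiniteField.even_card_iff_char_two.2 (Nat.even_iff.1 heven)
  haveI : CharP F 2 := ringChar.of_eq hF2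
  let eF := Cfsg.Agent.Lib.Helper61_SL2.pslEquivSl (F := F)
  have hord : orderOf (eF x) = orderOf x := eF.orderOf_eq x
  have hne : x ≠ 1 → eF x ≠ 1 := by
    intro h h1
    apply h
    rw [← eF.map_one] at h1
    exact eF.injective h1
  rw [Cfsg.Agent.Lib.Helper99_SL2EvenSol.card_sol_congr eF x, ← hF]
  refine ⟨fun h => ?_, fun h1 h => ?_, fun h1 h => ?_⟩
  · exact Cfsg.Agent.Lib.Helper99_SL2EvenSol.card_sol_of_involution (eF x) (hord.trans h)
  · exact Cfsg.Agent.Lib.Helper99_SL2EvenSol.card_sol_of_split (eF x) (hne h1) (hord ▸ h)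
  · exact Cfsg.Agent.Lib.Helper99_SL2EvenSol.card_sol_of_nonsplit (eF x) (hne h1) (hord ▸ h)

end Cfsg.Agent.S2257
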