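import Mathlib
import Cfsg.Statements.S2258
import Cfsg.Agent.Lib.Helper5_Sol3M

set_option autoImplicit false
open Cfsg

namespace Cfsg.Agent.S2258

open Cfsg.Agent.Lib.Helper5_Sol3M in
/-- Let G = PSL_2(F) with F a field of order q = 3^p, p an odd prime, and for x ∈ G call the solubilizer of x the set of y ∈ G such that x and y generate a solvable subgroup. Then the solubilizer of an involution has q(q + 1) elements; that of an element of order 3 has q(q + 5)/2 elements; that of an element of order neither 1 nor 2 dividing q − 1 has q(q − 1) elements; and that of an element of order neither 1 nor 2 dividing q + 1 has q + 1 elements. -/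
theorem result (p : ℕ) (hp : p.Prime) (hodd : Odd p) {F : Type*} [Field F] [Fintype F]
    (hF : Fintype.card F = 3 ^ p) (x : Matrix.ProjectiveSpecialLinearGroup (Fin 2) F) :
    (orderOf x = 2 → Nat.card {y : Matrix.ProjectiveSpecialLinearGroup (Fin 2) F // Group.IsSolvable ↥(Subgroup.closure ({x, y} : Set (Matrix.ProjectiveSpecialLinearGroup (Fin 2) F)))} = 3 ^ p * (3 ^ p + 1)) ∧
    (orderOf x = 3 → 2 * Nat.card {y : Matrix.ProjectiveSpecialLinearGroup (Fin 2) F // Group.IsSolvable ↥(Subgroup.closure ({x, y} : Set (Matrix.ProjectiveSpecialLinearGroup (Fin 2) F)))} = 3 ^ p * (3 ^ p + 5)) ∧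
    (x ≠ 1 → orderOf x ≠ 2 → orderOf x ∣ 3 ^ p - 1 → Nat.card {y : Matrix.ProjectiveSpecialLinearGroup (Fin 2) F // Group.IsSolvable ↥(Subgroup.closure ({x, y} : Set (Matrix.ProjectiveSpecialLinearGroup (Fin 2) F)))} = 3 ^ p * (3 ^ p - 1)) ∧
    (x ≠ 1 → orderOf x ≠ 2 → orderOf x ∣ 3 ^ p + 1 → Nat.card {y : Matrix.ProjectiveSpecialLinearGroup (Fin 2) F // Group.IsSolvable ↥(Subgroup.closure ({x, y} : Set (Matrix.ProjectiveSpecialLinearGroup (Fin 2) F)))} = 3 ^ p + 1) := by
  -- characteristic three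
  haveI : CharP F 3 := by
    obtain ⟨n, hpr, hc⟩ := FiniteField.card F (ringChar F)
    rw [hF] at hc
    have hdvd : ringChar F ∣ 3 ^ p := by
      rw [hc]; exact dvd_pow_self _ n.ne_zero
    have : ringChar F = 3 :=
      (Nat.prime_dvd_prime_iff_eq hpr Nat.prime_three).1 (hpr.dvd_of_dvd_pow hdvd)
    exact ringChar.of_eq this
  obtain ⟨k, hk⟩ := hodd
  -- `q ≡ 3 mod 4`
  have h4 : Fintype.card F % 4 = 3 := by
    rw [hF, hk, pow_succ, pow_mul, Nat.mul_mod, Nat.pow_mod]
    norm_num
  have hq : Fintype.card F % 2 = 1 := by omega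
  have hq3 : Fintype.card F % 3 = 0 := by
    rw [hF, hk, pow_succ]
    exact Nat.mul_mod_left _ _
  have hns : ∀ x : F, x * x ≠ -1 := by
    intro x hx
    have hsq : IsSquare (-1 : F) := ⟨x, hx.symm⟩
    rw [FiniteField.isSquare_neg_one_iff] at hsq
    exact hsq h4
  rw [← hF]
  exact ⟨card_case_two hns hq x, card_case_three hns hq x, card_case_split hns hq hq3 x,
    card_case_nonsplit hns hq hq3 x⟩

end Cfsg.Agent.S2258
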