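import Cfsg.Statements.S2260
-- import your own Cfsg.Agent.* helpers here

set_option autoImplicit false
open Cfsg

namespace Cfsg.Agent.S2260

/-- a nilpotent `d × d` matrix over a field has `d`-th power zero -/
theorem nilp_pow_card {F : Type*} [Field F] (d : ℕ) (N : Matrix (Fin d) (Fin d) F)
    (hN : IsNilpotent N) : N ^ d = 0 := by
  have h1 : N.charpoly = Polynomial.X ^ d := by
    have := Matrix.isNilpotent_charpoly_sub_pow_of_isNilpotent hN
    have h0 := this.eq_zero
    rw [Fintype.card_fin] at h0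
    exact sub_eq_zero.mp h0
  have h2 := Matrix.aeval_self_charpoly N
  rw [h1] at h2
  simpa using h2

/-- in characteristic `p`, `u ^ p ^ k = 1 + (u - 1) ^ p ^ k` for matrices -/
theorem pow_char_pow {F : Type*} [Field F] (p : ℕ) [Fact p.Prime] [CharP F p] (d : ℕ)
    [Nonempty (Fin d)]
    (M : Matrix (Fin d) (Fin d) F) (k : ℕ) : M ^ p ^ k = (M - 1) ^ p ^ k + 1 := by
  have hc : Commute (M - 1) (1 : Matrix (Fin d) (Fin d) F) := Commute.one_right _
  have := add_pow_char_pow_of_commute (R := Matrix (Fin d) (Fin d) F) (p := p) (n := k)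
    (x := M - 1) (y := 1) hc
  simpa using this

theorem result {F : Type*} [Field F] [Finite F] (p : ℕ) [Fact p.Prime] [CharP F p] (d : ℕ)
    (u : GL (Fin d) F) (hu : IsNilpotent ((u : Matrix (Fin d) (Fin d) F) - 1)) :
    orderOf u ≤ p ^ Nat.clog p d ∧
    (((u : Matrix (Fin d) (Fin d) F) - 1) ^ (d - 1) ≠ 0 → orderOf u = p ^ Nat.clog p d) := by
  have hp : p.Prime := Fact.out
  rcases Nat.eq_zero_or_pos d with hd | hd
  · subst hd
    have hu1 : u = 1 := Subsingleton.elim _ _
    subst hu1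
    refine ⟨by simp, fun h => ?_⟩
    exact absurd (Subsingleton.elim _ _) h
  have : Nonempty (Fin d) := ⟨⟨0, hd⟩⟩
  set N : Matrix (Fin d) (Fin d) F := (u : Matrix (Fin d) (Fin d) F) - 1 with hNdef
  have hNd : N ^ d = 0 := nilp_pow_card d N hu
  -- key: u ^ p ^ k = 1 ↔ N ^ p ^ k = 0
  have key : ∀ k : ℕ, u ^ p ^ k = 1 ↔ N ^ p ^ k = 0 := by
    intro k
    have h := pow_char_pow p d (u : Matrix (Fin d) (Fin d) F) k
    constructor
    · intro h1
      have h2 : ((u ^ p ^ k : GL (Fin d) F) : Matrix (Fin d) (Fin d) F) = 1 := by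
        rw [h1]; rfl
      rw [Units.val_pow_eq_pow_val, h] at h2
      simpa using h2
    · intro h0
      apply Units.ext
      rw [Units.val_pow_eq_pow_val, h, ← hNdef, h0]
      simp
  have hc : d ≤ p ^ Nat.clog p d := Nat.le_pow_clog hp.one_lt d
  have h1 : u ^ p ^ Nat.clog p d = 1 := by
    rw [key]
    obtain ⟨e, he⟩ := Nat.exists_eq_add_of_le hc
    rw [he, pow_add, hNd, zero_mul]
  have hdvd : orderOf u ∣ p ^ Nat.clog p d := orderOf_dvd_of_pow_eq_one h1
  refine ⟨Nat.le_of_dvd (pow_pos hp.pos _) hdvd, fun hne => ?_⟩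
  obtain ⟨j, hj, hoj⟩ := (Nat.dvd_prime_pow hp).mp hdvd
  have h2 : u ^ p ^ j = 1 := by rw [← hoj]; exact pow_orderOf_eq_one u
  rw [key] at h2
  have h3 : d ≤ p ^ j := by
    by_contra hlt
    push Not at hlt
    apply hne
    have : p ^ j ≤ d - 1 := by omega
    obtain ⟨e, he⟩ := Nat.exists_eq_add_of_le this
    rw [he, pow_add, h2, zero_mul]
  have h4 : Nat.clog p d ≤ j := Nat.clog_le_of_le_pow h3
  have : j = Nat.clog p d := le_antisymm hj h4
  rw [hoj, this]

end Cfsg.Agent.S2260
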