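import Mathlib
import Cfsg.Statements.S2264
import Cfsg.Agent.Lib.Helper40_OrdPoly

set_option autoImplicit false
open Cfsg

namespace Cfsg.Agent.S2264

open Polynomial Matrix Cfsg.Agent.Lib.Helper40_Palindromic Cfsg.Agent.Lib.Helper40_OrdPoly

theorem neg_one_mem_center {F : Type*} [Field F] {n : ℕ} (g : symplecticGroup (Fin n) F)
    (hg : (g : Matrix (Fin n ⊕ Fin n) (Fin n ⊕ Fin n) F) = -1) :
    g ∈ Subgroup.center (symplecticGroup (Fin n) F) := by
  rw [Subgroup.mem_center_iff]
  intro h
  apply Subtype.ext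
  rw [Submonoid.coe_mul, Submonoid.coe_mul, hg]
  simp

/-- Let F be a finite field with q elements and m ≥ 2. Then every element g of PSp_2m(F) satisfies (q − 1)·|g| ≤ q^(m+1), i.e. has order at most q^(m+1)/(q − 1). -/
theorem result {F : Type*} [Field F] [Fintype F] (m : ℕ) (hm : 2 ≤ m) (g : Cfsg.PSp m F) :
    (Fintype.card F - 1) * orderOf g ≤ Fintype.card F ^ (m + 1) := by
  classical
  obtain ⟨A, rfl⟩ := QuotientGroup.mk_surjective g
  set M : Matrix (Fin m ⊕ Fin m) (Fin m ⊕ Fin m) F := A.1 with hM
  have hrev := charpoly_reverse_of_mem_symplectic M A.2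
  have hmon := M.charpoly_monic
  have hdeg : M.charpoly.natDegree = 2 * m := by
    rw [Matrix.charpoly_natDegree_eq_dim, Fintype.card_sum, Fintype.card_fin]
    ring
  have hrec := recip_of_reverse_eq _ hmon hrev
  have h0 : M.charpoly.coeff 0 ≠ 0 := by
    rw [coeff_zero_of_reverse_eq _ hmon hrev]
    exact one_ne_zero
  obtain ⟨N, hNpos, hNb, hN⟩ := poly_main m hm M.charpoly hmon h0 hrec (by omega)
    (fun _ => by omega) (fun h => by omega)
  have hgN : (QuotientGroup.mk A : Cfsg.PSp m F) ^ N = 1 := by
    rw [← QuotientGroup.mk_pow, QuotientGroup.eq_one_iff]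
    rcases hN with h | h
    · have h1 : M ^ N - 1 = 0 := by
        obtain ⟨c, hc⟩ := h
        have := congrArg (aeval M) hc
        simpa [Matrix.aeval_self_charpoly] using this
      have h2 : A ^ N = 1 := by
        apply Subtype.ext
        rw [SubmonoidClass.coe_pow]
        exact sub_eq_zero.1 h1
      rw [h2]
      exact Subgroup.one_mem _
    · have h1 : M ^ N + 1 = 0 := by
        obtain ⟨c, hc⟩ := h
        have := congrArg (aeval M) hc
        simpa [Matrix.aeval_self_charpoly] using this
      apply neg_one_mem_center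
      rw [SubmonoidClass.coe_pow]
      exact eq_neg_of_add_eq_zero_left h1
  have hdvd := orderOf_dvd_of_pow_eq_one hgN
  have hle := Nat.le_of_dvd hNpos hdvd
  exact (Nat.mul_le_mul_left _ hle).trans hNb

end Cfsg.Agent.S2264
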