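import Mathlib
import Cfsg.Statements.S2265
import Cfsg.Agent.Lib.Helper40_OrdOrth

set_option autoImplicit false
open Cfsg

namespace Cfsg.Agent.S2265

open Cfsg.Agent.Lib.Helper40_OrdOrth Cfsg.Agent.Lib.Helper44_StdForms

/-- an anisotropic binary form over a finite field has non-zero discriminant -/
theorem disc_ne_zero_of_aniso {F : Type*} [Field F] [Fintype F] (a b : F)
    (h : ∀ z₁ z₂ : F, z₁ ^ 2 + a * z₁ * z₂ + b * z₂ ^ 2 = 0 → z₁ = 0 ∧ z₂ = 0) :
    4 * b - a ^ 2 ≠ 0 := by
  intro hd
  by_cases h2 : (2 : F) = 0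
  · have hchar : ringChar F = 2 := by
      have hp : (ringChar F).Prime := CharP.char_is_prime F (ringChar F)
      have hdvd : ringChar F ∣ 2 := ringChar.dvd (by exact_mod_cast h2)
      exact (Nat.prime_dvd_prime_iff_eq hp Nat.prime_two).1 hdvd
    have h4 : (4 : F) = 0 := by
      have : (4 : F) = 2 * 2 := by norm_num
      rw [this, h2, mul_zero]
    have ha : a = 0 := by
      rw [h4, zero_mul, zero_sub, neg_eq_zero] at hd
      exact pow_eq_zero_iff (two_ne_zero) |>.1 hd
    obtain ⟨c, hc⟩ := FiniteField.isSquare_of_char_two hchar b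
    have := (h c 1 (by
      rw [ha, hc]
      linear_combination c * c * h2)).2
    exact one_ne_zero this
  · have := (h (-a) 2 (by linear_combination hd)).2
    exact h2 this

theorem two_ne_zero_of_odd_card {F : Type*} [Field F] [Fintype F] (ho : Odd (Fintype.card F)) :
    ringChar F ≠ 2 := by
  intro h
  have := FiniteField.even_card_iff_char_two.1 h
  rcases ho with ⟨k, hk⟩
  omega

/-- Let F be a finite field with q elements. Every element g of PΩ_(2m+1)(F) (m ≥ 3, q odd), of PΩ⁺_2m(F) (m ≥ 4), or of PΩ⁻_2m(F) (m ≥ 4, the form having an anisotropic binary part) satisfies (q − 1)·|g| ≤ q^(m+1), i.e. has order at most q^(m+1)/(q − 1). -/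
theorem result {F : Type*} [Field F] [Fintype F] (m : ℕ) :
    (3 ≤ m → Odd (Fintype.card F) → ∀ g : Cfsg.POmega F (Cfsg.quadFormOdd m F),
      (Fintype.card F - 1) * orderOf g ≤ Fintype.card F ^ (m + 1)) ∧
    (4 ≤ m → ∀ g : Cfsg.POmega F (Cfsg.quadFormPlus m F),
      (Fintype.card F - 1) * orderOf g ≤ Fintype.card F ^ (m + 1)) ∧
    (4 ≤ m → ∀ a b : F, (∀ z₁ z₂ : F, z₁ ^ 2 + a * z₁ * z₂ + b * z₂ ^ 2 = 0 → z₁ = 0 ∧ z₂ = 0) →
      ∀ g : Cfsg.POmega F (Cfsg.quadFormMinus (m - 1) F a b),
      (Fintype.card F - 1) * orderOf g ≤ Fintype.card F ^ (m + 1)) := by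
  refine ⟨?_, ?_, ?_⟩
  · intro hm ho g
    have hchar := two_ne_zero_of_odd_card ho
    have h2F : (2 : F) ≠ 0 := Ring.two_ne_zero hchar
    have hcard : Fintype.card (Unit ⊕ (Fin m ⊕ Fin m)) = 2 * m + 1 := by
      simp only [Fintype.card_sum, Fintype.card_fin, Fintype.card_unit]
      omega
    apply pomega_order_bound (qfOdd m F) _ (coe_qfOdd m F) ?_ m (by omega) (by omega)
      (fun h => absurd h hchar) (fun _ => hm) g
    have := det_gram_quadFormOdd (m := m) (F := F)
    unfold gram
    rw [this]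
    exact mul_ne_zero h2F (pow_ne_zero _ (by norm_num))
  · intro hm g
    have hcard : Fintype.card (Fin m ⊕ Fin m) = 2 * m := by
      simp only [Fintype.card_sum, Fintype.card_fin]
      omega
    apply pomega_order_bound (qfPlus m F) _ (coe_qfPlus m F) ?_ m (by omega) (by omega)
      (fun _ => by omega) (fun h => by omega) g
    have := det_gram_quadFormPlus (m := m) (F := F)
    unfold gram
    rw [this]
    exact pow_ne_zero _ (by norm_num)
  · intro hm a b hab g
    have hcard : Fintype.card ((Fin (m - 1) ⊕ Fin (m - 1)) ⊕ Fin 2) = 2 * m := by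
      simp only [Fintype.card_sum, Fintype.card_fin]
      omega
    apply pomega_order_bound (qfMinus (m - 1) F a b) _ (coe_qfMinus (m - 1) F a b) ?_ m
      (by omega) (by omega) (fun _ => by omega) (fun h => by omega) g
    have := det_gram_quadFormMinus (m := m - 1) (F := F) a b
    unfold gram
    rw [this]
    exact mul_ne_zero (pow_ne_zero _ (by norm_num)) (disc_ne_zero_of_aniso a b hab)

end Cfsg.Agent.S2265
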