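import Cfsg.Statements.S2268
-- import your own Cfsg.Agent.* helpers here

set_option autoImplicit false
open Cfsg

namespace Cfsg.Agent.S2268

/-- Let G be a finite group with an abelian Sylow p-subgroup P and let Q ≤ P. Then N_G(Q) = (N_G(Q) ∩ N_G(P))·C_G(Q), so that N_G(Q)/C_G(Q) is a homomorphic image of the subgroup (N_G(Q) ∩ N_G(P))/C_G(P) of N_G(P)/C_G(P); in particular the order of N_G(Q)/C_G(Q) divides the order of N_G(P)/C_G(P). -/
theorem result {G : Type*} [Group G] [Finite G] {p : ℕ} [Fact p.Prime]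
    (P : Sylow p G) (hP : IsMulCommutative (P : Subgroup G)) (Q : Subgroup G) (hQ : Q ≤ (P : Subgroup G)) :
    Subgroup.normalizer (Q : Set G) =
      (Subgroup.normalizer (Q : Set G) ⊓ Subgroup.normalizer ((P : Subgroup G) : Set G)) ⊔ Subgroup.centralizer (Q : Set G) ∧
    ((Subgroup.centralizer (Q : Set G)).subgroupOf (Subgroup.normalizer (Q : Set G))).index ∣ ((Subgroup.centralizer ((P : Subgroup G) : Set G)).subgroupOf (Subgroup.normalizer ((P : Subgroup G) : Set G))).index := by
  classical
  set NQ := Subgroup.normalizer (Q : Set G) with hNQ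
  set CQ := Subgroup.centralizer (Q : Set G) with hCQ
  set NP := Subgroup.normalizer ((P : Subgroup G) : Set G) with hNP
  set CP := Subgroup.centralizer ((P : Subgroup G) : Set G) with hCP
  -- basic inclusions
  have hPabel : ∀ a ∈ (P : Subgroup G), ∀ b ∈ (P : Subgroup G), a * b = b * a := by
    intro a ha b hb
    have := hP.is_comm.comm ⟨a, ha⟩ ⟨b, hb⟩
    exact congrArg Subtype.val this
  have hP_le_CQ : (P : Subgroup G) ≤ CQ := by
    intro z hz
    rw [hCQ, Subgroup.mem_centralizer_iff]
    intro q hq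
    exact hPabel q (hQ hq) z hz
  have hCQ_le_NQ : CQ ≤ NQ := by
    intro c hc
    rw [hNQ, Subgroup.mem_normalizer_iff]
    intro q
    rw [hCQ, Subgroup.mem_centralizer_iff] at hc
    constructor
    · intro hq
      have := hc q hq
      rw [← this, mul_inv_cancel_right]; exact hq
    · intro hq
      have h1 := hc _ hq
      -- (c q c⁻¹) c = c (c q c⁻¹) → q = c q c⁻¹
      have h2 : c * q * c⁻¹ = q := by
        have : c * q = c * (c * q * c⁻¹) := by
          rw [← h1]; group
        have := mul_left_cancel this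
        exact this.symm
      rw [← h2]; exact hq
  have hCP_le_CQ : CP ≤ CQ := Subgroup.centralizer_le hQ
  have hCP_le_NP : CP ≤ NP := by
    intro c hc
    rw [hNP, Subgroup.mem_normalizer_iff]
    intro z
    rw [hCP, Subgroup.mem_centralizer_iff] at hc
    constructor
    · intro hz
      have := hc z hz
      rw [← this, mul_inv_cancel_right]; exact hz
    · intro hz
      have h1 := hc _ hz
      have h2 : c * z * c⁻¹ = z := by
        have : c * z = c * (c * z * c⁻¹) := by
          rw [← h1]; group
        have := mul_left_cancel this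
        exact this.symm
      rw [← h2]; exact hz
  -- NQ normalizes CQ
  have hNQ_norm_CQ : NQ ≤ Subgroup.normalizer (CQ : Set G) := by
    intro g hg
    rw [Subgroup.mem_normalizer_iff]
    have key : ∀ g ∈ NQ, ∀ c ∈ CQ, g * c * g⁻¹ ∈ CQ := by
      intro g hg c hc
      rw [hCQ, Subgroup.mem_centralizer_iff] at hc ⊢
      intro q hq
      have hq' : g⁻¹ * q * g ∈ Q := by
        have := (Subgroup.mem_normalizer_iff''.mp hg q).mp hq
        exact this
      have := hc _ hq'
      calc q * (g * c * g⁻¹) = g * ((g⁻¹ * q * g) * c) * g⁻¹ := by group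
        _ = g * (c * (g⁻¹ * q * g)) * g⁻¹ := by rw [this]
        _ = g * c * g⁻¹ * q := by group
    intro c
    constructor
    · exact key g hg c
    · intro h
      have := key g⁻¹ (inv_mem hg) _ h
      simpa [mul_assoc] using this
  -- Frattini
  have part1 : NQ = (NQ ⊓ NP) ⊔ CQ := by
    apply le_antisymm
    · intro g hg
      have h1 : (P : Subgroup G) ≤ CQ := hP_le_CQ
      have h2 : ((g • P : Sylow p G) : Subgroup G) ≤ CQ := by
        intro y hy
        rw [Sylow.coe_subgroup_smul] at hy
        obtain ⟨z, hz, rfl⟩ := hy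
        have hz' : z ∈ CQ := h1 hz
        have := (Subgroup.mem_normalizer_iff.mp (hNQ_norm_CQ hg) z).mp hz'
        simpa using this
      obtain ⟨h, hh⟩ := MulAction.exists_smul_eq CQ ((g • P).subtype h2) (P.subtype h1)
      simp_rw [Sylow.smul_subtype, Subgroup.smul_def, smul_smul] at hh
      have h3 : (h : G) * g ∈ NP := Sylow.smul_eq_iff_mem_normalizer.mp (Sylow.subtype_injective hh)
      have h4 : (h : G) * g ∈ NQ := mul_mem (hCQ_le_NQ h.2) hg
      have h5 : g = (h : G)⁻¹ * ((h : G) * g) := by group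
      rw [h5, sup_comm]
      exact Subgroup.mul_mem_sup (inv_mem h.2) ⟨h4, h3⟩
    · exact sup_le inf_le_left hCQ_le_NQ
  refine ⟨part1, ?_⟩
  -- index computation
  set A := NQ ⊓ NP with hA
  have hA_norm : A ≤ Subgroup.normalizer (CQ : Set G) := le_trans inf_le_left hNQ_norm_CQ
  have hcard : CQ.relIndex A = CQ.relIndex (A ⊔ CQ) := by
    have i1 := Subgroup.normal_subgroupOf_of_le_normalizer hA_norm
    have i2 := Subgroup.normal_subgroupOf_sup_of_le_normalizer hA_norm
    exact Nat.card_congr (QuotientGroup.quotientInfEquivProdNormalizerQuotient A CQ hA_norm).toEquiv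
  have hCP_le_A : CP ≤ A := le_inf (le_trans hCP_le_CQ hCQ_le_NQ) hCP_le_NP
  change CQ.relIndex NQ ∣ CP.relIndex NP
  rw [part1, ← hcard, ← Subgroup.inf_relIndex_right]
  have d1 : (CQ ⊓ A).relIndex A ∣ CP.relIndex A :=
    Subgroup.relIndex_dvd_of_le_left A (le_inf hCP_le_CQ hCP_le_A)
  have d2 : CP.relIndex A ∣ CP.relIndex NP := by
    rw [← Subgroup.relIndex_mul_relIndex CP A NP hCP_le_A inf_le_right]
    exact dvd_mul_right _ _
  exact dvd_trans d1 d2

end Cfsg.Agent.S2268
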