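import Cfsg.Statements.S2271
import Cfsg.Agent.Lib.Helper37_FixAvg

set_option autoImplicit false
open Cfsg

namespace Cfsg.Agent.S2271

/-- Let n ≥ 5 and let a, b be non-identity permutations in the symmetric group S_n. Then the number of fixed points is not constant on the set of products a′b′ with a′ conjugate to a and b′ conjugate to b under the alternating group: there are even permutations g₁, h₁, g₂, h₂ such that (g₁ a g₁⁻¹)(h₁ b h₁⁻¹) and (g₂ a g₂⁻¹)(h₂ b h₂⁻¹) have different numbers of fixed points. -/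
theorem result (n : ℕ) (hn : 5 ≤ n) (a b : Equiv.Perm (Fin n)) (ha : a ≠ 1) (hb : b ≠ 1) :
    ∃ g₁ h₁ g₂ h₂ : Equiv.Perm (Fin n), g₁ ∈ alternatingGroup (Fin n) ∧ h₁ ∈ alternatingGroup (Fin n) ∧ g₂ ∈ alternatingGroup (Fin n) ∧ h₂ ∈ alternatingGroup (Fin n) ∧
      Nat.card (Function.fixedPoints ⇑(g₁ * a * g₁⁻¹ * (h₁ * b * h₁⁻¹))) ≠
        Nat.card (Function.fixedPoints ⇑(g₂ * a * g₂⁻¹ * (h₂ * b * h₂⁻¹))) := by
  classical
  have key : ∀ x : Equiv.Perm (Fin n),
      Nat.card (Function.fixedPoints ⇑x) = Cfsg.Agent.Lib.Helper37_FixAvg.fx x := by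
    intro x
    rw [Nat.card_eq_fintype_card, Fintype.card_subtype]
    rfl
  obtain ⟨h₁, h₂, hh₁, hh₂, hne⟩ := Cfsg.Agent.Lib.Helper37_FixAvg.not_const hn a b ha hb
  refine ⟨1, h₁, 1, h₂, Subgroup.one_mem _, hh₁, Subgroup.one_mem _, hh₂, ?_⟩
  rw [key, key]
  simpa using hne

end Cfsg.Agent.S2271
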