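import Cfsg.Statements.S2277
import Cfsg.Agent.Lib.Helper68_NormFix
import Cfsg.Agent.Lib.Helper24_CoprimeAction

set_option autoImplicit false
open Cfsg

namespace Cfsg.Agent.S2277

open Cfsg.Agent.Lib.Helper68_NormFix

universe u

/-- The hypotheses of the statement, for a `p`-subgroup `P`. -/
structure Hyp (p : ℕ) {G : Type u} [Group G] (P N : Subgroup G) (C D : Set G) : Prop where
  pgroup : IsPGroup p P
  normal : N.Normal
  coprime : (Nat.card N).Coprime p
  sup : N ⊔ P = ⊤
  closC : Subgroup.closure C = P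
  closD : Subgroup.closure D = P
  gen : ∀ x ∈ N, ∀ c ∈ C, ∀ d ∈ D, IsPGroup p ↥(Subgroup.closure ({x * c * x⁻¹, d} : Set G))

section Basic

variable {p : ℕ} [Fact p.Prime] {G : Type u} [Group G] {P N : Subgroup G} {C D : Set G}

theorem Hyp.coprime_card [Finite G] (h : Hyp p P N C D) :
    (Nat.card N).Coprime (Nat.card P) := by
  obtain ⟨n, hn⟩ := IsPGroup.iff_card.mp h.pgroup
  rw [hn]
  exact Nat.Coprime.pow_right n h.coprime

theorem Hyp.inf_eq_bot [Finite G] (h : Hyp p P N C D) : N ⊓ P = ⊥ :=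
  (Subgroup.disjoint_of_coprime_natCard h.coprime_card).eq_bot

theorem Hyp.eq_one_of_mem [Finite G] (h : Hyp p P N C D) {g : G} (hN : g ∈ N) (hP : g ∈ P) :
    g = 1 := by
  have : g ∈ N ⊓ P := ⟨hN, hP⟩
  rw [h.inf_eq_bot] at this
  exact Subgroup.mem_bot.mp this

theorem Hyp.exists_mul (h : Hyp p P N C D) (g : G) : ∃ n ∈ N, ∃ u ∈ P, g = n * u := by
  haveI := h.normal
  have hg : g ∈ N ⊔ P := by rw [h.sup]; trivial
  rw [← SetLike.mem_coe, Subgroup.normal_mul] at hg
  obtain ⟨n, hn, u, hu, rfl⟩ := Set.mem_mul.mp hg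
  exact ⟨n, hn, u, hu, rfl⟩

theorem Hyp.card_mul [Finite G] (h : Hyp p P N C D) : Nat.card N * Nat.card P = Nat.card G := by
  haveI := h.normal
  apply Subgroup.IsComplement'.card_mul_card
  apply Subgroup.isComplement'_of_disjoint_and_mul_eq_univ
  · exact Subgroup.disjoint_of_coprime_natCard h.coprime_card
  · rw [← Subgroup.normal_mul, h.sup]; rfl

theorem Hyp.mem_of_mem_C (h : Hyp p P N C D) {c : G} (hc : c ∈ C) : c ∈ P := by
  rw [← h.closC]; exact Subgroup.subset_closure hc

theorem Hyp.mem_of_mem_D (h : Hyp p P N C D) {d : G} (hd : d ∈ D) : d ∈ P := by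
  rw [← h.closD]; exact Subgroup.subset_closure hd

theorem Hyp.conj_mem (h : Hyp p P N C D) {x : G} (hx : x ∈ N) (g : G) : g * x * g⁻¹ ∈ N :=
  h.normal.conj_mem x hx g

/-- The factorization `N = C_N(d) C_N(c)`. -/
theorem Hyp.factor [Finite G] (h : Hyp p P N C D) {x c d : G} (hx : x ∈ N) (hc : c ∈ C)
    (hd : d ∈ D) : ∃ a ∈ N, ∃ b ∈ N, x = a * b ∧ d * a = a * d ∧ c * b = b * c := by
  have hidx : ¬ p ∣ P.index := by
    have h1 := h.card_mul
    have h2 := Subgroup.card_mul_index P
    have h3 : P.index = Nat.card N := by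
      have hpos : 0 < Nat.card P := Nat.card_pos
      have : Nat.card P * P.index = Nat.card P * Nat.card N := by rw [h2, ← h1, mul_comm]
      exact Nat.eq_of_mul_eq_mul_left hpos this
    rw [h3]
    intro hdvd
    have := Nat.Coprime.eq_one_of_dvd h.coprime.symm hdvd
    exact (Fact.out : p.Prime).one_lt.ne' this
  let P' : Sylow p G := h.pgroup.toSylow hidx
  have hP' : (P' : Subgroup G) = P := rfl
  obtain ⟨Q, hTQ⟩ := (h.gen x hx c hc d hd).exists_le_sylow
  obtain ⟨g, hg⟩ := MulAction.exists_smul_eq G P' Q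
  obtain ⟨n, hn, u, hu, rfl⟩ := h.exists_mul g
  have hmemQ : ∀ y : G, y ∈ (Q : Subgroup G) → n⁻¹ * y * n ∈ P := by
    intro y hy
    rw [← hg, Sylow.coe_subgroup_smul, Subgroup.mem_pointwise_smul_iff_inv_smul_mem, hP'] at hy
    have h1 : u⁻¹ * (n⁻¹ * y * n) * u ∈ P := by
      simpa [MulAut.smul_def] using hy
    have h2 : n⁻¹ * y * n = u * (u⁻¹ * (n⁻¹ * y * n) * u) * u⁻¹ := by group
    rw [h2]
    exact P.mul_mem (P.mul_mem hu h1) (P.inv_mem hu)
  have hdQ : d ∈ (Q : Subgroup G) :=
    hTQ (Subgroup.subset_closure (by simp))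
  have hxcQ : x * c * x⁻¹ ∈ (Q : Subgroup G) :=
    hTQ (Subgroup.subset_closure (by simp))
  have hdP := h.mem_of_mem_D hd
  have hcP := h.mem_of_mem_C hc
  -- `n` commutes with `d`
  have h1 : n⁻¹ * d * n * d⁻¹ = 1 := by
    apply h.eq_one_of_mem
    · have : n⁻¹ * d * n * d⁻¹ = n⁻¹ * (d * n * d⁻¹) := by group
      rw [this]
      exact N.mul_mem (N.inv_mem hn) (h.conj_mem hn d)
    · exact P.mul_mem (hmemQ d hdQ) (P.inv_mem hdP)
  -- `b = n⁻¹ x` commutes with `c`
  have hb : n⁻¹ * x ∈ N := N.mul_mem (N.inv_mem hn) hx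
  have h2 : (n⁻¹ * x) * c * (n⁻¹ * x)⁻¹ * c⁻¹ = 1 := by
    apply h.eq_one_of_mem
    · have : (n⁻¹ * x) * c * (n⁻¹ * x)⁻¹ * c⁻¹ = (n⁻¹ * x) * (c * (n⁻¹ * x)⁻¹ * c⁻¹) := by group
      rw [this]
      exact N.mul_mem hb (h.conj_mem (N.inv_mem hb) c)
    · have : (n⁻¹ * x) * c * (n⁻¹ * x)⁻¹ = n⁻¹ * (x * c * x⁻¹) * n := by group
      rw [this]
      exact P.mul_mem (hmemQ _ hxcQ) (P.inv_mem hcP)
  refine ⟨n, hn, n⁻¹ * x, hb, by group, ?_, ?_⟩
  · calc d * n = n * (n⁻¹ * d * n * d⁻¹) * d := by group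
      _ = n * d := by rw [h1, mul_one]
  · calc c * (n⁻¹ * x) = ((n⁻¹ * x) * c * (n⁻¹ * x)⁻¹ * c⁻¹)⁻¹ * (n⁻¹ * x) * c := by group
      _ = (n⁻¹ * x) * c := by rw [h2]; group

end Basic

section Transport

variable {p : ℕ} [Fact p.Prime] {G : Type u} [Group G] {P N : Subgroup G} {C D : Set G}

theorem closure_preimage_subtype {S : Set G} {P L : Subgroup G} (hS : Subgroup.closure S = P)
    (hPL : P ≤ L) : Subgroup.closure (L.subtype ⁻¹' S) = P.subgroupOf L := by
  apply Subgroup.map_injective L.subtype_injective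
  rw [MonoidHom.map_closure, Subgroup.subgroupOf_map_subtype, inf_of_le_left hPL, ← hS]
  congr 1
  ext g
  constructor
  · rintro ⟨y, hy, rfl⟩
    exact hy
  · intro hg
    have hgL : g ∈ L := hPL (by rw [← hS]; exact Subgroup.subset_closure hg)
    exact ⟨⟨g, hgL⟩, hg, rfl⟩

/-- Passing to a quotient. -/
theorem Hyp.map_mk (h : Hyp p P N C D) (K : Subgroup G) [K.Normal] :
    Hyp p (P.map (QuotientGroup.mk' K)) (N.map (QuotientGroup.mk' K))
      ((QuotientGroup.mk' K) '' C) ((QuotientGroup.mk' K) '' D) where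
  pgroup := h.pgroup.map _
  normal := by
    haveI := h.normal
    exact Subgroup.Normal.map h.normal _ (QuotientGroup.mk'_surjective K)
  coprime := Nat.Coprime.coprime_dvd_left (Subgroup.card_map_dvd N _) h.coprime
  sup := by
    rw [← Subgroup.map_sup, h.sup, ← MonoidHom.range_eq_map,
      MonoidHom.range_eq_top.mpr (QuotientGroup.mk'_surjective K)]
  closC := by rw [← MonoidHom.map_closure, h.closC]
  closD := by rw [← MonoidHom.map_closure, h.closD]
  gen := by
    rintro _ ⟨x, hx, rfl⟩ _ ⟨c, hc, rfl⟩ _ ⟨d, hd, rfl⟩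
    have h1 := (h.gen x hx c hc d hd).map (QuotientGroup.mk' K)
    rw [MonoidHom.map_closure, Set.image_pair, map_mul, map_mul, map_inv] at h1
    exact h1

/-- Passing to `H ⊔ P` for a `P`-invariant subgroup `H ≤ N`. -/
theorem Hyp.subgroupOf (h : Hyp p P N C D) (H : Subgroup G) (hHN : H ≤ N)
    (hPH : P ≤ Subgroup.normalizer (H : Set G)) :
    Hyp p (P.subgroupOf (H ⊔ P)) (H.subgroupOf (H ⊔ P)) ((H ⊔ P).subtype ⁻¹' C)
      ((H ⊔ P).subtype ⁻¹' D) where
  pgroup := h.pgroup.comap_of_injective _ (Subgroup.subtype_injective _)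
  normal := by
    rw [Subgroup.normal_subgroupOf_iff_le_normalizer le_sup_left]
    exact sup_le Subgroup.le_normalizer hPH
  coprime := by
    have h1 : Nat.card (H.subgroupOf (H ⊔ P)) = Nat.card H :=
      Nat.card_congr (Subgroup.subgroupOfEquivOfLe le_sup_left).toEquiv
    rw [h1]
    exact Nat.Coprime.coprime_dvd_left (Subgroup.card_dvd_of_le hHN) h.coprime
  sup := by
    rw [← Subgroup.subgroupOf_sup le_sup_left le_sup_right, Subgroup.subgroupOf_self]
  closC := closure_preimage_subtype h.closC le_sup_right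
  closD := closure_preimage_subtype h.closD le_sup_right
  gen := by
    intro x hx c hc d hd
    have h1 := h.gen (x : G) (hHN (Subgroup.mem_subgroupOf.mp hx)) (c : G) hc (d : G) hd
    have h2 : (Subgroup.closure ({x * c * x⁻¹, d} : Set ↥(H ⊔ P))).map (H ⊔ P).subtype =
        Subgroup.closure ({(x : G) * (c : G) * (x : G)⁻¹, (d : G)} : Set G) := by
      rw [MonoidHom.map_closure, Set.image_pair]
      simp
    rw [← h2] at h1
    have h3 := h1.comap_of_injective (H ⊔ P).subtype (Subgroup.subtype_injective _)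
    rwa [Subgroup.comap_map_eq_self_of_injective (Subgroup.subtype_injective _)] at h3

end Transport

section Bridge

variable {p : ℕ} [Fact p.Prime] {G : Type u} [Group G] [Finite G] {P N : Subgroup G} {C D : Set G}

open scoped IsMulCommutative in
/-- The abelian irreducible case, via the module lemma. -/
theorem bridge (hp3 : 3 ≤ p) (h : Hyp p P N C D)
    (hNab : ∀ a ∈ N, ∀ b ∈ N, a * b = b * a)
    (hirr : ∀ W : Subgroup G, W ≤ N → P ≤ Subgroup.normalizer (W : Set G) → W = ⊥ ∨ W = N)
    (hN1 : N ≠ ⊥) : ∀ u ∈ P, ∀ x ∈ N, u * x = x * u := by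
  by_contra hcon
  push Not at hcon
  obtain ⟨u0, hu0, x0, hx0, hne⟩ := hcon
  haveI := h.normal
  haveI : IsMulCommutative ↥N := ⟨⟨fun a b => Subtype.ext (hNab a a.2 b b.2)⟩⟩
  let φ : ↥P →* MulAut ↥N := (MulAut.conjNormal (H := N)).comp P.subtype
  have hφ : ∀ (u : ↥P) (x : ↥N), ((φ u x : ↥N) : G) = (u : G) * (x : G) * (u : G)⁻¹ := by
    intro u x
    simp [φ]
  let φ' : ↥P →* ↥φ.range := φ.rangeRestrict
  have hφ' : ∀ (u : ↥P) (x : ↥N), ((φ' u • x : ↥N) : G) = (u : G) * (x : G) * (u : G)⁻¹ := by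
    intro u x
    exact hφ u x
  haveI : Nontrivial ↥N := by
    rw [Subgroup.nontrivial_iff_ne_bot]
    exact hN1
  haveI : Nontrivial ↥φ.range := by
    refine ⟨⟨φ' ⟨u0, hu0⟩, 1, ?_⟩⟩
    intro h0
    apply hne
    have h1 := hφ' ⟨u0, hu0⟩ ⟨x0, hx0⟩
    rw [h0, one_smul] at h1
    simp only at h1
    calc u0 * x0 = (u0 * x0 * u0⁻¹) * u0 := by group
      _ = x0 * u0 := by rw [← h1]
  have hR : IsPGroup p ↥φ.range := by
    exact IsPGroup.of_surjective h.pgroup φ' φ.rangeRestrict_surjective
  have hcop : (Nat.card ↥N).Coprime p := h.coprime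
  have hfaith : ∀ r : ↥φ.range, (∀ v : ↥N, r • v = v) → r = 1 := by
    intro r hr
    apply Subtype.ext
    apply MulEquiv.ext
    intro v
    exact hr v
  have hirr' : ∀ W : Subgroup ↥N, (∀ r : ↥φ.range, ∀ w ∈ W, r • w ∈ W) → W = ⊥ ∨ W = ⊤ := by
    intro W hW
    have hWN : W.map N.subtype ≤ N := Subgroup.map_subtype_le W
    have hPW : P ≤ Subgroup.normalizer ((W.map N.subtype : Subgroup G) : Set G) := by
      have key : ∀ u ∈ P, ∀ g ∈ W.map N.subtype, u * g * u⁻¹ ∈ W.map N.subtype := by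
        rintro u hu _ ⟨w, hw, rfl⟩
        refine ⟨φ' ⟨u, hu⟩ • w, hW _ w hw, ?_⟩
        exact hφ' ⟨u, hu⟩ w
      intro u hu
      rw [Subgroup.mem_normalizer_iff]
      intro g
      constructor
      · exact key u hu g
      · intro hg
        have := key u⁻¹ (P.inv_mem hu) _ hg
        have e : u⁻¹ * (u * g * u⁻¹) * u⁻¹⁻¹ = g := by group
        rwa [e] at this
    rcases hirr _ hWN hPW with h0 | h0
    · left
      exact (Subgroup.map_eq_bot_iff_of_injective W N.subtype_injective).mp h0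
    · right
      rw [eq_top_iff]
      intro v _
      have hv : (v : G) ∈ W.map N.subtype := by rw [h0]; exact v.2
      obtain ⟨w, hw, hwv⟩ := hv
      have : w = v := Subtype.ext hwv
      rwa [← this]
  have hCP : Subgroup.closure (P.subtype ⁻¹' C) = ⊤ := by
    rw [closure_preimage_subtype h.closC le_rfl, Subgroup.subgroupOf_self]
  have hDP : Subgroup.closure (P.subtype ⁻¹' D) = ⊤ := by
    rw [closure_preimage_subtype h.closD le_rfl, Subgroup.subgroupOf_self]
  have hC' : Subgroup.closure (φ' '' (P.subtype ⁻¹' C)) = ⊤ := by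
    rw [← MonoidHom.map_closure, hCP, ← MonoidHom.range_eq_map,
      MonoidHom.range_eq_top.mpr φ.rangeRestrict_surjective]
  have hD' : Subgroup.closure (φ' '' (P.subtype ⁻¹' D)) = ⊤ := by
    rw [← MonoidHom.map_closure, hDP, ← MonoidHom.range_eq_map,
      MonoidHom.range_eq_top.mpr φ.rangeRestrict_surjective]
  apply module_lemma (V := ↥N) (R := ↥φ.range) hp3 hR hcop hfaith hirr' _ _ hC' hD'
  rintro _ ⟨c, hc, rfl⟩ _ ⟨d, hd, rfl⟩ v
  obtain ⟨a, ha, b, hb, hv, hda, hcb⟩ := h.factor v.2 hc hd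
  refine ⟨⟨b, hb⟩, ⟨a, ha⟩, ?_, ?_, ?_⟩
  · apply Subtype.ext
    rw [hφ']
    show (c : G) * b * (c : G)⁻¹ = b
    have hcb' : (c : G) * b = b * (c : G) := hcb
    rw [hcb']; group
  · apply Subtype.ext
    rw [hφ']
    show (d : G) * a * (d : G)⁻¹ = a
    have hda' : (d : G) * a = a * (d : G) := hda
    rw [hda']; group
  · apply Subtype.ext
    show (v : G) = b * a
    rw [hv, hNab a ha b hb]

end Bridge

section Main

variable {p : ℕ} [Fact p.Prime]

theorem comm_of_comm_commutators {G : Type u} [Group G] [Finite G] {P N : Subgroup G}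
    {C D : Set G} (h : Hyp p P N C D)
    (hK : ∀ u ∈ P, ∀ x ∈ N, ∀ w ∈ P, w * (u * x * u⁻¹ * x⁻¹) = (u * x * u⁻¹ * x⁻¹) * w) :
    ∀ u ∈ P, ∀ x ∈ N, u * x = x * u := by
  intro u hu x hx
  set m := u * x * u⁻¹ * x⁻¹ with hm
  have hmN : m ∈ N := by
    have : m = (u * x * u⁻¹) * x⁻¹ := by rw [hm]
    rw [this]; exact N.mul_mem (h.conj_mem hx u) (N.inv_mem hx)
  have hum : u * m = m * u := hK u hu x hx u hu
  have hpow : ∀ k : ℕ, u ^ k * x * (u ^ k)⁻¹ = m ^ k * x := by
    intro k
    induction k with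
    | zero => simp
    | succ k ih =>
      have hc : Commute u (m ^ k) := Commute.pow_right hum k
      calc u ^ (k + 1) * x * (u ^ (k + 1))⁻¹ = u * (u ^ k * x * (u ^ k)⁻¹) * u⁻¹ := by
            rw [pow_succ']; group
        _ = u * (m ^ k * x) * u⁻¹ := by rw [ih]
        _ = (u * m ^ k) * x * u⁻¹ := by group
        _ = (m ^ k * u) * x * u⁻¹ := by rw [hc.eq]
        _ = m ^ k * (u * x * u⁻¹ * x⁻¹) * x := by group
        _ = m ^ (k + 1) * x := by rw [← hm, pow_succ]
  obtain ⟨k, hk⟩ := h.pgroup ⟨u, hu⟩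
  have huk : u ^ p ^ k = 1 := congrArg Subtype.val hk
  have h1 := hpow (p ^ k)
  rw [huk, inv_one, one_mul, mul_one] at h1
  have hmk : m ^ p ^ k = 1 := by
    have : 1 * x = m ^ p ^ k * x := by rw [one_mul]; exact h1
    exact (mul_right_cancel this).symm
  have hm1 : m = 1 := by
    have h2 : orderOf m ∣ p ^ k := orderOf_dvd_of_pow_eq_one hmk
    have h3 : orderOf m ∣ Nat.card N := by
      have := orderOf_dvd_natCard (⟨m, hmN⟩ : N)
      rwa [Subgroup.orderOf_mk] at this
    exact orderOf_eq_one_iff.mp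
      (Nat.eq_one_of_dvd_coprimes (Nat.Coprime.pow_right k h.coprime) h3 h2)
  calc u * x = (u * x * u⁻¹ * x⁻¹) * x * u := by group
    _ = x * u := by rw [← hm, hm1, one_mul]

theorem main (hp3 : 3 ≤ p) : ∀ (n : ℕ) (G : Type u) [Group G] [Finite G], Nat.card G = n →
    ∀ (P N : Subgroup G) (C D : Set G), Hyp p P N C D → ∀ u ∈ P, ∀ x ∈ N, u * x = x * u := by
  intro n
  induction n using Nat.strong_induction_on with
  | _ n ih =>
  intro G _ _ hcard P N C D h
  haveI hNn := h.normal
  have hp : p.Prime := Fact.out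
  -- proper invariant subgroups are centralized
  have claimA : ∀ H : Subgroup G, H ≤ N → H ≠ N → P ≤ Subgroup.normalizer (H : Set G) →
      ∀ u ∈ P, ∀ x ∈ H, u * x = x * u := by
    intro H hHN hne hPH u hu x hx
    have h' := h.subgroupOf H hHN hPH
    have hlt : Nat.card ↥(H ⊔ P) < n := by
      rw [← hcard, ← h.card_mul, ← h'.card_mul]
      have e1 : Nat.card (H.subgroupOf (H ⊔ P)) = Nat.card H :=
        Nat.card_congr (Subgroup.subgroupOfEquivOfLe le_sup_left).toEquiv
      have e2 : Nat.card (P.subgroupOf (H ⊔ P)) = Nat.card P :=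
        Nat.card_congr (Subgroup.subgroupOfEquivOfLe le_sup_right).toEquiv
      rw [e1, e2]
      have hlt' : Nat.card H < Nat.card N := by
        by_contra hge
        push Not at hge
        exact hne (Subgroup.eq_of_le_of_card_ge hHN hge)
      exact Nat.mul_lt_mul_of_lt_of_le hlt' le_rfl Nat.card_pos
    have := ih _ hlt ↥(H ⊔ P) rfl _ _ _ _ h' ⟨u, (le_sup_right : P ≤ H ⊔ P) hu⟩
      (Subgroup.mem_subgroupOf.mpr hu) ⟨x, (le_sup_left : H ≤ H ⊔ P) hx⟩
      (Subgroup.mem_subgroupOf.mpr hx)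
    exact congrArg Subtype.val this
  -- commutators fall into every nontrivial normal subgroup
  have claimB : ∀ K : Subgroup G, K.Normal → K ≠ ⊥ →
      ∀ u ∈ P, ∀ x ∈ N, u * x * u⁻¹ * x⁻¹ ∈ K := by
    intro K hKn hK u hu x hx
    haveI := hKn
    have h' := h.map_mk K
    have hlt : Nat.card (G ⧸ K) < n := by
      rw [← hcard, Subgroup.card_eq_card_quotient_mul_card_subgroup K]
      have h1 : 1 < Nat.card K := by
        rw [Subgroup.one_lt_card_iff_ne_bot]; exact hK
      have h2 : 0 < Nat.card (G ⧸ K) := Nat.card_pos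
      nlinarith
    have := ih _ hlt (G ⧸ K) rfl _ _ _ _ h' (QuotientGroup.mk' K u)
      (Subgroup.mem_map_of_mem _ hu) (QuotientGroup.mk' K x) (Subgroup.mem_map_of_mem _ hx)
    rw [← QuotientGroup.eq_one_iff, ← QuotientGroup.mk'_apply, map_mul, map_mul, map_mul,
      map_inv, map_inv, this]
    group
  by_cases hex : ∃ K : Subgroup G, K.Normal ∧ K ≠ ⊥ ∧ K ≤ N ∧ K ≠ N
  · obtain ⟨K, hKn, hK1, hKN, hKne⟩ := hex
    haveI := hKn
    have hPK : P ≤ Subgroup.normalizer (K : Set G) := by
      rw [Subgroup.normalizer_eq_top]; exact le_top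
    have hA := claimA K hKN hKne hPK
    apply comm_of_comm_commutators h
    intro u hu x hx w hw
    exact hA w hw _ (claimB K hKn hK1 u hu x hx)
  · push Not at hex
    by_cases hN1 : N = ⊥
    · intro u _ x hx
      rw [hN1, Subgroup.mem_bot] at hx
      rw [hx, mul_one, one_mul]
    have hPN : P ≤ Subgroup.normalizer (N : Set G) := by
      rw [Subgroup.normalizer_eq_top]; exact le_top
    have hsolv : Group.IsSolvable P ∨ Group.IsSolvable N := by
      left
      haveI := h.pgroup.isNilpotent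
      infer_instance
    by_cases hq : ∃ q : ℕ, q.Prime ∧ IsPGroup q N
    · -- `N` is a `q`-group: abelian and irreducible
      obtain ⟨q, hqp, hqN⟩ := hq
      haveI : Fact q.Prime := ⟨hqp⟩
      haveI : Nontrivial ↥N := by
        rw [Subgroup.nontrivial_iff_ne_bot]; exact hN1
      set Z : Subgroup G := N ⊓ Subgroup.centralizer (N : Set G) with hZ
      have hZn : Z.Normal := by
        constructor
        intro z hz g
        refine Subgroup.mem_inf.mpr ⟨h.conj_mem (Subgroup.mem_inf.mp hz).1 g, ?_⟩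
        have hz2 : z ∈ Subgroup.centralizer (N : Set G) := (Subgroup.mem_inf.mp hz).2
        rw [Subgroup.mem_centralizer_iff]
        intro y hy
        have hy' : g⁻¹ * y * g ∈ N := by
          have := h.conj_mem hy g⁻¹
          simpa using this
        have h1 := (Subgroup.mem_centralizer_iff.mp hz2) _ hy'
        calc y * (g * z * g⁻¹) = g * ((g⁻¹ * y * g) * z) * g⁻¹ := by group
          _ = g * (z * (g⁻¹ * y * g)) * g⁻¹ := by rw [h1]
          _ = g * z * g⁻¹ * y := by group
      have hZ1 : Z ≠ ⊥ := by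
        haveI := hqN.center_nontrivial
        obtain ⟨⟨z, hz⟩, hz1⟩ := exists_ne (1 : ↥(Subgroup.center ↥N))
        intro h0
        apply hz1
        have : (z : G) ∈ Z := by
          refine Subgroup.mem_inf.mpr ⟨z.2, ?_⟩
          rw [Subgroup.mem_centralizer_iff]
          intro y hy
          have := (Subgroup.mem_center_iff.mp hz) ⟨y, hy⟩
          exact congrArg Subtype.val this
        rw [h0, Subgroup.mem_bot] at this
        apply Subtype.ext
        apply Subtype.ext
        exact this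
      have hZN : Z = N := hex Z hZn hZ1 inf_le_left
      have hNab : ∀ a ∈ N, ∀ b ∈ N, a * b = b * a := by
        intro a ha b hb
        have : b ∈ Z := by rw [hZN]; exact hb
        exact (Subgroup.mem_centralizer_iff.mp (Subgroup.mem_inf.mp this).2) a ha
      have hirr : ∀ W : Subgroup G, W ≤ N → P ≤ Subgroup.normalizer (W : Set G) →
          W = ⊥ ∨ W = N := by
        intro W hWN hPW
        by_cases hW1 : W = ⊥
        · left; exact hW1
        right
        apply hex W _ hW1 hWN
        rw [← Subgroup.normalizer_eq_top_iff, eq_top_iff, ← h.sup]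
        apply sup_le _ hPW
        intro y hy
        apply Subgroup.centralizer_le_normalizer
        rw [Subgroup.mem_centralizer_iff]
        intro w hw
        exact hNab w (hWN hw) y hy
      exact bridge hp3 h hNab hirr hN1
    · -- `N` is not of prime power order: invariant Sylow subgroups are centralized
      push Not at hq
      set CN : Subgroup G := N ⊓ Subgroup.centralizer (P : Set G) with hCN
      have hCNle : CN ≤ N := inf_le_left
      have hdvd : Nat.card N ∣ Nat.card CN := by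
        rw [← Nat.factorization_prime_le_iff_dvd Nat.card_pos.ne' Nat.card_pos.ne']
        intro r hr
        haveI : Fact r.Prime := ⟨hr⟩
        obtain ⟨Q, hQ⟩ := Cfsg.Agent.Lib.Helper24_CoprimeAction.exists_invariant_sylow P N hPN
          h.coprime_card.symm hsolv r
        set QG := Cfsg.Agent.Lib.Helper24_CoprimeAction.sylowImage Q with hQG
        have hQN : QG ≤ N := Subgroup.map_subtype_le _
        have hQne : QG ≠ N := by
          intro h0
          apply hq r hr
          intro g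
          have hg : (g : G) ∈ QG := by rw [h0]; exact g.2
          obtain ⟨y, hy, hyg⟩ := hg
          have : y = g := Subtype.ext hyg
          subst this
          obtain ⟨k, hk⟩ := Q.2 ⟨y, hy⟩
          exact ⟨k, congrArg Subtype.val hk⟩
        have hcent := claimA QG hQN hQne hQ
        have hQCN : QG ≤ CN := by
          intro y hy
          refine Subgroup.mem_inf.mpr ⟨hQN hy, ?_⟩
          rw [Subgroup.mem_centralizer_iff]
          intro u hu
          exact hcent u hu y hy
        have hcardQ : Nat.card QG = r ^ (Nat.card N).factorization r := by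
          rw [← Sylow.card_eq_multiplicity Q]
          exact Nat.card_congr ((Q : Subgroup N).equivMapOfInjective N.subtype
            N.subtype_injective).symm.toEquiv
        have h1 : r ^ (Nat.card N).factorization r ∣ Nat.card CN := by
          rw [← hcardQ]; exact Subgroup.card_dvd_of_le hQCN
        exact (hr.pow_dvd_iff_le_factorization Nat.card_pos.ne').mp h1
      have hCNeq : CN = N :=
        Subgroup.eq_of_le_of_card_ge hCNle (Nat.le_of_dvd Nat.card_pos hdvd)
      intro u hu x hx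
      have : x ∈ CN := by rw [hCNeq]; exact hx
      exact ((Subgroup.mem_centralizer_iff.mp (Subgroup.mem_inf.mp this).2) u hu)

end Main

/-- Let p ≥ 3 be prime and G a finite group with a Sylow p-subgroup P and a normal p-complement N (N normal, of order prime to p, with NP = G). Suppose P is generated by a subset C and also by a subset D, and that ⟨x c x⁻¹, d⟩ is a p-group for all x ∈ N, c ∈ C, d ∈ D. Then P centralizes N, so that G = N × P. -/
theorem result {G : Type*} [Group G] [Finite G] (p : ℕ) [Fact p.Prime] (hp3 : 3 ≤ p) (P : Sylow p G)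
    (N : Subgroup G) [N.Normal] (hN : (Nat.card N).Coprime p) (hNP : N ⊔ (P : Subgroup G) = ⊤)
    (C D : Set G) (hC : Subgroup.closure C = (P : Subgroup G)) (hD : Subgroup.closure D = (P : Subgroup G))
    (h : ∀ x ∈ N, ∀ c ∈ C, ∀ d ∈ D, IsPGroup p ↥(Subgroup.closure ({x * c * x⁻¹, d} : Set G))) :
    ⁅(P : Subgroup G), N⁆ = ⊥ := by
  have hyp : Hyp p (P : Subgroup G) N C D :=
    { pgroup := P.2
      normal := inferInstance
      coprime := hN
      sup := hNP
      closC := hC
      closD := hD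
      gen := h }
  have hcomm := main hp3 _ G rfl (P : Subgroup G) N C D hyp
  rw [Subgroup.commutator_eq_bot_iff_le_centralizer]
  intro u hu
  rw [Subgroup.mem_centralizer_iff]
  intro x hx
  exact (hcomm u hu x hx).symm

end Cfsg.Agent.S2277
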