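import Cfsg.Statements.S2278
import Cfsg.Agent.Lib.Helper83_SL3Pair

set_option autoImplicit false
open Cfsg

namespace Cfsg.Agent.S2278

open Matrix Cfsg.Agent.Lib.Helper83_TvCalc Cfsg.Agent.Lib.Helper83_RegUnipSL
  Cfsg.Agent.Lib.Helper83_SL3Pair

/-- in a finite field, an additive subgroup containing a generator of the unit group and closed
under products is everything -/
theorem gen_of_generator {F : Type*} [Field F] [Fintype F] (β : Fˣ)
    (hβ : ∀ y : Fˣ, y ∈ Submonoid.powers β) (A : AddSubgroup F) (hα : (β : F) ∈ A)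
    (hcl : ∀ x ∈ A, ∀ y ∈ A, x * y ∈ A) : A = ⊤ := by
  have hpow : ∀ k : ℕ, (β : F) ^ (k + 1) ∈ A := by
    intro k
    induction k with
    | zero => simpa using hα
    | succ k ih =>
      have := hcl _ ih _ hα
      rwa [← pow_succ] at this
  rw [eq_top_iff]
  intro a _
  by_cases ha : a = 0
  · rw [ha]; exact A.zero_mem
  · obtain ⟨k, hk⟩ := hβ (Units.mk0 a ha)
    have hk' : (β : F) ^ k = a := by
      have := congrArg (fun x : Fˣ => (x : F)) hk
      simpa using this
    have hcard : (β : F) ^ (Nat.card Fˣ) = 1 := by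
      have h1 : β ^ (Nat.card Fˣ) = 1 := pow_card_eq_one'
      have h2 : ((β ^ (Nat.card Fˣ) : Fˣ) : F) = ((1 : Fˣ) : F) := by rw [h1]
      rwa [Units.val_pow_eq_pow_val, Units.val_one] at h2
    have hpos : 0 < Nat.card Fˣ := Nat.card_pos
    obtain ⟨c, hc⟩ : ∃ c, Nat.card Fˣ = c + 1 := ⟨Nat.card Fˣ - 1, by omega⟩
    have h2 : (β : F) ^ (k + c + 1) = a := by
      rw [add_assoc, pow_add, ← hc, hcard, mul_one, hk']
    have h3 := hpow (k + c)
    rwa [h2] at h3

/-- if the cube of a generator of the unit group is `1` then `x ^ 3 = 1` for all non-zero `x` -/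
theorem cube_eq_one {F : Type*} [Field F] (β : Fˣ) (hβ : ∀ y : Fˣ, y ∈ Submonoid.powers β)
    (h : (β : F) ^ 3 = 1) (x : F) (hx : x ≠ 0) : x ^ 3 = 1 := by
  obtain ⟨k, hk⟩ := hβ (Units.mk0 x hx)
  have hk' : (β : F) ^ k = x := by
    have := congrArg (fun x : Fˣ => (x : F)) hk
    simpa using this
  rw [← hk', ← pow_mul, mul_comm, pow_mul, h, one_pow]

/-- Let F be a finite field. Then SL_3(F) is generated by two conjugate regular unipotent elements: there are u with u − 1 nilpotent and (u − 1)² ≠ 0, and g, such that u and g u g⁻¹ generate SL_3(F). -/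
theorem result {F : Type*} [Field F] [Fintype F] :
    ∃ u g : Matrix.SpecialLinearGroup (Fin 3) F, IsNilpotent ((u : Matrix (Fin 3) (Fin 3) F) - 1) ∧ ((u : Matrix (Fin 3) (Fin 3) F) - 1) ^ (3 - 1) ≠ 0 ∧
      Subgroup.closure ({u, g * u * g⁻¹} : Set (Matrix.SpecialLinearGroup (Fin 3) F)) = ⊤ := by
  classical
  obtain ⟨β, hβ⟩ := IsCyclic.exists_monoid_generator (α := Fˣ)
  by_cases h2 : (2 : F) = 0
  · -- characteristic two
    refine ⟨uS F 3, g2 (β : F) h2, (uS_regular 0).1, (uS_regular 0).2, ?_⟩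
    rw [conj_2]
    exact closure_2 (β : F) h2 (fun A hA hcl => gen_of_generator β hβ A hA hcl)
  · -- the parameter
    set l : F := ((β⁻¹ : Fˣ) : F) with hl'
    have hl : l ≠ 0 := Units.ne_zero _
    have hlβ : (l ^ 3)⁻¹ = (β : F) ^ 3 := by
      rw [hl', Units.val_inv_eq_inv_val, inv_pow, inv_inv]
    have hq4 : Fintype.card F ≠ 4 := by
      intro h4
      have h0 : ((Fintype.card F : ℕ) : F) = 0 := FiniteField.cast_card_eq_zero F
      rw [h4] at h0
      have h22 : (2 : F) * 2 = 0 := by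
        have : ((4 : ℕ) : F) = 2 * 2 := by norm_num
        rw [← this]; exact h0
      exact h2 (mul_self_eq_zero.1 h22)
    have hgen : ∀ A : AddSubgroup F, ∀ ν ∈ A, ν ≠ 0 → (∀ x ∈ A, (l ^ 3)⁻¹ * x ∈ A) → A = ⊤ := by
      intro A ν hν hν0 hcl
      exact eq_top_of_cube hq4 β hβ A ν hν hν0 (fun x hx => by rw [← hlβ]; exact hcl x hx)
    by_cases h3 : (3 : F) = 0
    · -- characteristic three
      have hl3 : l ^ 3 ≠ 1 := by
        intro h
        have hβ3 : (β : F) ^ 3 = 1 := by rw [← hlβ, h, inv_one]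
        have h1 := cube_eq_one β hβ hβ3 (-1) (by simp)
        apply h2
        linear_combination (-1 : F) * h1
      refine ⟨u3 l hl, g3 l hl, ⟨3, U3_sub_one_cube l hl h3⟩, U3_sub_one_sq l h3, ?_⟩
      rw [conj_3 l hl h3]
      exact closure_3 l hl h3 hl3 hgen
    · -- characteristic at least five
      have hl3 : l ^ 3 ≠ 1 := by
        intro h
        have hβ3 : (β : F) ^ 3 = 1 := by rw [← hlβ, h, inv_one]
        have h1 := cube_eq_one β hβ hβ3 2 h2
        have h1' := cube_eq_one β hβ hβ3 3 h3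
        apply h2
        linear_combination (4 : F) * h1 - h1'
      refine ⟨uY, gY l hl, ⟨3, UY_sub_one_cube⟩, UY_sub_one_sq, ?_⟩
      rw [conj_Y l hl]
      exact closure_Y l hl h3 hl3 hgen

end Cfsg.Agent.S2278
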