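import Cfsg.Statements.S2280
import Cfsg.Agent.Lib.Helper83_RegUnipSL

set_option autoImplicit false
open Cfsg

namespace Cfsg.Agent.S2280

open Matrix Cfsg.Agent.Lib.Helper83_TvCalc Cfsg.Agent.Lib.Helper83_RegUnipSL

/-- in a finite field, an additive subgroup containing `μ⁻¹ β` (`β` a generator of the units)
and closed under `(x, y) ↦ μ x y` is everything -/
theorem gen_of_generator {F : Type*} [Field F] [Fintype F] (μ : F) (hμ : μ ≠ 0) (β : Fˣ)
    (hβ : ∀ y : Fˣ, y ∈ Submonoid.powers β) (A : AddSubgroup F) (hα : μ⁻¹ * (β : F) ∈ A)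
    (hcl : ∀ x ∈ A, ∀ y ∈ A, μ * x * y ∈ A) : A = ⊤ := by
  have hpow : ∀ k : ℕ, μ⁻¹ * (β : F) ^ (k + 1) ∈ A := by
    intro k
    induction k with
    | zero => simpa using hα
    | succ k ih =>
      have := hcl _ ih _ hα
      have e : μ * (μ⁻¹ * (β : F) ^ (k + 1)) * (μ⁻¹ * (β : F)) = μ⁻¹ * (β : F) ^ (k + 1 + 1) := by
        rw [pow_succ (β : F) (k + 1)]
        field_simp
      rwa [e] at this
  rw [eq_top_iff]
  intro a _
  by_cases ha : a = 0
  · rw [ha]; exact A.zero_mem
  · have hμa : μ * a ≠ 0 := mul_ne_zero hμ ha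
    obtain ⟨k, hk⟩ := hβ (Units.mk0 (μ * a) hμa)
    have hk' : (β : F) ^ k = μ * a := by
      have := congrArg (fun x : Fˣ => (x : F)) hk
      simpa using this
    -- raise the exponent by the order of the unit group
    have hcard : (β : F) ^ (Nat.card Fˣ) = 1 := by
      have h1 : β ^ (Nat.card Fˣ) = 1 := pow_card_eq_one'
      have h2 : ((β ^ (Nat.card Fˣ) : Fˣ) : F) = ((1 : Fˣ) : F) := by rw [h1]
      rwa [Units.val_pow_eq_pow_val, Units.val_one] at h2
    have hpos : 0 < Nat.card Fˣ := Nat.card_pos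
    obtain ⟨c, hc⟩ : ∃ c, Nat.card Fˣ = c + 1 := ⟨Nat.card Fˣ - 1, by omega⟩
    have h2 : (β : F) ^ (k + c + 1) = μ * a := by
      rw [add_assoc, pow_add, ← hc, hcard, mul_one, hk']
    have h3 := hpow (k + c)
    rw [h2] at h3
    have e : μ⁻¹ * (μ * a) = a := by field_simp
    rwa [e] at h3

/-- Let F be a finite field and n ≥ 3. Then SL_n(F) is generated by three conjugate regular unipotent elements: there are u with u − 1 nilpotent and (u − 1)^(n−1) ≠ 0, and g, h, such that u, g u g⁻¹ and h u h⁻¹ generate SL_n(F). -/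
theorem result {F : Type*} [Field F] [Fintype F] (n : ℕ) (hn : 3 ≤ n) :
    ∃ u g h : Matrix.SpecialLinearGroup (Fin n) F, (IsNilpotent ((u : Matrix (Fin n) (Fin n) F) - 1) ∧ ((u : Matrix (Fin n) (Fin n) F) - 1) ^ (n - 1) ≠ 0) ∧
      Subgroup.closure ({u, g * u * g⁻¹, h * u * h⁻¹} : Set (Matrix.SpecialLinearGroup (Fin n) F)) = ⊤ := by
  obtain ⟨m, rfl⟩ : ∃ m, n = m + 3 := ⟨n - 3, by omega⟩
  classical
  -- the lower conjugate and the scalar `μ`
  set v : SpecialLinearGroup (Fin (m + 3)) F :=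
    hS F (m + 2) * uS F (m + 3) * (hS F (m + 2))⁻¹ with hv
  have hv1 : v.1 = 1 + Nlo (eps F (m + 2)) := conj_hS m
  have hlam : (v⁻¹).1 (Fin.last (m + 2)) 0 ≠ 0 :=
    inv_col_ne_zero (eps F (m + 2)) (eps_ne_zero _) v hv1 0 rfl _
  set μ : F := eps F (m + 2) 0 * (v⁻¹).1 (Fin.last (m + 2)) 0 with hμdef
  have hμ : μ ≠ 0 := mul_ne_zero (eps_ne_zero _ _) hlam
  -- a generator of the unit group
  obtain ⟨β, hβ⟩ := IsCyclic.exists_monoid_generator (α := Fˣ)
  set α : F := μ⁻¹ * (β : F) with hα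
  have h01 : (0 : Fin (m + 3)) ≠ ⟨m + 1, by omega⟩ := by
    intro h; have := congrArg Fin.val h; simp at this
  have h0l : (0 : Fin (m + 3)) ≠ Fin.last (m + 2) := by
    intro h; have := congrArg Fin.val h; simp at this
  refine ⟨uS F (m + 3), SpecialLinearGroup.transvection h01 α, hS F (m + 2), uS_regular m, ?_⟩
  set H := Subgroup.closure ({uS F (m + 3),
    SpecialLinearGroup.transvection h01 α * uS F (m + 3) * (SpecialLinearGroup.transvection h01 α)⁻¹,
    hS F (m + 2) * uS F (m + 3) * (hS F (m + 2))⁻¹} :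
      Set (Matrix.SpecialLinearGroup (Fin (m + 3)) F)) with hH
  have huH : uS F (m + 3) ∈ H := Subgroup.subset_closure (by simp)
  have hgH : SpecialLinearGroup.transvection h01 α * uS F (m + 3) *
      (SpecialLinearGroup.transvection h01 α)⁻¹ ∈ H := Subgroup.subset_closure (by simp)
  have hvH : v ∈ H := Subgroup.subset_closure (by simp [hv])
  rw [conj_transvection m α h01 h0l] at hgH
  have hTH : SpecialLinearGroup.transvection h0l α ∈ H := by
    have := H.mul_mem (H.inv_mem huH) hgH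
    rwa [inv_mul_cancel_left] at this
  have hT1 : (SpecialLinearGroup.transvection h0l α).1 =
      MM (α • (e (0 : Fin (m + 3)) : Fin (m + 3) → F)) (e (Fin.last (m + 2))) := by
    rw [← single_eq_MM]; rfl
  exact eq_top_of_three huH hvH hTH rfl (eps F (m + 2)) (eps_ne_zero _) hv1 α hT1
    (fun A hA hcl => gen_of_generator μ hμ β hβ A hA hcl)

end Cfsg.Agent.S2280
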