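import Cfsg.Statements.S2281
import Cfsg.Agent.Lib.Helper38_RU12

set_option autoImplicit false
open Cfsg

namespace Cfsg.Agent.S2281

/-- Let F be a finite field and n ≥ 2, excluding the case n = 2 with F of two elements (where the group is not quasisimple). Then the symplectic group Sp_2n(F) is generated by three conjugate regular unipotent elements: there are u ∈ Sp_2n(F) with u − 1 nilpotent and (u − 1)^(2n−1) ≠ 0, and g, h ∈ Sp_2n(F), such that u, g u g⁻¹ and h u h⁻¹ generate Sp_2n(F). -/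
theorem result {F : Type*} [Field F] [Fintype F] (n : ℕ) (hn : 2 ≤ n) (h22 : ¬ (n = 2 ∧ Fintype.card F = 2)) :
    ∃ u g h : Matrix.symplecticGroup (Fin n) F,
      IsNilpotent ((u : Matrix (Fin n ⊕ Fin n) (Fin n ⊕ Fin n) F) - 1) ∧
      ((u : Matrix (Fin n ⊕ Fin n) (Fin n ⊕ Fin n) F) - 1) ^ (2 * n - 1) ≠ 0 ∧
      Subgroup.closure ({u, g * u * g⁻¹, h * u * h⁻¹} : Set (Matrix.symplecticGroup (Fin n) F)) = ⊤ := by
  classical
  open Cfsg.Agent.Lib.Helper38_RU Cfsg.Agent.Lib.Helper94_Symp Cfsg.Agent.Lib.Helper94_Bridge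
    Cfsg.Agent.Lib.Helper94_SpMatBridge in
  obtain ⟨u, g, h, hu, hg, hh, hnil, hpow, hgen⟩ :=
    abstract_main (Bsymp_isAlt n) (Bsymp_nondegenerate n) (std_hyp F n) (std_span F n) hn h22
  -- the homomorphism to linear automorphisms
  let ψ : Matrix.symplecticGroup (Fin n) F →* ((Fin n ⊕ Fin n → F) ≃ₗ[F] (Fin n ⊕ Fin n → F)) :=
    (isoGroup (Bsymp n F)).subtype.comp (spEquiv n).toMonoidHom
  have hψinj : Function.Injective ψ := by
    intro a b hab
    exact (spEquiv n).injective (Subtype.ext hab)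
  have hψsurj : ∀ x ∈ isoGroup (Bsymp n F), ∃ A, ψ A = x := by
    intro x hx
    exact ⟨(spEquiv n).symm ⟨x, hx⟩, by simp [ψ]⟩
  obtain ⟨U, hU⟩ := hψsurj u hu
  obtain ⟨G, hG⟩ := hψsurj g hg
  obtain ⟨K, hK⟩ := hψsurj h hh
  -- the algebra isomorphism between matrices and endomorphisms
  have hφ : Matrix.toLinAlgEquiv' ((U : Matrix (Fin n ⊕ Fin n) (Fin n ⊕ Fin n) F) - 1) =
      toE u - 1 := by
    rw [map_sub, map_one]
    congr 1
    ext x : 1
    rw [← hU]
    ext i
    simp [ψ, toE, Matrix.toLinAlgEquiv'_apply]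
  refine ⟨U, G, K, ?_, ?_, ?_⟩
  · obtain ⟨k, hk⟩ := hnil
    refine ⟨k, ?_⟩
    apply (Matrix.toLinAlgEquiv' (R := F) (n := Fin n ⊕ Fin n)).injective
    rw [map_pow, hφ, hk, map_zero]
  · intro h0
    apply hpow
    rw [← hφ, ← map_pow, h0, map_zero]
  · rw [eq_top_iff]
    intro A _
    have h1 : ψ A ∈ Subgroup.closure {u, g * u * g⁻¹, h * u * h⁻¹} :=
      hgen ((spEquiv n A).2)
    have h2 : (Subgroup.closure ({U, G * U * G⁻¹, K * U * K⁻¹} :
        Set (Matrix.symplecticGroup (Fin n) F))).map ψ =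
        Subgroup.closure {u, g * u * g⁻¹, h * u * h⁻¹} := by
      rw [MonoidHom.map_closure]
      congr 1
      simp only [Set.image_insert_eq, Set.image_singleton, map_mul, map_inv, hU, hG, hK]
    rw [← h2] at h1
    obtain ⟨A', hA', hAA'⟩ := h1
    rw [← hψinj hAA']
    exact hA'

end Cfsg.Agent.S2281
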