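import Mathlib
import Cfsg.Statements.S2286
import Cfsg.Agent.Lib.Helper5_SLPresK
import Cfsg.Agent.Lib.Helper5_SLPresM

set_option autoImplicit false
open Cfsg

namespace Cfsg.Agent.S2286

/-- For every finite field F, SL_2(F) and PSL_2(F) have presentations with 3 generators and at most 9 relations; when F has characteristic 2, PSL_2(F) has a presentation with 3 generators and at most 5 relations. -/
theorem result {F : Type*} [Field F] [Fintype F] :
    (∃ rels : Finset (FreeGroup (Fin 3)), rels.card ≤ 9 ∧ Nonempty (PresentedGroup (↑rels : Set (FreeGroup (Fin 3))) ≃* Matrix.SpecialLinearGroup (Fin 2) F)) ∧ (∃ rels : Finset (FreeGroup (Fin 3)), rels.card ≤ 9 ∧ Nonempty (PresentedGroup (↑rels : Set (FreeGroup (Fin 3))) ≃* Matrix.ProjectiveSpecialLinearGroup (Fin 2) F)) ∧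
    (CharP F 2 → ∃ rels : Finset (FreeGroup (Fin 3)), rels.card ≤ 5 ∧ Nonempty (PresentedGroup (↑rels : Set (FreeGroup (Fin 3))) ≃* Matrix.ProjectiveSpecialLinearGroup (Fin 2) F)) := by
  by_cases h2 : ringChar F = 2
  · obtain ⟨rels, hc, e1, e2⟩ := Cfsg.Agent.Lib.Helper5_SLPresL.even_main F h2
    refine ⟨⟨rels, hc.trans (by norm_num), e1⟩, ⟨rels, hc.trans (by norm_num), e2⟩, ?_⟩
    intro _
    exact ⟨rels, hc, e2⟩
  · obtain ⟨h1, h3⟩ := Cfsg.Agent.Lib.Helper5_SLPresK.odd_main F h2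
    refine ⟨h1, h3, ?_⟩
    intro hc
    exact absurd (ringChar.eq F 2) h2

end Cfsg.Agent.S2286
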