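import Cfsg.Statements.S2293
import Cfsg.Agent.Lib.Helper66_C2PresB

set_option autoImplicit false
open Cfsg

namespace Cfsg.Agent.S2293

/-- For every finite field F, Sp_4(F) has a presentation with 6 generators and at most 35 relations, and PSp_4(F) one with 6 generators and at most 36 relations. -/
theorem result {F : Type*} [Field F] [Fintype F] : (∃ rels : Finset (FreeGroup (Fin 6)), rels.card ≤ 35 ∧ Nonempty (PresentedGroup (↑rels : Set (FreeGroup (Fin 6))) ≃* Matrix.symplecticGroup (Fin 2) F)) ∧ (∃ rels : Finset (FreeGroup (Fin 6)), rels.card ≤ 36 ∧ Nonempty (PresentedGroup (↑rels : Set (FreeGroup (Fin 6))) ≃* Cfsg.PSp 2 F)) := by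
  classical
  haveI : Finite F := Finite.of_fintype F
  by_cases h2 : ringChar F = 2
  · obtain ⟨rels, f, hrel, hcard, hbij⟩ := Cfsg.Agent.Lib.Helper66_C2.even_main6 F h2
    have e : PresentedGroup (↑rels : Set (FreeGroup (Fin 6))) ≃* Matrix.symplecticGroup (Fin 2) F :=
      MulEquiv.ofBijective _ hbij
    haveI : CharP F 2 := by
      have := ringChar.charP F
      rwa [h2] at this
    have h2F : (2 : F) = 0 := by
      have := CharP.cast_eq_zero F 2
      exact_mod_cast this
    refine ⟨⟨rels, hcard.trans (by norm_num), ⟨e⟩⟩, ⟨rels, hcard.trans (by norm_num), ?_⟩⟩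
    exact Cfsg.Agent.Lib.Helper66_C2.center_quotient_of_bot
      (Cfsg.Agent.Lib.Helper66_C2.center_sp4_eq_bot h2F) e
  · obtain ⟨rels, f, hrel, hcard, hbij, hk⟩ := Cfsg.Agent.Lib.Helper66_C2.odd_main6 F h2
    have e : PresentedGroup (↑rels : Set (FreeGroup (Fin 6))) ≃* Matrix.symplecticGroup (Fin 2) F :=
      MulEquiv.ofBijective _ hbij
    refine ⟨⟨rels, hcard.trans (by norm_num), ⟨e⟩⟩, ?_⟩
    set r0 : FreeGroup (Fin 6) :=
      Cfsg.Agent.Lib.Helper66_C2.k1 * Cfsg.Agent.Lib.Helper66_C2.k1 with hr0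
    refine ⟨insert r0 rels, (Finset.card_insert_le _ _).trans (by omega), ?_⟩
    rw [Finset.coe_insert]
    refine Cfsg.Agent.Lib.Helper66_C2.center_quotient_presentation _ f hrel hbij r0 ?_ ?_
    · rw [hk]
      exact Cfsg.Agent.Lib.Helper66_C2.embA_wm_sq_mem_center
    · intro z hz
      rw [hk]
      exact Cfsg.Agent.Lib.Helper66_C2.center_sp4 z hz

end Cfsg.Agent.S2293
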