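import Cfsg.Statements.S2303
-- import your own Cfsg.Agent.* helpers here

set_option autoImplicit false
open Cfsg

namespace Cfsg.Agent.S2303
open Matrix
section

variable {F : Type*} [Field F]

theorem comm_iff (M N : Matrix (Fin 2) (Fin 2) F) : M * N = N * M ↔
    (M 0 0 * N 0 0 + M 0 1 * N 1 0 = N 0 0 * M 0 0 + N 0 1 * M 1 0) ∧
    (M 0 0 * N 0 1 + M 0 1 * N 1 1 = N 0 0 * M 0 1 + N 0 1 * M 1 1) ∧
    (M 1 0 * N 0 0 + M 1 1 * N 1 0 = N 1 0 * M 0 0 + N 1 1 * M 1 0) ∧
    (M 1 0 * N 0 1 + M 1 1 * N 1 1 = N 1 0 * M 0 1 + N 1 1 * M 1 1) := by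
  constructor
  · intro h
    have h00 := congrFun (congrFun h 0) 0
    have h01 := congrFun (congrFun h 0) 1
    have h10 := congrFun (congrFun h 1) 0
    have h11 := congrFun (congrFun h 1) 1
    simp only [Matrix.mul_apply, Fin.sum_univ_two] at h00 h01 h10 h11
    exact ⟨h00, h01, h10, h11⟩
  · rintro ⟨h00, h01, h10, h11⟩
    ext i j
    fin_cases i <;> fin_cases j <;> simp only [Matrix.mul_apply, Fin.sum_univ_two] <;> assumption

theorem mem_cent_iff (g X : GL (Fin 2) F) :
    X ∈ Subgroup.centralizer ({g} : Set (GL (Fin 2) F)) ↔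
      (X : Matrix (Fin 2) (Fin 2) F) * (g : Matrix (Fin 2) (Fin 2) F) =
        (g : Matrix (Fin 2) (Fin 2) F) * (X : Matrix (Fin 2) (Fin 2) F) := by
  rw [Subgroup.mem_centralizer_singleton_iff, Units.ext_iff, Units.val_mul, Units.val_mul]

theorem gl_ext (X Y : GL (Fin 2) F)
    (h00 : (X : Matrix (Fin 2) (Fin 2) F) 0 0 = (Y : Matrix (Fin 2) (Fin 2) F) 0 0)
    (h01 : (X : Matrix (Fin 2) (Fin 2) F) 0 1 = (Y : Matrix (Fin 2) (Fin 2) F) 0 1)
    (h10 : (X : Matrix (Fin 2) (Fin 2) F) 1 0 = (Y : Matrix (Fin 2) (Fin 2) F) 1 0)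
    (h11 : (X : Matrix (Fin 2) (Fin 2) F) 1 1 = (Y : Matrix (Fin 2) (Fin 2) F) 1 1) : X = Y := by
  apply Units.ext
  ext i j
  fin_cases i <;> fin_cases j <;> assumption

/-- explicit element of `GL₂` -/
noncomputable def mkG (a b c d : F) (h : a * d - b * c ≠ 0) : GL (Fin 2) F :=
  Matrix.GeneralLinearGroup.mkOfDetNeZero !![a, b; c, d] (by rw [Matrix.det_fin_two_of]; exact h)

@[simp] theorem mkG_coe (a b c d : F) (h) :
    ((mkG a b c d h : GL (Fin 2) F) : Matrix (Fin 2) (Fin 2) F) = !![a, b; c, d] := rfl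

theorem det_ne (X : GL (Fin 2) F) :
    (X : Matrix (Fin 2) (Fin 2) F) 0 0 * (X : Matrix (Fin 2) (Fin 2) F) 1 1 -
      (X : Matrix (Fin 2) (Fin 2) F) 0 1 * (X : Matrix (Fin 2) (Fin 2) F) 1 0 ≠ 0 := by
  have := Matrix.GeneralLinearGroup.det_ne_zero X
  rwa [Matrix.det_fin_two] at this


end

section

variable {F : Type*} [Field F] [Fintype F]

/-- split case -/
theorem card_cent_split (g : GL (Fin 2) F)
    (h01 : (g : Matrix (Fin 2) (Fin 2) F) 0 1 = 0) (h10 : (g : Matrix (Fin 2) (Fin 2) F) 1 0 = 0)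
    (hne : (g : Matrix (Fin 2) (Fin 2) F) 0 0 ≠ (g : Matrix (Fin 2) (Fin 2) F) 1 1) :
    Nat.card (Subgroup.centralizer ({g} : Set (GL (Fin 2) F))) = (Fintype.card F - 1) ^ 2 := by
  classical
  set a := (g : Matrix (Fin 2) (Fin 2) F) 0 0 with ha
  set d := (g : Matrix (Fin 2) (Fin 2) F) 1 1 with hd
  -- shape of centralizing elements
  have shape : ∀ X : GL (Fin 2) F, X ∈ Subgroup.centralizer ({g} : Set (GL (Fin 2) F)) ↔
      (X : Matrix (Fin 2) (Fin 2) F) 0 1 = 0 ∧ (X : Matrix (Fin 2) (Fin 2) F) 1 0 = 0 := by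
    intro X
    rw [mem_cent_iff, comm_iff, h01, h10, ← ha, ← hd]
    constructor
    · rintro ⟨-, e2, e3, -⟩
      have had : a - d ≠ 0 := sub_ne_zero.mpr hne
      constructor
      · have : (X : Matrix (Fin 2) (Fin 2) F) 0 1 * (a - d) = 0 := by linear_combination -e2
        rcases mul_eq_zero.mp this with h | h
        · exact h
        · exact absurd h had
      · have : (X : Matrix (Fin 2) (Fin 2) F) 1 0 * (a - d) = 0 := by linear_combination e3
        rcases mul_eq_zero.mp this with h | h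
        · exact h
        · exact absurd h had
    · rintro ⟨e1, e2⟩
      rw [e1, e2]
      refine ⟨by ring, by ring, by ring, by ring⟩
  let f : Subgroup.centralizer ({g} : Set (GL (Fin 2) F)) → Fˣ × Fˣ := fun X =>
    (Units.mk0 ((X.1 : Matrix (Fin 2) (Fin 2) F) 0 0) (by
        have := det_ne X.1
        rw [((shape X.1).mp X.2).1, zero_mul, sub_zero] at this
        exact left_ne_zero_of_mul this),
     Units.mk0 ((X.1 : Matrix (Fin 2) (Fin 2) F) 1 1) (by
        have := det_ne X.1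
        rw [((shape X.1).mp X.2).1, zero_mul, sub_zero] at this
        exact right_ne_zero_of_mul this))
  have hf : Function.Bijective f := by
    constructor
    · rintro ⟨X, hX⟩ ⟨Y, hY⟩ hXY
      have h1 := congrArg (fun v : Fˣ × Fˣ => (v.1 : F)) hXY
      have h2 := congrArg (fun v : Fˣ × Fˣ => (v.2 : F)) hXY
      simp only [f, Units.val_mk0] at h1 h2
      apply Subtype.ext
      apply gl_ext
      · exact h1
      · rw [((shape X).mp hX).1, ((shape Y).mp hY).1]
      · rw [((shape X).mp hX).2, ((shape Y).mp hY).2]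
      · exact h2
    · rintro ⟨x, w⟩
      have hdet : (x : F) * (w : F) - 0 * 0 ≠ 0 := by
        rw [mul_zero, sub_zero]; exact mul_ne_zero x.ne_zero w.ne_zero
      refine ⟨⟨mkG x 0 0 w hdet, (shape _).mpr ⟨by simp, by simp⟩⟩, ?_⟩
      apply Prod.ext <;> apply Units.ext <;> simp [f]
  rw [Nat.card_eq_of_bijective f hf, Nat.card_prod, Nat.card_units, Nat.card_eq_fintype_card, pow_two]


end

section

variable {F : Type*} [Field F] [Fintype F]

/-- nonsplit case -/
theorem card_cent_nonsplit (g : GL (Fin 2) F)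
    (H : ∀ (c : F) (v : Fin 2 → F), v ≠ 0 → (g : Matrix (Fin 2) (Fin 2) F).mulVec v ≠ c • v) :
    Nat.card (Subgroup.centralizer ({g} : Set (GL (Fin 2) F))) = Fintype.card F ^ 2 - 1 := by
  classical
  set a := (g : Matrix (Fin 2) (Fin 2) F) 0 0 with ha
  set b := (g : Matrix (Fin 2) (Fin 2) F) 0 1 with hb
  set c := (g : Matrix (Fin 2) (Fin 2) F) 1 0 with hc
  set d := (g : Matrix (Fin 2) (Fin 2) F) 1 1 with hd
  -- c ≠ 0
  have hc0 : c ≠ 0 := by
    intro h0
    apply H a ![1, 0] (by intro h; have := congrFun h 0; simp at this)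
    ext i
    fin_cases i
    · simp [Matrix.mulVec, dotProduct, Fin.sum_univ_two, ha]
    · simp [Matrix.mulVec, dotProduct, Fin.sum_univ_two, ← hc, h0]
  -- characteristic polynomial has no root
  have hchi : ∀ l : F, l * l - (a + d) * l + (a * d - b * c) ≠ 0 := by
    intro l hl
    apply H l ![l - d, c] (by intro h; have := congrFun h 1; simp at this; exact hc0 this)
    ext i
    fin_cases i
    · simp [Matrix.mulVec, dotProduct, Fin.sum_univ_two, ← ha, ← hb]
      linear_combination -hl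
    · simp [Matrix.mulVec, dotProduct, Fin.sum_univ_two, ← hc, ← hd]
      ring
  -- shape of centralizing elements
  have shape : ∀ X : GL (Fin 2) F, X ∈ Subgroup.centralizer ({g} : Set (GL (Fin 2) F)) ↔
      (X : Matrix (Fin 2) (Fin 2) F) 0 1 = b * (X : Matrix (Fin 2) (Fin 2) F) 1 0 / c ∧
      (X : Matrix (Fin 2) (Fin 2) F) 1 1 =
        (X : Matrix (Fin 2) (Fin 2) F) 0 0 + (X : Matrix (Fin 2) (Fin 2) F) 1 0 * (d - a) / c := by
    intro X
    rw [mem_cent_iff, comm_iff, ← ha, ← hb, ← hc, ← hd]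
    set x := (X : Matrix (Fin 2) (Fin 2) F) 0 0
    set y := (X : Matrix (Fin 2) (Fin 2) F) 0 1
    set z := (X : Matrix (Fin 2) (Fin 2) F) 1 0
    set w := (X : Matrix (Fin 2) (Fin 2) F) 1 1
    constructor
    · rintro ⟨e1, e2, e3, e4⟩
      constructor
      · field_simp
        linear_combination e1
      · field_simp
        linear_combination e3
    · rintro ⟨e1, e2⟩
      rw [e1, e2]
      refine ⟨?_, ?_, ?_, ?_⟩ <;> field_simp <;> ring
  let f : Subgroup.centralizer ({g} : Set (GL (Fin 2) F)) → {v : F × F // v ≠ 0} := fun X =>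
    ⟨((X.1 : Matrix (Fin 2) (Fin 2) F) 0 0, (X.1 : Matrix (Fin 2) (Fin 2) F) 1 0), by
      intro h0
      have h1 : (X.1 : Matrix (Fin 2) (Fin 2) F) 0 0 = 0 := congrArg Prod.fst h0
      have h2 : (X.1 : Matrix (Fin 2) (Fin 2) F) 1 0 = 0 := congrArg Prod.snd h0
      have := det_ne X.1
      rw [h1, h2] at this
      simp at this⟩
  have hf : Function.Bijective f := by
    constructor
    · rintro ⟨X, hX⟩ ⟨Y, hY⟩ hXY
      have hXY' := congrArg Subtype.val hXY
      have h1 : (X : Matrix (Fin 2) (Fin 2) F) 0 0 = (Y : Matrix (Fin 2) (Fin 2) F) 0 0 :=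
        congrArg Prod.fst hXY'
      have h2 : (X : Matrix (Fin 2) (Fin 2) F) 1 0 = (Y : Matrix (Fin 2) (Fin 2) F) 1 0 :=
        congrArg Prod.snd hXY'
      apply Subtype.ext
      apply gl_ext
      · exact h1
      · rw [((shape X).mp hX).1, ((shape Y).mp hY).1, h2]
      · exact h2
      · rw [((shape X).mp hX).2, ((shape Y).mp hY).2, h1, h2]
    · rintro ⟨⟨x, z⟩, hv⟩
      have hdet : x * (x + z * (d - a) / c) - (b * z / c) * z ≠ 0 := by
        intro h0
        by_cases hz : z = 0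
        · rw [hz] at h0
          simp at h0
          apply hv
          rw [h0, hz]; rfl
        · apply hchi (a - x * c / z)
          field_simp
          field_simp at h0
          linear_combination c * h0
      refine ⟨⟨mkG x (b * z / c) z (x + z * (d - a) / c) hdet, (shape _).mpr ⟨by simp, by simp⟩⟩, ?_⟩
      apply Subtype.ext
      simp [f]
  rw [Nat.card_eq_of_bijective f hf, Nat.card_eq_fintype_card, Fintype.card_subtype_compl,
    Fintype.card_prod, Fintype.card_subtype_eq, pow_two]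


end


/-- Over a finite field with q elements: a diagonal element of GL₂ with two distinct diagonal entries has centralizer of order (q − 1)² (so q(q + 1) conjugates), and an element of GL₂ with no eigenvector in F² has centralizer of order q² − 1 (so q(q − 1) conjugates). -/
theorem result {F : Type*} [Field F] [Fintype F] (g : Matrix.GeneralLinearGroup (Fin 2) F) :
    ((g : Matrix (Fin 2) (Fin 2) F) 0 1 = 0 → (g : Matrix (Fin 2) (Fin 2) F) 1 0 = 0 → (g : Matrix (Fin 2) (Fin 2) F) 0 0 ≠ (g : Matrix (Fin 2) (Fin 2) F) 1 1 →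
      Nat.card (Subgroup.centralizer ({g} : Set (Matrix.GeneralLinearGroup (Fin 2) F))) = (Fintype.card F - 1) ^ 2) ∧
    ((∀ (c : F) (v : Fin 2 → F), v ≠ 0 → (g : Matrix (Fin 2) (Fin 2) F).mulVec v ≠ c • v) →
      Nat.card (Subgroup.centralizer ({g} : Set (Matrix.GeneralLinearGroup (Fin 2) F))) = Fintype.card F ^ 2 - 1) := by
  exact ⟨card_cent_split g, card_cent_nonsplit g⟩

end Cfsg.Agent.S2303
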