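import Cfsg.Statements.S2308

set_option autoImplicit false
open Cfsg

namespace Cfsg.Agent.S2308

open Matrix

variable {F : Type*} [Field F]

/-- The determinant of the first columns of two matrices. -/
def D (x y : Matrix (Fin 2) (Fin 2) F) : F := x 0 0 * y 1 0 - x 1 0 * y 0 0

theorem mem_upper_iff (x : GL (Fin 2) F) :
    x ∈ Cfsg.upperTriangularGL 2 F ↔ (x : Matrix (Fin 2) (Fin 2) F) 1 0 = 0 := by
  change (x : Matrix (Fin 2) (Fin 2) F).BlockTriangular id ↔ _
  constructor
  · intro h
    exact h (by decide)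
  · intro h i j hij
    fin_cases i <;> fin_cases j <;> simp at hij ⊢
    exact h

theorem inv_mul_mem_iff (x y : GL (Fin 2) F) :
    x⁻¹ * y ∈ Cfsg.upperTriangularGL 2 F ↔
      D (x : Matrix (Fin 2) (Fin 2) F) (y : Matrix (Fin 2) (Fin 2) F) = 0 := by
  rw [mem_upper_iff]
  have hdet : (x : Matrix (Fin 2) (Fin 2) F).det ≠ 0 := x.det_ne_zero
  have hinv : ((x⁻¹ : GL (Fin 2) F) : Matrix (Fin 2) (Fin 2) F) = (x : Matrix (Fin 2) (Fin 2) F)⁻¹ :=
    Matrix.coe_units_inv x
  rw [Units.val_mul, hinv, Matrix.inv_def, Ring.inverse_eq_inv', Matrix.adjugate_fin_two]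
  simp only [D, Matrix.mul_apply, Fin.sum_univ_two, Matrix.smul_apply, smul_eq_mul]
  simp
  constructor
  · intro h
    have : (x : Matrix (Fin 2) (Fin 2) F).det⁻¹ * ((x : Matrix (Fin 2) (Fin 2) F) 0 0 * (y : Matrix (Fin 2) (Fin 2) F) 1 0 -
        (x : Matrix (Fin 2) (Fin 2) F) 1 0 * (y : Matrix (Fin 2) (Fin 2) F) 0 0) = 0 := by
      linear_combination h
    rcases mul_eq_zero.1 this with h1 | h1
    · exact absurd (inv_eq_zero.1 h1) hdet
    · exact h1
  · intro h
    linear_combination (x : Matrix (Fin 2) (Fin 2) F).det⁻¹ * h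

/-- Coset representatives indexed by the projective line. -/
noncomputable def psi : Option F → GL (Fin 2) F
  | none => 1
  | some a => Matrix.GeneralLinearGroup.mkOfDetNeZero !![a, 1; 1, 0] (by simp [Matrix.det_fin_two])

theorem psi_none_val : ((psi (none : Option F) : GL (Fin 2) F) : Matrix (Fin 2) (Fin 2) F) = 1 := rfl

theorem psi_some_val (a : F) : ((psi (some a) : GL (Fin 2) F) : Matrix (Fin 2) (Fin 2) F) =
    !![a, 1; 1, 0] := rfl

/-- The bijection from the projective line to the coset space. -/
noncomputable def Phi (l : Option F) : GL (Fin 2) F ⧸ Cfsg.upperTriangularGL 2 F :=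
  QuotientGroup.mk (psi l)

theorem Phi_bijective : Function.Bijective (Phi (F := F)) := by
  constructor
  · intro l l' h
    have h2 : D ((psi l : GL (Fin 2) F) : Matrix (Fin 2) (Fin 2) F)
        ((psi l' : GL (Fin 2) F) : Matrix (Fin 2) (Fin 2) F) = 0 := by
      rw [← inv_mul_mem_iff]
      exact QuotientGroup.eq.1 h
    rcases l with _ | a <;> rcases l' with _ | a'
    · rfl
    · simp [D, psi_none_val, psi_some_val] at h2
    · simp [D, psi_none_val, psi_some_val] at h2
    · simp [D, psi_some_val] at h2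
      congr 1
      linear_combination h2
  · intro c
    induction c using QuotientGroup.induction_on with
    | H x =>
    by_cases hr : (x : Matrix (Fin 2) (Fin 2) F) 1 0 = 0
    · refine ⟨none, ?_⟩
      apply QuotientGroup.eq.2
      rw [inv_mul_mem_iff]
      simp [D, psi_none_val, hr]
    · refine ⟨some ((x : Matrix (Fin 2) (Fin 2) F) 0 0 / (x : Matrix (Fin 2) (Fin 2) F) 1 0), ?_⟩
      apply QuotientGroup.eq.2
      rw [inv_mul_mem_iff]
      simp [D, psi_some_val]
      field_simp
      ring

/-- The fixed-point condition on the projective line. -/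
def Fix (g : GL (Fin 2) F) (l : Option F) : Prop :=
  D ((g : Matrix (Fin 2) (Fin 2) F) * ((psi l : GL (Fin 2) F) : Matrix (Fin 2) (Fin 2) F))
    ((psi l : GL (Fin 2) F) : Matrix (Fin 2) (Fin 2) F) = 0

theorem Phi_mem_fixedBy_iff (g : GL (Fin 2) F) (l : Option F) :
    Phi l ∈ MulAction.fixedBy (GL (Fin 2) F ⧸ Cfsg.upperTriangularGL 2 F) g ↔ Fix g l := by
  rw [MulAction.mem_fixedBy, Phi, MulAction.Quotient.smul_mk, smul_eq_mul, QuotientGroup.eq,
    inv_mul_mem_iff, Units.val_mul]
  rfl

theorem card_fixedBy (g : GL (Fin 2) F) :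
    Nat.card (MulAction.fixedBy (GL (Fin 2) F ⧸ Cfsg.upperTriangularGL 2 F) g) =
      Nat.card {l : Option F // Fix g l} := by
  symm
  apply Nat.card_congr
  exact Equiv.subtypeEquiv (Equiv.ofBijective Phi Phi_bijective)
    (fun l => (Phi_mem_fixedBy_iff g l).symm)

theorem fix_none_iff (g : GL (Fin 2) F) : Fix g none ↔ (g : Matrix (Fin 2) (Fin 2) F) 1 0 = 0 := by
  simp [Fix, D, psi_none_val]

theorem fix_some_iff (g : GL (Fin 2) F) (a : F) : Fix g (some a) ↔
    (g : Matrix (Fin 2) (Fin 2) F) 0 0 * a + (g : Matrix (Fin 2) (Fin 2) F) 0 1 -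
      ((g : Matrix (Fin 2) (Fin 2) F) 1 0 * a + (g : Matrix (Fin 2) (Fin 2) F) 1 1) * a = 0 := by
  simp [Fix, D, psi_some_val, Matrix.mul_apply, Fin.sum_univ_two]

theorem result {F : Type*} [Field F] [Fintype F] (g : Matrix.GeneralLinearGroup (Fin 2) F) :
    ((∃ a : F, (g : Matrix (Fin 2) (Fin 2) F) = a • (1 : Matrix (Fin 2) (Fin 2) F)) → Cfsg.fixedPointCharacter (Cfsg.upperTriangularGL 2 F) g = Fintype.card F + 1) ∧
    ((g : Matrix (Fin 2) (Fin 2) F) 0 1 = 0 → (g : Matrix (Fin 2) (Fin 2) F) 1 0 = 0 → (g : Matrix (Fin 2) (Fin 2) F) 0 0 ≠ (g : Matrix (Fin 2) (Fin 2) F) 1 1 →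
      Cfsg.fixedPointCharacter (Cfsg.upperTriangularGL 2 F) g = 2) ∧
    ((∀ (c : F) (v : Fin 2 → F), v ≠ 0 → (g : Matrix (Fin 2) (Fin 2) F).mulVec v ≠ c • v) → Cfsg.fixedPointCharacter (Cfsg.upperTriangularGL 2 F) g = 0) ∧
    ((g : Matrix (Fin 2) (Fin 2) F) 1 0 = 0 → (g : Matrix (Fin 2) (Fin 2) F) 0 0 = (g : Matrix (Fin 2) (Fin 2) F) 1 1 → (g : Matrix (Fin 2) (Fin 2) F) 0 1 ≠ 0 →
      Cfsg.fixedPointCharacter (Cfsg.upperTriangularGL 2 F) g = 1) := by
  classical
  unfold Cfsg.fixedPointCharacter
  simp only [card_fixedBy]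
  refine ⟨?_, ?_, ?_, ?_⟩
  · rintro ⟨a, ha⟩
    have hall : ∀ l : Option F, Fix g l := by
      intro l
      rcases l with _ | b
      · rw [fix_none_iff, ha]; simp
      · rw [fix_some_iff, ha]; simp
    have : Nat.card {l : Option F // Fix g l} = Fintype.card F + 1 := by
      rw [Nat.card_eq_fintype_card, Fintype.card_subtype]
      rw [Finset.filter_true_of_mem (fun l _ => hall l), Finset.card_univ, Fintype.card_option]
    rw [this]
    push_cast
    rfl
  · intro h01 h10 hne
    have hiff : ∀ l : Option F, Fix g l ↔ (l = none ∨ l = some 0) := by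
      intro l
      rcases l with _ | b
      · rw [fix_none_iff]; simp [h10]
      · rw [fix_some_iff, h01, h10]
        simp only [Option.some.injEq, reduceCtorEq, false_or]
        constructor
        · intro h
          have : ((g : Matrix (Fin 2) (Fin 2) F) 0 0 - (g : Matrix (Fin 2) (Fin 2) F) 1 1) * b = 0 := by
            linear_combination h
          rcases mul_eq_zero.1 this with h1 | h1
          · exact absurd (sub_eq_zero.1 h1) hne
          · exact h1
        · rintro rfl; ring
    have : Nat.card {l : Option F // Fix g l} = 2 := by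
      rw [Nat.card_eq_fintype_card, Fintype.card_subtype]
      have : (Finset.univ.filter (fun l : Option F => Fix g l)) = {none, some 0} := by
        ext l
        simp [hiff l]
      rw [this, Finset.card_pair (by simp)]
    rw [this]
    norm_num
  · intro hno
    have hnone : ∀ l : Option F, ¬ Fix g l := by
      intro l hl
      rcases l with _ | b
      · rw [fix_none_iff] at hl
        apply hno ((g : Matrix (Fin 2) (Fin 2) F) 0 0) ![1, 0] (by
          intro h
          have := congrFun h 0
          simp at this)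
        ext i
        fin_cases i <;> simp [Matrix.mulVec, dotProduct, Fin.sum_univ_two, hl]
      · rw [fix_some_iff] at hl
        apply hno ((g : Matrix (Fin 2) (Fin 2) F) 1 0 * b + (g : Matrix (Fin 2) (Fin 2) F) 1 1) ![b, 1] (by
          intro h
          have := congrFun h 1
          simp at this)
        ext i
        fin_cases i <;> simp [Matrix.mulVec, dotProduct, Fin.sum_univ_two]
        linear_combination hl
    have : Nat.card {l : Option F // Fix g l} = 0 := by
      have : IsEmpty {l : Option F // Fix g l} := ⟨fun l => hnone l.1 l.2⟩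
      exact Nat.card_of_isEmpty
    rw [this]
    norm_num
  · intro h10 h00 h01
    have hiff : ∀ l : Option F, Fix g l ↔ l = none := by
      intro l
      rcases l with _ | b
      · rw [fix_none_iff]; simp [h10]
      · rw [fix_some_iff, h10, h00]
        simp only [reduceCtorEq, iff_false]
        intro h
        apply h01
        linear_combination h
    have : Nat.card {l : Option F // Fix g l} = 1 := by
      rw [Nat.card_eq_fintype_card, Fintype.card_subtype]
      have : (Finset.univ.filter (fun l : Option F => Fix g l)) = {none} := by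
        ext l
        simp [hiff l]
      rw [this, Finset.card_singleton]
    rw [this]
    norm_num

end Cfsg.Agent.S2308
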