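import Cfsg.Statements.S2309
import Cfsg.Agent.S2310
import Cfsg.Agent.Lib.Helper39_GL2Series

set_option autoImplicit false
open Cfsg

namespace Cfsg.Agent.S2309

open Cfsg.Agent.Lib.Helper39_GL2Char Cfsg.Agent.Lib.Helper39_CharTools
  Cfsg.Agent.Lib.Helper39_GL2Borel Cfsg.Agent.Lib.Helper39_GL2Series

/-- Over a finite field F with q elements: every irreducible complex character of GL₂ of degree q − 1 vanishes at every diagonal matrix with two distinct entries, and every irreducible complex character of degree q + 1 vanishes at every element with no eigenvector in F². -/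
theorem result {F : Type*} [Field F] [Fintype F] (χ : Matrix.GeneralLinearGroup (Fin 2) F → ℂ) (hχ : Cfsg.IsIrrCharacter (Matrix.GeneralLinearGroup (Fin 2) F) χ) (g : Matrix.GeneralLinearGroup (Fin 2) F) :
    (χ 1 = (Fintype.card F : ℂ) - 1 → (g : Matrix (Fin 2) (Fin 2) F) 0 1 = 0 → (g : Matrix (Fin 2) (Fin 2) F) 1 0 = 0 → (g : Matrix (Fin 2) (Fin 2) F) 0 0 ≠ (g : Matrix (Fin 2) (Fin 2) F) 1 1 → χ g = 0) ∧
    (χ 1 = (Fintype.card F : ℂ) + 1 → (∀ (c : F) (v : Fin 2 → F), v ≠ 0 → (g : Matrix (Fin 2) (Fin 2) F).mulVec v ≠ c • v) → χ g = 0) := by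
  classical
  have hχc := Cfsg.Agent.Lib.Helper3_CharBridge.isCharacter_of_isIrrCharacter hχ
  constructor
  · intro hdeg h01 h10 hne
    rcases Nat.lt_or_ge (Fintype.card F) 3 with hq | hq
    · exfalso
      have h2 : Fintype.card F = 2 := by
        have := Fintype.one_lt_card (α := F)
        omega
      have hdet := g.det_ne_zero
      rw [Matrix.det_fin_two, h01, h10] at hdet
      simp only [mul_zero, sub_zero] at hdet
      have h00 := left_ne_zero_of_mul hdet
      have h11 := right_ne_zero_of_mul hdet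
      have hcu : Fintype.card Fˣ = 1 := by rw [Fintype.card_units, h2]
      have hsub : Subsingleton Fˣ := Fintype.card_le_one_iff_subsingleton.1 hcu.le
      have := congrArg Units.val (Subsingleton.elim (Units.mk0 _ h00) (Units.mk0 _ h11))
      exact hne this
    · have hu := (Cfsg.Agent.S2310.result hq χ hχ (uMat 1) (uMat_val 1)).2.2.1 hdeg
      have hgB : g ∈ Borel F := (mem_borel_iff g).2 h10
      exact cuspidal_vanish (resB χ) (isCharacter_resB hχc) hdeg hu ⟨g, hgB⟩ hne
  · intro hdeg hnoeig
    have : Fintype (Matrix.GeneralLinearGroup (Fin 2) F) := Fintype.ofFinite _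
    obtain ⟨μ, hμ, hμ1, hμu, hres, hind⟩ :=
      exists_series χ hχ (sum_unipotent_ne_zero χ hχ (Or.inr hdeg))
    have h0 : (Cfsg.indFun (Borel F) μ - χ) 1 = 0 := by
      rw [Pi.sub_apply, indFun_one, hμ1, hdeg]
      ring
    have hz := eq_zero_of_isCharacter_of_one_eq_zero hind h0
    have hg := congrFun hz g
    rw [Pi.sub_apply, indFun_eq_zero_of_no_eigenvector μ g hnoeig] at hg
    simpa using hg

end Cfsg.Agent.S2309
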