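import Cfsg.Statements.S2314
import Cfsg.Agent.Lib.Helper81_PC_MAIN
import Cfsg.Agent.Lib.Helper8_PC_HK

set_option autoImplicit false
open Cfsg

namespace Cfsg.Agent.S2314

open Cfsg.Lie Cfsg.Agent.Lib.Helper81_BNSteinberg Cfsg.Agent.Lib.Helper81_ChevSt
  Cfsg.Agent.Lib.Helper81_ChevLenBN Cfsg.Agent.Lib.Helper81_BNIndex
  Cfsg.Agent.Lib.Helper6_Word Cfsg.Agent.Lib.Helper6_BNPair Cfsg.Agent.Lib.Helper81_CoxComb
  Cfsg.Agent.Lib.Helper81_PCount Cfsg.Agent.Lib.Helper81_PCountChev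

/-- Steinberg's count of unipotent elements: in a Chevalley group of type G₂, B₂, D₄, F₄, E₆, E₇ or E₈ over a finite field of characteristic p with q elements, the number of elements of p-power order is q^(2N), N the number of positive roots — the square of the order of a Sylow p-subgroup. -/
theorem result {F : Type*} [Field F] [Fintype F] (p : ℕ) [Fact p.Prime] [CharP F p] (D : Cfsg.Lie.ChevalleyDatum) (hD : D ∈ [Cfsg.Lie.chevG2, Cfsg.Lie.chevB2, Cfsg.Lie.chevD4, Cfsg.Lie.chevF4, Cfsg.Lie.chevE6, Cfsg.Lie.chevE7, Cfsg.Lie.chevE8]) :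
    Nat.card {g : ↥(D.group F) // ∃ k : ℕ, orderOf g = p ^ k} = Fintype.card F ^ (2 * (D.nroots / 2)) := by
  classical
  obtain ⟨Ns, w, d, Ts, hT, K, base, stepT, wl, ws, sc, c, tc, gc, pc, ac⟩ :=
    Cfsg.Agent.Lib.Helper18_ChevData5.exists_cert5 D hD
  have hR2 : Cfsg.Agent.Lib.Helper18_ChevUni.R2All D F := Cfsg.Agent.Lib.Helper18_ChevComm2.r2_all c pc
  have hdesc := Cfsg.Agent.Lib.Helper18_ChevJCerts.descent_all D hD
  obtain ⟨P, hB, hN, hS⟩ := Cfsg.Agent.Lib.Helper18_ChevBNPair.exists_bnPair c tc ac gc hR2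
  obtain ⟨Q, hQ⟩ := Cfsg.Agent.Lib.Helper18_ChevSylow.exists_sylow p c tc ac gc hdesc hR2
  have hUG := Cfsg.Agent.Lib.Helper18_ChevGL.posUnipotent_le_group (F := F) c
  have hcard : Nat.card (Q : Subgroup ↥(D.group F)) = Fintype.card F ^ (D.nroots / 2) := by
    rw [hQ, Nat.card_congr (Subgroup.subgroupOfEquivOfLe hUG).toEquiv]
    exact Cfsg.Agent.Lib.Helper18_ChevUni.card_posUnipotent c tc ac hR2
  have : Fintype ↥(D.group F) := Fintype.ofFinite _
  have hspec := fun (J : Finset ℕ) (hJ : J ⊆ Finset.range D.rank) =>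
    unipotentRadical_spec P hB hN hS c tc ac gc hdesc hR2 J hJ
  have hUB : (Q : Subgroup ↥(D.group F)) ≤ P.B := by
    rw [hQ, hB]
    intro x hx
    rw [Subgroup.mem_subgroupOf] at hx ⊢
    exact Subgroup.mem_sup_left hx
  have hBU : ∀ b ∈ P.B, ∃ u ∈ (Q : Subgroup ↥(D.group F)), ∃ t ∈ P.B ⊓ P.N, b = u * t := by
    intro b hb
    rw [hB, Subgroup.mem_subgroupOf] at hb
    obtain ⟨u, hu, h, hh, e⟩ := Cfsg.Agent.Lib.Helper18_ChevBN.exists_mul_of_mem_sup _ _
      (Cfsg.Agent.Lib.Helper18_ChevBorel.diagonal_le_normalizer_pos c tc) hb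
    have hhG : h ∈ D.group F := Cfsg.Agent.Lib.Helper18_ChevGL.diagonal_le_group c hh
    refine ⟨⟨u, hUG hu⟩, ?_, ⟨h, hhG⟩, ?_, ?_⟩
    · rw [hQ, Subgroup.mem_subgroupOf]
      exact hu
    · rw [Subgroup.mem_inf, hB, hN, Subgroup.mem_subgroupOf, Subgroup.mem_subgroupOf]
      exact ⟨Subgroup.mem_sup_right hh, Cfsg.Agent.Lib.Helper18_ChevMono.diagonal_le_monomial hh⟩
    · apply Subtype.ext
      exact e
  have hmain := card_pElements P p (sG c) (Finset.range D.rank) (sG_image c P hS) Q hUB hBU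
    (fun J => (D.unipotentRadical F (J : Set ℕ)).subgroupOf (D.group F))
    (fun J hJ => by rw [hQ]; exact (hspec J hJ).1)
    (fun J hJ => (hspec J hJ).2.1)
    (fun J hJ n hn hd u hu => by
      rw [hQ] at hu
      exact (hspec J hJ).2.2 n hn hd u hu)
  rw [← steinberg_eq c P hB, Cfsg.Agent.Lib.Helper81_ChevStDeg.steinberg_one D hD, hcard] at hmain
  have h2 : ((Nat.card {g : ↥(D.group F) // ∃ k : ℕ, orderOf g = p ^ k} : ℕ) : ℂ) =
      ((Fintype.card F ^ (2 * (D.nroots / 2)) : ℕ) : ℂ) := by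
    rw [hmain]
    push_cast
    rw [two_mul, pow_add]
  exact_mod_cast h2

end Cfsg.Agent.S2314
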