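import Cfsg.Statements.S2315
import Cfsg.Agent.Lib.Helper43_Jordan4
import Cfsg.Agent.Lib.Helper43_NilCount3

set_option autoImplicit false
open Cfsg

namespace Cfsg.Agent.S2315

open Cfsg.Agent.Lib.Helper43_Jordan Cfsg.Agent.Lib.Helper43_NilCount

/-- Steinberg's count of unipotent elements for the general linear group: over a finite field with q elements of characteristic p, the number of elements of GL_n of p-power order (the unipotent matrices) is q^(n(n−1)). -/
theorem result {F : Type*} [Field F] [Fintype F] (p : ℕ) [Fact p.Prime] [CharP F p] (n : ℕ) :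
    Nat.card {g : Matrix.GeneralLinearGroup (Fin n) F // ∃ k : ℕ, orderOf g = p ^ k} = Fintype.card F ^ (n * (n - 1)) := by
  have h := nilCount_eq (F := F) n (Fin n → F) (Module.finrank_fin_fun F)
  rw [← h]
  unfold nilCount
  apply Nat.card_eq_of_bijective
    (fun g : {g : Matrix.GeneralLinearGroup (Fin n) F // ∃ k : ℕ, orderOf g = p ^ k} =>
      (⟨Nof g.1, (isNilpotent_Nof_iff p g.1).2 g.2⟩ :
        {N : Module.End F (Fin n → F) // IsNilpotent N}))
  constructor
  · intro g g' hgg
    have h1 : Nof g.1 = Nof g'.1 := congrArg Subtype.val hgg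
    unfold Nof at h1
    have h2 := (Matrix.toLinAlgEquiv' (R := F) (n := Fin n)).injective h1
    apply Subtype.ext
    apply Units.ext
    exact sub_left_injective h2
  · rintro ⟨N, hN⟩
    obtain ⟨g, hg⟩ := exists_Nof_eq N hN
    refine ⟨⟨g, (isNilpotent_Nof_iff p g).1 (by rw [hg]; exact hN)⟩, ?_⟩
    exact Subtype.ext hg

end Cfsg.Agent.S2315
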