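import Cfsg.Statements.S2316
import Cfsg.Agent.Lib.Helper81_PC_MAIN
import Cfsg.Agent.Lib.Helper53_S2316_BLK
import Cfsg.Agent.Lib.Helper31_S2316_BLKPRES
import Cfsg.Agent.Lib.Helper21_S2316_HK
import Cfsg.Agent.Lib.Helper63_S2316_PAR
import Cfsg.Agent.Lib.Helper89_S2316_RADJ
import Cfsg.Agent.Lib.Helper17_S2316_SYL
import Cfsg.Agent.Lib.Helper43_S2316_USPEQ
import Cfsg.Agent.Lib.Helper31_S2316_DSP
import Cfsg.Agent.Lib.Helper34_S2316_REV
import Cfsg.Agent.Lib.Helper26_S2316_STONE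

set_option autoImplicit false
open Cfsg

namespace Cfsg.Agent.S2316

open Matrix Cfsg.Agent.Lib.Helper68_MatGrp Cfsg.Agent.Lib.Helper5_SpPerfect
  Cfsg.Agent.Lib.Helper68_StSpDefs Cfsg.Agent.Lib.Helper68_StSp Cfsg.Agent.Lib.Helper44_SpUT
  Cfsg.Agent.Lib.Helper68_StAbs Cfsg.Agent.Lib.Helper6_Word Cfsg.Agent.Lib.Helper6_BNPair
  Cfsg.Agent.Lib.Helper81_BNSteinberg Cfsg.Agent.Lib.Helper81_BNIndex Cfsg.Agent.Lib.Helper81_BNBorel
  Cfsg.Agent.Lib.Helper30_S2316 Cfsg.Agent.Lib.Helper2_StSp_CARDB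

theorem card_zero {F : Type*} [Field F] [Fintype F] (p : ℕ) :
    Nat.card {g : ↥(Matrix.symplecticGroup (Fin 0) F) // ∃ k : ℕ, orderOf g = p ^ k} = 1 := by
  have : Subsingleton ↥(Matrix.symplecticGroup (Fin 0) F) :=
    ⟨fun a b => Subtype.ext (Subsingleton.elim _ _)⟩
  rw [Nat.card_eq_one_iff_unique]
  exact ⟨inferInstance, ⟨⟨1, 0, by rw [orderOf_one, pow_zero]⟩⟩⟩

theorem main {F : Type*} [Field F] [Fintype F] (p : ℕ) [Fact p.Prime] [CharP F p] (m : ℕ) (hm : 0 < m) :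
    Nat.card {g : ↥(Matrix.symplecticGroup (Fin m) F) // ∃ k : ℕ, orderOf g = p ^ k} =
      Fintype.card F ^ (2 * m ^ 2) := by
  classical
  have : Fintype ↥(symplecticGroup (Fin m) F) := Fintype.ofFinite _
  obtain ⟨f, hf⟩ := FiniteField.card F p
  obtain ⟨U, hU⟩ := exists_sylow_Sp (m := m) (F := F) hf.2
  have hs : ss '' ((Finset.univ : Finset (Fin m)) : Set (Fin m)) =
      (bnPair (spRDat (F := F) hm)).S := by
    rw [Finset.coe_univ, Set.image_univ]
    rfl
  have key := Cfsg.Agent.Lib.Helper81_PCount.card_pElements (bnPair (spRDat (F := F) hm)) p ss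
    Finset.univ hs U
    (by rw [hU]; exact USp_le_Bsp)
    (by
      intro b hb
      obtain ⟨u, hu, t, ht, e⟩ := exists_USp_mul_Tsp (m := m) (F := F) hb
      refine ⟨u, by rw [hU]; exact hu, t, ?_, e⟩
      show t ∈ Bsp m F ⊓ Nsp m F
      rw [Bsp_inf_Nsp]
      exact ht)
    (fun J => KJ m F J)
    (by
      intro J _
      rw [hU, USp_eq_UU]
      exact UU_le_UU (φ m F) (fun a b hab => blk_mono J hab))
    (by
      intro J _ g hg k hk
      exact conj_mem_KJ (parabolic_le_PJ hm J hg) hk)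
    (by
      intro J _ n hnP hdesc u hu
      obtain ⟨σ, hσ⟩ := Nsp_le_Msp n.2
      have hP : (n : ↥(symplecticGroup (Fin m) F)) ∈ PJ m F J := parabolic_le_PJ hm J hnP
      have hsw : ∀ a, σ⁻¹ (Sum.swap a) = Sum.swap (σ⁻¹ a) := by
        intro a
        have h1 := mono_swap hσ (σ⁻¹ a)
        rw [perm_apply_inv] at h1
        rw [← h1, perm_inv_apply]
      have hinv : ∀ j ∈ J,
          (∀ h : j.val + 1 < m, ht m (σ⁻¹ (Sum.inl ⟨j.val + 1, h⟩)) < ht m (σ⁻¹ (Sum.inl j))) ∧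
          (¬ j.val + 1 < m → ht m (σ⁻¹ (Sum.inr j)) < ht m (σ⁻¹ (Sum.inl j))) := by
        intro j hj
        exact inv_of_descent hm n hσ j (hdesc ⟨ss j, (spRDat (F := F) hm).s_mem j⟩ ⟨j, hj, rfl⟩)
      have hadj := fun a b => rev_adj (J := J) σ⁻¹ hsw (fun j hj => (hinv j hj).1)
        (fun j hj => (hinv j hj).2) (a := a) (b := b)
      refine mem_KJ_iff_conj hσ (mono_blk hσ hP)
        (fun a b hlt hb => rev_of_adj σ⁻¹ hadj hlt hb) (fun a b hab => blk_mono J hab) ?_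
      rw [← USp_eq_UU, ← hU]
      exact hu)
  rw [St_one_sp p hm, hU, card_USp] at key
  have h2 : Nat.card {g : ↥(Matrix.symplecticGroup (Fin m) F) // ∃ k : ℕ, orderOf g = p ^ k} =
      Fintype.card F ^ m ^ 2 * Fintype.card F ^ m ^ 2 := by exact_mod_cast key
  rw [h2, ← pow_add]
  congr 1
  ring

/-- Steinberg's count of unipotent elements for the symplectic group: over a finite field with q elements of characteristic p, the number of elements of Sp_{2m} of p-power order is q^(2m²). -/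
theorem result {F : Type*} [Field F] [Fintype F] (p : ℕ) [Fact p.Prime] [CharP F p] (m : ℕ) :
    Nat.card {g : ↥(Matrix.symplecticGroup (Fin m) F) // ∃ k : ℕ, orderOf g = p ^ k} = Fintype.card F ^ (2 * m ^ 2) := by
  rcases Nat.eq_zero_or_pos m with rfl | hm
  · rw [card_zero]
    simp
  · exact main p m hm

end Cfsg.Agent.S2316
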