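import Cfsg.Statements.S2320
import Cfsg.Agent.S2310
import Cfsg.Agent.Lib.Helper39_GL2Series

set_option autoImplicit false
open Cfsg

namespace Cfsg.Agent.S2320

open Cfsg.Agent.Lib.Helper39_GL2Char Cfsg.Agent.Lib.Helper39_CharTools
  Cfsg.Agent.Lib.Helper39_GL2Borel Cfsg.Agent.Lib.Helper39_GL2Series

/-- Over a finite field F with q elements, every irreducible complex character of GL₂ of degree q takes a value of absolute value 1 at every diagonal matrix with two different diagonal entries and at every element with no eigenvector in F². -/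
theorem result {F : Type*} [Field F] [Fintype F] (χ : Matrix.GeneralLinearGroup (Fin 2) F → ℂ) (hχ : Cfsg.IsIrrCharacter (Matrix.GeneralLinearGroup (Fin 2) F) χ) (hdeg : χ 1 = (Fintype.card F : ℂ)) (g : Matrix.GeneralLinearGroup (Fin 2) F) :
    ((g : Matrix (Fin 2) (Fin 2) F) 0 1 = 0 → (g : Matrix (Fin 2) (Fin 2) F) 1 0 = 0 → (g : Matrix (Fin 2) (Fin 2) F) 0 0 ≠ (g : Matrix (Fin 2) (Fin 2) F) 1 1 → ‖χ g‖ = 1) ∧
    ((∀ (c : F) (v : Fin 2 → F), v ≠ 0 → (g : Matrix (Fin 2) (Fin 2) F).mulVec v ≠ c • v) → ‖χ g‖ = 1) := by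
  classical
  have hχc := Cfsg.Agent.Lib.Helper3_CharBridge.isCharacter_of_isIrrCharacter hχ
  have : Fintype (Matrix.GeneralLinearGroup (Fin 2) F) := Fintype.ofFinite _
  obtain ⟨μ, hμ, hμ1, hμu, hres, hind⟩ :=
    exists_series χ hχ (sum_unipotent_ne_zero χ hχ (Or.inl hdeg))
  constructor
  · intro h01 h10 hne
    rcases Nat.lt_or_ge (Fintype.card F) 3 with hq | hq
    · exfalso
      have h2 : Fintype.card F = 2 := by
        have := Fintype.one_lt_card (α := F)
        omega
      have hdet := g.det_ne_zero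
      rw [Matrix.det_fin_two, h01, h10] at hdet
      simp only [mul_zero, sub_zero] at hdet
      have h00 := left_ne_zero_of_mul hdet
      have h11 := right_ne_zero_of_mul hdet
      have hcu : Fintype.card Fˣ = 1 := by rw [Fintype.card_units, h2]
      have hsub : Subsingleton Fˣ := Fintype.card_le_one_iff_subsingleton.1 hcu.le
      have := congrArg Units.val (Subsingleton.elim (Units.mk0 _ h00) (Units.mk0 _ h11))
      exact hne this
    · have hu := (Cfsg.Agent.S2310.result hq χ hχ (uMat 1) (uMat_val 1)).2.2.2 hdeg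
      have hgB : g ∈ Borel F := (mem_borel_iff g).2 h10
      have hv := cuspidal_vanish (resB χ - μ) hres
        (by rw [Pi.sub_apply, resB_apply, hμ1, OneMemClass.coe_one, hdeg])
        (by rw [Pi.sub_apply, resB_apply, hμu, uB_coe, hu]; ring) ⟨g, hgB⟩ hne
      rw [Pi.sub_apply, resB_apply, sub_eq_zero] at hv
      change χ g = _ at hv
      rw [hv]
      exact norm_linear_eq_one hμ hμ1 _
  · intro hnoeig
    have h1 : (Cfsg.indFun (Borel F) μ - χ) 1 = 1 := by
      rw [Pi.sub_apply, indFun_one, hμ1, hdeg]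
      ring
    have hn := norm_linear_eq_one hind h1 g
    rw [Pi.sub_apply, indFun_eq_zero_of_no_eigenvector μ g hnoeig, zero_sub, norm_neg] at hn
    exact hn

end Cfsg.Agent.S2320
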