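import Cfsg.Statements.S2321
import Cfsg.Agent.Lib.Helper39_SL2Steinberg

set_option autoImplicit false
open Cfsg

namespace Cfsg.Agent.S2321

open Matrix Cfsg.Agent.Lib.Helper39_SL2Borel Cfsg.Agent.Lib.Helper39_SL2Ind
  Cfsg.Agent.Lib.Helper39_SL2Steinberg

/-- Over a finite field F with q elements, an irreducible complex character of SL₂ of degree q (the Steinberg character) takes the value 1 at every diagonal matrix whose diagonal entry a has a² ≠ 1, the value −1 at every element with no eigenvector in F², and the value 0 at every upper triangular matrix with equal diagonal entries and non-zero upper right entry. -/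
theorem result {F : Type*} [Field F] [Fintype F] (χ : Matrix.SpecialLinearGroup (Fin 2) F → ℂ) (hχ : Cfsg.IsIrrCharacter (Matrix.SpecialLinearGroup (Fin 2) F) χ) (hdeg : χ 1 = (Fintype.card F : ℂ)) (g : Matrix.SpecialLinearGroup (Fin 2) F) :
    ((g : Matrix (Fin 2) (Fin 2) F) 0 1 = 0 → (g : Matrix (Fin 2) (Fin 2) F) 1 0 = 0 → (g : Matrix (Fin 2) (Fin 2) F) 0 0 ^ 2 ≠ 1 → χ g = 1) ∧
    ((∀ (c : F) (v : Fin 2 → F), v ≠ 0 → (g : Matrix (Fin 2) (Fin 2) F).mulVec v ≠ c • v) → χ g = -1) ∧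
    ((g : Matrix (Fin 2) (Fin 2) F) 1 0 = 0 → (g : Matrix (Fin 2) (Fin 2) F) 0 0 = (g : Matrix (Fin 2) (Fin 2) F) 1 1 → (g : Matrix (Fin 2) (Fin 2) F) 0 1 ≠ 0 → χ g = 0) := by
  classical
  have : Fintype (Matrix.SpecialLinearGroup (Fin 2) F) := Fintype.ofFinite _
  obtain ⟨α, hα, hval⟩ := steinberg_eq χ hχ hdeg
  have hαu : ∀ x : F, x ≠ 0 → α x = 1 := by
    intro x hx
    have := hα (b1Mat (Units.mk0 x hx) 0)
    rw [aFun_b1Mat] at this
    exact this
  refine ⟨?_, ?_, ?_⟩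
  · intro _ h10 hsq
    have hgB : g ∈ B1 F := (mem_B1_iff g).2 h10
    have hne : (((⟨g, hgB⟩ : B1 F) : SpecialLinearGroup (Fin 2) F) : Matrix (Fin 2) (Fin 2) F) 0 0 ≠
        (((⟨g, hgB⟩ : B1 F) : SpecialLinearGroup (Fin 2) F) : Matrix (Fin 2) (Fin 2) F) 1 1 := by
      intro h
      apply hsq
      have hdet := B1_det (⟨g, hgB⟩ : B1 F)
      rw [← h] at hdet
      rw [sq]
      exact hdet
    have h1 := indFun_aFun_regular α (⟨g, hgB⟩ : B1 F) hne
    rw [hval g]
    change Cfsg.indFun (B1 F) (aFun α) g = _ at h1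
    rw [h1, hαu _ (B1_00_ne_zero _), hαu]
    · norm_num
    · rw [B1_11_eq_inv]
      exact inv_ne_zero (B1_00_ne_zero _)
  · intro h
    rw [hval g, indFun_eq_zero_of_no_eigenvector1 _ g h]
    norm_num
  · intro h10 hd h01
    have hgB : g ∈ B1 F := (mem_B1_iff g).2 h10
    have h1 := indFun_unipotent1 (isClassFunction_aFun α) (⟨g, hgB⟩ : B1 F) hd h01
    change Cfsg.indFun (B1 F) (aFun α) g = _ at h1
    rw [hval g, h1, hα]
    norm_num

end Cfsg.Agent.S2321
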