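import Cfsg.Statements.S2331
import Cfsg.Agent.Lib.Helper39_SL2

set_option autoImplicit false
open Cfsg

namespace Cfsg.Agent.S2331

open Matrix Cfsg.Agent.Lib.Helper39_GL2 Cfsg.Agent.Lib.Helper39_SL2

variable {F : Type*} [Field F]

/-- Representatives of the conjugacy classes of `SL₂` in characteristic two. -/
def rep : Option F → Matrix.SpecialLinearGroup (Fin 2) F
  | none => 1
  | some t => companionSL t

theorem rep_bijective [Finite F] [CharP F 2] :
    Function.Bijective (fun x : Option F => ConjClasses.mk (rep x)) := by
  constructor
  · intro x y hxy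
    simp only [ConjClasses.mk_eq_mk_iff_isConj] at hxy
    rcases x with _ | t <;> rcases y with _ | t'
    · rfl
    · exfalso
      have h : companionSL t' = 1 := isConj_one_right.1 hxy
      have h2 := congrArg (fun g : Matrix.SpecialLinearGroup (Fin 2) F => (g : Matrix (Fin 2) (Fin 2) F) 1 0) h
      simp [companion] at h2
    · exfalso
      have h : companionSL t = 1 := isConj_one_left.1 hxy
      have h2 := congrArg (fun g : Matrix.SpecialLinearGroup (Fin 2) F => (g : Matrix (Fin 2) (Fin 2) F) 1 0) h
      simp [companion] at h2
    · have h1 := trace_eq_of_isConj hxy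
      simp only [rep, companionSL_val, companion_trace] at h1
      rw [h1]
  · intro c
    obtain ⟨g, rfl⟩ := ConjClasses.exists_rep c
    by_cases hg : IsScalar (g : Matrix (Fin 2) (Fin 2) F)
    · obtain ⟨a, ha⟩ := (isScalar_iff _).1 hg
      have hdet : (g : Matrix (Fin 2) (Fin 2) F).det = 1 := g.2
      rw [ha] at hdet
      have h2 : (2 : F) = 0 := CharP.cast_eq_zero F 2
      have ha1 : a = 1 := by
        simp at hdet
        rcases hdet with h | h
        · exact h
        · rw [h]; linear_combination (-1 : F) * h2
      refine ⟨none, ?_⟩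
      simp only [rep]
      congr 1
      apply Subtype.ext
      rw [ha, ha1]
      simp
    · refine ⟨some (g : Matrix (Fin 2) (Fin 2) F).trace, ?_⟩
      simp only [rep, ConjClasses.mk_eq_mk_iff_isConj]
      apply IsConj.symm
      apply isConj_companionSL g hg
      intro e _
      have hF : ringChar F = 2 := ringChar.eq F 2
      obtain ⟨x, hx⟩ := FiniteField.isSquare_of_char_two hF e
      exact ⟨x, 0, by rw [hx]; ring⟩

theorem result {F : Type*} [Field F] [Fintype F] [CharP F 2] :
    Nat.card (ConjClasses (Matrix.SpecialLinearGroup (Fin 2) F)) = Fintype.card F + 1 := by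
  rw [← Nat.card_eq_of_bijective _ (rep_bijective (F := F))]
  rw [Nat.card_eq_fintype_card, Fintype.card_option]

end Cfsg.Agent.S2331
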