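import Cfsg.Statements.S2332
import Cfsg.Agent.Lib.Helper77_SLnDefs
import Cfsg.Agent.Lib.Helper77_SLnPkg
import Cfsg.Agent.Lib.Helper77_SLnSecond
import Cfsg.Agent.Lib.Helper77_SLnMain
import Cfsg.Agent.Lib.Helper16_Orbit

set_option autoImplicit false
open Cfsg

namespace Cfsg.Agent.S2332

open Cfsg.Agent.Lib.Helper77_SLnDefs Cfsg.Agent.Lib.Helper77_SLnPkg
  Cfsg.Agent.Lib.Helper77_SLnMain Cfsg.Agent.Lib.Helper77_SLnSecond

theorem exists_cast {G : Type*} [Group G] (k k' : ℕ) (h : k = k')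
    (hk : ∃ ρ : Representation ℂ G (Fin k → ℂ), ρ.IsIrreducible) :
    ∃ ρ : Representation ℂ G (Fin k' → ℂ), ρ.IsIrreducible := by
  subst h
  exact hk

/-- Smallest degree of a non-linear irreducible complex representation of SL_n over a finite field with q elements, for n ≥ 3 and (n, q) not one of (3, 2), (3, 4), (4, 2), (4, 3): every irreducible complex representation of SL_n(F) of degree at least 2 has degree at least (q^n − q)/(q − 1), and there is an irreducible complex representation of exactly that degree. -/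
theorem result {F : Type*} [Field F] [Fintype F] [DecidableEq F] (n : ℕ) (hn : 3 ≤ n)
    (hex : (n, Fintype.card F) ≠ (3, 2) ∧ (n, Fintype.card F) ≠ (3, 4) ∧ (n, Fintype.card F) ≠ (4, 2) ∧ (n, Fintype.card F) ≠ (4, 3)) :
    (∀ (k : ℕ) (ρ : Representation ℂ (Matrix.SpecialLinearGroup (Fin n) F) (Fin k → ℂ)), ρ.IsIrreducible → 2 ≤ k → (Fintype.card F ^ n - Fintype.card F) / (Fintype.card F - 1) ≤ k) ∧
    (∃ ρ : Representation ℂ (Matrix.SpecialLinearGroup (Fin n) F) (Fin ((Fintype.card F ^ n - Fintype.card F) / (Fintype.card F - 1)) → ℂ), ρ.IsIrreducible) := by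
  have hq2 : 2 ≤ Fintype.card F := Fintype.one_lt_card
  have hform := nn_form (Fintype.card F) n hq2 (by omega)
  obtain ⟨h1, h2, h3, h4⟩ := hex
  have hex' : ¬ ((n = 3 ∧ Fintype.card F = 2) ∨ (n = 3 ∧ Fintype.card F = 4) ∨
      (n = 4 ∧ Fintype.card F = 2) ∨ (n = 4 ∧ Fintype.card F = 3)) := by
    rintro (⟨a, b⟩ | ⟨a, b⟩ | ⟨a, b⟩ | ⟨a, b⟩)
    · exact h1 (by rw [a, b])
    · exact h2 (by rw [a, b])
    · exact h3 (by rw [a, b])
    · exact h4 (by rw [a, b])
  have hmin := minDeg_main (F := F) n hn hex'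
  constructor
  · intro k ρ hirr hk
    rw [hform]
    have := hmin (Fin n) (by simp) (Fin k → ℂ) ρ hirr (by rw [Module.finrank_fin_fun]; exact hk)
    rwa [Module.finrank_fin_fun] at this
  · obtain ⟨ρ0, hρ0⟩ := exists_irr_deg (F := F) (κ := Fin (n - 1)) (by simp; omega)
    have hcard : Fintype.card (Fin n) = Fintype.card (Unit ⊕ Fin (n - 1)) := by simp; omega
    let σ : Fin n ≃ Unit ⊕ Fin (n - 1) := Fintype.equivOfCardEq hcard
    have : ρ0.IsIrreducible := hρ0
    refine exists_cast _ _ ?_ ⟨ρ0.comp (slReindex (F := F) σ).toMonoidHom,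
      Cfsg.Agent.Lib.Helper16_Orbit.irreducible_comp ρ0 _ (slReindex (F := F) σ).surjective⟩
    rw [hform]
    simp only [Fintype.card_fin]
    rw [show n - 1 + 1 = n by omega]

end Cfsg.Agent.S2332
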