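import Cfsg.Statements.S2333
import Cfsg.Agent.Lib.Helper30_S2333Main
import Cfsg.Agent.Lib.Helper30_S2333Core
import Cfsg.Agent.Lib.Helper84_S2333_KER

set_option autoImplicit false
open Cfsg

namespace Cfsg.Agent.S2333

open Matrix Module
open Cfsg.Agent.Lib.Helper5_SpPerfect Cfsg.Agent.Lib.Helper81_SpWeights

/-- For a finite field F of even order q and n ≥ 2 with (n, q) ≠ (2, 2), every irreducible complex representation of the symplectic group Sp_{2n}(F) of degree at least 2 has degree at least (q^n − 1)(q^n − q)/(2(q + 1)). -/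
theorem result {F : Type*} [Field F] [Fintype F] [DecidableEq F] (n : ℕ) (hn : 2 ≤ n) (heven : Even (Fintype.card F)) (hex : (n, Fintype.card F) ≠ (2, 2)) :
    (∀ (k : ℕ) (ρ : Representation ℂ (Matrix.symplecticGroup (Fin n) F) (Fin k → ℂ)), ρ.IsIrreducible → 2 ≤ k → (Fintype.card F ^ n - 1) * (Fintype.card F ^ n - Fintype.card F) / (2 * (Fintype.card F + 1)) ≤ k) := by
  classical
  intro k ρ hirr hk
  -- characteristic two
  have hchar : ringChar F = 2 := by
    rw [FiniteField.even_card_iff_char_two]
    exact Nat.even_iff.mp heven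
  have h2 : (2 : F) = 0 := by
    have : ((2 : ℕ) : F) = 0 := by
      rw [ringChar.spec, hchar]
    exact_mod_cast this
  have hq2 : 2 ≤ Fintype.card F := Fintype.one_lt_card
  have hq : n = 2 → 3 ≤ Fintype.card F := by
    intro hn2
    have : Fintype.card F ≠ 2 := by
      intro h
      apply hex
      rw [hn2, h]
    omega
  -- the kernel is central
  have hker : (ρ : Matrix.symplecticGroup (Fin n) F →* Module.End ℂ (Fin k → ℂ)).ker ≤
      Subgroup.center (Matrix.symplecticGroup (Fin n) F) := by
    rcases Cfsg.Agent.Lib.Helper84_S2333_KER.normal_eq_top_or_le_center hn hq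
      (ρ : Matrix.symplecticGroup (Fin n) F →* Module.End ℂ (Fin k → ℂ)).ker with htop | hle
    · exfalso
      have hall : ∀ g, ρ g = 1 := fun g => by
        have : g ∈ (ρ : Matrix.symplecticGroup (Fin n) F →* Module.End ℂ (Fin k → ℂ)).ker := by
          rw [htop]; exact Subgroup.mem_top g
        exact MonoidHom.mem_ker.mp this
      let j0 : Fin k := ⟨0, by omega⟩
      let j1 : Fin k := ⟨1, by omega⟩
      let σ : Subrepresentation ρ :=
        ⟨Submodule.span ℂ {(Pi.single j0 1 : Fin k → ℂ)}, fun g v hv => by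
          rw [hall g]; exact hv⟩
      rcases hirr.eq_bot_or_eq_top σ with h | h
      · have h1 : (Pi.single j0 1 : Fin k → ℂ) ∈ σ.toSubmodule :=
          Submodule.mem_span_singleton_self _
        rw [h] at h1
        have h2 : (Pi.single j0 1 : Fin k → ℂ) = 0 := (Submodule.mem_bot ℂ).mp h1
        have := congrFun h2 j0
        simp at this
      · have h1 : (Pi.single j1 1 : Fin k → ℂ) ∈ σ.toSubmodule := by
          rw [h]; exact Submodule.mem_top
        obtain ⟨a, ha⟩ := Submodule.mem_span_singleton.mp h1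
        have := congrFun ha j1
        have hne : j1 ≠ j0 := by
          intro h0
          have := congrArg Fin.val h0
          simp [j0, j1] at this
        simp [Pi.single_eq_of_ne hne] at this
    · exact hle
  -- a Siegel element with zero diagonal acts non-trivially
  obtain ⟨i0, i1, h01⟩ : ∃ i0 i1 : Fin n, i0 ≠ i1 :=
    ⟨⟨0, by omega⟩, ⟨1, by omega⟩, by
      intro h0
      have := congrArg Fin.val h0
      simp at this⟩
  let S₁ : symSub n F := ⟨single i0 i1 1 + single i1 i0 1, by
    show (single i0 i1 (1 : F) + single i1 i0 1)ᵀ = _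
    rw [Matrix.transpose_add, Matrix.transpose_single, Matrix.transpose_single, add_comm]⟩
  have hS₁ne : S₁ ≠ 0 := by
    intro h0
    have h1 : (single i0 i1 (1 : F) + single i1 i0 1 : Matrix (Fin n) (Fin n) F) i0 i1 = 0 := by
      have := congrArg (fun S : symSub n F => S.1 i0 i1) h0
      exact this
    simp [h01, h01.symm] at h1
  have hS₁d : ∀ i, S₁.1 i i = 0 := by
    intro i
    show (single i0 i1 (1 : F) + single i1 i0 1 : Matrix (Fin n) (Fin n) F) i i = 0
    simp only [Matrix.add_apply, Matrix.single_apply]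
    by_cases h : i0 = i
    · subst h
      simp [h01.symm]
    · simp [h]
  have hnt : ρ (xs S₁) ≠ 1 := by
    intro h1
    have : xs S₁ ∈ (ρ : Matrix.symplecticGroup (Fin n) F →* Module.End ℂ (Fin k → ℂ)).ker :=
      MonoidHom.mem_ker.mpr h1
    exact Cfsg.Agent.Lib.Helper84_S2333_KER.xs_not_mem_center S₁ hS₁ne (hker this)
  obtain ⟨f₀, hpol, hle⟩ := Cfsg.Agent.Lib.Helper30_S2333Core.core_even (K := ℂ) (M := Fin k → ℂ) h2 two_ne_zero
    (ρ : Matrix.symplecticGroup (Fin n) F →* Module.End ℂ (Fin k → ℂ)) S₁ hS₁d hnt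
  rw [Module.finrank_fin_fun] at hle
  have hb := Cfsg.Agent.Lib.Helper30_S2333Main.orbit_bound h2 n (Fin n → F) f₀ (Module.finrank_fin_fun F) hpol
  apply Nat.div_le_of_le_mul
  exact le_trans hb (Nat.mul_le_mul_left _ hle)

end Cfsg.Agent.S2333
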