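import Cfsg.Statements.S2335
import Cfsg.Agent.Lib.Helper81_SUSiegel
import Cfsg.Agent.S0283

set_option autoImplicit false
open Cfsg

namespace Cfsg.Agent.S2335

open Cfsg.Agent.Lib.Helper13_Herm Cfsg.Agent.Lib.Helper5_GUOrder Cfsg.Agent.Lib.Helper5_SUOrder
  Cfsg.Agent.Lib.Helper5_SUCenter Cfsg.Agent.Lib.Helper81_HermOrbit
  Cfsg.Agent.Lib.Helper81_HermWeights Cfsg.Agent.Lib.Helper81_SUSiegel

/-- in a perfect group with simple central quotient, a normal subgroup not contained in the centre
is everything -/
theorem normal_eq_top_of_not_le_center {G : Type*} [Group G]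
    [IsSimpleGroup (G ⧸ Subgroup.center G)] (hperf : commutator G = ⊤) (N : Subgroup G)
    [N.Normal] (hN : ¬ N ≤ Subgroup.center G) : N = ⊤ := by
  have hsurj : Function.Surjective (QuotientGroup.mk' (Subgroup.center G)) :=
    QuotientGroup.mk'_surjective _
  have hnorm : (N.map (QuotientGroup.mk' (Subgroup.center G))).Normal :=
    Subgroup.Normal.map inferInstance _ hsurj
  rcases hnorm.eq_bot_or_eq_top with h | h
  · exfalso
    apply hN
    rw [Subgroup.map_eq_bot_iff, QuotientGroup.ker_mk'] at h
    exact h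
  · have hsup : N ⊔ Subgroup.center G = ⊤ := by
      rw [eq_top_iff]
      intro g _
      have hg : QuotientGroup.mk' (Subgroup.center G) g ∈
          N.map (QuotientGroup.mk' (Subgroup.center G)) := by
        rw [h]; exact Subgroup.mem_top _
      obtain ⟨x, hx, hxg⟩ := Subgroup.mem_map.mp hg
      have hz : x⁻¹ * g ∈ Subgroup.center G := by
        rw [← QuotientGroup.ker_mk' (Subgroup.center G), MonoidHom.mem_ker, map_mul, map_inv, hxg,
          inv_mul_cancel]
      have : g = x * (x⁻¹ * g) := by group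
      rw [this]
      exact Subgroup.mul_mem_sup hx hz
    have hle := Subgroup.Normal.commutator_le_of_self_sup_commutative_eq_top hsup inferInstance
    rw [hperf] at hle
    exact top_le_iff.mp hle

/-- For even n ≥ 4 and a finite field F with q² elements, (n, q) not (4, 2) or (4, 3), every irreducible complex representation of the special unitary group SU_n(q) (the determinant-one isometries of the standard Hermitian form over F) of degree at least 2 has degree at least (q^n − 1)/(q + 1). -/
theorem result {F : Type*} [Field F] [Fintype F] [DecidableEq F] (n q : ℕ) (hn : 4 ≤ n) (heven : Even n) (hF : Fintype.card F = q ^ 2) (hex : (n, q) ≠ (4, 2) ∧ (n, q) ≠ (4, 3)) :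
    (∀ (k : ℕ) (ρ : Representation ℂ (Cfsg.SU n F q) (Fin k → ℂ)), ρ.IsIrreducible → 2 ≤ k → (q ^ n - 1) / (q + 1) ≤ k) := by
  intro k ρ hirr hk
  classical
  obtain ⟨m, hm⟩ := heven
  have h2m : 2 * m ≤ n := by omega
  have hm2 : 2 ≤ m := by omega
  obtain ⟨C, D, hyp⟩ := exists_hyp (n := n) (m := m) hF h2m
  obtain ⟨ε, hε0, hε⟩ := exists_trace_zero hF
  obtain ⟨p, hpchar⟩ := CharP.exists F
  have := hpchar
  have hprime : p.Prime := CharP.char_is_prime F p
  have hpC : (p : ℂ) ≠ 0 := by exact_mod_cast hprime.ne_zero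
  have hb : ∃ b : F, b + powQ hF b ≠ 0 := by
    by_contra hcon
    push Not at hcon
    obtain ⟨b, hb⟩ := exists_pow_q_ne hF
    apply hb
    have h1 := hcon 1
    have h2 := hcon b
    rw [powQ_apply] at h1 h2
    rw [one_pow] at h1
    have h3 : b + b = 0 := by linear_combination b * h1
    linear_combination h2 - h3
  have hnt : ∃ H : hermAdd (powQ hF) m, ρ ((siegelData hF hyp ε hε).xs H) ≠ 1 := by
    by_contra hcon
    push Not at hcon
    have hsimple : IsSimpleGroup (Cfsg.SU n F q ⧸ Subgroup.center (Cfsg.SU n F q)) :=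
      Cfsg.Agent.S0283.result hF n (by omega) (by omega)
    have hperf : commutator ↥(Cfsg.SU n F q) = ⊤ :=
      Cfsg.Agent.S0283.su_perfect hF n (by omega) (by omega)
    obtain ⟨H, g, hg⟩ := exists_not_commute hF hyp ε hε hε0 hm2
    have hker : (ρ : ↥(Cfsg.SU n F q) →* Module.End ℂ (Fin k → ℂ)).ker = ⊤ := by
      apply normal_eq_top_of_not_le_center hperf
      intro hle
      apply hg
      have h1 : (siegelData hF hyp ε hε).xs H ∈ Subgroup.center ↥(Cfsg.SU n F q) :=
        hle (MonoidHom.mem_ker.mpr (hcon H))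
      exact Subgroup.mem_center_iff.mp h1 g
    have hall : ∀ g, ρ g = 1 := fun g => by
      have : g ∈ (ρ : ↥(Cfsg.SU n F q) →* Module.End ℂ (Fin k → ℂ)).ker := by
        rw [hker]; exact Subgroup.mem_top g
      exact MonoidHom.mem_ker.mp this
    let j0 : Fin k := ⟨0, by omega⟩
    let j1 : Fin k := ⟨1, by omega⟩
    let τ : Subrepresentation ρ :=
      ⟨Submodule.span ℂ {(Pi.single j0 1 : Fin k → ℂ)}, fun g v hv => by
        rw [hall g]; exact hv⟩
    rcases hirr.eq_bot_or_eq_top τ with h | h
    · have h1 : (Pi.single j0 1 : Fin k → ℂ) ∈ τ.toSubmodule := Submodule.mem_span_singleton_self _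
      rw [h] at h1
      have h2 : (Pi.single j0 1 : Fin k → ℂ) = 0 := (Submodule.mem_bot ℂ).mp h1
      have := congrFun h2 j0
      simp at this
    · have h1 : (Pi.single j1 1 : Fin k → ℂ) ∈ τ.toSubmodule := by
        rw [h]; exact Submodule.mem_top
      obtain ⟨a, ha⟩ := Submodule.mem_span_singleton.mp h1
      have := congrFun ha j1
      have hne : j1 ≠ j0 := by
        intro h0
        have := congrArg Fin.val h0
        simp [j0, j1] at this
      simp [Pi.single_eq_of_ne hne] at this
  have key := core_herm (powQ hF) q (two_le_q hF) (powQ_apply hF) (powQ_powQ hF) hb hm2 p hpC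
    (siegelData hF hyp ε hε) ρ hnt
  rw [Module.finrank_fin_fun, hF, ← pow_mul] at key
  have hn2 : n = 2 * m := by omega
  rw [hn2]
  apply Nat.div_le_of_le_mul
  omega

end Cfsg.Agent.S2335
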