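import Cfsg.Statements.S2334
import Cfsg.Agent.Lib.Helper81_SUSiegelOdd
import Cfsg.Agent.S0283
import Cfsg.Agent.S2335

set_option autoImplicit false
open Cfsg

namespace Cfsg.Agent.S2334

open Cfsg.Agent.Lib.Helper13_Herm Cfsg.Agent.Lib.Helper5_GUOrder Cfsg.Agent.Lib.Helper5_SUOrder
  Cfsg.Agent.Lib.Helper5_SUCenter Cfsg.Agent.Lib.Helper81_HermOrbit
  Cfsg.Agent.Lib.Helper81_HermWeights Cfsg.Agent.Lib.Helper81_SUSiegel
  Cfsg.Agent.Lib.Helper81_HermWeightsOdd Cfsg.Agent.Lib.Helper81_SUSiegelOdd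

/-- For odd n ≥ 3 and a finite field F with q² elements, (n, q) ≠ (3, 2), every irreducible complex representation of the special unitary group SU_n(q) (the determinant-one isometries of the standard Hermitian form over F) of degree at least 2 has degree at least (q^n − q)/(q + 1). -/
theorem result {F : Type*} [Field F] [Fintype F] [DecidableEq F] (n q : ℕ) (hn : 3 ≤ n) (hodd : Odd n) (hF : Fintype.card F = q ^ 2) (hex : (n, q) ≠ (3, 2)) :
    (∀ (k : ℕ) (ρ : Representation ℂ (Cfsg.SU n F q) (Fin k → ℂ)), ρ.IsIrreducible → 2 ≤ k → (q ^ n - q) / (q + 1) ≤ k) := by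
  intro k ρ hirr hk
  classical
  obtain ⟨m, hm⟩ := hodd
  have h2m : 2 * m + 1 ≤ n := by omega
  have hm1 : 1 ≤ m := by omega
  obtain ⟨C, D, E, hyp⟩ := exists_hypOdd (n := n) (m := m) hF h2m
  obtain ⟨ε, hε0, hε⟩ := exists_trace_zero hF
  obtain ⟨p, hpchar⟩ := CharP.exists F
  have := hpchar
  have hb : ∃ b : F, b + powQ hF b ≠ 0 := by
    by_contra hcon
    push Not at hcon
    obtain ⟨b, hb⟩ := exists_pow_q_ne hF
    apply hb
    have h1 := hcon 1
    have h2 := hcon b
    rw [powQ_apply] at h1 h2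
    rw [one_pow] at h1
    have h3 : b + b = 0 := by linear_combination b * h1
    linear_combination h2 - h3
  obtain ⟨θ, hθ⟩ : ∃ θ : F, θ + θ ^ q = 1 := by
    obtain ⟨b, hb⟩ := hb
    rw [powQ_apply] at hb
    refine ⟨b / (b + b ^ q), ?_⟩
    rw [div_pow, add_pow_q hF, pow_q_pow_q hF, add_comm (b ^ q) b, ← add_div, div_self hb]
  have hεσ : powQ hF ε = -ε := by
    rw [powQ_apply]; exact eq_neg_of_add_eq_zero_right hε
  have hnt : ∃ H : hermAdd (powQ hF) m, ρ ((siegelDataOdd hF hyp ε θ hε hθ).xs H) ≠ 1 := by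
    by_contra hcon
    push Not at hcon
    have hsimple : IsSimpleGroup (Cfsg.SU n F q ⧸ Subgroup.center (Cfsg.SU n F q)) :=
      Cfsg.Agent.S0283.result hF n hn (by
        rintro ⟨h1, h2⟩
        exact hex (by rw [h1, h2]))
    have hperf : commutator ↥(Cfsg.SU n F q) = ⊤ :=
      Cfsg.Agent.S0283.su_perfect hF n hn (by
        rintro ⟨h1, h2⟩
        exact hex (by rw [h1, h2]))
    obtain ⟨H, g, hg⟩ := exists_not_commute_odd hF hyp ε θ hε hθ hε0 hm1
    have hker : (ρ : ↥(Cfsg.SU n F q) →* Module.End ℂ (Fin k → ℂ)).ker = ⊤ := by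
      apply Cfsg.Agent.S2335.normal_eq_top_of_not_le_center hperf
      intro hle
      apply hg
      have h1 : (siegelDataOdd hF hyp ε θ hε hθ).xs H ∈ Subgroup.center ↥(Cfsg.SU n F q) :=
        hle (MonoidHom.mem_ker.mpr (hcon H))
      exact Subgroup.mem_center_iff.mp h1 g
    have hall : ∀ g, ρ g = 1 := fun g => by
      have : g ∈ (ρ : ↥(Cfsg.SU n F q) →* Module.End ℂ (Fin k → ℂ)).ker := by
        rw [hker]; exact Subgroup.mem_top g
      exact MonoidHom.mem_ker.mp this
    let j0 : Fin k := ⟨0, by omega⟩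
    let j1 : Fin k := ⟨1, by omega⟩
    let τ : Subrepresentation ρ :=
      ⟨Submodule.span ℂ {(Pi.single j0 1 : Fin k → ℂ)}, fun g v hv => by
        rw [hall g]; exact hv⟩
    rcases hirr.eq_bot_or_eq_top τ with h | h
    · have h1 : (Pi.single j0 1 : Fin k → ℂ) ∈ τ.toSubmodule := Submodule.mem_span_singleton_self _
      rw [h] at h1
      have h2 : (Pi.single j0 1 : Fin k → ℂ) = 0 := (Submodule.mem_bot ℂ).mp h1
      have := congrFun h2 j0
      simp at this
    · have h1 : (Pi.single j1 1 : Fin k → ℂ) ∈ τ.toSubmodule := by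
        rw [h]; exact Submodule.mem_top
      obtain ⟨a, ha⟩ := Submodule.mem_span_singleton.mp h1
      have := congrFun ha j1
      have hne : j1 ≠ j0 := by
        intro h0
        have := congrArg Fin.val h0
        simp [j0, j1] at this
      simp [Pi.single_eq_of_ne hne] at this
  have key := core_herm_odd (powQ hF) q (two_le_q hF) (powQ_apply hF) (powQ_powQ hF) hF hb hm1 p
    ε hεσ (siegelDataOdd hF hyp ε θ hε hθ) ρ hnt
  rw [Module.finrank_fin_fun, hF, ← pow_mul, ← pow_succ'] at key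
  have hn2 : n = 2 * m + 1 := by omega
  rw [hn2]
  apply Nat.div_le_of_le_mul
  omega

end Cfsg.Agent.S2334
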