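import Cfsg.Statements.S2337
import Cfsg.Agent.Lib.Helper37_SzRep
import Cfsg.Agent.Lib.Helper37_SzBridge
import Cfsg.Agent.S1162

set_option autoImplicit false
open Cfsg

namespace Cfsg.Agent.S2337

open Cfsg.Agent.Helper37Sz Cfsg.Agent.Lib.Helper37_RepBound

/-- For the Suzuki group Sz(q), q = 2^(2m+1) with m ≥ 1 (realised inside Sp₄ over the field with q elements), every irreducible complex representation of degree at least 2 has degree at least 2^m·(q − 1). -/
theorem result {F : Type*} [Field F] [Fintype F] (m : ℕ) (hm : 1 ≤ m) (hF : Fintype.card F = 2 ^ (2 * m + 1)) :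
    (∀ (k : ℕ) (ρ : Representation ℂ (Cfsg.Lie.Sz F (2 ^ (m + 1))) (Fin k → ℂ)), ρ.IsIrreducible → 2 ≤ k → 2 ^ m * (2 ^ (2 * m + 1) - 1) ≤ k) := by
  intro k ρ hirr hk
  have h2 := two_eq_zero_of_card hF
  have hSdef : ∀ z, sgHom F m h2 z = z ^ 2 ^ (m + 1) := fun z => sgHom_apply m h2 z
  have hS : ∀ z, sgHom F m h2 (sgHom F m h2 z) = z ^ 2 := fun z => sgHom_sgHom hF h2 z
  have hsimple : IsSimpleGroup ↥(Cfsg.Lie.Sz F (2 ^ (m + 1))) := Cfsg.Agent.S1162.result hm hF
  have hinj := injective_of_irreducible hk ρ hirr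
  let σ : Representation ℂ (Cfsg.Sz F m) (Fin k → ℂ) := ρ.comp (lieSzEquiv hm hF).toMonoidHom
  have hnt : σ (uQ h2 hS hSdef 0 1) ≠ 1 := by
    intro h
    have h1 : ρ ((lieSzEquiv hm hF) (uQ h2 hS hSdef 0 1)) = ρ 1 := by
      rw [map_one]; exact h
    have h3 := (lieSzEquiv hm hF).injective ((hinj h1).trans (map_one _).symm)
    rw [← uQ_zero h2 hS hSdef] at h3
    exact one_ne_zero (uQ_inj h2 hS hSdef h3).2
  have := sz_rep_degree_bound hF h2 hS hSdef σ hnt
  rwa [Module.finrank_fin_fun] at this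

end Cfsg.Agent.S2337
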