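import Mathlib
import Cfsg.Prelude.Def_LieTwisted
import Cfsg.Agent.Lib.Helper23_TD4Main
import Cfsg.Agent.Lib.Helper23_TD4Field
import Cfsg.Agent.Lib.Helper36_TD4Cfg
import Cfsg.Agent.Lib.Helper46_TD4_D
import Cfsg.Agent.Lib.Helper37_RepBound
import Cfsg.Agent.Lib.Helper3_CharDegree
import Cfsg.Agent.Lib.Helper36_TwistSimpleD4
import Cfsg.Agent.Lib.Helper36_TwistOrderD4

set_option autoImplicit false
open Cfsg

/-!
S2342 (architect helper23; paper proof `pending/helper23/S2342_proof.md`).  `³D₄(q)` is simple (helper36), so an irreducible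
representation of degree at least two is faithful; the root elements of the twisted group form a `TD4Config`
(helper36, helper18), which gives degree at least `q⁵ - q³ + q - 1` (`td4_bound`: packages of helper30, helper46, helper2,
helper88, helper41); this single value is excluded because the degree divides the group order (helper3, helper36, helper46).
-/

namespace Cfsg.Agent.S2342

open Cfsg.Lie Cfsg.Agent.Lib.Helper23_TD4Defs Cfsg.Agent.Lib.Helper23_TD4Field

/-- For the twisted group ³D₄(q), realised over the field with q³ elements (q a prime power), every irreducible complex representation of degree at least 2 has degree at least q(q⁴ − q² + 1). -/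
theorem result {K : Type*} [Field K] [Fintype K] (q : ℕ) (hq : IsPrimePow q) (hK : Fintype.card K = q ^ 3) :
    (∀ (k : ℕ) (ρ : Representation ℂ (Cfsg.Lie.twistedD4 K q) (Fin k → ℂ)), ρ.IsIrreducible → 2 ≤ k → q * (q ^ 4 - q ^ 2 + 1) ≤ k) := by
  classical
  intro k ρ hirr hk
  obtain ⟨f, hf⟩ := Cfsg.Agent.Lib.Helper36_TwistF.exists_frob hq hK
  have : IsSimpleGroup ↥(twistedD4 K q) := (Cfsg.Agent.Lib.Helper36_TwistSimpleD4.simple hq hK).1
  have hinj := Cfsg.Agent.Lib.Helper37_RepBound.injective_of_irreducible hk ρ hirr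
  have hz : ρ ((Cfsg.Agent.Lib.Helper36_TD4Cfg.cfg hK f hf).z 1) ≠ 1 := fun h =>
    Cfsg.Agent.Lib.Helper36_TD4Cfg.cfg_z_one_ne hK f hf (hinj (h.trans (map_one ρ).symm))
  have hq2 : 2 ≤ q := hq.two_le
  have hbound := Cfsg.Agent.Lib.Helper23_TD4Main.td4_bound (Cfsg.Agent.Lib.Helper36_TD4Cfg.cfg hK f hf) ρ q hq2
    (card_FF hK f hf) hK hz
  rw [Module.finrank_fin_fun] at hbound
  have := hirr
  have : Fintype ↥(twistedD4 K q) := Fintype.ofFinite _
  have hdvd := Cfsg.Agent.Lib.Helper3_CharDegree.finrank_dvd_card ρ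
  rw [Module.finrank_fin_fun, Cfsg.Agent.Lib.Helper36_TwistOrderD4.card_twistedD4 hq hK] at hdvd
  have hne : k ≠ q ^ 5 - q ^ 3 + q - 1 := fun h =>
    Cfsg.Agent.Lib.Helper46_TD4_D.not_dvd_order q hq2 (h ▸ hdvd)
  have hq42 : q ^ 2 ≤ q ^ 4 := Nat.pow_le_pow_right (by omega) (by norm_num)
  have hq53 : q ^ 3 ≤ q ^ 5 := Nat.pow_le_pow_right (by omega) (by norm_num)
  have e : q * (q ^ 4 - q ^ 2 + 1) = q ^ 5 - q ^ 3 + q := by
    zify [hq42, hq53]
    ring
  rw [e]
  omega

end Cfsg.Agent.S2342
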