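import Cfsg.Statements.S2343
import Cfsg.Agent.Lib.Helper15_ReeU
import Cfsg.Agent.Lib.Helper36_ReeSimple
import Cfsg.Agent.Lib.Helper10_F5040_INVVAL
-- import your own Cfsg.Agent.* helpers here

set_option autoImplicit false
open Cfsg

namespace Cfsg.Agent.S2343

open Cfsg.Agent.Lib.Helper15_ReeU Cfsg.Agent.Lib.Helper15_ReeAbs in
/-- For the Ree group ²G₂(q), q = 3^(2m+1) with m ≥ 1 (realised over the field with q elements), every irreducible complex representation of degree at least 2 has degree at least q² − q + 1. -/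
theorem result {K : Type*} [Field K] [Fintype K] (m : ℕ) (hm : 1 ≤ m) (hK : Fintype.card K = 3 ^ (2 * m + 1)) :
    (∀ (k : ℕ) (ρ : Representation ℂ (Cfsg.Lie.twistedG2 K (3 ^ m)) (Fin k → ℂ)), ρ.IsIrreducible → 2 ≤ k → (3 ^ (2 * m + 1)) ^ 2 - 3 ^ (2 * m + 1) + 1 ≤ k) := by
  intro k ρ hirr hk
  have : CharP K 3 := Cfsg.Agent.Lib.Helper36_ReeFix.charP3 hK
  obtain ⟨hsimple, -⟩ := Cfsg.Agent.Lib.Helper36_ReeSimple.simple hK hm
  have := hsimple
  have : Finite ↥(Cfsg.Lie.twistedG2 K (3 ^ m)) := Finite.of_injective _ Subtype.val_injective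
  have hperf := Cfsg.Agent.Lib.Helper36_ReePerf.perfect hK hm
  have hinj := Cfsg.Agent.Lib.Helper37_RepBound.injective_of_irreducible hk ρ hirr
  have hz1 : ρ ((heis hK).z 1) ≠ 1 := by
    intro h
    exact heis_z_one_ne hK (hinj (h.trans (map_one ρ).symm))
  -- arithmetic of `q = 3 ^ (2 m + 1)`
  set q : ℕ := 3 ^ (2 * m + 1) with hq
  have hq4 : q % 4 = 3 := by
    have h9 : 9 ^ m % 4 = 1 := by
      rw [Nat.pow_mod]
      norm_num
    have : q = 3 * 9 ^ m := by
      rw [hq, pow_succ, pow_mul, mul_comm]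
      norm_num
    rw [this, Nat.mul_mod, h9]
  have hle := (heis hK).card_le ρ hz1
  rw [Module.finrank_fin_fun, hK] at hle
  have hqq : q ^ 2 - q = q * (q - 1) := by
    rw [Nat.mul_sub, mul_one, sq]
  rw [hqq]
  by_contra hlt
  have hkeq : k = q * (q - 1) := by omega
  -- the equality case: the involution `h (-1)` has trace zero
  have htr := (heis hK).trace_eq_zero ρ hz1 (by rw [Module.finrank_fin_fun, hK]; exact hkeq)
    (-1) neg_one_ne_one
  rw [heis_h] at htr
  have ht2 := hG_sq hK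
  have h1 := Cfsg.Agent.Lib.Helper10_F5040_INVVAL.char_involution ρ (hG hK (-1)) ht2
  have heven := Cfsg.Agent.Lib.Helper10_F5040_INVVAL.even_finrank_of_perfect hperf ρ (hG hK (-1)) ht2
  have hone : ρ.character 1 = (k : ℂ) := by
    rw [Representation.char_one, Module.finrank_fin_fun]
  have hchar : ρ.character (hG hK (-1)) = 0 := htr
  rw [hone, hchar, sub_zero] at h1
  obtain ⟨j, hj⟩ := heven
  rw [hj] at h1
  have h2 : k = 2 * (j + j) := by exact_mod_cast h1
  -- `q (q - 1) ≡ 2 (mod 4)`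
  obtain ⟨a, ha⟩ : ∃ a, q = 4 * a + 3 := ⟨q / 4, by omega⟩
  have h3 : q * (q - 1) = 4 * (4 * a * a + 5 * a + 1) + 2 := by
    have hq1 : q - 1 = 4 * a + 2 := by omega
    rw [hq1, ha]
    ring
  omega

end Cfsg.Agent.S2343
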