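import Cfsg.Statements.S2345
import Cfsg.Agent.Lib.Helper95_OPFinal
import Cfsg.Agent.Lib.Helper91_OP_BRPLUS
import Cfsg.Agent.Lib.Helper77_SLnMain

set_option autoImplicit false
open Cfsg

namespace Cfsg.Agent.S2345

open Module Cfsg.Agent.Lib.Helper14_OmegaSimple Cfsg.Agent.Lib.Helper95_OPDefs
  Cfsg.Agent.Lib.Helper95_OPFinal Cfsg.Agent.Lib.Helper77_SLnDefs
  Cfsg.Agent.Lib.Helper44_StdForms

/-- For a finite field F with q > 3 elements and n ≥ 4, every irreducible complex representation of degree at least 2 of Ω⁺_{2n}(F) (the commutator subgroup of the isometry group of the hyperbolic quadratic form x₁y₁ + ⋯ + x_ny_n) has degree at least (q^n − 1)(q^{n−1} + q)/(q² − 1). -/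
theorem result {F : Type*} [Field F] [Fintype F] (n : ℕ) (hn : 4 ≤ n) (h3 : 3 < Fintype.card F) :
    (∀ (k : ℕ) (ρ : Representation ℂ (Cfsg.Omega F (Cfsg.quadFormPlus n F)) (Fin k → ℂ)), ρ.IsIrreducible → 2 ≤ k → (Fintype.card F ^ n - 1) * (Fintype.card F ^ (n - 1) + Fintype.card F) / (Fintype.card F ^ 2 - 1) ≤ k) := by
  classical
  have hq : 4 ≤ Fintype.card F := h3
  -- the base input: `SL_4`
  have hSL : MinDeg F 4 (dplus (Fintype.card F) 3) := by
    have h := Cfsg.Agent.Lib.Helper77_SLnMain.minDeg_main (F := F) 4 (by norm_num)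
      (by rintro (⟨h, _⟩ | ⟨h, _⟩ | ⟨_, h⟩ | ⟨_, h⟩) <;> omega)
    have e : NN (Fintype.card F) 4 - 1 = dplus (Fintype.card F) 3 := by
      rw [Cfsg.Agent.Lib.Helper55_OP_ARITH.dplus_three _ (by omega)]
      unfold NN
      simp only [Finset.sum_range_succ, Finset.sum_range_zero, pow_zero, pow_one, zero_add]
      omega
    rw [e] at h
    exact h
  have hmain := main hq hSL n (by omega) (Fin n ⊕ Fin n → F) (qfPlus n F)
    (Cfsg.Agent.Lib.Helper91_OP_BRPLUS.isPlus_qfPlus n (by omega))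
  have hQ := Cfsg.Agent.Lib.Helper14_POmegaSimple.nondegenerate_qfPlus (F := F) n
  have hcard : 5 ≤ Fintype.card (Fin n ⊕ Fin n) := by
    simp only [Fintype.card_sum, Fintype.card_fin]; omega
  have key : ∀ (k : ℕ) (ρ : Representation ℂ (Cfsg.Omega F (⇑(qfPlus n F))) (Fin k → ℂ)),
      ρ.IsIrreducible → 2 ≤ k → dplus (Fintype.card F) n ≤ k := by
    intro k ρ hirr hk
    let e := Cfsg.Agent.Lib.Helper14_OrthFinal.eOT (qfPlus n F) hQ hcard
    have hsurj : Function.Surjective e.symm.toMonoidHom := e.symm.surjective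
    haveI := hirr
    have hirr' := Cfsg.Agent.Lib.Helper16_Orbit.irreducible_comp ρ e.symm.toMonoidHom hsurj
    have := hmain (Fin k → ℂ) (ρ.comp e.symm.toMonoidHom) hirr'
      (by rw [Module.finrank_fin_fun]; exact hk)
    rwa [Module.finrank_fin_fun] at this
  rw [coe_qfPlus] at key
  exact key

end Cfsg.Agent.S2345
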