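import Cfsg.Statements.S2347
import Cfsg.Agent.Lib.Helper5_SpPerfect
import Cfsg.Agent.Lib.Helper81_SpWeights
import Cfsg.Agent.Lib.Helper81_SpIrr
import Cfsg.Agent.Lib.Helper81_Heis
import Cfsg.Agent.Lib.Helper81_WeilLin
import Cfsg.Agent.Lib.Helper81_Schrodinger

set_option autoImplicit false
open Cfsg

namespace Cfsg.Agent.S2347


open Matrix Module
open Cfsg.Agent.Lib.Helper5_SpPerfect Cfsg.Agent.Lib.Helper81_SpWeights
  Cfsg.Agent.Lib.Helper81_SpIrr Cfsg.Agent.Lib.Helper81_Heis Cfsg.Agent.Lib.Helper81_WeilLin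
  Cfsg.Agent.Lib.Helper81_Schrodinger

section Lower

variable {F : Type*} [Field F] [Fintype F]

/-- the Landazuri–Seitz bound for irreducible complex representations of degree at least two -/
theorem lower (n : ℕ) (hn : 2 ≤ n) (hodd : Odd (Fintype.card F)) (k : ℕ)
    (ρ : Representation ℂ (Matrix.symplecticGroup (Fin n) F) (Fin k → ℂ))
    (hirr : ρ.IsIrreducible) (hk : 2 ≤ k) : (Fintype.card F ^ n - 1) / 2 ≤ k := by
  classical
  obtain ⟨p, hpchar⟩ := CharP.exists F
  have := hpchar
  have hprime : p.Prime := CharP.char_is_prime F p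
  have hpC : (p : ℂ) ≠ 0 := by exact_mod_cast hprime.ne_zero
  have i0 : Fin n := ⟨0, by omega⟩
  have hnt : ∃ S : symSub n F, ρ (xs S) ≠ 1 := by
    by_contra hcon
    push Not at hcon
    have hker : (ρ : Matrix.symplecticGroup (Fin n) F →* Module.End ℂ (Fin k → ℂ)).ker = ⊤ := by
      apply normal_eq_top _ i0
      intro c
      rw [MonoidHom.mem_ker]
      exact hcon ⟨single i0 i0 c, by
        show (single i0 i0 c)ᵀ = single i0 i0 c
        simp⟩
    have hall : ∀ g, ρ g = 1 := fun g => by
      have : g ∈ (ρ : Matrix.symplecticGroup (Fin n) F →* Module.End ℂ (Fin k → ℂ)).ker := by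
        rw [hker]; exact Subgroup.mem_top g
      exact MonoidHom.mem_ker.mp this
    let j0 : Fin k := ⟨0, by omega⟩
    let j1 : Fin k := ⟨1, by omega⟩
    let σ : Subrepresentation ρ :=
      ⟨Submodule.span ℂ {(Pi.single j0 1 : Fin k → ℂ)}, fun g v hv => by
        rw [hall g]; exact hv⟩
    rcases hirr.eq_bot_or_eq_top σ with h | h
    · have h1 : (Pi.single j0 1 : Fin k → ℂ) ∈ σ.toSubmodule := Submodule.mem_span_singleton_self _
      rw [h] at h1
      have h2 : (Pi.single j0 1 : Fin k → ℂ) = 0 := (Submodule.mem_bot ℂ).mp h1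
      have := congrFun h2 j0
      simp at this
    · have h1 : (Pi.single j1 1 : Fin k → ℂ) ∈ σ.toSubmodule := by
        rw [h]; exact Submodule.mem_top
      obtain ⟨a, ha⟩ := Submodule.mem_span_singleton.mp h1
      have := congrFun ha j1
      have hne : j1 ≠ j0 := by
        intro h0
        have := congrArg Fin.val h0
        simp [j0, j1] at this
      simp [Pi.single_eq_of_ne hne] at this
  have key := core2 hodd hn p hpC ρ hnt
  rw [Module.finrank_fin_fun] at key
  omega

end Lower

section Upper

variable {F : Type*} [Field F] [Fintype F] [DecidableEq F]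

set_option maxHeartbeats 1600000 in
/-- the odd part of the Weil representation is irreducible of degree `(q^n - 1)/2` -/
theorem upper (n : ℕ) (hn : 2 ≤ n) (hodd : Odd (Fintype.card F)) :
    ∃ ρ : Representation ℂ (Matrix.symplecticGroup (Fin n) F)
      (Fin ((Fintype.card F ^ n - 1) / 2) → ℂ), ρ.IsIrreducible := by
  classical
  obtain ⟨p, hpchar⟩ := CharP.exists F
  have := hpchar
  have h2F : (2 : F) ≠ 0 := two_ne_zero_of_odd hodd
  obtain ⟨ψ, hψ1⟩ := (AddChar.exists_apply_ne_zero (α := F) (a := 1)).mpr one_ne_zero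
  have hψ : ψ ≠ 1 := by
    rintro rfl
    exact hψ1 rfl
  set h : F := 2⁻¹ with hdef
  have hh : h + h = 1 := by
    rw [hdef, ← two_mul, mul_inv_cancel₀ h2F]
  obtain ⟨ω, hω1, hω2⟩ := exists_weil_sp (n := n) ψ h h2F hh hψ
  set J := par n F ℂ with hJdef
  -- the representation on the odd part
  let ρm : Matrix.symplecticGroup (Fin n) F →* Module.End ℂ (Wm J) :=
    { toFun := fun g => (ω g).restrict (mapsTo_m (hω2 g))
      map_one' := by
        apply LinearMap.ext
        intro x
        apply Subtype.ext
        show (ω 1) x.1 = x.1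
        rw [map_one]; rfl
      map_mul' := fun g g' => by
        apply LinearMap.ext
        intro x
        apply Subtype.ext
        show (ω (g * g')) x.1 = (ω g) ((ω g') x.1)
        rw [map_mul]; rfl }
  have hq : 0 < Fintype.card F ^ n := Nat.pos_of_ne_zero (pow_ne_zero _ Fintype.card_ne_zero)
  have hdim : 2 * finrank ℂ (Wm J) + 1 = Fintype.card F ^ n := by
    have h1 := finrank_add_eq (J := J) par_mul_par (trace_par h2F)
    rw [h1, Module.finrank_fintype_fun_eq_card, Fintype.card_fun, Fintype.card_fin]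
  have hd : finrank ℂ (Wm J) = (Fintype.card F ^ n - 1) / 2 := by omega
  -- non-triviality on a Siegel element
  have i0 : Fin n := ⟨0, by omega⟩
  obtain ⟨i0, i1, h01⟩ : ∃ i0 i1 : Fin n, i0 ≠ i1 :=
    ⟨⟨0, by omega⟩, ⟨1, by omega⟩, by
      intro h0
      have := congrArg Fin.val h0
      simp at this⟩
  have hnt : ∃ S : symSub n F, ρm (xs S) ≠ 1 := by
    let S₀ : symSub n F := ⟨single i0 i1 1 + single i1 i0 1, by
      show (single i0 i1 (1 : F) + single i1 i0 1)ᵀ = _
      rw [Matrix.transpose_add, Matrix.transpose_single, Matrix.transpose_single, add_comm]⟩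
    refine ⟨S₀, fun hone => ?_⟩
    have hu : IsUnit (ω (xs S₀)) := (Group.isUnit (xs S₀)).map ω
    have hT : (schData ψ h hh hψ).IsInt (fun u => (xs S₀).1 *ᵥ u) (ω (xs S₀)) :=
      fun u => hω1 (xs S₀) u
    have hT' : (schData ψ h hh hψ).IsInt (fun u => (xs S₀).1 *ᵥ u) (mS ψ h S₀.1) :=
      fun u => mS_mul_hs ψ h hh S₀.1 (mem_symSub.mp S₀.2) u
    obtain ⟨c, hc⟩ := HData.IsInt.unique _ hT hT' hu
    -- test functions
    have key : ∀ s : F, ψ (-s) = c := by
      intro s
      set t : Fin n → F := Pi.single i0 s + Pi.single i1 1 with ht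
      have htne : -t ≠ t := by
        intro h0
        have h1 := congrFun h0 i1
        simp only [ht, Pi.neg_apply, Pi.add_apply, Pi.single_eq_same,
          Pi.single_eq_of_ne h01.symm, zero_add] at h1
        apply h2F
        linear_combination -h1
      set f : (Fin n → F) → ℂ := Pi.single t 1 - Pi.single (-t) 1 with hf
      have hfodd : f ∈ Wm J := by
        rw [mem_Wm]
        funext t'
        rw [hJdef, par_apply, hf]
        simp only [Pi.sub_apply, Pi.neg_apply]
        by_cases h1 : t' = t
        · subst h1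
          rw [Pi.single_eq_same, Pi.single_eq_of_ne htne, Pi.single_eq_of_ne htne.symm,
            Pi.single_eq_same]
          ring
        · by_cases h2 : t' = -t
          · subst h2
            rw [neg_neg, Pi.single_eq_same, Pi.single_eq_same, Pi.single_eq_of_ne htne,
              Pi.single_eq_of_ne htne.symm]
            ring
          · have h3 : -t' ≠ t := fun h0 => h2 (by rw [← h0, neg_neg])
            have h4 : -t' ≠ -t := fun h0 => h1 (neg_injective h0)
            rw [Pi.single_eq_of_ne h3, Pi.single_eq_of_ne h4, Pi.single_eq_of_ne h1,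
              Pi.single_eq_of_ne h2]
            ring
      have hfix : ω (xs S₀) f = f := by
        have := congrArg (fun T : Module.End ℂ (Wm J) => (T ⟨f, hfodd⟩).1) hone
        exact this
      have h1 : mS ψ h S₀.1 f t = c * f t := by
        rw [hc, LinearMap.smul_apply, hfix]
        rfl
      have hft : f t = 1 := by
        rw [hf]
        simp only [Pi.sub_apply]
        rw [Pi.single_eq_same, Pi.single_eq_of_ne htne.symm, sub_zero]
      rw [mS_apply, hft, mul_one, mul_one] at h1
      rw [← h1]
      congr 2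
      show s = h * (t ⬝ᵥ (single i0 i1 (1 : F) + single i1 i0 1) *ᵥ t)
      rw [Matrix.add_mulVec, Matrix.single_mulVec_eq, Matrix.single_mulVec_eq, dotProduct_add,
        dotProduct_smul, dotProduct_smul, dotProduct_single_one, dotProduct_single_one]
      have e0 : t i0 = s := by
        simp only [ht, Pi.add_apply, Pi.single_eq_same, Pi.single_eq_of_ne h01, add_zero]
      have e1 : t i1 = 1 := by
        simp only [ht, Pi.add_apply, Pi.single_eq_same, Pi.single_eq_of_ne h01.symm, zero_add]
      rw [e0, e1]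
      simp only [smul_eq_mul, one_mul, mul_one]
      linear_combination (-s) * hh
    have hc1 : c = 1 := by
      rw [← key 0, neg_zero, AddChar.map_zero_eq_one]
    apply hψ
    ext a
    have := key (-a)
    rw [neg_neg, hc1] at this
    rw [this]; rfl
  -- transport to the standard space
  have hfr : finrank ℂ (Wm J) = finrank ℂ (Fin ((Fintype.card F ^ n - 1) / 2) → ℂ) := by
    rw [hd, Module.finrank_fin_fun]
  let e : Wm J ≃ₗ[ℂ] (Fin ((Fintype.card F ^ n - 1) / 2) → ℂ) := LinearEquiv.ofFinrankEq _ _ hfr
  let ρ : Representation ℂ (Matrix.symplecticGroup (Fin n) F)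
      (Fin ((Fintype.card F ^ n - 1) / 2) → ℂ) :=
    (e.conjRingEquiv : Module.End ℂ (Wm J) →* Module.End ℂ _).comp ρm
  have hnt' : ∃ S : symSub n F, ρ (xs S) ≠ 1 := by
    obtain ⟨S, hS⟩ := hnt
    refine ⟨S, fun h0 => hS ?_⟩
    apply e.conjRingEquiv.injective
    rw [map_one]
    exact h0
  have hdim' : 2 * finrank ℂ (Fin ((Fintype.card F ^ n - 1) / 2) → ℂ) + 1 =
      Fintype.card F ^ n := by
    rw [← hfr]; exact hdim
  refine ⟨ρ, ?_⟩
  have hbt : (⊥ : Subrepresentation ρ) ≠ ⊤ := by
    intro h0
    have h1 : (⊥ : Subrepresentation ρ).toSubmodule = (⊤ : Subrepresentation ρ).toSubmodule := by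
      rw [h0]
    have h2 : (⊥ : Submodule ℂ (Fin ((Fintype.card F ^ n - 1) / 2) → ℂ)) = ⊤ := h1
    have h3 : finrank ℂ (⊥ : Submodule ℂ (Fin ((Fintype.card F ^ n - 1) / 2) → ℂ)) =
        finrank ℂ (⊤ : Submodule ℂ (Fin ((Fintype.card F ^ n - 1) / 2) → ℂ)) := by rw [h2]
    rw [finrank_bot, finrank_top, Module.finrank_fin_fun] at h3
    have h4 : 9 ≤ Fintype.card F ^ n := by
      have hq3 : 3 ≤ Fintype.card F := by
        have h1 : 1 < Fintype.card F := Fintype.one_lt_card
        rcases hodd with ⟨m, hm⟩
        omega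
      calc 9 = 3 ^ 2 := by norm_num
        _ ≤ Fintype.card F ^ 2 := Nat.pow_le_pow_left hq3 2
        _ ≤ Fintype.card F ^ n := Nat.pow_le_pow_right (by omega) hn
    omega
  exact
    { exists_pair_ne := ⟨⊥, ⊤, hbt⟩
      eq_bot_or_eq_top := fun σ => by
        rcases irr_of_bound hodd hn p ρ hdim' hnt' σ.toSubmodule
          (fun g v hv => σ.apply_mem_toSubmodule g hv) with h0 | h0
        · left
          exact Subrepresentation.toSubmodule_injective h0
        · right
          exact Subrepresentation.toSubmodule_injective h0 }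

end Upper

/-- Smallest degree of a non-linear irreducible complex representation of the symplectic group Sp_{2n} over a finite field of odd order q, n ≥ 2: every irreducible complex representation of degree at least 2 has degree at least (q^n − 1)/2, and there is an irreducible complex representation of exactly that degree (a Weil representation). -/
theorem result {F : Type*} [Field F] [Fintype F] [DecidableEq F] (n : ℕ) (hn : 2 ≤ n) (hodd : Odd (Fintype.card F)) :
    (∀ (k : ℕ) (ρ : Representation ℂ (Matrix.symplecticGroup (Fin n) F) (Fin k → ℂ)), ρ.IsIrreducible → 2 ≤ k → (Fintype.card F ^ n - 1) / 2 ≤ k) ∧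
    (∃ ρ : Representation ℂ (Matrix.symplecticGroup (Fin n) F) (Fin ((Fintype.card F ^ n - 1) / 2) → ℂ), ρ.IsIrreducible) := by
  exact ⟨fun k ρ hirr hk => lower n hn hodd k ρ hirr hk, upper n hn hodd⟩

end Cfsg.Agent.S2347
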