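import Cfsg.Statements.S2352

set_option autoImplicit false
open Cfsg

namespace Cfsg.Agent.S2352

open Equiv

/-- A path of points moved along by a list of permutations. -/
theorem prod_path {X : Type*} : ∀ (m : ℕ) (pts : Fin (m + 1) → X) (τ : Fin m → Perm X),
    (∀ j : Fin m, τ j (pts j.succ) = pts j.castSucc) →
    (List.ofFn τ).prod (pts (Fin.last m)) = pts 0
  | 0, pts, τ, _ => by simp
  | (m + 1), pts, τ, h => by
    rw [List.ofFn_succ, List.prod_cons, Perm.mul_apply]
    have ih := prod_path m (fun i => pts i.succ) (fun j => τ j.succ) (fun j => by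
      have := h j.succ
      simpa using this)
    have h0 := h 0
    simp only [Fin.castSucc_zero] at h0
    rw [← h0]
    congr 1

theorem chain_get (L : List (ℕ × Bool)) (hL : FreeGroup.IsReduced L) (j j' : Fin L.length)
    (hv : j.val + 1 = j'.val) (h1 : (L.get j).1 = (L.get j').1) : (L.get j).2 = (L.get j').2 := by
  obtain ⟨a, ha⟩ := j
  obtain ⟨b, hb⟩ := j'
  simp only at hv
  subst hv
  exact List.IsChain.getElem hL a hb h1

theorem exists_sigma (L : List (ℕ × Bool)) (hL : FreeGroup.IsReduced L) :
    ∃ σ : ℕ → Perm (Fin (L.length + 1)), ∀ j : Fin L.length,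
      (cond (L.get j).2 (σ (L.get j).1) (σ (L.get j).1)⁻¹) j.succ = j.castSucc := by
  have key : ∀ i : ℕ, ∃ σ : Perm (Fin (L.length + 1)),
      ∀ j : {j : Fin L.length // (L.get j).1 = i},
        σ (if (L.get j.1).2 then j.1.succ else j.1.castSucc) =
          (if (L.get j.1).2 then j.1.castSucc else j.1.succ) := by
    intro i
    apply Perm.exists_extending_pair
    · rintro ⟨j, hj⟩ ⟨j', hj'⟩ h
      simp only at h
      apply Subtype.ext
      simp only
      by_cases hb : (L.get j).2 <;> by_cases hb' : (L.get j').2 <;> simp only [hb, hb', if_true, if_false] at h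
      · exact Fin.succ_injective _ h
      · exfalso
        have hv : j.val + 1 = j'.val := by
          have := congrArg Fin.val h
          simpa using this
        have := chain_get L hL j j' hv (by rw [hj, hj'])
        rw [this] at hb
        exact hb' hb
      · exfalso
        have hv : j'.val + 1 = j.val := by
          have := congrArg Fin.val h
          simp at this
          omega
        have := chain_get L hL j' j hv (by rw [hj, hj'])
        rw [this] at hb'
        exact hb hb'
      · exact Fin.castSucc_injective _ h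
    · rintro ⟨j, hj⟩ ⟨j', hj'⟩ h
      simp only at h
      apply Subtype.ext
      simp only
      by_cases hb : (L.get j).2 <;> by_cases hb' : (L.get j').2 <;> simp only [hb, hb', if_true, if_false] at h
      · exact Fin.castSucc_injective _ h
      · exfalso
        have hv : j'.val + 1 = j.val := by
          have := congrArg Fin.val h
          simp at this
          omega
        have := chain_get L hL j' j hv (by rw [hj, hj'])
        rw [← this] at hb
        exact hb' hb
      · exfalso
        have hv : j.val + 1 = j'.val := by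
          have := congrArg Fin.val h
          simp at this
          omega
        have := chain_get L hL j j' hv (by rw [hj, hj'])
        rw [← this] at hb'
        exact hb hb'
      · exact Fin.succ_injective _ h
  choose σ hσ using key
  refine ⟨σ, ?_⟩
  intro j
  have := hσ (L.get j).1 ⟨j, rfl⟩
  by_cases hb : (L.get j).2
  · simp only [hb, if_true] at this
    simp only [hb, cond_true]
    exact this
  · simp only [hb, if_false] at this
    have hb' : (L.get j).2 = false := by simpa using hb
    simp only [hb', cond_false]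
    rw [Perm.inv_eq_iff_eq]
    exact this.symm

theorem map_eq_ofFn {α β : Type*} (L : List α) (g : α → β) :
    L.map g = List.ofFn (fun j : Fin L.length => g (L.get j)) := by
  apply List.ext_getElem
  · simp
  · intro i h1 h2
    simp

/-- Free groups are residually finite, in the concrete form of a permutation representation. -/
theorem exists_perm_rep (w : FreeGroup ℕ) (hw : w ≠ 1) :
    ∃ (k : ℕ) (f : ℕ → Perm (Fin k)), FreeGroup.lift f w ≠ 1 := by
  set L := w.toWord with hLdef
  have hL : FreeGroup.IsReduced L := FreeGroup.isReduced_toWord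
  have hwL : w = FreeGroup.mk L := FreeGroup.mk_toWord.symm
  have hne : L ≠ [] := by
    intro h
    exact hw (FreeGroup.toWord_eq_nil_iff.1 h)
  obtain ⟨σ, hσ⟩ := exists_sigma L hL
  refine ⟨L.length + 1, σ, ?_⟩
  intro h1
  rw [hwL, FreeGroup.lift_mk] at h1
  rw [map_eq_ofFn] at h1
  have hp := prod_path L.length (fun i => i) _ hσ
  rw [h1] at hp
  simp only [Perm.one_apply] at hp
  have : L.length = 0 := by
    have := congrArg Fin.val hp
    simpa using this
  exact hne (List.length_eq_zero_iff.1 this)

/-- An embedding of `Perm (Fin k)` into the even permutations of `Fin n` for `2 * k ≤ n`. -/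
theorem exists_even_embedding (k n : ℕ) (hn : 2 * k ≤ n) :
    ∃ ι : Perm (Fin k) →* Perm (Fin n), Function.Injective ι ∧ ∀ σ, Perm.sign (ι σ) = 1 := by
  have hcard : Fintype.card ((Fin k ⊕ Fin k) ⊕ Fin (n - 2 * k)) = Fintype.card (Fin n) := by
    simp only [Fintype.card_sum, Fintype.card_fin]
    omega
  let e : (Fin k ⊕ Fin k) ⊕ Fin (n - 2 * k) ≃ Fin n := Fintype.equivOfCardEq hcard
  let ι1 : Perm (Fin k) →* Perm (Fin k ⊕ Fin k) :=
    (Perm.sumCongrHom (Fin k) (Fin k)).comp (MonoidHom.prod (MonoidHom.id _) (MonoidHom.id _))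
  let ι2 : Perm (Fin k ⊕ Fin k) →* Perm ((Fin k ⊕ Fin k) ⊕ Fin (n - 2 * k)) :=
    (Perm.sumCongrHom (Fin k ⊕ Fin k) (Fin (n - 2 * k))).comp (MonoidHom.inl _ _)
  refine ⟨e.permCongrHom.toMonoidHom.comp (ι2.comp ι1), ?_, ?_⟩
  · intro σ τ h
    have h1 := e.permCongrHom.injective h
    have h2 := Perm.sumCongrHom_injective h1
    have h3 := congrArg Prod.fst h2
    have h4 := Perm.sumCongrHom_injective h3
    exact congrArg Prod.fst h4
  · intro σ
    change Perm.sign (e.permCongr (Perm.sumCongr (Perm.sumCongr σ σ) 1)) = 1
    rw [Perm.sign_permCongr, Perm.sign_sumCongr, Perm.sign_sumCongr]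
    simp

theorem result (w : FreeGroup ℕ) (hw : w ≠ 1) :
    ∃ N : ℕ, ∀ n : ℕ, N ≤ n → ∃ f : ℕ → alternatingGroup (Fin n), FreeGroup.lift f w ≠ 1 := by
  obtain ⟨k, f, hf⟩ := exists_perm_rep w hw
  refine ⟨2 * k, fun n hn => ?_⟩
  obtain ⟨ι, hinj, hsign⟩ := exists_even_embedding k n hn
  refine ⟨fun i => ⟨ι (f i), Perm.mem_alternatingGroup.2 (hsign _)⟩, ?_⟩
  intro h1
  apply hf
  apply hinj
  rw [map_one]
  have hcomp : ι.comp (FreeGroup.lift f) =
      (alternatingGroup (Fin n)).subtype.comp
        (FreeGroup.lift (fun i => (⟨ι (f i), Perm.mem_alternatingGroup.2 (hsign _)⟩ :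
          alternatingGroup (Fin n)))) := by
    apply FreeGroup.ext_hom
    intro i
    simp
  have := congrArg (fun φ : FreeGroup ℕ →* Perm (Fin n) => φ w) hcomp
  simp only [MonoidHom.comp_apply] at this
  rw [this, h1]
  simp

end Cfsg.Agent.S2352
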