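import Cfsg.Statements.S2353

set_option autoImplicit false
open Cfsg

namespace Cfsg.Agent.S2353

open Polynomial

variable {F : Type*} [Field F]

/-- The monomial `X^(i+1)`. -/
noncomputable def s (F : Type*) [Field F] (i : ℕ) : F[X] := X ^ (i + 1)

theorem degree_s (i : ℕ) : (s F i).degree = ((i + 1 : ℕ) : WithBot ℕ) := by
  simp [s]

theorem s_ne_zero (i : ℕ) : s F i ≠ 0 := by
  simp [s]

theorem degree_lt_degree_mul_s {a : F[X]} (ha : a ≠ 0) (i : ℕ) : a.degree < (a * s F i).degree := by
  rw [degree_mul, degree_s, degree_eq_natDegree ha]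
  norm_cast
  omega

theorem degree_s_sub_s {i j : ℕ} (hij : i ≠ j) :
    ((1 : ℕ) : WithBot ℕ) ≤ (s F i - s F j).degree := by
  rcases lt_or_gt_of_ne hij with h | h
  · have : (s F i - s F j).degree = (s F j).degree := by
      rw [degree_sub_eq_right_of_degree_lt]
      rw [degree_s, degree_s]
      norm_cast
      omega
    rw [this, degree_s]
    norm_cast
    omega
  · have : (s F i - s F j).degree = (s F i).degree := by
      rw [degree_sub_eq_left_of_degree_lt]
      rw [degree_s, degree_s]
      norm_cast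
      omega
    rw [this, degree_s]
    norm_cast
    omega

theorem degree_lt_degree_mul_s_sub_s {a : F[X]} (ha : a ≠ 0) {i j : ℕ} (hij : i ≠ j) :
    a.degree < (a * (s F i - s F j)).degree := by
  have h1 := degree_s_sub_s (F := F) hij
  have hne : s F i - s F j ≠ 0 := by
    intro h
    rw [h, degree_zero] at h1
    simp at h1
  rw [degree_mul, degree_eq_natDegree ha, degree_eq_natDegree hne] at *
  norm_cast at *
  omega

/-- One step: multiply the row `(a, b)` by the generator matrix or its inverse. -/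
noncomputable def step (x : ℕ × Bool) (r : F[X] × F[X]) : F[X] × F[X] :=
  if x.2 then (r.1 + (r.2 + r.1 * s F x.1) * s F x.1, r.2 + r.1 * s F x.1)
  else (r.1 - r.2 * s F x.1, r.2 - (r.1 - r.2 * s F x.1) * s F x.1)

/-- The invariant, depending on the last letter. -/
def Inv (x : ℕ × Bool) (r : F[X] × F[X]) : Prop :=
  if x.2 then ∃ a0 : F[X], r.1 = a0 + r.2 * s F x.1 ∧ a0.degree < r.2.degree
  else ∃ b0 : F[X], r.2 = b0 - r.1 * s F x.1 ∧ b0.degree < r.1.degree

theorem ne_zero_of_degree_lt {a b : F[X]} (h : a.degree < b.degree) : b ≠ 0 := by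
  rintro rfl
  simp at h

theorem inv_init (y : ℕ × Bool) : Inv y (step y ((1 : F[X]), (0 : F[X]))) := by
  rcases y with ⟨j, _ | _⟩
  · -- negative letter
    simp only [Inv, step, Bool.false_eq_true, if_false]
    refine ⟨0, by ring, ?_⟩
    simp
  · simp only [Inv, step, if_true]
    refine ⟨1, by ring, ?_⟩
    simp only [zero_add, one_mul, degree_one, degree_s]
    norm_cast
    omega

theorem inv_final (x : ℕ × Bool) (r : F[X] × F[X]) (h : Inv x r) : r.2 ≠ 0 := by
  rcases x with ⟨i, _ | _⟩
  · simp only [Inv, Bool.false_eq_true, if_false] at h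
    obtain ⟨b0, hb, hdeg⟩ := h
    have ha : r.1 ≠ 0 := ne_zero_of_degree_lt hdeg
    have h2 : b0.degree < (r.1 * s F i).degree := hdeg.trans (degree_lt_degree_mul_s ha i)
    intro h0
    rw [h0] at hb
    have : b0 = r.1 * s F i := by linear_combination (-1 : F[X]) * hb
    rw [this] at h2
    exact lt_irrefl _ h2
  · simp only [Inv, if_true] at h
    obtain ⟨a0, _, hdeg⟩ := h
    exact ne_zero_of_degree_lt hdeg

theorem inv_step (x y : ℕ × Bool) (hxy : x.1 = y.1 → x.2 = y.2) (r : F[X] × F[X]) (h : Inv x r) :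
    Inv y (step y r) := by
  rcases x with ⟨i, _ | _⟩ <;> rcases y with ⟨j, _ | _⟩
  · -- N_i then negative letter j
    simp only [Inv, Bool.false_eq_true, if_false] at h
    obtain ⟨b0, hb, hdeg⟩ := h
    have ha : r.1 ≠ 0 := ne_zero_of_degree_lt hdeg
    simp only [Inv, step, Bool.false_eq_true, if_false]
    refine ⟨r.2, rfl, ?_⟩
    -- deg b = deg (a s_i) > deg a
    have h1 : r.2.degree = (r.1 * s F i).degree := by
      rw [hb, degree_sub_eq_right_of_degree_lt (hdeg.trans (degree_lt_degree_mul_s ha i))]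
    have hab : r.1.degree < r.2.degree := by rw [h1]; exact degree_lt_degree_mul_s ha i
    have hb0 : r.2 ≠ 0 := ne_zero_of_degree_lt hab
    have h2 : r.1.degree < (r.2 * s F j).degree := hab.trans (degree_lt_degree_mul_s hb0 j)
    rw [degree_sub_eq_right_of_degree_lt h2]
    exact degree_lt_degree_mul_s hb0 j
  · -- N_i then positive letter j, i ≠ j
    have hij : i ≠ j := by
      intro h'
      have := hxy h'
      simp at this
    simp only [Inv, Bool.false_eq_true, if_false] at h
    obtain ⟨b0, hb, hdeg⟩ := h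
    have ha : r.1 ≠ 0 := ne_zero_of_degree_lt hdeg
    simp only [Inv, step, if_true]
    refine ⟨r.1, rfl, ?_⟩
    have h1 : r.2 + r.1 * s F j = b0 + r.1 * (s F j - s F i) := by rw [hb]; ring
    rw [h1]
    have h2 : r.1.degree < (r.1 * (s F j - s F i)).degree :=
      degree_lt_degree_mul_s_sub_s ha (Ne.symm hij)
    rw [degree_add_eq_right_of_degree_lt (hdeg.trans h2)]
    exact h2
  · -- P_i then negative letter j, i ≠ j
    have hij : i ≠ j := by
      intro h'
      have := hxy h'
      simp at this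
    simp only [Inv, if_true] at h
    obtain ⟨a0, ha, hdeg⟩ := h
    have hb : r.2 ≠ 0 := ne_zero_of_degree_lt hdeg
    simp only [Inv, step, Bool.false_eq_true, if_false]
    refine ⟨r.2, rfl, ?_⟩
    have h1 : r.1 - r.2 * s F j = a0 + r.2 * (s F i - s F j) := by rw [ha]; ring
    rw [h1]
    have h2 : r.2.degree < (r.2 * (s F i - s F j)).degree :=
      degree_lt_degree_mul_s_sub_s hb hij
    rw [degree_add_eq_right_of_degree_lt (hdeg.trans h2)]
    exact h2
  · -- P_i then positive letter j
    simp only [Inv, if_true] at h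
    obtain ⟨a0, ha, hdeg⟩ := h
    have hb : r.2 ≠ 0 := ne_zero_of_degree_lt hdeg
    simp only [Inv, step, if_true]
    refine ⟨r.1, rfl, ?_⟩
    have h1 : r.1.degree = (r.2 * s F i).degree := by
      rw [ha, degree_add_eq_right_of_degree_lt (hdeg.trans (degree_lt_degree_mul_s hb i))]
    have hba : r.2.degree < r.1.degree := by rw [h1]; exact degree_lt_degree_mul_s hb i
    have ha0 : r.1 ≠ 0 := ne_zero_of_degree_lt hba
    have h2 : r.2.degree < (r.1 * s F j).degree := hba.trans (degree_lt_degree_mul_s ha0 j)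
    rw [degree_add_eq_right_of_degree_lt h2]
    exact degree_lt_degree_mul_s ha0 j

/-- After reading a non-empty reduced word, the invariant holds for some letter. -/
theorem inv_foldl : ∀ (L : List (ℕ × Bool)) (x : ℕ × Bool) (r : F[X] × F[X]),
    FreeGroup.IsReduced (x :: L) → Inv x r → ∃ y, Inv y (L.foldl (fun (r : F[X] × F[X]) x => step x r) r)
  | [], x, r, _, h => ⟨x, h⟩
  | (y :: L), x, r, hred, h => by
    rw [FreeGroup.isReduced_cons_cons] at hred
    simp only [List.foldl_cons]
    exact inv_foldl L y (step y r) hred.2 (inv_step x y hred.1 r h)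

theorem foldl_snd_ne_zero (L : List (ℕ × Bool)) (hL : FreeGroup.IsReduced L) (hne : L ≠ []) :
    (L.foldl (fun (r : F[X] × F[X]) x => step x r) ((1 : F[X]), (0 : F[X]))).2 ≠ 0 := by
  rcases L with _ | ⟨x, L⟩
  · exact absurd rfl hne
  · simp only [List.foldl_cons]
    obtain ⟨y, hy⟩ := inv_foldl (F := F) L x _ hL (inv_init x)
    exact inv_final y _ hy

/-- The generator matrices over the polynomial ring. -/
noncomputable def gen (F : Type*) [Field F] (i : ℕ) : Matrix.SpecialLinearGroup (Fin 2) F[X] :=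
  ⟨!![1 + s F i * s F i, s F i; s F i, 1], by simp [Matrix.det_fin_two]⟩

/-- The letter matrix. -/
noncomputable def letter (F : Type*) [Field F] (x : ℕ × Bool) : Matrix.SpecialLinearGroup (Fin 2) F[X] :=
  cond x.2 (gen F x.1) (gen F x.1)⁻¹

/-- The first row of a matrix. -/
def row (M : Matrix.SpecialLinearGroup (Fin 2) F[X]) : F[X] × F[X] :=
  ((M : Matrix (Fin 2) (Fin 2) F[X]) 0 0, (M : Matrix (Fin 2) (Fin 2) F[X]) 0 1)

theorem letter_true (i : ℕ) : letter F (i, true) = gen F i := rfl
theorem letter_false (i : ℕ) : letter F (i, false) = (gen F i)⁻¹ := rfl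

theorem gen_val (i : ℕ) : ((gen F i : Matrix.SpecialLinearGroup (Fin 2) F[X]) :
    Matrix (Fin 2) (Fin 2) F[X]) = !![1 + s F i * s F i, s F i; s F i, 1] := rfl

theorem gen_inv_val (i : ℕ) : (((gen F i)⁻¹ : Matrix.SpecialLinearGroup (Fin 2) F[X]) :
    Matrix (Fin 2) (Fin 2) F[X]) = !![1, -s F i; -s F i, 1 + s F i * s F i] := by
  rw [Matrix.SpecialLinearGroup.coe_inv, gen_val, Matrix.adjugate_fin_two]
  simp

theorem row_mul_letter (M : Matrix.SpecialLinearGroup (Fin 2) F[X]) (x : ℕ × Bool) :
    row (M * letter F x) = step x (row M) := by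
  rcases x with ⟨i, _ | _⟩
  · rw [letter_false]
    simp only [row, step, Bool.false_eq_true, if_false,
      Matrix.SpecialLinearGroup.coe_mul, gen_inv_val]
    simp [Matrix.mul_apply, Fin.sum_univ_two]
    constructor <;> ring
  · rw [letter_true]
    simp only [row, step, if_true,
      Matrix.SpecialLinearGroup.coe_mul, gen_val]
    simp [Matrix.mul_apply, Fin.sum_univ_two]
    constructor <;> ring

theorem row_mul_prod : ∀ (L : List (ℕ × Bool)) (M : Matrix.SpecialLinearGroup (Fin 2) F[X]),
    row (M * (L.map (letter F)).prod) = L.foldl (fun (r : F[X] × F[X]) x => step x r) (row M)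
  | [], M => by simp
  | (x :: L), M => by
    rw [List.map_cons, List.prod_cons, ← mul_assoc, row_mul_prod L (M * letter F x), row_mul_letter]
    rfl

theorem row_one : row (1 : Matrix.SpecialLinearGroup (Fin 2) F[X]) = ((1 : F[X]), (0 : F[X])) := by
  simp [row]

/-- The degree bound attached to a word. -/
def bound (L : List (ℕ × Bool)) : ℕ := (L.map (fun x => 2 * (x.1 + 1))).sum

theorem natDegree_s (i : ℕ) : (s F i).natDegree ≤ i + 1 := by
  simp [s]

theorem natDegree_step (x : ℕ × Bool) (r : F[X] × F[X]) (d : ℕ) (h1 : r.1.natDegree ≤ d)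
    (h2 : r.2.natDegree ≤ d) :
    (step x r).1.natDegree ≤ d + 2 * (x.1 + 1) ∧ (step x r).2.natDegree ≤ d + 2 * (x.1 + 1) := by
  rcases x with ⟨i, _ | _⟩
  · have hs := natDegree_s (F := F) i
    simp only [step, Bool.false_eq_true, if_false]
    have e1 : (r.1 - r.2 * s F i).natDegree ≤ d + (i + 1) :=
      (natDegree_sub_le _ _).trans (max_le (by omega) (natDegree_mul_le_of_le h2 hs))
    constructor
    · omega
    · exact (natDegree_sub_le _ _).trans (max_le (by omega)
        ((natDegree_mul_le_of_le e1 hs).trans (by omega)))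
  · have hs := natDegree_s (F := F) i
    simp only [step, if_true]
    have e1 : (r.2 + r.1 * s F i).natDegree ≤ d + (i + 1) :=
      (natDegree_add_le _ _).trans (max_le (by omega) (natDegree_mul_le_of_le h1 hs))
    constructor
    · exact (natDegree_add_le _ _).trans (max_le (by omega)
        ((natDegree_mul_le_of_le e1 hs).trans (by omega)))
    · omega

theorem natDegree_foldl : ∀ (L : List (ℕ × Bool)) (r : F[X] × F[X]) (d : ℕ),
    r.1.natDegree ≤ d → r.2.natDegree ≤ d →
    (L.foldl (fun (r : F[X] × F[X]) x => step x r) r).2.natDegree ≤ d + bound L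
  | [], r, d, _, h2 => by simpa [bound] using h2
  | (x :: L), r, d, h1, h2 => by
    obtain ⟨e1, e2⟩ := natDegree_step x r d h1 h2
    have := natDegree_foldl L (step x r) _ e1 e2
    simp only [List.foldl_cons]
    refine this.trans ?_
    simp only [bound, List.map_cons, List.sum_cons]
    omega

/-- The upper right entry of the word evaluated at the generic matrices. -/
theorem entry_facts (F : Type*) [Field F] (w : FreeGroup ℕ) (hw : w ≠ 1) :
    ((FreeGroup.lift (gen F) w : Matrix.SpecialLinearGroup (Fin 2) F[X]) :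
        Matrix (Fin 2) (Fin 2) F[X]) 0 1 ≠ 0 ∧
    (((FreeGroup.lift (gen F) w : Matrix.SpecialLinearGroup (Fin 2) F[X]) :
        Matrix (Fin 2) (Fin 2) F[X]) 0 1).natDegree ≤ bound w.toWord := by
  set L := w.toWord with hLdef
  have hL : FreeGroup.IsReduced L := FreeGroup.isReduced_toWord
  have hwL : w = FreeGroup.mk L := FreeGroup.mk_toWord.symm
  have hne : L ≠ [] := fun h => hw (FreeGroup.toWord_eq_nil_iff.1 h)
  have hprod : FreeGroup.lift (gen F) w = (L.map (letter F)).prod := by
    rw [hwL, FreeGroup.lift_mk]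
    rfl
  have hrow := row_mul_prod (F := F) L 1
  rw [one_mul, row_one, ← hprod] at hrow
  have h2 : ((FreeGroup.lift (gen F) w : Matrix.SpecialLinearGroup (Fin 2) F[X]) :
        Matrix (Fin 2) (Fin 2) F[X]) 0 1 =
      (L.foldl (fun (r : F[X] × F[X]) x => step x r) ((1 : F[X]), (0 : F[X]))).2 := by
    rw [← hrow]
    rfl
  rw [h2]
  refine ⟨foldl_snd_ne_zero L hL hne, ?_⟩
  have := natDegree_foldl (F := F) L ((1 : F[X]), (0 : F[X])) 0 (by simp) (by simp)
  simpa using this

theorem result (w : FreeGroup ℕ) (hw : w ≠ 1) :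
    ∃ N : ℕ, ∀ (F : Type*) [Field F] [Fintype F], N ≤ Fintype.card F →
      ∃ f : ℕ → Matrix.ProjectiveSpecialLinearGroup (Fin 2) F, FreeGroup.lift f w ≠ 1 := by
  refine ⟨bound w.toWord + 1, ?_⟩
  intro F _ _ hcard
  obtain ⟨hne, hdeg⟩ := entry_facts F w hw
  obtain ⟨t0, ht0⟩ := Polynomial.exists_eval_ne_zero_of_natDegree_lt_card _ hne (by
    rw [Cardinal.mk_fintype]
    norm_cast
    omega)
  let ev : Matrix.SpecialLinearGroup (Fin 2) F[X] →* Matrix.SpecialLinearGroup (Fin 2) F :=
    Matrix.SpecialLinearGroup.map (Polynomial.evalRingHom t0)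
  let π : Matrix.SpecialLinearGroup (Fin 2) F →* Matrix.ProjectiveSpecialLinearGroup (Fin 2) F :=
    QuotientGroup.mk' (Subgroup.center (Matrix.SpecialLinearGroup (Fin 2) F))
  refine ⟨fun i => π (ev (gen F i)), ?_⟩
  have hcomp : FreeGroup.lift (fun i => π (ev (gen F i))) = (π.comp ev).comp (FreeGroup.lift (gen F)) := by
    apply FreeGroup.ext_hom
    intro i
    simp
  rw [hcomp]
  simp only [MonoidHom.comp_apply]
  intro h1
  have hmem : ev (FreeGroup.lift (gen F) w) ∈ Subgroup.center (Matrix.SpecialLinearGroup (Fin 2) F) :=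
    (QuotientGroup.eq_one_iff _).1 h1
  rw [Matrix.SpecialLinearGroup.mem_center_iff] at hmem
  obtain ⟨r, _, hr⟩ := hmem
  have h01 := congrFun (congrFun hr 0) 1
  apply ht0
  have : ((ev (FreeGroup.lift (gen F) w) : Matrix.SpecialLinearGroup (Fin 2) F) :
      Matrix (Fin 2) (Fin 2) F) 0 1 =
      Polynomial.eval t0 (((FreeGroup.lift (gen F) w : Matrix.SpecialLinearGroup (Fin 2) F[X]) :
        Matrix (Fin 2) (Fin 2) F[X]) 0 1) := rfl
  rw [← this, ← h01]
  simp

end Cfsg.Agent.S2353
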