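import Cfsg.Statements.S2354
import Cfsg.Agent.Lib.Helper37_SzLaw
import Cfsg.Agent.Lib.Helper37_SzBridge

set_option autoImplicit false
open Cfsg

namespace Cfsg.Agent.S2354

open Cfsg.Agent.Helper37Sz Cfsg.Agent.Lib.Helper37_SzLaw Polynomial

section Aux

variable {F : Type*} [Field F]

/-- the evaluation homomorphism on units of matrix rings -/
noncomputable def evGL (t0 : F) : (Matrix (Fin 4) (Fin 4) F[X])ˣ →* (Matrix (Fin 4) (Fin 4) F)ˣ :=
  Units.map (RingHom.toMonoidHom (RingHom.mapMatrix (Polynomial.evalRingHom t0)))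

theorem evGL_val (t0 : F) (g : (Matrix (Fin 4) (Fin 4) F[X])ˣ) :
    ((evGL t0 g : (Matrix (Fin 4) (Fin 4) F)ˣ) : Matrix (Fin 4) (Fin 4) F)
      = (g : Matrix (Fin 4) (Fin 4) F[X]).map (Polynomial.eval t0) := rfl

theorem map_PW (t0 : F) :
    (PW : Matrix (Fin 4) (Fin 4) F[X]).map (Polynomial.eval t0) = Helper37Sz.wMat := by
  ext i j
  fin_cases i <;> fin_cases j <;> simp [PW, Helper37Sz.wMat]

theorem map_PU {S : F →+* F} {m : ℕ} (hSdef : ∀ z, S z = z ^ 2 ^ (m + 1)) (t0 : F) (i : ℕ) :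
    (PU F (2 ^ (m + 1)) i).map (Polynomial.eval t0) = Helper37Sz.uMat S (t0 ^ (i + 1)) 0 := by
  have h1 : S (t0 ^ (i + 1)) = t0 ^ (2 ^ (m + 1) * (i + 1)) := by
    rw [hSdef, ← pow_mul, mul_comm]
  ext a b
  fin_cases a <;> fin_cases b <;>
    simp [PU, TT, pa, psa, Helper37Sz.uMat, Cfsg.Agent.S0335.sf, h1]

end Aux

theorem result (w : FreeGroup ℕ) (hw : w ≠ 1) :
    ∃ N : ℕ, ∀ (F : Type*) [Field F] [Fintype F] (m : ℕ), 1 ≤ m → N ≤ m →
      Fintype.card F = 2 ^ (2 * m + 1) →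
      ∃ f : ℕ → ↥(Cfsg.Lie.Sz F (2 ^ (m + 1))), FreeGroup.lift f w ≠ 1 := by
  refine ⟨4 * bound w.toWord + 4, ?_⟩
  intro F _ _ m hm hN hF
  have h2 := two_eq_zero_of_card hF
  have hSdef : ∀ z, sgHom F m h2 z = z ^ 2 ^ (m + 1) := fun z => sgHom_apply m h2 z
  have hS : ∀ z, sgHom F m h2 (sgHom F m h2 z) = z ^ 2 := fun z => sgHom_sgHom hF h2 z
  obtain ⟨j, hne, hdeg⟩ := exists_entry (2 ^ (m + 1)) h2 w hw
  -- the degree is smaller than the cardinality of the field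
  have hlt : (2 ^ (m + 1) + 2) * bound w.toWord < 2 ^ (2 * m + 1) := by
    have h1 : m + 2 ≤ 2 ^ (m + 1) := by
      have := Nat.lt_two_pow_self (n := m + 1)
      omega
    have h3 : 2 ^ (m + 1) * 2 ^ (m + 1) = 2 * 2 ^ (2 * m + 1) := by ring
    nlinarith
  obtain ⟨t0, ht0⟩ := Polynomial.exists_eval_ne_zero_of_natDegree_lt_card _ hne (by
    rw [Cardinal.mk_fintype, hF]
    exact_mod_cast lt_of_le_of_lt hdeg hlt)
  -- the substituted elements
  let g : ℕ → Cfsg.Sz F m := fun i =>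
    uQ h2 hS hSdef (t0 ^ (i + 1)) 0 * wQ h2 hS hSdef * uQ h2 hS hSdef (t0 ^ (i + 1)) 0
      * wQ h2 hS hSdef
  refine ⟨fun i => lieSzEquiv hm hF (g i), ?_⟩
  intro h1
  have hD : FreeGroup.lift (fun i => lieSzEquiv hm hF (g i))
      = (lieSzEquiv hm hF).toMonoidHom.comp (FreeGroup.lift g) := by
    apply FreeGroup.ext_hom
    intro i
    simp
  rw [hD] at h1
  have h3 : FreeGroup.lift g w = 1 := by
    apply (lieSzEquiv hm hF).injective
    rw [map_one]
    exact h1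
  have hC : ∀ i, szToGL F m (g i) = evGL t0 (gen (2 ^ (m + 1)) h2 i) := by
    intro i
    apply Units.ext
    rw [szToGL_coe, evGL_val]
    show Helper37Sz.uMat (sgHom F m h2) (t0 ^ (i + 1)) 0 * Helper37Sz.wMat
        * Helper37Sz.uMat (sgHom F m h2) (t0 ^ (i + 1)) 0 * Helper37Sz.wMat
      = (letterMat F (2 ^ (m + 1)) (i, true)).map (Polynomial.eval t0)
    simp only [letterMat, if_true]
    have hmap : ∀ A B : Matrix (Fin 4) (Fin 4) F[X],
        (A * B).map (Polynomial.eval t0) = A.map (Polynomial.eval t0) * B.map (Polynomial.eval t0) :=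
      fun A B => Matrix.map_mul (f := Polynomial.evalRingHom t0)
    rw [hmap, hmap, hmap, map_PW, map_PU hSdef]
  have hA : (szToGL F m).comp (FreeGroup.lift g)
      = (evGL t0).comp (FreeGroup.lift (gen (2 ^ (m + 1)) h2)) := by
    apply FreeGroup.ext_hom
    intro i
    simp [hC]
  have h4 : evGL t0 (FreeGroup.lift (gen (2 ^ (m + 1)) h2) w) = 1 := by
    have := congrArg (fun φ : FreeGroup ℕ →* GL (Fin 4) F => φ w) hA
    simp only [MonoidHom.comp_apply] at this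
    rw [← this, h3, map_one]
  have h5 := congrArg (fun u : (Matrix (Fin 4) (Fin 4) F)ˣ =>
    (u : Matrix (Fin 4) (Fin 4) F) 0 j) h4
  simp only [evGL_val, Units.val_one, Matrix.map_apply] at h5
  apply ht0
  rw [Polynomial.eval_sub, h5]
  by_cases h : (0 : Fin 4) = j
  · rw [← h, Matrix.one_apply_eq, Matrix.one_apply_eq, Polynomial.eval_one, sub_self]
  · rw [Matrix.one_apply_ne h, Matrix.one_apply_ne h, Polynomial.eval_zero, sub_self]

end Cfsg.Agent.S2354
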