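import Cfsg.Statements.S2355
import Cfsg.Agent.Lib.Helper66_LawHyp
import Cfsg.Agent.Lib.Helper66_LawUnitary

set_option autoImplicit false
open Cfsg

namespace Cfsg.Agent.S2355

open Cfsg.Agent.Lib.Helper66_LawCore Cfsg.Agent.Lib.Helper66_LawGen Cfsg.Agent.Lib.Helper66_LawEmbed
  Cfsg.Agent.Lib.Helper66_LawHyp Cfsg.Agent.Lib.Helper66_LawUnitary

theorem card_le_of_iso_quot {G H : Type*} [Group G] [Group H] (e : G ≃* H ⧸ Subgroup.center H)
    {ι F : Type} [Fintype ι] [DecidableEq ι] [Fintype F] (ρ : H → Matrix ι ι F)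
    (hρ : Function.Injective ρ) :
    Nat.card G ≤ Fintype.card F ^ (Fintype.card ι * Fintype.card ι) := by
  have : Finite H := Finite.of_injective ρ hρ
  have hM : Fintype.card (Matrix ι ι F) = Fintype.card F ^ (Fintype.card ι * Fintype.card ι) := by
    show Fintype.card (ι → ι → F) = _
    rw [Fintype.card_fun, Fintype.card_fun, ← pow_mul, mul_comm]
  calc Nat.card G = Nat.card (H ⧸ Subgroup.center H) := Nat.card_congr e.toEquiv
    _ ≤ Nat.card H := Nat.card_le_card_of_surjective _ QuotientGroup.mk_surjective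
    _ ≤ Nat.card (Matrix ι ι F) := Nat.card_le_card_of_injective ρ hρ
    _ = Fintype.card F ^ (Fintype.card ι * Fintype.card ι) := by
      rw [Nat.card_eq_fintype_card, hM]

theorem pow_bound {a k B d : ℕ} (ha : a ≤ B) (hk : k ≤ d) (hB : 1 ≤ B) :
    a ^ (k * k) ≤ B ^ (d * d) :=
  le_trans (Nat.pow_le_pow_left ha _) (Nat.pow_le_pow_right hB (Nat.mul_le_mul hk hk))

theorem omega_val_injective {ι : Type} [Fintype ι] [DecidableEq ι] {F : Type} [Field F]
    (Q : (ι → F) → F) :
    Function.Injective (fun x : Cfsg.Omega F Q => ((x.1.1 : Matrix.GeneralLinearGroup ι F) : Matrix ι ι F)) := by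
  intro a b hab
  apply Subtype.ext
  apply Subtype.ext
  exact Units.ext hab

/-- A non-trivial law is satisfied by only finitely many finite simple groups that are alternating or classical, up to isomorphism: for every non-trivial element w of the free group on countably many generators there is a bound N such that every alternating group of degree ≥ 5 and every simple classical group (linear, symplectic, unitary or orthogonal, in this problem's sense) in which w is a law has order at most N. -/
theorem result (w : FreeGroup ℕ) (hw : w ≠ 1) :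
    ∃ N : ℕ, ∀ (G : Type*) [Group G] [Finite G],
      (Cfsg.IsAlternating G ∨ Cfsg.IsPSL G ∨ Cfsg.IsPSp G ∨ Cfsg.IsPSU G ∨ Cfsg.IsPOmegaOdd G ∨
          Cfsg.IsPOmegaPlus G ∨ Cfsg.IsPOmegaMinus G) →
      (∀ f : ℕ → G, FreeGroup.lift f w = 1) → Nat.card G ≤ N := by
  obtain ⟨n₀, hn₀5, hn₀⟩ := exists_alt_bound w hw
  refine ⟨((lawDeg w + 1) ^ 2) ^ ((2 * n₀ + 1) * (2 * n₀ + 1)) + n₀.factorial, ?_⟩
  intro G _ _ hfam hlaw
  have hrank : ∀ n, LawModCenter w (alternatingGroup (Fin n)) → n < n₀ := by
    intro n h
    by_contra hc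
    exact hn₀ n (by omega) h
  have hB1 : 1 ≤ (lawDeg w + 1) ^ 2 := Nat.one_le_pow _ _ (by omega)
  have hBD : lawDeg w + 1 ≤ (lawDeg w + 1) ^ 2 := by nlinarith
  rcases hfam with h | h | h | h | h | h | h
  · -- alternating
    obtain ⟨n, hn, ⟨e⟩⟩ := h
    have hl : LawModCenter w (alternatingGroup (Fin n)) := by
      intro f
      have h1 : FreeGroup.lift f w = e (FreeGroup.lift (e.symm ∘ f) w) := by
        have := lift_comp e.toMonoidHom (e.symm ∘ f) w
        rw [show e (FreeGroup.lift (e.symm ∘ f) w) = e.toMonoidHom (FreeGroup.lift (e.symm ∘ f) w)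
          from rfl, this]
        have hf : (⇑e.toMonoidHom ∘ ⇑e.symm ∘ f) = f := by
          funext i
          simp
        rw [hf]
      rw [h1, hlaw, map_one]
      exact Subgroup.one_mem _
    have hn' := hrank n hl
    calc Nat.card G = Nat.card (alternatingGroup (Fin n)) := Nat.card_congr e.toEquiv
      _ ≤ Nat.card (Equiv.Perm (Fin n)) :=
        Nat.card_le_card_of_injective Subtype.val Subtype.val_injective
      _ = n.factorial := by rw [Nat.card_eq_fintype_card, Fintype.card_perm, Fintype.card_fin]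
      _ ≤ n₀.factorial := Nat.factorial_le (by omega)
      _ ≤ _ := Nat.le_add_left _ _
  · -- PSL
    obtain ⟨F, _, _, n, hn, _, ⟨e⟩⟩ := h
    have hl : LawModCenter w (Matrix.SpecialLinearGroup (Fin n) F) := lawModCenter_of_iso e hlaw
    have hF : Fintype.card F ≤ lawDeg w + 1 := by
      by_contra hc
      have h01 : (⟨0, by omega⟩ : Fin n) ≠ ⟨1, by omega⟩ := by
        intro h; simpa using congrArg Fin.val h
      exact sl_not_lawModCenter w hw h01 (by omega) hl
    have hl' : LawModCenter w (⊤ : Subgroup (Matrix.SpecialLinearGroup (Fin n) F)) :=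
      lawModCenter_of_injective (Subgroup.subtype ⊤) Subtype.val_injective hl
    have hn' : n < n₀ := hrank n (lawModCenter_alt (slHom (Fin n) F) (MonoidHom.id _) id
      Function.injective_id (fun g x => by rw [ext0_id, ext0_id]; rfl) ⊤ w
      (fun _ => Subgroup.mem_top _) hl')
    have hc := card_le_of_iso_quot e (fun g : Matrix.SpecialLinearGroup (Fin n) F => g.1)
      Subtype.val_injective
    rw [Fintype.card_fin] at hc
    exact le_trans hc (le_trans (pow_bound (le_trans hF hBD) (by omega) hB1) (Nat.le_add_right _ _))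
  · -- PSp
    obtain ⟨F, _, _, m, hm, _, ⟨e⟩⟩ := h
    have hl : LawModCenter w (Matrix.symplecticGroup (Fin m) F) := lawModCenter_of_iso e hlaw
    obtain ⟨hF, hA⟩ := sp_bounds w hw hm hl
    have hm' := hrank m hA
    have hc := card_le_of_iso_quot e (fun g : Matrix.symplecticGroup (Fin m) F => g.1)
      Subtype.val_injective
    rw [Fintype.card_sum, Fintype.card_fin] at hc
    exact le_trans hc (le_trans (pow_bound (le_trans hF hBD) (by omega) hB1) (Nat.le_add_right _ _))
  · -- PSU
    obtain ⟨F, _, _, n, q, hFq, hn, _, ⟨e⟩⟩ := h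
    have hl : LawModCenter w (Cfsg.SU n F q) := lawModCenter_of_iso e hlaw
    have hq := su_field w hw hFq (by omega) hl
    have hn' := hrank n (su_rank w hl)
    have hc := card_le_of_iso_quot e (fun g : Cfsg.SU n F q => g.1.1)
      (Subtype.val_injective.comp Subtype.val_injective)
    rw [Fintype.card_fin, hFq] at hc
    exact le_trans hc (le_trans (pow_bound (Nat.pow_le_pow_left hq 2) (by omega) hB1)
      (Nat.le_add_right _ _))
  · -- odd orthogonal
    obtain ⟨F, _, _, m, hm, _, ⟨e⟩⟩ := h
    have hl : LawModCenter w (Cfsg.Omega F (Cfsg.quadFormOdd m F)) := lawModCenter_of_iso e hlaw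
    obtain ⟨hF, hA⟩ := odd_bounds w hw hm hl
    have hm' : m < n₀ := by
      by_contra hc
      exact absurd (hrank m (hA (by omega))) hc
    have hc := card_le_of_iso_quot e _ (omega_val_injective (Cfsg.quadFormOdd m F))
    simp only [Fintype.card_sum, Fintype.card_fin, Fintype.card_unit] at hc
    exact le_trans hc (le_trans (pow_bound (le_trans hF hBD) (by omega) hB1) (Nat.le_add_right _ _))
  · -- plus
    obtain ⟨F, _, _, m, hm, ⟨e⟩⟩ := h
    have hl : LawModCenter w (Cfsg.Omega F (Cfsg.quadFormPlus m F)) := lawModCenter_of_iso e hlaw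
    obtain ⟨hF, hA⟩ := plus_bounds w hw (by omega) hl
    have hm' : m < n₀ := by
      by_contra hc
      exact absurd (hrank m (hA (by omega))) hc
    have hc := card_le_of_iso_quot e _ (omega_val_injective (Cfsg.quadFormPlus m F))
    simp only [Fintype.card_sum, Fintype.card_fin] at hc
    exact le_trans hc (le_trans (pow_bound (le_trans hF hBD) (by omega) hB1) (Nat.le_add_right _ _))
  · -- minus
    obtain ⟨F, _, _, m, a, b, hm, _, ⟨e⟩⟩ := h
    have hl : LawModCenter w (Cfsg.Omega F (Cfsg.quadFormMinus (m - 1) F a b)) :=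
      lawModCenter_of_iso e hlaw
    obtain ⟨hF, hA⟩ := minus_bounds w hw (by omega) a b hl
    have hm' : m - 1 < n₀ := by
      by_contra hc
      exact absurd (hrank (m - 1) (hA (by omega))) hc
    have hc := card_le_of_iso_quot e _ (omega_val_injective (Cfsg.quadFormMinus (m - 1) F a b))
    simp only [Fintype.card_sum, Fintype.card_fin] at hc
    exact le_trans hc (le_trans (pow_bound (le_trans hF hBD) (by omega) hB1) (Nat.le_add_right _ _))

end Cfsg.Agent.S2355
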