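import Cfsg.Statements.S2356
import Cfsg.Agent.Lib.Helper13_SU3Graph
import Cfsg.Agent.S2360

set_option autoImplicit false
open Cfsg

namespace Cfsg.Agent.S2356

open Matrix Cfsg.Agent.Lib.Helper13_Herm Cfsg.Agent.Lib.Helper13_SU3Inv
  Cfsg.Agent.Lib.Helper13_SU3Graph Cfsg.Agent.Lib.Helper5_GUOrder Cfsg.Agent.S2360

variable {F : Type*} [Field F] [Fintype F] {q : ℕ}

omit [Fintype F] in
theorem commute_iff_mat (x y : ↥(Cfsg.SU 3 F q)) :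
    Commute x y ↔ mat x * mat y = mat y * mat x := by
  rw [commute_iff_eq, ← mat_mul, ← mat_mul, mat_injective.eq_iff]

theorem mat_toInv (hF : Fintype.card F = q ^ 2) (hq : Odd q) (v : X 3 q F) :
    mat (toInv hF hq v).1 = refl 3 q v.1 := rfl

/-- Counting involutions with a property through their norm-one vectors. -/
theorem card_invol_prop (hF : Fintype.card F = q ^ 2) (hq : Odd q)
    (P : ↥(Cfsg.SU 3 F q) → Prop) :
    Nat.card {x : ↥(Cfsg.SU 3 F q) // x ≠ 1 ∧ x * x = 1 ∧ P x} * (q + 1) =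
      Nat.card {v : X 3 q F // P (toInv hF hq v).1} := by
  rw [← card_fiber hF hq (fun i => P i.1)]
  congr 1
  apply Nat.card_congr
  exact ⟨fun x => ⟨⟨x.1, x.2.1, x.2.2.1⟩, x.2.2.2⟩, fun i => ⟨i.1.1, i.1.2.1, i.1.2.2, i.2⟩,
    fun _ => rfl, fun _ => rfl⟩

theorem sq_sub_one (q : ℕ) (hq : 1 ≤ q) : q ^ 2 - 1 = (q - 1) * (q + 1) := by
  obtain ⟨k, rfl⟩ : ∃ k, q = k + 1 := ⟨q - 1, by omega⟩
  rw [Nat.add_sub_cancel]
  apply Nat.sub_eq_of_eq_add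
  ring

theorem card_near (hF : Fintype.card F = q ^ 2) (hq : Odd q) (t : ↥(Cfsg.SU 3 F q))
    (ht : t ≠ 1) (ht2 : t * t = 1) :
    Nat.card {x : ↥(Cfsg.SU 3 F q) // x ≠ 1 ∧ x * x = 1 ∧ x ≠ t ∧ Commute t x} =
      q * (q - 1) := by
  have h2 := two_ne_zero_of_odd hF hq
  have hq2 := two_le_q hF
  obtain ⟨u, hu, htu⟩ := exists_eq_refl hF hq t ht ht2
  have h := card_invol_prop hF hq (fun x => x ≠ t ∧ Commute t x)
  have e : {v : X 3 q F // (toInv hF hq v).1 ≠ t ∧ Commute t (toInv hF hq v).1} ≃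
      {v : X 3 q F // Cfsg.hermForm 3 F q u v.1 = 0} := by
    apply Equiv.subtypeEquivRight
    intro v
    rw [commute_iff_mat, ← mat_injective.ne_iff, htu, mat_toInv]
    exact refl_adj_iff hF h2 hu v.2
  rw [Nat.card_congr e, card_perp hF hu, sq_sub_one q (by omega), ← mul_assoc] at h
  exact Nat.eq_of_mul_eq_mul_right (by omega) h

theorem card_far_invol (hF : Fintype.card F = q ^ 2) (hq : Odd q) (t : ↥(Cfsg.SU 3 F q))
    (ht : t ≠ 1) (ht2 : t * t = 1) :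
    Nat.card {x : ↥(Cfsg.SU 3 F q) // x ≠ 1 ∧ x * x = 1 ∧ ¬ Commute t x ∧
        ∀ y : ↥(Cfsg.SU 3 F q), y ≠ 1 → y * y = 1 → ¬ (Commute t y ∧ Commute y x)} =
      (q + 1) * (q ^ 2 - 1) := by
  have h2 := two_ne_zero_of_odd hF hq
  have hq2 := two_le_q hF
  obtain ⟨u, hu, htu⟩ := exists_eq_refl hF hq t ht ht2
  have h := card_invol_prop hF hq (fun x => ¬ Commute t x ∧
    ∀ y : ↥(Cfsg.SU 3 F q), y ≠ 1 → y * y = 1 → ¬ (Commute t y ∧ Commute y x))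
  have e : {v : X 3 q F // ¬ Commute t (toInv hF hq v).1 ∧
        ∀ y : ↥(Cfsg.SU 3 F q), y ≠ 1 → y * y = 1 →
          ¬ (Commute t y ∧ Commute y (toInv hF hq v).1)} ≃
      {v : X 3 q F // Cfsg.hermForm 3 F q v.1 u * Cfsg.hermForm 3 F q v.1 u ^ q = 1 ∧
        v.1 ≠ Cfsg.hermForm 3 F q v.1 u • u} := by
    apply Equiv.subtypeEquivRight
    intro v
    rw [← far_iff hF hq hu v.2, commute_iff_mat, htu, mat_toInv]
    apply and_congr_right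
    intro _
    constructor
    · intro hall w hw
      obtain ⟨xw, hxw⟩ : ∃ xw : X 3 q F, xw.1 = w := ⟨⟨w, hw⟩, rfl⟩
      have := hall (toInv hF hq xw).1 (toInv hF hq xw).2.1 (toInv hF hq xw).2.2
      rw [commute_iff_mat, commute_iff_mat, htu, mat_toInv, mat_toInv, hxw] at this
      exact this
    · intro hall y hy hy2
      obtain ⟨w, hw, hyw⟩ := exists_eq_refl hF hq y hy hy2
      rw [commute_iff_mat, commute_iff_mat, htu, mat_toInv, hyw]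
      exact hall w hw
  rw [Nat.card_congr e, card_far hF hu, mul_comm (q + 1) ((q ^ 2 - 1) * (q + 1)),
    mul_comm (q ^ 2 - 1) (q + 1)] at h
  exact Nat.eq_of_mul_eq_mul_right (by omega) h

theorem diameter (hF : Fintype.card F = q ^ 2) (hq : Odd q) (t : ↥(Cfsg.SU 3 F q))
    (ht : t ≠ 1) (ht2 : t * t = 1) (x : ↥(Cfsg.SU 3 F q)) (hx : x ≠ 1) (hx2 : x * x = 1) :
    ∃ y z : ↥(Cfsg.SU 3 F q), y ≠ 1 ∧ y * y = 1 ∧ z ≠ 1 ∧ z * z = 1 ∧
      Commute t y ∧ Commute y z ∧ Commute z x := by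
  obtain ⟨u, hu, htu⟩ := exists_eq_refl hF hq t ht ht2
  obtain ⟨v, hv, hxv⟩ := exists_eq_refl hF hq x hx hx2
  obtain ⟨w, z, hw, hz, h1, h2, h3⟩ := exists_path hF hq hu hv
  obtain ⟨xw, hxw⟩ : ∃ xw : X 3 q F, xw.1 = w := ⟨⟨w, hw⟩, rfl⟩
  obtain ⟨xz, hxz⟩ : ∃ xz : X 3 q F, xz.1 = z := ⟨⟨z, hz⟩, rfl⟩
  refine ⟨(toInv hF hq xw).1, (toInv hF hq xz).1, (toInv hF hq xw).2.1,
    (toInv hF hq xw).2.2, (toInv hF hq xz).2.1, (toInv hF hq xz).2.2, ?_, ?_, ?_⟩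
  · rw [commute_iff_mat, htu, mat_toInv, hxw]
    exact h1
  · rw [commute_iff_mat, mat_toInv, mat_toInv, hxw, hxz]
    exact h2
  · rw [commute_iff_mat, hxv, mat_toInv, hxz]
    exact h3

theorem card_mid (hF : Fintype.card F = q ^ 2) (hq : Odd q) (t : ↥(Cfsg.SU 3 F q))
    (ht : t ≠ 1) (ht2 : t * t = 1) :
    Nat.card {x : ↥(Cfsg.SU 3 F q) // x ≠ 1 ∧ x * x = 1 ∧ ¬ Commute t x ∧
        ∃ y : ↥(Cfsg.SU 3 F q), y ≠ 1 ∧ y * y = 1 ∧ Commute t y ∧ Commute y x} =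
      q * (q - 2) * (q ^ 2 - 1) := by
  have hq2 := two_le_q hF
  have : Finite ↥(Cfsg.SU 3 F q) := inferInstance
  have hT := card_invol (F := F) hF hq
  have h1 := card_near hF hq t ht ht2
  have h3 := card_far_invol hF hq t ht ht2
  -- split the involutions
  have s1 := card_split (fun x : ↥(Cfsg.SU 3 F q) => x ≠ 1 ∧ x * x = 1) (fun x => Commute t x)
  have s2 := card_split (fun x : ↥(Cfsg.SU 3 F q) => (x ≠ 1 ∧ x * x = 1) ∧ Commute t x)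
    (fun x => x ≠ t)
  have s3 := card_split (fun x : ↥(Cfsg.SU 3 F q) => (x ≠ 1 ∧ x * x = 1) ∧ ¬ Commute t x)
    (fun x => ∃ y : ↥(Cfsg.SU 3 F q), y ≠ 1 ∧ y * y = 1 ∧ Commute t y ∧ Commute y x)
  have c1 : Nat.card {x : ↥(Cfsg.SU 3 F q) // ((x ≠ 1 ∧ x * x = 1) ∧ Commute t x) ∧ x ≠ t} =
      q * (q - 1) := by
    rw [← h1]
    apply Nat.card_congr
    apply Equiv.subtypeEquivRight
    intro x
    exact ⟨fun ⟨⟨⟨a, b⟩, c⟩, d⟩ => ⟨a, b, d, c⟩, fun ⟨a, b, d, c⟩ => ⟨⟨⟨a, b⟩, c⟩, d⟩⟩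
  have c2 : Nat.card {x : ↥(Cfsg.SU 3 F q) // ((x ≠ 1 ∧ x * x = 1) ∧ Commute t x) ∧ ¬ x ≠ t} =
      1 := by
    rw [Nat.card_eq_one_iff_unique]
    constructor
    · constructor
      intro a b
      apply Subtype.ext
      rw [not_not.mp a.2.2, not_not.mp b.2.2]
    · exact ⟨⟨t, ⟨⟨ht, ht2⟩, Commute.refl t⟩, by simp⟩⟩
  have c3 : Nat.card {x : ↥(Cfsg.SU 3 F q) // ((x ≠ 1 ∧ x * x = 1) ∧ ¬ Commute t x) ∧
      ¬ ∃ y : ↥(Cfsg.SU 3 F q), y ≠ 1 ∧ y * y = 1 ∧ Commute t y ∧ Commute y x} =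
      (q + 1) * (q ^ 2 - 1) := by
    rw [← h3]
    apply Nat.card_congr
    apply Equiv.subtypeEquivRight
    intro x
    constructor
    · rintro ⟨⟨⟨a, b⟩, c⟩, d⟩
      exact ⟨a, b, c, fun y hy hy2 hc => d ⟨y, hy, hy2, hc.1, hc.2⟩⟩
    · rintro ⟨a, b, c, d⟩
      exact ⟨⟨⟨a, b⟩, c⟩, fun ⟨y, hy, hy2, hc1, hc2⟩ => d y hy hy2 ⟨hc1, hc2⟩⟩
  have c4 : Nat.card {x : ↥(Cfsg.SU 3 F q) // ((x ≠ 1 ∧ x * x = 1) ∧ ¬ Commute t x) ∧
      ∃ y : ↥(Cfsg.SU 3 F q), y ≠ 1 ∧ y * y = 1 ∧ Commute t y ∧ Commute y x} =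
      Nat.card {x : ↥(Cfsg.SU 3 F q) // x ≠ 1 ∧ x * x = 1 ∧ ¬ Commute t x ∧
        ∃ y : ↥(Cfsg.SU 3 F q), y ≠ 1 ∧ y * y = 1 ∧ Commute t y ∧ Commute y x} := by
    apply Nat.card_congr
    apply Equiv.subtypeEquivRight
    intro x
    exact ⟨fun ⟨⟨⟨a, b⟩, c⟩, d⟩ => ⟨a, b, c, d⟩, fun ⟨a, b, c, d⟩ => ⟨⟨⟨a, b⟩, c⟩, d⟩⟩
  rw [c1, c2] at s2
  rw [c3, c4] at s3
  rw [← s2, ← s3, hT] at s1
  obtain ⟨N, hN⟩ : ∃ N, N = Nat.card {x : ↥(Cfsg.SU 3 F q) // x ≠ 1 ∧ x * x = 1 ∧ ¬ Commute t x ∧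
        ∃ y : ↥(Cfsg.SU 3 F q), y ≠ 1 ∧ y * y = 1 ∧ Commute t y ∧ Commute y x} := ⟨_, rfl⟩
  rw [← hN] at s1 ⊢
  obtain ⟨m, rfl⟩ : ∃ m, q = m + 2 := ⟨q - 2, by omega⟩
  have e1 : (m + 2) ^ 2 - 1 = m ^ 2 + 4 * m + 3 := by
    apply Nat.sub_eq_of_eq_add
    ring
  have e2 : (m + 2) ^ 2 - (m + 2) = m ^ 2 + 3 * m + 2 := by
    apply Nat.sub_eq_of_eq_add
    ring
  have e3 : m + 2 - 1 = m + 1 := by omega
  have e4 : m + 2 - 2 = m := by omega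
  rw [e1, e2, e3] at s1
  rw [e1, e4]
  nlinarith [s1]

/-- Let q be odd, F the field with q² elements, S = SU_3(F) (determinant-one isometries of the standard Hermitian form) and t an involution of S. Then: exactly q(q−1) involutions other than t commute with t; exactly q(q−2)(q²−1) involutions do not commute with t but commute with some involution commuting with t; exactly (q+1)(q²−1) involutions x do not commute with t and admit no involution commuting with both t and x; and every involution can be reached from t in at most three steps, each step going to an involution that commutes with the previous one (the commuting involution graph is connected of diameter 3). -/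
theorem result {F : Type*} [Field F] [Fintype F] {q : ℕ} (hq : Odd q)
    (hF : Fintype.card F = q ^ 2) (t : ↥(Cfsg.SU 3 F q)) (ht : t ≠ 1) (ht2 : t * t = 1) :
    Nat.card {x : ↥(Cfsg.SU 3 F q) // x ≠ 1 ∧ x * x = 1 ∧ x ≠ t ∧ Commute t x} = q * (q - 1) ∧
    Nat.card {x : ↥(Cfsg.SU 3 F q) // x ≠ 1 ∧ x * x = 1 ∧ ¬ Commute t x ∧
        ∃ y : ↥(Cfsg.SU 3 F q), y ≠ 1 ∧ y * y = 1 ∧ Commute t y ∧ Commute y x} = q * (q - 2) * (q ^ 2 - 1) ∧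
    Nat.card {x : ↥(Cfsg.SU 3 F q) // x ≠ 1 ∧ x * x = 1 ∧ ¬ Commute t x ∧
        ∀ y : ↥(Cfsg.SU 3 F q), y ≠ 1 → y * y = 1 → ¬ (Commute t y ∧ Commute y x)} = (q + 1) * (q ^ 2 - 1) ∧
    ∀ x : ↥(Cfsg.SU 3 F q), x ≠ 1 → x * x = 1 →
      ∃ y z : ↥(Cfsg.SU 3 F q), y ≠ 1 ∧ y * y = 1 ∧ z ≠ 1 ∧ z * z = 1 ∧
        Commute t y ∧ Commute y z ∧ Commute z x :=
  ⟨card_near hF hq t ht ht2, card_mid hF hq t ht ht2, card_far_invol hF hq t ht ht2,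
    fun x hx hx2 => diameter hF hq t ht ht2 x hx hx2⟩

end Cfsg.Agent.S2356
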