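import Cfsg.Statements.S2359
import Cfsg.Agent.Lib.Helper37_ReeTorMain

set_option autoImplicit false
open Cfsg
open Cfsg.Lie Cfsg.Agent.Lib.Helper36_ReeFix Cfsg.Agent.Lib.Helper37_ReeTorMain
  Cfsg.Agent.Lib.Helper10_ReeTor_ARITH59 Cfsg.Agent.Lib.Helper10_ReeTor_PRODCENT Cfsg.Agent.Lib.Helper12_ReeTor_ABS2
  Cfsg.Agent.Lib.Helper12_ReeTor_TRANSPORT2 Cfsg.Agent.Lib.Helper37_ReeTor_NO3 Cfsg.Agent.Lib.Helper37_ReeTor_SYLCONJP
  Cfsg.Agent.Lib.Helper60_ReeSylP_CARDC Cfsg.Agent.Lib.Helper61_ReeTor_PSL2CENT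

namespace Cfsg.Agent.S2359

/-- Let R be the small Ree group over the field with q = 3^(2m+1) ≥ 27 elements. If H is a cyclic subgroup of R of order (q−1)/2, then the centralizer of H in R is cyclic of order q−1, and every non-trivial subgroup of H has the same centralizer as H. If H is a cyclic subgroup of order (q+1)/4, then the centralizer of H is abelian of order q+1 with no element of order 4 (so it is the direct product of H and a group of order 4 whose non-identity elements all have order 2), and every non-trivial subgroup of H has the same centralizer as H. -/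
theorem result {K : Type*} [Field K] [Fintype K] {m : ℕ} (hm : 1 ≤ m)
    (hK : Fintype.card K = 3 ^ (2 * m + 1)) (H : Subgroup ↥(Cfsg.Lie.twistedG2 K (3 ^ m))) (hH : IsCyclic H) :
    (Nat.card H = (3 ^ (2 * m + 1) - 1) / 2 →
      IsCyclic ↥(Subgroup.centralizer (H : Set ↥(Cfsg.Lie.twistedG2 K (3 ^ m)))) ∧
        Nat.card ↥(Subgroup.centralizer (H : Set ↥(Cfsg.Lie.twistedG2 K (3 ^ m)))) = 3 ^ (2 * m + 1) - 1 ∧
        ∀ A : Subgroup ↥(Cfsg.Lie.twistedG2 K (3 ^ m)), A ≤ H → A ≠ ⊥ →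
          Subgroup.centralizer (A : Set ↥(Cfsg.Lie.twistedG2 K (3 ^ m))) = Subgroup.centralizer (H : Set ↥(Cfsg.Lie.twistedG2 K (3 ^ m)))) ∧
    (Nat.card H = (3 ^ (2 * m + 1) + 1) / 4 →
      IsMulCommutative ↥(Subgroup.centralizer (H : Set ↥(Cfsg.Lie.twistedG2 K (3 ^ m)))) ∧
        Nat.card ↥(Subgroup.centralizer (H : Set ↥(Cfsg.Lie.twistedG2 K (3 ^ m)))) = 3 ^ (2 * m + 1) + 1 ∧
        (∀ x ∈ Subgroup.centralizer (H : Set ↥(Cfsg.Lie.twistedG2 K (3 ^ m))), orderOf x ≠ 4) ∧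
        ∀ A : Subgroup ↥(Cfsg.Lie.twistedG2 K (3 ^ m)), A ≤ H → A ≠ ⊥ →
          Subgroup.centralizer (A : Set ↥(Cfsg.Lie.twistedG2 K (3 ^ m))) = Subgroup.centralizer (H : Set ↥(Cfsg.Lie.twistedG2 K (3 ^ m)))) := by
  have := charP3 hK
  have hmc : IsMulCommutative ↥H := IsCyclic.isMulCommutative
  have hHc : ∀ g ∈ H, ∀ k ∈ H, g * k = k * g := fun g hg k hk =>
    congrArg Subtype.val (hmc.is_comm.comm ⟨g, hg⟩ ⟨k, hk⟩)
  obtain ⟨hodd1, h2n, hodd2, h4n⟩ := arith59 m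
  have hq27 : 3 ^ 3 ≤ 3 ^ (2 * m + 1) := Nat.pow_le_pow_right (by norm_num) (by omega)
  refine ⟨fun hcard => ?_, fun hcard => ?_⟩
  · have key : ∀ A : Subgroup ↥(Cfsg.Lie.twistedG2 K (3 ^ m)), A ≤ H → A ≠ ⊥ →
        Subgroup.centralizer (A : Set ↥(Cfsg.Lie.twistedG2 K (3 ^ m))) =
          Subgroup.centralizer (H : Set ↥(Cfsg.Lie.twistedG2 K (3 ^ m))) ∧
        IsCyclic ↥(Subgroup.centralizer (H : Set ↥(Cfsg.Lie.twistedG2 K (3 ^ m)))) ∧
        Nat.card ↥(Subgroup.centralizer (H : Set ↥(Cfsg.Lie.twistedG2 K (3 ^ m)))) = 3 ^ (2 * m + 1) - 1 := by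
      intro A hA hA1
      obtain ⟨p, hp, hp2, hpn, x, hxA, hx⟩ := exists_prime_elt H A hA hA1 _ hcard hodd1
      have hd : p ∣ 3 ^ (2 * m + 1) - 1 := by
        rw [← h2n]
        exact Dvd.dvd.mul_left hpn 2
      obtain ⟨hcyc, hcd⟩ := main1 hK p hp hp2 hd x hx
      have hab : ∀ g ∈ Subgroup.centralizer ({x} : Set ↥(Cfsg.Lie.twistedG2 K (3 ^ m))),
          ∀ k ∈ Subgroup.centralizer ({x} : Set ↥(Cfsg.Lie.twistedG2 K (3 ^ m))), g * k = k * g := by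
        intro g hg k hk
        have hmc' : IsMulCommutative ↥(Subgroup.centralizer ({x} : Set ↥(Cfsg.Lie.twistedG2 K (3 ^ m)))) :=
          IsCyclic.isMulCommutative
        exact congrArg Subtype.val (hmc'.is_comm.comm ⟨g, hg⟩ ⟨k, hk⟩)
      obtain ⟨e1, e2⟩ := centralizer_eq_of_mem H A hHc hA x hxA hab
      rw [e1, e2]
      exact ⟨rfl, hcyc, hcd⟩
    have hH1 : H ≠ ⊥ := by
      intro h
      rw [h, Subgroup.card_bot] at hcard
      omega
    obtain ⟨-, hcyc, hcd⟩ := key H le_rfl hH1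
    exact ⟨hcyc, hcd, fun A hA hA1 => (key A hA hA1).1⟩
  · have key : ∀ A : Subgroup ↥(Cfsg.Lie.twistedG2 K (3 ^ m)), A ≤ H → A ≠ ⊥ →
        Subgroup.centralizer (A : Set ↥(Cfsg.Lie.twistedG2 K (3 ^ m))) =
          Subgroup.centralizer (H : Set ↥(Cfsg.Lie.twistedG2 K (3 ^ m))) ∧
        (∀ g ∈ Subgroup.centralizer (H : Set ↥(Cfsg.Lie.twistedG2 K (3 ^ m))),
          ∀ k ∈ Subgroup.centralizer (H : Set ↥(Cfsg.Lie.twistedG2 K (3 ^ m))), g * k = k * g) ∧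
        Nat.card ↥(Subgroup.centralizer (H : Set ↥(Cfsg.Lie.twistedG2 K (3 ^ m)))) = 3 ^ (2 * m + 1) + 1 ∧
        ∀ z ∈ Subgroup.centralizer (H : Set ↥(Cfsg.Lie.twistedG2 K (3 ^ m))), orderOf z ≠ 4 := by
      intro A hA hA1
      obtain ⟨p, hp, hp2, hpn, x, hxA, hx⟩ := exists_prime_elt H A hA hA1 _ hcard hodd2
      have hd : p ∣ 3 ^ (2 * m + 1) + 1 := by
        rw [← h4n]
        exact Dvd.dvd.mul_left hpn 4
      obtain ⟨hab, hcd, h4⟩ := main2 hK hm p hp hp2 hd x hx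
      obtain ⟨e1, e2⟩ := centralizer_eq_of_mem H A hHc hA x hxA hab
      rw [e1, e2]
      exact ⟨rfl, hab, hcd, h4⟩
    have hH1 : H ≠ ⊥ := by
      intro h
      rw [h, Subgroup.card_bot] at hcard
      omega
    obtain ⟨-, hab, hcd, h4⟩ := key H le_rfl hH1
    exact ⟨⟨⟨fun a b => Subtype.ext (hab a a.2 b b.2)⟩⟩, hcd, h4, fun A hA hA1 => (key A hA hA1).1⟩

end Cfsg.Agent.S2359
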