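import Cfsg.Statements.S2363
import Cfsg.Agent.Lib.Helper46_OrderBoundFam
import Cfsg.Agent.Lib.Helper5_SpOrder
import Cfsg.Agent.S0243
import Cfsg.Agent.S0246
import Cfsg.Agent.S0280
import Cfsg.Agent.S0292
import Cfsg.Agent.S0293
import Cfsg.Agent.S0294
import Cfsg.Agent.S1059
import Cfsg.Agent.S1062
import Cfsg.Agent.S1063
import Cfsg.Agent.S1064
import Cfsg.Agent.S1065
import Cfsg.Agent.S1066
import Cfsg.Agent.S1067
import Cfsg.Agent.S1068
import Cfsg.Agent.S1069
import Cfsg.Agent.S1163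

set_option autoImplicit false
open Cfsg

namespace Cfsg.Agent.S2363

open Cfsg.Agent.Lib.Helper46_OrderBound in
/-- `card F = p ^ f` with `1 ≤ f` for a finite field of characteristic `p`. -/
theorem card_field {F : Type*} [Field F] [Fintype F] (p : ℕ) [CharP F p] :
    ∃ f : ℕ, 1 ≤ f ∧ Fintype.card F = p ^ f := by
  obtain ⟨n, _, hn⟩ := FiniteField.card F p
  exact ⟨n, n.pos, hn⟩

/-- a root of a prime power is a prime power. -/
theorem root_pow {p e q k : ℕ} (hp : p.Prime) (hk : 1 ≤ k) (he : 1 ≤ e) (h : q ^ k = p ^ e) :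
    ∃ f : ℕ, 1 ≤ f ∧ q = p ^ f := by
  have hq : q ∣ p ^ e := by
    rw [← h]
    exact dvd_pow_self q (by omega)
  obtain ⟨f, _, hf⟩ := (Nat.dvd_prime_pow hp).mp hq
  refine ⟨f, ?_, hf⟩
  by_contra h0
  have hf0 : f = 0 := by omega
  rw [hf0, pow_zero] at hf
  rw [hf, one_pow] at h
  have : 1 < p ^ e := Nat.one_lt_pow (by omega) hp.one_lt
  omega

/-- Let G be a finite simple group of Lie type in characteristic p and let p^k be the exact power of p dividing the order of G. Then the order of G is less than p^(3k); and unless G is isomorphic to PSL(2, F) for the field F with p^k elements, the cube of the order of G is less than p^(8k) (that is, the order is below p^(8k/3)). -/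
theorem result {G : Type*} [Group G] [Finite G] (p : ℕ) (hp : p.Prime) (hG : Cfsg.IsLieTypeChar p G) :
    Nat.card G < p ^ (3 * (Nat.card G).factorization p) ∧
      ((¬ ∃ (F : Type) (_ : Field F) (_ : Fintype F), Fintype.card F = p ^ (Nat.card G).factorization p ∧
          Nonempty (G ≃* Matrix.ProjectiveSpecialLinearGroup (Fin 2) F)) →
        Nat.card G ^ 3 < p ^ (8 * (Nat.card G).factorization p)) := by
  classical
  have key : (Cfsg.Agent.Lib.Helper46_OrderBound.P1 p (Nat.card G) ∧
      ((¬ ∃ (F : Type) (_ : Field F) (_ : Fintype F), Fintype.card F = p ^ (Nat.card G).factorization p ∧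
          Nonempty (G ≃* Matrix.ProjectiveSpecialLinearGroup (Fin 2) F)) →
        Cfsg.Agent.Lib.Helper46_OrderBound.P2 p (Nat.card G))) := by
    rcases hG with h | h | h | h | h | h | h | h | h | h | h
    · -- PSL
      obtain ⟨F, _, _, _, n, hn, hn2, ⟨e⟩⟩ := h
      obtain ⟨f, hf, hF⟩ := card_field (F := F) p
      have hc : Nat.card G = Nat.card (Matrix.ProjectiveSpecialLinearGroup (Fin n) F) :=
        Nat.card_congr e.toEquiv
      have h0 := Cfsg.Agent.S0243.result hF n hn
      rw [← hc] at h0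
      obtain ⟨a, b, c⟩ := Cfsg.Agent.Lib.Helper46_OrderBound.fam_psl hp hf rfl hn h0
      refine ⟨b, fun hne => ?_⟩
      by_cases h3 : 3 ≤ n
      · exact c h3
      · exfalso
        have hn' : n = 2 := by omega
        subst hn'
        apply hne
        refine ⟨F, inferInstance, inferInstance, ?_, ⟨e⟩⟩
        rw [a, hF]
        simp [Finset.sum_range_succ]
    · -- PSp
      obtain ⟨F, _, _, _, m, hm, _, ⟨e⟩⟩ := h
      obtain ⟨f, hf, hF⟩ := card_field (F := F) p
      have hc : Nat.card G = Nat.card (Cfsg.PSp m F) := Nat.card_congr e.toEquiv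
      have h1 := Cfsg.Agent.Lib.Helper5_SpOrder.card_sp hF m
      have h2 := Cfsg.Agent.S0246.result hF m (by omega)
      have h3 := Subgroup.card_eq_card_quotient_mul_card_subgroup
        (Subgroup.center (Matrix.symplecticGroup (Fin m) F))
      rw [h1, h2, ← hc] at h3
      have hpq := Cfsg.Agent.Lib.Helper46_OrderBound.p_dvd_q hf (rfl : p ^ f = p ^ f)
      have hq2 := Cfsg.Agent.Lib.Helper46_OrderBound.two_le_q hp hf (rfl : p ^ f = p ^ f)
      have hd : 1 ≤ Nat.gcd 2 (p ^ f - 1) := Nat.gcd_pos_of_pos_left _ (by norm_num)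
      have hdp : ¬ p ∣ Nat.gcd 2 (p ^ f - 1) := by
        apply Cfsg.Agent.Lib.Helper46_OrderBound.not_dvd_of_dvd_sub_one hp (by omega) hpq (le_refl 1)
        rw [pow_one]
        exact Nat.gcd_dvd_right _ _
      have := Cfsg.Agent.Lib.Helper46_OrderBound.fam_sp hp hf rfl hm hd hdp
        (c := Nat.card G) (by rw [mul_comm]; exact h3.symm)
      exact ⟨this.1, fun _ => this.2⟩
    · -- PSU
      obtain ⟨F, _, _, _, n, q, hFq, hn, _, ⟨e⟩⟩ := h
      obtain ⟨e', he', hF⟩ := card_field (F := F) p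
      obtain ⟨f, hf, hq⟩ := root_pow hp (k := 2) (by norm_num) he' (hFq.symm.trans hF)
      have hc : Nat.card G = Nat.card (Cfsg.PSU n F q) := Nat.card_congr e.toEquiv
      have h0 := Cfsg.Agent.S0280.result hFq n (by omega)
      rw [← hc] at h0
      have := Cfsg.Agent.Lib.Helper46_OrderBound.fam_psu hp hf hq hn h0
      exact ⟨this.1, fun _ => this.2⟩
    · -- POmega odd
      obtain ⟨F, _, _, _, m, hm, hodd, ⟨e⟩⟩ := h
      obtain ⟨f, hf, hF⟩ := card_field (F := F) p
      have hc : Nat.card G = Nat.card (Cfsg.POmega F (Cfsg.quadFormOdd m F)) := Nat.card_congr e.toEquiv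
      have h0 := Cfsg.Agent.S0292.result hF (hF ▸ hodd) m hm
      rw [← hc] at h0
      have hp2 : ¬ p ∣ 2 := by
        intro h2
        have : p = 2 := (Nat.prime_dvd_prime_iff_eq hp Nat.prime_two).mp h2
        subst this
        rw [hF] at hodd
        exact (Nat.not_even_iff_odd.mpr hodd) ((Nat.even_pow.mpr ⟨even_two, by omega⟩))
      have := Cfsg.Agent.Lib.Helper46_OrderBound.fam_sp hp hf rfl (by omega) (le_refl _ |>.trans (by norm_num : 1 ≤ 2)) hp2 h0
      exact ⟨this.1, fun _ => this.2⟩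
    · -- POmega plus
      obtain ⟨F, _, _, _, m, hm, ⟨e⟩⟩ := h
      obtain ⟨f, hf, hF⟩ := card_field (F := F) p
      have hc : Nat.card G = Nat.card (Cfsg.POmega F (Cfsg.quadFormPlus m F)) := Nat.card_congr e.toEquiv
      have h0 := Cfsg.Agent.S0293.result hF m hm
      rw [← hc] at h0
      have := Cfsg.Agent.Lib.Helper46_OrderBound.fam_plus hp hf rfl (by omega) h0
      exact ⟨this.1, fun _ => this.2⟩
    · -- POmega minus
      obtain ⟨F, _, _, _, m, a, b, hm, hab, ⟨e⟩⟩ := h
      obtain ⟨f, hf, hF⟩ := card_field (F := F) p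
      have hc : Nat.card G = Nat.card (Cfsg.POmega F (Cfsg.quadFormMinus (m - 1) F a b)) :=
        Nat.card_congr e.toEquiv
      have h0 := Cfsg.Agent.S0294.result hF m hm a b hab
      rw [← hc] at h0
      have := Cfsg.Agent.Lib.Helper46_OrderBound.fam_minus hp hf rfl hm h0
      exact ⟨this.1, fun _ => this.2⟩
    · -- exceptional Chevalley
      obtain ⟨F, _, _, _, h⟩ := h
      obtain ⟨f, hf, hF⟩ := card_field (F := F) p
      rcases h with ⟨_, ⟨e⟩⟩ | ⟨⟨e⟩⟩ | ⟨⟨e⟩⟩ | ⟨⟨e⟩⟩ | ⟨⟨e⟩⟩
      · have hc : Nat.card G = Nat.card ↥(Cfsg.Lie.chevG2.group F) := Nat.card_congr e.toEquiv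
        have h0 := Cfsg.Agent.S1059.result hF
        rw [← hc] at h0
        have := Cfsg.Agent.Lib.Helper46_OrderBound.fam_g2 hp hf rfl h0
        exact ⟨this.1, fun _ => this.2⟩
      · have hc : Nat.card G = Nat.card ↥(Cfsg.Lie.chevF4.group F) := Nat.card_congr e.toEquiv
        have h0 := Cfsg.Agent.S1062.result hF
        rw [← hc] at h0
        have := Cfsg.Agent.Lib.Helper46_OrderBound.fam_f4 hp hf rfl h0
        exact ⟨this.1, fun _ => this.2⟩
      · have hc : Nat.card G = Nat.card ↥(Cfsg.Lie.chevE6.group F) := Nat.card_congr e.toEquiv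
        have h0 := Cfsg.Agent.S1063.result hF
        rw [← hc] at h0
        have := Cfsg.Agent.Lib.Helper46_OrderBound.fam_e6 hp hf rfl h0
        exact ⟨this.1, fun _ => this.2⟩
      · have hc : Nat.card G = Nat.card ↥(Cfsg.Lie.chevE7.group F) := Nat.card_congr e.toEquiv
        have h0 := Cfsg.Agent.S1064.result hF
        rw [← hc] at h0
        have := Cfsg.Agent.Lib.Helper46_OrderBound.fam_e7 hp hf rfl h0
        exact ⟨this.1, fun _ => this.2⟩
      · have hc : Nat.card G = Nat.card ↥(Cfsg.Lie.chevE8.group F) := Nat.card_congr e.toEquiv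
        have h0 := Cfsg.Agent.S1065.result hF
        rw [← hc] at h0
        have := Cfsg.Agent.Lib.Helper46_OrderBound.fam_e8 hp hf rfl h0
        exact ⟨this.1, fun _ => this.2⟩
    · -- twisted E6, D4
      obtain ⟨K, _, _, _, q, hqpp, h⟩ := h
      obtain ⟨e', he', hK⟩ := card_field (F := K) p
      rcases h with ⟨hKq, ⟨e⟩⟩ | ⟨hKq, ⟨e⟩⟩
      · obtain ⟨f, hf, hq⟩ := root_pow hp (k := 2) (by norm_num) he' (hKq.symm.trans hK)
        have hc : Nat.card G = Nat.card ↥(Cfsg.Lie.twistedE6 K q) := Nat.card_congr e.toEquiv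
        have h0 := Cfsg.Agent.S1066.result hqpp hKq
        rw [← hc] at h0
        have := Cfsg.Agent.Lib.Helper46_OrderBound.fam_2e6 hp hf hq h0
        exact ⟨this.1, fun _ => this.2⟩
      · obtain ⟨f, hf, hq⟩ := root_pow hp (k := 3) (by norm_num) he' (hKq.symm.trans hK)
        have hc : Nat.card G = Nat.card ↥(Cfsg.Lie.twistedD4 K q) := Nat.card_congr e.toEquiv
        have h0 := Cfsg.Agent.S1067.result hqpp hKq
        rw [← hc] at h0
        have := Cfsg.Agent.Lib.Helper46_OrderBound.fam_3d4 hp hf hq h0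
        exact ⟨this.1, fun _ => this.2⟩
    · -- Suzuki
      obtain ⟨hp2, F, _, _, m, hm, hF, ⟨e⟩⟩ := h
      subst hp2
      have hc : Nat.card G = Nat.card ↥(Cfsg.Lie.Sz F (2 ^ (m + 1))) := Nat.card_congr e.toEquiv
      have h0 := (Cfsg.Agent.S1163.result hm hF).1
      rw [← hc] at h0
      have := Cfsg.Agent.Lib.Helper46_OrderBound.fam_sz (f := 2 * m + 1) hp (by omega) rfl h0
      exact ⟨this.1, fun _ => this.2⟩
    · -- 2F4
      obtain ⟨hp2, K, _, _, m, hm, hK, ⟨e⟩⟩ := h
      subst hp2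
      have hc : Nat.card G = Nat.card ↥(Cfsg.Lie.twistedF4 K (2 ^ m)) := Nat.card_congr e.toEquiv
      have h0 := Cfsg.Agent.S1068.result hK
      rw [← hc] at h0
      have := Cfsg.Agent.Lib.Helper46_OrderBound.fam_2f4 (f := 2 * m + 1) hp (by omega) rfl h0
      exact ⟨this.1, fun _ => this.2⟩
    · -- 2G2
      obtain ⟨hp3, K, _, _, m, hm, hK, ⟨e⟩⟩ := h
      subst hp3
      have hc : Nat.card G = Nat.card ↥(Cfsg.Lie.twistedG2 K (3 ^ m)) := Nat.card_congr e.toEquiv
      have h0 := Cfsg.Agent.S1069.result hK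
      rw [← hc] at h0
      have := Cfsg.Agent.Lib.Helper46_OrderBound.fam_2g2 (f := 2 * m + 1) hp (by omega) rfl h0
      exact ⟨this.1, fun _ => this.2⟩
  exact key

end Cfsg.Agent.S2363
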