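import Cfsg.Statements.S2364
import Cfsg.Agent.Lib.Helper43_UnipCentPrimes
import Cfsg.Agent.Lib.Helper43_Jordan4

set_option autoImplicit false
open Cfsg

namespace Cfsg.Agent.S2364

open Matrix
open Cfsg.Agent.Lib.Helper43_UnipCentPrimes Cfsg.Agent.Lib.Helper43_Jordan

/-- Let F be a finite field of characteristic p, n ≥ 4, and let a, b be commuting elements of PSL(n, F) with a of order p. Then every prime divisor of the order of b divides the order of SL(n − 2, F). -/
theorem result {F : Type*} [Field F] [Fintype F] (p : ℕ) [Fact p.Prime] [CharP F p] (n : ℕ) (hn : 4 ≤ n)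
    (a b : Matrix.ProjectiveSpecialLinearGroup (Fin n) F) (ha : orderOf a = p) (hab : Commute a b) :
    (orderOf b).primeFactors ⊆ (Nat.card (Matrix.SpecialLinearGroup (Fin (n - 2)) F)).primeFactors := by
  classical
  have hp : p.Prime := Fact.out
  -- the order of the field
  obtain ⟨f, hf⟩ := FiniteField.card F p
  have hq2 : 2 ≤ Fintype.card F := Fintype.one_lt_card
  have hpq : p ∣ Fintype.card F := by
    rw [hf.2]
    exact dvd_pow_self _ f.ne_zero
  have hcop : Nat.Coprime (Fintype.card F - 1) p := by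
    rw [Nat.coprime_comm, Nat.Prime.coprime_iff_not_dvd hp]
    intro h
    have h1 : p ∣ Fintype.card F - 1 + 1 := by
      rw [Nat.sub_add_cancel (by omega)]
      exact hpq
    have := (Nat.dvd_add_right h).1 h1
    exact hp.one_lt.ne' (Nat.dvd_one.1 this)
  -- lifts
  obtain ⟨a₀, rfl⟩ := QuotientGroup.mk_surjective a
  obtain ⟨b₀, rfl⟩ := QuotientGroup.mk_surjective b
  -- central elements
  have hZ : ∀ z ∈ Subgroup.center (SpecialLinearGroup (Fin n) F),
      z ^ (Fintype.card F - 1) = 1 := by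
    intro z hz
    obtain ⟨c, hc1, hc2⟩ := Matrix.SpecialLinearGroup.mem_center_iff.1 hz
    have hc0 : c ≠ 0 := by
      rintro rfl
      rw [Fintype.card_fin, zero_pow (by omega)] at hc1
      exact zero_ne_one hc1
    apply Subtype.ext
    rw [Matrix.SpecialLinearGroup.coe_pow, ← hc2, Matrix.SpecialLinearGroup.coe_one,
      ← map_pow, FiniteField.pow_card_sub_one_eq_one c hc0, map_one]
  have hap : a₀ ^ p ∈ Subgroup.center (SpecialLinearGroup (Fin n) F) := by
    have h1 : ((a₀ : SpecialLinearGroup (Fin n) F) :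
        Matrix.ProjectiveSpecialLinearGroup (Fin n) F) ^ p = 1 := by
      rw [← ha]
      exact pow_orderOf_eq_one _
    rw [← QuotientGroup.mk_pow] at h1
    exact (QuotientGroup.eq_one_iff _).1 h1
  -- a lift of order p
  obtain ⟨m', -, hm'⟩ := Nat.exists_mul_mod_eq_one_of_coprime hcop hp.one_lt
  set k := (Fintype.card F - 1) * m' with hk
  set a₁ : SpecialLinearGroup (Fin n) F := a₀ ^ k with ha₁
  have ha₁p : a₁ ^ p = 1 := by
    rw [ha₁, ← pow_mul, hk, mul_comm, ← mul_assoc, pow_mul, pow_mul, hZ _ hap, one_pow]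
  have hmk : ((a₁ : SpecialLinearGroup (Fin n) F) :
      Matrix.ProjectiveSpecialLinearGroup (Fin n) F) =
      ((a₀ : SpecialLinearGroup (Fin n) F) : Matrix.ProjectiveSpecialLinearGroup (Fin n) F) := by
    rw [ha₁, QuotientGroup.mk_pow, ← pow_mod_orderOf, ha, hk, hm', pow_one]
  have ha₁ne : a₁ ≠ 1 := by
    intro h
    rw [h] at hmk
    have : orderOf ((a₀ : SpecialLinearGroup (Fin n) F) :
        Matrix.ProjectiveSpecialLinearGroup (Fin n) F) = 1 := by
      rw [← hmk]
      exact orderOf_one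
    rw [ha] at this
    exact hp.one_lt.ne' this
  -- the lifts commute
  have hcomm : a₁ * b₀ = b₀ * a₁ := by
    have hζ : (b₀ * a₁)⁻¹ * (a₁ * b₀) ∈ Subgroup.center (SpecialLinearGroup (Fin n) F) := by
      rw [← QuotientGroup.eq, QuotientGroup.mk_mul, QuotientGroup.mk_mul, hmk]
      exact hab.eq.symm
    set ζ := (b₀ * a₁)⁻¹ * (a₁ * b₀) with hζdef
    have h1 : a₁ * b₀ = b₀ * a₁ * ζ := by
      rw [hζdef, mul_inv_cancel_left]
    have hcζ : Commute a₁ ζ := ((Subgroup.mem_center_iff.1 hζ) a₁)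
    have h2 : b₀⁻¹ * a₁ * b₀ = a₁ * ζ := by
      rw [mul_assoc, h1, mul_assoc, inv_mul_cancel_left]
    have h3 : ζ ^ p = 1 := by
      have h4 : (b₀⁻¹ * a₁ * b₀) ^ p = 1 := by
        have := conj_pow (a := b₀⁻¹) (b := a₁) (i := p)
        rw [inv_inv] at this
        rw [this, ha₁p, mul_one, inv_mul_cancel]
      rw [h2, hcζ.mul_pow, ha₁p, one_mul] at h4
      exact h4
    have h5 : orderOf ζ ∣ Nat.gcd (Fintype.card F - 1) p :=
      Nat.dvd_gcd (orderOf_dvd_of_pow_eq_one (hZ ζ hζ)) (orderOf_dvd_of_pow_eq_one h3)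
    rw [hcop] at h5
    have h6 : ζ = 1 := orderOf_eq_one_iff.1 (Nat.dvd_one.1 h5)
    rw [h1, h6, mul_one]
  -- the unipotent matrix
  set u : Matrix (Fin n) (Fin n) F := (a₁ : Matrix (Fin n) (Fin n) F) with hu
  have hup : u ^ p = 1 := by
    rw [hu, ← Matrix.SpecialLinearGroup.coe_pow, ha₁p, Matrix.SpecialLinearGroup.coe_one]
  have hnil : IsNilpotent (u - 1) := by
    refine ⟨p ^ 1, ?_⟩
    rw [sub_one_pow_char_pow p u 1, pow_one, hup, sub_self]
  have hune : u ≠ 1 := by
    intro h
    apply ha₁ne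
    apply Subtype.ext
    rw [Matrix.SpecialLinearGroup.coe_one]
    exact h
  -- the order of b₀ divides the order of the centraliser
  have hdvd : orderOf b₀ ∣ Nat.card {g : GL (Fin n) F //
      (g : Matrix (Fin n) (Fin n) F) * u = u * (g : Matrix (Fin n) (Fin n) F)} := by
    let U₁ : GL (Fin n) F := Matrix.SpecialLinearGroup.toGL a₁
    let B₀ : GL (Fin n) F := Matrix.SpecialLinearGroup.toGL b₀
    have hmem : ∀ g : GL (Fin n) F, g ∈ Subgroup.centralizer ({U₁} : Set (GL (Fin n) F)) ↔
        (g : Matrix (Fin n) (Fin n) F) * u = u * (g : Matrix (Fin n) (Fin n) F) := by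
      intro g
      rw [Subgroup.mem_centralizer_iff]
      constructor
      · intro h
        have := h U₁ rfl
        have h' := congrArg (fun x : GL (Fin n) F => (x : Matrix (Fin n) (Fin n) F)) this
        exact h'.symm
      · intro h x hx
        rw [Set.mem_singleton_iff] at hx
        subst hx
        apply Units.ext
        exact h.symm
    have hB : B₀ ∈ Subgroup.centralizer ({U₁} : Set (GL (Fin n) F)) := by
      rw [hmem]
      have := congrArg (fun x : SpecialLinearGroup (Fin n) F =>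
        (x : Matrix (Fin n) (Fin n) F)) hcomm
      simp only [Matrix.SpecialLinearGroup.coe_mul] at this
      exact this.symm
    have h1 : Nat.card (Subgroup.centralizer ({U₁} : Set (GL (Fin n) F))) =
        Nat.card {g : GL (Fin n) F //
          (g : Matrix (Fin n) (Fin n) F) * u = u * (g : Matrix (Fin n) (Fin n) F)} :=
      Nat.card_congr (Equiv.subtypeEquivRight hmem)
    rw [← h1]
    have h2 := orderOf_dvd_natCard (⟨B₀, hB⟩ : Subgroup.centralizer ({U₁} : Set (GL (Fin n) F)))
    have h3 : orderOf (⟨B₀, hB⟩ : Subgroup.centralizer ({U₁} : Set (GL (Fin n) F))) =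
        orderOf B₀ := (Subgroup.orderOf_coe _).symm
    have h4 : orderOf B₀ = orderOf b₀ :=
      orderOf_injective (Matrix.SpecialLinearGroup.toGL) Matrix.SpecialLinearGroup.toGL_injective b₀
    rw [h3, h4] at h2
    exact h2
  -- conclusion
  intro r hr
  rw [Nat.mem_primeFactors] at hr ⊢
  obtain ⟨hrp, hrb, -⟩ := hr
  have hrb₀ : r ∣ orderOf b₀ :=
    hrb.trans (orderOf_map_dvd (QuotientGroup.mk' (Subgroup.center (SpecialLinearGroup (Fin n) F))) b₀)
  have hrC := hrb₀.trans hdvd
  refine ⟨hrp, ?_, Nat.card_pos.ne'⟩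
  apply dvd_card_SL (n - 2) (by omega) r
  rcases prime_dvd_card_centralizer n hn u hnil hune r hrp hrC with h | ⟨e, he1, he2, he3⟩
  · exact Or.inl h
  · exact Or.inr ⟨e, he1, by omega, he3⟩

end Cfsg.Agent.S2364
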