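import Cfsg.Statements.S2643
import Cfsg.Agent.Lib.Helper43_GUReg

set_option autoImplicit false
open Cfsg

namespace Cfsg.Agent.S2643

open Matrix
open Cfsg.Agent.Lib.Helper43_RegUnipotent Cfsg.Agent.Lib.Helper43_GUReg
  Cfsg.Agent.Lib.Helper43_GUUnip Cfsg.Agent.Lib.Helper43_GUConj Cfsg.Agent.Lib.Helper43_Jordan
  Cfsg.Agent.Lib.Helper13_HermBridge Cfsg.Agent.Lib.Helper13_GU

section aux

variable {K : Type*} [Field K] {q n : ℕ}

/-- the inclusion of `SU` in `GU` -/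
def incl (n : ℕ) (K : Type*) [Field K] (q : ℕ) : ↥(Cfsg.SU n K q) →* ↥(Cfsg.GU n K q) where
  toFun u := ⟨Matrix.SpecialLinearGroup.toGL u.1, u.2⟩
  map_one' := by
    apply Subtype.ext
    exact map_one Matrix.SpecialLinearGroup.toGL
  map_mul' a b := by
    apply Subtype.ext
    exact map_mul Matrix.SpecialLinearGroup.toGL a.1 b.1

theorem incl_val (u : ↥(Cfsg.SU n K q)) :
    ((incl n K q u : GL (Fin n) K) : Matrix (Fin n) (Fin n) K) = u.1.1 := rfl

theorem incl_injective : Function.Injective (incl n K q) := by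
  intro a b h
  apply Subtype.ext
  apply Subtype.ext
  have := congrArg (fun g : ↥(Cfsg.GU n K q) => ((g : GL (Fin n) K) : Matrix (Fin n) (Fin n) K)) h
  exact this

/-- an element of `GU` of determinant one comes from `SU` -/
theorem exists_incl_eq (g : ↥(Cfsg.GU n K q))
    (h : ((g : GL (Fin n) K) : Matrix (Fin n) (Fin n) K).det = 1) :
    ∃ s : ↥(Cfsg.SU n K q), incl n K q s = g :=
  ⟨⟨⟨((g : GL (Fin n) K) : Matrix (Fin n) (Fin n) K), h⟩, g.2⟩, Subtype.ext (Units.ext rfl)⟩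

/-- the norm one subgroup -/
def N1 (K : Type*) [Field K] (q : ℕ) : Subgroup Kˣ := (powMonoidHom (q + 1) : Kˣ →* Kˣ).ker

theorem mem_N1 (a : Kˣ) : a ∈ N1 K q ↔ a ^ (q + 1) = 1 := by
  unfold N1
  rw [MonoidHom.mem_ker, powMonoidHom_apply]

theorem card_N1 [Fintype K] (hK : Fintype.card K = q ^ 2) : Nat.card ↥(N1 K q) = q + 1 := by
  unfold N1
  rw [IsCyclic.card_powMonoidHom_ker, Nat.card_units, Nat.card_eq_fintype_card, hK]
  apply Nat.gcd_eq_right
  refine ⟨q - 1, ?_⟩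
  have hq : 1 ≤ q := by
    rcases Nat.eq_zero_or_pos q with h | h
    · subst h
      have : 0 < Fintype.card K := Fintype.card_pos
      rw [hK] at this
      simp at this
    · exact h
  obtain ⟨r, rfl⟩ : ∃ r, q = r + 1 := ⟨q - 1, by omega⟩
  simp only [Nat.add_sub_cancel]
  have : (r + 1) ^ 2 = (r + 1 + 1) * r + 1 := by ring
  omega

/-- the determinant from `GU` to the norm one group -/
def detN [Fintype K] (hK : Fintype.card K = q ^ 2) (n : ℕ) : ↥(Cfsg.GU n K q) →* ↥(N1 K q) :=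
  (Matrix.GeneralLinearGroup.det.comp (Cfsg.GU n K q).subtype).codRestrict (N1 K q) (fun g => by
    rw [mem_N1]
    exact det_unit_pow_eq_one hK g.1 g.2)

theorem detN_val [Fintype K] (hK : Fintype.card K = q ^ 2) (g : ↥(Cfsg.GU n K q)) :
    (((detN hK n g : ↥(N1 K q)) : Kˣ) : K) = ((g : GL (Fin n) K) : Matrix (Fin n) (Fin n) K).det :=
  rfl

/-- diagonal elements of `GU` -/
def diagGU (d : Fin n → ↥(N1 K q)) : ↥(Cfsg.GU n K q) :=
  ⟨diagGL (fun i => (d i : Kˣ)), diagGL_mem _ (fun i => (mem_N1 _).1 (d i).2)⟩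

theorem detN_diagGU [Fintype K] (hK : Fintype.card K = q ^ 2) (d : Fin n → ↥(N1 K q)) :
    detN hK n (diagGU d) = ∏ i, d i := by
  apply Subtype.ext
  show Matrix.GeneralLinearGroup.det (diagGL (fun i => (d i : Kˣ))) = _
  rw [det_diagGL, Subgroup.val_finsetProd]

theorem diagGU_const_comm (c : ↥(N1 K q)) (g : ↥(Cfsg.GU n K q)) :
    diagGU (fun _ => c) * g = g * diagGU (fun _ => c) := by
  apply Subtype.ext
  apply Units.ext
  show Matrix.diagonal (fun _ => ((c : Kˣ) : K)) * ((g : GL (Fin n) K) : Matrix (Fin n) (Fin n) K) =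
    ((g : GL (Fin n) K) : Matrix (Fin n) (Fin n) K) * Matrix.diagonal (fun _ => ((c : Kˣ) : K))
  ext i j
  rw [Matrix.diagonal_mul, Matrix.mul_diagonal, mul_comm]

end aux

section facts

variable {K : Type*} [Field K] [Fintype K] {q n : ℕ}

/-- a regular unipotent element of `SU` -/
theorem exists_reg_SU (hK : Fintype.card K = q ^ 2) (hn : 1 ≤ n) :
    ∃ u : ↥(Cfsg.SU n K q), Reg (u.1.1) := by
  obtain ⟨M₀, hM₀⟩ := exists_reg (F := K) hn
  have hdet : IsUnit M₀.det := by rw [hM₀.det_eq_one]; exact isUnit_one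
  let g₀ : GL (Fin n) K := Matrix.GeneralLinearGroup.mk'' M₀ hdet
  have hg₀ : (g₀ : Matrix (Fin n) (Fin n) K) = M₀ := rfl
  have hN : IsNilpotent (Nof g₀) := by
    refine ⟨n, ?_⟩
    rw [Nof_pow_eq_zero_iff, hg₀]
    exact hM₀.1
  obtain ⟨B, hB⟩ := exists_GU_conj hK g₀ hN
  obtain ⟨c, hc⟩ := isConj_iff.1 hB
  have hBreg : Reg ((B : GL (Fin n) K) : Matrix (Fin n) (Fin n) K) := by
    apply hM₀.conj c
    have h1 : c * g₀ = (B : GL (Fin n) K) * c := by
      rw [← hc]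
      group
    have := congrArg (fun x : GL (Fin n) K => (x : Matrix (Fin n) (Fin n) K)) h1
    simpa only [Units.val_mul, hg₀] using this
  obtain ⟨s, hs⟩ := exists_incl_eq B hBreg.det_eq_one
  refine ⟨s, ?_⟩
  rw [← incl_val, hs]
  exact hBreg

/-- determinants of elements of `GU` centralising a regular unipotent are `n`-th powers in the norm
one group -/
theorem detN_mem_of_commute (hK : Fintype.card K = q ^ 2) (hn : 1 ≤ n) (U₀ : ↥(Cfsg.GU n K q))
    (hU₀ : Reg ((U₀ : GL (Fin n) K) : Matrix (Fin n) (Fin n) K)) (z : ↥(Cfsg.GU n K q))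
    (hz : z * U₀ = U₀ * z) :
    detN hK n z ∈ (powMonoidHom n : ↥(N1 K q) →* ↥(N1 K q)).range := by
  have hzm : ((z : GL (Fin n) K) : Matrix (Fin n) (Fin n) K) *
      ((U₀ : GL (Fin n) K) : Matrix (Fin n) (Fin n) K) =
      ((U₀ : GL (Fin n) K) : Matrix (Fin n) (Fin n) K) *
      ((z : GL (Fin n) K) : Matrix (Fin n) (Fin n) K) := by
    have := congrArg (fun g : ↥(Cfsg.GU n K q) =>
      ((g : GL (Fin n) K) : Matrix (Fin n) (Fin n) K)) hz
    exact this
  obtain ⟨a, ha1, ha2⟩ := Cfsg.Agent.Lib.Helper43_GUReg.Reg.exists_scalar hU₀ hn _ hzm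
  have hzu := (mem_GU_iff_star hK (z : GL (Fin n) K)).1 z.2
  have hnorm := norm_eq_one_of_unitary (frobQ hK) hn _ a n ha1 hzu
  rw [frobQ_apply] at hnorm
  have ha0 : a ≠ 0 := by
    rintro rfl
    rw [mul_zero] at hnorm
    exact zero_ne_one hnorm
  have haN : Units.mk0 a ha0 ∈ N1 K q := by
    rw [mem_N1]
    apply Units.ext
    rw [Units.val_pow_eq_pow_val, Units.val_mk0, Units.val_one, pow_succ]
    exact hnorm
  refine ⟨⟨Units.mk0 a ha0, haN⟩, ?_⟩
  apply Subtype.ext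
  apply Units.ext
  rw [detN_val, ha2]
  rfl

end facts

/-- Regular unipotent classes of SU_n(q), n ≥ 2: the elements u of the special unitary group (isometries of Σ u_i v_i^q of determinant one over the field with q² elements) with (u − 1)^n = 0 and rank(u − 1) = n − 1 form exactly gcd(n, q + 1) conjugacy classes of SU_n(q). -/
theorem result {K : Type*} [Field K] [Fintype K] {q n : ℕ} (hK : Fintype.card K = q ^ 2) (hn : 2 ≤ n) : Nat.card {C : ConjClasses ↥(Cfsg.SU n K q) // ∃ u : ↥(Cfsg.SU n K q), ConjClasses.mk u = C ∧ (((u : GL (Fin n) K) : Matrix (Fin n) (Fin n) K) - 1) ^ n = 0 ∧ (((u : GL (Fin n) K) : Matrix (Fin n) (Fin n) K) - 1).rank = n - 1} = Nat.gcd n (q + 1) := by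
  classical
  have hn1 : 1 ≤ n := by omega
  obtain ⟨u₀, hu₀⟩ := exists_reg_SU (K := K) (q := q) hK hn1
  let ι : ↥(Cfsg.SU n K q) →* ↥(Cfsg.GU n K q) := incl n K q
  have hι_inj : Function.Injective ι := incl_injective
  have hι_det : ∀ u : ↥(Cfsg.SU n K q), detN hK n (ι u) = 1 := by
    intro u
    apply Subtype.ext
    apply Units.ext
    rw [detN_val]
    exact u.1.2
  set U₀ : ↥(Cfsg.GU n K q) := ι u₀ with hU₀
  have hU₀reg : Reg ((U₀ : GL (Fin n) K) : Matrix (Fin n) (Fin n) K) := hu₀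
  let P : Subgroup ↥(N1 K q) := (powMonoidHom n : ↥(N1 K q) →* ↥(N1 K q)).range
  have hZ : ∀ z : ↥(Cfsg.GU n K q), z * U₀ = U₀ * z → detN hK n z ∈ P :=
    fun z hz => detN_mem_of_commute hK hn1 U₀ hU₀reg z hz
  -- the relation
  let R : ↥(Cfsg.SU n K q) → ↥(N1 K q) → Prop := fun u a =>
    ∃ g : ↥(Cfsg.GU n K q), detN hK n g = a ∧ g * U₀ = ι u * g
  have hreg_iff : ∀ u : ↥(Cfsg.SU n K q),
      ((((u : GL (Fin n) K) : Matrix (Fin n) (Fin n) K) - 1) ^ n = 0 ∧
        (((u : GL (Fin n) K) : Matrix (Fin n) (Fin n) K) - 1).rank = n - 1) ↔ Reg u.1.1 :=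
    fun u => Iff.rfl
  have hR1 : ∀ u : ↥(Cfsg.SU n K q), Reg u.1.1 → ∃ a, R u a := by
    intro u hu
    obtain ⟨g, hg⟩ := hU₀reg.exists_conj (M' := u.1.1) hu hn1
    have hconj : IsConj (U₀ : GL (Fin n) K) (ι u : GL (Fin n) K) := by
      rw [isConj_iff]
      refine ⟨g, ?_⟩
      rw [mul_inv_eq_iff_eq_mul]
      apply Units.ext
      rw [Units.val_mul, Units.val_mul]
      exact hg
    obtain ⟨c, hc⟩ := isConj_iff.1 (isConj_GU hK U₀ (ι u) hconj)
    refine ⟨detN hK n c, c, rfl, ?_⟩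
    rw [← hc]
    group
  have hR6 : ∀ u a, R u a → Reg u.1.1 := by
    rintro u a ⟨g, -, hg⟩
    have := congrArg (fun x : ↥(Cfsg.GU n K q) =>
      ((x : GL (Fin n) K) : Matrix (Fin n) (Fin n) K)) hg
    exact hU₀reg.conj (g : GL (Fin n) K) this
  have hswap : ∀ (g : ↥(Cfsg.GU n K q)) (u : ↥(Cfsg.SU n K q)),
      g * U₀ = ι u * g → g⁻¹ * ι u = U₀ * g⁻¹ := by
    intro g u hg
    have : ι u = g * U₀ * g⁻¹ := by rw [eq_mul_inv_iff_mul_eq]; exact hg.symm
    rw [this]; group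
  have hR2 : ∀ u a a', R u a → R u a' →
      (QuotientGroup.mk a : ↥(N1 K q) ⧸ P) = QuotientGroup.mk a' := by
    rintro u a a' ⟨g, hga, hg⟩ ⟨g', hga', hg'⟩
    rw [QuotientGroup.eq]
    have hz : (g⁻¹ * g') * U₀ = U₀ * (g⁻¹ * g') := by
      rw [mul_assoc, hg', ← mul_assoc, hswap g u hg, mul_assoc]
    have := hZ _ hz
    rwa [map_mul, map_inv, hga, hga'] at this
  have hR4 : ∀ u u' a, R u a → IsConj u u' → R u' a := by
    rintro u u' a ⟨g, hga, hg⟩ hconj
    obtain ⟨s, hs⟩ := isConj_iff.mp hconj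
    refine ⟨ι s * g, ?_, ?_⟩
    · rw [map_mul, hι_det, one_mul, hga]
    · rw [mul_assoc, hg, ← hs, map_mul, map_mul, map_inv]
      group
  have hR3 : ∀ u u' a a', R u a → R u' a' →
      (QuotientGroup.mk a : ↥(N1 K q) ⧸ P) = QuotientGroup.mk a' → IsConj u u' := by
    rintro u u' a a' ⟨g, hga, hg⟩ ⟨g', hga', hg'⟩ hq
    rw [QuotientGroup.eq] at hq
    obtain ⟨c, hc⟩ := hq
    rw [powMonoidHom_apply] at hc
    let sc : ↥(Cfsg.GU n K q) := diagGU (fun _ => c⁻¹)
    have hsc : ∀ A : ↥(Cfsg.GU n K q), sc * A = A * sc := fun A => diagGU_const_comm c⁻¹ A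
    have hscdet : detN hK n sc = (c ^ n)⁻¹ := by
      show detN hK n (diagGU (fun _ => c⁻¹)) = _
      rw [detN_diagGU, Finset.prod_const, Finset.card_univ, Fintype.card_fin, inv_pow]
    let h : ↥(Cfsg.GU n K q) := g' * sc * g⁻¹
    have hdet : detN hK n h = 1 := by
      show detN hK n (g' * sc * g⁻¹) = 1
      rw [map_mul, map_mul, map_inv, hga, hga', hscdet, hc]
      group
    have hconj : h * ι u = ι u' * h := by
      show g' * sc * g⁻¹ * ι u = ι u' * (g' * sc * g⁻¹)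
      rw [mul_assoc (g' * sc), hswap g u hg, mul_assoc g', ← mul_assoc sc, hsc U₀, ← mul_assoc g',
        ← mul_assoc g', hg']
      simp only [mul_assoc]
    have hdet' : ((h : GL (Fin n) K) : Matrix (Fin n) (Fin n) K).det = 1 := by
      have := congrArg (fun x : ↥(N1 K q) => ((x : Kˣ) : K)) hdet
      exact this
    obtain ⟨s, hs⟩ := exists_incl_eq h hdet'
    rw [isConj_iff]
    refine ⟨s, ?_⟩
    rw [mul_inv_eq_iff_eq_mul]
    apply hι_inj
    rw [map_mul, map_mul]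
    show incl n K q s * ι u = ι u' * incl n K q s
    rw [hs]
    exact hconj
  have hR5 : ∀ a : ↥(N1 K q), ∃ u, R u a := by
    intro a
    let g : ↥(Cfsg.GU n K q) := diagGU (Function.update (fun _ => 1) ⟨0, by omega⟩ a)
    have hg : detN hK n g = a := by
      show detN hK n (diagGU (Function.update (fun _ => 1) ⟨0, by omega⟩ a)) = a
      rw [detN_diagGU, Finset.prod_update_of_mem (Finset.mem_univ _)]
      simp
    have hdet : (((g * U₀ * g⁻¹ : ↥(Cfsg.GU n K q)) : GL (Fin n) K) :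
        Matrix (Fin n) (Fin n) K).det = 1 := by
      have h1 : detN hK n (g * U₀ * g⁻¹) = 1 := by
        rw [map_mul, map_mul, map_inv, hU₀, hι_det, mul_one, mul_inv_cancel]
      have := congrArg (fun x : ↥(N1 K q) => ((x : Kˣ) : K)) h1
      exact this
    obtain ⟨u, hu⟩ := exists_incl_eq (g * U₀ * g⁻¹) hdet
    refine ⟨u, g, hg, ?_⟩
    show g * U₀ = incl n K q u * g
    rw [hu]; group
  -- the invariant
  let θ' : ↥(Cfsg.SU n K q) → ↥(N1 K q) ⧸ P := fun u =>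
    if h : ∃ a, R u a then (QuotientGroup.mk (Classical.choose h) : ↥(N1 K q) ⧸ P) else 1
  have hθ1 : ∀ u a, R u a → θ' u = QuotientGroup.mk a := by
    intro u a hua
    have h : ∃ a, R u a := ⟨a, hua⟩
    simp only [θ', dif_pos h]
    exact hR2 u _ _ (Classical.choose_spec h) hua
  have hθ2 : ∀ u u', IsConj u u' → θ' u = θ' u' := by
    intro u u' hconj
    by_cases h : ∃ a, R u a
    · obtain ⟨a, ha⟩ := h
      rw [hθ1 u a ha, hθ1 u' a (hR4 u u' a ha hconj)]
    · have h' : ¬ ∃ a, R u' a := by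
        rintro ⟨a, ha⟩
        exact h ⟨a, hR4 u' u a ha hconj.symm⟩
      simp only [θ', dif_neg h, dif_neg h']
  let θ : ConjClasses ↥(Cfsg.SU n K q) → ↥(N1 K q) ⧸ P :=
    Quotient.lift θ' (fun u u' (h : IsConj u u') => hθ2 u u' h)
  have hθmk : ∀ u, θ (ConjClasses.mk u) = θ' u := fun u => rfl
  let Θ : {C : ConjClasses ↥(Cfsg.SU n K q) // ∃ u : ↥(Cfsg.SU n K q), ConjClasses.mk u = C ∧ (((u : GL (Fin n) K) : Matrix (Fin n) (Fin n) K) - 1) ^ n = 0 ∧ (((u : GL (Fin n) K) : Matrix (Fin n) (Fin n) K) - 1).rank = n - 1} → ↥(N1 K q) ⧸ P :=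
    fun C => θ C.1
  have hΘ : Function.Bijective Θ := by
    constructor
    · rintro ⟨C, u, rfl, hu⟩ ⟨C', u', rfl, hu'⟩ hCC'
      apply Subtype.ext
      show ConjClasses.mk u = ConjClasses.mk u'
      obtain ⟨a, ha⟩ := hR1 u ((hreg_iff u).mp hu)
      obtain ⟨a', ha'⟩ := hR1 u' ((hreg_iff u').mp hu')
      have h1 : θ' u = θ' u' := hCC'
      rw [hθ1 u a ha, hθ1 u' a' ha'] at h1
      exact ConjClasses.mk_eq_mk_iff_isConj.mpr (hR3 u u' a a' ha ha' h1)
    · intro x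
      obtain ⟨a, rfl⟩ := QuotientGroup.mk_surjective x
      obtain ⟨u, hu⟩ := hR5 a
      refine ⟨⟨ConjClasses.mk u, u, rfl, (hreg_iff u).mpr (hR6 u a hu)⟩, ?_⟩
      show θ' u = _
      exact hθ1 u a hu
  rw [Nat.card_eq_of_bijective Θ hΘ]
  have hidx : P.index = (Nat.card ↥(N1 K q)).gcd n := IsCyclic.index_powMonoidHom_range ↥(N1 K q) n
  rw [← Subgroup.index_eq_card, hidx, card_N1 hK, Nat.gcd_comm]

end Cfsg.Agent.S2643
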