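import Cfsg.Statements.S2365
import Cfsg.Agent.Lib.Helper43_GUCentPrimes
import Cfsg.Agent.Lib.Helper5_SUCenter
import Cfsg.Agent.S2643

set_option autoImplicit false
open Cfsg

namespace Cfsg.Agent.S2365

open Matrix
open Cfsg.Agent.Lib.Helper43_GUCentPrimes Cfsg.Agent.Lib.Helper43_Jordan Cfsg.Agent.S2643

/-- Let q be a power of the prime p, F the field with q² elements, m ≥ 4, and let a, b be commuting elements of PSU(m, q) with a of order p. Then every prime divisor of the order of b divides the order of SU(m − 2, q). -/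
theorem result {F : Type*} [Field F] [Fintype F] (p : ℕ) [Fact p.Prime] [CharP F p] (m q : ℕ) (hm : 4 ≤ m) (hF : Fintype.card F = q ^ 2)
    (a b : Cfsg.PSU m F q) (ha : orderOf a = p) (hab : Commute a b) :
    (orderOf b).primeFactors ⊆ (Nat.card ↥(Cfsg.SU (m - 2) F q)).primeFactors := by
  classical
  have hp : p.Prime := Fact.out
  -- the order of the field
  obtain ⟨f, hf⟩ := FiniteField.card F p
  have hpq : p ∣ q := by
    have h1 : p ∣ q ^ 2 := by
      rw [← hF, hf.2]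
      exact dvd_pow_self _ f.ne_zero
    exact hp.dvd_of_dvd_pow h1
  have hcop : Nat.Coprime (q + 1) p := by
    rw [Nat.coprime_comm, Nat.Prime.coprime_iff_not_dvd hp]
    intro h
    have := (Nat.dvd_add_right hpq).1 h
    exact hp.one_lt.ne' (Nat.dvd_one.1 this)
  -- lifts
  obtain ⟨a₀, rfl⟩ := QuotientGroup.mk_surjective a
  obtain ⟨b₀, rfl⟩ := QuotientGroup.mk_surjective b
  -- central elements
  have hZ : ∀ z ∈ Subgroup.center ↥(Cfsg.SU m F q), z ^ (q + 1) = 1 := by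
    intro z hz
    have hcard := Cfsg.Agent.Lib.Helper5_SUCenter.card_center_SU hF m (by omega)
    have h1 : (⟨z, hz⟩ : Subgroup.center ↥(Cfsg.SU m F q)) ^
        Nat.card (Subgroup.center ↥(Cfsg.SU m F q)) = 1 := pow_card_eq_one'
    rw [hcard] at h1
    have h2 : z ^ Nat.gcd m (q + 1) = 1 := by
      have := congrArg Subtype.val h1
      simpa using this
    obtain ⟨c, hc⟩ := Nat.gcd_dvd_right m (q + 1)
    rw [hc, pow_mul, h2, one_pow]
  have hap : a₀ ^ p ∈ Subgroup.center ↥(Cfsg.SU m F q) := by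
    have h1 : ((a₀ : ↥(Cfsg.SU m F q)) : Cfsg.PSU m F q) ^ p = 1 := by
      rw [← ha]
      exact pow_orderOf_eq_one _
    rw [← QuotientGroup.mk_pow] at h1
    exact (QuotientGroup.eq_one_iff _).1 h1
  -- a lift of order p
  obtain ⟨m', -, hm'⟩ := Nat.exists_mul_mod_eq_one_of_coprime hcop hp.one_lt
  set k := (q + 1) * m' with hk
  set a₁ : ↥(Cfsg.SU m F q) := a₀ ^ k with ha₁
  have ha₁p : a₁ ^ p = 1 := by
    rw [ha₁, ← pow_mul, hk, mul_comm, ← mul_assoc, pow_mul, pow_mul, hZ _ hap, one_pow]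
  have hmk : ((a₁ : ↥(Cfsg.SU m F q)) : Cfsg.PSU m F q) =
      ((a₀ : ↥(Cfsg.SU m F q)) : Cfsg.PSU m F q) := by
    rw [ha₁, QuotientGroup.mk_pow, ← pow_mod_orderOf, ha, hk, hm', pow_one]
  have ha₁ne : a₁ ≠ 1 := by
    intro h
    rw [h] at hmk
    have : orderOf ((a₀ : ↥(Cfsg.SU m F q)) : Cfsg.PSU m F q) = 1 := by
      rw [← hmk]
      exact orderOf_one
    rw [ha] at this
    exact hp.one_lt.ne' this
  -- the lifts commute
  have hcomm : a₁ * b₀ = b₀ * a₁ := by
    have hζ : (b₀ * a₁)⁻¹ * (a₁ * b₀) ∈ Subgroup.center ↥(Cfsg.SU m F q) := by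
      rw [← QuotientGroup.eq, QuotientGroup.mk_mul, QuotientGroup.mk_mul, hmk]
      exact hab.eq.symm
    set ζ := (b₀ * a₁)⁻¹ * (a₁ * b₀) with hζdef
    have h1 : a₁ * b₀ = b₀ * a₁ * ζ := by
      rw [hζdef, mul_inv_cancel_left]
    have hcζ : Commute a₁ ζ := ((Subgroup.mem_center_iff.1 hζ) a₁)
    have h2 : b₀⁻¹ * a₁ * b₀ = a₁ * ζ := by
      rw [mul_assoc, h1, mul_assoc, inv_mul_cancel_left]
    have h3 : ζ ^ p = 1 := by
      have h4 : (b₀⁻¹ * a₁ * b₀) ^ p = 1 := by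
        have := conj_pow (a := b₀⁻¹) (b := a₁) (i := p)
        rw [inv_inv] at this
        rw [this, ha₁p, mul_one, inv_mul_cancel]
      rw [h2, hcζ.mul_pow, ha₁p, one_mul] at h4
      exact h4
    have h5 : orderOf ζ ∣ Nat.gcd (q + 1) p :=
      Nat.dvd_gcd (orderOf_dvd_of_pow_eq_one (hZ ζ hζ)) (orderOf_dvd_of_pow_eq_one h3)
    rw [hcop] at h5
    have h6 : ζ = 1 := orderOf_eq_one_iff.1 (Nat.dvd_one.1 h5)
    rw [h1, h6, mul_one]
  -- the unipotent element of GU
  set U : ↥(Cfsg.GU m F q) := incl m F q a₁ with hU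
  have hUval : ((U : GL (Fin m) F) : Matrix (Fin m) (Fin m) F) = a₁.1.1 := rfl
  have hup : (a₁.1.1 : Matrix (Fin m) (Fin m) F) ^ p = 1 := by
    have := congrArg (fun x : ↥(Cfsg.SU m F q) => (x.1.1 : Matrix (Fin m) (Fin m) F)) ha₁p
    simpa using this
  have hnil : IsNilpotent (((U : GL (Fin m) F) : Matrix (Fin m) (Fin m) F) - 1) := by
    refine ⟨p ^ 1, ?_⟩
    rw [hUval, sub_one_pow_char_pow p _ 1, pow_one, hup, sub_self]
  have hune : ((U : GL (Fin m) F) : Matrix (Fin m) (Fin m) F) ≠ 1 := by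
    intro h
    apply ha₁ne
    apply Subtype.ext
    apply Subtype.ext
    rw [hUval] at h
    exact h
  -- the order of b₀ divides the order of the centraliser
  have hdvd : orderOf b₀ ∣
      Nat.card ↥(Subgroup.centralizer ({U} : Set ↥(Cfsg.GU m F q))) := by
    have hB : incl m F q b₀ ∈ Subgroup.centralizer ({U} : Set ↥(Cfsg.GU m F q)) := by
      rw [Subgroup.mem_centralizer_singleton_iff, hU, ← map_mul, ← map_mul, hcomm]
    have h2 := orderOf_dvd_natCard
      (⟨incl m F q b₀, hB⟩ : Subgroup.centralizer ({U} : Set ↥(Cfsg.GU m F q)))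
    have h3 : orderOf (⟨incl m F q b₀, hB⟩ :
        Subgroup.centralizer ({U} : Set ↥(Cfsg.GU m F q))) = orderOf (incl m F q b₀) :=
      (Subgroup.orderOf_coe _).symm
    have h4 : orderOf (incl m F q b₀) = orderOf b₀ :=
      orderOf_injective (incl m F q) incl_injective b₀
    rw [h3, h4] at h2
    exact h2
  -- conclusion
  intro r hr
  rw [Nat.mem_primeFactors] at hr ⊢
  obtain ⟨hrp, hrb, -⟩ := hr
  have hrb₀ : r ∣ orderOf b₀ :=
    hrb.trans (orderOf_map_dvd (QuotientGroup.mk' (Subgroup.center ↥(Cfsg.SU m F q))) b₀)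
  have hrC := hrb₀.trans hdvd
  have hfin : Finite ↥(Cfsg.SU (m - 2) F q) := inferInstance
  refine ⟨hrp, ?_, Nat.card_pos.ne'⟩
  apply dvd_card_SU hF (m - 2) (by omega) r
  rcases prime_dvd_card_centralizer_GU hF hm U hnil hune r hrp hrC with h | ⟨j, hj1, hj2⟩
  · exact Or.inl h
  · exact Or.inr ⟨j, by omega, hj2⟩

end Cfsg.Agent.S2365
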