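import Mathlib
import Cfsg.Statements.S2367

set_option autoImplicit false
open Cfsg

namespace Cfsg.Agent.S2367

open Nat

/-- generic reduction for an explicit order -/
theorem of_list (N : ℕ)
    (hdec : ∀ p ∈ N.primeFactorsList, p ≠ 2 → N.primeFactorsList.count p = 3 →
      p ^ 3 < 2 ^ N.primeFactorsList.count 2)
    (p : ℕ) (hodd : p ≠ 2) (h3 : N.factorization p = 3) : p ^ 3 < 2 ^ N.factorization 2 := by
  rw [← Nat.primeFactorsList_count_eq] at h3 ⊢
  have hmem : p ∈ N.primeFactorsList := List.count_pos_iff.mp (by omega)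
  exact hdec p hmem hodd h3

theorem val_fact (p : ℕ) [Fact p.Prime] (n : ℕ) :
    padicValNat p n ! = padicValNat p (n / p)! + n / p := by
  rw [← padicValNat_mul_div_factorial n, padicValNat_factorial_mul]

theorem cube_lt (p : ℕ) (hp : 5 ≤ p) : p ^ 3 < 2 ^ (2 * p - 1) := by
  induction p, hp using Nat.le_induction with
  | base => norm_num
  | succ p hp ih =>
    have h1 : 2 * (p + 1) - 1 = (2 * p - 1) + 2 := by omega
    rw [h1, pow_add]
    have h2 : (p + 1) ^ 3 ≤ 4 * p ^ 3 := by nlinarith [hp, Nat.mul_le_mul hp hp]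
    calc (p + 1) ^ 3 ≤ 4 * p ^ 3 := h2
      _ < 4 * 2 ^ (2 * p - 1) := by omega
      _ = 2 ^ (2 * p - 1) * 2 ^ 2 := by ring

theorem alt_case (n : ℕ) (hn : 5 ≤ n) (N : ℕ) (hN : 2 * N = n !)
    (p : ℕ) (hp : p.Prime) (hodd : p ≠ 2) (h3 : N.factorization p = 3) :
    p ^ 3 < 2 ^ N.factorization 2 := by
  have : Fact p.Prime := ⟨hp⟩
  have : Fact (2 : ℕ).Prime := ⟨Nat.prime_two⟩
  have hN0 : N ≠ 0 := by
    rintro rfl
    have := Nat.factorial_pos n
    omega
  -- valuations of n!
  have hfp : (n !).factorization p = 3 := by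
    rw [← hN, Nat.factorization_mul (by norm_num) hN0]
    simp only [Finsupp.coe_add, Pi.add_apply, h3]
    rw [Nat.factorization_eq_zero_of_not_dvd]
    intro hd
    exact hodd ((Nat.prime_dvd_prime_iff_eq hp Nat.prime_two).1 hd)
  have hf2 : (n !).factorization 2 = 1 + N.factorization 2 := by
    rw [← hN, Nat.factorization_mul (by norm_num) hN0]
    simp only [Finsupp.coe_add, Pi.add_apply]
    rw [Nat.Prime.factorization_self Nat.prime_two]
  rw [Nat.factorization_def _ hp] at hfp
  rw [Nat.factorization_def _ Nat.prime_two] at hf2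
  -- p-part analysis
  have e1 := val_fact p n
  have e2 := val_fact p (n / p)
  have e3 := val_fact p (n / p / p)
  have hp3 : 3 ≤ p := by
    have := hp.two_le
    omega
  have hk3 : n / p ≤ 3 := by omega
  have hkp : n / p / p ≤ 1 := by
    calc n / p / p ≤ 3 / p := Nat.div_le_div_right hk3
      _ ≤ 3 / 3 := Nat.div_le_div_left hp3 (by norm_num)
      _ = 1 := by norm_num
  have hz : n / p / p / p = 0 := by
    apply Nat.div_eq_of_lt
    omega
  rw [hz] at e3
  simp only [Nat.factorial_zero, padicValNat_one_right] at e3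
  -- so 3 = n/p + n/p/p
  have hp5 : 5 ≤ p := by
    by_contra hlt
    have hp34 : p = 3 ∨ p = 4 := by omega
    rcases hp34 with rfl | rfl
    · omega
    · exact absurd hp (by norm_num)
  have hkk : n / p / p = 0 := by
    apply Nat.div_eq_of_lt
    omega
  have hk : n / p = 3 := by omega
  have hnp : 3 * p ≤ n := by
    have := Nat.div_mul_le_self n p
    rw [hk] at this
    exact this
  -- 2-part analysis
  have f1 := val_fact 2 n
  have f2 := val_fact 2 (n / 2)
  have hexp : 2 * p - 1 ≤ N.factorization 2 := by omega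
  calc p ^ 3 < 2 ^ (2 * p - 1) := cube_lt p hp5
    _ ≤ 2 ^ N.factorization 2 := Nat.pow_le_pow_right (by norm_num) hexp

set_option maxRecDepth 100000 in
theorem result {G : Type*} [Group G] [Finite G] (hG : Cfsg.IsAlternating G ∨ Cfsg.IsSporadic G)
    (p : ℕ) (hp : p.Prime) (hodd : p ≠ 2) (h3 : (Nat.card G).factorization p = 3) :
    p ^ 3 < 2 ^ (Nat.card G).factorization 2 := by
  rcases hG with hA | hS
  · obtain ⟨n, hn, ⟨e⟩⟩ := hA
    have : Nontrivial (Fin n) := Fin.nontrivial_iff_two_le.mpr (by omega)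
    have hcard : 2 * Nat.card G = n ! := by
      rw [Nat.card_congr e.toEquiv, two_mul_nat_card_alternatingGroup, Nat.card_eq_fintype_card,
        Fintype.card_perm, Fintype.card_fin]
    exact alt_case n hn _ hcard p hp hodd h3
  · unfold IsSporadic at hS
    rcases hS with h | h | h | h | h | h | h | h | h | h | h | h | h | h | h | h | h | h | h | h |
      h | h | h | h | h | h
    all_goals
      obtain ⟨-, hN⟩ := h
      rw [hN] at h3 ⊢
      refine of_list _ (by simp only [Nat.primeFactorsList_ofNat]; decide) p hodd h3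

end Cfsg.Agent.S2367
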