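import Mathlib
import Cfsg.Statements.S2368

set_option autoImplicit false
open Cfsg

namespace Cfsg.Agent.S2368

open Matrix

/-- A nilpotent square matrix of size `m` over a field satisfies `N ^ m = 0`. -/
theorem nilpotent_pow_card {F : Type*} [Field F] {m : ℕ} (N : Matrix (Fin m) (Fin m) F)
    (hN : IsNilpotent N) : N ^ m = 0 := by
  have h1 : IsNilpotent (N.charpoly - Polynomial.X ^ (Fintype.card (Fin m))) :=
    Matrix.isNilpotent_charpoly_sub_pow_of_isNilpotent hN
  have h2 : N.charpoly = Polynomial.X ^ m := by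
    have := h1.eq_zero
    rw [sub_eq_zero] at this
    simpa using this
  have h3 := Matrix.aeval_self_charpoly N
  rw [h2] at h3
  simpa using h3

/-- The upper shift matrix. -/
def shift (F : Type*) [Field F] (m : ℕ) : Matrix (Fin m) (Fin m) F :=
  Matrix.of fun i j => if j.val = i.val + 1 then 1 else 0

theorem shift_pow (F : Type*) [Field F] (m k : ℕ) (i j : Fin m) :
    (shift F m ^ k) i j = if j.val = i.val + k then 1 else 0 := by
  induction k generalizing i j with
  | zero =>
    simp [Matrix.one_apply, Fin.ext_iff, eq_comm]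
  | succ k ih =>
    rw [pow_succ, Matrix.mul_apply]
    by_cases h : j.val = i.val + (k + 1)
    · rw [if_pos h]
      have hlt : i.val + k < m := by have := j.isLt; omega
      rw [Finset.sum_eq_single (⟨i.val + k, hlt⟩ : Fin m)]
      · rw [ih]; simp [shift, h]; omega
      · intro b _ hb
        rw [ih]
        have : ¬ b.val = i.val + k := fun hh => hb (Fin.ext hh)
        simp [this]
      · intro hh; exact absurd (Finset.mem_univ _) hh
    · rw [if_neg h]
      apply Finset.sum_eq_zero
      intro b _
      rw [ih]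
      by_cases hb : b.val = i.val + k
      · have : ¬ j.val = b.val + 1 := by omega
        simp [shift, this]
      · simp [hb]

theorem result {F : Type*} [Field F] [Fintype F] (p : ℕ) [Fact p.Prime] [CharP F p] (m : ℕ) (hm : 1 ≤ m) :
    (∀ g : Matrix.GeneralLinearGroup (Fin m) F, (∃ j : ℕ, orderOf g = p ^ j) → orderOf g < p * m) ∧
      ∃ g : Matrix.GeneralLinearGroup (Fin m) F, (∃ j : ℕ, orderOf g = p ^ j) ∧ m ≤ orderOf g := by
  have hp : p.Prime := Fact.out
  have hp1 : 1 < p := hp.one_lt
  have : Nonempty (Fin m) := ⟨⟨0, hm⟩⟩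
  have : CharP (Matrix (Fin m) (Fin m) F) p := Matrix.charP p
  -- the key bound: p ^ clog p m < p * m and m ≤ p ^ clog p m
  have hk1 : m ≤ p ^ Nat.clog p m := Nat.le_pow_clog hp1 m
  have hk2 : p ^ Nat.clog p m < p * m := by
    rcases Nat.lt_or_ge 1 m with h | h
    · have := Nat.pow_pred_clog_lt_self hp1 h
      have hc : Nat.clog p m ≠ 0 := by
        intro h0
        rw [h0] at hk1
        simp at hk1
        omega
      obtain ⟨c, hc'⟩ := Nat.exists_eq_succ_of_ne_zero hc
      rw [hc'] at this ⊢
      simp only [Nat.pred_succ] at this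
      rw [pow_succ, mul_comm]
      exact Nat.mul_lt_mul_of_pos_left this (by omega)
    · have : m = 1 := le_antisymm h hm
      subst this
      simp
      exact hp1
  -- key fact: unipotent matrices have order dividing p ^ clog p m
  have key : ∀ A : Matrix (Fin m) (Fin m) F, IsNilpotent (A - 1) → A ^ (p ^ Nat.clog p m) = 1 := by
    intro A hA
    have h1 : (A - 1) ^ m = 0 := nilpotent_pow_card _ hA
    have h2 : (A - 1) ^ (p ^ Nat.clog p m) = 0 := by
      obtain ⟨d, hd⟩ := Nat.exists_eq_add_of_le hk1
      rw [hd, pow_add, h1, zero_mul]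
    rw [sub_pow_char_pow_of_commute _ _ (Commute.one_right A), one_pow, sub_eq_zero] at h2
    exact h2
  constructor
  · rintro g ⟨j, hj⟩
    have hg : ((g : Matrix (Fin m) (Fin m) F)) ^ (p ^ j) = 1 := by
      have := pow_orderOf_eq_one g
      rw [hj] at this
      have h2 := congrArg (fun u : Matrix.GeneralLinearGroup (Fin m) F => (u : Matrix (Fin m) (Fin m) F)) this
      simpa using h2
    have hnil : IsNilpotent ((g : Matrix (Fin m) (Fin m) F) - 1) := by
      refine ⟨p ^ j, ?_⟩
      rw [sub_pow_char_pow_of_commute _ _ (Commute.one_right _), one_pow, hg, sub_self]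
    have h3 := key _ hnil
    have h4 : g ^ (p ^ Nat.clog p m) = 1 := by
      apply Units.ext
      simpa using h3
    have h5 : orderOf g ∣ p ^ Nat.clog p m := orderOf_dvd_of_pow_eq_one h4
    exact lt_of_le_of_lt (Nat.le_of_dvd (pow_pos hp.pos _) h5) hk2
  · -- the Jordan block
    set A : Matrix (Fin m) (Fin m) F := 1 + shift F m with hA
    have hshift : IsNilpotent (A - 1) := by
      refine ⟨m, ?_⟩
      rw [hA, add_sub_cancel_left]
      ext i j
      rw [shift_pow]
      have := j.isLt
      have : ¬ j.val = i.val + m := by omega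
      simp [this]
    have hApow : A ^ (p ^ Nat.clog p m) = 1 := key A hshift
    have hne : p ^ Nat.clog p m ≠ 0 := (pow_pos hp.pos _).ne'
    let g : Matrix.GeneralLinearGroup (Fin m) F := Units.ofPowEqOne A _ hApow hne
    have hgA : (g : Matrix (Fin m) (Fin m) F) = A := rfl
    have hg1 : g ^ (p ^ Nat.clog p m) = 1 := by
      apply Units.ext
      simpa [hgA] using hApow
    obtain ⟨j, hjle, hj⟩ := (Nat.dvd_prime_pow hp).1 (orderOf_dvd_of_pow_eq_one hg1)
    refine ⟨g, ⟨j, hj⟩, ?_⟩
    by_contra hlt
    rw [not_le] at hlt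
    rw [hj] at hlt
    have h6 : A ^ (p ^ j) = 1 := by
      have := pow_orderOf_eq_one g
      rw [hj] at this
      have h2 := congrArg (fun u : Matrix.GeneralLinearGroup (Fin m) F => (u : Matrix (Fin m) (Fin m) F)) this
      simpa [hgA] using h2
    have h7 : (A - 1) ^ (p ^ j) = 0 := by
      rw [sub_pow_char_pow_of_commute _ _ (Commute.one_right _), one_pow, h6, sub_self]
    rw [hA, add_sub_cancel_left] at h7
    have h8 := congrFun (congrFun h7 ⟨0, hm⟩) ⟨p ^ j, hlt⟩
    rw [shift_pow] at h8
    simp at h8

end Cfsg.Agent.S2368
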