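import Mathlib
import Cfsg.Statements.S2380
import Cfsg.Agent.Lib.Helper40_SylowLarge

set_option autoImplicit false
open scoped MatrixGroups
open Cfsg

namespace Cfsg.Agent.S2380

open Cfsg.Agent.Lib.Helper40_SylowLarge

/-- Sylow subgroups of `GL_n(q)` for large primes. Let `F` be a field with `q` elements and `r` a prime with `r > n` and `r ∤ q`. Let `d` be the multiplicative order of `q` modulo `r` and `m` the `r`-part of the value at `q` of the `d`-th cyclotomic polynomial. Then every Sylow `r`-subgroup of `GL_n(q)` is a direct product of `⌊n/d⌋` cyclic groups of order `m` (the degrees of the Weyl group being `1, …, n`). -/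
theorem result {F : Type*} [Field F] [Fintype F] {q : ℕ} (hq : Fintype.card F = q) (n : ℕ)
    (r : ℕ) [Fact r.Prime] (hrn : n < r) (hrq : ¬ r ∣ q) (P : Sylow r (GL (Fin n) F)) :
    Nonempty (↥(P : Subgroup (GL (Fin n) F)) ≃*
      (Fin (n / orderOf (q : ZMod r)) →
        Multiplicative (ZMod (r ^ padicValNat r ((Polynomial.cyclotomic (orderOf (q : ZMod r)) ℤ).eval (q : ℤ)).natAbs)))) := by
  classical
  subst hq
  have hq2 : 2 ≤ Fintype.card F := Fintype.one_lt_card
  rw [padicValNat_cyclotomic r hq2 hrq]
  have he0 : 0 < orderOf ((Fintype.card F : ℕ) : ZMod r) := orderOf_pos_of_not_dvd r hrq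
  set e := orderOf ((Fintype.card F : ℕ) : ZMod r) with he
  set a := padicValNat r (Fintype.card F ^ e - 1) with ha
  -- the extension field
  obtain ⟨p, hp⟩ := CharP.exists F
  have := hp
  have : Fact p.Prime := ⟨CharP.char_is_prime F p⟩
  have : NeZero e := ⟨he0.ne'⟩
  have hfr : Module.finrank F (FiniteField.Extension F p e) = e := FiniteField.finrank_extension F p e
  have hKcard : Nat.card (FiniteField.Extension F p e)ˣ = Fintype.card F ^ e - 1 := by
    rw [Nat.card_units, FiniteField.natCard_extension, Nat.card_eq_fintype_card]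
  obtain ⟨f, hf⟩ := exists_zmod_embedding (G := (FiniteField.Extension F p e)ˣ) (N := r ^ a)
    (by rw [hKcard]; exact pow_padicValNat_dvd)
  obtain ⟨Φ, hΦ⟩ := exists_torus_embedding (F := F) (K := FiniteField.Extension F p e) (n / e) n
    (by rw [hfr]; exact Nat.mul_div_le n e)
  refine sylow_mulEquiv_of_injective r (Φ.comp (f.compLeft (Fin (n / e))))
    (hΦ.comp (Function.Injective.comp_left hf)) ?_ P
  rw [Matrix.card_GL_field, factorization_glCard r hq2 hrq hrn, Nat.card_fun,
    Nat.card_eq_fintype_card (α := Fin (n / e)), Fintype.card_fin,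
    Nat.card_eq_fintype_card, Fintype.card_multiplicative, ZMod.card, ← pow_mul, mul_comm]

end Cfsg.Agent.S2380
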