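import Mathlib
import Cfsg.Statements.S2381
import Cfsg.Agent.Lib.Helper40_SylowLarge
import Cfsg.Agent.Lib.Helper40_SylowLargeSL
import Cfsg.Agent.Lib.Helper40_SylowLargeSp

set_option autoImplicit false
open Cfsg

namespace Cfsg.Agent.S2381

open Cfsg.Agent.Lib.Helper40_SylowLarge Cfsg.Agent.Lib.Helper40_SylowLargeSL
  Cfsg.Agent.Lib.Helper40_SylowLargeSp

/-- Sylow subgroups of `Sp_{2n}(q)` for large primes. Let `F` be a field with `q` elements and `r` an odd prime with `r > n` and `r ∤ q` (so `r` does not divide the order `2^n n!` of the Weyl group). Let `d` be the multiplicative order of `q` modulo `r`, `a` the number of `i` with `1 ≤ i ≤ n` and `d ∣ 2i` (the degrees being `2, 4, …, 2n`), and `m` the `r`-part of the value at `q` of the `d`-th cyclotomic polynomial. Then every Sylow `r`-subgroup of the symplectic group `Sp_{2n}(q)` is a direct product of `a` cyclic groups of order `m`. -/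
theorem result {F : Type*} [Field F] [Fintype F] {q : ℕ} (hq : Fintype.card F = q) (n : ℕ)
    (r : ℕ) [Fact r.Prime] (hr2 : r ≠ 2) (hrn : n < r) (hrq : ¬ r ∣ q) (P : Sylow r ↥(Matrix.symplecticGroup (Fin n) F)) :
    Nonempty (↥(P : Subgroup ↥(Matrix.symplecticGroup (Fin n) F)) ≃*
      (Fin ((Finset.Icc 1 n).filter (fun i => orderOf (q : ZMod r) ∣ 2 * i)).card →
        Multiplicative (ZMod (r ^ padicValNat r ((Polynomial.cyclotomic (orderOf (q : ZMod r)) ℤ).eval (q : ℤ)).natAbs)))) := by
  classical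
  subst hq
  have hr : r.Prime := Fact.out
  have hq2 : 2 ≤ Fintype.card F := Fintype.one_lt_card
  have he0 : 0 < orderOf ((Fintype.card F : ℕ) : ZMod r) := orderOf_pos_of_not_dvd r hrq
  rw [padicValNat_cyclotomic r hq2 hrq]
  have hemb : ∃ ψ : (Fin ((Finset.Icc 1 n).filter
      (fun i => orderOf ((Fintype.card F : ℕ) : ZMod r) ∣ 2 * i)).card → Multiplicative (ZMod
      (r ^ padicValNat r (Fintype.card F ^ orderOf ((Fintype.card F : ℕ) : ZMod r) - 1)))) →*
      ↥(Matrix.symplecticGroup (Fin n) F), Function.Injective ψ := by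
    rw [card_filter_Icc_one n _ he0]
    exact exists_Sp_embedding (F := F) r n hrq
  obtain ⟨ψ, hψ⟩ := hemb
  have : NeZero (r ^ padicValNat r
      (Fintype.card F ^ orderOf ((Fintype.card F : ℕ) : ZMod r) - 1)) :=
    ⟨pow_ne_zero _ hr.ne_zero⟩
  refine sylow_mulEquiv_of_injective r ψ hψ ?_ P
  rw [card_pi_zmod, factorization_card_sp r n hrn hr2 hrq, ← pow_mul, mul_comm]

end Cfsg.Agent.S2381
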