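import Mathlib
import Cfsg.Statements.S2384
import Cfsg.Agent.Lib.Helper40_SemisimpleCentralizer
import Cfsg.Agent.Lib.Helper40_SemisimpleExist
import Cfsg.Agent.Lib.Helper40_MonicPoly
import Cfsg.Agent.Lib.Helper40_ClassCount

set_option autoImplicit false
open Cfsg

namespace Cfsg.Agent.S2384

open Polynomial Cfsg.Agent.Lib.Helper40_SemisimpleGL Cfsg.Agent.Lib.Helper40_SemisimpleExist
  Cfsg.Agent.Lib.Helper40_SemisimpleCentralizer

/-- In `SL_n(q)`, `q` a power of the prime `p`, the number of conjugacy classes of elements of order prime to `p` (the semisimple classes) is `q^(n-1)`. -/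
theorem result {F : Type*} [Field F] [Fintype F] {q : ℕ} (hq : Fintype.card F = q) (p : ℕ) [Fact p.Prime] [CharP F p] (n : ℕ) (hn : 1 ≤ n) :
    Nat.card {c : ConjClasses (Matrix.SpecialLinearGroup (Fin n) F) //
      ∃ g : Matrix.SpecialLinearGroup (Fin n) F, ConjClasses.mk g = c ∧ (orderOf g).Coprime p} = q ^ (n - 1) := by
  have h := Lib.Helper40_ClassCount.card_classes_eq (G := Matrix.SpecialLinearGroup (Fin n) F)
    (fun g => (orderOf g).Coprime p) (fun g => (g : Matrix (Fin n) (Fin n) F).charpoly)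
    {c : F[X] | c.Monic ∧ c.natDegree = n ∧ c.coeff 0 = (-1) ^ n} ?_ ?_ ?_
  · rw [h]
    have h2 := Lib.Helper40_MonicPoly.card_monic n hn (fun x : F => x = (-1) ^ n)
    have h3 : Nat.card {x : F // x = (-1) ^ n} = 1 := Nat.card_unique
    rw [h3, Nat.card_eq_fintype_card (α := F), hq, one_mul] at h2
    exact h2
  · -- class function
    intro g h hgh
    obtain ⟨c, hc⟩ := isConj_iff.1 hgh
    show (g : Matrix (Fin n) (Fin n) F).charpoly = (h : Matrix (Fin n) (Fin n) F).charpoly
    rw [← hc, Matrix.SpecialLinearGroup.coe_mul, Matrix.SpecialLinearGroup.coe_mul]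
    have hcu : IsUnit (c : Matrix (Fin n) (Fin n) F) := by
      rw [Matrix.isUnit_iff_isUnit_det, c.2]
      exact isUnit_one
    have hinv : ((c⁻¹ : Matrix.SpecialLinearGroup (Fin n) F) : Matrix (Fin n) (Fin n) F) =
        (c : Matrix (Fin n) (Fin n) F)⁻¹ := by
      symm
      apply Matrix.inv_eq_right_inv
      rw [← Matrix.SpecialLinearGroup.coe_mul, mul_inv_cancel]
      rfl
    rw [hinv]
    exact (Matrix.charpoly_units_conj hcu.unit _).symm
  · -- separation
    intro g h hg hh hc
    exact sl_isConj_of_charpoly_eq g h (isSS_of_coprime_SL p g hg) (isSS_of_coprime_SL p h hh) hc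
  · -- image
    intro c
    constructor
    · rintro ⟨hcm, hcn, hc0⟩
      obtain ⟨A, hAc, hA⟩ := exists_matrix_of_monic n c hcm hcn
      have hdet : A.det = 1 := by
        rw [det_of_charpoly, hAc, hc0, ← mul_pow]
        simp
      refine ⟨⟨A, hdet⟩, ?_, hAc⟩
      exact coprime_of_isSS_SL p _ hA
    · rintro ⟨g, -, rfl⟩
      refine ⟨Matrix.charpoly_monic _, ?_, ?_⟩
      · rw [Matrix.charpoly_natDegree_eq_dim, Fintype.card_fin]
      · have hdet := det_of_charpoly n (g : Matrix (Fin n) (Fin n) F)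
        rw [g.2] at hdet
        have h1 : ((-1 : F) ^ n) * ((-1) ^ n) = 1 := by
          rw [← mul_pow]
          simp
        calc (g : Matrix (Fin n) (Fin n) F).charpoly.coeff 0
            = ((-1 : F) ^ n * (-1) ^ n) * (g : Matrix (Fin n) (Fin n) F).charpoly.coeff 0 := by
              rw [h1, one_mul]
          _ = (-1) ^ n * ((-1) ^ n * (g : Matrix (Fin n) (Fin n) F).charpoly.coeff 0) := by
              rw [mul_assoc]
          _ = (-1) ^ n := by rw [← hdet, mul_one]

end Cfsg.Agent.S2384
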