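import Mathlib
import Cfsg.Statements.S2385
import Cfsg.Agent.Lib.Helper40_SpExistMatrix
import Cfsg.Agent.Lib.Helper40_PalindromicCount
import Cfsg.Agent.Lib.Helper40_ClassCount

set_option autoImplicit false
open Cfsg

namespace Cfsg.Agent.S2385

open Polynomial Matrix Cfsg.Agent.Lib.Helper40_SpExistMatrix Cfsg.Agent.Lib.Helper40_Palindromic

/-- the coercion from the symplectic group to matrices as a monoid homomorphism -/
def spCoeHom (n : ℕ) (F : Type*) [Field F] :
    ↥(Matrix.symplecticGroup (Fin n) F) →* Matrix (Fin n ⊕ Fin n) (Fin n ⊕ Fin n) F where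
  toFun g := (g : Matrix (Fin n ⊕ Fin n) (Fin n ⊕ Fin n) F)
  map_one' := rfl
  map_mul' _ _ := rfl

/-- In the symplectic group `Sp_{2n}(q)`, `q` a power of the prime `p`, the number of conjugacy classes of elements of order prime to `p` is `q^n`. -/
theorem result {F : Type*} [Field F] [Fintype F] {q : ℕ} (hq : Fintype.card F = q) (p : ℕ) [Fact p.Prime] [CharP F p] (n : ℕ) :
    Nat.card {c : ConjClasses ↥(Matrix.symplecticGroup (Fin n) F) //
      ∃ g : ↥(Matrix.symplecticGroup (Fin n) F), ConjClasses.mk g = c ∧ (orderOf g).Coprime p} = q ^ n := by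
  classical
  have hfin : Finite ↥(Matrix.symplecticGroup (Fin n) F) := by
    have : Finite (Matrix (Fin n ⊕ Fin n) (Fin n ⊕ Fin n) F) := by
      unfold Matrix
      infer_instance
    exact Finite.of_injective _ Subtype.val_injective
  have h := Lib.Helper40_ClassCount.card_classes_eq (G := ↥(Matrix.symplecticGroup (Fin n) F))
    (fun g => (orderOf g).Coprime p)
    (fun g => (g : Matrix (Fin n ⊕ Fin n) (Fin n ⊕ Fin n) F).charpoly)
    {c : F[X] | c.Monic ∧ c.natDegree = 2 * n ∧ c.reverse = c} ?_ ?_ ?_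
  · rw [h]
    have h2 := Lib.Helper40_PalindromicCount.card_palindromic (F := F) n
    rw [Nat.card_eq_fintype_card (α := F), hq] at h2
    exact h2
  · -- class function
    intro g k hgk
    obtain ⟨c, hc⟩ := isConj_iff.1 hgk
    show (g : Matrix (Fin n ⊕ Fin n) (Fin n ⊕ Fin n) F).charpoly =
      (k : Matrix (Fin n ⊕ Fin n) (Fin n ⊕ Fin n) F).charpoly
    have h1 : (k : Matrix (Fin n ⊕ Fin n) (Fin n ⊕ Fin n) F) =
        (c : Matrix (Fin n ⊕ Fin n) (Fin n ⊕ Fin n) F) *
          ((g : Matrix (Fin n ⊕ Fin n) (Fin n ⊕ Fin n) F) *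
            ((c⁻¹ : ↥(Matrix.symplecticGroup (Fin n) F)) :
              Matrix (Fin n ⊕ Fin n) (Fin n ⊕ Fin n) F)) := by
      rw [← hc, mul_assoc]
      rfl
    have h2 : ((c⁻¹ : ↥(Matrix.symplecticGroup (Fin n) F)) :
        Matrix (Fin n ⊕ Fin n) (Fin n ⊕ Fin n) F) *
        (c : Matrix (Fin n ⊕ Fin n) (Fin n ⊕ Fin n) F) = 1 :=
      congrArg Subtype.val (inv_mul_cancel c)
    rw [h1, Matrix.charpoly_mul_comm, Matrix.mul_assoc, h2, Matrix.mul_one]
  · -- separation
    intro g k hg hk hc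
    exact Lib.Helper40_SpMatrix.sp_isConj_of_charpoly_eq p g k hg hk hc
  · -- image
    intro c
    constructor
    · rintro ⟨hcm, hcn, hrev⟩
      obtain ⟨A, hAmem, hAc, hAk⟩ := exists_sp_matrix n c hcm hcn hrev
      refine ⟨⟨A, hAmem⟩, ?_, hAc⟩
      apply coprime_of_isSemisimple (spCoeHom n F) (fun _ _ h => Subtype.ext h) p _
        (orderOf_pos _)
      show Module.End.IsSemisimple (Matrix.toLin' A)
      apply Module.End.isSemisimple_of_squarefree_aeval_eq_zero
        (UniqueFactorizationMonoid.squarefree_radical (a := c))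
      rw [aeval_toLin'', hAk _ (fun g hg hgc =>
        (UniqueFactorizationMonoid.dvd_radical_iff_of_irreducible hg hcm.ne_zero).2 hgc), map_zero]
    · rintro ⟨g, -, rfl⟩
      refine ⟨Matrix.charpoly_monic _, ?_, ?_⟩
      · rw [Matrix.charpoly_natDegree_eq_dim, Fintype.card_sum, Fintype.card_fin, two_mul]
      · exact charpoly_reverse_of_mem_symplectic _ g.2

end Cfsg.Agent.S2385
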