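import Mathlib
import Cfsg.Statements.S2386
import Cfsg.Agent.Lib.Helper40_UClasses
import Cfsg.Agent.Lib.Helper40_ClassCount

set_option autoImplicit false
open Cfsg

namespace Cfsg.Agent.S2386

open Polynomial Matrix Cfsg.Agent.Lib.Helper40_UExist Cfsg.Agent.Lib.Helper40_UExistMatrix
  Cfsg.Agent.Lib.Helper40_SpExistMatrix Cfsg.Agent.Lib.Helper40_SemisimpleExist
  Cfsg.Agent.Lib.Helper94_Herm Cfsg.Agent.Lib.Helper94_HermBridge

/-- the coercion from the special unitary group to matrices as a monoid homomorphism -/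
def suCoeHom (n : ℕ) (F : Type*) [Field F] (q : ℕ) :
    ↥(Cfsg.SU n F q) →* Matrix (Fin n) (Fin n) F where
  toFun g := ((g : Matrix.SpecialLinearGroup (Fin n) F) : Matrix (Fin n) (Fin n) F)
  map_one' := rfl
  map_mul' _ _ := rfl

theorem charpoly_eq_of_isConj {G : Type*} [Group G] {m : Type*} [Fintype m] [DecidableEq m]
    {R : Type*} [CommRing R] (φ : G →* Matrix m m R) {g k : G} (h : IsConj g k) :
    (φ g).charpoly = (φ k).charpoly := by
  obtain ⟨c, hc⟩ := isConj_iff.1 h
  have h2 : φ c⁻¹ * φ c = 1 := by rw [← map_mul, inv_mul_cancel, map_one]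
  rw [← hc, map_mul, map_mul, Matrix.mul_assoc, Matrix.charpoly_mul_comm, Matrix.mul_assoc, h2,
    Matrix.mul_one]

/-- In the special unitary group `SU_n(q)`, `q` a power of the prime `p`, the number of conjugacy classes of elements of order prime to `p` (the semisimple classes) is `q^(n-1)`. -/
theorem result {F : Type*} [Field F] [Fintype F] {q : ℕ} (hF : Fintype.card F = q ^ 2) (p : ℕ) [Fact p.Prime] [CharP F p] (n : ℕ) (hn : 1 ≤ n) :
    Nat.card {c : ConjClasses ↥(Cfsg.SU n F q) // ∃ g : ↥(Cfsg.SU n F q), ConjClasses.mk g = c ∧ (orderOf g).Coprime p} = q ^ (n - 1) := by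
  classical
  obtain ⟨σ, hσq, hσ⟩ := exists_frob hF
  have hε : ((-1 : F) ^ n) * ((-1) ^ n) = 1 := by
    rw [← mul_pow, neg_mul_neg, one_mul, one_pow]
  have hσε : σ ((-1 : F) ^ n) = (-1) ^ n := by
    rw [map_pow, map_neg, map_one]
  have h := Lib.Helper40_ClassCount.card_classes_eq (G := ↥(Cfsg.SU n F q))
    (fun g => (orderOf g).Coprime p)
    (fun g => ((g : Matrix.SpecialLinearGroup (Fin n) F) : Matrix (Fin n) (Fin n) F).charpoly)
    {c : F[X] | c.Monic ∧ c.natDegree = n ∧ c.coeff 0 = (-1) ^ n ∧ udual σ c = c} ?_ ?_ ?_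
  · rw [h]
    obtain ⟨m, rfl⟩ : ∃ m, n = m + 1 := ⟨n - 1, by omega⟩
    rw [Nat.add_sub_cancel]
    exact Lib.Helper40_UCount.card_selfDual σ ((-1) ^ (m + 1)) m hF hσ.invol hσ.ne_id hε hσε
  · -- class function
    intro g k hgk
    exact charpoly_eq_of_isConj (suCoeHom n F q) hgk
  · -- separation
    intro g k hg hk hc
    exact Lib.Helper40_UDetMatrix.isConj_SU hF p g k hg hk hc
  · -- image
    intro c
    constructor
    · rintro ⟨hcm, hcn, hc0, hdual⟩
      obtain ⟨A, hAU, hAc, hAk⟩ := exists_GU_matrix σ hσq hσ n c hcm hcn hdual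
      have hdet : A.det = 1 := by
        rw [det_of_charpoly, hAc, hc0]
        exact hε
      refine ⟨⟨⟨A, hdet⟩, hAU⟩, ?_, hAc⟩
      apply coprime_of_isSemisimple (suCoeHom n F q)
        (fun _ _ h => Subtype.ext (Subtype.ext h)) p _ (orderOf_pos _)
      show Module.End.IsSemisimple (Matrix.toLin' A)
      apply Module.End.isSemisimple_of_squarefree_aeval_eq_zero
        (UniqueFactorizationMonoid.squarefree_radical (a := c))
      rw [aeval_toLin'', hAk _ (fun g hg hgc =>
        (UniqueFactorizationMonoid.dvd_radical_iff_of_irreducible hg hcm.ne_zero).2 hgc), map_zero]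
    · rintro ⟨g, -, rfl⟩
      refine ⟨Matrix.charpoly_monic _, ?_, ?_, ?_⟩
      · rw [Matrix.charpoly_natDegree_eq_dim, Fintype.card_fin]
      · have hdet := det_of_charpoly n
          ((g : Matrix.SpecialLinearGroup (Fin n) F) : Matrix (Fin n) (Fin n) F)
        rw [(g : Matrix.SpecialLinearGroup (Fin n) F).2] at hdet
        calc ((g : Matrix.SpecialLinearGroup (Fin n) F) : Matrix (Fin n) (Fin n) F).charpoly.coeff 0
            = ((-1 : F) ^ n * (-1) ^ n) *
              ((g : Matrix.SpecialLinearGroup (Fin n) F) : Matrix (Fin n) (Fin n) F).charpoly.coeff 0 := by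
              rw [hε, one_mul]
          _ = (-1) ^ n * ((-1) ^ n *
              ((g : Matrix.SpecialLinearGroup (Fin n) F) : Matrix (Fin n) (Fin n) F).charpoly.coeff 0) := by
              rw [mul_assoc]
          _ = (-1) ^ n := by rw [← hdet, mul_one]
      · exact Lib.Helper40_UClasses.udual_charpoly_of_isU σ hσq hF hσ _ g.2

end Cfsg.Agent.S2386
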