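import Mathlib
import Cfsg.Statements.S2387
import Cfsg.Agent.Lib.Helper40_SemisimpleExist
import Cfsg.Agent.Lib.Helper40_MonicPoly
import Cfsg.Agent.Lib.Helper40_ClassCount

set_option autoImplicit false
open scoped MatrixGroups
open Cfsg

namespace Cfsg.Agent.S2387

open Polynomial Cfsg.Agent.Lib.Helper40_SemisimpleGL Cfsg.Agent.Lib.Helper40_SemisimpleExist

/-- In `GL_n(q)` with `n ≥ 1`, `q` a power of the prime `p`, the number of conjugacy classes of elements of order prime to `p` (diagonalisable over the algebraic closure; determined by the characteristic polynomial) is `(q - 1) q^(n-1)`. -/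
theorem result {F : Type*} [Field F] [Fintype F] {q : ℕ} (hq : Fintype.card F = q) (p : ℕ) [Fact p.Prime] [CharP F p] (n : ℕ) (hn : 1 ≤ n) :
    Nat.card {c : ConjClasses (GL (Fin n) F) // ∃ g : GL (Fin n) F, ConjClasses.mk g = c ∧ (orderOf g).Coprime p} = (q - 1) * q ^ (n - 1) := by
  have h := Lib.Helper40_ClassCount.card_classes_eq (G := GL (Fin n) F)
    (fun g => (orderOf g).Coprime p) (fun g => (g : Matrix (Fin n) (Fin n) F).charpoly)
    {c : F[X] | c.Monic ∧ c.natDegree = n ∧ c.coeff 0 ≠ 0} ?_ ?_ ?_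
  · rw [h]
    have h2 := Lib.Helper40_MonicPoly.card_monic n hn (fun x : F => x ≠ 0)
    have h3 : Nat.card {x : F // x ≠ 0} = q - 1 := by
      rw [← Nat.card_congr (unitsEquivNeZero (G₀ := F)), Nat.card_units,
        Nat.card_eq_fintype_card (α := F), hq]
    rw [h3, Nat.card_eq_fintype_card (α := F), hq] at h2
    exact h2
  · -- class function
    intro g h hgh
    obtain ⟨c, hc⟩ := isConj_iff.1 hgh
    show (g : Matrix (Fin n) (Fin n) F).charpoly = (h : Matrix (Fin n) (Fin n) F).charpoly
    rw [← hc, Units.val_mul, Units.val_mul, Matrix.coe_units_inv]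
    exact (Matrix.charpoly_units_conj c _).symm
  · -- separation
    intro g h hg hh hc
    obtain ⟨P, hP⟩ := exists_GL_conj (g : Matrix (Fin n) (Fin n) F) h
      (isSS_of_coprime_GL p g hg) (isSS_of_coprime_GL p h hh) hc
    rw [isConj_iff]
    refine ⟨P, ?_⟩
    rw [mul_inv_eq_iff_eq_mul]
    apply Units.ext
    exact hP
  · -- image
    intro c
    constructor
    · rintro ⟨hcm, hcn, hc0⟩
      obtain ⟨A, hAc, hA⟩ := exists_matrix_of_monic n c hcm hcn
      have hdet : A.det ≠ 0 := by
        rw [det_of_charpoly, hAc]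
        exact mul_ne_zero (pow_ne_zero _ (neg_ne_zero.2 one_ne_zero)) hc0
      refine ⟨Matrix.GeneralLinearGroup.mkOfDetNeZero A hdet, ?_, hAc⟩
      exact coprime_of_isSS_GL p _ hA
    · rintro ⟨g, -, rfl⟩
      refine ⟨Matrix.charpoly_monic _, ?_, ?_⟩
      · rw [Matrix.charpoly_natDegree_eq_dim, Fintype.card_fin]
      · intro h0
        have hdet := det_of_charpoly n (g : Matrix (Fin n) (Fin n) F)
        rw [h0, mul_zero] at hdet
        have hu : IsUnit (g : Matrix (Fin n) (Fin n) F).det :=
          (Matrix.isUnit_iff_isUnit_det _).1 g.isUnit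
        rw [hdet] at hu
        exact not_isUnit_zero hu

end Cfsg.Agent.S2387
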