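import Mathlib
import Cfsg.Statements.S2391

set_option autoImplicit false
open Cfsg

namespace Cfsg.Agent.S2391

open Matrix

variable {F : Type*} [Field F] {n : ℕ}

/-- the natural action of `SL_n` on column vectors -/
def rep (F : Type*) [Field F] (n : ℕ) :
    Matrix.SpecialLinearGroup (Fin n) F →* Module.End F (Fin n → F) where
  toFun g := Matrix.mulVecLin (g : Matrix (Fin n) (Fin n) F)
  map_one' := by
    ext v
    simp
  map_mul' g h := by
    ext v
    simp [Matrix.mulVecLin_mul]

theorem rep_apply (g : Matrix.SpecialLinearGroup (Fin n) F) (v : Fin n → F) :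
    rep F n g v = (g : Matrix (Fin n) (Fin n) F).mulVec v := rfl

theorem rep_mul_apply (g h : Matrix.SpecialLinearGroup (Fin n) F) (v : Fin n → F) :
    rep F n (g * h) v = rep F n g (rep F n h v) := by
  rw [map_mul]; rfl

theorem rep_inv_apply (g : Matrix.SpecialLinearGroup (Fin n) F) (v : Fin n → F) :
    rep F n g⁻¹ (rep F n g v) = v := by
  rw [← rep_mul_apply, inv_mul_cancel, map_one]; rfl

theorem rep_apply_inv (g : Matrix.SpecialLinearGroup (Fin n) F) (v : Fin n → F) :
    rep F n g (rep F n g⁻¹ v) = v := by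
  rw [← rep_mul_apply, mul_inv_cancel, map_one]; rfl

/-- vectors moved by `U` into `W` -/
def next (U : Subgroup (Matrix.SpecialLinearGroup (Fin n) F)) (W : Submodule F (Fin n → F)) :
    Submodule F (Fin n → F) :=
  ⨅ u ∈ U, W.comap (rep F n u - 1)

theorem mem_next (U : Subgroup (Matrix.SpecialLinearGroup (Fin n) F)) (W : Submodule F (Fin n → F))
    (v : Fin n → F) : v ∈ next U W ↔ ∀ u ∈ U, rep F n u v - v ∈ W := by
  simp [next, Submodule.mem_iInf]

theorem next_mono (U : Subgroup (Matrix.SpecialLinearGroup (Fin n) F))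
    {W W' : Submodule F (Fin n → F)} (h : W ≤ W') : next U W ≤ next U W' := by
  intro v hv
  rw [mem_next] at hv ⊢
  exact fun u hu => h (hv u hu)

theorem stable_of_le_next (U : Subgroup (Matrix.SpecialLinearGroup (Fin n) F))
    {W : Submodule F (Fin n → F)} (h : W ≤ next U W) (u : Matrix.SpecialLinearGroup (Fin n) F)
    (hu : u ∈ U) : W ≤ W.comap (rep F n u) := by
  intro v hv
  have h1 := (mem_next U W v).1 (h hv) u hu
  rw [Submodule.mem_comap]
  have : rep F n u v = (rep F n u v - v) + v := by abel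
  rw [this]
  exact W.add_mem h1 hv

theorem lt_next [Fintype F] (p : ℕ) [Fact p.Prime] [CharP F p]
    (U : Subgroup (Matrix.SpecialLinearGroup (Fin n) F)) (hU : IsPGroup p ↥U)
    (W : Submodule F (Fin n → F)) (hW : W ≤ next U W) (hne : W ≠ ⊤) : W < next U W := by
  classical
  let ρ : Representation F U (Fin n → F) := (rep F n).comp U.subtype
  have hst : ∀ u : U, W ≤ W.comap (ρ u) := fun u => stable_of_le_next U hW u.1 u.2
  let ρq : Representation F U ((Fin n → F) ⧸ W) := ρ.quotient W hst
  let _ : MulAction U ((Fin n → F) ⧸ W) := MulAction.compHom _ ρq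
  have hsmul : ∀ (u : U) (x : (Fin n → F) ⧸ W), u • x = ρq u x := fun _ _ => rfl
  have hfix0 : (0 : (Fin n → F) ⧸ W) ∈ MulAction.fixedPoints U ((Fin n → F) ⧸ W) := by
    intro u
    rw [hsmul, map_zero]
  have hdvd : p ∣ Nat.card ((Fin n → F) ⧸ W) := by
    have : Nontrivial ((Fin n → F) ⧸ W) := Submodule.Quotient.nontrivial_iff.2 hne
    obtain ⟨x, hx⟩ := exists_ne (0 : (Fin n → F) ⧸ W)
    have hpx : p • x = 0 := by
      have : (p : F) • x = 0 := by rw [CharP.cast_eq_zero, zero_smul]
      rwa [Nat.cast_smul_eq_nsmul] at this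
    have := addOrderOf_eq_prime hpx hx
    rw [← this]
    exact addOrderOf_dvd_natCard x
  obtain ⟨b, hb, hb0⟩ := hU.exists_fixed_point_of_prime_dvd_card_of_fixed_point _ hdvd hfix0
  obtain ⟨v, rfl⟩ := Submodule.Quotient.mk_surjective W b
  have hvW : v ∉ W := by
    intro hv
    exact hb0 ((Submodule.Quotient.mk_eq_zero W).2 hv).symm
  have hvn : v ∈ next U W := by
    rw [mem_next]
    intro u hu
    have h1 := hb ⟨u, hu⟩
    rw [hsmul] at h1
    have h2 : ρq ⟨u, hu⟩ (Submodule.Quotient.mk v) = Submodule.Quotient.mk (rep F n u v) := rfl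
    rw [h2, Submodule.Quotient.eq] at h1
    exact h1
  exact lt_of_le_of_ne hW (fun h => hvW (h ▸ hvn))

theorem normal_next (U : Subgroup (Matrix.SpecialLinearGroup (Fin n) F))
    (W : Submodule F (Fin n → F))
    (hW : ∀ g ∈ Subgroup.normalizer (U : Set (Matrix.SpecialLinearGroup (Fin n) F)),
      W ≤ W.comap (rep F n g)) :
    ∀ g ∈ Subgroup.normalizer (U : Set (Matrix.SpecialLinearGroup (Fin n) F)),
      next U W ≤ (next U W).comap (rep F n g) := by
  intro g hg v hv
  rw [Submodule.mem_comap, mem_next]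
  intro u hu
  rw [mem_next] at hv
  have hg' : g⁻¹ ∈ Subgroup.normalizer (U : Set (Matrix.SpecialLinearGroup (Fin n) F)) :=
    inv_mem hg
  have hu' : g⁻¹ * u * g ∈ U := by
    have := (Subgroup.mem_normalizer_iff.1 hg' u).1 hu
    simpa using this
  have h1 := hv _ hu'
  have h2 := hW g hg h1
  rw [Submodule.mem_comap, map_sub] at h2
  have h3 : rep F n g (rep F n (g⁻¹ * u * g) v) = rep F n u (rep F n g v) := by
    rw [← rep_mul_apply, ← rep_mul_apply]
    congr 2
    group
  rw [h3] at h2
  exact h2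

/-- the ascending fixed-point filtration -/
def Wseq (U : Subgroup (Matrix.SpecialLinearGroup (Fin n) F)) (j : ℕ) : Submodule F (Fin n → F) :=
  (next U)^[j] ⊥

theorem Wseq_zero (U : Subgroup (Matrix.SpecialLinearGroup (Fin n) F)) : Wseq U 0 = ⊥ := rfl

theorem Wseq_succ (U : Subgroup (Matrix.SpecialLinearGroup (Fin n) F)) (j : ℕ) :
    Wseq U (j + 1) = next U (Wseq U j) := by
  unfold Wseq
  rw [Function.iterate_succ_apply']

theorem Wseq_le_succ (U : Subgroup (Matrix.SpecialLinearGroup (Fin n) F)) (j : ℕ) :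
    Wseq U j ≤ Wseq U (j + 1) := by
  induction j with
  | zero => rw [Wseq_zero]; exact bot_le
  | succ j ih =>
    rw [Wseq_succ U j, Wseq_succ U (j + 1)]
    exact next_mono U ih

theorem Wseq_normal (U : Subgroup (Matrix.SpecialLinearGroup (Fin n) F)) (j : ℕ) :
    ∀ g ∈ Subgroup.normalizer (U : Set (Matrix.SpecialLinearGroup (Fin n) F)),
      Wseq U j ≤ (Wseq U j).comap (rep F n g) := by
  induction j with
  | zero => intro g _; rw [Wseq_zero]; exact bot_le
  | succ j ih =>
    rw [Wseq_succ]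
    exact normal_next U _ ih

theorem exists_top [Fintype F] (p : ℕ) [Fact p.Prime] [CharP F p]
    (U : Subgroup (Matrix.SpecialLinearGroup (Fin n) F)) (hU : IsPGroup p ↥U) :
    ∃ j, Wseq U j = ⊤ := by
  by_contra hcon
  rw [not_exists] at hcon
  have hlt : ∀ j, Wseq U j < Wseq U (j + 1) := by
    intro j
    rw [Wseq_succ]
    apply lt_next p U hU _ _ (hcon j)
    rw [← Wseq_succ]
    exact Wseq_le_succ U j
  have hrank : ∀ j, j ≤ Module.finrank F (Wseq U j) := by
    intro j
    induction j with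
    | zero => exact Nat.zero_le _
    | succ j ih =>
      have := Submodule.finrank_lt_finrank_of_lt (hlt j)
      omega
  have h1 := hrank (n + 1)
  have h2 := Submodule.finrank_le (Wseq U (n + 1))
  rw [Module.finrank_fin_fun] at h2
  omega

theorem result {F : Type*} [Field F] [Fintype F] (p : ℕ) [Fact p.Prime] [CharP F p] (n : ℕ)
    (U : Subgroup (Matrix.SpecialLinearGroup (Fin n) F)) (hU : IsPGroup p ↥U) (hne : U ≠ ⊥) :
    ∃ (k : ℕ) (V : Fin (k + 2) → Submodule F (Fin n → F)), 1 ≤ k ∧ StrictMono V ∧ V 0 = ⊥ ∧ V (Fin.last (k + 1)) = ⊤ ∧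
      (∀ g ∈ Subgroup.normalizer (U : Set (Matrix.SpecialLinearGroup (Fin n) F)), ∀ i, (V i).map (Matrix.mulVecLin (g : Matrix (Fin n) (Fin n) F)) = V i) ∧
      (∀ u ∈ U, ∀ i : Fin (k + 1), ∀ v ∈ V i.succ, (u : Matrix (Fin n) (Fin n) F).mulVec v - v ∈ V (Fin.castSucc i)) := by
  classical
  have hex := exists_top p U hU
  set K := Nat.find hex with hK
  have hKtop : Wseq U K = ⊤ := Nat.find_spec hex
  have hKmin : ∀ j < K, Wseq U j ≠ ⊤ := fun j hj => Nat.find_min hex hj
  -- U contains a nontrivial element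
  obtain ⟨u0, hu0, hu01⟩ : ∃ u ∈ U, u ≠ 1 := by
    by_contra hcon
    push Not at hcon
    exact hne ((Subgroup.eq_bot_iff_forall U).2 hcon)
  have hK0 : K ≠ 0 := by
    intro h0
    rw [h0, Wseq_zero] at hKtop
    -- the space is trivial, so u0 = 1
    apply hu01
    ext i j
    have hv : (Pi.single j 1 : Fin n → F) ∈ (⊥ : Submodule F (Fin n → F)) := by
      rw [hKtop]; trivial
    rw [Submodule.mem_bot] at hv
    have := congrFun hv j
    simp at this
  have hK1 : K ≠ 1 := by
    intro h1
    rw [h1, Wseq_succ, Wseq_zero] at hKtop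
    apply hu01
    ext i j
    have hv : (Pi.single j 1 : Fin n → F) ∈ next U ⊥ := by
      rw [hKtop]; trivial
    rw [mem_next] at hv
    have h2 := hv u0 hu0
    rw [Submodule.mem_bot, sub_eq_zero, rep_apply] at h2
    have h3 := congrFun h2 i
    rw [Matrix.mulVec_single_one] at h3
    simp only [Matrix.col_apply] at h3
    rw [h3]
    simp [Matrix.one_apply, Pi.single_apply]
  obtain ⟨k, hk⟩ : ∃ k, K = k + 1 := Nat.exists_eq_succ_of_ne_zero hK0
  have hk1 : 1 ≤ k := by omega
  refine ⟨k, fun i => Wseq U i.val, hk1, ?_, ?_, ?_, ?_, ?_⟩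
  · rw [Fin.strictMono_iff_lt_succ]
    intro i
    simp only [Fin.val_succ, Fin.val_castSucc]
    rw [Wseq_succ]
    apply lt_next p U hU _ _ (hKmin _ (by have := i.isLt; omega))
    rw [← Wseq_succ]
    exact Wseq_le_succ U _
  · simp [Wseq_zero]
  · simp only [Fin.val_last]
    rw [← hk]; exact hKtop
  · intro g hg i
    apply le_antisymm
    · rw [Submodule.map_le_iff_le_comap]
      exact Wseq_normal U _ g hg
    · intro w hw
      have hg' : g⁻¹ ∈ Subgroup.normalizer (U : Set (Matrix.SpecialLinearGroup (Fin n) F)) :=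
        inv_mem hg
      have h1 := Wseq_normal U i.val g⁻¹ hg' hw
      rw [Submodule.mem_comap] at h1
      exact ⟨_, h1, rep_apply_inv g w⟩
  · intro u hu i v hv
    simp only [Fin.val_succ] at hv
    rw [Wseq_succ, mem_next] at hv
    exact hv u hu

end Cfsg.Agent.S2391
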