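import Cfsg.Statements.S2392
import Cfsg.Agent.Lib.Helper81_Transvection
import Cfsg.Agent.Lib.Helper81_JointEigen
import Cfsg.Agent.Lib.Helper81_AddCharDual

set_option autoImplicit false
set_option linter.unusedSectionVars false
open scoped MatrixGroups
open Cfsg

namespace Cfsg.Agent.S2392


open Module Submodule
open Cfsg.Agent.Lib.Helper81_Transvection Cfsg.Agent.Lib.Helper81_JointEigen
  Cfsg.Agent.Lib.Helper81_AddCharDual

/-! ### The root group of transvections with a fixed centre -/

section Root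

variable {F : Type*} [Field F] {V : Type*} [AddCommGroup V] [Module F V]

/-- the linear forms vanishing at `e₀` -/
def annih (e₀ : V) : Submodule F (Dual F V) := LinearMap.ker (Dual.eval F V e₀)

theorem mem_annih {e₀ : V} {f : Dual F V} : f ∈ annih (F := F) e₀ ↔ f e₀ = 0 := by
  unfold annih
  rw [LinearMap.mem_ker, Dual.eval_apply]

/-- the transvection `x ↦ x + f x • e₀` -/
noncomputable def rt (e₀ : V) (f : annih (F := F) e₀) : SpecialLinearGroup F V :=
  tv (mem_annih.mp f.2)

theorem rt_apply (e₀ : V) (f : annih (F := F) e₀) (x : V) : rt e₀ f x = x + f.1 x • e₀ := rfl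

theorem rt_add (e₀ : V) (f f' : annih (F := F) e₀) : rt e₀ (f + f') = rt e₀ f * rt e₀ f' := by
  refine SpecialLinearGroup.ext _ _ fun x => ?_
  show x + (f.1 + f'.1) x • e₀ = (x + f'.1 x • e₀) + f.1 (x + f'.1 x • e₀) • e₀
  have h0 : f.1 e₀ = 0 := mem_annih.mp f.2
  rw [map_add, map_smul, h0, smul_zero, add_zero, LinearMap.add_apply, add_smul]
  abel

theorem rt_zero (e₀ : V) : rt e₀ (0 : annih (F := F) e₀) = 1 := by
  refine SpecialLinearGroup.ext _ _ fun x => ?_
  show x + (0 : Dual F V) x • e₀ = x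
  rw [LinearMap.zero_apply, zero_smul, add_zero]

theorem rt_pow (e₀ : V) (f : annih (F := F) e₀) (k : ℕ) : rt e₀ f ^ k = rt e₀ (k • f) := by
  induction k with
  | zero => rw [pow_zero, zero_smul, rt_zero]
  | succ k ih => rw [pow_succ, ih, ← rt_add, succ_nsmul]

theorem rt_comm (e₀ : V) (f f' : annih (F := F) e₀) : Commute (rt e₀ f) (rt e₀ f') := by
  show rt e₀ f * rt e₀ f' = rt e₀ f' * rt e₀ f
  rw [← rt_add, ← rt_add, add_comm]

/-- precomposition with an element of `SL(V)` fixing `e₀` -/
def compAnnih (e₀ : V) (g : SpecialLinearGroup F V) (hg : g.1 e₀ = e₀) (f : annih (F := F) e₀) :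
    annih (F := F) e₀ :=
  ⟨f.1.comp (g.1 : V →ₗ[F] V), by
    rw [mem_annih, LinearMap.comp_apply]
    show f.1 (g.1 e₀) = 0
    rw [hg]; exact mem_annih.mp f.2⟩

theorem compAnnih_apply (e₀ : V) (g : SpecialLinearGroup F V) (hg : g.1 e₀ = e₀)
    (f : annih (F := F) e₀) (x : V) : (compAnnih e₀ g hg f).1 x = f.1 (g.1 x) := rfl

theorem rt_mul_eq (e₀ : V) (g : SpecialLinearGroup F V) (hg : g.1 e₀ = e₀)
    (f : annih (F := F) e₀) :
    rt e₀ f * g = g * rt e₀ (compAnnih e₀ g hg f) := by
  refine SpecialLinearGroup.ext _ _ fun x => ?_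
  show g.1 x + f.1 (g.1 x) • e₀ = g.1 (x + f.1 (g.1 x) • e₀)
  rw [map_add, map_smul, hg]

end Root


/-! ### The core argument -/

section Core

variable {F : Type*} [Field F] [Fintype F] {V : Type*} [AddCommGroup V] [Module F V]
  [FiniteDimensional F V]

theorem exists_not_mem (W : Submodule F V) (h : finrank F W < finrank F V) : ∃ z, z ∉ W := by
  by_contra hcon
  push Not at hcon
  have : W = ⊤ := Submodule.eq_top_iff'.mpr hcon
  rw [this, finrank_top] at h
  exact lt_irrefl _ h

theorem finrank_span_singleton_le (a : V) : finrank F (span F {a}) ≤ 1 := by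
  have h := finrank_span_le_card (R := F) ({a} : Set V)
  simpa using h

theorem finrank_ker_of_surjective {W : Type*} [AddCommGroup W] [Module F W]
    [FiniteDimensional F W] (φ : W →ₗ[F] F) (hφ : Function.Surjective φ) :
    finrank F (LinearMap.ker φ) = finrank F W - 1 := by
  have h := LinearMap.finrank_range_add_finrank_ker φ
  rw [LinearMap.range_eq_top.mpr hφ, finrank_top, finrank_self] at h
  omega

variable {K : Type*} [Field K] [IsAlgClosed K] {M : Type*} [AddCommGroup M] [Module K M]
  [FiniteDimensional K M]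

set_option maxHeartbeats 1600000 in
theorem core (hV : 3 ≤ finrank F V) (p : ℕ) [CharP F p] (hp : (p : K) ≠ 0)
    (R : SpecialLinearGroup F V →* Module.End K M)
    (hker : ∀ g, R g = 1 → g ∈ Subgroup.center (SpecialLinearGroup F V)) :
    Fintype.card F ^ (finrank F V - 1) - 1 ≤ finrank K M := by
  classical
  have hfinV : Finite V := Module.finite_of_finite F
  have hfinD : Finite (Dual F V) := Module.finite_of_finite F
  -- a non-zero vector and a form with value 1 on it
  obtain ⟨e₀, he₀⟩ : ∃ e₀ : V, e₀ ≠ 0 := by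
    have : Nontrivial V := (Module.finrank_pos_iff (R := F)).mp (by omega)
    exact exists_ne 0
  obtain ⟨φ₀, hφ₀, -⟩ := exists_dual_one (⊥ : Submodule F V) (x := e₀) (by simpa using he₀)
  set U : Submodule F V := LinearMap.ker φ₀ with hU
  have hφ₀surj : Function.Surjective φ₀ := fun a => ⟨a • e₀, by rw [map_smul, hφ₀, smul_eq_mul, mul_one]⟩
  have hU1 : ∀ u : U, u ≠ 0 → u.1 ∉ span F {e₀} := by
    intro u hu hmem
    obtain ⟨a, ha⟩ := Submodule.mem_span_singleton.mp hmem
    have h1 : φ₀ u.1 = 0 := LinearMap.mem_ker.mp u.2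
    rw [← ha, map_smul, hφ₀, smul_eq_mul, mul_one] at h1
    apply hu
    apply Subtype.ext
    rw [← ha, h1, zero_smul]; rfl
  have hUrank : finrank F U = finrank F V - 1 := finrank_ker_of_surjective φ₀ hφ₀surj
  have hBrank : finrank F (annih (F := F) e₀) = finrank F V - 1 := by
    have hs : Function.Surjective (Dual.eval F V e₀) := fun a =>
      ⟨a • φ₀, by rw [Dual.eval_apply, LinearMap.smul_apply, hφ₀, smul_eq_mul, mul_one]⟩
    have h := finrank_ker_of_surjective (Dual.eval F V e₀) hs
    rw [Subspace.dual_finrank_eq] at h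
    exact h
  have hcard : Nat.card (annih (F := F) e₀) ≤ Nat.card U := by
    rw [Module.natCard_eq_pow_finrank (K := F), Module.natCard_eq_pow_finrank (K := F) (V := U),
      hUrank, hBrank]
  -- the operators
  set A : annih (F := F) e₀ → Module.End K M := fun f => R (rt e₀ f) with hAdef
  have hA : ∀ f, A f ^ p = 1 := by
    intro f
    show R (rt e₀ f) ^ p = 1
    rw [← map_pow, rt_pow]
    have : p • f = 0 := by
      rw [← Nat.cast_smul_eq_nsmul F, CharP.cast_eq_zero, zero_smul]
    rw [this, rt_zero, map_one]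
  have hcomm : ∀ f f', Commute (A f) (A f') := fun f f' => (rt_comm e₀ f f').map R
  have hAadd : ∀ f f', A (f + f') = A f * A f' := fun f f' => by
    show R (rt e₀ (f + f')) = R (rt e₀ f) * R (rt e₀ f')
    rw [rt_add, map_mul]
  have hA0 : A 0 = 1 := by
    show R (rt e₀ 0) = 1
    rw [rt_zero, map_one]
  -- a vector outside the line and a form in the root group
  obtain ⟨x₁, hx₁⟩ : ∃ x₁, x₁ ∉ span F {e₀} := by
    apply exists_not_mem
    have := finrank_span_singleton_le (F := F) e₀
    omega
  obtain ⟨f₁, hf₁x, hf₁⟩ := exists_dual_one (span F {e₀}) hx₁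
  have hf₁e : f₁ e₀ = 0 := hf₁ e₀ (Submodule.mem_span_singleton_self e₀)
  -- a non-trivial weight
  obtain ⟨χ₀, hχ₀, f₂, hf₂⟩ : ∃ χ₀ : annih (F := F) e₀ → K, jointEigenspace A χ₀ ≠ ⊥ ∧
      ∃ f, χ₀ f ≠ 1 := by
    by_contra hcon
    push Not at hcon
    have htop := iSup_jointEigenspace hp A hA hcomm
    have hE1 : jointEigenspace A (fun _ => (1 : K)) = ⊤ := by
      rw [eq_top_iff, ← htop]
      refine iSup_le fun χ => ?_
      by_cases h : jointEigenspace A χ = ⊥
      · rw [h]; exact bot_le
      · have h1 : χ = fun _ => (1 : K) := funext (hcon χ h)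
        rw [h1]
    have hone : A ⟨f₁, mem_annih.mpr hf₁e⟩ = 1 := by
      refine LinearMap.ext fun x => ?_
      have hx : x ∈ jointEigenspace A (fun _ => (1 : K)) := by rw [hE1]; exact Submodule.mem_top
      have := (mem_jointEigenspace A _ x).mp hx ⟨f₁, mem_annih.mpr hf₁e⟩
      rw [this, one_smul]; rfl
    have hc := hker _ hone
    obtain ⟨r, -, hr⟩ := SpecialLinearGroup.mem_center_iff.mp hc
    have h2 := LinearMap.congr_fun hr x₁
    have h3 : x₁ + f₁ x₁ • e₀ = r • x₁ := h2
    rw [hf₁x, one_smul] at h3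
    have h4 := congrArg f₁ h3
    rw [map_add, hf₁x, hf₁e, add_zero, map_smul, hf₁x, smul_eq_mul, mul_one] at h4
    rw [← h4, one_smul] at h3
    exact he₀ (by simpa using h3)
  obtain ⟨x₀, hx₀mem, hx₀ne⟩ := Submodule.exists_mem_ne_zero_of_ne_bot hχ₀
  have hx₀ : ∀ f, A f x₀ = χ₀ f • x₀ := (mem_jointEigenspace A χ₀ x₀).mp hx₀mem
  -- the weight is an additive character
  have hχadd : ∀ f f', χ₀ (f + f') = χ₀ f * χ₀ f' := by
    intro f f'
    have h1 : χ₀ (f + f') • x₀ = (χ₀ f * χ₀ f') • x₀ := by
      rw [← hx₀ (f + f'), hAadd, Module.End.mul_apply, hx₀ f', map_smul, hx₀ f, smul_smul,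
        mul_comm]
    exact smul_left_injective K hx₀ne h1
  have hχ0 : χ₀ 0 = 1 := by
    have h1 : χ₀ 0 • x₀ = (1 : K) • x₀ := by
      rw [← hx₀ 0, hA0, one_smul]; rfl
    exact smul_left_injective K hx₀ne h1
  -- the additive character of `F`
  set ψ₀ : F → K := fun a => χ₀ (a • f₂) with hψ₀
  have hψ0 : ψ₀ 0 = 1 := by
    show χ₀ ((0 : F) • f₂) = 1
    rw [zero_smul, hχ0]
  have hψadd : ∀ a b, ψ₀ (a + b) = ψ₀ a * ψ₀ b := fun a b => by
    show χ₀ ((a + b) • f₂) = χ₀ (a • f₂) * χ₀ (b • f₂)
    rw [add_smul, hχadd]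
  have hψne : ∃ a, ψ₀ a ≠ 1 := ⟨1, by
    show χ₀ ((1 : F) • f₂) ≠ 1
    rw [one_smul]; exact hf₂⟩
  -- the pairing
  let P : annih (F := F) e₀ →ₗ[F] U →ₗ[F] F :=
    LinearMap.mk₂ F (fun f u => f.1 u.1)
      (fun f f' u => by simp)
      (fun c f u => by simp)
      (fun f u u' => by simp)
      (fun c f u => by simp)
  have hPapply : ∀ f u, P f u = f.1 u.1 := fun f u => rfl
  have hP : ∀ u : U, u ≠ 0 → ∃ f : annih (F := F) e₀, P f u ≠ 0 := by
    intro u hu
    obtain ⟨f, hfu, hf⟩ := exists_dual_one (span F {e₀}) (hU1 u hu)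
    refine ⟨⟨f, mem_annih.mpr (hf e₀ (Submodule.mem_span_singleton_self e₀))⟩, ?_⟩
    rw [hPapply]
    show f u.1 ≠ 0
    rw [hfu]; exact one_ne_zero
  obtain ⟨y₀, hy₀⟩ := exists_eq_pairing ψ₀ hψ0 hψadd hψne P hP hcard χ₀ hχ0 hχadd
  have hy₀ne : y₀ ≠ 0 := by
    rintro rfl
    apply hf₂
    rw [hy₀ f₂, map_zero, hψ0]
  -- the family of weights
  let w : {u : U // u ≠ 0} → annih (F := F) e₀ → K := fun u f => ψ₀ (P f u.1)
  have hw : Function.Injective w := by
    intro u u' h
    have h' : (fun (y : U) (f : annih (F := F) e₀) => ψ₀ (P f y)) u.1 =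
        (fun (y : U) (f : annih (F := F) e₀) => ψ₀ (P f y)) u'.1 := h
    have hinj := pairing_injective (W := annih (F := F) e₀) (W' := U) ψ₀ hψ0 hψadd hψne P hP
    exact Subtype.ext (hinj h')
  have hne : ∀ u, jointEigenspace A (w u) ≠ ⊥ := by
    intro u
    -- an element of `SL(V)` fixing `e₀` and moving `y₀` to `u`
    have hz : ∃ z, z ∉ span F {e₀} ⊔ span F {y₀.1} := by
      apply exists_not_mem
      have h1 := Submodule.finrank_add_le_finrank_add_finrank (span F {e₀}) (span F {y₀.1})
      have h2 := finrank_span_singleton_le (F := F) e₀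
      have h3 := finrank_span_singleton_le (F := F) y₀.1
      omega
    obtain ⟨g, hgp, hgy⟩ := exists_sl_map (span F {e₀}) (hU1 y₀ hy₀ne) (hU1 u.1 u.2) hz
    have hge : g.1 e₀ = e₀ := hgp e₀ (Submodule.mem_span_singleton_self e₀)
    have hgy' : g.1 y₀.1 = u.1.1 := hgy
    have hxne : R g x₀ ≠ 0 := by
      intro h0
      apply hx₀ne
      have h1 : R g⁻¹ (R g x₀) = x₀ := by
        rw [← Module.End.mul_apply, ← map_mul, inv_mul_cancel, map_one]; rfl
      rw [← h1, h0, map_zero]
    intro hbot
    apply hxne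
    have hmem : R g x₀ ∈ jointEigenspace A (w u) := by
      rw [mem_jointEigenspace]
      intro f
      show R (rt e₀ f) (R g x₀) = ψ₀ (P f u.1) • R g x₀
      rw [← Module.End.mul_apply, ← map_mul, rt_mul_eq e₀ g hge f, map_mul, Module.End.mul_apply]
      have h1 : R (rt e₀ (compAnnih e₀ g hge f)) x₀ = χ₀ (compAnnih e₀ g hge f) • x₀ :=
        hx₀ (compAnnih e₀ g hge f)
      rw [h1, map_smul, hy₀ (compAnnih e₀ g hge f), hPapply, hPapply, compAnnih_apply, hgy']
    rw [hbot] at hmem
    exact (Submodule.mem_bot K).mp hmem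
  have hfinU : Fintype U := Fintype.ofFinite U
  have key := card_le_finrank hp A hA hcomm w hw hne
  have hcardY : Fintype.card {u : U // u ≠ 0} = Fintype.card F ^ (finrank F V - 1) - 1 := by
    rw [Fintype.card_subtype_compl, Fintype.card_subtype_eq, ← Nat.card_eq_fintype_card,
      Module.natCard_eq_pow_finrank (K := F) (V := U), hUrank, Nat.card_eq_fintype_card]
  rw [← hcardY]
  convert key

end Core

/-- A lower bound for representations in cross characteristic: for `n ≥ 3` and a field `F` with `q` elements, every homomorphism from `SL_n(F)` to `GL_d(K)`, `K` a field of characteristic different from that of `F`, whose kernel is central has `d ≥ q^(n-1) - 1`. -/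
theorem result {F : Type*} [Field F] [Fintype F] {q : ℕ} (hq : Fintype.card F = q) (n : ℕ) (hn : 3 ≤ n)
    {K : Type*} [Field K] (hK : ringChar K ≠ ringChar F) {d : ℕ}
    (ρ : Matrix.SpecialLinearGroup (Fin n) F →* GL (Fin d) K) (hker : ρ.ker ≤ Subgroup.center (Matrix.SpecialLinearGroup (Fin n) F)) :
    q ^ (n - 1) - 1 ≤ d := by
  classical
  obtain ⟨p, hpchar⟩ := CharP.exists F
  have := hpchar
  have hprime : p.Prime := CharP.char_is_prime F p
  have hpK : (p : AlgebraicClosure K) ≠ 0 := by
    intro h0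
    have h1 : (p : K) = 0 := by
      apply (algebraMap K (AlgebraicClosure K)).injective
      rw [map_natCast, map_zero]; exact h0
    have h2 : ringChar K ∣ p := ringChar.dvd h1
    rcases (Nat.dvd_prime hprime).mp h2 with h3 | h3
    · exact CharP.ringChar_ne_one h3
    · exact hK (by rw [h3, ringChar.eq F p])
  -- the representation on `Fin d → AlgebraicClosure K`
  let e : SpecialLinearGroup F (Fin n → F) ≃* Matrix.SpecialLinearGroup (Fin n) F :=
    Matrix.SpecialLinearGroup.toLin'_equiv.symm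
  let R : SpecialLinearGroup F (Fin n → F) →*
      Module.End (AlgebraicClosure K) (Fin d → AlgebraicClosure K) :=
    { toFun := fun g => Matrix.toLin'
        (((ρ (e g) : GL (Fin d) K) : Matrix (Fin d) (Fin d) K).map
          (algebraMap K (AlgebraicClosure K)))
      map_one' := by
        rw [map_one, map_one, Units.val_one, Matrix.map_one _ (map_zero _) (map_one _),
          Matrix.toLin'_one]
        rfl
      map_mul' := fun g h => by
        rw [map_mul, map_mul, Units.val_mul, Matrix.map_mul, Matrix.toLin'_mul]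
        rfl }
  have hRker : ∀ g, R g = 1 → g ∈ Subgroup.center (SpecialLinearGroup F (Fin n → F)) := by
    intro g hg
    have h1 : Matrix.toLin' (((ρ (e g) : GL (Fin d) K) : Matrix (Fin d) (Fin d) K).map
        (algebraMap K (AlgebraicClosure K))) = Matrix.toLin' 1 := by
      rw [Matrix.toLin'_one]; exact hg
    have h2 := Matrix.toLin'.injective h1
    have h3 : ((ρ (e g) : GL (Fin d) K) : Matrix (Fin d) (Fin d) K) = 1 := by
      apply Matrix.map_injective (algebraMap K (AlgebraicClosure K)).injective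
      show ((ρ (e g) : GL (Fin d) K) : Matrix (Fin d) (Fin d) K).map
          (algebraMap K (AlgebraicClosure K)) =
        (1 : Matrix (Fin d) (Fin d) K).map (algebraMap K (AlgebraicClosure K))
      rw [h2, Matrix.map_one _ (map_zero _) (map_one _)]
    have h4 : ρ (e g) = 1 := Units.ext h3
    have h5 : e g ∈ Subgroup.center (Matrix.SpecialLinearGroup (Fin n) F) :=
      hker (MonoidHom.mem_ker.mpr h4)
    exact (MulEquivClass.apply_mem_center_iff e).mp h5
  have key := core (F := F) (V := Fin n → F) (K := AlgebraicClosure K)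
    (M := Fin d → AlgebraicClosure K) (by rw [Module.finrank_fin_fun]; exact hn) p hpK R hRker
  rw [Module.finrank_fin_fun, Module.finrank_fin_fun, hq] at key
  exact key

end Cfsg.Agent.S2392
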