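import Cfsg.Statements.S2393
import Cfsg.Agent.Lib.Helper81_JointEigen
import Cfsg.Agent.Lib.Helper81_AddCharDual
import Cfsg.Agent.S2392

set_option autoImplicit false
set_option linter.unusedSectionVars false
open scoped MatrixGroups
open Cfsg

namespace Cfsg.Agent.S2393


open Matrix Module
open Cfsg.Agent.Lib.Helper81_JointEigen Cfsg.Agent.Lib.Helper81_AddCharDual

/-! ### Elements of the symplectic group -/

section Elements

variable {F : Type*} [Field F] {n : ℕ}

/-- the Siegel unipotent matrix `[[1, S], [0, 1]]` -/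
def siegelMat (S : Matrix (Fin n) (Fin n) F) : Matrix (Fin n ⊕ Fin n) (Fin n ⊕ Fin n) F :=
  fromBlocks 1 S 0 1

theorem siegelMat_mem (S : Matrix (Fin n) (Fin n) F) (hS : Sᵀ = S) :
    siegelMat S ∈ Matrix.symplecticGroup (Fin n) F := by
  unfold siegelMat
  rw [SymplecticGroup.fromBlocks_mem_iff]
  simp [hS]

theorem siegelMat_add (S S' : Matrix (Fin n) (Fin n) F) :
    siegelMat (S + S') = siegelMat S * siegelMat S' := by
  unfold siegelMat
  rw [fromBlocks_multiply]
  simp [add_comm]

theorem siegelMat_zero : siegelMat (0 : Matrix (Fin n) (Fin n) F) = 1 := by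
  unfold siegelMat
  exact fromBlocks_one

/-- the Levi matrix `[[g, 0], [0, g'ᵀ]]` where `g'` is the inverse of `g` -/
def leviMat (g g' : Matrix (Fin n) (Fin n) F) : Matrix (Fin n ⊕ Fin n) (Fin n ⊕ Fin n) F :=
  fromBlocks g 0 0 g'ᵀ

theorem leviMat_mem (g g' : Matrix (Fin n) (Fin n) F) (h : g' * g = 1) :
    leviMat g g' ∈ Matrix.symplecticGroup (Fin n) F := by
  unfold leviMat
  rw [SymplecticGroup.fromBlocks_mem_iff]
  refine ⟨by simp, by simp, ?_⟩
  rw [← transpose_mul, h]
  simp

theorem siegel_mul_levi (g g' : Matrix (Fin n) (Fin n) F) (h : g * g' = 1)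
    (S : Matrix (Fin n) (Fin n) F) :
    siegelMat S * leviMat g g' = leviMat g g' * siegelMat (g' * S * g'ᵀ) := by
  unfold siegelMat leviMat
  rw [fromBlocks_multiply, fromBlocks_multiply]
  congr 1
  · simp
  · simp only [Matrix.zero_mul, zero_add, Matrix.mul_zero, add_zero]
    rw [← Matrix.mul_assoc, ← Matrix.mul_assoc, h, Matrix.one_mul]
  · simp
  · simp

end Elements


/-! ### The abelian root group and its normalising elements -/

section Root

variable {F : Type*} [Field F] {n : ℕ} (i0 : Fin n)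

/-- the basis vector `e₀` -/
def e0 : Fin n → F := Pi.single i0 1

/-- the symmetric matrix `s E₀₀ + e₀ wᵀ + w e₀ᵀ` -/
def symOf (i : F × (Fin n → F)) : Matrix (Fin n) (Fin n) F :=
  i.1 • vecMulVec (e0 i0) (e0 i0) + vecMulVec (e0 i0) i.2 + vecMulVec i.2 (e0 i0)

theorem symOf_transpose (i : F × (Fin n → F)) : (symOf i0 i)ᵀ = symOf i0 i := by
  unfold symOf
  rw [transpose_add, transpose_add, transpose_smul, transpose_vecMulVec, transpose_vecMulVec,
    transpose_vecMulVec]
  abel

theorem symOf_add (i j : F × (Fin n → F)) : symOf i0 (i + j) = symOf i0 i + symOf i0 j := by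
  unfold symOf
  rw [Prod.fst_add, Prod.snd_add, add_smul, vecMulVec_add, add_vecMulVec]
  abel

theorem symOf_zero : symOf i0 (0 : F × (Fin n → F)) = 0 := by
  unfold symOf
  simp

theorem symOf_smul (b : F) (i : F × (Fin n → F)) : symOf i0 (b • i) = b • symOf i0 i := by
  unfold symOf
  rw [Prod.smul_fst, Prod.smul_snd, smul_eq_mul, mul_smul, vecMulVec_smul, smul_vecMulVec,
    smul_add, smul_add]

/-- the root element -/
def tI (i : F × (Fin n → F)) : ↥(Matrix.symplecticGroup (Fin n) F) :=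
  ⟨siegelMat (symOf i0 i), siegelMat_mem _ (symOf_transpose i0 i)⟩

theorem tI_add (i j : F × (Fin n → F)) : tI i0 (i + j) = tI i0 i * tI i0 j := by
  apply Subtype.ext
  show siegelMat (symOf i0 (i + j)) = siegelMat (symOf i0 i) * siegelMat (symOf i0 j)
  rw [symOf_add, siegelMat_add]

theorem tI_zero : tI i0 (0 : F × (Fin n → F)) = 1 := by
  apply Subtype.ext
  show siegelMat (symOf i0 0) = 1
  rw [symOf_zero, siegelMat_zero]

theorem tI_pow (i : F × (Fin n → F)) (k : ℕ) : tI i0 i ^ k = tI i0 (k • i) := by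
  induction k with
  | zero => rw [pow_zero, zero_smul, tI_zero]
  | succ k ih => rw [pow_succ, ih, ← tI_add, succ_nsmul]

theorem tI_comm (i j : F × (Fin n → F)) : Commute (tI i0 i) (tI i0 j) := by
  show tI i0 i * tI i0 j = tI i0 j * tI i0 i
  rw [← tI_add, ← tI_add, add_comm]

/-- a Levi element -/
def hLevi (g g' : Matrix (Fin n) (Fin n) F) (h : g' * g = 1) :
    ↥(Matrix.symplecticGroup (Fin n) F) :=
  ⟨leviMat g g', leviMat_mem g g' h⟩

theorem tI_mul_hLevi (g g' : Matrix (Fin n) (Fin n) F) (h : g' * g = 1) (h' : g * g' = 1)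
    (i j : F × (Fin n → F)) (hij : g' * symOf i0 i * g'ᵀ = symOf i0 j) :
    tI i0 i * hLevi g g' h = hLevi g g' h * tI i0 j := by
  apply Subtype.ext
  show siegelMat (symOf i0 i) * leviMat g g' = leviMat g g' * siegelMat (symOf i0 j)
  rw [siegel_mul_levi g g' h', hij]

/-- the scalar Levi element -/
def hScal (a : F) (ha : a ≠ 0) : ↥(Matrix.symplecticGroup (Fin n) F) :=
  hLevi (a • (1 : Matrix (Fin n) (Fin n) F)) (a⁻¹ • 1) (by
    rw [smul_mul, Matrix.mul_smul, Matrix.one_mul, smul_smul, inv_mul_cancel₀ ha, one_smul])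

theorem tI_mul_hScal (a : F) (ha : a ≠ 0) (i : F × (Fin n → F)) :
    tI i0 i * hScal a ha = hScal a ha * tI i0 ((a⁻¹ * a⁻¹) • i) := by
  unfold hScal
  apply tI_mul_hLevi
  · rw [smul_mul, Matrix.mul_smul, Matrix.one_mul, smul_smul, mul_inv_cancel₀ ha, one_smul]
  · rw [symOf_smul, transpose_smul, transpose_one, smul_mul, Matrix.one_mul, Matrix.mul_smul,
      Matrix.mul_one, smul_smul]

/-- the unipotent Levi element -/
def hUni (c : Fin n → F) (hc : c ⬝ᵥ e0 i0 = 0) : ↥(Matrix.symplecticGroup (Fin n) F) :=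
  hLevi (1 + vecMulVec (e0 i0) c) (1 - vecMulVec (e0 i0) c) (by
    rw [sub_mul, mul_add, mul_add, Matrix.one_mul, Matrix.mul_one, Matrix.one_mul,
      vecMulVec_mul_vecMulVec, hc, zero_smul]
    simp)

theorem uni_mulVec (c : Fin n → F) (x : Fin n → F) :
    (1 - vecMulVec (e0 i0) c) *ᵥ x = x - (c ⬝ᵥ x) • e0 i0 := by
  rw [sub_mulVec, one_mulVec, vecMulVec_mulVec]
  congr 1
  funext k
  simp [mul_comm]

theorem conj_vecMulVec (M : Matrix (Fin n) (Fin n) F) (x y : Fin n → F) :
    M * vecMulVec x y * Mᵀ = vecMulVec (M *ᵥ x) (M *ᵥ y) := by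
  rw [mul_vecMulVec, vecMulVec_mul, vecMul_transpose]

theorem tI_mul_hUni (c : Fin n → F) (hc : c ⬝ᵥ e0 i0 = 0) (i : F × (Fin n → F)) :
    tI i0 i * hUni i0 c hc = hUni i0 c hc * tI i0 (i.1 - 2 * (c ⬝ᵥ i.2), i.2) := by
  unfold hUni
  apply tI_mul_hLevi
  · rw [mul_sub, add_mul, add_mul, Matrix.one_mul, Matrix.mul_one, Matrix.one_mul,
      vecMulVec_mul_vecMulVec, hc, zero_smul]
    simp
  · unfold symOf
    rw [Matrix.mul_add, Matrix.mul_add, Matrix.add_mul, Matrix.add_mul, Matrix.mul_smul, smul_mul,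
      conj_vecMulVec, conj_vecMulVec, conj_vecMulVec, uni_mulVec, uni_mulVec, hc, zero_smul,
      sub_zero]
    simp only [vecMulVec_sub, sub_vecMulVec, vecMulVec_smul, smul_vecMulVec, sub_smul]
    rw [mul_smul, two_smul]
    abel

end Root


/-! ### The core argument -/

section Core

variable {F : Type*} [Field F] {n : ℕ} (i0 : Fin n)

theorem tI_not_central : tI (F := F) i0 (1, 0) ∉
    Subgroup.center ↥(Matrix.symplecticGroup (Fin n) F) := by
  intro hc
  have h1 := Subgroup.mem_center_iff.mp hc (SymplecticGroup.symJ (Fin n) F)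
  have h2 : J (Fin n) F * siegelMat (symOf i0 ((1 : F), 0)) =
      siegelMat (symOf i0 ((1 : F), 0)) * J (Fin n) F := congrArg Subtype.val h1
  unfold siegelMat J at h2
  rw [fromBlocks_multiply, fromBlocks_multiply, fromBlocks_inj] at h2
  have h3 := h2.1
  simp only [Matrix.mul_zero, add_zero, Matrix.mul_one, zero_add] at h3
  have h4 := congrFun (congrFun h3 i0) i0
  unfold symOf e0 at h4
  simp [vecMulVec_apply] at h4

variable [Fintype F]

theorem two_ne_zero_of_odd (hodd : Odd (Fintype.card F)) : (2 : F) ≠ 0 := by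
  intro h2
  have h3 : ringChar F ∣ 2 := ringChar.dvd (by exact_mod_cast h2)
  have h4 : ringChar F = 2 := by
    rcases (Nat.dvd_prime Nat.prime_two).mp h3 with h | h
    · exact absurd h CharP.ringChar_ne_one
    · exact h
  have h5 := FiniteField.even_card_of_char_two h4
  rcases hodd with ⟨k, hk⟩
  omega

/-- the non-zero squares -/
noncomputable def sqs (F : Type*) [Field F] [Fintype F] : Finset F := by
  classical
  exact (Finset.univ.image (fun x : F => x * x)).erase 0

theorem mem_sqs {b : F} : b ∈ sqs F ↔ b ≠ 0 ∧ ∃ x : F, x * x = b := by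
  classical
  unfold sqs
  simp

theorem card_sqs : Fintype.card F ≤ 2 * (sqs F).card + 2 := by
  classical
  have h := FiniteField.card_image_polynomial_eval (R := F) (p := Polynomial.X ^ 2)
    (by rw [Polynomial.degree_X_pow]; norm_num)
  rw [Polynomial.natDegree_X_pow] at h
  have h2 : (Finset.univ.image (fun x : F => Polynomial.eval x (Polynomial.X ^ 2))) =
      Finset.univ.image (fun x : F => x * x) := by
    congr 1
    funext x
    simp [sq]
  rw [h2] at h
  have h3 := Finset.card_erase_add_one (s := Finset.univ.image (fun x : F => x * x)) (a := 0)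
    (Finset.mem_image.mpr ⟨0, Finset.mem_univ _, by simp⟩)
  unfold sqs
  omega

end Core


section Main

variable {F : Type*} [Field F] [Fintype F] {n : ℕ}
  {K : Type*} [Field K] [IsAlgClosed K] {M : Type*} [AddCommGroup M] [Module K M]
  [FiniteDimensional K M]

set_option maxHeartbeats 3200000 in
theorem core (hodd : Odd (Fintype.card F)) (hn : 2 ≤ n) (p : ℕ) [CharP F p] (hp : (p : K) ≠ 0)
    (R : ↥(Matrix.symplecticGroup (Fin n) F) →* Module.End K M)
    (hker : ∀ g, R g = 1 → g ∈ Subgroup.center ↥(Matrix.symplecticGroup (Fin n) F)) :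
    Fintype.card F ^ (n - 1) * (Fintype.card F - 1) / 2 ≤ finrank K M := by
  classical
  have i0 : Fin n := ⟨0, by omega⟩
  have h2F : (2 : F) ≠ 0 := two_ne_zero_of_odd hodd
  -- operators
  set A : F × (Fin n → F) → Module.End K M := fun i => R (tI i0 i) with hAdef
  have hA : ∀ i, A i ^ p = 1 := by
    intro i
    show R (tI i0 i) ^ p = 1
    rw [← map_pow, tI_pow]
    have : p • i = 0 := by
      rw [← Nat.cast_smul_eq_nsmul F, CharP.cast_eq_zero, zero_smul]
    rw [this, tI_zero, map_one]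
  have hcomm : ∀ i j, Commute (A i) (A j) := fun i j => (tI_comm i0 i j).map R
  have hAadd : ∀ i j, A (i + j) = A i * A j := fun i j => by
    show R (tI i0 (i + j)) = R (tI i0 i) * R (tI i0 j)
    rw [tI_add, map_mul]
  have hA0 : A 0 = 1 := by
    show R (tI i0 0) = 1
    rw [tI_zero, map_one]
  -- a weight non-trivial on the centre of the Heisenberg group
  obtain ⟨χ₀, hχ₀, s₀, hs₀⟩ : ∃ χ₀ : F × (Fin n → F) → K, jointEigenspace A χ₀ ≠ ⊥ ∧
      ∃ s : F, χ₀ (s, 0) ≠ 1 := by
    by_contra hcon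
    push Not at hcon
    have htop := iSup_jointEigenspace hp A hA hcomm
    have hone : A (1, 0) = 1 := by
      have hle : (⊤ : Submodule K M) ≤ LinearMap.ker (A (1, 0) - 1) := by
        rw [← htop]
        refine iSup_le fun χ => ?_
        by_cases h : jointEigenspace A χ = ⊥
        · rw [h]; exact bot_le
        · intro x hx
          rw [LinearMap.mem_ker, LinearMap.sub_apply,
            (mem_jointEigenspace A χ x).mp hx (1, 0), hcon χ h 1, one_smul]
          exact sub_self _
      refine LinearMap.ext fun x => ?_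
      have := hle (Submodule.mem_top : x ∈ ⊤)
      rw [LinearMap.mem_ker, LinearMap.sub_apply, sub_eq_zero] at this
      exact this
    exact tI_not_central i0 (hker _ hone)
  obtain ⟨x₀, hx₀mem, hx₀ne⟩ := Submodule.exists_mem_ne_zero_of_ne_bot hχ₀
  have hx₀ : ∀ i, A i x₀ = χ₀ i • x₀ := (mem_jointEigenspace A χ₀ x₀).mp hx₀mem
  have hχadd : ∀ i j, χ₀ (i + j) = χ₀ i * χ₀ j := by
    intro i j
    have h1 : χ₀ (i + j) • x₀ = (χ₀ i * χ₀ j) • x₀ := by
      rw [← hx₀ (i + j), hAadd, Module.End.mul_apply, hx₀ j, map_smul, hx₀ i, smul_smul,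
        mul_comm]
    exact smul_left_injective K hx₀ne h1
  have hχ0 : χ₀ 0 = 1 := by
    have h1 : χ₀ 0 • x₀ = (1 : K) • x₀ := by
      rw [← hx₀ 0, hA0, one_smul]; rfl
    exact smul_left_injective K hx₀ne h1
  have hχne : ∀ i, χ₀ i ≠ 0 := by
    intro i h0
    have h1 := hχadd i (-i)
    rw [add_neg_cancel, hχ0, h0, zero_mul] at h1
    exact one_ne_zero h1
  -- the additive character of `F`
  set ψ₀ : F → K := fun s => χ₀ (s, 0) with hψ₀
  have hψ0 : ψ₀ 0 = 1 := hχ0
  have hψadd : ∀ a b, ψ₀ (a + b) = ψ₀ a * ψ₀ b := fun a b => by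
    show χ₀ (a + b, 0) = χ₀ (a, 0) * χ₀ (b, 0)
    rw [← hχadd]
    congr 1
    simp
  have hψne : ∃ a, ψ₀ a ≠ 1 := ⟨s₀, hs₀⟩
  have hsplit : ∀ (s : F) (v : Fin n → F), χ₀ (s, v) = ψ₀ s * χ₀ (0, v) := fun s v => by
    show χ₀ (s, v) = χ₀ (s, 0) * χ₀ (0, v)
    rw [← hχadd]
    congr 1
    simp
  -- transport of weights
  have transport : ∀ (h : ↥(Matrix.symplecticGroup (Fin n) F))
      (σ : F × (Fin n → F) → F × (Fin n → F)) (χ : F × (Fin n → F) → K) (x : M),
      (∀ i, tI i0 i * h = h * tI i0 (σ i)) → x ∈ jointEigenspace A χ →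
      R h x ∈ jointEigenspace A (χ ∘ σ) := by
    intro h σ χ x hσ hx
    rw [mem_jointEigenspace] at hx ⊢
    intro i
    show R (tI i0 i) (R h x) = χ (σ i) • R h x
    rw [← Module.End.mul_apply, ← map_mul, hσ i, map_mul, Module.End.mul_apply]
    have := hx (σ i)
    show R h (A (σ i) x) = _
    rw [this, map_smul]
  have hRne : ∀ (h : ↥(Matrix.symplecticGroup (Fin n) F)) (x : M), x ≠ 0 → R h x ≠ 0 := by
    intro h x hx h0
    apply hx
    have h1 : R h⁻¹ (R h x) = x := by
      rw [← Module.End.mul_apply, ← map_mul, inv_mul_cancel, map_one]; rfl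
    rw [← h1, h0, map_zero]
  -- the subspace of vectors with zero `i0`-coordinate
  set C : Submodule F (Fin n → F) := LinearMap.ker (LinearMap.proj i0 : (Fin n → F) →ₗ[F] F)
    with hC
  have hCmem : ∀ c : C, c.1 ⬝ᵥ e0 i0 = 0 := by
    intro c
    have h1 : c.1 i0 = 0 := LinearMap.mem_ker.mp c.2
    unfold e0
    rw [dotProduct_single, h1, zero_mul]
  -- the family of weights
  let σ : {b : F // b ∈ sqs F} × C → F × (Fin n → F) → F × (Fin n → F) := fun y i =>
    ((y.1.1 • i).1 - 2 * (y.2.1 ⬝ᵥ (y.1.1 • i).2), (y.1.1 • i).2)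
  let w : {b : F // b ∈ sqs F} × C → F × (Fin n → F) → K := fun y => χ₀ ∘ σ y
  have hw1 : ∀ (y : {b : F // b ∈ sqs F} × C) (s : F), w y (s, 0) = ψ₀ (y.1.1 * s) := by
    intro y s
    show χ₀ ((y.1.1 • ((s, 0) : F × (Fin n → F))).1 -
      2 * (y.2.1 ⬝ᵥ (y.1.1 • ((s, 0) : F × (Fin n → F))).2),
      (y.1.1 • ((s, 0) : F × (Fin n → F))).2) = χ₀ (y.1.1 * s, 0)
    congr 1
    simp
  have hw2 : ∀ (y : {b : F // b ∈ sqs F} × C) (v : Fin n → F),
      w y (0, v) = ψ₀ (-2 * y.1.1 * (y.2.1 ⬝ᵥ v)) * χ₀ (0, y.1.1 • v) := by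
    intro y v
    rw [← hsplit]
    show χ₀ ((y.1.1 • ((0, v) : F × (Fin n → F))).1 -
      2 * (y.2.1 ⬝ᵥ (y.1.1 • ((0, v) : F × (Fin n → F))).2),
      (y.1.1 • ((0, v) : F × (Fin n → F))).2) = _
    congr 1
    simp only [Prod.smul_fst, Prod.smul_snd, smul_eq_mul, mul_zero, zero_sub, dotProduct_smul]
    congr 1
    ring
  have hw : Function.Injective w := by
    intro y y' h
    have hb : y.1.1 = y'.1.1 := by
      have hinj := pairing_injective (W := F) (W' := F) ψ₀ hψ0 hψadd hψne
        (LinearMap.mul F F) (fun b hb => ⟨1, by simpa using hb⟩)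
      apply hinj
      funext s
      show ψ₀ (s * y.1.1) = ψ₀ (s * y'.1.1)
      rw [mul_comm s, mul_comm s, ← hw1, ← hw1, h]
    have hc : y.2 = y'.2 := by
      have hβ : y.1.1 ≠ 0 := (mem_sqs.mp y.1.2).1
      let P : (Fin n → F) →ₗ[F] C →ₗ[F] F :=
        LinearMap.mk₂ F (fun v c => -2 * y.1.1 * (c.1 ⬝ᵥ v))
          (fun v v' c => by simp [dotProduct_add, mul_add])
          (fun a v c => by simp [dotProduct_smul]; ring)
          (fun v c c' => by simp [add_dotProduct, mul_add])
          (fun a v c => by simp [smul_dotProduct]; ring)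
      have hPne : ∀ c : C, c ≠ 0 → ∃ v : Fin n → F, P v c ≠ 0 := by
        intro c hc0
        have : ∃ j, c.1 j ≠ 0 := by
          by_contra hall
          push Not at hall
          exact hc0 (Subtype.ext (funext hall))
        obtain ⟨j, hj⟩ := this
        refine ⟨Pi.single j 1, ?_⟩
        show -2 * y.1.1 * (c.1 ⬝ᵥ Pi.single j 1) ≠ 0
        rw [dotProduct_single, mul_one]
        exact mul_ne_zero (mul_ne_zero (neg_ne_zero.mpr h2F) hβ) hj
      have hinj := pairing_injective (W := Fin n → F) (W' := C) ψ₀ hψ0 hψadd hψne P hPne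
      apply hinj
      funext v
      show ψ₀ (-2 * y.1.1 * (y.2.1 ⬝ᵥ v)) = ψ₀ (-2 * y.1.1 * (y'.2.1 ⬝ᵥ v))
      have h1 := hw2 y v
      have h2 := hw2 y' v
      rw [h, h2, ← hb] at h1
      exact (mul_right_cancel₀ (hχne _) h1).symm
    exact Prod.ext (Subtype.ext hb) hc
  have hne : ∀ y, jointEigenspace A (w y) ≠ ⊥ := by
    intro y
    obtain ⟨hβ0, r, hr⟩ := mem_sqs.mp y.1.2
    have hr0 : r ≠ 0 := by
      rintro rfl
      rw [mul_zero] at hr
      exact hβ0 hr.symm
    have hr0' : r⁻¹ ≠ 0 := inv_ne_zero hr0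
    -- first the unipotent element, then the scalar one
    have h1 := transport (hUni i0 y.2.1 (hCmem y.2))
      (fun i => (i.1 - 2 * (y.2.1 ⬝ᵥ i.2), i.2)) χ₀ x₀ (tI_mul_hUni i0 y.2.1 (hCmem y.2)) hx₀mem
    have h2 := transport (hScal r⁻¹ hr0')
      (fun i => ((r⁻¹)⁻¹ * (r⁻¹)⁻¹) • i) _ _ (tI_mul_hScal i0 r⁻¹ hr0') h1
    have h3 : (χ₀ ∘ fun i : F × (Fin n → F) => (i.1 - 2 * (y.2.1 ⬝ᵥ i.2), i.2)) ∘
        (fun i : F × (Fin n → F) => ((r⁻¹)⁻¹ * (r⁻¹)⁻¹) • i) = w y := by
      funext i
      rw [inv_inv, hr]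
      rfl
    rw [h3] at h2
    intro hbot
    rw [hbot] at h2
    exact hRne _ _ (hRne _ _ hx₀ne) ((Submodule.mem_bot K).mp h2)
  have key := card_le_finrank hp A hA hcomm w hw hne
  -- counting
  have hCcard : Fintype.card C = Fintype.card F ^ (n - 1) := by
    have hs : Function.Surjective (LinearMap.proj i0 : (Fin n → F) →ₗ[F] F) := fun a =>
      ⟨Pi.single i0 a, by simp⟩
    have hrank := Cfsg.Agent.S2392.finrank_ker_of_surjective
      (LinearMap.proj i0 : (Fin n → F) →ₗ[F] F) hs
    rw [Module.finrank_fin_fun] at hrank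
    rw [← Nat.card_eq_fintype_card, Module.natCard_eq_pow_finrank (K := F) (V := C), hrank,
      Nat.card_eq_fintype_card]
  rw [Fintype.card_prod, Fintype.card_coe, hCcard] at key
  have hsq := card_sqs (F := F)
  refine le_trans ?_ key
  apply Nat.div_le_of_le_mul
  have hq1 : Fintype.card F - 1 ≤ 2 * (sqs F).card := by
    rcases hodd with ⟨k, hk⟩
    omega
  calc Fintype.card F ^ (n - 1) * (Fintype.card F - 1)
      ≤ Fintype.card F ^ (n - 1) * (2 * (sqs F).card) := Nat.mul_le_mul_left _ hq1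
    _ = 2 * ((sqs F).card * Fintype.card F ^ (n - 1)) := by ring

end Main

/-- A lower bound for representations in cross characteristic: for `n ≥ 2` and a field `F` with `q` elements, `q` odd, every homomorphism from the symplectic group `Sp_{2n}(F)` to `GL_d(K)`, `K` a field of characteristic different from that of `F`, whose kernel is central has `d ≥ q^(n-1)(q-1)/2`. -/
theorem result {F : Type*} [Field F] [Fintype F] {q : ℕ} (hq : Fintype.card F = q) (hodd : Odd q) (n : ℕ) (hn : 2 ≤ n)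
    {K : Type*} [Field K] (hK : ringChar K ≠ ringChar F) {d : ℕ}
    (ρ : ↥(Matrix.symplecticGroup (Fin n) F) →* GL (Fin d) K) (hker : ρ.ker ≤ Subgroup.center ↥(Matrix.symplecticGroup (Fin n) F)) :
    q ^ (n - 1) * (q - 1) / 2 ≤ d := by
  classical
  obtain ⟨p, hpchar⟩ := CharP.exists F
  have := hpchar
  have hprime : p.Prime := CharP.char_is_prime F p
  have hpK : (p : AlgebraicClosure K) ≠ 0 := by
    intro h0
    have h1 : (p : K) = 0 := by
      apply (algebraMap K (AlgebraicClosure K)).injective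
      rw [map_natCast, map_zero]; exact h0
    have h2 : ringChar K ∣ p := ringChar.dvd h1
    rcases (Nat.dvd_prime hprime).mp h2 with h3 | h3
    · exact CharP.ringChar_ne_one h3
    · exact hK (by rw [h3, ringChar.eq F p])
  let R : ↥(Matrix.symplecticGroup (Fin n) F) →*
      Module.End (AlgebraicClosure K) (Fin d → AlgebraicClosure K) :=
    { toFun := fun g => Matrix.toLin'
        (((ρ g : GL (Fin d) K) : Matrix (Fin d) (Fin d) K).map
          (algebraMap K (AlgebraicClosure K)))
      map_one' := by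
        rw [map_one, Units.val_one, Matrix.map_one _ (map_zero _) (map_one _),
          Matrix.toLin'_one]
        rfl
      map_mul' := fun g h => by
        rw [map_mul, Units.val_mul, Matrix.map_mul, Matrix.toLin'_mul]
        rfl }
  have hRker : ∀ g, R g = 1 → g ∈ Subgroup.center ↥(Matrix.symplecticGroup (Fin n) F) := by
    intro g hg
    have h1 : Matrix.toLin' (((ρ g : GL (Fin d) K) : Matrix (Fin d) (Fin d) K).map
        (algebraMap K (AlgebraicClosure K))) = Matrix.toLin' 1 := by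
      rw [Matrix.toLin'_one]; exact hg
    have h2 := Matrix.toLin'.injective h1
    have h3 : ((ρ g : GL (Fin d) K) : Matrix (Fin d) (Fin d) K) = 1 := by
      apply Matrix.map_injective (algebraMap K (AlgebraicClosure K)).injective
      show ((ρ g : GL (Fin d) K) : Matrix (Fin d) (Fin d) K).map
          (algebraMap K (AlgebraicClosure K)) =
        (1 : Matrix (Fin d) (Fin d) K).map (algebraMap K (AlgebraicClosure K))
      rw [h2, Matrix.map_one _ (map_zero _) (map_one _)]
    have h4 : ρ g = 1 := Units.ext h3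
    exact hker (MonoidHom.mem_ker.mpr h4)
  have key := core (F := F) (n := n) (K := AlgebraicClosure K)
    (M := Fin d → AlgebraicClosure K) (by rw [hq]; exact hodd) hn p hpK R hRker
  rw [Module.finrank_fin_fun, hq] at key
  exact key

end Cfsg.Agent.S2393
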