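import Cfsg.Statements.S2394
import Cfsg.Agent.Lib.Helper5_SpOrder
import Cfsg.Agent.Lib.Helper99_Zsigmondy

set_option autoImplicit false
open scoped MatrixGroups
open Cfsg

namespace Cfsg.Agent.S2394

/-- A prime dividing `|GL_d(q)|` but not `q` divides some `q^j - 1` with `0 < j ≤ d`. -/
lemma exists_dvd_pow_sub_one {q d r : ℕ} (hr : r.Prime) (hrq : ¬ r ∣ q)
    (h : r ∣ ∏ i : Fin d, (q ^ d - q ^ (i : ℕ))) : ∃ j, 0 < j ∧ j ≤ d ∧ r ∣ q ^ j - 1 := by
  obtain ⟨i, -, hi⟩ := (Prime.dvd_finsetProd_iff hr.prime _).mp h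
  have hid : (i : ℕ) < d := i.2
  have h1 : q ^ d - q ^ (i : ℕ) = q ^ (i : ℕ) * (q ^ (d - i) - 1) := by
    rw [Nat.mul_sub, mul_one, ← pow_add]
    congr 2
    omega
  rw [h1] at hi
  rcases hr.dvd_mul.mp hi with h2 | h2
  · exact absurd (hr.dvd_of_dvd_pow h2) hrq
  · exact ⟨d - i, by omega, by omega, h2⟩

/-- The smallest degree of a faithful representation of the symplectic group `Sp_{2n}(q)` over its own field `F_q` is `2n`: every injective homomorphism from `Sp_{2n}(F)` to `GL_d(F)`, `F` the field with `q` elements, has `d ≥ 2n`. -/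
theorem result {F : Type*} [Field F] [Fintype F] (n : ℕ) {d : ℕ}
    (ρ : ↥(Matrix.symplecticGroup (Fin n) F) →* GL (Fin d) F) (hρ : Function.Injective ρ) : 2 * n ≤ d := by
  have hq : 2 ≤ Fintype.card F := Fintype.one_lt_card
  have hdvd := Subgroup.card_dvd_of_injective ρ hρ
  rw [Cfsg.Agent.Lib.Helper5_SpOrder.card_sp (F := F) (q := Fintype.card F) rfl n,
    Matrix.card_GL_field] at hdvd
  obtain ⟨q, hqdef⟩ : ∃ q, q = Fintype.card F := ⟨_, rfl⟩
  rw [← hqdef] at hdvd hq
  clear hqdef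
  by_contra hlt
  push Not at hlt
  have hn1 : 1 ≤ n := by omega
  have hGpos : 0 < ∏ i : Fin d, (q ^ d - q ^ (i : ℕ)) := by
    refine Finset.prod_pos fun i _ => ?_
    have : q ^ (i : ℕ) < q ^ d := Nat.pow_lt_pow_right (by omega) i.2
    omega
  -- the last factor of `|Sp|`
  have hfac : q ^ (2 * n) - 1 ∣ q ^ (n ^ 2) * ∏ i ∈ Finset.range n, (q ^ (2 * (i + 1)) - 1) := by
    refine Dvd.dvd.mul_left ?_ _
    have : q ^ (2 * n) - 1 = q ^ (2 * ((n - 1) + 1)) - 1 := by
      congr 2; omega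
    rw [this]
    exact Finset.dvd_prod_of_mem (fun i => q ^ (2 * (i + 1)) - 1) (Finset.mem_range.mpr (by omega))
  by_cases hex : (q = 2 ∧ 2 * n = 6) ∨ n = 1
  · rcases hex with ⟨hq2, hn3⟩ | hn
    · -- `Sp_6(2)` does not embed in `GL_d(2)`, `d ≤ 5`
      have hn3' : n = 3 := by omega
      rw [hq2, hn3'] at hdvd
      have hd5 : d ≤ 5 := by omega
      have hS : (2 : ℕ) ^ (3 ^ 2) * ∏ i ∈ Finset.range 3, (2 ^ (2 * (i + 1)) - 1) = 1451520 := by
        decide
      rw [hS] at hdvd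
      interval_cases d
      · revert hdvd; decide
      · revert hdvd; decide
      · revert hdvd; decide
      · revert hdvd; decide
      · revert hdvd; decide
      · revert hdvd; decide
    · -- `n = 1`
      subst hn
      have hle := Nat.le_of_dvd hGpos hdvd
      have hd1 : d ≤ 1 := by omega
      have hS : q ≤ q ^ (1 ^ 2) * ∏ i ∈ Finset.range 1, (q ^ (2 * (i + 1)) - 1) := by
        simp only [one_pow, pow_one, Finset.prod_range_one, zero_add, mul_one]
        have h4 : 4 ≤ q ^ 2 := by nlinarith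
        have h3 : 1 ≤ q ^ 2 - 1 := by omega
        exact Nat.le_mul_of_pos_right q h3
      interval_cases d
      · rw [Finset.univ_eq_empty, Finset.prod_empty] at hle
        omega
      · rw [Fin.prod_univ_one] at hle
        simp only [Fin.val_zero, pow_zero, pow_one] at hle
        omega
  · push Not at hex
    obtain ⟨hex1, hex2⟩ := hex
    obtain ⟨r, hr, hrdvd, hrppd⟩ := Cfsg.Agent.Lib.Helper99_Zsigmondy.zsigmondy q (2 * n) (by omega)
      (by omega) (fun h => hex1 h.1 h.2) (fun h => by omega)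
    have hrq : ¬ r ∣ q := by
      intro h
      have h1 : r ∣ q ^ (2 * n) := Dvd.dvd.trans h (dvd_pow_self q (by omega))
      have h2 : 1 ≤ q ^ (2 * n) := Nat.one_le_pow _ _ (by omega)
      have h3 : r ∣ 1 := by
        have := (Nat.dvd_sub_iff_right h2 h1).mp hrdvd
        exact this
      exact hr.one_lt.ne' (Nat.dvd_one.mp h3)
    obtain ⟨j, hj0, hjd, hj⟩ := exists_dvd_pow_sub_one hr hrq
      (Dvd.dvd.trans hrdvd (Dvd.dvd.trans hfac hdvd))
    exact hrppd j hj0 (by omega) hj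

end Cfsg.Agent.S2394
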