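import Mathlib
import Cfsg.Statements.S2395

set_option autoImplicit false
open Cfsg

namespace Cfsg.Agent.S2395

open Cfsg.Lie

section General

variable (D : ChevalleyDatum) (K : Type*) [Field K]

/-- image of a generator in the abelianization -/
noncomputable def gab (r : ℕ) (t : K) : Abelianization (D.SteinbergCover K) :=
  Abelianization.of (D.scGen K r t)

theorem gab_add {r : ℕ} (hr : r < D.nroots) (t₁ t₂ : K) :
    gab D K r t₁ * gab D K r t₂ = gab D K r (t₁ + t₂) := by
  have hmem : D.stX r t₁ * D.stX r t₂ * (D.stX r (t₁ + t₂))⁻¹ ∈ D.steinbergRelsAB K :=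
    Or.inl ⟨r, t₁, t₂, hr, rfl⟩
  have h1 := PresentedGroup.one_of_mem hmem
  rw [map_mul, map_mul, map_inv, mul_inv_eq_one] at h1
  unfold gab ChevalleyDatum.scGen
  rw [← map_mul, h1]

theorem gab_zero {r : ℕ} (hr : r < D.nroots) : gab D K r (0 : K) = 1 := by
  have := gab_add D K hr 0 0
  rw [add_zero] at this
  exact mul_eq_left.mp this

theorem gab_neg {r : ℕ} (hr : r < D.nroots) (t : K) : gab D K r (-t) = (gab D K r t)⁻¹ := by
  have := gab_add D K hr (-t) t
  rw [neg_add_cancel, gab_zero D K hr] at this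
  exact eq_inv_of_mul_eq_one_left this

theorem gab_sub {r : ℕ} (hr : r < D.nroots) (t u : K) :
    gab D K r (t - u) = gab D K r t * (gab D K r u)⁻¹ := by
  rw [sub_eq_add_neg, ← gab_add D K hr, gab_neg D K hr]

/-- relation (R2) in the abelianization -/
theorem gab_comm {r s : ℕ} (hr : r < D.nroots) (hs : s < D.nroots) (hsr : s ≠ r)
    (hsn : s ≠ D.neg r) (t u : K) :
    ((D.commTerms r s).map fun c =>
      gab D K c.1 ((c.2.1 : K) * (-t) ^ c.2.2.1 * u ^ c.2.2.2)).prod = 1 := by
  have hmem : (D.stX s u)⁻¹ * (D.stX r t)⁻¹ * D.stX s u * D.stX r t *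
      (D.stWord (D.commWord K r s t u))⁻¹ ∈ D.steinbergRelsAB K :=
    Or.inr ⟨r, s, t, u, hr, hs, hsr, hsn, rfl⟩
  have h1 := PresentedGroup.one_of_mem hmem
  have h2 := congrArg (Abelianization.of (G := D.SteinbergCover K)) h1
  simp only [map_one, map_mul, map_inv] at h2
  set a := Abelianization.of (PresentedGroup.mk (D.steinbergRelsAB K) (D.stX s u)) with ha
  set b := Abelianization.of (PresentedGroup.mk (D.steinbergRelsAB K) (D.stX r t)) with hb
  have h3 : a⁻¹ * b⁻¹ * a * b = 1 := by
    rw [mul_comm a⁻¹ b⁻¹, mul_assoc b⁻¹, inv_mul_cancel, mul_one, inv_mul_cancel]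
  rw [h3, one_mul, inv_eq_one] at h2
  rw [← h2]
  unfold ChevalleyDatum.stWord ChevalleyDatum.commWord
  rw [map_list_prod, map_list_prod, List.map_map, List.map_map, List.map_map]
  rfl

/-- root `k` is dead: all its generators are trivial in the abelianization -/
def Dead (k : ℕ) : Prop := ∀ t : K, gab D K k t = 1

/-- single-term rule -/
def rule1 (k r s : ℕ) : Bool :=
  decide (r < D.nroots) && decide (s < D.nroots) && decide (s ≠ r) && decide (s ≠ D.neg r) &&
    (decide (D.commTerms r s = [(k, 1, 1, 1)]) || decide (D.commTerms r s = [(k, -1, 1, 1)]))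

theorem dead_of_rule1 {k r s : ℕ} (h : rule1 D k r s = true) : Dead D K k := by
  unfold rule1 at h
  simp only [Bool.and_eq_true, Bool.or_eq_true, decide_eq_true_eq] at h
  obtain ⟨⟨⟨⟨hr, hs⟩, hsr⟩, hsn⟩, hc⟩ := h
  intro v
  rcases hc with hc | hc
  · have := gab_comm D K hr hs hsr hsn (-v) 1
    rw [hc] at this
    simpa using this
  · have := gab_comm D K hr hs hsr hsn v 1
    rw [hc] at this
    simpa using this

/-- two-term rule, the remaining terms being dead already -/
def rule3 (dead : List ℕ) (k r s : ℕ) : Bool :=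
  decide (r < D.nroots) && decide (s < D.nroots) && decide (s ≠ r) && decide (s ≠ D.neg r) &&
    match D.commTerms r s with
    | x :: y :: rest =>
      (decide (k = x.1) || decide (k = y.1)) && decide (x.1 < D.nroots) && decide (y.1 < D.nroots) &&
      (decide (x.2.1 = 1) || decide (x.2.1 = -1)) && decide (x.2.2 = (1, 1)) &&
      (decide (y.2.1 = 1) || decide (y.2.1 = -1)) && decide (y.2.2 = (2, 1)) &&
      rest.all (fun z => dead.contains z.1)
    | _ => false

theorem prod_dead (dead : List ℕ) (hdead : ∀ x ∈ dead, Dead D K x)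
    (rest : List (ℕ × ℤ × ℕ × ℕ)) (hrest : rest.all (fun z => dead.contains z.1) = true) (t u : K) :
    (rest.map fun c => gab D K c.1 ((c.2.1 : K) * (-t) ^ c.2.2.1 * u ^ c.2.2.2)).prod = 1 := by
  induction rest with
  | nil => simp
  | cons z rest ih =>
    rw [List.all_cons, Bool.and_eq_true] at hrest
    rw [List.map_cons, List.prod_cons, ih hrest.2, mul_one]
    have hz : z.1 ∈ dead := by
      have := hrest.1
      simpa using this
    exact hdead _ hz _

theorem dead_of_rule3 (hK : ∃ a : K, a ≠ 0 ∧ a ≠ 1) (dead : List ℕ)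
    (hdead : ∀ x ∈ dead, Dead D K x) {k r s : ℕ} (h : rule3 D dead k r s = true) : Dead D K k := by
  unfold rule3 at h
  rw [Bool.and_eq_true] at h
  obtain ⟨h0, h⟩ := h
  simp only [Bool.and_eq_true, decide_eq_true_eq] at h0
  obtain ⟨⟨⟨hr, hs⟩, hsr⟩, hsn⟩ := h0
  have hrel := gab_comm D K hr hs hsr hsn
  revert h hrel
  cases hct : D.commTerms r s with
  | nil => intro h; simp at h
  | cons x l =>
    cases l with
    | nil => intro h; simp at h
    | cons y rest =>
      intro h hrel
      simp only [Bool.and_eq_true, Bool.or_eq_true, decide_eq_true_eq] at h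
      obtain ⟨⟨⟨⟨⟨⟨⟨hk, hx⟩, hy⟩, hc1⟩, hx2⟩, hc2⟩, hy2⟩, hrest⟩ := h
      obtain ⟨a, ha0, ha1⟩ := hK
      -- the relation: g1(c1 * (-t) * u) * g2(c2 * t^2 * u) = 1
      have hrel' : ∀ t u : K, gab D K x.1 ((x.2.1 : K) * (-t) * u) *
          gab D K y.1 ((y.2.1 : K) * t ^ 2 * u) = 1 := by
        intro t u
        have := hrel t u
        rw [List.map_cons, List.map_cons, List.prod_cons, List.prod_cons,
          prod_dead D K dead hdead rest hrest, mul_one, hx2, hy2] at this
        simpa using this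
      have hc1' : (x.2.1 : K) ≠ 0 := by
        rcases hc1 with h | h <;> rw [h] <;> simp
      have hc2' : (y.2.1 : K) ≠ 0 := by
        rcases hc2 with h | h <;> rw [h] <;> simp
      -- second root is dead
      have hy_dead : Dead D K y.1 := by
        intro v
        have e1 := hrel' 1 (v * ((y.2.1 : K) * (a - 1))⁻¹)
        have e2 := hrel' a (v * ((y.2.1 : K) * (a - 1))⁻¹ * a⁻¹)
        have e3 : (x.2.1 : K) * (-a) * (v * ((y.2.1 : K) * (a - 1))⁻¹ * a⁻¹) =
            (x.2.1 : K) * (-1) * (v * ((y.2.1 : K) * (a - 1))⁻¹) := by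
          field_simp
        rw [e3] at e2
        have e4 : gab D K y.1 ((y.2.1 : K) * a ^ 2 * (v * ((y.2.1 : K) * (a - 1))⁻¹ * a⁻¹)) =
            gab D K y.1 ((y.2.1 : K) * 1 ^ 2 * (v * ((y.2.1 : K) * (a - 1))⁻¹)) := by
          have := e2.trans e1.symm
          exact mul_left_cancel this
        have e5 : (y.2.1 : K) * a ^ 2 * (v * ((y.2.1 : K) * (a - 1))⁻¹ * a⁻¹) -
            (y.2.1 : K) * 1 ^ 2 * (v * ((y.2.1 : K) * (a - 1))⁻¹) = v := by
          have : a - 1 ≠ 0 := sub_ne_zero.mpr ha1
          field_simp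
        rw [← e5, gab_sub D K hy, e4, mul_inv_cancel]
      have hx_dead : Dead D K x.1 := by
        intro v
        have e1 := hrel' 1 (-(v * (x.2.1 : K)⁻¹))
        rw [hy_dead, mul_one] at e1
        have e2 : (x.2.1 : K) * (-1) * (-(v * (x.2.1 : K)⁻¹)) = v := by
          field_simp
        rw [e2] at e1
        exact e1
      rcases hk with hk | hk
      · rw [hk]; exact hx_dead
      · rw [hk]; exact hy_dead

/-- everything is dead by the single-term rule -/
def check1 (w : List (ℕ × ℕ)) : Bool :=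
  (List.range D.nroots).all fun k => rule1 D k (w.getD k (0, 0)).1 (w.getD k (0, 0)).2

/-- the roots killed by the single-term rule -/
def dead1 (w : List (ℕ × ℕ)) : List ℕ :=
  (List.range D.nroots).filter fun k => rule1 D k (w.getD k (0, 0)).1 (w.getD k (0, 0)).2

/-- everything is dead by the single-term rule or, after that, by the two-term rule -/
def check3 (w : List (ℕ × ℕ)) : Bool :=
  (List.range D.nroots).all fun k =>
    rule1 D k (w.getD k (0, 0)).1 (w.getD k (0, 0)).2 ||
      rule3 D (dead1 D w) k (w.getD k (0, 0)).1 (w.getD k (0, 0)).2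

theorem dead_of_check1 (w : List (ℕ × ℕ)) (h : check1 D w = true) :
    ∀ k < D.nroots, Dead D K k := by
  intro k hk
  unfold check1 at h
  rw [List.all_eq_true] at h
  exact dead_of_rule1 D K (h k (List.mem_range.mpr hk))

theorem dead_of_check3 (hK : ∃ a : K, a ≠ 0 ∧ a ≠ 1) (w : List (ℕ × ℕ))
    (h : check3 D w = true) : ∀ k < D.nroots, Dead D K k := by
  intro k hk
  unfold check3 at h
  rw [List.all_eq_true] at h
  have h1 := h k (List.mem_range.mpr hk)
  rw [Bool.or_eq_true] at h1
  rcases h1 with h1 | h1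
  · exact dead_of_rule1 D K h1
  · refine dead_of_rule3 D K hK (dead1 D w) ?_ h1
    intro x hx
    unfold dead1 at hx
    rw [List.mem_filter] at hx
    exact dead_of_rule1 D K hx.2

theorem perfect_of_dead (h : ∀ k < D.nroots, Dead D K k) :
    commutator (D.SteinbergCover K) = ⊤ := by
  rw [eq_top_iff, ← PresentedGroup.closure_range_of, Subgroup.closure_le]
  rintro _ ⟨⟨r, t⟩, rfl⟩
  have h1 := h r.val r.isLt t
  unfold gab at h1
  rw [← Abelianization.ker_of]
  rw [SetLike.mem_coe, MonoidHom.mem_ker]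
  convert h1 using 2
  unfold ChevalleyDatum.scGen ChevalleyDatum.stX
  rw [dif_pos r.isLt]
  rfl

end General

/-- witness pairs for type G2 -/
def witG2 : List (ℕ × ℕ) :=
  [(1, 5), (0, 6), (3, 6), (2, 10), (2, 11), (0, 10), (1, 11), (2, 10), (2, 11), (3, 11), (5, 11),
    (6, 10)]

/-- witness pairs for type B2 -/
def witB2 : List (ℕ × ℕ) :=
  [(1, 4), (2, 3), (1, 4), (1, 7), (2, 7), (1, 7), (2, 7), (5, 4)]

/-- witness pairs for type D4 -/
def witD4 : List (ℕ × ℕ) :=
  [(1, 9), (0, 14), (0, 15), (0, 16), (0, 17), (1, 17), (0, 19), (0, 20), (0, 21), (0, 22), (1, 20),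
    (1, 21), (2, 22), (3, 22), (1, 23), (2, 23), (3, 23), (4, 23), (6, 22), (6, 23), (7, 23),
    (8, 23), (9, 23), (14, 22)]

/-- witness pairs for type F4 -/
def witF4 : List (ℕ × ℕ) :=
  [(1, 23), (0, 24), (0, 26), (7, 14), (0, 31), (0, 32), (1, 32), (3, 33), (3, 34), (3, 35), (3, 36),
    (3, 37), (3, 38), (3, 39), (3, 40), (0, 42), (0, 43), (1, 43), (7, 37), (7, 38), (7, 39),
    (0, 45), (1, 45), (0, 46), (1, 47), (2, 46), (2, 47), (8, 40), (9, 40), (10, 40), (4, 46),
    (4, 47), (5, 47), (7, 44), (8, 44), (9, 44), (10, 44), (11, 44), (12, 44), (13, 44), (14, 44),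
    (15, 46), (15, 47), (16, 47), (33, 40), (21, 47), (23, 47), (24, 46)]

/-- witness pairs for type E6 -/
def witE6 : List (ℕ × ℕ) :=
  [(1, 25), (0, 46), (0, 47), (0, 48), (0, 49), (0, 50), (0, 51), (0, 52), (0, 53), (0, 54), (0, 55),
    (1, 53), (1, 54), (1, 55), (2, 55), (5, 55), (0, 61), (0, 62), (0, 63), (0, 64), (0, 65),
    (0, 66), (0, 67), (0, 68), (0, 69), (0, 70), (1, 64), (1, 65), (1, 66), (2, 66), (1, 67),
    (1, 68), (1, 69), (2, 67), (2, 68), (3, 67), (4, 68), (3, 69), (4, 69), (2, 70), (3, 70),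
    (4, 70), (5, 69), (5, 70), (6, 70), (7, 70), (1, 71), (2, 71), (3, 71), (4, 71), (5, 71),
    (6, 71), (7, 71), (8, 71), (9, 71), (10, 71), (16, 66), (16, 69), (16, 70), (17, 70), (18, 70),
    (16, 71), (17, 71), (18, 71), (19, 71), (20, 71), (21, 71), (22, 71), (23, 71), (24, 71),
    (25, 71), (46, 70)]

/-- witness pairs for type E7 -/
def witE7 : List (ℕ × ℕ) :=
  [(1, 32), (0, 93), (0, 94), (0, 95), (0, 96), (0, 97), (0, 98), (0, 99), (0, 100), (0, 101),
    (0, 102), (0, 103), (0, 104), (0, 105), (0, 106), (0, 107), (0, 108), (0, 109), (0, 110),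
    (0, 111), (0, 112), (0, 113), (0, 114), (0, 115), (0, 116), (0, 117), (0, 118), (0, 119),
    (0, 120), (0, 121), (0, 122), (0, 123), (0, 124), (1, 109), (1, 110), (1, 111), (1, 112),
    (1, 113), (1, 114), (1, 115), (1, 116), (1, 117), (1, 118), (2, 115), (2, 116), (2, 117),
    (2, 118), (3, 118), (1, 119), (1, 120), (1, 121), (1, 122), (1, 123), (2, 119), (2, 120),
    (2, 121), (2, 122), (3, 119), (3, 120), (3, 121), (4, 119), (4, 120), (5, 119), (6, 120),
    (5, 121), (6, 121), (4, 122), (5, 122), (6, 122), (3, 123), (4, 123), (5, 123), (6, 123),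
    (2, 124), (3, 124), (4, 124), (5, 124), (6, 124), (7, 122), (7, 123), (8, 123), (9, 123),
    (10, 123), (7, 124), (8, 124), (9, 124), (10, 124), (11, 124), (12, 124), (13, 124), (14, 124),
    (15, 124), (16, 124), (1, 125), (2, 125), (3, 125), (4, 125), (5, 125), (6, 125), (7, 125),
    (8, 125), (9, 125), (10, 125), (11, 125), (12, 125), (13, 125), (14, 125), (15, 125),
    (16, 125), (17, 125), (18, 125), (19, 125), (20, 125), (21, 125), (22, 125), (23, 125),
    (24, 125), (25, 125), (26, 125), (27, 125), (28, 125), (29, 125), (30, 125), (31, 125),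
    (32, 125), (93, 124)]

/-- witness pairs for type E8 -/
def witE8 : List (ℕ × ℕ) :=
  [(1, 119), (0, 120), (0, 122), (0, 125), (0, 129), (0, 134), (0, 140), (0, 146), (0, 151),
    (0, 155), (0, 158), (0, 160), (0, 161), (1, 161), (0, 168), (0, 173), (0, 177), (0, 180),
    (0, 182), (0, 183), (1, 183), (0, 187), (0, 190), (0, 192), (0, 193), (1, 193), (0, 196),
    (0, 198), (0, 199), (1, 199), (0, 201), (0, 202), (1, 202), (0, 203), (1, 203), (2, 203),
    (0, 206), (0, 208), (0, 209), (1, 209), (0, 211), (0, 212), (1, 212), (0, 213), (1, 213),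
    (2, 213), (0, 215), (0, 216), (1, 216), (0, 217), (1, 217), (2, 217), (0, 218), (1, 218),
    (2, 218), (3, 218), (0, 220), (0, 221), (1, 221), (0, 222), (1, 222), (2, 222), (0, 223),
    (1, 223), (2, 223), (3, 223), (0, 224), (1, 224), (2, 224), (3, 224), (4, 224), (0, 225),
    (1, 225), (2, 225), (3, 225), (4, 225), (5, 225), (6, 225), (0, 227), (0, 228), (1, 228),
    (0, 229), (1, 229), (2, 229), (0, 230), (1, 230), (2, 230), (3, 230), (0, 231), (1, 231),
    (2, 231), (3, 231), (4, 231), (0, 232), (1, 232), (2, 232), (3, 232), (4, 232), (5, 232),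
    (0, 233), (1, 233), (2, 233), (3, 233), (4, 233), (5, 233), (0, 234), (1, 234), (2, 234),
    (3, 234), (4, 234), (0, 235), (1, 235), (2, 235), (3, 235), (0, 236), (1, 236), (2, 236),
    (0, 237), (1, 237), (0, 238), (1, 239), (2, 238), (2, 239), (3, 237), (3, 238), (3, 239),
    (4, 236), (4, 237), (4, 238), (4, 239), (5, 235), (5, 236), (5, 237), (5, 238), (5, 239),
    (6, 234), (6, 235), (6, 236), (6, 237), (6, 238), (6, 239), (7, 234), (7, 235), (7, 236),
    (7, 237), (7, 238), (7, 239), (8, 235), (8, 236), (8, 237), (8, 238), (8, 239), (9, 236),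
    (9, 237), (9, 238), (9, 239), (10, 237), (10, 238), (10, 239), (11, 238), (11, 239), (12, 239),
    (14, 233), (14, 234), (14, 235), (14, 236), (14, 237), (14, 238), (14, 239), (15, 235),
    (15, 236), (15, 237), (15, 238), (15, 239), (16, 236), (16, 237), (16, 238), (16, 239),
    (17, 237), (17, 238), (17, 239), (18, 238), (18, 239), (19, 239), (21, 236), (21, 237),
    (21, 238), (21, 239), (22, 237), (22, 238), (22, 239), (23, 238), (23, 239), (24, 239),
    (26, 237), (26, 238), (26, 239), (27, 238), (27, 239), (28, 239), (30, 238), (30, 239),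
    (31, 239), (33, 239), (36, 237), (36, 238), (36, 239), (37, 238), (37, 239), (38, 239),
    (40, 238), (40, 239), (41, 239), (43, 239), (46, 238), (46, 239), (47, 239), (49, 239),
    (52, 239), (56, 238), (56, 239), (57, 239), (59, 239), (62, 239), (66, 239), (71, 239),
    (78, 238), (78, 239), (79, 239), (81, 239), (84, 239), (88, 239), (93, 239), (99, 239),
    (105, 239), (110, 239), (114, 239), (117, 239), (119, 239), (120, 238)]

set_option maxRecDepth 100000 in
theorem checkD4 : check1 chevD4 witD4 = true := by decide +kernel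

set_option maxRecDepth 100000 in
theorem checkF4 : check1 chevF4 witF4 = true := by decide +kernel

set_option maxRecDepth 100000 in
theorem checkE6 : check1 chevE6 witE6 = true := by decide +kernel

set_option maxRecDepth 100000 in
theorem checkE7 : check1 chevE7 witE7 = true := by decide +kernel

set_option maxRecDepth 100000 in
theorem checkE8 : check1 chevE8 witE8 = true := by decide +kernel

set_option maxRecDepth 100000 in
theorem checkG2 : check3 chevG2 witG2 = true := by decide +kernel

set_option maxRecDepth 100000 in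
theorem checkB2 : check3 chevB2 witB2 = true := by decide +kernel

theorem result {K : Type*} [Field K] (D : Cfsg.Lie.ChevalleyDatum) (hD : D ∈ [Cfsg.Lie.chevG2, Cfsg.Lie.chevB2, Cfsg.Lie.chevD4, Cfsg.Lie.chevF4, Cfsg.Lie.chevE6, Cfsg.Lie.chevE7, Cfsg.Lie.chevE8]) (hK : D ∈ [Cfsg.Lie.chevB2, Cfsg.Lie.chevG2] → ∃ x : K, x ≠ 0 ∧ x ≠ 1) :
    commutator (D.SteinbergCover K) = ⊤ := by
  simp only [List.mem_cons, List.not_mem_nil, or_false] at hD
  rcases hD with rfl | rfl | rfl | rfl | rfl | rfl | rfl
  · exact perfect_of_dead _ K (dead_of_check3 _ K (hK (by simp)) witG2 checkG2)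
  · exact perfect_of_dead _ K (dead_of_check3 _ K (hK (by simp)) witB2 checkB2)
  · exact perfect_of_dead _ K (dead_of_check1 _ K witD4 checkD4)
  · exact perfect_of_dead _ K (dead_of_check1 _ K witF4 checkF4)
  · exact perfect_of_dead _ K (dead_of_check1 _ K witE6 checkE6)
  · exact perfect_of_dead _ K (dead_of_check1 _ K witE7 checkE7)
  · exact perfect_of_dead _ K (dead_of_check1 _ K witE8 checkE8)

end Cfsg.Agent.S2395
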