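import Cfsg.Statements.S2399
import Cfsg.Agent.S2395
import Cfsg.Agent.Lib.Helper72_S2399_Glue
import Cfsg.Agent.Lib.Helper35_SteinMain
import Cfsg.Agent.Lib.Helper35_SteinCertE6
import Cfsg.Agent.Lib.Helper35_SteinCertE7
import Cfsg.Agent.Lib.Helper35_SteinCertE8

set_option autoImplicit false
open scoped MatrixGroups
open Cfsg

namespace Cfsg.Agent.S2399

/-- Projective representations in the natural characteristic lift: for each of the types G₂, B₂, D₄, F₄, E₆, E₇, E₈ over any field `K` (for types B₂ and G₂ the field must have more than two elements — the cases where the Chevalley group is not simple are set aside), every homomorphism from the Chevalley group to `PGL_n(L) = GL_n(L)/Z`, `L` a field of the same characteristic as `K`, lifts uniquely to a homomorphism from the group Δ presented by (R1), (R2) to `GL_n(L)`, compatibly with the projection Δ → Chevalley group sending x̄_r(t) to x_r(t). -/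
theorem result {K : Type*} [Field K] (D : Cfsg.Lie.ChevalleyDatum) (hD : D ∈ [Cfsg.Lie.chevG2, Cfsg.Lie.chevB2, Cfsg.Lie.chevD4, Cfsg.Lie.chevF4, Cfsg.Lie.chevE6, Cfsg.Lie.chevE7, Cfsg.Lie.chevE8]) (hK : D ∈ [Cfsg.Lie.chevB2, Cfsg.Lie.chevG2] → ∃ x : K, x ≠ 0 ∧ x ≠ 1)
    (θ : D.SteinbergCover K →* ↥(D.group K))
    (hθ : ∀ (r : ℕ) (t : K), r < D.nroots → ((θ (D.scGen K r t) : GL D.Idx K) : Matrix D.Idx D.Idx K) = D.x K r t)
    {L : Type*} [Field L] (hL : ringChar L = ringChar K) {n : ℕ}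
    (φ : ↥(D.group K) →* GL (Fin n) L ⧸ Subgroup.center (GL (Fin n) L)) :
    ∃! ψ : D.SteinbergCover K →* GL (Fin n) L, (QuotientGroup.mk' (Subgroup.center (GL (Fin n) L))).comp ψ = φ.comp θ := by
  have hperf := Cfsg.Agent.S2395.result (K := K) D hD hK
  set π₁ := QuotientGroup.mk' (Subgroup.center (GL (Fin n) L)) with hπ₁
  have hπ₁s : Function.Surjective π₁ := QuotientGroup.mk'_surjective _
  have hπ₁c : π₁.ker ≤ Subgroup.center (GL (Fin n) L) := by rw [QuotientGroup.ker_mk']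
  have hex : ∃ ψ : D.SteinbergCover K →* GL (Fin n) L, π₁.comp ψ = φ.comp θ := by
    by_cases h5 : ∃ s : Finset K, 4 < s.card
    · obtain ⟨τ, hτ, -⟩ := Cfsg.Agent.Lib.Helper81_UceMain.exists_unique_lift D hD h5 π₁ hπ₁s hπ₁c (φ.comp θ)
      exact ⟨τ, hτ⟩
    · have hfin : Finite K := by
        by_contra hinf
        rw [not_finite_iff_infinite] at hinf
        obtain ⟨s, hs⟩ := Infinite.exists_subset_card_eq K 5
        exact h5 ⟨s, by omega⟩
      simp only [List.mem_cons, List.not_mem_nil, or_false] at hD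
      rcases hD with rfl | rfl | rfl | rfl | rfl | rfl | rfl
      · exact Cfsg.Agent.Lib.Helper72_S2399_Glue.exists_lift_finite Cfsg.Lie.chevG2 (by simp)
          Cfsg.Agent.Lib.Helper72_S2399_Main.pairCert_G2 hperf θ hθ hL φ
      · exact Cfsg.Agent.Lib.Helper72_S2399_Glue.exists_lift_finite Cfsg.Lie.chevB2 (by simp)
          Cfsg.Agent.Lib.Helper72_S2399_Main.pairCert_B2 hperf θ hθ hL φ
      · exact Cfsg.Agent.Lib.Helper72_S2399_Glue.exists_lift_finite Cfsg.Lie.chevD4 (by simp)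
          Cfsg.Agent.Lib.Helper72_S2399_Main.pairCert_D4 hperf θ hθ hL φ
      · exact Cfsg.Agent.Lib.Helper72_S2399_Glue.exists_lift_finite Cfsg.Lie.chevF4 (by simp)
          Cfsg.Agent.Lib.Helper72_S2399_Main.pairCert_F4 hperf θ hθ hL φ
      · exact Cfsg.Agent.Lib.Helper35_SteinMain.exists_lift Cfsg.Agent.Lib.Helper35_SteinCertE6.cert π₁ hπ₁s hπ₁c
          (φ.comp θ)
      · exact Cfsg.Agent.Lib.Helper35_SteinMain.exists_lift Cfsg.Agent.Lib.Helper35_SteinCertE7.cert π₁ hπ₁s hπ₁c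
          (φ.comp θ)
      · exact Cfsg.Agent.Lib.Helper35_SteinMain.exists_lift Cfsg.Agent.Lib.Helper35_SteinCertE8.cert π₁ hπ₁s hπ₁c
          (φ.comp θ)
  obtain ⟨ψ, hψ⟩ := hex
  exact ⟨ψ, hψ, fun ψ' hψ' =>
    Cfsg.Agent.Lib.Helper72_S2399_Glue.lift_unique_of_perfect hperf π₁ hπ₁c (hψ'.trans hψ.symm)⟩

end Cfsg.Agent.S2399
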