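import Cfsg.Statements.S2400
import Cfsg.Agent.Lib.Helper81_S2400_Glue
import Cfsg.Agent.Lib.Helper81_S2400_F4
import Cfsg.Agent.Lib.Helper81_Uce3C
import Cfsg.Agent.Lib.Helper81_Uce3F
import Cfsg.Agent.Lib.Helper35_SteinMain
import Cfsg.Agent.Lib.Helper35_SteinCertE6
import Cfsg.Agent.Lib.Helper35_SteinCertE7

set_option autoImplicit false
open Cfsg

namespace Cfsg.Agent.S2400

/-- Types B₂ and D₄ over a finite field with more than two elements: more than four elements by Steinberg's Theorem 10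
(`Helper81_UceMain`), four elements by `Helper81_S2400_F4`, three elements by `Helper81_Uce3C` (D₄) and
`Helper81_Uce3F` (B₂). -/
theorem b2d4 {K : Type*} [Field K] [Fintype K] (D : Cfsg.Lie.ChevalleyDatum)
    (hD : D = Cfsg.Lie.chevB2 ∨ D = Cfsg.Lie.chevD4) (hK : Fintype.card K ≠ 2) :
    Cfsg.HasCyclicSchurMultiplier (D.SteinbergGroup K) 1 := by
  have hmem : D ∈ [Cfsg.Lie.chevG2, Cfsg.Lie.chevB2, Cfsg.Lie.chevD4, Cfsg.Lie.chevF4, Cfsg.Lie.chevE6,
      Cfsg.Lie.chevE7, Cfsg.Lie.chevE8] := by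
    rcases hD with rfl | rfl <;> simp
  apply Cfsg.Agent.Lib.Helper81_S2400_Glue.multiplier_trivial_of_section D hmem
  intro E _ ψ hψ
  have h1 : 1 < Fintype.card K := Fintype.one_lt_card
  by_cases h5 : 4 < Fintype.card K
  · exact Cfsg.Agent.Lib.Helper81_UceMain.exists_section D hmem
      ⟨Finset.univ, by rw [Finset.card_univ]; exact h5⟩ ψ hψ
  · by_cases h4 : Fintype.card K = 4
    · obtain ⟨h2F, v, hv0, hv2⟩ := Cfsg.Agent.Lib.Helper81_S2400_F4.four_facts h4
      rcases hD with rfl | rfl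
      · exact Cfsg.Agent.Lib.Helper81_S2400_F4.exists_section_B2 h2F hv0 hv2 ψ hψ
      · exact Cfsg.Agent.Lib.Helper81_S2400_F4.exists_section_D4 hv0 hv2 ψ hψ
    · have h3 : Fintype.card K = 3 := by omega
      rcases hD with rfl | rfl
      · exact Cfsg.Agent.Lib.Helper81_Uce3F.exists_section_B2_three h3 ψ hψ
      · exact Cfsg.Agent.Lib.Helper81_Uce3C.exists_section_D4_three h3 ψ hψ

/-- Over a finite field `K`, the group presented by Steinberg's relators (R1)–(R3) (the universal Chevalley group) of type E₆ or E₇, or of type B₂ or D₄ with `K` of more than two elements, has trivial Schur multiplier: every finite stem extension of it is an isomorphism (Schur multiplier described through stem extensions as in the definitions). Types G₂, F₄ and E₈ are not covered here. -/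
theorem result {K : Type*} [Field K] [Fintype K] (e : Cfsg.Lie.ChevalleyDatum × ℕ)
    (he : e ∈ [(Cfsg.Lie.chevE6, 0), (Cfsg.Lie.chevE7, 0), (Cfsg.Lie.chevB2, 2), (Cfsg.Lie.chevD4, 2)]) (hK : Fintype.card K ≠ e.2) :
    Cfsg.HasCyclicSchurMultiplier (e.1.SteinbergGroup K) 1 := by
  simp only [List.mem_cons, List.not_mem_nil, or_false] at he
  rcases he with rfl | rfl | rfl | rfl
  · apply Cfsg.Agent.Lib.Helper81_S2400_Glue.multiplier_trivial_of_lift Cfsg.Lie.chevE6 (by simp)
    intro Γ _ σ hs hc σ'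
    exact Cfsg.Agent.Lib.Helper35_SteinMain.exists_lift Cfsg.Agent.Lib.Helper35_SteinCertE6.cert σ hs hc σ'
  · apply Cfsg.Agent.Lib.Helper81_S2400_Glue.multiplier_trivial_of_lift Cfsg.Lie.chevE7 (by simp)
    intro Γ _ σ hs hc σ'
    exact Cfsg.Agent.Lib.Helper35_SteinMain.exists_lift Cfsg.Agent.Lib.Helper35_SteinCertE7.cert σ hs hc σ'
  · exact b2d4 Cfsg.Lie.chevB2 (Or.inl rfl) hK
  · exact b2d4 Cfsg.Lie.chevD4 (Or.inr rfl) hK

end Cfsg.Agent.S2400
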