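import Mathlib
import Cfsg.Statements.S2403
import Cfsg.Agent.Lib.Helper5_SLGen

set_option autoImplicit false
open Cfsg

namespace Cfsg.Agent.S2403

open Matrix Matrix.SpecialLinearGroup

variable {K : Type*} [Field K] {n : ℕ}

/-- the sign attached to row `i` of the monomial matrix -/
def eta (K : Type*) [Field K] (n : ℕ) (i : Fin (n + 1)) : K := if i.val = n then (-1) ^ n else 1

theorem eta_mul_self (i : Fin (n + 1)) : eta K n i * eta K n i = 1 := by
  unfold eta
  split_ifs
  · rw [← mul_pow]; simp
  · simp

/-- the monomial matrix, as a plain matrix -/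
def wMat (K : Type*) [Field K] (n : ℕ) : Matrix (Fin (n + 1)) (Fin (n + 1)) K :=
  Matrix.of (fun i j => if j.val = i.val + 1 then 1 else if i.val = n ∧ j.val = 0 then (-1) ^ n else 0)

theorem wMat_apply (i j : Fin (n + 1)) :
    wMat K n i j = if j = i + 1 then eta K n i else 0 := by
  unfold wMat eta
  simp only [Matrix.of_apply]
  have hj := j.isLt
  have hi := i.isLt
  by_cases hin : i.val = n
  · have hil : i = Fin.last n := Fin.ext hin
    have h1 : ¬ j.val = i.val + 1 := by omega
    rw [if_neg h1]
    have h2 : (j = i + 1) ↔ j.val = 0 := by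
      rw [Fin.ext_iff, Fin.val_add_one, if_pos hil]
    by_cases hj0 : j.val = 0
    · rw [if_pos ⟨hin, hj0⟩, if_pos (h2.2 hj0), if_pos hin]
    · rw [if_neg (fun h => hj0 h.2), if_neg (fun h => hj0 (h2.1 h))]
  · have hil : i ≠ Fin.last n := fun h => hin (by rw [h]; rfl)
    have h2 : (j = i + 1) ↔ j.val = i.val + 1 := by
      rw [Fin.ext_iff, Fin.val_add_one, if_neg hil]
    by_cases hj1 : j.val = i.val + 1
    · rw [if_pos hj1, if_pos (h2.2 hj1), if_neg hin]
    · rw [if_neg hj1, if_neg (fun h => hin h.1), if_neg (fun h => hj1 (h2.1 h))]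

/-- the basic commutation rule between the monomial matrix and elementary matrices -/
theorem wMat_mul_single (a b : Fin (n + 1)) (t : K) :
    wMat K n * Matrix.single (a + 1) (b + 1) (t * eta K n a * eta K n b) =
      Matrix.single a b t * wMat K n := by
  ext i j
  by_cases hj : j = b + 1
  · subst hj
    rw [Matrix.mul_single_apply_same]
    by_cases hi : i = a
    · subst hi
      rw [Matrix.single_mul_apply_same, wMat_apply, wMat_apply, if_pos rfl, if_pos rfl]
      calc eta K n i * (t * eta K n i * eta K n b)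
          = (eta K n i * eta K n i) * (t * eta K n b) := by ring
        _ = t * eta K n b := by rw [eta_mul_self, one_mul]
    · rw [Matrix.single_mul_apply_of_ne (h := hi), wMat_apply]
      have : ¬ (a + 1 = i + 1) := fun h => hi (add_right_cancel h).symm
      rw [if_neg this, zero_mul]
  · rw [Matrix.mul_single_apply_of_ne (hbj := hj)]
    by_cases hi : i = a
    · subst hi
      rw [Matrix.single_mul_apply_same, wMat_apply, if_neg hj, mul_zero]
    · rw [Matrix.single_mul_apply_of_ne (h := hi)]

theorem add_one_ne {a b : Fin (n + 1)} (h : a ≠ b) : a + 1 ≠ b + 1 :=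
  fun h' => h (add_right_cancel h')

/-- conjugation by the monomial element shifts transvections -/
theorem w_mul_transvection (w : SpecialLinearGroup (Fin (n + 1)) K)
    (hw : (w : Matrix (Fin (n + 1)) (Fin (n + 1)) K) = wMat K n) {a b : Fin (n + 1)} (h : a ≠ b)
    (t : K) :
    w * transvection (add_one_ne h) (t * eta K n a * eta K n b) = transvection h t * w := by
  have h1 : ((w * transvection (add_one_ne h) (t * eta K n a * eta K n b) :
      SpecialLinearGroup (Fin (n + 1)) K) : Matrix (Fin (n + 1)) (Fin (n + 1)) K) =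
      ((transvection h t * w : SpecialLinearGroup (Fin (n + 1)) K) :
        Matrix (Fin (n + 1)) (Fin (n + 1)) K) := by
    simp only [Matrix.SpecialLinearGroup.coe_mul, Matrix.SpecialLinearGroup.transvection_coe]
    rw [hw, mul_add, add_mul, mul_one, one_mul, wMat_mul_single]
  exact Subtype.ext h1

/-- all transvections in position `(a, b)` lie in `H` -/
def Good (H : Subgroup (SpecialLinearGroup (Fin (n + 1)) K)) (a b : Fin (n + 1)) : Prop :=
  ∃ h : a ≠ b, ∀ t : K, transvection h t ∈ H

theorem good_shift_down (H : Subgroup (SpecialLinearGroup (Fin (n + 1)) K))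
    (w : SpecialLinearGroup (Fin (n + 1)) K)
    (hw : (w : Matrix (Fin (n + 1)) (Fin (n + 1)) K) = wMat K n) (hwH : w ∈ H)
    {a b : Fin (n + 1)} (hg : Good H (a + 1) (b + 1)) : Good H a b := by
  obtain ⟨h', hg⟩ := hg
  have h : a ≠ b := fun hab => h' (by rw [hab])
  refine ⟨h, fun t => ?_⟩
  have h1 := w_mul_transvection w hw h t
  have h2 : transvection h t = w * transvection (add_one_ne h) (t * eta K n a * eta K n b) * w⁻¹ := by
    rw [h1, mul_inv_cancel_right]
  rw [h2]
  exact H.mul_mem (H.mul_mem hwH (hg _)) (H.inv_mem hwH)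

theorem good_shift_up (H : Subgroup (SpecialLinearGroup (Fin (n + 1)) K))
    (w : SpecialLinearGroup (Fin (n + 1)) K)
    (hw : (w : Matrix (Fin (n + 1)) (Fin (n + 1)) K) = wMat K n) (hwH : w ∈ H)
    {a b : Fin (n + 1)} (hg : Good H a b) : Good H (a + 1) (b + 1) := by
  obtain ⟨h, hg⟩ := hg
  refine ⟨add_one_ne h, fun s => ?_⟩
  have h1 := w_mul_transvection w hw h (s * eta K n a * eta K n b)
  have h3 : s * eta K n a * eta K n b * eta K n a * eta K n b = s := by
    calc s * eta K n a * eta K n b * eta K n a * eta K n b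
        = s * (eta K n a * eta K n a) * (eta K n b * eta K n b) := by ring
      _ = s := by rw [eta_mul_self, eta_mul_self, mul_one, mul_one]
  rw [h3] at h1
  have h2 : transvection (add_one_ne h) s =
      w⁻¹ * transvection h (s * eta K n a * eta K n b) * w := by
    rw [mul_assoc, ← h1, inv_mul_cancel_left]
  rw [h2]
  exact H.mul_mem (H.mul_mem (H.inv_mem hwH) (hg _)) hwH

theorem good_shift_up_pow (H : Subgroup (SpecialLinearGroup (Fin (n + 1)) K))
    (w : SpecialLinearGroup (Fin (n + 1)) K)
    (hw : (w : Matrix (Fin (n + 1)) (Fin (n + 1)) K) = wMat K n) (hwH : w ∈ H)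
    {a b : Fin (n + 1)} (hg : Good H a b) (c : Fin (n + 1)) : Good H (a + c) (b + c) := by
  induction c using Fin.induction with
  | zero => simpa using hg
  | succ i ih =>
    have := good_shift_up H w hw hwH ih
    rw [add_assoc, add_assoc] at this
    rw [← Fin.coeSucc_eq_succ]
    exact this

theorem good_trans (H : Subgroup (SpecialLinearGroup (Fin (n + 1)) K))
    {a b c : Fin (n + 1)} (hab : Good H a b) (hbc : Good H b c) (hac : a ≠ c) : Good H a c := by
  obtain ⟨h1, hab⟩ := hab
  obtain ⟨h2, hbc⟩ := hbc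
  refine ⟨hac, fun t => ?_⟩
  have := Cfsg.Agent.Lib.Helper5_SLGen.commutator_transvection_transvection (F := K) hac h1 h2 t 1
  rw [mul_one] at this
  rw [← this]
  rw [commutatorElement_def]
  exact H.mul_mem (H.mul_mem (H.mul_mem (hab t) (hbc 1)) (H.inv_mem (hab t))) (H.inv_mem (hbc 1))

theorem natCast_surjective_of_card_le_three [Fintype K] (hK : Fintype.card K ≤ 3) (t : K) :
    ∃ m : ℕ, (m : K) = t := by
  obtain ⟨p, hp⟩ := CharP.exists K
  have := hp
  have : Fact p.Prime := ⟨CharP.char_is_prime K p⟩
  obtain ⟨k, -, hk⟩ := FiniteField.card K p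
  have hp2 : 2 ≤ p := (Fact.out : p.Prime).two_le
  have hk1 : (k : ℕ) = 1 := by
    by_contra hne
    have hk2 : 2 ≤ (k : ℕ) := by
      have := k.pos
      omega
    have : p ^ 2 ≤ p ^ (k : ℕ) := Nat.pow_le_pow_right (by omega) hk2
    have : 2 ^ 2 ≤ p ^ 2 := Nat.pow_le_pow_left hp2 2
    omega
  have hinj : Function.Injective (ZMod.castHom (dvd_refl p) K) := RingHom.injective _
  have hbij : Function.Bijective (ZMod.castHom (dvd_refl p) K) :=
    (Fintype.bijective_iff_injective_and_card _).2 ⟨hinj, by rw [ZMod.card, hk, hk1, pow_one]⟩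
  obtain ⟨z, rfl⟩ := hbij.2 t
  refine ⟨z.val, ?_⟩
  rw [← map_natCast (ZMod.castHom (dvd_refl p) K), ZMod.natCast_zmod_val]

theorem transvection_natCast {a b : Fin (n + 1)} (h : a ≠ b) (m : ℕ) :
    transvection h (m : K) = (transvection h (1 : K)) ^ m := by
  induction m with
  | zero => simp
  | succ m ih => rw [Nat.cast_succ, transvection_add, ih, pow_succ]

/-- If `H` contains the monomial element and all transvections in position `(0, 1)`, then `H = ⊤`. -/
theorem eq_top_of_good {K : Type*} [Field K] {m : ℕ}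
    (H : Subgroup (SpecialLinearGroup (Fin (m + 1 + 1)) K))
    (w : SpecialLinearGroup (Fin (m + 1 + 1)) K)
    (hw' : (w : Matrix (Fin (m + 1 + 1)) (Fin (m + 1 + 1)) K) = wMat K (m + 1)) (hwH : w ∈ H)
    (hbase : Good H (0 : Fin (m + 1 + 1)) 1) : H = ⊤ := by
  have h01 : (0 : Fin (m + 1 + 1)) ≠ 1 := hbase.1
  -- adjacent positions
  have hadj : ∀ a : Fin (m + 1 + 1), Good H a (a + 1) := by
    intro a
    have := good_shift_up_pow H w hw' hwH hbase a
    rwa [zero_add, add_comm 1 a] at this
  -- all positions at distance d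
  have hdist : ∀ (d : ℕ) (a c : Fin (m + 1 + 1)), c.val = d → a ≠ a + c → Good H a (a + c) := by
    intro d
    induction d with
    | zero =>
      intro a c hc hne
      have : c = 0 := Fin.ext hc
      rw [this, add_zero] at hne
      exact absurd rfl hne
    | succ d ih =>
      intro a c hc hne
      -- c = c' + 1 with c'.val = d
      have hclt := c.isLt
      let c' : Fin (m + 1 + 1) := ⟨d, by omega⟩
      have hcc : c = c' + 1 := by
        apply Fin.ext
        rw [Fin.val_add_one]
        have : c' ≠ Fin.last (m + 1) := by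
          intro h
          have := congrArg Fin.val h
          simp [c'] at this
          omega
        rw [if_neg this, hc]
      by_cases hac : a = a + c'
      · -- then a + c = a + 1
        rw [hcc, ← add_assoc, ← hac]
        exact hadj a
      · have h1 := ih a c' rfl hac
        have h2 := hadj (a + c')
        rw [hcc, ← add_assoc]
        rw [hcc, ← add_assoc] at hne
        exact good_trans H h1 h2 hne
  have hall : ∀ a b : Fin (m + 1 + 1), a ≠ b → Good H a b := by
    intro a b hab
    have := hdist (b - a).val a (b - a) rfl (by rwa [add_sub_cancel])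
    rwa [add_sub_cancel] at this
  rw [eq_top_iff]
  intro A _
  have : Nontrivial (Fin (m + 1 + 1)) := ⟨⟨0, 1, h01⟩⟩
  refine Cfsg.Agent.Lib.Helper5_SLGen.transvection_induction (fun g => g ∈ H) ?_ ?_ A
  · intro i j hij c
    obtain ⟨_, hg⟩ := hall i j hij
    exact hg c
  · intro A B hA hB
    exact H.mul_mem hA hB

theorem result {K : Type*} [Field K] [Fintype K] (hK : Fintype.card K ≤ 3) (n : ℕ) (hn : 1 ≤ n)
    (x w : Matrix.SpecialLinearGroup (Fin (n + 1)) K)
    (hx : (x : Matrix (Fin (n + 1)) (Fin (n + 1)) K) = Matrix.transvection (0 : Fin (n + 1)) (1 : Fin (n + 1)) 1)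
    (hw : (w : Matrix (Fin (n + 1)) (Fin (n + 1)) K) =
      Matrix.of (fun i j => if j.val = i.val + 1 then 1 else if i.val = n ∧ j.val = 0 then (-1) ^ n else 0)) :
    Subgroup.closure ({x, w} : Set (Matrix.SpecialLinearGroup (Fin (n + 1)) K)) ⊔
      Subgroup.center (Matrix.SpecialLinearGroup (Fin (n + 1)) K) = ⊤ := by
  set H := Subgroup.closure ({x, w} : Set (Matrix.SpecialLinearGroup (Fin (n + 1)) K)) with hH
  have hxH : x ∈ H := Subgroup.subset_closure (by simp)
  have hwH : w ∈ H := Subgroup.subset_closure (by simp)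
  have hw' : (w : Matrix (Fin (n + 1)) (Fin (n + 1)) K) = wMat K n := hw
  obtain ⟨m, rfl⟩ : ∃ m, n = m + 1 := Nat.exists_eq_succ_of_ne_zero (by omega)
  have h01 : (0 : Fin (m + 1 + 1)) ≠ 1 := by
    intro h
    have := congrArg Fin.val h
    simp at this
  -- base: position (0, 1)
  have hbase : Good H (0 : Fin (m + 1 + 1)) 1 := by
    refine ⟨h01, fun t => ?_⟩
    obtain ⟨k, rfl⟩ := natCast_surjective_of_card_le_three hK t
    rw [transvection_natCast]
    have : transvection h01 (1 : K) = x := Subtype.ext hx.symm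
    rw [this]
    exact H.pow_mem hxH k
  rw [eq_top_of_good H w hw' hwH hbase, top_sup_eq]

end Cfsg.Agent.S2403
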