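import Mathlib
import Cfsg.Statements.S2402
import Cfsg.Agent.S2403

set_option autoImplicit false
open Cfsg

namespace Cfsg.Agent.S2402

open Matrix Matrix.SpecialLinearGroup Cfsg.Agent.S2403

variable {K : Type*} [Field K] {n : ℕ}

/-- a diagonal element of `SL` normalises the transvection subgroups -/
theorem diag_mul_transvection (g : SpecialLinearGroup (Fin (n + 1)) K) (d : Fin (n + 1) → K)
    (hg : (g : Matrix (Fin (n + 1)) (Fin (n + 1)) K) = Matrix.diagonal d) (hd : ∀ i, d i ≠ 0)
    {a b : Fin (n + 1)} (hab : a ≠ b) (t : K) :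
    g * transvection hab t = transvection hab (d a * t * (d b)⁻¹) * g := by
  have h1 : ((g * transvection hab t : SpecialLinearGroup (Fin (n + 1)) K) :
      Matrix (Fin (n + 1)) (Fin (n + 1)) K) =
      ((transvection hab (d a * t * (d b)⁻¹) * g : SpecialLinearGroup (Fin (n + 1)) K) :
        Matrix (Fin (n + 1)) (Fin (n + 1)) K) := by
    simp only [Matrix.SpecialLinearGroup.coe_mul, Matrix.SpecialLinearGroup.transvection_coe]
    rw [hg, mul_add, add_mul, mul_one, one_mul]
    congr 1
    ext i j
    rw [Matrix.diagonal_mul, Matrix.mul_diagonal]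
    by_cases hi : i = a
    · by_cases hj : j = b
      · subst hi hj
        rw [Matrix.single_apply_same, Matrix.single_apply_same]
        field_simp [hd j]
      · rw [Matrix.single_apply_of_ne, Matrix.single_apply_of_ne, mul_zero, zero_mul]
        · exact fun h => hj h.2.symm
        · exact fun h => hj h.2.symm
    · rw [Matrix.single_apply_of_ne, Matrix.single_apply_of_ne, mul_zero, zero_mul]
      · exact fun h => hi h.1.symm
      · exact fun h => hi h.1.symm
  exact Subtype.ext h1

/-- the monomial matrix shifts diagonal matrices -/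
theorem wMat_mul_diagonal (d : Fin (n + 1) → K) :
    wMat K n * Matrix.diagonal d = Matrix.diagonal (fun i => d (i + 1)) * wMat K n := by
  ext i j
  rw [Matrix.mul_diagonal, Matrix.diagonal_mul, wMat_apply]
  by_cases hj : j = i + 1
  · rw [if_pos hj, hj, mul_comm]
  · rw [if_neg hj, zero_mul, mul_zero]

theorem coe_conj_diagonal (w g : SpecialLinearGroup (Fin (n + 1)) K) (d : Fin (n + 1) → K)
    (hw : (w : Matrix (Fin (n + 1)) (Fin (n + 1)) K) = wMat K n)
    (hg : (g : Matrix (Fin (n + 1)) (Fin (n + 1)) K) = Matrix.diagonal d) :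
    ((w * g * w⁻¹ : SpecialLinearGroup (Fin (n + 1)) K) : Matrix (Fin (n + 1)) (Fin (n + 1)) K) =
      Matrix.diagonal (fun i => d (i + 1)) := by
  have h1 : ((w * g * w⁻¹ : SpecialLinearGroup (Fin (n + 1)) K) :
      Matrix (Fin (n + 1)) (Fin (n + 1)) K) =
      (w : Matrix (Fin (n + 1)) (Fin (n + 1)) K) * (g : Matrix (Fin (n + 1)) (Fin (n + 1)) K) *
        ((w⁻¹ : SpecialLinearGroup (Fin (n + 1)) K) : Matrix (Fin (n + 1)) (Fin (n + 1)) K) := by
    simp only [Matrix.SpecialLinearGroup.coe_mul]
  rw [h1, hw, hg, wMat_mul_diagonal, Matrix.mul_assoc, ← hw]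
  have h2 : (w : Matrix (Fin (n + 1)) (Fin (n + 1)) K) *
      ((w⁻¹ : SpecialLinearGroup (Fin (n + 1)) K) : Matrix (Fin (n + 1)) (Fin (n + 1)) K) = 1 := by
    have := congrArg (fun u : SpecialLinearGroup (Fin (n + 1)) K =>
      (u : Matrix (Fin (n + 1)) (Fin (n + 1)) K)) (mul_inv_cancel w)
    simpa only [Matrix.SpecialLinearGroup.coe_mul, Matrix.SpecialLinearGroup.coe_one] using this
  rw [h2, mul_one]

/-- an additive subgroup of a finite field containing `1` and closed under multiplication by the
square of a generator of the multiplicative group is everything -/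
theorem addSubgroup_eq_top [Fintype K] (k : Kˣ) (hk : ∀ u : Kˣ, u ∈ Subgroup.zpowers k)
    (B : AddSubgroup K) (h1 : (1 : K) ∈ B) (hmul : ∀ s ∈ B, (k : K) ^ 2 * s ∈ B) : B = ⊤ := by
  classical
  -- all powers of k^2 lie in B
  have hnat : ∀ m : ℕ, (((k ^ 2) ^ m : Kˣ) : K) ∈ B := by
    intro m
    induction m with
    | zero => simpa using h1
    | succ m ih =>
      rw [pow_succ', Units.val_mul]
      have := hmul _ ih
      simpa using this
  have hpow : ∀ u ∈ Subgroup.zpowers (k ^ 2), ((u : Kˣ) : K) ∈ B := by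
    intro u hu
    rw [← mem_powers_iff_mem_zpowers, Submonoid.mem_powers_iff] at hu
    obtain ⟨m, rfl⟩ := hu
    exact hnat m
  -- counting
  have hinj : Function.Injective (fun o : Option (Subgroup.zpowers (k ^ 2)) =>
      (match o with
        | none => (⟨0, B.zero_mem⟩ : B)
        | some u => ⟨((u : Kˣ) : K), hpow u u.2⟩)) := by
    intro o₁ o₂ h
    rcases o₁ with _ | u₁ <;> rcases o₂ with _ | u₂
    · rfl
    · exfalso
      have := congrArg Subtype.val h
      simp only at this
      exact (Units.ne_zero (u₂ : Kˣ)) this.symm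
    · exfalso
      have := congrArg Subtype.val h
      simp only at this
      exact (Units.ne_zero (u₁ : Kˣ)) this
    · have := congrArg Subtype.val h
      simp only at this
      have h2 : (u₁ : Kˣ) = u₂ := Units.ext this
      rw [Subtype.ext h2]
  have hcard1 := Nat.card_le_card_of_injective _ hinj
  rw [Nat.card_eq_fintype_card (α := Option _), Fintype.card_option, ← Nat.card_eq_fintype_card,
    Nat.card_zpowers] at hcard1
  -- orderOf (k ^ 2)
  have hordk : orderOf k = Fintype.card K - 1 := by
    rw [orderOf_eq_card_of_forall_mem_zpowers hk, Nat.card_eq_fintype_card, Fintype.card_units]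
  have hord2 : orderOf (k ^ 2) * Nat.gcd (orderOf k) 2 = orderOf k := by
    rw [orderOf_pow' k (by norm_num : (2 : ℕ) ≠ 0)]
    exact Nat.div_mul_cancel (Nat.gcd_dvd_left _ _)
  have hg : Nat.gcd (orderOf k) 2 = 1 ∨ Nat.gcd (orderOf k) 2 = 2 := by
    have h1 : Nat.gcd (orderOf k) 2 ∣ 2 := Nat.gcd_dvd_right _ _
    have h2 := Nat.le_of_dvd (by norm_num) h1
    have h3 : Nat.gcd (orderOf k) 2 ≠ 0 := by
      intro h0
      rw [h0] at h1
      simp at h1
    omega
  have hq : 2 ≤ Fintype.card K := Fintype.one_lt_card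
  have hBq : Nat.card B ∣ Fintype.card K := by
    have := AddSubgroup.card_addSubgroup_dvd_card B
    rwa [Nat.card_eq_fintype_card (α := K)] at this
  have hlarge : Fintype.card K < 2 * Nat.card B := by
    rcases hg with hg | hg
    · rw [hg, mul_one] at hord2
      omega
    · rw [hg] at hord2
      omega
  obtain ⟨c, hc⟩ := hBq
  have hc1 : c = 1 := by
    rcases Nat.lt_or_ge c 2 with h | h
    · rcases Nat.eq_zero_or_pos c with h0 | h0
      · rw [h0, mul_zero] at hc
        omega
      · omega
    · exfalso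
      have : Nat.card B * 2 ≤ Nat.card B * c := Nat.mul_le_mul_left _ h
      omega
  rw [hc1, mul_one] at hc
  rw [← AddSubgroup.card_eq_iff_eq_top, ← hc, Nat.card_eq_fintype_card]

theorem result {K : Type*} [Field K] [Fintype K] (hK : 3 < Fintype.card K) (n : ℕ) (hn : 1 ≤ n)
    (k : Kˣ) (hk : ∀ u : Kˣ, u ∈ Subgroup.zpowers k)
    (h x w : Matrix.SpecialLinearGroup (Fin (n + 1)) K)
    (hh : (h : Matrix (Fin (n + 1)) (Fin (n + 1)) K) =
      Matrix.diagonal (fun i => if i.val = 0 then (k : K) else if i.val = 1 then ((k⁻¹ : Kˣ) : K) else 1))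
    (hx : (x : Matrix (Fin (n + 1)) (Fin (n + 1)) K) = Matrix.transvection (0 : Fin (n + 1)) (1 : Fin (n + 1)) 1)
    (hw : (w : Matrix (Fin (n + 1)) (Fin (n + 1)) K) =
      Matrix.of (fun i j => if j.val = i.val + 1 then 1 else if i.val = n ∧ j.val = 0 then (-1) ^ n else 0)) :
    Subgroup.closure ({h, x * w} : Set (Matrix.SpecialLinearGroup (Fin (n + 1)) K)) ⊔
      Subgroup.center (Matrix.SpecialLinearGroup (Fin (n + 1)) K) = ⊤ := by
  classical
  set G1 := Subgroup.closure ({h, x * w} : Set (Matrix.SpecialLinearGroup (Fin (n + 1)) K)) with hG1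
  have hhG : h ∈ G1 := Subgroup.subset_closure (by simp)
  have hyG : x * w ∈ G1 := Subgroup.subset_closure (by simp)
  have hw' : (w : Matrix (Fin (n + 1)) (Fin (n + 1)) K) = wMat K n := hw
  obtain ⟨m, rfl⟩ : ∃ m, n = m + 1 := Nat.exists_eq_succ_of_ne_zero (by omega)
  have h01 : (0 : Fin (m + 1 + 1)) ≠ 1 := by
    intro h
    have := congrArg Fin.val h
    simp at this
  have hxT : x = transvection h01 (1 : K) := Subtype.ext hx
  -- the diagonal entries
  set d : Fin (m + 1 + 1) → K :=
    fun i => if i.val = 0 then (k : K) else if i.val = 1 then ((k⁻¹ : Kˣ) : K) else 1 with hd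
  have hdne : ∀ i, d i ≠ 0 := by
    intro i
    simp only [hd]
    split_ifs
    · exact Units.ne_zero k
    · exact Units.ne_zero _
    · exact one_ne_zero
  have hd0 : d 0 = (k : K) := by simp [hd]
  have hd1 : d 1 = ((k⁻¹ : Kˣ) : K) := by
    simp only [hd]
    rw [if_neg, if_pos]
    · simp
    · simp
  -- order facts
  have hordk : orderOf k = Fintype.card K - 1 := by
    rw [orderOf_eq_card_of_forall_mem_zpowers hk, Nat.card_eq_fintype_card, Fintype.card_units]
  have hk1 : (k : K) ≠ 1 := by
    intro h1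
    have : k = 1 := Units.ext h1
    rw [this, orderOf_one] at hordk
    omega
  have hk2 : (k : K) ^ 2 ≠ 1 := by
    intro h1
    have : k ^ 2 = 1 := Units.ext (by simpa using h1)
    have := orderOf_dvd_of_pow_eq_one this
    have := Nat.le_of_dvd (by norm_num) this
    omega
  have hkne : (k : K) ≠ 0 := Units.ne_zero k
  have hkinv : ((k⁻¹ : Kˣ) : K) = (k : K)⁻¹ := by simp
  -- the conjugate diagonal element
  set h' := w * h * w⁻¹ with hh'
  have hh'coe : (h' : Matrix (Fin (m + 1 + 1)) (Fin (m + 1 + 1)) K) =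
      Matrix.diagonal (fun i => d (i + 1)) := coe_conj_diagonal w h d hw' hh
  have hd'ne : ∀ i, (fun i => d (i + 1)) i ≠ 0 := fun i => hdne _
  -- e = d (1 + 1) is 1 or k
  have he : d (1 + 1) = 1 ∨ d (1 + 1) = (k : K) := by
    simp only [hd]
    by_cases hm : m = 0
    · subst hm
      right
      have : ((1 : Fin 2) + 1).val = 0 := by decide
      rw [if_pos this]
    · left
      have h2 : ((1 : Fin (m + 1 + 1)) + 1).val = 2 := by
        rw [Fin.val_add_one]
        have : (1 : Fin (m + 1 + 1)) ≠ Fin.last (m + 1) := by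
          intro h
          have := congrArg Fin.val h
          simp at this
          omega
        rw [if_neg this]
        simp
      rw [if_neg (by omega), if_neg (by omega)]
  -- r = d' 1 / d' 0
  set r : K := d (1 + 1) * (d (0 + 1))⁻¹ with hr
  have hr1 : r ≠ 1 := by
    rw [hr, zero_add, hd1, hkinv, inv_inv]
    rcases he with he | he
    · rw [he, one_mul]; exact hk1
    · rw [he, ← pow_two]; exact hk2
  -- x * h' = h' * T(r)
  have e1 : h' * transvection h01 r = x * h' := by
    have := diag_mul_transvection h' (fun i => d (i + 1)) hh'coe hd'ne h01 r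
    rw [this, hxT]
    congr 2
    simp only [hr]
    have h1 := hdne (1 + 1)
    have h2 := hdne (0 + 1)
    field_simp
  -- h1 = (x w) h (x w)⁻¹ = h' * T(r - 1)
  have e2 : (x * w) * h * (x * w)⁻¹ = h' * transvection h01 (r - 1) := by
    have : (x * w) * h * (x * w)⁻¹ = x * h' * x⁻¹ := by
      rw [hh']; group
    rw [this, ← e1, hxT, transvection_inv, mul_assoc, ← transvection_add, sub_eq_add_neg]
  have hh1G : h' * transvection h01 (r - 1) ∈ G1 := by
    rw [← e2]
    exact G1.mul_mem (G1.mul_mem hyG hhG) (G1.inv_mem hyG)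
  -- h h1 h⁻¹ = h' * T(k^2 (r - 1))
  have hcomm : h * h' = h' * h := by
    have h1 : ((h * h' : SpecialLinearGroup (Fin (m + 1 + 1)) K) :
        Matrix (Fin (m + 1 + 1)) (Fin (m + 1 + 1)) K) =
        ((h' * h : SpecialLinearGroup (Fin (m + 1 + 1)) K) :
          Matrix (Fin (m + 1 + 1)) (Fin (m + 1 + 1)) K) := by
      simp only [Matrix.SpecialLinearGroup.coe_mul]
      rw [hh, hh'coe, Matrix.diagonal_mul_diagonal, Matrix.diagonal_mul_diagonal]
      congr 1
      ext i
      exact mul_comm _ _
    exact Subtype.ext h1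
  have e3 : ∀ t : K, h * transvection h01 t * h⁻¹ = transvection h01 ((k : K) ^ 2 * t) := by
    intro t
    rw [diag_mul_transvection h d hh hdne h01 t, mul_inv_cancel_right, hd0, hd1, hkinv, inv_inv]
    congr 1
    ring
  have e4 : h * (h' * transvection h01 (r - 1)) * h⁻¹ =
      h' * transvection h01 ((k : K) ^ 2 * (r - 1)) := by
    rw [← e3 (r - 1)]
    rw [← mul_assoc, hcomm]
    group
  have hTG : transvection h01 (((k : K) ^ 2 - 1) * (r - 1)) ∈ G1 := by
    have h1 : h' * transvection h01 ((k : K) ^ 2 * (r - 1)) ∈ G1 := by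
      rw [← e4]
      exact G1.mul_mem (G1.mul_mem hhG hh1G) (G1.inv_mem hhG)
    have h2 : (h' * transvection h01 (r - 1))⁻¹ * (h' * transvection h01 ((k : K) ^ 2 * (r - 1))) =
        transvection h01 (((k : K) ^ 2 - 1) * (r - 1)) := by
      rw [_root_.mul_inv_rev, mul_assoc, inv_mul_cancel_left, transvection_inv, ← transvection_add]
      congr 1
      ring
    rw [← h2]
    exact G1.mul_mem (G1.inv_mem hh1G) h1
  set c : K := ((k : K) ^ 2 - 1) * (r - 1) with hc
  have hc0 : c ≠ 0 := mul_ne_zero (sub_ne_zero.mpr hk2) (sub_ne_zero.mpr hr1)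
  -- the additive subgroup B = {s | T(c s) ∈ G1}
  let B : AddSubgroup K :=
    { carrier := {s | transvection h01 (c * s) ∈ G1}
      zero_mem' := by
        change transvection h01 (c * 0) ∈ G1
        rw [mul_zero, transvection_coeff_zero]
        exact G1.one_mem
      add_mem' := by
        intro s₁ s₂ h1 h2
        change transvection h01 (c * (s₁ + s₂)) ∈ G1
        rw [mul_add, transvection_add]
        exact G1.mul_mem h1 h2
      neg_mem' := by
        intro s h1
        change transvection h01 (c * (-s)) ∈ G1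
        rw [mul_neg, ← transvection_inv]
        exact G1.inv_mem h1 }
  have hB1 : (1 : K) ∈ B := by
    change transvection h01 (c * 1) ∈ G1
    rw [mul_one]
    exact hTG
  have hBmul : ∀ s ∈ B, (k : K) ^ 2 * s ∈ B := by
    intro s hs
    change transvection h01 (c * ((k : K) ^ 2 * s)) ∈ G1
    have : c * ((k : K) ^ 2 * s) = (k : K) ^ 2 * (c * s) := by ring
    rw [this, ← e3]
    exact G1.mul_mem (G1.mul_mem hhG hs) (G1.inv_mem hhG)
  have hBtop : B = ⊤ := addSubgroup_eq_top k hk B hB1 hBmul
  have hbase : Good G1 (0 : Fin (m + 1 + 1)) 1 := by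
    refine ⟨h01, fun t => ?_⟩
    have : c⁻¹ * t ∈ B := by rw [hBtop]; trivial
    have h2 : transvection h01 (c * (c⁻¹ * t)) ∈ G1 := this
    rwa [mul_inv_cancel_left₀ hc0] at h2
  have hxG : x ∈ G1 := by
    rw [hxT]
    exact hbase.2 1
  have hwG : w ∈ G1 := by
    have : w = x⁻¹ * (x * w) := by group
    rw [this]
    exact G1.mul_mem (G1.inv_mem hxG) hyG
  rw [eq_top_of_good G1 w hw' hwG hbase, top_sup_eq]

end Cfsg.Agent.S2402
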