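import Cfsg.Statements.S2410
import Cfsg.Agent.Lib.Helper37_SzMax

set_option autoImplicit false
open Cfsg

namespace Cfsg.Agent.S2410

open Cfsg.Agent.Helper37Sz

section Aux

variable {F : Type*} [Field F] [Fintype F] {S : F →+* F} {m : ℕ}

omit [Fintype F] in
theorem wMat_hMat_wMat {t : F} (ht : t ≠ 0) :
    (wMat : Matrix (Fin 4) (Fin 4) F) * hMat S t * wMat = hMat S t⁻¹ := by
  have hSt : S t ≠ 0 := by simpa using ht
  ext i j
  fin_cases i <;> fin_cases j <;>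
    simp [hMat, wMat, Matrix.mul_apply, Fin.sum_univ_four, mul_comm]

theorem wQ_hQ_wQ (h2 : (2 : F) = 0) (hS : ∀ z, S (S z) = z ^ 2)
    (hSdef : ∀ z, S z = z ^ 2 ^ (m + 1)) (t : Fˣ) :
    wQ (m := m) h2 hS hSdef * hQ hS hSdef t * wQ h2 hS hSdef = hQ hS hSdef t⁻¹ := by
  apply Subtype.ext
  apply Subtype.ext
  show (wMat : Matrix (Fin 4) (Fin 4) F) * hMat S (t : F) * wMat = hMat S ((t⁻¹ : Fˣ) : F)
  rw [wMat_hMat_wMat t.ne_zero, Units.val_inv_eq_inv_val]

theorem hQ_conj_uQ (h2 : (2 : F) = 0) (hS : ∀ z, S (S z) = z ^ 2)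
    (hSdef : ∀ z, S z = z ^ 2 ^ (m + 1)) (t : Fˣ) (a b : F) :
    hQ hS hSdef t * uQ h2 hS hSdef a b * (hQ hS hSdef t)⁻¹
      = uQ (m := m) h2 hS hSdef ((t : F) ^ 2 * a) (S (t : F) ^ 2 * (t : F) ^ 2 * b) := by
  rw [hQ_mul_uQ, mul_inv_cancel_right]

/-- a subgroup containing a generator of the torus and a non-central element of `Q`
contains `Q` -/
theorem Qsub_le_of_gen (h2 : (2 : F) = 0) (hS : ∀ z, S (S z) = z ^ 2)
    (hSdef : ∀ z, S z = z ^ 2 ^ (m + 1)) (M : Subgroup (Cfsg.Sz F m)) {t₀ : Fˣ}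
    (ht₀ : ∀ s : Fˣ, s ∈ Subgroup.zpowers t₀) (hh : hQ hS hSdef t₀ ∈ M) {a₁ b₁ : F}
    (ha₁ : a₁ ≠ 0) (hu : uQ h2 hS hSdef a₁ b₁ ∈ M) : Qsub h2 hS m ≤ M := by
  have hchar : CharP F 2 := CharTwo.of_one_ne_zero_of_two_eq_zero one_ne_zero h2
  have hadd : ∀ x : F, x + x = 0 := fun x => by linear_combination x * h2
  -- first coordinates
  have hpow : ∀ j : ℕ, ∃ b, uQ h2 hS hSdef ((t₀ : F) ^ (2 * j) * a₁) b ∈ M := by
    intro j
    induction j with
    | zero => exact ⟨b₁, by simpa using hu⟩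
    | succ j ih =>
      obtain ⟨b, hb⟩ := ih
      refine ⟨S (t₀ : F) ^ 2 * (t₀ : F) ^ 2 * b, ?_⟩
      have := M.mul_mem (M.mul_mem hh hb) (M.inv_mem hh)
      rw [hQ_conj_uQ] at this
      have e : (t₀ : F) ^ (2 * (j + 1)) * a₁ = (t₀ : F) ^ 2 * ((t₀ : F) ^ (2 * j) * a₁) := by ring
      rw [e]; exact this
  have hA : ∀ a : F, ∃ b, uQ h2 hS hSdef a b ∈ M := by
    intro a
    by_cases ha : a = 0
    · exact ⟨0, by rw [ha, uQ_zero]; exact M.one_mem⟩
    · obtain ⟨s, hs⟩ := FiniteField.isSquare_of_char_two (ringChar.eq F 2) (a / a₁)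
      have hs0 : s ≠ 0 := by
        rintro rfl
        rw [mul_zero] at hs
        exact div_ne_zero ha ha₁ hs
      have hmem := ht₀ (Units.mk0 s hs0)
      rw [← mem_powers_iff_mem_zpowers] at hmem
      obtain ⟨j, hj⟩ := hmem
      have hj' : (t₀ : F) ^ j = s := by
        have := congrArg Units.val hj
        simpa using this
      obtain ⟨b, hb⟩ := hpow j
      refine ⟨b, ?_⟩
      have e : (t₀ : F) ^ (2 * j) * a₁ = a := by
        rw [mul_comm 2 j, pow_mul, hj', pow_two, ← hs]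
        field_simp
      rwa [e] at hb
  -- the centre
  have hZ : ∀ c : F, uQ h2 hS hSdef 0 c ∈ M := by
    intro c
    by_cases hc : c = 0
    · rw [hc, uQ_zero]; exact M.one_mem
    · have hSc : S c ≠ 0 := by simpa using hc
      obtain ⟨b, hb⟩ := hA (S c / c)
      have := M.mul_mem hb hb
      rw [uQ_mul, hadd, hadd, zero_add] at this
      have e : S (S c / c) * (S c / c) = c := by
        rw [map_div₀, hS]
        field_simp
      rwa [e] at this
  intro q hq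
  obtain ⟨a, b, rfl⟩ := exists_of_mem_Qsub h2 hS hSdef hq
  obtain ⟨b', hb'⟩ := hA a
  have := M.mul_mem hb' (hZ (b + b'))
  rw [uQ_mul, add_zero, mul_zero, add_zero] at this
  have e : b' + (b + b') = b := by linear_combination b' * h2
  rwa [e] at this

end Aux

/-- The Suzuki group over the field with `2^(2m+1)` elements, `m ≥ 1` (realised as the stabiliser in `SL₄` of the Suzuki–Tits ovoid), is generated by two of its elements. -/
theorem result {F : Type*} [Field F] [Fintype F] {m : ℕ} (hm : 1 ≤ m) (hF : Fintype.card F = 2 ^ (2 * m + 1)) :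
    ∃ a b : ↥(Cfsg.Sz F m), Subgroup.closure ({a, b} : Set ↥(Cfsg.Sz F m)) = ⊤ := by
  have h2 := two_eq_zero_of_card hF
  have hSdef : ∀ z, sgHom F m h2 z = z ^ 2 ^ (m + 1) := fun z => sgHom_apply m h2 z
  have hS : ∀ z, sgHom F m h2 (sgHom F m h2 z) = z ^ 2 := fun z => sgHom_sgHom hF h2 z
  have hq : 2 < Fintype.card F := by
    rw [hF]
    calc 2 = 2 ^ 1 := by norm_num
      _ < 2 ^ (2 * m + 1) := Nat.pow_lt_pow_right (by norm_num) (by omega)
  obtain ⟨t₀, ht₀⟩ := IsCyclic.exists_generator (α := Fˣ)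
  have ht₀1 : t₀ ≠ 1 := by
    rintro rfl
    obtain ⟨τ, hτ0, hτ⟩ := exists_S_ne hS hq
    have hmem := ht₀ (Units.mk0 τ hτ0)
    rw [Subgroup.zpowers_one_eq_bot, Subgroup.mem_bot] at hmem
    have : τ = 1 := by
      have := congrArg Units.val hmem
      simpa using this
    rw [this, map_one] at hτ
    exact hτ rfl
  obtain ⟨h, hh⟩ : ∃ h, h = hQ (m := m) hS hSdef t₀ := ⟨_, rfl⟩
  obtain ⟨x, hx⟩ : ∃ x, x = uQ (m := m) h2 hS hSdef 1 0 := ⟨_, rfl⟩
  obtain ⟨w, hw⟩ : ∃ w, w = wQ (m := m) h2 hS hSdef := ⟨_, rfl⟩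
  have hww : w * w = 1 := by rw [hw]; exact wQ_involution h2 hS hSdef
  have hwinv : w⁻¹ = w := by rw [hw]; exact wQ_inv h2 hS hSdef
  have hwhw : w * h * w = h⁻¹ := by rw [hw, hh, wQ_hQ_wQ, hQ_inv]
  have hwh : w * h = h⁻¹ * w := by
    rw [← hwhw, mul_assoc (w * h) w w, hww, mul_one]
  refine ⟨h, x * w, ?_⟩
  obtain ⟨M, hM⟩ : ∃ M, M = Subgroup.closure ({h, x * w} : Set (Cfsg.Sz F m)) := ⟨_, rfl⟩
  rw [← hM]
  have hhM : h ∈ M := by
    rw [hM]; exact Subgroup.subset_closure (Set.mem_insert _ _)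
  have hgM : x * w ∈ M := by
    rw [hM]; exact Subgroup.subset_closure (Set.mem_insert_of_mem _ rfl)
  have hu₁ : w * (x⁻¹ * (h * x * h⁻¹)) * w ∈ M := by
    have e : w * (x⁻¹ * (h * x * h⁻¹)) * w = (x * w)⁻¹ * h * (x * w) * h := by
      rw [_root_.mul_inv_rev, hwinv]
      have : w * x⁻¹ * h * (x * w) * h = w * x⁻¹ * h * x * (w * h) := by
        simp only [mul_assoc]
      rw [this, hwh]
      simp only [mul_assoc]
    rw [e]
    exact M.mul_mem (M.mul_mem (M.mul_mem (M.inv_mem hgM) hhM) hgM) hhM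
  -- the conjugate subgroup
  obtain ⟨M', hM'⟩ : ∃ M' : Subgroup (Cfsg.Sz F m), ∀ z, z ∈ M' ↔ w * z * w ∈ M := by
    refine ⟨M.comap (MulAut.conj w).toMonoidHom, ?_⟩
    intro z
    rw [Subgroup.mem_comap]
    show w * z * w⁻¹ ∈ M ↔ _
    rw [hwinv]
  have hhM' : hQ hS hSdef t₀ ∈ M' := by
    rw [hM', ← hh, hwhw]
    exact M.inv_mem hhM
  have hadd : ∀ y : F, y + y = 0 := fun y => by linear_combination y * h2
  have hu₁val : x⁻¹ * (h * x * h⁻¹)
      = uQ h2 hS hSdef (1 + (t₀ : F) ^ 2 * 1)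
          (0 + sgHom F m h2 1 * 1 + sgHom F m h2 (t₀ : F) ^ 2 * (t₀ : F) ^ 2 * 0
            + sgHom F m h2 1 * ((t₀ : F) ^ 2 * 1)) := by
    rw [hx, hh, hQ_conj_uQ]
    have : (uQ (m := m) h2 hS hSdef 1 0)⁻¹ = uQ h2 hS hSdef 1 (0 + sgHom F m h2 1 * 1) :=
      Subtype.ext (uSL_inv h2 hS 1 0)
    rw [this, uQ_mul]
  have ha₁ : (1 : F) + (t₀ : F) ^ 2 * 1 ≠ 0 := by
    intro h0
    apply ht₀1
    apply Units.ext
    have : (t₀ : F) ^ 2 = 1 := by linear_combination h0 - h2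
    exact unit_eq_one_of_sq h2 this
  have hu₁M' : uQ h2 hS hSdef (1 + (t₀ : F) ^ 2 * 1)
          (0 + sgHom F m h2 1 * 1 + sgHom F m h2 (t₀ : F) ^ 2 * (t₀ : F) ^ 2 * 0
            + sgHom F m h2 1 * ((t₀ : F) ^ 2 * 1)) ∈ M' := by
    rw [hM', ← hu₁val]
    exact hu₁
  have hQM' : Qsub h2 hS m ≤ M' := Qsub_le_of_gen h2 hS hSdef M' ht₀ hhM' ha₁ hu₁M'
  rcases overgroup_Q hm hF h2 hS hSdef M' hQM' with hfix | htop
  · exfalso
    have hmem : w * x ∈ M' := by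
      rw [hM']
      have : w * (w * x) * w = x * w := by
        rw [← mul_assoc w w x, hww, one_mul]
      rw [this]; exact hgM
    have := hfix _ hmem
    rw [mul_smul, hx, uQ_smul_ptInf, hw, wQ_smul_ptInf] at this
    exact ptAff_ne_ptInf hSdef 0 0 this
  · rw [eq_top_iff]
    intro z _
    have hmem : w * z * w ∈ M' := by rw [htop]; exact Subgroup.mem_top _
    rw [hM'] at hmem
    have : w * (w * z * w) * w = z := by
      calc w * (w * z * w) * w = (w * w) * z * (w * w) := by simp only [mul_assoc]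
        _ = z := by rw [hww, one_mul, mul_one]
    rwa [this] at hmem

end Cfsg.Agent.S2410
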