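import Cfsg.Statements.S2412
import Cfsg.Agent.Lib.Helper93_UTwoGen
import Cfsg.Agent.S0283
import Cfsg.Agent.S2283
import Cfsg.Agent.S0822
import Cfsg.Agent.S2411

set_option autoImplicit false
open Cfsg

namespace Cfsg.Agent.S2412

open Module Cfsg.Agent.Lib.Helper94_Herm Cfsg.Agent.Lib.Helper94_HermBridge
  Cfsg.Agent.Lib.Helper94_HermTrans Cfsg.Agent.Lib.Helper13_SUGen
  Cfsg.Agent.Lib.Helper13_PSUSimple

/-- Two generators pass to homomorphic images. -/
theorem two_gen_of_surj {G G' : Type*} [Group G] [Group G'] (φ : G →* G')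
    (hφ : Function.Surjective φ)
    (h : ∃ a b : G, Subgroup.closure ({a, b} : Set G) = ⊤) :
    ∃ a b : G', Subgroup.closure ({a, b} : Set G') = ⊤ := by
  obtain ⟨a, b, hab⟩ := h
  refine ⟨φ a, φ b, ?_⟩
  have h1 : (Subgroup.closure ({a, b} : Set G)).map φ = ⊤ := by
    rw [hab]
    exact Subgroup.map_top_of_surjective _ hφ
  rw [MonoidHom.map_closure, Set.image_pair] at h1
  exact h1

/-- Two elements of a subgroup whose closure in the ambient group contains the subgroup generate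
it. -/
theorem two_gen_subgroup {G : Type*} [Group G] (K : Subgroup G) {a b : G} (ha : a ∈ K)
    (hb : b ∈ K) (h : K ≤ Subgroup.closure {a, b}) :
    ∃ a' b' : ↥K, Subgroup.closure ({a', b'} : Set ↥K) = ⊤ := by
  refine ⟨⟨a, ha⟩, ⟨b, hb⟩, ?_⟩
  rw [eq_top_iff]
  intro g _
  have h1 : (Subgroup.closure ({⟨a, ha⟩, ⟨b, hb⟩} : Set ↥K)).map K.subtype =
      Subgroup.closure {a, b} := by
    rw [MonoidHom.map_closure, Set.image_pair]
    rfl
  have h2 : (g : G) ∈ (Subgroup.closure ({⟨a, ha⟩, ⟨b, hb⟩} : Set ↥K)).map K.subtype := by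
    rw [h1]
    exact h g.2
  obtain ⟨g', hg', hgg'⟩ := h2
  have : g' = g := Subtype.ext hgg'
  rwa [this] at hg'

/-- The projective special unitary group `PSU_n(q)` with `n ≥ 3`, realised over the field with `q²` elements, `(n, q) ≠ (3, 2)`, is generated by two of its elements. -/
theorem result {F : Type*} [Field F] [Fintype F] {q : ℕ} (hq : IsPrimePow q) (hF : Fintype.card F = q ^ 2) (n : ℕ) (hn : 3 ≤ n) (h32 : n = 3 → q ≠ 2) :
    ∃ a b : Cfsg.PSU n F q, Subgroup.closure ({a, b} : Set (Cfsg.PSU n F q)) = ⊤ := by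
  have hq2 : 2 ≤ q := by
    have h1 : 1 < Fintype.card F := Fintype.one_lt_card
    rw [hF] at h1
    by_contra hlt
    push Not at hlt
    interval_cases q <;> simp at h1
  by_cases h42 : n = 4 ∧ q = 2
  · obtain ⟨rfl, rfl⟩ := h42
    haveI : Fact (Nat.Prime 3) := ⟨Nat.prime_three⟩
    obtain ⟨e⟩ := Cfsg.Agent.S0822.result (F := F) (K := ZMod 3) (by rw [hF]; norm_num)
      (ZMod.card 3)
    have h2 := Cfsg.Agent.S2411.result (F := ZMod 3) 2 (le_refl 2)
      (fun _ => by rw [ZMod.card]; norm_num)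
    exact two_gen_of_surj e.symm.toMonoidHom e.symm.surjective h2
  apply two_gen_of_surj (QuotientGroup.mk' (Subgroup.center (Cfsg.SU n F q)))
    (QuotientGroup.mk'_surjective _)
  by_cases h3 : n = 3
  · subst h3
    have hq3 : 3 ≤ q := by
      have := h32 rfl
      omega
    obtain ⟨u, g, -, hgen⟩ := Cfsg.Agent.S2283.result q hq3 hF
    exact ⟨u, g * u * g⁻¹, hgen⟩
  · obtain ⟨k, rfl⟩ : ∃ k, n = k + 4 := ⟨n - 4, by omega⟩
    obtain ⟨σ, hσq, hσ⟩ := exists_frob hF
    have hB := hermB_isHerm (n := k + 4) σ hσq hσ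
    have hN := hermB_nondeg (n := k + 4) σ hσq
    have hfr : finrank F (Fin (k + 4) → F) = k + 4 := Module.finrank_fin_fun F
    have hcond : k = 0 → ∀ g : F, (∀ x : F, x ≠ 0 → ∃ m : ℕ, x = g ^ m) → g ≠ σ g * σ g := by
      intro hk g hgen hgeq
      have hqne : q ≠ 2 := fun hq' => h42 ⟨by omega, hq'⟩
      have hg2q : g ^ (2 * q) = g := by
        rw [two_mul, pow_add, ← hσq]
        exact hgeq.symm
      have h1 : ∀ x : Fˣ, x ^ (2 * q - 1) = 1 := by
        intro x
        apply Units.ext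
        rw [Units.val_pow_eq_pow_val, Units.val_one]
        obtain ⟨m, hm⟩ := hgen (x : F) x.ne_zero
        have h2 : (x : F) ^ (2 * q) = (x : F) := by
          rw [hm, ← pow_mul, mul_comm, pow_mul, hg2q]
        have h3 : (x : F) ^ (2 * q - 1) * (x : F) = 1 * (x : F) := by
          rw [← pow_succ, Nat.sub_add_cancel (by omega), h2, one_mul]
        exact mul_right_cancel₀ x.ne_zero h3
      have h4 := (FiniteField.forall_pow_eq_one_iff F (2 * q - 1)).mp h1
      rw [hF] at h4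
      have h5 := Nat.le_of_dvd (by omega) h4
      have h6 : q ^ 2 ≤ 2 * q := by
        have : 1 ≤ q ^ 2 := Nat.one_le_pow _ _ (by omega)
        omega
      have h7 : q ≤ 2 := by nlinarith
      omega
    obtain ⟨a, b, haU, hadet, hbU, hbdet, hle⟩ :=
      Cfsg.Agent.Lib.Helper93_UTwoGen.two_gen hσ hB hN hfr hcond
    have h8 := two_gen_subgroup (SUg (hermB (k + 4) σ hσq)) (mem_SUg.mpr ⟨haU, hadet⟩)
      (mem_SUg.mpr ⟨hbU, hbdet⟩) (fun g hg => hle (mem_tvGroup_of_four_le hσ hB hN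
        (by rw [hfr]; omega) (mem_SUg.mp hg).1 (mem_SUg.mp hg).2))
    exact two_gen_of_surj (Cfsg.Agent.S0283.suEquiv σ hσq).symm.toMonoidHom
      (Cfsg.Agent.S0283.suEquiv σ hσq).symm.surjective h8

end Cfsg.Agent.S2412
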