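import Cfsg.Statements.S2413
import Cfsg.Agent.S0301
import Cfsg.Agent.S2411
import Cfsg.Agent.Lib.Helper32_OmegaTwoGenAsm
import Cfsg.Agent.Lib.Helper11_TwoGen_MODEL_ODD

set_option autoImplicit false
open Cfsg

namespace Cfsg.Agent.S2413

/-- The simple orthogonal group `PΩ_{2m+1}(q)` (commutator subgroup of the orthogonal group of `x₀² + Σ x_i y_i` modulo its centre) with `m ≥ 2` and `q` odd is generated by two of its elements. -/
theorem result {F : Type*} [Field F] [Fintype F] (hodd : Odd (Fintype.card F)) (m : ℕ) (hm : 2 ≤ m) :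
    ∃ a b : Cfsg.POmega F (Cfsg.quadFormOdd m F), Subgroup.closure ({a, b} : Set (Cfsg.POmega F (Cfsg.quadFormOdd m F))) = ⊤ := by
  have h2 : (2 : F) ≠ 0 := Cfsg.Agent.S0286.two_ne_zero_of_odd hodd
  rcases Nat.lt_or_ge m 3 with h3 | h3
  · have hm2 : m = 2 := by omega
    subst hm2
    obtain ⟨e⟩ := Cfsg.Agent.S0301.result hodd
    have hq3 : 2 < Fintype.card F := by
      have h1 : 2 ≤ Fintype.card F := Fintype.one_lt_card
      have h4 : Fintype.card F % 2 = 1 := Nat.odd_iff.mp hodd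
      omega
    obtain ⟨a, b, hab⟩ := Cfsg.Agent.S2411.result (F := F) 2 le_rfl (fun _ => hq3)
    refine ⟨e.symm a, e.symm b, ?_⟩
    have h1 : (Subgroup.closure ({a, b} : Set (Cfsg.PSp 2 F))).map e.symm.toMonoidHom = ⊤ := by
      rw [hab]
      exact Subgroup.map_top_of_surjective _ e.symm.surjective
    rw [MonoidHom.map_closure, Set.image_pair] at h1
    exact h1
  · obtain ⟨k, rfl⟩ : ∃ k, m = k + 1 := ⟨m - 1, by omega⟩
    obtain ⟨X, hdim⟩ := Cfsg.Agent.Lib.Helper11_TwoGen_MODEL_ODD.MODEL_ODD (F := F) h2 k (by omega)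
    exact Cfsg.Agent.Lib.Helper32_OmegaTwoGenAsm.odd_two_generated h2 k (by omega) X hdim

end Cfsg.Agent.S2413
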