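import Cfsg.Statements.S2415
import Cfsg.Agent.Lib.Helper32_OmegaTwoGenAsm
import Cfsg.Agent.Lib.Helper32_TwoGen_TYPE_MINUS
import Cfsg.Agent.Lib.Helper43_TwoGen_MODEL_MINUS

set_option autoImplicit false
open Cfsg

namespace Cfsg.Agent.S2415

/-- The simple orthogonal group `PΩ⁻_{2m}(q)` with `m ≥ 4` (commutator subgroup, modulo its centre, of the orthogonal group of `Σ_{i<m−1} x_i y_i + z₁² + a z₁z₂ + b z₂²` with the binary part anisotropic) is generated by two of its elements. -/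
theorem result {F : Type*} [Field F] [Fintype F] (m : ℕ) (hm : 4 ≤ m) (a b : F)
    (hab : ∀ z₁ z₂ : F, z₁ ^ 2 + a * z₁ * z₂ + b * z₂ ^ 2 = 0 → z₁ = 0 ∧ z₂ = 0) :
    ∃ g h : Cfsg.POmega F (Cfsg.quadFormMinus (m - 1) F a b),
      Subgroup.closure ({g, h} : Set (Cfsg.POmega F (Cfsg.quadFormMinus (m - 1) F a b))) = ⊤ := by
  obtain ⟨X, hdim, hord, hsemi⟩ :=
    Cfsg.Agent.Lib.Helper43_TwoGen_MODEL_MINUS.MODEL_MINUS (F := F) (m - 1) (by omega)
  exact Cfsg.Agent.Lib.Helper32_OmegaTwoGenAsm.minus_two_generated (m - 1) (by omega) a b hab X hdim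
    (fun U hU => Cfsg.Agent.Lib.Helper32_TwoGen_TYPE_MINUS.TYPE_MINUS X.Q X.B X.hQs X.hQp X.hN
      (m - 1) (by omega) hdim X.g X.hg hord hsemi U hU)

end Cfsg.Agent.S2415
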