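import Cfsg.Statements.S2416
import Cfsg.Agent.Lib.Helper18_ChevData5
import Cfsg.Agent.Lib.Helper18_ChevOCerts

set_option autoImplicit false
open scoped MatrixGroups
open Cfsg

namespace Cfsg.Agent.S2416

/-- A Chevalley group of type G₂, B₂, D₄, F₄, E₆, E₇ or E₈ over a finite field lies in (indeed equals) the subgroup generated by its monomial subgroup `N` and a single fundamental root subgroup `X_p`, where `p` is a short fundamental root if there are two root lengths (any fundamental root otherwise), provided the characteristic is not 2 for types B₂, F₄ and not 3 for type G₂ (and the field has more than two elements for B₂, G₂). -/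
theorem result {K : Type*} [Field K] [Finite K] (D : Cfsg.Lie.ChevalleyDatum) (hD : D ∈ [Cfsg.Lie.chevG2, Cfsg.Lie.chevB2, Cfsg.Lie.chevD4, Cfsg.Lie.chevF4, Cfsg.Lie.chevE6, Cfsg.Lie.chevE7, Cfsg.Lie.chevE8])
    (hK : D ∈ [Cfsg.Lie.chevB2, Cfsg.Lie.chevG2] → ∃ x : K, x ≠ 0 ∧ x ≠ 1)
    (h2 : D ∈ [Cfsg.Lie.chevB2, Cfsg.Lie.chevF4] → ringChar K ≠ 2) (h3 : D = Cfsg.Lie.chevG2 → ringChar K ≠ 3)
    (i : ℕ) (hi : i < D.rank) (hshort : D.isLong (D.simple i) = false) :
    D.group K ≤ D.monomialSubgroup K ⊔ D.rootSubgroup K (D.simple i) := by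
  simp only [List.mem_cons, List.not_mem_nil, or_false] at hD
  rcases hD with rfl | rfl | rfl | rfl | rfl | rfl | rfl
  · obtain ⟨Ns, w, d, Ts, hT, K', base, stepT, wl, ws, sc, c, tc, gc, pc, ac⟩ :=
      Cfsg.Agent.Lib.Helper18_ChevData5.exists_cert5 Cfsg.Lie.chevG2 (by simp)
    exact Cfsg.Agent.Lib.Helper18_ChevGen.group_le_of_orbits Cfsg.Agent.Lib.Helper18_ChevOCerts.ocertG2 c
      (Cfsg.Agent.Lib.Helper18_ChevComm2.r2_all c pc) _ le_sup_left _ (tc.simple_pos i hi).1 hshort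
      (fun t => Subgroup.mem_sup_right (Subgroup.subset_closure ⟨t, rfl⟩))
      (fun _ => Or.inl (by
        have h3' := h3 rfl
        intro h0
        have h0' : ((3 : ℕ) : K) = 0 := by exact_mod_cast h0
        have hd := ringChar.dvd h0'
        rcases (Nat.dvd_prime Nat.prime_three).mp hd with h1 | h1
        · exact CharP.ringChar_ne_one h1
        · exact h3' h1))
  · obtain ⟨Ns, w, d, Ts, hT, K', base, stepT, wl, ws, sc, c, tc, gc, pc, ac⟩ :=
      Cfsg.Agent.Lib.Helper18_ChevData5.exists_cert5 Cfsg.Lie.chevB2 (by simp)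
    exact Cfsg.Agent.Lib.Helper18_ChevGen.group_le_of_orbits Cfsg.Agent.Lib.Helper18_ChevOCerts.ocertB2 c
      (Cfsg.Agent.Lib.Helper18_ChevComm2.r2_all c pc) _ le_sup_left _ (tc.simple_pos i hi).1 hshort
      (fun t => Subgroup.mem_sup_right (Subgroup.subset_closure ⟨t, rfl⟩))
      (fun _ => Or.inl (by
        have h2' := h2 (by simp)
        have := Ring.two_ne_zero h2'
        exact_mod_cast this))
  · obtain ⟨Ns, w, d, Ts, hT, K', base, stepT, wl, ws, sc, c, tc, gc, pc, ac⟩ :=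
      Cfsg.Agent.Lib.Helper18_ChevData5.exists_cert5 Cfsg.Lie.chevD4 (by simp)
    exact Cfsg.Agent.Lib.Helper18_ChevGen.group_le_of_orbits Cfsg.Agent.Lib.Helper18_ChevOCerts.ocertD4 c
      (Cfsg.Agent.Lib.Helper18_ChevComm2.r2_all c pc) _ le_sup_left _ (tc.simple_pos i hi).1 hshort
      (fun t => Subgroup.mem_sup_right (Subgroup.subset_closure ⟨t, rfl⟩))
      (fun h => absurd h (by decide))
  · obtain ⟨Ns, w, d, Ts, hT, K', base, stepT, wl, ws, sc, c, tc, gc, pc, ac⟩ :=
      Cfsg.Agent.Lib.Helper18_ChevData5.exists_cert5 Cfsg.Lie.chevF4 (by simp)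
    exact Cfsg.Agent.Lib.Helper18_ChevGen.group_le_of_orbits Cfsg.Agent.Lib.Helper18_ChevOCerts.ocertF4 c
      (Cfsg.Agent.Lib.Helper18_ChevComm2.r2_all c pc) _ le_sup_left _ (tc.simple_pos i hi).1 hshort
      (fun t => Subgroup.mem_sup_right (Subgroup.subset_closure ⟨t, rfl⟩))
      (fun _ => Or.inl (by
        have h2' := h2 (by simp)
        have := Ring.two_ne_zero h2'
        exact_mod_cast this))
  · obtain ⟨Ns, w, d, Ts, hT, K', base, stepT, wl, ws, sc, c, tc, gc, pc, ac⟩ :=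
      Cfsg.Agent.Lib.Helper18_ChevData5.exists_cert5 Cfsg.Lie.chevE6 (by simp)
    exact Cfsg.Agent.Lib.Helper18_ChevGen.group_le_of_orbits Cfsg.Agent.Lib.Helper18_ChevOCerts.ocertE6 c
      (Cfsg.Agent.Lib.Helper18_ChevComm2.r2_all c pc) _ le_sup_left _ (tc.simple_pos i hi).1 hshort
      (fun t => Subgroup.mem_sup_right (Subgroup.subset_closure ⟨t, rfl⟩))
      (fun h => absurd h (by decide))
  · obtain ⟨Ns, w, d, Ts, hT, K', base, stepT, wl, ws, sc, c, tc, gc, pc, ac⟩ :=
      Cfsg.Agent.Lib.Helper18_ChevData5.exists_cert5 Cfsg.Lie.chevE7 (by simp)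
    exact Cfsg.Agent.Lib.Helper18_ChevGen.group_le_of_orbits Cfsg.Agent.Lib.Helper18_ChevOCerts.ocertE7 c
      (Cfsg.Agent.Lib.Helper18_ChevComm2.r2_all c pc) _ le_sup_left _ (tc.simple_pos i hi).1 hshort
      (fun t => Subgroup.mem_sup_right (Subgroup.subset_closure ⟨t, rfl⟩))
      (fun h => absurd h (by decide))
  · obtain ⟨Ns, w, d, Ts, hT, K', base, stepT, wl, ws, sc, c, tc, gc, pc, ac⟩ :=
      Cfsg.Agent.Lib.Helper18_ChevData5.exists_cert5 Cfsg.Lie.chevE8 (by simp)
    exact Cfsg.Agent.Lib.Helper18_ChevGen.group_le_of_orbits Cfsg.Agent.Lib.Helper18_ChevOCerts.ocertE8 c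
      (Cfsg.Agent.Lib.Helper18_ChevComm2.r2_all c pc) _ le_sup_left _ (tc.simple_pos i hi).1 hshort
      (fun t => Subgroup.mem_sup_right (Subgroup.subset_closure ⟨t, rfl⟩))
      (fun h => absurd h (by decide))

end Cfsg.Agent.S2416
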