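import Cfsg.Statements.S2418
import Cfsg.Agent.Lib.helper19_CoxCenter
import Cfsg.Agent.Lib.helper19_CoxB2
import Cfsg.Agent.Lib.helper19_CoxG2
import Cfsg.Agent.Lib.helper19_CoxD4
import Cfsg.Agent.Lib.helper19_CoxF4
import Cfsg.Agent.Lib.helper19_CoxE6
import Cfsg.Agent.Lib.helper19_CoxE7
import Cfsg.Agent.Lib.helper19_CoxE8

set_option autoImplicit false
open Cfsg

namespace Cfsg.Agent.S2418

open Cfsg.Agent.Lib.helper19_CoxChain Cfsg.Agent.Lib.helper19_CoxRefl Cfsg.Agent.Lib.helper19_CoxCenter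
open Cfsg.Agent.Lib

/-- depth of the nodes in the Coxeter graph, seen from node `0`. -/
def rkf (L : List ℕ) (i : ℕ) : ℕ := L.getD i 0

theorem centerB2 : Nat.card (Subgroup.center (CoxeterMatrix.B 2).Group) = 2 ∧
    Subgroup.center (CoxeterMatrix.B 2).Group ≤
      Subgroup.zpowers ((List.finRange 2).map (CoxeterMatrix.B 2).simple).prod := by
  have h := center_of_neg_one (CoxeterMatrix.B 2) helper19_CoxB2.hR helper19_CoxB2.inj2
    (by decide) (rkf [0, 1]) (by decide) (by decide) 2 (by decide +kernel)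
  rw [truncTo_self] at h
  exact h

theorem centerG2 : Nat.card (Subgroup.center CoxeterMatrix.G₂.Group) = 2 ∧
    Subgroup.center CoxeterMatrix.G₂.Group ≤
      Subgroup.zpowers ((List.finRange 2).map CoxeterMatrix.G₂.simple).prod := by
  have h := center_of_neg_one CoxeterMatrix.G₂ helper19_CoxG2.hR helper19_CoxG2.inj2
    (by decide) (rkf [0, 1]) (by decide) (by decide) 3 (by decide +kernel)
  rw [truncTo_self] at h
  exact h

theorem centerD4 : Nat.card (Subgroup.center Cfsg.Lie.coxeterD4.Group) = 2 ∧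
    Subgroup.center Cfsg.Lie.coxeterD4.Group ≤
      Subgroup.zpowers ((List.finRange 4).map Cfsg.Lie.coxeterD4.simple).prod := by
  have h := center_of_neg_one Cfsg.Lie.coxeterD4 helper19_CoxD4.hR helper19_CoxD4.inj4
    (by decide) (rkf [0, 1, 2, 2]) (by decide) (by decide) 3 (by decide +kernel)
  rw [truncTo_self] at h
  exact h

theorem centerF4 : Nat.card (Subgroup.center CoxeterMatrix.F₄.Group) = 2 ∧
    Subgroup.center CoxeterMatrix.F₄.Group ≤
      Subgroup.zpowers ((List.finRange 4).map CoxeterMatrix.F₄.simple).prod := by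
  have h := center_of_neg_one CoxeterMatrix.F₄ helper19_CoxF4.hR helper19_CoxF4.inj4
    (by decide) (rkf [0, 1, 2, 3]) (by decide) (by decide) 6 (by decide +kernel)
  rw [truncTo_self] at h
  exact h

theorem centerE7 : Nat.card (Subgroup.center CoxeterMatrix.E₇.Group) = 2 ∧
    Subgroup.center CoxeterMatrix.E₇.Group ≤
      Subgroup.zpowers ((List.finRange 7).map CoxeterMatrix.E₇.simple).prod := by
  have h := center_of_neg_one CoxeterMatrix.E₇ helper19_CoxE7.hR helper19_CoxE7.inj7
    (by decide) (rkf [0, 3, 1, 2, 3, 4, 5]) (by decide) (by decide) 9 (by decide +kernel)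
  rw [truncTo_self] at h
  exact h

theorem centerE8 : Nat.card (Subgroup.center CoxeterMatrix.E₈.Group) = 2 ∧
    Subgroup.center CoxeterMatrix.E₈.Group ≤
      Subgroup.zpowers ((List.finRange 8).map CoxeterMatrix.E₈.simple).prod := by
  have h := center_of_neg_one CoxeterMatrix.E₈ helper19_CoxE8.hR helper19_CoxE8.inj8
    (by decide) (rkf [0, 3, 1, 2, 3, 4, 5, 6]) (by decide) (by decide) 15 (by decide +kernel)
  rw [truncTo_self] at h
  exact h

theorem centerE6 : Subgroup.center CoxeterMatrix.E₆.Group = ⊥ := by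
  have h := center_trivial CoxeterMatrix.E₆ helper19_CoxE6.hR helper19_CoxE6.inj6
    (by decide) (rkf [0, 3, 1, 2, 3, 4]) (by decide) (by decide) helper19_CoxE6.pts6
    (by decide +kernel) (by decide +kernel)
  rw [truncTo_self] at h
  exact h

/-- For the Coxeter groups of types B₂, G₂, D₄, F₄, E₇, E₈ the centre has order 2 (the element acting as −1 on the root system) and is generated by a power of the Coxeter element `s₁ s₂ ⋯ s_l`; the Coxeter group of type E₆ has trivial centre. -/
theorem result (c : (Σ n : ℕ, CoxeterMatrix (Fin n)) × ℕ)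
    (hc : c ∈ [(⟨2, CoxeterMatrix.B 2⟩, 2), (⟨2, CoxeterMatrix.G₂⟩, 2), (⟨4, Cfsg.Lie.coxeterD4⟩, 2), (⟨4, CoxeterMatrix.F₄⟩, 2),
      (⟨6, CoxeterMatrix.E₆⟩, 1), (⟨7, CoxeterMatrix.E₇⟩, 2), (⟨8, CoxeterMatrix.E₈⟩, 2)]) :
    Nat.card (Subgroup.center c.1.2.Group) = c.2 ∧
      Subgroup.center c.1.2.Group ≤ Subgroup.zpowers ((List.finRange c.1.1).map c.1.2.simple).prod := by
  simp only [List.mem_cons, List.mem_nil_iff, or_false] at hc
  rcases hc with rfl | rfl | rfl | rfl | rfl | rfl | rfl
  · exact centerB2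
  · exact centerG2
  · exact centerD4
  · exact centerF4
  · refine ⟨?_, ?_⟩
    · show Nat.card (Subgroup.center CoxeterMatrix.E₆.Group) = 1
      rw [centerE6, Subgroup.card_bot]
    · show Subgroup.center CoxeterMatrix.E₆.Group ≤ _
      rw [centerE6]
      exact bot_le
  · exact centerE7
  · exact centerE8

end Cfsg.Agent.S2418
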