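import Cfsg.Statements.S2419
import Cfsg.Agent.Lib.helper19_CoxGen
import Cfsg.Agent.Lib.helper19_CoxB2
import Cfsg.Agent.Lib.helper19_CoxG2
import Cfsg.Agent.Lib.helper19_CoxD4
import Cfsg.Agent.Lib.helper19_CoxF4
import Cfsg.Agent.Lib.helper19_CoxE6
import Cfsg.Agent.Lib.helper19_CoxE7
import Cfsg.Agent.Lib.helper19_CoxE8

set_option autoImplicit false
set_option maxRecDepth 100000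
open Cfsg

namespace Cfsg.Agent.S2419

open Cfsg.Agent.Lib.helper19_CoxChain Cfsg.Agent.Lib.helper19_CoxRefl Cfsg.Agent.Lib.helper19_CoxGen
open Cfsg.Agent.Lib

/-! ### type B2 -/

def matsB2 : List (List (List ℕ)) := [
    [[7, 6], [9, 9]],
    [[7, 8], [9, 9]],
    [[9, 10], [8, 7]]]

def stepsB2 : List (ℕ × ℕ) := [(1, 0)]

def whB2 : List ℕ := [1, 2]

theorem topB2 : Subgroup.closure (({((List.finRange 2).map (CoxeterMatrix.B 2).simple).prod} : Set (CoxeterMatrix.B 2).Group) ∪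
    {(CoxeterMatrix.B 2).simple 0}) = ⊤ := by
  have h := closure_eq_top_of_SLP (CoxeterMatrix.B 2) helper19_CoxB2.hR helper19_CoxB2.inj2
    (({((List.finRange 2).map (truncTo (CoxeterMatrix.B 2) 2 le_rfl).simple).prod} : Set (truncTo (CoxeterMatrix.B 2) 2 le_rfl).Group) ∪ {(truncTo (CoxeterMatrix.B 2) 2 le_rfl).simple 0}) [0]
    (Set.mem_union_left _ rfl)
    (by
      intro t ht h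
      apply Set.mem_union_right
      replace ht : t < 1 := ht
      interval_cases t <;> simp)
    matsB2 stepsB2 (by decide +kernel) (by decide +kernel) (by decide +kernel) whB2
    (by decide +kernel)
  rw [truncTo_self] at h
  exact h

/-! ### type G2 -/

def matsG2 : List (List (List ℕ)) := [
    [[7, 5], [9, 10]],
    [[7, 8], [9, 9]],
    [[9, 11], [8, 7]]]

def stepsG2 : List (ℕ × ℕ) := [(1, 0)]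

def whG2 : List ℕ := [1, 2]

theorem topG2 : Subgroup.closure (({((List.finRange 2).map CoxeterMatrix.G₂.simple).prod} : Set CoxeterMatrix.G₂.Group) ∪
    {CoxeterMatrix.G₂.simple 0}) = ⊤ := by
  have h := closure_eq_top_of_SLP CoxeterMatrix.G₂ helper19_CoxG2.hR helper19_CoxG2.inj2
    (({((List.finRange 2).map (truncTo CoxeterMatrix.G₂ 2 le_rfl).simple).prod} : Set (truncTo CoxeterMatrix.G₂ 2 le_rfl).Group) ∪ {(truncTo CoxeterMatrix.G₂ 2 le_rfl).simple 0}) [0]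
    (Set.mem_union_left _ rfl)
    (by
      intro t ht h
      apply Set.mem_union_right
      replace ht : t < 1 := ht
      interval_cases t <;> simp)
    matsG2 stepsG2 (by decide +kernel) (by decide +kernel) (by decide +kernel) whG2
    (by decide +kernel)
  rw [truncTo_self] at h
  exact h

/-! ### type D4 -/

def matsD4 : List (List (List ℕ)) := [
    [[7, 7, 7, 7], [9, 8, 8, 8], [8, 9, 8, 9], [8, 9, 9, 8]],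
    [[7, 8, 8, 8], [9, 9, 8, 8], [8, 8, 9, 8], [8, 8, 8, 9]],
    [[9, 8, 8, 8], [8, 9, 9, 8], [8, 8, 7, 8], [8, 8, 8, 9]],
    [[8, 7, 8, 8], [7, 7, 7, 7], [9, 9, 9, 8], [9, 9, 8, 9]],
    [[9, 9, 9, 9], [7, 8, 8, 8], [8, 7, 8, 7], [8, 7, 7, 8]],
    [[8, 9, 8, 8], [9, 9, 9, 9], [7, 7, 7, 8], [7, 7, 8, 7]],
    [[8, 7, 7, 7], [7, 8, 8, 8], [9, 9, 8, 9], [9, 9, 9, 8]],
    [[9, 9, 8, 8], [8, 7, 8, 8], [8, 9, 9, 8], [8, 9, 8, 9]],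
    [[7, 7, 8, 7], [9, 8, 8, 8], [8, 9, 9, 9], [8, 9, 8, 8]],
    [[8, 7, 7, 8], [8, 9, 8, 8], [7, 7, 8, 8], [9, 9, 9, 9]],
    [[8, 8, 8, 7], [8, 7, 7, 8], [9, 10, 9, 9], [7, 8, 8, 8]],
    [[9, 9, 8, 9], [8, 8, 8, 7], [8, 9, 9, 9], [8, 7, 8, 8]],
    [[9, 9, 8, 8], [8, 8, 8, 9], [8, 9, 9, 8], [8, 7, 8, 7]],
    [[9, 8, 8, 8], [8, 9, 8, 9], [8, 8, 9, 8], [8, 8, 8, 7]]]

def stepsD4 : List (ℕ × ℕ) := [(0, 0), (3, 3), (0, 4), (0, 1), (6, 5), (0, 2), (8, 5), (0, 9), (10, 5), (7, 11), (12, 7)]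

def whD4 : List ℕ := [1, 7, 2, 13]

theorem topD4 : Subgroup.closure (({((List.finRange 4).map Cfsg.Lie.coxeterD4.simple).prod} : Set Cfsg.Lie.coxeterD4.Group) ∪
    {Cfsg.Lie.coxeterD4.simple 0, Cfsg.Lie.coxeterD4.simple 2}) = ⊤ := by
  have h := closure_eq_top_of_SLP Cfsg.Lie.coxeterD4 helper19_CoxD4.hR helper19_CoxD4.inj4
    (({((List.finRange 4).map (truncTo Cfsg.Lie.coxeterD4 4 le_rfl).simple).prod} : Set (truncTo Cfsg.Lie.coxeterD4 4 le_rfl).Group) ∪ {(truncTo Cfsg.Lie.coxeterD4 4 le_rfl).simple 0, (truncTo Cfsg.Lie.coxeterD4 4 le_rfl).simple 2}) [0, 2]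
    (Set.mem_union_left _ rfl)
    (by
      intro t ht h
      apply Set.mem_union_right
      replace ht : t < 2 := ht
      interval_cases t <;> simp)
    matsD4 stepsD4 (by decide +kernel) (by decide +kernel) (by decide +kernel) whD4
    (by decide +kernel)
  rw [truncTo_self] at h
  exact h

/-! ### type F4 -/

def matsF4 : List (List (List ℕ)) := [
    [[7, 7, 6, 6], [9, 8, 8, 8], [8, 9, 9, 9], [8, 8, 9, 8]],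
    [[7, 8, 8, 8], [9, 9, 8, 8], [8, 8, 9, 8], [8, 8, 8, 9]],
    [[9, 8, 8, 8], [8, 9, 10, 8], [8, 8, 7, 8], [8, 8, 9, 9]],
    [[8, 7, 6, 8], [7, 7, 6, 6], [9, 9, 10, 9], [8, 9, 9, 9]],
    [[7, 7, 6, 8], [7, 6, 6, 6], [9, 9, 9, 9], [8, 9, 9, 8]],
    [[8, 9, 10, 8], [9, 9, 10, 10], [7, 7, 6, 7], [8, 7, 7, 7]],
    [[7, 6, 6, 6], [8, 7, 6, 8], [8, 9, 9, 8], [9, 9, 10, 9]],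
    [[8, 9, 8, 8], [9, 9, 10, 8], [8, 8, 8, 9], [7, 7, 7, 7]],
    [[8, 7, 6, 6], [7, 8, 8, 8], [9, 9, 9, 9], [8, 8, 9, 8]],
    [[9, 9, 8, 8], [8, 7, 8, 8], [8, 9, 9, 8], [8, 8, 8, 9]],
    [[7, 7, 6, 6], [9, 8, 8, 8], [8, 9, 10, 9], [8, 8, 7, 8]],
    [[9, 8, 8, 8], [8, 9, 8, 8], [8, 8, 9, 9], [8, 8, 8, 7]]]

def stepsF4 : List (ℕ × ℕ) := [(0, 0), (3, 3), (4, 4), (0, 3), (6, 5), (0, 1), (8, 7), (0, 2), (10, 7)]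

def whF4 : List ℕ := [1, 9, 2, 11]

theorem topF4 : Subgroup.closure (({((List.finRange 4).map CoxeterMatrix.F₄.simple).prod} : Set CoxeterMatrix.F₄.Group) ∪
    {CoxeterMatrix.F₄.simple 0, CoxeterMatrix.F₄.simple 2}) = ⊤ := by
  have h := closure_eq_top_of_SLP CoxeterMatrix.F₄ helper19_CoxF4.hR helper19_CoxF4.inj4
    (({((List.finRange 4).map (truncTo CoxeterMatrix.F₄ 4 le_rfl).simple).prod} : Set (truncTo CoxeterMatrix.F₄ 4 le_rfl).Group) ∪ {(truncTo CoxeterMatrix.F₄ 4 le_rfl).simple 0, (truncTo CoxeterMatrix.F₄ 4 le_rfl).simple 2}) [0, 2]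
    (Set.mem_union_left _ rfl)
    (by
      intro t ht h
      apply Set.mem_union_right
      replace ht : t < 2 := ht
      interval_cases t <;> simp)
    matsF4 stepsF4 (by decide +kernel) (by decide +kernel) (by decide +kernel) whF4
    (by decide +kernel)
  rw [truncTo_self] at h
  exact h

/-! ### type E6 -/

def matsE6 : List (List (List ℕ)) := [
    [[7, 8, 7, 7, 7, 7], [8, 7, 8, 7, 7, 7], [9, 8, 8, 8, 8, 8], [8, 9, 9, 9, 9, 9], [8, 8, 8, 9, 8, 8], [8, 8, 8, 8, 9, 8]],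
    [[7, 8, 8, 8, 8, 8], [8, 9, 8, 8, 8, 8], [9, 8, 9, 8, 8, 8], [8, 8, 8, 9, 8, 8], [8, 8, 8, 8, 9, 8], [8, 8, 8, 8, 8, 9]],
    [[8, 7, 8, 7, 7, 8], [8, 8, 7, 7, 7, 8], [7, 8, 7, 7, 7, 7], [9, 8, 9, 9, 9, 8], [8, 9, 9, 9, 9, 9], [8, 8, 8, 9, 8, 8]],
    [[7, 7, 7, 7, 7, 7], [8, 7, 7, 7, 7, 8], [8, 8, 7, 7, 8, 8], [8, 8, 9, 8, 8, 8], [8, 9, 8, 9, 8, 8], [9, 8, 9, 9, 9, 8]],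
    [[8, 9, 9, 9, 9, 9], [8, 8, 9, 9, 9, 8], [8, 8, 8, 9, 8, 8], [8, 8, 7, 7, 8, 8], [8, 7, 8, 7, 7, 8], [7, 8, 7, 7, 7, 7]],
    [[8, 8, 7, 7, 8, 8], [7, 7, 7, 6, 7, 7], [8, 7, 8, 7, 7, 8], [8, 9, 8, 9, 8, 8], [9, 8, 9, 9, 9, 8], [8, 9, 9, 9, 9, 9]],
    [[8, 8, 9, 8, 8, 8], [9, 8, 9, 9, 8, 8], [8, 9, 8, 9, 8, 8], [8, 8, 8, 8, 9, 8], [8, 8, 8, 8, 8, 9], [7, 7, 7, 7, 7, 7]],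
    [[8, 8, 7, 7, 7, 7], [8, 7, 8, 7, 7, 7], [7, 8, 8, 8, 8, 8], [9, 9, 9, 9, 9, 9], [8, 8, 8, 9, 8, 8], [8, 8, 8, 8, 9, 8]],
    [[9, 8, 9, 8, 8, 8], [8, 9, 8, 8, 8, 8], [8, 8, 7, 8, 8, 8], [8, 8, 9, 9, 8, 8], [8, 8, 8, 8, 9, 8], [8, 8, 8, 8, 8, 9]],
    [[7, 8, 7, 7, 7, 7], [8, 7, 7, 7, 7, 7], [9, 8, 9, 8, 8, 8], [8, 9, 8, 9, 9, 9], [8, 8, 9, 9, 8, 8], [8, 8, 8, 8, 9, 8]],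
    [[9, 8, 8, 8, 8, 8], [8, 8, 8, 7, 8, 8], [8, 9, 9, 9, 8, 8], [8, 7, 8, 8, 8, 8], [8, 9, 8, 9, 9, 8], [8, 8, 8, 8, 8, 9]],
    [[7, 7, 7, 6, 7, 7], [8, 8, 8, 8, 7, 7], [9, 8, 8, 8, 8, 8], [8, 9, 9, 9, 9, 9], [8, 7, 8, 8, 8, 8], [8, 9, 8, 9, 9, 8]],
    [[8, 8, 7, 7, 7, 8], [9, 9, 9, 9, 9, 8], [8, 8, 9, 8, 8, 8], [8, 8, 8, 9, 8, 8], [7, 8, 7, 7, 8, 8], [9, 8, 9, 9, 9, 9]],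
    [[8, 8, 8, 8, 8, 7], [7, 7, 7, 6, 6, 7], [8, 8, 7, 7, 7, 8], [9, 9, 10, 10, 10, 9], [8, 8, 8, 9, 8, 8], [7, 8, 7, 7, 8, 8]],
    [[9, 9, 9, 9, 9, 9], [8, 8, 7, 7, 7, 7], [8, 7, 8, 7, 7, 7], [8, 9, 9, 10, 9, 9], [8, 8, 8, 8, 9, 8], [8, 7, 7, 7, 7, 8]],
    [[7, 8, 7, 7, 7, 7], [8, 8, 9, 8, 8, 8], [9, 9, 9, 9, 9, 9], [8, 7, 7, 7, 7, 7], [8, 9, 9, 10, 9, 9], [8, 8, 8, 8, 9, 8]],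
    [[9, 8, 8, 8, 8, 8], [8, 9, 8, 9, 8, 8], [8, 8, 9, 9, 8, 8], [8, 8, 8, 7, 8, 8], [8, 8, 8, 9, 9, 8], [8, 8, 8, 8, 8, 9]],
    [[9, 8, 8, 8, 8, 8], [8, 8, 8, 9, 8, 8], [8, 9, 9, 9, 8, 8], [8, 7, 8, 7, 8, 8], [8, 9, 8, 9, 9, 8], [8, 8, 8, 8, 8, 9]],
    [[9, 8, 8, 8, 8, 8], [8, 7, 8, 8, 8, 8], [8, 8, 9, 8, 8, 8], [8, 9, 8, 9, 8, 8], [8, 8, 8, 8, 9, 8], [8, 8, 8, 8, 8, 9]],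
    [[7, 8, 7, 7, 7, 7], [8, 7, 8, 7, 7, 7], [9, 8, 8, 8, 8, 8], [8, 9, 9, 10, 9, 9], [8, 8, 8, 7, 8, 8], [8, 8, 8, 9, 9, 8]],
    [[9, 8, 8, 8, 8, 8], [8, 9, 8, 8, 8, 8], [8, 8, 9, 8, 8, 8], [8, 8, 8, 9, 9, 8], [8, 8, 8, 8, 7, 8], [8, 8, 8, 8, 9, 9]],
    [[7, 8, 7, 7, 7, 7], [8, 7, 8, 7, 7, 7], [9, 8, 8, 8, 8, 8], [8, 9, 9, 9, 9, 9], [8, 8, 8, 9, 9, 8], [8, 8, 8, 8, 7, 8]],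
    [[9, 8, 8, 8, 8, 8], [8, 9, 8, 8, 8, 8], [8, 8, 9, 8, 8, 8], [8, 8, 8, 9, 8, 8], [8, 8, 8, 8, 9, 9], [8, 8, 8, 8, 8, 7]]]

def stepsE6 : List (ℕ × ℕ) := [(0, 0), (2, 2), (3, 3), (0, 2), (5, 4), (0, 1), (7, 6), (0, 8), (9, 6), (0, 10), (11, 6), (0, 12), (13, 6), (0, 14), (15, 6), (10, 16), (17, 10), (0, 16), (19, 6), (0, 20), (21, 6)]

def whE6 : List ℕ := [1, 18, 8, 16, 20, 22]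

theorem topE6 : Subgroup.closure (({((List.finRange 6).map CoxeterMatrix.E₆.simple).prod} : Set CoxeterMatrix.E₆.Group) ∪
    {CoxeterMatrix.E₆.simple 0}) = ⊤ := by
  have h := closure_eq_top_of_SLP CoxeterMatrix.E₆ helper19_CoxE6.hR helper19_CoxE6.inj6
    (({((List.finRange 6).map (truncTo CoxeterMatrix.E₆ 6 le_rfl).simple).prod} : Set (truncTo CoxeterMatrix.E₆ 6 le_rfl).Group) ∪ {(truncTo CoxeterMatrix.E₆ 6 le_rfl).simple 0}) [0]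
    (Set.mem_union_left _ rfl)
    (by
      intro t ht h
      apply Set.mem_union_right
      replace ht : t < 1 := ht
      interval_cases t <;> simp)
    matsE6 stepsE6 (by decide +kernel) (by decide +kernel) (by decide +kernel) whE6
    (by decide +kernel)
  rw [truncTo_self] at h
  exact h

/-! ### type E7 -/

def matsE7 : List (List (List ℕ)) := [
    [[7, 8, 7, 7, 7, 7, 7], [8, 7, 8, 7, 7, 7, 7], [9, 8, 8, 8, 8, 8, 8], [8, 9, 9, 9, 9, 9, 9], [8, 8, 8, 9, 8, 8, 8], [8, 8, 8, 8, 9, 8, 8], [8, 8, 8, 8, 8, 9, 8]],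
    [[9, 8, 8, 8, 8, 8, 8], [8, 7, 8, 8, 8, 8, 8], [8, 8, 9, 8, 8, 8, 8], [8, 9, 8, 9, 8, 8, 8], [8, 8, 8, 8, 9, 8, 8], [8, 8, 8, 8, 8, 9, 8], [8, 8, 8, 8, 8, 8, 9]],
    [[8, 7, 8, 7, 7, 7, 8], [8, 8, 7, 7, 7, 7, 8], [7, 8, 7, 7, 7, 7, 7], [9, 8, 9, 9, 9, 9, 8], [8, 9, 9, 9, 9, 9, 9], [8, 8, 8, 9, 8, 8, 8], [8, 8, 8, 8, 9, 8, 8]],
    [[7, 7, 7, 6, 7, 7, 7], [8, 7, 7, 6, 7, 7, 8], [8, 8, 7, 7, 7, 8, 8], [8, 8, 9, 9, 8, 8, 8], [8, 9, 8, 9, 9, 8, 8], [9, 8, 9, 9, 9, 9, 8], [8, 9, 9, 9, 9, 9, 9]],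
    [[8, 8, 7, 8, 8, 8, 8], [7, 8, 7, 7, 8, 8, 8], [8, 7, 8, 7, 8, 8, 8], [8, 8, 8, 8, 7, 8, 8], [8, 8, 8, 8, 8, 7, 8], [8, 8, 8, 8, 8, 8, 7], [9, 9, 9, 9, 9, 9, 9]],
    [[8, 9, 8, 9, 8, 8, 8], [8, 9, 9, 9, 9, 8, 8], [9, 8, 9, 9, 9, 8, 8], [8, 8, 8, 8, 8, 9, 8], [8, 8, 8, 8, 8, 8, 9], [7, 7, 7, 7, 7, 7, 7], [8, 8, 7, 7, 8, 8, 8]],
    [[8, 8, 9, 8, 8, 8, 8], [9, 8, 9, 9, 8, 8, 8], [8, 9, 8, 9, 8, 8, 8], [8, 8, 8, 8, 9, 8, 8], [8, 8, 8, 8, 8, 9, 8], [8, 8, 8, 8, 8, 8, 9], [7, 7, 7, 7, 7, 7, 7]],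
    [[7, 7, 7, 7, 7, 7, 7], [8, 8, 8, 7, 7, 7, 7], [9, 8, 8, 8, 8, 8, 8], [8, 8, 9, 9, 9, 9, 9], [8, 9, 8, 9, 8, 8, 8], [8, 8, 8, 8, 9, 8, 8], [8, 8, 8, 8, 8, 9, 8]],
    [[8, 8, 7, 7, 8, 8, 8], [9, 9, 9, 9, 8, 8, 8], [8, 8, 9, 8, 8, 8, 8], [7, 8, 7, 8, 8, 8, 8], [9, 8, 9, 9, 9, 8, 8], [8, 8, 8, 8, 8, 9, 8], [8, 8, 8, 8, 8, 8, 9]],
    [[8, 8, 8, 8, 7, 7, 7], [7, 7, 7, 6, 7, 7, 7], [8, 8, 7, 7, 8, 8, 8], [9, 9, 10, 10, 9, 9, 9], [7, 8, 7, 8, 8, 8, 8], [9, 8, 9, 9, 9, 8, 8], [8, 8, 8, 8, 8, 9, 8]],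
    [[9, 9, 9, 9, 9, 8, 8], [8, 8, 7, 7, 7, 8, 8], [8, 7, 8, 7, 7, 8, 8], [8, 9, 9, 10, 9, 8, 8], [8, 7, 7, 7, 8, 8, 8], [8, 9, 9, 9, 9, 9, 8], [8, 8, 8, 8, 8, 8, 9]],
    [[7, 7, 6, 6, 6, 7, 7], [8, 7, 8, 7, 7, 7, 7], [9, 9, 9, 9, 9, 8, 8], [8, 8, 8, 8, 8, 9, 9], [8, 9, 9, 10, 9, 8, 8], [8, 7, 7, 7, 8, 8, 8], [8, 9, 9, 9, 9, 9, 8]],
    [[8, 7, 7, 6, 7, 7, 8], [8, 9, 8, 8, 8, 8, 8], [9, 9, 10, 10, 9, 9, 8], [7, 7, 7, 7, 7, 7, 8], [9, 9, 9, 10, 10, 9, 8], [7, 7, 7, 6, 7, 8, 8], [9, 9, 9, 10, 9, 9, 9]],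
    [[7, 8, 7, 7, 7, 7, 7], [8, 7, 8, 7, 7, 7, 7], [8, 7, 7, 6, 7, 7, 8], [9, 10, 10, 11, 10, 10, 9], [7, 7, 7, 7, 7, 7, 8], [9, 9, 9, 10, 10, 9, 8], [7, 7, 7, 6, 7, 8, 8]],
    [[9, 8, 8, 8, 8, 8, 8], [8, 9, 8, 8, 8, 8, 8], [7, 7, 7, 6, 6, 7, 7], [9, 9, 10, 11, 10, 9, 9], [7, 7, 6, 6, 7, 7, 7], [9, 9, 10, 10, 10, 10, 9], [7, 7, 6, 6, 6, 7, 8]],
    [[8, 9, 9, 9, 9, 8, 8], [8, 7, 8, 7, 7, 7, 7], [9, 8, 8, 8, 8, 8, 8], [7, 8, 7, 7, 7, 8, 8], [9, 9, 10, 11, 10, 9, 9], [7, 7, 6, 6, 7, 7, 7], [9, 9, 10, 10, 10, 10, 9]],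
    [[9, 9, 9, 10, 9, 9, 8], [8, 9, 8, 8, 8, 8, 8], [8, 8, 9, 8, 8, 8, 8], [8, 7, 7, 7, 7, 7, 8], [8, 9, 9, 10, 10, 9, 8], [8, 7, 7, 6, 7, 8, 8], [8, 9, 9, 10, 9, 9, 9]],
    [[8, 9, 9, 10, 9, 9, 8], [8, 9, 8, 8, 8, 8, 8], [9, 8, 9, 8, 8, 8, 8], [7, 7, 7, 7, 7, 7, 8], [9, 9, 9, 10, 10, 9, 8], [7, 7, 7, 6, 7, 8, 8], [9, 9, 9, 10, 9, 9, 9]],
    [[7, 8, 8, 8, 8, 8, 8], [8, 9, 8, 8, 8, 8, 8], [9, 8, 9, 8, 8, 8, 8], [8, 8, 8, 9, 8, 8, 8], [8, 8, 8, 8, 9, 8, 8], [8, 8, 8, 8, 8, 9, 8], [8, 8, 8, 8, 8, 8, 9]],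
    [[7, 7, 6, 5, 6, 6, 7], [8, 7, 8, 7, 7, 7, 7], [9, 9, 9, 10, 9, 9, 8], [8, 9, 9, 9, 9, 9, 9], [8, 7, 7, 7, 7, 7, 8], [8, 9, 9, 10, 10, 9, 8], [8, 7, 7, 6, 7, 8, 8]],
    [[8, 7, 7, 6, 6, 7, 7], [8, 9, 8, 8, 8, 8, 8], [9, 9, 10, 10, 10, 9, 9], [8, 8, 8, 9, 8, 8, 8], [7, 7, 7, 6, 7, 7, 7], [9, 9, 9, 10, 10, 10, 9], [7, 7, 7, 6, 6, 7, 8]],
    [[8, 7, 7, 6, 6, 7, 7], [8, 9, 8, 8, 8, 8, 8], [9, 9, 9, 10, 10, 9, 9], [8, 8, 9, 9, 8, 8, 8], [7, 7, 6, 6, 7, 7, 7], [9, 9, 10, 10, 10, 10, 9], [7, 7, 6, 6, 6, 7, 8]],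
    [[9, 8, 9, 8, 8, 8, 8], [8, 9, 8, 8, 8, 8, 8], [8, 8, 7, 8, 8, 8, 8], [8, 8, 9, 9, 8, 8, 8], [8, 8, 8, 8, 9, 8, 8], [8, 8, 8, 8, 8, 9, 8], [8, 8, 8, 8, 8, 8, 9]],
    [[8, 9, 8, 9, 9, 8, 8], [9, 8, 9, 9, 9, 8, 8], [8, 7, 7, 6, 6, 7, 7], [8, 9, 9, 9, 9, 9, 9], [8, 8, 8, 9, 8, 8, 8], [7, 7, 7, 6, 7, 7, 7], [9, 9, 9, 10, 10, 10, 9]],
    [[9, 8, 9, 9, 9, 9, 8], [8, 9, 9, 9, 9, 9, 8], [8, 8, 8, 7, 7, 7, 8], [8, 8, 8, 9, 8, 8, 8], [8, 8, 8, 8, 9, 8, 8], [8, 8, 7, 7, 7, 8, 8], [8, 8, 9, 9, 9, 9, 9]],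
    [[9, 9, 9, 10, 9, 9, 8], [8, 9, 9, 9, 9, 9, 8], [8, 8, 8, 7, 7, 7, 8], [8, 7, 8, 8, 8, 8, 8], [8, 9, 8, 9, 9, 8, 8], [8, 7, 7, 6, 7, 8, 8], [8, 9, 9, 10, 9, 9, 9]],
    [[9, 8, 8, 8, 8, 8, 8], [8, 8, 8, 7, 8, 8, 8], [8, 9, 9, 9, 8, 8, 8], [8, 7, 8, 8, 8, 8, 8], [8, 9, 8, 9, 9, 8, 8], [8, 8, 8, 8, 8, 9, 8], [8, 8, 8, 8, 8, 8, 9]],
    [[9, 8, 8, 8, 8, 8, 8], [8, 8, 8, 9, 8, 8, 8], [8, 9, 9, 9, 8, 8, 8], [8, 7, 8, 7, 8, 8, 8], [8, 9, 8, 9, 9, 8, 8], [8, 8, 8, 8, 8, 9, 8], [8, 8, 8, 8, 8, 8, 9]],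
    [[9, 8, 8, 8, 8, 8, 8], [8, 9, 8, 9, 8, 8, 8], [8, 8, 9, 9, 8, 8, 8], [8, 8, 8, 7, 8, 8, 8], [8, 8, 8, 9, 9, 8, 8], [8, 8, 8, 8, 8, 9, 8], [8, 8, 8, 8, 8, 8, 9]],
    [[7, 8, 7, 7, 7, 7, 7], [8, 7, 7, 6, 6, 6, 7], [9, 8, 9, 9, 9, 9, 8], [8, 9, 9, 9, 9, 9, 9], [8, 8, 8, 9, 8, 8, 8], [8, 8, 8, 8, 9, 8, 8], [8, 8, 7, 7, 7, 8, 8]],
    [[9, 8, 8, 8, 8, 8, 8], [8, 8, 8, 7, 7, 7, 7], [8, 9, 9, 9, 9, 9, 9], [8, 8, 8, 9, 8, 8, 8], [8, 8, 8, 8, 9, 8, 8], [8, 8, 8, 8, 8, 9, 8], [8, 7, 8, 7, 7, 7, 8]],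
    [[8, 8, 7, 7, 7, 8, 8], [8, 8, 8, 7, 7, 7, 7], [9, 9, 10, 10, 10, 9, 9], [8, 8, 8, 9, 8, 8, 8], [7, 8, 7, 7, 8, 8, 8], [9, 8, 9, 9, 9, 9, 8], [7, 7, 7, 6, 6, 7, 8]],
    [[8, 8, 7, 7, 7, 8, 8], [9, 9, 9, 9, 9, 8, 8], [8, 8, 9, 8, 8, 8, 8], [8, 8, 8, 9, 8, 8, 8], [7, 8, 7, 7, 8, 8, 8], [9, 8, 9, 9, 9, 9, 8], [8, 8, 8, 8, 8, 8, 9]],
    [[8, 8, 7, 7, 8, 8, 8], [9, 9, 9, 9, 8, 8, 8], [8, 8, 9, 8, 8, 8, 8], [8, 8, 8, 9, 9, 8, 8], [7, 8, 7, 7, 7, 8, 8], [9, 8, 9, 9, 9, 9, 8], [8, 8, 8, 8, 8, 8, 9]],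
    [[9, 8, 8, 8, 8, 8, 8], [8, 9, 8, 8, 8, 8, 8], [8, 8, 9, 8, 8, 8, 8], [8, 8, 8, 9, 9, 8, 8], [8, 8, 8, 8, 7, 8, 8], [8, 8, 8, 8, 9, 9, 8], [8, 8, 8, 8, 8, 8, 9]],
    [[9, 8, 9, 9, 9, 9, 8], [8, 7, 7, 7, 7, 7, 8], [8, 8, 8, 7, 7, 7, 8], [8, 9, 9, 10, 9, 9, 8], [8, 8, 8, 8, 9, 8, 8], [8, 8, 7, 7, 7, 8, 8], [8, 8, 9, 9, 9, 9, 9]],
    [[9, 9, 9, 9, 9, 9, 8], [8, 8, 7, 7, 7, 7, 8], [8, 7, 8, 7, 7, 7, 8], [8, 9, 9, 10, 9, 9, 8], [8, 8, 8, 8, 9, 8, 8], [8, 7, 7, 7, 7, 8, 8], [8, 9, 9, 9, 9, 9, 9]],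
    [[9, 9, 9, 9, 9, 8, 8], [8, 8, 7, 7, 7, 8, 8], [8, 7, 8, 7, 7, 8, 8], [8, 9, 9, 10, 9, 8, 8], [8, 8, 8, 8, 9, 9, 8], [8, 7, 7, 7, 7, 7, 8], [8, 9, 9, 9, 9, 9, 9]],
    [[9, 8, 8, 8, 8, 8, 8], [8, 9, 8, 8, 8, 8, 8], [8, 8, 9, 8, 8, 8, 8], [8, 8, 8, 9, 8, 8, 8], [8, 8, 8, 8, 9, 9, 8], [8, 8, 8, 8, 8, 7, 8], [8, 8, 8, 8, 8, 9, 9]],
    [[8, 7, 7, 6, 7, 7, 7], [9, 9, 9, 9, 8, 8, 8], [8, 9, 9, 9, 9, 9, 9], [7, 7, 7, 7, 7, 7, 7], [9, 9, 9, 10, 10, 9, 9], [8, 8, 8, 8, 8, 9, 8], [8, 7, 8, 7, 7, 7, 8]],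
    [[8, 7, 7, 6, 7, 7, 7], [8, 9, 8, 8, 8, 8, 8], [9, 9, 10, 10, 9, 9, 9], [7, 7, 7, 7, 7, 7, 7], [9, 9, 9, 10, 10, 9, 9], [8, 8, 8, 8, 8, 9, 8], [7, 7, 7, 6, 7, 7, 8]],
    [[8, 7, 7, 6, 7, 7, 8], [8, 9, 8, 8, 8, 8, 8], [9, 9, 10, 10, 9, 9, 8], [7, 7, 7, 7, 7, 7, 8], [9, 9, 9, 10, 10, 9, 8], [8, 8, 8, 8, 8, 9, 9], [7, 7, 7, 6, 7, 7, 7]],
    [[9, 8, 8, 8, 8, 8, 8], [8, 9, 8, 8, 8, 8, 8], [8, 8, 9, 8, 8, 8, 8], [8, 8, 8, 9, 8, 8, 8], [8, 8, 8, 8, 9, 8, 8], [8, 8, 8, 8, 8, 9, 9], [8, 8, 8, 8, 8, 8, 7]]]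

def stepsE7 : List (ℕ × ℕ) := [(0, 0), (2, 2), (3, 3), (4, 4), (0, 5), (0, 1), (7, 6), (0, 8), (9, 6), (0, 10), (11, 6), (0, 12), (13, 6), (0, 14), (15, 6), (12, 16), (17, 12), (0, 16), (19, 6), (14, 20), (21, 14), (0, 20), (23, 6), (16, 24), (25, 16), (1, 26), (27, 1), (0, 24), (29, 6), (20, 30), (31, 20), (8, 32), (33, 8), (1, 24), (35, 1), (10, 36), (37, 10), (8, 30), (39, 8), (12, 40), (41, 12)]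

def whE7 : List ℕ := [18, 1, 22, 28, 34, 38, 42]

theorem topE7 : Subgroup.closure (({((List.finRange 7).map CoxeterMatrix.E₇.simple).prod} : Set CoxeterMatrix.E₇.Group) ∪
    {CoxeterMatrix.E₇.simple 1}) = ⊤ := by
  have h := closure_eq_top_of_SLP CoxeterMatrix.E₇ helper19_CoxE7.hR helper19_CoxE7.inj7
    (({((List.finRange 7).map (truncTo CoxeterMatrix.E₇ 7 le_rfl).simple).prod} : Set (truncTo CoxeterMatrix.E₇ 7 le_rfl).Group) ∪ {(truncTo CoxeterMatrix.E₇ 7 le_rfl).simple 1}) [1]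
    (Set.mem_union_left _ rfl)
    (by
      intro t ht h
      apply Set.mem_union_right
      replace ht : t < 1 := ht
      interval_cases t <;> simp)
    matsE7 stepsE7 (by decide +kernel) (by decide +kernel) (by decide +kernel) whE7
    (by decide +kernel)
  rw [truncTo_self] at h
  exact h

/-! ### type E8 -/

def matsE8 : List (List (List ℕ)) := [
    [[7, 8, 7, 7, 7, 7, 7, 7], [8, 7, 8, 7, 7, 7, 7, 7], [9, 8, 8, 8, 8, 8, 8, 8], [8, 9, 9, 9, 9, 9, 9, 9], [8, 8, 8, 9, 8, 8, 8, 8], [8, 8, 8, 8, 9, 8, 8, 8], [8, 8, 8, 8, 8, 9, 8, 8], [8, 8, 8, 8, 8, 8, 9, 8]],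
    [[7, 8, 8, 8, 8, 8, 8, 8], [8, 9, 8, 8, 8, 8, 8, 8], [9, 8, 9, 8, 8, 8, 8, 8], [8, 8, 8, 9, 8, 8, 8, 8], [8, 8, 8, 8, 9, 8, 8, 8], [8, 8, 8, 8, 8, 9, 8, 8], [8, 8, 8, 8, 8, 8, 9, 8], [8, 8, 8, 8, 8, 8, 8, 9]],
    [[8, 7, 8, 7, 7, 7, 7, 8], [8, 8, 7, 7, 7, 7, 7, 8], [7, 8, 7, 7, 7, 7, 7, 7], [9, 8, 9, 9, 9, 9, 9, 8], [8, 9, 9, 9, 9, 9, 9, 9], [8, 8, 8, 9, 8, 8, 8, 8], [8, 8, 8, 8, 9, 8, 8, 8], [8, 8, 8, 8, 8, 9, 8, 8]],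
    [[7, 7, 7, 6, 6, 7, 7, 7], [8, 7, 7, 6, 6, 7, 7, 8], [8, 8, 7, 7, 7, 7, 8, 8], [8, 8, 9, 9, 9, 8, 8, 8], [8, 9, 8, 9, 9, 9, 8, 8], [9, 8, 9, 9, 9, 9, 9, 8], [8, 9, 9, 9, 9, 9, 9, 9], [8, 8, 8, 9, 8, 8, 8, 8]],
    [[8, 7, 7, 6, 7, 7, 8, 8], [7, 6, 6, 5, 5, 6, 7, 7], [7, 7, 7, 6, 6, 7, 7, 8], [8, 9, 8, 9, 9, 8, 8, 8], [9, 8, 9, 9, 9, 9, 8, 8], [8, 9, 9, 9, 9, 9, 9, 8], [9, 9, 9, 10, 9, 9, 9, 9], [8, 8, 9, 9, 9, 8, 8, 8]],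
    [[9, 8, 9, 9, 9, 9, 9, 9], [8, 9, 8, 9, 9, 9, 9, 9], [7, 8, 8, 8, 8, 8, 8, 8], [8, 7, 7, 7, 7, 7, 7, 7], [8, 8, 8, 7, 8, 8, 8, 8], [8, 8, 8, 8, 7, 8, 8, 8], [8, 8, 8, 8, 8, 7, 8, 8], [8, 8, 8, 8, 8, 8, 7, 8]],
    [[8, 7, 7, 6, 7, 7, 7, 8], [7, 7, 6, 5, 6, 6, 7, 7], [7, 7, 7, 6, 6, 7, 7, 7], [9, 9, 9, 10, 9, 9, 9, 9], [8, 8, 9, 9, 9, 8, 8, 8], [8, 9, 8, 9, 9, 9, 8, 8], [9, 8, 9, 9, 9, 9, 9, 8], [8, 9, 9, 9, 9, 9, 9, 9]],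
    [[8, 7, 8, 7, 8, 8, 8, 8], [8, 7, 7, 7, 7, 8, 8, 8], [7, 8, 7, 7, 7, 8, 8, 8], [8, 8, 8, 8, 8, 7, 8, 8], [8, 8, 8, 8, 8, 8, 7, 8], [8, 8, 8, 8, 8, 8, 8, 7], [9, 9, 9, 9, 9, 9, 9, 9], [8, 8, 9, 9, 8, 8, 8, 8]],
    [[8, 8, 9, 8, 8, 8, 8, 8], [9, 8, 9, 9, 8, 8, 8, 8], [8, 9, 8, 9, 8, 8, 8, 8], [8, 8, 8, 8, 9, 8, 8, 8], [8, 8, 8, 8, 8, 9, 8, 8], [8, 8, 8, 8, 8, 8, 9, 8], [8, 8, 8, 8, 8, 8, 8, 9], [7, 7, 7, 7, 7, 7, 7, 7]],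
    [[8, 8, 7, 7, 7, 7, 7, 7], [8, 7, 8, 7, 7, 7, 7, 7], [7, 8, 8, 8, 8, 8, 8, 8], [9, 9, 9, 9, 9, 9, 9, 9], [8, 8, 8, 9, 8, 8, 8, 8], [8, 8, 8, 8, 9, 8, 8, 8], [8, 8, 8, 8, 8, 9, 8, 8], [8, 8, 8, 8, 8, 8, 9, 8]],
    [[9, 8, 9, 8, 8, 8, 8, 8], [8, 9, 8, 8, 8, 8, 8, 8], [8, 8, 7, 8, 8, 8, 8, 8], [8, 8, 9, 9, 8, 8, 8, 8], [8, 8, 8, 8, 9, 8, 8, 8], [8, 8, 8, 8, 8, 9, 8, 8], [8, 8, 8, 8, 8, 8, 9, 8], [8, 8, 8, 8, 8, 8, 8, 9]],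
    [[7, 8, 7, 7, 7, 7, 7, 7], [8, 7, 7, 7, 7, 7, 7, 7], [9, 8, 9, 8, 8, 8, 8, 8], [8, 9, 8, 9, 9, 9, 9, 9], [8, 8, 9, 9, 8, 8, 8, 8], [8, 8, 8, 8, 9, 8, 8, 8], [8, 8, 8, 8, 8, 9, 8, 8], [8, 8, 8, 8, 8, 8, 9, 8]],
    [[9, 8, 8, 8, 8, 8, 8, 8], [8, 8, 8, 7, 8, 8, 8, 8], [8, 9, 9, 9, 8, 8, 8, 8], [8, 7, 8, 8, 8, 8, 8, 8], [8, 9, 8, 9, 9, 8, 8, 8], [8, 8, 8, 8, 8, 9, 8, 8], [8, 8, 8, 8, 8, 8, 9, 8], [8, 8, 8, 8, 8, 8, 8, 9]],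
    [[7, 7, 7, 6, 7, 7, 7, 7], [8, 8, 8, 8, 7, 7, 7, 7], [9, 8, 8, 8, 8, 8, 8, 8], [8, 9, 9, 9, 9, 9, 9, 9], [8, 7, 8, 8, 8, 8, 8, 8], [8, 9, 8, 9, 9, 8, 8, 8], [8, 8, 8, 8, 8, 9, 8, 8], [8, 8, 8, 8, 8, 8, 9, 8]],
    [[8, 8, 7, 7, 7, 8, 8, 8], [9, 9, 9, 9, 9, 8, 8, 8], [8, 8, 9, 8, 8, 8, 8, 8], [8, 8, 8, 9, 8, 8, 8, 8], [7, 8, 7, 7, 8, 8, 8, 8], [9, 8, 9, 9, 9, 9, 8, 8], [8, 8, 8, 8, 8, 8, 9, 8], [8, 8, 8, 8, 8, 8, 8, 9]],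
    [[8, 8, 8, 8, 8, 7, 7, 7], [7, 7, 7, 6, 6, 7, 7, 7], [8, 8, 7, 7, 7, 8, 8, 8], [9, 9, 10, 10, 10, 9, 9, 9], [8, 8, 8, 9, 8, 8, 8, 8], [7, 8, 7, 7, 8, 8, 8, 8], [9, 8, 9, 9, 9, 9, 8, 8], [8, 8, 8, 8, 8, 8, 9, 8]],
    [[9, 9, 9, 9, 9, 9, 8, 8], [8, 8, 7, 7, 7, 7, 8, 8], [8, 7, 8, 7, 7, 7, 8, 8], [8, 9, 9, 10, 9, 9, 8, 8], [8, 8, 8, 8, 9, 8, 8, 8], [8, 7, 7, 7, 7, 8, 8, 8], [8, 9, 9, 9, 9, 9, 9, 8], [8, 8, 8, 8, 8, 8, 8, 9]],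
    [[7, 7, 6, 6, 6, 6, 7, 7], [8, 7, 8, 7, 7, 7, 7, 7], [9, 9, 9, 9, 9, 9, 8, 8], [8, 8, 8, 8, 8, 8, 9, 9], [8, 9, 9, 10, 9, 9, 8, 8], [8, 8, 8, 8, 9, 8, 8, 8], [8, 7, 7, 7, 7, 8, 8, 8], [8, 9, 9, 9, 9, 9, 9, 8]],
    [[8, 7, 7, 6, 7, 7, 7, 8], [8, 9, 8, 8, 8, 8, 8, 8], [9, 9, 10, 10, 9, 9, 9, 8], [7, 7, 7, 7, 7, 7, 7, 8], [9, 9, 9, 10, 10, 9, 9, 8], [8, 8, 8, 8, 8, 9, 8, 8], [7, 7, 7, 6, 7, 7, 8, 8], [9, 9, 9, 10, 9, 9, 9, 9]],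
    [[7, 8, 7, 7, 7, 7, 7, 7], [8, 7, 8, 7, 7, 7, 7, 7], [8, 7, 7, 6, 7, 7, 7, 8], [9, 10, 10, 11, 10, 10, 10, 9], [7, 7, 7, 7, 7, 7, 7, 8], [9, 9, 9, 10, 10, 9, 9, 8], [8, 8, 8, 8, 8, 9, 8, 8], [7, 7, 7, 6, 7, 7, 8, 8]],
    [[9, 8, 8, 8, 8, 8, 8, 8], [8, 9, 8, 8, 8, 8, 8, 8], [7, 7, 7, 6, 6, 7, 7, 7], [9, 9, 10, 11, 10, 9, 9, 9], [7, 7, 6, 6, 7, 7, 7, 7], [9, 9, 10, 10, 10, 10, 9, 9], [8, 8, 8, 8, 8, 8, 9, 8], [7, 7, 6, 6, 6, 7, 7, 8]],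
    [[8, 9, 9, 9, 9, 8, 8, 8], [8, 7, 8, 7, 7, 7, 7, 7], [9, 8, 8, 8, 8, 8, 8, 8], [7, 8, 7, 7, 7, 8, 8, 8], [9, 9, 10, 11, 10, 9, 9, 9], [7, 7, 6, 6, 7, 7, 7, 7], [9, 9, 10, 10, 10, 10, 9, 9], [8, 8, 8, 8, 8, 8, 9, 8]],
    [[9, 9, 9, 10, 9, 9, 8, 8], [8, 9, 8, 8, 8, 8, 8, 8], [8, 8, 9, 8, 8, 8, 8, 8], [8, 7, 7, 7, 7, 7, 8, 8], [8, 9, 9, 10, 10, 9, 8, 8], [8, 7, 7, 6, 7, 8, 8, 8], [8, 9, 9, 10, 9, 9, 9, 8], [8, 8, 8, 8, 8, 8, 8, 9]],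
    [[7, 7, 6, 5, 6, 6, 7, 7], [8, 7, 8, 7, 7, 7, 7, 7], [9, 9, 9, 10, 9, 9, 8, 8], [8, 9, 9, 9, 9, 9, 9, 9], [8, 7, 7, 7, 7, 7, 8, 8], [8, 9, 9, 10, 10, 9, 8, 8], [8, 7, 7, 6, 7, 8, 8, 8], [8, 9, 9, 10, 9, 9, 9, 8]],
    [[8, 7, 7, 6, 6, 7, 7, 8], [8, 9, 8, 8, 8, 8, 8, 8], [9, 9, 10, 10, 10, 9, 9, 8], [8, 8, 8, 9, 8, 8, 8, 8], [7, 7, 7, 6, 7, 7, 7, 8], [9, 9, 9, 10, 10, 10, 9, 8], [7, 7, 7, 6, 6, 7, 8, 8], [9, 9, 9, 10, 10, 9, 9, 9]],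
    [[7, 8, 7, 7, 7, 7, 7, 7], [8, 7, 8, 7, 7, 7, 7, 7], [8, 7, 7, 6, 6, 7, 7, 8], [9, 10, 10, 11, 11, 10, 10, 9], [8, 8, 8, 9, 8, 8, 8, 8], [7, 7, 7, 6, 7, 7, 7, 8], [9, 9, 9, 10, 10, 10, 9, 8], [7, 7, 7, 6, 6, 7, 8, 8]],
    [[9, 8, 8, 8, 8, 8, 8, 8], [8, 9, 8, 8, 8, 8, 8, 8], [7, 7, 7, 6, 6, 6, 7, 7], [9, 9, 10, 11, 10, 10, 9, 9], [8, 8, 8, 8, 9, 8, 8, 8], [7, 7, 6, 6, 6, 7, 7, 7], [9, 9, 10, 10, 10, 10, 10, 9], [7, 7, 6, 6, 6, 6, 7, 8]],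
    [[8, 9, 9, 9, 9, 9, 8, 8], [8, 7, 8, 7, 7, 7, 7, 7], [9, 8, 8, 8, 8, 8, 8, 8], [7, 8, 7, 7, 7, 7, 8, 8], [9, 9, 10, 11, 10, 10, 9, 9], [8, 8, 8, 8, 9, 8, 8, 8], [7, 7, 6, 6, 6, 7, 7, 7], [9, 9, 10, 10, 10, 10, 10, 9]],
    [[9, 9, 9, 10, 9, 9, 9, 8], [8, 9, 8, 8, 8, 8, 8, 8], [8, 8, 9, 8, 8, 8, 8, 8], [8, 7, 7, 7, 7, 7, 7, 8], [8, 9, 9, 10, 10, 9, 9, 8], [8, 8, 8, 8, 8, 9, 8, 8], [8, 7, 7, 6, 7, 7, 8, 8], [8, 9, 9, 10, 9, 9, 9, 9]],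
    [[7, 7, 6, 5, 6, 6, 6, 7], [8, 7, 8, 7, 7, 7, 7, 7], [9, 9, 9, 10, 9, 9, 9, 8], [8, 9, 9, 9, 9, 9, 9, 9], [8, 7, 7, 7, 7, 7, 7, 8], [8, 9, 9, 10, 10, 9, 9, 8], [8, 8, 8, 8, 8, 9, 8, 8], [8, 7, 7, 6, 7, 7, 8, 8]],
    [[8, 7, 7, 6, 6, 7, 7, 7], [8, 9, 8, 8, 8, 8, 8, 8], [9, 9, 10, 10, 10, 9, 9, 9], [8, 8, 8, 9, 8, 8, 8, 8], [7, 7, 7, 6, 7, 7, 7, 7], [9, 9, 9, 10, 10, 10, 9, 9], [8, 8, 8, 8, 8, 8, 9, 8], [7, 7, 7, 6, 6, 7, 7, 8]],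
    [[8, 9, 8, 9, 9, 8, 8, 8], [9, 8, 9, 9, 9, 8, 8, 8], [8, 7, 7, 6, 6, 7, 7, 7], [8, 9, 9, 9, 9, 9, 9, 9], [8, 8, 8, 9, 8, 8, 8, 8], [7, 7, 7, 6, 7, 7, 7, 7], [9, 9, 9, 10, 10, 10, 9, 9], [8, 8, 8, 8, 8, 8, 9, 8]],
    [[9, 8, 9, 9, 9, 9, 8, 8], [8, 9, 9, 9, 9, 9, 8, 8], [8, 8, 8, 7, 7, 7, 8, 8], [8, 8, 8, 9, 8, 8, 8, 8], [8, 8, 8, 8, 9, 8, 8, 8], [8, 8, 7, 7, 7, 8, 8, 8], [8, 8, 9, 9, 9, 9, 9, 8], [8, 8, 8, 8, 8, 8, 8, 9]],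
    [[9, 9, 9, 9, 9, 9, 8, 8], [8, 8, 9, 9, 9, 9, 8, 8], [8, 7, 8, 7, 7, 7, 8, 8], [8, 9, 8, 9, 8, 8, 8, 8], [8, 8, 8, 8, 9, 8, 8, 8], [8, 7, 7, 7, 7, 8, 8, 8], [8, 9, 9, 9, 9, 9, 9, 8], [8, 8, 8, 8, 8, 8, 8, 9]],
    [[9, 8, 8, 8, 8, 8, 8, 8], [8, 7, 8, 8, 8, 8, 8, 8], [8, 8, 9, 8, 8, 8, 8, 8], [8, 9, 8, 9, 8, 8, 8, 8], [8, 8, 8, 8, 9, 8, 8, 8], [8, 8, 8, 8, 8, 9, 8, 8], [8, 8, 8, 8, 8, 8, 9, 8], [8, 8, 8, 8, 8, 8, 8, 9]],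
    [[9, 9, 9, 9, 9, 9, 8, 8], [8, 9, 8, 9, 8, 8, 8, 8], [8, 8, 9, 9, 8, 8, 8, 8], [8, 7, 7, 6, 7, 7, 8, 8], [8, 9, 9, 10, 10, 9, 8, 8], [8, 7, 7, 7, 7, 8, 8, 8], [8, 9, 9, 9, 9, 9, 9, 8], [8, 8, 8, 8, 8, 8, 8, 9]],
    [[9, 8, 8, 8, 8, 8, 8, 8], [8, 9, 8, 9, 8, 8, 8, 8], [8, 8, 9, 9, 8, 8, 8, 8], [8, 8, 8, 7, 8, 8, 8, 8], [8, 8, 8, 9, 9, 8, 8, 8], [8, 8, 8, 8, 8, 9, 8, 8], [8, 8, 8, 8, 8, 8, 9, 8], [8, 8, 8, 8, 8, 8, 8, 9]],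
    [[8, 7, 7, 6, 7, 7, 7, 8], [8, 9, 8, 8, 8, 8, 8, 8], [9, 9, 10, 10, 9, 9, 9, 8], [8, 8, 8, 9, 9, 8, 8, 8], [7, 7, 7, 6, 6, 7, 7, 8], [9, 9, 9, 10, 10, 10, 9, 8], [7, 7, 7, 6, 7, 7, 8, 8], [9, 9, 9, 10, 9, 9, 9, 9]],
    [[9, 8, 8, 8, 8, 8, 8, 8], [8, 9, 8, 8, 8, 8, 8, 8], [8, 8, 9, 8, 8, 8, 8, 8], [8, 8, 8, 9, 9, 8, 8, 8], [8, 8, 8, 8, 7, 8, 8, 8], [8, 8, 8, 8, 9, 9, 8, 8], [8, 8, 8, 8, 8, 8, 9, 8], [8, 8, 8, 8, 8, 8, 8, 9]],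
    [[9, 8, 8, 8, 8, 8, 8, 8], [8, 9, 8, 8, 8, 8, 8, 8], [7, 7, 7, 6, 6, 7, 7, 7], [9, 9, 10, 11, 10, 9, 9, 9], [8, 8, 8, 8, 9, 9, 8, 8], [7, 7, 6, 6, 6, 6, 7, 7], [9, 9, 10, 10, 10, 10, 10, 9], [7, 7, 6, 6, 6, 7, 7, 8]],
    [[9, 8, 8, 8, 8, 8, 8, 8], [8, 9, 8, 8, 8, 8, 8, 8], [8, 8, 9, 8, 8, 8, 8, 8], [8, 8, 8, 9, 8, 8, 8, 8], [8, 8, 8, 8, 9, 9, 8, 8], [8, 8, 8, 8, 8, 7, 8, 8], [8, 8, 8, 8, 8, 9, 9, 8], [8, 8, 8, 8, 8, 8, 8, 9]],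
    [[9, 9, 9, 10, 9, 9, 8, 8], [8, 9, 8, 8, 8, 8, 8, 8], [8, 8, 9, 8, 8, 8, 8, 8], [8, 7, 7, 7, 7, 7, 8, 8], [8, 9, 9, 10, 10, 9, 8, 8], [8, 8, 8, 8, 8, 9, 9, 8], [8, 7, 7, 6, 7, 7, 7, 8], [8, 9, 9, 10, 9, 9, 9, 9]],
    [[9, 8, 8, 8, 8, 8, 8, 8], [8, 9, 8, 8, 8, 8, 8, 8], [8, 8, 9, 8, 8, 8, 8, 8], [8, 8, 8, 9, 8, 8, 8, 8], [8, 8, 8, 8, 9, 8, 8, 8], [8, 8, 8, 8, 8, 9, 9, 8], [8, 8, 8, 8, 8, 8, 7, 8], [8, 8, 8, 8, 8, 8, 9, 9]],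
    [[8, 7, 7, 6, 6, 7, 7, 8], [8, 9, 8, 8, 8, 8, 8, 8], [9, 9, 10, 10, 10, 9, 9, 8], [8, 8, 8, 9, 8, 8, 8, 8], [7, 7, 7, 6, 7, 7, 7, 8], [9, 9, 9, 10, 10, 10, 9, 8], [8, 8, 8, 8, 8, 8, 9, 9], [7, 7, 7, 6, 6, 7, 7, 7]],
    [[9, 8, 8, 8, 8, 8, 8, 8], [8, 9, 8, 8, 8, 8, 8, 8], [8, 8, 9, 8, 8, 8, 8, 8], [8, 8, 8, 9, 8, 8, 8, 8], [8, 8, 8, 8, 9, 8, 8, 8], [8, 8, 8, 8, 8, 9, 8, 8], [8, 8, 8, 8, 8, 8, 9, 9], [8, 8, 8, 8, 8, 8, 8, 7]]]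

def stepsE8 : List (ℕ × ℕ) := [(0, 0), (2, 2), (3, 3), (4, 4), (0, 3), (6, 4), (7, 5), (0, 1), (9, 8), (0, 10), (11, 8), (0, 12), (13, 8), (0, 14), (15, 8), (0, 16), (17, 8), (0, 18), (19, 8), (0, 20), (21, 8), (0, 22), (23, 8), (0, 24), (25, 8), (0, 26), (27, 8), (0, 28), (29, 8), (0, 30), (31, 8), (16, 32), (33, 16), (16, 22), (35, 16), (18, 24), (37, 18), (20, 26), (39, 20), (22, 28), (41, 22), (24, 30), (43, 24)]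

def whE8 : List ℕ := [1, 34, 10, 36, 38, 40, 42, 44]

theorem topE8 : Subgroup.closure (({((List.finRange 8).map CoxeterMatrix.E₈.simple).prod} : Set CoxeterMatrix.E₈.Group) ∪
    {CoxeterMatrix.E₈.simple 0}) = ⊤ := by
  have h := closure_eq_top_of_SLP CoxeterMatrix.E₈ helper19_CoxE8.hR helper19_CoxE8.inj8
    (({((List.finRange 8).map (truncTo CoxeterMatrix.E₈ 8 le_rfl).simple).prod} : Set (truncTo CoxeterMatrix.E₈ 8 le_rfl).Group) ∪ {(truncTo CoxeterMatrix.E₈ 8 le_rfl).simple 0}) [0]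
    (Set.mem_union_left _ rfl)
    (by
      intro t ht h
      apply Set.mem_union_right
      replace ht : t < 1 := ht
      interval_cases t <;> simp)
    matsE8 stepsE8 (by decide +kernel) (by decide +kernel) (by decide +kernel) whE8
    (by decide +kernel)
  rw [truncTo_self] at h
  exact h

theorem neD4 : Cfsg.Lie.coxeterD4.simple 0 ≠ Cfsg.Lie.coxeterD4.simple 2 := by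
  have h := simple_ne Cfsg.Lie.coxeterD4 helper19_CoxD4.hR (0 : Fin 4) (2 : Fin 4) (by decide +kernel)
  rw [truncTo_self] at h
  exact h

theorem neF4 : CoxeterMatrix.F₄.simple 0 ≠ CoxeterMatrix.F₄.simple 2 := by
  have h := simple_ne CoxeterMatrix.F₄ helper19_CoxF4.hR (0 : Fin 4) (2 : Fin 4) (by decide +kernel)
  rw [truncTo_self] at h
  exact h

/-- The Coxeter groups of types B₂, G₂, E₆, E₇, E₈ are generated by the Coxeter element `s₁ s₂ ⋯ s_l` together with one suitable reflection (a conjugate of a simple reflection); for types D₄ and F₄ the Coxeter element together with two suitable reflections suffices. -/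
theorem result (c : (Σ n : ℕ, CoxeterMatrix (Fin n)) × ℕ)
    (hc : c ∈ [(⟨2, CoxeterMatrix.B 2⟩, 1), (⟨2, CoxeterMatrix.G₂⟩, 1), (⟨4, Cfsg.Lie.coxeterD4⟩, 2), (⟨4, CoxeterMatrix.F₄⟩, 2),
      (⟨6, CoxeterMatrix.E₆⟩, 1), (⟨7, CoxeterMatrix.E₇⟩, 1), (⟨8, CoxeterMatrix.E₈⟩, 1)]) :
    ∃ T : Finset c.1.2.Group, T.card = c.2 ∧ (∀ t ∈ T, ∃ (g : c.1.2.Group) (i : Fin c.1.1), t = g * c.1.2.simple i * g⁻¹) ∧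
      Subgroup.closure (({((List.finRange c.1.1).map c.1.2.simple).prod} : Set c.1.2.Group) ∪ ↑T) = ⊤ := by
  classical
  simp only [List.mem_cons, List.mem_nil_iff, or_false] at hc
  rcases hc with rfl | rfl | rfl | rfl | rfl | rfl | rfl
  · refine ⟨{(CoxeterMatrix.B 2).simple 0}, Finset.card_singleton _, ?_, ?_⟩
    · intro t ht
      rw [Finset.mem_singleton] at ht
      exact ⟨1, 0, by rw [ht]; simp⟩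
    · rw [Finset.coe_singleton]
      exact topB2
  · refine ⟨{CoxeterMatrix.G₂.simple 0}, Finset.card_singleton _, ?_, ?_⟩
    · intro t ht
      rw [Finset.mem_singleton] at ht
      exact ⟨1, 0, by rw [ht]; simp⟩
    · rw [Finset.coe_singleton]
      exact topG2
  · refine ⟨{Cfsg.Lie.coxeterD4.simple 0, Cfsg.Lie.coxeterD4.simple 2}, Finset.card_pair neD4, ?_, ?_⟩
    · intro t ht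
      rw [Finset.mem_insert, Finset.mem_singleton] at ht
      rcases ht with ht | ht
      · exact ⟨1, 0, by rw [ht]; simp⟩
      · exact ⟨1, 2, by rw [ht]; simp⟩
    · rw [Finset.coe_pair]
      exact topD4
  · refine ⟨{CoxeterMatrix.F₄.simple 0, CoxeterMatrix.F₄.simple 2}, Finset.card_pair neF4, ?_, ?_⟩
    · intro t ht
      rw [Finset.mem_insert, Finset.mem_singleton] at ht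
      rcases ht with ht | ht
      · exact ⟨1, 0, by rw [ht]; simp⟩
      · exact ⟨1, 2, by rw [ht]; simp⟩
    · rw [Finset.coe_pair]
      exact topF4
  · refine ⟨{CoxeterMatrix.E₆.simple 0}, Finset.card_singleton _, ?_, ?_⟩
    · intro t ht
      rw [Finset.mem_singleton] at ht
      exact ⟨1, 0, by rw [ht]; simp⟩
    · rw [Finset.coe_singleton]
      exact topE6
  · refine ⟨{CoxeterMatrix.E₇.simple 1}, Finset.card_singleton _, ?_, ?_⟩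
    · intro t ht
      rw [Finset.mem_singleton] at ht
      exact ⟨1, 1, by rw [ht]; simp⟩
    · rw [Finset.coe_singleton]
      exact topE7
  · refine ⟨{CoxeterMatrix.E₈.simple 0}, Finset.card_singleton _, ?_, ?_⟩
    · intro t ht
      rw [Finset.mem_singleton] at ht
      exact ⟨1, 0, by rw [ht]; simp⟩
    · rw [Finset.coe_singleton]
      exact topE8

end Cfsg.Agent.S2419
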