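import Cfsg.Statements.S2429
import Cfsg.Agent.Lib.Helper41_SL2Torus

set_option autoImplicit false
open Cfsg

namespace Cfsg.Agent.S2429

open Cfsg.Agent.Lib.Helper41_SL2 Cfsg.Agent.Lib.Helper41_SL2Torus

/-- Let F be a finite field with q elements, q odd. Then SL₂ over F contains a cyclic subgroup T′ of order q + 1 (a non-split torus) with the following properties: T′ is its own centraliser, and indeed the centraliser of each element of T′ other than 1 and −1 is exactly T′; every element of SL₂ having no eigenvector in F² is conjugate to an element of T′; the normaliser of T′ has order 2(q + 1) and exactly (q + 7)/2 conjugacy classes; and every element of that normaliser outside T′ has square −1. -/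
theorem result {F : Type*} [Field F] [Fintype F] (hodd : Odd (Fintype.card F)) :
    ∃ T' : Subgroup (Matrix.SpecialLinearGroup (Fin 2) F), IsCyclic T' ∧ Nat.card T' = Fintype.card F + 1 ∧
      Subgroup.centralizer ((T' : Set (Matrix.SpecialLinearGroup (Fin 2) F))) = T' ∧
      (∀ g : Matrix.SpecialLinearGroup (Fin 2) F, g ∈ T' → (g : Matrix (Fin 2) (Fin 2) F) ≠ 1 → (g : Matrix (Fin 2) (Fin 2) F) ≠ -1 → Subgroup.centralizer ({g} : Set (Matrix.SpecialLinearGroup (Fin 2) F)) = T') ∧
      (∀ g : Matrix.SpecialLinearGroup (Fin 2) F, (∀ (c : F) (v : Fin 2 → F), v ≠ 0 → (g : Matrix (Fin 2) (Fin 2) F).mulVec v ≠ c • v) → ∃ h : Matrix.SpecialLinearGroup (Fin 2) F, h * g * h⁻¹ ∈ T') ∧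
      Nat.card (Subgroup.normalizer (T' : Set (Matrix.SpecialLinearGroup (Fin 2) F))) = 2 * (Fintype.card F + 1) ∧
      Nat.card (ConjClasses (Subgroup.normalizer (T' : Set (Matrix.SpecialLinearGroup (Fin 2) F)))) = (Fintype.card F + 7) / 2 ∧
      ∀ g : Matrix.SpecialLinearGroup (Fin 2) F, g ∈ Subgroup.normalizer (T' : Set (Matrix.SpecialLinearGroup (Fin 2) F)) → g ∉ T' → ((g * g) : Matrix (Fin 2) (Fin 2) F) = -1 := by
  obtain ⟨a, ha⟩ := exists_no_root (F := F)
  have : Fact (∀ r : F, r ^ 2 ≠ a + 1 * r) := ⟨ha⟩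
  obtain ⟨z₀, hz₀, him⟩ := exists_nonscalar (F := F) a 1
  obtain ⟨k1, k2⟩ := normalizer_nsTorus_odd a 1 hodd
  have k3 : ∀ k : ℕ, 2 * k = Fintype.card F + 7 → k = (Fintype.card F + 7) / 2 := by
    intro k hk; omega
  exact ⟨nsTorus a 1, isCyclic_nsTorus a 1, card_nsTorus a 1, centralizer_nsTorus a 1,
    fun g hg h1 h2 => centralizer_eq a 1 g hg h1 h2,
    fun g hg => exists_conj_mem_nsTorus a 1 g hg, k1, k3 _ k2,
    fun g hgN hgT => normalizer_mul_self a 1 z₀ hz₀ him g hgN hgT⟩

end Cfsg.Agent.S2429
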