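import Cfsg.Statements.S2432
import Cfsg.Agent.Lib.Helper39_SL2Ind

set_option autoImplicit false
open Cfsg

namespace Cfsg.Agent.S2432

theorem result {F : Type*} [Field F] [Fintype F] [DecidableEq F] (hodd : Odd (Fintype.card F))
    (α β : MulChar F ℂ) [Decidable (α = β)] [Decidable (α = β⁻¹)] :
    Cfsg.classInner (Cfsg.indFun ((Cfsg.upperTriangularGL 2 F).comap Matrix.SpecialLinearGroup.toGL) (fun b => α (((b : Matrix.SpecialLinearGroup (Fin 2) F) : Matrix (Fin 2) (Fin 2) F) 0 0))) (Cfsg.indFun ((Cfsg.upperTriangularGL 2 F).comap Matrix.SpecialLinearGroup.toGL) (fun b => β (((b : Matrix.SpecialLinearGroup (Fin 2) F) : Matrix (Fin 2) (Fin 2) F) 0 0))) =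
      (if α = β then 1 else 0) + (if α = β⁻¹ then 1 else 0) := by
  classical
  have h := Cfsg.Agent.Lib.Helper39_SL2Ind.classInner_indFun_aFun α β
  by_cases h1 : α = β <;> by_cases h2 : α = β⁻¹ <;>
    simp only [h1, h2, if_true, if_false] at h ⊢ <;> exact h

end Cfsg.Agent.S2432
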