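import Mathlib
import Cfsg.Statements.S2617

set_option autoImplicit false
open Cfsg

namespace Cfsg.Agent.S2617


section

variable {F : Type*} [Field F] [Fintype F] [DecidableEq F]

theorem card_fiber {ι : Type*} [Fintype ι] [DecidableEq ι] (x : ι → F) (hx : x ≠ 0) (c : F) :
    (Finset.univ.filter (fun y : ι → F => ∑ i, x i * y i = c)).card * Fintype.card F =
      Fintype.card F ^ Fintype.card ι := by
  let f : (ι → F) →+ F :=
    { toFun := fun y => ∑ i, x i * y i
      map_zero' := by simp
      map_add' := fun y z => by simp [mul_add, Finset.sum_add_distrib] }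
  have hf : ∀ y, f y = ∑ i, x i * y i := fun y => rfl
  obtain ⟨i₀, hi₀⟩ := Function.ne_iff.1 hx
  have hsurj : ∀ d : F, d ∈ Set.range f := by
    intro d
    refine ⟨Pi.single i₀ (d / x i₀), ?_⟩
    rw [hf, Finset.sum_eq_single i₀]
    · rw [Pi.single_eq_same, mul_div_cancel₀ _ hi₀]
    · intro j _ hj
      rw [Pi.single_eq_of_ne hj, mul_zero]
    · intro h; exact absurd (Finset.mem_univ _) h
  have hall : ∀ d : F, (Finset.univ.filter (fun y : ι → F => f y = d)).card =
      (Finset.univ.filter (fun y : ι → F => f y = c)).card :=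
    fun d => AddMonoidHom.card_fiber_eq_of_mem_range f (hsurj d) (hsurj c)
  have hsum := Finset.card_eq_sum_card_fiberwise (f := f) (s := Finset.univ) (t := Finset.univ)
    (fun _ _ => Finset.mem_univ _)
  rw [Finset.card_univ, Fintype.card_fun] at hsum
  rw [hsum, Finset.sum_congr rfl (fun d _ => hall d), Finset.sum_const, Finset.card_univ,
    smul_eq_mul, mul_comm]
  rfl


theorem card_zeros {ι W : Type*} [Fintype ι] [DecidableEq ι] [Fintype W] (R : W → F) :
    (Finset.univ.filter (fun p : ((ι → F) × (ι → F)) × W =>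
        ∑ i, p.1.1 i * p.1.2 i + R p.2 = 0)).card * Fintype.card F =
      (Finset.univ.filter (fun w => R w = 0)).card * Fintype.card F ^ (Fintype.card ι + 1) +
        (Fintype.card F ^ Fintype.card ι - 1) * Fintype.card W *
          Fintype.card F ^ Fintype.card ι := by
  have h1 : (Finset.univ.filter (fun p : ((ι → F) × (ι → F)) × W =>
        ∑ i, p.1.1 i * p.1.2 i + R p.2 = 0)).card =
      ∑ x : ι → F, ∑ w : W,
        (Finset.univ.filter (fun y : ι → F => ∑ i, x i * y i = - R w)).card := by
    rw [Finset.card_filter, Fintype.sum_prod_type, Fintype.sum_prod_type]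
    apply Finset.sum_congr rfl
    intro x _
    rw [Finset.sum_comm]
    apply Finset.sum_congr rfl
    intro w _
    rw [Finset.card_filter]
    apply Finset.sum_congr rfl
    intro y _
    simp only [add_eq_zero_iff_eq_neg]
  have hzero : ∑ w : W, (Finset.univ.filter
      (fun y : ι → F => ∑ i, (0 : ι → F) i * y i = - R w)).card * Fintype.card F =
      (Finset.univ.filter (fun w => R w = 0)).card * Fintype.card F ^ (Fintype.card ι + 1) := by
    rw [Finset.card_filter, Finset.sum_mul]
    apply Finset.sum_congr rfl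
    intro w _
    by_cases hw : R w = 0
    · rw [if_pos hw, hw]
      simp [pow_succ]
    · rw [if_neg hw]
      have : (Finset.univ.filter (fun y : ι → F => ∑ i, (0 : ι → F) i * y i = - R w)) = ∅ := by
        apply Finset.filter_eq_empty_iff.2
        intro y _
        simp only [Pi.zero_apply, zero_mul, Finset.sum_const_zero]
        intro h
        apply hw
        rw [eq_comm, neg_eq_zero] at h
        exact h
      rw [this]
      simp
  have hne : ∀ x : ι → F, x ≠ 0 → ∑ w : W, (Finset.univ.filter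
      (fun y : ι → F => ∑ i, x i * y i = - R w)).card * Fintype.card F =
      Fintype.card W * Fintype.card F ^ Fintype.card ι := by
    intro x hx
    rw [Finset.sum_congr rfl (fun w _ => card_fiber x hx (- R w)), Finset.sum_const,
      Finset.card_univ, smul_eq_mul]
  rw [h1, Finset.sum_mul, ← Finset.add_sum_erase Finset.univ _ (Finset.mem_univ (0 : ι → F)),
    Finset.sum_mul, hzero]
  congr 1
  rw [Finset.sum_congr rfl (fun x hx => by
    rw [Finset.sum_mul, hne x (Finset.ne_of_mem_erase hx)]), Finset.sum_const,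
    Finset.card_erase_of_mem (Finset.mem_univ _), Finset.card_univ, Fintype.card_fun, smul_eq_mul,
    mul_assoc]

theorem card_plus (m : ℕ) :
    (Finset.univ.filter (fun v : Fin m ⊕ Fin m → F => quadFormPlus m F v = 0)).card =
      (Finset.univ.filter (fun p : ((Fin m → F) × (Fin m → F)) × Unit =>
        ∑ i, p.1.1 i * p.1.2 i + (fun _ : Unit => (0 : F)) p.2 = 0)).card := by
  apply Finset.card_equiv ((Equiv.sumArrowEquivProdArrow (Fin m) (Fin m) F).trans
    (Equiv.prodPUnit _).symm)
  intro v
  rw [Finset.mem_filter, Finset.mem_filter]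
  simp only [Finset.mem_univ, true_and, quadFormPlus, add_zero]
  rfl

theorem card_minus (m : ℕ) (a b : F) :
    (Finset.univ.filter (fun v : (Fin m ⊕ Fin m) ⊕ Fin 2 → F =>
        quadFormMinus m F a b v = 0)).card =
      (Finset.univ.filter (fun p : ((Fin m → F) × (Fin m → F)) × (Fin 2 → F) =>
        ∑ i, p.1.1 i * p.1.2 i +
          (fun z : Fin 2 → F => z 0 ^ 2 + a * z 0 * z 1 + b * z 1 ^ 2) p.2 = 0)).card := by
  apply Finset.card_equiv ((Equiv.sumArrowEquivProdArrow (Fin m ⊕ Fin m) (Fin 2) F).trans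
    (Equiv.prodCongr (Equiv.sumArrowEquivProdArrow (Fin m) (Fin m) F) (Equiv.refl _)))
  intro v
  rw [Finset.mem_filter, Finset.mem_filter]
  simp only [Finset.mem_univ, true_and, quadFormMinus]
  rfl

theorem binary_zero (ζ : F) (hζ : ∀ t : F, t ^ 2 + t + ζ ≠ 0) :
    (Finset.univ.filter (fun z : Fin 2 → F => z 0 ^ 2 + 1 * z 0 * z 1 + ζ * z 1 ^ 2 = 0)).card
      = 1 := by
  rw [Finset.card_eq_one]
  refine ⟨0, ?_⟩
  ext z
  simp only [Finset.mem_filter, Finset.mem_univ, true_and, Finset.mem_singleton]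
  constructor
  · intro h
    by_cases h1 : z 1 = 0
    · rw [h1] at h
      have h0 : z 0 = 0 := by simpa using h
      ext i
      fin_cases i
      · exact h0
      · exact h1
    · exfalso
      apply hζ (z 0 / z 1)
      field_simp
      linear_combination h
  · rintro rfl
    simp

end



/-- The two standard quadratic forms of even dimension 2m over a finite field are not isometric: there is no linear isomorphism carrying the elliptic form Σ_(i<m−1) x_i y_i + z₁² + z₁z₂ + ζ z₂² (t² + t + ζ without roots) to the hyperbolic form Σ_(i<m) x_i y_i (they have different Witt index). -/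
theorem result {F : Type*} [Field F] [Finite F] {m : ℕ} (hm : 1 ≤ m) (ζ : F) (hζ : ∀ t : F, t ^ 2 + t + ζ ≠ 0) (g : (Fin m ⊕ Fin m → F) ≃ₗ[F] ((Fin (m - 1) ⊕ Fin (m - 1)) ⊕ Fin 2 → F)) : ¬ (∀ v : Fin m ⊕ Fin m → F, Cfsg.quadFormMinus (m - 1) F 1 ζ (g v) = Cfsg.quadFormPlus m F v) := by
  classical
  intro hg
  have := Fintype.ofFinite F
  have hq : 1 < Fintype.card F := Fintype.one_lt_card
  have hZ : (Finset.univ.filter (fun v : Fin m ⊕ Fin m → F => quadFormPlus m F v = 0)).card =
      (Finset.univ.filter (fun v : (Fin (m - 1) ⊕ Fin (m - 1)) ⊕ Fin 2 → F =>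
        quadFormMinus (m - 1) F 1 ζ v = 0)).card := by
    apply Finset.card_equiv g.toEquiv
    intro v
    rw [Finset.mem_filter, Finset.mem_filter]
    simp only [Finset.mem_univ, true_and]
    rw [← hg v]
    rfl
  have hmn := (congrArg (· * Fintype.card F) (card_minus (F := F) (m - 1) 1 ζ)).trans
    (card_zeros (F := F) (ι := Fin (m - 1)) (W := Fin 2 → F)
      (fun z : Fin 2 → F => z 0 ^ 2 + 1 * z 0 * z 1 + ζ * z 1 ^ 2))
  have hp := (congrArg (· * Fintype.card F) (card_plus (F := F) m)).trans
    (card_zeros (F := F) (ι := Fin m) (W := Unit) (fun _ => (0 : F)))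
  simp only [] at hmn hp
  rw [binary_zero ζ hζ] at hmn
  rw [hZ, hmn] at hp
  simp only [Fintype.card_fin, Fintype.card_unique, mul_one, one_mul, Fintype.card_fun,
    Finset.filter_true, Finset.card_univ] at hp
  obtain ⟨k, rfl⟩ : ∃ k, m = k + 1 := ⟨m - 1, by omega⟩
  simp only [Nat.add_sub_cancel] at hp
  obtain ⟨a, ha⟩ : ∃ a, a = Fintype.card F ^ k := ⟨_, rfl⟩
  obtain ⟨q, hq'⟩ : ∃ q, q = Fintype.card F := ⟨_, rfl⟩
  rw [← hq'] at hp hq ha
  rw [← ha] at hp
  have ha1 : 1 ≤ a := by rw [ha]; exact Nat.one_le_pow _ _ (by omega)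
  have e1 : q ^ (k + 1) = a * q := by rw [pow_succ, ha, hq']
  have e2 : q ^ (k + 1 + 1) = a * q * q := by rw [pow_succ, e1]
  rw [e1, e2] at hp
  have h1 : 1 ≤ a * q := by nlinarith
  zify [ha1, h1] at hp
  have hq2 : (2 : ℤ) ≤ q := by exact_mod_cast hq
  have ha2 : (1 : ℤ) ≤ a := by exact_mod_cast ha1
  have h0 : (2 : ℤ) * q * a * (q - 1) = 0 := by linear_combination (-1 : ℤ) * hp
  have h3 : (0 : ℤ) < q - 1 := by linarith
  have h4 : (0 : ℤ) < 2 * q * a := by nlinarith
  have h5 := mul_pos h4 h3
  rw [h0] at h5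
  exact lt_irrefl _ h5

end Cfsg.Agent.S2617
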