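import Mathlib
import Cfsg.Statements.S2433
import Cfsg.Agent.S2617

set_option autoImplicit false
open Cfsg

namespace Cfsg.Agent.S2433


section

variable {F : Type*} [Field F]

local notation "SL2" => Matrix.SpecialLinearGroup (Fin 2) F

theorem det_eq (x : SL2) : x.1 0 0 * x.1 1 1 - x.1 0 1 * x.1 1 0 = 1 := by
  have := x.2
  rw [Matrix.det_fin_two] at this
  exact this

theorem conj10 (g x : SL2) : (x⁻¹ * g * x).1 1 0 =
    g.1 1 0 * x.1 0 0 ^ 2 + (g.1 1 1 - g.1 0 0) * x.1 0 0 * x.1 1 0 - g.1 0 1 * x.1 1 0 ^ 2 := by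
  simp only [Matrix.SpecialLinearGroup.coe_mul, Matrix.SpecialLinearGroup.coe_inv,
    Matrix.adjugate_fin_two, Matrix.mul_apply, Fin.sum_univ_two, Matrix.of_apply,
    Matrix.cons_val_zero, Matrix.cons_val_one, Matrix.cons_val', Matrix.cons_val_fin_one]
  ring

theorem conj00 (g x : SL2) : (x⁻¹ * g * x).1 0 0 =
    g.1 0 0 * x.1 0 0 * x.1 1 1 + g.1 0 1 * x.1 1 0 * x.1 1 1 - g.1 1 0 * x.1 0 0 * x.1 0 1
      - g.1 1 1 * x.1 0 1 * x.1 1 0 := by
  simp only [Matrix.SpecialLinearGroup.coe_mul, Matrix.SpecialLinearGroup.coe_inv,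
    Matrix.adjugate_fin_two, Matrix.mul_apply, Fin.sum_univ_two, Matrix.of_apply,
    Matrix.cons_val_zero, Matrix.cons_val_one, Matrix.cons_val', Matrix.cons_val_fin_one]
  ring

theorem mem_B (y : SL2) :
    y ∈ (Cfsg.upperTriangularGL 2 F).comap Matrix.SpecialLinearGroup.toGL ↔ y.1 1 0 = 0 := by
  rw [Subgroup.mem_comap]
  change (y.1).BlockTriangular id ↔ _
  constructor
  · intro h
    exact h (by decide : (id (0 : Fin 2)) < id 1)
  · intro h i j hij
    fin_cases i <;> fin_cases j
    · exact absurd hij (by decide)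
    · exact absurd hij (by decide)
    · exact h
    · exact absurd hij (by decide)

theorem ext0 (θ : ((Cfsg.upperTriangularGL 2 F).comap Matrix.SpecialLinearGroup.toGL) → ℂ) (y : SL2)
    [Decidable (y.1 1 0 = 0)] :
    extendByZero ((Cfsg.upperTriangularGL 2 F).comap Matrix.SpecialLinearGroup.toGL) θ y =
      if h : y.1 1 0 = 0 then θ ⟨y, (mem_B y).2 h⟩ else 0 := by
  unfold extendByZero
  split_ifs with h
  · exact Subtype.val_injective.extend_apply θ 0 ⟨y, (mem_B y).2 h⟩
  · apply Function.extend_apply'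
    rintro ⟨b, rfl⟩
    exact h ((mem_B b.1).1 b.2)

variable [Fintype F] [DecidableEq F]

theorem card_col (v : Fin 2 → F) (hv : v ≠ 0) :
    (Finset.univ.filter (fun x : SL2 => x.1 0 0 = v 0 ∧ x.1 1 0 = v 1)).card = Fintype.card F := by
  have hz : ![-(v 1), v 0] ≠ 0 := by
    intro h
    apply hv
    have h0 := congrFun h 0
    have h1 := congrFun h 1
    simp only [Matrix.cons_val_zero, Matrix.cons_val_one, Pi.zero_apply, neg_eq_zero] at h0 h1
    ext i
    fin_cases i
    · exact h1
    · exact h0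
  have h := Cfsg.Agent.S2617.card_fiber (ι := Fin 2) ![-(v 1), v 0] hz 1
  have hbij : (Finset.univ.filter (fun x : SL2 => x.1 0 0 = v 0 ∧ x.1 1 0 = v 1)).card =
      (Finset.univ.filter (fun y : Fin 2 → F => ∑ i, ![-(v 1), v 0] i * y i = 1)).card := by
    apply Finset.card_bij (fun x _ => ![x.1 0 1, x.1 1 1])
    · intro x hx
      rw [Finset.mem_filter] at hx ⊢
      refine ⟨Finset.mem_univ _, ?_⟩
      rw [Fin.sum_univ_two]
      simp only [Matrix.cons_val_zero, Matrix.cons_val_one]
      rw [← hx.2.1, ← hx.2.2]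
      linear_combination det_eq x
    · intro x hx x' hx' hxx'
      rw [Finset.mem_filter] at hx hx'
      have h0 := congrFun hxx' 0
      have h1 := congrFun hxx' 1
      simp only [Matrix.cons_val_zero, Matrix.cons_val_one] at h0 h1
      apply Subtype.ext
      ext i j
      fin_cases i <;> fin_cases j
      · exact hx.2.1.trans hx'.2.1.symm
      · exact h0
      · exact hx.2.2.trans hx'.2.2.symm
      · exact h1
    · intro y hy
      rw [Finset.mem_filter, Fin.sum_univ_two] at hy
      simp only [Matrix.cons_val_zero, Matrix.cons_val_one] at hy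
      refine ⟨⟨!![v 0, y 0; v 1, y 1], ?_⟩, ?_, ?_⟩
      · rw [Matrix.det_fin_two_of]
        linear_combination hy.2
      · exact Finset.mem_filter.2 ⟨Finset.mem_univ _, rfl, rfl⟩
      · ext i
        fin_cases i <;> rfl
  rw [hbij]
  have hq : 0 < Fintype.card F := Fintype.card_pos
  apply Nat.eq_of_mul_eq_mul_right hq
  rw [h, Fintype.card_fin, pow_two]

theorem card_filter_col (P : (Fin 2 → F) → Prop) [DecidablePred P] :
    (Finset.univ.filter (fun x : SL2 => P ![x.1 0 0, x.1 1 0])).card =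
      (Finset.univ.filter (fun v : Fin 2 → F => v ≠ 0 ∧ P v)).card * Fintype.card F := by
  rw [Finset.card_eq_sum_card_fiberwise (f := fun x : SL2 => ![x.1 0 0, x.1 1 0])
    (t := Finset.univ.filter (fun v : Fin 2 → F => v ≠ 0 ∧ P v))]
  · rw [Finset.sum_const_nat]
    intro v hv
    rw [Finset.mem_filter] at hv
    rw [← card_col v hv.2.1]
    congr 1
    ext x
    simp only [Finset.mem_filter, Finset.mem_univ, true_and]
    constructor
    · rintro ⟨_, h⟩
      rw [← h]
      exact ⟨rfl, rfl⟩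
    · rintro ⟨h0, h1⟩
      have : ![x.1 0 0, x.1 1 0] = v := by
        ext i
        fin_cases i
        · exact h0
        · exact h1
      rw [this]
      exact ⟨hv.2.2, rfl⟩
  · intro x hx
    rw [Finset.mem_coe, Finset.mem_filter] at hx ⊢
    refine ⟨Finset.mem_univ _, ?_, hx.2⟩
    intro h
    have h0 := congrFun h 0
    have h1 := congrFun h 1
    simp only [Matrix.cons_val_zero, Matrix.cons_val_one, Pi.zero_apply] at h0 h1
    have := det_eq x
    rw [h0, h1] at this
    simp at this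

theorem card_coord (i : Fin 2) :
    (Finset.univ.filter (fun v : Fin 2 → F => v ≠ 0 ∧ v i = 0)).card = Fintype.card F - 1 := by
  have hz : (Pi.single i 1 : Fin 2 → F) ≠ 0 := by
    intro h
    have := congrFun h i
    simp at this
  have h := Cfsg.Agent.S2617.card_fiber (ι := Fin 2) (Pi.single i 1 : Fin 2 → F) hz 0
  have h1 : (Finset.univ.filter (fun v : Fin 2 → F => v i = 0)).card = Fintype.card F := by
    have hq : 0 < Fintype.card F := Fintype.card_pos
    apply Nat.eq_of_mul_eq_mul_right hq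
    rw [Fintype.card_fin, pow_two] at h
    rw [← h]
    congr 2
    ext v
    simp only [Finset.mem_filter, Finset.mem_univ, true_and]
    rw [Finset.sum_eq_single i]
    · simp
    · intro j _ hj
      simp [Pi.single_eq_of_ne hj]
    · intro h; exact absurd (Finset.mem_univ _) h
  have h2 : (Finset.univ.filter (fun v : Fin 2 → F => v ≠ 0 ∧ v i = 0)) =
      (Finset.univ.filter (fun v : Fin 2 → F => v i = 0)).erase 0 := by
    ext v
    simp only [Finset.mem_filter, Finset.mem_univ, true_and, Finset.mem_erase]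
  rw [h2, Finset.card_erase_of_mem, h1]
  simp

theorem card_SL2 : Fintype.card SL2 = (Fintype.card F ^ 2 - 1) * Fintype.card F := by
  have h := card_filter_col (F := F) (fun _ => True)
  simp only [Finset.filter_true, and_true] at h
  rw [Finset.card_univ] at h
  rw [h]
  congr 1
  rw [Finset.filter_ne' Finset.univ (0 : Fin 2 → F), Finset.card_erase_of_mem (Finset.mem_univ _),
    Finset.card_univ, Fintype.card_fun, Fintype.card_fin]

theorem card_lower_zero :
    (Finset.univ.filter (fun x : SL2 => x.1 1 0 = 0)).card =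
      (Fintype.card F - 1) * Fintype.card F := by
  have h := card_filter_col (F := F) (fun v => v 1 = 0)
  simp only [Matrix.cons_val_one, Matrix.cons_val_zero] at h
  rw [card_coord] at h
  rw [← h]
  congr 1

theorem card_upper_zero :
    (Finset.univ.filter (fun x : SL2 => x.1 0 0 = 0)).card =
      (Fintype.card F - 1) * Fintype.card F := by
  have h := card_filter_col (F := F) (fun v => v 0 = 0)
  simp only [Matrix.cons_val_zero] at h
  rw [card_coord] at h
  rw [← h]
  congr 1


/-- the Borel subgroup of `SL₂` -/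
abbrev Bsub (F : Type*) [Field F] : Subgroup (Matrix.SpecialLinearGroup (Fin 2) F) :=
  (Cfsg.upperTriangularGL 2 F).comap Matrix.SpecialLinearGroup.toGL

theorem indFun_eq (α : MulChar F ℂ) (g : SL2) :
    Cfsg.indFun (Bsub F) (fun b => α (((b : SL2) : Matrix (Fin 2) (Fin 2) F) 0 0)) g =
      (Nat.card (Bsub F) : ℂ)⁻¹ * ∑ x : SL2,
        (if (x⁻¹ * g * x).1 1 0 = 0 then α ((x⁻¹ * g * x).1 0 0) else 0) := by
  unfold Cfsg.indFun
  congr 1
  apply Finset.sum_congr rfl
  intro x _
  rw [ext0]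
  split_ifs <;> rfl

theorem card_B : Nat.card (Bsub F) = (Finset.univ.filter (fun x : SL2 => x.1 1 0 = 0)).card := by
  rw [Nat.card_congr (Equiv.subtypeEquivRight (fun y => mem_B (F := F) y)),
    Nat.card_eq_fintype_card, Fintype.card_subtype]

omit [DecidableEq F] in
theorem card_B_ne_zero : (Nat.card (Bsub F) : ℂ) ≠ 0 := by
  have : 0 < Nat.card (Bsub F) := Nat.card_pos
  exact_mod_cast this.ne'

theorem case3 (α : MulChar F ℂ) (g : SL2) (h10 : g.1 1 0 = 0) (hd : g.1 0 0 = g.1 1 1)
    (h01 : g.1 0 1 ≠ 0) :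
    Cfsg.indFun (Bsub F) (fun b => α (((b : SL2) : Matrix (Fin 2) (Fin 2) F) 0 0)) g =
      α (g.1 0 0) := by
  rw [indFun_eq]
  have hsum : ∀ x : SL2, (if (x⁻¹ * g * x).1 1 0 = 0 then α ((x⁻¹ * g * x).1 0 0) else 0) =
      if x.1 1 0 = 0 then α (g.1 0 0) else 0 := by
    intro x
    have hiff : (x⁻¹ * g * x).1 1 0 = 0 ↔ x.1 1 0 = 0 := by
      rw [conj10, h10, ← hd]
      constructor
      · intro h
        have : g.1 0 1 * x.1 1 0 ^ 2 = 0 := by linear_combination -h
        rcases mul_eq_zero.1 this with h' | h'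
        · exact absurd h' h01
        · exact pow_eq_zero_iff (two_ne_zero) |>.1 h'
      · intro h
        rw [h]; ring
    by_cases hs : x.1 1 0 = 0
    · rw [if_pos (hiff.2 hs), if_pos hs]
      congr 1
      rw [conj00, h10, hs]
      linear_combination (g.1 0 0) * det_eq x + (g.1 0 0 * x.1 0 1) * hs
    · rw [if_neg (fun h => hs (hiff.1 h)), if_neg hs]
  rw [Finset.sum_congr rfl (fun x _ => hsum x), ← Finset.sum_filter, Finset.sum_const, ← card_B,
    nsmul_eq_mul, ← mul_assoc, inv_mul_cancel₀ card_B_ne_zero, one_mul]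

theorem case2 (α : MulChar F ℂ) (g : SL2)
    (h : ∀ (c : F) (v : Fin 2 → F), v ≠ 0 → g.1.mulVec v ≠ c • v) :
    Cfsg.indFun (Bsub F) (fun b => α (((b : SL2) : Matrix (Fin 2) (Fin 2) F) 0 0)) g = 0 := by
  rw [indFun_eq]
  have hsum : ∀ x : SL2, (if (x⁻¹ * g * x).1 1 0 = 0 then α ((x⁻¹ * g * x).1 0 0) else 0) =
      (0 : ℂ) := by
    intro x
    rw [if_neg]
    intro hN
    rw [conj10] at hN
    apply h ((x⁻¹ * g * x).1 0 0) ![x.1 0 0, x.1 1 0]
    · intro h0
      have h1 := congrFun h0 0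
      have h2 := congrFun h0 1
      simp only [Matrix.cons_val_zero, Matrix.cons_val_one, Pi.zero_apply] at h1 h2
      have := det_eq x
      rw [h1, h2] at this
      simp at this
    · rw [conj00]
      have hdet := det_eq x
      ext i
      fin_cases i
      · simp only [Matrix.mulVec, dotProduct, Fin.sum_univ_two, Fin.zero_eta, Fin.isValue,
          Matrix.cons_val_zero, Matrix.cons_val_one, Pi.smul_apply, smul_eq_mul]
        linear_combination (-(g.1 0 0 * x.1 0 0 + g.1 0 1 * x.1 1 0)) * hdet + x.1 0 1 * hN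
      · simp only [Matrix.mulVec, dotProduct, Fin.sum_univ_two, Fin.mk_one, Fin.isValue,
          Matrix.cons_val_zero, Matrix.cons_val_one, Pi.smul_apply, smul_eq_mul]
        linear_combination (-(g.1 1 0 * x.1 0 0 + g.1 1 1 * x.1 1 0)) * hdet + x.1 1 1 * hN
  rw [Finset.sum_congr rfl (fun x _ => hsum x), Finset.sum_const_zero, mul_zero]

theorem case4 (α : MulChar F ℂ) (g : SL2) (h01 : g.1 0 1 = 0) (h10 : g.1 1 0 = 0)
    (hd : g.1 0 0 = g.1 1 1) :
    Cfsg.indFun (Bsub F) (fun b => α (((b : SL2) : Matrix (Fin 2) (Fin 2) F) 0 0)) g =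
      ((Fintype.card F : ℂ) + 1) * α (g.1 0 0) := by
  rw [indFun_eq]
  have hsum : ∀ x : SL2, (if (x⁻¹ * g * x).1 1 0 = 0 then α ((x⁻¹ * g * x).1 0 0) else 0) =
      α (g.1 0 0) := by
    intro x
    rw [if_pos]
    · congr 1
      rw [conj00, h01, h10, ← hd]
      linear_combination (g.1 0 0) * det_eq x
    · rw [conj10, h01, h10, ← hd]
      ring
  rw [Finset.sum_congr rfl (fun x _ => hsum x), Finset.sum_const, Finset.card_univ, card_SL2,
    card_B, card_lower_zero, nsmul_eq_mul]
  have hq : 2 ≤ Fintype.card F := Fintype.one_lt_card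
  have hq1 : 1 ≤ Fintype.card F := by omega
  have hq2 : 1 ≤ Fintype.card F ^ 2 := Nat.one_le_pow _ _ (by omega)
  have hqC : (Fintype.card F : ℂ) ≠ 0 := by
    have : Fintype.card F ≠ 0 := by omega
    exact_mod_cast this
  have hqC1 : (Fintype.card F : ℂ) - 1 ≠ 0 := by
    intro h
    have h' : (Fintype.card F : ℂ) = 1 := by linear_combination h
    have : Fintype.card F = 1 := by exact_mod_cast h'
    omega
  push_cast [Nat.cast_sub hq1, Nat.cast_sub hq2]
  field_simp
  ring

theorem case1 (α : MulChar F ℂ) (g : SL2) (h01 : g.1 0 1 = 0) (h10 : g.1 1 0 = 0)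
    (hsq : g.1 0 0 ^ 2 ≠ 1) :
    Cfsg.indFun (Bsub F) (fun b => α (((b : SL2) : Matrix (Fin 2) (Fin 2) F) 0 0)) g =
      α (g.1 0 0) + α (g.1 1 1) := by
  rw [indFun_eq]
  have hdetg := det_eq g
  rw [h01, zero_mul, sub_zero] at hdetg
  have hne : g.1 1 1 - g.1 0 0 ≠ 0 := by
    intro h
    apply hsq
    have : g.1 1 1 = g.1 0 0 := by linear_combination h
    rw [this] at hdetg
    rw [pow_two]; exact hdetg
  have hsum : ∀ x : SL2, (if (x⁻¹ * g * x).1 1 0 = 0 then α ((x⁻¹ * g * x).1 0 0) else 0) =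
      (if x.1 1 0 = 0 then α (g.1 0 0) else 0) + (if x.1 0 0 = 0 then α (g.1 1 1) else 0) := by
    intro x
    have hdet := det_eq x
    have hc10 : (x⁻¹ * g * x).1 1 0 = (g.1 1 1 - g.1 0 0) * (x.1 0 0 * x.1 1 0) := by
      rw [conj10, h01, h10]; ring
    by_cases hs : x.1 1 0 = 0
    · have hp : x.1 0 0 ≠ 0 := by
        intro hp
        rw [hp, hs] at hdet
        simp at hdet
      rw [if_pos hs, if_neg hp, add_zero, if_pos (by rw [hc10, hs]; ring)]
      congr 1
      rw [conj00, h01, h10, hs]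
      linear_combination (g.1 0 0) * hdet + (g.1 0 0 * x.1 0 1) * hs
    · by_cases hp : x.1 0 0 = 0
      · rw [if_neg hs, if_pos hp, zero_add, if_pos (by rw [hc10, hp]; ring)]
        congr 1
        rw [conj00, h01, h10, hp]
        linear_combination (g.1 1 1) * hdet - (g.1 1 1 * x.1 1 1) * hp
      · rw [if_neg hs, if_neg hp, add_zero, if_neg]
        rw [hc10]
        exact mul_ne_zero hne (mul_ne_zero hp hs)
  rw [Finset.sum_congr rfl (fun x _ => hsum x), Finset.sum_add_distrib, ← Finset.sum_filter,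
    ← Finset.sum_filter, Finset.sum_const, Finset.sum_const, card_upper_zero, ← card_lower_zero,
    ← card_B, nsmul_eq_mul, nsmul_eq_mul, ← mul_add, ← mul_assoc,
    inv_mul_cancel₀ card_B_ne_zero, one_mul]

end



/-- Let F be a finite field with q elements, q odd, α a multiplicative character of F, and R(α) the function on SL₂ induced from the linear character b ↦ α(b₁₁) of the upper triangular subgroup. Then R(α) takes the value α(a) + α(a⁻¹) at a diagonal element with entries a, a⁻¹, a² ≠ 1; the value 0 at every element with no eigenvector in F²; the value α(ε) at an upper triangular element with both diagonal entries ε and non-zero upper right entry; and the value (q + 1)α(ε) at the scalar element ε (ε = ±1). -/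
theorem result {F : Type*} [Field F] [Fintype F] [DecidableEq F] (hodd : Odd (Fintype.card F)) (α : MulChar F ℂ) (g : Matrix.SpecialLinearGroup (Fin 2) F) :
    ((g : Matrix (Fin 2) (Fin 2) F) 0 1 = 0 → (g : Matrix (Fin 2) (Fin 2) F) 1 0 = 0 → (g : Matrix (Fin 2) (Fin 2) F) 0 0 ^ 2 ≠ 1 →
      (Cfsg.indFun ((Cfsg.upperTriangularGL 2 F).comap Matrix.SpecialLinearGroup.toGL) (fun b => α (((b : Matrix.SpecialLinearGroup (Fin 2) F) : Matrix (Fin 2) (Fin 2) F) 0 0))) g = α ((g : Matrix (Fin 2) (Fin 2) F) 0 0) + α ((g : Matrix (Fin 2) (Fin 2) F) 1 1)) ∧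
    ((∀ (c : F) (v : Fin 2 → F), v ≠ 0 → (g : Matrix (Fin 2) (Fin 2) F).mulVec v ≠ c • v) → (Cfsg.indFun ((Cfsg.upperTriangularGL 2 F).comap Matrix.SpecialLinearGroup.toGL) (fun b => α (((b : Matrix.SpecialLinearGroup (Fin 2) F) : Matrix (Fin 2) (Fin 2) F) 0 0))) g = 0) ∧
    ((g : Matrix (Fin 2) (Fin 2) F) 1 0 = 0 → (g : Matrix (Fin 2) (Fin 2) F) 0 0 = (g : Matrix (Fin 2) (Fin 2) F) 1 1 → (g : Matrix (Fin 2) (Fin 2) F) 0 1 ≠ 0 →
      (Cfsg.indFun ((Cfsg.upperTriangularGL 2 F).comap Matrix.SpecialLinearGroup.toGL) (fun b => α (((b : Matrix.SpecialLinearGroup (Fin 2) F) : Matrix (Fin 2) (Fin 2) F) 0 0))) g = α ((g : Matrix (Fin 2) (Fin 2) F) 0 0)) ∧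
    ((g : Matrix (Fin 2) (Fin 2) F) 0 1 = 0 → (g : Matrix (Fin 2) (Fin 2) F) 1 0 = 0 → (g : Matrix (Fin 2) (Fin 2) F) 0 0 = (g : Matrix (Fin 2) (Fin 2) F) 1 1 →
      (Cfsg.indFun ((Cfsg.upperTriangularGL 2 F).comap Matrix.SpecialLinearGroup.toGL) (fun b => α (((b : Matrix.SpecialLinearGroup (Fin 2) F) : Matrix (Fin 2) (Fin 2) F) 0 0))) g = ((Fintype.card F : ℂ) + 1) * α ((g : Matrix (Fin 2) (Fin 2) F) 0 0)) := by
  exact ⟨case1 α g, case2 α g, case3 α g, case4 α g⟩

end Cfsg.Agent.S2433
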