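import Cfsg.Statements.S2434
import Cfsg.Agent.Lib.Helper39_SL2CuspFam
import Cfsg.Agent.Lib.Helper39_SL2Cuspidal
import Cfsg.Agent.Lib.Helper39_SL2Tori
import Cfsg.Agent.Lib.Helper39_SL2Elliptic

set_option autoImplicit false
open Cfsg

namespace Cfsg.Agent.S2434

/-- Let F be a finite field with q elements, q odd, and C a cyclic subgroup of order q + 1 of SL₂ over F (a non-split torus; it contains the centre). For every homomorphism θ from C to the non-zero complex numbers with θ² ≠ 1 there is an irreducible complex character χ of degree q − 1 such that χ(c) = −θ(c) − θ(c)⁻¹ for every non-central c in C, χ(zg) = θ(z)χ(g) for central z in C, χ vanishes at diagonal elements with entry a, a² ≠ 1, and χ takes the value −1 at every upper unitriangular element other than 1. Conversely every irreducible character of degree q − 1 has, for some such θ, the values −θ(c) − θ(c)⁻¹ at the non-central elements c of C (for q ≥ 5 these are exactly the cuspidal characters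 of degree q − 1). -/
theorem result {F : Type*} [Field F] [Fintype F] (hodd : Odd (Fintype.card F))
    (C : Subgroup (Matrix.SpecialLinearGroup (Fin 2) F)) (hC : IsCyclic C) (hcard : Nat.card C = Fintype.card F + 1) :
    (∀ θ : C →* ℂˣ, (∃ c : C, θ c ^ 2 ≠ 1) →
      ∃ χ : Matrix.SpecialLinearGroup (Fin 2) F → ℂ, Cfsg.IsIrrCharacter (Matrix.SpecialLinearGroup (Fin 2) F) χ ∧ χ 1 = (Fintype.card F : ℂ) - 1 ∧
        (∀ c : C, (c : Matrix.SpecialLinearGroup (Fin 2) F) ∉ Subgroup.center (Matrix.SpecialLinearGroup (Fin 2) F) → χ c = -((θ c).val + (θ c)⁻¹.val)) ∧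
        (∀ c : C, (c : Matrix.SpecialLinearGroup (Fin 2) F) ∈ Subgroup.center (Matrix.SpecialLinearGroup (Fin 2) F) → ∀ g : Matrix.SpecialLinearGroup (Fin 2) F, χ ((c : Matrix.SpecialLinearGroup (Fin 2) F) * g) = (θ c).val * χ g) ∧
        (∀ g : Matrix.SpecialLinearGroup (Fin 2) F, (g : Matrix (Fin 2) (Fin 2) F) 0 1 = 0 → (g : Matrix (Fin 2) (Fin 2) F) 1 0 = 0 → (g : Matrix (Fin 2) (Fin 2) F) 0 0 ^ 2 ≠ 1 → χ g = 0) ∧
        (∀ g : Matrix.SpecialLinearGroup (Fin 2) F, (g : Matrix (Fin 2) (Fin 2) F) 1 0 = 0 → (g : Matrix (Fin 2) (Fin 2) F) 0 0 = 1 → (g : Matrix (Fin 2) (Fin 2) F) 1 1 = 1 → (g : Matrix (Fin 2) (Fin 2) F) 0 1 ≠ 0 → χ g = -1)) ∧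
    (∀ χ : Matrix.SpecialLinearGroup (Fin 2) F → ℂ, Cfsg.IsIrrCharacter (Matrix.SpecialLinearGroup (Fin 2) F) χ → χ 1 = (Fintype.card F : ℂ) - 1 →
      ∃ θ : C →* ℂˣ, (∃ c : C, θ c ^ 2 ≠ 1) ∧
        ∀ c : C, (c : Matrix.SpecialLinearGroup (Fin 2) F) ∉ Subgroup.center (Matrix.SpecialLinearGroup (Fin 2) F) → χ c = -((θ c).val + (θ c)⁻¹.val)) := by
  classical
  have : Fintype (Matrix.SpecialLinearGroup (Fin 2) F) := Fintype.ofFinite _
  obtain ⟨c₀, hell, -, rfl⟩ :=
    Cfsg.Agent.Lib.Helper39_SL2Tori.cyclic_eq_centralizer hodd C hC hcard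
  constructor
  · rintro θ ⟨c, hc⟩
    have hθ : θ ^ 2 ≠ 1 := by
      intro h
      apply hc
      rw [← MonoidHom.pow_apply, h, MonoidHom.one_apply]
    obtain ⟨χ, hirr, hdeg, hval, hcen, hdiag, hunip⟩ :=
      Cfsg.Agent.Lib.Helper39_SL2CuspFam.cuspidal_exists hodd hell θ hθ
    refine ⟨χ, hirr, hdeg, ?_, ?_, hdiag, hunip⟩
    · intro t ht
      rw [Cfsg.Agent.Lib.Helper39_SL2Cuspidal.Cg_mem_center] at ht
      push Not at ht
      exact hval t ht.1 ht.2
    · intro t ht g
      rw [Cfsg.Agent.Lib.Helper39_SL2Cuspidal.Cg_mem_center] at ht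
      rcases ht with rfl | rfl
      · simp
      · exact hcen g
  · intro χ hχ hdeg
    have hq3 : 3 ≤ Fintype.card F := by
      have := Fintype.one_lt_card (α := F)
      rcases hodd with ⟨k, hk⟩
      omega
    have key : ∃ θ : Subgroup.centralizer ({c₀} : Set (Matrix.SpecialLinearGroup (Fin 2) F)) →* ℂˣ,
        θ ^ 2 ≠ 1 ∧
        ∀ t : Subgroup.centralizer ({c₀} : Set (Matrix.SpecialLinearGroup (Fin 2) F)),
          t ≠ 1 → t ≠ Cfsg.Agent.Lib.Helper39_SL2Cuspidal.zC c₀ →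
          χ (t : Matrix.SpecialLinearGroup (Fin 2) F) =
            -(((θ t : ℂˣ) : ℂ) + (((θ t)⁻¹ : ℂˣ) : ℂ)) := by
      by_cases h5 : 5 ≤ Fintype.card F
      · exact Cfsg.Agent.Lib.Helper39_SL2CuspFam.cuspidal_classify hodd h5 hell χ hχ hdeg
      · have h3 : Fintype.card F = 3 := by
          rcases hodd with ⟨k, hk⟩
          omega
        exact Cfsg.Agent.Lib.Helper39_SL2CuspFam.cuspidal_classify_three hodd h3 hell χ hχ hdeg
    obtain ⟨θ, hθ, hval⟩ := key
    refine ⟨θ, ?_, ?_⟩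
    · by_contra hne
      push Not at hne
      apply hθ
      ext t
      have := hne t
      rw [MonoidHom.pow_apply, this, MonoidHom.one_apply]
    · intro t ht
      rw [Cfsg.Agent.Lib.Helper39_SL2Cuspidal.Cg_mem_center] at ht
      push Not at ht
      exact hval t ht.1 ht.2

end Cfsg.Agent.S2434
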