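import Cfsg.Statements.S2436
import Cfsg.Agent.Lib.Helper39_McKayTools
import Cfsg.Agent.Lib.Helper39_SL2McKayL
import Cfsg.Agent.Lib.Helper39_SL2McKayR
import Cfsg.Agent.Lib.Helper39_SL2Sylp
import Cfsg.Agent.S2301

set_option autoImplicit false
open Cfsg

namespace Cfsg.Agent.S2436

/-- Let F be a finite field with q elements, q odd, ℓ any prime and S a Sylow ℓ-subgroup of SL₂ over F with normaliser N. Then SL₂ and N have the same number of irreducible complex characters of degree not divisible by ℓ (the McKay equality holds for SL₂ over F at every prime). -/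
theorem result {F : Type*} [Field F] [Fintype F] (hodd : Odd (Fintype.card F)) (ℓ : ℕ) [Fact ℓ.Prime] (S : Sylow ℓ (Matrix.SpecialLinearGroup (Fin 2) F)) :
    Nat.card {χ : Cfsg.IrrCharacter (Matrix.SpecialLinearGroup (Fin 2) F) // ¬ ℓ ∣ Cfsg.charDegree (χ : Matrix.SpecialLinearGroup (Fin 2) F → ℂ)} =
      Nat.card {ψ : Cfsg.IrrCharacter (Subgroup.normalizer ((S : Subgroup (Matrix.SpecialLinearGroup (Fin 2) F)) : Set (Matrix.SpecialLinearGroup (Fin 2) F))) //
        ¬ ℓ ∣ Cfsg.charDegree (ψ : Subgroup.normalizer ((S : Subgroup (Matrix.SpecialLinearGroup (Fin 2) F)) : Set (Matrix.SpecialLinearGroup (Fin 2) F)) → ℂ)} := by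
  classical
  have : Fintype (Matrix.SpecialLinearGroup (Fin 2) F) := Fintype.ofFinite _
  have hℓp : ℓ.Prime := Fact.out
  have hq3 : 3 ≤ Fintype.card F := by
    have := Fintype.one_lt_card (α := F)
    rcases hodd with ⟨k, hk⟩
    omega
  -- the defining characteristic
  by_cases hdq : ℓ ∣ Fintype.card F
  · rw [Cfsg.Agent.Lib.Helper39_SL2McKayL.lhs_char_p hodd ℓ hℓp hdq,
      Cfsg.Agent.Lib.Helper39_SL2Sylp.rhs_char_p hodd ℓ hdq S]
  -- the prime two
  by_cases h2 : ℓ = 2
  · subst h2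
    have hmod : (Fintype.card F % 8 = 1 ∨ Fintype.card F % 8 = 7) ∨
        (Fintype.card F % 8 = 3 ∨ Fintype.card F % 8 = 5) := by
      rcases hodd with ⟨k, hk⟩
      omega
    have hlhs : Nat.card {χ : Cfsg.IrrCharacter (Matrix.SpecialLinearGroup (Fin 2) F) //
        ¬ 2 ∣ Cfsg.charDegree (χ : Matrix.SpecialLinearGroup (Fin 2) F → ℂ)} = 4 := by
      by_cases hq5 : 5 ≤ Fintype.card F
      · exact Cfsg.Agent.Lib.Helper39_SL2McKayL.lhs_two hodd hq5
      · exact Cfsg.Agent.Lib.Helper39_SL2McKayL.lhs_two_three (by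
          rcases hodd with ⟨k, hk⟩
          omega)
    rw [hlhs]
    rcases hmod with hmod | hmod
    · exact (Cfsg.Agent.Lib.Helper39_SL2McKayR.rhs_two_self hodd hmod S).symm
    · exact (Cfsg.Agent.Lib.Helper39_SL2McKayR.rhs_two_three hodd hmod S).symm
  -- odd primes dividing `q - 1`
  by_cases hm : ℓ ∣ Fintype.card F - 1
  · have hq5 : 5 ≤ Fintype.card F := by
      have h3 : 3 ≤ ℓ := by
        have := hℓp.two_le
        omega
      have := Nat.le_of_dvd (by omega) hm
      rcases hodd with ⟨k, hk⟩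
      omega
    rw [Cfsg.Agent.Lib.Helper39_SL2McKayL.lhs_minus hodd hq5 ℓ hℓp h2 hm,
      Cfsg.Agent.Lib.Helper39_SL2McKayR.rhs_minus hodd ℓ h2 hm S]
  -- odd primes dividing `q + 1`
  by_cases hp : ℓ ∣ Fintype.card F + 1
  · have hq5 : 5 ≤ Fintype.card F := by
      by_contra hlt
      have hq : Fintype.card F = 3 := by
        rcases hodd with ⟨k, hk⟩
        omega
      rw [hq] at hp
      have h4 : ℓ ∣ 2 ^ 2 := by norm_num; exact hp
      exact h2 ((Nat.prime_dvd_prime_iff_eq hℓp Nat.prime_two).1 (hℓp.dvd_of_dvd_pow h4))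
    rw [Cfsg.Agent.Lib.Helper39_SL2McKayL.lhs_plus hodd hq5 ℓ hℓp h2 hp,
      Cfsg.Agent.Lib.Helper39_SL2McKayR.rhs_plus hodd ℓ h2 hp S]
  -- primes not dividing the group order
  · have hnd : ¬ ℓ ∣ Nat.card (Matrix.SpecialLinearGroup (Fin 2) F) := by
      rw [Cfsg.Agent.S2301.card_SL2]
      intro h
      rcases (Nat.Prime.dvd_mul hℓp).1 h with h | h
      · exact hdq h
      · have hfac : Fintype.card F ^ 2 - 1 = (Fintype.card F - 1) * (Fintype.card F + 1) := by
          obtain ⟨k, hk⟩ : ∃ k, Fintype.card F = k + 1 := ⟨Fintype.card F - 1, by omega⟩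
          rw [hk]
          have e : (k + 1) ^ 2 = (k + 1 - 1) * (k + 1 + 1) + 1 := by
            simp only [Nat.add_sub_cancel]
            ring
          rw [e, Nat.add_sub_cancel]
        rw [hfac] at h
        rcases (Nat.Prime.dvd_mul hℓp).1 h with h | h
        · exact hm h
        · exact hp h
    have hScard : Nat.card (S : Subgroup (Matrix.SpecialLinearGroup (Fin 2) F)) = 1 := by
      rw [Sylow.card_eq_multiplicity, Nat.factorization_eq_zero_of_not_dvd hnd, pow_zero]
    have hSbot : (S : Subgroup (Matrix.SpecialLinearGroup (Fin 2) F)) = ⊥ :=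
      Subgroup.eq_bot_of_card_eq _ hScard
    have hnormal : (S : Subgroup (Matrix.SpecialLinearGroup (Fin 2) F)).Normal := by
      rw [hSbot]
      infer_instance
    have htop : Subgroup.normalizer ((S : Subgroup (Matrix.SpecialLinearGroup (Fin 2) F)) :
        Set (Matrix.SpecialLinearGroup (Fin 2) F)) = ⊤ := Subgroup.normalizer_eq_top_iff.2 hnormal
    rw [Cfsg.Agent.Lib.Helper39_McKayTools.card_pprime_congr
      ((MulEquiv.subgroupCongr htop).trans Subgroup.topEquiv) ℓ]

end Cfsg.Agent.S2436
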