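import Cfsg.Statements.S2438
import Cfsg.Agent.Lib.Helper39_SL2Odd

set_option autoImplicit false
open Cfsg

namespace Cfsg.Agent.S2438

open Matrix
open Cfsg.Agent.Lib.Helper39_SL2Borel (u1 u1_val B1)
open Cfsg.Agent.Lib.Helper39_SL2Even (trivIrr)

/-- The sum over the upper unitriangular elements, reindexed by the field. -/
theorem sum_unitriangular {F : Type*} [Field F] [Fintype F] [DecidableEq F]
    [Fintype (SpecialLinearGroup (Fin 2) F)] (f : SpecialLinearGroup (Fin 2) F → ℂ) :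
    (∑ g : SpecialLinearGroup (Fin 2) F,
      if (g : Matrix (Fin 2) (Fin 2) F) 1 0 = 0 ∧ (g : Matrix (Fin 2) (Fin 2) F) 0 0 = 1 ∧
        (g : Matrix (Fin 2) (Fin 2) F) 1 1 = 1 then f g else 0) =
      ∑ x : F, f ((u1 x : B1 F) : SpecialLinearGroup (Fin 2) F) := by
  rw [← Finset.sum_filter]
  symm
  apply Finset.sum_bij (fun x _ => ((u1 x : B1 F) : SpecialLinearGroup (Fin 2) F))
  · intro x _
    rw [Finset.mem_filter]
    refine ⟨Finset.mem_univ _, ?_⟩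
    rw [u1_val]
    simp
  · intro x _ y _ h
    have := congrArg (fun g : SpecialLinearGroup (Fin 2) F =>
      (g : Matrix (Fin 2) (Fin 2) F) 0 1) h
    simpa [u1_val] using this
  · intro g hg
    rw [Finset.mem_filter] at hg
    refine ⟨(g : Matrix (Fin 2) (Fin 2) F) 0 1, Finset.mem_univ _, ?_⟩
    apply Matrix.SpecialLinearGroup.ext
    intro i j
    rw [u1_val]
    fin_cases i <;> fin_cases j <;> simp [hg.2.1, hg.2.2.1, hg.2.2.2]
  · intro x _
    rfl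

/-- Let F be a finite field with q elements, q odd, q ≥ 5, U the upper unitriangular subgroup of SL₂ over F, and χ an irreducible complex character. The sum of the values of χ over U equals 2q, q, 0, q, 0 according as the degree of χ is q + 1, q, q − 1, (q + 1)/2, (q − 1)/2; so among these five degrees the sum vanishes exactly for the degrees q − 1 and (q − 1)/2, i.e. the irreducible characters of those two degrees are the ones whose restriction to U does not contain the trivial character (the cuspidal characters), while those of degree q + 1, q and (q + 1)/2 are not cuspidal. -/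
theorem result {F : Type*} [Field F] [Fintype F] [DecidableEq F] (hodd : Odd (Fintype.card F)) (hq : 5 ≤ Fintype.card F)
    (χ : Matrix.SpecialLinearGroup (Fin 2) F → ℂ) (hχ : Cfsg.IsIrrCharacter (Matrix.SpecialLinearGroup (Fin 2) F) χ) :
    (χ 1 = (Fintype.card F : ℂ) + 1 →
      (∑ g : Matrix.SpecialLinearGroup (Fin 2) F, if (g : Matrix (Fin 2) (Fin 2) F) 1 0 = 0 ∧ (g : Matrix (Fin 2) (Fin 2) F) 0 0 = 1 ∧ (g : Matrix (Fin 2) (Fin 2) F) 1 1 = 1 then χ g else 0) = 2 * (Fintype.card F : ℂ)) ∧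
    (χ 1 = (Fintype.card F : ℂ) →
      (∑ g : Matrix.SpecialLinearGroup (Fin 2) F, if (g : Matrix (Fin 2) (Fin 2) F) 1 0 = 0 ∧ (g : Matrix (Fin 2) (Fin 2) F) 0 0 = 1 ∧ (g : Matrix (Fin 2) (Fin 2) F) 1 1 = 1 then χ g else 0) = (Fintype.card F : ℂ)) ∧
    (χ 1 = (Fintype.card F : ℂ) - 1 →
      (∑ g : Matrix.SpecialLinearGroup (Fin 2) F, if (g : Matrix (Fin 2) (Fin 2) F) 1 0 = 0 ∧ (g : Matrix (Fin 2) (Fin 2) F) 0 0 = 1 ∧ (g : Matrix (Fin 2) (Fin 2) F) 1 1 = 1 then χ g else 0) = 0) ∧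
    (χ 1 = (((Fintype.card F + 1) / 2 : ℕ) : ℂ) →
      (∑ g : Matrix.SpecialLinearGroup (Fin 2) F, if (g : Matrix (Fin 2) (Fin 2) F) 1 0 = 0 ∧ (g : Matrix (Fin 2) (Fin 2) F) 0 0 = 1 ∧ (g : Matrix (Fin 2) (Fin 2) F) 1 1 = 1 then χ g else 0) = (Fintype.card F : ℂ)) ∧
    (χ 1 = (((Fintype.card F - 1) / 2 : ℕ) : ℂ) →
      (∑ g : Matrix.SpecialLinearGroup (Fin 2) F, if (g : Matrix (Fin 2) (Fin 2) F) 1 0 = 0 ∧ (g : Matrix (Fin 2) (Fin 2) F) 0 0 = 1 ∧ (g : Matrix (Fin 2) (Fin 2) F) 1 1 = 1 then χ g else 0) = 0) := by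
  classical
  obtain ⟨a, B, hdeg, htypes, htriv, -, hsum⟩ :=
    Cfsg.Agent.Lib.Helper39_SL2Odd.odd_types' (F := F) hodd
  obtain ⟨m, hm⟩ := hodd
  have hm2 : 2 ≤ m := by omega
  have ehalf : (Fintype.card F - 1) / 2 = m := by omega
  have ehalf' : (Fintype.card F + 1) / 2 = m + 1 := by omega
  set χ' : Cfsg.IrrCharacter (SpecialLinearGroup (Fin 2) F) := ⟨χ, hχ⟩ with hχ'
  have hd : χ = (χ' : SpecialLinearGroup (Fin 2) F → ℂ) := rfl
  have hdegχ : χ 1 = ((a χ' + m * B χ' : ℕ) : ℂ) := by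
    have := hdeg χ'
    rw [ehalf] at this
    exact this
  have hsumχ : (∑ g : SpecialLinearGroup (Fin 2) F,
      if (g : Matrix (Fin 2) (Fin 2) F) 1 0 = 0 ∧ (g : Matrix (Fin 2) (Fin 2) F) 0 0 = 1 ∧
        (g : Matrix (Fin 2) (Fin 2) F) 1 1 = 1 then χ g else 0) =
      (Fintype.card F : ℂ) * (a χ' : ℂ) := by
    rw [sum_unitriangular, hd, hsum χ']
  -- the possible types
  have hcases : (a χ' = 1 ∧ B χ' = 0) ∨
      (a χ' = 0 ∧ B χ' = 1) ∨ (a χ' = 0 ∧ B χ' = 2) ∨ (a χ' = 1 ∧ B χ' = 1) ∨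
      (a χ' = 1 ∧ B χ' = 2) ∨ (a χ' = 2 ∧ B χ' = 2) := by
    by_cases h : χ' = trivIrr
    · left
      rw [h]
      exact htriv
    · right
      exact htypes χ' h
  have key : ∀ d : ℕ, χ 1 = (d : ℂ) → a χ' + m * B χ' = d := by
    intro d h
    have : ((a χ' + m * B χ' : ℕ) : ℂ) = (d : ℂ) := by rw [← hdegχ, h]
    exact_mod_cast this
  refine ⟨?_, ?_, ?_, ?_, ?_⟩
  · intro h
    have h' := key (2 * m + 2) (by rw [h, hm]; push_cast; ring)
    have ha : a χ' = 2 := by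
      rcases hcases with ⟨h1, h2⟩ | ⟨h1, h2⟩ | ⟨h1, h2⟩ | ⟨h1, h2⟩ | ⟨h1, h2⟩ | ⟨h1, h2⟩ <;>
        rw [h1, h2] at h' <;> omega
    rw [hsumχ, ha]
    push_cast
    ring
  · intro h
    have h' := key (2 * m + 1) (by rw [h, hm])
    have ha : a χ' = 1 := by
      rcases hcases with ⟨h1, h2⟩ | ⟨h1, h2⟩ | ⟨h1, h2⟩ | ⟨h1, h2⟩ | ⟨h1, h2⟩ | ⟨h1, h2⟩ <;>
        rw [h1, h2] at h' <;> omega
    rw [hsumχ, ha]
    push_cast
    ring
  · intro h
    have h' := key (2 * m) (by rw [h, hm]; push_cast; ring)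
    have ha : a χ' = 0 := by
      rcases hcases with ⟨h1, h2⟩ | ⟨h1, h2⟩ | ⟨h1, h2⟩ | ⟨h1, h2⟩ | ⟨h1, h2⟩ | ⟨h1, h2⟩ <;>
        rw [h1, h2] at h' <;> omega
    rw [hsumχ, ha]
    push_cast
    ring
  · intro h
    have h' := key (m + 1) (by rw [h, ehalf'])
    have ha : a χ' = 1 := by
      rcases hcases with ⟨h1, h2⟩ | ⟨h1, h2⟩ | ⟨h1, h2⟩ | ⟨h1, h2⟩ | ⟨h1, h2⟩ | ⟨h1, h2⟩ <;>
        rw [h1, h2] at h' <;> omega
    rw [hsumχ, ha]
    push_cast
    ring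
  · intro h
    have h' := key m (by rw [h, ehalf])
    have ha : a χ' = 0 := by
      rcases hcases with ⟨h1, h2⟩ | ⟨h1, h2⟩ | ⟨h1, h2⟩ | ⟨h1, h2⟩ | ⟨h1, h2⟩ | ⟨h1, h2⟩ <;>
        rw [h1, h2] at h' <;> omega
    rw [hsumχ, ha]
    push_cast
    ring

end Cfsg.Agent.S2438
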