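import Cfsg.Statements.S2439
import Cfsg.Agent.Lib.Helper39_BlockTools
import Cfsg.Agent.Lib.Helper39_SL2Central
import Cfsg.Agent.S2329
import Cfsg.Agent.S0914
import Cfsg.Agent.S2301
import Cfsg.Agent.Lib.Helper39_SL2Even
import Cfsg.Agent.Lib.Helper39_SL2Odd
import Cfsg.Agent.Lib.Helper39_PSL2
import Cfsg.Agent.Lib.Helper39_SL2Vanish
import Cfsg.Agent.Lib.Helper39_SL2HalfValues
import Cfsg.Agent.Lib.Helper3_CharColumn
import Cfsg.Agent.Lib.Helper78_LocalRing
import Cfsg.Agent.Lib.Helper78_CentralChar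
import Cfsg.Agent.Lib.Helper80_CharBasic

set_option autoImplicit false
open Cfsg

namespace Cfsg.Agent.S2439


open Matrix
open Cfsg.Agent.Lib.Helper39_SL2HalfValues Cfsg.Agent.Lib.Helper39_SL2Central

/-- An element of `SL₂(F)` conjugate in `GL₂(F)` to an upper unitriangular matrix has `p`-th power
one. -/
theorem pow_eq_one_of_conj_unitri {F : Type*} [Field F] (p : ℕ) [Fact p.Prime] [CharP F p]
    (h : SpecialLinearGroup (Fin 2) F) (c : GL (Fin 2) F)
    (h00 : ((c * SpecialLinearGroup.toGL h * c⁻¹ : GL (Fin 2) F) :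
      Matrix (Fin 2) (Fin 2) F) 0 0 = 1)
    (h11 : ((c * SpecialLinearGroup.toGL h * c⁻¹ : GL (Fin 2) F) :
      Matrix (Fin 2) (Fin 2) F) 1 1 = 1)
    (h10 : ((c * SpecialLinearGroup.toGL h * c⁻¹ : GL (Fin 2) F) :
      Matrix (Fin 2) (Fin 2) F) 1 0 = 0) : h ^ p = 1 := by
  have hp : p.Prime := Fact.out
  set a : GL (Fin 2) F := c * SpecialLinearGroup.toGL h * c⁻¹ with ha
  set B : Matrix (Fin 2) (Fin 2) F := (a : Matrix (Fin 2) (Fin 2) F) with hB
  have hsq : (B - 1) ^ 2 = 0 := by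
    rw [sq]
    ext i j
    fin_cases i <;> fin_cases j <;>
      simp [Matrix.mul_apply, Fin.sum_univ_two, h00, h11, h10]
  have hNp : (B - 1) ^ p = 0 := pow_eq_zero_of_le hp.two_le hsq
  have hBp : B ^ p = 1 := by
    rw [sub_pow_char_of_commute (p := p) (h := Commute.one_right B), one_pow] at hNp
    exact sub_eq_zero.1 hNp
  have hap : a ^ p = 1 := by
    apply Units.ext
    rw [Units.val_pow_eq_pow_val]
    exact hBp
  rw [ha, conj_pow, conj_eq_one_iff, ← map_pow] at hap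
  apply SpecialLinearGroup.toGL_injective
  rw [hap, map_one]


/-- An element of `SL₂(F)` whose centralizer has order divisible by `p` is the product of a
`p`-element and a central element. -/
theorem exists_decomp {F : Type*} [Field F] [Fintype F] (p : ℕ) [Fact p.Prime] [CharP F p]
    (g : SpecialLinearGroup (Fin 2) F)
    (hd : p ∣ Nat.card (Subgroup.centralizer ({g} : Set (SpecialLinearGroup (Fin 2) F)))) :
    ∃ u z : SpecialLinearGroup (Fin 2) F, g = u * z ∧ u * z = z * u ∧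
      (∃ k : ℕ, orderOf u = p ^ k) ∧ (z = 1 ∨ z = zc) := by
  have hp : p.Prime := Fact.out
  obtain ⟨x, hx⟩ := exists_prime_orderOf_dvd_card' p hd
  have hxg : g * (x : SpecialLinearGroup (Fin 2) F) = (x : SpecialLinearGroup (Fin 2) F) * g :=
    (Subgroup.mem_centralizer_iff.1 x.2) g (Set.mem_singleton g)
  have hox : orderOf (SpecialLinearGroup.toGL (x : SpecialLinearGroup (Fin 2) F)) = p := by
    rw [orderOf_injective _ SpecialLinearGroup.toGL_injective, Subgroup.orderOf_coe, hx]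
  obtain ⟨hne, hsq⟩ := Cfsg.Agent.S2329.nilp_of_order p _ hox
  obtain ⟨c, hc⟩ := isConj_iff.1 (Cfsg.Agent.S2329.conj_u_of_nilp _ hne hsq)
  set a : GL (Fin 2) F := c * SpecialLinearGroup.toGL g * c⁻¹ with ha
  have hcomm : a * Cfsg.Agent.S2329.u F = Cfsg.Agent.S2329.u F * a := by
    rw [← hc, ha]
    calc c * SpecialLinearGroup.toGL g * c⁻¹ *
          (c * SpecialLinearGroup.toGL (x : SpecialLinearGroup (Fin 2) F) * c⁻¹)
        = c * SpecialLinearGroup.toGL (g * (x : SpecialLinearGroup (Fin 2) F)) * c⁻¹ := by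
          rw [map_mul]; group
      _ = c * SpecialLinearGroup.toGL ((x : SpecialLinearGroup (Fin 2) F) * g) * c⁻¹ := by
          rw [hxg]
      _ = c * SpecialLinearGroup.toGL (x : SpecialLinearGroup (Fin 2) F) * c⁻¹ *
          (c * SpecialLinearGroup.toGL g * c⁻¹) := by
          rw [map_mul]; group
  have hcomm' : (a : Matrix (Fin 2) (Fin 2) F) * !![1, 1; 0, 1] =
      !![1, 1; 0, 1] * (a : Matrix (Fin 2) (Fin 2) F) := by
    have := congrArg (fun m : GL (Fin 2) F => (m : Matrix (Fin 2) (Fin 2) F)) hcomm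
    exact this
  have e00 := congrFun (congrFun hcomm' 0) 0
  have e01 := congrFun (congrFun hcomm' 0) 1
  simp [Matrix.mul_apply, Fin.sum_univ_two] at e00 e01
  have hdet : (a : Matrix (Fin 2) (Fin 2) F).det = 1 := by
    have h1 : (a : Matrix (Fin 2) (Fin 2) F) = (c : Matrix (Fin 2) (Fin 2) F) *
        (g : Matrix (Fin 2) (Fin 2) F) * ((c⁻¹ : GL (Fin 2) F) : Matrix (Fin 2) (Fin 2) F) := by
      rw [ha]; rfl
    rw [h1, Matrix.det_units_conj]
    exact g.2
  rw [Matrix.det_fin_two] at hdet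
  have h11 : (a : Matrix (Fin 2) (Fin 2) F) 1 1 = (a : Matrix (Fin 2) (Fin 2) F) 0 0 := by
    linear_combination -e01
  rw [e00, h11] at hdet
  have hsq1 : ((a : Matrix (Fin 2) (Fin 2) F) 0 0 - 1) *
      ((a : Matrix (Fin 2) (Fin 2) F) 0 0 + 1) = 0 := by linear_combination hdet
  have hfin : ∀ u : SpecialLinearGroup (Fin 2) F, u ^ p = 1 → ∃ k : ℕ, orderOf u = p ^ k := by
    intro u hu
    rcases (Nat.dvd_prime hp).1 (orderOf_dvd_of_pow_eq_one hu) with h | h
    · exact ⟨0, by rw [h, pow_zero]⟩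
    · exact ⟨1, by rw [h, pow_one]⟩
  rcases mul_eq_zero.1 hsq1 with h | h
  · have h00 : (a : Matrix (Fin 2) (Fin 2) F) 0 0 = 1 := sub_eq_zero.1 h
    refine ⟨g, 1, (mul_one g).symm, by rw [mul_one, one_mul], ?_, Or.inl rfl⟩
    apply hfin
    exact pow_eq_one_of_conj_unitri p g c h00 (by rw [← ha, h11, h00]) e00
  · have h00 : (a : Matrix (Fin 2) (Fin 2) F) 0 0 = -1 := eq_neg_of_add_eq_zero_left h
    refine ⟨g * zc, zc, by rw [mul_assoc, zc_mul_self, mul_one], zc_central _, ?_, Or.inr rfl⟩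
    apply hfin
    have hz : ((SpecialLinearGroup.toGL (zc : SpecialLinearGroup (Fin 2) F) : GL (Fin 2) F) :
        Matrix (Fin 2) (Fin 2) F) = -1 := by
      change ((zc : SpecialLinearGroup (Fin 2) F) : Matrix (Fin 2) (Fin 2) F) = -1
      rw [zc_val]
      ext i j
      fin_cases i <;> fin_cases j <;> simp
    have hneg : ((c * SpecialLinearGroup.toGL (g * zc) * c⁻¹ : GL (Fin 2) F) :
        Matrix (Fin 2) (Fin 2) F) = -(a : Matrix (Fin 2) (Fin 2) F) := by
      rw [map_mul, ha]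
      simp only [Units.val_mul]
      rw [hz]
      simp [mul_neg, neg_mul]
    apply pow_eq_one_of_conj_unitri p (g * zc) c
    · rw [hneg, Matrix.neg_apply, h00, neg_neg]
    · rw [hneg, Matrix.neg_apply, h11, h00, neg_neg]
    · rw [hneg, Matrix.neg_apply, e00, neg_zero]


section main

variable {F : Type*} [Field F] [Fintype F]

theorem card_facts (p : ℕ) [Fact p.Prime] [CharP F p] (hp2 : p ≠ 2) :
    Odd (Fintype.card F) ∧ p ∣ Fintype.card F := by
  have hp : p.Prime := Fact.out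
  obtain ⟨n, -, hn⟩ := FiniteField.card F p
  rw [hn]
  refine ⟨Odd.pow (hp.eq_two_or_odd'.resolve_left hp2), dvd_pow_self p n.ne_zero⟩

theorem neg_one_eq_zc : (-1 : SpecialLinearGroup (Fin 2) F) = zc := by
  apply Matrix.SpecialLinearGroup.ext
  intro i j
  rw [zc_val, Matrix.SpecialLinearGroup.coe_neg, Matrix.SpecialLinearGroup.coe_one]
  fin_cases i <;> fin_cases j <;> simp

theorem index_centralizer_zc :
    (Subgroup.centralizer ({zc} : Set (SpecialLinearGroup (Fin 2) F))).index = 1 := by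
  have : Subgroup.centralizer ({zc} : Set (SpecialLinearGroup (Fin 2) F)) = ⊤ := by
    rw [Subgroup.centralizer_eq_top_iff_subset, Set.singleton_subset_iff]
    exact zc_mem_center
  rw [this, Subgroup.index_top]

theorem central_sign (χ : Cfsg.IrrCharacter (SpecialLinearGroup (Fin 2) F)) :
    (χ : SpecialLinearGroup (Fin 2) F → ℂ) zc = (χ : SpecialLinearGroup (Fin 2) F → ℂ) 1 ∨
    (χ : SpecialLinearGroup (Fin 2) F → ℂ) zc = -(χ : SpecialLinearGroup (Fin 2) F → ℂ) 1 := by
  obtain ⟨ε, hε, h⟩ := exists_central_sign χ.2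
  have h1 := h 1
  rw [one_mul] at h1
  have h2 : (ε - 1) * (ε + 1) = 0 := by linear_combination hε
  rcases mul_eq_zero.1 h2 with h3 | h3
  · left
    rw [h1, sub_eq_zero.1 h3]
    simp
  · right
    rw [h1, eq_neg_of_add_eq_zero_left h3]
    simp

variable [Fintype (SpecialLinearGroup (Fin 2) F)]

theorem not_dvd_degree (p : ℕ) [Fact p.Prime] [CharP F p] (hp2 : p ≠ 2)
    (χ : Cfsg.IrrCharacter (SpecialLinearGroup (Fin 2) F))
    (hχ : (χ : SpecialLinearGroup (Fin 2) F → ℂ) 1 ≠ (Fintype.card F : ℂ)) :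
    ¬ p ∣ Cfsg.charDegree (χ : SpecialLinearGroup (Fin 2) F → ℂ) := by
  have hp : p.Prime := Fact.out
  obtain ⟨hodd, hpq⟩ := card_facts (F := F) p hp2
  have hq1 : 1 ≤ Fintype.card F := Fintype.card_pos
  have hone : ¬ p ∣ 1 := hp.one_lt.ne' ∘ Nat.dvd_one.mp
  have hplus : ∀ n : ℕ, n ∣ Fintype.card F + 1 → ¬ p ∣ n := by
    intro n hn hpn
    exact hone ((Nat.dvd_add_right hpq).1 (hpn.trans hn))
  have hminus : ∀ n : ℕ, n ∣ Fintype.card F - 1 → ¬ p ∣ n := by
    intro n hn hpn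
    have h1 : p ∣ Fintype.card F - 1 := hpn.trans hn
    have h2 : p ∣ Fintype.card F - (Fintype.card F - 1) := Nat.dvd_sub hpq h1
    have h3 : Fintype.card F - (Fintype.card F - 1) = 1 := by omega
    rw [h3] at h2
    exact hone h2
  obtain ⟨m, hm⟩ := hodd
  rcases Cfsg.Agent.Lib.Helper39_SL2Odd.degree_odd ⟨m, hm⟩ (χ : SpecialLinearGroup (Fin 2) F → ℂ) χ.2
    with h | h | h | h | h | h
  · rw [Cfsg.Agent.Lib.Helper78_CentralChar.charDegree_eq_of_one_eq_natCast (n := 1)
      (by rw [h]; simp)]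
    exact hone
  · exact absurd h hχ
  · rw [Cfsg.Agent.Lib.Helper78_CentralChar.charDegree_eq_of_one_eq_natCast
      (n := Fintype.card F + 1) (by rw [h]; push_cast; ring)]
    exact hplus _ dvd_rfl
  · rw [Cfsg.Agent.Lib.Helper78_CentralChar.charDegree_eq_of_one_eq_natCast
      (n := Fintype.card F - 1) (by rw [h, Nat.cast_sub hq1]; simp)]
    exact hminus _ dvd_rfl
  · rw [Cfsg.Agent.Lib.Helper78_CentralChar.charDegree_eq_of_one_eq_natCast h]
    exact hplus _ (Nat.div_dvd_of_dvd ⟨m + 1, by omega⟩)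
  · rw [Cfsg.Agent.Lib.Helper78_CentralChar.charDegree_eq_of_one_eq_natCast h]
    exact hminus _ (Nat.div_dvd_of_dvd ⟨m, by omega⟩)


omit [Fintype (SpecialLinearGroup (Fin 2) F)] in
theorem sign_of_sameBlock {p : ℕ} [Fact p.Prime] (hp2 : p ≠ 2) {M : Ideal Cfsg.AlgInt}
    (hM : Cfsg.IsPModular p M)
    (χ ψ : Cfsg.IrrCharacter (SpecialLinearGroup (Fin 2) F))
    (h : Cfsg.SameBlock M (χ : SpecialLinearGroup (Fin 2) F → ℂ)
      (ψ : SpecialLinearGroup (Fin 2) F → ℂ)) :
    (χ : SpecialLinearGroup (Fin 2) F → ℂ) zc = (χ : SpecialLinearGroup (Fin 2) F → ℂ) 1 ↔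
    (ψ : SpecialLinearGroup (Fin 2) F → ℂ) zc = (ψ : SpecialLinearGroup (Fin 2) F → ℂ) 1 := by
  have hpp : p.Prime := Fact.out
  have hχ1 := Cfsg.Agent.Lib.Helper78_CentralChar.isIrrCharacter_one_ne_zero χ.2
  have hψ1 := Cfsg.Agent.Lib.Helper78_CentralChar.isIrrCharacter_one_ne_zero ψ.2
  have h2 : ¬ Cfsg.MemLocalIdeal M (2 : ℂ) := by
    intro h2
    have h3 : Cfsg.MemLocalIdeal M ((2 : ℕ) : ℂ) := by exact_mod_cast h2
    rw [Cfsg.Agent.Lib.Helper78_LocalRing.memLocalIdeal_natCast_iff hM] at h3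
    exact hp2 ((Nat.prime_dvd_prime_iff_eq hpp Nat.prime_two).1 h3)
  have key := h zc
  unfold Cfsg.centralChar at key
  rw [index_centralizer_zc, Nat.cast_one, one_mul, one_mul] at key
  have hneq : ∀ φ : Cfsg.IrrCharacter (SpecialLinearGroup (Fin 2) F),
      (φ : SpecialLinearGroup (Fin 2) F → ℂ) zc = -(φ : SpecialLinearGroup (Fin 2) F → ℂ) 1 →
      (φ : SpecialLinearGroup (Fin 2) F → ℂ) zc ≠ (φ : SpecialLinearGroup (Fin 2) F → ℂ) 1 := by
    intro φ hφ hφ'
    have hφ1 := Cfsg.Agent.Lib.Helper78_CentralChar.isIrrCharacter_one_ne_zero φ.2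
    apply hφ1
    rw [hφ'] at hφ
    linear_combination (1 / 2 : ℂ) * hφ
  rcases central_sign χ with hc | hc <;> rcases central_sign ψ with hd | hd
  · exact ⟨fun _ => hd, fun _ => hc⟩
  · exfalso
    rw [hc, hd, neg_div, div_self hχ1, div_self hψ1] at key
    apply h2
    have : (1 : ℂ) - -1 = 2 := by norm_num
    rw [this] at key
    exact key
  · exfalso
    rw [hc, hd, neg_div, div_self hχ1, div_self hψ1] at key
    apply h2
    have h3 := Cfsg.Agent.Lib.Helper78_LocalRing.memLocalIdeal_neg key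
    have : -((-1 : ℂ) - 1) = 2 := by norm_num
    rw [this] at h3
    exact h3
  · exact ⟨fun h => absurd h (hneq χ hc), fun h => absurd h (hneq ψ hd)⟩

end main

/-- Let F be a finite field with q elements of odd characteristic p, and M a maximal ideal of the algebraic integers containing p. Then SL₂ over F has exactly three p-blocks relative to M: the irreducible character of degree q (the Steinberg character) alone; the other irreducible characters taking the same value at −1 as at 1 (the principal block); and the irreducible characters χ with χ(−1) = −χ(1). Every Sylow p-subgroup is a defect group of each of the last two blocks. -/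
theorem result {F : Type*} [Field F] [Fintype F] (p : ℕ) [Fact p.Prime] [CharP F p] (hp : p ≠ 2)
    (M : Ideal Cfsg.AlgInt) (hM : Cfsg.IsPModular p M) :
    (∀ B : Set (Cfsg.IrrCharacter (Matrix.SpecialLinearGroup (Fin 2) F)), Cfsg.IsPBlock M B ↔
      (B = {χ : Cfsg.IrrCharacter (Matrix.SpecialLinearGroup (Fin 2) F) | (χ : Matrix.SpecialLinearGroup (Fin 2) F → ℂ) 1 = (Fintype.card F : ℂ)} ∨
       B = {χ : Cfsg.IrrCharacter (Matrix.SpecialLinearGroup (Fin 2) F) | (χ : Matrix.SpecialLinearGroup (Fin 2) F → ℂ) (-1) = (χ : Matrix.SpecialLinearGroup (Fin 2) F → ℂ) 1 ∧ (χ : Matrix.SpecialLinearGroup (Fin 2) F → ℂ) 1 ≠ (Fintype.card F : ℂ)} ∨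
       B = {χ : Cfsg.IrrCharacter (Matrix.SpecialLinearGroup (Fin 2) F) | (χ : Matrix.SpecialLinearGroup (Fin 2) F → ℂ) (-1) = -(χ : Matrix.SpecialLinearGroup (Fin 2) F → ℂ) 1})) ∧
    Nat.card {B : Set (Cfsg.IrrCharacter (Matrix.SpecialLinearGroup (Fin 2) F)) // Cfsg.IsPBlock M B} = 3 ∧
    ∀ P : Sylow p (Matrix.SpecialLinearGroup (Fin 2) F),
      Cfsg.IsDefectGroup p M {χ : Cfsg.IrrCharacter (Matrix.SpecialLinearGroup (Fin 2) F) | (χ : Matrix.SpecialLinearGroup (Fin 2) F → ℂ) (-1) = (χ : Matrix.SpecialLinearGroup (Fin 2) F → ℂ) 1 ∧ (χ : Matrix.SpecialLinearGroup (Fin 2) F → ℂ) 1 ≠ (Fintype.card F : ℂ)} (P : Subgroup (Matrix.SpecialLinearGroup (Fin 2) F)) ∧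
      Cfsg.IsDefectGroup p M {χ : Cfsg.IrrCharacter (Matrix.SpecialLinearGroup (Fin 2) F) | (χ : Matrix.SpecialLinearGroup (Fin 2) F → ℂ) (-1) = -(χ : Matrix.SpecialLinearGroup (Fin 2) F → ℂ) 1} (P : Subgroup (Matrix.SpecialLinearGroup (Fin 2) F)) := by
  classical
  have : Fintype (SpecialLinearGroup (Fin 2) F) := Fintype.ofFinite _
  have hpp : p.Prime := Fact.out
  have hMp : M.IsPrime := Cfsg.Agent.Lib.Helper78_LocalRing.isPrime_of_isPModular hM
  obtain ⟨hodd, hpq⟩ := card_facts (F := F) p hp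
  have h2F : (2 : F) ≠ 0 := Cfsg.Agent.Lib.Helper39_SL2Vanish.two_ne_zero_of_odd hodd
  have hone : ¬ p ∣ 1 := hpp.one_lt.ne' ∘ Nat.dvd_one.mp
  have hq1 : (1 : ℂ) ≠ (Fintype.card F : ℂ) := by
    intro h
    have h' : (1 : ℕ) = Fintype.card F := by exact_mod_cast h
    rw [← h'] at hpq
    exact hone hpq
  have hq0 : (Fintype.card F : ℂ) ≠ 0 := by
    have : 0 < Fintype.card F := Fintype.card_pos
    exact_mod_cast this.ne'
  rw [neg_one_eq_zc]
  -- the three sets
  set B1 : Set (Cfsg.IrrCharacter (SpecialLinearGroup (Fin 2) F)) :=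
    {χ | (χ : SpecialLinearGroup (Fin 2) F → ℂ) 1 = (Fintype.card F : ℂ)} with hB1
  set B2 : Set (Cfsg.IrrCharacter (SpecialLinearGroup (Fin 2) F)) :=
    {χ | (χ : SpecialLinearGroup (Fin 2) F → ℂ) zc = (χ : SpecialLinearGroup (Fin 2) F → ℂ) 1 ∧
      (χ : SpecialLinearGroup (Fin 2) F → ℂ) 1 ≠ (Fintype.card F : ℂ)} with hB2
  set B3 : Set (Cfsg.IrrCharacter (SpecialLinearGroup (Fin 2) F)) :=
    {χ | (χ : SpecialLinearGroup (Fin 2) F → ℂ) zc =
      -(χ : SpecialLinearGroup (Fin 2) F → ℂ) 1} with hB3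
  -- the Steinberg character
  obtain ⟨St0, hSt0, -, hStdeg⟩ := Cfsg.Agent.Lib.Helper39_SL2Even.exists_steinberg (F := F)
  set St : Cfsg.IrrCharacter (SpecialLinearGroup (Fin 2) F) := ⟨St0, hSt0⟩ with hSt
  have hStu : ∀ χ : Cfsg.IrrCharacter (SpecialLinearGroup (Fin 2) F),
      (χ : SpecialLinearGroup (Fin 2) F → ℂ) 1 = (Fintype.card F : ℂ) → χ = St := by
    intro χ h
    exact Subtype.ext (Cfsg.Agent.Lib.Helper39_SL2Odd.steinberg_unique _ _ χ.2 hSt0 h hStdeg)
  have hStzc : (St : SpecialLinearGroup (Fin 2) F → ℂ) zc = (Fintype.card F : ℂ) := by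
    rw [← hStdeg]
    exact Cfsg.Agent.Lib.Helper39_PSL2.steinberg_central St0 hSt0 hStdeg zc_mem_center
  have hB1eq : B1 = {St} := by
    ext χ
    simp only [hB1, Set.mem_ofPred_eq, Set.mem_singleton_iff]
    exact ⟨hStu χ, fun h => by rw [h]; exact hStdeg⟩
  have hStblock : Cfsg.blockOf M (St : SpecialLinearGroup (Fin 2) F → ℂ) = {St} := by
    rw [← Cfsg.Agent.S0914.result p M hM St,
      Cfsg.Agent.Lib.Helper78_CentralChar.charDegree_eq_of_one_eq_natCast hStdeg,
      Cfsg.Agent.S2301.card_SL2, Nat.mul_div_cancel_left _ Fintype.card_pos]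
    intro h
    have h1 : p ∣ Fintype.card F ^ 2 := dvd_pow hpq two_ne_zero
    have h2 := Nat.dvd_sub h1 h
    have h3 : Fintype.card F ^ 2 - (Fintype.card F ^ 2 - 1) = 1 := by
      have : 0 < Fintype.card F ^ 2 := pow_pos Fintype.card_pos 2
      omega
    rw [h3] at h2
    exact hone h2
  -- the principal character
  set T : Cfsg.IrrCharacter (SpecialLinearGroup (Fin 2) F) :=
    Cfsg.Agent.Lib.Helper80_CharBasic.oneIrr (SpecialLinearGroup (Fin 2) F) with hT
  have hTval : ∀ g : SpecialLinearGroup (Fin 2) F,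
      (T : SpecialLinearGroup (Fin 2) F → ℂ) g = 1 := fun g => rfl
  -- characters of degree prime to `p` with the same central sign lie in the same block
  have hsame : ∀ χ ψ : Cfsg.IrrCharacter (SpecialLinearGroup (Fin 2) F),
      (χ : SpecialLinearGroup (Fin 2) F → ℂ) 1 ≠ (Fintype.card F : ℂ) →
      (ψ : SpecialLinearGroup (Fin 2) F → ℂ) 1 ≠ (Fintype.card F : ℂ) →
      (χ : SpecialLinearGroup (Fin 2) F → ℂ) zc * (ψ : SpecialLinearGroup (Fin 2) F → ℂ) 1 =
        (ψ : SpecialLinearGroup (Fin 2) F → ℂ) zc * (χ : SpecialLinearGroup (Fin 2) F → ℂ) 1 →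
      Cfsg.SameBlock M (χ : SpecialLinearGroup (Fin 2) F → ℂ)
        (ψ : SpecialLinearGroup (Fin 2) F → ℂ) := by
    intro χ ψ hχ hψ hz
    apply Cfsg.Agent.Lib.Helper39_BlockTools.sameBlock_of_cases hM χ ψ
      (not_dvd_degree p hp χ hχ) (not_dvd_degree p hp ψ hψ)
    intro g
    by_cases hd : p ∣ Nat.card (Subgroup.centralizer ({g} : Set (SpecialLinearGroup (Fin 2) F)))
    · right
      obtain ⟨u, z, hg, hc, hk, hz'⟩ := exists_decomp p g hd
      refine ⟨u, z, hg, hc, hk, ?_⟩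
      rcases hz' with rfl | rfl
      · ring
      · exact hz
    · left
      have h1 := Subgroup.card_mul_index
        (Subgroup.centralizer ({g} : Set (SpecialLinearGroup (Fin 2) F)))
      have h2 : p ∣ Nat.card (SpecialLinearGroup (Fin 2) F) := by
        rw [Cfsg.Agent.S2301.card_SL2]
        exact Dvd.dvd.mul_right hpq _
      rw [← h1] at h2
      exact (hpp.dvd_mul.1 h2).resolve_left hd
  -- the principal block
  have hB2eq : B2 = Cfsg.blockOf M (T : SpecialLinearGroup (Fin 2) F → ℂ) := by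
    ext χ
    rw [Cfsg.Agent.Lib.Helper78_LocalRing.mem_blockOf_iff]
    constructor
    · rintro ⟨h1, h2⟩
      apply hsame T χ (by rw [hTval]; exact hq1) h2
      rw [hTval, hTval, h1]
      ring
    · intro h
      refine ⟨((sign_of_sameBlock hp hM T χ h).1 (by rw [hTval, hTval])), ?_⟩
      intro hq
      have h1 : χ = St := hStu χ hq
      rw [h1] at h
      have h2 : T ∈ Cfsg.blockOf M (St : SpecialLinearGroup (Fin 2) F → ℂ) :=
        Cfsg.Agent.Lib.Helper78_LocalRing.mem_blockOf_iff.2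
          (Cfsg.Agent.Lib.Helper78_LocalRing.sameBlock_symm h)
      rw [hStblock, Set.mem_singleton_iff] at h2
      apply hq1
      rw [← hStdeg, ← hTval 1, h2]
  -- an irreducible character that is not trivial on the centre
  obtain ⟨χ₀, hχ₀⟩ : ∃ χ₀ : Cfsg.IrrCharacter (SpecialLinearGroup (Fin 2) F),
      (χ₀ : SpecialLinearGroup (Fin 2) F → ℂ) zc =
        -(χ₀ : SpecialLinearGroup (Fin 2) F → ℂ) 1 := by
    by_contra hno
    push Not at hno
    have hall : ∀ χ : Cfsg.IrrCharacter (SpecialLinearGroup (Fin 2) F),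
        (χ : SpecialLinearGroup (Fin 2) F → ℂ) zc =
          (χ : SpecialLinearGroup (Fin 2) F → ℂ) 1 := by
      intro χ
      rcases central_sign χ with h | h
      · exact h
      · exact absurd h (hno χ)
    have := (Cfsg.Agent.Lib.Helper3_CharColumn.isConj_iff_forall_irr
      (zc : SpecialLinearGroup (Fin 2) F) 1).2 hall
    rw [isConj_one_left] at this
    exact zc_ne_one h2F this
  have hodd_ne : ∀ χ : Cfsg.IrrCharacter (SpecialLinearGroup (Fin 2) F),
      (χ : SpecialLinearGroup (Fin 2) F → ℂ) zc = -(χ : SpecialLinearGroup (Fin 2) F → ℂ) 1 →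
      (χ : SpecialLinearGroup (Fin 2) F → ℂ) 1 ≠ (Fintype.card F : ℂ) := by
    intro χ h hq
    have h1 := Cfsg.Agent.Lib.Helper39_PSL2.steinberg_central _ χ.2 hq zc_mem_center
    rw [h, hq] at h1
    apply hq0
    linear_combination (-1 / 2 : ℂ) * h1
  have hB3eq : B3 = Cfsg.blockOf M (χ₀ : SpecialLinearGroup (Fin 2) F → ℂ) := by
    ext χ
    rw [Cfsg.Agent.Lib.Helper78_LocalRing.mem_blockOf_iff]
    constructor
    · intro h
      apply hsame χ₀ χ (hodd_ne χ₀ hχ₀) (hodd_ne χ h)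
      rw [hχ₀, (h : (χ : SpecialLinearGroup (Fin 2) F → ℂ) zc = _)]
      ring
    · intro h
      have h1 := sign_of_sameBlock hp hM χ₀ χ h
      rcases central_sign χ with h2 | h2
      · exfalso
        have h3 := h1.2 h2
        rw [hχ₀] at h3
        have := Cfsg.Agent.Lib.Helper78_CentralChar.isIrrCharacter_one_ne_zero χ₀.2
        apply this
        linear_combination (-1 / 2 : ℂ) * h3
      · exact h2
  have hblock1 : Cfsg.IsPBlock M B1 := ⟨St, by rw [hB1eq, hStblock]⟩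
  have hblock2 : Cfsg.IsPBlock M B2 := ⟨T, hB2eq⟩
  have hblock3 : Cfsg.IsPBlock M B3 := ⟨χ₀, hB3eq⟩
  have hmemSt : St ∈ B1 := hStdeg
  have hmemT : T ∈ B2 := ⟨by rw [hTval, hTval], by rw [hTval]; exact hq1⟩
  have hmemχ₀ : χ₀ ∈ B3 := hχ₀
  have h12 : B1 ≠ B2 := by
    intro h
    rw [h] at hmemSt
    exact hmemSt.2 hStdeg
  have h13 : B1 ≠ B3 := by
    intro h
    rw [h] at hmemSt
    exact hodd_ne St hmemSt hStdeg
  have h23 : B2 ≠ B3 := by
    intro h
    rw [h] at hmemT
    have h1 : (T : SpecialLinearGroup (Fin 2) F → ℂ) zc =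
      -(T : SpecialLinearGroup (Fin 2) F → ℂ) 1 := hmemT
    rw [hTval, hTval] at h1
    norm_num at h1
  have hiff : ∀ B : Set (Cfsg.IrrCharacter (SpecialLinearGroup (Fin 2) F)),
      Cfsg.IsPBlock M B ↔ (B = B1 ∨ B = B2 ∨ B = B3) := by
    intro B
    constructor
    · rintro ⟨χ, rfl⟩
      by_cases hq : (χ : SpecialLinearGroup (Fin 2) F → ℂ) 1 = (Fintype.card F : ℂ)
      · left
        rw [hStu χ hq, hStblock, hB1eq]
      · rcases central_sign χ with h | h
        · right; left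
          have hmem : χ ∈ B2 := ⟨h, hq⟩
          rw [hB2eq, Cfsg.Agent.Lib.Helper78_LocalRing.mem_blockOf_iff] at hmem
          rw [hB2eq]
          exact (Cfsg.Agent.Lib.Helper78_LocalRing.blockOf_eq_of_sameBlock hMp hmem).symm
        · right; right
          have hmem : χ ∈ B3 := h
          rw [hB3eq, Cfsg.Agent.Lib.Helper78_LocalRing.mem_blockOf_iff] at hmem
          rw [hB3eq]
          exact (Cfsg.Agent.Lib.Helper78_LocalRing.blockOf_eq_of_sameBlock hMp hmem).symm
    · rintro (rfl | rfl | rfl)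
      · exact hblock1
      · exact hblock2
      · exact hblock3
  refine ⟨hiff, ?_, ?_⟩
  · have hset : {B : Set (Cfsg.IrrCharacter (SpecialLinearGroup (Fin 2) F)) |
        Cfsg.IsPBlock M B} = {B1, B2, B3} := by
      ext B
      simp only [Set.mem_ofPred_eq, Set.mem_insert_iff, Set.mem_singleton_iff]
      exact hiff B
    have h1 : Nat.card {B : Set (Cfsg.IrrCharacter (SpecialLinearGroup (Fin 2) F)) //
        Cfsg.IsPBlock M B} = Set.ncard {B : Set (Cfsg.IrrCharacter
          (SpecialLinearGroup (Fin 2) F)) | Cfsg.IsPBlock M B} := rfl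
    rw [h1, hset]
    exact Set.ncard_eq_three.2 ⟨B1, B2, B3, h12, h13, h23, rfl⟩
  · intro P
    constructor
    · apply Cfsg.Agent.Lib.Helper39_BlockTools.isDefectGroup_sylow_of_not_dvd hM hblock2 T hmemT
      rw [Cfsg.Agent.Lib.Helper78_CentralChar.charDegree_eq_of_one_eq_natCast (n := 1)
        (by rw [hTval]; simp)]
      exact hone
    · exact Cfsg.Agent.Lib.Helper39_BlockTools.isDefectGroup_sylow_of_not_dvd hM hblock3 χ₀
        hmemχ₀ (not_dvd_degree p hp χ₀ (hodd_ne χ₀ hχ₀)) P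

end Cfsg.Agent.S2439
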