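import Cfsg.Statements.S2450
import Cfsg.Agent.Lib.Helper41_SL2

set_option autoImplicit false
open Cfsg

namespace Cfsg.Agent.S2450

open Cfsg.Agent.Lib.Helper41_SL2

variable {F : Type*} [Field F]

abbrev SL2 (F : Type*) [Field F] := Matrix.SpecialLinearGroup (Fin 2) F
abbrev PSL2 (F : Type*) [Field F] := Matrix.ProjectiveSpecialLinearGroup (Fin 2) F

theorem trace_conj (H G : SL2 F) :
    Matrix.trace ((H * G * H⁻¹ : SL2 F) : Matrix (Fin 2) (Fin 2) F) =
      Matrix.trace (G : Matrix (Fin 2) (Fin 2) F) := by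
  rw [Matrix.SpecialLinearGroup.coe_mul, Matrix.SpecialLinearGroup.coe_mul, Matrix.trace_mul_comm,
    ← Matrix.mul_assoc, ← Matrix.SpecialLinearGroup.coe_mul, inv_mul_cancel,
    Matrix.SpecialLinearGroup.coe_one, Matrix.one_mul]

/-- The square of the trace is a class invariant on `PSL₂`. -/
theorem trace_sq_eq_of_isConj (G₁ G₂ : SL2 F)
    (h : IsConj (QuotientGroup.mk G₁ : PSL2 F) (QuotientGroup.mk G₂)) :
    (Matrix.trace (G₁ : Matrix (Fin 2) (Fin 2) F)) ^ 2 =
      (Matrix.trace (G₂ : Matrix (Fin 2) (Fin 2) F)) ^ 2 := by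
  rw [isConj_iff] at h
  obtain ⟨h', hh'⟩ := h
  obtain ⟨H, rfl⟩ := QuotientGroup.mk_surjective h'
  rw [← QuotientGroup.mk_inv, ← QuotientGroup.mk_mul, ← QuotientGroup.mk_mul, QuotientGroup.eq] at hh'
  obtain ⟨c, hc2, hc⟩ := scalar_of_mem_center _ hh'
  have h2 : (G₂ : Matrix (Fin 2) (Fin 2) F) =
      c • ((H * G₁ * H⁻¹ : SL2 F) : Matrix (Fin 2) (Fin 2) F) := by
    have h3 : (G₂ : Matrix (Fin 2) (Fin 2) F) =
        ((H * G₁ * H⁻¹ : SL2 F) : Matrix (Fin 2) (Fin 2) F) *
          (((H * G₁ * H⁻¹)⁻¹ * G₂ : SL2 F) : Matrix (Fin 2) (Fin 2) F) := by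
      rw [← Matrix.SpecialLinearGroup.coe_mul, mul_inv_cancel_left]
    rw [hc] at h3
    rw [h3, Matrix.mul_smul, Matrix.mul_one]
  rw [h2, Matrix.trace_smul, trace_conj, smul_eq_mul, mul_pow, hc2, one_mul]

/-- upper unitriangular element -/
def upper (s : F) : SL2 F := ⟨!![1, s; 0, 1], by simp [Matrix.det_fin_two]⟩

/-- lower unitriangular element -/
def lower (s : F) : SL2 F := ⟨!![1, 0; s, 1], by simp [Matrix.det_fin_two]⟩

/-- Weyl element -/
def weyl (F : Type*) [Field F] : SL2 F := ⟨!![0, 1; -1, 0], by simp [Matrix.det_fin_two]⟩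

theorem coe_inv_apply (A : SL2 F) :
    ((A⁻¹ : SL2 F) : Matrix (Fin 2) (Fin 2) F) =
      !![(A : Matrix (Fin 2) (Fin 2) F) 1 1, -(A : Matrix (Fin 2) (Fin 2) F) 0 1;
        -(A : Matrix (Fin 2) (Fin 2) F) 1 0, (A : Matrix (Fin 2) (Fin 2) F) 0 0] := by
  rw [Matrix.SpecialLinearGroup.coe_inv, Matrix.adjugate_fin_two]

/-- A non-scalar element has a conjugate with nonzero lower-left entry. -/
theorem exists_conj_entry_ne_zero (A : SL2 F)
    (hA : ¬ ∃ c : F, (A : Matrix (Fin 2) (Fin 2) F) = c • (1 : Matrix (Fin 2) (Fin 2) F)) :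
    ∃ U : SL2 F, ((U * A * U⁻¹ : SL2 F) : Matrix (Fin 2) (Fin 2) F) 1 0 ≠ 0 := by
  by_cases h3 : (A : Matrix (Fin 2) (Fin 2) F) 1 0 ≠ 0
  · exact ⟨1, by simpa using h3⟩
  · push Not at h3
    by_cases h2 : (A : Matrix (Fin 2) (Fin 2) F) 0 1 ≠ 0
    · refine ⟨weyl F, ?_⟩
      rw [Matrix.SpecialLinearGroup.coe_mul, Matrix.SpecialLinearGroup.coe_mul, coe_inv_apply,
        Matrix.eta_fin_two (A : Matrix (Fin 2) (Fin 2) F)]
      simp [weyl]
      exact h2
    · push Not at h2
      have hne : (A : Matrix (Fin 2) (Fin 2) F) 0 0 ≠ (A : Matrix (Fin 2) (Fin 2) F) 1 1 := by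
        intro h
        apply hA
        refine ⟨(A : Matrix (Fin 2) (Fin 2) F) 0 0, ?_⟩
        ext i j
        fin_cases i <;> fin_cases j <;> simp [h2, h3, h]
      refine ⟨lower 1, ?_⟩
      rw [Matrix.SpecialLinearGroup.coe_mul, Matrix.SpecialLinearGroup.coe_mul, coe_inv_apply,
        Matrix.eta_fin_two (A : Matrix (Fin 2) (Fin 2) F)]
      simp [lower, h2, h3]
      intro h
      apply hne
      linear_combination h

/-- The trace of `A * (W_s B W_s⁻¹)` as a quadratic polynomial in `s`. -/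
theorem trace_formula (A B : SL2 F) (s : F) :
    Matrix.trace ((A * (upper s * B * (upper s)⁻¹) : SL2 F) : Matrix (Fin 2) (Fin 2) F) =
      Matrix.trace ((A * B : SL2 F) : Matrix (Fin 2) (Fin 2) F) +
        s * (((A : Matrix (Fin 2) (Fin 2) F) 0 0 - (A : Matrix (Fin 2) (Fin 2) F) 1 1) *
              (B : Matrix (Fin 2) (Fin 2) F) 1 0 +
            (A : Matrix (Fin 2) (Fin 2) F) 1 0 *
              ((B : Matrix (Fin 2) (Fin 2) F) 1 1 - (B : Matrix (Fin 2) (Fin 2) F) 0 0)) -
        s ^ 2 * ((A : Matrix (Fin 2) (Fin 2) F) 1 0 * (B : Matrix (Fin 2) (Fin 2) F) 1 0) := by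
  rw [Matrix.SpecialLinearGroup.coe_mul, Matrix.SpecialLinearGroup.coe_mul,
    Matrix.SpecialLinearGroup.coe_mul, Matrix.SpecialLinearGroup.coe_mul, coe_inv_apply,
    Matrix.eta_fin_two (A : Matrix (Fin 2) (Fin 2) F), Matrix.eta_fin_two (B : Matrix (Fin 2) (Fin 2) F)]
  simp [upper, Matrix.trace_fin_two]
  ring

/-- A function of the shape `T + L s - κ s²` with `κ ≠ 0` cannot have constant square on a field with at
least 4 elements. -/
theorem quad_not_const_sq [Fintype F] (h4 : 4 ≤ Fintype.card F) (T L κ : F) (hκ : κ ≠ 0)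
    (h : ∀ s : F, (T + s * L - s ^ 2 * κ) ^ 2 = T ^ 2) : False := by
  classical
  have hcases : ∀ s : F, s * (L - s * κ) = 0 ∨ κ * s ^ 2 - L * s - 2 * T = 0 := by
    intro s
    have := h s
    have h' : (s * (L - s * κ)) * (-(κ * s ^ 2 - L * s - 2 * T)) = 0 := by
      linear_combination this
    rcases mul_eq_zero.1 h' with h1 | h1
    · exact Or.inl h1
    · exact Or.inr (by linear_combination (-1 : F) * h1)
  by_cases h2 : (2 : F) = 0
  · -- then every s is a root of s (L - s κ)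
    have hall : ∀ s : F, s * (L - s * κ) = 0 := by
      intro s
      rcases hcases s with h1 | h1
      · exact h1
      · have : κ * s ^ 2 - L * s = 0 := by rw [h2, zero_mul, sub_zero] at h1; exact h1
        linear_combination (-1 : F) * this
    have hsub : (Finset.univ : Finset F) ⊆ {0, L / κ} := by
      intro s _
      rcases mul_eq_zero.1 (hall s) with h1 | h1
      · simp [h1]
      · have : s = L / κ := by field_simp; linear_combination (-1 : F) * h1
        simp [this]
    have := Finset.card_le_card hsub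
    have h3 : ({0, L / κ} : Finset F).card ≤ 2 := Finset.card_le_two
    rw [Finset.card_univ] at this
    omega
  · -- the field has at least 5 elements
    have hne4 : Fintype.card F ≠ 4 := by
      intro h44
      have : ((Fintype.card F : ℕ) : F) = 0 := Nat.cast_card_eq_zero F
      rw [h44] at this
      have h22 : (2 : F) * 2 = 0 := by
        have : (4 : F) = 0 := by exact_mod_cast this
        linear_combination this
      rcases mul_eq_zero.1 h22 with h | h <;> exact h2 h
    have h5 : 5 ≤ Fintype.card F := by omega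
    -- roots of the second quadratic
    have hS2 : ∃ s₁ : F, ∀ s : F, κ * s ^ 2 - L * s - 2 * T = 0 → s = s₁ ∨ s = L / κ - s₁ := by
      by_cases hex : ∃ s₁ : F, κ * s₁ ^ 2 - L * s₁ - 2 * T = 0
      · obtain ⟨s₁, hs₁⟩ := hex
        refine ⟨s₁, fun s hs => ?_⟩
        have : (s - s₁) * (κ * (s + s₁) - L) = 0 := by linear_combination hs - hs₁
        rcases mul_eq_zero.1 this with h1 | h1
        · exact Or.inl (by linear_combination h1)
        · right
          field_simp
          linear_combination h1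
      · push Not at hex
        exact ⟨0, fun s hs => absurd hs (hex s)⟩
    obtain ⟨s₁, hs₁⟩ := hS2
    have hsub : (Finset.univ : Finset F) ⊆ {0, L / κ} ∪ {s₁, L / κ - s₁} := by
      intro s _
      rcases hcases s with h1 | h1
      · rcases mul_eq_zero.1 h1 with h1 | h1
        · simp [h1]
        · have : s = L / κ := by field_simp; linear_combination (-1 : F) * h1
          simp [this]
      · rcases hs₁ s h1 with h1 | h1
        · simp [h1]
        · simp [h1]
    have := Finset.card_le_card hsub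
    have h3 : ({0, L / κ} : Finset F).card ≤ 2 := Finset.card_le_two
    have h4' : ({s₁, L / κ - s₁} : Finset F).card ≤ 2 := Finset.card_le_two
    have h6 := Finset.card_union_le ({0, L / κ} : Finset F) {s₁, L / κ - s₁}
    rw [Finset.card_univ] at this
    omega

theorem result {F : Type*} [Field F] [Fintype F] (h4 : 4 ≤ Fintype.card F)
    (a b : Matrix.ProjectiveSpecialLinearGroup (Fin 2) F) (ha : a ≠ 1) (hb : b ≠ 1) (c : Matrix.ProjectiveSpecialLinearGroup (Fin 2) F) :
    {g : Matrix.ProjectiveSpecialLinearGroup (Fin 2) F | ∃ u v : Matrix.ProjectiveSpecialLinearGroup (Fin 2) F, g = (u * a * u⁻¹) * (v * b * v⁻¹)} ≠ {g | IsConj c g} := by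
  intro hEq
  obtain ⟨A₀, rfl⟩ := QuotientGroup.mk_surjective a
  obtain ⟨B₀, rfl⟩ := QuotientGroup.mk_surjective b
  have hA₀ : ¬ ∃ c : F, (A₀ : Matrix (Fin 2) (Fin 2) F) = c • (1 : Matrix (Fin 2) (Fin 2) F) := by
    rintro ⟨c, hc⟩
    apply ha
    rw [QuotientGroup.eq_one_iff]
    exact mem_center_of_scalar A₀ c hc
  have hB₀ : ¬ ∃ c : F, (B₀ : Matrix (Fin 2) (Fin 2) F) = c • (1 : Matrix (Fin 2) (Fin 2) F) := by
    rintro ⟨c, hc⟩
    apply hb
    rw [QuotientGroup.eq_one_iff]
    exact mem_center_of_scalar B₀ c hc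
  obtain ⟨U, hU⟩ := exists_conj_entry_ne_zero A₀ hA₀
  obtain ⟨V, hV⟩ := exists_conj_entry_ne_zero B₀ hB₀
  set A : SL2 F := U * A₀ * U⁻¹ with hA
  set B : SL2 F := V * B₀ * V⁻¹ with hB
  -- all the elements g_s lie in the product set
  have hmem : ∀ s : F, IsConj c (QuotientGroup.mk (A * (upper s * B * (upper s)⁻¹)) : PSL2 F) := by
    intro s
    have : (QuotientGroup.mk (A * (upper s * B * (upper s)⁻¹)) : PSL2 F) ∈
        {g : PSL2 F | ∃ u v : PSL2 F, g = (u * QuotientGroup.mk A₀ * u⁻¹) * (v * QuotientGroup.mk B₀ * v⁻¹)} := by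
      refine ⟨QuotientGroup.mk U, QuotientGroup.mk (upper s * V), ?_⟩
      rw [hA, hB]
      simp only [QuotientGroup.mk_mul, QuotientGroup.mk_inv]
      group
    rw [hEq] at this
    exact this
  have hconj : ∀ s : F, (Matrix.trace ((A * (upper s * B * (upper s)⁻¹) : SL2 F) : Matrix (Fin 2) (Fin 2) F)) ^ 2 =
      (Matrix.trace ((A * (upper 0 * B * (upper 0)⁻¹) : SL2 F) : Matrix (Fin 2) (Fin 2) F)) ^ 2 := by
    intro s
    exact trace_sq_eq_of_isConj _ _ ((hmem s).symm.trans (hmem 0))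
  simp only [trace_formula] at hconj
  refine quad_not_const_sq h4 (Matrix.trace ((A * B : SL2 F) : Matrix (Fin 2) (Fin 2) F))
    (((A : Matrix (Fin 2) (Fin 2) F) 0 0 - (A : Matrix (Fin 2) (Fin 2) F) 1 1) *
              (B : Matrix (Fin 2) (Fin 2) F) 1 0 +
            (A : Matrix (Fin 2) (Fin 2) F) 1 0 *
              ((B : Matrix (Fin 2) (Fin 2) F) 1 1 - (B : Matrix (Fin 2) (Fin 2) F) 0 0))
    ((A : Matrix (Fin 2) (Fin 2) F) 1 0 * (B : Matrix (Fin 2) (Fin 2) F) 1 0)
    (mul_ne_zero hU hV) (fun s => ?_)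
  have := hconj s
  simp only [zero_mul, add_zero, ne_eq, OfNat.ofNat_ne_zero, not_false_eq_true, zero_pow, sub_zero] at this
  exact this

end Cfsg.Agent.S2450
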