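import Cfsg.Statements.S2455
import Cfsg.Agent.Lib.Helper41_SL2Conic

set_option autoImplicit false
open Cfsg

namespace Cfsg.Agent.S2455

open Cfsg.Agent.Lib.Helper41_SL2 Cfsg.Agent.Lib.Helper41_SL2Conj Cfsg.Agent.Lib.Helper41_SL2Conic

theorem result {F : Type*} [Field F] [Fintype F] (p : ℕ) [Fact p.Prime] [CharP F p] (hp : p ≠ 2) (h5 : 5 ≤ Fintype.card F)
    (x : Matrix.ProjectiveSpecialLinearGroup (Fin 2) F) (hx2 : 2 < orderOf x) (hxp : ¬ p ∣ orderOf x) : ∀ g : Matrix.ProjectiveSpecialLinearGroup (Fin 2) F, g ≠ 1 → ∃ u v : Matrix.ProjectiveSpecialLinearGroup (Fin 2) F, g = (u * x * u⁻¹) * (v * x * v⁻¹) := by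
  intro g hg
  have hpp : p.Prime := Fact.out
  have h2 : (2 : F) ≠ 0 := by
    intro h
    have h' : ((2 : ℕ) : F) = 0 := by exact_mod_cast h
    rw [CharP.cast_eq_zero_iff F p 2] at h'
    exact hp ((Nat.prime_dvd_prime_iff_eq hpp Nat.prime_two).1 h')
  obtain ⟨X, rfl⟩ := QuotientGroup.mk_surjective x
  obtain ⟨G₀, rfl⟩ := QuotientGroup.mk_surjective g
  set τ := Matrix.trace (X : Matrix (Fin 2) (Fin 2) F) with hτdef
  have hMM := sl2_mul_self X
  rw [← hτdef] at hMM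
  -- τ ≠ 0
  have hτ0 : τ ≠ 0 := by
    intro h0
    have h1 : (QuotientGroup.mk X : Matrix.ProjectiveSpecialLinearGroup (Fin 2) F) ^ 2 = 1 := by
      rw [psl_pow_eq_one_iff]
      refine ⟨-1, ?_⟩
      rw [pow_two, hMM, h0, zero_smul, add_zero]
    have := Nat.le_of_dvd (by norm_num) (orderOf_dvd_of_pow_eq_one h1)
    omega
  -- τ² ≠ 4
  have hτ4 : τ ^ 2 ≠ 4 := by
    intro h4
    obtain ⟨c, hc⟩ := pow_char_scalar_of_trace_sq p h2 X h4
    have h1 : (QuotientGroup.mk X : Matrix.ProjectiveSpecialLinearGroup (Fin 2) F) ^ p = 1 := by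
      rw [psl_pow_eq_one_iff]
      exact ⟨c, hc⟩
    have hdvd := orderOf_dvd_of_pow_eq_one h1
    rcases (Nat.dvd_prime hpp).1 hdvd with h | h
    · omega
    · exact hxp (h ▸ dvd_rfl)
  -- G₀ is not scalar
  have hG₀ : ¬ ∃ c : F, (G₀ : Matrix (Fin 2) (Fin 2) F) = c • (1 : Matrix (Fin 2) (Fin 2) F) := by
    rintro ⟨c, hc⟩
    apply hg
    rw [QuotientGroup.eq_one_iff]
    exact mem_center_of_scalar G₀ c hc
  -- choose the lift with trace ≠ 2
  obtain ⟨G, hGmk, hGns, hGγ⟩ : ∃ G : Matrix.SpecialLinearGroup (Fin 2) F,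
      (QuotientGroup.mk G : Matrix.ProjectiveSpecialLinearGroup (Fin 2) F) = QuotientGroup.mk G₀ ∧
      (¬ ∃ c : F, (G : Matrix (Fin 2) (Fin 2) F) = c • (1 : Matrix (Fin 2) (Fin 2) F)) ∧
      Matrix.trace (G : Matrix (Fin 2) (Fin 2) F) ≠ 2 := by
    by_cases hγ : Matrix.trace (G₀ : Matrix (Fin 2) (Fin 2) F) = 2
    · refine ⟨negOne F * G₀, mk_negOne_mul G₀, ?_, ?_⟩
      · rintro ⟨c, hc⟩
        apply hG₀
        refine ⟨-c, ?_⟩
        rw [negOne_mul_coe] at hc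
        rw [neg_smul, ← hc, neg_neg]
      · rw [negOne_mul_coe, Matrix.trace_neg, hγ]
        intro h
        apply h2
        have h4 : (2 : F) * 2 = 0 := by linear_combination (-1 : F) * h
        rcases mul_eq_zero.1 h4 with h | h <;> exact h
    · exact ⟨G₀, rfl, hG₀, hγ⟩
  obtain ⟨U, V, hUV⟩ := product_of_two_conjugates h2 X G hτ0 hτ4 hGns hGγ
  refine ⟨QuotientGroup.mk U, QuotientGroup.mk V, ?_⟩
  rw [← hGmk, hUV]
  simp only [QuotientGroup.mk_mul, QuotientGroup.mk_inv]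

end Cfsg.Agent.S2455
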