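import Cfsg.Statements.S2456
import Cfsg.Agent.Lib.Helper41_SL2Split

set_option autoImplicit false
open Cfsg

namespace Cfsg.Agent.S2456

open Cfsg.Agent.Lib.Helper41_SL2 Cfsg.Agent.Lib.Helper41_SL2Conj Cfsg.Agent.Lib.Helper41_SL2Conic
  Cfsg.Agent.Lib.Helper41_SL2Split

theorem result {F : Type*} [Field F] [Fintype F] [CharP F 2] (h4 : 4 ≤ Fintype.card F)
    (x : Matrix.ProjectiveSpecialLinearGroup (Fin 2) F) (hx2 : 2 < orderOf x) (hxq : ¬ orderOf x ∣ Fintype.card F + 1) : ∀ g : Matrix.ProjectiveSpecialLinearGroup (Fin 2) F, g ≠ 1 → ∃ u v : Matrix.ProjectiveSpecialLinearGroup (Fin 2) F, g = (u * x * u⁻¹) * (v * x * v⁻¹) := by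
  intro g hg
  obtain ⟨X, rfl⟩ := QuotientGroup.mk_surjective x
  obtain ⟨G, rfl⟩ := QuotientGroup.mk_surjective g
  set τ := Matrix.trace (X : Matrix (Fin 2) (Fin 2) F) with hτdef
  have hMM := sl2_mul_self X
  rw [← hτdef] at hMM
  have hτ0 : τ ≠ 0 := by
    intro h0
    have h1 : (QuotientGroup.mk X : Matrix.ProjectiveSpecialLinearGroup (Fin 2) F) ^ 2 = 1 := by
      rw [psl_pow_eq_one_iff]
      refine ⟨-1, ?_⟩
      rw [pow_two, hMM, h0, zero_smul, add_zero]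
    have := Nat.le_of_dvd (by norm_num) (orderOf_dvd_of_pow_eq_one h1)
    omega
  have h40 : (4 : F) = 0 := by
    have h' : ((4 : ℕ) : F) = 0 := by
      rw [CharP.cast_eq_zero_iff F 2 4]
      norm_num
    exact_mod_cast h'
  have hτ4 : τ ^ 2 ≠ 4 := by
    rw [h40]
    exact pow_ne_zero 2 hτ0
  have hroot : ∃ r : F, r ^ 2 = -1 + τ * r := by
    by_contra hno
    push Not at hno
    have h1 := pow_card_add_one_eq_one_of_no_root X hno
    apply hxq
    apply orderOf_dvd_of_pow_eq_one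
    rw [psl_pow_eq_one_iff]
    exact ⟨1, by rw [h1, one_smul]⟩
  obtain ⟨r, hr⟩ := hroot
  have hG : ¬ ∃ c : F, (G : Matrix (Fin 2) (Fin 2) F) = c • (1 : Matrix (Fin 2) (Fin 2) F) := by
    rintro ⟨c, hc⟩
    apply hg
    rw [QuotientGroup.eq_one_iff]
    exact mem_center_of_scalar G c hc
  obtain ⟨U, V, hUV⟩ := product_of_two_conjugates_split X G r hr hτ4 hG
  refine ⟨QuotientGroup.mk U, QuotientGroup.mk V, ?_⟩
  rw [hUV]
  simp only [QuotientGroup.mk_mul, QuotientGroup.mk_inv]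

end Cfsg.Agent.S2456
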