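import Cfsg.Statements.S2459
import Cfsg.Agent.Lib.Helper46_L3Cover

set_option autoImplicit false
open Cfsg

namespace Cfsg.Agent.S2459

open Cfsg.Agent.Lib.Helper46_L3Cover Cfsg.Agent.Lib.Helper46_L3CoverTable in
/-- Non-central elements of `SL₃` are non-scalar. -/
theorem not_scalar_of_not_mem_center {F : Type*} [Field F] [Fintype F]
    (g : Matrix.SpecialLinearGroup (Fin 3) F)
    (hg : g ∉ Subgroup.center (Matrix.SpecialLinearGroup (Fin 3) F)) :
    ¬ ∃ e : F, (g : Matrix (Fin 3) (Fin 3) F) = e • (1 : Matrix (Fin 3) (Fin 3) F) := by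
  rintro ⟨c, hc⟩
  apply hg
  rw [Matrix.SpecialLinearGroup.mem_center_iff]
  refine ⟨c, ?_, ?_⟩
  · have h1 : (g : Matrix (Fin 3) (Fin 3) F).det = 1 := g.2
    rw [hc, Matrix.det_smul, Matrix.det_one, mul_one] at h1
    exact h1
  · rw [hc, Matrix.smul_one_eq_diagonal]
    rfl

/-- Passing from `SL₃` to `PSL₃`. -/
theorem cover_of_sl {F : Type*} [Field F] [Fintype F] (x : Matrix.SpecialLinearGroup (Fin 3) F)
    (h : ∀ g : Matrix.SpecialLinearGroup (Fin 3) F,
      (¬ ∃ e : F, (g : Matrix (Fin 3) (Fin 3) F) = e • (1 : Matrix (Fin 3) (Fin 3) F)) →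
      ∃ u v : Matrix.SpecialLinearGroup (Fin 3) F, g = u * x * u⁻¹ * (v * x * v⁻¹))
    (g : Matrix.ProjectiveSpecialLinearGroup (Fin 3) F) (hg : g ≠ 1) :
    ∃ u v : Matrix.ProjectiveSpecialLinearGroup (Fin 3) F,
      g = (u * (QuotientGroup.mk x) * u⁻¹) * (v * (QuotientGroup.mk x) * v⁻¹) := by
  obtain ⟨g', rfl⟩ := QuotientGroup.mk_surjective g
  have h1 : g' ∉ Subgroup.center (Matrix.SpecialLinearGroup (Fin 3) F) := by
    intro h2
    exact hg ((QuotientGroup.eq_one_iff g').mpr h2)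
  obtain ⟨u, v, huv⟩ := h g' (not_scalar_of_not_mem_center g' h1)
  refine ⟨QuotientGroup.mk u, QuotientGroup.mk v, ?_⟩
  rw [huv]
  rfl


/-- A form of Thompson's conjecture for PSL(3,q), q > 2 (covering the non-identity elements), with a semisimple class: for F a finite field of characteristic p with more than 2 elements there is an element x of PSL(3,F) of order prime to p such that every non-identity element of PSL(3,F) is a product of two conjugates of x. -/
theorem result {F : Type*} [Field F] [Fintype F] (p : ℕ) [Fact p.Prime] [CharP F p] (h3 : 3 ≤ Fintype.card F) :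
    ∃ x : Matrix.ProjectiveSpecialLinearGroup (Fin 3) F, ¬ p ∣ orderOf x ∧ ∀ g : Matrix.ProjectiveSpecialLinearGroup (Fin 3) F, g ≠ 1 → ∃ u v : Matrix.ProjectiveSpecialLinearGroup (Fin 3) F, g = (u * x * u⁻¹) * (v * x * v⁻¹) := by
  classical
  obtain ⟨n, hp, hn⟩ := FiniteField.card F p
  have hpdvd : p ∣ Fintype.card F := by
    rw [hn]
    exact dvd_pow_self p n.ne_zero
  by_cases h4 : Fintype.card F = 3
  · -- the field with three elements
    have hp3 : p = 3 := by
      rw [h4] at hpdvd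
      exact (Nat.prime_dvd_prime_iff_eq hp Nat.prime_three).mp hpdvd
    have := Cfsg.Agent.Lib.Helper46_L3Cover.charP_three h4
    obtain ⟨φ, hφ⟩ : ∃ φ : ZMod 3 →+* F, φ = ZMod.castHom (dvd_refl 3) F := ⟨_, rfl⟩
    have hX : (Cfsg.Agent.Lib.Helper46_L3CoverTable.X3.map φ : Matrix (Fin 3) (Fin 3) F) =
        !![-1, 0, 0; 0, 0, 1; 0, 1, 1] := by
      ext i j
      fin_cases i <;> fin_cases j <;> simp [Cfsg.Agent.Lib.Helper46_L3CoverTable.X3]
    have hdet : (!![-1, 0, 0; 0, 0, 1; 0, 1, 1] : Matrix (Fin 3) (Fin 3) F).det = 1 := by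
      rw [Matrix.det_fin_three]
      simp
    obtain ⟨x, hx⟩ : ∃ x : Matrix.SpecialLinearGroup (Fin 3) F,
        (x : Matrix (Fin 3) (Fin 3) F) = !![-1, 0, 0; 0, 0, 1; 0, 1, 1] := ⟨⟨_, hdet⟩, rfl⟩
    have hx8 : x ^ 8 = 1 := by
      apply Subtype.ext
      show ((x ^ 8 : Matrix.SpecialLinearGroup (Fin 3) F) : Matrix (Fin 3) (Fin 3) F) = 1
      rw [Matrix.SpecialLinearGroup.coe_pow, hx, ← hX, ← RingHom.mapMatrix_apply, ← map_pow,
        Cfsg.Agent.Lib.Helper46_L3Cover.X3_pow, map_one]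
    refine ⟨QuotientGroup.mk x, ?_, ?_⟩
    · have h8 : (QuotientGroup.mk x : Matrix.ProjectiveSpecialLinearGroup (Fin 3) F) ^ 8 = 1 := by
        rw [← QuotientGroup.mk_pow, hx8]
        rfl
      have hd := orderOf_dvd_of_pow_eq_one h8
      intro h
      rw [hp3] at h
      have := dvd_trans h hd
      omega
    · intro g hg
      exact cover_of_sl x
        (fun g' hg' => Cfsg.Agent.Lib.Helper46_L3Cover.exists_conj_three h4 x hx g' hg') g hg
  · -- at least four elements
    have h4' : 4 ≤ Fintype.card F := by omega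
    obtain ⟨ζ, hζ⟩ := IsCyclic.exists_ofOrder_eq_natCard (α := Fˣ)
    rw [Nat.card_units, Nat.card_eq_fintype_card] at hζ
    have hζ2 : (ζ : F) ^ 2 ≠ 1 := by
      intro h
      have h1 : ζ ^ 2 = 1 := Units.ext (by simpa using h)
      have h2 := orderOf_dvd_of_pow_eq_one h1
      rw [hζ] at h2
      have := Nat.le_of_dvd (by norm_num) h2
      omega
    have hζ0 : (ζ : F) ≠ 0 := ζ.ne_zero
    have hζ1 : (ζ : F) ≠ 1 := by
      intro h
      apply hζ2
      rw [h, one_pow]
    have hinv : (ζ : F) ≠ (ζ : F)⁻¹ := by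
      intro h
      apply hζ2
      rw [pow_two]
      nth_rewrite 2 [h]
      exact mul_inv_cancel₀ hζ0
    have hdet : (Matrix.diagonal ![1, (ζ : F), (ζ : F)⁻¹] : Matrix (Fin 3) (Fin 3) F).det = 1 := by
      rw [Matrix.det_diagonal, Fin.prod_univ_three]
      simp [hζ0]
    obtain ⟨x, hx⟩ : ∃ x : Matrix.SpecialLinearGroup (Fin 3) F,
        (x : Matrix (Fin 3) (Fin 3) F) = Matrix.diagonal ![1, (ζ : F), (ζ : F)⁻¹] :=
      ⟨⟨_, hdet⟩, rfl⟩
    have hxq : x ^ (Fintype.card F - 1) = 1 := by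
      apply Subtype.ext
      show ((x ^ (Fintype.card F - 1) : Matrix.SpecialLinearGroup (Fin 3) F) :
        Matrix (Fin 3) (Fin 3) F) = 1
      rw [Matrix.SpecialLinearGroup.coe_pow, hx, Matrix.diagonal_pow, ← Matrix.diagonal_one]
      congr 1
      funext i
      fin_cases i
      · simp
      · simpa using FiniteField.pow_card_sub_one_eq_one (ζ : F) hζ0
      · simpa using FiniteField.pow_card_sub_one_eq_one ((ζ : F)⁻¹) (inv_ne_zero hζ0)
    refine ⟨QuotientGroup.mk x, ?_, ?_⟩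
    · have hq : (QuotientGroup.mk x : Matrix.ProjectiveSpecialLinearGroup (Fin 3) F) ^
          (Fintype.card F - 1) = 1 := by
        rw [← QuotientGroup.mk_pow, hxq]
        rfl
      have hd := orderOf_dvd_of_pow_eq_one hq
      intro h
      have h5 : p ∣ Fintype.card F - 1 := dvd_trans h hd
      have h6 : p ∣ 1 := by
        have h7 : p ∣ Fintype.card F - (Fintype.card F - 1) := Nat.dvd_sub hpdvd h5
        have h8 : Fintype.card F - (Fintype.card F - 1) = 1 := by omega
        rwa [h8] at h7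
      exact hp.one_lt.ne' (Nat.dvd_one.mp h6)
    · intro g hg
      exact cover_of_sl x
        (fun g' hg' => Cfsg.Agent.Lib.Helper46_L3Cover.exists_conj_diag 1 (ζ : F) (ζ : F)⁻¹
          one_ne_zero hζ0 (inv_ne_zero hζ0) (Ne.symm hζ1)
          (fun h => hζ1 (by rw [← inv_inv (ζ : F), ← h, inv_one])) hinv x hx g' hg') g hg

end Cfsg.Agent.S2459
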