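import Cfsg.Statements.S2466
import Mathlib

set_option autoImplicit false
open Cfsg

namespace Cfsg.Agent.S2466

open Equiv Equiv.Perm

/-- A prime dividing the lcm of a multiset of naturals divides one of its members. -/
theorem prime_dvd_multiset_lcm {p : ℕ} (hp : p.Prime) (m : Multiset ℕ) (h : p ∣ m.lcm) :
    ∃ a ∈ m, p ∣ a := by
  induction m using Multiset.induction_on with
  | empty =>
    simp at h
    exact absurd h hp.one_lt.ne'
  | cons a s ih =>
    rw [Multiset.lcm_cons] at h
    have h' : p ∣ Nat.lcm a s.lcm := h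
    rcases (Nat.Prime.dvd_mul hp).1 (dvd_trans h' (Nat.lcm_dvd_mul a s.lcm)) with h1 | h1
    · exact ⟨a, Multiset.mem_cons_self a s, h1⟩
    · obtain ⟨b, hb, hpb⟩ := ih h1
      exact ⟨b, Multiset.mem_cons_of_mem hb, hpb⟩

theorem add_le_sum_of_mem_of_ne {m : Multiset ℕ} {a b : ℕ} (ha : a ∈ m) (hb : b ∈ m) (hab : a ≠ b) :
    a + b ≤ m.sum := by
  obtain ⟨t, rfl⟩ := Multiset.exists_cons_of_mem ha
  rw [Multiset.sum_cons]
  have hb' : b ∈ t := by
    rcases Multiset.mem_cons.1 hb with h | h
    · exact absurd h.symm hab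
    · exact h
  have := Multiset.le_sum_of_mem hb'
  omega

theorem result (n r s : ℕ) (hr : r.Prime) (hs : s.Prime) (hr2 : r ≠ 2) (hs2 : s ≠ 2) (hrs : r ≠ s) (hrn : r ≤ n) (hsn : s ≤ n) :
    (r * s ∈ Set.range (orderOf : alternatingGroup (Fin n) → ℕ)) ↔ r + s ≤ n := by
  have hcop : Nat.Coprime r s := (Nat.coprime_primes hr hs).2 hrs
  constructor
  · rintro ⟨g, hg⟩
    have hg' : orderOf (g : Perm (Fin n)) = r * s := by
      rw [Subgroup.orderOf_coe]; exact hg
    rw [← lcm_cycleType] at hg'
    obtain ⟨a, ha, hra⟩ := prime_dvd_multiset_lcm hr _ (hg' ▸ Dvd.intro _ rfl)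
    obtain ⟨b, hb, hsb⟩ := prime_dvd_multiset_lcm hs _ (hg' ▸ Dvd.intro_left _ rfl)
    have hsum : (g : Perm (Fin n)).cycleType.sum ≤ n := by
      have := sum_cycleType_le (g : Perm (Fin n))
      simpa using this
    have ha0 : 0 < a := by
      have := two_le_of_mem_cycleType ha; omega
    have hb0 : 0 < b := by
      have := two_le_of_mem_cycleType hb; omega
    by_cases hab : a = b
    · subst hab
      have h1 : r * s ∣ a := Nat.Coprime.mul_dvd_of_dvd_of_dvd hcop hra hsb
      have h2 : r * s ≤ a := Nat.le_of_dvd ha0 h1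
      have h3 : a ≤ (g : Perm (Fin n)).cycleType.sum := Multiset.le_sum_of_mem ha
      have hr2' := hr.two_le
      have hs2' := hs.two_le
      have h4 : r + s ≤ r * s := by nlinarith
      omega
    · have h1 := add_le_sum_of_mem_of_ne ha hb hab
      have h2 : r ≤ a := Nat.le_of_dvd ha0 hra
      have h3 : s ≤ b := Nat.le_of_dvd hb0 hsb
      omega
  · intro h
    have hex : ∃ g : Perm (Fin n), g.cycleType = {r, s} := by
      rw [Equiv.Perm.exists_with_cycleType_iff]
      constructor
      · simpa using h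
      · intro a ha
        simp only [Multiset.insert_eq_cons, Multiset.mem_cons, Multiset.mem_singleton] at ha
        rcases ha with rfl | rfl
        · exact hr.two_le
        · exact hs.two_le
    obtain ⟨g, hg⟩ := hex
    have hrodd : Odd r := hr.odd_of_ne_two hr2
    have hsodd : Odd s := hs.odd_of_ne_two hs2
    have hsign : Perm.sign g = 1 := by
      rw [sign_of_cycleType, hg]
      have : Even (({r, s} : Multiset ℕ).sum + Multiset.card ({r, s} : Multiset ℕ)) := by
        simp only [Multiset.insert_eq_cons, Multiset.sum_cons, Multiset.sum_singleton,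
          Multiset.card_cons, Multiset.card_singleton]
        have := hrodd.add_odd hsodd
        exact this.add (by decide)
      exact Even.neg_one_pow this
    refine ⟨⟨g, Equiv.Perm.mem_alternatingGroup.2 hsign⟩, ?_⟩
    rw [← Subgroup.orderOf_coe]
    change orderOf g = r * s
    rw [← lcm_cycleType, hg]
    simp only [Multiset.insert_eq_cons, Multiset.lcm_cons, Multiset.lcm_singleton, normalize_eq]
    exact hcop.lcm_eq_mul

end Cfsg.Agent.S2466
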