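import Cfsg.Statements.S2467
import Mathlib

set_option autoImplicit false
open Cfsg

namespace Cfsg.Agent.S2467

open Equiv Equiv.Perm

/-- A prime dividing the lcm of a multiset of naturals divides one of its members. -/
theorem prime_dvd_multiset_lcm {p : ℕ} (hp : p.Prime) (m : Multiset ℕ) (h : p ∣ m.lcm) :
    ∃ a ∈ m, p ∣ a := by
  induction m using Multiset.induction_on with
  | empty =>
    simp at h
    exact absurd h hp.one_lt.ne'
  | cons a s ih =>
    rw [Multiset.lcm_cons] at h
    have h' : p ∣ Nat.lcm a s.lcm := h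
    rcases (Nat.Prime.dvd_mul hp).1 (dvd_trans h' (Nat.lcm_dvd_mul a s.lcm)) with h1 | h1
    · exact ⟨a, Multiset.mem_cons_self a s, h1⟩
    · obtain ⟨b, hb, hpb⟩ := ih h1
      exact ⟨b, Multiset.mem_cons_of_mem hb, hpb⟩

theorem even_sum_add_card_of_odd (t : Multiset ℕ) (h : ∀ x ∈ t, Odd x) :
    Even (t.sum + Multiset.card t) := by
  induction t using Multiset.induction_on with
  | empty => simp
  | cons a s ih =>
    have ha : Odd a := h a (Multiset.mem_cons_self a s)
    have hs := ih (fun x hx => h x (Multiset.mem_cons_of_mem hx))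
    rw [Multiset.sum_cons, Multiset.card_cons]
    have : a + s.sum + (Multiset.card s + 1) = (a + 1) + (s.sum + Multiset.card s) := by ring
    rw [this]
    exact (ha.add_odd odd_one).add hs

theorem result (n r : ℕ) (hn : 4 ≤ n) (hr : r.Prime) (hr2 : r ≠ 2) (hrn : r ≤ n) :
    (2 * r ∈ Set.range (orderOf : alternatingGroup (Fin n) → ℕ)) ↔ r + 4 ≤ n := by
  have hrodd : Odd r := hr.odd_of_ne_two hr2
  have hr2' := hr.two_le
  constructor
  · rintro ⟨g, hg⟩
    have hg' : orderOf (g : Perm (Fin n)) = 2 * r := by
      rw [Subgroup.orderOf_coe]; exact hg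
    have hsign : Perm.sign (g : Perm (Fin n)) = 1 := Equiv.Perm.mem_alternatingGroup.1 g.2
    set σ : Perm (Fin n) := (g : Perm (Fin n)) with hσ
    rw [← lcm_cycleType] at hg'
    obtain ⟨a, ha, hra⟩ := prime_dvd_multiset_lcm hr _ (hg' ▸ Dvd.intro_left _ rfl)
    obtain ⟨b, hb, h2b⟩ := prime_dvd_multiset_lcm Nat.prime_two _ (hg' ▸ Dvd.intro _ rfl)
    have hsum : σ.cycleType.sum ≤ n := by
      have := sum_cycleType_le σ
      simpa using this
    have hge : ∀ x ∈ σ.cycleType, 2 ≤ x := fun x hx => two_le_of_mem_cycleType hx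
    -- parity
    have hpar : Even (σ.cycleType.sum + Multiset.card σ.cycleType) := by
      rw [sign_of_cycleType] at hsign
      by_contra hodd
      rw [Nat.not_even_iff_odd] at hodd
      rw [Odd.neg_one_pow hodd] at hsign
      exact absurd hsign (by decide)
    obtain ⟨t, ht⟩ := Multiset.exists_cons_of_mem hb
    rw [ht] at hpar hsum ha hge
    rw [Multiset.sum_cons, Multiset.card_cons] at hpar
    rw [Multiset.sum_cons] at hsum
    have hbeven : Even b := even_iff_two_dvd.2 h2b
    have hex : ∃ b' ∈ t, Even b' := by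
      by_contra hcon
      push Not at hcon
      have h1 := even_sum_add_card_of_odd t (fun x hx => Nat.not_even_iff_odd.1 (hcon x hx))
      have h2 : b + t.sum + (Multiset.card t + 1) = (t.sum + Multiset.card t) + b + 1 := by ring
      rw [h2] at hpar
      have h3 : Even ((t.sum + Multiset.card t) + b) := h1.add hbeven
      exact absurd hpar (Nat.not_even_iff_odd.2 (h3.add_odd odd_one))
    obtain ⟨b', hb't, hb'even⟩ := hex
    obtain ⟨u, hu⟩ := Multiset.exists_cons_of_mem hb't
    rw [hu] at hsum ha hge
    rw [Multiset.sum_cons] at hsum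
    have hb2 : 2 ≤ b := hge b (Multiset.mem_cons_self _ _)
    have hb'2 : 2 ≤ b' := hge b' (Multiset.mem_cons_of_mem (Multiset.mem_cons_self _ _))
    have ha2 : 2 ≤ a := hge a ha
    have hale : r ≤ a := Nat.le_of_dvd (by omega) hra
    have hcop : Nat.Coprime 2 r := (Nat.coprime_primes Nat.prime_two hr).2 (Ne.symm hr2)
    rcases Multiset.mem_cons.1 ha with rfl | ha'
    · have h1 : 2 * r ∣ a := Nat.Coprime.mul_dvd_of_dvd_of_dvd hcop h2b hra
      have h2 : 2 * r ≤ a := Nat.le_of_dvd (by omega) h1
      omega
    · rcases Multiset.mem_cons.1 ha' with rfl | ha''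
      · have h1 : 2 * r ∣ a := Nat.Coprime.mul_dvd_of_dvd_of_dvd hcop (even_iff_two_dvd.1 hb'even) hra
        have h2 : 2 * r ≤ a := Nat.le_of_dvd (by omega) h1
        omega
      · have := Multiset.le_sum_of_mem ha''
        omega
  · intro h
    have hex : ∃ g : Perm (Fin n), g.cycleType = {r, 2, 2} := by
      rw [Equiv.Perm.exists_with_cycleType_iff]
      constructor
      · simp only [Multiset.insert_eq_cons, Multiset.sum_cons, Multiset.sum_singleton,
          Fintype.card_fin]
        omega
      · intro a ha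
        simp only [Multiset.insert_eq_cons, Multiset.mem_cons, Multiset.mem_singleton] at ha
        rcases ha with rfl | rfl | rfl
        · exact hr.two_le
        · exact le_refl _
        · exact le_refl _
    obtain ⟨g, hg⟩ := hex
    have hsign : Perm.sign g = 1 := by
      rw [sign_of_cycleType, hg]
      have : Even (({r, 2, 2} : Multiset ℕ).sum + Multiset.card ({r, 2, 2} : Multiset ℕ)) := by
        simp only [Multiset.insert_eq_cons, Multiset.sum_cons, Multiset.sum_singleton,
          Multiset.card_cons, Multiset.card_singleton]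
        have h7 : r + (2 + 2) + (1 + 1 + 1) = (r + 1) + 6 := by ring
        rw [h7]
        exact (hrodd.add_odd odd_one).add (by decide)
      exact Even.neg_one_pow this
    refine ⟨⟨g, Equiv.Perm.mem_alternatingGroup.2 hsign⟩, ?_⟩
    rw [← Subgroup.orderOf_coe]
    change orderOf g = 2 * r
    rw [← lcm_cycleType, hg]
    simp only [Multiset.insert_eq_cons, Multiset.lcm_cons, Multiset.lcm_singleton, normalize_eq]
    have hcop : Nat.Coprime r 2 := (Nat.coprime_primes hr Nat.prime_two).2 hr2
    have : GCDMonoid.lcm 2 2 = 2 := by simp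
    rw [this]
    change Nat.lcm r 2 = 2 * r
    rw [hcop.lcm_eq_mul, mul_comm]

end Cfsg.Agent.S2467
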