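import Cfsg.Statements.S2468
import Cfsg.Agent.Lib.Helper99_PrimeGraphL

set_option autoImplicit false
open Cfsg

namespace Cfsg.Agent.S2468

open Matrix
open scoped MatrixGroups
open Cfsg.Agent.Lib.Helper99_PrimeGraphL Cfsg.Agent.Lib.Helper99_SingerEmb
  Cfsg.Agent.Lib.Helper99_Singer

/-- Adjacency of two odd primes in the prime graph of PSL(n,q): let F be a finite field of characteristic p with q elements, n ≥ 2 with PSL(n,F) simple, and let r ≠ s be odd primes different from p dividing the order of PSL(n,F). Let k and l be the multiplicative orders of q modulo r and modulo s, and suppose 2 ≤ k ≤ l. Then PSL(n,F) has NO element of order r·s if and only if k + l > n and k does not divide l. -/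
theorem result {F : Type*} [Field F] [Fintype F] (p : ℕ) [Fact p.Prime] [CharP F p] (n : ℕ) (hn : 2 ≤ n) (hsmall : n = 2 → 4 ≤ Fintype.card F)
    (r s : ℕ) (hr : r.Prime) (hs : s.Prime) (hr2 : r ≠ 2) (hs2 : s ≠ 2) (hrp : r ≠ p) (hsp : s ≠ p) (hrs : r ≠ s)
    (hrG : r ∣ Nat.card (Matrix.ProjectiveSpecialLinearGroup (Fin n) F)) (hsG : s ∣ Nat.card (Matrix.ProjectiveSpecialLinearGroup (Fin n) F))
    (k l : ℕ) (hk : k = orderOf ((Fintype.card F : ℕ) : ZMod r)) (hl : l = orderOf ((Fintype.card F : ℕ) : ZMod s))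
    (h2k : 2 ≤ k) (hkl : k ≤ l) :
    (r * s ∉ Set.range (orderOf : Matrix.ProjectiveSpecialLinearGroup (Fin n) F → ℕ)) ↔ (n < k + l ∧ ¬ k ∣ l) := by
  classical
  have hp : p.Prime := Fact.out
  have : Fact r.Prime := ⟨hr⟩
  have : Fact s.Prime := ⟨hs⟩
  set q := Fintype.card F with hq
  have hq1 : 1 ≤ q := Fintype.card_pos
  have hq2 : 2 ≤ q := Fintype.one_lt_card
  obtain ⟨f, -, hqf⟩ := FiniteField.card F p
  have hqr : ¬ r ∣ q := by
    intro h
    rw [hq, hqf] at h
    exact hrp ((Nat.prime_dvd_prime_iff_eq hr hp).1 (hr.dvd_of_dvd_pow h))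
  have hqs : ¬ s ∣ q := by
    intro h
    rw [hq, hqf] at h
    exact hsp ((Nat.prime_dvd_prime_iff_eq hs hp).1 (hs.dvd_of_dvd_pow h))
  -- `r, s ∤ q - 1`
  have hone : ∀ x : ℕ, x.Prime → 2 ≤ orderOf ((q : ℕ) : ZMod x) → ¬ x ∣ q - 1 := by
    intro x hx h2 hdvd
    have : Fact x.Prime := ⟨hx⟩
    have h1 : ((q : ℕ) : ZMod x) ^ 1 = 1 := by
      rw [← Cfsg.Agent.Lib.Helper99_Zsigmondy.dvd_pow_sub_one_iff hq1, pow_one]
      exact hdvd
    have := orderOf_dvd_of_pow_eq_one h1
    have := Nat.le_of_dvd one_pos this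
    omega
  have hr1 : ¬ r ∣ q - 1 := hone r hr (hk ▸ h2k)
  have hs1 : ¬ s ∣ q - 1 := hone s hs (hl ▸ (le_trans h2k hkl))
  have hcor : Nat.Coprime r (q - 1) := (Nat.Prime.coprime_iff_not_dvd hr).2 hr1
  have hcos : Nat.Coprime s (q - 1) := (Nat.Prime.coprime_iff_not_dvd hs).2 hs1
  have hcors : Nat.Coprime r s := (Nat.coprime_primes hr hs).2 hrs
  -- `r ∣ q^k - 1`, `s ∣ q^l - 1`
  have hrk : r ∣ q ^ k - 1 := by
    rw [Cfsg.Agent.Lib.Helper99_Zsigmondy.dvd_pow_sub_one_iff hq1, hk]
    exact pow_orderOf_eq_one _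
  have hsl : s ∣ q ^ l - 1 := by
    rw [Cfsg.Agent.Lib.Helper99_Zsigmondy.dvd_pow_sub_one_iff hq1, hl]
    exact pow_orderOf_eq_one _
  have hln : l ≤ n := by
    rw [hl]; exact orderOf_le_of_dvd_card_PSL n (by omega) hs hqs hsG
  constructor
  · -- no element of order `r s` forces the arithmetic condition
    intro hno
    by_contra hcon
    apply hno
    have hcases : k + l ≤ n ∨ k ∣ l := by
      by_cases h1 : n < k + l
      · right
        by_contra h2
        exact hcon ⟨h1, h2⟩
      · left; omega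
    rcases hcases with hsum | hdvd
    · -- two blocks
      obtain ⟨X, hXdet, hX⟩ := exists_det_one_of_order (F := F) k (by omega) r hrk hcor
      obtain ⟨Y, hYdet, hY⟩ := exists_det_one_of_order (F := F) l (by omega) s hsl hcos
      obtain ⟨g, hg⟩ := exists_psl_orderOf_blk (F := F) (a := k) (b := l) (c := n - (k + l)) (n := n)
        (by omega) X Y hXdet hYdet (r * s)
        (fun j => by
          rw [hX, hY]
          constructor
          · rintro ⟨h1, h2⟩
            exact hcors.mul_dvd_of_dvd_of_dvd h1 h2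
          · intro h
            exact ⟨dvd_trans (dvd_mul_right r s) h, dvd_trans (dvd_mul_left s r) h⟩)
        (fun j μ h => scalar_eq_one_of_pow (by omega) X r hr.pos ((hX r).2 dvd_rfl) hcor j μ h)
      exact ⟨g, hg⟩
    · -- one block of size `l`
      have hrl : r ∣ q ^ l - 1 := by
        obtain ⟨e, rfl⟩ := hdvd
        refine dvd_trans hrk ?_
        rw [pow_mul]
        have := Nat.sub_dvd_pow_sub_pow (q ^ k) 1 e
        simpa using this
      have hrsl : r * s ∣ q ^ l - 1 := hcors.mul_dvd_of_dvd_of_dvd hrl hsl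
      have hco : Nat.Coprime (r * s) (q - 1) := Nat.Coprime.mul_left hcor hcos
      obtain ⟨X, hXdet, hX⟩ := exists_det_one_of_order (F := F) l (by omega) (r * s) hrsl hco
      obtain ⟨g, hg⟩ := exists_psl_orderOf_blk (F := F) (a := l) (b := 0) (c := n - l) (n := n)
        (by omega) X (1 : Matrix (Fin 0) (Fin 0) F) hXdet (by simp) (r * s)
        (fun j => by
          rw [hX, one_pow]
          simp)
        (fun j μ h => scalar_eq_one_of_pow (by omega) X (r * s) (Nat.mul_pos hr.pos hs.pos)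
          ((hX (r * s)).2 dvd_rfl) hco j μ h)
      exact ⟨g, hg⟩
  · -- the arithmetic condition excludes elements of order `r s`
    rintro ⟨hlt, hndvd⟩ ⟨g, hg⟩
    obtain ⟨U, W, hU, hW, hU1, hW1, hcomm⟩ := exists_commuting_of_orderOf hr hs hr1 hs1 g hg
    apply hndvd
    have hfr : Module.finrank F (Fin n → F) = n := Module.finrank_fin_fun F
    have key := dvd_of_commute (F := F) (V := Fin n → F) hr hs hqr hqs
      (Matrix.toLinAlgEquiv' U) (Matrix.toLinAlgEquiv' W)
      (by rw [← map_pow, hU, map_one]) (by rw [← map_pow, hW, map_one])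
      (fun h => hU1 (Matrix.toLinAlgEquiv'.injective (h.trans (map_one _).symm)))
      (fun h => hW1 (Matrix.toLinAlgEquiv'.injective (h.trans (map_one _).symm)))
      (hcomm.map Matrix.toLinAlgEquiv')
      (by rw [← hk, ← hl]; exact hkl)
      (by rw [hfr, ← hk, ← hl]; exact hlt)
    rw [← hk, ← hl] at key
    exact key

end Cfsg.Agent.S2468
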