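import Cfsg.Statements.S2470
import Cfsg.Agent.Lib.Helper99_PrimeGraphP

set_option autoImplicit false
open Cfsg

namespace Cfsg.Agent.S2470

open Matrix
open scoped MatrixGroups
open Cfsg.Agent.Lib.Helper99_PrimeGraphP Cfsg.Agent.Lib.Helper99_PrimeGraphL

/-- Adjacency of an odd prime and the characteristic in the prime graph of PSL(n,q): let F be a finite field of characteristic p with q elements, n ≥ 2 with PSL(n,F) simple, and let r ≠ p be an odd prime dividing the order of PSL(n,F), with k the multiplicative order of q modulo r. Then PSL(n,F) has NO element of order r·p if and only if either k > n − 2, or n = 3, r = 3 and 3 divides q − 1 exactly once. -/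
theorem result {F : Type*} [Field F] [Fintype F] (p : ℕ) [Fact p.Prime] [CharP F p] (n : ℕ) (hn : 2 ≤ n) (hsmall : n = 2 → 4 ≤ Fintype.card F)
    (r : ℕ) (hr : r.Prime) (hr2 : r ≠ 2) (hrp : r ≠ p) (hrG : r ∣ Nat.card (Matrix.ProjectiveSpecialLinearGroup (Fin n) F))
    (k : ℕ) (hk : k = orderOf ((Fintype.card F : ℕ) : ZMod r)) :
    (r * p ∉ Set.range (orderOf : Matrix.ProjectiveSpecialLinearGroup (Fin n) F → ℕ)) ↔
      (n - 2 < k ∨ (n = 3 ∧ r = 3 ∧ 3 ∣ Fintype.card F - 1 ∧ ¬ 9 ∣ Fintype.card F - 1)) := by
  classical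
  have hk0 : 0 < k := by rw [hk]; exact orderOf_pos_of_ne p hr hrp
  constructor
  · -- no element of order `r p` forces the arithmetic condition
    intro hno
    by_contra hcon
    push Not at hcon
    obtain ⟨hkn, hex⟩ := hcon
    apply hno
    rcases Nat.lt_or_ge k 2 with hk1 | hk2
    · -- `k = 1`
      have hk1' : k = 1 := by omega
      have hdvd : r ∣ Fintype.card F - 1 := by
        rw [← orderOf_eq_one_iff_dvd hr, ← hk]; exact hk1'
      rcases Nat.lt_or_ge n 4 with hn3 | hn4
      · have hn3' : n = 3 := by omega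
        subst hn3'
        have hex' : r ≠ 3 ∨ 9 ∣ Fintype.card F - 1 := by
          by_cases h3 : r = 3
          · right
            exact hex rfl h3 (h3 ▸ hdvd)
          · left; exact h3
        obtain ⟨g, hg⟩ := exists_orderOf_PSL3 (F := F) p hr hrp hdvd hex'
        exact ⟨g, hg⟩
      · obtain ⟨g, hg⟩ := exists_orderOf_PSL_diag (F := F) p n hn4 hr hr2 hrp hdvd
        exact ⟨g, hg⟩
    · obtain ⟨g, hg⟩ := exists_orderOf_PSL_blocks (F := F) p n hr hrp (hk ▸ hk2)
        (by rw [← hk]; omega)
      exact ⟨g, hg⟩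
  · -- the arithmetic condition excludes elements of order `r p`
    rintro hcond ⟨g, hg⟩
    rcases hcond with hlt | ⟨h3n, h3r, h3, h9⟩
    · rcases Nat.lt_or_ge n 3 with hn2 | hn3
      · have hn2' : n = 2 := by omega
        subst hn2'
        exact no_orderOf_PSL2 (F := F) p hr hr2 g hg
      · exact no_orderOf_PSL_large (F := F) p n hn3 hr hrp (by rw [← hk]; omega) g hg
    · subst h3n
      subst h3r
      exact no_orderOf_PSL3 (F := F) p h3 h9 g hg

end Cfsg.Agent.S2470
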