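import Cfsg.Statements.S2477
import Mathlib

set_option autoImplicit false
open Cfsg

namespace Cfsg.Agent.S2477

open Equiv Equiv.Perm

/-- The target set as a Boolean test. -/
def inS (k : ℕ) : Bool :=
  [1, 2, 3, 4, 5, 6, 7, 8, 9, 10, 12, 15, 21].contains k

/-- Search over all ways to add further cycles: `s` is the remaining budget, `L` the lcm so far,
`c` the parity counter (sum + number of cycles so far). -/
def ok : ℕ → ℕ → ℕ → ℕ → Bool
  | 0, _, _, _ => false
  | f + 1, s, L, c =>
    ((c % 2 == 1) || inS L) &&
      (List.range (s + 1)).all fun a => (a < 2) || ok f (s - a) (Nat.lcm L a) (c + a + 1)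

theorem ok_sound : ∀ (f s L c : ℕ), ok f s L c = true → ∀ m : Multiset ℕ, (∀ x ∈ m, 2 ≤ x) →
    m.sum ≤ s → Even (c + m.sum + Multiset.card m) → inS (Nat.lcm L m.lcm) = true := by
  intro f
  induction f with
  | zero => intro s L c h; simp [ok] at h
  | succ f ih =>
    intro s L c h m
    rw [ok, Bool.and_eq_true] at h
    obtain ⟨h1, h2⟩ := h
    induction m using Multiset.induction_on with
    | empty =>
      intro _ _ hpar
      simp only [Multiset.sum_zero, add_zero, Multiset.card_zero] at hpar
      simp only [Multiset.lcm_zero, Nat.lcm_one_right]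
      rcases Bool.or_eq_true_iff.1 h1 with h1 | h1
      · exfalso
        have : c % 2 = 1 := by simpa using h1
        rcases hpar with ⟨k, hk⟩
        omega
      · exact h1
    | cons a t _ =>
      intro hge hsum hpar
      rw [Multiset.sum_cons] at hsum
      have ha2 : 2 ≤ a := hge a (Multiset.mem_cons_self a t)
      have has : a ≤ s := by omega
      rw [List.all_eq_true] at h2
      have h3 := h2 a (List.mem_range.2 (by omega))
      rcases Bool.or_eq_true_iff.1 h3 with h3 | h3
      · exfalso
        have : a < 2 := by simpa using h3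
        omega
      · have := ih (s - a) (Nat.lcm L a) (c + a + 1) h3 t
          (fun x hx => hge x (Multiset.mem_cons_of_mem hx)) (by omega)
          (by
            rw [Multiset.sum_cons, Multiset.card_cons] at hpar
            have e : c + a + 1 + t.sum + Multiset.card t = c + (a + t.sum) + (Multiset.card t + 1) := by
              ring
            rw [e]; exact hpar)
        rw [Multiset.lcm_cons]
        have e2 : Nat.lcm L (GCDMonoid.lcm a t.lcm) = Nat.lcm (Nat.lcm L a) t.lcm := by
          change Nat.lcm L (Nat.lcm a t.lcm) = _
          rw [Nat.lcm_assoc]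
        rw [e2]; exact this

theorem ok_val : ok 7 10 1 0 = true := by decide +kernel

theorem mem_of_type (m : Multiset ℕ) (hsum : m.sum ≤ 10) (h2 : ∀ a ∈ m, 2 ≤ a)
    (hpar : Even (m.sum + Multiset.card m)) :
    m.lcm ∈ Set.range (orderOf : alternatingGroup (Fin 10) → ℕ) := by
  have hex : ∃ g : Perm (Fin 10), g.cycleType = m := by
    rw [Equiv.Perm.exists_with_cycleType_iff]
    exact ⟨by simpa using hsum, h2⟩
  obtain ⟨g, hg⟩ := hex
  have hsign : Perm.sign g = 1 := by
    rw [sign_of_cycleType, hg]
    exact Even.neg_one_pow hpar
  refine ⟨⟨g, Equiv.Perm.mem_alternatingGroup.2 hsign⟩, ?_⟩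
  rw [← Subgroup.orderOf_coe]
  change orderOf g = m.lcm
  rw [← lcm_cycleType, hg]

theorem result : Set.range (orderOf : alternatingGroup (Fin 10) → ℕ) = {1, 2, 3, 4, 5, 6, 7, 8, 9, 10, 12, 15, 21} := by
  apply Set.eq_of_subset_of_subset
  · rintro _ ⟨g, rfl⟩
    have hsign : Perm.sign (g : Perm (Fin 10)) = 1 := Equiv.Perm.mem_alternatingGroup.1 g.2
    have hord : orderOf g = (g : Perm (Fin 10)).cycleType.lcm := by
      rw [lcm_cycleType, Subgroup.orderOf_coe]
    have hpar : Even (0 + (g : Perm (Fin 10)).cycleType.sum + Multiset.card (g : Perm (Fin 10)).cycleType) := by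
      rw [sign_of_cycleType] at hsign
      rw [zero_add]
      by_contra hodd
      rw [Nat.not_even_iff_odd] at hodd
      rw [Odd.neg_one_pow hodd] at hsign
      exact absurd hsign (by decide)
    have hsum : (g : Perm (Fin 10)).cycleType.sum ≤ 10 := by
      have := sum_cycleType_le (g : Perm (Fin 10))
      simpa using this
    have := ok_sound 7 10 1 0 ok_val _ (fun x hx => two_le_of_mem_cycleType hx) hsum hpar
    rw [Nat.lcm_one_left, ← hord] at this
    simp only [inS, List.contains_eq_mem, List.mem_cons, List.not_mem_nil, or_false,
      decide_eq_true_eq] at this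
    simpa using this
  · intro k hk
    simp only [Set.mem_insert_iff, Set.mem_singleton_iff] at hk
    rcases hk with rfl | rfl | rfl | rfl | rfl | rfl | rfl | rfl | rfl | rfl | rfl | rfl | rfl
    · exact ⟨1, orderOf_one⟩
    · exact mem_of_type {2, 2} (by decide) (by decide) (by decide)
    · exact mem_of_type {3} (by decide) (by decide) (by decide)
    · exact mem_of_type {4, 2} (by decide) (by decide) (by decide)
    · exact mem_of_type {5} (by decide) (by decide) (by decide)
    · exact mem_of_type {3, 2, 2} (by decide) (by decide) (by decide)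
    · exact mem_of_type {7} (by decide) (by decide) (by decide)
    · exact mem_of_type {8, 2} (by decide) (by decide) (by decide)
    · exact mem_of_type {9} (by decide) (by decide) (by decide)
    · exact mem_of_type {5, 2, 2} (by decide) (by decide) (by decide)
    · exact mem_of_type {4, 3, 2} (by decide) (by decide) (by decide)
    · exact mem_of_type {5, 3} (by decide) (by decide) (by decide)
    · exact mem_of_type {7, 3} (by decide) (by decide) (by decide)

end Cfsg.Agent.S2477
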