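import Cfsg.Statements.S2485
import Cfsg.Agent.Lib.Helper41_SL2

set_option autoImplicit false
open Cfsg

namespace Cfsg.Agent.S2485

open Cfsg.Agent.Lib.Helper41_SL2
open scoped Pointwise MatrixGroups

variable {F : Type*} [Field F]

abbrev GL2 (F : Type*) [Field F] := GL (Fin 2) F
abbrev PGL2 (F : Type*) [Field F] := GL2 F ⧸ Subgroup.center (GL2 F)

/-- two elements of `GL₂` have the same image in `PGL₂` iff they differ by a scalar -/
theorem mk_eq_mk_iff (g h : GL2 F) :
    (QuotientGroup.mk g : PGL2 F) = QuotientGroup.mk h ↔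
      ∃ c : F, (h : Matrix (Fin 2) (Fin 2) F) = c • (g : Matrix (Fin 2) (Fin 2) F) := by
  rw [QuotientGroup.eq, Matrix.GeneralLinearGroup.mem_center_iff_val_mem_range_scalar]
  constructor
  · rintro ⟨c, hc⟩
    refine ⟨c, ?_⟩
    have h1 : (h : Matrix (Fin 2) (Fin 2) F) =
        (g : Matrix (Fin 2) (Fin 2) F) * ((g⁻¹ * h : GL2 F) : Matrix (Fin 2) (Fin 2) F) := by
      rw [← Matrix.GeneralLinearGroup.coe_mul, mul_inv_cancel_left]
    have hc' : ((g⁻¹ * h : GL2 F) : Matrix (Fin 2) (Fin 2) F) = Matrix.scalar (Fin 2) c := hc.symm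
    rw [h1, hc']
    ext i j
    simp [Matrix.mul_apply, Matrix.scalar_apply, Matrix.diagonal_apply, mul_comm]
  · rintro ⟨c, hc⟩
    refine ⟨c, ?_⟩
    change Matrix.scalar (Fin 2) c = ((g⁻¹ * h : GL2 F) : Matrix (Fin 2) (Fin 2) F)
    rw [Matrix.GeneralLinearGroup.coe_mul, hc, Matrix.mul_smul, ← Matrix.GeneralLinearGroup.coe_mul,
      inv_mul_cancel]
    ext i j
    simp [Matrix.scalar_apply, Matrix.diagonal_apply, Matrix.one_apply]


theorem mk_eq_one_iff (g : GL2 F) :
    (QuotientGroup.mk g : PGL2 F) = 1 ↔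
      ∃ c : F, (g : Matrix (Fin 2) (Fin 2) F) = c • (1 : Matrix (Fin 2) (Fin 2) F) := by
  rw [← QuotientGroup.mk_one, mk_eq_mk_iff]
  constructor
  · rintro ⟨c, hc⟩
    have hg : IsUnit (g : Matrix (Fin 2) (Fin 2) F) := ⟨g, rfl⟩
    have hc0 : c ≠ 0 := by
      rintro rfl
      rw [zero_smul] at hc
      exact one_ne_zero hc
    refine ⟨c⁻¹, ?_⟩
    rw [Matrix.GeneralLinearGroup.coe_one] at hc
    rw [hc, smul_smul, inv_mul_cancel₀ hc0, one_smul]
  · rintro ⟨c, hc⟩
    have hc0 : c ≠ 0 := by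
      rintro rfl
      rw [zero_smul] at hc
      have : (g : Matrix (Fin 2) (Fin 2) F).det = 0 := by rw [hc]; simp
      exact (Matrix.GeneralLinearGroup.det_ne_zero g) this
    refine ⟨c⁻¹, ?_⟩
    rw [Matrix.GeneralLinearGroup.coe_one, hc, smul_smul, inv_mul_cancel₀ hc0, one_smul]

/-- the Weyl element -/
noncomputable def w (F : Type*) [Field F] : GL2 F :=
  Matrix.GeneralLinearGroup.mkOfDetNeZero !![0, -1; 1, 0] (by simp [Matrix.det_fin_two])

theorem w_coe : ((w F : GL2 F) : Matrix (Fin 2) (Fin 2) F) = !![0, -1; 1, 0] := rfl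

/-- anisotropy of `x² + y²` when `-1` is not a square -/
theorem sq_add_sq_eq_zero (hns : ∀ r : F, r ^ 2 ≠ -1) {x y : F} (h : x ^ 2 + y ^ 2 = 0) :
    x = 0 ∧ y = 0 := by
  by_cases hy : y = 0
  · rw [hy] at h
    simp at h
    exact ⟨h, hy⟩
  · exfalso
    apply hns (x / y)
    field_simp
    linear_combination h

theorem two_ne_zero_of (hns : ∀ r : F, r ^ 2 ≠ -1) : (2 : F) ≠ 0 := by
  intro h
  apply hns 1
  linear_combination h

/-- An element of `PGL₂` commuting with the image of the Weyl element has order dividing `q + 1`,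
or order dividing `2`. -/
theorem pow_eq_one_of_commute [Fintype F] (hns : ∀ r : F, r ^ 2 ≠ -1) (g : GL2 F)
    (hcomm : (QuotientGroup.mk g : PGL2 F) * QuotientGroup.mk (w F) =
      QuotientGroup.mk (w F) * QuotientGroup.mk g) :
    (QuotientGroup.mk g : PGL2 F) ^ (Fintype.card F + 1) = 1 ∨ (QuotientGroup.mk g : PGL2 F) ^ 2 = 1 := by
  have h2 := two_ne_zero_of hns
  rw [← QuotientGroup.mk_mul, ← QuotientGroup.mk_mul, mk_eq_mk_iff] at hcomm
  obtain ⟨c, hc⟩ := hcomm
  rw [Matrix.GeneralLinearGroup.coe_mul, Matrix.GeneralLinearGroup.coe_mul, w_coe] at hc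
  set M : Matrix (Fin 2) (Fin 2) F := (g : Matrix (Fin 2) (Fin 2) F) with hM
  have hdet : M.det ≠ 0 := Matrix.GeneralLinearGroup.det_ne_zero g
  rw [Matrix.det_fin_two] at hdet
  -- entries
  have e00 := congrFun (congrFun hc 0) 0
  have e01 := congrFun (congrFun hc 0) 1
  have e10 := congrFun (congrFun hc 1) 0
  have e11 := congrFun (congrFun hc 1) 1
  simp [Matrix.mul_apply, Fin.sum_univ_two] at e00 e01 e10 e11
  -- e00 : -M 1 0 = c * M 0 1 ; e01 : -M 1 1 = -(c * M 0 0) ; e10 : M 0 0 = c * M 1 1 ; e11 : M 0 1 = -(c * M 1 0)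
  have hc2 : c ^ 2 = 1 := by
    by_contra hne
    have h1 : (c ^ 2 - 1) * M 0 0 = 0 := by linear_combination (-c) * e01 + (-1 : F) * e10
    have h3 : (c ^ 2 - 1) * M 0 1 = 0 := by linear_combination (-c) * e00 + (-1 : F) * e11
    have hne' : c ^ 2 - 1 ≠ 0 := sub_ne_zero.2 hne
    have h00 : M 0 0 = 0 := by
      rcases mul_eq_zero.1 h1 with h | h
      · exact absurd h hne'
      · exact h
    have h01 : M 0 1 = 0 := by
      rcases mul_eq_zero.1 h3 with h | h
      · exact absurd h hne'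
      · exact h
    apply hdet
    rw [h00, h01]; ring
  have hc1 : c = 1 ∨ c = -1 := by
    have : (c - 1) * (c + 1) = 0 := by linear_combination hc2
    rcases mul_eq_zero.1 this with h | h
    · exact Or.inl (by linear_combination h)
    · exact Or.inr (by linear_combination h)
  rcases hc1 with rfl | rfl
  · -- g commutes with w: it lies in the field F[w]
    left
    have h11 : M 1 1 = M 0 0 := by linear_combination (-1 : F) * e10
    have h01 : M 0 1 = -M 1 0 := by linear_combination e11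
    have : Fact (∀ r : F, r ^ 2 ≠ -1 + 0 * r) := ⟨fun r => by simpa using hns r⟩
    obtain ⟨z, hMt⟩ : ∃ z : QuadraticAlgebra F (-1) 0, M = toMat (-1 : F) 0 z := by
      refine ⟨⟨M 0 0, M 1 0⟩, ?_⟩
      rw [toMat_apply]
      ext i j
      fin_cases i <;> fin_cases j <;> simp [h11, h01]
    rw [← QuotientGroup.mk_pow, mk_eq_one_iff]
    refine ⟨QuadraticAlgebra.norm z, ?_⟩
    rw [Units.val_pow_eq_pow_val, ← hM, hMt, ← map_pow, pow_card_add_one,
      QuadraticAlgebra.C_eq_algebraMap, AlgHom.commutes, Algebra.algebraMap_eq_smul_one]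
  · right
    have h11 : M 1 1 = -M 0 0 := by linear_combination e10
    have h01 : M 0 1 = M 1 0 := by linear_combination e11
    rw [← QuotientGroup.mk_pow, mk_eq_one_iff]
    refine ⟨M 0 0 ^ 2 + M 1 0 ^ 2, ?_⟩
    rw [Units.val_pow_eq_pow_val, ← hM, pow_two]
    ext i j
    fin_cases i <;> fin_cases j <;> simp [Matrix.mul_apply, Fin.sum_univ_two, h11, h01] <;> ring


/-- the centralizer of the image of the Weyl element -/
noncomputable def Cw (F : Type*) [Field F] : Subgroup (PGL2 F) :=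
  Subgroup.centralizer {(QuotientGroup.mk (w F) : PGL2 F)}

theorem mem_Cw_iff (s : PGL2 F) :
    s ∈ Cw F ↔ s * QuotientGroup.mk (w F) = QuotientGroup.mk (w F) * s := by
  rw [Cw, Subgroup.mem_centralizer_iff]
  constructor
  · intro h
    exact (h _ rfl).symm
  · intro h t ht
    rw [Set.mem_singleton_iff] at ht
    rw [ht]; exact h.symm

theorem Cw_isPGroup [Fintype F] (hns : ∀ r : F, r ^ 2 ≠ -1) (k : ℕ) (hk : Fintype.card F + 1 = 2 ^ k) :
    IsPGroup 2 (Cw F) := by
  have hk1 : 1 ≤ k := by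
    rcases Nat.eq_zero_or_pos k with rfl | h
    · exfalso
      have : 0 < Fintype.card F := Fintype.card_pos
      rw [pow_zero] at hk
      omega
    · exact h
  rintro ⟨s, hs⟩
  refine ⟨k, ?_⟩
  apply Subtype.ext
  rw [Subgroup.coe_pow, Subgroup.coe_one]
  change s ^ 2 ^ k = 1
  obtain ⟨g, rfl⟩ := QuotientGroup.mk_surjective s
  rw [mem_Cw_iff] at hs
  rcases pow_eq_one_of_commute hns g hs with h | h
  · rw [← hk]; exact h
  · obtain ⟨k', rfl⟩ : ∃ k', k = k' + 1 := ⟨k - 1, by omega⟩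
    rw [pow_succ, mul_comm, pow_mul, h, one_pow]

/-- Key: the centralizers of the images of two conjugates of the Weyl element meet non-trivially. -/
theorem exists_common (hns : ∀ r : F, r ^ 2 ≠ -1) (x : PGL2 F) :
    ∃ s : PGL2 F, s ≠ 1 ∧ s ∈ Cw F ∧ x⁻¹ * s * x ∈ Cw F := by
  have h2 := two_ne_zero_of hns
  obtain ⟨X, rfl⟩ := QuotientGroup.mk_surjective x
  obtain ⟨b, hb⟩ : ∃ b : GL2 F, b = X * w F * X⁻¹ := ⟨_, rfl⟩
  obtain ⟨B, hB⟩ : ∃ B : Matrix (Fin 2) (Fin 2) F, B = (b : Matrix (Fin 2) (Fin 2) F) := ⟨_, rfl⟩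
  have htr : Matrix.trace B = 0 := by
    rw [hB, hb, Matrix.GeneralLinearGroup.coe_mul, Matrix.GeneralLinearGroup.coe_mul,
      Matrix.trace_mul_comm, ← Matrix.mul_assoc, ← Matrix.GeneralLinearGroup.coe_mul, inv_mul_cancel,
      Matrix.GeneralLinearGroup.coe_one, Matrix.one_mul, w_coe, Matrix.trace_fin_two]
    simp
  have hdetB : B.det = 1 := by
    rw [hB, hb, Matrix.GeneralLinearGroup.coe_mul, Matrix.GeneralLinearGroup.coe_mul, Matrix.det_mul,
      Matrix.det_mul, w_coe]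
    have h1 : (X : Matrix (Fin 2) (Fin 2) F).det * ((X⁻¹ : GL2 F) : Matrix (Fin 2) (Fin 2) F).det = 1 := by
      rw [← Matrix.det_mul, ← Matrix.GeneralLinearGroup.coe_mul, mul_inv_cancel,
        Matrix.GeneralLinearGroup.coe_one, Matrix.det_one]
    have hw : (!![0, -1; 1, 0] : Matrix (Fin 2) (Fin 2) F).det = 1 := by simp [Matrix.det_fin_two]
    rw [hw, mul_one]
    exact h1
  rw [Matrix.trace_fin_two] at htr
  rw [Matrix.det_fin_two] at hdetB
  have h11 : B 1 1 = -B 0 0 := by linear_combination htr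
  rw [h11] at hdetB
  -- commutation criterion through b
  have hconj : ∀ s : PGL2 F, s * QuotientGroup.mk b = QuotientGroup.mk b * s →
      (QuotientGroup.mk X : PGL2 F)⁻¹ * s * QuotientGroup.mk X ∈ Cw F := by
    intro s hs
    rw [mem_Cw_iff]
    rw [hb] at hs
    simp only [QuotientGroup.mk_mul, QuotientGroup.mk_inv] at hs
    have e1 : (QuotientGroup.mk X : PGL2 F)⁻¹ * s * QuotientGroup.mk X * QuotientGroup.mk (w F) =
        (QuotientGroup.mk X : PGL2 F)⁻¹ * (s * (QuotientGroup.mk X * QuotientGroup.mk (w F) *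
          (QuotientGroup.mk X : PGL2 F)⁻¹)) * QuotientGroup.mk X := by group
    rw [e1, hs]
    group
  by_cases hS : B 0 0 = 0 ∧ B 0 1 + B 1 0 = 0
  · -- b is a scalar multiple of w
    obtain ⟨h00, h01⟩ := hS
    have hbw : (QuotientGroup.mk b : PGL2 F) = QuotientGroup.mk (w F) := by
      rw [eq_comm, mk_eq_mk_iff]
      refine ⟨-B 0 1, ?_⟩
      rw [w_coe, ← hB]
      ext i j
      fin_cases i <;> fin_cases j <;> simp [h00, h11]
      linear_combination h01
    refine ⟨QuotientGroup.mk (w F), ?_, ?_, ?_⟩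
    · rw [Ne, mk_eq_one_iff]
      rintro ⟨c, hc⟩
      have := congrFun (congrFun hc 1) 0
      rw [w_coe] at this
      simp at this
    · rw [mem_Cw_iff]
    · apply hconj
      rw [hbw]
  · -- s = w b - b w
    have hdetS : (!![-(B 1 0) - B 0 1, 2 * B 0 0; 2 * B 0 0, B 0 1 + B 1 0] : Matrix (Fin 2) (Fin 2) F).det ≠ 0 := by
      rw [Matrix.det_fin_two]
      simp
      intro h
      apply hS
      have h' : (B 0 1 + B 1 0) ^ 2 + (2 * B 0 0) ^ 2 = 0 := by linear_combination (-1 : F) * h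
      obtain ⟨ha, hb'⟩ := sq_add_sq_eq_zero hns h'
      refine ⟨?_, ha⟩
      rcases mul_eq_zero.1 hb' with h | h
      · exact absurd h h2
      · exact h
    set s : GL2 F := Matrix.GeneralLinearGroup.mkOfDetNeZero _ hdetS with hs
    have hs_coe : (s : Matrix (Fin 2) (Fin 2) F) =
        !![-(B 1 0) - B 0 1, 2 * B 0 0; 2 * B 0 0, B 0 1 + B 1 0] := rfl
    refine ⟨QuotientGroup.mk s, ?_, ?_, ?_⟩
    · rw [Ne, mk_eq_one_iff]
      rintro ⟨c, hc⟩
      rw [hs_coe] at hc
      have e01 := congrFun (congrFun hc 0) 1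
      have e00 := congrFun (congrFun hc 0) 0
      have e11 := congrFun (congrFun hc 1) 1
      simp at e01 e00 e11
      apply hS
      refine ⟨?_, ?_⟩
      · rcases e01 with h | h
        · exact absurd h h2
        · exact h
      · have : 2 * (B 0 1 + B 1 0) = 0 := by linear_combination e11 - e00
        rcases mul_eq_zero.1 this with h | h
        · exact absurd h h2
        · exact h
    · rw [mem_Cw_iff, ← QuotientGroup.mk_mul, ← QuotientGroup.mk_mul, mk_eq_mk_iff]
      refine ⟨-1, ?_⟩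
      rw [Matrix.GeneralLinearGroup.coe_mul, Matrix.GeneralLinearGroup.coe_mul, hs_coe, w_coe]
      ext i j
      fin_cases i <;> fin_cases j <;> simp [Matrix.mul_apply, Fin.sum_univ_two] <;> ring
    · apply hconj
      rw [← QuotientGroup.mk_mul, ← QuotientGroup.mk_mul, mk_eq_mk_iff]
      refine ⟨-1, ?_⟩
      rw [Matrix.GeneralLinearGroup.coe_mul, Matrix.GeneralLinearGroup.coe_mul, hs_coe, ← hB,
        Matrix.eta_fin_two B, h11]
      ext i j
      fin_cases i <;> fin_cases j <;> simp [Matrix.mul_apply, Fin.sum_univ_two] <;> ring1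


theorem result {q k : ℕ} [Fact q.Prime] (hk : q + 1 = 2 ^ k) (hq : 7 ≤ q)
    (H : Sylow 2 (GL (Fin 2) (ZMod q) ⧸ Subgroup.center (GL (Fin 2) (ZMod q))))
    (x : GL (Fin 2) (ZMod q) ⧸ Subgroup.center (GL (Fin 2) (ZMod q))) :
    (H : Subgroup (GL (Fin 2) (ZMod q) ⧸ Subgroup.center (GL (Fin 2) (ZMod q)))) ⊓ MulAut.conj x • (H : Subgroup _) ≠ ⊥ := by
  have hq4 : q % 4 = 3 := by
    have hk2 : 2 ≤ k := by
      by_contra hlt
      have : k ≤ 1 := by omega
      have : 2 ^ k ≤ 2 ^ 1 := Nat.pow_le_pow_right (by norm_num) this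
      omega
    obtain ⟨k', rfl⟩ : ∃ k', k = k' + 2 := ⟨k - 2, by omega⟩
    rw [pow_add] at hk
    omega
  have hns : ∀ r : ZMod q, r ^ 2 ≠ -1 := by
    intro r hr
    exact ZMod.mod_four_ne_three_of_sq_eq_neg_one hr hq4
  have hcard : Fintype.card (ZMod q) + 1 = 2 ^ k := by rw [ZMod.card]; exact hk
  have hC := Cw_isPGroup hns k hcard
  obtain ⟨P₀, hP₀⟩ := hC.exists_le_sylow
  obtain ⟨g, hg⟩ := MulAction.exists_smul_eq (PGL2 (ZMod q)) P₀ H
  have hH : (H : Subgroup (PGL2 (ZMod q))) = MulAut.conj g • (P₀ : Subgroup (PGL2 (ZMod q))) := by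
    rw [← hg]; rfl
  obtain ⟨s, hs1, hsC, hsC'⟩ := exists_common hns (g⁻¹ * x * g)
  intro hbot
  have hmem : g * s * g⁻¹ ∈ (H : Subgroup (PGL2 (ZMod q))) ⊓ MulAut.conj x • (H : Subgroup (PGL2 (ZMod q))) := by
    refine Subgroup.mem_inf.2 ⟨?_, ?_⟩
    · rw [hH, Subgroup.mem_pointwise_smul_iff_inv_smul_mem]
      have : (MulAut.conj g)⁻¹ • (g * s * g⁻¹) = s := by
        rw [MulAut.smul_def, MulAut.conj_inv_apply]; group
      change (MulAut.conj g)⁻¹ • (g * s * g⁻¹) ∈ (P₀ : Subgroup (PGL2 (ZMod q)))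
      rw [this]
      exact hP₀ hsC
    · rw [Subgroup.mem_pointwise_smul_iff_inv_smul_mem]
      change (MulAut.conj x)⁻¹ • (g * s * g⁻¹) ∈ (H : Subgroup (PGL2 (ZMod q)))
      rw [hH, Subgroup.mem_pointwise_smul_iff_inv_smul_mem]
      have : (MulAut.conj g)⁻¹ • ((MulAut.conj x)⁻¹ • (g * s * g⁻¹)) =
          (g⁻¹ * x * g)⁻¹ * s * (g⁻¹ * x * g) := by
        rw [MulAut.smul_def, MulAut.smul_def, MulAut.conj_inv_apply, MulAut.conj_inv_apply]; group
      change (MulAut.conj g)⁻¹ • ((MulAut.conj x)⁻¹ • (g * s * g⁻¹)) ∈ (P₀ : Subgroup (PGL2 (ZMod q)))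
      rw [this]
      exact hP₀ hsC'
  rw [hbot, Subgroup.mem_bot] at hmem
  apply hs1
  have : s = g⁻¹ * (g * s * g⁻¹) * g := by group
  rw [this, hmem]; group

end Cfsg.Agent.S2485
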