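import Cfsg.Statements.S2486
import Cfsg.Agent.Lib.Helper42_SylInter
import Cfsg.Agent.Lib.Helper42_BruhatF2

set_option autoImplicit false
open scoped Pointwise
open Cfsg

namespace Cfsg.Agent.S2486

/-- Let n ≥ 4 and let G be a finite group with a normal subgroup N of index 2 isomorphic to SL(n,2) and with trivial centralizer in G (so G is the extension of the simple group L_n(2) by its inverse-transpose automorphism, its full automorphism group). Then any two Sylow 2-subgroups of G have a non-trivial intersection: for a Sylow 2-subgroup H and every x ∈ G, H ∩ H^x ≠ 1. -/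
theorem result {G : Type*} [Group G] [Finite G] {n : ℕ} (hn : 4 ≤ n) (N : Subgroup G) [N.Normal]
    (e : N ≃* Matrix.SpecialLinearGroup (Fin n) (ZMod 2)) (hidx : N.index = 2)
    (hC : Subgroup.centralizer (N : Set G) = ⊥)
    (H : Sylow 2 G) (x : G) :
    (H : Subgroup G) ⊓ MulAut.conj x • (H : Subgroup G) ≠ ⊥ := by
  classical
  have hmemU : ∀ y : G, y ∈ ((Helper42BruhatF2.U0 n).comap e.toMonoidHom).map N.subtype ↔
      ∃ hy : y ∈ N, e ⟨y, hy⟩ ∈ Helper42BruhatF2.U0 n := by
    intro y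
    rw [Subgroup.mem_map]
    constructor
    · rintro ⟨k, hk, rfl⟩
      exact ⟨k.2, hk⟩
    · rintro ⟨hy, hk⟩
      exact ⟨⟨y, hy⟩, hk, rfl⟩
  have hsymm : ∀ s : Matrix.SpecialLinearGroup (Fin n) (ZMod 2), s ∈ Helper42BruhatF2.U0 n →
      ((e.symm s : N) : G) ∈ ((Helper42BruhatF2.U0 n).comap e.toMonoidHom).map N.subtype := by
    intro s hs
    rw [hmemU]
    exact ⟨(e.symm s).2, by simpa using hs⟩
  have hconj : ∀ (g y : G) (hg : g ∈ N) (hy : y ∈ N) (h : g * y * g⁻¹ ∈ N),
      e ⟨g * y * g⁻¹, h⟩ = e ⟨g, hg⟩ * e ⟨y, hy⟩ * (e ⟨g, hg⟩)⁻¹ := by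
    intro g y hg hy h
    rw [← map_inv, ← map_mul, ← map_mul]
    rfl
  refine Helper42SylInter.sylow_inter_ne_bot N hidx
    (((Helper42BruhatF2.U0 n).comap e.toMonoidHom).map N.subtype) ?_ ?_ ?_
    ((e.symm (Helper42BruhatF2.w0 n) : N) : G) (e.symm (Helper42BruhatF2.w0 n)).2 ?_ H x
  · intro y hy
    obtain ⟨hy', -⟩ := (hmemU y).1 hy
    exact hy'
  · exact ((Helper42BruhatF2.isPGroup_U0).comap_of_injective e.toMonoidHom e.injective).map N.subtype
  · intro g hg hnorm
    rw [hmemU]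
    refine ⟨hg, ?_⟩
    apply Helper42BruhatF2.self_normalizing
    intro s hs
    have h1 := hnorm _ (hsymm s hs)
    obtain ⟨h2, h3⟩ := (hmemU _).1 h1
    rw [hconj g _ hg (e.symm s).2 h2] at h3
    simpa using h3
  · intro g hg hdisj
    obtain ⟨u, hu, u', hu', hguu⟩ := Helper42BruhatF2.big_cell (e ⟨g, hg⟩) (by
      intro s hs hs'
      have h1 := hdisj _ (hsymm s hs) (by
        rw [hmemU]
        have h2 : g * ((e.symm s : N) : G) * g⁻¹ ∈ N :=
          mul_mem (mul_mem hg (e.symm s).2) (inv_mem hg)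
        refine ⟨h2, ?_⟩
        rw [hconj g _ hg (e.symm s).2 h2]
        simpa using hs')
      have h3 : (e.symm s : N) = 1 := Subtype.ext h1
      simpa using h3)
    refine ⟨_, hsymm u hu, _, hsymm u' hu', ?_⟩
    have h4 : (⟨g, hg⟩ : N) = e.symm u * e.symm (Helper42BruhatF2.w0 n) * e.symm u' := by
      apply e.injective
      simp [hguu]
    have := congrArg (fun t : N => (t : G)) h4
    simpa using this

end Cfsg.Agent.S2486
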