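import Cfsg.Statements.S2487
import Cfsg.Agent.Lib.Helper94_Bridge
import Cfsg.Agent.Lib.Helper94_OrthBridge
import Cfsg.Agent.Lib.Helper42_SylInter
import Cfsg.Agent.Lib.Helper6_OPlusA
import Cfsg.Agent.Lib.Helper6_OPlusB
import Cfsg.Agent.Lib.Helper6_OPlusC

set_option autoImplicit false
open scoped Pointwise
open Cfsg

namespace Cfsg.Agent.S2487

/-- Let m ≥ 4 and let G be the full isometry group of the hyperbolic quadratic form x₁y₁ + ⋯ + x_m y_m on the 2m-dimensional space over the field with 2 elements (the orthogonal group O⁺(2m,2), which contains Ω⁺(2m,2) with index 2). Then any two Sylow 2-subgroups of G have a non-trivial intersection: for a Sylow 2-subgroup H and every x ∈ G, H ∩ H^x ≠ 1. -/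
theorem result {F : Type*} [Field F] [Fintype F] (hF : Fintype.card F = 2) {m : ℕ} (hm : 4 ≤ m)
    (H : Sylow 2 (Cfsg.isometryGroup F (Cfsg.quadFormPlus m F)))
    (x : Cfsg.isometryGroup F (Cfsg.quadFormPlus m F)) :
    (H : Subgroup (Cfsg.isometryGroup F (Cfsg.quadFormPlus m F))) ⊓ MulAut.conj x • (H : Subgroup _) ≠ ⊥ := by
  classical
  have : Fact (Nat.Prime 2) := ⟨Nat.prime_two⟩
  have h01 : ∀ a : F, a = 0 ∨ a = 1 := by
    intro a
    by_cases ha : a = 0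
    · exact Or.inl ha
    · right
      have h := FiniteField.pow_card_sub_one_eq_one a ha
      rw [hF] at h
      simpa using h
  have hm2 : 2 ≤ m := by omega
  -- the comparison map to linear automorphisms
  obtain ⟨ψ, hψ⟩ : ∃ ψ : Cfsg.isometryGroup F (Cfsg.quadFormPlus m F) →*
      ((Fin m ⊕ Fin m → F) ≃ₗ[F] (Fin m ⊕ Fin m → F)),
      ψ = (Cfsg.Agent.Lib.Helper94_Bridge.glEquiv (Fin m ⊕ Fin m) F).toMonoidHom.comp
        (Cfsg.isometryGroup F (Cfsg.quadFormPlus m F)).subtype := ⟨_, rfl⟩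
  have hψinj : Function.Injective ψ := by
    rw [hψ]
    exact (Cfsg.Agent.Lib.Helper94_Bridge.glEquiv (Fin m ⊕ Fin m) F).injective.comp
      (Subgroup.subtype_injective _)
  have hψmem : ∀ g, ψ g ∈ Cfsg.Agent.Lib.Helper94_OrthSmall.oG (Cfsg.quadFormPlus m F) := by
    intro g
    have h : (g : Matrix.GeneralLinearGroup (Fin m ⊕ Fin m) F) ∈
        (Cfsg.Agent.Lib.Helper94_OrthSmall.oG (Cfsg.quadFormPlus m F)).comap
          (Cfsg.Agent.Lib.Helper94_Bridge.glEquiv (Fin m ⊕ Fin m) F).toMonoidHom := by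
      rw [← Cfsg.Agent.Lib.Helper94_OrthBridge.isometryGroup_eq]
      exact g.2
    rw [hψ]
    exact h
  have hψsurj : ∀ h ∈ Cfsg.Agent.Lib.Helper94_OrthSmall.oG (Cfsg.quadFormPlus m F),
      ∃ g, ψ g = h := by
    intro h hh
    refine ⟨⟨(Cfsg.Agent.Lib.Helper94_Bridge.glEquiv (Fin m ⊕ Fin m) F).symm h, ?_⟩, ?_⟩
    · rw [Cfsg.Agent.Lib.Helper94_OrthBridge.isometryGroup_eq, Subgroup.mem_comap]
      simpa using hh
    · rw [hψ]
      simp
  -- the standard Sylow subgroup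
  obtain ⟨U, hU⟩ : ∃ U : Subgroup (Cfsg.isometryGroup F (Cfsg.quadFormPlus m F)),
      U = (Cfsg.Agent.Lib.Helper6_OPlusA.B0 m F).comap ψ := ⟨_, rfl⟩
  have hmemU : ∀ g, g ∈ U ↔ ψ g ∈ Cfsg.Agent.Lib.Helper6_OPlusA.B0 m F := by
    intro g
    rw [hU, Subgroup.mem_comap]
  have hU2 : IsPGroup 2 U := by
    rw [hU]
    exact (Cfsg.Agent.Lib.Helper6_OPlusB.isPGroup_B0 h01 hm2).comap_of_injective ψ hψinj
  have hnorm : ∀ g ∈ (⊤ : Subgroup (Cfsg.isometryGroup F (Cfsg.quadFormPlus m F))),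
      (∀ y ∈ U, g * y * g⁻¹ ∈ U) → g ∈ U := by
    intro g _ hg
    rw [hmemU]
    apply Cfsg.Agent.Lib.Helper6_OPlusC.self_normalizing h01 (hψmem g)
    intro b hb
    obtain ⟨y, rfl⟩ := hψsurj b (Cfsg.Agent.Lib.Helper6_OPlusA.B0_le hb)
    have h1 := hg y ((hmemU y).mpr hb)
    rw [hmemU, map_mul, map_mul, map_inv] at h1
    exact h1
  obtain ⟨S, hUS⟩ := hU2.exists_le_sylow
  have hSU : (S : Subgroup _) = U :=
    Cfsg.Agent.Helper42SylInter.eq_of_le_pgroup ⊤ U hnorm S S.2 le_top hUS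
  obtain ⟨y, hy⟩ := MulAction.exists_smul_eq (Cfsg.isometryGroup F (Cfsg.quadFormPlus m F)) S H
  have hmemH : ∀ g, g ∈ (H : Subgroup _) ↔ y⁻¹ * g * y ∈ U := by
    intro g
    rw [← hy, ← hSU, Sylow.smul_def, Sylow.pointwise_smul_def,
      Subgroup.mem_pointwise_smul_iff_inv_smul_mem]
    simp [MulAut.smul_def]
  obtain ⟨g₀, hg₀, hg₀1, hc1, hc2⟩ := Cfsg.Agent.Lib.Helper6_OPlusC.exists_common hm2
    (hψmem y) (hψmem (x * y))
  obtain ⟨g, rfl⟩ := hψsurj g₀ hg₀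
  have hg1 : g ≠ 1 := by
    rintro rfl
    exact hg₀1 (map_one ψ)
  have hgH : g ∈ (H : Subgroup _) := by
    rw [hmemH, hmemU, map_mul, map_mul, map_inv]
    exact hc1
  have hgxH : g ∈ MulAut.conj x • (H : Subgroup _) := by
    rw [Subgroup.mem_pointwise_smul_iff_inv_smul_mem, MulAut.smul_def, ← map_inv,
      MulAut.conj_apply, inv_inv, hmemH, hmemU]
    have h1 : y⁻¹ * (x⁻¹ * g * x) * y = (x * y)⁻¹ * g * (x * y) := by group
    rw [h1, map_mul, map_mul, map_inv]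
    exact hc2
  intro hbot
  have h1 : g ∈ (H : Subgroup _) ⊓ MulAut.conj x • (H : Subgroup _) := ⟨hgH, hgxH⟩
  rw [hbot, Subgroup.mem_bot] at h1
  exact hg1 h1

end Cfsg.Agent.S2487
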