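import Cfsg.Statements.S2488
import Cfsg.Agent.Lib.Helper96_A6Facts
import Cfsg.Agent.Lib.Helper32_PGroup

set_option autoImplicit false
open scoped Pointwise
open Cfsg

namespace Cfsg.Agent.S2488


open Cfsg.Agent.Lib.Helper96_A6Facts

/-- class equation for one class: `|x^G| * |C(x)| = |G|`. -/
theorem card_class_mul_card_centralizer {G : Type*} [Group G] [Finite G] (x : G) :
    Nat.card {y : G // IsConj x y} * Nat.card (Subgroup.centralizer ({x} : Set G)) = Nat.card G := by
  classical
  have : Fintype G := Fintype.ofFinite G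
  have h := MulAction.card_orbit_mul_card_stabilizer_eq_card_group (ConjAct G) x
  rw [Subgroup.nat_card_centralizer_nat_card_stabilizer]
  simp only [← Nat.card_eq_fintype_card] at h
  have e : Nat.card {y : G // IsConj x y} = Nat.card (MulAction.orbit (ConjAct G) x) := by
    apply Nat.card_congr
    apply Equiv.subtypeEquivRight
    intro y
    rw [ConjAct.mem_orbit_conjAct]
    exact ⟨IsConj.symm, IsConj.symm⟩
  rw [e, h]
  rfl

/-- An involution of a finite pointed set of even size has a second fixed point. -/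
theorem exists_fixed_of_even {X : Type*} [Finite X] (σ : X → X) (x₀ : X) (hσ : ∀ u, σ (σ u) = u)
    (h1 : σ x₀ = x₀) (heven : 2 ∣ Nat.card X) : ∃ u, u ≠ x₀ ∧ σ u = u := by
  classical
  have : Fintype X := Fintype.ofFinite X
  have : Fact (Nat.Prime 2) := ⟨Nat.prime_two⟩
  let f : Function.End X := σ
  have hf : f ^ 2 ^ 1 = 1 := by
    rw [pow_one, pow_two]
    funext u
    exact hσ u
  have hmod := Equiv.Perm.card_fixedPoints_modEq (f := f) (p := 2) (n := 1) hf
  rw [Nat.card_eq_fintype_card] at heven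
  have h2 : 2 ∣ Fintype.card (Function.fixedPoints f) := by
    have := (Nat.modEq_zero_iff_dvd.2 heven).symm.trans hmod
    exact (Nat.modEq_zero_iff_dvd.1 this.symm)
  have h3 : 1 < Fintype.card (Function.fixedPoints f) := by
    have hpos : 0 < Fintype.card (Function.fixedPoints f) := Fintype.card_pos_iff.2 ⟨⟨x₀, h1⟩⟩
    omega
  obtain ⟨w, hne⟩ := Fintype.exists_ne_of_one_lt_card h3 ⟨x₀, h1⟩
  exact ⟨w.1, fun h => hne (Subtype.ext h), w.2⟩

section

variable {G : Type*} [Group G] (N : Subgroup G) (e : N ≃* alternatingGroup (Fin 6))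
include e

/-- the elements of `N` have order at most `5` -/
theorem ord_le_five (a : G) (ha : a ∈ N) : 0 < orderOf a ∧ orderOf a ≤ 5 := by
  have key : ∀ k : ℕ, 0 < k → k ≤ 5 → (e ⟨a, ha⟩) ^ k = 1 → 0 < orderOf a ∧ orderOf a ≤ 5 := by
    intro k hk0 hk5 h
    have h1 : (⟨a, ha⟩ : N) ^ k = 1 := by
      apply e.injective
      rw [map_pow, h, map_one]
    have h2 : a ^ k = 1 := by
      have := congrArg Subtype.val h1
      simpa using this
    have hpos : 0 < orderOf a := orderOf_pos_iff.2 (isOfFinOrder_iff_pow_eq_one.2 ⟨k, hk0, h2⟩)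
    exact ⟨hpos, le_trans (Nat.le_of_dvd hk0 (orderOf_dvd_of_pow_eq_one h2)) hk5⟩
  rcases a6_orders (e ⟨a, ha⟩) with h | h | h | h | h
  · exact key 1 (by norm_num) (by norm_num) (by rw [pow_one]; exact h)
  · exact key 2 (by norm_num) (by norm_num) h
  · exact key 3 (by norm_num) (by norm_num) h
  · exact key 4 (by norm_num) (by norm_num) h
  · exact key 5 (by norm_num) (by norm_num) h

/-- the possible orders of the elements of `N` -/
theorem pow_cases (a : G) (ha : a ∈ N) : a = 1 ∨ a ^ 2 = 1 ∨ a ^ 3 = 1 ∨ a ^ 4 = 1 ∨ a ^ 5 = 1 := by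
  have key : ∀ k : ℕ, (e ⟨a, ha⟩) ^ k = 1 → a ^ k = 1 := by
    intro k h
    have h1 : (⟨a, ha⟩ : N) ^ k = 1 := by
      apply e.injective
      rw [map_pow, h, map_one]
    have := congrArg Subtype.val h1
    simpa using this
  rcases a6_orders (e ⟨a, ha⟩) with h | h | h | h | h
  · left
    have := key 1 (by rw [pow_one]; exact h)
    simpa using this
  · exact Or.inr (Or.inl (key 2 h))
  · exact Or.inr (Or.inr (Or.inl (key 3 h)))
  · exact Or.inr (Or.inr (Or.inr (Or.inl (key 4 h))))
  · exact Or.inr (Or.inr (Or.inr (Or.inr (key 5 h))))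

/-- commuting elements of `N` cannot have coprime orders both at least `2` -/
theorem no_coprime (g d : G) (hg : g ∈ N) (hd : d ∈ N) (hc : Commute g d)
    (hcop : Nat.Coprime (orderOf g) (orderOf d)) (h1 : 2 ≤ orderOf g) (h2 : 2 ≤ orderOf d) : False := by
  have h := hc.orderOf_mul_eq_mul_orderOf_of_coprime hcop
  have h5 := (ord_le_five N e (g * d) (N.mul_mem hg hd)).2
  rw [h] at h5
  have h3 : orderOf g ≠ orderOf d := by
    intro heq
    rw [heq, Nat.coprime_self] at hcop
    omega
  have : 6 ≤ orderOf g * orderOf d := by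
    rcases Nat.lt_or_gt_of_ne h3 with h4 | h4
    · calc 6 = 2 * 3 := by norm_num
        _ ≤ orderOf g * orderOf d := Nat.mul_le_mul h1 (by omega)
    · calc 6 = 3 * 2 := by norm_num
        _ ≤ orderOf g * orderOf d := Nat.mul_le_mul (by omega) h2
  omega

/-- an element of `N` commuting with an element of `N` of order `m ∈ {3, 5}` has order `1` or `m` -/
theorem pow_eq_one_of_commute (m : ℕ) (hm : m = 3 ∨ m = 5) (g d : G) (hg : g ∈ N) (hd : d ∈ N)
    (hc : Commute g d) (hdm : orderOf d = m) : g ^ m = 1 := by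
  have hmp : m.Prime := by rcases hm with rfl | rfl <;> norm_num
  obtain ⟨hpos, h5⟩ := ord_le_five N e g hg
  by_cases hcop : Nat.Coprime (orderOf g) m
  · by_cases h1 : orderOf g = 1
    · rw [orderOf_eq_one_iff] at h1
      rw [h1, one_pow]
    · exfalso
      exact no_coprime N e g d hg hd hc (by rw [hdm]; exact hcop) (by omega)
        (by rw [hdm]; exact hmp.two_le)
  · have hdvd : m ∣ orderOf g := by
      by_contra hnd
      exact hcop ((Nat.Prime.coprime_iff_not_dvd hmp).2 hnd).symm
    obtain ⟨k, hk⟩ := hdvd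
    have hk1 : k = 1 := by
      rcases hm with rfl | rfl
      · have : k ≠ 0 := by rintro rfl; omega
        omega
      · have : k ≠ 0 := by rintro rfl; omega
        omega
    rw [hk1, mul_one] at hk
    rw [← hk]
    exact pow_orderOf_eq_one g

end

section

variable {G : Type*} [Group G] [Finite G] (N : Subgroup G) [N.Normal] (e : N ≃* alternatingGroup (Fin 6))
  (hidx : N.index = 4)
include e hidx

theorem card_N : Nat.card N = 360 := by
  rw [Nat.card_congr e.toEquiv, Nat.card_eq_fintype_card]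
  have h := two_mul_card_alternatingGroup (α := Fin 6)
  rw [Fintype.card_perm, Fintype.card_fin] at h
  have : (6 : ℕ).factorial = 720 := by decide
  omega

theorem card_G : Nat.card G = 1440 := by
  rw [← N.card_mul_index, card_N N e hidx, hidx]

omit e in
/-- elements of order `3` or `5` lie in `N` -/
theorem mem_N_of_odd (h : G) (hh : h ^ 3 = 1 ∨ h ^ 5 = 1) : h ∈ N := by
  have h4 : h ^ 4 ∈ N := by
    have := N.pow_index_mem h
    rwa [hidx] at this
  rcases hh with hh | hh
  · have : h ^ 4 = h := by rw [pow_succ, hh, one_mul]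
    rwa [this] at h4
  · have h16 : (h ^ 4) ^ 4 ∈ N := N.pow_mem h4 4
    have : (h ^ 4) ^ 4 = h := by
      rw [← pow_mul]
      have : h ^ (4 * 4) = (h ^ 5) ^ 3 * h := by rw [← pow_mul, ← pow_succ]
      rw [this, hh, one_pow, one_mul]
    rwa [this] at h16

/-- the centralizer of an involution of `N` is a `2`-group -/
theorem isPGroup_centralizer (z : G) (hz : z ∈ N) (hz2 : orderOf z = 2) :
    IsPGroup 2 (Subgroup.centralizer ({z} : Set G)) := by
  have hG := card_G N e hidx
  have hdvd : Nat.card (Subgroup.centralizer ({z} : Set G)) ∣ 1440 := by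
    rw [← hG]; exact Subgroup.card_subgroup_dvd_card _
  have hne : Nat.card (Subgroup.centralizer ({z} : Set G)) ≠ 0 := Nat.card_pos.ne'
  have key : ∀ {p : ℕ}, p.Prime → p ∣ Nat.card (Subgroup.centralizer ({z} : Set G)) → p = 2 := by
    intro p hp hpd
    by_contra hp2
    haveI : Fact p.Prime := ⟨hp⟩
    obtain ⟨h, hh⟩ := exists_prime_orderOf_dvd_card' p hpd
    have hp1440 : p ∣ 2 ^ 5 * 3 ^ 2 * 5 := by
      have : (2 ^ 5 * 3 ^ 2 * 5 : ℕ) = 1440 := by norm_num
      rw [this]; exact dvd_trans hpd hdvd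
    have hp35 : p = 3 ∨ p = 5 := by
      rcases (Nat.Prime.dvd_mul hp).1 hp1440 with h1 | h1
      · rcases (Nat.Prime.dvd_mul hp).1 h1 with h2 | h2
        · exact absurd ((Nat.prime_dvd_prime_iff_eq hp Nat.prime_two).1 (hp.dvd_of_dvd_pow h2)) hp2
        · exact Or.inl ((Nat.prime_dvd_prime_iff_eq hp Nat.prime_three).1 (hp.dvd_of_dvd_pow h2))
      · exact Or.inr ((Nat.prime_dvd_prime_iff_eq hp Nat.prime_five).1 h1)
    have hord : orderOf (h : G) = p := by rw [Subgroup.orderOf_coe]; exact hh
    have hpow : (h : G) ^ p = 1 := by rw [← hord]; exact pow_orderOf_eq_one _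
    have hN : (h : G) ∈ N := by
      apply mem_N_of_odd N hidx
      rcases hp35 with rfl | rfl
      · exact Or.inl hpow
      · exact Or.inr hpow
    have hcomm : Commute (h : G) z := by
      have := h.2
      rw [Subgroup.mem_centralizer_iff] at this
      exact (this z rfl).symm
    refine no_coprime N e (h : G) z hN hz hcomm ?_ ?_ ?_
    · rw [hord, hz2]
      rcases hp35 with rfl | rfl <;> norm_num
    · rw [hord]; exact hp.two_le
    · rw [hz2]
  have := Nat.eq_prime_pow_of_unique_prime_dvd hne key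
  exact IsPGroup.of_card this

end

section

variable {G : Type*} [Group G] [Finite G] (N : Subgroup G) [N.Normal] (e : N ≃* alternatingGroup (Fin 6))
  (hidx : N.index = 4)
include e hidx

omit [Finite G] [N.Normal] hidx in
/-- the number of solutions of `y ^ m = 1` in `N` -/
theorem card_pow_eq_one (m : ℕ) :
    Nat.card {y : G // y ∈ N ∧ y ^ m = 1} =
      (Finset.univ.filter (fun b : alternatingGroup (Fin 6) => b ^ m = 1)).card := by
  classical
  rw [← Fintype.card_subtype, ← Nat.card_eq_fintype_card]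
  apply Nat.card_congr
  refine ⟨fun y => ⟨e ⟨y.1, y.2.1⟩, ?_⟩, fun b => ⟨(e.symm b.1).1, (e.symm b.1).2, ?_⟩, ?_, ?_⟩
  · rw [← map_pow]
    have : (⟨y.1, y.2.1⟩ : N) ^ m = 1 := Subtype.ext (by simpa using y.2.2)
    rw [this, map_one]
  · have h := b.2
    have h2 : (e.symm b.1) ^ m = 1 := by rw [← map_pow, h, map_one]
    have := congrArg Subtype.val h2
    simpa using this
  · intro y
    apply Subtype.ext
    simp
  · intro b
    apply Subtype.ext
    simp

/-- the centralizer of an element of order `3` or `5` of `N` has even order -/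
theorem even_card_centralizer (m : ℕ) (hm : m = 3 ∨ m = 5) (d : G) (hd : d ∈ N) (hdm : orderOf d = m) :
    2 ∣ Nat.card (Subgroup.centralizer ({d} : Set G)) := by
  classical
  by_contra hodd
  have hG := card_G N e hidx
  have hNc := card_N N e hidx
  have hmp : m.Prime := by rcases hm with rfl | rfl <;> norm_num
  have hdpow : d ^ m = 1 := by rw [← hdm]; exact pow_orderOf_eq_one d
  set C := Subgroup.centralizer ({d} : Set G) with hC
  have hdvd : Nat.card C ∣ 32 * 45 := by
    have : (32 * 45 : ℕ) = 1440 := by norm_num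
    rw [this, ← hG]; exact Subgroup.card_subgroup_dvd_card _
  have hcop : Nat.Coprime (Nat.card C) 32 := by
    have h2 : Nat.Coprime (Nat.card C) 2 := by
      rw [Nat.coprime_comm]; exact (Nat.Prime.coprime_iff_not_dvd Nat.prime_two).2 hodd
    have : (32 : ℕ) = 2 ^ 5 := by norm_num
    rw [this]; exact Nat.Coprime.pow_right 5 h2
  have h45 : Nat.card C ∣ 45 := hcop.dvd_of_dvd_mul_left hdvd
  -- `C ≤ N`
  have hCN : ∀ g ∈ C, g ∈ N := by
    intro g hg
    have h1 : g ^ 45 = 1 := by
      have hc : (⟨g, hg⟩ : C) ^ Nat.card C = 1 := pow_card_eq_one'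
      obtain ⟨t, ht⟩ := h45
      have h2 : (⟨g, hg⟩ : C) ^ 45 = 1 := by rw [ht, pow_mul, hc, one_pow]
      have := congrArg Subtype.val h2
      simpa using this
    have h4 : g ^ 4 ∈ N := by have := N.pow_index_mem g; rwa [hidx] at this
    have h136 : (g ^ 4) ^ 34 ∈ N := N.pow_mem h4 34
    have : (g ^ 4) ^ 34 = g := by
      rw [← pow_mul]
      have : g ^ (4 * 34) = (g ^ 45) ^ 3 * g := by rw [← pow_mul, ← pow_succ]
      rw [this, h1, one_pow, one_mul]
    rwa [this] at h136
  -- `C` is an `m`-group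
  have hCm : IsPGroup m C := by
    intro g
    refine ⟨1, ?_⟩
    have hc : Commute (g : G) d := by
      have h0 : (g : G) ∈ Subgroup.centralizer ({d} : Set G) := g.2
      rw [Subgroup.mem_centralizer_iff] at h0
      exact (h0 d rfl).symm
    have := pow_eq_one_of_commute N e m hm (g : G) d (hCN g g.2) hd hc hdm
    apply Subtype.ext
    simpa using this
  have : Fact m.Prime := ⟨hmp⟩
  obtain ⟨k, hk⟩ := IsPGroup.iff_card.1 hCm
  have hk45 : m ^ k ∣ 45 := hk ▸ h45
  have hC9 : Nat.card C ≤ 9 := by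
    rw [hk]
    rcases hm with rfl | rfl
    · have hk2 : k ≤ 2 := by
        by_contra h
        have h : 3 ≤ k := by omega
        have : 3 ^ 3 ∣ 45 := dvd_trans (pow_dvd_pow 3 h) hk45
        norm_num at this
      calc 3 ^ k ≤ 3 ^ 2 := Nat.pow_le_pow_right (by norm_num) hk2
        _ = 9 := by norm_num
    · have hk1 : k ≤ 1 := by
        by_contra h
        have h : 2 ≤ k := by omega
        have : 5 ^ 2 ∣ 45 := dvd_trans (pow_dvd_pow 5 h) hk45
        norm_num at this
      calc 5 ^ k ≤ 5 ^ 1 := Nat.pow_le_pow_right (by norm_num) hk1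
        _ ≤ 9 := by norm_num
  -- the class of `d`
  have hclass := card_class_mul_card_centralizer d
  have hle : Nat.card {y : G // IsConj d y} ≤ 145 := by
    have hinj : Nat.card {y : G // IsConj d y} ≤ Nat.card {y : G // y ∈ N ∧ y ^ m = 1} := by
      have hP : ∀ y : G, IsConj d y → y ∈ N ∧ y ^ m = 1 := by
        intro y hy
        obtain ⟨c, hc⟩ := isConj_iff.1 hy
        refine ⟨?_, ?_⟩
        · rw [← hc]; exact ‹N.Normal›.conj_mem d hd c
        · rw [← hc, conj_pow, hdpow, mul_one, mul_inv_cancel]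
      exact Nat.card_le_card_of_injective (Subtype.map id hP)
        (Subtype.map_injective hP Function.injective_id)
    refine le_trans hinj ?_
    rw [card_pow_eq_one N e m]
    rcases hm with rfl | rfl
    · rw [a6_card3]; norm_num
    · rw [a6_card5]
  rw [hG] at hclass
  have : Nat.card {y : G // IsConj d y} * Nat.card C ≤ 145 * 9 := Nat.mul_le_mul hle hC9
  rw [hclass] at this
  norm_num at this

end

/-- Let G be a finite group with a normal subgroup N of index 4 isomorphic to the alternating group of degree 6 and with trivial centralizer in G (so G is the full automorphism group of A₆). Then any two Sylow 2-subgroups of G have a non-trivial intersection: for a Sylow 2-subgroup H and every x ∈ G, H ∩ H^x ≠ 1. -/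
theorem result {G : Type*} [Group G] [Finite G] (N : Subgroup G) [N.Normal]
    (e : N ≃* alternatingGroup (Fin 6)) (hidx : N.index = 4)
    (hC : Subgroup.centralizer (N : Set G) = ⊥)
    (H : Sylow 2 G) (x : G) :
    (H : Subgroup G) ⊓ MulAut.conj x • (H : Subgroup G) ≠ ⊥ := by
  classical
  have _hC := hC
  have hG := card_G N e hidx
  have hP2 : IsPGroup 2 (H : Subgroup G) := H.isPGroup'
  -- `32 ∣ |P|`
  have h32 : 32 ∣ Nat.card (H : Subgroup G) := by
    have h1 := (H : Subgroup G).card_mul_index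
    rw [hG] at h1
    have h2 : ¬ 2 ∣ (H : Subgroup G).index := H.not_dvd_index
    have h3 : Nat.Coprime 32 (H : Subgroup G).index := by
      have : (32 : ℕ) = 2 ^ 5 := by norm_num
      rw [this]
      exact Nat.Coprime.pow_left 5 ((Nat.Prime.coprime_iff_not_dvd Nat.prime_two).2 h2)
    have h4 : 32 ∣ Nat.card (H : Subgroup G) * (H : Subgroup G).index := by
      rw [h1]; norm_num
    exact h3.dvd_of_dvd_mul_right h4
  -- `P ∩ N ≠ 1`
  have hPN : N.subgroupOf (H : Subgroup G) ≠ ⊥ := by
    intro hbot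
    have h1 := (N.subgroupOf (H : Subgroup G)).card_mul_index
    have h2 : (N.subgroupOf (H : Subgroup G)).index ∣ 4 := by
      have := Subgroup.relIndex_dvd_index_of_normal N (H : Subgroup G)
      rw [hidx] at this
      exact this
    rw [hbot, Subgroup.card_bot, one_mul] at h1
    rw [hbot, h1] at h2
    have := Nat.le_of_dvd (by norm_num) (dvd_trans h32 h2)
    omega
  -- a central element of `P` in `N`
  obtain ⟨w, hwN, hwc, hw1⟩ :=
    Cfsg.Agent.Lib.Helper32_PGroup.exists_mem_center_of_normal (p := 2) hP2 (N.subgroupOf (H : Subgroup G)) hPN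
  -- an involution among its powers
  obtain ⟨j, hj⟩ := (IsPGroup.iff_orderOf.1 hP2) w
  have hj0 : j ≠ 0 := by
    rintro rfl
    rw [pow_zero, orderOf_eq_one_iff] at hj
    exact hw1 hj
  obtain ⟨i, rfl⟩ : ∃ i, j = i + 1 := ⟨j - 1, by omega⟩
  have hz0 : orderOf (w ^ 2 ^ i) = 2 := by
    rw [orderOf_pow_of_dvd (by positivity) (by rw [hj]; exact pow_dvd_pow 2 (Nat.le_succ i)), hj, pow_succ,
      Nat.mul_div_cancel_left _ (by positivity)]
  set z : G := ((w ^ 2 ^ i : (H : Subgroup G)) : G) with hz
  have hzN : z ∈ N := by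
    have : w ^ 2 ^ i ∈ N.subgroupOf (H : Subgroup G) := Subgroup.pow_mem _ hwN _
    exact Subgroup.mem_subgroupOf.1 this
  have hz2 : orderOf z = 2 := by rw [hz, Subgroup.orderOf_coe]; exact hz0
  have hzc : ∀ g ∈ (H : Subgroup G), g * z = z * g := by
    intro g hg
    have hc : w ^ 2 ^ i ∈ Subgroup.center (H : Subgroup G) := Subgroup.pow_mem _ hwc _
    have h1 := Subgroup.mem_center_iff.1 hc ⟨g, hg⟩
    have h2 := congrArg Subtype.val h1
    rw [Subgroup.coe_mul, Subgroup.coe_mul] at h2
    exact h2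
  -- `C_G(z) = P`
  have hPle : (H : Subgroup G) ≤ Subgroup.centralizer ({z} : Set G) := by
    intro g hg
    rw [Subgroup.mem_centralizer_iff]
    intro h hh
    rw [Set.mem_singleton_iff] at hh
    rw [hh]
    exact (hzc g hg).symm
  have hCP : Subgroup.centralizer ({z} : Set G) = (H : Subgroup G) :=
    H.is_maximal' (isPGroup_centralizer N e hidx z hzN hz2) hPle
  -- the two involutions and their product
  have hzz : z * z = 1 := by rw [← pow_two, ← hz2]; exact pow_orderOf_eq_one z
  have hzinv : z⁻¹ = z := inv_eq_of_mul_eq_one_left hzz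
  have hz1 : z ≠ 1 := by
    intro h
    rw [h, orderOf_one] at hz2
    norm_num at hz2
  obtain ⟨z', hz'⟩ : ∃ z' : G, z' = x * z * x⁻¹ := ⟨_, rfl⟩
  have hz'N : z' ∈ N := by rw [hz']; exact ‹N.Normal›.conj_mem z hzN x
  have hz'z' : z' * z' = 1 := by
    rw [hz']
    have : x * z * x⁻¹ * (x * z * x⁻¹) = x * (z * z) * x⁻¹ := by group
    rw [this, hzz]; group
  have hz'inv : z'⁻¹ = z' := inv_eq_of_mul_eq_one_left hz'z'
  obtain ⟨d, hd⟩ : ∃ d : G, d = z * z' := ⟨_, rfl⟩
  have hdN : d ∈ N := by rw [hd]; exact N.mul_mem hzN hz'N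
  have hzd : z * d = z' := by rw [hd, ← mul_assoc, hzz, one_mul]
  have hdinv : d⁻¹ = z' * z := by rw [hd, mul_inv_rev, hzinv, hz'inv]
  have hconj : z * d * z⁻¹ = d⁻¹ := by rw [hzd, hzinv, hdinv]
  have hconjpow : ∀ k : ℕ, z * d ^ k * z⁻¹ = (d⁻¹) ^ k := by
    intro k
    rw [← hconj, conj_pow]
  -- reduction to finding a suitable element
  have key : ∀ u : G, u ≠ 1 → Commute u z → Commute u d →
      (H : Subgroup G) ⊓ MulAut.conj x • (H : Subgroup G) ≠ ⊥ := by
    intro u hu1 huz hud hbot
    have huz' : Commute u z' := by rw [← hzd]; exact huz.mul_right hud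
    have hm1 : u ∈ (H : Subgroup G) := by
      rw [← hCP, Subgroup.mem_centralizer_iff]
      intro h hh
      rw [Set.mem_singleton_iff] at hh
      rw [hh]; exact huz.eq.symm
    have hm2 : u ∈ MulAut.conj x • (H : Subgroup G) := by
      rw [Subgroup.mem_pointwise_smul_iff_inv_smul_mem, MulAut.smul_def, MulAut.conj_inv_apply,
        ← hCP, Subgroup.mem_centralizer_iff]
      intro h hh
      rw [Set.mem_singleton_iff] at hh
      rw [hh]
      have hz_eq : z = x⁻¹ * z' * x := by rw [hz']; group
      have h1 := huz'.eq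
      have e1 : x⁻¹ * u * x * (x⁻¹ * z' * x) = x⁻¹ * (u * z') * x := by group
      have e2 : x⁻¹ * z' * x * (x⁻¹ * u * x) = x⁻¹ * (z' * u) * x := by group
      rw [hz_eq, e1, e2, h1]
    have hmem : u ∈ (H : Subgroup G) ⊓ MulAut.conj x • (H : Subgroup G) := Subgroup.mem_inf.2 ⟨hm1, hm2⟩
    rw [hbot, Subgroup.mem_bot] at hmem
    exact hu1 hmem
  -- the odd case
  have odd_case : ∀ m : ℕ, (m = 3 ∨ m = 5) → orderOf d = m →
      (H : Subgroup G) ⊓ MulAut.conj x • (H : Subgroup G) ≠ ⊥ := by
    intro m hm hdm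
    have heven := even_card_centralizer N e hidx m hm d hdN hdm
    have hmemC : ∀ u : G, u ∈ Subgroup.centralizer ({d} : Set G) ↔ d * u = u * d := by
      intro u
      rw [Subgroup.mem_centralizer_iff]
      constructor
      · intro h; exact h d rfl
      · intro h g hg
        rw [Set.mem_singleton_iff] at hg
        rw [hg]; exact h
    have hd_eq : d = z * d⁻¹ * z⁻¹ := by
      have h := congrArg Inv.inv hconj
      rw [inv_inv] at h
      calc d = (z * d * z⁻¹)⁻¹ := h.symm
        _ = z * d⁻¹ * z⁻¹ := by group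
    have hstab : ∀ u : G, u ∈ Subgroup.centralizer ({d} : Set G) →
        z * u * z⁻¹ ∈ Subgroup.centralizer ({d} : Set G) := by
      intro u hu
      rw [hmemC] at hu ⊢
      have hu' : d⁻¹ * u = u * d⁻¹ := by
        have : Commute d u := hu
        exact this.inv_left.eq
      have e1 : z * d⁻¹ * z⁻¹ * (z * u * z⁻¹) = z * (d⁻¹ * u) * z⁻¹ := by group
      have e2 : z * u * z⁻¹ * (z * d⁻¹ * z⁻¹) = z * (u * d⁻¹) * z⁻¹ := by group
      rw [hd_eq, e1, e2, hu']
    let σ : Subgroup.centralizer ({d} : Set G) → Subgroup.centralizer ({d} : Set G) :=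
      fun u => ⟨z * u.1 * z⁻¹, hstab u.1 u.2⟩
    have hσσ : ∀ u, σ (σ u) = u := by
      intro u
      apply Subtype.ext
      show z * (z * u.1 * z⁻¹) * z⁻¹ = u.1
      have : z * (z * u.1 * z⁻¹) * z⁻¹ = (z * z) * u.1 * (z * z)⁻¹ := by group
      rw [this, hzz]; group
    have hσ1 : σ 1 = 1 := by
      apply Subtype.ext
      show z * (1 : G) * z⁻¹ = 1
      group
    obtain ⟨u, hu1, hfix⟩ := exists_fixed_of_even σ 1 hσσ hσ1 heven
    have hfix' : z * u.1 * z⁻¹ = u.1 := congrArg Subtype.val hfix
    refine key u.1 (fun h => hu1 (Subtype.ext h)) ?_ ?_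
    · have : z * u.1 = u.1 * z := by
        calc z * u.1 = z * u.1 * z⁻¹ * z := by group
          _ = u.1 * z := by rw [hfix']
      exact this.symm
    · exact ((hmemC u.1).1 u.2).symm
  by_cases hd1 : d = 1
  · exact key z hz1 (Commute.refl z) (by rw [hd1]; exact Commute.one_right z)
  have hd2case : d ^ 2 = 1 → (H : Subgroup G) ⊓ MulAut.conj x • (H : Subgroup G) ≠ ⊥ := by
    intro hd2
    refine key d hd1 ?_ (Commute.refl d)
    have h1 : d⁻¹ = d := by
      rw [pow_two] at hd2
      exact inv_eq_of_mul_eq_one_left hd2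
    have h2 : z * d = d * z := by
      calc z * d = z * d * z⁻¹ * z := by group
        _ = d * z := by rw [hconj, h1]
    exact h2.symm
  rcases pow_cases N e d hdN with h | h | h | h | h
  · exact absurd h hd1
  · exact hd2case h
  · haveI : Fact (Nat.Prime 3) := ⟨Nat.prime_three⟩
    exact odd_case 3 (Or.inl rfl) (orderOf_eq_prime h hd1)
  · by_cases hd2 : d ^ 2 = 1
    · exact hd2case hd2
    · refine key (d ^ 2) hd2 ?_ ((Commute.refl d).pow_left 2)
      have h1 : (d⁻¹) ^ 2 = d ^ 2 := by
        have : d ^ 2 * d ^ 2 = 1 := by rw [← pow_add]; exact h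
        rw [inv_pow]
        exact inv_eq_of_mul_eq_one_left this
      have h2 : z * d ^ 2 = d ^ 2 * z := by
        calc z * d ^ 2 = z * d ^ 2 * z⁻¹ * z := by group
          _ = d ^ 2 * z := by rw [hconjpow, h1]
      exact h2.symm
  · haveI : Fact (Nat.Prime 5) := ⟨Nat.prime_five⟩
    exact odd_case 5 (Or.inr rfl) (orderOf_eq_prime h hd1)

end Cfsg.Agent.S2488
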