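import Cfsg.Statements.S2495
import Cfsg.Agent.Lib.Helper99_SingerEmb
import Cfsg.Agent.Lib.Helper99_Singer
import Cfsg.Agent.Lib.Helper99_Zsigmondy

set_option autoImplicit false
open Cfsg

namespace Cfsg.Agent.S2495

open Matrix
open scoped MatrixGroups
open Cfsg.Agent.Lib.Helper99_SingerEmb Cfsg.Agent.Lib.Helper99_Singer

/-- `(q^m - 1)/(q - 1) ≡ m (mod q - 1)` -/
theorem geom_modEq (q m : ℕ) (hq : 2 ≤ q) : (q ^ m - 1) / (q - 1) ≡ m [MOD (q - 1)] := by
  rw [← Nat.geomSum_eq hq]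
  have h1 : q ≡ 1 [MOD (q - 1)] := by
    have : (q - 1) ∣ q - 1 := dvd_rfl
    exact ((Nat.modEq_iff_dvd' (by omega)).2 this).symm
  induction m with
  | zero => simp [Nat.ModEq]
  | succ m ih =>
    rw [Finset.sum_range_succ]
    have h2 : q ^ m ≡ 1 [MOD (q - 1)] := by
      have := h1.pow m
      rwa [one_pow] at this
    exact ih.add h2

/-- `gcd(2m, Q) ∣ m` iff the 2-part of `Q` is smaller than that of `2m` -/
theorem gcd_dvd_iff (m Q : ℕ) (hm : 0 < m) (hQ : 0 < Q) :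
    Nat.gcd (2 * m) Q ∣ m ↔ padicValNat 2 Q < padicValNat 2 (2 * m) := by
  have h2m : padicValNat 2 (2 * m) = padicValNat 2 m + 1 := by
    rw [padicValNat.mul (by norm_num) hm.ne', padicValNat.self (by norm_num), add_comm]
  constructor
  · intro h
    by_contra hlt
    push Not at hlt
    have h1 : 2 ^ padicValNat 2 (2 * m) ∣ 2 * m := pow_padicValNat_dvd
    have h2 : 2 ^ padicValNat 2 (2 * m) ∣ Q :=
      dvd_trans (pow_dvd_pow 2 hlt) pow_padicValNat_dvd
    have h3 : 2 ^ padicValNat 2 (2 * m) ∣ m := dvd_trans (Nat.dvd_gcd h1 h2) h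
    have h4 := (padicValNat_dvd_iff_le (p := 2) hm.ne').1 h3
    omega
  · intro hlt
    set D := Nat.gcd (2 * m) Q with hD
    have hDpos : 0 < D := Nat.gcd_pos_of_pos_right _ hQ
    obtain ⟨v, D', hD'odd, hDeq⟩ := Nat.exists_eq_two_pow_mul_odd hDpos.ne'
    have hD2m : D ∣ 2 * m := Nat.gcd_dvd_left _ _
    have hDQ : D ∣ Q := Nat.gcd_dvd_right _ _
    have h1 : D' ∣ m := by
      have : D' ∣ 2 * m := dvd_trans (hDeq ▸ dvd_mul_left D' (2 ^ v)) hD2m
      exact (Nat.Coprime.dvd_of_dvd_mul_left (Nat.Coprime.symm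
        (Nat.coprime_two_left.2 hD'odd)) this)
    have h2 : 2 ^ v ∣ Q := dvd_trans (hDeq ▸ dvd_mul_right (2 ^ v) D') hDQ
    have h3 : v ≤ padicValNat 2 Q := (padicValNat_dvd_iff_le (p := 2) hQ.ne').1 h2
    have h4 : 2 ^ v ∣ m := (padicValNat_dvd_iff_le (p := 2) hm.ne').2 (by omega)
    rw [hDeq]
    exact Nat.Coprime.mul_dvd_of_dvd_of_dvd
      (Nat.Coprime.pow_left v (Nat.coprime_two_left.2 hD'odd)) h4 h1


theorem arith_iff (N T dd h Q j : ℕ) (hT : 0 < T) (hdd : dd ∣ T) (hQ : Q = h * dd)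
    (hco : Nat.Coprime N h) (hdd0 : 0 < dd) :
    N * T ∣ Q * (T / dd) * j ↔ N ∣ j := by
  obtain ⟨t', rfl⟩ := hdd
  rw [Nat.mul_div_cancel_left _ hdd0, hQ]
  have h1 : h * dd * t' * j = (dd * t') * (h * j) := by ring
  rw [h1, mul_comm N (dd * t'), Nat.mul_dvd_mul_iff_left hT]
  constructor
  · intro h2
    exact hco.dvd_of_dvd_mul_left h2
  · intro h2
    exact Dvd.dvd.mul_left h2 h

/-- the arithmetic data for `q` odd and `n = 2m` -/
structure Data (q m : ℕ) where
  N : ℕ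
  T : ℕ
  M : ℕ
  hN : N = q ^ m + 1
  hT : (q - 1) * T = q ^ m - 1
  hM : (q - 1) * M = q ^ (2 * m) - 1
  hNT : M = N * T
  hTpos : 0 < T

theorem data (q m : ℕ) (hq : 2 ≤ q) (hm : 0 < m) : Nonempty (Data q m) := by
  have h1 := sub_one_mul_div q m
  have h2 := sub_one_mul_div q (2 * m)
  have hqm : 2 ≤ q ^ m := le_trans hq (Nat.le_self_pow hm.ne' q)
  have hT0 : 0 < (q ^ m - 1) / (q - 1) := by
    rcases Nat.eq_zero_or_pos ((q ^ m - 1) / (q - 1)) with h | h
    · rw [h, mul_zero] at h1; omega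
    · exact h
  refine ⟨⟨q ^ m + 1, (q ^ m - 1) / (q - 1), (q ^ (2 * m) - 1) / (q - 1), rfl, h1, h2, ?_, hT0⟩⟩
  have h3 : q ^ (2 * m) - 1 = (q ^ m + 1) * (q ^ m - 1) := by
    have : q ^ (2 * m) = q ^ m * q ^ m := by rw [two_mul, pow_add]
    rw [this]
    obtain ⟨z, hz⟩ : ∃ z, q ^ m = z + 1 := ⟨q ^ m - 1, by omega⟩
    rw [hz]
    simp only [Nat.add_sub_cancel]
    have : (z + 1) * (z + 1) = (z + 1 + 1) * z + 1 := by ring
    rw [this, Nat.add_sub_cancel]
  have h4 : (q - 1) * ((q ^ (2 * m) - 1) / (q - 1)) =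
      (q - 1) * ((q ^ m + 1) * ((q ^ m - 1) / (q - 1))) := by
    rw [h2, h3, mul_left_comm, h1]
  exact Nat.eq_of_mul_eq_mul_left (by omega) h4

/-- **Existence**: if the 2-part of `n` exceeds that of `q - 1` there is an element of order
`q^(n/2) + 1`. -/
theorem exists_of_lt {F : Type*} [Field F] [Fintype F] {q : ℕ} (hF : Fintype.card F = q)
    (hodd : Odd q) {n : ℕ} (hn : 4 ≤ n) (heven : Even n)
    (hlt : padicValNat 2 (q - 1) < padicValNat 2 n) :
    ∃ g : PSL(n, F), orderOf g = q ^ (n / 2) + 1 := by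
  classical
  obtain ⟨m, hm⟩ := heven
  have hn2 : n = 2 * m := by omega
  subst hn2
  have hm2 : 2 ≤ m := by omega
  have hdiv : 2 * m / 2 = m := by omega
  rw [hdiv]
  have hq2 : 2 ≤ q := by rw [← hF]; exact Fintype.one_lt_card
  have hq3 : 3 ≤ q := by
    obtain ⟨z, hz⟩ := hodd
    omega
  obtain ⟨D⟩ := data q m hq2 (by omega)
  obtain ⟨N, T, M, hN, hT, hM, hNT, hTpos⟩ := D
  set dd := Nat.gcd (2 * m) (q - 1) with hdd
  have hddpos : 0 < dd := Nat.gcd_pos_of_pos_right _ (by omega)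
  have hddm : dd ∣ m := (gcd_dvd_iff m (q - 1) (by omega) (by omega)).2 hlt
  have hddQ : dd ∣ q - 1 := Nat.gcd_dvd_right _ _
  have hTdiv : T = (q ^ m - 1) / (q - 1) := by
    rw [← hT, Nat.mul_div_cancel_left _ (by omega)]
  have hddT : dd ∣ T := by
    rw [hTdiv]
    exact ((geom_modEq q m hq2).dvd_iff hddQ).2 hddm
  obtain ⟨h, hh⟩ := hddQ
  have hQ : q - 1 = h * dd := by rw [hh, mul_comm]
  -- `N` is prime to `h`
  have hco : Nat.Coprime N h := by
    have he2 : Nat.gcd N h ∣ 2 := by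
      have e1 : Nat.gcd N h ∣ N := Nat.gcd_dvd_left _ _
      have e2 : Nat.gcd N h ∣ q ^ m - 1 := by
        refine dvd_trans (Nat.gcd_dvd_right _ _) ?_
        refine dvd_trans (Dvd.intro dd hQ.symm) ?_
        exact Dvd.intro _ hT
      have hqm : 1 ≤ q ^ m := Nat.one_le_pow _ _ (by omega)
      have : N - (q ^ m - 1) = 2 := by rw [hN]; omega
      rw [← this]
      exact Nat.dvd_sub e1 e2
    have hle : Nat.gcd N h ≤ 2 := Nat.le_of_dvd (by norm_num) he2
    have hpos : 0 < Nat.gcd N h := Nat.gcd_pos_of_pos_left _ (by rw [hN]; omega)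
    rcases (by omega : Nat.gcd N h = 1 ∨ Nat.gcd N h = 2) with h1 | h2'
    · exact h1
    · exfalso
      have h2h : 2 ∣ h := by rw [← h2']; exact Nat.gcd_dvd_right _ _
      set a := padicValNat 2 (q - 1) with ha
      have hpa : 2 ^ a ∣ q - 1 := pow_padicValNat_dvd
      have hpn : 2 ^ a ∣ 2 * m := dvd_trans (pow_dvd_pow 2 hlt.le) pow_padicValNat_dvd
      have hpd : 2 ^ a ∣ dd := Nat.dvd_gcd hpn hpa
      have : 2 ^ (a + 1) ∣ q - 1 := by
        rw [hQ, pow_succ, mul_comm (2 ^ a) 2]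
        exact Nat.mul_dvd_mul h2h hpd
      have := (padicValNat_dvd_iff_le (p := 2) (by omega : q - 1 ≠ 0)).1 this
      omega
  obtain ⟨S, -, hS2, hS3⟩ := exists_singer (F := F) (2 * m) (by omega)
  rw [hF] at hS2 hS3
  have hMdiv : (q ^ (2 * m) - 1) / (q - 1) = M := by
    rw [← hM, Nat.mul_div_cancel_left _ (by omega)]
  rw [hMdiv] at hS3
  have hdet : (S ^ ((q - 1) * (T / dd))).det = 1 := (hS2 _).2 (dvd_mul_right _ _)
  set G : SL(2 * m, F) := ⟨S ^ ((q - 1) * (T / dd)), hdet⟩ with hG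
  refine ⟨QuotientGroup.mk G, ?_⟩
  rw [← hN]
  apply orderOf_mk_eq
  intro j
  have hpow : (G ^ j : SL(2 * m, F)).1 = S ^ ((q - 1) * (T / dd) * j) := by
    rw [Matrix.SpecialLinearGroup.coe_pow, pow_mul]
  rw [hpow, hS3, hNT]
  exact arith_iff N T dd h (q - 1) j hTpos hddT hQ hco hddpos

/-- **Necessity**: an element of order `q^(n/2) + 1` forces the 2-part of `n` to exceed that of
`q - 1`. -/
theorem lt_of_exists {F : Type*} [Field F] [Fintype F] {q : ℕ} (hF : Fintype.card F = q)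
    (hodd : Odd q) {n : ℕ} (hn : 4 ≤ n) (heven : Even n)
    (g : PSL(n, F)) (hg : orderOf g = q ^ (n / 2) + 1) :
    padicValNat 2 (q - 1) < padicValNat 2 n := by
  classical
  obtain ⟨m, hm⟩ := heven
  have hn2 : n = 2 * m := by omega
  subst hn2
  have hm2 : 2 ≤ m := by omega
  have hdiv : 2 * m / 2 = m := by omega
  rw [hdiv] at hg
  have hq2 : 2 ≤ q := by rw [← hF]; exact Fintype.one_lt_card
  have hq3 : 3 ≤ q := by
    obtain ⟨z, hz⟩ := hodd
    omega
  obtain ⟨D⟩ := data q m hq2 (by omega)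
  obtain ⟨N, T, M, hN, hT, hM, hNT, hTpos⟩ := D
  rw [← hN] at hg
  have hNpos : 0 < N := by rw [hN]; omega
  have hMdiv : (q ^ (2 * m) - 1) / (q - 1) = M := by
    rw [← hM, Nat.mul_div_cancel_left _ (by omega)]
  -- a primitive prime divisor of `q^(2m) - 1`
  obtain ⟨r, hr, hrdvd, hrmin⟩ := Cfsg.Agent.Lib.Helper99_Zsigmondy.zsigmondy q (2 * m)
    (by omega) (by omega)
    (by
      rintro ⟨rfl, -⟩
      obtain ⟨z, hz⟩ := hodd
      omega)
    (by rintro ⟨h, -⟩; omega)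
  have : Fact r.Prime := ⟨hr⟩
  have hq1 : 1 ≤ q := by omega
  have hord : orderOf ((q : ℕ) : ZMod r) = 2 * m := by
    have h1 : ((q : ℕ) : ZMod r) ^ (2 * m) = 1 :=
      (Cfsg.Agent.Lib.Helper99_Zsigmondy.dvd_pow_sub_one_iff hq1).1 hrdvd
    have hd := orderOf_dvd_of_pow_eq_one h1
    by_contra hne
    have hpos : 0 < orderOf ((q : ℕ) : ZMod r) :=
      orderOf_pos_iff.2 (isOfFinOrder_iff_pow_eq_one.2 ⟨2 * m, by omega, h1⟩)
    have hlt : orderOf ((q : ℕ) : ZMod r) < 2 * m :=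
      lt_of_le_of_ne (Nat.le_of_dvd (by omega) hd) hne
    exact hrmin _ hpos hlt
      ((Cfsg.Agent.Lib.Helper99_Zsigmondy.dvd_pow_sub_one_iff hq1).2 (pow_orderOf_eq_one _))
  have hrq1 : ¬ r ∣ q - 1 := by
    have := hrmin 1 one_pos (by omega)
    simpa using this
  have hrN : r ∣ N := by
    have h1 : q ^ (2 * m) - 1 = N * (q ^ m - 1) := by
      rw [← hM, hNT, ← hT]; ring
    rw [h1] at hrdvd
    rcases (Nat.Prime.dvd_mul hr).1 hrdvd with h | h
    · exact h
    · exact absurd h (hrmin m (by omega) (by omega))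
  -- lift
  obtain ⟨g', rfl⟩ := QuotientGroup.mk_surjective g
  set Mg : Matrix (Fin (2 * m)) (Fin (2 * m)) F := (g' : Matrix (Fin (2 * m)) (Fin (2 * m)) F) with hMg
  have hpow : ∀ j : ℕ, ((g' ^ j : SL(2 * m, F)) : Matrix (Fin (2 * m)) (Fin (2 * m)) F) = Mg ^ j :=
    fun j => Matrix.SpecialLinearGroup.coe_pow g' j
  have h1 : (QuotientGroup.mk g' : PSL(2 * m, F)) ^ N = 1 := by
    rw [← hg]; exact pow_orderOf_eq_one _
  rw [mk_pow_eq_one_iff, hpow] at h1
  obtain ⟨c, hc⟩ := h1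
  have hne : Nonempty (Fin (2 * m)) := ⟨⟨0, by omega⟩⟩
  have hc0 : c ≠ 0 := by
    rintro rfl
    have hdet : (Mg ^ N).det = 1 := by rw [Matrix.det_pow, hMg, g'.2, one_pow]
    rw [hc, zero_smul, Matrix.det_zero] at hdet
    exact zero_ne_one hdet
  have hcq : c ^ (q - 1) = 1 := by
    rw [← hF]; exact FiniteField.pow_card_sub_one_eq_one c hc0
  obtain ⟨e, he⟩ := hrN
  have he0 : 0 < e := by
    rcases Nat.eq_zero_or_pos e with h | h
    · rw [h, mul_zero] at he; omega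
    · exact h
  set Y := Mg ^ ((q - 1) * e) with hY
  have hYr : Y ^ r = 1 := by
    rw [hY, ← pow_mul]
    have : (q - 1) * e * r = N * (q - 1) := by rw [he]; ring
    rw [this, pow_mul, hc, smul_pow, one_pow, hcq, one_smul]
  have hY1 : Y ≠ 1 := by
    intro h
    have h2 : (QuotientGroup.mk g' : PSL(2 * m, F)) ^ ((q - 1) * e) = 1 := by
      rw [mk_pow_eq_one_iff, hpow]
      exact ⟨1, by rw [one_smul]; exact h⟩
    have h3 := orderOf_dvd_of_pow_eq_one h2
    rw [hg, he, mul_comm (q - 1) e, mul_comm r e] at h3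
    exact hrq1 ((Nat.mul_dvd_mul_iff_left he0).1 h3)
  -- pass to endomorphisms
  set Ty : Module.End F (Fin (2 * m) → F) := Matrix.toLinAlgEquiv' Y with hTy
  set Tg : Module.End F (Fin (2 * m) → F) := Matrix.toLinAlgEquiv' Mg with hTg
  have hTyr : Ty ^ r = 1 := by rw [hTy, ← map_pow, hYr, map_one]
  have hTy1 : Ty ≠ 1 := fun h => hY1 (Matrix.toLinAlgEquiv'.injective (h.trans (map_one _).symm))
  have hfr : Module.finrank F (Fin (2 * m) → F) = 2 * m := Module.finrank_fin_fun F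
  have hirr : ∀ W : Submodule F (Fin (2 * m) → F), (∀ w ∈ W, Ty w ∈ W) → W ≠ ⊥ → W = ⊤ :=
    irreducible_of_ppd Ty hr hTyr hTy1 (by rw [hF, hord, hfr])
  have hTgC : Tg ∈ centAlg Ty := by
    rw [mem_centAlg, hTy, hTg, ← map_mul, ← map_mul, hY]
    congr 1
    exact ((Commute.refl Mg).pow_left _).eq
  set v₀ : Fin (2 * m) → F := Pi.single ⟨0, by omega⟩ 1 with hv₀def
  have hv₀ : v₀ ≠ 0 := by
    intro h
    have := congrFun h ⟨0, by omega⟩
    simp [hv₀def] at this
  obtain ⟨hcomm, hinj, hsurj⟩ := centAlg_structure Ty hirr v₀ hv₀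
  obtain ⟨p, hp⟩ := CharP.exists F
  have : Fact p.Prime := ⟨CharP.char_is_prime F p⟩
  have : NeZero (2 * m) := ⟨by omega⟩
  have hrankE : Module.finrank F (FiniteField.Extension F p (2 * m)) = 2 * m :=
    FiniteField.finrank_extension F p (2 * m)
  obtain ⟨ψ, hψ⟩ := exists_algHom_to_centAlg Ty hirr v₀ hv₀ hcomm hinj hsurj
    (K := FiniteField.Extension F p (2 * m)) (by rw [hrankE, hfr])
  -- evaluation at `v₀` identifies the extension field with the space
  set θ : FiniteField.Extension F p (2 * m) →ₗ[F] (Fin (2 * m) → F) :=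
    (evLin v₀).comp ψ.toLinearMap with hθ
  have hθapp : ∀ y, θ y = ψ y v₀ := fun y => rfl
  have hψinj : Function.Injective ψ := by
    have hnt : Nontrivial (Module.End F (Fin (2 * m) → F)) := by
      refine ⟨⟨0, 1, ?_⟩⟩
      intro h
      have := LinearMap.congr_fun h v₀
      simp only [LinearMap.zero_apply, Module.End.one_apply] at this
      exact hv₀ this.symm
    exact ψ.toRingHom.injective
  have hθinj : Function.Injective θ := by
    rw [← LinearMap.ker_eq_bot, LinearMap.ker_eq_bot']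
    intro y hy
    rw [hθapp] at hy
    have := hinj _ (hψ y) hy
    exact hψinj (this.trans (map_zero ψ).symm)
  have hθsurj : Function.Surjective θ :=
    (LinearMap.injective_iff_surjective_of_finrank_eq_finrank (by rw [hrankE, hfr])).1 hθinj
  obtain ⟨x, hx⟩ := hθsurj (Tg v₀)
  have hψx : ψ x = Tg := by
    have h0 : (Tg - ψ x) v₀ = 0 := by
      rw [LinearMap.sub_apply, ← hθapp, hx, sub_self]
    have := hinj _ ((centAlg Ty).sub_mem hTgC (hψ x)) h0
    exact (sub_eq_zero.1 this).symm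
  set θe : FiniteField.Extension F p (2 * m) ≃ₗ[F] (Fin (2 * m) → F) :=
    LinearEquiv.ofBijective θ ⟨hθinj, hθsurj⟩ with hθe
  have hconj : ψ x = θe.conj (Algebra.lmul F (FiniteField.Extension F p (2 * m)) x) := by
    apply LinearMap.ext
    intro v
    obtain ⟨y, rfl⟩ := hθsurj v
    rw [LinearEquiv.conj_apply]
    simp only [LinearMap.comp_apply, LinearEquiv.coe_coe]
    have h1 : θe.symm (θ y) = y := by
      apply θe.injective
      rw [LinearEquiv.apply_symm_apply]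
      rfl
    rw [h1]
    change ψ x (ψ y v₀) = ψ (x * y) v₀
    rw [map_mul]
    rfl
  have hnorm : Algebra.norm F x = 1 := by
    have hdet : LinearMap.det (ψ x) =
        LinearMap.det (Algebra.lmul F (FiniteField.Extension F p (2 * m)) x) := by
      rw [hconj, LinearEquiv.conj_apply, LinearMap.comp_assoc]
      exact LinearMap.det_conj _ θe
    rw [Algebra.norm_apply, ← hdet, hψx]
    change LinearMap.det (Matrix.toLin' Mg) = 1
    rw [LinearMap.det_toLin', hMg]
    exact g'.2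
  have hxM : x ^ M = 1 := by
    have := FiniteField.algebraMap_norm_eq_pow (K := F) (K' := FiniteField.Extension F p (2 * m))
      (x := x)
    rw [hnorm, map_one, FiniteField.natCard_extension, Nat.card_eq_fintype_card, hF, hMdiv] at this
    exact this.symm
  -- `gcd(n, q-1)` divides `M`
  set dd := Nat.gcd (2 * m) (q - 1) with hdd
  have hddQ : dd ∣ q - 1 := Nat.gcd_dvd_right _ _
  have hddM : dd ∣ M := by
    rw [← hMdiv]
    exact ((geom_modEq q (2 * m) hq2).dvd_iff hddQ).2 (Nat.gcd_dvd_left _ _)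
  obtain ⟨M', hM'⟩ := hddM
  have hx'dd : (x ^ M') ^ dd = 1 := by rw [← pow_mul, mul_comm M' dd, ← hM', hxM]
  have hx'Q : (x ^ M') ^ (q - 1) = 1 := by
    obtain ⟨u, hu⟩ := hddQ
    rw [hu, pow_mul, hx'dd, one_pow]
  have hx'q : (x ^ M') ^ Fintype.card F = x ^ M' := by
    have : Fintype.card F = (q - 1) + 1 := by rw [hF]; omega
    rw [this, pow_succ, hx'Q, one_mul]
  obtain ⟨c', hc'⟩ := (mem_range_iff_pow_card (F := F) (x ^ M')).2 hx'q
  have hMgM' : Mg ^ M' = c' • (1 : Matrix (Fin (2 * m)) (Fin (2 * m)) F) := by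
    apply Matrix.toLinAlgEquiv'.injective
    rw [map_pow, ← hTg, ← hψx, ← map_pow, ← hc', AlgHom.commutes, Algebra.algebraMap_eq_smul_one,
      map_smul, map_one]
  have hNM' : N ∣ M' := by
    have h2 : (QuotientGroup.mk g' : PSL(2 * m, F)) ^ M' = 1 := by
      rw [mk_pow_eq_one_iff, hpow]
      exact ⟨c', hMgM'⟩
    rw [← hg]
    exact orderOf_dvd_of_pow_eq_one h2
  obtain ⟨k', hk'⟩ := hNM'
  have hTk : T = dd * k' := by
    have : N * T = N * (dd * k') := by
      rw [← hNT, hM', hk']; ring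
    exact Nat.eq_of_mul_eq_mul_left hNpos this
  have hddT : dd ∣ T := ⟨k', hTk⟩
  have hTdiv : T = (q ^ m - 1) / (q - 1) := by
    rw [← hT, Nat.mul_div_cancel_left _ (by omega)]
  have hddm : dd ∣ m := by
    rw [hTdiv] at hddT
    exact ((geom_modEq q m hq2).dvd_iff hddQ).1 hddT
  exact (gcd_dvd_iff m (q - 1) (by omega) (by omega)).1 hddm

/-- Let q be an odd prime power, n ≥ 4 even, and L = PSL(n,q). Then L has an element of order q^(n/2) + 1 if and only if the 2-part of n exceeds the 2-part of q − 1. -/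
theorem result {F : Type*} [Field F] [Fintype F] {q : ℕ} (hF : Fintype.card F = q) (hodd : Odd q)
    {n : ℕ} (hn : 4 ≤ n) (heven : Even n) :
    (∃ g : Matrix.ProjectiveSpecialLinearGroup (Fin n) F, orderOf g = q ^ (n / 2) + 1) ↔
      padicValNat 2 (q - 1) < padicValNat 2 n := by
  constructor
  · rintro ⟨g, hg⟩
    exact lt_of_exists hF hodd hn heven g hg
  · intro h
    exact exists_of_lt hF hodd hn heven h

end Cfsg.Agent.S2495
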