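import Cfsg.Statements.S2496
import Cfsg.Agent.Lib.Helper42_S2496Fwd
import Cfsg.Agent.Lib.Helper99_S2496_EX

set_option autoImplicit false
open Cfsg

namespace Cfsg.Agent.S2496

/-- Let q be an odd prime power, n ≥ 4 even, and U = PSU(n,q) (realised over the field with q² elements). Then U has an element of order q^(n/2) + (−1)^(n/2) — that is, q^(n/2) + 1 when n/2 is even and q^(n/2) − 1 when n/2 is odd — if and only if the 2-part of n exceeds the 2-part of q + 1. -/
theorem result {F : Type*} [Field F] [Fintype F] {q : ℕ} (hF : Fintype.card F = q ^ 2) (hodd : Odd q)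
    {n : ℕ} (hn : 4 ≤ n) (heven : Even n) :
    (∃ g : Cfsg.PSU n F q, orderOf g = if Even (n / 2) then q ^ (n / 2) + 1 else q ^ (n / 2) - 1) ↔
      padicValNat 2 (q + 1) < padicValNat 2 n := by
  obtain ⟨m, rfl⟩ := heven
  have hm : 2 ≤ m := by omega
  have hdiv : (m + m) / 2 = m := by omega
  rw [hdiv]
  constructor
  · rintro ⟨g, hg⟩
    exact Cfsg.Agent.Lib.Helper42_S2496Fwd.forward hF hodd hm g hg
  · intro hlt
    by_cases hme : Even m
    · rw [if_pos hme]
      exact Cfsg.Agent.Lib.Helper99_S2496_EX.EX hF hodd hm hme hlt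
    · exfalso
      have h2m : m + m = 2 * m := by ring
      have hmodd : ¬ 2 ∣ m := fun h => hme (even_iff_two_dvd.2 h)
      have h1 : padicValNat 2 (m + m) = 1 := by
        rw [h2m, padicValNat.mul (by norm_num) (by omega), padicValNat.self (by norm_num),
          padicValNat.eq_zero_of_not_dvd hmodd]
      have h2 : 1 ≤ padicValNat 2 (q + 1) := by
        apply one_le_padicValNat_of_dvd (by omega)
        obtain ⟨z, hz⟩ := hodd
        exact ⟨z + 1, by omega⟩
      omega

end Cfsg.Agent.S2496
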