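import Cfsg.Statements.S2503
-- import your own Cfsg.Agent.* helpers here

import Cfsg.Agent.Lib.Helper42_ABA

set_option autoImplicit false
open Cfsg

namespace Cfsg.Agent.S2503

open Cfsg.Agent.Lib.Helper42_SL2Class Cfsg.Agent.Lib.Helper42_ABA in
/-- Let F be a finite field with q = 2^t ≥ 4 elements and L = PSL(2,F). Then L has a cyclic subgroup A of order q + 1 and an elementary abelian 2-subgroup B of order q such that L = ABA: every element of L is a product a·b·a' with a, a' ∈ A and b ∈ B. -/
theorem result {F : Type*} [Field F] [Fintype F]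
    (h2 : 2 ∣ Fintype.card F) (h4 : 4 ≤ Fintype.card F) :
    ∃ A B : Subgroup (Matrix.ProjectiveSpecialLinearGroup (Fin 2) F),
      IsCyclic A ∧ Nat.card A = Fintype.card F + 1 ∧ IsMulCommutative B ∧ (∀ b ∈ B, b * b = 1) ∧
        Nat.card B = Fintype.card F ∧
        ∀ g : Matrix.ProjectiveSpecialLinearGroup (Fin 2) F, ∃ a ∈ A, ∃ b ∈ B, ∃ c ∈ A, g = a * b * c := by
  classical
  have hchar : ringChar F = 2 := FiniteField.even_card_iff_char_two.mpr (by omega)
  have h2F : (2 : F) = 0 := by
    have : CharP F 2 := ringChar.of_eq hchar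
    exact CharTwo.two_eq_zero
  have hsq : ∀ a : F, IsSquare a := FiniteField.isSquare_of_char_two hchar
  obtain ⟨τ, hR⟩ := exists_R_eq_zero (F := F)
  have hτ : ∀ r : F, r * (τ - r) - 1 ≠ 0 := fun r hr => by
    have := R_pos τ r hr
    omega
  have hinj : Function.Injective (proj (F := F)) := by
    intro u u' h
    rcases (proj_eq_iff u u').mp h with h | h
    · exact h.symm
    · rw [h]
      apply Subtype.ext
      rw [negS_coe]
      have : (-1 : F) = 1 := by linear_combination (-1 : F) * h2F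
      calc u.1 = (1 : F) • u.1 := (one_smul _ _).symm
        _ = (-1 : F) • u.1 := by rw [this]
        _ = -u.1 := neg_one_smul _ _
  have hinj' : Function.Injective (proj.comp (uHom (F := F))) := by
    intro x y h
    exact uHom_injective (hinj h)
  have hcyc : IsCyclic (Subgroup.centralizer
      ({compS τ} : Set (Matrix.SpecialLinearGroup (Fin 2) F))) := isCyclic_torus h2F τ hτ
  refine ⟨(Subgroup.centralizer ({compS τ} : Set (Matrix.SpecialLinearGroup (Fin 2) F))).map proj,
    (proj.comp (uHom (F := F))).range, ?_, ?_, ?_, ?_, ?_, ?_⟩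
  · exact isCyclic_of_surjective (proj.subgroupMap _) (proj.subgroupMap_surjective _)
  · rw [Subgroup.card_map_of_injective hinj, card_torus h2F τ hτ]
  · refine ⟨⟨?_⟩⟩
    rintro ⟨_, ⟨x, rfl⟩⟩ ⟨_, ⟨y, rfl⟩⟩
    apply Subtype.ext
    change (proj.comp uHom) x * (proj.comp uHom) y = (proj.comp uHom) y * (proj.comp uHom) x
    rw [← map_mul, ← map_mul, mul_comm]
  · rintro _ ⟨x, rfl⟩
    change proj (uHom x) * proj (uHom x) = 1
    rw [← map_mul, uHom_mul_self h2F, map_one]
  · rw [← Nat.card_congr (MonoidHom.ofInjective hinj').toEquiv, Nat.card_eq_fintype_card,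
      Fintype.card_multiplicative]
  · intro g
    obtain ⟨g', rfl⟩ := proj_surjective g
    obtain ⟨a₁, ha₁, x, a₂, ha₂, hg⟩ := aba h2F hsq τ hτ g'
    refine ⟨proj a₁, Subgroup.mem_map_of_mem _ ha₁, proj (uHom x), ⟨x, rfl⟩, proj a₂,
      Subgroup.mem_map_of_mem _ ha₂, ?_⟩
    rw [hg, map_mul, map_mul]

end Cfsg.Agent.S2503
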