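import Cfsg.Statements.S2507
import Cfsg.Agent.Lib.Helper42_SL2Class2

set_option autoImplicit false
open Cfsg

namespace Cfsg.Agent.S2507

open Cfsg.Agent.Lib.Helper42_SL2Class in
/-- Let F be a finite field with q = 2^f ≥ 4 elements. The conjugacy class sizes of PSL(2,F) are exactly 1, q(q − 1), q² − 1 and q(q + 1). -/
theorem result {F : Type*} [Field F] [Fintype F]
    (h2 : 2 ∣ Fintype.card F) (h4 : 4 ≤ Fintype.card F) :
    Set.range (fun g : (Matrix.ProjectiveSpecialLinearGroup (Fin 2) F) => (Subgroup.centralizer ({g} : Set (Matrix.ProjectiveSpecialLinearGroup (Fin 2) F))).index) =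
      {1, Fintype.card F * (Fintype.card F - 1), Fintype.card F ^ 2 - 1, Fintype.card F * (Fintype.card F + 1)} := by
  classical
  have h2F : (2 : F) = 0 := by
    have hc : ringChar F = 2 := FiniteField.even_card_iff_char_two.mpr (by omega)
    have : CharP F 2 := ringChar.of_eq hc
    exact CharTwo.two_eq_zero
  ext n
  simp only [Set.mem_range, Set.mem_insert_iff, Set.mem_singleton_iff]
  constructor
  · rintro ⟨g, rfl⟩
    obtain ⟨g', rfl⟩ := proj_surjective g
    rcases index_cases_char_two h2F g' with h | h | h | h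
    · exact Or.inl h
    · exact Or.inr (Or.inr (Or.inl h))
    · exact Or.inr (Or.inl h)
    · exact Or.inr (Or.inr (Or.inr h))
  · rintro (rfl | rfl | rfl | rfl)
    · obtain ⟨g, hg⟩ := exists_index_one (F := F); exact ⟨proj g, hg⟩
    · obtain ⟨g, hg⟩ := exists_nonsplit_char_two h2F; exact ⟨proj g, hg⟩
    · obtain ⟨g, hg⟩ := exists_unip_char_two h2F; exact ⟨proj g, hg⟩
    · obtain ⟨g, hg⟩ := exists_split_char_two h2F h4; exact ⟨proj g, hg⟩

end Cfsg.Agent.S2507
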