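import Cfsg.Statements.S2508
import Cfsg.Agent.Lib.Helper42_SL2Class2

set_option autoImplicit false
open Cfsg

namespace Cfsg.Agent.S2508

open Cfsg.Agent.Lib.Helper42_SL2Class in
/-- Let F be a finite field with q elements, q odd and q ≥ 7. If q ≡ 1 (mod 4) the conjugacy class sizes of PSL(2,F) are exactly 1, (q² − 1)/2, q(q + 1)/2, q(q − 1) and q(q + 1); if q ≡ 3 (mod 4) they are exactly 1, (q² − 1)/2, q(q − 1)/2, q(q + 1) and q(q − 1). -/
theorem result {F : Type*} [Field F] [Fintype F]
    (hodd : ¬ 2 ∣ Fintype.card F) (h7 : 7 ≤ Fintype.card F) :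
    (Fintype.card F % 4 = 1 →
      Set.range (fun g : (Matrix.ProjectiveSpecialLinearGroup (Fin 2) F) => (Subgroup.centralizer ({g} : Set (Matrix.ProjectiveSpecialLinearGroup (Fin 2) F))).index) =
        {1, (Fintype.card F ^ 2 - 1) / 2, Fintype.card F * (Fintype.card F + 1) / 2,
          Fintype.card F * (Fintype.card F - 1), Fintype.card F * (Fintype.card F + 1)}) ∧
    (Fintype.card F % 4 = 3 →
      Set.range (fun g : (Matrix.ProjectiveSpecialLinearGroup (Fin 2) F) => (Subgroup.centralizer ({g} : Set (Matrix.ProjectiveSpecialLinearGroup (Fin 2) F))).index) =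
        {1, (Fintype.card F ^ 2 - 1) / 2, Fintype.card F * (Fintype.card F - 1) / 2,
          Fintype.card F * (Fintype.card F + 1), Fintype.card F * (Fintype.card F - 1)}) := by
  classical
  have h2F : (2 : F) ≠ 0 := by
    apply Ring.two_ne_zero
    intro hc
    have := FiniteField.even_card_iff_char_two.mp hc
    omega
  constructor
  · intro h1
    have hsq : IsSquare (-1 : F) := FiniteField.isSquare_neg_one_iff.mpr (by omega)
    have hR : R (0 : F) = 2 := R_zero_of_isSquare h2F hsq
    have hR' : Fintype.card F * (Fintype.card F - 1) + Fintype.card F * R (0 : F) =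
        Fintype.card F * (Fintype.card F + 1) := by
      rw [hR, ← Nat.mul_add]; congr 1; omega
    ext n
    simp only [Set.mem_range, Set.mem_insert_iff, Set.mem_singleton_iff]
    constructor
    · rintro ⟨g, rfl⟩
      obtain ⟨g', rfl⟩ := proj_surjective g
      rcases index_cases_odd h2F g' with h | h | h | h | h
      · exact Or.inl h
      · right; left; omega
      · right; right; left; rw [hR'] at h; omega
      · right; right; right; left; exact h
      · right; right; right; right; exact h
    · rintro (rfl | rfl | rfl | rfl | rfl)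
      · obtain ⟨g, hg⟩ := exists_index_one (F := F); exact ⟨proj g, hg⟩
      · obtain ⟨g, hg⟩ := exists_unip_odd h2F; exact ⟨proj g, by omega⟩
      · obtain ⟨g, hg⟩ := exists_trace_zero_odd h2F; rw [hR'] at hg; exact ⟨proj g, by omega⟩
      · obtain ⟨g, hg⟩ := exists_nonsplit_odd h7; exact ⟨proj g, hg⟩
      · obtain ⟨g, hg⟩ := exists_split_odd h7; exact ⟨proj g, hg⟩
  · intro h3
    have hsq : ¬ IsSquare (-1 : F) := fun h => FiniteField.isSquare_neg_one_iff.mp h h3
    have hR : R (0 : F) = 0 := R_zero_of_not_isSquare hsq
    have hR' : Fintype.card F * (Fintype.card F - 1) + Fintype.card F * R (0 : F) =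
        Fintype.card F * (Fintype.card F - 1) := by
      rw [hR]; simp
    ext n
    simp only [Set.mem_range, Set.mem_insert_iff, Set.mem_singleton_iff]
    constructor
    · rintro ⟨g, rfl⟩
      obtain ⟨g', rfl⟩ := proj_surjective g
      rcases index_cases_odd h2F g' with h | h | h | h | h
      · exact Or.inl h
      · right; left; omega
      · right; right; left; rw [hR'] at h; omega
      · right; right; right; right; exact h
      · right; right; right; left; exact h
    · rintro (rfl | rfl | rfl | rfl | rfl)
      · obtain ⟨g, hg⟩ := exists_index_one (F := F); exact ⟨proj g, hg⟩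
      · obtain ⟨g, hg⟩ := exists_unip_odd h2F; exact ⟨proj g, by omega⟩
      · obtain ⟨g, hg⟩ := exists_trace_zero_odd h2F; rw [hR'] at hg; exact ⟨proj g, by omega⟩
      · obtain ⟨g, hg⟩ := exists_split_odd h7; exact ⟨proj g, hg⟩
      · obtain ⟨g, hg⟩ := exists_nonsplit_odd h7; exact ⟨proj g, hg⟩

end Cfsg.Agent.S2508
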