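import Mathlib
import Cfsg.Statements.S2512
import Cfsg.Agent.Lib.Helper40_IsoSpecAbs
import Cfsg.Agent.Lib.Helper40_SpProj7
-- import your own Cfsg.Agent.* helpers here

set_option autoImplicit false
open Cfsg

namespace Cfsg.Agent.S2512

open Cfsg.Agent.Lib.Helper40_IsoSpecAbs Cfsg.Agent.Lib.Helper40_SpProj7 in
/-- Let F be a finite field of odd order q = p^a, n ≥ 2 (with q ≥ 3 automatic), and L = PSp(2n, F). Then for every m the direct product L × L × L × (ℤ/2)^m has the same set of element orders as L × L × L; and if 2n − 1 is not a power of p, then already L × L × (ℤ/2)^m has the same set of element orders as L × L. -/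
theorem result {F : Type*} [Field F] [Fintype F] (p a n m : ℕ) (hp : p.Prime) (ha : 1 ≤ a) (hF : Fintype.card F = p ^ a) (hodd : Odd (Fintype.card F))
    (hn : 2 ≤ n) :
    Set.range (orderOf : Cfsg.PSp n F × Cfsg.PSp n F × Cfsg.PSp n F × Multiplicative (Fin m → ZMod 2) → ℕ) = Set.range (orderOf : Cfsg.PSp n F × Cfsg.PSp n F × Cfsg.PSp n F → ℕ) ∧
    ((¬ ∃ j : ℕ, 2 * n - 1 = p ^ j) →
      Set.range (orderOf : Cfsg.PSp n F × Cfsg.PSp n F × Multiplicative (Fin m → ZMod 2) → ℕ) = Set.range (orderOf : Cfsg.PSp n F × Cfsg.PSp n F → ℕ)) := by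
  obtain ⟨T, htri⟩ := tri_psp (F := F) p a n hp ha hF hodd hn
  have hE : ∀ v : Multiplicative (Fin m → ZMod 2), v ^ 2 = 1 := by
    intro v
    apply Multiplicative.toAdd.injective
    rw [toAdd_pow, toAdd_one]
    funext i
    rw [Pi.smul_apply, nsmul_eq_mul]
    have h2 : ((2 : ℕ) : ZMod 2) = 0 := ZMod.natCast_self 2
    rw [h2, zero_mul, Pi.zero_apply]
  refine ⟨range_orderOf_prod3 2 Nat.prime_two hE
    (fun x y z hx hy hz h => htri.three x y z hx hy hz h), ?_⟩
  intro hex
  exact range_orderOf_prod2 2 Nat.prime_two hE (fun x y hx hy h => htri.two hex x y hx hy h)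

end Cfsg.Agent.S2512
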