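import Cfsg.Statements.S2514

set_option autoImplicit false
open Cfsg

namespace Cfsg.Agent.S2514

/-- the set of element orders maximal under divisibility -/
def mu (X : Type*) [Monoid X] : Set ℕ :=
  {n : ℕ | n ∈ Set.range (orderOf : X → ℕ) ∧ ∀ m ∈ Set.range (orderOf : X → ℕ), n ∣ m → m = n}

/-- element orders are closed under divisors -/
theorem dvd_closed {X : Type*} [Group X] [Finite X] {n d : ℕ}
    (hn : n ∈ Set.range (orderOf : X → ℕ)) (hd : d ∣ n) : d ∈ Set.range (orderOf : X → ℕ) := by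
  obtain ⟨x, rfl⟩ := hn
  exact ⟨x ^ (orderOf x / d), orderOf_pow_orderOf_div (orderOf_pos x).ne' hd⟩

/-- every element order divides a maximal one -/
theorem exists_mu {X : Type*} [Group X] [Finite X] (x : X) :
    ∃ m ∈ mu X, orderOf x ∣ m := by
  classical
  -- choose y with orderOf x ∣ orderOf y and orderOf y maximal
  have hfin : (Set.univ : Set X).Finite := Set.toFinite _
  obtain ⟨y, hy, hmax⟩ :=
    Set.Finite.exists_maximalFor (fun y : X => orderOf y) {y : X | orderOf x ∣ orderOf y}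
      (Set.toFinite _) ⟨x, dvd_rfl⟩
  refine ⟨orderOf y, ⟨⟨y, rfl⟩, ?_⟩, hy⟩
  rintro m ⟨z, rfl⟩ hdvd
  have hz : z ∈ {y : X | orderOf x ∣ orderOf y} := hy.trans hdvd
  have h1 : orderOf y ≤ orderOf z := Nat.le_of_dvd (orderOf_pos z) hdvd
  have h2 := hmax hz h1
  exact le_antisymm h2 h1

theorem orderOf_apply_dvd {ι : Type*} {X : Type*} [Monoid X] (x : ι → X) (i : ι) :
    orderOf (x i) ∣ orderOf x :=
  orderOf_map_dvd (Pi.evalMonoidHom (fun _ => X) i) x

theorem orderOf_pi_dvd {ι : Type*} {X : Type*} [Monoid X] (x : ι → X) (N : ℕ)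
    (h : ∀ i, orderOf (x i) ∣ N) : orderOf x ∣ N := by
  rw [orderOf_dvd_iff_pow_eq_one]
  funext i
  rw [Pi.pow_apply, Pi.one_apply]
  exact orderOf_dvd_iff_pow_eq_one.mp (h i)

theorem orderOf_prod_dvd {X Y : Type*} [Monoid X] [Monoid Y] (x : X × Y) (N : ℕ)
    (h1 : orderOf x.1 ∣ N) (h2 : orderOf x.2 ∣ N) : orderOf x ∣ N := by
  rw [Prod.orderOf]
  exact Nat.lcm_dvd h1 h2

theorem main {G H : Type*} [Group G] [Finite G] [Group H] [Finite H] (j : ℕ)
    (hsub : mu H ⊆ mu G) (hfew : (mu G \ mu H).ncard < j + 1) :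
    Set.range (orderOf : (Fin (j + 1) → G) → ℕ) = Set.range (orderOf : (Fin j → G) × H → ℕ) := by
  classical
  apply Set.Subset.antisymm
  · rintro n ⟨x, rfl⟩
    -- suffices to dominate by an element of the other group
    suffices h : ∃ w : (Fin j → G) × H, orderOf x ∣ orderOf w by
      obtain ⟨w, hw⟩ := h
      exact dvd_closed ⟨w, rfl⟩ hw
    choose f hf hxf using fun i => exists_mu (x i)
    have hz : ∀ i, ∃ z : G, orderOf z = f i := fun i => (hf i).1
    choose z hz using hz
    -- find the index and the element of H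
    have key : ∃ (i₀ : Fin (j + 1)) (h : H), orderOf (x i₀) ∣
        orderOf ((fun l => z (i₀.succAbove l), h) : (Fin j → G) × H) := by
      by_cases hcase : ∃ i₀, f i₀ ∈ mu H
      · obtain ⟨i₀, hi₀⟩ := hcase
        obtain ⟨h, hh⟩ := hi₀.1
        refine ⟨i₀, h, ?_⟩
        refine (hxf i₀).trans ?_
        rw [← hh]
        exact orderOf_snd_dvd_orderOf (x := ((fun l => z (i₀.succAbove l), h) : (Fin j → G) × H))
      · push Not at hcase
        have hmaps : ∀ i ∈ (Set.univ : Set (Fin (j + 1))), f i ∈ mu G \ mu H :=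
          fun i _ => ⟨hf i, hcase i⟩
        have hfinite : (mu G \ mu H).Finite := by
          apply Set.Finite.subset (Set.finite_range (orderOf : G → ℕ))
          intro n hn
          exact hn.1.1
        have hcard : (mu G \ mu H).ncard < (Set.univ : Set (Fin (j + 1))).ncard := by
          rw [Set.ncard_univ, Nat.card_eq_fintype_card, Fintype.card_fin]
          exact hfew
        obtain ⟨i₁, -, i₂, -, hne, heq⟩ :=
          Set.exists_ne_map_eq_of_ncard_lt_of_maps_to hcard hmaps hfinite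
        refine ⟨i₁, 1, ?_⟩
        obtain ⟨l, hl⟩ := Fin.exists_succAbove_eq (Ne.symm hne)
        refine (hxf i₁).trans ?_
        rw [heq, ← hz i₂, ← hl]
        refine dvd_trans ?_ (orderOf_fst_dvd_orderOf
          (x := ((fun l => z (i₁.succAbove l), (1 : H)) : (Fin j → G) × H)))
        exact orderOf_apply_dvd (fun l => z (i₁.succAbove l)) l
    obtain ⟨i₀, h, hkey⟩ := key
    refine ⟨(fun l => z (i₀.succAbove l), h), ?_⟩
    apply orderOf_pi_dvd
    intro i
    rcases Fin.eq_self_or_eq_succAbove i₀ i with rfl | ⟨l, rfl⟩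
    · exact hkey
    · refine (hxf _).trans ?_
      rw [← hz]
      refine dvd_trans ?_ (orderOf_fst_dvd_orderOf
          (x := ((fun l => z (i₀.succAbove l), h) : (Fin j → G) × H)))
      exact orderOf_apply_dvd (fun l => z (i₀.succAbove l)) l
  · rintro n ⟨⟨y, h⟩, rfl⟩
    suffices hh : ∃ x : Fin (j + 1) → G, orderOf ((y, h) : (Fin j → G) × H) ∣ orderOf x by
      obtain ⟨x, hx⟩ := hh
      exact dvd_closed ⟨x, rfl⟩ hx
    obtain ⟨m, hm, hdvd⟩ := exists_mu h
    obtain ⟨g₀, hg₀⟩ := (hsub hm).1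
    refine ⟨Fin.cons g₀ y, ?_⟩
    apply orderOf_prod_dvd
    · apply orderOf_pi_dvd
      intro l
      have := orderOf_apply_dvd (Fin.cons g₀ y : Fin (j + 1) → G) l.succ
      simpa using this
    · refine hdvd.trans ?_
      rw [← hg₀]
      have := orderOf_apply_dvd (Fin.cons g₀ y : Fin (j + 1) → G) 0
      simpa using this

/-- For a finite group X write μ(X) for the set of element orders of X that are maximal under divisibility. Let G and H be finite groups and k ≥ 1 such that μ(H) ⊆ μ(G) and μ(G) has fewer than k elements outside μ(H). Then the direct product of k copies of G has the same set of element orders as the direct product of k − 1 copies of G with H. -/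
theorem result {G H : Type*} [Group G] [Finite G] [Group H] [Finite H] (k : ℕ) (hk : 1 ≤ k)
    (hsub : {n : ℕ | n ∈ Set.range (orderOf : H → ℕ) ∧ ∀ m ∈ Set.range (orderOf : H → ℕ), n ∣ m → m = n} ⊆ {n : ℕ | n ∈ Set.range (orderOf : G → ℕ) ∧ ∀ m ∈ Set.range (orderOf : G → ℕ), n ∣ m → m = n})
    (hfew : ({n : ℕ | n ∈ Set.range (orderOf : G → ℕ) ∧ ∀ m ∈ Set.range (orderOf : G → ℕ), n ∣ m → m = n} \ {n : ℕ | n ∈ Set.range (orderOf : H → ℕ) ∧ ∀ m ∈ Set.range (orderOf : H → ℕ), n ∣ m → m = n}).ncard < k) :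
    Set.range (orderOf : (Fin k → G) → ℕ) = Set.range (orderOf : (Fin (k - 1) → G) × H → ℕ) := by
  obtain ⟨j, rfl⟩ : ∃ j, k = j + 1 := ⟨k - 1, by omega⟩
  exact main j hsub hfew

end Cfsg.Agent.S2514
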