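import Cfsg.Statements.S2516

set_option autoImplicit false
open Cfsg

namespace Cfsg.Agent.S2516

section aux
variable {F : Type*} [Field F] {V : Type*} [AddCommGroup V] [Module F V] {G : Type*} [Group G]

/-- the action hom used in the statement -/
abbrev phi (ρ : Representation F G V) : G →* MulAut (Multiplicative V) :=
  (MulAutMultiplicative V).symm.toMonoidHom.comp
    ((DistribMulAction.toAddAut ((V →ₗ[F] V)ˣ) V).comp ρ.asGroupHom)

theorem phi_apply (ρ : Representation F G V) (h : G) (w : Multiplicative V) :
    phi ρ h w = Multiplicative.ofAdd (ρ h (Multiplicative.toAdd w)) := rfl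

theorem pow_formula (ρ : Representation F G V) (x : Multiplicative V ⋊[phi ρ] G) (n : ℕ) :
    (x ^ n).left = Multiplicative.ofAdd
        (∑ i ∈ Finset.range n, ((ρ x.right) ^ i) (Multiplicative.toAdd x.left)) ∧
      (x ^ n).right = x.right ^ n := by
  induction n with
  | zero => simp
  | succ n ih =>
    obtain ⟨ih1, ih2⟩ := ih
    constructor
    · rw [pow_succ, SemidirectProduct.mul_left, ih1, ih2, phi_apply, Finset.sum_range_succ,
        ofAdd_add, map_pow]
    · rw [pow_succ, SemidirectProduct.mul_right, ih2, pow_succ]

theorem aeval_geom (f : V →ₗ[F] V) (k : ℕ) (v : V) :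
    (Polynomial.aeval f (∑ i ∈ Finset.range k, (Polynomial.X : Polynomial F) ^ i)) v =
      ∑ i ∈ Finset.range k, (f ^ i) v := by
  simp [map_sum, LinearMap.sum_apply]

end aux

/-- Let F be a field of characteristic p > 0, V a non-zero finite-dimensional F-vector space, G a finite group and ρ a representation of G on V; form the semidirect product V ⋊ G. For g ∈ G of order k, the coset Vg contains an element of order pk if and only if the minimal polynomial of ρ(g) does not divide 1 + X + ⋯ + X^(k−1). -/
theorem result {F : Type*} [Field F] (p : ℕ) [Fact p.Prime] [CharP F p] {V : Type*} [AddCommGroup V] [Module F V] [FiniteDimensional F V] [Nontrivial V]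
    {G : Type*} [Group G] [Finite G] (ρ : Representation F G V) (g : G) :
    (∃ x : Multiplicative V ⋊[(MulAutMultiplicative V).symm.toMonoidHom.comp
        ((DistribMulAction.toAddAut ((V →ₗ[F] V)ˣ) V).comp ρ.asGroupHom)] G,
        x.right = g ∧ orderOf x = p * orderOf g) ↔
      ¬ (minpoly F (ρ g) ∣ ∑ i ∈ Finset.range (orderOf g), (Polynomial.X : Polynomial F) ^ i) := by
  classical
  have hp : p.Prime := Fact.out
  set k := orderOf g with hk
  have hkpos : 0 < k := orderOf_pos g
  -- key fact about every x in the coset
  have key : ∀ x : Multiplicative V ⋊[phi ρ] G, x.right = g →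
      (orderOf x = p * k ↔
        (Polynomial.aeval (ρ g) (∑ i ∈ Finset.range k, (Polynomial.X : Polynomial F) ^ i))
          (Multiplicative.toAdd x.left) ≠ 0) := by
    intro x hx
    obtain ⟨h1, h2⟩ := pow_formula ρ x k
    rw [hx] at h1 h2
    rw [← aeval_geom] at h1
    set w : V := (Polynomial.aeval (ρ g) (∑ i ∈ Finset.range k, (Polynomial.X : Polynomial F) ^ i))
          (Multiplicative.toAdd x.left) with hw
    have h2' : (x ^ k).right = 1 := by rw [h2, hk, pow_orderOf_eq_one]
    have hxk : x ^ k = SemidirectProduct.inl (Multiplicative.ofAdd w) := by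
      apply SemidirectProduct.ext
      · rw [h1]; simp
      · rw [h2']; simp
    -- k divides the order of x
    have hdvd : k ∣ orderOf x := by
      have := orderOf_map_dvd (SemidirectProduct.rightHom (φ := phi ρ)) x
      rwa [SemidirectProduct.rightHom_eq_right, hx] at this
    have hord : orderOf x = k * orderOf (x ^ k) := by
      rw [orderOf_pow' x hkpos.ne', Nat.gcd_eq_right hdvd, Nat.mul_div_cancel' hdvd]
    -- (x^k)^p = 1
    have hpw : (x ^ k) ^ p = 1 := by
      rw [hxk, ← map_pow, ← ofAdd_nsmul]
      have : p • w = 0 := by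
        rw [← Nat.cast_smul_eq_nsmul F, CharP.cast_eq_zero, zero_smul]
      rw [this]; simp
    rw [hord, mul_comm p k, Nat.mul_right_inj hkpos.ne', orderOf_eq_prime_iff]
    constructor
    · rintro ⟨-, hne⟩ hw0
      apply hne
      rw [hxk, hw0]; simp
    · intro hne
      refine ⟨hpw, ?_⟩
      intro h1'
      apply hne
      rw [hxk] at h1'
      have := congrArg SemidirectProduct.left h1'
      simpa using this
  rw [minpoly.dvd_iff]
  constructor
  · rintro ⟨x, hx, hox⟩ h0
    have := (key x hx).mp hox
    apply this
    rw [h0]; simp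
  · intro hne
    have : ∃ v : V, (Polynomial.aeval (ρ g) (∑ i ∈ Finset.range k, (Polynomial.X : Polynomial F) ^ i)) v ≠ 0 := by
      by_contra hcon
      push Not at hcon
      apply hne
      ext v
      simpa using hcon v
    obtain ⟨v, hv⟩ := this
    refine ⟨⟨Multiplicative.ofAdd v, g⟩, rfl, ?_⟩
    exact (key ⟨Multiplicative.ofAdd v, g⟩ rfl).mpr (by simpa using hv)

end Cfsg.Agent.S2516
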