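import Cfsg.Statements.S2518
import Cfsg.Agent.S1059
import Cfsg.Agent.Lib.Helper61_ChevTransfer
import Cfsg.Agent.Lib.Helper61_TableHom
import Cfsg.Agent.Lib.Helper8_PSL2Sylow
import Cfsg.Agent.Lib.Helper46_G23Rho
import Cfsg.Agent.Lib.Helper46_PSL2Thirteen

set_option autoImplicit false
open Cfsg

namespace Cfsg.Agent.S2518

theorem prime_cases (r : ℕ) (hr : r.Prime) (a b : ℕ) (h : r ∣ 2 ^ a * 3 ^ b * 7 * 13) :
    r = 2 ∨ r = 3 ∨ r = 7 ∨ r = 13 := by
  rcases (Nat.Prime.dvd_mul hr).1 h with h | h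
  · rcases (Nat.Prime.dvd_mul hr).1 h with h | h
    · rcases (Nat.Prime.dvd_mul hr).1 h with h | h
      · left
        exact (Nat.prime_dvd_prime_iff_eq hr Nat.prime_two).1 (hr.dvd_of_dvd_pow h)
      · right; left
        exact (Nat.prime_dvd_prime_iff_eq hr Nat.prime_three).1 (hr.dvd_of_dvd_pow h)
    · right; right; left
      exact (Nat.prime_dvd_prime_iff_eq hr (by norm_num)).1 h
  · right; right; right
    exact (Nat.prime_dvd_prime_iff_eq hr (by norm_num)).1 h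

theorem prime_dvd_iff (r : ℕ) (hr : r.Prime) : r ∣ 4245696 ↔ r ∣ 1092 := by
  constructor
  · intro h
    have h' : r ∣ 2 ^ 6 * 3 ^ 6 * 7 * 13 := by norm_num; exact h
    rcases prime_cases r hr 6 6 h' with rfl | rfl | rfl | rfl <;> norm_num
  · intro h
    have h' : r ∣ 2 ^ 2 * 3 ^ 1 * 7 * 13 := by norm_num; exact h
    rcases prime_cases r hr 2 1 h' with rfl | rfl | rfl | rfl <;> norm_num

theorem mul_ne_prime {r s q : ℕ} (hr : r.Prime) (hs : s.Prime) (hq : q.Prime) (hrs : r ≠ s) :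
    r * s ≠ q := by
  intro h
  have h1 : r = q := (Nat.prime_dvd_prime_iff_eq hr hq).1 ⟨s, h.symm⟩
  have h2 : s = q := (Nat.prime_dvd_prime_iff_eq hs hq).1 ⟨r, by rw [mul_comm]; exact h.symm⟩
  exact hrs (h1.trans h2.symm)

open Cfsg.Lie Cfsg.Agent.Lib.Helper46_G23Rho in
theorem card_G3 : Nat.card G3 = 4245696 := by
  have h : Nat.card ↥G3 = 3 ^ 6 * (3 ^ 2 - 1) * (3 ^ 6 - 1) :=
    Cfsg.Agent.S1059.result (F := ZMod 3) (q := 3) (ZMod.card 3)
  rw [h]
  norm_num

open Cfsg.Lie Cfsg.Agent.Lib.Helper46_G23Rho in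
theorem g3_iff {r s : ℕ} (hr : r.Prime) (hs : s.Prime) (hrs : r ≠ s) :
    (∃ x : G3, orderOf x = r * s) ↔ (r = 2 ∧ s = 3) ∨ (r = 3 ∧ s = 2) := by
  constructor
  · rintro ⟨x, hx⟩
    have h13 : ¬ 13 ∣ r * s := by
      intro h
      rw [← hx] at h
      have := orderOf_eq_thirteen (by rw [card_G3]; norm_num) x h
      rw [hx] at this
      exact mul_ne_prime hr hs (by norm_num) hrs this
    have h7 : ¬ 7 ∣ r * s := by
      intro h
      rw [← hx] at h
      have := orderOf_eq_seven (by rw [card_G3]; norm_num) x h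
      rw [hx] at this
      exact mul_ne_prime hr hs (by norm_num) hrs this
    have hdvd : r * s ∣ 2 ^ 6 * 3 ^ 6 * 7 * 13 := by
      have h := orderOf_dvd_natCard x
      rw [hx, card_G3] at h
      norm_num
      exact h
    have hr' : r = 2 ∨ r = 3 := by
      rcases prime_cases r hr 6 6 (dvd_trans (dvd_mul_right r s) hdvd) with h | h | h | h
      · exact Or.inl h
      · exact Or.inr h
      · exact absurd (h ▸ dvd_mul_right r s) h7
      · exact absurd (h ▸ dvd_mul_right r s) h13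
    have hs' : s = 2 ∨ s = 3 := by
      rcases prime_cases s hs 6 6 (dvd_trans (dvd_mul_left s r) hdvd) with h | h | h | h
      · exact Or.inl h
      · exact Or.inr h
      · exact absurd (h ▸ dvd_mul_left s r) h7
      · exact absurd (h ▸ dvd_mul_left s r) h13
    rcases hr' with rfl | rfl <;> rcases hs' with rfl | rfl
    · exact absurd rfl hrs
    · left; exact ⟨rfl, rfl⟩
    · right; exact ⟨rfl, rfl⟩
    · exact absurd rfl hrs
  · rintro (⟨rfl, rfl⟩ | ⟨rfl, rfl⟩)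
    · exact ⟨X6, orderOf_X6⟩
    · exact ⟨X6, orderOf_X6⟩

/-- Let F₃ be the field with 3 elements and F₁₃ the field with 13 elements. The Chevalley group G₂(F₃) and PSL(2, F₁₃) have the same prime graph: the same prime divisors of their orders, and for distinct primes r, s an element of order rs in one iff in the other. -/
theorem result {F : Type*} [Field F] [Fintype F] (hF : Fintype.card F = 3) {E : Type*} [Field E] [Fintype E] (hE : Fintype.card E = 13) :
    ((∀ r : ℕ, r.Prime → (r ∣ Nat.card ↥(Cfsg.Lie.chevG2.group F) ↔ r ∣ Nat.card (Matrix.ProjectiveSpecialLinearGroup (Fin 2) E))) ∧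
      (∀ r s : ℕ, r.Prime → s.Prime → r ≠ s → ((∃ x : ↥(Cfsg.Lie.chevG2.group F), orderOf x = r * s) ↔ (∃ y : (Matrix.ProjectiveSpecialLinearGroup (Fin 2) E), orderOf y = r * s)))) := by
  have e3 : F ≃+* ZMod 3 := (ZMod.ringEquivOfPrime F Nat.prime_three hF).symm
  have eG : ↥(Cfsg.Lie.chevG2.group F) ≃* ↥Cfsg.Agent.Lib.Helper46_G23Rho.G3 :=
    Cfsg.Agent.Lib.Helper61_ChevTransfer.groupEquiv Cfsg.Lie.chevG2 e3
  have e13 : E ≃+* ZMod 13 := (ZMod.ringEquivOfPrime E (by norm_num) hE).symm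
  have eP : Matrix.ProjectiveSpecialLinearGroup (Fin 2) E ≃*
      Cfsg.Agent.Lib.Helper46_PSL2Thirteen.PSL13 :=
    Cfsg.Agent.Lib.Helper61_TableHom.pslEquiv e13
  have cardG : Nat.card ↥(Cfsg.Lie.chevG2.group F) = 4245696 := by
    rw [Cfsg.Agent.S1059.result (F := F) (q := 3) hF]
    norm_num
  have cardP : Nat.card (Matrix.ProjectiveSpecialLinearGroup (Fin 2) E) = 1092 := by
    have h := Cfsg.Agent.Lib.Helper8_PSL2Sylow.two_mul_card_PSL2 (F := E) (by rw [hE])
    rw [hE] at h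
    norm_num at h
    omega
  refine ⟨fun r hr => ?_, fun r s hr hs hrs => ?_⟩
  · rw [cardG, cardP]
    exact prime_dvd_iff r hr
  · have h1 : (∃ x : ↥(Cfsg.Lie.chevG2.group F), orderOf x = r * s) ↔
        ∃ x : ↥Cfsg.Agent.Lib.Helper46_G23Rho.G3, orderOf x = r * s :=
      ⟨fun ⟨x, hx⟩ => ⟨eG x, by rw [MulEquiv.orderOf_eq]; exact hx⟩,
        fun ⟨x, hx⟩ => ⟨eG.symm x, by rw [MulEquiv.orderOf_eq]; exact hx⟩⟩
    have h2 : (∃ y : Matrix.ProjectiveSpecialLinearGroup (Fin 2) E, orderOf y = r * s) ↔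
        ∃ y : Cfsg.Agent.Lib.Helper46_PSL2Thirteen.PSL13, orderOf y = r * s :=
      ⟨fun ⟨x, hx⟩ => ⟨eP x, by rw [MulEquiv.orderOf_eq]; exact hx⟩,
        fun ⟨x, hx⟩ => ⟨eP.symm x, by rw [MulEquiv.orderOf_eq]; exact hx⟩⟩
    rw [h1, h2, g3_iff hr hs hrs,
      Cfsg.Agent.Lib.Helper46_PSL2Thirteen.orderOf_eq_mul_iff hr hs hrs]

end Cfsg.Agent.S2518
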