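import Cfsg.Statements.S2522
import Mathlib
import Cfsg.Agent.Lib.Helper13_LevDefs
import Cfsg.Agent.Lib.Helper13_LevPk
import Cfsg.Agent.Lib.Helper13_LevMain

set_option autoImplicit false
open Cfsg

namespace Cfsg.Agent.S2522

open Module Cfsg.Agent.Lib.Helper13_LevDefs Cfsg.Agent.Lib.Helper13_LevPk Cfsg.Agent.Lib.Helper13_LevMain

/-- abstract factorization: Good case via the main induction, rank one case via TRANSV -/
theorem exists_two_RU {K : Type*} [Field K] (hK : 4 ≤ Cardinal.mk K) (n : ℕ) (hn : 3 ≤ n)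
    (M : Matrix (Fin n) (Fin n) K) (hM : ¬ ∃ c : K, M = c • (1 : Matrix (Fin n) (Fin n) K))
    (hdet : M.det = 1) :
    ∃ u₁ u₂ : (Fin n → K) →ₗ[K] (Fin n → K), RU u₁ ∧ RU u₂ ∧ Matrix.toLin' M = u₁ * u₂ := by
  have hfin : finrank K (Fin n → K) = n := by simp
  have hdet' : LinearMap.det (Matrix.toLin' M) = 1 := by rw [LinearMap.det_toLin', hdet]
  have hns : ¬ ∃ a : K, Matrix.toLin' M = a • (1 : (Fin n → K) →ₗ[K] (Fin n → K)) := by
    rintro ⟨a, ha⟩
    apply hM
    refine ⟨a, ?_⟩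
    apply Matrix.toLin'.injective
    rw [ha, map_smul, Matrix.toLin'_one]
    rfl
  rcases Nat.lt_or_ge (finrank K (LinearMap.range (Matrix.toLin' M - 1))) 2 with h | h
  · rcases Nat.lt_or_ge (finrank K (LinearMap.range (Matrix.toLin' M - 1))) 1 with h0 | h0
    · exfalso
      apply hns
      refine ⟨1, ?_⟩
      have h00 : finrank K (LinearMap.range (Matrix.toLin' M - 1)) = 0 := by omega
      rw [Submodule.finrank_eq_zero, LinearMap.range_eq_bot, sub_eq_zero] at h00
      rw [h00, one_smul]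
    · exact transv (by omega) _ hdet' (by omega)
  · have hc0 : (Pi.single (⟨0, by omega⟩ : Fin n) (1 : K) : Fin n → K) ≠ 0 := by
      intro h0
      have := congrFun h0 ⟨0, by omega⟩
      simp at this
    have hb0 : (LinearMap.proj (⟨0, by omega⟩ : Fin n) : Module.Dual K (Fin n → K)) ≠ 0 := by
      intro h0
      have := LinearMap.congr_fun h0 (Pi.single (⟨0, by omega⟩ : Fin n) (1 : K))
      simp at this
    obtain ⟨u₁, u₂, h₁, h₂, h12, -, -⟩ :=
      main hK n (by omega) (Fin n → K) hfin (Matrix.toLin' M) ⟨hns, h⟩ hdet' _ _ hc0 hb0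
    exact ⟨u₁, u₂, h₁, h₂, h12⟩

/-- Let K be a field with at least four elements (finite or infinite), n ≥ 3, and J ∈ GL(n, K) the regular unipotent matrix (ones on the diagonal and the superdiagonal, zeros elsewhere). Then every non-scalar g ∈ GL(n, K) with det g = 1 is a product of two GL(n, K)-conjugates of J. -/
theorem result {K : Type*} [Field K] (hK : 4 ≤ Cardinal.mk K) (n : ℕ) (hn : 3 ≤ n) (J g : GL (Fin n) K)
    (hJ : ∀ i j : Fin n, (J : Matrix (Fin n) (Fin n) K) i j = if i = j then 1 else if j.val = i.val + 1 then 1 else 0)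
    (hg : ¬ ∃ c : K, (g : Matrix (Fin n) (Fin n) K) = c • (1 : Matrix (Fin n) (Fin n) K))
    (hdet : (g : Matrix (Fin n) (Fin n) K).det = 1) :
    ∃ x y : GL (Fin n) K, g = (x * J * x⁻¹) * (y * J * y⁻¹) := by
  obtain ⟨u₁, u₂, h₁, h₂, h12⟩ := exists_two_RU hK n hn (g : Matrix (Fin n) (Fin n) K) hg hdet
  have e₁ : Matrix.toLin' (LinearMap.toMatrix' u₁) = u₁ := Matrix.toLin'_toMatrix' u₁
  have e₂ : Matrix.toLin' (LinearMap.toMatrix' u₂) = u₂ := Matrix.toLin'_toMatrix' u₂
  obtain ⟨x, hx⟩ := ru_conj n (LinearMap.toMatrix' u₁) (by rw [e₁]; exact h₁) J hJ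
  obtain ⟨y, hy⟩ := ru_conj n (LinearMap.toMatrix' u₂) (by rw [e₂]; exact h₂) J hJ
  refine ⟨x, y, ?_⟩
  apply Units.ext
  have hmat : (g : Matrix (Fin n) (Fin n) K) = LinearMap.toMatrix' u₁ * LinearMap.toMatrix' u₂ := by
    apply Matrix.toLin'.injective
    rw [Matrix.toLin'_mul, e₁, e₂, h12]
    rfl
  rw [hmat, hx, hy]
  rfl

end Cfsg.Agent.S2522
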