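import Cfsg.Statements.S2531

set_option autoImplicit false
open Cfsg

namespace Cfsg.Agent.S2531

open Projectivization

section fiber
variable {K V : Type*} [Field K] [AddCommGroup V] [Module K V]

/-- Each point of projective space has exactly `|Kˣ|` representatives. -/
theorem card_lift (Q : Projectivization K V → Prop) :
    Nat.card {v : V // ∃ hv : v ≠ 0, Q (Projectivization.mk K v hv)}
      = Nat.card {x : Projectivization K V // Q x} * Nat.card Kˣ := by
  rw [← Nat.card_prod]
  symm
  refine Nat.card_congr (Equiv.ofBijective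
    (fun xa : {x : Projectivization K V // Q x} × Kˣ =>
      (⟨xa.2 • xa.1.1.rep, ?_⟩ : {v : V // ∃ hv : v ≠ 0, Q (Projectivization.mk K v hv)})) ?_)
  · have h0 : xa.2 • xa.1.1.rep ≠ 0 := by
      rw [Ne, Units.smul_def, smul_eq_zero]
      push Not
      exact ⟨xa.2.ne_zero, xa.1.1.rep_nonzero⟩
    refine ⟨h0, ?_⟩
    have : Projectivization.mk K (xa.2 • xa.1.1.rep) h0 = xa.1.1 := by
      conv_rhs => rw [← Projectivization.mk_rep xa.1.1]
      exact (Projectivization.mk_eq_mk_iff K _ _ h0 xa.1.1.rep_nonzero).2 ⟨xa.2, rfl⟩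
    rw [this]; exact xa.1.2
  · constructor
    · rintro ⟨⟨x, hx⟩, a⟩ ⟨⟨x', hx'⟩, a'⟩ h
      simp only [Subtype.mk.injEq] at h
      have h0 : a • x.rep ≠ 0 := by
        rw [Ne, Units.smul_def, smul_eq_zero]
        push Not
        exact ⟨a.ne_zero, x.rep_nonzero⟩
      have h0' : a' • x'.rep ≠ 0 := by rw [← h]; exact h0
      have e1 : Projectivization.mk K (a • x.rep) h0 = x := by
        conv_rhs => rw [← Projectivization.mk_rep x]
        exact (Projectivization.mk_eq_mk_iff K _ _ h0 x.rep_nonzero).2 ⟨a, rfl⟩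
      have e2 : Projectivization.mk K (a' • x'.rep) h0' = x' := by
        conv_rhs => rw [← Projectivization.mk_rep x']
        exact (Projectivization.mk_eq_mk_iff K _ _ h0' x'.rep_nonzero).2 ⟨a', rfl⟩
      have exx : x = x' := by
        rw [← e1, ← e2]
        congr 1
      subst exx
      have : a = a' := by
        have h2 : ((a : K) - (a' : K)) • x.rep = 0 := by
          rw [sub_smul, ← Units.smul_def, ← Units.smul_def, h, sub_self]
        rcases smul_eq_zero.1 h2 with h3 | h3
        · exact Units.ext (sub_eq_zero.1 h3)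
        · exact absurd h3 x.rep_nonzero
      subst this
      rfl
    · rintro ⟨v, hv, hQ⟩
      obtain ⟨a, ha⟩ := Projectivization.exists_smul_eq_mk_rep K v hv
      refine ⟨(⟨Projectivization.mk K v hv, hQ⟩, a⁻¹), ?_⟩
      simp only [Subtype.mk.injEq]
      rw [← ha, smul_smul, inv_mul_cancel, one_smul]

end fiber



section pgroup
variable {V : Type*} [AddCommGroup V]

/-- a nontrivial additive subgroup of a group of exponent `p` has order divisible by `p` -/
theorem p_dvd_card_addSubgroup (p : ℕ) (hp : p.Prime) (hV : ∀ v : V, p • v = 0)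
    (W : AddSubgroup V) (hW : ∃ v ∈ W, v ≠ 0) : p ∣ Nat.card W := by
  obtain ⟨v, hvW, hv0⟩ := hW
  have h1 : addOrderOf (⟨v, hvW⟩ : W) ∣ p := by
    apply addOrderOf_dvd_of_nsmul_eq_zero
    apply Subtype.ext
    simpa using hV v
  have h2 : addOrderOf (⟨v, hvW⟩ : W) ≠ 1 := by
    intro h
    rw [AddMonoid.addOrderOf_eq_one_iff] at h
    exact hv0 (congrArg Subtype.val h)
  have h3 : addOrderOf (⟨v, hvW⟩ : W) = p := by
    rcases (Nat.dvd_prime hp).1 h1 with h | h
    · exact absurd h h2
    · exact h
  rw [← h3]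
  exact addOrderOf_dvd_natCard _

/-- `|W \ K| ≡ 0 mod p` for additive subgroups `K, W`, `K` meeting `W` nontrivially. -/
theorem p_dvd_card_diff [Finite V] (p : ℕ) (hp : p.Prime) (hV : ∀ v : V, p • v = 0)
    (W K : AddSubgroup V) (hK : ∃ v ∈ W, v ∈ K ∧ v ≠ 0) :
    p ∣ Nat.card {v : V // v ∈ W ∧ v ∉ K} := by
  classical
  have : Fintype V := Fintype.ofFinite V
  have hWK : p ∣ Nat.card (W ⊓ K : AddSubgroup V) := by
    apply p_dvd_card_addSubgroup p hp hV
    obtain ⟨v, h1, h2, h3⟩ := hK
    exact ⟨v, ⟨h1, h2⟩, h3⟩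
  have hW : p ∣ Nat.card W := by
    apply p_dvd_card_addSubgroup p hp hV
    obtain ⟨v, h1, h2, h3⟩ := hK
    exact ⟨v, h1, h3⟩
  have e1 : Nat.card W = (Finset.univ.filter (fun v : V => v ∈ W)).card := by
    rw [Nat.card_eq_fintype_card]
    exact Fintype.card_of_subtype _ (by intro x; simp)
  have e2 : Nat.card (W ⊓ K : AddSubgroup V)
      = ((Finset.univ.filter (fun v : V => v ∈ W)).filter (fun v => v ∈ K)).card := by
    rw [Nat.card_eq_fintype_card]
    exact Fintype.card_of_subtype _ (by intro x; simp [AddSubgroup.mem_inf])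
  have e3 : Nat.card {v : V // v ∈ W ∧ v ∉ K}
      = ((Finset.univ.filter (fun v : V => v ∈ W)).filter (fun v => ¬ v ∈ K)).card := by
    rw [Nat.card_eq_fintype_card]
    exact Fintype.card_of_subtype _ (by intro x; simp)
  have e4 := Finset.card_filter_add_card_filter_not (s := Finset.univ.filter (fun v : V => v ∈ W))
    (fun v => v ∈ K)
  rw [← e1, ← e2, ← e3] at e4
  exact (Nat.dvd_add_right hWK).1 (e4 ▸ hW)

end pgroup



theorem double_count {Ω : Type*} [Finite Ω] (S : Set (Equiv.Perm Ω)) (y y' : Ω) (L A : Set Ω)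
    (h : ∀ x ∈ L, ∀ z ∈ A, ∃! s, s ∈ S ∧ s x = z ∧ s y' = y)
    (p : ℕ) (hdiv : ∀ s ∈ S, s y' = y → p ∣ Nat.card {x : Ω // x ∈ L ∧ s x ∈ A}) :
    p ∣ Nat.card L * Nat.card A := by
  classical
  let T := {s : Equiv.Perm Ω // s ∈ S ∧ s y' = y}
  have : Fintype T := Fintype.ofFinite T
  let g : (Σ s : T, {x : Ω // x ∈ L ∧ s.1 x ∈ A}) → L × A :=
    fun sx => (⟨sx.2.1, sx.2.2.1⟩, ⟨sx.1.1 sx.2.1, sx.2.2.2⟩)
  have hg : Function.Bijective g := by
    constructor
    · rintro ⟨⟨s, hsS, hsy⟩, ⟨x, hxL, hxA⟩⟩ ⟨⟨s', hsS', hsy'⟩, ⟨x', hxL', hxA'⟩⟩ hh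
      simp only [g, Prod.mk.injEq, Subtype.mk.injEq] at hh
      obtain ⟨h1, h2⟩ := hh
      subst h1
      have hs : s = s' :=
        (h x hxL (s x) hxA).unique ⟨hsS, rfl, hsy⟩ ⟨hsS', h2.symm, hsy'⟩
      subst hs
      rfl
    · rintro ⟨⟨x, hx⟩, ⟨z, hz⟩⟩
      obtain ⟨s, ⟨hsS, hsx, hsy⟩, -⟩ := h x hx z hz
      refine ⟨⟨⟨s, hsS, hsy⟩, ⟨x, hx, ?_⟩⟩, ?_⟩
      · simpa [hsx] using hz
      · simp [g, hsx]
  rw [← Nat.card_prod, ← Nat.card_congr (Equiv.ofBijective g hg), Nat.card_sigma]
  apply Finset.dvd_sum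
  rintro ⟨s, hsS, hsy⟩ -
  exact hdiv s hsS hsy




theorem card_ne_add_one {α : Type*} [Finite α] (P : α → Prop) (a : α) (ha : P a) :
    Nat.card {x : α // P x} = Nat.card {x : α // P x ∧ x ≠ a} + 1 := by
  classical
  have : Fintype α := Fintype.ofFinite α
  have e1 : Nat.card {x : α // P x} = (Finset.univ.filter (fun x : α => P x)).card := by
    rw [Nat.card_eq_fintype_card]
    exact Fintype.card_of_subtype _ (by intro x; simp)
  have e2 : Nat.card {x : α // P x ∧ x ≠ a}
      = ((Finset.univ.filter (fun x : α => P x)).erase a).card := by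
    rw [Nat.card_eq_fintype_card]
    exact Fintype.card_of_subtype _ (by intro x; simp [and_comm])
  rw [e1, e2, Finset.card_erase_add_one]
  simp [ha]

section points
variable {F : Type*} [Field F] [Finite F] {V : Type*} [AddCommGroup V] [Module F V] [Finite V]

theorem p_not_dvd_units (p : ℕ) (hp : p.Prime) [CharP F p] : ¬ p ∣ Nat.card Fˣ := by
  intro h
  have h1 : p ∣ Nat.card (⊤ : AddSubgroup F) := by
    apply p_dvd_card_addSubgroup p hp
    · intro v
      rw [nsmul_eq_mul, CharP.cast_eq_zero, zero_mul]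
    · exact ⟨1, trivial, one_ne_zero⟩
  rw [Nat.card_congr (AddSubgroup.topEquiv (G := F)).toEquiv,
    Nat.card_eq_card_units_add_one] at h1
  have := (Nat.dvd_add_right h).1 h1
  exact hp.one_lt.ne' (Nat.dvd_one.1 this)

theorem nsmul_vec (p : ℕ) [CharP F p] (v : V) : p • v = 0 := by
  rw [← Nat.cast_smul_eq_nsmul F, CharP.cast_eq_zero, zero_smul]

/-- points `[v]` with `v ∈ W`, `v ∉ K`: their number is divisible by `p`. -/
theorem p_dvd_points (p : ℕ) (hp : p.Prime) [CharP F p] (W K : AddSubgroup V)
    (hK : ∃ v ∈ W, v ∈ K ∧ v ≠ 0) (Q : Projectivization F V → Prop)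
    (hQ : ∀ v hv, Q (Projectivization.mk F v hv) ↔ v ∈ W ∧ v ∉ K) :
    p ∣ Nat.card {x : Projectivization F V // Q x} := by
  have h1 := card_lift Q
  have h2 : p ∣ Nat.card {v : V // ∃ hv : v ≠ 0, Q (Projectivization.mk F v hv)} := by
    have e : {v : V // ∃ hv : v ≠ 0, Q (Projectivization.mk F v hv)} ≃ {v : V // v ∈ W ∧ v ∉ K} := by
      refine Equiv.subtypeEquivRight ?_
      intro v
      constructor
      · rintro ⟨hv, hq⟩
        exact (hQ v hv).1 hq
      · intro hq
        have hv : v ≠ 0 := by
          rintro rfl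
          exact hq.2 K.zero_mem
        exact ⟨hv, (hQ v hv).2 hq⟩
    rw [Nat.card_congr e]
    exact p_dvd_card_diff p hp (nsmul_vec (F := F) p) W K hK
  rw [h1] at h2
  rcases (Nat.Prime.dvd_mul hp).1 h2 with h | h
  · exact h
  · exact absurd h (p_not_dvd_units (F := F) p hp)

/-- points `[v]` with `v ∈ W`: their number is prime to `p`. -/
theorem p_not_dvd_points (p : ℕ) (hp : p.Prime) [CharP F p] (W : AddSubgroup V)
    (hW : ∃ v ∈ W, v ≠ 0) (Q : Projectivization F V → Prop)
    (hQ : ∀ v hv, Q (Projectivization.mk F v hv) ↔ v ∈ W) :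
    ¬ p ∣ Nat.card {x : Projectivization F V // Q x} := by
  intro hdvd
  have h1 := card_lift Q
  have e : {v : V // ∃ hv : v ≠ 0, Q (Projectivization.mk F v hv)} ≃ {v : V // v ∈ W ∧ v ≠ 0} := by
    refine Equiv.subtypeEquivRight ?_
    intro v
    constructor
    · rintro ⟨hv, hq⟩
      exact ⟨(hQ v hv).1 hq, hv⟩
    · rintro ⟨hq, hv⟩
      exact ⟨hv, (hQ v hv).2 hq⟩
  rw [Nat.card_congr e] at h1
  have h2 : Nat.card W = Nat.card {v : V // v ∈ W ∧ v ≠ 0} + 1 :=
    card_ne_add_one (fun v => v ∈ W) 0 W.zero_mem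
  have h3 : p ∣ Nat.card W := p_dvd_card_addSubgroup p hp (nsmul_vec (F := F) p) W hW
  rw [h2, h1] at h3
  have := (Nat.dvd_add_right (Dvd.dvd.mul_right hdvd _)).1 h3
  exact hp.one_lt.ne' (Nat.dvd_one.1 this)

end points


theorem main {F : Type*} [Field F] [Finite F]
    (n : ℕ) (hn : 3 ≤ n) (S : Set (Equiv.Perm (Projectivization F (Fin n → F))))
    (hS : ∀ s ∈ S, ∃ (σ : F ≃+* F) (f : (Fin n → F) →ₛₗ[(σ : F →+* F)] (Fin n → F)) (hf : Function.Injective f),
      ∀ x, s x = Projectivization.map f hf x) :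
    ¬ (∀ a b c d : Projectivization F (Fin n → F), a ≠ b → c ≠ d →
        ∃! s, s ∈ S ∧ s a = c ∧ s b = d) := by
  intro h2
  classical
  obtain ⟨p, hpc⟩ := CharP.exists F
  have hp : p.Prime := CharP.char_is_prime F p
  let i0 : Fin n := ⟨0, by omega⟩
  let i1 : Fin n := ⟨1, by omega⟩
  let i2 : Fin n := ⟨2, by omega⟩
  have h01 : i0 ≠ i1 := by simp [i0, i1, Fin.ext_iff]
  let e0 : Fin n → F := Pi.single i0 1
  let e1 : Fin n → F := Pi.single i1 1
  let e2 : Fin n → F := Pi.single i2 1
  have he0 : e0 ≠ 0 := by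
    intro h; have := congrFun h i0; simp [e0] at this
  have he1 : e1 ≠ 0 := by
    intro h; have := congrFun h i1; simp [e1] at this
  have he2 : e2 ≠ 0 := by
    intro h; have := congrFun h i2; simp [e2] at this
  let y : Projectivization F (Fin n → F) := Projectivization.mk F e0 he0
  let y' : Projectivization F (Fin n → F) := Projectivization.mk F e2 he2
  -- coordinates of representatives
  have hrep : ∀ (v : Fin n → F) (hv : v ≠ 0) (i : Fin n),
      (Projectivization.mk F v hv).rep i = 0 ↔ v i = 0 := by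
    intro v hv i
    obtain ⟨a, ha⟩ := Projectivization.exists_smul_eq_mk_rep F v hv
    rw [← ha, Units.smul_def, Pi.smul_apply, smul_eq_mul, mul_eq_zero]
    constructor
    · rintro (h | h)
      · exact absurd h a.ne_zero
      · exact h
    · exact Or.inr
  let QL : Projectivization F (Fin n → F) → Prop := fun x => ∀ i : Fin n, 2 ≤ i.val → x.rep i = 0
  let QH : Projectivization F (Fin n → F) → Prop := fun x => x.rep i0 ≠ 0
  let W : AddSubgroup (Fin n → F) :=
    { carrier := {v | ∀ i : Fin n, 2 ≤ i.val → v i = 0}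
      zero_mem' := by intro i _; rfl
      add_mem' := by
        intro a b ha hb i hi
        simp [ha i hi, hb i hi]
      neg_mem' := by
        intro a ha i hi
        simp [ha i hi] }
  have hWmem : ∀ v : Fin n → F, v ∈ W ↔ ∀ i : Fin n, 2 ≤ i.val → v i = 0 := fun v => Iff.rfl
  have hQL : ∀ v hv, QL (Projectivization.mk F v hv) ↔ v ∈ W := by
    intro v hv
    rw [hWmem]
    constructor
    · intro h i hi
      exact (hrep v hv i).1 (h i hi)
    · intro h i hi
      exact (hrep v hv i).2 (h i hi)
  have hQH : ∀ v hv, QH (Projectivization.mk F v hv) ↔ v i0 ≠ 0 := by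
    intro v hv
    exact not_congr (hrep v hv i0)
  have he0W : e0 ∈ W := by
    intro i hi
    have : i ≠ i0 := by
      intro h; rw [h] at hi; simp [i0] at hi
    simp [e0, Pi.single_apply, this]
  have he1W : e1 ∈ W := by
    intro i hi
    have : i ≠ i1 := by
      intro h; rw [h] at hi; simp [i1] at hi
    simp [e1, Pi.single_apply, this]
  have hy'L : ¬ QL y' := by
    intro h
    have := (hQL e2 he2).1 h i2 (le_refl _)
    simp [e2] at this
  have hyH : QH y := by
    rw [hQH]
    simp [e0]
  -- the double count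
  have key := double_count S y y' {x | QL x} {x | QH x ∧ x ≠ y}
    (by
      intro x hx z hz
      have hxy : x ≠ y' := by
        rintro rfl
        exact hy'L hx
      exact h2 x y' z y hxy hz.2) p
    (by
      intro s hsS hsy
      obtain ⟨σ, f, hf, hs⟩ := hS s hsS
      let K : AddSubgroup (Fin n → F) :=
        { carrier := {v | f v i0 = 0}
          zero_mem' := by simp
          add_mem' := by
            intro a b ha hb
            simp only [Set.mem_ofPred_eq] at ha hb ⊢
            rw [map_add, Pi.add_apply, ha, hb, add_zero]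
          neg_mem' := by
            intro a ha
            simp only [Set.mem_ofPred_eq] at ha ⊢
            rw [map_neg, Pi.neg_apply, ha, neg_zero] }
      have hKmem : ∀ v : Fin n → F, v ∈ K ↔ f v i0 = 0 := fun v => Iff.rfl
      have e : {x : Projectivization F (Fin n → F) //
            x ∈ {x | QL x} ∧ s x ∈ {x | QH x ∧ x ≠ y}}
          ≃ {x : Projectivization F (Fin n → F) // QL x ∧ QH (Projectivization.map f hf x)} := by
        refine Equiv.subtypeEquivRight ?_
        intro x
        simp only [Set.mem_ofPred_eq]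
        rw [hs x]
        constructor
        · rintro ⟨h1, h3, -⟩
          exact ⟨h1, h3⟩
        · rintro ⟨h1, h3⟩
          refine ⟨h1, h3, ?_⟩
          intro h4
          rw [← hs x, ← hsy] at h4
          have := s.injective h4
          rw [this] at h1
          exact hy'L h1
      rw [Nat.card_congr e]
      apply p_dvd_points p hp W K
      · -- a nonzero vector of W in K, by pigeonhole
        have : Fintype F := Fintype.ofFinite F
        have hcard : Fintype.card F < Fintype.card (F × F) := by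
          rw [Fintype.card_prod]
          have : 1 < Fintype.card F := Fintype.one_lt_card
          nlinarith
        obtain ⟨⟨a, b⟩, ⟨a', b'⟩, hne, heq⟩ := Fintype.exists_ne_map_eq_of_card_lt
          (fun ab : F × F => f (ab.1 • e0 + ab.2 • e1) i0) hcard
        simp only at heq
        refine ⟨(a • e0 + b • e1) - (a' • e0 + b' • e1), ?_, ?_, ?_⟩
        · exact W.sub_mem (W.add_mem (by
            intro i hi; simp [Pi.smul_apply, he0W i hi])
            (by intro i hi; simp [Pi.smul_apply, he1W i hi]))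
            (W.add_mem (by intro i hi; simp [Pi.smul_apply, he0W i hi])
            (by intro i hi; simp [Pi.smul_apply, he1W i hi]))
        · rw [hKmem, map_sub, Pi.sub_apply, heq, sub_self]
        · intro h
          apply hne
          have h0 := congrFun h i0
          have h1 := congrFun h i1
          simp [e0, e1, Pi.single_apply, h01, h01.symm] at h0 h1
          rw [Prod.mk.injEq]
          exact ⟨sub_eq_zero.1 h0, sub_eq_zero.1 h1⟩
      · intro v hv
        rw [Projectivization.map_mk, hQL, hQH, hKmem])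
  -- the two factors are prime to p
  have hL : ¬ p ∣ Nat.card {x : Projectivization F (Fin n → F) // QL x} :=
    p_not_dvd_points p hp W ⟨e0, he0W, he0⟩ QL hQL
  have hH : p ∣ Nat.card {x : Projectivization F (Fin n → F) // QH x} := by
    let K0 : AddSubgroup (Fin n → F) :=
      { carrier := {v | v i0 = 0}
        zero_mem' := by simp
        add_mem' := by
          intro a b ha hb
          simp only [Set.mem_ofPred_eq] at ha hb ⊢
          rw [Pi.add_apply, ha, hb, add_zero]
        neg_mem' := by
          intro a ha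
          simp only [Set.mem_ofPred_eq] at ha ⊢
          rw [Pi.neg_apply, ha, neg_zero] }
    apply p_dvd_points p hp ⊤ K0
    · refine ⟨e1, trivial, ?_, he1⟩
      show e1 i0 = 0
      simp [e1, Pi.single_apply, h01]
    · intro v hv
      rw [hQH]
      constructor
      · intro h; exact ⟨trivial, h⟩
      · intro h; exact h.2
  have hA : ¬ p ∣ Nat.card {x : Projectivization F (Fin n → F) // QH x ∧ x ≠ y} := by
    intro h
    have h1 := card_ne_add_one QH y hyH
    rw [h1] at hH
    have := (Nat.dvd_add_right h).1 hH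
    exact hp.one_lt.ne' (Nat.dvd_one.1 this)
  rcases (Nat.Prime.dvd_mul hp).1 key with h | h
  · exact hL h
  · exact hA h

/-- Let `F` be a finite field and `n ≥ 3`. No set of permutations of the points of the projective space of `Fⁿ`, each induced by an invertible semilinear transformation of `Fⁿ` (so a subset of the full projective semilinear group), is sharply 2-transitive on the points: it is impossible that for all pairs of distinct points `(a, b)` and `(c, d)` exactly one member of the set sends `a` to `c` and `b` to `d`. -/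
theorem result {F : Type*} [Field F] [Finite F]
    (n : ℕ) (hn : 3 ≤ n) (S : Set (Equiv.Perm (Projectivization F (Fin n → F))))
    (hS : ∀ s ∈ S, ∃ (σ : F ≃+* F) (f : (Fin n → F) →ₛₗ[(σ : F →+* F)] (Fin n → F)) (hf : Function.Injective f),
      ∀ x, s x = Projectivization.map f hf x) :
    ¬ (∀ a b c d : Projectivization F (Fin n → F), a ≠ b → c ≠ d →
        ∃! s, s ∈ S ∧ s a = c ∧ s b = d) := by
  exact main n hn S hS

end Cfsg.Agent.S2531
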