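import Cfsg.Statements.S2532

set_option autoImplicit false
open Cfsg

namespace Cfsg.Agent.S2532

open Equiv MulAction

section LemmaA

variable {G : Type*} [Group G] {Ω : Type*} [MulAction G Ω]
  (S : Subgroup G) {r : ℕ} (x : Fin r → Ω) (hS : ∀ i, stabilizer G (x i) = S)

/-- the equivariant map `(G/S) × Fin r → Ω`, `(gS, i) ↦ g • x i` -/
def iota (hS : ∀ i, stabilizer G (x i) = S) : (G ⧸ S) × Fin r → Ω := fun p =>
  Quotient.liftOn' p.1 (fun g => g • x p.2) (by
    intro a b hab
    have hab' : a⁻¹ * b ∈ S := QuotientGroup.leftRel_apply.mp hab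
    rw [← hS p.2, mem_stabilizer_iff, mul_smul, inv_smul_eq_iff] at hab'
    exact hab'.symm)

theorem iota_mk (g : G) (i : Fin r) : iota S x hS ((g : G ⧸ S), i) = g • x i := rfl

theorem iota_smul (g : G) (p : (G ⧸ S) × Fin r) :
    g • iota S x hS p = iota S x hS (g • p.1, p.2) := by
  obtain ⟨q, i⟩ := p
  induction q using QuotientGroup.induction_on with
  | H h =>
    change g • iota S x hS ((h : G ⧸ S), i) = iota S x hS (((g * h : G) : G ⧸ S), i)
    rw [iota_mk, iota_mk, mul_smul]

theorem iota_injective (hx : ∀ i j, i ≠ j → x i ∉ orbit G (x j)) :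
    Function.Injective (iota S x hS) := by
  rintro ⟨q₁, i⟩ ⟨q₂, j⟩ h
  induction q₁ using QuotientGroup.induction_on with
  | H g =>
  induction q₂ using QuotientGroup.induction_on with
  | H k =>
  rw [iota_mk, iota_mk] at h
  have hij : i = j := by
    by_contra hne
    apply hx i j hne
    refine ⟨g⁻¹ * k, ?_⟩
    change (g⁻¹ * k) • x j = x i
    rw [mul_smul, ← h, inv_smul_smul]
  subst hij
  have : g⁻¹ * k ∈ S := by
    rw [← hS i, mem_stabilizer_iff, mul_smul, ← h, inv_smul_smul]
  have hq : (g : G ⧸ S) = (k : G ⧸ S) := QuotientGroup.eq.mpr this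
  rw [hq]

/-- `σ ↦ id × σ` as a group hom -/
def prodHom (T : Type*) (r : ℕ) : Perm (Fin r) →* Perm (T × Fin r) where
  toFun σ := Equiv.prodCongrRight (fun _ => σ)
  map_one' := by ext p <;> simp
  map_mul' σ τ := by ext p <;> simp

theorem prodHom_apply (T : Type*) (r : ℕ) (σ : Perm (Fin r)) (p : T × Fin r) :
    prodHom T r σ p = (p.1, σ p.2) := rfl

variable [DecidablePred fun y => y ∈ Set.range (iota S x hS)]

/-- the embedding of `Perm (Fin r)` into `Perm Ω` permuting `r` isomorphic orbits -/
noncomputable def Phi (hx : ∀ i j, i ≠ j → x i ∉ orbit G (x j)) : Perm (Fin r) →* Perm Ω :=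
  (Equiv.Perm.extendDomainHom (Equiv.ofInjective (iota S x hS) (iota_injective S x hS hx))).comp
    (prodHom (G ⧸ S) r)

theorem Phi_injective (hx : ∀ i j, i ≠ j → x i ∉ orbit G (x j)) :
    Function.Injective (Phi S x hS hx) := by
  unfold Phi
  rw [MonoidHom.coe_comp]
  apply Function.Injective.comp (Equiv.Perm.extendDomainHom_injective _)
  intro σ τ h
  by_cases hne : Nonempty (G ⧸ S)
  · obtain ⟨q⟩ := hne
    ext i
    have := congrArg (fun e => (e (q, i)).2) h
    simp only [prodHom_apply] at this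
    rw [this]
  · exact absurd ⟨((1 : G) : G ⧸ S)⟩ hne

theorem Phi_iota (hx : ∀ i j, i ≠ j → x i ∉ orbit G (x j)) (σ : Perm (Fin r))
    (p : (G ⧸ S) × Fin r) :
    Phi S x hS hx σ (iota S x hS p) = iota S x hS (p.1, σ p.2) := by
  unfold Phi
  rw [MonoidHom.comp_apply, Equiv.Perm.extendDomainHom_apply]
  have := Equiv.Perm.extendDomain_apply_image (prodHom (G ⧸ S) r σ)
    (Equiv.ofInjective (iota S x hS) (iota_injective S x hS hx)) p
  simp only [Equiv.ofInjective_apply] at this
  rw [this, prodHom_apply]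

theorem Phi_not_range (hx : ∀ i j, i ≠ j → x i ∉ orbit G (x j)) (σ : Perm (Fin r))
    (y : Ω) (hy : y ∉ Set.range (iota S x hS)) :
    Phi S x hS hx σ y = y := by
  unfold Phi
  rw [MonoidHom.comp_apply, Equiv.Perm.extendDomainHom_apply]
  exact Equiv.Perm.extendDomain_apply_not_subtype _ _ hy

theorem Phi_smul (hx : ∀ i j, i ≠ j → x i ∉ orbit G (x j)) (σ : Perm (Fin r)) (g : G) (y : Ω) :
    Phi S x hS hx σ (g • y) = g • Phi S x hS hx σ y := by
  by_cases hy : y ∈ Set.range (iota S x hS)
  · obtain ⟨p, rfl⟩ := hy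
    rw [iota_smul, Phi_iota, Phi_iota, iota_smul]
  · have hy' : g • y ∉ Set.range (iota S x hS) := by
      rintro ⟨p, hp⟩
      apply hy
      refine ⟨(g⁻¹ • p.1, p.2), ?_⟩
      rw [← iota_smul, hp, inv_smul_smul]
    rw [Phi_not_range S x hS hx σ y hy, Phi_not_range S x hS hx σ _ hy']

theorem Phi_sign [DecidableEq Ω] [Fintype Ω] [Finite G] (hx : ∀ i j, i ≠ j → x i ∉ orbit G (x j))
    (σ : Perm (Fin r)) (hσ : Equiv.Perm.sign σ = 1) :
    Equiv.Perm.sign (Phi S x hS hx σ) = 1 := by
  have : Fintype (G ⧸ S) := Fintype.ofFinite _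
  have : DecidableEq (G ⧸ S) := Classical.decEq _
  unfold Phi
  rw [MonoidHom.comp_apply, Equiv.Perm.extendDomainHom_apply, Equiv.Perm.sign_extendDomain]
  change Equiv.Perm.sign (Equiv.prodCongrRight (fun _ : G ⧸ S => σ)) = 1
  rw [Equiv.Perm.sign_prodCongrRight]
  simp [hσ]

end LemmaA

section LemmaB

variable {G : Type*} [Group G] [Finite G] {Ω : Type*} [Fintype Ω] [MulAction G Ω]

theorem card_le_mul_card_orbits [Fintype (orbitRel.Quotient G Ω)] :
    Fintype.card Ω ≤ Nat.card G * Fintype.card (orbitRel.Quotient G Ω) := by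
  classical
  have : Fintype G := Fintype.ofFinite G
  rw [Nat.card_eq_fintype_card]
  have h := Finset.card_le_mul_card_image (s := (Finset.univ : Finset Ω))
    (f := (Quotient.mk'' : Ω → orbitRel.Quotient G Ω)) (Fintype.card G) (by
      intro b _
      have hsub : (Finset.univ.filter fun a : Ω => (Quotient.mk'' a : orbitRel.Quotient G Ω) = b) ⊆
          Finset.univ.image (fun g : G => g • (Quotient.out b : Ω)) := by
        intro a ha
        rw [Finset.mem_filter] at ha
        have h1 : (Quotient.mk'' a : orbitRel.Quotient G Ω) = Quotient.mk'' (Quotient.out b) := by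
          rw [ha.2]; exact (Quotient.out_eq' b).symm
        have h2 : a ∈ orbit G (Quotient.out b : Ω) := by
          have := Quotient.eq''.mp h1
          exact (orbitRel_apply).mp this
        obtain ⟨g, hg⟩ := h2
        exact Finset.mem_image.mpr ⟨g, Finset.mem_univ _, hg⟩
      exact (Finset.card_le_card hsub).trans Finset.card_image_le)
  calc Fintype.card Ω = (Finset.univ : Finset Ω).card := rfl
    _ ≤ Fintype.card G * (Finset.univ.image (Quotient.mk'' : Ω → orbitRel.Quotient G Ω)).card := h
    _ ≤ Fintype.card G * Fintype.card (orbitRel.Quotient G Ω) :=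
        Nat.mul_le_mul_left _ (Finset.card_le_univ _)

theorem card_subgroup_le : Nat.card (Subgroup G) ≤ 2 ^ Nat.card G := by
  classical
  have : Fintype G := Fintype.ofFinite G
  have : Fintype (Subgroup G) := Fintype.ofFinite _
  rw [Nat.card_eq_fintype_card, Nat.card_eq_fintype_card, ← Fintype.card_set]
  exact Fintype.card_le_of_injective (fun H : Subgroup G => (H : Set G)) SetLike.coe_injective

theorem exists_points (r : ℕ) (h : Nat.card G * 2 ^ Nat.card G * r ≤ Fintype.card Ω) :
    ∃ (S : Subgroup G) (x : Fin r → Ω), (∀ i, stabilizer G (x i) = S) ∧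
      ∀ i j, i ≠ j → x i ∉ orbit G (x j) := by
  classical
  have : Fintype (orbitRel.Quotient G Ω) := Fintype.ofFinite _
  have : Fintype (Subgroup G) := Fintype.ofFinite _
  have hn : 0 < Nat.card G := Nat.card_pos
  have h1 := card_le_mul_card_orbits (G := G) (Ω := Ω)
  have h2 : 2 ^ Nat.card G * r ≤ Fintype.card (orbitRel.Quotient G Ω) := by
    have : Nat.card G * (2 ^ Nat.card G * r) ≤ Nat.card G * Fintype.card (orbitRel.Quotient G Ω) := by
      rw [← mul_assoc]; exact h.trans h1
    exact Nat.le_of_mul_le_mul_left this hn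
  have h3 : Fintype.card (Subgroup G) * r ≤ Fintype.card (orbitRel.Quotient G Ω) := by
    refine le_trans (Nat.mul_le_mul_right r ?_) h2
    rw [← Nat.card_eq_fintype_card]; exact card_subgroup_le
  obtain ⟨S, hS⟩ := Fintype.exists_le_card_fiber_of_mul_le_card
    (f := fun q : orbitRel.Quotient G Ω => stabilizer G (Quotient.out q : Ω)) h3
  have h4 : Fintype.card (Fin r) ≤
      Fintype.card {q : orbitRel.Quotient G Ω // stabilizer G (Quotient.out q : Ω) = S} := by
    rw [Fintype.card_fin, Fintype.card_subtype]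
    exact hS
  obtain ⟨e⟩ := Function.Embedding.nonempty_of_card_le h4
  refine ⟨S, fun i => Quotient.out (e i).1, fun i => (e i).2, ?_⟩
  intro i j hij hmem
  apply hij
  apply e.injective
  apply Subtype.ext
  have h5 : (Quotient.mk'' (Quotient.out (e i).1) : orbitRel.Quotient G Ω) =
      Quotient.mk'' (Quotient.out (e j).1) := Quotient.eq''.mpr (orbitRel_apply.mpr hmem)
  rw [Quotient.out_eq', Quotient.out_eq'] at h5
  exact h5

end LemmaB

section Final

variable {m r : ℕ} (H : Subgroup ↥(alternatingGroup (Fin m))) (S : Subgroup H) (x : Fin r → Fin m)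
  (hS : ∀ i, stabilizer H (x i) = S) (hx : ∀ i j, i ≠ j → x i ∉ orbit H (x j))

open Classical in
/-- the embedding of `A_r` into `A_m` -/
noncomputable def Psi : alternatingGroup (Fin r) →* alternatingGroup (Fin m) :=
  ((Phi S x hS hx).comp (alternatingGroup (Fin r)).subtype).codRestrict (alternatingGroup (Fin m))
    (fun σ => Equiv.Perm.mem_alternatingGroup.mpr
      (Phi_sign S x hS hx σ.1 (Equiv.Perm.mem_alternatingGroup.mp σ.2)))

open Classical in
theorem Psi_coe (σ : alternatingGroup (Fin r)) :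
    ((Psi H S x hS hx σ : alternatingGroup (Fin m)) : Perm (Fin m)) = Phi S x hS hx σ.1 := rfl

theorem Psi_injective : Function.Injective (Psi H S x hS hx) := by
  classical
  intro σ τ h
  have h1 : Phi S x hS hx σ.1 = Phi S x hS hx τ.1 := by
    rw [← Psi_coe, ← Psi_coe, h]
  exact Subtype.ext (Phi_injective S x hS hx h1)

theorem smul_def' (h : H) (y : Fin m) : h • y = ((h : alternatingGroup (Fin m)) : Perm (Fin m)) y := rfl

theorem Psi_comm (σ : alternatingGroup (Fin r)) (h : alternatingGroup (Fin m)) (hh : h ∈ H) :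
    h * Psi H S x hS hx σ = Psi H S x hS hx σ * h := by
  classical
  apply Subtype.ext
  apply Equiv.ext
  intro y
  have := Phi_smul S x hS hx σ.1 (⟨h, hh⟩ : H) y
  rw [smul_def', smul_def'] at this
  rw [Subgroup.coe_mul, Subgroup.coe_mul, Equiv.Perm.mul_apply, Equiv.Perm.mul_apply, Psi_coe]
  exact this.symm

end Final

/-- There is a function `f` of two natural-number arguments such that, whenever `m ≥ f(n, r)`, every subgroup of order `n` of the alternating group of degree `m` centralizes some subgroup of that alternating group isomorphic to the alternating group of degree `r`. -/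
theorem result :
    ∃ f : ℕ → ℕ → ℕ, ∀ (m r : ℕ) (H : Subgroup ↥(alternatingGroup (Fin m))), f (Nat.card H) r ≤ m →
      ∃ K : Subgroup ↥(alternatingGroup (Fin m)), Nonempty (↥K ≃* ↥(alternatingGroup (Fin r))) ∧
        K ≤ Subgroup.centralizer (H : Set ↥(alternatingGroup (Fin m))) := by
  refine ⟨fun n r => n * 2 ^ n * r, ?_⟩
  intro m r H hm
  have hcard : Nat.card H * 2 ^ Nat.card H * r ≤ Fintype.card (Fin m) := by
    rw [Fintype.card_fin]; exact hm
  obtain ⟨S, x, hS, hx⟩ := exists_points (G := H) (Ω := Fin m) r hcard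
  refine ⟨(Psi H S x hS hx).range, ⟨(MonoidHom.ofInjective (Psi_injective H S x hS hx)).symm⟩, ?_⟩
  rintro k ⟨σ, rfl⟩
  rw [Subgroup.mem_centralizer_iff]
  intro h hh
  exact Psi_comm H S x hS hx σ h hh

end Cfsg.Agent.S2532
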