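import Cfsg.Statements.S2533
-- import your own Cfsg.Agent.* helpers here

set_option autoImplicit false
open Cfsg

namespace Cfsg.Agent.S2533


/-- the generalized dihedral group of an abelian group `V` -/
inductive GD (V : Type) : Type
  | r : V → GD V
  | sr : V → GD V

namespace GD

variable {V : Type} [AddCommGroup V]

/-- multiplication -/
def mul : GD V → GD V → GD V
  | r i, r j => r (i + j)
  | r i, sr j => sr (j - i)
  | sr i, r j => sr (i + j)
  | sr i, sr j => r (j - i)

/-- inverse -/
def inv : GD V → GD V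
  | r i => r (-i)
  | sr i => sr i

instance : Group (GD V) where
  mul := mul
  mul_assoc := by
    rintro (a | a) (b | b) (c | c) <;> simp only [(· * ·), mul] <;> congr 1 <;> abel
  one := r 0
  one_mul := by
    rintro (a | a)
    · exact congr_arg r (zero_add a)
    · exact congr_arg sr (sub_zero a)
  mul_one := by
    rintro (a | a)
    · exact congr_arg r (add_zero a)
    · exact congr_arg sr (add_zero a)
  inv := inv
  inv_mul_cancel := by
    rintro (a | a)
    · exact congr_arg r (neg_add_cancel a)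
    · exact congr_arg r (sub_self a)

theorem r_mul_r (i j : V) : r i * r j = r (i + j) := rfl
theorem r_mul_sr (i j : V) : r i * sr j = sr (j - i) := rfl
theorem sr_mul_r (i j : V) : sr i * r j = sr (i + j) := rfl
theorem sr_mul_sr (i j : V) : sr i * sr j = r (j - i) := rfl
theorem one_def : (1 : GD V) = r 0 := rfl

/-- the underlying set -/
def equivSum : GD V ≃ V ⊕ V where
  toFun
    | r j => .inl j
    | sr j => .inr j
  invFun
    | .inl j => r j
    | .inr j => sr j
  left_inv := by rintro (x | x) <;> rfl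
  right_inv := by rintro (x | x) <;> rfl

theorem card [Finite V] : Nat.card (GD V) = 2 * Nat.card V := by
  rw [Nat.card_congr equivSum, Nat.card_sum, two_mul]

instance [Finite V] : Finite (GD V) := Finite.of_equiv _ equivSum.symm

theorem r_pow (v : V) (k : ℕ) : (r v) ^ k = r (k • v) := by
  induction k with
  | zero => rw [pow_zero, zero_smul]; rfl
  | succ k ih => rw [pow_succ, ih, r_mul_r, succ_nsmul]

/-- homomorphisms out of the generalized dihedral group -/
def lift {G : Type*} [Group G] (M : V → G) (T : G) (hadd : ∀ v w, M (v + w) = M v * M w)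
    (hT : T * T = 1) (hconj : ∀ v, T * M v * T = M (-v)) : GD V →* G where
  toFun
    | r v => M v
    | sr v => T * M v
  map_one' := by
    show M 0 = 1
    have := hadd 0 0
    rw [add_zero] at this
    exact (mul_eq_left (a := M 0) (b := M 0)).mp this.symm
  map_mul' := by
    have hTM : ∀ v, M v * T = T * M (-v) := by
      intro v
      calc M v * T = (T * T) * M v * T := by rw [hT, one_mul]
        _ = T * (T * M v * T) := by group
        _ = T * M (-v) := by rw [hconj]
    rintro (a | a) (b | b)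
    · exact hadd a b
    · show T * M (b - a) = M a * (T * M b)
      rw [← mul_assoc, hTM, mul_assoc, ← hadd, neg_add_eq_sub]
    · show T * M (a + b) = T * M a * M b
      rw [hadd, mul_assoc]
    · show M (b - a) = T * M a * (T * M b)
      rw [mul_assoc T (M a), ← mul_assoc (M a), hTM, mul_assoc T (M (-a)), ← hadd, ← mul_assoc, hT,
        one_mul, neg_add_eq_sub]

theorem lift_r {G : Type*} [Group G] (M : V → G) (T : G) (hadd : ∀ v w, M (v + w) = M v * M w)
    (hT : T * T = 1) (hconj : ∀ v, T * M v * T = M (-v)) (v : V) :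
    lift M T hadd hT hconj (r v) = M v := rfl

theorem lift_sr {G : Type*} [Group G] (M : V → G) (T : G) (hadd : ∀ v w, M (v + w) = M v * M w)
    (hT : T * T = 1) (hconj : ∀ v, T * M v * T = M (-v)) (v : V) :
    lift M T hadd hT hconj (sr v) = T * M v := rfl

end GD



section generic

variable {S : Type*} [Group S] {H : Type*} [Group H]

/-- injectivity modulo the centre -/
theorem injective_mk_comp (φ₀ : H →* S) (h1 : ∀ h, φ₀ h ∈ Subgroup.center S → h = 1) :
    Function.Injective ((QuotientGroup.mk' (Subgroup.center S)).comp φ₀) := by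
  rw [injective_iff_map_eq_one]
  intro h hh
  apply h1
  rw [MonoidHom.comp_apply, QuotientGroup.mk'_apply, QuotientGroup.eq_one_iff] at hh
  exact hh

/-- trivial centralizer modulo the centre -/
theorem centralizer_mk_comp (φ₀ : H →* S)
    (h2 : ∀ g : S, (∀ h : H, g * φ₀ h * g⁻¹ * (φ₀ h)⁻¹ ∈ Subgroup.center S) →
      g ∈ Subgroup.center S) :
    Subgroup.centralizer
      ((((QuotientGroup.mk' (Subgroup.center S)).comp φ₀).range : Subgroup (S ⧸ Subgroup.center S)) :
        Set (S ⧸ Subgroup.center S)) = ⊥ := by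
  rw [eq_bot_iff]
  intro x hx
  rw [Subgroup.mem_bot]
  obtain ⟨g, rfl⟩ := QuotientGroup.mk'_surjective (Subgroup.center S) x
  rw [QuotientGroup.mk'_apply, QuotientGroup.eq_one_iff]
  apply h2
  intro h
  rw [Subgroup.mem_centralizer_iff] at hx
  have := hx ((QuotientGroup.mk' (Subgroup.center S)) (φ₀ h)) ⟨h, rfl⟩
  rw [← map_mul, ← map_mul] at this
  have h3 : (QuotientGroup.mk' (Subgroup.center S)) (g * φ₀ h * g⁻¹ * (φ₀ h)⁻¹) = 1 := by
    have e : g * φ₀ h * g⁻¹ * (φ₀ h)⁻¹ = (g * φ₀ h) * (φ₀ h * g)⁻¹ := by group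
    rw [e, map_mul, map_inv, this, mul_inv_cancel]
  rw [QuotientGroup.mk'_apply, QuotientGroup.eq_one_iff] at h3
  exact h3

/-- centres correspond under isomorphisms -/
theorem mem_center_mulEquiv {S' : Type*} [Group S'] (e : S ≃* S') {x : S} :
    e x ∈ Subgroup.center S' ↔ x ∈ Subgroup.center S := by
  rw [Subgroup.mem_center_iff, Subgroup.mem_center_iff]
  constructor
  · intro h y
    apply e.injective
    rw [map_mul, map_mul]
    exact h (e y)
  · intro h y
    obtain ⟨y', rfl⟩ := e.surjective y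
    rw [← map_mul, ← map_mul, h y']

end generic

section reindex

open Matrix

variable {ι κ : Type*} [Fintype ι] [DecidableEq ι] [Fintype κ] [DecidableEq κ]
  (R : Type*) [CommRing R]

/-- reindexing special linear groups -/
def slReindex (e : ι ≃ κ) : SpecialLinearGroup ι R ≃* SpecialLinearGroup κ R where
  toFun A := ⟨Matrix.reindex e e A.1, by rw [Matrix.det_reindex_self]; exact A.2⟩
  invFun A := ⟨Matrix.reindex e.symm e.symm A.1, by rw [Matrix.det_reindex_self]; exact A.2⟩
  left_inv A := by
    apply Subtype.ext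
    ext i j
    simp
  right_inv A := by
    apply Subtype.ext
    ext i j
    simp
  map_mul' A B := by
    apply Subtype.ext
    show Matrix.reindex e e (A.1 * B.1) = Matrix.reindex e e A.1 * Matrix.reindex e e B.1
    simp only [Matrix.reindex_apply]
    rw [Matrix.submatrix_mul_equiv]

end reindex



section matrices

open Matrix

variable (m : ℕ) (R : Type*) [CommRing R]

/-- `e_j ↦ f_j` -/
def matA : Matrix (Fin (m + 1)) (Fin m) R := fun i j => if i = j.castSucc then 1 else 0

/-- `e_j ↦ f_{j+1}` -/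
def matB : Matrix (Fin (m + 1)) (Fin m) R := fun i j => if i = j.succ then 1 else 0

/-- `e_0 ↦ f_m` -/
def matC : Matrix (Fin (m + 1)) (Fin m) R :=
  fun i j => if (j : ℕ) = 0 ∧ i = Fin.last m then 1 else 0

/-- the linear combination -/
def matL (v : Fin 3 → R) : Matrix (Fin (m + 1)) (Fin m) R :=
  v 0 • matA m R + v 1 • matB m R + v 2 • matC m R

theorem matL_add (v w : Fin 3 → R) : matL m R (v + w) = matL m R v + matL m R w := by
  unfold matL
  simp only [Pi.add_apply, add_smul]
  abel

theorem matL_neg (v : Fin 3 → R) : matL m R (-v) = -matL m R v := by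
  unfold matL
  simp only [Pi.neg_apply, neg_smul]
  abel

/-- the unipotent matrices -/
def matM (v : Fin 3 → R) : Matrix (Fin m ⊕ Fin (m + 1)) (Fin m ⊕ Fin (m + 1)) R :=
  fromBlocks 1 0 (matL m R v) 1

/-- the involution -/
def matT : Matrix (Fin m ⊕ Fin (m + 1)) (Fin m ⊕ Fin (m + 1)) R :=
  fromBlocks 1 0 0 (-1)

theorem matM_mul (v w : Fin 3 → R) : matM m R v * matM m R w = matM m R (v + w) := by
  unfold matM
  rw [fromBlocks_multiply, matL_add]
  simp

theorem matT_mul_self : matT m R * matT m R = 1 := by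
  unfold matT
  rw [fromBlocks_multiply]
  simp

theorem matT_conj (v : Fin 3 → R) : matT m R * matM m R v * matT m R = matM m R (-v) := by
  unfold matT matM
  rw [fromBlocks_multiply, fromBlocks_multiply, matL_neg]
  simp

theorem det_matM (v : Fin 3 → R) : (matM m R v).det = 1 := by
  unfold matM
  rw [det_fromBlocks_zero₁₂]
  simp

theorem det_matT (hm : Odd m) : (matT m R).det = 1 := by
  unfold matT
  rw [det_fromBlocks_zero₁₂, det_neg]
  simp only [det_one, mul_one, one_mul, Fintype.card_fin]
  exact Even.neg_one_pow hm.add_one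

theorem trace_matT : (matT m R).trace = -1 := by
  unfold matT
  simp only [Matrix.trace, Matrix.diag, Fintype.sum_sum_type, fromBlocks_apply₁₁,
    fromBlocks_apply₂₂, Matrix.one_apply_eq, Matrix.neg_apply, Finset.sum_const, Finset.card_univ,
    Fintype.card_fin]
  simp only [nsmul_eq_mul, mul_one, mul_neg, Nat.cast_add, Nat.cast_one]
  ring

variable {m R}

theorem mul_matA (O : Matrix (Fin (m + 1)) (Fin (m + 1)) R) (i : Fin (m + 1)) (j : Fin m) :
    (O * matA m R) i j = O i j.castSucc := by
  simp [Matrix.mul_apply, matA]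

theorem mul_matB (O : Matrix (Fin (m + 1)) (Fin (m + 1)) R) (i : Fin (m + 1)) (j : Fin m) :
    (O * matB m R) i j = O i j.succ := by
  simp [Matrix.mul_apply, matB]

theorem matA_mul_castSucc (P : Matrix (Fin m) (Fin m) R) (k j : Fin m) :
    (matA m R * P) k.castSucc j = P k j := by
  simp [Matrix.mul_apply, matA]

theorem matA_mul_last (P : Matrix (Fin m) (Fin m) R) (j : Fin m) :
    (matA m R * P) (Fin.last m) j = 0 := by
  simp only [Matrix.mul_apply, matA]
  apply Finset.sum_eq_zero
  intro k _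
  rw [if_neg (Fin.castSucc_lt_last k).ne', zero_mul]

theorem matB_mul_succ (P : Matrix (Fin m) (Fin m) R) (k j : Fin m) :
    (matB m R * P) k.succ j = P k j := by
  simp [Matrix.mul_apply, matB]

theorem matB_mul_zero (P : Matrix (Fin m) (Fin m) R) (j : Fin m) :
    (matB m R * P) 0 j = 0 := by
  simp only [Matrix.mul_apply, matB]
  apply Finset.sum_eq_zero
  intro k _
  rw [if_neg (Fin.succ_ne_zero k).symm, zero_mul]

/-- the Kronecker module has only scalar endomorphisms -/
theorem scalar_of_intertwine (P : Matrix (Fin m) (Fin m) R)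
    (O : Matrix (Fin (m + 1)) (Fin (m + 1)) R)
    (hA : O * matA m R = matA m R * P) (hB : O * matB m R = matB m R * P) :
    O = O 0 0 • (1 : Matrix (Fin (m + 1)) (Fin (m + 1)) R) ∧
      P = O 0 0 • (1 : Matrix (Fin m) (Fin m) R) := by
  have h1 : ∀ k j : Fin m, O k.castSucc j.castSucc = P k j := by
    intro k j
    rw [← mul_matA O, hA, matA_mul_castSucc]
  have h2 : ∀ j : Fin m, O (Fin.last m) j.castSucc = 0 := by
    intro j
    rw [← mul_matA O, hA, matA_mul_last]
  have h3 : ∀ k j : Fin m, O k.succ j.succ = P k j := by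
    intro k j
    rw [← mul_matB O, hB, matB_mul_succ]
  have h4 : ∀ j : Fin m, O 0 j.succ = 0 := by
    intro j
    rw [← mul_matB O, hB, matB_mul_zero]
  -- above the diagonal
  have up : ∀ i j : Fin (m + 1), i < j → O i j = 0 := by
    intro i
    induction i using Fin.induction with
    | zero =>
      intro j hj
      obtain ⟨j', rfl⟩ := Fin.exists_succ_eq.mpr (Fin.pos_iff_ne_zero.mp hj)
      exact h4 j'
    | succ k ih =>
      intro j hj
      have hj0 : j ≠ 0 := by
        intro h
        rw [h] at hj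
        exact absurd hj (Fin.not_lt_zero _)
      obtain ⟨j', rfl⟩ := Fin.exists_succ_eq.mpr hj0
      rw [h3, ← h1]
      apply ih
      rw [Fin.succ_lt_succ_iff] at hj
      exact Fin.castSucc_lt_castSucc_iff.mpr hj
  -- below the diagonal
  have down : ∀ i j : Fin (m + 1), j < i → O i j = 0 := by
    intro i
    induction i using Fin.reverseInduction with
    | last =>
      intro j hj
      obtain ⟨j', rfl⟩ := Fin.exists_castSucc_eq.mpr hj.ne
      exact h2 j'
    | cast k ih =>
      intro j hj
      have hjl : j ≠ Fin.last m := by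
        intro h
        rw [h] at hj
        exact absurd hj (not_lt.mpr (Fin.le_last _))
      obtain ⟨j', rfl⟩ := Fin.exists_castSucc_eq.mpr hjl
      rw [h1, ← h3]
      apply ih
      rw [Fin.castSucc_lt_castSucc_iff] at hj
      exact Fin.succ_lt_succ_iff.mpr hj
  -- the diagonal
  have diag : ∀ i : Fin (m + 1), O i i = O 0 0 := by
    intro i
    induction i using Fin.induction with
    | zero => rfl
    | succ k ih => rw [h3, ← h1]; exact ih
  have hO : O = O 0 0 • (1 : Matrix (Fin (m + 1)) (Fin (m + 1)) R) := by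
    ext i j
    rw [Matrix.smul_apply, Matrix.one_apply, smul_eq_mul]
    rcases lt_trichotomy i j with h | h | h
    · rw [up i j h, if_neg h.ne, mul_zero]
    · rw [h, if_pos rfl, mul_one, diag]
    · rw [down i j h, if_neg h.ne', mul_zero]
  refine ⟨hO, ?_⟩
  ext k j
  rw [← h1, Matrix.smul_apply, Matrix.one_apply, smul_eq_mul]
  by_cases hkj : k = j
  · rw [hkj, if_pos rfl, mul_one, diag]
  · rw [if_neg hkj, mul_zero]
    rcases lt_or_gt_of_ne hkj with h | h
    · exact up _ _ (Fin.castSucc_lt_castSucc_iff.mpr h)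
    · exact down _ _ (Fin.castSucc_lt_castSucc_iff.mpr h)


theorem matL_e0 : matL m R ![1, 0, 0] = matA m R := by
  unfold matL
  simp

theorem matL_e1 : matL m R ![0, 1, 0] = matB m R := by
  unfold matL
  simp

/-- matrices commuting with the involution are block diagonal -/
theorem blocks_of_comm_T (h2 : ∀ x : R, x = -x → x = 0)
    (G : Matrix (Fin m ⊕ Fin (m + 1)) (Fin m ⊕ Fin (m + 1)) R)
    (h : G * matT m R = matT m R * G) :
    G = fromBlocks G.toBlocks₁₁ 0 0 G.toBlocks₂₂ := by
  have hG := (fromBlocks_toBlocks G).symm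
  rw [hG] at h
  unfold matT at h
  rw [fromBlocks_multiply, fromBlocks_multiply] at h
  simp only [Matrix.mul_zero, Matrix.zero_mul, Matrix.mul_one, Matrix.one_mul, Matrix.mul_neg,
    Matrix.neg_mul, add_zero, zero_add] at h
  rw [fromBlocks_inj] at h
  obtain ⟨_, h12, h21, _⟩ := h
  have z12 : G.toBlocks₁₂ = 0 := by
    ext i j
    apply h2
    have := congrFun (congrFun h12 i) j
    rw [Matrix.neg_apply] at this
    exact this.symm
  have z21 : G.toBlocks₂₁ = 0 := by
    ext i j
    apply h2
    have := congrFun (congrFun h21 i) j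
    rw [Matrix.neg_apply] at this
    exact this
  rw [hG, z12, z21]
  simp

/-- block diagonal matrices commuting with the unipotent matrices intertwine -/
theorem intertwine_of_comm_M (P : Matrix (Fin m) (Fin m) R)
    (O : Matrix (Fin (m + 1)) (Fin (m + 1)) R) (v : Fin 3 → R)
    (h : fromBlocks P 0 0 O * matM m R v = matM m R v * fromBlocks P 0 0 O) :
    O * matL m R v = matL m R v * P := by
  unfold matM at h
  rw [fromBlocks_multiply, fromBlocks_multiply] at h
  simp only [Matrix.mul_zero, Matrix.zero_mul, Matrix.mul_one, Matrix.one_mul, add_zero,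
    zero_add] at h
  rw [fromBlocks_inj] at h
  exact h.2.2.1

/-- matrices commuting with the whole group are scalar -/
theorem scalar_of_comm (h2 : ∀ x : R, x = -x → x = 0)
    (G : Matrix (Fin m ⊕ Fin (m + 1)) (Fin m ⊕ Fin (m + 1)) R)
    (hT : G * matT m R = matT m R * G) (hM : ∀ v, G * matM m R v = matM m R v * G) :
    ∃ c : R, G = c • (1 : Matrix (Fin m ⊕ Fin (m + 1)) (Fin m ⊕ Fin (m + 1)) R) := by
  have hG := blocks_of_comm_T h2 G hT
  have hA := hM ![1, 0, 0]
  have hB := hM ![0, 1, 0]
  rw [hG] at hA hB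
  have hA' := intertwine_of_comm_M _ _ _ hA
  have hB' := intertwine_of_comm_M _ _ _ hB
  rw [matL_e0] at hA'
  rw [matL_e1] at hB'
  obtain ⟨hO, hP⟩ := scalar_of_intertwine _ _ hA' hB'
  refine ⟨G.toBlocks₂₂ 0 0, ?_⟩
  rw [hG]
  conv_lhs => rw [hO, hP]
  rw [← fromBlocks_one, fromBlocks_smul]
  simp

/-- faithfulness modulo scalars, unipotent part -/
theorem eq_zero_of_matM_scalar (hm : 2 ≤ m) (v : Fin 3 → R) (c : R)
    (h : matM m R v = c • (1 : Matrix (Fin m ⊕ Fin (m + 1)) (Fin m ⊕ Fin (m + 1)) R)) : v = 0 := by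
  unfold matM at h
  rw [← fromBlocks_one, fromBlocks_smul, fromBlocks_inj] at h
  have hL : matL m R v = 0 := by
    rw [h.2.2.1]; simp
  have e0 : matL m R v (⟨0, by omega⟩ : Fin m).castSucc ⟨0, by omega⟩ = v 0 := by
    unfold matL
    simp only [Matrix.add_apply, Matrix.smul_apply, smul_eq_mul]
    have a : matA m R (⟨0, by omega⟩ : Fin m).castSucc ⟨0, by omega⟩ = 1 := by
      unfold matA; rw [if_pos rfl]
    have b : matB m R (⟨0, by omega⟩ : Fin m).castSucc ⟨0, by omega⟩ = 0 := by
      unfold matB; rw [if_neg]; simp [Fin.ext_iff]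
    have c' : matC m R (⟨0, by omega⟩ : Fin m).castSucc ⟨0, by omega⟩ = 0 := by
      unfold matC; rw [if_neg]; simp [Fin.ext_iff]; omega
    rw [a, b, c']; ring
  have e1 : matL m R v (⟨0, by omega⟩ : Fin m).succ ⟨0, by omega⟩ = v 1 := by
    unfold matL
    simp only [Matrix.add_apply, Matrix.smul_apply, smul_eq_mul]
    have a : matA m R (⟨0, by omega⟩ : Fin m).succ ⟨0, by omega⟩ = 0 := by
      unfold matA; rw [if_neg]; simp [Fin.ext_iff]
    have b : matB m R (⟨0, by omega⟩ : Fin m).succ ⟨0, by omega⟩ = 1 := by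
      unfold matB; rw [if_pos rfl]
    have c' : matC m R (⟨0, by omega⟩ : Fin m).succ ⟨0, by omega⟩ = 0 := by
      unfold matC; rw [if_neg]; simp [Fin.ext_iff]; omega
    rw [a, b, c']; ring
  have e2 : matL m R v (Fin.last m) ⟨0, by omega⟩ = v 2 := by
    unfold matL
    simp only [Matrix.add_apply, Matrix.smul_apply, smul_eq_mul]
    have a : matA m R (Fin.last m) ⟨0, by omega⟩ = 0 := by
      unfold matA; rw [if_neg]; simp [Fin.ext_iff]; omega
    have b : matB m R (Fin.last m) ⟨0, by omega⟩ = 0 := by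
      unfold matB; rw [if_neg]; simp [Fin.ext_iff]; omega
    have c' : matC m R (Fin.last m) ⟨0, by omega⟩ = 1 := by
      unfold matC; rw [if_pos]; simp
    rw [a, b, c']; ring
  rw [hL] at e0 e1 e2
  funext i
  fin_cases i
  · exact e0.symm
  · exact e1.symm
  · exact e2.symm

/-- faithfulness modulo scalars, the other coset -/
theorem matT_mul_matM_ne_scalar (h1 : (1 : R) ≠ -1) (hm : 2 ≤ m) (v : Fin 3 → R) (c : R) :
    matT m R * matM m R v ≠ c • (1 : Matrix (Fin m ⊕ Fin (m + 1)) (Fin m ⊕ Fin (m + 1)) R) := by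
  intro h
  unfold matT matM at h
  rw [fromBlocks_multiply, ← fromBlocks_one, fromBlocks_smul, fromBlocks_inj] at h
  simp only [Matrix.mul_zero, Matrix.zero_mul, Matrix.mul_one, Matrix.one_mul, Matrix.neg_mul,
    add_zero, zero_add] at h
  obtain ⟨h11, _, _, h22⟩ := h
  have a1 := congrFun (congrFun h11 (⟨0, by omega⟩ : Fin m)) ⟨0, by omega⟩
  have a2 := congrFun (congrFun h22 (0 : Fin (m + 1))) 0
  simp at a1 a2
  apply h1
  rw [← a1] at a2
  exact a2.symm

end matrices


section final

open Matrix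

variable (p : ℕ) [Fact p.Prime]

/-- the unipotent elements -/
def slM (m : ℕ) (v : Fin 3 → ZMod p) : SpecialLinearGroup (Fin m ⊕ Fin (m + 1)) (ZMod p) :=
  ⟨matM m (ZMod p) v, det_matM m _ v⟩

/-- the involution -/
def slT (m : ℕ) (hm : Odd m) : SpecialLinearGroup (Fin m ⊕ Fin (m + 1)) (ZMod p) :=
  ⟨matT m (ZMod p), det_matT m _ hm⟩

/-- the representation -/
def phi0 (m : ℕ) (hm : Odd m) :
    GD (Fin 3 → ZMod p) →* SpecialLinearGroup (Fin m ⊕ Fin (m + 1)) (ZMod p) :=
  GD.lift (slM p m) (slT p m hm)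
    (fun v w => by
      apply Subtype.ext
      exact (matM_mul m (ZMod p) v w).symm)
    (by
      apply Subtype.ext
      exact matT_mul_self m (ZMod p))
    (fun v => by
      apply Subtype.ext
      exact matT_conj m (ZMod p) v)

theorem phi0_r (m : ℕ) (hm : Odd m) (v : Fin 3 → ZMod p) :
    ((phi0 p m hm (GD.r v)) : Matrix (Fin m ⊕ Fin (m + 1)) (Fin m ⊕ Fin (m + 1)) (ZMod p)) =
      matM m (ZMod p) v := rfl

theorem phi0_sr (m : ℕ) (hm : Odd m) (v : Fin 3 → ZMod p) :
    ((phi0 p m hm (GD.sr v)) : Matrix (Fin m ⊕ Fin (m + 1)) (Fin m ⊕ Fin (m + 1)) (ZMod p)) =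
      matT m (ZMod p) * matM m (ZMod p) v := rfl

theorem one_ne_neg_one (hp : p ≠ 2) : (1 : ZMod p) ≠ -1 := by
  intro h
  have h2 : ((2 : ℕ) : ZMod p) = 0 := by
    have : (1 : ZMod p) + 1 = 0 := by
      nth_rewrite 2 [h]; ring
    rw [← this]; norm_num
  rw [ZMod.natCast_eq_zero_iff] at h2
  have := (Nat.prime_dvd_prime_iff_eq (Fact.out : p.Prime) Nat.prime_two).mp h2
  exact hp this

theorem eq_zero_of_eq_neg (hp : p ≠ 2) : ∀ x : ZMod p, x = -x → x = 0 := by
  intro x hx
  have h2 : (2 : ZMod p) * x = 0 := by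
    calc (2 : ZMod p) * x = x + x := by ring
      _ = x + -x := by rw [← hx]
      _ = 0 := by ring
  rcases mul_eq_zero.mp h2 with h | h
  · exfalso
    apply one_ne_neg_one p hp
    have : (1 : ZMod p) + 1 = 0 := by rw [← h]; norm_num
    calc (1 : ZMod p) = (1 + 1) - 1 := by ring
      _ = -1 := by rw [this]; ring
  · exact h

/-- the image meets the centre trivially -/
theorem phi0_center (hp : p ≠ 2) (m : ℕ) (hm : Odd m) (hm2 : 2 ≤ m) (h : GD (Fin 3 → ZMod p))
    (hc : phi0 p m hm h ∈ Subgroup.center (SpecialLinearGroup (Fin m ⊕ Fin (m + 1)) (ZMod p))) :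
    h = 1 := by
  rw [Matrix.SpecialLinearGroup.mem_center_iff] at hc
  obtain ⟨c, _, hc⟩ := hc
  have hsc : (scalar (Fin m ⊕ Fin (m + 1))) c =
      c • (1 : Matrix (Fin m ⊕ Fin (m + 1)) (Fin m ⊕ Fin (m + 1)) (ZMod p)) := by
    rw [Matrix.smul_one_eq_diagonal]; rfl
  rw [hsc] at hc
  rcases h with v | v
  · rw [phi0_r] at hc
    have := eq_zero_of_matM_scalar hm2 v c hc.symm
    rw [this]; rfl
  · rw [phi0_sr] at hc
    exact absurd hc.symm (matT_mul_matM_ne_scalar (one_ne_neg_one p hp) hm2 v c)

/-- an element whose commutator with `a` is central commutes with `a`, if `a` has non-zero trace -/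
theorem comm_of_trace_ne_zero {ι : Type*} [Fintype ι] [DecidableEq ι]
    (g a : SpecialLinearGroup ι (ZMod p))
    (hs : g * a * g⁻¹ * a⁻¹ ∈ Subgroup.center (SpecialLinearGroup ι (ZMod p)))
    (htr : (a : Matrix ι ι (ZMod p)).trace ≠ 0) :
    (g : Matrix ι ι (ZMod p)) * (a : Matrix ι ι (ZMod p)) =
      (a : Matrix ι ι (ZMod p)) * (g : Matrix ι ι (ZMod p)) := by
  rw [Matrix.SpecialLinearGroup.mem_center_iff] at hs
  obtain ⟨c, _, hc⟩ := hs
  have hsc : (scalar ι) c = c • (1 : Matrix ι ι (ZMod p)) := by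
    rw [Matrix.smul_one_eq_diagonal]; rfl
  rw [hsc] at hc
  -- g a g⁻¹ = s a
  have h1 : g * a * g⁻¹ = (g * a * g⁻¹ * a⁻¹) * a := by group
  have h1' : (g : Matrix ι ι (ZMod p)) * (a : Matrix ι ι (ZMod p)) *
      ((g⁻¹ : SpecialLinearGroup ι (ZMod p)) : Matrix ι ι (ZMod p)) =
      c • (a : Matrix ι ι (ZMod p)) := by
    have := congrArg Subtype.val h1
    simp only [Matrix.SpecialLinearGroup.coe_mul] at this
    rw [this, ← Matrix.SpecialLinearGroup.coe_mul, ← Matrix.SpecialLinearGroup.coe_mul,
      ← Matrix.SpecialLinearGroup.coe_mul, ← hc, Matrix.smul_mul, Matrix.one_mul]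
  have hinv : ((g⁻¹ : SpecialLinearGroup ι (ZMod p)) : Matrix ι ι (ZMod p)) *
      (g : Matrix ι ι (ZMod p)) = 1 := by
    rw [← Matrix.SpecialLinearGroup.coe_mul, inv_mul_cancel, Matrix.SpecialLinearGroup.coe_one]
  have h2 : (a : Matrix ι ι (ZMod p)).trace = c * (a : Matrix ι ι (ZMod p)).trace := by
    have := congrArg Matrix.trace h1'
    rw [Matrix.trace_mul_cycle, hinv, Matrix.one_mul, Matrix.trace_smul, smul_eq_mul] at this
    exact this
  have hc1 : c = 1 := by
    have : (1 : ZMod p) * (a : Matrix ι ι (ZMod p)).trace =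
        c * (a : Matrix ι ι (ZMod p)).trace := by rw [one_mul]; exact h2
    exact (mul_right_cancel₀ htr this).symm
  -- hence g a = a g
  rw [hc1, one_smul] at hc
  have h3 : g * a * g⁻¹ * a⁻¹ = 1 := by
    apply Subtype.ext
    rw [Matrix.SpecialLinearGroup.coe_one]
    exact hc.symm
  have h4 : g * a = a * g := by
    calc g * a = (g * a * g⁻¹ * a⁻¹) * a * g := by group
      _ = a * g := by rw [h3, one_mul]
  have := congrArg Subtype.val h4
  simpa only [Matrix.SpecialLinearGroup.coe_mul] using this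

theorem trace_matM' (m : ℕ) (v : Fin 3 → ZMod p) :
    (matM m (ZMod p) v).trace = ((m + (m + 1) : ℕ) : ZMod p) := by
  unfold matM
  simp only [Matrix.trace, Matrix.diag, Fintype.sum_sum_type, fromBlocks_apply₁₁,
    fromBlocks_apply₂₂, Matrix.one_apply_eq, Finset.sum_const, Finset.card_univ,
    Fintype.card_fin]
  simp only [nsmul_eq_mul, mul_one, Nat.cast_add, Nat.cast_one]

/-- the centralizer of the image modulo the centre is trivial -/
theorem phi0_centralizer (hp : p ≠ 2) (m : ℕ) (hm : Odd m)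
    (hmp : ((m + (m + 1) : ℕ) : ZMod p) ≠ 0)
    (g : SpecialLinearGroup (Fin m ⊕ Fin (m + 1)) (ZMod p))
    (hg : ∀ h : GD (Fin 3 → ZMod p), g * phi0 p m hm h * g⁻¹ * (phi0 p m hm h)⁻¹ ∈
      Subgroup.center (SpecialLinearGroup (Fin m ⊕ Fin (m + 1)) (ZMod p))) :
    g ∈ Subgroup.center (SpecialLinearGroup (Fin m ⊕ Fin (m + 1)) (ZMod p)) := by
  have hM : ∀ v, (g : Matrix _ _ (ZMod p)) * matM m (ZMod p) v =
      matM m (ZMod p) v * (g : Matrix _ _ (ZMod p)) := by
    intro v
    have := comm_of_trace_ne_zero p g (phi0 p m hm (GD.r v)) (hg _) (by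
      rw [phi0_r, trace_matM']; exact hmp)
    rwa [phi0_r] at this
  have hT : (g : Matrix _ _ (ZMod p)) * matT m (ZMod p) =
      matT m (ZMod p) * (g : Matrix _ _ (ZMod p)) := by
    have h0 : matM m (ZMod p) 0 = 1 := by
      unfold matM matL
      simp
    have := comm_of_trace_ne_zero p g (phi0 p m hm (GD.sr 0)) (hg _) (by
      rw [phi0_sr, h0, Matrix.mul_one, trace_matT]
      exact neg_ne_zero.mpr one_ne_zero)
    rwa [phi0_sr, h0, Matrix.mul_one] at this
  obtain ⟨c, hc⟩ := scalar_of_comm (eq_zero_of_eq_neg p hp) _ hT hM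
  rw [Subgroup.mem_center_iff]
  intro x
  apply Subtype.ext
  show x.1 * g.1 = g.1 * x.1
  have hc' : g.1 = c • (1 : Matrix _ _ (ZMod p)) := hc
  rw [hc', Matrix.mul_smul, Matrix.smul_mul, Matrix.mul_one, Matrix.one_mul]

end final

/-- For every odd prime `p` there is a finite group `H` of order `2p³` which, for infinitely many `n`, embeds in the projective special linear group `PSL(n, p)` as a subgroup with trivial centralizer. -/
theorem result
    (p : ℕ) [Fact p.Prime] (hp : p ≠ 2) :
    ∃ (H : Type) (_ : Group H) (_ : Finite H), Nat.card H = 2 * p ^ 3 ∧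
      ∀ N : ℕ, ∃ n, N ≤ n ∧ ∃ φ : H →* Matrix.ProjectiveSpecialLinearGroup (Fin n) (ZMod p),
        Function.Injective φ ∧ Subgroup.centralizer (φ.range : Set (Matrix.ProjectiveSpecialLinearGroup (Fin n) (ZMod p))) = ⊥ := by
  refine ⟨GD (Fin 3 → ZMod p), inferInstance, inferInstance, ?_, ?_⟩
  · rw [GD.card, Nat.card_fun, Nat.card_zmod, Nat.card_eq_fintype_card, Fintype.card_fin]
  · intro N
    have hp1 : 1 ≤ p := (Fact.out : p.Prime).one_lt.le
    have hpodd : Odd p := (Fact.out : p.Prime).odd_of_ne_two hp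
    set m : ℕ := p * (2 * N + 1) with hmdef
    have hm : Odd m := hpodd.mul (by exact ⟨N, rfl⟩)
    have hmN : 2 * N + 1 ≤ m := Nat.le_mul_of_pos_left _ (by omega)
    have hm2 : 2 ≤ m := by
      have h3 : 3 ≤ p := by
        have := (Fact.out : p.Prime).two_le
        omega
      have : 3 * 1 ≤ p * (2 * N + 1) := Nat.mul_le_mul h3 (by omega)
      omega
    have hmp : ((m + (m + 1) : ℕ) : ZMod p) ≠ 0 := by
      have : ((m + (m + 1) : ℕ) : ZMod p) = 1 := by
        rw [hmdef]
        push_cast
        rw [ZMod.natCast_self]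
        ring
      rw [this]; exact one_ne_zero
    refine ⟨m + (m + 1), by omega, ?_⟩
    let e := slReindex (ZMod p) (finSumFinEquiv : Fin m ⊕ Fin (m + 1) ≃ Fin (m + (m + 1)))
    let φ₀ : GD (Fin 3 → ZMod p) →* Matrix.SpecialLinearGroup (Fin (m + (m + 1))) (ZMod p) :=
      e.toMonoidHom.comp (phi0 p m hm)
    refine ⟨(QuotientGroup.mk' (Subgroup.center _)).comp φ₀, ?_, ?_⟩
    · apply injective_mk_comp
      intro h hh
      have : e (phi0 p m hm h) ∈ Subgroup.center _ := hh
      rw [mem_center_mulEquiv] at this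
      exact phi0_center p hp m hm hm2 h this
    · apply centralizer_mk_comp
      intro g hg
      have hg' : e.symm g ∈ Subgroup.center _ := by
        apply phi0_centralizer p hp m hm hmp
        intro h
        rw [← mem_center_mulEquiv e]
        have := hg h
        have e1 : e (e.symm g * phi0 p m hm h * (e.symm g)⁻¹ * (phi0 p m hm h)⁻¹) =
            g * φ₀ h * g⁻¹ * (φ₀ h)⁻¹ := by
          simp only [map_mul, map_inv, MulEquiv.apply_symm_apply]
          rfl
        rw [e1]; exact this
      have := (mem_center_mulEquiv e).mpr hg'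
      rwa [MulEquiv.apply_symm_apply] at this

end Cfsg.Agent.S2533
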