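import Cfsg.Statements.S2538
import Cfsg.Agent.Lib.Helper32_HallAlt

set_option autoImplicit false
open Cfsg

namespace Cfsg.Agent.S2538

open Equiv Equiv.Perm

/-- the index of the alternating group divides 2 -/
theorem index_alt_dvd_two (α : Type*) [Fintype α] [DecidableEq α] :
    (alternatingGroup α).index ∣ 2 := by
  rw [alternatingGroup_eq_sign_ker, Subgroup.index_ker]
  have h := Subgroup.card_subgroup_dvd_card (sign (α := α)).range
  rwa [Nat.card_eq_fintype_card (α := ℤˣ), Fintype.card_units_int] at h

/-- A Hall subgroup of the alternating group of odd order, or in degree at most one, is a Hall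
subgroup of the symmetric group. -/
theorem isPiHall_map_subtype {α : Type*} [Fintype α] [DecidableEq α] {π : Set ℕ}
    (h : 2 ∉ π ∨ Fintype.card α ≤ 1) {M : Subgroup (alternatingGroup α)}
    (hM : Cfsg.IsPiHall π M) : Cfsg.IsPiHall π (M.map (alternatingGroup α).subtype) := by
  constructor
  · intro p hp hd
    rw [Subgroup.card_map_of_injective (Subgroup.subtype_injective _)] at hd
    exact hM.1 p hp hd
  · intro p hp hpπ hd
    rw [Subgroup.index_map_subtype] at hd
    rcases (Nat.Prime.dvd_mul hp).1 hd with h1 | h1
    · exact hM.2 p hp hpπ h1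
    · rcases h with h | h
      · have h2 := h1.trans (index_alt_dvd_two α)
        have := (Nat.prime_dvd_prime_iff_eq hp Nat.prime_two).1 h2
        rw [this] at hpπ
        exact h hpπ
      · have h3 : (alternatingGroup α).index ∣ 1 := by
          have h4 := Subgroup.index_dvd_card (alternatingGroup α)
          rw [Nat.card_eq_fintype_card, Fintype.card_perm] at h4
          have h5 : (Fintype.card α).factorial = 1 := by
            rcases (by omega : Fintype.card α = 0 ∨ Fintype.card α = 1) with h6 | h6 <;>
              rw [h6] <;> rfl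
          rwa [h5] at h4
        have := Nat.le_of_dvd one_pos (h1.trans h3)
        have := hp.two_le
        omega

/-- For every `n` and every set of primes `π`, a subgroup of the alternating group of degree `n` is a Hall `π`-subgroup of it if and only if it is the intersection with the alternating group of some Hall `π`-subgroup of the symmetric group of degree `n`. -/
theorem result (n : ℕ) (π : Set ℕ)
    (M : Subgroup ↥(alternatingGroup (Fin n))) :
    Cfsg.IsPiHall π M ↔ ∃ M₀ : Subgroup (Equiv.Perm (Fin n)), Cfsg.IsPiHall π M₀ ∧ M = M₀.subgroupOf (alternatingGroup (Fin n)) := by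
  constructor
  · intro hM
    by_cases h2 : 2 ∈ π ∧ 2 ≤ n
    · obtain ⟨h2, hn⟩ := h2
      have hα : 2 ≤ Fintype.card (Fin n) := by rw [Fintype.card_fin]; exact hn
      obtain ⟨M₀, hH, hinf, _⟩ := Cfsg.Agent.Lib.Helper32_HallAlt.exists_hall_inf_eq h2 hα
        (Cfsg.Agent.Lib.Helper32_HallAlt.aHall_map_subtype hα hM)
      refine ⟨M₀, hH, ?_⟩
      have e : M₀.subgroupOf (alternatingGroup (Fin n)) =
          (M₀ ⊓ alternatingGroup (Fin n)).subgroupOf (alternatingGroup (Fin n)) := by
        ext x
        simp [Subgroup.mem_subgroupOf]
      rw [e, hinf]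
      exact (Subgroup.comap_map_eq_self_of_injective (Subgroup.subtype_injective _) M).symm
    · refine ⟨M.map (alternatingGroup (Fin n)).subtype, isPiHall_map_subtype ?_ hM,
        (Subgroup.comap_map_eq_self_of_injective (Subgroup.subtype_injective _) M).symm⟩
      rw [Fintype.card_fin]
      by_cases h : 2 ∈ π
      · right
        by_contra hn
        exact h2 ⟨h, by omega⟩
      · exact Or.inl h
  · rintro ⟨M₀, hH, rfl⟩
    exact Cfsg.Agent.Lib.Helper39_HallBasic.isPiHall_subgroupOf_normal hH

end Cfsg.Agent.S2538
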