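import Cfsg.Statements.S2534
import Cfsg.Agent.S2538
import Cfsg.Agent.Lib.Helper32_HallSymStruct
import Cfsg.Agent.Lib.Helper39_HallSymConstr

set_option autoImplicit false
open Cfsg

namespace Cfsg.Agent.S2534

open Equiv Equiv.Perm MulAction
open scoped Pointwise
open Cfsg.Agent.Lib.Helper32_HallSymStruct (single_conj eq_stabilizer_of_prime eq_stabilizer_seven
  eq_fibGroup_eight fibGroup_conj)
open Cfsg.Agent.Lib.Helper39_HallSymFib (baseGroup fibGroup card_baseGroup card_dvd fibGroup_hinv
  mem_baseGroup mem_fibGroup)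

section generic

variable {G : Type*} [Group G] [Finite G] {π : Set ℕ}

theorem exists_maximal_ge {L : Subgroup G} (hL : IsPiSubgroup π L) :
    ∃ N, L ≤ N ∧ Maximal (IsPiSubgroup π) N :=
  Finite.exists_le_maximal hL

omit [Finite G] in
theorem isPiSubgroup_bot : IsPiSubgroup π (⊥ : Subgroup G) := by
  intro p hp hd
  rw [Subgroup.card_bot] at hd
  exact absurd (Nat.le_of_dvd one_pos hd) (by have := hp.two_le; omega)

theorem isPiSubgroup_sylow {p : ℕ} [Fact p.Prime] (hpπ : p ∈ π) (P : Sylow p G) :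
    IsPiSubgroup π (P : Subgroup G) := by
  intro q hq hd
  rw [P.card_eq_multiplicity] at hd
  have := (Nat.prime_dvd_prime_iff_eq hq (Fact.out : p.Prime)).1 (hq.dvd_of_dvd_pow hd)
  rw [this]
  exact hpπ

/-- Under the full Sylow property a maximal `π`-subgroup is a Hall subgroup. -/
theorem isPiHall_of_D (hD : IsDPiGroup π G) {M : Subgroup G}
    (hM : Maximal (IsPiSubgroup π) M) : IsPiHall π M := by
  refine ⟨hM.1, ?_⟩
  intro p hp hpπ hd
  have : Fact p.Prime := ⟨hp⟩
  obtain ⟨P⟩ : Nonempty (Sylow p G) := inferInstance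
  obtain ⟨N, hPN, hN⟩ := exists_maximal_ge (isPiSubgroup_sylow hpπ P)
  obtain ⟨g, hg⟩ := hD N M hN hM
  have hcard : Nat.card M = Nat.card N := by
    rw [hg]
    exact Subgroup.card_map_of_injective (MulAut.conj g).injective
  have h1 : Nat.card (P : Subgroup G) ∣ Nat.card M := by
    rw [hcard]
    exact Subgroup.card_dvd_of_le hPN
  rw [P.card_eq_multiplicity] at h1
  have h2 : p ^ ((Nat.card G).factorization p + 1) ∣ Nat.card G := by
    have h3 := Nat.mul_dvd_mul h1 hd
    rw [Subgroup.card_mul_index M] at h3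
    rw [pow_succ]
    exact h3
  exact Nat.pow_succ_factorization_not_dvd Nat.card_pos.ne' hp h2

/-- Under the full Sylow property every `π`-subgroup lies in a conjugate of a given maximal
`π`-subgroup. -/
theorem exists_conj_ge_of_D (hD : IsDPiGroup π G) {M : Subgroup G}
    (hM : Maximal (IsPiSubgroup π) M) {L : Subgroup G} (hL : IsPiSubgroup π L) :
    ∃ g : G, L ≤ M.map (MulAut.conj g).toMonoidHom := by
  obtain ⟨N, hLN, hN⟩ := exists_maximal_ge hL
  obtain ⟨g, hg⟩ := hD M N hM hN
  exact ⟨g, hg ▸ hLN⟩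

/-- With at most one relevant prime, a maximal `π`-subgroup is a Hall subgroup. -/
theorem isPiHall_of_single
    (h : ∀ r s : ℕ, r.Prime → s.Prime → r ∈ π → s ∈ π → r ∣ Nat.card G → s ∣ Nat.card G → r = s)
    {H : Subgroup G} (hH : Maximal (IsPiSubgroup π) H) : IsPiHall π H := by
  refine ⟨hH.1, ?_⟩
  intro p hp hpπ hd
  have : Fact p.Prime := ⟨hp⟩
  have hpG : p ∣ Nat.card G := hd.trans (Subgroup.index_dvd_card H)
  have hHp : IsPGroup p H := by
    have h0 : Nat.card H ≠ 0 := Nat.card_pos.ne'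
    apply IsPGroup.of_card (Nat.eq_prime_pow_of_unique_prime_dvd h0 _)
    intro q hq hqd
    exact h q p hq hp (hH.1 q hq hqd) hpπ (hqd.trans (Subgroup.card_subgroup_dvd_card H)) hpG
  obtain ⟨P, hP⟩ := hHp.exists_le_sylow
  have hPH : (P : Subgroup G) ≤ H := hH.2 (isPiSubgroup_sylow hpπ P) hP
  have heq : H = P := le_antisymm hP hPH
  rw [heq] at hd
  exact P.not_dvd_index hd

end generic

section constructions

variable {π : Set ℕ}

theorem card_subgroupOf_dvd {G : Type*} [Group G] (K A : Subgroup G) :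
    Nat.card (K.subgroupOf A) ∣ Nat.card K := by
  have e : K.subgroupOf A = (K ⊓ A).subgroupOf A := by
    ext x
    simp [Subgroup.mem_subgroupOf]
  rw [e, Nat.card_congr (Subgroup.subgroupOfEquivOfLe inf_le_right).toEquiv]
  exact Subgroup.card_dvd_of_le inf_le_left

theorem swap_lemma {n : ℕ} (a b u w : Fin n) (hab : a ≠ b) (huw : u ≠ w) (hua : u ≠ a)
    (hub : u ≠ b) (hwa : w ≠ a) (hwb : w ≠ b) :
    swap a b * swap u w ∈ alternatingGroup (Fin n) ∧
    swap a b * swap u w ∈ stabilizer (Perm (Fin n)) ({a, b} : Set (Fin n)) ∧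
    (swap a b * swap u w) a = b ∧ (swap a b * swap u w) b = a ∧ (swap a b * swap u w) u = w := by
  have h1 : (swap a b * swap u w) a = b := by
    rw [Perm.mul_apply, swap_apply_of_ne_of_ne hua.symm hwa.symm, swap_apply_left]
  have h2 : (swap a b * swap u w) b = a := by
    rw [Perm.mul_apply, swap_apply_of_ne_of_ne hub.symm hwb.symm, swap_apply_right]
  have h3 : (swap a b * swap u w) u = w := by
    rw [Perm.mul_apply, swap_apply_left, swap_apply_of_ne_of_ne hwa hwb]
  refine ⟨?_, ?_, h1, h2, h3⟩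
  · rw [mem_alternatingGroup, Perm.sign_mul, sign_swap hab, sign_swap huw]
    rfl
  · apply Cfsg.Agent.Lib.Helper39_HallSymOrbit.mem_stabilizer_of_forall
    intro x hx
    rcases hx with rfl | hx
    · rw [h1]; exact Or.inr rfl
    · rw [Set.mem_singleton_iff] at hx
      rw [hx, h2]
      exact Or.inl rfl

/-- The even permutations preserving the pair `{0, 1}` have no common fixed point. -/
theorem exists_moving {n : ℕ} (hn : 5 ≤ n) (y : Fin n) :
    ∃ c : Perm (Fin n), c ∈ alternatingGroup (Fin n) ∧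
      c ∈ stabilizer (Perm (Fin n)) ({⟨0, by omega⟩, ⟨1, by omega⟩} : Set (Fin n)) ∧ c y ≠ y := by
  set a : Fin n := ⟨0, by omega⟩ with ha
  set b : Fin n := ⟨1, by omega⟩ with hb
  set p2 : Fin n := ⟨2, by omega⟩ with hp2
  set p3 : Fin n := ⟨3, by omega⟩ with hp3
  have hab : a ≠ b := Fin.ne_of_val_ne (by simp [ha, hb])
  have h2a : p2 ≠ a := Fin.ne_of_val_ne (by simp [ha, hp2])
  have h2b : p2 ≠ b := Fin.ne_of_val_ne (by simp [hb, hp2])
  have h3a : p3 ≠ a := Fin.ne_of_val_ne (by simp [ha, hp3])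
  have h3b : p3 ≠ b := Fin.ne_of_val_ne (by simp [hb, hp3])
  have h23 : p2 ≠ p3 := Fin.ne_of_val_ne (by simp [hp2, hp3])
  by_cases hya : y = a
  · obtain ⟨h1, h2, h3, _, _⟩ := swap_lemma a b p2 p3 hab h23 h2a h2b h3a h3b
    exact ⟨_, h1, h2, by rw [hya, h3]; exact hab.symm⟩
  by_cases hyb : y = b
  · obtain ⟨h1, h2, _, h4, _⟩ := swap_lemma a b p2 p3 hab h23 h2a h2b h3a h3b
    exact ⟨_, h1, h2, by rw [hyb, h4]; exact hab⟩
  by_cases hy2 : y = p2
  · obtain ⟨h1, h2, _, _, h5⟩ := swap_lemma a b p2 p3 hab h23 h2a h2b h3a h3b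
    exact ⟨_, h1, h2, by rw [hy2, h5]; exact h23.symm⟩
  · obtain ⟨h1, h2, _, _, h5⟩ := swap_lemma a b y p2 hab hy2 hya hyb h2a h2b
    exact ⟨_, h1, h2, by rw [h5]; exact fun h => hy2 h.symm⟩

/-- In prime degree `n`, the even permutations preserving a pair form a group whose order involves
only primes below `n`. -/
theorem isPiSubgroup_pairStab {n : ℕ} (hn : n.Prime) (hn5 : 5 ≤ n)
    (hP : ∀ r : ℕ, r.Prime → r ≤ n → (r ∈ π ↔ r < n)) (a b : Fin n) (hab : a ≠ b) :
    IsPiSubgroup π ((stabilizer (Perm (Fin n)) ({a, b} : Set (Fin n))).subgroupOf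
      (alternatingGroup (Fin n))) := by
  intro p hp hd
  have hd' := hd.trans (card_subgroupOf_dvd _ _)
  have hpn : p ≤ n := by
    have := Cfsg.Agent.Lib.Helper39_HallSymPrim.le_of_dvd_card hp hd'
    rwa [Fintype.card_fin] at this
  apply (hP p hp hpn).2
  rcases Nat.lt_or_ge p n with h | h
  · exact h
  · exfalso
    have hpn' : p = n := le_antisymm hpn h
    subst hpn'
    have h1 := Cfsg.Agent.Lib.Helper39_HallSymOrbit.index_stabilizer (α := Fin p) ({a, b} : Finset (Fin p))
    rw [Finset.coe_pair, Finset.card_pair hab, Fintype.card_fin] at h1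
    have h2 := Subgroup.card_mul_index (stabilizer (Perm (Fin p)) ({a, b} : Set (Fin p)))
    rw [h1, Cfsg.Agent.Lib.Helper39_HallSymPrim.card_perm', Fintype.card_fin] at h2
    have h3 : p ∣ p.choose 2 := Nat.Prime.dvd_choose_self hp (by norm_num) (by omega)
    have h4 : p * p ∣ p.factorial := by
      rw [← h2]
      exact Nat.mul_dvd_mul hd' h3
    obtain ⟨k, hk⟩ : ∃ k, p = k + 1 := ⟨p - 1, by omega⟩
    rw [hk, Nat.factorial_succ] at h4
    have h5 : k + 1 ∣ k.factorial := Nat.dvd_of_mul_dvd_mul_left (by omega) h4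
    rw [← hk] at h5
    have := (Nat.Prime.dvd_factorial hp).1 h5
    omega

/-! ### Degree 7 -/

/-- the partition `3 | 3 | 1` of seven points -/
def f7 : Fin 7 → Fin 3 := ![0, 0, 0, 1, 1, 1, 2]

def c71 : Perm (Fin 7) := swap 0 1 * swap 1 2
def c72 : Perm (Fin 7) := swap 3 4 * swap 4 5
def c73 : Perm (Fin 7) := swap 0 3 * swap 1 4 * swap 2 5 * swap 0 1

set_option maxRecDepth 100000 in
theorem no_inv7 : ∀ t : Finset (Fin 7), t.card = 3 →
    ¬ ((∀ x ∈ t, c71 x ∈ t) ∧ (∀ x ∈ t, c72 x ∈ t) ∧ (∀ x ∈ t, c73 x ∈ t)) := by decide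

theorem c7_mem_fibGroup : c71 ∈ fibGroup f7 ∧ c72 ∈ fibGroup f7 ∧ c73 ∈ fibGroup f7 := by
  refine ⟨?_, ?_, ?_⟩ <;> rw [mem_fibGroup] <;> decide

theorem c7_mem_alt : c71 ∈ alternatingGroup (Fin 7) ∧ c72 ∈ alternatingGroup (Fin 7) ∧
    c73 ∈ alternatingGroup (Fin 7) := by
  refine ⟨?_, ?_, ?_⟩
  · rw [mem_alternatingGroup, c71, Perm.sign_mul, sign_swap (by decide), sign_swap (by decide)]
    rfl
  · rw [mem_alternatingGroup, c72, Perm.sign_mul, sign_swap (by decide), sign_swap (by decide)]
    rfl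
  · rw [mem_alternatingGroup, c73, Perm.sign_mul, Perm.sign_mul, Perm.sign_mul,
      sign_swap (by decide), sign_swap (by decide), sign_swap (by decide), sign_swap (by decide)]
    rfl

theorem card_fibGroup_f7_dvd : Nat.card (fibGroup f7) ∣ 216 := by
  have hf : Function.Surjective f7 := by decide
  have h := card_dvd hf (fibGroup_hinv f7)
  rw [Fin.prod_univ_three, Fintype.card_fin] at h
  have e0 : Fintype.card {a // f7 a = 0} = 3 := by decide
  have e1 : Fintype.card {a // f7 a = 1} = 3 := by decide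
  have e2 : Fintype.card {a // f7 a = 2} = 1 := by decide
  rw [e0, e1, e2] at h
  exact h

theorem prime_dvd_two_three {p a b : ℕ} (hp : p.Prime) (h : p ∣ 2 ^ a * 3 ^ b) :
    p = 2 ∨ p = 3 := Cfsg.Agent.Lib.Helper39_HallSymConstr.prime_dvd_two_three hp h

/-! ### Degree 8 -/

/-- the partition `3 | 3 | 2` of eight points -/
def f8 : Fin 8 → Fin 3 := ![0, 0, 0, 1, 1, 1, 2, 2]

def d1 : Perm (Fin 8) := swap 0 1 * swap 1 2
def d2 : Perm (Fin 8) := swap 3 4 * swap 4 5
def d3 : Perm (Fin 8) := swap 0 1 * swap 6 7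

set_option maxRecDepth 1000000 in
theorem no_inv8 : ∀ t : Finset (Fin 8), t.card = 4 →
    ¬ ((∀ x y, (decide (x ∈ t) = decide (y ∈ t)) ↔ (decide (d1 x ∈ t) = decide (d1 y ∈ t))) ∧
       (∀ x y, (decide (x ∈ t) = decide (y ∈ t)) ↔ (decide (d2 x ∈ t) = decide (d2 y ∈ t))) ∧
       (∀ x y, (decide (x ∈ t) = decide (y ∈ t)) ↔ (decide (d3 x ∈ t) = decide (d3 y ∈ t)))) := by
  decide

theorem d_mem_baseGroup : d1 ∈ baseGroup f8 ∧ d2 ∈ baseGroup f8 ∧ d3 ∈ baseGroup f8 := by
  refine ⟨?_, ?_, ?_⟩ <;> rw [mem_baseGroup] <;> decide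

theorem d_mem_alt : d1 ∈ alternatingGroup (Fin 8) ∧ d2 ∈ alternatingGroup (Fin 8) ∧
    d3 ∈ alternatingGroup (Fin 8) := by
  refine ⟨?_, ?_, ?_⟩
  · rw [mem_alternatingGroup, d1, Perm.sign_mul, sign_swap (by decide), sign_swap (by decide)]
    rfl
  · rw [mem_alternatingGroup, d2, Perm.sign_mul, sign_swap (by decide), sign_swap (by decide)]
    rfl
  · rw [mem_alternatingGroup, d3, Perm.sign_mul, sign_swap (by decide), sign_swap (by decide)]
    rfl

theorem card_baseGroup_f8 : Nat.card (baseGroup f8) = 72 := by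
  rw [card_baseGroup, Fin.prod_univ_three]
  have e0 : Fintype.card {a // f8 a = 0} = 3 := by decide
  have e1 : Fintype.card {a // f8 a = 1} = 3 := by decide
  have e2 : Fintype.card {a // f8 a = 2} = 2 := by decide
  rw [e0, e1, e2]
  rfl

theorem prime_dvd_card_alt_iff {n : ℕ} (hn : 4 ≤ n) {r : ℕ} (hr : r.Prime) :
    r ∣ Nat.card (alternatingGroup (Fin n)) ↔ r ≤ n := by
  constructor
  · intro h
    have h1 : r ∣ Nat.card (Perm (Fin n)) := h.trans (Subgroup.card_subgroup_dvd_card _)
    rw [Nat.card_eq_fintype_card, Fintype.card_perm, Fintype.card_fin] at h1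
    exact (Nat.Prime.dvd_factorial hr).1 h1
  · intro h
    exact Cfsg.Agent.Lib.Helper39_HallSymPrim.dvd_card_of_alternatingGroup_le
      (K := alternatingGroup (Fin n)) le_rfl (by rw [Fintype.card_fin]; exact hn) hr
      (by rw [Fintype.card_fin]; exact h)

/-- an element of a conjugate of `M₀ ∩ A`, written out -/
theorem exists_of_mem_conj {n : ℕ} {M₀ : Subgroup (Perm (Fin n))}
    {g c : alternatingGroup (Fin n)}
    (hc : c ∈ (M₀.subgroupOf (alternatingGroup (Fin n))).map (MulAut.conj g).toMonoidHom) :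
    ∃ m ∈ M₀, (c : Perm (Fin n)) = (g : Perm (Fin n)) * m * (g : Perm (Fin n))⁻¹ := by
  obtain ⟨m, hm, hmc⟩ := hc
  rw [SetLike.mem_coe, Subgroup.mem_subgroupOf] at hm
  refine ⟨m.1, hm, ?_⟩
  have := congrArg Subtype.val hmc
  simpa using this.symm

end constructions

/-- For `n ≥ 5` and a set of primes `π`, the alternating group of degree `n` satisfies the full Sylow analogue for `π` (its maximal `π`-subgroups are pairwise conjugate; for a finite group this says Hall `π`-subgroups exist, are all conjugate, and contain every `π`-subgroup up to conjugacy) if and only if either at most one prime of `π` divides its order or every prime dividing its order lies in `π`. -/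
theorem result (n : ℕ) (hn : 5 ≤ n) (π : Set ℕ) :
    Cfsg.IsDPiGroup π ↥(alternatingGroup (Fin n)) ↔
      ((∀ r s : ℕ, r.Prime → s.Prime → r ∈ π → s ∈ π → r ∣ Nat.card ↥(alternatingGroup (Fin n)) → s ∣ Nat.card ↥(alternatingGroup (Fin n)) → r = s) ∨
        ∀ r : ℕ, r.Prime → r ∣ Nat.card ↥(alternatingGroup (Fin n)) → r ∈ π) := by
  constructor
  · intro hD
    by_contra hcon
    rw [not_or] at hcon
    obtain ⟨h1, h2⟩ := hcon
    push Not at h1 h2
    obtain ⟨r, s, hr, hs, hrπ, hsπ, hrd, hsd, hrs⟩ := h1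
    obtain ⟨q, hq, hqd, hqπ⟩ := h2
    have hrn := (prime_dvd_card_alt_iff (by omega) hr).1 hrd
    have hsn := (prime_dvd_card_alt_iff (by omega) hs).1 hsd
    have hqn := (prime_dvd_card_alt_iff (by omega) hq).1 hqd
    obtain ⟨M, _, hM⟩ := exists_maximal_ge (π := π)
      (isPiSubgroup_bot (G := alternatingGroup (Fin n)))
    have hMH := isPiHall_of_D hD hM
    obtain ⟨M₀, hM₀, hMeq⟩ := (Cfsg.Agent.S2538.result n π M).1 hMH
    have hG := Cfsg.Agent.Lib.Helper39_HallSymMain.good_of_hall π n (Fin n)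
      (by rw [Nat.card_eq_fintype_card, Fintype.card_fin]) M₀ hM₀
    rcases hG with h | h | h | h
    · exact hrs (h r s hr hs hrπ hsπ hrn hsn)
    · exact hqπ (h q hq hqn)
    · -- prime degree
      obtain ⟨hnp, hP⟩ := h
      obtain ⟨x, hx⟩ := eq_stabilizer_of_prime hM₀ (by rwa [Fintype.card_fin])
        (by rwa [Fintype.card_fin])
      have hab : (⟨0, by omega⟩ : Fin n) ≠ ⟨1, by omega⟩ := Fin.ne_of_val_ne (by simp)
      have hLπ := isPiSubgroup_pairStab hnp hn hP _ _ hab
      obtain ⟨g, hg⟩ := exists_conj_ge_of_D hD hM hLπ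
      obtain ⟨c, hcA, hcS, hcy⟩ := exists_moving hn ((g : Perm (Fin n)) x)
      have hcL : (⟨c, hcA⟩ : alternatingGroup (Fin n)) ∈
          (stabilizer (Perm (Fin n)) ({⟨0, by omega⟩, ⟨1, by omega⟩} : Set (Fin n))).subgroupOf
            (alternatingGroup (Fin n)) := by
        rw [Subgroup.mem_subgroupOf]
        exact hcS
      have hcN := hg hcL
      rw [hMeq] at hcN
      obtain ⟨m, hm, hmc⟩ := exists_of_mem_conj hcN
      rw [hx, mem_stabilizer_iff] at hm
      apply hcy
      have hmc' : c = (g : Perm (Fin n)) * m * (g : Perm (Fin n))⁻¹ := hmc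
      rw [hmc']
      simp only [Perm.mul_apply, Cfsg.Agent.Lib.Helper39_HallSymFib.perm_inv_apply]
      have : m x = x := hm
      rw [this]
    · obtain ⟨h78, hP⟩ := h
      have h2π : 2 ∈ π := (hP 2 Nat.prime_two (by omega)).2 (Or.inl rfl)
      have h3π : 3 ∈ π := (hP 3 Nat.prime_three (by omega)).2 (Or.inr rfl)
      rcases h78 with rfl | rfl
      · -- degree 7
        obtain ⟨s, hs, hM₀eq⟩ := eq_stabilizer_seven hM₀ (by rw [Fintype.card_fin])
          (by rwa [Fintype.card_fin])
        have hLπ : IsPiSubgroup π ((fibGroup f7).subgroupOf (alternatingGroup (Fin 7))) := by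
          intro p hp hd
          have h1 := (hd.trans (card_subgroupOf_dvd _ _)).trans card_fibGroup_f7_dvd
          have e : 216 = 2 ^ 3 * 3 ^ 3 := by norm_num
          rw [e] at h1
          rcases prime_dvd_two_three hp h1 with rfl | rfl
          · exact h2π
          · exact h3π
        obtain ⟨g, hg⟩ := exists_conj_ge_of_D hD hM hLπ
        set t : Finset (Fin 7) := s.image (g : Perm (Fin 7)) with ht
        have htc : t.card = 3 := by
          rw [ht, Finset.card_image_of_injective _ (g : Perm (Fin 7)).injective, hs]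
        have key : ∀ c : Perm (Fin 7), c ∈ alternatingGroup (Fin 7) → c ∈ fibGroup f7 →
            ∀ x ∈ t, c x ∈ t := by
          intro c hcA hcF x hxt
          have hcL : (⟨c, hcA⟩ : alternatingGroup (Fin 7)) ∈
              (fibGroup f7).subgroupOf (alternatingGroup (Fin 7)) := by
            rw [Subgroup.mem_subgroupOf]
            exact hcF
          have hcN := hg hcL
          rw [hMeq] at hcN
          obtain ⟨m, hm, hmc⟩ := exists_of_mem_conj hcN
          rw [hM₀eq, mem_stabilizer_iff] at hm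
          have hmc' : c = (g : Perm (Fin 7)) * m * (g : Perm (Fin 7))⁻¹ := hmc
          rw [ht, Finset.mem_image] at hxt ⊢
          obtain ⟨y, hy, rfl⟩ := hxt
          refine ⟨m y, ?_, ?_⟩
          · have h1 : m • y ∈ m • (s : Set (Fin 7)) := Set.smul_mem_smul_set hy
            rw [hm] at h1
            exact h1
          · rw [hmc']
            simp only [Perm.mul_apply, Cfsg.Agent.Lib.Helper39_HallSymFib.perm_inv_apply]
        exact no_inv7 t htc ⟨key c71 c7_mem_alt.1 c7_mem_fibGroup.1,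
          key c72 c7_mem_alt.2.1 c7_mem_fibGroup.2.1, key c73 c7_mem_alt.2.2 c7_mem_fibGroup.2.2⟩
      · -- degree 8
        obtain ⟨s, hs, hM₀eq⟩ := eq_fibGroup_eight hM₀ (by rw [Fintype.card_fin])
          (by rwa [Fintype.card_fin])
        have hLπ : IsPiSubgroup π ((baseGroup f8).subgroupOf (alternatingGroup (Fin 8))) := by
          intro p hp hd
          have h1 := hd.trans (card_subgroupOf_dvd _ _)
          rw [card_baseGroup_f8] at h1
          have e : 72 = 2 ^ 3 * 3 ^ 2 := by norm_num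
          rw [e] at h1
          rcases prime_dvd_two_three hp h1 with rfl | rfl
          · exact h2π
          · exact h3π
        obtain ⟨g, hg⟩ := exists_conj_ge_of_D hD hM hLπ
        set t : Finset (Fin 8) := s.image (g : Perm (Fin 8)) with ht
        have htc : t.card = 4 := by
          rw [ht, Finset.card_image_of_injective _ (g : Perm (Fin 8)).injective, hs]
        have hfun : (fun a => decide ((g : Perm (Fin 8))⁻¹ a ∈ s)) = fun a => decide (a ∈ t) := by
          funext a
          rw [decide_eq_decide, ht, Finset.mem_image]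
          constructor
          · intro h
            exact ⟨_, h, by simp⟩
          · rintro ⟨y, hy, rfl⟩
            simpa using hy
        have key : ∀ c : Perm (Fin 8), c ∈ alternatingGroup (Fin 8) → c ∈ baseGroup f8 →
            c ∈ fibGroup (fun a => decide (a ∈ t)) := by
          intro c hcA hcF
          have hcL : (⟨c, hcA⟩ : alternatingGroup (Fin 8)) ∈
              (baseGroup f8).subgroupOf (alternatingGroup (Fin 8)) := by
            rw [Subgroup.mem_subgroupOf]
            exact hcF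
          have hcN := hg hcL
          rw [hMeq] at hcN
          obtain ⟨m, hm, hmc⟩ := exists_of_mem_conj hcN
          rw [hM₀eq] at hm
          have hmc' : c = (g : Perm (Fin 8)) * m * (g : Perm (Fin 8))⁻¹ := hmc
          have h5 := fibGroup_conj (fun a => decide (a ∈ s)) (g : Perm (Fin 8))
          rw [← hfun, show (fibGroup fun a => decide ((g : Perm (Fin 8))⁻¹ a ∈ s)) = _ from h5, hmc']
          exact ⟨m, hm, rfl⟩
        exact no_inv8 t htc ⟨(mem_fibGroup _).1 (key d1 d_mem_alt.1 d_mem_baseGroup.1),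
          (mem_fibGroup _).1 (key d2 d_mem_alt.2.1 d_mem_baseGroup.2.1),
          (mem_fibGroup _).1 (key d3 d_mem_alt.2.2 d_mem_baseGroup.2.2)⟩
  · rintro (h | h)
    · intro H K hH hK
      exact single_conj h (isPiHall_of_single h hH) (isPiHall_of_single h hK)
    · intro H K hH hK
      have htop : IsPiSubgroup π (⊤ : Subgroup (alternatingGroup (Fin n))) := by
        intro p hp hd
        rw [Subgroup.card_top] at hd
        exact h p hp hd
      have hH' : H = ⊤ := top_le_iff.1 (hH.2 htop le_top)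
      have hK' : K = ⊤ := top_le_iff.1 (hK.2 htop le_top)
      refine ⟨1, ?_⟩
      rw [hH', hK']
      simp

end Cfsg.Agent.S2534
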