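import Cfsg.Statements.S2535
import Cfsg.Agent.S2538
import Cfsg.Agent.Lib.Helper32_HallSymStruct

set_option autoImplicit false
open Cfsg

namespace Cfsg.Agent.S2535

open Equiv Equiv.Perm
open Cfsg.Agent.Lib.Helper32_HallSymStruct (hall_conj_sym single_conj)

/-- conjugation by an element of a subgroup commutes with restriction to that subgroup -/
theorem subgroupOf_conj {G : Type*} [Group G] {A : Subgroup G} (M₀ : Subgroup G) (g : A) :
    (M₀.map (MulAut.conj (g : G)).toMonoidHom).subgroupOf A =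
      (M₀.subgroupOf A).map (MulAut.conj g).toMonoidHom := by
  ext x
  rw [Subgroup.mem_subgroupOf, Subgroup.mem_map, Subgroup.mem_map]
  constructor
  · rintro ⟨m, hm, hmx⟩
    simp only [MulEquiv.coe_toMonoidHom, MulAut.conj_apply] at hmx
    have hmA : m ∈ A := by
      have e : m = (g : G)⁻¹ * (x : G) * (g : G) := by rw [← hmx]; group
      rw [e]
      exact A.mul_mem (A.mul_mem (A.inv_mem g.2) x.2) g.2
    refine ⟨⟨m, hmA⟩, by rw [Subgroup.mem_subgroupOf]; exact hm, ?_⟩
    apply Subtype.ext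
    simpa using hmx
  · rintro ⟨y, hy, rfl⟩
    rw [Subgroup.mem_subgroupOf] at hy
    exact ⟨y.1, hy, by simp⟩

/-- conjugating by a product with an element of the subgroup -/
theorem map_conj_mul_of_mem {G : Type*} [Group G] {M₀ : Subgroup G} (σ : G) {τ : G}
    (hτ : τ ∈ M₀) :
    M₀.map (MulAut.conj (σ * τ)).toMonoidHom = M₀.map (MulAut.conj σ).toMonoidHom := by
  ext x
  rw [Subgroup.mem_map, Subgroup.mem_map]
  constructor
  · rintro ⟨m, hm, rfl⟩
    refine ⟨τ * m * τ⁻¹, M₀.mul_mem (M₀.mul_mem hτ hm) (M₀.inv_mem hτ), ?_⟩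
    simp only [MulEquiv.coe_toMonoidHom, MulAut.conj_apply]
    group
  · rintro ⟨m, hm, rfl⟩
    refine ⟨τ⁻¹ * m * τ, M₀.mul_mem (M₀.mul_mem (M₀.inv_mem hτ) hm) hτ, ?_⟩
    simp only [MulEquiv.coe_toMonoidHom, MulAut.conj_apply]
    group

/-- Hall subgroups of an alternating group are conjugate. -/
theorem hall_conj_alt (n : ℕ) (π : Set ℕ) (M K : Subgroup (alternatingGroup (Fin n)))
    (hM : Cfsg.IsPiHall π M) (hK : Cfsg.IsPiHall π K) :
    ∃ g : alternatingGroup (Fin n), K = M.map (MulAut.conj g).toMonoidHom := by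
  obtain ⟨M₀, hM₀, rfl⟩ := (Cfsg.Agent.S2538.result n π M).1 hM
  obtain ⟨K₀, hK₀, rfl⟩ := (Cfsg.Agent.S2538.result n π K).1 hK
  by_cases h2 : 2 ∈ π
  · by_cases hn : 2 ≤ n
    · have hnt : Nontrivial (Fin n) := Fin.nontrivial_iff_two_le.2 hn
      have hnle : ¬ M₀ ≤ alternatingGroup (Fin n) := by
        intro hle
        have h1 := Subgroup.index_dvd_of_le hle
        rw [alternatingGroup.index_eq_two] at h1
        exact hM₀.2 2 Nat.prime_two h2 h1
      obtain ⟨τ, hτM, hτA⟩ := SetLike.not_le_iff_exists.1 hnle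
      obtain ⟨σ, hσ⟩ := hall_conj_sym hM₀ hK₀
      obtain ⟨σ', hσ'A, hσ'⟩ : ∃ σ' : Perm (Fin n), σ' ∈ alternatingGroup (Fin n) ∧
          K₀ = M₀.map (MulAut.conj σ').toMonoidHom := by
        by_cases hσA : σ ∈ alternatingGroup (Fin n)
        · exact ⟨σ, hσA, hσ⟩
        · refine ⟨σ * τ, ?_, ?_⟩
          · rw [mem_alternatingGroup] at hσA hτA ⊢
            rw [Perm.sign_mul]
            rcases Int.units_eq_one_or (sign σ) with h | h
            · exact absurd h hσA
            · rcases Int.units_eq_one_or (sign τ) with h' | h'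
              · exact absurd h' hτA
              · rw [h, h']; rfl
          · rw [map_conj_mul_of_mem σ hτM]
            exact hσ
      refine ⟨⟨σ', hσ'A⟩, ?_⟩
      rw [← subgroupOf_conj, hσ']
    · have hsub : Subsingleton (Perm (Fin n)) := by
        rw [← Fintype.card_le_one_iff_subsingleton, Fintype.card_perm, Fintype.card_fin]
        rcases (by omega : n = 0 ∨ n = 1) with h | h <;> rw [h] <;> decide
      refine ⟨1, ?_⟩
      ext x
      have hx : x = 1 := Subsingleton.elim _ _
      rw [hx]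
      simp only [Subgroup.one_mem]
  · -- odd order: Sylow
    apply single_conj _ (Cfsg.Agent.Lib.Helper39_HallBasic.isPiHall_subgroupOf_normal hM₀)
      (Cfsg.Agent.Lib.Helper39_HallBasic.isPiHall_subgroupOf_normal hK₀)
    have hG := Cfsg.Agent.Lib.Helper39_HallSymMain.good_of_hall π n (Fin n)
      (by rw [Nat.card_eq_fintype_card, Fintype.card_fin]) M₀ hM₀
    have hle : ∀ r : ℕ, r.Prime → r ∣ Nat.card (alternatingGroup (Fin n)) → r ≤ n := by
      intro r hr hrd
      have h1 : r ∣ Nat.card (Perm (Fin n)) :=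
        hrd.trans (Subgroup.card_subgroup_dvd_card (alternatingGroup (Fin n)))
      rw [Nat.card_eq_fintype_card, Fintype.card_perm, Fintype.card_fin] at h1
      exact (Nat.Prime.dvd_factorial hr).1 h1
    intro r s hr hs hrπ hsπ hrd hsd
    have hrn := hle r hr hrd
    have hsn := hle s hs hsd
    have hr2 := hr.two_le
    rcases hG with h | h | h | h
    · exact h r s hr hs hrπ hsπ hrn hsn
    · exact absurd (h 2 Nat.prime_two (by omega)) h2
    · have h3 := (h.2 2 Nat.prime_two (by omega)).not.1 h2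
      have hr2' : r = 2 := by omega
      rw [hr2'] at hrπ
      exact absurd hrπ h2
    · exact absurd ((h.2 2 Nat.prime_two (by rcases h.1 with h | h <;> omega)).2 (Or.inl rfl)) h2

/-- For every `n` and every set of primes `π`, the following are equivalent for the symmetric group `S` of degree `n` and its alternating subgroup `A`: `S` has a Hall `π`-subgroup; `S` has a Hall `π`-subgroup and all of them are conjugate; `A` has a Hall `π`-subgroup; `A` has a Hall `π`-subgroup and all of them are conjugate. -/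
theorem result (n : ℕ) (π : Set ℕ) :
    (Cfsg.IsEPiGroup π (Equiv.Perm (Fin n)) ↔ Cfsg.IsCPiGroup π (Equiv.Perm (Fin n))) ∧
    (Cfsg.IsEPiGroup π (Equiv.Perm (Fin n)) ↔ Cfsg.IsEPiGroup π ↥(alternatingGroup (Fin n))) ∧
    (Cfsg.IsEPiGroup π ↥(alternatingGroup (Fin n)) ↔ Cfsg.IsCPiGroup π ↥(alternatingGroup (Fin n))) := by
  refine ⟨⟨fun hE => ⟨hE, fun H K hH hK => hall_conj_sym hH hK⟩, fun h => h.1⟩, ⟨?_, ?_⟩,
    ⟨fun hE => ⟨hE, fun M K hM hK => hall_conj_alt n π M K hM hK⟩, fun h => h.1⟩⟩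
  · rintro ⟨H, hH⟩
    exact ⟨H.subgroupOf (alternatingGroup (Fin n)),
      Cfsg.Agent.Lib.Helper39_HallBasic.isPiHall_subgroupOf_normal hH⟩
  · rintro ⟨M, hM⟩
    obtain ⟨M₀, hM₀, _⟩ := (Cfsg.Agent.S2538.result n π M).1 hM
    exact ⟨M₀, hM₀⟩

end Cfsg.Agent.S2535
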