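import Cfsg.Statements.S2537
import Cfsg.Agent.Lib.Helper39_PSL2HallNT
import Cfsg.Agent.Lib.Helper39_PSL2HallGT
import Cfsg.Agent.Lib.Helper51_SL2Cases
import Cfsg.Agent.Lib.Helper50_SL2Mat
import Cfsg.Agent.S0802
import Cfsg.Agent.S0803

set_option autoImplicit false
open Cfsg

namespace Cfsg.Agent.S2537

open Matrix
open scoped MatrixGroups commutatorElement
open Cfsg.Agent.Lib.Helper39_PSL2HallNT Cfsg.Agent.Lib.Helper39_PSL2HallGT

/-- a prime dividing the order of a field of characteristic `p` is `p` -/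
theorem prime_dvd_card {F : Type*} [Field F] [Fintype F] (p : ℕ) [Fact p.Prime] [CharP F p]
    (r : ℕ) (hr : r.Prime) (h : r ∣ Fintype.card F) : r = p := by
  obtain ⟨n, hp, hn⟩ := FiniteField.card F p
  rw [hn] at h
  exact (Nat.prime_dvd_prime_iff_eq hr hp).1 (hr.dvd_of_dvd_pow h)

theorem eight_dvd (q : ℕ) (hq : q % 2 = 1) : 8 ∣ q ^ 2 - 1 := by
  have h8 : q % 8 = 1 ∨ q % 8 = 3 ∨ q % 8 = 5 ∨ q % 8 = 7 := by omega
  have h1 : q ^ 2 % 8 = 1 := by
    rcases h8 with h | h | h | h <;> simp [Nat.pow_mod, h]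
  have := Nat.dvd_sub_mod (n := 8) (q ^ 2)
  rwa [h1] at this

theorem three_dvd (q : ℕ) (hq : ¬ 3 ∣ q) : 3 ∣ q ^ 2 - 1 := by
  have h3 : q % 3 = 1 ∨ q % 3 = 2 := by omega
  have h1 : q ^ 2 % 3 = 1 := by
    rcases h3 with h | h <;> simp [Nat.pow_mod, h]
  have := Nat.dvd_sub_mod (n := 3) (q ^ 2)
  rwa [h1] at this

theorem two_pow_dvd_h23 (N k : ℕ) (hN : N ≠ 0) (h : 2 ^ k ∣ N) : 2 ^ k ∣ h23 N := by
  have hk := (Nat.Prime.pow_dvd_iff_le_factorization Nat.prime_two hN).1 h
  unfold h23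
  exact Dvd.dvd.mul_right (pow_dvd_pow 2 hk) _

theorem three_pow_dvd_h23 (N k : ℕ) (hN : N ≠ 0) (h : 3 ^ k ∣ N) : 3 ^ k ∣ h23 N := by
  have hk := (Nat.Prime.pow_dvd_iff_le_factorization Nat.prime_three hN).1 h
  unfold h23
  exact Dvd.dvd.mul_left (pow_dvd_pow 3 hk) _

/-- Hall `{2,3}`-subgroups of `PSL(2,F)` by their order -/
theorem isPiHall_iff {F : Type*} [Field F] [Fintype F] (p : ℕ) [Fact p.Prime] [CharP F p]
    (hp : 5 ≤ p) (H : Subgroup PSL(2, F)) :
    Cfsg.IsPiHall ({2, 3} : Set ℕ) H ↔ Nat.card H * 2 = h23 (Fintype.card F ^ 2 - 1) := by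
  have h2F : (2 : F) ≠ 0 := Cfsg.Agent.Lib.Helper51_SL2Cases.two_ne_zero_of_char p (by omega)
  have hq2 : ¬ 2 ∣ Fintype.card F := fun h => by
    have := prime_dvd_card (F := F) p 2 Nat.prime_two h
    omega
  have hq3 : ¬ 3 ∣ Fintype.card F := fun h => by
    have := prime_dvd_card (F := F) p 3 Nat.prime_three h
    omega
  have hq1 : 1 < Fintype.card F := Fintype.one_lt_card
  have hqq : 1 < Fintype.card F ^ 2 := Nat.one_lt_pow (by norm_num) hq1
  have hN0 : Fintype.card F ^ 2 - 1 ≠ 0 := by omega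
  have hcard := Cfsg.Agent.Lib.Helper51_SL2Cases.card_PSL2_odd (F := F) h2F
  have hidx := Subgroup.card_mul_index H
  have hN : Fintype.card F * (Fintype.card F ^ 2 - 1) = (Nat.card H * 2) * H.index := by
    rw [← hcard, ← hidx]; ring
  have hNT := hall_nt (Fintype.card F * (Fintype.card F ^ 2 - 1)) (Nat.card H * 2) H.index
    (Nat.mul_ne_zero (by omega) hN0) hN
  rw [h23_mul_left _ _ hN0 (by omega) hq2 hq3] at hNT
  rw [← hNT]
  unfold Cfsg.IsPiHall
  constructor
  · rintro ⟨h1, h2⟩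
    refine ⟨?_, h2 2 Nat.prime_two (by simp), h2 3 Nat.prime_three (by simp)⟩
    intro r hr hd
    rcases (Nat.Prime.dvd_mul hr).1 hd with h | h
    · have := h1 r hr h
      simpa using this
    · left
      exact (Nat.prime_dvd_prime_iff_eq hr Nat.prime_two).1 h
  · rintro ⟨h1, h2, h3⟩
    constructor
    · intro r hr hd
      have := h1 r hr (Dvd.dvd.mul_right hd 2)
      simpa using this
    · intro r hr hmem
      have hmem' : r = 2 ∨ r = 3 := by simpa using hmem
      rcases hmem' with rfl | rfl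
      · exact h2
      · exact h3

theorem card_alt4 : Nat.card (alternatingGroup (Fin 4)) = 12 := by
  rw [Nat.card_eq_fintype_card]
  have := two_mul_card_alternatingGroup (α := Fin 4)
  rw [Fintype.card_perm, Fintype.card_fin] at this
  have h24 : Nat.factorial 4 = 24 := by decide
  omega

theorem card_perm4 : Nat.card (Equiv.Perm (Fin 4)) = 24 := by
  rw [Nat.card_eq_fintype_card, Fintype.card_perm, Fintype.card_fin]
  decide


/-- Let `F` be a finite field with `q` elements of characteristic `p ≥ 5`, and `ε = 1` if `q ≡ 1 (mod 4)`, `ε = -1` otherwise. Then `PSL(2, F)` has a Hall `{2, 3}`-subgroup if and only if `3` divides `q − ε`, or the `{2,3}`-part of `q² − 1` is 24, or the `{2,3}`-part of `q² − 1` is 48 (the `{2,3}`-part of `m` being the largest divisor of `m` with no prime factor other than 2 and 3). -/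
theorem result {F : Type*} [Field F] [Fintype F] {p : ℕ} [Fact p.Prime] [CharP F p]
    (hp : 5 ≤ p) (q : ℕ) (hq : Fintype.card F = q) :
    (∃ H : Subgroup (Matrix.ProjectiveSpecialLinearGroup (Fin 2) F), Cfsg.IsPiHall ({2, 3} : Set ℕ) H) ↔
      (3 ∣ q - 1 ∧ q % 4 = 1) ∨ (3 ∣ q + 1 ∧ q % 4 = 3) ∨
        2 ^ (q ^ 2 - 1).factorization 2 * 3 ^ (q ^ 2 - 1).factorization 3 = 24 ∨
        2 ^ (q ^ 2 - 1).factorization 2 * 3 ^ (q ^ 2 - 1).factorization 3 = 48 := by
  classical
  subst hq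
  have hpp : p.Prime := Fact.out
  have hp2 : p ≠ 2 := by omega
  have h2F : (2 : F) ≠ 0 := Cfsg.Agent.Lib.Helper51_SL2Cases.two_ne_zero_of_char p hp2
  have hq2 : ¬ 2 ∣ Fintype.card F := fun h => by
    have := prime_dvd_card (F := F) p 2 Nat.prime_two h
    omega
  have hq3 : ¬ 3 ∣ Fintype.card F := fun h => by
    have := prime_dvd_card (F := F) p 3 Nat.prime_three h
    omega
  have hodd : Odd (Fintype.card F) := by
    rw [Nat.odd_iff]; omega
  have hq1 : 1 < Fintype.card F := Fintype.one_lt_card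
  have hq5 : 5 ≤ Fintype.card F := by
    obtain ⟨n, -, hn⟩ := FiniteField.card F p
    rw [hn]
    calc 5 ≤ p := hp
      _ = p ^ 1 := (pow_one p).symm
      _ ≤ p ^ (n : ℕ) := Nat.pow_le_pow_right hpp.pos n.2
  have hqq : 1 < Fintype.card F ^ 2 := Nat.one_lt_pow (by norm_num) hq1
  have hN0 : Fintype.card F ^ 2 - 1 ≠ 0 := by omega
  have hh23 : 2 ^ (Fintype.card F ^ 2 - 1).factorization 2 *
      3 ^ (Fintype.card F ^ 2 - 1).factorization 3 = h23 (Fintype.card F ^ 2 - 1) := rfl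
  rw [hh23]
  have h8 : 8 ∣ h23 (Fintype.card F ^ 2 - 1) :=
    two_pow_dvd_h23 _ 3 hN0 (eight_dvd _ (by omega))
  have h3 : 3 ∣ h23 (Fintype.card F ^ 2 - 1) := by
    have := three_pow_dvd_h23 _ 1 hN0 (by rw [pow_one]; exact three_dvd _ hq3)
    rwa [pow_one] at this
  constructor
  · rintro ⟨H, hH⟩
    rw [isPiHall_iff p hp] at hH
    obtain ⟨M, hM⟩ : ∃ M : Subgroup SL(2, F),
        M = H.comap (QuotientGroup.mk' (Subgroup.center SL(2, F))) := ⟨_, rfl⟩
    have hcM : Nat.card M = h23 (Fintype.card F ^ 2 - 1) := by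
      rw [hM, Cfsg.Agent.Lib.Helper51_SL2Cases.card_comap_mk h2F, hH]
    have hpM : ¬ p ∣ Nat.card M := by
      rw [hcM]
      intro h
      rcases prime_dvd_h23 _ p hpp h with h | h <;> omega
    have hcase3 : (∀ a ∈ M, ∀ b ∈ M, Commute (a ^ 2) (b ^ 2)) →
        (3 ∣ Fintype.card F - 1 ∧ Fintype.card F % 4 = 1) ∨
          (3 ∣ Fintype.card F + 1 ∧ Fintype.card F % 4 = 3) ∨
          h23 (Fintype.card F ^ 2 - 1) = 24 ∨ h23 (Fintype.card F ^ 2 - 1) = 48 := by
      intro hsq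
      rcases twelve_dvd p hp M hsq (by rw [hcM]; exact h3) (by rw [hcM]; exact h8) with h | h
      · left
        omega
      · right; left
        omega
    rcases Cfsg.Agent.Lib.Helper51_SL2Cases.sl2_cases_odd p hp2 M with ⟨φ, hU, -⟩ | h | h | ⟨h, -⟩
    · exfalso
      apply hpM
      have hcard : Nat.card (M.map φ.toMonoidHom) = Nat.card M :=
        (Nat.card_congr (M.equivMapOfInjective φ.toMonoidHom φ.injective).toEquiv).symm
      rw [← hcard]
      have hord : orderOf (Cfsg.Agent.Lib.Helper50_SL2Mat.tU (1 : F)) = p := by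
        apply orderOf_eq_prime
        · rw [Cfsg.Agent.Lib.Helper50_SL2Mat.tU_pow, mul_one, CharP.cast_eq_zero F p,
            Cfsg.Agent.Lib.Helper50_SL2Mat.tU_zero]
        · intro h
          rw [← Cfsg.Agent.Lib.Helper50_SL2Mat.tU_zero] at h
          exact one_ne_zero (Cfsg.Agent.Lib.Helper50_SL2Mat.tU_injective h)
      rw [← hord]
      exact Subgroup.orderOf_dvd_natCard _ hU
    · apply hcase3
      intro a ha b hb
      have hone : ∀ x ∈ M, ∀ y ∈ M, ⁅x, y⁆ = 1 := by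
        intro x hx y hy
        have hc : ⁅x, y⁆ ∈ M := by
          rw [commutatorElement_def]
          exact M.mul_mem (M.mul_mem (M.mul_mem hx hy) (M.inv_mem hx)) (M.inv_mem hy)
        have hd1 : orderOf ⁅x, y⁆ ∣ p := orderOf_dvd_of_pow_eq_one (h x hx y hy)
        have hd2 : orderOf ⁅x, y⁆ ∣ Nat.card M := Subgroup.orderOf_dvd_natCard M hc
        rcases (Nat.dvd_prime hpp).1 hd1 with h1 | h1
        · exact orderOf_eq_one_iff.1 h1
        · exfalso
          rw [h1] at hd2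
          exact hpM hd2
      have hab : Commute a b := commutatorElement_eq_one_iff_commute.1 (hone a ha b hb)
      exact hab.pow_pow 2 2
    · exact hcase3 h
    · rw [hcM] at h
      rcases h with h | h | h
      · right; right; left; exact h
      · right; right; right; exact h
      · exfalso
        have h5 : 5 ∣ h23 (Fintype.card F ^ 2 - 1) := by rw [h]; norm_num
        rcases prime_dvd_h23 _ 5 Nat.prime_five h5 with h | h <;> omega
  · have hfromM : ∀ M : Subgroup SL(2, F), Nat.card M = h23 (Fintype.card F ^ 2 - 1) →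
        ∃ H : Subgroup (Matrix.ProjectiveSpecialLinearGroup (Fin 2) F),
          Cfsg.IsPiHall ({2, 3} : Set ℕ) H := by
      intro M hcM
      obtain ⟨H, hH⟩ := exists_psl_card h2F M (by rw [hcM]; exact Dvd.dvd.trans (by norm_num) h8)
      refine ⟨H, ?_⟩
      rw [isPiHall_iff p hp, hH, hcM]
    rintro (⟨h3q, h4q⟩ | ⟨h3q, h4q⟩ | h | h)
    · obtain ⟨n, hn, hcop⟩ := h23_spec (2 * (Fintype.card F - 1)) (by omega)
      rw [← h23_minus _ h3q h4q hq5] at hn hcop
      obtain ⟨M, hcM⟩ := exists_minus hodd h3q _ n hn hcop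
      exact hfromM M hcM
    · obtain ⟨n, hn, hcop⟩ := h23_spec (2 * (Fintype.card F + 1)) (by omega)
      rw [← h23_plus _ h3q h4q hq5] at hn hcop
      obtain ⟨M, hcM⟩ := exists_plus hodd _ n hn hcop
      exact hfromM M hcM
    · obtain ⟨n, -, hn⟩ := FiniteField.card F p
      obtain ⟨H, ⟨e⟩⟩ := (Cfsg.Agent.S0802.result (F := F) p n hn).2 (by omega)
      refine ⟨H, ?_⟩
      rw [isPiHall_iff p hp, Nat.card_congr e.toEquiv, card_alt4, h]
    · have h16 : 2 ^ 4 ∣ Fintype.card F ^ 2 - 1 := by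
        rw [← two_pow_of_h23_eq_48 _ h]
        exact Nat.ordProj_dvd _ 2
      have hmod : Fintype.card F ^ 2 % 16 = 1 := by
        obtain ⟨k, hk⟩ := h16
        omega
      obtain ⟨H, ⟨e⟩⟩ := (Cfsg.Agent.S0803.result (F := F) rfl).2 hmod
      refine ⟨H, ?_⟩
      rw [isPiHall_iff p hp, Nat.card_congr e.toEquiv, card_perm4, h]

end Cfsg.Agent.S2537
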