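import Cfsg.Statements.S2540
import Cfsg.Agent.Lib.Helper5_PSLSimple

set_option autoImplicit false
open Cfsg

namespace Cfsg.Agent.S2540

open Matrix Matrix.SpecialLinearGroup
open scoped commutatorElement IsMulCommutative

section key

variable {F : Type*} [Field F] {n : ℕ}

/-- conjugation by an element of `GL` as an endomorphism of `SL` -/
def conjSL (g : GL (Fin n) F) : SpecialLinearGroup (Fin n) F →* SpecialLinearGroup (Fin n) F where
  toFun s := ⟨(g : Matrix (Fin n) (Fin n) F) * s.1 * ((g⁻¹ : GL (Fin n) F) : Matrix (Fin n) (Fin n) F), by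
    rw [det_mul, det_mul, s.2, mul_one, ← det_mul, ← Units.val_mul, mul_inv_cancel]
    simp⟩
  map_one' := by
    apply Subtype.ext
    change (g : Matrix (Fin n) (Fin n) F) * (1 : Matrix (Fin n) (Fin n) F) * _ = 1
    rw [mul_one, ← Units.val_mul, mul_inv_cancel]; rfl
  map_mul' a b := by
    apply Subtype.ext
    change (g : Matrix (Fin n) (Fin n) F) * (a.1 * b.1) * _ =
      ((g : Matrix (Fin n) (Fin n) F) * a.1 * _) * ((g : Matrix (Fin n) (Fin n) F) * b.1 * _)
    have h : ((g⁻¹ : GL (Fin n) F) : Matrix (Fin n) (Fin n) F) * (g : Matrix (Fin n) (Fin n) F) = 1 := by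
      rw [← Units.val_mul, inv_mul_cancel]; rfl
    calc (g : Matrix (Fin n) (Fin n) F) * (a.1 * b.1) * ((g⁻¹ : GL (Fin n) F) : Matrix (Fin n) (Fin n) F)
        = (g : Matrix (Fin n) (Fin n) F) * a.1 * (1 : Matrix (Fin n) (Fin n) F) * b.1 *
            ((g⁻¹ : GL (Fin n) F) : Matrix (Fin n) (Fin n) F) := by
          simp only [mul_one, Matrix.mul_assoc]
      _ = _ := by rw [← h]; simp only [Matrix.mul_assoc]

theorem toGL_conjSL (g : GL (Fin n) F) (s : SpecialLinearGroup (Fin n) F) :
    toGL (conjSL g s) = g * toGL s * g⁻¹ := by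
  apply Units.ext
  rfl

theorem key (hsimple : IsSimpleGroup (Matrix.ProjectiveSpecialLinearGroup (Fin n) F))
    (hperf : commutator (SpecialLinearGroup (Fin n) F) = ⊤)
    (G : Subgroup (GL (Fin n) F))
    (hG : ∀ s : SpecialLinearGroup (Fin n) F, ∀ g ∈ G, toGL s * g * (toGL s)⁻¹ ∈ G) :
    (∀ g ∈ G, ∃ c : F, (g : Matrix (Fin n) (Fin n) F) = c • (1 : Matrix (Fin n) (Fin n) F)) ∨
      (toGL : SpecialLinearGroup (Fin n) F →* _).range ≤ G := by
  set G' : Subgroup (SpecialLinearGroup (Fin n) F) := G.comap toGL with hG'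
  have hnorm : G'.Normal := ⟨fun a ha s => by
    change toGL (s * a * s⁻¹) ∈ G
    rw [map_mul, map_mul, map_inv]
    exact hG s _ ha⟩
  have hmap : (G'.map (QuotientGroup.mk' (Subgroup.center (SpecialLinearGroup (Fin n) F)))).Normal :=
    Subgroup.Normal.map hnorm _ (QuotientGroup.mk'_surjective _)
  rcases hmap.eq_bot_or_eq_top with h | h
  · left
    have hle : G' ≤ Subgroup.center (SpecialLinearGroup (Fin n) F) := by
      intro a ha
      have h1 : QuotientGroup.mk' (Subgroup.center (SpecialLinearGroup (Fin n) F)) a ∈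
          G'.map (QuotientGroup.mk' _) := Subgroup.mem_map_of_mem _ ha
      rw [h, Subgroup.mem_bot, QuotientGroup.mk'_apply, QuotientGroup.eq_one_iff] at h1
      exact h1
    intro g hg
    -- `c s = conjSL g s * s⁻¹` is central
    have hc : ∀ s, conjSL g s * s⁻¹ ∈ Subgroup.center (SpecialLinearGroup (Fin n) F) := by
      intro s
      apply hle
      change toGL (conjSL g s * s⁻¹) ∈ G
      rw [map_mul, toGL_conjSL, map_inv]
      have h1 := hG s g⁻¹ (G.inv_mem hg)
      have h2 := G.mul_mem hg h1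
      convert h2 using 1
      group
    -- it is a homomorphism to the (commutative) centre
    let c : SpecialLinearGroup (Fin n) F →* Subgroup.center (SpecialLinearGroup (Fin n) F) :=
      { toFun := fun s => ⟨conjSL g s * s⁻¹, hc s⟩
        map_one' := by apply Subtype.ext; simp
        map_mul' := fun a b => by
          apply Subtype.ext
          change conjSL g (a * b) * (a * b)⁻¹ = (conjSL g a * a⁻¹) * (conjSL g b * b⁻¹)
          have hb := Subgroup.mem_center_iff.mp (hc b) a⁻¹
          rw [map_mul, _root_.mul_inv_rev]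
          calc conjSL g a * conjSL g b * (b⁻¹ * a⁻¹)
              = conjSL g a * ((conjSL g b * b⁻¹) * a⁻¹) := by group
            _ = conjSL g a * (a⁻¹ * (conjSL g b * b⁻¹)) := by rw [hb]
            _ = _ := by group }
    have hker : ∀ s, c s = 1 := by
      intro s
      have h1 : s ∈ commutator (SpecialLinearGroup (Fin n) F) := by rw [hperf]; trivial
      exact @Abelianization.commutator_subset_ker _ _ (Subgroup.center (SpecialLinearGroup (Fin n) F)) _ c s h1
    have hfix : ∀ s : SpecialLinearGroup (Fin n) F, conjSL g s = s := by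
      intro s
      have := congrArg Subtype.val (hker s)
      change conjSL g s * s⁻¹ = 1 at this
      exact mul_inv_eq_one.mp this
    -- so `g` commutes with every transvection
    have hcomm : ∀ t : TransvectionStruct (Fin n) F, Commute t.toMatrix (g : Matrix (Fin n) (Fin n) F) := by
      intro t
      have h1 := congrArg Subtype.val (hfix t.toSpecialLinearGroup)
      change (g : Matrix (Fin n) (Fin n) F) * t.toMatrix * ((g⁻¹ : GL (Fin n) F) : Matrix (Fin n) (Fin n) F) =
        t.toMatrix at h1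
      have h2 : ((g⁻¹ : GL (Fin n) F) : Matrix (Fin n) (Fin n) F) * (g : Matrix (Fin n) (Fin n) F) = 1 := by
        rw [← Units.val_mul, inv_mul_cancel]; rfl
      change t.toMatrix * (g : Matrix (Fin n) (Fin n) F) = (g : Matrix (Fin n) (Fin n) F) * t.toMatrix
      calc t.toMatrix * (g : Matrix (Fin n) (Fin n) F)
          = ((g : Matrix (Fin n) (Fin n) F) * t.toMatrix *
              ((g⁻¹ : GL (Fin n) F) : Matrix (Fin n) (Fin n) F)) * (g : Matrix (Fin n) (Fin n) F) := by
            rw [h1]
        _ = (g : Matrix (Fin n) (Fin n) F) * t.toMatrix := by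
            rw [Matrix.mul_assoc, h2, Matrix.mul_one]
    obtain ⟨r, hr⟩ := Matrix.mem_range_scalar_of_commute_transvectionStruct hcomm
    refine ⟨r, ?_⟩
    rw [← hr]
    ext i j
    simp [Matrix.scalar_apply, Matrix.diagonal_apply, Matrix.one_apply]
  · right
    -- every element of SL is congruent to an element of G' modulo the centre
    have hcomm : commutator (SpecialLinearGroup (Fin n) F) ≤ G' := by
      rw [commutator_def, Subgroup.commutator_le]
      intro a _ b _
      have ha : QuotientGroup.mk' (Subgroup.center (SpecialLinearGroup (Fin n) F)) a ∈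
          G'.map (QuotientGroup.mk' _) := by rw [h]; trivial
      have hb : QuotientGroup.mk' (Subgroup.center (SpecialLinearGroup (Fin n) F)) b ∈
          G'.map (QuotientGroup.mk' _) := by rw [h]; trivial
      obtain ⟨a', ha', haa⟩ := ha
      obtain ⟨b', hb', hbb⟩ := hb
      -- a = a' * za, b = b' * zb with za, zb central
      have hza : a'⁻¹ * a ∈ Subgroup.center (SpecialLinearGroup (Fin n) F) := by
        rw [← QuotientGroup.eq_one_iff]
        have : ((a'⁻¹ * a : SpecialLinearGroup (Fin n) F) : _ ⧸ Subgroup.center (SpecialLinearGroup (Fin n) F)) =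
            (QuotientGroup.mk' _ a')⁻¹ * QuotientGroup.mk' _ a := rfl
        rw [this, haa]; simp
      have hzb : b'⁻¹ * b ∈ Subgroup.center (SpecialLinearGroup (Fin n) F) := by
        rw [← QuotientGroup.eq_one_iff]
        have : ((b'⁻¹ * b : SpecialLinearGroup (Fin n) F) : _ ⧸ Subgroup.center (SpecialLinearGroup (Fin n) F)) =
            (QuotientGroup.mk' _ b')⁻¹ * QuotientGroup.mk' _ b := rfl
        rw [this, hbb]; simp
      obtain ⟨za, hza_def⟩ : ∃ za, za = a'⁻¹ * a := ⟨_, rfl⟩
      obtain ⟨zb, hzb_def⟩ : ∃ zb, zb = b'⁻¹ * b := ⟨_, rfl⟩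
      rw [← hza_def] at hza
      rw [← hzb_def] at hzb
      have ea : a = a' * za := by rw [hza_def]; group
      have eb : b = b' * zb := by rw [hzb_def]; group
      have hcza : ∀ x, x * za = za * x := fun x => Subgroup.mem_center_iff.mp hza x
      have hczb : ∀ x, x * zb = zb * x := fun x => Subgroup.mem_center_iff.mp hzb x
      have hcza' : ∀ x, x * za⁻¹ = za⁻¹ * x := fun x =>
        Subgroup.mem_center_iff.mp (Subgroup.inv_mem _ hza) x
      have hczb' : ∀ x, x * zb⁻¹ = zb⁻¹ * x := fun x =>
        Subgroup.mem_center_iff.mp (Subgroup.inv_mem _ hzb) x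
      have e : ⁅a, b⁆ = ⁅a', b'⁆ := by
        rw [commutatorElement_def, commutatorElement_def, ea, eb]
        calc a' * za * (b' * zb) * (a' * za)⁻¹ * (b' * zb)⁻¹
            = a' * za * (b' * zb) * (za⁻¹ * a'⁻¹) * (zb⁻¹ * b'⁻¹) := by
              rw [_root_.mul_inv_rev, _root_.mul_inv_rev]
          _ = a' * (b' * zb) * za * (za⁻¹ * a'⁻¹) * (zb⁻¹ * b'⁻¹) := by
              rw [mul_assoc a' za, ← hcza (b' * zb), ← mul_assoc a']
          _ = a' * b' * zb * a'⁻¹ * (zb⁻¹ * b'⁻¹) := by group
          _ = a' * b' * a'⁻¹ * zb * (zb⁻¹ * b'⁻¹) := by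
              rw [mul_assoc (a' * b') zb, ← hczb a'⁻¹, ← mul_assoc (a' * b')]
          _ = a' * b' * a'⁻¹ * b'⁻¹ := by group
      rw [e, commutatorElement_def]
      exact G'.mul_mem (G'.mul_mem (G'.mul_mem ha' hb') (G'.inv_mem ha')) (G'.inv_mem hb')
    rw [hperf] at hcomm
    rintro _ ⟨s, rfl⟩
    exact hcomm (Subgroup.mem_top s)

end key

theorem field_cond {F : Type*} [Field F] [Fintype F] (hF : 4 ≤ Fintype.card F) :
    ∃ a : F, a ≠ 0 ∧ a ^ 2 ≠ 1 := by
  classical
  obtain ⟨x, hx⟩ : IsCyclic Fˣ := by infer_instance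
  refine ⟨x, Units.ne_zero x, fun h ↦ ?_⟩
  have h1 : orderOf x = Fintype.card Fˣ := by
    rw [orderOf_eq_card_of_forall_mem_zpowers hx, Nat.card_eq_fintype_card]
  have h2 : orderOf x ≤ 2 := orderOf_le_of_pow_eq_one zero_lt_two (Units.ext <| by simpa using h)
  rw [h1, Fintype.card_units] at h2
  omega

/-- Let F be a finite field and n ≥ 1, excluding the case n = 2 with #F ≤ 3. A subgroup of GL_n(F) that is normalized by every element of SL_n(F) either consists of scalar matrices or contains SL_n(F). -/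
theorem result {F : Type*} [Field F] [Fintype F] (n : ℕ) (hn : 1 ≤ n) (hex : ¬ (n = 2 ∧ Fintype.card F ≤ 3)) (G : Subgroup (Matrix.GeneralLinearGroup (Fin n) F)) (hG : ∀ s : Matrix.SpecialLinearGroup (Fin n) F, ∀ g ∈ G, (Matrix.SpecialLinearGroup.toGL s) * g * (Matrix.SpecialLinearGroup.toGL s)⁻¹ ∈ G) : (∀ g ∈ G, ∃ c : F, (g : Matrix (Fin n) (Fin n) F) = c • (1 : Matrix (Fin n) (Fin n) F)) ∨ (Matrix.SpecialLinearGroup.toGL : Matrix.SpecialLinearGroup (Fin n) F →* _).range ≤ G := by
  rcases Nat.lt_or_ge n 3 with h3 | h3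
  · have h12 : n = 1 ∨ n = 2 := by omega
    rcases h12 with rfl | rfl
    · left
      intro g _
      refine ⟨(g : Matrix (Fin 1) (Fin 1) F) 0 0, ?_⟩
      ext i j
      fin_cases i; fin_cases j
      simp
    · have hF : 4 ≤ Fintype.card F := by
        by_contra hcon
        exact hex ⟨rfl, by omega⟩
      obtain ⟨a, ha, hasq⟩ := field_cond hF
      exact key (Matrix.ProjectiveSpecialLinearGroup.rank_two_simple
          (by rw [Nat.card_eq_fintype_card]; exact hF))
        (Matrix.SL2.commutator_eq_top ha hasq) G hG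
  · exact key (Cfsg.Agent.Lib.Helper5_PSLSimple.psl_simple (by simpa using h3))
      (Cfsg.Agent.Lib.Helper5_SLGen.commutator_eq_top_of_three_le_card (by simpa using h3)) G hG

end Cfsg.Agent.S2540
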