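import Cfsg.Statements.S2541

set_option autoImplicit false
open Cfsg

namespace Cfsg.Agent.S2541

/-- In `S_6`, an element whose eighth power is trivial already has trivial fourth power. -/
theorem perm_pow_four (σ : Equiv.Perm (Fin 6)) (h : σ ^ 8 = 1) : σ ^ 4 = 1 := by
  have h8 : orderOf σ ∣ 8 := orderOf_dvd_of_pow_eq_one h
  apply orderOf_dvd_iff_pow_eq_one.mp
  rw [← Equiv.Perm.lcm_cycleType, Multiset.lcm_dvd]
  intro n hn
  have h1 : n ∣ 8 := (Equiv.Perm.dvd_of_mem_cycleType hn).trans h8
  have h2 : n ≤ 6 := by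
    have := Multiset.le_sum_of_mem hn
    rw [Equiv.Perm.sum_cycleType] at this
    have h3 : σ.support.card ≤ Fintype.card (Fin 6) := Finset.card_le_univ _
    simp at h3
    omega
  have h3 : n ≤ 8 := Nat.le_of_dvd (by norm_num) h1
  interval_cases n <;> simp_all

section mat
variable {F : Type*} [Field F]

/-- the diagonal matrix `diag(u, 1)` as an element of `GL₂` -/
def dg (u : Fˣ) : GL (Fin 2) F :=
  ⟨Matrix.diagonal ![(u : F), 1], Matrix.diagonal ![((u⁻¹ : Fˣ) : F), 1],
    by
      rw [Matrix.diagonal_mul_diagonal, ← Matrix.diagonal_one]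
      congr 1; ext i; fin_cases i <;> simp,
    by
      rw [Matrix.diagonal_mul_diagonal, ← Matrix.diagonal_one]
      congr 1; ext i; fin_cases i <;> simp⟩

theorem dg_mul (u v : Fˣ) : dg u * dg v = dg (u * v) := by
  apply Units.ext
  change Matrix.diagonal ![(u : F), 1] * Matrix.diagonal ![(v : F), 1] =
    Matrix.diagonal ![((u * v : Fˣ) : F), 1]
  rw [Matrix.diagonal_mul_diagonal]
  congr 1; ext i; fin_cases i <;> simp

theorem dg_one : dg (1 : Fˣ) = 1 := by
  apply Units.ext
  change Matrix.diagonal ![((1 : Fˣ) : F), 1] = 1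
  rw [← Matrix.diagonal_one]
  congr 1; ext i; fin_cases i <;> simp

theorem dg_pow (u : Fˣ) (k : ℕ) : dg u ^ k = dg (u ^ k) := by
  induction k with
  | zero => simp [dg_one]
  | succ k ih => rw [pow_succ, ih, dg_mul, pow_succ]

theorem mk_dg_eq_one (u : Fˣ) (h : Matrix.ProjGenLinGroup.mk (dg u) = 1) : u = 1 := by
  rw [Matrix.ProjGenLinGroup.mk_eq_one, Matrix.GeneralLinearGroup.center_eq_range_scalar] at h
  obtain ⟨r, hr⟩ := h
  have h00 := congrArg (fun g : GL (Fin 2) F => (g : Matrix (Fin 2) (Fin 2) F) 0 0) hr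
  have h11 := congrArg (fun g : GL (Fin 2) F => (g : Matrix (Fin 2) (Fin 2) F) 1 1) hr
  simp [dg, Matrix.GeneralLinearGroup.scalar] at h00 h11
  apply Units.ext
  rw [← h00, h11]

end mat

/-- Let F be a field with 9 elements. The symmetric group S_6 is not isomorphic to PGL_2(F) (although both have index-2 subgroups isomorphic to A_6). -/
theorem result {F : Type*} [Field F] [Fintype F] (hF : Fintype.card F = 9) : ¬ Nonempty (Equiv.Perm (Fin 6) ≃* Matrix.ProjGenLinGroup (Fin 2) F) := by
  classical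
  rintro ⟨e⟩
  -- a generator of the unit group
  obtain ⟨ζ, hζ⟩ := IsCyclic.exists_generator (α := Fˣ)
  have hcard : Fintype.card Fˣ = 8 := by rw [Fintype.card_units, hF]
  have hord : orderOf ζ = 8 := by
    rw [orderOf_eq_card_of_forall_mem_zpowers hζ, Nat.card_eq_fintype_card, hcard]
  set y : Matrix.ProjGenLinGroup (Fin 2) F := Matrix.ProjGenLinGroup.mk (dg ζ) with hy
  have hy8 : y ^ 8 = 1 := by
    rw [hy, ← map_pow, dg_pow, ← hord, pow_orderOf_eq_one, dg_one, map_one]
  have hy4 : y ^ 4 ≠ 1 := by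
    rw [hy, ← map_pow, dg_pow]
    intro h
    have := mk_dg_eq_one _ h
    have := orderOf_dvd_of_pow_eq_one this
    rw [hord] at this
    omega
  apply hy4
  have h1 : (e.symm y) ^ 8 = 1 := by rw [← map_pow, hy8, map_one]
  have h2 := perm_pow_four _ h1
  have h3 := congrArg e h2
  simpa using h3

end Cfsg.Agent.S2541
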