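import Cfsg.Statements.S2543
import Cfsg.Agent.S0807
import Cfsg.Agent.S0808
import Cfsg.Agent.Lib.Helper5_PSLCard
import Cfsg.Agent.Lib.Helper61_TableHom
import Cfsg.Agent.Lib.Helper42_SL2Class
import Cfsg.Agent.Lib.Helper42_SL2Class2
import Cfsg.Agent.Lib.Helper42_PSL2Klein
import Cfsg.Agent.Lib.Helper42_PSL211
import Cfsg.Agent.Lib.Helper42_PSL211Ex
import Cfsg.Agent.Lib.Helper42_A5Count

set_option autoImplicit false
open scoped Pointwise
open Cfsg

namespace Cfsg.Agent.S2543

open Cfsg.Agent.Lib.Helper42_SL2Class Cfsg.Agent.Lib.Helper42_PSL2Klein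
open Cfsg.Agent.Lib.Helper42_PSL211 in
/-- transport of a pair of copies of `A₅` sharing a four-group along an isomorphism -/
theorem transport {A B : Type*} [Group A] [Group B] (ε : A ≃* B)
    (h : ∃ H1 H2 : Subgroup A, Nonempty (H1 ≃* alternatingGroup (Fin 5)) ∧
      Nonempty (H2 ≃* alternatingGroup (Fin 5)) ∧ H1 ≠ H2 ∧
      ∃ V : Subgroup A, IsKleinFour V ∧ V ≤ H1 ∧ V ≤ H2) :
    ∃ H1 H2 : Subgroup B, Nonempty (H1 ≃* alternatingGroup (Fin 5)) ∧
      Nonempty (H2 ≃* alternatingGroup (Fin 5)) ∧ H1 ≠ H2 ∧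
      ∃ V : Subgroup B, IsKleinFour V ∧ V ≤ H1 ∧ V ≤ H2 := by
  obtain ⟨H1, H2, ⟨e1⟩, ⟨e2⟩, hne, V, hV, hV1, hV2⟩ := h
  refine ⟨H1.map ε.toMonoidHom, H2.map ε.toMonoidHom, ⟨(ε.subgroupMap H1).symm.trans e1⟩,
    ⟨(ε.subgroupMap H2).symm.trans e2⟩, ?_, V.map ε.toMonoidHom,
    isKleinFour_of_mulEquiv (ε.subgroupMap V) hV, Subgroup.map_mono hV1, Subgroup.map_mono hV2⟩
  intro h
  exact hne (Subgroup.map_injective ε.injective h)

/-- in `PSL₂(11)` the centralizer of an element of order three has order six -/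
theorem card_centralizer_three {F : Type*} [Field F] [Fintype F] (hF : Fintype.card F = 11)
    (hG : Nat.card (Matrix.ProjectiveSpecialLinearGroup (Fin 2) F) = 660)
    (h2F : (2 : F) ≠ 0)
    (b : Matrix.ProjectiveSpecialLinearGroup (Fin 2) F) (hb3 : b * b * b = 1) (hb1 : b ≠ 1) :
    Nat.card (Subgroup.centralizer ({b} : Set (Matrix.ProjectiveSpecialLinearGroup (Fin 2) F)))
      = 6 := by
  classical
  obtain ⟨g, rfl⟩ := proj_surjective b
  set C := Subgroup.centralizer ({proj g} : Set (Matrix.ProjectiveSpecialLinearGroup (Fin 2) F))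
    with hC
  have hmul := C.card_mul_index
  rw [hG] at hmul
  -- 3 divides the order of the centralizer
  have h3 : 3 ∣ Nat.card C := by
    have hle : Subgroup.zpowers (proj g) ≤ C := by
      rw [Subgroup.zpowers_le, hC, Subgroup.mem_centralizer_iff]
      intro h hh
      rw [Set.mem_singleton_iff] at hh
      rw [hh]
    have hdvd := Subgroup.card_dvd_of_le hle
    have hord : orderOf (proj g) = 3 := by
      have : Fact (Nat.Prime 3) := ⟨by norm_num⟩
      apply orderOf_eq_prime
      · rw [pow_succ, pow_succ, pow_one]; exact hb3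
      · exact hb1
    rwa [Nat.card_zpowers, hord] at hdvd
  by_cases hsc : IsSc g.1
  · exact absurd (proj_eq_one_of_isSc g hsc) hb1
  by_cases hτ : (Matrix.trace g.1) ^ 2 = 4
  · exfalso
    have := two_mul_index_psl_unipotent_odd h2F g hsc hτ
    rw [hF] at this
    have hidx : C.index = 60 := by
      rw [hC]; omega
    rw [hidx] at hmul
    have : Nat.card C = 11 := by omega
    rw [this] at h3
    omega
  by_cases hτ0 : Matrix.trace g.1 = 0
  · exfalso
    have hgg := mul_self_of_trace_zero g hτ0
    have : proj g * proj g = 1 := by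
      rw [← map_mul, hgg, proj_negS_one]
    apply hb1
    calc proj g = (proj g * proj g * proj g) * (proj g * proj g)⁻¹ := by group
      _ = 1 := by rw [hb3, this]; simp
  · have := index_psl_of_trace g hτ (Or.inr hτ0)
    rw [hF] at this
    rcases R_zero_or_two _ hτ with h | h
    · rw [h] at this
      have hidx : C.index = 110 := by rw [hC]; omega
      rw [hidx] at hmul
      omega
    · rw [h] at this
      have hidx : C.index = 132 := by rw [hC]; omega
      rw [hidx] at hmul
      have : Nat.card C = 5 := by omega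
      rw [this] at h3
      omega


/-- Let F be a field with 11 elements. PSL_2(F) has exactly 22 subgroups isomorphic to the alternating group A_5, and they form two conjugacy classes: there are two such subgroups that are not conjugate, and every such subgroup is conjugate to one of these two. -/
theorem result {F : Type*} [Field F] [Fintype F] (hF : Fintype.card F = 11) : Nat.card {H : Subgroup (Matrix.ProjectiveSpecialLinearGroup (Fin 2) F) // Nonempty (H ≃* alternatingGroup (Fin 5))} = 22 ∧ ∃ H K : Subgroup (Matrix.ProjectiveSpecialLinearGroup (Fin 2) F), Nonempty (H ≃* alternatingGroup (Fin 5)) ∧ Nonempty (K ≃* alternatingGroup (Fin 5)) ∧ (∀ g : Matrix.ProjectiveSpecialLinearGroup (Fin 2) F, MulAut.conj g • H ≠ K) ∧ ∀ L : Subgroup (Matrix.ProjectiveSpecialLinearGroup (Fin 2) F), Nonempty (L ≃* alternatingGroup (Fin 5)) → ∃ g : Matrix.ProjectiveSpecialLinearGroup (Fin 2) F, MulAut.conj g • L = H ∨ MulAut.conj g • L = K := by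
  have hp11 : Nat.Prime 11 := by norm_num
  have h2F : (2 : F) ≠ 0 := by
    apply Ring.two_ne_zero
    intro hc
    have := FiniteField.even_card_iff_char_two.mp hc
    rw [hF] at this
    omega
  have hG : Nat.card (Matrix.ProjectiveSpecialLinearGroup (Fin 2) F) = 660 := by
    have h1 := Cfsg.Agent.Lib.Helper5_PSLCard.card_PSL_mul (F := F) 2 (by norm_num)
    rw [Cfsg.Agent.Lib.Helper5_PSLCard.card_SL_two, hF] at h1
    norm_num at h1
    omega
  have : Finite (Matrix.ProjectiveSpecialLinearGroup (Fin 2) F) :=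
    Nat.finite_of_card_ne_zero (by rw [hG]; norm_num)
  have hK : Nat.card {V : Subgroup (Matrix.ProjectiveSpecialLinearGroup (Fin 2) F) //
      IsKleinFour V} = 55 := by
    have := Cfsg.Agent.S0807.result hF (by decide)
    rw [hG] at this
    omega
  have hconj : ∀ V W : Subgroup (Matrix.ProjectiveSpecialLinearGroup (Fin 2) F),
      IsKleinFour V → IsKleinFour W → ∃ g : Matrix.ProjectiveSpecialLinearGroup (Fin 2) F,
        W = MulAut.conj g • V := by
    intro V W hV hW
    obtain ⟨g, hg⟩ := (Cfsg.Agent.S0808.result hF (by decide)).1 (Or.inl (by norm_num)) V W hV hW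
    exact ⟨g, hg⟩
  have hex := transport
    (Cfsg.Agent.Lib.Helper61_TableHom.pslEquiv (n := Fin 2) (ZMod.ringEquivOfPrime F hp11 hF))
    Cfsg.Agent.Lib.Helper42_PSL211Ex.exists_two
  exact Cfsg.Agent.Lib.Helper42_A5Count.main hG hK hconj
    (card_centralizer_three hF hG h2F) hex

end Cfsg.Agent.S2543
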