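-- Statement S2546 (row 2546): the Steinberg character of PSU_n(q).
-- Proof: helper68's abstract root-datum => (B, N)-pair => Steinberg character theorem (Helper68_StAbs), instantiated
-- for the special unitary group of the antidiagonal hermitian form (Helper27_StSUDefs, packages *_StSU_*, assembly
-- Helper27_StSU_Asm) and transported to `Cfsg.SU n F q`.
import Cfsg.Statements.S2546
import Cfsg.Agent.Lib.Helper27_StSU_Asm

set_option autoImplicit false
open Cfsg

namespace Cfsg.Agent.S2546

/-- Let F be a finite field of characteristic p and consider the projective special unitary group PSU_n(q), n ≥ 2, realised over the field F with q² elements. This group has an irreducible complex character χ whose degree equals the order of a Sylow p-subgroup (namely q^(n(n−1)/2)) and whose restriction to any Sylow p-subgroup P is the regular character of P: χ vanishes on the non-identity elements of P. (This is the Steinberg character.) -/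
theorem result {F : Type*} [Field F] [Fintype F] (p : ℕ) [Fact p.Prime] [CharP F p] (n q : ℕ) (hn : 2 ≤ n) (hF : Fintype.card F = q ^ 2) : ∃ χ : Cfsg.PSU n F q → ℂ, Cfsg.IsIrrCharacter (Cfsg.PSU n F q) χ ∧ ∀ P : Sylow p (Cfsg.PSU n F q), χ 1 = Nat.card P ∧ ∀ x : Cfsg.PSU n F q, x ∈ P → x ≠ 1 → χ x = 0 :=
  Cfsg.Agent.Lib.Helper27_StSU_Asm.exists_steinberg_psu p n q hF

end Cfsg.Agent.S2546
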