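import Mathlib
import Cfsg.Statements.S2551
import Cfsg.Agent.Lib.Helper4_A7GL4

set_option autoImplicit false

namespace Cfsg.Agent.S2551

open Matrix

section Field2

variable {F : Type*} [Field F] [Fintype F]

/-- a field with two elements has only `0` and `1` -/
theorem eq_zero_or_one (hF : Fintype.card F = 2) (x : F) : x = 0 ∨ x = 1 := by
  classical
  by_contra h
  push Not at h
  have h3 : ({0, 1, x} : Finset F).card = 3 := by
    rw [Finset.card_insert_of_notMem, Finset.card_insert_of_notMem, Finset.card_singleton]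
    · simpa using h.2.symm
    · simp only [Finset.mem_insert, Finset.mem_singleton, not_or]
      exact ⟨zero_ne_one, h.1.symm⟩
  have := Finset.card_le_univ ({0, 1, x} : Finset F)
  omega

theorem one_add_one (hF : Fintype.card F = 2) : (1 : F) + 1 = 0 := by
  rcases eq_zero_or_one hF ((1 : F) + 1) with h | h
  · exact h
  · exfalso
    have : (1 : F) = 0 := by
      have := congrArg (fun t => t - 1) h
      simp at this
    exact one_ne_zero this

theorem add_self_vec (hF : Fintype.card F = 2) (v : Fin 4 → F) : v + v = 0 := by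
  funext i
  have : v i + v i = (1 + 1) * v i := by ring
  simp [this, one_add_one hF]

theorem linearIndependent_pair (hF : Fintype.card F = 2) {v w : Fin 4 → F}
    (hv : v ≠ 0) (hw : w ≠ 0) (hvw : v ≠ w) : LinearIndependent F ![v, w] := by
  rw [LinearIndependent.pair_iff]
  intro s t hst
  rcases eq_zero_or_one hF s with rfl | rfl <;> rcases eq_zero_or_one hF t with rfl | rfl
  · exact ⟨rfl, rfl⟩
  · exfalso; simp at hst; exact hw hst
  · exfalso; simp at hst; exact hv hst
  · exfalso
    simp only [one_smul] at hst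
    apply hvw
    have h2 := add_self_vec hF w
    have : v = v + (w + w) := by rw [h2, add_zero]
    rw [this, ← add_assoc, hst, zero_add]

end Field2

section Action

variable {F : Type*} [Field F] [Fintype F]

/-- the natural action of `GL₄(F)` on column vectors -/
@[reducible] def actV : MulAction (GL (Fin 4) F) (Fin 4 → F) where
  smul g v := (g : Matrix (Fin 4) (Fin 4) F).mulVec v
  one_smul v := by
    show ((1 : GL (Fin 4) F) : Matrix (Fin 4) (Fin 4) F).mulVec v = v
    simp
  mul_smul g h v := by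
    show ((g * h : GL (Fin 4) F) : Matrix (Fin 4) (Fin 4) F).mulVec v =
      (g : Matrix (Fin 4) (Fin 4) F).mulVec ((h : Matrix (Fin 4) (Fin 4) F).mulVec v)
    simp [Matrix.mulVec_mulVec]

attribute [local instance] actV

omit [Fintype F] in
theorem smul_def (g : GL (Fin 4) F) (v : Fin 4 → F) :
    g • v = (g : Matrix (Fin 4) (Fin 4) F).mulVec v := rfl

omit [Fintype F] in
/-- `GL₄(F)` is transitive on linearly independent pairs -/
theorem exists_gl {v w v' w' : Fin 4 → F} (hD : LinearIndependent F ![v, w])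
    (hE : LinearIndependent F ![v', w']) :
    ∃ g : GL (Fin 4) F, g • v = v' ∧ g • w = w' := by
  have q0 : ∀ {a b : Fin 4 → F} (h : LinearIndependent F ![a, b]),
      (h.linearCombinationEquiv (Finsupp.single 0 1) : Fin 4 → F) = a := by
    intro a b h; simp
  have q1 : ∀ {a b : Fin 4 → F} (h : LinearIndependent F ![a, b]),
      (h.linearCombinationEquiv (Finsupp.single 1 1) : Fin 4 → F) = b := by
    intro a b h; simp
  let f := hD.linearCombinationEquiv.symm ≪≫ₗ hE.linearCombinationEquiv
  have : FiniteDimensional F (Submodule.span F (Set.range ![v, w])) :=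
    FiniteDimensional.span_of_finite F (Set.finite_range _)
  obtain ⟨g, hg⟩ := Submodule.exists_linearEquiv_restrict_eq f
  let A : GL (Fin 4) F :=
    Matrix.GeneralLinearGroup.toLin.symm (LinearMap.GeneralLinearGroup.ofLinearEquiv g)
  have hA : ∀ x : Fin 4 → F, A • x = g x := by
    intro x
    have h1 : Matrix.GeneralLinearGroup.toLin A = LinearMap.GeneralLinearGroup.ofLinearEquiv g :=
      MulEquiv.apply_symm_apply _ _
    have h2 := Matrix.GeneralLinearGroup.coe_toLin A
    rw [h1] at h2
    have h3 := congrArg (fun L : (Fin 4 → F) →ₗ[F] (Fin 4 → F) => L x) h2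
    simp only [Matrix.mulVecLin_apply] at h3
    rw [smul_def, ← h3]
    rfl
  refine ⟨A, ?_, ?_⟩
  · rw [hA]
    have e1 := hg (hD.linearCombinationEquiv (Finsupp.single 0 1))
    rw [q0 hD] at e1
    rw [← e1]
    have e2 : f (hD.linearCombinationEquiv (Finsupp.single 0 1)) =
        hE.linearCombinationEquiv (Finsupp.single 0 1) := by simp [f]
    rw [e2]
    exact q0 hE
  · rw [hA]
    have e1 := hg (hD.linearCombinationEquiv (Finsupp.single 1 1))
    rw [q1 hD] at e1
    rw [← e1]
    have e2 : f (hD.linearCombinationEquiv (Finsupp.single 1 1)) =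
        hE.linearCombinationEquiv (Finsupp.single 1 1) := by simp [f]
    rw [e2]
    exact q1 hE

omit [Fintype F] in
theorem smul_zero' (g : GL (Fin 4) F) : g • (0 : Fin 4 → F) = 0 := by
  rw [smul_def, Matrix.mulVec_zero]

omit [Fintype F] in
theorem smul_add' (g : GL (Fin 4) F) (a b : Fin 4 → F) : g • (a + b) = g • a + g • b := by
  rw [smul_def, smul_def, smul_def, Matrix.mulVec_add]

omit [Fintype F] in
theorem smul_ne_zero' (g : GL (Fin 4) F) {a : Fin 4 → F} (ha : a ≠ 0) : g • a ≠ 0 := by
  intro h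
  apply ha
  apply MulAction.injective g
  show g • a = g • 0
  rw [h, smul_zero']

open Classical in
/-- ordered pairs of distinct nonzero vectors -/
noncomputable def D : Finset ((Fin 4 → F) × (Fin 4 → F)) :=
  (Finset.univ.erase (0 : Fin 4 → F)).offDiag

theorem mem_D {p : (Fin 4 → F) × (Fin 4 → F)} : p ∈ (D : Finset _) ↔ p.1 ≠ 0 ∧ p.2 ≠ 0 ∧ p.1 ≠ p.2 := by
  classical
  simp [D, Finset.mem_offDiag]

theorem card_D (hF : Fintype.card F = 2) :
    (D : Finset ((Fin 4 → F) × (Fin 4 → F))).card = 210 := by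
  classical
  have h16 : Fintype.card (Fin 4 → F) = 16 := by
    rw [Fintype.card_fun, hF, Fintype.card_fin]; norm_num
  rw [D, Finset.offDiag_card, Finset.card_erase_of_mem (Finset.mem_univ _), Finset.card_univ, h16]

theorem smul_mem_D (g : GL (Fin 4) F) {p : (Fin 4 → F) × (Fin 4 → F)} (hp : p ∈ (D : Finset _)) :
    g • p ∈ (D : Finset _) := by
  rw [mem_D] at hp ⊢
  refine ⟨smul_ne_zero' g hp.1, smul_ne_zero' g hp.2.1, ?_⟩
  intro h
  exact hp.2.2 (MulAction.injective g h)

theorem card_GL (hF : Fintype.card F = 2) : Nat.card (GL (Fin 4) F) = 20160 := by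
  rw [Matrix.card_GL_field, hF, Fin.prod_univ_four]
  norm_num

theorem orbit_GL (hF : Fintype.card F = 2) {p : (Fin 4 → F) × (Fin 4 → F)}
    (hp : p ∈ (D : Finset _)) :
    MulAction.orbit (GL (Fin 4) F) p = ((D : Finset ((Fin 4 → F) × (Fin 4 → F))) : Set _) := by
  ext q
  constructor
  · rintro ⟨g, rfl⟩
    exact smul_mem_D g hp
  · intro hq
    have hq' : q ∈ (D : Finset _) := hq
    rw [mem_D] at hp hq'
    obtain ⟨g, h1, h2⟩ := exists_gl (linearIndependent_pair hF hp.1 hp.2.1 hp.2.2)
      (linearIndependent_pair hF hq'.1 hq'.2.1 hq'.2.2)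
    exact ⟨g, Prod.ext h1 h2⟩

theorem card_stabilizer_GL (hF : Fintype.card F = 2) {p : (Fin 4 → F) × (Fin 4 → F)}
    (hp : p ∈ (D : Finset _)) :
    Nat.card (MulAction.stabilizer (GL (Fin 4) F) p) = 96 := by
  have h1 := MulAction.index_stabilizer (GL (Fin 4) F) p
  rw [orbit_GL hF hp, Set.ncard_coe_finset, card_D hF] at h1
  have h2 := Subgroup.card_mul_index (MulAction.stabilizer (GL (Fin 4) F) p)
  rw [h1, card_GL hF] at h2
  omega

/-- the map `(v, w) ↦ (v, v + w)` -/
def tau (q : (Fin 4 → F) × (Fin 4 → F)) : (Fin 4 → F) × (Fin 4 → F) := (q.1, q.1 + q.2)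

/-- the swap -/
def sw (q : (Fin 4 → F) × (Fin 4 → F)) : (Fin 4 → F) × (Fin 4 → F) := (q.2, q.1)

theorem tau_tau (hF : Fintype.card F = 2) (q : (Fin 4 → F) × (Fin 4 → F)) : tau (tau q) = q := by
  apply Prod.ext
  · rfl
  · show q.1 + (q.1 + q.2) = q.2
    rw [← add_assoc, add_self_vec hF, zero_add]

omit [Field F] [Fintype F] in
theorem sw_sw (q : (Fin 4 → F) × (Fin 4 → F)) : sw (sw q) = q := rfl

theorem tau_ne {q : (Fin 4 → F) × (Fin 4 → F)} (hq : q ∈ (D : Finset _)) : tau q ≠ q := by
  rw [mem_D] at hq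
  intro h
  have h2 : q.1 + q.2 = q.2 := congrArg Prod.snd h
  apply hq.1
  have := congrArg (fun t => t - q.2) h2
  simpa using this

theorem tau_mem_D (hF : Fintype.card F = 2) {q : (Fin 4 → F) × (Fin 4 → F)}
    (hq : q ∈ (D : Finset _)) : tau q ∈ (D : Finset _) := by
  rw [mem_D] at hq ⊢
  refine ⟨hq.1, ?_, ?_⟩
  · show q.1 + q.2 ≠ 0
    intro h
    apply hq.2.2
    have h2 := add_self_vec hF q.2
    calc q.1 = q.1 + (q.2 + q.2) := by rw [h2, add_zero]
      _ = (q.1 + q.2) + q.2 := by rw [add_assoc]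
      _ = q.2 := by rw [h, zero_add]
  · show q.1 ≠ q.1 + q.2
    intro h
    apply hq.2.1
    have := congrArg (fun t => t - q.1) h
    simpa using this.symm

theorem sw_mem_D {q : (Fin 4 → F) × (Fin 4 → F)}
    (hq : q ∈ (D : Finset _)) : sw q ∈ (D : Finset _) := by
  rw [mem_D] at hq ⊢
  exact ⟨hq.2.1, hq.1, fun h => hq.2.2 h.symm⟩

omit [Fintype F] in
theorem smul_tau (g : GL (Fin 4) F) (q : (Fin 4 → F) × (Fin 4 → F)) : g • tau q = tau (g • q) := by
  apply Prod.ext
  · rfl
  · show g • (q.1 + q.2) = g • q.1 + g • q.2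
    exact smul_add' g _ _

omit [Fintype F] in
theorem smul_sw (g : GL (Fin 4) F) (q : (Fin 4 → F) × (Fin 4 → F)) : g • sw q = sw (g • q) := rfl

end Action

section Sub

variable {F : Type*} [Field F] [Fintype F]

attribute [local instance] actV

variable (H : Subgroup (GL (Fin 4) F))

omit [Fintype F] in
theorem mem_orbit_H {p q : (Fin 4 → F) × (Fin 4 → F)} :
    q ∈ MulAction.orbit H p ↔ ∃ h ∈ H, h • p = q := by
  constructor
  · rintro ⟨h, rfl⟩
    exact ⟨h.1, h.2, rfl⟩
  · rintro ⟨h, hh, rfl⟩
    exact ⟨⟨h, hh⟩, rfl⟩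

theorem orbit_H_subset {p : (Fin 4 → F) × (Fin 4 → F)} (hp : p ∈ (D : Finset _)) :
    MulAction.orbit H p ⊆ ((D : Finset ((Fin 4 → F) × (Fin 4 → F))) : Set _) := by
  intro q hq
  obtain ⟨h, -, rfl⟩ := (mem_orbit_H H).1 hq
  exact smul_mem_D h hp

/-- every `H`-orbit on `D` has at least `105` elements -/
theorem le_ncard_orbit_H (hF : Fintype.card F = 2) (hH : Nat.card H = 2520)
    {p : (Fin 4 → F) × (Fin 4 → F)} (hp : p ∈ (D : Finset _)) :
    105 ≤ (MulAction.orbit H p).ncard := by
  have h1 := MulAction.index_stabilizer H p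
  have h2 := Subgroup.card_mul_index (MulAction.stabilizer H p)
  rw [h1, hH] at h2
  let f : MulAction.stabilizer H p →* MulAction.stabilizer (GL (Fin 4) F) p :=
    { toFun := fun k => ⟨((k : H) : GL (Fin 4) F), by
        have := k.2
        rw [MulAction.mem_stabilizer_iff] at this ⊢
        exact this⟩
      map_one' := rfl
      map_mul' := fun _ _ => rfl }
  have hf : Function.Injective f := by
    intro a b hab
    have := congrArg (fun t : MulAction.stabilizer (GL (Fin 4) F) p => (t : GL (Fin 4) F)) hab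
    exact Subtype.ext (Subtype.ext this)
  have h3 := Subgroup.card_dvd_of_injective f hf
  rw [card_stabilizer_GL hF hp] at h3
  have h4 : Nat.card (MulAction.stabilizer H p) ∣ 2520 := Dvd.intro _ h2
  have h5 : Nat.card (MulAction.stabilizer H p) ∣ 24 := by
    have := Nat.dvd_gcd h3 h4
    norm_num at this
    exact this
  have h6 := Nat.le_of_dvd (by norm_num) h5
  by_contra hlt
  push Not at hlt
  have : Nat.card (MulAction.stabilizer H p) * (MulAction.orbit H p).ncard ≤ 24 * 104 :=
    Nat.mul_le_mul h6 (by omega)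
  omega

/-- `tau` cannot preserve an `H`-orbit of odd size -/
theorem tau_notMem_orbit (hF : Fintype.card F = 2) {p : (Fin 4 → F) × (Fin 4 → F)}
    (hp : p ∈ (D : Finset _)) (hcard : (MulAction.orbit H p).ncard = 105) :
    tau p ∉ MulAction.orbit H p := by
  intro hmem
  have hpres : ∀ q ∈ MulAction.orbit H p, tau q ∈ MulAction.orbit H p := by
    intro q hq
    obtain ⟨h, hh, rfl⟩ := (mem_orbit_H H).1 hq
    obtain ⟨h0, hh0, e0⟩ := (mem_orbit_H H).1 hmem
    rw [mem_orbit_H]
    refine ⟨h * h0, H.mul_mem hh hh0, ?_⟩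
    rw [mul_smul, e0, smul_tau]
  classical
  have hfin : (MulAction.orbit H p).Finite := Set.toFinite _
  let _ : Fintype (MulAction.orbit H p) := hfin.fintype
  let t : MulAction.orbit H p → MulAction.orbit H p := fun q => ⟨tau q.1, hpres q.1 q.2⟩
  have ht : Function.Involutive t := fun q => Subtype.ext (tau_tau hF q.1)
  let σ : Equiv.Perm (MulAction.orbit H p) := ht.toPerm t
  have hσ2 : σ * σ = 1 := by
    apply Equiv.ext
    intro q
    exact ht q
  have hσ : σ ^ 2 ^ 1 = 1 := by
    rw [pow_one, pow_two]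
    exact hσ2
  have hodd : ¬ 2 ∣ Fintype.card (MulAction.orbit H p) := by
    rw [← Nat.card_eq_fintype_card, Nat.card_coe_set_eq, hcard]
    norm_num
  have : Fact (Nat.Prime 2) := ⟨Nat.prime_two⟩
  obtain ⟨a, ha⟩ := Equiv.Perm.exists_fixed_point_of_prime (p := 2) (n := 1) hodd hσ
  have : tau a.1 = a.1 := congrArg Subtype.val ha
  exact tau_ne (orbit_H_subset H hp a.2) this

set_option maxHeartbeats 1000000 in
/-- `H` is transitive on `D` -/
theorem mem_orbit_of_mem_D (hF : Fintype.card F = 2) (hH : Nat.card H = 2520)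
    {p p' : (Fin 4 → F) × (Fin 4 → F)} (hp : p ∈ (D : Finset _)) (hp' : p' ∈ (D : Finset _)) :
    p' ∈ MulAction.orbit H p := by
  by_contra hnot
  have horb : ∀ {q r : (Fin 4 → F) × (Fin 4 → F)}, q ∈ MulAction.orbit H r →
      MulAction.orbit H q = MulAction.orbit H r := fun hq => MulAction.orbit_eq_iff.2 hq
  have hdisj : Disjoint (MulAction.orbit H p) (MulAction.orbit H p') := by
    rw [Set.disjoint_left]
    intro q hq hq'
    apply hnot
    rw [← horb hq, horb hq']
    exact MulAction.mem_orbit_self p'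
  have hsub : MulAction.orbit H p ∪ MulAction.orbit H p' ⊆
      ((D : Finset ((Fin 4 → F) × (Fin 4 → F))) : Set _) :=
    Set.union_subset (orbit_H_subset H hp) (orbit_H_subset H hp')
  have hc1 := le_ncard_orbit_H H hF hH hp
  have hc2 := le_ncard_orbit_H H hF hH hp'
  have hcu : (MulAction.orbit H p ∪ MulAction.orbit H p').ncard =
      (MulAction.orbit H p).ncard + (MulAction.orbit H p').ncard :=
    Set.ncard_union_eq hdisj (Set.toFinite _) (Set.toFinite _)
  have hle : (MulAction.orbit H p ∪ MulAction.orbit H p').ncard ≤ 210 := by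
    have := Set.ncard_le_ncard hsub (Finset.finite_toSet _)
    rwa [Set.ncard_coe_finset, card_D hF] at this
  have hΘc : (MulAction.orbit H p).ncard = 105 := by omega
  have hΘ'c : (MulAction.orbit H p').ncard = 105 := by omega
  have hunion : MulAction.orbit H p ∪ MulAction.orbit H p' =
      ((D : Finset ((Fin 4 → F) × (Fin 4 → F))) : Set _) := by
    apply Set.eq_of_subset_of_ncard_le hsub _ (Finset.finite_toSet _)
    rw [Set.ncard_coe_finset, card_D hF, hcu]
    omega
  have hmemD : ∀ q : (Fin 4 → F) × (Fin 4 → F), q ∈ (D : Finset _) →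
      (q ∈ MulAction.orbit H p ∨ q ∈ MulAction.orbit H p') := by
    intro q hq
    have : q ∈ ((D : Finset ((Fin 4 → F) × (Fin 4 → F))) : Set _) := hq
    rw [← hunion] at this
    exact this
  have hnotboth : ∀ q : (Fin 4 → F) × (Fin 4 → F), q ∈ MulAction.orbit H p →
      q ∈ MulAction.orbit H p' → False := fun q h1 h2 => Set.disjoint_left.1 hdisj h1 h2
  -- (∗)
  have hstar : ∀ q : (Fin 4 → F) × (Fin 4 → F), q ∈ (D : Finset _) →
      (q ∈ MulAction.orbit H p ↔ tau q ∉ MulAction.orbit H p) := by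
    intro q hq
    constructor
    · intro h1
      have := tau_notMem_orbit H hF hq (by rw [horb h1]; exact hΘc)
      rwa [horb h1] at this
    · intro h1
      by_contra h2
      have h3 : q ∈ MulAction.orbit H p' := (hmemD q hq).resolve_left h2
      have := tau_notMem_orbit H hF hq (by rw [horb h3]; exact hΘ'c)
      rw [horb h3] at this
      exact this ((hmemD _ (tau_mem_D hF hq)).resolve_left h1)
  -- an involution in `H`
  have : Fact (Nat.Prime 2) := ⟨Nat.prime_two⟩
  have : Finite H := Nat.finite_of_card_ne_zero (by rw [hH]; norm_num)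
  obtain ⟨x, hx⟩ := exists_prime_orderOf_dvd_card' (G := H) 2 (by rw [hH]; norm_num)
  have hx2 : (x : GL (Fin 4) F) * (x : GL (Fin 4) F) = 1 := by
    have : x ^ 2 = 1 := by rw [← hx]; exact pow_orderOf_eq_one x
    have := congrArg (fun t : H => (t : GL (Fin 4) F)) this
    simpa [pow_two] using this
  have hx1 : (x : GL (Fin 4) F) ≠ 1 := by
    intro h
    have : x = 1 := Subtype.ext h
    rw [this, orderOf_one] at hx
    omega
  obtain ⟨v, hv⟩ : ∃ v : Fin 4 → F, (x : GL (Fin 4) F) • v ≠ v := by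
    by_contra hall
    push Not at hall
    apply hx1
    apply Units.ext
    apply Matrix.mulVec_injective
    funext v
    have := hall v
    rw [smul_def] at this
    rw [this]
    simp
  have hq0 : ((v, (x : GL (Fin 4) F) • v) : (Fin 4 → F) × (Fin 4 → F)) ∈ (D : Finset _) := by
    rw [mem_D]
    have hv0 : v ≠ 0 := by
      intro h
      apply hv
      rw [h, smul_zero']
    exact ⟨hv0, smul_ne_zero' _ hv0, fun h => hv h.symm⟩
  have hswq0 : sw (v, (x : GL (Fin 4) F) • v) = (x : GL (Fin 4) F) • (v, (x : GL (Fin 4) F) • v) := by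
    apply Prod.ext
    · rfl
    · show v = (x : GL (Fin 4) F) • ((x : GL (Fin 4) F) • v)
      rw [← mul_smul, hx2, one_smul]
  have hswpres : ∀ q : (Fin 4 → F) × (Fin 4 → F),
      q ∈ MulAction.orbit H (v, (x : GL (Fin 4) F) • v) →
      sw q ∈ MulAction.orbit H (v, (x : GL (Fin 4) F) • v) := by
    intro q hq
    obtain ⟨h, hh, rfl⟩ := (mem_orbit_H H).1 hq
    rw [mem_orbit_H]
    refine ⟨h * x, H.mul_mem hh x.2, ?_⟩
    rw [mul_smul, ← hswq0, smul_sw]
  -- (∗∗)
  have hstar2 : ∀ q : (Fin 4 → F) × (Fin 4 → F), q ∈ (D : Finset _) →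
      (q ∈ MulAction.orbit H p ↔ sw q ∈ MulAction.orbit H p) := by
    intro q hq
    rcases hmemD _ hq0 with h0 | h0
    · rw [horb h0] at hswpres
      constructor
      · exact hswpres q
      · intro h
        have := hswpres _ h
        rwa [sw_sw] at this
    · rw [horb h0] at hswpres
      constructor
      · intro h1
        by_contra h2
        have h3 : sw q ∈ MulAction.orbit H p' := (hmemD _ (sw_mem_D hq)).resolve_left h2
        have := hswpres _ h3
        rw [sw_sw] at this
        exact hnotboth q h1 this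
      · intro h1
        by_contra h2
        have h3 : q ∈ MulAction.orbit H p' := (hmemD _ hq).resolve_left h2
        exact hnotboth _ h1 (hswpres _ h3)
  -- the parity argument on a line
  set a : Fin 4 → F := Pi.single 0 1 with ha
  set b : Fin 4 → F := Pi.single 1 1 with hb
  have ha0 : a 0 = 1 := by simp [ha]
  have ha1 : a 1 = 0 := by simp [ha]
  have hb0 : b 0 = 0 := by simp [hb]
  have hb1 : b 1 = 1 := by simp [hb]
  have hane : a ≠ 0 := fun h => by have := congrFun h 0; simp [ha0] at this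
  have hbne : b ≠ 0 := fun h => by have := congrFun h 1; simp [hb1] at this
  have hcne : a + b ≠ 0 := fun h => by have := congrFun h 0; simp [ha0, hb0] at this
  have hab : a ≠ b := fun h => by have := congrFun h 0; simp [ha0, hb0] at this
  have hac : a ≠ a + b := fun h => by have := congrFun h 1; simp [ha1, hb1] at this
  have hbc : b ≠ a + b := fun h => by have := congrFun h 0; simp [ha0, hb0] at this
  have m1 : ((a, b) : (Fin 4 → F) × (Fin 4 → F)) ∈ (D : Finset _) := mem_D.2 ⟨hane, hbne, hab⟩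
  have m2 : ((b, a) : (Fin 4 → F) × (Fin 4 → F)) ∈ (D : Finset _) := mem_D.2 ⟨hbne, hane, hab.symm⟩
  have m3 : ((b, a + b) : (Fin 4 → F) × (Fin 4 → F)) ∈ (D : Finset _) := mem_D.2 ⟨hbne, hcne, hbc⟩
  have m4 : ((a + b, b) : (Fin 4 → F) × (Fin 4 → F)) ∈ (D : Finset _) := mem_D.2 ⟨hcne, hbne, hbc.symm⟩
  have m5 : ((a + b, a) : (Fin 4 → F) × (Fin 4 → F)) ∈ (D : Finset _) := mem_D.2 ⟨hcne, hane, hac.symm⟩
  have t1 : tau (a, b) = (a, a + b) := rfl
  have t2 : tau (b, a) = (b, a + b) := by
    show (b, b + a) = (b, a + b)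
    rw [add_comm]
  have t3 : tau (a + b, b) = (a + b, a) := by
    show (a + b, a + b + b) = (a + b, a)
    rw [add_assoc, add_self_vec hF, add_zero]
  have s1 : sw (a, b) = (b, a) := rfl
  have s2 : sw (b, a + b) = (a + b, b) := rfl
  have s3 : sw (a + b, a) = (a, a + b) := rfl
  have e1 := hstar _ m1
  have e2 := hstar2 _ m1
  have e3 := hstar _ m2
  have e4 := hstar2 _ m3
  have e5 := hstar _ m4
  have e6 := hstar2 _ m5
  rw [t1] at e1
  rw [s1] at e2
  rw [t2] at e3
  rw [s2] at e4
  rw [t3] at e5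
  rw [s3] at e6
  tauto

end Sub

theorem card_alt7 : Nat.card (alternatingGroup (Fin 7)) = 2520 := by
  rw [Nat.card_eq_fintype_card]
  have h := two_mul_card_alternatingGroup (α := Fin 7)
  rw [Fintype.card_perm, Fintype.card_fin] at h
  have : Nat.factorial 7 = 5040 := by decide
  omega

/-- Let F be the field with 2 elements. GL_4(F) (≅ A_8) has a subgroup isomorphic to the alternating group A_7, and every such subgroup acts 2-transitively on the 15 non-zero vectors of F⁴: any ordered pair of distinct non-zero vectors is carried to any other by some element of the subgroup. -/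
theorem result {F : Type*} [Field F] [Fintype F] (hF : Fintype.card F = 2) : (∃ H : Subgroup (Matrix.GeneralLinearGroup (Fin 4) F), Nonempty (H ≃* alternatingGroup (Fin 7))) ∧ ∀ H : Subgroup (Matrix.GeneralLinearGroup (Fin 4) F), Nonempty (H ≃* alternatingGroup (Fin 7)) → ∀ v w v' w' : Fin 4 → F, v ≠ 0 → w ≠ 0 → v ≠ w → v' ≠ 0 → w' ≠ 0 → v' ≠ w' → ∃ g ∈ H, (g : Matrix (Fin 4) (Fin 4) F).mulVec v = v' ∧ (g : Matrix (Fin 4) (Fin 4) F).mulVec w = w' := by
  constructor
  · obtain ⟨φ, hφ⟩ := Cfsg.Agent.Lib.Helper4_A7GL4.exists_injective_hom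
    have hc : Fintype.card (ZMod 2) = Fintype.card F := by rw [hF, ZMod.card]
    let e : ZMod 2 ≃+* F := FiniteField.ringEquivOfCardEq hc
    let r : Matrix (Fin 4) (Fin 4) (ZMod 2) →+* Matrix (Fin 4) (Fin 4) F := e.toRingHom.mapMatrix
    have hr : Function.Injective r := by
      intro A B hAB
      exact Matrix.map_injective e.injective hAB
    let ψ : GL (Fin 4) (ZMod 2) →* GL (Fin 4) F := Units.map r.toMonoidHom
    have hψ : Function.Injective ψ := Units.map_injective hr
    let Φ : alternatingGroup (Fin 7) →* GL (Fin 4) F := ψ.comp φ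
    have hΦ : Function.Injective Φ := hψ.comp hφ
    exact ⟨Φ.range, ⟨(MonoidHom.ofInjective hΦ).symm⟩⟩
  · rintro H ⟨e⟩ v w v' w' hv hw hvw hv' hw' hvw'
    have hH : Nat.card H = 2520 := by
      rw [Nat.card_congr e.toEquiv, card_alt7]
    let _ := actV (F := F)
    have hp : ((v, w) : (Fin 4 → F) × (Fin 4 → F)) ∈ (D : Finset _) := mem_D.2 ⟨hv, hw, hvw⟩
    have hp' : ((v', w') : (Fin 4 → F) × (Fin 4 → F)) ∈ (D : Finset _) := mem_D.2 ⟨hv', hw', hvw'⟩
    have := mem_orbit_of_mem_D H hF hH hp hp'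
    obtain ⟨g, hg, h⟩ := (mem_orbit_H H).1 this
    refine ⟨g, hg, ?_, ?_⟩
    · exact congrArg Prod.fst h
    · exact congrArg Prod.snd h

end Cfsg.Agent.S2551
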