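import Cfsg.Statements.S2552

set_option autoImplicit false
open Cfsg

namespace Cfsg.Agent.S2552

/-- Two subspaces of the same dimension of a finite-dimensional space are carried to each other
by a linear automorphism. -/
theorem exists_equiv_map_eq {F V : Type*} [Field F] [AddCommGroup V] [Module F V]
    [FiniteDimensional F V] (U₁ U₂ : Submodule F V)
    (h : Module.finrank F U₁ = Module.finrank F U₂) :
    ∃ e : V ≃ₗ[F] V, U₁.map (e : V →ₗ[F] V) = U₂ := by
  obtain ⟨C₁, hC₁⟩ := Submodule.exists_isCompl U₁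
  obtain ⟨C₂, hC₂⟩ := Submodule.exists_isCompl U₂
  have hC : Module.finrank F C₁ = Module.finrank F C₂ := by
    have h1 := Submodule.finrank_add_eq_of_isCompl hC₁
    have h2 := Submodule.finrank_add_eq_of_isCompl hC₂
    omega
  let eU : U₁ ≃ₗ[F] U₂ := LinearEquiv.ofFinrankEq _ _ h
  let eC : C₁ ≃ₗ[F] C₂ := LinearEquiv.ofFinrankEq _ _ hC
  let e : V ≃ₗ[F] V := (Submodule.prodEquivOfIsCompl U₁ C₁ hC₁).symm ≪≫ₗ
    (eU.prodCongr eC) ≪≫ₗ (Submodule.prodEquivOfIsCompl U₂ C₂ hC₂)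
  refine ⟨e, ?_⟩
  apply Submodule.eq_of_le_of_finrank_eq
  · rintro _ ⟨u, hu, rfl⟩
    have h1 : (Submodule.prodEquivOfIsCompl U₁ C₁ hC₁).symm u = (⟨u, hu⟩, 0) :=
      Submodule.prodEquivOfIsCompl_symm_apply_left U₁ C₁ hC₁ ⟨u, hu⟩
    show e u ∈ U₂
    simp only [e, LinearEquiv.trans_apply, h1, LinearEquiv.prodCongr_apply,
      map_zero, Submodule.coe_prodEquivOfIsCompl', Submodule.coe_zero, add_zero]
    exact (eU ⟨u, hu⟩).2
  · rw [LinearEquiv.finrank_map_eq, h]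

theorem result {F : Type*} [Field F] [Fintype F] (n : ℕ) (hn : 1 ≤ n) (U₁ U₂ : Submodule F (Fin n → F)) (h : Module.finrank F U₁ = Module.finrank F U₂) : ∃ g : Matrix.SpecialLinearGroup (Fin n) F, U₁.map ((Matrix.SpecialLinearGroup.toLin' g : (Fin n → F) ≃ₗ[F] (Fin n → F)) : (Fin n → F) →ₗ[F] (Fin n → F)) = U₂ := by
  classical
  by_cases hU₂ : U₂ = ⊥
  · have hU₁ : U₁ = ⊥ := by
      rw [hU₂, finrank_bot] at h
      exact Submodule.finrank_eq_zero.mp h
    refine ⟨1, ?_⟩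
    rw [hU₁, hU₂]
    simp
  obtain ⟨e₀, he₀⟩ := exists_equiv_map_eq U₁ U₂ h
  obtain ⟨u, huU, hu0⟩ := (Submodule.ne_bot_iff U₂).mp hU₂
  obtain ⟨i, hi⟩ : ∃ i, u i ≠ 0 := by
    by_contra hne
    push Not at hne
    exact hu0 (funext hne)
  set d : F := LinearMap.det (e₀ : (Fin n → F) →ₗ[F] (Fin n → F)) with hd
  have hd0 : d ≠ 0 := by
    have := LinearEquiv.isUnit_det' e₀
    exact this.ne_zero
  -- the functional f with f u = 1
  let f : Module.Dual F (Fin n → F) := (u i)⁻¹ • LinearMap.proj i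
  have hfu : f u = 1 := by
    simp [f, inv_mul_cancel₀ hi]
  let t : (Fin n → F) →ₗ[F] (Fin n → F) := LinearMap.transvection ((d⁻¹ - 1) • f) u
  have htdet : LinearMap.det t = d⁻¹ := by
    simp [t, hfu]
  have htU : ∀ w ∈ U₂, t w ∈ U₂ := by
    intro w hw
    simp only [t, LinearMap.transvection.apply]
    exact U₂.add_mem hw (U₂.smul_mem _ huU)
  have htinj : Function.Injective t := by
    have h0 : LinearMap.det t ≠ 0 := by
      rw [htdet]; exact inv_ne_zero hd0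
    exact (LinearMap.equivOfDetNeZero t h0).injective
  have htmap : U₂.map t = U₂ := by
    apply Submodule.eq_of_le_of_finrank_eq
    · rintro _ ⟨w, hw, rfl⟩
      exact htU w hw
    · exact (Submodule.equivMapOfInjective t htinj U₂).finrank_eq.symm
  have hdet1 : (LinearMap.toMatrix' (t ∘ₗ (e₀ : (Fin n → F) →ₗ[F] (Fin n → F)))).det = 1 := by
    rw [LinearMap.det_toMatrix', LinearMap.det_comp, htdet, ← hd, inv_mul_cancel₀ hd0]
  let g : Matrix.SpecialLinearGroup (Fin n) F :=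
    ⟨LinearMap.toMatrix' (t ∘ₗ (e₀ : (Fin n → F) →ₗ[F] (Fin n → F))), hdet1⟩
  have hg : ((Matrix.SpecialLinearGroup.toLin' g : (Fin n → F) ≃ₗ[F] (Fin n → F)) :
      (Fin n → F) →ₗ[F] (Fin n → F)) = t ∘ₗ (e₀ : (Fin n → F) →ₗ[F] (Fin n → F)) := by
    rw [Matrix.SpecialLinearGroup.toLin'_to_linearMap]
    exact Matrix.toLin'_toMatrix' _
  refine ⟨g, ?_⟩
  rw [hg, Submodule.map_comp, he₀, htmap]

end Cfsg.Agent.S2552
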