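import Cfsg.Statements.S2553
import Cfsg.Agent.Lib.Helper6_GL42A8
import Cfsg.Agent.Lib.Helper86_A8Final

set_option autoImplicit false
open Cfsg

namespace Cfsg.Agent.S2553

open Cfsg.Agent.Lib.Helper86_A8Core

/-- Let H be a nontrivial subgroup of GL(4,2) (a group isomorphic to the alternating group of degree 8) whose largest normal 2-subgroup and largest normal subgroup of odd order are both trivial. Then H is isomorphic to an alternating group of degree n for some 5 ≤ n ≤ 8, to the symmetric group of degree 5 or 6, or to GL(3,2). -/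
theorem result (H : Subgroup (GL (Fin 4) (ZMod 2))) (hH : H ≠ ⊥) (hO : Cfsg.pPrimeCore 2 ↥H = ⊥) (hO2 : Cfsg.pCore 2 ↥H = ⊥) :
    (∃ n : ℕ, 5 ≤ n ∧ n ≤ 8 ∧ Nonempty (↥H ≃* alternatingGroup (Fin n))) ∨
    Nonempty (↥H ≃* Equiv.Perm (Fin 5)) ∨ Nonempty (↥H ≃* Equiv.Perm (Fin 6)) ∨ Nonempty (↥H ≃* GL (Fin 3) (ZMod 2)) := by
  obtain ⟨φ⟩ := Cfsg.Agent.Helper6GL42.gl4EquivA8 (F := ZMod 2) (by rw [ZMod.card])
  let ψ : GL (Fin 4) (ZMod 2) →* Equiv.Perm (Fin 8) :=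
    (alternatingGroup (Fin 8)).subtype.comp φ.toMonoidHom
  have hψ : Function.Injective ψ := by
    intro x y hxy
    exact φ.injective (Subtype.ext hxy)
  have e : ↥H ≃* ↥(H.map ψ) := H.equivMapOfInjective ψ hψ
  have hH' : H.map ψ ≤ alternatingGroup (Fin 8) := by
    rintro _ ⟨x, -, rfl⟩
    exact (φ x).2
  have hne : H.map ψ ≠ ⊥ := by
    intro h
    exact hH ((Subgroup.map_eq_bot_iff_of_injective H hψ).1 h)
  have hcf : CF ↥(H.map ψ) := (cf_of_cores hO hO2).of_equiv e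
  rcases Cfsg.Agent.Lib.Helper86_A8Final.main hH' hne hcf with ⟨n, h5, h8, ⟨f⟩⟩ | ⟨⟨f⟩⟩ | ⟨⟨f⟩⟩ | ⟨⟨f⟩⟩
  · exact Or.inl ⟨n, h5, h8, ⟨e.trans f⟩⟩
  · exact Or.inr (Or.inl ⟨e.trans f⟩)
  · exact Or.inr (Or.inr (Or.inl ⟨e.trans f⟩))
  · exact Or.inr (Or.inr (Or.inr ⟨e.trans f⟩))

end Cfsg.Agent.S2553
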