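import Cfsg.Statements.S2556
import Cfsg.Agent.Lib.Helper37_SzAutB
import Cfsg.Agent.Lib.Helper37_SzBridge

set_option autoImplicit false
open Cfsg

namespace Cfsg.Agent.S2556

open Cfsg.Agent.Helper37Sz Cfsg.Agent.Helper37SzAut

/-- Let S be a Sylow 2-subgroup of the Suzuki group Sz(q), q = 2ⁿ with n = 2m + 1 ≥ 3 (realised as 4 × 4 matrices over the field with q elements). Then the largest normal 2-subgroup of the automorphism group of S is elementary abelian of order 2^(n²), and the automorphism group of S has order 2^(n²) · n · (q − 1). -/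
theorem result {S : Type*} [Group S] [Finite S] (m : ℕ) (hm : 1 ≤ m)
    {F : Type*} [Field F] [Fintype F] (hF : Fintype.card F = 2 ^ (2 * m + 1))
    (P : Sylow 2 ↥(Cfsg.Lie.Sz F (2 ^ (m + 1)))) (hS : Nonempty (S ≃* ↥(P : Subgroup ↥(Cfsg.Lie.Sz F (2 ^ (m + 1)))))) :
    Cfsg.IsElementaryAbelian 2 (Cfsg.pCore 2 (MulAut S)) ∧ Nat.card ↥(Cfsg.pCore 2 (MulAut S)) = 2 ^ ((2 * m + 1) ^ 2) ∧
      Nat.card (MulAut S) = 2 ^ ((2 * m + 1) ^ 2) * ((2 * m + 1) * (2 ^ (2 * m + 1) - 1)) := by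
  have h2 := two_eq_zero_of_card hF
  set T := sgHom F m h2 with hTd
  have hTdef : ∀ z, T z = z ^ 2 ^ (m + 1) := fun z => sgHom_apply m h2 z
  have hT : ∀ z, T (T z) = z ^ 2 := fun z => sgHom_sgHom hF h2 z
  -- transfer the Sylow subgroup to the ovoid model
  let e := lieSzEquiv hm hF
  let P' : Sylow 2 (Cfsg.Sz F m) :=
    P.comapOfInjective e.toMonoidHom e.injective (by
      intro x _
      exact ⟨e.symm x, e.apply_symm_apply x⟩)
  have hP' : ((P' : Subgroup (Cfsg.Sz F m))).map e.toMonoidHom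
      = (P : Subgroup (Cfsg.Lie.Sz F (2 ^ (m + 1)))) := by
    show ((P : Subgroup (Cfsg.Lie.Sz F (2 ^ (m + 1)))).comap e.toMonoidHom).map e.toMonoidHom = _
    exact Subgroup.map_comap_eq_self_of_surjective e.surjective _
  let e1 : (P' : Subgroup (Cfsg.Sz F m)) ≃* (P : Subgroup (Cfsg.Lie.Sz F (2 ^ (m + 1)))) :=
    (e.subgroupMap (P' : Subgroup (Cfsg.Sz F m))).trans (MulEquiv.subgroupCongr hP')
  obtain ⟨g, φ, hφ, -, hmul⟩ := sylow_two_param hm hF h2 hT hTdef P'
  -- the isomorphism with `SG T`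
  let ψ : SG T →* (P' : Subgroup (Cfsg.Sz F m)) :=
    { toFun := fun p => φ (p.a, p.b)
      map_one' := by
        have := hmul 0 0 0 0
        simp only [add_zero, map_zero, mul_zero] at this
        exact mul_eq_left.1 this
      map_mul' := fun p q => (hmul p.a p.b q.a q.b).symm }
  have hψ : Function.Bijective ψ := by
    constructor
    · intro p q h
      have := hφ.1 h
      simp only [Prod.mk.injEq] at this
      exact SG.ext this.1 this.2
    · intro y
      obtain ⟨⟨a, b⟩, hab⟩ := hφ.2 y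
      exact ⟨⟨a, b⟩, hab⟩
  let e2 : SG T ≃* (P' : Subgroup (Cfsg.Sz F m)) := MulEquiv.ofBijective ψ hψ
  obtain ⟨e0⟩ := hS
  let E : S ≃* SG T := e0.trans (e1.symm.trans e2.symm)
  have hcomm : ∀ (σ : F ≃+* F) (x : F), σ (T x) = T (σ x) := by
    intro σ x
    rw [hTdef, hTdef, map_pow]
  have hcard : Nat.card F = 2 ^ (2 * m + 1) := by rw [Nat.card_eq_fintype_card, hF]
  have hodd : Odd (2 * m + 1) := ⟨m, rfl⟩
  obtain ⟨h1, h3, h4⟩ := aut_structure h2 hT hcomm hcard hodd E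
  refine ⟨h1, ?_, ?_⟩
  · rw [h3, sq]
  · rw [h4, sq, mul_comm (2 ^ (2 * m + 1) - 1)]

end Cfsg.Agent.S2556
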