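import Cfsg.Statements.S2564

set_option autoImplicit false
open Cfsg

namespace Cfsg.Agent.S2564

/-- the polar form of the plus-type form -/
def pol (m : ℕ) (u v : Fin m ⊕ Fin m → ZMod 2) : ZMod 2 :=
  Cfsg.quadFormPlus m (ZMod 2) (u + v) - Cfsg.quadFormPlus m (ZMod 2) u - Cfsg.quadFormPlus m (ZMod 2) v

theorem pol_eq (m : ℕ) (u v : Fin m ⊕ Fin m → ZMod 2) :
    pol m u v = ∑ i : Fin m, (u (Sum.inl i) * v (Sum.inr i) + v (Sum.inl i) * u (Sum.inr i)) := by
  unfold pol Cfsg.quadFormPlus
  rw [← Finset.sum_sub_distrib, ← Finset.sum_sub_distrib]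
  apply Finset.sum_congr rfl
  intro i _
  simp only [Pi.add_apply]
  ring

theorem pol_add_left (m : ℕ) (u u' v : Fin m ⊕ Fin m → ZMod 2) :
    pol m (u + u') v = pol m u v + pol m u' v := by
  rw [pol_eq, pol_eq, pol_eq, ← Finset.sum_add_distrib]
  apply Finset.sum_congr rfl
  intro i _
  simp only [Pi.add_apply]
  ring

theorem pol_comm (m : ℕ) (u v : Fin m ⊕ Fin m → ZMod 2) : pol m u v = pol m v u := by
  rw [pol_eq, pol_eq]
  apply Finset.sum_congr rfl
  intro i _
  ring

theorem pol_add_right (m : ℕ) (u v v' : Fin m ⊕ Fin m → ZMod 2) :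
    pol m u (v + v') = pol m u v + pol m u v' := by
  rw [pol_comm, pol_add_left, pol_comm m v, pol_comm m v']

theorem zmod2_add_self (x : ZMod 2) : x + x = 0 := by
  revert x; decide

theorem zmod2_mul_self (x : ZMod 2) : x * x = x := by
  revert x; decide

theorem vec_add_self {m : ℕ} (u : Fin m ⊕ Fin m → ZMod 2) : u + u = 0 := by
  ext k; exact zmod2_add_self _

theorem pol_self (m : ℕ) (u : Fin m ⊕ Fin m → ZMod 2) : pol m u u = 0 := by
  rw [pol_eq]
  apply Finset.sum_eq_zero
  intro i _
  rw [mul_comm (u (Sum.inl i))]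
  exact zmod2_add_self _

theorem pol_smul_right (m : ℕ) (c : ZMod 2) (u v : Fin m ⊕ Fin m → ZMod 2) :
    pol m u (c • v) = c * pol m u v := by
  rw [pol_eq, pol_eq, Finset.mul_sum]
  apply Finset.sum_congr rfl
  intro i _
  simp only [Pi.smul_apply, smul_eq_mul]
  ring

theorem pol_nondeg (m : ℕ) (s : Fin m ⊕ Fin m → ZMod 2) (hs : s ≠ 0) :
    ∃ u, pol m u s = 1 := by
  classical
  obtain ⟨k, hk⟩ : ∃ k, s k ≠ 0 := by
    by_contra h
    push Not at h
    exact hs (funext h)
  have hk1 : s k = 1 := by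
    have : ∀ x : ZMod 2, x ≠ 0 → x = 1 := by decide
    exact this _ hk
  rcases k with i | i
  · refine ⟨Pi.single (Sum.inr i) 1, ?_⟩
    rw [pol_eq, Finset.sum_eq_single i]
    · simp [hk1]
    · intro j _ hj
      have h1 : (Pi.single (Sum.inr i) (1 : ZMod 2) : Fin m ⊕ Fin m → ZMod 2) (Sum.inl j) = 0 := by
        simp
      have h2 : (Pi.single (Sum.inr i) (1 : ZMod 2) : Fin m ⊕ Fin m → ZMod 2) (Sum.inr j) = 0 := by
        rw [Pi.single_apply, if_neg]
        intro h; exact hj (Sum.inr.inj h)
      rw [h1, h2]; ring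
    · intro h; exact absurd (Finset.mem_univ i) h
  · refine ⟨Pi.single (Sum.inl i) 1, ?_⟩
    rw [pol_eq, Finset.sum_eq_single i]
    · simp [hk1]
    · intro j _ hj
      have h1 : (Pi.single (Sum.inl i) (1 : ZMod 2) : Fin m ⊕ Fin m → ZMod 2) (Sum.inr j) = 0 := by
        simp
      have h2 : (Pi.single (Sum.inl i) (1 : ZMod 2) : Fin m ⊕ Fin m → ZMod 2) (Sum.inl j) = 0 := by
        rw [Pi.single_apply, if_neg]
        intro h; exact hj (Sum.inl.inj h)
      rw [h1, h2]; ring
    · intro h; exact absurd (Finset.mem_univ i) h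

/-- the sign character of `ZMod 2` -/
def chi (x : ZMod 2) : ℤ := if x = 0 then 1 else -1

theorem chi_add (x y : ZMod 2) : chi (x + y) = chi x * chi y := by
  revert x y; decide

theorem chi_zero : chi 0 = 1 := rfl

theorem chi_one : chi 1 = -1 := rfl

/-- a non-trivial additive character sums to zero -/
theorem sum_chi_eq_zero {m : ℕ} (φ : (Fin m ⊕ Fin m → ZMod 2) → ZMod 2)
    (hadd : ∀ u v, φ (u + v) = φ u + φ v) (u₀ : Fin m ⊕ Fin m → ZMod 2) (hu₀ : φ u₀ = 1) :
    ∑ u, chi (φ u) = 0 := by
  have h1 : ∑ u, chi (φ u) = ∑ u, chi (φ (u + u₀)) :=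
    (Fintype.sum_equiv (Equiv.addRight u₀) _ _ (fun u => rfl)).symm
  have h2 : ∑ u, chi (φ (u + u₀)) = - ∑ u, chi (φ u) := by
    rw [← Finset.sum_neg_distrib]
    apply Finset.sum_congr rfl
    intro u _
    rw [hadd, chi_add, hu₀, chi_one]; ring
  rw [h2] at h1
  omega

theorem result (m : ℕ) (hm : 1 ≤ m) (q : (Fin m ⊕ Fin m → ZMod 2) → ZMod 2) (hq : (∀ u v : (Fin m ⊕ Fin m → ZMod 2), q (u + v) = q u + q v + (Cfsg.quadFormPlus m (ZMod 2) (u + v) - Cfsg.quadFormPlus m (ZMod 2) u - Cfsg.quadFormPlus m (ZMod 2) v))) (w : (Fin m ⊕ Fin m → ZMod 2)) :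
    (∀ u v : (Fin m ⊕ Fin m → ZMod 2), (q (u + v) + (Cfsg.quadFormPlus m (ZMod 2) (u + v + w) - Cfsg.quadFormPlus m (ZMod 2) (u + v) - Cfsg.quadFormPlus m (ZMod 2) w)) =
        (q u + (Cfsg.quadFormPlus m (ZMod 2) (u + w) - Cfsg.quadFormPlus m (ZMod 2) u - Cfsg.quadFormPlus m (ZMod 2) w)) + (q v + (Cfsg.quadFormPlus m (ZMod 2) (v + w) - Cfsg.quadFormPlus m (ZMod 2) v - Cfsg.quadFormPlus m (ZMod 2) w)) +
        (Cfsg.quadFormPlus m (ZMod 2) (u + v) - Cfsg.quadFormPlus m (ZMod 2) u - Cfsg.quadFormPlus m (ZMod 2) v)) ∧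
    ((∃ g : (Fin m ⊕ Fin m → ZMod 2) ≃ₗ[ZMod 2] (Fin m ⊕ Fin m → ZMod 2), ∀ v, q v + (Cfsg.quadFormPlus m (ZMod 2) (v + w) - Cfsg.quadFormPlus m (ZMod 2) v - Cfsg.quadFormPlus m (ZMod 2) w) = q (g v)) ↔ q w = 0) := by
  classical
  have hq' : ∀ u v, q (u + v) = q u + q v + pol m u v := hq
  have hq0 : q 0 = 0 := by
    have := hq' 0 0
    rw [add_zero, pol_self, add_zero] at this
    have h2 := zmod2_add_self (q 0)
    rw [h2] at this
    exact this
  constructor
  · intro u v
    show q (u + v) + pol m (u + v) w = (q u + pol m u w) + (q v + pol m v w) + pol m u v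
    rw [hq', pol_add_left]
    ring
  · show (∃ g : (Fin m ⊕ Fin m → ZMod 2) ≃ₗ[ZMod 2] (Fin m ⊕ Fin m → ZMod 2), ∀ v, q v + pol m v w = q (g v)) ↔ q w = 0
    constructor
    · rintro ⟨g, hg⟩
      by_contra hqw
      have hqw1 : q w = 1 := by
        have : ∀ x : ZMod 2, x ≠ 0 → x = 1 := by decide
        exact this _ hqw
      -- the character sum
      set S : ℤ := ∑ v, chi (q v) with hS
      have hS1 : ∑ v, chi (q v + pol m v w) = S := by
        have : ∑ v, chi (q v + pol m v w) = ∑ v, chi (q (g v)) :=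
          Finset.sum_congr rfl (fun v _ => by rw [hg])
        rw [this]
        exact Fintype.sum_equiv g.toEquiv _ _ (fun v => rfl)
      have hS2 : ∑ v, chi (q v + pol m v w) = -S := by
        have h1 : ∀ v, q v + pol m v w = q (v + w) + 1 := by
          intro v
          rw [hq', hqw1]
          have := zmod2_add_self (1 : ZMod 2)
          rw [add_assoc (q v + 1), add_comm (pol m v w) 1, ← add_assoc (q v + 1), add_assoc (q v), this, add_zero]
        have h2 : ∑ v, chi (q v + pol m v w) = ∑ v, - chi (q (v + w)) := by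
          apply Finset.sum_congr rfl
          intro v _
          rw [h1, chi_add, chi_one]; ring
        rw [h2, Finset.sum_neg_distrib, hS]
        congr 1
        exact Fintype.sum_equiv (Equiv.addRight w) _ _ (fun v => rfl)
      have hS0 : S = 0 := by
        rw [hS1] at hS2; omega
      -- but S^2 = |V|
      have hSS : S * S = Fintype.card (Fin m ⊕ Fin m → ZMod 2) := by
        rw [hS, Finset.sum_mul_sum]
        have h1 : ∀ u v, chi (q u) * chi (q v) = chi (q (u + v)) * chi (pol m u (u + v)) := by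
          intro u v
          rw [← chi_add, ← chi_add, hq', pol_add_right, pol_self, zero_add]
          congr 1
          have := zmod2_add_self (pol m u v)
          rw [add_assoc, this, add_zero]
        have h2 : ∑ u, ∑ v, chi (q u) * chi (q v) = ∑ u, ∑ s, chi (q s) * chi (pol m u s) := by
          apply Finset.sum_congr rfl
          intro u _
          rw [Finset.sum_congr rfl (fun v _ => h1 u v)]
          exact Fintype.sum_equiv (Equiv.addLeft u) _ _ (fun v => rfl)
        rw [h2, Finset.sum_comm]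
        have h3 : ∀ s, ∑ u, chi (q s) * chi (pol m u s) =
            if s = 0 then (Fintype.card (Fin m ⊕ Fin m → ZMod 2) : ℤ) else 0 := by
          intro s
          rw [← Finset.mul_sum]
          by_cases hs : s = 0
          · rw [if_pos hs, hs, hq0, chi_zero, one_mul]
            have : ∀ u, pol m u 0 = 0 := by
              intro u
              have := pol_add_right m u 0 0
              rw [add_zero] at this
              have h2 := zmod2_add_self (pol m u 0)
              rw [h2] at this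
              exact this
            simp only [this, chi_zero, Finset.sum_const, Finset.card_univ, nsmul_eq_mul, mul_one]
          · rw [if_neg hs]
            obtain ⟨u₀, hu₀⟩ := pol_nondeg m s hs
            rw [sum_chi_eq_zero (fun u => pol m u s) (fun u v => pol_add_left m u v s) u₀ hu₀, mul_zero]
        rw [Finset.sum_congr rfl (fun s _ => h3 s)]
        simp
      rw [hS0, mul_zero] at hSS
      have : (Fintype.card (Fin m ⊕ Fin m → ZMod 2) : ℤ) ≠ 0 := by
        exact_mod_cast Fintype.card_ne_zero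
      exact this hSS.symm
    · intro hqw
      have hsmul : ∀ c : ZMod 2, q (c • w) = c * q w := by
        intro c
        have : ∀ c : ZMod 2, c = 0 ∨ c = 1 := by decide
        rcases this c with rfl | rfl
        · rw [zero_smul, hq0, zero_mul]
        · rw [one_smul, one_mul]
      let g₀ : (Fin m ⊕ Fin m → ZMod 2) →ₗ[ZMod 2] (Fin m ⊕ Fin m → ZMod 2) :=
        { toFun := fun v => v + pol m v w • w
          map_add' := by
            intro u v
            rw [pol_add_left, add_smul]; abel
          map_smul' := by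
            intro c v
            simp only [RingHom.id_apply]
            rw [pol_comm, pol_smul_right, pol_comm, smul_add, smul_smul] }
      have hg₀ : ∀ v, g₀ v = v + pol m v w • w := fun v => rfl
      have hinv : ∀ v, g₀ (g₀ v) = v := by
        intro v
        rw [hg₀, hg₀, pol_add_left, pol_comm m (pol m v w • w) w, pol_smul_right, pol_self, mul_zero,
          add_zero, add_assoc, ← add_smul, zmod2_add_self, zero_smul, add_zero]
      let g : (Fin m ⊕ Fin m → ZMod 2) ≃ₗ[ZMod 2] (Fin m ⊕ Fin m → ZMod 2) :=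
        LinearEquiv.ofLinearMap g₀ g₀ (LinearMap.ext hinv) (LinearMap.ext hinv)
      refine ⟨g, ?_⟩
      intro v
      show q v + pol m v w = q (g₀ v)
      rw [hg₀, hq', hsmul, hqw, mul_zero, add_zero, pol_smul_right, zmod2_mul_self]

end Cfsg.Agent.S2564
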