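import Cfsg.Statements.S2562
import Cfsg.Agent.S2564
import Cfsg.Agent.Lib.Helper43_CharSumF2

set_option autoImplicit false
open Cfsg

namespace Cfsg.Agent.S2562

open Cfsg.Agent.Lib.Helper43_CharSumF2
open Cfsg.Agent.S2564 (pol pol_eq pol_add_left pol_add_right pol_nondeg pol_comm)

/-- the coordinate subspace of the `x`-coordinates -/
def incl (m : ℕ) : (Fin m → ZMod 2) →ₗ[ZMod 2] (Fin m ⊕ Fin m → ZMod 2) where
  toFun x := Sum.elim x 0
  map_add' x y := by ext (i | i) <;> simp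
  map_smul' c x := by ext (i | i) <;> simp

theorem incl_inl (m : ℕ) (x : Fin m → ZMod 2) (i : Fin m) : incl m x (Sum.inl i) = x i := rfl

theorem incl_inr (m : ℕ) (x : Fin m → ZMod 2) (i : Fin m) : incl m x (Sum.inr i) = 0 := rfl

theorem incl_injective (m : ℕ) : Function.Injective (incl m) := by
  intro x y h
  ext i
  exact congrFun h (Sum.inl i)

/-- the coordinate subspace of the `x`-coordinates, minus type -/
def incl' (m : ℕ) : (Fin m → ZMod 2) →ₗ[ZMod 2] ((Fin m ⊕ Fin m) ⊕ Fin 2 → ZMod 2) where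
  toFun x := Sum.elim (Sum.elim x 0) 0
  map_add' x y := by ext ((i | i) | i) <;> simp
  map_smul' c x := by ext ((i | i) | i) <;> simp

theorem incl'_inl_inl (m : ℕ) (x : Fin m → ZMod 2) (i : Fin m) :
    incl' m x (Sum.inl (Sum.inl i)) = x i := rfl

theorem incl'_inl_inr (m : ℕ) (x : Fin m → ZMod 2) (i : Fin m) :
    incl' m x (Sum.inl (Sum.inr i)) = 0 := rfl

theorem incl'_inr (m : ℕ) (x : Fin m → ZMod 2) (i : Fin 2) :
    incl' m x (Sum.inr i) = 0 := rfl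

theorem incl'_injective (m : ℕ) : Function.Injective (incl' m) := by
  intro x y h
  ext i
  exact congrFun h (Sum.inl (Sum.inl i))

theorem part1 (m : ℕ) : ∃ U : Submodule (ZMod 2) (Fin m ⊕ Fin m → ZMod 2),
    (∀ u ∈ U, Cfsg.quadFormPlus m (ZMod 2) u = 0) ∧ Module.finrank (ZMod 2) ↥U = m := by
  refine ⟨LinearMap.range (incl m), ?_, ?_⟩
  · rintro _ ⟨x, rfl⟩
    unfold Cfsg.quadFormPlus
    apply Finset.sum_eq_zero
    intro i _
    rw [incl_inr, mul_zero]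
  · rw [LinearMap.finrank_range_of_inj (incl_injective m), Module.finrank_fin_fun]

theorem part3 (m : ℕ) : ∃ U : Submodule (ZMod 2) ((Fin m ⊕ Fin m) ⊕ Fin 2 → ZMod 2),
    (∀ u ∈ U, Cfsg.quadFormMinus m (ZMod 2) 1 1 u = 0) ∧ Module.finrank (ZMod 2) ↥U = m := by
  refine ⟨LinearMap.range (incl' m), ?_, ?_⟩
  · rintro _ ⟨x, rfl⟩
    unfold Cfsg.quadFormMinus
    have h1 : ∑ i : Fin m, (incl' m x) (Sum.inl (Sum.inl i)) * (incl' m x) (Sum.inl (Sum.inr i)) = 0 := by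
      apply Finset.sum_eq_zero
      intro i _
      rw [incl'_inl_inr, mul_zero]
    rw [h1, incl'_inr, incl'_inr]
    ring
  · rw [LinearMap.finrank_range_of_inj (incl'_injective m), Module.finrank_fin_fun]

theorem card_zmod2_pow {V : Type*} [AddCommGroup V] [Module (ZMod 2) V] [Module.Finite (ZMod 2) V] :
    Nat.card V = 2 ^ Module.finrank (ZMod 2) V := by
  rw [Module.natCard_eq_pow_finrank (K := ZMod 2), Nat.card_eq_fintype_card, ZMod.card]

theorem part2 (m : ℕ) (U : Submodule (ZMod 2) (Fin m ⊕ Fin m → ZMod 2))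
    (hU : ∀ u ∈ U, Cfsg.quadFormPlus m (ZMod 2) u = 0) : Module.finrank (ZMod 2) ↥U ≤ m := by
  have h := card_sq_le (Cfsg.quadFormPlus m (ZMod 2)) (pol m)
    (fun u v => by unfold pol; ring) (pol_add_left m) (pol_add_right m)
    (fun s hs => pol_nondeg m s hs) U hU
  rw [card_zmod2_pow, ← Nat.card_eq_fintype_card, card_zmod2_pow, Module.finrank_fintype_fun_eq_card,
    Fintype.card_sum, Fintype.card_fin, ← pow_add] at h
  have := (Nat.pow_le_pow_iff_right (by norm_num : 1 < 2)).1 h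
  omega

/-- the character sum of the plus type form -/
theorem sum_chi_plus (k : ℕ) :
    ∑ v : Fin k ⊕ Fin k → ZMod 2, chi (Cfsg.quadFormPlus k (ZMod 2) v) = 2 ^ k := by
  classical
  rw [Fintype.sum_equiv (Equiv.sumArrowEquivProdArrow (Fin k) (Fin k) (ZMod 2))
    (fun v => chi (Cfsg.quadFormPlus k (ZMod 2) v))
    (fun p => chi (∑ i : Fin k, p.1 i * p.2 i)) (fun v => rfl), Fintype.sum_prod_type]
  have h : ∀ x : Fin k → ZMod 2, ∑ y : Fin k → ZMod 2, chi (∑ i : Fin k, x i * y i) =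
      if x = 0 then (2 : ℤ) ^ k else 0 := by
    intro x
    rw [sum_chi (fun y : Fin k → ZMod 2 => ∑ i : Fin k, x i * y i) (fun y y' => by
      rw [← Finset.sum_add_distrib]
      apply Finset.sum_congr rfl
      intro i _
      rw [Pi.add_apply, mul_add])]
    have : (∀ y : Fin k → ZMod 2, ∑ i : Fin k, x i * y i = 0) ↔ x = 0 := by
      constructor
      · intro hx
        ext i
        have := hx (Pi.single i 1)
        rw [Finset.sum_eq_single i] at this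
        · rw [Pi.single_eq_same, mul_one] at this
          exact this
        · intro j _ hj
          rw [Pi.single_eq_of_ne hj, mul_zero]
        · intro hi; exact absurd (Finset.mem_univ i) hi
      · intro hx y
        rw [hx]
        simp
    simp only [this]
    congr 1
    rw [Fintype.card_fun, ZMod.card, Fintype.card_fin]
    norm_num
  simp only [h]
  rw [Finset.sum_ite_eq' Finset.univ (0 : Fin k → ZMod 2)]
  simp

theorem quadFormMinus_eq (k : ℕ) (v : (Fin k ⊕ Fin k) ⊕ Fin 2 → ZMod 2) :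
    Cfsg.quadFormMinus k (ZMod 2) 1 1 v = Cfsg.quadFormPlus k (ZMod 2) (v ∘ Sum.inl) +
      (v (Sum.inr 0) ^ 2 + v (Sum.inr 0) * v (Sum.inr 1) + v (Sum.inr 1) ^ 2) := by
  unfold Cfsg.quadFormMinus Cfsg.quadFormPlus
  simp only [Function.comp_apply, one_mul]

/-- the character sum of the minus type form -/
theorem sum_chi_minus (k : ℕ) :
    ∑ v : (Fin k ⊕ Fin k) ⊕ Fin 2 → ZMod 2, chi (Cfsg.quadFormMinus k (ZMod 2) 1 1 v) =
      -(2 ^ (k + 1)) := by
  rw [Fintype.sum_equiv (Equiv.sumArrowEquivProdArrow (Fin k ⊕ Fin k) (Fin 2) (ZMod 2))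
    (fun v => chi (Cfsg.quadFormMinus k (ZMod 2) 1 1 v))
    (fun p => chi (Cfsg.quadFormPlus k (ZMod 2) p.1) *
      chi (p.2 0 ^ 2 + p.2 0 * p.2 1 + p.2 1 ^ 2)) (fun v => by
        rw [quadFormMinus_eq, chi_add]; rfl),
    Fintype.sum_prod_type]
  have h0 := Fintype.sum_mul_sum (fun w : Fin k ⊕ Fin k → ZMod 2 => chi (Cfsg.quadFormPlus k (ZMod 2) w))
    (fun z : Fin 2 → ZMod 2 => chi (z 0 ^ 2 + z 0 * z 1 + z 1 ^ 2))
  have : ∑ z : Fin 2 → ZMod 2, chi (z 0 ^ 2 + z 0 * z 1 + z 1 ^ 2) = -2 := by decide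
  rw [this, sum_chi_plus] at h0
  show ∑ x : Fin k ⊕ Fin k → ZMod 2, ∑ y : Fin 2 → ZMod 2,
    chi (Cfsg.quadFormPlus k (ZMod 2) x) * chi (y 0 ^ 2 + y 0 * y 1 + y 1 ^ 2) = -2 ^ (k + 1)
  rw [← h0, pow_succ]
  ring

/-- polar form of the minus-type form -/
def polM (k : ℕ) (u v : (Fin k ⊕ Fin k) ⊕ Fin 2 → ZMod 2) : ZMod 2 :=
  pol k (u ∘ Sum.inl) (v ∘ Sum.inl) +
    (u (Sum.inr 0) * v (Sum.inr 1) + u (Sum.inr 1) * v (Sum.inr 0))

theorem binary_polar (a a' b b' : ZMod 2) :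
    (a + a') ^ 2 + (a + a') * (b + b') + (b + b') ^ 2 =
      (a ^ 2 + a * b + b ^ 2) + (a' ^ 2 + a' * b' + b' ^ 2) + (a * b' + b * a') := by
  revert a a' b b'; decide

theorem polM_spec (k : ℕ) (u v : (Fin k ⊕ Fin k) ⊕ Fin 2 → ZMod 2) :
    Cfsg.quadFormMinus k (ZMod 2) 1 1 (u + v) = Cfsg.quadFormMinus k (ZMod 2) 1 1 u +
      Cfsg.quadFormMinus k (ZMod 2) 1 1 v + polM k u v := by
  rw [quadFormMinus_eq, quadFormMinus_eq, quadFormMinus_eq, polM]
  have h1 : (u + v) ∘ Sum.inl = u ∘ Sum.inl + v ∘ Sum.inl := rfl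
  have h2 : Cfsg.quadFormPlus k (ZMod 2) (u ∘ Sum.inl + v ∘ Sum.inl) =
      Cfsg.quadFormPlus k (ZMod 2) (u ∘ Sum.inl) + Cfsg.quadFormPlus k (ZMod 2) (v ∘ Sum.inl) +
        pol k (u ∘ Sum.inl) (v ∘ Sum.inl) := by unfold pol; ring
  rw [h1, h2, Pi.add_apply, Pi.add_apply, binary_polar]
  ring

theorem polM_add_left (k : ℕ) (u u' v : (Fin k ⊕ Fin k) ⊕ Fin 2 → ZMod 2) :
    polM k (u + u') v = polM k u v + polM k u' v := by
  unfold polM
  have h1 : (u + u') ∘ Sum.inl = u ∘ Sum.inl + u' ∘ Sum.inl := rfl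
  rw [h1, pol_add_left, Pi.add_apply, Pi.add_apply]
  ring

theorem polM_add_right (k : ℕ) (u v v' : (Fin k ⊕ Fin k) ⊕ Fin 2 → ZMod 2) :
    polM k u (v + v') = polM k u v + polM k u v' := by
  unfold polM
  have h1 : (v + v') ∘ Sum.inl = v ∘ Sum.inl + v' ∘ Sum.inl := rfl
  rw [h1, pol_add_right, Pi.add_apply, Pi.add_apply]
  ring

theorem pol_zero_left (k : ℕ) (v : Fin k ⊕ Fin k → ZMod 2) : pol k 0 v = 0 := by
  rw [pol_eq]
  apply Finset.sum_eq_zero
  intro i _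
  simp

theorem polM_nondeg (k : ℕ) (s : (Fin k ⊕ Fin k) ⊕ Fin 2 → ZMod 2) (hs : s ≠ 0) :
    ∃ u, polM k u s = 1 := by
  by_cases h1 : s ∘ Sum.inl = 0
  · -- the binary part is nonzero
    by_cases h2 : s (Sum.inr 0) = 0
    · have h3 : s (Sum.inr 1) ≠ 0 := by
        intro h3
        apply hs
        ext ((i | i) | i)
        · exact congrFun h1 (Sum.inl i)
        · exact congrFun h1 (Sum.inr i)
        · fin_cases i
          · exact h2
          · exact h3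
      refine ⟨Sum.elim 0 (Pi.single 0 1), ?_⟩
      unfold polM
      have : (Sum.elim (0 : Fin k ⊕ Fin k → ZMod 2) (Pi.single (0 : Fin 2) (1 : ZMod 2))) ∘ Sum.inl = 0 := rfl
      rw [this, pol_zero_left, Sum.elim_inr, Sum.elim_inr, Pi.single_eq_same,
        Pi.single_eq_of_ne (by decide : (1 : Fin 2) ≠ 0), zmod2_eq_one_of_ne_zero h3]
      ring
    · refine ⟨Sum.elim 0 (Pi.single 1 1), ?_⟩
      unfold polM
      have : (Sum.elim (0 : Fin k ⊕ Fin k → ZMod 2) (Pi.single (1 : Fin 2) (1 : ZMod 2))) ∘ Sum.inl = 0 := rfl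
      rw [this, pol_zero_left, Sum.elim_inr, Sum.elim_inr, Pi.single_eq_same,
        Pi.single_eq_of_ne (by decide : (0 : Fin 2) ≠ 1), zmod2_eq_one_of_ne_zero h2]
      ring
  · obtain ⟨u₀, hu₀⟩ := pol_nondeg k (s ∘ Sum.inl) h1
    refine ⟨Sum.elim u₀ 0, ?_⟩
    unfold polM
    have : (Sum.elim u₀ (0 : Fin 2 → ZMod 2)) ∘ Sum.inl = u₀ := rfl
    rw [this, hu₀, Sum.elim_inr, Sum.elim_inr]
    simp

theorem part4 (k : ℕ) (U : Submodule (ZMod 2) ((Fin k ⊕ Fin k) ⊕ Fin 2 → ZMod 2))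
    (hU : ∀ u ∈ U, Cfsg.quadFormMinus k (ZMod 2) 1 1 u = 0) :
    Module.finrank (ZMod 2) ↥U ≤ k := by
  have h := sum_mul_card_ge (Cfsg.quadFormMinus k (ZMod 2) 1 1) (polM k)
    (polM_spec k) (polM_add_left k) (polM_add_right k) (polM_nondeg k) U hU
  rw [sum_chi_minus, card_zmod2_pow, ← Nat.card_eq_fintype_card, card_zmod2_pow,
    Module.finrank_fintype_fun_eq_card, Fintype.card_sum, Fintype.card_sum, Fintype.card_fin,
    Fintype.card_fin] at h
  set j := Module.finrank (ZMod 2) ↥U with hj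
  by_contra hlt
  push Not at hlt
  have h1 : (2 : ℤ) ^ (k + 1) ≤ 2 ^ j := pow_le_pow_right₀ (by norm_num) hlt
  have h2 : (2 : ℤ) ^ (k + k + 2) = 2 ^ (k + 1) * 2 ^ (k + 1) := by rw [← pow_add]; congr 1; omega
  have h3 : (0 : ℤ) < 2 ^ j := by positivity
  have h4 : (0 : ℤ) < 2 ^ (k + 1) := by positivity
  push_cast at h
  rw [h2] at h
  nlinarith [mul_le_mul h1 h1 (le_of_lt h4) (le_of_lt h3)]

/-- Witt indices over the field of two elements, m ≥ 1: for the plus-type form Σ xᵢyᵢ in dimension 2m some m-dimensional subspace is totally singular and no totally singular subspace has larger dimension; for the minus-type form Σ xᵢyᵢ + (z₁² + z₁z₂ + z₂²) in dimension 2m the maximal dimension of a totally singular subspace is m − 1. -/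
theorem result (m : ℕ) (hm : 1 ≤ m) :
    (∃ U : Submodule (ZMod 2) (Fin m ⊕ Fin m → ZMod 2), (∀ u ∈ U, Cfsg.quadFormPlus m (ZMod 2) u = 0) ∧ Module.finrank (ZMod 2) ↥U = m) ∧
    (∀ U : Submodule (ZMod 2) (Fin m ⊕ Fin m → ZMod 2), (∀ u ∈ U, Cfsg.quadFormPlus m (ZMod 2) u = 0) → Module.finrank (ZMod 2) ↥U ≤ m) ∧
    (∃ U : Submodule (ZMod 2) ((Fin (m - 1) ⊕ Fin (m - 1)) ⊕ Fin 2 → ZMod 2), (∀ u ∈ U, Cfsg.quadFormMinus (m - 1) (ZMod 2) 1 1 u = 0) ∧ Module.finrank (ZMod 2) ↥U = m - 1) ∧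
    (∀ U : Submodule (ZMod 2) ((Fin (m - 1) ⊕ Fin (m - 1)) ⊕ Fin 2 → ZMod 2), (∀ u ∈ U, Cfsg.quadFormMinus (m - 1) (ZMod 2) 1 1 u = 0) → Module.finrank (ZMod 2) ↥U ≤ m - 1) :=
  ⟨part1 m, part2 m, part3 (m - 1), part4 (m - 1)⟩

end Cfsg.Agent.S2562
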