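import Cfsg.Statements.S2561
import Cfsg.Agent.S2562

set_option autoImplicit false
open Cfsg

namespace Cfsg.Agent.S2561

open Cfsg.Agent.Lib.Helper43_CharSumF2
open Cfsg.Agent.S2564 (pol pol_eq pol_add_left pol_add_right pol_nondeg pol_comm pol_self)

/-- `q` polarizes to the polar form of the plus type form -/
def Pol (m : ℕ) (q : (Fin m ⊕ Fin m → ZMod 2) → ZMod 2) : Prop :=
  ∀ u v : (Fin m ⊕ Fin m → ZMod 2), q (u + v) = q u + q v +
    (Cfsg.quadFormPlus m (ZMod 2) (u + v) - Cfsg.quadFormPlus m (ZMod 2) u -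
      Cfsg.quadFormPlus m (ZMod 2) v)

/-- the translate of the plus type form by `w` -/
def Qw (m : ℕ) (w : Fin m ⊕ Fin m → ZMod 2) (v : Fin m ⊕ Fin m → ZMod 2) : ZMod 2 :=
  Cfsg.quadFormPlus m (ZMod 2) v + (Cfsg.quadFormPlus m (ZMod 2) (v + w) -
    Cfsg.quadFormPlus m (ZMod 2) v - Cfsg.quadFormPlus m (ZMod 2) w)

theorem Qw_eq (m : ℕ) (w v : Fin m ⊕ Fin m → ZMod 2) :
    Qw m w v = Cfsg.quadFormPlus m (ZMod 2) v + pol m v w := rfl

theorem pol_plus (m : ℕ) : Pol m (Cfsg.quadFormPlus m (ZMod 2)) := by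
  intro u v; ring

theorem pol_Qw (m : ℕ) (hm : 1 ≤ m) (w : Fin m ⊕ Fin m → ZMod 2) : Pol m (Qw m w) :=
  (Cfsg.Agent.S2564.result m hm _ (pol_plus m) w).1

theorem Qw_injective (m : ℕ) : Function.Injective (Qw m) := by
  intro w w' h
  by_contra hne
  have hs : w + w' ≠ 0 := by
    intro h0
    apply hne
    have : w = -w' := eq_neg_of_add_eq_zero_left h0
    rw [this]
    ext k
    have := Cfsg.Agent.S2564.zmod2_add_self (w' k)
    exact neg_eq_of_add_eq_zero_left this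
  obtain ⟨u, hu⟩ := pol_nondeg m (w + w') hs
  have h1 := congrFun h u
  rw [Qw_eq, Qw_eq] at h1
  have h2 : pol m u w = pol m u w' := add_left_cancel h1
  rw [pol_add_right, h2, Cfsg.Agent.S2564.zmod2_add_self] at hu
  exact zero_ne_one hu

theorem zmod2_cases (x : ZMod 2) : x = 0 ∨ x = 1 := by
  revert x; decide

/-- every polarizing form is a translate -/
theorem exists_Qw (m : ℕ) (q : (Fin m ⊕ Fin m → ZMod 2) → ZMod 2) (hq : Pol m q) :
    ∃ w, q = Qw m w := by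
  classical
  -- the difference is additive
  let lam : (Fin m ⊕ Fin m → ZMod 2) →+ ZMod 2 :=
    { toFun := fun v => q v - Cfsg.quadFormPlus m (ZMod 2) v
      map_zero' := by
        have h := hq 0 0
        rw [add_zero] at h
        linear_combination (-1 : ZMod 2) * h
      map_add' := fun u v => by
        show q (u + v) - _ = (q u - _) + (q v - _)
        rw [hq u v]; ring }
  let L := AddMonoidHom.toZModLinearMap 2 lam
  let E : Fin m ⊕ Fin m → (Fin m ⊕ Fin m → ZMod 2) := fun k j => if k = j then 1 else 0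
  let w : Fin m ⊕ Fin m → ZMod 2 := Sum.elim (fun i => L (E (Sum.inr i))) (fun i => L (E (Sum.inl i)))
  refine ⟨w, ?_⟩
  funext v
  have h1 : L v = ∑ k, v k • L (E k) := LinearMap.pi_apply_eq_sum_univ L v
  have h2 : L v = q v - Cfsg.quadFormPlus m (ZMod 2) v := rfl
  rw [Qw_eq, pol_eq]
  have h3 : q v = Cfsg.quadFormPlus m (ZMod 2) v + L v := by rw [h2]; ring
  rw [h3, h1, Fintype.sum_sum_type, ← Finset.sum_add_distrib]
  congr 1
  apply Finset.sum_congr rfl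
  intro i _
  show v (Sum.inl i) • L (E (Sum.inl i)) + v (Sum.inr i) • L (E (Sum.inr i)) =
    v (Sum.inl i) * L (E (Sum.inl i)) + L (E (Sum.inr i)) * v (Sum.inr i)
  rw [smul_eq_mul, smul_eq_mul]; ring

theorem plus_iff (m : ℕ) (hm : 1 ≤ m) (w : Fin m ⊕ Fin m → ZMod 2) :
    (∃ g : (Fin m ⊕ Fin m → ZMod 2) ≃ₗ[ZMod 2] (Fin m ⊕ Fin m → ZMod 2),
      ∀ v, Qw m w v = Cfsg.quadFormPlus m (ZMod 2) (g v)) ↔ Cfsg.quadFormPlus m (ZMod 2) w = 0 :=
  (Cfsg.Agent.S2564.result m hm _ (pol_plus m) w).2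

/-- the comparison map between the two coordinate systems -/
def g₀lin (k : ℕ) : (Fin (k + 1) ⊕ Fin (k + 1) → ZMod 2) →ₗ[ZMod 2]
    ((Fin k ⊕ Fin k) ⊕ Fin 2 → ZMod 2) where
  toFun v := Sum.elim (Sum.elim (fun i => v (Sum.inl i.castSucc)) (fun i => v (Sum.inr i.castSucc)))
    ![v (Sum.inl (Fin.last k)), v (Sum.inr (Fin.last k))]
  map_add' u v := by
    ext ((i | i) | i)
    · rfl
    · rfl
    · fin_cases i <;> rfl
  map_smul' c v := by
    ext ((i | i) | i)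
    · rfl
    · rfl
    · fin_cases i <;> rfl

theorem g₀lin_injective (k : ℕ) : Function.Injective (g₀lin k) := by
  intro u v h
  ext (i | i)
  · refine Fin.lastCases ?_ (fun j => ?_) i
    · exact congrFun h (Sum.inr 0)
    · exact congrFun h (Sum.inl (Sum.inl j))
  · refine Fin.lastCases ?_ (fun j => ?_) i
    · exact congrFun h (Sum.inr 1)
    · exact congrFun h (Sum.inl (Sum.inr j))

/-- the comparison map as a linear equivalence -/
noncomputable def g₀ (k : ℕ) : (Fin (k + 1) ⊕ Fin (k + 1) → ZMod 2) ≃ₗ[ZMod 2]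
    ((Fin k ⊕ Fin k) ⊕ Fin 2 → ZMod 2) :=
  LinearMap.linearEquivOfInjective (g₀lin k) (g₀lin_injective k) (by
    rw [Module.finrank_fintype_fun_eq_card, Module.finrank_fintype_fun_eq_card]
    simp only [Fintype.card_sum, Fintype.card_fin]
    omega)

theorem g₀_apply (k : ℕ) (v : Fin (k + 1) ⊕ Fin (k + 1) → ZMod 2) : g₀ k v = g₀lin k v := rfl

/-- the vector `e_last + f_last` -/
def w₀ (k : ℕ) : Fin (k + 1) ⊕ Fin (k + 1) → ZMod 2 :=
  Sum.elim (fun i => if i = Fin.last k then 1 else 0) (fun i => if i = Fin.last k then 1 else 0)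

theorem minus_g₀ (k : ℕ) (v : Fin (k + 1) ⊕ Fin (k + 1) → ZMod 2) :
    Cfsg.quadFormMinus k (ZMod 2) 1 1 (g₀ k v) = Qw (k + 1) (w₀ k) v := by
  rw [Qw_eq, pol_eq, g₀_apply]
  unfold Cfsg.quadFormMinus Cfsg.quadFormPlus
  rw [Fin.sum_univ_castSucc, Fin.sum_univ_castSucc]
  have h1 : ∀ i : Fin k, (v (Sum.inl i.castSucc) * w₀ k (Sum.inr i.castSucc) +
      w₀ k (Sum.inl i.castSucc) * v (Sum.inr i.castSucc)) = 0 := by
    intro i
    have : i.castSucc ≠ Fin.last k := (Fin.castSucc_lt_last i).ne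
    simp [w₀, this]
  rw [Finset.sum_congr rfl (fun i _ => h1 i), Finset.sum_const_zero, zero_add]
  have h2 : w₀ k (Sum.inr (Fin.last k)) = 1 := by simp [w₀]
  have h3 : w₀ k (Sum.inl (Fin.last k)) = 1 := by simp [w₀]
  rw [h2, h3]
  show (∑ i : Fin k, v (Sum.inl i.castSucc) * v (Sum.inr i.castSucc)) +
    (v (Sum.inl (Fin.last k)) ^ 2 + 1 * v (Sum.inl (Fin.last k)) * v (Sum.inr (Fin.last k)) +
      1 * v (Sum.inr (Fin.last k)) ^ 2) = _
  have h4 : ∀ x : ZMod 2, x ^ 2 = x := by decide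
  rw [h4, h4]
  ring

theorem plus_w₀ (k : ℕ) : Cfsg.quadFormPlus (k + 1) (ZMod 2) (w₀ k) = 1 := by
  unfold Cfsg.quadFormPlus
  rw [Fin.sum_univ_castSucc]
  have h1 : ∀ i : Fin k, w₀ k (Sum.inl i.castSucc) * w₀ k (Sum.inr i.castSucc) = 0 := by
    intro i
    have : i.castSucc ≠ Fin.last k := (Fin.castSucc_lt_last i).ne
    simp [w₀, this]
  rw [Finset.sum_congr rfl (fun i _ => h1 i), Finset.sum_const_zero, zero_add]
  simp [w₀]

theorem plus_add (m : ℕ) (u v : Fin m ⊕ Fin m → ZMod 2) :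
    Cfsg.quadFormPlus m (ZMod 2) (u + v) =
      Cfsg.quadFormPlus m (ZMod 2) u + Cfsg.quadFormPlus m (ZMod 2) v + pol m u v := by
  unfold pol; ring

theorem minus_iff (k : ℕ) (w : Fin (k + 1) ⊕ Fin (k + 1) → ZMod 2) :
    (∃ g : (Fin (k + 1) ⊕ Fin (k + 1) → ZMod 2) ≃ₗ[ZMod 2] ((Fin k ⊕ Fin k) ⊕ Fin 2 → ZMod 2),
      ∀ v, Qw (k + 1) w v = Cfsg.quadFormMinus k (ZMod 2) 1 1 (g v)) ↔
      Cfsg.quadFormPlus (k + 1) (ZMod 2) w = 1 := by
  constructor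
  · rintro ⟨g, hg⟩
    rcases zmod2_cases (Cfsg.quadFormPlus (k + 1) (ZMod 2) w) with h0 | h1
    · exfalso
      obtain ⟨g', hg'⟩ := (plus_iff (k + 1) (by omega) w).2 h0
      have h2 : ∑ v : Fin (k + 1) ⊕ Fin (k + 1) → ZMod 2,
          chi (Cfsg.quadFormPlus (k + 1) (ZMod 2) (g' v)) =
          ∑ v : Fin (k + 1) ⊕ Fin (k + 1) → ZMod 2,
            chi (Cfsg.quadFormMinus k (ZMod 2) 1 1 (g v)) := by
        apply Finset.sum_congr rfl
        intro v _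
        rw [← hg', hg]
      rw [Fintype.sum_equiv g'.toEquiv
          (fun v => chi (Cfsg.quadFormPlus (k + 1) (ZMod 2) (g' v)))
          (fun v => chi (Cfsg.quadFormPlus (k + 1) (ZMod 2) v)) (fun v => rfl),
        Fintype.sum_equiv g.toEquiv
          (fun v => chi (Cfsg.quadFormMinus k (ZMod 2) 1 1 (g v)))
          (fun v => chi (Cfsg.quadFormMinus k (ZMod 2) 1 1 v)) (fun v => rfl),
        Cfsg.Agent.S2562.sum_chi_plus, Cfsg.Agent.S2562.sum_chi_minus] at h2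
      have : (0 : ℤ) < 2 ^ (k + 1) := by positivity
      omega
    · exact h1
  · intro hw
    -- base form: the translate by `w₀`
    have hbase : Pol (k + 1) (Qw (k + 1) (w₀ k)) := pol_Qw (k + 1) (by omega) (w₀ k)
    have hval : Qw (k + 1) (w₀ k) (w + w₀ k) = 0 := by
      rw [Qw_eq, plus_add, hw, plus_w₀, pol_add_left, pol_self]
      have := Cfsg.Agent.S2564.zmod2_add_self (pol (k + 1) w (w₀ k))
      have h11 : (1 : ZMod 2) + 1 = 0 := by decide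
      rw [add_zero, h11, zero_add, this]
    obtain ⟨g, hg⟩ := (Cfsg.Agent.S2564.result (k + 1) (by omega) _ hbase (w + w₀ k)).2.2 hval
    refine ⟨g.trans (g₀ k), fun v => ?_⟩
    rw [LinearEquiv.trans_apply, minus_g₀, ← hg]
    show Qw (k + 1) w v = Qw (k + 1) (w₀ k) v + pol (k + 1) v (w + w₀ k)
    rw [Qw_eq, Qw_eq, pol_add_right]
    have := Cfsg.Agent.S2564.zmod2_add_self (pol (k + 1) v (w₀ k))
    calc Cfsg.quadFormPlus (k + 1) (ZMod 2) v + pol (k + 1) v w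
        = Cfsg.quadFormPlus (k + 1) (ZMod 2) v + pol (k + 1) v w +
          (pol (k + 1) v (w₀ k) + pol (k + 1) v (w₀ k)) := by rw [this, add_zero]
      _ = _ := by ring

/-- counting singular and non-singular vectors of the plus type form -/
theorem card_plus_zero_one (k : ℕ) :
    Nat.card {w : Fin (k + 1) ⊕ Fin (k + 1) → ZMod 2 // Cfsg.quadFormPlus (k + 1) (ZMod 2) w = 0} =
      2 ^ (2 * k + 1) + 2 ^ k ∧
    Nat.card {w : Fin (k + 1) ⊕ Fin (k + 1) → ZMod 2 // Cfsg.quadFormPlus (k + 1) (ZMod 2) w = 1} =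
      2 ^ (2 * k + 1) - 2 ^ k := by
  classical
  have hS := Cfsg.Agent.S2562.sum_chi_plus (k + 1)
  have h1 : ∑ v : Fin (k + 1) ⊕ Fin (k + 1) → ZMod 2,
      chi (Cfsg.quadFormPlus (k + 1) (ZMod 2) v) =
      ((Finset.univ.filter (fun v : Fin (k + 1) ⊕ Fin (k + 1) → ZMod 2 =>
        Cfsg.quadFormPlus (k + 1) (ZMod 2) v = 0)).card : ℤ) -
      ((Finset.univ.filter (fun v : Fin (k + 1) ⊕ Fin (k + 1) → ZMod 2 =>
        ¬ Cfsg.quadFormPlus (k + 1) (ZMod 2) v = 0)).card : ℤ) := by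
    unfold chi
    rw [Finset.sum_ite, Finset.sum_const, Finset.sum_const]
    simp only [nsmul_eq_mul, mul_one, mul_neg]
    ring
  have h2 := Finset.card_filter_add_card_filter_not (s := (Finset.univ :
    Finset (Fin (k + 1) ⊕ Fin (k + 1) → ZMod 2)))
    (fun v => Cfsg.quadFormPlus (k + 1) (ZMod 2) v = 0)
  rw [Finset.card_univ, Fintype.card_fun, ZMod.card, Fintype.card_sum, Fintype.card_fin] at h2
  have h3 : Finset.univ.filter (fun v : Fin (k + 1) ⊕ Fin (k + 1) → ZMod 2 =>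
        ¬ Cfsg.quadFormPlus (k + 1) (ZMod 2) v = 0) =
      Finset.univ.filter (fun v : Fin (k + 1) ⊕ Fin (k + 1) → ZMod 2 =>
        Cfsg.quadFormPlus (k + 1) (ZMod 2) v = 1) := by
    apply Finset.filter_congr
    intro v _
    constructor
    · intro h; exact zmod2_eq_one_of_ne_zero h
    · intro h h0; rw [h] at h0; exact one_ne_zero h0
  rw [h3] at h1 h2
  rw [Nat.card_eq_fintype_card, Nat.card_eq_fintype_card, Fintype.card_subtype,
    Fintype.card_subtype]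
  set N₀ := (Finset.univ.filter (fun v : Fin (k + 1) ⊕ Fin (k + 1) → ZMod 2 =>
        Cfsg.quadFormPlus (k + 1) (ZMod 2) v = 0)).card
  set N₁ := (Finset.univ.filter (fun v : Fin (k + 1) ⊕ Fin (k + 1) → ZMod 2 =>
        Cfsg.quadFormPlus (k + 1) (ZMod 2) v = 1)).card
  rw [h1] at hS
  have e1 : (2 : ℕ) ^ (k + 1 + (k + 1)) = 2 * 2 ^ (2 * k + 1) := by
    rw [← pow_succ']; congr 1; omega
  have e2 : (2 : ℤ) ^ (k + 1) = 2 * 2 ^ k := by rw [pow_succ']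
  have e3 : (2 : ℕ) ^ k ≤ 2 ^ (2 * k + 1) := Nat.pow_le_pow_right (by norm_num) (by omega)
  rw [e1] at h2
  rw [e2] at hS
  have h4 : (N₀ : ℤ) + (N₁ : ℤ) = 2 * (2 : ℤ) ^ (2 * k + 1) := by exact_mod_cast h2
  have h5 : (N₀ : ℤ) = 2 ^ (2 * k + 1) + 2 ^ k := by linarith
  have h6 : (N₁ : ℤ) = 2 ^ (2 * k + 1) - 2 ^ k := by linarith
  constructor
  · exact_mod_cast h5
  · have : (N₁ : ℤ) = ((2 ^ (2 * k + 1) - 2 ^ k : ℕ) : ℤ) := by
      rw [h6, Nat.cast_sub e3]; push_cast; ring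
    exact_mod_cast this

theorem card_pol (k : ℕ) :
    Nat.card {q : (Fin (k + 1) ⊕ Fin (k + 1) → ZMod 2) → ZMod 2 // Pol (k + 1) q} =
      2 ^ (2 * (k + 1)) := by
  have hbij : Function.Bijective (fun w : Fin (k + 1) ⊕ Fin (k + 1) → ZMod 2 =>
      (⟨Qw (k + 1) w, pol_Qw (k + 1) (by omega) w⟩ :
        {q : (Fin (k + 1) ⊕ Fin (k + 1) → ZMod 2) → ZMod 2 // Pol (k + 1) q})) := by
    constructor
    · intro w w' h
      exact Qw_injective (k + 1) (congrArg Subtype.val h)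
    · rintro ⟨q, hq⟩
      obtain ⟨w, rfl⟩ := exists_Qw (k + 1) q hq
      exact ⟨w, rfl⟩
  rw [← Nat.card_eq_of_bijective _ hbij, Nat.card_eq_fintype_card, Fintype.card_fun, ZMod.card,
    Fintype.card_sum, Fintype.card_fin]
  congr 1
  omega

theorem card_plus_type (k : ℕ) :
    Nat.card {q : (Fin (k + 1) ⊕ Fin (k + 1) → ZMod 2) → ZMod 2 // Pol (k + 1) q ∧
      ∃ g : (Fin (k + 1) ⊕ Fin (k + 1) → ZMod 2) ≃ₗ[ZMod 2] (Fin (k + 1) ⊕ Fin (k + 1) → ZMod 2),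
        ∀ v, q v = Cfsg.quadFormPlus (k + 1) (ZMod 2) (g v)} = 2 ^ (2 * k + 1) + 2 ^ k := by
  rw [← (card_plus_zero_one k).1]
  symm
  apply Nat.card_eq_of_bijective (fun w => ⟨Qw (k + 1) w.1, pol_Qw (k + 1) (by omega) w.1,
    (plus_iff (k + 1) (by omega) w.1).2 w.2⟩)
  constructor
  · intro w w' h
    exact Subtype.ext (Qw_injective (k + 1) (congrArg Subtype.val h))
  · rintro ⟨q, hq, hg⟩
    obtain ⟨w, rfl⟩ := exists_Qw (k + 1) q hq
    exact ⟨⟨w, (plus_iff (k + 1) (by omega) w).1 hg⟩, rfl⟩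

theorem card_minus_type (k : ℕ) :
    Nat.card {q : (Fin (k + 1) ⊕ Fin (k + 1) → ZMod 2) → ZMod 2 // Pol (k + 1) q ∧
      ∃ g : (Fin (k + 1) ⊕ Fin (k + 1) → ZMod 2) ≃ₗ[ZMod 2] ((Fin k ⊕ Fin k) ⊕ Fin 2 → ZMod 2),
        ∀ v, q v = Cfsg.quadFormMinus k (ZMod 2) 1 1 (g v)} = 2 ^ (2 * k + 1) - 2 ^ k := by
  rw [← (card_plus_zero_one k).2]
  symm
  apply Nat.card_eq_of_bijective (fun w => ⟨Qw (k + 1) w.1, pol_Qw (k + 1) (by omega) w.1,
    (minus_iff k w.1).2 w.2⟩)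
  constructor
  · intro w w' h
    exact Subtype.ext (Qw_injective (k + 1) (congrArg Subtype.val h))
  · rintro ⟨q, hq, hg⟩
    obtain ⟨w, rfl⟩ := exists_Qw (k + 1) q hq
    exact ⟨⟨w, (minus_iff k w).1 hg⟩, rfl⟩

theorem plus_or_minus (k : ℕ) (q : (Fin (k + 1) ⊕ Fin (k + 1) → ZMod 2) → ZMod 2)
    (hq : Pol (k + 1) q) :
    (∃ g : (Fin (k + 1) ⊕ Fin (k + 1) → ZMod 2) ≃ₗ[ZMod 2] (Fin (k + 1) ⊕ Fin (k + 1) → ZMod 2),
        ∀ v, q v = Cfsg.quadFormPlus (k + 1) (ZMod 2) (g v)) ∨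
    (∃ g : (Fin (k + 1) ⊕ Fin (k + 1) → ZMod 2) ≃ₗ[ZMod 2] ((Fin k ⊕ Fin k) ⊕ Fin 2 → ZMod 2),
        ∀ v, q v = Cfsg.quadFormMinus k (ZMod 2) 1 1 (g v)) := by
  obtain ⟨w, rfl⟩ := exists_Qw (k + 1) q hq
  rcases zmod2_cases (Cfsg.quadFormPlus (k + 1) (ZMod 2) w) with h | h
  · left; exact (plus_iff (k + 1) (by omega) w).2 h
  · right; exact (minus_iff k w).2 h

/-- Fix the non-singular alternating form on the 2m-dimensional space over the field of two elements obtained by polarizing the plus-type form Σ xᵢyᵢ (m ≥ 1). The functions q on the space with q(u + v) = q(u) + q(v) + f(u, v) (the quadratic forms polarizing to f) number 2^(2m); each is equivalent under an invertible linear map either to the plus-type form or to the minus-type form Σ xᵢyᵢ + (z₁² + z₁z₂ + z₂²); and those of plus type number 2^(2m−1) + 2^(m−1), those of minus type 2^(2m−1) − 2^(m−1). -/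
theorem result (m : ℕ) (hm : 1 ≤ m) :
    Nat.card {q : (Fin m ⊕ Fin m → ZMod 2) → ZMod 2 // (∀ u v : (Fin m ⊕ Fin m → ZMod 2), q (u + v) = q u + q v + (Cfsg.quadFormPlus m (ZMod 2) (u + v) - Cfsg.quadFormPlus m (ZMod 2) u - Cfsg.quadFormPlus m (ZMod 2) v))} = 2 ^ (2 * m) ∧
    (∀ q : (Fin m ⊕ Fin m → ZMod 2) → ZMod 2, (∀ u v : (Fin m ⊕ Fin m → ZMod 2), q (u + v) = q u + q v + (Cfsg.quadFormPlus m (ZMod 2) (u + v) - Cfsg.quadFormPlus m (ZMod 2) u - Cfsg.quadFormPlus m (ZMod 2) v)) →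
      (∃ g : (Fin m ⊕ Fin m → ZMod 2) ≃ₗ[ZMod 2] (Fin m ⊕ Fin m → ZMod 2), ∀ v, q v = Cfsg.quadFormPlus m (ZMod 2) (g v)) ∨
      (∃ g : (Fin m ⊕ Fin m → ZMod 2) ≃ₗ[ZMod 2] ((Fin (m - 1) ⊕ Fin (m - 1)) ⊕ Fin 2 → ZMod 2), ∀ v, q v = Cfsg.quadFormMinus (m - 1) (ZMod 2) 1 1 (g v))) ∧
    Nat.card {q : (Fin m ⊕ Fin m → ZMod 2) → ZMod 2 // (∀ u v : (Fin m ⊕ Fin m → ZMod 2), q (u + v) = q u + q v + (Cfsg.quadFormPlus m (ZMod 2) (u + v) - Cfsg.quadFormPlus m (ZMod 2) u - Cfsg.quadFormPlus m (ZMod 2) v)) ∧ ∃ g : (Fin m ⊕ Fin m → ZMod 2) ≃ₗ[ZMod 2] (Fin m ⊕ Fin m → ZMod 2), ∀ v, q v = Cfsg.quadFormPlus m (ZMod 2) (g v)} = 2 ^ (2 * m - 1) + 2 ^ (m - 1) ∧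
    Nat.card {q : (Fin m ⊕ Fin m → ZMod 2) → ZMod 2 // (∀ u v : (Fin m ⊕ Fin m → ZMod 2), q (u + v) = q u + q v + (Cfsg.quadFormPlus m (ZMod 2) (u + v) - Cfsg.quadFormPlus m (ZMod 2) u - Cfsg.quadFormPlus m (ZMod 2) v)) ∧ ∃ g : (Fin m ⊕ Fin m → ZMod 2) ≃ₗ[ZMod 2] ((Fin (m - 1) ⊕ Fin (m - 1)) ⊕ Fin 2 → ZMod 2), ∀ v, q v = Cfsg.quadFormMinus (m - 1) (ZMod 2) 1 1 (g v)} = 2 ^ (2 * m - 1) - 2 ^ (m - 1) := by
  obtain ⟨k, rfl⟩ : ∃ k, m = k + 1 := ⟨m - 1, by omega⟩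
  have e1 : 2 * (k + 1) - 1 = 2 * k + 1 := by omega
  rw [e1]
  exact ⟨card_pol k, plus_or_minus k, card_plus_type k, card_minus_type k⟩

end Cfsg.Agent.S2561
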