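import Cfsg.Statements.S2563
import Cfsg.Agent.S0826
import Cfsg.Agent.Lib.Helper99_QuadF2
import Cfsg.Agent.Lib.Helper99_UnitaryOrth
import Cfsg.Agent.Lib.Helper44_QuadClass

set_option autoImplicit false
open Cfsg

namespace Cfsg.Agent.S2563

open Cfsg.Agent.S0826 Cfsg.Agent.Lib.Helper99_QuadF2 Cfsg.Agent.Lib.Helper99_UnitaryOrth
open Cfsg.Agent.Lib.Helper44_QuadClass

section Weight

variable {α : Type} [Fintype α] [DecidableEq α]

/-- The Hamming weight. -/
def wt (x : α → ZMod 2) : ℕ := ∑ i, (x i).val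

/-- The size of the intersection of supports. -/
def inter (x y : α → ZMod 2) : ℕ := ∑ i, (x i * y i).val

omit [DecidableEq α] in
lemma wt_comp (σ : Equiv.Perm α) (x : α → ZMod 2) : wt (fun i => x (σ i)) = wt x :=
  Equiv.sum_comp σ (fun i => (x i).val)

omit [DecidableEq α] in
lemma cast_wt (x : α → ZMod 2) : ((wt x : ℕ) : ZMod 2) = ∑ i, x i := by
  rw [wt, Nat.cast_sum]
  exact Finset.sum_congr rfl fun i _ => ZMod.natCast_zmod_val _

omit [DecidableEq α] in
lemma cast_inter (x y : α → ZMod 2) : ((inter x y : ℕ) : ZMod 2) = ∑ i, x i * y i := by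
  rw [inter, Nat.cast_sum]
  exact Finset.sum_congr rfl fun i _ => ZMod.natCast_zmod_val _

omit [DecidableEq α] in
lemma wt_add_one (x : α → ZMod 2) : wt (fun i => x i + 1) + wt x = Fintype.card α := by
  rw [wt, wt, ← Finset.sum_add_distrib]
  have h : ∀ a : ZMod 2, (a + 1).val + a.val = 1 := by decide
  simp only [h, Finset.sum_const, Finset.card_univ, smul_eq_mul, mul_one]

omit [DecidableEq α] in
lemma wt_add (x y : α → ZMod 2) : wt (x + y) + 2 * inter x y = wt x + wt y := by
  rw [wt, wt, wt, inter, Finset.mul_sum, ← Finset.sum_add_distrib, ← Finset.sum_add_distrib]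
  refine Finset.sum_congr rfl fun i _ => ?_
  have h : ∀ a b : ZMod 2, (a + b).val + 2 * (a * b).val = a.val + b.val := by decide
  exact h _ _

omit [DecidableEq α] in
lemma two_dvd_wt {x : α → ZMod 2} (hx : ∑ i, x i = 0) : 2 ∣ wt x := by
  rw [← ZMod.natCast_eq_zero_iff, cast_wt, hx]

/-- Half the weight, modulo two. -/
def hw (x : α → ZMod 2) : ZMod 2 := ((wt x / 2 : ℕ) : ZMod 2)

variable (a₀ : α)

/-- The quadratic form `wt / 2` on `VS a₀` has polar form `BV`. -/
lemma hw_add (x y : VS a₀) : hw (x + y : VS a₀).1 = hw x.1 + hw y.1 + BV a₀ x y := by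
  obtain ⟨a, ha⟩ := two_dvd_wt x.2.1
  obtain ⟨b, hb⟩ := two_dvd_wt y.2.1
  obtain ⟨c, hc⟩ := two_dvd_wt (x + y : VS a₀).2.1
  have h := wt_add x.1 y.1
  have hc' : wt (x.1 + y.1) = 2 * c := hc
  rw [hc', ha, hb] at h
  have h1 : c + inter x.1 y.1 = a + b := by omega
  have h2 : (c : ZMod 2) + ((inter x.1 y.1 : ℕ) : ZMod 2) = a + b := by exact_mod_cast congrArg (Nat.cast (R := ZMod 2)) h1
  rw [BV_apply, ← cast_inter, hw, hw, hw, hc, ha, hb, Nat.mul_div_cancel_left _ (by norm_num),
    Nat.mul_div_cancel_left _ (by norm_num), Nat.mul_div_cancel_left _ (by norm_num), ← h2]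
  have := z2_add_self ((inter x.1 y.1 : ℕ) : ZMod 2)
  calc (c : ZMod 2) = c + (((inter x.1 y.1 : ℕ) : ZMod 2) + ((inter x.1 y.1 : ℕ) : ZMod 2)) := by
        rw [this, add_zero]
    _ = _ := by ring

/-- Invariance of `wt / 2` under the action of the symmetric group, when `4 ∣ |α|`. -/
lemma hw_rho (hev : Even (Fintype.card α)) (h4 : 4 ∣ Fintype.card α) (σ : Equiv.Perm α)
    (x : VS a₀) : hw (rho a₀ hev σ x).1 = hw x.1 := by
  have hfun : (rho a₀ hev σ x).1 = fun i => x.1 (σ⁻¹ i) + x.1 (σ⁻¹ a₀) := by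
    funext i
    exact rho_apply a₀ hev σ x i
  have hwt : wt (fun i => x.1 (σ⁻¹ i)) = wt x.1 := wt_comp σ⁻¹ x.1
  rcases z2_cases (x.1 (σ⁻¹ a₀)) with h0 | h1
  · rw [hfun, h0]
    simp only [add_zero]
    rw [hw, hw, hwt]
  · rw [hfun, h1]
    have h := wt_add_one (fun i => x.1 (σ⁻¹ i))
    rw [hwt] at h
    obtain ⟨a, ha⟩ := two_dvd_wt x.2.1
    obtain ⟨t, ht⟩ := h4
    rw [hw, hw]
    have h2 : wt (fun i => x.1 (σ⁻¹ i) + 1) = 2 * (2 * t - a) := by omega
    have h3 : (2 * t - a) + a = 2 * t := by omega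
    rw [h2, ha, Nat.mul_div_cancel_left _ (by norm_num), Nat.mul_div_cancel_left _ (by norm_num)]
    have h5 : ((2 * t - a : ℕ) : ZMod 2) + (a : ZMod 2) = 0 := by
      rw [← Nat.cast_add, h3, Nat.cast_mul]
      have : ((2 : ℕ) : ZMod 2) = 0 := by decide
      rw [this, zero_mul]
    exact zmod2_eq_of_add_eq_zero h5

/-- The quadratic form as a Mathlib `QuadraticForm`. -/
def QF : QuadraticForm (ZMod 2) (VS a₀) where
  toFun x := hw x.1
  toFun_smul a x := by
    have := map_smul_z2 (fun x : VS a₀ => hw x.1) (BV a₀) (hw_add a₀) a x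
    rw [this, smul_eq_mul, z2_mul_self]
  exists_companion' := ⟨BV a₀, hw_add a₀⟩

lemma QF_apply (x : VS a₀) : QF a₀ x = hw x.1 := rfl

lemma polar_QF (x y : VS a₀) : QuadraticMap.polar (⇑(QF a₀)) x y = BV a₀ x y := by
  rw [QuadraticMap.polar, QF_apply, QF_apply, QF_apply, hw_add]
  ring

lemma polarBilin_QF : QuadraticMap.polarBilin (QF a₀) = BV a₀ := by
  refine LinearMap.ext fun x => LinearMap.ext fun y => ?_
  rw [QuadraticMap.polarBilin_apply_apply, polar_QF]

end Weight

section Explicit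

/-- Indicator of an initial segment. -/
def wvec (n m : ℕ) : Fin n → ZMod 2 := fun i => if i.val < m then 1 else 0

lemma wt_wvec (n m : ℕ) (hm : m ≤ n) : wt (wvec n m) = m := by
  have h1 : ∀ i : Fin n, ((if i.val < m then (1 : ZMod 2) else 0)).val =
      (fun l : ℕ => if l < m then 1 else 0) i.val := by
    intro i
    by_cases h : i.val < m
    · simp only [if_pos h]; rfl
    · simp only [if_neg h]; rfl
  rw [wt]
  simp only [wvec, h1]
  rw [Fin.sum_univ_eq_sum_range (fun l : ℕ => if l < m then 1 else 0) n, Finset.sum_boole]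
  have : Finset.filter (fun i => i < m) (Finset.range n) = Finset.range m := by
    ext i
    simp only [Finset.mem_filter, Finset.mem_range]
    omega
  rw [this, Finset.card_range]
  simp

lemma wvec_of_lt {n m : ℕ} {i : Fin n} (h : i.val < m) : wvec n m i = 1 := if_pos h

lemma wvec_of_ge {n m : ℕ} {i : Fin n} (h : ¬ i.val < m) : wvec n m i = 0 := if_neg h

lemma sum_wvec (n m : ℕ) (hm : m ≤ n) : ∑ i, wvec n m i = (m : ZMod 2) := by
  rw [← cast_wt, wt_wvec n m hm]

lemma wvec_mul (n a b : ℕ) (i : Fin n) : wvec n a i * wvec n b i = wvec n (min a b) i := by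
  simp only [wvec]
  by_cases h1 : i.val < a <;> by_cases h2 : i.val < b
  · rw [if_pos h1, if_pos h2, if_pos (lt_min h1 h2), mul_one]
  · rw [if_pos h1, if_neg h2, if_neg (fun h => h2 (lt_of_lt_of_le h (min_le_right _ _))), mul_zero]
  · rw [if_neg h1, if_neg (fun h => h1 (lt_of_lt_of_le h (min_le_left _ _))), zero_mul]
  · rw [if_neg h1, if_neg (fun h => h1 (lt_of_lt_of_le h (min_le_left _ _))), zero_mul]

variable (k : ℕ)

/-- The base point: the last coordinate. -/
def a0 : Fin (4 * k + 4) := ⟨4 * k + 3, by omega⟩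

lemma cast_even (m : ℕ) : ((2 * m : ℕ) : ZMod 2) = 0 :=
  ZMod.natCast_eq_zero_iff_even.mpr ⟨m, by ring⟩

/-- The vectors `w_j`: indicators of `{0, …, 2j+1}`. -/
def W (j : Fin (2 * k + 1)) : VS (a0 k) :=
  ⟨wvec (4 * k + 4) (2 * j.val + 2), by
    refine ⟨?_, ?_⟩
    · rw [sum_wvec _ _ (by have := j.2; omega)]
      exact cast_even (j.val + 1)
    · have := j.2
      exact wvec_of_ge (by show ¬ (4 * k + 3 < 2 * j.val + 2); omega)⟩

/-- The coordinates `2j+1` and `2j+2`. -/
def pa (j : Fin (2 * k + 1)) : Fin (4 * k + 4) := ⟨2 * j.val + 1, by have := j.2; omega⟩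

def pb (j : Fin (2 * k + 1)) : Fin (4 * k + 4) := ⟨2 * j.val + 2, by have := j.2; omega⟩

/-- The vectors `u_j = ε_{2j+1} + ε_{2j+2}`. -/
def U (j : Fin (2 * k + 1)) : VS (a0 k) :=
  ⟨pairVec (pa k j) (pb k j), pairVec_mem
    (by intro h; have := congrArg Fin.val h; simp only [pa, a0] at this; have := j.2; omega)
    (by intro h; have := congrArg Fin.val h; simp only [pb, a0] at this; have := j.2; omega)⟩

lemma BV_W_W (i j : Fin (2 * k + 1)) : BV (a0 k) (W k i) (W k j) = 0 := by
  rw [BV_apply]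
  change ∑ l, wvec (4 * k + 4) (2 * i.val + 2) l * wvec (4 * k + 4) (2 * j.val + 2) l = 0
  simp only [wvec_mul]
  rw [sum_wvec _ _ (by have := i.2; have := j.2; omega)]
  have : min (2 * i.val + 2) (2 * j.val + 2) = 2 * (min i.val j.val + 1) := by omega
  rw [this]
  exact cast_even _

lemma BV_W_U (i j : Fin (2 * k + 1)) :
    BV (a0 k) (W k i) (U k j) = if i = j then 1 else 0 := by
  rw [BV_apply]
  change ∑ l, wvec (4 * k + 4) (2 * i.val + 2) l * pairVec (pa k j) (pb k j) l = _
  rw [sum_mul_pairVec]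
  have ha : (pa k j).val = 2 * j.val + 1 := rfl
  have hb : (pb k j).val = 2 * j.val + 2 := rfl
  by_cases hij : i = j
  · subst hij
    rw [if_pos rfl, wvec_of_lt (by rw [ha]; omega), wvec_of_ge (by rw [hb]; omega), add_zero]
  · rw [if_neg hij]
    have hne : i.val ≠ j.val := fun h => hij (Fin.ext h)
    rcases lt_or_gt_of_ne hne with h | h
    · rw [wvec_of_ge (by rw [ha]; omega), wvec_of_ge (by rw [hb]; omega), add_zero]
    · rw [wvec_of_lt (by rw [ha]; omega), wvec_of_lt (by rw [hb]; omega)]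
      exact z2_add_self 1

lemma BV_U_U (i j : Fin (2 * k + 1)) : BV (a0 k) (U k i) (U k j) = 0 := by
  rw [BV_apply]
  change ∑ l, pairVec (pa k i) (pb k i) l * pairVec (pa k j) (pb k j) l = 0
  rw [sum_mul_pairVec, pairVec_apply, pairVec_apply]
  have h1 : pa k j ≠ pb k i := by
    intro h; have := congrArg Fin.val h; simp only [pa, pb] at this; omega
  have h2 : pb k j ≠ pa k i := by
    intro h; have := congrArg Fin.val h; simp only [pa, pb] at this; omega
  rw [if_neg h1, if_neg h2, add_zero, zero_add]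
  by_cases hij : i = j
  · subst hij
    rw [if_pos rfl, if_pos rfl]
    exact z2_add_self 1
  · have hne : i.val ≠ j.val := fun h => hij (Fin.ext h)
    have h3 : pa k j ≠ pa k i := by
      intro h; have := congrArg Fin.val h; simp only [pa] at this; omega
    have h4 : pb k j ≠ pb k i := by
      intro h; have := congrArg Fin.val h; simp only [pb] at this; omega
    rw [if_neg h3, if_neg h4, add_zero]

lemma hw_W (j : Fin (2 * k + 1)) : hw (W k j).1 = ((j.val + 1 : ℕ) : ZMod 2) := by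
  change hw (wvec (4 * k + 4) (2 * j.val + 2)) = _
  rw [hw, wt_wvec _ _ (by have := j.2; omega)]
  congr 1
  omega

lemma wt_pairVec {n : ℕ} (a b : Fin n) (hab : a ≠ b) : wt (pairVec a b) = 2 := by
  rw [wt]
  have h : ∀ l : Fin n, (pairVec a b l).val = (if l = a then 1 else 0) + (if l = b then 1 else 0) := by
    intro l
    rw [pairVec_apply]
    by_cases h1 : l = a
    · have h2 : l ≠ b := fun h => hab (h1.symm.trans h)
      rw [if_pos h1, if_neg h2, if_pos h1, if_neg h2]; rfl
    · by_cases h2 : l = b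
      · rw [if_neg h1, if_pos h2, if_neg h1, if_pos h2]; rfl
      · rw [if_neg h1, if_neg h2, if_neg h1, if_neg h2]; rfl
  simp only [h, Finset.sum_add_distrib, Finset.sum_ite_eq', Finset.mem_univ, if_true]

lemma hw_U (j : Fin (2 * k + 1)) : hw (U k j).1 = 1 := by
  change hw (pairVec (pa k j) (pb k j)) = 1
  rw [hw, wt_pairVec]
  · rfl
  · intro h; have := congrArg Fin.val h; simp only [pa, pb] at this; omega

end Explicit

section Assembly

variable (k : ℕ)

lemma hev4 : Even (Fintype.card (Fin (4 * k + 4))) := ⟨2 * k + 2, by rw [Fintype.card_fin]; ring⟩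

lemma h44 : 4 ∣ Fintype.card (Fin (4 * k + 4)) := ⟨k + 1, by rw [Fintype.card_fin]; ring⟩

lemma finrank_VS4 : Module.finrank (ZMod 2) (VS (a0 k)) = 2 * (2 * k + 1) := by
  rw [finrank_VS (a0 k) (by rw [Fintype.card_fin]; omega), Fintype.card_fin]
  omega

/-- Explicit symplectic coordinates on `VS`. -/
lemma exists_explicit_coords :
    ∃ e : VS (a0 k) ≃ₗ[ZMod 2] (Fin (2 * k + 1) ⊕ Fin (2 * k + 1) → ZMod 2),
      ∀ v, Qab (fun j : Fin (2 * k + 1) => ((j.val + 1 : ℕ) : ZMod 2)) (fun _ => 1) (e v)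
        = hw v.1 := by
  obtain ⟨e, he⟩ := exists_coords (fun x : VS (a0 k) => hw x.1) (BV (a0 k)) (hw_add (a0 k))
    (W k) (U k) (BV_W_U k)
    (fun i j => by rw [BV_symm, BV_W_U]; exact if_congr eq_comm rfl rfl)
    (BV_W_W k) (BV_U_U k) (by rw [finrank_VS4, Fintype.card_fin]; ring)
  refine ⟨e, fun v => ?_⟩
  have := he v
  simp only [hw_W, hw_U] at this
  exact this

lemma prod_sgn_explicit :
    ∏ j : Fin (2 * k + 1), sgn (((j.val + 1 : ℕ) : ZMod 2)) 1 = -2 * (-4) ^ k := by
  rw [Fin.prod_univ_eq_prod_range (fun j => sgn (((j + 1 : ℕ) : ZMod 2)) 1) (2 * k + 1)]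
  induction k with
  | zero =>
    rw [Finset.prod_range_one]
    have : ((0 + 1 : ℕ) : ZMod 2) = 1 := by decide
    rw [this, sgn_one_one]
    norm_num
  | succ k ih =>
    have h0 : 2 * (k + 1) + 1 = (2 * k + 1) + 1 + 1 := by ring
    rw [h0, Finset.prod_range_succ, Finset.prod_range_succ, ih]
    have h1 : ((2 * k + 1 + 1 : ℕ) : ZMod 2) = 0 :=
      ZMod.natCast_eq_zero_iff_even.mpr ⟨k + 1, by ring⟩
    have h2 : ((2 * k + 1 + 1 + 1 : ℕ) : ZMod 2) = 1 :=
      ZMod.natCast_eq_one_iff_odd.mpr ⟨k + 1, by ring⟩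
    rw [h1, h2, sgn_zero_left, sgn_one_one]
    ring

/-- Reindexing for the minus-type form. -/
def rIdx (A : Type) : (A ⊕ A) ⊕ Fin 2 ≃ (A ⊕ Unit) ⊕ (A ⊕ Unit) where
  toFun := Sum.elim (Sum.elim (fun i => Sum.inl (Sum.inl i)) (fun i => Sum.inr (Sum.inl i)))
    (fun t => if t = 0 then Sum.inl (Sum.inr ()) else Sum.inr (Sum.inr ()))
  invFun := Sum.elim (Sum.elim (fun i => Sum.inl (Sum.inl i)) (fun _ => Sum.inr 0))
    (Sum.elim (fun i => Sum.inl (Sum.inr i)) (fun _ => Sum.inr 1))
  left_inv := by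
    rintro ((i | i) | t)
    · rfl
    · rfl
    · fin_cases t <;> rfl
  right_inv := by
    rintro ((i | ⟨⟩) | (i | ⟨⟩)) <;> rfl

lemma quadFormMinus_rIdx (m : ℕ) (c : (Fin m ⊕ Unit) ⊕ (Fin m ⊕ Unit) → ZMod 2) :
    Cfsg.quadFormMinus m (ZMod 2) 1 1 (fun t => c (rIdx (Fin m) t)) =
      Qab (Sum.elim (fun _ : Fin m => (0 : ZMod 2)) (fun _ : Unit => 1))
        (Sum.elim (fun _ : Fin m => (0 : ZMod 2)) (fun _ : Unit => 1)) c := by
  rw [Cfsg.quadFormMinus, Qab, Fintype.sum_sum_type]
  simp only [Sum.elim_inl, Sum.elim_inr, mul_zero, add_zero, zero_add, mul_one, one_mul,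
    Finset.univ_unique, Finset.sum_singleton, pow_two, z2_mul_self]
  have h0 : rIdx (Fin m) (Sum.inr 0) = Sum.inl (Sum.inr ()) := rfl
  have h1 : rIdx (Fin m) (Sum.inr 1) = Sum.inr (Sum.inr ()) := rfl
  have h2 : ∀ i, rIdx (Fin m) (Sum.inl (Sum.inl i)) = Sum.inl (Sum.inl i) := fun _ => rfl
  have h3 : ∀ i, rIdx (Fin m) (Sum.inl (Sum.inr i)) = Sum.inr (Sum.inl i) := fun _ => rfl
  rw [h0, h1]
  simp only [h2, h3]

end Assembly

/-- For k ≥ 1 the symmetric group of degree 4k + 4 embeds in a full orthogonal group in dimension 4k + 2 over the field of two elements: in the isometry group of the plus-type form Σ xᵢyᵢ when k is odd, and in that of the minus-type form Σ xᵢyᵢ + (z₁² + z₁z₂ + z₂²) when k is even (through its action on even partitions of a (4k+4)-set, with the form 'half the size of a part, modulo 2'). -/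
theorem result (k : ℕ) (hk : 1 ≤ k) :
    (Odd k → ∃ φ : Equiv.Perm (Fin (4 * k + 4)) →* ↥(Cfsg.isometryGroup (ZMod 2) (Cfsg.quadFormPlus (2 * k + 1) (ZMod 2))), Function.Injective φ) ∧
    (Even k → ∃ φ : Equiv.Perm (Fin (4 * k + 4)) →* ↥(Cfsg.isometryGroup (ZMod 2) (Cfsg.quadFormMinus (2 * k) (ZMod 2) 1 1)), Function.Injective φ) := by
  have hcard := Fintype.card_fin (4 * k + 4)
  have hev := hev4 k
  have h4 := h44 k
  have hnd : (QuadraticMap.polarBilin (QF (a0 k))).Nondegenerate := by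
    rw [polarBilin_QF]
    exact BV_nondegenerate (a0 k) (by rw [hcard]; omega) hev
  obtain ⟨e₂, he₂⟩ := exists_explicit_coords k
  have hinj := rhoHom_injective (a0 k) (by rw [hcard]; omega) hev
  have hinv : ∀ σ (x : VS (a0 k)), hw (rhoHom (a0 k) hev σ x).1 = hw x.1 :=
    fun σ x => hw_rho (a0 k) hev h4 σ x
  have hP := prod_sgn_explicit k
  rcases even_standard (2 * k) (VS (a0 k)) (QF (a0 k)) (finrank_VS4 k) hnd with
    ⟨e, f, hsys⟩ | ⟨e, f, x, y, ζ, hsys, hirr, hxe, hxf, hye, hyf, hx, hxy, hy⟩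
  · -- plus type
    obtain ⟨e₁, he₁⟩ := exists_coords (fun x : VS (a0 k) => hw x.1) (BV (a0 k)) (hw_add (a0 k)) e f
      (fun i j => by rw [← polar_QF]; exact hsys.ef i j)
      (fun i j => by rw [BV_symm, ← polar_QF, hsys.ef]; exact if_congr eq_comm rfl rfl)
      (fun i j => by rw [← polar_QF]; exact hsys.ee i j)
      (fun i j => by rw [← polar_QF]; exact hsys.ff i j)
      (by rw [finrank_VS4, Fintype.card_fin]; ring)
    have hα : (fun i => hw (e i).1) = fun _ => 0 := funext hsys.qe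
    have hβ : (fun i => hw (f i).1) = fun _ => 0 := funext hsys.qf
    rw [hα, hβ] at he₁
    refine ⟨fun _ => ?_, fun heven => ?_⟩
    · refine exists_hom_isometryGroup (Cfsg.quadFormPlus (2 * k + 1) (ZMod 2))
        (fun x : VS (a0 k) => hw x.1) e₁ ?_ (rhoHom (a0 k) hev) hinj hinv
      intro v
      rw [← he₁ v]
      simp [Qab, Cfsg.quadFormPlus]
    · exfalso
      have h := prod_sgn_eq (fun _ : Fin (2 * k + 1) => (0 : ZMod 2)) (fun _ => 0)
        (fun j : Fin (2 * k + 1) => ((j.val + 1 : ℕ) : ZMod 2)) (fun _ => 1)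
        (e₁.symm.trans e₂).toEquiv (fun c => by
          change Qab _ _ (e₂ (e₁.symm c)) = _
          rw [he₂, ← he₁ (e₁.symm c), LinearEquiv.apply_symm_apply])
      rw [hP] at h
      simp only [sgn_zero_left, Finset.prod_const, Finset.card_univ, Fintype.card_fin] at h
      rw [Even.neg_pow heven] at h
      have h1 : (0 : ℤ) < 2 ^ (2 * k + 1) := by positivity
      have h2 : (0 : ℤ) < 4 ^ k := by positivity
      linarith
  · -- minus type
    have hζ : ζ = 1 := by
      rcases z2_cases ζ with h | h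
      · exfalso
        apply hirr 0
        rw [h]; ring
      · exact h
    have hsymm : ∀ u v : VS (a0 k), QuadraticMap.polar (⇑(QF (a0 k))) u v
        = QuadraticMap.polar (⇑(QF (a0 k))) v u := fun u v => QuadraticMap.polar_comm _ _ _
    obtain ⟨e₁, he₁⟩ := exists_coords (fun x : VS (a0 k) => hw x.1) (BV (a0 k)) (hw_add (a0 k))
      (Sum.elim e (fun _ : Unit => x)) (Sum.elim f (fun _ : Unit => y))
      (by
        rintro (i | ⟨⟩) (j | ⟨⟩)
        · simp only [Sum.elim_inl, Sum.inl.injEq]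
          rw [← polar_QF]; exact hsys.ef i j
        · simp only [Sum.elim_inl, Sum.elim_inr, reduceCtorEq, if_false]
          rw [← polar_QF, hsymm]; exact hye i
        · simp only [Sum.elim_inl, Sum.elim_inr, reduceCtorEq, if_false]
          rw [← polar_QF]; exact hxf j
        · simp only [Sum.elim_inr, if_true]
          rw [← polar_QF]; exact hxy)
      (by
        rintro (i | ⟨⟩) (j | ⟨⟩)
        · simp only [Sum.elim_inl, Sum.inl.injEq]
          rw [← polar_QF, hsymm, hsys.ef]; exact if_congr eq_comm rfl rfl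
        · simp only [Sum.elim_inl, Sum.elim_inr, reduceCtorEq, if_false]
          rw [← polar_QF, hsymm]; exact hxf i
        · simp only [Sum.elim_inl, Sum.elim_inr, reduceCtorEq, if_false]
          rw [← polar_QF]; exact hye j
        · simp only [Sum.elim_inr, if_true]
          rw [← polar_QF, hsymm]; exact hxy)
      (by
        rintro (i | ⟨⟩) (j | ⟨⟩)
        · simp only [Sum.elim_inl]
          rw [← polar_QF]; exact hsys.ee i j
        · simp only [Sum.elim_inl, Sum.elim_inr]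
          rw [← polar_QF, hsymm]; exact hxe i
        · simp only [Sum.elim_inl, Sum.elim_inr]
          rw [← polar_QF]; exact hxe j
        · simp only [Sum.elim_inr]
          exact BV_isAlt (a0 k) x)
      (by
        rintro (i | ⟨⟩) (j | ⟨⟩)
        · simp only [Sum.elim_inl]
          rw [← polar_QF]; exact hsys.ff i j
        · simp only [Sum.elim_inl, Sum.elim_inr]
          rw [← polar_QF, hsymm]; exact hyf i
        · simp only [Sum.elim_inl, Sum.elim_inr]
          rw [← polar_QF]; exact hyf j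
        · simp only [Sum.elim_inr]
          exact BV_isAlt (a0 k) y)
      (by rw [finrank_VS4, Fintype.card_sum, Fintype.card_fin, Fintype.card_unit]; ring)
    have hα : (fun i => hw ((Sum.elim e (fun _ : Unit => x)) i).1) =
        Sum.elim (fun _ : Fin (2 * k) => (0 : ZMod 2)) (fun _ : Unit => 1) := by
      funext i
      rcases i with i | ⟨⟩
      · exact hsys.qe i
      · exact hx
    have hβ : (fun i => hw ((Sum.elim f (fun _ : Unit => y)) i).1) =
        Sum.elim (fun _ : Fin (2 * k) => (0 : ZMod 2)) (fun _ : Unit => 1) := by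
      funext i
      rcases i with i | ⟨⟩
      · exact hsys.qf i
      · exact hy.trans hζ
    rw [hα, hβ] at he₁
    refine ⟨fun hodd => ?_, fun _ => ?_⟩
    · exfalso
      have h := prod_sgn_eq (Sum.elim (fun _ : Fin (2 * k) => (0 : ZMod 2)) (fun _ : Unit => 1))
        (Sum.elim (fun _ : Fin (2 * k) => (0 : ZMod 2)) (fun _ : Unit => 1))
        (fun j : Fin (2 * k + 1) => ((j.val + 1 : ℕ) : ZMod 2)) (fun _ => 1)
        (e₁.symm.trans e₂).toEquiv (fun c => by
          change Qab _ _ (e₂ (e₁.symm c)) = _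
          rw [he₂, ← he₁ (e₁.symm c), LinearEquiv.apply_symm_apply])
      rw [hP] at h
      simp only [Fintype.prod_sum_type, Sum.elim_inl, Sum.elim_inr, sgn_zero_left, sgn_one_one,
        Finset.prod_const, Finset.card_univ, Fintype.card_fin, Fintype.card_unit, pow_one] at h
      rw [Odd.neg_pow hodd] at h
      have h1 : (0 : ℤ) < 2 ^ (2 * k) := by positivity
      have h2 : (0 : ℤ) < 4 ^ k := by positivity
      linarith
    · refine exists_hom_isometryGroup (Cfsg.quadFormMinus (2 * k) (ZMod 2) 1 1)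
        (fun x : VS (a0 k) => hw x.1)
        (e₁.trans (LinearEquiv.funCongrLeft (ZMod 2) (ZMod 2) (rIdx (Fin (2 * k))))) ?_
        (rhoHom (a0 k) hev) hinj hinv
      intro v
      rw [← he₁ v, ← quadFormMinus_rIdx]
      rfl

end Cfsg.Agent.S2563
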