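import Cfsg.Statements.S2567

set_option autoImplicit false
open Cfsg

namespace Cfsg.Agent.S2567

/-- Generic lifting lemma: if every element of the centre has `e`-th power one with `e` coprime to the
prime `r`, then an element of order `r` in `G ⧸ Z(G)` has a unique preimage of order `r`. -/
theorem lift_unique {G : Type*} [Group G] (e r : ℕ) (hr : r.Prime) (hcop : Nat.Coprime r e)
    (hZ : ∀ z ∈ Subgroup.center G, z ^ e = 1)
    (x : G ⧸ Subgroup.center G) (hx : orderOf x = r) :
    ∃! g : G, (QuotientGroup.mk g : G ⧸ Subgroup.center G) = x ∧ orderOf g = r := by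
  obtain ⟨g0, rfl⟩ := QuotientGroup.mk_surjective x
  have hx1 : (QuotientGroup.mk g0 : G ⧸ Subgroup.center G) ≠ 1 := by
    intro h
    rw [h, orderOf_one] at hx
    exact hr.one_lt.ne hx
  have hg0r : g0 ^ r ∈ Subgroup.center G := by
    rw [← QuotientGroup.eq_one_iff, QuotientGroup.mk_pow, ← hx]
    exact pow_orderOf_eq_one _
  have hg0re : g0 ^ (r * e) = 1 := by
    rw [pow_mul]; exact hZ _ hg0r
  -- choose m with m ≡ 1 mod r, m ≡ 0 mod e
  obtain ⟨m, hm1, hm0⟩ : ∃ m : ℕ, m ≡ 1 [MOD r] ∧ m ≡ 0 [MOD e] :=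
    ⟨Nat.chineseRemainder hcop 1 0, (Nat.chineseRemainder hcop 1 0).2.1,
      (Nat.chineseRemainder hcop 1 0).2.2⟩
  refine ⟨g0 ^ m, ⟨?_, ?_⟩, ?_⟩
  · -- mk (g0^m) = mk g0
    rw [QuotientGroup.mk_pow]
    have : (QuotientGroup.mk g0 : G ⧸ Subgroup.center G) ^ m
        = (QuotientGroup.mk g0 : G ⧸ Subgroup.center G) ^ 1 := by
      rw [pow_eq_pow_iff_modEq, hx]; exact hm1
    rw [this, pow_one]
  · -- order is r
    have hpow : (g0 ^ m) ^ r = 1 := by
      obtain ⟨k, hk⟩ := (Nat.modEq_zero_iff_dvd.mp hm0)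
      rw [← pow_mul, hk, mul_comm e k, mul_assoc, mul_comm e r, mul_comm k, pow_mul, hg0re, one_pow]
    have hne : g0 ^ m ≠ 1 := by
      intro h
      apply hx1
      have : (QuotientGroup.mk g0 : G ⧸ Subgroup.center G) ^ m
          = (QuotientGroup.mk g0 : G ⧸ Subgroup.center G) ^ 1 := by
        rw [pow_eq_pow_iff_modEq, hx]; exact hm1
      rw [pow_one, ← QuotientGroup.mk_pow, h] at this
      exact this.symm
    have : Fact r.Prime := ⟨hr⟩
    exact orderOf_eq_prime hpow hne
  · rintro g' ⟨hg'x, hg'r⟩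
    set g := g0 ^ m with hg
    have hgx : (QuotientGroup.mk g : G ⧸ Subgroup.center G) = QuotientGroup.mk g0 := by
      rw [hg, QuotientGroup.mk_pow]
      have : (QuotientGroup.mk g0 : G ⧸ Subgroup.center G) ^ m
          = (QuotientGroup.mk g0 : G ⧸ Subgroup.center G) ^ 1 := by
        rw [pow_eq_pow_iff_modEq, hx]; exact hm1
      rw [this, pow_one]
    have hgr : g ^ r = 1 := by
      obtain ⟨k, hk⟩ := (Nat.modEq_zero_iff_dvd.mp hm0)
      rw [hg, ← pow_mul, hk, mul_comm e k, mul_assoc, mul_comm e r, mul_comm k, pow_mul, hg0re,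
        one_pow]
    have hz : g⁻¹ * g' ∈ Subgroup.center G := by
      rw [← QuotientGroup.eq, hgx, hg'x]
    set z := g⁻¹ * g' with hzdef
    have hg' : g' = g * z := by rw [hzdef]; group
    have hcomm : Commute g z := Subgroup.mem_center_iff.mp hz g
    have hzr : z ^ r = 1 := by
      have h1 : g' ^ r = 1 := by rw [← hg'r]; exact pow_orderOf_eq_one _
      rw [hg', hcomm.mul_pow, hgr, one_mul] at h1
      exact h1
    have hze : z ^ e = 1 := hZ z hz
    have hz1 : z = 1 := by
      have h1 : orderOf z ∣ r := orderOf_dvd_of_pow_eq_one hzr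
      have h2 : orderOf z ∣ e := orderOf_dvd_of_pow_eq_one hze
      have h3 : orderOf z ∣ Nat.gcd r e := Nat.dvd_gcd h1 h2
      rw [hcop.gcd_eq_one, Nat.dvd_one] at h3
      exact orderOf_eq_one_iff.mp h3
    rw [hg', hz1, mul_one]

/-- Lifting elements of prime order from PGL to GL: let F be a finite field with q elements, r a prime not dividing q − 1, and x an element of order r in GL_n(F) modulo its centre (the scalar matrices). Then x has exactly one preimage in GL_n(F) of order r. -/
theorem result {F : Type*} [Field F] [Fintype F] {q n r : ℕ} (hF : Fintype.card F = q) (hr : r.Prime) (hdiv : ¬ r ∣ q - 1) (x : GL (Fin n) F ⧸ Subgroup.center (GL (Fin n) F)) (hx : orderOf x = r) : ∃! g : GL (Fin n) F, (QuotientGroup.mk g : GL (Fin n) F ⧸ Subgroup.center (GL (Fin n) F)) = x ∧ orderOf g = r := by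
  apply lift_unique (q - 1) r hr ((Nat.Prime.coprime_iff_not_dvd hr).mpr hdiv) _ x hx
  intro z hz
  rw [Matrix.GeneralLinearGroup.center_eq_range_scalar] at hz
  obtain ⟨a, rfl⟩ := hz
  rw [← map_pow]
  have : a ^ (q - 1) = 1 := by
    classical
    rw [← hF, ← Fintype.card_units]
    exact pow_card_eq_one
  rw [this, map_one]

end Cfsg.Agent.S2567
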