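import Cfsg.Statements.S2569
import Cfsg.Agent.Lib.Helper43_IrredDet

set_option autoImplicit false
open Cfsg

namespace Cfsg.Agent.S2569

open Cfsg.Agent.Lib.Helper43_IrredDet

/-- the determinant is surjective on the centralizer of a semisimple element -/
theorem exists_commute_det_eq {F : Type*} [Field F] [Fintype F] {p : ℕ} [Fact p.Prime] [CharP F p]
    {n : ℕ} (hn : 0 < n) (x : GL (Fin n) F) (hx : (orderOf x).Coprime p) (lam : F) (hlam : lam ≠ 0) :
    ∃ c : GL (Fin n) F, c * x = x * c ∧ (c : Matrix (Fin n) (Fin n) F).det = lam := by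
  have hN : ((orderOf x : ℕ) : F) ≠ 0 := by
    rw [Ne, CharP.cast_eq_zero_iff F p]
    intro hdvd
    have h1 : p ∣ Nat.gcd (orderOf x) p := Nat.dvd_gcd hdvd (dvd_refl p)
    rw [Nat.Coprime] at hx
    rw [hx] at h1
    exact (Fact.out : p.Prime).one_lt.ne' (Nat.dvd_one.mp h1)
  have hnt : Nontrivial (Fin n → F) := by
    have : Nonempty (Fin n) := ⟨⟨0, hn⟩⟩
    infer_instance
  set T : Module.End F (Fin n → F) := Matrix.toLinAlgEquiv' (x : Matrix (Fin n) (Fin n) F) with hT
  have hTN : T ^ orderOf x = 1 := by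
    rw [hT, ← map_pow, ← Units.val_pow_eq_pow_val, pow_orderOf_eq_one, Units.val_one, map_one]
  obtain ⟨c, hcT, hcdet⟩ := exists_commute_det_of_pow_eq_one T (orderOf x) hN hTN lam
  set C : Matrix (Fin n) (Fin n) F := (Matrix.toLinAlgEquiv' (n := Fin n) (R := F)).symm c with hC
  have hCc : Matrix.toLinAlgEquiv' C = c := AlgEquiv.apply_symm_apply _ c
  have hdetC : C.det = lam := by
    rw [← hcdet, ← hCc]
    exact (LinearMap.det_toLin' C).symm
  have hcomm : C * (x : Matrix (Fin n) (Fin n) F) = (x : Matrix (Fin n) (Fin n) F) * C := by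
    apply (Matrix.toLinAlgEquiv' (n := Fin n) (R := F)).injective
    rw [map_mul, map_mul, hCc]
    exact hcT.eq
  refine ⟨Matrix.GeneralLinearGroup.mkOfDetNeZero C (by rw [hdetC]; exact hlam), ?_, hdetC⟩
  apply Units.ext
  exact hcomm

/-- In GL_n over a finite field of characteristic p, the conjugacy class of a semisimple element (an element of order prime to p) under the special linear group is its whole GL-conjugacy class: for every such x and every invertible g there is h of determinant one with h x h⁻¹ = g x g⁻¹. -/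
theorem result {F : Type*} [Field F] [Fintype F] {p : ℕ} [Fact p.Prime] [CharP F p] {n : ℕ} (x g : GL (Fin n) F) (hx : (orderOf x).Coprime p) : ∃ h : GL (Fin n) F, (h : Matrix (Fin n) (Fin n) F).det = 1 ∧ h * x * h⁻¹ = g * x * g⁻¹ := by
  rcases Nat.eq_zero_or_pos n with hn | hn
  · subst hn
    exact ⟨g, Matrix.det_isEmpty, rfl⟩
  · have hdet : (g : Matrix (Fin n) (Fin n) F).det ≠ 0 :=
      ((Matrix.isUnit_iff_isUnit_det _).mp g.isUnit).ne_zero
    obtain ⟨c, hc, hcdet⟩ := exists_commute_det_eq hn x hx _ hdet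
    refine ⟨g * c⁻¹, ?_, ?_⟩
    · rw [Units.val_mul, Matrix.det_mul, Matrix.coe_units_inv, Matrix.det_nonsing_inv, hcdet]
      simp [hdet]
    · have h1 : c⁻¹ * x * c = x := by
        rw [mul_assoc, ← hc, ← mul_assoc, inv_mul_cancel, one_mul]
      calc g * c⁻¹ * x * (g * c⁻¹)⁻¹ = g * (c⁻¹ * x * c) * g⁻¹ := by
            rw [_root_.mul_inv_rev, inv_inv]; group
        _ = g * x * g⁻¹ := by rw [h1]

end Cfsg.Agent.S2569
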