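import Cfsg.Statements.S2570
import Cfsg.Agent.Lib.Helper43_Jordan4

set_option autoImplicit false
open Cfsg

namespace Cfsg.Agent.S2570

open Cfsg.Agent.Lib.Helper43_Jordan

/-- the partition of `n` into ones -/
def ones (n : ℕ) : Nat.Partition n where
  parts := Multiset.replicate n 1
  parts_pos := fun {i} hi => by
    rw [Multiset.eq_of_mem_replicate hi]
    exact Nat.one_pos
  parts_sum := by
    rw [Multiset.sum_replicate, smul_eq_mul, mul_one]

theorem eq_ones_iff {n : ℕ} (μ : Nat.Partition n) : μ = ones n ↔ ∀ a ∈ μ.parts, a ≤ 1 := by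
  constructor
  · rintro rfl a ha
    rw [Multiset.eq_of_mem_replicate ha]
  · intro h
    apply Nat.Partition.ext
    have h1 : ∀ a ∈ μ.parts, a = 1 := by
      intro a ha
      have := h a ha
      have := μ.parts_pos ha
      omega
    have h2 := Multiset.eq_replicate_card.2 h1
    have h3 := μ.parts_sum
    rw [h2, Multiset.sum_replicate, smul_eq_mul, mul_one] at h3
    rw [h2, h3]
    rfl

/-- Number of conjugacy classes of elements of order p in GL_n over a finite field of characteristic p: they correspond to the Jordan types, that is, to the partitions of n with all parts at most p other than the partition into ones, so there are (number of partitions of n with parts ≤ p) − 1 of them. -/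
theorem result {F : Type*} [Field F] [Fintype F] {p : ℕ} [Fact p.Prime] [CharP F p] (n : ℕ) : Nat.card {C : ConjClasses (GL (Fin n) F) // ∃ g : GL (Fin n) F, ConjClasses.mk g = C ∧ orderOf g = p} = (Finset.univ.filter (fun μ : Nat.Partition n => ∀ a ∈ μ.parts, a ≤ p)).card - 1 := by
  classical
  have hp : p.Prime := Fact.out
  have h := card_classes (F := F) (n := n) (fun g => orderOf g = p)
    (fun m => (∀ a ∈ m, a ≤ p) ∧ ¬ ∀ a ∈ m, a ≤ 1)
    (fun g => by
      rw [orderOf_eq_prime_iff_Nof p g]
      constructor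
      · rintro ⟨h1, h2⟩
        have hN : IsNilpotent (Nof g) := ⟨p, h1⟩
        rw [pow_eq_zero_iff_jtype _ hN] at h1 h2
        exact ⟨hN, h1, h2⟩
      · rintro ⟨hN, h1, h2⟩
        rw [pow_eq_zero_iff_jtype _ hN, pow_eq_zero_iff_jtype _ hN]
        exact ⟨h1, h2⟩)
  have h0 : Nat.card {C : ConjClasses (GL (Fin n) F) //
      ∃ g : GL (Fin n) F, ConjClasses.mk g = C ∧ orderOf g = p} =
      Nat.card {C : ConjClasses (GL (Fin n) F) //
      ∃ g : GL (Fin n) F, orderOf g = p ∧ ConjClasses.mk g = C} := by
    apply Nat.card_congr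
    apply Equiv.subtypeEquivRight
    intro C
    constructor
    · rintro ⟨g, h1, h2⟩; exact ⟨g, h2, h1⟩
    · rintro ⟨g, h1, h2⟩; exact ⟨g, h2, h1⟩
  rw [h0, h, Nat.card_eq_fintype_card, Fintype.card_subtype]
  have h1 : (Finset.univ.filter (fun μ : Nat.Partition n =>
      (∀ a ∈ μ.parts, a ≤ p) ∧ ¬ ∀ a ∈ μ.parts, a ≤ 1)) =
      (Finset.univ.filter (fun μ : Nat.Partition n => ∀ a ∈ μ.parts, a ≤ p)).erase (ones n) := by
    ext μ
    rw [Finset.mem_filter, Finset.mem_erase, Finset.mem_filter, ← eq_ones_iff]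
    tauto
  have h2 : ones n ∈ Finset.univ.filter (fun μ : Nat.Partition n => ∀ a ∈ μ.parts, a ≤ p) := by
    rw [Finset.mem_filter]
    refine ⟨Finset.mem_univ _, fun a ha => ?_⟩
    have := (eq_ones_iff (ones n)).1 rfl a ha
    have := hp.one_lt
    omega
  rw [h1, Finset.card_erase_of_mem h2]

end Cfsg.Agent.S2570
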