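import Cfsg.Statements.S2571
import Cfsg.Agent.Lib.Helper43_RegNilpotent3

set_option autoImplicit false
open Cfsg

namespace Cfsg.Agent.S2571

open Cfsg.Agent.Lib.Helper43_RegNilpotent
open Matrix

theorem result {F : Type*} [Field F] [Fintype F] {q n : ℕ} (hF : Fintype.card F = q) (hn : 1 ≤ n) (u : GL (Fin n) F) (hnil : ((u : Matrix (Fin n) (Fin n) F) - 1) ^ n = 0) (hreg : ((u : Matrix (Fin n) (Fin n) F) - 1).rank = n - 1) : Nat.card ↥(Subgroup.centralizer ({u} : Set (GL (Fin n) F))) = (q - 1) * q ^ (n - 1) := by
  classical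
  set A : Matrix (Fin n) (Fin n) F := (u : Matrix (Fin n) (Fin n) F) with hA
  let e : Matrix (Fin n) (Fin n) F ≃ₐ[F] Module.End F (Fin n → F) := Matrix.toLinAlgEquiv'
  have he_apply : ∀ (M : Matrix (Fin n) (Fin n) F) (x : Fin n → F), e M x = M *ᵥ x := by
    intro M x; rfl
  set N : Module.End F (Fin n → F) := e (A - 1) with hN
  have hfin : Module.finrank F (Fin n → F) = n := Module.finrank_fin_fun F
  have hNnil : N ^ Module.finrank F (Fin n → F) = 0 := by
    rw [hfin, hN, ← map_pow, hnil, map_zero]
  have hker : Module.finrank F (LinearMap.ker N) ≤ 1 := by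
    have h1 := LinearMap.finrank_range_add_finrank_ker N
    rw [hfin] at h1
    have h2 : Module.finrank F (LinearMap.range N) = n - 1 := hreg
    omega
  have hV : 0 < Module.finrank F (Fin n → F) := by rw [hfin]; omega
  obtain ⟨v, hv⟩ := exists_cyclic N hNnil hker hV
  set K : Submodule F (Fin n → F) := LinearMap.ker (N ^ (Module.finrank F (Fin n → F) - 1)) with hK
  -- commuting with u ↔ commuting with N
  have hcomm_of : ∀ G : Matrix (Fin n) (Fin n) F, A * G = G * A → Commute (e G) N := by
    intro G hG
    show e G * N = N * e G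
    rw [hN, ← map_mul, ← map_mul]
    congr 1
    rw [Matrix.mul_sub, Matrix.sub_mul, hG, mul_one, one_mul]
  have hcomm_to : ∀ X : Module.End F (Fin n → F), Commute X N → A * e.symm X = e.symm X * A := by
    intro X hX
    have h1 : e.symm X * (A - 1) = (A - 1) * e.symm X := by
      apply e.injective
      rw [map_mul, map_mul, AlgEquiv.apply_symm_apply]
      exact hX.eq
    rw [Matrix.mul_sub, Matrix.sub_mul, mul_one, one_mul] at h1
    have := sub_left_injective h1
    exact this.symm
  -- the bijection
  let Φ : ↥(Subgroup.centralizer ({u} : Set (GL (Fin n) F))) → {w : Fin n → F // w ∉ K} :=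
    fun g => ⟨(g.1 : Matrix (Fin n) (Fin n) F) *ᵥ v, by
      have hg : A * (g.1 : Matrix (Fin n) (Fin n) F) = (g.1 : Matrix (Fin n) (Fin n) F) * A := by
        have := (Subgroup.mem_centralizer_iff.mp g.2) u (Set.mem_singleton u)
        have := congrArg Units.val this
        simpa using this
      have hunit : IsUnit (e (g.1 : Matrix (Fin n) (Fin n) F)) :=
        (g.1.isUnit).map e
      have := (isUnit_iff_apply_cyclic N hNnil hker hV v hv _ (hcomm_of _ hg)).mp hunit
      exact this⟩
  have hΦ : Function.Bijective Φ := by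
    constructor
    · intro g g' hgg'
      have h1 : (g.1 : Matrix (Fin n) (Fin n) F) *ᵥ v = (g'.1 : Matrix (Fin n) (Fin n) F) *ᵥ v :=
        congrArg Subtype.val hgg'
      have hg : A * (g.1 : Matrix (Fin n) (Fin n) F) = (g.1 : Matrix (Fin n) (Fin n) F) * A := by
        have := (Subgroup.mem_centralizer_iff.mp g.2) u (Set.mem_singleton u)
        have := congrArg Units.val this
        simpa using this
      have hg' : A * (g'.1 : Matrix (Fin n) (Fin n) F) = (g'.1 : Matrix (Fin n) (Fin n) F) * A := by
        have := (Subgroup.mem_centralizer_iff.mp g'.2) u (Set.mem_singleton u)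
        have := congrArg Units.val this
        simpa using this
      have hc : Commute (e ((g.1 : Matrix (Fin n) (Fin n) F) - (g'.1 : Matrix (Fin n) (Fin n) F))) N := by
        apply hcomm_of
        rw [Matrix.mul_sub, Matrix.sub_mul, hg, hg']
      have h0 : e ((g.1 : Matrix (Fin n) (Fin n) F) - (g'.1 : Matrix (Fin n) (Fin n) F)) v = 0 := by
        rw [he_apply, Matrix.sub_mulVec, h1, sub_self]
      have := eq_zero_of_commute_of_apply_cyclic N hNnil hker v hv _ hc h0
      have h2 : (g.1 : Matrix (Fin n) (Fin n) F) - (g'.1 : Matrix (Fin n) (Fin n) F) = 0 := by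
        apply e.injective; rw [this, map_zero]
      apply Subtype.ext
      apply Units.ext
      exact sub_eq_zero.mp h2
    · rintro ⟨w, hw⟩
      obtain ⟨X, hXc, hXv⟩ := exists_commute_apply_cyclic_eq N hNnil hker v hv w
      have hXunit : IsUnit X := by
        rw [isUnit_iff_apply_cyclic N hNnil hker hV v hv X hXc, hXv]; exact hw
      have hGunit : IsUnit (e.symm X) := hXunit.map e.symm
      let g0 : GL (Fin n) F := hGunit.unit
      have hg0 : (g0 : Matrix (Fin n) (Fin n) F) = e.symm X := rfl
      have hmem : g0 ∈ Subgroup.centralizer ({u} : Set (GL (Fin n) F)) := by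
        rw [Subgroup.mem_centralizer_iff]
        intro h hh
        rw [Set.mem_singleton_iff] at hh
        subst hh
        apply Units.ext
        rw [Units.val_mul, Units.val_mul, hg0]
        exact hcomm_to X hXc
      refine ⟨⟨g0, hmem⟩, ?_⟩
      apply Subtype.ext
      show (g0 : Matrix (Fin n) (Fin n) F) *ᵥ v = w
      rw [hg0, ← he_apply, AlgEquiv.apply_symm_apply, hXv]
  rw [Nat.card_eq_of_bijective Φ hΦ]
  -- counting
  have hcardV : Nat.card (Fin n → F) = q ^ n := by
    rw [Nat.card_eq_fintype_card, Fintype.card_fun, Fintype.card_fin, hF]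
  have hcardK : Nat.card K = q ^ (n - 1) := by
    rw [Module.natCard_eq_pow_finrank (K := F) (V := K), Nat.card_eq_fintype_card, hF, hK,
      finrank_ker_pow_eq N hNnil hker _ (Nat.sub_le _ _), hfin]
  have hcompl : Nat.card {w : Fin n → F // w ∉ K} = Nat.card (Fin n → F) - Nat.card K := by
    rw [Nat.card_eq_fintype_card, Nat.card_eq_fintype_card, Nat.card_eq_fintype_card]
    exact Fintype.card_subtype_compl (fun w => w ∈ K)
  rw [hcompl, hcardV, hcardK]
  obtain ⟨k, rfl⟩ : ∃ k, n = k + 1 := ⟨n - 1, by omega⟩
  rw [Nat.add_sub_cancel, pow_succ, Nat.sub_mul, one_mul, mul_comm]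

end Cfsg.Agent.S2571
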