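import Cfsg.Statements.S2579
import Cfsg.Agent.Lib.Helper43_Transvection2

set_option autoImplicit false
open Cfsg

namespace Cfsg.Agent.S2579

open Cfsg.Agent.Lib.Helper43_Transvection
open Matrix

/-- data of a transvection matrix -/
theorem transvection_data {F : Type*} [Field F] {n : ℕ} (S : Matrix (Fin n) (Fin n) F)
    (hS : Cfsg.IsTransvection S) :
    ∃ (a : Fin n → F) (φ : Module.Dual F (Fin n → F)), a ≠ 0 ∧ φ ≠ 0 ∧ φ a = 0 ∧
      ∀ x, S *ᵥ x = x + φ x • a := by
  obtain ⟨hrank, hsq⟩ := hS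
  set μ : Module.End F (Fin n → F) := Matrix.mulVecLin (S - 1) with hμ
  have h1 : Module.finrank F (LinearMap.range μ) = 1 := hrank
  have h2 : ∀ x, μ (μ x) = 0 := by
    intro x
    rw [hμ, Matrix.mulVecLin_apply, Matrix.mulVecLin_apply, Matrix.mulVec_mulVec, hsq,
      Matrix.zero_mulVec]
  obtain ⟨a, φ, ha, hφ, hφa, hμx⟩ := exists_vec_dual_of_rank_one μ h1 h2
  refine ⟨a, φ, ha, hφ, hφa, ?_⟩
  intro x
  have := hμx x
  rw [hμ, Matrix.mulVecLin_apply, Matrix.sub_mulVec, Matrix.one_mulVec] at this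
  rw [← this]; abel

theorem result {F : Type*} [Field F] [Finite F] {n : ℕ} (hn : 3 ≤ n) (s t : Matrix.SpecialLinearGroup (Fin n) F) (hs : Cfsg.IsTransvection (s : Matrix (Fin n) (Fin n) F)) (ht : Cfsg.IsTransvection (t : Matrix (Fin n) (Fin n) F)) : IsConj s t := by
  classical
  obtain ⟨a, φ, ha, hφ, hφa, hsx⟩ := transvection_data _ hs
  obtain ⟨a', φ', ha', hφ', hφa', htx⟩ := transvection_data _ ht
  have hfin : Module.finrank F (Fin n → F) = n := Module.finrank_fin_fun F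
  obtain ⟨G, hGdet, hGa, hGφ⟩ := exists_det_one_map (F := F) (V := Fin n → F) (by rw [hfin]; exact hn)
    a a' φ φ' ha ha' hφ hφ' hφa hφa'
  have hdet1 : (LinearMap.toMatrix' G).det = 1 := by
    rw [LinearMap.det_toMatrix', hGdet]
  let g : Matrix.SpecialLinearGroup (Fin n) F := ⟨LinearMap.toMatrix' G, hdet1⟩
  have hcomm : (LinearMap.toMatrix' G) * (s : Matrix (Fin n) (Fin n) F)
      = (t : Matrix (Fin n) (Fin n) F) * (LinearMap.toMatrix' G) := by
    apply Matrix.toLin'.injective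
    apply LinearMap.ext
    intro x
    rw [Matrix.toLin'_mul, Matrix.toLin'_mul, Matrix.toLin'_toMatrix', LinearMap.comp_apply,
      LinearMap.comp_apply, Matrix.toLin'_apply, Matrix.toLin'_apply, hsx, htx, map_add, map_smul,
      hGa, hGφ]
  rw [isConj_iff]
  refine ⟨g, ?_⟩
  rw [mul_inv_eq_iff_eq_mul]
  apply Subtype.ext
  exact hcomm

end Cfsg.Agent.S2579
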