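import Cfsg.Statements.S2573
import Cfsg.Agent.Lib.Helper43_RegNilpotent

set_option autoImplicit false
open Cfsg

namespace Cfsg.Agent.S2573

open Cfsg.Agent.Lib.Helper43_RegNilpotent

theorem mulVecLin_pow {F : Type*} [Field F] {n : ℕ} (A : Matrix (Fin n) (Fin n) F) (k : ℕ) :
    Matrix.mulVecLin (A ^ k) = (Matrix.mulVecLin A) ^ k := by
  induction k with
  | zero => simp [Module.End.one_eq_id]
  | succ k ih => rw [pow_succ, Matrix.mulVecLin_mul, ih, pow_succ]; rfl

theorem result {F : Type*} [Field F] [Finite F] {n : ℕ} (u : Matrix (Fin n) (Fin n) F) (hnil : (u - 1) ^ n = 0) (hreg : (u - 1).rank = n - 1) (W : Submodule F (Fin n → F)) (hW : ∀ v ∈ W, u.mulVec v ∈ W) : W = LinearMap.ker (Matrix.mulVecLin ((u - 1) ^ Module.finrank F W)) := by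
  set N : Module.End F (Fin n → F) := Matrix.mulVecLin (u - 1) with hN
  have hfin : Module.finrank F (Fin n → F) = n := Module.finrank_fin_fun F
  have hNnil : N ^ Module.finrank F (Fin n → F) = 0 := by
    rw [hfin, hN, ← mulVecLin_pow, hnil]
    ext; simp
  have hker : Module.finrank F (LinearMap.ker N) ≤ 1 := by
    have h1 := LinearMap.finrank_range_add_finrank_ker N
    rw [hfin] at h1
    have h2 : Module.finrank F (LinearMap.range N) = n - 1 := hreg
    omega
  have hW' : ∀ w ∈ W, N w ∈ W := by
    intro w hw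
    have : N w = u.mulVec w - w := by
      rw [hN, Matrix.mulVecLin_apply, Matrix.sub_mulVec, Matrix.one_mulVec]
    rw [this]
    exact W.sub_mem (hW w hw) hw
  have := invariant_eq_ker_pow N hNnil hker W hW'
  rw [mulVecLin_pow]
  exact this

end Cfsg.Agent.S2573
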