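import Cfsg.Statements.S2574
import Cfsg.Agent.Lib.Helper43_RegNilpotent2

set_option autoImplicit false
open Cfsg

namespace Cfsg.Agent.S2574

open Cfsg.Agent.Lib.Helper43_RegNilpotent
open Matrix

theorem mulVecLin_pow' {F ι : Type*} [Field F] [Fintype ι] [DecidableEq ι] (A : Matrix ι ι F) (k : ℕ) :
    Matrix.mulVecLin (A ^ k) = (Matrix.mulVecLin A) ^ k := by
  induction k with
  | zero => simp [Module.End.one_eq_id]
  | succ k ih => rw [pow_succ, Matrix.mulVecLin_mul, ih, pow_succ]; rfl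

theorem result {F : Type*} [Field F] [Finite F] {m : ℕ} (u : Matrix.symplecticGroup (Fin m) F) (hnil : ((u : Matrix (Fin m ⊕ Fin m) (Fin m ⊕ Fin m) F) - 1) ^ (2 * m) = 0) (hreg : ((u : Matrix (Fin m ⊕ Fin m) (Fin m ⊕ Fin m) F) - 1).rank = 2 * m - 1) (W : Submodule F (Fin m ⊕ Fin m → F)) (hW : ∀ v ∈ W, (u : Matrix (Fin m ⊕ Fin m) (Fin m ⊕ Fin m) F).mulVec v ∈ W) (hdim : 2 * Module.finrank F W ≤ 2 * m) : ∀ v ∈ W, ∀ w ∈ W, Cfsg.sympForm m F v w = 0 := by
  classical
  set A : Matrix (Fin m ⊕ Fin m) (Fin m ⊕ Fin m) F := (u : Matrix (Fin m ⊕ Fin m) (Fin m ⊕ Fin m) F) with hA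
  set B : Matrix (Fin m ⊕ Fin m) (Fin m ⊕ Fin m) F := ((u⁻¹ : Matrix.symplecticGroup (Fin m) F) : Matrix (Fin m ⊕ Fin m) (Fin m ⊕ Fin m) F) with hB
  have hAB : A * B = 1 := by
    have := congrArg Subtype.val (mul_inv_cancel u)
    exact this
  have hBA : B * A = 1 := by
    have := congrArg Subtype.val (inv_mul_cancel u)
    exact this
  have hsymp : Aᵀ * J (Fin m) F * A = J (Fin m) F := SymplecticGroup.mem_iff'.mp u.2
  set N : Module.End F (Fin m ⊕ Fin m → F) := Matrix.mulVecLin (A - 1) with hN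
  have hfin : Module.finrank F (Fin m ⊕ Fin m → F) = 2 * m := by
    rw [Module.finrank_fintype_fun_eq_card, Fintype.card_sum, Fintype.card_fin]; ring
  have hNnil : N ^ Module.finrank F (Fin m ⊕ Fin m → F) = 0 := by
    rw [hfin, hN, ← mulVecLin_pow', hnil]
    ext; simp
  have hker : Module.finrank F (LinearMap.ker N) ≤ 1 := by
    have h1 := LinearMap.finrank_range_add_finrank_ker N
    rw [hfin] at h1
    have h2 : Module.finrank F (LinearMap.range N) = 2 * m - 1 := hreg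
    omega
  have hW' : ∀ w ∈ W, N w ∈ W := by
    intro w hw
    have : N w = A.mulVec w - w := by
      rw [hN, Matrix.mulVecLin_apply, Matrix.sub_mulVec, Matrix.one_mulVec]
    rw [this]
    exact W.sub_mem (hW w hw) hw
  set d := Module.finrank F W with hd
  have hWker : W = LinearMap.ker (N ^ d) := invariant_eq_ker_pow N hNnil hker W hW'
  have hle : LinearMap.ker (N ^ d) ≤ LinearMap.range (N ^ d) :=
    ker_pow_le_range_pow N hNnil hker d (by rw [hfin]; exact hdim)
  -- key identities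
  have hK1 : (A - 1)ᵀ * J (Fin m) F = J (Fin m) F * (B - 1) := by
    have h1 : Aᵀ * J (Fin m) F = J (Fin m) F * B := by
      calc Aᵀ * J (Fin m) F = Aᵀ * J (Fin m) F * (A * B) := by rw [hAB, mul_one]
        _ = (Aᵀ * J (Fin m) F * A) * B := by simp only [mul_assoc]
        _ = J (Fin m) F * B := by rw [hsymp]
    rw [Matrix.transpose_sub, Matrix.transpose_one, Matrix.sub_mul, Matrix.mul_sub, h1, one_mul, mul_one]
  have hK2 : ∀ k : ℕ, ((A - 1) ^ k)ᵀ * J (Fin m) F = J (Fin m) F * (B - 1) ^ k := by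
    intro k
    induction k with
    | zero => simp
    | succ k ih =>
      rw [pow_succ, Matrix.transpose_mul, mul_assoc, ih, ← mul_assoc, hK1, mul_assoc, ← pow_succ']
  have hK3 : ∀ k : ℕ, (B - 1) ^ k = (-B) ^ k * (A - 1) ^ k := by
    intro k
    have hcomm : Commute (-B) (A - 1) := by
      show -B * (A - 1) = (A - 1) * -B
      rw [Matrix.mul_sub, Matrix.sub_mul, mul_one, one_mul, Matrix.neg_mul, Matrix.mul_neg, hAB, hBA]
    have : B - 1 = -B * (A - 1) := by
      rw [Matrix.mul_sub, Matrix.neg_mul, hBA, mul_one]; abel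
    rw [this, hcomm.mul_pow]
  intro v hv w hw
  rw [hWker] at hv hw
  obtain ⟨x, rfl⟩ := hle hv
  rw [LinearMap.mem_ker, hN, ← mulVecLin_pow', Matrix.mulVecLin_apply] at hw
  rw [hN, ← mulVecLin_pow', Matrix.mulVecLin_apply]
  unfold Cfsg.sympForm
  have hzero : (B - 1) ^ d *ᵥ w = 0 := by
    rw [hK3, ← Matrix.mulVec_mulVec, hw, Matrix.mulVec_zero]
  rw [dotProduct_comm, Matrix.dotProduct_mulVec, ← Matrix.mulVec_transpose, Matrix.mulVec_mulVec,
    hK2, ← Matrix.mulVec_mulVec, hzero, Matrix.mulVec_zero, zero_dotProduct]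

end Cfsg.Agent.S2574
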