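import Cfsg.Statements.S2575

set_option autoImplicit false
open Cfsg

namespace Cfsg.Agent.S2575

/-- In a finite field of odd order `q`, `c ^ n = -1` is solvable iff `v₂(n) < v₂(q - 1)` (for `n ≥ 1`). -/
theorem exists_pow_eq_neg_one_iff {F : Type*} [Field F] [Fintype F] {q : ℕ}
    (hF : Fintype.card F = q) (hq : Odd q) {n : ℕ} (hn : 1 ≤ n) :
    (∃ c : F, c ^ n = -1) ↔ padicValNat 2 n < padicValNat 2 (q - 1) := by
  classical
  have hq1 : 1 < q := by rw [← hF]; exact Fintype.one_lt_card
  have hN0 : q - 1 ≠ 0 := by omega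
  have hne : (-1 : F) ≠ 1 := by
    intro h
    have h2 : (2 : F) = 0 := by
      have : (1 : F) + 1 = 0 := by nth_rewrite 1 [← h]; simp
      rw [← this]; norm_num
    have hchar : ringChar F = 2 := by
      have hdvd : ringChar F ∣ 2 := by
        apply (ringChar.spec F 2).mp
        exact_mod_cast h2
      have hp : (ringChar F).Prime := CharP.char_is_prime F (ringChar F)
      exact (Nat.prime_dvd_prime_iff_eq hp Nat.prime_two).mp hdvd
    have hdvd : 2 ∣ q := by
      rw [← hF, ← hchar]
      obtain ⟨k, hk⟩ := FiniteField.card F (ringChar F)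
      rw [hk.2]
      exact dvd_pow_self _ k.ne_zero
    exact (Nat.not_even_iff_odd.mpr hq) (even_iff_two_dvd.mpr hdvd)
  have hcardU : Fintype.card Fˣ = q - 1 := by rw [Fintype.card_units, hF]
  constructor
  · rintro ⟨c, hc⟩
    by_contra hlt
    rw [not_lt] at hlt
    -- 2 ^ v₂(q-1) ∣ n
    have hdvd : 2 ^ padicValNat 2 (q - 1) ∣ n := by
      have := @pow_padicValNat_dvd 2 n
      exact dvd_trans (pow_dvd_pow 2 hlt) this
    obtain ⟨N', hN'⟩ : 2 ^ padicValNat 2 (q - 1) ∣ q - 1 := pow_padicValNat_dvd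
    have hN'odd : Odd N' := by
      rw [← Nat.not_even_iff_odd]
      intro hev
      obtain ⟨t, ht⟩ := even_iff_two_dvd.mp hev
      have : 2 ^ (padicValNat 2 (q - 1) + 1) ∣ q - 1 := by
        rw [pow_succ]
        nth_rewrite 2 [hN']
        rw [ht]
        exact ⟨t, by ring⟩
      exact (pow_succ_padicValNat_not_dvd hN0) this
    have hc0 : c ≠ 0 := by
      rintro rfl
      rw [zero_pow (by omega)] at hc
      have : (1 : F) = 0 := by
        have := congrArg (fun x => -x) hc
        simpa using this.symm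
      exact one_ne_zero this
    have h1 : c ^ (n * N') = 1 := by
      obtain ⟨s, hs⟩ := hdvd
      have : n * N' = (q - 1) * s := by
        rw [hs]; nth_rewrite 2 [hN']; ring
      rw [this, pow_mul]
      have : c ^ (q - 1) = 1 := by
        rw [← hF]; exact FiniteField.pow_card_sub_one_eq_one c hc0
      rw [this, one_pow]
    have h2 : c ^ (n * N') = -1 := by
      rw [pow_mul, hc, hN'odd.neg_one_pow]
    rw [h1] at h2
    exact hne h2.symm
  · intro hlt
    set a := padicValNat 2 n with ha
    obtain ⟨n', hn'⟩ : 2 ^ a ∣ n := pow_padicValNat_dvd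
    have hn'odd : Odd n' := by
      rw [← Nat.not_even_iff_odd]
      intro hev
      obtain ⟨t, ht⟩ := even_iff_two_dvd.mp hev
      have : 2 ^ (a + 1) ∣ n := ⟨t, by rw [hn', ht]; ring⟩
      exact (pow_succ_padicValNat_not_dvd (by omega)) this
    have hdvd : 2 ^ (a + 1) ∣ q - 1 :=
      dvd_trans (pow_dvd_pow 2 hlt) pow_padicValNat_dvd
    obtain ⟨g, hg⟩ := IsCyclic.exists_ofOrder_eq_natCard (α := Fˣ)
    rw [Nat.card_eq_fintype_card, hcardU] at hg
    obtain ⟨k, hk⟩ := hdvd
    have hk0 : k ≠ 0 := by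
      rintro rfl; simp at hk; exact hN0 hk
    have hord : orderOf (g ^ k) = 2 ^ (a + 1) := by
      rw [orderOf_pow_of_dvd hk0 (by rw [hg, hk]; exact dvd_mul_left _ _), hg, hk]
      exact Nat.mul_div_cancel _ (Nat.pos_of_ne_zero hk0)
    set c : Fˣ := g ^ k with hc
    have hc2 : ((c : F) ^ 2 ^ a) ^ 2 = 1 := by
      rw [← pow_mul, ← pow_succ, ← hord]
      rw [← Units.val_pow_eq_pow_val, pow_orderOf_eq_one c, Units.val_one]
    have hc1 : ((c : F) ^ 2 ^ a) ≠ 1 := by
      intro h
      have h' : c ^ 2 ^ a = 1 := by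
        apply Units.ext; push_cast; exact h
      have := orderOf_dvd_of_pow_eq_one h'
      rw [hord] at this
      have := Nat.le_of_dvd (by positivity) this
      have : 2 ^ a < 2 ^ (a + 1) := Nat.pow_lt_pow_right (by norm_num) (by omega)
      omega
    have hcm : ((c : F) ^ 2 ^ a) = -1 := by
      rcases sq_eq_one_iff.mp hc2 with h | h
      · exact absurd h hc1
      · exact h
    refine ⟨(c : F), ?_⟩
    rw [hn', pow_mul, hcm, hn'odd.neg_one_pow]

theorem result {F : Type*} [Field F] [Fintype F] {q : ℕ} (hF : Fintype.card F = q) (hq : Odd q) {n : ℕ} (hn : 1 ≤ n) (i : ℕ) (hi : i ≤ n) : (∃ c : F, c ≠ 0 ∧ (c • Matrix.diagonal (fun j : Fin n => if (j : ℕ) < i then (-1 : F) else 1)).det = 1) ↔ (Even i ∨ padicValNat 2 n < padicValNat 2 (q - 1)) := by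
  classical
  have hdet : ∀ c : F, (c • Matrix.diagonal (fun j : Fin n => if (j : ℕ) < i then (-1 : F) else 1)).det
      = c ^ n * (-1) ^ i := by
    intro c
    rw [Matrix.det_smul, Matrix.det_diagonal, Fintype.card_fin, Finset.prod_ite]
    simp only [Finset.prod_const, one_pow, mul_one]
    congr 2
    have := @Fin.card_filter_val_lt n i
    rw [this]
    exact min_eq_right hi
  simp only [hdet]
  rw [← exists_pow_eq_neg_one_iff hF hq hn]
  constructor
  · rintro ⟨c, hc0, hc⟩
    rcases Nat.even_or_odd i with hev | hodd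
    · exact Or.inl hev
    · right
      refine ⟨c, ?_⟩
      rw [hodd.neg_one_pow] at hc
      have : c ^ n = -(c ^ n * -1) := by ring
      rw [this, hc]
  · rintro (hev | ⟨c, hc⟩)
    · exact ⟨1, one_ne_zero, by rw [hev.neg_one_pow]; simp⟩
    · rcases Nat.even_or_odd i with hev | hodd
      · exact ⟨1, one_ne_zero, by rw [hev.neg_one_pow]; simp⟩
      · refine ⟨c, ?_, ?_⟩
        · rintro rfl
          rw [zero_pow (by omega)] at hc
          have : (1 : F) = 0 := by
            have := congrArg (fun x => -x) hc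
            simpa using this.symm
          exact one_ne_zero this
        · rw [hc, hodd.neg_one_pow]; ring

end Cfsg.Agent.S2575
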