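import Cfsg.Statements.S2576

set_option autoImplicit false
open Cfsg

namespace Cfsg.Agent.S2576

theorem neg_one_ne_one {F : Type*} [Field F] [Fintype F] {q : ℕ}
    (hF : Fintype.card F = q) (hq : Odd q) : (-1 : F) ≠ 1 := by
  classical
  intro h
  have h2 : (2 : F) = 0 := by
    have : (1 : F) + 1 = 0 := by nth_rewrite 1 [← h]; simp
    rw [← this]; norm_num
  have hchar : ringChar F = 2 := by
    have hdvd : ringChar F ∣ 2 := by
      apply (ringChar.spec F 2).mp
      exact_mod_cast h2
    have hp : (ringChar F).Prime := CharP.char_is_prime F (ringChar F)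
    exact (Nat.prime_dvd_prime_iff_eq hp Nat.prime_two).mp hdvd
  have hdvd : 2 ∣ q := by
    rw [← hF, ← hchar]
    obtain ⟨k, hk⟩ := FiniteField.card F (ringChar F)
    rw [hk.2]
    exact dvd_pow_self _ k.ne_zero
  exact (Nat.not_even_iff_odd.mpr hq) (even_iff_two_dvd.mpr hdvd)

theorem result {F : Type*} [Field F] [Fintype F] {q : ℕ} (hF : Fintype.card F = q) (hq : Odd q) {m : ℕ} (hm : 1 ≤ m) (μ : F) (hμ : orderOf μ = 2 ^ padicValNat 2 (q - 1)) : (∃ c : F, c ≠ 0 ∧ (c • Matrix.blockDiagonal (fun _ : Fin m => !![(0 : F), 1; μ, 0])).det = 1) ↔ (q % 4 = 3 ∨ padicValNat 2 (q - 1) < padicValNat 2 (2 * m)) := by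
  classical
  have hne := neg_one_ne_one hF hq
  have hq1 : 1 < q := by rw [← hF]; exact Fintype.one_lt_card
  have hN0 : q - 1 ≠ 0 := by omega
  have hdet : ∀ c : F, (c • Matrix.blockDiagonal (fun _ : Fin m => !![(0 : F), 1; μ, 0])).det
      = c ^ (2 * m) * (-μ) ^ m := by
    intro c
    rw [Matrix.det_smul, Matrix.det_blockDiagonal]
    simp [Matrix.det_fin_two_of]
  simp only [hdet]
  set b := padicValNat 2 (q - 1) with hb
  obtain ⟨N', hN'⟩ : 2 ^ b ∣ q - 1 := pow_padicValNat_dvd
  have hN'odd : Odd N' := by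
    rw [← Nat.not_even_iff_odd]
    intro hev
    obtain ⟨t, ht⟩ := even_iff_two_dvd.mp hev
    have : 2 ^ (b + 1) ∣ q - 1 := ⟨t, by rw [hN', ht]; ring⟩
    exact (pow_succ_padicValNat_not_dvd hN0) this
  have hb1 : 1 ≤ b := by
    have : 2 ^ 1 ∣ q - 1 := by
      obtain ⟨k, hk⟩ := hq
      exact ⟨k, by omega⟩
    exact (padicValNat_dvd_iff_le hN0).mp this
  have hv2m : padicValNat 2 (2 * m) = padicValNat 2 m + 1 := by
    rw [padicValNat.mul (by norm_num) (by omega), padicValNat_self, add_comm]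
  set a := padicValNat 2 m with ha
  obtain ⟨m', hm'⟩ : 2 ^ a ∣ m := pow_padicValNat_dvd
  have hm'odd : Odd m' := by
    rw [← Nat.not_even_iff_odd]
    intro hev
    obtain ⟨t, ht⟩ := even_iff_two_dvd.mp hev
    have : 2 ^ (a + 1) ∣ m := ⟨t, by rw [hm', ht]; ring⟩
    exact (pow_succ_padicValNat_not_dvd (by omega)) this
  have hμpow : μ ^ 2 ^ b = 1 := by rw [← hμ]; exact pow_orderOf_eq_one μ
  -- μ ^ 2^(b-1) = -1
  have hμhalf : μ ^ 2 ^ (b - 1) = -1 := by
    have h2 : (μ ^ 2 ^ (b - 1)) ^ 2 = 1 := by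
      rw [← pow_mul, ← pow_succ, Nat.sub_add_cancel hb1, hμpow]
    have h1 : μ ^ 2 ^ (b - 1) ≠ 1 := by
      intro h
      have := orderOf_dvd_of_pow_eq_one h
      rw [hμ] at this
      have := Nat.le_of_dvd (by positivity) this
      have : 2 ^ (b - 1) < 2 ^ b := Nat.pow_lt_pow_right (by norm_num) (by omega)
      omega
    rcases sq_eq_one_iff.mp h2 with h | h
    · exact absurd h h1
    · exact h
  rw [hv2m]
  by_cases hq4 : q % 4 = 3
  · -- b = 1, μ = -1
    have hb_eq : b = 1 := by
      apply le_antisymm _ hb1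
      by_contra hlt
      rw [not_le] at hlt
      have : 2 ^ 2 ∣ q - 1 := (padicValNat_dvd_iff_le hN0).mpr hlt
      omega
    have hμ1 : μ = -1 := by
      rw [hb_eq] at hμhalf
      simpa using hμhalf
    constructor
    · intro _; exact Or.inl hq4
    · intro _
      exact ⟨1, one_ne_zero, by rw [hμ1]; simp⟩
  · have hb2 : 2 ≤ b := by
      have : 2 ^ 2 ∣ q - 1 := by
        obtain ⟨k, hk⟩ := hq
        have : q % 4 = 1 := by omega
        exact ⟨q / 4, by omega⟩
      exact (padicValNat_dvd_iff_le hN0).mp this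
    constructor
    · rintro ⟨c, hc0, hc⟩
      right
      by_contra hlt
      have hab : a < b := by omega
      -- K = 2^(b-a-1) * N'
      set K := 2 ^ (b - a - 1) * N' with hK
      have h1 : (c ^ (2 * m) * (-μ) ^ m) ^ K = 1 := by rw [hc, one_pow]
      have hcK : (c ^ (2 * m)) ^ K = 1 := by
        have : 2 * m * K = (q - 1) * m' := by
          rw [hK, hm', hN']
          have : b = (b - a - 1) + a + 1 := by omega
          nth_rewrite 2 [this]
          ring
        rw [← pow_mul, this, pow_mul]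
        have : c ^ (q - 1) = 1 := by
          rw [← hF]; exact FiniteField.pow_card_sub_one_eq_one c hc0
        rw [this, one_pow]
      have hmK : m * K = 2 ^ (b - 1) * (m' * N') := by
        rw [hK, hm']
        have : b - 1 = (b - a - 1) + a := by omega
        rw [this]
        ring
      have hμK : ((-μ) ^ m) ^ K = -1 := by
        rw [← pow_mul, hmK, neg_pow, pow_mul μ, hμhalf, (hm'odd.mul hN'odd).neg_one_pow]
        have : Even (2 ^ (b - 1) * (m' * N')) := by
          apply Even.mul_right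
          exact (Nat.even_pow.mpr ⟨even_two, by omega⟩)
        rw [this.neg_one_pow, one_mul]
      rw [mul_pow, hcK, hμK, one_mul] at h1
      exact hne h1
    · rintro (h | hlt)
      · exact absurd h hq4
      · have hba : b ≤ a := by omega
        refine ⟨1, one_ne_zero, ?_⟩
        obtain ⟨s, hs⟩ : 2 ^ b ∣ m := dvd_trans (pow_dvd_pow 2 hba) ⟨m', hm'⟩
        have hev : Even m := by
          rw [hs]; apply Even.mul_right
          exact (Nat.even_pow.mpr ⟨even_two, by omega⟩)
        rw [one_pow, one_mul, neg_pow, hev.neg_one_pow, one_mul, hs, pow_mul, hμpow, one_pow]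

end Cfsg.Agent.S2576
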