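import Mathlib
import Cfsg.Statements.S2577
import Cfsg.Agent.Lib.Helper40_PGLInvol
import Cfsg.Agent.Lib.Helper40_PGLBasic
import Cfsg.Agent.Lib.Helper40_ClassCount

set_option autoImplicit false
open Cfsg

namespace Cfsg.Agent.S2577

open Matrix Cfsg.Agent.Lib.Helper40_PGLInvol Cfsg.Agent.Lib.Helper40_PGLBasic

/-- two nonsquares of a finite field of odd order differ by a square -/
theorem exists_sq_mul {F : Type*} [Field F] [Fintype F] (z w : F)
    (hz : ¬ IsSquare z) (hw : ¬ IsSquare w) : ∃ m : F, m ≠ 0 ∧ (m * m) * w = z := by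
  classical
  have hz0 : z ≠ 0 := by rintro rfl; exact hz ⟨0, by rw [mul_zero]⟩
  have hw0 : w ≠ 0 := by rintro rfl; exact hw ⟨0, by rw [mul_zero]⟩
  have h1 : quadraticChar F (z * w) = 1 := by
    rw [map_mul, quadraticChar_neg_one_iff_not_isSquare.2 hz,
      quadraticChar_neg_one_iff_not_isSquare.2 hw]
    norm_num
  obtain ⟨s, hs⟩ := (quadraticChar_one_iff_isSquare (mul_ne_zero hz0 hw0)).1 h1
  have hs0 : s ≠ 0 := by
    rintro rfl
    rw [mul_zero] at hs
    exact mul_ne_zero hz0 hw0 hs
  refine ⟨s / w, div_ne_zero hs0 hw0, ?_⟩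
  field_simp
  rw [sq, ← hs]
  ring

/-- Number of conjugacy classes of involutions in PGL_n(q) for q odd and n ≥ 2: there are ⌊n/2⌋ classes represented by diagonal matrices with i entries −1 (1 ≤ i ≤ n/2) and, when n is even, one more class represented by a block-diagonal matrix of 2 × 2 blocks [[0, 1], [μ, 0]] with μ a non-square (a matrix squaring to a scalar but having no eigenvalue in the field); in all ⌊n/2⌋ + 1 classes if n is even and ⌊n/2⌋ if n is odd. -/
theorem result {F : Type*} [Field F] [Fintype F] {q : ℕ} (hF : Fintype.card F = q) (hq : Odd q) {n : ℕ} (hn : 2 ≤ n) : Nat.card {C : ConjClasses (GL (Fin n) F ⧸ Subgroup.center (GL (Fin n) F)) // ∃ g : GL (Fin n) F ⧸ Subgroup.center (GL (Fin n) F), ConjClasses.mk g = C ∧ orderOf g = 2} = n / 2 + (if Even n then 1 else 0) := by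
  classical
  have hn0 : 0 < n := by omega
  have hchar : ringChar F ≠ 2 := by
    intro h
    rw [FiniteField.even_card_iff_char_two, hF] at h
    rcases hq with ⟨m, hm⟩
    omega
  have h2 : (2 : F) ≠ 0 := Ring.two_ne_zero hchar
  -- the invariant on `GL` and on `PGL`
  let χ : GL (Fin n) F ⧸ Subgroup.center (GL (Fin n) F) → ℕ :=
    fun x => nu ((x.out : GL (Fin n) F) : Matrix (Fin n) (Fin n) F)
  have key : ∀ g h : GL (Fin n) F,
      IsConj (QuotientGroup.mk g : GL (Fin n) F ⧸ Subgroup.center (GL (Fin n) F))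
        (QuotientGroup.mk h) →
      nu (g : Matrix (Fin n) (Fin n) F) = nu (h : Matrix (Fin n) (Fin n) F) := by
    intro g h hc
    obtain ⟨p, c, hc0, hpc⟩ := (isConj_mk_iff hn0 g h).1 hc
    have hg : (g : Matrix (Fin n) (Fin n) F) =
        ((p⁻¹ : GL (Fin n) F) : Matrix (Fin n) (Fin n) F) *
          (c • (h : Matrix (Fin n) (Fin n) F)) * (p : Matrix (Fin n) (Fin n) F) := by
      rw [Matrix.mul_assoc, Matrix.smul_mul, ← hpc, ← Matrix.mul_assoc, ← Units.val_mul,
        inv_mul_cancel, Units.val_one, Matrix.one_mul]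
    rw [hg, nu_conj _ _ _ (by rw [← Units.val_mul, inv_mul_cancel, Units.val_one])
      (by rw [← Units.val_mul, mul_inv_cancel, Units.val_one]), nu_smul _ _ hc0]
  have hχmk : ∀ g : GL (Fin n) F, χ (QuotientGroup.mk g) = nu (g : Matrix (Fin n) (Fin n) F) := by
    intro g
    apply key
    rw [QuotientGroup.out_eq']
  -- facts on elements of order two
  have hord : ∀ g : GL (Fin n) F,
      orderOf (QuotientGroup.mk g : GL (Fin n) F ⧸ Subgroup.center (GL (Fin n) F)) = 2 →
      ∃ z : F, z ≠ 0 ∧ (g : Matrix (Fin n) (Fin n) F) * (g : Matrix (Fin n) (Fin n) F) =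
        z • (1 : Matrix (Fin n) (Fin n) F) ∧
        ∀ c : F, (g : Matrix (Fin n) (Fin n) F) ≠ c • (1 : Matrix (Fin n) (Fin n) F) := by
    intro g hg
    obtain ⟨⟨z, hz⟩, hns⟩ := (orderOf_mk_eq_two_iff g).1 hg
    refine ⟨z, ?_, hz, fun c hc => hns ⟨c, hc⟩⟩
    rintro rfl
    rw [zero_smul, ← Units.val_mul] at hz
    exact val_ne_zero hn0 _ hz
  rw [Cfsg.Agent.Lib.Helper40_ClassCount.card_classes_eq
    (G := GL (Fin n) F ⧸ Subgroup.center (GL (Fin n) F)) (fun x => orderOf x = 2) χ
    {k : ℕ | (1 ≤ k ∧ 2 * k ≤ n) ∨ (k = 0 ∧ Even n)}]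
  · -- cardinality of the set of values
    by_cases he : Even n
    · rw [if_pos he]
      have hT : {k : ℕ | (1 ≤ k ∧ 2 * k ≤ n) ∨ (k = 0 ∧ Even n)} =
          ↑(Finset.range (n / 2 + 1)) := by
        ext k
        simp only [Set.mem_ofPred_eq, Finset.coe_range, Set.mem_Iio]
        constructor
        · rintro (⟨_, h⟩ | ⟨rfl, _⟩) <;> omega
        · intro h
          rcases Nat.eq_zero_or_pos k with rfl | hk
          · exact Or.inr ⟨rfl, he⟩
          · exact Or.inl ⟨hk, by omega⟩
      rw [hT, _root_.Nat.card_coe_set_eq, Set.ncard_coe_finset, Finset.card_range]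
    · rw [if_neg he]
      have hT : {k : ℕ | (1 ≤ k ∧ 2 * k ≤ n) ∨ (k = 0 ∧ Even n)} =
          ↑(Finset.Icc 1 (n / 2)) := by
        ext k
        simp only [Set.mem_ofPred_eq, Finset.coe_Icc, Set.mem_Icc]
        constructor
        · rintro (⟨h1, h⟩ | ⟨_, h⟩)
          · exact ⟨h1, by omega⟩
          · exact absurd h he
        · rintro ⟨h1, h⟩
          exact Or.inl ⟨h1, by omega⟩
      rw [hT, _root_.Nat.card_coe_set_eq, Set.ncard_coe_finset, Nat.card_Icc]
      omega
  · -- class function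
    intro x y hxy
    rw [← QuotientGroup.out_eq' x, ← QuotientGroup.out_eq' y] at hxy
    exact key _ _ hxy
  · -- separation
    intro x y hx hy hxy
    obtain ⟨g, rfl⟩ := QuotientGroup.mk_surjective x
    obtain ⟨h, rfl⟩ := QuotientGroup.mk_surjective y
    rw [hχmk, hχmk] at hxy
    obtain ⟨z, hz0, hz, hgns⟩ := hord g hx
    obtain ⟨w, hw0, hw, hhns⟩ := hord h hy
    rw [isConj_mk_iff hn0]
    by_cases hzs : IsSquare z
    · obtain ⟨l, rfl⟩ := hzs
      have hl : l ≠ 0 := by rintro rfl; exact hz0 (mul_zero 0)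
      have hb := nu_bounds _ l hl h2 hz hgns
      by_cases hws : IsSquare w
      · obtain ⟨l', rfl⟩ := hws
        have hl' : l' ≠ 0 := by rintro rfl; exact hw0 (mul_zero 0)
        set m : F := l / l' with hm
        have hm0 : m ≠ 0 := div_ne_zero hl hl'
        have hH' : (m • (h : Matrix (Fin n) (Fin n) F)) * (m • (h : Matrix (Fin n) (Fin n) F)) =
            (l * l) • (1 : Matrix (Fin n) (Fin n) F) := by
          rw [Matrix.smul_mul, Matrix.mul_smul, hw, smul_smul, smul_smul]
          congr 1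
          rw [hm]
          field_simp
        have hnu' : nu (m • (h : Matrix (Fin n) (Fin n) F)) = nu (g : Matrix (Fin n) (Fin n) F) := by
          rw [nu_smul _ _ hm0, hxy]
        rw [nu_eq _ l hl hH', nu_eq _ l hl hz] at hnu'
        have hadd := eigDim_add _ l hl h2 hz
        have hadd' := eigDim_add _ l hl h2 hH'
        have hcases : (eigDim (g : Matrix (Fin n) (Fin n) F) l =
              eigDim (m • (h : Matrix (Fin n) (Fin n) F)) l ∧
            eigDim (g : Matrix (Fin n) (Fin n) F) (-l) =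
              eigDim (m • (h : Matrix (Fin n) (Fin n) F)) (-l)) ∨
            (eigDim (g : Matrix (Fin n) (Fin n) F) l =
              eigDim (m • (h : Matrix (Fin n) (Fin n) F)) (-l) ∧
            eigDim (g : Matrix (Fin n) (Fin n) F) (-l) =
              eigDim (m • (h : Matrix (Fin n) (Fin n) F)) l) := by
          rcases Nat.le_total (eigDim (g : Matrix (Fin n) (Fin n) F) l)
            (eigDim (g : Matrix (Fin n) (Fin n) F) (-l)) with h1 | h1 <;>
          rcases Nat.le_total (eigDim (m • (h : Matrix (Fin n) (Fin n) F)) l)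
            (eigDim (m • (h : Matrix (Fin n) (Fin n) F)) (-l)) with h3 | h3
          · rw [min_eq_left h1, min_eq_left h3] at hnu'; left; omega
          · rw [min_eq_left h1, min_eq_right h3] at hnu'; right; omega
          · rw [min_eq_right h1, min_eq_left h3] at hnu'; right; omega
          · rw [min_eq_right h1, min_eq_right h3] at hnu'; left; omega
        rcases hcases with ⟨hp, hmm⟩ | ⟨hp, hmm⟩
        · obtain ⟨P, hP⟩ := exists_GL_conj_of_eigDim _ _ l hl h2 hz hH' hp hmm
          exact ⟨P, m, hm0, by rw [hP, Matrix.smul_mul]⟩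
        · have hH'' : (-(m • (h : Matrix (Fin n) (Fin n) F))) *
              (-(m • (h : Matrix (Fin n) (Fin n) F))) =
              (l * l) • (1 : Matrix (Fin n) (Fin n) F) := by
            rw [neg_mul_neg, hH']
          obtain ⟨P, hP⟩ := exists_GL_conj_of_eigDim _ _ l hl h2 hz hH''
            (by rw [eigDim_neg, hp]) (by rw [eigDim_neg, neg_neg, hmm])
          exact ⟨P, -m, neg_ne_zero.2 hm0, by rw [hP, Matrix.neg_mul, neg_smul, Matrix.smul_mul]⟩
      · exfalso
        have := nu_of_nonsquare hn0 _ w hws hw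
        omega
    · have hg0 := nu_of_nonsquare hn0 _ z hzs hz
      by_cases hws : IsSquare w
      · exfalso
        obtain ⟨l', rfl⟩ := hws
        have hl' : l' ≠ 0 := by rintro rfl; exact hw0 (mul_zero 0)
        have hb := nu_bounds _ l' hl' h2 hw hhns
        omega
      · obtain ⟨m, hm0, hmz⟩ := exists_sq_mul z w hzs hws
        have hH' : (m • (h : Matrix (Fin n) (Fin n) F)) * (m • (h : Matrix (Fin n) (Fin n) F)) =
            z • (1 : Matrix (Fin n) (Fin n) F) := by
          rw [Matrix.smul_mul, Matrix.mul_smul, hw, smul_smul, smul_smul, hmz]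
        obtain ⟨P, hP⟩ := exists_GL_conj_of_nonsquare _ _ z hzs hz hH'
        exact ⟨P, m, hm0, by rw [hP, Matrix.smul_mul]⟩
  · -- the set of values
    intro k
    simp only [Set.mem_ofPred_eq]
    constructor
    · rintro (⟨hk1, hk2⟩ | ⟨rfl, he⟩)
      · obtain ⟨D, hDD, hDns, hDnu⟩ := exists_diag (F := F) (n := n) k hk1 hk2 h2
        refine ⟨QuotientGroup.mk (⟨D, D, hDD, hDD⟩ : GL (Fin n) F), ?_, ?_⟩
        · rw [orderOf_mk_eq_two_iff]
          refine ⟨⟨1, ?_⟩, ?_⟩
          · show D * D = _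
            rw [hDD, one_smul]
          · rintro ⟨c, hc⟩
            exact hDns c hc
        · rw [hχmk]
          exact hDnu
      · obtain ⟨z, hz⟩ := FiniteField.exists_nonsquare hchar
        have hz0 : z ≠ 0 := by rintro rfl; exact hz ⟨0, by rw [mul_zero]⟩
        obtain ⟨A, hA⟩ := exists_sq_eq (F := F) (n := n) he z
        have hAi : A * (z⁻¹ • A) = 1 := by
          rw [Matrix.mul_smul, hA, smul_smul, inv_mul_cancel₀ hz0, one_smul]
        have hAi' : (z⁻¹ • A) * A = 1 := by
          rw [Matrix.smul_mul, hA, smul_smul, inv_mul_cancel₀ hz0, one_smul]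
        refine ⟨QuotientGroup.mk (⟨A, z⁻¹ • A, hAi, hAi'⟩ : GL (Fin n) F), ?_, ?_⟩
        · rw [orderOf_mk_eq_two_iff]
          refine ⟨⟨z, hA⟩, ?_⟩
          rintro ⟨c, hc⟩
          change A = _ at hc
          apply hz
          refine ⟨c, ?_⟩
          apply smul_one_inj hn0
          rw [← hA, hc, Matrix.smul_mul, Matrix.mul_smul, Matrix.one_mul, smul_smul]
        · rw [hχmk]
          exact nu_of_nonsquare hn0 A z hz hA
    · rintro ⟨x, hx, rfl⟩
      obtain ⟨g, rfl⟩ := QuotientGroup.mk_surjective x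
      rw [hχmk]
      obtain ⟨z, hz0, hz, hgns⟩ := hord g hx
      by_cases hzs : IsSquare z
      · obtain ⟨l, rfl⟩ := hzs
        have hl : l ≠ 0 := by rintro rfl; exact hz0 (mul_zero 0)
        exact Or.inl (nu_bounds _ l hl h2 hz hgns)
      · exact Or.inr ⟨nu_of_nonsquare hn0 _ z hzs hz, even_of_nonsquare _ z hzs hz⟩

end Cfsg.Agent.S2577
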