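import Cfsg.Statements.S2578
import Cfsg.Agent.Lib.Helper43_RegUnipotent

set_option autoImplicit false
open Cfsg

namespace Cfsg.Agent.S2578

open Matrix
open Cfsg.Agent.Lib.Helper43_RegUnipotent

theorem result {F : Type*} [Field F] [Fintype F] {q : ℕ} (hF : Fintype.card F = q) {n : ℕ} (hn : 2 ≤ n) : Nat.card {C : ConjClasses (Matrix.SpecialLinearGroup (Fin n) F) // ∃ u : Matrix.SpecialLinearGroup (Fin n) F, ConjClasses.mk u = C ∧ ((u : Matrix (Fin n) (Fin n) F) - 1) ^ n = 0 ∧ ((u : Matrix (Fin n) (Fin n) F) - 1).rank = n - 1} = Nat.gcd n (q - 1) := by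
  classical
  have hn1 : 1 ≤ n := by omega
  have : Nonempty (Fin n) := ⟨⟨0, by omega⟩⟩
  obtain ⟨M₀, hM₀⟩ := exists_reg (F := F) hn1
  let u₀ : Matrix.SpecialLinearGroup (Fin n) F := ⟨M₀, hM₀.det_eq_one⟩
  let ι : Matrix.SpecialLinearGroup (Fin n) F →* GL (Fin n) F := Matrix.SpecialLinearGroup.toGL
  have hι_inj : Function.Injective ι := Matrix.SpecialLinearGroup.toGL_injective
  have hι_val : ∀ u : Matrix.SpecialLinearGroup (Fin n) F, ((ι u : GL (Fin n) F) : Matrix (Fin n) (Fin n) F) = u.val :=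
    fun u => rfl
  have hι_det : ∀ u : Matrix.SpecialLinearGroup (Fin n) F, Matrix.GeneralLinearGroup.det (ι u) = 1 :=
    fun u => Matrix.SpecialLinearGroup.coeToGL_det u
  set U₀ : GL (Fin n) F := ι u₀ with hU₀
  let P : Subgroup Fˣ := (powMonoidHom n : Fˣ →* Fˣ).range
  -- centraliser fact
  have hZ : ∀ z : GL (Fin n) F, z * U₀ = U₀ * z → Matrix.GeneralLinearGroup.det z ∈ P := by
    intro z hz
    have hzm : (z : Matrix (Fin n) (Fin n) F) * M₀ = M₀ * (z : Matrix (Fin n) (Fin n) F) := by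
      have := congrArg Units.val hz
      rw [Units.val_mul, Units.val_mul] at this
      exact this
    obtain ⟨c, hc⟩ := hM₀.det_centralizer hn1 _ hzm
    have hc0 : c ≠ 0 := by
      rintro rfl
      rw [zero_pow (by omega)] at hc
      exact Matrix.GeneralLinearGroup.det_ne_zero z hc
    refine ⟨Units.mk0 c hc0, ?_⟩
    apply Units.ext
    rw [powMonoidHom_apply, Units.val_pow_eq_pow_val, Units.val_mk0, ← hc]
    rfl
  -- the relation
  let R : Matrix.SpecialLinearGroup (Fin n) F → Fˣ → Prop := fun u a =>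
    ∃ g : GL (Fin n) F, Matrix.GeneralLinearGroup.det g = a ∧ g * U₀ = ι u * g
  have hreg_iff : ∀ u : Matrix.SpecialLinearGroup (Fin n) F,
      (((u : Matrix (Fin n) (Fin n) F) - 1) ^ n = 0 ∧ ((u : Matrix (Fin n) (Fin n) F) - 1).rank = n - 1) ↔ Reg u.val :=
    fun u => Iff.rfl
  have hR1 : ∀ u : Matrix.SpecialLinearGroup (Fin n) F, Reg u.val → ∃ a, R u a := by
    intro u hu
    obtain ⟨g, hg⟩ := hM₀.exists_conj hu hn1
    refine ⟨Matrix.GeneralLinearGroup.det g, g, rfl, ?_⟩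
    apply Units.ext
    rw [Units.val_mul, Units.val_mul]
    exact hg
  have hR6 : ∀ u a, R u a → Reg u.val := by
    rintro u a ⟨g, -, hg⟩
    have := congrArg Units.val hg
    rw [Units.val_mul, Units.val_mul] at this
    exact hM₀.conj g this
  have hswap : ∀ (g : GL (Fin n) F) (u : Matrix.SpecialLinearGroup (Fin n) F),
      g * U₀ = ι u * g → g⁻¹ * ι u = U₀ * g⁻¹ := by
    intro g u hg
    have : ι u = g * U₀ * g⁻¹ := by rw [eq_mul_inv_iff_mul_eq]; exact hg.symm
    rw [this]; group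
  have hR2 : ∀ u a a', R u a → R u a' → (QuotientGroup.mk a : Fˣ ⧸ P) = QuotientGroup.mk a' := by
    rintro u a a' ⟨g, hga, hg⟩ ⟨g', hga', hg'⟩
    rw [QuotientGroup.eq]
    have hz : (g⁻¹ * g') * U₀ = U₀ * (g⁻¹ * g') := by
      rw [mul_assoc, hg', ← mul_assoc, hswap g u hg, mul_assoc]
    have := hZ _ hz
    rwa [map_mul, map_inv, hga, hga'] at this
  have hR4 : ∀ u u' a, R u a → IsConj u u' → R u' a := by
    rintro u u' a ⟨g, hga, hg⟩ hconj
    obtain ⟨s, hs⟩ := isConj_iff.mp hconj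
    refine ⟨ι s * g, ?_, ?_⟩
    · rw [map_mul, hι_det, one_mul, hga]
    · rw [mul_assoc, hg, ← hs, map_mul, map_mul, map_inv]
      group
  have hR3 : ∀ u u' a a', R u a → R u' a' →
      (QuotientGroup.mk a : Fˣ ⧸ P) = QuotientGroup.mk a' → IsConj u u' := by
    rintro u u' a a' ⟨g, hga, hg⟩ ⟨g', hga', hg'⟩ hq
    rw [QuotientGroup.eq] at hq
    obtain ⟨c, hc⟩ := hq
    rw [powMonoidHom_apply] at hc
    let sc : GL (Fin n) F := Matrix.GeneralLinearGroup.scalar (Fin n) c⁻¹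
    have hsc : ∀ A : GL (Fin n) F, sc * A = A * sc := fun A =>
      Matrix.GeneralLinearGroup.scalar_commute c⁻¹ A
    let h : GL (Fin n) F := g' * sc * g⁻¹
    have hdet : Matrix.GeneralLinearGroup.det h = 1 := by
      show Matrix.GeneralLinearGroup.det (g' * sc * g⁻¹) = 1
      rw [map_mul, map_mul, map_inv, hga, hga', Matrix.GeneralLinearGroup.det_scalar,
        Fintype.card_fin, inv_pow, hc]
      group
    have hconj : h * ι u = ι u' * h := by
      show g' * sc * g⁻¹ * ι u = ι u' * (g' * sc * g⁻¹)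
      rw [mul_assoc (g' * sc), hswap g u hg, mul_assoc g', ← mul_assoc sc, hsc U₀, ← mul_assoc g',
        ← mul_assoc g', hg']
      simp only [mul_assoc]
    have hdet' : (h : Matrix (Fin n) (Fin n) F).det = 1 := by
      have := congrArg Units.val hdet
      exact this
    let s : Matrix.SpecialLinearGroup (Fin n) F := ⟨(h : Matrix (Fin n) (Fin n) F), hdet'⟩
    have hs : ι s = h := Units.ext rfl
    rw [isConj_iff]
    refine ⟨s, ?_⟩
    rw [mul_inv_eq_iff_eq_mul]
    apply hι_inj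
    rw [map_mul, map_mul, hs]
    exact hconj
  have hR5 : ∀ a : Fˣ, ∃ u, R u a := by
    intro a
    obtain ⟨g, hg⟩ := Matrix.GeneralLinearGroup.det_surjective (n := Fin n) (R := F) a
    have hdet : ((g * U₀ * g⁻¹ : GL (Fin n) F) : Matrix (Fin n) (Fin n) F).det = 1 := by
      have h1 : Matrix.GeneralLinearGroup.det (g * U₀ * g⁻¹) = 1 := by
        rw [map_mul, map_mul, map_inv, hU₀, hι_det, mul_one, mul_inv_cancel]
      exact congrArg Units.val h1
    let u : Matrix.SpecialLinearGroup (Fin n) F := ⟨((g * U₀ * g⁻¹ : GL (Fin n) F) : Matrix (Fin n) (Fin n) F), hdet⟩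
    have hu : ι u = g * U₀ * g⁻¹ := Units.ext rfl
    refine ⟨u, g, hg, ?_⟩
    rw [hu]; group
  -- the invariant
  let θ' : Matrix.SpecialLinearGroup (Fin n) F → Fˣ ⧸ P := fun u =>
    if h : ∃ a, R u a then (QuotientGroup.mk (Classical.choose h) : Fˣ ⧸ P) else 1
  have hθ1 : ∀ u a, R u a → θ' u = QuotientGroup.mk a := by
    intro u a hua
    have h : ∃ a, R u a := ⟨a, hua⟩
    simp only [θ', dif_pos h]
    exact hR2 u _ _ (Classical.choose_spec h) hua
  have hθ2 : ∀ u u', IsConj u u' → θ' u = θ' u' := by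
    intro u u' hconj
    by_cases h : ∃ a, R u a
    · obtain ⟨a, ha⟩ := h
      rw [hθ1 u a ha, hθ1 u' a (hR4 u u' a ha hconj)]
    · have h' : ¬ ∃ a, R u' a := by
        rintro ⟨a, ha⟩
        exact h ⟨a, hR4 u' u a ha hconj.symm⟩
      simp only [θ', dif_neg h, dif_neg h']
  let θ : ConjClasses (Matrix.SpecialLinearGroup (Fin n) F) → Fˣ ⧸ P :=
    Quotient.lift θ' (fun u u' (h : IsConj u u') => hθ2 u u' h)
  have hθmk : ∀ u, θ (ConjClasses.mk u) = θ' u := fun u => rfl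
  let Θ : {C : ConjClasses (Matrix.SpecialLinearGroup (Fin n) F) // ∃ u : Matrix.SpecialLinearGroup (Fin n) F, ConjClasses.mk u = C ∧ ((u : Matrix (Fin n) (Fin n) F) - 1) ^ n = 0 ∧ ((u : Matrix (Fin n) (Fin n) F) - 1).rank = n - 1} → Fˣ ⧸ P :=
    fun C => θ C.1
  have hΘ : Function.Bijective Θ := by
    constructor
    · rintro ⟨C, u, rfl, hu⟩ ⟨C', u', rfl, hu'⟩ hCC'
      apply Subtype.ext
      show ConjClasses.mk u = ConjClasses.mk u'
      obtain ⟨a, ha⟩ := hR1 u ((hreg_iff u).mp hu)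
      obtain ⟨a', ha'⟩ := hR1 u' ((hreg_iff u').mp hu')
      have h1 : θ' u = θ' u' := hCC'
      rw [hθ1 u a ha, hθ1 u' a' ha'] at h1
      exact ConjClasses.mk_eq_mk_iff_isConj.mpr (hR3 u u' a a' ha ha' h1)
    · intro x
      obtain ⟨a, rfl⟩ := QuotientGroup.mk_surjective x
      obtain ⟨u, hu⟩ := hR5 a
      refine ⟨⟨ConjClasses.mk u, u, rfl, (hreg_iff u).mpr (hR6 u a hu)⟩, ?_⟩
      show θ' u = _
      exact hθ1 u a hu
  rw [Nat.card_eq_of_bijective Θ hΘ]
  have hidx : P.index = (Nat.card Fˣ).gcd n := IsCyclic.index_powMonoidHom_range Fˣ n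
  have hcardU : Nat.card Fˣ = q - 1 := by
    rw [Nat.card_eq_fintype_card, Fintype.card_units, hF]
  rw [← Subgroup.index_eq_card, hidx, hcardU, Nat.gcd_comm]

end Cfsg.Agent.S2578
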