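import Cfsg.Statements.S2581
import Cfsg.Agent.Lib.Helper43_UnipCent3
import Cfsg.Agent.Lib.Helper43_JordanMatrix

set_option autoImplicit false
open Cfsg

namespace Cfsg.Agent.S2581

open Matrix Module
open Cfsg.Agent.Lib.Helper43_Jordan Cfsg.Agent.Lib.Helper43_UnipCent
open Cfsg.Agent.Lib.Helper43_JordanMatrix

/-- the number of blocks of a given size -/
def cnt {t : ℕ} (d : Fin t → ℕ) (i : ℕ) : ℕ := (Finset.univ.filter (fun k : Fin t => d k = i)).card

theorem cnt_zero {t : ℕ} (d : Fin t → ℕ) (hd : ∀ k, 1 ≤ d k) : cnt d 0 = 0 := by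
  unfold cnt
  rw [Finset.card_eq_zero, Finset.filter_eq_empty_iff]
  intro k _ hk
  have := hd k
  omega

theorem cnt_eq_zero {t : ℕ} (d : Fin t → ℕ) (i : ℕ) (hi : i ∉ Finset.univ.image d) :
    cnt d i = 0 := by
  unfold cnt
  rw [Finset.card_eq_zero, Finset.filter_eq_empty_iff]
  intro k _ hk
  exact hi (Finset.mem_image.2 ⟨k, Finset.mem_univ k, hk⟩)

theorem image_subset_range {t : ℕ} (d : Fin t → ℕ) :
    Finset.univ.image d ⊆ Finset.range (Finset.univ.sup d + 1) := by
  intro a ha
  obtain ⟨k, -, rfl⟩ := Finset.mem_image.1 ha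
  rw [Finset.mem_range]
  have : d k ≤ Finset.univ.sup d := Finset.le_sup (Finset.mem_univ k)
  omega

theorem sum_fiber {t : ℕ} (d : Fin t → ℕ) (f : ℕ → ℕ) :
    ∑ k, f (d k) = ∑ i ∈ Finset.range (Finset.univ.sup d + 1), cnt d i * f i := by
  have hmaps : ∀ k ∈ (Finset.univ : Finset (Fin t)), d k ∈ Finset.range (Finset.univ.sup d + 1) :=
    fun k _ => image_subset_range d (Finset.mem_image.2 ⟨k, Finset.mem_univ k, rfl⟩)
  rw [← Finset.sum_fiberwise_of_maps_to' hmaps f]
  apply Finset.sum_congr rfl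
  intro i _
  rw [Finset.sum_const, smul_eq_mul]
  rfl

theorem prod_blockIdx {t : ℕ} (d : Fin t → ℕ) (f : ℕ → ℕ) (hf : f 0 = 1) :
    ∏ a : BlockIdx d, f (Fintype.card (BlockFib d a.1)) =
      ∏ i ∈ Finset.range (Finset.univ.sup d + 1), f (cnt d i) := by
  have h1 : ∀ a : ℕ, Fintype.card (BlockFib d a) = cnt d a := by
    intro a
    unfold cnt
    rw [Fintype.card_subtype]
  simp_rw [h1]
  rw [Finset.prod_coe_sort (Finset.univ.image d) (fun a => f (cnt d a))]
  apply Finset.prod_subset (image_subset_range d)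
  intro i _ hi
  rw [cnt_eq_zero d i hi, hf]

theorem arith (R : Finset ℕ) (n : ℕ → ℕ) (h0 : n 0 = 0) :
    ∑ i ∈ R, n i * ∑ j ∈ R, n j * min j i =
      2 * (∑ i ∈ R, ∑ j ∈ R, if i < j then i * n i * n j else 0) +
        ∑ i ∈ R, (i - 1) * n i ^ 2 + ∑ i ∈ R, n i ^ 2 := by
  have e : ∀ i j, n i * (n j * min j i) = (if i < j then i * n i * n j else 0) +
      (if j < i then j * n j * n i else 0) + (if i = j then i * n i ^ 2 else 0) := by
    intro i j
    rcases lt_trichotomy i j with h | h | h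
    · rw [if_pos h, if_neg (by omega), if_neg (by omega), min_eq_right h.le]
      ring
    · subst h
      simp only [lt_irrefl, if_false, if_true, min_self, zero_add]
      ring
    · rw [if_neg (by omega), if_pos h, if_neg (by omega), min_eq_left h.le]
      ring
  have h1 : ∑ i ∈ R, n i * ∑ j ∈ R, n j * min j i =
      ∑ i ∈ R, ∑ j ∈ R, ((if i < j then i * n i * n j else 0) +
      (if j < i then j * n j * n i else 0) + (if i = j then i * n i ^ 2 else 0)) := by
    apply Finset.sum_congr rfl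
    intro i _
    rw [Finset.mul_sum]
    apply Finset.sum_congr rfl
    intro j _
    exact e i j
  have h2 : ∑ i ∈ R, ∑ j ∈ R, (if j < i then j * n j * n i else 0) =
      ∑ i ∈ R, ∑ j ∈ R, (if i < j then i * n i * n j else 0) := Finset.sum_comm
  have h3 : ∑ i ∈ R, ∑ j ∈ R, (if i = j then i * n i ^ 2 else 0) = ∑ i ∈ R, i * n i ^ 2 := by
    apply Finset.sum_congr rfl
    intro i hi
    rw [Finset.sum_ite_eq, if_pos hi]
  have h4 : ∑ i ∈ R, i * n i ^ 2 = ∑ i ∈ R, (i - 1) * n i ^ 2 + ∑ i ∈ R, n i ^ 2 := by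
    rw [← Finset.sum_add_distrib]
    apply Finset.sum_congr rfl
    intro i _
    rcases Nat.eq_zero_or_pos i with rfl | hi
    · rw [h0]
      simp
    · have : i = (i - 1) + 1 := by omega
      nth_rewrite 1 [this]
      ring
  rw [h1]
  simp_rw [Finset.sum_add_distrib]
  rw [h2, h3, h4]
  ring

/-- Order of the centraliser in GL of a unipotent matrix of given Jordan type over the field with q elements: if the type has a_i blocks of size i (all block sizes at least 1), the invertible matrices commuting with it number q^γ · Π_i |GL_(a_i)(q)| with γ = 2 Σ_(i<j) i a_i a_j + Σ_i (i − 1) a_i² (a group of order q^γ extended by Π GL_(a_i)(q)). -/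
theorem result {F : Type*} [Field F] [Fintype F] {q : ℕ} (hF : Fintype.card F = q) {t : ℕ} (d : Fin t → ℕ) (hd : ∀ k, 1 ≤ d k) : Nat.card {g : GL ((k : Fin t) × Fin (d k)) F // (g : Matrix ((k : Fin t) × Fin (d k)) ((k : Fin t) × Fin (d k)) F) * Cfsg.jordanTypeMatrix d F = Cfsg.jordanTypeMatrix d F * (g : Matrix ((k : Fin t) × Fin (d k)) ((k : Fin t) × Fin (d k)) F)} = q ^ (2 * (∑ i ∈ Finset.range (Finset.univ.sup d + 1), ∑ j ∈ Finset.range (Finset.univ.sup d + 1), if i < j then i * (Finset.univ.filter (fun k : Fin t => d k = i)).card * (Finset.univ.filter (fun k : Fin t => d k = j)).card else 0) + ∑ i ∈ Finset.range (Finset.univ.sup d + 1), (i - 1) * (Finset.univ.filter (fun k : Fin t => d k = i)).card ^ 2) * ∏ i ∈ Finset.range (Finset.univ.sup d + 1), ∏ j : Fin ((Finset.univ.filter (fun k : Fin t => d k = i)).card), (q ^ (Finset.univ.filter (fun k : Fin t => d k = i)).card - q ^ (j : ℕ)) := by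
  classical
  subst hF
  have hb := isChainBasis_jordanType (F := F) d
  -- transfer to endomorphisms
  have hcard : Nat.card {g : GL ((k : Fin t) × Fin (d k)) F //
      (g : Matrix ((k : Fin t) × Fin (d k)) ((k : Fin t) × Fin (d k)) F) * Cfsg.jordanTypeMatrix d F =
        Cfsg.jordanTypeMatrix d F * (g : Matrix ((k : Fin t) × Fin (d k)) ((k : Fin t) × Fin (d k)) F)} =
      Nat.card {u : (End F (((k : Fin t) × Fin (d k)) → F))ˣ //
        (u : End F (((k : Fin t) × Fin (d k)) → F)) * Matrix.toLin' (Cfsg.jordanTypeMatrix d F - 1) =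
          Matrix.toLin' (Cfsg.jordanTypeMatrix d F - 1) * (u : End F (((k : Fin t) × Fin (d k)) → F))} := by
    apply Nat.card_congr
    refine Equiv.subtypeEquiv (Matrix.GeneralLinearGroup.toLin).toEquiv ?_
    intro g
    show _ ↔ Matrix.toLin' (g : Matrix ((k : Fin t) × Fin (d k)) ((k : Fin t) × Fin (d k)) F) *
      Matrix.toLin' (Cfsg.jordanTypeMatrix d F - 1) =
        Matrix.toLin' (Cfsg.jordanTypeMatrix d F - 1) *
          Matrix.toLin' (g : Matrix ((k : Fin t) × Fin (d k)) ((k : Fin t) × Fin (d k)) F)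
    rw [Module.End.mul_eq_comp, Module.End.mul_eq_comp, ← Matrix.toLin'_mul, ← Matrix.toLin'_mul,
      Matrix.toLin'.injective.eq_iff, Matrix.mul_sub, Matrix.sub_mul, Matrix.mul_one,
      Matrix.one_mul, sub_left_inj]
  rw [hcard]
  have key := card_units_comm_mul hb hd
  rw [prod_blockIdx d (fun n => Fintype.card F ^ (n ^ 2)) (by simp),
    prod_blockIdx d (fun n => ∏ j : Fin n, (Fintype.card F ^ n - Fintype.card F ^ (j : ℕ)))
      (by simp)] at key
  have hsum : ∑ k, ∑ l, min (d l) (d k) =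
      2 * (∑ i ∈ Finset.range (Finset.univ.sup d + 1),
        ∑ j ∈ Finset.range (Finset.univ.sup d + 1), if i < j then i * cnt d i * cnt d j else 0) +
      ∑ i ∈ Finset.range (Finset.univ.sup d + 1), (i - 1) * cnt d i ^ 2 +
      ∑ i ∈ Finset.range (Finset.univ.sup d + 1), cnt d i ^ 2 := by
    rw [← arith _ _ (cnt_zero d hd)]
    rw [sum_fiber d (fun i => ∑ l, min (d l) i)]
    apply Finset.sum_congr rfl
    intro i _
    congr 1
    exact sum_fiber d (fun j => min j i)
  rw [hsum, Finset.prod_pow_eq_pow_sum, pow_add] at key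
  have hq : 0 < Fintype.card F ^ (∑ i ∈ Finset.range (Finset.univ.sup d + 1), cnt d i ^ 2) :=
    pow_pos Fintype.card_pos _
  have key2 : Nat.card {u : (End F (((k : Fin t) × Fin (d k)) → F))ˣ //
        (u : End F (((k : Fin t) × Fin (d k)) → F)) * Matrix.toLin' (Cfsg.jordanTypeMatrix d F - 1) =
          Matrix.toLin' (Cfsg.jordanTypeMatrix d F - 1) * (u : End F (((k : Fin t) × Fin (d k)) → F))} *
      Fintype.card F ^ (∑ i ∈ Finset.range (Finset.univ.sup d + 1), cnt d i ^ 2) =
      (Fintype.card F ^ (2 * (∑ i ∈ Finset.range (Finset.univ.sup d + 1),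
        ∑ j ∈ Finset.range (Finset.univ.sup d + 1), if i < j then i * cnt d i * cnt d j else 0) +
      ∑ i ∈ Finset.range (Finset.univ.sup d + 1), (i - 1) * cnt d i ^ 2) *
      ∏ i ∈ Finset.range (Finset.univ.sup d + 1),
        ∏ j : Fin (cnt d i), (Fintype.card F ^ cnt d i - Fintype.card F ^ (j : ℕ))) *
      Fintype.card F ^ (∑ i ∈ Finset.range (Finset.univ.sup d + 1), cnt d i ^ 2) := by
    rw [key]
    ring
  exact Nat.eq_of_mul_eq_mul_right hq key2

end Cfsg.Agent.S2581
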