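import Cfsg.Statements.S2584
import Cfsg.Agent.S2582
import Cfsg.Agent.Lib.Helper43_Char2Quad

set_option autoImplicit false
open Cfsg

namespace Cfsg.Agent.S2584

open Matrix Module
open Cfsg.Agent.Lib.Helper43_Jordan Cfsg.Agent.Lib.Helper43_UnipIsom
open Cfsg.Agent.Lib.Helper43_SympJordan Cfsg.Agent.Lib.Helper43_JordanMatrix
open Cfsg.Agent.Lib.Helper43_Char2Quad Cfsg.Agent.S2582

theorem polar_comp_equiv {F V W : Type*} [Field F] [AddCommGroup V] [Module F V]
    [AddCommGroup W] [Module F W] (Q : QuadraticForm F V) (f : W →ₗ[F] V) (x y : W) :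
    QuadraticMap.polar (Q.comp f) x y = QuadraticMap.polar Q (f x) (f y) := by
  unfold QuadraticMap.polar
  rw [QuadraticMap.comp_apply, QuadraticMap.comp_apply, QuadraticMap.comp_apply, map_add]

/-- Which unipotent Jordan types occur in a finite orthogonal group in characteristic two: over a finite field of characteristic 2 and in even dimension 2m, a unipotent matrix with Jordan block sizes d_1, …, d_t (sum 2m, all at least 1) is similar to an isometry of some quadratic form on F^(2m) with non-degenerate polar form if and only if every odd block size occurs an even number of times (the same condition as for the symplectic group, which contains these orthogonal groups). -/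
theorem result {F : Type*} [Field F] [Fintype F] [CharP F 2] {m t : ℕ} (d : Fin t → ℕ) (hd : ∀ k, 1 ≤ d k) (hsum : ∑ k, d k = 2 * m) : (∃ Q : QuadraticForm F (Fin (2 * m) → F), (QuadraticMap.polarBilin Q).Nondegenerate ∧ ∃ e : ((k : Fin t) × Fin (d k)) ≃ Fin (2 * m), ∃ A : ↥(Cfsg.isometryGroup F ⇑Q), IsConj (Matrix.reindex e e (Cfsg.jordanTypeMatrix d F)) ((A : Matrix.GeneralLinearGroup (Fin (2 * m)) F) : Matrix (Fin (2 * m)) (Fin (2 * m)) F)) ↔ ∀ j : ℕ, Odd j → Even (Finset.univ.filter (fun k : Fin t => d k = j)).card := by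
  classical
  have hcardI : Fintype.card ((k : Fin t) × Fin (d k)) = Fintype.card (Fin (2 * m)) := by
    rw [Fintype.card_sigma, Fintype.card_fin]
    simp only [Fintype.card_fin]
    exact hsum
  have hjU : jtype (Matrix.toLin' (Cfsg.jordanTypeMatrix d F - 1)) =
      Multiset.map d Finset.univ.val := jtype_jordanType d hd
  have hnilU : IsNilpotent (Matrix.toLin' (Cfsg.jordanTypeMatrix d F - 1)) :=
    isNilpotent_jordanType d
  constructor
  · rintro ⟨Q, hQ, e, A, hconj⟩ j hj
    set G : Matrix.GeneralLinearGroup (Fin (2 * m)) F := (A : Matrix.GeneralLinearGroup (Fin (2 * m)) F)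
      with hG
    have hAQ : ∀ w, Q ((G : Matrix (Fin (2 * m)) (Fin (2 * m)) F) *ᵥ w) = Q w := fun w => A.2 w w
    obtain ⟨ψ, hψ⟩ := exists_equiv_of_isConj e (Cfsg.jordanTypeMatrix d F)
      (G : Matrix (Fin (2 * m)) (Fin (2 * m)) F) hconj
    rw [sub_one_intertwine] at hψ
    have halt : (QuadraticMap.polarBilin Q).IsAlt := by
      intro x
      show QuadraticMap.polar Q x x = 0
      rw [QuadraticMap.polar_self, two_nsmul, CharTwo.add_self_eq_zero]
    have hdata : IsomData (QuadraticMap.polarBilin Q)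
        (Matrix.toLin' (G : Matrix (Fin (2 * m)) (Fin (2 * m)) F))
        (Matrix.toLin' ((G⁻¹ : Matrix.GeneralLinearGroup (Fin (2 * m)) F) :
          Matrix (Fin (2 * m)) (Fin (2 * m)) F)) := by
      refine ⟨?_, ?_, ?_⟩
      · intro x y
        show QuadraticMap.polar Q _ _ = QuadraticMap.polar Q x y
        unfold QuadraticMap.polar
        rw [← map_add, Matrix.toLin'_apply, Matrix.toLin'_apply, Matrix.toLin'_apply, hAQ, hAQ, hAQ]
      · rw [Module.End.mul_eq_comp, ← Matrix.toLin'_mul, G.mul_inv, Matrix.toLin'_one]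
        rfl
      · rw [Module.End.mul_eq_comp, ← Matrix.toLin'_mul, G.inv_mul, Matrix.toLin'_one]
        rfl
    have hsub : Matrix.toLin' (G : Matrix (Fin (2 * m)) (Fin (2 * m)) F) - 1 =
        Matrix.toLin' ((G : Matrix (Fin (2 * m)) (Fin (2 * m)) F) - 1) := by
      rw [map_sub, Matrix.toLin'_one]
      rfl
    have hnilA : IsNilpotent
        (Matrix.toLin' ((G : Matrix (Fin (2 * m)) (Fin (2 * m)) F) - 1)) :=
      isNilpotent_of_conj ψ _ _ hψ hnilU
    have hjA : jtype (Matrix.toLin' ((G : Matrix (Fin (2 * m)) (Fin (2 * m)) F) - 1)) =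
        Multiset.map d Finset.univ.val := by
      rw [← hjU]
      exact ((jtype_eq_iff _ hnilU _ hnilA).2 ⟨ψ, hψ⟩).symm
    have := even_count_jtype_of_alt hdata hQ halt (by rw [hsub]; exact hnilA) j hj
    rw [hsub, hjA, count_eq] at this
    exact this
  · intro hcnt
    have hreal : Realizable F (Multiset.map d Finset.univ.val) := by
      apply realizable_of_counts
      · intro a ha
        rw [Multiset.mem_map] at ha
        obtain ⟨k, -, rfl⟩ := ha
        exact hd k
      · intro j hj
        rw [count_eq]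
        exact hcnt j hj
    obtain ⟨V, _, _, _, ω, g, halt, hnd, hiso, hnil, hjt⟩ := hreal
    have hdimV : finrank F V = 2 * m := by
      rw [← jtype_sum (g - 1) hnil, hjt, ← hsum]
      rfl
    obtain ⟨QV, hQV, hQg⟩ := exists_quadratic ω halt g hiso hnil
    have hpolV : ∀ x y, QuadraticMap.polar QV x y = ω x y := by
      intro x y
      rw [← hQV]
      rfl
    let φ : V ≃ₗ[F] (Fin (2 * m) → F) :=
      LinearEquiv.ofFinrankEq _ _ (by rw [hdimV, Module.finrank_fin_fun])
    let Q : QuadraticForm F (Fin (2 * m) → F) := QV.comp (φ.symm : (Fin (2 * m) → F) →ₗ[F] V)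
    have hQapp : ∀ w, Q w = QV (φ.symm w) := fun w => rfl
    have hpolQ : ∀ x y, QuadraticMap.polarBilin Q x y = ω (φ.symm x) (φ.symm y) := by
      intro x y
      show QuadraticMap.polar Q x y = _
      rw [polar_comp_equiv, hpolV]
      rfl
    have hQnd : (QuadraticMap.polarBilin Q).Nondegenerate := by
      constructor
      · intro x hx
        have : φ.symm x = 0 := by
          apply hnd.1
          intro y
          have := hx (φ y)
          rw [hpolQ, LinearEquiv.symm_apply_apply] at this
          exact this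
        exact φ.symm.map_eq_zero_iff.1 this
      · intro y hy
        have : φ.symm y = 0 := by
          apply hnd.2
          intro x
          have := hy (φ x)
          rw [hpolQ, LinearEquiv.symm_apply_apply] at this
          exact this
        exact φ.symm.map_eq_zero_iff.1 this
    -- the unit
    have hgunit : IsUnit g := by
      have : g = 1 + (g - 1) := by abel
      rw [this]
      exact hnil.isUnit_one_add
    obtain ⟨gu, hgu⟩ := hgunit
    let g₂ : End F (Fin (2 * m) → F) := φ.conj g
    let g₂' : End F (Fin (2 * m) → F) := φ.conj ((gu⁻¹ : (End F V)ˣ) : End F V)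
    have hg₂ : ∀ x, g₂ x = φ (g (φ.symm x)) := fun x => rfl
    have h12 : g₂ * g₂' = 1 := by
      show φ.conj g * φ.conj ((gu⁻¹ : (End F V)ˣ) : End F V) = 1
      rw [Module.End.mul_eq_comp, ← LinearEquiv.conj_comp, ← Module.End.mul_eq_comp, ← hgu,
        gu.mul_inv]
      exact LinearEquiv.conj_id φ
    have h21 : g₂' * g₂ = 1 := by
      show φ.conj ((gu⁻¹ : (End F V)ˣ) : End F V) * φ.conj g = 1
      rw [Module.End.mul_eq_comp, ← LinearEquiv.conj_comp, ← Module.End.mul_eq_comp, ← hgu,
        gu.inv_mul]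
      exact LinearEquiv.conj_id φ
    let A₀ : Matrix (Fin (2 * m)) (Fin (2 * m)) F := LinearMap.toMatrix' g₂
    let A₀' : Matrix (Fin (2 * m)) (Fin (2 * m)) F := LinearMap.toMatrix' g₂'
    have hA₀ : Matrix.toLin' A₀ = g₂ := Matrix.toLin'_toMatrix' _
    let G : Matrix.GeneralLinearGroup (Fin (2 * m)) F :=
      ⟨A₀, A₀', by rw [← LinearMap.toMatrix'_mul, h12, LinearMap.toMatrix'_one],
        by rw [← LinearMap.toMatrix'_mul, h21, LinearMap.toMatrix'_one]⟩
    have hGmem : G ∈ Cfsg.isometryGroup F (⇑Q) := by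
      intro w _
      show Q (A₀ *ᵥ w) = Q w
      rw [← Matrix.toLin'_apply, hA₀, hg₂, hQapp, hQapp, LinearEquiv.symm_apply_apply, hQg]
    have hint : ∀ w, φ ((g - 1) w) = Matrix.toLin' (A₀ - 1) (φ w) := by
      intro w
      rw [map_sub, Matrix.toLin'_one, hA₀, LinearMap.sub_apply, LinearMap.sub_apply, hg₂,
        LinearEquiv.symm_apply_apply, map_sub]
      rfl
    have hnilA : IsNilpotent (Matrix.toLin' (A₀ - 1)) := isNilpotent_of_conj φ _ _ hint hnil
    have hjA : jtype (Matrix.toLin' (Cfsg.jordanTypeMatrix d F - 1)) =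
        jtype (Matrix.toLin' (A₀ - 1)) := by
      rw [hjU, ← hjt]
      exact (jtype_eq_iff _ hnil _ hnilA).2 ⟨φ, hint⟩
    obtain ⟨ψ, hψ⟩ := (jtype_eq_iff _ hnilU _ hnilA).1 hjA
    exact ⟨Q, hQnd, Fintype.equivOfCardEq hcardI, ⟨G, hGmem⟩,
      isConj_of_equiv _ _ A₀ ψ ((sub_one_intertwine _ A₀ ψ).2 hψ)⟩

end Cfsg.Agent.S2584
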