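import Cfsg.Statements.S2585

set_option autoImplicit false
open Cfsg

namespace Cfsg.Agent.S2585

open Matrix

variable {F : Type*} [Field F] {m : ℕ}

theorem sympForm_eq (u v : Fin m ⊕ Fin m → F) :
    Cfsg.sympForm m F u v = ∑ i : Fin m, (u (Sum.inr i) * v (Sum.inl i) - u (Sum.inl i) * v (Sum.inr i)) := by
  unfold Cfsg.sympForm
  simp only [dotProduct, Fintype.sum_sum_type, Matrix.J, Matrix.mulVec, Matrix.fromBlocks_apply₁₁,
    Matrix.fromBlocks_apply₁₂, Matrix.fromBlocks_apply₂₁, Matrix.fromBlocks_apply₂₂, Matrix.zero_apply,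
    zero_mul, Finset.sum_const_zero, zero_add, add_zero, Matrix.neg_apply, Matrix.one_apply, neg_mul,
    ite_mul, one_mul, Finset.sum_neg_distrib, Finset.sum_ite_eq, Finset.mem_univ, if_true, mul_neg]
  rw [Finset.sum_sub_distrib]
  ring

/-- the symplectic group preserves `sympForm` -/
theorem sympForm_mulVec (A : Matrix.symplecticGroup (Fin m) F) (u v : Fin m ⊕ Fin m → F) :
    Cfsg.sympForm m F ((A : Matrix (Fin m ⊕ Fin m) (Fin m ⊕ Fin m) F) *ᵥ u)
      ((A : Matrix (Fin m ⊕ Fin m) (Fin m ⊕ Fin m) F) *ᵥ v) = Cfsg.sympForm m F u v := by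
  have hsymp : (A : Matrix (Fin m ⊕ Fin m) (Fin m ⊕ Fin m) F)ᵀ * J (Fin m) F * (A : Matrix (Fin m ⊕ Fin m) (Fin m ⊕ Fin m) F) = J (Fin m) F :=
    SymplecticGroup.mem_iff'.mp A.2
  unfold Cfsg.sympForm
  rw [dotProduct_comm, Matrix.mulVec_mulVec, Matrix.dotProduct_mulVec, ← Matrix.mulVec_transpose,
    Matrix.mulVec_mulVec, ← mul_assoc, hsymp, dotProduct_comm]

/-- the hyperbolic quadratic form -/
noncomputable def q₀ (m : ℕ) (F : Type*) [Field F] : QuadraticForm F (Fin m ⊕ Fin m → F) :=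
  ∑ i : Fin m, QuadraticMap.proj (Sum.inl i) (Sum.inr i)

theorem q₀_apply (v : Fin m ⊕ Fin m → F) : q₀ m F v = ∑ i : Fin m, v (Sum.inl i) * v (Sum.inr i) := by
  simp [q₀]

theorem q₀_add [CharP F 2] (u v : Fin m ⊕ Fin m → F) :
    q₀ m F (u + v) = q₀ m F u + q₀ m F v + Cfsg.sympForm m F u v := by
  rw [q₀_apply, q₀_apply, q₀_apply, sympForm_eq, ← Finset.sum_add_distrib, ← Finset.sum_add_distrib]
  apply Finset.sum_congr rfl
  intro i _
  have h2 : (2 : F) = 0 := CharTwo.two_eq_zero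
  simp only [Pi.add_apply]
  linear_combination (u (Sum.inl i) * v (Sum.inr i)) * h2

theorem result {F : Type*} [Field F] [Fintype F] [CharP F 2] {m : ℕ} (A : Matrix.symplecticGroup (Fin m) F) : ∃ Q : QuadraticForm F (Fin m ⊕ Fin m → F), (∀ u v : Fin m ⊕ Fin m → F, QuadraticMap.polar ⇑Q u v = Cfsg.sympForm m F u v) ∧ ∀ v : Fin m ⊕ Fin m → F, Q ((A : Matrix (Fin m ⊕ Fin m) (Fin m ⊕ Fin m) F).mulVec v) = Q v := by
  classical
  have h2 : (2 : F) = 0 := CharTwo.two_eq_zero
  have hchar : ringChar F = 2 := ringChar.eq F 2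
  set M : Matrix (Fin m ⊕ Fin m) (Fin m ⊕ Fin m) F := (A : Matrix (Fin m ⊕ Fin m) (Fin m ⊕ Fin m) F) with hM
  -- the defect of q₀ under A
  let E : (Fin m ⊕ Fin m → F) → F := fun v => q₀ m F (M *ᵥ v) + q₀ m F v
  have hE_add : ∀ u v, E (u + v) = E u + E v := by
    intro u v
    simp only [E]
    rw [Matrix.mulVec_add, q₀_add, q₀_add, sympForm_mulVec]
    linear_combination (Cfsg.sympForm m F u v) * h2
  have hE_smul : ∀ (c : F) v, E (c • v) = c ^ 2 * E v := by
    intro c v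
    simp only [E]
    rw [Matrix.mulVec_smul, QuadraticMap.map_smul, QuadraticMap.map_smul, smul_eq_mul, smul_eq_mul]
    ring
  let Eh : (Fin m ⊕ Fin m → F) →+ F := AddMonoidHom.mk' E hE_add
  let ε : Fin m ⊕ Fin m → F := fun j => E (Pi.single j 1)
  have hE_eq : ∀ v, E v = ∑ j, ε j * v j ^ 2 := by
    intro v
    have hv : v = ∑ j, v j • (Pi.single j (1 : F) : Fin m ⊕ Fin m → F) := by
      ext k
      simp [Finset.sum_apply, Pi.single_apply]
    have h1 : E v = Eh v := rfl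
    rw [h1]
    conv_lhs => rw [hv]
    rw [map_sum]
    apply Finset.sum_congr rfl
    intro j _
    show E (v j • Pi.single j 1) = ε j * v j ^ 2
    rw [hE_smul]; ring
  -- square roots
  have hsq : ∀ a : F, ∃ b : F, b ^ 2 = a := by
    intro a
    obtain ⟨b, hb⟩ := FiniteField.isSquare_of_char_two hchar a
    exact ⟨b, by rw [hb, sq]⟩
  choose sqrt hsqrt using hsq
  let lam : Module.Dual F (Fin m ⊕ Fin m → F) := ∑ j, sqrt (ε j) • LinearMap.proj j
  have hlam : ∀ v, lam v = ∑ j, sqrt (ε j) * v j := by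
    intro v
    simp [lam, LinearMap.sum_apply]
  have hlam_sq : ∀ v, lam v ^ 2 = E v := by
    intro v
    rw [hlam, CharTwo.sum_sq, hE_eq]
    apply Finset.sum_congr rfl
    intro j _
    rw [mul_pow, hsqrt]
  -- lam vanishes on the kernel of 1 + A
  let T : (Fin m ⊕ Fin m → F) →ₗ[F] (Fin m ⊕ Fin m → F) := Matrix.toLin' (1 + M)
  have hT : ∀ v, T v = v + M *ᵥ v := by
    intro v
    simp only [T, Matrix.toLin'_apply, Matrix.add_mulVec, Matrix.one_mulVec]
  have hann : lam ∈ (LinearMap.ker T).dualAnnihilator := by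
    rw [Submodule.mem_dualAnnihilator]
    intro v hv
    rw [LinearMap.mem_ker, hT] at hv
    have hMv : M *ᵥ v = v := by
      have h3 : M *ᵥ v = -v := eq_neg_of_add_eq_zero_right hv
      rw [h3]
      ext k
      simp only [Pi.neg_apply]
      exact CharTwo.neg_eq _
    have : lam v ^ 2 = 0 := by
      rw [hlam_sq]
      simp only [E]
      rw [hMv]
      exact CharTwo.add_self_eq_zero _
    exact pow_eq_zero_iff (two_ne_zero) |>.mp this
  rw [← LinearMap.range_dualMap_eq_dualAnnihilator_ker] at hann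
  obtain ⟨μ, hμ⟩ := hann
  have hμ' : ∀ v, μ v + μ (M *ᵥ v) = lam v := by
    intro v
    have := congrArg (fun φ : Module.Dual F (Fin m ⊕ Fin m → F) => φ v) hμ
    simp only [LinearMap.dualMap_apply] at this
    rw [hT, map_add] at this
    exact this
  have hμ_sum : ∀ w : Fin m ⊕ Fin m → F, μ w = ∑ j, μ (Pi.single j 1) * w j := by
    intro w
    have hw : w = ∑ j, w j • (Pi.single j (1 : F) : Fin m ⊕ Fin m → F) := by
      ext k
      simp [Finset.sum_apply, Pi.single_apply]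
    conv_lhs => rw [hw]
    rw [map_sum]
    apply Finset.sum_congr rfl
    intro j _
    rw [map_smul, smul_eq_mul, mul_comm]
  let d : Fin m ⊕ Fin m → F := fun j => μ (Pi.single j 1) ^ 2
  let Q : QuadraticForm F (Fin m ⊕ Fin m → F) := q₀ m F + QuadraticMap.weightedSumSquares F d
  have hQ : ∀ w, Q w = q₀ m F w + μ w ^ 2 := by
    intro w
    show (q₀ m F + QuadraticMap.weightedSumSquares F d) w = _
    rw [_root_.add_apply, QuadraticMap.weightedSumSquares_apply]
    simp only [smul_eq_mul]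
    congr 1
    rw [hμ_sum w, CharTwo.sum_sq]
    apply Finset.sum_congr rfl
    intro j _
    simp only [d]
    ring
  refine ⟨Q, ?_, ?_⟩
  · intro u v
    unfold QuadraticMap.polar
    rw [hQ, hQ, hQ, q₀_add, map_add, CharTwo.add_sq]
    ring
  · intro v
    show Q (M *ᵥ v) = Q v
    rw [hQ, hQ]
    have h1 : q₀ m F (M *ᵥ v) + q₀ m F v = lam v ^ 2 := (hlam_sq v).symm
    have h3 : lam v ^ 2 = μ v ^ 2 + μ (M *ᵥ v) ^ 2 := by
      rw [← hμ', CharTwo.add_sq]
    have h4 : q₀ m F (M *ᵥ v) = lam v ^ 2 + q₀ m F v := by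
      rw [← h1, add_assoc, CharTwo.add_self_eq_zero, add_zero]
    rw [h4, h3]
    have := CharTwo.add_self_eq_zero (μ (M *ᵥ v) ^ 2)
    linear_combination this

end Cfsg.Agent.S2585
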