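import Cfsg.Statements.S2586
import Cfsg.Agent.Lib.Helper43_Transpose

set_option autoImplicit false
open Cfsg

namespace Cfsg.Agent.S2586

open Matrix

/-- Over a finite field, every element of the symplectic group Sp_2m(F) is conjugate by an invertible matrix to its inverse. -/
theorem result {F : Type*} [Field F] [Finite F] {m : ℕ} (A : Matrix.symplecticGroup (Fin m) F) : IsConj (A : Matrix (Fin m ⊕ Fin m) (Fin m ⊕ Fin m) F) ((A⁻¹ : Matrix.symplecticGroup (Fin m) F) : Matrix (Fin m ⊕ Fin m) (Fin m ⊕ Fin m) F) := by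
  classical
  set M : Matrix (Fin m ⊕ Fin m) (Fin m ⊕ Fin m) F := (A : Matrix (Fin m ⊕ Fin m) (Fin m ⊕ Fin m) F) with hM
  set B : Matrix (Fin m ⊕ Fin m) (Fin m ⊕ Fin m) F := ((A⁻¹ : Matrix.symplecticGroup (Fin m) F) : Matrix (Fin m ⊕ Fin m) (Fin m ⊕ Fin m) F) with hB
  have hMB : M * B = 1 := congrArg Subtype.val (mul_inv_cancel A)
  have hsymp : Mᵀ * J (Fin m) F * M = J (Fin m) F := SymplecticGroup.mem_iff'.mp A.2
  have h1 : J (Fin m) F * B = Mᵀ * J (Fin m) F := by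
    calc J (Fin m) F * B = (Mᵀ * J (Fin m) F * M) * B := by rw [hsymp]
      _ = Mᵀ * J (Fin m) F * (M * B) := by simp only [mul_assoc]
      _ = Mᵀ * J (Fin m) F := by rw [hMB, mul_one]
  have hJunit : IsUnit (J (Fin m) F) := by
    refine ⟨⟨J (Fin m) F, -J (Fin m) F, ?_, ?_⟩, rfl⟩
    · rw [Matrix.mul_neg, J_squared, neg_neg]
    · rw [Matrix.neg_mul, J_squared, neg_neg]
  -- reindex to `Fin (m + m)` to apply the transpose theorem
  have hconjT : IsConj M Mᵀ := by
    let e : (Fin m ⊕ Fin m) ≃ Fin (m + m) := finSumFinEquiv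
    let r : Matrix (Fin m ⊕ Fin m) (Fin m ⊕ Fin m) F ≃ₐ[F] Matrix (Fin (m + m)) (Fin (m + m)) F :=
      Matrix.reindexAlgEquiv F F e
    have h := Cfsg.Agent.Lib.Helper43_Transpose.isConj_transpose (r M)
    have h2 : (r M)ᵀ = r Mᵀ := by
      simp [r, Matrix.coe_reindexAlgEquiv, Matrix.reindex_apply, Matrix.transpose_submatrix]
    rw [h2] at h
    have h3 := MonoidHom.map_isConj (r.symm.toAlgHom : _ →* Matrix (Fin m ⊕ Fin m) (Fin m ⊕ Fin m) F) h
    simpa using h3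
  have hconjB : IsConj B Mᵀ := ⟨hJunit.unit, h1⟩
  exact hconjT.trans hconjB.symm

end Cfsg.Agent.S2586
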