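import Cfsg.Statements.S2588
import Cfsg.Agent.Lib.Helper43_GUSimilar

set_option autoImplicit false
open Cfsg

namespace Cfsg.Agent.S2588

open Cfsg.Agent.Lib.Helper43_HermRoot Cfsg.Agent.Lib.Helper43_GUConj
  Cfsg.Agent.Lib.Helper43_GUSimilar Cfsg.Agent.Lib.Helper13_HermBridge

/-- An invertible matrix A over the field with q² elements is conjugate in GL_n(q²) to an element of the general unitary group GU_n(q) (isometries of the Hermitian form Σ u_i v_i^q) if and only if A is similar to the inverse transpose of its entrywise q-th power (A ~ A^(−qT), the image of A under the map sending a matrix to the inverse transpose of its entrywise q-th power — inverse transpose composed with the field automorphism — whose fixed points form GU_n(q)). -/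
theorem result {K : Type*} [Field K] [Fintype K] {q n : ℕ} (hK : Fintype.card K = q ^ 2) (A : GL (Fin n) K) : (∃ B : ↥(Cfsg.GU n K q), IsConj A (B : GL (Fin n) K)) ↔ IsConj (A : Matrix (Fin n) (Fin n) K) (((A : Matrix (Fin n) (Fin n) K).map (fun x : K => x ^ q)).transpose)⁻¹ := by
  have hne : ∃ l, frobQ hK l ≠ l := by
    by_contra hcon
    push Not at hcon
    apply frobQ_ne_id hK
    ext x
    exact hcon x
  have hstar : ((A : Matrix (Fin n) (Fin n) K).map (fun x : K => x ^ q)).transpose =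
      starM (frobQ hK) (A : Matrix (Fin n) (Fin n) K) := rfl
  rw [hstar]
  have hAdet : (A : Matrix (Fin n) (Fin n) K).det ≠ 0 :=
    ((Matrix.isUnit_iff_isUnit_det _).1 A.isUnit).ne_zero
  have hAsdet : (starM (frobQ hK) (A : Matrix (Fin n) (Fin n) K)).det ≠ 0 := by
    rw [det_starM]
    exact (map_ne_zero (frobQ hK)).2 hAdet
  have hAsu : IsUnit (starM (frobQ hK) (A : Matrix (Fin n) (Fin n) K)).det :=
    isUnit_iff_ne_zero.2 hAsdet
  constructor
  · rintro ⟨B, hB⟩
    obtain ⟨P, hP⟩ := isConj_iff.1 hB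
    have hPm : (P : Matrix (Fin n) (Fin n) K) * (A : Matrix (Fin n) (Fin n) K) =
        (B : GL (Fin n) K).1 * (P : Matrix (Fin n) (Fin n) K) := by
      have h1 : P * A = (B : GL (Fin n) K) * P := by
        rw [← hP]
        group
      exact congrArg (fun x : GL (Fin n) K => (x : Matrix (Fin n) (Fin n) K)) h1
    have hBu : starM (frobQ hK) (B : GL (Fin n) K).1 * (B : GL (Fin n) K).1 = 1 :=
      (mem_GU_iff_star hK _).1 B.2
    have hPdet : (P : Matrix (Fin n) (Fin n) K).det ≠ 0 :=
      ((Matrix.isUnit_iff_isUnit_det _).1 P.isUnit).ne_zero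
    set c : Matrix (Fin n) (Fin n) K := starM (frobQ hK) (P : Matrix (Fin n) (Fin n) K) *
      (P : Matrix (Fin n) (Fin n) K) with hc
    have hcdet : c.det ≠ 0 := by
      rw [hc, Matrix.det_mul, det_starM]
      exact mul_ne_zero ((map_ne_zero (frobQ hK)).2 hPdet) hPdet
    have hcu : IsUnit c := (Matrix.isUnit_iff_isUnit_det _).2 (isUnit_iff_ne_zero.2 hcdet)
    have hinv : starM (frobQ hK) (A : Matrix (Fin n) (Fin n) K) * c *
        (A : Matrix (Fin n) (Fin n) K) = c := by
      calc starM (frobQ hK) (A : Matrix (Fin n) (Fin n) K) * c * (A : Matrix (Fin n) (Fin n) K)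
          = starM (frobQ hK) ((P : Matrix (Fin n) (Fin n) K) * (A : Matrix (Fin n) (Fin n) K)) *
              ((P : Matrix (Fin n) (Fin n) K) * (A : Matrix (Fin n) (Fin n) K)) := by
            rw [hc, starM_mul]; simp only [Matrix.mul_assoc]
        _ = starM (frobQ hK) (P : Matrix (Fin n) (Fin n) K) *
              (starM (frobQ hK) (B : GL (Fin n) K).1 * (B : GL (Fin n) K).1) *
              (P : Matrix (Fin n) (Fin n) K) := by
            rw [hPm, starM_mul]; simp only [Matrix.mul_assoc]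
        _ = c := by rw [hBu, Matrix.mul_one]
    refine ⟨hcu.unit, ?_⟩
    show (hcu.unit : Matrix (Fin n) (Fin n) K) * (A : Matrix (Fin n) (Fin n) K) =
      (starM (frobQ hK) (A : Matrix (Fin n) (Fin n) K))⁻¹ * (hcu.unit : Matrix (Fin n) (Fin n) K)
    rw [IsUnit.unit_spec]
    calc c * (A : Matrix (Fin n) (Fin n) K)
        = ((starM (frobQ hK) (A : Matrix (Fin n) (Fin n) K))⁻¹ *
            starM (frobQ hK) (A : Matrix (Fin n) (Fin n) K)) * c *
            (A : Matrix (Fin n) (Fin n) K) := by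
          rw [Matrix.nonsing_inv_mul _ hAsu, Matrix.one_mul]
      _ = (starM (frobQ hK) (A : Matrix (Fin n) (Fin n) K))⁻¹ *
            (starM (frobQ hK) (A : Matrix (Fin n) (Fin n) K) * c *
              (A : Matrix (Fin n) (Fin n) K)) := by
          simp only [Matrix.mul_assoc]
      _ = (starM (frobQ hK) (A : Matrix (Fin n) (Fin n) K))⁻¹ * c := by rw [hinv]
  · rintro ⟨c, hc⟩
    have hc' : (c : Matrix (Fin n) (Fin n) K) * (A : Matrix (Fin n) (Fin n) K) =
        (starM (frobQ hK) (A : Matrix (Fin n) (Fin n) K))⁻¹ * (c : Matrix (Fin n) (Fin n) K) := hc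
    have hcdet : (c : Matrix (Fin n) (Fin n) K).det ≠ 0 :=
      ((Matrix.isUnit_iff_isUnit_det _).1 c.isUnit).ne_zero
    have hinv : starM (frobQ hK) (A : Matrix (Fin n) (Fin n) K) * (c : Matrix (Fin n) (Fin n) K) *
        (A : Matrix (Fin n) (Fin n) K) = (c : Matrix (Fin n) (Fin n) K) := by
      rw [Matrix.mul_assoc, hc', ← Matrix.mul_assoc, Matrix.mul_nonsing_inv _ hAsu, Matrix.one_mul]
    obtain ⟨R, hRdet, hR⟩ := exists_conj_unitary (frobQ hK) (frobQ_frobQ hK) hne
      (A : Matrix (Fin n) (Fin n) K) (c : Matrix (Fin n) (Fin n) K) hcdet hinv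
    let Rg : GL (Fin n) K := Matrix.GeneralLinearGroup.mk'' R (isUnit_iff_ne_zero.2 hRdet)
    have hRg : (Rg : Matrix (Fin n) (Fin n) K) = R := rfl
    have hcoe : ((Rg * A * Rg⁻¹ : GL (Fin n) K) : Matrix (Fin n) (Fin n) K) =
        R * (A : Matrix (Fin n) (Fin n) K) * R⁻¹ := by
      rw [Units.val_mul, Units.val_mul, Matrix.coe_units_inv, hRg]
    have hmem : Rg * A * Rg⁻¹ ∈ Cfsg.GU n K q := by
      rw [mem_GU_iff_star hK, hcoe]
      exact hR
    refine ⟨⟨Rg * A * Rg⁻¹, hmem⟩, ?_⟩
    rw [isConj_iff]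
    exact ⟨Rg, rfl⟩

end Cfsg.Agent.S2588
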