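import Mathlib
import Cfsg.Statements.S2589
import Cfsg.Agent.Lib.Helper40_SpMatrix

set_option autoImplicit false
open Cfsg

namespace Cfsg.Agent.S2589

/-- Two semisimple elements of the finite symplectic group Sp_2m(F) (elements of order prime to the characteristic) are conjugate in Sp_2m(F) if and only if they are conjugate in GL_2m(F). -/
theorem result {F : Type*} [Field F] [Fintype F] {p : ℕ} [Fact p.Prime] [CharP F p] {m : ℕ} (A B : Matrix.symplecticGroup (Fin m) F) (hA : (orderOf A).Coprime p) : IsConj A B ↔ IsConj (A : Matrix (Fin m ⊕ Fin m) (Fin m ⊕ Fin m) F) (B : Matrix (Fin m ⊕ Fin m) (Fin m ⊕ Fin m) F) := by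
  constructor
  · intro h
    exact (Matrix.symplecticGroup (Fin m) F).subtype.map_isConj h
  · rintro ⟨u, hu⟩
    have hu' : (u : Matrix (Fin m ⊕ Fin m) (Fin m ⊕ Fin m) F) * (A : Matrix (Fin m ⊕ Fin m) (Fin m ⊕ Fin m) F) =
        (B : Matrix (Fin m ⊕ Fin m) (Fin m ⊕ Fin m) F) * u := hu
    -- same order
    have hpow : ∀ k : ℕ, (A : Matrix (Fin m ⊕ Fin m) (Fin m ⊕ Fin m) F) ^ k = 1 ↔
        (B : Matrix (Fin m ⊕ Fin m) (Fin m ⊕ Fin m) F) ^ k = 1 := by
      intro k
      have hk : (u : Matrix (Fin m ⊕ Fin m) (Fin m ⊕ Fin m) F) *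
          (A : Matrix (Fin m ⊕ Fin m) (Fin m ⊕ Fin m) F) ^ k =
          (B : Matrix (Fin m ⊕ Fin m) (Fin m ⊕ Fin m) F) ^ k * u := hu.pow_right k
      constructor
      · intro h1
        rw [h1, mul_one] at hk
        have := congrArg (fun M => M * ((u⁻¹ : _ˣ) : Matrix (Fin m ⊕ Fin m) (Fin m ⊕ Fin m) F)) hk
        simp only [mul_assoc, Units.mul_inv, mul_one] at this
        exact this.symm
      · intro h1
        rw [h1, one_mul] at hk
        have := congrArg (fun M => ((u⁻¹ : _ˣ) : Matrix (Fin m ⊕ Fin m) (Fin m ⊕ Fin m) F) * M) hk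
        simp only [← mul_assoc, Units.inv_mul, one_mul] at this
        exact this
    have hord : orderOf B = orderOf A := by
      apply orderOf_eq_orderOf_iff.2
      intro k
      rw [← Subtype.coe_inj, ← Subtype.coe_inj (a := A ^ k), SubmonoidClass.coe_pow,
        SubmonoidClass.coe_pow]
      exact (hpow k).symm
    have hB : (orderOf B).Coprime p := by rw [hord]; exact hA
    -- same characteristic polynomial
    have hc : (A : Matrix (Fin m ⊕ Fin m) (Fin m ⊕ Fin m) F).charpoly =
        (B : Matrix (Fin m ⊕ Fin m) (Fin m ⊕ Fin m) F).charpoly := by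
      have hB' : (B : Matrix (Fin m ⊕ Fin m) (Fin m ⊕ Fin m) F) =
          (u : Matrix (Fin m ⊕ Fin m) (Fin m ⊕ Fin m) F) * A *
            ((u : Matrix (Fin m ⊕ Fin m) (Fin m ⊕ Fin m) F))⁻¹ := by
        rw [hu', mul_assoc, ← Matrix.coe_units_inv, Units.mul_inv, mul_one]
      rw [hB', Matrix.charpoly_units_conj]
    exact Lib.Helper40_SpMatrix.sp_isConj_of_charpoly_eq p A B hA hB hc

end Cfsg.Agent.S2589
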