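import Mathlib
import Cfsg.Statements.S2590
import Cfsg.Agent.Lib.Helper40_OConj
import Cfsg.Agent.Lib.Helper44_WittMat

set_option autoImplicit false
open Cfsg

namespace Cfsg.Agent.S2590

open Cfsg.Agent.Lib.Helper40_OConj Cfsg.Agent.Lib.Helper44_WittMat Cfsg.Agent.Lib.Helper44_Orth

/-- Two semisimple elements of odd order of a finite orthogonal group (isometry group of a quadratic form on F^n with non-degenerate polar form, F finite of characteristic p; the elements have odd order prime to p) are conjugate in the orthogonal group if and only if they are conjugate in GL_n(F). -/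
theorem result {F : Type*} [Field F] [Fintype F] {p : ℕ} [Fact p.Prime] [CharP F p] {n : ℕ} (Q : QuadraticForm F (Fin n → F)) (hQ : (QuadraticMap.polarBilin Q).Nondegenerate) (A B : ↥(Cfsg.isometryGroup F ⇑Q)) (hodd : Odd (orderOf A)) (hA : (orderOf A).Coprime p) : IsConj A B ↔ IsConj ((A : Matrix.GeneralLinearGroup (Fin n) F) : Matrix (Fin n) (Fin n) F) ((B : Matrix.GeneralLinearGroup (Fin n) F) : Matrix (Fin n) (Fin n) F) := by
  classical
  have hp : p.Prime := Fact.out
  constructor
  · intro h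
    obtain ⟨c, hc⟩ := isConj_iff.1 h
    refine ⟨(c : Matrix.GeneralLinearGroup (Fin n) F), ?_⟩
    have h1 : c * A = B * c := by rw [← hc, inv_mul_cancel_right]
    have h2 := congrArg (fun g : ↥(Cfsg.isometryGroup F ⇑Q) =>
      ((g : Matrix.GeneralLinearGroup (Fin n) F) : Matrix (Fin n) (Fin n) F)) h1
    exact h2
  · rintro ⟨c, hc⟩
    have hc' : (c : Matrix (Fin n) (Fin n) F) *
        ((A : Matrix.GeneralLinearGroup (Fin n) F) : Matrix (Fin n) (Fin n) F) =
        ((B : Matrix.GeneralLinearGroup (Fin n) F) : Matrix (Fin n) (Fin n) F) * c := hc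
    set N := orderOf A with hN
    set MA := ((A : Matrix.GeneralLinearGroup (Fin n) F) : Matrix (Fin n) (Fin n) F) with hMA
    set MB := ((B : Matrix.GeneralLinearGroup (Fin n) F) : Matrix (Fin n) (Fin n) F) with hMB
    have hNF : (N : F) ≠ 0 := by
      rw [Ne, CharP.cast_eq_zero_iff F p]
      intro hd
      exact (Nat.Prime.coprime_iff_not_dvd hp).1 hA.symm hd
    have hAN : MA ^ N = 1 := by
      have h1 : A ^ N = 1 := pow_orderOf_eq_one A
      have h2 := congrArg (fun g : ↥(Cfsg.isometryGroup F ⇑Q) =>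
        ((g : Matrix.GeneralLinearGroup (Fin n) F) : Matrix (Fin n) (Fin n) F)) h1
      simpa using h2
    have hcinv : (c : Matrix (Fin n) (Fin n) F) * ((c⁻¹ : (Matrix (Fin n) (Fin n) F)ˣ) :
        Matrix (Fin n) (Fin n) F) = 1 := by
      rw [← Units.val_mul, mul_inv_cancel, Units.val_one]
    have hcinv' : ((c⁻¹ : (Matrix (Fin n) (Fin n) F)ˣ) : Matrix (Fin n) (Fin n) F) *
        (c : Matrix (Fin n) (Fin n) F) = 1 := by
      rw [← Units.val_mul, inv_mul_cancel, Units.val_one]
    have hBN : MB ^ N = 1 := by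
      have h1 : ∀ k : ℕ, (c : Matrix (Fin n) (Fin n) F) * MA ^ k = MB ^ k * c := by
        intro k
        induction k with
        | zero => simp
        | succ k ih => rw [pow_succ, ← mul_assoc, ih, mul_assoc, hc', ← mul_assoc, ← pow_succ]
      have h2 := h1 N
      rw [hAN, mul_one] at h2
      calc MB ^ N = MB ^ N * ((c : Matrix (Fin n) (Fin n) F) *
            ((c⁻¹ : (Matrix (Fin n) (Fin n) F)ˣ) : Matrix (Fin n) (Fin n) F)) := by
              rw [hcinv, mul_one]
        _ = 1 := by rw [← mul_assoc, ← h2, hcinv]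
    have hiso : ∀ g : ↥(Cfsg.isometryGroup F ⇑Q), ∀ u : Fin n → F,
        Q (Matrix.toLin' ((g : Matrix.GeneralLinearGroup (Fin n) F) :
          Matrix (Fin n) (Fin n) F) u) = Q u := by
      intro g u
      rw [Matrix.toLin'_apply]
      exact (mem_isometryGroup_iff (⇑Q) (g : Matrix.GeneralLinearGroup (Fin n) F)).1 g.2 u
    have hdA : OData Q (Matrix.toLin' MA) N :=
      ⟨hiso A, by rw [← Matrix.toLin'_pow, hAN, Matrix.toLin'_one]; rfl, hodd, hNF⟩
    have hdB : OData Q (Matrix.toLin' MB) N :=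
      ⟨hiso B, by rw [← Matrix.toLin'_pow, hBN, Matrix.toLin'_one]; rfl, hodd, hNF⟩
    let C : (Fin n → F) ≃ₗ[F] (Fin n → F) :=
      LinearEquiv.ofLinearMap (Matrix.toLin' (c : Matrix (Fin n) (Fin n) F))
        (Matrix.toLin' ((c⁻¹ : (Matrix (Fin n) (Fin n) F)ˣ) : Matrix (Fin n) (Fin n) F))
        (by rw [← Matrix.toLin'_mul, hcinv, Matrix.toLin'_one])
        (by rw [← Matrix.toLin'_mul, hcinv', Matrix.toLin'_one])
    have hC : ∀ v, C (Matrix.toLin' MA v) = Matrix.toLin' MB (C v) := by
      intro v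
      show Matrix.toLin' (c : Matrix (Fin n) (Fin n) F) (Matrix.toLin' MA v) =
        Matrix.toLin' MB (Matrix.toLin' (c : Matrix (Fin n) (Fin n) F) v)
      rw [← Matrix.toLin'_mul_apply, ← Matrix.toLin'_mul_apply, hc']
    obtain ⟨g, hg1, hg2⟩ := exists_isometry_conj Q hQ _ _ N hdA hdB C hC
    rw [isConj_iff]
    refine ⟨isomOfEquiv Q g hg1, ?_⟩
    rw [mul_inv_eq_iff_eq_mul]
    apply Subtype.ext
    apply Units.ext
    apply Matrix.toLin'.injective
    apply LinearMap.ext
    intro v
    show Matrix.toLin' (((isomOfEquiv Q g hg1 : Matrix.GeneralLinearGroup (Fin n) F) :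
        Matrix (Fin n) (Fin n) F) * MA) v =
      Matrix.toLin' (MB * ((isomOfEquiv Q g hg1 : Matrix.GeneralLinearGroup (Fin n) F) :
        Matrix (Fin n) (Fin n) F)) v
    have h5 : ∀ w, Matrix.toLin' ((isomOfEquiv Q g hg1 : Matrix.GeneralLinearGroup (Fin n) F) :
        Matrix (Fin n) (Fin n) F) w = g w := by
      intro w
      rw [Matrix.toLin'_apply, isomOfEquiv_mulVec]
    rw [Matrix.toLin'_mul_apply, Matrix.toLin'_mul_apply, h5, h5]
    exact hg2 v

end Cfsg.Agent.S2590
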