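import Cfsg.Statements.S2591
import Cfsg.Agent.Lib.Helper43_SympRegClasses
import Cfsg.Agent.Lib.Helper43_SympRegExist

set_option autoImplicit false
open Cfsg

namespace Cfsg.Agent.S2591

open Matrix
open Cfsg.Agent.Lib.Helper43_RegCommutant Cfsg.Agent.Lib.Helper43_SympRegClasses
open Cfsg.Agent.Lib.Helper43_SympRegExist

theorem two_ne_zero_of_odd {F : Type*} [Field F] [Fintype F] (hq : Odd (Fintype.card F)) :
    (2 : F) ≠ 0 := by
  intro h
  have h1 : ringChar F = 2 := CharP.ringChar_of_prime_eq_zero Nat.prime_two (by exact_mod_cast h)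
  have h2 := FiniteField.even_card_of_char_two h1
  rw [Nat.odd_iff] at hq
  omega

/-- Over a finite field of odd order and for m ≥ 1, the regular unipotent elements of Sp_2m(F) (u − 1 nilpotent of rank 2m − 1, a single Jordan block) form exactly two conjugacy classes of Sp_2m(F) (one class under the similarity group, which splits in two). -/
theorem result {F : Type*} [Field F] [Fintype F] {q : ℕ} (hF : Fintype.card F = q) (hq : Odd q) {m : ℕ} (hm : 1 ≤ m) : Nat.card {C : ConjClasses ↥(Matrix.symplecticGroup (Fin m) F) // ∃ u : Matrix.symplecticGroup (Fin m) F, ConjClasses.mk u = C ∧ ((u : Matrix (Fin m ⊕ Fin m) (Fin m ⊕ Fin m) F) - 1) ^ (2 * m) = 0 ∧ ((u : Matrix (Fin m ⊕ Fin m) (Fin m ⊕ Fin m) F) - 1).rank = 2 * m - 1} = 2 := by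
  classical
  subst hF
  have h2 : (2 : F) ≠ 0 := two_ne_zero_of_odd hq
  have hcard : Fintype.card (Fin m ⊕ Fin m) = 2 * m := by
    rw [Fintype.card_sum, Fintype.card_fin, two_mul]
  have hreg_iff : ∀ u : Matrix.symplecticGroup (Fin m) F,
      (((u : Matrix (Fin m ⊕ Fin m) (Fin m ⊕ Fin m) F) - 1) ^ (2 * m) = 0 ∧
        ((u : Matrix (Fin m ⊕ Fin m) (Fin m ⊕ Fin m) F) - 1).rank = 2 * m - 1) ↔
      RegNil ((u : Matrix (Fin m ⊕ Fin m) (Fin m ⊕ Fin m) F) - 1) := by
    intro u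
    constructor
    · rintro ⟨h1, h3⟩
      exact ⟨by rw [hcard]; exact h1, by rw [hcard]; exact h3, by rw [hcard]; omega⟩
    · intro h
      refine ⟨?_, ?_⟩
      · have := h.nil
        rwa [hcard] at this
      · have := h.rank
        rwa [hcard] at this
  obtain ⟨u₀, hu₀⟩ := exists_regular_unipotent h2 m hm
  have hreg : RegNil ((u₀ : Matrix (Fin m ⊕ Fin m) (Fin m ⊕ Fin m) F) - 1) := (hreg_iff u₀).1 hu₀
  let P : Subgroup Fˣ := (powMonoidHom 2 : Fˣ →* Fˣ).range
  let R : Matrix.symplecticGroup (Fin m) F → Fˣ → Prop := fun u a => Rel u₀ u (a : F)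
  have hR1 : ∀ u : Matrix.symplecticGroup (Fin m) F,
      RegNil ((u : Matrix (Fin m ⊕ Fin m) (Fin m ⊕ Fin m) F) - 1) → ∃ a, R u a := by
    intro u hu
    obtain ⟨a, ha, hRel⟩ := exists_rel u₀ hreg hu
    exact ⟨Units.mk0 a ha, hRel⟩
  have hR6 : ∀ u a, R u a → RegNil ((u : Matrix (Fin m ⊕ Fin m) (Fin m ⊕ Fin m) F) - 1) :=
    fun u a h => Rel.reg u₀ hreg h
  have hR2 : ∀ u a a', R u a → R u a' → (QuotientGroup.mk a : Fˣ ⧸ P) = QuotientGroup.mk a' := by
    intro u a a' h h'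
    obtain ⟨c, hc⟩ := Rel.unique u₀ hreg h h'
    have hc0 : c ≠ 0 := by
      rintro rfl
      rw [zero_mul, zero_mul] at hc
      exact a'.ne_zero hc
    rw [QuotientGroup.eq]
    refine ⟨Units.mk0 c hc0, ?_⟩
    apply Units.ext
    rw [powMonoidHom_apply, Units.val_pow_eq_pow_val, Units.val_mk0, Units.val_mul,
      Units.val_inv_eq_inv_val, hc]
    field_simp
  have hR4 : ∀ u u' a, R u a → IsConj u u' → R u' a := by
    intro u u' a h hconj
    obtain ⟨s, hs⟩ := isConj_iff.mp hconj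
    rw [← hs]
    exact Rel.conj u₀ h s
  have hR3 : ∀ u u' a a', R u a → R u' a' →
      (QuotientGroup.mk a : Fˣ ⧸ P) = QuotientGroup.mk a' → IsConj u u' := by
    intro u u' a a' h h' hq'
    have hq'' := hq'.symm
    rw [QuotientGroup.eq] at hq''
    obtain ⟨c, hc⟩ := hq''
    rw [powMonoidHom_apply] at hc
    have hc' : (a : F) = (c : F) * (c : F) * (a' : F) := by
      have := congrArg Units.val hc
      rw [Units.val_pow_eq_pow_val, Units.val_mul, Units.val_inv_eq_inv_val] at this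
      have ha'0 : (a' : F) ≠ 0 := a'.ne_zero
      field_simp at this
      rw [← this]
      ring
    exact Rel.isConj u₀ hreg h2 h h' a'.ne_zero c.ne_zero hc'
  have hR5 : ∀ a : Fˣ, ∃ u, R u a := fun a => exists_rel_of_ne_zero u₀ a.ne_zero
  -- the invariant
  let θ' : Matrix.symplecticGroup (Fin m) F → Fˣ ⧸ P := fun u =>
    if h : ∃ a, R u a then (QuotientGroup.mk (Classical.choose h) : Fˣ ⧸ P) else 1
  have hθ1 : ∀ u a, R u a → θ' u = QuotientGroup.mk a := by
    intro u a hua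
    have h : ∃ a, R u a := ⟨a, hua⟩
    simp only [θ', dif_pos h]
    exact hR2 u _ _ (Classical.choose_spec h) hua
  have hθ2 : ∀ u u', IsConj u u' → θ' u = θ' u' := by
    intro u u' hconj
    by_cases h : ∃ a, R u a
    · obtain ⟨a, ha⟩ := h
      rw [hθ1 u a ha, hθ1 u' a (hR4 u u' a ha hconj)]
    · have h' : ¬ ∃ a, R u' a := by
        rintro ⟨a, ha⟩
        exact h ⟨a, hR4 u' u a ha hconj.symm⟩
      simp only [θ', dif_neg h, dif_neg h']
  let θ : ConjClasses (Matrix.symplecticGroup (Fin m) F) → Fˣ ⧸ P :=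
    Quotient.lift θ' (fun u u' (h : IsConj u u') => hθ2 u u' h)
  have hθmk : ∀ u, θ (ConjClasses.mk u) = θ' u := fun u => rfl
  let Θ : {C : ConjClasses ↥(Matrix.symplecticGroup (Fin m) F) // ∃ u : Matrix.symplecticGroup (Fin m) F, ConjClasses.mk u = C ∧ ((u : Matrix (Fin m ⊕ Fin m) (Fin m ⊕ Fin m) F) - 1) ^ (2 * m) = 0 ∧ ((u : Matrix (Fin m ⊕ Fin m) (Fin m ⊕ Fin m) F) - 1).rank = 2 * m - 1} → Fˣ ⧸ P :=
    fun C => θ C.1
  have hΘ : Function.Bijective Θ := by
    constructor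
    · rintro ⟨C, u, rfl, hu⟩ ⟨C', u', rfl, hu'⟩ hCC'
      apply Subtype.ext
      show ConjClasses.mk u = ConjClasses.mk u'
      obtain ⟨a, ha⟩ := hR1 u ((hreg_iff u).mp hu)
      obtain ⟨a', ha'⟩ := hR1 u' ((hreg_iff u').mp hu')
      have h1 : θ' u = θ' u' := hCC'
      rw [hθ1 u a ha, hθ1 u' a' ha'] at h1
      exact ConjClasses.mk_eq_mk_iff_isConj.mpr (hR3 u u' a a' ha ha' h1)
    · intro x
      obtain ⟨a, rfl⟩ := QuotientGroup.mk_surjective x
      obtain ⟨u, hu⟩ := hR5 a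
      refine ⟨⟨ConjClasses.mk u, u, rfl, (hreg_iff u).mpr (hR6 u a hu)⟩, ?_⟩
      show θ' u = _
      exact hθ1 u a hu
  rw [Nat.card_eq_of_bijective Θ hΘ]
  have hidx : P.index = (Nat.card Fˣ).gcd 2 := IsCyclic.index_powMonoidHom_range Fˣ 2
  have hcardU : Nat.card Fˣ = Fintype.card F - 1 := by
    rw [Nat.card_eq_fintype_card, Fintype.card_units]
  rw [← Subgroup.index_eq_card, hidx, hcardU]
  obtain ⟨k, hk⟩ := hq
  rw [hk, Nat.add_sub_cancel]
  exact Nat.gcd_mul_right_left k 2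

end Cfsg.Agent.S2591
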