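import Cfsg.Statements.S2592
import Cfsg.Agent.Lib.Helper43_SympAdjoint

set_option autoImplicit false
open Cfsg

namespace Cfsg.Agent.S2592

theorem two_ne_zero_of_odd_card {F : Type*} [Field F] [Fintype F] (hq : Odd (Fintype.card F)) :
    (2 : F) ≠ 0 := by
  intro h
  have h1 : ringChar F = 2 := CharP.ringChar_of_prime_eq_zero Nat.prime_two (by exact_mod_cast h)
  have h2 := FiniteField.even_card_of_char_two h1
  rw [Nat.odd_iff] at hq
  omega

/-- Over a finite field with q elements, q odd, the centraliser in Sp_2m(F) (m ≥ 1) of a regular unipotent element (u − 1 nilpotent of rank 2m − 1) has order 2 q^m. -/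
theorem result {F : Type*} [Field F] [Fintype F] {q : ℕ} (hF : Fintype.card F = q) (hq : Odd q) {m : ℕ} (hm : 1 ≤ m) (u : Matrix.symplecticGroup (Fin m) F) (hnil : ((u : Matrix (Fin m ⊕ Fin m) (Fin m ⊕ Fin m) F) - 1) ^ (2 * m) = 0) (hreg : ((u : Matrix (Fin m ⊕ Fin m) (Fin m ⊕ Fin m) F) - 1).rank = 2 * m - 1) : Nat.card ↥(Subgroup.centralizer ({u} : Set ↥(Matrix.symplecticGroup (Fin m) F))) = 2 * q ^ m := by
  subst hF
  have hcard : Fintype.card (Fin m ⊕ Fin m) = 2 * m := by
    rw [Fintype.card_sum, Fintype.card_fin, two_mul]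
  have hR : Cfsg.Agent.Lib.Helper43_RegCommutant.RegNil
      ((u : Matrix (Fin m ⊕ Fin m) (Fin m ⊕ Fin m) F) - 1) :=
    ⟨by rw [hcard]; exact hnil, by rw [hcard]; exact hreg, by rw [hcard]; omega⟩
  have := Cfsg.Agent.Lib.Helper43_SympAdjoint.card_centralizer u hR (two_ne_zero_of_odd_card hq)
  rw [this, Fintype.card_fin, Nat.card_eq_fintype_card]

end Cfsg.Agent.S2592
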