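import Cfsg.Statements.S2596
import Cfsg.Agent.Lib.Helper44_OMinusCount

set_option autoImplicit false
open Cfsg

namespace Cfsg.Agent.S2596

open Cfsg.Agent.Lib.Helper44_StdForms

/-- Number of conjugacy classes of involutions in the full orthogonal group O⁻_2m(F) of an elliptic quadratic form (Σ_(i<m−1) x_i y_i plus an anisotropic binary form) over a finite field of characteristic two (m ≥ 1): one class for each odd s ≤ m, two for each even s with 2 ≤ s < m and one for s = m when m is even, where s = rank(t − 1); in all m + ⌊(m − 1)/2⌋. -/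
theorem result {F : Type*} [Field F] [Fintype F] [CharP F 2] {m : ℕ} (hm : 1 ≤ m) (a b : F) (hab : ∀ z₁ z₂ : F, z₁ ^ 2 + a * z₁ * z₂ + b * z₂ ^ 2 = 0 → z₁ = 0 ∧ z₂ = 0) : Nat.card {C : ConjClasses ↥(Cfsg.isometryGroup F (Cfsg.quadFormMinus (m - 1) F a b)) // ∃ g : ↥(Cfsg.isometryGroup F (Cfsg.quadFormMinus (m - 1) F a b)), ConjClasses.mk g = C ∧ orderOf g = 2} = m + (m - 1) / 2 := by
  have h2 : (2 : F) = 0 := by
    have := CharP.cast_eq_zero F 2
    exact_mod_cast this
  rw [← coe_qfMinus]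
  have hc : a ≠ 0 := by
    intro hc0
    have hrc : ringChar F = 2 :=
      CharP.ringChar_of_prime_eq_zero Nat.prime_two (by exact_mod_cast h2)
    obtain ⟨e, he⟩ := FiniteField.isSquare_of_char_two hrc b
    have := (hab e 1 (by rw [hc0, he]; linear_combination e ^ 2 * h2)).2
    exact one_ne_zero this
  have hdisc : 4 * b - a ^ 2 ≠ 0 := by
    have h4 : (4 : F) = 0 := by
      have : (4 : F) = 2 * 2 := by norm_num
      rw [this, h2, mul_zero]
    rw [h4, zero_mul, zero_sub]
    exact neg_ne_zero.mpr (pow_ne_zero 2 hc)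
  have hQ : (QuadraticMap.polarBilin (qfMinus (m - 1) F a b)).Nondegenerate := by
    refine (LinearMap.BilinForm.nondegenerate_iff_det_ne_zero
      (Pi.basisFun F ((Fin (m - 1) ⊕ Fin (m - 1)) ⊕ Fin 2))).mpr ?_
    have : LinearMap.BilinForm.toMatrix (Pi.basisFun F ((Fin (m - 1) ⊕ Fin (m - 1)) ⊕ Fin 2))
        (QuadraticMap.polarBilin (qfMinus (m - 1) F a b))
        = Matrix.of (fun i j : (Fin (m - 1) ⊕ Fin (m - 1)) ⊕ Fin 2 =>
            QuadraticMap.polar (Cfsg.quadFormMinus (m - 1) F a b) (Pi.single i 1) (Pi.single j 1)) := by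
      ext i j
      simp [LinearMap.BilinForm.toMatrix_apply, coe_qfMinus]
    rw [this, det_gram_quadFormMinus]
    exact mul_ne_zero (pow_ne_zero _ (neg_ne_zero.mpr one_ne_zero)) hdisc
  rw [Cfsg.Agent.Lib.Helper44_OMinusCount.card_minus_involution_classes a b h2 hab hQ hc]
  omega

end Cfsg.Agent.S2596
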