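import Cfsg.Statements.S2599

set_option autoImplicit false
open Cfsg

namespace Cfsg.Agent.S2599

theorem result {F : Type*} [Field F] [Fintype F] {p : ℕ} [Fact p.Prime] [CharP F p] {n : ℕ} (Q : QuadraticForm F (Fin n → F)) (hQ : (QuadraticMap.polarBilin Q).Nondegenerate) (x : ↥(Cfsg.isometryGroup F ⇑Q)) (hx : (orderOf x).Coprime p) (U : Submodule F (Fin n → F)) (hU0 : U ≠ ⊥) (hUx : ∀ u ∈ U, ((x : Matrix.GeneralLinearGroup (Fin n) F) : Matrix (Fin n) (Fin n) F).mulVec u ∈ U) (hirr : ∀ W : Submodule F (Fin n → F), W ≤ U → (∀ w ∈ W, ((x : Matrix.GeneralLinearGroup (Fin n) F) : Matrix (Fin n) (Fin n) F).mulVec w ∈ W) → W = ⊥ ∨ W = U) : U ⊓ LinearMap.BilinForm.orthogonal (QuadraticMap.polarBilin Q) U = ⊥ ∨ (∀ u ∈ U, Q u = 0) ∨ (p = 2 ∧ Module.finrank F U = 1 ∧ (∃ u ∈ U, Q u ≠ 0) ∧ ∀ u ∈ U, ((x : Matrix.GeneralLinearGroup (Fin n) F) : Matrix (Fin n) (Fin n) F).mulVec u = u) := by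
  classical
  set X : Matrix (Fin n) (Fin n) F := ((x : Matrix.GeneralLinearGroup (Fin n) F) : Matrix (Fin n) (Fin n) F) with hX
  -- x preserves Q
  have hiso : ∀ u : Fin n → F, Q (X.mulVec u) = Q u := by
    intro u
    have := x.2
    exact this u u
  -- x preserves the polar form
  have hpolar : ∀ u v : Fin n → F, QuadraticMap.polar Q (X.mulVec u) (X.mulVec v) = QuadraticMap.polar Q u v := by
    intro u v
    unfold QuadraticMap.polar
    rw [← Matrix.mulVec_add, hiso, hiso, hiso]
  -- X is injective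
  have hXinj : Function.Injective X.mulVec := by
    intro u v huv
    have h1 : ((x : Matrix.GeneralLinearGroup (Fin n) F)⁻¹ : Matrix.GeneralLinearGroup (Fin n) F).1 * X = 1 := by
      rw [hX]
      have := congrArg Units.val (inv_mul_cancel (x : Matrix.GeneralLinearGroup (Fin n) F))
      rwa [Units.val_mul] at this
    have := congrArg (fun w => ((x : Matrix.GeneralLinearGroup (Fin n) F)⁻¹ : Matrix.GeneralLinearGroup (Fin n) F).1.mulVec w) huv
    simp only [Matrix.mulVec_mulVec, h1, Matrix.one_mulVec] at this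
    exact this
  -- the restriction of X to U is surjective
  have hsurj : ∀ u ∈ U, ∃ u' ∈ U, X.mulVec u' = u := by
    let f : U →ₗ[F] U := (Matrix.mulVecLin X).restrict (p := U) (q := U) (fun u hu => hUx u hu)
    have hfinj : Function.Injective f := by
      intro a b hab
      apply Subtype.ext
      apply hXinj
      have := congrArg Subtype.val hab
      exact this
    have hfsurj : Function.Surjective f := LinearMap.injective_iff_surjective.mp hfinj
    intro u hu
    obtain ⟨u', hu'⟩ := hfsurj ⟨u, hu⟩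
    refine ⟨u'.1, u'.2, ?_⟩
    have := congrArg Subtype.val hu'
    exact this
  -- W0 = U ⊓ U^⊥ is invariant
  have hW0 := hirr (U ⊓ LinearMap.BilinForm.orthogonal (QuadraticMap.polarBilin Q) U) inf_le_left (by
    intro w hw
    refine ⟨hUx w hw.1, ?_⟩
    show X.mulVec w ∈ LinearMap.BilinForm.orthogonal (QuadraticMap.polarBilin Q) U
    rw [LinearMap.BilinForm.mem_orthogonal_iff]
    intro u hu
    obtain ⟨u', hu'U, rfl⟩ := hsurj u hu
    have := (LinearMap.BilinForm.mem_orthogonal_iff.mp hw.2) u' hu'U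
    rw [QuadraticMap.polarBilin_apply_apply] at this ⊢
    rw [hpolar, this])
  rcases hW0 with h0 | h0
  · exact Or.inl h0
  right
  -- now the polar form vanishes on U
  have hortho : ∀ u ∈ U, ∀ v ∈ U, QuadraticMap.polar Q u v = 0 := by
    intro u hu v hv
    have hv' : v ∈ U ⊓ LinearMap.BilinForm.orthogonal (QuadraticMap.polarBilin Q) U := by
      rw [h0]; exact hv
    have := (LinearMap.BilinForm.mem_orthogonal_iff.mp hv'.2) u hu
    rwa [QuadraticMap.polarBilin_apply_apply] at this
  have hadd : ∀ u ∈ U, ∀ v ∈ U, Q (u + v) = Q u + Q v := by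
    intro u hu v hv
    have := hortho u hu v hv
    unfold QuadraticMap.polar at this
    linear_combination this
  -- W1 = {u ∈ U | Q u = 0}
  let W1 : Submodule F (Fin n → F) :=
    { carrier := {u | u ∈ U ∧ Q u = 0}
      add_mem' := by
        rintro a b ⟨ha, ha0⟩ ⟨hb, hb0⟩
        exact ⟨U.add_mem ha hb, by rw [hadd a ha b hb, ha0, hb0, add_zero]⟩
      zero_mem' := ⟨U.zero_mem, by simp⟩
      smul_mem' := by
        rintro c a ⟨ha, ha0⟩
        exact ⟨U.smul_mem c ha, by rw [QuadraticMap.map_smul, ha0, smul_zero]⟩ }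
  have hW1 := hirr W1 (fun u hu => hu.1) (by
    intro w hw
    exact ⟨hUx w hw.1, by rw [hiso]; exact hw.2⟩)
  rcases hW1 with h1 | h1
  · right
    have hanis : ∀ u ∈ U, Q u = 0 → u = 0 := by
      intro u hu hQu
      have : u ∈ W1 := ⟨hu, hQu⟩
      rw [h1] at this
      exact (Submodule.mem_bot F).mp this
    obtain ⟨u0, hu0U, hu0⟩ := (Submodule.ne_bot_iff U).mp hU0
    have hQu0 : Q u0 ≠ 0 := fun h => hu0 (hanis u0 hu0U h)
    -- 2 = 0
    have h2 : (2 : F) = 0 := by
      have := hortho u0 hu0U u0 hu0U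
      rw [QuadraticMap.polar_self, nsmul_eq_mul] at this
      rcases mul_eq_zero.mp this with h | h
      · exact h
      · exact absurd h hQu0
    have hp2 : p = 2 := by
      have hdvd : p ∣ 2 := by
        apply (CharP.cast_eq_zero_iff F p 2).mp
        exact_mod_cast h2
      exact (Nat.prime_dvd_prime_iff_eq (Fact.out) Nat.prime_two).mp hdvd
    have hneg : ∀ a : F, a + a = 0 := by
      intro a
      have : a + a = 2 * a := by ring
      rw [this, h2, zero_mul]
    have hfix : ∀ u ∈ U, X.mulVec u = u := by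
      intro u hu
      have hXu := hUx u hu
      have : Q (X.mulVec u + u) = 0 := by
        rw [hadd _ hXu _ hu, hiso, hneg]
      have h0' := hanis _ (U.add_mem hXu hu) this
      have : X.mulVec u = -u := eq_neg_of_add_eq_zero_left h0'
      rw [this]
      ext i
      simp only [Pi.neg_apply]
      have := hneg (u i)
      exact neg_eq_of_add_eq_zero_left this
    refine ⟨hp2, ?_, ⟨u0, hu0U, hQu0⟩, hfix⟩
    -- finrank = 1
    have hchar : ringChar F = 2 := by
      rw [← hp2]; exact ringChar.eq F p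
    have hspan : U = Submodule.span F {u0} := by
      apply le_antisymm
      · intro v hv
        obtain ⟨s, hs⟩ := FiniteField.isSquare_of_char_two hchar (Q v / Q u0)
        have hQ' : Q (v + s • u0) = 0 := by
          rw [hadd v hv _ (U.smul_mem s hu0U), QuadraticMap.map_smul, ← hs, smul_eq_mul]
          rw [div_mul_cancel₀ _ hQu0, hneg]
        have := hanis _ (U.add_mem hv (U.smul_mem s hu0U)) hQ'
        have hv' : v = -(s • u0) := eq_neg_of_add_eq_zero_left this
        rw [hv']
        exact Submodule.neg_mem _ (Submodule.smul_mem _ _ (Submodule.mem_span_singleton_self u0))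
      · rw [Submodule.span_singleton_le_iff_mem]
        exact hu0U
    rw [hspan]
    exact finrank_span_singleton hu0
  · left
    intro u hu
    have : u ∈ W1 := by rw [h1]; exact hu
    exact this.2

end Cfsg.Agent.S2599
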