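import Cfsg.Statements.S2600
import Cfsg.Agent.Lib.Helper44_Sp4Out

set_option autoImplicit false
open Cfsg

namespace Cfsg.Agent.S2600

open Cfsg.Agent.Lib.Helper44_Sp4Out Cfsg.Agent.Lib.Helper44_PSpAlg Cfsg.Agent.Lib.Helper44_PSpAut2
  Cfsg.Agent.Lib.Helper44_PSpBalance

section aux

variable {F : Type*} [Field F] [Fintype F] [CharP F 2]

theorem frob2_pow_apply (j : ℕ) (x : F) : (frob2 F ^ j) x = x ^ 2 ^ j := by
  induction j generalizing x with
  | zero => simp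
  | succ j ih =>
    rw [pow_succ, RingAut.mul_apply, ih, frob2_apply, ← pow_mul, pow_succ, mul_comm]

theorem dvd_of_frob2_pow {f : ℕ} (hF : Fintype.card F = 2 ^ f) (j : ℕ)
    (h : frob2 F ^ j = 1) : f ∣ j := by
  let _ : Algebra (ZMod 2) F := ZMod.algebra F 2
  have hfin : Module.finrank (ZMod 2) F = f := by
    have h3 := Module.card_eq_pow_finrank (K := ZMod 2) (V := F)
    rw [ZMod.card, hF] at h3
    exact (Nat.pow_right_injective (le_refl 2) h3).symm
  have hsq : FiniteField.frobeniusAlgEquivOfAlgebraic (ZMod 2) F ^ j = 1 := by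
    apply AlgEquiv.ext
    intro a
    rw [AlgEquiv.coe_pow, FiniteField.coe_frobeniusAlgEquivOfAlgebraic_iterate, ZMod.card]
    show a ^ 2 ^ j = a
    rw [← frob2_pow_apply, h]
    rfl
  have hdvd := orderOf_dvd_of_pow_eq_one hsq
  rwa [FiniteField.orderOf_frobeniusAlgEquivOfAlgebraic, hfin] at hdvd

omit [Fintype F] [CharP F 2] in
theorem inn_le_TvAut : Cfsg.Inn (Cfsg.PSp (0 + 2) F) ≤ TvAut F := by
  rintro _ ⟨t, rfl⟩
  exact presTv_conj t

theorem all_sq (c : Fˣ) : ∃ d : Fˣ, c = d * d := by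
  have hchar : ringChar F = 2 := ringChar.eq F 2
  obtain ⟨d, hd⟩ := FiniteField.isSquare_of_char_two hchar (c : F)
  have hd0 : d ≠ 0 := by
    rintro rfl
    rw [mul_zero] at hd
    exact c.ne_zero hd
  exact ⟨Units.mk0 d hd0, Units.ext hd⟩

theorem card_out {f : ℕ} (hF : Fintype.card F = 2 ^ f) :
    Nat.card (Cfsg.Out (Cfsg.PSp (0 + 2) F)) = 2 * f := by
  have h1 := card_aut_exceptional hF
  rw [range_eq_inn_of_sq (by omega) all_sq] at h1
  have h2 := Subgroup.index_mul_card (Cfsg.Inn (Cfsg.PSp (0 + 2) F))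
  rw [h1] at h2
  have hpos : 0 < Nat.card (Cfsg.Inn (Cfsg.PSp (0 + 2) F)) := Nat.card_pos
  show Nat.card (MulAut (Cfsg.PSp (0 + 2) F) ⧸ Cfsg.Inn (Cfsg.PSp (0 + 2) F)) = 2 * f
  rw [← Subgroup.index_eq_card]
  have h3 : (Cfsg.Inn (Cfsg.PSp (0 + 2) F)).index * Nat.card (Cfsg.Inn (Cfsg.PSp (0 + 2) F))
      = (2 * f) * Nat.card (Cfsg.Inn (Cfsg.PSp (0 + 2) F)) := by
    rw [h2]; ring
  exact Nat.eq_of_mul_eq_mul_right hpos h3

/-- the graph automorphism -/
noncomputable def gam0 (F : Type*) [Field F] [Fintype F] [CharP F 2] :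
    MulAut (Cfsg.PSp (0 + 2) F) := gAut0 (frob2 F) frob2_apply

theorem gam0_pow_two_mul (j : ℕ) : gam0 F ^ (2 * j) = fAut (frob2 F ^ j) := by
  rw [pow_mul, pow_two]
  show (gAut0 (frob2 F) frob2_apply * gAut0 (frob2 F) frob2_apply) ^ j = _
  rw [gAut0_sq, map_pow]

theorem dvd_of_gam0_pow_mem {f : ℕ} (hF : Fintype.card F = 2 ^ f) (n : ℕ)
    (h : gam0 F ^ n ∈ Cfsg.Inn (Cfsg.PSp (0 + 2) F)) : 2 * f ∣ n := by
  have hT : PresTv (gam0 F ^ n) := inn_le_TvAut h
  rcases Nat.even_or_odd' n with ⟨j, rfl | rfl⟩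
  · rw [gam0_pow_two_mul] at h
    have h' := inn_le_range h
    obtain ⟨g, hg⟩ := h'
    have h1 := eq_one_of_fAut_eq_cAut (k := 0) (frob2 F ^ j) g hg.symm
    exact Nat.mul_dvd_mul_left 2 (dvd_of_frob2_pow hF j h1)
  · exfalso
    rw [pow_succ, gam0_pow_two_mul] at hT
    have h1 : PresTv (fAut (m := 0 + 2) (frob2 F ^ j)) := presTv_fAut _
    have h2 : PresTv ((fAut (m := 0 + 2) (frob2 F ^ j))⁻¹ * (fAut (frob2 F ^ j) * gam0 F)) :=
      h1.inv.mul hT
    rw [inv_mul_cancel_left] at h2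
    exact gAut0_not_presTv (frob2 F) frob2_apply h2

theorem out_main {f : ℕ} (hf : 1 ≤ f) (hF : Fintype.card F = 2 ^ f) :
    IsCyclic (Cfsg.Out (Cfsg.PSp (0 + 2) F)) ∧
      Nat.card (Cfsg.Out (Cfsg.PSp (0 + 2) F)) = 2 * f := by
  have hc := card_out hF
  refine ⟨?_, hc⟩
  have hfin : Finite (Cfsg.Out (Cfsg.PSp (0 + 2) F)) :=
    Nat.finite_of_card_ne_zero (by rw [hc]; omega)
  let x : Cfsg.Out (Cfsg.PSp (0 + 2) F) := QuotientGroup.mk (gam0 F)
  have hx : orderOf x = Nat.card (Cfsg.Out (Cfsg.PSp (0 + 2) F)) := by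
    apply Nat.dvd_antisymm (orderOf_dvd_natCard x)
    rw [hc]
    apply dvd_of_gam0_pow_mem hF
    have h1 : x ^ orderOf x = 1 := pow_orderOf_eq_one x
    have h2 : ((gam0 F ^ orderOf x : MulAut (Cfsg.PSp (0 + 2) F)) :
        Cfsg.Out (Cfsg.PSp (0 + 2) F)) = 1 := h1
    exact (QuotientGroup.eq_one_iff _).mp h2
  exact isCyclic_of_orderOf_eq_card x hx

end aux

/-- Outer automorphism group of PSp_4(q) for q = 2^f even: it is cyclic of order 2f, generated by the class of the exceptional (graph-field) automorphism whose square is the Frobenius field automorphism. -/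
theorem result {F : Type*} [Field F] [Fintype F] {f : ℕ} (hf : 1 ≤ f) (hF : Fintype.card F = 2 ^ f) : IsCyclic (Cfsg.Out (Cfsg.PSp 2 F)) ∧ Nat.card (Cfsg.Out (Cfsg.PSp 2 F)) = 2 * f := by
  have : CharP F 2 := charP_of_card_eq_prime_pow hF
  exact out_main hf hF

end Cfsg.Agent.S2600
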