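import Cfsg.Statements.S2602
import Cfsg.Agent.Lib.Helper42_AutPSL2

set_option autoImplicit false
open Cfsg

namespace Cfsg.Agent.S2602

/-- Structure of the outer automorphism group of PSL_2(q), q = p^f ≥ 4: it has a normal cyclic subgroup of order gcd(2, q − 1) (diagonal automorphisms) with cyclic quotient of order f (field automorphisms); there is no graph automorphism in dimension 2. -/
theorem result {F : Type*} [Field F] [Fintype F] {p f : ℕ} [Fact p.Prime] (hf : 1 ≤ f) (hF : Fintype.card F = p ^ f) (h4 : 4 ≤ p ^ f) : ∃ φ : Cfsg.Out (Matrix.ProjectiveSpecialLinearGroup (Fin 2) F) →* Multiplicative (ZMod f), Function.Surjective φ ∧ IsCyclic φ.ker ∧ Nat.card φ.ker = Nat.gcd 2 (p ^ f - 1) := by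
  classical
  obtain ⟨e⟩ := Cfsg.Agent.Lib.Helper42_AutPSL2.ringAut_mulEquiv hF
  have hInn : Cfsg.Inn (Matrix.ProjectiveSpecialLinearGroup (Fin 2) F) ≤
      (Cfsg.Agent.Lib.Helper42_AutPSL2.phi0 hF).ker := by
    rintro _ ⟨h, rfl⟩
    exact Cfsg.Agent.Lib.Helper42_AutPSL2.phi0_conj hF h
  let phi : Cfsg.Out (Matrix.ProjectiveSpecialLinearGroup (Fin 2) F) →* RingAut F :=
    QuotientGroup.lift (Cfsg.Inn (Matrix.ProjectiveSpecialLinearGroup (Fin 2) F))
      (Cfsg.Agent.Lib.Helper42_AutPSL2.phi0 hF) hInn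
  have phi_mk : ∀ α : MulAut (Matrix.ProjectiveSpecialLinearGroup (Fin 2) F),
      phi (QuotientGroup.mk α) = Cfsg.Agent.Lib.Helper42_AutPSL2.phi0 hF α := fun α => rfl
  let δ : Fˣ →* Cfsg.Out (Matrix.ProjectiveSpecialLinearGroup (Fin 2) F) :=
    (QuotientGroup.mk' (Cfsg.Inn (Matrix.ProjectiveSpecialLinearGroup (Fin 2) F))).comp
      Cfsg.Agent.Lib.Helper42_AutPSL2.diagHom
  have δ_apply : ∀ c : Fˣ, δ c = QuotientGroup.mk (Cfsg.Agent.Lib.Helper42_AutPSL2.diagHom c) :=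
    fun c => rfl
  have mk_conj : ∀ h : Matrix.ProjectiveSpecialLinearGroup (Fin 2) F,
      (QuotientGroup.mk (MulAut.conj h) : Cfsg.Out (Matrix.ProjectiveSpecialLinearGroup (Fin 2) F)) = 1 :=
    fun h => (QuotientGroup.eq_one_iff _).mpr ⟨h, rfl⟩
  have hker : phi.ker = δ.range := by
    ext x
    constructor
    · intro hx
      obtain ⟨α, rfl⟩ := QuotientGroup.mk_surjective x
      rw [MonoidHom.mem_ker, phi_mk] at hx
      obtain ⟨h, c, σ, rfl⟩ := Cfsg.Agent.Lib.Helper42_AutPSL2.aut_classification hF α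
      have hσ : σ = 1 := by
        rw [map_mul, map_mul, Cfsg.Agent.Lib.Helper42_AutPSL2.phi0_conj,
          Cfsg.Agent.Lib.Helper42_AutPSL2.phi0_diag, Cfsg.Agent.Lib.Helper42_AutPSL2.phi0_field,
          one_mul, one_mul] at hx
        exact hx
      subst hσ
      refine ⟨c, ?_⟩
      rw [Cfsg.Agent.Lib.Helper42_AutPSL2.descend_fEquiv_one, mul_one, QuotientGroup.mk_mul, mk_conj,
        one_mul, δ_apply]
      rfl
    · rintro ⟨c, rfl⟩
      rw [MonoidHom.mem_ker, δ_apply, phi_mk]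
      exact Cfsg.Agent.Lib.Helper42_AutPSL2.phi0_diag hF c
  have hδker : δ.ker = (powMonoidHom 2 : Fˣ →* Fˣ).range := by
    ext c
    constructor
    · intro hc
      rw [MonoidHom.mem_ker, δ_apply, QuotientGroup.eq_one_iff] at hc
      obtain ⟨h, hh⟩ := hc
      obtain ⟨e', he'⟩ := Cfsg.Agent.Lib.Helper42_AutPSL2.isSquare_of_diagHom_inner c h hh.symm
      exact ⟨e', he'.symm⟩
    · rintro ⟨e', rfl⟩
      rw [MonoidHom.mem_ker, δ_apply, powMonoidHom_apply,
        Cfsg.Agent.Lib.Helper42_AutPSL2.diagHom_sq]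
      exact mk_conj _
  have hcardδ : Nat.card δ.range = Nat.gcd 2 (p ^ f - 1) := by
    rw [← Subgroup.index_ker, hδker, IsCyclic.index_powMonoidHom_range, Nat.card_units,
      Nat.card_eq_fintype_card, hF, Nat.gcd_comm]
  let φ : Cfsg.Out (Matrix.ProjectiveSpecialLinearGroup (Fin 2) F) →* Multiplicative (ZMod f) :=
    e.toMonoidHom.comp phi
  have hφker : φ.ker = δ.range := by
    rw [← hker]
    ext x
    rw [MonoidHom.mem_ker, MonoidHom.mem_ker]
    exact MulEquiv.map_eq_one_iff e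
  refine ⟨φ, ?_, ?_, ?_⟩
  · intro y
    refine ⟨QuotientGroup.mk (Cfsg.Agent.Lib.Helper42_AutPSL2.descend
      (Cfsg.Agent.Lib.Helper42_AutPSL2.fEquiv (e.symm y))), ?_⟩
    change e (phi (QuotientGroup.mk _)) = y
    rw [phi_mk, Cfsg.Agent.Lib.Helper42_AutPSL2.phi0_field, MulEquiv.apply_symm_apply]
  · rw [hφker]
    exact isCyclic_of_surjective δ.rangeRestrict δ.rangeRestrict_surjective
  · rw [hφker]
    exact hcardδ

end Cfsg.Agent.S2602
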