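import Cfsg.Statements.S2630
import Cfsg.Agent.S2629
import Cfsg.Agent.Lib.Helper44_Omega2

set_option autoImplicit false
open Cfsg

namespace Cfsg.Agent.S2630

open Module Matrix Cfsg.Agent.Lib.Helper44_StdForms Cfsg.Agent.Lib.Helper44_Refl
  Cfsg.Agent.Lib.Helper44_Spinor Cfsg.Agent.Lib.Helper44_CD2 Cfsg.Agent.Lib.Helper44_Omega2

/-- For the hyperbolic form Σ x_i y_i on F^(2m) over a finite field of characteristic two (m ≥ 1, excluding m = 2 over the field of two elements), an isometry g preserves the class of the maximal totally singular subspace U₀ = {y = 0} (m − dim(U₀ ∩ gU₀) even) if and only if g lies in Ω (the commutator subgroup of the orthogonal group): the stabiliser of each class is Ω. -/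
theorem result {F : Type*} [Field F] [Fintype F] [CharP F 2] {m : ℕ} (hm : 1 ≤ m) (h : Fintype.card F ≠ 2 ∨ m ≠ 2) (g : ↥(Cfsg.isometryGroup F (Cfsg.quadFormPlus m F))) : Even (m - Module.finrank F ↥(LinearMap.ker (LinearMap.funLeft F F (Sum.inr : Fin m → Fin m ⊕ Fin m)) ⊓ (LinearMap.ker (LinearMap.funLeft F F (Sum.inr : Fin m → Fin m ⊕ Fin m))).map (Matrix.mulVecLin ((g : Matrix.GeneralLinearGroup (Fin m ⊕ Fin m) F) : Matrix (Fin m ⊕ Fin m) (Fin m ⊕ Fin m) F)))) ↔ g ∈ Cfsg.Omega F (Cfsg.quadFormPlus m F) := by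
  have h2 : (2 : F) = 0 := by
    have := CharP.cast_eq_zero F 2
    exact_mod_cast this
  have hex : Fintype.card F ≠ 2 ∨ Fintype.card (Fin m ⊕ Fin m) ≠ 4 := by
    rcases h with h | h
    · exact Or.inl h
    · right
      rw [Fintype.card_sum, Fintype.card_fin]
      omega
  revert g
  rw [← coe_qfPlus]
  intro g
  have hQ := Cfsg.Agent.S2629.nondegenerate_qfPlus m F
  change Even (m - Cfsg.Agent.S2629.dimInt m F _) ↔ _
  constructor
  · intro he
    obtain ⟨vs, hvs, hg⟩ := exists_list_reflT_two h2 (qfPlus m F) hQ hex g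
    have hcoe := prod_reflT_coe (qfPlus m F) vs hvs
    rw [← hg] at hcoe
    obtain ⟨-, -, k3, -⟩ := Cfsg.Agent.S2629.key m F vs hvs
    rw [hcoe, k3] at he
    exact (mem_omega_iff_even (qfPlus m F) h2 hQ hex g).mpr ⟨vs, hvs, he, hg⟩
  · intro hg
    obtain ⟨vs, hvs, he, hgv⟩ := (mem_omega_iff_even (qfPlus m F) h2 hQ hex g).mp hg
    have hcoe := prod_reflT_coe (qfPlus m F) vs hvs
    rw [← hgv] at hcoe
    obtain ⟨-, -, k3, -⟩ := Cfsg.Agent.S2629.key m F vs hvs
    rw [hcoe, k3]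
    exact he

end Cfsg.Agent.S2630
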