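import Cfsg.Statements.S2611
import Cfsg.Agent.S2630
import Cfsg.Agent.Lib.Helper44_Levi

set_option autoImplicit false
open Cfsg

namespace Cfsg.Agent.S2611

open Module Matrix Cfsg.Agent.Lib.Helper44_StdForms Cfsg.Agent.Lib.Helper44_Levi

/-- The standard maximal totally singular subspace is stable under the Levi subgroup. -/
theorem finrank_inf_levi {m : ℕ} {F : Type*} [Field F] (A : GL (Fin m) F) :
    Module.finrank F ↥(LinearMap.ker (LinearMap.funLeft F F (Sum.inr : Fin m → Fin m ⊕ Fin m)) ⊓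
      (LinearMap.ker (LinearMap.funLeft F F (Sum.inr : Fin m → Fin m ⊕ Fin m))).map
        (Matrix.mulVecLin ((leviHom m F A : GL (Fin m ⊕ Fin m) F) :
          Matrix (Fin m ⊕ Fin m) (Fin m ⊕ Fin m) F))) = m := by
  have hle : LinearMap.ker (LinearMap.funLeft F F (Sum.inr : Fin m → Fin m ⊕ Fin m)) ≤
      (LinearMap.ker (LinearMap.funLeft F F (Sum.inr : Fin m → Fin m ⊕ Fin m))).map
        (Matrix.mulVecLin ((leviHom m F A : GL (Fin m ⊕ Fin m) F) :
          Matrix (Fin m ⊕ Fin m) (Fin m ⊕ Fin m) F)) := by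
    intro u hu
    have hu' := (Cfsg.Agent.S2629.mem_U0 m F u).mp hu
    refine ⟨blk m F (A⁻¹).1 A.1 *ᵥ u, ?_, ?_⟩
    · apply (Cfsg.Agent.S2629.mem_U0 m F _).mpr
      intro i
      rw [blk, Matrix.fromBlocks_mulVec]
      have : u ∘ Sum.inr = 0 := by funext k; exact hu' k
      simp [this]
    · rw [Matrix.mulVecLin_apply, Matrix.mulVec_mulVec]
      change (blk m F A.1 (A⁻¹).1 * blk m F (A⁻¹).1 A.1) *ᵥ u = u
      rw [blk_mul, ← Units.val_mul, mul_inv_cancel]
      change blk m F 1 1 *ᵥ u = u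
      rw [blk_one, Matrix.one_mulVec]
  rw [inf_eq_left.mpr hle]
  exact Cfsg.Agent.S2629.finrank_U0 m F

/-- For the hyperbolic quadratic form Σ x_i y_i on F^(2m) (F finite, m ≥ 1, excluding m = 2 over the field of two elements) and an invertible m × m matrix A, the block-diagonal isometry diag(A, (A⁻¹)ᵀ), which stabilises the two maximal totally singular subspaces x = 0 and y = 0, lies in Ω⁺_2m(F) (the commutator subgroup of the orthogonal group) if and only if det A is a square in F. -/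
theorem result {F : Type*} [Field F] [Fintype F] {m : ℕ} (hm : 1 ≤ m) (h : Fintype.card F ≠ 2 ∨ m ≠ 2) (A : GL (Fin m) F) : (∃ g : ↥(Cfsg.isometryGroup F (Cfsg.quadFormPlus m F)), g ∈ Cfsg.Omega F (Cfsg.quadFormPlus m F) ∧ ((g : Matrix.GeneralLinearGroup (Fin m ⊕ Fin m) F) : Matrix (Fin m ⊕ Fin m) (Fin m ⊕ Fin m) F) = Matrix.fromBlocks (A : Matrix (Fin m) (Fin m) F) 0 0 ((A : Matrix (Fin m) (Fin m) F)⁻¹).transpose) ↔ IsSquare (A : Matrix (Fin m) (Fin m) F).det := by
  have hmem : leviHom m F A ∈ Cfsg.Omega F (⇑(qfPlus m F)) ↔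
      IsSquare (A : Matrix (Fin m) (Fin m) F).det := by
    by_cases h2 : (2 : F) = 0
    · have : CharP F 2 := CharTwo.of_one_ne_zero_of_two_eq_zero one_ne_zero h2
      have hchar : ringChar F = 2 :=
        CharP.ringChar_of_prime_eq_zero Nat.prime_two (by exact_mod_cast h2)
      have key : ∀ g : ↥(Cfsg.isometryGroup F (Cfsg.quadFormPlus m F)), _ ↔ _ :=
        fun g => Cfsg.Agent.S2630.result hm h g
      rw [← coe_qfPlus] at key
      have k1 := key (leviHom m F A)
      rw [finrank_inf_levi, Nat.sub_self] at k1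
      exact ⟨fun _ => FiniteField.isSquare_of_char_two hchar _, fun _ => k1.mp ⟨0, rfl⟩⟩
    · exact leviHom_mem_omega_iff m F h2 A
  rw [← hmem, ← leviHom_coe m F A]
  rw [← coe_qfPlus]
  constructor
  · rintro ⟨g, hg, hgA⟩
    have : g = leviHom m F A := Subtype.ext (Units.ext hgA)
    rwa [this] at hg
  · intro hg
    exact ⟨leviHom m F A, hg, rfl⟩

end Cfsg.Agent.S2611
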