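import Cfsg.Statements.S2612
import Cfsg.Agent.S2629
import Cfsg.Agent.S2630
import Cfsg.Agent.Lib.Helper44_SwapPairs

set_option autoImplicit false
open Cfsg

namespace Cfsg.Agent.S2612

open Module Matrix Cfsg.Agent.Lib.Helper44_StdForms Cfsg.Agent.Lib.Helper44_Refl
  Cfsg.Agent.Lib.Helper44_Spinor Cfsg.Agent.Lib.Helper44_ReflProd
  Cfsg.Agent.Lib.Helper44_Omega2 Cfsg.Agent.Lib.Helper44_SwapPairs

theorem swap_mulVec {m : ℕ} {F : Type*} [Field F] (v : Fin m ⊕ Fin m → F) :
    (Matrix.fromBlocks (0 : Matrix (Fin m) (Fin m) F) (1 : Matrix (Fin m) (Fin m) F) (1 : Matrix (Fin m) (Fin m) F) (0 : Matrix (Fin m) (Fin m) F)) *ᵥ v = fun a => v a.swap := by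
  funext a
  rcases a with a | a
  · simp [Matrix.mulVec, dotProduct, Matrix.one_apply]
  · simp [Matrix.mulVec, dotProduct, Matrix.one_apply]

/-- A swapping isometry moves `U₀ = {y = 0}` to a complement. -/
theorem finrank_inf_eq_zero {m : ℕ} {F : Type*} [Field F]
    (M : Matrix (Fin m ⊕ Fin m) (Fin m ⊕ Fin m) F)
    (hM : ∀ v : Fin m ⊕ Fin m → F, (∀ i, v (Sum.inr i) = 0) → ∀ i, (M.mulVec v) (Sum.inl i) = 0) :
    Module.finrank F ↥(LinearMap.ker (LinearMap.funLeft F F (Sum.inr : Fin m → Fin m ⊕ Fin m)) ⊓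
      (LinearMap.ker (LinearMap.funLeft F F (Sum.inr : Fin m → Fin m ⊕ Fin m))).map
        (Matrix.mulVecLin M)) = 0 := by
  have : LinearMap.ker (LinearMap.funLeft F F (Sum.inr : Fin m → Fin m ⊕ Fin m)) ⊓
      (LinearMap.ker (LinearMap.funLeft F F (Sum.inr : Fin m → Fin m ⊕ Fin m))).map
        (Matrix.mulVecLin M) = ⊥ := by
    rw [eq_bot_iff]
    rintro x ⟨hx1, v, hv, rfl⟩
    have hv' := (Cfsg.Agent.S2629.mem_U0 m F v).mp hv
    have hx1' := (Cfsg.Agent.S2629.mem_U0 m F _).mp hx1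
    rw [Submodule.mem_bot]
    funext a
    rcases a with a | a
    · exact hM v hv' a
    · exact hx1' a
  rw [this, finrank_bot]

/-- For the hyperbolic quadratic form Σ x_i y_i on F^(2m) (F finite, m ≥ 1, excluding m = 2 over the field of two elements), Ω⁺_2m(F) (the commutator subgroup of the orthogonal group) contains an element interchanging the two complementary maximal totally singular subspaces {y = 0} and {x = 0} if and only if m is even (dimension divisible by 4). -/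
theorem result {F : Type*} [Field F] [Fintype F] {m : ℕ} (hm : 1 ≤ m) (h : Fintype.card F ≠ 2 ∨ m ≠ 2) : (∃ g : ↥(Cfsg.isometryGroup F (Cfsg.quadFormPlus m F)), g ∈ Cfsg.Omega F (Cfsg.quadFormPlus m F) ∧ (∀ v : Fin m ⊕ Fin m → F, (∀ i, v (Sum.inr i) = 0) → ∀ i, (((g : Matrix.GeneralLinearGroup (Fin m ⊕ Fin m) F) : Matrix (Fin m ⊕ Fin m) (Fin m ⊕ Fin m) F).mulVec v) (Sum.inl i) = 0) ∧ (∀ v : Fin m ⊕ Fin m → F, (∀ i, v (Sum.inl i) = 0) → ∀ i, (((g : Matrix.GeneralLinearGroup (Fin m ⊕ Fin m) F) : Matrix (Fin m ⊕ Fin m) (Fin m ⊕ Fin m) F).mulVec v) (Sum.inr i) = 0)) ↔ Even m := by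
  have hswap1 : ∀ v : Fin m ⊕ Fin m → F, (∀ i, v (Sum.inr i) = 0) → ∀ i,
      ((Matrix.fromBlocks (0 : Matrix (Fin m) (Fin m) F) (1 : Matrix (Fin m) (Fin m) F) (1 : Matrix (Fin m) (Fin m) F) (0 : Matrix (Fin m) (Fin m) F)).mulVec v) (Sum.inl i) = 0 := by
    intro v hv i
    rw [swap_mulVec]; exact hv i
  have hswap2 : ∀ v : Fin m ⊕ Fin m → F, (∀ i, v (Sum.inl i) = 0) → ∀ i,
      ((Matrix.fromBlocks (0 : Matrix (Fin m) (Fin m) F) (1 : Matrix (Fin m) (Fin m) F) (1 : Matrix (Fin m) (Fin m) F) (0 : Matrix (Fin m) (Fin m) F)).mulVec v) (Sum.inr i) = 0 := by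
    intro v hv i
    rw [swap_mulVec]; exact hv i
  by_cases h2 : (2 : F) = 0
  · -- characteristic two
    have : CharP F 2 := CharTwo.of_one_ne_zero_of_two_eq_zero one_ne_zero h2
    constructor
    · rintro ⟨g, hg, hg1, -⟩
      have := (Cfsg.Agent.S2630.result hm h g).mpr hg
      rwa [finrank_inf_eq_zero _ hg1, Nat.sub_zero] at this
    · intro he
      have hex : Fintype.card F ≠ 2 ∨ Fintype.card (Fin m ⊕ Fin m) ≠ 4 := by
        rcases h with h | h
        · exact Or.inl h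
        · right
          rw [Fintype.card_sum, Fintype.card_fin]
          omega
      obtain ⟨vs, hvs, hJ, hlen, -⟩ := swap_isReflProd m F
      have hmem := even_prod_mem_omega (qfPlus m F) h2 (Cfsg.Agent.S2629.nondegenerate_qfPlus m F)
        hex vs hvs (hlen.symm ▸ he)
      have hcoe := prod_reflT_coe (qfPlus m F) vs hvs
      rw [← hJ] at hcoe
      revert hmem hcoe
      generalize (vs.map (reflT (qfPlus m F))).prod = g
      revert g
      rw [coe_qfPlus]
      intro g hmem hcoe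
      exact ⟨g, hmem, by rw [hcoe]; exact hswap1, by rw [hcoe]; exact hswap2⟩
  · -- odd characteristic
    constructor
    · rintro ⟨g, hg, hg1, -⟩
      have hdet : ((g : Matrix.GeneralLinearGroup (Fin m ⊕ Fin m) F) :
          Matrix (Fin m ⊕ Fin m) (Fin m ⊕ Fin m) F).det = 1 := by
        let detHom : ↥(Cfsg.isometryGroup F (Cfsg.quadFormPlus m F)) →* Fˣ :=
          (Matrix.GeneralLinearGroup.det).comp (Subgroup.subtype _)
        have hk : g ∈ detHom.ker := Abelianization.commutator_subset_ker detHom hg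
        have h1 : detHom g = 1 := MonoidHom.mem_ker.mp hk
        have h3 := congrArg (fun u : Fˣ => (u : F)) h1
        simpa [detHom] using h3
      have := (Cfsg.Agent.S2629.result h2 hm g).mpr hdet
      rwa [finrank_inf_eq_zero _ hg1, Nat.sub_zero] at this
    · intro he
      have hrp := swap_isReflProd m F
      have hex := (IsReflProd.exists_mem_omega_iff h2 hrp).mpr
        ⟨he, by rw [he.neg_one_pow]; exact ⟨1, by ring⟩⟩
      revert hex
      rw [coe_qfPlus]
      rintro ⟨g, hg, hgJ⟩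
      exact ⟨g, hg, by rw [hgJ]; exact hswap1, by rw [hgJ]; exact hswap2⟩

end Cfsg.Agent.S2612
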