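import Cfsg.Statements.S2619
-- import your own Cfsg.Agent.* helpers here

set_option autoImplicit false
open Cfsg

namespace Cfsg.Agent.S2619

/-- Over a finite field of characteristic two, given an alternating bilinear form B on a finite-dimensional space, a basis (v_i) and scalars (λ_i), there is exactly one quadratic form whose polar form is B and whose value at each v_i is λ_i. -/
theorem result {F V ι : Type*} [Field F] [Finite F] [CharP F 2] [AddCommGroup V] [Module F V] [Fintype ι] (b : Module.Basis ι F V) (B : LinearMap.BilinForm F V) (hB : B.IsAlt) (c : ι → F) : ∃! Q : QuadraticForm F V, QuadraticMap.polarBilin Q = B ∧ ∀ i, Q (b i) = c i := by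
  classical
  -- an injection to ℕ giving an order on the index type
  let e : ι ≃ Fin (Fintype.card ι) := Fintype.equivFin ι
  let M : Matrix ι ι F := fun i j =>
    if e i < e j then B (b i) (b j) else if i = j then c i else 0
  let A : LinearMap.BilinForm F V := Matrix.toBilin b M
  have hA : ∀ i j, A (b i) (b j) = M i j := by
    intro i j
    have := congrFun (congrFun (LinearMap.BilinForm.toMatrix_toBilin b M) i) j
    rw [LinearMap.BilinForm.toMatrix_apply] at this
    exact this
  have hskew : ∀ x y, B y x = B x y := by
    intro x y
    have := hB.neg_eq x y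
    rw [← this, CharTwo.neg_eq]
  refine ⟨LinearMap.BilinMap.toQuadraticMap A, ⟨?_, ?_⟩, ?_⟩
  · rw [LinearMap.BilinMap.polarBilin_toQuadraticMap]
    apply LinearMap.BilinForm.ext_basis b
    intro i j
    simp only [LinearMap.add_apply, LinearMap.flip_apply, hA]
    simp only [M]
    rcases lt_trichotomy (e i) (e j) with h | h | h
    · have hne : j ≠ i := by rintro rfl; exact lt_irrefl _ h
      simp [h, not_lt.mpr h.le, hne]
    · have hij : i = j := e.injective h
      subst hij
      simp [CharTwo.add_self_eq_zero, hB.self_eq_zero]
    · have hne : i ≠ j := by rintro rfl; exact lt_irrefl _ h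
      simp [h, not_lt.mpr h.le, hne, hskew]
  · intro i
    rw [LinearMap.BilinMap.toQuadraticMap_apply, hA]
    simp [M]
  · rintro Q' ⟨hQ'1, hQ'2⟩
    set Q := LinearMap.BilinMap.toQuadraticMap A with hQdef
    have hQ1 : QuadraticMap.polarBilin Q = B := by
      rw [hQdef, LinearMap.BilinMap.polarBilin_toQuadraticMap]
      apply LinearMap.BilinForm.ext_basis b
      intro i j
      simp only [LinearMap.add_apply, LinearMap.flip_apply, hA]
      simp only [M]
      rcases lt_trichotomy (e i) (e j) with h | h | h
      · have hne : j ≠ i := by rintro rfl; exact lt_irrefl _ h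
        simp [h, not_lt.mpr h.le, hne]
      · have hij : i = j := e.injective h
        subst hij
        simp [CharTwo.add_self_eq_zero, hB.self_eq_zero]
      · have hne : i ≠ j := by rintro rfl; exact lt_irrefl _ h
        simp [h, not_lt.mpr h.le, hne, hskew]
    have hQ2 : ∀ i, Q (b i) = c i := by
      intro i
      rw [hQdef, LinearMap.BilinMap.toQuadraticMap_apply, hA]
      simp [M]
    -- the difference is additive
    have hadd : ∀ x y, Q' (x + y) - Q (x + y) = (Q' x - Q x) + (Q' y - Q y) := by
      intro x y
      have h1 : QuadraticMap.polar ⇑Q' x y = QuadraticMap.polar ⇑Q x y := by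
        rw [← QuadraticMap.polarBilin_apply_apply, ← QuadraticMap.polarBilin_apply_apply, hQ'1, hQ1]
      simp only [QuadraticMap.polar] at h1
      linear_combination h1
    let d : V →+ F := AddMonoidHom.mk' (fun x => Q' x - Q x) hadd
    have hd : ∀ x, d x = Q' x - Q x := fun _ => rfl
    apply QuadraticMap.ext
    intro v
    have hv : d v = 0 := by
      rw [← b.sum_repr v, map_sum]
      apply Finset.sum_eq_zero
      intro i _
      rw [hd, QuadraticMap.map_smul, QuadraticMap.map_smul, hQ'2, hQ2]
      simp
    rw [hd] at hv
    exact sub_eq_zero.mp hv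

end Cfsg.Agent.S2619
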