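import Cfsg.Statements.S2622
import Cfsg.Agent.Lib.Helper44_Orthonormal2

set_option autoImplicit false
open Cfsg

namespace Cfsg.Agent.S2622

/-- Over a finite field of characteristic two, a non-degenerate symmetric bilinear form that is not alternating (some vector v has B(v, v) ≠ 0) admits an orthonormal basis. -/
theorem result {F V : Type*} [Field F] [Finite F] [CharP F 2] [AddCommGroup V] [Module F V] [FiniteDimensional F V] {n : ℕ} (hV : Module.finrank F V = n) (B : LinearMap.BilinForm F V) (hS : B.IsSymm) (hB : B.Nondegenerate) (hna : ∃ v : V, B v v ≠ 0) : ∃ b : Module.Basis (Fin n) F V, ∀ i j, B (b i) (b j) = if i = j then 1 else 0 := by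
  classical
  have hs : ∀ x y, B x y = B y x := fun x y => hS.eq x y
  obtain ⟨w, hw⟩ := Cfsg.Agent.Lib.Helper44_Orthonormal2.orthonormal_family n V B hV hs hB
    (fun _ => hna)
  rcases Nat.eq_zero_or_pos n with hn | hn
  · subst hn
    exact ⟨basisOfFinrankZero hV, fun i => i.elim0⟩
  · have : Nonempty (Fin n) := ⟨⟨0, hn⟩⟩
    have hgram : (Matrix.of fun k l => B (w k) (w l)) = (1 : Matrix (Fin n) (Fin n) F) := by
      ext k l
      simp [hw, Matrix.one_apply]
    have hdet : (Matrix.of fun k l => B (w k) (w l)).det ≠ 0 := by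
      rw [hgram, Matrix.det_one]; exact one_ne_zero
    obtain ⟨b, hb⟩ := Cfsg.Agent.Lib.Helper44_QuadClass.exists_basis_of_gram B w hdet (by simp [hV])
    refine ⟨b, ?_⟩
    intro i j
    rw [hb]
    exact hw i j

end Cfsg.Agent.S2622
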