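import Cfsg.Statements.S2624
import Cfsg.Agent.Lib.Helper44_Simil
import Cfsg.Agent.S2616

set_option autoImplicit false
open Cfsg

namespace Cfsg.Agent.S2624

/-- For a quadratic form Q on F^n with non-degenerate polar form, F finite and n ≥ 2 even, every non-zero scalar c is the multiplier of some similarity: there is an invertible linear map g with Q(g v) = c·Q(v) for all v. -/
theorem result {F : Type*} [Field F] [Fintype F] {n : ℕ} (hn : 2 ≤ n) (he : Even n) (Q : QuadraticForm F (Fin n → F)) (hQ : (QuadraticMap.polarBilin Q).Nondegenerate) (c : F) (hc : c ≠ 0) : ∃ g : (Fin n → F) ≃ₗ[F] (Fin n → F), ∀ v, Q (g v) = c * Q v := by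
  classical
  obtain ⟨m, hm⟩ := he
  have hm1 : 1 ≤ m := by omega
  have hV : Module.finrank F (Fin n → F) = 2 * m := by
    rw [Module.finrank_fin_fun]; omega
  rcases Cfsg.Agent.S2616.result hm1 hV Q hQ with
    ⟨b, hq, hef, hee⟩ | ⟨b, ζ, hirr, hq, hef, hee, hxy, hx, hxyp, hy⟩
  · -- hyperbolic case: scale the e_i by c
    apply Cfsg.Agent.Lib.Helper44_Simil.similarity_of_basis b Q hQ hc
      (fun k => Sum.elim (fun i => c • b (Sum.inl i)) (fun i => b (Sum.inr i)) k)
    · intro k
      rcases k with i | i
      · simp [QuadraticMap.map_smul, (hq i).1]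
      · simp [(hq i).2]
    · intro k l
      rcases k with i | i <;> rcases l with j | j
      · simp [QuadraticMap.polar_smul_left, QuadraticMap.polar_smul_right, (hee i j).1]
      · simp [QuadraticMap.polar_smul_left]
      · simp [QuadraticMap.polar_smul_right]
      · simp [(hee i j).2]
  · -- elliptic case
    obtain ⟨a, d, had⟩ := Cfsg.Agent.Lib.Helper44_Simil.binary_universal hirr c hc
    set x := b (Sum.inr 0) with hxdef
    set y := b (Sum.inr 1) with hydef
    have hyx : QuadraticMap.polar (⇑Q) y x = 1 := by rw [QuadraticMap.polar_comm]; exact hxyp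
    have hxx : QuadraticMap.polar (⇑Q) x x = 2 := by
      rw [Cfsg.Agent.Lib.Helper44_QuadClass.polar_self', hx, mul_one]
    have hyy : QuadraticMap.polar (⇑Q) y y = 2 * ζ := by
      rw [Cfsg.Agent.Lib.Helper44_QuadClass.polar_self', hy]
    -- orthogonality of the hyperbolic part with x and y
    have hex : ∀ i, QuadraticMap.polar (⇑Q) (b (Sum.inl (Sum.inl i))) x = 0 := fun i => (hxy i 0).1
    have hey : ∀ i, QuadraticMap.polar (⇑Q) (b (Sum.inl (Sum.inl i))) y = 0 := fun i => (hxy i 1).1
    have hfx : ∀ i, QuadraticMap.polar (⇑Q) (b (Sum.inl (Sum.inr i))) x = 0 := fun i => (hxy i 0).2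
    have hfy : ∀ i, QuadraticMap.polar (⇑Q) (b (Sum.inl (Sum.inr i))) y = 0 := fun i => (hxy i 1).2
    have hxe : ∀ i, QuadraticMap.polar (⇑Q) x (b (Sum.inl (Sum.inl i))) = 0 := fun i => by
      rw [QuadraticMap.polar_comm]; exact hex i
    have hye : ∀ i, QuadraticMap.polar (⇑Q) y (b (Sum.inl (Sum.inl i))) = 0 := fun i => by
      rw [QuadraticMap.polar_comm]; exact hey i
    have hxf : ∀ i, QuadraticMap.polar (⇑Q) x (b (Sum.inl (Sum.inr i))) = 0 := fun i => by
      rw [QuadraticMap.polar_comm]; exact hfx i
    have hyf : ∀ i, QuadraticMap.polar (⇑Q) y (b (Sum.inl (Sum.inr i))) = 0 := fun i => by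
      rw [QuadraticMap.polar_comm]; exact hfy i
    have hfe : ∀ i j, QuadraticMap.polar (⇑Q) (b (Sum.inl (Sum.inr i))) (b (Sum.inl (Sum.inl j)))
        = if i = j then 1 else 0 := fun i j => by
      rw [QuadraticMap.polar_comm, hef j i]; simp [eq_comm]
    set gx : Fin n → F := a • x + d • y with hgx
    set gy : Fin n → F := (-(d * ζ)) • x + (a + d) • y with hgy
    have hQgx : Q gx = c := by
      rw [hgx, Cfsg.Agent.Lib.Helper44_QuadClass.map_smul_add, QuadraticMap.map_smul,
        QuadraticMap.polar_smul_right, hx, hy, hxyp]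
      simp only [smul_eq_mul]
      linear_combination had
    have hQgy : Q gy = c * ζ := by
      rw [hgy, Cfsg.Agent.Lib.Helper44_QuadClass.map_smul_add, QuadraticMap.map_smul,
        QuadraticMap.polar_smul_right, hx, hy, hxyp]
      simp only [smul_eq_mul]
      linear_combination ζ * had
    have hBg : QuadraticMap.polar (⇑Q) gx gy = c := by
      rw [hgx, hgy]
      simp only [QuadraticMap.polar_add_left, QuadraticMap.polar_add_right,
        QuadraticMap.polar_smul_left, QuadraticMap.polar_smul_right, hxx, hyy, hxyp, hyx, smul_eq_mul]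
      linear_combination had
    have hBg' : QuadraticMap.polar (⇑Q) gy gx = c := by rw [QuadraticMap.polar_comm]; exact hBg
    apply Cfsg.Agent.Lib.Helper44_Simil.similarity_of_basis b Q hQ hc
      (fun k => Sum.elim (Sum.elim (fun i => c • b (Sum.inl (Sum.inl i)))
        (fun i => b (Sum.inl (Sum.inr i)))) ![gx, gy] k)
    · intro k
      rcases k with (i | i) | k
      · simp [QuadraticMap.map_smul, (hq i).1]
      · simp [(hq i).2]
      · fin_cases k
        · simp [hQgx, ← hxdef, hx]
        · simp [hQgy, ← hydef, hy]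
    · intro k l
      rcases k with (i | i) | k <;> rcases l with (j | j) | l
      · simp [QuadraticMap.polar_smul_left, QuadraticMap.polar_smul_right, (hee i j).1]
      · simp [QuadraticMap.polar_smul_left]
      · fin_cases l
        · simp [hgx, QuadraticMap.polar_smul_left, QuadraticMap.polar_smul_right,
            QuadraticMap.polar_add_right, ← hxdef, ← hydef, hex, hey]
        · simp [hgy, QuadraticMap.polar_smul_left, QuadraticMap.polar_smul_right,
            QuadraticMap.polar_add_right, ← hxdef, ← hydef, hex, hey]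
      · simp [QuadraticMap.polar_smul_right]
      · simp [(hee i j).2]
      · fin_cases l
        · simp [hgx, QuadraticMap.polar_smul_right,
            QuadraticMap.polar_add_right, ← hxdef, ← hydef, hfx, hfy]
        · simp [hgy, QuadraticMap.polar_smul_right,
            QuadraticMap.polar_add_right, ← hxdef, ← hydef, hfx, hfy]
      · fin_cases k
        · simp [hgx, QuadraticMap.polar_smul_left, QuadraticMap.polar_smul_right,
            QuadraticMap.polar_add_left, ← hxdef, ← hydef, hxe, hye]
        · simp [hgy, QuadraticMap.polar_smul_left, QuadraticMap.polar_smul_right,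
            QuadraticMap.polar_add_left, ← hxdef, ← hydef, hxe, hye]
      · fin_cases k
        · simp [hgx, QuadraticMap.polar_smul_left,
            QuadraticMap.polar_add_left, ← hxdef, ← hydef, hxf, hyf]
        · simp [hgy, QuadraticMap.polar_smul_left,
            QuadraticMap.polar_add_left, ← hxdef, ← hydef, hxf, hyf]
      · fin_cases k <;> fin_cases l
        · show QuadraticMap.polar (⇑Q) gx gx = c * QuadraticMap.polar (⇑Q) (b (Sum.inr 0)) (b (Sum.inr 0))
          rw [Cfsg.Agent.Lib.Helper44_QuadClass.polar_self', hQgx, ← hxdef, hxx]; ring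
        · show QuadraticMap.polar (⇑Q) gx gy = c * QuadraticMap.polar (⇑Q) (b (Sum.inr 0)) (b (Sum.inr 1))
          rw [hBg, ← hxdef, ← hydef, hxyp, mul_one]
        · show QuadraticMap.polar (⇑Q) gy gx = c * QuadraticMap.polar (⇑Q) (b (Sum.inr 1)) (b (Sum.inr 0))
          rw [hBg', ← hxdef, ← hydef, hyx, mul_one]
        · show QuadraticMap.polar (⇑Q) gy gy = c * QuadraticMap.polar (⇑Q) (b (Sum.inr 1)) (b (Sum.inr 1))
          rw [Cfsg.Agent.Lib.Helper44_QuadClass.polar_self', hQgy, ← hydef, hyy]; ring

end Cfsg.Agent.S2624
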