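import Cfsg.Statements.S2625
-- import your own Cfsg.Agent.* helpers here

set_option autoImplicit false
open Cfsg

namespace Cfsg.Agent.S2625

/-- For a quadratic form Q on F^n with non-degenerate polar form, F finite and n odd (so |F| is odd), the multiplier of any similarity is a square: if g is an invertible linear map with Q(g v) = c·Q(v) for all v then c is a square. -/
theorem result {F : Type*} [Field F] [Fintype F] {n : ℕ} (hn : Odd n) (Q : QuadraticForm F (Fin n → F)) (hQ : (QuadraticMap.polarBilin Q).Nondegenerate) (g : (Fin n → F) ≃ₗ[F] (Fin n → F)) (c : F) (hg : ∀ v, Q (g v) = c * Q v) : IsSquare c := by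
  classical
  by_cases hc : c = 0
  · subst hc; exact ⟨0, by simp⟩
  set B : LinearMap.BilinForm F (Fin n → F) := QuadraticMap.polarBilin Q with hB
  have hpol : ∀ u v, B (g u) (g v) = c * B u v := by
    intro u v
    simp only [hB, QuadraticMap.polarBilin_apply_apply, QuadraticMap.polar]
    rw [← map_add, hg, hg, hg]; ring
  have hcomp : LinearMap.BilinForm.comp B (g : (Fin n → F) →ₗ[F] (Fin n → F))
      (g : (Fin n → F) →ₗ[F] (Fin n → F)) = c • B := by
    apply LinearMap.ext; intro u; apply LinearMap.ext; intro v
    simp only [LinearMap.BilinForm.comp_apply, LinearEquiv.coe_coe, LinearMap.smul_apply,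
      smul_eq_mul]
    exact hpol _ _
  have hmat := congrArg LinearMap.BilinForm.toMatrix' hcomp
  rw [LinearMap.BilinForm.toMatrix'_comp, map_smul] at hmat
  have hdet := congrArg Matrix.det hmat
  rw [Matrix.det_mul, Matrix.det_mul, Matrix.det_transpose, Matrix.det_smul] at hdet
  have hG : (LinearMap.BilinForm.toMatrix' B).det ≠ 0 := by
    have := (LinearMap.BilinForm.nondegenerate_iff_det_ne_zero (Pi.basisFun F (Fin n))).mp hQ
    simpa [LinearMap.BilinForm.toMatrix_basisFun] using this
  simp only [Fintype.card_fin] at hdet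
  set d := (LinearMap.toMatrix' (g : (Fin n → F) →ₗ[F] (Fin n → F))).det with hd
  have h1 : d * d = c ^ n := by
    have : d * (LinearMap.BilinForm.toMatrix' B).det * d = c ^ n * (LinearMap.BilinForm.toMatrix' B).det := hdet
    have h2 : (d * d) * (LinearMap.BilinForm.toMatrix' B).det = c ^ n * (LinearMap.BilinForm.toMatrix' B).det := by
      rw [← this]; ring
    exact mul_right_cancel₀ hG h2
  obtain ⟨j, hj⟩ := hn
  refine ⟨d / c ^ j, ?_⟩
  have hcj : c ^ j ≠ 0 := pow_ne_zero _ hc
  rw [div_mul_div_comm, h1, hj]
  field_simp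
  ring

end Cfsg.Agent.S2625
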