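import Cfsg.Statements.S2627
import Cfsg.Agent.Lib.Helper44_SumForm
import Cfsg.Agent.Lib.Helper44_OmegaAll

set_option autoImplicit false
open Cfsg

namespace Cfsg.Agent.S2627

open Cfsg.Agent.Lib.Helper44_Orth Cfsg.Agent.Lib.Helper44_Refl Cfsg.Agent.Lib.Helper44_Spinor
  Cfsg.Agent.Lib.Helper44_SumForm Cfsg.Agent.Lib.Helper44_OmegaAll Cfsg.Agent.Lib.Helper44_Omega2

/-- For an orthogonal direct sum Q = Q₁ ⊕ Q₂ of quadratic forms with non-degenerate polar forms over a finite field, an isometry g₁ of Q₁ extended by the identity on the second summand lies in Ω(Q) (the commutator subgroup of the orthogonal group of Q) if and only if g₁ lies in Ω(Q₁). (Excluded: the field of two elements when the first summand or the whole space has dimension 4, where the commutator subgroup of O⁺₄(2) is smaller than the group usually called Ω.) -/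
theorem result {F : Type*} [Field F] [Fintype F] {k l : ℕ} (h : Fintype.card F ≠ 2 ∨ (k ≠ 4 ∧ k + l ≠ 4)) (Q₁ : QuadraticForm F (Fin k → F)) (Q₂ : QuadraticForm F (Fin l → F)) (h₁ : (QuadraticMap.polarBilin Q₁).Nondegenerate) (h₂ : (QuadraticMap.polarBilin Q₂).Nondegenerate) (g₁ : ↥(Cfsg.isometryGroup F ⇑Q₁)) : (∃ g : ↥(Cfsg.isometryGroup F (fun v : Fin k ⊕ Fin l → F => Q₁ (v ∘ Sum.inl) + Q₂ (v ∘ Sum.inr))), g ∈ Cfsg.Omega F (fun v : Fin k ⊕ Fin l → F => Q₁ (v ∘ Sum.inl) + Q₂ (v ∘ Sum.inr)) ∧ ((g : Matrix.GeneralLinearGroup (Fin k ⊕ Fin l) F) : Matrix (Fin k ⊕ Fin l) (Fin k ⊕ Fin l) F) = Matrix.fromBlocks ((g₁ : Matrix.GeneralLinearGroup (Fin k) F) : Matrix (Fin k) (Fin k) F) 0 0 1) ↔ g₁ ∈ Cfsg.Omega F ⇑Q₁ := by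
  classical
  have hex1 : Fintype.card F ≠ 2 ∨ Fintype.card (Fin k) ≠ 4 := by
    rcases h with h | h
    · exact Or.inl h
    · right
      rw [Fintype.card_fin]
      exact h.1
  have hS := nondegenerate_sumQF Q₁ Q₂ h₁ h₂
  constructor
  · rintro ⟨g, hg, hmat⟩
    obtain ⟨vs, hvs, hg1⟩ := exists_list_reflT_all Q₁ h₁ hex1 g₁
    have hcoe1 := prod_reflT_coe Q₁ vs hvs
    rw [← hg1] at hcoe1
    have hval : ∀ v : Fin k → F, sumQF Q₁ Q₂ (Sum.elim v 0) = Q₁ v := by
      intro v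
      rw [sumQF_apply]
      have e1 : (Sum.elim v (0 : Fin l → F) : Fin k ⊕ Fin l → F) ∘ Sum.inl = v := rfl
      have e2 : (Sum.elim v (0 : Fin l → F) : Fin k ⊕ Fin l → F) ∘ Sum.inr = 0 := rfl
      rw [e1, e2, map_zero, add_zero]
    have hws : ∀ w ∈ vs.map (fun v => (Sum.elim v 0 : Fin k ⊕ Fin l → F)),
        sumQF Q₁ Q₂ w ≠ 0 := by
      intro w hw
      obtain ⟨v, hv, rfl⟩ := List.mem_map.mp hw
      rw [hval]
      exact hvs v hv
    have hgmat : ((g : Matrix.GeneralLinearGroup (Fin k ⊕ Fin l) F) :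
          Matrix (Fin k ⊕ Fin l) (Fin k ⊕ Fin l) F)
        = ((vs.map (fun v => (Sum.elim v 0 : Fin k ⊕ Fin l → F))).map
            (fun w => Cfsg.reflectionMatrix (⇑(sumQF Q₁ Q₂)) w)).prod := by
      rw [hmat, hcoe1, blockLeft_prod]
    have hg' : (show ↥(Cfsg.isometryGroup F ⇑(sumQF Q₁ Q₂)) from g) ∈ Cfsg.Omega F ⇑(sumQF Q₁ Q₂) := hg
    by_cases h2 : (2 : F) = 0
    · have hgp : (show ↥(Cfsg.isometryGroup F ⇑(sumQF Q₁ Q₂)) from g)
          = ((vs.map (fun v => (Sum.elim v 0 : Fin k ⊕ Fin l → F))).map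
              (reflT (sumQF Q₁ Q₂))).prod := by
        apply Subtype.ext
        apply Units.ext
        rw [prod_reflT_coe _ _ hws]
        exact hgmat
      rw [hgp] at hg'
      have hev := even_of_prod_mem_omega h2 _ hS _ hws hg'
      rw [List.length_map] at hev
      exact mem_omega_of_even Q₁ h2 h₁ hex1 g₁ vs hvs hev hg1
    · have h3 := (mem_omega_iff (sumQF Q₁ Q₂) h2 _ _ hws hgmat).mp hg'
      rw [mem_omega_iff Q₁ h2 g₁ vs hvs hcoe1]
      rw [List.length_map, List.map_map] at h3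
      have hfun : ((fun v => (sumQF Q₁ Q₂) v) ∘ fun v => (Sum.elim v 0 : Fin k ⊕ Fin l → F))
          = fun v => Q₁ v := by
        funext v
        exact hval v
      rw [hfun] at h3
      exact h3
  · intro hg₁
    exact ⟨isomLeft (⇑Q₁) (⇑Q₂) g₁, map_mem_commutator _ hg₁, rfl⟩

end Cfsg.Agent.S2627
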