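import Cfsg.Statements.S2628
import Cfsg.Agent.Lib.Helper44_SumForm
import Cfsg.Agent.Lib.Helper44_OmegaAll

set_option autoImplicit false
open Cfsg

namespace Cfsg.Agent.S2628

/-- For the orthogonal direct sum Q ⊕ Q of two copies of a quadratic form Q with non-degenerate polar form on F^k (F finite), every isometry g of Q acting diagonally, diag(g, g), lies in Ω(Q ⊕ Q), the commutator subgroup of the orthogonal group of Q ⊕ Q. (Excluded: k = 2 over the field of two elements, where Q ⊕ Q is the hyperbolic 4-space whose orthogonal group's commutator subgroup is smaller than the group usually called Ω.) -/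
theorem result {F : Type*} [Field F] [Fintype F] {k : ℕ} (h : Fintype.card F ≠ 2 ∨ k ≠ 2) (Q : QuadraticForm F (Fin k → F)) (hQ : (QuadraticMap.polarBilin Q).Nondegenerate) (g : ↥(Cfsg.isometryGroup F ⇑Q)) : ∃ x : ↥(Cfsg.isometryGroup F (fun v : Fin k ⊕ Fin k → F => Q (v ∘ Sum.inl) + Q (v ∘ Sum.inr))), x ∈ Cfsg.Omega F (fun v : Fin k ⊕ Fin k → F => Q (v ∘ Sum.inl) + Q (v ∘ Sum.inr)) ∧ ((x : Matrix.GeneralLinearGroup (Fin k ⊕ Fin k) F) : Matrix (Fin k ⊕ Fin k) (Fin k ⊕ Fin k) F) = Matrix.fromBlocks ((g : Matrix.GeneralLinearGroup (Fin k) F) : Matrix (Fin k) (Fin k) F) 0 0 ((g : Matrix.GeneralLinearGroup (Fin k) F) : Matrix (Fin k) (Fin k) F) := by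
  classical
  open scoped commutatorElement in
  have hex : Fintype.card F ≠ 2 ∨ Fintype.card (Fin k ⊕ Fin k) ≠ 4 := by
    rcases h with h | h
    · exact Or.inl h
    · right
      rw [Fintype.card_sum, Fintype.card_fin]
      omega
  have hQQ := Cfsg.Agent.Lib.Helper44_SumForm.nondegenerate_sumQF Q Q hQ hQ
  let a : ↥(Cfsg.isometryGroup F ⇑(Cfsg.Agent.Lib.Helper44_SumForm.sumQF Q Q)) :=
    Cfsg.Agent.Lib.Helper44_Orth.isomLeft (⇑Q) (⇑Q) g
  let b : ↥(Cfsg.isometryGroup F ⇑(Cfsg.Agent.Lib.Helper44_SumForm.sumQF Q Q)) :=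
    Cfsg.Agent.Lib.Helper44_Orth.isomRight (⇑Q) (⇑Q) g
  let s : ↥(Cfsg.isometryGroup F ⇑(Cfsg.Agent.Lib.Helper44_SumForm.sumQF Q Q)) :=
    Cfsg.Agent.Lib.Helper44_SumForm.swapIsom (⇑Q)
  have hab : a * b = (a * a) * ⁅a⁻¹, s⁆ :=
    Cfsg.Agent.Lib.Helper44_SumForm.diag_eq (⇑Q) g
  have hmem : a * b ∈ Cfsg.Omega F ⇑(Cfsg.Agent.Lib.Helper44_SumForm.sumQF Q Q) := by
    rw [hab]
    refine Subgroup.mul_mem _
      (Cfsg.Agent.Lib.Helper44_OmegaAll.mul_self_mem_omega _ hQQ hex a) ?_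
    show ⁅a⁻¹, s⁆ ∈ commutator _
    rw [commutator_def]
    exact Subgroup.commutator_mem_commutator (Subgroup.mem_top _) (Subgroup.mem_top _)
  refine ⟨a * b, hmem, ?_⟩
  show (Matrix.fromBlocks ((g : Matrix.GeneralLinearGroup (Fin k) F) : Matrix (Fin k) (Fin k) F) 0 0 1
      : Matrix (Fin k ⊕ Fin k) (Fin k ⊕ Fin k) F)
    * Matrix.fromBlocks 1 0 0 ((g : Matrix.GeneralLinearGroup (Fin k) F) : Matrix (Fin k) (Fin k) F)
    = _
  rw [Matrix.fromBlocks_multiply]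
  simp

end Cfsg.Agent.S2628
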