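import Cfsg.Statements.S2631
import Cfsg.Agent.Lib.Helper44_Scaling
import Cfsg.Agent.Lib.Helper44_Parity
import Cfsg.Agent.Lib.Helper44_StdForms
import Cfsg.Agent.S2629

set_option autoImplicit false
open Cfsg

namespace Cfsg.Agent.S2631

open Module Cfsg.Agent.Lib.Helper44_Orth Cfsg.Agent.Lib.Helper44_Refl Cfsg.Agent.Lib.Helper44_Spinor
  Cfsg.Agent.Lib.Helper44_WittMat Cfsg.Agent.Lib.Helper44_Supplement Cfsg.Agent.Lib.Helper44_Scaling
  Cfsg.Agent.Lib.Helper44_Parity Cfsg.Agent.Lib.Helper44_StdForms Cfsg.Agent.Lib.Helper44_OmegaAll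

/-- For the hyperbolic form Σ x_i y_i on F^(2m) over a finite field (m ≥ 1, excluding m = 2 over the field of two elements), Ω (the commutator subgroup of the orthogonal group) acts transitively on each of the two classes of maximal totally singular subspaces: if U and W are m-dimensional totally singular subspaces with m − dim(U ∩ W) even, some element of Ω carries U to W. -/
theorem result {F : Type*} [Field F] [Fintype F] {m : ℕ} (hm : 1 ≤ m) (h : Fintype.card F ≠ 2 ∨ m ≠ 2) (U W : Submodule F (Fin m ⊕ Fin m → F)) (hU : Module.finrank F U = m) (hW : Module.finrank F W = m) (hU0 : ∀ u ∈ U, Cfsg.quadFormPlus m F u = 0) (hW0 : ∀ w ∈ W, Cfsg.quadFormPlus m F w = 0) (he : Even (m - Module.finrank F ↥(U ⊓ W))) : ∃ g : ↥(Cfsg.isometryGroup F (Cfsg.quadFormPlus m F)), g ∈ Cfsg.Omega F (Cfsg.quadFormPlus m F) ∧ U.map (Matrix.mulVecLin ((g : Matrix.GeneralLinearGroup (Fin m ⊕ Fin m) F) : Matrix (Fin m ⊕ Fin m) (Fin m ⊕ Fin m) F)) = W := by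
  classical
  rw [← coe_qfPlus] at hU0 hW0 ⊢
  have hex : Fintype.card F ≠ 2 ∨ Fintype.card (Fin m ⊕ Fin m) ≠ 4 := by
    rcases h with h | h
    · exact Or.inl h
    · right
      rw [Fintype.card_sum, Fintype.card_fin]
      omega
  have hQ := Cfsg.Agent.S2629.nondegenerate_qfPlus m F
  obtain ⟨g, hg⟩ := exists_map_eq_of_ts (qfPlus m F) hQ U W (hU.trans hW.symm) hU0 hW0
  obtain ⟨ws, hws, hgw⟩ := exists_list_reflT_all (qfPlus m F) hQ hex g
  have hV : Fintype.card (Fin m ⊕ Fin m) = 2 * m := by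
    rw [Fintype.card_sum, Fintype.card_fin]; ring
  obtain ⟨-, -, k3⟩ := parity_key (qfPlus m F) hQ hV U hU0 hU ws hws
  have hcoe := prod_reflT_coe (qfPlus m F) ws hws
  rw [← hgw] at hcoe
  have hev : Even ws.length := by
    rw [← k3, dimI, ← hcoe, hg]
    exact he
  have hWne : W ≠ ⊥ := by
    intro hbot
    rw [hbot, finrank_bot] at hW
    omega
  apply exists_omega_map_eq (⇑(qfPlus m F)) U W g hg
  rw [hgw]
  exact exists_mul_mem_omega_of_even (qfPlus m F) hQ hex (stab (⇑(qfPlus m F)) W)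
    (fun _ c hc => scaling_mem_stab (qfPlus m F) hQ W hW0 hWne c hc) ws hws hev

end Cfsg.Agent.S2631
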