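import Cfsg.Statements.S2632
import Cfsg.Agent.Lib.Helper44_Universal

set_option autoImplicit false
open Cfsg

namespace Cfsg.Agent.S2632

open Module Cfsg.Agent.Lib.Helper44_Orth Cfsg.Agent.Lib.Helper44_Refl Cfsg.Agent.Lib.Helper44_Spinor
  Cfsg.Agent.Lib.Helper44_WittMat Cfsg.Agent.Lib.Helper44_Supplement Cfsg.Agent.Lib.Helper44_Scaling
  Cfsg.Agent.Lib.Helper44_CD2 Cfsg.Agent.Lib.Helper44_Universal

/-- Ω is transitive on non-degenerate subspaces of each isometry type: for a quadratic form Q on F^n, n ≥ 3, with non-degenerate polar form (F finite; excluding dimension 4 over the field of two elements), if U and W are subspaces on which the polar form is non-degenerate and there is a Q-preserving linear isomorphism U → W, then some element of Ω (the commutator subgroup of the orthogonal group) carries U to W. (In dimension 2 this fails: Ω can be {±1}, which fixes every line.) -/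
theorem result {F : Type*} [Field F] [Fintype F] {n : ℕ} (hn : 3 ≤ n) (h : Fintype.card F ≠ 2 ∨ n ≠ 4) (Q : QuadraticForm F (Fin n → F)) (hQ : (QuadraticMap.polarBilin Q).Nondegenerate) (U W : Submodule F (Fin n → F)) (hU : U ⊓ LinearMap.BilinForm.orthogonal (QuadraticMap.polarBilin Q) U = ⊥) (hW : W ⊓ LinearMap.BilinForm.orthogonal (QuadraticMap.polarBilin Q) W = ⊥) (e : U ≃ₗ[F] W) (he : ∀ u : U, Q (e u : Fin n → F) = Q (u : Fin n → F)) : ∃ g : ↥(Cfsg.isometryGroup F ⇑Q), g ∈ Cfsg.Omega F ⇑Q ∧ U.map (Matrix.mulVecLin ((g : Matrix.GeneralLinearGroup (Fin n) F) : Matrix (Fin n) (Fin n) F)) = W := by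
  classical
  have hex : Fintype.card F ≠ 2 ∨ Fintype.card (Fin n) ≠ 4 := by
    rw [Fintype.card_fin]; exact h
  obtain ⟨g, -, hg⟩ := witt_matrix Q hQ U W e he
  apply exists_omega_map_eq (⇑Q) U W g hg
  by_cases hd : 2 ≤ finrank F W
  · exact exists_mul_mem_omega_of_nondeg Q hQ hex (stab (⇑Q) W) W hW hd
      (fun v hv hv0 => reflT_mem_stab_of_mem Q W hv0 hv) g
  · have h1 := LinearMap.BilinForm.finrank_orthogonal hQ W
    have h2 : finrank F (Fin n → F) = n := by simp
    rw [h2] at h1
    have h3 : 2 ≤ finrank F ↥(orth Q W) := by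
      have : finrank F ↥(orth Q W) = n - finrank F W := h1
      omega
    exact exists_mul_mem_omega_of_nondeg Q hQ hex (stab (⇑Q) W) (orth Q W)
      (orth_inf_orth_orth Q hQ hW) h3
      (fun v hv hv0 => reflT_mem_stab_of_mem_orth Q W hv0 hv) g

end Cfsg.Agent.S2632
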