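import Cfsg.Statements.S2633
import Cfsg.Agent.Lib.Helper44_Scaling

set_option autoImplicit false
open Cfsg

namespace Cfsg.Agent.S2633

open Module Cfsg.Agent.Lib.Helper44_Orth Cfsg.Agent.Lib.Helper44_Refl Cfsg.Agent.Lib.Helper44_Spinor
  Cfsg.Agent.Lib.Helper44_WittMat Cfsg.Agent.Lib.Helper44_Supplement Cfsg.Agent.Lib.Helper44_Scaling
  Cfsg.Agent.Lib.Helper44_CD2

/-- Ω is transitive on totally singular subspaces of each dimension less than half the dimension: for a quadratic form Q on F^n with non-degenerate polar form (F finite; excluding dimension 4 over the field of two elements), if U and W are subspaces of the same dimension k with 2k < n on which Q vanishes, then some element of Ω (the commutator subgroup of the orthogonal group) carries U to W. -/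
theorem result {F : Type*} [Field F] [Fintype F] {n : ℕ} (h : Fintype.card F ≠ 2 ∨ n ≠ 4) (Q : QuadraticForm F (Fin n → F)) (hQ : (QuadraticMap.polarBilin Q).Nondegenerate) (U W : Submodule F (Fin n → F)) {k : ℕ} (hk : 2 * k < n) (hU : Module.finrank F U = k) (hW : Module.finrank F W = k) (hU0 : ∀ u ∈ U, Q u = 0) (hW0 : ∀ w ∈ W, Q w = 0) : ∃ g : ↥(Cfsg.isometryGroup F ⇑Q), g ∈ Cfsg.Omega F ⇑Q ∧ U.map (Matrix.mulVecLin ((g : Matrix.GeneralLinearGroup (Fin n) F) : Matrix (Fin n) (Fin n) F)) = W := by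
  classical
  have hex : Fintype.card F ≠ 2 ∨ Fintype.card (Fin n) ≠ 4 := by
    rw [Fintype.card_fin]; exact h
  obtain ⟨g, hg⟩ := exists_map_eq_of_ts Q hQ U W (hU.trans hW.symm) hU0 hW0
  apply exists_omega_map_eq (⇑Q) U W g hg
  by_cases hW0' : W = ⊥
  · refine ⟨g⁻¹, ?_, ?_⟩
    · rw [mem_stab, hW0', Submodule.map_bot]
    · rw [inv_mul_cancel]
      exact Subgroup.one_mem _
  · obtain ⟨v₀, hv₀o, hv₀⟩ := exists_nonsingular_orth Q hQ W (by rw [hW, Fintype.card_fin]; exact hk)
    exact exists_mul_mem_omega Q hQ hex (stab (⇑Q) W) v₀ hv₀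
      (reflT_mem_stab_of_mem_orth Q W hv₀ hv₀o)
      (fun _ c hc => scaling_mem_stab Q hQ W hW0 hW0' c hc) g

end Cfsg.Agent.S2633
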