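import Cfsg.Statements.S2634
import Cfsg.Agent.Lib.Helper44_Omega2

set_option autoImplicit false
open Cfsg

namespace Cfsg.Agent.S2634

open Module Matrix Cfsg.Agent.Lib.Helper44_Refl Cfsg.Agent.Lib.Helper44_Spinor
  Cfsg.Agent.Lib.Helper44_CD2 Cfsg.Agent.Lib.Helper44_Omega2
  Cfsg.Agent.Lib.Helper14_CartanDieudonne

variable {ι : Type} [Fintype ι] [DecidableEq ι] {F : Type*} [Field F] [Fintype F]

theorem reflT_mul_coe (Q : QuadraticForm F (ι → F)) {a b : ι → F} (ha : Q a ≠ 0) (hb : Q b ≠ 0) :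
    ((reflT Q a * reflT Q b : ↥(Cfsg.isometryGroup F ⇑Q)) : Matrix.GeneralLinearGroup ι F).1
      = Cfsg.reflectionMatrix ⇑Q a * Cfsg.reflectionMatrix ⇑Q b := by
  have : ((reflT Q a * reflT Q b : ↥(Cfsg.isometryGroup F ⇑Q)) : Matrix.GeneralLinearGroup ι F).1
      = (reflT Q a : Matrix.GeneralLinearGroup ι F).1
        * (reflT Q b : Matrix.GeneralLinearGroup ι F).1 := rfl
  rw [this, reflT_coe Q a ha, reflT_coe Q b hb]

/-- In characteristic two, `Ω` is transitive on the non-singular vectors of a given norm. -/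
theorem exists_omega_move (h2 : (2 : F) = 0) (Q : QuadraticForm F (ι → F))
    (hQ : (QuadraticMap.polarBilin Q).Nondegenerate)
    (hex : Fintype.card F ≠ 2 ∨ Fintype.card ι ≠ 4) {a b : ι → F} (ha : Q a ≠ 0)
    (hab : Q a = Q b) :
    ∃ g : ↥(Cfsg.isometryGroup F ⇑Q), g ∈ Cfsg.Omega F ⇑Q ∧
      ((g : Matrix.GeneralLinearGroup ι F) : Matrix ι ι F) *ᵥ a = b := by
  have hchar : ringChar F = 2 := CharP.ringChar_of_prime_eq_zero Nat.prime_two (by exact_mod_cast h2)
  have hb : Q b ≠ 0 := hab ▸ ha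
  have h2a : Q a + Q a = 0 := by rw [← two_mul, h2, zero_mul]
  by_cases h1 : a = b
  · refine ⟨1, Subgroup.one_mem _, ?_⟩
    rw [h1]
    exact Matrix.one_mulVec b
  by_cases hd : Q (a - b) ≠ 0
  · refine ⟨reflT Q b * reflT Q (a - b), ?_, ?_⟩
    · apply mem_omega_of_even Q h2 hQ hex _ [b, a - b] _ ⟨1, rfl⟩ (by simp)
      intro w hw
      simp only [List.mem_cons, List.not_mem_nil, or_false] at hw
      rcases hw with rfl | rfl
      · exact hb
      · exact hd
    · rw [reflT_mul_coe Q hb hd, ← Matrix.mulVec_mulVec, reflection_sub_apply Q hab hd]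
      exact refl_fix Q b b (polar_self_zero h2 Q b)
  rw [not_not] at hd
  have hpol : QuadraticMap.polar (⇑Q) a b = 0 := by
    have := map_sub_eq Q a b
    rw [hd, ← hab, QuadraticMap.polar_comm] at this
    linear_combination this + h2a
  obtain ⟨z, hz, haz, hbz⟩ := exists_connector h2 Q hQ hex ha hb h1 hpol
  obtain ⟨e, he⟩ := FiniteField.isSquare_of_char_two hchar (Q a * (Q z)⁻¹)
  have he0 : e ≠ 0 := by
    rintro rfl
    rw [mul_zero] at he
    exact (mul_ne_zero ha (inv_ne_zero hz)) he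
  have hQez : Q (e • z) = Q a := by
    rw [QuadraticMap.map_smul, smul_eq_mul, ← he]
    field_simp
  have hd1 : Q (a - e • z) ≠ 0 := by
    rw [map_sub_eq, hQez, h2a, zero_sub, neg_ne_zero, QuadraticMap.polar_smul_left, smul_eq_mul,
      QuadraticMap.polar_comm]
    exact mul_ne_zero he0 haz
  have hd2 : Q (e • z - b) ≠ 0 := by
    rw [map_sub_eq, hQez, ← hab, h2a, zero_sub, neg_ne_zero, QuadraticMap.polar_smul_right,
      smul_eq_mul]
    exact mul_ne_zero he0 hbz
  refine ⟨reflT Q (e • z - b) * reflT Q (a - e • z), ?_, ?_⟩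
  · apply mem_omega_of_even Q h2 hQ hex _ [e • z - b, a - e • z] _ ⟨1, rfl⟩ (by simp)
    intro w hw
    simp only [List.mem_cons, List.not_mem_nil, or_false] at hw
    rcases hw with rfl | rfl
    · exact hd2
    · exact hd1
  · rw [reflT_mul_coe Q hd2 hd1, ← Matrix.mulVec_mulVec, reflection_sub_apply Q hQez.symm hd1,
      reflection_sub_apply Q (hQez.trans hab) hd2]

/-- Over a finite field of characteristic two, Ω (the commutator subgroup of the orthogonal group of a quadratic form Q on F^n with non-degenerate polar form; excluding dimension 4 over the field of two elements) acts transitively on the non-singular 1-spaces: for u, v with Q(u) ≠ 0 and Q(v) ≠ 0 some element of Ω carries the line through u to the line through v. -/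
theorem result {F : Type*} [Field F] [Fintype F] [CharP F 2] {n : ℕ} (h : Fintype.card F ≠ 2 ∨ n ≠ 4) (Q : QuadraticForm F (Fin n → F)) (hQ : (QuadraticMap.polarBilin Q).Nondegenerate) (u v : Fin n → F) (hu : Q u ≠ 0) (hv : Q v ≠ 0) : ∃ g : ↥(Cfsg.isometryGroup F ⇑Q), g ∈ Cfsg.Omega F ⇑Q ∧ (F ∙ ((g : Matrix.GeneralLinearGroup (Fin n) F) : Matrix (Fin n) (Fin n) F).mulVec u) = F ∙ v := by
  have h2 : (2 : F) = 0 := by
    have := CharP.cast_eq_zero F 2
    exact_mod_cast this
  have hex : Fintype.card F ≠ 2 ∨ Fintype.card (Fin n) ≠ 4 := by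
    rw [Fintype.card_fin]; exact h
  have hchar : ringChar F = 2 := CharP.ringChar_of_prime_eq_zero Nat.prime_two (by exact_mod_cast h2)
  obtain ⟨c, hc⟩ := FiniteField.isSquare_of_char_two hchar (Q u * (Q v)⁻¹)
  have hc0 : c ≠ 0 := by
    rintro rfl
    rw [mul_zero] at hc
    exact (mul_ne_zero hu (inv_ne_zero hv)) hc
  have hQcv : Q (c • v) = Q u := by
    rw [QuadraticMap.map_smul, smul_eq_mul, ← hc]
    field_simp
  obtain ⟨g, hg, hgu⟩ := exists_omega_move h2 Q hQ hex hu hQcv.symm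
  refine ⟨g, hg, ?_⟩
  rw [hgu]
  exact Submodule.span_singleton_smul_eq (IsUnit.mk0 c hc0) v

end Cfsg.Agent.S2634
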