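import Cfsg.Statements.S2635
import Cfsg.Agent.Lib.Helper44_Omega2

set_option autoImplicit false
open Cfsg

namespace Cfsg.Agent.S2635

open Cfsg.Agent.Lib.Helper44_Refl Cfsg.Agent.Lib.Helper44_Spinor Cfsg.Agent.Lib.Helper44_Omega2

theorem prod_mem_closure {F : Type*} [Field F] {n : ℕ} (Q : QuadraticForm F (Fin n → F)) :
    ∀ k : ℕ, ∀ vs : List (Fin n → F), vs.length = 2 * k → (∀ v ∈ vs, Q v ≠ 0) →
      (vs.map (reflT Q)).prod ∈ Subgroup.closure {g : ↥(Cfsg.isometryGroup F ⇑Q) |
        ∃ u v : Fin n → F, Q u ≠ 0 ∧ Q v ≠ 0 ∧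
          ((g : Matrix.GeneralLinearGroup (Fin n) F) : Matrix (Fin n) (Fin n) F)
            = Cfsg.reflectionMatrix ⇑Q u * Cfsg.reflectionMatrix ⇑Q v} := by
  intro k
  induction k with
  | zero =>
    intro vs hlen _
    have : vs = [] := List.length_eq_zero_iff.mp (by omega)
    subst this
    simp only [List.map_nil, List.prod_nil]
    exact Subgroup.one_mem _
  | succ k ih =>
    intro vs hlen hvs
    match vs, hlen, hvs with
    | u :: v :: rest, hlen, hvs =>
      have hu : Q u ≠ 0 := hvs u (by simp)
      have hv : Q v ≠ 0 := hvs v (by simp)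
      rw [List.map_cons, List.map_cons, List.prod_cons, List.prod_cons, ← mul_assoc]
      apply Subgroup.mul_mem
      · apply Subgroup.subset_closure
        refine ⟨u, v, hu, hv, ?_⟩
        have : ((reflT Q u * reflT Q v : ↥(Cfsg.isometryGroup F ⇑Q)) :
            Matrix.GeneralLinearGroup (Fin n) F).1
            = (reflT Q u : Matrix.GeneralLinearGroup (Fin n) F).1
              * (reflT Q v : Matrix.GeneralLinearGroup (Fin n) F).1 := rfl
        rw [this, reflT_coe Q u hu, reflT_coe Q v hv]
      · apply ih rest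
        · simp only [List.length_cons] at hlen; omega
        · intro w hw; exact hvs w (by simp [hw])

/-- Over a finite field of characteristic two, for a quadratic form Q on F^n with non-degenerate polar form, n ≥ 2, other than dimension 4 over the field of two elements, Ω (the commutator subgroup of the orthogonal group) is exactly the subgroup generated by the products of two reflections (orthogonal transvections) x ↦ x − Q(v)⁻¹ f(x, v) v, Q(v) ≠ 0: the products of an even number of reflections. -/
theorem result {F : Type*} [Field F] [Fintype F] [CharP F 2] {n : ℕ} (hn : 2 ≤ n) (h : Fintype.card F ≠ 2 ∨ n ≠ 4) (Q : QuadraticForm F (Fin n → F)) (hQ : (QuadraticMap.polarBilin Q).Nondegenerate) : Cfsg.Omega F ⇑Q = Subgroup.closure {g : ↥(Cfsg.isometryGroup F ⇑Q) | ∃ u v : Fin n → F, Q u ≠ 0 ∧ Q v ≠ 0 ∧ ((g : Matrix.GeneralLinearGroup (Fin n) F) : Matrix (Fin n) (Fin n) F) = Cfsg.reflectionMatrix ⇑Q u * Cfsg.reflectionMatrix ⇑Q v} := by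
  have h2 : (2 : F) = 0 := by
    have := CharP.cast_eq_zero F 2
    exact_mod_cast this
  have hex : Fintype.card F ≠ 2 ∨ Fintype.card (Fin n) ≠ 4 := by
    rw [Fintype.card_fin]; exact h
  apply le_antisymm
  · intro g hg
    obtain ⟨vs, hvs, ⟨k, hk⟩, rfl⟩ := (mem_omega_iff_even Q h2 hQ hex g).mp hg
    exact prod_mem_closure Q k vs (by omega) hvs
  · rw [Subgroup.closure_le]
    rintro g ⟨u, v, hu, hv, hg⟩
    apply (mem_omega_iff_even Q h2 hQ hex g).mpr
    refine ⟨[u, v], ?_, ⟨1, rfl⟩, ?_⟩
    · intro w hw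
      simp only [List.mem_cons, List.not_mem_nil, or_false] at hw
      rcases hw with rfl | rfl
      · exact hu
      · exact hv
    · apply Subtype.ext
      apply Units.ext
      rw [hg]
      simp only [List.map_cons, List.map_nil, List.prod_cons, List.prod_nil, mul_one]
      have : ((reflT Q u * reflT Q v : ↥(Cfsg.isometryGroup F ⇑Q)) :
          Matrix.GeneralLinearGroup (Fin n) F).1
          = (reflT Q u : Matrix.GeneralLinearGroup (Fin n) F).1
            * (reflT Q v : Matrix.GeneralLinearGroup (Fin n) F).1 := rfl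
      rw [this, reflT_coe Q u hu, reflT_coe Q v hv]

end Cfsg.Agent.S2635
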