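import Cfsg.Statements.S2636

set_option autoImplicit false
open Cfsg

namespace Cfsg.Agent.S2636

open Matrix

section fixed

variable {F : Type*} [Field F]

/-- the fixed field of `σ` -/
def Kf (σ : F ≃+* F) : Subfield F := FixedPoints.subfield (Subgroup.zpowers σ) F

theorem mem_Kf_iff (σ : F ≃+* F) (x : F) : x ∈ Kf σ ↔ σ x = x := by
  constructor
  · intro h
    exact h ⟨σ, Subgroup.mem_zpowers σ⟩
  · intro h g
    have hle : Subgroup.zpowers σ ≤ MulAction.stabilizer (F ≃+* F) x := by
      rw [Subgroup.zpowers_le, MulAction.mem_stabilizer_iff]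
      exact h
    have := hle g.2
    rw [MulAction.mem_stabilizer_iff] at this
    exact this

theorem card_Kf [Finite F] {q₀ r : ℕ} (hr : r ≠ 0) (hF : Nat.card F = q₀ ^ r) (σ : F ≃+* F)
    (hσ : orderOf σ = r) : Nat.card (Kf σ) = q₀ := by
  have hfin : Finite (Subgroup.zpowers σ) := by
    apply Nat.finite_of_card_ne_zero
    rw [Nat.card_zpowers, hσ]
    exact hr
  have := Fintype.ofFinite (Subgroup.zpowers σ)
  have h1 : Module.finrank (Kf σ) F = r := by
    unfold Kf
    rw [FixedPoints.finrank_eq_card, ← Nat.card_eq_fintype_card, Nat.card_zpowers, hσ]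
  have h2 : Nat.card F = Nat.card (Kf σ) ^ Module.finrank (Kf σ) F :=
    Module.natCard_eq_pow_finrank (K := Kf σ) (V := F)
  rw [h1, hF] at h2
  exact (Nat.pow_left_injective hr h2).symm

end fixed

section main

variable {F : Type*} [Field F] {n : ℕ}

/-- the inclusion of the fixed field -/
def iot (σ : F ≃+* F) : Kf σ →+* F := (Kf σ).subtype

theorem iot_injective (σ : F ≃+* F) : Function.Injective (iot σ) := Subtype.val_injective

theorem sigma_iot (σ : F ≃+* F) (k : Kf σ) : σ (iot σ k) = iot σ k := (mem_Kf_iff σ _).1 k.2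

/-- the homomorphism `(d, h) ↦ d • h` -/
def Phi (σ : F ≃+* F) (n : ℕ) : Fˣ × GL (Fin n) (Kf σ) →* GL (Fin n) F :=
  MonoidHom.noncommCoprod (GeneralLinearGroup.scalar (Fin n)) (GeneralLinearGroup.map (iot σ))
    (fun d _ => GeneralLinearGroup.scalar_commute d _)

theorem Phi_apply (σ : F ≃+* F) (d : Fˣ) (h : GL (Fin n) (Kf σ)) (i j : Fin n) :
    (Phi σ n (d, h) : Matrix (Fin n) (Fin n) F) i j = (d : F) * iot σ (h i j) := by
  show ((GeneralLinearGroup.scalar (Fin n) d * GeneralLinearGroup.map (iot σ) h :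
    GL (Fin n) F) : Matrix (Fin n) (Fin n) F) i j = _
  rw [Units.val_mul, GeneralLinearGroup.coe_scalar, Matrix.scalar_apply, Matrix.diagonal_mul]
  rfl

/-- the set we count -/
def S (σ : F ≃+* F) (n : ℕ) : Set (GL (Fin n) F) :=
  {g | ∃ c : F, c ≠ 0 ∧ (g : Matrix (Fin n) (Fin n) F).map σ = c • (g : Matrix (Fin n) (Fin n) F)}

theorem range_Phi (σ : F ≃+* F) (hn : 1 ≤ n) : ((Phi σ n).range : Set (GL (Fin n) F)) = S σ n := by
  ext g
  constructor
  · rintro ⟨⟨d, h⟩, rfl⟩
    refine ⟨σ d * (d : F)⁻¹, mul_ne_zero ((map_ne_zero σ).2 d.ne_zero) (inv_ne_zero d.ne_zero), ?_⟩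
    ext i j
    rw [Matrix.map_apply, Matrix.smul_apply, Phi_apply, map_mul, sigma_iot, smul_eq_mul]
    field_simp
  · rintro ⟨c, hc, hg⟩
    -- a non-zero entry
    obtain ⟨i₀, j₀, ha⟩ : ∃ i j, (g : Matrix (Fin n) (Fin n) F) i j ≠ 0 := by
      by_contra hcon
      push Not at hcon
      have h0 : (g : Matrix (Fin n) (Fin n) F) = 0 := by
        ext i j
        exact hcon i j
      have hdet := GeneralLinearGroup.det_ne_zero g
      rw [h0] at hdet
      have : Nonempty (Fin n) := ⟨⟨0, hn⟩⟩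
      exact hdet Matrix.det_zero
    set a := (g : Matrix (Fin n) (Fin n) F) i₀ j₀ with ha_def
    have hσa : σ a = c * a := by
      have := congrFun (congrFun hg i₀) j₀
      rwa [Matrix.map_apply, Matrix.smul_apply, smul_eq_mul] at this
    -- the entries of `a⁻¹ • g` are fixed
    have hfix : ∀ i j, a⁻¹ * (g : Matrix (Fin n) (Fin n) F) i j ∈ Kf σ := by
      intro i j
      rw [mem_Kf_iff, map_mul, map_inv₀, hσa]
      have := congrFun (congrFun hg i) j
      rw [Matrix.map_apply, Matrix.smul_apply, smul_eq_mul] at this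
      rw [this]
      field_simp
    let M : Matrix (Fin n) (Fin n) (Kf σ) := fun i j => ⟨_, hfix i j⟩
    have hM : M.map (iot σ) = a⁻¹ • (g : Matrix (Fin n) (Fin n) F) := by
      ext i j
      rfl
    have hdetM : M.det ≠ 0 := by
      intro h0
      have h1 : (M.map (iot σ)).det = 0 := by
        rw [← RingHom.mapMatrix_apply, ← RingHom.map_det, h0, map_zero]
      rw [hM, Matrix.det_smul] at h1
      rcases mul_eq_zero.1 h1 with h2 | h2
      · exact inv_ne_zero ha (pow_eq_zero_iff (by
          rw [Fintype.card_fin]; omega) |>.1 h2)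
      · exact GeneralLinearGroup.det_ne_zero g h2
    refine ⟨(Units.mk0 a ha, GeneralLinearGroup.mkOfDetNeZero M hdetM), ?_⟩
    apply GeneralLinearGroup.ext
    intro i j
    rw [Phi_apply]
    show a * (a⁻¹ * (g : Matrix (Fin n) (Fin n) F) i j) = _
    rw [← mul_assoc, mul_inv_cancel₀ ha, one_mul]

theorem card_ker_Phi [Finite F] (σ : F ≃+* F) (hn : 1 ≤ n) :
    Nat.card (Phi σ n).ker = Nat.card (Kf σ) - 1 := by
  rw [← Nat.card_units]
  symm
  let i₀ : Fin n := ⟨0, hn⟩
  have hmem : ∀ k : (Kf σ)ˣ, ((Units.map (iot σ : Kf σ →* F) k)⁻¹,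
      GeneralLinearGroup.scalar (Fin n) k) ∈ (Phi σ n).ker := by
    intro k
    rw [MonoidHom.mem_ker]
    show GeneralLinearGroup.scalar (Fin n) (Units.map (iot σ : Kf σ →* F) k)⁻¹ *
      GeneralLinearGroup.map (iot σ) (GeneralLinearGroup.scalar (Fin n) k) = 1
    rw [GeneralLinearGroup.map_scalar, ← map_mul]
    have : (Units.map (iot σ : Kf σ →* F) k)⁻¹ * Units.map (iot σ) k = 1 := inv_mul_cancel _
    rw [this, map_one]
  apply Nat.card_eq_of_bijective (fun k => (⟨_, hmem k⟩ : (Phi σ n).ker))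
  constructor
  · intro k k' h
    have h1 := congrArg (fun x : (Phi σ n).ker => x.1.1) h
    exact Units.map_injective (iot_injective σ) (_root_.inv_inj.1 h1)
  · rintro ⟨⟨d, h⟩, hdh⟩
    rw [MonoidHom.mem_ker] at hdh
    have hent : ∀ i j, (d : F) * iot σ (h i j) = if i = j then 1 else 0 := by
      intro i j
      rw [← Phi_apply, hdh, Units.val_one, Matrix.one_apply]
    have h00 := hent i₀ i₀
    rw [if_pos rfl] at h00
    have hk0 : h i₀ i₀ ≠ 0 := by
      intro h0
      rw [h0, map_zero, mul_zero] at h00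
      exact zero_ne_one h00
    refine ⟨Units.mk0 (h i₀ i₀) hk0, ?_⟩
    apply Subtype.ext
    apply Prod.ext
    · show (Units.map (iot σ : Kf σ →* F) (Units.mk0 (h i₀ i₀) hk0))⁻¹ = d
      rw [inv_eq_iff_eq_inv]
      apply Units.ext
      rw [Units.val_inv_eq_inv_val]
      show iot σ (h i₀ i₀) = (d : F)⁻¹
      exact eq_inv_of_mul_eq_one_right h00
    · show GeneralLinearGroup.scalar (Fin n) (Units.mk0 (h i₀ i₀) hk0) = h
      apply GeneralLinearGroup.ext
      intro i j
      rw [GeneralLinearGroup.coe_scalar, Matrix.scalar_apply, Matrix.diagonal_apply]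
      apply iot_injective σ
      have hd : (d : F) ≠ 0 := d.ne_zero
      apply mul_left_cancel₀ hd
      rw [hent i j]
      by_cases hij : i = j
      · rw [if_pos hij, if_pos hij]
        exact h00
      · rw [if_neg hij, if_neg hij, map_zero, mul_zero]

end main

/-- Centraliser of a field automorphism in PGL_n: let F be the field with q = q₀^r elements, σ a field automorphism of F of prime order r (so its fixed field has q₀ elements) and n ≥ 1. The invertible matrices g whose entrywise image under σ is a scalar multiple of g — those whose coset modulo scalars is fixed by σ — number (q − 1)/(q₀ − 1) · |GL_n(q₀)|; equivalently the centraliser in PGL_n(q) of the induced automorphism has the order of PGL_n(q₀). -/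
theorem result {F : Type*} [Field F] [Fintype F] {q₀ r n : ℕ} (hr : r.Prime) (hn : 1 ≤ n) (hF : Fintype.card F = q₀ ^ r) (σ : F ≃+* F) (hσ : orderOf σ = r) : Nat.card {g : GL (Fin n) F // ∃ c : F, c ≠ 0 ∧ (g : Matrix (Fin n) (Fin n) F).map σ = c • (g : Matrix (Fin n) (Fin n) F)} = (q₀ ^ r - 1) / (q₀ - 1) * ∏ i : Fin n, (q₀ ^ n - q₀ ^ (i : ℕ)) := by
  classical
  have hF' : Nat.card F = q₀ ^ r := by rw [Nat.card_eq_fintype_card, hF]
  have hK : Nat.card (Kf σ) = q₀ := card_Kf hr.ne_zero hF' σ hσ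
  have := Fintype.ofFinite (Kf σ)
  have hKf : Fintype.card (Kf σ) = q₀ := by rw [← Nat.card_eq_fintype_card, hK]
  have hq2 : 2 ≤ q₀ := by
    rw [← hKf]
    exact Fintype.one_lt_card
  -- the set is the range of `Phi`
  have h1 : Nat.card {g : GL (Fin n) F // ∃ c : F, c ≠ 0 ∧
      (g : Matrix (Fin n) (Fin n) F).map σ = c • (g : Matrix (Fin n) (Fin n) F)} =
      Nat.card (Phi σ n).range := by
    have := range_Phi (n := n) σ hn
    show Nat.card ↥(S σ n) = Nat.card ↥((Phi σ n).range : Set (GL (Fin n) F))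
    rw [this]
  have h2 := Subgroup.card_mul_index (Phi σ n).ker
  rw [Subgroup.index_ker, card_ker_Phi σ hn, hK, Nat.card_prod, Nat.card_units, hF',
    Matrix.card_GL_field, hKf] at h2
  rw [h1]
  have hdvd : q₀ - 1 ∣ q₀ ^ r - 1 := by
    have := Nat.sub_dvd_pow_sub_pow q₀ 1 r
    rwa [one_pow] at this
  obtain ⟨t, ht⟩ := hdvd
  have hpos : 0 < q₀ - 1 := by omega
  rw [ht, Nat.mul_div_cancel_left _ hpos]
  rw [ht, mul_assoc] at h2
  exact Nat.eq_of_mul_eq_mul_left hpos h2

end Cfsg.Agent.S2636
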