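import Cfsg.Statements.S2637
import Cfsg.Agent.Lib.Helper44_Order3Cent
import Cfsg.Agent.Lib.Helper44_SpCent

set_option autoImplicit false
open Cfsg

namespace Cfsg.Agent.S2637

open Matrix Cfsg.Agent.Lib.Helper44_Inv2Sp Cfsg.Agent.Lib.Helper44_Order3 Cfsg.Agent.Lib.Helper44_Order3Cent
  Cfsg.Agent.Lib.Helper94_Bridge Cfsg.Agent.Lib.Helper13_Symp Cfsg.Agent.Lib.Helper44_SpCount
  Cfsg.Agent.Lib.Helper44_SpCent

/-- The arithmetic rearrangement. -/
theorem arith (q : ℤ) (hq : q ≠ 0) (m : ℕ) (T : ℤ)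
    (h : q ^ m * T = ∏ i ∈ Finset.range m, (q ^ (2 * (m - i)) - (-q) ^ (m - i))) :
    T = q ^ (m * (m - 1) / 2) * ∏ i : Fin m, (q ^ ((i : ℕ) + 1) - (-1) ^ ((i : ℕ) + 1)) := by
  have h1 : ∏ i ∈ Finset.range m, (q ^ (2 * (m - i)) - (-q) ^ (m - i))
      = ∏ j ∈ Finset.range m, (q ^ (2 * (j + 1)) - (-q) ^ (j + 1)) := by
    rw [← Finset.prod_range_reflect (fun j => q ^ (2 * (j + 1)) - (-q) ^ (j + 1)) m]
    apply Finset.prod_congr rfl
    intro i hi
    rw [Finset.mem_range] at hi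
    have : m - 1 - i + 1 = m - i := by omega
    rw [this]
  have h2 : ∀ j : ℕ, q ^ (2 * (j + 1)) - (-q) ^ (j + 1) = q ^ (j + 1) * (q ^ (j + 1) - (-1) ^ (j + 1)) := by
    intro j
    rw [neg_pow q (j + 1), two_mul, pow_add]
    ring
  have h3 : ∏ j ∈ Finset.range m, q ^ (j + 1) = q ^ m * q ^ (m * (m - 1) / 2) := by
    rw [Finset.prod_pow_eq_pow_sum, Finset.sum_add_distrib, Finset.sum_range_id, Finset.sum_const,
      Finset.card_range, smul_eq_mul, mul_one, pow_add, mul_comm]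
  rw [h1, Finset.prod_congr rfl (fun j _ => h2 j), Finset.prod_mul_distrib, h3, mul_assoc] at h
  have h4 := mul_left_cancel₀ (pow_ne_zero m hq) h
  rw [h4, Fin.prod_univ_eq_prod_range (fun j => q ^ (j + 1) - (-1) ^ (j + 1)) m]

/-- Centraliser of a fixed-point-free element of order three in Sp_2m(q) when q ≡ 2 (mod 3): if x ∈ Sp_2m(F) (|F| = q, m ≥ 1) satisfies x³ = 1 and x − 1 is invertible, then its centraliser in Sp_2m(F) has the order of the unitary group GU_m(q), namely q^(m(m−1)/2) Π_(i=1)^m (q^i − (−1)^i) (x lies in the centre of a subgroup GU_m(q) of Sp_2m(q)). -/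
theorem result {F : Type*} [Field F] [Fintype F] {q : ℕ} (hF : Fintype.card F = q) (hq : q % 3 = 2) {m : ℕ} (hm : 1 ≤ m) (x : Matrix.symplecticGroup (Fin m) F) (hx3 : x ^ 3 = 1) (hfpf : IsUnit ((x : Matrix (Fin m ⊕ Fin m) (Fin m ⊕ Fin m) F) - 1)) : (Nat.card ↥(Subgroup.centralizer ({x} : Set ↥(Matrix.symplecticGroup (Fin m) F))) : ℤ) = (q : ℤ) ^ (m * (m - 1) / 2) * ∏ i : Fin m, ((q : ℤ) ^ ((i : ℕ) + 1) - (-1) ^ ((i : ℕ) + 1)) := by
  classical
  subst hF
  set X : Matrix (Fin m ⊕ Fin m) (Fin m ⊕ Fin m) F := x.1 with hXdef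
  have hXiso : IsoB (Bsymp m F) X := isoB_of_mem x
  have hX3 : X ^ 3 = 1 := by
    have := congrArg Subtype.val hx3
    simpa using this
  have hX2 : X * X + X + 1 = 0 := by
    have h1 : (X - 1) * (X * X + X + 1) = 0 := by
      have : (X - 1) * (X * X + X + 1) = X ^ 3 - 1 := by noncomm_ring
      rw [this, hX3, sub_self]
    exact (hfpf.mul_right_eq_zero).mp h1
  have hA : (Bsymp m F).IsAlt := Bsymp_isAlt m
  have hB : (Bsymp m F).Nondegenerate := Bsymp_nondegenerate m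
  have hcard : 2 * m = Fintype.card (Fin m ⊕ Fin m) := by
    rw [Fintype.card_sum, Fintype.card_fin]; ring
  have hq1 : 1 < Fintype.card F := Fintype.one_lt_card
  have hqne : (Fintype.card F : ℤ) ≠ 0 := by
    have : (0 : ℤ) < (Fintype.card F : ℤ) := by exact_mod_cast (by omega : 0 < Fintype.card F)
    exact this.ne'
  have hfr := card_XFr hA hXiso hX2 hB hq hcard m le_rfl
  -- the centraliser is `CX`
  let e : ↥(Subgroup.centralizer ({x} : Set ↥(Matrix.symplecticGroup (Fin m) F))) ≃ CX (Bsymp m F) X :=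
    { toFun := fun g => ⟨g.1.1, isoB_of_mem g.1, (mem_centralizer_iff' x g.1).mp g.2⟩
      invFun := fun G => ⟨⟨G.1, mem_symplecticGroup_of_preserves m (by
        intro u v
        rw [← Bsymp_apply, ← Bsymp_apply]
        exact G.2.1 u v)⟩, (mem_centralizer_iff' x _).mpr G.2.2⟩
      left_inv := fun g => rfl
      right_inv := fun G => rfl }
  have hT := arith (Fintype.card F : ℤ) hqne m _ hfr
  -- a full frame exists
  have hne : Nat.card (XFr (Bsymp m F) X m) ≠ 0 := by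
    intro h0
    rw [h0] at hT
    have h5 : (Fintype.card F : ℤ) ^ (m * (m - 1) / 2) ≠ 0 := pow_ne_zero _ hqne
    have h6 : ∏ i : Fin m, ((Fintype.card F : ℤ) ^ ((i : ℕ) + 1) - (-1) ^ ((i : ℕ) + 1)) ≠ 0 := by
      rw [Finset.prod_ne_zero_iff]
      intro i _
      have h7 : (2 : ℤ) ≤ (Fintype.card F : ℤ) := by exact_mod_cast hq1
      have h8 : (2 : ℤ) ^ ((i : ℕ) + 1) ≤ (Fintype.card F : ℤ) ^ ((i : ℕ) + 1) :=
        pow_le_pow_left₀ (by norm_num) h7 _
      have h9 : (2 : ℤ) ≤ 2 ^ ((i : ℕ) + 1) := by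
        calc (2 : ℤ) = 2 ^ 1 := by norm_num
          _ ≤ 2 ^ ((i : ℕ) + 1) := pow_le_pow_right₀ (by norm_num) (by omega)
      have h10 : ((-1 : ℤ)) ^ ((i : ℕ) + 1) ≤ 1 := by
        rcases neg_one_pow_eq_or ℤ ((i : ℕ) + 1) with h | h <;> rw [h] <;> norm_num
      intro h11
      linarith
    have := mul_ne_zero h5 h6
    exact this (by exact_mod_cast hT.symm)
  have hfin : Finite (XFr (Bsymp m F) X m) := Nat.finite_of_card_ne_zero hne
  obtain ⟨f₀⟩ : Nonempty (XFr (Bsymp m F) X m) := by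
    by_contra hemp
    rw [not_nonempty_iff] at hemp
    exact hne Nat.card_of_isEmpty
  rw [Nat.card_congr e, card_CX hA hXiso hX2 hcard hm f₀]
  exact hT

end Cfsg.Agent.S2637
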