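import Cfsg.Statements.S2638

set_option autoImplicit false
open Cfsg

namespace Cfsg.Agent.S2638


open Matrix

lemma card_modEq_card_fixed {α : Type*} [Finite α] (σ : Equiv.Perm α) {r : ℕ} (hr : r.Prime)
    (hσ : σ ^ r = 1) : Nat.card α ≡ Nat.card {a // σ a = a} [MOD r] := by
  classical
  haveI : Fact r.Prime := ⟨hr⟩
  haveI : Fintype α := Fintype.ofFinite α
  have h := Equiv.Perm.card_compl_support_modEq (p := r) (n := 1) (σ := σ) (by simpa using hσ)
  rw [Nat.card_eq_fintype_card, Nat.card_eq_fintype_card, Fintype.card_subtype]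
  have : σ.supportᶜ = Finset.univ.filter (fun a => σ a = a) := by
    ext a; simp [Equiv.Perm.mem_support]
  rw [this] at h
  exact h.symm

variable {F : Type*} [Field F] [Fintype F] {n : ℕ}

/-- the permutation of an invariant subspace induced by an invertible matrix of finite order -/
noncomputable def permOfInvariant (M : Matrix (Fin n) (Fin n) F) {r : ℕ} (hr : 0 < r) (hM : M ^ r = 1)
    (W : Submodule F (Fin n → F)) (hW : ∀ w ∈ W, M *ᵥ w ∈ W) : Equiv.Perm W where
  toFun w := ⟨M *ᵥ w, hW w w.2⟩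
  invFun w := ⟨(M ^ (r - 1)) *ᵥ w, by
    have : ∀ k : ℕ, ∀ w ∈ W, (M ^ k) *ᵥ w ∈ W := by
      intro k
      induction k with
      | zero => intro w hw; simpa using hw
      | succ k ih =>
        intro w hw
        rw [pow_succ, ← Matrix.mulVec_mulVec]
        exact ih _ (hW w hw)
    exact this _ w w.2⟩
  left_inv w := by
    apply Subtype.ext
    simp only [Matrix.mulVec_mulVec]
    rw [← pow_succ, Nat.sub_add_cancel hr, hM, Matrix.one_mulVec]
  right_inv w := by
    apply Subtype.ext
    simp only [Matrix.mulVec_mulVec]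
    rw [← pow_succ', Nat.sub_add_cancel hr, hM, Matrix.one_mulVec]

lemma permOfInvariant_pow (M : Matrix (Fin n) (Fin n) F) {r : ℕ} (hr : 0 < r) (hM : M ^ r = 1)
    (W : Submodule F (Fin n → F)) (hW : ∀ w ∈ W, M *ᵥ w ∈ W) (k : ℕ) (w : W) :
    ((permOfInvariant M hr hM W hW ^ k) w : Fin n → F) = (M ^ k) *ᵥ (w : Fin n → F) := by
  induction k generalizing w with
  | zero => simp
  | succ k ih =>
    rw [pow_succ, Equiv.Perm.mul_apply, ih, pow_succ, ← Matrix.mulVec_mulVec]
    rfl

lemma permOfInvariant_pow_eq_one (M : Matrix (Fin n) (Fin n) F) {r : ℕ} (hr : 0 < r) (hM : M ^ r = 1)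
    (W : Submodule F (Fin n → F)) (hW : ∀ w ∈ W, M *ᵥ w ∈ W) :
    permOfInvariant M hr hM W hW ^ r = 1 := by
  ext w
  rw [permOfInvariant_pow, hM, Matrix.one_mulVec]
  rfl


section
/-- the fixed space of a matrix -/
def fixSpace (M : Matrix (Fin n) (Fin n) F) : Submodule F (Fin n → F) :=
  LinearMap.ker (Matrix.toLin' (M - 1))

omit [Fintype F] in
lemma mem_fixSpace (M : Matrix (Fin n) (Fin n) F) (v : Fin n → F) :
    v ∈ fixSpace M ↔ M *ᵥ v = v := by
  rw [fixSpace, LinearMap.mem_ker, Matrix.toLin'_apply, Matrix.sub_mulVec, Matrix.one_mulVec,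
    sub_eq_zero]

/-- counting fixed points on an invariant subspace -/
lemma pow_finrank_modEq (M : Matrix (Fin n) (Fin n) F) {r : ℕ} (hr : r.Prime) (hM : M ^ r = 1)
    (W : Submodule F (Fin n → F)) (hW : ∀ w ∈ W, M *ᵥ w ∈ W) :
    Fintype.card F ^ Module.finrank F W ≡ Fintype.card F ^ Module.finrank F ↥(W ⊓ fixSpace M) [MOD r] := by
  have h := card_modEq_card_fixed (permOfInvariant M hr.pos hM W hW) hr
    (permOfInvariant_pow_eq_one M hr.pos hM W hW)
  rw [Module.natCard_eq_pow_finrank (K := F) (V := W), Nat.card_eq_fintype_card] at h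
  have e : {a : W // permOfInvariant M hr.pos hM W hW a = a} ≃ ↥(W ⊓ fixSpace M) :=
    { toFun := fun a => ⟨a.1.1, ⟨a.1.2, (mem_fixSpace M _).mpr (congrArg Subtype.val a.2)⟩⟩
      invFun := fun b => ⟨⟨b.1, b.2.1⟩, Subtype.ext ((mem_fixSpace M _).mp b.2.2)⟩
      left_inv := fun a => rfl
      right_inv := fun b => rfl }
  rw [Nat.card_congr e, Module.natCard_eq_pow_finrank (K := F) (V := ↥(W ⊓ fixSpace M)),
    Nat.card_eq_fintype_card] at h
  exact h

/-- a matrix of prime order `r` over `F_q`, where `q` has order `n` modulo `r`, acts irreducibly on `F^n`. -/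
lemma irreducible_of_ppd (M : Matrix (Fin n) (Fin n) F) {r : ℕ} (hr : r.Prime) (hM : M ^ r = 1)
    (hM1 : M ≠ 1) (hn : 1 ≤ n) (hi : orderOf ((Fintype.card F : ℕ) : ZMod r) = n)
    (W : Submodule F (Fin n → F)) (hW : ∀ w ∈ W, M *ᵥ w ∈ W) (hW0 : W ≠ ⊥) : W = ⊤ := by
  have hqn : ((Fintype.card F : ℕ) : ZMod r) ^ n = 1 := by
    have := pow_orderOf_eq_one ((Fintype.card F : ℕ) : ZMod r)
    rwa [hi] at this
  have key : ∀ W : Submodule F (Fin n → F), (∀ w ∈ W, M *ᵥ w ∈ W) →
      ((Fintype.card F : ℕ) : ZMod r) ^ Module.finrank F W =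
        ((Fintype.card F : ℕ) : ZMod r) ^ Module.finrank F ↥(W ⊓ fixSpace M) := by
    intro W hW
    have := pow_finrank_modEq M hr hM W hW
    rw [← ZMod.natCast_eq_natCast_iff] at this
    simpa using this
  have hfinV : Module.finrank F (Fin n → F) = n := by simp
  -- Step A: the fixed space is trivial
  have hfix : fixSpace M = ⊥ := by
    have h1 := key ⊤ (fun w _ => Submodule.mem_top)
    rw [finrank_top, hfinV, hqn, top_inf_eq] at h1
    have h2 : n ∣ Module.finrank F ↥(fixSpace M) := by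
      have := orderOf_dvd_of_pow_eq_one h1.symm
      rwa [hi] at this
    have h3 : Module.finrank F ↥(fixSpace M) ≤ n :=
      (Submodule.finrank_le _).trans_eq hfinV
    rcases Nat.eq_zero_or_pos (Module.finrank F ↥(fixSpace M)) with h0 | hpos
    · exact Submodule.finrank_eq_zero.mp h0
    · exfalso
      have h4 : Module.finrank F ↥(fixSpace M) = n := le_antisymm h3 (Nat.le_of_dvd hpos h2)
      have h5 : fixSpace M = ⊤ := Submodule.eq_top_of_finrank_eq (h4.trans hfinV.symm)
      apply hM1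
      apply Matrix.toLin'.injective
      apply LinearMap.ext
      intro v
      have : v ∈ fixSpace M := by rw [h5]; trivial
      rw [mem_fixSpace] at this
      simp [this]
  -- Step B
  have h1 := key W hW
  rw [hfix, inf_bot_eq, finrank_bot, pow_zero] at h1
  have h2 : n ∣ Module.finrank F W := by
    have := orderOf_dvd_of_pow_eq_one h1
    rwa [hi] at this
  have h3 : Module.finrank F W ≤ n :=
    (Submodule.finrank_le _).trans_eq hfinV
  have h4 : 0 < Module.finrank F W := by
    rw [Nat.pos_iff_ne_zero, Ne, Submodule.finrank_eq_zero]; exact hW0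
  have h5 : Module.finrank F W = n := le_antisymm h3 (Nat.le_of_dvd h4 h2)
  exact Submodule.eq_top_of_finrank_eq (h5.trans hfinV.symm)


end

section
variable {F : Type*} [Field F] {n : ℕ}




/-- the centralizer algebra of a matrix -/
abbrev centAlg (M : Matrix (Fin n) (Fin n) F) : Subalgebra F (Matrix (Fin n) (Fin n) F) :=
  Subalgebra.centralizer F ({M} : Set (Matrix (Fin n) (Fin n) F))

lemma mem_centAlg (M c : Matrix (Fin n) (Fin n) F) : c ∈ centAlg M ↔ M * c = c * M := by
  rw [Subalgebra.mem_centralizer_iff]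
  simp

/-- In the centralizer of an irreducible matrix every nonzero element is invertible. -/
lemma isUnit_of_mem_centAlg (M : Matrix (Fin n) (Fin n) F)
    (hirr : ∀ W : Submodule F (Fin n → F), (∀ w ∈ W, M *ᵥ w ∈ W) → W ≠ ⊥ → W = ⊤)
    (c : Matrix (Fin n) (Fin n) F) (hc : c ∈ centAlg M) (hc0 : c ≠ 0) : IsUnit c := by
  rw [mem_centAlg] at hc
  rw [← Matrix.mulVec_injective_iff_isUnit]
  set K := LinearMap.ker (Matrix.toLin' c) with hK
  have hKinv : ∀ w ∈ K, M *ᵥ w ∈ K := by
    intro w hw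
    rw [hK, LinearMap.mem_ker, Matrix.toLin'_apply] at hw ⊢
    rw [Matrix.mulVec_mulVec, ← hc, ← Matrix.mulVec_mulVec, hw, Matrix.mulVec_zero]
  have hKtop : K ≠ ⊤ := by
    intro htop
    apply hc0
    apply Matrix.toLin'.injective
    rw [map_zero]
    exact LinearMap.ker_eq_top.mp htop
  have hKbot : K = ⊥ := by
    by_contra hne
    exact hKtop (hirr K hKinv hne)
  have hinj : Function.Injective (Matrix.toLin' c) := LinearMap.ker_eq_bot.mp hKbot
  intro v w hvw
  apply hinj
  simpa [Matrix.toLin'_apply] using hvw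

/-- evaluation at a vector, as a linear map on matrices -/
def evLin (v : Fin n → F) : Matrix (Fin n) (Fin n) F →ₗ[F] (Fin n → F) where
  toFun c := c *ᵥ v
  map_add' a b := Matrix.add_mulVec a b v
  map_smul' k a := Matrix.smul_mulVec k a v

lemma evLin_apply (v : Fin n → F) (c : Matrix (Fin n) (Fin n) F) : evLin v c = c *ᵥ v := rfl

/-- the centralizer of an irreducible matrix is `F[M]`, it is commutative and evaluation at a nonzero
vector is a bijection onto `F^n`. -/
lemma centAlg_structure (M : Matrix (Fin n) (Fin n) F)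
    (hirr : ∀ W : Submodule F (Fin n → F), (∀ w ∈ W, M *ᵥ w ∈ W) → W ≠ ⊥ → W = ⊤)
    (v₀ : Fin n → F) (hv₀ : v₀ ≠ 0) :
    (∀ c ∈ centAlg M, ∀ c' ∈ centAlg M, c * c' = c' * c) ∧
    (∀ c ∈ centAlg M, c *ᵥ v₀ = 0 → c = 0) ∧
    (∀ v : Fin n → F, ∃ c ∈ centAlg M, c *ᵥ v₀ = v) := by
  have hinj : ∀ c ∈ centAlg M, c *ᵥ v₀ = 0 → c = 0 := by
    intro c hc hcv
    by_contra hc0
    have hu := isUnit_of_mem_centAlg M hirr c hc hc0
    rw [← Matrix.mulVec_injective_iff_isUnit] at hu
    apply hv₀
    apply hu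
    rw [hcv, Matrix.mulVec_zero]
  set A := Algebra.adjoin F ({M} : Set (Matrix (Fin n) (Fin n) F)) with hA
  have hMA : M ∈ A := Algebra.subset_adjoin (Set.mem_singleton M)
  have hAC : A ≤ centAlg M := by
    apply Algebra.adjoin_le
    intro y hy
    rw [Set.mem_singleton_iff] at hy
    rw [hy]
    exact (mem_centAlg M M).mpr rfl
  set WA : Submodule F (Fin n → F) := Submodule.map (evLin v₀) (Subalgebra.toSubmodule A) with hWA
  have hWAinv : ∀ w ∈ WA, M *ᵥ w ∈ WA := by
    rintro _ ⟨a, ha, rfl⟩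
    refine ⟨M * a, A.mul_mem hMA ha, ?_⟩
    rw [evLin_apply, evLin_apply, Matrix.mulVec_mulVec]
  have hWA0 : WA ≠ ⊥ := by
    intro hbot
    have : v₀ ∈ WA := ⟨1, A.one_mem, by rw [evLin_apply, Matrix.one_mulVec]⟩
    rw [hbot, Submodule.mem_bot] at this
    exact hv₀ this
  have hWAtop : WA = ⊤ := hirr WA hWAinv hWA0
  have hsurjA : ∀ v : Fin n → F, ∃ a ∈ A, a *ᵥ v₀ = v := by
    intro v
    have : v ∈ WA := by rw [hWAtop]; trivial
    obtain ⟨a, ha, hav⟩ := this
    exact ⟨a, ha, hav⟩
  have hCA : centAlg M ≤ A := by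
    intro c hc
    obtain ⟨a, ha, hav⟩ := hsurjA (c *ᵥ v₀)
    have h0 : (c - a) *ᵥ v₀ = 0 := by rw [Matrix.sub_mulVec, hav, sub_self]
    have := hinj (c - a) ((centAlg M).sub_mem hc (hAC ha)) h0
    rw [sub_eq_zero] at this
    rw [this]; exact ha
  have hAcent : A ≤ Subalgebra.centralizer F ((centAlg M : Set (Matrix (Fin n) (Fin n) F))) := by
    apply Algebra.adjoin_le
    intro y hy
    rw [Set.mem_singleton_iff] at hy
    rw [hy, SetLike.mem_coe, Subalgebra.mem_centralizer_iff]
    intro g hg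
    exact ((mem_centAlg M g).mp hg).symm
  refine ⟨?_, hinj, ?_⟩
  · intro c hc c' hc'
    have := hAcent (hCA hc)
    rw [Subalgebra.mem_centralizer_iff] at this
    exact (this c' hc').symm
  · intro v
    obtain ⟨a, ha, hav⟩ := hsurjA v
    exact ⟨a, hAC ha, hav⟩


/-- The centralizer in `GL_n(F)` of an irreducible matrix is cyclic of order `|F|^n - 1`. -/
lemma centralizer_cyclic_of_irreducible [Fintype F] (hn : 1 ≤ n) (x : GL (Fin n) F)
    (hirr : ∀ W : Submodule F (Fin n → F),
      (∀ w ∈ W, (x : Matrix (Fin n) (Fin n) F) *ᵥ w ∈ W) → W ≠ ⊥ → W = ⊤) :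
    IsCyclic ↥(Subgroup.centralizer ({x} : Set (GL (Fin n) F))) ∧
      Nat.card ↥(Subgroup.centralizer ({x} : Set (GL (Fin n) F))) = Fintype.card F ^ n - 1 := by
  classical
  set M : Matrix (Fin n) (Fin n) F := (x : Matrix (Fin n) (Fin n) F) with hM
  haveI : Nonempty (Fin n) := ⟨⟨0, hn⟩⟩
  let v₀ : Fin n → F := fun _ => 1
  have hv₀ : v₀ ≠ 0 := by
    intro h
    have := congrFun h ⟨0, hn⟩
    simp [v₀] at this
  obtain ⟨hcomm, hinj, hsurj⟩ := centAlg_structure M hirr v₀ hv₀
  set C := centAlg M with hC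
  -- the commutative ring structure on C
  letI instCR : CommRing C :=
    { (inferInstance : Ring C) with
      mul_comm := fun a b => Subtype.ext (hcomm a.1 a.2 b.1 b.2) }
  haveI : Nontrivial C := by
    refine ⟨⟨0, 1, ?_⟩⟩
    intro h
    have h1 : (0 : Matrix (Fin n) (Fin n) F) = 1 := congrArg Subtype.val h
    have := congrFun (congrFun h1 ⟨0, hn⟩) ⟨0, hn⟩
    simp at this
  haveI : NoZeroDivisors C := by
    refine ⟨fun {a b} hab => ?_⟩
    by_cases ha : a = 0
    · exact Or.inl ha
    · right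
      have ha' : (a : Matrix (Fin n) (Fin n) F) ≠ 0 := fun h => ha (Subtype.ext h)
      have hu := isUnit_of_mem_centAlg M hirr a.1 a.2 ha'
      have hab' : (a : Matrix (Fin n) (Fin n) F) * (b : Matrix (Fin n) (Fin n) F) = 0 :=
        congrArg Subtype.val hab
      apply Subtype.ext
      exact (hu.mul_right_eq_zero).mp hab'
  haveI : IsDomain C := NoZeroDivisors.to_isDomain C
  -- the embedding of the centralizer subgroup
  set G := Subgroup.centralizer ({x} : Set (GL (Fin n) F)) with hG
  have hmemG : ∀ g : GL (Fin n) F, g ∈ G ↔ M * (g : Matrix (Fin n) (Fin n) F) = (g : Matrix (Fin n) (Fin n) F) * M := by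
    intro g
    rw [hG, Subgroup.mem_centralizer_iff]
    constructor
    · intro h
      have := h x (Set.mem_singleton x)
      have := congrArg (fun u : GL (Fin n) F => (u : Matrix (Fin n) (Fin n) F)) this
      simpa using this
    · intro h y hy
      rw [Set.mem_singleton_iff] at hy
      rw [hy]
      apply Units.ext
      simpa using h
  let f : G →* C :=
    { toFun := fun g => ⟨(g.1 : Matrix (Fin n) (Fin n) F), (mem_centAlg M _).mpr ((hmemG g.1).mp g.2)⟩
      map_one' := rfl
      map_mul' := fun a b => rfl }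
  have hf : Function.Injective f := by
    intro a b hab
    have : ((a.1 : GL (Fin n) F) : Matrix (Fin n) (Fin n) F) = (b.1 : Matrix (Fin n) (Fin n) F) :=
      congrArg Subtype.val hab
    exact Subtype.ext (Units.ext this)
  refine ⟨isCyclic_of_injective_ringHom f hf, ?_⟩
  -- cardinality
  have hcardC : Nat.card C = Fintype.card F ^ n := by
    have e : C ≃ (Fin n → F) := Equiv.ofBijective (fun c => (c : Matrix (Fin n) (Fin n) F) *ᵥ v₀) ⟨by
      intro a b hab
      have : ((a : Matrix (Fin n) (Fin n) F) - (b : Matrix (Fin n) (Fin n) F)) *ᵥ v₀ = 0 := by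
        rw [Matrix.sub_mulVec]; exact sub_eq_zero.mpr hab
      have := hinj _ (C.sub_mem a.2 b.2) this
      exact Subtype.ext (sub_eq_zero.mp this), by
      intro v
      obtain ⟨c, hc, hcv⟩ := hsurj v
      exact ⟨⟨c, hc⟩, hcv⟩⟩
    rw [Nat.card_congr e, Nat.card_eq_fintype_card]
    simp
  have hGC : Nat.card G = Nat.card {c : C // c ≠ 0} := by
    apply Nat.card_congr
    refine Equiv.ofBijective (fun g => ⟨f g, ?_⟩) ⟨?_, ?_⟩
    · intro h
      have h1 : ((g.1 : GL (Fin n) F) : Matrix (Fin n) (Fin n) F) = 0 := congrArg Subtype.val h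
      have := (g.1 : GL (Fin n) F).isUnit
      rw [h1] at this
      exact not_isUnit_zero this
    · intro a b hab
      exact hf (congrArg Subtype.val hab)
    · rintro ⟨c, hc⟩
      have hc' : (c : Matrix (Fin n) (Fin n) F) ≠ 0 := fun h => hc (Subtype.ext h)
      obtain ⟨u, hu⟩ := isUnit_of_mem_centAlg M hirr c.1 c.2 hc'
      have huG : u ∈ G := by
        rw [hmemG, hu]
        exact (mem_centAlg M _).mp c.2
      refine ⟨⟨u, huG⟩, ?_⟩
      apply Subtype.ext
      apply Subtype.ext
      exact hu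
  have hsplit : Nat.card C = Nat.card {c : C // c = 0} + Nat.card {c : C // c ≠ 0} := by
    rw [← Nat.card_sum]
    exact Nat.card_congr (Equiv.sumCompl (fun c : C => c = 0)).symm
  have hone : Nat.card {c : C // c = 0} = 1 := by
    rw [Nat.card_eq_one_iff_unique]
    exact ⟨⟨fun a b => Subtype.ext (a.2.trans b.2.symm)⟩, ⟨⟨0, rfl⟩⟩⟩
  omega


end

/-- If an element x of GL_n(q), n ≥ 1, has prime order r and the multiplicative order of q modulo r is n (r is a primitive prime divisor of q^n − 1, so x acts irreducibly), then the centraliser of x in GL_n(q) is cyclic of order q^n − 1 (the multiplicative group of the field with q^n elements, a Singer cycle). -/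
theorem result {F : Type*} [Field F] [Fintype F] {p q : ℕ} [Fact p.Prime] [CharP F p] (hF : Fintype.card F = q) {n r : ℕ} (hn : 1 ≤ n) (hr : r.Prime) (hrp : r ≠ p) (hi : orderOf (q : ZMod r) = n) (x : GL (Fin n) F) (hx : orderOf x = r) : IsCyclic ↥(Subgroup.centralizer ({x} : Set (GL (Fin n) F))) ∧ Nat.card ↥(Subgroup.centralizer ({x} : Set (GL (Fin n) F))) = q ^ n - 1 := by
  subst hF
  have hxr : x ^ r = 1 := by rw [← hx]; exact pow_orderOf_eq_one x
  have hM : (x : Matrix (Fin n) (Fin n) F) ^ r = 1 := by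
    have := congrArg (fun u : GL (Fin n) F => (u : Matrix (Fin n) (Fin n) F)) hxr
    simpa using this
  have hM1 : (x : Matrix (Fin n) (Fin n) F) ≠ 1 := by
    intro h
    have hx1 : x = 1 := Units.ext h
    rw [hx1, orderOf_one] at hx
    exact hr.ne_one hx.symm
  exact centralizer_cyclic_of_irreducible hn x
    (fun W hW hW0 => irreducible_of_ppd _ hr hM hM1 hn hi W hW hW0)

end Cfsg.Agent.S2638
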