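import Cfsg.Statements.S2640
import Cfsg.Agent.S2639
import Cfsg.Agent.Lib.Helper99_UnitaryOrth

set_option autoImplicit false
open Cfsg

namespace Cfsg.Agent.S2640

open Cfsg.Agent.S2639 Cfsg.Agent.Lib.Helper99_UnitaryOrth Matrix

/-- `GU` preserves the quadratic form `Σ N(x_i)`. -/
lemma QG_gLin {K F : Type*} [Field K] [Fintype K] [Field F] [Fintype F] [Algebra F K]
    (r : K →ₗ[F] F) (m : ℕ) (g : Matrix.GeneralLinearGroup (Fin m) K)
    (hg : g ∈ Cfsg.GU m K (Fintype.card F)) (x : Fin m → K) :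
    QG r (gLin (F := F) m g x) = QG r x := by
  have h := hg x x
  change Cfsg.hermForm m K (Fintype.card F) ((g : Matrix (Fin m) (Fin m) K) *ᵥ x)
    ((g : Matrix (Fin m) (Fin m) K) *ᵥ x) = Cfsg.hermForm m K (Fintype.card F) x x at h
  rw [QG, QG, gLin_apply]
  exact congrArg r h

/-- For m even, the unitary group GU_m(q) (over the field with q² elements) embeds in the orthogonal group O⁺_2m(q) of the hyperbolic form Σ x_i y_i over the field with q elements (there is an injective homomorphism). -/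
theorem result {K F : Type*} [Field K] [Fintype K] [Field F] [Fintype F] {q : ℕ} (hK : Fintype.card K = q ^ 2) (hF : Fintype.card F = q) (m : ℕ) (hm : Even m) : ∃ φ : ↥(Cfsg.GU m K q) →* ↥(Cfsg.isometryGroup F (Cfsg.quadFormPlus m F)), Function.Injective φ := by
  obtain ⟨ι⟩ := exists_ringHom hK hF
  subst hF
  letI : Algebra F K := ι.toAlgebra
  have hK' : Fintype.card K = Fintype.card F ^ 2 := hK
  obtain ⟨r, hr⟩ := LinearMap.exists_leftInverse_of_injective (Algebra.linearMap F K)
    (LinearMap.ker_eq_bot.mpr (algebraMap F K).injective)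
  have hr' : ∀ a : F, r (algebraMap F K a) = a := by
    intro a
    have := LinearMap.congr_fun hr a
    simpa using this
  obtain ⟨k, rfl⟩ := hm
  obtain ⟨e₁, he₁⟩ := exists_plus_iso hK' r hr' k
  let E₀ : (Fin (k + k) → K) ≃ₗ[F] (Fin k ⊕ Fin k → K) :=
    LinearEquiv.funCongrLeft F K finSumFinEquiv
  have hE₀ : ∀ x, QG r (E₀ x) = QG r x := by
    intro x
    change r (hsG (F := F) (x ∘ finSumFinEquiv) (x ∘ finSumFinEquiv)) = r (hsG (F := F) x x)
    rw [hsG_comp]
  refine exists_hom_isometryGroup (Cfsg.quadFormPlus (k + k) F) (QG r) (E₀.trans e₁) ?_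
    ((gLin (F := F) (k + k)).comp (Cfsg.GU (k + k) K (Fintype.card F)).subtype) ?_ ?_
  · intro x
    rw [LinearEquiv.trans_apply, he₁, hE₀]
  · exact (gLin_injective (k + k)).comp Subtype.val_injective
  · intro g x
    exact QG_gLin r (k + k) g.1 g.2 x

end Cfsg.Agent.S2640
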