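import Cfsg.Statements.S2641
import Cfsg.Agent.S2640

set_option autoImplicit false
open Cfsg

namespace Cfsg.Agent.S2641

open Cfsg.Agent.S2639 Cfsg.Agent.Lib.Helper99_UnitaryOrth Matrix Polynomial

section
variable {K F : Type*} [Field K] [Fintype K] [Field F] [Fintype F] [Algebra F K]

local notation "β" => FiniteField.frobeniusAlgHom F K

/-- A root `ω ∈ K` of the anisotropic quadratic `X² - aX + b`, with its conjugate. -/
lemma exists_omega (hK : Fintype.card K = Fintype.card F ^ 2) (a b : F)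
    (hab : ∀ z₁ z₂ : F, z₁ ^ 2 + a * z₁ * z₂ + b * z₂ ^ 2 = 0 → z₁ = 0 ∧ z₂ = 0) :
    ∃ ω : K, ω + β ω = algebraMap F K a ∧ ω * β ω = algebraMap F K b := by
  classical
  let p : F[X] := C 1 * X ^ 2 + C (-a) * X + C b
  have hdeg : p.natDegree = 2 := natDegree_quadratic one_ne_zero
  have hroot : ∀ t, ¬ p.IsRoot t := by
    intro t ht
    have h0 : 1 * t ^ 2 + -a * t + b = 0 := by
      simpa [p, IsRoot] using ht
    have h1 := hab t (-1) (by linear_combination h0)
    exact one_ne_zero (neg_eq_zero.mp h1.2)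
  have hirr : Irreducible p :=
    irreducible_of_degree_le_three_of_not_isRoot (by rw [hdeg]; decide) hroot
  have : Fact (Irreducible p) := ⟨hirr⟩
  have h2 : Module.finrank F (AdjoinRoot p) = 2 := by
    rw [(AdjoinRoot.powerBasis hirr.ne_zero).finrank, AdjoinRoot.powerBasis_dim, hdeg]
  obtain ⟨f⟩ := FiniteField.nonempty_algHom_of_finrank_dvd (F := F) (K := AdjoinRoot p) (L := K)
    (by rw [h2, finrank_eq_two hK])
  set ω : K := f (AdjoinRoot.root p) with hωdef
  have hω : ω ^ 2 - algebraMap F K a * ω + algebraMap F K b = 0 := by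
    have h0 : Polynomial.aeval (AdjoinRoot.root p) p = 0 := by
      rw [AdjoinRoot.aeval_eq, AdjoinRoot.mk_self]
    have h1 : Polynomial.aeval ω p = 0 := by
      rw [hωdef, Polynomial.aeval_algHom_apply, h0, map_zero]
    have h3 : Polynomial.aeval ω p = 1 * ω ^ 2 + -(algebraMap F K a) * ω + algebraMap F K b := by
      simp [p]
    rw [h3] at h1
    linear_combination h1
  have hβω : (β ω) ^ 2 - algebraMap F K a * β ω + algebraMap F K b = 0 := by
    have := congrArg β hω
    rw [map_add, map_sub, map_mul, map_pow, AlgHom.commutes, AlgHom.commutes, map_zero] at this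
    exact this
  have hne : β ω ≠ ω := by
    intro hfix
    obtain ⟨t, ht⟩ := fixed_mem_range (F := F) ω hfix
    apply hroot t
    have : algebraMap F K (1 * t ^ 2 + -a * t + b) = 0 := by
      rw [map_add, map_add, map_mul, map_mul, map_pow, map_neg, map_one, ht]
      linear_combination hω
    have h4 := (algebraMap F K).injective (this.trans (map_zero _).symm)
    simpa [p, IsRoot] using h4
  have hsum : ω + β ω = algebraMap F K a := by
    have hmul : (ω - β ω) * (ω + β ω - algebraMap F K a) = 0 := by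
      linear_combination hω - hβω
    rcases mul_eq_zero.mp hmul with h | h
    · exact absurd (sub_eq_zero.mp h).symm hne
    · exact sub_eq_zero.mp h
  refine ⟨ω, hsum, ?_⟩
  have : β ω = algebraMap F K a - ω := by rw [← hsum]; ring
  rw [this]
  linear_combination (-1 : K) * hω

/-- The binary part: `K` with the norm form is the anisotropic plane. -/
lemma exists_binary_iso (hK : Fintype.card K = Fintype.card F ^ 2) (r : K →ₗ[F] F)
    (hr : ∀ a : F, r (algebraMap F K a) = a) (a b : F)
    (hab : ∀ z₁ z₂ : F, z₁ ^ 2 + a * z₁ * z₂ + b * z₂ ^ 2 = 0 → z₁ = 0 ∧ z₂ = 0) :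
    ∃ e : (Fin 1 → K) ≃ₗ[F] (Fin 2 → F),
      ∀ y, (e y 0) ^ 2 + a * e y 0 * e y 1 + b * (e y 1) ^ 2 = QG r y := by
  obtain ⟨ω, hω1, hω2⟩ := exists_omega hK a b hab
  let f : (Fin 2 → F) →ₗ[F] (Fin 1 → K) :=
    { toFun := fun z _ => algebraMap F K (z 0) + algebraMap F K (z 1) * ω
      map_add' := by
        intro x y
        funext _
        simp only [Pi.add_apply, map_add]
        ring
      map_smul' := by
        intro c x
        funext _
        simp only [Pi.smul_apply, smul_eq_mul, map_mul, RingHom.id_apply, Algebra.smul_def]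
        ring }
  have hf : ∀ z, QG r (f z) = z 0 ^ 2 + a * z 0 * z 1 + b * z 1 ^ 2 := by
    intro z
    apply (algebraMap F K).injective
    rw [algebraMap_QG hK r hr]
    have : hsG (F := F) (f z) (f z) =
        (algebraMap F K (z 0) + algebraMap F K (z 1) * ω) *
          β (algebraMap F K (z 0) + algebraMap F K (z 1) * ω) := by
      simp only [hsG, Fin.sum_univ_one]
      rfl
    rw [this]
    simp only [map_add, map_mul, map_pow, AlgHom.commutes]
    linear_combination (algebraMap F K (z 0) * algebraMap F K (z 1)) * hω1 +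
      (algebraMap F K (z 1)) ^ 2 * hω2
  have hQ0 : QG r (0 : Fin 1 → K) = 0 := by
    simp [QG, hsG]
  have hinj : Function.Injective f := by
    rw [injective_iff_map_eq_zero]
    intro z hz
    have h0 : z 0 ^ 2 + a * z 0 * z 1 + b * z 1 ^ 2 = 0 := by
      rw [← hf, hz, hQ0]
    obtain ⟨h1, h2⟩ := hab _ _ h0
    funext i
    fin_cases i
    · exact h1
    · exact h2
  have hfin : Module.Finite F K := Module.Finite.of_finite
  have hrank : Module.finrank F (Fin 2 → F) = Module.finrank F (Fin 1 → K) := by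
    rw [Module.finrank_fin_fun, Module.finrank_pi_fintype]
    simp [finrank_eq_two hK]
  refine ⟨(LinearEquiv.ofInjectiveOfFinrankEq f hinj hrank).symm, ?_⟩
  intro y
  set z := (LinearEquiv.ofInjectiveOfFinrankEq f hinj hrank).symm y with hz
  have hy : f z = y := by
    have := (LinearEquiv.ofInjectiveOfFinrankEq f hinj hrank).apply_symm_apply y
    rw [← hz] at this
    exact this
  rw [← hy, hf]

end

/-- For m odd, the unitary group GU_m(q) (over the field with q² elements) embeds in the orthogonal group O⁻_2m(q) of an elliptic form (Σ_(i<m−1) x_i y_i plus an anisotropic binary form) over the field with q elements (there is an injective homomorphism). -/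
theorem result {K F : Type*} [Field K] [Fintype K] [Field F] [Fintype F] {q : ℕ} (hK : Fintype.card K = q ^ 2) (hF : Fintype.card F = q) (m : ℕ) (hm : Odd m) (a b : F) (hab : ∀ z₁ z₂ : F, z₁ ^ 2 + a * z₁ * z₂ + b * z₂ ^ 2 = 0 → z₁ = 0 ∧ z₂ = 0) : ∃ φ : ↥(Cfsg.GU m K q) →* ↥(Cfsg.isometryGroup F (Cfsg.quadFormMinus (m - 1) F a b)), Function.Injective φ := by
  obtain ⟨ι⟩ := exists_ringHom hK hF
  subst hF
  letI : Algebra F K := ι.toAlgebra
  have hK' : Fintype.card K = Fintype.card F ^ 2 := hK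
  obtain ⟨r, hr⟩ := LinearMap.exists_leftInverse_of_injective (Algebra.linearMap F K)
    (LinearMap.ker_eq_bot.mpr (algebraMap F K).injective)
  have hr' : ∀ a : F, r (algebraMap F K a) = a := by
    intro a
    have := LinearMap.congr_fun hr a
    simpa using this
  obtain ⟨k, hk⟩ := hm
  obtain rfl : m = k + k + 1 := by omega
  have h1 : k + k + 1 - 1 = k + k := by omega
  rw [h1]
  obtain ⟨e₁, he₁⟩ := exists_plus_iso hK' r hr' k
  obtain ⟨e₂, he₂⟩ := exists_binary_iso hK' r hr' a b hab
  let s : (Fin k ⊕ Fin k) ⊕ Fin 1 ≃ Fin (k + k + 1) :=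
    (Equiv.sumCongr finSumFinEquiv (Equiv.refl _)).trans finSumFinEquiv
  let E₀ : (Fin (k + k + 1) → K) ≃ₗ[F] ((Fin k ⊕ Fin k) ⊕ Fin 1 → K) :=
    LinearEquiv.funCongrLeft F K s
  let E₁ : ((Fin k ⊕ Fin k) ⊕ Fin 1 → K) ≃ₗ[F] ((Fin k ⊕ Fin k → K) × (Fin 1 → K)) :=
    LinearEquiv.sumArrowLequivProdArrow (Fin k ⊕ Fin k) (Fin 1) F K
  let E₂ : ((Fin k ⊕ Fin k → K) × (Fin 1 → K)) ≃ₗ[F]
      ((Fin (k + k) ⊕ Fin (k + k) → F) × (Fin 2 → F)) := LinearEquiv.prodCongr e₁ e₂
  let E₃ : ((Fin (k + k) ⊕ Fin (k + k) → F) × (Fin 2 → F)) ≃ₗ[F]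
      ((Fin (k + k) ⊕ Fin (k + k)) ⊕ Fin 2 → F) :=
    (LinearEquiv.sumArrowLequivProdArrow (Fin (k + k) ⊕ Fin (k + k)) (Fin 2) F F).symm
  have hE : ∀ x, Cfsg.quadFormMinus (k + k) F a b (E₃ (E₂ (E₁ (E₀ x)))) = QG r x := by
    intro x
    have hx0 : QG r x = QG r (E₀ x) := by
      change r (hsG (F := F) x x) = r (hsG (F := F) (x ∘ s) (x ∘ s))
      rw [hsG_comp]
    have hx1 : QG r (E₀ x) = QG r (E₁ (E₀ x)).1 + QG r (E₁ (E₀ x)).2 := by
      rw [QG, QG, QG, ← map_add]
      congr 1
      simp only [hsG, Fintype.sum_sum_type]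
      rfl
    rw [hx0, hx1, ← he₁, ← he₂]
    rfl
  refine exists_hom_isometryGroup (Cfsg.quadFormMinus (k + k) F a b) (QG r)
    (((E₀.trans E₁).trans E₂).trans E₃) ?_
    ((gLin (F := F) (k + k + 1)).comp (Cfsg.GU (k + k + 1) K (Fintype.card F)).subtype) ?_ ?_
  · intro x
    exact hE x
  · exact (gLin_injective (k + k + 1)).comp Subtype.val_injective
  · intro g x
    exact Cfsg.Agent.S2640.QG_gLin r (k + k + 1) g.1 g.2 x

end Cfsg.Agent.S2641
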