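import Cfsg.Statements.S2642
import Cfsg.Agent.S2570
import Cfsg.Agent.Lib.Helper43_GUUnip

set_option autoImplicit false
open Cfsg

namespace Cfsg.Agent.S2642

open Cfsg.Agent.Lib.Helper43_Jordan Cfsg.Agent.Lib.Helper43_GUUnip
  Cfsg.Agent.Lib.Helper43_GUConj

/-- Number of conjugacy classes of elements of order p in the general unitary group GU_n(q), q a power of p: every unipotent Jordan type occurs and the classes correspond to the partitions of n with all parts at most p other than the all-ones partition, exactly as in GL_n; so there are (number of partitions of n with parts ≤ p) − 1 classes. -/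
theorem result {K : Type*} [Field K] [Fintype K] {p q n : ℕ} [Fact p.Prime] [CharP K p] (hK : Fintype.card K = q ^ 2) : Nat.card {C : ConjClasses ↥(Cfsg.GU n K q) // ∃ g : ↥(Cfsg.GU n K q), ConjClasses.mk g = C ∧ orderOf g = p} = (Finset.univ.filter (fun μ : Nat.Partition n => ∀ a ∈ μ.parts, a ≤ p)).card - 1 := by
  rw [← Cfsg.Agent.S2570.result (F := K) (p := p) n]
  let Φ : {C : ConjClasses ↥(Cfsg.GU n K q) //
        ∃ g : ↥(Cfsg.GU n K q), ConjClasses.mk g = C ∧ orderOf g = p} →
      {C : ConjClasses (GL (Fin n) K) //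
        ∃ g : GL (Fin n) K, ConjClasses.mk g = C ∧ orderOf g = p} := fun C =>
    ⟨ConjClasses.map (Cfsg.GU n K q).subtype C.1, by
      obtain ⟨g, hg, ho⟩ := C.2
      refine ⟨(g : GL (Fin n) K), ?_, ?_⟩
      · rw [← hg]
        rfl
      · rw [Subgroup.orderOf_coe]
        exact ho⟩
  apply Nat.card_eq_of_bijective Φ
  constructor
  · rintro ⟨C, g, rfl, hg⟩ ⟨C', g', rfl, hg'⟩ h
    have h1 : ConjClasses.mk (g : GL (Fin n) K) = ConjClasses.mk (g' : GL (Fin n) K) :=
      congrArg Subtype.val h
    rw [ConjClasses.mk_eq_mk_iff_isConj] at h1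
    apply Subtype.ext
    show ConjClasses.mk g = ConjClasses.mk g'
    rw [ConjClasses.mk_eq_mk_iff_isConj]
    exact isConj_GU hK g g' h1
  · rintro ⟨C, g, rfl, hg⟩
    have hN : IsNilpotent (Nof g) := (isNilpotent_Nof_iff p g).2 ⟨1, by rw [pow_one]; exact hg⟩
    obtain ⟨B, hB⟩ := exists_GU_conj hK g hN
    have hBo : orderOf B = p := by
      rw [← Subgroup.orderOf_coe, ← hg]
      obtain ⟨c, hc⟩ := hB
      exact (SemiconjBy.orderOf_eq (c : GL (Fin n) K) hc).symm
    refine ⟨⟨ConjClasses.mk B, B, rfl, hBo⟩, ?_⟩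
    apply Subtype.ext
    show ConjClasses.mk (B : GL (Fin n) K) = ConjClasses.mk g
    rw [ConjClasses.mk_eq_mk_iff_isConj]
    exact hB.symm

end Cfsg.Agent.S2642
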