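import Cfsg.Statements.S2646
import Cfsg.Agent.Lib.Helper43_GUCent4
import Cfsg.Agent.Lib.Helper43_GUCent6
import Cfsg.Agent.Lib.Helper5_GUOrder
import Cfsg.Agent.S2581

set_option autoImplicit false
open Cfsg

namespace Cfsg.Agent.S2646

open Matrix
open Cfsg.Agent.Lib.Helper43_GUCent Cfsg.Agent.Lib.Helper43_UnipCent
open Cfsg.Agent.Lib.Helper43_HermRoot Cfsg.Agent.Lib.Helper13_HermBridge
open Cfsg.Agent.Lib.Helper43_GUConj Cfsg.Agent.Lib.Helper43_GUUnip
open Cfsg.Agent.S2581

/-- the order of `GU_n(q)` as a function of `n` -/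
def gu (q n : ℕ) : ℕ :=
  q ^ (n * (n - 1) / 2) *
    ∏ i ∈ Finset.range n, (if Even i then q ^ (i + 1) + 1 else q ^ (i + 1) - 1)

theorem gu_zero (q : ℕ) : gu q 0 = 1 := by
  unfold gu
  simp

theorem cast_term (q₀ i : ℕ) (hq₀ : 1 ≤ q₀) :
    (((if Even i then q₀ ^ (i + 1) + 1 else q₀ ^ (i + 1) - 1 : ℕ)) : ℤ) =
      (q₀ : ℤ) ^ (i + 1) - (-1) ^ (i + 1) := by
  by_cases hi : Even i
  · rw [if_pos hi, Odd.neg_one_pow (Even.add_one hi)]
    push_cast
    ring
  · rw [if_neg hi]
    have hodd : Odd i := Nat.not_even_iff_odd.1 hi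
    rw [Even.neg_one_pow (Odd.add_one hodd)]
    have h1 : 1 ≤ q₀ ^ (i + 1) := Nat.one_le_pow _ _ hq₀
    push_cast [Nat.cast_sub h1]
    ring

theorem cast_gu (q n : ℕ) (hq : 1 ≤ q) :
    ((gu q n : ℕ) : ℤ) = (q : ℤ) ^ (n * (n - 1) / 2) *
      ∏ j : Fin n, ((q : ℤ) ^ ((j : ℕ) + 1) - (-1) ^ ((j : ℕ) + 1)) := by
  unfold gu
  push_cast
  congr 1
  rw [Fin.prod_univ_eq_prod_range (fun i => (q : ℤ) ^ (i + 1) - (-1) ^ (i + 1)) n]
  apply Finset.prod_congr rfl
  intro i _
  have := cast_term q i hq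
  push_cast at this
  exact this

section unitary

variable {K : Type*} [Field K] [Fintype K] {q : ℕ}

theorem card_GU_matrix (hK : Fintype.card K = q ^ 2) (n : ℕ) :
    Nat.card ↥(Cfsg.GU n K q) =
      Nat.card {x : Matrix (Fin n) (Fin n) K // starM (frobQ hK) x * x = 1} := by
  apply Nat.card_congr
  refine
    { toFun := fun x => ⟨((x : GL (Fin n) K) : Matrix (Fin n) (Fin n) K),
        (mem_GU_iff_star hK _).1 x.2⟩
      invFun := fun y => ⟨Matrix.GeneralLinearGroup.mk'' y.1
        (Matrix.isUnit_det_of_left_inverse y.2), (mem_GU_iff_star hK _).2 y.2⟩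
      left_inv := ?_
      right_inv := ?_ }
  · intro x
    apply Subtype.ext
    apply Units.ext
    rfl
  · intro y
    rfl

theorem card_unitary (hK : Fintype.card K = q ^ 2) (m : Type*) [Fintype m] [DecidableEq m] :
    Nat.card {g : Matrix m m K // starM (frobQ hK) g * g = 1} = gu q (Fintype.card m) := by
  have h1 : Nat.card {g : Matrix m m K // starM (frobQ hK) g * g = 1} =
      Nat.card {x : Matrix (Fin (Fintype.card m)) (Fin (Fintype.card m)) K //
        starM (frobQ hK) x * x = 1} := by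
    apply Nat.card_congr
    refine Equiv.subtypeEquiv (Matrix.reindex (Fintype.equivFin m) (Fintype.equivFin m)) ?_
    intro g
    rw [starM_reindex, ← reindex_mul', ← reindex_one' (K := K) (Fintype.equivFin m),
      (Matrix.reindex (Fintype.equivFin m) (Fintype.equivFin m)).injective.eq_iff]
  rw [h1, ← card_GU_matrix hK, Cfsg.Agent.Lib.Helper5_GUOrder.card_GU hK]
  rfl

end unitary

/-- Order of the centraliser in the general unitary group GU_n(q) of a unipotent element of given Jordan type: if u ∈ GU_n(q) (isometries of Σ u_i v_i^q over the field with q² elements) is similar to the unipotent matrix with a_i Jordan blocks of size i (all sizes at least 1), then its centraliser in GU_n(q) has order q^γ · Π_i |GU_(a_i)(q)| with γ = 2 Σ_(i<j) i a_i a_j + Σ_i (i − 1) a_i², the same exponent as in GL_n(q), where |GU_a(q)| = q^(a(a−1)/2) Π_(k=1)^a (q^k − (−1)^k). -/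
theorem result {K : Type*} [Field K] [Fintype K] {q n t : ℕ} (hK : Fintype.card K = q ^ 2) (d : Fin t → ℕ) (hd : ∀ k, 1 ≤ d k) (e : ((k : Fin t) × Fin (d k)) ≃ Fin n) (u : ↥(Cfsg.GU n K q)) (hu : IsConj (Matrix.reindex e e (Cfsg.jordanTypeMatrix d K)) ((u : GL (Fin n) K) : Matrix (Fin n) (Fin n) K)) : (Nat.card ↥(Subgroup.centralizer ({u} : Set ↥(Cfsg.GU n K q))) : ℤ) = (q : ℤ) ^ (2 * (∑ i ∈ Finset.range (Finset.univ.sup d + 1), ∑ j ∈ Finset.range (Finset.univ.sup d + 1), if i < j then i * (Finset.univ.filter (fun k : Fin t => d k = i)).card * (Finset.univ.filter (fun k : Fin t => d k = j)).card else 0) + ∑ i ∈ Finset.range (Finset.univ.sup d + 1), (i - 1) * (Finset.univ.filter (fun k : Fin t => d k = i)).card ^ 2) * ∏ i ∈ Finset.range (Finset.univ.sup d + 1), ((q : ℤ) ^ ((Finset.univ.filter (fun k : Fin t => d k = i)).card * ((Finset.univ.filter (fun k : Fin t => d k = i)).card - 1) / 2) * ∏ j : Fin (Finset.univ.filter (fun k : Fin t => d k = i)).card, ((q : ℤ) ^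 ((j : ℕ) + 1) - (-1) ^ ((j : ℕ) + 1))) := by
  classical
  have hq : 1 ≤ q := by
    rcases Nat.eq_zero_or_pos q with h | h
    · rw [h] at hK
      have : 0 < Fintype.card K := Fintype.card_pos
      omega
    · exact h
  have h1 := card_centralizer_eq_model hK d e u hu
  have h2 := card_model d hK hd (frobQ hK) (frobQ_frobQ hK) (frobQ_exists_ne hK)
  rw [← h1] at h2
  have h3 : ∀ a : BlockIdx d, Nat.card {g : Matrix (BlockFib d a.1) (BlockFib d a.1) K //
      starM (frobQ hK) g * g = 1} = gu q (Fintype.card (BlockFib d a.1)) :=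
    fun a => card_unitary hK _
  simp_rw [h3] at h2
  rw [prod_blockIdx d (gu q) (gu_zero q), ← Finset.prod_pow_eq_pow_sum,
    prod_blockIdx d (fun n => q ^ (n ^ 2)) (by simp), Finset.prod_pow_eq_pow_sum] at h2
  have hsum : ∑ k, ∑ l, min (d l) (d k) =
      2 * (∑ i ∈ Finset.range (Finset.univ.sup d + 1),
        ∑ j ∈ Finset.range (Finset.univ.sup d + 1), if i < j then i * cnt d i * cnt d j else 0) +
      ∑ i ∈ Finset.range (Finset.univ.sup d + 1), (i - 1) * cnt d i ^ 2 +
      ∑ i ∈ Finset.range (Finset.univ.sup d + 1), cnt d i ^ 2 := by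
    rw [← arith _ _ (cnt_zero d hd)]
    rw [sum_fiber d (fun i => ∑ l, min (d l) i)]
    apply Finset.sum_congr rfl
    intro i _
    congr 1
    exact sum_fiber d (fun j => min j i)
  rw [hsum, pow_add] at h2
  have hpos : 0 < q ^ (∑ i ∈ Finset.range (Finset.univ.sup d + 1), cnt d i ^ 2) :=
    pow_pos hq _
  have h4 : Nat.card ↥(Subgroup.centralizer ({u} : Set ↥(Cfsg.GU n K q))) =
      q ^ (2 * (∑ i ∈ Finset.range (Finset.univ.sup d + 1),
        ∑ j ∈ Finset.range (Finset.univ.sup d + 1), if i < j then i * cnt d i * cnt d j else 0) +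
      ∑ i ∈ Finset.range (Finset.univ.sup d + 1), (i - 1) * cnt d i ^ 2) *
      ∏ i ∈ Finset.range (Finset.univ.sup d + 1), gu q (cnt d i) := by
    apply Nat.eq_of_mul_eq_mul_right hpos
    rw [h2]
    ring
  rw [h4]
  push_cast
  congr 1
  apply Finset.prod_congr rfl
  intro i _
  exact cast_gu q (cnt d i) hq

end Cfsg.Agent.S2646
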