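import Cfsg.Statements.S2647
import Cfsg.Agent.Lib.Helper76_S2647_Main
import Cfsg.Agent.Lib.Helper76_S5320Bas
-- import your own Cfsg.Agent.* helpers here

set_option autoImplicit false
open Cfsg

namespace Cfsg.Agent.S2647

/-- Let q be an odd prime power with q ≡ ±3 (mod 8), F a field with q elements and S a Sylow 2-subgroup of the commutator subgroup Ω₇(q) of the orthogonal group of the form x₀² + x₁y₁ + x₂y₂ + x₃y₃ over F. Then every automorphism of S induced by N(S) is inner, S has no strongly closed subgroup other than 1 and S with respect to this group, and the 2-fusion system of Ω₇(q) on S is simple. -/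
theorem result {F : Type*} [Field F] [Fintype F] [DecidableEq F] (q : ℕ) (hF : Fintype.card F = q) (hq : q % 8 = 3 ∨ q % 8 = 5) (S : Sylow 2 ↥(Cfsg.Omega F (Cfsg.quadFormOdd 3 F))) : (Cfsg.groupFusionSystem (S : Subgroup ↥(Cfsg.Omega F (Cfsg.quadFormOdd 3 F)))).autGroup (S : Subgroup ↥(Cfsg.Omega F (Cfsg.quadFormOdd 3 F))) = Cfsg.Inn ↥(S : Subgroup ↥(Cfsg.Omega F (Cfsg.quadFormOdd 3 F))) ∧ (∀ T : Subgroup ↥(Cfsg.Omega F (Cfsg.quadFormOdd 3 F)), (Cfsg.groupFusionSystem (S : Subgroup ↥(Cfsg.Omega F (Cfsg.quadFormOdd 3 F)))).StronglyClosed T → T = ⊥ ∨ T = (S : Subgroup ↥(Cfsg.Omega F (Cfsg.quadFormOdd 3 F)))) ∧ (Cfsg.groupFusionSystem (S : Subgroup ↥(Cfsg.Omega F (Cfsg.quadFormOdd 3 F)))).IsSimple 2 := by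
  classical
  subst hF
  have : Fact (Nat.Prime 2) := ⟨Nat.prime_two⟩
  obtain ⟨h2, hns⟩ := Cfsg.Agent.Lib.Helper26_S2647_SQ2.sq2 (F := F) hq
  obtain ⟨a, b, hab⟩ := Cfsg.Agent.Lib.Helper76_S5320Bas.exists_ab (F := F)
  obtain ⟨e⟩ := Cfsg.Agent.Lib.Helper87_S2647_ISO.iso h2 a b hab
  obtain ⟨S₀, hN₀, hfl₀⟩ := Cfsg.Agent.Lib.Helper76_S2647_Main.exists_sylow hq e
  have : Finite ↥(Cfsg.Omega F (Cfsg.quadFormOdd 3 F)) := Finite.of_equiv _ e.symm.toEquiv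
  obtain ⟨Q, hQ⟩ := Cfsg.Agent.Lib.Helper88_FusFam.exists_fusLocalFam_of_iso e 2 S₀ _ hfl₀ S
  have hN := Cfsg.Agent.Lib.Helper64_S2647_TRANSN.transn 2 e S₀ hN₀ S
  refine ⟨Cfsg.Agent.Lib.Helper71_S2647_GENAUT.genaut _ hN, ?_,
    Cfsg.Agent.Lib.Helper88_FusFam.isSimple_of_fusLocalFam 2 S Q hQ⟩
  intro T hT
  obtain ⟨hTS, hsc⟩ := Cfsg.Agent.Lib.Helper84_S2647_GENSC.gensc _ T hT
  by_cases hTb : T = ⊥
  · exact Or.inl hTb
  · exact Or.inr (hQ.2.1 T hTS hTb hsc)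

end Cfsg.Agent.S2647
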