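import Cfsg.Statements.S2648
import Cfsg.Agent.Lib.Helper44_SpWreath
import Cfsg.Agent.Lib.Helper24_LinearPGroup
import Cfsg.Agent.Lib.Helper67_SpSylow
import Cfsg.Agent.S4014
import Cfsg.Agent.S0261

set_option autoImplicit false
open Cfsg

namespace Cfsg.Agent.S2648

open Matrix RegularWreathProduct Cfsg.Agent.Lib.Helper44_SpWreath
open scoped commutatorElement

universe u

/-- Generalised quaternion groups are not abelian. -/
theorem derivedSeries_quaternion_ne_bot (k : ℕ) (hk : 1 ≤ k) :
    derivedSeries (QuaternionGroup (2 ^ k)) 1 ≠ ⊥ := by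
  intro h
  have h1 : ⁅(QuaternionGroup.a 1 : QuaternionGroup (2 ^ k)), QuaternionGroup.xa 0⁆ ∈
      derivedSeries (QuaternionGroup (2 ^ k)) 1 := by
    rw [derivedSeries_succ, derivedSeries_zero]
    exact Subgroup.commutator_mem_commutator (Subgroup.mem_top _) (Subgroup.mem_top _)
  rw [h, Subgroup.mem_bot, commutatorElement_eq_one_iff_mul_comm, QuaternionGroup.a_mul_xa,
    QuaternionGroup.xa_mul_a] at h1
  have h2 : (0 - 1 : ZMod (2 * 2 ^ k)) = 0 + 1 := by
    injection h1
  have h3 : ((2 : ℕ) : ZMod (2 * 2 ^ k)) = 0 := by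
    have : (2 : ZMod (2 * 2 ^ k)) = 0 := by linear_combination -h2
    exact_mod_cast this
  rw [ZMod.natCast_eq_zero_iff] at h3
  have h4 : 2 * 2 ^ k ≤ 2 := Nat.le_of_dvd (by norm_num) h3
  have h5 : 2 ^ 1 ≤ 2 ^ k := Nat.pow_le_pow_right (by norm_num) hk
  omega

/-- A faithful symplectic representation of degree `2 ^ k` of a `2`-group of derived length `> k + 1`. -/
structure Model (F : Type u) [Field F] (k : ℕ) where
  /-- the group -/
  W : Type u
  [grp : Group W]
  [fin : Finite W]
  /-- the index type -/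
  l : Type
  [ft : Fintype l]
  [de : DecidableEq l]
  [ne : Nonempty l]
  pgroup : IsPGroup 2 W
  ds : derivedSeries W (k + 1) ≠ ⊥
  card : Fintype.card l = 2 ^ k
  /-- the representation -/
  ρ : W →* ↥(Matrix.symplecticGroup l F)
  inj : Function.Injective ρ

attribute [instance] Model.grp Model.fin Model.ft Model.de Model.ne

/-- The base model: a Sylow `2`-subgroup of `SL₂(F)`. -/
theorem nonempty_model_zero {F : Type u} [Field F] [Fintype F] (hF : Odd (Fintype.card F)) :
    Nonempty (Model F 0) := by
  classical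
  let T : Sylow 2 (Matrix.SpecialLinearGroup (Fin 2) F) := default
  obtain ⟨k, hk, ⟨e⟩⟩ := Cfsg.Agent.S0261.result hF T
  let c : Matrix.SpecialLinearGroup (Fin 2) F →* (Fin 1 → Matrix.SpecialLinearGroup (Fin 2) F) :=
    Pi.constMonoidHom (Fin 1) _
  have hc : Function.Injective c := fun x y h => congrFun h 0
  refine ⟨{ W := ↥(T : Subgroup (Matrix.SpecialLinearGroup (Fin 2) F))
            l := Fin 1
            pgroup := T.isPGroup'
            ds := ?_
            card := by simp
            ρ := ((Cfsg.Agent.Lib.Helper67_SpSylow.baseHom (F := F) 1).comp c).comp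
              (T : Subgroup (Matrix.SpecialLinearGroup (Fin 2) F)).subtype
            inj := ?_ }⟩
  · intro h0
    have h1 := map_derivedSeries_eq (f := e.toMonoidHom) e.surjective 1
    rw [h0, Subgroup.map_bot] at h1
    exact derivedSeries_quaternion_ne_bot k hk h1.symm
  · exact ((Cfsg.Agent.Lib.Helper67_SpSylow.baseHom_injective 1).comp hc).comp
      (Subgroup.subtype_injective _)

/-- The inductive step: wreath product with the group of order two. -/
theorem nonempty_model_succ {F : Type u} [Field F] (k : ℕ) (m : Model F k) :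
    Nonempty (Model F (k + 1)) := by
  classical
  have hnt : Nontrivial C2 := ⟨⟨gen, 1, gen_ne_one⟩⟩
  refine ⟨{ W := m.W ≀ᵣ C2
            l := m.l ⊕ m.l
            pgroup := ?_
            ds := Cfsg.Agent.S4014.derivedSeries_wreath_ne_bot (D := m.W) (Q := C2) (k + 1) m.ds
            card := by rw [Fintype.card_sum, m.card, pow_succ]; ring
            ρ := wrHom m.ρ
            inj := wrHom_injective m.ρ m.inj }⟩
  obtain ⟨a, ha⟩ := IsPGroup.iff_card.1 m.pgroup
  apply IsPGroup.of_card (n := a * 2 + 1)
  have hC : Nat.card C2 = 2 := by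
    change Nat.card (Multiplicative (ZMod 2)) = 2
    rw [Nat.card_eq_fintype_card, Fintype.card_multiplicative, ZMod.card]
  rw [RegularWreathProduct.card, ha, hC, ← pow_mul, pow_succ]

theorem nonempty_model {F : Type u} [Field F] [Fintype F] (hF : Odd (Fintype.card F)) :
    ∀ k : ℕ, Nonempty (Model F k) := by
  intro k
  induction k with
  | zero => exact nonempty_model_zero hF
  | succ k ih =>
    obtain ⟨m⟩ := ih
    exact nonempty_model_succ k m

/-- Let q be odd, F a field with q elements and n ≥ 1. A Sylow 2-subgroup R of the symplectic group Sp_{2n}(F) has derived length exactly k + 1, where 2^k ≤ 2n < 2^{k+1}: the (k+1)-st term of its derived series is trivial and the k-th is not. -/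
theorem result {F : Type*} [Field F] [Fintype F] [DecidableEq F] (q : ℕ) (hF : Fintype.card F = q) (hq : Odd q) (n : ℕ) (hn : 1 ≤ n) (R : Sylow 2 ↥(Matrix.symplecticGroup (Fin n) F)) : derivedSeries ↥(R : Subgroup ↥(Matrix.symplecticGroup (Fin n) F)) (Nat.log 2 (2 * n) + 1) = ⊥ ∧ derivedSeries ↥(R : Subgroup ↥(Matrix.symplecticGroup (Fin n) F)) (Nat.log 2 (2 * n)) ≠ ⊥ := by
  classical
  subst hF
  constructor
  · -- upper bound: a `2`-group of matrices of degree `2n`
    let e : Fin n ⊕ Fin n ≃ Fin (2 * n) := finSumFinEquiv.trans (finCongr (two_mul n).symm)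
    let f : ↥(R : Subgroup ↥(Matrix.symplecticGroup (Fin n) F)) →* Matrix (Fin (2 * n)) (Fin (2 * n)) F :=
      ((Matrix.reindexAlgEquiv F F e : Matrix (Fin n ⊕ Fin n) (Fin n ⊕ Fin n) F ≃ₐ[F] _) :
        Matrix (Fin n ⊕ Fin n) (Fin n ⊕ Fin n) F →* _).comp
      ((Matrix.symplecticGroup (Fin n) F).subtype.comp
        (R : Subgroup ↥(Matrix.symplecticGroup (Fin n) F)).subtype)
    have hf : Function.Injective f := by
      intro x y h
      have h1 := (Matrix.reindexAlgEquiv F F e).injective h
      exact Subtype.ext (Subtype.ext h1)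
    exact Cfsg.Agent.Lib.Helper24_LinearPGroup.derivedSeries_eq_bot_of_injective_matrix 2
      R.isPGroup' F (2 * n) (by omega) f hf
  · -- lower bound
    set k := Nat.log 2 n with hk
    have hlog : Nat.log 2 (2 * n) = k + 1 := by
      rw [mul_comm, Nat.log_mul_base (by norm_num) (by omega)]
    rw [hlog]
    have hkn : 2 ^ k ≤ n := Nat.pow_log_le_self 2 (by omega)
    obtain ⟨m⟩ := nonempty_model (F := F) hq k
    -- the embedding into `Sp (Fin n)`
    have hcard : Fintype.card (m.l ⊕ Fin (n - 2 ^ k)) = Fintype.card (Fin n) := by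
      rw [Fintype.card_sum, m.card, Fintype.card_fin, Fintype.card_fin]
      omega
    let e : m.l ⊕ Fin (n - 2 ^ k) ≃ Fin n := Fintype.equivOfCardEq hcard
    let ψ : m.W →* ↥(Matrix.symplecticGroup (Fin n) F) :=
      (reSp e).comp ((dsum.comp (MonoidHom.inl _ ↥(Matrix.symplecticGroup (Fin (n - 2 ^ k)) F))).comp m.ρ)
    have hψ : Function.Injective ψ := by
      intro A B h
      have h1 := reSp_injective e h
      have h2 := dsum_injective h1
      have h3 : m.ρ A = m.ρ B := congrArg Prod.fst h2
      exact m.inj h3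
    have hrange : IsPGroup 2 ψ.range := by
      rw [MonoidHom.range_eq_map]
      exact (m.pgroup.to_subgroup ⊤).map ψ
    obtain ⟨Q, hQ⟩ := hrange.exists_le_sylow
    let ψ' : m.W →* (Q : Subgroup ↥(Matrix.symplecticGroup (Fin n) F)) :=
      ψ.codRestrict (Q : Subgroup ↥(Matrix.symplecticGroup (Fin n) F)) (fun x => hQ ⟨x, rfl⟩)
    have hψ' : Function.Injective ψ' := by
      intro x y hxy
      apply hψ
      exact congrArg Subtype.val hxy
    have hQne : derivedSeries (Q : Subgroup ↥(Matrix.symplecticGroup (Fin n) F)) (k + 1) ≠ ⊥ := by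
      intro h0
      have h1 := map_derivedSeries_le_derivedSeries ψ' (k + 1)
      rw [h0, le_bot_iff, Subgroup.map_eq_bot_iff_of_injective _ hψ'] at h1
      exact m.ds h1
    let ε : (Q : Subgroup ↥(Matrix.symplecticGroup (Fin n) F)) ≃*
        (R : Subgroup ↥(Matrix.symplecticGroup (Fin n) F)) := Q.equiv R
    intro h0
    have h1 := map_derivedSeries_eq (f := ε.toMonoidHom) ε.surjective (k + 1)
    rw [h0, Subgroup.map_eq_bot_iff_of_injective _ ε.injective] at h1
    exact hQne h1

end Cfsg.Agent.S2648
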