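import Cfsg.Statements.S2665

set_option autoImplicit false
open scoped MatrixGroups
open Cfsg

namespace Cfsg.Agent.S2665

open Polynomial in
/-- the auxiliary polynomials -/
noncomputable def Dpoly {K : Type*} [Field K] (q : ℕ) (a : ℕ → K) : ℕ → Polynomial K
  | 0 => C (a 0) * X ^ (q - 1)
  | (i + 1) => X ^ (q - 1) * ((Dpoly q a i) ^ q + C (a (i + 1)))

open Polynomial in
theorem Dpoly_eval_zero {K : Type*} [Field K] (q : ℕ) (hq : 2 ≤ q) (a : ℕ → K) (i : ℕ) :
    (Dpoly q a i).eval 0 = 0 := by
  have h : (0 : K) ^ (q - 1) = 0 := zero_pow (by omega)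
  cases i with
  | zero => simp [Dpoly, h]
  | succ i => simp [Dpoly, h]

open Polynomial in
theorem Dpoly_eq_zero {K : Type*} [Field K] (q : ℕ) (hq : 2 ≤ q) (a : ℕ → K) (i : ℕ)
    (h : Dpoly q a i = 0) : ∀ j ≤ i, a j = 0 := by
  induction i with
  | zero =>
    intro j hj
    have hj0 : j = 0 := by omega
    subst hj0
    simp only [Dpoly, mul_eq_zero, C_eq_zero] at h
    rcases h with h | h
    · exact h
    · exact absurd h (pow_ne_zero _ X_ne_zero)
  | succ i ih =>
    simp only [Dpoly, mul_eq_zero] at h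
    rcases h with h | h
    · exact absurd h (pow_ne_zero _ X_ne_zero)
    · have h0 := congrArg (Polynomial.eval 0) h
      simp only [eval_add, eval_pow, eval_C, eval_zero, Dpoly_eval_zero q hq a i] at h0
      rw [zero_pow (by omega), zero_add] at h0
      rw [h0, C_0, add_zero] at h
      have h1 : Dpoly q a i = 0 := pow_eq_zero_iff (by omega) |>.mp h
      intro j hj
      rcases Nat.lt_or_ge j (i + 1) with hlt | hge
      · exact ih h1 j (by omega)
      · have : j = i + 1 := by omega
        rw [this]; exact h0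

open Polynomial in
/-- Lemma P: a nonzero root of the additive polynomial. -/
theorem exists_root_aux {K : Type*} [Field K] [IsAlgClosed K] (q : ℕ) (hq : 2 ≤ q) (a : ℕ → K)
    (m : ℕ) (ha : ∃ i, i < m ∧ a i ≠ 0) :
    ∃ t : K, t ≠ 0 ∧ ∃ c : ℕ → K, c 0 = a 0 * t ^ q ∧
      (∀ i, c (i + 1) = (c i) ^ q + a (i + 1) * t ^ q) ∧ c (m - 1) = t := by
  obtain ⟨i₀, hi₀, hai₀⟩ := ha
  set R : Polynomial K := Dpoly q a (m - 1) - 1 with hR
  have hR0 : R.eval 0 = -1 := by
    rw [hR, eval_sub, Dpoly_eval_zero q hq, eval_one, zero_sub]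
  have hdeg : R.degree ≠ 0 := by
    intro hd
    have h1 := eq_C_of_degree_eq_zero hd
    have h2 : Dpoly q a (m - 1) = C (R.coeff 0 + 1) := by
      rw [C_add, ← h1, hR, C_1, sub_add_cancel]
    have h3 := congrArg (Polynomial.eval 0) h2
    rw [Dpoly_eval_zero q hq, eval_C] at h3
    rw [← h3, C_0] at h2
    exact hai₀ (Dpoly_eq_zero q hq a (m - 1) h2 i₀ (by omega))
  obtain ⟨t, ht⟩ := IsAlgClosed.exists_root R hdeg
  have ht0 : t ≠ 0 := by
    rintro rfl
    rw [IsRoot.def, hR0] at ht
    exact (neg_ne_zero.mpr one_ne_zero) ht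
  have htD : (Dpoly q a (m - 1)).eval t = 1 := by
    rw [IsRoot.def, hR, eval_sub, eval_one, sub_eq_zero] at ht
    exact ht
  have hqq : t * t ^ (q - 1) = t ^ q := by
    rw [← pow_succ', show q - 1 + 1 = q by omega]
  refine ⟨t, ht0, fun i => t * (Dpoly q a i).eval t, ?_, ?_, ?_⟩
  · simp only [Dpoly, eval_mul, eval_C, eval_pow, eval_X]
    rw [mul_left_comm, hqq]
  · intro i
    simp only [Dpoly, eval_mul, eval_C, eval_pow, eval_X, eval_add]
    rw [← mul_assoc, hqq, mul_pow]
    ring
  · show t * (Dpoly q a (m - 1)).eval t = t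
    rw [htD, mul_one]



/-- Lemma 1: an injective Frobenius-semilinear endomorphism of a nonzero finite-dimensional space
over an algebraically closed field has a nonzero fixed vector. -/
theorem exists_fixed_ne_zero {K : Type*} [Field K] [IsAlgClosed K] {σ : K →+* K} {V : Type*}
    [AddCommGroup V] [Module K V] [FiniteDimensional K V] [Nontrivial V] (q : ℕ) (hq : 2 ≤ q)
    (hσ : ∀ x, σ x = x ^ q) (φ : V →ₛₗ[σ] V) (hφ : Function.Injective φ) :
    ∃ w : V, w ≠ 0 ∧ φ w = w := by
  classical
  obtain ⟨v, hv⟩ := exists_ne (0 : V)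
  set fam : (m : ℕ) → Fin m → V := fun m i => (φ^[i]) v with hfam
  have hex : ∃ m, ¬ LinearIndependent K (fam m) := by
    refine ⟨Module.finrank K V + 1, fun h => ?_⟩
    have := h.fintype_card_le_finrank
    simp at this
  have hm₁spec : ¬ LinearIndependent K (fam (Nat.find hex)) := Nat.find_spec hex
  have hm₁min : ∀ k < Nat.find hex, LinearIndependent K (fam k) :=
    fun k hk => not_not.mp (Nat.find_min hex hk)
  have h0 : LinearIndependent K (fam 0) := linearIndependent_empty_type
  have h1 : LinearIndependent K (fam 1) := by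
    rw [linearIndependent_unique_iff]
    simpa [hfam] using hv
  obtain ⟨m, hm⟩ : ∃ m, Nat.find hex = m + 2 := by
    have hne0 : Nat.find hex ≠ 0 := fun h => hm₁spec (h ▸ h0)
    have hne1 : Nat.find hex ≠ 1 := fun h => hm₁spec (h ▸ h1)
    exact ⟨Nat.find hex - 2, by omega⟩
  rw [hm] at hm₁spec
  have hLI : LinearIndependent K (fam (m + 1)) := hm₁min _ (by omega)
  -- `φ^[m+1] v` is in the span of the earlier ones
  have hspan : (φ^[m + 1]) v ∈ Submodule.span K (Set.range (fam (m + 1))) := by
    by_contra hnot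
    apply hm₁spec
    rw [linearIndependent_finSucc']
    exact ⟨hLI, hnot⟩
  obtain ⟨a₀, ha₀⟩ := (Submodule.mem_span_range_iff_exists_fun K).mp hspan
  set a : ℕ → K := fun i => if h : i < m + 1 then a₀ ⟨i, h⟩ else 0 with ha
  have hsum : (φ^[m + 1]) v = ∑ i ∈ Finset.range (m + 1), a i • (φ^[i]) v := by
    rw [← ha₀, Finset.sum_range]
    apply Finset.sum_congr rfl
    intro i _
    simp only [ha, hfam, Fin.is_lt, dite_true, Fin.eta]
  have hane : ∃ i, i < m + 1 ∧ a i ≠ 0 := by
    by_contra hall
    simp only [not_exists, not_and, not_not] at hall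
    have hz : (φ^[m + 1]) v = 0 := by
      rw [hsum]
      apply Finset.sum_eq_zero
      intro i hi
      rw [hall i (Finset.mem_range.mp hi), zero_smul]
    have hinj : Function.Injective (φ^[m + 1]) := hφ.iterate _
    have hz0 : (φ^[m + 1]) 0 = 0 := by
      apply Function.iterate_fixed
      exact map_zero φ
    exact hv (hinj (hz.trans hz0.symm))
  obtain ⟨t, ht0, c, hc0, hcs, hcm⟩ := exists_root_aux q hq a (m + 1) hane
  rw [Nat.add_sub_cancel] at hcm
  refine ⟨∑ i ∈ Finset.range (m + 1), c i • (φ^[i]) v, ?_, ?_⟩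
  · intro hzero
    rw [Finset.sum_range] at hzero
    have := (Fintype.linearIndependent_iff.mp hLI) (fun i => c i) hzero (Fin.last m)
    simp only [Fin.val_last] at this
    exact ht0 (hcm ▸ this)
  · rw [map_sum]
    have e1 : ∀ i, φ (c i • (φ^[i]) v) = (c i) ^ q • (φ^[i + 1]) v := by
      intro i
      rw [map_smulₛₗ, hσ, Function.iterate_succ_apply']
    simp only [e1]
    rw [Finset.sum_range_succ, hsum, hcm, Finset.sum_range_succ' (fun i => a i • (φ^[i]) v),
      Finset.sum_range_succ' (fun i => c i • (φ^[i]) v), smul_add, Finset.smul_sum, ← add_assoc,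
      ← Finset.sum_add_distrib]
    congr 1
    · apply Finset.sum_congr rfl
      intro i _
      rw [hcs i, add_smul, smul_smul, mul_comm]
    · rw [hc0, smul_smul, mul_comm]



/-- Lemma 2: a fixed vector outside the span of independent fixed vectors. -/
theorem exists_fixed_not_mem_span {K : Type*} [Field K] [IsAlgClosed K] {σ : K →+* K} {V : Type*}
    [AddCommGroup V] [Module K V] [FiniteDimensional K V] (q : ℕ) (hq : 2 ≤ q)
    (hσ : ∀ x, σ x = x ^ q) (φ : V →ₛₗ[σ] V) (hφ : Function.Injective φ)
    (k : ℕ) (b : Fin k → V) (hb : LinearIndependent K b) (hfix : ∀ i, φ (b i) = b i)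
    (hk : k < Module.finrank K V) :
    ∃ v : V, φ v = v ∧ v ∉ Submodule.span K (Set.range b) := by
  classical
  set W := Submodule.span K (Set.range b) with hW
  have hσsurj : Function.Surjective σ := by
    intro y
    obtain ⟨z, hz⟩ := IsAlgClosed.exists_pow_nat_eq y (by omega : 0 < q)
    exact ⟨z, by rw [hσ, hz]⟩
  have hφcomb : ∀ c : Fin k → K, φ (∑ i, c i • b i) = ∑ i, σ (c i) • b i := by
    intro c
    rw [map_sum]
    apply Finset.sum_congr rfl
    intro i _
    rw [map_smulₛₗ, hfix]
  have hmemW : ∀ c : Fin k → K, ∑ i, c i • b i ∈ W := fun c =>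
    (Submodule.mem_span_range_iff_exists_fun K).mpr ⟨c, rfl⟩
  have hWstable : W ≤ W.comap φ := by
    intro w hw
    obtain ⟨c, rfl⟩ := (Submodule.mem_span_range_iff_exists_fun K).mp hw
    rw [Submodule.mem_comap, hφcomb]
    exact hmemW _
  have hWinv : ∀ x, φ x ∈ W → x ∈ W := by
    intro x hx
    obtain ⟨c, hc⟩ := (Submodule.mem_span_range_iff_exists_fun K).mp hx
    choose d hd using fun i => hσsurj (c i)
    have : φ (∑ i, d i • b i) = φ x := by
      rw [hφcomb, ← hc]
      simp only [hd]
    rw [← hφ this]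
    exact hmemW _
  set φbar := W.mapQ W φ hWstable with hφbar
  have hφbarinj : Function.Injective φbar := by
    rw [injective_iff_map_eq_zero]
    intro x hx
    obtain ⟨x, rfl⟩ := Submodule.Quotient.mk_surjective W x
    rw [hφbar, Submodule.mapQ_apply, Submodule.Quotient.mk_eq_zero] at hx
    rw [Submodule.Quotient.mk_eq_zero]
    exact hWinv x hx
  have hWne : W ≠ ⊤ := by
    intro htop
    have h1 : Module.finrank K W = k := by
      rw [hW, finrank_span_eq_card hb, Fintype.card_fin]
    rw [htop, finrank_top] at h1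
    omega
  have : Nontrivial (V ⧸ W) := (Submodule.Quotient.nontrivial_iff).mpr hWne
  obtain ⟨wbar, hwbar0, hwbarfix⟩ := exists_fixed_ne_zero q hq hσ φbar hφbarinj
  obtain ⟨v, rfl⟩ := Submodule.Quotient.mk_surjective W wbar
  rw [hφbar, Submodule.mapQ_apply, Submodule.Quotient.eq] at hwbarfix
  obtain ⟨c, hc⟩ := (Submodule.mem_span_range_iff_exists_fun K).mp hwbarfix
  have hAS : ∀ y : K, ∃ d : K, d ^ q - d = y := by
    intro y
    have h1 : (Polynomial.X + Polynomial.C y : Polynomial K).degree <
        (Polynomial.X ^ q : Polynomial K).degree := by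
      rw [Polynomial.degree_X_pow, Polynomial.degree_X_add_C]
      exact_mod_cast (by omega : 1 < q)
    have hdeg : (Polynomial.X ^ q - (Polynomial.X + Polynomial.C y) : Polynomial K).degree ≠ 0 := by
      rw [Polynomial.degree_sub_eq_left_of_degree_lt h1, Polynomial.degree_X_pow]
      exact_mod_cast (by omega : q ≠ 0)
    obtain ⟨d, hd⟩ := IsAlgClosed.exists_root _ hdeg
    refine ⟨d, ?_⟩
    simp only [Polynomial.IsRoot.def, Polynomial.eval_sub, Polynomial.eval_pow, Polynomial.eval_X,
      Polynomial.eval_add, Polynomial.eval_C] at hd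
    linear_combination hd
  choose d hd using fun i => hAS (-(c i))
  refine ⟨v + ∑ i, d i • b i, ?_, ?_⟩
  · rw [map_add, hφcomb]
    have h2 : φ v = v + ∑ i, c i • b i := by rw [hc]; abel
    rw [h2, add_assoc, ← Finset.sum_add_distrib]
    congr 1
    apply Finset.sum_congr rfl
    intro i _
    rw [← add_smul, hσ]
    congr 1
    have := hd i
    linear_combination this
  · intro hmem
    apply hwbar0
    rw [Submodule.Quotient.mk_eq_zero]
    have := W.sub_mem hmem (hmemW d)
    simpa using this

/-- Lemma 3: independent families of fixed vectors of every size up to the dimension. -/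
theorem exists_fixed_family {K : Type*} [Field K] [IsAlgClosed K] {σ : K →+* K} {V : Type*}
    [AddCommGroup V] [Module K V] [FiniteDimensional K V] (q : ℕ) (hq : 2 ≤ q)
    (hσ : ∀ x, σ x = x ^ q) (φ : V →ₛₗ[σ] V) (hφ : Function.Injective φ) (k : ℕ)
    (hk : k ≤ Module.finrank K V) :
    ∃ b : Fin k → V, LinearIndependent K b ∧ ∀ i, φ (b i) = b i := by
  induction k with
  | zero => exact ⟨Fin.elim0, linearIndependent_empty_type, fun i => i.elim0⟩
  | succ k ih =>
    obtain ⟨b, hb, hfix⟩ := ih (by omega)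
    obtain ⟨v, hv, hvb⟩ := exists_fixed_not_mem_span q hq hσ φ hφ k b hb hfix (by omega)
    refine ⟨Fin.snoc b v, hb.finSnoc hvb, ?_⟩
    intro i
    refine Fin.lastCases ?_ (fun j => ?_) i
    · simp only [Fin.snoc_last]; exact hv
    · simp only [Fin.snoc_castSucc]; exact hfix j



/-- the Frobenius-semilinear map attached to a matrix -/
noncomputable def phiOf {K : Type*} [Field K] (σ : K →+* K) {n : ℕ}
    (g : Matrix (Fin n) (Fin n) K) : (Fin n → K) →ₛₗ[σ] (Fin n → K) where
  toFun v := g.mulVec (fun i => σ (v i))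
  map_add' u v := by
    rw [← Matrix.mulVec_add]
    congr 1
    ext i
    simp
  map_smul' c v := by
    rw [← Matrix.mulVec_smul]
    congr 1
    ext i
    simp

theorem phiOf_apply {K : Type*} [Field K] (σ : K →+* K) {n : ℕ}
    (g : Matrix (Fin n) (Fin n) K) (v : Fin n → K) :
    phiOf σ g v = g.mulVec (fun i => σ (v i)) := rfl

/-- The Lang–Steinberg Theorem for the general linear group. Let `K` be an algebraically closed field of prime characteristic `p`, let `q = p^f` with `f ≥ 1`, and let `σ` be the endomorphism of GL_n(K) raising every matrix entry to the `q`-th power. Then every element `g` of GL_n(K) can be written `g = x · σ(x)⁻¹` for some `x` in GL_n(K): the map `x ↦ x σ(x)⁻¹` is surjective. -/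
theorem result {K : Type*} [Field K] [IsAlgClosed K] (p : ℕ) [Fact p.Prime] [CharP K p]
    (f : ℕ) (hf : 1 ≤ f) (n : ℕ) (g : GL (Fin n) K) :
    ∃ x : GL (Fin n) K, g = x * (Matrix.GeneralLinearGroup.map (iterateFrobenius K p f) x)⁻¹ := by
  have hpp : p.Prime := Fact.out
  have hq : 2 ≤ p ^ f := by
    calc 2 ≤ p := hpp.two_le
      _ = p ^ 1 := (pow_one p).symm
      _ ≤ p ^ f := Nat.pow_le_pow_right hpp.pos hf
  have hσ : ∀ x : K, iterateFrobenius K p f x = x ^ (p ^ f) := fun x => rfl
  set φ := phiOf (iterateFrobenius K p f) (g : Matrix (Fin n) (Fin n) K) with hφ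
  have hφinj : Function.Injective φ := by
    intro u v huv
    rw [hφ, phiOf_apply, phiOf_apply] at huv
    have h1 := congrArg ((g⁻¹ : GL (Fin n) K) : Matrix (Fin n) (Fin n) K).mulVec huv
    simp only [Matrix.mulVec_mulVec] at h1
    have h2 : ((g⁻¹ : GL (Fin n) K) : Matrix (Fin n) (Fin n) K) * (g : Matrix (Fin n) (Fin n) K) = 1 := by
      rw [← Units.val_mul, inv_mul_cancel, Units.val_one]
    rw [h2, Matrix.one_mulVec, Matrix.one_mulVec] at h1
    ext i
    exact (iterateFrobenius K p f).injective (congrFun h1 i)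
  obtain ⟨b, hb, hfix⟩ := exists_fixed_family (p ^ f) hq hσ φ hφinj n (by simp)
  set x : Matrix (Fin n) (Fin n) K := Matrix.of (fun i j => b j i) with hx
  have hxunit : IsUnit x := by
    rw [← Matrix.linearIndependent_cols_iff_isUnit]
    exact hb
  refine ⟨hxunit.unit, ?_⟩
  rw [eq_mul_inv_iff_mul_eq]
  apply Units.ext
  ext i j
  have h3 := congrFun (hfix j) i
  rw [hφ, phiOf_apply] at h3
  rw [Units.val_mul, Matrix.mul_apply]
  simp only [Matrix.GeneralLinearGroup.map_apply, IsUnit.unit_spec]
  simpa [Matrix.mulVec, dotProduct, hx] using h3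

end Cfsg.Agent.S2665
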