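import Cfsg.Statements.S2666
-- import your own Cfsg.Agent.* helpers here

set_option autoImplicit false
open Cfsg

namespace Cfsg.Agent.S2666

/-- Shintani descent, in an abstract form. Let `σ` be an automorphism of a group `X` such that the maps `a ↦ a·σ(a)⁻¹` and `a ↦ a·σᵉ(a)⁻¹` are surjective on `X` (the Lang–Steinberg property, which holds when `X` is a connected algebraic group and `σ` a Steinberg endomorphism), where `e ≥ 1`. Write `G` for the subgroup of fixed points of `σᵉ` and `H` for the subgroup of fixed points of `σ`. The `G`-conjugacy classes in the coset `G σ` of the semidirect product of `G` by `σ` correspond to the orbits of `G` on itself under twisted conjugation `g ↦ k g σ(k)⁻¹`, and the `e`-th power of `g σ` has `G`-part the norm `g σ(g) ⋯ σ^(e-1)(g)`. For `g` in `G` and any `a` with `g = a σ(a)⁻¹`, put `x = σᵉ(a)⁻¹ a`. Then: (1) `x` lies in `H`, and `a⁻¹ · (g σ(g) ⋯ σ^(e-1)(g)) · a = x`; (2) for `g, g'` in `G` with such elements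 `a, b` and `x, x'`, the elements `g, g'` are twisted-conjugate under `G` if and only if `x, x'` are conjugate in `H`; (3) every element of `H` arises as such an `x`. So `g ↦ x` induces a well-defined bijection from the twisted `G`-classes of `G` onto the conjugacy classes of `H` (the Shintani map). -/
theorem result {X : Type*} [Group X] (σ : MulAut X) (e : ℕ) (he : 1 ≤ e)
    (hL : ∀ g : X, ∃ a : X, g = a * (σ a)⁻¹) (hLe : ∀ g : X, ∃ a : X, g = a * ((σ ^ e) a)⁻¹) :
    (∀ g ∈ (MulEquiv.toMonoidHom (σ ^ e)).eqLocus (MonoidHom.id X), ∀ a : X, g = a * (σ a)⁻¹ →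
        ((σ ^ e) a)⁻¹ * a ∈ (MulEquiv.toMonoidHom σ).eqLocus (MonoidHom.id X) ∧
          a⁻¹ * ((List.range e).map (fun i => (σ ^ i) g)).prod * a = ((σ ^ e) a)⁻¹ * a) ∧
    (∀ g ∈ (MulEquiv.toMonoidHom (σ ^ e)).eqLocus (MonoidHom.id X), ∀ g' ∈ (MulEquiv.toMonoidHom (σ ^ e)).eqLocus (MonoidHom.id X), ∀ a b : X,
        g = a * (σ a)⁻¹ → g' = b * (σ b)⁻¹ →
          ((∃ k ∈ (MulEquiv.toMonoidHom (σ ^ e)).eqLocus (MonoidHom.id X), g' = k * g * (σ k)⁻¹) ↔
            (∃ h ∈ (MulEquiv.toMonoidHom σ).eqLocus (MonoidHom.id X), ((σ ^ e) b)⁻¹ * b = h * (((σ ^ e) a)⁻¹ * a) * h⁻¹))) ∧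
    (∀ x ∈ (MulEquiv.toMonoidHom σ).eqLocus (MonoidHom.id X), ∃ g ∈ (MulEquiv.toMonoidHom (σ ^ e)).eqLocus (MonoidHom.id X), ∃ a : X,
        g = a * (σ a)⁻¹ ∧ ((σ ^ e) a)⁻¹ * a = x) := by
  have mem1 : ∀ y : X, y ∈ (MulEquiv.toMonoidHom σ).eqLocus (MonoidHom.id X) ↔ σ y = y :=
    fun _ => Iff.rfl
  have mem2 : ∀ y : X, y ∈ (MulEquiv.toMonoidHom (σ ^ e)).eqLocus (MonoidHom.id X) ↔ (σ ^ e) y = y :=
    fun _ => Iff.rfl
  have comm : ∀ y : X, σ ((σ ^ e) y) = (σ ^ e) (σ y) := by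
    intro y
    have h1 : σ * σ ^ e = σ ^ e * σ := by rw [← pow_succ, ← pow_succ']
    have := congrArg (fun f : MulAut X => f y) h1
    simpa [MulAut.mul_apply] using this
  have fixpow : ∀ y : X, σ y = y → (σ ^ e) y = y := by
    intro y hy
    clear he hLe comm mem2
    induction e with
    | zero => simp
    | succ n ih => rw [pow_succ, MulAut.mul_apply, hy, ih]
  have tele : ∀ (n : ℕ) (a : X), ((List.range n).map (fun i => (σ ^ i) (a * (σ a)⁻¹))).prod
      = a * ((σ ^ n) a)⁻¹ := by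
    intro n a
    induction n with
    | zero => simp
    | succ n ih =>
      rw [List.range_succ, List.map_append, List.prod_append, ih]
      simp only [List.map_cons, List.map_nil, List.prod_cons, List.prod_nil, mul_one, map_mul,
        map_inv]
      have : (σ ^ n) (σ a) = (σ ^ (n + 1)) a := by rw [pow_succ, MulAut.mul_apply]
      rw [this]; group
  -- fixed by σ^e of g = a σ(a)⁻¹ gives the key relation
  have keyG : ∀ a : X, (σ ^ e) (a * (σ a)⁻¹) = a * (σ a)⁻¹ ↔
      σ (((σ ^ e) a)⁻¹ * a) = ((σ ^ e) a)⁻¹ * a := by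
    intro a
    rw [map_mul, map_inv, map_mul, map_inv, comm]
    constructor
    · intro h
      have h2 : ((σ ^ e) (σ a))⁻¹ = ((σ ^ e) a)⁻¹ * (a * (σ a)⁻¹) := by
        rw [← h]; group
      rw [h2]; group
    · intro h
      have h2 : ((σ ^ e) (σ a))⁻¹ = ((σ ^ e) a)⁻¹ * a * (σ a)⁻¹ := by
        rw [← h]; group
      rw [h2]; group
  refine ⟨?_, ?_, ?_⟩
  · intro g hg a ha
    rw [mem2] at hg
    rw [mem1]
    subst ha
    refine ⟨(keyG a).mp hg, ?_⟩
    rw [tele]; group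
  · intro g hg g' hg' a b ha hb
    rw [mem2] at hg hg'
    subst ha hb
    have hx := (keyG a).mp hg
    have hx' := (keyG b).mp hg'
    constructor
    · rintro ⟨k, hk, hkg⟩
      rw [mem2] at hk
      refine ⟨b⁻¹ * k * a, ?_, ?_⟩
      · rw [mem1]
        rw [map_mul, map_mul, map_inv]
        have h2 : σ k = (b * (σ b)⁻¹)⁻¹ * k * (a * (σ a)⁻¹) := by
          rw [hkg]; group
        rw [h2]; group
      · have hh : σ (b⁻¹ * k * a) = b⁻¹ * k * a := by
          rw [map_mul, map_mul, map_inv]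
          have h2 : σ k = (b * (σ b)⁻¹)⁻¹ * k * (a * (σ a)⁻¹) := by
            rw [hkg]; group
          rw [h2]; group
        have h3 := fixpow _ hh
        rw [map_mul, map_mul, map_inv, hk] at h3
        have h4 : ((σ ^ e) b)⁻¹ = b⁻¹ * k * a * ((σ ^ e) a)⁻¹ * k⁻¹ := by
          rw [← h3]; group
        rw [h4]; group
    · rintro ⟨h, hh, hc⟩
      rw [mem1] at hh
      refine ⟨b * h * a⁻¹, ?_, ?_⟩
      · rw [mem2]
        rw [map_mul, map_mul, map_inv, fixpow h hh]
        have h4 : (σ ^ e) b = b * (h * (((σ ^ e) a)⁻¹ * a) * h⁻¹)⁻¹ := by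
          rw [← hc]; group
        rw [h4]; group
      · rw [map_mul, map_mul, map_inv, hh]; group
  · intro x hx
    rw [mem1] at hx
    obtain ⟨c, hc⟩ := hLe x⁻¹
    have hxa : ((σ ^ e) c⁻¹)⁻¹ * c⁻¹ = x := by
      rw [map_inv, inv_inv]
      have : x = (c * ((σ ^ e) c)⁻¹)⁻¹ := by rw [← hc, inv_inv]
      rw [this]; group
    refine ⟨c⁻¹ * (σ c⁻¹)⁻¹, ?_, c⁻¹, rfl, hxa⟩
    rw [mem2, keyG, hxa, hx]

end Cfsg.Agent.S2666
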