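import Cfsg.Statements.S2668

set_option autoImplicit false
open Cfsg

namespace Cfsg.Agent.S2668

theorem prod_eq {X : Type*} [Group X] (σ : MulAut X) (d : ℕ) (g a : X) (ha : g = a * (σ a)⁻¹) :
    ((List.range d).map (fun i => (σ ^ i) g)).prod = a * ((σ ^ d) a)⁻¹ := by
  induction d with
  | zero => simp
  | succ d ih =>
    rw [List.range_succ, List.map_append, List.prod_append, ih]
    simp only [List.map_cons, List.map_nil, List.prod_cons, List.prod_nil, mul_one]
    rw [ha, map_mul, map_inv, pow_succ σ d, MulAut.mul_apply]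
    group

theorem fix_pow {X : Type*} [Group X] (τ : MulAut X) (x : X) (hx : τ x = x) (k : ℕ) :
    (τ ^ k) x = x := by
  induction k with
  | zero => simp
  | succ k ih => rw [pow_succ τ k, MulAut.mul_apply, hx, ih]

theorem pow_fix {X : Type*} [Group X] (τ : MulAut X) (a x : X) (hx : τ x = x) (ha : τ a = a * x⁻¹)
    (k : ℕ) : (τ ^ k) a = a * (x ^ k)⁻¹ := by
  induction k with
  | zero => simp
  | succ k ih =>
    rw [pow_succ' τ k, MulAut.mul_apply, ih, map_mul, map_inv, map_pow, hx, ha, pow_succ' x k]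
    group

/-- Shintani descent and powers (abstract form). -/
theorem result {X : Type*} [Group X] (σ : MulAut X) (e d : ℕ) (he : 1 ≤ e) (hd : 1 ≤ d)
    (g : X) (hg : g ∈ (MulEquiv.toMonoidHom (σ ^ e)).eqLocus (MonoidHom.id X)) (a : X) (ha : g = a * (σ a)⁻¹) :
    ((List.range d).map (fun i => (σ ^ i) g)).prod = a * ((σ ^ d) a)⁻¹ ∧
      ((List.range d).map (fun i => (σ ^ i) g)).prod ∈ (MulEquiv.toMonoidHom ((σ ^ d) ^ e)).eqLocus (MonoidHom.id X) ∧
      (((σ ^ d) ^ e) a)⁻¹ * a = (((σ ^ e) a)⁻¹ * a) ^ d := by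
  have hg' : (σ ^ e) g = g := hg
  -- x is fixed by σ
  have hcomm : ∀ y : X, (σ ^ e) (σ y) = σ ((σ ^ e) y) := by
    intro y
    have : σ ^ e * σ = σ * σ ^ e := (Commute.pow_self σ e).eq
    have h2 := congrArg (fun f : MulAut X => f y) this
    simpa [MulAut.mul_apply] using h2
  have hx : σ (((σ ^ e) a)⁻¹ * a) = ((σ ^ e) a)⁻¹ * a := by
    have h1 : (σ ^ e) a * ((σ ^ e) (σ a))⁻¹ = a * (σ a)⁻¹ := by
      have := hg'
      rw [ha, map_mul, map_inv] at this
      exact this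
    rw [hcomm] at h1
    rw [map_mul, map_inv]
    have h3 : (σ ((σ ^ e) a))⁻¹ = ((σ ^ e) a)⁻¹ * (a * (σ a)⁻¹) := by
      rw [← h1]; group
    rw [h3]; group
  have hxe : (σ ^ e) (((σ ^ e) a)⁻¹ * a) = ((σ ^ e) a)⁻¹ * a := fix_pow σ _ hx e
  have hae : (σ ^ e) a = a * (((σ ^ e) a)⁻¹ * a)⁻¹ := by group
  have hpow : (σ ^ d) ^ e = (σ ^ e) ^ d := by rw [← pow_mul, ← pow_mul, mul_comm]
  refine ⟨prod_eq σ d g a ha, ?_, ?_⟩
  · show ((σ ^ d) ^ e) _ = _
    rw [hpow, map_list_prod, List.map_map]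
    congr 1
    apply List.map_congr_left
    intro i _
    simp only [Function.comp]
    have hc : (σ ^ e) ^ d * σ ^ i = σ ^ i * (σ ^ e) ^ d := by
      rw [← pow_mul, ← pow_add, ← pow_add, add_comm]
    have h2 := congrArg (fun f : MulAut X => f g) hc
    simp only [MulAut.mul_apply] at h2
    rw [h2, fix_pow (σ ^ e) g hg' d]
  · rw [hpow, pow_fix (σ ^ e) a _ hxe hae d]
    group

end Cfsg.Agent.S2668
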