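import Cfsg.Statements.S2669

set_option autoImplicit false
open Cfsg

namespace Cfsg.Agent.S2669

theorem card_rel {α β : Type*} [Finite α] [Finite β] (R : α → β → Prop) (n m : ℕ)
    (h1 : ∀ a, Nat.card {b // R a b} = n) (h2 : ∀ b, Nat.card {a // R a b} = m) :
    Nat.card α * n = Nat.card β * m := by
  have e1 : Nat.card {p : α × β // R p.1 p.2} = Nat.card α * n := by
    rw [Nat.card_congr (Equiv.subtypeProdEquivSigmaSubtype R)]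
    have := Fintype.ofFinite α
    rw [Nat.card_sigma]
    simp [h1]
  have e2 : Nat.card {p : α × β // R p.1 p.2} = Nat.card β * m := by
    have : {p : α × β // R p.1 p.2} ≃ {p : β × α // R p.2 p.1} :=
      (Equiv.prodComm α β).subtypeEquiv (by intro p; rfl)
    rw [Nat.card_congr this, Nat.card_congr (Equiv.subtypeProdEquivSigmaSubtype (fun b a => R a b))]
    have := Fintype.ofFinite β
    rw [Nat.card_sigma]
    simp [h2]
  rw [← e1, e2]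

theorem fix_pow {X : Type*} [Group X] (τ : MulAut X) (x : X) (hx : τ x = x) (k : ℕ) :
    (τ ^ k) x = x := by
  induction k with
  | zero => simp
  | succ k ih => rw [pow_succ τ k, MulAut.mul_apply, hx, ih]

theorem stable_pow {X : Type*} [Group X] (σ : MulAut X) (Y : Subgroup X)
    (hY : ∀ y : X, y ∈ Y ↔ σ y ∈ Y) (k : ℕ) (y : X) (hy : y ∈ Y) : (σ ^ k) y ∈ Y := by
  induction k with
  | zero => simpa using hy
  | succ k ih => rw [pow_succ' σ k, MulAut.mul_apply]; exact (hY _).1 ih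

/-- Shintani descent preserves numbers of fixed points on coset spaces (abstract form). -/
theorem result {X : Type*} [Group X] (σ : MulAut X) (e : ℕ) (he : 1 ≤ e)
    [Finite ↥((MulEquiv.toMonoidHom (σ ^ e)).eqLocus (MonoidHom.id X))]
    (Y : Subgroup X) (hY : ∀ y : X, y ∈ Y ↔ σ y ∈ Y)
    (hYL : ∀ y ∈ Y, ∃ a ∈ Y, y = a * (σ a)⁻¹) (hYLe : ∀ y ∈ Y, ∃ a ∈ Y, y = a * ((σ ^ e) a)⁻¹)
    (g : X) (hg : g ∈ (MulEquiv.toMonoidHom (σ ^ e)).eqLocus (MonoidHom.id X)) (a : X) (ha : g = a * (σ a)⁻¹) :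
    Nat.card {k : ↥((MulEquiv.toMonoidHom (σ ^ e)).eqLocus (MonoidHom.id X)) // (k : X)⁻¹ * g * σ k ∈ Y} *
        Nat.card ↥(Y ⊓ (MulEquiv.toMonoidHom σ).eqLocus (MonoidHom.id X)) =
      Nat.card {h : ↥((MulEquiv.toMonoidHom σ).eqLocus (MonoidHom.id X)) // (h : X)⁻¹ * (((σ ^ e) a)⁻¹ * a) * h ∈ Y} *
        Nat.card ↥(Y ⊓ (MulEquiv.toMonoidHom (σ ^ e)).eqLocus (MonoidHom.id X)) := by
  set G : Subgroup X := (MulEquiv.toMonoidHom (σ ^ e)).eqLocus (MonoidHom.id X) with hGdef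
  set H : Subgroup X := (MulEquiv.toMonoidHom σ).eqLocus (MonoidHom.id X) with hHdef
  have memG : ∀ k : X, k ∈ G ↔ (σ ^ e) k = k := fun k => Iff.rfl
  have memH : ∀ h : X, h ∈ H ↔ σ h = h := fun h => Iff.rfl
  have hHG : H ≤ G := fun h hh => (memG h).2 (fix_pow σ h ((memH h).1 hh) e)
  have : Finite ↥H := Finite.of_injective _ (Subgroup.inclusion_injective hHG)
  have hYe : ∀ y ∈ Y, (σ ^ e) y ∈ Y := fun y hy => stable_pow σ Y hY e y hy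
  -- element-level lemmas
  have L1 : ∀ k ∈ G, ∀ h ∈ H, k⁻¹ * a * h ∈ Y → k⁻¹ * g * σ k ∈ Y := by
    intro k _ h hh hc
    have hsc : σ (k⁻¹ * a * h) ∈ Y := (hY _).1 hc
    have : k⁻¹ * g * σ k = (k⁻¹ * a * h) * (σ (k⁻¹ * a * h))⁻¹ := by
      rw [ha, map_mul, map_mul, map_inv, (memH h).1 hh]; group
    rw [this]; exact Y.mul_mem hc (Y.inv_mem hsc)
  have L2 : ∀ k ∈ G, ∀ h ∈ H, k⁻¹ * a * h ∈ Y → h⁻¹ * (((σ ^ e) a)⁻¹ * a) * h ∈ Y := by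
    intro k hk h hh hc
    have hsc : (σ ^ e) (k⁻¹ * a * h) ∈ Y := hYe _ hc
    have : h⁻¹ * (((σ ^ e) a)⁻¹ * a) * h = ((σ ^ e) (k⁻¹ * a * h))⁻¹ * (k⁻¹ * a * h) := by
      rw [map_mul, map_mul, map_inv, (memG h).1 (hHG hh), (memG k).1 hk]; group
    rw [this]; exact Y.mul_mem (Y.inv_mem hsc) hc
  have L3 : ∀ k ∈ G, k⁻¹ * g * σ k ∈ Y → ∃ h ∈ H, k⁻¹ * a * h ∈ Y := by
    intro k _ hc
    obtain ⟨b, hb, hbe⟩ := hYL _ hc
    refine ⟨a⁻¹ * k * b, ?_, ?_⟩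
    · rw [memH, map_mul, map_mul, map_inv]
      have h1 : (σ a)⁻¹ * σ k = a⁻¹ * k * b * (σ b)⁻¹ := by
        have : (σ a)⁻¹ * σ k = a⁻¹ * k * (k⁻¹ * g * σ k) := by rw [ha]; group
        rw [this, hbe]; group
      rw [h1]; group
    · have : k⁻¹ * a * (a⁻¹ * k * b) = b := by group
      rw [this]; exact hb
  have L4 : ∀ h ∈ H, h⁻¹ * (((σ ^ e) a)⁻¹ * a) * h ∈ Y → ∃ k ∈ G, k⁻¹ * a * h ∈ Y := by
    intro h hh hc
    obtain ⟨c, hcY, hce⟩ := hYLe _ (Y.inv_mem hc)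
    refine ⟨a * h * c, ?_, ?_⟩
    · rw [memG, map_mul, map_mul, (memG h).1 (hHG hh)]
      have h1 : (σ ^ e) c = (h⁻¹ * (((σ ^ e) a)⁻¹ * a) * h) * c := by
        have h2 : (σ ^ e) c = (c * ((σ ^ e) c)⁻¹)⁻¹ * c := by group
        rw [h2, ← hce]; group
      rw [h1]; group
    · have : (a * h * c)⁻¹ * a * h = c⁻¹ := by group
      rw [this]; exact Y.inv_mem hcY
  -- the relation
  apply card_rel (fun (k : {k : ↥G // (k : X)⁻¹ * g * σ k ∈ Y})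
      (h : {h : ↥H // (h : X)⁻¹ * (((σ ^ e) a)⁻¹ * a) * h ∈ Y}) => ((k : ↥G) : X)⁻¹ * a * ((h : ↥H) : X) ∈ Y)
  · -- fibers over k
    rintro ⟨⟨k, hk⟩, hkA⟩
    obtain ⟨h₀, hh₀, hR₀⟩ := L3 k hk hkA
    refine Nat.card_congr
      { toFun := fun h => ⟨h₀⁻¹ * ((h.1 : ↥H) : X), ?_⟩
        invFun := fun y => ⟨⟨⟨h₀ * (y : X), ?_⟩, ?_⟩, ?_⟩
        left_inv := ?_
        right_inv := ?_ }
    · obtain ⟨⟨⟨h, hh⟩, hB⟩, hR⟩ := h
      refine ⟨?_, H.mul_mem (H.inv_mem hh₀) hh⟩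
      have : h₀⁻¹ * h = (k⁻¹ * a * h₀)⁻¹ * (k⁻¹ * a * h) := by group
      simp only
      rw [this]; exact Y.mul_mem (Y.inv_mem hR₀) hR
    · exact H.mul_mem hh₀ y.2.2
    · apply L2 k hk _ (H.mul_mem hh₀ y.2.2)
      have : k⁻¹ * a * (h₀ * (y : X)) = k⁻¹ * a * h₀ * y := by group
      rw [this]; exact Y.mul_mem hR₀ y.2.1
    · have : k⁻¹ * a * (h₀ * (y : X)) = k⁻¹ * a * h₀ * y := by group
      simp only
      rw [this]; exact Y.mul_mem hR₀ y.2.1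
    · rintro ⟨⟨⟨h, hh⟩, hB⟩, hR⟩
      simp
    · rintro ⟨y, hy⟩
      simp
  · -- fibers over h
    rintro ⟨⟨h, hh⟩, hhB⟩
    obtain ⟨k₀, hk₀, hR₀⟩ := L4 h hh hhB
    refine Nat.card_congr
      { toFun := fun k => ⟨k₀⁻¹ * ((k.1 : ↥G) : X), ?_⟩
        invFun := fun y => ⟨⟨⟨k₀ * (y : X), ?_⟩, ?_⟩, ?_⟩
        left_inv := ?_
        right_inv := ?_ }
    · obtain ⟨⟨⟨k, hk⟩, hA⟩, hR⟩ := k
      refine ⟨?_, G.mul_mem (G.inv_mem hk₀) hk⟩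
      have : k₀⁻¹ * k = (k₀⁻¹ * a * h) * (k⁻¹ * a * h)⁻¹ := by group
      simp only
      rw [this]; exact Y.mul_mem hR₀ (Y.inv_mem hR)
    · exact G.mul_mem hk₀ y.2.2
    · apply L1 _ (G.mul_mem hk₀ y.2.2) h hh
      have : (k₀ * (y : X))⁻¹ * a * h = (y : X)⁻¹ * (k₀⁻¹ * a * h) := by group
      rw [this]; exact Y.mul_mem (Y.inv_mem y.2.1) hR₀
    · have : (k₀ * (y : X))⁻¹ * a * h = (y : X)⁻¹ * (k₀⁻¹ * a * h) := by group
      simp only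
      rw [this]; exact Y.mul_mem (Y.inv_mem y.2.1) hR₀
    · rintro ⟨⟨⟨k, hk⟩, hA⟩, hR⟩
      simp
    · rintro ⟨y, hy⟩
      simp

end Cfsg.Agent.S2669
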