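import Mathlib
import Cfsg.Statements.S2675
import Cfsg.Agent.Lib.Helper40_OEven
import Cfsg.Agent.Lib.Helper40_OEvenArith

set_option autoImplicit false
open Cfsg

namespace Cfsg.Agent.S2675

/-- Number of conjugacy classes of elements of odd prime order r ≠ p in the orthogonal group O⁻_2m(q) of an elliptic form Σ_(j<m−1) x_j y_j + z₁² + a z₁z₂ + c z₂² (binary part anisotropic, m ≥ 1): with i the multiplicative order of q mod r and t = (r − 1)/i — if i is odd, C(⌊m/i⌋ + t/2, t/2) − 1 minus, when i divides m, the C(m/i + t/2 − 1, t/2 − 1) tuples filling the whole space (dual pairs of totally singular blocks fill a hyperbolic space); if i is even, C(⌊2m/i⌋ + t, t) − 1 minus, when i divides 2m with even quotient, the C(2m/i + t − 1, t − 1) tuples filling the whole space with an even number of elliptic blocks. -/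
theorem result {F : Type*} [Field F] [Fintype F] {p q : ℕ} [Fact p.Prime] [CharP F p] (hF : Fintype.card F = q) (m r i t : ℕ) (hm : 1 ≤ m) (a c : F) (hac : ∀ z₁ z₂ : F, z₁ ^ 2 + a * z₁ * z₂ + c * z₂ ^ 2 = 0 → z₁ = 0 ∧ z₂ = 0) (hr : r.Prime) (hr2 : r ≠ 2) (hrp : r ≠ p) (hi : i = orderOf (q : ZMod r)) (ht : t * i = r - 1) : Nat.card {C : ConjClasses ↥(Cfsg.isometryGroup F (Cfsg.quadFormMinus (m - 1) F a c)) // ∃ g : ↥(Cfsg.isometryGroup F (Cfsg.quadFormMinus (m - 1) F a c)), ConjClasses.mk g = C ∧ orderOf g = r} = if Odd i then Nat.choose (m / i + t / 2) (t / 2) - 1 - (if i ∣ m then Nat.choose (m / i + t / 2 - 1) (t / 2 - 1) else 0) else Nat.choose (2 * m / i + t) t - 1 - (if i ∣ 2 * m ∧ Even (2 * m / i) then Nat.choose (2 * m / i + t - 1) (t - 1) else 0) := by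
  subst hF
  have hmain := Cfsg.Agent.Lib.Helper40_OEven.card_minus_classes p m r i t hm a c hac hr hr2 hrp
    hi ht
  rw [Cfsg.Agent.Lib.Helper44_StdForms.coe_qfMinus] at hmain
  rw [hmain]
  have hr3 : 3 ≤ r := by
    have := hr.two_le
    omega
  have ht0 : 1 ≤ t := by
    rcases Nat.eq_zero_or_pos t with rfl | h
    · rw [zero_mul] at ht
      omega
    · exact h
  have hi0 : 1 ≤ i := by
    rcases Nat.eq_zero_or_pos i with h0 | h
    · rw [h0, mul_zero] at ht
      omega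
    · exact h
  by_cases hio : Odd i
  · simp only [if_pos hio]
    have ht2 : 1 ≤ t / 2 := by
      have hrodd : Odd r := hr.odd_of_ne_two hr2
      have hev : Even (t * i) := by
        rw [ht]
        rcases hrodd with ⟨j, hj⟩
        exact ⟨j, by omega⟩
      rcases Nat.even_mul.1 hev with h | h
      · rcases h with ⟨j, hj⟩
        omega
      · exact absurd hio (Nat.not_odd_iff_even.2 h)
    by_cases hd : i ∣ m
    · rw [if_pos hd, if_pos (Or.inl ⟨hio, hd⟩ :
        (Odd i ∧ i ∣ m) ∨ (¬ Odd i ∧ i ∣ 2 * m ∧ Even (2 * m / i)))]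
      have hk : 1 ≤ m / i := Nat.div_pos (Nat.le_of_dvd (by omega) hd) (by omega)
      have hdiv : (m - 1) / i = m / i - 1 :=
        Cfsg.Agent.Lib.Helper40_OEvenArith.sub_div_of_dvd m i 1 le_rfl hi0 hd hm
      rw [hdiv, Cfsg.Agent.Lib.Helper40_OEvenArith.pascal_sub (m / i) (t / 2) hk ht2]
    · rw [if_neg hd, if_neg (fun h : (Odd i ∧ i ∣ m) ∨ (¬ Odd i ∧ i ∣ 2 * m ∧ Even (2 * m / i)) =>
        h.elim (fun h1 => hd h1.2) (fun h1 => h1.1 hio)), Nat.sub_zero]
  · simp only [if_neg hio]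
    by_cases hc : i ∣ 2 * m ∧ Even (2 * m / i)
    · rw [if_pos hc, if_pos (Or.inr ⟨hio, hc⟩ :
        (Odd i ∧ i ∣ m) ∨ (¬ Odd i ∧ i ∣ 2 * m ∧ Even (2 * m / i)))]
      have hi2 : 2 ≤ i := by
        rcases Nat.not_odd_iff_even.1 hio with ⟨j, hj⟩
        omega
      have hk : 1 ≤ 2 * m / i := Nat.div_pos (Nat.le_of_dvd (by omega) hc.1) (by omega)
      have hdiv : 2 * (m - 1) / i = 2 * m / i - 1 := by
        rw [show 2 * (m - 1) = 2 * m - 2 by omega]
        exact Cfsg.Agent.Lib.Helper40_OEvenArith.sub_div_of_dvd (2 * m) i 2 one_le_two hi2 hc.1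
          (by omega)
      rw [hdiv, Cfsg.Agent.Lib.Helper40_OEvenArith.pascal_sub (2 * m / i) t hk ht0]
    · rw [if_neg hc, if_neg (fun h : (Odd i ∧ i ∣ m) ∨ (¬ Odd i ∧ i ∣ 2 * m ∧ Even (2 * m / i)) =>
        h.elim (fun h1 => hio h1.1) (fun h1 => hc h1.2)), Nat.sub_zero]

end Cfsg.Agent.S2675
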