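import Cfsg.Statements.S2676
import Cfsg.Agent.Lib.Helper43_SpCent9
import Cfsg.Agent.S2582
import Cfsg.Agent.S2570

set_option autoImplicit false
open Classical
open Cfsg

namespace Cfsg.Agent.S2676

open Matrix Module
open Cfsg.Agent.Lib.Helper43_Jordan Cfsg.Agent.Lib.Helper43_UnipIsom
open Cfsg.Agent.Lib.Helper43_JordanMatrix
open Cfsg.Agent.Lib.Helper40_SpMatrix Cfsg.Agent.Lib.Helper40_SpBasic
open Cfsg.Agent.Lib.Helper43_SpCent Cfsg.Agent.Lib.Helper43_UnipCent

section aux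

universe u

variable {F : Type u} [Field F] {m : ℕ}

theorem toLin'_pow_eq_zero_iff (A : Matrix (Fin m ⊕ Fin m) (Fin m ⊕ Fin m) F) (k : ℕ) :
    (Matrix.toLin' A) ^ k = 0 ↔ A ^ k = 0 := by
  rw [← Matrix.toLin'_pow]
  exact LinearEquiv.map_eq_zero_iff _

theorem orderOf_eq_iff (p : ℕ) [Fact p.Prime] [CharP F p]
    (g : Matrix.symplecticGroup (Fin m) F) :
    orderOf g = p ↔
      IsNilpotent (Matrix.toLin' ((g : Matrix (Fin m ⊕ Fin m) (Fin m ⊕ Fin m) F) - 1)) ∧
        (∀ a ∈ jtype (Matrix.toLin' ((g : Matrix (Fin m ⊕ Fin m) (Fin m ⊕ Fin m) F) - 1)),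
          a ≤ p) ∧
        ¬ ∀ a ∈ jtype (Matrix.toLin' ((g : Matrix (Fin m ⊕ Fin m) (Fin m ⊕ Fin m) F) - 1)),
          a ≤ 1 := by
  have e1 : g ^ p = 1 ↔
      (Matrix.toLin' ((g : Matrix (Fin m ⊕ Fin m) (Fin m ⊕ Fin m) F) - 1)) ^ p = 0 := by
    rw [toLin'_pow_eq_zero_iff]
    have h := sub_one_pow_char_pow' (F := F) p (g : Matrix (Fin m ⊕ Fin m) (Fin m ⊕ Fin m) F) 1
    rw [pow_one] at h
    rw [h, sub_eq_zero]
    constructor
    · intro hh
      have := congrArg Subtype.val hh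
      rwa [SubmonoidClass.coe_pow, Submonoid.coe_one] at this
    · intro hh
      apply Subtype.ext
      rw [SubmonoidClass.coe_pow, Submonoid.coe_one]
      exact hh
  have e2 : g = 1 ↔
      (Matrix.toLin' ((g : Matrix (Fin m ⊕ Fin m) (Fin m ⊕ Fin m) F) - 1)) ^ 1 = 0 := by
    rw [toLin'_pow_eq_zero_iff, pow_one, sub_eq_zero]
    constructor
    · intro hh
      rw [hh, Submonoid.coe_one]
    · intro hh
      apply Subtype.ext
      rw [Submonoid.coe_one]
      exact hh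
  rw [orderOf_eq_prime_iff, Ne, e1, e2]
  constructor
  · rintro ⟨h1, h2⟩
    have hN : IsNilpotent
        (Matrix.toLin' ((g : Matrix (Fin m ⊕ Fin m) (Fin m ⊕ Fin m) F) - 1)) := ⟨p, h1⟩
    rw [pow_eq_zero_iff_jtype _ hN] at h1 h2
    exact ⟨hN, h1, h2⟩
  · rintro ⟨hN, h1, h2⟩
    rw [pow_eq_zero_iff_jtype _ hN, pow_eq_zero_iff_jtype _ hN]
    exact ⟨h1, h2⟩

theorem even_count (A : Matrix.symplecticGroup (Fin m) F)
    (hnilA : IsNilpotent
      (Matrix.toLin' ((A : Matrix (Fin m ⊕ Fin m) (Fin m ⊕ Fin m) F) - 1))) (j : ℕ)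
    (hj : Odd j) :
    Even (Multiset.count j
      (jtype (Matrix.toLin' ((A : Matrix (Fin m ⊕ Fin m) (Fin m ⊕ Fin m) F) - 1)))) := by
  have hdata : IsomData (Jform m F)
      (Matrix.toLin' (A : Matrix (Fin m ⊕ Fin m) (Fin m ⊕ Fin m) F))
      (Matrix.toLin' ((A⁻¹ : Matrix.symplecticGroup (Fin m) F) :
        Matrix (Fin m ⊕ Fin m) (Fin m ⊕ Fin m) F)) := by
    refine ⟨?_, ?_, ?_⟩
    · intro x y
      rw [Jform_comp, SymplecticGroup.mem_iff'.1 A.2]
      rfl
    · rw [Module.End.mul_eq_comp, ← Matrix.toLin'_mul, ← Submonoid.coe_mul, mul_inv_cancel,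
        Submonoid.coe_one, Matrix.toLin'_one]
      rfl
    · rw [Module.End.mul_eq_comp, ← Matrix.toLin'_mul, ← Submonoid.coe_mul, inv_mul_cancel,
        Submonoid.coe_one, Matrix.toLin'_one]
      rfl
  have hsub : Matrix.toLin' (A : Matrix (Fin m ⊕ Fin m) (Fin m ⊕ Fin m) F) - 1 =
      Matrix.toLin' ((A : Matrix (Fin m ⊕ Fin m) (Fin m ⊕ Fin m) F) - 1) := by
    rw [map_sub, Matrix.toLin'_one]
    rfl
  have := even_count_jtype_of_alt hdata Jform_nondeg (fun x => Jform_alt x)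
    (by rw [hsub]; exact hnilA) j hj
  rw [hsub] at this
  exact this

theorem jtype_conj (g g' : Matrix.symplecticGroup (Fin m) F) (h : IsConj g g')
    (hnil : IsNilpotent
      (Matrix.toLin' ((g : Matrix (Fin m ⊕ Fin m) (Fin m ⊕ Fin m) F) - 1))) :
    IsNilpotent (Matrix.toLin' ((g' : Matrix (Fin m ⊕ Fin m) (Fin m ⊕ Fin m) F) - 1)) ∧
      jtype (Matrix.toLin' ((g' : Matrix (Fin m ⊕ Fin m) (Fin m ⊕ Fin m) F) - 1)) =
        jtype (Matrix.toLin' ((g : Matrix (Fin m ⊕ Fin m) (Fin m ⊕ Fin m) F) - 1)) := by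
  obtain ⟨s, hs⟩ := isConj_iff.1 h
  have hs1 : s * g = g' * s := by
    rw [← hs]
    group
  have hs2 : (s : Matrix (Fin m ⊕ Fin m) (Fin m ⊕ Fin m) F) *
      (g : Matrix (Fin m ⊕ Fin m) (Fin m ⊕ Fin m) F) =
      (g' : Matrix (Fin m ⊕ Fin m) (Fin m ⊕ Fin m) F) *
        (s : Matrix (Fin m ⊕ Fin m) (Fin m ⊕ Fin m) F) := by
    rw [← Submonoid.coe_mul, ← Submonoid.coe_mul, hs1]
  let ψ : (Fin m ⊕ Fin m → F) ≃ₗ[F] (Fin m ⊕ Fin m → F) :=
    Matrix.toLin'OfInv
      (M := ((s⁻¹ : Matrix.symplecticGroup (Fin m) F) :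
        Matrix (Fin m ⊕ Fin m) (Fin m ⊕ Fin m) F))
      (M' := (s : Matrix (Fin m ⊕ Fin m) (Fin m ⊕ Fin m) F))
      (coe_inv_mul_coe s) (coe_mul_coe_inv s)
  have hψ : ∀ x, ψ ((g : Matrix (Fin m ⊕ Fin m) (Fin m ⊕ Fin m) F) *ᵥ x) =
      (g' : Matrix (Fin m ⊕ Fin m) (Fin m ⊕ Fin m) F) *ᵥ ψ x := by
    intro x
    show (s : Matrix (Fin m ⊕ Fin m) (Fin m ⊕ Fin m) F) *ᵥ
        ((g : Matrix (Fin m ⊕ Fin m) (Fin m ⊕ Fin m) F) *ᵥ x) =
      (g' : Matrix (Fin m ⊕ Fin m) (Fin m ⊕ Fin m) F) *ᵥ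
        ((s : Matrix (Fin m ⊕ Fin m) (Fin m ⊕ Fin m) F) *ᵥ x)
    rw [Matrix.mulVec_mulVec, Matrix.mulVec_mulVec, hs2]
  rw [sub_one_intertwine] at hψ
  have hnil' := Cfsg.Agent.S2582.isNilpotent_of_conj ψ _ _ hψ hnil
  exact ⟨hnil', ((jtype_eq_iff _ hnil _ hnil').2 ⟨ψ, hψ⟩).symm⟩

theorem exists_d (μ : Multiset ℕ) :
    ∃ (t : ℕ) (d : Fin t → ℕ), Multiset.map d Finset.univ.val = μ :=
  ⟨μ.toList.length, μ.toList.get, by
    rw [Fin.univ_val_map, List.ofFn_get, Multiset.coe_toList]⟩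

theorem card_even_blocks {t : ℕ} (d : Fin t → ℕ) [Fintype {a : BlockIdx d // Even a.1}]
    [DecidablePred fun j : ℕ => Even j] :
    Fintype.card {a : BlockIdx d // Even a.1} =
      ((Multiset.map d Finset.univ.val).toFinset.filter (fun j : ℕ => Even j)).card := by
  rw [Fintype.card_of_subtype (Finset.univ.filter (fun a : BlockIdx d => Even a.1))
    (fun x => by simp)]
  apply Finset.card_bij (fun a _ => a.1)
  · intro a ha
    rw [Finset.mem_filter] at ha ⊢
    refine ⟨?_, ha.2⟩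
    rw [Multiset.mem_toFinset]
    obtain ⟨k, -, hk⟩ := Finset.mem_image.1 a.2
    exact Multiset.mem_map.2 ⟨k, Finset.mem_univ_val k, hk⟩
  · intro a _ b _ h
    exact Subtype.ext h
  · intro b hb
    rw [Finset.mem_filter, Multiset.mem_toFinset, Multiset.mem_map] at hb
    obtain ⟨⟨k, -, hk⟩, hev⟩ := hb
    exact ⟨⟨b, Finset.mem_image.2 ⟨k, Finset.mem_univ k, hk⟩⟩,
      Finset.mem_filter.2 ⟨Finset.mem_univ _, hev⟩, rfl⟩

end aux


section main

universe u

variable {F : Type u} [Field F] [Fintype F] {m : ℕ}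

theorem card_type (p : ℕ) [Fact p.Prime] [CharP F p] (hp : p ≠ 2) (μ : Nat.Partition (2 * m))
    (hμ : ∀ j : ℕ, Odd j → Even (μ.parts.count j)) [DecidablePred fun j : ℕ => Even j] :
    Nat.card {C : ConjClasses ↥(Matrix.symplecticGroup (Fin m) F) //
        ∃ g : ↥(Matrix.symplecticGroup (Fin m) F), ConjClasses.mk g = C ∧
          (IsNilpotent (Matrix.toLin' ((g : Matrix (Fin m ⊕ Fin m) (Fin m ⊕ Fin m) F) - 1)) ∧
            jtype (Matrix.toLin' ((g : Matrix (Fin m ⊕ Fin m) (Fin m ⊕ Fin m) F) - 1)) =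
              μ.parts)} =
      2 ^ (μ.parts.toFinset.filter (fun j : ℕ => Even j)).card := by
  obtain ⟨t, d, hdμ⟩ := exists_d μ.parts
  have hd : ∀ k, 1 ≤ d k := by
    intro k
    apply μ.parts_pos
    rw [← hdμ]
    exact Multiset.mem_map_of_mem d (Finset.mem_univ_val k)
  have hsum : ∑ k, d k = 2 * m := by
    rw [← μ.parts_sum, ← hdμ]
    rfl
  have heven : ∀ j : ℕ, Odd j → Even (Finset.univ.filter (fun k : Fin t => d k = j)).card := by
    intro j hj
    rw [← Cfsg.Agent.S2582.count_eq, hdμ]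
    exact hμ j hj
  have key := card_classes_of_type (F := F) p hp d hd hsum heven
  rw [hdμ] at key
  rw [key, ← hdμ]
  congr 1
  convert card_even_blocks d

end main

/-- Number of conjugacy classes of elements of order p in Sp_2m(q), q a power of the odd prime p: the classes correspond to the signed partitions of 2m — partitions with all parts at most p in which every odd part has even multiplicity, each even part size that occurs carrying a sign — other than the all-ones partition; so the count is the sum over such partitions of 2^(number of distinct even parts), minus one. -/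
theorem result {F : Type*} [Field F] [Fintype F] {p : ℕ} [Fact p.Prime] [CharP F p] (hp : p ≠ 2) (m : ℕ) : Nat.card {C : ConjClasses ↥(Matrix.symplecticGroup (Fin m) F) // ∃ g : Matrix.symplecticGroup (Fin m) F, ConjClasses.mk g = C ∧ orderOf g = p} = (∑ μ ∈ Finset.univ.filter (fun μ : Nat.Partition (2 * m) => (∀ a ∈ μ.parts, a ≤ p) ∧ ∀ j : ℕ, Odd j → Even (μ.parts.count j)), 2 ^ ((μ.parts.toFinset.filter (fun j : ℕ => Even j)).card)) - 1 := by
  have hpp : p.Prime := Fact.out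
  set Adm : Finset (Nat.Partition (2 * m)) := Finset.univ.filter
    (fun μ : Nat.Partition (2 * m) =>
      (∀ a ∈ μ.parts, a ≤ p) ∧ ∀ j : ℕ, Odd j → Even (μ.parts.count j)) with hAdm
  have hones_mem : Cfsg.Agent.S2570.ones (2 * m) ∈ Adm := by
    rw [hAdm, Finset.mem_filter]
    refine ⟨Finset.mem_univ _, ?_, ?_⟩
    · intro a ha
      have := (Cfsg.Agent.S2570.eq_ones_iff (Cfsg.Agent.S2570.ones (2 * m))).1 rfl a ha
      have := hpp.one_lt
      omega
    · intro j hj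
      show Even (Multiset.count j (Multiset.replicate (2 * m) 1))
      rw [Multiset.count_replicate]
      split_ifs
      · exact even_two_mul m
      · exact Even.zero
  have hones_k : ((Cfsg.Agent.S2570.ones (2 * m)).parts.toFinset.filter
      (fun j : ℕ => Even j)).card = 0 := by
    rw [Finset.card_eq_zero, Finset.filter_eq_empty_iff]
    intro x hx
    rw [Multiset.mem_toFinset] at hx
    have : x = 1 := Multiset.eq_of_mem_replicate hx
    rw [this]
    exact Nat.not_even_one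
  let A' : Type := {μ : Nat.Partition (2 * m) // μ ≠ Cfsg.Agent.S2570.ones (2 * m) ∧ μ ∈ Adm}
  let X : A' → Type _ := fun μ =>
    {C : ConjClasses ↥(Matrix.symplecticGroup (Fin m) F) //
      ∃ g : ↥(Matrix.symplecticGroup (Fin m) F), ConjClasses.mk g = C ∧
        (IsNilpotent (Matrix.toLin' ((g : Matrix (Fin m ⊕ Fin m) (Fin m ⊕ Fin m) F) - 1)) ∧
          jtype (Matrix.toLin' ((g : Matrix (Fin m ⊕ Fin m) (Fin m ⊕ Fin m) F) - 1)) =
            μ.1.parts)}
  have hmem : ∀ (μ : A') (C : X μ), ∃ g : Matrix.symplecticGroup (Fin m) F,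
      ConjClasses.mk g = C.1 ∧ orderOf g = p := by
    rintro ⟨μ, hμ2, hμ1⟩ ⟨C, g, hg, hnil, hj⟩
    refine ⟨g, hg, ?_⟩
    rw [orderOf_eq_iff p g]
    refine ⟨hnil, ?_, ?_⟩
    · rw [hj]
      exact ((Finset.mem_filter.1 hμ1).2).1
    · rw [hj]
      intro h
      exact hμ2 ((Cfsg.Agent.S2570.eq_ones_iff μ).2 h)
  let Φ : (Σ μ : A', X μ) → {C : ConjClasses ↥(Matrix.symplecticGroup (Fin m) F) //
      ∃ g : Matrix.symplecticGroup (Fin m) F, ConjClasses.mk g = C ∧ orderOf g = p} :=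
    fun x => ⟨x.2.1, hmem x.1 x.2⟩
  have hΦ : Function.Bijective Φ := by
    constructor
    · rintro ⟨μ, C⟩ ⟨μ', C'⟩ h
      have h1 : C.1 = C'.1 := congrArg Subtype.val h
      obtain ⟨g, hg, hnil, hj⟩ := C.2
      obtain ⟨g', hg', hnil', hj'⟩ := C'.2
      have hconj : IsConj g g' := by
        rw [← ConjClasses.mk_eq_mk_iff_isConj, hg, hg', h1]
      have h2 := (jtype_conj g g' hconj hnil).2
      have hμ : μ = μ' := by
        apply Subtype.ext
        apply Nat.Partition.ext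
        rw [← hj, ← hj', h2]
      subst hμ
      congr 1
      exact Subtype.ext h1
    · rintro ⟨C, g, hg, hord⟩
      rw [orderOf_eq_iff p g] at hord
      obtain ⟨hnil, h1, h2⟩ := hord
      have hfr : finrank F (Fin m ⊕ Fin m → F) = 2 * m := by
        rw [Module.finrank_fintype_fun_eq_card, Fintype.card_sum, Fintype.card_fin, two_mul]
      let μ : Nat.Partition (2 * m) :=
        ⟨jtype (Matrix.toLin' ((g : Matrix (Fin m ⊕ Fin m) (Fin m ⊕ Fin m) F) - 1)),
          fun {a} ha => jtype_pos _ ha, by rw [jtype_sum _ hnil, hfr]⟩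
      have hμA : μ ∈ Adm := by
        rw [hAdm, Finset.mem_filter]
        exact ⟨Finset.mem_univ _, h1, fun j hj => even_count g hnil j hj⟩
      have hμ1 : μ ≠ Cfsg.Agent.S2570.ones (2 * m) :=
        fun h => h2 ((Cfsg.Agent.S2570.eq_ones_iff μ).1 h)
      exact ⟨⟨⟨μ, hμ1, hμA⟩, ⟨C, g, hg, hnil, rfl⟩⟩, rfl⟩
  rw [← Nat.card_eq_of_bijective Φ hΦ, Nat.card_sigma]
  have hX : ∀ μ : A', Nat.card (X μ) =
      2 ^ (μ.1.parts.toFinset.filter (fun j : ℕ => Even j)).card :=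
    fun μ => card_type p hp μ.1 ((Finset.mem_filter.1 μ.2.2).2.2)
  rw [Finset.sum_congr rfl (fun μ _ => hX μ)]
  rw [← Finset.sum_subtype (Adm.erase (Cfsg.Agent.S2570.ones (2 * m)))
    (fun x => Finset.mem_erase)
    (fun μ : Nat.Partition (2 * m) => 2 ^ (μ.parts.toFinset.filter (fun j : ℕ => Even j)).card)]
  have hadd := Finset.add_sum_erase Adm
    (fun μ : Nat.Partition (2 * m) => 2 ^ (μ.parts.toFinset.filter (fun j : ℕ => Even j)).card)
    hones_mem
  rw [hones_k, pow_zero] at hadd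
  omega

end Cfsg.Agent.S2676
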