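import Cfsg.Statements.S2677
import Cfsg.Agent.Lib.Helper43_GUField

set_option autoImplicit false
open Cfsg

namespace Cfsg.Agent.S2677

open Cfsg.Agent.Lib.Helper43_GUField Cfsg.Agent.S2636

theorem cast_term (q₀ i : ℕ) (hq₀ : 1 ≤ q₀) :
    (((if Even i then q₀ ^ (i + 1) + 1 else q₀ ^ (i + 1) - 1 : ℕ)) : ℤ) =
      (q₀ : ℤ) ^ (i + 1) - (-1) ^ (i + 1) := by
  by_cases hi : Even i
  · rw [if_pos hi, Odd.neg_one_pow (Even.add_one hi)]
    push_cast
    ring
  · rw [if_neg hi]
    have hodd : Odd i := Nat.not_even_iff_odd.1 hi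
    rw [Even.neg_one_pow (Odd.add_one hodd)]
    have h1 : 1 ≤ q₀ ^ (i + 1) := Nat.one_le_pow _ _ hq₀
    push_cast [Nat.cast_sub h1]
    ring

/-- Centraliser of a field automorphism of odd prime order in PGU_n(q): let q = q₀^r with r an odd prime, K the field with q² elements and σ a field automorphism of K of order r (fixed field of order q₀²). The elements g of GU_n(q) whose entrywise image under σ is a scalar multiple of g — those whose coset modulo the q + 1 unitary scalars is fixed by σ — number (q + 1)/(q₀ + 1) · |GU_n(q₀)|; equivalently the centraliser in PGU_n(q) of the induced automorphism has the order of PGU_n(q₀). -/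
theorem result {K : Type*} [Field K] [Fintype K] {q₀ q r n : ℕ} (hr : r.Prime) (hr2 : r ≠ 2) (hn : 1 ≤ n) (hq : q = q₀ ^ r) (hK : Fintype.card K = q ^ 2) (σ : K ≃+* K) (hσ : orderOf σ = r) : (Nat.card {g : ↥(Cfsg.GU n K q) // ∃ c : K, c ≠ 0 ∧ ((g : GL (Fin n) K) : Matrix (Fin n) (Fin n) K).map σ = c • ((g : GL (Fin n) K) : Matrix (Fin n) (Fin n) K)} : ℤ) = ((q + 1) / (q₀ + 1) : ℕ) * ((q₀ : ℤ) ^ (n * (n - 1) / 2) * ∏ i : Fin n, ((q₀ : ℤ) ^ ((i : ℕ) + 1) - (-1) ^ ((i : ℕ) + 1))) := by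
  have hq₀ : 1 ≤ q₀ := by
    rcases Nat.eq_zero_or_pos q₀ with h | h
    · subst h
      rw [zero_pow hr.ne_zero] at hq
      subst hq
      have : 0 < Fintype.card K := Fintype.card_pos
      rw [hK] at this
      simp at this
    · exact h
  have h1 : Nat.card {g : ↥(Cfsg.GU n K q) // ∃ c : K, c ≠ 0 ∧
      ((g : GL (Fin n) K) : Matrix (Fin n) (Fin n) K).map σ =
        c • ((g : GL (Fin n) K) : Matrix (Fin n) (Fin n) K)} = Nat.card (T σ n q) :=
    Nat.card_congr (Equiv.subtypeSubtypeEquivSubtypeInter (fun g : GL (Fin n) K => g ∈ Cfsg.GU n K q)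
      (fun g : GL (Fin n) K => g ∈ S σ n))
  rw [h1, card_T hr hr2 hn hq hK σ hσ]
  push_cast
  congr 2
  rw [Fin.prod_univ_eq_prod_range (fun i => (q₀ : ℤ) ^ (i + 1) - (-1) ^ (i + 1)) n]
  apply Finset.prod_congr rfl
  intro i _
  have := cast_term q₀ i hq₀
  push_cast at this
  exact this

end Cfsg.Agent.S2677
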