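import Cfsg.Statements.S2680
import Cfsg.Agent.Lib.Helper44_SpCentOrder

set_option autoImplicit false
open Cfsg

namespace Cfsg.Agent.S2680

open Matrix Cfsg.Agent.Lib.Helper44_SpCentOrder Cfsg.Agent.Lib.Helper44_Inv2Sp Cfsg.Agent.Lib.Helper94_Bridge
  Cfsg.Agent.Lib.Helper44_OrthDot

/-- Centraliser order of an involution t of Sp_2m(q), q even, with s = rank(t − 1) odd (type b_s): |C(t)| = q^(2ms − (3s² − s)/2) · |Sp_(s−1)(q)| · |Sp_(2m−2s)(q)|, where |Sp_2k(q)| = q^(k²) Π_(i=1)^k (q^(2i) − 1). -/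
theorem result {F : Type*} [Field F] [Fintype F] [CharP F 2] {q : ℕ} (hF : Fintype.card F = q) {m s : ℕ} (t : Matrix.symplecticGroup (Fin m) F) (ht : t ^ 2 = 1) (hs : ((t : Matrix (Fin m ⊕ Fin m) (Fin m ⊕ Fin m) F) - 1).rank = s) (hodd : Odd s) : Nat.card ↥(Subgroup.centralizer ({t} : Set ↥(Matrix.symplecticGroup (Fin m) F))) = q ^ (2 * m * s - (3 * s ^ 2 - s) / 2) * ((q : ℕ) ^ (((s - 1) / 2) ^ 2) * ∏ i : Fin ((s - 1) / 2), (q ^ (2 * ((i : ℕ) + 1)) - 1)) * ((q : ℕ) ^ ((m - s) ^ 2) * ∏ i : Fin (m - s), (q ^ (2 * ((i : ℕ) + 1)) - 1)) := by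
  have h2 : (2 : F) = 0 := by
    have := CharP.cast_eq_zero F 2
    exact_mod_cast this
  subst hF
  have htt : t.1 * t.1 = 1 := by
    have := congrArg Subtype.val ht
    rw [pow_two] at this
    exact this
  have hT := Cfsg.Agent.Lib.Helper44_SpCount.isoB_of_mem t
  have hsm : s ≤ m := by
    have := Cfsg.Agent.Lib.Helper44_SpCount.two_rank_le h2 htt
    rw [Fintype.card_sum, Fintype.card_fin, hs] at this
    omega
  have hna : ∃ v, Bsymp m F ((t.1 - 1) *ᵥ v) v ≠ 0 := by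
    by_contra hcon
    push Not at hcon
    have hev := even_rank_of_alt (Bsymp m F) (Bsymp_nondegenerate m) (Bsymp_isAlt m) h2 hT htt hcon
    rw [hs] at hev
    exact (Nat.not_even_iff_odd.mpr hodd) hev
  rw [card_centralizer_nonalt h2 t htt hs hna]
  obtain ⟨j, hj⟩ := hodd
  have hj2 : (s - 1) / 2 = j := by omega
  rw [hj2, Fin.prod_univ_eq_prod_range (fun i => Fintype.card F ^ (2 * (i + 1)) - 1) j,
    Fin.prod_univ_eq_prod_range (fun i => Fintype.card F ^ (2 * (i + 1)) - 1) (m - s)]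
  subst hj
  rw [prod_cfac_odd]
  unfold spOrd
  have hexp : (2 * j + 1) * (2 * j + 1 + 1) / 2 + 2 * (2 * j + 1) * (m - (2 * j + 1))
      = 2 * m * (2 * j + 1) - (3 * (2 * j + 1) ^ 2 - (2 * j + 1)) / 2 := by
    obtain ⟨d, rfl⟩ := Nat.exists_eq_add_of_le hsm
    have e1 : (2 * j + 1) * (2 * j + 1 + 1) / 2 = 2 * j * j + 3 * j + 1 := by
      have : (2 * j + 1) * (2 * j + 1 + 1) = 2 * (2 * j * j + 3 * j + 1) := by ring
      rw [this, Nat.mul_div_cancel_left _ (by norm_num : 0 < 2)]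
    have e2 : (3 * (2 * j + 1) ^ 2 - (2 * j + 1)) / 2 = 6 * j * j + 5 * j + 1 := by
      have : 3 * (2 * j + 1) ^ 2 - (2 * j + 1) = 2 * (6 * j * j + 5 * j + 1) := by
        have : 3 * (2 * j + 1) ^ 2 = 2 * (6 * j * j + 5 * j + 1) + (2 * j + 1) := by ring
        omega
      rw [this, Nat.mul_div_cancel_left _ (by norm_num : 0 < 2)]
    have e3 : 2 * j + 1 + d - (2 * j + 1) = d := by omega
    have e4 : 2 * (2 * j + 1 + d) * (2 * j + 1) = 8 * j * j + 8 * j + 2 + 2 * (2 * j + 1) * d := by ring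
    rw [e1, e2, e3, e4]
    have : 2 * j * j = 2 * (j * j) := by ring
    have : 6 * j * j = 6 * (j * j) := by ring
    have : 8 * j * j = 8 * (j * j) := by ring
    omega
  rw [hexp]
  ring

end Cfsg.Agent.S2680
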