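import Cfsg.Statements.S2683
import Cfsg.Agent.Lib.Helper44_OCentOrder

set_option autoImplicit false
open Cfsg

namespace Cfsg.Agent.S2683

open Matrix Cfsg.Agent.Lib.Helper44_OCentOrder Cfsg.Agent.Lib.Helper44_OrthDot
  Cfsg.Agent.Lib.Helper44_StdForms Cfsg.Agent.Lib.Helper44_OFrameCount
  Cfsg.Agent.Lib.Helper14_CartanDieudonne Cfsg.Agent.Lib.Helper44_OmegaCount

/-- For the hyperbolic form Σ x_j y_j on F^(2m) over a finite field with q elements, q even (excluding m = 2 over the field of two elements), and an involution x of the orthogonal group with s = rank(x − 1) odd (type b_s; such x lie outside Ω): the elements of Ω (the commutator subgroup of the orthogonal group) commuting with x number q^(2m(s−1) − (3s² − 3s)/2) · |Sp_(s−1)(q)| · |Sp_(2m−2s)(q)|, where |Sp_2k(q)| = q^(k²) Π_(i=1)^k (q^(2i) − 1). -/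
theorem result {F : Type*} [Field F] [Fintype F] [CharP F 2] {q : ℕ} (hF : Fintype.card F = q) {m s : ℕ} (h : Fintype.card F ≠ 2 ∨ m ≠ 2) (x : ↥(Cfsg.isometryGroup F (Cfsg.quadFormPlus m F))) (hx : x ^ 2 = 1) (hs : (((x : Matrix.GeneralLinearGroup (Fin m ⊕ Fin m) F) : Matrix (Fin m ⊕ Fin m) (Fin m ⊕ Fin m) F) - 1).rank = s) (hodd : Odd s) : Nat.card {g : ↥(Cfsg.Omega F (Cfsg.quadFormPlus m F)) // (g : ↥(Cfsg.isometryGroup F (Cfsg.quadFormPlus m F))) * x = x * (g : ↥(Cfsg.isometryGroup F (Cfsg.quadFormPlus m F)))} = q ^ (2 * m * (s - 1) - (3 * s ^ 2 - 3 * s) / 2) * ((q : ℕ) ^ (((s - 1) / 2) ^ 2) * ∏ i : Fin ((s - 1) / 2), (q ^ (2 * ((i : ℕ) + 1)) - 1)) * ((q : ℕ) ^ ((m - s) ^ 2) * ∏ i : Fin (m - s), (q ^ (2 * ((i : ℕ) + 1)) - 1)) := by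
  classical
  have h2 : (2 : F) = 0 := by
    have := CharP.cast_eq_zero F 2
    exact_mod_cast this
  subst hF
  revert x
  rw [← Cfsg.Agent.Lib.Helper44_StdForms.coe_qfPlus]
  intro x hx hs
  have htt : ((x : Matrix.GeneralLinearGroup (Fin m ⊕ Fin m) F) : Matrix (Fin m ⊕ Fin m) (Fin m ⊕ Fin m) F)
      * ((x : Matrix.GeneralLinearGroup (Fin m ⊕ Fin m) F) : Matrix (Fin m ⊕ Fin m) (Fin m ⊕ Fin m) F) = 1 := by
    have h1 : x * x = 1 := by rw [← pow_two]; exact hx
    have h3 := congrArg (fun g : ↥(Cfsg.isometryGroup F (⇑(qfPlus m F))) =>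
      ((g : Matrix.GeneralLinearGroup (Fin m ⊕ Fin m) F) : Matrix (Fin m ⊕ Fin m) (Fin m ⊕ Fin m) F)) h1
    exact h3
  have hQ := Cfsg.Agent.Lib.Helper44_Levi.nondegenerate_qfPlus m F
  have hsm : s ≤ m := by
    have := Cfsg.Agent.Lib.Helper44_SpCount.two_rank_le h2 htt
    rw [card_plus_index, hs] at this
    omega
  have hna : ∃ v, qfPlus m F ((((x : Matrix.GeneralLinearGroup (Fin m ⊕ Fin m) F) :
      Matrix (Fin m ⊕ Fin m) (Fin m ⊕ Fin m) F) - 1) *ᵥ v) ≠ 0 := by
    by_contra hcon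
    push Not at hcon
    have hev := Cfsg.Agent.Lib.Helper44_OCount.even_rank_of_alt_O (qfPlus m F) hQ h2
      (isIsom_of_mem (qfPlus m F) x) htt hcon
    rw [hs] at hev
    exact (Nat.not_even_iff_odd.mpr hodd) hev
  have key := card_omega_centralizer_nonalt h2 h x htt hs hna
  have hq0 : 0 < Fintype.card F := Fintype.card_pos
  obtain ⟨j, hj⟩ := hodd
  have hj2 : (s - 1) / 2 = j := by omega
  rw [hj2, Fin.prod_univ_eq_prod_range (fun i => Fintype.card F ^ (2 * (i + 1)) - 1) j,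
    Fin.prod_univ_eq_prod_range (fun i => Fintype.card F ^ (2 * (i + 1)) - 1) (m - s)]
  subst hj
  rw [prod_cfac_odd] at key
  apply Nat.eq_of_mul_eq_mul_right (pow_pos hq0 (m - 1 + (2 * j + 1 - 1) * (2 * j + 1 - 2) / 2))
  rw [key]
  have hexp : m * (m - 1) = (2 * m * (2 * j + 1 - 1) - (3 * (2 * j + 1) ^ 2 - 3 * (2 * j + 1)) / 2)
      + (m - (2 * j + 1)) ^ 2 + (m - 1 + (2 * j + 1 - 1) * (2 * j + 1 - 2) / 2) := by
    obtain ⟨d, rfl⟩ := Nat.exists_eq_add_of_le hsm
    have e0 : 2 * j + 1 - 1 = 2 * j := by omega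
    have e1 : (2 * j) * (2 * j + 1 - 2) / 2 = 2 * j * j - j := by
      rcases j with _ | i
      · simp
      · have : 2 * (i + 1) + 1 - 2 = 2 * i + 1 := by omega
        rw [this]
        have : 2 * (i + 1) * (2 * i + 1) = 2 * (2 * (i + 1) * (i + 1) - (i + 1)) := by
          have : 2 * (i + 1) * (i + 1) - (i + 1) = 2 * i * i + 3 * i + 1 := by
            have : 2 * (i + 1) * (i + 1) = 2 * i * i + 3 * i + 1 + (i + 1) := by ring
            omega
          rw [this]
          ring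
        rw [this, Nat.mul_div_cancel_left _ (by norm_num : 0 < 2)]
    have e2 : (3 * (2 * j + 1) ^ 2 - 3 * (2 * j + 1)) / 2 = 6 * j * j + 3 * j := by
      have : 3 * (2 * j + 1) ^ 2 - 3 * (2 * j + 1) = 2 * (6 * j * j + 3 * j) := by
        have : 3 * (2 * j + 1) ^ 2 = 2 * (6 * j * j + 3 * j) + 3 * (2 * j + 1) := by ring
        omega
      rw [this, Nat.mul_div_cancel_left _ (by norm_num : 0 < 2)]
    have e3 : 2 * j + 1 + d - (2 * j + 1) = d := by omega
    have e4 : 2 * (2 * j + 1 + d) * (2 * j) = 8 * j * j + 4 * j + 4 * j * d := by ring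
    have e5 : (2 * j + 1 + d) * (2 * j + 1 + d - 1) = 4 * j * j + 4 * j * d + 2 * j + d + d * d := by
      have : 2 * j + 1 + d - 1 = 2 * j + d := by omega
      rw [this]
      ring
    rw [e0, e1, e2, e3, e4, e5, pow_two]
    have : 2 * j * j = 2 * (j * j) := by ring
    have : 6 * j * j = 6 * (j * j) := by ring
    have : 8 * j * j = 8 * (j * j) := by ring
    have : 4 * j * j = 4 * (j * j) := by ring
    have : 4 * j * d = 4 * (j * d) := by ring
    have : j ≤ j * j := Nat.le_mul_self j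
    omega
  rw [hexp, pow_add, pow_add]
  unfold P
  ring

end Cfsg.Agent.S2683
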