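import Cfsg.Statements.S2684
import Cfsg.Agent.Lib.Helper44_OCentOrderAlt

set_option autoImplicit false
open Cfsg

namespace Cfsg.Agent.S2684

open Matrix Cfsg.Agent.Lib.Helper44_OCentOrder Cfsg.Agent.Lib.Helper44_OCentOrderAlt
  Cfsg.Agent.Lib.Helper44_OrthDot Cfsg.Agent.Lib.Helper44_StdForms Cfsg.Agent.Lib.Helper44_OFrameCount
  Cfsg.Agent.Lib.Helper14_CartanDieudonne Cfsg.Agent.Lib.Helper44_OmegaCount
  Cfsg.Agent.Lib.Helper44_SpCentOrder

/-- For the hyperbolic form Q = Σ x_j y_j on F^(2m) over a finite field with q elements, q even (excluding m = 2 over the field of two elements), and an involution x ≠ 1 of the orthogonal group with s = rank(x − 1) even and Q vanishing on the image of x − 1 (equivalently f(v, xv) = 0 for all v, where f(u, w) = Q(u + w) − Q(u) − Q(w) is the bilinear form of Q; type a_s, which lies in Ω): its centraliser in Ω (the commutator subgroup of the orthogonal group) has order q^(2ms − (3s² + s)/2) · |Sp_s(q)| · |Ω⁺_(2m−2s)(q)|,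 where |Ω⁺_2k(q)| = q^(k(k−1)) (q^k − 1) Π_(i=1)^(k−1) (q^(2i) − 1) for k ≥ 1 and the last factor is 1 when s = m. -/
theorem result {F : Type*} [Field F] [Fintype F] [CharP F 2] {q : ℕ} (hF : Fintype.card F = q) {m s : ℕ} (h : Fintype.card F ≠ 2 ∨ m ≠ 2) (x : ↥(Cfsg.isometryGroup F (Cfsg.quadFormPlus m F))) (hx : x ^ 2 = 1) (hx1 : x ≠ 1) (hs : (((x : Matrix.GeneralLinearGroup (Fin m ⊕ Fin m) F) : Matrix (Fin m ⊕ Fin m) (Fin m ⊕ Fin m) F) - 1).rank = s) (heven : Even s) (halt : ∀ v : Fin m ⊕ Fin m → F, Cfsg.quadFormPlus m F ((((x : Matrix.GeneralLinearGroup (Fin m ⊕ Fin m) F) : Matrix (Fin m ⊕ Fin m) (Fin m ⊕ Fin m) F) - 1).mulVec v) = 0) : Nat.card {g : ↥(Cfsg.Omega F (Cfsg.quadFormPlus m F)) // (g : ↥(Cfsg.isometryGroup F (Cfsg.quadFormPlus m F))) * x = x * (g : ↥(Cfsg.isometryGroup F (Cfsg.quadFormPlus m F)))} = q ^ (2 * m * s - (3 * s ^ 2 + s) / 2) * ((q : ℕ) ^ ((s / 2) ^ 2) * ∏ i : Fin (s / 2), (q ^ (2 * ((i : ℕ) + 1)) - 1)) * (if s = m then 1 else q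 ^ ((m - s) * (m - s - 1)) * (q ^ (m - s) - 1) * ∏ i : Fin (m - s - 1), (q ^ (2 * ((i : ℕ) + 1)) - 1)) := by
  classical
  have h2 : (2 : F) = 0 := by
    have := CharP.cast_eq_zero F 2
    exact_mod_cast this
  subst hF
  revert x
  rw [← Cfsg.Agent.Lib.Helper44_StdForms.coe_qfPlus]
  intro x hx hx1 hs halt
  have htt : ((x : Matrix.GeneralLinearGroup (Fin m ⊕ Fin m) F) : Matrix (Fin m ⊕ Fin m) (Fin m ⊕ Fin m) F)
      * ((x : Matrix.GeneralLinearGroup (Fin m ⊕ Fin m) F) : Matrix (Fin m ⊕ Fin m) (Fin m ⊕ Fin m) F) = 1 := by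
    have h1 : x * x = 1 := by rw [← pow_two]; exact hx
    have h3 := congrArg (fun g : ↥(Cfsg.isometryGroup F (⇑(qfPlus m F))) =>
      ((g : Matrix.GeneralLinearGroup (Fin m ⊕ Fin m) F) : Matrix (Fin m ⊕ Fin m) (Fin m ⊕ Fin m) F)) h1
    exact h3
  have hsm : s ≤ m := by
    have := Cfsg.Agent.Lib.Helper44_SpCount.two_rank_le h2 htt
    rw [card_plus_index, hs] at this
    omega
  have hs1 : 1 ≤ s := by
    rw [← hs]
    apply Cfsg.Agent.Lib.Helper44_SpCount.rank_pos_of_ne_one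
    intro h1
    apply hx1
    apply Subtype.ext
    apply Units.ext
    exact h1
  have key := card_omega_centralizer_alt h2 h x htt hs hs1 halt
  have hq0 : 0 < Fintype.card F := Fintype.card_pos
  obtain ⟨j, hj⟩ : ∃ j, s = 2 * j := by
    obtain ⟨k, hk⟩ := heven
    exact ⟨k, by omega⟩
  have hj2 : s / 2 = j := by omega
  rw [hj2] at key
  rw [hj2, Fin.prod_univ_eq_prod_range (fun i => Fintype.card F ^ (2 * (i + 1)) - 1) j,
    Fin.prod_univ_eq_prod_range (fun i => Fintype.card F ^ (2 * (i + 1)) - 1) (m - s - 1)]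
  subst hj
  apply Nat.eq_of_mul_eq_mul_right (pow_pos hq0 (2 * j * (2 * j - 1) / 2))
  rw [key]
  have e1 : 2 * j * (2 * j - 1) / 2 = 2 * j * j - j := by
    rw [Nat.mul_assoc, Nat.mul_div_cancel_left _ (by norm_num : 0 < 2)]
    rcases j with _ | i
    · rfl
    · have : 2 * (i + 1) - 1 = 2 * i + 1 := by omega
      rw [this]
      have : 2 * (i + 1) * (i + 1) = (i + 1) * (2 * i + 1) + (i + 1) := by ring
      omega
  have e2 : (3 * (2 * j) ^ 2 + 2 * j) / 2 = 6 * j * j + j := by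
    have : 3 * (2 * j) ^ 2 + 2 * j = 2 * (6 * j * j + j) := by ring
    rw [this, Nat.mul_div_cancel_left _ (by norm_num : 0 < 2)]
  have hjj : j ≤ j * j := Nat.le_mul_self j
  by_cases hcase : 2 * j = m
  · rw [if_pos hcase, if_pos hcase, mul_one, mul_one]
    subst hcase
    have hexp : 2 * j * (2 * j - 1) =
        (2 * (2 * j) * (2 * j) - (3 * (2 * j) ^ 2 + 2 * j) / 2) + 2 * j * (2 * j - 1) / 2 := by
      rw [e1, e2]
      have e3 : 2 * j * (2 * j - 1) = 4 * j * j - 2 * j := by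
        rcases j with _ | i
        · rfl
        · have : 2 * (i + 1) - 1 = 2 * i + 1 := by omega
          rw [this]
          have : 4 * (i + 1) * (i + 1) = 2 * (i + 1) * (2 * i + 1) + 2 * (i + 1) := by ring
          omega
      have e4 : 2 * (2 * j) * (2 * j) = 8 * j * j := by ring
      rw [e3, e4]
      have : 2 * j * j = 2 * (j * j) := by ring
      have : 6 * j * j = 6 * (j * j) := by ring
      have : 8 * j * j = 8 * (j * j) := by ring
      have : 4 * j * j = 4 * (j * j) := by ring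
      omega
    generalize 2 * j * (2 * j - 1) / 2 = a at *
    rw [hexp, pow_add]
    unfold spOrd
    ring
  · rw [if_neg hcase, if_neg hcase]
    obtain ⟨d, hd⟩ : ∃ d, m = 2 * j + d + 1 := ⟨m - 2 * j - 1, by omega⟩
    subst hd
    have e5 : 2 * j + d + 1 - 2 * j = d + 1 := by omega
    have e6 : d + 1 - 1 = d := by omega
    rw [e5, e6]
    have hexp : (2 * j + d + 1) * (2 * j + d + 1 - 1) =
        (2 * (2 * j + d + 1) * (2 * j) - (3 * (2 * j) ^ 2 + 2 * j) / 2) + (d + 1) * d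
          + 2 * j * (2 * j - 1) / 2 := by
      rw [e1, e2]
      have e3 : (2 * j + d + 1) * (2 * j + d + 1 - 1) = 4 * j * j + 4 * j * d + 2 * j + d * d + d := by
        have : 2 * j + d + 1 - 1 = 2 * j + d := by omega
        rw [this]
        ring
      have e4 : 2 * (2 * j + d + 1) * (2 * j) = 8 * j * j + 4 * j * d + 4 * j := by ring
      have e7 : (d + 1) * d = d * d + d := by ring
      rw [e3, e4, e7]
      have : 2 * j * j = 2 * (j * j) := by ring
      have : 6 * j * j = 6 * (j * j) := by ring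
      have : 8 * j * j = 8 * (j * j) := by ring
      have : 4 * j * j = 4 * (j * j) := by ring
      have : 4 * j * d = 4 * (j * d) := by ring
      omega
    generalize 2 * j * (2 * j - 1) / 2 = a at *
    rw [hexp, pow_add, pow_add]
    unfold spOrd P
    ring

end Cfsg.Agent.S2684
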