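import Cfsg.Statements.S2685
import Cfsg.Agent.Lib.Helper44_OCentOrder

set_option autoImplicit false
open Cfsg

namespace Cfsg.Agent.S2685

open Matrix Cfsg.Agent.Lib.Helper44_OCentOrder Cfsg.Agent.Lib.Helper44_OrthDot
  Cfsg.Agent.Lib.Helper44_StdForms Cfsg.Agent.Lib.Helper44_OFrameCount
  Cfsg.Agent.Lib.Helper14_CartanDieudonne Cfsg.Agent.Lib.Helper44_OmegaCount

/-- For the hyperbolic form Q = Σ x_j y_j on F^(2m) over a finite field with q elements, q even (excluding m = 2 over the field of two elements), and an involution x of the orthogonal group with s = rank(x − 1) even and Q not vanishing on the image of x − 1 (f(v, xv) ≠ 0 for some v, where f(u, w) = Q(u + w) − Q(u) − Q(w) is the bilinear form of Q; type c_s, which lies in Ω): its centraliser in Ω (the commutator subgroup of the orthogonal group) has order q^(2m(s−1) − (3s² − 5s)/2 − 1) · |Sp_(s−2)(q)| · |Sp_(2m−2s)(q)|. -/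
theorem result {F : Type*} [Field F] [Fintype F] [CharP F 2] {q : ℕ} (hF : Fintype.card F = q) {m s : ℕ} (h : Fintype.card F ≠ 2 ∨ m ≠ 2) (x : ↥(Cfsg.isometryGroup F (Cfsg.quadFormPlus m F))) (hx : x ^ 2 = 1) (hs : (((x : Matrix.GeneralLinearGroup (Fin m ⊕ Fin m) F) : Matrix (Fin m ⊕ Fin m) (Fin m ⊕ Fin m) F) - 1).rank = s) (heven : Even s) (hna : ∃ v : Fin m ⊕ Fin m → F, Cfsg.quadFormPlus m F ((((x : Matrix.GeneralLinearGroup (Fin m ⊕ Fin m) F) : Matrix (Fin m ⊕ Fin m) (Fin m ⊕ Fin m) F) - 1).mulVec v) ≠ 0) : Nat.card {g : ↥(Cfsg.Omega F (Cfsg.quadFormPlus m F)) // (g : ↥(Cfsg.isometryGroup F (Cfsg.quadFormPlus m F))) * x = x * (g : ↥(Cfsg.isometryGroup F (Cfsg.quadFormPlus m F)))} = q ^ (2 * m * (s - 1) - (3 * s ^ 2 - 5 * s) / 2 - 1) * ((q : ℕ) ^ (((s - 2) / 2) ^ 2) * ∏ i : Fin ((s - 2) / 2), (q ^ (2 * ((i : ℕ) + 1)) - 1)) * ((q : ℕ) ^ ((m - s) ^ 2) * ∏ i : Fin (m - s), (q ^ (2 * ((i : ℕ) + 1)) - 1)) := by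
  classical
  have h2 : (2 : F) = 0 := by
    have := CharP.cast_eq_zero F 2
    exact_mod_cast this
  subst hF
  revert x
  rw [← Cfsg.Agent.Lib.Helper44_StdForms.coe_qfPlus]
  intro x hx hs hna
  have htt : ((x : Matrix.GeneralLinearGroup (Fin m ⊕ Fin m) F) : Matrix (Fin m ⊕ Fin m) (Fin m ⊕ Fin m) F)
      * ((x : Matrix.GeneralLinearGroup (Fin m ⊕ Fin m) F) : Matrix (Fin m ⊕ Fin m) (Fin m ⊕ Fin m) F) = 1 := by
    have h1 : x * x = 1 := by rw [← pow_two]; exact hx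
    have h3 := congrArg (fun g : ↥(Cfsg.isometryGroup F (⇑(qfPlus m F))) =>
      ((g : Matrix.GeneralLinearGroup (Fin m ⊕ Fin m) F) : Matrix (Fin m ⊕ Fin m) (Fin m ⊕ Fin m) F)) h1
    exact h3
  have hsm : s ≤ m := by
    have := Cfsg.Agent.Lib.Helper44_SpCount.two_rank_le h2 htt
    rw [card_plus_index, hs] at this
    omega
  have hs1 : 1 ≤ s := by
    rw [← hs]
    apply Cfsg.Agent.Lib.Helper44_SpCount.rank_pos_of_ne_one
    intro h1
    obtain ⟨v, hv⟩ := hna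
    apply hv
    rw [h1, sub_self, Matrix.zero_mulVec, map_zero]
  have key := card_omega_centralizer_nonalt h2 h x htt hs hna
  have hq0 : 0 < Fintype.card F := Fintype.card_pos
  obtain ⟨j, hj⟩ : ∃ j, s = 2 * j + 2 := by
    obtain ⟨k, hk⟩ := heven
    exact ⟨k - 1, by omega⟩
  have hj2 : (s - 2) / 2 = j := by omega
  rw [hj2, Fin.prod_univ_eq_prod_range (fun i => Fintype.card F ^ (2 * (i + 1)) - 1) j,
    Fin.prod_univ_eq_prod_range (fun i => Fintype.card F ^ (2 * (i + 1)) - 1) (m - s)]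
  subst hj
  rw [prod_cfac_even] at key
  apply Nat.eq_of_mul_eq_mul_right (pow_pos hq0 (m - 1 + (2 * j + 2 - 1) * (2 * j + 2 - 2) / 2))
  rw [key]
  have hexp : m * (m - 1) + (2 * j + 1) =
      (2 * m * (2 * j + 2 - 1) - (3 * (2 * j + 2) ^ 2 - 5 * (2 * j + 2)) / 2 - 1)
      + (m - (2 * j + 2)) ^ 2 + (m - 1 + (2 * j + 2 - 1) * (2 * j + 2 - 2) / 2) := by
    obtain ⟨d, rfl⟩ := Nat.exists_eq_add_of_le hsm
    have e0 : 2 * j + 2 - 1 = 2 * j + 1 := by omega
    have e0' : 2 * j + 2 - 2 = 2 * j := by omega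
    have e1 : (2 * j + 1) * (2 * j) / 2 = 2 * j * j + j := by
      have : (2 * j + 1) * (2 * j) = 2 * (2 * j * j + j) := by ring
      rw [this, Nat.mul_div_cancel_left _ (by norm_num : 0 < 2)]
    have e2 : (3 * (2 * j + 2) ^ 2 - 5 * (2 * j + 2)) / 2 = 6 * j * j + 7 * j + 1 := by
      have : 3 * (2 * j + 2) ^ 2 - 5 * (2 * j + 2) = 2 * (6 * j * j + 7 * j + 1) := by
        have : 3 * (2 * j + 2) ^ 2 = 2 * (6 * j * j + 7 * j + 1) + 5 * (2 * j + 2) := by ring
        omega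
      rw [this, Nat.mul_div_cancel_left _ (by norm_num : 0 < 2)]
    have e3 : 2 * j + 2 + d - (2 * j + 2) = d := by omega
    have e4 : 2 * (2 * j + 2 + d) * (2 * j + 1) = 8 * j * j + 12 * j + 4 + 4 * j * d + 2 * d := by ring
    have e5 : (2 * j + 2 + d) * (2 * j + 2 + d - 1) =
        4 * j * j + 6 * j + 4 * j * d + 2 + 3 * d + d * d := by
      have : 2 * j + 2 + d - 1 = 2 * j + 1 + d := by omega
      rw [this]
      ring
    rw [e0, e0', e1, e2, e3, e4, e5, pow_two]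
    have : 2 * j * j = 2 * (j * j) := by ring
    have : 6 * j * j = 6 * (j * j) := by ring
    have : 8 * j * j = 8 * (j * j) := by ring
    have : 4 * j * j = 4 * (j * j) := by ring
    have : 4 * j * d = 4 * (j * d) := by ring
    omega
  have hkey2 : Fintype.card F ^ (m * (m - 1)) * (Fintype.card F ^ (2 * j + 1) *
      (Fintype.card F ^ j ^ 2 * ∏ i ∈ Finset.range j, (Fintype.card F ^ (2 * (i + 1)) - 1))) *
      P (Fintype.card F) (m - (2 * j + 2)) =
      Fintype.card F ^ (m * (m - 1) + (2 * j + 1)) *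
      (Fintype.card F ^ j ^ 2 * ∏ i ∈ Finset.range j, (Fintype.card F ^ (2 * (i + 1)) - 1)) *
      P (Fintype.card F) (m - (2 * j + 2)) := by
    rw [pow_add]
    ring
  rw [hkey2, hexp, pow_add, pow_add]
  unfold P
  ring

end Cfsg.Agent.S2685
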