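import Cfsg.Statements.S2686
import Cfsg.Agent.Lib.Helper14_PSLBalGraph
import Cfsg.Agent.Lib.Helper44_PSLnBalance

set_option autoImplicit false
open Cfsg

namespace Cfsg.Agent.S2686

open Cfsg.Agent.Lib.Helper14_PSLAut Cfsg.Agent.Lib.Helper14_PSLGraph
  Cfsg.Agent.Lib.Helper44_PSLnRoot Cfsg.Agent.Lib.Helper14_FieldAutPSL
  Cfsg.Agent.Lib.Helper14_PSLBalCore Cfsg.Agent.Lib.Helper14_PSLBalGraph

/-- A criterion for the failure of local balance in almost simple groups with linear socle. Let F be a finite field of characteristic r and K = PSL_n(F) (n ≥ 2) simple. Let A be a group of automorphisms of K containing all inner automorphisms (an almost simple group with socle K), and β ∈ A an automorphism of prime order p ≠ r that is not inner-diagonal (not induced by conjugation by an invertible matrix). Then the largest normal subgroup of C_A(β) of order prime to p is nontrivial if and only if β is the composite of an inner-diagonal automorphism with the automorphism induced by a field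 automorphism applied entrywise (β is of field type) and p does not divide the number of fixed points of β on K. -/
theorem result
    (F : Type*) [Field F] [Fintype F] (r : ℕ) [Fact r.Prime] [CharP F r] (n : ℕ) (hn : 2 ≤ n)
    (hK : IsSimpleGroup (Matrix.ProjectiveSpecialLinearGroup (Fin n) F))
    (𝒢 : Subgroup (MulAut (Matrix.ProjectiveSpecialLinearGroup (Fin n) F))) (hinn : ∀ k : Matrix.ProjectiveSpecialLinearGroup (Fin n) F, MulAut.conj k ∈ 𝒢)
    (p : ℕ) [Fact p.Prime] (hpr : p ≠ r) (β : MulAut (Matrix.ProjectiveSpecialLinearGroup (Fin n) F)) (hβ : β ∈ 𝒢) (hord : orderOf β = p)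
    (hnot : ¬ Cfsg.IsInnerDiagonalAutPSL β) :
    Cfsg.pPrimeCore p ↥(𝒢 ⊓ Subgroup.centralizer {β}) ≠ ⊥ ↔
      ((∃ γ φ : MulAut (Matrix.ProjectiveSpecialLinearGroup (Fin n) F), Cfsg.IsInnerDiagonalAutPSL γ ∧ Cfsg.IsFieldAutPSL φ ∧ β = φ.trans γ) ∧
        Nat.Coprime p (Nat.card ↥(MonoidHom.eqLocus β.toMonoidHom (MonoidHom.id (Matrix.ProjectiveSpecialLinearGroup (Fin n) F))))) := by
  obtain ⟨f, -, hF⟩ := FiniteField.card F r
  have hF' : Fintype.card F = r ^ (f : ℕ) := hF
  -- the field-type case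
  have hfield : ∀ (g : GL (Fin n) F) (σ : F ≃+* F), β = conjAut g * fieldAut σ →
      (Cfsg.pPrimeCore p ↥(𝒢 ⊓ Subgroup.centralizer {β}) ≠ ⊥ ↔
      ((∃ γ φ : MulAut (Matrix.ProjectiveSpecialLinearGroup (Fin n) F),
        Cfsg.IsInnerDiagonalAutPSL γ ∧ Cfsg.IsFieldAutPSL φ ∧ β = φ.trans γ) ∧
        Nat.Coprime p (Nat.card ↥(MonoidHom.eqLocus β.toMonoidHom
          (MonoidHom.id (Matrix.ProjectiveSpecialLinearGroup (Fin n) F)))))) := by
    intro g σ hβe
    have hσ : σ ≠ RingEquiv.refl F := by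
      rintro rfl
      apply hnot
      rw [isInnerDiagonal_iff]
      refine ⟨g, ?_⟩
      rw [hβe]
      have : (fieldAut (RingEquiv.refl F) :
          MulAut (Matrix.ProjectiveSpecialLinearGroup (Fin n) F)) = 1 := fieldAut_one
      rw [this, mul_one]
    have h1 : ∃ γ φ : MulAut (Matrix.ProjectiveSpecialLinearGroup (Fin n) F),
        Cfsg.IsInnerDiagonalAutPSL γ ∧ Cfsg.IsFieldAutPSL φ ∧ β = φ.trans γ :=
      ⟨conjAut g, fieldAut σ, (isInnerDiagonal_iff _).mpr ⟨g, rfl⟩,
        ⟨σ, isStdFieldAut_fieldAut σ⟩, hβe⟩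
    subst hβe
    rw [Cfsg.Agent.Lib.Helper44_PSLnBalance.balance_PSL_field F r n hn hK 𝒢 hinn p hpr g σ hβ hord hσ]
    exact ⟨fun h => ⟨h1, h⟩, fun h => h.2⟩
  rcases Nat.lt_or_ge n 3 with h3 | h3
  · have h2 : n = 2 := by omega
    subst h2
    obtain ⟨g, σ, hβe⟩ := Cfsg.Agent.Lib.Helper44_PSL2Aut.aut_PSL2 hF' β
    exact hfield g σ hβe
  · obtain ⟨g, σ, ε, hβe⟩ := Cfsg.Agent.Lib.Helper44_PSL2Aut.aut_PSL hF' hn β
    cases ε
    · simp only [Bool.false_eq_true, if_false, mul_one] at hβe
      exact hfield g σ hβe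
    · simp only [if_true] at hβe
      -- `β` is not in `PΓL`
      have hnP : β ∉ PGam n F := by
        rintro ⟨g', σ', hβ'⟩
        rw [hβe] at hβ'
        -- `itAut = (conjAut g * fieldAut σ)⁻¹ * (conjAut g' * fieldAut σ')`
        have hit : (itAut : MulAut (Matrix.ProjectiveSpecialLinearGroup (Fin n) F)) ∈ PGam n F := by
          have h5 : (itAut : MulAut (Matrix.ProjectiveSpecialLinearGroup (Fin n) F)) =
              (conjAut g * fieldAut σ)⁻¹ * (conjAut g' * fieldAut σ') := by
            rw [← hβ']; group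
          rw [h5]
          exact (PGam n F).mul_mem ((PGam n F).inv_mem ⟨g, σ, rfl⟩) ⟨g', σ', rfl⟩
        obtain ⟨h, τ, hτ⟩ := hit
        apply Cfsg.Agent.Lib.Helper44_PSLnOut.fieldAut_mul_itAut_ne h3 τ⁻¹ (glMap τ⁻¹ h)
        rw [hτ, ← mul_assoc, fieldAut_mul_conjAut, mul_assoc, ← fieldAut_mul, inv_mul_cancel,
          fieldAut_one, mul_one]
      -- `p = 2`
      have hp2 : p = 2 := by
        by_contra hne
        have hodd : Odd p := (Fact.out : p.Prime).odd_of_ne_two hne
        apply hnP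
        apply mem_PGam_of_odd hF' hn β hodd
        rw [← hord, pow_orderOf_eq_one]
      subst hp2
      have h2F : (2 : F) ≠ 0 := by
        intro h0
        have h4 : ((2 : ℕ) : F) = 0 := by exact_mod_cast h0
        rw [CharP.cast_eq_zero_iff F r] at h4
        have := (Nat.prime_dvd_prime_iff_eq (Fact.out : r.Prime) Nat.prime_two).mp h4
        exact hpr this.symm
      have hxx : β * β = 1 := by
        rw [← pow_two, ← hord, pow_orderOf_eq_one]
      constructor
      · intro hne
        exfalso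
        apply hne
        rw [hβe] at hxx ⊢
        exact balance_PSL_graph hF' h2F h3 g σ hxx 𝒢 hinn
      · rintro ⟨⟨γ, φ, hγ, ⟨σ', hφ⟩, hβ'⟩, -⟩
        exfalso
        apply hnP
        obtain ⟨g', rfl⟩ := (isInnerDiagonal_iff γ).mp hγ
        rw [eq_fieldAut_of_isStd hφ] at hβ'
        exact ⟨g', σ', hβ'⟩

end Cfsg.Agent.S2686
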