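import Cfsg.Statements.S2687
import Cfsg.Agent.Lib.Helper93_UBalField
import Cfsg.Agent.Lib.Helper93_UGraphMain
import Cfsg.Agent.Lib.Helper14_PSUFac
import Cfsg.Agent.S0282

set_option autoImplicit false
open Cfsg

namespace Cfsg.Agent.S2687

open Cfsg.Agent.Lib.Helper14_PSUAut Cfsg.Agent.Lib.Helper45_PSUOut

/-- A criterion for the failure of local balance in almost simple groups with unitary socle. Let F be a finite field of characteristic r with q² elements and K = PSU_n(q) (n ≥ 3, the central quotient of the determinant-one isometries of the standard Hermitian form) simple. Let A be a group of automorphisms of K containing all inner automorphisms, and β ∈ A an automorphism of prime order p ≠ r that is not inner-diagonal (not induced by conjugation by a matrix of the general unitary group). Then the largest normal subgroup of C_A(β) of order prime to p is nontrivial if and only if β is the composite of an inner-diagonal automorphism with the automorphism induced by a field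 automorphism of F applied entrywise and p does not divide the number of fixed points of β on K. -/
theorem result
    (F : Type*) [Field F] [Fintype F] (r : ℕ) [Fact r.Prime] [CharP F r] (q : ℕ) (hF : Fintype.card F = q ^ 2)
    (n : ℕ) (hn : 3 ≤ n) (hK : IsSimpleGroup (Cfsg.PSU n F q))
    (𝒢 : Subgroup (MulAut (Cfsg.PSU n F q))) (hinn : ∀ k : Cfsg.PSU n F q, MulAut.conj k ∈ 𝒢)
    (p : ℕ) [Fact p.Prime] (hpr : p ≠ r) (β : MulAut (Cfsg.PSU n F q)) (hβ : β ∈ 𝒢) (hord : orderOf β = p)
    (hnot : ¬ Cfsg.IsInnerDiagonalAutPSU β) :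
    Cfsg.pPrimeCore p ↥(𝒢 ⊓ Subgroup.centralizer {β}) ≠ ⊥ ↔
      ((∃ γ φ : MulAut (Cfsg.PSU n F q), Cfsg.IsInnerDiagonalAutPSU γ ∧ (∃ σ : F ≃+* F, Cfsg.IsFieldAutPSUOf σ φ) ∧ β = φ.trans γ) ∧
        Nat.Coprime p (Nat.card ↥(MonoidHom.eqLocus β.toMonoidHom (MonoidHom.id (Cfsg.PSU n F q))))) := by
  -- `PSU_3(2)` is not simple
  have hs : ¬ (n = 3 ∧ q = 2) := by
    rintro ⟨rfl, rfl⟩
    have hF4 : Fintype.card F = 4 := by rw [hF]; norm_num
    obtain ⟨hcard, hsolv⟩ := Cfsg.Agent.S0282.result hF4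
    have hfin : Finite (Cfsg.PSU 3 F 2) := Nat.finite_of_card_ne_zero (by rw [hcard]; norm_num)
    have hcomm : ∀ a b : Cfsg.PSU 3 F 2, a * b = b * a := IsSimpleGroup.comm_iff_isSolvable.mpr hsolv
    letI : CommGroup (Cfsg.PSU 3 F 2) := { (inferInstance : Group (Cfsg.PSU 3 F 2)) with mul_comm := hcomm }
    have hprime : (Nat.card (Cfsg.PSU 3 F 2)).Prime := IsSimpleGroup.prime_card
    rw [hcard] at hprime
    exact absurd hprime (by norm_num)
  have hfac : Fac n F q := Cfsg.Agent.Lib.Helper14_PSUFac.psu_fac hF hn hs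
  -- the first conjunct always holds
  have h1 : ∃ γ φ : MulAut (Cfsg.PSU n F q), Cfsg.IsInnerDiagonalAutPSU γ ∧
      (∃ σ : F ≃+* F, Cfsg.IsFieldAutPSUOf σ φ) ∧ β = φ.trans γ := by
    obtain ⟨g, σ, hβe⟩ := hfac β
    exact ⟨conjU g, fieldU σ, (isInnerDiagonalPSU_iff _).mpr ⟨g, rfl⟩,
      ⟨σ, (isFieldAutPSUOf_iff σ _).mpr rfl⟩, hβe⟩
  by_cases hp2 : p = 2
  · subst hp2
    have hr2 : r ≠ 2 := fun h => hpr h.symm
    obtain ⟨hcore, hdvd⟩ := Cfsg.Agent.Lib.Helper93_UGraphMain.balance_graph_u (r := r) hr2 hF hn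
      hfac 𝒢 hinn β hord hnot
    constructor
    · intro hne
      exact absurd hcore hne
    · rintro ⟨-, hcop⟩
      exfalso
      have h2 : 2 ∣ Nat.gcd 2 (Nat.card ↥(MonoidHom.eqLocus β.toMonoidHom
          (MonoidHom.id (Cfsg.PSU n F q)))) := Nat.dvd_gcd (dvd_refl 2) hdvd
      rw [Nat.Coprime] at hcop
      rw [hcop] at h2
      exact absurd h2 (by norm_num)
  · rw [Cfsg.Agent.Lib.Helper93_UBalField.balance_field_u (r := r) hF hn hfac 𝒢 hinn hp2 β hord hnot]
    exact ⟨fun h => ⟨h1, h⟩, fun h => h.2⟩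

end Cfsg.Agent.S2687
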