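import Cfsg.Statements.S2689
import Cfsg.Agent.Lib.Helper44_PSL2Aut

set_option autoImplicit false
open Cfsg

namespace Cfsg.Agent.S2689

/-- The automorphism group of a simple projective special linear group PSL_n(F) over a finite field (n ≥ 2; |F| ≥ 4 when n = 2) is generated by the automorphisms induced by invertible semilinear maps of F^n (the image of the projective semilinear group) together with the inverse-transpose automorphism. -/
theorem result {F : Type*} [Field F] [Fintype F] {p f : ℕ} [Fact p.Prime] (hF : Fintype.card F = p ^ f) (hf : 1 ≤ f) {n : ℕ} (hn : 2 ≤ n) (hs : n = 2 → 4 ≤ Fintype.card F) :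
    Cfsg.gammaPSL n F ⊔ Cfsg.autSubgroupOf (fun β : Matrix.ProjectiveSpecialLinearGroup (Fin n) F ≃* Matrix.ProjectiveSpecialLinearGroup (Fin n) F => Cfsg.IsInverseTransposeAutPSL β) = ⊤ := by
  rw [eq_top_iff]
  intro β _
  obtain ⟨g, σ, ε, h⟩ := Cfsg.Agent.Lib.Helper44_PSL2Aut.aut_PSL hF hn β
  rw [h]
  apply Subgroup.mul_mem
  · apply Subgroup.mem_sup_left
    apply Subgroup.subset_closure
    refine ⟨g, σ, ?_⟩
    intro s s' hs'
    show Cfsg.Agent.Lib.Helper14_PSLAut.conjAut g
      (Cfsg.Agent.Lib.Helper44_PSLnRoot.fieldAut σ (QuotientGroup.mk s)) = QuotientGroup.mk s'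
    show (QuotientGroup.mk (Cfsg.Agent.Lib.Helper14_PSLAut.slConj g
      (Cfsg.Agent.Lib.Helper44_PSLnRoot.fieldSL σ s)) :
        Matrix.ProjectiveSpecialLinearGroup (Fin n) F) = QuotientGroup.mk s'
    congr 1
    apply Subtype.ext
    rw [hs']
    rfl
  · apply Subgroup.mem_sup_right
    cases ε
    · exact Subgroup.one_mem _
    · apply Subgroup.subset_closure
      exact (Cfsg.Agent.Lib.Helper14_PSLAut.isInverseTranspose_iff _).mpr rfl

end Cfsg.Agent.S2689
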