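import Cfsg.Statements.S2697
import Cfsg.Agent.Lib.Helper44_PSLnLang

set_option autoImplicit false
open Cfsg

namespace Cfsg.Agent.S2697

/-- Let T = PSL_n(F) be simple over a finite field (n ≥ 2; |F| ≥ 4 when n = 2) and let x be a field automorphism or a graph-field automorphism of T of prime order r. Then an element y of the coset Inndiag(T)·x (that is, y = δ x with δ in the inner-diagonal group, the image of PGL_n(F)) has order r if and only if y is conjugate to x by an element of Inndiag(T). -/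
theorem result {F : Type*} [Field F] [Fintype F] {p f : ℕ} [Fact p.Prime] (hF : Fintype.card F = p ^ f) (hf : 1 ≤ f) {n : ℕ} (hn : 2 ≤ n) (hs : n = 2 → 4 ≤ Fintype.card F) (x δ : MulAut (Matrix.ProjectiveSpecialLinearGroup (Fin n) F)) (hx : Cfsg.IsFieldAutClassPSL x ∨ Cfsg.IsGraphFieldAutClassPSL x) {r : ℕ} (hr : r.Prime) (hxr : orderOf x = r) (hδ : δ ∈ Cfsg.inndiagPSL n F) :
    orderOf (δ * x) = r ↔ Cfsg.IsConjUnder (Cfsg.inndiagPSL n F) x (δ * x) := by
  have hD : Cfsg.inndiagPSL n F = Cfsg.Agent.Lib.Helper44_PSLnOut.DD n F :=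
    Cfsg.Agent.Lib.Helper14_PSLAut.inndiagPSL_eq
  have hN : (Cfsg.Agent.Lib.Helper44_PSLnOut.DD n F).Normal :=
    Cfsg.Agent.Lib.Helper44_PSLnOut.DD_normal hF hn
  rw [hD] at hδ ⊢
  constructor
  swap
  · rintro ⟨h, -, hh⟩
    rw [hh, ← MulAut.conj_apply, MulEquiv.orderOf_eq]
    exact hxr
  intro hord
  have hr0 : 0 < r := hr.pos
  -- the conjugate of `δ` by any `α` is `conjAut g`
  have hconjδ : ∀ α : MulAut (Matrix.ProjectiveSpecialLinearGroup (Fin n) F),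
      ∃ g : GL (Fin n) F, α * δ * α⁻¹ = Cfsg.Agent.Lib.Helper14_PSLAut.conjAut g := by
    intro α
    obtain ⟨g, hg⟩ := hN.conj_mem δ hδ α
    exact ⟨g, hg.symm⟩
  have hpow : ∀ (α : MulAut (Matrix.ProjectiveSpecialLinearGroup (Fin n) F)) (i : ℕ),
      ((α * δ * α⁻¹) * (α * x * α⁻¹)) ^ i = α * (δ * x) ^ i * α⁻¹ := by
    intro α i
    have : (α * δ * α⁻¹) * (α * x * α⁻¹) = α * (δ * x) * α⁻¹ := by group
    rw [this, conj_pow]
  have hordx : ∀ α : MulAut (Matrix.ProjectiveSpecialLinearGroup (Fin n) F),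
      orderOf (α * x * α⁻¹) = r := by
    intro α
    rw [← MulAut.conj_apply, MulEquiv.orderOf_eq]
    exact hxr
  rcases hx with ⟨α, σ, hσ, hstd⟩ | ⟨hn3, α, φ, γ, σ, hσ, hφ, hγ, hconj⟩
  · -- field automorphisms
    have hx' := Cfsg.Agent.Lib.Helper44_PSLnLang.eq_fieldAut_of_isStd hstd
    obtain ⟨g, hg⟩ := hconjδ α
    apply Cfsg.Agent.Lib.Helper44_PSLnLang.isConjUnder_of_conj _ α
    have hordσ : orderOf σ = r := by
      rw [← Cfsg.Agent.Lib.Helper44_PSLnLang.orderOf_fieldAut hn σ, ← hx']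
      exact hordx α
    have h1 : (Cfsg.Agent.Lib.Helper14_PSLAut.conjAut g *
        Cfsg.Agent.Lib.Helper44_PSLnRoot.fieldAut σ :
        MulAut (Matrix.ProjectiveSpecialLinearGroup (Fin n) F)) ^ r = 1 := by
      rw [← hg, ← hx', hpow, ← hord, pow_orderOf_eq_one, mul_one, mul_inv_cancel]
    obtain ⟨k, hk⟩ := Cfsg.Agent.Lib.Helper44_PSLnLang.field_coset_conj hn σ hr0 hordσ g h1
    refine ⟨_, Cfsg.Agent.Lib.Helper44_PSLnOut.conjAut_mem_DD k, ?_⟩
    rw [hg, hx']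
    exact hk
  · -- graph-field automorphisms
    have hφ' := Cfsg.Agent.Lib.Helper44_PSLnLang.eq_fieldAut_of_isStd hφ
    have hγ' := (Cfsg.Agent.Lib.Helper14_PSLAut.isInverseTranspose_iff γ).mp hγ
    rw [hφ', hγ'] at hconj
    obtain ⟨g, hg⟩ := hconjδ α
    apply Cfsg.Agent.Lib.Helper44_PSLnLang.isConjUnder_of_conj _ α
    have hordx' := hordx α
    rw [hconj] at hordx'
    obtain ⟨hr2, hσ2⟩ := Cfsg.Agent.Lib.Helper44_PSLnLang.graphField_order hn3 σ hr hordx'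
    have h1 : (Cfsg.Agent.Lib.Helper14_PSLAut.conjAut g *
        (Cfsg.Agent.Lib.Helper44_PSLnRoot.fieldAut σ * Cfsg.Agent.Lib.Helper14_PSLAut.itAut) :
        MulAut (Matrix.ProjectiveSpecialLinearGroup (Fin n) F)) ^ 2 = 1 := by
      rw [← hg, ← hconj, hpow, ← hr2, ← hord, pow_orderOf_eq_one, mul_one, mul_inv_cancel]
    obtain ⟨k, hk⟩ := Cfsg.Agent.Lib.Helper44_PSLnLang.graphField_coset_conj (by omega) σ hσ hσ2
      g h1
    refine ⟨_, Cfsg.Agent.Lib.Helper44_PSLnOut.conjAut_mem_DD k, ?_⟩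
    rw [hg, hconj]
    exact hk

end Cfsg.Agent.S2697
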