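import Cfsg.Statements.S2699
import Cfsg.Agent.Lib.Helper14_Char2Groups
import Cfsg.Agent.S0304

open Cfsg.Agent.Lib.Helper14_PSLAut Cfsg.Agent.Lib.Helper14_PSLCent Cfsg.Agent.Lib.Helper14_PGOTransport Cfsg.Agent.Lib.Helper14_SymForms Cfsg.Agent.Lib.Helper44_StdForms Cfsg.Agent.Lib.Helper14_Congruence Cfsg.Agent.Lib.Helper14_PSLGraph Cfsg.Agent.Lib.Helper14_PSLGraphOdd Cfsg.Agent.Lib.Helper14_SymChar2 Cfsg.Agent.Lib.Helper14_Char2Groups

set_option autoImplicit false
open Cfsg

namespace Cfsg.Agent.S2699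

/-- Let T = PSL_n(F) over the field with p^f elements with n ≥ 3 odd, n = 2m + 1, and G = Inndiag(T) the image of PGL_n(F). Every involutory graph automorphism γ of T (an inner-diagonal automorphism followed by inverse-transpose, of order 2) has centralizer C_G(γ) isomorphic to the projective conformal orthogonal group of the form x₀² + Σ xᵢ yᵢ in dimension n (for q even this group is isomorphic to Sp_{n−1}(q)), and any two involutory graph automorphisms are G-conjugate. -/
theorem result {F : Type*} [Field F] [Fintype F] {p f : ℕ} [Fact p.Prime] (hF : Fintype.card F = p ^ f) (hf : 1 ≤ f) {n : ℕ} (hn : 3 ≤ n) {m : ℕ} (hnm : n = 2 * m + 1) (γ γ' : MulAut (Matrix.ProjectiveSpecialLinearGroup (Fin n) F)) (hγ : Cfsg.IsGraphAutClassPSL γ) (hγ2 : orderOf γ = 2) (hγ' : Cfsg.IsGraphAutClassPSL γ') (hγ'2 : orderOf γ' = 2) :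
    Nonempty (↥(Cfsg.inndiagPSL n F ⊓ Subgroup.centralizer {γ}) ≃* Cfsg.PGO F (Cfsg.quadFormOdd m F)) ∧ Cfsg.IsConjUnder (Cfsg.inndiagPSL n F) γ γ' := by
  classical
  have hn0 : 0 < n := by omega
  obtain ⟨M, rfl⟩ := (isGraph_iff_gam hn γ).mp hγ
  obtain ⟨M', rfl⟩ := (isGraph_iff_gam hn γ').mp hγ'
  have hMdet : ((M : GL (Fin n) F) : Matrix (Fin n) (Fin n) F).det ≠ 0 := by
    have : IsUnit ((M : GL (Fin n) F) : Matrix (Fin n) (Fin n) F).det :=
      (Matrix.isUnit_iff_isUnit_det _).mp M.isUnit
    exact this.ne_zero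
  have hMdet' : ((M' : GL (Fin n) F) : Matrix (Fin n) (Fin n) F).det ≠ 0 := by
    have : IsUnit ((M' : GL (Fin n) F) : Matrix (Fin n) (Fin n) F).det :=
      (Matrix.isUnit_iff_isUnit_det _).mp M'.isUnit
    exact this.ne_zero
  have hcardκ : Fintype.card (Unit ⊕ (Fin m ⊕ Fin m)) = n := by
    simp only [Fintype.card_sum, Fintype.card_fin, Fintype.card_unit]
    omega
  by_cases h2 : (2 : F) = 0
  · -- characteristic two
    haveI : CharP F 2 := CharTwo.of_one_ne_zero_of_two_eq_zero one_ne_zero h2
    have hsym : ∀ N : GL (Fin n) F, orderOf (gam N) = 2 →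
        Matrix.transpose ((N : GL (Fin n) F) : Matrix (Fin n) (Fin n) F) = (N : Matrix (Fin n) (Fin n) F) := by
      intro N hN
      rcases (orderOf_gam_iff hn N).mp hN with h | h
      · exact h
      · rw [h]; ext i j; rw [Matrix.neg_apply, CharTwo.neg_eq]
    have hM := hsym M hγ2
    have hM' := hsym M' hγ'2
    constructor
    · obtain ⟨e0⟩ := nonempty_centEquiv M
      obtain ⟨P, P', h1, h1', hP⟩ := exists_std_odd hnm hM hMdet
      have hm0 : m0 (F := F) m ≠ 0 := by
        intro h
        have := det_m0_ne_zero (F := F) m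
        rw [h, Matrix.det_zero] at this
        exact this rfl
      obtain ⟨e1⟩ := nonempty_isoBil_equiv hm0
      obtain ⟨e2⟩ := nonempty_sp_equiv_isoBil (F := F) (m := m)
      obtain ⟨e3⟩ := Cfsg.Agent.S0304.result (F := F) m
      obtain ⟨e4⟩ := nonempty_isometryGroup_equiv (Cfsg.quadFormOdd m F)
        (fun a v => by
          rw [← coe_qfOdd, QuadraticMap.map_smul, smul_eq_mul])
        ⟨Pi.single (Sum.inl ()) 1, by simp [Cfsg.quadFormOdd]⟩
      exact ⟨(((((e0.trans (pgsCongr _ _ P P' h1 h1' hP)).trans e1.symm).trans e2.symm).trans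
        e3.symm).trans e4)⟩
    · rw [isConjUnder_gam_iff]
      obtain ⟨k, hk⟩ := exists_congr_odd hnm hM hM' hMdet hMdet'
      exact ⟨k, 1, by rw [hk, Units.val_one, one_smul]⟩
  · -- odd characteristic
    have hsym : ∀ N : GL (Fin n) F, orderOf (gam N) = 2 →
        Matrix.transpose ((N : GL (Fin n) F) : Matrix (Fin n) (Fin n) F) = (N : Matrix (Fin n) (Fin n) F) := by
      intro N hN
      rcases (orderOf_gam_iff hn N).mp hN with h | h
      · exact h
      · exfalso
        have hNdet : ((N : GL (Fin n) F) : Matrix (Fin n) (Fin n) F).det ≠ 0 := by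
          have : IsUnit ((N : GL (Fin n) F) : Matrix (Fin n) (Fin n) F).det :=
            (Matrix.isUnit_iff_isUnit_det _).mp N.isUnit
          exact this.ne_zero
        have h3 := congrArg Matrix.det h
        have hpow : (-1 : F) ^ n = -1 := by rw [hnm, pow_succ, pow_mul]; simp
        rw [Matrix.det_transpose, Matrix.det_neg, Fintype.card_fin, hpow] at h3
        have h4 : (2 : F) * ((N : GL (Fin n) F) : Matrix (Fin n) (Fin n) F).det = 0 := by
          linear_combination h3
        rcases mul_eq_zero.mp h4 with h5 | h5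
        · exact h2 h5
        · exact hNdet h5
    have hM := hsym M hγ2
    have hM' := hsym M' hγ'2
    have hsqpow : ∀ x : F, IsSquare (x ^ (n + 1)) := by
      intro x
      refine ⟨x ^ (m + 1), ?_⟩
      rw [← pow_add]; congr 1; omega
    constructor
    · obtain ⟨e0⟩ := nonempty_centEquiv M
      set c : F := ((M : GL (Fin n) F) : Matrix (Fin n) (Fin n) F).det * (-1) ^ m with hc
      have hc0 : c ≠ 0 := mul_ne_zero hMdet (pow_ne_zero _ (by simp))
      have hcM : Matrix.transpose (c • ((M : GL (Fin n) F) : Matrix (Fin n) (Fin n) F))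
          = c • ((M : GL (Fin n) F) : Matrix (Fin n) (Fin n) F) := by
        rw [Matrix.transpose_smul, hM]
      have hsim : Cfsg.Geo.similarityGroup (bilOf ((M : GL (Fin n) F) : Matrix (Fin n) (Fin n) F))
          = Cfsg.Geo.similarityGroup (bilOf (c • ((M : GL (Fin n) F) : Matrix (Fin n) (Fin n) F))) := by
        ext g
        rw [mem_similarityGroup_bilOf, mem_similarityGroup_bilOf]
        constructor
        · rintro ⟨a, ha⟩
          exact ⟨a, by rw [Matrix.mul_smul, Matrix.smul_mul, ha, smul_comm]⟩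
        · rintro ⟨a, ha⟩
          refine ⟨a, ?_⟩
          rw [Matrix.mul_smul, Matrix.smul_mul, smul_comm (a : F) c] at ha
          exact smul_right_injective _ hc0 ha
      rw [hsim, similarityGroup_eq_quad h2 hcM] at e0
      obtain ⟨P, P', h1, h1', hQ⟩ := exists_iso h2 (Fintype.equivFinOfCardEq hcardκ) hcM
        (by rw [Matrix.det_smul]; exact mul_ne_zero (pow_ne_zero _ hc0) hMdet) (qfOdd m F)
        (by
          rw [coe_qfOdd, det_gram_quadFormOdd]
          exact mul_ne_zero h2 (pow_ne_zero _ (by simp)))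
        (by
          rw [coe_qfOdd, det_gram_quadFormOdd, Matrix.det_smul, Fintype.card_fin]
          have : (2 : F) ^ n * (c ^ n * ((M : GL (Fin n) F) : Matrix (Fin n) (Fin n) F).det) * (2 * (-1) ^ m)
              = (2 : F) ^ (n + 1) * c ^ (n + 1) := by
            rw [pow_succ, pow_succ, hc]; ring
          rw [this]
          exact (hsqpow 2).mul (hsqpow c))
      exact ⟨e0.trans (pgoCongr _ _ P P' h1 h1' (fun u => by rw [← coe_qfOdd]; exact hQ u))⟩
    · rw [isConjUnder_gam_iff]
      set c : F := ((M : GL (Fin n) F) : Matrix (Fin n) (Fin n) F).det *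
        ((M' : GL (Fin n) F) : Matrix (Fin n) (Fin n) F).det with hc
      have hc0 : c ≠ 0 := mul_ne_zero hMdet hMdet'
      obtain ⟨k, hk⟩ := exists_congr_sym h2 hM
        (show Matrix.transpose (c • ((M' : GL (Fin n) F) : Matrix (Fin n) (Fin n) F))
          = c • ((M' : GL (Fin n) F) : Matrix (Fin n) (Fin n) F) by rw [Matrix.transpose_smul, hM'])
        hMdet (by rw [Matrix.det_smul]; exact mul_ne_zero (pow_ne_zero _ hc0) hMdet')
        (by
          rw [Matrix.det_smul, Fintype.card_fin]
          have : ((M : GL (Fin n) F) : Matrix (Fin n) (Fin n) F).det *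
              (c ^ n * ((M' : GL (Fin n) F) : Matrix (Fin n) (Fin n) F).det) = c ^ (n + 1) := by
            rw [pow_succ, hc]; ring
          rw [this]; exact hsqpow c)
      exact ⟨k, Units.mk0 c hc0, hk⟩

end Cfsg.Agent.S2699
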