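import Cfsg.Statements.S2700
import Cfsg.Agent.Lib.Helper14_PSLGraphOdd

open Cfsg.Agent.Lib.Helper14_PSLAut Cfsg.Agent.Lib.Helper14_PSLCent Cfsg.Agent.Lib.Helper14_PGOTransport Cfsg.Agent.Lib.Helper14_SymForms Cfsg.Agent.Lib.Helper44_StdForms Cfsg.Agent.Lib.Helper14_Congruence Cfsg.Agent.Lib.Helper14_PSLGraph Cfsg.Agent.Lib.Helper14_PSLGraphOdd

set_option autoImplicit false
open Cfsg

namespace Cfsg.Agent.S2700

/-- Let T = PSL_n(F) over a finite field of odd order with n = 2m ≥ 4 even, and G = Inndiag(T) the image of PGL_n(F). The involutory graph automorphisms of T fall into exactly three G-classes, with representatives γ₁, γ₂, γ₃ whose centralizers in G are isomorphic respectively to the projective conformal symplectic group PGSp_n(F), the projective conformal orthogonal group of the plus-type form Σ xᵢ yᵢ, and that of a minus-type form Σ xᵢ yᵢ + z₁² + a z₁ z₂ + b z₂² (anisotropic binary part)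 in dimension n. -/
theorem result {F : Type*} [Field F] [Fintype F] (hodd : Odd (Fintype.card F)) {n m : ℕ} (hm : 2 ≤ m) (hnm : n = 2 * m) :
    ∃ (γ₁ γ₂ γ₃ : MulAut (Matrix.ProjectiveSpecialLinearGroup (Fin n) F)) (a b : F), (∀ z₁ z₂ : F, z₁ ^ 2 + a * z₁ * z₂ + b * z₂ ^ 2 = 0 → z₁ = 0 ∧ z₂ = 0) ∧ Cfsg.IsGraphAutClassPSL γ₁ ∧ orderOf γ₁ = 2 ∧ Cfsg.IsGraphAutClassPSL γ₂ ∧ orderOf γ₂ = 2 ∧ Cfsg.IsGraphAutClassPSL γ₃ ∧ orderOf γ₃ = 2 ∧ ¬ Cfsg.IsConjUnder (Cfsg.inndiagPSL n F) γ₁ γ₂ ∧ ¬ Cfsg.IsConjUnder (Cfsg.inndiagPSL n F) γ₁ γ₃ ∧ ¬ Cfsg.IsConjUnder (Cfsg.inndiagPSL n F) γ₂ γ₃ ∧ (∀ γ : MulAut (Matrix.ProjectiveSpecialLinearGroup (Fin n) F), Cfsg.IsGraphAutClassPSL γ → orderOf γ = 2 → Cfsg.IsConjUnder (Cfsg.inndiagPSL n F) γ₁ γ ∨ Cfsg.IsConjUnder (Cfsg.inndiagPSL n F) γ₂ γ ∨ Cfsg.IsConjUnder (Cfsg.inndiagPSL n F) γ₃ γ) ∧ Nonempty (↥(Cfsg.inndiagPSL n F ⊓ Subgroup.centralizer {γ₁}) ≃* Cfsg.PGSp m F)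 ∧ Nonempty (↥(Cfsg.inndiagPSL n F ⊓ Subgroup.centralizer {γ₂}) ≃* Cfsg.PGO F (Cfsg.quadFormPlus m F)) ∧ Nonempty (↥(Cfsg.inndiagPSL n F ⊓ Subgroup.centralizer {γ₃}) ≃* Cfsg.PGO F (Cfsg.quadFormMinus (m - 1) F a b)) := by
  classical
  have h2 : (2 : F) ≠ 0 := Cfsg.Agent.Lib.Helper44_FinSq.two_ne_zero_of_odd_card hodd
  have hn3 : 3 ≤ n := by omega
  have hn0 : 0 < n := by omega
  obtain ⟨ε, hε⟩ := FiniteField.exists_nonsquare
    (Cfsg.Agent.Lib.Helper44_FinSq.ringChar_ne_two_of_two_ne_zero h2)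
  have hε0 : ε ≠ 0 := by
    rintro rfl; exact hε ⟨0, by simp⟩
  set s : F := (-1) ^ m with hs
  have hss : s * s = 1 := by
    rw [hs, ← pow_add, ← two_mul, pow_mul]; simp
  have hs0 : s ≠ 0 := by
    intro h; rw [h, zero_mul] at hss; exact zero_ne_one hss
  have hpow : ((2 : F) ^ n) = (2 ^ m) * (2 ^ m) := by rw [hnm, two_mul, pow_add]
  have ecard : Fintype.card (Fin m ⊕ Fin m) = n := by
    rw [Fintype.card_sum, Fintype.card_fin, hnm]; ring
  have ecard' : Fintype.card ((Fin (m - 1) ⊕ Fin (m - 1)) ⊕ Fin 2) = n := by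
    rw [Fintype.card_sum, Fintype.card_sum, Fintype.card_fin, Fintype.card_fin, hnm]; omega
  set e : Fin n ≃ Fin m ⊕ Fin m := (Fintype.equivFinOfCardEq ecard).symm with he
  -- representatives
  set M₁ : GL (Fin n) F := jGL e with hM₁
  set M₂ : GL (Fin n) F := dGL hn0 s hs0 with hM₂
  set M₃ : GL (Fin n) F := dGL hn0 (s * ε) (mul_ne_zero hs0 hε0) with hM₃
  have hM₁c : ((M₁ : GL (Fin n) F) : Matrix (Fin n) (Fin n) F) = jmat e := rfl
  have hM₂c : ((M₂ : GL (Fin n) F) : Matrix (Fin n) (Fin n) F) = dmat hn0 s := rfl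
  have hM₃c : ((M₃ : GL (Fin n) F) : Matrix (Fin n) (Fin n) F) = dmat hn0 (s * ε) := rfl
  have halt₁ : ∀ v, bilOf (jmat (F := F) e) v v = 0 := alt_of_skew h2 (jmat_transpose e)
  have hd₂ : (dmat hn0 s).det ≠ 0 := by rw [det_dmat]; exact hs0
  have hd₃ : (dmat hn0 (s * ε)).det ≠ 0 := by rw [det_dmat]; exact mul_ne_zero hs0 hε0
  haveI : Nonempty (Fin n) := ⟨⟨0, hn0⟩⟩
  have hne₂ : dmat hn0 s ≠ 0 := by
    intro h; rw [h, Matrix.det_zero] at hd₂; exact hd₂ rfl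
  have hne₃ : dmat hn0 (s * ε) ≠ 0 := by
    intro h; rw [h, Matrix.det_zero] at hd₃; exact hd₃ rfl
  have hab : ∀ z₁ z₂ : F, z₁ ^ 2 + (0 : F) * z₁ * z₂ + (-ε) * z₂ ^ 2 = 0 → z₁ = 0 ∧ z₂ = 0 := by
    intro z₁ z₂ h
    by_cases hz : z₂ = 0
    · subst hz
      refine ⟨?_, rfl⟩
      have : z₁ ^ 2 = 0 := by linear_combination h
      exact pow_eq_zero_iff (two_ne_zero) |>.mp this
    · exfalso
      apply hε
      refine ⟨z₁ / z₂, ?_⟩
      field_simp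
      linear_combination (-1 : F) * h
  have hm1 : (-1 : F) ^ (m - 1) * (-1) = s := by
    rw [hs, ← pow_succ]; congr 1; omega
  refine ⟨gam M₁, gam M₂, gam M₃, 0, -ε, hab, (isGraph_iff_gam hn3 _).mpr ⟨_, rfl⟩, ?_,
    (isGraph_iff_gam hn3 _).mpr ⟨_, rfl⟩, ?_, (isGraph_iff_gam hn3 _).mpr ⟨_, rfl⟩, ?_, ?_, ?_, ?_, ?_,
    ?_, ?_, ?_⟩
  · rw [orderOf_gam_iff hn3, hM₁c]; right; exact jmat_transpose e
  · rw [orderOf_gam_iff hn3, hM₂c]; left; exact dmat_transpose hn0 s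
  · rw [orderOf_gam_iff hn3, hM₃c]; left; exact dmat_transpose hn0 _
  · rw [isConjUnder_gam_iff, hM₁c, hM₂c]
    rintro ⟨k, c, hk⟩
    exact not_congr_alt_sym h2 halt₁ (dmat_transpose hn0 s) hne₂ _ c.ne_zero hk
  · rw [isConjUnder_gam_iff, hM₁c, hM₃c]
    rintro ⟨k, c, hk⟩
    exact not_congr_alt_sym h2 halt₁ (dmat_transpose hn0 _) hne₃ _ c.ne_zero hk
  · rw [isConjUnder_gam_iff, hM₂c, hM₃c]
    rintro ⟨k, c, hk⟩
    have := isSquare_of_congr hnm k c hk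
    rw [det_dmat, det_dmat] at this
    apply hε
    obtain ⟨r, hr⟩ := this
    exact ⟨r, by linear_combination hr - ε * hss⟩
  · intro γ hγ hγ2
    obtain ⟨M, rfl⟩ := (isGraph_iff_gam hn3 γ).mp hγ
    have hMdet : ((M : GL (Fin n) F) : Matrix (Fin n) (Fin n) F).det ≠ 0 := by
      have : IsUnit ((M : GL (Fin n) F) : Matrix (Fin n) (Fin n) F).det :=
        (Matrix.isUnit_iff_isUnit_det _).mp M.isUnit
      exact this.ne_zero
    rcases (orderOf_gam_iff hn3 M).mp hγ2 with hsym | hskew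
    · by_cases hD : IsSquare (s * ((M : GL (Fin n) F) : Matrix (Fin n) (Fin n) F).det)
      · right; left
        rw [isConjUnder_gam_iff, hM₂c]
        obtain ⟨k, hk⟩ := exists_congr_sym h2 (dmat_transpose hn0 s) hsym hd₂ hMdet
          (by rw [det_dmat]; exact hD)
        exact ⟨k, 1, by rw [hk, Units.val_one, one_smul]⟩
      · right; right
        rw [isConjUnder_gam_iff, hM₃c]
        obtain ⟨k, hk⟩ := exists_congr_sym h2 (dmat_transpose hn0 (s * ε)) hsym hd₃ hMdet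
          (by
            rw [det_dmat]
            have := Cfsg.Agent.Lib.Helper44_FinSq.isSquare_mul_of_nonsq_of_nonsq hε hD
            rw [show s * ε * ((M : GL (Fin n) F) : Matrix (Fin n) (Fin n) F).det
              = ε * (s * ((M : GL (Fin n) F) : Matrix (Fin n) (Fin n) F).det) by ring]
            exact this)
        exact ⟨k, 1, by rw [hk, Units.val_one, one_smul]⟩
    · left
      rw [isConjUnder_gam_iff, hM₁c]
      obtain ⟨k, hk⟩ := exists_congr_alt hnm halt₁ (alt_of_skew h2 hskew) (det_jmat_ne_zero e) hMdet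
      exact ⟨k, 1, by rw [hk, Units.val_one, one_smul]⟩
  · obtain ⟨e0⟩ := nonempty_centEquiv M₁
    rw [hM₁c] at e0
    obtain ⟨P, P', h1, h1', hP⟩ := exists_std_alt hnm halt₁ (det_jmat_ne_zero e)
    exact ⟨e0.trans (pgsCongr _ _ P P' h1 h1' hP)⟩
  · obtain ⟨e0⟩ := nonempty_centEquiv M₂
    rw [hM₂c, similarityGroup_eq_quad h2 (dmat_transpose hn0 s)] at e0
    obtain ⟨P, P', h1, h1', hQ⟩ := exists_iso h2 (Fintype.equivFinOfCardEq ecard) (dmat_transpose hn0 s)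
      hd₂ (qfPlus m F)
      (by rw [coe_qfPlus, det_gram_quadFormPlus]; exact pow_ne_zero _ (by simp))
      (by
        rw [coe_qfPlus, det_gram_quadFormPlus, det_dmat, hpow, ← hs, mul_assoc, hss, mul_one]
        exact IsSquare.mul_self _)
    exact ⟨e0.trans (pgoCongr _ _ P P' h1 h1' (fun u => by rw [← coe_qfPlus]; exact hQ u))⟩
  · obtain ⟨e0⟩ := nonempty_centEquiv M₃
    rw [hM₃c, similarityGroup_eq_quad h2 (dmat_transpose hn0 _)] at e0
    have hgd : (-1 : F) ^ (m - 1) * (4 * (-ε) - 0 ^ 2) = 4 * (s * ε) := by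
      rw [← hm1]; ring
    obtain ⟨P, P', h1, h1', hQ⟩ := exists_iso h2 (Fintype.equivFinOfCardEq ecard')
      (dmat_transpose hn0 (s * ε)) hd₃ (qfMinus (m - 1) F 0 (-ε))
      (by
        rw [coe_qfMinus, det_gram_quadFormMinus, hgd]
        have h4 : (4 : F) ≠ 0 := by
          have : (4 : F) = 2 * 2 := by norm_num
          rw [this]; exact mul_ne_zero h2 h2
        exact mul_ne_zero h4 (mul_ne_zero hs0 hε0))
      (by
        rw [coe_qfMinus, det_gram_quadFormMinus, det_dmat, hpow, hgd]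
        refine ⟨2 ^ m * 2 * (s * ε), ?_⟩
        ring)
    exact ⟨e0.trans (pgoCongr _ _ P P' h1 h1' (fun u => by rw [← coe_qfMinus]; exact hQ u))⟩

end Cfsg.Agent.S2700
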