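import Cfsg.Statements.S2701
import Cfsg.Agent.Lib.Helper14_Char2Even

open Cfsg.Agent.Lib.Helper14_PSLAut Cfsg.Agent.Lib.Helper14_PSLCent Cfsg.Agent.Lib.Helper14_PGOTransport Cfsg.Agent.Lib.Helper14_Congruence Cfsg.Agent.Lib.Helper14_PSLGraph Cfsg.Agent.Lib.Helper14_PSLGraphOdd Cfsg.Agent.Lib.Helper14_SymChar2 Cfsg.Agent.Lib.Helper14_Char2Groups Cfsg.Agent.Lib.Helper14_SymChar2Even Cfsg.Agent.Lib.Helper14_Char2Even Cfsg.Agent.Lib.Helper13_SympTrans

set_option autoImplicit false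
open Cfsg

namespace Cfsg.Agent.S2701

/-- Let T = PSL_n(F) over a finite field of characteristic 2 with n = 2m ≥ 4 even, and G = Inndiag(T) the image of PGL_n(F). The involutory graph automorphisms of T fall into exactly two G-classes, with representatives γ₁ and γ₃ whose centralizers in G are isomorphic respectively to the symplectic group Sp_n(F) and to the centralizer in Sp_n(F) of a symplectic transvection. -/
theorem result {F : Type*} [Field F] [Fintype F] [CharP F 2] {n m : ℕ} (hm : 2 ≤ m) (hnm : n = 2 * m) :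
    ∃ (γ₁ γ₃ : MulAut (Matrix.ProjectiveSpecialLinearGroup (Fin n) F)) (t : ↥(Matrix.symplecticGroup (Fin m) F)), Cfsg.IsTransvection (t : Matrix (Fin m ⊕ Fin m) (Fin m ⊕ Fin m) F) ∧ Cfsg.IsGraphAutClassPSL γ₁ ∧ orderOf γ₁ = 2 ∧ Cfsg.IsGraphAutClassPSL γ₃ ∧ orderOf γ₃ = 2 ∧ ¬ Cfsg.IsConjUnder (Cfsg.inndiagPSL n F) γ₁ γ₃ ∧ (∀ γ : MulAut (Matrix.ProjectiveSpecialLinearGroup (Fin n) F), Cfsg.IsGraphAutClassPSL γ → orderOf γ = 2 → Cfsg.IsConjUnder (Cfsg.inndiagPSL n F) γ₁ γ ∨ Cfsg.IsConjUnder (Cfsg.inndiagPSL n F) γ₃ γ) ∧ Nonempty (↥(Cfsg.inndiagPSL n F ⊓ Subgroup.centralizer {γ₁}) ≃* ↥(Matrix.symplecticGroup (Fin m) F)) ∧ Nonempty (↥(Cfsg.inndiagPSL n F ⊓ Subgroup.centralizer {γ₃}) ≃* ↥(Subgroup.centralizer ({t} : Set ↥(Matrix.symplecticGroup (Fin m) F)))) := by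
  classical
  have hn3 : 3 ≤ n := by omega
  have hn0 : 0 < n := by omega
  have hm1 : 1 ≤ m := by omega
  have ecard : Fintype.card (Fin m ⊕ Fin m) = n := by
    rw [Fintype.card_sum, Fintype.card_fin, hnm]; ring
  set e : Fin n ≃ Fin m ⊕ Fin m := (Fintype.equivFinOfCardEq ecard).symm with he
  set a₀ : Fin m ⊕ Fin m → F := Pi.single (Sum.inl ⟨0, hm1⟩) 1 with ha₀
  have ha₀ne : a₀ ≠ 0 := by
    intro h
    have := congrFun h (Sum.inl ⟨0, hm1⟩)
    simp [ha₀] at this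
  set M₁ : GL (Fin n) F := jGL e with hM₁
  have hM₁c : ((M₁ : GL (Fin n) F) : Matrix (Fin n) (Fin n) F) = jmat e := rfl
  have hone : (((1 : GL (Fin n) F)) : Matrix (Fin n) (Fin n) F) = 1 := Units.val_one
  have halt₁ : ∀ v, bilOf (jmat (F := F) e) v v = 0 := jmat_alt e
  have hsymall : ∀ N : GL (Fin n) F, orderOf (gam N) = 2 →
      Matrix.transpose ((N : GL (Fin n) F) : Matrix (Fin n) (Fin n) F) = (N : Matrix (Fin n) (Fin n) F) := by
    intro N hN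
    rcases (orderOf_gam_iff hn3 N).mp hN with h | h
    · exact h
    · rw [h]; ext i j; rw [Matrix.neg_apply, CharTwo.neg_eq]
  have hd1 : (1 : Matrix (Fin n) (Fin n) F).det ≠ 0 := by rw [Matrix.det_one]; exact one_ne_zero
  have hdv : ∀ M : Matrix (Fin n) (Fin n) F, Matrix.transpose M = M → (∃ v, bilOf M v v ≠ 0) →
      dvec M ≠ 0 := by
    rintro M hM ⟨v, hv⟩ h0
    apply hv
    rw [bilOf_self hM, h0, zero_dotProduct, pow_two, mul_zero]
  have hb1 : bilOf (1 : Matrix (Fin n) (Fin n) F) (Pi.single ⟨0, hn0⟩ 1) (Pi.single ⟨0, hn0⟩ 1) = 1 := by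
    unfold bilOf
    rw [Matrix.one_mulVec]
    simp
  have hdv1 : dvec (1 : Matrix (Fin n) (Fin n) F) ≠ 0 := by
    apply hdv _ Matrix.transpose_one
    exact ⟨Pi.single ⟨0, hn0⟩ 1, by rw [hb1]; exact one_ne_zero⟩
  refine ⟨gam M₁, gam 1, transv m a₀ 1, isTransvection_transv ha₀ne,
    (isGraph_iff_gam hn3 _).mpr ⟨_, rfl⟩, ?_, (isGraph_iff_gam hn3 _).mpr ⟨_, rfl⟩, ?_, ?_, ?_, ?_, ?_⟩
  · rw [orderOf_gam_iff hn3, hM₁c]; right; exact jmat_transpose e
  · rw [orderOf_gam_iff hn3, hone]; left; exact Matrix.transpose_one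
  · rw [isConjUnder_gam_iff, hM₁c, hone]
    rintro ⟨k, c, hk⟩
    have h1 : bilOf (Matrix.transpose (k : Matrix (Fin n) (Fin n) F) * jmat e * (k : Matrix (Fin n) (Fin n) F))
        (Pi.single ⟨0, hn0⟩ 1) (Pi.single ⟨0, hn0⟩ 1) = 0 := by
      rw [← bilOf_mulVec]; exact halt₁ _
    rw [hk, bilOf_smul, hb1, mul_one] at h1
    exact c.ne_zero h1
  · intro γ hγ hγ2
    obtain ⟨M, rfl⟩ := (isGraph_iff_gam hn3 γ).mp hγ
    have hMdet : ((M : GL (Fin n) F) : Matrix (Fin n) (Fin n) F).det ≠ 0 := by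
      have : IsUnit ((M : GL (Fin n) F) : Matrix (Fin n) (Fin n) F).det :=
        (Matrix.isUnit_iff_isUnit_det _).mp M.isUnit
      exact this.ne_zero
    have hM := hsymall M hγ2
    by_cases halt : ∀ v, bilOf ((M : GL (Fin n) F) : Matrix (Fin n) (Fin n) F) v v = 0
    · left
      rw [isConjUnder_gam_iff, hM₁c]
      obtain ⟨k, hk⟩ := exists_congr_alt hnm halt₁ halt (det_jmat_ne_zero e) hMdet
      exact ⟨k, 1, by rw [hk, Units.val_one, one_smul]⟩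
    · right
      push Not at halt
      rw [isConjUnder_gam_iff, hone]
      obtain ⟨k, hk⟩ := exists_congr_even hnm hm1 Matrix.transpose_one hM hd1 hMdet hdv1 (hdv _ hM halt)
      exact ⟨k, 1, by rw [hk, Units.val_one, one_smul]⟩
  · obtain ⟨e0⟩ := nonempty_centEquiv M₁
    rw [hM₁c] at e0
    obtain ⟨P, P', h1, h1', hP⟩ := exists_std_alt hnm halt₁ (det_jmat_ne_zero e)
    obtain ⟨e1⟩ := nonempty_isoBil_equiv (J_ne_zero (F := F) hm1)
    obtain ⟨e2⟩ := nonempty_sp_equiv_isoBil_J (F := F) (m := m)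
    exact ⟨((e0.trans (pgsCongr _ _ P P' h1 h1' hP)).trans e1.symm).trans e2.symm⟩
  · obtain ⟨e0⟩ := nonempty_centEquiv (1 : GL (Fin n) F)
    rw [hone] at e0
    obtain ⟨P, P', h1, h1', hP⟩ := exists_std_even hnm Matrix.transpose_one hd1 hdv1 a₀ ha₀ne
    have hf3 : f3 a₀ = bilOf (m3 a₀) := by funext x y; rw [bilOf_m3]
    obtain ⟨e1⟩ := nonempty_isoBil_equiv (m3_ne_zero ha₀ne)
    obtain ⟨e2⟩ := nonempty_cent_equiv_isoBil ha₀ne
    have e3 := pgsCongr _ _ P P' h1 h1' hP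
    rw [hf3] at e3
    exact ⟨((e0.trans e3).trans e1.symm).trans e2.symm⟩

end Cfsg.Agent.S2701
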