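import Cfsg.Statements.S2702
import Cfsg.Agent.Lib.Helper14_PSLSplitGraph

open Cfsg.Agent.Lib.Helper14_PSLAut Cfsg.Agent.Lib.Helper14_PSLCent Cfsg.Agent.Lib.Helper14_PGOTransport Cfsg.Agent.Lib.Helper14_Congruence Cfsg.Agent.Lib.Helper14_PSLGraph Cfsg.Agent.Lib.Helper14_PSLGraphOdd Cfsg.Agent.Lib.Helper14_SymChar2 Cfsg.Agent.Lib.Helper14_SimDet Cfsg.Agent.Lib.Helper14_PSLSplitGraph

set_option autoImplicit false
open Cfsg

namespace Cfsg.Agent.S2702

/-- Let T = PSL_n(F) over the field with q = p^f elements, n ≥ 3, G = Inndiag(T) the image of PGL_n(F), and γ an involutory graph automorphism of T. The G-class of γ is the union of exactly c T-classes, where: if n is even and q is odd, c = gcd(n/2, q − 1) when C_G(γ) is isomorphic to the projective conformal symplectic group PGSp_n(F) (symplectic type) and c = gcd(n, q − 1)/2 otherwise; and c = gcd(n, q − 1) when n is odd or q is even. -/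
theorem result {F : Type*} [Field F] [Fintype F] {p f : ℕ} [Fact p.Prime] (hF : Fintype.card F = p ^ f) (hf : 1 ≤ f) {n : ℕ} (hn : 3 ≤ n) (γ : MulAut (Matrix.ProjectiveSpecialLinearGroup (Fin n) F)) (hγ : Cfsg.IsGraphAutClassPSL γ) (hγ2 : orderOf γ = 2) :
    ((Even n ∧ Odd p ∧ Nonempty (↥(Cfsg.inndiagPSL n F ⊓ Subgroup.centralizer {γ}) ≃* Cfsg.PGSp (n / 2) F)) → Cfsg.splitClassCount (Cfsg.inndiagPSL n F) (Cfsg.Inn (Matrix.ProjectiveSpecialLinearGroup (Fin n) F)) γ = Nat.gcd (n / 2) (p ^ f - 1)) ∧ ((Even n ∧ Odd p ∧ ¬ Nonempty (↥(Cfsg.inndiagPSL n F ⊓ Subgroup.centralizer {γ}) ≃* Cfsg.PGSp (n / 2) F)) → Cfsg.splitClassCount (Cfsg.inndiagPSL n F) (Cfsg.Inn (Matrix.ProjectiveSpecialLinearGroup (Fin n) F)) γ = Nat.gcd n (p ^ f - 1) / 2) ∧ (¬ (Even n ∧ Odd p) → Cfsg.splitClassCount (Cfsg.inndiagPSL n F) (Cfsg.Inn (Matrix.ProjectiveSpecialLinearGroup (Fin n) F)) γ = Nat.gcd n (p ^ f - 1)) := by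
  classical
  have hn0 : 0 < n := by omega
  obtain ⟨M, rfl⟩ := (isGraph_iff_gam hn γ).mp hγ
  have hMdet := det_ne_zero_of_GL M
  have hord := (orderOf_gam_iff hn M).mp hγ2
  have hcard : Fintype.card F - 1 = p ^ f - 1 := by rw [hF]
  refine ⟨?_, ?_, ?_⟩
  · rintro ⟨hev, hp, hiso⟩
    obtain ⟨m, hm⟩ := hev
    have hnm : n = 2 * m := by omega
    have hm2 : 2 ≤ m := by omega
    have hnd : n / 2 = m := by omega
    have hoddF : Odd (Fintype.card F) := by rw [hF]; exact hp.pow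
    have h2 : (2 : F) ≠ 0 := Cfsg.Agent.Lib.Helper44_FinSq.two_ne_zero_of_odd_card hoddF
    rw [hnd] at hiso ⊢
    rcases hord with hsym | hskew
    · exact absurd hiso (not_nonempty_cent_pgsp_of_sym hnm hm2 h2 hoddF M hsym)
    · rw [count_alt hnm hn0 M (alt_of_skew h2 hskew), hcard]
  · rintro ⟨hev, hp, hiso⟩
    obtain ⟨m, hm⟩ := hev
    have hnm : n = 2 * m := by omega
    have hnd : n / 2 = m := by omega
    have hoddF : Odd (Fintype.card F) := by rw [hF]; exact hp.pow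
    have h2 : (2 : F) ≠ 0 := Cfsg.Agent.Lib.Helper44_FinSq.two_ne_zero_of_odd_card hoddF
    rw [hnd] at hiso
    rcases hord with hsym | hskew
    · rw [count_sym hnm hn0 h2 hoddF M hsym, hcard]
    · exact absurd (nonempty_cent_pgsp hnm M (alt_of_skew h2 hskew)) hiso
  · intro hne
    rw [← hcard]
    apply count_of_pow hn0 M
    intro g hg
    obtain ⟨c, hc⟩ := (mem_similarityGroup_bilOf _ _).mp hg
    by_cases hev : Even n
    · have hp2 : ¬ Odd p := fun h => hne ⟨hev, h⟩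
      have hp : p = 2 := ((Fact.out : p.Prime).eq_two_or_odd').resolve_right hp2
      subst hp
      haveI : CharP F 2 := charP_of_card_eq_prime_pow hF
      obtain ⟨r, hr⟩ := exists_sqrt (c : F)
      have hr0 : r ≠ 0 := by
        rintro rfl
        rw [mul_zero] at hr
        exact c.ne_zero hr.symm
      rw [← hr] at hc
      refine ⟨Units.mk0 r hr0, ?_⟩
      rcases det_of_sim_sq hMdet hc with h | h
      · exact h.symm
      · rw [h, CharTwo.neg_eq]; rfl
    · obtain ⟨k, hk⟩ := Nat.not_even_iff_odd.mp hev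
      obtain ⟨r, hr⟩ := exists_sqrt_of_sim_odd hk hMdet c.ne_zero hc
      have hr0 : r ≠ 0 := by
        rintro rfl
        rw [mul_zero] at hr
        exact c.ne_zero hr.symm
      rw [← hr] at hc
      rcases det_of_sim_sq hMdet hc with h | h
      · exact ⟨Units.mk0 r hr0, h.symm⟩
      · refine ⟨Units.mk0 (-r) (neg_ne_zero.mpr hr0), ?_⟩
        rw [h]
        exact Odd.neg_pow ⟨k, hk⟩ r

end Cfsg.Agent.S2702
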