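import Cfsg.Statements.S2703
import Cfsg.Agent.Lib.Helper14_SymForms
import Cfsg.Agent.Lib.Helper44_FinSq

open Cfsg.Agent.Lib.Helper14_PSLAut Cfsg.Agent.Lib.Helper14_PSLCent Cfsg.Agent.Lib.Helper14_PGOTransport Cfsg.Agent.Lib.Helper14_SymForms Cfsg.Agent.Lib.Helper44_StdForms

set_option autoImplicit false
open Cfsg

namespace Cfsg.Agent.S2703

/-- Let T = PSL_n(F) over the field with q elements, q odd, n = 2m ≥ 4 even, and ι the inverse-transpose automorphism. Its centralizer in G = Inndiag(T) (the image of PGL_n(F)) is isomorphic to the projective conformal orthogonal group of the plus-type form Σ xᵢ yᵢ in dimension n when n(q − 1)/4 is even, and to that of a minus-type form (Σ xᵢ yᵢ + z₁² + a z₁ z₂ + b z₂² with anisotropic binary part) when n(q − 1)/4 is odd. -/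
theorem result {F : Type*} [Field F] [Fintype F] (hodd : Odd (Fintype.card F)) {n m : ℕ} (hm : 2 ≤ m) (hnm : n = 2 * m) (ι : MulAut (Matrix.ProjectiveSpecialLinearGroup (Fin n) F)) (hι : Cfsg.IsInverseTransposeAutPSL ι) :
    (Even (n * (Fintype.card F - 1) / 4) → Nonempty (↥(Cfsg.inndiagPSL n F ⊓ Subgroup.centralizer {ι}) ≃* Cfsg.PGO F (Cfsg.quadFormPlus m F))) ∧ (¬ Even (n * (Fintype.card F - 1) / 4) → ∃ a b : F, (∀ z₁ z₂ : F, z₁ ^ 2 + a * z₁ * z₂ + b * z₂ ^ 2 = 0 → z₁ = 0 ∧ z₂ = 0) ∧ Nonempty (↥(Cfsg.inndiagPSL n F ⊓ Subgroup.centralizer {ι}) ≃* Cfsg.PGO F (Cfsg.quadFormMinus (m - 1) F a b))) := by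
  classical
  have h2 : (2 : F) ≠ 0 := Cfsg.Agent.Lib.Helper44_FinSq.two_ne_zero_of_odd_card hodd
  have hι' : ι = itAut := (isInverseTranspose_iff ι).mp hι
  subst hι'
  have hone : Matrix.transpose (1 : Matrix (Fin n) (Fin n) F) = 1 := Matrix.transpose_one
  have base : Nonempty (↥(Cfsg.inndiagPSL n F ⊓ Subgroup.centralizer {itAut}) ≃*
      Cfsg.PGO F (fun v : Fin n → F => bilOf (1 : Matrix (Fin n) (Fin n) F) v v)) := by
    have e := centEquiv (1 : GL (Fin n) F)
    rw [map_one, one_mul, inv_one, Units.val_one, similarityGroup_eq_quad h2 hone] at e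
    exact ⟨e⟩
  obtain ⟨e0⟩ := base
  obtain ⟨k, hk⟩ := hodd
  have hquot : n * (Fintype.card F - 1) / 4 = m * k := by
    rw [hnm, hk, Nat.add_sub_cancel]
    have : 2 * m * (2 * k) = 4 * (m * k) := by ring
    rw [this, Nat.mul_div_cancel_left _ (by norm_num : 0 < 4)]
  have hpow : ((2 : F) ^ n) = (2 ^ m) * (2 ^ m) := by rw [hnm, two_mul, pow_add]
  constructor
  · intro hev
    rw [hquot] at hev
    have hsq : IsSquare ((-1 : F) ^ m) := by
      rcases Nat.even_mul.mp hev with hm' | hk'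
      · rw [hm'.neg_one_pow]; exact IsSquare.one
      · have : IsSquare (-1 : F) := by
          rw [FiniteField.isSquare_neg_one_iff, hk]
          obtain ⟨t, rfl⟩ := hk'
          omega
        exact this.pow m
    have ecard : Fintype.card (Fin m ⊕ Fin m) = n := by
      rw [Fintype.card_sum, Fintype.card_fin, hnm]; ring
    obtain ⟨P, P', h1, h1', hQ⟩ := exists_iso h2 (Fintype.equivFinOfCardEq ecard) hone
      (by rw [Matrix.det_one]; exact one_ne_zero) (qfPlus m F)
      (by rw [coe_qfPlus, det_gram_quadFormPlus]; exact pow_ne_zero _ (by simp))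
      (by
        rw [coe_qfPlus, det_gram_quadFormPlus, Matrix.det_one, mul_one, hpow]
        exact (IsSquare.mul_self _).mul hsq)
    exact ⟨e0.trans (pgoCongr _ _ P P' h1 h1' (fun u => by rw [← coe_qfPlus]; exact hQ u))⟩
  · intro hnev
    rw [hquot, Nat.not_even_iff_odd, Nat.odd_mul] at hnev
    obtain ⟨hmo, hko⟩ := hnev
    have hD : (-1 : F) ^ m = -1 := hmo.neg_one_pow
    have hns : ¬ IsSquare (-1 : F) := by
      rw [FiniteField.isSquare_neg_one_iff, hk]
      obtain ⟨t, rfl⟩ := hko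
      omega
    have h4 : (4 : F) ≠ 0 := by
      have : (4 : F) = 2 * 2 := by norm_num
      rw [this]; exact mul_ne_zero h2 h2
    have hab : ∀ z₁ z₂ : F, z₁ ^ 2 + (0 : F) * z₁ * z₂ + (1 : F) * z₂ ^ 2 = 0 → z₁ = 0 ∧ z₂ = 0 := by
      intro z₁ z₂ h
      by_cases hz : z₂ = 0
      · subst hz
        refine ⟨?_, rfl⟩
        have : z₁ ^ 2 = 0 := by linear_combination h
        exact pow_eq_zero_iff (two_ne_zero) |>.mp this
      · exfalso
        apply hns
        refine ⟨z₁ / z₂, ?_⟩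
        field_simp
        linear_combination (-1 : F) * h
    refine ⟨0, 1, hab, ?_⟩
    have ecard : Fintype.card ((Fin (m - 1) ⊕ Fin (m - 1)) ⊕ Fin 2) = n := by
      rw [Fintype.card_sum, Fintype.card_sum, Fintype.card_fin, Fintype.card_fin, hnm]; omega
    have hm1 : (-1 : F) ^ (m - 1) = 1 := by
      obtain ⟨t, ht⟩ := hmo
      have : m - 1 = 2 * t := by omega
      rw [this, pow_mul]; simp
    obtain ⟨P, P', h1, h1', hQ⟩ := exists_iso h2 (Fintype.equivFinOfCardEq ecard) hone
      (by rw [Matrix.det_one]; exact one_ne_zero) (qfMinus (m - 1) F 0 1)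
      (by
        rw [coe_qfMinus, det_gram_quadFormMinus, hm1]
        have : (1 : F) * (4 * 1 - 0 ^ 2) = 4 := by ring
        rw [this]; exact h4)
      (by
        rw [coe_qfMinus, det_gram_quadFormMinus, Matrix.det_one, mul_one, hpow, hm1]
        have : (1 : F) * (4 * 1 - 0 ^ 2) = 2 * 2 := by ring
        rw [this]
        exact (IsSquare.mul_self _).mul (IsSquare.mul_self _))
    exact ⟨e0.trans (pgoCongr _ _ P P' h1 h1' (fun u => by rw [← coe_qfMinus]; exact hQ u))⟩

end Cfsg.Agent.S2703
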