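import Cfsg.Statements.S2706
import Cfsg.Agent.Lib.Helper14_PSUGraphMain
import Cfsg.Agent.Lib.Helper14_Char2Groups
import Cfsg.Agent.S0304

open Cfsg.Agent.Lib.Helper14_PSLAut Cfsg.Agent.Lib.Helper14_PSLCent Cfsg.Agent.Lib.Helper14_PGOTransport Cfsg.Agent.Lib.Helper14_SymForms Cfsg.Agent.Lib.Helper44_StdForms Cfsg.Agent.Lib.Helper14_Congruence Cfsg.Agent.Lib.Helper14_PSLGraphOdd Cfsg.Agent.Lib.Helper14_SymChar2 Cfsg.Agent.Lib.Helper14_Char2Groups Cfsg.Agent.Lib.Helper14_PSUAut Cfsg.Agent.Lib.Helper14_PSUBridge Cfsg.Agent.Lib.Helper14_PSUGraphMain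

set_option autoImplicit false
open Cfsg

namespace Cfsg.Agent.S2706

/-- Let T = PSU_n(q) be simple with n = 2m + 1 ≥ 3 odd, realised over the field F with q² elements, and G = Inndiag(T) the image of PGU_n(q). Every involutory graph automorphism γ of T (an inner-diagonal automorphism times a standard field automorphism of even order, of order 2) has centralizer C_G(γ) isomorphic to the projective conformal orthogonal group of the form x₀² + Σ xᵢ yᵢ in dimension n over a field F₀ with q elements, and any two involutory graph automorphisms of T are G-conjugate. -/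
theorem result {F : Type*} [Field F] [Fintype F] {p f q : ℕ} [Fact p.Prime] (hq : q = p ^ f) (hf : 1 ≤ f) (hF : Fintype.card F = q ^ 2) {n : ℕ} (hn : 3 ≤ n) (hs : ¬ (n = 3 ∧ q = 2)) {m : ℕ} (hnm : n = 2 * m + 1) (F₀ : Type*) [Field F₀] [Fintype F₀] (hF₀ : Fintype.card F₀ = q) (γ γ' : MulAut (Cfsg.PSU n F q)) (hγ : Cfsg.IsGraphAutClassPSU γ) (hγ2 : orderOf γ = 2) (hγ' : Cfsg.IsGraphAutClassPSU γ') (hγ'2 : orderOf γ' = 2) :
    Nonempty (↥(Cfsg.inndiagPSU n F q ⊓ Subgroup.centralizer {γ}) ≃* Cfsg.PGO F₀ (Cfsg.quadFormOdd m F₀)) ∧ Cfsg.IsConjUnder (Cfsg.inndiagPSU n F q) γ γ' := by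
  classical
  have hn0 : 0 < n := by omega
  obtain ⟨D⟩ := nonempty_descent (F := F) (K := F₀) hF hF₀
  obtain ⟨M, hMsym, hrel⟩ := exists_form_of_graph D hn γ hγ hγ2
  obtain ⟨M', hMsym', hrel'⟩ := exists_form_of_graph D hn γ' hγ' hγ'2
  have hMdet : ((M : GL (Fin n) F₀) : Matrix (Fin n) (Fin n) F₀).det ≠ 0 := by
    have : IsUnit ((M : GL (Fin n) F₀) : Matrix (Fin n) (Fin n) F₀).det :=
      (Matrix.isUnit_iff_isUnit_det _).mp M.isUnit
    exact this.ne_zero
  have hMdet' : ((M' : GL (Fin n) F₀) : Matrix (Fin n) (Fin n) F₀).det ≠ 0 := by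
    have : IsUnit ((M' : GL (Fin n) F₀) : Matrix (Fin n) (Fin n) F₀).det :=
      (Matrix.isUnit_iff_isUnit_det _).mp M'.isUnit
    exact this.ne_zero
  have hcardκ : Fintype.card (Unit ⊕ (Fin m ⊕ Fin m)) = n := by
    simp only [Fintype.card_sum, Fintype.card_fin, Fintype.card_unit]
    omega
  by_cases h2 : (2 : F₀) = 0
  · -- characteristic two
    haveI : CharP F₀ 2 := CharTwo.of_one_ne_zero_of_two_eq_zero one_ne_zero h2
    have hsym : ∀ N : GL (Fin n) F₀,
        (Matrix.transpose ((N : GL (Fin n) F₀) : Matrix (Fin n) (Fin n) F₀) = (N : Matrix (Fin n) (Fin n) F₀) ∨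
          Matrix.transpose ((N : GL (Fin n) F₀) : Matrix (Fin n) (Fin n) F₀)
            = -(N : Matrix (Fin n) (Fin n) F₀)) →
        Matrix.transpose ((N : GL (Fin n) F₀) : Matrix (Fin n) (Fin n) F₀) = (N : Matrix (Fin n) (Fin n) F₀) := by
      intro N hN
      rcases hN with h | h
      · exact h
      · rw [h]; ext i j; rw [Matrix.neg_apply, CharTwo.neg_eq]
    have hM := hsym M hMsym
    have hM' := hsym M' hMsym'
    constructor
    · obtain ⟨e0⟩ := nonempty_centEquiv_of_rel D hn hrel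
      obtain ⟨P, P', h1, h1', hP⟩ := exists_std_odd hnm hM hMdet
      have hm0 : m0 (F := F₀) m ≠ 0 := by
        intro h
        have := det_m0_ne_zero (F := F₀) m
        rw [h, Matrix.det_zero] at this
        exact this rfl
      obtain ⟨e1⟩ := nonempty_isoBil_equiv hm0
      obtain ⟨e2⟩ := nonempty_sp_equiv_isoBil (F := F₀) (m := m)
      obtain ⟨e3⟩ := Cfsg.Agent.S0304.result (F := F₀) m
      obtain ⟨e4⟩ := nonempty_isometryGroup_equiv (Cfsg.quadFormOdd m F₀)
        (fun a v => by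
          rw [← coe_qfOdd, QuadraticMap.map_smul, smul_eq_mul])
        ⟨Pi.single (Sum.inl ()) 1, by simp [Cfsg.quadFormOdd]⟩
      exact ⟨(((((e0.trans (pgsCongr _ _ P P' h1 h1' hP)).trans e1.symm).trans e2.symm).trans
        e3.symm).trans e4)⟩
    · rw [isConjUnder_iff_of_rel D hn hrel hrel']
      obtain ⟨k, hk⟩ := exists_congr_odd hnm hM hM' hMdet hMdet'
      exact ⟨k, 1, by rw [hk, Units.val_one, one_smul]⟩
  · -- odd characteristic
    have hsym : ∀ N : GL (Fin n) F₀,
        (Matrix.transpose ((N : GL (Fin n) F₀) : Matrix (Fin n) (Fin n) F₀) = (N : Matrix (Fin n) (Fin n) F₀) ∨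
          Matrix.transpose ((N : GL (Fin n) F₀) : Matrix (Fin n) (Fin n) F₀)
            = -(N : Matrix (Fin n) (Fin n) F₀)) →
        Matrix.transpose ((N : GL (Fin n) F₀) : Matrix (Fin n) (Fin n) F₀) = (N : Matrix (Fin n) (Fin n) F₀) := by
      intro N hN
      rcases hN with h | h
      · exact h
      · exfalso
        have hNdet : ((N : GL (Fin n) F₀) : Matrix (Fin n) (Fin n) F₀).det ≠ 0 := by
          have : IsUnit ((N : GL (Fin n) F₀) : Matrix (Fin n) (Fin n) F₀).det :=
            (Matrix.isUnit_iff_isUnit_det _).mp N.isUnit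
          exact this.ne_zero
        have h3 := congrArg Matrix.det h
        have hpow : (-1 : F₀) ^ n = -1 := by rw [hnm, pow_succ, pow_mul]; simp
        rw [Matrix.det_transpose, Matrix.det_neg, Fintype.card_fin, hpow] at h3
        have h4 : (2 : F₀) * ((N : GL (Fin n) F₀) : Matrix (Fin n) (Fin n) F₀).det = 0 := by
          linear_combination h3
        rcases mul_eq_zero.mp h4 with h5 | h5
        · exact h2 h5
        · exact hNdet h5
    have hM := hsym M hMsym
    have hM' := hsym M' hMsym'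
    have hsqpow : ∀ x : F₀, IsSquare (x ^ (n + 1)) := by
      intro x
      refine ⟨x ^ (m + 1), ?_⟩
      rw [← pow_add]; congr 1; omega
    constructor
    · obtain ⟨e0⟩ := nonempty_centEquiv_of_rel D hn hrel
      set c : F₀ := ((M : GL (Fin n) F₀) : Matrix (Fin n) (Fin n) F₀).det * (-1) ^ m with hc
      have hc0 : c ≠ 0 := mul_ne_zero hMdet (pow_ne_zero _ (by simp))
      have hcM : Matrix.transpose (c • ((M : GL (Fin n) F₀) : Matrix (Fin n) (Fin n) F₀))
          = c • ((M : GL (Fin n) F₀) : Matrix (Fin n) (Fin n) F₀) := by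
        rw [Matrix.transpose_smul, hM]
      have hsim : Cfsg.Geo.similarityGroup (bilOf ((M : GL (Fin n) F₀) : Matrix (Fin n) (Fin n) F₀))
          = Cfsg.Geo.similarityGroup (bilOf (c • ((M : GL (Fin n) F₀) : Matrix (Fin n) (Fin n) F₀))) := by
        ext g
        rw [mem_similarityGroup_bilOf, mem_similarityGroup_bilOf]
        constructor
        · rintro ⟨a, ha⟩
          exact ⟨a, by rw [Matrix.mul_smul, Matrix.smul_mul, ha, smul_comm]⟩
        · rintro ⟨a, ha⟩
          refine ⟨a, ?_⟩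
          rw [Matrix.mul_smul, Matrix.smul_mul, smul_comm (a : F₀) c] at ha
          exact smul_right_injective _ hc0 ha
      rw [hsim, similarityGroup_eq_quad h2 hcM] at e0
      obtain ⟨P, P', h1, h1', hQ⟩ := exists_iso h2 (Fintype.equivFinOfCardEq hcardκ) hcM
        (by rw [Matrix.det_smul]; exact mul_ne_zero (pow_ne_zero _ hc0) hMdet) (qfOdd m F₀)
        (by
          rw [coe_qfOdd, det_gram_quadFormOdd]
          exact mul_ne_zero h2 (pow_ne_zero _ (by simp)))
        (by
          rw [coe_qfOdd, det_gram_quadFormOdd, Matrix.det_smul, Fintype.card_fin]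
          have : (2 : F₀) ^ n * (c ^ n * ((M : GL (Fin n) F₀) : Matrix (Fin n) (Fin n) F₀).det) * (2 * (-1) ^ m)
              = (2 : F₀) ^ (n + 1) * c ^ (n + 1) := by
            rw [pow_succ, pow_succ, hc]; ring
          rw [this]
          exact (hsqpow 2).mul (hsqpow c))
      exact ⟨e0.trans (pgoCongr _ _ P P' h1 h1' (fun u => by rw [← coe_qfOdd]; exact hQ u))⟩
    · rw [isConjUnder_iff_of_rel D hn hrel hrel']
      set c : F₀ := ((M : GL (Fin n) F₀) : Matrix (Fin n) (Fin n) F₀).det *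
        ((M' : GL (Fin n) F₀) : Matrix (Fin n) (Fin n) F₀).det with hc
      have hc0 : c ≠ 0 := mul_ne_zero hMdet hMdet'
      obtain ⟨k, hk⟩ := exists_congr_sym h2 hM
        (show Matrix.transpose (c • ((M' : GL (Fin n) F₀) : Matrix (Fin n) (Fin n) F₀))
          = c • ((M' : GL (Fin n) F₀) : Matrix (Fin n) (Fin n) F₀) by rw [Matrix.transpose_smul, hM'])
        hMdet (by rw [Matrix.det_smul]; exact mul_ne_zero (pow_ne_zero _ hc0) hMdet')
        (by
          rw [Matrix.det_smul, Fintype.card_fin]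
          have : ((M : GL (Fin n) F₀) : Matrix (Fin n) (Fin n) F₀).det *
              (c ^ n * ((M' : GL (Fin n) F₀) : Matrix (Fin n) (Fin n) F₀).det) = c ^ (n + 1) := by
            rw [pow_succ, hc]; ring
          rw [this]; exact hsqpow c)
      exact ⟨k, Units.mk0 c hc0, hk⟩

end Cfsg.Agent.S2706
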