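import Cfsg.Statements.S2708
import Cfsg.Agent.Lib.Helper14_PSUGraphMain
import Cfsg.Agent.Lib.Helper14_Char2Even

open Cfsg.Agent.Lib.Helper14_PSLAut Cfsg.Agent.Lib.Helper14_PSLCent Cfsg.Agent.Lib.Helper14_PGOTransport Cfsg.Agent.Lib.Helper14_Congruence Cfsg.Agent.Lib.Helper14_PSLGraphOdd Cfsg.Agent.Lib.Helper14_SymChar2 Cfsg.Agent.Lib.Helper14_Char2Groups Cfsg.Agent.Lib.Helper14_SymChar2Even Cfsg.Agent.Lib.Helper14_Char2Even Cfsg.Agent.Lib.Helper13_SympTrans Cfsg.Agent.Lib.Helper14_PSUAut Cfsg.Agent.Lib.Helper14_PSUBridge Cfsg.Agent.Lib.Helper14_PSUGraphMain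

set_option autoImplicit false
open Cfsg

namespace Cfsg.Agent.S2708

/-- Let T = PSU_n(q) with n = 2m ≥ 4 even and q even, realised over the field F (of characteristic 2) with q² elements, and G = Inndiag(T) the image of PGU_n(q). The involutory graph automorphisms of T fall into exactly two G-classes, with representatives whose centralizers in G are isomorphic respectively to the symplectic group Sp_n(F₀) and to the centralizer in Sp_n(F₀) of a symplectic transvection, F₀ a field with q elements. -/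
theorem result {F : Type*} [Field F] [Fintype F] [CharP F 2] {q : ℕ} (hF : Fintype.card F = q ^ 2) {n m : ℕ} (hm : 2 ≤ m) (hnm : n = 2 * m) (F₀ : Type*) [Field F₀] [Fintype F₀] (hF₀ : Fintype.card F₀ = q) :
    ∃ (γ₁ γ₃ : MulAut (Cfsg.PSU n F q)) (t : ↥(Matrix.symplecticGroup (Fin m) F₀)), Cfsg.IsTransvection (t : Matrix (Fin m ⊕ Fin m) (Fin m ⊕ Fin m) F₀) ∧ Cfsg.IsGraphAutClassPSU γ₁ ∧ orderOf γ₁ = 2 ∧ Cfsg.IsGraphAutClassPSU γ₃ ∧ orderOf γ₃ = 2 ∧ ¬ Cfsg.IsConjUnder (Cfsg.inndiagPSU n F q) γ₁ γ₃ ∧ (∀ γ : MulAut (Cfsg.PSU n F q), Cfsg.IsGraphAutClassPSU γ → orderOf γ = 2 → Cfsg.IsConjUnder (Cfsg.inndiagPSU n F q) γ₁ γ ∨ Cfsg.IsConjUnder (Cfsg.inndiagPSU n F q) γ₃ γ) ∧ Nonempty (↥(Cfsg.inndiagPSU n F q ⊓ Subgroup.centralizer {γ₁}) ≃* ↥(Matrix.symplecticGroup (Fin m) F₀)) ∧ Nonempty (↥(Cfsg.inndiagPSU n F q ⊓ Subgroup.centralizer {γ₃}) ≃* ↥(Subgroup.centralizer ({t} : Set ↥(Matrix.symplecticGroup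 (Fin m) F₀)))) := by
  classical
  have hn3 : 3 ≤ n := by omega
  have hn0 : 0 < n := by omega
  have hm1 : 1 ≤ m := by omega
  obtain ⟨D⟩ := nonempty_descent (F := F) (K := F₀) hF hF₀
  have h20 : (2 : F₀) = 0 := by
    apply D.ι.injective
    rw [map_ofNat, map_zero]
    exact CharTwo.two_eq_zero
  haveI : CharP F₀ 2 := CharTwo.of_one_ne_zero_of_two_eq_zero one_ne_zero h20
  set a₀ : Fin m ⊕ Fin m → F₀ := Pi.single (Sum.inl ⟨0, hm1⟩) 1 with ha₀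
  have ha₀ne : a₀ ≠ 0 := by
    intro h
    have := congrFun h (Sum.inl ⟨0, hm1⟩)
    simp [ha₀] at this
  obtain ⟨γ₁, M₁, hg₁, ho₁, hrel₁, halt₁⟩ := exists_alt_graph (n := n) D hn3 hnm
  obtain ⟨hg₃, ho₃, hrel₃⟩ := rel_fieldU (n := n) D hn3
  have hM₁det : ((M₁ : GL (Fin n) F₀) : Matrix (Fin n) (Fin n) F₀).det ≠ 0 := by
    have : IsUnit ((M₁ : GL (Fin n) F₀) : Matrix (Fin n) (Fin n) F₀).det :=
      (Matrix.isUnit_iff_isUnit_det _).mp M₁.isUnit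
    exact this.ne_zero
  have hone : (((1 : GL (Fin n) F₀)) : Matrix (Fin n) (Fin n) F₀) = 1 := Units.val_one
  have hsymall : ∀ N : GL (Fin n) F₀,
      (Matrix.transpose ((N : GL (Fin n) F₀) : Matrix (Fin n) (Fin n) F₀) = (N : Matrix (Fin n) (Fin n) F₀) ∨
        Matrix.transpose ((N : GL (Fin n) F₀) : Matrix (Fin n) (Fin n) F₀)
          = -(N : Matrix (Fin n) (Fin n) F₀)) →
      Matrix.transpose ((N : GL (Fin n) F₀) : Matrix (Fin n) (Fin n) F₀) = (N : Matrix (Fin n) (Fin n) F₀) := by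
    intro N hN
    rcases hN with h | h
    · exact h
    · rw [h]; ext i j; rw [Matrix.neg_apply, CharTwo.neg_eq]
  have hd1 : (1 : Matrix (Fin n) (Fin n) F₀).det ≠ 0 := by rw [Matrix.det_one]; exact one_ne_zero
  have hdv : ∀ M : Matrix (Fin n) (Fin n) F₀, Matrix.transpose M = M → (∃ v, bilOf M v v ≠ 0) →
      dvec M ≠ 0 := by
    rintro M hM ⟨v, hv⟩ h0
    apply hv
    rw [bilOf_self hM, h0, zero_dotProduct, pow_two, mul_zero]
  have hb1 : bilOf (1 : Matrix (Fin n) (Fin n) F₀) (Pi.single ⟨0, hn0⟩ 1) (Pi.single ⟨0, hn0⟩ 1) = 1 := by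
    unfold bilOf
    rw [Matrix.one_mulVec]
    simp
  have hdv1 : dvec (1 : Matrix (Fin n) (Fin n) F₀) ≠ 0 := by
    apply hdv _ Matrix.transpose_one
    exact ⟨Pi.single ⟨0, hn0⟩ 1, by rw [hb1]; exact one_ne_zero⟩
  refine ⟨γ₁, fieldU D.τ, transv m a₀ 1, isTransvection_transv ha₀ne, hg₁, ho₁, hg₃, ho₃, ?_, ?_, ?_, ?_⟩
  · rw [isConjUnder_iff_of_rel D hn3 hrel₁ hrel₃, hone]
    rintro ⟨k, c, hk⟩
    have h1 : bilOf (Matrix.transpose (k : Matrix (Fin n) (Fin n) F₀) * (M₁ : Matrix (Fin n) (Fin n) F₀) *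
        (k : Matrix (Fin n) (Fin n) F₀))
        (Pi.single ⟨0, hn0⟩ 1) (Pi.single ⟨0, hn0⟩ 1) = 0 := by
      rw [← bilOf_mulVec]; exact halt₁ _
    rw [hk, bilOf_smul, hb1, mul_one] at h1
    exact c.ne_zero h1
  · intro γ hγ hγ2
    obtain ⟨M, hMsym, hrel⟩ := exists_form_of_graph D hn3 γ hγ hγ2
    have hMdet : ((M : GL (Fin n) F₀) : Matrix (Fin n) (Fin n) F₀).det ≠ 0 := by
      have : IsUnit ((M : GL (Fin n) F₀) : Matrix (Fin n) (Fin n) F₀).det :=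
        (Matrix.isUnit_iff_isUnit_det _).mp M.isUnit
      exact this.ne_zero
    have hM := hsymall M hMsym
    by_cases halt : ∀ v, bilOf ((M : GL (Fin n) F₀) : Matrix (Fin n) (Fin n) F₀) v v = 0
    · left
      rw [isConjUnder_iff_of_rel D hn3 hrel₁ hrel]
      obtain ⟨k, hk⟩ := exists_congr_alt hnm halt₁ halt hM₁det hMdet
      exact ⟨k, 1, by rw [hk, Units.val_one, one_smul]⟩
    · right
      push Not at halt
      rw [isConjUnder_iff_of_rel D hn3 hrel₃ hrel, hone]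
      obtain ⟨k, hk⟩ := exists_congr_even hnm hm1 Matrix.transpose_one hM hd1 hMdet hdv1 (hdv _ hM halt)
      exact ⟨k, 1, by rw [hk, Units.val_one, one_smul]⟩
  · obtain ⟨e0⟩ := nonempty_centEquiv_of_rel D hn3 hrel₁
    obtain ⟨P, P', h1, h1', hP⟩ := exists_std_alt hnm halt₁ hM₁det
    obtain ⟨e1⟩ := nonempty_isoBil_equiv (J_ne_zero (F := F₀) hm1)
    obtain ⟨e2⟩ := nonempty_sp_equiv_isoBil_J (F := F₀) (m := m)
    exact ⟨((e0.trans (pgsCongr _ _ P P' h1 h1' hP)).trans e1.symm).trans e2.symm⟩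
  · obtain ⟨e0⟩ := nonempty_centEquiv_of_rel D hn3 hrel₃
    rw [hone] at e0
    obtain ⟨P, P', h1, h1', hP⟩ := exists_std_even hnm Matrix.transpose_one hd1 hdv1 a₀ ha₀ne
    have hf3 : f3 a₀ = bilOf (m3 a₀) := by funext x y; rw [bilOf_m3]
    obtain ⟨e1⟩ := nonempty_isoBil_equiv (m3_ne_zero ha₀ne)
    obtain ⟨e2⟩ := nonempty_cent_equiv_isoBil ha₀ne
    have e3 := pgsCongr _ _ P P' h1 h1' hP
    rw [hf3] at e3
    exact ⟨((e0.trans e3).trans e1.symm).trans e2.symm⟩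

end Cfsg.Agent.S2708
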