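import Cfsg.Statements.S2709
import Cfsg.Agent.Lib.Helper14_PSUSplit

open Cfsg.Agent.Lib.Helper14_PSLAut Cfsg.Agent.Lib.Helper14_PSLCent Cfsg.Agent.Lib.Helper14_PGOTransport Cfsg.Agent.Lib.Helper14_SymForms Cfsg.Agent.Lib.Helper44_StdForms Cfsg.Agent.Lib.Helper14_Congruence Cfsg.Agent.Lib.Helper14_PSLGraphOdd Cfsg.Agent.Lib.Helper14_PSUAut Cfsg.Agent.Lib.Helper14_PSUBridge Cfsg.Agent.Lib.Helper14_PSUGraphMain Cfsg.Agent.Lib.Helper14_PSUSplit

set_option autoImplicit false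
open Cfsg

namespace Cfsg.Agent.S2709

/-- Let T = PSU_n(q) be simple (n ≥ 3, (n,q) ≠ (3,2), q = p^f), realised over the field F with q² elements, G = Inndiag(T) the image of PGU_n(q), and γ an involutory graph automorphism of T. The G-class of γ is the union of exactly c T-classes, where: if n is even and q is odd, c = gcd(n/2, q + 1) when C_G(γ) is isomorphic to PGSp_n(F₀) for a field F₀ with q elements (symplectic type) and c = gcd(n, q + 1)/2 otherwise; and c = gcd(n, q + 1) when n is odd or q is even. -/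
theorem result {F : Type*} [Field F] [Fintype F] {p f q : ℕ} [Fact p.Prime] (hq : q = p ^ f) (hf : 1 ≤ f) (hF : Fintype.card F = q ^ 2) {n : ℕ} (hn : 3 ≤ n) (hs : ¬ (n = 3 ∧ q = 2)) (F₀ : Type*) [Field F₀] [Fintype F₀] (hF₀ : Fintype.card F₀ = q) (γ : MulAut (Cfsg.PSU n F q)) (hγ : Cfsg.IsGraphAutClassPSU γ) (hγ2 : orderOf γ = 2) :
    ((Even n ∧ Odd q ∧ Nonempty (↥(Cfsg.inndiagPSU n F q ⊓ Subgroup.centralizer {γ}) ≃* Cfsg.PGSp (n / 2) F₀)) → Cfsg.splitClassCount (Cfsg.inndiagPSU n F q) (Cfsg.Inn (Cfsg.PSU n F q)) γ = Nat.gcd (n / 2) (q + 1)) ∧ ((Even n ∧ Odd q ∧ ¬ Nonempty (↥(Cfsg.inndiagPSU n F q ⊓ Subgroup.centralizer {γ}) ≃* Cfsg.PGSp (n / 2) F₀)) → Cfsg.splitClassCount (Cfsg.inndiagPSU n F q) (Cfsg.Inn (Cfsg.PSU n F q)) γ = Nat.gcd n (q + 1) / 2) ∧ (¬ (Even n ∧ Odd q) → Cfsg.splitClassCount (Cfsg.inndiagPSU n F q) (Cfsg.Inn (Cfsg.PSU n F q)) γ = Nat.gcd n (q + 1)) := by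
  classical
  have hn0 : 0 < n := by omega
  obtain ⟨D⟩ := nonempty_descent (F := F) (K := F₀) hF hF₀
  obtain ⟨M₀, hMsym, hrel⟩ := exists_form_of_graph D hn γ hγ hγ2
  have hMdet : ((M₀ : GL (Fin n) F₀) : Matrix (Fin n) (Fin n) F₀).det ≠ 0 := det_ne_zero_GL M₀
  refine ⟨?_, ?_, ?_⟩
  · rintro ⟨hev, hodd, hne⟩
    obtain ⟨m, hm⟩ := hev
    have hnm : n = 2 * m := by omega
    have hdiv : n / 2 = m := by omega
    rw [hdiv] at hne ⊢
    have h2 : (2 : F₀) ≠ 0 :=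
      Cfsg.Agent.Lib.Helper44_FinSq.two_ne_zero_of_odd_card (by rw [hF₀]; exact hodd)
    rcases hMsym with hsym | hskew
    · exfalso
      obtain ⟨e⟩ := hne
      obtain ⟨e0⟩ := nonempty_centEquiv_of_rel D hn hrel
      obtain ⟨e1⟩ := Cfsg.Agent.Lib.Helper14_PSLGraph.nonempty_centEquiv M₀
      exact Cfsg.Agent.Lib.Helper14_PSLSplitGraph.not_nonempty_cent_pgsp_of_sym hnm (by omega) h2
        (by rw [hF₀]; exact hodd) M₀ hsym ⟨(e1.trans e0.symm).trans e⟩
    · exact count_alt D hn hnm hrel (alt_of_skew h2 hskew)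
  · rintro ⟨hev, hodd, hne⟩
    obtain ⟨m, hm⟩ := hev
    have hnm : n = 2 * m := by omega
    have hdiv : n / 2 = m := by omega
    rw [hdiv] at hne
    have h2 : (2 : F₀) ≠ 0 :=
      Cfsg.Agent.Lib.Helper44_FinSq.two_ne_zero_of_odd_card (by rw [hF₀]; exact hodd)
    rcases hMsym with hsym | hskew
    · exact count_sym D hn hnm h2 hodd hrel hsym
    · exfalso
      apply hne
      obtain ⟨e0⟩ := nonempty_centEquiv_of_rel D hn hrel
      obtain ⟨P, P', h1, h1', hP⟩ := exists_std_alt hnm (alt_of_skew h2 hskew) hMdet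
      exact ⟨e0.trans (pgsCongr _ _ P P' h1 h1' hP)⟩
  · intro hnot
    by_cases hev : Even n
    · have hqe : Even q := by
        rw [← Nat.not_odd_iff_even]
        exact fun h => hnot ⟨hev, h⟩
      obtain ⟨m, hm⟩ := hev
      have hnm : n = 2 * m := by omega
      have hchar : ringChar F₀ = 2 := by
        rw [FiniteField.even_card_iff_char_two, hF₀]
        exact Nat.even_iff.mp hqe
      haveI : CharP F₀ 2 := ringChar.of_eq hchar
      rw [count_char_two D hn hnm hrel, hnm]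
      symm
      apply Nat.Coprime.gcd_mul_left_cancel
      rw [Nat.coprime_two_left]
      obtain ⟨t, ht⟩ := hqe
      exact ⟨t, by omega⟩
    · rw [Nat.not_even_iff_odd] at hev
      obtain ⟨r, hr⟩ := hev
      exact count_odd D hn hr hrel

end Cfsg.Agent.S2709
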