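import Cfsg.Statements.S2710
import Cfsg.Agent.Lib.Helper14_PSUGraphMain
import Cfsg.Agent.Lib.Helper14_PSLGraphOdd

open Cfsg.Agent.Lib.Helper14_PSLAut Cfsg.Agent.Lib.Helper14_PSLCent Cfsg.Agent.Lib.Helper14_PGOTransport Cfsg.Agent.Lib.Helper14_SymForms Cfsg.Agent.Lib.Helper44_StdForms Cfsg.Agent.Lib.Helper14_Congruence Cfsg.Agent.Lib.Helper14_PSLGraphOdd Cfsg.Agent.Lib.Helper14_PSUAut Cfsg.Agent.Lib.Helper14_PSUBridge Cfsg.Agent.Lib.Helper14_PSUGraphMain

set_option autoImplicit false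
open Cfsg

namespace Cfsg.Agent.S2710

/-- Let T = PSU_n(q) with n ≥ 4 divisible by 4 (n = 2m) and q odd, realised over the field F with q² elements, G = Inndiag(T) the image of PGU_n(q), and φ the standard field automorphism of T attached to the q-th power map of F (it induces inverse-transpose on the unitary matrices and is a graph automorphism). Its centralizer in G is isomorphic to the projective conformal orthogonal group of the plus-type form Σ xᵢ yᵢ in dimension n over a field F₀ with q elements. (Dimensions n ≡ 2 (mod 4) are not covered.) -/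
theorem result {F : Type*} [Field F] [Fintype F] {q : ℕ} (hodd : Odd q) (hF : Fintype.card F = q ^ 2) {n m : ℕ} (hm : 2 ≤ m) (hnm : n = 2 * m) (h4 : 4 ∣ n) (F₀ : Type*) [Field F₀] [Fintype F₀] (hF₀ : Fintype.card F₀ = q) (σ : F ≃+* F) (hσ : ∀ a : F, σ a = a ^ q) (φ : MulAut (Cfsg.PSU n F q)) (hφ : Cfsg.IsFieldAutPSUOf σ φ) :
    Nonempty (↥(Cfsg.inndiagPSU n F q ⊓ Subgroup.centralizer {φ}) ≃* Cfsg.PGO F₀ (Cfsg.quadFormPlus m F₀)) := by
  classical
  have hn3 : 3 ≤ n := by omega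
  have hn0 : 0 < n := by omega
  obtain ⟨D⟩ := nonempty_descent (F := F) (K := F₀) hF hF₀
  have hσD : σ = D.τ := RingEquiv.ext (fun a => by rw [hσ, D.hτ])
  have hφ' : φ = fieldU D.τ := by rw [← hσD]; exact (isFieldAutPSUOf_iff σ φ).mp hφ
  subst hφ'
  obtain ⟨-, -, hrel⟩ := rel_fieldU (n := n) D hn3
  obtain ⟨e0⟩ := nonempty_centEquiv_of_rel D hn3 hrel
  have hone : (((1 : GL (Fin n) F₀)) : Matrix (Fin n) (Fin n) F₀) = 1 := Units.val_one
  have h2 : (2 : F₀) ≠ 0 :=
    Cfsg.Agent.Lib.Helper44_FinSq.two_ne_zero_of_odd_card (by rw [hF₀]; exact hodd)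
  have ecard : Fintype.card (Fin m ⊕ Fin m) = n := by
    rw [Fintype.card_sum, Fintype.card_fin, hnm]; ring
  rw [hone, similarityGroup_eq_quad h2 Matrix.transpose_one] at e0
  obtain ⟨m', rfl⟩ : ∃ m', m = 2 * m' := by
    obtain ⟨t, ht⟩ := h4
    exact ⟨t, by omega⟩
  have hs : ((-1 : F₀)) ^ (2 * m') = 1 := by rw [pow_mul]; simp
  have hpow : ((2 : F₀) ^ n) = (2 ^ (2 * m')) * (2 ^ (2 * m')) := by rw [hnm, two_mul, pow_add]
  obtain ⟨P, P', h1, h1', hQ⟩ := exists_iso h2 (Fintype.equivFinOfCardEq ecard)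
    (Matrix.transpose_one (α := F₀) (n := Fin n))
    (by rw [Matrix.det_one]; exact one_ne_zero) (qfPlus (2 * m') F₀)
    (by rw [coe_qfPlus, det_gram_quadFormPlus]; exact pow_ne_zero _ (by simp))
    (by
      rw [coe_qfPlus, det_gram_quadFormPlus, Matrix.det_one, hpow, hs, mul_one, mul_one]
      exact IsSquare.mul_self _)
  exact ⟨e0.trans (pgoCongr _ _ P P' h1 h1' (fun u => by rw [← coe_qfPlus]; exact hQ u))⟩

end Cfsg.Agent.S2710
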