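import Cfsg.Statements.S2715
import Cfsg.Agent.S2695
import Cfsg.Agent.Lib.Helper44_OrthPlusCent
import Cfsg.Agent.Lib.Helper14_D4Normal

set_option autoImplicit false
open Cfsg

namespace Cfsg.Agent.S2715

theorem result {F : Type*} [Field F] [Fintype F] {p f : ℕ} [Fact p.Prime] (hF : Fintype.card F = p ^ f) (hf : 1 ≤ f) {m : ℕ} (hm : 4 ≤ m) (x : MulAut (Cfsg.POmega F (Cfsg.quadFormPlus m F))) (hx : Cfsg.IsFieldAutClassPOmega (Cfsg.quadFormPlus m F) x) {r : ℕ} (hr : r.Prime) (hxr : orderOf x = r) (F₀ : Type*) [Field F₀] [Fintype F₀] (hF₀ : Fintype.card F₀ = p ^ (f / r)) :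
    r ∣ f ∧ Nonempty (↥(Cfsg.inndiagPOmegaPlus m F ⊓ Subgroup.centralizer {x}) ≃* ↥(Cfsg.inndiagPOmegaPlus m F₀)) ∧ ((Odd r ∨ p = 2) → Cfsg.splitClassCount (Cfsg.inndiagPOmegaPlus m F) (Cfsg.Inn (Cfsg.POmega F (Cfsg.quadFormPlus m F))) x = 1) ∧ ((r = 2 ∧ p ≠ 2 ∧ Odd m ∧ p ^ (f / 2) % 4 = 1) → Cfsg.splitClassCount (Cfsg.inndiagPOmegaPlus m F) (Cfsg.Inn (Cfsg.POmega F (Cfsg.quadFormPlus m F))) x = 2) ∧ ((r = 2 ∧ p ≠ 2 ∧ ¬ (Odd m ∧ p ^ (f / 2) % 4 = 1)) → Cfsg.splitClassCount (Cfsg.inndiagPOmegaPlus m F) (Cfsg.Inn (Cfsg.POmega F (Cfsg.quadFormPlus m F))) x = 4) := by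
  have hN : (Cfsg.inndiagPOmegaPlus m F).Normal := by
    rcases Nat.lt_or_ge 4 m with h5 | h4
    · exact Cfsg.Agent.Lib.Helper44_OrthPlusCent.inndiag_normal_of_gamma_top
        (Cfsg.Agent.S2695.result (F := F) h5)
    · obtain rfl : m = 4 := by omega
      by_cases h2 : (2 : F) = 0
      · exact Cfsg.Agent.Lib.Helper44_OrthPlusCent.inndiag_normal_of_char_two h2 (by norm_num)
      · exact Cfsg.Agent.Lib.Helper14_D4Normal.normal_D4_odd h2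
  exact Cfsg.Agent.Lib.Helper44_OrthPlusCent.field_cent_plus hF hf (by omega) hN x hx hr hxr F₀ hF₀

end Cfsg.Agent.S2715
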