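import Cfsg.Statements.S2718
import Cfsg.Agent.Lib.Helper14_GraphSplit

set_option autoImplicit false
open Cfsg

namespace Cfsg.Agent.S2718

/-- Let T = PΩ⁺_{2m}(F) with m ≥ 4 and |F| = q odd, G = Inndiag(T), and γ an involutory graph automorphism of T induced by a similarity (one interchanging the two classes of maximal totally singular subspaces). Then the G-class of γ is either a single T-class or the union of exactly two T-classes, and it is the union of two unless m is odd and q ≡ 3 (mod 4). -/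
theorem result {F : Type*} [Field F] [Fintype F] (hodd : Odd (Fintype.card F)) {m : ℕ} (hm : 4 ≤ m) (γ : MulAut (Cfsg.POmega F (Cfsg.quadFormPlus m F))) (hγ : Cfsg.IsSimilarityGraphAutPOmegaPlus m γ) (hγ2 : orderOf γ = 2) :
    (Cfsg.splitClassCount (Cfsg.inndiagPOmegaPlus m F) (Cfsg.Inn (Cfsg.POmega F (Cfsg.quadFormPlus m F))) γ = 1 ∨ Cfsg.splitClassCount (Cfsg.inndiagPOmegaPlus m F) (Cfsg.Inn (Cfsg.POmega F (Cfsg.quadFormPlus m F))) γ = 2) ∧ (¬ (Odd m ∧ Fintype.card F % 4 = 3) → Cfsg.splitClassCount (Cfsg.inndiagPOmegaPlus m F) (Cfsg.Inn (Cfsg.POmega F (Cfsg.quadFormPlus m F))) γ = 2) := by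
  have h2 : (2 : F) ≠ 0 := Cfsg.Agent.Lib.Helper44_FinSq.two_ne_zero_of_odd_card hodd
  have hQ := Cfsg.Agent.Lib.Helper14_POmegaSimple.nondegenerate_qfPlus (F := F) m
  have hcard : Fintype.card (Fin m ⊕ Fin m) = 2 * m := by
    rw [Fintype.card_sum, Fintype.card_fin]; ring
  have hn : 5 ≤ Fintype.card (Fin m ⊕ Fin m) := by rw [hcard]; omega
  have hneg := Cfsg.Agent.Lib.Helper14_NegOneStd.negOne_mem_plus_iff (F := F) hodd m (by omega)
  have hne : ∃ v, Cfsg.Agent.Lib.Helper44_StdForms.qfPlus m F v ≠ 0 :=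
    Cfsg.Agent.Lib.Helper14_InndiagPlus.exists_ne_zero m (by omega)
  have hI := Cfsg.Agent.Lib.Helper14_InndiagMain.autSubgroupOf_preserves_eq h2
    (Cfsg.Agent.Lib.Helper44_StdForms.qfPlus m F) hQ hne hcard
    (PreservesSingularClasses (⇑(Cfsg.Agent.Lib.Helper44_StdForms.qfPlus m F)))
    (Cfsg.Agent.Lib.Helper14_InndiagPlus.preserves_plus_iff m h2 (by omega))
  obtain ⟨ε, hε⟩ := FiniteField.exists_nonsquare
    (Cfsg.Agent.Lib.Helper44_FinSq.ringChar_ne_two_of_two_ne_zero h2)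
  have hε0 : ε ≠ 0 := by
    rintro rfl; exact hε ⟨0, by simp⟩
  have hmem : Cfsg.Agent.Lib.Helper14_GODelta.dPlusGL m (Units.mk0 ε hε0) ∈
      Cfsg.Agent.Lib.Helper14_AutOmega.GO (⇑(Cfsg.Agent.Lib.Helper44_StdForms.qfPlus m F)) := by
    rw [Cfsg.Agent.Lib.Helper44_StdForms.coe_qfPlus]
    exact Cfsg.Agent.Lib.Helper14_GODelta.dPlusGL_mem m _
  have hmu : Cfsg.Agent.Lib.Helper14_GOChars.mu (⇑(Cfsg.Agent.Lib.Helper44_StdForms.qfPlus m F))
      ⟨Cfsg.Agent.Lib.Helper14_GODelta.dPlusGL m (Units.mk0 ε hε0), hmem⟩ = Units.mk0 ε hε0 := by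
    apply Cfsg.Agent.Lib.Helper14_GOChars.mu_eq
    · exact hne
    · intro v
      rw [Cfsg.Agent.Lib.Helper14_GODelta.dPlusGL_coe, Cfsg.Agent.Lib.Helper44_StdForms.coe_qfPlus,
        Cfsg.Agent.Lib.Helper14_GODelta.quadFormPlus_dPlus]
  have hchi : Cfsg.Agent.Lib.Helper14_GOChars.chiHom (Cfsg.Agent.Lib.Helper44_StdForms.qfPlus m F) hne
      ⟨Cfsg.Agent.Lib.Helper14_GODelta.dPlusGL m (Units.mk0 ε hε0), hmem⟩ = -1 := by
    rw [Cfsg.Agent.Lib.Helper14_GOChars.chiHom_eq_neg_one_iff, hmu, Units.val_mk0]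
    exact hε
  have hsq : (⟨Cfsg.Agent.Lib.Helper14_GODelta.dPlusGL m (Units.mk0 ε hε0), hmem⟩ :
      ↥(Cfsg.Agent.Lib.Helper14_AutOmega.GO (⇑(Cfsg.Agent.Lib.Helper44_StdForms.qfPlus m F)))) *
      ⟨Cfsg.Agent.Lib.Helper14_GODelta.dPlusGL m (Units.mk0 ε hε0), hmem⟩ ∈
      Cfsg.Agent.Lib.Helper14_GOChars.Z' (Cfsg.Agent.Lib.Helper44_StdForms.qfPlus m F) :=
    Subgroup.mem_subgroupOf.mpr (Cfsg.Agent.Lib.Helper14_GODelta.dPlusGL_sq_mem m _)
  have hGz : (⟨Cfsg.Agent.Lib.Helper14_GODelta.dPlusGL m (Units.mk0 ε hε0), hmem⟩ :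
      ↥(Cfsg.Agent.Lib.Helper14_AutOmega.GO (⇑(Cfsg.Agent.Lib.Helper44_StdForms.qfPlus m F)))) ∈
      Cfsg.Agent.Lib.Helper14_InndiagQuot.Gz h2 (Cfsg.Agent.Lib.Helper44_StdForms.qfPlus m F) hQ hne hcard
      ↔ Even m := by
    rw [MonoidHom.mem_ker, Cfsg.Agent.Lib.Helper14_GOChars.sgnHom_eq_one_iff, hmu, Units.val_mk0]
    change (Cfsg.Agent.Lib.Helper14_GODelta.dPlusMat m ε).det = ε ^ m ↔ Even m
    rw [Cfsg.Agent.Lib.Helper14_InndiagMain.det_dPlusMat]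
    constructor
    · intro h
      by_contra hcon
      rw [Nat.not_even_iff_odd] at hcon
      rw [hcon.neg_one_pow] at h
      have h3 : (2 : F) * ε ^ m = 0 := by linear_combination -h
      rcases mul_eq_zero.mp h3 with h4 | h4
      · exact h2 h4
      · exact hε0 (pow_eq_zero_iff (by omega) |>.mp h4)
    · intro h
      rw [h.neg_one_pow, one_mul]
  have key : ∀ γ : MulAut (Cfsg.POmega F (⇑(Cfsg.Agent.Lib.Helper44_StdForms.qfPlus m F))),
      (∃ g : Matrix.GeneralLinearGroup (Fin m ⊕ Fin m) F,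
        g ∈ Cfsg.Geo.quadSimilarityGroup (F := F) (⇑(Cfsg.Agent.Lib.Helper44_StdForms.qfPlus m F)) ∧
        ¬ Cfsg.PreservesSingularClasses (⇑(Cfsg.Agent.Lib.Helper44_StdForms.qfPlus m F))
          (g : Matrix (Fin m ⊕ Fin m) (Fin m ⊕ Fin m) F) ∧
        Cfsg.IsInducedBySemilinearPOmega (⇑(Cfsg.Agent.Lib.Helper44_StdForms.qfPlus m F)) g
          (RingEquiv.refl F) γ) → orderOf γ = 2 →
      (Cfsg.splitClassCount ((Cfsg.Agent.Lib.Helper14_InndiagQuot.Gz h2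
          (Cfsg.Agent.Lib.Helper44_StdForms.qfPlus m F) hQ hne hcard).map
          (Cfsg.Agent.Lib.Helper14_AutOmega.Phi (⇑(Cfsg.Agent.Lib.Helper44_StdForms.qfPlus m F))))
        (Cfsg.Inn (Cfsg.POmega F (⇑(Cfsg.Agent.Lib.Helper44_StdForms.qfPlus m F)))) γ = 1 ∨
       Cfsg.splitClassCount ((Cfsg.Agent.Lib.Helper14_InndiagQuot.Gz h2
          (Cfsg.Agent.Lib.Helper44_StdForms.qfPlus m F) hQ hne hcard).map
          (Cfsg.Agent.Lib.Helper14_AutOmega.Phi (⇑(Cfsg.Agent.Lib.Helper44_StdForms.qfPlus m F))))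
        (Cfsg.Inn (Cfsg.POmega F (⇑(Cfsg.Agent.Lib.Helper44_StdForms.qfPlus m F)))) γ = 2) ∧
      (¬ (Odd m ∧ Fintype.card F % 4 = 3) →
       Cfsg.splitClassCount ((Cfsg.Agent.Lib.Helper14_InndiagQuot.Gz h2
          (Cfsg.Agent.Lib.Helper44_StdForms.qfPlus m F) hQ hne hcard).map
          (Cfsg.Agent.Lib.Helper14_AutOmega.Phi (⇑(Cfsg.Agent.Lib.Helper44_StdForms.qfPlus m F))))
        (Cfsg.Inn (Cfsg.POmega F (⇑(Cfsg.Agent.Lib.Helper44_StdForms.qfPlus m F)))) γ = 2) := by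
    intro γ hγ hγ2
    obtain ⟨g, hg, hnp, hind⟩ := hγ
    have hγeq : γ = Cfsg.Agent.Lib.Helper14_AutOmega.Phi
        (⇑(Cfsg.Agent.Lib.Helper44_StdForms.qfPlus m F)) ⟨g, hg⟩ :=
      (Cfsg.Agent.Lib.Helper14_AutOmega.isInduced_iff _ ⟨g, hg⟩ γ).mp hind
    have hg₀ : (⟨g, hg⟩ : ↥(Cfsg.Agent.Lib.Helper14_AutOmega.GO
        (⇑(Cfsg.Agent.Lib.Helper44_StdForms.qfPlus m F)))) ∉
        Cfsg.Agent.Lib.Helper14_InndiagQuot.Gz h2 (Cfsg.Agent.Lib.Helper44_StdForms.qfPlus m F)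
          hQ hne hcard := by
      rw [MonoidHom.mem_ker, Cfsg.Agent.Lib.Helper14_GOChars.sgnHom_eq_one_iff,
        ← Cfsg.Agent.Lib.Helper14_InndiagPlus.preserves_plus_iff m h2 (by omega)]
      exact hnp
    have hγγ : γ * γ = 1 := by
      rw [← sq, ← hγ2, pow_orderOf_eq_one]
    rw [hγeq] at hγγ ⊢
    by_cases hc : Odd m ∧ Fintype.card F % 4 = 3
    · refine ⟨?_, fun h => absurd hc h⟩
      have hnotin : Cfsg.Agent.Lib.Helper44_Spinor.negOne (Cfsg.Agent.Lib.Helper44_StdForms.qfPlus m F) ∉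
          Cfsg.Omega F (⇑(Cfsg.Agent.Lib.Helper44_StdForms.qfPlus m F)) := by
        rw [hneg]
        rintro (h | h)
        · exact (Nat.not_even_iff_odd.mpr hc.1) h
        · exact h hc.2
      exact Cfsg.Agent.Lib.Helper14_GraphSplit.count_of_two h2 _ hQ hne hcard _
        (Cfsg.Agent.Lib.Helper14_InndiagQuot.exists_hom_two h2
          (Cfsg.Agent.Lib.Helper44_StdForms.qfPlus m F) hQ hn hne hcard hnotin _ hchi)
    · have hin : Cfsg.Agent.Lib.Helper44_Spinor.negOne (Cfsg.Agent.Lib.Helper44_StdForms.qfPlus m F) ∈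
          Cfsg.Omega F (⇑(Cfsg.Agent.Lib.Helper44_StdForms.qfPlus m F)) := by
        rw [hneg]
        by_contra hcon
        push Not at hcon
        exact hc ⟨Nat.not_even_iff_odd.mp hcon.1, hcon.2⟩
      have hD := Cfsg.Agent.Lib.Helper14_GODihedral.exists_hom_pgo_inn_dihedral h2
        (Cfsg.Agent.Lib.Helper44_StdForms.qfPlus m F) hQ hn hcard hin
        ⟨Cfsg.Agent.Lib.Helper14_GODelta.dPlusGL m (Units.mk0 ε hε0), hmem⟩
        (by rw [hmu, Units.val_mk0]; exact hε)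
        (Cfsg.Agent.Lib.Helper14_GODelta.dPlusGL_sq_mem m _)
      have h2' : Cfsg.splitClassCount ((Cfsg.Agent.Lib.Helper14_InndiagQuot.Gz h2
          (Cfsg.Agent.Lib.Helper44_StdForms.qfPlus m F) hQ hne hcard).map
          (Cfsg.Agent.Lib.Helper14_AutOmega.Phi (⇑(Cfsg.Agent.Lib.Helper44_StdForms.qfPlus m F))))
          (Cfsg.Inn (Cfsg.POmega F (⇑(Cfsg.Agent.Lib.Helper44_StdForms.qfPlus m F))))
          (Cfsg.Agent.Lib.Helper14_AutOmega.Phi
            (⇑(Cfsg.Agent.Lib.Helper44_StdForms.qfPlus m F)) ⟨g, hg⟩) = 2 := by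
        rcases Nat.even_or_odd m with hev | hod
        · exact Cfsg.Agent.Lib.Helper14_GraphSplit.count_eq_two h2 _ hQ hn hne hcard
            (A := Multiplicative (ZMod 2 × ZMod 2)) (by simp [Nat.card_eq_fintype_card])
            (by omega) hin _ hg₀ hγγ
            (Cfsg.Agent.Lib.Helper14_InndiagQuot.exists_hom_klein h2
              (Cfsg.Agent.Lib.Helper44_StdForms.qfPlus m F) hQ hn hne hcard hin _ hchi hsq
              (by rw [hGz]; exact hev)) hD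
        · exact Cfsg.Agent.Lib.Helper14_GraphSplit.count_eq_two h2 _ hQ hn hne hcard
            (A := Multiplicative (ZMod 4)) (by simp [Nat.card_eq_fintype_card])
            (by omega) hin _ hg₀ hγγ
            (Cfsg.Agent.Lib.Helper14_InndiagQuot.exists_hom_cyclic_four h2
              (Cfsg.Agent.Lib.Helper44_StdForms.qfPlus m F) hQ hn hne hcard hin _ hchi hsq
              (by rw [hGz]; exact Nat.not_even_iff_odd.mpr hod)) hD
      exact ⟨Or.inr h2', fun _ => h2'⟩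
  rw [← hI] at key
  rw [Cfsg.Agent.Lib.Helper44_StdForms.coe_qfPlus] at key
  exact key γ hγ hγ2

end Cfsg.Agent.S2718
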