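import Cfsg.Statements.S2729
import Cfsg.Agent.Lib.Helper14_InndiagMinus

set_option autoImplicit false
open Cfsg

namespace Cfsg.Agent.S2729

/-- Let T = PΩ⁻_{2m+2}(F) with m ≥ 3 and |F| = q odd (form with anisotropic binary part). The inner-diagonal group G = Inndiag(T) (image of the class-preserving similarities) taken modulo the inner automorphism group T is cyclic of order 4 when m is even and q ≡ 3 (mod 4), and of order 2 otherwise. -/
theorem result {F : Type*} [Field F] [Fintype F] (hodd : Odd (Fintype.card F)) {m : ℕ} (hm : 3 ≤ m) (a b : F) (hab : (∀ z₁ z₂ : F, z₁ ^ 2 + a * z₁ * z₂ + b * z₂ ^ 2 = 0 → z₁ = 0 ∧ z₂ = 0)) :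
    ((Even m ∧ Fintype.card F % 4 = 3) → (∃ φ : ↥(Cfsg.inndiagPOmegaMinus m F a b) →* Multiplicative (ZMod 4), Function.Surjective φ ∧ φ.ker = (Cfsg.Inn (Cfsg.POmega F (Cfsg.quadFormMinus m F a b))).subgroupOf (Cfsg.inndiagPOmegaMinus m F a b))) ∧ (¬ (Even m ∧ Fintype.card F % 4 = 3) → (∃ φ : ↥(Cfsg.inndiagPOmegaMinus m F a b) →* Multiplicative (ZMod 2), Function.Surjective φ ∧ φ.ker = (Cfsg.Inn (Cfsg.POmega F (Cfsg.quadFormMinus m F a b))).subgroupOf (Cfsg.inndiagPOmegaMinus m F a b))) := by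
  have h2 : (2 : F) ≠ 0 := Cfsg.Agent.Lib.Helper44_FinSq.two_ne_zero_of_odd_card hodd
  have hQ := Cfsg.Agent.Lib.Helper14_POmegaSimple.nondegenerate_qfMinus (F := F) m a b hab
  have hcard : Fintype.card ((Fin m ⊕ Fin m) ⊕ Fin 2) = 2 * (m + 1) :=
    Cfsg.Agent.Lib.Helper14_InndiagMinus.card_minus m
  have hn : 5 ≤ Fintype.card ((Fin m ⊕ Fin m) ⊕ Fin 2) := by rw [hcard]; omega
  have hneg := Cfsg.Agent.Lib.Helper14_NegOneStd.negOne_mem_minus_iff (F := F) hodd m a b hab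
  have hne : ∃ v, Cfsg.Agent.Lib.Helper44_StdForms.qfMinus m F a b v ≠ 0 := by
    obtain ⟨v, hv⟩ := Cfsg.Agent.Lib.Helper14_OrthChars.exists_norm_eq h2 _ hQ
      (by rw [hcard]; omega) 1
    exact ⟨v, by rw [hv]; exact one_ne_zero⟩
  have hI := Cfsg.Agent.Lib.Helper14_InndiagMain.autSubgroupOf_preserves_eq h2
    (Cfsg.Agent.Lib.Helper44_StdForms.qfMinus m F a b) hQ hne hcard
    (PreservesSingularClassesMinus m a b)
    (Cfsg.Agent.Lib.Helper14_InndiagMinus.preserves_minus_iff m a b hodd hab)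
  obtain ⟨ε, hε⟩ := FiniteField.exists_nonsquare
    (Cfsg.Agent.Lib.Helper44_FinSq.ringChar_ne_two_of_two_ne_zero h2)
  have hε0 : ε ≠ 0 := by
    rintro rfl; exact hε ⟨0, by simp⟩
  obtain ⟨x, y, hxy⟩ := Cfsg.Agent.Lib.Helper14_GODelta.exists_bin_eq h2 a b hab ε
  have hν : x ^ 2 + a * x * y + b * y ^ 2 ≠ 0 := by rw [hxy]; exact hε0
  have hmem : Cfsg.Agent.Lib.Helper14_GODelta.dMinusGL m a b x y hν ∈
      Cfsg.Agent.Lib.Helper14_AutOmega.GO (⇑(Cfsg.Agent.Lib.Helper44_StdForms.qfMinus m F a b)) := by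
    rw [Cfsg.Agent.Lib.Helper44_StdForms.coe_qfMinus]
    exact Cfsg.Agent.Lib.Helper14_GODelta.dMinusGL_mem m a b x y hν
  have hmu : Cfsg.Agent.Lib.Helper14_GOChars.mu (⇑(Cfsg.Agent.Lib.Helper44_StdForms.qfMinus m F a b))
      ⟨Cfsg.Agent.Lib.Helper14_GODelta.dMinusGL m a b x y hν, hmem⟩ = Units.mk0 _ hν := by
    apply Cfsg.Agent.Lib.Helper14_GOChars.mu_eq
    · exact hne
    · intro v
      rw [Cfsg.Agent.Lib.Helper14_GODelta.dMinusGL_coe, Cfsg.Agent.Lib.Helper44_StdForms.coe_qfMinus,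
        Cfsg.Agent.Lib.Helper14_GODelta.quadFormMinus_dMinus, Units.val_mk0]
  have hchi : Cfsg.Agent.Lib.Helper14_GOChars.chiHom (Cfsg.Agent.Lib.Helper44_StdForms.qfMinus m F a b) hne
      ⟨Cfsg.Agent.Lib.Helper14_GODelta.dMinusGL m a b x y hν, hmem⟩ = -1 := by
    rw [Cfsg.Agent.Lib.Helper14_GOChars.chiHom_eq_neg_one_iff, hmu, Units.val_mk0, hxy]
    exact hε
  have hsq : (⟨Cfsg.Agent.Lib.Helper14_GODelta.dMinusGL m a b x y hν, hmem⟩ :
      ↥(Cfsg.Agent.Lib.Helper14_AutOmega.GO (⇑(Cfsg.Agent.Lib.Helper44_StdForms.qfMinus m F a b)))) *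
      ⟨Cfsg.Agent.Lib.Helper14_GODelta.dMinusGL m a b x y hν, hmem⟩ ∈
      Cfsg.Agent.Lib.Helper14_GOChars.Z' (Cfsg.Agent.Lib.Helper44_StdForms.qfMinus m F a b) :=
    Subgroup.mem_subgroupOf.mpr (Cfsg.Agent.Lib.Helper14_GODelta.dMinusGL_sq_mem m a b x y hν)
  have hGz : Even m → (⟨Cfsg.Agent.Lib.Helper14_GODelta.dMinusGL m a b x y hν, hmem⟩ :
      ↥(Cfsg.Agent.Lib.Helper14_AutOmega.GO (⇑(Cfsg.Agent.Lib.Helper44_StdForms.qfMinus m F a b)))) ∉
      Cfsg.Agent.Lib.Helper14_InndiagQuot.Gz h2 (Cfsg.Agent.Lib.Helper44_StdForms.qfMinus m F a b)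
        hQ hne hcard := by
    intro hev
    rw [MonoidHom.mem_ker, Cfsg.Agent.Lib.Helper14_GOChars.sgnHom_eq_one_iff, hmu, Units.val_mk0]
    change ¬ ((Cfsg.Agent.Lib.Helper14_GODelta.dMinusMat m a b x y).det = _)
    rw [Cfsg.Agent.Lib.Helper14_InndiagMinus.det_dMinusMat, hev.add_one.neg_one_pow]
    intro h
    have h3 : (2 : F) * (x ^ 2 + a * x * y + b * y ^ 2) ^ (m + 1) = 0 := by linear_combination -h
    rcases mul_eq_zero.mp h3 with h4 | h4
    · exact h2 h4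
    · exact hν (pow_eq_zero_iff (by omega) |>.mp h4)
  refine ⟨?_, ?_⟩
  · rintro ⟨hm1, hq⟩
    have hin : Cfsg.Agent.Lib.Helper44_Spinor.negOne (Cfsg.Agent.Lib.Helper44_StdForms.qfMinus m F a b) ∈
        Cfsg.Omega F (⇑(Cfsg.Agent.Lib.Helper44_StdForms.qfMinus m F a b)) := by
      rw [hneg]
      exact ⟨hm1, hq⟩
    have key := Cfsg.Agent.Lib.Helper14_InndiagQuot.exists_hom_cyclic_four h2
      (Cfsg.Agent.Lib.Helper44_StdForms.qfMinus m F a b) hQ hn hne hcard hin _ hchi hsq (hGz hm1)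
    rw [← hI] at key
    rw [Cfsg.Agent.Lib.Helper44_StdForms.coe_qfMinus] at key
    exact key
  · intro h
    have hnotin : Cfsg.Agent.Lib.Helper44_Spinor.negOne (Cfsg.Agent.Lib.Helper44_StdForms.qfMinus m F a b) ∉
        Cfsg.Omega F (⇑(Cfsg.Agent.Lib.Helper44_StdForms.qfMinus m F a b)) := by
      rw [hneg]
      exact h
    have key := Cfsg.Agent.Lib.Helper14_InndiagQuot.exists_hom_two h2
      (Cfsg.Agent.Lib.Helper44_StdForms.qfMinus m F a b) hQ hn hne hcard hnotin _ hchi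
    rw [← hI] at key
    rw [Cfsg.Agent.Lib.Helper44_StdForms.coe_qfMinus] at key
    exact key

end Cfsg.Agent.S2729
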