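import Cfsg.Statements.S2733
import Cfsg.Agent.Lib.Helper14_BalGraph
import Cfsg.Agent.Lib.Helper44_OrthMinusBalance
-- import your own Cfsg.Agent.* helpers here

set_option autoImplicit false
open Cfsg

namespace Cfsg.Agent.S2733

open Cfsg.Agent.Lib.Helper44_Orth Cfsg.Agent.Lib.Helper14_AutOmega
  Cfsg.Agent.Lib.Helper44_OrthMinusK Cfsg.Agent.Lib.Helper44_StdForms
  Cfsg.Agent.Lib.Helper44_OrthMinusCoset in
/-- an automorphism of odd order induced by a similarity of the minus-type form is
inner-diagonal (the class character has order two) -/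
theorem inndiag_of_odd_aux {F : Type*} [Field F] [Fintype F] {m : ℕ} (hm : 2 ≤ m) (a b : F)
    (hab : ∀ z₁ z₂ : F, z₁ ^ 2 + a * z₁ * z₂ + b * z₂ ^ 2 = 0 → z₁ = 0 ∧ z₂ = 0)
    (Qf : (J m → F) → F) (hQf : Qf = ⇑(qfMinus m F a b)) (x : MulAut (POmega F Qf))
    (hx : x ∈ (Phi Qf).range) {p : ℕ} (hp : Odd p) (hord : x ^ p = 1) :
    ∃ g : GL (J m) F, g ∈ Geo.quadSimilarityGroup (F := F) Qf ∧
      PreservesSingularClassesMinus m a b (g : Matrix (J m) (J m) F) ∧
      IsInducedBySemilinearPOmega Qf g (RingEquiv.refl F) x := by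
  subst hQf
  obtain ⟨K, iK, iA, hfr⟩ := exists_quad_ext a b hab
  obtain ⟨ρ, hρ⟩ := exists_root hfr a b hab
  obtain ⟨g, rfl⟩ := hx
  obtain ⟨k, hk⟩ := hp
  have hchi : chiKm m a b hab ρ hρ (g ^ (p + 1)) = 1 := by
    rw [map_pow, hk, show 2 * k + 1 + 1 = 2 * (k + 1) by ring, pow_mul]
    have : ∀ z : Multiplicative (ZMod 2), z ^ 2 = 1 := by decide
    rw [this, one_pow]
  have hx : Phi (⇑(qfMinus m F a b)) g = Phi (⇑(qfMinus m F a b)) (g ^ (p + 1)) := by
    rw [map_pow, pow_succ, hord, one_mul]
  rw [hx]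
  exact ⟨(g ^ (p + 1)).1, (g ^ (p + 1)).2,
    (chiKm_iff_preserves m a b hab hfr ρ hρ hm _).mp hchi,
    (Cfsg.Agent.Lib.Helper14_AutOmega.isInduced_iff (⇑(qfMinus m F a b)) _ _).mpr rfl⟩

/-- A criterion for the failure of local balance in almost simple groups whose socle is a minus-type orthogonal group PΩ⁻_{2m+2}(F) (m ≥ 3; the form Σ xᵢ yᵢ + z₁² + a z₁ z₂ + b z₂² with anisotropic binary part). Let F be a finite field of characteristic r and K the (simple) group in question; let A be a group of automorphisms of K containing all inner automorphisms, and x ∈ A an automorphism of prime order p ≠ r that is not inner-diagonal (not induced by a class-preserving similarity, classes read over a quadratic extension). Then the largest normal subgroup of C_A(x) of order prime to p is nontrivial if and only if x is a field automorphism of K (conjugate under Aut(K) to a non-identity standard field automorphism) and p does not divide the number of fixed points of x on K. -/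
theorem result {F : Type*} [Field F] [Fintype F] {r : ℕ} [Fact r.Prime] [CharP F r] {m : ℕ} (hm : 3 ≤ m) (a b : F) (hab : (∀ z₁ z₂ : F, z₁ ^ 2 + a * z₁ * z₂ + b * z₂ ^ 2 = 0 → z₁ = 0 ∧ z₂ = 0)) (hK : IsSimpleGroup (Cfsg.POmega F (Cfsg.quadFormMinus m F a b))) (A : Subgroup (MulAut (Cfsg.POmega F (Cfsg.quadFormMinus m F a b)))) (hinn : ∀ k : Cfsg.POmega F (Cfsg.quadFormMinus m F a b), MulAut.conj k ∈ A) {p : ℕ} [Fact p.Prime] (hpr : p ≠ r) (x : MulAut (Cfsg.POmega F (Cfsg.quadFormMinus m F a b))) (hxA : x ∈ A) (hord : orderOf x = p) (hnot : ¬ Cfsg.IsInnerDiagonalAutPOmegaMinus m a b x) :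
    Cfsg.pPrimeCore p ↥(A ⊓ Subgroup.centralizer {x}) ≠ ⊥ ↔ (Cfsg.IsFieldAutClassPOmegaMinus m x ∧ Nat.Coprime p (Nat.card ↥(MonoidHom.eqLocus x.toMonoidHom (MonoidHom.id (Cfsg.POmega F (Cfsg.quadFormMinus m F a b)))))) := by
  by_cases hp2 : p = 2
  · -- the involution case: the core is trivial, and field automorphisms are not involutions
    subst hp2
    have h2 : (2 : F) ≠ 0 := by
      intro h
      have h1 : ((2 : ℕ) : F) = 0 := by exact_mod_cast h
      rw [CharP.cast_eq_zero_iff F r] at h1
      exact hpr ((Nat.prime_dvd_prime_iff_eq (Fact.out : r.Prime) Nat.prime_two).mp h1).symm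
    have hodd := Cfsg.Agent.Lib.Helper44_FinSq.odd_card_of_two_ne_zero h2
    have hcore := Cfsg.Agent.Lib.Helper14_BalGraph.balance_minus_graph hodd hm a b hab A hinn x
      hord hnot
    constructor
    · intro h
      exact absurd hcore h
    · rintro ⟨hf, -⟩
      exact absurd hord
        (Cfsg.Agent.Lib.Helper44_OrthMinusOddOrder.orderOf_ne_two_of_fieldClass (by omega) x hf)
  · -- odd `p`: `x` is not induced by a similarity, so the field half applies
    have hx : x ∉ pgoAut F (quadFormMinus m F a b) := by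
      intro hx
      apply hnot
      rw [Cfsg.Agent.Lib.Helper14_AutOmega.pgoAut_eq] at hx
      have hp : Odd p := (Fact.out : p.Prime).odd_of_ne_two hp2
      exact inndiag_of_odd_aux (by omega) a b hab (quadFormMinus m F a b)
        (Cfsg.Agent.Lib.Helper44_StdForms.coe_qfMinus m F a b).symm x hx hp
        (by rw [← hord]; exact pow_orderOf_eq_one x)
    exact Cfsg.Agent.Lib.Helper44_OrthMinusBalance.balance_minus_field hm a b hab A hinn hp2 x hxA
      hord hx

end Cfsg.Agent.S2733
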