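import Cfsg.Statements.S2734
import Cfsg.Agent.Lib.Helper46_G2D4Fix
import Cfsg.Agent.Lib.Helper46_G2D4Rho

set_option autoImplicit false
open Cfsg

namespace Cfsg.Agent.S2734

open Cfsg.Lie Cfsg.Agent.Lib.Helper36_ChevGen Cfsg.Agent.Lib.Helper36_ChevWeyl Cfsg.Agent.Lib.Helper18_ChevGL
  Cfsg.Agent.Lib.Helper36_TwistD4 Cfsg.Agent.Lib.Helper36_TwistTabD4 Cfsg.Agent.Lib.Helper36_ChevDataD4AutA
  Cfsg.Agent.Lib.Helper46_G2D4Twist Cfsg.Agent.Lib.Helper46_G2D4Fix

/-- The three-cycle of the outer nodes. -/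
def cyc : Equiv.Perm (Fin chevD4.rank) := Equiv.swap (0 : Fin 4) 2 * Equiv.swap (2 : Fin 4) 3

instance : DecidablePred chevD4.IsDiagramSymmetry := fun π => by
  unfold ChevalleyDatum.IsDiagramSymmetry
  infer_instance

theorem symm_cases : ∀ π : Equiv.Perm (Fin chevD4.rank), chevD4.IsDiagramSymmetry π →
    π * π = 1 ∨ π = cyc ∨ π⁻¹ = cyc := by decide +kernel

theorem cyc_val : ∀ i : Fin chevD4.rank, (cyc i).val = sigma.getD i.val 0 := by decide +kernel

theorem not_long : ∀ j : Fin chevD4.rank, chevD4.isLong (chevD4.simple j) = false := by decide +kernel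

section

variable {F : Type*} [Field F]

/-- `φ` maps the fundamental root elements as the permutation `π` of the nodes does. -/
def ActsBy (φ : MulAut ↥(chevD4.group F)) (π : Equiv.Perm (Fin chevD4.rank)) : Prop :=
  ∀ (g : ↥(chevD4.group F)) (i : Fin chevD4.rank) (t : F),
    (((g : GL chevD4.Idx F) : Matrix chevD4.Idx chevD4.Idx F) = chevD4.x F (chevD4.simple i) t →
      ((φ g : GL chevD4.Idx F) : Matrix chevD4.Idx chevD4.Idx F) = chevD4.x F (chevD4.simple (π i)) t) ∧
    (((g : GL chevD4.Idx F) : Matrix chevD4.Idx chevD4.Idx F) = chevD4.x F (chevD4.neg (chevD4.simple i)) t →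
      ((φ g : GL chevD4.Idx F) : Matrix chevD4.Idx chevD4.Idx F) = chevD4.x F (chevD4.neg (chevD4.simple (π i))) t)

theorem actsBy_mul {φ φ' : MulAut ↥(chevD4.group F)} {π π' : Equiv.Perm (Fin chevD4.rank)} (h : ActsBy φ π)
    (h' : ActsBy φ' π') : ActsBy (φ * φ') (π * π') := by
  intro g i t
  constructor
  · intro hg
    exact (h (φ' g) (π' i) t).1 ((h' g i t).1 hg)
  · intro hg
    exact (h (φ' g) (π' i) t).2 ((h' g i t).2 hg)

/-- A root element, as an element of the group. -/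
def xG (r : ℕ) (t : F) : ↥(chevD4.group F) := ⟨xGL dc r t, xGL_mem_group dc r t⟩

theorem actsBy_inv {φ : MulAut ↥(chevD4.group F)} {π : Equiv.Perm (Fin chevD4.rank)} (h : ActsBy φ π) :
    ActsBy φ⁻¹ π⁻¹ := by
  intro g i t
  constructor
  · intro hg
    have h1 := (h (xG (chevD4.simple (π⁻¹ i)) t) (π⁻¹ i) t).1 rfl
    rw [Equiv.Perm.inv_def, Equiv.apply_symm_apply, ← hg] at h1
    have h2 : φ (xG (chevD4.simple (π⁻¹ i)) t) = g := Subtype.ext (Units.ext h1)
    rw [← h2, MulAut.inv_apply_self]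
    rfl
  · intro hg
    have h1 := (h (xG (chevD4.neg (chevD4.simple (π⁻¹ i))) t) (π⁻¹ i) t).2 rfl
    rw [Equiv.Perm.inv_def, Equiv.apply_symm_apply, ← hg] at h1
    have h2 : φ (xG (chevD4.neg (chevD4.simple (π⁻¹ i))) t) = g := Subtype.ext (Units.ext h1)
    rw [← h2, MulAut.inv_apply_self]
    rfl

/-- Two homomorphisms out of the group which agree on the fundamental root elements are equal. -/
theorem eq_of_fund (φ₁ φ₂ : ↥(chevD4.group F) →* GL chevD4.Idx F)
    (h : ∀ g : ↥(chevD4.group F), (g : GL chevD4.Idx F) ∈ fundGens chevD4 F → φ₁ g = φ₂ g) : φ₁ = φ₂ := by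
  have hle : Subgroup.closure (fundGens chevD4 F) ≤ chevD4.group F :=
    le_of_eq (Cfsg.Agent.Lib.Helper36_ChevDataD4.group_eq F).symm
  have key : ∀ (g : GL chevD4.Idx F) (hg : g ∈ Subgroup.closure (fundGens chevD4 F)),
      φ₁ ⟨g, hle hg⟩ = φ₂ ⟨g, hle hg⟩ := by
    intro g hg
    induction hg using Subgroup.closure_induction with
    | mem x hx => exact h ⟨x, _⟩ hx
    | one => exact (map_one φ₁).trans (map_one φ₂).symm
    | mul x y hx hy ihx ihy =>
      have e : (⟨x * y, hle (mul_mem hx hy)⟩ : ↥(chevD4.group F)) = ⟨x, hle hx⟩ * ⟨y, hle hy⟩ := rfl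
      rw [e, map_mul, map_mul, ihx, ihy]
    | inv x hx ih =>
      have e : (⟨x⁻¹, hle (inv_mem hx)⟩ : ↥(chevD4.group F)) = (⟨x, hle hx⟩ : ↥(chevD4.group F))⁻¹ := rfl
      rw [e, map_inv, map_inv, ih]
  apply MonoidHom.ext
  intro g
  exact key g.1 (le_of_eq (Cfsg.Agent.Lib.Helper36_ChevDataD4.group_eq F) g.2)

theorem eq_one_of_actsBy {φ : MulAut ↥(chevD4.group F)} (h : ActsBy φ 1) : φ = 1 := by
  have h1 : (chevD4.group F).subtype.comp φ.toMonoidHom = (chevD4.group F).subtype := by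
    apply eq_of_fund
    rintro g ⟨i, hi, t, hg | hg⟩
    · apply Units.ext
      have := (h g ⟨i, hi⟩ t).1 hg
      rw [Equiv.Perm.one_apply] at this
      exact this.trans hg.symm
    · apply Units.ext
      have := (h g ⟨i, hi⟩ t).2 hg
      rw [Equiv.Perm.one_apply] at this
      exact this.trans hg.symm
  apply MulEquiv.ext
  intro g
  apply Subtype.ext
  exact congrArg (fun ψ : ↥(chevD4.group F) →* GL chevD4.Idx F => ψ g) h1

theorem eq_sg_of_actsBy {ψ : MulAut ↥(chevD4.group F)} (h : ActsBy ψ cyc) (g : ↥(chevD4.group F)) :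
    ((ψ g : ↥(chevD4.group F)) : GL chevD4.Idx F) = sg F (g : GL chevD4.Idx F) := by
  have h1 : (chevD4.group F).subtype.comp ψ.toMonoidHom = (sg F).comp (chevD4.group F).subtype := by
    apply eq_of_fund
    rintro g ⟨i, hi, t, hg | hg⟩
    · obtain ⟨e1, e2, -, -⟩ := fundOK i hi
      have hlt := (Cfsg.Agent.Lib.Helper36_ChevDataD4.simpleOK i hi).1
      apply Units.ext
      have h2 := (h g ⟨i, hi⟩ t).1 hg
      have h3 : (g : GL chevD4.Idx F) = xGL dc (chevD4.simple i) t := eq_xGL dc hg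
      show (((ψ g : ↥(chevD4.group F)) : GL chevD4.Idx F) : Matrix chevD4.Idx chevD4.Idx F) =
        ((sg F (g : GL chevD4.Idx F) : GL chevD4.Idx F) : Matrix chevD4.Idx chevD4.Idx F)
      rw [h2, h3, (twist (fid F)).sx _ hlt t, xGL_coe, cyc_val ⟨i, hi⟩]
      show _ = chevD4.x F (autData.pi.getD (chevD4.simple i) 0) (((autData.eps.getD (chevD4.simple i) 0 : ℤ) : F) * t)
      rw [e1, e2]
      simp
    · obtain ⟨-, -, e1, e2⟩ := fundOK i hi
      have hlt := (Cfsg.Agent.Lib.Helper36_ChevDataD4.simpleOK i hi).2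
      apply Units.ext
      have h2 := (h g ⟨i, hi⟩ t).2 hg
      have h3 : (g : GL chevD4.Idx F) = xGL dc (chevD4.neg (chevD4.simple i)) t := eq_xGL dc hg
      show (((ψ g : ↥(chevD4.group F)) : GL chevD4.Idx F) : Matrix chevD4.Idx chevD4.Idx F) =
        ((sg F (g : GL chevD4.Idx F) : GL chevD4.Idx F) : Matrix chevD4.Idx chevD4.Idx F)
      rw [h2, h3, (twist (fid F)).sx _ hlt t, xGL_coe, cyc_val ⟨i, hi⟩]
      show _ = chevD4.x F (autData.pi.getD (chevD4.neg (chevD4.simple i)) 0)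
        (((autData.eps.getD (chevD4.neg (chevD4.simple i)) 0 : ℤ) : F) * t)
      rw [e1, e2]
      simp
  exact congrArg (fun χ : ↥(chevD4.group F) →* GL chevD4.Idx F => χ g) h1

theorem actsBy_of_graph (τ : MulAut ↥(chevD4.group F)) (π : Equiv.Perm (Fin chevD4.rank))
    (h : ∀ (g : ↥(chevD4.group F)) (i : Fin chevD4.rank) (t : F),
      (((g : GL chevD4.Idx F) : Matrix chevD4.Idx chevD4.Idx F) = chevD4.x F (chevD4.simple i) t →
        ((τ g : GL chevD4.Idx F) : Matrix chevD4.Idx chevD4.Idx F) =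
          chevD4.x F (chevD4.simple (π i)) (t ^ chevD4.graphExp (ringChar F) i (π i))) ∧
      (((g : GL chevD4.Idx F) : Matrix chevD4.Idx chevD4.Idx F) = chevD4.x F (chevD4.neg (chevD4.simple i)) t →
        ((τ g : GL chevD4.Idx F) : Matrix chevD4.Idx chevD4.Idx F) =
          chevD4.x F (chevD4.neg (chevD4.simple (π i))) (t ^ chevD4.graphExp (ringChar F) i (π i)))) :
    ActsBy τ π := by
  intro g i t
  have he : chevD4.graphExp (ringChar F) i (π i) = 1 := by
    unfold ChevalleyDatum.graphExp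
    rw [not_long (π i)]
    rfl
  have := h g i t
  rw [he, pow_one] at this
  exact this

end

/-- The fixed points, given an automorphism with the same fixed points which acts by the three-cycle. -/
theorem main {F : Type*} [Field F] [Fintype F] (τ ψ : MulAut ↥(chevD4.group F)) (hψ : ActsBy ψ cyc)
    (hfix : ∀ g, τ g = g ↔ ψ g = g) :
    Nonempty (↥(MonoidHom.eqLocus τ.toMonoidHom (MonoidHom.id ↥(chevD4.group F))) ≃* ↥(chevG2.group F)) := by
  have hmap : (MonoidHom.eqLocus τ.toMonoidHom (MonoidHom.id ↥(chevD4.group F))).map (chevD4.group F).subtype =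
      G2in F := by
    rw [← Gfix_eq]
    ext x
    constructor
    · rintro ⟨g, hg, rfl⟩
      have hg' : τ g = g := hg
      refine ⟨g.2, ?_⟩
      show sg F (g : GL chevD4.Idx F) = g
      rw [← eq_sg_of_actsBy hψ g, (hfix g).mp hg']
    · rintro ⟨hx, hx'⟩
      refine ⟨⟨x, hx⟩, ?_, rfl⟩
      show τ ⟨x, hx⟩ = ⟨x, hx⟩
      rw [hfix]
      apply Subtype.ext
      rw [eq_sg_of_actsBy hψ]
      exact hx'
  have e1 := Subgroup.equivMapOfInjective (MonoidHom.eqLocus τ.toMonoidHom (MonoidHom.id ↥(chevD4.group F)))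
    (chevD4.group F).subtype (chevD4.group F).subtype_injective
  exact ⟨(e1.trans (MulEquiv.subgroupCongr hmap)).trans Cfsg.Agent.Lib.Helper46_G2D4Rho.rhoEquiv⟩

/-- In the Chevalley group of type D₄ over a finite field F (the matrix group generated by the root elements), a graph automorphism attached to a symmetry π of the Dynkin diagram (sending each fundamental root element x_p(t) to x_{π(p)}(t) and each x_{−p}(t) to x_{−π(p)}(t)) that has order 3 — a standard triality graph automorphism, π being a 3-cycle of the three outer nodes — has fixed-point subgroup isomorphic to the Chevalley group of type G₂ over F. -/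
theorem result {F : Type*} [Field F] [Fintype F] (τ : MulAut ↥(Cfsg.Lie.chevD4.group F)) (hτ : Cfsg.Lie.chevD4.IsGraphAut τ) (hτ3 : orderOf τ = 3) :
    Nonempty (↥(MonoidHom.eqLocus τ.toMonoidHom (MonoidHom.id ↥(Cfsg.Lie.chevD4.group F))) ≃* ↥(Cfsg.Lie.chevG2.group F)) := by
  obtain ⟨π, hπ, h⟩ := hτ
  have hact := actsBy_of_graph τ π h
  rcases symm_cases π hπ with h2 | rfl | h3
  · exfalso
    have h1 : τ * τ = 1 := eq_one_of_actsBy (h2 ▸ actsBy_mul hact hact)
    have h3 : orderOf τ ∣ 2 := orderOf_dvd_of_pow_eq_one (by rw [pow_two]; exact h1)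
    rw [hτ3] at h3
    omega
  · exact main τ τ hact (fun g => Iff.rfl)
  · refine main τ τ⁻¹ (h3 ▸ actsBy_inv hact) (fun g => ?_)
    constructor
    · intro hg
      rw [← hg, MulAut.inv_apply_self, hg]
    · intro hg
      rw [← hg, MulAut.apply_inv_self, hg]

end Cfsg.Agent.S2734
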