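import Cfsg.Statements.S2758
import Cfsg.Agent.Lib.Helper4_DihedralIso
import Cfsg.Agent.S5299

set_option autoImplicit false
open Cfsg

namespace Cfsg.Agent.S2758


/-- (B) ⇒ (C): an element of 2-power order acting non-trivially on a `p`-subgroup inverts a
non-trivial element of it (after replacing it by a power). -/
theorem inverts_of_acts {G : Type*} [Group G] [Finite G] {p : ℕ} [Fact p.Prime]
    (x : G) (P : Subgroup G) (hx : ∃ k : ℕ, orderOf x = 2 ^ k) (hP : IsPGroup p ↥P)
    (hN : x ∈ Subgroup.normalizer (P : Set G)) (hC : x ∉ Subgroup.centralizer (P : Set G)) :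
    ∃ t y : G, (∃ k : ℕ, orderOf t = 2 ^ k) ∧ (∃ k : ℕ, orderOf y = p ^ k) ∧ y ≠ 1 ∧
      t * y * t⁻¹ = y⁻¹ := by
  classical
  obtain ⟨k, hk⟩ := hx
  have hex : ∃ j : ℕ, x ^ 2 ^ j ∈ Subgroup.centralizer (P : Set G) :=
    ⟨k, by rw [← hk, pow_orderOf_eq_one]; exact Subgroup.one_mem _⟩
  have hj0 : Nat.find hex ≠ 0 := by
    intro h0
    have := Nat.find_spec hex
    rw [h0] at this
    simp only [pow_zero, pow_one] at this
    exact hC this
  obtain ⟨j, hj⟩ := Nat.exists_eq_succ_of_ne_zero hj0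
  have htC : x ^ 2 ^ j ∉ Subgroup.centralizer (P : Set G) :=
    Nat.find_min hex (by rw [hj]; exact Nat.lt_succ_self j)
  have ht2 : (x ^ 2 ^ j) ^ 2 ∈ Subgroup.centralizer (P : Set G) := by
    have := Nat.find_spec hex
    rw [hj] at this
    rwa [← pow_mul, ← pow_succ]
  set t := x ^ 2 ^ j with ht
  have htN : t ∈ Subgroup.normalizer (P : Set G) := Subgroup.pow_mem _ hN _
  have htord : ∃ i : ℕ, orderOf t = 2 ^ i := by
    have h1 : orderOf t ∣ 2 ^ k := by
      rw [← hk]; exact orderOf_pow_dvd _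
    obtain ⟨i, _, hi⟩ := (Nat.dvd_prime_pow Nat.prime_two).mp h1
    exact ⟨i, hi⟩
  -- a point moved by `t`
  have hq : ∃ q ∈ P, t * q * t⁻¹ ≠ q := by
    by_contra hcon
    push Not at hcon
    apply htC
    rw [Subgroup.mem_centralizer_iff]
    intro q hq
    have := hcon q hq
    calc q * t = (t * q * t⁻¹) * t := by rw [this]
      _ = t * q := by group
  obtain ⟨q, hqP, hq⟩ := hq
  have htq : t * q * t⁻¹ ∈ P := (Subgroup.mem_normalizer_iff.mp htN q).mp hqP
  have ht2q : t * (t * q * t⁻¹) * t⁻¹ = q := by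
    rw [Subgroup.mem_centralizer_iff] at ht2
    have h2 := ht2 q hqP
    rw [pow_two] at h2
    calc t * (t * q * t⁻¹) * t⁻¹ = ((t * t) * q) * (t * t)⁻¹ := by group
      _ = (q * (t * t)) * (t * t)⁻¹ := by rw [h2]
      _ = q := by group
  refine ⟨t, q⁻¹ * (t * q * t⁻¹), htord, ?_, ?_, ?_⟩
  · have hyP : q⁻¹ * (t * q * t⁻¹) ∈ P := P.mul_mem (P.inv_mem hqP) htq
    obtain ⟨i, hi⟩ := hP ⟨_, hyP⟩
    have h1 : orderOf (q⁻¹ * (t * q * t⁻¹)) ∣ p ^ i := by
      apply orderOf_dvd_of_pow_eq_one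
      have := congrArg Subtype.val hi
      simpa using this
    obtain ⟨i', _, hi'⟩ := (Nat.dvd_prime_pow (Fact.out : p.Prime)).mp h1
    exact ⟨i', hi'⟩
  · intro h1
    apply hq
    have : t * q * t⁻¹ = q * (q⁻¹ * (t * q * t⁻¹)) := by group
    rw [this, h1, mul_one]
  · calc t * (q⁻¹ * (t * q * t⁻¹)) * t⁻¹ = (t * q * t⁻¹)⁻¹ * (t * (t * q * t⁻¹) * t⁻¹) := by group
      _ = (t * q * t⁻¹)⁻¹ * q := by rw [ht2q]
      _ = (q⁻¹ * (t * q * t⁻¹))⁻¹ := by group


/-- the rotation subgroup of a dihedral group -/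
def rot (n : ℕ) : Subgroup (DihedralGroup n) where
  carrier := {g | ∃ i, g = DihedralGroup.r i}
  one_mem' := ⟨0, rfl⟩
  mul_mem' := by
    rintro _ _ ⟨i, rfl⟩ ⟨j, rfl⟩
    exact ⟨i + j, rfl⟩
  inv_mem' := by
    rintro _ ⟨i, rfl⟩
    exact ⟨-i, rfl⟩

theorem mem_rot {n : ℕ} (g : DihedralGroup n) : g ∈ rot n ↔ ∃ i, g = DihedralGroup.r i := Iff.rfl

instance rot_normal (n : ℕ) : (rot n).Normal := by
  constructor
  rintro _ ⟨i, rfl⟩ g
  rcases g with j | j
  · exact ⟨i, by simp⟩
  · exact ⟨-i, by simp⟩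

theorem sr_pow_odd {n : ℕ} (i : ZMod n) {m : ℕ} (hm : Odd m) :
    (DihedralGroup.sr i) ^ m = DihedralGroup.sr i := by
  obtain ⟨l, rfl⟩ := hm
  rw [pow_succ, pow_mul, pow_two, DihedralGroup.sr_mul_self, one_pow, one_mul]

/-- (A) ⇒ (B) inside a group mapping onto the dihedral group -/
theorem acts_of_surjective {K : Type*} [Group K] [Finite K] {p : ℕ} [Fact p.Prime] (hp : p ≠ 2)
    (φ : K →* DihedralGroup p) (hφ : Function.Surjective φ) :
    ∃ (x : K) (P : Subgroup K), (∃ k : ℕ, orderOf x = 2 ^ k) ∧ IsPGroup p ↥P ∧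
      x ∈ Subgroup.normalizer (P : Set K) ∧ x ∉ Subgroup.centralizer (P : Set K) := by
  have hpp : p.Prime := Fact.out
  -- an element of `p`-power order mapping to a non-trivial rotation
  obtain ⟨z, hz⟩ := hφ (DihedralGroup.r 1)
  obtain ⟨e, n', hn', hzn⟩ := Nat.exists_eq_pow_mul_and_not_dvd (orderOf_pos z).ne' p hpp.ne_one
  have hy_ord : orderOf (z ^ n') = p ^ e := by
    rw [orderOf_pow_of_dvd, hzn, Nat.mul_div_cancel]
    · rcases Nat.eq_zero_or_pos n' with h | h
      · subst h; simp at hn'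
      · exact h
    · rintro rfl; simp at hn'
    · exact ⟨p ^ e, by rw [hzn, mul_comm]⟩
  have hy_img : φ (z ^ n') = DihedralGroup.r (n' : ZMod p) := by
    rw [map_pow, hz, DihedralGroup.r_one_pow]
  have hn'0 : (n' : ZMod p) ≠ 0 := by
    rw [Ne, ZMod.natCast_eq_zero_iff]; exact hn'
  set M : Subgroup K := (rot p).comap φ with hM
  have hyM : z ^ n' ∈ M := by
    rw [hM, Subgroup.mem_comap, hy_img]; exact ⟨_, rfl⟩
  -- a Sylow subgroup of `M` containing it
  have hpg : IsPGroup p ↥(Subgroup.zpowers (⟨z ^ n', hyM⟩ : M)) := by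
    apply IsPGroup.of_card (n := e)
    rw [Nat.card_zpowers, Subgroup.orderOf_mk, hy_ord]
  obtain ⟨P, hP⟩ := hpg.exists_le_sylow
  have hyP : z ^ n' ∈ (P : Subgroup M).map M.subtype :=
    ⟨⟨z ^ n', hyM⟩, hP (Subgroup.mem_zpowers _), rfl⟩
  -- Frattini
  have hfr := Sylow.normalizer_sup_eq_top P
  have hex : ∃ g ∈ Subgroup.normalizer (((P : Subgroup M).map M.subtype : Subgroup K) : Set K),
      g ∉ M := by
    by_contra hcon
    push Not at hcon
    have h1 : Subgroup.normalizer (((P : Subgroup M).map M.subtype : Subgroup K) : Set K) ≤ M :=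
      hcon
    rw [sup_eq_right.mpr h1] at hfr
    obtain ⟨w, hw⟩ := hφ (DihedralGroup.sr 0)
    have h2 : w ∈ M := by rw [hfr]; trivial
    rw [hM, Subgroup.mem_comap, hw] at h2
    obtain ⟨i, hi⟩ := h2
    cases hi
  obtain ⟨g, hgN, hgM⟩ := hex
  obtain ⟨k, m, hm, hgk⟩ := Nat.exists_eq_two_pow_mul_odd (orderOf_pos g).ne'
  have hx_ord : orderOf (g ^ m) = 2 ^ k := by
    rw [orderOf_pow_of_dvd, hgk, Nat.mul_div_cancel]
    · exact hm.pos
    · exact hm.pos.ne'
    · exact ⟨2 ^ k, by rw [hgk, mul_comm]⟩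
  have hg_img : ∃ i, φ g = DihedralGroup.sr i := by
    rcases h : φ g with i | i
    · exfalso
      apply hgM
      rw [hM, Subgroup.mem_comap, h]; exact ⟨i, rfl⟩
    · exact ⟨i, rfl⟩
  obtain ⟨i, hi⟩ := hg_img
  have hx_img : φ (g ^ m) = DihedralGroup.sr i := by
    rw [map_pow, hi, sr_pow_odd i hm]
  refine ⟨g ^ m, (P : Subgroup M).map M.subtype, ⟨k, hx_ord⟩, P.isPGroup'.map _,
    Subgroup.pow_mem _ hgN _, ?_⟩
  intro hC
  rw [Subgroup.mem_centralizer_iff] at hC
  have h1 := congrArg φ (hC _ hyP)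
  rw [map_mul, map_mul, hy_img, hx_img, DihedralGroup.r_mul_sr, DihedralGroup.sr_mul_r] at h1
  have h2 : i - (n' : ZMod p) = i + (n' : ZMod p) := by
    injection h1
  have h3 : (2 : ZMod p) * (n' : ZMod p) = 0 := by
    have : (n' : ZMod p) + n' = 0 := by
      have h4 : -(n' : ZMod p) = n' := by
        have := congrArg (fun t => t - i) h2
        simpa using this
      nth_rewrite 1 [← h4]
      exact neg_add_cancel _
    rw [two_mul]; exact this
  rcases mul_eq_zero.mp h3 with h4 | h4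
  · have : ((2 : ℕ) : ZMod p) = 0 := by exact_mod_cast h4
    rw [ZMod.natCast_eq_zero_iff] at this
    exact hp ((Nat.prime_dvd_prime_iff_eq hpp Nat.prime_two).mp this)
  · exact hn'0 h4


/-- (A) ⇒ (B) -/
theorem acts_of_involves {G : Type*} [Group G] [Finite G] {p : ℕ} [Fact p.Prime] (hp : p ≠ 2)
    (h : Cfsg.Involves (DihedralGroup p) G) :
    ∃ (x : G) (P : Subgroup G), (∃ k : ℕ, orderOf x = 2 ^ k) ∧ IsPGroup p ↥P ∧
      x ∈ Subgroup.normalizer (P : Set G) ∧ x ∉ Subgroup.centralizer (P : Set G) := by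
  rw [Cfsg.Agent.S5299.involves_iff] at h
  obtain ⟨K, φ, hφ⟩ := h
  obtain ⟨x, P, ⟨k, hk⟩, hP, hN, hC⟩ := acts_of_surjective hp φ hφ
  refine ⟨(x : G), P.map K.subtype, ⟨k, by rw [Subgroup.orderOf_coe, hk]⟩, hP.map _, ?_, ?_⟩
  · rw [Subgroup.mem_normalizer_iff] at hN ⊢
    intro h
    constructor
    · rintro ⟨q, hq, rfl⟩
      exact ⟨x * q * x⁻¹, (hN q).mp hq, by simp⟩
    · rintro ⟨q, hq, hqh⟩
      refine ⟨x⁻¹ * q * x, ?_, ?_⟩
      · apply (hN _).mpr
        have : x * (x⁻¹ * q * x) * x⁻¹ = q := by group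
        rw [this]; exact hq
      · simp only [Subgroup.subtype_apply, Subgroup.coe_mul, Subgroup.coe_inv] at hqh ⊢
        rw [hqh]; group
  · intro hC'
    apply hC
    rw [Subgroup.mem_centralizer_iff] at hC' ⊢
    intro q hq
    apply Subtype.ext
    have := hC' (q : G) ⟨q, hq, rfl⟩
    simpa using this


open Cfsg.Agent.Lib.Helper4_DihedralIso in
/-- (C) ⇒ (A) when the inverted element has order `p` -/
theorem involves_of_inverts_prime {G : Type*} [Group G] [Finite G] {p : ℕ} [Fact p.Prime]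
    (hp : p ≠ 2) (x y : G) (hx : ∃ k : ℕ, orderOf x = 2 ^ k) (hy : orderOf y = p)
    (hxy : x * y * x⁻¹ = y⁻¹) : Cfsg.Involves (DihedralGroup p) G := by
  have hpp : p.Prime := Fact.out
  have hp2 : ¬ p ∣ 2 := fun h => hp ((Nat.prime_dvd_prime_iff_eq hpp Nat.prime_two).mp h)
  obtain ⟨k, hk⟩ := hx
  -- `y ≠ y⁻¹`
  have hyy : y⁻¹ ≠ y := by
    intro h
    have h1 : y ^ 2 = 1 := by
      rw [pow_two]
      nth_rewrite 1 [← h]
      exact inv_mul_cancel y
    have := orderOf_dvd_of_pow_eq_one h1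
    rw [hy] at this
    exact hp2 this
  -- anything commuting with `x` differs from `y`
  have hcomm : ∀ g : G, Commute x g → g ≠ y := by
    rintro g hg rfl
    apply hyy
    rw [← hxy, hg.eq]; group
  set K : Subgroup G := Subgroup.closure {x, y} with hK
  have hxK : x ∈ K := Subgroup.subset_closure (by simp)
  have hyK : y ∈ K := Subgroup.subset_closure (by simp)
  -- `x ^ 2` is central in `K`
  have hcen : ∀ g ∈ K, g * x ^ 2 = x ^ 2 * g := by
    have h1 : K ≤ Subgroup.centralizer {x ^ 2} := by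
      rw [hK, Subgroup.closure_le]
      rintro g (rfl | hg)
      · rw [SetLike.mem_coe, Subgroup.mem_centralizer_iff]
        rintro h rfl
        group
      · rw [Set.mem_singleton_iff] at hg
        subst hg
        rw [SetLike.mem_coe, Subgroup.mem_centralizer_iff]
        rintro h rfl
        have h2 : x * g = g⁻¹ * x := by
          rw [← hxy]; group
        have h3 : x * g⁻¹ = g * x := by
          have : x * g⁻¹ * x⁻¹ = g := by
            have := congrArg (fun t => t⁻¹) hxy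
            simpa [mul_assoc] using this
          calc x * g⁻¹ = (x * g⁻¹ * x⁻¹) * x := by group
            _ = g * x := by rw [this]
        calc x ^ 2 * g = x * (x * g) := by rw [pow_two, mul_assoc]
          _ = x * g⁻¹ * x := by rw [h2, mul_assoc]
          _ = g * x ^ 2 := by rw [h3, pow_two, mul_assoc]
    intro g hg
    have := h1 hg
    rw [Subgroup.mem_centralizer_iff] at this
    exact (this _ rfl).symm
  let X : K := ⟨x, hxK⟩
  let Y : K := ⟨y, hyK⟩
  set N : Subgroup K := Subgroup.zpowers (X ^ 2) with hN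
  have hNcen : ∀ n ∈ N, ∀ g : K, g * n = n * g := by
    intro n hn g
    obtain ⟨i, rfl⟩ := Subgroup.mem_zpowers_iff.mp hn
    have h1 : Commute g (X ^ 2) := by
      apply Subtype.ext
      simpa using hcen g g.2
    exact (h1.zpow_right i).eq
  have hNn : N.Normal := by
    constructor
    intro n hn g
    rw [hNcen n hn g, mul_inv_cancel_right]
    exact hn
  have hX2 : X * X ∈ N := by
    rw [← pow_two]; exact Subgroup.mem_zpowers _
  -- elements of `N` commute with `x`
  have hNx : ∀ n ∈ N, Commute x (n : G) := by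
    intro n hn
    have := hNcen n hn X
    have h1 : ((X * n : K) : G) = ((n * X : K) : G) := congrArg Subtype.val this
    exact h1
  have hY_notin : Y ∉ N := fun h => hcomm _ (hNx Y h) rfl
  have hXY_notin : X * Y ∉ N := by
    intro h
    have h1 := hNx _ h
    apply hcomm y _ rfl
    have h2 : Commute x (x * y) := by simpa using h1
    have h3 : y = x⁻¹ * (x * y) := by group
    rw [h3]
    exact (Commute.refl x).inv_right.mul_right h2
  have hX_notin : X ∉ N := by
    intro h
    obtain ⟨i, hi⟩ := Subgroup.mem_zpowers_iff.mp h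
    have h1 : x ^ (2 * i - 1) = 1 := by
      have h2 := congrArg Subtype.val hi
      simp only [Subgroup.coe_zpow, Subgroup.coe_pow, X] at h2
      rw [zpow_sub, zpow_mul, zpow_one]
      have : (x ^ (2 : ℤ)) = x ^ 2 := by norm_cast
      rw [this, h2]; group
    have h2 := orderOf_dvd_iff_zpow_eq_one.mpr h1
    rw [hk] at h2
    rcases Nat.eq_zero_or_pos k with h0 | h0
    · subst h0
      have hx1 : x = 1 := by
        rw [← orderOf_eq_one_iff, hk, pow_zero]
      apply hyy
      rw [← hxy, hx1]; group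
    · have h3 : (2 : ℤ) ∣ 2 * i - 1 := by
        refine Dvd.dvd.trans ?_ h2
        push_cast
        exact dvd_pow_self 2 h0.ne'
      omega
  -- the quotient
  let u : K ⧸ N := QuotientGroup.mk X
  let v : K ⧸ N := QuotientGroup.mk (X * Y)
  have hu : u * u = 1 := by
    change ((X * X : K) : K ⧸ N) = 1
    rw [QuotientGroup.eq_one_iff]; exact hX2
  have hv : v * v = 1 := by
    change ((X * Y * (X * Y) : K) : K ⧸ N) = 1
    rw [QuotientGroup.eq_one_iff]
    have h1 : X * Y * (X * Y) = X ^ 2 := by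
      apply Subtype.ext
      simp only [Subgroup.coe_mul, Subgroup.coe_pow, X, Y]
      have h2 : x * y = y⁻¹ * x := by rw [← hxy]; group
      calc x * y * (x * y) = x * y * (y⁻¹ * x) := by rw [h2]
        _ = x ^ 2 := by rw [pow_two]; group
    rw [h1]; exact Subgroup.mem_zpowers _
  have hu1 : u ≠ 1 := by
    intro h
    rw [QuotientGroup.eq_one_iff] at h
    exact hX_notin h
  have hv1 : v ≠ 1 := by
    intro h
    rw [QuotientGroup.eq_one_iff] at h
    exact hXY_notin h
  have huv : u * v = QuotientGroup.mk Y := by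
    change ((X * (X * Y) : K) : K ⧸ N) = _
    rw [← mul_assoc, QuotientGroup.mk_mul]
    have : ((X * X : K) : K ⧸ N) = 1 := (QuotientGroup.eq_one_iff _).mpr hX2
    rw [this, one_mul]
  have hord : orderOf (u * v) = p := by
    apply orderOf_eq_prime
    · rw [huv, ← QuotientGroup.mk_pow, QuotientGroup.eq_one_iff]
      have : Y ^ p = 1 := by
        apply Subtype.ext
        simp only [Subgroup.coe_pow, Subgroup.coe_one, Y]
        rw [← hy]; exact pow_orderOf_eq_one y
      rw [this]; exact Subgroup.one_mem _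
    · rw [huv]
      intro h
      rw [QuotientGroup.eq_one_iff] at h
      exact hY_notin h
  have htop : Subgroup.closure ({u, v} : Set (K ⧸ N)) = ⊤ := by
    have h1 : Subgroup.closure ({X, Y} : Set K) = ⊤ := by
      have := Subgroup.closure_closure_coe_preimage (k := ({x, y} : Set G))
      convert this using 2
      ext g
      simp only [Set.mem_insert_iff, Set.mem_singleton_iff, Set.mem_preimage, X, Y]
      constructor
      · rintro (rfl | rfl)
        · left; rfl
        · right; rfl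
      · rintro (h | h)
        · left; exact Subtype.ext h
        · right; exact Subtype.ext h
    have h2 := congrArg (Subgroup.map (QuotientGroup.mk' N)) h1
    rw [MonoidHom.map_closure, Subgroup.map_top_of_surjective _ (QuotientGroup.mk'_surjective N)]
      at h2
    rw [eq_top_iff, ← h2, Subgroup.closure_le]
    rintro q ⟨g, (rfl | hg), rfl⟩
    · exact Subgroup.subset_closure (by left; rfl)
    · rw [Set.mem_singleton_iff] at hg
      subst hg
      have : (QuotientGroup.mk' N) Y = u * v := huv.symm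
      rw [this]
      have hu' : u ∈ Subgroup.closure ({u, v} : Set (K ⧸ N)) :=
        Subgroup.subset_closure (by left; rfl)
      have hv' : v ∈ Subgroup.closure ({u, v} : Set (K ⧸ N)) :=
        Subgroup.subset_closure (by right; rfl)
      exact Subgroup.mul_mem _ hu' hv'
  have e1 := dihedralEquiv hu hv hu1 hv1
  rw [hord] at e1
  have e : (K ⧸ N) ≃* DihedralGroup p :=
    ((e1.trans (MulEquiv.subgroupCongr htop)).trans Subgroup.topEquiv).symm
  rw [Cfsg.Agent.S5299.involves_iff]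
  exact ⟨K, e.toMonoidHom.comp (QuotientGroup.mk' N),
    e.surjective.comp (QuotientGroup.mk'_surjective N)⟩


/-- (C) ⇒ (A) -/
theorem involves_of_inverts {G : Type*} [Group G] [Finite G] {p : ℕ} [Fact p.Prime]
    (hp : p ≠ 2) (x y : G) (hx : ∃ k : ℕ, orderOf x = 2 ^ k) (hy : ∃ k : ℕ, orderOf y = p ^ k)
    (hy1 : y ≠ 1) (hxy : x * y * x⁻¹ = y⁻¹) : Cfsg.Involves (DihedralGroup p) G := by
  have hpp : p.Prime := Fact.out
  obtain ⟨m, hm⟩ := hy
  have hm0 : m ≠ 0 := by
    rintro rfl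
    rw [pow_zero, orderOf_eq_one_iff] at hm
    exact hy1 hm
  obtain ⟨m', rfl⟩ := Nat.exists_eq_succ_of_ne_zero hm0
  apply involves_of_inverts_prime hp x (y ^ p ^ m') hx
  · rw [orderOf_pow_of_dvd (pow_ne_zero _ hpp.ne_zero) ⟨p, by rw [hm, pow_succ]⟩, hm, pow_succ,
      Nat.mul_div_cancel_left _ (pow_pos hpp.pos _)]
  · rw [← conj_pow, hxy, inv_pow]

/-- For an odd prime p and a finite group G the following are equivalent: the dihedral group of order 2p is involved in G; some element of 2-power order normalizes but does not centralize some p-subgroup of G; some element of 2-power order inverts some nonidentity element of p-power order. -/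
theorem result {G : Type*} [Group G] [Finite G] {p : ℕ} [Fact p.Prime] (hp : p ≠ 2) : (Cfsg.Involves (DihedralGroup p) G ↔ ∃ (x : G) (P : Subgroup G), (∃ k : ℕ, orderOf x = 2 ^ k) ∧ IsPGroup p ↥P ∧ x ∈ Subgroup.normalizer (P : Set G) ∧ x ∉ Subgroup.centralizer (P : Set G)) ∧ (Cfsg.Involves (DihedralGroup p) G ↔ ∃ x y : G, (∃ k : ℕ, orderOf x = 2 ^ k) ∧ (∃ k : ℕ, orderOf y = p ^ k) ∧ y ≠ 1 ∧ x * y * x⁻¹ = y⁻¹) := by
  have hBA : (∃ (x : G) (P : Subgroup G), (∃ k : ℕ, orderOf x = 2 ^ k) ∧ IsPGroup p ↥P ∧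
      x ∈ Subgroup.normalizer (P : Set G) ∧ x ∉ Subgroup.centralizer (P : Set G)) →
      ∃ x y : G, (∃ k : ℕ, orderOf x = 2 ^ k) ∧ (∃ k : ℕ, orderOf y = p ^ k) ∧ y ≠ 1 ∧
        x * y * x⁻¹ = y⁻¹ := by
    rintro ⟨x, P, hx, hP, hN, hC⟩
    exact inverts_of_acts x P hx hP hN hC
  have hCA : (∃ x y : G, (∃ k : ℕ, orderOf x = 2 ^ k) ∧ (∃ k : ℕ, orderOf y = p ^ k) ∧ y ≠ 1 ∧
        x * y * x⁻¹ = y⁻¹) → Cfsg.Involves (DihedralGroup p) G := by
    rintro ⟨x, y, hx, hy, hy1, hxy⟩
    exact involves_of_inverts hp x y hx hy hy1 hxy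
  exact ⟨⟨acts_of_involves hp, fun h => hCA (hBA h)⟩,
    ⟨fun h => hBA (acts_of_involves hp h), hCA⟩⟩

end Cfsg.Agent.S2758
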