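import Cfsg.Statements.S4061
import Cfsg.Agent.Lib.Helper67_Basic
import Cfsg.Agent.Lib.Helper1_Cores
import Cfsg.Agent.Lib.Helper32_Cores
import Cfsg.Agent.S0016
-- import your own Cfsg.Agent.* helpers here

set_option autoImplicit false
open Cfsg

namespace Cfsg.Agent.S4061

open Cfsg.Agent.Lib.Helper67_Basic
open scoped commutatorElement

variable {Γ : Type*} [Group Γ]

/-- An element with `v * v = 1`, `v ≠ 1` has order two. -/
theorem orderOf_eq_two_of_sq {v : Γ} (h : v * v = 1) (h1 : v ≠ 1) : orderOf v = 2 := by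
  have : Fact (Nat.Prime 2) := ⟨Nat.prime_two⟩
  exact orderOf_eq_prime (by rw [pow_two]; exact h) h1

theorem sq_of_orderOf_eq_two {v : Γ} (h : orderOf v = 2) : v * v = 1 := by
  rw [← pow_two, ← h]; exact pow_orderOf_eq_one v

theorem ne_one_of_orderOf_eq_two {v : Γ} (h : orderOf v = 2) : v ≠ 1 := by
  rintro rfl
  rw [orderOf_one] at h
  omega

/-- In a core-free solvable group with one class of involutions, the involutions together with
the identity form a normal elementary abelian subgroup. -/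
theorem exists_involution_subgroup [Finite Γ] [Group.IsSolvable Γ]
    (hcore : Cfsg.pPrimeCore 2 Γ = ⊥)
    (hone : ∀ s t : Γ, orderOf s = 2 → orderOf t = 2 → IsConj s t)
    {s : Γ} (hs : orderOf s = 2) :
    ∃ V : Subgroup Γ, V.Normal ∧ (∀ v ∈ V, v * v = 1) ∧ (∀ t : Γ, orderOf t = 2 → t ∈ V) ∧
      ∀ a ∈ V, ∀ b ∈ V, a * b = b * a := by
  have hnt : Nontrivial Γ := ⟨⟨s, 1, ne_one_of_orderOf_eq_two hs⟩⟩
  obtain ⟨N, hN, hNbot, hNcomm⟩ := exists_normal_abelian_ne_bot (G := Γ)
  -- `N` has even order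
  have heven : 2 ∣ Nat.card N := by
    by_contra h2
    have hcop : (Nat.card N).Coprime 2 :=
      (Nat.coprime_comm).1 ((Nat.Prime.coprime_iff_not_dvd Nat.prime_two).2 h2)
    have := Cfsg.Agent.Lib.Helper1_Cores.le_pPrimeCore hN hcop
    rw [hcore] at this
    exact hNbot (le_bot_iff.1 this)
  have : Fact (Nat.Prime 2) := ⟨Nat.prime_two⟩
  obtain ⟨z, hz⟩ := exists_prime_orderOf_dvd_card' (G := N) 2 heven
  have hz' : orderOf (z : Γ) = 2 := by rw [Subgroup.orderOf_coe]; exact hz
  have hinvN : ∀ t : Γ, orderOf t = 2 → t ∈ N := by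
    intro t ht
    obtain ⟨g, hg⟩ := isConj_iff.1 (hone (z : Γ) t hz' ht)
    rw [← hg]
    exact hN.conj_mem _ z.2 g
  let V : Subgroup Γ :=
    { carrier := {x | x ∈ N ∧ x * x = 1}
      one_mem' := ⟨N.one_mem, by simp⟩
      mul_mem' := by
        rintro a b ⟨ha, ha2⟩ ⟨hb, hb2⟩
        refine ⟨N.mul_mem ha hb, ?_⟩
        calc a * b * (a * b) = a * (b * a) * b := by group
          _ = a * (a * b) * b := by rw [hNcomm b hb a ha]
          _ = (a * a) * (b * b) := by group
          _ = 1 := by rw [ha2, hb2, one_mul]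
      inv_mem' := by
        rintro a ⟨ha, ha2⟩
        refine ⟨N.inv_mem ha, ?_⟩
        rw [← mul_inv_rev, ha2, inv_one] }
  have hVmem : ∀ x : Γ, x ∈ V ↔ x ∈ N ∧ x * x = 1 := fun x => Iff.rfl
  refine ⟨V, ⟨?_⟩, ?_, ?_, ?_⟩
  · intro n hn g
    rw [hVmem] at hn ⊢
    refine ⟨hN.conj_mem n hn.1 g, ?_⟩
    calc g * n * g⁻¹ * (g * n * g⁻¹) = g * (n * n) * g⁻¹ := by group
      _ = 1 := by rw [hn.2]; group
  · intro v hv
    exact ((hVmem v).1 hv).2
  · intro t ht
    exact (hVmem t).2 ⟨hinvN t ht, sq_of_orderOf_eq_two ht⟩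
  · intro a ha b hb
    exact hNcomm a ((hVmem a).1 ha).1 b ((hVmem b).1 hb).1

/-- The stabilizer in `A` of the element `v`. -/
def stab (A : Subgroup Γ) (v : Γ) : Subgroup Γ := A ⊓ Subgroup.centralizer {v}

theorem mem_stab {A : Subgroup Γ} {v b : Γ} : b ∈ stab A v ↔ b ∈ A ∧ b * v = v * b := by
  unfold stab
  rw [Subgroup.mem_inf, Subgroup.mem_centralizer_iff]
  constructor
  · rintro ⟨h1, h2⟩
    exact ⟨h1, (h2 v rfl).symm⟩
  · rintro ⟨h1, h2⟩
    refine ⟨h1, ?_⟩
    intro w hw
    rw [Set.mem_singleton_iff.1 hw]; exact h2.symm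

theorem card_stab_conj_le [Finite Γ] (A : Subgroup Γ) [A.Normal] (g v : Γ) :
    Nat.card (stab A v) ≤ Nat.card (stab A (g * v * g⁻¹)) := by
  have h1 : (stab A v).map (MulAut.conj g).toMonoidHom ≤ stab A (g * v * g⁻¹) := by
    rintro _ ⟨b, hb0, rfl⟩
    have hb : b ∈ A ∧ b * v = v * b := mem_stab.1 hb0
    rw [mem_stab]
    simp only [MulEquiv.coe_toMonoidHom, MulAut.conj_apply]
    refine ⟨(inferInstance : A.Normal).conj_mem b hb.1 g, ?_⟩
    calc g * b * g⁻¹ * (g * v * g⁻¹) = g * (b * v) * g⁻¹ := by group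
      _ = g * (v * b) * g⁻¹ := by rw [hb.2]
      _ = g * v * g⁻¹ * (g * b * g⁻¹) := by group
  calc Nat.card (stab A v) = Nat.card ((stab A v).map (MulAut.conj g).toMonoidHom) :=
        (Subgroup.card_map_of_injective (MulAut.conj g).injective).symm
    _ ≤ _ := Subgroup.card_le_of_le h1

theorem card_stab_conj [Finite Γ] (A : Subgroup Γ) [A.Normal] (g v : Γ) :
    Nat.card (stab A (g * v * g⁻¹)) = Nat.card (stab A v) := by
  apply le_antisymm
  · have := card_stab_conj_le A g⁻¹ (g * v * g⁻¹)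
    have e : g⁻¹ * (g * v * g⁻¹) * g⁻¹⁻¹ = v := by group
    rwa [e] at this
  · exact card_stab_conj_le A g v

/-- The partition argument: if `A/C` is abelian, where `C` centralizes the normal elementary
abelian `2`-subgroup `V` all of whose involutions are conjugate, then all stabilizers in `A` of
involutions coincide. -/
theorem stab_eq_of_involutions [Finite Γ] (V A C : Subgroup Γ) [A.Normal]
    (hV2 : ∀ v ∈ V, v * v = 1)
    (hVnorm : ∀ a ∈ A, ∀ v ∈ V, a * v * a⁻¹ ∈ V)
    (hconj : ∀ v ∈ V, ∀ w ∈ V, v ≠ 1 → w ≠ 1 → IsConj v w)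
    (hC : ∀ c ∈ C, ∀ v ∈ V, c * v = v * c)
    (hAC : ∀ a ∈ A, ∀ b ∈ A, a⁻¹ * b⁻¹ * a * b ∈ C)
    {v w : Γ} (hv : v ∈ V) (hw : w ∈ V) (hv1 : v ≠ 1) (hw1 : w ≠ 1) :
    stab A v = stab A w := by
  -- equal orders
  have hcard : ∀ v ∈ V, ∀ w ∈ V, v ≠ 1 → w ≠ 1 → Nat.card (stab A v) = Nat.card (stab A w) := by
    intro v hv w hw hv1 hw1
    obtain ⟨g, hg⟩ := isConj_iff.1 (hconj v hv w hw hv1 hw1)
    rw [← hg, card_stab_conj]
  -- containment gives equality
  have hle : ∀ v ∈ V, ∀ w ∈ V, v ≠ 1 → w ≠ 1 → (∀ b ∈ stab A v, b * w = w * b) →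
      stab A v = stab A w := by
    intro v hv w hw hv1 hw1 h
    apply Subgroup.eq_of_le_of_card_ge
    · intro b hb
      exact mem_stab.2 ⟨(mem_stab.1 hb).1, h b hb⟩
    · exact (hcard v hv w hw hv1 hw1).ge
  by_cases hvw : v = w
  · rw [hvw]
  have hvw1 : v * w ≠ 1 := by
    intro h
    apply hvw
    have h2 := hV2 w hw
    calc v = v * (w * w) := by rw [h2, mul_one]
      _ = (v * w) * w := by group
      _ = w := by rw [h, one_mul]
  have hvwV : v * w ∈ V := V.mul_mem hv hw
  by_cases hall : ∀ b ∈ stab A (v * w), b * v = v * b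
  · -- every `b` fixing `v * w` fixes `v`, hence also `w`
    have hallw : ∀ b ∈ stab A (v * w), b * w = w * b := by
      intro b hb
      have h1 := hall b hb
      have h2 := (mem_stab.1 hb).2
      have : v * (b * w) = v * (w * b) := by
        calc v * (b * w) = (v * b) * w := by group
          _ = (b * v) * w := by rw [h1]
          _ = b * (v * w) := by group
          _ = (v * w) * b := h2
          _ = v * (w * b) := by group
      exact mul_left_cancel this
    rw [← hle (v * w) hvwV v hv hvw1 hv1 hall, ← hle (v * w) hvwV w hw hvw1 hw1 hallw]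
  · push Not at hall
    obtain ⟨b, hb, hbv⟩ := hall
    have hbA : b ∈ A := (mem_stab.1 hb).1
    have hbvw : b * (v * w) = (v * w) * b := (mem_stab.1 hb).2
    set u := v⁻¹ * (b * v * b⁻¹) with hu
    have huV : u ∈ V := V.mul_mem (V.inv_mem hv) (hVnorm b hbA v hv)
    have hu1 : u ≠ 1 := by
      intro h
      apply hbv
      have : b * v * b⁻¹ = v := by
        have h2 : v * u = v := by rw [h, mul_one]
        rw [hu] at h2
        calc b * v * b⁻¹ = v * (v⁻¹ * (b * v * b⁻¹)) := by group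
          _ = v := h2
      calc b * v = (b * v * b⁻¹) * b := by group
        _ = v * b := by rw [this]
    -- second expression for `u`
    have hu' : u = w * (b * w⁻¹ * b⁻¹) := by
      have h1 : (b * v * b⁻¹) * (b * w * b⁻¹) = v * w := by
        calc (b * v * b⁻¹) * (b * w * b⁻¹) = (b * (v * w)) * b⁻¹ := by group
          _ = ((v * w) * b) * b⁻¹ := by rw [hbvw]
          _ = v * w := by group
      have h2 : b * v * b⁻¹ = v * w * (b * w * b⁻¹)⁻¹ := by
        rw [← h1]; group
      rw [hu, h2]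
      group
    -- conjugation by elements of `A` commuting past `b` modulo `C`
    have hkey : ∀ c ∈ A, ∀ y ∈ V, c * (b * y * b⁻¹) * c⁻¹ = b * (c * y * c⁻¹) * b⁻¹ := by
      intro c hc y hy
      set k := c⁻¹ * b⁻¹ * c * b with hk
      have hkC : k ∈ C := hAC c hc b hbA
      have e1 : c * b = b * c * k := by rw [hk]; group
      have hky : k * y * k⁻¹ = y := by
        have := hC k hkC y hy
        calc k * y * k⁻¹ = (k * y) * k⁻¹ := by group
          _ = (y * k) * k⁻¹ := by rw [this]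
          _ = y := by group
      calc c * (b * y * b⁻¹) * c⁻¹ = (c * b) * y * (c * b)⁻¹ := by group
        _ = (b * c * k) * y * (b * c * k)⁻¹ := by rw [e1]
        _ = b * (c * (k * y * k⁻¹) * c⁻¹) * b⁻¹ := by group
        _ = b * (c * y * c⁻¹) * b⁻¹ := by rw [hky]
    have hconj_fix : ∀ c y : Γ, c * y = y * c → c * y * c⁻¹ = y := by
      intro c y h
      calc c * y * c⁻¹ = (c * y) * c⁻¹ := by group
        _ = (y * c) * c⁻¹ := by rw [h]
        _ = y := by group
    have h1 : ∀ c ∈ stab A v, c * u = u * c := by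
      intro c hc
      have hcA := (mem_stab.1 hc).1
      have hcv := hconj_fix c v (mem_stab.1 hc).2
      have : c * u * c⁻¹ = u := by
        calc c * u * c⁻¹ = (c * v * c⁻¹)⁻¹ * (c * (b * v * b⁻¹) * c⁻¹) := by rw [hu]; group
          _ = (c * v * c⁻¹)⁻¹ * (b * (c * v * c⁻¹) * b⁻¹) := by rw [hkey c hcA v hv]
          _ = u := by rw [hcv]
      calc c * u = (c * u * c⁻¹) * c := by group
        _ = u * c := by rw [this]
    have h2 : ∀ c ∈ stab A w, c * u = u * c := by
      intro c hc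
      have hcA := (mem_stab.1 hc).1
      have hcw := hconj_fix c w (mem_stab.1 hc).2
      have hcw' : c * w⁻¹ * c⁻¹ = w⁻¹ := by
        calc c * w⁻¹ * c⁻¹ = (c * w * c⁻¹)⁻¹ := by group
          _ = w⁻¹ := by rw [hcw]
      have : c * u * c⁻¹ = u := by
        calc c * u * c⁻¹ = (c * w * c⁻¹) * (c * (b * w⁻¹ * b⁻¹) * c⁻¹) := by rw [hu']; group
          _ = (c * w * c⁻¹) * (b * (c * w⁻¹ * c⁻¹) * b⁻¹) := by
              rw [hkey c hcA w⁻¹ (V.inv_mem hw)]
          _ = u := by rw [hcw, hcw', hu']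
      calc c * u = (c * u * c⁻¹) * c := by group
        _ = u * c := by rw [this]
    rw [hle v hv u huV hv1 hu1 h1, hle w hw u huV hw1 hu1 h2]

/-- **Core-free case**: a finite solvable ambivalent group with `O(Γ) = 1` and one class of
involutions has at most one involution. -/
theorem unique_involution_of_coreFree [Finite Γ] [Group.IsSolvable Γ]
    (hcore : Cfsg.pPrimeCore 2 Γ = ⊥) (hamb : ∀ x : Γ, IsConj x x⁻¹)
    (hone : ∀ s t : Γ, orderOf s = 2 → orderOf t = 2 → IsConj s t)
    (s t : Γ) (hs : orderOf s = 2) (ht : orderOf t = 2) : s = t := by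
  by_contra hne
  have h2prime : Fact (Nat.Prime 2) := ⟨Nat.prime_two⟩
  obtain ⟨V, hVN, hV2, hVinv, hVcomm⟩ := exists_involution_subgroup hcore hone hs
  have hsV : s ∈ V := hVinv s hs
  have htV : t ∈ V := hVinv t ht
  have hVpg : IsPGroup 2 V := by
    intro v
    refine ⟨1, ?_⟩
    apply Subtype.ext
    rw [pow_one, pow_two]
    exact hV2 v v.2
  have hVbot : V ≠ ⊥ := by
    intro h
    rw [h, Subgroup.mem_bot] at hsV
    exact ne_one_of_orderOf_eq_two hs hsV
  have hinvol : ∀ v ∈ V, v ≠ 1 → orderOf v = 2 := fun v hv hv1 =>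
    orderOf_eq_two_of_sq (hV2 v hv) hv1
  set C : Subgroup Γ := Subgroup.centralizer (V : Set Γ) with hC
  have hCN : C.Normal := by rw [hC]; infer_instance
  have hCmem : ∀ c ∈ C, ∀ v ∈ V, c * v = v * c := by
    intro c hc v hv
    exact (Subgroup.mem_centralizer_iff.1 hc v hv).symm
  have hCtop : C ≠ ⊤ := by
    intro h
    apply hne
    obtain ⟨g, hg⟩ := isConj_iff.1 (hone s t hs ht)
    have hgC : g ∈ C := by rw [h]; exact Subgroup.mem_top g
    have := hCmem g hgC s hsV
    rw [← hg, this]; group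
  -- an abelian normal subgroup of `Γ ⧸ C`
  have hnt : Nontrivial (Γ ⧸ C) := by
    by_contra hn
    rw [not_nontrivial_iff_subsingleton] at hn
    exact hCtop (QuotientGroup.subgroup_eq_top_of_subsingleton C hn)
  obtain ⟨Abar, hAbarN, hAbarbot, hAbarcomm⟩ := exists_normal_abelian_ne_bot (G := Γ ⧸ C)
  set A : Subgroup Γ := Abar.comap (QuotientGroup.mk' C) with hA
  have hAN : A.Normal := hAbarN.comap _
  have hAC : ∀ a ∈ A, ∀ b ∈ A, a⁻¹ * b⁻¹ * a * b ∈ C := by
    intro a ha b hb
    rw [← QuotientGroup.eq_one_iff]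
    have := hAbarcomm _ ha _ hb
    have h2 : (QuotientGroup.mk' C a) * (QuotientGroup.mk' C b) =
      (QuotientGroup.mk' C b) * (QuotientGroup.mk' C a) := this
    change QuotientGroup.mk' C (a⁻¹ * b⁻¹ * a * b) = 1
    rw [map_mul, map_mul, map_mul, map_inv, map_inv, mul_assoc, h2]
    group
  obtain ⟨a, haA, haC⟩ : ∃ a ∈ A, a ∉ C := by
    obtain ⟨⟨abar, habarA⟩, habar1⟩ := (Subgroup.ne_bot_iff_exists_ne_one).1 hAbarbot
    induction abar using QuotientGroup.induction_on with
    | H a =>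
      refine ⟨a, habarA, fun haC => habar1 ?_⟩
      apply Subtype.ext
      exact (QuotientGroup.eq_one_iff a).2 haC
  -- all stabilizers of involutions are contained in `C`
  have hstabC : ∀ v ∈ V, v ≠ 1 → stab A v ≤ C := by
    intro v hv hv1 b hb
    rw [hC, Subgroup.mem_centralizer_iff]
    intro u hu
    by_cases hu1 : u = 1
    · rw [hu1, one_mul, mul_one]
    have heq : stab A v = stab A u :=
      stab_eq_of_involutions V A C hV2 (fun a _ v hv => hVN.conj_mem v hv a)
        (fun v hv w hw hv1 hw1 => hone v w (hinvol v hv hv1) (hinvol w hw hw1))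
        hCmem hAC hv hu hv1 hu1
    rw [heq] at hb
    exact ((mem_stab.1 hb).2).symm
  -- split `a` into its `2`-part and its odd part
  obtain ⟨k, m, hm, hkm⟩ := Nat.exists_eq_two_pow_mul_odd (orderOf_pos a).ne'
  have hcop : Nat.Coprime (2 ^ k) m := Nat.Coprime.pow_left k hm.coprime_two_left
  have hdec := eq_zpow_mul_zpow_of_coprime a hcop
  set x := a ^ (2 ^ k) with hx
  set y := a ^ m with hy
  have hxA : x ∈ A := A.pow_mem haA _
  have hyA : y ∈ A := A.pow_mem haA _
  have hyC : y ∈ C := by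
    -- `y` is a `2`-element normalizing `V`, so it fixes an involution
    have hy2 : y ^ (2 ^ k) = 1 := by
      rw [hy, ← pow_mul, mul_comm, ← hkm, pow_orderOf_eq_one]
    have hpg : IsPGroup 2 (Subgroup.zpowers y) := by
      rintro ⟨w, hw⟩
      refine ⟨k, ?_⟩
      obtain ⟨j, rfl⟩ := Subgroup.mem_zpowers_iff.1 hw
      apply Subtype.ext
      change (y ^ j) ^ (2 ^ k) = 1
      rw [← zpow_natCast, ← zpow_mul, mul_comm, zpow_mul, zpow_natCast, hy2, one_zpow]
    obtain ⟨d, hdV, hd1, hdfix⟩ := exists_ne_one_fixed_of_pgroup hVpg hpg hVbot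
      (fun w _ d hd => hVN.conj_mem d hd w)
    have h1 := hdfix y (Subgroup.mem_zpowers y)
    apply hstabC d hdV hd1
    rw [mem_stab]
    refine ⟨hyA, ?_⟩
    calc y * d = (y * d * y⁻¹) * y := by group
      _ = d * y := by rw [h1]
  have hxC : x ∉ C := by
    intro hxC
    apply haC
    rw [hdec]
    exact C.mul_mem (C.zpow_mem hxC _) (C.zpow_mem hyC _)
  have hxm : x ^ m = 1 := by
    rw [hx, ← pow_mul, ← hkm, pow_orderOf_eq_one]
  have hxodd : Odd (orderOf x) := by
    have : orderOf x ∣ m := orderOf_dvd_of_pow_eq_one hxm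
    exact Odd.of_dvd_nat hm this
  have hx1 : x ≠ 1 := by
    intro h
    apply hxC
    rw [h]; exact C.one_mem
  -- no involution commutes with `x`
  have hxfix : ∀ v ∈ V, v ≠ 1 → x * v ≠ v * x := by
    intro v hv hv1 h
    exact hxC (hstabC v hv hv1 (mem_stab.2 ⟨hxA, h⟩))
  -- `x` is inverted by a `2`-element
  obtain ⟨τ, j, hτ, hτx⟩ := exists_two_pow_conj_inv (hamb x)
  have hxsq : x * x ≠ 1 := by
    intro h
    exact hx1 (eq_one_of_sq_eq_one_of_odd_orderOf hxodd (by rw [pow_two]; exact h))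
  rcases j with _ | j
  · -- `τ = 1`
    rw [pow_zero, orderOf_eq_one_iff] at hτ
    rw [hτ] at hτx
    apply hxsq
    have : x = x⁻¹ := by simpa using hτx
    calc x * x = x * x⁻¹ := by rw [← this]
      _ = 1 := mul_inv_cancel x
  rcases j with _ | j
  · -- `τ` is an involution
    have hτ2 : orderOf τ = 2 := by simpa using hτ
    have hτV : τ ∈ V := hVinv τ hτ2
    have h1 : x * τ⁻¹ * x⁻¹ ∈ V := hVN.conj_mem _ (V.inv_mem hτV) x
    have h2 : τ * (x * τ⁻¹ * x⁻¹) ∈ V := V.mul_mem hτV h1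
    have h3 : τ * (x * τ⁻¹ * x⁻¹) = x⁻¹ * x⁻¹ := by
      calc τ * (x * τ⁻¹ * x⁻¹) = (τ * x * τ⁻¹) * x⁻¹ := by group
        _ = x⁻¹ * x⁻¹ := by rw [hτx]
    rw [h3] at h2
    have h4 := hV2 _ h2
    have h5 : (x * x) * (x * x) = 1 := by
      have : ((x⁻¹ * x⁻¹) * (x⁻¹ * x⁻¹))⁻¹ = (x * x) * (x * x) := by
        simp [mul_inv_rev, mul_assoc]
      rw [← this, h4, inv_one]
    have h6 : x * x = 1 := by
      have hodd2 : Odd (orderOf (x * x)) := by
        have : orderOf (x * x) ∣ orderOf x := by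
          rw [← pow_two]; exact orderOf_pow_dvd 2
        exact Odd.of_dvd_nat hxodd this
      exact eq_one_of_sq_eq_one_of_odd_orderOf hodd2 (by rw [pow_two]; exact h5)
    exact hxsq h6
  · -- `τ` has order at least four: its involution commutes with `x`
    set z := τ ^ (2 ^ (j + 1)) with hz
    have hz2 : orderOf z = 2 := by
      rw [hz, orderOf_pow' τ (pow_pos (by norm_num) _).ne', hτ]
      have : Nat.gcd (2 ^ (j + 1 + 1)) (2 ^ (j + 1)) = 2 ^ (j + 1) :=
        Nat.gcd_eq_right (pow_dvd_pow 2 (Nat.le_succ _))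
      rw [this, pow_succ 2 (j + 1), Nat.mul_div_cancel_left _ (pow_pos (by norm_num) _)]
    have hzV : z ∈ V := hVinv z hz2
    have hτ2x : (τ * τ) * x = x * (τ * τ) := by
      have hτx' : τ * x⁻¹ * τ⁻¹ = x := by
        calc τ * x⁻¹ * τ⁻¹ = (τ * x * τ⁻¹)⁻¹ := by group
          _ = x := by rw [hτx, inv_inv]
      calc (τ * τ) * x = τ * (τ * x * τ⁻¹) * τ := by group
        _ = τ * x⁻¹ * τ := by rw [hτx]
        _ = (τ * x⁻¹ * τ⁻¹) * (τ * τ) := by group
        _ = x * (τ * τ) := by rw [hτx']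
    have hzpow : z = (τ * τ) ^ (2 ^ j) := by
      rw [hz, ← pow_two, ← pow_mul, pow_succ 2 j, mul_comm]
    have hzx : x * z = z * x := by
      rw [hzpow]
      exact ((Commute.pow_left (show Commute (τ * τ) x from hτ2x) _).eq).symm
    exact hxfix z hzV (ne_one_of_orderOf_eq_two hz2) hzx

section General

variable {G : Type*} [Group G]

/-- Involutions lift modulo a normal subgroup of odd order. -/
theorem exists_lift_involution [Finite G] (K : Subgroup G) [K.Normal]
    (hK : (Nat.card K).Coprime 2) (ubar : G ⧸ K) (hu : orderOf ubar = 2) :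
    ∃ u : G, orderOf u = 2 ∧ QuotientGroup.mk' K u = ubar := by
  induction ubar using QuotientGroup.induction_on with
  | H u₀ =>
    obtain ⟨k, m, hm, hkm⟩ := Nat.exists_eq_two_pow_mul_odd (orderOf_pos u₀).ne'
    have hsq : (QuotientGroup.mk' K u₀) * (QuotientGroup.mk' K u₀) = 1 := sq_of_orderOf_eq_two hu
    have hne : QuotientGroup.mk' K u₀ ≠ 1 := ne_one_of_orderOf_eq_two hu
    have hmk : QuotientGroup.mk' K (u₀ ^ m) = QuotientGroup.mk' K u₀ := by
      obtain ⟨j, rfl⟩ := hm
      rw [map_pow, pow_succ, pow_mul, pow_two, hsq, one_pow, one_mul]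
    refine ⟨u₀ ^ m, ?_, hmk⟩
    have hK2 : u₀ ^ m * u₀ ^ m ∈ K := by
      rw [← QuotientGroup.eq_one_iff]
      change QuotientGroup.mk' K (u₀ ^ m * u₀ ^ m) = 1
      rw [map_mul, hmk, hsq]
    have h1 : orderOf (u₀ ^ m * u₀ ^ m) ∣ Nat.card K := Subgroup.orderOf_dvd_natCard _ hK2
    have h2 : orderOf (u₀ ^ m * u₀ ^ m) ∣ 2 ^ k := by
      apply orderOf_dvd_of_pow_eq_one
      rw [← pow_two, ← pow_mul, ← pow_mul]
      have : m * (2 * 2 ^ k) = (2 ^ k * m) * 2 := by ring
      rw [this, ← hkm, pow_mul, pow_orderOf_eq_one, one_pow]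
    have h3 : orderOf (u₀ ^ m * u₀ ^ m) = 1 :=
      Nat.eq_one_of_dvd_coprimes (Nat.Coprime.pow_right k hK) h1 h2
    apply orderOf_eq_two_of_sq (orderOf_eq_one_iff.1 h3)
    intro h
    apply hne
    rw [← hmk, h, map_one]

/-- Modulo the odd core there is a unique involution. -/
theorem unique_involution_quotient [Finite G] [Group.IsSolvable G]
    (hamb : ∀ x : G, IsConj x x⁻¹)
    (hone : ∀ s t : G, orderOf s = 2 → orderOf t = 2 → IsConj s t)
    (s t : G ⧸ Cfsg.pPrimeCore 2 G) (hs : orderOf s = 2) (ht : orderOf t = 2) : s = t := by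
  apply unique_involution_of_coreFree (Γ := G ⧸ Cfsg.pPrimeCore 2 G)
    (Cfsg.Agent.Lib.Helper32_Cores.pPrimeCore_quotient_eq_bot 2) ?_ ?_ s t hs ht
  · intro x
    induction x using QuotientGroup.induction_on with
    | H x =>
      have := MonoidHom.map_isConj (QuotientGroup.mk' (Cfsg.pPrimeCore 2 G)) (hamb x)
      rwa [map_inv] at this
  · intro a b ha hb
    have hK := Cfsg.Agent.Lib.Helper1_Cores.pPrimeCore_card_coprime (G := G) 2
    obtain ⟨u, hu, rfl⟩ := exists_lift_involution _ hK a ha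
    obtain ⟨v, hv, rfl⟩ := exists_lift_involution _ hK b hb
    exact MonoidHom.map_isConj (QuotientGroup.mk' (Cfsg.pPrimeCore 2 G)) (hone u v hu hv)

/-- A `2`-element in a subgroup of odd order is trivial. -/
theorem eq_one_of_mem_odd [Finite G] {K : Subgroup G} (hK : (Nat.card K).Coprime 2) {x : G}
    (hx : x ∈ K) {k : ℕ} (hxk : x ^ (2 ^ k) = 1) : x = 1 := by
  have h1 : orderOf x ∣ Nat.card K := Subgroup.orderOf_dvd_natCard _ hx
  have h2 : orderOf x ∣ 2 ^ k := orderOf_dvd_of_pow_eq_one hxk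
  exact orderOf_eq_one_iff.1 (Nat.eq_one_of_dvd_coprimes (Nat.Coprime.pow_right k hK) h1 h2)

/-- The Sylow `2`-subgroup has a unique subgroup of order two. -/
theorem unique_subgroup_card_two [Finite G] [Group.IsSolvable G]
    (hamb : ∀ x : G, IsConj x x⁻¹)
    (hone : ∀ s t : G, orderOf s = 2 → orderOf t = 2 → IsConj s t) (S : Sylow 2 G)
    (H K : Subgroup (S : Subgroup G)) (hH : Nat.card H = 2) (hK : Nat.card K = 2) : H = K := by
  have h2prime : Fact (Nat.Prime 2) := ⟨Nat.prime_two⟩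
  have hcop := Cfsg.Agent.Lib.Helper1_Cores.pPrimeCore_card_coprime (G := G) 2
  -- a subgroup of order two is generated by an involution
  have key : ∀ H : Subgroup (S : Subgroup G), Nat.card H = 2 →
      ∃ h : (S : Subgroup G), orderOf h = 2 ∧ H = Subgroup.zpowers h := by
    intro H hH
    have hne : H ≠ ⊥ := by
      intro h
      rw [h, Subgroup.card_bot] at hH
      omega
    obtain ⟨⟨h, hhH⟩, hh1⟩ := (Subgroup.ne_bot_iff_exists_ne_one).1 hne
    have hh1' : h ≠ 1 := fun e => hh1 (Subtype.ext e)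
    have ho : orderOf h ∣ 2 := by
      have ho' : orderOf h ∣ Nat.card H := Subgroup.orderOf_dvd_natCard _ hhH
      rwa [hH] at ho' 
    have ho2 : orderOf h = 2 := by
      rcases (Nat.dvd_prime Nat.prime_two).1 ho with h1 | h2
      · exact absurd (orderOf_eq_one_iff.1 h1) hh1'
      · exact h2
    refine ⟨h, ho2, ?_⟩
    symm
    apply Subgroup.eq_of_le_of_card_ge (Subgroup.zpowers_le.2 hhH)
    rw [Nat.card_zpowers, ho2, hH]
  obtain ⟨h, hh, rfl⟩ := key H hH
  obtain ⟨k, hk, rfl⟩ := key K hK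
  suffices h = k by rw [this]
  -- images in the quotient coincide
  have himg : ∀ h : (S : Subgroup G), orderOf h = 2 →
      orderOf (QuotientGroup.mk' (Cfsg.pPrimeCore 2 G) (h : G)) = 2 := by
    intro h hh
    have hh' : orderOf (h : G) = 2 := by rw [Subgroup.orderOf_coe]; exact hh
    apply orderOf_eq_two_of_sq
    · rw [← map_mul, sq_of_orderOf_eq_two hh', map_one]
    · intro h1
      have hmem : (h : G) ∈ Cfsg.pPrimeCore 2 G := (QuotientGroup.eq_one_iff _).1 h1
      have := eq_one_of_mem_odd hcop hmem (k := 1)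
        (by rw [pow_one, pow_two]; exact sq_of_orderOf_eq_two hh')
      exact ne_one_of_orderOf_eq_two hh' this
  have heq := unique_involution_quotient hamb hone _ _ (himg h hh) (himg k hk)
  have hmem : (h : G)⁻¹ * (k : G) ∈ Cfsg.pPrimeCore 2 G := by
    rw [← QuotientGroup.eq_one_iff]
    change QuotientGroup.mk' (Cfsg.pPrimeCore 2 G) ((h : G)⁻¹ * (k : G)) = 1
    rw [map_mul, map_inv, heq, inv_mul_cancel]
  -- `h⁻¹ * k` is a `2`-element
  obtain ⟨j, hj⟩ := (S.isPGroup') (h⁻¹ * k)
  have hj' : ((h : G)⁻¹ * (k : G)) ^ (2 ^ j) = 1 := by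
    have := congrArg (fun z : (S : Subgroup G) => (z : G)) hj
    simpa using this
  have h1 := eq_one_of_mem_odd hcop hmem hj'
  apply Subtype.ext
  calc (h : G) = (h : G) * ((h : G)⁻¹ * (k : G)) := by rw [h1, mul_one]
    _ = k := by group

end General

section Final

variable {G : Type*} [Group G]

/-- A cyclic Sylow `2`-subgroup has a normal complement mapping to an abelian group, so that in an
ambivalent group all its elements are involutions. -/
theorem exists_normal_complement_of_isCyclic [Finite G] (heven : 2 ∣ Nat.card G) (S : Sylow 2 G)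
    (hS : IsCyclic (S : Subgroup G)) :
    ∃ K : Subgroup G, K.Normal ∧ K.IsComplement' (S : Subgroup G) ∧
      ∀ x y : G, IsConj x y → x⁻¹ * y ∈ K := by
  have h2prime : Fact (Nat.Prime 2) := ⟨Nat.prime_two⟩
  have hp : (Nat.card G).minFac = 2 := (Nat.minFac_eq_two_iff _).2 heven
  refine ⟨(MonoidHom.transferSylow S (hS.normalizer_le_centralizer hp)).ker, inferInstance,
    IsCyclic.isComplement' hp hS, ?_⟩
  intro x y hxy
  obtain ⟨c, hc⟩ := isConj_iff.1 hxy
  set φ := MonoidHom.transferSylow S (hS.normalizer_le_centralizer hp) with hφ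
  have hcomm : ∀ a b : (S : Subgroup G), a * b = b * a := by
    intro a b
    have := hS
    exact (IsCyclic.isMulCommutative (α := (S : Subgroup G))).is_comm.comm a b
  rw [MonoidHom.mem_ker, map_mul, map_inv, ← hc, map_mul, map_mul, map_inv, hcomm (φ c) (φ x)]
  group

theorem card_eq_two_of_isCyclic [Finite G] (hamb : ∀ x : G, IsConj x x⁻¹)
    (heven : 2 ∣ Nat.card G) (S : Sylow 2 G) (hS : IsCyclic (S : Subgroup G)) :
    Nat.card S = 2 := by
  have h2prime : Fact (Nat.Prime 2) := ⟨Nat.prime_two⟩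
  obtain ⟨K, hKN, hKS, hK⟩ := exists_normal_complement_of_isCyclic heven S hS
  have hsq : ∀ g ∈ (S : Subgroup G), g * g = 1 := by
    intro g hg
    have h1 := hK g⁻¹ g (by have := hamb g⁻¹; rwa [inv_inv] at this)
    rw [inv_inv] at h1
    have h2 : g * g ∈ (S : Subgroup G) := Subgroup.mul_mem _ hg hg
    exact Subgroup.disjoint_def.1 hKS.disjoint h1 h2
  obtain ⟨g₀, hg₀⟩ := hS.exists_generator
  have hcard : Nat.card (S : Subgroup G) = orderOf g₀ := by
    rw [← Nat.card_zpowers]
    have : Subgroup.zpowers g₀ = ⊤ := (Subgroup.eq_top_iff' _).2 hg₀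
    rw [this, Subgroup.card_top]
  have hdvd : orderOf g₀ ∣ 2 := by
    apply orderOf_dvd_of_pow_eq_one
    apply Subtype.ext
    rw [pow_two]
    exact hsq g₀ g₀.2
  have h2S : 2 ∣ Nat.card (S : Subgroup G) := by
    rw [S.card_eq_multiplicity]
    exact dvd_pow_self 2 (Nat.Prime.factorization_pos_of_dvd Nat.prime_two Nat.card_pos.ne'
      heven).ne'
  rw [hcard] at h2S ⊢
  exact Nat.dvd_antisymm hdvd h2S

/-- The second part: a Sylow `2`-subgroup of order two. -/
theorem part_two [Finite G] (hamb : ∀ x : G, IsConj x x⁻¹) (S : Sylow 2 G)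
    (hS2 : Nat.card S = 2) :
    (S : Subgroup G).IsComplement' (Cfsg.oddCore G) ∧ Cfsg.oddCore G = commutator G ∧
      ∀ t : G, t ∈ S → t ≠ 1 → ∀ x : G, x ∈ Cfsg.oddCore G → t * x * t⁻¹ = x⁻¹ := by
  have h2prime : Fact (Nat.Prime 2) := ⟨Nat.prime_two⟩
  have hScyc : IsCyclic (S : Subgroup G) := isCyclic_of_prime_card hS2
  have heven : 2 ∣ Nat.card G := by
    have := Subgroup.card_subgroup_dvd_card (S : Subgroup G)
    rwa [hS2] at this
  obtain ⟨K₀, hK₀N, hK₀S, -⟩ := exists_normal_complement_of_isCyclic heven S hScyc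
  -- `K₀` has odd order
  have hK₀card : Nat.card K₀ = (S : Subgroup G).index := hK₀S.index_eq_card.symm
  have hK₀odd : (Nat.card K₀).Coprime 2 := by
    rw [hK₀card, Nat.coprime_comm, Nat.Prime.coprime_iff_not_dvd Nat.prime_two]
    exact S.not_dvd_index
  -- `K₀` is the odd core
  have hK₀eq : K₀ = Cfsg.oddCore G := by
    apply Subgroup.eq_of_le_of_card_ge (Cfsg.Agent.Lib.Helper1_Cores.le_pPrimeCore hK₀N hK₀odd)
    have h1 : Nat.card (Cfsg.oddCore G) ∣ Nat.card G := Subgroup.card_subgroup_dvd_card _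
    have h2 : Nat.card K₀ * Nat.card (S : Subgroup G) = Nat.card G := hK₀S.card_mul_card
    rw [← h2, hS2] at h1
    have h3 : (Nat.card (Cfsg.oddCore G)).Coprime 2 :=
      Cfsg.Agent.Lib.Helper1_Cores.pPrimeCore_card_coprime (G := G) 2
    exact Nat.le_of_dvd Nat.card_pos (h3.dvd_of_dvd_mul_right h1)
  set K := Cfsg.oddCore G with hK
  have hKN : K.Normal := by rw [← hK₀eq]; exact hK₀N
  have hKS : K.IsComplement' (S : Subgroup G) := by rw [← hK₀eq]; exact hK₀S
  have hKodd : (Nat.card K).Coprime 2 := by rw [← hK₀eq]; exact hK₀odd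
  have hKidx : K.index = 2 := by
    rw [hKS.symm.index_eq_card, hS2]
  -- the key inversion statement
  have hinv : ∀ t : G, t ∈ S → t ≠ 1 → ∀ x : G, x ∈ K →
      ∃ w ∈ K, x = w⁻¹ * (t * w * t⁻¹) ∧ t * x * t⁻¹ = x⁻¹ := by
    intro t htS ht1
    have htsq : t * t = 1 := by
      have h1 : orderOf t ∣ 2 := by
        have := Subgroup.orderOf_dvd_natCard _ htS
        rwa [hS2] at this
      have h2 : t ^ 2 = 1 := orderOf_dvd_iff_pow_eq_one.1 h1
      rwa [pow_two] at h2
    have htinv : t⁻¹ = t := inv_eq_of_mul_eq_one_left htsq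
    have htK : t ∉ K := by
      intro h
      exact ht1 (Subgroup.disjoint_def.1 hKS.disjoint h htS)
    -- `t` has no fixed points on `K`
    have hfix : ∀ y ∈ K, t * y = y * t → y = 1 := by
      intro y hyK hty
      obtain ⟨g, j, hg, hgy⟩ := exists_two_pow_conj_inv (hamb y)
      have hyy : y = y⁻¹ → y = 1 := by
        intro h
        apply eq_one_of_mem_odd hKodd hyK (k := 1)
        rw [pow_one, pow_two]
        calc y * y = y * y⁻¹ := by rw [← h]
          _ = 1 := mul_inv_cancel y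
      by_cases hgK : g ∈ K
      · have hg1 : g = 1 := eq_one_of_mem_odd hKodd hgK (k := j) (by rw [← hg, pow_orderOf_eq_one])
        rw [hg1] at hgy
        apply hyy
        simpa using hgy
      · have huK : t * g ∈ K := (Subgroup.mul_mem_iff_of_index_two hKidx).2
          (iff_of_false htK hgK)
        have huy : (t * g) * y * (t * g)⁻¹ = y⁻¹ := by
          have hty' : t * y⁻¹ * t⁻¹ = y⁻¹ := by
            calc t * y⁻¹ * t⁻¹ = (t * y * t⁻¹)⁻¹ := by group
              _ = (y * t * t⁻¹)⁻¹ := by rw [hty]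
              _ = y⁻¹ := by group
          calc (t * g) * y * (t * g)⁻¹ = t * (g * y * g⁻¹) * t⁻¹ := by group
            _ = t * y⁻¹ * t⁻¹ := by rw [hgy]
            _ = y⁻¹ := hty'
        have huodd : Odd (orderOf (t * g)) := by
          have h1 : orderOf (t * g) ∣ Nat.card K := Subgroup.orderOf_dvd_natCard _ huK
          have h2 : (orderOf (t * g)).Coprime 2 := Nat.Coprime.coprime_dvd_left h1 hKodd
          exact Nat.odd_iff.2 (Nat.two_dvd_ne_zero.1 (fun h =>
            absurd (Nat.Coprime.eq_one_of_dvd h2.symm h) (by norm_num)))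
        have := pow_conj_inv_of_odd huy huodd
        rw [pow_orderOf_eq_one] at this
        apply hyy
        simpa using this
    -- the map `w ↦ w⁻¹ * (t * w * t⁻¹)` is a bijection of `K`
    let ψ : K → K := fun w =>
      ⟨(w : G)⁻¹ * (t * w * t⁻¹), K.mul_mem (K.inv_mem w.2) (hKN.conj_mem w w.2 t)⟩
    have hψinj : Function.Injective ψ := by
      intro w w' h
      have h1 : (w : G)⁻¹ * (t * w * t⁻¹) = (w' : G)⁻¹ * (t * w' * t⁻¹) :=
        congrArg Subtype.val h
      have h2 : t * ((w' : G) * (w : G)⁻¹) = ((w' : G) * (w : G)⁻¹) * t := by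
        have e1 : (w' : G) * (w : G)⁻¹ = (t * w' * t⁻¹) * (t * w * t⁻¹)⁻¹ := by
          have : (w' : G) * ((w : G)⁻¹ * (t * w * t⁻¹)) = t * w' * t⁻¹ := by
            rw [h1]; group
          calc (w' : G) * (w : G)⁻¹
              = ((w' : G) * ((w : G)⁻¹ * (t * w * t⁻¹))) * (t * w * t⁻¹)⁻¹ := by group
            _ = (t * w' * t⁻¹) * (t * w * t⁻¹)⁻¹ := by rw [this]
        have e2 : (t * w' * t⁻¹) * (t * w * t⁻¹)⁻¹ = t * ((w' : G) * (w : G)⁻¹) * t⁻¹ := by group
        calc t * ((w' : G) * (w : G)⁻¹) = (t * ((w' : G) * (w : G)⁻¹) * t⁻¹) * t := by group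
          _ = ((w' : G) * (w : G)⁻¹) * t := by rw [← e2, ← e1]
      have h3 := hfix _ (K.mul_mem w'.2 (K.inv_mem w.2)) h2
      apply Subtype.ext
      have : (w' : G) = w := by
        calc (w' : G) = ((w' : G) * (w : G)⁻¹) * w := by group
          _ = w := by rw [h3, one_mul]
      exact this.symm
    have hψsurj : Function.Surjective ψ := Finite.surjective_of_injective hψinj
    intro x hxK
    obtain ⟨w, hw⟩ := hψsurj ⟨x, hxK⟩
    have hx : x = (w : G)⁻¹ * (t * w * t⁻¹) := (congrArg Subtype.val hw).symm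
    refine ⟨w, w.2, hx, ?_⟩
    rw [hx, htinv]
    calc t * ((w : G)⁻¹ * (t * w * t)) * t = (t * (w : G)⁻¹ * t) * (w * (t * t)) := by
          group
      _ = (t * (w : G)⁻¹ * t) * w := by rw [htsq, mul_one]
      _ = ((w : G)⁻¹ * (t * w * t))⁻¹ := by
          have e : (t * (w : G) * t)⁻¹ = t * (w : G)⁻¹ * t := by
            rw [mul_inv_rev, mul_inv_rev, htinv, mul_assoc]
          rw [mul_inv_rev, inv_inv, e]
  refine ⟨hKS.symm, ?_, fun t htS ht1 x hx => (hinv t htS ht1 x hx).choose_spec.2.2⟩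
  -- `K = G'`
  apply le_antisymm
  · intro x hxK
    -- pick the involution of `S`
    have hSne : (S : Subgroup G) ≠ ⊥ := by
      intro h
      rw [h, Subgroup.card_bot] at hS2
      omega
    obtain ⟨⟨t, htS⟩, ht1⟩ := (Subgroup.ne_bot_iff_exists_ne_one).1 hSne
    have ht1' : t ≠ 1 := fun e => ht1 (Subtype.ext e)
    obtain ⟨w, -, hx, -⟩ := hinv t htS ht1' x hxK
    rw [commutator_def, hx]
    have : w⁻¹ * (t * w * t⁻¹) = ⁅w⁻¹, t⁆ := by
      rw [commutatorElement_def]; group
    rw [this]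
    exact Subgroup.commutator_mem_commutator (Subgroup.mem_top _) (Subgroup.mem_top _)
  · rw [commutator_def, Subgroup.commutator_le]
    intro a _ b _
    rw [commutatorElement_def]
    have h1 : a * b * a⁻¹ ∈ K ↔ b ∈ K := by
      constructor
      · intro h
        have := hKN.conj_mem _ h a⁻¹
        have e : a⁻¹ * (a * b * a⁻¹) * a⁻¹⁻¹ = b := by group
        rwa [e] at this
      · intro h
        exact hKN.conj_mem b h a
    rw [Subgroup.mul_mem_iff_of_index_two hKidx, h1, Subgroup.inv_mem_iff]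

end Final

/-- Let G be a finite solvable group of even order in which every element is conjugate to its inverse and all involutions are conjugate. Then a Sylow 2-subgroup S of G has order 2 or is a generalized quaternion group (of order at least 8). Moreover, if S has order 2, then G is the semidirect product of its largest normal subgroup of odd order O(G) by S, O(G) equals the derived subgroup of G, and the involution of S inverts every element of O(G). -/
theorem result {G : Type*} [Group G] [Finite G] [Group.IsSolvable G]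
    (hamb : ∀ x : G, IsConj x x⁻¹) (heven : 2 ∣ Nat.card G) (hone : ∀ s t : G, orderOf s = 2 → orderOf t = 2 → IsConj s t) (S : Sylow 2 G) :
    (Nat.card S = 2 ∨ ∃ n : ℕ, Nonempty ((S : Subgroup G) ≃* QuaternionGroup (2 ^ (n + 1)))) ∧
    (Nat.card S = 2 → (S : Subgroup G).IsComplement' (Cfsg.oddCore G) ∧ Cfsg.oddCore G = commutator G ∧
        ∀ t : G, t ∈ S → t ≠ 1 → ∀ x : G, x ∈ Cfsg.oddCore G → t * x * t⁻¹ = x⁻¹) := by
  have h2prime : Fact (Nat.Prime 2) := ⟨Nat.prime_two⟩
  refine ⟨?_, fun hS2 => part_two hamb S hS2⟩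
  have huniq := unique_subgroup_card_two hamb hone S
  rcases Cfsg.Agent.S0016.result 2 S.isPGroup' huniq with hcyc | ⟨-, n, hn⟩
  · left
    exact card_eq_two_of_isCyclic hamb heven S hcyc
  · rcases n with _ | n
    · left
      rw [pow_zero] at hn
      obtain ⟨e⟩ := hn
      have h1 : IsCyclic (QuaternionGroup 1) := QuaternionGroup.quaternionGroup_one_isCyclic
      have hcyc : IsCyclic (S : Subgroup G) :=
        isCyclic_of_surjective e.symm e.symm.surjective
      exact card_eq_two_of_isCyclic hamb heven S hcyc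
    · right
      exact ⟨n, hn⟩

end Cfsg.Agent.S4061
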