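import Cfsg.Statements.S4062
import Cfsg.Agent.S4061
-- import your own Cfsg.Agent.* helpers here

set_option autoImplicit false
open Cfsg

namespace Cfsg.Agent.S4062

open Cfsg.Agent.Lib.Helper67_Basic Cfsg.Agent.S4061

variable {G : Type*} [Group G]

/-- A group of order six with a non-normal subgroup of order two is the symmetric group. -/
theorem nonempty_mulEquiv_perm_fin_three [Finite G] (hcard : Nat.card G = 6) (H : Subgroup G)
    (hH : Nat.card H = 2) (hnn : ¬ H.Normal) : Nonempty (G ≃* Equiv.Perm (Fin 3)) := by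
  set φ := MulAction.toPermHom G (G ⧸ H) with hφ
  have hker : φ.ker = ⊥ := by
    rw [hφ, ← Subgroup.normalCore_eq_ker]
    have hle : H.normalCore ≤ H := Subgroup.normalCore_le H
    have hdvd : Nat.card H.normalCore ∣ 2 := by
      rw [← hH]; exact Subgroup.card_dvd_of_le hle
    rcases (Nat.dvd_prime Nat.prime_two).1 hdvd with h1 | h2
    · exact Subgroup.card_eq_one.1 h1
    · exfalso
      apply hnn
      have : H.normalCore = H := Subgroup.eq_of_le_of_card_ge hle (by rw [h2, hH])
      rw [← this]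
      infer_instance
  have hinj : Function.Injective φ := (MonoidHom.ker_eq_bot_iff φ).1 hker
  have hidx : Nat.card (G ⧸ H) = 3 := by
    have h1 := Subgroup.card_mul_index H
    rw [hH, hcard] at h1
    rw [← Subgroup.index_eq_card]
    omega
  have : Finite (G ⧸ H) := Nat.finite_of_card_ne_zero (by rw [hidx]; norm_num)
  have e : (G ⧸ H) ≃ Fin 3 := Finite.equivFinOfCardEq hidx
  set ψ : G →* Equiv.Perm (Fin 3) := (e.permCongrHom.toMonoidHom).comp φ with hψ
  have hψinj : Function.Injective ψ := by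
    rw [hψ]
    exact e.permCongrHom.injective.comp hinj
  have hcard2 : Nat.card (Equiv.Perm (Fin 3)) = 6 := by
    rw [Nat.card_eq_fintype_card, Fintype.card_perm, Fintype.card_fin]; rfl
  have hbij : Function.Bijective ψ :=
    Function.Injective.bijective_of_nat_card_le hψinj (by rw [hcard, hcard2])
  exact ⟨MulEquiv.ofBijective ψ hbij⟩

/-- A Sylow `2`-subgroup of a group of order `2 * odd` has order `2`. -/
theorem card_sylow_two_of_two_mul_odd [Finite G] {o : ℕ} (ho : Odd o) (h : Nat.card G = 2 * o)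
    (P : Sylow 2 G) : Nat.card P = 2 := by
  have h2prime : Fact (Nat.Prime 2) := ⟨Nat.prime_two⟩
  rw [P.card_eq_multiplicity, h]
  have ho0 : o ≠ 0 := by
    rintro rfl
    simp at ho
  rw [Nat.factorization_mul (by norm_num) ho0]
  have h1 : (2 : ℕ).factorization 2 = 1 := Nat.Prime.factorization_self Nat.prime_two
  have h2 : o.factorization 2 = 0 :=
    Nat.factorization_eq_zero_of_not_dvd (fun hd => by
      rcases ho with ⟨j, rfl⟩
      omega)
  simp [h1, h2]

/-- If a Sylow `2`-subgroup has order two, the odd core has index two. -/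
theorem card_oddCore_mul_two [Finite G] (S : Sylow 2 G) (hS2 : Nat.card S = 2) :
    Nat.card (Cfsg.pPrimeCore 2 G) * 2 = Nat.card G := by
  have h2prime : Fact (Nat.Prime 2) := ⟨Nat.prime_two⟩
  have hScyc : IsCyclic (S : Subgroup G) := isCyclic_of_prime_card hS2
  have heven : 2 ∣ Nat.card G := by
    have := Subgroup.card_subgroup_dvd_card (S : Subgroup G)
    rwa [hS2] at this
  obtain ⟨K₀, hK₀N, hK₀S, -⟩ := exists_normal_complement_of_isCyclic heven S hScyc
  have hK₀card : Nat.card K₀ = (S : Subgroup G).index := hK₀S.index_eq_card.symm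
  have hK₀odd : (Nat.card K₀).Coprime 2 := by
    rw [hK₀card, Nat.coprime_comm, Nat.Prime.coprime_iff_not_dvd Nat.prime_two]
    exact S.not_dvd_index
  have h2 : Nat.card K₀ * Nat.card (S : Subgroup G) = Nat.card G := hK₀S.card_mul_card
  have hK₀eq : K₀ = Cfsg.pPrimeCore 2 G := by
    apply Subgroup.eq_of_le_of_card_ge (Cfsg.Agent.Lib.Helper1_Cores.le_pPrimeCore hK₀N hK₀odd)
    have h1 : Nat.card (Cfsg.pPrimeCore 2 G) ∣ Nat.card G := Subgroup.card_subgroup_dvd_card _
    rw [← h2, hS2] at h1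
    have h3 : (Nat.card (Cfsg.pPrimeCore 2 G)).Coprime 2 :=
      Cfsg.Agent.Lib.Helper1_Cores.pPrimeCore_card_coprime (G := G) 2
    exact Nat.le_of_dvd Nat.card_pos (h3.dvd_of_dvd_mul_right h1)
  rw [← hK₀eq, ← h2, hS2]

theorem odd_of_coprime_two {n : ℕ} (h : n.Coprime 2) : Odd n := by
  rcases Nat.even_or_odd n with he | ho
  · exfalso
    have h2 : 2 ∣ n := even_iff_two_dvd.1 he
    have := Nat.Coprime.eq_one_of_dvd h.symm h2
    omega
  · exact ho

/-- An ambivalent group of odd order is trivial. -/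
theorem eq_one_of_odd_card [Finite G] (hamb : ∀ x : G, IsConj x x⁻¹) (hodd : ¬ 2 ∣ Nat.card G)
    (x : G) : x = 1 := by
  have hcop : (Nat.card G).Coprime 2 :=
    (Nat.coprime_comm).1 ((Nat.Prime.coprime_iff_not_dvd Nat.prime_two).2 hodd)
  have hoddo : ∀ g : G, Odd (orderOf g) := fun g =>
    odd_of_coprime_two (Nat.Coprime.coprime_dvd_left (orderOf_dvd_natCard g) hcop)
  obtain ⟨g, hg⟩ := isConj_iff.1 (hamb x)
  have := pow_conj_inv_of_odd hg (hoddo g)
  rw [pow_orderOf_eq_one] at this
  have hxx : x = x⁻¹ := by simpa using this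
  apply eq_one_of_sq_eq_one_of_odd_orderOf (hoddo x)
  rw [pow_two]
  calc x * x = x * x⁻¹ := by rw [← hxx]
    _ = 1 := mul_inv_cancel x

/-- The case of a Sylow `2`-subgroup of order two. -/
theorem case_two [Finite G] (h : ∀ x y : G, orderOf x = orderOf y → IsConj x y) (S : Sylow 2 G)
    (hS2 : Nat.card S = 2) (hcompl : (S : Subgroup G).IsComplement' (Cfsg.oddCore G))
    (hinv : ∀ t : G, t ∈ S → t ≠ 1 → ∀ x : G, x ∈ Cfsg.oddCore G → t * x * t⁻¹ = x⁻¹) :
    Nat.card G = 2 ∨ Nonempty (G ≃* Equiv.Perm (Fin 3)) := by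
  have h2prime : Fact (Nat.Prime 2) := ⟨Nat.prime_two⟩
  set K := Cfsg.oddCore G with hK
  have hKN : K.Normal := by rw [hK]; infer_instance
  have hKidx : K.index = 2 := by rw [hcompl.index_eq_card, hS2]
  have hKodd : (Nat.card K).Coprime 2 :=
    Cfsg.Agent.Lib.Helper1_Cores.pPrimeCore_card_coprime (G := G) 2
  have hcardG : Nat.card (S : Subgroup G) * Nat.card K = Nat.card G := hcompl.card_mul_card
  have hSne : (S : Subgroup G) ≠ ⊥ := by
    intro h0
    rw [h0, Subgroup.card_bot] at hS2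
    omega
  obtain ⟨⟨t, htS⟩, ht1⟩ := (Subgroup.ne_bot_iff_exists_ne_one).1 hSne
  have ht1' : t ≠ 1 := fun e => ht1 (Subtype.ext e)
  have htK : t ∉ K := fun h0 => ht1' (Subgroup.disjoint_def.1 hcompl.disjoint htS h0)
  have hti : ∀ x ∈ K, t * x * t⁻¹ = x⁻¹ := hinv t htS ht1'
  have hKcomm : ∀ x ∈ K, ∀ y ∈ K, x * y = y * x := by
    intro x hx y hy
    have h1 := hti (x * y) (K.mul_mem hx hy)
    have h2 : t * (x * y) * t⁻¹ = (t * x * t⁻¹) * (t * y * t⁻¹) := by group
    rw [h2, hti x hx, hti y hy] at h1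
    have h3 := congrArg (fun z => z⁻¹) h1
    simpa using h3.symm
  have hclass : ∀ x ∈ K, ∀ g : G, g * x * g⁻¹ = x ∨ g * x * g⁻¹ = x⁻¹ := by
    intro x hx g
    by_cases hg : g ∈ K
    · left
      rw [hKcomm g hg x hx]; group
    · right
      have hk : g * t⁻¹ ∈ K := (Subgroup.mul_mem_iff_of_index_two hKidx).2
        (iff_of_false hg (fun h0 => htK ((Subgroup.inv_mem_iff K).1 h0)))
      calc g * x * g⁻¹ = (g * t⁻¹) * (t * x * t⁻¹) * (g * t⁻¹)⁻¹ := by group
        _ = (g * t⁻¹) * x⁻¹ * (g * t⁻¹)⁻¹ := by rw [hti x hx]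
        _ = x⁻¹ := by rw [hKcomm _ hk _ (K.inv_mem hx)]; group
  have hcube : ∀ x ∈ K, x ^ 3 = 1 := by
    intro x hx
    have hcop : (orderOf x).Coprime 2 :=
      Nat.Coprime.coprime_dvd_left (Subgroup.orderOf_dvd_natCard _ hx) hKodd
    have ho : orderOf x = orderOf (x ^ 2) := (Nat.Coprime.orderOf_pow hcop).symm
    obtain ⟨g, hg⟩ := isConj_iff.1 (h x (x ^ 2) ho)
    rcases hclass x hx g with h1 | h1
    · rw [h1] at hg
      have : x = 1 := by
        have h2 : x * 1 = x * x := by rw [mul_one, ← pow_two]; exact hg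
        exact (mul_left_cancel h2).symm
      rw [this, one_pow]
    · rw [h1] at hg
      rw [pow_succ, ← hg, inv_mul_cancel]
  by_cases hKbot : K = ⊥
  · left
    rw [← hcardG, hS2, hKbot, Subgroup.card_bot]
  · right
    obtain ⟨⟨x, hxK⟩, hx1⟩ := (Subgroup.ne_bot_iff_exists_ne_one).1 hKbot
    have hx1' : x ≠ 1 := fun e => hx1 (Subtype.ext e)
    have h3prime : Fact (Nat.Prime 3) := ⟨Nat.prime_three⟩
    have hox : orderOf x = 3 := orderOf_eq_prime (hcube x hxK) hx1'
    have hKz : K = Subgroup.zpowers x := by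
      apply le_antisymm
      · intro y hy
        by_cases hy1 : y = 1
        · rw [hy1]; exact Subgroup.one_mem _
        · have hoy : orderOf y = 3 := orderOf_eq_prime (hcube y hy) hy1
          obtain ⟨g, hg⟩ := isConj_iff.1 (h x y (hox.trans hoy.symm))
          rcases hclass x hxK g with h1 | h1
          · rw [← hg, h1]; exact Subgroup.mem_zpowers x
          · rw [← hg, h1]; exact Subgroup.inv_mem _ (Subgroup.mem_zpowers x)
      · exact Subgroup.zpowers_le.2 hxK
    have hcardK : Nat.card K = 3 := by rw [hKz, Nat.card_zpowers, hox]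
    have hcard : Nat.card G = 6 := by rw [← hcardG, hS2, hcardK]
    refine nonempty_mulEquiv_perm_fin_three hcard (S : Subgroup G) hS2 ?_
    intro hSN
    have hcomm : Commute t x :=
      Subgroup.commute_of_normal_of_disjoint _ _ hSN hKN hcompl.disjoint t x htS hxK
    have h1 := hti x hxK
    rw [hcomm.eq, mul_inv_cancel_right] at h1
    -- `x = x⁻¹` and `x ^ 3 = 1` give `x = 1`
    apply hx1'
    have h2 : x ^ 3 = 1 := hcube x hxK
    have h3 : x * x = 1 := by
      calc x * x = x * x⁻¹ := by rw [← h1]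
        _ = 1 := mul_inv_cancel x
    calc x = x ^ 3 * (x * x)⁻¹ := by group
      _ = 1 := by rw [h2, h3, inv_one, one_mul]

/-- In a generalized quaternion group of order at least eight there are two elements of order four
whose product does not square to one. -/
theorem quaternion_elements (n : ℕ) :
    ∃ q₁ q₂ : QuaternionGroup (2 ^ (n + 1)), orderOf q₁ = 4 ∧ orderOf q₂ = 4 ∧
      (q₁ * q₂) * (q₁ * q₂) ≠ 1 := by
  have hne : NeZero (2 ^ (n + 1)) := ⟨(pow_pos (by norm_num) _).ne'⟩
  refine ⟨QuaternionGroup.xa 0, QuaternionGroup.xa 1, QuaternionGroup.orderOf_xa 0,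
    QuaternionGroup.orderOf_xa 1, ?_⟩
  rw [QuaternionGroup.xa_mul_xa, QuaternionGroup.a_mul_a, QuaternionGroup.one_def]
  intro h0
  have h1 : ((2 ^ (n + 1) : ℕ) : ZMod (2 * 2 ^ (n + 1))) + 1 - 0 +
      (((2 ^ (n + 1) : ℕ) : ZMod (2 * 2 ^ (n + 1))) + 1 - 0) = 0 := by
    injection h0
  have h2 : ((2 * 2 ^ (n + 1) + 2 : ℕ) : ZMod (2 * 2 ^ (n + 1))) = 0 := by
    rw [← h1]; push_cast; ring
  have h3 : ((2 : ℕ) : ZMod (2 * 2 ^ (n + 1))) = 0 := by
    rw [Nat.cast_add, ZMod.natCast_self, zero_add] at h2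
    exact h2
  rw [ZMod.natCast_eq_zero_iff] at h3
  have h4 : 2 * 2 ^ (n + 1) ≤ 2 := Nat.le_of_dvd (by norm_num) h3
  have h5 : 2 ≤ 2 ^ (n + 1) := by
    calc 2 = 2 ^ 1 := (pow_one 2).symm
      _ ≤ 2 ^ (n + 1) := Nat.pow_le_pow_right (by norm_num) (by omega)
  omega

/-- The generalized quaternion case is impossible. -/
theorem quaternion_case_false [Finite G] [Group.IsSolvable G]
    (h : ∀ x y : G, orderOf x = orderOf y → IsConj x y) (S : Sylow 2 G) (n : ℕ)
    (e : (S : Subgroup G) ≃* QuaternionGroup (2 ^ (n + 1))) : False := by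
  have h2prime : Fact (Nat.Prime 2) := ⟨Nat.prime_two⟩
  have hamb : ∀ x : G, IsConj x x⁻¹ := fun x => h x x⁻¹ (orderOf_inv x).symm
  have hone : ∀ s t : G, orderOf s = 2 → orderOf t = 2 → IsConj s t :=
    fun s t hs ht => h s t (hs.trans ht.symm)
  set K := Cfsg.pPrimeCore 2 G with hK
  have hKodd : (Nat.card K).Coprime 2 :=
    Cfsg.Agent.Lib.Helper1_Cores.pPrimeCore_card_coprime (G := G) 2
  -- the two elements of order four
  obtain ⟨q₁, q₂, hq₁, hq₂, hq⟩ := quaternion_elements n
  set u₁ : G := ((e.symm q₁ : (S : Subgroup G)) : G) with hu₁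
  set u₂ : G := ((e.symm q₂ : (S : Subgroup G)) : G) with hu₂
  have ho₁ : orderOf u₁ = 4 := by
    rw [hu₁, Subgroup.orderOf_coe, MulEquiv.orderOf_eq]; exact hq₁
  have ho₂ : orderOf u₂ = 4 := by
    rw [hu₂, Subgroup.orderOf_coe, MulEquiv.orderOf_eq]; exact hq₂
  have hu₁₂ : (u₁ * u₂) * (u₁ * u₂) ≠ 1 := by
    intro h0
    apply hq
    have h1 : ((e.symm ((q₁ * q₂) * (q₁ * q₂)) : (S : Subgroup G)) : G) = 1 := by
      rw [map_mul, map_mul]
      exact h0
    have h2 : e.symm ((q₁ * q₂) * (q₁ * q₂)) = 1 := Subtype.ext h1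
    have h3 := congrArg e h2
    rwa [MulEquiv.apply_symm_apply, map_one] at h3
  have hu₁₂S : u₁ * u₂ ∈ (S : Subgroup G) :=
    Subgroup.mul_mem _ (e.symm q₁).2 (e.symm q₂).2
  -- an involution
  set z : G := u₁ ^ 2 with hz
  have hoz : orderOf z = 2 := by
    rw [hz, orderOf_pow' u₁ (by norm_num), ho₁]
    norm_num
  have horder2 : ∀ u : G, orderOf u = 4 → orderOf (u * u) = 2 := by
    intro u hu
    rw [← pow_two, orderOf_pow' u (by norm_num), hu]
    norm_num
  -- the unique involution modulo `K`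
  set zb : G ⧸ K := QuotientGroup.mk' K z with hzb
  have himg : ∀ s : G, orderOf s = 2 → orderOf (QuotientGroup.mk' K s) = 2 := by
    intro s hs
    apply orderOf_eq_two_of_sq
    · rw [← map_mul, sq_of_orderOf_eq_two hs, map_one]
    · intro h1
      have hmem : s ∈ K := (QuotientGroup.eq_one_iff _).1 h1
      have := eq_one_of_mem_odd hKodd hmem (k := 1)
        (by rw [pow_one, pow_two]; exact sq_of_orderOf_eq_two hs)
      exact ne_one_of_orderOf_eq_two hs this
  have hozb : orderOf zb = 2 := himg z hoz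
  have hzbcentral : ∀ g : G ⧸ K, g * zb * g⁻¹ = zb := by
    intro g
    apply unique_involution_quotient hamb hone _ _ _ hozb
    rw [orderOf_conj_eq]; exact hozb
  set Zb : Subgroup (G ⧸ K) := Subgroup.zpowers zb with hZb
  have hZbN : Zb.Normal := by
    constructor
    intro w hw g
    obtain ⟨j, rfl⟩ := Subgroup.mem_zpowers_iff.1 hw
    have : g * zb ^ j * g⁻¹ = zb ^ j := by
      have h1 : g * zb ^ j * g⁻¹ = (g * zb * g⁻¹) ^ j := by
        rw [← MulAut.conj_apply, map_zpow, MulAut.conj_apply]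
      rw [h1, hzbcentral]
    rw [this]; exact hw
  have hZbcard : Nat.card Zb = 2 := by rw [hZb, Nat.card_zpowers, hozb]
  set M : Subgroup G := Zb.comap (QuotientGroup.mk' K) with hM
  have hMN : M.Normal := hZbN.comap _
  have hMcard : Nat.card M = Nat.card K * 2 := by
    rw [hM, card_comap_mk', hZbcard]
  have hzM : z ∈ M := by
    rw [hM, Subgroup.mem_comap]; exact Subgroup.mem_zpowers zb
  have hinvM : ∀ s : G, orderOf s = 2 → s ∈ M := by
    intro s hs
    obtain ⟨g, hg⟩ := isConj_iff.1 (hone z s hoz hs)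
    rw [← hg]
    exact hMN.conj_mem z hzM g
  -- `2`-elements of `M` have order at most two
  have h2M : ∀ w ∈ M, ∀ j : ℕ, w ^ (2 ^ j) = 1 → w * w = 1 := by
    intro w hw j hwj
    have h1 : orderOf w ∣ 2 ^ j := orderOf_dvd_of_pow_eq_one hwj
    have h2 : orderOf w ∣ Nat.card K * 2 := by
      rw [← hMcard]; exact Subgroup.orderOf_dvd_natCard _ hw
    obtain ⟨i, -, hi⟩ := (Nat.dvd_prime_pow Nat.prime_two).1 h1
    have h3 : (orderOf w).Coprime (Nat.card K) := by
      rw [hi]; exact Nat.Coprime.pow_left i hKodd.symm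
    have h4 : orderOf w ∣ 2 := h3.dvd_of_dvd_mul_left h2
    rw [← pow_two]
    exact orderOf_dvd_iff_pow_eq_one.1 h4
  -- the quotient `Γ = G ⧸ M`
  have hΓamb : ∀ x : G ⧸ M, IsConj x x⁻¹ := by
    intro x
    induction x using QuotientGroup.induction_on with
    | H x =>
      have := MonoidHom.map_isConj (QuotientGroup.mk' M) (hamb x)
      rwa [map_inv] at this
  -- involutions of `Γ` lift to elements of order four
  have hlift : ∀ ub : G ⧸ M, orderOf ub = 2 →
      ∃ u : G, orderOf u = 4 ∧ QuotientGroup.mk' M u = ub := by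
    intro ub hub
    induction ub using QuotientGroup.induction_on with
    | H u₀ =>
      obtain ⟨k, m, hm, hkm⟩ := Nat.exists_eq_two_pow_mul_odd (orderOf_pos u₀).ne'
      have hsq : (QuotientGroup.mk' M u₀) * (QuotientGroup.mk' M u₀) = 1 :=
        sq_of_orderOf_eq_two hub
      have hne : QuotientGroup.mk' M u₀ ≠ 1 := ne_one_of_orderOf_eq_two hub
      have hmk : QuotientGroup.mk' M (u₀ ^ m) = QuotientGroup.mk' M u₀ := by
        obtain ⟨j, rfl⟩ := hm
        rw [map_pow, pow_succ, pow_mul, pow_two, hsq, one_pow, one_mul]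
      refine ⟨u₀ ^ m, ?_, hmk⟩
      set u := u₀ ^ m with hu
      have huM : u * u ∈ M := by
        rw [← QuotientGroup.eq_one_iff]
        change QuotientGroup.mk' M (u * u) = 1
        rw [map_mul, hmk, hsq]
      have hupow : (u * u) ^ (2 ^ k) = 1 := by
        rw [hu, ← pow_two, ← pow_mul, ← pow_mul]
        have : m * (2 * 2 ^ k) = (2 ^ k * m) * 2 := by ring
        rw [this, ← hkm, pow_mul, pow_orderOf_eq_one, one_pow]
      have hu4 : u ^ 4 = 1 := by
        have := h2M (u * u) huM k hupow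
        calc u ^ 4 = (u * u) * (u * u) := by
              rw [show (4 : ℕ) = 2 + 2 from rfl, pow_add, pow_two]
          _ = 1 := this
      have hunotM : u ∉ M := by
        intro h0
        apply hne
        rw [← hmk]
        exact (QuotientGroup.eq_one_iff u).2 h0
      have hu2 : u * u ≠ 1 := by
        intro h0
        have hu1 : u ≠ 1 := fun h1 => hunotM (h1 ▸ M.one_mem)
        exact hunotM (hinvM u (orderOf_eq_two_of_sq h0 hu1))
      have hdvd : orderOf u ∣ 4 := orderOf_dvd_of_pow_eq_one hu4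
      have h4 : (4 : ℕ) = 2 ^ 2 := by norm_num
      rw [h4] at hdvd
      obtain ⟨i, hi2, hi⟩ := (Nat.dvd_prime_pow Nat.prime_two).1 hdvd
      interval_cases i
      · exfalso
        rw [pow_zero, orderOf_eq_one_iff] at hi
        exact hunotM (hi ▸ M.one_mem)
      · exfalso
        rw [pow_one] at hi
        exact hu2 (sq_of_orderOf_eq_two hi)
      · rw [hi]; norm_num
  have hΓone : ∀ a b : G ⧸ M, orderOf a = 2 → orderOf b = 2 → IsConj a b := by
    intro a b ha hb
    obtain ⟨u, hu, rfl⟩ := hlift a ha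
    obtain ⟨v, hv, rfl⟩ := hlift b hb
    exact MonoidHom.map_isConj (QuotientGroup.mk' M) (h u v (hu.trans hv.symm))
  -- `Γ` is core-free
  have hΓcore : Cfsg.pPrimeCore 2 (G ⧸ M) = ⊥ := by
    set Rb := Cfsg.pPrimeCore 2 (G ⧸ M) with hRb
    have hRbodd : (Nat.card Rb).Coprime 2 :=
      Cfsg.Agent.Lib.Helper1_Cores.pPrimeCore_card_coprime (G := G ⧸ M) 2
    set R : Subgroup G := Rb.comap (QuotientGroup.mk' M) with hR
    have hRN : R.Normal := (inferInstance : Rb.Normal).comap _
    have hRcard : Nat.card R = 2 * (Nat.card K * Nat.card Rb) := by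
      rw [hR, card_comap_mk', hMcard]; ring
    have hodd : Odd (Nat.card K * Nat.card Rb) :=
      (odd_of_coprime_two hKodd).mul (odd_of_coprime_two hRbodd)
    obtain P : Sylow 2 R := default
    have hP2 : Nat.card P = 2 := card_sylow_two_of_two_mul_odd hodd hRcard P
    have hcore := card_oddCore_mul_two P hP2
    set O : Subgroup G := (Cfsg.pPrimeCore 2 R).map R.subtype with hO
    have hON : O.Normal := ConjAct.normal_of_characteristic_of_normal
    have hOcard : Nat.card O = Nat.card (Cfsg.pPrimeCore 2 R) :=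
      Subgroup.card_map_of_injective (Subgroup.subtype_injective R)
    have hOodd : (Nat.card O).Coprime 2 := by
      rw [hOcard]
      exact Cfsg.Agent.Lib.Helper1_Cores.pPrimeCore_card_coprime (G := R) 2
    have hOK : O ≤ K := Cfsg.Agent.Lib.Helper1_Cores.le_pPrimeCore hON hOodd
    have hle : Nat.card O ≤ Nat.card K := Subgroup.card_le_of_le hOK
    rw [← hOcard, hRcard] at hcore
    have h1 : Nat.card O = Nat.card K * Nat.card Rb := by omega
    have hKpos : 0 < Nat.card K := Nat.card_pos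
    have h2 : Nat.card Rb ≤ 1 := by
      by_contra h3
      push Not at h3
      have : Nat.card K * 2 ≤ Nat.card K * Nat.card Rb := Nat.mul_le_mul_left _ h3
      omega
    have h3 : Nat.card Rb = 1 := le_antisymm h2 Nat.card_pos
    exact Subgroup.card_eq_one.1 h3
  -- the images of `u₁`, `u₂` are involutions of `Γ`
  have himgΓ : ∀ u : G, orderOf u = 4 → orderOf (QuotientGroup.mk' M u) = 2 := by
    intro u hu
    apply orderOf_eq_two_of_sq
    · rw [← map_mul]
      exact (QuotientGroup.eq_one_iff _).2 (hinvM _ (horder2 u hu))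
    · intro h0
      have huM : u ∈ M := (QuotientGroup.eq_one_iff _).1 h0
      have h1 := h2M u huM 2 (by
        have : (2 : ℕ) ^ 2 = 4 := by norm_num
        rw [this, ← hu, pow_orderOf_eq_one])
      have h2 := horder2 u hu
      rw [h1, orderOf_one] at h2
      omega
  have heq := unique_involution_of_coreFree hΓcore hΓamb hΓone _ _ (himgΓ u₁ ho₁) (himgΓ u₂ ho₂)
  have hmem : u₁ * u₂ ∈ M := by
    rw [← QuotientGroup.eq_one_iff]
    change QuotientGroup.mk' M (u₁ * u₂) = 1
    rw [map_mul, ← heq]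
    exact sq_of_orderOf_eq_two (himgΓ u₁ ho₁)
  obtain ⟨j, hj⟩ := (S.isPGroup') ⟨u₁ * u₂, hu₁₂S⟩
  have hj' : (u₁ * u₂) ^ (2 ^ j) = 1 := by
    have := congrArg (fun w : (S : Subgroup G) => (w : G)) hj
    simpa using this
  exact hu₁₂ (h2M _ hmem j hj')

/-- A finite solvable group in which any two elements of the same order are conjugate has order 1 or 2 or is isomorphic to the symmetric group of degree 3. -/
theorem result {G : Type*} [Group G] [Finite G] [Group.IsSolvable G]
    (h : ∀ x y : G, orderOf x = orderOf y → IsConj x y) :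
    Nat.card G = 1 ∨ Nat.card G = 2 ∨ Nonempty (G ≃* Equiv.Perm (Fin 3)) := by
  have h2prime : Fact (Nat.Prime 2) := ⟨Nat.prime_two⟩
  have hamb : ∀ x : G, IsConj x x⁻¹ := fun x => h x x⁻¹ (orderOf_inv x).symm
  have hone : ∀ s t : G, orderOf s = 2 → orderOf t = 2 → IsConj s t :=
    fun s t hs ht => h s t (hs.trans ht.symm)
  by_cases heven : 2 ∣ Nat.card G
  · right
    obtain S : Sylow 2 G := default
    obtain ⟨h1, h2⟩ := Cfsg.Agent.S4061.result hamb heven hone S
    rcases h1 with hS2 | ⟨n, ⟨e⟩⟩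
    · obtain ⟨hcompl, -, hinv⟩ := h2 hS2
      exact case_two h S hS2 hcompl hinv
    · exact (quaternion_case_false h S n e).elim
  · left
    have : Subsingleton G := ⟨fun a b => by
      rw [eq_one_of_odd_card hamb heven a, eq_one_of_odd_card hamb heven b]⟩
    exact Nat.card_eq_one_iff_unique.2 ⟨this, ⟨1⟩⟩

end Cfsg.Agent.S4062
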