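-- Statement S2759: S₄ is involved in G iff S₃ is involved in N(T)/C(T) for some 2-subgroup T.
import Cfsg.Statements.S2759
import Cfsg.Agent.Lib.Helper21_S4Core
import Cfsg.Agent.S2758
import Cfsg.Agent.S4062

set_option autoImplicit false
open Cfsg

namespace Cfsg.Agent.S2759

open Equiv
open Cfsg.Agent.Lib.Helper21_S4Core Cfsg.Agent.Lib.Helper21_S4Lift

/-! ### Explicit permutations -/

def a4 : Perm (Fin 4) := swap 0 1 * swap 2 3
def b4 : Perm (Fin 4) := swap 0 2 * swap 1 3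
def c4 : Perm (Fin 4) := swap 0 1 * swap 1 2
def s4 : Perm (Fin 4) := swap 0 1
def c3 : Perm (Fin 3) := swap 0 1 * swap 1 2
def s3 : Perm (Fin 3) := swap 0 1

set_option maxRecDepth 100000 in
theorem V4_conj : ∀ g σ : Perm (Fin 4), a4 * σ = σ * a4 → b4 * σ = σ * b4 →
    a4 * (g * σ * g⁻¹) = (g * σ * g⁻¹) * a4 ∧ b4 * (g * σ * g⁻¹) = (g * σ * g⁻¹) * b4 := by
  decide

theorem V4_sq : ∀ σ : Perm (Fin 4), a4 * σ = σ * a4 → b4 * σ = σ * b4 → σ * σ = 1 := by
  decide

theorem c4_cent : ∀ σ : Perm (Fin 4), c4 * σ = σ * c4 → σ * a4 = a4 * σ → σ = 1 := by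
  decide

theorem c4_pow : c4 ^ 3 = 1 := by decide
theorem c4_ne : c4 ≠ 1 := by decide
theorem s4_c4 : s4 * c4 * s4⁻¹ = c4⁻¹ := by decide
theorem ab4 : b4 * a4 = a4 * b4 := by decide
theorem c3_pow : c3 ^ 3 = 1 := by decide
theorem c3_ne : c3 ≠ 1 := by decide
theorem s3_c3 : s3 * c3 * s3⁻¹ = c3⁻¹ := by decide

/-- the four-group of `S₄`, as the centralizer of two double transpositions -/
def V4 : Subgroup (Perm (Fin 4)) := Subgroup.centralizer {a4, b4}

theorem mem_V4 (σ : Perm (Fin 4)) : σ ∈ V4 ↔ a4 * σ = σ * a4 ∧ b4 * σ = σ * b4 := by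
  unfold V4
  rw [Subgroup.mem_centralizer_iff]
  constructor
  · intro h
    exact ⟨h a4 (by simp), h b4 (by simp)⟩
  · rintro ⟨h1, h2⟩ x hx
    rcases hx with rfl | rfl
    · exact h1
    · exact h2

theorem V4_normal : V4.Normal := by
  constructor
  intro σ hσ g
  rw [mem_V4] at hσ ⊢
  exact V4_conj g σ hσ.1 hσ.2

theorem a4_mem : a4 ∈ V4 := by
  rw [mem_V4]; exact ⟨rfl, ab4⟩

theorem V4_isPGroup : IsPGroup 2 V4 := by
  rintro ⟨σ, hσ⟩
  refine ⟨1, ?_⟩
  apply Subtype.ext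
  rw [mem_V4] at hσ
  simpa [pow_two] using V4_sq σ hσ.1 hσ.2

/-- the dihedral group of order six is the symmetric group of degree three -/
theorem nonempty_dihedral_three_equiv : Nonempty (DihedralGroup 3 ≃* Perm (Fin 3)) := by
  have hcard : Nat.card (DihedralGroup 3) = 6 := by rw [DihedralGroup.nat_card]
  have hsq : (DihedralGroup.sr (0 : ZMod 3)) * DihedralGroup.sr 0 = 1 := by decide
  have hne : DihedralGroup.sr (0 : ZMod 3) ≠ 1 := by decide
  refine Cfsg.Agent.S4062.nonempty_mulEquiv_perm_fin_three hcard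
    (Subgroup.zpowers (DihedralGroup.sr (0 : ZMod 3))) ?_ ?_
  · rw [Nat.card_zpowers]
    exact orderOf_eq_prime (by rw [pow_two]; exact hsq) hne
  · intro hn
    have h1 := hn.conj_mem _ (Subgroup.mem_zpowers (DihedralGroup.sr (0 : ZMod 3)))
      (DihedralGroup.r 1)
    rcases mem_zpowers_of_mul_self hsq h1 with h | h
    · revert h; decide
    · revert h; decide

/-! ### From `S₃` in `N(T)/C(T)` to `S₄` -/

theorem backward {G : Type*} [Group G] [Finite G] (T : Subgroup G) (hT : IsPGroup 2 T)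
    (h : Cfsg.Involves (Perm (Fin 3)) (↥(Subgroup.normalizer (T : Set G)) ⧸
      (Subgroup.centralizer (T : Set G)).subgroupOf (Subgroup.normalizer (T : Set G)))) :
    Cfsg.Involves (Perm (Fin 4)) G := by
  classical
  rw [Cfsg.Agent.S5299.involves_iff] at h
  obtain ⟨K', f', hf'⟩ := h
  obtain ⟨π, hπ⟩ : ∃ π : ↥(Subgroup.normalizer (T : Set G)) →* _, π = QuotientGroup.mk'
    ((Subgroup.centralizer (T : Set G)).subgroupOf (Subgroup.normalizer (T : Set G))) := ⟨_, rfl⟩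
  have hπsurj : Function.Surjective π := hπ ▸ QuotientGroup.mk'_surjective _
  have hπker : ∀ x : ↥(Subgroup.normalizer (T : Set G)),
      π x = 1 ↔ (x : G) ∈ Subgroup.centralizer (T : Set G) := by
    intro x
    rw [hπ, QuotientGroup.mk'_apply, QuotientGroup.eq_one_iff, Subgroup.mem_subgroupOf]
  have hf : Function.Surjective (f'.comp (π.subgroupComap K')) :=
    hf'.comp (π.subgroupComap_surjective_of_surjective K' hπsurj)
  obtain ⟨t₀, y₀, ht₀, hy₀, hinv₀, hfy1, -⟩ := lemmaB (f'.comp (π.subgroupComap K')) c3 s3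
    c3_pow c3_ne s3_c3 (MonoidHom.mem_range.2 (hf c3)) (MonoidHom.mem_range.2 (hf s3))
  apply core' T hT (((t₀ : ↥(Subgroup.normalizer (T : Set G))) : G))
    (((y₀ : ↥(Subgroup.normalizer (T : Set G))) : G)) (t₀ : ↥(Subgroup.normalizer (T : Set G))).2
    (y₀ : ↥(Subgroup.normalizer (T : Set G))).2
  · rw [Subgroup.orderOf_coe, Subgroup.orderOf_coe]; exact ht₀
  · rw [Subgroup.orderOf_coe, Subgroup.orderOf_coe]; exact hy₀
  · have := congrArg (fun z : ↥(K'.comap π) => (((z : ↥(Subgroup.normalizer (T : Set G))) : G)))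
      hinv₀
    simpa using this
  · intro hyC
    apply hfy1
    have h1 : π (y₀ : ↥(Subgroup.normalizer (T : Set G))) = 1 := (hπker _).2 hyC
    have h2 : π.subgroupComap K' y₀ = 1 := Subtype.ext h1
    rw [MonoidHom.comp_apply, h2, map_one]

/-! ### From `S₄` to `S₃` in `N(T)/C(T)` -/

theorem forward {G : Type*} [Group G] [Finite G] (h : Cfsg.Involves (Perm (Fin 4)) G) :
    ∃ T : Subgroup G, IsPGroup 2 ↥T ∧ Cfsg.Involves (Perm (Fin 3))
      (↥(Subgroup.normalizer (T : Set G)) ⧸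
        (Subgroup.centralizer (T : Set G)).subgroupOf (Subgroup.normalizer (T : Set G))) := by
  classical
  haveI : Fact (Nat.Prime 2) := ⟨Nat.prime_two⟩
  haveI : Fact (Nat.Prime 3) := ⟨Nat.prime_three⟩
  rw [Cfsg.Agent.S5299.involves_iff] at h
  obtain ⟨K, φ, hφ⟩ := h
  -- the preimage of the four-group and one of its Sylow subgroups
  obtain ⟨V, hV⟩ : ∃ V : Subgroup K, V = V4.comap φ := ⟨_, rfl⟩
  haveI hVn : V.Normal := hV ▸ V4_normal.comap φ
  have hVmem : ∀ x : K, x ∈ V ↔ φ x ∈ V4 := by intro x; rw [hV, Subgroup.mem_comap]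
  obtain ⟨P⟩ : Nonempty (Sylow 2 V) := inferInstance
  obtain ⟨TK, hTK⟩ : ∃ TK : Subgroup K, TK = (P : Subgroup V).map V.subtype := ⟨_, rfl⟩
  have hfrat : Subgroup.normalizer ((TK : Subgroup K) : Set K) ⊔ V = ⊤ := by
    rw [hTK]; exact Sylow.normalizer_sup_eq_top P
  have hTKp : IsPGroup 2 TK := hTK ▸ P.isPGroup'.map V.subtype
  -- `TK` maps onto the four-group
  have hclaim1 : ∀ σ ∈ V4, ∃ x ∈ TK, φ x = σ := by
    subst hV
    have hf : Function.Surjective (φ.subgroupComap V4) :=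
      φ.subgroupComap_surjective_of_surjective V4 hφ
    have htop : ((P.mapSurjective hf : Sylow 2 V4) : Subgroup V4) = ⊤ := by
      have h1 : IsPGroup 2 (⊤ : Subgroup V4) := V4_isPGroup.to_subgroup _
      exact ((P.mapSurjective hf).is_maximal' h1 le_top).symm
    intro σ hσ
    have h2 : (⟨σ, hσ⟩ : V4) ∈ ((P.mapSurjective hf : Sylow 2 V4) : Subgroup V4) := by
      rw [htop]; exact Subgroup.mem_top _
    rw [Sylow.coe_mapSurjective] at h2
    obtain ⟨x, hx, hxσ⟩ := h2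
    refine ⟨(x : K), ?_, ?_⟩
    · rw [hTK]; exact ⟨x, hx, rfl⟩
    · exact congrArg Subtype.val hxσ
  -- the normalizer of `TK` maps onto `S₄`
  obtain ⟨K₁, hK₁⟩ : ∃ K₁ : Subgroup K, K₁ = Subgroup.normalizer ((TK : Subgroup K) : Set K) :=
    ⟨_, rfl⟩
  rw [← hK₁] at hfrat
  have hTK₁ : TK ≤ K₁ := hK₁ ▸ Subgroup.le_normalizer
  have hK₁surj : ∀ σ : Perm (Fin 4), ∃ k : K₁, φ (k : K) = σ := by
    intro σ
    obtain ⟨k, rfl⟩ := hφ σ
    have hk : k ∈ K₁ ⊔ V := by rw [hfrat]; exact Subgroup.mem_top k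
    have hk' : k ∈ ((K₁ ⊔ V : Subgroup K) : Set K) := hk
    rw [Subgroup.mul_normal] at hk'
    obtain ⟨k₁, hk₁, v, hv, rfl⟩ := Set.mem_mul.1 hk'
    obtain ⟨x, hx, hxv⟩ := hclaim1 (φ v) ((hVmem v).1 hv)
    exact ⟨⟨k₁ * x, K₁.mul_mem hk₁ (hTK₁ hx)⟩, by rw [map_mul, map_mul, hxv]⟩
  have hrange : ∀ σ : Perm (Fin 4), σ ∈ (φ.comp K₁.subtype).range := by
    intro σ
    obtain ⟨k, hk⟩ := hK₁surj σ
    exact ⟨k, hk⟩
  obtain ⟨t₀, y₀, ht₀, hy₀, hinv₀, hfy1, hfyc⟩ := lemmaB (φ.comp K₁.subtype) c4 s4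
    c4_pow c4_ne s4_c4 (hrange c4) (hrange s4)
  -- the subgroup `T` of `G`
  obtain ⟨T, hTdef⟩ : ∃ T : Subgroup G, T = TK.map K.subtype := ⟨_, rfl⟩
  have hTp : IsPGroup 2 T := hTdef ▸ hTKp.map K.subtype
  have hTmem : ∀ x : K, x ∈ TK → (x : G) ∈ T := by
    intro x hx; rw [hTdef]; exact ⟨x, hx, rfl⟩
  have hnorm : ∀ k : K₁, (((k : K)) : G) ∈ Subgroup.normalizer (T : Set G) := by
    intro k
    apply mem_normalizer_of_conj_mem
    intro x hx
    rw [hTdef] at hx
    obtain ⟨x₀, hx₀, rfl⟩ := hx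
    have hk : (k : K) ∈ Subgroup.normalizer ((TK : Subgroup K) : Set K) := hK₁ ▸ k.2
    exact hTmem _ (conj_mem_of_mem_normalizer hk hx₀)
  refine ⟨T, hTp, ?_⟩
  -- `y₀` does not centralize `T`
  have hyC : (((y₀ : K)) : G) ∉ Subgroup.centralizer (T : Set G) := by
    intro hyC
    apply hfy1
    obtain ⟨x₀, hx₀, hxa⟩ := hclaim1 a4 a4_mem
    have h1 := (Subgroup.mem_centralizer_iff.1 hyC) (x₀ : G) (hTmem x₀ hx₀)
    have h2 : x₀ * (y₀ : K) = (y₀ : K) * x₀ := Subtype.ext h1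
    have h3 : a4 * φ (y₀ : K) = φ (y₀ : K) * a4 := by
      rw [← hxa, ← map_mul, ← map_mul, h2]
    have h4 : c4 * φ (y₀ : K) = φ (y₀ : K) * c4 := by
      obtain ⟨m, hm⟩ := Subgroup.mem_zpowers_iff.1 hfyc
      have : (φ.comp K₁.subtype) y₀ = φ (y₀ : K) := rfl
      rw [← this, ← hm]
      exact ((Commute.refl c4).zpow_right m).eq
    exact c4_cent _ h4 h3.symm
  -- the quotient
  obtain ⟨π, hπ⟩ : ∃ π : ↥(Subgroup.normalizer (T : Set G)) →* _, π = QuotientGroup.mk'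
    ((Subgroup.centralizer (T : Set G)).subgroupOf (Subgroup.normalizer (T : Set G))) := ⟨_, rfl⟩
  have hπker : ∀ x : ↥(Subgroup.normalizer (T : Set G)),
      π x = 1 ↔ (x : G) ∈ Subgroup.centralizer (T : Set G) := by
    intro x
    rw [hπ, QuotientGroup.mk'_apply, QuotientGroup.eq_one_iff, Subgroup.mem_subgroupOf]
  have hD : Cfsg.Involves (DihedralGroup 3) (↥(Subgroup.normalizer (T : Set G)) ⧸
      (Subgroup.centralizer (T : Set G)).subgroupOf (Subgroup.normalizer (T : Set G))) := by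
    apply Cfsg.Agent.S2758.involves_of_inverts (p := 3) (by norm_num)
      (π ⟨_, hnorm t₀⟩) (π ⟨_, hnorm y₀⟩)
    · apply exists_orderOf_map π _ Nat.prime_two
      rw [Subgroup.orderOf_mk, Subgroup.orderOf_coe, Subgroup.orderOf_coe]; exact ht₀
    · apply exists_orderOf_map π _ Nat.prime_three
      rw [Subgroup.orderOf_mk, Subgroup.orderOf_coe, Subgroup.orderOf_coe]; exact hy₀
    · intro h1
      exact hyC ((hπker _).1 h1)
    · rw [← map_inv, ← map_mul, ← map_inv, ← map_mul]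
      congr 1
      apply Subtype.ext
      have := congrArg (fun z : K₁ => (((z : K)) : G)) hinv₀
      simpa using this
  obtain ⟨e⟩ := nonempty_dihedral_three_equiv
  exact involves_of_equiv' e hD

/-- For a finite group G, the symmetric group of degree 4 is involved in G if and only if there is a 2-subgroup T of G such that the symmetric group of degree 3 is involved in N(T)/C(T). -/
theorem result {G : Type*} [Group G] [Finite G] : Cfsg.Involves (Equiv.Perm (Fin 4)) G ↔ ∃ T : Subgroup G, IsPGroup 2 ↥T ∧ Cfsg.Involves (Equiv.Perm (Fin 3)) (↥(Subgroup.normalizer (T : Set G)) ⧸ (Subgroup.centralizer (T : Set G)).subgroupOf (Subgroup.normalizer (T : Set G))) := by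
  constructor
  · exact forward
  · rintro ⟨T, hT, h⟩
    exact backward T hT h

end Cfsg.Agent.S2759
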