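import Mathlib
import Cfsg.Statements.S2760

set_option autoImplicit false
open Cfsg

namespace Cfsg.Agent.S2760

theorem pCore_isPGroup (p : ℕ) (G : Type*) [Group G] : IsPGroup p (Cfsg.pCore p G) :=
  Sylow.sSup_of_normal _ (fun _ h => h.2) (fun _ h => h.1)

theorem pCore_normal' (p : ℕ) (G : Type*) [Group G] : (Cfsg.pCore p G).Normal :=
  Subgroup.sSup_normal _ (fun _ h => h.1)

/-- A normal subgroup of a finite group without nontrivial `p'`-elements lies in `O_p`. -/
theorem le_pCore_of_no_pPrime {H : Type*} [Group H] [Finite H] (p : ℕ) [Fact p.Prime] (N : Subgroup H)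
    (hN : N.Normal) (h : ∀ c ∈ N, Nat.Coprime (orderOf c) p → c = 1) : N ≤ Cfsg.pCore p H := by
  have hp : p.Prime := Fact.out
  apply le_sSup
  refine ⟨hN, ?_⟩
  intro g
  have hn : orderOf (g : H) ≠ 0 := (orderOf_pos _).ne'
  refine ⟨(orderOf (g : H)).factorization p, ?_⟩
  have hdvd : p ^ (orderOf (g : H)).factorization p ∣ orderOf (g : H) := Nat.ordProj_dvd _ _
  have h1 : orderOf ((g : H) ^ (p ^ (orderOf (g : H)).factorization p)) =
      orderOf (g : H) / p ^ (orderOf (g : H)).factorization p := by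
    rw [orderOf_pow' _ (pow_ne_zero _ hp.ne_zero), Nat.gcd_eq_right hdvd]
  have h2 : Nat.Coprime (orderOf ((g : H) ^ (p ^ (orderOf (g : H)).factorization p))) p := by
    rw [h1]
    exact (Nat.coprime_ordCompl hp hn).symm
  have h3 := h _ (N.pow_mem g.2 _) h2
  apply Subtype.ext
  simpa using h3

/-- An element `c` of `p'`-order that centralizes a `p`-subgroup `P` with `[O_p(G), c] ≤ P` is trivial,
provided `C_G(O_p(G)) ≤ O_p(G)`. -/
theorem eq_one_of_stabilizes {G : Type*} [Group G] [Finite G] (p : ℕ) [Fact p.Prime]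
    (hchar : Subgroup.centralizer (Cfsg.pCore p G : Set G) ≤ Cfsg.pCore p G)
    (P : Subgroup G) (hP : IsPGroup p P) (c : G) (hc : Nat.Coprime (orderOf c) p)
    (hcP : ∀ y ∈ P, c * y = y * c)
    (hQc : ∀ x ∈ Cfsg.pCore p G, x⁻¹ * c * x * c⁻¹ ∈ P) : c = 1 := by
  have hp : p.Prime := Fact.out
  have hcent : c ∈ Subgroup.centralizer (Cfsg.pCore p G : Set G) := by
    rw [Subgroup.mem_centralizer_iff]
    intro x hx
    set z := x⁻¹ * c * x * c⁻¹ with hz
    have hzP : z ∈ P := hQc x hx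
    have hcz : c * z = z * c := hcP z hzP
    have hconj : ∀ k : ℕ, c ^ k * x * (c ^ k)⁻¹ = x * z ^ k := by
      intro k
      induction k with
      | zero => simp
      | succ k ih =>
        have hczk : c * z ^ k = z ^ k * c := by
          have : Commute c z := hcz
          exact (this.pow_right k).eq
        calc c ^ (k + 1) * x * (c ^ (k + 1))⁻¹ = c * (c ^ k * x * (c ^ k)⁻¹) * c⁻¹ := by
              rw [pow_succ']; group
          _ = c * (x * z ^ k) * c⁻¹ := by rw [ih]
          _ = (c * x * c⁻¹) * (c * z ^ k * c⁻¹) := by group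
          _ = (x * z) * (z ^ k * c * c⁻¹) := by rw [hczk, hz]; group
          _ = x * z ^ (k + 1) := by rw [pow_succ']; group
    have hzk : z ^ orderOf c = 1 := by
      have := hconj (orderOf c)
      rw [pow_orderOf_eq_one] at this
      simpa using this.symm
    obtain ⟨a, ha⟩ := hP ⟨z, hzP⟩
    have hza : z ^ (p ^ a) = 1 := by
      have := congrArg Subtype.val ha
      simpa using this
    have hz1 : z = 1 := by
      have h1 : orderOf z ∣ orderOf c := orderOf_dvd_of_pow_eq_one hzk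
      have h2 : orderOf z ∣ p ^ a := orderOf_dvd_of_pow_eq_one hza
      have h3 : Nat.Coprime (orderOf c) (p ^ a) := Nat.Coprime.pow_right a hc
      have h4 : orderOf z = 1 := Nat.eq_one_of_dvd_coprimes h3 h1 h2
      exact orderOf_eq_one_iff.mp h4
    rw [hz1] at hz
    have : x⁻¹ * c * x * c⁻¹ = 1 := hz.symm
    calc x * c = x * (x⁻¹ * c * x * c⁻¹) * c := by rw [this]; group
      _ = c * x := by group
  have hcQ := hchar hcent
  obtain ⟨b, hb⟩ := pCore_isPGroup p G ⟨c, hcQ⟩
  have hcb : c ^ (p ^ b) = 1 := by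
    have := congrArg Subtype.val hb
    simpa using this
  have h1 : orderOf c ∣ p ^ b := orderOf_dvd_of_pow_eq_one hcb
  have h2 : Nat.Coprime (orderOf c) (p ^ b) := Nat.Coprime.pow_right b hc
  have h3 : orderOf c = 1 := Nat.eq_one_of_dvd_coprimes h2 dvd_rfl h1
  exact orderOf_eq_one_iff.mp h3

/-- Let G be a finite group with C_G(O₂(G)) ≤ O₂(G) and H a subgroup of G such that H is normal in G, or the subgroup O²(H) generated by the elements of H of odd order is normal in G. Then C_H(O₂(H)) ≤ O₂(H). -/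
theorem result {G : Type*} [Group G] [Finite G] (hchar : Subgroup.centralizer (Cfsg.pCore 2 G : Set G) ≤ Cfsg.pCore 2 G) (H : Subgroup G) (hH : H.Normal ∨ ((Cfsg.pResidual 2 ↥H).map H.subtype).Normal) : Subgroup.centralizer (Cfsg.pCore 2 ↥H : Set ↥H) ≤ Cfsg.pCore 2 ↥H := by
  have : Fact (Nat.Prime 2) := ⟨Nat.prime_two⟩
  have hnH := pCore_normal' 2 ↥H
  have hnG := pCore_normal' 2 G
  apply le_pCore_of_no_pPrime 2 _ Subgroup.normal_centralizer
  intro c hc hodd
  -- a normal subgroup K' of G with c ∈ K' ≤ H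
  obtain ⟨K', hK'n, hK'H, hcK'⟩ : ∃ K' : Subgroup G, K'.Normal ∧ K' ≤ H ∧ (c : G) ∈ K' := by
    rcases hH with hH | hH
    · exact ⟨H, hH, le_refl _, c.2⟩
    · refine ⟨_, hH, ?_, ?_⟩
      · rintro _ ⟨x, _, rfl⟩
        exact x.2
      · refine ⟨c, ?_, rfl⟩
        unfold Cfsg.pResidual
        exact Subgroup.subset_closure hodd
  set P := (Cfsg.pCore 2 ↥H).map H.subtype with hP
  have hPp : IsPGroup 2 P := (pCore_isPGroup 2 ↥H).map _
  have hQH : Cfsg.pCore 2 G ⊓ H ≤ P := by
    have h1 : ((Cfsg.pCore 2 G).subgroupOf H).Normal := hnG.subgroupOf H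
    have h2 : IsPGroup 2 ((Cfsg.pCore 2 G).subgroupOf H) := (pCore_isPGroup 2 G).comap_subtype
    have h3 : (Cfsg.pCore 2 G).subgroupOf H ≤ Cfsg.pCore 2 ↥H := le_sSup ⟨h1, h2⟩
    rintro x ⟨hxQ, hxH⟩
    exact ⟨⟨x, hxH⟩, h3 (by rw [Subgroup.mem_subgroupOf]; exact hxQ), rfl⟩
  have hc1 : (c : G) = 1 := by
    apply eq_one_of_stabilizes 2 hchar P hPp (c : G)
    · rw [Subgroup.orderOf_coe]; exact hodd
    · rintro _ ⟨y, hy, rfl⟩
      have := (Subgroup.mem_centralizer_iff.mp hc) y hy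
      have h2 := congrArg Subtype.val this
      simpa using h2.symm
    · intro x hx
      apply hQH
      constructor
      · have h1 : c * x * (c : G)⁻¹ ∈ Cfsg.pCore 2 G := hnG.conj_mem x hx c
        have : x⁻¹ * (c : G) * x * (c : G)⁻¹ = x⁻¹ * ((c : G) * x * (c : G)⁻¹) := by group
        rw [this]
        exact Subgroup.mul_mem _ (Subgroup.inv_mem _ hx) h1
      · apply hK'H
        have h1 : x⁻¹ * (c : G) * x⁻¹⁻¹ ∈ K' := hK'n.conj_mem _ hcK' x⁻¹
        have : x⁻¹ * (c : G) * x * (c : G)⁻¹ = (x⁻¹ * (c : G) * x⁻¹⁻¹) * (c : G)⁻¹ := by group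
        rw [this]
        exact K'.mul_mem h1 (K'.inv_mem hcK')
  exact Subtype.ext hc1

end Cfsg.Agent.S2760
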