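import Cfsg.Statements.S2761
import Cfsg.Agent.Lib.Helper46_Qd
import Cfsg.Agent.Lib.Helper5_PSLCard

set_option autoImplicit false
open Cfsg

namespace Cfsg.Agent.S2761

open Cfsg.Agent.Lib.Helper46_Qd

theorem card_affineSub_two : Nat.card (affineSub (ZMod 2)) = Nat.factorial 4 := by
  have : Fact (Nat.Prime 2) := ⟨Nat.prime_two⟩
  rw [card_affineSub, Cfsg.Agent.Lib.Helper5_PSLCard.card_SL_two, Nat.card_eq_fintype_card, ZMod.card]
  rfl

/-- The group Qd(2), the natural semidirect product of an elementary abelian group of order 4 by SL₂(2) (realised as the affine subgroup of SL₃(2)), is isomorphic to the symmetric group of degree 4. -/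
theorem result : Nonempty (↥(Cfsg.qd 2) ≃* Equiv.Perm (Fin 4)) := by
  have e0 : ↥(Cfsg.qd 2) ≃* ↥(affineSub (ZMod 2)) := MulEquiv.subgroupCongr (qd_eq 2)
  have hc : Fintype.card (ZMod 2 × ZMod 2) = 4 := by
    rw [Fintype.card_prod, ZMod.card]
  let e : (ZMod 2 × ZMod 2) ≃ Fin 4 := Fintype.equivFinOfCardEq hc
  let f : ↥(affineSub (ZMod 2)) →* Equiv.Perm (Fin 4) :=
    (e.permCongrHom.toMonoidHom).comp affinePermHom
  have hf : Function.Injective f := by
    rw [MonoidHom.coe_comp]
    exact e.permCongrHom.injective.comp affinePermHom_injective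
  obtain ⟨e1⟩ := Cfsg.Agent.Lib.Helper5_PSLCard.mulEquiv_perm_of_injective f hf card_affineSub_two
  exact ⟨e0.trans e1⟩

end Cfsg.Agent.S2761
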