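import Cfsg.Statements.S2763
import Cfsg.Agent.Lib.Helper46_Qd3
import Cfsg.Agent.Lib.Helper46_Char

set_option autoImplicit false
open Cfsg

namespace Cfsg.Agent.S2763

open Cfsg.Agent.Lib.Helper46_Qd Cfsg.Agent.Lib.Helper46_Qd2 Cfsg.Agent.Lib.Helper46_Qd3
open Cfsg.Agent.Lib.Helper46_Char

/-- The isomorphism of a Sylow subgroup conjugate to the standard one with the Heisenberg group. -/
theorem exists_equiv {p : ℕ} [Fact p.Prime] (S : Sylow p (affineSub (ZMod p))) :
    ∃ (g : affineSub (ZMod p)) (e : ↥(S : Subgroup (affineSub (ZMod p))) ≃* H3 (ZMod p)),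
      (S : Subgroup (affineSub (ZMod p))).map (MulAut.conj g).toMonoidHom = U (ZMod p) ∧
      ∀ s : ↥(S : Subgroup (affineSub (ZMod p))), iota (e s) = g * (s : affineSub (ZMod p)) * g⁻¹ := by
  obtain ⟨g, hg⟩ := MulAction.exists_smul_eq (affineSub (ZMod p)) S (USyl p)
  have hS : (S : Subgroup (affineSub (ZMod p))).map (MulAut.conj g).toMonoidHom = U (ZMod p) := by
    have := congrArg (fun P : Sylow p (affineSub (ZMod p)) => (P : Subgroup (affineSub (ZMod p)))) hg
    simp only [Sylow.coe_subgroup_smul, coe_USyl, Subgroup.pointwise_smul_def] at this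
    exact this
  have hmem : ∀ s : ↥(S : Subgroup (affineSub (ZMod p))),
      g * (s : affineSub (ZMod p)) * g⁻¹ ∈ (iota (R := ZMod p)).range := by
    intro s
    have : g * (s : affineSub (ZMod p)) * g⁻¹ ∈ U (ZMod p) := by
      rw [← hS]; exact ⟨s, s.2, rfl⟩
    exact this
  let e₃ : H3 (ZMod p) ≃* (iota (R := ZMod p)).range := MonoidHom.ofInjective iota_injective
  have he₃ : ∀ y : (iota (R := ZMod p)).range, iota (e₃.symm y) = (y : affineSub (ZMod p)) := by
    intro y
    have := e₃.apply_symm_apply y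
    exact congrArg Subtype.val this
  let f : ↥(S : Subgroup (affineSub (ZMod p))) →* H3 (ZMod p) :=
    { toFun := fun s => e₃.symm ⟨g * (s : affineSub (ZMod p)) * g⁻¹, hmem s⟩
      map_one' := by
        apply iota_injective
        rw [he₃]; simp
      map_mul' := by
        intro s t
        apply iota_injective
        rw [map_mul, he₃, he₃, he₃]
        simp [mul_assoc] }
  have hf : ∀ s, iota (f s) = g * (s : affineSub (ZMod p)) * g⁻¹ := fun s => he₃ _
  have hbij : Function.Bijective f := by
    constructor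
    · intro s t hst
      have := congrArg iota hst
      rw [hf, hf] at this
      apply Subtype.ext
      simpa using this
    · intro x
      have hx : iota x ∈ U (ZMod p) := ⟨x, rfl⟩
      rw [← hS] at hx
      obtain ⟨s, hs, hsx⟩ := hx
      refine ⟨⟨s, hs⟩, ?_⟩
      apply iota_injective
      rw [hf]
      simpa using hsx
  exact ⟨g, MulEquiv.ofBijective f hbij, hS, hf⟩

theorem main {p : ℕ} [Fact p.Prime] (Q : Subgroup (Matrix.SpecialLinearGroup (Fin 3) (ZMod p)))
    (hQ : Q = affineSub (ZMod p)) (S : Sylow p ↥Q) (T : Subgroup ↥(S : Subgroup ↥Q)) (hT : T ≠ ⊥)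
    (hTc : T.Characteristic) :
    Subgroup.normalizer ((T.map (S : Subgroup ↥Q).subtype : Subgroup ↥Q) : Set ↥Q) =
      Subgroup.normalizer ((S : Subgroup ↥Q) : Set ↥Q) ∧
    Subgroup.normalizer ((S : Subgroup ↥Q) : Set ↥Q) ≠ ⊤ := by
  subst hQ
  obtain ⟨g, e, hS, he⟩ := exists_equiv S
  set c : affineSub (ZMod p) ≃* affineSub (ZMod p) := MulAut.conj g with hc
  have hKc : (T.map e.toMonoidHom).Characteristic := characteristic_map_equiv e T
  have hKne : T.map e.toMonoidHom ≠ ⊥ := by
    intro h
    apply hT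
    exact (Subgroup.map_eq_bot_iff_of_injective T e.injective).mp h
  have hKmap : (T.map e.toMonoidHom).map iota =
      (T.map (S : Subgroup (affineSub (ZMod p))).subtype).map c.toMonoidHom := by
    ext x
    constructor
    · rintro ⟨_, ⟨t, ht, rfl⟩, rfl⟩
      refine ⟨t, ⟨t, ht, rfl⟩, ?_⟩
      have := he t
      simpa [hc] using this.symm
    · rintro ⟨_, ⟨t, ht, rfl⟩, rfl⟩
      refine ⟨e t, ⟨t, ht, rfl⟩, ?_⟩
      have := he t
      simpa [hc] using this
  have key := normalizer_map_iota_le (T.map e.toMonoidHom) hKne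
  rw [hKmap, ← hS, ← Subgroup.map_equiv_normalizer_eq, ← Subgroup.map_equiv_normalizer_eq] at key
  have key' := (Subgroup.map_le_map_iff_of_injective c.injective).mp key
  refine ⟨le_antisymm key' (normalizer_le_normalizer_of_char _ T), ?_⟩
  intro htop
  apply normalizer_U_ne_top (R := ZMod p)
  rw [← hS, ← Subgroup.map_equiv_normalizer_eq, htop]
  exact Subgroup.map_top_of_surjective _ c.surjective

/-- In the group Qd(p) (p prime; the natural semidirect product of an elementary abelian group of order p² by SL₂(p)), the normalizer of every nontrivial characteristic subgroup of a Sylow p-subgroup S equals the normalizer of S, which is a proper subgroup; in particular no such characteristic subgroup is normal. -/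
theorem result {p : ℕ} [Fact p.Prime] (S : Sylow p ↥(Cfsg.qd p)) (T : Subgroup ↥(S : Subgroup ↥(Cfsg.qd p))) (hT : T ≠ ⊥) (hTc : T.Characteristic) : Subgroup.normalizer ((T.map (S : Subgroup ↥(Cfsg.qd p)).subtype : Subgroup ↥(Cfsg.qd p)) : Set ↥(Cfsg.qd p)) = Subgroup.normalizer ((S : Subgroup ↥(Cfsg.qd p)) : Set ↥(Cfsg.qd p)) ∧ Subgroup.normalizer ((S : Subgroup ↥(Cfsg.qd p)) : Set ↥(Cfsg.qd p)) ≠ ⊤ :=
  main (Cfsg.qd p) (qd_eq p) S T hT hTc

end Cfsg.Agent.S2763
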