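import Mathlib
import Cfsg.Statements.S2781

set_option autoImplicit false
open Cfsg

namespace Cfsg.Agent.S2781

open scoped IsMulCommutative
open scoped commutatorElement

/-- conjugation by a normalizing element as an endomorphism of the subgroup -/
def conjOn {G : Type*} [Group G] (V : Subgroup G) (g : G) (hg : g ∈ Subgroup.normalizer (V : Set G)) :
    ↥V →* ↥V where
  toFun v := ⟨g * v * g⁻¹, (Subgroup.mem_normalizer_iff.mp hg v).mp v.2⟩
  map_one' := by ext; simp
  map_mul' a b := by ext; simp [mul_assoc]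

theorem conjOn_coe {G : Type*} [Group G] (V : Subgroup G) (g : G) (hg : g ∈ Subgroup.normalizer (V : Set G))
    (v : V) : ((conjOn V g hg v : V) : G) = g * v * g⁻¹ := rfl

theorem le_normalizer_of_map_conj_le {G : Type*} [Group G] (H W : Subgroup G)
    (h : ∀ g ∈ H, W.map (MulAut.conj g).toMonoidHom ≤ W) : H ≤ Subgroup.normalizer (W : Set G) := by
  intro g hg
  rw [Subgroup.mem_normalizer_iff]
  intro z
  constructor
  · intro hz
    exact h g hg ⟨z, hz, rfl⟩
  · intro hz
    have := h g⁻¹ (H.inv_mem hg) ⟨_, hz, rfl⟩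
    simpa [mul_assoc] using this

theorem pResidual_normal (p : ℕ) (H : Type*) [Group H] : (Cfsg.pResidual p H).Normal := by
  constructor
  intro n hn g
  have : (Cfsg.pResidual p H).map (MulAut.conj g).toMonoidHom ≤ Cfsg.pResidual p H := by
    unfold Cfsg.pResidual
    rw [MonoidHom.map_closure]
    apply Subgroup.closure_mono
    rintro _ ⟨y, hy, rfl⟩
    show Nat.Coprime (orderOf ((MulAut.conj g) y)) p
    rw [MulEquiv.orderOf_eq]
    exact hy
  exact this ⟨n, hn, rfl⟩

/-- The averaging (transfer) argument. -/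
theorem averaging {G : Type*} [Group G] [Finite G] {p : ℕ} [Fact p.Prime] (V R : Subgroup G)
    (hV : Cfsg.IsElementaryAbelian p V) (hRV : R ≤ Subgroup.normalizer (V : Set G)) (S : Sylow p ↥R)
    (v : G) (hv : v ∈ V)
    (hvT : v ∈ Subgroup.centralizer ((((S : Subgroup ↥R).map R.subtype : Subgroup G)) : Set G)) :
    v ∈ ⁅V, R⁆ ⊔ (V ⊓ Subgroup.centralizer ((R : Subgroup G) : Set G)) := by
  classical
  have := hV.1
  have hp : p.Prime := Fact.out
  set W := ⁅V, R⁆ ⊔ (V ⊓ Subgroup.centralizer ((R : Subgroup G) : Set G)) with hW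
  let v' : V := ⟨v, hv⟩
  let φ : ↥R → ↥V := fun r => conjOn V (r : G) (hRV r.2) v'
  have hφS : ∀ (r s : ↥R), s ∈ (S : Subgroup ↥R) → φ (r * s) = φ r := by
    intro r s hs
    apply Subtype.ext
    simp only [φ, conjOn_coe, Subgroup.coe_mul, v']
    have hc : (s : G) * v = v * (s : G) := by
      have := (Subgroup.mem_centralizer_iff.mp hvT) (s : G) ⟨s, hs, rfl⟩
      exact this
    calc (r : G) * (s : G) * v * ((r : G) * (s : G))⁻¹ = (r : G) * ((s : G) * v) * (s : G)⁻¹ * (r : G)⁻¹ := by group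
      _ = (r : G) * (v * (s : G)) * (s : G)⁻¹ * (r : G)⁻¹ := by rw [hc]
      _ = (r : G) * v * (r : G)⁻¹ := by group
  have : Fintype (↥R ⧸ (S : Subgroup ↥R)) := Fintype.ofFinite _
  let w : V := ∏ q : ↥R ⧸ (S : Subgroup ↥R), φ q.out
  -- w is R-invariant
  have hw_inv : ∀ t : ↥R, conjOn V (t : G) (hRV t.2) w = w := by
    intro t
    simp only [w]
    rw [map_prod]
    have h1 : ∀ q : ↥R ⧸ (S : Subgroup ↥R), conjOn V (t : G) (hRV t.2) (φ q.out) = φ ((t • q).out) := by
      intro q
      have h2 : conjOn V (t : G) (hRV t.2) (φ q.out) = φ (t * q.out) := by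
        apply Subtype.ext
        simp only [φ, conjOn_coe, Subgroup.coe_mul]
        group
      rw [h2]
      have h3 : (QuotientGroup.mk (t * q.out) : ↥R ⧸ (S : Subgroup ↥R)) = QuotientGroup.mk ((t • q).out) := by
        rw [QuotientGroup.out_eq']
        have : (QuotientGroup.mk (t * q.out) : ↥R ⧸ (S : Subgroup ↥R)) = t • (QuotientGroup.mk q.out) := rfl
        rw [this, QuotientGroup.out_eq']
      rw [QuotientGroup.eq] at h3
      have h4 : (t • q).out = (t * q.out) * ((t * q.out)⁻¹ * (t • q).out) := by group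
      rw [h4, hφS _ _ h3]
    rw [Finset.prod_congr rfl (fun q _ => h1 q)]
    exact Fintype.prod_equiv (MulAction.toPerm t) _ _ (fun q => rfl)
  have hwC : (w : G) ∈ V ⊓ Subgroup.centralizer ((R : Subgroup G) : Set G) := by
    refine ⟨w.2, ?_⟩
    show _ ∈ Subgroup.centralizer _
    rw [Subgroup.mem_centralizer_iff]
    intro r hr
    have := congrArg Subtype.val (hw_inv ⟨r, hr⟩)
    rw [conjOn_coe] at this
    simp only at this
    calc r * (w : G) = (r * (w : G) * r⁻¹) * r := by group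
      _ = (w : G) * r := by rw [this]
  -- decomposition
  let c : ↥R → ↥V := fun r => φ r * v'⁻¹
  have hc_mem : ∀ r : ↥R, ((c r : V) : G) ∈ ⁅V, R⁆ := by
    intro r
    simp only [c, φ, Subgroup.coe_mul, conjOn_coe, Subgroup.coe_inv, v']
    have h1 : (r : G) * v * (r : G)⁻¹ * v⁻¹ = ⁅(r : G), v⁆ := (commutatorElement_def _ _).symm
    rw [h1, Subgroup.commutator_comm]
    exact Subgroup.commutator_mem_commutator r.2 hv
  have hdecomp : w = (∏ q : ↥R ⧸ (S : Subgroup ↥R), c q.out) * v' ^ (Fintype.card (↥R ⧸ (S : Subgroup ↥R))) := by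
    simp only [w]
    rw [← Finset.card_univ, ← Finset.prod_const, ← Finset.prod_mul_distrib]
    apply Finset.prod_congr rfl
    intro q _
    simp only [c]
    rw [inv_mul_cancel_right]
  have hprod_mem : (((∏ q : ↥R ⧸ (S : Subgroup ↥R), c q.out : V)) : G) ∈ ⁅V, R⁆ := by
    have : (∏ q : ↥R ⧸ (S : Subgroup ↥R), c q.out) ∈ (⁅V, R⁆).subgroupOf V := by
      apply Subgroup.prod_mem
      intro q _
      rw [Subgroup.mem_subgroupOf]
      exact hc_mem q.out
    exact this
  set m := Fintype.card (↥R ⧸ (S : Subgroup ↥R)) with hm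
  have hvm : v ^ m ∈ W := by
    have h1 : v' ^ m = (∏ q : ↥R ⧸ (S : Subgroup ↥R), c q.out)⁻¹ * w := by
      rw [hdecomp]; group
    have h2 := congrArg Subtype.val h1
    simp only [Subgroup.coe_pow, Subgroup.coe_mul, Subgroup.coe_inv, v'] at h2
    rw [h2]
    exact W.mul_mem (W.inv_mem (Subgroup.mem_sup_left hprod_mem)) (Subgroup.mem_sup_right hwC)
  -- m is coprime to p
  have hmp : ¬ p ∣ m := by
    have := S.not_dvd_index
    rw [Subgroup.index_eq_card, Nat.card_eq_fintype_card] at this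
    exact this
  have hcop : Nat.Coprime m (orderOf v) := by
    have h1 : orderOf v ∣ p := orderOf_dvd_of_pow_eq_one (hV.2 v hv)
    have h2 : Nat.Coprime m p := ((Nat.Prime.coprime_iff_not_dvd hp).mpr hmp).symm
    exact Nat.Coprime.coprime_dvd_right h1 h2
  obtain ⟨k, hk⟩ := exists_pow_eq_self_of_coprime hcop
  rw [← hk]
  exact W.pow_mem hvm k

/-- Let H act faithfully by conjugation on the elementary abelian p-subgroup V of a finite group, let O^p(H) be the subgroup of H generated by its elements of order prime to p, and T a Sylow p-subgroup of O^p(H). If V is generated by the H-conjugates of C_V(T) (V is the smallest H-invariant subgroup containing C_V(T)), then V = [V, O^p(H)]·C_V(O^p(H)). -/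
theorem result {G : Type*} [Group G] [Finite G] {p : ℕ} [Fact p.Prime] (V H : Subgroup G) (hV : Cfsg.IsElementaryAbelian p V) (hHV : H ≤ Subgroup.normalizer (V : Set G)) (hf : H ⊓ Subgroup.centralizer (V : Set G) = ⊥) (R : Subgroup G) (hR : R = (Cfsg.pResidual p ↥H).map H.subtype) (S : Sylow p ↥R) (T : Subgroup G) (hT : T = ((S : Subgroup ↥R).map R.subtype)) (hgen : ∀ W : Subgroup G, H ≤ Subgroup.normalizer (W : Set G) → (V ⊓ Subgroup.centralizer ((T : Subgroup G) : Set G)) ≤ W → V ≤ W) : ⁅V, R⁆ ⊔ (V ⊓ Subgroup.centralizer ((R : Subgroup G) : Set G)) = V := by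
  have hRH : R ≤ H := by
    rw [hR]
    rintro _ ⟨x, _, rfl⟩
    exact x.2
  have hRV : R ≤ Subgroup.normalizer (V : Set G) := hRH.trans hHV
  -- H normalizes R
  have hR_conj : ∀ h ∈ H, R.map (MulAut.conj h).toMonoidHom ≤ R := by
    intro h hh
    rw [hR]
    rintro _ ⟨_, ⟨x, hx, rfl⟩, rfl⟩
    have hn := pResidual_normal p ↥H
    refine ⟨⟨h, hh⟩ * x * ⟨h, hh⟩⁻¹, hn.conj_mem x hx ⟨h, hh⟩, ?_⟩
    simp
  have hV_conj : ∀ h ∈ H, V.map (MulAut.conj h).toMonoidHom ≤ V := by
    intro h hh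
    rintro _ ⟨x, hx, rfl⟩
    exact (Subgroup.mem_normalizer_iff.mp (hHV hh) x).mp hx
  apply le_antisymm
  · refine sup_le ?_ inf_le_left
    rw [Subgroup.commutator_le]
    intro a ha b hb
    have hb' := hRV hb
    have h3 : b * a⁻¹ * b⁻¹ ∈ V := (Subgroup.mem_normalizer_iff.mp hb' a⁻¹).mp (V.inv_mem ha)
    have : ⁅a, b⁆ = a * (b * a⁻¹ * b⁻¹) := by rw [commutatorElement_def]; group
    rw [this]
    exact V.mul_mem ha h3
  · apply hgen
    · apply le_normalizer_of_map_conj_le
      intro h hh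
      rw [Subgroup.map_sup]
      apply sup_le_sup
      · rw [Subgroup.map_commutator]
        exact Subgroup.commutator_mono (hV_conj h hh) (hR_conj h hh)
      · rintro _ ⟨x, ⟨hxV, hxC⟩, rfl⟩
        refine ⟨hV_conj h hh ⟨x, hxV, rfl⟩, ?_⟩
        show _ ∈ Subgroup.centralizer _
        rw [Subgroup.mem_centralizer_iff]
        intro r hr
        have hr' : h⁻¹ * r * h⁻¹⁻¹ ∈ R := by
          have := hR_conj h⁻¹ (H.inv_mem hh) ⟨r, hr, rfl⟩
          exact this
        have hxC' : x ∈ Subgroup.centralizer ((R : Subgroup G) : Set G) := hxC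
        have hc := (Subgroup.mem_centralizer_iff.mp hxC') _ hr'
        show r * (h * x * h⁻¹) = h * x * h⁻¹ * r
        calc r * (h * x * h⁻¹) = h * ((h⁻¹ * r * h⁻¹⁻¹) * x) * h⁻¹ := by group
          _ = h * (x * (h⁻¹ * r * h⁻¹⁻¹)) * h⁻¹ := by rw [hc]
          _ = h * x * h⁻¹ * r := by group
    · rintro v ⟨hvV, hvT⟩
      rw [hT] at hvT
      exact averaging V R hV hRV S v hvV hvT

end Cfsg.Agent.S2781
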