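import Cfsg.Statements.S2787
import Cfsg.Agent.Lib.Helper15_QuadCore

set_option autoImplicit false
open Cfsg

namespace Cfsg.Agent.S2787

open Cfsg.Agent.Lib.Helper10_QuadPair Cfsg.Agent.Lib.Helper10_QuadAction
  Cfsg.Agent.Lib.Helper15_QuadCore
open scoped commutatorElement

/-- Let p be a prime and let H act by conjugation on the elementary abelian p-subgroup V of a finite group, irreducibly (no H-invariant subgroups of V other than 1 and V) and nontrivially, and suppose H/C_H(V) is isomorphic to PSL₂(F) for a field F with p^n elements, p^n odd, or p = 3 and H/C_H(V) is isomorphic to a Ree group ²G₂(3^(2m+1)), m ≥ 1. Then no subgroup A of H acting nontrivially on V acts quadratically: [V, A, A] = 1 forces [V, A] = 1. -/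
theorem result {G : Type*} [Group G] [Finite G] {p : ℕ} [Fact p.Prime] (V H : Subgroup G) (hV : Cfsg.IsElementaryAbelian p V) (hHV : H ≤ Subgroup.normalizer (V : Set G)) (hirr : ∀ U : Subgroup G, U ≤ V → H ≤ Subgroup.normalizer (U : Set G) → U = ⊥ ∨ U = V) (hnt : ¬ H ≤ Subgroup.centralizer (V : Set G)) [hn : ((Subgroup.centralizer (V : Set G)).subgroupOf H).Normal] (hq : (∃ (F : Type) (_ : Field F) (_ : Fintype F) (n : ℕ), Fintype.card F = p ^ n ∧ Odd (Fintype.card F) ∧ Nonempty (↥H ⧸ (Subgroup.centralizer (V : Set G)).subgroupOf H ≃* Matrix.ProjectiveSpecialLinearGroup (Fin 2) F)) ∨ (p = 3 ∧ Cfsg.Lie.IsoRee (↥H ⧸ (Subgroup.centralizer (V : Set G)).subgroupOf H))) (A : Subgroup G) (hA : A ≤ H) (hquad : ⁅⁅V, A⁆, A⁆ = ⊥) : ⁅V, A⁆ = ⊥ := by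
  classical
  have hpp : p.Prime := Fact.out
  letI instC : CommGroup V :=
    { (inferInstance : Group V) with mul_comm := fun u v => hV.1.is_comm.comm u v }
  have hN : ∀ n : V, n ^ p = 1 := by
    intro n
    apply Subtype.ext
    have := hV.2 n n.2
    simpa using this
  have hC : ∀ g : H, g ∈ (Subgroup.centralizer (V : Set G)).subgroupOf H ↔
      ∀ n, conjAct V H hHV g n = n := by
    intro g
    rw [Subgroup.mem_subgroupOf, Subgroup.mem_centralizer_iff]
    constructor
    · intro h n
      apply Subtype.ext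
      rw [conjAct_apply]
      have := h n n.2
      calc (g : G) * (n : G) * (g : G)⁻¹ = ((n : G) * g) * (g : G)⁻¹ := by rw [this]
        _ = n := by group
    · intro h v hv
      have := congrArg Subtype.val (h ⟨v, hv⟩)
      rw [conjAct_apply] at this
      calc v * (g : G) = ((g : G) * v * (g : G)⁻¹) * g := by rw [this]
        _ = g * v := by group
  have hle : (Subgroup.centralizer (V : Set G)).subgroupOf H ≤ (conjAct V H hHV).ker := by
    intro g hg
    rw [MonoidHom.mem_ker]
    ext n
    exact congrArg Subtype.val ((hC g).1 hg n)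
  obtain ⟨cbar, hcbar⟩ : ∃ cbar : (↥H ⧸ (Subgroup.centralizer (V : Set G)).subgroupOf H) →* MulAut V,
      cbar = QuotientGroup.lift _ (conjAct V H hHV) hle := ⟨_, rfl⟩
  have hcb : ∀ g : H, cbar (QuotientGroup.mk g) = conjAct V H hHV g := by
    intro g
    rw [hcbar]
    exact QuotientGroup.lift_mk _ hle g
  have hfaith : ∀ γ : ↥H ⧸ (Subgroup.centralizer (V : Set G)).subgroupOf H,
      (∀ n, cbar γ n = n) → γ = 1 := by
    intro γ h
    obtain ⟨g, rfl⟩ := QuotientGroup.mk_surjective γ
    rw [QuotientGroup.eq_one_iff, hC]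
    intro n
    have := h n
    rw [hcb] at this
    exact this
  have hp2 : p ≠ 2 := by
    rcases hq with ⟨F, _, _, n, hF, hodd, -⟩ | ⟨h3, -⟩
    · rintro rfl
      rw [hF] at hodd
      have hn0 : n = 0 := by
        by_contra hn
        exact (Nat.not_even_iff_odd.2 hodd) ((Nat.even_pow.2 ⟨even_two, hn⟩))
      rw [hn0, pow_zero] at hF
      have := Fintype.one_lt_card (α := F)
      omega
    · omega
  have key : ∀ a ∈ A, a ∈ Subgroup.centralizer (V : Set G) := by
    intro a haA
    have haH : a ∈ H := hA haA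
    have hq1 : ⁅⁅V, Subgroup.zpowers a⁆, Subgroup.zpowers a⁆ = ⊥ := by
      rw [eq_bot_iff, ← hquad]
      have hz : Subgroup.zpowers a ≤ A := (Subgroup.zpowers_le).2 haA
      exact Subgroup.commutator_mono (Subgroup.commutator_mono le_rfl hz) hz
    have haq : AQuad (conjAct V H hHV) ⟨a, haH⟩ := by
      intro n
      apply Subtype.ext
      have := quad_elt V a hq1 n n.2
      simp only [conjAct_apply, Subgroup.coe_mul, Subgroup.coe_inv]
      exact this
    have habar : AQuad cbar (QuotientGroup.mk ⟨a, haH⟩) := by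
      intro n
      rw [hcb]
      exact haq n
    have h1 : (QuotientGroup.mk ⟨a, haH⟩ : ↥H ⧸ (Subgroup.centralizer (V : Set G)).subgroupOf H) = 1 := by
      rcases hq with ⟨F, _, _, n, hF, -, ⟨e⟩⟩ | ⟨h3, hR⟩
      · have : CharP F p := charP_of_card_eq_prime_pow hF
        exact psl_branch hp2 hN cbar hfaith e _ habar
      · subst h3
        exact ree_branch hN cbar hfaith hR _ habar
    rw [QuotientGroup.eq_one_iff, Subgroup.mem_subgroupOf] at h1
    exact h1
  rw [eq_bot_iff, Subgroup.commutator_le]
  intro v hv a ha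
  rw [Subgroup.mem_bot, commutatorElement_eq_one_iff_commute]
  exact (Subgroup.mem_centralizer_iff.1 (key a ha)) v hv

end Cfsg.Agent.S2787
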