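import Cfsg.Statements.S2788
import Mathlib
import Cfsg.Agent.Lib.Helper46_ModBound
import Cfsg.Agent.Lib.Helper46_SL2Even
import Cfsg.Agent.Lib.Helper46_SL2Odd
import Cfsg.Agent.Lib.Helper46_NatSL2
import Cfsg.Agent.Lib.Helper5_PSLCard
import Cfsg.Agent.S2782
import Cfsg.Agent.S2785

set_option autoImplicit false
open Cfsg

namespace Cfsg.Agent.S2788

/-- Let H act faithfully by conjugation on the elementary abelian p-subgroup V of a finite group with H ≅ SL₂(F), F a field with p^n elements, S a Sylow p-subgroup of H, and A ≤ S a subgroup of order at least 3 acting quadratically on V ([V, A, A] = 1). Then |V/C_V(a)| ≥ p^n for every nonidentity a ∈ A. -/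
theorem result {G : Type*} [Group G] [Finite G] {p : ℕ} [Fact p.Prime] (V H : Subgroup G) (hV : Cfsg.IsElementaryAbelian p V) (hHV : H ≤ Subgroup.normalizer (V : Set G)) (hf : H ⊓ Subgroup.centralizer (V : Set G) = ⊥) {F : Type*} [Field F] [Fintype F] (n : ℕ) (hF : Fintype.card F = p ^ n) (hiso : Nonempty (↥H ≃* Matrix.SpecialLinearGroup (Fin 2) F)) (S : Sylow p ↥H) (T : Subgroup G) (hT : T = ((S : Subgroup ↥H).map H.subtype)) (A : Subgroup G) (hA : A ≤ T) (hA3 : 3 ≤ Nat.card A) (hquad : ⁅⁅V, A⁆, A⁆ = ⊥) : ∀ a ∈ A, a ≠ 1 → p ^ n ≤ ((V ⊓ Subgroup.centralizer ({a} : Set G))).relIndex V := by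
  classical
  have hpp : p.Prime := Fact.out
  obtain ⟨e⟩ := hiso
  have hchar : CharP F p := Cfsg.Agent.Lib.Helper46_NatSL2.charP_of_card n hF
  have hn0 : n ≠ 0 := by
    rintro rfl
    rw [pow_zero] at hF
    have := Fintype.one_lt_card (α := F)
    omega
  have hVp : IsPGroup p V := by
    intro v
    refine ⟨1, Subtype.ext ?_⟩
    rw [pow_one, Subgroup.coe_pow]
    exact hV.2 v v.2
  -- the projection onto `PSL₂(F)`
  let π : ↥H →* Matrix.ProjectiveSpecialLinearGroup (Fin 2) F :=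
    (QuotientGroup.mk' (Subgroup.center (Matrix.SpecialLinearGroup (Fin 2) F))).comp e.toMonoidHom
  have hπ : Function.Surjective π := (QuotientGroup.mk'_surjective _).comp e.surjective
  have hkermem : ∀ x : ↥H, x ∈ π.ker →
      e x ∈ Subgroup.center (Matrix.SpecialLinearGroup (Fin 2) F) := by
    intro x hx
    rw [MonoidHom.mem_ker] at hx
    have h1 : QuotientGroup.mk' (Subgroup.center (Matrix.SpecialLinearGroup (Fin 2) F)) (e x) = 1 := hx
    rwa [← MonoidHom.mem_ker, QuotientGroup.ker_mk'] at h1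
  intro a haA ha1
  have haT : a ∈ T := hA haA
  rw [hT] at haT
  obtain ⟨s₀, hs₀, rfl⟩ := Subgroup.mem_map.mp haT
  have hsH : (H.subtype s₀) ∈ H := s₀.2
  obtain ⟨k, hk⟩ := S.isPGroup' ⟨s₀, hs₀⟩
  have hk' : s₀ ^ p ^ k = 1 := by
    have := congrArg (fun z : (S : Subgroup ↥H) => (z : ↥H)) hk
    simpa using this
  have hs₀1 : s₀ ≠ 1 := by
    rintro rfl
    exact ha1 rfl
  rcases Nat.lt_or_ge n 2 with hn2 | hn2
  · have hn1 : n = 1 := by omega
    rw [hn1, pow_one]
    exact Cfsg.Agent.Lib.Helper46_ModBound.relIndex_ge_prime p V H hVp hf _ hsH ha1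
  · rcases eq_or_ne p 2 with hp2 | hp2
    · -- characteristic 2
      subst hp2
      have hker : (Nat.card π.ker).Coprime 2 := by
        have hbot : π.ker = ⊥ := by
          rw [eq_bot_iff]
          intro x hx
          have h1 := hkermem x hx
          rw [Cfsg.Agent.Lib.Helper46_SL2Even.center_eq_bot, Subgroup.mem_bot] at h1
          rw [Subgroup.mem_bot]
          exact e.map_eq_one_iff.mp h1
        rw [hbot, Subgroup.card_bot]
        exact Nat.coprime_one_left 2
      obtain ⟨r, b, hr, hr2, hb, hRdvd, hRord⟩ := Cfsg.Agent.S2782.exists_ppd n (by omega)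
      obtain ⟨g, hg⟩ := Cfsg.Agent.S2782.exists_conj_dvd_orderOf π hπ hker s₀ hs₀1 k hk'
      have hdvd : r ^ b ∣ orderOf ((s₀ : G) * ((g : G) * (s₀ : G) * (g : G)⁻¹)) := by
        have h1 : ((s₀ : G) * ((g : G) * (s₀ : G) * (g : G)⁻¹)) =
            ((s₀ * (g * s₀ * g⁻¹) : ↥H) : G) := rfl
        rw [h1, Subgroup.orderOf_coe]
        refine dvd_trans hRdvd ?_
        rw [← hF]
        exact hg
      exact (Cfsg.Agent.Lib.Helper46_ModBound.relIndex_ge_of_conj 2 V H hVp hHV hf (s₀ : G) (g : G)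
        s₀.2 g.2 r b hr hr2 hb hdvd n hRord).1
    · -- odd characteristic
      have hker : (Nat.card π.ker).Coprime p := by
        have h2 : IsPGroup 2 π.ker := by
          intro x
          refine ⟨1, ?_⟩
          have h1 := hkermem x x.2
          have h3 := Cfsg.Agent.Lib.Helper46_SL2Odd.sq_eq_one_of_mem_center _ h1
          rw [pow_one, pow_two]
          apply Subtype.ext
          apply e.injective
          rw [Subgroup.coe_mul, map_mul, h3, Subgroup.coe_one, map_one]
        obtain ⟨j, hj⟩ := IsPGroup.iff_card.mp h2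
        rw [hj]
        apply Nat.Coprime.pow_left
        exact (Nat.coprime_primes Nat.prime_two hpp).mpr (Ne.symm hp2)
      obtain ⟨r, hr, hr2, hrp, hRdvd, hRord⟩ := Cfsg.Agent.S2785.exists_ppd_odd p n hpp hp2 hn2
      have hcardSL : r ∣ Nat.card (Matrix.SpecialLinearGroup (Fin 2) F) := by
        rw [Cfsg.Agent.Lib.Helper5_PSLCard.card_SL_two, hF]
        exact hRdvd
      obtain ⟨g, hg⟩ := Cfsg.Agent.S2785.exists_conj_dvd_orderOf p hp2 π hπ hker r hr hr2 hcardSL
        s₀ hs₀1 k hk'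
      have hdvd : r ^ 1 ∣ orderOf ((s₀ : G) * ((g : G) * (s₀ : G) * (g : G)⁻¹)) := by
        have h1 : ((s₀ : G) * ((g : G) * (s₀ : G) * (g : G)⁻¹)) =
            ((s₀ * (g * s₀ * g⁻¹) : ↥H) : G) := rfl
        rw [h1, Subgroup.orderOf_coe, pow_one]
        exact hg
      exact (Cfsg.Agent.Lib.Helper46_ModBound.relIndex_ge_of_conj p V H hVp hHV hf (s₀ : G) (g : G)
        s₀.2 g.2 r 1 hr hrp le_rfl hdvd n (by rw [pow_one]; exact hRord)).1

end Cfsg.Agent.S2788
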