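import Cfsg.Statements.S2810
import Cfsg.Agent.Lib.Helper47_PLocal

set_option autoImplicit false
open Cfsg

namespace Cfsg.Agent.S2810

open Cfsg.Agent.Lib.Helper47_PLocal
open scoped commutatorElement

/-- Let H be a finite group of characteristic p and L a subgroup of H centralizing every factor of some H-invariant chain 1 = A₀ ≤ A₁ ≤ … ≤ Aₙ = O_p(H) of normal subgroups (that is, [A_{i+1}, L] ≤ Aᵢ for each i). Then L ≤ O_p(H). -/
theorem result {H : Type*} [Group H] [Finite H] {p : ℕ} [Fact p.Prime] (hchar : Subgroup.centralizer (Cfsg.pCore p H : Set H) ≤ Cfsg.pCore p H) (L : Subgroup H) (n : ℕ) (A : Fin (n + 1) → Subgroup H) (h0 : A 0 = ⊥) (hn : A (Fin.last n) = Cfsg.pCore p H) (hmono : Monotone A) (hnorm : ∀ i, (A i).Normal) (hcent : ∀ i : Fin n, ⁅A i.succ, L⁆ ≤ A i.castSucc) : L ≤ Cfsg.pCore p H := by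
  classical
  -- the common kernel of the actions on the factors
  let C : Subgroup H := ⨅ i : Fin n, commKer (A i.succ) (A i.castSucc)
  have hCn : C.Normal := Subgroup.normal_iInf_normal (fun i => commKer_normal _ _)
  have hLC : L ≤ C := le_iInf fun i => le_commKer_iff.mpr (hcent i)
  have hAp : ∀ i, A i ≤ Cfsg.pCore p H := fun i => hn ▸ hmono (Fin.le_last i)
  have hCp : IsPGroup p C := by
    apply isPGroup_of_forall_coprime_eq_one
    intro x hxC hx
    have hxi : ∀ i : Fin n, x ∈ commKer (A i.succ) (A i.castSucc) := fun i =>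
      (iInf_le (fun i : Fin n => commKer (A i.succ) (A i.castSucc)) i) hxC
    have key : ∀ i : Fin (n + 1), ∀ r ∈ A i, Commute x r := by
      intro i
      induction i using Fin.induction with
      | zero =>
        intro r hr
        rw [h0, Subgroup.mem_bot] at hr
        rw [hr]; exact Commute.one_right x
      | succ i ih =>
        exact commute_of_coprime_of_commutator_mem (A i.succ) (A i.castSucc) x hx
          (fun r hr => hxi i r hr) ih
          (fun c hc => orderOf_eq_pow_of_mem (pCore_isPGroup p H) (hAp _ hc))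
    have hxC' : x ∈ Subgroup.centralizer (Cfsg.pCore p H : Set H) := by
      rw [Subgroup.mem_centralizer_iff]
      intro r hr
      rw [← hn] at hr
      exact ((key _ r hr).eq).symm
    exact eq_one_of_coprime_of_mem (pCore_isPGroup p H) (hchar hxC') hx
  exact le_trans hLC (le_pCore hCn hCp)

end Cfsg.Agent.S2810
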