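import Cfsg.Statements.S2813
import Cfsg.Agent.Lib.Helper47_PLocal

set_option autoImplicit false
open Cfsg

namespace Cfsg.Agent.S2813

open Cfsg.Agent.Lib.Helper47_PLocal
open scoped commutatorElement

/-- Let K be a subgroup of the finite group H with O_p(K) = 1 and Y a p-subgroup of N_H(K) with [K, Y, Y] = 1. Then [K, Y] = 1. -/
theorem result {H : Type*} [Group H] [Finite H] {p : ℕ} [Fact p.Prime] (K : Subgroup H) (hO : Cfsg.pCore p ↥K = ⊥) (Y : Subgroup H) (hY : IsPGroup p ↥Y) (hYK : Y ≤ Subgroup.normalizer (K : Set H)) (hq : ⁅⁅K, Y⁆, Y⁆ = ⊥) : ⁅K, Y⁆ = ⊥ := by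
  have hNK : ⁅K, Y⁆ ≤ K := Subgroup.le_normalizer_iff_commutator_le_left.mp hYK
  have hKN : K ≤ Subgroup.normalizer ((⁅K, Y⁆ : Subgroup H) : Set H) :=
    le_normalizer_commutator_left K Y
  have hcent : ⁅K, Y⁆ ≤ Subgroup.centralizer (Y : Set H) :=
    Subgroup.commutator_eq_bot_iff_le_centralizer.mp hq
  -- every element of `Y` commutes with every element of `[K, Y]`
  have hcY : ∀ y ∈ Y, ∀ n ∈ ⁅K, Y⁆, Commute y n := by
    intro y hy n hn
    exact (Subgroup.mem_centralizer_iff.mp (hcent hn)) y hy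
  -- generators of `[K,Y]` commute with `[K,Y]`
  have hgen : ∀ k ∈ K, ∀ y ∈ Y, ∀ n ∈ ⁅K, Y⁆, Commute ⁅k, y⁆ n := by
    intro k hk y hy n hn
    have h1 : Commute (k * y * k⁻¹) n := by
      have h2 : k⁻¹ * n * k⁻¹⁻¹ ∈ ⁅K, Y⁆ := conj_mem_commutator_left (K.inv_mem hk) hn
      have h3 : Commute y (k⁻¹ * n * k⁻¹⁻¹) := hcY y hy _ h2
      have h4 : y * (k⁻¹ * n * k⁻¹⁻¹) = (k⁻¹ * n * k⁻¹⁻¹) * y := h3.eq
      show k * y * k⁻¹ * n = n * (k * y * k⁻¹)
      calc k * y * k⁻¹ * n = k * (y * (k⁻¹ * n * k⁻¹⁻¹)) * k⁻¹ := by group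
        _ = k * ((k⁻¹ * n * k⁻¹⁻¹) * y) * k⁻¹ := by rw [h4]
        _ = n * (k * y * k⁻¹) := by group
    have h5 : Commute y⁻¹ n := (hcY y hy n hn).inv_left
    have : ⁅k, y⁆ = (k * y * k⁻¹) * y⁻¹ := by rw [commutatorElement_def]
    rw [this]
    exact h1.mul_left h5
  have hp : IsPGroup p (⁅K, Y⁆ : Subgroup H) := by
    rw [Subgroup.commutator_def]
    apply isPGroup_closure_of_commute
    · rintro a ⟨k, hk, y, hy, rfl⟩ b ⟨k', hk', y', hy', rfl⟩
      exact hgen k hk y hy _ (Subgroup.commutator_mem_commutator hk' hy')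
    · rintro a ⟨k, hk, y, hy, rfl⟩
      obtain ⟨j, hj⟩ := hY ⟨y, hy⟩
      have hj' : y ^ (p ^ j) = 1 := by simpa using congrArg Subtype.val hj
      refine ⟨j, ?_⟩
      have hc : Commute ⁅k, y⁆ y := (hcY y hy _ (Subgroup.commutator_mem_commutator hk hy)).symm
      have h1 : k * y * k⁻¹ = ⁅k, y⁆ * y := by rw [commutatorElement_def]; group
      have h2 : (k * y * k⁻¹) ^ (p ^ j) = k * y ^ (p ^ j) * k⁻¹ := conj_pow
      rw [h1, hc.mul_pow, hj', mul_one] at h2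
      rw [h2]; group
  exact eq_bot_of_isPGroup_of_pCore_eq_bot hNK hKN hp hO

end Cfsg.Agent.S2813
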