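import Cfsg.Statements.S2815
import Mathlib
import Cfsg.Agent.Lib.Helper21_FStar
import Cfsg.Agent.Lib.Helper2_PResidual
import Cfsg.Agent.Lib.Helper47_PLocal

set_option autoImplicit false
open Cfsg

namespace Cfsg.Agent.S2815

open Cfsg.Agent.Lib.Helper21_Components Cfsg.Agent.Lib.Helper21_Fitting
  Cfsg.Agent.Lib.Helper21_FStar Cfsg.Agent.Lib.Helper71_Fitting

/-- Elements of the Fitting subgroup have order prime to `p` when `O_p = 1`. -/
theorem not_dvd_orderOf_of_mem_fitting {H : Type*} [Group H] [Finite H] {p : ℕ} [Fact p.Prime]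
    (hO : Cfsg.pCore p H = ⊥) {x : H} (hx : x ∈ fittingSubgroup H) : ¬ p ∣ orderOf x := by
  intro hdvd
  have hx0 : orderOf x ≠ 0 := (orderOf_pos x).ne'
  have hy : orderOf (x ^ (orderOf x / p)) = p := orderOf_pow_orderOf_div hx0 hdvd
  have hyF : x ^ (orderOf x / p) ∈ fittingSubgroup H := Subgroup.pow_mem _ hx _
  have hn := fittingSubgroup_normal (G := H)
  have h1 := mem_sylowCore_of_mem_normal_nilpotent (p := p) _ fittingSubgroup_isNilpotent hyF
    (k := 1) (by rw [hy, pow_one])
  have h2 : sylowCore p H ≤ Cfsg.pCore p H :=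
    Cfsg.Agent.Lib.Helper47_PLocal.le_pCore (sylowCore_normal p) (sylowCore_isPGroup p)
  have h3 := h2 h1
  rw [hO, Subgroup.mem_bot] at h3
  rw [h3, orderOf_one] at hy
  exact (Fact.out : p.Prime).one_lt.ne hy

/-- A perfect subgroup lies in every term of the derived series. -/
theorem le_derivedSeries_of_perfect {H : Type*} [Group H] {L : Subgroup H} (hL : ⁅L, L⁆ = L)
    (n : ℕ) : L ≤ derivedSeries H n := by
  induction n with
  | zero => exact le_top
  | succ n ih =>
    rw [derivedSeries_succ, ← hL]
    exact Subgroup.commutator_mono ih ih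

/-- A perfect subgroup lies in every normal subgroup with solvable quotient. -/
theorem le_of_perfect_of_isSolvable_quotient {H : Type*} [Group H] {L K : Subgroup H} [K.Normal]
    (hL : ⁅L, L⁆ = L) (hs : Group.IsSolvable (H ⧸ K)) : L ≤ K := by
  obtain ⟨n, hn⟩ := hs.solvable
  have h1 : (derivedSeries H n).map (QuotientGroup.mk' K) ≤ derivedSeries (H ⧸ K) n :=
    map_derivedSeries_le_derivedSeries _ n
  rw [hn, le_bot_iff, Subgroup.map_eq_bot_iff, QuotientGroup.ker_mk'] at h1
  exact (le_derivedSeries_of_perfect hL n).trans h1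



/-- Let H be a finite group and p a prime dividing its order with O_p(H) = 1, and suppose K = O^p(H) (generated by the elements of order prime to p) is quasisimple. Then K = F*(H); for every nontrivial p-subgroup Y of H, K = [K, Y] and K lies in the subgroup generated by the K-conjugates of Y; every normal subgroup of H not containing K has order prime to p; and H is p-irreducible. -/
theorem result {H : Type*} [Group H] [Finite H] {p : ℕ} [Fact p.Prime] (hp : p ∣ Nat.card H) (hO : Cfsg.pCore p H = ⊥) (hq : Cfsg.IsQuasisimple ↥(Cfsg.pResidual p H)) : Cfsg.pResidual p H = Cfsg.generalizedFittingSubgroup H ∧ (∀ Y : Subgroup H, IsPGroup p ↥Y → Y ≠ ⊥ → ⁅Cfsg.pResidual p H, Y⁆ = Cfsg.pResidual p H ∧ Cfsg.pResidual p H ≤ ⨆ k : ↥(Cfsg.pResidual p H), Y.map (MulAut.conj (k : H)).toMonoidHom) ∧ (∀ C : Subgroup H, C.Normal → ¬ Cfsg.pResidual p H ≤ C → (Nat.card ↥C).Coprime p) ∧ Cfsg.IsPIrreducible p H := by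
  classical
  have hpp : p.Prime := Fact.out
  set K := Cfsg.pResidual p H with hKdef
  have hKn : K.Normal := Cfsg.Agent.Lib.Helper2_PResidual.pResidual_normal
  have hKcomp : IsComponent K := ⟨hKn.isSubnormal, hq⟩
  have hKperf : ⁅K, K⁆ = K := IsComponent.commutator_self hKcomp
  -- the Fitting subgroup lies in `K`
  have hFK : fittingSubgroup H ≤ K := by
    intro x hx
    apply Cfsg.Agent.Lib.Helper2_PResidual.mem_pResidual_of_coprime
    exact (Nat.Coprime.symm ((Nat.Prime.coprime_iff_not_dvd hpp).mpr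
      (not_dvd_orderOf_of_mem_fitting hO hx)))
  -- the layer is `K`
  have hsolv : Group.IsSolvable (H ⧸ K) := by
    have : IsPGroup p (H ⧸ K) := Cfsg.Agent.Lib.Helper2_PResidual.isPGroup_quotient_pResidual
    have := this.isNilpotent
    infer_instance
  have hlayer : layer H = K := by
    apply le_antisymm
    · apply sSup_le
      intro L hL
      exact le_of_perfect_of_isSolvable_quotient (IsComponent.commutator_self hL) hsolv
    · exact le_sSup hKcomp
  have h1 : K = generalizedFittingSubgroup H := by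
    unfold generalizedFittingSubgroup
    rw [hlayer]
    exact (sup_eq_left.mpr hFK).symm
  -- the centralizer of `K` lies in `K`
  have hcent : Subgroup.centralizer (K : Set H) ≤ K := by
    have := centralizer_generalizedFitting_le (G := H)
    rwa [← h1] at this
  -- subgroups of `K` centralizing `K` consist of elements of order prime to `p`
  have hZ : ∀ x : H, x ∈ K → x ∈ Subgroup.centralizer (K : Set H) → ¬ p ∣ orderOf x := by
    intro x hxK hxC
    apply not_dvd_orderOf_of_mem_fitting hO
    have hZn : (K ⊓ Subgroup.centralizer (K : Set H)).Normal := inferInstance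
    have hZc : IsMulCommutative ↥(K ⊓ Subgroup.centralizer (K : Set H)) :=
      ⟨⟨fun a b => Subtype.ext ((Subgroup.mem_centralizer_iff.mp
        (Subgroup.mem_inf.mp b.2).2 a.1 (Subgroup.mem_inf.mp a.2).1))⟩⟩
    have hnil : Group.IsNilpotent ↥(K ⊓ Subgroup.centralizer (K : Set H)) := by
      let _ : CommGroup ↥(K ⊓ Subgroup.centralizer (K : Set H)) :=
        { (inferInstance : Group ↥(K ⊓ Subgroup.centralizer (K : Set H))) with
          mul_comm := fun a b => mul_comm' a b }
      infer_instance
    have hle : K ⊓ Subgroup.centralizer (K : Set H) ≤ fittingSubgroup H := le_sSup ⟨hZn, hnil⟩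
    exact hle (Subgroup.mem_inf.mpr ⟨hxK, hxC⟩)
  -- normal subgroups not containing `K`
  have h3 : ∀ C : Subgroup H, C.Normal → ¬ K ≤ C → (Nat.card ↥C).Coprime p := by
    intro C hCn hKC
    have hcomm : ⁅K, C⁆ = ⊥ := (IsComponent.le_or_commutator_eq_bot hKcomp hCn.isSubnormal).resolve_left hKC
    have hCc : C ≤ Subgroup.centralizer (K : Set H) := by
      rw [Subgroup.commutator_comm] at hcomm
      exact Subgroup.commutator_eq_bot_iff_le_centralizer.mp hcomm
    have hCK : C ≤ K := hCc.trans hcent
    rw [Nat.coprime_comm, Nat.Prime.coprime_iff_not_dvd hpp]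
    intro hdvd
    obtain ⟨x, hx⟩ := exists_prime_orderOf_dvd_card' p hdvd
    have hx' : orderOf (x : H) = p := by rw [Subgroup.orderOf_coe, hx]
    exact hZ x (hCK x.2) (hCc x.2) (by rw [hx'])
  refine ⟨h1, ?_, h3, ?_⟩
  · intro Y hY hYne
    have hYK : ¬ Y ≤ Subgroup.centralizer (K : Set H) := by
      intro hYc
      apply hYne
      rw [eq_bot_iff]
      intro y hy
      have h := hZ y (hcent (hYc hy)) (hYc hy)
      obtain ⟨k, hk⟩ := (IsPGroup.iff_orderOf.mp hY) ⟨y, hy⟩
      rw [Subgroup.orderOf_mk] at hk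
      rw [hk] at h
      have hk0 : k = 0 := by
        by_contra hk0
        exact h (dvd_pow_self p hk0)
      rw [hk0, pow_zero, orderOf_eq_one_iff] at hk
      exact hk
    have hcomm : ⁅K, Y⁆ = K := by
      have hle : ⁅K, Y⁆ ≤ K := Subgroup.commutator_le_left K Y
      have hnorm : (⁅K, Y⁆.subgroupOf K).Normal :=
        (Subgroup.normal_subgroupOf_iff_le_normalizer hle).mpr
          (Cfsg.Agent.Lib.Helper47_PLocal.le_normalizer_commutator_left K Y)
      rcases IsQuasisimple.normal_eq_top_or_le_center hq (⁅K, Y⁆.subgroupOf K) with h | h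
      · exact le_antisymm hle (Subgroup.subgroupOf_eq_top.mp h)
      · exfalso
        apply hYK
        have hc1 : ⁅⁅K, Y⁆, K⁆ = ⊥ := by
          rw [Subgroup.commutator_eq_bot_iff_le_centralizer]
          intro x hx
          rw [Subgroup.mem_centralizer_iff]
          intro k hk
          have hxK : x ∈ K := hle hx
          have := h (Subgroup.mem_subgroupOf.mpr (show ((⟨x, hxK⟩ : ↥K) : H) ∈ ⁅K, Y⁆ from hx))
          rw [Subgroup.mem_center_iff] at this
          exact congrArg Subtype.val (this ⟨k, hk⟩)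
        have hc2 : ⁅⁅Y, K⁆, K⁆ = ⊥ := by rw [Subgroup.commutator_comm Y K]; exact hc1
        have hc3 := Subgroup.commutator_commutator_eq_bot_of_rotate hc1 hc2
        rw [hKperf, Subgroup.commutator_comm] at hc3
        exact Subgroup.commutator_eq_bot_iff_le_centralizer.mp hc3
    refine ⟨hcomm, ?_⟩
    refine hcomm.ge.trans ?_
    rw [Subgroup.commutator_le]
    intro k hk y hy
    rw [commutatorElement_def]
    have h1' : k * y * k⁻¹ ∈ ⨆ k : ↥K, Y.map (MulAut.conj (k : H)).toMonoidHom := by
      apply Subgroup.mem_iSup_of_mem ⟨k, hk⟩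
      exact ⟨y, hy, rfl⟩
    have h2' : y⁻¹ ∈ ⨆ k : ↥K, Y.map (MulAut.conj (k : H)).toMonoidHom := by
      apply Subgroup.mem_iSup_of_mem ⟨1, K.one_mem⟩
      exact ⟨y⁻¹, Y.inv_mem hy, by simp⟩
    exact Subgroup.mul_mem _ h1' h2'
  · constructor
    · intro hcl
      obtain ⟨x, hx⟩ := exists_prime_orderOf_dvd_card' p hp
      have hxp : IsPGroup p (Subgroup.zpowers x) := by
        rw [IsPGroup.iff_card]
        exact ⟨1, by rw [Nat.card_zpowers, hx, pow_one]⟩
      obtain ⟨P, hP⟩ := hxp.exists_le_sylow
      have hPn : (P : Subgroup H).Normal := hcl P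
      have hPle : (P : Subgroup H) ≤ Cfsg.pCore p H :=
        Cfsg.Agent.Lib.Helper47_PLocal.le_pCore hPn P.isPGroup'
      have hx1 : x ∈ (⊥ : Subgroup H) := hO ▸ hPle (hP (Subgroup.mem_zpowers x))
      rw [Subgroup.mem_bot] at hx1
      rw [hx1, orderOf_one] at hx
      exact hpp.one_lt.ne hx
    · intro N hN hNcl
      by_contra hKN
      apply hNcl
      have hcop := h3 N hN hKN
      intro P
      have hP1 : Nat.card ↥(P : Subgroup ↥N) = 1 := by
        obtain ⟨k, hk⟩ := IsPGroup.iff_card.mp P.isPGroup'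
        have hdvd : Nat.card ↥(P : Subgroup ↥N) ∣ Nat.card ↥N := Subgroup.card_subgroup_dvd_card _
        rw [hk] at hdvd ⊢
        have : (p ^ k).Coprime (p ^ k) := Nat.Coprime.coprime_dvd_left hdvd
          (Nat.Coprime.pow_right k hcop)
        exact (Nat.coprime_self _).mp this
      have : (P : Subgroup ↥N) = ⊥ := Subgroup.card_eq_one.mp hP1
      rw [this]
      infer_instance


end Cfsg.Agent.S2815
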