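import Cfsg.Statements.S2816
import Cfsg.Agent.Lib.Helper49_FStarComm4

set_option autoImplicit false
open Cfsg

namespace Cfsg.Agent.S2816

/-- Let H be a finite group and p a prime with O_p(H) = 1, and Y a p-subgroup of H. Then for every subnormal subgroup K of H containing Y, [F*(H), Y] = [F*(K), Y] = [F*(K), Y, Y]; and if Y₀ ≤ Y with [F*(H), Y, Y₀] = 1 then Y₀ = 1 (in particular [F*(H), Y] = 1 forces Y = 1). -/
theorem result {H : Type*} [Group H] [Finite H] {p : ℕ} [Fact p.Prime] (hO : Cfsg.pCore p H = ⊥) (Y : Subgroup H) (hY : IsPGroup p ↥Y) : (∀ K : Subgroup H, K.IsSubnormal → Y ≤ K → ⁅Cfsg.generalizedFittingSubgroup H, Y⁆ = ⁅(Cfsg.generalizedFittingSubgroup ↥K).map K.subtype, Y⁆ ∧ ⁅(Cfsg.generalizedFittingSubgroup ↥K).map K.subtype, Y⁆ = ⁅⁅(Cfsg.generalizedFittingSubgroup ↥K).map K.subtype, Y⁆, Y⁆) ∧ (∀ Y₀ : Subgroup H, Y₀ ≤ Y → ⁅⁅Cfsg.generalizedFittingSubgroup H, Y⁆, Y₀⁆ = ⊥ → Y₀ = ⊥) := by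
  classical
  have hn := Cfsg.Agent.Lib.Helper29_Local.generalizedFittingSubgroup_normal H
  refine ⟨fun K hK hYK => ⟨?_, ?_⟩, fun Y₀ hY₀ h0 => ?_⟩
  · exact Cfsg.Agent.Lib.Helper49_FStarComm.commutator_generalizedFitting_eq_of_isSubnormal hO Y hY hK hYK
  · have hOK := Cfsg.Agent.Lib.Helper49_FStarComm.pCore_eq_bot_of_isSubnormal hO hK
    have hnK := Cfsg.Agent.Lib.Helper29_Local.generalizedFittingSubgroup_normal ↥K
    have hso : ((Cfsg.generalizedFittingSubgroup ↥K).map K.subtype).subgroupOf K =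
        Cfsg.generalizedFittingSubgroup ↥K :=
      Subgroup.comap_map_eq_self_of_injective K.subtype_injective _
    refine (Cfsg.Agent.Lib.Helper49_FStarComm.commutator_sup_centralizer_eq K hOK Y hY
      (hYK.trans Subgroup.le_normalizer) _ le_rfl ?_ ?_).2
    · rw [hso]
      exact hnK.isSubnormal
    · refine hYK.trans ?_
      have hn' : (((Cfsg.generalizedFittingSubgroup ↥K).map K.subtype).subgroupOf K).Normal := by
        rw [hso]; exact hnK
      exact (Subgroup.normal_subgroupOf_iff_le_normalizer (Subgroup.map_subtype_le _)).mp hn'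
  · -- `Y₀ = 1`
    have hY₀p : IsPGroup p ↥Y₀ := hY.to_le hY₀
    have hX₀ := (Cfsg.Agent.Lib.Helper49_FStarComm.commutator_generalizedFitting hO Y₀ hY₀p).2
    have h1 : ⁅⁅Cfsg.generalizedFittingSubgroup H, Y₀⁆, Y₀⁆ = ⊥ := by
      rw [eq_bot_iff, ← h0]
      exact Subgroup.commutator_mono (Subgroup.commutator_mono le_rfl hY₀) le_rfl
    rw [h1] at hX₀
    have h2 : Y₀ ≤ Subgroup.centralizer (Cfsg.generalizedFittingSubgroup H : Set H) := by
      rw [Subgroup.commutator_comm] at hX₀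
      exact Subgroup.commutator_eq_bot_iff_le_centralizer.mp hX₀
    have h3 : Y₀ ≤ Cfsg.generalizedFittingSubgroup H :=
      h2.trans Cfsg.Agent.Lib.Helper21_FStar.centralizer_generalizedFitting_le
    -- `Z(F*(H))` is a normal abelian subgroup, hence in `F(H)`
    set Z : Subgroup H := Cfsg.generalizedFittingSubgroup H ⊓
      Subgroup.centralizer (Cfsg.generalizedFittingSubgroup H : Set H) with hZ
    have hZn : Z.Normal := by rw [hZ]; infer_instance
    have hZc : IsMulCommutative ↥Z := by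
      refine ⟨⟨fun a b => ?_⟩⟩
      apply Subtype.ext
      have ha := (Subgroup.mem_inf.mp a.2).1
      have hb := (Subgroup.mem_inf.mp b.2).2
      have := Subgroup.mem_centralizer_iff.mp hb a ha
      simp only [Subgroup.coe_mul]
      exact this
    have hZF : Z ≤ Cfsg.fittingSubgroup H :=
      Cfsg.Agent.Lib.Helper29_Local.le_fittingSubgroup Z
        Cfsg.Agent.Lib.Helper29_Local.isNilpotent_of_isMulCommutative
    rw [eq_bot_iff]
    intro y hy
    rw [Subgroup.mem_bot]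
    have hyF : y ∈ Cfsg.fittingSubgroup H := hZF (Subgroup.mem_inf.mpr ⟨h3 hy, h2 hy⟩)
    have hnd := Cfsg.Agent.Lib.Helper49_FStarComm.not_dvd_orderOf_of_mem_fittingSubgroup hO hyF
    obtain ⟨k, hk⟩ := hY₀p ⟨y, hy⟩
    have hk' : y ^ p ^ k = 1 := by
      have := congrArg Subtype.val hk
      simpa using this
    have hdvd : orderOf y ∣ p ^ k := orderOf_dvd_of_pow_eq_one hk'
    obtain ⟨j, _, hj⟩ := (Nat.dvd_prime_pow (Fact.out : p.Prime)).mp hdvd
    rcases Nat.eq_zero_or_pos j with h | h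
    · rw [h, pow_zero] at hj
      exact orderOf_eq_one_iff.mp hj
    · exact absurd (hj ▸ dvd_pow_self p h.ne') hnd

end Cfsg.Agent.S2816
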