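import Cfsg.Statements.S2817
import Cfsg.Agent.Lib.Helper49_FStarComm6
import Cfsg.Agent.Lib.Helper49_CharP5

set_option autoImplicit false
open Cfsg

namespace Cfsg.Agent.S2817

/-- Let H be a finite group and p a prime with O_p(H) = 1, Q a p-subgroup of H, L = [F*(H), Q], and F the largest normal subgroup of F*(H) centralized by Q (a normal subgroup of F*(H) centralized by Q and containing every such). Then F = C_{F*(H)}(LQ); L = [L, Q]; L ∩ F ≤ Φ(L); every p-subgroup B of N_H(Q) with [L, B] ≤ F satisfies [L, B] = 1; and C_H(FL) has order prime to p. -/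
theorem result {H : Type*} [Group H] [Finite H] {p : ℕ} [Fact p.Prime] (hO : Cfsg.pCore p H = ⊥) (Q : Subgroup H) (hQ : IsPGroup p ↥Q) (L : Subgroup H) (hL : L = ⁅Cfsg.generalizedFittingSubgroup H, Q⁆) (F : Subgroup H) (hF : F ≤ Cfsg.generalizedFittingSubgroup H ∧ Cfsg.generalizedFittingSubgroup H ≤ Subgroup.normalizer (F : Set H) ∧ Q ≤ Subgroup.centralizer (F : Set H) ∧ ∀ N : Subgroup H, N ≤ Cfsg.generalizedFittingSubgroup H → Cfsg.generalizedFittingSubgroup H ≤ Subgroup.normalizer (N : Set H) → Q ≤ Subgroup.centralizer (N : Set H) → N ≤ F) : F = Cfsg.generalizedFittingSubgroup H ⊓ Subgroup.centralizer ((L ⊔ Q : Subgroup H) : Set H) ∧ ⁅L, Q⁆ = L ∧ L ⊓ F ≤ (frattini ↥L).map L.subtype ∧ (∀ B : Subgroup H, IsPGroup p ↥B → B ≤ Subgroup.normalizer (Q : Set H) → ⁅L, B⁆ ≤ F → ⁅L, B⁆ = ⊥) ∧ (Nat.card ↥(Subgroup.centralizer ((F ⊔ L : Subgroup H) : Set H))).Coprime p := by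
  classical
  set X : Subgroup H := Cfsg.generalizedFittingSubgroup H with hX
  obtain ⟨hFX, hXF, hQF, hmax⟩ := hF
  have hXn : X.Normal := Cfsg.Agent.Lib.Helper29_Local.generalizedFittingSubgroup_normal H
  have hXtop : ∀ A : Subgroup H, A ≤ Subgroup.normalizer (X : Set H) := fun A => by
    rw [Subgroup.normalizer_eq_top]; exact le_top
  have hmain := Cfsg.Agent.Lib.Helper49_FStarComm.commutator_generalizedFitting hO Q hQ
  rw [← hX, ← hL] at hmain
  have hLX : L ≤ X := by
    rw [hL]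
    exact Cfsg.Agent.Lib.Helper49_FStarComm.commutator_le_left_of_le_normalizer (hXtop Q)
  have hXL : X ≤ Subgroup.normalizer (L : Set H) := by
    rw [hL]; exact Cfsg.Agent.Lib.Helper49_FStarComm.le_normalizer_commutator_left X Q
  have hQL : Q ≤ Subgroup.normalizer (L : Set H) := by
    rw [hL]; exact Cfsg.Agent.Lib.Helper49_FStarComm.le_normalizer_commutator_right X Q
  have hLsn : L.IsSubnormal :=
    Subgroup.IsSubnormal.trans hLX
      ((Subgroup.normal_subgroupOf_iff_le_normalizer hLX).mpr hXL).isSubnormal hXn.isSubnormal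
  have hb : ⁅L, Q⁆ = L := hmain.2.symm
  have hFQ : F ≤ Subgroup.centralizer (Q : Set H) := Subgroup.le_centralizer_iff.mp hQF
  have hFQ0 : ⁅F, Q⁆ = ⊥ := Subgroup.commutator_eq_bot_iff_le_centralizer.mpr hFQ
  have hQF0 : ⁅Q, F⁆ = ⊥ := Subgroup.commutator_eq_bot_iff_le_centralizer.mpr hQF
  have hLF0 : ⁅L, F⁆ = ⊥ := by
    rw [hL]
    refine Subgroup.commutator_commutator_eq_bot_of_rotate ?_ ?_
    · rw [hQF0]; exact Subgroup.commutator_bot_left _
    · rw [eq_bot_iff, ← hFQ0]
      exact Subgroup.commutator_mono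
        (Cfsg.Agent.Lib.Helper49_FStarComm.commutator_le_left_of_le_normalizer hXF) le_rfl
  have hLCF : L ≤ Subgroup.centralizer (F : Set H) :=
    Subgroup.commutator_eq_bot_iff_le_centralizer.mp hLF0
  have hFCL : F ≤ Subgroup.centralizer (L : Set H) := Subgroup.le_centralizer_iff.mp hLCF
  -- (a)
  have ha : F = X ⊓ Subgroup.centralizer ((L ⊔ Q : Subgroup H) : Set H) := by
    apply le_antisymm
    · exact le_inf hFX (Subgroup.le_centralizer_iff.mp (sup_le hLCF hQF))
    · set N : Subgroup H := X ⊓ Subgroup.centralizer ((L ⊔ Q : Subgroup H) : Set H) with hN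
      have hNL : N ≤ Subgroup.centralizer (L : Set H) :=
        inf_le_right.trans (Subgroup.centralizer_le (by exact_mod_cast (le_sup_left : L ≤ L ⊔ Q)))
      have hNQ : N ≤ Subgroup.centralizer (Q : Set H) :=
        inf_le_right.trans (Subgroup.centralizer_le (by exact_mod_cast (le_sup_right : Q ≤ L ⊔ Q)))
      refine hmax N inf_le_left ?_ (Subgroup.le_centralizer_iff.mp hNQ)
      have h1 : L ≤ Subgroup.normalizer (N : Set H) :=
        (Subgroup.le_centralizer_iff.mp hNL).trans (Subgroup.centralizer_le_normalizer _)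
      have h2 : X ⊓ Subgroup.centralizer (Q : Set H) ≤ Subgroup.normalizer (N : Set H) := by
        intro x hx
        obtain ⟨hxX, hxQ⟩ := Subgroup.mem_inf.mp hx
        have hxLQ : x ∈ Subgroup.normalizer ((L ⊔ Q : Subgroup H) : Set H) :=
          Cfsg.Agent.Lib.Helper49_FStarComm.normalizer_inf_le_normalizer_sup L Q
            (Subgroup.mem_inf.mpr ⟨hXL hxX, Subgroup.centralizer_le_normalizer _ hxQ⟩)
        have hxC := Cfsg.Agent.Lib.Helper49_CharP.normalizer_le_normalizer_centralizer (L ⊔ Q) hxLQ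
        exact Cfsg.Agent.Lib.Helper49_FStarComm.normalizer_inf_le_normalizer_inf _ _
          (Subgroup.mem_inf.mpr ⟨hXtop X hxX, hxC⟩)
      calc X = L ⊔ (X ⊓ Subgroup.centralizer (Q : Set H)) := hmain.1.symm
        _ ≤ Subgroup.normalizer (N : Set H) := sup_le h1 h2
  -- key lemma
  have hkey : L ⊓ Subgroup.centralizer (Q : Set H) ≤ ⁅L, L⁆ :=
    Cfsg.Agent.Lib.Helper49_FStarComm.inf_centralizer_le_commutator hO Q hQ L hLsn hLX hQL hb.ge
  refine ⟨ha, hb, ?_, ?_, ?_⟩
  · -- (c)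
    set Z : Subgroup ↥L := (L ⊓ F).subgroupOf L with hZ
    have hZc : Z ≤ Subgroup.center ↥L := by
      intro z hz
      rw [hZ, Subgroup.mem_subgroupOf] at hz
      rw [Subgroup.mem_center_iff]
      intro g
      apply Subtype.ext
      have := Subgroup.mem_centralizer_iff.mp (hFCL (Subgroup.mem_inf.mp hz).2) g g.2
      simp only [Subgroup.coe_mul]
      exact this
    have hZ' : Z ≤ commutator ↥L := by
      intro z hz
      rw [hZ, Subgroup.mem_subgroupOf] at hz
      have h1 : (z : H) ∈ ⁅L, L⁆ :=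
        hkey (Subgroup.mem_inf.mpr ⟨z.2, hFQ (Subgroup.mem_inf.mp hz).2⟩)
      rw [← Subgroup.map_subtype_commutator] at h1
      obtain ⟨y, hy, hyz⟩ := h1
      have : y = z := Subtype.ext hyz
      rw [← this]; exact hy
    have h := Cfsg.Agent.Lib.Helper49_FStarComm.le_frattini_of_le_center_of_le_commutator Z hZc hZ'
    have h2 := Subgroup.map_mono (f := L.subtype) h
    rw [hZ, Subgroup.map_subgroupOf_eq_of_le inf_le_left] at h2
    exact h2
  · -- (d)
    intro B hB hBQ hLB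
    have hBL : B ≤ Subgroup.normalizer (L : Set H) := by
      intro b hb
      rw [hL]
      exact Cfsg.Agent.Lib.Helper49_FStarComm.normalizer_inf_le_normalizer_commutator X Q
        (Subgroup.mem_inf.mpr ⟨hXtop B hb, hBQ hb⟩)
    have hD1 : ⁅L, B⁆ ≤ L :=
      Cfsg.Agent.Lib.Helper49_FStarComm.commutator_le_left_of_le_normalizer hBL
    have h4 : ⁅⁅L, L⁆, B⁆ = ⊥ := by
      have h1 : ⁅⁅L, B⁆, L⁆ = ⊥ :=
        Subgroup.commutator_eq_bot_iff_le_centralizer.mpr (hLB.trans hFCL)
      have h2 : ⁅⁅B, L⁆, L⁆ = ⊥ := by rw [Subgroup.commutator_comm B L]; exact h1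
      exact Subgroup.commutator_commutator_eq_bot_of_rotate h1 h2
    have h5 : ⁅L, B⁆ ≤ ⁅L, L⁆ := (le_inf hD1 (hLB.trans hFQ)).trans hkey
    have h6 : ⁅⁅L, B⁆, B⁆ = ⊥ :=
      eq_bot_iff.mpr ((Subgroup.commutator_mono h5 le_rfl).trans h4.le)
    have h7 := (Cfsg.Agent.Lib.Helper49_FStarComm.commutator_eq_of_isSubnormal hO B hB L hLsn hLX hBL).2
    rw [h7, h6]
  · -- (e)
    set C : Subgroup H := Subgroup.centralizer ((F ⊔ L : Subgroup H) : Set H) with hC
    rw [Nat.coprime_comm, Nat.Prime.coprime_iff_not_dvd (Fact.out : p.Prime)]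
    intro hdvd
    have hQC : Q ≤ Subgroup.normalizer (C : Set H) := by
      have h1 : Q ≤ Subgroup.normalizer ((F ⊔ L : Subgroup H) : Set H) := by
        intro q hq
        exact Cfsg.Agent.Lib.Helper49_FStarComm.normalizer_inf_le_normalizer_sup F L
          (Subgroup.mem_inf.mpr ⟨Subgroup.centralizer_le_normalizer _ (hQF hq), hQL hq⟩)
      exact h1.trans (Cfsg.Agent.Lib.Helper49_CharP.normalizer_le_normalizer_centralizer _)
    obtain ⟨z, hz, hzo⟩ :=
      Cfsg.Agent.Lib.Helper49_FStarComm.exists_orderOf_eq_prime_of_normalizes C Q hQ hQC hdvd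
    obtain ⟨hzC, hzQ⟩ := Subgroup.mem_inf.mp hz
    set P₀ : Subgroup H := Subgroup.zpowers z with hP₀def
    have hP₀ : IsPGroup p ↥P₀ := by
      refine IsPGroup.of_card (n := 1) ?_
      rw [hP₀def, Nat.card_zpowers, hzo, pow_one]
    have hP₀C : P₀ ≤ C := Subgroup.zpowers_le.mpr hzC
    have hP₀Q : P₀ ≤ Subgroup.centralizer (Q : Set H) := Subgroup.zpowers_le.mpr hzQ
    have hCL : C ≤ Subgroup.centralizer (L : Set H) :=
      Subgroup.centralizer_le (by exact_mod_cast (le_sup_right : L ≤ F ⊔ L))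
    have hCF : C ≤ Subgroup.centralizer (F : Set H) :=
      Subgroup.centralizer_le (by exact_mod_cast (le_sup_left : F ≤ F ⊔ L))
    have hP₀L : ⁅P₀, L⁆ = ⊥ :=
      Subgroup.commutator_eq_bot_iff_le_centralizer.mpr (hP₀C.trans hCL)
    have hLP₀ : ⁅L, P₀⁆ = ⊥ := by rw [Subgroup.commutator_comm]; exact hP₀L
    have hFP₀ : ⁅F, P₀⁆ = ⊥ := by
      rw [Subgroup.commutator_comm]
      exact Subgroup.commutator_eq_bot_iff_le_centralizer.mpr (hP₀C.trans hCF)
    have hP₀Q' : ⁅P₀, Q⁆ = ⊥ := Subgroup.commutator_eq_bot_iff_le_centralizer.mpr hP₀Q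
    have hmainP := (Cfsg.Agent.Lib.Helper49_FStarComm.commutator_generalizedFitting hO P₀ hP₀).2
    rw [← hX] at hmainP
    have h1 : ⁅⁅X, P₀⁆, Q⁆ = ⊥ := by
      refine Subgroup.commutator_commutator_eq_bot_of_rotate ?_ ?_
      · rw [hP₀Q']; exact Subgroup.commutator_bot_left _
      · rw [Subgroup.commutator_comm Q X, ← hL]; exact hLP₀
    have h2 : ⁅⁅X, P₀⁆, L⁆ = ⊥ := by
      refine Subgroup.commutator_commutator_eq_bot_of_rotate ?_ ?_
      · rw [hP₀L]; exact Subgroup.commutator_bot_left _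
      · rw [eq_bot_iff, ← hLP₀]
        exact Subgroup.commutator_mono
          (Cfsg.Agent.Lib.Helper49_FStarComm.commutator_le_left_of_le_normalizer hXL) le_rfl
    have h3 : ⁅X, P₀⁆ ≤ F := by
      rw [ha]
      refine le_inf
        (Cfsg.Agent.Lib.Helper49_FStarComm.commutator_le_left_of_le_normalizer (hXtop P₀)) ?_
      exact Subgroup.le_centralizer_iff.mp
        (sup_le (Subgroup.le_centralizer_iff.mp (Subgroup.commutator_eq_bot_iff_le_centralizer.mp h2))
          (Subgroup.le_centralizer_iff.mp (Subgroup.commutator_eq_bot_iff_le_centralizer.mp h1)))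
    have h4 : ⁅X, P₀⁆ = ⊥ := by
      rw [hmainP, eq_bot_iff]
      exact (Subgroup.commutator_mono h3 le_rfl).trans hFP₀.le
    have h5 := Cfsg.Agent.Lib.Helper49_FStarComm.eq_bot_of_commutator_generalizedFitting_eq_bot
      hO P₀ hP₀ h4
    have hz1 : z = 1 := by
      have : z ∈ P₀ := Subgroup.mem_zpowers z
      rw [h5, Subgroup.mem_bot] at this
      exact this
    rw [hz1, orderOf_one] at hzo
    exact (Fact.out : p.Prime).one_lt.ne hzo

end Cfsg.Agent.S2817
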