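import Cfsg.Statements.S2818
import Cfsg.Agent.Lib.Helper47_PLocal

set_option autoImplicit false
open Cfsg

namespace Cfsg.Agent.S2818

open Cfsg.Agent.Lib.Helper47_PLocal
open scoped commutatorElement

/-- Let P be a finite p-subgroup of a group G and H a subgroup of N_G(P) with [P, H] ≤ Ω₁(Z(P)) (the elements of order dividing p in the centre of P). Then H centralizes the Frattini subgroup of P. -/
theorem result {G : Type*} [Group G] [Finite G] {p : ℕ} [Fact p.Prime] (P : Subgroup G) (hP : IsPGroup p ↥P) (H : Subgroup G) (hH : H ≤ Subgroup.normalizer (P : Set G)) (h : ⁅P, H⁆ ≤ Cfsg.omegaOne p (P ⊓ Subgroup.centralizer (P : Set G))) : ⁅(frattini ↥P).map P.subtype, H⁆ = ⊥ := by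
  rw [Subgroup.commutator_eq_bot_iff_le_centralizer]
  have hZle : Cfsg.omegaOne p (P ⊓ Subgroup.centralizer (P : Set G)) ≤
      P ⊓ Subgroup.centralizer (P : Set G) := omegaOne_le _ _
  have hZcomm : ∀ a ∈ P ⊓ Subgroup.centralizer (P : Set G),
      ∀ b ∈ P ⊓ Subgroup.centralizer (P : Set G), Commute a b :=
    fun a ha b hb => Subgroup.mem_centralizer_iff.mp hb.2 a ha.1
  have hZpow : ∀ z ∈ Cfsg.omegaOne p (P ⊓ Subgroup.centralizer (P : Set G)), z ^ p = 1 :=
    fun z hz => pow_eq_one_of_mem_omegaOne hZcomm hz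
  rintro x ⟨x', hx', rfl⟩
  rw [Subgroup.mem_centralizer_iff]
  intro t ht
  have hc : ∀ y : P, ⁅(y : G), t⁆ ∈ Cfsg.omegaOne p (P ⊓ Subgroup.centralizer (P : Set G)) :=
    fun y => h (Subgroup.commutator_mem_commutator y.2 ht)
  have hcc : ∀ y a : P, Commute (a : G) ⁅(y : G), t⁆ := fun y a =>
    Subgroup.mem_centralizer_iff.mp (hZle (hc y)).2 a a.2
  let φ : ↥P →* G := MonoidHom.mk' (fun y => ⁅(y : G), t⁆) (by
    intro a b
    have h1 : ⁅((a * b : P) : G), t⁆ = (a : G) * ⁅(b : G), t⁆ * (a : G)⁻¹ * ⁅(a : G), t⁆ := by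
      simp only [commutatorElement_def, Subgroup.coe_mul]; group
    have h2 : (a : G) * ⁅(b : G), t⁆ = ⁅(b : G), t⁆ * (a : G) := (hcc b a).eq
    have h3 : Commute ⁅(b : G), t⁆ ⁅(a : G), t⁆ := hZcomm _ (hZle (hc b)) _ (hZle (hc a))
    show ⁅((a * b : P) : G), t⁆ = ⁅(a : G), t⁆ * ⁅(b : G), t⁆
    rw [h1, h2, mul_assoc, mul_assoc, mul_inv_cancel_left, h3.eq])
  have hφ : ∀ y : P, φ y = ⁅(y : G), t⁆ := fun _ => rfl
  have hker : frattini ↥P ≤ φ.ker := by
    apply frattini_le_of_commutator_le_of_pow_mem (p := p)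
    · rw [commutator_def, Subgroup.commutator_le]
      intro a _ b _
      rw [MonoidHom.mem_ker, map_commutatorElement, commutatorElement_eq_one_iff_commute]
      rw [hφ, hφ]
      exact hZcomm _ (hZle (hc a)) _ (hZle (hc b))
    · intro y
      rw [MonoidHom.mem_ker, map_pow, hφ]
      exact hZpow _ (hc y)
  have h4 : φ x' = 1 := hker hx'
  rw [hφ, commutatorElement_eq_one_iff_mul_comm] at h4
  exact h4.symm

end Cfsg.Agent.S2818
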