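import Cfsg.Statements.S2819
import Cfsg.Agent.Lib.Helper47_WeaklyClosed

set_option autoImplicit false
open Cfsg
open Cfsg.Agent.Lib.Helper47_PLocal Cfsg.Agent.Lib.Helper47_WeaklyClosed
open scoped commutatorElement

namespace Cfsg.Agent.S2819

/-- The elements normalizing `P`, centralizing `P'` and mapping `Φ` into `P'` under commutation. -/
def stab {G : Type*} [Group G] (P Φ : Subgroup G) : Subgroup G where
  carrier := {a | a ∈ Subgroup.centralizer ((⁅P, P⁆ : Subgroup G) : Set G) ∧ ∀ x ∈ Φ, ⁅x, a⁆ ∈ ⁅P, P⁆}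
  one_mem' := ⟨Subgroup.one_mem _, fun x _ => by simp⟩
  mul_mem' := by
    rintro a b ⟨ha1, ha2⟩ ⟨hb1, hb2⟩
    refine ⟨Subgroup.mul_mem _ ha1 hb1, fun x hx => ?_⟩
    have h1 : ⁅x, a * b⁆ = ⁅x, a⁆ * (a * ⁅x, b⁆ * a⁻¹) := by
      simp only [commutatorElement_def]; group
    have h2 : a * ⁅x, b⁆ * a⁻¹ = ⁅x, b⁆ := by
      have := (Subgroup.mem_centralizer_iff.mp ha1) _ (hb2 x hx)
      rw [← this]; group
    rw [h1, h2]
    exact Subgroup.mul_mem _ (ha2 x hx) (hb2 x hx)
  inv_mem' := by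
    rintro a ⟨ha1, ha2⟩
    refine ⟨Subgroup.inv_mem _ ha1, fun x hx => ?_⟩
    have h1 : ⁅x, a⁻¹⁆ = a⁻¹ * (⁅x, a⁆)⁻¹ * a := by
      simp only [commutatorElement_def]; group
    have h2 : a⁻¹ * (⁅x, a⁆)⁻¹ * a = (⁅x, a⁆)⁻¹ := by
      have := (Subgroup.mem_centralizer_iff.mp ha1) _ (Subgroup.inv_mem _ (ha2 x hx))
      rw [mul_assoc, this]; group
    rw [h1, h2]
    exact Subgroup.inv_mem _ (ha2 x hx)

/-- Let P be a finite p-subgroup of a group G, H a subgroup of N_G(P), and Y a subgroup of H centralizing the derived subgroup P' such that [P, Y] is elementary abelian. Then O^p(⟨Y^H⟩), the subgroup of the normal closure of Y in H generated by its elements of order prime to p, centralizes the Frattini subgroup of P. -/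
theorem result {G : Type*} [Group G] [Finite G] {p : ℕ} [Fact p.Prime] (P : Subgroup G) (hP : IsPGroup p ↥P) (H : Subgroup G) (hH : H ≤ Subgroup.normalizer (P : Set G)) (Y : Subgroup G) (hYH : Y ≤ H) (hYc : Y ≤ Subgroup.centralizer ((⁅P, P⁆ : Subgroup G) : Set G)) (hel : Cfsg.IsElementaryAbelian p ⁅P, Y⁆) (NY : Subgroup G) (hNY : NY = (Subgroup.normalClosure ((Y.subgroupOf H : Subgroup ↥H) : Set ↥H)).map H.subtype) : (Cfsg.pResidual p ↥NY).map NY.subtype ≤ Subgroup.centralizer (((frattini ↥P).map P.subtype : Subgroup G) : Set G) := by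
  set Φ : Subgroup G := (frattini ↥P).map P.subtype with hΦ
  set P' : Subgroup G := ⁅P, P⁆ with hP'
  have hP'P : P' ≤ P := by
    rw [hP', Subgroup.commutator_le]
    intro a ha b hb
    exact P.mul_mem (P.mul_mem (P.mul_mem ha hb) (P.inv_mem ha)) (P.inv_mem hb)
  have hP'p : IsPGroup p P' := hP.to_le hP'P
  have hcomm : (commutator ↥P).map P.subtype = P' := by
    rw [commutator_def, Subgroup.map_commutator, ← MonoidHom.range_eq_map, Subgroup.range_subtype]
  -- normalizer of `P` normalizes `P'` and `Φ`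
  have hNP' : ∀ h ∈ Subgroup.normalizer (P : Set G), ∀ c ∈ P', h * c * h⁻¹ ∈ P' := by
    intro h hh c hc
    have h1 : P.map (MulAut.conj h).toMonoidHom = P :=
      Subgroup.mem_normalizer_iff_map_conj_eq.mp hh
    have h2 : (⁅P, P⁆).map (MulAut.conj h).toMonoidHom = ⁅P, P⁆ := by
      rw [Subgroup.map_commutator, h1]
    show h * c * h⁻¹ ∈ ⁅P, P⁆
    rw [← h2]
    exact ⟨c, hc, by simp⟩
  have hNΦ : ∀ h ∈ Subgroup.normalizer (P : Set G), ∀ x ∈ Φ, h * x * h⁻¹ ∈ Φ := by
    intro h hh x hx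
    obtain ⟨x', hx', rfl⟩ := hx
    -- conjugation by `h` as an automorphism of `↥P`
    have hconj : ∀ z : P, h * (z : G) * h⁻¹ ∈ P := fun z =>
      (Subgroup.mem_normalizer_iff.mp hh z).mp z.2
    have hconj' : ∀ z : P, h⁻¹ * (z : G) * h⁻¹⁻¹ ∈ P := fun z =>
      (Subgroup.mem_normalizer_iff.mp (Subgroup.inv_mem _ hh) z).mp z.2
    let e : ↥P ≃* ↥P :=
      { toFun := fun z => ⟨h * z * h⁻¹, hconj z⟩
        invFun := fun z => ⟨h⁻¹ * z * h⁻¹⁻¹, hconj' z⟩
        left_inv := fun z => Subtype.ext (by simp [mul_assoc])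
        right_inv := fun z => Subtype.ext (by simp [mul_assoc])
        map_mul' := fun a b => Subtype.ext (by simp [mul_assoc]) }
    have hchar : (frattini ↥P).Characteristic := frattini_characteristic
    have h1 : e x' ∈ frattini ↥P := by
      have := Subgroup.characteristic_iff_le_comap.mp hchar e
      exact this hx'
    exact ⟨e x', h1, rfl⟩
  -- key: `[Φ, y] ≤ P'` for `y ∈ Y`
  have hkey : ∀ y ∈ Y, ∀ x ∈ Φ, ⁅x, y⁆ ∈ P' := by
    intro y hy
    have hyN : y ∈ Subgroup.normalizer (P : Set G) := hH (hYH hy)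
    have hcP : ∀ x : P, ⁅(x : G), y⁆ ∈ P := by
      intro x
      have h1 : y * (x : G)⁻¹ * y⁻¹ ∈ P :=
        (Subgroup.mem_normalizer_iff.mp hyN _).mp (P.inv_mem x.2)
      have h2 : ⁅(x : G), y⁆ = (x : G) * (y * (x : G)⁻¹ * y⁻¹) := by
        rw [commutatorElement_def]; group
      rw [h2]; exact P.mul_mem x.2 h1
    let φ : ↥P →* Abelianization ↥P := MonoidHom.mk' (fun x => Abelianization.of ⟨⁅(x : G), y⁆, hcP x⟩) (by
      intro a b
      have h1 : (⟨⁅((a * b : P) : G), y⁆, hcP (a * b)⟩ : P) =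
          a * ⟨⁅(b : G), y⁆, hcP b⟩ * a⁻¹ * ⟨⁅(a : G), y⁆, hcP a⟩ := by
        apply Subtype.ext
        simp only [commutatorElement_def, Subgroup.coe_mul, Subgroup.coe_inv]; group
      show Abelianization.of _ = Abelianization.of _ * Abelianization.of _
      rw [h1, map_mul, map_mul, map_mul, map_inv]
      rw [mul_comm (Abelianization.of a), mul_assoc _ (Abelianization.of a), mul_inv_cancel, mul_one,
        mul_comm])
    have hφ : ∀ x : P, φ x = Abelianization.of ⟨⁅(x : G), y⁆, hcP x⟩ := fun _ => rfl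
    have hker : frattini ↥P ≤ φ.ker := by
      apply frattini_le_of_commutator_le_of_pow_mem (p := p)
      · exact Abelianization.commutator_subset_ker φ
      · intro x
        rw [MonoidHom.mem_ker, map_pow, hφ, ← map_pow]
        have h1 : (⟨⁅(x : G), y⁆, hcP x⟩ : P) ^ p = 1 := by
          apply Subtype.ext
          have := hel.2 ⁅(x : G), y⁆ (Subgroup.commutator_mem_commutator x.2 hy)
          simpa using this
        rw [h1, map_one]
    rintro _ ⟨x', hx', rfl⟩
    have h1 := hker hx'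
    rw [MonoidHom.mem_ker, hφ] at h1
    have h2 : (⟨⁅((x' : P) : G), y⁆, hcP x'⟩ : P) ∈ commutator ↥P := by
      rw [← Abelianization.ker_of]; exact h1
    rw [← hcomm]
    exact ⟨_, h2, rfl⟩
  -- conjugates of `Y` under `H` lie in `stab`
  have hstab : ∀ h ∈ H, ∀ y ∈ Y, h * y * h⁻¹ ∈ stab P Φ := by
    intro h hh y hy
    have hhN := hH hh
    have hhN' : h⁻¹ ∈ Subgroup.normalizer (P : Set G) := Subgroup.inv_mem _ hhN
    refine ⟨?_, ?_⟩
    · show h * y * h⁻¹ ∈ Subgroup.centralizer ((P' : Subgroup G) : Set G)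
      rw [Subgroup.mem_centralizer_iff]
      intro c hc
      have h1 := hNP' _ hhN' c hc
      have h2 := (Subgroup.mem_centralizer_iff.mp (hYc hy)) _ h1
      simp only [inv_inv] at h1 h2
      calc c * (h * y * h⁻¹) = h * ((h⁻¹ * c * h) * y) * h⁻¹ := by group
        _ = h * (y * (h⁻¹ * c * h)) * h⁻¹ := by rw [h2]
        _ = h * y * h⁻¹ * c := by group
    · intro x hx
      have h1 := hNΦ _ hhN' x hx
      have h2 := hkey y hy _ h1
      have h3 := hNP' _ hhN _ h2
      have h4 : h * ⁅h⁻¹ * x * h⁻¹⁻¹, y⁆ * h⁻¹ = ⁅x, h * y * h⁻¹⁆ := by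
        simp only [commutatorElement_def]; group
      rw [h4] at h3
      exact h3
  have hNYstab : NY ≤ stab P Φ := by
    rw [hNY, Subgroup.map_le_iff_le_comap]
    unfold Subgroup.normalClosure
    rw [Subgroup.closure_le]
    intro z hz
    obtain ⟨y', hy', hconj⟩ := Group.mem_conjugatesOfSet_iff.mp hz
    obtain ⟨g, rfl⟩ := isConj_iff.mp hconj
    show ((g * y' * g⁻¹ : ↥H) : G) ∈ stab P Φ
    have := hstab g g.2 y' (Subgroup.mem_subgroupOf.mp hy')
    simpa using this
  rw [map_subtype_pResidual, Subgroup.closure_le]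
  rintro a ⟨haNY, hacop⟩
  obtain ⟨ha1, ha2⟩ := hNYstab haNY
  show a ∈ Subgroup.centralizer ((Φ : Subgroup G) : Set G)
  rw [Subgroup.mem_centralizer_iff]
  intro x hx
  have := commute_of_coprime_of_commutator_mem Φ P' a hacop ha2
    (fun c hc => ((Subgroup.mem_centralizer_iff.mp ha1) c hc).symm)
    (fun c hc => orderOf_eq_pow_of_mem hP'p hc) x hx
  exact this.eq.symm

end Cfsg.Agent.S2819
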