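import Cfsg.Statements.S2820
import Mathlib
import Cfsg.Agent.Lib.Helper22_Cores

set_option autoImplicit false
open Cfsg

namespace Cfsg.Agent.S2820

variable {H : Type*} [Group H]

/-- `O^p(B)` for a subgroup `B` of `H`, as a subgroup of `H`. -/
def opOf (p : ℕ) (B : Subgroup H) : Subgroup H :=
  Subgroup.closure {g : H | g ∈ B ∧ (orderOf g).Coprime p}

lemma opOf_eq_map (p : ℕ) (B : Subgroup H) :
    (Cfsg.pResidual p ↥B).map B.subtype = opOf p B := by
  unfold Cfsg.pResidual opOf
  rw [MonoidHom.map_closure]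
  congr 1
  ext g
  constructor
  · rintro ⟨b, hb, rfl⟩
    refine ⟨b.2, ?_⟩
    have : orderOf ((B.subtype b : H)) = orderOf b := Subgroup.orderOf_coe b
    rw [this]; exact hb
  · rintro ⟨hgB, hg⟩
    refine ⟨⟨g, hgB⟩, ?_, rfl⟩
    have : orderOf ((⟨g, hgB⟩ : B) : H) = orderOf (⟨g, hgB⟩ : B) := Subgroup.orderOf_coe _
    change (orderOf (⟨g, hgB⟩ : B)).Coprime p
    rw [← this]; exact hg

lemma opOf_le (p : ℕ) (B : Subgroup H) : opOf p B ≤ B := by
  unfold opOf
  rw [Subgroup.closure_le]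
  exact fun g hg => hg.1

lemma opOf_mono (p : ℕ) {B K : Subgroup H} (h : B ≤ K) : opOf p B ≤ opOf p K := by
  unfold opOf
  apply Subgroup.closure_mono
  exact fun g hg => ⟨h hg.1, hg.2⟩

/-- if conjugation by `x` maps generators of `O^p(B)` into a subgroup `O`, it maps `O^p(B)` into
`O` -/
lemma conj_opOf_le (p : ℕ) (B O : Subgroup H) (x : H)
    (h : ∀ b ∈ B, (orderOf b).Coprime p → x * b * x⁻¹ ∈ O) :
    ∀ g ∈ opOf p B, x * g * x⁻¹ ∈ O := by
  intro g hg
  have : opOf p B ≤ O.comap (MulAut.conj x).toMonoidHom := by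
    unfold opOf
    rw [Subgroup.closure_le]
    intro b hb
    exact h b hb.1 hb.2
  exact this hg

/-- `O^p` is characteristic : normalizers -/
lemma normalizer_le_normalizer_opOf (p : ℕ) (B : Subgroup H) :
    Subgroup.normalizer (B : Set H) ≤ Subgroup.normalizer (opOf p B : Set H) := by
  have key : ∀ x ∈ Subgroup.normalizer (B : Set H), ∀ g ∈ opOf p B, x * g * x⁻¹ ∈ opOf p B := by
    intro x hx
    apply conj_opOf_le
    intro b hb hbo
    apply Subgroup.subset_closure
    refine ⟨(Subgroup.mem_normalizer_iff.mp hx b).mp hb, ?_⟩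
    have : orderOf (x * b * x⁻¹) = orderOf b := by
      have := orderOf_injective (MulAut.conj x).toMonoidHom (MulAut.conj x).injective b
      simpa using this
    rw [this]; exact hbo
  intro x hx
  rw [Subgroup.mem_normalizer_iff]
  intro g
  constructor
  · exact key x hx g
  · intro hg
    have := key x⁻¹ (Subgroup.inv_mem _ hx) _ hg
    simpa [mul_assoc] using this

/-- if `R` is a `p`-group normalizing `O`, the `p'`-elements of `R ⊔ O` lie in `O` -/
lemma mem_of_coprime_of_mem_sup {p : ℕ} [Fact p.Prime] (R O : Subgroup H) (hR : IsPGroup p R)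
    (hRO : R ≤ Subgroup.normalizer (O : Set H)) (g : H) (hg : g ∈ R ⊔ O)
    (hgo : (orderOf g).Coprime p) : g ∈ O := by
  have := Subgroup.normal_subgroupOf_of_le_normalizer hRO
  have := Subgroup.normal_subgroupOf_sup_of_le_normalizer hRO
  let e := QuotientGroup.quotientInfEquivProdNormalizerQuotient R O hRO
  have hQ : IsPGroup p (R ⧸ O.subgroupOf R) := hR.to_quotient _
  have hQ' : IsPGroup p ((R ⊔ O : Subgroup H) ⧸ O.subgroupOf (R ⊔ O)) := hQ.of_equiv e
  let g' : (R ⊔ O : Subgroup H) := ⟨g, hg⟩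
  obtain ⟨k, hk⟩ := hQ' (g' : (R ⊔ O : Subgroup H) ⧸ O.subgroupOf (R ⊔ O))
  have h1 : orderOf (g' : (R ⊔ O : Subgroup H) ⧸ O.subgroupOf (R ⊔ O)) ∣ p ^ k :=
    orderOf_dvd_of_pow_eq_one hk
  have h2 : orderOf (g' : (R ⊔ O : Subgroup H) ⧸ O.subgroupOf (R ⊔ O)) ∣ orderOf g := by
    have : orderOf g' = orderOf g := Subgroup.orderOf_mk g hg
    rw [← this]
    exact orderOf_map_dvd (QuotientGroup.mk' (O.subgroupOf (R ⊔ O))) g'
  have h3 : orderOf (g' : (R ⊔ O : Subgroup H) ⧸ O.subgroupOf (R ⊔ O)) = 1 :=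
    Nat.eq_one_of_dvd_coprimes (Nat.Coprime.pow_right k hgo) h2 h1
  rw [orderOf_eq_one_iff, QuotientGroup.eq_one_iff, Subgroup.mem_subgroupOf] at h3
  exact h3

/-- `O_p(H)` normalizes `O^p(B)` for every subnormal `B`. -/
lemma pCore_le_normalizer_opOf [Finite H] {p : ℕ} [Fact p.Prime] (B : Subgroup H)
    (hB : B.IsSubnormal) :
    Cfsg.pCore p H ≤ Subgroup.normalizer (opOf p B : Set H) := by
  have hQn : (Cfsg.pCore p H).Normal := Subgroup.sSup_normal _ (fun _ h => h.1)
  have hQp : IsPGroup p (Cfsg.pCore p H) :=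
    Sylow.sSup_of_normal _ (fun _ h => h.2) (fun _ h => h.1)
  induction hB with
  | top =>
    have : (⊤ : Subgroup H) ≤ Subgroup.normalizer (opOf p (⊤ : Subgroup H) : Set H) := by
      refine le_trans ?_ (normalizer_le_normalizer_opOf p ⊤)
      rw [Subgroup.normalizer_eq_top]
    exact le_top.trans this
  | step B K hBK hK hBn ih =>
    have hKN : K ≤ Subgroup.normalizer (B : Set H) :=
      (Subgroup.normal_subgroupOf_iff_le_normalizer hBK).mp hBn
    have hKO : K ≤ Subgroup.normalizer (opOf p B : Set H) :=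
      hKN.trans (normalizer_le_normalizer_opOf p B)
    have hOL : opOf p B ≤ opOf p K := opOf_mono p hBK
    have hLK : opOf p K ≤ K := opOf_le p K
    have hRp : IsPGroup p (Cfsg.pCore p H ⊓ opOf p K : Subgroup H) := hQp.to_le inf_le_left
    have hRN : (Cfsg.pCore p H ⊓ opOf p K : Subgroup H) ≤ Subgroup.normalizer (opOf p B : Set H) :=
      inf_le_right.trans (hLK.trans hKO)
    have key : ∀ x ∈ Cfsg.pCore p H, ∀ g ∈ opOf p B, x * g * x⁻¹ ∈ opOf p B := by
      intro x hx
      apply conj_opOf_le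
      intro b hb hbo
      have hbO : b ∈ opOf p B := Subgroup.subset_closure ⟨hb, hbo⟩
      have hbL : b ∈ opOf p K := hOL hbO
      have hc1 : x * b * x⁻¹ * b⁻¹ ∈ Cfsg.pCore p H := by
        have : b * x⁻¹ * b⁻¹ ∈ Cfsg.pCore p H :=
          hQn.conj_mem _ (Subgroup.inv_mem _ hx) b
        have h2 := Subgroup.mul_mem _ hx this
        simpa [mul_assoc] using h2
      have hc2 : x * b * x⁻¹ * b⁻¹ ∈ opOf p K := by
        have : x * b * x⁻¹ ∈ opOf p K := (Subgroup.mem_normalizer_iff.mp (ih hx) b).mp hbL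
        exact Subgroup.mul_mem _ this (Subgroup.inv_mem _ hbL)
      have hmem : x * b * x⁻¹ ∈ (Cfsg.pCore p H ⊓ opOf p K : Subgroup H) ⊔ opOf p B := by
        have : x * b * x⁻¹ = (x * b * x⁻¹ * b⁻¹) * b := by group
        rw [this]
        exact Subgroup.mul_mem_sup ⟨hc1, hc2⟩ hbO
      have hord : orderOf (x * b * x⁻¹) = orderOf b := by
        have := orderOf_injective (MulAut.conj x).toMonoidHom (MulAut.conj x).injective b
        simpa using this
      exact mem_of_coprime_of_mem_sup _ _ hRp hRN _ hmem (by rw [hord]; exact hbo)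
    intro x hx
    rw [Subgroup.mem_normalizer_iff]
    intro g
    constructor
    · exact key x hx g
    · intro hg
      have := key x⁻¹ (Subgroup.inv_mem _ hx) _ hg
      simpa [mul_assoc] using this

theorem result {H : Type*} [Group H] [Finite H] {p : ℕ} [Fact p.Prime] (A B : Subgroup H) (hA : A.IsSubnormal) (hB : B.IsSubnormal) (hAp : IsPGroup p ↥A) (hBres : (Cfsg.pResidual p ↥B).map B.subtype = B) : A ≤ Subgroup.normalizer (B : Set H) ∧ (Cfsg.pResidual p ↥(A ⊔ B)).map (A ⊔ B).subtype = B := by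
  have hAQ : A ≤ Cfsg.pCore p H := Cfsg.Agent.Lib.Helper22_Cores.le_pCore_of_isSubnormal p hA hAp
  have hBB : opOf p B = B := by rw [← opOf_eq_map]; exact hBres
  have hAN : A ≤ Subgroup.normalizer (B : Set H) := by
    have := pCore_le_normalizer_opOf (p := p) B hB
    rw [hBB] at this
    exact hAQ.trans this
  refine ⟨hAN, ?_⟩
  rw [opOf_eq_map]
  apply le_antisymm
  · unfold opOf
    rw [Subgroup.closure_le]
    intro g hg
    exact mem_of_coprime_of_mem_sup A B hAp hAN g hg.1 hg.2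
  · calc B = opOf p B := hBB.symm
      _ ≤ opOf p (A ⊔ B) := opOf_mono p le_sup_right

end Cfsg.Agent.S2820
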