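import Cfsg.Statements.S2823
import Cfsg.Agent.Lib.Helper47_Avg

set_option autoImplicit false
open Cfsg
open Cfsg.Agent.Lib.Helper47_PLocal Cfsg.Agent.Lib.Helper47_PReduced Cfsg.Agent.Lib.Helper47_SubAPI
  Cfsg.Agent.Lib.Helper47_YL Cfsg.Agent.Lib.Helper47_TL Cfsg.Agent.Lib.Helper47_TL2
  Cfsg.Agent.Lib.Helper47_Avg

namespace Cfsg.Agent.S2823

/-- Let H be a finite group, p a prime, T a Sylow p-subgroup and L a subgroup of characteristic p containing T; let Z_L be the subgroup generated by the Ω₁(Z(S)) over the Sylow p-subgroups S of L and O^p(L) the subgroup generated by the elements of L of order prime to p. Then Z_L = Ω₁(Z(L))·[Z_L, O^p(L)] and [Z_L, L] = [Z_L, O^p(L)]. -/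
theorem result {H : Type*} [Group H] [Finite H] {p : ℕ} [Fact p.Prime] (T : Sylow p H) (L : Subgroup H) (hTL : (T : Subgroup H) ≤ L) (hL : Subgroup.centralizer (Cfsg.pCore p ↥L : Set ↥L) ≤ Cfsg.pCore p ↥L) : Cfsg.sylowCenterClosure p L = (Cfsg.omegaOne p (L ⊓ Subgroup.centralizer ((L : Subgroup H) : Set H))) ⊔ ⁅Cfsg.sylowCenterClosure p L, (Cfsg.pResidual p ↥L).map L.subtype⁆ ∧ ⁅Cfsg.sylowCenterClosure p L, L⁆ = ⁅Cfsg.sylowCenterClosure p L, (Cfsg.pResidual p ↥L).map L.subtype⁆ := by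
  set T' : Sylow p ↥L := T.subtype hTL with hT'
  set Z : Subgroup ↥L := sylowCenterJoin p ↥L with hZ
  set Z₀ : Subgroup ↥L := Cfsg.omegaOne p ((T' : Subgroup ↥L) ⊓
    Subgroup.centralizer ((T' : Subgroup ↥L) : Set ↥L)) with hZ₀
  have hZeq : Z = Subgroup.normalClosure (Z₀ : Set ↥L) := sylowCenterJoin_eq_normalClosure T'
  have hZn : Z.Normal := by rw [hZeq]; exact Subgroup.normalClosure_normal
  have hZel : Cfsg.IsElementaryAbelian p Z := isElementaryAbelian_sylowCenterJoin L hL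
  have hZ₀Z : Z₀ ≤ Z := by rw [hZeq]; exact Subgroup.le_normalClosure
  have hZ₀T : Z₀ ≤ Subgroup.centralizer ((T' : Subgroup ↥L) : Set ↥L) :=
    omegaOne_center_le_centralizer _
  obtain ⟨hA, hB⟩ := normalClosure_decomp T' Z hZel Z₀ hZ₀Z hZ₀T hZeq.le
  have hZL : Cfsg.sylowCenterClosure p L = Z.map L.subtype := sylowCenterClosure_eq_map L
  have htop : (⊤ : Subgroup ↥L).map L.subtype = L := by
    rw [← MonoidHom.range_eq_map, Subgroup.range_subtype]
  have hA' := congrArg (Subgroup.map L.subtype) hA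
  have hB' := congrArg (Subgroup.map L.subtype) hB
  rw [Subgroup.map_sup, Subgroup.map_commutator, ← hZL] at hA'
  rw [Subgroup.map_commutator, Subgroup.map_commutator, ← hZL, htop] at hB'
  refine ⟨?_, hB'⟩
  set Ω : Subgroup H := Cfsg.omegaOne p (L ⊓ Subgroup.centralizer ((L : Subgroup H) : Set H)) with hΩ
  have h1 : (Z ⊓ Subgroup.center ↥L).map L.subtype ≤ Ω := by
    rintro _ ⟨y, ⟨hyZ, hyc⟩, rfl⟩
    apply Subgroup.subset_closure
    refine ⟨⟨y.2, ?_⟩, ?_⟩
    · show (y : H) ∈ Subgroup.centralizer ((L : Subgroup H) : Set H)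
      rw [Subgroup.mem_centralizer_iff]
      intro l hl
      have := (Subgroup.mem_center_iff.mp hyc) ⟨l, hl⟩
      exact congrArg Subtype.val this
    · have := hZel.2 y hyZ
      have := congrArg Subtype.val this
      simpa using this
  have h2 : Ω ≤ Cfsg.sylowCenterClosure p L := by
    refine le_trans ?_ (omegaOne_center_le_sylowCenterClosure T L hTL)
    rw [hΩ]
    unfold Cfsg.omegaOne
    rw [Subgroup.closure_le]
    rintro x ⟨⟨hxL, hxC⟩, hxp⟩
    apply Subgroup.subset_closure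
    have hxO : x ∈ Cfsg.pCoreOf p L :=
      (charP_iff L).mp hL ⟨hxL, Subgroup.centralizer_le (pCoreOf_le L) hxC⟩
    exact ⟨⟨pCoreOf_le_sylow T hTL hxO, Subgroup.centralizer_le hTL hxC⟩, hxp⟩
  have h3 : ⁅Cfsg.sylowCenterClosure p L, (Cfsg.pResidual p ↥L).map L.subtype⁆ ≤
      Cfsg.sylowCenterClosure p L := by
    rw [hZL, ← Subgroup.map_commutator]
    exact Subgroup.map_mono (Subgroup.commutator_le_left Z _)
  apply le_antisymm
  · calc Cfsg.sylowCenterClosure p L = _ := hA'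
      _ ≤ _ := sup_le_sup_right h1 _
  · exact sup_le h2 h3

end Cfsg.Agent.S2823
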