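import Cfsg.Statements.S2825
import Cfsg.Agent.Lib.Helper47_YSubn

set_option autoImplicit false
open Cfsg
open Cfsg.Agent.Lib.Helper47_PLocal Cfsg.Agent.Lib.Helper47_SubAPI Cfsg.Agent.Lib.Helper47_PReduced
  Cfsg.Agent.Lib.Helper47_PClosed Cfsg.Agent.Lib.Helper47_YSubn
open scoped commutatorElement

namespace Cfsg.Agent.S2825

/-- Let L be a subnormal subgroup of the finite group H, p a prime, Y_H and Y_L the largest p-reduced normal subgroups. Then Y_H ∩ L = Y_H ∩ Y_L and this subgroup is a p-reduced normal subgroup of L; C_L(Y_L) = C_L(Y_H) = C_L(Y_H ∩ L); and if O^p(H) ≤ L, then [Y_L, L] = 1 if and only if [Y_H, H] = 1. -/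
theorem result {H : Type*} [Group H] [Finite H] {p : ℕ} [Fact p.Prime] (L : Subgroup H) (hL : L.IsSubnormal) : Cfsg.largestPReduced p H ⊓ L = Cfsg.largestPReduced p H ⊓ (Cfsg.largestPReducedOf p L) ∧ Cfsg.IsPReducedNormal p ((Cfsg.largestPReduced p H ⊓ L).subgroupOf L) ∧ L ⊓ Subgroup.centralizer ((Cfsg.largestPReducedOf p L : Subgroup H) : Set H) = L ⊓ Subgroup.centralizer (Cfsg.largestPReduced p H : Set H) ∧ L ⊓ Subgroup.centralizer (Cfsg.largestPReduced p H : Set H) = L ⊓ Subgroup.centralizer ((Cfsg.largestPReduced p H ⊓ L : Subgroup H) : Set H) ∧ (Cfsg.pResidual p H ≤ L → (⁅(Cfsg.largestPReducedOf p L), L⁆ = ⊥ ↔ ⁅Cfsg.largestPReduced p H, (⊤ : Subgroup H)⁆ = ⊥)) := by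
  have hY := isPReducedNormal_largestPReduced p H
  obtain ⟨h1, h2⟩ := pRedIn_inf_of_isSubnormal hY hL
  have h3 := inf_centralizer_largestPReducedOf_of_isSubnormal (p := p) hL
  have hV := pRedIn_largestPReducedOf p L
  have hred := ((isPReducedNormal_iff _).mp hY).2.2
  have htop : Cfsg.pResidual p H ≤ Subgroup.centralizer (Cfsg.largestPReduced p H : Set H) →
      (⊤ : Subgroup H) ≤ Subgroup.centralizer (Cfsg.largestPReduced p H : Set H) := by
    intro h
    apply hred ⊤ inferInstance
    intro d _
    obtain ⟨k, hk⟩ := exists_pow_mem_pResidual (p := p) d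
    exact ⟨k, h hk⟩
  refine ⟨?_, ?_, h3, ?_, ?_⟩
  · apply le_antisymm
    · intro x hx
      exact ⟨hx.1, h1.le_largestPReducedOf hx⟩
    · exact inf_le_inf_left _ hV.1
  · rw [isPReducedNormal_iff_pRedIn, Subgroup.map_subgroupOf_eq_of_le inf_le_right]
    exact h1
  · apply le_antisymm
    · exact inf_le_inf_left _ (Subgroup.centralizer_le (SetLike.coe_subset_coe.mpr inf_le_left))
    · intro x hx
      exact ⟨hx.1, h2 hx⟩
  · intro hO
    constructor
    · intro h
      have h4 : L ≤ Subgroup.centralizer ((Cfsg.largestPReducedOf p L : Subgroup H) : Set H) := by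
        rw [Subgroup.le_centralizer_iff]
        exact Subgroup.commutator_eq_bot_iff_le_centralizer.mp h
      have h5 : L ≤ Subgroup.centralizer (Cfsg.largestPReduced p H : Set H) := by
        intro x hx
        have : x ∈ L ⊓ Subgroup.centralizer (Cfsg.largestPReduced p H : Set H) := by
          rw [← h3]; exact ⟨hx, h4 hx⟩
        exact this.2
      have h6 := htop (hO.trans h5)
      rw [Subgroup.commutator_eq_bot_iff_le_centralizer, Subgroup.le_centralizer_iff]
      exact h6
    · intro h
      have h4 : (⊤ : Subgroup H) ≤ Subgroup.centralizer (Cfsg.largestPReduced p H : Set H) := by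
        rw [Subgroup.le_centralizer_iff]
        exact Subgroup.commutator_eq_bot_iff_le_centralizer.mp h
      have h5 : L ≤ Subgroup.centralizer ((Cfsg.largestPReducedOf p L : Subgroup H) : Set H) := by
        intro x hx
        have : x ∈ L ⊓ Subgroup.centralizer ((Cfsg.largestPReducedOf p L : Subgroup H) : Set H) := by
          rw [h3]; exact ⟨hx, h4 (Subgroup.mem_top x)⟩
        exact this.2
      rw [Subgroup.commutator_eq_bot_iff_le_centralizer, Subgroup.le_centralizer_iff]
      exact h5

end Cfsg.Agent.S2825
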