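import Cfsg.Statements.S2827
import Cfsg.Agent.Lib.Helper47_PClosed

set_option autoImplicit false
open Cfsg

namespace Cfsg.Agent.S2827

open Cfsg.Agent.Lib.Helper47_PLocal Cfsg.Agent.Lib.Helper47_PClosed
open scoped commutatorElement

/-- Let H be a finite p-irreducible group (not p-closed, and O^p(H) lies in every normal subgroup that is not p-closed) and T a Sylow p-subgroup. Then H is generated by the conjugates of T and H = H'·T; O^p(H) ≤ H'; and for every normal subgroup Y of T not contained in O_p(H), O^p(H) = [O^p(H), Y] and O^p(H) is contained in the normal closure of Y in H. -/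
theorem result {H : Type*} [Group H] [Finite H] {p : ℕ} [Fact p.Prime] (hH : Cfsg.IsPIrreducible p H) (T : Sylow p H) : Subgroup.normalClosure ((T : Subgroup H) : Set H) = ⊤ ∧ commutator H ⊔ (T : Subgroup H) = ⊤ ∧ Cfsg.pResidual p H ≤ commutator H ∧ ∀ Y : Subgroup H, Y ≤ (T : Subgroup H) → (T : Subgroup H) ≤ Subgroup.normalizer (Y : Set H) → ¬ Y ≤ Cfsg.pCore p H → ⁅Cfsg.pResidual p H, Y⁆ = Cfsg.pResidual p H ∧ Cfsg.pResidual p H ≤ Subgroup.normalClosure (Y : Set H) := by
  obtain ⟨hncl, hirr⟩ := hH
  -- a normal subgroup containing `T` is everything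
  have key : ∀ K : Subgroup H, K.Normal → (T : Subgroup H) ≤ K → K = ⊤ := by
    intro K hK hTK
    have h1 : ¬ Cfsg.IsPClosed p K := not_isPClosed_of_sylow_le hncl T hTK
    have h2 : Cfsg.pResidual p H ≤ K := hirr K hK h1
    rw [eq_top_iff, ← pResidual_sup_sylow_eq_top T]
    exact sup_le h2 hTK
  have hb : commutator H ⊔ (T : Subgroup H) = ⊤ :=
    key _ (Subgroup.Normal.of_commutator_le _ le_sup_left) le_sup_right
  refine ⟨key _ Subgroup.normalClosure_normal Subgroup.le_normalClosure, hb,
    pResidual_le_of_isPGroup_quotient (isPGroup_quotient_of_sup_eq_top T.isPGroup' hb), ?_⟩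
  intro Y hYT hTY hYO
  have hYp : IsPGroup p Y := T.isPGroup'.to_le hYT
  -- a normal subgroup containing `Y` is not `p`-closed
  have key2 : ∀ K : Subgroup H, K.Normal → Y ≤ K → Cfsg.pResidual p H ≤ K := by
    intro K hK hYK
    apply hirr K hK
    intro hcl
    exact hYO (le_pCore_of_isPClosed hcl hYK hYp)
  refine ⟨?_, key2 _ Subgroup.normalClosure_normal Subgroup.le_normalClosure⟩
  have hTO : (T : Subgroup H) ≤ Subgroup.normalizer ((Cfsg.pResidual p H : Subgroup H) : Set H) := by
    rw [Subgroup.normalizer_eq_top_iff.mpr inferInstance]; exact le_top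
  -- `R = [O^p(H), Y]` is normal in `H`
  have hRn : (⁅Cfsg.pResidual p H, Y⁆ : Subgroup H).Normal := by
    rw [← Subgroup.normalizer_eq_top_iff, eq_top_iff, ← pResidual_sup_sylow_eq_top T]
    exact sup_le (le_normalizer_commutator_left _ _)
      ((le_inf hTO hTY).trans (normalizer_inf_le_normalizer_commutator _ _))
  have hTR : (T : Subgroup H) ≤
      Subgroup.normalizer ((⁅Cfsg.pResidual p H, Y⁆ : Subgroup H) : Set H) := by
    rw [Subgroup.normalizer_eq_top_iff.mpr hRn]; exact le_top
  -- `R Y` is normal in `H`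
  have hRYn : (⁅Cfsg.pResidual p H, Y⁆ ⊔ Y : Subgroup H).Normal := by
    rw [← Subgroup.normalizer_eq_top_iff, eq_top_iff, ← pResidual_sup_sylow_eq_top T]
    refine sup_le ?_ ((le_inf hTR hTY).trans (Subgroup.normalizer_inf_normalizer_le_normalizer_sup _ _))
    apply le_normalizer_of_forall_map_conj_le
    intro g hg
    rw [Subgroup.map_sup]
    refine sup_le ?_ ?_
    · have : (⁅Cfsg.pResidual p H, Y⁆ : Subgroup H).map (MulAut.conj g).toMonoidHom =
          ⁅Cfsg.pResidual p H, Y⁆ := Subgroup.Normal.map_conj_eq _ g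
      rw [this]; exact le_sup_left
    · rintro _ ⟨y, hy, rfl⟩
      have h1 : (MulAut.conj g).toMonoidHom y = ⁅g, y⁆ * y := by
        simp [commutatorElement_def]
      rw [h1]
      exact Subgroup.mul_mem _ (Subgroup.mem_sup_left (Subgroup.commutator_mem_commutator hg hy))
        (Subgroup.mem_sup_right hy)
  have h3 : Cfsg.pResidual p H ≤ ⁅Cfsg.pResidual p H, Y⁆ ⊔ Y := key2 _ hRYn le_sup_right
  exact le_antisymm (Subgroup.commutator_le_left _ _) (pResidual_le_of_le_sup hYp h3)

end Cfsg.Agent.S2827
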