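import Cfsg.Statements.S2828
import Cfsg.Agent.Lib.Helper47_Quot

set_option autoImplicit false
open Cfsg

namespace Cfsg.Agent.S2828

open Cfsg.Agent.Lib.Helper47_PLocal Cfsg.Agent.Lib.Helper47_PClosed Cfsg.Agent.Lib.Helper47_Quot

/-- Let H be a finite group, p a prime and D a normal p-subgroup of H. Then H is p-irreducible if and only if H/D is p-irreducible, and H is strongly p-irreducible if and only if H/D is strongly p-irreducible. -/
theorem result {H : Type*} [Group H] [Finite H] {p : ℕ} [Fact p.Prime] (D : Subgroup H) [D.Normal] (hD : IsPGroup p ↥D) : (Cfsg.IsPIrreducible p H ↔ Cfsg.IsPIrreducible p (H ⧸ D)) ∧ (Cfsg.IsStronglyPIrreducible p H ↔ Cfsg.IsStronglyPIrreducible p (H ⧸ D)) := by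
  have hsurj := QuotientGroup.mk'_surjective D
  -- going down: `O^p(H) ≤ N` gives `O^p(H/D) ≤ N̄`
  have down : ∀ N : Subgroup H, Cfsg.pResidual p H ≤ N →
      Cfsg.pResidual p (H ⧸ D) ≤ N.map (QuotientGroup.mk' D) := fun N h =>
    (pResidual_le_map_of_surjective hsurj).trans (Subgroup.map_mono h)
  -- going up
  have up : ∀ N : Subgroup H, N.Normal →
      Cfsg.pResidual p (H ⧸ D) ≤ N.map (QuotientGroup.mk' D) → Cfsg.pResidual p H ≤ N := by
    intro N hN h
    have h1 : (Cfsg.pResidual p H).map (QuotientGroup.mk' D) ≤ N.map (QuotientGroup.mk' D) :=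
      (map_pResidual_le _).trans h
    have h2 : Cfsg.pResidual p H ≤ (N.map (QuotientGroup.mk' D)).comap (QuotientGroup.mk' D) :=
      Subgroup.map_le_iff_le_comap.mp h1
    rw [QuotientGroup.comap_map_mk', sup_comm] at h2
    exact pResidual_le_of_le_sup hD h2
  have hcl := isPClosed_quotient_iff D hD
  constructor
  · constructor
    · rintro ⟨hncl, hirr⟩
      refine ⟨fun h => hncl (hcl.mp h), ?_⟩
      intro N' hN' hN'c
      have h1 : (N'.comap (QuotientGroup.mk' D)).map (QuotientGroup.mk' D) = N' :=
        Subgroup.map_comap_eq_self_of_surjective hsurj N'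
      have h2 : ¬ Cfsg.IsPClosed p ↥(N'.comap (QuotientGroup.mk' D)) := by
        intro h
        apply hN'c
        have := (isPClosed_map_iff D hD (N'.comap (QuotientGroup.mk' D))).mpr h
        rwa [h1] at this
      have h3 := down _ (hirr _ (hN'.comap _) h2)
      rwa [h1] at h3
    · rintro ⟨hncl, hirr⟩
      refine ⟨fun h => hncl (hcl.mpr h), ?_⟩
      intro N hN hNc
      apply up N hN
      apply hirr _ (hN.map _ hsurj)
      intro h
      exact hNc ((isPClosed_map_iff D hD N).mp h)
  · constructor
    · rintro ⟨hncl, hirr⟩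
      refine ⟨fun h => hncl (hcl.mp h), ?_⟩
      intro N' hN' hN'c
      have h1 : (N'.comap (QuotientGroup.mk' D)).map (QuotientGroup.mk' D) = N' :=
        Subgroup.map_comap_eq_self_of_surjective hsurj N'
      have h2 : ¬ ⁅N'.comap (QuotientGroup.mk' D), (⊤ : Subgroup H)⁆ ≤ Cfsg.pCore p H := by
        intro h
        apply hN'c
        have h4 := Subgroup.map_mono (f := QuotientGroup.mk' D) h
        rw [Subgroup.map_commutator, h1, Subgroup.map_top_of_surjective _ hsurj] at h4
        exact h4.trans (map_pCore_le_pCore_quotient D)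
      have h3 := down _ (hirr _ (hN'.comap _) h2)
      rwa [h1] at h3
    · rintro ⟨hncl, hirr⟩
      refine ⟨fun h => hncl (hcl.mpr h), ?_⟩
      intro N hN hNc
      apply up N hN
      apply hirr _ (hN.map _ hsurj)
      intro h
      apply hNc
      rw [← comap_pCore_quotient D hD, ← Subgroup.map_le_iff_le_comap, Subgroup.map_commutator,
        Subgroup.map_top_of_surjective _ hsurj]
      exact h

end Cfsg.Agent.S2828
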