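import Cfsg.Statements.S2830
import Cfsg.Agent.Lib.Helper47_PClosed

set_option autoImplicit false
open Cfsg

namespace Cfsg.Agent.S2830

open Cfsg.Agent.Lib.Helper47_PLocal Cfsg.Agent.Lib.Helper47_PReduced Cfsg.Agent.Lib.Helper47_SubAPI
open Cfsg.Agent.Lib.Helper47_PClosed

/-- Let H act by conjugation on the elementary abelian p-subgroup V of a finite group G (H ≤ N(V)), with H p-irreducible and O^p(H) not centralizing V. Then C_H(V) is p-closed and C_T(V) ≤ O_p(H) for every p-subgroup T of H. If in addition O_p(H) centralizes V, then C_T(V) = T ∩ O_p(H) for every p-subgroup T of H, and V is p-reduced for H: O_p(H/C_H(V)) = 1. -/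
theorem result {G : Type*} [Group G] [Finite G] {p : ℕ} [Fact p.Prime] (V H : Subgroup G) (hV : Cfsg.IsElementaryAbelian p V) (hHV : H ≤ Subgroup.normalizer (V : Set G)) (hH : Cfsg.IsPIrreducible p ↥H) (hnc : ¬ (Cfsg.pResidual p ↥H).map H.subtype ≤ Subgroup.centralizer (V : Set G)) [hn : ((Subgroup.centralizer (V : Set G)).subgroupOf H).Normal] : Cfsg.IsPClosed p ↥(H ⊓ Subgroup.centralizer (V : Set G)) ∧ (∀ T : Subgroup G, T ≤ H → IsPGroup p ↥T → T ⊓ Subgroup.centralizer (V : Set G) ≤ Cfsg.pCoreOf p H) ∧ (Cfsg.pCoreOf p H ≤ Subgroup.centralizer (V : Set G) → (∀ T : Subgroup G, T ≤ H → IsPGroup p ↥T → T ⊓ Subgroup.centralizer (V : Set G) = T ⊓ Cfsg.pCoreOf p H) ∧ Cfsg.pCore p (↥H ⧸ (Subgroup.centralizer (V : Set G)).subgroupOf H) = ⊥) := by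
  obtain ⟨hncl, hirr⟩ := hH
  -- a normal subgroup of `H` all of whose elements have a `p`-power in `C_H(V)` and which contains
  -- `O^p(H)` cannot exist
  have hres : ¬ Cfsg.pResidual p ↥H ≤ (Subgroup.centralizer (V : Set G)).subgroupOf H := by
    intro h
    apply hnc
    rintro _ ⟨x, hx, rfl⟩
    exact h hx
  -- (a)
  have hCcl : Cfsg.IsPClosed p ↥((Subgroup.centralizer (V : Set G)).subgroupOf H) := by
    by_contra h
    exact hres (hirr _ hn h)
  have ha : Cfsg.IsPClosed p ↥(H ⊓ Subgroup.centralizer (V : Set G)) := by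
    have e := Subgroup.subgroupOfEquivOfLe (inf_le_left : H ⊓ Subgroup.centralizer (V : Set G) ≤ H)
    rw [Subgroup.inf_subgroupOf_left] at e
    exact isPClosed_of_mulEquiv e hCcl
  -- `H` normalizes `H ⊓ C(V)`
  have hHn : H ≤ Subgroup.normalizer ((H ⊓ Subgroup.centralizer (V : Set G) : Subgroup G) : Set G) :=
    (le_inf Subgroup.le_normalizer (hHV.trans (normalizer_le_normalizer_centralizer V))).trans
      (normalizer_inf_le_normalizer_inf _ _)
  have hOO : Cfsg.pCoreOf p (H ⊓ Subgroup.centralizer (V : Set G)) ≤ Cfsg.pCoreOf p H :=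
    Cfsg.Agent.Lib.Helper47_SubAPI.le_pCoreOf ((pCoreOf_le _).trans inf_le_left)
      (le_normalizer_pCoreOf_of_le_normalizer hHn) (isPGroup_pCoreOf _)
  have hb : ∀ T : Subgroup G, T ≤ H → IsPGroup p ↥T →
      T ⊓ Subgroup.centralizer (V : Set G) ≤ Cfsg.pCoreOf p H := by
    intro T hTH hT g hg
    apply hOO
    exact (isPClosed_subgroup_iff _).mp ha g ⟨hTH hg.1, hg.2⟩ (exists_pow_eq_one_of_mem hT hg.1)
  refine ⟨ha, hb, fun hOC => ⟨fun T hTH hT => le_antisymm (le_inf inf_le_left (hb T hTH hT))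
    (le_inf inf_le_left (inf_le_right.trans hOC)), ?_⟩⟩
  -- (c), second part
  rw [pCore_quotient_eq_bot_iff]
  intro D hD hDp
  have hOC' : Cfsg.pCore p ↥H ≤ (Subgroup.centralizer (V : Set G)).subgroupOf H := by
    intro x hx
    rw [Subgroup.mem_subgroupOf]
    exact hOC (Subgroup.mem_map_of_mem _ hx)
  have hDcl : Cfsg.IsPClosed p ↥D := by
    by_contra h
    have h1 : Cfsg.pResidual p ↥H ≤ D := hirr D hD h
    apply hres
    have h0 : Cfsg.pResidual p ↥H = Subgroup.closure {g : ↥H | Nat.Coprime (orderOf g) p} := rfl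
    rw [h0, Subgroup.closure_le]
    intro g hg
    obtain ⟨k, hk⟩ := hDp g (h1 (mem_pResidual_of_coprime hg))
    have hg' : (orderOf g).Coprime p := hg
    refine mem_of_pow_mem_of_pow_mem_of_coprime (a := p ^ k) (b := orderOf g)
      (Nat.Coprime.pow_left k hg'.symm) hk ?_
    rw [pow_orderOf_eq_one]; exact Subgroup.one_mem _
  intro d hd
  obtain ⟨k, hk⟩ := hDp d hd
  have hpos : 0 < orderOf d := orderOf_pos _
  obtain ⟨j, m, hm, hjm⟩ := Nat.exists_eq_pow_mul_and_not_dvd hpos.ne' p (Fact.out : p.Prime).ne_one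
  have hmp : m.Coprime p := ((Nat.Prime.coprime_iff_not_dvd (Fact.out : p.Prime)).mpr hm).symm
  have h1 : (d ^ m) ^ (p ^ j) = 1 := by
    rw [← pow_mul, mul_comm, ← hjm, pow_orderOf_eq_one]
  have h2 : d ^ m ∈ Cfsg.pCore p ↥H := by
    have h3 : Subgroup.zpowers (d ^ m) ≤ D := by
      rw [Subgroup.zpowers_le]; exact D.pow_mem hd m
    exact le_pCore_of_isPClosed hDcl h3 (zpowers_isPGroup_of_pow_eq_one h1)
      (Subgroup.mem_zpowers _)
  exact mem_of_pow_mem_of_pow_mem_of_coprime (Nat.Coprime.pow_left k hmp.symm) hk (hOC' h2)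

end Cfsg.Agent.S2830
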