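import Cfsg.Statements.S2831
import Cfsg.Agent.Lib.Helper47_PLocal

set_option autoImplicit false
open Cfsg

namespace Cfsg.Agent.S2831

open Cfsg.Agent.Lib.Helper47_PLocal
open scoped Pointwise

/-- Let H be a finite group with Sylow p-subgroup T such that H is T-minimal (H is generated by the conjugates of T and T lies in exactly one maximal subgroup of H). Then H is p-irreducible: H is not p-closed and O^p(H) lies in every normal subgroup of H that is not p-closed. -/
theorem result {H : Type*} [Group H] [Finite H] {p : ℕ} [Fact p.Prime] (T : Sylow p H) (hmin : Cfsg.IsMinimalOver (T : Subgroup H)) : Cfsg.IsPIrreducible p H := by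
  obtain ⟨h1, M, ⟨hM, hTM⟩, huniq⟩ := id hmin
  constructor
  · intro hcl
    have hTn : (T : Subgroup H).Normal := hcl T
    have h2 : (T : Subgroup H) = ⊤ := by
      rw [← h1]; exact (Subgroup.normalClosure_eq_self _).symm
    exact hM.1 (top_le_iff.mp (h2 ▸ hTM))
  · intro N hN hNc
    have := hN
    have key : N ⊔ (T : Subgroup H) = ⊤ := by
      by_contra hne
      apply hNc
      have hNM : N ≤ M :=
        le_sup_left.trans (le_coatom_of_isMinimalOver hmin hM hTM le_sup_right hne)
      intro P
      obtain ⟨S, hS⟩ := (P.isPGroup'.map N.subtype).exists_le_sylow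
      obtain ⟨g, hg⟩ := MulAction.exists_smul_eq H T S
      -- `S` is again minimal, with maximal subgroup `M'`
      have hSeq : (S : Subgroup H) = (T : Subgroup H).map (MulAut.conj g).toMonoidHom := by
        rw [← hg, Sylow.coe_subgroup_smul]; rfl
      have hminS : Cfsg.IsMinimalOver (S : Subgroup H) := by
        rw [hSeq]; exact isMinimalOver_map_equiv hmin (MulAut.conj g)
      have hM' : IsCoatom (M.map (MulAut.conj g).toMonoidHom) :=
        ((MulAut.conj g).mapSubgroup.isCoatom_iff M).mpr hM
      have hSM' : (S : Subgroup H) ≤ M.map (MulAut.conj g).toMonoidHom := by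
        rw [hSeq]; exact Subgroup.map_mono hTM
      have hNM' : N ≤ M.map (MulAut.conj g).toMonoidHom := by
        have : N.map (MulAut.conj g).toMonoidHom = N := by
          exact Subgroup.Normal.map_conj_eq N g
        rw [← this]; exact Subgroup.map_mono hNM
      -- `S ⊓ N = P'`
      have hSN : (S : Subgroup H) ⊓ N = (P : Subgroup N).map N.subtype := by
        have h3 : (P : Subgroup N) ≤ ((S : Subgroup H) ⊓ N).subgroupOf N := by
          intro x hx
          rw [Subgroup.mem_subgroupOf]
          exact ⟨hS (Subgroup.mem_map_of_mem _ hx), x.2⟩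
        have h4 : IsPGroup p (((S : Subgroup H) ⊓ N).subgroupOf N) :=
          (S.isPGroup'.to_le inf_le_left).comap_subtype
        have h5 := P.is_maximal' h4 h3
        rw [← h5, Subgroup.map_subgroupOf_eq_of_le inf_le_right]
      have hSnorm : (S : Subgroup H) ≤
          Subgroup.normalizer (((P : Subgroup N).map N.subtype : Subgroup H) : Set H) := by
        rw [← hSN]
        intro s hs
        rw [Subgroup.mem_normalizer_iff]
        intro h
        constructor
        · rintro ⟨hhS, hhN⟩
          exact ⟨Subgroup.mul_mem _ (Subgroup.mul_mem _ hs hhS) (Subgroup.inv_mem _ hs),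
            hN.conj_mem h hhN s⟩
        · rintro ⟨hhS, hhN⟩
          refine ⟨?_, ?_⟩
          · have := Subgroup.mul_mem _ (Subgroup.mul_mem _ (Subgroup.inv_mem _ hs) hhS) hs
            have h8 : s⁻¹ * (s * h * s⁻¹) * s = h := by group
            rw [h8] at this
            exact this
          · have := hN.conj_mem _ hhN s⁻¹
            simpa [mul_assoc] using this
      have hfr := Sylow.normalizer_sup_eq_top P
      have hnt : Subgroup.normalizer (((P : Subgroup N).map N.subtype : Subgroup H) : Set H) = ⊤ := by
        by_contra hne2
        have h6 := le_coatom_of_isMinimalOver hminS hM' hSM' hSnorm hne2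
        have h7 : (⊤ : Subgroup H) ≤ M.map (MulAut.conj g).toMonoidHom := by
          rw [← hfr]; exact sup_le h6 hNM'
        exact hM'.1 (top_le_iff.mp h7)
      have hPn : ((P : Subgroup N).map N.subtype).Normal := Subgroup.normalizer_eq_top_iff.mp hnt
      have : (P : Subgroup N) = ((P : Subgroup N).map N.subtype).comap N.subtype := by
        rw [Subgroup.comap_map_eq_self_of_injective N.subtype_injective]
      rw [this]
      exact hPn.comap _
    exact pResidual_le_of_isPGroup_quotient (isPGroup_quotient_of_sup_eq_top T.isPGroup' key)

end Cfsg.Agent.S2831
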