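import Cfsg.Statements.S2832
import Cfsg.Agent.Lib.Helper47_PLocal

set_option autoImplicit false
open Cfsg

namespace Cfsg.Agent.S2832

open Cfsg.Agent.Lib.Helper47_PLocal

/-- Let H be a finite group with Sylow p-subgroup T such that H is T-minimal (generated by the conjugates of T, with T in exactly one maximal subgroup), and let N be a normal subgroup of H. Then either H/N is a p-group or H/N is minimal over the image of T in the same sense. -/
theorem result {H : Type*} [Group H] [Finite H] {p : ℕ} [Fact p.Prime] (T : Sylow p H) (hmin : Cfsg.IsMinimalOver (T : Subgroup H)) (N : Subgroup H) [N.Normal] : IsPGroup p (H ⧸ N) ∨ Cfsg.IsMinimalOver ((T : Subgroup H).map (QuotientGroup.mk' N)) := by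
  by_cases h : N ⊔ (T : Subgroup H) = ⊤
  · left
    exact isPGroup_quotient_of_sup_eq_top T.isPGroup' h
  · right
    obtain ⟨h1, M, ⟨hM, hTM⟩, huniq⟩ := id hmin
    have hNM : N ⊔ (T : Subgroup H) ≤ M := le_coatom_of_isMinimalOver hmin hM hTM le_sup_right h
    have hN : N ≤ M := le_sup_left.trans hNM
    refine ⟨?_, M.map (QuotientGroup.mk' N),
      ⟨(isCoatom_map_mk'_iff N hN).mpr hM, Subgroup.map_mono hTM⟩, ?_⟩
    · have := Subgroup.map_normalClosure ((T : Subgroup H) : Set H) (QuotientGroup.mk' N)
        (QuotientGroup.mk'_surjective N)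
      rw [Subgroup.coe_map, ← this, h1]
      exact Subgroup.map_top_of_surjective _ (QuotientGroup.mk'_surjective N)
    · rintro X ⟨hX, hTX⟩
      have h2 : IsCoatom (X.comap (QuotientGroup.mk' N)) := (isCoatom_comap_mk'_iff N X).mpr hX
      have h3 := huniq _ ⟨h2, Subgroup.map_le_iff_le_comap.mp hTX⟩
      rw [← h3, Subgroup.map_comap_eq_self_of_surjective (QuotientGroup.mk'_surjective N)]

end Cfsg.Agent.S2832
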