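import Mathlib
import Cfsg.Statements.S2833
-- import your own Cfsg.Agent.* helpers here

set_option autoImplicit false
open Cfsg

namespace Cfsg.Agent.S2833
open scoped commutatorElement

section
variable {G : Type*} [Group G]

/-- if `A` normalizes `V` then `⁅V, A⁆ ≤ V` -/
theorem comm_le_left (V A : Subgroup G) (hA : A ≤ Subgroup.normalizer (V : Set G)) : ⁅V, A⁆ ≤ V := by
  rw [Subgroup.commutator_le]
  intro v hv a ha
  have h1 : a * v⁻¹ * a⁻¹ ∈ V := (Subgroup.mem_normalizer_iff.mp (hA ha) v⁻¹).mp (inv_mem hv)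
  have : ⁅v, a⁆ = v * (a * v⁻¹ * a⁻¹) := by
    rw [commutatorElement_def]; group
  rw [this]
  exact mul_mem hv h1

/-- `V` normalizes `⁅V, A⁆` -/
theorem le_normalizer_comm (V A : Subgroup G) :
    V ≤ Subgroup.normalizer ((⁅V, A⁆ : Subgroup G) : Set G) := by
  rw [Subgroup.commutator_def, Subgroup.le_normalizer_closure_iff]
  rintro v hv _ ⟨v', hv', a, ha, rfl⟩
  have : v * ⁅v', a⁆ * v⁻¹ = ⁅v * v', a⁆ * ⁅v, a⁆⁻¹ := by
    simp only [commutatorElement_def]; group
  rw [this]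
  exact mul_mem (Subgroup.subset_closure ⟨v * v', mul_mem hv hv', a, ha, rfl⟩)
    (inv_mem (Subgroup.subset_closure ⟨v, hv, a, ha, rfl⟩))

/-- a subgroup `U` with `⁅V, A⁆ ≤ U ≤ V` is normalized by `A` -/
theorem le_normalizer_of_comm_le (V A U : Subgroup G) (h1 : ⁅V, A⁆ ≤ U) (h2 : U ≤ V) :
    A ≤ Subgroup.normalizer (U : Set G) := by
  rw [Subgroup.le_normalizer_iff]
  intro a ha u hu
  have : a * u * a⁻¹ = ⁅u, a⁆⁻¹ * u := by
    rw [commutatorElement_def]; group
  rw [this]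
  exact mul_mem (inv_mem (h1 (Subgroup.commutator_mem_commutator (h2 hu) ha))) hu

/-- `⁅V, X ⊔ Y⁆ = ⁅V, X⁆ ⊔ ⁅V, Y⁆` when `X`, `Y` normalize `V` -/
theorem comm_sup (V X Y : Subgroup G) (hX : X ≤ Subgroup.normalizer (V : Set G))
    (hY : Y ≤ Subgroup.normalizer (V : Set G)) : ⁅V, X ⊔ Y⁆ = ⁅V, X⁆ ⊔ ⁅V, Y⁆ := by
  apply le_antisymm
  · set U := ⁅V, X⁆ ⊔ ⁅V, Y⁆ with hU
    have hUV : U ≤ V := sup_le (comm_le_left V X hX) (comm_le_left V Y hY)
    have hXU : X ≤ Subgroup.normalizer (U : Set G) := le_normalizer_of_comm_le V X U le_sup_left hUV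
    have hYU : Y ≤ Subgroup.normalizer (U : Set G) := le_normalizer_of_comm_le V Y U le_sup_right hUV
    -- the subgroup of good elements
    let T : Subgroup G :=
      { carrier := {l | l ∈ Subgroup.normalizer (U : Set G) ∧ ∀ v ∈ V, ⁅v, l⁆ ∈ U}
        one_mem' := ⟨one_mem _, fun v _ => by simp⟩
        mul_mem' := by
          rintro a b ⟨ha1, ha2⟩ ⟨hb1, hb2⟩
          refine ⟨mul_mem ha1 hb1, fun v hv => ?_⟩
          have : ⁅v, a * b⁆ = ⁅v, a⁆ * (a * ⁅v, b⁆ * a⁻¹) := by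
            simp only [commutatorElement_def]; group
          rw [this]
          exact mul_mem (ha2 v hv) ((Subgroup.mem_normalizer_iff.mp ha1 _).mp (hb2 v hv))
        inv_mem' := by
          rintro a ⟨ha1, ha2⟩
          refine ⟨inv_mem ha1, fun v hv => ?_⟩
          have : ⁅v, a⁻¹⁆ = a⁻¹ * ⁅v, a⁆⁻¹ * (a⁻¹)⁻¹ := by
            simp only [commutatorElement_def]; group
          rw [this]
          exact (Subgroup.mem_normalizer_iff.mp (inv_mem ha1) _).mp (inv_mem (ha2 v hv)) }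
    have hXT : X ≤ T := fun x hx =>
      ⟨hXU hx, fun v hv => Subgroup.mem_sup_left (Subgroup.commutator_mem_commutator hv hx)⟩
    have hYT : Y ≤ T := fun y hy =>
      ⟨hYU hy, fun v hv => Subgroup.mem_sup_right (Subgroup.commutator_mem_commutator hv hy)⟩
    rw [Subgroup.commutator_le]
    intro v hv l hl
    exact ((sup_le hXT hYT) hl).2 v hv
  · exact sup_le (Subgroup.commutator_mono le_rfl le_sup_left)
      (Subgroup.commutator_mono le_rfl le_sup_right)

end

/-- Let V be a subgroup of a finite group G normalized by the subgroup L, let X ≤ L and g ∈ L with [V, X, X] = 1 and L generated by X and gXg⁻¹. Put W = [V, L]. Then W = [V, X]·[V, gXg⁻¹], C_W(X) = [V, X], and C_W(L) = [V, X] ∩ [V, gXg⁻¹]. -/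
theorem result {G : Type*} [Group G] [Finite G] (V L : Subgroup G) (hLV : L ≤ Subgroup.normalizer (V : Set G)) (X : Subgroup G) (hX : X ≤ L) (g : G) (hg : g ∈ L) (hq : ⁅⁅V, X⁆, X⁆ = ⊥) (hgen : X ⊔ X.map (MulAut.conj g).toMonoidHom = L) (W : Subgroup G) (hW : W = ⁅V, L⁆) : ⁅V, X⁆ ⊔ ⁅V, X.map (MulAut.conj g).toMonoidHom⁆ = W ∧ W ⊓ Subgroup.centralizer (X : Set G) = ⁅V, X⁆ ∧ W ⊓ Subgroup.centralizer (L : Set G) = ⁅V, X⁆ ⊓ ⁅V, X.map (MulAut.conj g).toMonoidHom⁆ := by
  subst hW
  subst hgen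
  set Y := X.map (MulAut.conj g).toMonoidHom with hY
  have hXV : X ≤ Subgroup.normalizer (V : Set G) := le_trans le_sup_left hLV
  have hYV : Y ≤ Subgroup.normalizer (V : Set G) := le_trans le_sup_right hLV
  have hgV : g ∈ Subgroup.normalizer (V : Set G) := hLV hg
  have hVg : V.map (MulAut.conj g).toMonoidHom = V := Subgroup.mem_normalizer_iff_map_conj_eq.mp hgV
  -- conjugating by g
  have hmap : (⁅V, X⁆).map (MulAut.conj g).toMonoidHom = ⁅V, Y⁆ := by
    rw [Subgroup.map_commutator, hVg]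
  have hqY : ⁅⁅V, Y⁆, Y⁆ = ⊥ := by
    rw [← hmap, hY, ← Subgroup.map_commutator, hq, Subgroup.map_bot]
  have hcX : ⁅V, X⁆ ≤ Subgroup.centralizer (X : Set G) :=
    Subgroup.commutator_eq_bot_iff_le_centralizer.mp hq
  have hcY : ⁅V, Y⁆ ≤ Subgroup.centralizer (Y : Set G) :=
    Subgroup.commutator_eq_bot_iff_le_centralizer.mp hqY
  have h1 : ⁅V, X⁆ ⊔ ⁅V, Y⁆ = ⁅V, X ⊔ Y⁆ := (comm_sup V X Y hXV hYV).symm
  -- product decomposition
  have hnorm : ⁅V, X⁆ ≤ Subgroup.normalizer ((⁅V, Y⁆ : Subgroup G) : Set G) :=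
    le_trans (comm_le_left V X hXV) (le_normalizer_comm V Y)
  have hdecomp : ∀ w ∈ ⁅V, X ⊔ Y⁆, ∃ a ∈ ⁅V, X⁆, ∃ b ∈ ⁅V, Y⁆, w = a * b := by
    intro w hw
    rw [← h1, ← SetLike.mem_coe, Subgroup.coe_mul_of_left_le_normalizer_right _ _ hnorm] at hw
    obtain ⟨a, ha, b, hb, rfl⟩ := hw
    exact ⟨a, ha, b, hb, rfl⟩
  -- centralizer of L
  have hcentL : ∀ z : G, z ∈ Subgroup.centralizer (X : Set G) → z ∈ Subgroup.centralizer (Y : Set G) →
      z ∈ Subgroup.centralizer ((X ⊔ Y : Subgroup G) : Set G) := by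
    intro z hzX hzY
    have h : X ⊔ Y ≤ Subgroup.centralizer ({z} : Set G) := by
      apply sup_le
      · intro x hx
        rw [Subgroup.mem_centralizer_singleton_iff]
        exact (Subgroup.mem_centralizer_iff.mp hzX x hx)
      · intro y hy
        rw [Subgroup.mem_centralizer_singleton_iff]
        exact (Subgroup.mem_centralizer_iff.mp hzY y hy)
    rw [Subgroup.mem_centralizer_iff]
    intro l hl
    have := h hl
    rw [Subgroup.mem_centralizer_singleton_iff] at this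
    exact this
  have hLX : Subgroup.centralizer ((X ⊔ Y : Subgroup G) : Set G) ≤ Subgroup.centralizer (X : Set G) :=
    Subgroup.centralizer_le (by exact_mod_cast (le_sup_left : X ≤ X ⊔ Y))
  have hLY : Subgroup.centralizer ((X ⊔ Y : Subgroup G) : Set G) ≤ Subgroup.centralizer (Y : Set G) :=
    Subgroup.centralizer_le (by exact_mod_cast (le_sup_right : Y ≤ X ⊔ Y))
  -- key: elements of W centralizing L lie in the intersection
  have key : ∀ w ∈ ⁅V, X ⊔ Y⁆, w ∈ Subgroup.centralizer ((X ⊔ Y : Subgroup G) : Set G) →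
      w ∈ ⁅V, X⁆ ⊓ ⁅V, Y⁆ := by
    intro w hw hwL
    obtain ⟨a, ha, b, hb, rfl⟩ := hdecomp w hw
    have haX := hcX ha
    have hbY := hcY hb
    have hbX : b ∈ Subgroup.centralizer (X : Set G) := by
      have : b = a⁻¹ * (a * b) := by group
      rw [this]
      exact mul_mem (inv_mem haX) (hLX hwL)
    have haY : a ∈ Subgroup.centralizer (Y : Set G) := by
      have : a = (a * b) * b⁻¹ := by group
      rw [this]
      exact mul_mem (hLY hwL) (inv_mem hbY)
    have haL := hcentL a haX haY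
    have hbL := hcentL b hbX hbY
    have hga : g * a = a * g := (Subgroup.mem_centralizer_iff.mp haL g hg)
    have hgb : g * b = b * g := (Subgroup.mem_centralizer_iff.mp hbL g hg)
    have haY' : a ∈ ⁅V, Y⁆ := by
      rw [← hmap]
      refine ⟨a, ha, ?_⟩
      change g * a * g⁻¹ = a
      rw [hga]; group
    have hbX' : b ∈ ⁅V, X⁆ := by
      rw [← hmap] at hb
      obtain ⟨c, hc, hcb⟩ := hb
      have hcb' : g * c * g⁻¹ = b := hcb
      have : c = b := by
        have : c = g⁻¹ * (g * c * g⁻¹) * g := by group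
        rw [this, hcb', mul_assoc, ← hgb]; group
      rw [← this]; exact hc
    exact ⟨mul_mem ha hbX', mul_mem haY' hb⟩
  refine ⟨h1, ?_, ?_⟩
  · apply le_antisymm
    · rintro w ⟨hw, hwX⟩
      obtain ⟨a, ha, b, hb, rfl⟩ := hdecomp w hw
      have haX := hcX ha
      have hbY := hcY hb
      have hbX : b ∈ Subgroup.centralizer (X : Set G) := by
        have : b = a⁻¹ * (a * b) := by group
        rw [this]
        exact mul_mem (inv_mem haX) hwX
      have hbL := hcentL b hbX hbY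
      have hbW : b ∈ ⁅V, X ⊔ Y⁆ := by rw [← h1]; exact Subgroup.mem_sup_right hb
      exact mul_mem ha (key b hbW hbL).1
    · exact le_inf (by rw [← h1]; exact le_sup_left) hcX
  · apply le_antisymm
    · rintro w ⟨hw, hwL⟩
      exact key w hw hwL
    · apply le_inf
      · rw [← h1]; exact le_trans inf_le_left le_sup_left
      · intro z hz
        exact hcentL z (hcX hz.1) (hcY hz.2)

end Cfsg.Agent.S2833
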