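import Cfsg.Statements.S2834
import Cfsg.Agent.Lib.Helper48_LLMain
import Cfsg.Agent.Lib.Helper8_LL_F3
import Cfsg.Agent.Lib.Helper48_Trans2

set_option autoImplicit false
open Cfsg

namespace Cfsg.Agent.S2834

open Cfsg.Agent.Lib.Helper48_LLDefs in
/-- The L-Lemma: let H be a finite group with Sylow p-subgroup T such that H is T-minimal (generated by the conjugates of T, T in exactly one maximal subgroup M), and let A ≤ T with A not contained in O_p(H). Then there is a subgroup L of H containing A·O_p(H) such that (a) A·O_p(L) lies in exactly one maximal subgroup L₀ of L, and L₀ = L ∩ gMg⁻¹ for some g ∈ H; (b) L = ⟨A, xAx⁻¹⟩·O_p(L) for every x ∈ L outside L₀. -/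
theorem result {H : Type*} [Group H] [Finite H] {p : ℕ} [Fact p.Prime] (T : Sylow p H) (hmin : Cfsg.IsMinimalOver (T : Subgroup H)) (M : Subgroup H) (hM : IsCoatom M ∧ (T : Subgroup H) ≤ M) (A : Subgroup H) (hAT : A ≤ (T : Subgroup H)) (hA : ¬ A ≤ Cfsg.pCore p H) : ∃ L : Subgroup H, A ⊔ Cfsg.pCore p H ≤ L ∧ ∃ L₀ : Subgroup H, A ⊔ (Cfsg.pCoreOf p L) ≤ L₀ ∧ L₀ < L ∧ (∀ X : Subgroup H, A ⊔ (Cfsg.pCoreOf p L) ≤ X → X < L → X ≤ L₀) ∧ (∃ g : H, L₀ = L ⊓ ((M : Subgroup H).map (MulAut.conj (g : H)).toMonoidHom)) ∧ ∀ x ∈ L, x ∉ L₀ → (A ⊔ ((A : Subgroup H).map (MulAut.conj (x : H)).toMonoidHom)) ⊔ (Cfsg.pCoreOf p L) = L := by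
  obtain ⟨hT, hBp, hB⟩ := Cfsg.Agent.Lib.Helper8_LL_F3.f3 T hmin M hM A hAT hA
  obtain ⟨L, g, hgood⟩ := Cfsg.Agent.Lib.Helper48_LLMain.main M hT (A ⊔ Cfsg.pCore p H) hBp hB
  obtain ⟨h1, h2, h3, h4⟩ := Cfsg.Agent.Lib.Helper48_LLMain.concl M _ L g hBp hgood
  have hBL : A ⊔ Cfsg.pCore p H ≤ L := hgood.1
  -- `O_p(H) ≤ O_p(L)`
  have hOO : Cfsg.pCore p H ≤ Cfsg.pCoreOf p L := by
    have := Cfsg.Agent.Lib.Helper48_Trans2.pCore_inf_le_pCoreOf (p := p) (H := H) L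
    rwa [inf_eq_left.mpr (le_sup_right.trans hBL)] at this
  have hsup : (A ⊔ Cfsg.pCore p H) ⊔ Cfsg.pCoreOf p L = A ⊔ Cfsg.pCoreOf p L := by
    rw [sup_assoc, sup_eq_right.mpr hOO]
  rw [hsup] at h1 h3
  refine ⟨L, hBL, L ⊓ cj g M, h1, h2, h3, ⟨g, rfl⟩, ?_⟩
  intro x hxL hx
  have h5 := h4 x hxL hx
  have hcj : cj x (A ⊔ Cfsg.pCore p H) = cj x A ⊔ Cfsg.pCore p H := by
    rw [cj_sup]
    congr 1
    have hn : (Cfsg.pCore p H).Normal := Cfsg.Agent.Lib.Helper1_Cores.pCore_normal p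
    ext y
    rw [mem_cj]
    constructor
    · intro hy
      have := hn.conj_mem _ hy x
      simpa [mul_assoc] using this
    · intro hy
      have := hn.conj_mem _ hy x⁻¹
      simpa [mul_assoc] using this
  rw [hcj] at h5
  have : (A ⊔ cj x A) ⊔ Cfsg.pCoreOf p L = (A ⊔ Cfsg.pCore p H ⊔ (cj x A ⊔ Cfsg.pCore p H)) ⊔ Cfsg.pCoreOf p L := by
    apply le_antisymm
    · exact sup_le (sup_le (le_sup_left.trans (le_sup_left.trans le_sup_left))
        (le_sup_left.trans (le_sup_right.trans le_sup_left))) le_sup_right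
    · refine sup_le (sup_le (sup_le (le_sup_left.trans le_sup_left) (hOO.trans le_sup_right))
        (sup_le (le_sup_right.trans le_sup_left) (hOO.trans le_sup_right))) le_sup_right
  exact this.trans h5

end Cfsg.Agent.S2834
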