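import Mathlib
import Cfsg.Statements.S2835
import Cfsg.Agent.Lib.Helper53_Conj
import Cfsg.Agent.Lib.Helper53_PGroup

set_option autoImplicit false
open Cfsg

namespace Cfsg.Agent.S2835

open Cfsg.Agent.Lib.Helper53_Conj Cfsg.Agent.Lib.Helper53_PGroup

/-- Let L be a finite group, L₀ a maximal subgroup, T a Sylow p-subgroup of L₀ and Y ≤ T, and suppose L is Y-minimal (generated by the conjugates of Y, with Y in exactly one maximal subgroup, necessarily L₀). Then N_L(T) ≤ L₀, O_p(L) ≤ L₀ and T is a Sylow p-subgroup of L; N_L(L₀) = L₀; L = ⟨Y, gYg⁻¹⟩ for each g ∈ L outside L₀; and if Y is abelian then Y ∩ gYg⁻¹ = C_Y(L) for each such g. -/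
theorem result {L : Type*} [Group L] [Finite L] {p : ℕ} [Fact p.Prime] (L₀ : Subgroup L) (hL₀ : IsCoatom L₀) (T : Sylow p ↥L₀) (Y : Subgroup L) (hYT : Y ≤ (T : Subgroup ↥L₀).map L₀.subtype) (hmin : Cfsg.IsMinimalOver Y) : Subgroup.normalizer (((T : Subgroup ↥L₀).map L₀.subtype : Subgroup L) : Set L) ≤ L₀ ∧ Cfsg.pCore p L ≤ L₀ ∧ (∃ P : Sylow p L, (P : Subgroup L) = (T : Subgroup ↥L₀).map L₀.subtype) ∧ Subgroup.normalizer (L₀ : Set L) = L₀ ∧ (∀ g : L, g ∉ L₀ → Y ⊔ Y.map (MulAut.conj g).toMonoidHom = ⊤) ∧ (IsMulCommutative ↥Y → ∀ g : L, g ∉ L₀ → Y ⊓ Y.map (MulAut.conj g).toMonoidHom = Y ⊓ Subgroup.center L) := by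
  obtain ⟨hncl, M, ⟨hMco, hYM⟩, hMuniq⟩ := hmin
  set T' : Subgroup L := (T : Subgroup ↥L₀).map L₀.subtype with hT'
  have hT'L₀ : T' ≤ L₀ := by
    rintro x ⟨y, -, rfl⟩
    exact y.2
  have hYL₀ : Y ≤ L₀ := hYT.trans hT'L₀
  have hML₀ : M = L₀ := (hMuniq L₀ ⟨hL₀, hYL₀⟩).symm
  -- key: any subgroup containing Y is ⊤ or inside L₀
  have key : ∀ H : Subgroup L, Y ≤ H → H = ⊤ ∨ H ≤ L₀ := by
    intro H hYH
    rcases eq_top_or_exists_le_coatom H with h | ⟨K, hK, hHK⟩
    · exact Or.inl h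
    · right
      have : K = M := hMuniq K ⟨hK, hYH.trans hHK⟩
      rw [this, hML₀] at hHK
      exact hHK
  -- a normal subgroup containing Y is ⊤
  have hnormal_top : ∀ H : Subgroup L, H.Normal → Y ≤ H → H = ⊤ := by
    intro H hH hYH
    have : Subgroup.normalClosure (Y : Set L) ≤ H := Subgroup.normalClosure_le_normal hYH
    rw [hncl] at this
    exact top_le_iff.mp this
  have hL₀top : L₀ ≠ ⊤ := hL₀.1
  -- part 4
  have h4 : Subgroup.normalizer (L₀ : Set L) = L₀ := by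
    rcases hL₀.2 (Subgroup.normalizer (L₀ : Set L)) |> fun h => (lt_or_eq_of_le (Subgroup.le_normalizer (H := L₀))).imp h id with h | h
    · exfalso
      have hn : L₀.Normal := Subgroup.normalizer_eq_top_iff.mp h
      exact hL₀top (hnormal_top L₀ hn hYL₀)
    · exact h.symm
  -- T' is a p-group
  have hT'p : IsPGroup p ↥T' := T.2.map L₀.subtype
  -- part 1
  have h1 : Subgroup.normalizer (T' : Set L) ≤ L₀ := by
    rcases key (Subgroup.normalizer (T' : Set L)) (hYT.trans Subgroup.le_normalizer) with h | h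
    · exfalso
      have hn : T'.Normal := Subgroup.normalizer_eq_top_iff.mp h
      have : T' = ⊤ := hnormal_top T' hn hYT
      apply hL₀top
      rw [this] at hT'L₀
      exact top_le_iff.mp hT'L₀
    · exact h
  -- part 3
  have h3 : ∃ P : Sylow p L, (P : Subgroup L) = T' := by
    obtain ⟨P, hP⟩ := hT'p.exists_le_sylow
    refine ⟨P, ?_⟩
    by_contra hne
    have hlt : T' < (P : Subgroup L) := lt_of_le_of_ne hP (Ne.symm hne)
    obtain ⟨s, hsP, hsN, hsT⟩ := exists_mem_normalizer_not_mem P.2 hlt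
    -- Q := P ⊓ N(T') ≤ L₀, p-group containing T'
    set Q : Subgroup L := (P : Subgroup L) ⊓ Subgroup.normalizer (T' : Set L) with hQ
    have hQp : IsPGroup p ↥Q := P.2.to_le inf_le_left
    have hQL₀ : Q ≤ L₀ := inf_le_right.trans h1
    have hT'Q : T' ≤ Q := le_inf hP Subgroup.le_normalizer
    have hQ'p : IsPGroup p ↥(Q.subgroupOf L₀) := by
      have := hQp.comap_of_injective (L₀.subtype) (Subgroup.subtype_injective _)
      exact this
    have hTQ' : (T : Subgroup ↥L₀) ≤ Q.subgroupOf L₀ := by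
      intro x hx
      rw [Subgroup.mem_subgroupOf]
      exact hT'Q ⟨x, hx, rfl⟩
    have heq : Q.subgroupOf L₀ = (T : Subgroup ↥L₀) := T.is_maximal' hQ'p hTQ'
    apply hsT
    have hsQ : s ∈ Q := ⟨hsP, hsN⟩
    have hsL₀ : s ∈ L₀ := hQL₀ hsQ
    have : (⟨s, hsL₀⟩ : ↥L₀) ∈ Q.subgroupOf L₀ := by
      rw [Subgroup.mem_subgroupOf]; exact hsQ
    rw [heq] at this
    exact ⟨⟨s, hsL₀⟩, this, rfl⟩
  -- part 2
  have h2 : Cfsg.pCore p L ≤ L₀ := by
    obtain ⟨P, hP⟩ := h3
    unfold Cfsg.pCore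
    apply sSup_le
    rintro N ⟨hN, hNp⟩
    have := hN
    have : N ≤ (P : Subgroup L) := hNp.le_sylow_of_normal P
    rw [hP] at this
    exact this.trans hT'L₀
  -- part 5
  have h5 : ∀ g : L, g ∉ L₀ → Y ⊔ Y.map (MulAut.conj g).toMonoidHom = ⊤ := by
    intro g hg
    rcases key (Y ⊔ Y.map (MulAut.conj g).toMonoidHom) le_sup_left with h | h
    · exact h
    · exfalso
      have hYg : cj g Y ≤ L₀ := le_sup_right.trans h
      have hY2 : Y ≤ cj g⁻¹ L₀ := by
        rw [← cj_le_iff_le_cj_inv]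
        exact hYg
      have hco : IsCoatom (cj g⁻¹ L₀) := by
        unfold cj
        exact (OrderIso.isCoatom_iff (MulEquiv.mapSubgroup (MulAut.conj g⁻¹)) L₀).mpr hL₀
      have h6 : cj g⁻¹ L₀ = L₀ := by
        rw [hMuniq _ ⟨hco, hY2⟩, hML₀]
      have h7 : g⁻¹ ∈ Subgroup.normalizer (L₀ : Set L) := cj_eq_self_iff.mp h6
      rw [h4] at h7
      exact hg (by simpa using L₀.inv_mem h7)
  refine ⟨h1, h2, h3, h4, h5, ?_⟩
  -- part 6
  intro hcomm g hg
  apply le_antisymm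
  · intro x hx
    obtain ⟨hxY, hxYg⟩ := hx
    refine ⟨hxY, ?_⟩
    change x ∈ Subgroup.center L
    -- x centralizes Y and Y^g
    have hcY : Y ≤ Subgroup.centralizer ({x} : Set L) := by
      intro y hy
      rw [Subgroup.mem_centralizer_iff]
      intro z hz
      rw [Set.mem_singleton_iff] at hz
      subst hz
      have := hcomm.is_comm.comm (⟨z, hxY⟩ : ↥Y) ⟨y, hy⟩
      exact congrArg Subtype.val this
    have hcYg : Y.map (MulAut.conj g).toMonoidHom ≤ Subgroup.centralizer ({x} : Set L) := by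
      obtain ⟨x0, hx0, hx0eq⟩ := hxYg
      rintro y ⟨y0, hy0, rfl⟩
      rw [Subgroup.mem_centralizer_iff]
      intro z hz
      rw [Set.mem_singleton_iff] at hz
      subst hz
      have := hcomm.is_comm.comm (⟨x0, hx0⟩ : ↥Y) ⟨y0, hy0⟩
      have h8 : x0 * y0 = y0 * x0 := congrArg Subtype.val this
      rw [← hx0eq]
      simp only [MulEquiv.coe_toMonoidHom, MulAut.conj_apply]
      calc g * x0 * g⁻¹ * (g * y0 * g⁻¹) = g * (x0 * y0) * g⁻¹ := by group
        _ = g * (y0 * x0) * g⁻¹ := by rw [h8]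
        _ = g * y0 * g⁻¹ * (g * x0 * g⁻¹) := by group
    have htop : Subgroup.centralizer ({x} : Set L) = ⊤ := by
      apply top_le_iff.mp
      rw [← h5 g hg]
      exact sup_le hcY hcYg
    rw [Subgroup.mem_center_iff]
    intro z
    have hz : z ∈ Subgroup.centralizer ({x} : Set L) := by rw [htop]; trivial
    rw [Subgroup.mem_centralizer_iff] at hz
    exact (hz x rfl).symm
  · intro x hx
    obtain ⟨hxY, hxZ⟩ := hx
    replace hxZ : x ∈ Subgroup.center L := hxZ
    refine ⟨hxY, x, hxY, ?_⟩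
    simp only [MulEquiv.coe_toMonoidHom, MulAut.conj_apply]
    rw [Subgroup.mem_center_iff] at hxZ
    rw [hxZ g]
    group

end Cfsg.Agent.S2835
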