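import Cfsg.Statements.S2836
import Cfsg.Agent.Lib.Helper47_YMin

set_option autoImplicit false
open Cfsg
open Cfsg.Agent.Lib.Helper47_PLocal Cfsg.Agent.Lib.Helper47_SubAPI Cfsg.Agent.Lib.Helper47_Conj
  Cfsg.Agent.Lib.Helper47_PClosed Cfsg.Agent.Lib.Helper47_YL Cfsg.Agent.Lib.Helper47_TL
  Cfsg.Agent.Lib.Helper47_YMin

namespace Cfsg.Agent.S2836

/-- Let L be a finite group, L₀ a maximal subgroup, T a Sylow p-subgroup of L₀, Y ≤ T, and suppose L is Y-minimal. Let D be the intersection of the conjugates of L₀ (the core of L₀). Then D contains O_p(L) and D/O_p(L) is the Frattini subgroup of L/O_p(L), so D is p-closed; and every normal subgroup N of L contained in L₀ is p-closed with N/O_p(N) a nilpotent group of order prime to p. -/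
theorem result {L : Type*} [Group L] [Finite L] {p : ℕ} [Fact p.Prime] (L₀ : Subgroup L) (hL₀ : IsCoatom L₀) (T : Sylow p ↥L₀) (Y : Subgroup L) (hYT : Y ≤ (T : Subgroup ↥L₀).map L₀.subtype) (hmin : Cfsg.IsMinimalOver Y) : (Cfsg.pCore p L ≤ L₀.normalCore ∧ (L₀.normalCore).map (QuotientGroup.mk' (Cfsg.pCore p L)) = frattini (L ⧸ Cfsg.pCore p L) ∧ Cfsg.IsPClosed p ↥(L₀.normalCore)) ∧ ∀ (N : Subgroup L) [N.Normal], N ≤ L₀ → Cfsg.IsPClosed p ↥N ∧ Group.IsNilpotent (↥N ⧸ Cfsg.pCore p ↥N) ∧ (Nat.card (↥N ⧸ Cfsg.pCore p ↥N)).Coprime p := by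
  set Q : Subgroup L := Cfsg.pCore p L with hQ
  set D : Subgroup L := L₀.normalCore with hD
  set T' : Subgroup L := (T : Subgroup ↥L₀).map L₀.subtype with hT'
  have hT'L₀ : T' ≤ L₀ := Subgroup.map_subtype_le _
  have hT'p : IsPGroup p T' := T.isPGroup'.map _
  have hYL₀ : Y ≤ L₀ := hYT.trans hT'L₀
  have hYp : IsPGroup p Y := hT'p.to_le hYT
  have hQp : IsPGroup p Q := pCore_isPGroup p L
  have hDL₀ : D ≤ L₀ := Subgroup.normalCore_le L₀
  have hL₀top : L₀ ≠ ⊤ := hL₀.1
  -- Fact A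
  have hA : ∀ X : Subgroup L, Y ≤ X → X ≠ ⊤ → X ≤ L₀ := fun X hYX hX =>
    le_coatom_of_isMinimalOver hmin hL₀ hYL₀ hYX hX
  -- Step 1: `O_p(L) ≤ D`
  have hQD : Q ≤ D := by
    rw [hD, Subgroup.normal_le_normalCore]
    have hX : Q ⊔ Y ≠ ⊤ := by
      intro htop
      have hLp : IsPGroup p L := by
        have h1 : IsPGroup p (Q ⊔ Y : Subgroup L) :=
          IsPGroup.to_sup_of_normal_left hQp hYp
        rw [htop] at h1
        exact h1.of_equiv Subgroup.topEquiv
      have hnil : Group.IsNilpotent L := hLp.isNilpotent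
      have hnc : NormalizerCondition L := Group.normalizerCondition_of_isNilpotent
      have h2 : L₀ < Subgroup.normalizer (L₀ : Set L) := hnc L₀ (lt_top_iff_ne_top.mpr hL₀top)
      have h3 : Subgroup.normalizer (L₀ : Set L) = ⊤ := hL₀.2 _ h2
      have h4 : L₀.Normal := Subgroup.normalizer_eq_top_iff.mp h3
      have h5 : Subgroup.normalClosure (Y : Set L) ≤ L₀ := Subgroup.normalClosure_le_normal hYL₀
      rw [hmin.1] at h5
      exact hL₀top (top_le_iff.mp h5)
    exact le_sup_left.trans (hA _ le_sup_right hX)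
  have hQL₀ : Q ≤ L₀ := hQD.trans hDL₀
  -- Step 2: Sylow of `D`
  have hL₀D : L₀ ≤ Subgroup.normalizer (D : Set L) := by
    rw [Subgroup.normalizer_eq_top_iff.mpr (Subgroup.normalCore_normal L₀)]; exact le_top
  obtain ⟨P, hP⟩ := exists_sylow_eq_inf_subgroupOf_of_le L₀ T D hDL₀ hL₀D
  have hPmap : (P : Subgroup ↥D).map D.subtype = T' ⊓ D := by
    rw [hP, Subgroup.map_subgroupOf_eq_of_le inf_le_right]
  -- Step 3: Frattini
  have hfr := Sylow.normalizer_sup_eq_top P
  rw [hPmap] at hfr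
  have hYN : Y ≤ Subgroup.normalizer ((T' ⊓ D : Subgroup L) : Set L) := by
    refine hYT.trans ?_
    refine (le_inf Subgroup.le_normalizer ?_).trans (normalizer_inf_le_normalizer_inf _ _)
    rw [Subgroup.normalizer_eq_top_iff.mpr (Subgroup.normalCore_normal L₀)]; exact le_top
  have hNtop : Subgroup.normalizer ((T' ⊓ D : Subgroup L) : Set L) = ⊤ := by
    by_contra hne
    have h1 := hA _ hYN hne
    have h2 : (⊤ : Subgroup L) ≤ L₀ := hfr ▸ sup_le h1 hDL₀
    exact hL₀top (top_le_iff.mp h2)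
  have hT₀n : (T' ⊓ D).Normal := Subgroup.normalizer_eq_top_iff.mp hNtop
  have hT₀Q : T' ⊓ D ≤ Q := le_pCore hT₀n (hT'p.to_le inf_le_left)
  have hQT₀ : Q = T' ⊓ D := by
    apply le_antisymm _ hT₀Q
    have h1 : IsPGroup p (Q.subgroupOf D) := hQp.comap_subtype
    have h2 : (P : Subgroup ↥D) ≤ Q.subgroupOf D := by
      rw [hP]; exact Subgroup.comap_mono hT₀Q
    have h3 := P.is_maximal' h1 h2
    intro x hx
    have hx' : (⟨x, hQD hx⟩ : ↥D) ∈ Q.subgroupOf D := Subgroup.mem_subgroupOf.mpr hx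
    rw [h3, hP] at hx'
    exact Subgroup.mem_subgroupOf.mp hx'
  have hPQ : (P : Subgroup ↥D) = Q.subgroupOf D := by rw [hP, ← hQT₀]
  -- (3) `D` is `p`-closed
  have hDclosed : Cfsg.IsPClosed p ↥D := by
    apply isPClosed_of_normal_sylow P
    rw [hPQ]
    infer_instance
  -- p-elements of `D` lie in `Q`
  have hpelt : ∀ g ∈ D, (∃ k : ℕ, g ^ (p ^ k) = 1) → g ∈ Q := by
    intro g hg hk
    have hDn : D.Normal := Subgroup.normalCore_normal L₀
    exact pCoreOf_le_pCore_of_normal D ((isPClosed_subgroup_iff D).mp hDclosed g hg hk)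
  -- `Q` has index prime to `p` in `D`
  have hQidx : ¬ p ∣ Q.relIndex D := by
    have := P.not_dvd_index
    rwa [hPQ] at this
  -- (2)
  have h2 : D.map (QuotientGroup.mk' Q) = frattini (L ⧸ Q) := by
    apply le_antisymm
    · unfold frattini Order.radical
      refine le_iInf₂ fun Mb hMb => ?_
      have hMb' : IsCoatom Mb := hMb
      set M : Subgroup L := Mb.comap (QuotientGroup.mk' Q) with hM
      have hMc : IsCoatom M := (isCoatom_comap_mk'_iff Q Mb).mpr hMb'
      have hQM : Q ≤ M := QuotientGroup.le_comap_mk' Q Mb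
      have hDM : D ≤ M := by
        by_contra hDM
        have hsup : M ⊔ D = ⊤ := hMc.2 _ (lt_of_le_of_ne le_sup_left
          (fun h => hDM (h ▸ le_sup_right)))
        have hDn : D.Normal := Subgroup.normalCore_normal L₀
        have hidx : ¬ p ∣ M.index := by
          have h1 := Cfsg.Agent.Lib.Helper32_Sylow.relIndex_inf_of_normal M D
          rw [hsup, Subgroup.relIndex_top_right] at h1
          rw [← h1]
          intro h
          exact hQidx (h.trans (Subgroup.relIndex_dvd_of_le_left D (le_inf hQM hQD)))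
        obtain ⟨g, hg⟩ := exists_le_map_conj_of_not_dvd_index hidx hYp
        have hMg : IsCoatom (M.map (MulAut.conj g).toMonoidHom) :=
          ((MulAut.conj g).mapSubgroup.isCoatom_iff M).mpr hMc
        have h3 := hmin.2.unique ⟨hMg, hg⟩ ⟨hL₀, hYL₀⟩
        have h4 : D ≤ M.map (MulAut.conj g).toMonoidHom := h3 ▸ hDL₀
        have h5 : D.map (MulAut.conj g⁻¹).toMonoidHom = D :=
          mem_normalizer_iff_map_conj_eq'.mp
            (by rw [Subgroup.normalizer_eq_top_iff.mpr hDn]; exact Subgroup.mem_top _)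
        have h6 : D.map (MulAut.conj g⁻¹).toMonoidHom ≤ M :=
          (map_conj_le_iff g⁻¹ D M).mpr (by rwa [inv_inv])
        rw [h5] at h6
        exact hDM h6
      rw [Subgroup.map_le_iff_le_comap]
      exact hDM
    · have hfn : (frattini (L ⧸ Q)).Normal := inferInstance
      have h1 : (frattini (L ⧸ Q)).comap (QuotientGroup.mk' Q) ≤ L₀ := by
        have hc : IsCoatom (L₀.map (QuotientGroup.mk' Q)) := (isCoatom_map_mk'_iff Q hQL₀).mpr hL₀
        have := Subgroup.comap_mono (f := QuotientGroup.mk' Q) (frattini_le_coatom hc)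
        rwa [QuotientGroup.comap_map_mk', sup_eq_right.mpr hQL₀] at this
      have h2 : (frattini (L ⧸ Q)).comap (QuotientGroup.mk' Q) ≤ D :=
        Subgroup.normal_le_normalCore.mpr h1
      have h3 := Subgroup.map_mono (f := QuotientGroup.mk' Q) h2
      rwa [Subgroup.map_comap_eq_self_of_surjective (QuotientGroup.mk'_surjective Q)] at h3
  refine ⟨⟨hQD, h2, hDclosed⟩, ?_⟩
  intro N hNn hNL₀
  have hND : N ≤ D := Subgroup.normal_le_normalCore.mpr hNL₀
  have hNQ : N ⊓ Q ≤ Cfsg.pCoreOf p N := by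
    apply Cfsg.Agent.Lib.Helper47_SubAPI.le_pCoreOf inf_le_left _ (hQp.to_le inf_le_right)
    have : (N ⊓ Q).Normal := inferInstance
    rw [Subgroup.normalizer_eq_top_iff.mpr this]; exact le_top
  have hpN : ∀ g ∈ N, (∃ k : ℕ, g ^ (p ^ k) = 1) → g ∈ Cfsg.pCoreOf p N := fun g hg hk =>
    hNQ ⟨hg, hpelt g (hND hg) hk⟩
  have hNclosed : Cfsg.IsPClosed p ↥N := (isPClosed_subgroup_iff N).mpr hpN
  have hcoreN : Cfsg.pCore p ↥N = Q.subgroupOf N := by
    apply le_antisymm
    · intro x hx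
      exact Subgroup.mem_subgroupOf.mpr
        (pCoreOf_le_pCore_of_normal N (Subgroup.mem_map_of_mem N.subtype hx))
    · intro x hx
      have h1 : (x : L) ∈ Cfsg.pCoreOf p N := hNQ ⟨x.2, Subgroup.mem_subgroupOf.mp hx⟩
      obtain ⟨y, hy, hyx⟩ := h1
      have : y = x := Subtype.ext hyx
      exact this ▸ hy
  refine ⟨hNclosed, ?_, ?_⟩
  · -- nilpotent
    have hmem : ∀ n : ↥N, ((QuotientGroup.mk' Q).comp N.subtype) n ∈ frattini (L ⧸ Q) := fun n =>
      h2 ▸ Subgroup.mem_map_of_mem _ (hND n.2)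
    let φ : ↥N →* ↥(frattini (L ⧸ Q)) :=
      ((QuotientGroup.mk' Q).comp N.subtype).codRestrict _ hmem
    have hker : φ.ker = Cfsg.pCore p ↥N := by
      rw [hcoreN]
      ext x
      rw [MonoidHom.mem_ker, Subgroup.mem_subgroupOf]
      constructor
      · intro h
        have h1 := congrArg Subtype.val h
        exact (QuotientGroup.eq_one_iff _).mp h1
      · intro h
        apply Subtype.ext
        exact (QuotientGroup.eq_one_iff _).mpr h
    let ψ : ↥N ⧸ Cfsg.pCore p ↥N →* ↥(frattini (L ⧸ Q)) :=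
      QuotientGroup.lift _ φ hker.ge
    have hψ : ψ.ker = ⊥ := by
      rw [QuotientGroup.ker_lift, hker, QuotientGroup.map_mk'_self]
    have hfn : Group.IsNilpotent ↥(frattini (L ⧸ Q)) := frattini_nilpotent
    exact Subgroup.isNilpotent_of_ker_le_center ψ (by rw [hψ]; exact bot_le)
  · -- coprime
    rw [Nat.coprime_comm, Nat.Prime.coprime_iff_not_dvd Fact.out]
    intro hdvd
    obtain ⟨xb, hxb⟩ := exists_prime_orderOf_dvd_card' p hdvd
    obtain ⟨n, rfl⟩ := QuotientGroup.mk'_surjective _ xb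
    have h1 : (QuotientGroup.mk' (Cfsg.pCore p ↥N) n) ^ p = 1 := by
      have := pow_orderOf_eq_one (QuotientGroup.mk' (Cfsg.pCore p ↥N) n)
      rwa [hxb] at this
    rw [← map_pow, QuotientGroup.mk'_apply, QuotientGroup.eq_one_iff] at h1
    obtain ⟨k, hk⟩ := (pCore_isPGroup p ↥N) ⟨n ^ p, h1⟩
    have hk' : (n ^ p) ^ (p ^ k) = 1 := by simpa using congrArg Subtype.val hk
    have hk'' : (n : L) ^ (p ^ (k + 1)) = 1 := by
      have := congrArg Subtype.val hk'
      rw [← pow_mul, ← pow_succ'] at this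
      simpa using this
    have h3 : (n : L) ∈ Cfsg.pCoreOf p N := hpN n n.2 ⟨k + 1, hk''⟩
    have h4 : n ∈ Cfsg.pCore p ↥N := by
      obtain ⟨y, hy, hyx⟩ := h3
      have : y = n := Subtype.ext hyx
      exact this ▸ hy
    have h5 : QuotientGroup.mk' (Cfsg.pCore p ↥N) n = 1 := (QuotientGroup.eq_one_iff _).mpr h4
    rw [h5, orderOf_one] at hxb
    exact (Fact.out : p.Prime).one_lt.ne hxb

end Cfsg.Agent.S2836
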