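import Cfsg.Statements.S2837
import Cfsg.Agent.Lib.Helper47_YSubn
import Cfsg.Agent.Lib.Helper1_Frattini

set_option autoImplicit false
open Cfsg
open Cfsg.Agent.Lib.Helper47_PLocal Cfsg.Agent.Lib.Helper47_SubAPI Cfsg.Agent.Lib.Helper47_PReduced
  Cfsg.Agent.Lib.Helper47_PClosed Cfsg.Agent.Lib.Helper47_Conj Cfsg.Agent.Lib.Helper47_WeaklyClosed
  Cfsg.Agent.Lib.Helper47_Subn Cfsg.Agent.Lib.Helper47_WC2
open scoped commutatorElement Pointwise

namespace Cfsg.Agent.S2837


/-- `Y₁` normalizes `(Q ∩ Y₁)(Q ∩ Y₂)` when `Q` is normal and normalizes `Y₁`. -/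
theorem le_normalizer_sup_inf {L : Type*} [Group L] {Q Y₁ Y₂ : Subgroup L} (hQ : Q.Normal)
    (hQY₁ : Q ≤ Subgroup.normalizer (Y₁ : Set L)) :
    Y₁ ≤ Subgroup.normalizer (((Q ⊓ Y₁) ⊔ (Q ⊓ Y₂) : Subgroup L) : Set L) := by
  apply le_normalizer_of_forall_map_conj_le
  intro y hy
  rw [Subgroup.map_sup]
  apply sup_le
  · refine le_trans ?_ le_sup_left
    rintro _ ⟨b, hb, rfl⟩
    exact ⟨hQ.conj_mem b hb.1 y, Y₁.mul_mem (Y₁.mul_mem hy hb.2) (Y₁.inv_mem hy)⟩
  · rintro _ ⟨c, hc, rfl⟩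
    show y * c * y⁻¹ ∈ (Q ⊓ Y₁) ⊔ (Q ⊓ Y₂)
    have h1 : y * c * y⁻¹ = (y * c * y⁻¹ * c⁻¹) * c := by group
    rw [h1]
    refine Subgroup.mul_mem _ (Subgroup.mem_sup_left ⟨?_, ?_⟩) (Subgroup.mem_sup_right hc)
    · exact Q.mul_mem (hQ.conj_mem c hc.1 y) (Q.inv_mem hc.1)
    · have h2 : c * y⁻¹ * c⁻¹ ∈ Y₁ :=
        (Subgroup.mem_normalizer_iff.mp (hQY₁ hc.1) y⁻¹).mp (Y₁.inv_mem hy)
      have h3 : y * c * y⁻¹ * c⁻¹ = y * (c * y⁻¹ * c⁻¹) := by group
      rw [h3]; exact Y₁.mul_mem hy h2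

/-- Let L be a finite group of characteristic p, L₀ a maximal subgroup, Y an elementary abelian p-subgroup of L₀ with L Y-minimal and O_p(L) ≤ N_L(Y). Put A = the normal closure of O_p(L) ∩ Y in L. Then for every g ∈ L outside L₀: Φ(A) = A' = [A ∩ Y, A] = [A ∩ Y, A ∩ gYg⁻¹] ≤ C_Y(L), and Y ∩ gYg⁻¹ = (A ∩ Y) ∩ (A ∩ gYg⁻¹) = C_Y(L) = C_A(L). -/
theorem result {L : Type*} [Group L] [Finite L] {p : ℕ} [Fact p.Prime] (hchar : Subgroup.centralizer (Cfsg.pCore p L : Set L) ≤ Cfsg.pCore p L) (L₀ : Subgroup L) (hL₀ : IsCoatom L₀) (Y : Subgroup L) (hYL₀ : Y ≤ L₀) (hYel : Cfsg.IsElementaryAbelian p Y) (hmin : Cfsg.IsMinimalOver Y) (hOY : Cfsg.pCore p L ≤ Subgroup.normalizer (Y : Set L)) (A : Subgroup L) (hA : A = Subgroup.normalClosure (((Cfsg.pCore p L ⊓ Y : Subgroup L)) : Set L)) (g : L) (hg : g ∉ L₀) : (frattini ↥A).map A.subtype = ⁅A, A⁆ ∧ ⁅A, A⁆ = ⁅A ⊓ Y, A⁆ ∧ ⁅A ⊓ Y, A⁆ = ⁅A ⊓ Y, A ⊓ Y.map (MulAut.conj g).toMonoidHom⁆ ∧ ⁅A ⊓ Y, A⁆ ≤ Y ⊓ Subgroup.center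 L ∧ Y ⊓ Y.map (MulAut.conj g).toMonoidHom = Y ⊓ Subgroup.center L ∧ (A ⊓ Y) ⊓ (A ⊓ Y.map (MulAut.conj g).toMonoidHom) = Y ⊓ Subgroup.center L ∧ A ⊓ Subgroup.center L = Y ⊓ Subgroup.center L := by
  classical
  have hQn : (Cfsg.pCore p L).Normal := inferInstance
  obtain ⟨hncl, M, ⟨hMc, hYM⟩, huniq⟩ := hmin
  have hL₀M : L₀ = M := huniq L₀ ⟨hL₀, hYL₀⟩
  subst hL₀M
  have hYab : ∀ a ∈ Y, ∀ b ∈ Y, a * b = b * a := fun a ha b hb =>
    Cfsg.Agent.Lib.Helper10_Thompson.ea_comm hYel ha hb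
  have hYgel : Cfsg.IsElementaryAbelian p (Y.map (MulAut.conj g).toMonoidHom) :=
    Cfsg.Agent.Lib.Helper10_Thompson.ea_map hYel _
  have hYgab : ∀ a ∈ Y.map (MulAut.conj g).toMonoidHom, ∀ b ∈ Y.map (MulAut.conj g).toMonoidHom,
      a * b = b * a := fun a ha b hb => Cfsg.Agent.Lib.Helper10_Thompson.ea_comm hYgel ha hb
  -- Step 1: `L = ⟨Y, Y^g⟩`
  have hgen : Y ⊔ Y.map (MulAut.conj g).toMonoidHom = ⊤ := by
    by_contra h
    obtain ⟨M', hM', hle⟩ := exists_isCoatom_ge h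
    have hM'M : M' = L₀ := huniq M' ⟨hM', le_sup_left.trans hle⟩
    have hYgL₀ : Y.map (MulAut.conj g).toMonoidHom ≤ L₀ := by
      rw [← hM'M]; exact le_sup_right.trans hle
    have h1 : Y ≤ L₀.map (MulAut.conj g⁻¹).toMonoidHom := by
      rw [le_map_conj_iff, inv_inv]; exact hYgL₀
    have h2 : IsCoatom (L₀.map (MulAut.conj g⁻¹).toMonoidHom) := by
      have := (OrderIso.isCoatom_iff (MulEquiv.mapSubgroup (MulAut.conj g⁻¹)) L₀).mpr hL₀
      exact this
    have h3 : L₀.map (MulAut.conj g⁻¹).toMonoidHom = L₀ := huniq _ ⟨h2, h1⟩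
    have h4 : g⁻¹ ∈ Subgroup.normalizer (L₀ : Set L) := mem_normalizer_iff_map_conj_eq'.mpr h3
    have h5 : g ∈ Subgroup.normalizer (L₀ : Set L) := by
      have := Subgroup.inv_mem _ h4; simpa using this
    have h6 : L₀ < Subgroup.normalizer (L₀ : Set L) :=
      lt_of_le_of_ne Subgroup.le_normalizer (fun h => hg (h ▸ h5))
    have h7 : Subgroup.normalizer (L₀ : Set L) = ⊤ := hL₀.2 _ h6
    have h8 : L₀.Normal := Subgroup.normalizer_eq_top_iff.mp h7
    have h9 : Subgroup.normalClosure (Y : Set L) ≤ L₀ := Subgroup.normalClosure_le_normal hYL₀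
    rw [hncl] at h9
    exact hL₀.1 (top_le_iff.mp h9)
  -- Step 2: `A = B B^g`
  have hQg : (Cfsg.pCore p L).map (MulAut.conj g).toMonoidHom = Cfsg.pCore p L :=
    mem_normalizer_iff_map_conj_eq'.mp (by
      rw [Subgroup.normalizer_eq_top_iff.mpr hQn]; exact Subgroup.mem_top g)
  have hBg : (Cfsg.pCore p L ⊓ Y).map (MulAut.conj g).toMonoidHom =
      Cfsg.pCore p L ⊓ Y.map (MulAut.conj g).toMonoidHom := by
    rw [Subgroup.map_inf _ _ _ (MulAut.conj g).injective, hQg]
  have hOYg : Cfsg.pCore p L ≤ Subgroup.normalizer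
      ((Y.map (MulAut.conj g).toMonoidHom : Subgroup L) : Set L) := by
    rw [normalizer_map_conj, ← hQg]; exact Subgroup.map_mono hOY
  have hDn : ((Cfsg.pCore p L ⊓ Y) ⊔ (Cfsg.pCore p L ⊓ Y.map (MulAut.conj g).toMonoidHom)).Normal := by
    rw [← Subgroup.normalizer_eq_top_iff, eq_top_iff, ← hgen]
    apply sup_le
    · exact le_normalizer_sup_inf hQn hOY
    · have := le_normalizer_sup_inf (Y₂ := Y) hQn hOYg
      rwa [sup_comm] at this
  have hAQ : A ≤ Cfsg.pCore p L := by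
    rw [hA]; exact Subgroup.normalClosure_le_normal inf_le_left
  have hAn : A.Normal := by rw [hA]; exact Subgroup.normalClosure_normal
  have hBA : Cfsg.pCore p L ⊓ Y ≤ A := by rw [hA]; exact Subgroup.le_normalClosure
  have hBgA : Cfsg.pCore p L ⊓ Y.map (MulAut.conj g).toMonoidHom ≤ A := by
    rw [← hBg]
    rintro _ ⟨b, hb, rfl⟩
    exact hAn.conj_mem b (hBA hb) g
  have hAD : A = (Cfsg.pCore p L ⊓ Y) ⊔ (Cfsg.pCore p L ⊓ Y.map (MulAut.conj g).toMonoidHom) := by
    apply le_antisymm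
    · rw [hA]
      exact Subgroup.normalClosure_le_normal (SetLike.coe_subset_coe.mpr
        (le_sup_left : Cfsg.pCore p L ⊓ Y ≤ (Cfsg.pCore p L ⊓ Y) ⊔
          (Cfsg.pCore p L ⊓ Y.map (MulAut.conj g).toMonoidHom)))
    · exact sup_le hBA hBgA
  -- Step 3
  have hAY : A ⊓ Y = Cfsg.pCore p L ⊓ Y :=
    le_antisymm (inf_le_inf_right _ hAQ) (le_inf hBA inf_le_right)
  have hAYg : A ⊓ Y.map (MulAut.conj g).toMonoidHom =
      Cfsg.pCore p L ⊓ Y.map (MulAut.conj g).toMonoidHom :=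
    le_antisymm (inf_le_inf_right _ hAQ) (le_inf hBgA inf_le_right)
  rw [hAY, hAYg]
  set B := Cfsg.pCore p L ⊓ Y with hB
  set Bg := Cfsg.pCore p L ⊓ Y.map (MulAut.conj g).toMonoidHom with hBg'
  -- Step 4: central intersection
  have hYYg : Y ⊓ Y.map (MulAut.conj g).toMonoidHom ≤ Subgroup.center L := by
    intro x hx
    have h1 : (⊤ : Subgroup L) ≤ Subgroup.centralizer ({x} : Set L) := by
      rw [← hgen]
      apply sup_le
      · intro y hy
        rw [Subgroup.mem_centralizer_iff]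
        intro z hz
        rw [Set.mem_singleton_iff] at hz
        rw [hz]; exact hYab x hx.1 y hy
      · intro y hy
        rw [Subgroup.mem_centralizer_iff]
        intro z hz
        rw [Set.mem_singleton_iff] at hz
        rw [hz]; exact hYgab x hx.2 y hy
    rw [Subgroup.mem_center_iff]
    intro y
    exact (Subgroup.mem_centralizer_iff.mp (h1 (Subgroup.mem_top y)) x rfl).symm
  have h5 : Y ⊓ Y.map (MulAut.conj g).toMonoidHom = Y ⊓ Subgroup.center L := by
    apply le_antisymm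
    · intro x hx; exact ⟨hx.1, hYYg hx⟩
    · intro x hx
      refine ⟨hx.1, x, hx.1, ?_⟩
      have := Subgroup.mem_center_iff.mp hx.2 g
      show g * x * g⁻¹ = x
      rw [this]; group
  have hQB : Cfsg.pCore p L ≤ Subgroup.normalizer (B : Set L) :=
    (le_inf Subgroup.le_normalizer hOY).trans (normalizer_inf_le_normalizer_inf _ _)
  have hQBg : Cfsg.pCore p L ≤ Subgroup.normalizer (Bg : Set L) :=
    (le_inf Subgroup.le_normalizer hOYg).trans (normalizer_inf_le_normalizer_inf _ _)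
  have hN1 : ⁅B, Bg⁆ ≤ B :=
    Subgroup.le_normalizer_iff_commutator_le_left.mp (inf_le_left.trans hQB)
  have hN2 : ⁅B, Bg⁆ ≤ Bg := by
    rw [Subgroup.commutator_comm]
    exact Subgroup.le_normalizer_iff_commutator_le_left.mp (inf_le_left.trans hQBg)
  have hNc : ⁅B, Bg⁆ ≤ Y ⊓ Subgroup.center L := by
    rw [← h5]
    exact le_inf (hN1.trans inf_le_right) (hN2.trans inf_le_right)
  have hNn : ∀ x : L, x ∈ Subgroup.normalizer ((⁅B, Bg⁆ : Subgroup L) : Set L) := by
    intro x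
    rw [Subgroup.mem_normalizer_iff]
    intro n
    constructor
    · intro hn
      have := Subgroup.mem_center_iff.mp (hNc hn).2 x
      have h : x * n * x⁻¹ = n := by rw [this]; group
      rw [h]; exact hn
    · intro hn
      have := Subgroup.mem_center_iff.mp (hNc hn).2 x⁻¹
      have h : n = x⁻¹ * (x * n * x⁻¹) * x⁻¹⁻¹ := by group
      rw [h, this]
      have h' : x * n * x⁻¹ * x⁻¹ * x⁻¹⁻¹ = x * n * x⁻¹ := by group
      rw [h']; exact hn
  -- `[B, A] ≤ [B, B^g]` etc.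
  have hBAle : A ≤ commKerN B ⁅B, Bg⁆ := by
    rw [hAD]
    apply sup_le
    · intro b hb
      refine ⟨hNn b, fun k hk => ?_⟩
      have : ⁅k, b⁆ = 1 := by
        rw [commutatorElement_eq_one_iff_mul_comm]
        exact hYab k hk.2 b hb.2
      rw [this]; exact Subgroup.one_mem _
    · intro c hc
      exact ⟨hNn c, fun k hk => Subgroup.commutator_mem_commutator hk hc⟩
  have hBgAle : A ≤ commKerN Bg ⁅B, Bg⁆ := by
    rw [hAD]
    apply sup_le
    · intro b hb
      refine ⟨hNn b, fun k hk => ?_⟩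
      rw [Subgroup.commutator_comm]
      exact Subgroup.commutator_mem_commutator hk hb
    · intro c hc
      refine ⟨hNn c, fun k hk => ?_⟩
      have : ⁅k, c⁆ = 1 := by
        rw [commutatorElement_eq_one_iff_mul_comm]
        exact hYgab k hk.2 c hc.2
      rw [this]; exact Subgroup.one_mem _
  have h3 : ⁅B, A⁆ = ⁅B, Bg⁆ :=
    le_antisymm (commutator_le_of_le_commKerN hBAle) (Subgroup.commutator_mono le_rfl hBgA)
  have hBgA' : ⁅Bg, A⁆ ≤ ⁅B, Bg⁆ := commutator_le_of_le_commKerN hBgAle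
  have hAAle : A ≤ commKerN A ⁅B, Bg⁆ := by
    conv_lhs => rw [hAD]
    apply sup_le
    · intro b hb
      refine ⟨hNn b, fun k hk => ?_⟩
      have h : ⁅k, b⁆ ∈ ⁅A, B⁆ := Subgroup.commutator_mem_commutator hk hb
      rw [Subgroup.commutator_comm, h3] at h
      exact h
    · intro c hc
      refine ⟨hNn c, fun k hk => ?_⟩
      have h : ⁅k, c⁆ ∈ ⁅A, Bg⁆ := Subgroup.commutator_mem_commutator hk hc
      rw [Subgroup.commutator_comm] at h
      exact hBgA' h
  have h2 : ⁅A, A⁆ = ⁅B, A⁆ := by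
    apply le_antisymm
    · rw [h3]; exact commutator_le_of_le_commKerN hAAle
    · exact Subgroup.commutator_mono hBA le_rfl
  -- Step 5: Frattini
  have hAp : IsPGroup p A := (pCore_isPGroup p L).to_le hAQ
  have h1 : (frattini ↥A).map A.subtype = ⁅A, A⁆ := by
    rw [← Subgroup.map_subtype_commutator]
    congr 1
    apply le_antisymm
    · apply frattini_le_of_commutator_le_of_pow_mem (p := p) _ le_rfl
      intro a
      have ha : (a : L) ∈ B ⊔ Bg := by rw [← hAD]; exact a.2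
      obtain ⟨b, hb, c, hc, habc⟩ :=
        exists_mul_of_mem_sup_of_le_normalizer (inf_le_left.trans hQB) ha
      have hbp : b ^ p = 1 := hYel.2 b hb.2
      have hcp : c ^ p = 1 := hYgel.2 c hc.2
      rw [← Abelianization.ker_of, MonoidHom.mem_ker]
      have ha' : a = ⟨b, hBA hb⟩ * ⟨c, hBgA hc⟩ := Subtype.ext habc
      rw [ha', map_pow, map_mul, mul_pow, ← map_pow, ← map_pow]
      have e1 : (⟨b, hBA hb⟩ : ↥A) ^ p = 1 := Subtype.ext (by simpa using hbp)
      have e2 : (⟨c, hBgA hc⟩ : ↥A) ^ p = 1 := Subtype.ext (by simpa using hcp)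
      rw [e1, e2, map_one, one_mul]
    · exact Cfsg.Agent.Lib.Helper1_Frattini.commutator_le_frattini_of_isPGroup hAp
  -- central part
  have hZQ : Y ⊓ Subgroup.center L ≤ Cfsg.pCore p L := by
    have hn : (Y ⊓ Subgroup.center L).Normal := by
      constructor
      intro n hn x
      have := Subgroup.mem_center_iff.mp hn.2 x
      have h : x * n * x⁻¹ = n := by rw [this]; group
      rw [h]; exact hn
    exact le_pCore hn ((isPGroup_of_isElementaryAbelian hYel).to_le inf_le_left)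
  have hZB : Y ⊓ Subgroup.center L ≤ B := fun x hx => ⟨hZQ hx, hx.1⟩
  have hZBg : Y ⊓ Subgroup.center L ≤ Bg := fun x hx => by
    have : x ∈ Y ⊓ Y.map (MulAut.conj g).toMonoidHom := by rw [h5]; exact hx
    exact ⟨hZQ hx, this.2⟩
  refine ⟨h1, h2, h3, ?_, h5, ?_, ?_⟩
  · rw [h3]; exact hNc
  · apply le_antisymm
    · intro x hx
      rw [← h5]
      exact ⟨hx.1.2, hx.2.2⟩
    · exact le_inf hZB hZBg
  · apply le_antisymm
    · intro a ha
      have ha' : a ∈ B ⊔ Bg := by rw [← hAD]; exact ha.1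
      obtain ⟨b, hb, c, hc, rfl⟩ :=
        exists_mul_of_mem_sup_of_le_normalizer (inf_le_left.trans hQB) ha'
      have hcc : c ∈ Subgroup.center L := by
        have h1 : (⊤ : Subgroup L) ≤ Subgroup.centralizer ({c} : Set L) := by
          rw [← hgen]
          apply sup_le
          · intro y hy
            rw [Subgroup.mem_centralizer_iff]
            intro z hz
            rw [Set.mem_singleton_iff] at hz
            rw [hz]
            have e1 := Subgroup.mem_center_iff.mp ha.2 y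
            have e2 : b * y = y * b := hYab b hb.2 y hy
            -- `y * (b * c) = b * c * y`
            have e3 : b * (y * c) = b * (c * y) := by
              calc b * (y * c) = (b * y) * c := by group
                _ = (y * b) * c := by rw [e2]
                _ = y * (b * c) := by group
                _ = b * c * y := e1
                _ = b * (c * y) := by group
            exact (mul_left_cancel e3).symm
          · intro y hy
            rw [Subgroup.mem_centralizer_iff]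
            intro z hz
            rw [Set.mem_singleton_iff] at hz
            rw [hz]; exact hYgab c hc.2 y hy
        rw [Subgroup.mem_center_iff]
        intro y
        exact (Subgroup.mem_centralizer_iff.mp (h1 (Subgroup.mem_top y)) c rfl).symm
      have hcY : c ∈ Y := by
        have : c ∈ Y ⊓ Y.map (MulAut.conj g).toMonoidHom := by
          rw [h5]
          have h : c ∈ Y.map (MulAut.conj g).toMonoidHom ⊓ Subgroup.center L := ⟨hc.2, hcc⟩
          -- a central element of `Y^g` lies in `Y`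
          obtain ⟨y, hy, hyc⟩ := h.1
          have e : y = c := by
            have e1 : g * y * g⁻¹ = c := hyc
            have e2 := Subgroup.mem_center_iff.mp hcc g⁻¹
            calc y = g⁻¹ * (g * y * g⁻¹) * g⁻¹⁻¹ := by group
              _ = g⁻¹ * c * g⁻¹⁻¹ := by rw [e1]
              _ = c * g⁻¹ * g⁻¹⁻¹ := by rw [e2]
              _ = c := by group
          exact ⟨e ▸ hy, hcc⟩
        exact this.1
      exact ⟨Y.mul_mem hb.2 hcY, ha.2⟩
    · intro x hx
      exact ⟨hBA (hZB hx), hx.2⟩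

end Cfsg.Agent.S2837
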