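import Cfsg.Statements.S2839
import Cfsg.Agent.Lib.Helper47_WeaklyClosed

set_option autoImplicit false
open Cfsg

namespace Cfsg.Agent.S2839

open Cfsg.Agent.Lib.Helper47_PLocal Cfsg.Agent.Lib.Helper47_PClosed Cfsg.Agent.Lib.Helper47_Conj
open Cfsg.Agent.Lib.Helper47_SubAPI Cfsg.Agent.Lib.Helper47_WeaklyClosed
open scoped Pointwise

/-- Let Q be a nontrivial p-subgroup of the finite group H that is a weakly closed subgroup, K a subgroup containing Q and N a normal subgroup of H. Then Q is a weakly closed subgroup of K; every H-conjugate of Q contained in K is a K-conjugate of Q; N_K(Q) contains a Sylow p-subgroup of K; N = N_N(Q)·O^p(N); and QN/N is a weakly closed subgroup of H/N. -/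
theorem result {H : Type*} [Group H] [Finite H] {p : ℕ} [Fact p.Prime] (Q : Subgroup H) (hQp : IsPGroup p ↥Q) (hQ1 : Q ≠ ⊥) (hwc : Cfsg.IsWeaklyClosedSubgroup p Q) (K : Subgroup H) (hQK : Q ≤ K) (N' : Subgroup H) [N'.Normal] : Cfsg.IsWeaklyClosedSubgroup p (Q.subgroupOf K) ∧ (∀ g : H, ((Q : Subgroup H).map (MulAut.conj (g : H)).toMonoidHom) ≤ K → ∃ k ∈ K, ((Q : Subgroup H).map (MulAut.conj (g : H)).toMonoidHom) = ((Q : Subgroup H).map (MulAut.conj (k : H)).toMonoidHom)) ∧ Cfsg.IsParabolic p ((Subgroup.normalizer ((Q : Subgroup H) : Set H)).subgroupOf K) ∧ (N' ⊓ Subgroup.normalizer ((Q : Subgroup H) : Set H)) ⊔ (Cfsg.pResidual p ↥N').map N'.subtype = N' ∧ Cfsg.IsWeaklyClosedSubgroup p (Q.map (QuotientGroup.mk' N')) := by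
  refine ⟨wc_subgroupOf hQp hwc hQK, fun g hg => wc_conj_in_subgroup hQp hwc hQK g hg, ?_, ?_, ?_⟩
  · -- a Sylow subgroup of `K` containing `Q` normalizes `Q`
    have hQ'p : IsPGroup p (Q.subgroupOf K) := hQp.comap_subtype
    obtain ⟨S₁, hS₁⟩ := hQ'p.exists_le_sylow
    refine ⟨S₁, ?_⟩
    intro x hx
    rw [Subgroup.mem_subgroupOf]
    have hQS₁ : Q ≤ (S₁ : Subgroup K).map K.subtype := by
      have := Subgroup.map_mono (f := K.subtype) hS₁
      rwa [Subgroup.map_subgroupOf_eq_of_le hQK] at this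
    have h1 := wc_normalizer_le hQp hwc (S₁.isPGroup'.map K.subtype) hQS₁
    exact h1 (Subgroup.le_normalizer (Subgroup.mem_map_of_mem _ hx))
  · apply le_antisymm
    · exact sup_le inf_le_left (Subgroup.map_subtype_le _)
    · obtain ⟨S'⟩ : Nonempty (Sylow p N') := inferInstance
      obtain ⟨T₁, hT₁⟩ := (S'.isPGroup'.map N'.subtype).exists_le_sylow
      obtain ⟨T, hQT⟩ := hQp.exists_le_sylow
      obtain ⟨g, hg⟩ := MulAction.exists_smul_eq H T₁ T
      have hM : ((Cfsg.pResidual p N').map N'.subtype).Normal := map_subtype_pResidual_normal N'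
      have h1 := map_pResidual_sup_map_sylow N' S'
      have h2 := congrArg (Subgroup.map (MulAut.conj g).toMonoidHom) h1
      rw [Subgroup.map_sup] at h2
      have h3 : ((Cfsg.pResidual p N').map N'.subtype).map (MulAut.conj g).toMonoidHom =
          (Cfsg.pResidual p N').map N'.subtype := Subgroup.Normal.map_conj_eq _ g
      have h4 : N'.map (MulAut.conj g).toMonoidHom = N' := Subgroup.Normal.map_conj_eq _ g
      rw [h3, h4] at h2
      have hSg_le_T : ((S' : Subgroup N').map N'.subtype).map (MulAut.conj g).toMonoidHom ≤ T := by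
        rw [← hg, sylow_smul_eq_map_conj]; exact Subgroup.map_mono hT₁
      have hSg_le_N : ((S' : Subgroup N').map N'.subtype).map (MulAut.conj g).toMonoidHom ≤ N' := by
        conv_rhs => rw [← h4]
        exact Subgroup.map_mono (Subgroup.map_subtype_le _)
      have hTQ : (T : Subgroup H) ≤ Subgroup.normalizer ((Q : Subgroup H) : Set H) :=
        Subgroup.le_normalizer.trans (wc_normalizer_le hQp hwc T.isPGroup' hQT)
      conv_lhs => rw [← h2]
      rw [sup_comm]
      exact sup_le_sup (le_inf hSg_le_N (hSg_le_T.trans hTQ)) le_rfl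
  · obtain ⟨T, hQT⟩ := hQp.exists_le_sylow
    have hwcT := wc_in_of_wc hQp hwc T hQT
    have hTQ : (T : Subgroup H) ≤ Subgroup.normalizer ((Q : Subgroup H) : Set H) :=
      Subgroup.le_normalizer.trans (wc_normalizer_le hQp hwc T.isPGroup' hQT)
    refine ⟨T.mapSurjective (QuotientGroup.mk'_surjective N'), ?_, ?_⟩
    · rw [Sylow.coe_mapSurjective]; exact Subgroup.map_mono hQT
    · intro x hx
      rw [Sylow.coe_mapSurjective] at hx
      obtain ⟨g, rfl⟩ := QuotientGroup.mk'_surjective N' x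
      have hcomm : ∀ a : H, (Q.map (QuotientGroup.mk' N')).map
          (MulAut.conj (QuotientGroup.mk' N' a)).toMonoidHom =
          (Q.map (MulAut.conj a).toMonoidHom).map (QuotientGroup.mk' N') := by
        intro a
        rw [Subgroup.map_map, Subgroup.map_map]
        congr 1
      rw [hcomm] at hx ⊢
      have h1 : Q.map (MulAut.conj g).toMonoidHom ≤ N' ⊔ (T : Subgroup H) := by
        rw [← QuotientGroup.comap_map_mk', ← Subgroup.map_le_iff_le_comap]; exact hx
      obtain ⟨k, hk, hgk⟩ := wc_conj_in_subgroup hQp hwc (hQT.trans le_sup_right) g h1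
      have hk' : k ∈ ((N' ⊔ (T : Subgroup H) : Subgroup H) : Set H) := hk
      rw [Subgroup.normal_mul] at hk'
      obtain ⟨n, hn, t, ht, rfl⟩ := Set.mem_mul.mp hk'
      rw [hgk, ← map_conj_map_conj, mem_normalizer_iff_map_conj_eq'.mp (hTQ ht), ← hcomm]
      have : QuotientGroup.mk' N' n = 1 := (QuotientGroup.eq_one_iff n).mpr hn
      rw [this, map_conj_one]

end Cfsg.Agent.S2839
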