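import Cfsg.Statements.S2840
import Cfsg.Agent.Lib.Helper47_WeaklyClosed

set_option autoImplicit false
open Cfsg

namespace Cfsg.Agent.S2840

open Cfsg.Agent.Lib.Helper47_PLocal Cfsg.Agent.Lib.Helper47_PClosed Cfsg.Agent.Lib.Helper47_Conj
open Cfsg.Agent.Lib.Helper47_SubAPI Cfsg.Agent.Lib.Helper47_WeaklyClosed
open scoped Pointwise

/-- Let Q be a nontrivial p-subgroup of the finite group H that is a weakly closed subgroup and K a subgroup containing Q; let K° be the weak closure of Q in K (generated by the H-conjugates of Q inside K). Then K° is generated by the K-conjugates of Q, and K° is the subnormal closure of Q in K. -/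
theorem result {H : Type*} [Group H] [Finite H] {p : ℕ} [Fact p.Prime] (Q : Subgroup H) (hQp : IsPGroup p ↥Q) (hQ1 : Q ≠ ⊥) (hwc : Cfsg.IsWeaklyClosedSubgroup p Q) (K : Subgroup H) (hQK : Q ≤ K) (Kc : Subgroup H) (hKc : Kc = Cfsg.weakClosure Q K) : Kc = ⨆ k : ↥K, ((Q : Subgroup H).map (MulAut.conj ((k : H) : H)).toMonoidHom) ∧ Kc = (Cfsg.subnormalClosure (Q.subgroupOf K)).map K.subtype := by
  have h1 : Kc = ⨆ k : ↥K, ((Q : Subgroup H).map (MulAut.conj ((k : H) : H)).toMonoidHom) := by
    rw [hKc]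
    unfold Cfsg.weakClosure
    apply le_antisymm
    · apply iSup_le
      rintro ⟨g, hg⟩
      obtain ⟨k, hk, hgk⟩ := wc_conj_in_subgroup hQp hwc hQK g hg
      show Q.map (MulAut.conj g).toMonoidHom ≤ _
      rw [hgk]
      exact le_iSup (fun k : ↥K => (Q : Subgroup H).map (MulAut.conj (k : H)).toMonoidHom) ⟨k, hk⟩
    · apply iSup_le
      intro k
      have hk : Q.map (MulAut.conj (k : H)).toMonoidHom ≤ K :=
        (Subgroup.map_mono hQK).trans (map_conj_eq_self_of_mem k.2).le
      exact le_iSup (fun g : {g : H // Q.map (MulAut.conj g).toMonoidHom ≤ K} =>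
        Q.map (MulAut.conj (g : H)).toMonoidHom) ⟨k, hk⟩
  refine ⟨h1, ?_⟩
  have hQ'p : IsPGroup p (Q.subgroupOf K) := hQp.comap_subtype
  rw [wc_subnormalClosure_eq hQ'p (wc_subgroupOf hQp hwc hQK), normalClosure_eq_iSup_map_conj,
    Subgroup.map_iSup, h1]
  congr 1
  ext k : 1
  rw [map_conj_map_subtype, Subgroup.map_subgroupOf_eq_of_le hQK]

end Cfsg.Agent.S2840
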