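import Cfsg.Statements.S2841
import Cfsg.Agent.Lib.Helper47_WC2

set_option autoImplicit false
open Cfsg
open Cfsg.Agent.Lib.Helper47_WC2

namespace Cfsg.Agent.S2841

/-- Let Q be a nontrivial p-subgroup of the finite group H that is a weakly closed subgroup and N a normal subgroup of H. Then N = N_N(Q)·[N, Q] and [N, Q] = (Q ∩ [N, Q])·[N, Q, Q]. -/
theorem result {H : Type*} [Group H] [Finite H] {p : ℕ} [Fact p.Prime] (Q : Subgroup H) (hQp : IsPGroup p ↥Q) (hQ1 : Q ≠ ⊥) (hwc : Cfsg.IsWeaklyClosedSubgroup p Q) (N' : Subgroup H) [N'.Normal] : (∀ n : H, n ∈ N' → ∃ a ∈ N' ⊓ Subgroup.normalizer ((Q : Subgroup H) : Set H), ∃ b ∈ ⁅N', Q⁆, n = a * b) ∧ (∀ c : H, c ∈ ⁅N', Q⁆ → ∃ a ∈ Q ⊓ ⁅N', Q⁆, ∃ b ∈ ⁅⁅N', Q⁆, Q⁆, c = a * b) := by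
  refine ⟨fun n hn => ?_, fun c hc => wc_exists_mul_inf_commutator hQp hwc N' hc⟩
  refine wc_exists_mul_normalizer_commutator hQp hwc N' ?_ hn
  rw [Subgroup.normalizer_eq_top_iff.mpr inferInstance]
  exact le_top

end Cfsg.Agent.S2841
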