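import Cfsg.Statements.S2843
import Cfsg.Agent.Lib.Helper47_Large2

set_option autoImplicit false
open Cfsg
open Cfsg.Agent.Lib.Helper47_PLocal Cfsg.Agent.Lib.Helper47_SubAPI Cfsg.Agent.Lib.Helper47_Conj
  Cfsg.Agent.Lib.Helper47_WeaklyClosed Cfsg.Agent.Lib.Helper47_Large Cfsg.Agent.Lib.Helper47_WC2
  Cfsg.Agent.Lib.Helper47_Subn Cfsg.Agent.Lib.Helper47_Large2
open scoped commutatorElement

namespace Cfsg.Agent.S2843

/-- Let Q be a nontrivial large p-subgroup of the finite group H, Q ≤ L ≤ H, and Y a nontrivial p-subgroup of H normalized by L. Let L° be the weak closure of Q in L (generated by the conjugates of Q inside L). Then L° equals the weak closure of Q in L·C_H(Y), and [L°, C_H(Y)] ≤ O_p(L°); in particular C_H(Y) normalizes L°. -/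
theorem result {H : Type*} [Group H] [Finite H] {p : ℕ} [Fact p.Prime] (Q : Subgroup H) (hQp : IsPGroup p ↥Q) (hQ1 : Q ≠ ⊥) (hL : Cfsg.IsLarge Q) (L : Subgroup H) (hQL : Q ≤ L) (Y : Subgroup H) (hYp : IsPGroup p ↥Y) (hY1 : Y ≠ ⊥) (hLY : L ≤ Subgroup.normalizer ((Y : Subgroup H) : Set H)) : Cfsg.weakClosure Q L = Cfsg.weakClosure Q (L ⊔ Subgroup.centralizer ((Y : Subgroup H) : Set H)) ∧ ⁅Cfsg.weakClosure Q L, Subgroup.centralizer ((Y : Subgroup H) : Set H)⁆ ≤ (Cfsg.pCoreOf p (Cfsg.weakClosure Q L)) ∧ Subgroup.centralizer ((Y : Subgroup H) : Set H) ≤ Subgroup.normalizer (((Cfsg.weakClosure Q L) : Subgroup H) : Set H) := by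
  set C : Subgroup H := Subgroup.centralizer ((Y : Subgroup H) : Set H) with hC
  have hwc : Cfsg.IsWeaklyClosedSubgroup p Q := IsLarge.isWeaklyClosedSubgroup hQp hQ1 hL
  have hCY : C ≤ Subgroup.normalizer (Y : Set H) := Subgroup.centralizer_le_normalizer _
  have hLC : L ≤ Subgroup.normalizer (C : Set H) :=
    hLY.trans (normalizer_le_normalizer_centralizer Y)
  have hLtY : L ⊔ C ≤ Subgroup.normalizer (Y : Set H) := sup_le hLY hCY
  -- (a) `C` normalizes every conjugate of `Q` inside `L ⊔ C`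
  have ha : ∀ g : H, Q.map (MulAut.conj g).toMonoidHom ≤ L ⊔ C →
      C ≤ Subgroup.normalizer ((Q.map (MulAut.conj g).toMonoidHom : Subgroup H) : Set H) := by
    intro g hg
    exact IsLarge.centralizer_le_normalizer (hQp.map _) (IsLarge.map_conj hL g) hYp hY1
      (hg.trans hLtY)
  -- (b) every conjugate of `Q` inside `L ⊔ C` is an `L`-conjugate
  have hb : ∀ g : H, Q.map (MulAut.conj g).toMonoidHom ≤ L ⊔ C →
      ∃ l ∈ L, Q.map (MulAut.conj g).toMonoidHom = Q.map (MulAut.conj l).toMonoidHom := by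
    intro g hg
    obtain ⟨k, hk, hgk⟩ := wc_conj_in_subgroup hQp hwc (hQL.trans le_sup_left) g hg
    rw [sup_comm] at hk
    obtain ⟨c, hc, l, hl, rfl⟩ := exists_mul_of_mem_sup_of_le_normalizer hLC hk
    refine ⟨l, hl, ?_⟩
    have hQl : Q.map (MulAut.conj l).toMonoidHom ≤ L := by
      rw [← map_conj_eq_self_of_mem hl]
      exact Subgroup.map_mono hQL
    rw [hgk, ← map_conj_map_conj]
    exact mem_normalizer_iff_map_conj_eq'.mp (ha l (hQl.trans le_sup_left) hc)
  have hmemL : ∀ g : H, Q.map (MulAut.conj g).toMonoidHom ≤ L →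
      Q.map (MulAut.conj g).toMonoidHom ≤ Cfsg.weakClosure Q L := fun g hg =>
    le_iSup (fun g : {g : H // Q.map (MulAut.conj g).toMonoidHom ≤ L} =>
      Q.map (MulAut.conj (g : H)).toMonoidHom) ⟨g, hg⟩
  have hwcL : Cfsg.weakClosure Q L ≤ L := iSup_le fun g => g.2
  -- (3)
  have h3 : C ≤ Subgroup.normalizer (((Cfsg.weakClosure Q L) : Subgroup H) : Set H) := by
    unfold Cfsg.weakClosure
    refine le_trans ?_ (Subgroup.iInf_normalizer_le_normalizer_iSup _)
    exact le_iInf fun g => ha g (g.2.trans le_sup_left)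
  refine ⟨?_, ?_, h3⟩
  · -- (1)
    apply le_antisymm
    · refine iSup_le fun g => ?_
      exact le_iSup (fun g : {g : H // Q.map (MulAut.conj g).toMonoidHom ≤ L ⊔ C} =>
        Q.map (MulAut.conj (g : H)).toMonoidHom) ⟨g.1, g.2.trans le_sup_left⟩
    · refine iSup_le fun g => ?_
      obtain ⟨l, hl, hgl⟩ := hb g.1 g.2
      rw [hgl]
      apply hmemL
      rw [← map_conj_eq_self_of_mem hl]
      exact Subgroup.map_mono hQL
  · -- (2)
    set E : Subgroup H := ⨆ g : {g : H // Q.map (MulAut.conj g).toMonoidHom ≤ L},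
      Q.map (MulAut.conj (g : H)).toMonoidHom ⊓ C with hE
    have hEmem : ∀ g : {g : H // Q.map (MulAut.conj g).toMonoidHom ≤ L},
        Q.map (MulAut.conj (g : H)).toMonoidHom ⊓ C ≤ E := fun g =>
      le_iSup (fun g : {g : H // Q.map (MulAut.conj g).toMonoidHom ≤ L} =>
        Q.map (MulAut.conj (g : H)).toMonoidHom ⊓ C) g
    have hEC : E ≤ C := iSup_le fun g => inf_le_right
    have hEwc : E ≤ Cfsg.weakClosure Q L := iSup_le fun g => inf_le_left.trans (hmemL g.1 g.2)
    -- `E` is a `p`-group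
    have hEp : IsPGroup p E := by
      have h1 : E ≤ Cfsg.pCoreOf p E := by
        refine iSup_le fun g => ?_
        apply Cfsg.Agent.Lib.Helper47_SubAPI.le_pCoreOf (hEmem g)
        · refine hEC.trans ?_
          exact (le_inf (ha g.1 (g.2.trans le_sup_left)) Subgroup.le_normalizer).trans
            (normalizer_inf_le_normalizer_inf _ _)
        · exact (hQp.map _).to_le inf_le_left
      exact (isPGroup_pCoreOf E).to_le h1
    -- `L` normalizes `E`
    have hLE : L ≤ Subgroup.normalizer (E : Set H) := by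
      apply Cfsg.Agent.Lib.Helper47_PClosed.le_normalizer_of_forall_map_conj_le
      intro l hl
      rw [hE, Subgroup.map_iSup]
      refine iSup_le fun g => ?_
      have hg' : Q.map (MulAut.conj (l * g.1)).toMonoidHom ≤ L := by
        rw [← map_conj_map_conj]
        exact (Subgroup.map_mono g.2).trans (map_conj_eq_self_of_mem hl).le
      refine le_trans ?_ (hEmem ⟨l * g.1, hg'⟩)
      rw [Subgroup.map_inf _ _ _ (MulAut.conj l).injective, map_conj_map_conj,
        mem_normalizer_iff_map_conj_eq'.mp (hLC hl)]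
    have hEO : E ≤ Cfsg.pCoreOf p (Cfsg.weakClosure Q L) :=
      Cfsg.Agent.Lib.Helper47_SubAPI.le_pCoreOf hEwc (hwcL.trans hLE) hEp
    refine le_trans ?_ hEO
    rw [Subgroup.commutator_comm]
    apply commutator_le_of_le_commKerN
    unfold Cfsg.weakClosure
    refine iSup_le fun g => ?_
    intro x hx
    refine ⟨hLE (g.2 hx), fun c hc => ?_⟩
    apply hEmem g
    refine ⟨?_, ?_⟩
    · have h1 : c * x * c⁻¹ ∈ Q.map (MulAut.conj (g : H)).toMonoidHom :=
        (Subgroup.mem_normalizer_iff.mp (ha g.1 (g.2.trans le_sup_left) hc) x).mp hx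
      have h2 : ⁅c, x⁆ = (c * x * c⁻¹) * x⁻¹ := by rw [commutatorElement_def]
      rw [h2]
      exact Subgroup.mul_mem _ h1 (Subgroup.inv_mem _ hx)
    · have h1 : x * c⁻¹ * x⁻¹ ∈ C :=
        (Subgroup.mem_normalizer_iff.mp (hLC (g.2 hx)) c⁻¹).mp (C.inv_mem hc)
      have h2 : ⁅c, x⁆ = c * (x * c⁻¹ * x⁻¹) := by rw [commutatorElement_def]; group
      rw [h2]
      exact C.mul_mem hc h1

end Cfsg.Agent.S2843
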