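import Cfsg.Statements.S2844
import Cfsg.Agent.Lib.Helper47_Large

set_option autoImplicit false
open Cfsg

namespace Cfsg.Agent.S2844

open Cfsg.Agent.Lib.Helper47_PLocal Cfsg.Agent.Lib.Helper47_PClosed Cfsg.Agent.Lib.Helper47_Conj
open Cfsg.Agent.Lib.Helper47_SubAPI Cfsg.Agent.Lib.Helper47_WeaklyClosed Cfsg.Agent.Lib.Helper47_Large

/-- Let Q be a nontrivial large p-subgroup of the finite group H and Q• = O_p(N_H(Q)). Then for every g ∈ H outside N_H(Q): C_H(Q) ∩ C_H(gQg⁻¹) = 1, C_H(Q•) ∩ C_H(gQ•g⁻¹) = 1, Z(Q) ∩ Z(gQg⁻¹) = 1 and Z(Q•) ∩ Z(gQ•g⁻¹) = 1; moreover N_H(Q) = N_H(Q•) and Q• is large in H. -/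
theorem result {H : Type*} [Group H] [Finite H] {p : ℕ} [Fact p.Prime] (Q : Subgroup H) (hQp : IsPGroup p ↥Q) (hQ1 : Q ≠ ⊥) (hL : Cfsg.IsLarge Q) (Qb : Subgroup H) (hQb : Qb = Cfsg.largeBullet p Q) : (∀ g : H, g ∉ Subgroup.normalizer ((Q : Subgroup H) : Set H) → Subgroup.centralizer ((Q : Subgroup H) : Set H) ⊓ Subgroup.centralizer ((((Q : Subgroup H).map (MulAut.conj (g : H)).toMonoidHom) : Subgroup H) : Set H) = ⊥ ∧ Subgroup.centralizer ((Qb : Subgroup H) : Set H) ⊓ Subgroup.centralizer ((((Qb : Subgroup H).map (MulAut.conj (g : H)).toMonoidHom) : Subgroup H) : Set H) = ⊥ ∧ (Q ⊓ Subgroup.centralizer ((Q : Subgroup H) : Set H)) ⊓ (((Q : Subgroup H).map (MulAut.conj (g : H)).toMonoidHom) ⊓ Subgroup.centralizer ((((Q : Subgroup H).map (MulAut.conj (g : H)).toMonoidHom) : Subgroup H) : Set H)) = ⊥ ∧ (Qb ⊓ Subgroup.centralizer ((Qb : Subgroup H) : Set H)) ⊓ (((Qb : Subgroup H).map (MulAut.conj (g : H)).toMonoidHom)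 ⊓ Subgroup.centralizer ((((Qb : Subgroup H).map (MulAut.conj (g : H)).toMonoidHom) : Subgroup H) : Set H)) = ⊥) ∧ Subgroup.normalizer ((Q : Subgroup H) : Set H) = Subgroup.normalizer ((Qb : Subgroup H) : Set H) ∧ Cfsg.IsLarge Qb := by
  -- `Q ≤ Q•`
  have hQQb : Q ≤ Qb := by
    rw [hQb]
    exact le_pCoreOf Subgroup.le_normalizer le_rfl hQp
  have hQbp : IsPGroup p Qb := by rw [hQb]; exact isPGroup_pCoreOf _
  have hN : Subgroup.normalizer ((Q : Subgroup H) : Set H) =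
      Subgroup.normalizer ((Qb : Subgroup H) : Set H) := by
    apply le_antisymm
    · rw [hQb]; exact le_normalizer_pCoreOf _
    · exact IsLarge.normalizer_le hQ1 hL hQbp hQQb
  have hCb : Subgroup.centralizer ((Qb : Subgroup H) : Set H) ≤
      Subgroup.centralizer ((Q : Subgroup H) : Set H) := Subgroup.centralizer_le hQQb
  refine ⟨?_, hN, ⟨hCb.trans (hL.1.trans hQQb), fun U hU hU1 => hN ▸ hL.2 U (hU.trans hCb) hU1⟩⟩
  intro g hg
  have h1 := IsLarge.centralizer_inf_eq_bot hQp hQ1 hL hg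
  have hCbg : Subgroup.centralizer ((Qb.map (MulAut.conj g).toMonoidHom : Subgroup H) : Set H) ≤
      Subgroup.centralizer ((Q.map (MulAut.conj g).toMonoidHom : Subgroup H) : Set H) :=
    Subgroup.centralizer_le (Subgroup.map_mono hQQb)
  have h2 : Subgroup.centralizer ((Qb : Subgroup H) : Set H) ⊓
      Subgroup.centralizer ((Qb.map (MulAut.conj g).toMonoidHom : Subgroup H) : Set H) = ⊥ :=
    le_bot_iff.mp ((inf_le_inf hCb hCbg).trans h1.le)
  refine ⟨h1, h2, ?_, ?_⟩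
  · exact le_bot_iff.mp ((inf_le_inf inf_le_right inf_le_right).trans h1.le)
  · exact le_bot_iff.mp ((inf_le_inf inf_le_right inf_le_right).trans h2.le)

end Cfsg.Agent.S2844
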