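import Cfsg.Statements.S2846
import Cfsg.Agent.S2847
import Cfsg.Agent.S2845
import Cfsg.Agent.S2843
import Cfsg.Agent.Lib.Helper47_FrakM

set_option autoImplicit false
open Cfsg

namespace Cfsg.Agent.S2846

open Cfsg.Agent.Lib.Helper47_PLocal Cfsg.Agent.Lib.Helper47_PClosed Cfsg.Agent.Lib.Helper47_Conj
open Cfsg.Agent.Lib.Helper47_SubAPI Cfsg.Agent.Lib.Helper47_WeaklyClosed Cfsg.Agent.Lib.Helper47_Large
open Cfsg.Agent.Lib.Helper47_PReduced Cfsg.Agent.Lib.Helper47_FrakM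

theorem weakClosure_mono {H : Type*} [Group H] (Q : Subgroup H) {A B : Subgroup H} (hAB : A ≤ B) :
    Cfsg.weakClosure Q A ≤ Cfsg.weakClosure Q B :=
  iSup_le fun g => le_iSup (fun g : {g : H // Q.map (MulAut.conj g).toMonoidHom ≤ B} =>
    Q.map (MulAut.conj (g : H)).toMonoidHom) ⟨g.1, g.2.trans hAB⟩

theorem le_weakClosure {H : Type*} [Group H] {Q A : Subgroup H} (hQA : Q ≤ A) :
    Q ≤ Cfsg.weakClosure Q A := by
  have h : Q.map (MulAut.conj (1 : H)).toMonoidHom ≤ Cfsg.weakClosure Q A :=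
    le_iSup (fun g : {g : H // Q.map (MulAut.conj g).toMonoidHom ≤ A} =>
      Q.map (MulAut.conj (g : H)).toMonoidHom) ⟨1, by rw [map_conj_one]; exact hQA⟩
  rwa [map_conj_one] at h

theorem le_normalizer_weakClosure {H : Type*} [Group H] (Q A : Subgroup H) :
    A ≤ Subgroup.normalizer ((Cfsg.weakClosure Q A : Subgroup H) : Set H) := by
  apply le_normalizer_of_forall_map_conj_le
  intro l hl
  unfold Cfsg.weakClosure
  rw [Subgroup.map_iSup]
  refine iSup_le fun g => ?_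
  rw [map_conj_map_conj]
  refine le_iSup (fun g : {g : H // Q.map (MulAut.conj g).toMonoidHom ≤ A} =>
    Q.map (MulAut.conj (g : H)).toMonoidHom) ⟨l * g.1, ?_⟩
  rw [← map_conj_map_conj]
  exact (Subgroup.map_mono g.2).trans (map_conj_eq_self_of_mem hl).le

theorem weakClosure_eq_self_of_le_normalizer {H : Type*} [Group H] [Finite H] {p : ℕ}
    [Fact p.Prime] {Q : Subgroup H} (hQp : IsPGroup p ↥Q) (hwc : Cfsg.IsWeaklyClosedSubgroup p Q)
    {X : Subgroup H} (hQX : Q ≤ X) (hXQ : X ≤ Subgroup.normalizer ((Q : Subgroup H) : Set H)) :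
    Cfsg.weakClosure Q X = Q := by
  apply le_antisymm _ (le_weakClosure hQX)
  refine iSup_le fun g => ?_
  have h1 : IsPGroup p (Q.map (MulAut.conj (g : H)).toMonoidHom ⊔ Q : Subgroup H) :=
    (hQp.map _).to_sup_of_normal_right' hQp (g.2.trans hXQ)
  obtain ⟨T, hT⟩ := h1.exists_le_sylow
  have h2 := wc_in_of_wc hQp hwc T (le_sup_right.trans hT)
  exact (h2.2 g.1 (le_sup_left.trans hT)).le

/-- Let Q be a nontrivial large p-subgroup of the finite group H, S a Sylow p-subgroup containing Q, and L a subgroup containing S with O_p(L) ≠ 1 and C_H(O_p(L)) ≤ O_p(L). Then there are a subgroup M containing S having the basic property (M ∈ 𝔐_H, writing Y_X for the largest p-reduced normal subgroup of X and 𝓛_H for the set of subgroups X with O_p(X) ≠ 1 and C_H(O_p(X)) ≤ O_p(X): M ∈ 𝓛_H, M·C_H(Y_M) is the only maximal member of 𝓛_H containing M and its largest p-reduced normal subgroup is again Y_M, C_M(Y_M) is p-closed, and the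 image of C_M(Y_M) in M/O_p(M) lies in the Frattini subgroup of M/O_p(M)) and a subgroup L* with S ≤ L* ≤ M, O_p(L*) ≠ 1, C_H(O_p(L*)) ≤ O_p(L*), such that L·C_H(Y_L) = L*·C_H(Y_L), the weak closures of Q in L and in L* agree and lie in that of M, and Y_L = Y_{L*} ≤ Y_M. If moreover Q is not normal in L, then Q is normal in neither L* nor M. -/
theorem result {H : Type*} [Group H] [Finite H] {p : ℕ} [Fact p.Prime] (Q : Subgroup H) (hQp : IsPGroup p ↥Q) (hQ1 : Q ≠ ⊥) (hLg : Cfsg.IsLarge Q) (S : Sylow p H) (hQS : Q ≤ (S : Subgroup H)) (L : Subgroup H) (hSL : (S : Subgroup H) ≤ L) (hL : L ∈ Cfsg.charPSubgroups p H) : ∃ M Ls : Subgroup H, (S : Subgroup H) ≤ M ∧ Cfsg.IsInFrakM p M ∧ (S : Subgroup H) ≤ Ls ∧ Ls ≤ M ∧ Ls ∈ Cfsg.charPSubgroups p H ∧ L ⊔ Subgroup.centralizer (((Cfsg.largestPReducedOf p L) : Subgroup H) : Set H) = Ls ⊔ Subgroup.centralizer (((Cfsg.largestPReducedOf p L) : Subgroup H) : Set H) ∧ Cfsg.weakClosure Q L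 = Cfsg.weakClosure Q Ls ∧ Cfsg.weakClosure Q Ls ≤ Cfsg.weakClosure Q M ∧ (Cfsg.largestPReducedOf p L) = (Cfsg.largestPReducedOf p Ls) ∧ (Cfsg.largestPReducedOf p Ls) ≤ (Cfsg.largestPReducedOf p M) ∧ (¬ L ≤ Subgroup.normalizer ((Q : Subgroup H) : Set H) → ¬ Ls ≤ Subgroup.normalizer ((Q : Subgroup H) : Set H) ∧ ¬ M ≤ Subgroup.normalizer ((Q : Subgroup H) : Set H)) := by
  have hpar : Cfsg.IsOfParabolicCharacteristic p H := (Cfsg.Agent.S2845.result Q hQp hQ1 hLg).2.2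
  obtain ⟨M, Ls, hSM, hM, hSLs, hLsM, hLsL, hYeq, hYle, hfac⟩ :=
    Cfsg.Agent.S2847.result hpar S L hSL hL
  have hYL : PRedIn p L (Cfsg.largestPReducedOf p L) := pRedIn_largestPReducedOf p L
  have hYLs : PRedIn p Ls (Cfsg.largestPReducedOf p Ls) := pRedIn_largestPReducedOf p Ls
  have hYLp : IsPGroup p (Cfsg.largestPReducedOf p L) := isPGroup_of_isElementaryAbelian hYL.2.2.1
  have hYL1 : Cfsg.largestPReducedOf p L ≠ ⊥ := largestPReducedOf_ne_bot S hSL hL
  have h1 := (Cfsg.Agent.S2843.result Q hQp hQ1 hLg L (hQS.trans hSL) _ hYLp hYL1 hYL.2.1).1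
  have h2 := (Cfsg.Agent.S2843.result Q hQp hQ1 hLg Ls (hQS.trans hSLs) _ hYLp hYL1
    (by rw [hYeq]; exact hYLs.2.1)).1
  have hwcEq : Cfsg.weakClosure Q L = Cfsg.weakClosure Q Ls := by
    rw [h1, h2, hfac]
  have hwc := IsLarge.isWeaklyClosedSubgroup hQp hQ1 hLg
  refine ⟨M, Ls, hSM, hM, hSLs, hLsM, hLsL, hfac, hwcEq, weakClosure_mono Q hLsM, hYeq,
    hYeq ▸ hYle, ?_⟩
  intro hLQ
  have hLs : ¬ Ls ≤ Subgroup.normalizer ((Q : Subgroup H) : Set H) := by
    intro hLsQ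
    apply hLQ
    have h3 := weakClosure_eq_self_of_le_normalizer hQp hwc (hQS.trans hSLs) hLsQ
    have h4 := le_normalizer_weakClosure Q L
    rwa [hwcEq, h3] at h4
  exact ⟨hLs, fun hMQ => hLs (hLsM.trans hMQ)⟩

end Cfsg.Agent.S2846
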