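import Cfsg.Statements.S2848
import Cfsg.Agent.Lib.Helper47_Large

set_option autoImplicit false
open Cfsg

namespace Cfsg.Agent.S2848

open Cfsg.Agent.Lib.Helper47_PLocal Cfsg.Agent.Lib.Helper47_PClosed Cfsg.Agent.Lib.Helper47_Conj
open Cfsg.Agent.Lib.Helper47_SubAPI Cfsg.Agent.Lib.Helper47_WeaklyClosed Cfsg.Agent.Lib.Helper47_Large

/-- Standing hypotheses: G a finite group, S a Sylow p-subgroup, Q a nontrivial large p-subgroup of G contained in S (C_G(Q) ≤ Q and N_G(U) ≤ N_G(Q) for all nontrivial U ≤ C_G(Q)), and M a subgroup containing S with the basic property (M ∈ 𝔐_G(S)); Y_M denotes the largest p-reduced normal subgroup of M and M† = M·C_G(Y_M). Then O_p(M) is a weakly closed subgroup of M† (for p): it is the only M†-conjugate of itself inside some Sylow p-subgroup of M† containing it. -/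
theorem result {G : Type*} [Group G] [Finite G] {p : ℕ} [Fact p.Prime] (S : Sylow p G) (Q : Subgroup G) (hQp : IsPGroup p ↥Q) (hQ1 : Q ≠ ⊥) (hQS : Q ≤ (S : Subgroup G)) (hQ : Cfsg.IsLarge Q) (M : Subgroup G) (hSM : (S : Subgroup G) ≤ M) (hM : Cfsg.IsInFrakM p M) : Cfsg.IsWeaklyClosedSubgroup p (((Cfsg.pCoreOf p M)).subgroupOf (M ⊔ Subgroup.centralizer (((Cfsg.largestPReducedOf p M) : Subgroup G) : Set G))) := by
  obtain ⟨-, -, -, -, hcl, -⟩ := hM
  have hY : PRedIn p M (Cfsg.largestPReducedOf p M) := pRedIn_largestPReducedOf p M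
  -- abbreviations
  have hMd : M ≤ M ⊔ Subgroup.centralizer (((Cfsg.largestPReducedOf p M) : Subgroup G) : Set G) :=
    le_sup_left
  have hSMd := hSM.trans hMd
  have hAM : Cfsg.pCoreOf p M ≤ M := pCoreOf_le M
  have hAS : Cfsg.pCoreOf p M ≤ (S : Subgroup G) := pCoreOf_le_sylow S hSM
  have hAC : Cfsg.pCoreOf p M ≤
      Subgroup.centralizer (((Cfsg.largestPReducedOf p M) : Subgroup G) : Set G) :=
    hY.pCoreOf_le_centralizer
  -- `M†` normalizes `C(Y_M)`
  have hMdN : M ⊔ Subgroup.centralizer (((Cfsg.largestPReducedOf p M) : Subgroup G) : Set G) ≤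
      Subgroup.normalizer ((Subgroup.centralizer (((Cfsg.largestPReducedOf p M) : Subgroup G) : Set G)
        : Subgroup G) : Set G) :=
    (sup_le hY.2.1 (Subgroup.centralizer_le_normalizer _)).trans
      (normalizer_le_normalizer_centralizer _)
  -- `S ∩ C(Y_M) ≤ O_p(M)`
  have hMn : M ≤ Subgroup.normalizer ((M ⊓ Subgroup.centralizer
      (((Cfsg.largestPReducedOf p M) : Subgroup G) : Set G) : Subgroup G) : Set G) :=
    (le_inf Subgroup.le_normalizer (hMd.trans hMdN)).trans (normalizer_inf_le_normalizer_inf _ _)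
  have hOO : Cfsg.pCoreOf p (M ⊓ Subgroup.centralizer
      (((Cfsg.largestPReducedOf p M) : Subgroup G) : Set G)) ≤ Cfsg.pCoreOf p M :=
    le_pCoreOf ((pCoreOf_le _).trans inf_le_left)
      (le_normalizer_pCoreOf_of_le_normalizer hMn) (isPGroup_pCoreOf _)
  have hSC : (S : Subgroup G) ⊓ Subgroup.centralizer
      (((Cfsg.largestPReducedOf p M) : Subgroup G) : Set G) ≤ Cfsg.pCoreOf p M := by
    intro g hg
    apply hOO
    exact (isPClosed_subgroup_iff _).mp hcl g ⟨hSM hg.1, hg.2⟩
      (exists_pow_eq_one_of_mem S.isPGroup' hg.1)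
  refine ⟨S.subtype hSMd, ?_, ?_⟩
  · rw [Sylow.coe_subtype]
    exact Subgroup.comap_mono hAS
  · intro g hg
    rw [Sylow.coe_subtype] at hg
    -- translate to `G`
    have hAMd : Cfsg.pCoreOf p M ≤
        M ⊔ Subgroup.centralizer (((Cfsg.largestPReducedOf p M) : Subgroup G) : Set G) :=
      hAM.trans hMd
    have h1 := Subgroup.map_mono (f := Subgroup.subtype _) hg
    rw [map_conj_map_subtype, Subgroup.map_subgroupOf_eq_of_le hAMd,
      Subgroup.map_subgroupOf_eq_of_le hSMd] at h1
    -- the conjugate lies in `C(Y_M)`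
    have h2 : (Cfsg.pCoreOf p M).map (MulAut.conj (g : G)).toMonoidHom ≤
        Subgroup.centralizer (((Cfsg.largestPReducedOf p M) : Subgroup G) : Set G) := by
      have := mem_normalizer_iff_map_conj_eq'.mp (hMdN g.2)
      exact (Subgroup.map_mono hAC).trans this.le
    have h3 : (Cfsg.pCoreOf p M).map (MulAut.conj (g : G)).toMonoidHom ≤ Cfsg.pCoreOf p M :=
      (le_inf h1 h2).trans hSC
    have h4 : (Cfsg.pCoreOf p M).map (MulAut.conj (g : G)).toMonoidHom = Cfsg.pCoreOf p M := by
      apply Subgroup.eq_of_le_of_card_ge h3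
      rw [Subgroup.card_map_of_injective (MulAut.conj (g : G)).injective]
    have h5 : ((Cfsg.pCoreOf p M).subgroupOf (M ⊔ Subgroup.centralizer
        (((Cfsg.largestPReducedOf p M) : Subgroup G) : Set G))).map (MulAut.conj g).toMonoidHom =
        ((((Cfsg.pCoreOf p M).subgroupOf (M ⊔ Subgroup.centralizer
        (((Cfsg.largestPReducedOf p M) : Subgroup G) : Set G))).map
          (MulAut.conj g).toMonoidHom).map (Subgroup.subtype _)).subgroupOf _ :=
      (map_subtype_subgroupOf_map _ _).symm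
    rw [h5, map_conj_map_subtype, Subgroup.map_subgroupOf_eq_of_le hAMd, h4]

end Cfsg.Agent.S2848
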