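import Cfsg.Statements.S2849
import Cfsg.Agent.Lib.Helper47_Large

set_option autoImplicit false
open Cfsg

namespace Cfsg.Agent.S2849

open Cfsg.Agent.Lib.Helper47_PLocal Cfsg.Agent.Lib.Helper47_PClosed Cfsg.Agent.Lib.Helper47_Conj
open Cfsg.Agent.Lib.Helper47_SubAPI Cfsg.Agent.Lib.Helper47_WeaklyClosed Cfsg.Agent.Lib.Helper47_Large
open Cfsg.Agent.Lib.Helper47_PReduced

/-- Standing hypotheses: G a finite group, S a Sylow p-subgroup, Q a nontrivial large p-subgroup of G contained in S (C_G(Q) ≤ Q and N_G(U) ≤ N_G(Q) for all nontrivial U ≤ C_G(Q)), and M a subgroup containing S with the basic property (M ∈ 𝔐_G(S)); Y_M denotes the largest p-reduced normal subgroup of M and M† = M·C_G(Y_M). Suppose Y_M is asymmetric in G. Then for every subgroup R with Y_M ≤ R ≤ M†, the normal closure of Y_M in N_G(R) is elementary abelian. -/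
theorem result {G : Type*} [Group G] [Finite G] {p : ℕ} [Fact p.Prime] (S : Sylow p G) (Q : Subgroup G) (hQp : IsPGroup p ↥Q) (hQ1 : Q ≠ ⊥) (hQS : Q ≤ (S : Subgroup G)) (hQ : Cfsg.IsLarge Q) (M : Subgroup G) (hSM : (S : Subgroup G) ≤ M) (hM : Cfsg.IsInFrakM p M) (hasym : ¬ Cfsg.IsSymmetricIn (Cfsg.largestPReducedOf p M)) (R : Subgroup G) (hYR : (Cfsg.largestPReducedOf p M) ≤ R) (hRM : R ≤ (M ⊔ Subgroup.centralizer (((Cfsg.largestPReducedOf p M) : Subgroup G) : Set G))) : Cfsg.IsElementaryAbelian p ((Subgroup.normalClosure ((((Cfsg.largestPReducedOf p M)).subgroupOf (Subgroup.normalizer ((R : Subgroup G) : Set G)) : Subgroup ↥(Subgroup.normalizer ((R : Subgroup G) : Set G))) : Set ↥(Subgroup.normalizer ((R : Subgroup G) : Set G)))).map (Subgroup.normalizer ((R : Subgroup G) : Set G)).subtype) := by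
  have hY : PRedIn p M (Cfsg.largestPReducedOf p M) := pRedIn_largestPReducedOf p M
  have hMdN : M ⊔ Subgroup.centralizer (((Cfsg.largestPReducedOf p M) : Subgroup G) : Set G) ≤
      Subgroup.normalizer ((Cfsg.largestPReducedOf p M : Subgroup G) : Set G) :=
    sup_le hY.2.1 (Subgroup.centralizer_le_normalizer _)
  have hRN : R ≤ Subgroup.normalizer ((Cfsg.largestPReducedOf p M : Subgroup G) : Set G) :=
    hRM.trans hMdN
  have hYN : Cfsg.largestPReducedOf p M ≤ Subgroup.normalizer ((R : Subgroup G) : Set G) :=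
    hYR.trans Subgroup.le_normalizer
  -- `Y` commutes with its `N(R)`-conjugates
  have key : ∀ m ∈ Subgroup.normalizer ((R : Subgroup G) : Set G),
      ∀ y ∈ Cfsg.largestPReducedOf p M,
      ∀ z ∈ (Cfsg.largestPReducedOf p M).map (MulAut.conj m).toMonoidHom, Commute y z := by
    intro m hm
    have hmR : R.map (MulAut.conj m).toMonoidHom = R := mem_normalizer_iff_map_conj_eq'.mp hm
    have h1 : (Cfsg.largestPReducedOf p M).map (MulAut.conj m).toMonoidHom ≤
        Subgroup.normalizer ((Cfsg.largestPReducedOf p M : Subgroup G) : Set G) :=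
      ((Subgroup.map_mono hYR).trans hmR.le).trans hRN
    have h2 : Cfsg.largestPReducedOf p M ≤ Subgroup.normalizer
        (((Cfsg.largestPReducedOf p M).map (MulAut.conj m).toMonoidHom : Subgroup G) : Set G) := by
      rw [normalizer_map_conj]
      exact (hYR.trans hmR.ge).trans (Subgroup.map_mono hRN)
    have h3 := commutator_le_inf_of_le_normalizer h2 h1
    have h4 : ⁅Cfsg.largestPReducedOf p M,
        (Cfsg.largestPReducedOf p M).map (MulAut.conj m).toMonoidHom⁆ = ⊥ := by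
      by_contra hne
      exact hasym ⟨m, hne, h3⟩
    rw [Subgroup.commutator_eq_bot_iff_le_centralizer] at h4
    intro y hy z hz
    exact (Subgroup.mem_centralizer_iff.mp (h4 hy) z hz).symm
  rw [normalClosure_eq_iSup_map_conj, Subgroup.map_iSup]
  have hrw : ∀ n : ↥(Subgroup.normalizer ((R : Subgroup G) : Set G)),
      (((Cfsg.largestPReducedOf p M).subgroupOf (Subgroup.normalizer ((R : Subgroup G) : Set G))).map
        (MulAut.conj n).toMonoidHom).map (Subgroup.normalizer ((R : Subgroup G) : Set G)).subtype =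
      (Cfsg.largestPReducedOf p M).map (MulAut.conj (n : G)).toMonoidHom := by
    intro n
    rw [map_conj_map_subtype, Subgroup.map_subgroupOf_eq_of_le hYN]
  simp only [hrw]
  rw [Subgroup.iSup_eq_closure]
  apply isElementaryAbelian_closure
  · intro a ha b hb
    simp only [Set.mem_iUnion, SetLike.mem_coe] at ha hb
    obtain ⟨n₁, y₁, hy₁, rfl⟩ := ha
    obtain ⟨n₂, y₂, hy₂, rfl⟩ := hb
    have hm : (n₁ : G)⁻¹ * (n₂ : G) ∈ Subgroup.normalizer ((R : Subgroup G) : Set G) :=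
      Subgroup.mul_mem _ (Subgroup.inv_mem _ n₁.2) n₂.2
    have h5 := key _ hm y₁ hy₁ ((MulAut.conj ((n₁ : G)⁻¹ * (n₂ : G))).toMonoidHom y₂)
      (Subgroup.mem_map_of_mem _ hy₂)
    have h6 : y₁ * ((n₁ : G)⁻¹ * (n₂ : G) * y₂ * ((n₁ : G)⁻¹ * (n₂ : G))⁻¹) =
        ((n₁ : G)⁻¹ * (n₂ : G) * y₂ * ((n₁ : G)⁻¹ * (n₂ : G))⁻¹) * y₁ := h5.eq
    show (MulAut.conj (n₁ : G)).toMonoidHom y₁ * (MulAut.conj (n₂ : G)).toMonoidHom y₂ =
      (MulAut.conj (n₂ : G)).toMonoidHom y₂ * (MulAut.conj (n₁ : G)).toMonoidHom y₁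
    simp only [MulEquiv.coe_toMonoidHom, MulAut.conj_apply]
    calc (n₁ : G) * y₁ * (n₁ : G)⁻¹ * ((n₂ : G) * y₂ * (n₂ : G)⁻¹)
        = (n₁ : G) * (y₁ * ((n₁ : G)⁻¹ * (n₂ : G) * y₂ * ((n₁ : G)⁻¹ * (n₂ : G))⁻¹)) * (n₁ : G)⁻¹ := by
          group
      _ = (n₁ : G) * (((n₁ : G)⁻¹ * (n₂ : G) * y₂ * ((n₁ : G)⁻¹ * (n₂ : G))⁻¹) * y₁) * (n₁ : G)⁻¹ := by
          rw [h6]
      _ = (n₂ : G) * y₂ * (n₂ : G)⁻¹ * ((n₁ : G) * y₁ * (n₁ : G)⁻¹) := by group
  · intro a ha
    simp only [Set.mem_iUnion, SetLike.mem_coe] at ha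
    obtain ⟨n, y, hy, rfl⟩ := ha
    rw [← map_pow, hY.2.2.1.2 y hy, map_one]

end Cfsg.Agent.S2849
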