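import Cfsg.Statements.S2850
import Cfsg.Agent.Lib.Helper48_Asym

set_option autoImplicit false
open Cfsg

namespace Cfsg.Agent.S2850

open Cfsg.Agent.Lib.Helper48_Asym Cfsg.Agent.Lib.Helper48_MSS Cfsg.Agent.Lib.Helper48_MSS2
  Cfsg.Agent.Lib.Helper47_PClosed Cfsg.Agent.Lib.Helper47_PLocal Cfsg.Agent.Lib.Helper47_Conj
  Cfsg.Agent.Lib.Helper47_WeaklyClosed Cfsg.Agent.Lib.Helper47_WC2 Cfsg.Agent.Lib.Helper47_SubAPI
  Cfsg.Agent.Lib.Helper47_TW Cfsg.Agent.Lib.Helper47_Large Cfsg.Agent.Lib.Helper47_FrakM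
open scoped commutatorElement

/-- The standing hypotheses give the data of `Helper48_Asym`. -/
theorem asymData {G : Type*} [Group G] [Finite G] {p : ℕ} [Fact p.Prime] (S : Sylow p G)
    (Q : Subgroup G) (hQp : IsPGroup p ↥Q) (hQ1 : Q ≠ ⊥) (hQ : Cfsg.IsLarge Q) (M : Subgroup G)
    (hSM : (S : Subgroup G) ≤ M) (hM : Cfsg.IsInFrakM p M)
    (hasym : ¬ Cfsg.IsSymmetricIn (Cfsg.largestPReducedOf p M)) :
    AsymData p S M (Cfsg.largestPReducedOf p M) (Cfsg.pCoreOf p M)
      (M ⊔ Subgroup.centralizer (((Cfsg.largestPReducedOf p M) : Subgroup G) : Set G)) := by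
  have hY : PRedIn p M (Cfsg.largestPReducedOf p M) := pRedIn_largestPReducedOf p M
  have hMd : M ≤ M ⊔ Subgroup.centralizer (((Cfsg.largestPReducedOf p M) : Subgroup G) : Set G) :=
    le_sup_left
  have hMdN : M ⊔ Subgroup.centralizer (((Cfsg.largestPReducedOf p M) : Subgroup G) : Set G) ≤
      Subgroup.normalizer ((Subgroup.centralizer (((Cfsg.largestPReducedOf p M) : Subgroup G) : Set G)
        : Subgroup G) : Set G) :=
    (sup_le hY.2.1 (Subgroup.centralizer_le_normalizer _)).trans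
      (normalizer_le_normalizer_centralizer _)
  refine
    { hSM := hSM
      hYR := hY.le_pCoreOf
      hRS := pCoreOf_le_sylow S hSM
      hMY := hY.2.1
      hMR := le_normalizer_pCoreOf M
      hY1 := largestPReducedOf_ne_bot S hSM hM.1
      hMd := rfl
      hRC := hY.pCoreOf_le_centralizer
      hSC := ?_
      hover := ?_
      hMdcore := pCoreOf_ne_bot_of_mem_charPSubgroups hM.2.1.1
      hasym := hasym }
  · -- `S ∩ C(Y_M) ≤ O_p(M)` (as in S2848)
    have hcl := hM.2.2.2.2.1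
    have hMn : M ≤ Subgroup.normalizer ((M ⊓ Subgroup.centralizer
        (((Cfsg.largestPReducedOf p M) : Subgroup G) : Set G) : Subgroup G) : Set G) :=
      (le_inf Subgroup.le_normalizer (hMd.trans hMdN)).trans (normalizer_inf_le_normalizer_inf _ _)
    have hOO : Cfsg.pCoreOf p (M ⊓ Subgroup.centralizer
        (((Cfsg.largestPReducedOf p M) : Subgroup G) : Set G)) ≤ Cfsg.pCoreOf p M :=
      le_pCoreOf ((pCoreOf_le _).trans inf_le_left)
        (le_normalizer_pCoreOf_of_le_normalizer hMn) (isPGroup_pCoreOf _)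
    intro g hg
    apply hOO
    exact (isPClosed_subgroup_iff _).mp hcl g ⟨hSM hg.1, hg.2⟩
      (exists_pow_eq_one_of_mem S.isPGroup' hg.1)
  · intro L hML hne
    have hpar : Cfsg.IsParabolic p L := ⟨S, hSM.trans hML⟩
    have hne' : Cfsg.pCore p ↥L ≠ ⊥ := (Cfsg.Agent.S2845.pCoreOf_ne_bot_iff _).mp hne
    have hcen := (Cfsg.Agent.S2845.result Q hQp hQ1 hQ).2.1 _ hpar hne'
    have hmem : L ∈ Cfsg.charPSubgroups p G := ⟨hne', hcen⟩
    obtain ⟨X, hLX, hXmax⟩ := (Set.toFinite (Cfsg.charPSubgroups p G)).exists_le_maximal hmem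
    have hXmem : X ∈ Cfsg.maxCharPSubgroups p G :=
      ⟨hXmax.prop, fun L' hL' hXL' => (hXmax.eq_of_le hL' hXL').symm⟩
    have hX := hM.2.2.1 X hXmem (hML.trans hLX)
    rw [← hX]; exact hLX

/-- Standing hypotheses: G a finite group, S a Sylow p-subgroup, Q a nontrivial large p-subgroup of G contained in S (C_G(Q) ≤ Q and N_G(U) ≤ N_G(Q) for all nontrivial U ≤ C_G(Q)), and M a subgroup containing S with the basic property (M ∈ 𝔐_G(S)); Y_M denotes the largest p-reduced normal subgroup of M and M† = M·C_G(Y_M). Suppose Y_M is asymmetric in G. Then N_G(L) ≤ N_G(O_p(M)) ≤ M† for every p-subgroup L containing O_p(M); O_p(M) is a weakly closed subgroup of G; for every subgroup L containing O_p(M), L ∩ M† contains a Sylow p-subgroup of L; and two elements of Y_M conjugate in G are conjugate in M. -/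
theorem result {G : Type*} [Group G] [Finite G] {p : ℕ} [Fact p.Prime] (S : Sylow p G) (Q : Subgroup G) (hQp : IsPGroup p ↥Q) (hQ1 : Q ≠ ⊥) (hQS : Q ≤ (S : Subgroup G)) (hQ : Cfsg.IsLarge Q) (M : Subgroup G) (hSM : (S : Subgroup G) ≤ M) (hM : Cfsg.IsInFrakM p M) (hasym : ¬ Cfsg.IsSymmetricIn (Cfsg.largestPReducedOf p M)) : (∀ L : Subgroup G, IsPGroup p ↥L → (Cfsg.pCoreOf p M) ≤ L → Subgroup.normalizer ((L : Subgroup G) : Set G) ≤ Subgroup.normalizer (((Cfsg.pCoreOf p M) : Subgroup G) : Set G) ∧ Subgroup.normalizer (((Cfsg.pCoreOf p M) : Subgroup G) : Set G) ≤ (M ⊔ Subgroup.centralizer (((Cfsg.largestPReducedOf p M) : Subgroup G) : Set G))) ∧ Cfsg.IsWeaklyClosedSubgroup p (Cfsg.pCoreOf p M) ∧ (∀ L : Subgroup G, (Cfsg.pCoreOf p M) ≤ L → Cfsg.IsParabolic p ((L ⊓ (M ⊔ Subgroup.centralizer (((Cfsg.largestPReducedOf p M) : Subgroup G) : Set G))).subgroupOf L)) ∧ (∀ x ∈ (Cfsg.largestPReducedOf p M), ∀ g : G, g * x * g⁻¹ ∈ (Cfsg.largestPReducedOf p M) →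 ∃ m ∈ M, m * x * m⁻¹ = g * x * g⁻¹) := by
  classical
  have d := asymData S Q hQp hQ1 hQ M hSM hM hasym
  set Y : Subgroup G := Cfsg.largestPReducedOf p M with hY
  set R : Subgroup G := Cfsg.pCoreOf p M with hR
  set Md : Subgroup G := M ⊔ Subgroup.centralizer ((Y : Subgroup G) : Set G) with hMd
  have hwcR := d.isWeaklyClosedSubgroup
  refine ⟨?_, hwcR, ?_, ?_⟩
  · intro L hL hRL
    exact ⟨d.normalizer_le hL hRL, d.normalizer_R_le⟩
  · intro L hRL
    have hR'p : IsPGroup p (R.subgroupOf L) := d.hRp.comap_subtype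
    obtain ⟨T, hT⟩ := hR'p.exists_le_sylow
    refine ⟨T, ?_⟩
    set TG : Subgroup G := (T : Subgroup L).map L.subtype with hTG
    have hTp : IsPGroup p TG := T.isPGroup'.map _
    have hRT : R ≤ TG := by
      have := Subgroup.map_mono (f := L.subtype) hT
      rwa [Subgroup.map_subgroupOf_eq_of_le hRL] at this
    have hTMd : TG ≤ Md :=
      Subgroup.le_normalizer.trans ((d.normalizer_le hTp hRT).trans d.normalizer_R_le)
    intro t ht
    rw [Subgroup.mem_subgroupOf]
    exact ⟨t.2, hTMd (Subgroup.mem_map_of_mem L.subtype ht)⟩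
  · intro x hx g hgx
    -- `K = C_G(gxg⁻¹)` contains `R` and `R^g`
    set x' : G := g * x * g⁻¹ with hx'
    set K : Subgroup G := Subgroup.centralizer ({x'} : Set G) with hK
    have hRK : R ≤ K := by
      intro r hr
      rw [hK, Subgroup.mem_centralizer_iff]
      intro z hz
      rw [Set.mem_singleton_iff] at hz
      rw [hz]
      have := Subgroup.mem_centralizer_iff.mp (d.hRC hr) x' hgx
      exact this
    have hRgK : R.map (MulAut.conj g).toMonoidHom ≤ K := by
      rintro _ ⟨r, hr, rfl⟩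
      rw [hK, Subgroup.mem_centralizer_iff]
      intro z hz
      rw [Set.mem_singleton_iff] at hz
      rw [hz]
      have h1 : x * r = r * x := Subgroup.mem_centralizer_iff.mp (d.hRC hr) x hx
      simp only [MulEquiv.coe_toMonoidHom, MulAut.conj_apply, hx']
      calc g * x * g⁻¹ * (g * r * g⁻¹) = g * (x * r) * g⁻¹ := by group
        _ = g * (r * x) * g⁻¹ := by rw [h1]
        _ = g * r * g⁻¹ * (g * x * g⁻¹) := by group
    obtain ⟨k, hk, hgk⟩ := wc_conj_in_subgroup d.hRp hwcR hRK g hRgK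
    -- `k⁻¹ g ∈ N(R) ≤ Md`
    have hn : k⁻¹ * g ∈ Subgroup.normalizer (R : Set G) := by
      rw [mem_normalizer_iff_map_conj_eq', ← map_conj_map_conj, hgk, map_conj_inv_map_conj]
    have hnMd : k⁻¹ * g ∈ Md := d.normalizer_R_le hn
    have hnMd' : k⁻¹ * g ∈ Subgroup.centralizer ((Y : Subgroup G) : Set G) ⊔ M := by
      rw [sup_comm]; exact hnMd
    have hMC : M ≤ Subgroup.normalizer
        ((Subgroup.centralizer ((Y : Subgroup G) : Set G) : Subgroup G) : Set G) :=
      d.hMMd.trans d.hMdC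
    obtain ⟨c, hc, m, hm, hcm⟩ := exists_mul_of_mem_sup_of_le_normalizer hMC hnMd'
    refine ⟨m, hm, ?_⟩
    have hmx : m * x * m⁻¹ ∈ Y := (Subgroup.mem_normalizer_iff.mp (d.hMY hm) x).mp hx
    have hc' : (m * x * m⁻¹) * c = c * (m * x * m⁻¹) :=
      Subgroup.mem_centralizer_iff.mp hc _ hmx
    have hkx : x' * k = k * x' := by
      have := Subgroup.mem_centralizer_iff.mp hk x' (Set.mem_singleton x')
      exact this
    have e1 : (k⁻¹ * g) * x * (k⁻¹ * g)⁻¹ = x' := by
      have : (k⁻¹ * g) * x * (k⁻¹ * g)⁻¹ = k⁻¹ * x' * k := by rw [hx']; group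
      rw [this]
      calc k⁻¹ * x' * k = k⁻¹ * (x' * k) := by group
        _ = k⁻¹ * (k * x') := by rw [hkx]
        _ = x' := by group
    have e2 : (k⁻¹ * g) * x * (k⁻¹ * g)⁻¹ = m * x * m⁻¹ := by
      rw [hcm]
      calc c * m * x * (c * m)⁻¹ = c * (m * x * m⁻¹) * c⁻¹ := by group
        _ = (m * x * m⁻¹) * c * c⁻¹ := by rw [hc']
        _ = m * x * m⁻¹ := by group
    rw [← e2, e1]

end Cfsg.Agent.S2850
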