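import Cfsg.Statements.S2852
import Cfsg.Agent.S2850
import Cfsg.Agent.S2842
import Cfsg.Agent.Lib.Helper48_FrakH

set_option autoImplicit false
open Cfsg

namespace Cfsg.Agent.S2852

open Cfsg.Agent.Lib.Helper48_Asym Cfsg.Agent.Lib.Helper48_FrakH Cfsg.Agent.Lib.Helper48_MSS
  Cfsg.Agent.Lib.Helper48_MSS2
  Cfsg.Agent.Lib.Helper47_PClosed Cfsg.Agent.Lib.Helper47_PLocal Cfsg.Agent.Lib.Helper47_Conj
  Cfsg.Agent.Lib.Helper47_WeaklyClosed Cfsg.Agent.Lib.Helper47_WC2 Cfsg.Agent.Lib.Helper47_SubAPI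
  Cfsg.Agent.Lib.Helper47_TW Cfsg.Agent.Lib.Helper47_Large Cfsg.Agent.Lib.Helper47_FrakM
  Cfsg.Agent.Lib.Helper49_CharP
open scoped commutatorElement

/-- A `p`-subgroup of `K` is `K`-conjugate into a given Sylow `p`-subgroup of `K`. -/
theorem exists_mem_map_conj_le_sylow_subgroup {G : Type*} [Group G] [Finite G] {p : ℕ}
    [Fact p.Prime] {K : Subgroup G} (T : Sylow p ↥K) {X : Subgroup G} (hX : IsPGroup p X)
    (hXK : X ≤ K) :
    ∃ k ∈ K, X.map (MulAut.conj k).toMonoidHom ≤ (T : Subgroup ↥K).map K.subtype := by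
  have hX' : IsPGroup p (X.subgroupOf K) := hX.comap_subtype
  obtain ⟨P, hP⟩ := hX'.exists_le_sylow
  obtain ⟨k, hk⟩ := MulAction.exists_smul_eq K P T
  refine ⟨k, k.2, ?_⟩
  have h1 : (X.subgroupOf K).map (MulAut.conj k).toMonoidHom ≤
      ((k • P : Sylow p K) : Subgroup K) := by
    rw [sylow_smul_eq_map_conj]
    exact Subgroup.map_mono hP
  rw [hk] at h1
  have h2 := Subgroup.map_mono (f := K.subtype) h1
  rwa [map_conj_map_subtype, Subgroup.map_subgroupOf_eq_of_le hXK] at h2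

/-- Standing hypotheses: G a finite group, S a Sylow p-subgroup, Q a nontrivial large p-subgroup of G contained in S, M a subgroup containing S with the basic property (M ∈ 𝔐_G(S)); Y_M the largest p-reduced normal subgroup of M. If Y_M is char-p-tall and asymmetric in G, then some subgroup H of G lies in ℌ_G(O_p(M)): H has characteristic p, O_p(M) ≤ H, Y_M ≰ O_p(H), and Y_M ≤ O_p(P) for every proper subgroup P of H containing O_p(M). -/
theorem result {G : Type*} [Group G] [Finite G] {p : ℕ} [Fact p.Prime] (S : Sylow p G) (Q : Subgroup G) (hQp : IsPGroup p ↥Q) (hQ1 : Q ≠ ⊥) (hQS : Q ≤ (S : Subgroup G)) (hQ : Cfsg.IsLarge Q) (M : Subgroup G) (hSM : (S : Subgroup G) ≤ M) (hM : Cfsg.IsInFrakM p M) (htall : Cfsg.IsCharPTall p (Cfsg.largestPReducedOf p M)) (hasym : ¬ Cfsg.IsSymmetricIn (Cfsg.largestPReducedOf p M)) : ∃ H : Subgroup G, Cfsg.IsInFrakH p M H := by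
  classical
  have d := Cfsg.Agent.S2850.asymData S Q hQp hQ1 hQ M hSM hM hasym
  set Y : Subgroup G := Cfsg.largestPReducedOf p M with hY
  set R : Subgroup G := Cfsg.pCoreOf p M with hR
  have hwcR := d.isWeaklyClosedSubgroup
  have hCR : Subgroup.centralizer ((R : Subgroup G) : Set G) ≤ R := hM.1.2
  -- the family
  set ℱ : Set (Subgroup G) := {L | R ≤ L ∧ IsCharP p ↥L ∧ ¬ Y ≤ Cfsg.pCoreOf p L} with hℱ
  -- nonempty
  obtain ⟨T, L₀, hTL₀, hL₀char, hL₀Y⟩ := htall
  obtain ⟨c, hc, hRc⟩ := exists_mem_map_conj_le_sylow_subgroup T d.hRp d.hRC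
  have hL₁ : L₀.map (MulAut.conj c⁻¹).toMonoidHom ∈ ℱ := by
    refine ⟨?_, ?_, ?_⟩
    · rw [← map_conj_le_iff]
      exact hRc.trans hTL₀
    · exact IsCharP.of_mulEquiv ((MulAut.conj c⁻¹).subgroupMap L₀) hL₀char
    · intro hYL
      apply hL₀Y
      have h1 := Subgroup.map_mono (f := (MulAut.conj c).toMonoidHom) hYL
      have h2 := map_conj_pCoreOf_le (p := p) (L₀.map (MulAut.conj c⁻¹).toMonoidHom) c
      rw [map_conj_map_conj_inv] at h2
      have h3 : Y.map (MulAut.conj c).toMonoidHom = Y :=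
        mem_normalizer_iff_map_conj_eq'.mp (Subgroup.centralizer_le_normalizer _ hc)
      rw [h3] at h1
      exact h1.trans h2
  obtain ⟨H, -, hHmin⟩ := (Set.toFinite ℱ).exists_le_minimal hL₁
  obtain ⟨hRH, hHchar, hYH⟩ := hHmin.prop
  refine ⟨H, hHchar, hRH, hYH, ?_⟩
  intro P hRP hPH
  by_contra hYP
  have hPle : P ≤ H := hPH.le
  -- `P` has characteristic `p`, by S2842 inside `H`
  have hPchar : IsCharP p ↥P := by
    have hQ'p : IsPGroup p (R.subgroupOf H) := d.hRp.comap_subtype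
    have hQ'1 : R.subgroupOf H ≠ ⊥ := by
      intro h0
      apply d.hR1
      have := Subgroup.map_subgroupOf_eq_of_le hRH
      rw [h0, Subgroup.map_bot] at this
      exact this.symm
    have hQ'wc : Cfsg.IsWeaklyClosedSubgroup p (R.subgroupOf H) := wc_subgroupOf d.hRp hwcR hRH
    have hQ'C : Subgroup.centralizer ((R.subgroupOf H : Subgroup ↥H) : Set ↥H) ≤ R.subgroupOf H := by
      rw [centralizer_eq_subgroupOf, Subgroup.map_subgroupOf_eq_of_le hRH]
      exact Subgroup.comap_mono hCR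
    have hQ'L : R.subgroupOf H ≤ P.subgroupOf H := Subgroup.comap_mono hRP
    have h1 := (Cfsg.Agent.S2842.result (R.subgroupOf H) hQ'p hQ'1 hQ'wc hQ'C (P.subgroupOf H)
      hQ'L (Or.inl hHchar)).2.2
    exact IsCharP.of_mulEquiv (Subgroup.subgroupOfEquivOfLe hPle) h1
  have hPmem : P ∈ ℱ := ⟨hRP, hPchar, hYP⟩
  have := hHmin.le_of_le hPmem hPle
  exact absurd hPH (not_lt_of_ge this)

end Cfsg.Agent.S2852
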