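import Cfsg.Statements.S2853
import Cfsg.Agent.S2850
import Cfsg.Agent.Lib.Helper48_FrakH

set_option autoImplicit false
open Cfsg

namespace Cfsg.Agent.S2853

open Cfsg.Agent.Lib.Helper48_Asym Cfsg.Agent.Lib.Helper48_FrakH Cfsg.Agent.Lib.Helper48_MSS
  Cfsg.Agent.Lib.Helper48_MSS2
  Cfsg.Agent.Lib.Helper47_PClosed Cfsg.Agent.Lib.Helper47_PLocal Cfsg.Agent.Lib.Helper47_Conj
  Cfsg.Agent.Lib.Helper47_WeaklyClosed Cfsg.Agent.Lib.Helper47_WC2 Cfsg.Agent.Lib.Helper47_SubAPI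
  Cfsg.Agent.Lib.Helper47_TW Cfsg.Agent.Lib.Helper47_Large Cfsg.Agent.Lib.Helper47_FrakM
open scoped commutatorElement

/-- If `J ≤ H` contains (the image of) a Sylow `p`-subgroup of `H`, then every Sylow `p`-subgroup of
`J` is (the image of) a Sylow `p`-subgroup of `H`. -/
theorem sylow_of_sylow_le {G : Type*} [Group G] [Finite G] {p : ℕ} [Fact p.Prime]
    {J H : Subgroup G} (hJH : J ≤ H) (P₀ : Sylow p ↥H)
    (hP₀ : (P₀ : Subgroup ↥H).map H.subtype ≤ J) (T : Sylow p ↥J) :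
    ∃ P : Sylow p ↥H, (P : Subgroup ↥H).map H.subtype = (T : Subgroup ↥J).map J.subtype := by
  set TG : Subgroup G := (T : Subgroup ↥J).map J.subtype with hTG
  set PG : Subgroup G := (P₀ : Subgroup ↥H).map H.subtype with hPG
  have hTGJ : TG ≤ J := Subgroup.map_subtype_le _
  have hTGH : TG ≤ H := hTGJ.trans hJH
  have hTGp : IsPGroup p TG := T.isPGroup'.map _
  have hPGp : IsPGroup p PG := P₀.isPGroup'.map _
  -- `|P₀| ≤ |T|`
  have hPJp : IsPGroup p (PG.subgroupOf J) := hPGp.comap_subtype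
  obtain ⟨T', hT'⟩ := hPJp.exists_le_sylow
  have hc1 : Nat.card (PG.subgroupOf J) = Nat.card (P₀ : Subgroup ↥H) := by
    rw [Nat.card_congr (Subgroup.subgroupOfEquivOfLe hP₀).toEquiv, hPG,
      Subgroup.card_map_of_injective H.subtype_injective]
  have hc2 : Nat.card (T' : Subgroup ↥J) = Nat.card (T : Subgroup ↥J) := by
    rw [Sylow.card_eq_multiplicity, Sylow.card_eq_multiplicity]
  have hc3 : Nat.card (P₀ : Subgroup ↥H) ≤ Nat.card (T : Subgroup ↥J) := by
    rw [← hc1, ← hc2]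
    exact Subgroup.card_le_of_le hT'
  -- a Sylow subgroup of `H` containing `TG`
  have hTHp : IsPGroup p (TG.subgroupOf H) := hTGp.comap_subtype
  obtain ⟨P, hP⟩ := hTHp.exists_le_sylow
  have hc4 : Nat.card (TG.subgroupOf H) = Nat.card (T : Subgroup ↥J) := by
    rw [Nat.card_congr (Subgroup.subgroupOfEquivOfLe hTGH).toEquiv, hTG,
      Subgroup.card_map_of_injective J.subtype_injective]
  have hc5 : Nat.card (P : Subgroup ↥H) = Nat.card (P₀ : Subgroup ↥H) := by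
    rw [Sylow.card_eq_multiplicity, Sylow.card_eq_multiplicity]
  have heq : TG.subgroupOf H = (P : Subgroup ↥H) := by
    apply Subgroup.eq_of_le_of_card_ge hP
    rw [hc4, hc5]; exact hc3
  refine ⟨P, ?_⟩
  rw [← heq, Subgroup.map_subgroupOf_eq_of_le hTGH]

/-- Standing hypotheses: G a finite group, S a Sylow p-subgroup, Q a nontrivial large p-subgroup of G contained in S, M a subgroup containing S with the basic property (M ∈ 𝔐_G(S)); Y_M the largest p-reduced normal subgroup of M and M† = M·C_G(Y_M). Suppose Y_M is char-p-tall and asymmetric in G and H ∈ ℌ_G(O_p(M)). Then every Sylow p-subgroup of H ∩ M† is a Sylow p-subgroup of H; O_p(H) normalizes O_p(M) and Y_M; O^p(H) = [O^p(H), Y_M] and H = O^p(H)·O_p(M); O^p(H)·Y_M is the normal closure of Y_M in H; and H is the normal closure of O_p(M) in H. Here O^p(H) is the subgroup generated by the elements of H of order prime to p. -/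
theorem result {G : Type*} [Group G] [Finite G] {p : ℕ} [Fact p.Prime] (S : Sylow p G) (Q : Subgroup G) (hQp : IsPGroup p ↥Q) (hQ1 : Q ≠ ⊥) (hQS : Q ≤ (S : Subgroup G)) (hQ : Cfsg.IsLarge Q) (M : Subgroup G) (hSM : (S : Subgroup G) ≤ M) (hM : Cfsg.IsInFrakM p M) (htall : Cfsg.IsCharPTall p (Cfsg.largestPReducedOf p M)) (hasym : ¬ Cfsg.IsSymmetricIn (Cfsg.largestPReducedOf p M)) (H : Subgroup G) (hH : Cfsg.IsInFrakH p M H) (R : Subgroup G) (hR : R = (Cfsg.pResidual p ↥H).map H.subtype) : (∀ T : Sylow p ↥(H ⊓ (M ⊔ Subgroup.centralizer (((Cfsg.largestPReducedOf p M) : Subgroup G) : Set G))), ∃ P : Sylow p ↥H, ((P : Subgroup ↥H).map H.subtype) = (T : Subgroup ↥(H ⊓ (M ⊔ Subgroup.centralizer (((Cfsg.largestPReducedOf p M) : Subgroup G) : Set G)))).map (H ⊓ (M ⊔ Subgroup.centralizer (((Cfsg.largestPReducedOf p M) : Subgroup G) : Set G))).subtype) ∧ Cfsg.pCoreOf p H ≤ Subgroup.normalizer (((Cfsg.pCoreOf p M) : Subgroup G) : Set G) ⊓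 Subgroup.normalizer (((Cfsg.largestPReducedOf p M) : Subgroup G) : Set G) ∧ ⁅R, (Cfsg.largestPReducedOf p M)⁆ = R ∧ R ⊔ (Cfsg.pCoreOf p M) = H ∧ R ⊔ (Cfsg.largestPReducedOf p M) = (Subgroup.normalClosure ((((Cfsg.largestPReducedOf p M)).subgroupOf H : Subgroup ↥H) : Set ↥H)).map H.subtype ∧ (Subgroup.normalClosure ((((Cfsg.pCoreOf p M)).subgroupOf H : Subgroup ↥H) : Set ↥H)).map H.subtype = H := by
  classical
  have d := Cfsg.Agent.S2850.asymData S Q hQp hQ1 hQ M hSM hM hasym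
  obtain ⟨-, hRH, hYH, hmin⟩ := hH
  rw [map_subtype_pResidual_eq_opUp] at hR
  subst hR
  refine ⟨?_, pCoreOf_le_normalizer d hRH, commutator_opUp_Y_eq d hRH hYH hmin,
    opUp_sup_R_eq d hRH hYH hmin, ?_, ?_⟩
  · intro T
    obtain ⟨P₀, hP₀⟩ := (Cfsg.Agent.S2850.result S Q hQp hQ1 hQS hQ M hSM hM hasym).2.2.1 H hRH
    apply sylow_of_sylow_le inf_le_left P₀ _ T
    rintro _ ⟨x, hx, rfl⟩
    exact Subgroup.mem_subgroupOf.mp (hP₀ hx)
  · rw [map_normalClosure_subgroupOf (d.hYR.trans hRH)]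
    exact opUp_sup_Y_eq d hRH hYH hmin
  · rw [map_normalClosure_subgroupOf hRH]
    exact iSup_map_conj_R_eq d hRH hYH hmin

end Cfsg.Agent.S2853
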