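import Cfsg.Statements.S2854
import Cfsg.Agent.S2850
import Cfsg.Agent.S2852
import Cfsg.Agent.Lib.Helper48_FrakH

set_option autoImplicit false
open Cfsg

namespace Cfsg.Agent.S2854

open Cfsg.Agent.Lib.Helper48_Asym Cfsg.Agent.Lib.Helper48_FrakH Cfsg.Agent.Lib.Helper48_MSS
  Cfsg.Agent.Lib.Helper48_MSS2
  Cfsg.Agent.Lib.Helper47_PClosed Cfsg.Agent.Lib.Helper47_PLocal Cfsg.Agent.Lib.Helper47_Conj
  Cfsg.Agent.Lib.Helper47_WeaklyClosed Cfsg.Agent.Lib.Helper47_WC2 Cfsg.Agent.Lib.Helper47_SubAPI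
  Cfsg.Agent.Lib.Helper47_TW Cfsg.Agent.Lib.Helper47_Large Cfsg.Agent.Lib.Helper47_FrakM
open Cfsg.Agent.S2852 (exists_mem_map_conj_le_sylow_subgroup)
open scoped commutatorElement

/-- The `p`-irreducibility argument.  `H₁ = H Q₁` with `H` normal in `H₁`, `Q₁` a `p`-group
normalizing `R`; `N` normal in `H₁` and not `p`-closed.  Then `O^p(H) ≤ N`. -/
theorem opUp_le_of_not_isPClosed {G : Type*} [Group G] [Finite G] {p : ℕ} [Fact p.Prime]
    {S : Sylow p G} {M Y R Md : Subgroup G} (d : AsymData p S M Y R Md) {H : Subgroup G}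
    (hRH : R ≤ H) (hYH : ¬ Y ≤ Cfsg.pCoreOf p H)
    (hmin : ∀ P : Subgroup G, R ≤ P → P < H → Y ≤ Cfsg.pCoreOf p P)
    (Q₁ : Subgroup G) (hQ₁p : IsPGroup p ↥Q₁)
    (hQ₁R : Q₁ ≤ Subgroup.normalizer (R : Set G)) (hQ₁H : Q₁ ≤ Subgroup.normalizer (H : Set G))
    (NG : Subgroup G) (hNG : NG ≤ H ⊔ Q₁)
    (hnorm : H ⊔ Q₁ ≤ Subgroup.normalizer (NG : Set G))
    (hncl : ¬ Cfsg.IsPClosed p ↥NG) : opUp p H ≤ NG := by
  classical
  set H₁ : Subgroup G := H ⊔ Q₁ with hH₁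
  have hHH₁ : H ≤ H₁ := le_sup_left
  have hQ₁H₁ : Q₁ ≤ H₁ := le_sup_right
  have hH₁H : H₁ ≤ Subgroup.normalizer (H : Set G) := sup_le Subgroup.le_normalizer hQ₁H
  -- a Sylow subgroup of `H₁` containing `R Q₁`
  have hR₁p : IsPGroup p ↥(R ⊔ Q₁) := IsPGroup.to_sup_of_normal_left' d.hRp hQ₁p hQ₁R
  have hR₁H₁ : R ⊔ Q₁ ≤ H₁ := sup_le (hRH.trans hHH₁) hQ₁H₁
  have hR₁'p : IsPGroup p ((R ⊔ Q₁).subgroupOf H₁) := hR₁p.comap_subtype
  obtain ⟨P₁, hP₁⟩ := hR₁'p.exists_le_sylow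
  set T₁ : Subgroup G := (P₁ : Subgroup ↥H₁).map H₁.subtype with hT₁
  have hT₁p : IsPGroup p ↥T₁ := P₁.isPGroup'.map _
  have hT₁H₁ : T₁ ≤ H₁ := Subgroup.map_subtype_le _
  have hR₁T₁ : R ⊔ Q₁ ≤ T₁ := by
    have := Subgroup.map_mono (f := H₁.subtype) hP₁
    rwa [Subgroup.map_subgroupOf_eq_of_le hR₁H₁] at this
  set TN : Subgroup G := NG ⊓ T₁ with hTN
  have hTNp : IsPGroup p ↥TN := hT₁p.to_le inf_le_right
  have hT₁TN : T₁ ≤ Subgroup.normalizer (TN : Set G) := by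
    intro t ht
    exact mem_normalizer_inf (hnorm (hT₁H₁ ht)) (Subgroup.le_normalizer ht)
  have hNGconj : ∀ h ∈ H₁, NG.map (MulAut.conj h).toMonoidHom = NG :=
    fun h hh => mem_normalizer_iff_map_conj_eq'.mp (hnorm hh)
  by_cases hHTN : H ≤ Subgroup.normalizer (TN : Set G)
  · -- then `NG` is `p`-closed
    exfalso
    apply hncl
    have hH₁TN : H₁ ≤ Subgroup.normalizer (TN : Set G) :=
      sup_le hHTN ((le_sup_right.trans hR₁T₁).trans hT₁TN)
    have hTNcore : TN ≤ Cfsg.pCoreOf p NG :=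
      le_pCoreOf inf_le_left (hNG.trans hH₁TN) hTNp
    rw [isPClosed_subgroup_iff]
    rintro x hx ⟨k, hk⟩
    apply hTNcore
    have hzp : IsPGroup p (Subgroup.zpowers x) := zpowers_isPGroup_of_pow_eq_one hk
    have hzH₁ : Subgroup.zpowers x ≤ H₁ := by
      rw [Subgroup.zpowers_le]; exact hNG hx
    obtain ⟨h, hh, hzh⟩ := exists_mem_map_conj_le_sylow_subgroup P₁ hzp hzH₁
    have h1 : h * x * h⁻¹ ∈ TN := by
      refine ⟨?_, ?_⟩
      · exact (Subgroup.mem_normalizer_iff.mp (hnorm hh) x).mp hx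
      · apply hzh
        exact ⟨x, Subgroup.mem_zpowers x, by simp⟩
    have h2 := (Subgroup.mem_normalizer_iff.mp (hH₁TN (H₁.inv_mem hh)) (h * x * h⁻¹)).mp h1
    have e : h⁻¹ * (h * x * h⁻¹) * h⁻¹⁻¹ = x := by group
    rwa [e] at h2
  · -- `P = N_H(TN) < H`
    set P : Subgroup G := H ⊓ Subgroup.normalizer (TN : Set G) with hP
    have hlt : P < H := by
      refine lt_of_le_of_ne inf_le_left ?_
      intro heq
      apply hHTN
      rw [← heq]; exact inf_le_right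
    have hRP : R ≤ P := le_inf hRH ((le_sup_left.trans hR₁T₁).trans hT₁TN)
    have hYP := hmin P hRP hlt
    set P₁' : Subgroup G := H₁ ⊓ Subgroup.normalizer (TN : Set G) with hP₁'
    have hPP₁ : P ≤ P₁' := inf_le_inf_right _ hHH₁
    have hP₁P : P₁' ≤ Subgroup.normalizer (P : Set G) := by
      intro x hx
      exact mem_normalizer_inf (hH₁H hx.1) (Subgroup.le_normalizer hx.2)
    set V₁ : Subgroup G := Cfsg.pCoreOf p P₁' with hV₁
    have hYV₁ : Y ≤ V₁ := hYP.trans (pCoreOf_le_pCoreOf_of_le_normalizer hPP₁ hP₁P)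
    have hV₁p : IsPGroup p ↥V₁ := isPGroup_pCoreOf P₁'
    have hV₁NG : V₁ ≤ Subgroup.normalizer (NG : Set G) :=
      ((pCoreOf_le P₁').trans inf_le_left).trans hnorm
    -- `TN` gives a Sylow subgroup of `NG`
    have hmax : ∀ Q' : Subgroup ↥NG, IsPGroup p Q' → TN.subgroupOf NG ≤ Q' →
        Q' = TN.subgroupOf NG := by
      intro Q' hQ' hle
      symm
      apply Subgroup.eq_of_le_of_card_ge hle
      set QG : Subgroup G := Q'.map NG.subtype with hQG
      have hQGp : IsPGroup p ↥QG := hQ'.map _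
      have hQGN : QG ≤ NG := Subgroup.map_subtype_le _
      obtain ⟨h, hh, hQh⟩ := exists_mem_map_conj_le_sylow_subgroup P₁ hQGp (hQGN.trans hNG)
      have h1 : QG.map (MulAut.conj h).toMonoidHom ≤ TN := by
        refine le_inf ?_ hQh
        calc QG.map (MulAut.conj h).toMonoidHom ≤ NG.map (MulAut.conj h).toMonoidHom :=
              Subgroup.map_mono hQGN
          _ = NG := hNGconj h hh
      have h2 := Subgroup.card_le_of_le h1
      rw [Subgroup.card_map_of_injective (MulAut.conj h).injective, hQG,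
        Subgroup.card_map_of_injective NG.subtype_injective] at h2
      rw [Nat.card_congr (Subgroup.subgroupOfEquivOfLe (inf_le_left : TN ≤ NG)).toEquiv]
      exact h2
    let PN : Sylow p ↥NG :=
      { toSubgroup := TN.subgroupOf NG
        isPGroup' := hTNp.comap_subtype
        is_maximal' := fun hQ' hle => hmax _ hQ' hle }
    have hPNmap : (PN : Subgroup ↥NG).map NG.subtype = TN :=
      Subgroup.map_subgroupOf_eq_of_le inf_le_left
    -- Frattini
    have hfrat : ∀ h ∈ H₁, ∃ n ∈ NG, ∃ x ∈ P₁', h = n * x := by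
      intro h hh
      have h1 : TN.map (MulAut.conj h).toMonoidHom ≤ NG :=
        calc TN.map (MulAut.conj h).toMonoidHom ≤ NG.map (MulAut.conj h).toMonoidHom :=
              Subgroup.map_mono inf_le_left
          _ = NG := hNGconj h hh
      obtain ⟨n, hn, hnh⟩ := exists_mem_map_conj_le_sylow_subgroup PN (hTNp.map _) h1
      rw [hPNmap, map_conj_map_conj] at hnh
      have h2 : n * h ∈ Subgroup.normalizer (TN : Set G) :=
        mem_normalizer_iff_map_conj_eq'.mpr (map_conj_eq_of_le hnh)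
      refine ⟨n⁻¹, NG.inv_mem hn, n * h, ⟨H₁.mul_mem (hNG hn) hh, h2⟩, by group⟩
    -- all `H`-conjugates of `Y` lie in `NG V₁`
    have hconj : ∀ h : ↥H, Y.map (MulAut.conj (h : G)).toMonoidHom ≤ NG ⊔ V₁ := by
      intro h
      obtain ⟨n, hn, x, hx, hnx⟩ := hfrat (h : G) (hHH₁ h.2)
      rw [hnx, ← map_conj_map_conj]
      have h1 : Y.map (MulAut.conj x).toMonoidHom ≤ V₁ :=
        calc Y.map (MulAut.conj x).toMonoidHom ≤ V₁.map (MulAut.conj x).toMonoidHom :=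
              Subgroup.map_mono hYV₁
          _ = V₁ := mem_normalizer_iff_map_conj_eq'.mp (le_normalizer_pCoreOf P₁' hx)
      exact (Subgroup.map_mono h1).trans (map_conj_le_sup_of_mem hV₁NG hn)
    have hK : opUp p H ≤ NG ⊔ V₁ := by
      have := opUp_sup_Y_eq d hRH hYH hmin
      exact (le_sup_left.trans (le_of_eq this)).trans (iSup_le hconj)
    -- `p'`-generators
    unfold opUp
    rw [Subgroup.closure_le]
    intro x hx
    have hxK : x ∈ opUp p H := Subgroup.subset_closure hx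
    exact mem_of_mem_sup_of_coprime' hV₁p hV₁NG (hK hxK) hx.2

/-- Standing hypotheses: G a finite group, S a Sylow p-subgroup, Q a nontrivial large p-subgroup of G contained in S, M a subgroup containing S with the basic property (M ∈ 𝔐_G(S)); Y_M the largest p-reduced normal subgroup of M and M† = M·C_G(Y_M). Suppose Y_M is asymmetric in G, H ∈ ℌ_G(O_p(M)), and H ≤ N_G(gQg⁻¹) for some g ∈ G. Then gQg⁻¹ ≤ O_p(H·gQg⁻¹) ≤ N_G(O_p(M)) ≤ N_G(Y_M) = M†; H is normal in H·gQg⁻¹ with O^p(H) = O^p(H·gQg⁻¹); and H·gQg⁻¹ is p-irreducible. -/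
theorem result {G : Type*} [Group G] [Finite G] {p : ℕ} [Fact p.Prime] (S : Sylow p G) (Q : Subgroup G) (hQp : IsPGroup p ↥Q) (hQ1 : Q ≠ ⊥) (hQS : Q ≤ (S : Subgroup G)) (hQ : Cfsg.IsLarge Q) (M : Subgroup G) (hSM : (S : Subgroup G) ≤ M) (hM : Cfsg.IsInFrakM p M) (hasym : ¬ Cfsg.IsSymmetricIn (Cfsg.largestPReducedOf p M)) (H : Subgroup G) (hH : Cfsg.IsInFrakH p M H) (g : G) (hHQ : H ≤ Subgroup.normalizer ((((Q : Subgroup G).map (MulAut.conj (g : G)).toMonoidHom) : Subgroup G) : Set G)) : ((Q : Subgroup G).map (MulAut.conj (g : G)).toMonoidHom) ≤ Cfsg.pCoreOf p (H ⊔ ((Q : Subgroup G).map (MulAut.conj (g : G)).toMonoidHom)) ∧ Cfsg.pCoreOf p (H ⊔ ((Q : Subgroup G).map (MulAut.conj (g : G)).toMonoidHom)) ≤ Subgroup.normalizer (((Cfsg.pCoreOf p M) : Subgroup G) : Set G) ∧ Subgroup.normalizer (((Cfsg.pCoreOf p M) : Subgroup G) : Set G) ≤ Subgroup.normalizer (((Cfsg.largestPReducedOf p M) : Subgroup G) : Set G) ∧ Subgroup.normalizer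 (((Cfsg.largestPReducedOf p M) : Subgroup G) : Set G) = (M ⊔ Subgroup.centralizer (((Cfsg.largestPReducedOf p M) : Subgroup G) : Set G)) ∧ (H.subgroupOf (H ⊔ ((Q : Subgroup G).map (MulAut.conj (g : G)).toMonoidHom))).Normal ∧ (Cfsg.pResidual p ↥H).map H.subtype = (Cfsg.pResidual p ↥(H ⊔ ((Q : Subgroup G).map (MulAut.conj (g : G)).toMonoidHom))).map (H ⊔ ((Q : Subgroup G).map (MulAut.conj (g : G)).toMonoidHom)).subtype ∧ Cfsg.IsPIrreducible p ↥(H ⊔ ((Q : Subgroup G).map (MulAut.conj (g : G)).toMonoidHom)) := by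
  classical
  have d := Cfsg.Agent.S2850.asymData S Q hQp hQ1 hQ M hSM hM hasym
  obtain ⟨-, hRH, hYH, hmin⟩ := hH
  set Y : Subgroup G := Cfsg.largestPReducedOf p M with hY
  set R : Subgroup G := Cfsg.pCoreOf p M with hR
  set Q₁ : Subgroup G := Q.map (MulAut.conj g).toMonoidHom with hQ₁
  set H₁ : Subgroup G := H ⊔ Q₁ with hH₁
  have hQ₁p : IsPGroup p ↥Q₁ := hQp.map _
  have hHH₁ : H ≤ H₁ := le_sup_left
  have hQ₁H₁ : Q₁ ≤ H₁ := le_sup_right
  have hH₁Q₁ : H₁ ≤ Subgroup.normalizer (Q₁ : Set G) := sup_le hHQ Subgroup.le_normalizer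
  have c1 : Q₁ ≤ Cfsg.pCoreOf p H₁ := le_pCoreOf hQ₁H₁ hH₁Q₁ hQ₁p
  have c2 : Cfsg.pCoreOf p H₁ ≤ Subgroup.normalizer (R : Set G) :=
    (pCoreOf_le_normalizer d (hRH.trans hHH₁)).trans inf_le_left
  have c3 : Subgroup.normalizer (R : Set G) ≤ Subgroup.normalizer (Y : Set G) :=
    d.normalizer_R_le.trans d.hMdY
  have c4 := d.normalizer_Y_eq
  have hQ₁R : Q₁ ≤ Subgroup.normalizer (R : Set G) := c1.trans c2
  -- `Q₁` normalizes `H = ⟨R^H⟩`
  have hQ₁H : Q₁ ≤ Subgroup.normalizer (H : Set G) := by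
    apply le_normalizer_of_forall_map_conj_le
    intro q hq
    conv_lhs => rw [← iSup_map_conj_R_eq d hRH hYH hmin]
    rw [Subgroup.map_iSup]
    refine iSup_le (fun h => ?_)
    rw [map_conj_map_conj]
    -- `q h = h (h⁻¹ q h)`
    have hq' : (h : G)⁻¹ * q * (h : G)⁻¹⁻¹ ∈ Q₁ :=
      (Subgroup.mem_normalizer_iff.mp (hHQ (H.inv_mem h.2)) q).mp hq
    have e : q * (h : G) = (h : G) * ((h : G)⁻¹ * q * (h : G)⁻¹⁻¹) := by group
    rw [e, ← map_conj_map_conj, mem_normalizer_iff_map_conj_eq'.mp (hQ₁R hq')]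
    calc R.map (MulAut.conj (h : G)).toMonoidHom ≤ H.map (MulAut.conj (h : G)).toMonoidHom :=
          Subgroup.map_mono hRH
      _ = H := map_conj_eq_self_of_mem h.2
  have hH₁H : H₁ ≤ Subgroup.normalizer (H : Set G) := sup_le Subgroup.le_normalizer hQ₁H
  have c5 : (H.subgroupOf H₁).Normal :=
    (Subgroup.normal_subgroupOf_iff_le_normalizer hHH₁).mpr hH₁H
  -- `O^p(H) = O^p(H₁)`
  have hop : opUp p H = opUp p H₁ := by
    apply le_antisymm (opUp_mono hHH₁)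
    unfold opUp
    rw [Subgroup.closure_le]
    intro x hx
    exact Subgroup.subset_closure ⟨mem_of_mem_sup_of_coprime' hQ₁p hQ₁H hx.1 hx.2, hx.2⟩
  have c6 : (Cfsg.pResidual p ↥H).map H.subtype = (Cfsg.pResidual p ↥H₁).map H₁.subtype := by
    rw [map_subtype_pResidual_eq_opUp, map_subtype_pResidual_eq_opUp, hop]
  refine ⟨c1, c2, c3, c4, c5, c6, ?_, ?_⟩
  · -- not `p`-closed
    intro hcl
    have h1 := (isPClosed_subgroup_iff H₁).mp hcl
    have hYp : IsPGroup p ↥Y := d.hRp.to_le d.hYR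
    have hYH₁ : Y ≤ Cfsg.pCoreOf p H₁ := by
      intro y hy
      exact h1 y (hHH₁ (hRH (d.hYR hy))) (exists_pow_eq_one_of_mem hYp hy)
    apply hYH
    refine (le_inf hYH₁ (d.hYR.trans hRH)).trans ?_
    apply le_pCoreOf inf_le_right
    · intro h hh
      exact mem_normalizer_inf (le_normalizer_pCoreOf H₁ (hHH₁ hh)) (Subgroup.le_normalizer hh)
    · exact (isPGroup_pCoreOf H₁).to_le inf_le_left
  · intro N hN hNcl
    set NG : Subgroup G := N.map H₁.subtype with hNG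
    have hNGH₁ : NG ≤ H₁ := Subgroup.map_subtype_le _
    have hnorm : H₁ ≤ Subgroup.normalizer (NG : Set G) := (normal_iff_le_normalizer_map H₁ N).mp hN
    have hncl : ¬ Cfsg.IsPClosed p ↥NG := by
      intro h
      apply hNcl
      exact isPClosed_of_mulEquiv (N.equivMapOfInjective H₁.subtype H₁.subtype_injective).symm h
    have hK := opUp_le_of_not_isPClosed d hRH hYH hmin Q₁ hQ₁p hQ₁R hQ₁H NG hNGH₁ hnorm hncl
    rw [hop, ← map_subtype_pResidual_eq_opUp] at hK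
    exact (Subgroup.map_le_map_iff_of_injective H₁.subtype_injective).mp hK

end Cfsg.Agent.S2854
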