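import Cfsg.Statements.S2856
import Cfsg.Agent.Lib.Helper13_VIter

set_option autoImplicit false
open Cfsg

namespace Cfsg.Agent.S2856

open Cfsg.Agent.Lib.Helper46_Amalgam Cfsg.Agent.Lib.Helper46_Amalgam2
open Cfsg.Agent.Lib.Helper13_VIter

/-- Every vertex of the coset graph has a neighbour. -/
theorem exists_adj {X : Type*} [Group X] (M₁ M₂ : Subgroup X) (lam : Cfsg.CosetVertex M₁ M₂) :
    ∃ μ : Cfsg.CosetVertex M₁ M₂, (Cfsg.cosetGraph M₁ M₂).Adj lam μ := by
  obtain ⟨y, rfl | rfl⟩ := vertex_cases lam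
  · exact ⟨_, Cfsg.Agent.S2740.adj_inl_inr M₁ M₂ y⟩
  · exact ⟨_, (Cfsg.Agent.S2740.adj_inl_inr M₁ M₂ y).symm⟩

theorem normalizer_inf_le_normalizer_sup {X : Type*} [Group X] (A B : Subgroup X) :
    Subgroup.normalizer (A : Set X) ⊓ Subgroup.normalizer (B : Set X) ≤
      Subgroup.normalizer ((A ⊔ B : Subgroup X) : Set X) := by
  intro g hg
  have hA : A.map (MulAut.conj g).toMonoidHom = A := Subgroup.mem_normalizer_iff_map_conj_eq.mp hg.1
  have hB : B.map (MulAut.conj g).toMonoidHom = B := Subgroup.mem_normalizer_iff_map_conj_eq.mp hg.2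
  rw [Subgroup.mem_normalizer_iff_map_conj_eq]
  have := Subgroup.map_sup A B (MulAut.conj g).toMonoidHom
  rw [hA, hB] at this
  exact this

/-- Let (M₁, M₂) be an amalgam pair in X satisfying the rank-two standing hypothesis (characteristic p, the normalizers in M₁ and in M₂ of a Sylow p-subgroup of M₁ ∩ M₂ equal and contained in M₁ ∩ M₂, and strongly p-embedded residues), λ a vertex of the coset graph, L_λ the subgroup of its stabilizer generated by the p-elements, Q_λ = O_p of the stabilizer, O^p(L_λ) the subgroup of L_λ generated by its elements of order prime to p, and V_λ^{(k)} the subgroup generated by the Z_μ over the vertices μ at distance at most k from λ (Z_μ being generated by the Ω₁(Z(S)), S a Sylow p-subgroup of the stabilizer of μ). If n ≥ 1 and V_λ^{(n)} ≤ Q_λ, then O^p(L_λ) does not centralize V_λ^{(n)}/[V_λ^{(n)}, Q_λ], that is, [V_λ^{(n)}, O^p(L_λ)] is not contained in [V_λ^{(n)}, Q_λ]. -/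
theorem result {X : Type*} [Group X] {p : ℕ} [Fact p.Prime] (M₁ M₂ : Subgroup X) (h : Cfsg.IsSpeAmalgamPair p M₁ M₂) (lam : Cfsg.CosetVertex M₁ M₂) (n : ℕ) (hn : 1 ≤ n) (V : Subgroup X) (hV : V = Cfsg.vertexVIter p M₁ M₂ n lam) (hVQ : V ≤ Cfsg.vertexQ p lam) : ¬ ⁅V, ((Cfsg.pResidual p ↥(Cfsg.pElementClosure p (MulAction.stabilizer X lam))).map (Cfsg.pElementClosure p (MulAction.stabilizer X lam)).subtype)⁆ ≤ ⁅V, Cfsg.vertexQ p lam⁆ := by
  intro hc
  obtain ⟨μ, hadj⟩ := exists_adj M₁ M₂ lam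
  have hconn := connected h.1.1
  obtain ⟨m, rfl⟩ : ∃ m, n = m + 1 := ⟨n - 1, by omega⟩
  have hfl := stab_finite h.1 lam
  -- abbreviations
  obtain ⟨U, hU⟩ : ∃ U : Subgroup X, U = Cfsg.vertexVIter p M₁ M₂ m μ := ⟨_, rfl⟩
  obtain ⟨Q, hQ⟩ : ∃ Q : Subgroup X, Q = Cfsg.vertexQ p lam := ⟨_, rfl⟩
  obtain ⟨O, hO⟩ : ∃ O : Subgroup X, O = (Cfsg.pResidual p ↥(Cfsg.pElementClosure p
    (MulAction.stabilizer X lam))).map (Cfsg.pElementClosure p (MulAction.stabilizer X lam)).subtype :=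
    ⟨_, rfl⟩
  rw [← hQ] at hVQ hc
  rw [← hO] at hc
  have hUV : U ≤ V := by rw [hU, hV]; exact vertexVIter_adj_le hconn hadj m
  have hGV : MulAction.stabilizer X lam ≤ Subgroup.normalizer (V : Set X) := by
    rw [hV]; exact stab_le_normalizer_vertexVIter h.1 (m + 1) lam
  have hGQ : MulAction.stabilizer X lam ≤ Subgroup.normalizer (Q : Set X) := by
    rw [hQ]
    exact Cfsg.Agent.Lib.Helper47_PClosed.le_normalizer_pCoreOf_of_le_normalizer Subgroup.le_normalizer
  have hGW : MulAction.stabilizer X lam ≤ Subgroup.normalizer ((⁅V, Q⁆ : Subgroup X) : Set X) :=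
    (le_inf hGV hGQ).trans
      (Cfsg.Agent.Lib.Helper47_PClosed.normalizer_inf_le_normalizer_commutator V Q)
  have hOG : O ≤ MulAction.stabilizer X lam := by
    rw [hO]
    rintro _ ⟨x, _, rfl⟩
    exact Cfsg.Agent.S2749.pElementClosure_le p _ x.2
  have hμU : MulAction.stabilizer X μ ≤ Subgroup.normalizer (U : Set X) := by
    rw [hU]; exact stab_le_normalizer_vertexVIter h.1 m μ
  have hOY : O ≤ Subgroup.normalizer ((U ⊔ ⁅V, Q⁆ : Subgroup X) : Set X) :=
    le_normalizer_sup_of_commutator_le hUV hc (hOG.trans hGW)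
  have hEY : MulAction.stabilizer X lam ⊓ MulAction.stabilizer X μ ≤
      Subgroup.normalizer ((U ⊔ ⁅V, Q⁆ : Subgroup X) : Set X) :=
    (le_inf (inf_le_right.trans hμU) (inf_le_left.trans hGW)).trans
      (normalizer_inf_le_normalizer_sup U ⁅V, Q⁆)
  have hGY : MulAction.stabilizer X lam ≤ Subgroup.normalizer ((U ⊔ ⁅V, Q⁆ : Subgroup X) : Set X) :=
    stab_le_normalizer_of h hadj (U ⊔ ⁅V, Q⁆) (hO ▸ hOY) hEY
  have hVY : V ≤ U ⊔ ⁅V, Q⁆ := by
    have h1 := vertexVIter_succ_le_of_invariant h hadj m (U ⊔ ⁅V, Q⁆) hGY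
      (by rw [← hU]; exact le_sup_left)
    rwa [← hV] at h1
  -- `Q` is a finite `p`-group, hence nilpotent
  have hQG : Q ≤ MulAction.stabilizer X lam := by
    rw [hQ]
    rintro _ ⟨x, _, rfl⟩
    exact x.2
  have hfinQ : Finite Q := Finite.of_injective _ (Subgroup.inclusion_injective hQG)
  have hQp : IsPGroup p Q := by
    rw [hQ]
    exact (pCore_isPGroup p _).map _
  have hnil : Group.IsNilpotent Q := hQp.isNilpotent
  have hQμ : Q ≤ MulAction.stabilizer X μ := by
    rw [hQ]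
    exact (Cfsg.Agent.S2746.result M₁ M₂ h.1 lam).trans (neighbourKernel_le_stab_of_adj hadj)
  have hVU : V ≤ U :=
    le_of_le_sup_commutator Q U V (hUV.trans hVQ) hVQ (hQμ.trans hμU) hVY
  have hEq : U = V := le_antisymm hUV hVU
  refine no_common_normal h hadj U ?_ ?_ ?_ hμU
  · rw [hU]
    apply vertexZ_le_vertexVIter
    rw [SimpleGraph.dist_self]; exact Nat.zero_le _
  · rw [← hQ]; exact hUV.trans hVQ
  · rw [← hO, hEq]
    exact hOG.trans hGV

end Cfsg.Agent.S2856
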