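import Cfsg.Statements.S2857
import Cfsg.Agent.Lib.Helper13_VIter

set_option autoImplicit false
open Cfsg

namespace Cfsg.Agent.S2857

open Cfsg.Agent.Lib.Helper46_Amalgam Cfsg.Agent.Lib.Helper46_Amalgam2
open Cfsg.Agent.Lib.Helper13_VIter

/-- Every vertex of the coset graph has a neighbour. -/
theorem exists_adj {X : Type*} [Group X] (M₁ M₂ : Subgroup X) (lam : Cfsg.CosetVertex M₁ M₂) :
    ∃ μ : Cfsg.CosetVertex M₁ M₂, (Cfsg.cosetGraph M₁ M₂).Adj lam μ := by
  obtain ⟨y, rfl | rfl⟩ := vertex_cases lam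
  · exact ⟨_, Cfsg.Agent.S2740.adj_inl_inr M₁ M₂ y⟩
  · exact ⟨_, (Cfsg.Agent.S2740.adj_inl_inr M₁ M₂ y).symm⟩

/-- Let (M₁, M₂) be an amalgam pair in X satisfying the rank-two standing hypothesis (characteristic p, the normalizers in M₁ and in M₂ of a Sylow p-subgroup of M₁ ∩ M₂ equal and contained in M₁ ∩ M₂, and strongly p-embedded residues), λ a vertex of the coset graph, L_λ the subgroup of its stabilizer generated by the p-elements, Q_λ = O_p of the stabilizer, O^p(L_λ) the subgroup of L_λ generated by its elements of order prime to p, and V_λ^{(k)} the subgroup generated by the Z_μ over the vertices μ at distance at most k from λ (Z_μ being generated by the Ω₁(Z(S)), S a Sylow p-subgroup of the stabilizer of μ). If n ≥ 2 and V_λ^{(n)} ≤ Q_λ, then O^p(L_λ) does not centralize V_λ^{(n)}/V_λ^{(n-2)}, that is, [V_λ^{(n)}, O^p(L_λ)] is not contained in V_λ^{(n-2)}. -/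
theorem result {X : Type*} [Group X] {p : ℕ} [Fact p.Prime] (M₁ M₂ : Subgroup X) (h : Cfsg.IsSpeAmalgamPair p M₁ M₂) (lam : Cfsg.CosetVertex M₁ M₂) (n : ℕ) (hn : 2 ≤ n) (hVQ : Cfsg.vertexVIter p M₁ M₂ n lam ≤ Cfsg.vertexQ p lam) : ¬ ⁅Cfsg.vertexVIter p M₁ M₂ n lam, ((Cfsg.pResidual p ↥(Cfsg.pElementClosure p (MulAction.stabilizer X lam))).map (Cfsg.pElementClosure p (MulAction.stabilizer X lam)).subtype)⁆ ≤ Cfsg.vertexVIter p M₁ M₂ (n - 2) lam := by
  intro hc
  obtain ⟨μ, hadj⟩ := exists_adj M₁ M₂ lam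
  have hconn := connected h.1.1
  obtain ⟨m, rfl⟩ : ∃ m, n = m + 2 := ⟨n - 2, by omega⟩
  have hUV : Cfsg.vertexVIter p M₁ M₂ (m + 1) μ ≤ Cfsg.vertexVIter p M₁ M₂ (m + 2) lam :=
    vertexVIter_adj_le hconn hadj (m + 1)
  have hWU : Cfsg.vertexVIter p M₁ M₂ (m + 2 - 2) lam ≤ Cfsg.vertexVIter p M₁ M₂ (m + 1) μ := by
    have : m + 2 - 2 = m := by omega
    rw [this]
    exact vertexVIter_adj_le hconn hadj.symm m
  refine no_common_normal h hadj (Cfsg.vertexVIter p M₁ M₂ (m + 1) μ) ?_ (hUV.trans hVQ) ?_ ?_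
  · apply vertexZ_le_vertexVIter
    rw [SimpleGraph.dist_self]; exact Nat.zero_le _
  · exact le_normalizer_of_commutator_le hUV hc hWU
  · exact stab_le_normalizer_vertexVIter h.1 (m + 1) μ

end Cfsg.Agent.S2857
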