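import Cfsg.Statements.S2859
import Cfsg.Agent.Lib.Helper48_MSS2

set_option autoImplicit false
open Cfsg

namespace Cfsg.Agent.S2859

open Cfsg.Agent.Lib.Helper48_MSS Cfsg.Agent.Lib.Helper48_MSS2 Cfsg.Agent.Lib.Helper47_PClosed
  Cfsg.Agent.Lib.Helper47_PLocal Cfsg.Agent.Lib.Helper47_Conj Cfsg.Agent.Lib.Helper47_WeaklyClosed
  Cfsg.Agent.Lib.Helper47_WC2 Cfsg.Agent.Lib.Helper47_SubAPI Cfsg.Agent.Lib.Helper47_TW
  Cfsg.Agent.Lib.Helper48_Coprime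
open scoped commutatorElement

/-- One side of the factorization. -/
theorem side {G : Type*} [Group G] [Finite G] {p : ℕ} [Fact p.Prime] (Q : Subgroup G)
    (hQp : IsPGroup p ↥Q) (hwc : Cfsg.IsWeaklyClosedSubgroup p Q) (Hc : Subgroup G)
    (hHc : Hc = Cfsg.weakClosure Q ⊤) (H₁ H₂ : Subgroup G)
    (hn₁ : H₁ ≤ Hc ∧ Hc ≤ Subgroup.normalizer ((H₁ : Subgroup G) : Set G))
    (hn₂ : H₂ ≤ Hc ∧ Hc ≤ Subgroup.normalizer ((H₂ : Subgroup G) : Set G))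
    (hprod : H₁ ⊔ H₂ = Hc)
    (hcomm : ⁅H₁, H₂⁆ ≤ Subgroup.normalizer ((Q : Subgroup G) : Set G)) :
    ⁅opUp p (Cfsg.weakClosure Q (H₁ ⊔ Q)), Q⁆ = opUp p (Cfsg.weakClosure Q (H₁ ⊔ Q)) ∧
    ⁅opUp p (Cfsg.weakClosure Q (H₁ ⊔ Q)), H₁⁆ = opUp p (Cfsg.weakClosure Q (H₁ ⊔ Q)) ∧
    opUp p (Cfsg.weakClosure Q (H₁ ⊔ Q)) ≤ ⁅H₁, H₁⁆ ∧
    Hc ≤ Subgroup.normalizer ((opUp p (Cfsg.weakClosure Q (H₁ ⊔ Q)) : Subgroup G) : Set G) ∧
    ⁅opUp p (Cfsg.weakClosure Q (H₁ ⊔ Q)), H₂⁆ ≤ Cfsg.pCoreOf p ⁅H₁, H₂⁆ ∧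
    (∀ h ∈ H₁, ∃ k ∈ opUp p (Cfsg.weakClosure Q (H₁ ⊔ Q)),
      Q.map (MulAut.conj h).toMonoidHom = Q.map (MulAut.conj k).toMonoidHom) ∧
    opUp p (Cfsg.weakClosure Q (H₁ ⊔ Q)) ≤ opUp p Hc := by
  classical
  have hQHc : Q ≤ Hc := by rw [hHc]; exact self_le_weakClosure le_top
  have hQH₁ : Q ≤ Subgroup.normalizer (H₁ : Set G) := hQHc.trans hn₁.2
  have hH₂H₁ : H₂ ≤ Subgroup.normalizer (H₁ : Set G) := hn₂.1.trans hn₁.2
  have hH₁H₂ : H₁ ≤ Subgroup.normalizer (H₂ : Set G) := hn₁.1.trans hn₂.2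
  set V : Subgroup G := Cfsg.weakClosure Q (H₁ ⊔ Q) with hV
  set K : Subgroup G := opUp p V with hK
  set D : Subgroup G := ⁅H₁, H₂⁆ with hD
  set R₀ : Subgroup G := Cfsg.pCoreOf p D with hR₀
  have hVle : V ≤ H₁ ⊔ Q := weakClosure_le Q _
  have hQV : Q ≤ V := self_le_weakClosure le_sup_right
  have hLV : H₁ ⊔ Q ≤ Subgroup.normalizer (V : Set G) := le_normalizer_weakClosure Q _
  have hVK : Subgroup.normalizer (V : Set G) ≤ Subgroup.normalizer (K : Set G) :=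
    normalizer_le_normalizer_opUp p V
  have hQK : Q ≤ Subgroup.normalizer (K : Set G) := (le_sup_right.trans hLV).trans hVK
  have hH₁K : H₁ ≤ Subgroup.normalizer (K : Set G) := (le_sup_left.trans hLV).trans hVK
  have hsupHc : H₁ ⊔ Q ≤ Hc := sup_le hn₁.1 hQHc
  -- `K ≤ H₁`
  have hKH₁ : K ≤ H₁ := opUp_le_of_le_sup hQp hQH₁ hVle
  have hKV : K ≤ V := opUp_le p V
  -- conjugates inside `V`
  have hconjV : ∀ g : G, Q.map (MulAut.conj g).toMonoidHom ≤ V →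
      ∃ k ∈ K, Q.map (MulAut.conj g).toMonoidHom = Q.map (MulAut.conj k).toMonoidHom :=
    fun g hg => wc_exists_conj_opUp hQp hwc hQV g hg
  have hconjH : ∀ h ∈ H₁, ∃ k ∈ K,
      Q.map (MulAut.conj h).toMonoidHom = Q.map (MulAut.conj k).toMonoidHom := by
    intro h hh
    apply hconjV
    apply le_weakClosure
    calc Q.map (MulAut.conj h).toMonoidHom ≤ (H₁ ⊔ Q).map (MulAut.conj h).toMonoidHom :=
          Subgroup.map_mono le_sup_right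
      _ = H₁ ⊔ Q := map_conj_eq_self_of_mem (Subgroup.mem_sup_left hh)
  -- (a) `K = [K, Q]`
  have hK₀K : ⁅K, Q⁆ ≤ K := Subgroup.le_normalizer_iff_commutator_le_left.mp hQK
  have hQK₀ : Q ≤ Subgroup.normalizer ((⁅K, Q⁆ : Subgroup G) : Set G) :=
    le_normalizer_commutator_right K Q
  have hVK₀ : V ≤ ⁅K, Q⁆ ⊔ Q := by
    rw [hV]
    unfold Cfsg.weakClosure
    refine iSup_le (fun g => ?_)
    obtain ⟨k, hk, hgk⟩ := hconjV (g : G) (le_weakClosure g.2)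
    rw [hgk]
    rintro _ ⟨q, hq, rfl⟩
    have h1 : (MulAut.conj k).toMonoidHom q = ⁅k, q⁆ * q := by
      simp [commutatorElement_def]
    rw [h1]
    exact Subgroup.mul_mem _ (Subgroup.mem_sup_left (Subgroup.commutator_mem_commutator hk hq))
      (Subgroup.mem_sup_right hq)
  have hKK₀ : K ≤ ⁅K, Q⁆ := opUp_le_of_le_sup hQp hQK₀ hVK₀
  have ha : ⁅K, Q⁆ = K := le_antisymm hK₀K hKK₀
  -- Step (0): `[D, Hc] ≤ R₀`
  have hDH₁ : D ≤ H₁ := Subgroup.le_normalizer_iff_commutator_le_left.mp hH₂H₁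
  have hDH₂ : D ≤ H₂ := Subgroup.le_normalizer_iff_commutator_le_right.mp hH₁H₂
  have hHcD : Hc ≤ Subgroup.normalizer (D : Set G) := le_normalizer_commutator hn₁.2 hn₂.2
  have hHcR₀ : Hc ≤ Subgroup.normalizer (R₀ : Set G) :=
    hHcD.trans (normalizer_le_normalizer_pCoreOf' p D)
  have hR₀D : R₀ ≤ D := pCoreOf_le D
  have hR₀p : IsPGroup p ↥R₀ := isPGroup_pCoreOf D
  have hDHc : D ≤ Hc := hDH₁.trans hn₁.1
  have h0 : ⁅D, Hc⁆ ≤ R₀ := by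
    have hgen : Hc = ⨆ g : {g : G // Q.map (MulAut.conj g).toMonoidHom ≤ (⊤ : Subgroup G)},
        Q.map (MulAut.conj (g : G)).toMonoidHom := hHc
    have hall : ∀ g : G, Q.map (MulAut.conj g).toMonoidHom ≤ Hc := by
      intro g
      rw [hHc]; exact le_weakClosure le_top
    rw [hgen]
    apply commutator_iSup_le _ hHcR₀
    · intro g
      exact hall g
    · intro g
      obtain ⟨c, hc, hgc⟩ := wc_conj_in_subgroup hQp hwc hQHc (g : G) (hall g)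
      rw [hgc]
      have hDc : D.map (MulAut.conj c).toMonoidHom = D :=
        mem_normalizer_iff_map_conj_eq'.mp (hHcD hc)
      have h1 : D ≤ Subgroup.normalizer
          ((Q.map (MulAut.conj c).toMonoidHom : Subgroup G) : Set G) := by
        rw [normalizer_map_conj]
        calc D = D.map (MulAut.conj c).toMonoidHom := hDc.symm
          _ ≤ (Subgroup.normalizer (Q : Set G)).map (MulAut.conj c).toMonoidHom :=
            Subgroup.map_mono hcomm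
      have h2 : Q.map (MulAut.conj c).toMonoidHom ≤ Subgroup.normalizer (D : Set G) :=
        (hall c).trans hHcD
      have h3 := commutator_le_inf_of_le_normalizer h1 h2
      refine h3.trans ?_
      apply le_pCoreOf inf_le_left
      · intro d hd
        exact mem_normalizer_inf (Subgroup.le_normalizer hd) (h1 hd)
      · exact (hQp.map _).to_le inf_le_right
  -- Step (i)
  have hH₁R₀ : H₁ ≤ Subgroup.normalizer (R₀ : Set G) := hn₁.1.trans hHcR₀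
  have hDC : D ≤ relCommKer H₂ R₀ H₁ hH₁R₀ := by
    apply le_relCommKer _ hDH₁
    rw [Subgroup.commutator_comm]
    exact (Subgroup.commutator_mono le_rfl hn₂.1).trans h0
  have hDH₁R : ⁅D, H₁⁆ ≤ R₀ := (Subgroup.commutator_mono le_rfl hn₁.1).trans h0
  have hH'C : ⁅H₁, H₁⁆ ≤ relCommKer H₂ R₀ H₁ hH₁R₀ := by
    apply le_relCommKer _ (Subgroup.le_normalizer_iff_commutator_le_left.mp Subgroup.le_normalizer)
    rw [Subgroup.commutator_comm]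
    apply commutator_commutator_le_of_rotate hH₁R₀ hH₁R₀ (hn₂.1.trans hHcR₀)
    · exact hDH₁R
    · rw [Subgroup.commutator_comm H₂ H₁]; exact hDH₁R
  have hXC : ⁅H₁, Q⁆ ≤ relCommKer H₂ R₀ H₁ hH₁R₀ := by
    rw [Subgroup.commutator_le]
    intro y hy q hq
    have hq' : q ∈ H₁ ⊔ H₂ := by rw [hprod]; exact hQHc hq
    obtain ⟨h₁, hh₁, h₂, hh₂, rfl⟩ := exists_mul_of_mem_sup_of_le_normalizer hH₂H₁ hq'
    have h1 : ⁅y, h₁ * h₂⁆ = ⁅y, h₁⁆ * (h₁ * ⁅y, h₂⁆ * h₁⁻¹) := by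
      simp only [commutatorElement_def]; group
    rw [h1]
    apply Subgroup.mul_mem _ (hH'C (Subgroup.commutator_mem_commutator hy hh₁))
    apply hDC
    exact (Subgroup.mem_normalizer_iff.mp (hHcD (hn₁.1 hh₁)) _).mp
      (Subgroup.commutator_mem_commutator hy hh₂)
  have hXH₂ : ⁅H₂, ⁅H₁, Q⁆⁆ ≤ R₀ := commutator_le_of_le_relCommKer hH₁R₀ hXC
  have he : ⁅K, H₂⁆ ≤ R₀ := by
    rw [Subgroup.commutator_comm]
    refine (Subgroup.commutator_mono le_rfl ?_).trans hXH₂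
    rw [← ha]
    exact Subgroup.commutator_mono hKH₁ le_rfl
  -- (d) `Hc ≤ N(K)`
  have hR₀K : R₀ ≤ Subgroup.normalizer (K : Set G) := (hR₀D.trans hDH₁).trans hH₁K
  have hH₂K : H₂ ≤ Subgroup.normalizer (K : Set G) := by
    rw [hK]
    apply le_normalizer_opUp_of
    intro y hy x hx
    have hxK : x ∈ K := Subgroup.subset_closure hx
    set r : G := ⁅y, x⁆ with hr
    have hrR : r ∈ R₀ := by
      apply he
      rw [Subgroup.commutator_comm]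
      exact Subgroup.commutator_mem_commutator hy hxK
    have hxHc : x ∈ Hc := hn₁.1 (hKH₁ hxK)
    have hcR : x⁻¹ * r * x⁻¹⁻¹ ∈ R₀ :=
      (Subgroup.mem_normalizer_iff.mp (hHcR₀ (Hc.inv_mem hxHc)) r).mp hrR
    have heq : y * x * y⁻¹ = x * (x⁻¹ * r * x⁻¹⁻¹) := by
      rw [hr]; simp only [commutatorElement_def]; group
    rw [heq]
    apply mul_mem_of_coprime hR₀p hR₀K hxK hcR
    rw [← heq, orderOf_conj']
    exact hx.2
  have hd : Hc ≤ Subgroup.normalizer (K : Set G) := by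
    rw [← hprod]; exact sup_le hH₁K hH₂K
  -- (b) `[K, H₁] = K`
  have hN₁K : ⁅K, H₁⁆ ≤ K := Subgroup.le_normalizer_iff_commutator_le_left.mp hH₁K
  have hH₁N₁ : H₁ ≤ Subgroup.normalizer ((⁅K, H₁⁆ : Subgroup G) : Set G) :=
    le_normalizer_commutator hH₁K Subgroup.le_normalizer
  have hR₀N₁ : R₀ ≤ Subgroup.normalizer ((⁅K, H₁⁆ : Subgroup G) : Set G) :=
    (hR₀D.trans hDH₁).trans hH₁N₁
  have hKN₁R : K ≤ ⁅K, H₁⁆ ⊔ R₀ := by
    refine le_trans (le_of_eq ha.symm) ?_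
    rw [Subgroup.commutator_le]
    intro x hx q hq
    have hq' : q ∈ H₁ ⊔ H₂ := by rw [hprod]; exact hQHc hq
    obtain ⟨h₁, hh₁, h₂, hh₂, rfl⟩ := exists_mul_of_mem_sup_of_le_normalizer hH₂H₁ hq'
    have h1 : ⁅x, h₁ * h₂⁆ = ⁅x, h₁⁆ * (h₁ * ⁅x, h₂⁆ * h₁⁻¹) := by
      simp only [commutatorElement_def]; group
    rw [h1]
    apply Subgroup.mul_mem _ (Subgroup.mem_sup_left (Subgroup.commutator_mem_commutator hx hh₁))
    apply Subgroup.mem_sup_right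
    exact (Subgroup.mem_normalizer_iff.mp (hHcR₀ (hn₁.1 hh₁)) _).mp
      (he (Subgroup.commutator_mem_commutator hx hh₂))
  have hKN₁ : K ≤ ⁅K, H₁⁆ := by
    have h1 : opUp p K ≤ ⁅K, H₁⁆ := opUp_le_of_le_sup hR₀p hR₀N₁ hKN₁R
    refine le_trans ?_ h1
    -- `K = O^p(K)`
    rw [hK]
    unfold opUp
    rw [Subgroup.closure_le]
    intro x hx
    exact Subgroup.subset_closure ⟨Subgroup.subset_closure hx, hx.2⟩
  have hb : ⁅K, H₁⁆ = K := le_antisymm hN₁K hKN₁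
  -- (c)
  have hc : K ≤ ⁅H₁, H₁⁆ := by
    rw [← hb]
    exact Subgroup.commutator_mono hKH₁ le_rfl
  -- (g)
  have hg : K ≤ opUp p Hc := opUp_mono (hVle.trans hsupHc)
  exact ⟨ha, hb, hc, hd, he, hconjH, hg⟩

/-- Let Q be a nontrivial p-subgroup of the finite group H that is a weakly closed subgroup, H° the weak closure of Q in H (generated by the conjugates of Q) and H_∘ = O^p(H°). Suppose H₁, H₂ are normal subgroups of H° with H° = H₁H₂ and [H₁, H₂] ≤ N_H(Q), and put Kᵢ = O^p of the weak closure of Q in HᵢQ. Then for i = 1, 2: Kᵢ = [Kᵢ, Q] = [Kᵢ, Hᵢ] ≤ Hᵢ′ and Kᵢ is normal in H°; H_∘ = K₁K₂; and [K₁, K₂] ≤ O_p(H°). -/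
theorem result {G : Type*} [Group G] [Finite G] {p : ℕ} [Fact p.Prime] (Q : Subgroup G) (hQp : IsPGroup p ↥Q) (hQ1 : Q ≠ ⊥) (hwc : Cfsg.IsWeaklyClosedSubgroup p Q) (Hc : Subgroup G) (hHc : Hc = Cfsg.weakClosure Q ⊤) (H₁ H₂ : Subgroup G) (hn₁ : H₁ ≤ Hc ∧ Hc ≤ Subgroup.normalizer ((H₁ : Subgroup G) : Set G)) (hn₂ : H₂ ≤ Hc ∧ Hc ≤ Subgroup.normalizer ((H₂ : Subgroup G) : Set G)) (hprod : H₁ ⊔ H₂ = Hc) (hcomm : ⁅H₁, H₂⁆ ≤ Subgroup.normalizer ((Q : Subgroup G) : Set G)) (K₁ K₂ : Subgroup G) (hK₁ : K₁ = ((Cfsg.pResidual p ↥(Cfsg.weakClosure Q (H₁ ⊔ Q))).map ((Cfsg.weakClosure Q (H₁ ⊔ Q))).subtype)) (hK₂ : K₂ = ((Cfsg.pResidual p ↥(Cfsg.weakClosure Q (H₂ ⊔ Q))).map ((Cfsg.weakClosure Q (H₂ ⊔ Q))).subtype)) : (⁅K₁, Q⁆ = K₁ ∧ ⁅K₁, H₁⁆ = K₁ ∧ K₁ ≤ ⁅H₁, H₁⁆ ∧ Hc ≤ Subgroup.normalizer ((K₁ : Subgroup G) : Set G)) ∧ (⁅K₂, Q⁆ = K₂ ∧ ⁅K₂, H₂⁆ = K₂ ∧ K₂ ≤ ⁅H₂, H₂⁆ ∧ Hc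 ≤ Subgroup.normalizer ((K₂ : Subgroup G) : Set G)) ∧ K₁ ⊔ K₂ = ((Cfsg.pResidual p ↥Hc).map (Hc).subtype) ∧ ⁅K₁, K₂⁆ ≤ (Cfsg.pCoreOf p Hc) := by
  classical
  rw [map_subtype_pResidual_eq_opUp] at hK₁ hK₂
  rw [map_subtype_pResidual_eq_opUp]
  have hcomm' : ⁅H₂, H₁⁆ ≤ Subgroup.normalizer ((Q : Subgroup G) : Set G) := by
    rw [Subgroup.commutator_comm]; exact hcomm
  have hprod' : H₂ ⊔ H₁ = Hc := by rw [sup_comm]; exact hprod
  obtain ⟨a₁, b₁, c₁, d₁, e₁, f₁, g₁⟩ := side Q hQp hwc Hc hHc H₁ H₂ hn₁ hn₂ hprod hcomm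
  obtain ⟨a₂, b₂, c₂, d₂, -, f₂, g₂⟩ := side Q hQp hwc Hc hHc H₂ H₁ hn₂ hn₁ hprod' hcomm'
  rw [← hK₁] at a₁ b₁ c₁ d₁ e₁ f₁ g₁
  rw [← hK₂] at a₂ b₂ c₂ d₂ f₂ g₂
  have hQHc : Q ≤ Hc := by rw [hHc]; exact self_le_weakClosure le_top
  have hK₂H₂ : K₂ ≤ H₂ :=
    c₂.trans (Subgroup.le_normalizer_iff_commutator_le_left.mp Subgroup.le_normalizer)
  refine ⟨⟨a₁, b₁, c₁, d₁⟩, ⟨a₂, b₂, c₂, d₂⟩, ?_, ?_⟩
  · -- `K₁ K₂ = O^p(Hc)`
    apply le_antisymm (sup_le g₁ g₂)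
    have hQK : Q ≤ Subgroup.normalizer ((K₁ ⊔ K₂ : Subgroup G) : Set G) :=
      le_normalizer_sup (hQHc.trans d₁) (hQHc.trans d₂)
    apply opUp_le_of_le_sup hQp hQK
    rw [hHc]
    unfold Cfsg.weakClosure
    refine iSup_le (fun g => ?_)
    have hall : Q.map (MulAut.conj (g : G)).toMonoidHom ≤ Hc := by
      rw [hHc]; exact le_weakClosure le_top
    obtain ⟨c, hc, hgc⟩ := wc_conj_in_subgroup hQp hwc hQHc (g : G) hall
    have hc' : c ∈ H₁ ⊔ H₂ := by rw [hprod]; exact hc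
    obtain ⟨h₁, hh₁, h₂, hh₂, rfl⟩ :=
      exists_mul_of_mem_sup_of_le_normalizer (hn₂.1.trans hn₁.2) hc'
    obtain ⟨k₂, hk₂, e₂⟩ := f₂ h₂ hh₂
    obtain ⟨k₁, hk₁, e₁'⟩ := f₁ h₁ hh₁
    have hk₂' : h₁ * k₂ * h₁⁻¹ ∈ K₂ :=
      (Subgroup.mem_normalizer_iff.mp (d₂ (hn₁.1 hh₁)) k₂).mp hk₂
    have hfin : Q.map (MulAut.conj (g : G)).toMonoidHom =
        Q.map (MulAut.conj ((h₁ * k₂ * h₁⁻¹) * k₁)).toMonoidHom := by
      rw [hgc, ← map_conj_map_conj h₁ h₂ Q, e₂, map_conj_map_conj,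
        ← map_conj_map_conj (h₁ * k₂ * h₁⁻¹) k₁ Q, ← e₁', map_conj_map_conj]
      congr 3
      group
    rw [hfin]
    exact map_conj_le_sup_of_mem hQK
      (Subgroup.mul_mem _ (Subgroup.mem_sup_right hk₂') (Subgroup.mem_sup_left hk₁))
  · -- `[K₁, K₂] ≤ O_p(Hc)`
    refine (Subgroup.commutator_mono le_rfl hK₂H₂).trans (e₁.trans ?_)
    have hH₂H₁ : H₂ ≤ Subgroup.normalizer (H₁ : Set G) := hn₂.1.trans hn₁.2
    have hDH₁ : ⁅H₁, H₂⁆ ≤ H₁ := Subgroup.le_normalizer_iff_commutator_le_left.mp hH₂H₁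
    have hHcD : Hc ≤ Subgroup.normalizer ((⁅H₁, H₂⁆ : Subgroup G) : Set G) :=
      le_normalizer_commutator hn₁.2 hn₂.2
    exact le_pCoreOf ((pCoreOf_le _).trans (hDH₁.trans hn₁.1))
      (hHcD.trans (normalizer_le_normalizer_pCoreOf' p _)) (isPGroup_pCoreOf _)

end Cfsg.Agent.S2859
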