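import Cfsg.Statements.S2864
import Cfsg.Agent.S2845
import Cfsg.Agent.Lib.Helper48_MSS
import Cfsg.Agent.Lib.Helper47_SubAPI
import Cfsg.Agent.Lib.Helper47_Conj

set_option autoImplicit false
open Cfsg

namespace Cfsg.Agent.S2864

open Cfsg.Agent.Lib.Helper48_MSS Cfsg.Agent.Lib.Helper47_SubAPI Cfsg.Agent.Lib.Helper47_Conj
  Cfsg.Agent.Lib.Helper47_PClosed Cfsg.Agent.Lib.Helper47_TW Cfsg.Agent.Lib.Helper48_Coprime
open scoped commutatorElement

/-- Standing hypotheses: G a finite group, S a Sylow p-subgroup, Q a nontrivial large p-subgroup of G contained in S, M a subgroup containing S with the basic property (M ∈ 𝔐_G(S)); Y_M the largest p-reduced normal subgroup of M and M† = M·C_G(Y_M). Let I be a nontrivial normal p-subgroup of M and Y ≤ O_p(M†); let L be a subgroup of G containing Y and A a normal p-subgroup of L with I ≤ A ≤ M. If [Y, A] ≤ [I, A], then Y ≤ O_p(L). -/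
theorem result {G : Type*} [Group G] [Finite G] {p : ℕ} [Fact p.Prime] (S : Sylow p G) (Q : Subgroup G) (hQp : IsPGroup p ↥Q) (hQ1 : Q ≠ ⊥) (hQS : Q ≤ (S : Subgroup G)) (hQ : Cfsg.IsLarge Q) (M : Subgroup G) (hSM : (S : Subgroup G) ≤ M) (hM : Cfsg.IsInFrakM p M) (I : Subgroup G) (hI1 : I ≠ ⊥) (hIp : IsPGroup p ↥I) (hIM : I ≤ M ∧ M ≤ Subgroup.normalizer ((I : Subgroup G) : Set G)) (Y : Subgroup G) (hY : Y ≤ (Cfsg.pCoreOf p (M ⊔ Subgroup.centralizer (((Cfsg.largestPReducedOf p M) : Subgroup G) : Set G)))) (L : Subgroup G) (hYL : Y ≤ L) (A : Subgroup G) (hAp : IsPGroup p ↥A) (hAL : A ≤ L ∧ L ≤ Subgroup.normalizer ((A : Subgroup G) : Set G)) (hIA : I ≤ A) (hAM : A ≤ M) (hc : ⁅Y, A⁆ ≤ ⁅I, A⁆) : Y ≤ (Cfsg.pCoreOf p L) := by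
  classical
  set Mt : Subgroup G :=
    M ⊔ Subgroup.centralizer (((Cfsg.largestPReducedOf p M) : Subgroup G) : Set G) with hMt
  set P : Subgroup G := Cfsg.pCoreOf p Mt with hP
  have hYp : IsPGroup p ↥Y := (isPGroup_pCoreOf Mt).to_le hY
  -- the normal closure of `Y` in `L`
  set F : ↥L → Subgroup G := fun l => Y.map (MulAut.conj (l : G)).toMonoidHom with hF
  set U : Subgroup G := ⨆ l : ↥L, F l with hU
  have hFL : ∀ l : ↥L, F l ≤ L := by
    rintro l _ ⟨y, hy, rfl⟩
    simp only [MulEquiv.coe_toMonoidHom, MulAut.conj_apply]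
    exact L.mul_mem (L.mul_mem l.2 (hYL hy)) (L.inv_mem l.2)
  have hYU : Y ≤ U := by
    have h1 : F 1 = Y := by
      simp only [hF, OneMemClass.coe_one]
      exact map_conj_one Y
    calc Y = F 1 := h1.symm
      _ ≤ U := le_iSup F 1
  have hUL : U ≤ L := iSup_le hFL
  have hLU : L ≤ Subgroup.normalizer (U : Set G) := by
    apply le_normalizer_of_forall_map_conj_le
    intro g hg
    rw [hU, Subgroup.map_iSup]
    refine iSup_le (fun l => ?_)
    have h1 : (F l).map (MulAut.conj g).toMonoidHom = F (⟨g, hg⟩ * l) := by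
      simp only [hF, Subgroup.coe_mul]
      exact map_conj_map_conj g (l : G) Y
    rw [h1]
    exact le_iSup F _
  -- Step 1: `[A, U] ≤ A'`
  have hLB : L ≤ Subgroup.normalizer ((⁅A, A⁆ : Subgroup G) : Set G) :=
    le_normalizer_commutator hAL.2 hAL.2
  have hAU : ⁅A, U⁆ ≤ ⁅A, A⁆ := by
    apply commutator_iSup_le F hLB hFL
    intro l
    have hlA : A.map (MulAut.conj (l : G)).toMonoidHom = A :=
      mem_normalizer_iff_map_conj_eq'.mp (hAL.2 l.2)
    have h1 : ⁅A, F l⁆ = (⁅A, Y⁆).map (MulAut.conj (l : G)).toMonoidHom := by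
      rw [Subgroup.map_commutator, hlA]
    have h2 : ⁅A, Y⁆ ≤ ⁅I, A⁆ := by rw [Subgroup.commutator_comm]; exact hc
    rw [h1]
    refine (Subgroup.map_mono h2).trans ?_
    rw [Subgroup.map_commutator, hlA]
    apply Subgroup.commutator_mono _ le_rfl
    calc I.map (MulAut.conj (l : G)).toMonoidHom ≤ A.map (MulAut.conj (l : G)).toMonoidHom :=
          Subgroup.map_mono hIA
      _ = A := hlA
  -- `W = O^p(U)`
  set W : Subgroup G := opUp p U with hW
  have hWU : W ≤ U := opUp_le p U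
  have hLW : L ≤ Subgroup.normalizer (W : Set G) := hLU.trans (normalizer_le_normalizer_opUp p U)
  -- Step 2: `p'`-elements of `U` centralize `A`
  have hcent : ∀ x ∈ U, (orderOf x).Coprime p → ∀ a ∈ A, Commute x a := by
    intro x hxU hx
    apply commute_of_coprime_of_commutator_le_derived A hAp x hx (hAL.2 (hUL hxU))
    refine le_trans (Subgroup.commutator_mono le_rfl ?_) hAU
    rw [Subgroup.zpowers_le]; exact hxU
  -- Step 3: `N_G(I) ≤ M†`
  have hNI : Subgroup.normalizer (I : Set G) ≤ Mt := by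
    have hpar : Cfsg.IsParabolic p (Subgroup.normalizer (I : Set G)) := ⟨S, hSM.trans hIM.2⟩
    have hIle : I ≤ Cfsg.pCoreOf p (Subgroup.normalizer (I : Set G)) :=
      le_pCoreOf Subgroup.le_normalizer le_rfl hIp
    have hne' : Cfsg.pCoreOf p (Subgroup.normalizer (I : Set G)) ≠ ⊥ := by
      intro h
      rw [h] at hIle
      exact hI1 (le_bot_iff.mp hIle)
    have hne : Cfsg.pCore p ↥(Subgroup.normalizer (I : Set G)) ≠ ⊥ :=
      (Cfsg.Agent.S2845.pCoreOf_ne_bot_iff _).mp hne'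
    have hcen := (Cfsg.Agent.S2845.result Q hQp hQ1 hQ).2.1 _ hpar hne
    have hmem : Subgroup.normalizer (I : Set G) ∈ Cfsg.charPSubgroups p G := ⟨hne, hcen⟩
    obtain ⟨X, hNX, hXmax⟩ := (Set.toFinite (Cfsg.charPSubgroups p G)).exists_le_maximal hmem
    have hXmem : X ∈ Cfsg.maxCharPSubgroups p G :=
      ⟨hXmax.prop, fun L' hL' hXL' => (hXmax.eq_of_le hL' hXL').symm⟩
    have hX := hM.2.2.1 X hXmem (hIM.2.trans hNX)
    rw [← hMt] at hX
    rw [← hX]; exact hNX
  have hWMt : W ≤ Mt := by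
    rw [hW]
    unfold opUp
    rw [Subgroup.closure_le]
    rintro x ⟨hxU, hx⟩
    apply hNI
    have h1 : x ∈ Subgroup.centralizer (I : Set G) := by
      rw [Subgroup.mem_centralizer_iff]
      intro i hi
      exact ((hcent x hxU hx i (hIA hi)).eq).symm
    exact Subgroup.centralizer_le_normalizer _ h1
  -- Step 4
  set N : Subgroup G := Cfsg.pCoreOf p W with hN
  have hNp : IsPGroup p ↥N := isPGroup_pCoreOf W
  have hNW : N ≤ W := pCoreOf_le W
  have hLN : L ≤ Subgroup.normalizer (N : Set G) := hLW.trans (normalizer_le_normalizer_pCoreOf' p W)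
  have hWP : W ≤ Subgroup.normalizer (P : Set G) := hWMt.trans (le_normalizer_pCoreOf Mt)
  have hWY : ⁅W, Y⁆ ≤ N := by
    have h1 : ⁅W, Y⁆ ≤ W := Subgroup.le_normalizer_iff_commutator_le_left.mp (hYL.trans hLW)
    have h2 : ⁅W, Y⁆ ≤ P := by
      refine (Subgroup.commutator_mono le_rfl hY).trans ?_
      rw [Subgroup.commutator_comm]
      exact Subgroup.le_normalizer_iff_commutator_le_left.mp hWP
    have h3 : W ≤ Subgroup.normalizer ((W ⊓ P : Subgroup G) : Set G) := by
      intro w hw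
      exact mem_normalizer_inf (Subgroup.le_normalizer hw) (hWP hw)
    have h4 : W ⊓ P ≤ N :=
      le_pCoreOf inf_le_left h3 ((isPGroup_pCoreOf Mt).to_le inf_le_right)
    exact (le_inf h1 h2).trans h4
  have hWUN : ⁅W, U⁆ ≤ N := by
    apply commutator_iSup_le F hLN hFL
    intro l
    have hlW : W.map (MulAut.conj (l : G)).toMonoidHom = W :=
      mem_normalizer_iff_map_conj_eq'.mp (hLW l.2)
    have hlN : N.map (MulAut.conj (l : G)).toMonoidHom = N :=
      mem_normalizer_iff_map_conj_eq'.mp (hLN l.2)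
    have h1 : ⁅W, F l⁆ = (⁅W, Y⁆).map (MulAut.conj (l : G)).toMonoidHom := by
      rw [Subgroup.map_commutator, hlW]
    rw [h1]
    calc (⁅W, Y⁆).map (MulAut.conj (l : G)).toMonoidHom
        ≤ N.map (MulAut.conj (l : G)).toMonoidHom := Subgroup.map_mono hWY
      _ = N := hlN
  -- Step 5: `U` is a `p`-group
  have hUp : IsPGroup p ↥U := by
    have hNU : N ≤ U := hNW.trans hWU
    have hnorm : (N.subgroupOf U).Normal :=
      (Subgroup.normal_subgroupOf_iff_le_normalizer hNU).mpr (hUL.trans hLN)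
    have hNp' : IsPGroup p ↥(N.subgroupOf U) := hNp.comap_subtype
    apply isPGroup_of_coprime_commutator_mem (N.subgroupOf U) hNp'
    · intro x hx u
      rw [Subgroup.mem_subgroupOf]
      have hxW : (x : G) ∈ W := by
        rw [hW]
        refine Subgroup.subset_closure ⟨x.2, ?_⟩
        rw [Subgroup.orderOf_coe]; exact hx
      have : ((⁅x, u⁆ : ↥U) : G) = ⁅(x : G), (u : G)⁆ := by
        simp [commutatorElement_def]
      rw [this]
      exact hWUN (Subgroup.commutator_mem_commutator hxW u.2)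
    · rw [eq_top_iff]
      have hle : U ≤ (Subgroup.closure {g : ↥U | ∃ k : ℕ, g ^ (p ^ k) = 1}).map U.subtype := by
        rw [hU]
        refine iSup_le (fun l => ?_)
        intro y hy
        have hyU : y ∈ U := le_iSup F l hy
        have hFp : IsPGroup p ↥(F l) := hYp.map _
        obtain ⟨k, hk⟩ := exists_pow_eq_one_of_mem hFp hy
        refine ⟨⟨y, hyU⟩, Subgroup.subset_closure ⟨k, ?_⟩, rfl⟩
        apply Subtype.ext
        simpa using hk
      rintro ⟨u, hu⟩ -
      obtain ⟨u', hu', hu'u⟩ := hle hu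
      have : u' = ⟨u, hu⟩ := Subtype.ext hu'u
      rw [← this]; exact hu'
  exact hYU.trans (le_pCoreOf hUL hLU hUp)

end Cfsg.Agent.S2864
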