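import Cfsg.Statements.S2872
import Cfsg.Agent.Lib.Helper48_ZTransfer
import Cfsg.Agent.Lib.Helper1_Frattini

set_option autoImplicit false
open Cfsg
open Cfsg.Agent.Lib.Helper48_ZTransfer
open Cfsg.Agent.Lib.Helper1_Frattini

namespace Cfsg.Agent.S2872

/-- Let S be a Sylow 2-subgroup of the finite group G. Then G has a proper normal subgroup of 2-power index (O²(G) ≠ G), or Ω₁(Z(S)) is contained in the Frattini subgroup of S, or N_G(S) acts nontrivially on Ω₁(Z(S)) by conjugation. -/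
theorem result {G : Type*} [Group G] [Finite G] (S : Sylow 2 G) : Cfsg.pResidual 2 G ≠ ⊤ ∨ Cfsg.omegaOne 2 ((S : Subgroup G) ⊓ Subgroup.centralizer ((S : Subgroup G) : Set G)) ≤ (frattini ↥(S : Subgroup G)).map (S : Subgroup G).subtype ∨ ∃ g ∈ Subgroup.normalizer ((S : Subgroup G) : Set G), ∃ z ∈ Cfsg.omegaOne 2 ((S : Subgroup G) ⊓ Subgroup.centralizer ((S : Subgroup G) : Set G)), g * z * g⁻¹ ≠ z := by
  by_contra hcon
  push Not at hcon
  obtain ⟨h1, h2, h3⟩ := hcon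
  -- a generator `z` of `Ω₁(Z(S))` outside `Φ(S)`
  have hex : ∃ z : G, (z ∈ (S : Subgroup G) ⊓ Subgroup.centralizer ((S : Subgroup G) : Set G) ∧ z ^ 2 = 1) ∧
      z ∉ (frattini ↥(S : Subgroup G)).map (S : Subgroup G).subtype := by
    by_contra hno
    push Not at hno
    apply h2
    unfold Cfsg.omegaOne
    rw [Subgroup.closure_le]
    intro z hz
    exact hno z hz
  obtain ⟨z, ⟨⟨hzS, hzc⟩, hz2⟩, hzF⟩ := hex
  have hzF' : (⟨z, hzS⟩ : (S : Subgroup G)) ∉ frattini ↥(S : Subgroup G) := by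
    intro h
    exact hzF ⟨⟨z, hzS⟩, h, rfl⟩
  rw [mem_frattini_iff] at hzF'
  push Not at hzF'
  obtain ⟨M, hMco, hzM⟩ := hzF'
  have hM2 : M.index = 2 := index_of_isCoatom_of_isPGroup S.isPGroup' hMco
  have hzΩ : z ∈ Cfsg.omegaOne 2 ((S : Subgroup G) ⊓ Subgroup.centralizer ((S : Subgroup G) : Set G)) :=
    Subgroup.subset_closure ⟨⟨hzS, hzc⟩, hz2⟩
  have hN : ∀ g ∈ Subgroup.normalizer ((S : Subgroup G) : Set G), g⁻¹ * z * g = z := by
    intro g hg
    have := h3 g⁻¹ (Subgroup.inv_mem _ hg) z hzΩ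
    rwa [inv_inv] at this
  obtain ⟨K, hK2, hzK⟩ := exists_index_two_of_central_involution (S : Subgroup G) S.isPGroup'
    S.not_dvd_index M hM2 z hzS hzM hzc hz2 hN
  apply hzK
  have hle : Cfsg.pResidual 2 G ≤ K := by
    unfold Cfsg.pResidual
    rw [Subgroup.closure_le]
    intro g hg
    exact mem_of_index_two_of_odd_order hK2 hg
  rw [h1] at hle
  exact hle (Subgroup.mem_top z)

end Cfsg.Agent.S2872
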