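import Cfsg.Statements.S2873
import Cfsg.Agent.Lib.Helper1_Cores
-- import your own Cfsg.Agent.* helpers here

set_option autoImplicit false
open Cfsg

namespace Cfsg.Agent.S2873

section Dih
variable {q : ℕ} [Fact q.Prime]

theorem two_ne_zero_zmod (hq2 : q ≠ 2) : (2 : ZMod q) ≠ 0 := by
  intro h
  have h2 : ((2 : ℕ) : ZMod q) = 0 := by exact_mod_cast h
  rw [ZMod.natCast_eq_zero_iff] at h2
  have hp := (Fact.out : q.Prime)
  rcases (Nat.dvd_prime Nat.prime_two).mp h2 with h1 | h1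
  · exact hp.one_lt.ne' h1
  · exact hq2 h1

/-- involutions of `D_q` are reflections -/
theorem eq_sr_of_mul_self (hq2 : q ≠ 2) (x : DihedralGroup q) (hx : x ≠ 1) (hx2 : x * x = 1) :
    ∃ j, x = DihedralGroup.sr j := by
  cases x with
  | r i =>
    exfalso
    rw [DihedralGroup.r_mul_r, DihedralGroup.one_def] at hx2
    have h1 : i + i = 0 := by injection hx2
    have h2 : (2 : ZMod q) * i = 0 := by rw [two_mul]; exact h1
    rcases mul_eq_zero.mp h2 with h | h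
    · exact two_ne_zero_zmod hq2 h
    · apply hx; rw [h, DihedralGroup.r_zero]
  | sr j => exact ⟨j, rfl⟩

/-- elements of order dividing `q` are rotations -/
theorem eq_r_of_pow (hq2 : q ≠ 2) (x : DihedralGroup q) (hx : x ^ q = 1) :
    ∃ i, x = DihedralGroup.r i := by
  cases x with
  | r i => exact ⟨i, rfl⟩
  | sr j =>
    exfalso
    have h1 : orderOf (DihedralGroup.sr j : DihedralGroup q) ∣ q := orderOf_dvd_of_pow_eq_one hx
    rw [DihedralGroup.orderOf_sr] at h1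
    have hp := (Fact.out : q.Prime)
    rcases (Nat.dvd_prime hp).mp h1 with h | h
    · omega
    · exact hq2 h.symm

end Dih

section Main

variable {G : Type*} [Group G] [Finite G] {q : ℕ} [Fact q.Prime]

/-- a subgroup with the order of a Sylow subgroup is conjugate to it -/
theorem sylow_conj (R : Sylow q G) (H : Subgroup G) (hH : Nat.card H = Nat.card R) :
    ∃ g : G, ∀ x, x ∈ H ↔ g⁻¹ * x * g ∈ (R : Subgroup G) := by
  have hc : Nat.card H = q ^ (Nat.card G).factorization q := by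
    rw [hH]; exact R.card_eq_multiplicity
  obtain ⟨g, hg⟩ := MulAction.exists_smul_eq G R (Sylow.ofCard H hc)
  have hg' : (R : Subgroup G).map (MulAut.conj g).toMonoidHom = H := by
    have := congrArg (fun P : Sylow q G => (P : Subgroup G)) hg
    exact this
  refine ⟨g, fun x => ?_⟩
  rw [← hg']
  constructor
  · rintro ⟨y, hy, rfl⟩
    have : g⁻¹ * (MulAut.conj g).toMonoidHom y * g = y := by
      simp [MulAut.conj_apply]; group
    rw [this]; exact hy
  · intro hx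
    refine ⟨g⁻¹ * x * g, hx, ?_⟩
    simp [MulAut.conj_apply]; group

/-- the working hypotheses -/
structure Setup (Q : Subgroup G) (φ : G →* DihedralGroup q) (R : Sylow q G) : Prop where
  hq2 : q ≠ 2
  normal : Q.Normal
  pgroup : IsPGroup 2 Q
  surj : Function.Surjective φ
  ker : φ.ker = Q
  hC : Q ⊓ Subgroup.centralizer ((R : Subgroup G) : Set G) = ⊥

variable {Q : Subgroup G} {φ : G →* DihedralGroup q} {R : Sylow q G}

theorem Setup.mem_iff (h : Setup Q φ R) (x : G) : x ∈ Q ↔ φ x = 1 := by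
  rw [← h.ker, MonoidHom.mem_ker]

theorem Setup.card_G (h : Setup Q φ R) : Nat.card G = Nat.card Q * (2 * q) := by
  have h1 : Q.index = 2 * q := by
    rw [← h.ker, Subgroup.index_ker, MonoidHom.range_eq_top.mpr h.surj, Subgroup.card_top,
      DihedralGroup.nat_card]
  rw [← h1, Subgroup.card_mul_index]

theorem Setup.card_R (h : Setup Q φ R) : Nat.card (R : Subgroup G) = q := by
  have hp := (Fact.out : q.Prime)
  obtain ⟨k, hk⟩ := IsPGroup.iff_card.mp h.pgroup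
  have h1 : Nat.card (R : Subgroup G) = q ^ (Nat.card G).factorization q := R.card_eq_multiplicity
  rw [h1, h.card_G, hk]
  have h2 : ¬ q ∣ 2 := by
    intro hd
    rcases (Nat.dvd_prime Nat.prime_two).mp hd with h3 | h3
    · exact hp.one_lt.ne' h3
    · exact h.hq2 h3
  have h3 : (2 ^ k * (2 * q)).factorization q = 1 := by
    rw [Nat.factorization_mul (by positivity) (by have := hp.pos; positivity),
      Nat.factorization_mul (by norm_num) hp.pos.ne']
    simp only [Finsupp.coe_add, Pi.add_apply]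
    have e1 := Nat.factorization_eq_zero_of_not_dvd (fun hd => h2 (hp.dvd_of_dvd_pow hd) :
      ¬ q ∣ 2 ^ k)
    have e2 := Nat.factorization_eq_zero_of_not_dvd h2
    have e3 := hp.factorization_self
    omega
  rw [h3, pow_one]

theorem Setup.R_inf_Q (h : Setup Q φ R) : (R : Subgroup G) ⊓ Q = ⊥ :=
  (IsPGroup.disjoint_of_ne q 2 h.hq2 _ _ R.isPGroup' h.pgroup).eq_bot

theorem Setup.N_inf_Q (h : Setup Q φ R) :
    Subgroup.normalizer ((R : Subgroup G) : Set G) ⊓ Q = ⊥ := by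
  rw [eq_bot_iff]
  rintro x ⟨hxN, hxQ⟩
  have hxC : x ∈ Subgroup.centralizer ((R : Subgroup G) : Set G) := by
    rw [Subgroup.mem_centralizer_iff]
    intro y hy
    have h1 : x * y * x⁻¹ ∈ (R : Subgroup G) := (Subgroup.mem_normalizer_iff.mp hxN y).mp hy
    have h2 : x * y * x⁻¹ * y⁻¹ ∈ (R : Subgroup G) := mul_mem h1 (inv_mem hy)
    have h3 : x * y * x⁻¹ * y⁻¹ ∈ Q := by
      have : x * y * x⁻¹ * y⁻¹ = x * (y * x⁻¹ * y⁻¹) := by group
      rw [this]
      exact mul_mem hxQ (h.normal.conj_mem _ (inv_mem hxQ) y)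
    have h4 : x * y * x⁻¹ * y⁻¹ ∈ (R : Subgroup G) ⊓ Q := ⟨h2, h3⟩
    rw [h.R_inf_Q, Subgroup.mem_bot] at h4
    have : x * y = (x * y * x⁻¹ * y⁻¹) * (y * x) := by group
    rw [this, h4, one_mul]
  have : x ∈ Q ⊓ Subgroup.centralizer ((R : Subgroup G) : Set G) := ⟨hxQ, hxC⟩
  rwa [h.hC] at this

/-- `φ` is injective on the normalizer -/
theorem Setup.inj (h : Setup Q φ R) {x y : G}
    (hx : x ∈ Subgroup.normalizer ((R : Subgroup G) : Set G))
    (hy : y ∈ Subgroup.normalizer ((R : Subgroup G) : Set G)) (hxy : φ x = φ y) : x = y := by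
  have h1 : x * y⁻¹ ∈ Subgroup.normalizer ((R : Subgroup G) : Set G) ⊓ Q := by
    refine Subgroup.mem_inf.mpr ⟨mul_mem hx (inv_mem hy), ?_⟩
    rw [h.mem_iff, map_mul, map_inv, hxy, mul_inv_cancel]
  rw [h.N_inf_Q, Subgroup.mem_bot] at h1
  exact mul_inv_eq_one.mp h1

/-- elements of `R` map to rotations -/
theorem Setup.map_R (h : Setup Q φ R) {y : G} (hy : y ∈ (R : Subgroup G)) :
    ∃ i, φ y = DihedralGroup.r i := by
  apply eq_r_of_pow h.hq2
  have h1 : y ^ q = 1 := by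
    have := pow_card_eq_one' (G := (R : Subgroup G)) (x := ⟨y, hy⟩)
    rw [h.card_R] at this
    exact congrArg Subtype.val this
  rw [← map_pow, h1, map_one]

/-- all rotations come from `R` -/
theorem Setup.exists_R (h : Setup Q φ R) (i : ZMod q) :
    ∃ y ∈ (R : Subgroup G), φ y = DihedralGroup.r i := by
  have hp := (Fact.out : q.Prime)
  have hne : (R : Subgroup G) ≠ ⊥ := by
    intro hb
    have := h.card_R
    rw [hb, Subgroup.card_bot] at this
    exact hp.one_lt.ne this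
  obtain ⟨y₀, hy₀1⟩ := (Subgroup.ne_bot_iff_exists_ne_one.mp hne)
  have hy₀R : (y₀ : G) ∈ (R : Subgroup G) := y₀.2
  obtain ⟨i₀, hi₀⟩ := h.map_R hy₀R
  have hi₀0 : i₀ ≠ 0 := by
    intro h0
    have h1 : (y₀ : G) ∈ (R : Subgroup G) ⊓ Q := by
      refine Subgroup.mem_inf.mpr ⟨hy₀R, ?_⟩
      rw [h.mem_iff, hi₀, h0, DihedralGroup.r_zero]
    rw [h.R_inf_Q, Subgroup.mem_bot] at h1
    exact hy₀1 (Subtype.ext h1)
  have : NeZero q := ⟨hp.ne_zero⟩
  refine ⟨(y₀ : G) ^ (i₀⁻¹ * i).val, pow_mem hy₀R _, ?_⟩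
  rw [map_pow, hi₀, DihedralGroup.r_pow, ZMod.natCast_zmod_val, ← mul_assoc,
    mul_inv_cancel₀ hi₀0, one_mul]

/-- Frattini: the normalizer of `R` covers `D_q` -/
theorem Setup.exists_N (h : Setup Q φ R) (d : DihedralGroup q) :
    ∃ n ∈ Subgroup.normalizer ((R : Subgroup G) : Set G), φ n = d := by
  -- the rotation preimage
  let K : Subgroup G :=
    { carrier := {g | ∃ i, φ g = DihedralGroup.r i}
      one_mem' := ⟨0, by rw [map_one, DihedralGroup.r_zero]⟩
      mul_mem' := by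
        rintro a b ⟨i, hi⟩ ⟨j, hj⟩
        exact ⟨i + j, by rw [map_mul, hi, hj, DihedralGroup.r_mul_r]⟩
      inv_mem' := by
        rintro a ⟨i, hi⟩
        exact ⟨-i, by rw [map_inv, hi, DihedralGroup.inv_r]⟩ }
  have hKn : K.Normal := by
    constructor
    rintro n ⟨i, hi⟩ g
    change ∃ j, φ (g * n * g⁻¹) = DihedralGroup.r j
    rw [map_mul, map_mul, map_inv, hi]
    cases hg : φ g with
    | r k =>
      refine ⟨i, ?_⟩
      rw [DihedralGroup.inv_r, DihedralGroup.r_mul_r, DihedralGroup.r_mul_r]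
      congr 1; ring
    | sr k =>
      refine ⟨-i, ?_⟩
      rw [DihedralGroup.inv_sr, DihedralGroup.sr_mul_r, DihedralGroup.sr_mul_sr]
      congr 1; ring
  have hRK : (R : Subgroup G) ≤ K := fun y hy => h.map_R hy
  have hF : Subgroup.normalizer ((R : Subgroup G) : Set G) ⊔ K = ⊤ :=
    Sylow.normalizer_sup_eq_top' R hRK
  obtain ⟨g, rfl⟩ := h.surj d
  have hg : g ∈ Subgroup.normalizer ((R : Subgroup G) : Set G) ⊔ K := by rw [hF]; trivial
  obtain ⟨n, hn, k, ⟨i, hi⟩, rfl⟩ := Subgroup.mem_sup_of_normal_right.mp hg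
  obtain ⟨y, hy, hyi⟩ := h.exists_R i
  refine ⟨n * y, mul_mem hn (Subgroup.le_normalizer hy), ?_⟩
  rw [map_mul, map_mul, hi, hyi]

/-- a preimage of the rotation `r 1` has a power generating a conjugate of `R` -/
theorem Setup.exists_conj (h : Setup Q φ R) {y : G} (hy : φ y = DihedralGroup.r 1) :
    ∃ (m : ℕ) (g : G), ∀ x, x ∈ Subgroup.zpowers (y ^ m) ↔ g⁻¹ * x * g ∈ (R : Subgroup G) := by
  have h1 : orderOf (φ y) ∣ orderOf y := orderOf_map_dvd φ y
  rw [hy, DihedralGroup.orderOf_r_one] at h1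
  obtain ⟨m, hm⟩ := h1
  have hpos : 0 < orderOf y := orderOf_pos y
  have hm0 : m ≠ 0 := by rintro rfl; omega
  have h2 : orderOf (y ^ m) = q := by
    rw [orderOf_pow_of_dvd hm0 ⟨q, by rw [hm, mul_comm]⟩, hm]
    exact Nat.mul_div_cancel _ (Nat.pos_of_ne_zero hm0)
  have h3 : Nat.card (Subgroup.zpowers (y ^ m)) = Nat.card (R : Subgroup G) := by
    rw [Nat.card_zpowers, h2, h.card_R]
  obtain ⟨g, hg⟩ := sylow_conj R _ h3
  exact ⟨m, g, hg⟩

/-- an element of `Q` commuting with a preimage of `r 1` is trivial -/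
theorem Setup.eq_one_of_comm (h : Setup Q φ R) {y z : G} (hy : φ y = DihedralGroup.r 1)
    (hz : z ∈ Q) (hzy : z * y = y * z) : z = 1 := by
  obtain ⟨m, g, hg⟩ := h.exists_conj hy
  have hw : g⁻¹ * z * g ∈ Q := by
    have := h.normal.conj_mem z hz g⁻¹
    rwa [inv_inv] at this
  have hc : Commute z (y ^ m) := (show Commute z y from hzy).pow_right m
  have hwC : g⁻¹ * z * g ∈ Subgroup.centralizer ((R : Subgroup G) : Set G) := by
    rw [Subgroup.mem_centralizer_iff]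
    intro y' hy'
    have h1 : g * y' * g⁻¹ ∈ Subgroup.zpowers (y ^ m) := by
      rw [hg]
      have : g⁻¹ * (g * y' * g⁻¹) * g = y' := by group
      rw [this]; exact hy'
    obtain ⟨k, hk⟩ := Subgroup.mem_zpowers_iff.mp h1
    have h2 : Commute z (g * y' * g⁻¹) := by rw [← hk]; exact hc.zpow_right k
    have h3 : z * (g * y' * g⁻¹) = (g * y' * g⁻¹) * z := h2
    calc y' * (g⁻¹ * z * g) = g⁻¹ * ((g * y' * g⁻¹) * z) * g := by group
      _ = g⁻¹ * (z * (g * y' * g⁻¹)) * g := by rw [h3]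
      _ = g⁻¹ * z * g * y' := by group
  have : g⁻¹ * z * g ∈ Q ⊓ Subgroup.centralizer ((R : Subgroup G) : Set G) :=
    Subgroup.mem_inf.mpr ⟨hw, hwC⟩
  rw [h.hC, Subgroup.mem_bot] at this
  calc z = g * (g⁻¹ * z * g) * g⁻¹ := by group
    _ = 1 := by rw [this]; group

omit [Finite G] in
theorem conj_mem_zpowers {c d : G} (hcd : c * d * c⁻¹ = d⁻¹) {x : G}
    (hx : x ∈ Subgroup.zpowers d) : c * x * c⁻¹ ∈ Subgroup.zpowers d := by
  obtain ⟨k, rfl⟩ := Subgroup.mem_zpowers_iff.mp hx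
  have : c * d ^ k * c⁻¹ = (d⁻¹) ^ k := by
    rw [← hcd, conj_zpow]
  rw [this]
  exact Subgroup.zpow_mem _ (Subgroup.inv_mem _ (Subgroup.mem_zpowers d)) k

/-- an element inverting a preimage of `r 1` is conjugate into the normalizer of `R` -/
theorem Setup.conj_mem_normalizer (h : Setup Q φ R) {y b : G} (hy : φ y = DihedralGroup.r 1)
    (hb : b * y * b⁻¹ = y⁻¹) :
    ∃ g : G, g⁻¹ * b * g ∈ Subgroup.normalizer ((R : Subgroup G) : Set G) := by
  obtain ⟨m, g, hg⟩ := h.exists_conj hy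
  refine ⟨g, ?_⟩
  have hb1 : b * y ^ m * b⁻¹ = (y ^ m)⁻¹ := by
    have : b * y ^ m * b⁻¹ = (b * y * b⁻¹) ^ m := conj_pow.symm
    rw [this, hb, inv_pow]
  have hb2 : b⁻¹ * y ^ m * b⁻¹⁻¹ = (y ^ m)⁻¹ := by
    have : y ^ m = b⁻¹ * (y ^ m)⁻¹ * b := by rw [← hb1]; group
    rw [inv_inv]
    calc b⁻¹ * y ^ m * b = (b⁻¹ * (y ^ m)⁻¹ * b)⁻¹ := by group
      _ = (y ^ m)⁻¹ := by rw [← this]
  have hnorm : ∀ x, x ∈ Subgroup.zpowers (y ^ m) ↔ b * x * b⁻¹ ∈ Subgroup.zpowers (y ^ m) := by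
    intro x
    constructor
    · exact conj_mem_zpowers hb1
    · intro hx
      have := conj_mem_zpowers hb2 hx
      have e : b⁻¹ * (b * x * b⁻¹) * b⁻¹⁻¹ = x := by group
      rwa [e] at this
  rw [Subgroup.mem_normalizer_iff]
  intro y'
  have e1 : g⁻¹ * (g * y' * g⁻¹) * g = y' := by group
  have e2 : g⁻¹ * (b * (g * y' * g⁻¹) * b⁻¹) * g = g⁻¹ * b * g * y' * (g⁻¹ * b * g)⁻¹ := by group
  calc y' ∈ (R : Subgroup G) ↔ g * y' * g⁻¹ ∈ Subgroup.zpowers (y ^ m) := by rw [hg, e1]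
    _ ↔ b * (g * y' * g⁻¹) * b⁻¹ ∈ Subgroup.zpowers (y ^ m) := hnorm _
    _ ↔ g⁻¹ * b * g * y' * (g⁻¹ * b * g)⁻¹ ∈ (R : Subgroup G) := by rw [hg, e2]

/-- involutions of the normalizer map to reflections -/
theorem Setup.invol (h : Setup Q φ R) {n : G}
    (hn : n ∈ Subgroup.normalizer ((R : Subgroup G) : Set G)) (hn1 : n ≠ 1) (hnn : n * n = 1) :
    ∃ j, φ n = DihedralGroup.sr j := by
  apply eq_sr_of_mul_self h.hq2
  · intro h1
    apply hn1
    exact h.inj hn (one_mem _) (by rw [h1, map_one])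
  · rw [← map_mul, hnn, map_one]

/-- involutions of the normalizer are conjugate in it -/
theorem Setup.conj_invol (h : Setup Q φ R) {a a' : G}
    (ha : a ∈ Subgroup.normalizer ((R : Subgroup G) : Set G))
    (ha' : a' ∈ Subgroup.normalizer ((R : Subgroup G) : Set G))
    {i k : ZMod q} (hi : φ a = DihedralGroup.sr i) (hk : φ a' = DihedralGroup.sr k) :
    ∃ n ∈ Subgroup.normalizer ((R : Subgroup G) : Set G), n * a * n⁻¹ = a' := by
  obtain ⟨n, hn, hnt⟩ := h.exists_N (DihedralGroup.r ((i - k) / 2))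
  refine ⟨n, hn, ?_⟩
  apply h.inj (mul_mem (mul_mem hn ha) (inv_mem hn)) ha'
  rw [map_mul, map_mul, map_inv, hnt, hi, hk, DihedralGroup.inv_r, DihedralGroup.r_mul_sr,
    DihedralGroup.sr_mul_r]
  congr 1
  have : (i - k) / 2 + (i - k) / 2 = i - k := by
    rw [← two_mul, mul_div_cancel₀ _ (two_ne_zero_zmod h.hq2)]
  linear_combination (-1 : ZMod q) * this

/-- upper bound: centralizers in `Q` of two involutions with product over `r 1` meet trivially -/
theorem Setup.card_mul_le (h : Setup Q φ R) {a a' : G} (haa' : φ (a * a') = DihedralGroup.r 1) :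
    Nat.card ↥(Q ⊓ Subgroup.centralizer ({a} : Set G)) *
      Nat.card ↥(Q ⊓ Subgroup.centralizer ({a'} : Set G)) ≤ Nat.card ↥Q := by
  rw [← Nat.card_prod]
  let f : ↥(Q ⊓ Subgroup.centralizer ({a} : Set G)) × ↥(Q ⊓ Subgroup.centralizer ({a'} : Set G)) →
      ↥Q := fun uv => ⟨(uv.1 : G) * (uv.2 : G), mul_mem uv.1.2.1 uv.2.2.1⟩
  apply Nat.card_le_card_of_injective f
  rintro ⟨⟨u, hu⟩, ⟨v, hv⟩⟩ ⟨⟨u', hu'⟩, ⟨v', hv'⟩⟩ hf
  have hf' : u * v = u' * v' := congrArg Subtype.val hf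
  obtain ⟨huQ, hua⟩ := Subgroup.mem_inf.mp hu
  obtain ⟨hvQ, hva⟩ := Subgroup.mem_inf.mp hv
  obtain ⟨huQ', hua'⟩ := Subgroup.mem_inf.mp hu'
  obtain ⟨hvQ', hva'⟩ := Subgroup.mem_inf.mp hv'
  have hw : u'⁻¹ * u = v' * v⁻¹ := by
    calc u'⁻¹ * u = u'⁻¹ * (u * v) * v⁻¹ := by group
      _ = u'⁻¹ * (u' * v') * v⁻¹ := by rw [hf']
      _ = v' * v⁻¹ := by group
  have hw1 : u'⁻¹ * u ∈ Subgroup.centralizer ({a} : Set G) := mul_mem (inv_mem hua') hua
  have hw2 : u'⁻¹ * u ∈ Subgroup.centralizer ({a'} : Set G) := by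
    rw [hw]; exact mul_mem hva' (inv_mem hva)
  rw [Subgroup.mem_centralizer_singleton_iff] at hw1 hw2
  have hw3 : u'⁻¹ * u * (a * a') = (a * a') * (u'⁻¹ * u) := by
    calc u'⁻¹ * u * (a * a') = (u'⁻¹ * u * a) * a' := by group
      _ = (a * (u'⁻¹ * u)) * a' := by rw [hw1]
      _ = a * ((u'⁻¹ * u) * a') := by group
      _ = a * (a' * (u'⁻¹ * u)) := by rw [hw2]
      _ = (a * a') * (u'⁻¹ * u) := by group
  have hw4 : u'⁻¹ * u = 1 := h.eq_one_of_comm haa' (mul_mem (inv_mem huQ') huQ) hw3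
  have huu : u = u' := (inv_mul_eq_one.mp hw4).symm
  have hvv : v = v' := by
    have : v' * v⁻¹ = 1 := by rw [← hw, hw4]
    exact (mul_inv_eq_one.mp this).symm
  subst huu; subst hvv
  rfl

/-- the key injectivity for the lower bound -/
theorem Setup.conj_inj (h : Setup Q φ R) {a a' : G} (haa : a * a = 1) (haa' : a' * a' = 1)
    {i : ZMod q} (hi : φ a = DihedralGroup.sr i) (hi' : φ a' = DihedralGroup.sr (i + 1))
    {u₁ u₂ v₁ v₂ : G} (hu₁ : u₁ ∈ Q) (hu₂ : u₂ ∈ Q) (hv₁ : v₁ ∈ Q) (hv₂ : v₂ ∈ Q)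
    (heq : (u₁ * a * u₁⁻¹) * (v₁ * a' * v₁⁻¹) = (u₂ * a * u₂⁻¹) * (v₂ * a' * v₂⁻¹)) :
    u₁⁻¹ * u₂ ∈ Subgroup.centralizer ({a} : Set G) ∧
      v₁⁻¹ * v₂ ∈ Subgroup.centralizer ({a'} : Set G) := by
  have hφu : ∀ {u : G}, u ∈ Q → φ u = 1 := fun hu => (h.mem_iff _).mp hu
  obtain ⟨t, ht⟩ : ∃ t, t = u₁ * a * u₁⁻¹ := ⟨_, rfl⟩
  obtain ⟨s, hs⟩ : ∃ s, s = u₂ * a * u₂⁻¹ := ⟨_, rfl⟩
  obtain ⟨t', ht'⟩ : ∃ t', t' = v₁ * a' * v₁⁻¹ := ⟨_, rfl⟩
  obtain ⟨s', hs'⟩ : ∃ s', s' = v₂ * a' * v₂⁻¹ := ⟨_, rfl⟩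
  rw [← ht, ← hs, ← ht', ← hs'] at heq
  have htt : t * t = 1 := by
    rw [ht]
    calc u₁ * a * u₁⁻¹ * (u₁ * a * u₁⁻¹) = u₁ * (a * a) * u₁⁻¹ := by group
      _ = 1 := by rw [haa]; group
  have hss : s * s = 1 := by
    rw [hs]
    calc u₂ * a * u₂⁻¹ * (u₂ * a * u₂⁻¹) = u₂ * (a * a) * u₂⁻¹ := by group
      _ = 1 := by rw [haa]; group
  have htt' : t' * t' = 1 := by
    rw [ht']
    calc v₁ * a' * v₁⁻¹ * (v₁ * a' * v₁⁻¹) = v₁ * (a' * a') * v₁⁻¹ := by group
      _ = 1 := by rw [haa']; group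
  have hss' : s' * s' = 1 := by
    rw [hs']
    calc v₂ * a' * v₂⁻¹ * (v₂ * a' * v₂⁻¹) = v₂ * (a' * a') * v₂⁻¹ := by group
      _ = 1 := by rw [haa']; group
  have hφt : φ t = DihedralGroup.sr i := by
    rw [ht, map_mul, map_mul, map_inv, hφu hu₁, hi]; simp
  have hφs : φ s = DihedralGroup.sr i := by
    rw [hs, map_mul, map_mul, map_inv, hφu hu₂, hi]; simp
  have hφt' : φ t' = DihedralGroup.sr (i + 1) := by
    rw [ht', map_mul, map_mul, map_inv, hφu hv₁, hi']; simp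
  -- y = t t' maps to r 1
  have hy : φ (t * t') = DihedralGroup.r 1 := by
    rw [map_mul, hφt, hφt', DihedralGroup.sr_mul_sr]
    congr 1; ring
  -- z = s t lies in Q and centralizes y
  have hz : s * t ∈ Q := by
    rw [h.mem_iff, map_mul, hφs, hφt, DihedralGroup.sr_mul_sr, sub_self, DihedralGroup.r_zero]
  have hsinv : s⁻¹ = s := inv_eq_of_mul_eq_one_right hss
  have htinv : t⁻¹ = t := inv_eq_of_mul_eq_one_right htt
  have ht'inv : t'⁻¹ = t' := inv_eq_of_mul_eq_one_right htt'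
  have hs'inv : s'⁻¹ = s' := inv_eq_of_mul_eq_one_right hss'
  have hzy : s * t * (t * t') = (t * t') * (s * t) := by
    -- (t t') (s t) = (s s') (s t) ... use t t' = s s'
    have e1 : s * t * (t * t') = s * t' := by
      calc s * t * (t * t') = s * (t * t) * t' := by group
        _ = s * t' := by rw [htt]; group
    have e2 : (t * t') * (s * t) = s * t' := by
      have e3 : s' = s * (t * t') := by
        calc s' = s * (s * s') := by rw [← mul_assoc, hss, one_mul]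
          _ = s * (t * t') := by rw [heq]
      -- t' t = (t t')⁻¹ = (s s')⁻¹ = s' s
      have e4 : t' * t = s' * s := by
        calc t' * t = (t * t')⁻¹ := by rw [mul_inv_rev, htinv, ht'inv]
          _ = (s * s')⁻¹ := by rw [heq]
          _ = s' * s := by rw [mul_inv_rev, hsinv, hs'inv]
      calc (t * t') * (s * t) = (s * s') * (s * t) := by rw [heq]
        _ = s * (s' * s) * t := by group
        _ = s * (t' * t) * t := by rw [e4]
        _ = s * t' * (t * t) := by group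
        _ = s * t' := by rw [htt, mul_one]
    rw [e1, e2]
  have hst : s * t = 1 := h.eq_one_of_comm hy hz hzy
  have hst' : s = t := by
    have : s = t⁻¹ := eq_inv_of_mul_eq_one_left hst
    rw [this, htinv]
  have hs't' : s' = t' := by
    have : t * t' = t * s' := by rw [heq, hst']
    exact (mul_left_cancel this).symm
  constructor
  · rw [Subgroup.mem_centralizer_singleton_iff]
    have e : u₂ * a * u₂⁻¹ = u₁ * a * u₁⁻¹ := by rw [← hs, ← ht, hst']
    calc u₁⁻¹ * u₂ * a = u₁⁻¹ * (u₂ * a * u₂⁻¹) * u₂ := by group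
      _ = u₁⁻¹ * (u₁ * a * u₁⁻¹) * u₂ := by rw [e]
      _ = a * (u₁⁻¹ * u₂) := by group
  · rw [Subgroup.mem_centralizer_singleton_iff]
    have e : v₂ * a' * v₂⁻¹ = v₁ * a' * v₁⁻¹ := by rw [← hs', ← ht', hs't']
    calc v₁⁻¹ * v₂ * a' = v₁⁻¹ * (v₂ * a' * v₂⁻¹) * v₂ := by group
      _ = v₁⁻¹ * (v₁ * a' * v₁⁻¹) * v₂ := by rw [e]
      _ = a' * (v₁⁻¹ * v₂) := by group

/-- lower bound -/
theorem Setup.card_le_mul (h : Setup Q φ R) {a a' : G} (haa : a * a = 1) (haa' : a' * a' = 1)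
    {i : ZMod q} (hi : φ a = DihedralGroup.sr i) (hi' : φ a' = DihedralGroup.sr (i + 1)) :
    Nat.card ↥Q ≤ Nat.card ↥(Q ⊓ Subgroup.centralizer ({a} : Set G)) *
      Nat.card ↥(Q ⊓ Subgroup.centralizer ({a'} : Set G)) := by
  set A₁ : Subgroup ↥Q := (Q ⊓ Subgroup.centralizer ({a} : Set G)).subgroupOf Q with hA₁
  set A₂ : Subgroup ↥Q := (Q ⊓ Subgroup.centralizer ({a'} : Set G)).subgroupOf Q with hA₂
  have hφu : ∀ {u : G}, u ∈ Q → φ u = 1 := fun hu => (h.mem_iff _).mp hu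
  have hmem : ∀ u v : ↥Q, (a * a')⁻¹ * (((u : G) * a * (u : G)⁻¹) * ((v : G) * a' * (v : G)⁻¹)) ∈ Q := by
    intro u v
    rw [h.mem_iff]
    simp only [map_mul, map_inv, hφu u.2, hφu v.2, hi, hi']
    simp only [one_mul, inv_one, mul_one]
    rw [DihedralGroup.sr_mul_sr]
    exact inv_mul_cancel _
  let F : (↥Q ⧸ A₁) × (↥Q ⧸ A₂) → ↥Q := fun st =>
    ⟨(a * a')⁻¹ * (((st.1.out : G) * a * (st.1.out : G)⁻¹) * ((st.2.out : G) * a' * (st.2.out : G)⁻¹)),
      hmem _ _⟩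
  have hF : Function.Injective F := by
    rintro ⟨s₁, t₁⟩ ⟨s₂, t₂⟩ hf
    have hf' := congrArg Subtype.val hf
    simp only [F] at hf'
    have hf'' := mul_left_cancel hf'
    obtain ⟨h1, h2⟩ := h.conj_inj haa haa' hi hi' s₁.out.2 s₂.out.2 t₁.out.2 t₂.out.2 hf''
    have e1 : s₁ = s₂ := by
      rw [← QuotientGroup.out_eq' s₁, ← QuotientGroup.out_eq' s₂, QuotientGroup.eq]
      refine Subgroup.mem_subgroupOf.mpr ?_
      exact Subgroup.mem_inf.mpr ⟨mul_mem (inv_mem s₁.out.2) s₂.out.2, h1⟩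
    have e2 : t₁ = t₂ := by
      rw [← QuotientGroup.out_eq' t₁, ← QuotientGroup.out_eq' t₂, QuotientGroup.eq]
      refine Subgroup.mem_subgroupOf.mpr ?_
      exact Subgroup.mem_inf.mpr ⟨mul_mem (inv_mem t₁.out.2) t₂.out.2, h2⟩
    rw [e1, e2]
  have hle := Nat.card_le_card_of_injective F hF
  rw [Nat.card_prod] at hle
  have hc1 : Nat.card A₁ = Nat.card ↥(Q ⊓ Subgroup.centralizer ({a} : Set G)) :=
    Nat.card_congr (Subgroup.subgroupOfEquivOfLe inf_le_left).toEquiv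
  have hc2 : Nat.card A₂ = Nat.card ↥(Q ⊓ Subgroup.centralizer ({a'} : Set G)) :=
    Nat.card_congr (Subgroup.subgroupOfEquivOfLe inf_le_left).toEquiv
  have hi1 : Nat.card A₁ * Nat.card (↥Q ⧸ A₁) = Nat.card ↥Q := by
    rw [mul_comm]; exact (Subgroup.card_eq_card_quotient_mul_card_subgroup A₁).symm
  have hi2 : Nat.card A₂ * Nat.card (↥Q ⧸ A₂) = Nat.card ↥Q := by
    rw [mul_comm]; exact (Subgroup.card_eq_card_quotient_mul_card_subgroup A₂).symm
  rw [← hc1, ← hc2]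
  have hpos : 0 < Nat.card ↥Q := Nat.card_pos
  have key : Nat.card ↥Q * Nat.card ↥Q ≤ (Nat.card A₁ * Nat.card A₂) * Nat.card ↥Q := by
    calc Nat.card ↥Q * Nat.card ↥Q
        = (Nat.card A₁ * Nat.card (↥Q ⧸ A₁)) * (Nat.card A₂ * Nat.card (↥Q ⧸ A₂)) := by
          rw [hi1, hi2]
      _ = (Nat.card A₁ * Nat.card A₂) * (Nat.card (↥Q ⧸ A₁) * Nat.card (↥Q ⧸ A₂)) := by ring
      _ ≤ (Nat.card A₁ * Nat.card A₂) * Nat.card ↥Q := Nat.mul_le_mul_left _ hle
  exact Nat.le_of_mul_le_mul_right key hpos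

/-- conjugate elements have centralizers in `Q` of the same order -/
theorem Setup.card_conj (h : Setup Q φ R) (a n : G) :
    Nat.card ↥(Q ⊓ Subgroup.centralizer ({n * a * n⁻¹} : Set G)) =
      Nat.card ↥(Q ⊓ Subgroup.centralizer ({a} : Set G)) := by
  symm
  refine Nat.card_congr
    { toFun := fun u => ⟨n * (u : G) * n⁻¹, ?_⟩
      invFun := fun v => ⟨n⁻¹ * (v : G) * n, ?_⟩
      left_inv := fun u => by apply Subtype.ext; simp only; group
      right_inv := fun v => by apply Subtype.ext; simp only; group }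
  · obtain ⟨h1, h2⟩ := Subgroup.mem_inf.mp u.2
    refine Subgroup.mem_inf.mpr ⟨h.normal.conj_mem _ h1 n, ?_⟩
    rw [Subgroup.mem_centralizer_singleton_iff] at h2 ⊢
    calc n * (u : G) * n⁻¹ * (n * a * n⁻¹) = n * ((u : G) * a) * n⁻¹ := by group
      _ = n * (a * (u : G)) * n⁻¹ := by rw [h2]
      _ = n * a * n⁻¹ * (n * (u : G) * n⁻¹) := by group
  · obtain ⟨h1, h2⟩ := Subgroup.mem_inf.mp v.2
    refine Subgroup.mem_inf.mpr ⟨?_, ?_⟩
    · have := h.normal.conj_mem _ h1 n⁻¹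
      rwa [inv_inv] at this
    · rw [Subgroup.mem_centralizer_singleton_iff] at h2 ⊢
      calc n⁻¹ * (v : G) * n * a = n⁻¹ * ((v : G) * (n * a * n⁻¹)) * n := by group
        _ = n⁻¹ * ((n * a * n⁻¹) * (v : G)) * n := by rw [h2]
        _ = a * (n⁻¹ * (v : G) * n) := by group

end Main

/-- Let G be a finite group and r an odd prime such that G ⧸ O₂(G) is dihedral of order 2r, and let R be a Sylow r-subgroup of G with C_{O₂(G)}(R) = 1. Then N_G(R) is dihedral of order 2r; for any involution a of N_G(R), every involution of G outside O₂(G) is conjugate to a; and |C_{O₂(G)}(a)|² = |O₂(G)|. -/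
theorem result {G : Type*} [Group G] [Finite G] {r : ℕ} [Fact r.Prime] (hr : r ≠ 2) [hN : (Cfsg.pCore 2 G).Normal] (hquot : Nonempty (G ⧸ Cfsg.pCore 2 G ≃* DihedralGroup r)) (R : Sylow r G) (hC : Cfsg.pCore 2 G ⊓ Subgroup.centralizer ((R : Subgroup G) : Set G) = ⊥) : Nonempty (↥(Subgroup.normalizer ((R : Subgroup G) : Set G)) ≃* DihedralGroup r) ∧ ∀ a : G, a ∈ Subgroup.normalizer ((R : Subgroup G) : Set G) → orderOf a = 2 → (∀ b : G, orderOf b = 2 → b ∉ Cfsg.pCore 2 G → ∃ g : G, g * a * g⁻¹ = b) ∧ Nat.card ↥(Cfsg.pCore 2 G ⊓ Subgroup.centralizer ({a} : Set G)) ^ 2 = Nat.card ↥(Cfsg.pCore 2 G) := by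
  obtain ⟨e⟩ := hquot
  let φ : G →* DihedralGroup r := e.toMonoidHom.comp (QuotientGroup.mk' (Cfsg.pCore 2 G))
  have hS : Setup (Cfsg.pCore 2 G) φ R :=
    { hq2 := hr
      normal := hN
      pgroup := Cfsg.Agent.Lib.Helper1_Cores.pCore_isPGroup 2
      surj := e.surjective.comp (QuotientGroup.mk'_surjective _)
      ker := by
        ext x
        rw [MonoidHom.mem_ker]
        show e (QuotientGroup.mk' (Cfsg.pCore 2 G) x) = 1 ↔ _
        rw [MulEquiv.map_eq_one_iff, QuotientGroup.mk'_apply, QuotientGroup.eq_one_iff]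
      hC := hC }
  refine ⟨?_, ?_⟩
  · let ψ : ↥(Subgroup.normalizer ((R : Subgroup G) : Set G)) →* DihedralGroup r :=
      φ.comp (Subgroup.subtype _)
    have hbij : Function.Bijective ψ := by
      constructor
      · intro x y hxy
        exact Subtype.ext (hS.inj x.2 y.2 hxy)
      · intro d
        obtain ⟨n, hn, hd⟩ := hS.exists_N d
        exact ⟨⟨n, hn⟩, hd⟩
    exact ⟨MulEquiv.ofBijective ψ hbij⟩
  · intro a ha hoa
    have ha1 : a ≠ 1 := by rintro rfl; rw [orderOf_one] at hoa; omega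
    have haa : a * a = 1 := by rw [← pow_two, ← hoa, pow_orderOf_eq_one]
    obtain ⟨i, hi⟩ := hS.invol ha ha1 haa
    constructor
    · intro b hob hbQ
      have hb1 : b ≠ 1 := by rintro rfl; rw [orderOf_one] at hob; omega
      have hbb : b * b = 1 := by rw [← pow_two, ← hob, pow_orderOf_eq_one]
      have hφb1 : φ b ≠ 1 := fun h1 => hbQ ((hS.mem_iff b).mpr h1)
      obtain ⟨j, hj⟩ := eq_sr_of_mul_self hr (φ b) hφb1 (by rw [← map_mul, hbb, map_one])
      obtain ⟨a', ha', hja'⟩ := hS.exists_N (DihedralGroup.sr (j + 1))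
      have ha'a' : a' * a' = 1 := by
        apply hS.inj (mul_mem ha' ha') (one_mem _)
        rw [map_mul, hja', DihedralGroup.sr_mul_self, map_one]
      have hy : φ (b * a') = DihedralGroup.r 1 := by
        rw [map_mul, hj, hja', DihedralGroup.sr_mul_sr]; congr 1; ring
      have hbinv : b⁻¹ = b := inv_eq_of_mul_eq_one_right hbb
      have ha'inv : a'⁻¹ = a' := inv_eq_of_mul_eq_one_right ha'a'
      have hinv : b * (b * a') * b⁻¹ = (b * a')⁻¹ := by
        rw [mul_inv_rev, ha'inv]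
        calc b * (b * a') * b⁻¹ = (b * b) * a' * b⁻¹ := by group
          _ = a' * b⁻¹ := by rw [hbb, one_mul]
      obtain ⟨g, hg⟩ := hS.conj_mem_normalizer hy hinv
      have hb'1 : g⁻¹ * b * g ≠ 1 := by
        intro h1
        apply hb1
        calc b = g * (g⁻¹ * b * g) * g⁻¹ := by group
          _ = 1 := by rw [h1]; group
      have hb'b' : (g⁻¹ * b * g) * (g⁻¹ * b * g) = 1 := by
        calc (g⁻¹ * b * g) * (g⁻¹ * b * g) = g⁻¹ * (b * b) * g := by group
          _ = 1 := by rw [hbb]; group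
      obtain ⟨k, hk⟩ := hS.invol hg hb'1 hb'b'
      obtain ⟨n, hn, hna⟩ := hS.conj_invol ha hg hi hk
      refine ⟨g * n, ?_⟩
      calc g * n * a * (g * n)⁻¹ = g * (n * a * n⁻¹) * g⁻¹ := by group
        _ = g * (g⁻¹ * b * g) * g⁻¹ := by rw [hna]
        _ = b := by group
    · obtain ⟨a', ha', hia'⟩ := hS.exists_N (DihedralGroup.sr (i + 1))
      have ha'a' : a' * a' = 1 := by
        apply hS.inj (mul_mem ha' ha') (one_mem _)
        rw [map_mul, hia', DihedralGroup.sr_mul_self, map_one]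
      obtain ⟨n, hn, hna⟩ := hS.conj_invol ha ha' hi hia'
      have hcard : Nat.card ↥(Cfsg.pCore 2 G ⊓ Subgroup.centralizer ({a'} : Set G)) =
          Nat.card ↥(Cfsg.pCore 2 G ⊓ Subgroup.centralizer ({a} : Set G)) := by
        rw [← hna]; exact hS.card_conj a n
      have hy : φ (a * a') = DihedralGroup.r 1 := by
        rw [map_mul, hi, hia', DihedralGroup.sr_mul_sr]; congr 1; ring
      have h1 := hS.card_mul_le hy
      have h2 := hS.card_le_mul haa ha'a' hi hia'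
      rw [hcard] at h1 h2
      rw [pow_two]
      exact le_antisymm h1 h2

end Cfsg.Agent.S2873
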