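import Cfsg.Statements.S2881
import Cfsg.Agent.Lib.Helper48_Extraspecial

set_option autoImplicit false
open Cfsg
open scoped commutatorElement
open Cfsg.Agent.Lib.Helper48_Extraspecial

namespace Cfsg.Agent.S2881

theorem four_dvd_of_five_dvd (m : ℕ) (h : 5 ∣ 2 ^ (2 * m) - 2 ^ m) : 4 ∣ m := by
  have hle : 2 ^ m ≤ 2 ^ (2 * m) := Nat.pow_le_pow_right (by norm_num) (by omega)
  have h1 : 2 ^ m ≡ 2 ^ (2 * m) [MOD 5] := (Nat.modEq_iff_dvd' hle).mpr h
  have h16 : ∀ q : ℕ, 2 ^ (4 * q) % 5 = 1 := by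
    intro q
    rw [pow_mul, Nat.pow_mod]
    norm_num
  obtain ⟨q, r, hr, rfl⟩ : ∃ q r, r < 4 ∧ m = 4 * q + r :=
    ⟨m / 4, m % 4, Nat.mod_lt _ (by norm_num), (Nat.div_add_mod m 4).symm⟩
  have h2 : 2 ^ (4 * q + r) % 5 = 2 ^ r % 5 := by
    rw [pow_add, Nat.mul_mod, h16, one_mul, Nat.mod_mod]
  have h3 : 2 ^ (2 * (4 * q + r)) % 5 = (2 ^ r % 5) ^ 2 % 5 := by
    rw [mul_comm 2, pow_mul, Nat.pow_mod, h2]
  unfold Nat.ModEq at h1
  rw [h2, h3] at h1
  interval_cases r
  · omega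
  · norm_num at h1
  · norm_num at h1
  · norm_num at h1

/-- Let E be an extraspecial 2-group of order 2^(2m+1) of plus type (containing an elementary abelian subgroup of order 2^(m+1)), and let ω be an automorphism of E of order 5 whose fixed points are exactly the centre of E. Then m is divisible by 4. -/
theorem result {E : Type*} [Group E] [Finite E] (m : ℕ) (hm : 1 ≤ m) (hE : Cfsg.IsExtraspecial 2 E) (hcard : Nat.card E = 2 ^ (2 * m + 1)) (hplus : ∃ A : Subgroup E, Cfsg.IsElementaryAbelian 2 A ∧ Nat.card A = 2 ^ (m + 1)) (ω : E ≃* E) (hω : orderOf ω = 5) (hfix : ∀ x : E, ω x = x ↔ x ∈ Subgroup.center E) : 4 ∣ m := by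
  classical
  have hcount : Nat.card {x : E // orderOf x = 4} = 2 ^ (2 * m) - 2 ^ m := by
    obtain ⟨⟨-, -, hcomm⟩, hZ⟩ := hE
    have hcl : ∀ a b : E, ⁅a, b⁆ ∈ Subgroup.center E := by
      intro a b
      rw [← hcomm, commutator_def]
      exact Subgroup.commutator_mem_commutator (Subgroup.mem_top a) (Subgroup.mem_top b)
    obtain ⟨A, ⟨hAc, hAexp⟩, hA⟩ := hplus
    exact card_orderOf_eq_four hcl hZ A hAc hAexp m hcard hA
  apply four_dvd_of_five_dvd
  rw [← hcount]
  have : Fintype {x : E // orderOf x = 4} := Fintype.ofFinite _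
  let f : Function.End {x : E // orderOf x = 4} := fun x => ⟨ω x.1, by rw [MulEquiv.orderOf_eq]; exact x.2⟩
  have hpow : ∀ (k : ℕ) (x : {x : E // orderOf x = 4}), (((f ^ k) x : {x : E // orderOf x = 4}) : E) = (ω ^ k) x.1 := by
    intro k
    induction k with
    | zero => intro x; rfl
    | succ k ih =>
      intro x
      rw [pow_succ', pow_succ']
      show ω (((f ^ k) x : {x : E // orderOf x = 4}) : E) = (ω * ω ^ k) x.1
      rw [ih]
      rfl
  have hf : f ^ 5 ^ 1 = 1 := by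
    funext x
    apply Subtype.ext
    rw [pow_one, hpow, ← hω, pow_orderOf_eq_one]
    rfl
  have hp5 : Fact (Nat.Prime 5) := ⟨Nat.prime_five⟩
  have hmod := Equiv.Perm.card_fixedPoints_modEq (p := 5) (n := 1) hf
  have hempty : IsEmpty (Function.fixedPoints f) := by
    constructor
    rintro ⟨x, hx⟩
    have h1 : ω x.1 = x.1 := congrArg Subtype.val hx
    have h2 : x.1 ∈ Subgroup.center E := (hfix x.1).mp h1
    have h3 := pow_card_eq_one' (G := Subgroup.center E) (x := ⟨x.1, h2⟩)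
    rw [hE.2] at h3
    have h4 : x.1 ^ 2 = 1 := congrArg Subtype.val h3
    have h5 := orderOf_dvd_of_pow_eq_one h4
    rw [x.2] at h5
    omega
  have h0 : Fintype.card (Function.fixedPoints f) = 0 := Fintype.card_eq_zero
  rw [h0, ← Nat.card_eq_fintype_card] at hmod
  exact (Nat.modEq_zero_iff_dvd).mp hmod

end Cfsg.Agent.S2881
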