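import Cfsg.Statements.S2896
import Cfsg.Agent.Lib.Helper48_CharP

set_option autoImplicit false
open Cfsg
open scoped Pointwise
open Cfsg.Agent.Lib.Helper49_CharP
open Cfsg.Agent.Lib.Helper48_SPE
open Cfsg.Agent.Lib.Helper48_CharP

namespace Cfsg.Agent.S2896

/-- A nontrivial `p`-subgroup `R` normalized by a `p`-subgroup `T ≥ R` contains an element of
order `p` central in `T`. -/
theorem exists_central_orderOf_eq {G : Type*} [Group G] [Finite G] {p : ℕ} [Fact p.Prime]
    {R T : Subgroup G} (hT : IsPGroup p T) (hRT : R ≤ T) (hN : T ≤ Subgroup.normalizer (R : Set G))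
    (hR1 : R ≠ ⊥) : ∃ z ∈ R, orderOf z = p ∧ ∀ t ∈ T, t * z = z * t := by
  have h1 := inf_centralizer_ne_bot hT hRT hN hR1
  have h2 : IsPGroup p ↥(R ⊓ Subgroup.centralizer (T : Set G) : Subgroup G) :=
    hT.to_le (inf_le_left.trans hRT)
  obtain ⟨z, hz, hord⟩ := exists_orderOf_eq_prime_of_ne_bot h2 h1
  exact ⟨z, hz.1, hord, fun t ht => Subgroup.mem_centralizer_iff.mp hz.2 t ht⟩


/-- Let p be a prime dividing the order of the finite group G, S a Sylow p-subgroup of G and X a subgroup of S. (i) If some nontrivial element z of the centre of X has F*(C_G(z)) = O_p(C_G(z)), then F*(N_G(X)) = O_p(N_G(X)). (ii) G has parabolic characteristic p if and only if F*(C_G(z)) = O_p(C_G(z)) for every nontrivial z ∈ Ω₁(Z(S)). (iii) If F*(C_G(z)) = O_p(C_G(z)) for every element z of S of order p, then G has local characteristic p. -/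
theorem result {G : Type*} [Group G] [Finite G] {p : ℕ} [Fact p.Prime] (hdiv : p ∣ Nat.card G) (S : Sylow p G) (X : Subgroup G) (hX : X ≤ (S : Subgroup G)) : (∀ z : G, z ≠ 1 → z ∈ X → (∀ x ∈ X, x * z = z * x) → Cfsg.generalizedFittingSubgroup ↥(Subgroup.centralizer ({z} : Set G)) = Cfsg.pCore p ↥(Subgroup.centralizer ({z} : Set G)) → Cfsg.generalizedFittingSubgroup ↥(Subgroup.normalizer (X : Set G)) = Cfsg.pCore p ↥(Subgroup.normalizer (X : Set G))) ∧ (Cfsg.IsOfParabolicCharacteristic p G ↔ ∀ z : G, z ≠ 1 → z ∈ Cfsg.omegaOne p ((S : Subgroup G) ⊓ Subgroup.centralizer ((S : Subgroup G) : Set G)) → Cfsg.generalizedFittingSubgroup ↥(Subgroup.centralizer ({z} : Set G)) = Cfsg.pCore p ↥(Subgroup.centralizer ({z} : Set G))) ∧ ((∀ z : G, z ∈ (S : Subgroup G) → orderOf z = p → Cfsg.generalizedFittingSubgroup ↥(Subgroup.centralizer ({z} : Set G)) = Cfsg.pCore p ↥(Subgroup.centralizer ({z} : Set G))) → Cfsg.IsOfLocalCharacteristic p G) := by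
  have hp : p.Prime := Fact.out
  refine ⟨?_, ⟨?_, ?_⟩, ?_⟩
  · -- (i)
    intro z _ hzX hzc hF
    have hXp : IsPGroup p X := S.isPGroup'.to_le hX
    exact (isCharP_normalizer_of_central X hXp z hzX hzc
      (IsCharP.of_generalizedFitting_eq hF)).generalizedFitting_eq
  · -- (ii) forward
    intro hpar z hz1 hzΩ
    have hzZ : z ∈ (S : Subgroup G) ⊓ Subgroup.centralizer ((S : Subgroup G) : Set G) := by
      have hle : Cfsg.omegaOne p ((S : Subgroup G) ⊓ Subgroup.centralizer ((S : Subgroup G) : Set G)) ≤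
          (S : Subgroup G) ⊓ Subgroup.centralizer ((S : Subgroup G) : Set G) := by
        unfold Cfsg.omegaOne
        rw [Subgroup.closure_le]
        intro x hx
        exact hx.1
      exact hle hzΩ
    have hRp : IsPGroup p ↥(Subgroup.zpowers z) :=
      S.isPGroup'.to_le ((Subgroup.zpowers_le).mpr hzZ.1)
    have hR1 : Subgroup.zpowers z ≠ ⊥ := by
      rw [Ne, Subgroup.zpowers_eq_bot]
      exact hz1
    have hpara : Cfsg.IsParabolic p (Subgroup.normalizer ((Subgroup.zpowers z : Subgroup G) : Set G)) := by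
      refine ⟨S, ?_⟩
      refine le_trans ?_ (centralizer_singleton_le_normalizer_zpowers z)
      intro s hs
      rw [Subgroup.mem_centralizer_singleton_iff]
      exact Subgroup.mem_centralizer_iff.mp hzZ.2 s hs
    have h1 : IsCharP p ↥(Subgroup.normalizer ((Subgroup.zpowers z : Subgroup G) : Set G)) :=
      hpar _ hRp hR1 hpara
    exact (isCharP_centralizer_of_normalizer_zpowers z h1).generalizedFitting_eq
  · -- (ii) backward
    intro hyp R hRp hR1 hpara
    obtain ⟨T, hT⟩ := hpara
    have hRT : R ≤ (T : Subgroup G) := by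
      have h1 : IsPGroup p ↥(R ⊔ (T : Subgroup G) : Subgroup G) :=
        IsPGroup.to_sup_of_normal_left' hRp T.isPGroup' hT
      have h2 := T.is_maximal' h1 le_sup_right
      rw [← h2]
      exact le_sup_left
    obtain ⟨z', hz'R, hord, hz'c⟩ := exists_central_orderOf_eq T.isPGroup' hRT hT hR1
    obtain ⟨g, hg⟩ := MulAction.exists_smul_eq G S T
    have hTS : (T : Subgroup G) = MulAut.conj g • (S : Subgroup G) := by
      rw [← hg]; rfl
    have hz'T : z' ∈ (T : Subgroup G) := hRT hz'R
    have hzS : g⁻¹ * z' * g ∈ (S : Subgroup G) := by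
      rw [hTS, mem_conj_smul_iff] at hz'T
      exact hz'T
    have hzc : g⁻¹ * z' * g ∈ Subgroup.centralizer ((S : Subgroup G) : Set G) := by
      rw [Subgroup.mem_centralizer_iff]
      intro s hs
      have h1 : g * s * g⁻¹ ∈ (T : Subgroup G) := by
        rw [hTS]; exact conj_mem_conj_smul hs
      have h2 := hz'c _ h1
      calc s * (g⁻¹ * z' * g) = g⁻¹ * (g * s * g⁻¹ * z') * g := by group
        _ = g⁻¹ * (z' * (g * s * g⁻¹)) * g := by rw [h2]
        _ = g⁻¹ * z' * g * s := by group
    have hzp : (g⁻¹ * z' * g) ^ p = 1 := by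
      have h1 : (g⁻¹ * z' * g) ^ p = g⁻¹ * z' ^ p * g := by
        have := conj_pow (a := g⁻¹) (b := z') (i := p)
        rw [inv_inv] at this
        exact this
      rw [h1, ← hord, pow_orderOf_eq_one]
      group
    have hz1 : g⁻¹ * z' * g ≠ 1 := by
      intro h
      have h1 : z' = 1 := by
        have : z' = g * (g⁻¹ * z' * g) * g⁻¹ := by group
        rw [this, h]; group
      rw [h1, orderOf_one] at hord
      exact hp.one_lt.ne hord
    have hzΩ : g⁻¹ * z' * g ∈
        Cfsg.omegaOne p ((S : Subgroup G) ⊓ Subgroup.centralizer ((S : Subgroup G) : Set G)) :=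
      Subgroup.subset_closure ⟨⟨hzS, hzc⟩, hzp⟩
    have h1 := IsCharP.of_generalizedFitting_eq (hyp _ hz1 hzΩ)
    have h2 := isCharP_centralizer_conj g _ h1
    have e : g * (g⁻¹ * z' * g) * g⁻¹ = z' := by group
    rw [e] at h2
    exact isCharP_normalizer_of_central R hRp z' hz'R (fun x hx => hz'c x (hRT hx)) h2
  · -- (iii)
    intro hyp
    refine ⟨hdiv, ?_⟩
    intro T hTp hT1
    obtain ⟨z', hz'T, hord, hz'c⟩ := exists_central_orderOf_eq hTp le_rfl Subgroup.le_normalizer hT1
    obtain ⟨P, hP⟩ := hTp.exists_le_sylow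
    obtain ⟨g, hg⟩ := MulAction.exists_smul_eq G S P
    have hPS : (P : Subgroup G) = MulAut.conj g • (S : Subgroup G) := by
      rw [← hg]; rfl
    have hzS : g⁻¹ * z' * g ∈ (S : Subgroup G) := by
      have h1 : z' ∈ (P : Subgroup G) := hP hz'T
      rw [hPS, mem_conj_smul_iff] at h1
      exact h1
    have hzord : orderOf (g⁻¹ * z' * g) = p := by
      have h1 : g⁻¹ * z' * g = (MulAut.conj g⁻¹) z' := by
        rw [MulAut.conj_apply, inv_inv]
      rw [h1, MulEquiv.orderOf_eq, hord]
    have h1 := IsCharP.of_generalizedFitting_eq (hyp _ hzS hzord)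
    have h2 := isCharP_centralizer_conj g _ h1
    have e : g * (g⁻¹ * z' * g) * g⁻¹ = z' := by group
    rw [e] at h2
    exact isCharP_normalizer_of_central T hTp z' hz'T hz'c h2

end Cfsg.Agent.S2896
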