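import Cfsg.Statements.S2897
import Cfsg.Agent.Lib.Helper48_CharP
import Cfsg.Agent.S2896

set_option autoImplicit false
open Cfsg
open scoped Pointwise
open Cfsg.Agent.Lib.Helper49_CharP
open Cfsg.Agent.Lib.Helper48_SPE
open Cfsg.Agent.Lib.Helper48_CharP

namespace Cfsg.Agent.S2897

/-- `A ∩ B` viewed inside `B` or inside `A`: same group. -/
theorem isCharP_subgroupOf_swap {G : Type*} [Group G] {p : ℕ} {A B : Subgroup G}
    (h : IsCharP p ↥(A.subgroupOf B)) : IsCharP p ↥(B.subgroupOf A) := by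
  have e1 : A.subgroupOf B = (A ⊓ B).subgroupOf B := (Subgroup.inf_subgroupOf_right A B).symm
  rw [e1] at h
  have h2 : IsCharP p ↥(A ⊓ B : Subgroup G) := h.of_mulEquiv (Subgroup.subgroupOfEquivOfLe inf_le_right)
  have e2 : B.subgroupOf A = (A ⊓ B).subgroupOf A := (Subgroup.inf_subgroupOf_left B A).symm
  rw [e2]
  exact h2.of_mulEquiv (Subgroup.subgroupOfEquivOfLe inf_le_left).symm

theorem centralizer_singleton_subtype {G : Type*} [Group G] (N : Subgroup G) (z : ↥N) :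
    Subgroup.centralizer ({z} : Set ↥N) = (Subgroup.centralizer ({(z : G)} : Set G)).subgroupOf N := by
  ext x
  rw [Subgroup.mem_subgroupOf, Subgroup.mem_centralizer_singleton_iff,
    Subgroup.mem_centralizer_singleton_iff]
  constructor
  · intro h
    have := congrArg Subtype.val h
    simpa using this
  · intro h
    apply Subtype.ext
    simpa using h


/-- Let p be a prime dividing the order of the finite group G, suppose G has parabolic characteristic p, let S be a Sylow p-subgroup of G and G₁ a normal subgroup of G. If Ω₁(Z(S ∩ G₁)) is nontrivial and contained in Ω₁(Z(S)), then G₁ has parabolic characteristic p. -/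
theorem result {G : Type*} [Group G] [Finite G] {p : ℕ} [Fact p.Prime] (hdiv : p ∣ Nat.card G) (hG : Cfsg.IsOfParabolicCharacteristic p G) (S : Sylow p G) (G₁ : Subgroup G) [G₁.Normal] (hne : Cfsg.omegaOne p (((S : Subgroup G) ⊓ G₁) ⊓ Subgroup.centralizer (((S : Subgroup G) ⊓ G₁ : Subgroup G) : Set G)) ≠ ⊥) (hle : Cfsg.omegaOne p (((S : Subgroup G) ⊓ G₁) ⊓ Subgroup.centralizer (((S : Subgroup G) ⊓ G₁ : Subgroup G) : Set G)) ≤ Cfsg.omegaOne p ((S : Subgroup G) ⊓ Subgroup.centralizer ((S : Subgroup G) : Set G))) : Cfsg.IsOfParabolicCharacteristic p ↥G₁ := by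
  have hp : p.Prime := Fact.out
  intro R₁ hR₁p hR₁1 hpara
  obtain ⟨T₁, hT₁⟩ := hpara
  -- `R₁ ≤ T₁`
  have hR₁T₁ : R₁ ≤ (T₁ : Subgroup ↥G₁) := by
    have h1 : IsPGroup p ↥(R₁ ⊔ (T₁ : Subgroup ↥G₁) : Subgroup ↥G₁) :=
      IsPGroup.to_sup_of_normal_left' hR₁p T₁.isPGroup' hT₁
    have h2 := T₁.is_maximal' h1 le_sup_right
    rw [← h2]
    exact le_sup_left
  obtain ⟨z₁, hz₁R, hord, hz₁c⟩ :=
    Cfsg.Agent.S2896.exists_central_orderOf_eq T₁.isPGroup' hR₁T₁ hT₁ hR₁1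
  refine isCharP_normalizer_of_central R₁ hR₁p z₁ hz₁R (fun x hx => hz₁c x (hR₁T₁ hx)) ?_
  -- the centralizer of `z₁` in `G₁` has characteristic `p`
  rw [centralizer_singleton_subtype]
  apply isCharP_subgroupOf_swap
  suffices h : IsCharP p ↥(Subgroup.centralizer ({(z₁ : G)} : Set G)) from
    h.of_normal (G₁.subgroupOf (Subgroup.centralizer ({(z₁ : G)} : Set G)))
  -- a Sylow subgroup of `G` over `T₁`
  have hTp : IsPGroup p ↥((T₁ : Subgroup ↥G₁).map G₁.subtype) := T₁.isPGroup'.map _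
  obtain ⟨P, hP⟩ := hTp.exists_le_sylow
  obtain ⟨g, hg⟩ := MulAction.exists_smul_eq G S P
  have hPS : (P : Subgroup G) = MulAut.conj g • (S : Subgroup G) := by
    rw [← hg]; rfl
  -- `P ⊓ G₁` is the image of `T₁`
  have hPT : ∀ x : G, x ∈ (P : Subgroup G) → ∀ hx : x ∈ G₁, (⟨x, hx⟩ : ↥G₁) ∈ (T₁ : Subgroup ↥G₁) := by
    intro x hxP hx
    have h1 : IsPGroup p ↥(((P : Subgroup G).subgroupOf G₁) : Subgroup ↥G₁) :=
      P.isPGroup'.comap_subtype
    have h2 : (T₁ : Subgroup ↥G₁) ≤ (P : Subgroup G).subgroupOf G₁ := by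
      intro t ht
      rw [Subgroup.mem_subgroupOf]
      exact hP ⟨t, ht, rfl⟩
    have h3 := T₁.is_maximal' h1 h2
    rw [← h3, Subgroup.mem_subgroupOf]
    exact hxP
  have hz₁T : z₁ ∈ (T₁ : Subgroup ↥G₁) := hR₁T₁ hz₁R
  have hzP : (z₁ : G) ∈ (P : Subgroup G) := hP ⟨z₁, hz₁T, rfl⟩
  have hzS : g⁻¹ * (z₁ : G) * g ∈ (S : Subgroup G) := by
    rw [hPS, mem_conj_smul_iff] at hzP
    exact hzP
  have hzG₁ : g⁻¹ * (z₁ : G) * g ∈ G₁ := by
    have := ‹G₁.Normal›.conj_mem (z₁ : G) z₁.2 g⁻¹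
    rwa [inv_inv] at this
  have hzc : g⁻¹ * (z₁ : G) * g ∈
      Subgroup.centralizer (((S : Subgroup G) ⊓ G₁ : Subgroup G) : Set G) := by
    rw [Subgroup.mem_centralizer_iff]
    rintro s ⟨hsS, hsG⟩
    have h1 : g * s * g⁻¹ ∈ (P : Subgroup G) := by
      rw [hPS]; exact conj_mem_conj_smul hsS
    have h1' : g * s * g⁻¹ ∈ G₁ := ‹G₁.Normal›.conj_mem s hsG g
    have h2 := hz₁c _ (hPT _ h1 h1')
    have h3 : g * s * g⁻¹ * (z₁ : G) = (z₁ : G) * (g * s * g⁻¹) := by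
      have := congrArg Subtype.val h2
      simpa using this
    calc s * (g⁻¹ * (z₁ : G) * g) = g⁻¹ * (g * s * g⁻¹ * (z₁ : G)) * g := by group
      _ = g⁻¹ * ((z₁ : G) * (g * s * g⁻¹)) * g := by rw [h3]
      _ = g⁻¹ * (z₁ : G) * g * s := by group
  have hordG : orderOf (z₁ : G) = p := by
    rw [Subgroup.orderOf_coe]; exact hord
  have hzp : (g⁻¹ * (z₁ : G) * g) ^ p = 1 := by
    have h1 : (g⁻¹ * (z₁ : G) * g) ^ p = g⁻¹ * (z₁ : G) ^ p * g := by
      have := conj_pow (a := g⁻¹) (b := (z₁ : G)) (i := p)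
      rw [inv_inv] at this
      exact this
    rw [h1, ← hordG, pow_orderOf_eq_one]
    group
  have hz1 : g⁻¹ * (z₁ : G) * g ≠ 1 := by
    intro h
    have h1 : (z₁ : G) = 1 := by
      have : (z₁ : G) = g * (g⁻¹ * (z₁ : G) * g) * g⁻¹ := by group
      rw [this, h]; group
    rw [h1, orderOf_one] at hordG
    exact hp.one_lt.ne hordG
  have hzΩ : g⁻¹ * (z₁ : G) * g ∈
      Cfsg.omegaOne p ((S : Subgroup G) ⊓ Subgroup.centralizer ((S : Subgroup G) : Set G)) :=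
    hle (Subgroup.subset_closure ⟨⟨⟨hzS, hzG₁⟩, hzc⟩, hzp⟩)
  have h1 := IsCharP.of_generalizedFitting_eq
    ((Cfsg.Agent.S2896.result hdiv S (S : Subgroup G) le_rfl).2.1.mp hG _ hz1 hzΩ)
  have h2 := isCharP_centralizer_conj g _ h1
  have e : g * (g⁻¹ * (z₁ : G) * g) * g⁻¹ = (z₁ : G) := by group
  rw [e] at h2
  exact h2

end Cfsg.Agent.S2897
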