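import Cfsg.Statements.S2898
import Cfsg.Agent.Lib.Helper48_CharP
import Cfsg.Agent.S2896

set_option autoImplicit false
open Cfsg
open scoped Pointwise
open scoped commutatorElement
open Cfsg.Agent.Lib.Helper49_CharP
open Cfsg.Agent.Lib.Helper48_SPE
open Cfsg.Agent.Lib.Helper48_CharP

namespace Cfsg.Agent.S2898

/-- A group of characteristic `p` has trivial `p'`-core. -/
theorem pPrimeCore_eq_bot_of_isCharP {A : Type*} [Group A] [Finite A] {p : ℕ} [Fact p.Prime]
    (hA : IsCharP p A) : pPrimeCore p A = ⊥ := by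
  have hQn : (pCore p A).Normal := pCoreNormal p A
  have hKn : (pPrimeCore p A).Normal := Cfsg.Agent.Lib.Helper1_Cores.pPrimeCore_normal p
  have hinf : pPrimeCore p A ⊓ pCore p A = ⊥ := by
    apply Disjoint.eq_bot
    apply Subgroup.disjoint_of_coprime_natCard
    obtain ⟨b, hb⟩ := IsPGroup.iff_card.mp (pCore_isPGroup p A)
    rw [hb]
    exact Nat.Coprime.pow_right b (Cfsg.Agent.Lib.Helper1_Cores.pPrimeCore_card_coprime p)
  have hcomm : ⁅pPrimeCore p A, pCore p A⁆ = ⊥ := by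
    have := Subgroup.commutator_le_inf (pPrimeCore p A) (pCore p A)
    rwa [hinf, le_bot_iff] at this
  rw [Subgroup.commutator_eq_bot_iff_le_centralizer] at hcomm
  have hle : pPrimeCore p A ≤ pPrimeCore p A ⊓ pCore p A := le_inf le_rfl (hcomm.trans hA)
  rw [hinf] at hle
  exact le_bot_iff.mp hle

/-- A normal subgroup of odd order of `G` lying in a subgroup `L` of characteristic `2` is trivial. -/
theorem eq_bot_of_le_of_isCharP {G : Type*} [Group G] [Finite G] {p : ℕ} [Fact p.Prime]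
    (K : Subgroup G) [K.Normal] (hK : (Nat.card K).Coprime p) (L : Subgroup G) (hKL : K ≤ L)
    (hL : IsCharP p ↥L) : K = ⊥ := by
  have h1 : pPrimeCore p ↥L = ⊥ := pPrimeCore_eq_bot_of_isCharP hL
  have h2 : K.subgroupOf L ≤ pPrimeCore p ↥L := by
    apply Cfsg.Agent.Lib.Helper1_Cores.le_pPrimeCore inferInstance
    rw [Nat.card_congr (Subgroup.subgroupOfEquivOfLe hKL).toEquiv]
    exact hK
  rw [h1, le_bot_iff] at h2
  rw [eq_bot_iff]
  intro k hk
  have : (⟨k, hKL hk⟩ : ↥L) ∈ K.subgroupOf L := by rw [Subgroup.mem_subgroupOf]; exact hk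
  rw [h2, Subgroup.mem_bot] at this
  rw [Subgroup.mem_bot]
  exact congrArg Subtype.val this

/-- If `G` has parabolic characteristic `p`, `K` is a normal `p'`-subgroup and some normal subgroup `C`
of order divisible by `p` centralizes `K`, then `K = 1`. -/
theorem eq_bot_of_even_centralizing {G : Type*} [Group G] [Finite G] {p : ℕ} [Fact p.Prime]
    (hG : Cfsg.IsOfParabolicCharacteristic p G) (K : Subgroup G) [K.Normal]
    (hKcop : (Nat.card K).Coprime p) (C : Subgroup G) [hCn : C.Normal]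
    (hCK : C ≤ Subgroup.centralizer (K : Set G)) (hdvd : p ∣ Nat.card C) : K = ⊥ := by
  obtain ⟨T₀⟩ : Nonempty (Sylow p ↥C) := inferInstance
  have hT₀1 : (T₀ : Subgroup ↥C) ≠ ⊥ := T₀.ne_bot_of_dvd_card hdvd
  have hTp : IsPGroup p ↥((T₀ : Subgroup ↥C).map C.subtype) := T₀.isPGroup'.map _
  have hT1 : (T₀ : Subgroup ↥C).map C.subtype ≠ ⊥ := by
    intro h
    apply hT₀1
    rw [eq_bot_iff]
    intro x hx
    have : (x : G) ∈ (T₀ : Subgroup ↥C).map C.subtype := ⟨x, hx, rfl⟩
    rw [h, Subgroup.mem_bot] at this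
    rw [Subgroup.mem_bot]
    exact Subtype.ext this
  have hTC : (T₀ : Subgroup ↥C).map C.subtype ≤ C := Subgroup.map_subtype_le _
  obtain ⟨P, hP⟩ := hTp.exists_le_sylow
  -- `P ⊓ C = T`
  have hPT : (P : Subgroup G) ⊓ C ≤ (T₀ : Subgroup ↥C).map C.subtype := by
    rintro x ⟨hxP, hxC⟩
    have h1 : IsPGroup p ↥(((P : Subgroup G).subgroupOf C) : Subgroup ↥C) :=
      P.isPGroup'.comap_subtype
    have h2' : (T₀ : Subgroup ↥C) ≤ (P : Subgroup G).subgroupOf C := by
      intro t ht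
      rw [Subgroup.mem_subgroupOf]
      exact hP ⟨t, ht, rfl⟩
    have h3 := T₀.is_maximal' h1 h2'
    have h4 : (⟨x, hxC⟩ : ↥C) ∈ (T₀ : Subgroup ↥C) := by
      rw [← h3, Subgroup.mem_subgroupOf]
      exact hxP
    exact ⟨⟨x, hxC⟩, h4, rfl⟩
  have hPN : (P : Subgroup G) ≤
      Subgroup.normalizer (((T₀ : Subgroup ↥C).map C.subtype : Subgroup G) : Set G) := by
    intro x hx
    have hconj : ∀ y : G, y ∈ (P : Subgroup G) → ∀ t ∈ (T₀ : Subgroup ↥C).map C.subtype,
        y * t * y⁻¹ ∈ (T₀ : Subgroup ↥C).map C.subtype := by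
      intro y hy t ht
      apply hPT
      exact ⟨(P : Subgroup G).mul_mem ((P : Subgroup G).mul_mem hy (hP ht))
        ((P : Subgroup G).inv_mem hy), hCn.conj_mem t (hTC ht) y⟩
    rw [Subgroup.mem_normalizer_iff]
    intro t
    constructor
    · exact hconj x hx t
    · intro h
      have := hconj x⁻¹ ((P : Subgroup G).inv_mem hx) _ h
      have e : x⁻¹ * (x * t * x⁻¹) * x⁻¹⁻¹ = t := by group
      rwa [e] at this
  have hcharN := hG _ hTp hT1 ⟨P, hPN⟩
  have hKN : K ≤ Subgroup.normalizer (((T₀ : Subgroup ↥C).map C.subtype : Subgroup G) : Set G) := by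
    refine le_trans ?_ (Subgroup.centralizer_le_normalizer _)
    rw [Subgroup.le_centralizer_iff]
    exact hTC.trans hCK
  exact eq_bot_of_le_of_isCharP K hKcop _ hKN hcharN

/-- An involution acting without fixed points on a finite normal subgroup inverts it. -/
theorem inverts_of_fixedPointFree {G : Type*} [Group G] [Finite G] (K : Subgroup G) [K.Normal]
    (t : G) (ht : t * t = 1) (hfix : ∀ k ∈ K, k * t = t * k → k = 1) :
    ∀ k ∈ K, t * k * t⁻¹ = k⁻¹ := by
  have htinv : t⁻¹ = t := by rw [inv_eq_iff_mul_eq_one]; exact ht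
  let φ : K → K := fun k => ⟨(k : G)⁻¹ * (t * k * t⁻¹), K.mul_mem (K.inv_mem k.2)
    (‹K.Normal›.conj_mem k k.2 t)⟩
  have hinj : Function.Injective φ := by
    intro k l h
    have h1 : (k : G)⁻¹ * (t * k * t⁻¹) = (l : G)⁻¹ * (t * l * t⁻¹) := congrArg Subtype.val h
    have h2 : ((l : G) * (k : G)⁻¹) * t = t * ((l : G) * (k : G)⁻¹) := by
      have e1 : ((l : G) * (k : G)⁻¹) * t = (l : G) * ((k : G)⁻¹ * (t * k * t⁻¹)) * t * (k : G)⁻¹ := by
        rw [htinv]
        have : (l : G) * ((k : G)⁻¹ * (t * k * t)) * t * (k : G)⁻¹ =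
            (l : G) * (k : G)⁻¹ * t * (k * (t * t) * (k : G)⁻¹) := by group
        rw [this, ht]; group
      rw [e1, h1, htinv]
      have : (l : G) * ((l : G)⁻¹ * (t * l * t)) * t * (k : G)⁻¹ = t * l * (t * t) * (k : G)⁻¹ := by group
      rw [this, ht]; group
    have h3 := hfix _ (K.mul_mem l.2 (K.inv_mem k.2)) h2
    apply Subtype.ext
    have : (l : G) = k := by
      rw [mul_inv_eq_one] at h3
      exact h3
    exact this.symm
  have hsurj : Function.Surjective φ := Finite.injective_iff_surjective.mp hinj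
  intro x hx
  obtain ⟨k, hk⟩ := hsurj ⟨x, hx⟩
  have hx' : x = (k : G)⁻¹ * (t * k * t⁻¹) := (congrArg Subtype.val hk).symm
  rw [hx', htinv]
  have : t * ((k : G)⁻¹ * (t * k * t)) * t = t * (k : G)⁻¹ * t * k * (t * t) := by group
  rw [this, ht]
  have : ((k : G)⁻¹ * (t * k * t))⁻¹ = t⁻¹ * (k : G)⁻¹ * t⁻¹ * k := by group
  rw [this, htinv]
  group


/-- Let G be a finite group of even order with parabolic characteristic 2. If the centre of G ⧸ O(G) is trivial, then O(G) = 1. -/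
theorem result {G : Type*} [Group G] [Finite G] (h2 : 2 ∣ Nat.card G) (hG : Cfsg.IsOfParabolicCharacteristic 2 G) [hN : (Cfsg.oddCore G).Normal] (hZ : Subgroup.center (G ⧸ Cfsg.oddCore G) = ⊥) : Cfsg.oddCore G = ⊥ := by
  by_contra hKne
  have hKcop : (Nat.card (Cfsg.oddCore G)).Coprime 2 :=
    Cfsg.Agent.Lib.Helper1_Cores.pPrimeCore_card_coprime 2
  -- an involution in `Ω₁(Z(S))`
  obtain ⟨S⟩ : Nonempty (Sylow 2 G) := inferInstance
  have hS1 : (S : Subgroup G) ≠ ⊥ := S.ne_bot_of_dvd_card h2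
  obtain ⟨z, hzS, hord, hzc⟩ :=
    Cfsg.Agent.S2896.exists_central_orderOf_eq S.isPGroup' le_rfl Subgroup.le_normalizer hS1
  have hz1 : z ≠ 1 := by
    intro h
    rw [h, orderOf_one] at hord
    omega
  have hz2 : z ^ 2 = 1 := by rw [← hord]; exact pow_orderOf_eq_one z
  have hzz : z * z = 1 := by rw [← pow_two]; exact hz2
  have hzinv : z⁻¹ = z := by rw [inv_eq_iff_mul_eq_one]; exact hzz
  have hzΩ : z ∈ Cfsg.omegaOne 2 ((S : Subgroup G) ⊓ Subgroup.centralizer ((S : Subgroup G) : Set G)) :=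
    Subgroup.subset_closure ⟨⟨hzS, Subgroup.mem_centralizer_iff.mpr hzc⟩, hz2⟩
  have hCz : IsCharP 2 ↥(Subgroup.centralizer ({z} : Set G)) := IsCharP.of_generalizedFitting_eq
    ((Cfsg.Agent.S2896.result h2 S (S : Subgroup G) le_rfl).2.1.mp hG z hz1 hzΩ)
  -- `z` has no fixed points on `K`
  have hfix : ∀ k ∈ Cfsg.oddCore G, k * z = z * k → k = 1 := by
    intro k hk hkz
    have hcard : (Nat.card ↥(Cfsg.oddCore G ⊓ Subgroup.centralizer ({z} : Set G) : Subgroup G)).Coprime 2 :=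
      Nat.Coprime.coprime_dvd_left (Subgroup.card_dvd_of_le inf_le_left) hKcop
    have hsub : (Cfsg.oddCore G).subgroupOf (Subgroup.centralizer ({z} : Set G)) ≤
        pPrimeCore 2 ↥(Subgroup.centralizer ({z} : Set G)) := by
      apply Cfsg.Agent.Lib.Helper1_Cores.le_pPrimeCore inferInstance
      rw [← Subgroup.inf_subgroupOf_right,
        Nat.card_congr (Subgroup.subgroupOfEquivOfLe inf_le_right).toEquiv]
      exact hcard
    rw [pPrimeCore_eq_bot_of_isCharP hCz, le_bot_iff] at hsub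
    have hkC : k ∈ Subgroup.centralizer ({z} : Set G) := by
      rw [Subgroup.mem_centralizer_singleton_iff]; exact hkz
    have : (⟨k, hkC⟩ : ↥(Subgroup.centralizer ({z} : Set G))) ∈
        (Cfsg.oddCore G).subgroupOf (Subgroup.centralizer ({z} : Set G)) := by
      rw [Subgroup.mem_subgroupOf]; exact hk
    rw [hsub, Subgroup.mem_bot] at this
    exact congrArg Subtype.val this
  -- every conjugate of `z` inverts `K`
  have hinv : ∀ g : G, ∀ k ∈ Cfsg.oddCore G, (g * z * g⁻¹) * k * (g * z * g⁻¹)⁻¹ = k⁻¹ := by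
    intro g
    apply inverts_of_fixedPointFree
    · calc g * z * g⁻¹ * (g * z * g⁻¹) = g * (z * z) * g⁻¹ := by group
        _ = 1 := by rw [hzz]; group
    · intro k hk hkz
      have hk' : g⁻¹ * k * g ∈ Cfsg.oddCore G := by
        have := hN.conj_mem k hk g⁻¹
        rwa [inv_inv] at this
      have h1 : g⁻¹ * k * g * z = z * (g⁻¹ * k * g) := by
        calc g⁻¹ * k * g * z = g⁻¹ * (k * (g * z * g⁻¹)) * g := by group
          _ = g⁻¹ * ((g * z * g⁻¹) * k) * g := by rw [hkz]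
          _ = z * (g⁻¹ * k * g) := by group
      have h2 := hfix _ hk' h1
      have : k = g * (g⁻¹ * k * g) * g⁻¹ := by group
      rw [this, h2]; group
  -- commutators `[z, g]` centralize `K`
  have hcomm : ∀ g : G, ⁅z, g⁆ ∈ Subgroup.centralizer ((Cfsg.oddCore G : Subgroup G) : Set G) := by
    intro g
    rw [Subgroup.mem_centralizer_iff]
    intro k hk
    have e : ⁅z, g⁆ = z * (g * z * g⁻¹) := by
      rw [commutatorElement_def]
      calc z * g * z⁻¹ * g⁻¹ = z * (g * z⁻¹ * g⁻¹) := by group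
        _ = z * (g * z * g⁻¹) := by rw [hzinv]
    have h1 := hinv g k hk
    have h0 := hinv 1 k⁻¹ ((Cfsg.oddCore G).inv_mem hk)
    simp only [one_mul, inv_one, mul_one, inv_inv] at h0
    -- `z k⁻¹ z⁻¹ = k`
    rw [e]
    have h3 : z * (g * z * g⁻¹) * k * (z * (g * z * g⁻¹))⁻¹ = k := by
      calc z * (g * z * g⁻¹) * k * (z * (g * z * g⁻¹))⁻¹
          = z * ((g * z * g⁻¹) * k * (g * z * g⁻¹)⁻¹) * z⁻¹ := by group
        _ = z * k⁻¹ * z⁻¹ := by rw [h1]
        _ = k := h0
    calc k * (z * (g * z * g⁻¹)) = (z * (g * z * g⁻¹) * k * (z * (g * z * g⁻¹))⁻¹) * (z * (g * z * g⁻¹)) := by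
          rw [h3]
      _ = z * (g * z * g⁻¹) * k := by group
  -- `C_G(K) ≤ K`
  have hCK : Subgroup.centralizer ((Cfsg.oddCore G : Subgroup G) : Set G) ≤ Cfsg.oddCore G := by
    by_cases hodd : (Nat.card ↥(Subgroup.centralizer ((Cfsg.oddCore G : Subgroup G) : Set G))).Coprime 2
    · exact Cfsg.Agent.Lib.Helper1_Cores.le_pPrimeCore inferInstance hodd
    · exfalso
      apply hKne
      have hdvd : 2 ∣ Nat.card ↥(Subgroup.centralizer ((Cfsg.oddCore G : Subgroup G) : Set G)) := by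
        rw [Nat.coprime_comm, Nat.Prime.coprime_iff_not_dvd Nat.prime_two, not_not] at hodd
        exact hodd
      exact eq_bot_of_even_centralizing (p := 2) hG (Cfsg.oddCore G) hKcop
        (Subgroup.centralizer ((Cfsg.oddCore G : Subgroup G) : Set G)) le_rfl hdvd
  -- `z` is central modulo `K`
  have hzcen : (QuotientGroup.mk' (Cfsg.oddCore G)) z ∈ Subgroup.center (G ⧸ Cfsg.oddCore G) := by
    rw [Subgroup.mem_center_iff]
    intro q
    obtain ⟨g, rfl⟩ := QuotientGroup.mk'_surjective _ q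
    have h1 : (QuotientGroup.mk' (Cfsg.oddCore G)) ⁅z, g⁆ = 1 := by
      rw [QuotientGroup.mk'_apply, QuotientGroup.eq_one_iff]
      exact hCK (hcomm g)
    rw [map_commutatorElement, commutatorElement_eq_one_iff_mul_comm] at h1
    exact h1.symm
  rw [hZ, Subgroup.mem_bot, QuotientGroup.mk'_apply, QuotientGroup.eq_one_iff] at hzcen
  have h3 : orderOf z ∣ Nat.card ↥(Cfsg.oddCore G) := Subgroup.orderOf_dvd_natCard _ hzcen
  rw [hord] at h3
  have : 2 ∣ Nat.gcd (Nat.card ↥(Cfsg.oddCore G)) 2 := Nat.dvd_gcd h3 (dvd_refl 2)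
  rw [hKcop] at this
  omega

end Cfsg.Agent.S2898
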