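import Cfsg.Statements.S2907

set_option autoImplicit false
open Cfsg
open scoped commutatorElement

namespace Cfsg.Agent.S2907

/-- Let X be a finite semi-extraspecial p-group and x an element of X outside the centre. Then the index of C_X(x) in X equals the order of Z(X), and the commutators [x, y], y ∈ X, form exactly the centre Z(X). -/
theorem result {X : Type*} [Group X] [Finite X] {p : ℕ} [Fact p.Prime] (hX : Cfsg.IsSemiExtraspecial p X) (x : X) (hx : x ∉ Subgroup.center X) : (Subgroup.centralizer ({x} : Set X)).index = Nat.card ↥(Subgroup.center X) ∧ {z : X | ∃ y : X, z = x * y * x⁻¹ * y⁻¹} = (Subgroup.center X : Set X) := by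
  obtain ⟨⟨-, -, hcomm⟩, hsemi⟩ := hX
  -- all commutators are central
  have hcen : ∀ a b : X, a * b * a⁻¹ * b⁻¹ ∈ Subgroup.center X := by
    intro a b
    rw [← hcomm, commutator_def]
    have := Subgroup.commutator_mem_commutator (Subgroup.mem_top a) (Subgroup.mem_top b)
    rwa [commutatorElement_def] at this
  -- the homomorphism `y ↦ [x, y]`
  let φ : X →* X :=
    { toFun := fun y => x * y * x⁻¹ * y⁻¹
      map_one' := by simp
      map_mul' := by
        intro y z
        have hz := Subgroup.mem_center_iff.mp (hcen x z) y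
        calc x * (y * z) * x⁻¹ * (y * z)⁻¹ = x * y * x⁻¹ * (x * z * x⁻¹ * z⁻¹) * y⁻¹ := by group
          _ = x * y * x⁻¹ * ((x * z * x⁻¹ * z⁻¹) * y⁻¹) := by group
          _ = x * y * x⁻¹ * (y⁻¹ * (x * z * x⁻¹ * z⁻¹)) := by
              congr 1
              rw [eq_comm, inv_mul_eq_iff_eq_mul, ← mul_assoc, hz, mul_inv_cancel_right]
          _ = x * y * x⁻¹ * y⁻¹ * (x * z * x⁻¹ * z⁻¹) := by group }
  have hφ : ∀ y, φ y = x * y * x⁻¹ * y⁻¹ := fun _ => rfl
  have hker : φ.ker = Subgroup.centralizer ({x} : Set X) := by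
    ext y
    rw [MonoidHom.mem_ker, hφ, Subgroup.mem_centralizer_singleton_iff]
    constructor
    · intro h
      have h2 : x * y * x⁻¹ = y := by rwa [mul_inv_eq_one] at h
      rw [mul_inv_eq_iff_eq_mul] at h2
      exact h2.symm
    · intro h
      rw [← h]; group
  have hrange_le : φ.range ≤ Subgroup.center X := by
    rintro _ ⟨y, rfl⟩
    exact hcen x y
  have hrange : φ.range = Subgroup.center X := by
    by_contra hne
    have hI : (φ.range).subgroupOf (Subgroup.center X) ≠ ⊤ := by
      rw [Ne, Subgroup.subgroupOf_eq_top]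
      intro h
      exact hne (le_antisymm hrange_le h)
    obtain ⟨Y', hY'co, hIY'⟩ := (eq_top_or_exists_le_coatom _).resolve_left hI
    have hYle : Y'.map (Subgroup.center X).subtype ≤ Subgroup.center X := Subgroup.map_subtype_le _
    have hYsub : (Y'.map (Subgroup.center X).subtype).subgroupOf (Subgroup.center X) = Y' :=
      Subgroup.comap_map_eq_self_of_injective (Subgroup.subtype_injective _) Y'
    obtain ⟨hYn, hES⟩ := hsemi (Y'.map (Subgroup.center X).subtype) hYle (by rw [hYsub]; exact hY'co)
    have hrY : φ.range ≤ Y'.map (Subgroup.center X).subtype := by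
      intro z hz
      have hz' : (⟨z, hrange_le hz⟩ : Subgroup.center X) ∈ (φ.range).subgroupOf (Subgroup.center X) := by
        rw [Subgroup.mem_subgroupOf]; exact hz
      exact ⟨⟨z, hrange_le hz⟩, hIY' hz', rfl⟩
    have hcq : commutator (X ⧸ Y'.map (Subgroup.center X).subtype) =
        Subgroup.center (X ⧸ Y'.map (Subgroup.center X).subtype) := hES.1.2.2
    -- `x` is central modulo `Y`
    have hxc : (QuotientGroup.mk' (Y'.map (Subgroup.center X).subtype)) x ∈
        Subgroup.center (X ⧸ Y'.map (Subgroup.center X).subtype) := by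
      rw [Subgroup.mem_center_iff]
      intro g
      obtain ⟨y, rfl⟩ := QuotientGroup.mk'_surjective _ g
      have h1 : (QuotientGroup.mk' (Y'.map (Subgroup.center X).subtype)) ⁅x, y⁆ = 1 := by
        rw [QuotientGroup.mk'_apply, QuotientGroup.eq_one_iff, commutatorElement_def]
        exact hrY ⟨y, rfl⟩
      rw [map_commutatorElement, commutatorElement_eq_one_iff_mul_comm] at h1
      exact h1.symm
    rw [← hcq, commutator_def, ← Subgroup.map_top_of_surjective _ (QuotientGroup.mk'_surjective _),
      ← Subgroup.map_commutator, ← commutator_def, hcomm] at hxc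
    obtain ⟨z, hz, hzx⟩ := hxc
    rw [QuotientGroup.mk'_apply, QuotientGroup.mk'_apply, QuotientGroup.eq] at hzx
    have h2 : z⁻¹ * x ∈ Subgroup.center X := hYle hzx
    apply hx
    have : x = z * (z⁻¹ * x) := by group
    rw [this]
    exact Subgroup.mul_mem _ hz h2
  constructor
  · rw [← hker, Subgroup.index_ker, hrange]
  · rw [← hrange]
    ext z
    simp only [Set.mem_ofPred_eq, SetLike.mem_coe, MonoidHom.mem_range, hφ]
    constructor
    · rintro ⟨y, rfl⟩; exact ⟨y, rfl⟩
    · rintro ⟨y, rfl⟩; exact ⟨y, rfl⟩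

end Cfsg.Agent.S2907
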