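import Cfsg.Statements.S2908
import Cfsg.Agent.Lib.Helper48_Coprime

set_option autoImplicit false
open Cfsg
open scoped commutatorElement
open Cfsg.Agent.Lib.Helper48_Coprime

namespace Cfsg.Agent.S2908

variable {G : Type*} [Group G]

/-- `⁅H ⊔ K, B⁆ ≤ N` as soon as `⁅H, B⁆ ≤ N`, `⁅K, B⁆ ≤ N` and `H ⊔ K` normalizes `N`. -/
theorem commutator_sup_le {H K B N : Subgroup G}
    (hN : H ⊔ K ≤ Subgroup.normalizer (N : Set G)) (h1 : ⁅H, B⁆ ≤ N) (h2 : ⁅K, B⁆ ≤ N) :
    ⁅H ⊔ K, B⁆ ≤ N := by
  rw [Subgroup.commutator_le]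
  intro l hl b hb
  -- the set of `l ∈ H ⊔ K` with `⁅l, b⁆ ∈ N` for all `b ∈ B` is a subgroup containing `H` and `K`
  let T : Subgroup G :=
    { carrier := {l | l ∈ H ⊔ K ∧ ∀ b ∈ B, ⁅l, b⁆ ∈ N}
      one_mem' := ⟨Subgroup.one_mem _, fun b _ => by rw [commutatorElement_one_left]; exact N.one_mem⟩
      mul_mem' := by
        rintro l₁ l₂ ⟨hl₁, h₁⟩ ⟨hl₂, h₂⟩
        refine ⟨Subgroup.mul_mem _ hl₁ hl₂, fun b hb => ?_⟩
        have e : ⁅l₁ * l₂, b⁆ = (l₁ * ⁅l₂, b⁆ * l₁⁻¹) * ⁅l₁, b⁆ := by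
          simp only [commutatorElement_def]; group
        rw [e]
        exact N.mul_mem ((Subgroup.mem_normalizer_iff.mp (hN hl₁) _).mp (h₂ b hb)) (h₁ b hb)
      inv_mem' := by
        rintro l ⟨hl, h⟩
        refine ⟨Subgroup.inv_mem _ hl, fun b hb => ?_⟩
        have e : ⁅l⁻¹, b⁆ = l⁻¹ * (⁅l, b⁆)⁻¹ * l⁻¹⁻¹ := by
          simp only [commutatorElement_def]; group
        rw [e]
        exact (Subgroup.mem_normalizer_iff.mp (hN (Subgroup.inv_mem _ hl)) _).mp (N.inv_mem (h b hb)) }
  have hHT : H ≤ T := fun x hx =>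
    ⟨(le_sup_left : H ≤ H ⊔ K) hx, fun b hb => h1 (Subgroup.commutator_mem_commutator hx hb)⟩
  have hKT : K ≤ T := fun x hx =>
    ⟨(le_sup_right : K ≤ H ⊔ K) hx, fun b hb => h2 (Subgroup.commutator_mem_commutator hx hb)⟩
  exact ((sup_le hHT hKT) hl).2 b hb

/-- Let P be a p-subgroup of a finite group, normalized by a p-subgroup A and by a subgroup B of order prime to p that commutes elementwise with A. If [P, B] ≤ [P, A], then B centralizes P. -/
theorem result {G : Type*} [Group G] [Finite G] {p : ℕ} [Fact p.Prime] (P A B : Subgroup G) (hP : IsPGroup p ↥P) (hA : IsPGroup p ↥A) (hB : ¬ p ∣ Nat.card ↥B) (hnA : A ≤ Subgroup.normalizer (P : Set G)) (hnB : B ≤ Subgroup.normalizer (P : Set G)) (hAB : ⁅A, B⁆ = ⊥) (hcomm : ⁅P, B⁆ ≤ ⁅P, A⁆) : ⁅P, B⁆ = ⊥ := by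
  set L := P ⊔ A with hLdef
  have hLp : IsPGroup p L := by
    rw [hLdef, sup_comm]
    exact IsPGroup.to_sup_of_normal_right' hA hP hnA
  have hPL : P ≤ L := le_sup_left
  have hAL : A ≤ L := le_sup_right
  have hLN : L ≤ Subgroup.normalizer (P : Set G) := sup_le Subgroup.le_normalizer hnA
  -- `B` normalizes `L`
  have hBA : B ≤ Subgroup.normalizer (A : Set G) := by
    have : B ≤ Subgroup.centralizer (A : Set G) := by
      rw [← Subgroup.commutator_eq_bot_iff_le_centralizer, Subgroup.commutator_comm]; exact hAB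
    exact this.trans (Subgroup.centralizer_le_normalizer _)
  have hBL : B ≤ Subgroup.normalizer (L : Set G) := by
    intro b hb
    rw [Subgroup.mem_normalizer_iff_map_conj_eq, hLdef, Subgroup.map_sup,
      Subgroup.mem_normalizer_iff_map_conj_eq.mp (hnB hb), Subgroup.mem_normalizer_iff_map_conj_eq.mp (hBA hb)]
  -- the series
  have hCL : ∀ i, L ≤ Subgroup.normalizer (actSeries P L i : Set G) := fun i => le_normalizer_actSeries hLN i
  have hCB : ∀ i, B ≤ Subgroup.normalizer (actSeries P L i : Set G) := by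
    intro i
    induction i with
    | zero => exact hnB
    | succ i ih => rw [actSeries_succ]; exact le_normalizer_commutator ih hBL
  have hanti : ∀ i, actSeries P L (i + 1) ≤ actSeries P L i := fun i => actSeries_succ_le hLN i
  have hCP : ∀ i, actSeries P L i ≤ P := by
    intro i
    induction i with
    | zero => exact le_rfl
    | succ i ih => exact (hanti i).trans ih
  have hC1 : actSeries P L 1 = ⁅P, L⁆ := rfl
  -- `⁅L, B⁆ ≤ C 1`
  have hLB : ⁅L, B⁆ ≤ actSeries P L 1 := by
    apply commutator_sup_le (hCL 1)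
    · rw [hC1]; exact hcomm.trans (Subgroup.commutator_mono le_rfl hAL)
    · rw [hAB]; exact bot_le
  -- `⁅C 1, C i⁆ ≤ C (i+2)`
  have h3 : ∀ i, ⁅actSeries P L 1, actSeries P L i⁆ ≤ actSeries P L (i + 2) := by
    intro i
    rw [hC1]
    apply commutator_commutator_le_of_rotate (hPL.trans (hCL _)) (hCL _) ((hCP i).trans (hPL.trans (hCL _)))
    · rw [actSeries_succ, actSeries_succ, Subgroup.commutator_comm L (actSeries P L i)]
      exact Subgroup.commutator_mono le_rfl hPL
    · rw [actSeries_succ, actSeries_succ]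
      exact Subgroup.commutator_mono (Subgroup.commutator_mono le_rfl hPL) le_rfl
  -- `⁅C i, B⁆ ≤ C (i+1)`
  have h2 : ∀ i, ⁅actSeries P L i, B⁆ ≤ actSeries P L (i + 1) := by
    intro i
    induction i with
    | zero => rw [actSeries_succ]; exact hcomm.trans (Subgroup.commutator_mono le_rfl hAL)
    | succ i ih =>
      rw [actSeries_succ P L i]
      apply commutator_commutator_le_of_rotate ((hCP i).trans (hPL.trans (hCL _))) (hCL _) (hCB _)
      · calc ⁅⁅L, B⁆, actSeries P L i⁆ ≤ ⁅actSeries P L 1, actSeries P L i⁆ := Subgroup.commutator_mono hLB le_rfl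
          _ ≤ actSeries P L (i + 2) := h3 i
      · rw [actSeries_succ P L (i + 1), Subgroup.commutator_comm B (actSeries P L i)]
        exact Subgroup.commutator_mono ih le_rfl
  obtain ⟨n, hn⟩ := exists_actSeries_eq_bot hLp hPL
  rw [eq_bot_iff, Subgroup.commutator_le]
  intro r hr b hb
  have hbo : (orderOf b).Coprime p := by
    have h1 : orderOf b ∣ Nat.card B := by
      have := orderOf_dvd_natCard (⟨b, hb⟩ : B)
      rwa [Subgroup.orderOf_mk] at this
    have h2 : (Nat.card B).Coprime p := ((Nat.Prime.coprime_iff_not_dvd (Fact.out : p.Prime)).mpr hB).symm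
    exact Nat.Coprime.coprime_dvd_left h1 h2
  have := commute_of_stabilizes_chain b hbo (actSeries P L) hP hanti
    (fun i r hr => h2 i (Subgroup.commutator_mem_commutator hr hb)) n hn
  rw [Subgroup.mem_bot, commutatorElement_eq_one_iff_commute]
  exact (this r hr).symm

end Cfsg.Agent.S2908
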