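import Cfsg.Statements.S2909
import Cfsg.Agent.S0028
import Cfsg.Agent.S2908
import Cfsg.Agent.Lib.Helper48_SPE
import Cfsg.Agent.Lib.Helper48_Coprime
import Cfsg.Agent.Lib.Helper48_Generation

set_option autoImplicit false
open Cfsg
open scoped commutatorElement
open Cfsg.Agent.Lib.Helper48_SPE
open Cfsg.Agent.Lib.Helper48_Coprime
open Cfsg.Agent.Lib.Helper48_Generation

namespace Cfsg.Agent.S2909

variable {G : Type*} [Group G]

/-- A subgroup whose elements conjugate `N` into itself normalizes `N`. -/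
theorem le_normalizer_of_conj_mem {H N : Subgroup G}
    (h : ∀ x ∈ H, ∀ n ∈ N, x * n * x⁻¹ ∈ N) : H ≤ Subgroup.normalizer (N : Set G) := by
  intro x hx
  rw [Subgroup.mem_normalizer_iff]
  intro n
  constructor
  · exact h x hx n
  · intro hn
    have h1 := h x⁻¹ (H.inv_mem hx) _ hn
    have h2 : x⁻¹ * (x * n * x⁻¹) * x⁻¹⁻¹ = n := by group
    rw [h2] at h1
    exact h1

/-- `H` normalizes `⁅H, K⁆`. -/
theorem le_normalizer_commutator_left (H K : Subgroup G) :
    H ≤ Subgroup.normalizer ((⁅H, K⁆ : Subgroup G) : Set G) := by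
  apply le_normalizer_of_conj_mem
  intro x hx n hn
  have hle : (⁅H, K⁆ : Subgroup G).map (MulAut.conj x).toMonoidHom ≤ ⁅H, K⁆ := by
    rw [Subgroup.commutator_def, MonoidHom.map_closure, Subgroup.closure_le]
    rintro _ ⟨_, ⟨a, ha, b, hb, rfl⟩, rfl⟩
    have h1 : (MulAut.conj x).toMonoidHom ⁅a, b⁆ = ⁅x * a, b⁆ * ⁅x, b⁆⁻¹ := by
      show x * ⁅a, b⁆ * x⁻¹ = _
      simp only [commutatorElement_def]
      group
    rw [h1]
    exact Subgroup.mul_mem _ (Subgroup.subset_closure ⟨x * a, H.mul_mem hx ha, b, hb, rfl⟩)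
      (Subgroup.inv_mem _ (Subgroup.subset_closure ⟨x, hx, b, hb, rfl⟩))
  exact hle (Subgroup.mem_map_of_mem _ hn)

/-- If `K` normalizes `H` then `⁅H, K⁆ ≤ H`. -/
theorem commutator_le_of_le_normalizer {H K : Subgroup G}
    (h : K ≤ Subgroup.normalizer (H : Set G)) : ⁅H, K⁆ ≤ H := by
  rw [Subgroup.commutator_le]
  intro x hx k hk
  have h1 : k * x⁻¹ * k⁻¹ ∈ H := (Subgroup.mem_normalizer_iff.mp (h hk) _).mp (H.inv_mem hx)
  have h2 : ⁅x, k⁆ = x * (k * x⁻¹ * k⁻¹) := by
    simp only [commutatorElement_def]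
    group
  rw [h2]
  exact H.mul_mem hx h1

theorem centralizer_zpowers (u : G) :
    Subgroup.centralizer ((Subgroup.zpowers u : Subgroup G) : Set G) = Subgroup.centralizer ({u} : Set G) := by
  rw [Subgroup.zpowers_eq_closure, Subgroup.centralizer_closure]

/-- The key step: for `u ∈ U#`, `[C_R(u), U]` centralizes `E`. -/
theorem key [Finite G] {p : ℕ} [Fact p.Prime] (E : Subgroup G) [E.Normal] (hE : IsPGroup p ↥E)
    (U : Subgroup G) (hUc : IsMulCommutative U) (hUe : ∀ a ∈ U, a ^ p = 1)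
    (R : Subgroup G) (hR : ¬ p ∣ Nat.card ↥R) (hRU : U ≤ Subgroup.normalizer (R : Set G))
    (u : G) (huU : u ∈ U)
    (hcond : E ⊓ Subgroup.centralizer (U : Set G) = E ⊓ Subgroup.centralizer ({u} : Set G) ∨
      ⁅E, U⁆ = ⁅E, Subgroup.zpowers u⁆) :
    ⁅R ⊓ Subgroup.centralizer ({u} : Set G), U⁆ ≤ Subgroup.centralizer (E : Set G) := by
  have hp : p.Prime := Fact.out
  have hUcent : U ≤ Subgroup.centralizer (U : Set G) :=
    Subgroup.le_centralizer_iff_isMulCommutative.mpr hUc
  have hEn : ∀ H : Subgroup G, H ≤ Subgroup.normalizer (E : Set G) := by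
    intro H
    rw [Subgroup.normalizer_eq_top]
    exact le_top
  -- `X = C_R(u)` is normalized by `U`
  have hUX : U ≤ Subgroup.normalizer ((R ⊓ Subgroup.centralizer ({u} : Set G) : Subgroup G) : Set G) := by
    apply le_normalizer_of_conj_mem
    rintro v hv x ⟨hxR, hxu⟩
    refine ⟨(Subgroup.mem_normalizer_iff.mp (hRU hv) x).mp hxR, ?_⟩
    have hv' : v ∈ Subgroup.centralizer ({u} : Set G) :=
      Subgroup.centralizer_le (Set.singleton_subset_iff.mpr huU) (hUcent hv)
    have hx' : x ∈ Subgroup.centralizer ({u} : Set G) := hxu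
    exact Subgroup.mul_mem _ (Subgroup.mul_mem _ hv' hx') (Subgroup.inv_mem _ hv')
  have hYX : ⁅R ⊓ Subgroup.centralizer ({u} : Set G), U⁆ ≤ R ⊓ Subgroup.centralizer ({u} : Set G) :=
    commutator_le_of_le_normalizer hUX
  have hYR : ⁅R ⊓ Subgroup.centralizer ({u} : Set G), U⁆ ≤ R := hYX.trans inf_le_left
  have hYu : ⁅R ⊓ Subgroup.centralizer ({u} : Set G), U⁆ ≤ Subgroup.centralizer ({u} : Set G) :=
    hYX.trans inf_le_right
  have hYcop : ¬ p ∣ Nat.card ↥(⁅R ⊓ Subgroup.centralizer ({u} : Set G), U⁆ : Subgroup G) :=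
    fun h => hR (h.trans (Subgroup.card_dvd_of_le hYR))
  have hzP : IsPGroup p (Subgroup.zpowers u) := isPGroup_zpowers_of_pow_eq_one (hUe u huU)
  have hzY : Subgroup.zpowers u ≤
      Subgroup.centralizer ((⁅R ⊓ Subgroup.centralizer ({u} : Set G), U⁆ : Subgroup G) : Set G) := by
    rw [Subgroup.le_centralizer_iff, centralizer_zpowers]
    exact hYu
  have hXzn : R ⊓ Subgroup.centralizer ({u} : Set G) ≤
      Subgroup.normalizer ((Subgroup.zpowers u : Subgroup G) : Set G) :=
    inf_le_right.trans (centralizer_singleton_le_normalizer_zpowers u)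
  rcases hcond with hc | hc
  · -- Case 1
    have hXD : R ⊓ Subgroup.centralizer ({u} : Set G) ≤
        Subgroup.normalizer ((E ⊓ Subgroup.centralizer ({u} : Set G) : Subgroup G) : Set G) := by
      apply le_normalizer_of_conj_mem
      rintro x ⟨-, hxu⟩ d ⟨hdE, hdu⟩
      refine ⟨‹E.Normal›.conj_mem d hdE x, ?_⟩
      have hx' : x ∈ Subgroup.centralizer ({u} : Set G) := hxu
      exact Subgroup.mul_mem _ (Subgroup.mul_mem _ hx' hdu) (Subgroup.inv_mem _ hx')
    have hDU : ⁅E ⊓ Subgroup.centralizer ({u} : Set G), U⁆ = ⊥ := by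
      rw [Subgroup.commutator_eq_bot_iff_le_centralizer, ← hc]
      exact inf_le_right
    have h3 : ⁅⁅R ⊓ Subgroup.centralizer ({u} : Set G), U⁆, E ⊓ Subgroup.centralizer ({u} : Set G)⁆ = ⊥ := by
      apply Subgroup.commutator_commutator_eq_bot_of_rotate
      · rw [Subgroup.commutator_comm U, hDU, Subgroup.commutator_bot_left]
      · rw [← le_bot_iff, ← hDU]
        exact Subgroup.commutator_mono (commutator_le_of_le_normalizer hXD) le_rfl
    rw [Subgroup.commutator_eq_bot_iff_le_centralizer] at h3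
    refine Cfsg.Agent.S0028.result p (Subgroup.zpowers u) _ E hzP ?_ hE hzY (hEn _) (hEn _) ?_
    · rw [Nat.coprime_comm, hp.coprime_iff_not_dvd]
      exact hYcop
    · rw [centralizer_zpowers, ← Subgroup.le_centralizer_iff]
      exact h3
  · -- Case 2
    have hN1 : R ⊓ Subgroup.centralizer ({u} : Set G) ≤
        Subgroup.normalizer ((⁅E, U⁆ : Subgroup G) : Set G) := by
      rw [hc]
      exact le_normalizer_commutator (hEn _) hXzn
    have hN2 : U ≤ Subgroup.normalizer ((⁅E, U⁆ : Subgroup G) : Set G) :=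
      le_normalizer_commutator (hEn _) Subgroup.le_normalizer
    have hN3 : E ≤ Subgroup.normalizer ((⁅E, U⁆ : Subgroup G) : Set G) :=
      le_normalizer_commutator_left E U
    have h3 : ⁅⁅R ⊓ Subgroup.centralizer ({u} : Set G), U⁆, E⁆ ≤ ⁅E, U⁆ := by
      apply commutator_commutator_le_of_rotate hN1 hN2 hN3
      · rw [Subgroup.commutator_comm U E]
        exact commutator_le_of_le_normalizer hN1
      · exact Subgroup.commutator_mono (commutator_le_of_le_normalizer (hEn _)) le_rfl
    have h4 : ⁅E, ⁅R ⊓ Subgroup.centralizer ({u} : Set G), U⁆⁆ = ⊥ := by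
      refine Cfsg.Agent.S2908.result E (Subgroup.zpowers u) _ hE hzP hYcop (hEn _) (hEn _) ?_ ?_
      · rw [Subgroup.commutator_eq_bot_iff_le_centralizer]
        exact hzY
      · rw [← hc, Subgroup.commutator_comm E]
        exact h3
    rw [Subgroup.commutator_comm, Subgroup.commutator_eq_bot_iff_le_centralizer] at h4
    exact h4

/-- Let p be a prime, E a normal p-subgroup of the finite group G, and U a non-cyclic elementary abelian p-subgroup of G such that either C_E(U) = C_E(u) for every nontrivial u ∈ U, or [E, U] = [E, ⟨u⟩] for every nontrivial u ∈ U. If R is a subgroup of order prime to p normalized by U, then [R, U] centralizes E. -/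
theorem result {G : Type*} [Group G] [Finite G] {p : ℕ} [Fact p.Prime] (E : Subgroup G) [E.Normal] (hE : IsPGroup p ↥E) (U : Subgroup G) (hU : Cfsg.IsElementaryAbelian p U) (hnc : ¬ IsCyclic ↥U) (hcond : (∀ u ∈ U, u ≠ 1 → E ⊓ Subgroup.centralizer (U : Set G) = E ⊓ Subgroup.centralizer ({u} : Set G)) ∨ (∀ u ∈ U, u ≠ 1 → ⁅E, U⁆ = ⁅E, Subgroup.zpowers u⁆)) (R : Subgroup G) (hR : ¬ p ∣ Nat.card ↥R) (hRU : U ≤ Subgroup.normalizer (R : Set G)) : ⁅R, U⁆ ≤ Subgroup.centralizer (E : Set G) := by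
  obtain ⟨hUc, hUe⟩ := hU
  have hUcent : U ≤ Subgroup.centralizer (U : Set G) :=
    Subgroup.le_centralizer_iff_isMulCommutative.mpr hUc
  have hkey : ∀ u ∈ U, u ≠ 1 →
      ⁅R ⊓ Subgroup.centralizer ({u} : Set G), U⁆ ≤ Subgroup.centralizer (E : Set G) := by
    intro u hu hu1
    apply key E hE U hUc hUe R hR hRU u hu
    rcases hcond with h | h
    · exact Or.inl (h u hu hu1)
    · exact Or.inr (h u hu hu1)
  -- choose `b ≠ 1` and `a ∉ ⟨b⟩` in `U`
  have hUbot : U ≠ ⊥ := by
    intro h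
    apply hnc
    rw [h]
    infer_instance
  obtain ⟨⟨b, hbU⟩, hb1'⟩ := (Subgroup.ne_bot_iff_exists_ne_one).mp hUbot
  have hb1 : b ≠ 1 := fun h => hb1' (Subtype.ext h)
  have hbp : b ^ p = 1 := hUe b hbU
  have hzlt : Subgroup.zpowers b < U := by
    refine lt_of_le_of_ne ((Subgroup.zpowers_le).mpr hbU) ?_
    intro heq
    apply hnc
    rw [← heq]
    infer_instance
  obtain ⟨a, haU, hanb⟩ := SetLike.exists_of_lt hzlt
  have hap : a ^ p = 1 := hUe a haU
  have hab : a * b = b * a := (Subgroup.mem_centralizer_iff.mp (hUcent hbU) a haU)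
  -- the subgroup `T` of elements commuting with `U` modulo `C_G(E)`
  let f : G →* G ⧸ Subgroup.centralizer (E : Set G) := QuotientGroup.mk' _
  have hfT : ∀ x : G, (∀ v ∈ U, ⁅x, v⁆ ∈ Subgroup.centralizer (E : Set G)) ↔
      x ∈ (Subgroup.centralizer ((U.map f : Subgroup (G ⧸ Subgroup.centralizer (E : Set G))) :
        Set (G ⧸ Subgroup.centralizer (E : Set G)))).comap f := by
    intro x
    rw [Subgroup.mem_comap, Subgroup.mem_centralizer_iff]
    constructor
    · rintro h _ ⟨v, hv, rfl⟩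
      have h1 : f ⁅x, v⁆ = 1 := (QuotientGroup.eq_one_iff _).mpr (h v hv)
      rw [map_commutatorElement, commutatorElement_eq_one_iff_mul_comm] at h1
      exact h1.symm
    · intro h v hv
      have h1 : f v * f x = f x * f v := h (f v) (Subgroup.mem_map_of_mem f hv)
      have h2 : f ⁅x, v⁆ = 1 := by
        rw [map_commutatorElement, commutatorElement_eq_one_iff_mul_comm]
        exact h1.symm
      exact (QuotientGroup.eq_one_iff _).mp h2
  have hT : ∀ u ∈ U, u ≠ 1 → R ⊓ Subgroup.centralizer ({u} : Set G) ≤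
      (Subgroup.centralizer ((U.map f : Subgroup (G ⧸ Subgroup.centralizer (E : Set G))) :
        Set (G ⧸ Subgroup.centralizer (E : Set G)))).comap f := by
    intro u hu hu1 x hx
    rw [← hfT]
    intro v hv
    exact hkey u hu hu1 (Subgroup.commutator_mem_commutator hx hv)
  have hRT : R ≤ (Subgroup.centralizer ((U.map f : Subgroup (G ⧸ Subgroup.centralizer (E : Set G))) :
        Set (G ⧸ Subgroup.centralizer (E : Set G)))).comap f := by
    refine le_of_centralizers_le (p := p) R hR a b (hRU haU) (hRU hbU) hap hbp hab _ (hT b hbU hb1) ?_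
    intro i
    refine hT _ (U.mul_mem haU (U.pow_mem hbU i)) ?_
    intro h1
    apply hanb
    have h3 : a = (b ^ i)⁻¹ := eq_inv_of_mul_eq_one_left h1
    rw [h3]
    exact (Subgroup.zpowers b).inv_mem (Subgroup.npow_mem_zpowers b i)
  rw [Subgroup.commutator_le]
  intro r hr v hv
  exact (hfT r).mpr (hRT hr) v hv

end Cfsg.Agent.S2909
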