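-- Statement S2910: Ω₁(P) central, p odd ⇒ normal p-complement; not quasisimple.
import Cfsg.Statements.S2910
import Cfsg.Agent.Lib.Helper35_PGroupAut
import Cfsg.Agent.S0072

set_option autoImplicit false
open Cfsg

namespace Cfsg.Agent.S2910

open Cfsg.Agent.Lib.Helper35_FrobeniusNPC Cfsg.Agent.Lib.Helper35_PGroupAut Subgroup

/-- a perfect finite group with a normal `p`-complement has order prime to `p` -/
theorem not_dvd_card_of_perfect_of_hasNPC {G : Type*} [Group G] [Finite G] {p : ℕ}
    [hp : Fact p.Prime] [hperf : Group.IsPerfect G] (h : HasNPC p G) : ¬ p ∣ Nat.card G := by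
  obtain ⟨K, hKn, hKc, n, hKi⟩ := h
  have hpg : IsPGroup p (G ⧸ K) :=
    IsPGroup.of_card (n := n) (by rw [← Subgroup.index_eq_card, hKi])
  have hnil : Group.IsNilpotent (G ⧸ K) := hpg.isNilpotent
  have hsub : Subsingleton (G ⧸ K) := by
    by_contra hns
    rw [not_subsingleton_iff_nontrivial] at hns
    exact Group.IsPerfect.not_isNilpotent (G ⧸ K) hnil
  have hK : K = ⊤ := by
    rw [← Subgroup.index_eq_one, Subgroup.index_eq_card]
    exact Nat.card_eq_one_iff_unique.mpr ⟨hsub, ⟨1⟩⟩
  intro hd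
  rw [hK, Subgroup.card_top] at hKc
  have : p ∣ Nat.gcd (Nat.card G) p := Nat.dvd_gcd hd dvd_rfl
  rw [hKc] at this
  exact hp.out.one_lt.ne' (Nat.dvd_one.mp this)

/-- Let p be an odd prime dividing the order of the finite group G and P a Sylow p-subgroup of G. If Ω₁(P) (generated by the elements of order dividing p) is contained in the centre of G, then G has a normal p-complement. In particular, if G is quasisimple then Ω₁(P) is not central in G. -/
theorem result {G : Type*} [Group G] [Finite G] {p : ℕ} [Fact p.Prime] (hp : p ≠ 2) (hdiv : p ∣ Nat.card G) (P : Sylow p G) (hZ : Cfsg.omegaOne p (P : Subgroup G) ≤ Subgroup.center G) : Cfsg.HasNormalPComplement p G ∧ ¬ Cfsg.IsQuasisimple G := by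
  have hF : FrobHyp p G := by
    apply frobHyp_of_le_sylow P
    intro Q hQP g hgN hgo
    apply mem_centralizer_of_commute_omega_odd hp hgo Q (P.2.to_le hQP) hgN
    intro x hx hxp
    have hxO : x ∈ Cfsg.omegaOne p (P : Subgroup G) :=
      Subgroup.subset_closure ⟨hQP hx, hxp⟩
    exact (Subgroup.mem_center_iff.mp (hZ hxO)) g
  have hN : HasNPC p G := hasNPC_of_frobHyp hF
  refine ⟨(Cfsg.Agent.S0072.hasNPC_iff p).mpr hN, ?_⟩
  rintro ⟨hperf, -⟩
  exact not_dvd_card_of_perfect_of_hasNPC hN hdiv

end Cfsg.Agent.S2910
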