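import Cfsg.Statements.S3309
import Cfsg.Agent.Lib.Helper55_Transfer

set_option autoImplicit false
open Cfsg

namespace Cfsg.Agent.S3309

open Cfsg.Agent.Lib DihedralGroup
open scoped commutatorElement

/-- the model 2-group -/
abbrev E := Multiplicative (ZMod 2) × DihedralGroup 4

/-- the central involution outside the dihedral factor -/
def zE : E := (Multiplicative.ofAdd 1, 1)
/-- the central involution of the dihedral factor -/
def cE : E := (1, r 2)

theorem center_inter (g : E) (h1 : ∀ h : E, h * g = g * h) (h2 : g.1 = 1) : g = 1 ∨ g = cE := by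
  revert g; decide
theorem zE_central : ∀ h : E, h * zE = zE * h := by decide
theorem cE_central : ∀ h : E, h * cE = cE * h := by decide
theorem cE_comm : cE = ⁅((1, r 1) : E), (1, sr 0)⁆ := by decide
theorem zE_sq : zE * zE = 1 ∧ zE ≠ 1 := by decide
theorem card_E : Nat.card E = 16 := by
  rw [Nat.card_eq_fintype_card]; decide
theorem zE_fst : zE.1 ≠ 1 := by decide

theorem result {G : Type*} [Group G] [Finite G] (S : Sylow 2 G) (hS : Nonempty (↥(S : Subgroup G) ≃* Multiplicative (ZMod 2) × DihedralGroup 4))
    [IsSimpleGroup G] (hG : ¬ IsMulCommutative G) : False := by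
  classical
  have : Fact (Nat.Prime 2) := ⟨Nat.prime_two⟩
  obtain ⟨e⟩ := hS
  have hcardS : Nat.card (S : Subgroup G) = 16 := by
    rw [Nat.card_congr e.toEquiv]; exact card_E
  -- the projection to the first factor
  let ψ : (S : Subgroup G) →* Multiplicative (ZMod 2) :=
    (MonoidHom.fst (Multiplicative (ZMod 2)) (DihedralGroup 4)).comp e.toMonoidHom
  have hψ : ∀ s : (S : Subgroup G), ψ s = (e s).1 := fun s => rfl
  have hψsurj : Function.Surjective ψ := by
    intro a
    refine ⟨e.symm (a, 1), ?_⟩
    rw [hψ, MulEquiv.apply_symm_apply]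
  -- the subgroup of index two
  let Q : Subgroup G := ψ.ker.map (S : Subgroup G).subtype
  have hQS : Q ≤ (S : Subgroup G) := Subgroup.map_subtype_le _
  have hQmem : ∀ s : (S : Subgroup G), (s : G) ∈ Q ↔ (e s).1 = 1 := by
    intro s
    constructor
    · rintro ⟨s', hs', hss⟩
      have : s' = s := Subtype.ext hss
      rw [← this]
      exact hs'
    · intro h
      exact ⟨s, h, rfl⟩
  have hQi : Q.relIndex (S : Subgroup G) = 2 := by
    have h1 : Q.subgroupOf (S : Subgroup G) = ψ.ker := by
      ext s
      rw [Subgroup.mem_subgroupOf, hQmem, MonoidHom.mem_ker, hψ]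
    rw [Subgroup.relIndex, h1, Subgroup.index_ker, MonoidHom.range_eq_top.mpr hψsurj,
      Subgroup.card_top, Nat.card_eq_fintype_card]
    decide
  -- the involution z
  set z : G := ((e.symm zE : (S : Subgroup G)) : G) with hz
  have hzS : z ∈ (S : Subgroup G) := (e.symm zE).2
  have hzo : orderOf z = 2 := by
    rw [hz, Subgroup.orderOf_coe, MulEquiv.orderOf_eq]
    exact orderOf_eq_prime (by rw [sq]; exact zE_sq.1) zE_sq.2
  have hz1 : z ≠ 1 := by
    intro h
    rw [h] at hzo
    simp at hzo
  -- z centralizes S
  have hzc : ∀ s ∈ (S : Subgroup G), s * z = z * s := by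
    intro s hs
    have h := zE_central (e ⟨s, hs⟩)
    have h' : (⟨s, hs⟩ : (S : Subgroup G)) * e.symm zE = e.symm zE * ⟨s, hs⟩ := by
      apply e.injective
      rw [map_mul, map_mul, MulEquiv.apply_symm_apply]
      exact h
    exact congrArg Subtype.val h'
  have hzcent : z ∈ Subgroup.centralizer ((S : Subgroup G) : Set G) := by
    rw [Subgroup.mem_centralizer_iff]
    intro s hs
    exact hzc s hs
  have hSle : (S : Subgroup G) ≤ Subgroup.centralizer ({z} : Set G) := by
    intro s hs
    rw [Subgroup.mem_centralizer_iff]
    intro w hw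
    rw [Set.mem_singleton_iff] at hw
    subst hw
    exact (hzc s hs).symm
  have h16 : 16 ∣ Nat.card (Subgroup.centralizer ({z} : Set G)) := by
    rw [← hcardS]
    exact Subgroup.card_dvd_of_le hSle
  -- z is not in the commutator subgroup of S
  have hznot : z ∉ ⁅(S : Subgroup G), (S : Subgroup G)⁆ := by
    intro hmem
    rw [← Subgroup.map_subtype_commutator] at hmem
    obtain ⟨w, hw, hwz⟩ := hmem
    have hwe : w = e.symm zE := Subtype.ext hwz
    have hker : w ∈ ψ.ker := Abelianization.commutator_subset_ker ψ hw
    rw [MonoidHom.mem_ker, hψ, hwe, MulEquiv.apply_symm_apply] at hker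
    exact zE_fst hker
  -- apply the transfer lemma
  obtain ⟨M, hM2, hzM⟩ := Helper55_Transfer.exists_index_two_of_nonextremal S Q hQS hQi z hzo (by
    intro y hyQ hconj
    -- it suffices that y is not central in S
    have hyS : y ∈ (S : Subgroup G) := hQS hyQ
    have hne : (S : Subgroup G) ⊓ Subgroup.centralizer ({y} : Set G) ≠ (S : Subgroup G) := by
      intro heq
      have hycent : ∀ s ∈ (S : Subgroup G), s * y = y * s := by
        intro s hs
        have : s ∈ Subgroup.centralizer ({y} : Set G) := by
          rw [← heq] at hs
          exact hs.2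
        rw [Subgroup.mem_centralizer_iff] at this
        exact (this y (Set.mem_singleton y)).symm
      -- so e y is central in E with first coordinate one
      have hcE : ∀ h : E, h * e ⟨y, hyS⟩ = e ⟨y, hyS⟩ * h := by
        intro h
        have := hycent (e.symm h) (e.symm h).2
        have h' : e.symm h * (⟨y, hyS⟩ : (S : Subgroup G)) = ⟨y, hyS⟩ * e.symm h :=
          Subtype.ext this
        have := congrArg e h'
        rwa [map_mul, map_mul, MulEquiv.apply_symm_apply] at this
      have hfst : (e ⟨y, hyS⟩).1 = 1 := (hQmem ⟨y, hyS⟩).mp hyQ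
      rcases center_inter _ hcE hfst with h1 | h1
      · -- y = 1, impossible
        have : (⟨y, hyS⟩ : (S : Subgroup G)) = 1 := e.injective (by rw [h1, map_one])
        have hy1 : y = 1 := congrArg Subtype.val this
        rw [hy1, isConj_one_left] at hconj
        exact hz1 hconj
      · -- y = c is a commutator, and conjugate to z under the normalizer of S
        have hycS : y ∈ Subgroup.centralizer ((S : Subgroup G) : Set G) := by
          rw [Subgroup.mem_centralizer_iff]
          intro s hs
          exact hycent s hs
        obtain ⟨g, hg⟩ := isConj_iff.mp hconj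
        have hg' : (g⁻¹)⁻¹ * z * g⁻¹ = y := by rw [inv_inv]; exact hg
        obtain ⟨n, hn, hnz⟩ := Sylow.conj_eq_normalizer_conj_of_mem_centralizer S z g⁻¹ hzcent
          (by rw [hg']; exact hycS)
        rw [hg'] at hnz
        -- y is a commutator of elements of S
        have hycomm : y ∈ ⁅(S : Subgroup G), (S : Subgroup G)⁆ := by
          have h2 : (⟨y, hyS⟩ : (S : Subgroup G)) =
              ⁅e.symm ((1, r 1) : E), e.symm ((1, sr 0) : E)⁆ := by
            apply e.injective
            rw [h1, map_commutatorElement, MulEquiv.apply_symm_apply, MulEquiv.apply_symm_apply]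
            exact cE_comm
          have h3 : y = ⁅((e.symm ((1, r 1) : E) : (S : Subgroup G)) : G),
              ((e.symm ((1, sr 0) : E) : (S : Subgroup G)) : G)⁆ := by
            have := congrArg Subtype.val h2
            simpa [commutatorElement_def] using this
          rw [h3]
          exact Subgroup.commutator_mem_commutator (e.symm _).2 (e.symm _).2
        -- conjugate back
        have hz_eq : z = n * y * n⁻¹ := by rw [hnz]; group
        have hnorm : (⁅(S : Subgroup G), (S : Subgroup G)⁆).map (MulAut.conj n).toMonoidHom =
            ⁅(S : Subgroup G), (S : Subgroup G)⁆ := by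
          rw [Subgroup.map_commutator]
          have : (S : Subgroup G).map (MulAut.conj n).toMonoidHom = (S : Subgroup G) := by
            ext x
            rw [Subgroup.mem_map]
            constructor
            · rintro ⟨w, hw, rfl⟩
              exact (Subgroup.mem_normalizer_iff.mp hn w).mp hw
            · intro hx
              refine ⟨n⁻¹ * x * n, ?_, ?_⟩
              · have := (Subgroup.mem_normalizer_iff.mp (Subgroup.inv_mem _ hn) x).mp hx
                simpa using this
              · simp [MulAut.conj_apply, mul_assoc]
          rw [this]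
        apply hznot
        rw [hz_eq, ← hnorm]
        exact ⟨y, hycomm, by simp [MulAut.conj_apply]⟩
    -- a proper subgroup of a group of order 16 has order dividing 8
    have hlt : Nat.card ↥((S : Subgroup G) ⊓ Subgroup.centralizer ({y} : Set G)) ∣ 8 := by
      have hd : Nat.card ↥((S : Subgroup G) ⊓ Subgroup.centralizer ({y} : Set G)) ∣ 16 := by
        rw [← hcardS]
        exact Subgroup.card_dvd_of_le inf_le_left
      have hne16 : Nat.card ↥((S : Subgroup G) ⊓ Subgroup.centralizer ({y} : Set G)) ≠ 16 := by
        intro h16'
        apply hne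
        apply Subgroup.eq_of_le_of_card_ge inf_le_left
        rw [h16', hcardS]
      have : (16 : ℕ) = 2 ^ 4 := by norm_num
      rw [this] at hd
      obtain ⟨k, hk4, hk⟩ := (Nat.dvd_prime_pow Nat.prime_two).mp hd
      rw [hk] at hne16 ⊢
      have hk3 : k ≤ 3 := by
        rcases Nat.lt_or_ge k 4 with h | h
        · omega
        · have : k = 4 := le_antisymm hk4 h
          rw [this] at hne16
          exact absurd rfl hne16
      exact (pow_dvd_pow 2 hk3).trans (by norm_num)
    obtain ⟨k, hk⟩ := hlt
    have : 2 * Nat.card ↥((S : Subgroup G) ⊓ Subgroup.centralizer ({y} : Set G)) ∣ 16 :=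
      ⟨k, by rw [mul_assoc, ← hk]; rfl⟩
    exact this.trans h16)
  -- simplicity
  have hMn : M.Normal := Subgroup.normal_of_index_eq_two hM2
  rcases hMn.eq_bot_or_eq_top with h | h
  · rw [h, Subgroup.index_bot] at hM2
    have := Subgroup.card_subgroup_dvd_card (S : Subgroup G)
    rw [hcardS, hM2] at this
    omega
  · rw [h, Subgroup.index_top] at hM2
    omega

end Cfsg.Agent.S3309
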