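import Cfsg.Statements.S2922
import Cfsg.Agent.Lib.Helper49_CharP4

set_option autoImplicit false
open Cfsg
open Cfsg.Agent.Lib.Helper49_CharP

namespace Cfsg.Agent.S2922

/-- The two ways of seeing `H ⊓ L` as a subgroup of `L` or of `H`. -/
def subgroupOfSwap {X : Type*} [Group X] (H L : Subgroup X) :
    ↥(H.subgroupOf L) ≃* ↥(L.subgroupOf H) where
  toFun x := ⟨⟨x.1.1, Subgroup.mem_subgroupOf.mp x.2⟩, Subgroup.mem_subgroupOf.mpr x.1.2⟩
  invFun x := ⟨⟨x.1.1, Subgroup.mem_subgroupOf.mp x.2⟩, Subgroup.mem_subgroupOf.mpr x.1.2⟩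
  left_inv _ := rfl
  right_inv _ := rfl
  map_mul' _ _ := rfl

theorem result {X : Type*} [Group X] [Finite X] {p : ℕ} [Fact p.Prime] (B C : Subgroup X) (hB : IsPGroup p ↥B) (hCB : C ≤ B) (hCn : (C.subgroupOf B).Normal) (hC : Cfsg.generalizedFittingSubgroup ↥(Subgroup.normalizer (C : Set X)) = Cfsg.pCore p ↥(Subgroup.normalizer (C : Set X))) : Cfsg.generalizedFittingSubgroup ↥(Subgroup.normalizer (B : Set X)) = Cfsg.pCore p ↥(Subgroup.normalizer (B : Set X)) ∧ Cfsg.generalizedFittingSubgroup ↥(Subgroup.centralizer (B : Set X)) = Cfsg.pCore p ↥(Subgroup.centralizer (B : Set X)) := by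
  classical
  set H : Subgroup X := Subgroup.normalizer (C : Set X) with hH
  set L : Subgroup X := Subgroup.normalizer (B : Set X) with hL
  have hHchar : IsCharP p ↥H := IsCharP.of_generalizedFitting_eq hC
  have hBH : B ≤ H := (Subgroup.normal_subgroupOf_iff_le_normalizer hCB).mp hCn
  have hBL : B ≤ L := Subgroup.le_normalizer
  -- the normalizer of `B` in `H` has characteristic `p`
  have h1 : IsCharP p ↥(Subgroup.normalizer ((B.subgroupOf H : Subgroup ↥H) : Set ↥H)) :=
    hHchar.normalizer (B.subgroupOf H) hB.comap_subtype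
  have h2 : Subgroup.normalizer ((B.subgroupOf H : Subgroup ↥H) : Set ↥H) = L.subgroupOf H := by
    rw [hL]
    exact (Subgroup.subgroupOf_normalizer_eq hBH).symm
  rw [h2] at h1
  have hM : IsCharP p ↥(H.subgroupOf L) := h1.of_mulEquiv (subgroupOfSwap H L).symm
  -- `B` lies in `O_p(L)`
  have hBn : (B.subgroupOf L).Normal :=
    (Subgroup.normal_subgroupOf_iff_le_normalizer hBL).mpr le_rfl
  have hBp : B.subgroupOf L ≤ pCore p ↥L := le_pCore hBn hB.comap_subtype
  have hcent : Subgroup.centralizer (pCore p ↥L : Set ↥L) ≤ H.subgroupOf L := by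
    intro x hx
    rw [Subgroup.mem_subgroupOf]
    apply Subgroup.centralizer_le_normalizer
    rw [Subgroup.mem_centralizer_iff]
    intro c hc
    have hcL : c ∈ L := hBL (hCB hc)
    have h3 : (⟨c, hcL⟩ : ↥L) ∈ pCore p ↥L :=
      hBp (by rw [Subgroup.mem_subgroupOf]; exact hCB hc)
    have := (Subgroup.mem_centralizer_iff.mp hx) ⟨c, hcL⟩ h3
    exact congrArg Subtype.val this
  have hLchar : IsCharP p ↥L := IsCharP.of_centralizer_le (H.subgroupOf L) hM hcent
  refine ⟨hLchar.generalizedFitting_eq, ?_⟩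
  -- the centralizer is normal in the normalizer
  have hZn : ((Subgroup.centralizer (B : Set X)).subgroupOf L).Normal :=
    Subgroup.normal_subgroupOf_centralizer_normalizer (B : Set X)
  have hZ1 : IsCharP p ↥((Subgroup.centralizer (B : Set X)).subgroupOf L) :=
    hLchar.of_normal _
  have hZ2 : IsCharP p ↥(Subgroup.centralizer (B : Set X)) :=
    hZ1.of_mulEquiv (Subgroup.subgroupOfEquivOfLe (Subgroup.centralizer_le_normalizer (B : Set X)))
  exact hZ2.generalizedFitting_eq

end Cfsg.Agent.S2922
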