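import Cfsg.Statements.S2925
import Cfsg.Agent.Lib.Helper21_Components
import Cfsg.Agent.S0542

set_option autoImplicit false
open Cfsg

namespace Cfsg.Agent.S2925

/-- Key computation: if `K` and `K'` commute elementwise, `t, s ∈ K`, and the elements
`t * (y t⁻¹ y⁻¹)` and `s * (y s⁻¹ y⁻¹)` commute, where `y t⁻¹ y⁻¹, y s⁻¹ y⁻¹ ∈ K'`, then
`t⁻¹ s⁻¹ t s ∈ K'`. -/
theorem key_comm {X : Type*} [Group X] {K K' : Subgroup X}
    (hcomm : ∀ a ∈ K, ∀ b ∈ K', a * b = b * a) {t s t' s' : X} (ht : t ∈ K) (hs : s ∈ K)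
    (ht' : t' ∈ K') (hs' : s' ∈ K')
    (h : (t * t') * (s * s') = (s * s') * (t * t')) :
    t⁻¹ * s⁻¹ * t * s = s' * t' * s'⁻¹ * t'⁻¹ := by
  have h1 : t * s * (t' * s') = s * t * (s' * t') := by
    calc t * s * (t' * s') = t * (s * t') * s' := by group
      _ = t * (t' * s) * s' := by rw [hcomm s hs t' ht']
      _ = (t * t') * (s * s') := by group
      _ = (s * s') * (t * t') := h
      _ = s * (s' * t) * t' := by group
      _ = s * (t * s') * t' := by rw [hcomm t ht s' hs']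
      _ = s * t * (s' * t') := by group
  calc t⁻¹ * s⁻¹ * t * s = (s * t)⁻¹ * (t * s * (t' * s')) * (t' * s')⁻¹ := by group
    _ = (s * t)⁻¹ * (s * t * (s' * t')) * (t' * s')⁻¹ := by rw [h1]
    _ = s' * t' * s'⁻¹ * t'⁻¹ := by group

theorem result {X : Type*} [Group X] [Finite X] (K : Subgroup X) (hK : Cfsg.IsComponent K) (T : Sylow 2 X) (Y : Subgroup X) (hYT : Y ≤ (T : Subgroup X)) (hYn : (Y.subgroupOf (T : Subgroup X)).Normal) (hYab : IsMulCommutative ↥Y) (hnot : ¬ Y ≤ Subgroup.normalizer (K : Set X)) (P : Sylow 2 (↥K ⧸ Subgroup.center ↥K)) : IsMulCommutative ↥(P : Subgroup (↥K ⧸ Subgroup.center ↥K)) := by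
  classical
  -- pick y ∈ Y not normalizing K
  obtain ⟨y, hyY, hyN⟩ := SetLike.not_le_iff_exists.mp hnot
  set K' : Subgroup X := K.map ((MulAut.conj y : X ≃* X) : X →* X) with hK'
  have hK'comp : IsComponent K' :=
    Cfsg.Agent.Lib.Helper29_Local.isComponent_map_mulEquiv (MulAut.conj y) hK
  have hmemK' : ∀ k ∈ K, y * k * y⁻¹ ∈ K' := by
    intro k hk
    exact ⟨k, hk, by simp [MulAut.conj_apply]⟩
  have hne : K ≠ K' := by
    intro h
    apply hyN
    rw [Subgroup.mem_normalizer_iff]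
    intro k
    constructor
    · intro hk
      rw [h]; exact hmemK' k hk
    · intro hk
      rw [h] at hk
      obtain ⟨k', hk', he⟩ := hk
      have : k' = k := by
        have : y * k' * y⁻¹ = y * k * y⁻¹ := by simpa [MulAut.conj_apply] using he
        have h2 : k' = y⁻¹ * (y * k' * y⁻¹) * y := by group
        rw [h2, this]; group
      rw [← this]; exact hk'
  have hcomm : ∀ a ∈ K, ∀ b ∈ K', a * b = b * a := by
    intro a ha b hb
    exact (Cfsg.Agent.Lib.Helper21_Components.IsComponent.commute_of_ne hK hK'comp hne ha hb).eq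
  -- commutators of elements of T ∩ K are central in K
  have hcentral : ∀ t ∈ (T : Subgroup X), t ∈ K → ∀ s ∈ (T : Subgroup X), s ∈ K →
      ∀ k ∈ K, k * (t⁻¹ * s⁻¹ * t * s) = (t⁻¹ * s⁻¹ * t * s) * k := by
    intro t htT htK s hsT hsK k hk
    have hu : ∀ r ∈ (T : Subgroup X), r * (y * r⁻¹ * y⁻¹) ∈ Y := by
      intro r hr
      have h1 : (⟨r, hr⟩ : ↥(T : Subgroup X)) * ⟨y, hYT hyY⟩ * (⟨r, hr⟩ : ↥(T : Subgroup X))⁻¹ ∈
          Y.subgroupOf (T : Subgroup X) :=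
        hYn.conj_mem ⟨y, hYT hyY⟩ (by rw [Subgroup.mem_subgroupOf]; exact hyY) ⟨r, hr⟩
      rw [Subgroup.mem_subgroupOf] at h1
      have h2 : r * y * r⁻¹ ∈ Y := by simpa using h1
      have h3 : r * (y * r⁻¹ * y⁻¹) = (r * y * r⁻¹) * y⁻¹ := by group
      rw [h3]
      exact mul_mem h2 (inv_mem hyY)
    have hYcomm : ∀ a ∈ Y, ∀ b ∈ Y, a * b = b * a := by
      intro a ha b hb
      have := (isMulCommutative_iff.mp hYab) ⟨a, ha⟩ ⟨b, hb⟩
      exact congrArg Subtype.val this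
    have h := hYcomm _ (hu t htT) _ (hu s hsT)
    have e := key_comm hcomm htK hsK (hmemK' _ (inv_mem htK)) (hmemK' _ (inv_mem hsK)) h
    have hz' : t⁻¹ * s⁻¹ * t * s ∈ K' := by
      rw [e]
      exact mul_mem (mul_mem (mul_mem (hmemK' _ (inv_mem hsK)) (hmemK' _ (inv_mem htK)))
        (inv_mem (hmemK' _ (inv_mem hsK)))) (inv_mem (hmemK' _ (inv_mem htK)))
    exact hcomm k hk _ hz'
  -- Sylow 2-subgroup of K
  obtain ⟨Q, hQ⟩ := Cfsg.Agent.S0542.result 2 K hK.1 T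
  -- its image in K/Z(K)
  set Q' : Sylow 2 (↥K ⧸ Subgroup.center ↥K) :=
    Q.mapSurjective (QuotientGroup.mk'_surjective (Subgroup.center ↥K)) with hQ'
  have hQ'comm : ∀ a ∈ (Q' : Subgroup (↥K ⧸ Subgroup.center ↥K)),
      ∀ b ∈ (Q' : Subgroup (↥K ⧸ Subgroup.center ↥K)), a * b = b * a := by
    intro a ha b hb
    rw [hQ', Sylow.coe_mapSurjective] at ha hb
    obtain ⟨a0, ha0, rfl⟩ := ha
    obtain ⟨b0, hb0, rfl⟩ := hb
    rw [hQ] at ha0 hb0
    replace ha0 : (a0 : X) ∈ (T : Subgroup X) := Subgroup.mem_subgroupOf.mp ha0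
    replace hb0 : (b0 : X) ∈ (T : Subgroup X) := Subgroup.mem_subgroupOf.mp hb0
    rw [← map_mul, ← map_mul]
    show ((a0 * b0 : ↥K) : ↥K ⧸ Subgroup.center ↥K) = ((b0 * a0 : ↥K) : ↥K ⧸ Subgroup.center ↥K)
    rw [eq_comm, QuotientGroup.eq]
    rw [Subgroup.mem_center_iff]
    intro k
    apply Subtype.ext
    have := hcentral a0.1 ha0 a0.2 b0.1 hb0 b0.2 k.1 k.2
    have e1 : (((b0 * a0)⁻¹ * (a0 * b0) : ↥K) : X) = (a0 : X)⁻¹ * (b0 : X)⁻¹ * a0 * b0 := by
      simp only [Subgroup.coe_mul, Subgroup.coe_inv]; group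
    show (k : X) * (((b0 * a0)⁻¹ * (a0 * b0) : ↥K) : X) =
      (((b0 * a0)⁻¹ * (a0 * b0) : ↥K) : X) * (k : X)
    rw [e1]
    exact this
  -- transport along an isomorphism of Sylow subgroups
  have e : ↥(Q' : Subgroup (↥K ⧸ Subgroup.center ↥K)) ≃* ↥(P : Subgroup (↥K ⧸ Subgroup.center ↥K)) :=
    Sylow.equiv Q' P
  rw [isMulCommutative_iff]
  intro a b
  have h1 := hQ'comm (e.symm a).1 (e.symm a).2 (e.symm b).1 (e.symm b).2
  have h2 : e.symm a * e.symm b = e.symm b * e.symm a := Subtype.ext h1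
  have h3 := congrArg e h2
  simpa using h3

end Cfsg.Agent.S2925
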