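import Cfsg.Statements.S2929
import Cfsg.Agent.Lib.Helper13_ThreeCyc
import Cfsg.Agent.Lib.Helper29_Local
import Cfsg.Agent.Lib.Helper21_Components
import Cfsg.Agent.S1265

set_option autoImplicit false
open Cfsg

namespace Cfsg.Agent.S2929

open Cfsg.Agent.Lib.Helper13_ThreeCyc
open scoped commutatorElement

/-- Let n ≥ 5 and let H be a subgroup of the symmetric group of degree n whose generalized Fitting subgroup F*(H) is quasisimple. If H contains a Sylow 3-subgroup of the symmetric group, then F*(H) is isomorphic to an alternating group of degree m for some m ∈ {n − 2, n − 1, n}. -/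
theorem result (n : ℕ) (hn : 5 ≤ n) (H : Subgroup (Equiv.Perm (Fin n))) (hF : Cfsg.IsQuasisimple ↥(Cfsg.generalizedFittingSubgroup ↥H)) (hS : ∃ P : Sylow 3 (Equiv.Perm (Fin n)), (P : Subgroup (Equiv.Perm (Fin n))) ≤ H) : ∃ m : ℕ, (m = n - 2 ∨ m = n - 1 ∨ m = n) ∧ Nonempty (↥(Cfsg.generalizedFittingSubgroup ↥H) ≃* ↥(alternatingGroup (Fin m))) := by
  classical
  obtain ⟨P, hPH⟩ := hS
  set LG : Subgroup ↥H := Cfsg.generalizedFittingSubgroup ↥H with hLG
  have hLGn : LG.Normal := Cfsg.Agent.Lib.Helper29_Local.generalizedFittingSubgroup_normal ↥H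
  set L : Subgroup (Equiv.Perm (Fin n)) := LG.map H.subtype with hL
  have hLH : L ≤ H := by
    rintro _ ⟨x, -, rfl⟩
    exact x.2
  have hmemL : ∀ x : ↥H, (x : Equiv.Perm (Fin n)) ∈ L ↔ x ∈ LG := by
    intro x
    constructor
    · rintro ⟨y, hy, hyx⟩
      have : y = x := Subtype.ext hyx
      rw [← this]; exact hy
    · intro hx
      exact ⟨x, hx, rfl⟩
  have hnorm : ∀ h ∈ H, ∀ l ∈ L, h * l * h⁻¹ ∈ L := by
    intro h hh l hl
    obtain ⟨y, hy, rfl⟩ := hl
    have := hLGn.conj_mem y hy ⟨h, hh⟩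
    exact ⟨_, this, rfl⟩
  have hperf : ⁅L, L⁆ = L := by
    have : Group.IsPerfect ↥LG := hF.1
    have h1 : ⁅LG, LG⁆ = LG := Subgroup.isPerfect_iff.mp hF.1
    rw [hL, ← Subgroup.map_commutator, h1]
  have hq : ∀ N : Subgroup (Equiv.Perm (Fin n)), N ≤ L → (∀ l ∈ L, ∀ x ∈ N, l * x * l⁻¹ ∈ N) →
      L ≤ N ∨ ∀ x ∈ N, ∀ l ∈ L, l * x = x * l := by
    intro N hNL hNn
    set N' : Subgroup ↥LG := (N.comap H.subtype).subgroupOf LG with hN'
    have : N'.Normal := by
      constructor
      intro x hx g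
      rw [hN', Subgroup.mem_subgroupOf, Subgroup.mem_comap] at hx ⊢
      have hgL : ((g : ↥H) : Equiv.Perm (Fin n)) ∈ L := (hmemL _).mpr g.2
      have := hNn _ hgL _ hx
      simpa using this
    rcases Cfsg.Agent.Lib.Helper21_Components.IsQuasisimple.normal_eq_top_or_le_center hF N' with h | h
    · left
      rintro _ ⟨y, hy, rfl⟩
      have : (⟨y, hy⟩ : ↥LG) ∈ N' := by rw [h]; exact Subgroup.mem_top _
      rw [hN', Subgroup.mem_subgroupOf, Subgroup.mem_comap] at this
      exact this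
    · right
      intro x hx l hl
      obtain ⟨y, hy, rfl⟩ := hNL hx
      obtain ⟨z, hz, rfl⟩ := hl
      have hyN' : (⟨y, hy⟩ : ↥LG) ∈ N' := by
        rw [hN', Subgroup.mem_subgroupOf, Subgroup.mem_comap]
        exact hx
      have hc := Subgroup.mem_center_iff.mp (h hyN') ⟨z, hz⟩
      have hc' : z * y = y * z := by
        have := congrArg (fun t : ↥LG => (t : ↥H)) hc
        simpa using this
      have := congrArg (fun t : ↥H => (t : Equiv.Perm (Fin n))) hc'
      simpa using this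
  have hcent : ∀ x ∈ H, (∀ l ∈ L, l * x = x * l) → x ∈ L := by
    intro x hx hcomm
    have hxc : (⟨x, hx⟩ : ↥H) ∈ Subgroup.centralizer (LG : Set ↥H) := by
      rw [Subgroup.mem_centralizer_iff]
      intro l hl
      have := hcomm (l : Equiv.Perm (Fin n)) ((hmemL l).mpr hl)
      exact Subtype.ext this
    have := Cfsg.Agent.S1265.result (G := ↥H) hxc
    exact (hmemL ⟨x, hx⟩).mpr this
  have hcard3 : 3 ≤ Fintype.card (Fin n) := by rw [Fintype.card_fin]; omega
  obtain ⟨c, hcP, hc3⟩ := exists_threeCycle_mem_sylow P hcard3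
  obtain ⟨O, hO5, hLO, hfix⟩ := main H L hLH hnorm hperf hq hcent c hc3 (hPH hcP)
  have hcompl : (Finset.univ \ O).card ≤ 2 := by
    apply card_fixed_sylow_le P
    intro x hx g hg
    obtain ⟨k, hk⟩ := P.isPGroup' ⟨g, hg⟩
    have hk' : g ^ (3 ^ k) = 1 := by
      have := congrArg (fun t : ↥(P : Subgroup (Equiv.Perm (Fin n))) => (t : Equiv.Perm (Fin n))) hk
      simpa using this
    have hxO : x ∉ O := (Finset.mem_sdiff.mp hx).2
    exact hfix g (hPH hg) k hk' x hxO
  have hOcard : O.card ≤ n := by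
    have := Finset.card_le_univ O
    rwa [Fintype.card_fin] at this
  have hsd : (Finset.univ \ O).card = n - O.card := by
    rw [Finset.card_sdiff_of_subset (Finset.subset_univ O), Finset.card_univ, Fintype.card_fin]
  refine ⟨O.card, by omega, ?_⟩
  -- the isomorphism
  have e1 : ↥LG ≃* ↥L := Subgroup.equivMapOfInjective LG H.subtype H.subtype_injective
  have e2 : ↥(alternatingGroup {x // x ∈ O}) ≃* ↥(altOn O) :=
    Subgroup.equivMapOfInjective _ _ Equiv.Perm.ofSubtype_injective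
  have e3 : ↥L ≃* ↥(altOn O) := MulEquiv.subgroupCongr hLO
  have e4 : ↥(alternatingGroup {x // x ∈ O}) ≃* ↥(alternatingGroup (Fin O.card)) :=
    Equiv.altCongrHom (Fintype.equivFinOfCardEq (by simp))
  exact ⟨(e1.trans e3).trans (e2.symm.trans e4)⟩

end Cfsg.Agent.S2929
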