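import Cfsg.Statements.S2930
import Cfsg.Agent.Lib.Helper13_AutAlt
import Cfsg.Agent.Lib.Helper13_Syl3
import Cfsg.Agent.Lib.Helper29_Local
import Cfsg.Agent.S1265

set_option autoImplicit false
open Cfsg

namespace Cfsg.Agent.S2930

/-- every 3-element of `X` lies in `F*(X)` when `F*(X) ≅ A_n`. -/
theorem three_elt_mem {X : Type*} [Group X] [Finite X] (n : ℕ) (hn : 5 ≤ n)
    (e : ↥(Cfsg.generalizedFittingSubgroup X) ≃* ↥(alternatingGroup (Fin n)))
    (x : X) (k : ℕ) (hx : x ^ (3 ^ k) = 1) : x ∈ Cfsg.generalizedFittingSubgroup X := by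
  classical
  set L : Subgroup X := Cfsg.generalizedFittingSubgroup X with hL
  have hLn : L.Normal := Cfsg.Agent.Lib.Helper29_Local.generalizedFittingSubgroup_normal X
  set φ : MulAut ↥L := MulAut.conjNormal x with hφ
  set f : MulAut ↥(alternatingGroup (Fin n)) := (e.symm.trans φ).trans e with hf
  have hfpow : ∀ m : ℕ, ∀ y, (f ^ m) y = e ((φ ^ m) (e.symm y)) := by
    intro m
    induction m with
    | zero => intro y; simp
    | succ m ih =>
      intro y
      rw [pow_succ', MulAut.mul_apply, ih, pow_succ', MulAut.mul_apply, hf]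
      simp
  have hφk : φ ^ (3 ^ k) = 1 := by
    rw [hφ, ← map_pow, hx, map_one]
  have hfk : f ^ (3 ^ k) = 1 := by
    ext y
    rw [hfpow, hφk]
    simp
  obtain ⟨a, ha⟩ := Cfsg.Agent.Lib.Helper13_AutAlt.inner_of_three_power n hn f k hfk
  set l : ↥L := e.symm a with hl
  have hconj : ∀ y : ↥L, x * (y : X) * x⁻¹ = (l : X) * (y : X) * (l : X)⁻¹ := by
    intro y
    have h1 := ha (e y)
    have h2 : f (e y) = e (φ y) := by rw [hf]; simp
    rw [h2] at h1
    have h3 : φ y = l * y * l⁻¹ := by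
      apply e.injective
      rw [h1, map_mul, map_mul, map_inv, hl]
      simp
    have h4 := congrArg (fun t : ↥L => (t : X)) h3
    simpa [hφ, MulAut.conjNormal_apply] using h4
  have hcent : (l : X)⁻¹ * x ∈ Subgroup.centralizer (L : Set X) := by
    rw [Subgroup.mem_centralizer_iff]
    intro y hy
    have := hconj ⟨y, hy⟩
    simp only at this
    -- x y x⁻¹ = l y l⁻¹  ⇒  y (l⁻¹ x) = (l⁻¹ x) y
    have h5 : (l : X)⁻¹ * x * y = y * ((l : X)⁻¹ * x) := by
      have : x * y = (l : X) * y * (l : X)⁻¹ * x := by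
        rw [← this]; group
      calc (l : X)⁻¹ * x * y = (l : X)⁻¹ * (x * y) := by group
        _ = (l : X)⁻¹ * ((l : X) * y * (l : X)⁻¹ * x) := by rw [this]
        _ = y * ((l : X)⁻¹ * x) := by group
    exact h5.symm
  have hmem := Cfsg.Agent.S1265.result (G := X) hcent
  have : x = (l : X) * ((l : X)⁻¹ * x) := by group
  rw [this]
  exact L.mul_mem l.2 hmem

theorem fstar_eq_top {X : Type*} [Group X] [Finite X] (hX : Cfsg.IsPMinimal 3 X) (n : ℕ)
    (hn : 5 ≤ n) (e : ↥(Cfsg.generalizedFittingSubgroup X) ≃* ↥(alternatingGroup (Fin n))) :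
    Cfsg.generalizedFittingSubgroup X = ⊤ := by
  classical
  set L : Subgroup X := Cfsg.generalizedFittingSubgroup X with hL
  have hLn : L.Normal := Cfsg.Agent.Lib.Helper29_Local.generalizedFittingSubgroup_normal X
  have : Fact (Nat.Prime 3) := ⟨by norm_num⟩
  obtain ⟨S⟩ : Nonempty (Sylow 3 X) := inferInstance
  have hSL : (S : Subgroup X) ≤ L := by
    intro s hs
    obtain ⟨k, hk⟩ := S.isPGroup' ⟨s, hs⟩
    have hk' : s ^ (3 ^ k) = 1 := by
      have := congrArg (fun t : ↥(S : Subgroup X) => (t : X)) hk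
      simpa using this
    exact three_elt_mem n hn e s k hk'
  obtain ⟨hnn, M, ⟨hMco, hSM⟩, huniq⟩ := hX S
  by_contra hne
  obtain ⟨M0, hM0, hLM0⟩ := (eq_top_or_exists_le_coatom L).resolve_left hne
  have hNne : Subgroup.normalizer ((S : Subgroup X) : Set X) ≠ ⊤ := by
    intro h
    exact hnn (Subgroup.normalizer_eq_top_iff.mp h)
  obtain ⟨M1, hM1, hNM1⟩ := (eq_top_or_exists_le_coatom _).resolve_left hNne
  have e0 : M0 = M := huniq M0 ⟨hM0, hSL.trans hLM0⟩
  have e1 : M1 = M := huniq M1 ⟨hM1, Subgroup.le_normalizer.trans hNM1⟩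
  have hfr := Sylow.normalizer_sup_eq_top' S hSL
  have : (⊤ : Subgroup X) ≤ M := by
    rw [← hfr]
    exact sup_le (e1 ▸ hNM1) (e0 ▸ hLM0)
  exact hMco.1 (top_le_iff.mp this)

/-- Let X be a finite 3-minimal group (a Sylow 3-subgroup is not normal and lies in a unique maximal subgroup) whose generalized Fitting subgroup is isomorphic to an alternating group of degree n ≥ 5. Then X = F*(X), and n = 6, n = 9, or n = 3ᵃ + 1 for some a ≥ 2. -/
theorem result {X : Type*} [Group X] [Finite X] (hX : Cfsg.IsPMinimal 3 X) (n : ℕ) (hn : 5 ≤ n) (hF : Nonempty (↥(Cfsg.generalizedFittingSubgroup X) ≃* ↥(alternatingGroup (Fin n)))) : Cfsg.generalizedFittingSubgroup X = ⊤ ∧ (n = 6 ∨ n = 9 ∨ ∃ a : ℕ, 2 ≤ a ∧ n = 3 ^ a + 1) := by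
  obtain ⟨e⟩ := hF
  have htop := fstar_eq_top hX n hn e
  refine ⟨htop, ?_⟩
  have e' : X ≃* ↥(alternatingGroup (Fin n)) :=
    (Subgroup.topEquiv.symm.trans (MulEquiv.subgroupCongr htop.symm)).trans e
  have hmin := Cfsg.Agent.Lib.Helper13_Syl3.isPMinimal_of_mulEquiv e' 3 hX
  exact Cfsg.Agent.Lib.Helper13_Syl3.part2 n hn hmin

end Cfsg.Agent.S2930
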