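import Cfsg.Statements.S2931
import Cfsg.Agent.Lib.Helper61_SylData1
import Cfsg.Agent.Lib.Helper61_SylData2
import Cfsg.Agent.Lib.Helper61_PSpTools
import Cfsg.Agent.Lib.Helper61_IsometryTransfer
import Cfsg.Agent.Lib.Helper5_SpOrder
import Cfsg.Agent.S0246
import Cfsg.Agent.S0288

set_option autoImplicit false
open Cfsg

namespace Cfsg.Agent.S2931

open Matrix Cfsg.Agent.Lib.Helper61_FamilyIso Cfsg.Agent.Lib.Helper61_PSpTools
  Cfsg.Agent.Lib.Helper61_IsometryTransfer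

namespace One

open Cfsg.Agent.Lib.Helper61_SylData1

abbrev Sp := Matrix.symplecticGroup (Fin 2) (ZMod 3)

theorem M_mem (i : Fin 64) : M i ∈ Matrix.symplecticGroup (Fin 2) (ZMod 3) := by
  rw [SymplecticGroup.mem_iff]
  exact M_symp i

/-- The family in `PSp₄(3)`. -/
def y (i : Fin 64) : Cfsg.PSp 2 (ZMod 3) := QuotientGroup.mk (⟨M i, M_mem i⟩ : Sp)

theorem y_zero : y 0 = 1 := by
  have : (⟨M 0, M_mem 0⟩ : Sp) = 1 := Subtype.ext M_zero
  show QuotientGroup.mk (⟨M 0, M_mem 0⟩ : Sp) = _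
  rw [this]
  rfl

theorem y_mul (i : Fin 64) (j : Fin 3) : y i * y (g j) = y (m i j) := by
  show (QuotientGroup.mk ((⟨M i, M_mem i⟩ : Sp) * ⟨M (g j), M_mem (g j)⟩) : Cfsg.PSp 2 (ZMod 3)) = _
  exact mk_eq_of_pm _ _ (M_mul i j)

theorem y_inv (j : Fin 3) : y (g j) * y (g j) = 1 := by
  rw [y_mul, m_g, y_zero]

theorem y_inj : Function.Injective y := by
  intro i i' h
  have h1 : (⟨M i, M_mem i⟩ : Sp)⁻¹ * ⟨M i', M_mem i'⟩ ∈ Subgroup.center Sp :=
    QuotientGroup.eq.1 h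
  have h2 := Cfsg.Agent.S0246.center_eq_one_or_neg_one 2 (by norm_num) _ h1
  apply M_inj
  have key : ∀ Z : Sp, ((⟨M i, M_mem i⟩ : Sp)⁻¹ * ⟨M i', M_mem i'⟩ = Z) → M i' = M i * Z.1 := by
    intro Z hZ
    have : (⟨M i', M_mem i'⟩ : Sp) = ⟨M i, M_mem i⟩ * Z := by rw [← hZ, mul_inv_cancel_left]
    exact congrArg Subtype.val this
  have h3 := key _ rfl
  rcases h2 with h2 | h2
  · left
    rw [h3, h2, mul_one]
  · right
    rw [h3, h2, mul_neg, mul_one]

theorem closed_y : Closed (n := 63) y g m par pj :=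
  ⟨y_zero, y_mul, y_inv, y_inj, tree⟩

theorem gens_le_alt : gens x g ≤ alternatingGroup (Fin 8) := by
  rw [Subgroup.closure_le]
  rintro _ ⟨j, rfl⟩
  show x (g j) ∈ alternatingGroup (Fin 8)
  rw [Equiv.Perm.mem_alternatingGroup, x_g, sign_s]

theorem card_alt : Nat.card ↥(alternatingGroup (Fin 8)) = 2 ^ 6 * 315 := by
  rw [nat_card_alternatingGroup]
  simp [Nat.factorial]

theorem card_psp {F : Type} [Field F] [Fintype F] (hF : Fintype.card F = 3) :
    Nat.card (Cfsg.PSp 2 F) = 2 ^ 6 * 405 := by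
  have h1 := Cfsg.Agent.Lib.Helper5_SpOrder.card_sp (F := F) (q := 3) hF 2
  have h2 := Cfsg.Agent.S0246.result (F := F) (q := 3) hF 2 (by norm_num)
  have h3 := Subgroup.card_eq_card_quotient_mul_card_subgroup
    (Subgroup.center (Matrix.symplecticGroup (Fin 2) F))
  have e : 3 ^ (2 ^ 2) * ∏ i ∈ Finset.range 2, (3 ^ (2 * (i + 1)) - 1) = 51840 := by decide
  rw [e] at h1
  have e2 : Nat.gcd 2 (3 - 1) = 2 := by decide
  rw [e2] at h2
  rw [h1, h2] at h3
  show Nat.card (Matrix.symplecticGroup (Fin 2) F ⧸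
    Subgroup.center (Matrix.symplecticGroup (Fin 2) F)) = 2 ^ 6 * 405
  omega

theorem main {F : Type} [Field F] [Fintype F] (hF : Fintype.card F = 3)
    (P : Sylow 2 ↥(alternatingGroup (Fin 8))) (Q : Sylow 2 (Cfsg.PSp 2 F)) :
    Nonempty (↥(P : Subgroup ↥(alternatingGroup (Fin 8))) ≃* ↥(Q : Subgroup (Cfsg.PSp 2 F))) := by
  have : Fact (Nat.Prime 2) := ⟨Nat.prime_two⟩
  have e : ZMod 3 ≃+* F := ZMod.ringEquivOfPrime F Nat.prime_three hF
  -- the alternating side
  obtain ⟨e1⟩ := sylow_equiv_of_injective (Subgroup.inclusion gens_le_alt)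
    (Subgroup.inclusion_injective gens_le_alt)
    (by rw [card_gens closed_x, card_alt, factorization_two_pow_mul 6 315 (by norm_num)]; norm_num) P
  -- the symplectic side
  have hinj : Function.Injective
      (((pspEquiv (l := Fin 2) e).toMonoidHom).comp (Subgroup.subtype (gens y g))) := by
    intro a b hab
    exact Subtype.ext ((pspEquiv (l := Fin 2) e).injective hab)
  obtain ⟨e2⟩ := sylow_equiv_of_injective
    (((pspEquiv (l := Fin 2) e).toMonoidHom).comp (Subgroup.subtype (gens y g))) hinj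
    (by rw [card_gens closed_y, card_psp hF, factorization_two_pow_mul 6 405 (by norm_num)]; norm_num) Q
  exact ⟨(e1.trans (gensEquiv closed_x closed_y)).trans e2.symm⟩

end One

namespace Two

open Cfsg.Agent.Lib.Helper61_SylData2

abbrev GL6 := Matrix.GeneralLinearGroup I6 (ZMod 2)

/-- The family in `GL₆(2)`. -/
def Y (i : Fin 128) : GL6 := ⟨M i, M (invI i), (M_inv i).1, (M_inv i).2⟩

theorem Y_zero : Y 0 = 1 := Units.ext M_zero

theorem Y_mul (i : Fin 128) (j : Fin 3) : Y i * Y (g j) = Y (m i j) := Units.ext (M_mul i j)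

theorem Y_inv (j : Fin 3) : Y (g j) * Y (g j) = 1 := by
  rw [Y_mul, m_g, Y_zero]

theorem Y_inj : Function.Injective Y := fun i i' h => M_inj i i' (congrArg Units.val h)

theorem closed_Y : Closed (n := 127) Y g m par pj :=
  ⟨Y_zero, Y_mul, Y_inv, Y_inj, tree⟩

theorem gens_le_isom :
    gens Y g ≤ Cfsg.isometryGroup (ZMod 2) (Cfsg.quadFormMinus 2 (ZMod 2) 1 1) := by
  rw [Subgroup.closure_le]
  rintro _ ⟨j, rfl⟩
  show Y (g j) ∈ Cfsg.isometryGroup (ZMod 2) (Cfsg.quadFormMinus 2 (ZMod 2) 1 1)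
  rw [mem_isometryGroup_iff]
  intro u
  rw [eq_vec u]
  exact M_isom j _ _ _ _ _ _

theorem card_perm8 : Nat.card (Equiv.Perm (Fin 8)) = 2 ^ 7 * 315 := by
  rw [Nat.card_perm]
  simp [Nat.factorial]

theorem card_isom {K : Type} [Field K] [Fintype K] (hK : Fintype.card K = 2) (a b : K)
    (hab : ∀ z₁ z₂ : K, z₁ ^ 2 + a * z₁ * z₂ + b * z₂ ^ 2 = 0 → z₁ = 0 ∧ z₂ = 0) :
    Nat.card ↥(Cfsg.isometryGroup K (Cfsg.quadFormMinus 2 K a b)) = 2 ^ 7 * 405 := by
  have h := Cfsg.Agent.S0288.result (F := K) (q := 2) hK 3 (by norm_num) a b hab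
  have e : 2 * 2 ^ (3 * (3 - 1)) * (2 ^ 3 + 1) * ∏ i ∈ Finset.range (3 - 1), (2 ^ (2 * (i + 1)) - 1)
      = 2 ^ 7 * 405 := by decide
  rw [e] at h
  exact h

theorem zmod2_cases : ∀ w : ZMod 2, w = 0 ∨ w = 1 := by decide

theorem zmod2_add : (1 : ZMod 2) + 1 = 0 := by decide

theorem main {K : Type} [Field K] [Fintype K] (hK : Fintype.card K = 2) (a b : K)
    (hab : ∀ z₁ z₂ : K, z₁ ^ 2 + a * z₁ * z₂ + b * z₂ ^ 2 = 0 → z₁ = 0 ∧ z₂ = 0)
    (P' : Sylow 2 (Equiv.Perm (Fin 8)))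
    (Q' : Sylow 2 ↥(Cfsg.isometryGroup K (Cfsg.quadFormMinus 2 K a b))) :
    Nonempty (↥(P' : Subgroup (Equiv.Perm (Fin 8))) ≃*
      ↥(Q' : Subgroup ↥(Cfsg.isometryGroup K (Cfsg.quadFormMinus 2 K a b)))) := by
  have : Fact (Nat.Prime 2) := ⟨Nat.prime_two⟩
  have e : ZMod 2 ≃+* K := ZMod.ringEquivOfPrime K Nat.prime_two hK
  -- the coefficients are both `1`
  have h01 : ∀ z : K, z = 0 ∨ z = 1 := by
    intro z
    obtain ⟨w, rfl⟩ := e.surjective z
    rcases zmod2_cases w with rfl | rfl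
    · left; simp
    · right; simp
  have h2 : (1 : K) + 1 = 0 := by
    have := congrArg e zmod2_add
    simpa using this
  have hb : b = 1 := by
    rcases h01 b with hb | hb
    · exfalso
      have := hab 0 1 (by rw [hb]; ring)
      exact one_ne_zero this.2
    · exact hb
  have ha : a = 1 := by
    rcases h01 a with ha | ha
    · exfalso
      have := hab 1 1 (by rw [ha, hb]; linear_combination h2)
      exact one_ne_zero this.1
    · exact ha
  subst ha hb
  -- the symmetric side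
  obtain ⟨e1⟩ := sylow_equiv_of_card (gens x g)
    (by rw [card_gens closed_x, card_perm8, factorization_two_pow_mul 7 315 (by norm_num)]; norm_num) P'
  -- the orthogonal side
  have hQ : ∀ v, e (Cfsg.quadFormMinus 2 (ZMod 2) 1 1 v) = Cfsg.quadFormMinus 2 K 1 1 (e ∘ v) := by
    intro v
    rw [quadFormMinus_map, map_one]
  let E := isometryGroupEquiv e (Cfsg.quadFormMinus 2 (ZMod 2) 1 1) (Cfsg.quadFormMinus 2 K 1 1) hQ
  have hinj : Function.Injective ((E.toMonoidHom).comp (Subgroup.inclusion gens_le_isom)) := by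
    intro a b hab
    exact Subgroup.inclusion_injective gens_le_isom (E.injective hab)
  obtain ⟨e2⟩ := sylow_equiv_of_injective ((E.toMonoidHom).comp (Subgroup.inclusion gens_le_isom))
    hinj
    (by rw [card_gens closed_Y, card_isom hK 1 1 hab, factorization_two_pow_mul 7 405 (by norm_num)]; norm_num)
    Q'
  exact ⟨(e1.trans (gensEquiv closed_x closed_Y)).trans e2.symm⟩

end Two

/-- The Sylow 2-subgroups of the alternating group of degree 8 and of PSp₄(3) are isomorphic, and so are the Sylow 2-subgroups of the symmetric group of degree 8 and of the full isometry group of a non-degenerate quadratic form of minus type in dimension 6 over the field with 2 elements. -/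
theorem result (F : Type) [Field F] [Fintype F] (hF : Fintype.card F = 3) (K : Type) [Field K] [Fintype K] (hK : Fintype.card K = 2) (a b : K) (hab : ∀ z₁ z₂ : K, z₁ ^ 2 + a * z₁ * z₂ + b * z₂ ^ 2 = 0 → z₁ = 0 ∧ z₂ = 0) (P : Sylow 2 ↥(alternatingGroup (Fin 8))) (Q : Sylow 2 (Cfsg.PSp 2 F)) (P' : Sylow 2 (Equiv.Perm (Fin 8))) (Q' : Sylow 2 ↥(Cfsg.isometryGroup K (Cfsg.quadFormMinus 2 K a b))) : Nonempty (↥(P : Subgroup ↥(alternatingGroup (Fin 8))) ≃* ↥(Q : Subgroup (Cfsg.PSp 2 F))) ∧ Nonempty (↥(P' : Subgroup (Equiv.Perm (Fin 8))) ≃* ↥(Q' : Subgroup ↥(Cfsg.isometryGroup K (Cfsg.quadFormMinus 2 K a b)))) :=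
  ⟨One.main hF P Q, Two.main hK a b hab P' Q'⟩

end Cfsg.Agent.S2931
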