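import Mathlib
import Cfsg.Statements.S2934
import Cfsg.Agent.S0058
import Cfsg.Agent.Lib.Helper53_ThreeSq4

set_option autoImplicit false
open Cfsg

namespace Cfsg.Agent.S2934

open Cfsg.Agent.Lib.Helper53_ThreeSq

/-- Let p be an odd prime, W a finite 2-group and E a non-cyclic abelian p-subgroup of Aut(W) such that, for every nontrivial e ∈ E, the fixed points of e in W contain at most one involution. Then E has order 9, W is extraspecial of order 2⁵, 2⁷ or 2⁹, and the common fixed points of E in W form exactly the centre Z(W). -/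
theorem result {W : Type*} [Group W] [Finite W] (hW : IsPGroup 2 W) {p : ℕ} [Fact p.Prime] (hp : p ≠ 2) (E : Subgroup (MulAut W)) (hE : IsPGroup p ↥E) (hab : IsMulCommutative ↥E) (hnc : ¬ IsCyclic ↥E) (hfix : ∀ e ∈ E, e ≠ 1 → ∀ x y : W, orderOf x = 2 → orderOf y = 2 → e x = x → e y = y → x = y) : Nat.card ↥E = 9 ∧ Cfsg.IsExtraspecial 2 W ∧ (Nat.card W = 2 ^ 5 ∨ Nat.card W = 2 ^ 7 ∨ Nat.card W = 2 ^ 9) ∧ {x : W | ∀ e ∈ E, e x = x} = (Subgroup.center W : Set W) := by
  obtain ⟨q, hq, a, b, haq, hbq, hb1, hk⟩ := Cfsg.Agent.S0058.exists_rank_two hnc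
  have hpprime : p.Prime := Fact.out
  have hqp : q = p := by
    have hFq : Fact q.Prime := ⟨hq⟩
    have hob : orderOf b = q := orderOf_eq_prime hbq hb1
    obtain ⟨k, hk'⟩ := hE b
    have h1 : q ∣ p ^ k := hob ▸ orderOf_dvd_of_pow_eq_one hk'
    exact (Nat.prime_dvd_prime_iff_eq hq hpprime).mp (hq.dvd_of_dvd_pow h1)
  subst hqp
  have hα : (a : MulAut W) ^ q = 1 := by
    have := congrArg Subtype.val haq
    simpa using this
  have hβ : (b : MulAut W) ^ q = 1 := by
    have := congrArg Subtype.val hbq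
    simpa using this
  have hc : (a : MulAut W) * (b : MulAut W) = (b : MulAut W) * (a : MulAut W) := by
    have := congrArg Subtype.val (hab.is_comm.comm a b)
    simpa using this
  have hlineE : ∀ γ, IsLine (a : MulAut W) (b : MulAut W) γ → γ ∈ E ∧ γ ≠ 1 := by
    intro γ hγ
    rcases hγ with rfl | ⟨i, rfl⟩
    · refine ⟨b.2, ?_⟩
      intro h
      exact hb1 (Subtype.ext h)
    · refine ⟨E.mul_mem a.2 (E.pow_mem b.2 i), ?_⟩
      intro h
      apply hk i
      apply Subtype.ext
      simpa using h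
  have hne : ∀ γ, IsLine (a : MulAut W) (b : MulAut W) γ → γ ≠ 1 := fun γ hγ => (hlineE γ hγ).2
  obtain ⟨hp3, z, C⟩ := exists_cfg hW hp (a : MulAut W) (b : MulAut W) hα hβ hc hne
    (fun γ hγ => hfix γ (hlineE γ hγ).1 (hlineE γ hγ).2)
  subst hp3
  have hEc : ∀ e ∈ E, e * (a : MulAut W) = (a : MulAut W) * e ∧
      e * (b : MulAut W) = (b : MulAut W) * e := by
    intro e he
    constructor
    · have := congrArg Subtype.val (hab.is_comm.comm ⟨e, he⟩ a)
      simpa using this
    · have := congrArg Subtype.val (hab.is_comm.comm ⟨e, he⟩ b)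
      simpa using this
  refine ⟨?_, C.extraspecial hW hne, C.card_cases hW hne, ?_⟩
  · have hle := C.card_le_nine hW hne E hE hEc hfix
    obtain ⟨k, hk3⟩ := IsPGroup.iff_card.mp hE
    rcases k with _ | _ | k
    · exfalso
      apply hnc
      rw [pow_zero] at hk3
      have := (Nat.card_eq_one_iff_unique.mp hk3).1
      exact isCyclic_of_subsingleton
    · exfalso
      apply hnc
      rw [pow_one] at hk3
      exact isCyclic_of_prime_card (p := 3) hk3
    · have h9 : 3 ^ 2 ≤ 3 ^ (k + 1 + 1) := Nat.pow_le_pow_right (by norm_num) (by omega)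
      rw [← hk3] at h9
      omega
  · ext x
    constructor
    · intro h
      show x ∈ Subgroup.center W
      rw [C.center_eq hW]
      exact C.h0 x (h _ a.2) (h _ b.2)
    · intro h
      have h' : x ∈ Subgroup.center W := h
      rw [C.center_eq hW] at h'
      show ∀ e ∈ E, e x = x
      intro e he
      rcases (mem_zpowers_two C.hz).mp h' with h1 | h1
      · rw [h1, map_one]
      · rw [h1]
        exact C.fix_z_of_comm e (hEc e he).1 (hEc e he).2

end Cfsg.Agent.S2934
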