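import Cfsg.Statements.S2939
import Cfsg.Agent.Lib.Helper49_SylowControl

set_option autoImplicit false
open Cfsg
open Cfsg.Agent.Lib.Helper49_SylowControl

namespace Cfsg.Agent.S2939

variable {G : Type*} [Group G]

theorem prod_take_ofFn_succ {n : ℕ} (y : Fin n → G) (i : ℕ) (hi : i < n) :
    ((List.ofFn y).take (i + 1)).prod = ((List.ofFn y).take i).prod * y ⟨i, hi⟩ := by
  rw [List.prod_take_succ _ _ (by simpa using hi)]
  simp

theorem prod_take_ofFn_all {n : ℕ} (y : Fin n → G) :
    ((List.ofFn y).take n).prod = (List.ofFn y).prod := by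
  rw [List.take_of_length_le (by simp)]

theorem conjRight_mul (g h : G) (A : Set G) :
    conjRight (g * h) A = conjRight h (conjRight g A) := by
  ext y
  rw [mem_conjRight_set, mem_conjRight_set, mem_conjRight_set]
  have : g * h * y * (g * h)⁻¹ = g * (h * y * h⁻¹) * g⁻¹ := by group
  rw [this]

theorem conjRight_subset_conjR {g : G} {A : Set G} {X : Subgroup G} (h : A ⊆ (X : Set G)) :
    conjRight g A ⊆ ((subgroupConjRight g X : Subgroup G) : Set G) := by
  intro y hy
  rw [mem_conjRight_set] at hy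
  rw [SetLike.mem_coe, mem_conjR]
  exact h hy

theorem conjRight_mono (g : G) {A B : Set G} (h : A ⊆ B) : conjRight g A ⊆ conjRight g B := by
  intro y hy
  rw [mem_conjRight_set] at hy ⊢
  exact h hy

theorem conjRight_coe (g : G) (X : Subgroup G) :
    conjRight g (X : Set G) = ((subgroupConjRight g X : Subgroup G) : Set G) := by
  ext y
  rw [mem_conjRight_set, SetLike.mem_coe, SetLike.mem_coe, mem_conjR]

theorem conjRight_inv_conjRight (g : G) (A : Set G) : conjRight g (conjRight g⁻¹ A) = A := by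
  rw [← conjRight_mul, inv_mul_cancel]
  ext y
  rw [mem_conjRight_set]
  simp

/-- Forward direction. -/
theorem forward {p : ℕ} [Fact p.Prime] [Finite G] (𝓕 : Set (Subgroup G)) (h𝓕 : Cfsg.IsNormalSet 𝓕)
    (hC : Cfsg.ControlsSylowIntersections p 𝓕) : Cfsg.FamilyStronglyControlsFusion p 𝓕 := by
  intro S A g hAS hne hAg
  -- T = S^{g⁻¹}
  set T : Sylow p G := sylowConjR g⁻¹ S with hT
  have hTcoe : (T : Subgroup G) = subgroupConjRight g⁻¹ (S : Subgroup G) := coe_sylowConjR _ _
  have hAT : A ⊆ ((T : Subgroup G) : Set G) := by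
    intro a ha
    rw [SetLike.mem_coe, hTcoe, mem_conjR]
    apply hAg
    rw [mem_conjRight_set]
    have : g * (g⁻¹ * a * g⁻¹⁻¹) * g⁻¹ = a := by group
    rw [this]; exact ha
  by_cases hST : S = T
  · -- trivial chain
    refine ⟨0, fun i => i.elim0, fun i => i.elim0, g, ?_, fun i => i.elim0, ?_, fun i => i.elim0⟩
    · have h1 : subgroupConjRight g⁻¹ (S : Subgroup G) = (S : Subgroup G) := by
        rw [← hTcoe, ← hST]
      rw [conjR_eq_self_iff] at h1
      have := inv_mem h1
      rwa [inv_inv] at this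
    · simp
  · have hbot : (S : Subgroup G) ⊓ (T : Subgroup G) ≠ ⊥ := by
      obtain ⟨a, haA, ha1⟩ := hne
      intro hb
      have : a ∈ (S : Subgroup G) ⊓ (T : Subgroup G) := ⟨hAS haA, hAT haA⟩
      rw [hb, Subgroup.mem_bot] at this
      exact ha1 this
    obtain ⟨n, c, X, x, hc0, hcn, hchain⟩ := hC S T hST hbot
    -- extend x to ℕ
    let x' : ℕ → G := fun i => if h : i < n then x ⟨i, h⟩ else 1
    let w : ℕ → G := fun i => Nat.rec (1 : G) (fun k wk => x' k * wk) i
    have hw0 : w 0 = 1 := rfl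
    have hwsucc : ∀ i, w (i + 1) = x' i * w i := fun i => rfl
    have hx' : ∀ (i : ℕ) (hi : i < n), x' i = x ⟨i, hi⟩ := by
      intro i hi
      simp only [x', dif_pos hi]
    -- c_i^{w_i} = S
    have hcw : ∀ (i : ℕ) (hi : i < n + 1),
        subgroupConjRight (w i) ((c ⟨i, hi⟩ : Sylow p G) : Subgroup G) = (S : Subgroup G) := by
      intro i
      induction i with
      | zero =>
        intro hi
        rw [hw0, conjR_one]
        have : (⟨0, hi⟩ : Fin (n + 1)) = 0 := rfl
        rw [this, hc0]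
      | succ k ih =>
        intro hi
        have hk : k < n := by omega
        have hk' : k < n + 1 := by omega
        rw [hwsucc, conjR_mul, hx' k hk]
        have h4 := (hchain ⟨k, hk⟩).2.2.2.1
        have e1 : (⟨k, hk⟩ : Fin n).succ = ⟨k + 1, hi⟩ := rfl
        have e2 : (⟨k, hk⟩ : Fin n).castSucc = ⟨k, hk'⟩ := rfl
        rw [e1, e2] at h4
        rw [h4]
        exact ih hk'
    let Y : Fin n → Subgroup G := fun i => subgroupConjRight (w i) (X i)
    let y : Fin n → G := fun i => (w i)⁻¹ * x i * w i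
    have hprod : ∀ i, i ≤ n → ((List.ofFn y).take i).prod = w i := by
      intro i
      induction i with
      | zero => intro _; simp [hw0]
      | succ k ih =>
        intro hk
        have hk' : k < n := by omega
        rw [prod_take_ofFn_succ y k hk', ih (by omega), hwsucc, hx' k hk']
        simp only [y]
        group
    have hprodn : (List.ofFn y).prod = w n := by
      rw [← prod_take_ofFn_all, hprod n le_rfl]
    refine ⟨n, Y, y, (w n)⁻¹ * g, ?_, ?_, ?_, ?_⟩
    · -- y₀ ∈ N(S)
      rw [← conjR_eq_self_iff, conjR_mul]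
      have h1 := hcw n (by omega)
      have e : (⟨n, by omega⟩ : Fin (n + 1)) = Fin.last n := rfl
      rw [e, hcn] at h1
      -- T^{w n} = S, so S^{(w n)⁻¹} = T
      have h2 : subgroupConjRight (w n)⁻¹ (S : Subgroup G) = (T : Subgroup G) := by
        rw [← h1, conjR_inv_conjR]
      rw [h2, hTcoe]
      have := conjR_conjR_inv g (S : Subgroup G)
      exact this
    · intro i
      refine ⟨?_, ?_⟩
      · have h1 := (hchain i).1
        have h2 := sylowMembers_conjR h𝓕 (w i) h1
        have e : (i.castSucc : Fin (n + 1)) = ⟨i, by omega⟩ := rfl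
        rw [e, hcw i (by omega)] at h2
        exact h2
      · show (w i)⁻¹ * x i * w i ∈ subgroupConjRight (w i) (X i)
        rw [mem_conjR]
        have : w i * ((w i)⁻¹ * x i * w i) * (w i)⁻¹ = x i := by group
        rw [this]
        exact (hchain i).2.2.1
    · rw [hprodn]; group
    · intro i
      rw [hprod (i.val + 1) (by omega)]
      have h5 := (hchain i).2.2.2.2
      have hA5 : A ⊆ (((c i.succ : Sylow p G) : Subgroup G) ⊓ X i : Subgroup G) := by
        intro a ha
        exact h5 ⟨hAS ha, hAT ha⟩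
      intro z hz
      refine ⟨?_, ?_⟩
      · have h1 : A ⊆ (((c i.succ : Sylow p G) : Subgroup G) : Set G) := fun a ha => (hA5 ha).1
        have h2 := conjRight_subset_conjR (g := w (i.val + 1)) h1 hz
        have e : (i.succ : Fin (n + 1)) = ⟨i.val + 1, by omega⟩ := rfl
        rw [e, hcw (i.val + 1) (by omega)] at h2
        exact h2
      · have h1 : A ⊆ ((X i : Subgroup G) : Set G) := fun a ha => (hA5 ha).2
        have h2 := conjRight_subset_conjR (g := w (i.val + 1)) h1 hz
        rw [hwsucc, conjR_mul, hx' i.val i.isLt] at h2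
        have e : (⟨i.val, i.isLt⟩ : Fin n) = i := rfl
        rw [e, conjR_eq_self_of_mem (hchain i).2.2.1] at h2
        exact h2

/-- Backward direction. -/
theorem backward {p : ℕ} [Fact p.Prime] [Finite G] (𝓕 : Set (Subgroup G)) (h𝓕 : Cfsg.IsNormalSet 𝓕)
    (hF : Cfsg.FamilyStronglyControlsFusion p 𝓕) : Cfsg.ControlsSylowIntersections p 𝓕 := by
  intro S T hST hbot
  obtain ⟨g, hgT⟩ := exists_sylowConjR_eq S T
  have hTcoe : (T : Subgroup G) = subgroupConjRight g (S : Subgroup G) := by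
    rw [← hgT]; exact coe_sylowConjR _ _
  set D : Subgroup G := (S : Subgroup G) ⊓ (T : Subgroup G) with hD
  set A : Set G := conjRight g⁻¹ (D : Set G) with hA
  have hgA : conjRight g A = (D : Set G) := by
    rw [hA]
    have := conjRight_inv_conjRight g (D : Set G)
    exact this
  have hAS : A ⊆ ((S : Subgroup G) : Set G) := by
    intro a ha
    rw [hA, mem_conjRight_set] at ha
    have h1 : g⁻¹ * a * g⁻¹⁻¹ ∈ (T : Subgroup G) := ha.2
    rw [hTcoe, mem_conjR] at h1
    have : g * (g⁻¹ * a * g⁻¹⁻¹) * g⁻¹ = a := by group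
    rw [this] at h1
    exact h1
  have hne : ∃ a ∈ A, a ≠ 1 := by
    obtain ⟨⟨b, hbD⟩, hb1⟩ := (Subgroup.ne_bot_iff_exists_ne_one.mp hbot)
    refine ⟨g * b * g⁻¹, ?_, ?_⟩
    · rw [hA, mem_conjRight_set]
      have : g⁻¹ * (g * b * g⁻¹) * g⁻¹⁻¹ = b := by group
      rw [this]; exact hbD
    · intro h
      apply hb1
      have : b = 1 := by
        have h2 : b = g⁻¹ * (g * b * g⁻¹) * g := by group
        rw [h2, h]; group
      exact Subtype.ext this
  have hAg : conjRight g A ⊆ ((S : Subgroup G) : Set G) := by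
    rw [hgA]; intro z hz; exact hz.1
  obtain ⟨n, Y, y, y₀, hy₀, hY, hg, hfus⟩ := hF S A g hAS hne hAg
  let P : ℕ → G := fun i => ((List.ofFn y).take i).prod
  let v : ℕ → G := fun i => (P i)⁻¹ * g
  let Yn : ℕ → Subgroup G := fun i => if h : i < n then Y ⟨i, h⟩ else ⊥
  let yn : ℕ → G := fun i => if h : i < n then y ⟨i, h⟩ else 1
  have hYn : ∀ (i : ℕ) (hi : i < n), Yn i = Y ⟨i, hi⟩ := by
    intro i hi; simp only [Yn, dif_pos hi]
  have hyn : ∀ (i : ℕ) (hi : i < n), yn i = y ⟨i, hi⟩ := by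
    intro i hi; simp only [yn, dif_pos hi]
  have hP0 : P 0 = 1 := by simp [P]
  have hPsucc : ∀ (i : ℕ) (hi : i < n), P (i + 1) = P i * yn i := by
    intro i hi
    rw [hyn i hi]
    exact prod_take_ofFn_succ y i hi
  have hPn : P n = (List.ofFn y).prod := prod_take_ofFn_all y
  have hv0 : v 0 = g := by simp [v, hP0]
  have hvn : v n = y₀ := by
    simp only [v]
    rw [hPn, hg]; group
  have hvsucc : ∀ (i : ℕ) (hi : i < n), v i = yn i * v (i + 1) := by
    intro i hi
    simp only [v]
    rw [hPsucc i hi]; group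
  have hgPv : ∀ i, g = P i * v i := by
    intro i; simp only [v]; group
  have hynmem : ∀ (i : ℕ) (hi : i < n), yn i ∈ Yn i := by
    intro i hi
    rw [hyn i hi, hYn i hi]
    exact (hY ⟨i, hi⟩).2
  have hYnmem : ∀ (i : ℕ) (hi : i < n), Yn i ∈ sylowMembers p 𝓕 (S : Subgroup G) := by
    intro i hi
    rw [hYn i hi]
    exact (hY ⟨i, hi⟩).1
  -- K1 and K2
  have hK : ∀ (k : ℕ) (hk : k < n),
      D ≤ subgroupConjRight (v (k + 1)) (S : Subgroup G) ⊓ subgroupConjRight (v (k + 1)) (Yn k) := by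
    intro k hk z hz
    have hz' : z ∈ conjRight g A := by rw [hgA]; exact hz
    rw [hgPv (k + 1), conjRight_mul] at hz'
    have h1 := hfus ⟨k, hk⟩
    have h1S : conjRight (P (k + 1)) A ⊆ ((S : Subgroup G) : Set G) := fun a ha => (h1 ha).1
    have h1Y : conjRight (P (k + 1)) A ⊆ ((Yn k : Subgroup G) : Set G) := by
      intro a ha
      rw [hYn k hk]
      exact (h1 ha).2
    exact ⟨conjRight_subset_conjR h1S hz', conjRight_subset_conjR h1Y hz'⟩
  have hK1 : ∀ (i : ℕ), i ≤ n → D ≤ subgroupConjRight (v i) (S : Subgroup G) := by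
    intro i hi
    rcases i with _ | k
    · rw [hv0, ← hTcoe]; exact inf_le_right
    · exact le_trans (hK k (by omega)) inf_le_left
  have hXeq : ∀ (k : ℕ) (hk : k < n),
      subgroupConjRight (v k) (Yn k) = subgroupConjRight (v (k + 1)) (Yn k) := by
    intro k hk
    rw [hvsucc k hk, conjR_mul, conjR_eq_self_of_mem (hynmem k hk)]
  refine ⟨n, fun j => sylowConjR (v (n - j.val)) S,
    fun j => subgroupConjRight (v (n - j.val)) (Yn (n - 1 - j.val)),
    fun j => (v (n - j.val))⁻¹ * (yn (n - 1 - j.val))⁻¹ * v (n - j.val), ?_, ?_, ?_⟩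
  · show sylowConjR (v (n - 0)) S = S
    rw [Nat.sub_zero, hvn]
    apply Sylow.ext
    rw [coe_sylowConjR, conjR_eq_self_iff]
    exact hy₀
  · show sylowConjR (v (n - n)) S = T
    rw [Nat.sub_self, hv0]; exact hgT
  · intro j
    obtain ⟨i, hi1, hi2, hi3, hin⟩ : ∃ i, n - j.val = i + 1 ∧ n - 1 - j.val = i ∧
        n - (j.val + 1) = i ∧ i < n := ⟨n - 1 - j.val, by omega, rfl, by omega, by omega⟩
    have e1 : ((j.castSucc : Fin (n + 1)) : ℕ) = j.val := rfl
    have e2 : ((j.succ : Fin (n + 1)) : ℕ) = j.val + 1 := rfl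
    simp only [e1, e2, coe_sylowConjR, hi1, hi2, hi3]
    refine ⟨?_, ?_, ?_, ?_, le_inf ?_ ?_⟩
    · exact sylowMembers_conjR h𝓕 (v (i + 1)) (hYnmem i hin)
    · rw [← hXeq i hin]
      exact sylowMembers_conjR h𝓕 (v i) (hYnmem i hin)
    · rw [mem_conjR]
      have : v (i + 1) * ((v (i + 1))⁻¹ * (yn i)⁻¹ * v (i + 1)) * (v (i + 1))⁻¹ = (yn i)⁻¹ := by
        group
      rw [this]
      exact inv_mem (hynmem i hin)
    · rw [← conjR_mul]
      have : v i * ((v (i + 1))⁻¹ * (yn i)⁻¹ * v (i + 1)) = v (i + 1) := by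
        rw [hvsucc i hin]; group
      rw [this]
    · exact hK1 i (by omega)
    · exact le_trans (hK i hin) inf_le_right

theorem result {G : Type*} [Group G] [Finite G] {p : ℕ} [Fact p.Prime] (hdiv : p ∣ Nat.card G) (𝓕 : Set (Subgroup G)) (h𝓕 : Cfsg.IsNormalSet 𝓕) : Cfsg.ControlsSylowIntersections p 𝓕 ↔ Cfsg.FamilyStronglyControlsFusion p 𝓕 := by
  have _h := hdiv
  exact ⟨forward 𝓕 h𝓕, backward 𝓕 h𝓕⟩

end Cfsg.Agent.S2939
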