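import Cfsg.Statements.S2942
import Mathlib
import Cfsg.Agent.Lib.Helper10_JCompSub
import Cfsg.Agent.S2941

set_option autoImplicit false
open Cfsg

namespace Cfsg.Agent.S2942

/-- Let G be a finite group of characteristic 2 type in which every 2-local subgroup is solvable and the centralizer of Ω₁(Z(S)) lies in N_G(S) for every Sylow 2-subgroup S, and let T be a nontrivial 2-subgroup (below, J is the Thompson subgroup generated by the elementary abelian 2-subgroups of largest order). If L is a subgroup in which T is a Sylow 2-subgroup, with J(T) not contained in O₂(L) and C_G(O₂(L)) ≤ O₂(L), then every J(T)-component contained in L is subnormal in L. -/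
theorem result {G : Type*} [Group G] [Finite G] (hL : Cfsg.IsCharacteristicTwoType G) (hN : ∀ N : Subgroup G, Cfsg.IsTwoLocal N → Group.IsSolvable ↥N)
    (hZ : ∀ S : Sylow 2 G, Subgroup.centralizer (Cfsg.omegaCenterOf (S : Subgroup G) : Set G) ≤ Subgroup.normalizer ((S : Subgroup G) : Set G)) (T : Subgroup G) (hT : IsPGroup 2 ↥T) (hT1 : T ≠ ⊥) (L : Subgroup G) (hLT : L ∈ Cfsg.jOvergroups T)
    (K : Subgroup G) (hK : Cfsg.IsJComponent T K) (hKL : K ≤ L) : (K.subgroupOf L).IsSubnormal := by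
  have hLQ := Cfsg.Agent.Lib.Helper47_SubAPI.le_normalizer_pCoreOf (p := 2) L
  have hTL : T ≤ L := hLT.1.1
  have hQT : Cfsg.pCoreOf 2 L ≤ T :=
    Cfsg.Agent.Lib.Helper10_JCompB.le_of_odd_relIndex hT
      (Cfsg.Agent.Lib.Helper47_SubAPI.isPGroup_pCoreOf L) hTL
      (Cfsg.Agent.Lib.Helper47_SubAPI.pCoreOf_le L) hLT.1.2.2 (hTL.trans hLQ)
  have hTJ : T ≤ Subgroup.normalizer (Cfsg.thompsonSubgroupOf 2 T : Set G) := by
    rw [Cfsg.Agent.S5306.thompson_eq_JJ]
    exact Subgroup.le_normalizer.trans (Cfsg.Agent.Lib.Helper10_JCompB.normalizer_le_normalizer_JJ T)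
  have hQK : Cfsg.pCoreOf 2 L ≤ Subgroup.normalizer (K : Set G) := by
    apply Cfsg.Agent.S2941.result hL hN hZ T hT hT1 K hK (Cfsg.pCoreOf 2 L)
    · exact sup_le (hKL.trans hLQ)
        ((Cfsg.Agent.Lib.Helper10_JCompF.thompsonSubgroupOf_le 2 T).trans (hTL.trans hLQ))
    · exact hQT.trans hTJ
  exact (Cfsg.Agent.Lib.Helper10_JCompSub.jComponent_subnIn hN hZ hT hT1 hLT hK hKL
    hQK).isSubnormal_subgroupOf

end Cfsg.Agent.S2942
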