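import Cfsg.Statements.S2943
import Mathlib
import Cfsg.Agent.Lib.Helper10_JCompUniq
import Cfsg.Agent.S2941

set_option autoImplicit false
open Cfsg

namespace Cfsg.Agent.S2943

/-- Let G be a finite group of characteristic 2 type in which every 2-local subgroup is solvable and the centralizer of Ω₁(Z(S)) lies in N_G(S) for every Sylow 2-subgroup S, and let T be a nontrivial 2-subgroup (below, J is the Thompson subgroup generated by the elementary abelian 2-subgroups of largest order), L a subgroup in which T is a Sylow 2-subgroup with J(T) not contained in O₂(L) and C_G(O₂(L)) ≤ O₂(L), and K a J(T)-component contained in L. If Z(T) meets W_K = [Ω₁(Z(O₂(K))), K] nontrivially, then T normalizes K. -/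
theorem result {G : Type*} [Group G] [Finite G] (hL : Cfsg.IsCharacteristicTwoType G) (hN : ∀ N : Subgroup G, Cfsg.IsTwoLocal N → Group.IsSolvable ↥N)
    (hZ : ∀ S : Sylow 2 G, Subgroup.centralizer (Cfsg.omegaCenterOf (S : Subgroup G) : Set G) ≤ Subgroup.normalizer ((S : Subgroup G) : Set G)) (T : Subgroup G) (hT : IsPGroup 2 ↥T) (hT1 : T ≠ ⊥) (L : Subgroup G) (hLT : L ∈ Cfsg.jOvergroups T)
    (K : Subgroup G) (hK : Cfsg.IsJComponent T K) (hKL : K ≤ L)
    (hZW : T ⊓ Subgroup.centralizer (T : Set G) ⊓ Cfsg.wOf K ≠ ⊥) : T ≤ Subgroup.normalizer (K : Set G) := by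
  have hLQ := Cfsg.Agent.Lib.Helper47_SubAPI.le_normalizer_pCoreOf (p := 2) L
  have hTL : T ≤ L := hLT.1.1
  obtain ⟨V, C, F₁, M', ctx⟩ := Cfsg.Agent.Lib.Helper10_JCompSub.exists_ctx hN hZ hT hT1 hLT
  have hQK : Cfsg.pCoreOf 2 L ≤ Subgroup.normalizer (K : Set G) := by
    apply Cfsg.Agent.S2941.result hL hN hZ T hT hT1 K hK (Cfsg.pCoreOf 2 L)
    · exact sup_le (hKL.trans hLQ)
        ((Cfsg.Agent.Lib.Helper10_JCompF.thompsonSubgroupOf_le 2 T).trans (hTL.trans hLQ))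
    · exact ctx.hQT.trans ctx.hTJ
  have hcomp := Cfsg.Agent.Lib.Helper10_JCompUniq.LComp.of_isJComponent ctx hK hKL hQK
  obtain ⟨⟨z, hz⟩, hz1⟩ := (Subgroup.ne_bot_iff_exists_ne_one).mp hZW
  have hz1' : z ≠ 1 := fun h => hz1 (Subtype.ext h)
  obtain ⟨hzTC, hzW⟩ := Subgroup.mem_inf.mp hz
  obtain ⟨hzT, hzC⟩ := Subgroup.mem_inf.mp hzTC
  intro t ht
  have htL : t ∈ L := hTL ht
  have hcomp' := hcomp.map (MulAut.conj t)
    (Cfsg.Agent.Lib.Helper10_JCompUniq.map_conj_eq (Subgroup.le_normalizer htL))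
    (Cfsg.Agent.Lib.Helper10_JCompUniq.map_conj_eq (ctx.hTJ ht))
    (Cfsg.Agent.Lib.Helper10_JCompUniq.map_conj_eq (ctx.hLQ htL))
    (Cfsg.Agent.Lib.Helper10_JCompUniq.map_conj_eq (ctx.hLV htL))
  have hzt : (MulAut.conj t).toMonoidHom z = z := by
    simp only [MulEquiv.coe_toMonoidHom, MulAut.conj_apply]
    rw [Subgroup.mem_centralizer_iff] at hzC
    rw [hzC t ht]
    group
  have hne : Cfsg.wOf K ⊓ (Cfsg.wOf K).map (MulAut.conj t).toMonoidHom ≠ ⊥ := by
    intro hbot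
    apply hz1'
    have : z ∈ Cfsg.wOf K ⊓ (Cfsg.wOf K).map (MulAut.conj t).toMonoidHom :=
      Subgroup.mem_inf.mpr ⟨hzW, ⟨z, hzW, hzt⟩⟩
    rw [hbot] at this
    exact Subgroup.mem_bot.mp this
  have heq := hcomp.eq_of_inf_ne_bot ctx hcomp' hne
  rw [Cfsg.Agent.Lib.Helper24_CoprimeAction.mem_normalizer_iff_map_conj]
  exact heq.symm

end Cfsg.Agent.S2943
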