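import Cfsg.Statements.S2947
import Cfsg.Agent.Lib.Helper49_Thompson
import Cfsg.Agent.Lib.Helper49_CharP
import Mathlib.GroupTheory.Perm.Cycle.Type

set_option autoImplicit false
open Cfsg

namespace Cfsg.Agent.S2947

open Cfsg.Agent.Lib.Helper49_Thompson Cfsg.Agent.Lib.Helper49_CharP

/-- A nontrivial 2-subgroup of a finite group has even order. -/
theorem two_dvd_card_of_ne_bot {G : Type*} [Group G] [Finite G] (U : Subgroup G)
    (hU : IsPGroup 2 ↥U) (hne : U ≠ ⊥) : 2 ∣ Nat.card ↥U := by
  rcases hU.card_eq_or_dvd with h | h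
  · exact absurd (Subgroup.card_eq_one.mp h) hne
  · exact h

/-- Let G be a finite group of characteristic 2 type in which every 2-local subgroup is solvable and the centralizer of Ω₁(Z(S)) lies in N_G(S) for every Sylow 2-subgroup S; suppose O₂(G) = 1, fix a Sylow 2-subgroup S and a 2-local subgroup M containing N_G(J(S)) (J the Thompson subgroup generated by the elementary abelian 2-subgroups of largest order). Then M is strongly embedded in G (a proper subgroup of even order whose intersection with each conjugate by an element outside M has odd order) if and only if no nontrivial 2-subgroup of M lies in a 2-local subgroup of G not contained in M. -/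
theorem result {G : Type*} [Group G] [Finite G] (hL : Cfsg.IsCharacteristicTwoType G) (hN : ∀ N : Subgroup G, Cfsg.IsTwoLocal N → Group.IsSolvable ↥N)
    (hZ : ∀ S : Sylow 2 G, Subgroup.centralizer (Cfsg.omegaCenterOf (S : Subgroup G) : Set G) ≤ Subgroup.normalizer ((S : Subgroup G) : Set G)) (hO : Cfsg.pCore 2 G = ⊥) (S : Sylow 2 G) (M : Subgroup G) (hM : Cfsg.IsTwoLocal M)
    (hMJ : Subgroup.normalizer (Cfsg.thompsonSubgroupOf 2 (S : Subgroup G) : Set G) ≤ M) :
    Cfsg.IsStronglyEmbedded M ↔ Cfsg.straddlingTwoSubgroups M = ∅ := by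
  classical
  have : Fact (Nat.Prime 2) := ⟨Nat.prime_two⟩
  obtain ⟨R₀, hR₀p, hR₀ne, hMR₀⟩ := hM
  constructor
  · rintro ⟨-, -, hMconj⟩
    -- normalizers of nontrivial 2-subgroups of M lie in M
    have claimA : ∀ U : Subgroup G, IsPGroup 2 ↥U → U ≠ ⊥ → U ≤ M →
        Subgroup.normalizer (U : Set G) ≤ M := by
      intro U hUp hUne hUM g hg
      by_contra hgM
      have hodd := hMconj g hgM
      have hUle : U ≤ M ⊓ M.map (MulAut.conj g).toMonoidHom := by
        intro u hu
        refine Subgroup.mem_inf.mpr ⟨hUM hu, ?_⟩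
        rw [conj_map_mem_iff]
        exact hUM ((Subgroup.mem_normalizer_iff''.mp hg u).mp hu)
      have h2 : 2 ∣ Nat.card ↥(M ⊓ M.map (MulAut.conj g).toMonoidHom) :=
        dvd_trans (two_dvd_card_of_ne_bot U hUp hUne) (Subgroup.card_dvd_of_le hUle)
      exact (Nat.not_even_iff_odd.mpr hodd) (even_iff_two_dvd.mpr h2)
    rw [Set.eq_empty_iff_forall_notMem]
    rintro T ⟨hTp, hTne, hTM, L, ⟨R, hRp, hRne, rfl⟩, hTL, hLM⟩
    apply hLM
    set X : Subgroup G := T ⊔ R with hX
    have hXp : IsPGroup 2 ↥X := IsPGroup.to_sup_of_normal_right' hTp hRp hTL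
    set U : Subgroup G := X ⊓ M with hU
    have hTU : T ≤ U := le_inf le_sup_left hTM
    have hUp : IsPGroup 2 ↥U := hXp.to_le inf_le_left
    have hUne : U ≠ ⊥ := fun h => hTne (le_bot_iff.mp (h ▸ hTU))
    have hNU : Subgroup.normalizer (U : Set G) ≤ M := claimA U hUp hUne inf_le_right
    have hXM : X ≤ M := by
      have htop : U.subgroupOf X = ⊤ := by
        by_contra hne
        have : Group.IsNilpotent ↥X := hXp.isNilpotent
        have hnc : NormalizerCondition ↥X := Group.normalizerCondition_of_isNilpotent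
        have hlt := hnc (U.subgroupOf X) (lt_top_iff_ne_top.mpr hne)
        rw [← Subgroup.subgroupOf_normalizer_eq (inf_le_left : U ≤ X)] at hlt
        have hle : (Subgroup.normalizer (U : Set G)).subgroupOf X ≤ U.subgroupOf X := by
          intro n hn
          rw [Subgroup.mem_subgroupOf] at hn ⊢
          exact Subgroup.mem_inf.mpr ⟨n.2, hNU hn⟩
        exact lt_irrefl _ (lt_of_lt_of_le hlt hle)
      intro x hx
      have : (⟨x, hx⟩ : X) ∈ U.subgroupOf X := by rw [htop]; trivial
      rw [Subgroup.mem_subgroupOf] at this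
      exact this.2
    have hRM : R ≤ M := le_trans le_sup_right hXM
    exact claimA R hRp hRne hRM
  · intro hempty
    have hR₀M : R₀ ≤ M := by rw [hMR₀]; exact Subgroup.le_normalizer
    have hSM : (S : Subgroup G) ≤ M :=
      le_trans (le_trans Subgroup.le_normalizer (normalizer_le_normalizer_thompson 2 _)) hMJ
    refine ⟨?_, ?_, ?_⟩
    · intro htop
      have hn : R₀.Normal := by
        rw [← Subgroup.normalizer_eq_top_iff, ← hMR₀, htop]
      have : R₀ ≤ Cfsg.pCore 2 G := le_pCore hn hR₀p
      rw [hO] at this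
      exact hR₀ne (le_bot_iff.mp this)
    · exact even_iff_two_dvd.mpr
        (dvd_trans (two_dvd_card_of_ne_bot R₀ hR₀p hR₀ne) (Subgroup.card_dvd_of_le hR₀M))
    · intro g hg
      by_contra hodd
      have heven : 2 ∣ Nat.card ↥(M ⊓ M.map (MulAut.conj g).toMonoidHom) :=
        even_iff_two_dvd.mp (Nat.not_odd_iff_even.mp hodd)
      obtain ⟨t, ht⟩ := exists_prime_orderOf_dvd_card' (G := ↥(M ⊓ M.map (MulAut.conj g).toMonoidHom))
        2 heven
      have ht' : orderOf (t : G) = 2 := by rw [Subgroup.orderOf_coe]; exact ht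
      set T : Subgroup G := Subgroup.zpowers (t : G) with hT
      have hTp : IsPGroup 2 ↥T := by
        apply IsPGroup.of_card (n := 1)
        rw [Nat.card_zpowers, ht', pow_one]
      have hTne : T ≠ ⊥ := by
        intro h
        have : (t : G) = 1 := by
          have := Subgroup.mem_zpowers (t : G)
          rw [← hT, h, Subgroup.mem_bot] at this
          exact this
        rw [this, orderOf_one] at ht'
        norm_num at ht'
      have hTM : T ≤ M := by
        rw [hT, Subgroup.zpowers_le]; exact (Subgroup.mem_inf.mp t.2).1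
      have hTMg : T ≤ M.map (MulAut.conj g).toMonoidHom := by
        rw [hT, Subgroup.zpowers_le]; exact (Subgroup.mem_inf.mp t.2).2
      have hMg2 : Cfsg.IsTwoLocal (M.map (MulAut.conj g).toMonoidHom) := by
        refine ⟨R₀.map (MulAut.conj g).toMonoidHom, hR₀p.map _, ?_, ?_⟩
        · intro h
          apply hR₀ne
          exact (Subgroup.map_eq_bot_iff_of_injective _ (MulAut.conj g).injective).mp h
        · rw [hMR₀]
          exact Subgroup.map_equiv_normalizer_eq R₀ (MulAut.conj g)
      have hMgM : M.map (MulAut.conj g).toMonoidHom ≤ M := by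
        by_contra hnle
        have : T ∈ Cfsg.straddlingTwoSubgroups M :=
          ⟨hTp, hTne, hTM, _, hMg2, hTMg, hnle⟩
        rw [hempty] at this
        exact this
      have hMgeq : M.map (MulAut.conj g).toMonoidHom = M := by
        apply Subgroup.eq_of_le_of_card_ge hMgM
        rw [Subgroup.card_map_of_injective (MulAut.conj g).injective]
      -- Sylow argument inside M
      have hgSM : ((g • S : Sylow 2 G) : Subgroup G) ≤ M := by
        rw [sylow_smul_eq_map, ← hMgeq]
        exact Subgroup.map_mono hSM
      obtain ⟨m, hm⟩ := MulAction.exists_smul_eq ↥M (S.subtype hSM) ((g • S).subtype hgSM)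
      have h1 := Sylow.smul_subtype hSM m
      rw [hm] at h1
      have h2 : (g • S : Sylow 2 G) = m • S := Sylow.subtype_injective h1
      have h3 : (g⁻¹ * (m : G)) • S = S := by
        rw [mul_smul]
        have : (m : G) • S = m • S := rfl
        rw [this, ← h2, inv_smul_smul]
      have h4 : g⁻¹ * (m : G) ∈ Subgroup.normalizer ((S : Subgroup G) : Set G) :=
        Sylow.smul_eq_iff_mem_normalizer.mp h3
      have h5 : g⁻¹ * (m : G) ∈ M := hMJ (normalizer_le_normalizer_thompson 2 _ h4)
      apply hg
      have e : g = (m : G) * (g⁻¹ * (m : G))⁻¹ := by group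
      rw [e]
      exact mul_mem m.2 (inv_mem h5)

end Cfsg.Agent.S2947
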