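import Cfsg.Statements.S2950
import Mathlib
import Cfsg.Agent.Lib.Helper10_JCompUq
import Cfsg.Agent.S2942

set_option autoImplicit false
open Cfsg

namespace Cfsg.Agent.S2950

/-- Uniqueness of the maximal 2-local overgroup. Let G be a finite group of characteristic 2 type in which every 2-local subgroup is solvable and the centralizer of Ω₁(Z(S)) lies in N_G(S) for every Sylow 2-subgroup S; suppose O₂(G) = 1, fix a Sylow 2-subgroup S and a 2-local subgroup M containing N_G(J(S)) (J the Thompson subgroup generated by the elementary abelian 2-subgroups of largest order). Let T be maximal (for the order of a largest elementary abelian subgroup, then the order of J(T), then the order of T) among the nontrivial 2-subgroups of M lying in a 2-local subgroup not inside M, and let K be a J(T)-component not contained in M with J(T) the Thompson subgroup of every Sylow 2-subgroup of N_G(W_K) containing J(T), and O₂(⟨K,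 T⟩) ≠ 1. Then there is exactly one maximal 2-local subgroup L of G containing ⟨K, J(T)⟩; moreover K is subnormal in L and T is a Sylow 2-subgroup of L. -/
theorem result {G : Type*} [Group G] [Finite G] (hL : Cfsg.IsCharacteristicTwoType G) (hN : ∀ N : Subgroup G, Cfsg.IsTwoLocal N → Group.IsSolvable ↥N)
    (hZ : ∀ S : Sylow 2 G, Subgroup.centralizer (Cfsg.omegaCenterOf (S : Subgroup G) : Set G) ≤ Subgroup.normalizer ((S : Subgroup G) : Set G)) (hO : Cfsg.pCore 2 G = ⊥) (S : Sylow 2 G) (M : Subgroup G) (hM : Cfsg.IsTwoLocal M)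
    (hMJ : Subgroup.normalizer (Cfsg.thompsonSubgroupOf 2 (S : Subgroup G) : Set G) ≤ M) (T : Subgroup G) (hT : T ∈ Cfsg.maxStraddlingTwoSubgroups M)
    (K : Subgroup G) (hK : K ∈ Cfsg.jComponentsOutside M T) :
    ∃ L : Subgroup G, Cfsg.IsMaximalTwoLocal L ∧ K ⊔ Cfsg.thompsonSubgroupOf 2 T ≤ L ∧
      (∀ L' : Subgroup G, Cfsg.IsMaximalTwoLocal L' → K ⊔ Cfsg.thompsonSubgroupOf 2 T ≤ L' → L' = L) ∧
      (K.subgroupOf L).IsSubnormal ∧ Cfsg.IsSylowTwoIn T L := by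
  have : Fact (Nat.Prime 2) := ⟨Nat.prime_two⟩
  obtain ⟨hT2, hT1, hTM, -⟩ := hT.1
  have hK' := hK
  obtain ⟨hK0, hKM, hO2⟩ := hK
  -- a maximal 2-local over `⟨K, T⟩`
  have hR2 : Cfsg.IsTwoLocal (Subgroup.normalizer (Cfsg.pCoreOf 2 (K ⊔ T) : Set G)) :=
    ⟨Cfsg.pCoreOf 2 (K ⊔ T), Cfsg.Agent.Lib.Helper47_SubAPI.isPGroup_pCoreOf _, hO2, rfl⟩
  obtain ⟨L, hLmax, hRL⟩ : ∃ L : Subgroup G, Cfsg.IsMaximalTwoLocal L ∧
      Subgroup.normalizer (Cfsg.pCoreOf 2 (K ⊔ T) : Set G) ≤ L := by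
    have hwf : WellFounded (fun a b : Subgroup G => a > b) := wellFounded_gt
    obtain ⟨L, hLm, hmax⟩ := hwf.has_min {L : Subgroup G | Cfsg.IsTwoLocal L ∧
      Subgroup.normalizer (Cfsg.pCoreOf 2 (K ⊔ T) : Set G) ≤ L} ⟨_, hR2, le_rfl⟩
    refine ⟨L, ⟨hLm.1, ?_⟩, hLm.2⟩
    intro N' hN' hLN'
    exact (eq_of_le_of_not_lt hLN' (hmax N' ⟨hN', hLm.2.trans hLN'⟩)).symm
  have hKTL : K ⊔ T ≤ L :=
    (Cfsg.Agent.Lib.Helper47_SubAPI.le_normalizer_pCoreOf (p := 2) (K ⊔ T)).trans hRL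
  have hKL : K ≤ L := le_sup_left.trans hKTL
  have hTL : T ≤ L := le_sup_right.trans hKTL
  have hJT : Cfsg.thompsonSubgroupOf 2 T ≤ T :=
    Cfsg.Agent.Lib.Helper10_JCompF.thompsonSubgroupOf_le 2 T
  have hKJL : K ⊔ Cfsg.thompsonSubgroupOf 2 T ≤ L := sup_le hKL (hJT.trans hTL)
  have hLM : ¬ L ≤ M := fun h => hKM (hKL.trans h)
  obtain ⟨T₀, hJT₀, hSyl₀, -⟩ := Cfsg.Agent.Lib.Helper10_JCompZero.exists_sylow_in
    (hJT.trans hTL) (Cfsg.Agent.Lib.Helper10_JCompMax.isPGroup_thompson hT2)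
  obtain ⟨-, -, -, hmain⟩ :=
    Cfsg.Agent.Lib.Helper10_JCompMax.main hL S hMJ hT hN hZ hLmax.1 hLM hSyl₀ hJT₀
  obtain ⟨hLT, -⟩ := hmain hTL
  refine ⟨L, hLmax, hKJL, ?_, ?_, hLT.1⟩
  · intro L' hL'max hKL'
    rw [Cfsg.Agent.Lib.Helper10_JCompUq.eq_normalizer_wSigma hL hN hZ S hMJ hT hK' hL'max hKL',
      ← Cfsg.Agent.Lib.Helper10_JCompUq.eq_normalizer_wSigma hL hN hZ S hMJ hT hK' hLmax hKJL]
  · exact Cfsg.Agent.S2942.result hL hN hZ T hT2 hT1 L hLT K hK0.1 hKL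

end Cfsg.Agent.S2950
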