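import Cfsg.Statements.S2955
import Cfsg.Agent.Lib.Helper49_SylowControl

set_option autoImplicit false
open Cfsg

namespace Cfsg.Agent.S2955

open Cfsg.Agent.Lib.Helper49_SylowControl

/-- Let p be a prime dividing the order of the finite group G and 𝓕 a conjugation-closed family of subgroups that controls Sylow p-intersections in G. Suppose the Sylow p-subgroups of G are chain-connected: any two of them are joined by a chain of Sylow p-subgroups, consecutive ones distinct with nontrivial intersection, all containing the intersection of the two ends (equivalently, the graph on the Sylow p-subgroups whose edges are the distinct pairs meeting nontrivially is connected). Then for every Sylow p-subgroup S, G is generated by N_G(S) together with the members of 𝓕 that meet S in a Sylow p-subgroup of themselves. -/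
theorem result {G : Type*} [Group G] [Finite G] (p : ℕ) [Fact p.Prime] (hdiv : p ∣ Nat.card G)
    (𝓕 : Set (Subgroup G)) (h𝓕 : Cfsg.IsNormalSet 𝓕) (hc : Cfsg.ControlsSylowIntersections p 𝓕)
    (hconn : Cfsg.IsSylowChainConnected p G) (S : Sylow p G) :
    (⨆ X ∈ Cfsg.sylowMembers p 𝓕 (S : Subgroup G), X) ⊔ Subgroup.normalizer ((S : Subgroup G) : Set G) = ⊤ := by
  classical
  set H : Subgroup G := (⨆ X ∈ Cfsg.sylowMembers p 𝓕 (S : Subgroup G), X) ⊔
    Subgroup.normalizer ((S : Subgroup G) : Set G) with hH
  have hmemH : ∀ X ∈ Cfsg.sylowMembers p 𝓕 (S : Subgroup G), X ≤ H := fun X hX =>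
    le_trans (le_biSup (fun X => X) hX) le_sup_left
  have hNH : Subgroup.normalizer ((S : Subgroup G) : Set G) ≤ H := le_sup_right
  -- one step
  have step : ∀ (c c' : Sylow p G) (X : Subgroup G) (x : G),
      (∃ h ∈ H, (c : Subgroup G) = subgroupConjRight h (S : Subgroup G)) →
      X ∈ Cfsg.sylowMembers p 𝓕 (c : Subgroup G) → x ∈ X →
      subgroupConjRight x (c' : Subgroup G) = (c : Subgroup G) →
      ∃ h ∈ H, (c' : Subgroup G) = subgroupConjRight h (S : Subgroup G) := by
    rintro c c' X x ⟨h, hh, hch⟩ hX hx hxc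
    have hX' : subgroupConjRight h⁻¹ X ∈ Cfsg.sylowMembers p 𝓕 (S : Subgroup G) := by
      have := sylowMembers_conjR h𝓕 h⁻¹ hX
      rwa [hch, conjR_inv_conjR] at this
    have hxH' : h * x * h⁻¹ ∈ H := by
      apply hmemH _ hX'
      rw [mem_conjR]
      have : h⁻¹ * (h * x * h⁻¹) * h⁻¹⁻¹ = x := by group
      rw [this]; exact hx
    have hxH : x ∈ H := by
      have : x = h⁻¹ * (h * x * h⁻¹) * h := by group
      rw [this]
      exact mul_mem (mul_mem (inv_mem hh) hxH') hh
    refine ⟨h * x⁻¹, mul_mem hh (inv_mem hxH), ?_⟩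
    rw [conjR_mul, ← hch, ← hxc, conjR_inv_conjR]
  -- a pair of distinct Sylow subgroups meeting nontrivially
  have pair : ∀ S' T' : Sylow p G, S' ≠ T' → (S' : Subgroup G) ⊓ (T' : Subgroup G) ≠ ⊥ →
      (∃ h ∈ H, (S' : Subgroup G) = subgroupConjRight h (S : Subgroup G)) →
      ∃ h ∈ H, (T' : Subgroup G) = subgroupConjRight h (S : Subgroup G) := by
    intro S' T' hne hmeet hS'
    obtain ⟨n, c, X, x, hc0, hcn, hstep⟩ := hc S' T' hne hmeet
    have hall : ∀ i : Fin (n + 1), ∃ h ∈ H, (c i : Subgroup G) = subgroupConjRight h (S : Subgroup G) := by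
      intro i
      induction i using Fin.induction with
      | zero => rw [hc0]; exact hS'
      | succ i ih =>
        obtain ⟨h1, -, h3, h4, -⟩ := hstep i
        exact step (c i.castSucc) (c i.succ) (X i) (x i) ih h1 h3 h4
    have := hall (Fin.last n)
    rwa [hcn] at this
  -- every Sylow subgroup
  have hall : ∀ T : Sylow p G, ∃ h ∈ H, (T : Subgroup G) = subgroupConjRight h (S : Subgroup G) := by
    intro T
    obtain ⟨n, c, hc0, hcn, -, hstep⟩ := hconn S T
    have hall' : ∀ i : Fin (n + 1), ∃ h ∈ H, (c i : Subgroup G) = subgroupConjRight h (S : Subgroup G) := by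
      intro i
      induction i using Fin.induction with
      | zero => rw [hc0]; exact ⟨1, one_mem _, (conjR_one _).symm⟩
      | succ i ih =>
        obtain ⟨h1, h2⟩ := hstep i
        exact pair (c i.castSucc) (c i.succ) h1 h2 ih
    have := hall' (Fin.last n)
    rwa [hcn] at this
  rw [eq_top_iff]
  intro g _
  obtain ⟨h, hh, hgh⟩ := hall (sylowConjR g S)
  rw [coe_sylowConjR] at hgh
  have h1 : subgroupConjRight (g * h⁻¹) (S : Subgroup G) = (S : Subgroup G) := by
    rw [conjR_mul, hgh, conjR_inv_conjR]
  have h2 : g * h⁻¹ ∈ H := hNH (conjR_eq_self_iff.mp h1)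
  have : g = (g * h⁻¹) * h := by group
  rw [this]
  exact mul_mem h2 hh

end Cfsg.Agent.S2955
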