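import Cfsg.Statements.S2958

set_option autoImplicit false
open Cfsg

namespace Cfsg.Agent.S2958

/-- Let X, A, B be subgroups of a group G such that G is generated by the conjugates of X and every conjugate of X is contained in A or in B. Then A = G or B = G. -/
theorem result {G : Type*} [Group G] (X A B : Subgroup G) (hgen : (⨆ g : G, X.map (MulAut.conj g).toMonoidHom) = ⊤) (hcover : ∀ g : G, X.map (MulAut.conj g).toMonoidHom ≤ A ∨ X.map (MulAut.conj g).toMonoidHom ≤ B) : A = ⊤ ∨ B = ⊤ := by
  classical
  by_cases hall : ∀ g : G, X.map (MulAut.conj g).toMonoidHom ≤ A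
  · left
    rw [eq_top_iff, ← hgen]
    exact iSup_le hall
  · right
    simp only [not_forall] at hall
    obtain ⟨g₀, hg₀⟩ := hall
    -- B₁ : join of the conjugates not contained in A
    set B₁ : Subgroup G := ⨆ g : {g : G // ¬ X.map (MulAut.conj g).toMonoidHom ≤ A},
      X.map (MulAut.conj (g : G)).toMonoidHom with hB₁
    have hB₁B : B₁ ≤ B := by
      refine iSup_le ?_
      rintro ⟨g, hg⟩
      rcases hcover g with h | h
      · exact absurd h hg
      · exact h
    -- conjugation formula
    have hconj : ∀ a g : G, (X.map (MulAut.conj g).toMonoidHom).map (MulAut.conj a).toMonoidHom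
        = X.map (MulAut.conj (a * g)).toMonoidHom := by
      intro a g
      rw [Subgroup.map_map]
      congr 1
      ext x
      simp [MulAut.conj_apply, mul_assoc]
    -- B₁ is normalized by A
    have hAnorm : ∀ a ∈ A, B₁.map (MulAut.conj a).toMonoidHom ≤ B₁ := by
      intro a ha
      rw [hB₁, Subgroup.map_iSup]
      refine iSup_le ?_
      rintro ⟨g, hg⟩
      rw [hconj]
      have : ¬ X.map (MulAut.conj (a * g)).toMonoidHom ≤ A := by
        intro h
        apply hg
        have h2 : (X.map (MulAut.conj (a * g)).toMonoidHom).map (MulAut.conj a⁻¹).toMonoidHom ≤ A := by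
          rintro _ ⟨y, hy, rfl⟩
          have hyA := h hy
          simp only [MulEquiv.coe_toMonoidHom, MulAut.conj_apply, inv_inv]
          exact A.mul_mem (A.mul_mem (A.inv_mem ha) hyA) ha
        rw [hconj] at h2
        simpa using h2
      exact le_iSup (fun g : {g : G // ¬ X.map (MulAut.conj g).toMonoidHom ≤ A} =>
        X.map (MulAut.conj (g : G)).toMonoidHom) ⟨a * g, this⟩
    -- the normalizer of B₁ contains A and B₁, hence every conjugate of X, hence is ⊤
    have hNtop : Subgroup.normalizer (B₁ : Set G) = ⊤ := by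
      rw [eq_top_iff, ← hgen]
      refine iSup_le ?_
      intro g
      by_cases hg : X.map (MulAut.conj g).toMonoidHom ≤ A
      · intro y hy
        have hyA := hg hy
        rw [Subgroup.mem_normalizer_iff]
        intro h
        constructor
        · intro hh
          have := hAnorm y hyA ⟨h, hh, rfl⟩
          simpa [MulAut.conj_apply] using this
        · intro hh
          have := hAnorm y⁻¹ (A.inv_mem hyA) ⟨_, hh, rfl⟩
          simpa [MulAut.conj_apply, mul_assoc] using this
      · refine le_trans ?_ Subgroup.le_normalizer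
        exact le_iSup (fun g : {g : G // ¬ X.map (MulAut.conj g).toMonoidHom ≤ A} =>
          X.map (MulAut.conj (g : G)).toMonoidHom) ⟨g, hg⟩
    have hB₁normal : B₁.Normal := Subgroup.normalizer_eq_top_iff.mp hNtop
    -- B₁ contains the conjugate by g₀, and so all conjugates
    have hg₀B₁ : X.map (MulAut.conj g₀).toMonoidHom ≤ B₁ :=
      le_iSup (fun g : {g : G // ¬ X.map (MulAut.conj g).toMonoidHom ≤ A} =>
        X.map (MulAut.conj (g : G)).toMonoidHom) ⟨g₀, hg₀⟩
    have hallB₁ : ∀ g : G, X.map (MulAut.conj g).toMonoidHom ≤ B₁ := by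
      intro g
      have h1 : (X.map (MulAut.conj g₀).toMonoidHom).map (MulAut.conj (g * g₀⁻¹)).toMonoidHom ≤ B₁ := by
        rintro _ ⟨y, hy, rfl⟩
        exact hB₁normal.conj_mem y (hg₀B₁ hy) (g * g₀⁻¹)
      rw [hconj] at h1
      simpa using h1
    rw [eq_top_iff]
    refine le_trans ?_ hB₁B
    rw [← hgen]
    exact iSup_le hallB₁

end Cfsg.Agent.S2958
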