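import Cfsg.Statements.S2963
import Mathlib.GroupTheory.Perm.MaximalSubgroups

set_option autoImplicit false
open Cfsg

namespace Cfsg.Agent.S2963

open MulAction
open scoped Pointwise

/-- Let n be odd. If the symmetric group of degree n is a minimal parabolic group for the prime 2, that is, a Sylow 2-subgroup is not normal and lies in exactly one maximal subgroup, then n = 2^m + 1 for some natural number m. -/
theorem result (n : ℕ) (hn : Odd n) (h : Cfsg.IsPMinimal 2 (Equiv.Perm (Fin n))) : ∃ m : ℕ, n = 2 ^ m + 1 := by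
  classical
  have : Fact (Nat.Prime 2) := ⟨Nat.prime_two⟩
  obtain ⟨S⟩ : Nonempty (Sylow 2 (Equiv.Perm (Fin n))) := inferInstance
  obtain ⟨hSn, M, ⟨hMco, hSM⟩, hMuniq⟩ := h S
  -- a fixed point of S
  have hnd : ¬ 2 ∣ Nat.card (Fin n) := by
    rw [Nat.card_eq_fintype_card, Fintype.card_fin]
    exact hn.not_two_dvd_nat
  obtain ⟨a, ha⟩ := S.isPGroup'.nonempty_fixed_point_of_prime_not_dvd_card (Fin n) hnd
  have hfix : ∀ g ∈ (S : Subgroup (Equiv.Perm (Fin n))), g a = a := by
    intro g hg
    exact ha ⟨g, hg⟩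
  -- n ≥ 3
  have hn1 : n ≠ 1 := by
    rintro rfl
    apply hSn
    have : (S : Subgroup (Equiv.Perm (Fin 1))) = ⊤ := Subsingleton.elim _ _
    rw [this]
    infer_instance
  have hn3 : 3 ≤ n := by
    obtain ⟨k, hk⟩ := hn
    omega
  -- the stabilizer of {a} is a coatom containing S
  have hcard : Nat.card (Fin n) = n := by rw [Nat.card_eq_fintype_card, Fintype.card_fin]
  have hac : ({a} : Set (Fin n))ᶜ.Nonempty := by
    by_contra hne
    rw [Set.not_nonempty_iff_eq_empty, Set.compl_empty_iff] at hne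
    have h1 : (Set.univ : Set (Fin n)).ncard = 1 := by rw [← hne]; exact Set.ncard_singleton a
    rw [Set.ncard_univ, hcard] at h1
    omega
  have hco_a : IsCoatom (stabilizer (Equiv.Perm (Fin n)) ({a} : Set (Fin n))) := by
    apply Equiv.Perm.isCoatom_stabilizer (Set.singleton_nonempty a) hac
    rw [hcard, Set.ncard_singleton]
    omega
  have hS_a : (S : Subgroup (Equiv.Perm (Fin n))) ≤ stabilizer (Equiv.Perm (Fin n)) ({a} : Set (Fin n)) := by
    intro g hg
    rw [mem_stabilizer_iff, Set.smul_set_singleton]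
    congr 1
    exact hfix g hg
  have hM_a : stabilizer (Equiv.Perm (Fin n)) ({a} : Set (Fin n)) = M := hMuniq _ ⟨hco_a, hS_a⟩
  -- an orbit on the complement
  obtain ⟨b, hb⟩ := hac
  have hba : b ≠ a := hb
  set O : Set (Fin n) := orbit ↥(S : Subgroup (Equiv.Perm (Fin n))) b with hO
  have hbO : b ∈ O := mem_orbit_self b
  have haO : a ∉ O := by
    rintro ⟨g, hg⟩
    have h1 : (g : Equiv.Perm (Fin n)) b = a := hg
    have h2 : (g : Equiv.Perm (Fin n)) a = a := hfix g g.2
    exact hba ((g : Equiv.Perm (Fin n)).injective (h1.trans h2.symm))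
  have hS_O : (S : Subgroup (Equiv.Perm (Fin n))) ≤ stabilizer (Equiv.Perm (Fin n)) O := by
    intro g hg
    rw [mem_stabilizer_iff]
    have := MulAction.smul_orbit (⟨g, hg⟩ : ↥(S : Subgroup (Equiv.Perm (Fin n)))) b
    exact this
  -- the orbit is the whole complement
  have hOeq : O = ({a} : Set (Fin n))ᶜ := by
    by_contra hne
    have hOsub : O ⊆ ({a} : Set (Fin n))ᶜ := by
      intro x hx hxa
      rw [Set.mem_singleton_iff] at hxa
      exact haO (hxa ▸ hx)
    obtain ⟨c, hca, hcO⟩ : ∃ c, c ∈ ({a} : Set (Fin n))ᶜ ∧ c ∉ O := by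
      by_contra hcon
      push Not at hcon
      exact hne (Set.Subset.antisymm hOsub hcon)
    have hca' : c ≠ a := hca
    have hco_O : IsCoatom (stabilizer (Equiv.Perm (Fin n)) O) := by
      apply Equiv.Perm.isCoatom_stabilizer ⟨b, hbO⟩ ⟨a, haO⟩
      rw [hcard]
      intro h2
      obtain ⟨k, hk⟩ := hn
      omega
    have hM_O : stabilizer (Equiv.Perm (Fin n)) O = M := hMuniq _ ⟨hco_O, hS_O⟩
    -- the transposition (a c) stabilizes O but not {a}
    have h1 : Equiv.swap a c ∈ stabilizer (Equiv.Perm (Fin n)) O := by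
      rw [mem_stabilizer_iff]
      ext x
      constructor
      · rintro ⟨y, hy, rfl⟩
        have hya : y ≠ a := fun h => haO (h ▸ hy)
        have hyc : y ≠ c := fun h => hcO (h ▸ hy)
        show Equiv.swap a c y ∈ O
        rw [Equiv.swap_apply_of_ne_of_ne hya hyc]; exact hy
      · intro hx
        have hxa : x ≠ a := fun h => haO (h ▸ hx)
        have hxc : x ≠ c := fun h => hcO (h ▸ hx)
        refine ⟨x, hx, ?_⟩
        show Equiv.swap a c x = x
        exact Equiv.swap_apply_of_ne_of_ne hxa hxc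
    rw [hM_O, ← hM_a, mem_stabilizer_iff, Set.smul_set_singleton] at h1
    have h2 : Equiv.swap a c • a = a := by
      have := Set.singleton_injective h1
      exact this
    have h3 : Equiv.swap a c a = c := Equiv.swap_apply_left a c
    have h4 : Equiv.swap a c • a = Equiv.swap a c a := rfl
    rw [h4, h3] at h2
    exact hca' h2
  -- count
  obtain ⟨m, hm⟩ := S.isPGroup'.card_orbit b
  refine ⟨m, ?_⟩
  have h1 : Nat.card ↥O = n - 1 := by
    rw [Nat.card_coe_set_eq, hOeq, Set.ncard_compl, Set.ncard_singleton, hcard]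
  rw [← hO, h1] at hm
  omega

end Cfsg.Agent.S2963
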