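import Cfsg.Statements.S2970
import Cfsg.Agent.Lib.Helper49_Isolated
import Mathlib.GroupTheory.Transfer
import Mathlib.RingTheory.Coprime.Lemmas

set_option autoImplicit false
open Cfsg

namespace Cfsg.Agent.S2970

open Cfsg.Agent.Lib.Helper49_Isolated Cfsg.Agent.Lib.Helper49_CharP

/-- Decomposition of an element of a finite group into a `p'`-part and a `p`-part, both powers
of the element. -/
theorem exists_decomp {G : Type*} [Group G] [Finite G] (p : ℕ) [Fact p.Prime] (g : G) :
    ∃ g₁ g₂ : G, g₁ ∈ Subgroup.zpowers g ∧ g₂ ∈ Subgroup.zpowers g ∧ g = g₁ * g₂ ∧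
      (orderOf g₁).Coprime p ∧ ∃ e : ℕ, orderOf g₂ = p ^ e := by
  have hp : p.Prime := Fact.out
  have hpos : 0 < orderOf g := orderOf_pos _
  obtain ⟨e, m, hm, hem⟩ := Nat.exists_eq_pow_mul_and_not_dvd hpos.ne' p hp.ne_one
  have hcop : Nat.Coprime (p ^ e) m :=
    Nat.Coprime.pow_left e ((Nat.Prime.coprime_iff_not_dvd hp).mpr hm)
  obtain ⟨a, b, hab⟩ := (Nat.isCoprime_iff_coprime.mpr hcop)
  refine ⟨(g ^ (p ^ e)) ^ a, (g ^ m) ^ b, ?_, ?_, ?_, ?_, ?_⟩
  · exact Subgroup.zpow_mem _ (Subgroup.pow_mem _ (Subgroup.mem_zpowers g) _) _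
  · exact Subgroup.zpow_mem _ (Subgroup.pow_mem _ (Subgroup.mem_zpowers g) _) _
  · rw [← zpow_natCast g (p ^ e), ← zpow_natCast g m, ← zpow_mul, ← zpow_mul, ← zpow_add]
    have : ((p ^ e : ℕ) : ℤ) * a + (m : ℤ) * b = 1 := by rw [← hab]; ring
    rw [this, zpow_one]
  · have h1 : ((g ^ (p ^ e)) ^ a) ^ m = 1 := by
      rw [← zpow_natCast g (p ^ e), ← zpow_mul, ← zpow_natCast _ m, ← zpow_mul]
      have : ((p ^ e : ℕ) : ℤ) * a * (m : ℤ) = ((p ^ e * m : ℕ) : ℤ) * a := by push_cast; ring
      rw [this, zpow_mul, zpow_natCast, ← hem, pow_orderOf_eq_one, one_zpow]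
    have h2 : orderOf ((g ^ (p ^ e)) ^ a) ∣ m := orderOf_dvd_of_pow_eq_one h1
    exact Nat.Coprime.coprime_dvd_left h2 ((Nat.Prime.coprime_iff_not_dvd hp).mpr hm).symm
  · have h1 : ((g ^ m) ^ b) ^ (p ^ e) = 1 := by
      rw [← zpow_natCast g m, ← zpow_mul, ← zpow_natCast _ (p ^ e), ← zpow_mul]
      have : (m : ℤ) * b * ((p ^ e : ℕ) : ℤ) = ((p ^ e * m : ℕ) : ℤ) * b := by push_cast; ring
      rw [this, zpow_mul, zpow_natCast, ← hem, pow_orderOf_eq_one, one_zpow]
    have h2 : orderOf ((g ^ m) ^ b) ∣ p ^ e := orderOf_dvd_of_pow_eq_one h1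
    obtain ⟨j, _, hj⟩ := (Nat.dvd_prime_pow hp).mp h2
    exact ⟨j, hj⟩

/-- In a cyclic `p`-subgroup containing an element `w` of order `p`, every element with trivial
`p`-th power is a power of `w`. -/
theorem mem_zpowers_of_pow_eq_one {G : Type*} [Group G] [Finite G] {p : ℕ} [Fact p.Prime]
    (P : Subgroup G) (hPc : IsCyclic ↥P) (w : G) (hwP : w ∈ P) (hw : orderOf w = p)
    (c : G) (hcP : c ∈ P) (hc : c ^ p = 1) : c ∈ Subgroup.zpowers w := by
  classical
  have hp : p.Prime := Fact.out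
  have : Fintype ↥P := Fintype.ofFinite _
  let S : Finset ↥P := Finset.univ.filter (fun a => a ^ p = 1)
  have hS : S.card ≤ p := IsCyclic.card_pow_eq_one_le hp.pos
  let wP : ↥P := ⟨w, hwP⟩
  let T : Finset ↥P := (Subgroup.zpowers wP : Set ↥P).toFinset
  have hTS : T ⊆ S := by
    intro a ha
    rw [Set.mem_toFinset] at ha
    obtain ⟨k, rfl⟩ := Subgroup.mem_zpowers_iff.mp ha
    rw [Finset.mem_filter]
    refine ⟨Finset.mem_univ _, ?_⟩
    have hwp : wP ^ p = 1 := by
      apply Subtype.ext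
      simp only [wP, Subgroup.coe_pow, Subgroup.coe_one]
      rw [← hw]; exact pow_orderOf_eq_one w
    rw [← zpow_natCast, ← zpow_mul, mul_comm, zpow_mul, zpow_natCast, hwp, one_zpow]
  have hT : T.card = p := by
    rw [Set.toFinset_card]
    have h1 : Fintype.card ↥(Subgroup.zpowers wP) = orderOf wP := Fintype.card_zpowers
    have h2 : orderOf wP = orderOf w := Subgroup.orderOf_mk w hwP
    simpa [h2, hw] using h1
  have hTS' : T = S := Finset.eq_of_subset_of_card_le hTS (by rw [hT]; exact hS)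
  have hcS : (⟨c, hcP⟩ : ↥P) ∈ S := by
    rw [Finset.mem_filter]
    refine ⟨Finset.mem_univ _, ?_⟩
    apply Subtype.ext
    simpa using hc
  rw [← hTS', Set.mem_toFinset] at hcS
  obtain ⟨k, hk⟩ := Subgroup.mem_zpowers_iff.mp hcS
  rw [Subgroup.mem_zpowers_iff]
  refine ⟨k, ?_⟩
  have := congrArg Subtype.val hk
  simpa [wP] using this

/-- A `p'`-element normalizing a cyclic `p`-subgroup and centralizing a nontrivial element of it
centralizes the subgroup. -/
theorem commute_of_cyclic {G : Type*} [Group G] [Finite G] {p : ℕ} [Fact p.Prime]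
    (P : Subgroup G) (hP : IsPGroup p ↥P) (hPc : IsCyclic ↥P) (h : G)
    (hhN : h ∈ Subgroup.normalizer (P : Set G)) (hho : (orderOf h).Coprime p)
    (x : G) (hxP : x ∈ P) (hx1 : x ≠ 1) (hhx : Commute h x) : ∀ r ∈ P, Commute h r := by
  classical
  have hp : p.Prime := Fact.out
  -- an element of order p commuting with h
  obtain ⟨k, hk⟩ := orderOf_eq_pow_of_mem hP hxP
  have hk0 : k ≠ 0 := by
    rintro rfl
    rw [pow_zero] at hk
    exact hx1 (orderOf_eq_one_iff.mp hk)
  obtain ⟨k', rfl⟩ := Nat.exists_eq_succ_of_ne_zero hk0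
  set w : G := x ^ (p ^ k') with hwdef
  have hwP : w ∈ P := Subgroup.pow_mem _ hxP _
  have hw : orderOf w = p := by
    rw [hwdef, orderOf_pow' _ (pow_ne_zero k' hp.ne_zero), hk, pow_succ,
      Nat.gcd_eq_right (dvd_mul_right _ _)]
    exact Nat.mul_div_cancel_left p (pow_pos hp.pos k')
  have hhw : Commute h w := hhx.pow_right _
  -- P is commutative
  have hcomm : ∀ a ∈ P, ∀ b ∈ P, a * b = b * a := by
    intro a ha b hb
    have hmc : IsMulCommutative ↥P := IsCyclic.isMulCommutative
    have h1 := (isMulCommutative_iff.mp hmc) (⟨a, ha⟩ : ↥P) ⟨b, hb⟩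
    have := congrArg Subtype.val h1
    simpa using this
  -- induction on the exponent
  have key : ∀ n : ℕ, ∀ r ∈ P, r ^ (p ^ n) = 1 → Commute h r := by
    intro n
    induction n with
    | zero =>
      intro r _ hr
      rw [pow_zero, pow_one] at hr
      rw [hr]; exact Commute.one_right h
    | succ n ih =>
      intro r hr hrn
      have hrp : Commute h (r ^ p) := by
        apply ih (r ^ p) (Subgroup.pow_mem _ hr _)
        rw [← pow_mul, ← pow_succ']; exact hrn
      have hconjP : h * r * h⁻¹ ∈ P := (Subgroup.mem_normalizer_iff.mp hhN r).mp hr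
      set c : G := r⁻¹ * (h * r * h⁻¹) with hc
      have hcP : c ∈ P := mul_mem (inv_mem hr) hconjP
      have hcp : c ^ p = 1 := by
        have h1 : Commute r⁻¹ (h * r * h⁻¹) := hcomm _ (inv_mem hr) _ hconjP
        rw [hc, h1.mul_pow]
        have h2 : (h * r * h⁻¹) ^ p = h * r ^ p * h⁻¹ := by
          have := map_pow (MulAut.conj h).toMonoidHom r p
          simp only [MulEquiv.coe_toMonoidHom, MulAut.conj_apply] at this
          exact this.symm
        rw [h2]
        have h3 : h * r ^ p * h⁻¹ = r ^ p := by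
          calc h * r ^ p * h⁻¹ = r ^ p * h * h⁻¹ := by rw [hrp.eq]
            _ = r ^ p := by group
        rw [h3, inv_pow, inv_mul_cancel]
      have hcw : c ∈ Subgroup.zpowers w := mem_zpowers_of_pow_eq_one P hPc w hwP hw c hcP hcp
      obtain ⟨j, hj⟩ := Subgroup.mem_zpowers_iff.mp hcw
      have hhc : Commute h c := by rw [← hj]; exact hhw.zpow_right j
      exact commute_of_coprime_of_conj_eq_mul (p := p) h r c hho (by rw [hc]; group) hhc
        (orderOf_eq_pow_of_mem hP hcP)
  intro r hr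
  obtain ⟨n, hn⟩ := hP ⟨r, hr⟩
  apply key n r hr
  have := congrArg Subtype.val hn
  simpa using this

/-- Let G be a finite group, p a prime and x ∈ G an element of p-power order which is isolated in G. Then the image of x in any quotient G ⧸ N is isolated in G ⧸ N; and if x ≠ 1 and the Sylow p-subgroups of G are cyclic, then G has a normal p-complement. -/
theorem result {G : Type*} [Group G] [Finite G] {p : ℕ} [Fact p.Prime] (x : G) (hx : ∃ k : ℕ, orderOf x = p ^ k) (hiso : Cfsg.IsIsolated x) : (∀ (N : Subgroup G) [N.Normal], Cfsg.IsIsolated (QuotientGroup.mk x : G ⧸ N)) ∧ (x ≠ 1 → (∀ P : Sylow p G, IsCyclic ↥(P : Subgroup G)) → Cfsg.HasNormalPComplement p G) := by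
  classical
  refine ⟨?_, ?_⟩
  · intro N _ gbar hcomm
    obtain ⟨g, rfl⟩ := QuotientGroup.mk_surjective gbar
    set M : Subgroup G :=
      (Subgroup.centralizer ({(QuotientGroup.mk x : G ⧸ N)} : Set (G ⧸ N))).comap
        (QuotientGroup.mk' N) with hM
    have hmemM : ∀ m : G, m ∈ M ↔ Commute (QuotientGroup.mk x : G ⧸ N) (QuotientGroup.mk m) := by
      intro m
      rw [hM, Subgroup.mem_comap, Subgroup.mem_centralizer_iff]
      constructor
      · intro h
        exact h _ rfl
      · intro h w hw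
        rw [Set.mem_singleton_iff] at hw
        rw [hw]; exact h
    have hxM : x ∈ M := (hmemM x).mpr (Commute.refl _)
    have hyM : g * x * g⁻¹ ∈ M := by
      rw [hmemM]
      simpa using hcomm
    obtain ⟨m, hm, hmx⟩ := exists_conj_of_mem hiso hx M hxM g hyM
    have h1 : ((g * x * g⁻¹ : G) : G ⧸ N) = ((m * x * m⁻¹ : G) : G ⧸ N) := by rw [hmx]
    have h2 := (hmemM m).mp hm
    have h3 : ((m * x * m⁻¹ : G) : G ⧸ N) = (x : G ⧸ N) := by
      simp only [QuotientGroup.mk_mul, QuotientGroup.mk_inv]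
      rw [← h2.eq]; group
    have h4 : (g : G ⧸ N) * (x : G ⧸ N) * (g : G ⧸ N)⁻¹ = ((g * x * g⁻¹ : G) : G ⧸ N) := by
      simp
    rw [h4, h1, h3]
  · intro hx1 hcyc
    -- a Sylow subgroup containing x
    obtain ⟨k, hk⟩ := hx
    have hpx : IsPGroup p (Subgroup.zpowers x) := by
      apply IsPGroup.of_card (n := k)
      rw [Nat.card_zpowers, hk]
    obtain ⟨P, hP⟩ := hpx.exists_le_sylow
    have hxP : x ∈ (P : Subgroup G) := hP (Subgroup.mem_zpowers x)
    have hPc : IsCyclic ↥(P : Subgroup G) := hcyc P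
    have hcommP : ∀ a ∈ (P : Subgroup G), ∀ b ∈ (P : Subgroup G), a * b = b * a := by
      intro a ha b hb
      have hmc : IsMulCommutative ↥(P : Subgroup G) := IsCyclic.isMulCommutative
      have h1 := (isMulCommutative_iff.mp hmc) (⟨a, ha⟩ : ↥(P : Subgroup G)) ⟨b, hb⟩
      have := congrArg Subtype.val h1
      simpa using this
    have hNC : Subgroup.normalizer ((P : Subgroup G) : Set G) ≤
        Subgroup.centralizer ((P : Subgroup G) : Set G) := by
      intro g hg
      obtain ⟨g₁, g₂, hg₁z, hg₂z, hgg, hg₁o, e, hg₂o⟩ := exists_decomp p g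
      have hzN : Subgroup.zpowers g ≤ Subgroup.normalizer ((P : Subgroup G) : Set G) := by
        rw [Subgroup.zpowers_le]; exact hg
      have hg₁N := hzN hg₁z
      have hg₂N := hzN hg₂z
      -- g₁ commutes with x
      have hg₁x : Commute g₁ x := by
        have h1 : g₁ * x * g₁⁻¹ ∈ (P : Subgroup G) :=
          (Subgroup.mem_normalizer_iff.mp hg₁N x).mp hxP
        have h2 := conj_eq_of_mem_pGroup hiso (P : Subgroup G) P.isPGroup' hxP g₁ h1
        show g₁ * x = x * g₁
        calc g₁ * x = (g₁ * x * g₁⁻¹) * g₁ := by group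
          _ = x * g₁ := by rw [h2]
      have h₁ : ∀ r ∈ (P : Subgroup G), Commute g₁ r :=
        commute_of_cyclic (P : Subgroup G) P.isPGroup' hPc g₁ hg₁N hg₁o x hxP hx1 hg₁x
      -- g₂ lies in P
      have hg₂P : g₂ ∈ (P : Subgroup G) := by
        have hz2 : IsPGroup p (Subgroup.zpowers g₂) := by
          apply IsPGroup.of_card (n := e)
          rw [Nat.card_zpowers, hg₂o]
        have hz2N : Subgroup.zpowers g₂ ≤ Subgroup.normalizer ((P : Subgroup G) : Set G) := by
          rw [Subgroup.zpowers_le]; exact hg₂N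
        have hsup : IsPGroup p (Subgroup.zpowers g₂ ⊔ (P : Subgroup G) : Subgroup G) :=
          IsPGroup.to_sup_of_normal_right' hz2 P.isPGroup' hz2N
        have heq := P.is_maximal' hsup le_sup_right
        rw [← heq]
        exact (le_sup_left : Subgroup.zpowers g₂ ≤ _) (Subgroup.mem_zpowers g₂)
      rw [Subgroup.mem_centralizer_iff]
      intro r hr
      have c1 := (h₁ r hr).eq
      have c2 := hcommP g₂ hg₂P r hr
      rw [hgg]
      calc r * (g₁ * g₂) = (r * g₁) * g₂ := by group
        _ = (g₁ * r) * g₂ := by rw [c1]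
        _ = g₁ * (r * g₂) := by group
        _ = g₁ * (g₂ * r) := by rw [c2]
        _ = g₁ * g₂ * r := by group
    exact ⟨P, (MonoidHom.transferSylow P hNC).ker, MonoidHom.normal_ker _,
      MonoidHom.ker_transferSylow_isComplement' P hNC⟩

end Cfsg.Agent.S2970
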