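import Mathlib
import Cfsg.Statements.S2975
import Cfsg.Agent.Lib.Helper32_Cores

set_option autoImplicit false
open Cfsg

namespace Cfsg.Agent.S2975

open Cfsg.Agent.Lib.Helper32_Cores

/-- Lemma K: an element of order dividing `p` which is central modulo `O_{p'}(H)` normalizes some
Sylow `q`-subgroup, for every prime `q`. -/
theorem exists_invariant_sylow_of_inZStar {H : Type*} [Group H] [Finite H] {p : ℕ} [Fact p.Prime]
    (x : H) (hx : x ^ p = 1) (hz : Cfsg.InZStar p x) (q : ℕ) [Fact q.Prime] :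
    ∃ S : Sylow q H, x ∈ Subgroup.normalizer ((S : Subgroup H) : Set H) := by
  classical
  have hpgx : ∀ (W : Subgroup H) (hxW : x ∈ W), IsPGroup p (Subgroup.zpowers (⟨x, hxW⟩ : W)) := by
    intro W hxW
    rintro ⟨g, hg⟩
    obtain ⟨k, rfl⟩ := Subgroup.mem_zpowers_iff.mp hg
    refine ⟨1, ?_⟩
    apply Subtype.ext
    apply Subtype.ext
    simp only [pow_one, Subgroup.coe_pow, Subgroup.coe_zpow, Subgroup.coe_one]
    rw [← zpow_natCast, ← zpow_mul, mul_comm, zpow_mul, zpow_natCast, hx, one_zpow]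
  by_cases hqp : q = p
  · subst hqp
    have hpg : IsPGroup q (Subgroup.zpowers x) := by
      rintro ⟨g, hg⟩
      obtain ⟨k, rfl⟩ := Subgroup.mem_zpowers_iff.mp hg
      refine ⟨1, ?_⟩
      apply Subtype.ext
      simp only [pow_one, Subgroup.coe_pow, Subgroup.coe_one]
      rw [← zpow_natCast, ← zpow_mul, mul_comm, zpow_mul, zpow_natCast, hx, one_zpow]
    obtain ⟨S, hS⟩ := hpg.exists_le_sylow
    exact ⟨S, Subgroup.le_normalizer (hS (Subgroup.mem_zpowers x))⟩
  · obtain ⟨O, hO⟩ : ∃ O : Subgroup H, O = Cfsg.pPrimeCore p H := ⟨_, rfl⟩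
    have hOch : O.Characteristic := hO ▸ pPrimeCore_characteristic p
    have hOn : O.Normal := Subgroup.normal_of_characteristic O
    have hOcop : (Nat.card O).Coprime p := hO ▸ card_pPrimeCore_coprime p
    -- the subgroup of elements central modulo O
    obtain ⟨W, hW⟩ : ∃ W : Subgroup H, W = (Subgroup.center (H ⧸ O)).comap (QuotientGroup.mk' O) :=
      ⟨_, rfl⟩
    have hWmem : ∀ z : H, z ∈ W ↔ ∀ g : H, g * z * g⁻¹ * z⁻¹ ∈ O := by
      intro z
      rw [hW, Subgroup.mem_comap, Subgroup.mem_center_iff]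
      constructor
      · intro h g
        have h1 := h (QuotientGroup.mk' O g)
        rw [← QuotientGroup.eq_one_iff]
        simp only [QuotientGroup.mk'_apply] at h1
        simp only [QuotientGroup.mk_mul, QuotientGroup.mk_inv]
        rw [h1]
        group
      · intro h g'
        obtain ⟨g, rfl⟩ := QuotientGroup.mk'_surjective O g'
        have h1 := h g
        rw [← QuotientGroup.eq_one_iff] at h1
        simp only [QuotientGroup.mk_mul, QuotientGroup.mk_inv] at h1
        simp only [QuotientGroup.mk'_apply]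
        have h2 : (g : H ⧸ O) * (z : H ⧸ O) = ((g : H ⧸ O) * z * (g : H ⧸ O)⁻¹ * (z : H ⧸ O)⁻¹) * z * g := by group
        rw [h2, h1, one_mul]
    have hxW : x ∈ W := by
      rw [hWmem]
      intro g
      rw [hO]
      exact hz g
    have hOW : O ≤ W := by
      intro o ho
      rw [hWmem]
      intro g
      exact O.mul_mem (hOn.conj_mem o ho g) (O.inv_mem ho)
    -- key
    have key : ∀ z ∈ W, ∀ T : Sylow q H, ∃ o ∈ O, z • T = o • T := by
      intro z hzW T
      have hzW' := (hWmem z).mp hzW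
      have hT : (T : Subgroup H) ≤ O ⊔ (T : Subgroup H) := le_sup_right
      have hzT : ((z • T : Sylow q H) : Subgroup H) ≤ O ⊔ (T : Subgroup H) := by
        intro y hy
        rw [Sylow.coe_subgroup_smul, Subgroup.mem_pointwise_smul_iff_inv_smul_mem] at hy
        -- y = z t z⁻¹
        have hy' : z⁻¹ * y * z ∈ (T : Subgroup H) := by
          simpa [MulAut.smul_def, MulAut.conj_apply] using hy
        set t := z⁻¹ * y * z with ht
        have hyt : y = (t * z * t⁻¹ * z⁻¹)⁻¹ * t := by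
          rw [ht]; group
        rw [hyt]
        exact Subgroup.mul_mem _ (Subgroup.mem_sup_left (O.inv_mem (hzW' t)))
          (Subgroup.mem_sup_right hy')
      obtain ⟨m, hm⟩ := MulAction.exists_smul_eq ↥(O ⊔ (T : Subgroup H)) (T.subtype hT)
        ((z • T).subtype hzT)
      rw [Sylow.smul_subtype] at hm
      have hm2 : (m : H) • T = z • T := Sylow.subtype_injective hm
      obtain ⟨o, ho, t, ht, hot⟩ := Subgroup.mem_sup_of_normal_left.mp m.2
      refine ⟨o, ho, ?_⟩
      rw [← hm2, ← hot, mul_smul]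
      congr 1
      exact Sylow.smul_eq_iff_mem_normalizer.mpr (Subgroup.le_normalizer ht)
    obtain S₀ : Sylow q H := default
    have horb : MulAction.orbit W S₀ = MulAction.orbit O S₀ := by
      ext T
      constructor
      · rintro ⟨⟨w, hw⟩, rfl⟩
        obtain ⟨o, ho, h⟩ := key w hw S₀
        exact ⟨⟨o, ho⟩, h.symm⟩
      · rintro ⟨⟨o, ho⟩, rfl⟩
        exact ⟨⟨o, hOW ho⟩, rfl⟩
    have hcard : ¬ p ∣ Nat.card (MulAction.orbit W S₀) := by
      rw [horb, Nat.card_coe_set_eq, ← MulAction.index_stabilizer]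
      intro hdvd
      have h1 : p ∣ Nat.card O := hdvd.trans (Subgroup.index_dvd_card _)
      have h2 := Nat.dvd_gcd h1 (dvd_refl p)
      rw [hOcop] at h2
      exact (Fact.out : p.Prime).one_lt.ne' (Nat.dvd_one.mp h2)
    obtain ⟨⟨T, hT⟩, hfix⟩ := (hpgx W hxW).nonempty_fixed_point_of_prime_not_dvd_card
      (MulAction.orbit W S₀) hcard
    refine ⟨T, ?_⟩
    have h1 := hfix ⟨⟨x, hxW⟩, Subgroup.mem_zpowers _⟩
    have h2 : x • T = T := congrArg Subtype.val h1
    exact Sylow.smul_eq_iff_mem_normalizer.mp h2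

theorem isPGroup_zpowers_of_pow_eq_one {H : Type*} [Group H] {p : ℕ} (x : H) (hx : x ^ p = 1) :
    IsPGroup p (Subgroup.zpowers x) := by
  rintro ⟨g, hg⟩
  obtain ⟨k, rfl⟩ := Subgroup.mem_zpowers_iff.mp hg
  refine ⟨1, ?_⟩
  apply Subtype.ext
  simp only [pow_one, Subgroup.coe_pow, Subgroup.coe_one]
  rw [← zpow_natCast, ← zpow_mul, mul_comm, zpow_mul, zpow_natCast, hx, one_zpow]

/-- Lemma C: if `x` (a `p`-element) is central modulo `O_{p'}(H)`, then every `p`-element `y` has a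
conjugate commuting with `x`. -/
theorem exists_conj_commute_of_inZStar {H : Type*} [Group H] [Finite H] {p : ℕ} [Fact p.Prime]
    (x y : H) (hx : x ^ p = 1) (hy : y ^ p = 1) (hz : Cfsg.InZStar p x) :
    ∃ n : H, Commute x (n * y * n⁻¹) := by
  classical
  obtain ⟨P, hP⟩ := (isPGroup_zpowers_of_pow_eq_one x hx).exists_le_sylow
  obtain ⟨P', hP'⟩ := (isPGroup_zpowers_of_pow_eq_one y hy).exists_le_sylow
  obtain ⟨m, hm⟩ := MulAction.exists_smul_eq H P' P
  have hxP : x ∈ P := hP (Subgroup.mem_zpowers x)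
  have hyP' : y ∈ P' := hP' (Subgroup.mem_zpowers y)
  have hmy : m * y * m⁻¹ ∈ P := by
    rw [← hm]
    show m * y * m⁻¹ ∈ ((m • P' : Sylow p H) : Subgroup H)
    rw [Sylow.coe_subgroup_smul, Subgroup.mem_pointwise_smul_iff_inv_smul_mem]
    have hyP'' : y ∈ (P' : Subgroup H) := hyP'
    simpa [MulAut.smul_def, MulAut.conj_apply, mul_assoc] using hyP''
  refine ⟨m, ?_⟩
  set t := m * y * m⁻¹ with ht
  have h1 : t * x * t⁻¹ * x⁻¹ ∈ Cfsg.pPrimeCore p H := hz t
  have h2 : t * x * t⁻¹ * x⁻¹ ∈ (P : Subgroup H) :=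
    P.1.mul_mem (P.1.mul_mem (P.1.mul_mem hmy hxP) (P.1.inv_mem hmy)) (P.1.inv_mem hxP)
  have h3 : t * x * t⁻¹ * x⁻¹ = 1 := by
    have hcop : (Nat.card (Cfsg.pPrimeCore p H)).Coprime p := card_pPrimeCore_coprime p
    obtain ⟨k, hk⟩ := (P.2 ⟨_, h2⟩)
    have hk' : (t * x * t⁻¹ * x⁻¹) ^ p ^ k = 1 := by
      simpa using congrArg Subtype.val hk
    have ho1 : orderOf (t * x * t⁻¹ * x⁻¹) ∣ p ^ k := orderOf_dvd_of_pow_eq_one hk'
    have ho2 : orderOf (t * x * t⁻¹ * x⁻¹) ∣ Nat.card (Cfsg.pPrimeCore p H) := by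
      have := orderOf_dvd_natCard (⟨_, h1⟩ : Cfsg.pPrimeCore p H)
      rwa [Subgroup.orderOf_mk] at this
    have ho3 : orderOf (t * x * t⁻¹ * x⁻¹) = 1 :=
      Nat.eq_one_of_dvd_coprimes (Nat.Coprime.pow_right k hcop) ho2 ho1
    exact orderOf_eq_one_iff.mp ho3
  show x * t = t * x
  have : t * x = (t * x * t⁻¹ * x⁻¹) * (x * t) := by group
  rw [this, h3, one_mul]

theorem part2 {G : Type*} [Group G] [Finite G] {p : ℕ} [Fact p.Prime] (x : G)
    (hx : orderOf x = p) (hiso : Cfsg.IsIsolated x)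
    (hmin : ∀ (H : Subgroup G) (hxH : x ∈ H), H ≠ ⊤ → Cfsg.InZStar p (⟨x, hxH⟩ : ↥H))
    (q : ℕ) [Fact q.Prime] (S₁ S₂ : Sylow q G)
    (h1 : x ∈ Subgroup.normalizer ((S₁ : Subgroup G) : Set G))
    (h2 : x ∈ Subgroup.normalizer ((S₂ : Subgroup G) : Set G)) :
    ∃ c ∈ Subgroup.centralizer ({x} : Set G),
      (S₁ : Subgroup G).map (MulAut.conj c).toMonoidHom = (S₂ : Subgroup G) := by
  classical
  have hxp : x ^ p = 1 := hx ▸ pow_orderOf_eq_one x
  obtain ⟨g, hg⟩ := MulAction.exists_smul_eq G S₁ S₂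
  -- reformulate goal
  suffices h : ∃ c ∈ Subgroup.centralizer ({x} : Set G), c • S₁ = S₂ by
    obtain ⟨c, hc, hcS⟩ := h
    refine ⟨c, hc, ?_⟩
    rw [← hcS, Sylow.coe_subgroup_smul]
    rfl
  by_cases hN : Subgroup.normalizer ((S₁ : Subgroup G) : Set G) = ⊤
  · refine ⟨1, Subgroup.one_mem _, ?_⟩
    rw [one_smul, ← hg]
    symm
    have hgN : g ∈ Subgroup.normalizer ((S₁ : Subgroup G) : Set G) := hN ▸ Subgroup.mem_top g
    exact Sylow.smul_eq_iff_mem_normalizer.mpr hgN
  · set N := Subgroup.normalizer ((S₁ : Subgroup G) : Set G) with hNdef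
    have hz := hmin N h1 hN
    -- y = g⁻¹ x g normalizes S₁
    have hy : g⁻¹ * x * g ∈ N := by
      rw [hNdef]
      apply Sylow.smul_eq_iff_mem_normalizer.mp
      have : x • S₂ = S₂ := Sylow.smul_eq_iff_mem_normalizer.mpr h2
      rw [← hg] at this
      rw [mul_smul, mul_smul, this, ← mul_smul, inv_mul_cancel, one_smul]
    have hxN : (⟨x, h1⟩ : N) ^ p = 1 := by
      apply Subtype.ext
      simp [hxp]
    have hyN : (⟨g⁻¹ * x * g, hy⟩ : N) ^ p = 1 := by
      apply Subtype.ext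
      simp only [Subgroup.coe_pow, Subgroup.coe_one]
      have : g⁻¹ * x * g = g⁻¹ * x * g⁻¹⁻¹ := by rw [inv_inv]
      rw [this, conj_pow, hxp]; simp
    obtain ⟨⟨n, hn⟩, hcomm⟩ := exists_conj_commute_of_inZStar _ _ hxN hyN hz
    have hcomm' : Commute x (n * (g⁻¹ * x * g) * n⁻¹) := by
      have := congrArg Subtype.val hcomm.eq
      show x * _ = _ * x
      simpa using this
    have hcomm'' : Commute x ((n * g⁻¹) * x * (n * g⁻¹)⁻¹) := by
      have e : (n * g⁻¹) * x * (n * g⁻¹)⁻¹ = n * (g⁻¹ * x * g) * n⁻¹ := by group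
      rw [e]; exact hcomm'
    have hfix := hiso _ hcomm''
    refine ⟨(n * g⁻¹)⁻¹, ?_, ?_⟩
    · apply Subgroup.inv_mem
      rw [Subgroup.mem_centralizer_iff]
      intro z hzx
      rw [Set.mem_singleton_iff] at hzx
      subst hzx
      -- z * c = c * z
      have : (n * g⁻¹) * z = z * (n * g⁻¹) := by
        calc (n * g⁻¹) * z = ((n * g⁻¹) * z * (n * g⁻¹)⁻¹) * (n * g⁻¹) := by group
          _ = z * (n * g⁻¹) := by rw [hfix]
      exact this.symm
    · rw [← hg]
      have hnS : n • S₁ = S₁ := Sylow.smul_eq_iff_mem_normalizer.mpr hn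
      rw [mul_inv_rev, inv_inv, mul_smul]
      congr 1
      rw [inv_smul_eq_iff, hnS]

theorem part1 {G : Type*} [Group G] [Finite G] {p : ℕ} [Fact p.Prime] (x : G)
    (hx : orderOf x = p)
    (hmin : ∀ (H : Subgroup G) (hxH : x ∈ H), H ≠ ⊤ → Cfsg.InZStar p (⟨x, hxH⟩ : ↥H))
    (hquot : ∀ (N : Subgroup G) [N.Normal], N ≠ ⊥ → Cfsg.InZStar p (QuotientGroup.mk x : G ⧸ N))
    (q : ℕ) [Fact q.Prime] (Q : Subgroup G) (hQ : IsPGroup q ↥Q)
    (hxQ : x ∈ Subgroup.normalizer (Q : Set G))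
    (hmax : ∀ R : Subgroup G, IsPGroup q ↥R → x ∈ Subgroup.normalizer (R : Set G) → Q ≤ R → R = Q) :
    Q = ⊥ ∨ ∃ S : Sylow q G, (S : Subgroup G) = Q := by
  classical
  have hxp : x ^ p = 1 := hx ▸ pow_orderOf_eq_one x
  by_cases hQb : Q = ⊥
  · exact Or.inl hQb
  right
  suffices hidx : ¬ q ∣ Q.index from ⟨hQ.toSylow hidx, hQ.toSylow_coe hidx⟩
  by_cases hN : Subgroup.normalizer (Q : Set G) = ⊤
  · have hQn : Q.Normal := Subgroup.normalizer_eq_top_iff.mp hN
    have hz := hquot Q hQb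
    have hxq : (QuotientGroup.mk x : G ⧸ Q) ^ p = 1 := by
      rw [← QuotientGroup.mk_pow, hxp]; rfl
    obtain ⟨Sb, hSb⟩ := exists_invariant_sylow_of_inZStar _ hxq hz q
    have hR1 : IsPGroup q ((Sb : Subgroup (G ⧸ Q)).comap (QuotientGroup.mk' Q)) := by
      apply Sb.2.comap_of_ker_isPGroup
      rw [QuotientGroup.ker_mk']
      exact hQ
    have hR2 : x ∈ Subgroup.normalizer
        (((Sb : Subgroup (G ⧸ Q)).comap (QuotientGroup.mk' Q) : Subgroup G) : Set G) := by
      apply Subgroup.le_normalizer_comap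
      exact hSb
    have hR3 : Q ≤ (Sb : Subgroup (G ⧸ Q)).comap (QuotientGroup.mk' Q) := by
      have := Subgroup.ker_le_comap (QuotientGroup.mk' Q) (Sb : Subgroup (G ⧸ Q))
      rwa [QuotientGroup.ker_mk'] at this
    have hR := hmax _ hR1 hR2 hR3
    have hSbot : (Sb : Subgroup (G ⧸ Q)) = ⊥ := by
      rw [← Subgroup.map_comap_eq_self_of_surjective (QuotientGroup.mk'_surjective Q)
        (Sb : Subgroup (G ⧸ Q)), hR, QuotientGroup.map_mk'_self]
    intro hdvd
    exact Sb.ne_bot_of_dvd_card hdvd hSbot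
  · set N := Subgroup.normalizer (Q : Set G) with hNdef
    have hz := hmin N hxQ hN
    have hxN : (⟨x, hxQ⟩ : N) ^ p = 1 := by
      apply Subtype.ext
      simp [hxp]
    obtain ⟨T, hT⟩ := exists_invariant_sylow_of_inZStar _ hxN hz q
    have hQ' : IsPGroup q (Q.subgroupOf N) := hQ.comap_subtype
    have hQT : Q.subgroupOf N ≤ T := hQ'.le_sylow_of_normal T
    have hR1 : IsPGroup q ((T : Subgroup N).map N.subtype) := T.2.map _
    have hR2 : x ∈ Subgroup.normalizer (((T : Subgroup N).map N.subtype : Subgroup G) : Set G) := by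
      apply Subgroup.le_normalizer_map
      exact ⟨⟨x, hxQ⟩, hT, rfl⟩
    have hR3 : Q ≤ (T : Subgroup N).map N.subtype := by
      intro y hy
      have hyN : y ∈ N := Subgroup.le_normalizer hy
      exact ⟨⟨y, hyN⟩, hQT (Subgroup.mem_subgroupOf.mpr hy), rfl⟩
    have hR := hmax _ hR1 hR2 hR3
    have hTQ : (T : Subgroup N) = Q.subgroupOf N := by
      rw [← Subgroup.comap_map_eq_self_of_injective N.subtype_injective (T : Subgroup N), hR]
      rfl
    obtain ⟨n, hn⟩ := IsPGroup.iff_card.mp hQ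
    have hmod := Sylow.card_quotient_normalizer_modEq_card_quotient hn
    have hTidx : ¬ q ∣ (T : Subgroup N).index := T.not_dvd_index
    intro hdvd
    apply hTidx
    rw [hTQ, Subgroup.index]
    exact (hmod.dvd_iff (dvd_refl q)).mpr hdvd


/-- Let G be a finite group, p a prime and x ∈ G an isolated element of order p (the only conjugate of x commuting with x is x) which is not central modulo the largest normal subgroup of order prime to p, while x is central modulo the largest normal subgroup of order prime to p in every proper subgroup containing x, and the image of x is so in every quotient of G by a nontrivial normal subgroup (a minimal counterexample to the Z*_p statement). Then for every prime q, every q-subgroup of G that is normalized by x and maximal among the q-subgroups normalized by x is either trivial or a Sylow q-subgroup of G; and C_G(x) permutes the x-invariant Sylow q-subgroups of G transitively by conjugation. -/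
theorem result {G : Type*} [Group G] [Finite G] {p : ℕ} [Fact p.Prime] (x : G) (hx : orderOf x = p) (hiso : Cfsg.IsIsolated x) (hnz : ¬ Cfsg.InZStar p x) (hmin : ∀ (H : Subgroup G) (hxH : x ∈ H), H ≠ ⊤ → Cfsg.InZStar p (⟨x, hxH⟩ : ↥H)) (hquot : ∀ (N : Subgroup G) [N.Normal], N ≠ ⊥ → Cfsg.InZStar p (QuotientGroup.mk x : G ⧸ N)) (q : ℕ) [Fact q.Prime] : (∀ Q : Subgroup G, IsPGroup q ↥Q → x ∈ Subgroup.normalizer (Q : Set G) → (∀ R : Subgroup G, IsPGroup q ↥R → x ∈ Subgroup.normalizer (R : Set G) → Q ≤ R → R = Q) → Q = ⊥ ∨ ∃ S : Sylow q G, (S : Subgroup G) = Q) ∧ (∀ S₁ S₂ : Sylow q G, x ∈ Subgroup.normalizer ((S₁ : Subgroup G) : Set G) → x ∈ Subgroup.normalizer ((S₂ : Subgroup G) : Set G) → ∃ c ∈ Subgroup.centralizer ({x} : Set G), (S₁ : Subgroup G).map (MulAut.conj c).toMonoidHom = (S₂ : Subgroup G)) := by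
  refine ⟨?_, ?_⟩
  · intro Q hQ hxQ hmax
    exact part1 x hx hmin hquot q Q hQ hxQ hmax
  · intro S₁ S₂ h1 h2
    exact part2 x hx hiso hmin q S₁ S₂ h1 h2

end Cfsg.Agent.S2975
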