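import Cfsg.Statements.S2998

set_option autoImplicit false
open Cfsg
open scoped Pointwise

namespace Cfsg.Agent.S2998

/-- Sylow conjugacy inside a subgroup `K`, stated at the level of `G`. -/
theorem sylow_conj_in_subgroup {G : Type*} [Group G] [Finite G] {p : ℕ} [Fact p.Prime]
    {K R₀ Q : Subgroup G} (hR₀ : IsPGroup p R₀)
    (hidx : ¬ p ∣ R₀.relIndex K) (hQ : IsPGroup p Q) (hQK : Q ≤ K) :
    ∃ r ∈ K, Q ≤ R₀.map (MulAut.conj r).toMonoidHom := by
  have hR₀' : IsPGroup p (R₀.subgroupOf K) := hR₀.comap_subtype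
  let S₀ : Sylow p K := hR₀'.toSylow hidx
  have hQ' : IsPGroup p (Q.subgroupOf K) := hQ.comap_subtype
  obtain ⟨S, hS⟩ := hQ'.exists_le_sylow
  obtain ⟨r, hr⟩ := MulAction.exists_smul_eq K S₀ S
  refine ⟨r, r.2, ?_⟩
  intro q hq
  have hqS : (⟨q, hQK hq⟩ : K) ∈ S := hS (by simpa [Subgroup.mem_subgroupOf] using hq)
  rw [← hr] at hqS
  have h2 : (⟨q, hQK hq⟩ : K) ∈ MulAut.conj r • (S₀ : Subgroup K) := hqS
  rw [Subgroup.mem_pointwise_smul_iff_inv_smul_mem] at h2
  have h3 : (MulAut.conj r)⁻¹ • (⟨q, hQK hq⟩ : K) ∈ R₀.subgroupOf K := h2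
  rw [Subgroup.mem_subgroupOf] at h3
  refine ⟨_, h3, ?_⟩
  simp [MulAut.smul_def, MulAut.conj_apply, mul_assoc]

theorem relIndex_sup_normal {G : Type*} [Group G] [Finite G] (H N : Subgroup G) [N.Normal] :
    H.relIndex (H ⊔ N) = H.relIndex N := by
  have c1 := Subgroup.relIndex_mul_relIndex (H := H ⊓ N) (K := H) (L := H ⊔ N) inf_le_left le_sup_left
  have c2 := Subgroup.relIndex_mul_relIndex (H := H ⊓ N) (K := N) (L := H ⊔ N) inf_le_right le_sup_right
  have e1 : N.relIndex (H ⊔ N) = (H ⊓ N).relIndex H := by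
    rw [Subgroup.relIndex_sup_right, Subgroup.inf_relIndex_left]
  have e2 : (H ⊓ N).relIndex N = H.relIndex N := Subgroup.inf_relIndex_right H N
  rw [e1, e2, ← c1, mul_comm] at c2
  have hne : (H ⊓ N).relIndex H ≠ 0 := by
    rw [Subgroup.relIndex]; exact Subgroup.index_ne_zero_of_finite
  exact (Nat.eq_of_mul_eq_mul_left (Nat.pos_of_ne_zero hne) c2).symm

/-- If two conjugates of a finite subgroup coincide, the quotient of the conjugating elements normalizes. -/
theorem mem_normalizer_of_map_conj_eq {G : Type*} [Group G] {P : Subgroup G} {g r : G}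
    (heq : P.map (MulAut.conj g).toMonoidHom = P.map (MulAut.conj r).toMonoidHom) :
    r⁻¹ * g ∈ Subgroup.normalizer (P : Set G) := by
  rw [Subgroup.mem_normalizer_iff]
  intro h
  have e1 : ∀ h, h ∈ P → r⁻¹ * g * h * (r⁻¹ * g)⁻¹ ∈ P := by
    intro h hh
    have : g * h * g⁻¹ ∈ P.map (MulAut.conj r).toMonoidHom := by
      rw [← heq]; exact ⟨h, hh, by simp⟩
    obtain ⟨b, hb, hbe⟩ := this
    simp only [MulEquiv.coe_toMonoidHom, MulAut.conj_apply] at hbe
    have : r⁻¹ * g * h * (r⁻¹ * g)⁻¹ = b := by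
      calc r⁻¹ * g * h * (r⁻¹ * g)⁻¹ = r⁻¹ * (g * h * g⁻¹) * r := by group
        _ = r⁻¹ * (r * b * r⁻¹) * r := by rw [hbe]
        _ = b := by group
    rw [this]; exact hb
  have e2 : ∀ h, r⁻¹ * g * h * (r⁻¹ * g)⁻¹ ∈ P → h ∈ P := by
    intro h hh
    have : r * (r⁻¹ * g * h * (r⁻¹ * g)⁻¹) * r⁻¹ ∈ P.map (MulAut.conj g).toMonoidHom := by
      rw [heq]; exact ⟨_, hh, by simp⟩
    obtain ⟨b, hb, hbe⟩ := this
    simp only [MulEquiv.coe_toMonoidHom, MulAut.conj_apply] at hbe
    have : h = b := by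
      have e : g * b * g⁻¹ = g * h * g⁻¹ := by rw [hbe]; group
      have : g⁻¹ * (g * b * g⁻¹) * g = g⁻¹ * (g * h * g⁻¹) * g := by rw [e]
      simpa [mul_assoc] using this.symm
    rw [this]; exact hb
  exact ⟨e1 h, e2 h⟩

theorem result {G : Type*} [Group G] [Finite G] {p : ℕ} [Fact p.Prime] (P : Sylow p G) (x : G) (hxP : x ∈ (P : Subgroup G)) (hlc : ∀ R : Subgroup G, R ≤ (P : Subgroup G) → R ≠ ⊥ → Subgroup.normalizer (R : Set G) ≤ Subgroup.centralizer ({x} : Set G)) : (P : Subgroup G) ≤ Subgroup.centralizer ({x} : Set G) ∧ (∀ g : G, g * x * g⁻¹ ∈ (P : Subgroup G) → g * x * g⁻¹ = x) ∧ ∀ (N : Subgroup G) [N.Normal], ∀ R : Subgroup (G ⧸ N), R ≤ (P : Subgroup G).map (QuotientGroup.mk' N) → R ≠ ⊥ → Subgroup.normalizer (R : Set (G ⧸ N)) ≤ Subgroup.centralizer ({(QuotientGroup.mk x : G ⧸ N)} : Set (G ⧸ N)) := by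
  have h1 : (P : Subgroup G) ≤ Subgroup.centralizer ({x} : Set G) := by
    by_cases hP : (P : Subgroup G) = ⊥
    · rw [hP]; exact bot_le
    · exact le_trans Subgroup.le_normalizer (hlc _ le_rfl hP)
  have hcent : ∀ c : G, c ∈ Subgroup.centralizer ({x} : Set G) ↔ c * x * c⁻¹ = x := by
    intro c
    rw [Subgroup.mem_centralizer_singleton_iff]
    constructor
    · intro h; rw [h]; group
    · intro h
      calc c * x = c * x * c⁻¹ * c := by group
        _ = x * c := by rw [h]
  have h2 : ∀ g : G, g * x * g⁻¹ ∈ (P : Subgroup G) → g * x * g⁻¹ = x := by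
    intro g hg
    by_cases hx1 : x = 1
    · subst hx1; simp
    set y := g * x * g⁻¹ with hy
    have hy1 : y ≠ 1 := by
      intro h
      apply hx1
      have : x = g⁻¹ * y * g := by rw [hy]; group
      rw [this, h]; group
    -- `C_G(y) ≤ C_G(x)`
    have hCy : Subgroup.centralizer ({y} : Set G) ≤ Subgroup.centralizer ({x} : Set G) := by
      refine le_trans ?_ (hlc (Subgroup.zpowers y) ?_ ?_)
      · intro c hc
        rw [Subgroup.mem_centralizer_singleton_iff] at hc
        rw [Subgroup.mem_normalizer_iff]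
        intro h
        have key : ∀ h, h ∈ Subgroup.zpowers y → c * h * c⁻¹ = h := by
          intro h hh
          obtain ⟨k, rfl⟩ := hh
          have : Commute c (y ^ k) := (Commute.zpow_right hc k)
          rw [this.eq]; group
        constructor
        · intro hh; rw [key h hh]; exact hh
        · intro hh
          have := key _ hh
          have h' : c * h * c⁻¹ = h := by
            have e : c * (c * h * c⁻¹) * c⁻¹ = c * h * c⁻¹ := this
            have : c⁻¹ * (c * (c * h * c⁻¹) * c⁻¹) * c = c⁻¹ * (c * h * c⁻¹) * c := by rw [e]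
            simpa [mul_assoc] using this
          rw [← h']; exact hh
      · rw [Subgroup.zpowers_le]; exact hg
      · rwa [Ne, Subgroup.zpowers_eq_bot]
    -- `g P g⁻¹ ≤ C_G(y) ≤ C_G(x)`
    have hgP : (P : Subgroup G).map (MulAut.conj g).toMonoidHom ≤ Subgroup.centralizer ({x} : Set G) := by
      refine le_trans ?_ hCy
      rintro _ ⟨a, ha, rfl⟩
      have hax : a * x = x * a := Subgroup.mem_centralizer_singleton_iff.mp (h1 ha)
      rw [Subgroup.mem_centralizer_singleton_iff]
      simp only [MulEquiv.coe_toMonoidHom, MulAut.conj_apply, hy]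
      calc g * a * g⁻¹ * (g * x * g⁻¹) = g * (a * x) * g⁻¹ := by group
        _ = g * (x * a) * g⁻¹ := by rw [hax]
        _ = g * x * g⁻¹ * (g * a * g⁻¹) := by group
    -- `P` is a Sylow subgroup of `C_G(x)`
    have hidx : ¬ p ∣ (P : Subgroup G).relIndex (Subgroup.centralizer ({x} : Set G)) := by
      intro h
      exact P.not_dvd_index (h.trans (Subgroup.relIndex_dvd_index_of_le h1))
    obtain ⟨r, hr, hle⟩ := sylow_conj_in_subgroup (K := Subgroup.centralizer ({x} : Set G))
      P.isPGroup' hidx (P.isPGroup'.map (MulAut.conj g).toMonoidHom) hgP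
    have hPne : (P : Subgroup G) ≠ ⊥ := by
      intro h; rw [h] at hxP; exact hx1 (Subgroup.mem_bot.mp hxP)
    have hcard : Nat.card ((P : Subgroup G).map (MulAut.conj g).toMonoidHom) =
        Nat.card ((P : Subgroup G).map (MulAut.conj r).toMonoidHom) := by
      rw [Subgroup.card_map_of_injective (MulAut.conj g).injective,
        Subgroup.card_map_of_injective (MulAut.conj r).injective]
    have heq : (P : Subgroup G).map (MulAut.conj g).toMonoidHom =
        (P : Subgroup G).map (MulAut.conj r).toMonoidHom :=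
      Subgroup.eq_of_le_of_card_ge hle (le_of_eq hcard.symm)
    have hnorm : r⁻¹ * g ∈ Subgroup.normalizer ((P : Subgroup G) : Set G) :=
      mem_normalizer_of_map_conj_eq heq
    have hrg : r⁻¹ * g ∈ Subgroup.centralizer ({x} : Set G) := hlc _ le_rfl hPne hnorm
    have hgc : g ∈ Subgroup.centralizer ({x} : Set G) := by
      have := Subgroup.mul_mem _ hr hrg
      simpa using this
    exact (hcent g).mp hgc
  refine ⟨h1, h2, ?_⟩
  intro N _ R hR hRne
  intro gbar hgbar
  obtain ⟨g, rfl⟩ := QuotientGroup.mk_surjective gbar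
  set π := QuotientGroup.mk' N with hπ
  set Rt : Subgroup G := R.comap π with hRt
  set R₀ : Subgroup G := (P : Subgroup G) ⊓ Rt with hR₀
  have hNRt : N ≤ Rt := by
    intro n hn
    rw [hRt, Subgroup.mem_comap]
    have : π n = 1 := by rw [hπ]; simpa using hn
    rw [this]; exact R.one_mem
  -- `Rt = R₀ ⊔ N`
  have hsup : Rt = R₀ ⊔ N := by
    apply le_antisymm
    · intro r hr
      have hr' : π r ∈ R := hr
      obtain ⟨a, ha, hae⟩ := hR hr'
      have haRt : a ∈ Rt := by rw [hRt, Subgroup.mem_comap, hae]; exact hr'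
      have haR₀ : a ∈ R₀ := ⟨ha, haRt⟩
      have hn : a⁻¹ * r ∈ N := by
        have : π (a⁻¹ * r) = 1 := by rw [map_mul, map_inv, hae]; group
        rw [hπ] at this
        exact (QuotientGroup.eq_one_iff _).mp this
      have : r = a * (a⁻¹ * r) := by group
      rw [this]
      exact Subgroup.mul_mem_sup haR₀ hn
    · exact sup_le inf_le_right hNRt
  -- `R₀ ≠ ⊥`
  have hR₀ne : R₀ ≠ ⊥ := by
    intro h
    apply hRne
    rw [eq_bot_iff]
    intro r hr
    obtain ⟨a, ha, hae⟩ := hR hr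
    have haRt : a ∈ Rt := by rw [hRt, Subgroup.mem_comap, hae]; exact hr
    have : a ∈ R₀ := ⟨ha, haRt⟩
    rw [h, Subgroup.mem_bot] at this
    rw [← hae, this, map_one]; exact Subgroup.mem_bot.mpr rfl
  -- index computation
  have hidx : ¬ p ∣ R₀.relIndex Rt := by
    have e1 : R₀.relIndex Rt = R₀.relIndex N := by
      rw [hsup]; exact relIndex_sup_normal R₀ N
    have e2 : R₀.relIndex N = (P : Subgroup G).relIndex N := by
      rw [← Subgroup.inf_relIndex_right R₀ N, ← Subgroup.inf_relIndex_right (P : Subgroup G) N]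
      congr 1
      rw [hR₀, inf_assoc, inf_eq_right.mpr hNRt]
    have e3 : (P : Subgroup G).relIndex N = (P : Subgroup G).relIndex ((P : Subgroup G) ⊔ N) :=
      (relIndex_sup_normal _ N).symm
    rw [e1, e2, e3]
    intro h
    exact P.not_dvd_index (h.trans (Subgroup.relIndex_dvd_index_of_le le_sup_left))
  have hR₀p : IsPGroup p R₀ := P.isPGroup'.to_le inf_le_left
  -- `g` normalizes `Rt`
  have hgRt : ∀ r ∈ Rt, g * r * g⁻¹ ∈ Rt := by
    intro r hr
    rw [hRt, Subgroup.mem_comap, map_mul, map_mul, map_inv]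
    have := (Subgroup.mem_normalizer_iff.mp hgbar (π r)).mp hr
    exact this
  have hgR₀ : R₀.map (MulAut.conj g).toMonoidHom ≤ Rt := by
    rintro _ ⟨a, ha, rfl⟩
    exact hgRt a ha.2
  obtain ⟨r, hr, hle⟩ := sylow_conj_in_subgroup (K := Rt) hR₀p hidx
    (hR₀p.map (MulAut.conj g).toMonoidHom) hgR₀
  have hcard : Nat.card (R₀.map (MulAut.conj g).toMonoidHom) =
      Nat.card (R₀.map (MulAut.conj r).toMonoidHom) := by
    rw [Subgroup.card_map_of_injective (MulAut.conj g).injective,
      Subgroup.card_map_of_injective (MulAut.conj r).injective]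
  have heq : R₀.map (MulAut.conj g).toMonoidHom = R₀.map (MulAut.conj r).toMonoidHom :=
    Subgroup.eq_of_le_of_card_ge hle (le_of_eq hcard.symm)
  have hnorm : r⁻¹ * g ∈ Subgroup.normalizer (R₀ : Set G) := mem_normalizer_of_map_conj_eq heq
  have hrg : r⁻¹ * g ∈ Subgroup.centralizer ({x} : Set G) := hlc R₀ inf_le_left hR₀ne hnorm
  -- `π r` commutes with `π x`
  have hrx : π r * π x = π x * π r := by
    have hr' : π r ∈ R := hr
    obtain ⟨a, ha, hae⟩ := hR hr'
    have hax : a * x = x * a := Subgroup.mem_centralizer_singleton_iff.mp (h1 ha)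
    rw [← hae, ← map_mul, ← map_mul, hax]
  have hrgx : π (r⁻¹ * g) * π x = π x * π (r⁻¹ * g) := by
    have := Subgroup.mem_centralizer_singleton_iff.mp hrg
    rw [← map_mul, ← map_mul, this]
  rw [Subgroup.mem_centralizer_singleton_iff]
  have hg : (QuotientGroup.mk g : G ⧸ N) = π r * π (r⁻¹ * g) := by
    rw [← map_mul]; simp [hπ]
  have hxx : (QuotientGroup.mk x : G ⧸ N) = π x := rfl
  rw [hg, hxx, mul_assoc, hrgx, ← mul_assoc, hrx, mul_assoc]

end Cfsg.Agent.S2998
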