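import Cfsg.Statements.S3003
import Cfsg.Agent.Lib.Helper48_Generation

set_option autoImplicit false
open Cfsg

namespace Cfsg.Agent.S3003

/-- A `p`-subgroup meets a `p'`-subgroup trivially. -/
theorem mem_p_inf_coprime {G : Type*} [Group G] [Finite G] {p : ℕ} [Fact p.Prime]
    (Q R : Subgroup G) (hQp : IsPGroup p ↥Q) (hR : (Nat.card ↥R).Coprime p) (y : G)
    (hyQ : y ∈ Q) (hyR : y ∈ R) : y = 1 := by
  obtain ⟨k, hk⟩ := hQp ⟨y, hyQ⟩
  have hk' : y ^ p ^ k = 1 := congrArg Subtype.val hk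
  have h1 : orderOf y ∣ p ^ k := orderOf_dvd_of_pow_eq_one hk'
  have h2 : orderOf y ∣ Nat.card R := Subgroup.orderOf_dvd_natCard R hyR
  have h3 : Nat.Coprime (Nat.card R) (p ^ k) := Nat.Coprime.pow_right k hR
  have h4 : orderOf y ∣ 1 := by
    have := Nat.dvd_gcd h2 h1
    rwa [h3] at this
  exact orderOf_eq_one_iff.mp (Nat.dvd_one.mp h4)

/-- Part (a). -/
theorem part_a {G : Type*} [Group G] [Finite G] {p : ℕ} [Fact p.Prime] (Q : Subgroup G)
    (hQp : IsPGroup p ↥Q) (hlarge : Cfsg.IsLarge Q) (G₁ : Subgroup G) (hQG : Q ≤ G₁)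
    (R : Subgroup G) (hR : (Nat.card ↥R).Coprime p)
    (hGR : G₁ ≤ Subgroup.normalizer (R : Set G)) (U : Subgroup G)
    (h : ∃ x ∈ U, x ≠ 1 ∧ ∃ g ∈ G₁, g * x * g⁻¹ ∈ Q ⊓ Subgroup.centralizer (Q : Set G)) :
    R ⊓ Subgroup.centralizer (U : Set G) = ⊥ := by
  obtain ⟨x, hxU, hx1, g, hg, hz⟩ := h
  rw [eq_bot_iff]
  intro r hr
  rw [Subgroup.mem_bot]
  obtain ⟨hrR, hrU⟩ := Subgroup.mem_inf.mp hr
  have hrx : x * r = r * x := (Subgroup.mem_centralizer_iff.mp hrU) x hxU
  set z := g * x * g⁻¹ with hzdef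
  set r' := g * r * g⁻¹ with hr'def
  have hr'R : r' ∈ R := (Subgroup.mem_normalizer_iff.mp (hGR hg) r).mp hrR
  have hr'z : z * r' = r' * z := by
    rw [hzdef, hr'def]
    calc g * x * g⁻¹ * (g * r * g⁻¹) = g * (x * r) * g⁻¹ := by group
      _ = g * (r * x) * g⁻¹ := by rw [hrx]
      _ = g * r * g⁻¹ * (g * x * g⁻¹) := by group
  have hz1 : z ≠ 1 := by
    intro h1
    apply hx1
    have : x = g⁻¹ * z * g := by rw [hzdef]; group
    rw [this, h1]; group
  obtain ⟨hzQ, hzC⟩ := Subgroup.mem_inf.mp hz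
  -- `r'` normalizes `⟨z⟩`, hence `Q`.
  have hZ1 : Subgroup.zpowers z ≤ Subgroup.centralizer (Q : Set G) := Subgroup.zpowers_le.mpr hzC
  have hZ2 : Subgroup.zpowers z ≠ ⊥ := by
    intro h0
    exact hz1 (Subgroup.zpowers_eq_bot.mp h0)
  have hN := hlarge.2 _ hZ1 hZ2
  have hr'N : r' ∈ Subgroup.normalizer ((Subgroup.zpowers z : Subgroup G) : Set G) := by
    apply Subgroup.centralizer_le_normalizer
    rw [Subgroup.zpowers_eq_closure, Subgroup.centralizer_closure,
      Subgroup.mem_centralizer_singleton_iff]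
    exact hr'z.symm
  have hr'Q : r' ∈ Subgroup.normalizer (Q : Set G) := hN hr'N
  -- `r'` centralizes `Q`.
  have hr'C : r' ∈ Subgroup.centralizer (Q : Set G) := by
    rw [Subgroup.mem_centralizer_iff]
    intro q hq
    have h1 : r' * q * r'⁻¹ ∈ Q := (Subgroup.mem_normalizer_iff.mp hr'Q q).mp hq
    have h2 : r' * q * r'⁻¹ * q⁻¹ ∈ Q := Q.mul_mem h1 (Q.inv_mem hq)
    have h3 : q * r'⁻¹ * q⁻¹ ∈ R :=
      (Subgroup.mem_normalizer_iff.mp (hGR (hQG hq)) r'⁻¹).mp (R.inv_mem hr'R)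
    have h4 : r' * q * r'⁻¹ * q⁻¹ ∈ R := by
      have : r' * q * r'⁻¹ * q⁻¹ = r' * (q * r'⁻¹ * q⁻¹) := by group
      rw [this]
      exact R.mul_mem hr'R h3
    have h5 := mem_p_inf_coprime Q R hQp hR _ h2 h4
    calc q * r' = (r' * q * r'⁻¹ * q⁻¹)⁻¹ * (r' * q) := by group
      _ = r' * q := by rw [h5]; group
  have hr'1 : r' = 1 := mem_p_inf_coprime Q R hQp hR _ (hlarge.1 hr'C) hr'R
  have : r = g⁻¹ * r' * g := by rw [hr'def]; group
  rw [this, hr'1]; group

/-- Generation step: if `C_R(C) ≠ 1` for a non-maximal proper subgroup `C` of an elementary abelian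
`p`-group `U` normalizing the `p'`-group `R`, then `C` can be enlarged. -/
theorem enlarge {G : Type*} [Group G] [Finite G] {p : ℕ} [Fact p.Prime]
    (R : Subgroup G) (hR : (Nat.card ↥R).Coprime p) (U : Subgroup G)
    (hUR : U ≤ Subgroup.normalizer (R : Set G)) (hU : Cfsg.IsElementaryAbelian p U)
    (C D : Subgroup G) (hCD : C < D) (hDU : D < U)
    (hC : R ⊓ Subgroup.centralizer (C : Set G) ≠ ⊥) :
    ∃ C' : Subgroup G, C < C' ∧ C' ≤ U ∧ R ⊓ Subgroup.centralizer (C' : Set G) ≠ ⊥ := by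
  obtain ⟨a, haD, haC⟩ := SetLike.exists_of_lt hCD
  obtain ⟨b, hbU, hbD⟩ := SetLike.exists_of_lt hDU
  have haU : a ∈ U := hDU.le haD
  have hCU : C ≤ U := hCD.le.trans hDU.le
  have hcomm : ∀ u ∈ U, ∀ v ∈ U, u * v = v * u := by
    intro u hu v hv
    have := hU.1.is_comm.comm ⟨u, hu⟩ ⟨v, hv⟩
    exact congrArg Subtype.val this
  set K := R ⊓ Subgroup.centralizer (C : Set G) with hKdef
  have hKcop : ¬ p ∣ Nat.card K := by
    intro hdiv
    have h1 : p ∣ Nat.card R := hdiv.trans (Subgroup.card_dvd_of_le inf_le_left)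
    have h2 : p ∣ Nat.gcd (Nat.card R) p := Nat.dvd_gcd h1 dvd_rfl
    rw [hR] at h2
    exact (Fact.out : p.Prime).one_lt.ne' (Nat.dvd_one.mp h2)
  have hnorm : ∀ u ∈ U, u ∈ Subgroup.normalizer (K : Set G) := by
    intro u hu
    have key : ∀ v ∈ U, ∀ y ∈ K, v * y * v⁻¹ ∈ K := by
      intro v hv y hy
      obtain ⟨hyR, hyC⟩ := Subgroup.mem_inf.mp hy
      refine Subgroup.mem_inf.mpr ⟨(Subgroup.mem_normalizer_iff.mp (hUR hv) y).mp hyR, ?_⟩
      rw [Subgroup.mem_centralizer_iff]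
      intro c hc
      have h1 : c * y = y * c := (Subgroup.mem_centralizer_iff.mp hyC) c hc
      have h2 : c * v = v * c := hcomm c (hCU hc) v hv
      have h3 : c * v⁻¹ = v⁻¹ * c := hcomm c (hCU hc) v⁻¹ (U.inv_mem hv)
      calc c * (v * y * v⁻¹) = (c * v) * y * v⁻¹ := by group
        _ = v * (c * y) * v⁻¹ := by rw [h2]; group
        _ = v * y * (c * v⁻¹) := by rw [h1]; group
        _ = v * y * v⁻¹ * c := by rw [h3]; group
    rw [Subgroup.mem_normalizer_iff]
    intro y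
    refine ⟨key u hu y, fun h => ?_⟩
    have := key u⁻¹ (U.inv_mem hu) _ h
    have e : u⁻¹ * (u * y * u⁻¹) * u⁻¹⁻¹ = y := by group
    rwa [e] at this
  have hap : a ^ p = 1 := hU.2 a haU
  have hbp : b ^ p = 1 := hU.2 b hbU
  have hab : a * b = b * a := hcomm a haU b hbU
  -- some `c ∈ {b, a b^i}` has nontrivial centralizer in `K`
  have hex : ∃ c ∈ U, c ∉ C ∧ K ⊓ Subgroup.centralizer ({c} : Set G) ≠ ⊥ := by
    by_contra hcon
    push Not at hcon
    have hbC : b ∉ C := fun h => hbD (hCD.le h)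
    have hTb : K ⊓ Subgroup.centralizer ({b} : Set G) ≤ ⊥ := (hcon b hbU hbC).le
    have hTa : ∀ i : ℕ, K ⊓ Subgroup.centralizer ({a * b ^ i} : Set G) ≤ ⊥ := by
      intro i
      refine (hcon (a * b ^ i) (U.mul_mem haU (U.pow_mem hbU i)) ?_).le
      intro hmem
      -- `a b^i ∈ C ≤ D`, so `b^i ∈ D`
      have hbi : b ^ i ∈ D := by
        have : b ^ i = a⁻¹ * (a * b ^ i) := by group
        rw [this]
        exact D.mul_mem (D.inv_mem haD) (hCD.le hmem)
      by_cases hpi : p ∣ i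
      · obtain ⟨k, rfl⟩ := hpi
        rw [pow_mul, hbp, one_pow, mul_one] at hmem
        exact haC hmem
      · have hco : Nat.Coprime i p :=
          ((Nat.Prime.coprime_iff_not_dvd (Fact.out : p.Prime)).mpr hpi).symm
        have hco' : Nat.Coprime i (orderOf b) :=
          Nat.Coprime.coprime_dvd_right (orderOf_dvd_of_pow_eq_one hbp) hco
        obtain ⟨m, hm⟩ := exists_pow_eq_self_of_coprime hco'
        apply hbD
        rw [← hm]
        exact D.pow_mem hbi m
    have hK := Cfsg.Agent.Lib.Helper48_Generation.le_of_centralizers_le (p := p) K hKcop a b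
      (hnorm a haU) (hnorm b hbU) hap hbp hab ⊥ hTb hTa
    exact hC (le_bot_iff.mp hK)
  obtain ⟨c, hcU, hcC, hcK⟩ := hex
  refine ⟨C ⊔ Subgroup.zpowers c, ?_, sup_le hCU (Subgroup.zpowers_le.mpr hcU), ?_⟩
  · refine lt_of_le_of_ne le_sup_left ?_
    intro heq
    apply hcC
    rw [heq]
    exact (le_sup_right : Subgroup.zpowers c ≤ _) (Subgroup.mem_zpowers c)
  · intro hbot
    apply hcK
    rw [eq_bot_iff, ← hbot]
    intro y hy
    obtain ⟨hyK, hyc⟩ := Subgroup.mem_inf.mp hy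
    obtain ⟨hyR, hyC⟩ := Subgroup.mem_inf.mp hyK
    refine Subgroup.mem_inf.mpr ⟨hyR, ?_⟩
    have hle : C ⊔ Subgroup.zpowers c ≤ Subgroup.centralizer ({y} : Set G) := by
      refine sup_le ?_ (Subgroup.zpowers_le.mpr ?_)
      · intro d hd
        rw [Subgroup.mem_centralizer_singleton_iff]
        first
          | exact ((Subgroup.mem_centralizer_iff.mp hyC) d hd).symm
          | exact ((Subgroup.mem_centralizer_iff.mp hyC) d hd)
      · rw [Subgroup.mem_centralizer_singleton_iff]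
        first
          | exact (Subgroup.mem_centralizer_singleton_iff.mp hyc).symm
          | exact (Subgroup.mem_centralizer_singleton_iff.mp hyc)
    rw [Subgroup.mem_centralizer_iff]
    intro d hd
    first
      | exact ((Subgroup.mem_centralizer_singleton_iff.mp (hle hd))).symm
      | exact ((Subgroup.mem_centralizer_singleton_iff.mp (hle hd)))

/-- Let G be a finite group, p a prime and Q a large p-subgroup of G: C_G(Q) ≤ Q and N_G(U) ≤ N_G(Q) for every nontrivial subgroup U of C_G(Q). Let Q ≤ G₁ ≤ G, let R be a subgroup of order prime to p normalized by G₁, and let U ≤ G₁ be a p-subgroup. If U contains a nontrivial element which is G₁-conjugate to an element of Z(Q), then C_R(U) = 1. In particular, if U is elementary abelian of order at least p² and every maximal subgroup of U contains a nontrivial element G₁-conjugate into Z(Q), then R = 1. -/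
theorem result {G : Type*} [Group G] [Finite G] {p : ℕ} [Fact p.Prime] (Q : Subgroup G) (hQp : IsPGroup p ↥Q) (hlarge : Cfsg.IsLarge Q) (G₁ : Subgroup G) (hQG : Q ≤ G₁) (R : Subgroup G) (hR : (Nat.card ↥R).Coprime p) (hGR : G₁ ≤ Subgroup.normalizer (R : Set G)) (U : Subgroup G) (hUG : U ≤ G₁) (hUp : IsPGroup p ↥U) : ((∃ x ∈ U, x ≠ 1 ∧ ∃ g ∈ G₁, g * x * g⁻¹ ∈ Q ⊓ Subgroup.centralizer (Q : Set G)) → R ⊓ Subgroup.centralizer (U : Set G) = ⊥) ∧ (Cfsg.IsElementaryAbelian p U → p ^ 2 ≤ Nat.card ↥U → (∀ U₀ : Subgroup G, U₀ ≤ U → IsCoatom (U₀.subgroupOf U) → ∃ x ∈ U₀, x ≠ 1 ∧ ∃ g ∈ G₁, g * x * g⁻¹ ∈ Q ⊓ Subgroup.centralizer (Q : Set G)) → R = ⊥) := by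
  refine ⟨part_a Q hQp hlarge G₁ hQG R hR hGR U, ?_⟩
  intro hU hcard hcoatom
  by_contra hRne
  -- the set of `C ≤ U` with `C_R(C) ≠ 1`
  have hfin : (Set.univ : Set (Subgroup G)).Finite := Set.finite_univ
  let S : Set (Subgroup G) := {C | C ≤ U ∧ R ⊓ Subgroup.centralizer (C : Set G) ≠ ⊥}
  have hSne : S.Nonempty := by
    refine ⟨⊥, bot_le, ?_⟩
    intro h
    apply hRne
    rw [eq_bot_iff, ← h]
    intro y hy
    refine Subgroup.mem_inf.mpr ⟨hy, ?_⟩
    rw [Subgroup.mem_centralizer_iff]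
    intro d hd
    rw [SetLike.mem_coe, Subgroup.mem_bot] at hd
    rw [hd]; simp
  obtain ⟨C, hCS, hCmax⟩ := (Set.toFinite S).exists_maximal hSne
  obtain ⟨hCU, hCne⟩ := hCS
  -- `U` is nontrivial
  have hUnt : U ≠ ⊥ := by
    intro h
    rw [h, Subgroup.card_bot] at hcard
    have := (Fact.out : p.Prime).one_lt
    nlinarith
  -- coatoms kill
  have hkill : ∀ U₀ : Subgroup G, U₀ ≤ U → IsCoatom (U₀.subgroupOf U) →
      R ⊓ Subgroup.centralizer (U₀ : Set G) = ⊥ := by
    intro U₀ hU₀ hco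
    exact part_a Q hQp hlarge G₁ hQG R hR hGR U₀ (hcoatom U₀ hU₀ hco)
  -- characterization of coatoms
  have hcoat : ∀ U₀ : Subgroup G, U₀ < U → (∀ D : Subgroup G, U₀ < D → D ≤ U → D = U) →
      IsCoatom (U₀.subgroupOf U) := by
    intro U₀ hlt hmax
    constructor
    · intro h
      rw [Subgroup.subgroupOf_eq_top] at h
      exact hlt.not_ge h
    · intro B hB
      have h1 : (U₀.subgroupOf U).map U.subtype = U₀ := by
        rw [Subgroup.subgroupOf_map_subtype]
        exact inf_eq_left.mpr hlt.le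
      have h2 : U₀ < B.map U.subtype := by
        rw [← h1]
        exact (Subgroup.map_lt_map_iff_of_injective U.subtype_injective).mpr hB
      have h3 := hmax _ h2 (Subgroup.map_subtype_le B)
      rw [eq_top_iff]
      intro u _
      have : (u : G) ∈ B.map U.subtype := by rw [h3]; exact u.2
      obtain ⟨v, hv, hvu⟩ := this
      have : v = u := Subtype.ext hvu
      rwa [← this]
  by_cases hCeq : C = U
  · -- any coatom works
    have : Finite ↥U := inferInstance
    have hnt : Nontrivial (Subgroup ↥U) := by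
      rw [Subgroup.nontrivial_iff]
      exact (Subgroup.nontrivial_iff_ne_bot U).mpr hUnt
    obtain ⟨B, hB⟩ := (IsCoatomic.exists_coatom (Subgroup ↥U))
    have hB' : IsCoatom ((B.map U.subtype).subgroupOf U) := by
      have : (B.map U.subtype).subgroupOf U = B :=
        Subgroup.comap_map_eq_self_of_injective U.subtype_injective B
      rw [this]; exact hB
    have := hkill (B.map U.subtype) (Subgroup.map_subtype_le B) hB'
    apply hCne
    rw [eq_bot_iff, ← this, hCeq]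
    apply inf_le_inf_left
    exact Subgroup.centralizer_le (Subgroup.map_subtype_le B)
  · have hCltU : C < U := lt_of_le_of_ne hCU hCeq
    by_cases hcoC : ∀ D : Subgroup G, C < D → D ≤ U → D = U
    · exact hCne (hkill C hCU (hcoat C hCltU hcoC))
    · push Not at hcoC
      obtain ⟨D, hCD, hDU, hDne⟩ := hcoC
      obtain ⟨C', hCC', hC'U, hC'ne⟩ := enlarge R hR U (hUG.trans hGR) hU C D hCD
        (lt_of_le_of_ne hDU hDne) hCne
      have := hCmax ⟨hC'U, hC'ne⟩ hCC'.le
      exact hCC'.not_ge this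

end Cfsg.Agent.S3003
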