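import Cfsg.Statements.S3005
import Cfsg.Agent.Lib.Helper50_CL

set_option autoImplicit false
open Cfsg
open scoped Pointwise
open Cfsg.Agent.Lib.Helper50_CD Cfsg.Agent.Lib.Helper50_CL

namespace Cfsg.Agent.S3005

theorem result {p : ℕ} [Fact p.Prime] (P : Type*) [Group P] [Finite P] (hP : IsPGroup p P) : (∀ Q : Subgroup P, Cfsg.IsCentrallyLarge Q → Cfsg.IsCentralizerLarge Q ∧ Subgroup.centralizer (Q : Set P) = Q ⊓ Subgroup.centralizer (Q : Set P)) ∧ (∀ Q : Subgroup P, Cfsg.IsCentralizerLarge Q → (Cfsg.IsCentrallyLarge Q ↔ Subgroup.centralizer (Q : Set P) ≤ Q)) ∧ (∀ Q R : Subgroup P, Cfsg.IsCentrallyLarge Q → Cfsg.IsCentrallyLarge R → ((Q ⊔ R : Subgroup P) : Set P) = (Q : Set P) * (R : Set P) ∧ Cfsg.IsCentrallyLarge (Q ⊔ R)) ∧ Cfsg.IsCentrallyLarge (Cfsg.centrallyLargeJoin P) ∧ Cfsg.IsCentrallyLarge (Cfsg.minimalCentrallyLargeJoin P) :=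
  ⟨fun _ hQ => centralizerLarge_of_centrallyLarge hQ,
   fun _ hQ => centrallyLarge_iff_of_centralizerLarge hQ,
   fun _ _ hQ hR => centrallyLarge_sup hQ hR,
   centrallyLargeJoin_isCentrallyLarge, minimalCentrallyLargeJoin_isCentrallyLarge⟩

end Cfsg.Agent.S3005
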