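import Cfsg.Statements.S3006
import Cfsg.Agent.Lib.Helper50_CL2

set_option autoImplicit false
open Cfsg
open scoped Pointwise
open Cfsg.Agent.Lib.Helper50_CD Cfsg.Agent.Lib.Helper50_CL Cfsg.Agent.Lib.Helper50_CL2

namespace Cfsg.Agent.S3006

theorem result {p : ℕ} [Fact p.Prime] (P : Type*) [Group P] [Finite P] (hP : IsPGroup p P) (Q A : Subgroup P) (hQ : Cfsg.IsCentrallyLarge Q) (hA : A ∈ Cfsg.maxAbelianSubgroups P) : ((Q ⊔ A : Subgroup P) : Set P) = (Q : Set P) * (A : Set P) ∧ Cfsg.IsCentrallyLarge (Q ⊔ A) ∧ (Q ⊔ A) ⊓ Subgroup.centralizer ((Q ⊓ A : Subgroup P) : Set P) = (Q ⊓ Subgroup.centralizer (Q : Set P)) ⊔ A ∧ (((Q ⊓ Subgroup.centralizer (Q : Set P)) ⊔ A : Subgroup P) : Set P) = ((Q ⊓ Subgroup.centralizer (Q : Set P)) : Set P) * (A : Set P) ∧ Subgroup.centralizer ((Cfsg.thompsonSubgroupA P ⊓ Subgroup.centralizer (Cfsg.thompsonSubgroupA P : Set P) : Subgroup P) : Set P) ≤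 Cfsg.centrallyLargeJoin P := by
  obtain ⟨h1, h2, -⟩ := cl_sup_maxAbelian hQ hA
  obtain ⟨h3, h4⟩ := cl_sup_maxAbelian_centralizer hQ hA
  refine ⟨h1, h2, h3, ?_, ?_⟩
  · rw [h4]; rfl
  · exact centralizer_center_thompsonA_le centrallyLargeJoin_isCentrallyLarge
      thompsonA_le_centrallyLargeJoin

end Cfsg.Agent.S3006
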