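import Cfsg.Statements.S3007
import Cfsg.Agent.Lib.Helper50_CL3

set_option autoImplicit false
open Cfsg
open scoped Pointwise
open Cfsg.Agent.Lib.Helper50_CD Cfsg.Agent.Lib.Helper50_CL Cfsg.Agent.Lib.Helper50_CL2
  Cfsg.Agent.Lib.Helper50_CL3

namespace Cfsg.Agent.S3007

theorem result {p : ℕ} [Fact p.Prime] (P : Type*) [Group P] [Finite P] (hP : IsPGroup p P) (Q R : Subgroup P) (hQ : Cfsg.IsMinimalCentrallyLarge Q) (hR : Cfsg.IsMinimalCentrallyLarge R) : (Q ⊓ R) ⊔ (Q ⊓ Subgroup.centralizer (Q : Set P)) = Q ∧ ⁅Q, Q⁆ = ⁅R, R⁆ ∧ Nat.card ↥Q = Nat.card ↥R ∧ Nat.card ↥(Q ⊓ Subgroup.centralizer (Q : Set P)) = Nat.card ↥(R ⊓ Subgroup.centralizer (R : Set P)) ∧ (IsMulCommutative ↥Q → ∀ X : Subgroup P, Cfsg.IsMinimalCentrallyLarge X ↔ X ∈ Cfsg.maxAbelianSubgroups P) := by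
  obtain ⟨h1, h2, h3⟩ := minimal_pair hQ hR
  exact ⟨(minimal_eq_inf_sup_center hQ hR.1).1, h1, h2, h3,
    fun hab X => minimal_iff_maxAbelian_of_commutative hQ hab X⟩

end Cfsg.Agent.S3007
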