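-- Statement S3009 (row 3009): an irreducible non-trivial `SL₂(F)`-module that is quadratic or
-- satisfies `|V| ≤ |C_V(S)|²` is the natural module.
-- Architect: helper50.  Packages: NAT-A (helper60), NAT-B, NAT-C (helper54), BQ1 (helper10),
-- BQ2, GLUE (helper68), SYL (helper50).
import Cfsg.Statements.S3009
import Cfsg.Agent.Lib.Helper50_NatDefs
import Cfsg.Agent.Lib.Helper60_Nat_NATA
import Cfsg.Agent.Lib.Helper54_Nat_NATB
import Cfsg.Agent.Lib.Helper54_Nat_NATC
import Cfsg.Agent.Lib.Helper10_Nat_BQ1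
import Cfsg.Agent.Lib.Helper68_Nat_BQ2
import Cfsg.Agent.Lib.Helper50_Nat_SYL
import Cfsg.Agent.Lib.Helper68_Nat_GLUE

set_option autoImplicit false
open Cfsg

namespace Cfsg.Agent.S3009

open Matrix Cfsg.Agent.Lib.Helper50_SL2Mat Cfsg.Agent.Lib.Helper50_NatDefs
open scoped MatrixGroups

/-- The abstract theorem: an irreducible non-trivial additive `SL(2, F)`-module `M` (a finite
`p`-group, `char F = p`) on which the upper unitriangular group acts quadratically, or with
`|M| ≤ |C_M(U)|²`, is the natural module `F²`. -/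
theorem abstract_main {F : Type*} [Field F] [Finite F] {M : Type*} [AddCommGroup M] [Finite M]
    {p : ℕ} [Fact p.Prime] [CharP F p] (ρ : SL(2, F) →* AddMonoid.End M)
    (hM : ∃ k : ℕ, Nat.card M = p ^ k) (hirr : Irr ρ) (hnt : NonTriv ρ)
    (h : Quad ρ ∨ Nat.card M ≤ Nat.card (V0 ρ) ^ 2) :
    ∃ ψ : M ≃+ (Fin 2 → F), ∀ (g : SL(2, F)) (m : M),
      ψ (ρ g m) = (g : Matrix (Fin 2) (Fin 2) F).mulVec (ψ m) := by
  have hcap : ∀ m, m ∈ V0 ρ → m ∈ V0' ρ → m = 0 := fun m h h' =>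
    Cfsg.Agent.Lib.Helper60_Nat_NATA.inf_eq_zero hirr hnt h h'
  have hq : Quad ρ := by
    rcases h with h | h
    · exact h
    · obtain ⟨hsup, v₁, hv₁, hne, hA⟩ :=
        Cfsg.Agent.Lib.Helper10_Nat_BQ1.decomp_of_card hM hnt hcap h
      exact Cfsg.Agent.Lib.Helper68_Nat_BQ2.quad_of_decomp hirr hcap hsup hv₁ hne hA
  exact Cfsg.Agent.Lib.Helper54_Nat_NATC.exists_equiv hirr hnt hq hcap
    (Cfsg.Agent.Lib.Helper60_Nat_NATA.exists_decomp hirr hnt hq)
    (fun t ht v hv => Cfsg.Agent.Lib.Helper54_Nat_NATB.A_C_inv hq hcap ht hv)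
    (fun t ht v hv => Cfsg.Agent.Lib.Helper54_Nat_NATB.C_A_inv hq hcap ht hv)
    (fun s t hs ht v hv => Cfsg.Agent.Lib.Helper54_Nat_NATB.mu_mul hq hcap hs ht hv)
    (fun s v hv => Cfsg.Agent.Lib.Helper54_Nat_NATB.C_eq hq hcap s hv)

/-- Let p be a prime and let G and V be subgroups of a finite group with V elementary abelian and normalized by G, and G isomorphic to SL₂(F) for a finite field F with pⁿ elements. Suppose G acts irreducibly and nontrivially on V by conjugation (no G-invariant subgroups of V other than 1 and V, and [V, G] ≠ 1), and let S be a Sylow p-subgroup of G and V₀ = C_V(S). If [V, S, S] = 1 or |V| ≤ |V₀|², then G acts on V as SL₂(F) on its natural two-dimensional module; in particular |V| = |F|². -/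
theorem result {X : Type*} [Group X] [Finite X] {p : ℕ} [Fact p.Prime] (G V : Subgroup X) (hV : Cfsg.IsElementaryAbelian p V) (hGV : G ≤ Subgroup.normalizer (V : Set X)) (F : Type) [Field F] [Fintype F] (n : ℕ) (hF : Fintype.card F = p ^ n) (hG : Nonempty (↥G ≃* Matrix.SpecialLinearGroup (Fin 2) F)) (hirr : ∀ U : Subgroup X, U ≤ V → G ≤ Subgroup.normalizer (U : Set X) → U = ⊥ ∨ U = V) (hnt : ⁅V, G⁆ ≠ ⊥) (S : Sylow p ↥G) (hyp : ⁅⁅V, (S : Subgroup ↥G).map G.subtype⁆, (S : Subgroup ↥G).map G.subtype⁆ = ⊥ ∨ Nat.card ↥V ≤ Nat.card ↥(V ⊓ Subgroup.centralizer (((S : Subgroup ↥G).map G.subtype : Subgroup X) : Set X)) ^ 2) : Cfsg.ActsAsSL2OnSection F ⊤ G V ⊥ :=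
  Cfsg.Agent.Lib.Helper68_Nat_GLUE.glue G V hV hGV F n hF hG hirr hnt S hyp
    (fun hc e => by
      have _ : CharP F p := hc
      exact Cfsg.Agent.Lib.Helper50_Nat_SYL.exists_equiv_sylow e S)
    (fun hc M _ _ ρ hM hirr hnt h => by
      have _ : CharP F p := hc
      exact abstract_main ρ hM hirr hnt h)

end Cfsg.Agent.S3009
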