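import Mathlib
import Cfsg.Statements.S3011
import Cfsg.Agent.S3195
import Cfsg.Agent.Lib.Helper53_Klein

set_option autoImplicit false
open Cfsg

namespace Cfsg.Agent.S3011

open Cfsg.Agent.Lib.Helper53_Klein

variable {G : Type*} [Group G]

/-- an element of odd order equal to its inverse is trivial -/
theorem eq_one_of_eq_inv {h : G} (ho : Odd (orderOf h)) (hh : h = h⁻¹) : h = 1 := by
  have h2 : h ^ 2 = 1 := by
    rw [pow_two]
    nth_rewrite 1 [hh]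
    exact inv_mul_cancel h
  have hd : orderOf h ∣ 2 := orderOf_dvd_of_pow_eq_one h2
  rcases (Nat.dvd_prime Nat.prime_two).mp hd with h1 | h1
  · exact orderOf_eq_one_iff.mp h1
  · rw [h1] at ho
    exact absurd ho (by decide)

/-- an element of odd order does not invert a nontrivial element of odd order -/
theorem eq_one_of_odd_inverts {g h : G} (hg : Odd (orderOf g)) (ho : Odd (orderOf h))
    (hgh : g * h * g⁻¹ = h⁻¹) : h = 1 := by
  have key : ∀ n : ℕ, g ^ n * h * (g ^ n)⁻¹ = h ^ ((-1 : ℤ) ^ n) := by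
    intro n
    induction n with
    | zero => simp
    | succ n ih =>
      calc g ^ (n + 1) * h * (g ^ (n + 1))⁻¹ = g * (g ^ n * h * (g ^ n)⁻¹) * g⁻¹ := by
            rw [pow_succ']; group
        _ = g * (h ^ ((-1 : ℤ) ^ n)) * g⁻¹ := by rw [ih]
        _ = (g * h * g⁻¹) ^ ((-1 : ℤ) ^ n) := by rw [conj_zpow]
        _ = h ^ ((-1 : ℤ) ^ (n + 1)) := by
            rw [hgh, inv_zpow, ← zpow_neg, pow_succ]; congr 1; ring
  have h1 := key (orderOf g)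
  rw [pow_orderOf_eq_one, one_mul, inv_one, mul_one, Odd.neg_one_pow hg, zpow_neg, zpow_one] at h1
  exact eq_one_of_eq_inv ho h1

/-- if `g` has odd order and `g²` commutes with `h`, then `g` commutes with `h` -/
theorem commute_of_sq_commute {g h : G} (hg : Odd (orderOf g)) (hc : Commute (g ^ 2) h) :
    Commute g h := by
  obtain ⟨k, hk⟩ := hg
  have : g = (g ^ 2) ^ (k + 1) := by
    rw [← pow_mul]
    have : 2 * (k + 1) = orderOf g + 1 := by omega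
    rw [this, pow_succ, pow_orderOf_eq_one, one_mul]
  rw [this]
  exact hc.pow_left _

theorem odd_orderOf_conj {g h : G} (ho : Odd (orderOf h)) : Odd (orderOf (g * h * g⁻¹)) := by
  have : orderOf (g * h * g⁻¹) = orderOf h := MulEquiv.orderOf_eq (MulAut.conj g) h
  rw [this]; exact ho

theorem odd_orderOf_mul {h₁ h₂ : G} (hc : Commute h₁ h₂) (h1 : Odd (orderOf h₁))
    (h2 : Odd (orderOf h₂)) : Odd (orderOf (h₁ * h₂)) := by
  have hd := hc.orderOf_mul_dvd_lcm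
  have hl : Nat.lcm (orderOf h₁) (orderOf h₂) ∣ orderOf h₁ * orderOf h₂ :=
    Nat.lcm_dvd_mul _ _
  exact Odd.of_dvd_nat (h1.mul h2) (hd.trans hl)

/-- the core contradiction -/
theorem core (V : Subgroup G) (hS : Cfsg.IsSidkiPair V) {p q r : G} (hp : p ∈ V) (hq : q ∈ V)
    (hV : ∀ v ∈ V, v ≠ 1 → v = p ∨ v = q ∨ v = r)
    {h₁ h₂ : G} (ho1 : Odd (orderOf h₁)) (ho2 : Odd (orderOf h₂)) (h11 : h₁ ≠ 1) (h21 : h₂ ≠ 1)
    (hp1 : p * h₁ * p⁻¹ = h₁⁻¹) (hp2 : p * h₂ * p⁻¹ = h₂⁻¹)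
    (hq1 : q * h₁ * q⁻¹ = h₁⁻¹) (hq2 : q * h₂ * q⁻¹ = h₂)
    (hr1 : r * h₁ * r⁻¹ = h₁) (hr2 : r * h₂ * r⁻¹ = h₂⁻¹) : False := by
  -- conjugation formula
  have conj3 : ∀ v a b : G, v * (a * b * a⁻¹) * v⁻¹ =
      (v * a * v⁻¹) * (v * b * v⁻¹) * (v * a * v⁻¹)⁻¹ := by
    intro v a b; group
  have conj2 : ∀ v a b : G, v * (a * b) * v⁻¹ = (v * a * v⁻¹) * (v * b * v⁻¹) := by
    intro v a b; group
  have hk_odd : Odd (orderOf (h₂ * h₁ * h₂⁻¹)) := odd_orderOf_conj ho1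
  have hk1 : h₂ * h₁ * h₂⁻¹ ≠ 1 := by
    intro h
    apply h11
    have : h₁ = h₂⁻¹ * (h₂ * h₁ * h₂⁻¹) * h₂ := by group
    rw [this, h]; group
  have hqk : q * (h₂ * h₁ * h₂⁻¹) * q⁻¹ = (h₂ * h₁ * h₂⁻¹)⁻¹ := by
    rw [conj3, hq1, hq2]; group
  obtain ⟨w, hwV, hw1, hwk⟩ := hS _ q hq hk_odd hqk
  have hwk' : w * (h₂ * h₁ * h₂⁻¹) * w⁻¹ = h₂ * h₁ * h₂⁻¹ := by
    rw [hwk]; group
  rcases hV w hwV hw1 with hw | hw | hw
  · -- w = p : `h₂²` inverts `h₁`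
    rw [hw, conj3, hp1, hp2] at hwk'
    have hinv : (h₂ ^ 2) * h₁ * (h₂ ^ 2)⁻¹ = h₁⁻¹ := by
      have e1 : h₁⁻¹ = h₂ * (h₂⁻¹ * h₁⁻¹ * h₂⁻¹⁻¹) * h₂⁻¹ := by group
      rw [e1, hwk', pow_two]; group
    have hodd : Odd (orderOf (h₂ ^ 2)) := Odd.of_dvd_nat ho2 (orderOf_pow_dvd 2)
    exact h11 (eq_one_of_odd_inverts hodd ho1 hinv)
  · -- w = q
    rw [hw, hqk] at hwk'
    exact hk1 (eq_one_of_eq_inv hk_odd hwk'.symm)
  · -- w = r : `h₂` commutes with `h₁`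
    rw [hw, conj3, hr1, hr2] at hwk'
    have hc2 : Commute (h₂ ^ 2) h₁ := by
      show h₂ ^ 2 * h₁ = h₁ * h₂ ^ 2
      have e1 : h₂ ^ 2 * h₁ = h₂ * (h₂ * h₁ * h₂⁻¹) * h₂ := by rw [pow_two]; group
      rw [e1, ← hwk', pow_two]; group
    have hc : Commute h₂ h₁ := commute_of_sq_commute ho2 hc2
    have hc' : Commute h₁ h₂ := hc.symm
    have hm_odd : Odd (orderOf (h₁ * h₂)) := odd_orderOf_mul hc' ho1 ho2
    have hpm : p * (h₁ * h₂) * p⁻¹ = (h₁ * h₂)⁻¹ := by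
      rw [conj2, hp1, hp2, mul_inv_rev]
      exact (hc'.inv_inv).eq
    obtain ⟨w', hw'V, hw'1, hw'm⟩ := hS _ p hp hm_odd hpm
    have hw'm' : w' * (h₁ * h₂) * w'⁻¹ = h₁ * h₂ := by
      rw [hw'm]; group
    rcases hV w' hw'V hw'1 with hw' | hw' | hw'
    · -- w' = p
      rw [hw', hpm] at hw'm'
      have hm1 : h₁ * h₂ = 1 := eq_one_of_eq_inv hm_odd hw'm'.symm
      have h2eq : h₂ = h₁⁻¹ := (eq_inv_of_mul_eq_one_right hm1)
      -- r centralizes h₁ hence h₂, but inverts h₂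
      have : r * h₂ * r⁻¹ = h₂ := by
        rw [h2eq]
        have : r * h₁⁻¹ * r⁻¹ = (r * h₁ * r⁻¹)⁻¹ := by group
        rw [this, hr1]
      rw [hr2] at this
      exact h21 (eq_one_of_eq_inv ho2 this.symm)
    · -- w' = q
      rw [hw', conj2, hq1, hq2] at hw'm'
      have : h₁⁻¹ = h₁ := mul_right_cancel hw'm'
      exact h11 (eq_one_of_eq_inv ho1 this.symm)
    · -- w' = r
      rw [hw', conj2, hr1, hr2] at hw'm'
      have : h₂⁻¹ = h₂ := mul_left_cancel hw'm'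
      exact h21 (eq_one_of_eq_inv ho2 this.symm)

/-- Let G be a finite group and V a nontrivial elementary abelian 2-subgroup of G of order at most 4 such that, whenever an element of V inverts an element h of G of odd order, some nontrivial element of V commutes with h. Then V meets O₂(G) nontrivially. (The case of order at most 4 has a short argument from the Baer–Suzuki theorem.) -/
theorem result {G : Type*} [Group G] [Finite G] (V : Subgroup G) (hV : Cfsg.IsElementaryAbelian 2 V) (hV1 : V ≠ ⊥) (hS : Cfsg.IsSidkiPair V) (h4 : Nat.card V ≤ 4) : V ⊓ Cfsg.pCore 2 G ≠ ⊥ := by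
  intro hbot
  have hnot : ∀ v ∈ V, v ≠ 1 → v ∉ Cfsg.pCore 2 G := by
    intro v hv hv1 hc
    have : v ∈ V ⊓ Cfsg.pCore 2 G := ⟨hv, hc⟩
    rw [hbot, Subgroup.mem_bot] at this
    exact hv1 this
  have hsq : ∀ v ∈ V, v * v = 1 := fun v hv => by rw [← pow_two]; exact hV.2 v hv
  have hinv : ∀ v ∈ V, v⁻¹ = v := fun v hv => inv_eq_of_mul_eq_one_right (hsq v hv)
  have hcomm : ∀ u ∈ V, ∀ v ∈ V, u * v = v * u := by
    intro u hu v hv
    have := hV.1.is_comm.comm (⟨u, hu⟩ : ↥V) ⟨v, hv⟩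
    exact congrArg Subtype.val this
  have hBS : ∀ v ∈ V, v ≠ 1 → ∃ h : G, Odd (orderOf h) ∧ h ≠ 1 ∧ v * h * v⁻¹ = h⁻¹ := by
    intro v hv hv1
    obtain ⟨u, k, hk, huk, hu1, hinvu⟩ :=
      Cfsg.Agent.S3195.exists_inverted_odd (hsq v hv) (hnot v hv hv1)
    refine ⟨u, Odd.of_dvd_nat hk (orderOf_dvd_of_pow_eq_one huk), hu1, ?_⟩
    rw [hinv v hv]; exact hinvu
  obtain ⟨⟨a, haV⟩, ha1⟩ := (Subgroup.ne_bot_iff_exists_ne_one).mp hV1
  have ha1' : a ≠ 1 := fun h => ha1 (Subtype.ext h)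
  obtain ⟨h₁, ho1, h11, hah₁⟩ := hBS a haV ha1'
  obtain ⟨b, hbV, hb1, hbh₁⟩ := hS h₁ a haV ho1 hah₁
  have hbh₁' : b * h₁ * b⁻¹ = h₁ := by rw [hbh₁]; group
  have hba : b ≠ a := by
    intro h
    rw [h, hah₁] at hbh₁'
    exact h11 (eq_one_of_eq_inv ho1 hbh₁'.symm)
  have hVeq : ∀ v ∈ V, v ≠ 1 → v = a ∨ v = b ∨ v = a * b := by
    have hle : four a b (hsq a haV) (hsq b hbV) (hcomm a haV b hbV) ≤ V := four_le haV hbV
    have hK := isKleinFour_four (ha := hsq a haV) (hb := hsq b hbV) (hab := hcomm a haV b hbV)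
      ha1' hb1 (Ne.symm hba)
    have hc4 : Nat.card ↥(four a b (hsq a haV) (hsq b hbV) (hcomm a haV b hbV)) = 4 := hK.card_four
    have heq : four a b (hsq a haV) (hsq b hbV) (hcomm a haV b hbV) = V :=
      Subgroup.eq_of_le_of_card_ge hle (by rw [hc4]; exact h4)
    intro v hv hv1
    rw [← heq] at hv
    rcases mem_four.mp hv with h | h | h | h
    · exact absurd h hv1
    · exact Or.inl h
    · exact Or.inr (Or.inl h)
    · exact Or.inr (Or.inr h)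
  obtain ⟨h₂, ho2, h21, hbh₂⟩ := hBS b hbV hb1
  obtain ⟨w, hwV, hw1, hwh₂⟩ := hS h₂ b hbV ho2 hbh₂
  have hwh₂' : w * h₂ * w⁻¹ = h₂ := by rw [hwh₂]; group
  have habh₁ : (a * b) * h₁ * (a * b)⁻¹ = h₁⁻¹ := by
    calc (a * b) * h₁ * (a * b)⁻¹ = a * (b * h₁ * b⁻¹) * a⁻¹ := by group
      _ = h₁⁻¹ := by rw [hbh₁', hah₁]
  rcases hVeq w hwV hw1 with hw | hw | hw
  · -- `a` centralizes `h₂`
    rw [hw] at hwh₂'
    have habh₂ : (a * b) * h₂ * (a * b)⁻¹ = h₂⁻¹ := by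
      calc (a * b) * h₂ * (a * b)⁻¹ = a * (b * h₂ * b⁻¹) * a⁻¹ := by group
        _ = (a * h₂ * a⁻¹)⁻¹ := by rw [hbh₂]; group
        _ = h₂⁻¹ := by rw [hwh₂']
    refine core V hS (p := a * b) (q := a) (r := b) (V.mul_mem haV hbV) haV ?_ ho1 ho2 h11 h21
      habh₁ habh₂ hah₁ hwh₂' hbh₁' hbh₂
    intro v hv hv1
    rcases hVeq v hv hv1 with h | h | h
    · exact Or.inr (Or.inl h)
    · exact Or.inr (Or.inr h)
    · exact Or.inl h
  · -- `b` centralizes and inverts `h₂`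
    rw [hw, hbh₂] at hwh₂'
    exact h21 (eq_one_of_eq_inv ho2 hwh₂'.symm)
  · -- `a * b` centralizes `h₂`
    rw [hw] at hwh₂'
    have hah₂ : a * h₂ * a⁻¹ = h₂⁻¹ := by
      have e : a = (a * b) * b := by rw [mul_assoc, hsq b hbV, mul_one]
      calc a * h₂ * a⁻¹ = ((a * b) * b) * h₂ * ((a * b) * b)⁻¹ := by rw [← e]
        _ = (a * b) * (b * h₂ * b⁻¹) * (a * b)⁻¹ := by group
        _ = ((a * b) * h₂ * (a * b)⁻¹)⁻¹ := by rw [hbh₂]; group
        _ = h₂⁻¹ := by rw [hwh₂']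
    refine core V hS (p := a) (q := a * b) (r := b) haV (V.mul_mem haV hbV) ?_ ho1 ho2 h11 h21
      hah₁ hah₂ habh₁ hwh₂' hbh₁' hbh₂
    intro v hv hv1
    rcases hVeq v hv hv1 with h | h | h
    · exact Or.inl h
    · exact Or.inr (Or.inr h)
    · exact Or.inr (Or.inl h)

end Cfsg.Agent.S3011
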