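import Cfsg.Statements.S3012

set_option autoImplicit false
open Cfsg

namespace Cfsg.Agent.S3012

theorem result {G : Type*} [Group G] [Finite G] (V K : Subgroup G) [K.Normal] (hV : Cfsg.IsElementaryAbelian 2 V) (hV1 : V ≠ ⊥) (hS : Cfsg.IsSidkiPair V) (hVK : V ⊓ K = ⊥) : Cfsg.IsSidkiPair (V.map (QuotientGroup.mk' K)) := by
  intro hbar vbar hvbar hodd hinv
  obtain ⟨v, hvV, rfl⟩ := hvbar
  obtain ⟨h₀, rfl⟩ := QuotientGroup.mk_surjective hbar
  set π := QuotientGroup.mk' K with hπ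
  have hv2 : v ^ 2 = 1 := hV.2 v hvV
  have hvinv : v⁻¹ = v := by
    have : v * v = 1 := by rw [← pow_two]; exact hv2
    exact inv_eq_of_mul_eq_one_left this
  have hh : (QuotientGroup.mk h₀ : G ⧸ K) = π h₀ := rfl
  rw [hh] at hodd hinv ⊢
  -- the element `t`
  set t : G := h₀ * v * h₀⁻¹ * v with ht
  have hπt : π t = (π h₀) ^ 2 := by
    have e1 : π v * (π h₀)⁻¹ * π v = π h₀ := by
      have h2 : (π v)⁻¹ = π v := by rw [← map_inv, hvinv]
      have h3 : (π h₀)⁻¹ = π v * π h₀ * π v := by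
        rw [← hinv, h2]
      rw [h3]
      have h4 : π v * π v = 1 := by rw [← map_mul, ← pow_two, hv2, map_one]
      calc π v * (π v * π h₀ * π v) * π v = (π v * π v) * π h₀ * (π v * π v) := by group
        _ = π h₀ := by rw [h4]; group
    calc π t = π h₀ * (π v * (π h₀)⁻¹ * π v) := by
          rw [ht]; simp only [map_mul, map_inv]; group
      _ = (π h₀) ^ 2 := by rw [e1, pow_two]
  have hvt : v * t * v⁻¹ = t⁻¹ := by
    rw [ht]
    calc v * (h₀ * v * h₀⁻¹ * v) * v⁻¹ = v * h₀ * v * h₀⁻¹ := by group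
      _ = v⁻¹ * h₀ * v⁻¹ * h₀⁻¹ := by rw [hvinv]
      _ = (h₀ * v * h₀⁻¹ * v)⁻¹ := by group
  have hordne : orderOf t ≠ 0 := (orderOf_pos t).ne'
  obtain ⟨a, m, hm, hn⟩ := Nat.exists_eq_two_pow_mul_odd hordne
  set t' : G := t ^ (2 ^ a) with ht'
  have hordt' : orderOf t' = m := by
    rw [ht', orderOf_pow_of_dvd (pow_ne_zero _ two_ne_zero) (Dvd.intro _ hn.symm), hn]
    exact Nat.mul_div_cancel_left m (pow_pos two_pos a)
  have hvt' : v * t' * v⁻¹ = t'⁻¹ := by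
    rw [ht']
    have : v * t ^ (2 ^ a) * v⁻¹ = (v * t * v⁻¹) ^ (2 ^ a) := by
      rw [conj_pow]
    rw [this, hvt, inv_pow]
  obtain ⟨w, hwV, hw1, hwt⟩ := hS t' v hvV (hordt' ▸ hm) hvt'
  refine ⟨π w, ⟨w, hwV, rfl⟩, ?_, ?_⟩
  · intro h1
    have hwK : w ∈ K := by
      rw [hπ] at h1
      exact (QuotientGroup.eq_one_iff w).mp h1
    have : w ∈ V ⊓ K := ⟨hwV, hwK⟩
    rw [hVK, Subgroup.mem_bot] at this
    exact hw1 this
  · have hc : Commute (π w) (π t') := by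
      show π w * π t' = π t' * π w
      rw [← map_mul, ← map_mul, hwt]
    have hπt' : π t' = (π h₀) ^ (2 ^ (a + 1)) := by
      rw [ht', map_pow, hπt, ← pow_mul, pow_succ, mul_comm]
    rw [hπt'] at hc
    have hcop : Nat.Coprime (2 ^ (a + 1)) (orderOf (π h₀)) := by
      apply Nat.Coprime.pow_left
      rw [Nat.coprime_two_left]; exact hodd
    obtain ⟨j, hj⟩ := exists_pow_eq_self_of_coprime hcop
    have := hc.pow_right j
    rw [hj] at this
    exact this.eq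

end Cfsg.Agent.S3012
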