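import Cfsg.Statements.S3013

set_option autoImplicit false
open Cfsg

namespace Cfsg.Agent.S3013

/-- If `w` commutes with `h ^ 2` and `h` has odd order then `w` commutes with `h`. -/
theorem commute_of_commute_sq {G : Type*} [Group G] {w h : G} (hodd : Odd (orderOf h))
    (hc : Commute w (h ^ 2)) : Commute w h := by
  have hcop : Nat.Coprime 2 (orderOf h) := by
    rw [Nat.coprime_two_left]; exact hodd
  obtain ⟨m, hm⟩ := exists_pow_eq_self_of_coprime hcop
  rw [← hm]
  exact hc.pow_right m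

theorem result {G : Type*} [Group G] [Finite G] (V : Subgroup G) (hV : Cfsg.IsElementaryAbelian 2 V) (hV1 : V ≠ ⊥) (hS : Cfsg.IsSidkiPair V) (v x : G) (hv : v ∈ V) (hx : Odd (orderOf x)) (hinv : v * x * v⁻¹ = x⁻¹) (C : Subgroup G) (hC : C = Subgroup.centralizer ({v} : Set G) ⊓ Subgroup.centralizer ({x} : Set G)) : C ⊓ V ≠ ⊥ ∧ Cfsg.IsSidkiPair ((C ⊓ V).subgroupOf C) := by
  have hcommV : ∀ a ∈ V, ∀ b ∈ V, a * b = b * a := by
    intro a ha b hb
    have := hV.1.is_comm.comm ⟨a, ha⟩ ⟨b, hb⟩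
    exact congrArg Subtype.val this
  have hmemC : ∀ c : G, c ∈ C ↔ c * v = v * c ∧ c * x = x * c := by
    intro c
    rw [hC, Subgroup.mem_inf, Subgroup.mem_centralizer_singleton_iff,
      Subgroup.mem_centralizer_singleton_iff]
  constructor
  · obtain ⟨w, hwV, hw1, hwx⟩ := hS x v hv hx hinv
    intro hbot
    have : w ∈ C ⊓ V := ⟨(hmemC w).mpr ⟨hcommV w hwV v hv, hwx⟩, hwV⟩
    rw [hbot, Subgroup.mem_bot] at this
    exact hw1 this
  · intro h u hu hodd hinvh
    rw [Subgroup.mem_subgroupOf] at hu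
    obtain ⟨-, huV⟩ := hu
    obtain ⟨huv, hux⟩ := (hmemC (u : G)).mp u.2
    obtain ⟨hhv, hhx⟩ := (hmemC (h : G)).mp h.2
    have hoddh : Odd (orderOf (h : G)) := by
      rwa [Subgroup.orderOf_coe]
    have hinvh' : (u : G) * (h : G) * (u : G)⁻¹ = (h : G)⁻¹ := by
      have := congrArg Subtype.val hinvh
      simpa using this
    -- the element `y = h * x`
    have hcomm_hx : Commute (h : G) x := hhx
    have hyodd : Odd (orderOf ((h : G) * x)) := by
      have hd := hcomm_hx.orderOf_mul_dvd_lcm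
      have hl : Odd (Nat.lcm (orderOf (h : G)) (orderOf x)) :=
        Odd.of_dvd_nat (hoddh.mul hx) (Nat.lcm_dvd_mul _ _)
      exact Odd.of_dvd_nat hl hd
    have ht : (u : G) * v ∈ V := V.mul_mem huV hv
    -- `u * v` inverts `h * x`
    have hvh : v * (h : G) * v⁻¹ = (h : G) := by
      rw [← hhv]; group
    have hux' : (u : G) * x * (u : G)⁻¹ = x := by
      rw [hux]; group
    have hinvy : ((u : G) * v) * ((h : G) * x) * ((u : G) * v)⁻¹ = ((h : G) * x)⁻¹ := by
      calc ((u : G) * v) * ((h : G) * x) * ((u : G) * v)⁻¹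
          = (u : G) * ((v * (h : G) * v⁻¹) * (v * x * v⁻¹)) * (u : G)⁻¹ := by group
        _ = (u : G) * ((h : G) * x⁻¹) * (u : G)⁻¹ := by rw [hvh, hinv]
        _ = ((u : G) * (h : G) * (u : G)⁻¹) * ((u : G) * x * (u : G)⁻¹)⁻¹ := by group
        _ = (h : G)⁻¹ * x⁻¹ := by rw [hinvh', hux']
        _ = ((h : G) * x)⁻¹ := by rw [hcomm_hx.eq]; group
    obtain ⟨w, hwV, hw1, hwy⟩ := hS _ _ ht hyodd hinvy
    have hwv : w * v = v * w := hcommV w hwV v hv
    -- `w` commutes with `v (h x) v⁻¹ = h x⁻¹`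
    have hwy' : Commute w ((h : G) * x⁻¹) := by
      have e : (h : G) * x⁻¹ = v * ((h : G) * x) * v⁻¹ := by
        calc (h : G) * x⁻¹ = (v * (h : G) * v⁻¹) * (v * x * v⁻¹) := by rw [hvh, hinv]
          _ = v * ((h : G) * x) * v⁻¹ := by group
      rw [e]
      have c1 : Commute w v := hwv
      have c2 : Commute w ((h : G) * x) := hwy
      exact (c1.mul_right c2).mul_right c1.inv_right
    have hwh2 : Commute w ((h : G) ^ 2) := by
      have e : (h : G) ^ 2 = ((h : G) * x) * ((h : G) * x⁻¹) := by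
        calc (h : G) ^ 2 = (h : G) * (h : G) := pow_two _
          _ = (h : G) * (x * (h : G)) * x⁻¹ := by rw [← hcomm_hx.eq]; group
          _ = ((h : G) * x) * ((h : G) * x⁻¹) := by group
      rw [e]
      exact (show Commute w ((h : G) * x) from hwy).mul_right hwy'
    have hwh : Commute w (h : G) := commute_of_commute_sq hoddh hwh2
    have hwx : Commute w x := by
      have e : x = (h : G)⁻¹ * ((h : G) * x) := by group
      rw [e]
      exact hwh.inv_right.mul_right hwy
    have hwC : w ∈ C := (hmemC w).mpr ⟨hwv, hwx.eq⟩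
    refine ⟨⟨w, hwC⟩, ?_, ?_, ?_⟩
    · rw [Subgroup.mem_subgroupOf]; exact ⟨hwC, hwV⟩
    · intro h1; apply hw1; exact congrArg Subtype.val h1
    · apply Subtype.ext; simpa using hwh.eq

end Cfsg.Agent.S3013
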