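import Mathlib
import Cfsg.Statements.S3015
import Cfsg.Agent.S3014
import Cfsg.Agent.Lib.Helper33_Conj
import Cfsg.Agent.Lib.Helper63_PGroup

set_option autoImplicit false
open Cfsg

namespace Cfsg.Agent.S3015

open Cfsg.Agent.Lib.Helper33_Conj Cfsg.Agent.Lib.Helper63_PGroup

theorem mem_normalizer_of_cj_le {G : Type*} [Group G] [Finite G] (K : Subgroup G) (g : G)
    (h : cj g K ≤ K) : g ∈ Subgroup.normalizer (K : Set G) := by
  rw [mem_normalizer_iff_cj]
  apply Subgroup.eq_of_le_of_card_ge h
  rw [Subgroup.card_map_of_injective (MulAut.conj g).injective]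

theorem no_prime_order_maximal {G : Type*} [Group G] [Finite G] [IsSimpleGroup G]
    (hG : ¬ IsMulCommutative G) (M : Subgroup G) (hmaxM : IsCoatom M)
    (hp : (Nat.card M).Prime) : False := by
  classical
  have : Fact (Nat.card M).Prime := ⟨hp⟩
  have : IsCyclic M := isCyclic_of_prime_card rfl
  let _ : CommGroup M := IsCyclic.commGroup
  have hMne_bot : M ≠ ⊥ := by
    rintro rfl
    rw [Subgroup.card_bot] at hp
    exact Nat.not_prime_one hp
  have hNM : Subgroup.normalizer (M : Set G) = M := by
    rcases hmaxM.le_iff.mp Subgroup.le_normalizer with h | h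
    · have hn : M.Normal := Subgroup.normalizer_eq_top_iff.mp h
      rcases hn.eq_bot_or_eq_top with h' | h'
      · exact absurd h' hMne_bot
      · exact absurd h' hmaxM.1
    · exact h
  have hB : ∀ (k : G) (y : M), k ∉ M → k * y * k⁻¹ ∈ M → (MonoidHom.id M) y = 1 := by
    intro k y hk hky
    by_contra hy
    rw [MonoidHom.id_apply] at hy
    have hz : Subgroup.zpowers y = ⊤ := zpowers_eq_top_of_prime_card rfl hy
    apply hk
    have : k ∈ Subgroup.normalizer (M : Set G) := by
      apply mem_normalizer_of_cj_le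
      rintro _ ⟨m, hm, rfl⟩
      have hmz : (⟨m, hm⟩ : M) ∈ Subgroup.zpowers y := hz ▸ Subgroup.mem_top _
      obtain ⟨n, hn⟩ := Subgroup.mem_zpowers_iff.mp hmz
      have hm' : m = (y : G) ^ n := by
        have := congrArg Subtype.val hn
        simpa using this.symm
      change k * m * k⁻¹ ∈ M
      rw [hm', ← conj_zpow]
      exact M.zpow_mem hky n
    rwa [hNM] at this
  have hV : ∀ x : M, MonoidHom.transfer (MonoidHom.id M) (x : G) = x := fun x => by
    simpa using Cfsg.Agent.S3014.transfer_eq_self_of M (MonoidHom.id M) x hB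
  rcases (MonoidHom.normal_ker (MonoidHom.transfer (MonoidHom.id M))).eq_bot_or_eq_top with h | h
  · apply hG
    have hinj := (MonoidHom.ker_eq_bot_iff _).mp h
    exact ⟨⟨fun a b => hinj (by rw [map_mul, map_mul, mul_comm])⟩⟩
  · apply hMne_bot
    rw [eq_bot_iff]
    intro x hx
    have h1 := hV ⟨x, hx⟩
    have h2 : MonoidHom.transfer (MonoidHom.id M) x = 1 :=
      MonoidHom.mem_ker.mp (h ▸ Subgroup.mem_top x)
    rw [h2] at h1
    exact Subgroup.mem_bot.mpr (congrArg Subtype.val h1.symm)

/-- Let G be a finite non-abelian simple group, M a maximal subgroup of G and H a normal subgroup of M of prime index in M. Then G is generated by H together with one of its conjugates. -/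
theorem result {G : Type*} [Group G] [Finite G] [IsSimpleGroup G] (hG : ¬ IsMulCommutative G) (M H : Subgroup G) (hmaxM : IsCoatom M) (hHM : H ≤ M) (hHn : (H.subgroupOf M).Normal) (hidx : (H.relIndex M).Prime) : ∃ g : G, H ⊔ H.map (MulAut.conj g).toMonoidHom = ⊤ := by
  classical
  by_contra hno
  push Not at hno
  obtain ⟨p, hp_def⟩ : ∃ p, p = H.relIndex M := ⟨_, rfl⟩
  have hpp : p.Prime := hp_def ▸ hidx
  have : Fact p.Prime := ⟨hpp⟩
  have hcoH : IsCoatom (H.subgroupOf M) := isCoatom_of_index_prime _ hidx
  have hHneM : H ≠ M := by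
    intro h
    rw [h, Subgroup.relIndex_self] at hidx
    exact Nat.not_prime_one hidx
  have hMne_top : M ≠ ⊤ := hmaxM.1
  have hMN : M ≤ Subgroup.normalizer (H : Set G) :=
    (Subgroup.normal_subgroupOf_iff_le_normalizer hHM).mp hHn
  have hcard : Nat.card H * p = Nat.card M := hp_def ▸ card_mul_relIndex hHM
  by_cases hH1 : H = ⊥
  · subst hH1
    rw [Subgroup.card_bot, one_mul] at hcard
    exact no_prime_order_maximal hG M hmaxM (hcard ▸ hpp)
  have hMne_bot : M ≠ ⊥ := by
    rintro rfl
    exact hH1 (le_bot_iff.mp hHM)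
  have hNH : Subgroup.normalizer (H : Set G) = M := by
    rcases hmaxM.le_iff.mp hMN with h | h
    · have hn : H.Normal := Subgroup.normalizer_eq_top_iff.mp h
      rcases hn.eq_bot_or_eq_top with h' | h'
      · exact absurd h' hH1
      · exfalso
        apply hMne_top
        rw [eq_top_iff, ← h']
        exact hHM
    · exact h
  have hNM : Subgroup.normalizer (M : Set G) = M := by
    rcases hmaxM.le_iff.mp Subgroup.le_normalizer with h | h
    · have hn : M.Normal := Subgroup.normalizer_eq_top_iff.mp h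
      rcases hn.eq_bot_or_eq_top with h' | h'
      · exact absurd h' hMne_bot
      · exact absurd h' hmaxM.1
    · exact h
  -- p'-elements of M lie in H
  have hpel : ∀ x ∈ M, (orderOf x).Coprime p → x ∈ H := by
    intro x hx hcop
    have hcardQ : Nat.card (M ⧸ H.subgroupOf M) = p := by
      rw [← Subgroup.index_eq_card, hp_def]
      rfl
    have h1 : (QuotientGroup.mk (⟨x, hx⟩ : M) : M ⧸ H.subgroupOf M) ^ p = 1 := by
      rw [← hcardQ]
      exact pow_card_eq_one'
    have h2 : (QuotientGroup.mk (⟨x, hx⟩ : M) : M ⧸ H.subgroupOf M) ^ orderOf x = 1 := by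
      rw [← QuotientGroup.mk_pow]
      have : (⟨x, hx⟩ : M) ^ orderOf x = 1 := Subtype.ext (by simp [pow_orderOf_eq_one])
      rw [this]
      rfl
    have h3 : orderOf (QuotientGroup.mk (⟨x, hx⟩ : M) : M ⧸ H.subgroupOf M) ∣ 1 := by
      have := Nat.dvd_gcd (orderOf_dvd_of_pow_eq_one h2) (orderOf_dvd_of_pow_eq_one h1)
      rwa [Nat.Coprime.gcd_eq_one hcop] at this
    have h4 : (QuotientGroup.mk (⟨x, hx⟩ : M) : M ⧸ H.subgroupOf M) = 1 :=
      orderOf_eq_one_iff.mp (Nat.dvd_one.mp h3)
    have h5 : (⟨x, hx⟩ : M) ∈ H.subgroupOf M := (QuotientGroup.eq_one_iff _).mp h4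
    exact h5
  -- Step 4
  have hX : ∀ g, cj g H ≤ M → cj g H = H := by
    intro g hgM
    suffices hg : g ∈ M from mem_normalizer_iff_cj.mp (hMN hg)
    obtain ⟨S, hS⟩ : ∃ S : Set G, S = {x | x ∈ M ∧ (orderOf x).Coprime p} := ⟨_, rfl⟩
    have hSmem : ∀ x, x ∈ S ↔ x ∈ M ∧ (orderOf x).Coprime p := fun x => by rw [hS]; rfl
    have hconj_order : ∀ a x : G, orderOf (a * x * a⁻¹) = orderOf x := by
      intro a x
      rw [← MulAut.conj_apply, MulEquiv.orderOf_eq]
    have hRH : Subgroup.closure S ≤ H :=
      (Subgroup.closure_le _).mpr (fun x hx => hpel x ((hSmem x).mp hx).1 ((hSmem x).mp hx).2)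
    have hgS : ∀ x ∈ S, g * x * g⁻¹ ∈ S := by
      intro x hx
      have hx' := (hSmem x).mp hx
      rw [hSmem]
      refine ⟨hgM (conj_mem_cj (hpel x hx'.1 hx'.2)), ?_⟩
      rw [hconj_order]
      exact hx'.2
    have hgR : g ∈ Subgroup.normalizer (Subgroup.closure S : Set G) := by
      apply mem_normalizer_of_cj_le
      change (Subgroup.closure S).map _ ≤ _
      rw [Subgroup.map_le_iff_le_comap, Subgroup.closure_le]
      intro x hx
      exact Subgroup.subset_closure (hgS x hx)
    have hMR : M ≤ Subgroup.normalizer (Subgroup.closure S : Set G) := by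
      rw [Subgroup.le_normalizer_closure_iff]
      intro m hm x hx
      apply Subgroup.subset_closure
      have hx' := (hSmem x).mp hx
      rw [hSmem]
      refine ⟨M.mul_mem (M.mul_mem hm hx'.1) (M.inv_mem hm), ?_⟩
      rw [hconj_order]
      exact hx'.2
    rcases hmaxM.le_iff.mp hMR with h | h
    · have hRn : (Subgroup.closure S).Normal := Subgroup.normalizer_eq_top_iff.mp h
      rcases hRn.eq_bot_or_eq_top with hR | hR
      · -- M is a p-group
        have hMp : IsPGroup p M := by
          intro x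
          have hn0 : orderOf (x : G) ≠ 0 := (orderOf_pos (x : G)).ne'
          obtain ⟨k, m, hm, hkm⟩ := Nat.exists_eq_pow_mul_and_not_dvd hn0 p hpp.ne_one
          refine ⟨k, ?_⟩
          have hy : (x : G) ^ p ^ k ∈ S := by
            rw [hSmem]
            refine ⟨M.pow_mem x.2 _, ?_⟩
            rw [orderOf_pow_of_dvd (pow_ne_zero _ hpp.ne_zero) ⟨m, hkm⟩, hkm,
              Nat.mul_div_cancel_left _ (pow_pos hpp.pos k)]
            exact ((Nat.Prime.coprime_iff_not_dvd hpp).mpr hm).symm
          have : (x : G) ^ p ^ k ∈ Subgroup.closure S := Subgroup.subset_closure hy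
          rw [hR, Subgroup.mem_bot] at this
          exact Subtype.ext (by simpa using this)
        have hKidx : ((cj g H).subgroupOf M).index = p := by
          have h1 : Nat.card (cj g H) * (cj g H).relIndex M = Nat.card M :=
            card_mul_relIndex hgM
          rw [Subgroup.card_map_of_injective (MulAut.conj g).injective, ← hcard] at h1
          exact Nat.eq_of_mul_eq_mul_left Nat.card_pos h1
        have hKn : ((cj g H).subgroupOf M).Normal := normal_of_index_eq_prime hMp _ hKidx
        have hMK : M ≤ Subgroup.normalizer ((cj g H : Subgroup G) : Set G) :=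
          (Subgroup.normal_subgroupOf_iff_le_normalizer hgM).mp hKn
        rw [← cj_normalizer, hNH] at hMK
        have h2 : cj g⁻¹ M ≤ M := cj_le_iff.mpr (by simpa using hMK)
        have h3 : g⁻¹ ∈ Subgroup.normalizer (M : Set G) := mem_normalizer_of_cj_le _ _ h2
        rw [hNM] at h3
        simpa using M.inv_mem h3
      · exfalso
        apply hMne_top
        rw [eq_top_iff, ← hR]
        exact hRH.trans hHM
    · rw [h] at hgR
      exact hgR
  -- Step 5
  have hcl : ∀ g : G, (H ⊔ H.map (MulAut.conj g).toMonoidHom) ⊓ M = H := by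
    intro g
    have h1 : H ≤ (H ⊔ H.map (MulAut.conj g).toMonoidHom) ⊓ M := le_inf le_sup_left hHM
    have h2 : H.subgroupOf M ≤ ((H ⊔ H.map (MulAut.conj g).toMonoidHom) ⊓ M).subgroupOf M :=
      fun x hx => h1 hx
    rcases eq_or_lt_of_le h2 with h3 | h3
    · have := Subgroup.subgroupOf_inj.mp h3
      rw [inf_eq_left.mpr hHM, inf_assoc, inf_idem] at this
      exact this.symm
    · exfalso
      have h4 := hcoH.2 _ h3
      have h5 : M ≤ (H ⊔ H.map (MulAut.conj g).toMonoidHom) ⊓ M :=
        Subgroup.subgroupOf_eq_top.mp h4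
      have h6 : M ≤ H ⊔ H.map (MulAut.conj g).toMonoidHom := h5.trans inf_le_left
      rcases hmaxM.le_iff.mp h6 with h7 | h7
      · exact hno g h7
      · have h8 : cj g H ≤ M := by
          rw [← h7]
          exact le_sup_right
        have h9 : H.map (MulAut.conj g).toMonoidHom = H := hX g h8
        rw [h9, sup_idem] at h7
        exact hHneM h7
  have h6 := Cfsg.Agent.S3014.result H M hHM hcl hcoH hmaxM
  rcases (Subgroup.normalClosure_normal (s := (H : Set G))).eq_bot_or_eq_top with h | h
  · apply hH1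
    rw [eq_bot_iff, ← h]
    exact Subgroup.le_normalClosure
  · rw [h, top_inf_eq] at h6
    exact hHneM h6.symm

end Cfsg.Agent.S3015
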