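import Cfsg.Statements.S3020
import Cfsg.Agent.Lib.Helper50_Basic

set_option autoImplicit false
open Cfsg
open Cfsg.Agent.Lib.Helper50_Basic

namespace Cfsg.Agent.S3020

theorem result {G : Type*} [Group G] [Finite G] {p : ℕ} [Fact p.Prime] (H : Subgroup G) (hHp : IsPGroup p H) (hHab : IsMulCommutative H) (hcl : Cfsg.IsExtremelyClosed H) (g : G) (T : Subgroup G) (hT : T = H ⊔ H.map (MulAut.conj g).toMonoidHom) : H ⊔ (Cfsg.pPrimeCore p ↥T).map T.subtype = T ∧ H ⊓ (Cfsg.pPrimeCore p ↥T).map T.subtype = ⊥ := by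
  have hHT : H ≤ T := by rw [hT]; exact le_sup_left
  have hcl' : T ⊓ Subgroup.normalizer (H : Set G) = H := by rw [hT]; exact hcl g
  -- `H' = H` viewed in `T`
  set H' : Subgroup T := H.subgroupOf T with hH'
  have hH'p : IsPGroup p H' := hHp.comap_subtype
  -- normalizer of `H'` in `T` is `H'`
  have hnorm : Subgroup.normalizer (H' : Set T) = H' := by
    rw [hH', ← Subgroup.subgroupOf_normalizer_eq hHT]
    apply le_antisymm
    · intro t ht
      rw [Subgroup.mem_subgroupOf] at ht ⊢
      have : (t : G) ∈ T ⊓ Subgroup.normalizer (H : Set G) := ⟨t.2, ht⟩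
      rw [hcl'] at this; exact this
    · intro t ht
      rw [Subgroup.mem_subgroupOf] at ht ⊢
      exact Subgroup.le_normalizer ht
  -- `H'` is a Sylow subgroup of `T`
  obtain ⟨P, hP⟩ := hH'p.exists_le_sylow
  have hPH : (P : Subgroup T) ≤ H' := by
    apply le_of_pgroup_of_normalizer_le P.isPGroup' hP
    rw [hnorm]; exact inf_le_right
  have hPeq : (P : Subgroup T) = H' := le_antisymm hPH hP
  -- `N(P) ≤ C(P)`
  have hcomm : ∀ a ∈ H', ∀ b ∈ H', a * b = b * a := by
    intro a ha b hb
    rw [hH', Subgroup.mem_subgroupOf] at ha hb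
    have := hHab.is_comm.comm ⟨(a : G), ha⟩ ⟨(b : G), hb⟩
    apply Subtype.ext
    have h2 := congrArg Subtype.val this
    simpa using h2
  have hNC : Subgroup.normalizer ((P : Subgroup T) : Set T) ≤ Subgroup.centralizer ((P : Subgroup T) : Set T) := by
    rw [hPeq, hnorm]
    intro a ha
    rw [Subgroup.mem_centralizer_iff]
    intro b hb
    exact hcomm b hb a ha
  have hcompl := MonoidHom.ker_transferSylow_isComplement' P hNC
  have hcop := MonoidHom.not_dvd_card_ker_transferSylow P hNC
  set K : Subgroup T := (MonoidHom.transferSylow P hNC).ker with hK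
  have hKcop : (Nat.card K).Coprime p := by
    rw [Nat.coprime_comm]
    exact (Nat.Prime.coprime_iff_not_dvd Fact.out).mpr hcop
  have hKle : K ≤ Cfsg.pPrimeCore p T := by
    apply le_sSup
    exact ⟨inferInstance, hKcop⟩
  have hsupT : H' ⊔ Cfsg.pPrimeCore p T = ⊤ := by
    have h1 : K ⊔ (P : Subgroup T) = ⊤ := hcompl.sup_eq_top
    rw [hPeq] at h1
    rw [eq_top_iff, ← h1]
    exact sup_le (le_trans hKle le_sup_right) le_sup_left
  have hinf : H' ⊓ Cfsg.pPrimeCore p T = ⊥ := by
    have hcopO := pPrimeCore_card_coprime (G := T) p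
    have hpg : IsPGroup p (H' ⊓ Cfsg.pPrimeCore p T : Subgroup T) := hH'p.to_le inf_le_left
    have hdvd : Nat.card (H' ⊓ Cfsg.pPrimeCore p T : Subgroup T) ∣ Nat.card (Cfsg.pPrimeCore p T) :=
      Subgroup.card_dvd_of_le inf_le_right
    obtain ⟨k, hk⟩ := hpg.exists_card_eq
    have hcop2 : (Nat.card (H' ⊓ Cfsg.pPrimeCore p T : Subgroup T)).Coprime p :=
      Nat.Coprime.coprime_dvd_left hdvd hcopO
    rw [hk] at hcop2
    rcases Nat.eq_zero_or_pos k with hk0 | hk0
    · rw [hk0, pow_zero] at hk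
      exact Subgroup.card_eq_one.mp hk
    · exfalso
      have : p ∣ 1 := by
        have h1 : p ∣ p ^ k := dvd_pow_self p (Nat.pos_iff_ne_zero.mp hk0)
        have := Nat.Coprime.eq_one_of_dvd hcop2.symm h1
        exact this ▸ dvd_refl p
      exact (Fact.out : p.Prime).one_lt.ne' (Nat.dvd_one.mp this)
  constructor
  · have := congrArg (Subgroup.map T.subtype) hsupT
    rw [Subgroup.map_sup, hH', Subgroup.subgroupOf_map_subtype, inf_eq_left.mpr hHT,
      ← MonoidHom.range_eq_map, Subgroup.range_subtype] at this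
    exact this
  · have := congrArg (Subgroup.map T.subtype) hinf
    rw [Subgroup.map_inf _ _ T.subtype T.subtype_injective, hH', Subgroup.subgroupOf_map_subtype,
      inf_eq_left.mpr hHT, Subgroup.map_bot] at this
    exact this

end Cfsg.Agent.S3020
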