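import Cfsg.Statements.S3021
import Mathlib.GroupTheory.Nilpotent

set_option autoImplicit false
open Cfsg

namespace Cfsg.Agent.S3021

/-- In a finite `p`-group `T`, a subgroup `H` with `N_T(H) ≤ H` is all of `T`. -/
theorem eq_of_pgroup_of_normalizer_le {G : Type*} [Group G] [Finite G] {p : ℕ} [Fact p.Prime]
    {H T : Subgroup G} (hT : IsPGroup p T) (hHT : H ≤ T)
    (h : T ⊓ Subgroup.normalizer (H : Set G) ≤ H) : T ≤ H := by
  have : Group.IsNilpotent T := hT.isNilpotent
  have hnc : NormalizerCondition T := Group.normalizerCondition_of_isNilpotent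
  rw [normalizerCondition_iff_only_full_group_self_normalizing] at hnc
  have h1 : Subgroup.normalizer ((H.subgroupOf T : Subgroup T) : Set T) = H.subgroupOf T := by
    rw [← Subgroup.subgroupOf_normalizer_eq hHT]
    apply le_antisymm
    · intro t ht
      rw [Subgroup.mem_subgroupOf] at ht ⊢
      exact h ⟨t.2, ht⟩
    · intro t ht
      rw [Subgroup.mem_subgroupOf] at ht ⊢
      exact Subgroup.le_normalizer ht
  have h2 := hnc _ h1
  rwa [Subgroup.subgroupOf_eq_top] at h2

theorem result {G : Type*} [Group G] [Finite G] {p : ℕ} [Fact p.Prime] (H : Subgroup G) (hHp : IsPGroup p H) (hcl : Cfsg.IsExtremelyClosed H) : (∀ Q : Subgroup G, IsPGroup p Q → H ≤ Q → Subgroup.normalizer (Q : Set G) ≤ Subgroup.normalizer (H : Set G)) ∧ ∀ P : Sylow p G, H ≤ (P : Subgroup G) → (P : Subgroup G) ≤ Subgroup.normalizer (H : Set G) ∧ Cfsg.IsStronglyClosed H (P : Subgroup G) := by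
  have key : ∀ Q : Subgroup G, IsPGroup p Q → H ≤ Q → ∀ g ∈ Subgroup.normalizer (Q : Set G),
      H.map (MulAut.conj g).toMonoidHom ≤ H := by
    intro Q hQ hHQ g hg
    have hgH : H.map (MulAut.conj g).toMonoidHom ≤ Q := by
      rintro _ ⟨a, ha, rfl⟩
      exact (Subgroup.mem_normalizer_iff.mp hg a).mp (hHQ ha)
    have hTQ : H ⊔ H.map (MulAut.conj g).toMonoidHom ≤ Q := sup_le hHQ hgH
    have hT : IsPGroup p (H ⊔ H.map (MulAut.conj g).toMonoidHom : Subgroup G) := hQ.to_le hTQ
    have := eq_of_pgroup_of_normalizer_le hT le_sup_left (le_of_eq (hcl g))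
    exact le_trans le_sup_right this
  have h1 : ∀ Q : Subgroup G, IsPGroup p Q → H ≤ Q →
      Subgroup.normalizer (Q : Set G) ≤ Subgroup.normalizer (H : Set G) := by
    intro Q hQ hHQ g hg
    have hle := key Q hQ hHQ g hg
    have heq : H.map (MulAut.conj g).toMonoidHom = H := by
      apply Subgroup.eq_of_le_of_card_ge hle
      rw [Subgroup.card_map_of_injective (MulAut.conj g).injective]
    rw [Subgroup.mem_normalizer_iff]
    intro h
    constructor
    · intro hh; rw [← heq]; exact ⟨h, hh, rfl⟩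
    · intro hh
      rw [← heq] at hh
      obtain ⟨b, hb, hbe⟩ := hh
      simp only [MulEquiv.coe_toMonoidHom, MulAut.conj_apply] at hbe
      have : h = b := by
        have : g⁻¹ * (g * b * g⁻¹) * g = g⁻¹ * (g * h * g⁻¹) * g := by rw [hbe]
        simpa [mul_assoc] using this.symm
      rw [this]; exact hb
  refine ⟨h1, ?_⟩
  intro P hHP
  have hPN : (P : Subgroup G) ≤ Subgroup.normalizer (H : Set G) :=
    le_trans Subgroup.le_normalizer (h1 P P.isPGroup' hHP)
  refine ⟨hPN, hHP, ?_⟩
  intro x hx g hg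
  have : g * x * g⁻¹ ∈ (H ⊔ H.map (MulAut.conj g).toMonoidHom) ⊓ Subgroup.normalizer (H : Set G) := by
    refine ⟨?_, hPN hg⟩
    apply Subgroup.mem_sup_right
    exact ⟨x, hx, rfl⟩
  rw [hcl g] at this
  exact this

end Cfsg.Agent.S3021
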