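import Cfsg.Statements.S3023
import Cfsg.Agent.Lib.Helper49_CharP4
import Cfsg.Agent.Lib.Helper32_Sylow
import Cfsg.Agent.Lib.Helper32_PGroup
import Cfsg.Agent.Lib.Helper2_Sylow

set_option autoImplicit false
open Cfsg

namespace Cfsg.Agent.S3023

open Cfsg.Agent.Lib.Helper49_CharP Subgroup

/-- A Sylow `p`-subgroup of `G` meets a subnormal subgroup `H` in a Sylow `p`-subgroup of `H`
(index form). -/
theorem not_dvd_relIndex_of_isSubnormal {G : Type*} [Group G] [Finite G] {p : ℕ} [Fact p.Prime]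
    (S : Sylow p G) {H : Subgroup G} (hH : H.IsSubnormal) :
    ¬ p ∣ (S : Subgroup G).relIndex H := by
  induction hH with
  | top => rw [relIndex_top_right]; exact S.not_dvd_index
  | step H K h_le _ hN ih =>
    have hp : IsPGroup p ((S : Subgroup G).subgroupOf K) := S.isPGroup'.comap_subtype
    have := hN
    have ih' : ¬ p ∣ ((S : Subgroup G).subgroupOf K).index := ih
    have h1 := Cfsg.Agent.Lib.Helper32_Sylow.not_dvd_relIndex_inf_normal
      (IsPGroup.toSylow hp ih') (H.subgroupOf K)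
    rw [inf_relIndex_right, IsPGroup.toSylow_coe, relIndex_subgroupOf h_le] at h1
    exact h1

theorem charP_of_subnormal_inf {G : Type*} [Group G] [Finite G] {p : ℕ} [Fact p.Prime]
    {L H : Subgroup G} (hL : IsCharP p ↥L) (hH : H.IsSubnormal) : IsCharP p ↥(H ⊓ L) := by
  have h1 : (H.subgroupOf L).IsSubnormal := hH.subgroupOf
  have h2 := hL.of_isSubnormal _ h1
  rw [← inf_subgroupOf_right] at h2
  exact h2.of_mulEquiv (subgroupOfEquivOfLe inf_le_right)

theorem charP_normalizer_inf {G : Type*} [Group G] [Finite G] {p : ℕ} [Fact p.Prime]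
    {L Q : Subgroup G} (hL : IsCharP p ↥L) (hQL : Q ≤ L) (hQ : IsPGroup p Q) :
    IsCharP p ↥(normalizer (Q : Set G) ⊓ L) := by
  have h1 := hL.normalizer (Q.subgroupOf L) hQ.comap_subtype
  rw [← subgroupOf_normalizer_eq hQL, ← inf_subgroupOf_right] at h1
  exact h1.of_mulEquiv (subgroupOfEquivOfLe inf_le_right)

theorem conj_mem_centralizer {G : Type*} [Group G] {A B : Subgroup G} {g y : G}
    (hy : y ∈ centralizer (A : Set G)) (hB : ∀ t ∈ B, g⁻¹ * t * g ∈ A) :
    g * y * g⁻¹ ∈ centralizer (B : Set G) := by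
  rw [mem_centralizer_iff] at hy ⊢
  intro t ht
  have h := hy _ (hB t ht)
  calc t * (g * y * g⁻¹) = g * ((g⁻¹ * t * g) * y) * g⁻¹ := by group
    _ = g * (y * (g⁻¹ * t * g)) * g⁻¹ := by rw [h]
    _ = g * y * g⁻¹ * t := by group

/-- The key step: if `S ∩ G₁` normalizes the nontrivial `p`-subgroup `R' ≤ S ∩ G₁`, then
`N_{G₁}(R')` has characteristic `p`. -/
theorem key {G : Type*} [Group G] [Finite G] {p : ℕ} [Fact p.Prime]
    (hG : Cfsg.IsOfParabolicCharacteristic p G) (S : Sylow p G) (G₁ : Subgroup G)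
    (hsn : G₁.IsSubnormal)
    (hle : ((S : Subgroup G) ⊓ G₁) ⊓ centralizer (((S : Subgroup G) ⊓ G₁ : Subgroup G) : Set G) ≤
      (S : Subgroup G) ⊓ centralizer ((S : Subgroup G) : Set G))
    (R' : Subgroup G) (hR'G : R' ≤ G₁) (hR' : IsPGroup p R') (hR'1 : R' ≠ ⊥)
    (hRS : R' ≤ (S : Subgroup G)) (hSN : (S : Subgroup G) ⊓ G₁ ≤ normalizer (R' : Set G)) :
    IsCharP p ↥(normalizer (R' : Set G) ⊓ G₁) := by
  have hRS₁ : R' ≤ (S : Subgroup G) ⊓ G₁ := le_inf hRS hR'G
  have hnorm : (R'.subgroupOf ((S : Subgroup G) ⊓ G₁)).Normal :=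
    (normal_subgroupOf_iff_le_normalizer hRS₁).mpr hSN
  have hS₁p : IsPGroup p ↥((S : Subgroup G) ⊓ G₁) := S.isPGroup'.to_le inf_le_left
  have hne' : R'.subgroupOf ((S : Subgroup G) ⊓ G₁) ≠ ⊥ := by
    intro h
    apply hR'1
    rw [eq_bot_iff]
    intro x hx
    have h1 : (⟨x, hRS₁ hx⟩ : ↥((S : Subgroup G) ⊓ G₁)) ∈ R'.subgroupOf ((S : Subgroup G) ⊓ G₁) :=
      mem_subgroupOf.mpr hx
    rw [h, mem_bot] at h1
    rw [mem_bot]
    exact congrArg Subtype.val h1
  obtain ⟨z, hzN, hzc, hz1⟩ :=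
    Cfsg.Agent.Lib.Helper32_PGroup.exists_mem_center_of_normal hS₁p
      (R'.subgroupOf ((S : Subgroup G) ⊓ G₁)) hne'
  have hzR : (z : G) ∈ R' := mem_subgroupOf.mp hzN
  have hzcomm : ∀ s ∈ (S : Subgroup G) ⊓ G₁, s * (z : G) = (z : G) * s := by
    intro s hs
    have := mem_center_iff.mp hzc ⟨s, hs⟩
    exact congrArg Subtype.val this
  have hz1' : (z : G) ≠ 1 := fun h => hz1 (Subtype.ext h)
  have hzZ : (z : G) ∈ ((S : Subgroup G) ⊓ G₁) ⊓
      centralizer (((S : Subgroup G) ⊓ G₁ : Subgroup G) : Set G) :=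
    mem_inf.mpr ⟨z.2, mem_centralizer_iff.mpr (fun s hs => hzcomm s hs)⟩
  have hzZS := hle hzZ
  have hzS : ∀ s ∈ (S : Subgroup G), s * (z : G) = (z : G) * s :=
    fun s hs => mem_centralizer_iff.mp (mem_inf.mp hzZS).2 s hs
  have hUp : IsPGroup p (zpowers (z : G)) :=
    S.isPGroup'.to_le (by rw [zpowers_le]; exact (mem_inf.mp hzZS).1)
  have hU1 : zpowers (z : G) ≠ ⊥ := by
    rw [Ne, zpowers_eq_bot]
    exact hz1'
  have hcentU : ∀ x : G, x * (z : G) = (z : G) * x → x ∈ centralizer ((zpowers (z : G)) : Set G) := by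
    intro x hx
    rw [mem_centralizer_iff]
    intro u hu
    obtain ⟨k, rfl⟩ := mem_zpowers_iff.mp hu
    exact ((Commute.zpow_right (show Commute x (z : G) from hx) k).eq).symm
  have hSX : (S : Subgroup G) ≤ centralizer ((zpowers (z : G)) : Set G) :=
    fun s hs => hcentU s (hzS s hs)
  have hpar : Cfsg.IsParabolic p (normalizer ((zpowers (z : G)) : Set G)) :=
    ⟨S, hSX.trans (centralizer_le_normalizer _)⟩
  have h1 : IsCharP p ↥(normalizer ((zpowers (z : G)) : Set G)) := hG _ hUp hU1 hpar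
  have h2 : IsCharP p ↥(centralizer ((zpowers (z : G)) : Set G)) := by
    have : ((centralizer ((zpowers (z : G)) : Set G)).subgroupOf
        (normalizer ((zpowers (z : G)) : Set G))).Normal := by
      rw [← normalizerMonoidHom_ker]
      infer_instance
    exact (h1.of_normal _).of_mulEquiv (subgroupOfEquivOfLe (centralizer_le_normalizer _))
  have hRX : R' ≤ centralizer ((zpowers (z : G)) : Set G) :=
    fun r hr => hcentU r (hzcomm r (hRS₁ hr))
  have h3 := charP_normalizer_inf h2 hRX hR'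
  have h4 := charP_of_subnormal_inf h3 hsn
  refine IsCharP.of_centralizer_le
    ((centralizer ((zpowers (z : G)) : Set G)).subgroupOf (normalizer (R' : Set G) ⊓ G₁)) ?_ ?_
  · have e : G₁ ⊓ (normalizer (R' : Set G) ⊓ centralizer ((zpowers (z : G)) : Set G)) =
        centralizer ((zpowers (z : G)) : Set G) ⊓ (normalizer (R' : Set G) ⊓ G₁) := by
      ac_rfl
    rw [e] at h4
    rw [← inf_subgroupOf_right]
    exact h4.of_mulEquiv (subgroupOfEquivOfLe inf_le_right).symm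
  · intro y hy
    rw [mem_subgroupOf]
    apply hcentU
    have hRn : (R'.subgroupOf (normalizer (R' : Set G) ⊓ G₁)).Normal :=
      (normal_subgroupOf_iff_le_normalizer (le_inf le_normalizer hR'G)).mpr inf_le_left
    have hzL : (z : G) ∈ normalizer (R' : Set G) ⊓ G₁ :=
      mem_inf.mpr ⟨le_normalizer hzR, hR'G hzR⟩
    have hzcore : (⟨z, hzL⟩ : ↥(normalizer (R' : Set G) ⊓ G₁)) ∈
        pCore p ↥(normalizer (R' : Set G) ⊓ G₁) :=
      le_pCore hRn hR'.comap_subtype (mem_subgroupOf.mpr hzR)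
    have := mem_centralizer_iff.mp hy _ hzcore
    exact (congrArg Subtype.val this).symm

/-- Let p be a prime, G a finite group of parabolic characteristic p (every p-local subgroup containing a Sylow p-subgroup of G has characteristic p), S a Sylow p-subgroup of G and G₁ a subnormal subgroup of G. If the centre of S ∩ G₁ is nontrivial and contained in the centre of S, then G₁ has parabolic characteristic p. -/
theorem result {G : Type*} [Group G] [Finite G] {p : ℕ} [Fact p.Prime] (hG : Cfsg.IsOfParabolicCharacteristic p G) (S : Sylow p G) (G₁ : Subgroup G) (hsn : G₁.IsSubnormal) (hne : ((S : Subgroup G) ⊓ G₁) ⊓ Subgroup.centralizer (((S : Subgroup G) ⊓ G₁ : Subgroup G) : Set G) ≠ ⊥) (hle : ((S : Subgroup G) ⊓ G₁) ⊓ Subgroup.centralizer (((S : Subgroup G) ⊓ G₁ : Subgroup G) : Set G) ≤ (S : Subgroup G) ⊓ Subgroup.centralizer ((S : Subgroup G) : Set G)) : Cfsg.IsOfParabolicCharacteristic p ↥G₁ := by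
  intro R hR hR1 hpar
  obtain ⟨T, hT⟩ := hpar
  -- the Sylow `p`-subgroup `S ∩ G₁` of `G₁`
  have hSp : IsPGroup p ((S : Subgroup G).subgroupOf G₁) := S.isPGroup'.comap_subtype
  have hidx : ¬ p ∣ ((S : Subgroup G).subgroupOf G₁).index := not_dvd_relIndex_of_isSubnormal S hsn
  obtain ⟨g, hg⟩ := MulAction.exists_smul_eq ↥G₁ (IsPGroup.toSylow hSp hidx) T
  -- membership in `T`
  have hmemT : ∀ x : ↥G₁, x ∈ (T : Subgroup ↥G₁) ↔ (g : G)⁻¹ * (x : G) * (g : G) ∈ (S : Subgroup G) := by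
    intro x
    rw [← hg]
    have h := Cfsg.Agent.Lib.Helper2_Sylow.mem_smul_sylow_iff' g x (IsPGroup.toSylow hSp hidx)
    have h' : g⁻¹ * x * g ∈ IsPGroup.toSylow hSp hidx ↔
        (g : G)⁻¹ * (x : G) * (g : G) ∈ (S : Subgroup G) := by
      show g⁻¹ * x * g ∈ (S : Subgroup G).subgroupOf G₁ ↔ _
      rw [mem_subgroupOf]
      simp
    exact h.trans h'
  have hmemS' : ∀ x : G, x ∈ (((g : G) • S : Sylow p G) : Subgroup G) ↔
      (g : G)⁻¹ * x * (g : G) ∈ (S : Subgroup G) := by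
    intro x
    exact Cfsg.Agent.Lib.Helper2_Sylow.mem_smul_sylow_iff' (g : G) x S
  have hS'T : ∀ x : G, x ∈ (((g : G) • S : Sylow p G) : Subgroup G) ⊓ G₁ ↔
      ∃ hx : x ∈ G₁, (⟨x, hx⟩ : ↥G₁) ∈ (T : Subgroup ↥G₁) := by
    intro x
    rw [mem_inf, hmemS']
    constructor
    · rintro ⟨h1, h2⟩
      exact ⟨h2, (hmemT ⟨x, h2⟩).mpr h1⟩
    · rintro ⟨h2, h1⟩
      exact ⟨(hmemT ⟨x, h2⟩).mp h1, h2⟩
  -- `R ≤ T`
  have hRT : R ≤ (T : Subgroup ↥G₁) := by
    have h1 : IsPGroup p (R ⊔ (T : Subgroup ↥G₁) : Subgroup ↥G₁) :=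
      hR.to_sup_of_normal_left' T.isPGroup' hT
    have h2 := T.is_maximal' h1 le_sup_right
    rw [← h2]
    exact le_sup_left
  -- the image of `R` in `G`
  have hR'G : R.map G₁.subtype ≤ G₁ := by
    rintro _ ⟨x, _, rfl⟩
    exact x.2
  have hR'p : IsPGroup p (R.map G₁.subtype) := hR.map _
  have hR'1 : R.map G₁.subtype ≠ ⊥ := by
    rw [Ne, map_eq_bot_iff_of_injective _ Subtype.val_injective]
    exact hR1
  have hR'S : R.map G₁.subtype ≤ (((g : G) • S : Sylow p G) : Subgroup G) := by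
    rintro _ ⟨x, hx, rfl⟩
    exact ((hS'T _).mpr ⟨x.2, hRT hx⟩).1
  have hSN : (((g : G) • S : Sylow p G) : Subgroup G) ⊓ G₁ ≤
      normalizer ((R.map G₁.subtype : Subgroup G) : Set G) := by
    intro x hx
    obtain ⟨hx1, hx2⟩ := (hS'T x).mp hx
    exact le_normalizer_map G₁.subtype ⟨⟨x, hx1⟩, hT hx2, rfl⟩
  -- the hypothesis on centres for the conjugate Sylow subgroup
  have hle' : ((((g : G) • S : Sylow p G) : Subgroup G) ⊓ G₁) ⊓
      centralizer ((((((g : G) • S : Sylow p G) : Subgroup G) ⊓ G₁ : Subgroup G)) : Set G) ≤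
      (((g : G) • S : Sylow p G) : Subgroup G) ⊓
        centralizer (((((g : G) • S : Sylow p G) : Subgroup G)) : Set G) := by
    intro x hx
    obtain ⟨hx1, hx2⟩ := mem_inf.mp hx
    obtain ⟨hxS, hxG⟩ := mem_inf.mp hx1
    have hy : (g : G)⁻¹ * x * (g : G) ∈ ((S : Subgroup G) ⊓ G₁) ⊓
        centralizer (((S : Subgroup G) ⊓ G₁ : Subgroup G) : Set G) := by
      refine mem_inf.mpr ⟨mem_inf.mpr ⟨(hmemS' x).mp hxS, ?_⟩, ?_⟩
      · exact G₁.mul_mem (G₁.mul_mem (G₁.inv_mem g.2) hxG) g.2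
      · have := conj_mem_centralizer (g := (g : G)⁻¹) hx2
          (B := (S : Subgroup G) ⊓ G₁) (fun t ht => by
            obtain ⟨ht1, ht2⟩ := mem_inf.mp ht
            refine mem_inf.mpr ⟨(hmemS' _).mpr ?_, ?_⟩
            · have : (g : G)⁻¹ * ((g : G)⁻¹⁻¹ * t * (g : G)⁻¹) * (g : G) = t := by group
              rw [this]
              exact ht1
            · exact G₁.mul_mem (G₁.mul_mem (G₁.inv_mem (G₁.inv_mem g.2)) ht2) (G₁.inv_mem g.2))
        simpa using this
    obtain ⟨hy1, hy2⟩ := mem_inf.mp (hle hy)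
    refine mem_inf.mpr ⟨hxS, ?_⟩
    have := conj_mem_centralizer (g := (g : G)) hy2
      (B := (((g : G) • S : Sylow p G) : Subgroup G)) (fun t ht => (hmemS' t).mp ht)
    have e : (g : G) * ((g : G)⁻¹ * x * (g : G)) * (g : G)⁻¹ = x := by group
    rwa [e] at this
  have hkey := key hG ((g : G) • S) G₁ hsn hle' (R.map G₁.subtype) hR'G hR'p hR'1 hR'S hSN
  -- transport to `N_{G₁}(R)`
  have e1 : (R.map G₁.subtype).subgroupOf G₁ = R :=
    comap_map_eq_self_of_injective Subtype.val_injective R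
  have e2 : normalizer (R : Set ↥G₁) =
      (normalizer ((R.map G₁.subtype : Subgroup G) : Set G) ⊓ G₁).subgroupOf G₁ := by
    rw [inf_subgroupOf_right, subgroupOf_normalizer_eq hR'G, e1]
  show IsCharP p ↥(normalizer (R : Set ↥G₁))
  rw [e2]
  exact hkey.of_mulEquiv (subgroupOfEquivOfLe inf_le_right).symm

end Cfsg.Agent.S3023
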