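import Cfsg.Statements.S3025
import Cfsg.Agent.S0016

set_option autoImplicit false
open Cfsg

namespace Cfsg.Agent.S3025

open Subgroup

variable {F : Type*} [Group F]

/-- conjugate of a subgroup, as a map -/
abbrev cj (g : F) (K : Subgroup F) : Subgroup F := K.map (MulAut.conj g).toMonoidHom

theorem mem_cj {g x : F} {K : Subgroup F} : x ∈ cj g K ↔ g⁻¹ * x * g ∈ K := by
  constructor
  · rintro ⟨k, hk, rfl⟩
    simp only [MulEquiv.toMonoidHom_eq_coe, MonoidHom.coe_coe, MulAut.conj_apply]
    have : g⁻¹ * (g * k * g⁻¹) * g = k := by group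
    rw [this]; exact hk
  · intro h
    refine ⟨g⁻¹ * x * g, h, ?_⟩
    simp only [MulEquiv.toMonoidHom_eq_coe, MonoidHom.coe_coe, MulAut.conj_apply]
    group

/-- Step 1: the intersection of all nontrivial normal subgroups. -/
theorem exists_min_normal (H : Subgroup F) (hH : H ≠ ⊥)
    (hmin : ∀ R : Subgroup F, R ≠ ⊥ → H ≤ Subgroup.normalizer (R : Set F) → H ≤ R) :
    ∃ N : Subgroup F, N.Normal ∧ N ≠ ⊥ ∧ H ≤ N ∧
      (∀ M : Subgroup F, M.Normal → M ≠ ⊥ → N ≤ M) := by
  let S : Set (Subgroup F) := {M | M.Normal ∧ M ≠ ⊥}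
  have hHle : H ≤ sInf S := by
    apply le_sInf
    rintro M ⟨hMn, hM⟩
    apply hmin M hM
    rw [Subgroup.normalizer_eq_top]
    exact le_top
  refine ⟨sInf S, ?_, ?_, hHle, fun M h1 h2 => sInf_le ⟨h1, h2⟩⟩
  · constructor
    intro n hn g
    rw [Subgroup.mem_sInf] at hn ⊢
    intro M hM
    exact hM.1.conj_mem n (hn M hM) g
  · intro h
    apply hH
    rw [eq_bot_iff, ← h]
    exact hHle

/-- Step 2: `N` is simple. -/
theorem isSimple_of_min (H : Subgroup F) (hH : H ≠ ⊥)
    (hmin : ∀ R : Subgroup F, R ≠ ⊥ → H ≤ Subgroup.normalizer (R : Set F) → H ≤ R)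
    (N : Subgroup F) [hNn : N.Normal] (hN : N ≠ ⊥) (hHN : H ≤ N)
    (hNmin : ∀ M : Subgroup F, M.Normal → M ≠ ⊥ → N ≤ M) : IsSimpleGroup ↥N := by
  let T : Set (Subgroup F) := {K | K ≤ N ∧ K ≠ ⊥ ∧ N ≤ Subgroup.normalizer (K : Set F)}
  have hHle : H ≤ sInf T := by
    apply le_sInf
    rintro K ⟨_, hK, hKN⟩
    exact hmin K hK (hHN.trans hKN)
  have hTcj : ∀ (g : F) (K : Subgroup F), K ∈ T → cj g K ∈ T := by
    rintro g K ⟨hK1, hK2, hK3⟩
    refine ⟨?_, ?_, ?_⟩
    · intro x hx
      rw [mem_cj] at hx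
      have := hNn.conj_mem _ (hK1 hx) g
      have e : g * (g⁻¹ * x * g) * g⁻¹ = x := by group
      rwa [e] at this
    · intro h
      apply hK2
      rw [eq_bot_iff] at h ⊢
      intro k hk
      have : (MulAut.conj g).toMonoidHom k ∈ cj g K := ⟨k, hk, rfl⟩
      have h2 := h this
      rw [Subgroup.mem_bot] at h2 ⊢
      exact (MulAut.conj g).injective (by simpa using h2)
    · intro n hn
      rw [Subgroup.mem_normalizer_iff]
      intro x
      rw [mem_cj, mem_cj]
      have hn' : g⁻¹ * n * g ∈ N := by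
        have := hNn.conj_mem n hn g⁻¹
        rwa [inv_inv] at this
      have h3 := (Subgroup.mem_normalizer_iff.mp (hK3 hn')) (g⁻¹ * x * g)
      have e : g⁻¹ * n * g * (g⁻¹ * x * g) * (g⁻¹ * n * g)⁻¹ = g⁻¹ * (n * x * n⁻¹) * g := by group
      rw [e] at h3
      exact h3
  have hS0n : (sInf T).Normal := by
    constructor
    intro n hn g
    rw [Subgroup.mem_sInf] at hn ⊢
    intro K hK
    have := hn _ (hTcj g⁻¹ K hK)
    rw [mem_cj] at this
    simpa using this
  have hS0 : sInf T ≠ ⊥ := by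
    intro h
    apply hH
    rw [eq_bot_iff, ← h]
    exact hHle
  have hNle : N ≤ sInf T := hNmin _ hS0n hS0
  have hnt : Nontrivial ↥N := (Subgroup.nontrivial_iff_ne_bot N).mpr hN
  refine { exists_pair_ne := hnt.exists_pair_ne, eq_bot_or_eq_top_of_normal := ?_ }
  intro K hKn
  by_cases hK : K = ⊥
  · left; exact hK
  · right
    have hK'T : K.map N.subtype ∈ T := by
      refine ⟨Subgroup.map_subtype_le K, ?_, ?_⟩
      · intro h
        apply hK
        exact (Subgroup.map_eq_bot_iff_of_injective K N.subtype_injective).mp h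
      · intro n hn
        rw [Subgroup.mem_normalizer_iff]
        intro x
        constructor
        · rintro ⟨k, hk, rfl⟩
          exact ⟨⟨n, hn⟩ * k * ⟨n, hn⟩⁻¹, hKn.conj_mem k hk ⟨n, hn⟩, rfl⟩
        · rintro ⟨k, hk, hkx⟩
          refine ⟨⟨n, hn⟩⁻¹ * k * ⟨n, hn⟩, ?_, ?_⟩
          · have := hKn.conj_mem k hk ⟨n, hn⟩⁻¹
            rwa [inv_inv] at this
          · have e : (N.subtype (⟨n, hn⟩⁻¹ * k * ⟨n, hn⟩) : F) = n⁻¹ * (N.subtype k) * n := rfl
            rw [e, hkx]; group
    rw [eq_top_iff]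
    intro x _
    have hx : (x : F) ∈ K.map N.subtype := (hNle.trans (sInf_le hK'T)) x.2
    obtain ⟨k, hk, hkx⟩ := hx
    have : k = x := Subtype.ext hkx
    rwa [this] at hk


/-- Step 3: the case `N ≤ C_F(N)`. -/
theorem abelian_case [Finite F] (H N : Subgroup F) [hNn : N.Normal] (hsimple : IsSimpleGroup ↥N)
    (hHN : H ≤ N) (hH : H ≠ ⊥)
    (hmin : ∀ R : Subgroup F, R ≠ ⊥ → H ≤ Subgroup.normalizer (R : Set F) → H ≤ R)
    (hNC : N ≤ Subgroup.centralizer (N : Set F)) :
    H = N ∧ (Nat.card N).Prime ∧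
      ((IsCyclic ↥(Subgroup.centralizer (N : Set F)) ∧
          (∃ k : ℕ, 1 ≤ k ∧ Nat.card ↥(Subgroup.centralizer (N : Set F)) = Nat.card N ^ k) ∧
          (∃ g : F, Subgroup.centralizer (N : Set F) ⊔ Subgroup.zpowers g = ⊤) ∧
          (Subgroup.centralizer (N : Set F)).index ∣ Nat.card N - 1) ∨
       (Nat.card N = 2 ∧ Subgroup.centralizer (N : Set F) = ⊤ ∧
          ∃ k : ℕ, 1 ≤ k ∧ Nonempty (F ≃* QuaternionGroup (2 ^ k)))) := by
  have hcomm : ∀ a b : N, a * b = b * a := by
    intro a b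
    have := hNC a.2 b b.2
    exact Subtype.ext this.symm
  have hcommI : IsMulCommutative ↥N := ⟨⟨hcomm⟩⟩
  have hprime : (Nat.card N).Prime := by
    open scoped IsMulCommutative in exact IsSimpleGroup.prime_card (α := ↥N)
  have hfact : Fact (Nat.card N).Prime := ⟨hprime⟩
  have hHeq : H = N := by
    rcases Subgroup.eq_bot_or_eq_top_of_prime_card (H.subgroupOf N) with h | h
    · exfalso
      apply hH
      rw [Subgroup.subgroupOf_eq_bot] at h
      exact (disjoint_of_le_iff_left_eq_bot hHN).mp h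
    · exact le_antisymm hHN (Subgroup.subgroupOf_eq_top.mp h)
  refine ⟨hHeq, hprime, ?_⟩
  set C := Subgroup.centralizer (N : Set F) with hCdef
  set p := Nat.card N with hpdef
  have hHcard : Nat.card H = p := by rw [hHeq]
  -- every nontrivial subgroup of `C` contains `H`
  have hR : ∀ R : Subgroup F, R ≤ C → R ≠ ⊥ → H ≤ R := by
    intro R hRC hR
    apply hmin R hR
    intro h hh
    have hcx : ∀ x ∈ R, h * x * h⁻¹ = x := fun x hx => by
      have := hRC hx h (hHN hh)
      rw [this]; group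
    rw [Subgroup.mem_normalizer_iff]
    intro x
    constructor
    · intro hx; rw [hcx x hx]; exact hx
    · intro hx
      have h1 : h * (h * x * h⁻¹) = (h * x * h⁻¹) * h := hRC hx h (hHN hh)
      have h2 : x = h * x * h⁻¹ := by
        calc x = h⁻¹ * ((h * x * h⁻¹) * h) := by group
          _ = h⁻¹ * (h * (h * x * h⁻¹)) := by rw [h1]
          _ = h * x * h⁻¹ := by group
      rw [h2]; exact hx
  have hp1 : 1 < p := hprime.one_lt
  -- `C` is a `p`-group
  have hCcard : ∃ k : ℕ, Nat.card C = p ^ k := by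
    refine ⟨_, Nat.eq_prime_pow_of_unique_prime_dvd (Nat.card_pos).ne' ?_⟩
    intro q hq hqdvd
    have : Fact q.Prime := ⟨hq⟩
    obtain ⟨c, hc⟩ := exists_prime_orderOf_dvd_card' (G := C) q hqdvd
    have hc1 : c ≠ 1 := by
      intro h
      rw [h, orderOf_one] at hc
      exact hq.one_lt.ne hc
    have hRle : (Subgroup.zpowers c).map C.subtype ≤ C := Subgroup.map_subtype_le _
    have hRne : (Subgroup.zpowers c).map C.subtype ≠ ⊥ := by
      intro h
      have := (Subgroup.map_eq_bot_iff_of_injective _ C.subtype_injective).mp h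
      exact hc1 (Subgroup.zpowers_eq_bot.mp this)
    have hle := hR _ hRle hRne
    have hdvd := Subgroup.card_dvd_of_le hle
    rw [hHcard, Subgroup.card_map_of_injective C.subtype_injective, Nat.card_zpowers, hc] at hdvd
    exact ((Nat.prime_dvd_prime_iff_eq hprime hq).mp hdvd).symm
  obtain ⟨k, hk⟩ := hCcard
  have hCp : IsPGroup p C := IsPGroup.of_card hk
  have hk1 : 1 ≤ k := by
    by_contra h0
    have : k = 0 := by omega
    rw [this, pow_zero] at hk
    have hle : Nat.card N ≤ Nat.card C := Nat.card_le_card_of_injective _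
      (Subgroup.inclusion_injective hNC)
    omega
  -- uniqueness of the subgroup of order `p`
  have huniq : ∀ X Y : Subgroup C, Nat.card X = p → Nat.card Y = p → X = Y := by
    have key : ∀ X : Subgroup C, Nat.card X = p → X.map C.subtype = H := by
      intro X hX
      have hXne : X.map C.subtype ≠ ⊥ := by
        intro h
        have := (Subgroup.map_eq_bot_iff_of_injective _ C.subtype_injective).mp h
        rw [this, Subgroup.card_bot] at hX
        omega
      have hle := hR _ (Subgroup.map_subtype_le X) hXne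
      have hcard : Nat.card (X.map C.subtype) ≤ Nat.card H := by
        rw [Subgroup.card_map_of_injective C.subtype_injective, hX, hHcard]
      exact (Subgroup.eq_of_le_of_card_ge hle hcard).symm
    intro X Y hX hY
    apply Subgroup.map_injective C.subtype_injective
    rw [key X hX, key Y hY]
  -- the conjugation action
  let φ : F →* MulAut N := MulAut.conjNormal
  have hker : φ.ker = C := by
    ext g
    rw [MonoidHom.mem_ker, hCdef, Subgroup.mem_centralizer_iff]
    constructor
    · intro h n hn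
      have h1 : ((φ g) ⟨n, hn⟩ : F) = n := by rw [h]; rfl
      rw [MulAut.conjNormal_apply] at h1
      calc n * g = (g * n * g⁻¹) * g := by rw [h1]
        _ = g * n := by group
    · intro h
      ext n
      rw [MulAut.conjNormal_apply]
      have := h n n.2
      show g * n * g⁻¹ = n
      rw [← this]; group
  have hNcyc : IsCyclic N := isCyclic_of_prime_card rfl
  have hAutCyc : IsCyclic (MulAut N) :=
    isCyclic_of_surjective (IsCyclic.mulAutMulEquiv N).symm (IsCyclic.mulAutMulEquiv N).symm.surjective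
  have hAutCard : Nat.card (MulAut N) = p - 1 := by
    rw [IsCyclic.card_mulAut, Nat.totient_prime hprime]
  have hidx : C.index ∣ p - 1 := by
    rw [← hker, Subgroup.index_ker, ← hAutCard]
    exact Subgroup.card_subgroup_dvd_card _
  have hgen : ∃ g : F, C ⊔ Subgroup.zpowers g = ⊤ := by
    obtain ⟨γ, hγ⟩ := IsCyclic.exists_generator (α := φ.range)
    obtain ⟨g, hg⟩ := γ.2
    refine ⟨g, ?_⟩
    rw [eq_top_iff]
    intro f _
    obtain ⟨j, hj⟩ := Subgroup.mem_zpowers_iff.mp (hγ ⟨φ f, f, rfl⟩)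
    have h1 : φ f = φ g ^ j := by
      have := congrArg Subtype.val hj
      rw [Subgroup.coe_zpow] at this
      rw [hg, this]
    have h2 : f * (g ^ j)⁻¹ ∈ C := by
      rw [← hker, MonoidHom.mem_ker, map_mul, map_inv, map_zpow, h1]
      exact mul_inv_cancel _
    have h3 : f = (f * (g ^ j)⁻¹) * g ^ j := by group
    rw [h3]
    exact Subgroup.mul_mem_sup h2 (Subgroup.zpow_mem_zpowers g j)
  -- cyclic or quaternion
  have hdich : IsCyclic C ∨ (p = 2 ∧ ∃ j : ℕ, 1 ≤ j ∧ Nonempty (C ≃* QuaternionGroup (2 ^ j))) := by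
    by_cases hp2 : p = 2
    · have hCp2 : IsPGroup 2 C := hp2 ▸ hCp
      have huniq2 : ∀ X Y : Subgroup C, Nat.card X = 2 → Nat.card Y = 2 → X = Y := by
        intro X Y hX hY
        exact huniq X Y (hp2 ▸ hX) (hp2 ▸ hY)
      have hu := Cfsg.Agent.Lib.Helper50_UniqueInv2.uniqueInvolution_of_subgroups huniq2
      rcases Cfsg.Agent.Lib.Helper50_UniqueInv2.isCyclic_or_quaternion hCp2 hu with h | h
      · left; exact h
      · right; exact ⟨hp2, h⟩
    · left
      rcases Cfsg.Agent.S0016.result p hCp huniq with h | h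
      · exact h
      · exact absurd h.1 hp2
  rcases hdich with hcyc | ⟨hp2, j, hj1, ⟨e⟩⟩
  · left
    exact ⟨hcyc, ⟨k, hk1, hk⟩, hgen, hidx⟩
  · right
    have hCtop : C = ⊤ := by
      rw [hp2] at hidx
      have : C.index = 1 := Nat.dvd_one.mp hidx
      exact Subgroup.index_eq_one.mp this
    refine ⟨hp2, hCtop, j, hj1, ⟨?_⟩⟩
    exact (Subgroup.topEquiv.symm.trans (MulEquiv.subgroupCongr hCtop.symm)).trans e

/-- Let F be a finite group and H a nontrivial subgroup of F that is contained in every nontrivial subgroup of F which H normalizes. Then F has a nontrivial normal subgroup N contained in every nontrivial normal subgroup of F (a unique minimal normal subgroup), N is simple, and one of the following holds: C_F(N) = 1; or H = N has prime order p, C_F(N) is cyclic of order a power of p, and F/C_F(N) is cyclic of order dividing p − 1; or H = N has order 2, N is central in F, and F is a generalized quaternion group. -/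
theorem result {F : Type*} [Group F] [Finite F] (H : Subgroup F) (hH : H ≠ ⊥)
    (hmin : ∀ R : Subgroup F, R ≠ ⊥ → H ≤ Subgroup.normalizer (R : Set F) → H ≤ R) :
    ∃ N : Subgroup F, N.Normal ∧ N ≠ ⊥ ∧ (∀ M : Subgroup F, M.Normal → M ≠ ⊥ → N ≤ M) ∧ IsSimpleGroup ↥N ∧
      (Subgroup.centralizer (N : Set F) = ⊥ ∨
       (H = N ∧ (Nat.card N).Prime ∧ IsCyclic ↥(Subgroup.centralizer (N : Set F)) ∧
          (∃ k : ℕ, 1 ≤ k ∧ Nat.card ↥(Subgroup.centralizer (N : Set F)) = Nat.card N ^ k) ∧
          (∃ g : F, Subgroup.centralizer (N : Set F) ⊔ Subgroup.zpowers g = ⊤) ∧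
          (Subgroup.centralizer (N : Set F)).index ∣ Nat.card N - 1) ∨
       (H = N ∧ Nat.card N = 2 ∧ Subgroup.centralizer (N : Set F) = ⊤ ∧
          ∃ k : ℕ, 1 ≤ k ∧ Nonempty (F ≃* QuaternionGroup (2 ^ k)))) := by
  obtain ⟨N, hNn, hN, hHN, hNmin⟩ := exists_min_normal H hH hmin
  have := hNn
  have hsimple : IsSimpleGroup ↥N := isSimple_of_min H hH hmin N hN hHN hNmin
  refine ⟨N, hNn, hN, hNmin, hsimple, ?_⟩
  by_cases hC : Subgroup.centralizer (N : Set F) = ⊥
  · left; exact hC
  · right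
    have hNC : N ≤ Subgroup.centralizer (N : Set F) := hNmin _ inferInstance hC
    obtain ⟨h1, h2, h3⟩ := abelian_case H N hsimple hHN hH hmin hNC
    rcases h3 with ⟨a, b, c, d⟩ | ⟨a, b, c⟩
    · left; exact ⟨h1, h2, a, b, c, d⟩
    · right; exact ⟨h1, a, b, c⟩

end Cfsg.Agent.S3025
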