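import Cfsg.Statements.S3027
-- import your own Cfsg.Agent.* helpers here

set_option autoImplicit false
open Cfsg

namespace Cfsg.Agent.S3027

open Subgroup
open scoped Pointwise commutatorElement

variable {G : Type*} [Group G]

/-- `A` is a supplement of the normal subgroup `D`. -/
def Supp (D : Subgroup G) (A : Subgroup G) : Prop := A ⊔ D = ⊤

theorem supp_iff_map (D : Subgroup G) [D.Normal] (A : Subgroup G) :
    Supp D A ↔ A.map (QuotientGroup.mk' D) = ⊤ := by
  unfold Supp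
  constructor
  · intro h
    have h1 : (A ⊔ D).map (QuotientGroup.mk' D) = ⊤ := by
      rw [h]
      exact Subgroup.map_top_of_surjective _ (QuotientGroup.mk'_surjective D)
    rw [Subgroup.map_sup] at h1
    have h2 : D.map (QuotientGroup.mk' D) = ⊥ := QuotientGroup.map_mk'_self D
    rw [h2, sup_bot_eq] at h1
    exact h1
  · intro h
    have h1 := Subgroup.comap_map_eq (QuotientGroup.mk' D) A
    rw [h, Subgroup.comap_top, QuotientGroup.ker_mk'] at h1
    exact h1.symm

theorem supp_mono (D : Subgroup G) {A B : Subgroup G} (h : A ≤ B) (hA : Supp D A) : Supp D B := by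
  unfold Supp at *
  exact top_le_iff.1 (hA ▸ sup_le_sup_right h D)

theorem supp_comm (D : Subgroup G) [D.Normal] (hperf : ⁅(⊤ : Subgroup G), (⊤ : Subgroup G)⁆ ⊔ D = ⊤)
    {A B : Subgroup G} (hA : Supp D A) (hB : Supp D B) : Supp D ⁅A, B⁆ := by
  rw [supp_iff_map] at *
  rw [Subgroup.map_commutator, hA, hB]
  have h := (supp_iff_map D _).1 hperf
  rw [Subgroup.map_commutator, Subgroup.map_top_of_surjective _ (QuotientGroup.mk'_surjective D)] at h
  exact h

/-- A normal (in `K`) supplement meets a supplement that is subnormal in `K` in a supplement. -/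
theorem core (D : Subgroup G) [D.Normal] (hperf : ⁅(⊤ : Subgroup G), (⊤ : Subgroup G)⁆ ⊔ D = ⊤)
    (K N : Subgroup G) (hKN : K ≤ normalizer (N : Set G)) (hNK : Supp D (N ⊓ K))
    (C' : Subgroup K) (hC' : C'.IsSubnormal) (hC : Supp D (C'.map K.subtype)) :
    Supp D (N ⊓ C'.map K.subtype) := by
  induction hC' with
  | top =>
    rw [← MonoidHom.range_eq_map, Subgroup.range_subtype]
    exact hNK
  | step C' K'' h_le hSubn hN ih =>
    have hK' : Supp D (K''.map K.subtype) := supp_mono D (Subgroup.map_mono h_le) hC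
    have hNK' := ih hK'
    have hX : Supp D ⁅N ⊓ K''.map K.subtype, C'.map K.subtype⁆ := supp_comm D hperf hNK' hC
    refine supp_mono D ?_ hX
    rw [Subgroup.commutator_le]
    intro g₁ hg₁ g₂ hg₂
    obtain ⟨hg₁N, hg₁K⟩ := Subgroup.mem_inf.1 hg₁
    obtain ⟨k₁, hk₁, rfl⟩ := Subgroup.mem_map.1 hg₁K
    obtain ⟨c, hc, rfl⟩ := Subgroup.mem_map.1 hg₂
    refine Subgroup.mem_inf.2 ⟨?_, ?_⟩
    · -- in `N`: `c` normalizes `N`
      have hcn : (c : G) ∈ normalizer (N : Set G) := hKN c.2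
      have h1 : (c : G) * (k₁ : G)⁻¹ * (c : G)⁻¹ ∈ N :=
        (Subgroup.mem_normalizer_iff.1 hcn _).1 (N.inv_mem hg₁N)
      have h2 : ⁅(K.subtype k₁ : G), (K.subtype c : G)⁆ = (k₁ : G) * ((c : G) * (k₁ : G)⁻¹ * (c : G)⁻¹) := by
        simp only [commutatorElement_def, Subgroup.coe_subtype]
        group
      rw [h2]
      exact N.mul_mem hg₁N h1
    · -- in `C`: `k₁ ∈ K''` normalizes `C'`
      rw [Subgroup.normal_subgroupOf_iff_le_normalizer h_le] at hN
      have hkn : k₁ ∈ normalizer (C' : Set K) := hN hk₁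
      have h1 : k₁ * c * k₁⁻¹ ∈ C' := (Subgroup.mem_normalizer_iff.1 hkn _).1 hc
      have h3 : ⁅k₁, c⁆ ∈ C' := by
        rw [commutatorElement_def]
        exact C'.mul_mem h1 (C'.inv_mem hc)
      refine Subgroup.mem_map.2 ⟨⁅k₁, c⁆, h3, ?_⟩
      simp [commutatorElement_def]

theorem closure_inf (D : Subgroup G) [D.Normal] (hperf : ⁅(⊤ : Subgroup G), (⊤ : Subgroup G)⁆ ⊔ D = ⊤)
    (B₁ : Subgroup G) (h₁ : B₁.IsSubnormal) :
    Supp D B₁ → ∀ B₂ : Subgroup G, B₂.IsSubnormal → Supp D B₂ → Supp D (B₁ ⊓ B₂) := by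
  induction h₁ with
  | top =>
    intro _ B₂ _ hB₂
    rw [top_inf_eq]
    exact hB₂
  | step B₁ K h_le hSubn hN ih =>
    intro hB₁ B₂ h₂ hB₂
    have hK : Supp D K := supp_mono D h_le hB₁
    have hKB₂ : Supp D (K ⊓ B₂) := ih hK B₂ h₂ hB₂
    rw [Subgroup.normal_subgroupOf_iff_le_normalizer h_le] at hN
    have hC : Supp D ((B₂.subgroupOf K).map K.subtype) := by
      rw [Subgroup.subgroupOf_map_subtype, inf_comm]
      exact hKB₂
    have hNK : Supp D (B₁ ⊓ K) := by
      rw [inf_of_le_left h_le]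
      exact hB₁
    have h := core D hperf K B₁ hN hNK (B₂.subgroupOf K) h₂.subgroupOf hC
    rw [Subgroup.subgroupOf_map_subtype] at h
    refine supp_mono D ?_ h
    exact inf_le_inf_left _ inf_le_left

/-- Let G be a finite group and D a normal subgroup of G such that G/D is perfect (that is, G = G′D). Then among the subnormal subgroups B of G with BD = G there is a least one, and it is normal in G. -/
theorem result {G : Type*} [Group G] [Finite G] (D : Subgroup G) [D.Normal] (hperf : ⁅(⊤ : Subgroup G), (⊤ : Subgroup G)⁆ ⊔ D = ⊤) :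
    ∃ B : Subgroup G, B.Normal ∧ B ⊔ D = ⊤ ∧ ∀ B' : Subgroup G, B'.IsSubnormal → B' ⊔ D = ⊤ → B ≤ B' := by
  classical
  let S : Set (Subgroup G) := {B | B.IsSubnormal ∧ Supp D B}
  have hSfin : S.Finite := Set.toFinite S
  let s : Finset (Subgroup G) := hSfin.toFinset
  have hmem : ∀ B, B ∈ s ↔ B.IsSubnormal ∧ Supp D B := by
    intro B
    simp [s, S]
  let B := s.inf id
  have hB : B.IsSubnormal ∧ Supp D B := by
    refine Finset.inf_induction (p := fun B => B.IsSubnormal ∧ Supp D B) ?_ ?_ ?_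
    · exact ⟨Subgroup.IsSubnormal.top, by simp [Supp]⟩
    · intro a₁ h₁ a₂ h₂
      exact ⟨h₁.1.inf h₂.1, closure_inf D hperf a₁ h₁.1 h₁.2 a₂ h₂.1 h₂.2⟩
    · intro b hb
      exact (hmem b).1 hb
  have hleast : ∀ B' : Subgroup G, B'.IsSubnormal → B' ⊔ D = ⊤ → B ≤ B' := by
    intro B' h1 h2
    exact Finset.inf_le (f := id) ((hmem B').2 ⟨h1, h2⟩)
  refine ⟨B, ?_, hB.2, hleast⟩
  constructor
  intro n hn g
  have h1 : (MulAut.conj g⁻¹ • B).IsSubnormal := hB.1.smul _
  have h2 : (MulAut.conj g⁻¹ • B) ⊔ D = ⊤ := by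
    have h3 : MulAut.conj g⁻¹ • (B ⊔ D) = ⊤ := by
      rw [hB.2, eq_top_iff]
      intro x _
      rw [Subgroup.mem_pointwise_smul_iff_inv_smul_mem]
      exact Subgroup.mem_top _
    rw [Subgroup.smul_sup, Subgroup.Normal.conj_smul_eq_self g⁻¹ D] at h3
    exact h3
  have h4 := hleast _ h1 h2 hn
  rw [Subgroup.mem_pointwise_smul_iff_inv_smul_mem] at h4
  simpa using h4

end Cfsg.Agent.S3027
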