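import Cfsg.Statements.S3033
import Cfsg.Agent.Lib.Helper68_ConjPair
import Cfsg.Agent.S0579

set_option autoImplicit false
open Cfsg

namespace Cfsg.Agent.S3033

open Cfsg.Agent.Lib.Helper68_ConjPair Cfsg.Agent.Lib.Helper68_MinNonSup
  Cfsg.Agent.Lib.Helper9_Supersolvable2

universe u

/-- the induction: `Hyp` passes to subgroups and quotients; proper subgroups supersolvable gives
solvability; maximal subgroups with nontrivial core are handled in the quotient, core-free ones by
the quasi-scalar linear group theorem; conclude with Huppert's criterion (S0579). -/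
theorem aux : ∀ (n : ℕ) (G : Type u) [Group G] [Finite G], Nat.card G = n → Hyp G →
    Cfsg.IsSupersolvable G := by
  intro n
  induction n using Nat.strong_induction_on with
  | _ n ih => ?_
  intro G _ _ hn hyp
  have hprop : ∀ H : Subgroup G, H ≠ ⊤ → Cfsg.IsSupersolvable H := by
    intro H hH
    have hlt : Nat.card H < n := by
      rw [← hn]
      apply lt_of_le_of_ne (Subgroup.card_le_card_group H)
      intro h
      exact hH ((Subgroup.card_eq_iff_eq_top H).1 h)
    exact ih _ hlt H rfl (hyp_of_injective H.subtype H.subtype_injective hyp)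
  have hsolv : Group.IsSolvable G := isSolvable_of_proper_supersolvable hprop
  apply Cfsg.Agent.S0579.result
  intro Mx hMx
  by_cases hcore : Mx.normalCore = ⊥
  · exact index_prime_of_corefree hsolv hyp Mx hMx hcore (hprop Mx hMx.1)
  · have hlt : Nat.card (G ⧸ Mx.normalCore) < n := by
      rw [← hn]; exact card_quotient_lt _ hcore
    have hQ : Cfsg.IsSupersolvable (G ⧸ Mx.normalCore) :=
      ih _ hlt _ rfl (hyp_of_surjective (QuotientGroup.mk' _) (QuotientGroup.mk'_surjective _) hyp)
    have hker : (QuotientGroup.mk' Mx.normalCore).ker ≤ Mx := by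
      rw [QuotientGroup.ker_mk']; exact Subgroup.normalCore_le Mx
    have hco := isCoatom_map_of_surjective (QuotientGroup.mk'_surjective _) hker hMx
    have hpr := index_prime_of_isCoatom hQ _ hco
    rwa [Subgroup.index_map_eq _ (QuotientGroup.mk'_surjective _) hker] at hpr

/-- Let G be a finite group such that for every pair of distinct primes p and q, every p-element x and every q-element g of G, the order of the subgroup generated by x and g x g⁻¹ is not divisible by q². Then G is supersolvable. -/
theorem result {G : Type*} [Group G] [Finite G]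
    (h : ∀ (p q : ℕ), p.Prime → q.Prime → p ≠ q → ∀ (x g : G), (∃ a : ℕ, orderOf x = p ^ a) → (∃ b : ℕ, orderOf g = q ^ b) →
      ¬ q ^ 2 ∣ Nat.card ↥(Subgroup.zpowers x ⊔ Subgroup.zpowers (g * x * g⁻¹))) :
    Cfsg.IsSupersolvable G := by
  exact aux _ G rfl h

end Cfsg.Agent.S3033
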