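import Cfsg.Statements.S3035
import Mathlib
import Cfsg.Agent.Lib.Helper55_D8Final
import Cfsg.Agent.Lib.Helper55_D8Index2
import Cfsg.Agent.S0255

set_option autoImplicit false
open Cfsg

namespace Cfsg.Agent.S3035


/-- `PSL₂(7) ≅ SL₃(2)` -/
theorem nonempty_psl27_equiv_sl32 :
    Nonempty (Matrix.ProjectiveSpecialLinearGroup (Fin 2) (ZMod 7) ≃*
      Matrix.SpecialLinearGroup (Fin 3) (ZMod 2)) := by
  have e1 := QuotientGroup.quotientKerEquivOfSurjective Cfsg.Agent.S0255.φhom
    Cfsg.Agent.S0255.φhom_surj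
  have e2 := QuotientGroup.quotientMulEquivOfEq Cfsg.Agent.S0255.φhom_ker
  exact ⟨e2.symm.trans e1⟩

/-- Let G be a finite group with an involution z whose centralizer is dihedral of order 8. Then G = C_G(z) O(G) with O(G) the largest normal subgroup of odd order, or G is isomorphic to the symmetric group of degree 4, the symmetric group of degree 5, the group SL₃(2), or the alternating group of degree 6. -/
theorem result {G : Type*} [Group G] [Finite G] (z : G) (hz : orderOf z = 2)
    (hC : Nonempty (↥(Subgroup.centralizer ({z} : Set G)) ≃* DihedralGroup 4)) :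
    Subgroup.centralizer ({z} : Set G) ⊔ Cfsg.oddCore G = ⊤ ∨ Nonempty (G ≃* Equiv.Perm (Fin 4)) ∨ Nonempty (G ≃* Equiv.Perm (Fin 5)) ∨
      Nonempty (G ≃* Matrix.SpecialLinearGroup (Fin 3) (ZMod 2)) ∨ Nonempty (G ≃* ↥(alternatingGroup (Fin 6))) := by
  obtain ⟨e⟩ := hC
  by_cases hidx : ∃ K : Subgroup G, K.index = 2
  · obtain ⟨K, hK⟩ := hidx
    rcases Cfsg.Agent.Lib.Helper55_D8Index2.index_two_case e hz K hK with h | h | h
    · exact Or.inl h
    · exact Or.inr (Or.inl h)
    · exact Or.inr (Or.inr (Or.inl h))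
  · push Not at hidx
    rcases Cfsg.Agent.Lib.Helper55_D8Final.final e hidx hz with h | h
    · exact Or.inr (Or.inr (Or.inr (Or.inr h)))
    · obtain ⟨f⟩ := h
      obtain ⟨g⟩ := nonempty_psl27_equiv_sl32
      exact Or.inr (Or.inr (Or.inr (Or.inl ⟨f.trans g⟩)))

end Cfsg.Agent.S3035
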