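import Cfsg.Statements.S3036
import Mathlib.Data.Fintype.Lattice
import Mathlib.GroupTheory.Index
import Mathlib.GroupTheory.Coset.Basic
import Mathlib.SetTheory.Cardinal.Finite
import Mathlib.Tactic

set_option autoImplicit false
set_option linter.unusedSectionVars false
open Cfsg

namespace Cfsg.Agent.S3036

variable {G : Type*} [Group G] [Finite G]

/-- `|H| |K| ≤ |H ⊔ K| |H ⊓ K|` for subgroups of a finite group. -/
theorem card_mul_card_le (H K : Subgroup G) :
    Nat.card H * Nat.card K ≤ Nat.card ↥(H ⊔ K) * Nat.card ↥(H ⊓ K) := by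
  set L := H ⊔ K with hL
  have hHL : H ≤ L := le_sup_left
  have hKL : K ≤ L := le_sup_right
  have hDL : H ⊓ K ≤ L := inf_le_left.trans hHL
  have cm : ∀ M : Subgroup G, M ≤ L → Nat.card M * M.relIndex L = Nat.card L := by
    intro M hM
    have := Subgroup.relIndex_mul_relIndex (H := (⊥ : Subgroup G)) (K := M) (L := L) bot_le hM
    simpa [Subgroup.relIndex_bot_left] using this
  have h1 := cm H hHL
  have h2 := cm K hKL
  have h3 := cm (H ⊓ K) hDL
  have h4 : (H ⊓ K).relIndex L ≤ H.relIndex L * K.relIndex L := Subgroup.relIndex_inf_le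
  have hpos : 0 < (H ⊓ K).relIndex L := by
    apply Nat.pos_of_ne_zero
    exact Subgroup.index_ne_zero_of_finite
  have : Nat.card H * Nat.card K * (H ⊓ K).relIndex L
      ≤ Nat.card L * Nat.card ↥(H ⊓ K) * (H ⊓ K).relIndex L := by
    calc Nat.card H * Nat.card K * (H ⊓ K).relIndex L
        ≤ Nat.card H * Nat.card K * (H.relIndex L * K.relIndex L) := by gcongr
      _ = (Nat.card H * H.relIndex L) * (Nat.card K * K.relIndex L) := by ring
      _ = Nat.card L * Nat.card L := by rw [h1, h2]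
      _ = Nat.card L * (Nat.card ↥(H ⊓ K) * (H ⊓ K).relIndex L) := by rw [h3]
      _ = Nat.card L * Nat.card ↥(H ⊓ K) * (H ⊓ K).relIndex L := by ring
  exact Nat.le_of_mul_le_mul_right this hpos

/-- centralizer as a function on subgroups -/
abbrev cz (B : Subgroup G) : Subgroup G := Subgroup.centralizer (B : Set G)

theorem cz_sup (H K : Subgroup G) : cz (H ⊔ K) = cz H ⊓ cz K := by
  apply le_antisymm
  · exact le_inf (Subgroup.centralizer_le (by intro x hx; exact (le_sup_left : H ≤ H ⊔ K) hx))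
      (Subgroup.centralizer_le (by intro x hx; exact (le_sup_right : K ≤ H ⊔ K) hx))
  · intro x hx
    have hH : H ≤ Subgroup.centralizer ({x} : Set G) := by
      intro h hh
      rw [Subgroup.mem_centralizer_singleton_iff]
      exact ((Subgroup.mem_centralizer_iff.mp hx.1) h hh)
    have hK : K ≤ Subgroup.centralizer ({x} : Set G) := by
      intro h hh
      rw [Subgroup.mem_centralizer_singleton_iff]
      exact ((Subgroup.mem_centralizer_iff.mp hx.2) h hh)
    show x ∈ Subgroup.centralizer ((H ⊔ K : Subgroup G) : Set G)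
    rw [Subgroup.mem_centralizer_iff]
    intro h hh
    have := (sup_le hH hK) hh
    rw [Subgroup.mem_centralizer_singleton_iff] at this
    exact this

theorem cz_sup_le_cz_inf (H K : Subgroup G) : cz H ⊔ cz K ≤ cz (H ⊓ K) := by
  apply sup_le
  · exact Subgroup.centralizer_le (by intro x hx; exact hx.1)
  · exact Subgroup.centralizer_le (by intro x hx; exact hx.2)

theorem cz_card_mul_le (H K : Subgroup G) :
    Nat.card (cz H) * Nat.card (cz K) ≤ Nat.card (cz (H ⊔ K)) * Nat.card (cz (H ⊓ K)) := by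
  calc Nat.card (cz H) * Nat.card (cz K)
      ≤ Nat.card ↥(cz H ⊔ cz K) * Nat.card ↥(cz H ⊓ cz K) := card_mul_card_le _ _
    _ ≤ Nat.card (cz (H ⊓ K)) * Nat.card (cz (H ⊔ K)) := by
        gcongr
        · exact Subgroup.card_le_of_le (cz_sup_le_cz_inf H K)
        · rw [cz_sup]
    _ = _ := by ring

/-- The Chermak-Delgado measure. -/
noncomputable def m (B : Subgroup G) : ℕ := Nat.card B * Nat.card (cz B)

theorem m_pos (B : Subgroup G) : 0 < m B := Nat.mul_pos Nat.card_pos Nat.card_pos

/-- conjugate of a subgroup -/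
abbrev cj (g : G) (B : Subgroup G) : Subgroup G := B.map (MulAut.conj g).toMonoidHom

theorem mem_cj {g x : G} {B : Subgroup G} : x ∈ cj g B ↔ g⁻¹ * x * g ∈ B := by
  constructor
  · rintro ⟨b, hb, rfl⟩
    simpa [mul_assoc] using hb
  · intro h
    exact ⟨g⁻¹ * x * g, h, by simp [mul_assoc]⟩

theorem card_cj (g : G) (B : Subgroup G) : Nat.card (cj g B) = Nat.card B :=
  Subgroup.card_map_of_injective (MulAut.conj g).injective

theorem cz_cj (B : Subgroup G) (g : G) : cz (cj g B) = cj g (cz B) := by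
  ext x
  rw [mem_cj]
  unfold cz
  rw [Subgroup.mem_centralizer_iff, Subgroup.mem_centralizer_iff]
  constructor
  · intro h2 b hb
    have := h2 (g * b * g⁻¹) (by
      show g * b * g⁻¹ ∈ cj g B
      rw [mem_cj]; simpa [mul_assoc] using hb)
    calc b * (g⁻¹ * x * g) = g⁻¹ * ((g * b * g⁻¹) * x) * g := by group
      _ = g⁻¹ * (x * (g * b * g⁻¹)) * g := by rw [this]
      _ = g⁻¹ * x * g * b := by group
  · intro h2 b hb
    have hb' : g⁻¹ * b * g ∈ B := by
      have : b ∈ cj g B := hb
      rwa [mem_cj] at this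
    have := h2 _ hb'
    calc b * x = g * ((g⁻¹ * b * g) * (g⁻¹ * x * g)) * g⁻¹ := by group
      _ = g * ((g⁻¹ * x * g) * (g⁻¹ * b * g)) * g⁻¹ := by rw [this]
      _ = x * b := by group

theorem m_cj (B : Subgroup G) (g : G) : m (cj g B) = m B := by
  unfold m
  rw [cz_cj, card_cj, card_cj]

/-- If `|C| |D| = |C ⊓ D| |G|` then `G = C D`. -/
theorem prod_surj (C D : Subgroup G)
    (h : Nat.card C * Nat.card D = Nat.card ↥(C ⊓ D) * Nat.card G) (x : G) :
    ∃ c ∈ C, ∃ d ∈ D, x = c * d := by
  have h1 : Nat.card ↥(C ⊓ D) * D.relIndex C = Nat.card C := by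
    have := Subgroup.relIndex_mul_relIndex (H := (⊥ : Subgroup G)) (K := D ⊓ C) (L := C) bot_le inf_le_right
    rw [Subgroup.relIndex_bot_left, Subgroup.relIndex_bot_left, Subgroup.inf_relIndex_right] at this
    rwa [inf_comm] at this
  have h2 : Nat.card D * D.index = Nat.card G := Subgroup.card_mul_index D
  have h3 : D.relIndex C = D.index := by
    have hp : 0 < Nat.card ↥(C ⊓ D) * Nat.card D := Nat.mul_pos Nat.card_pos Nat.card_pos
    apply Nat.eq_of_mul_eq_mul_left hp
    calc Nat.card ↥(C ⊓ D) * Nat.card D * D.relIndex C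
        = (Nat.card ↥(C ⊓ D) * D.relIndex C) * Nat.card D := by ring
      _ = Nat.card C * Nat.card D := by rw [h1]
      _ = Nat.card ↥(C ⊓ D) * Nat.card G := h
      _ = Nat.card ↥(C ⊓ D) * (Nat.card D * D.index) := by rw [h2]
      _ = Nat.card ↥(C ⊓ D) * Nat.card D * D.index := by ring
  have hcard : Nat.card (↥(⊤ : Subgroup G) ⧸ D.subgroupOf ⊤) ≤ Nat.card (↥C ⧸ D.subgroupOf C) := by
    have a1 : Nat.card (↥(⊤ : Subgroup G) ⧸ D.subgroupOf ⊤) = D.relIndex ⊤ := rfl
    have a2 : Nat.card (↥C ⧸ D.subgroupOf C) = D.relIndex C := rfl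
    rw [a1, a2, h3, Subgroup.relIndex_top_right]
  have hbij := Function.Injective.bijective_of_nat_card_le
    (Subgroup.quotientSubgroupOfEmbeddingOfLE D (le_top : C ≤ ⊤)).injective hcard
  obtain ⟨q, hq⟩ := hbij.2 (QuotientGroup.mk ⟨x, Subgroup.mem_top x⟩)
  induction q using QuotientGroup.induction_on with
  | H c =>
    rw [Subgroup.quotientSubgroupOfEmbeddingOfLE_apply_mk, QuotientGroup.eq] at hq
    rw [Subgroup.mem_subgroupOf] at hq
    refine ⟨c.1, c.2, (c.1)⁻¹ * x, ?_, by group⟩
    simpa using hq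

/-- Main Chermak-Delgado lemma: the set of subgroups of maximal measure is closed under
sup and inf, with equality in the centralizer inequality. -/
theorem cd_lattice (H K : Subgroup G) (hH : ∀ B : Subgroup G, m B ≤ m H)
    (hK : ∀ B : Subgroup G, m B ≤ m K) :
    m (H ⊔ K) = m H ∧ m (H ⊓ K) = m H ∧
      Nat.card (cz H) * Nat.card (cz K) = Nat.card (cz (H ⊔ K)) * Nat.card (cz (H ⊓ K)) := by
  have hHK : m H = m K := le_antisymm (hK H) (hH K)
  have h1 := card_mul_card_le H K
  have h2 := cz_card_mul_le H K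
  have h3 : m (H ⊔ K) ≤ m H := hH _
  have h4 : m (H ⊓ K) ≤ m H := hH _
  have hprod : m H * m K ≤ m (H ⊔ K) * m (H ⊓ K) := by
    unfold m
    calc Nat.card H * Nat.card (cz H) * (Nat.card K * Nat.card (cz K))
        = (Nat.card H * Nat.card K) * (Nat.card (cz H) * Nat.card (cz K)) := by ring
      _ ≤ (Nat.card ↥(H ⊔ K) * Nat.card ↥(H ⊓ K)) *
          (Nat.card (cz (H ⊔ K)) * Nat.card (cz (H ⊓ K))) := Nat.mul_le_mul h1 h2
      _ = _ := by ring
  rw [← hHK] at hprod
  have hpos := m_pos H
  have e1 : m (H ⊔ K) = m H := by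
    apply le_antisymm h3
    by_contra hlt
    rw [not_le] at hlt
    have : m (H ⊔ K) * m (H ⊓ K) < m H * m H :=
      Nat.mul_lt_mul_of_lt_of_le hlt h4 hpos
    exact absurd hprod (not_le.mpr this)
  have e2 : m (H ⊓ K) = m H := by
    apply le_antisymm h4
    by_contra hlt
    rw [not_le] at hlt
    have : m (H ⊔ K) * m (H ⊓ K) < m H * m H :=
      Nat.mul_lt_mul_of_le_of_lt h3 hlt hpos
    exact absurd hprod (not_le.mpr this)
  refine ⟨e1, e2, ?_⟩
  -- equality in the second inequality
  apply le_antisymm h2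
  by_contra hlt
  rw [not_le] at hlt
  have hp1 : 0 < Nat.card H * Nat.card K := Nat.mul_pos Nat.card_pos Nat.card_pos
  have : m H * m H < m (H ⊔ K) * m (H ⊓ K) := by
    have e : m H * m H = m H * m K := by rw [hHK]
    rw [e]
    unfold m
    calc Nat.card H * Nat.card (cz H) * (Nat.card K * Nat.card (cz K))
        = (Nat.card H * Nat.card K) * (Nat.card (cz H) * Nat.card (cz K)) := by ring
      _ < (Nat.card H * Nat.card K) * (Nat.card (cz (H ⊔ K)) * Nat.card (cz (H ⊓ K))) :=
          Nat.mul_lt_mul_of_pos_left hlt hp1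
      _ ≤ (Nat.card ↥(H ⊔ K) * Nat.card ↥(H ⊓ K)) *
          (Nat.card (cz (H ⊔ K)) * Nat.card (cz (H ⊓ K))) := Nat.mul_le_mul_right _ h1
      _ = _ := by ring
  rw [e1, e2] at this
  exact lt_irrefl _ this

/-- Let G be a finite non-abelian simple group and A a proper nontrivial subgroup of G. Then |G| > |A| · |C_G(A)|. In particular |G| > |A|² for every nontrivial abelian subgroup A of G. -/
theorem result {G : Type*} [Group G] [Finite G] [IsSimpleGroup G] (hG : ¬ IsMulCommutative G) (A : Subgroup G) (hA1 : A ≠ ⊥) (hA2 : A ≠ ⊤) : Nat.card A * Nat.card ↥(Subgroup.centralizer (A : Set G)) < Nat.card G := by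
  classical
  -- the maximal measure
  obtain ⟨H0, hH0⟩ := Finite.exists_max (fun B : Subgroup G => m B)
  -- the set of maximizers; choose one of minimal order
  have : Nonempty {B : Subgroup G // ∀ K : Subgroup G, m K ≤ m B} := ⟨⟨H0, hH0⟩⟩
  obtain ⟨⟨M, hM⟩, hMmin⟩ := Finite.exists_min
    (fun B : {B : Subgroup G // ∀ K : Subgroup G, m K ≤ m B} => Nat.card B.1)
  have hMle : ∀ K : Subgroup G, (∀ B : Subgroup G, m B ≤ m K) → M ≤ K := by
    intro K hK
    have h := (cd_lattice M K hM hK).2.1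
    have hmem : ∀ B : Subgroup G, m B ≤ m (M ⊓ K) := by
      intro B; rw [h]; exact hM B
    have hc := hMmin ⟨M ⊓ K, hmem⟩
    have : M ⊓ K = M := Subgroup.eq_of_le_of_card_ge inf_le_left hc
    rw [← this]
    exact inf_le_right
  -- M is normal
  have hMnorm : M.Normal := by
    constructor
    intro n hn g
    have hcj : ∀ B : Subgroup G, m B ≤ m (cj g⁻¹ M) := by
      intro B; rw [m_cj]; exact hM B
    have := hMle _ hcj hn
    rw [mem_cj] at this
    simpa using this
  -- center is trivial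
  have hZ : Subgroup.center G = ⊥ := by
    rcases (inferInstance : (Subgroup.center G).Normal).eq_bot_or_eq_top with h | h
    · exact h
    · exfalso
      apply hG
      constructor
      constructor
      intro a b
      have : a ∈ Subgroup.center G := by rw [h]; exact Subgroup.mem_top a
      exact (Subgroup.mem_center_iff.mp this b).symm
  have hmtop : m (⊤ : Subgroup G) = Nat.card G := by
    unfold m cz
    rw [Subgroup.coe_top, Subgroup.centralizer_univ, hZ]
    simp
  have hmbot : m (⊥ : Subgroup G) = Nat.card G := by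
    unfold m cz
    have : Subgroup.centralizer (((⊥ : Subgroup G) : Subgroup G) : Set G) = ⊤ := by
      rw [Subgroup.centralizer_eq_top_iff_subset]
      intro x hx
      rw [SetLike.mem_coe, Subgroup.mem_bot] at hx
      rw [hx]
      exact (Subgroup.center G).one_mem
    rw [this]
    simp
  have hmstar : m M = Nat.card G := by
    rcases hMnorm.eq_bot_or_eq_top with h | h
    · rw [h, hmbot]
    · rw [h, hmtop]
  -- now suppose the claim fails
  by_contra hcon
  rw [not_lt] at hcon
  have hAmem : ∀ B : Subgroup G, m B ≤ m A := by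
    intro B
    calc m B ≤ m M := hM B
      _ = Nat.card G := hmstar
      _ ≤ m A := hcon
  -- choose a nontrivial maximizer of minimal order
  have : Nonempty {B : Subgroup G // (∀ K : Subgroup G, m K ≤ m B) ∧ B ≠ ⊥} := ⟨⟨A, hAmem, hA1⟩⟩
  obtain ⟨⟨H, hH, hHne⟩, hHmin⟩ := Finite.exists_min
    (fun B : {B : Subgroup G // (∀ K : Subgroup G, m K ≤ m B) ∧ B ≠ ⊥} => Nat.card B.1)
  have hHtop : H ≠ ⊤ := by
    intro h
    have hc := hHmin ⟨A, hAmem, hA1⟩
    simp only [h] at hc
    have : (⊤ : Subgroup G) = A := (Subgroup.eq_of_le_of_card_ge le_top hc).symm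
    exact hA2 this.symm
  -- H is not normal, so some conjugate differs
  have hnotnormal : ¬ H.Normal := by
    intro hn
    rcases hn.eq_bot_or_eq_top with h | h
    · exact hHne h
    · exact hHtop h
  have hex : ∃ g : G, ¬ cj g H ≤ H := by
    by_contra hall
    push Not at hall
    apply hnotnormal
    constructor
    intro n hn g
    apply hall g
    rw [mem_cj]
    simpa [mul_assoc] using hn
  obtain ⟨g, hg⟩ := hex
  have hcjmem : ∀ B : Subgroup G, m B ≤ m (cj g H) := by
    intro B; rw [m_cj]; exact hH B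
  obtain ⟨-, hinf, hceq⟩ := cd_lattice H (cj g H) hH hcjmem
  have hD : H ⊓ cj g H = ⊥ := by
    by_contra hne
    have hmem : ∀ B : Subgroup G, m B ≤ m (H ⊓ cj g H) := by
      intro B; rw [hinf]; exact hH B
    have hc := hHmin ⟨H ⊓ cj g H, hmem, hne⟩
    have h1 : H ⊓ cj g H = H := Subgroup.eq_of_le_of_card_ge inf_le_left hc
    have h2 : H ≤ cj g H := h1.ge.trans inf_le_right
    have h3 : H = cj g H := Subgroup.eq_of_le_of_card_ge h2 (by rw [card_cj])
    exact hg h3.ge
  -- hence G = C(H) C(H^g)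
  have hprod : Nat.card (cz H) * Nat.card (cz (cj g H)) =
      Nat.card ↥(cz H ⊓ cz (cj g H)) * Nat.card G := by
    rw [hceq, cz_sup, hD]
    have : cz (⊥ : Subgroup G) = ⊤ := by
      unfold cz
      rw [Subgroup.centralizer_eq_top_iff_subset]
      intro x hx
      rw [SetLike.mem_coe, Subgroup.mem_bot] at hx
      rw [hx]
      exact (Subgroup.center G).one_mem
    rw [this]
    simp
  obtain ⟨c, hc, d, hd, hcd⟩ := prod_surj (cz H) (cz (cj g H)) hprod g⁻¹
  apply hg
  intro x hx
  -- x ∈ g H g⁻¹, g = d⁻¹ c⁻¹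
  have hgeq : g = d⁻¹ * c⁻¹ := by
    have : g⁻¹⁻¹ = (c * d)⁻¹ := by rw [hcd]
    rw [inv_inv, mul_inv_rev] at this
    exact this
  -- d commutes with x
  have hdx : x * d = d * x := (Subgroup.mem_centralizer_iff.mp hd) x hx
  rw [mem_cj] at hx
  -- g⁻¹ x g = c d x d⁻¹ c⁻¹ = c x c⁻¹ ∈ H, and c centralizes H
  have h1 : g⁻¹ * x * g = c * x * c⁻¹ := by
    rw [hgeq]
    calc (d⁻¹ * c⁻¹)⁻¹ * x * (d⁻¹ * c⁻¹) = c * ((d * x) * d⁻¹) * c⁻¹ := by group
      _ = c * ((x * d) * d⁻¹) * c⁻¹ := by rw [hdx]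
      _ = c * x * c⁻¹ := by group
  rw [h1] at hx
  have hcx : (c * x * c⁻¹) * c = c * (c * x * c⁻¹) := (Subgroup.mem_centralizer_iff.mp hc) _ hx
  have : c * x * c⁻¹ = x := by
    have h2 : c * x = c * (c * x * c⁻¹) := by
      calc c * x = (c * x * c⁻¹) * c := by group
        _ = c * (c * x * c⁻¹) := hcx
    exact (mul_left_cancel h2).symm
  rw [this] at hx
  exact hx

end Cfsg.Agent.S3036
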