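import Cfsg.Statements.S3037

set_option autoImplicit false
open Cfsg

namespace Cfsg.Agent.S3037

variable {X : Type*} [Group X] [Finite X]

/-- `|H| |K| ≤ |H ⊔ K| |H ⊓ K|` for subgroups of a finite group. -/
theorem card_mul_card_le (H K : Subgroup X) :
    Nat.card H * Nat.card K ≤ Nat.card ↥(H ⊔ K) * Nat.card ↥(H ⊓ K) := by
  set L := H ⊔ K with hL
  have hHL : H ≤ L := le_sup_left
  have hKL : K ≤ L := le_sup_right
  have hDL : H ⊓ K ≤ L := inf_le_left.trans hHL
  have cm : ∀ M : Subgroup X, M ≤ L → Nat.card M * M.relIndex L = Nat.card L := by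
    intro M hM
    have := Subgroup.relIndex_mul_relIndex (H := (⊥ : Subgroup X)) (K := M) (L := L) bot_le hM
    simpa [Subgroup.relIndex_bot_left] using this
  have h1 := cm H hHL
  have h2 := cm K hKL
  have h3 := cm (H ⊓ K) hDL
  have h4 : (H ⊓ K).relIndex L ≤ H.relIndex L * K.relIndex L := Subgroup.relIndex_inf_le
  have hpos : 0 < (H ⊓ K).relIndex L := by
    apply Nat.pos_of_ne_zero
    exact Subgroup.index_ne_zero_of_finite
  have : Nat.card H * Nat.card K * (H ⊓ K).relIndex L
      ≤ Nat.card L * Nat.card ↥(H ⊓ K) * (H ⊓ K).relIndex L := by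
    calc Nat.card H * Nat.card K * (H ⊓ K).relIndex L
        ≤ Nat.card H * Nat.card K * (H.relIndex L * K.relIndex L) := by gcongr
      _ = (Nat.card H * H.relIndex L) * (Nat.card K * K.relIndex L) := by ring
      _ = Nat.card L * Nat.card L := by rw [h1, h2]
      _ = Nat.card L * (Nat.card ↥(H ⊓ K) * (H ⊓ K).relIndex L) := by rw [h3]
      _ = Nat.card L * Nat.card ↥(H ⊓ K) * (H ⊓ K).relIndex L := by ring
  exact Nat.le_of_mul_le_mul_right this hpos

/-- The fixed points of `B` on `V`. -/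
def cv (V B : Subgroup X) : Subgroup X := V ⊓ Subgroup.centralizer (B : Set X)

theorem cv_card_mul_le (V H K : Subgroup X) :
    Nat.card (cv V H) * Nat.card (cv V K) ≤ Nat.card (cv V (H ⊔ K)) * Nat.card (cv V (H ⊓ K)) := by
  have h1 : cv V H ⊓ cv V K ≤ cv V (H ⊔ K) := by
    intro x hx
    refine ⟨hx.1.1, ?_⟩
    have hH : H ≤ Subgroup.centralizer ({x} : Set X) := by
      intro h hh
      rw [Subgroup.mem_centralizer_singleton_iff]
      exact ((Subgroup.mem_centralizer_iff.mp hx.1.2) h hh)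
    have hK : K ≤ Subgroup.centralizer ({x} : Set X) := by
      intro h hh
      rw [Subgroup.mem_centralizer_singleton_iff]
      exact ((Subgroup.mem_centralizer_iff.mp hx.2.2) h hh)
    show x ∈ Subgroup.centralizer ((H ⊔ K : Subgroup X) : Set X)
    rw [Subgroup.mem_centralizer_iff]
    intro h hh
    have := (sup_le hH hK) hh
    rw [Subgroup.mem_centralizer_singleton_iff] at this
    exact this
  have h2 : cv V H ⊔ cv V K ≤ cv V (H ⊓ K) := by
    apply sup_le
    · exact inf_le_inf_left V (Subgroup.centralizer_le (by intro x hx; exact hx.1))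
    · exact inf_le_inf_left V (Subgroup.centralizer_le (by intro x hx; exact hx.2))
  calc Nat.card (cv V H) * Nat.card (cv V K)
      ≤ Nat.card ↥(cv V H ⊔ cv V K) * Nat.card ↥(cv V H ⊓ cv V K) := card_mul_card_le _ _
    _ ≤ Nat.card (cv V (H ⊓ K)) * Nat.card (cv V (H ⊔ K)) := by
        gcongr
        · exact Subgroup.card_le_of_le h2
        · exact Subgroup.card_le_of_le h1
    _ = _ := by ring

/-- The measure. -/
noncomputable def f (V : Subgroup X) (α : ℝ) (B : Subgroup X) : ℝ :=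
  (Nat.card B : ℝ) ^ α * (Nat.card (cv V B) : ℝ)

theorem f_pos (V : Subgroup X) (α : ℝ) (B : Subgroup X) : 0 < f V α B := by
  unfold f
  have h1 : (0 : ℝ) < (Nat.card B : ℝ) := by exact_mod_cast Nat.card_pos
  have h2 : (0 : ℝ) < (Nat.card (cv V B) : ℝ) := by exact_mod_cast Nat.card_pos
  positivity

theorem f_mul_le (V : Subgroup X) (α : ℝ) (hα : 0 < α) (H K : Subgroup X) :
    f V α H * f V α K ≤ f V α (H ⊔ K) * f V α (H ⊓ K) := by
  unfold f
  have h1 : ((Nat.card H : ℝ) * (Nat.card K : ℝ)) ≤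
      ((Nat.card ↥(H ⊔ K) : ℝ) * (Nat.card ↥(H ⊓ K) : ℝ)) := by
    exact_mod_cast card_mul_card_le H K
  have h2 : ((Nat.card (cv V H) : ℝ) * (Nat.card (cv V K) : ℝ)) ≤
      ((Nat.card (cv V (H ⊔ K)) : ℝ) * (Nat.card (cv V (H ⊓ K)) : ℝ)) := by
    exact_mod_cast cv_card_mul_le V H K
  have h3 : ((Nat.card H : ℝ) * (Nat.card K : ℝ)) ^ α ≤
      ((Nat.card ↥(H ⊔ K) : ℝ) * (Nat.card ↥(H ⊓ K) : ℝ)) ^ α :=
    Real.rpow_le_rpow (by positivity) h1 hα.le
  rw [Real.mul_rpow (by positivity) (by positivity),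
    Real.mul_rpow (by positivity) (by positivity)] at h3
  have e1 : (Nat.card H : ℝ) ^ α * (Nat.card (cv V H) : ℝ) * ((Nat.card K : ℝ) ^ α * (Nat.card (cv V K) : ℝ))
      = ((Nat.card H : ℝ) ^ α * (Nat.card K : ℝ) ^ α) * ((Nat.card (cv V H) : ℝ) * (Nat.card (cv V K) : ℝ)) := by
    ring
  have e2 : (Nat.card ↥(H ⊔ K) : ℝ) ^ α * (Nat.card (cv V (H ⊔ K)) : ℝ) *
      ((Nat.card ↥(H ⊓ K) : ℝ) ^ α * (Nat.card (cv V (H ⊓ K)) : ℝ))
      = ((Nat.card ↥(H ⊔ K) : ℝ) ^ α * (Nat.card ↥(H ⊓ K) : ℝ) ^ α) *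
        ((Nat.card (cv V (H ⊔ K)) : ℝ) * (Nat.card (cv V (H ⊓ K)) : ℝ)) := by
    ring
  rw [e1, e2]
  apply mul_le_mul h3 h2 (by positivity) (by positivity)

/-- conjugate of a subgroup -/
abbrev cj (g : X) (B : Subgroup X) : Subgroup X := B.map (MulAut.conj g).toMonoidHom

theorem mem_cj {g x : X} {B : Subgroup X} : x ∈ cj g B ↔ g⁻¹ * x * g ∈ B := by
  constructor
  · rintro ⟨b, hb, rfl⟩
    simpa [mul_assoc] using hb
  · intro h
    exact ⟨g⁻¹ * x * g, h, by simp [mul_assoc]⟩

theorem card_cj (g : X) (B : Subgroup X) : Nat.card (cj g B) = Nat.card B :=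
  Subgroup.card_map_of_injective (MulAut.conj g).injective

theorem cv_cj (V B : Subgroup X) (g : X) (hg : g ∈ Subgroup.normalizer (V : Set X)) :
    cv V (cj g B) = cj g (cv V B) := by
  ext x
  rw [mem_cj]
  unfold cv
  rw [Subgroup.mem_inf, Subgroup.mem_inf, Subgroup.mem_centralizer_iff, Subgroup.mem_centralizer_iff]
  have hV : x ∈ V ↔ g⁻¹ * x * g ∈ V := by
    rw [Subgroup.mem_normalizer_iff''] at hg
    exact hg x
  constructor
  · rintro ⟨h1, h2⟩
    refine ⟨hV.mp h1, ?_⟩
    intro b hb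
    have := h2 (g * b * g⁻¹) (by
      show g * b * g⁻¹ ∈ cj g B
      rw [mem_cj]; simpa [mul_assoc] using hb)
    calc b * (g⁻¹ * x * g) = g⁻¹ * ((g * b * g⁻¹) * x) * g := by group
      _ = g⁻¹ * (x * (g * b * g⁻¹)) * g := by rw [this]
      _ = g⁻¹ * x * g * b := by group
  · rintro ⟨h1, h2⟩
    refine ⟨hV.mpr h1, ?_⟩
    intro b hb
    have hb' : g⁻¹ * b * g ∈ B := by
      have : b ∈ cj g B := hb
      rwa [mem_cj] at this
    have := h2 _ hb'
    calc b * x = g * ((g⁻¹ * b * g) * (g⁻¹ * x * g)) * g⁻¹ := by group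
      _ = g * ((g⁻¹ * x * g) * (g⁻¹ * b * g)) * g⁻¹ := by rw [this]
      _ = x * b := by group

theorem f_cj (V : Subgroup X) (α : ℝ) (B : Subgroup X) (g : X)
    (hg : g ∈ Subgroup.normalizer (V : Set X)) : f V α (cj g B) = f V α B := by
  unfold f
  rw [cv_cj V B g hg, card_cj, card_cj]

/-- Let V and G be subgroups of a finite group with V an elementary abelian p-group (p prime) on which G acts faithfully and irreducibly by conjugation: G normalizes V, G ∩ C(V) = 1, and the only subgroups of V normalized by G are 1 and V. If for some nontrivial subgroup A of G and some real α > 0 one has |V| ≤ |A|^α · |C_V(A)|, then |V| ≤ |G|^α. -/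
theorem result {X : Type*} [Group X] [Finite X] {p : ℕ} [Fact p.Prime] (V G : Subgroup X) (hV : Cfsg.IsElementaryAbelian p V)
    (hGV : G ≤ Subgroup.normalizer (V : Set X)) (hfaith : G ⊓ Subgroup.centralizer (V : Set X) = ⊥)
    (hirr : ∀ W : Subgroup X, W ≤ V → G ≤ Subgroup.normalizer (W : Set X) → W = ⊥ ∨ W = V)
    (A : Subgroup X) (hA : A ≤ G) (hA1 : A ≠ ⊥) (α : ℝ) (hα : 0 < α)
    (hbig : (Nat.card V : ℝ) ≤ (Nat.card A : ℝ) ^ α * (Nat.card ↥(V ⊓ Subgroup.centralizer (A : Set X)) : ℝ)) :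
    (Nat.card V : ℝ) ≤ (Nat.card G : ℝ) ^ α := by
  classical
  -- a maximizer of f among subgroups of G
  have : Nonempty {B : Subgroup X // B ≤ G} := ⟨⟨G, le_rfl⟩⟩
  obtain ⟨M0, hM0⟩ := Finite.exists_max (fun B : {B : Subgroup X // B ≤ G} => f V α B.1)
  -- among maximizers, one of largest order
  have : Nonempty {B : Subgroup X // B ≤ G ∧ f V α B = f V α M0.1} := ⟨⟨M0.1, M0.2, rfl⟩⟩
  obtain ⟨⟨M, hMG, hMf⟩, hM1⟩ := Finite.exists_max
    (fun B : {B : Subgroup X // B ≤ G ∧ f V α B = f V α M0.1} => Nat.card B.1)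
  have hMmax : ∀ B : Subgroup X, B ≤ G → f V α B ≤ f V α M := by
    intro B hB
    rw [hMf]
    exact hM0 ⟨B, hB⟩
  have hMcard : ∀ B : Subgroup X, B ≤ G → f V α B = f V α M → Nat.card B ≤ Nat.card M := by
    intro B hB hf
    exact hM1 ⟨B, hB, by rw [hf, hMf]⟩
  clear hM1 hM0
  -- M is normalized by G
  have hconj : ∀ g ∈ G, cj g M ≤ M := by
    intro g hg
    have hcG : cj g M ≤ G := by
      intro x hx
      rw [mem_cj] at hx
      have := hMG hx
      have h2 : x = g * (g⁻¹ * x * g) * g⁻¹ := by group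
      rw [h2]
      exact G.mul_mem (G.mul_mem hg this) (G.inv_mem hg)
    have hfc : f V α (cj g M) = f V α M := f_cj V α M g (hGV hg)
    have hineq := f_mul_le V α hα M (cj g M)
    rw [hfc] at hineq
    have hsupG : M ⊔ cj g M ≤ G := sup_le hMG hcG
    have hinfG : M ⊓ cj g M ≤ G := inf_le_left.trans hMG
    have h1 := hMmax _ hsupG
    have h2 := hMmax _ hinfG
    have hpos := f_pos V α M
    have hsup_eq : f V α (M ⊔ cj g M) = f V α M := by
      apply le_antisymm h1
      by_contra hlt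
      rw [not_le] at hlt
      have : f V α (M ⊔ cj g M) * f V α (M ⊓ cj g M) < f V α M * f V α M := by
        apply mul_lt_mul hlt h2 (f_pos _ _ _) hpos.le
      exact absurd hineq (not_le.mpr this)
    have hc := hMcard _ hsupG hsup_eq
    have : M = M ⊔ cj g M := Subgroup.eq_of_le_of_card_ge le_sup_left hc
    exact le_sup_right.trans this.ge
  -- so C_V(M) is normalized by G
  have hWnorm : G ≤ Subgroup.normalizer ((cv V M : Subgroup X) : Set X) := by
    have key : ∀ g ∈ G, ∀ w ∈ cv V M, g * w * g⁻¹ ∈ cv V M := by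
      intro g hg w hw
      refine ⟨?_, ?_⟩
      · have := hGV hg
        rw [Subgroup.mem_normalizer_iff] at this
        exact (this w).mp hw.1
      · show g * w * g⁻¹ ∈ Subgroup.centralizer (M : Set X)
        rw [Subgroup.mem_centralizer_iff]
        intro m hm
        have hm' : g⁻¹ * m * g ∈ M := by
          have : g⁻¹ * m * g ∈ cj g⁻¹ M := by
            rw [mem_cj]; simpa [mul_assoc] using hm
          exact hconj g⁻¹ (G.inv_mem hg) this
        have := (Subgroup.mem_centralizer_iff.mp hw.2) _ hm'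
        calc m * (g * w * g⁻¹) = g * ((g⁻¹ * m * g) * w) * g⁻¹ := by group
          _ = g * (w * (g⁻¹ * m * g)) * g⁻¹ := by rw [this]
          _ = g * w * g⁻¹ * m := by group
    intro g hg
    rw [Subgroup.mem_normalizer_iff]
    intro w
    constructor
    · exact key g hg w
    · intro h
      have := key g⁻¹ (G.inv_mem hg) _ h
      simpa [mul_assoc] using this
  have hfA : f V α A ≤ f V α M := hMmax A hA
  have hVA : (Nat.card V : ℝ) ≤ f V α A := hbig
  rcases hirr (cv V M) inf_le_left hWnorm with hW | hW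
  · -- C_V(M) = 1
    have hfM : f V α M = (Nat.card M : ℝ) ^ α := by
      unfold f
      rw [hW]
      simp
    have hle : (Nat.card M : ℝ) ^ α ≤ (Nat.card G : ℝ) ^ α := by
      apply Real.rpow_le_rpow (by positivity) _ hα.le
      exact_mod_cast Subgroup.card_le_of_le hMG
    linarith
  · -- C_V(M) = V, so M = 1
    exfalso
    have hVC : V ≤ Subgroup.centralizer (M : Set X) := by
      have : cv V M ≤ Subgroup.centralizer (M : Set X) := inf_le_right
      rwa [hW] at this
    have hMC : M ≤ Subgroup.centralizer (V : Set X) := Subgroup.le_centralizer_iff.mp hVC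
    have hMbot : M = ⊥ := by
      have : M ≤ G ⊓ Subgroup.centralizer (V : Set X) := le_inf hMG hMC
      rw [hfaith] at this
      exact le_bot_iff.mp this
    have hfM : f V α M = (Nat.card V : ℝ) := by
      unfold f
      rw [hW, hMbot]
      simp
    have hfAeq : f V α A = f V α M := le_antisymm hfA (by rw [hfM]; exact hVA)
    have hc := hMcard A hA hfAeq
    rw [hMbot] at hc
    simp only [Subgroup.card_bot] at hc
    exact hA1 (Subgroup.eq_bot_of_card_le A hc)

end Cfsg.Agent.S3037
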