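import Cfsg.Statements.S3044
import Cfsg.Agent.Lib.Helper47_IsoMain
import Cfsg.Agent.Lib.Helper47_IsoBar
import Cfsg.Agent.Lib.Helper42_Iso_GEN
import Cfsg.Agent.Lib.Helper42_Iso_SPLIT
import Cfsg.Agent.Lib.Helper87_Iso_WEQY
import Cfsg.Agent.Lib.Helper93_Iso_QUOT
import Cfsg.Agent.Lib.Helper93_Iso_QCONS
import Cfsg.Agent.Lib.Helper60_Iso_BAR
import Cfsg.Agent.Lib.Helper84_Iso_LAYERLE
import Cfsg.Agent.Lib.Helper84_Iso_COMPGEN
import Cfsg.Agent.Lib.Helper60_Iso_NOCENT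
import Cfsg.Agent.Lib.Helper99_Iso_ORBLE
import Cfsg.Agent.Lib.Helper99_Iso_TRANS
import Cfsg.Agent.Lib.Helper63_Iso_COPR
import Cfsg.Agent.Lib.Helper52_Iso_PDVD
import Cfsg.Agent.Lib.Helper43_Iso_TRB1
import Cfsg.Agent.Lib.Helper47_Iso_TRB2

set_option autoImplicit false
open Cfsg

namespace Cfsg.Agent.S3044

open Cfsg.Agent.Lib.Helper47_IsoBase Cfsg.Agent.Lib.Helper47_IsoMain Cfsg.Agent.Lib.Helper48_Op in
/-- Let G be a finite group, p a prime, S a Sylow p-subgroup of G and P a p-minimal subgroup of G containing S (S is not normal in P and lies in exactly one maximal subgroup of P). Let L be the subgroup generated by N_G(S) and all p-minimal subgroups of G containing S other than P, and suppose P is isolated: O_p(L) is not contained in O_p(P). Put Y for the normal closure of O^p(P) in G. Then G = YL; P is again isolated in the subgroup YS (the subgroup L₀ generated by N_{YS}(S) and the p-minimal subgroups of YS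 containing S other than P has O_p(L₀) not contained in O_p(P)); and either Y = O^p(P), or p divides |Y/O_p(Y)|, Y/O_p(Y) is generated by its components (a central product of quasisimple groups), and S permutes these components transitively by conjugation. -/
theorem result {G : Type*} [Group G] [Finite G] {p : ℕ} [Fact p.Prime] (S : Sylow p G) (P : Subgroup G) (hSP : (S : Subgroup G) ≤ P) (hPmin : Cfsg.IsPMinimal p ↥P)
    (L Y : Subgroup G)
    (hL : L = Subgroup.normalizer ((S : Subgroup G) : Set G) ⊔ ⨆ P' : {P' : Subgroup G // (S : Subgroup G) ≤ P' ∧ Cfsg.IsPMinimal p ↥P' ∧ P' ≠ P}, (P' : Subgroup G))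
    (hiso : ¬ (Cfsg.pCore p ↥L).map L.subtype ≤ (Cfsg.pCore p ↥P).map P.subtype)
    (hY : Y = Subgroup.normalClosure (((Cfsg.pResidual p ↥P).map P.subtype : Subgroup G) : Set G)) :
    Y ⊔ L = ⊤ ∧
    ¬ (Cfsg.pCore p ↥((Subgroup.normalizer ((S : Subgroup G) : Set G) ⊓ (Y ⊔ (S : Subgroup G))) ⊔
          ⨆ P' : {P' : Subgroup G // (S : Subgroup G) ≤ P' ∧ P' ≤ Y ⊔ (S : Subgroup G) ∧ Cfsg.IsPMinimal p ↥P' ∧ P' ≠ P}, (P' : Subgroup G))).map
        (Subgroup.subtype _) ≤ (Cfsg.pCore p ↥P).map P.subtype ∧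
    ((Cfsg.pResidual p ↥P).map P.subtype = Y ∨
     ∃ _ : (Cfsg.pCore p ↥Y).Normal,
       p ∣ Nat.card (↥Y ⧸ Cfsg.pCore p ↥Y) ∧ Cfsg.layer (↥Y ⧸ Cfsg.pCore p ↥Y) = ⊤ ∧
       ∀ K₁ K₂ : Subgroup (↥Y ⧸ Cfsg.pCore p ↥Y), Cfsg.IsComponent K₁ → Cfsg.IsComponent K₂ →
         ∃ s ∈ (S : Subgroup G), ((K₂.comap (QuotientGroup.mk' (Cfsg.pCore p ↥Y))).map Y.subtype) = (((K₁.comap (QuotientGroup.mk' (Cfsg.pCore p ↥Y))).map Y.subtype)).map (MulAut.conj s).toMonoidHom) := by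
  have h : IsoHyp p S P L := ⟨hSP, hPmin, hL, hiso⟩
  rw [← Op_eq_map_pResidual] at hY ⊢
  subst hY
  refine ⟨h.Y_sup_L, iso_sub h _, ?_⟩
  have hYn : (Subgroup.normalClosure ((Op p P : Subgroup G) : Set G)).Normal :=
    Subgroup.normalClosure_normal
  by_cases hperf : Subgroup.normalClosure ((Op p P : Subgroup G) : Set G) ≤
      ⁅Subgroup.normalClosure ((Op p P : Subgroup G) : Set G),
        Subgroup.normalClosure ((Op p P : Subgroup G) : Set G)⁆ ⊔ Cfsg.pCore p G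
  · right
    have hb := Cfsg.Agent.Lib.Helper60_Iso_BAR.barHyp h hperf
    have hl := Cfsg.Agent.Lib.Helper84_Iso_LAYERLE.layer_le hb
    have hgen := Cfsg.Agent.Lib.Helper84_Iso_COMPGEN.comp_gen hb hl
    have hnc := fun K hK hKY => Cfsg.Agent.Lib.Helper60_Iso_NOCENT.not_cent hb hl (K := K) hK hKY
    have horb := fun K hK hKY => Cfsg.Agent.Lib.Helper99_Iso_ORBLE.le_orbit hb hnc (K := K) hK hKY
    have htr := fun K₁ K₂ h1 h1Y h2 h2Y =>
      Cfsg.Agent.Lib.Helper99_Iso_TRANS.trans hb hgen horb (K₁ := K₁) (K₂ := K₂) h1 h1Y h2 h2Y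
    have hpd := Cfsg.Agent.Lib.Helper52_Iso_PDVD.p_dvd hb
      (fun ht R X hX y => Cfsg.Agent.Lib.Helper63_Iso_COPR.copr ht R X hX y)
    have hφ := Cfsg.Agent.Lib.Helper93_Iso_QUOT.exists_quot_hom (p := p)
      (Subgroup.normalClosure ((Op p P : Subgroup G) : Set G))
    refine ⟨inferInstance, ?_, Cfsg.Agent.Lib.Helper43_Iso_TRB1.trb_layer _ hφ hgen,
      fun K₁ K₂ h1 h2 => Cfsg.Agent.Lib.Helper47_Iso_TRB2.trb_trans _ _ hφ htr K₁ K₂ h1 h2⟩
    rw [Cfsg.Agent.Lib.Helper93_Iso_QCONS.card_quot _ hφ]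
    exact hpd
  · left
    exact Cfsg.Agent.Lib.Helper87_Iso_WEQY.weqy h (class_three h hperf)
      (Cfsg.Agent.Lib.Helper42_Iso_SPLIT.split h (Cfsg.Agent.Lib.Helper42_Iso_GEN.gen h))

end Cfsg.Agent.S3044
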