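import Cfsg.Statements.S3045
import Cfsg.Agent.Lib.Helper47_IsoMain
import Cfsg.Agent.Lib.Helper42_Iso_GEN
import Cfsg.Agent.Lib.Helper42_Iso_SPLIT
import Cfsg.Agent.Lib.Helper87_Iso_WEQY
import Cfsg.Agent.Lib.Helper52_Iso_TGRP
import Cfsg.Agent.Lib.Helper93_Iso_QUOT
import Cfsg.Agent.Lib.Helper93_Iso_QCONS

set_option autoImplicit false
open Cfsg

namespace Cfsg.Agent.S3045

open Cfsg.Agent.Lib.Helper47_IsoBase Cfsg.Agent.Lib.Helper47_IsoMain Cfsg.Agent.Lib.Helper48_Op in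
/-- Let G be a finite group, p a prime, S a Sylow p-subgroup of G and P a p-minimal subgroup of G containing S. Let L be the subgroup generated by N_G(S) and all p-minimal subgroups of G containing S other than P, and suppose O_p(L) is not contained in O_p(P). Put Y for the normal closure of O^p(P) in G. Then O^p(P) is contained in the preimage in G of F*(G/O_p(G)); and if Y is solvable, then Y = O^p(P) and Y/O_p(Y) is a t-group of nilpotency class at most 2 for some prime t ≠ p. -/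
theorem result {G : Type*} [Group G] [Finite G] {p : ℕ} [Fact p.Prime] (S : Sylow p G) (P : Subgroup G) (hSP : (S : Subgroup G) ≤ P) (hPmin : Cfsg.IsPMinimal p ↥P)
    (L Y : Subgroup G)
    (hL : L = Subgroup.normalizer ((S : Subgroup G) : Set G) ⊔ ⨆ P' : {P' : Subgroup G // (S : Subgroup G) ≤ P' ∧ Cfsg.IsPMinimal p ↥P' ∧ P' ≠ P}, (P' : Subgroup G))
    (hiso : ¬ (Cfsg.pCore p ↥L).map L.subtype ≤ (Cfsg.pCore p ↥P).map P.subtype)
    (hY : Y = Subgroup.normalClosure (((Cfsg.pResidual p ↥P).map P.subtype : Subgroup G) : Set G)) [hn : (Cfsg.pCore p G).Normal] :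
    (Cfsg.pResidual p ↥P).map P.subtype ≤ (Cfsg.generalizedFittingSubgroup (G ⧸ Cfsg.pCore p G)).comap (QuotientGroup.mk' (Cfsg.pCore p G)) ∧
    (Group.IsSolvable ↥Y → (Cfsg.pResidual p ↥P).map P.subtype = Y ∧
       ∃ _ : (Cfsg.pCore p ↥Y).Normal, ∃ t : ℕ, t.Prime ∧ t ≠ p ∧ IsPGroup t (↥Y ⧸ Cfsg.pCore p ↥Y) ∧
         ∃ _ : Group.IsNilpotent (↥Y ⧸ Cfsg.pCore p ↥Y), Group.nilpotencyClass (↥Y ⧸ Cfsg.pCore p ↥Y) ≤ 2) := by
  have h : IsoHyp p S P L := ⟨hSP, hPmin, hL, hiso⟩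
  rw [← Op_eq_map_pResidual] at hY ⊢
  subst hY
  refine ⟨fstar h, fun hs => ?_⟩
  have hnp := not_perfect_of_solvable h hs
  have h3 := class_three h hnp
  have hgen := Cfsg.Agent.Lib.Helper42_Iso_GEN.gen h
  have hsplit := Cfsg.Agent.Lib.Helper42_Iso_SPLIT.split h hgen
  have hW := Cfsg.Agent.Lib.Helper87_Iso_WEQY.weqy h h3 hsplit
  obtain ⟨t, ht, htp, hTG⟩ := Cfsg.Agent.Lib.Helper52_Iso_TGRP.tgrp h h3
  have hYn : (Subgroup.normalClosure ((Op p P : Subgroup G) : Set G)).Normal :=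
    Subgroup.normalClosure_normal
  have hφ := Cfsg.Agent.Lib.Helper93_Iso_QUOT.exists_quot_hom (p := p)
    (Subgroup.normalClosure ((Op p P : Subgroup G) : Set G))
  exact ⟨hW, inferInstance, t, ht, htp,
    Cfsg.Agent.Lib.Helper93_Iso_QCONS.isPGroup_quot _ hφ hTG,
    Cfsg.Agent.Lib.Helper93_Iso_QCONS.class_le_two_quot _ hφ h3⟩

end Cfsg.Agent.S3045
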