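import Cfsg.Statements.S3049
import Cfsg.Agent.Lib.Helper1_Isolated

set_option autoImplicit false
open Cfsg

namespace Cfsg.Agent.S3049

/-- Let G be a finite group and p an odd prime with O_{p'}(G) = 1. Suppose that G has p-rank at most 2 (no elementary abelian subgroup of order p³) and that some element x of order p is isolated in G (no G-conjugate of x other than x commutes with x) and not central. Then the generalized Fitting subgroup F*(G) is a non-abelian simple group. Since O_{p'}(G) = 1, such an x is not central modulo O_{p'}(G): the hypotheses describe a counterexample to the Z*_p statement in p-rank at most 2. -/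
theorem result {G : Type*} [Group G] [Finite G] {p : ℕ} [Fact p.Prime] (hp : p ≠ 2) (hcore : Cfsg.pPrimeCore p G = ⊥)
    (hrank : Cfsg.PRankLE p 2 G) (x : G) (hx : orderOf x = p) (hiso : Cfsg.IsIsolated x) (hnc : x ∉ Subgroup.center G) :
    IsSimpleGroup ↥(Cfsg.generalizedFittingSubgroup G) ∧ ¬ IsMulCommutative ↥(Cfsg.generalizedFittingSubgroup G) := by
  obtain ⟨L, hL, hlay, hF⟩ := Cfsg.Agent.Lib.Helper1_Isolated.main hp hcore hrank x hx hiso hnc
  have hgF : Cfsg.generalizedFittingSubgroup G = L := by
    unfold Cfsg.generalizedFittingSubgroup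
    rw [hF, sup_bot_eq, hlay]
  rw [hgF]
  refine ⟨Cfsg.Agent.Lib.Helper48_SPEFStar.isSimpleGroup_of_isComponent hF hL, ?_⟩
  intro hc
  apply Cfsg.Agent.Lib.Helper29_Local.IsQuasisimple.not_isSolvable hL.2
  exact Group.isSolvable_of_comm (fun a b => hc.is_comm.comm a b)

end Cfsg.Agent.S3049
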