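import Cfsg.Statements.S3053
import Cfsg.Agent.Lib.Helper51_Local
import Cfsg.Agent.Lib.Helper51_Offender
import Cfsg.Agent.Lib.Helper20_PGroupOdd

set_option autoImplicit false
open Cfsg
open Cfsg.Agent.Lib.Helper33_Conj Cfsg.Agent.Lib.Helper33_Alperin Cfsg.Agent.Lib.Helper51_Local

namespace Cfsg.Agent.S3053

section Group

variable {G : Type*} [Group G]

/-- The facts about `P` (extraspecial of order `p³`, exponent `p²`), its centre `Z` and
`E = Ω₁(P)` used in the fusion argument. -/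
structure Setup (p : ℕ) (P Z E : Subgroup G) : Prop where
  ZE : Z ≤ E
  EP : E ≤ P
  cardZ : Nat.card Z = p
  cardE : Nat.card E = p ^ 2
  cardP : Nat.card P = p ^ 3
  Ecomm : ∀ a ∈ E, ∀ b ∈ E, a * b = b * a
  Epow : ∀ x ∈ P, x ^ p = 1 ↔ x ∈ E
  Zcent : ∀ z ∈ Z, ∀ x ∈ P, x * z = z * x
  comm_mem : ∀ x ∈ P, ∀ e ∈ E, x * e * x⁻¹ * e⁻¹ ∈ Z
  cent_w : ∀ w ∈ E, w ∉ Z → ∀ x ∈ P, x * w = w * x → x ∈ E

/-- `s` inverts `E` -/
def Inverts (s : G) (E : Subgroup G) : Prop := ∀ e ∈ E, s * e * s⁻¹ = e⁻¹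

theorem Inverts.conj {s n : G} {E : Subgroup G} (hs : Inverts s E)
    (hn : n ∈ Subgroup.normalizer (E : Set G)) : Inverts (n * s * n⁻¹) E := by
  intro e he
  have he' : n⁻¹ * e * n ∈ E := (Subgroup.mem_normalizer_iff''.mp hn e).mp he
  have h1 := hs _ he'
  calc n * s * n⁻¹ * e * (n * s * n⁻¹)⁻¹ = n * (s * (n⁻¹ * e * n) * s⁻¹) * n⁻¹ := by group
    _ = n * (n⁻¹ * e * n)⁻¹ * n⁻¹ := by rw [h1]
    _ = e⁻¹ := by group

variable [Finite G] {p : ℕ} [hp : Fact p.Prime] {P Z E : Subgroup G}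

namespace Setup

variable (h : Setup p P Z E)
include h

theorem pow_p_E {e : G} (he : e ∈ E) : e ^ p = 1 := (h.Epow e (h.EP he)).mpr he

theorem P_le_normalizer : P ≤ Subgroup.normalizer (E : Set G) := by
  intro x hx
  have key : ∀ y ∈ P, ∀ e ∈ E, y * e * y⁻¹ ∈ E := by
    intro y hy e he
    have h1 : y * e * y⁻¹ ∈ P := P.mul_mem (P.mul_mem hy (h.EP he)) (P.inv_mem hy)
    apply (h.Epow _ h1).mp
    rw [conj_pow, h.pow_p_E he]; group
  rw [Subgroup.mem_normalizer_iff]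
  intro e
  constructor
  · exact key x hx e
  · intro he
    have := key x⁻¹ (P.inv_mem hx) _ he
    have e2 : x⁻¹ * (x * e * x⁻¹) * x⁻¹⁻¹ = e := by group
    rwa [e2] at this

theorem exists_not_mem_E : ∃ x ∈ P, x ∉ E := by
  by_contra hcon
  push_neg at hcon
  have : P ≤ E := hcon
  have h1 := Subgroup.card_le_of_le this
  rw [h.cardE, h.cardP] at h1
  have hp1 : 1 < p := hp.out.one_lt
  have : p ^ 2 < p ^ 3 := Nat.pow_lt_pow_right hp1 (by norm_num)
  omega

theorem exists_not_mem_Z : ∃ w ∈ E, w ∉ Z := by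
  by_contra hcon
  push_neg at hcon
  have : E ≤ Z := hcon
  have h1 := Subgroup.card_le_of_le this
  rw [h.cardE, h.cardZ] at h1
  have hp1 : 1 < p := hp.out.one_lt
  have : p ^ 1 < p ^ 2 := Nat.pow_lt_pow_right hp1 (by norm_num)
  rw [pow_one] at this
  omega

/-- every element of `Z` is a power of any nontrivial element of `Z` -/
theorem exists_pow_eq {a u : G} (ha : a ∈ Z) (ha1 : a ≠ 1) (hu : u ∈ Z) : ∃ i : ℕ, a ^ i = u := by
  have h1 : (⟨a, ha⟩ : Z) ≠ 1 := fun hh => ha1 (congrArg Subtype.val hh)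
  have h2 : (⟨u, hu⟩ : Z) ∈ Subgroup.zpowers (⟨a, ha⟩ : Z) := mem_zpowers_of_prime_card h.cardZ h1
  rw [← mem_powers_iff_mem_zpowers] at h2
  obtain ⟨i, hi⟩ := h2
  exact ⟨i, by simpa using congrArg Subtype.val hi⟩

/-- a subgroup `J` with `Z ≤ J ≤ E` containing an element outside `Z` is `E` -/
theorem eq_E_of_lt {J : Subgroup G} (hZJ : Z ≤ J) (hJE : J ≤ E) {w : G} (hw : w ∈ J) (hwZ : w ∉ Z) :
    J = E := by
  apply Subgroup.eq_of_le_of_card_ge hJE
  have hlt : Z < J := lt_of_le_of_ne hZJ (fun hh => hwZ (hh ▸ hw))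
  have h1 := card_lt_of_lt hlt
  have h2 := Subgroup.card_dvd_of_le hJE
  rw [h.cardE] at h2
  rw [h.cardZ] at h1
  obtain ⟨k, hk, hk2⟩ := (Nat.dvd_prime_pow hp.out).mp h2
  rw [h.cardE, hk2]
  have hp1 : 1 < p := hp.out.one_lt
  have : k = 2 := by
    interval_cases k
    · rw [hk2] at h1; simp at h1; omega
    · rw [hk2, pow_one] at h1; omega
    · rfl
  rw [this]


omit [Finite G] hp h in
theorem card_cj' (g : G) (A : Subgroup G) : Nat.card (cj g A) = Nat.card A :=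
  Subgroup.card_map_of_injective (MulAut.conj g).injective

omit [Finite G] hp h in
theorem cinv (s a : G) : s * a⁻¹ * s⁻¹ = (s * a * s⁻¹)⁻¹ := by simp [mul_assoc]

omit [Finite G] hp h in
theorem cmul (s a b : G) : s * (a * b) * s⁻¹ = (s * a * s⁻¹) * (s * b * s⁻¹) := by
  simp [mul_assoc]

omit [Finite G] hp h in
theorem conj_pow' (g b : G) (i : ℕ) : (g⁻¹ * b * g) ^ i = g⁻¹ * b ^ i * g := by
  have := conj_pow (a := g⁻¹) (b := b) (i := i)
  simpa using this

omit [Finite G] hp in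
theorem comm_ne_one {x w : G} (hxP : x ∈ P) (hxE : x ∉ E) (hwE : w ∈ E) (hwZ : w ∉ Z) :
    x * w * x⁻¹ * w⁻¹ ≠ 1 := by
  intro h1
  apply hxE
  apply h.cent_w w hwE hwZ x hxP
  have : x * w = (x * w * x⁻¹ * w⁻¹) * (w * x) := by group
  rw [this, h1, one_mul]

/-- If `g₂ ∈ N_G(E)` moves an element of `Z` outside `Z`, some element of `N_G(E)` inverts `E`. -/
theorem exists_inverting {g₂ z : G} (hg₂ : g₂ ∈ Subgroup.normalizer (E : Set G)) (hz : z ∈ Z)
    (hw : g₂ * z * g₂⁻¹ ∉ Z) : ∃ s ∈ Subgroup.normalizer (E : Set G), Inverts s E := by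
  set w := g₂ * z * g₂⁻¹ with hwdef
  have hwE : w ∈ E := (Subgroup.mem_normalizer_iff.mp hg₂ z).mp (h.ZE hz)
  obtain ⟨x, hxP, hxE⟩ := h.exists_not_mem_E
  set z₀ := x * w * x⁻¹ * w⁻¹ with hz₀
  have hz₀Z : z₀ ∈ Z := h.comm_mem x hxP w hwE
  have hz₀1 : z₀ ≠ 1 := h.comm_ne_one hxP hxE hwE hw
  set w' := g₂⁻¹ * z₀ * g₂ with hw'
  set y := g₂⁻¹ * x * g₂ with hy
  have hw'E : w' ∈ E := (Subgroup.mem_normalizer_iff''.mp hg₂ z₀).mp (h.ZE hz₀Z)
  have hyz : y * z * y⁻¹ = w' * z := by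
    have e1 : x * w * x⁻¹ = z₀ * w := by rw [hz₀]; group
    calc y * z * y⁻¹ = g₂⁻¹ * (x * (g₂ * z * g₂⁻¹) * x⁻¹) * g₂ := by rw [hy]; group
      _ = g₂⁻¹ * (z₀ * w) * g₂ := by rw [← hwdef, e1]
      _ = w' * z := by rw [hw', hwdef]; group
  have hyw' : y * w' * y⁻¹ = w' := by
    have e1 : x * z₀ * x⁻¹ = z₀ := by rw [h.Zcent z₀ hz₀Z x hxP]; group
    calc y * w' * y⁻¹ = g₂⁻¹ * (x * z₀ * x⁻¹) * g₂ := by rw [hy, hw']; group
      _ = w' := by rw [e1]
  have hw'Z : w' ∉ Z := by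
    intro hcon
    have hle : ∀ u ∈ Z, g₂⁻¹ * u * g₂ ∈ Z := by
      intro u hu
      obtain ⟨i, hi⟩ := h.exists_pow_eq hz₀Z hz₀1 hu
      have : g₂⁻¹ * u * g₂ = w' ^ i := by rw [← hi, hw', conj_pow']
      rw [this]; exact Z.pow_mem hcon i
    have hcjle : cj g₂⁻¹ Z ≤ Z := by
      intro v hv
      rw [mem_cj] at hv
      have := hle _ hv
      have e : g₂⁻¹ * (g₂⁻¹⁻¹ * v * g₂⁻¹) * g₂ = v := by group
      rwa [e] at this
    have hcjeq : cj g₂⁻¹ Z = Z := Subgroup.eq_of_le_of_card_ge hcjle (by rw [card_cj'])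
    have hzmem : z ∈ cj g₂⁻¹ Z := by rw [hcjeq]; exact hz
    rw [mem_cj, inv_inv] at hzmem
    exact hw hzmem
  set z₁ := x * w' * x⁻¹ * w'⁻¹ with hz₁
  have hz₁Z : z₁ ∈ Z := h.comm_mem x hxP w' hw'E
  have hz₁1 : z₁ ≠ 1 := h.comm_ne_one hxP hxE hw'E hw'Z
  obtain ⟨i, hi⟩ := h.exists_pow_eq hz₁Z hz₁1 hz
  set x₁ := x ^ i with hx₁
  have hx₁P : x₁ ∈ P := P.pow_mem hxP i
  have hx₁z : x₁ * z * x₁⁻¹ = z := by rw [h.Zcent z hz x₁ hx₁P]; group
  have hxn : ∀ n : ℕ, x ^ n * w' * (x ^ n)⁻¹ = z₁ ^ n * w' := by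
    intro n
    induction n with
    | zero => simp
    | succ n ih =>
      have e1 : x * w' * x⁻¹ = z₁ * w' := by rw [hz₁]; group
      have e2 : x * z₁ ^ n * x⁻¹ = z₁ ^ n := by
        rw [h.Zcent _ (Z.pow_mem hz₁Z n) x hxP]; group
      calc x ^ (n + 1) * w' * (x ^ (n + 1))⁻¹ = x * (x ^ n * w' * (x ^ n)⁻¹) * x⁻¹ := by
            rw [pow_succ']; group
        _ = x * (z₁ ^ n * w') * x⁻¹ := by rw [ih]
        _ = (x * z₁ ^ n * x⁻¹) * (x * w' * x⁻¹) := by group
        _ = z₁ ^ n * (z₁ * w') := by rw [e1, e2]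
        _ = z₁ ^ (n + 1) * w' := by rw [pow_succ]; group
  have hx₁w' : x₁ * w' * x₁⁻¹ = z * w' := by rw [hx₁, hxn i, hi]
  have hyz' : y⁻¹ * z * y = w'⁻¹ * z := by
    have h1 : y * (w'⁻¹ * z) * y⁻¹ = z := by
      calc y * (w'⁻¹ * z) * y⁻¹ = (y * w' * y⁻¹)⁻¹ * (y * z * y⁻¹) := by group
        _ = w'⁻¹ * (w' * z) := by rw [hyw', hyz]
        _ = z := by group
    calc y⁻¹ * z * y = y⁻¹ * (y * (w'⁻¹ * z) * y⁻¹) * y := by rw [h1]
      _ = w'⁻¹ * z := by group
  have hyw'' : y⁻¹ * w' * y = w' := by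
    calc y⁻¹ * w' * y = y⁻¹ * (y * w' * y⁻¹) * y := by rw [hyw']
      _ = w' := by group
  set g := x₁ * y⁻¹ * x₁ with hg
  have hgz : g * z * g⁻¹ = w'⁻¹ := by
    calc g * z * g⁻¹ = x₁ * (y⁻¹ * (x₁ * z * x₁⁻¹) * y) * x₁⁻¹ := by rw [hg]; group
      _ = x₁ * (w'⁻¹ * z) * x₁⁻¹ := by rw [hx₁z, hyz']
      _ = (x₁ * w' * x₁⁻¹)⁻¹ * (x₁ * z * x₁⁻¹) := by group
      _ = (z * w')⁻¹ * z := by rw [hx₁w', hx₁z]
      _ = w'⁻¹ := by group
  have hgw' : g * w' * g⁻¹ = z := by
    have hzw' : w'⁻¹ * z * w' = z := by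
      rw [mul_assoc, h.Ecomm z (h.ZE hz) w' hw'E]; group
    calc g * w' * g⁻¹ = x₁ * (y⁻¹ * (x₁ * w' * x₁⁻¹) * y) * x₁⁻¹ := by rw [hg]; group
      _ = x₁ * (y⁻¹ * (z * w') * y) * x₁⁻¹ := by rw [hx₁w']
      _ = x₁ * ((y⁻¹ * z * y) * (y⁻¹ * w' * y)) * x₁⁻¹ := by group
      _ = x₁ * (w'⁻¹ * z * w') * x₁⁻¹ := by rw [hyz', hyw'']
      _ = x₁ * z * x₁⁻¹ := by rw [hzw']
      _ = z := hx₁z
  have hsz : g * g * z * (g * g)⁻¹ = z⁻¹ := by
    calc g * g * z * (g * g)⁻¹ = g * (g * z * g⁻¹) * g⁻¹ := by group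
      _ = (g * w' * g⁻¹)⁻¹ := by rw [hgz]; group
      _ = z⁻¹ := by rw [hgw']
  have hsw' : g * g * w' * (g * g)⁻¹ = w'⁻¹ := by
    calc g * g * w' * (g * g)⁻¹ = g * (g * w' * g⁻¹) * g⁻¹ := by group
      _ = w'⁻¹ := by rw [hgw', hgz]
  have hN := h.P_le_normalizer
  have hyN : y ∈ Subgroup.normalizer (E : Set G) :=
    Subgroup.mul_mem _ (Subgroup.mul_mem _ (Subgroup.inv_mem _ hg₂) (hN hxP)) hg₂
  have hgN : g ∈ Subgroup.normalizer (E : Set G) :=
    Subgroup.mul_mem _ (Subgroup.mul_mem _ (hN hx₁P) (Subgroup.inv_mem _ hyN)) (hN hx₁P)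
  refine ⟨g * g, Subgroup.mul_mem _ hgN hgN, ?_⟩
  clear_value g
  -- the subgroup of E inverted by s
  let J : Subgroup G :=
    { carrier := {e | e ∈ E ∧ g * g * e * (g * g)⁻¹ = e⁻¹}
      mul_mem' := by
        rintro a b ⟨ha, ha'⟩ ⟨hb, hb'⟩
        refine ⟨E.mul_mem ha hb, ?_⟩
        calc g * g * (a * b) * (g * g)⁻¹ = (g * g * a * (g * g)⁻¹) * (g * g * b * (g * g)⁻¹) :=
              cmul _ _ _
          _ = a⁻¹ * b⁻¹ := by rw [ha', hb']
          _ = (b * a)⁻¹ := by group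
          _ = (a * b)⁻¹ := by rw [h.Ecomm a ha b hb]
      one_mem' := ⟨E.one_mem, by simp⟩
      inv_mem' := by
        rintro a ⟨ha, ha'⟩
        refine ⟨E.inv_mem ha, ?_⟩
        calc g * g * a⁻¹ * (g * g)⁻¹ = (g * g * a * (g * g)⁻¹)⁻¹ := cinv _ _
          _ = a⁻¹⁻¹ := by rw [ha'] }
  have hJE : J ≤ E := fun e he => he.1
  have hzJ : z ∈ J := ⟨h.ZE hz, hsz⟩
  have hw'J : w' ∈ J := ⟨hw'E, hsw'⟩
  have hz1 : z ≠ 1 := by
    rintro rfl
    apply hw
    rw [hwdef]; simp [Z.one_mem]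
  have hZJ : Z ≤ J := by
    intro u hu
    obtain ⟨k, hk⟩ := h.exists_pow_eq hz hz1 hu
    rw [← hk]; exact J.pow_mem hzJ k
  have hJ := h.eq_E_of_lt hZJ hJE hw'J hw'Z
  intro e he
  have : e ∈ J := by rw [hJ]; exact he
  exact this.2


omit [Finite G] hp h in
theorem ccomp (a b e : G) : a * b * e * (a * b)⁻¹ = a * (b * e * b⁻¹) * a⁻¹ := by simp [mul_assoc]

omit [Finite G] hp h in
theorem ccancel (a e : G) : a * (a⁻¹ * e * a⁻¹⁻¹) * a⁻¹ = e := by simp [mul_assoc]

omit [Finite G] hp h in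
theorem cconj (n k e : G) :
    n * k * n⁻¹ * e * (n * k * n⁻¹)⁻¹ = n * (k * (n⁻¹ * e * n) * k⁻¹) * n⁻¹ := by simp [mul_assoc]

/-- No element of `N_G(E)` inverts `E` (when `P` is a Sylow `p`-subgroup, `p` odd). -/
theorem not_inverting (hp2 : p ≠ 2) (hPsyl : ¬ p ∣ P.index) {s : G}
    (hsN : s ∈ Subgroup.normalizer (E : Set G)) (hs : Inverts s E) : False := by
  classical
  have hPN : P ≤ Subgroup.normalizer (E : Set G) := h.P_le_normalizer
  have hconjE : ∀ n ∈ Subgroup.normalizer (E : Set G), ∀ e ∈ E, n * e * n⁻¹ ∈ E :=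
    fun n hn e he => (Subgroup.mem_normalizer_iff.mp hn e).mp he
  -- the subgroup K of elements acting as ±1 on E
  let K : Subgroup G :=
    { carrier := {n | n ∈ Subgroup.normalizer (E : Set G) ∧
        ((∀ e ∈ E, n * e * n⁻¹ = e) ∨ Inverts n E)}
      mul_mem' := by
        rintro a b ⟨haN, ha⟩ ⟨hbN, hb⟩
        refine ⟨Subgroup.mul_mem _ haN hbN, ?_⟩
        rcases ha with ha | ha <;> rcases hb with hb | hb
        · left; intro e he; rw [ccomp, hb e he, ha e he]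
        · right; intro e he; rw [ccomp, hb e he, ha _ (E.inv_mem he)]
        · right; intro e he; rw [ccomp, hb e he, ha e he]
        · left; intro e he; rw [ccomp, hb e he, ha _ (E.inv_mem he), inv_inv]
      one_mem' := ⟨Subgroup.one_mem _, Or.inl (by intro e _; simp)⟩
      inv_mem' := by
        rintro a ⟨haN, ha⟩
        refine ⟨Subgroup.inv_mem _ haN, ?_⟩
        rcases ha with ha | ha
        · left; intro e he
          have he' := hconjE a⁻¹ (Subgroup.inv_mem _ haN) e he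
          have := ha _ he'
          rw [ccancel] at this
          exact this.symm
        · right; intro e he
          have he' := hconjE a⁻¹ (Subgroup.inv_mem _ haN) e he
          have := ha _ he'
          rw [ccancel] at this
          exact inv_eq_iff_eq_inv.mp this.symm }
  have hKN : K ≤ Subgroup.normalizer (E : Set G) := fun _ hx => hx.1
  have hNK : ∀ n ∈ Subgroup.normalizer (E : Set G), ∀ k ∈ K, n * k * n⁻¹ ∈ K := by
    rintro n hn k ⟨hkN, hk⟩
    refine ⟨Subgroup.mul_mem _ (Subgroup.mul_mem _ hn hkN) (Subgroup.inv_mem _ hn), ?_⟩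
    rcases hk with hk | hk
    · left; intro e he
      have he' : n⁻¹ * e * n ∈ E := (Subgroup.mem_normalizer_iff''.mp hn e).mp he
      rw [cconj, hk _ he']; group
    · right; exact hk.conj hn
  have hnormK : ∀ m ∈ Subgroup.normalizer (E : Set G), cj m K = K :=
    fun m hm => cj_eq_of_forall_conj_mem hNK hm
  have hsK : s ∈ K := ⟨hsN, Or.inr hs⟩
  have hEK : E ≤ K := by
    intro e he
    refine ⟨hPN (h.EP he), Or.inl ?_⟩
    intro e' he'
    rw [h.Ecomm e he e' he']; group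
  have hpodd : Odd p := hp.out.odd_of_ne_two hp2
  have hPKle : P ⊓ K ≤ E := by
    rintro x ⟨hxP, -, hx⟩
    obtain ⟨w₀, hw₀E, hw₀Z⟩ := h.exists_not_mem_Z
    rcases hx with hc | hi
    · apply h.cent_w w₀ hw₀E hw₀Z x hxP
      have := hc w₀ hw₀E
      calc x * w₀ = (x * w₀ * x⁻¹) * x := by group
        _ = w₀ * x := by rw [this]
    · have hxx : x * x ∈ E := by
        apply h.cent_w w₀ hw₀E hw₀Z _ (P.mul_mem hxP hxP)
        have h1 : x * x * w₀ * (x * x)⁻¹ = w₀ := by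
          rw [ccomp, hi w₀ hw₀E, hi _ (E.inv_mem hw₀E), inv_inv]
        calc x * x * w₀ = (x * x * w₀ * (x * x)⁻¹) * (x * x) := by group
          _ = w₀ * (x * x) := by rw [h1]
      have hox : orderOf x ∣ p ^ 3 := by
        rw [← h.cardP]; exact Subgroup.orderOf_dvd_natCard P hxP
      have hoo : Odd (orderOf x) := (hpodd.pow (n := 3)).of_dvd_nat hox
      obtain ⟨m, hm⟩ := hoo
      have hx1 : x = (x * x) ^ (m + 1) := by
        have e2 : 2 * (m + 1) = (2 * m + 1) + 1 := by ring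
        have : (x * x) ^ (m + 1) = x ^ (2 * m + 1) * x := by
          rw [← pow_two, ← pow_mul, e2, pow_succ]
        rw [this, ← hm, pow_orderOf_eq_one, one_mul]
      rw [hx1]; exact E.pow_mem hxx _
  have hPKeq : P ⊓ K = E := le_antisymm hPKle (le_inf h.EP hEK)
  have hPpg : IsPGroup p P := IsPGroup.of_card h.cardP
  have hPidx : ¬ p ∣ P.relIndex (Subgroup.normalizer (E : Set G)) :=
    fun hd => hPsyl (dvd_trans hd (Subgroup.relIndex_dvd_index_of_le hPN))
  have hEsyl : ¬ p ∣ E.relIndex K := by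
    have := sylow_inf_normal (p := p) hKN hnormK hPN hPpg hPidx
    rwa [hPKeq] at this
  -- Sylow 2-subgroup T of K
  haveI : Fact (Nat.Prime 2) := ⟨Nat.prime_two⟩
  obtain ⟨T, -, hTK, hT2, hTidx⟩ := exists_sylow_sub (p := 2) (bot_le : (⊥ : Subgroup G) ≤ K)
    IsPGroup.of_bot
  -- an element of T inverting E
  obtain ⟨t, htT, htinv⟩ : ∃ t ∈ T, Inverts t E := by
    have ho : orderOf s ≠ 0 := (orderOf_pos s).ne'
    obtain ⟨k, r, hr, hor⟩ := Nat.exists_eq_two_pow_mul_odd ho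
    have hsr2 : (s ^ r) ^ (2 ^ k) = 1 := by
      rw [← pow_mul, mul_comm, ← hor, pow_orderOf_eq_one]
    have hpg : IsPGroup 2 (Subgroup.zpowers (s ^ r)) := by
      have hd : orderOf (s ^ r) ∣ 2 ^ k := orderOf_dvd_of_pow_eq_one hsr2
      obtain ⟨j, -, hj⟩ := (Nat.dvd_prime_pow Nat.prime_two).mp hd
      exact IsPGroup.of_card (n := j) (by rw [Nat.card_zpowers, hj])
    have hss : s * s ∈ Subgroup.centralizer (E : Set G) := by
      rw [Subgroup.mem_centralizer_iff]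
      intro e he
      have h1 : s * s * e * (s * s)⁻¹ = e := by
        rw [ccomp, hs e he, hs _ (E.inv_mem he), inv_inv]
      calc e * (s * s) = (s * s * e * (s * s)⁻¹) * (s * s) := by rw [h1]
        _ = s * s * e := by group
    obtain ⟨m, hm⟩ := hr
    have hsrinv : Inverts (s ^ r) E := by
      have e1 : s ^ r = (s * s) ^ m * s := by
        rw [hm, pow_succ, pow_mul, pow_two]
      have hc := Subgroup.pow_mem _ hss m
      intro e he
      have h2 : (s * s) ^ m * e⁻¹ * ((s * s) ^ m)⁻¹ = e⁻¹ := by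
        have := Subgroup.mem_centralizer_iff.mp hc e⁻¹ (E.inv_mem he)
        calc (s * s) ^ m * e⁻¹ * ((s * s) ^ m)⁻¹ = (e⁻¹ * (s * s) ^ m) * ((s * s) ^ m)⁻¹ := by
              rw [this]
          _ = e⁻¹ := by group
      rw [e1, ccomp, hs e he, h2]
    have hsrK : s ^ r ∈ K := K.pow_mem hsK r
    obtain ⟨c, hcK, hc⟩ := exists_cj_le_of_relIndex (p := 2) hTK hT2 hTidx
      ((Subgroup.zpowers_le).mpr hsrK) hpg
    exact ⟨c * s ^ r * c⁻¹, hc (conj_mem_cj (Subgroup.mem_zpowers _)), hsrinv.conj (hKN hcK)⟩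
  -- Frattini
  have hfr : ∀ n ∈ Subgroup.normalizer (E : Set G), ∃ k ∈ K, cj (k * n) T = T :=
    fun n hn => frattini (p := 2) hnormK hTK hT2 hTidx hn
  -- E ∩ N(T) = 1
  have hEM : ∀ e ∈ E, e ∈ Subgroup.normalizer (T : Set G) → e = 1 := by
    intro e he heT
    have h1 : e * t * e⁻¹ ∈ T := (Subgroup.mem_normalizer_iff.mp heT t).mp htT
    have h2 : e * t * e⁻¹ * t⁻¹ ∈ T := T.mul_mem h1 (T.inv_mem htT)
    have h3 : e * t * e⁻¹ * t⁻¹ = e * e := by
      have := htinv e⁻¹ (E.inv_mem he)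
      calc e * t * e⁻¹ * t⁻¹ = e * (t * e⁻¹ * t⁻¹) := by group
        _ = e * e := by rw [this, inv_inv]
    rw [h3] at h2
    have hep : e ^ p = 1 := h.pow_p_E he
    have h4 : (e * e) ^ p = 1 := by
      rw [← pow_two, ← pow_mul, mul_comm, pow_mul, hep, one_pow]
    obtain ⟨j, hj⟩ := (IsPGroup.iff_orderOf.mp hT2) ⟨e * e, h2⟩
    rw [Subgroup.orderOf_mk] at hj
    have h5 : orderOf (e * e) ∣ p := orderOf_dvd_of_pow_eq_one h4
    have hj0 : j = 0 := by
      by_contra hj0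
      have : 2 ∣ p := dvd_trans (by rw [hj]; exact dvd_pow_self 2 hj0) h5
      exact hp2 ((Nat.prime_dvd_prime_iff_eq Nat.prime_two hp.out).mp this).symm
    rw [hj0, pow_zero, orderOf_eq_one_iff] at hj
    have h6 : orderOf e ∣ 2 := orderOf_dvd_of_pow_eq_one (by rw [pow_two]; exact hj)
    have h7 : orderOf e ∣ p := orderOf_dvd_of_pow_eq_one hep
    have h8 : orderOf e ∣ Nat.gcd 2 p := Nat.dvd_gcd h6 h7
    have h9 : Nat.gcd 2 p = 1 := by
      rw [Nat.Coprime.gcd_eq_one]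
      exact (Nat.coprime_primes Nat.prime_two hp.out).mpr (Ne.symm hp2)
    rw [h9, Nat.dvd_one, orderOf_eq_one_iff] at h8
    exact h8
  -- K ⊔ M = N
  have hKM : K ⊔ (Subgroup.normalizer (E : Set G) ⊓ Subgroup.normalizer (T : Set G)) =
      Subgroup.normalizer (E : Set G) := by
    apply le_antisymm (sup_le hKN inf_le_left)
    intro n hn
    obtain ⟨k, hkK, hk⟩ := hfr n hn
    have hknM : k * n ∈ Subgroup.normalizer (E : Set G) ⊓ Subgroup.normalizer (T : Set G) :=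
      ⟨Subgroup.mul_mem _ (hKN hkK) hn, mem_normalizer_iff_cj.mpr hk⟩
    have : n = k⁻¹ * (k * n) := by group
    rw [this]
    exact Subgroup.mul_mem _ (Subgroup.mem_sup_left (K.inv_mem hkK)) (Subgroup.mem_sup_right hknM)
  have hMK : (Subgroup.normalizer (E : Set G) ⊓ Subgroup.normalizer (T : Set G)) ≤
      Subgroup.normalizer (K : Set G) := fun m hm => mem_normalizer_iff_cj.mpr (hnormK m hm.1)
  have hcount := Cfsg.Agent.Lib.Helper51_Offender.card_sup_mul_card_inf K _ hMK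
  rw [hKM] at hcount
  have h3 : p ^ 3 ∣ Nat.card (Subgroup.normalizer (E : Set G)) := by
    rw [← h.cardP]; exact Subgroup.card_dvd_of_le hPN
  have hK : Nat.card E * E.relIndex K = Nat.card K :=
    Cfsg.Agent.Lib.Helper51_Offender.card_mul_relIndex hEK
  have hpM : p ∣ Nat.card (Subgroup.normalizer (E : Set G) ⊓ Subgroup.normalizer (T : Set G) :
      Subgroup G) := by
    have h5 : p ^ 3 ∣ Nat.card K * Nat.card (Subgroup.normalizer (E : Set G) ⊓
        Subgroup.normalizer (T : Set G) : Subgroup G) := by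
      rw [← hcount]; exact dvd_mul_of_dvd_left h3 _
    rw [← hK, h.cardE] at h5
    have h6 : p ^ 2 * p ∣ p ^ 2 * (E.relIndex K * Nat.card (Subgroup.normalizer (E : Set G) ⊓
        Subgroup.normalizer (T : Set G) : Subgroup G)) := by
      have : p ^ 3 = p ^ 2 * p := by ring
      rw [← this, ← mul_assoc]; exact h5
    have h7 := Nat.dvd_of_mul_dvd_mul_left (pow_pos hp.out.pos 2) h6
    exact (hp.out.dvd_mul.mp h7).resolve_left hEsyl
  obtain ⟨x₀, hx₀⟩ := exists_prime_orderOf_dvd_card' (G := (Subgroup.normalizer (E : Set G) ⊓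
    Subgroup.normalizer (T : Set G) : Subgroup G)) p hpM
  have hx₀o : orderOf (x₀ : G) = p := by rw [Subgroup.orderOf_coe]; exact hx₀
  have hx₀N : (x₀ : G) ∈ Subgroup.normalizer (E : Set G) := x₀.2.1
  have hx₀T : (x₀ : G) ∈ Subgroup.normalizer (T : Set G) := x₀.2.2
  have hx₀E : (x₀ : G) ∉ E := by
    intro hcon
    have := hEM _ hcon hx₀T
    rw [this, orderOf_one] at hx₀o
    exact hp.out.one_lt.ne hx₀o
  have hzp : IsPGroup p (Subgroup.zpowers (x₀ : G)) :=
    IsPGroup.of_card (n := 1) (by rw [Nat.card_zpowers, hx₀o, pow_one])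
  have hRp : IsPGroup p (Subgroup.zpowers (x₀ : G) ⊔ E : Subgroup G) :=
    IsPGroup.to_sup_of_normal_right' hzp (IsPGroup.of_card h.cardE)
      ((Subgroup.zpowers_le).mpr hx₀N)
  have hPtop : ¬ p ∣ P.relIndex ⊤ := by rwa [Subgroup.relIndex_top_right]
  obtain ⟨f, -, hf⟩ := exists_cj_le_of_relIndex (p := p) (le_top : P ≤ ⊤) hPpg hPtop
    (le_top : (Subgroup.zpowers (x₀ : G) ⊔ E : Subgroup G) ≤ ⊤) hRp
  have key : ∀ u ∈ (Subgroup.zpowers (x₀ : G) ⊔ E : Subgroup G), u ^ p = 1 → f * u * f⁻¹ ∈ E := by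
    intro u hu hup
    have h1 : f * u * f⁻¹ ∈ P := hf (conj_mem_cj hu)
    apply (h.Epow _ h1).mp
    rw [conj_pow, hup]; group
  have hfE : cj f E = E := by
    apply Subgroup.eq_of_le_of_card_ge
    · rintro _ ⟨e, he, rfl⟩
      exact key e (Subgroup.mem_sup_right he) (h.pow_p_E he)
    · rw [card_cj']
  have hfx : f * (x₀ : G) * f⁻¹ ∈ E :=
    key _ (Subgroup.mem_sup_left (Subgroup.mem_zpowers _)) (by rw [← hx₀o, pow_orderOf_eq_one])
  have hfx' : f * (x₀ : G) * f⁻¹ ∈ cj f E := by rw [hfE]; exact hfx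
  exact hx₀E (conj_mem_cj_iff.mp hfx')


/-- `Z` is strongly closed in `P` with respect to `G`. -/
theorem strongly_closed (hp2 : p ≠ 2) (hPsyl : ¬ p ∣ P.index)
    {z : G} (hz : z ∈ Z) {g : G} (hg : g * z * g⁻¹ ∈ P) : g * z * g⁻¹ ∈ Z := by
  by_contra hw
  set w := g * z * g⁻¹ with hwdef
  have hPpg : IsPGroup p P := IsPGroup.of_card h.cardP
  have hwp : w ^ p = 1 := by rw [hwdef, conj_pow, h.pow_p_E (h.ZE hz)]; group
  have hwE : w ∈ E := (h.Epow w hg).mp hwp
  have hP₁ : cj g P ≤ Subgroup.centralizer ({w} : Set G) := by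
    rintro _ ⟨x, hx, rfl⟩
    rw [Subgroup.mem_centralizer_singleton_iff]
    simp only [MulEquiv.coe_toMonoidHom, MulAut.conj_apply]
    have := h.Zcent z hz x hx
    calc g * x * g⁻¹ * w = g * (x * z) * g⁻¹ := by rw [hwdef]; group
      _ = g * (z * x) * g⁻¹ := by rw [this]
      _ = w * (g * x * g⁻¹) := by rw [hwdef]; group
  have hECw : E ≤ Subgroup.centralizer ({w} : Set G) := by
    intro e he
    rw [Subgroup.mem_centralizer_singleton_iff]
    exact h.Ecomm e he w hwE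
  have hP₁idx : ¬ p ∣ (cj g P).relIndex (Subgroup.centralizer ({w} : Set G)) := by
    intro hd
    apply hPsyl
    have h1 := dvd_trans hd (Subgroup.relIndex_dvd_index_of_le hP₁)
    have h2 : (cj g P).index = P.index := by
      have h3 := relIndex_cj g P ⊤
      have h4 : cj g (⊤ : Subgroup G) = ⊤ :=
        Subgroup.map_top_of_surjective _ (MulAut.conj g).surjective
      rw [h4, Subgroup.relIndex_top_right, Subgroup.relIndex_top_right] at h3
      exact h3
    rwa [h2] at h1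
  obtain ⟨c, hc, hcE⟩ := exists_cj_le_of_relIndex (p := p) hP₁ (isPGroup_cj hPpg) hP₁idx hECw
    (IsPGroup.of_card h.cardE)
  set g₂ := c⁻¹ * g with hg₂
  have hcw : c⁻¹ * w * c = w := by
    have := Subgroup.mem_centralizer_singleton_iff.mp hc
    rw [mul_assoc, ← this]; group
  have hg₂z : g₂ * z * g₂⁻¹ = w := by
    calc g₂ * z * g₂⁻¹ = c⁻¹ * (g * z * g⁻¹) * c := by rw [hg₂]; group
      _ = w := hcw
  have hEP₂ : E ≤ cj g₂ P := by
    rw [hg₂, cj_mul]
    exact cj_le_iff.mp hcE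
  have hg₂N : g₂ ∈ Subgroup.normalizer (E : Set G) := by
    have hle : cj g₂⁻¹ E ≤ E := by
      rintro _ ⟨e, he, rfl⟩
      simp only [MulEquiv.coe_toMonoidHom, MulAut.conj_apply, inv_inv]
      have h1 : g₂⁻¹ * e * g₂ ∈ P := mem_cj.mp (hEP₂ he)
      apply (h.Epow _ h1).mp
      rw [conj_pow', h.pow_p_E he]; group
    have heq : cj g₂⁻¹ E = E := Subgroup.eq_of_le_of_card_ge hle (by rw [card_cj'])
    have h5 : g₂⁻¹ ∈ Subgroup.normalizer (E : Set G) := mem_normalizer_iff_cj.mpr heq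
    have h6 := Subgroup.inv_mem _ h5
    rwa [inv_inv] at h6
  obtain ⟨s, hsN, hs⟩ := h.exists_inverting hg₂N hz (by rw [hg₂z]; exact hw)
  exact h.not_inverting hp2 hPsyl hsN hs

end Setup

end Group


section PGroup

variable {Q : Type*} [Group Q] [Finite Q] {p : ℕ} [hp : Fact p.Prime]

/-- the hypotheses on the abstract `p`-group -/
structure Hyp (p : ℕ) (Q : Type*) [Group Q] : Prop where
  comm : commutator Q = Subgroup.center Q
  cardZ : Nat.card (Subgroup.center Q) = p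
  card : Nat.card Q = p ^ 3
  exp : Monoid.exponent Q = p ^ 2
  odd : p ≠ 2

namespace Hyp

variable (h : Hyp p Q)
include h

omit [Finite Q] hp in
theorem comm_central (a b : Q) : a * b * a⁻¹ * b⁻¹ ∈ Subgroup.center Q := by
  rw [← h.comm, commutator_def, ← commutatorElement_def]
  exact Subgroup.commutator_mem_commutator (Subgroup.mem_top a) (Subgroup.mem_top b)

omit hp in
theorem pow_p_center {z : Q} (hz : z ∈ Subgroup.center Q) : z ^ p = 1 := by
  have h2 : ((⟨z, hz⟩ : Subgroup.center Q) ^ Nat.card (Subgroup.center Q) : Subgroup.center Q) = 1 :=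
    pow_card_eq_one'
  rw [h.cardZ] at h2
  have h3 := congrArg (fun x : Subgroup.center Q => (x : Q)) h2
  simp only [Subgroup.coe_pow, Subgroup.coe_one] at h3
  exact h3

theorem mul_pow_p (x y : Q) : (x * y) ^ p = x ^ p * y ^ p := by
  have hc := h.comm_central y x
  have hcomm : ∀ g : Q, Commute (y * x * y⁻¹ * x⁻¹) g := fun g =>
    (Subgroup.mem_center_iff.mp hc g).symm
  apply Cfsg.Agent.Lib.Helper20_PGroupOdd.mul_pow_prime_of_comm hp.out h.odd
    (c := y * x * y⁻¹ * x⁻¹) (by group) (hcomm x) (hcomm y) (h.pow_p_center hc)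

/-- the `p`-th power map as a homomorphism -/
def powHom : Q →* Q where
  toFun x := x ^ p
  map_one' := one_pow p
  map_mul' := h.mul_pow_p

theorem powHom_apply (x : Q) : h.powHom x = x ^ p := rfl

theorem pow_mem_center (x : Q) : x ^ p ∈ Subgroup.center Q := by
  rw [Subgroup.mem_center_iff]
  intro y
  have hc := h.comm_central y x
  have hcomm : Commute (y * x * y⁻¹ * x⁻¹) x := (Subgroup.mem_center_iff.mp hc x).symm
  have h1 : y * x * y⁻¹ = (y * x * y⁻¹ * x⁻¹) * x := by group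
  have h2 : (y * x * y⁻¹) ^ p = x ^ p := by
    rw [h1, hcomm.mul_pow, h.pow_p_center hc, one_mul]
  rw [conj_pow] at h2
  calc y * x ^ p = (y * x ^ p * y⁻¹) * y := by group
    _ = x ^ p * y := by rw [h2]

omit [Finite Q] in
theorem exists_pow_ne_one : ∃ x : Q, x ^ p ≠ 1 := by
  by_contra hcon
  push_neg at hcon
  have h1 : Monoid.exponent Q ∣ p := Monoid.exponent_dvd_of_forall_pow_eq_one hcon
  rw [h.exp] at h1
  have h2 := Nat.le_of_dvd hp.out.pos h1
  have hp1 : 1 < p := hp.out.one_lt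
  have : p ^ 1 < p ^ 2 := Nat.pow_lt_pow_right hp1 (by norm_num)
  rw [pow_one] at this
  omega

theorem card_ker : Nat.card h.powHom.ker = p ^ 2 := by
  have h1 : Nat.card h.powHom.ker * Nat.card h.powHom.range = p ^ 3 := by
    rw [← Subgroup.index_ker, Subgroup.card_mul_index, h.card]
  have hle : h.powHom.range ≤ Subgroup.center Q := by
    rintro _ ⟨x, rfl⟩
    exact h.pow_mem_center x
  have h2 : Nat.card h.powHom.range ∣ p := by
    have := Subgroup.card_dvd_of_le hle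
    rwa [h.cardZ] at this
  have h3 : Nat.card h.powHom.range ≠ 1 := by
    intro hone
    obtain ⟨x, hx⟩ := h.exists_pow_ne_one
    have hb : h.powHom.range = ⊥ := Subgroup.eq_bot_of_card_eq _ hone
    have : x ^ p ∈ h.powHom.range := ⟨x, rfl⟩
    rw [hb, Subgroup.mem_bot] at this
    exact hx this
  have h4 : Nat.card h.powHom.range = p := ((Nat.dvd_prime hp.out).mp h2).resolve_left h3
  rw [h4] at h1
  have : p ^ 3 = p ^ 2 * p := by ring
  rw [this] at h1
  exact Nat.eq_of_mul_eq_mul_right hp.out.pos h1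

theorem center_le_ker : Subgroup.center Q ≤ h.powHom.ker := by
  intro z hz
  rw [MonoidHom.mem_ker, powHom_apply]
  exact h.pow_p_center hz

theorem ker_comm (a b : Q) (ha : a ∈ h.powHom.ker) (hb : b ∈ h.powHom.ker) : a * b = b * a := by
  have := IsPGroup.commutative_of_card_eq_prime_sq h.card_ker ⟨a, ha⟩ ⟨b, hb⟩
  exact congrArg Subtype.val this

theorem cent_w {w : Q} (hw : w ∈ h.powHom.ker) (hwZ : w ∉ Subgroup.center Q) {x : Q}
    (hx : x * w = w * x) : x ∈ h.powHom.ker := by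
  have hle : h.powHom.ker ≤ Subgroup.centralizer ({w} : Set Q) := by
    intro e he
    rw [Subgroup.mem_centralizer_singleton_iff]
    exact h.ker_comm e w he hw
  have hne : Subgroup.centralizer ({w} : Set Q) ≠ ⊤ := by
    intro htop
    apply hwZ
    rw [Subgroup.mem_center_iff]
    intro g
    have : g ∈ Subgroup.centralizer ({w} : Set Q) := by rw [htop]; trivial
    exact Subgroup.mem_centralizer_singleton_iff.mp this
  have h1 : Nat.card (Subgroup.centralizer ({w} : Set Q)) ∣ p ^ 3 := by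
    rw [← h.card]; exact Subgroup.card_subgroup_dvd_card _
  obtain ⟨k, hk, hk2⟩ := (Nat.dvd_prime_pow hp.out).mp h1
  have h2 : p ^ 2 ∣ p ^ k := by
    rw [← hk2, ← h.card_ker]; exact Subgroup.card_dvd_of_le hle
  have hp1 : 1 < p := hp.out.one_lt
  have hk2' : 2 ≤ k := (Nat.pow_dvd_pow_iff_le_right hp1).mp h2
  have hk3 : k ≠ 3 := by
    intro h3
    apply hne
    rw [← Subgroup.card_eq_iff_eq_top, hk2, h3, h.card]
  have hkeq : k = 2 := by omega
  have heq : h.powHom.ker = Subgroup.centralizer ({w} : Set Q) := by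
    apply Subgroup.eq_of_le_of_card_ge hle
    rw [hk2, hkeq, h.card_ker]
  rw [heq, Subgroup.mem_centralizer_singleton_iff]
  exact hx

end Hyp

end PGroup

/-- Let p be an odd prime and G a finite group with a Sylow p-subgroup P that is extraspecial of order p³ and exponent p². Then the centre of P is strongly closed in P with respect to G: a G-conjugate of an element of Z(P) that lies in P already lies in Z(P). In particular a nontrivial central element of P is conjugate in G to no noncentral element of P. -/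
theorem result {G : Type*} [Group G] [Finite G]
    {p : ℕ} [Fact p.Prime] (hp : p ≠ 2) (P : Sylow p G) (hE : Cfsg.IsExtraspecial p ↥P)
    (hcard : Nat.card P = p ^ 3) (hexp : Monoid.exponent ↥P = p ^ 2) :
    Cfsg.IsStronglyClosed ((Subgroup.center ↥P).map (P : Subgroup G).subtype) (P : Subgroup G) := by
  have hyp : Hyp p ↥(P : Subgroup G) :=
    { comm := hE.1.2.2
      cardZ := hE.2
      card := hcard
      exp := hexp
      odd := hp }
  have hsetup : Setup p (P : Subgroup G) ((Subgroup.center ↥(P : Subgroup G)).map (P : Subgroup G).subtype)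
      (hyp.powHom.ker.map (P : Subgroup G).subtype) :=
    { ZE := Subgroup.map_mono hyp.center_le_ker
      EP := Subgroup.map_subtype_le _
      cardZ := by
        rw [Subgroup.card_map_of_injective (Subgroup.subtype_injective _)]; exact hyp.cardZ
      cardE := by
        rw [Subgroup.card_map_of_injective (Subgroup.subtype_injective _)]; exact hyp.card_ker
      cardP := hcard
      Ecomm := by
        rintro _ ⟨a, ha, rfl⟩ _ ⟨b, hb, rfl⟩
        have := hyp.ker_comm a b ha hb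
        exact congrArg Subtype.val this
      Epow := by
        intro x hx
        constructor
        · intro hxp
          refine ⟨⟨x, hx⟩, ?_, rfl⟩
          rw [SetLike.mem_coe, MonoidHom.mem_ker, Hyp.powHom_apply]
          exact Subtype.ext hxp
        · rintro ⟨x', hx', rfl⟩
          rw [SetLike.mem_coe, MonoidHom.mem_ker, Hyp.powHom_apply] at hx'
          have := congrArg Subtype.val hx'
          simpa using this
      Zcent := by
        rintro _ ⟨z, hz, rfl⟩ x hx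
        have := Subgroup.mem_center_iff.mp hz ⟨x, hx⟩
        exact congrArg Subtype.val this
      comm_mem := by
        rintro x hx _ ⟨e, he, rfl⟩
        exact ⟨_, hyp.comm_central ⟨x, hx⟩ e, rfl⟩
      cent_w := by
        rintro _ ⟨w, hw, rfl⟩ hwZ x hx hxw
        have hwZ' : w ∉ Subgroup.center ↥(P : Subgroup G) := fun hc => hwZ ⟨w, hc, rfl⟩
        have hxw' : (⟨x, hx⟩ : ↥(P : Subgroup G)) * w = w * ⟨x, hx⟩ := Subtype.ext hxw
        exact ⟨⟨x, hx⟩, hyp.cent_w hw hwZ' hxw', rfl⟩ }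
  refine ⟨Subgroup.map_subtype_le _, ?_⟩
  intro x hx g hg
  exact hsetup.strongly_closed hp P.not_dvd_index hx hg
end Cfsg.Agent.S3053
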