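import Cfsg.Statements.S3054
import Cfsg.Agent.Lib.Helper51_RVEig
import Cfsg.Agent.Lib.Helper51_RVMat

set_option autoImplicit false
open Cfsg

namespace Cfsg.Agent.S3054

open Matrix Cfsg.Agent.Lib.Helper51_RVLin Cfsg.Agent.Lib.Helper51_RVExtra
  Cfsg.Agent.Lib.Helper51_RVCore Cfsg.Agent.Lib.Helper51_RVEig Cfsg.Agent.Lib.Helper51_RVMat

/-- the hypothesis on automorphisms of order `p` makes `V` radical -/
theorem rad_of_SL {G : Type*} [Group G] [Finite G] {p : ℕ} [Fact p.Prime] (V : Subgroup G)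
    (hV : Nat.card V = p ^ 2) (hexp : ∀ v ∈ V, v ^ p = 1) (z₀ x : G) (hz₀ : z₀ ∈ V) (hx : x ∈ V)
    (hz1 : z₀ ≠ 1) (hxz : x ∉ Subgroup.zpowers z₀)
    (hSL : ∀ φ : MulAut ↥V, orderOf φ = p → ∃ g : G, ∀ a : ↥V, (φ a : G) = g * (a : G) * g⁻¹) :
    ∃ g₁ g₂ : G, g₁ ∈ Subgroup.normalizer (V : Set G) ∧ g₂ ∈ Subgroup.normalizer (V : Set G) ∧
      g₁ * z₀ * g₁⁻¹ = z₀ ∧ g₁ * x * g₁⁻¹ = z₀ * x ∧ g₂ * z₀ * g₂⁻¹ = z₀ * x ∧
      g₂ * x * g₂⁻¹ = x := by
  have hpp : p.Prime := Fact.out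
  have hcomm : ∀ a b : ↥V, a * b = b * a := by
    intro a b
    exact Subtype.ext (comm_of_card_sq hV a a.2 b b.2)
  have hexp' : ∀ a : ↥V, a ^ p = 1 := fun a => Subtype.ext (hexp a a.2)
  have hz1' : (⟨z₀, hz₀⟩ : ↥V) ≠ 1 := fun h => hz1 (congrArg Subtype.val h)
  have hxz' : (⟨x, hx⟩ : ↥V) ∉ Subgroup.zpowers (⟨z₀, hz₀⟩ : ↥V) := by
    intro h
    obtain ⟨k, hk⟩ := Subgroup.mem_zpowers_iff.1 h
    apply hxz
    rw [Subgroup.mem_zpowers_iff]
    refine ⟨k, ?_⟩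
    have := congrArg Subtype.val hk
    simpa using this
  obtain ⟨c, Φ, hbij, hadd, hcz, hcx, hequiv, hsurj⟩ :=
    exists_coords hcomm hexp' hV ⟨z₀, hz₀⟩ ⟨x, hx⟩ hz1' hxz'
  have hΦinj : Function.Injective Φ := by
    intro φ ψ h
    apply MulEquiv.ext
    intro a
    apply hbij.1
    rw [hequiv, hequiv, h]
  -- automorphisms of order `p` with prescribed matrices
  have key : ∀ M M' : Matrix (Fin 2) (Fin 2) (ZMod p), M * M' = 1 → M ^ p = 1 → M ≠ 1 →
      ∃ g : G, g ∈ Subgroup.normalizer (V : Set G) ∧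
        ∀ (v : G) (hv : v ∈ V), ∃ hgv : g * v * g⁻¹ ∈ V, c ⟨g * v * g⁻¹, hgv⟩ = M *ᵥ c ⟨v, hv⟩ := by
    intro M M' hMM' hMp hM1
    obtain ⟨φ, hφ⟩ := hsurj M M' hMM'
    have hφp : φ ^ p = 1 := by
      apply hΦinj
      rw [map_pow, hφ, hMp, map_one]
    have hφ1 : φ ≠ 1 := by
      intro h
      apply hM1
      rw [← hφ, h, map_one]
    obtain ⟨g, hg⟩ := hSL φ (orderOf_eq_prime hφp hφ1)
    have hmem : ∀ v (hv : v ∈ V), g * v * g⁻¹ ∈ V := by
      intro v hv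
      rw [← hg ⟨v, hv⟩]
      exact (φ ⟨v, hv⟩).2
    refine ⟨g, Subgroup.mem_normalizer_fintype hmem, ?_⟩
    intro v hv
    refine ⟨hmem v hv, ?_⟩
    have : (⟨g * v * g⁻¹, hmem v hv⟩ : ↥V) = φ ⟨v, hv⟩ := Subtype.ext (hg ⟨v, hv⟩).symm
    rw [this, hequiv, hφ]
  have hU : tU (1 : ZMod p) * tU (-1) = 1 := by rw [tU_mul, add_neg_cancel, tU_zero]
  have hUp : tU (1 : ZMod p) ^ p = 1 := by
    rw [tU_pow, mul_one, ZMod.natCast_self, tU_zero]
  have hU1 : tU (1 : ZMod p) ≠ 1 := by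
    intro h
    rw [← tU_zero] at h
    exact one_ne_zero (tU_inj h)
  have hL : tL (1 : ZMod p) * tL (-1) = 1 := by rw [tL_mul, add_neg_cancel, tL_zero]
  have hLp : tL (1 : ZMod p) ^ p = 1 := by
    rw [tL_pow, mul_one, ZMod.natCast_self, tL_zero]
  have hL1 : tL (1 : ZMod p) ≠ 1 := by
    intro h
    have := congrFun (congrFun h 1) 0
    simp [tL] at this
  obtain ⟨g₁, hg₁, h1⟩ := key _ _ hU hUp hU1
  obtain ⟨g₂, hg₂, h2⟩ := key _ _ hL hLp hL1
  refine ⟨g₁, g₂, hg₁, hg₂, ?_, ?_, ?_, ?_⟩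
  · obtain ⟨hm, h⟩ := h1 z₀ hz₀
    have : (⟨g₁ * z₀ * g₁⁻¹, hm⟩ : ↥V) = ⟨z₀, hz₀⟩ := by
      apply hbij.1
      rw [h, hcz]
      funext k
      fin_cases k <;> simp [tU, Matrix.mulVec, dotProduct, Fin.sum_univ_two]
    exact congrArg Subtype.val this
  · obtain ⟨hm, h⟩ := h1 x hx
    have : (⟨g₁ * x * g₁⁻¹, hm⟩ : ↥V) = ⟨z₀, hz₀⟩ * ⟨x, hx⟩ := by
      apply hbij.1
      rw [h, hadd, hcz, hcx]
      funext k
      fin_cases k <;> simp [tU, Matrix.mulVec, dotProduct, Fin.sum_univ_two]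
    exact congrArg Subtype.val this
  · obtain ⟨hm, h⟩ := h2 z₀ hz₀
    have : (⟨g₂ * z₀ * g₂⁻¹, hm⟩ : ↥V) = ⟨z₀, hz₀⟩ * ⟨x, hx⟩ := by
      apply hbij.1
      rw [h, hadd, hcz, hcx]
      funext k
      fin_cases k <;> simp [tL, Matrix.mulVec, dotProduct, Fin.sum_univ_two]
    exact congrArg Subtype.val this
  · obtain ⟨hm, h⟩ := h2 x hx
    have : (⟨g₂ * x * g₂⁻¹, hm⟩ : ↥V) = ⟨x, hx⟩ := by
      apply hbij.1
      rw [h, hcx]
      funext k
      fin_cases k <;> simp [tL, Matrix.mulVec, dotProduct, Fin.sum_univ_two]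
    exact congrArg Subtype.val this

/-- Let p be an odd prime and G a finite group with a Sylow p-subgroup P that is extraspecial of order p³ and exponent p. Suppose P contains three distinct subgroups A of order p² (each is elementary abelian of rank 2) such that every automorphism of A of order p is induced by conjugation by an element of G; equivalently the automorphism group induced on A by its normalizer contains the special linear group of A. Then p ≤ 13. -/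
theorem result {G : Type*} [Group G] [Finite G]
    {p : ℕ} [Fact p.Prime] (hp : p ≠ 2) (P : Sylow p G) (hE : Cfsg.IsExtraspecial p ↥P)
    (hcard : Nat.card P = p ^ 3) (hexp : Monoid.exponent ↥P = p)
    (A : Fin 3 → Subgroup G) (hA : Function.Injective A) (hAP : ∀ i, A i ≤ (P : Subgroup G))
    (hAcard : ∀ i, Nat.card ↥(A i) = p ^ 2)
    (hSL : ∀ i, ∀ φ : MulAut ↥(A i), orderOf φ = p → ∃ g : G, ∀ a : ↥(A i), (φ a : G) = g * (a : G) * g⁻¹) :
    p ≤ 13 := by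
  have hpp : p.Prime := Fact.out
  have H := es_of_isExtraspecial (P : Subgroup G) hE hcard hexp
  obtain ⟨cP, ρ, W⟩ := exists_WD (P : Subgroup G) hE hcard hexp
  obtain ⟨m, hm, hρm⟩ := rho_pow P W
  obtain ⟨a, ha0, ha⟩ := exists_prim_root p
  obtain ⟨z₀, hz₀, hz1, -⟩ := H.exists_gen
  -- a non-central element in each `A i`
  have hx : ∀ i, ∃ x, x ∈ A i ∧ x ∉ (Subgroup.center ↥(P : Subgroup G)).map (P : Subgroup G).subtype := by
    intro i
    by_contra hcon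
    push Not at hcon
    have hle : A i ≤ (Subgroup.center ↥(P : Subgroup G)).map (P : Subgroup G).subtype :=
      fun x hx => hcon x hx
    have := Subgroup.card_le_of_le hle
    rw [hAcard i, H.cardZ] at this
    have h2 : p ^ 1 < p ^ 2 := Nat.pow_lt_pow_right hpp.one_lt (by norm_num)
    rw [pow_one] at h2
    omega
  choose x hxA hxZ using hx
  have hn : ∀ i, ∃ n : ↥(Subgroup.normalizer ((P : Subgroup G) : Set G)),
      ρ n *ᵥ cP ⟨x i, hAP i (hxA i)⟩ = a⁻¹ • cP ⟨x i, hAP i (hxA i)⟩ ∧ (ρ n).det = a := by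
    intro i
    have hz₀V : z₀ ∈ A i := H.le_of_card_sq (hAP i) (hAcard i) hz₀
    have hexpV : ∀ v ∈ A i, v ^ p = 1 := fun v hv => H.exp v (hAP i hv)
    have hxz : x i ∉ Subgroup.zpowers z₀ := by
      intro h
      apply hxZ i
      have hle : Subgroup.zpowers z₀ ≤
          (Subgroup.center ↥(P : Subgroup G)).map (P : Subgroup G).subtype := by
        rw [Subgroup.zpowers_le]; exact hz₀
      exact hle h
    obtain ⟨g₁, g₂, hg₁, hg₂, h11, h12, h21, h22⟩ :=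
      rad_of_SL (A i) (hAcard i) hexpV z₀ (x i) hz₀V (hxA i) hz1 hxz (hSL i)
    exact eigen P H W (hAP i) (hAcard i) hz₀ hz1 (hxA i) (hxZ i) g₁ g₂ hg₁ hg₂ 1
      (by rw [Nat.cast_one]; exact one_ne_zero) h11 h12 (by rw [pow_one]; exact h21) h22 a ha0
  choose n hn1 hn2 using hn
  refine bound13 ρ m hm hρm a ha0 ha (fun i => cP ⟨x i, hAP i (hxA i)⟩) ?_ n hn1 hn2
  intro i j hij hdet
  have hw0 : cP ⟨x i, hAP i (hxA i)⟩ ≠ 0 := fun h => hxZ i ((W.ker _).1 h)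
  obtain ⟨t, ht⟩ := prop_of_det_zero _ _ hw0 hdet
  -- `x j` lies in `A i`
  have h1 : cP (⟨x j, hAP j (hxA j)⟩ * (⟨x i, hAP i (hxA i)⟩ ^ t.val)⁻¹) = 0 := by
    rw [W.add, coords_inv W.add, coords_pow W.add, ZMod.natCast_zmod_val, ht]
    exact add_neg_cancel _
  have h2 := (W.ker _).1 h1
  have h3 : x j * (x i ^ t.val)⁻¹ ∈ A i := H.le_of_card_sq (hAP i) (hAcard i) h2
  have hxjAi : x j ∈ A i := by
    have := (A i).mul_mem h3 ((A i).pow_mem (hxA i) t.val)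
    rwa [inv_mul_cancel_right] at this
  have hle : A i ≤ A j := by
    intro u hu
    exact H.mem_of_commute (hAP j) (hAcard j) (hxA j) (hxZ j) (hAP i hu)
      (comm_of_card_sq (hAcard i) u hu (x j) hxjAi)
  have heq : A i = A j := Subgroup.eq_of_le_of_card_ge hle (by rw [hAcard i, hAcard j])
  exact hij (hA heq)

end Cfsg.Agent.S3054
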