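import Cfsg.Statements.S3055
import Cfsg.Agent.Lib.Helper51_RVEig
import Cfsg.Agent.Lib.Helper51_RVMat

set_option autoImplicit false
open Cfsg

namespace Cfsg.Agent.S3055

open Matrix Cfsg.Agent.Lib.Helper51_RVLin Cfsg.Agent.Lib.Helper51_RVExtra
  Cfsg.Agent.Lib.Helper51_RVCore Cfsg.Agent.Lib.Helper51_RVEig Cfsg.Agent.Lib.Helper51_RVMat

open scoped Pointwise

/-- transport of the internal extraspecial structure under conjugation -/
theorem es_conj {G : Type*} [Group G] {p : ℕ} {Q Z : Subgroup G} (H : ES p Q Z) (g : G) :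
    ES p (Q.map (MulAut.conj g).toMonoidHom) (Z.map (MulAut.conj g).toMonoidHom) where
  cardQ := by
    rw [Subgroup.card_map_of_injective (MulAut.conj g).injective]; exact H.cardQ
  cardZ := by
    rw [Subgroup.card_map_of_injective (MulAut.conj g).injective]; exact H.cardZ
  le := Subgroup.map_mono H.le
  comm_mem := by
    rintro _ ⟨u, hu, rfl⟩ _ ⟨v, hv, rfl⟩
    refine ⟨u * v * u⁻¹ * v⁻¹, H.comm_mem u hu v hv, ?_⟩
    show (MulAut.conj g) (u * v * u⁻¹ * v⁻¹) = (MulAut.conj g) u * (MulAut.conj g) v *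
      ((MulAut.conj g) u)⁻¹ * ((MulAut.conj g) v)⁻¹
    simp only [map_mul, map_inv]
  central := by
    rintro _ ⟨z, hz, rfl⟩ _ ⟨u, hu, rfl⟩
    have := H.central z hz u hu
    show (MulAut.conj g) z * (MulAut.conj g) u = (MulAut.conj g) u * (MulAut.conj g) z
    rw [← map_mul, ← map_mul, this]
  exp := by
    rintro _ ⟨u, hu, rfl⟩
    show (MulAut.conj g) u ^ p = 1
    rw [← map_pow, H.exp u hu, map_one]
  center := by
    rintro _ ⟨u, hu, rfl⟩ hcomm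
    refine ⟨u, H.center u hu (fun v hv => ?_), rfl⟩
    have := hcomm ((MulAut.conj g) v) ⟨v, hv, rfl⟩
    apply (MulAut.conj g).injective
    rw [map_mul, map_mul]
    exact this

/-- a `p`-subgroup of `C` is conjugate in `C` into a Sylow subgroup contained in `C` -/
theorem psub_conj_in {G : Type*} [Group G] {p : ℕ} [Fact p.Prime] [Finite G] (P : Sylow p G) (C : Subgroup G) (hPC : (P : Subgroup G) ≤ C)
    (V : Subgroup G) (hVC : V ≤ C) (hVp : IsPGroup p V) :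
    ∃ h ∈ C, ∀ v ∈ V, h * v * h⁻¹ ∈ (P : Subgroup G) := by
  have hVp' : IsPGroup p (V.subgroupOf C) := hVp.comap_subtype
  obtain ⟨Q, hQ⟩ := hVp'.exists_le_sylow
  obtain ⟨h, hh⟩ := MulAction.exists_smul_eq C Q (P.subtype hPC)
  refine ⟨h, h.2, ?_⟩
  intro v hv
  have h1 : (⟨v, hVC hv⟩ : C) ∈ (Q : Subgroup C) := hQ (Subgroup.mem_subgroupOf.2 hv)
  have h2 : MulAut.conj h • (⟨v, hVC hv⟩ : C) ∈ MulAut.conj h • (Q : Subgroup C) :=
    Subgroup.smul_mem_pointwise_smul _ _ _ h1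
  rw [← Sylow.coe_subgroup_smul, hh, Sylow.coe_subtype, Subgroup.mem_subgroupOf] at h2
  simpa [MulAut.smul_def] using h2

/-- Let p be an odd prime and G a finite group with a Sylow p-subgroup P that is extraspecial of order p³ and exponent p. If all nonidentity elements of P are conjugate in G, then p ≤ 7. -/
theorem result {G : Type*} [Group G] [Finite G]
    {p : ℕ} [Fact p.Prime] (hp : p ≠ 2) (P : Sylow p G) (hE : Cfsg.IsExtraspecial p ↥P)
    (hcard : Nat.card P = p ^ 3) (hexp : Monoid.exponent ↥P = p)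
    (hconj : ∀ x y : ↥P, x ≠ 1 → y ≠ 1 → ∃ g : G, g * (x : G) * g⁻¹ = (y : G)) :
    p ≤ 7 := by
  have hpp : p.Prime := Fact.out
  have H := es_of_isExtraspecial (P : Subgroup G) hE hcard hexp
  obtain ⟨cP, ρ, W⟩ := exists_WD (P : Subgroup G) hE hcard hexp
  obtain ⟨m, hm, hρm⟩ := rho_pow P W
  obtain ⟨a, ha0, ha⟩ := exists_prim_root p
  refine bound7 ρ m hm hρm a ha0 ha ?_
  intro w hw
  obtain ⟨xP, rfl⟩ := W.surj w
  set Z := (Subgroup.center ↥(P : Subgroup G)).map (P : Subgroup G).subtype with hZ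
  have hxZ : (xP : G) ∉ Z := fun h => hw ((W.ker _).2 h)
  have hx1 : (xP : G) ≠ 1 := fun h => hxZ (h ▸ Z.one_mem)
  have hxP1 : xP ≠ 1 := fun h => hx1 (by rw [h]; rfl)
  -- a subgroup of order `p²` containing `x`
  obtain ⟨V, hVP, hV, hxV⟩ : ∃ V : Subgroup G, V ≤ (P : Subgroup G) ∧ Nat.card V = p ^ 2 ∧
      (xP : G) ∈ V := by
    have hxp : xP ^ p = 1 := Subtype.ext (H.exp xP xP.2)
    have hcz : Nat.card (Subgroup.zpowers xP) = p ^ 1 := by
      rw [Nat.card_zpowers, orderOf_eq_prime hxp hxP1, pow_one]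
    have hdvd : p ^ 2 ∣ Nat.card ↥(P : Subgroup G) := by
      rw [hcard]; exact pow_dvd_pow p (by norm_num)
    obtain ⟨K, hK, hle⟩ := Sylow.exists_subgroup_card_pow_prime_le p hdvd _ hcz (by norm_num)
    refine ⟨K.map (P : Subgroup G).subtype, Subgroup.map_subtype_le _, ?_, ?_⟩
    · rw [Subgroup.card_map_of_injective (Subgroup.subtype_injective _)]; exact hK
    · exact ⟨xP, hle (Subgroup.mem_zpowers xP), rfl⟩
  -- `y ∈ P ∖ V`
  obtain ⟨y, hyP, hyV⟩ : ∃ y, y ∈ (P : Subgroup G) ∧ y ∉ V := by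
    by_contra hcon
    push Not at hcon
    have hle : (P : Subgroup G) ≤ V := fun u hu => hcon u hu
    have := Subgroup.card_le_of_le hle
    rw [hV, H.cardQ] at this
    have h2 : p ^ 2 < p ^ 3 := Nat.pow_lt_pow_right hpp.one_lt (by norm_num)
    omega
  set x : G := (xP : G) with hx
  set z₀ : G := y * x * y⁻¹ * x⁻¹ with hz₀def
  have hxQ : x ∈ (P : Subgroup G) := xP.2
  have hz₀ : z₀ ∈ Z := H.comm_mem y hyP x hxQ
  have hz1 : z₀ ≠ 1 := by
    intro h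
    apply hyV
    apply H.mem_of_commute hVP hV hxV hxZ hyP
    have : y * x = (y * x * y⁻¹ * x⁻¹) * x * y := by group
    rw [this, ← hz₀def, h, one_mul]
  have hz₀V : z₀ ∈ V := H.le_of_card_sq hVP hV hz₀
  have hcommV := comm_of_card_sq hV
  -- a conjugate of `P` containing `V` in which `x` is central
  obtain ⟨g, hg⟩ := hconj ⟨z₀, H.le hz₀⟩ xP (fun h => hz1 (congrArg Subtype.val h)) hxP1
  have hg' : g * z₀ * g⁻¹ = x := hg
  have H₁ := es_conj H g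
  have hxZ₁ : x ∈ Z.map (MulAut.conj g).toMonoidHom := ⟨z₀, hz₀, hg'⟩
  have hP₁ : ∀ u, u ∈ ((g • P : Sylow p G) : Subgroup G) ↔
      u ∈ (P : Subgroup G).map (MulAut.conj g).toMonoidHom := by
    intro u
    rw [Sylow.coe_subgroup_smul, Subgroup.mem_smul_pointwise_iff_exists]
    rfl
  have hP₁C : ((g • P : Sylow p G) : Subgroup G) ≤ Subgroup.centralizer ({x} : Set G) := by
    intro u hu
    rw [Subgroup.mem_centralizer_singleton_iff]
    exact (H₁.central x hxZ₁ u ((hP₁ u).1 hu)).symm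
  have hVC : V ≤ Subgroup.centralizer ({x} : Set G) := by
    intro v hv
    rw [Subgroup.mem_centralizer_singleton_iff]
    exact hcommV v hv x hxV
  obtain ⟨h, hhC, hh⟩ := psub_conj_in (g • P) _ hP₁C V hVC (IsPGroup.of_card hV)
  have hhx : h * x = x * h := Subgroup.mem_centralizer_singleton_iff.1 hhC
  have H₂ := es_conj H (h⁻¹ * g)
  have hxZ₂ : x ∈ Z.map (MulAut.conj (h⁻¹ * g)).toMonoidHom := by
    refine ⟨z₀, hz₀, ?_⟩
    show h⁻¹ * g * z₀ * (h⁻¹ * g)⁻¹ = x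
    have : h⁻¹ * g * z₀ * (h⁻¹ * g)⁻¹ = h⁻¹ * (g * z₀ * g⁻¹) * h := by group
    rw [this, hg', mul_assoc, ← hhx, inv_mul_cancel_left]
  have hVP₂ : V ≤ (P : Subgroup G).map (MulAut.conj (h⁻¹ * g)).toMonoidHom := by
    intro v hv
    obtain ⟨u, hu, hu'⟩ := (hP₁ _).1 (hh v hv)
    refine ⟨u, hu, ?_⟩
    show h⁻¹ * g * u * (h⁻¹ * g)⁻¹ = v
    have h3 : g * u * g⁻¹ = h * v * h⁻¹ := hu'
    have : h⁻¹ * g * u * (h⁻¹ * g)⁻¹ = h⁻¹ * (g * u * g⁻¹) * h := by group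
    rw [this, h3]
    group
  -- `g₂ ∈ P₂ ∖ V`
  obtain ⟨g₂, hg₂P, hg₂V⟩ : ∃ g₂, g₂ ∈ (P : Subgroup G).map (MulAut.conj (h⁻¹ * g)).toMonoidHom ∧
      g₂ ∉ V := by
    by_contra hcon
    push Not at hcon
    have hle : (P : Subgroup G).map (MulAut.conj (h⁻¹ * g)).toMonoidHom ≤ V := fun u hu => hcon u hu
    have := Subgroup.card_le_of_le hle
    rw [hV, H₂.cardQ] at this
    have h2 : p ^ 2 < p ^ 3 := Nat.pow_lt_pow_right hpp.one_lt (by norm_num)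
    omega
  have hz₀Z₂ : z₀ ∉ Z.map (MulAut.conj (h⁻¹ * g)).toMonoidHom := by
    intro hmem
    obtain ⟨k, hk⟩ := ES_exists_pow H₂ hmem hz1 hxZ₂
    apply hxZ
    rw [← hk]
    exact Z.pow_mem hz₀ k
  have hc₂ : g₂ * z₀ * g₂⁻¹ * z₀⁻¹ ∈ Z.map (MulAut.conj (h⁻¹ * g)).toMonoidHom :=
    H₂.comm_mem g₂ hg₂P z₀ (hVP₂ hz₀V)
  have hc₂1 : g₂ * z₀ * g₂⁻¹ * z₀⁻¹ ≠ 1 := by
    intro h1
    apply hg₂V
    apply H₂.mem_of_commute hVP₂ hV hz₀V hz₀Z₂ hg₂P
    have : g₂ * z₀ = (g₂ * z₀ * g₂⁻¹ * z₀⁻¹) * z₀ * g₂ := by group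
    rw [this, h1, one_mul]
  obtain ⟨cc, hcc⟩ := ES_exists_pow H₂ hxZ₂ hx1 hc₂
  have hcc0 : (cc : ZMod p) ≠ 0 := by
    intro h0
    apply hc₂1
    rw [← hcc]
    obtain ⟨d, hd⟩ := (ZMod.natCast_eq_zero_iff cc p).1 h0
    rw [hd, pow_mul, H.exp x hxQ, one_pow]
  have h21 : g₂ * z₀ * g₂⁻¹ = z₀ * x ^ cc := by
    have : g₂ * z₀ * g₂⁻¹ = (g₂ * z₀ * g₂⁻¹ * z₀⁻¹) * z₀ := by group
    rw [this, ← hcc]
    exact hcommV _ (V.pow_mem hxV cc) _ hz₀V
  have h22 : g₂ * x * g₂⁻¹ = x := by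
    rw [← H₂.central x hxZ₂ g₂ hg₂P, mul_inv_cancel_right]
  have h11 : y * z₀ * y⁻¹ = z₀ := by
    rw [← H.central z₀ hz₀ y hyP, mul_inv_cancel_right]
  have h12 : y * x * y⁻¹ = z₀ * x := by
    rw [hz₀def]; group
  obtain ⟨n, hn1, hn2⟩ := eigen P H W hVP hV hz₀ hz1 hxV hxZ y g₂ (H.le_normalizer hVP hV hyP)
    (H₂.le_normalizer hVP₂ hV hg₂P) cc hcc0 h11 h12 h21 h22 a ha0
  exact ⟨n, hn1, hn2⟩

end Cfsg.Agent.S3055
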