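import Cfsg.Statements.S3057
import Cfsg.Agent.Lib.Helper51_StrEmb
import Cfsg.Agent.Lib.Helper48_Generation
import Cfsg.Agent.Lib.Helper22_Basic
import Cfsg.Agent.S3056
import Cfsg.Agent.S3059
import Cfsg.Agent.S0016
import Cfsg.Agent.S0218
import Cfsg.Agent.S4344

set_option autoImplicit false
set_option linter.unusedSectionVars false
open Cfsg
open Cfsg.Agent.Lib.Helper51_StrEmb

namespace Cfsg.Agent.S3057

variable {G : Type*} [Group G]

/-- `Q` has at most one subgroup of order `p`. -/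
def U (p : ℕ) (Q : Subgroup G) : Prop :=
  ∀ X Y : Subgroup G, X ≤ Q → Y ≤ Q → Nat.card X = p → Nat.card Y = p → X = Y

theorem U_iff (p : ℕ) (P : Subgroup G) :
    U p P ↔ ∀ H K : Subgroup ↥P, Nat.card H = p → Nat.card K = p → H = K := by
  constructor
  · intro hU H K hH hK
    have h1 := hU (H.map P.subtype) (K.map P.subtype) (Subgroup.map_subtype_le _)
      (Subgroup.map_subtype_le _)
      (by rw [Subgroup.card_map_of_injective P.subtype_injective, hH])
      (by rw [Subgroup.card_map_of_injective P.subtype_injective, hK])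
    exact Subgroup.map_injective P.subtype_injective h1
  · intro h X Y hX hY hXc hYc
    have h1 := h (X.subgroupOf P) (Y.subgroupOf P)
      (by rw [Nat.card_congr (Subgroup.subgroupOfEquivOfLe hX).toEquiv, hXc])
      (by rw [Nat.card_congr (Subgroup.subgroupOfEquivOfLe hY).toEquiv, hYc])
    rw [Subgroup.subgroupOf_inj, inf_of_le_left hX, inf_of_le_left hY] at h1
    exact h1

theorem U_of_isCyclic [Finite G] (p : ℕ) (P : Subgroup G) (h : IsCyclic ↥P) : U p P := by
  rw [U_iff]
  intro H K hH hK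
  exact Cfsg.Agent.S4344.cyclic_subgroup_unique H K (hH.trans hK.symm)

/-- A subgroup of prime order is generated by any of its nontrivial elements. -/
theorem eq_zpowers_of_card_prime {p : ℕ} [hp : Fact p.Prime] {X : Subgroup G}
    (hX : Nat.card X = p) {x : G} (hx : x ∈ X) (hx1 : x ≠ 1) :
    X = Subgroup.zpowers x ∧ orderOf x = p := by
  have : Finite X := Nat.finite_of_card_ne_zero (by rw [hX]; exact hp.out.ne_zero)
  have h1 : orderOf x ∣ p := by
    have := orderOf_dvd_natCard (⟨x, hx⟩ : X)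
    rw [hX, Subgroup.orderOf_mk] at this
    exact this
  have h2 : orderOf x = p := by
    rcases (Nat.dvd_prime hp.out).mp h1 with h | h
    · exact absurd (orderOf_eq_one_iff.mp h) hx1
    · exact h
  refine ⟨?_, h2⟩
  symm
  apply Subgroup.eq_of_le_of_card_ge (Subgroup.zpowers_le.mpr hx)
  rw [Nat.card_zpowers, h2, hX]

theorem exists_ne_one_of_card_prime {p : ℕ} [hp : Fact p.Prime] {X : Subgroup G}
    (hX : Nat.card X = p) : ∃ x ∈ X, x ≠ 1 := by
  by_contra h
  push Not at h
  have : X = ⊥ := (Subgroup.eq_bot_iff_forall X).mpr h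
  rw [this, Subgroup.card_bot] at hX
  exact hp.out.one_lt.ne hX

theorem U_of_quaternion [Finite G] (P : Subgroup G) (n : ℕ)
    (e : ↥P ≃* QuaternionGroup (2 ^ n)) : U 2 P := by
  rcases n with _ | k
  · have hc : IsCyclic (QuaternionGroup (2 ^ 0)) := QuaternionGroup.quaternionGroup_one_isCyclic
    have : IsCyclic ↥P := isCyclic_of_surjective e.symm e.symm.surjective
    exact U_of_isCyclic 2 P this
  · rw [U_iff]
    intro H K hH hK
    have hp2 : Fact (Nat.Prime 2) := ⟨Nat.prime_two⟩
    obtain ⟨h, hhH, hh1⟩ := exists_ne_one_of_card_prime hH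
    obtain ⟨k', hkK, hk1⟩ := exists_ne_one_of_card_prime hK
    obtain ⟨eH, oh⟩ := eq_zpowers_of_card_prime hH hhH hh1
    obtain ⟨eK, ok⟩ := eq_zpowers_of_card_prime hK hkK hk1
    have h1 := Cfsg.Agent.S0218.result k
    rw [Nat.card_eq_one_iff_unique] at h1
    have oh' : orderOf (e h) = 2 := by rw [MulEquiv.orderOf_eq]; exact oh
    have ok' : orderOf (e k') = 2 := by rw [MulEquiv.orderOf_eq]; exact ok
    have := h1.1.elim ⟨e h, oh'⟩ ⟨e k', ok'⟩
    have hhk : h = k' := e.injective (congrArg Subtype.val this)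
    rw [eH, eK, hhk]

section sylow

variable [Finite G] {p : ℕ} [hp : Fact p.Prime]

open Cfsg.Agent.S3056

theorem U_smul (g : G) (P : Sylow p G) (h : U p (P : Subgroup G)) :
    U p ((g • P : Sylow p G) : Subgroup G) := by
  intro X Y hX hY hXc hYc
  have key : ∀ W : Subgroup G, W ≤ ((g • P : Sylow p G) : Subgroup G) →
      cj g⁻¹ W ≤ (P : Subgroup G) := by
    intro W hW y hy
    rw [mem_cj, inv_inv] at hy
    have := hW hy
    rw [mem_smul] at this
    have e : g⁻¹ * (g * y * g⁻¹) * g = y := by group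
    rwa [e] at this
  have h1 := h (cj g⁻¹ X) (cj g⁻¹ Y) (key X hX) (key Y hY)
    (by rw [card_cj, hXc]) (by rw [card_cj, hYc])
  exact Subgroup.map_injective (MulAut.conj g⁻¹).injective h1

theorem U_all (P : Sylow p G) (h : U p (P : Subgroup G)) (Q : Sylow p G) :
    U p (Q : Subgroup G) := by
  obtain ⟨g, rfl⟩ := MulAction.exists_smul_eq G P Q
  exact U_smul g P h

/-- A nontrivial `p`-element has a power of order `p`. -/
theorem exists_zpowers_card_prime {x : G} (hx : IsPGroup p (Subgroup.zpowers x)) (hx1 : x ≠ 1) :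
    ∃ W : Subgroup G, W ≤ Subgroup.zpowers x ∧ Nat.card W = p := by
  have h1 : Subgroup.zpowers x ≠ ⊥ := by
    intro h; rw [Subgroup.zpowers_eq_bot] at h; exact hx1 h
  have h2 := dvd_card_of_pgroup_ne_bot hx h1
  obtain ⟨y, hy⟩ := exists_prime_orderOf_dvd_card' (G := ↥(Subgroup.zpowers x)) p h2
  refine ⟨Subgroup.zpowers (y : G), ?_, ?_⟩
  · rw [Subgroup.zpowers_le]; exact y.2
  · rw [Nat.card_zpowers, Subgroup.orderOf_coe]; exact hy

/-- If `P` has a unique subgroup of order `p` and `O_p(G) = 1`, the graph is disconnected. -/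
theorem not_connected_of_U (hdiv : p ∣ Nat.card G) (P : Sylow p G)
    (hcore : Cfsg.pCore p G = ⊥) (hU : U p (P : Subgroup G)) :
    ¬ Cfsg.IsSylowChainConnected p G := by
  intro hconn
  rw [connected_iff] at hconn
  have hP1 : (P : Subgroup G) ≠ ⊥ := P.ne_bot_of_dvd_card hdiv
  have hpP : p ∣ Nat.card (P : Subgroup G) := dvd_card_of_pgroup_ne_bot P.isPGroup' hP1
  obtain ⟨z, hz⟩ := exists_prime_orderOf_dvd_card' (G := ↥(P : Subgroup G)) p hpP
  set Z : Subgroup G := Subgroup.zpowers (z : G) with hZ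
  have hZP : Z ≤ (P : Subgroup G) := by rw [hZ, Subgroup.zpowers_le]; exact z.2
  have hZc : Nat.card Z = p := by rw [hZ, Nat.card_zpowers, Subgroup.orderOf_coe]; exact hz
  -- Z lies in every Sylow subgroup
  have hall : ∀ T : Sylow p G, R P T → Z ≤ (T : Subgroup G) := by
    intro T hT
    induction hT with
    | refl => exact hZP
    | @tail b c _ hbc ih =>
      obtain ⟨x, hxb, hxc, hx1⟩ := (inf_ne_bot_iff _ _).mp hbc.2
      have hxp : IsPGroup p (Subgroup.zpowers x) := b.isPGroup'.to_le (by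
        rw [Subgroup.zpowers_le]; exact hxb)
      obtain ⟨W, hWx, hWc⟩ := exists_zpowers_card_prime hxp hx1
      have hWb : W ≤ (b : Subgroup G) := hWx.trans (by rw [Subgroup.zpowers_le]; exact hxb)
      have hWc' : W ≤ (c : Subgroup G) := hWx.trans (by rw [Subgroup.zpowers_le]; exact hxc)
      have := U_all P hU b W Z hWb ih hWc hZc
      rw [← this]; exact hWc'
  have hZN : Z ≤ Subgroup.normalCore (P : Subgroup G) := by
    intro w hw g
    have h1 := hall (g⁻¹ • P) (hconn P (g⁻¹ • P)) hw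
    rw [mem_smul, inv_inv] at h1
    exact h1
  have hNcore : Subgroup.normalCore (P : Subgroup G) ≤ Cfsg.pCore p G := by
    apply le_sSup
    exact ⟨Subgroup.normalCore_normal _, P.isPGroup'.to_le (Subgroup.normalCore_le _)⟩
  rw [hcore] at hNcore
  have hZbot : Z = ⊥ := le_bot_iff.mp (hZN.trans hNcore)
  rw [hZbot, Subgroup.card_bot] at hZc
  exact hp.out.one_lt.ne hZc

end sylow

section se

variable [Finite G] {p : ℕ} [hp : Fact p.Prime]

open Cfsg.Agent.S3056

/-- A normal `p`-subgroup lies in every Sylow `p`-subgroup. -/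
theorem normal_pgroup_le_sylow (N : Subgroup G) [hN : N.Normal] (hNp : IsPGroup p N)
    (S : Sylow p G) : N ≤ (S : Subgroup G) := by
  obtain ⟨Q, hQ⟩ := hNp.exists_le_sylow
  obtain ⟨g, rfl⟩ := MulAction.exists_smul_eq G S Q
  intro n hn
  have h1 : g * n * g⁻¹ ∈ N := hN.conj_mem n hn g
  have h2 := hQ h1
  rw [mem_smul] at h2
  have e : g⁻¹ * (g * n * g⁻¹) * g = n := by group
  rwa [e] at h2

theorem pCore_eq_bot_of_SE {H : Subgroup G} (hHtop : H ≠ ⊤) (hse : SE p H)
    (S : Sylow p G) (hSH : (S : Subgroup G) ≤ H) : Cfsg.pCore p G = ⊥ := by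
  unfold Cfsg.pCore
  rw [sSup_eq_bot]
  rintro N ⟨hNn, hNp⟩
  by_contra hN1
  have hNS : N ≤ (S : Subgroup G) := normal_pgroup_le_sylow N hNp S
  have := normalizer_le hse hNp hN1 (hNS.trans hSH)
  rw [Subgroup.normalizer_eq_top_iff.mpr hNn] at this
  exact hHtop (top_le_iff.mp this)

/-- In a `p`-solvable group of order divisible by `p` there is a normal `p'`-subgroup `K`
inside a normal subgroup `L` of order divisible by `p` with `|L : K|` a power of `p`. -/
theorem exists_section (hdiv : p ∣ Nat.card G) (hsol : Cfsg.IsPSolvable p G) :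
    ∃ K L : Subgroup G, K.Normal ∧ L.Normal ∧ K ≤ L ∧ ¬ p ∣ Nat.card K ∧ p ∣ Nat.card L ∧
      ∃ m : ℕ, K.relIndex L = p ^ m := by
  obtain ⟨n, Hs, h0, hlast, hmono, hnorm, hfac⟩ := hsol
  have hex : ∃ i : Fin n, ¬ p ∣ Nat.card (Hs i.castSucc) ∧ p ∣ Nat.card (Hs i.succ) := by
    by_contra hcon
    push Not at hcon
    have hall : ∀ j : Fin (n + 1), ¬ p ∣ Nat.card (Hs j) := by
      intro j
      induction j using Fin.induction with
      | zero =>
        rw [h0, Subgroup.card_bot]
        exact hp.out.not_dvd_one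
      | succ i ih => exact fun h => (hcon i ih) h
    apply hall (Fin.last n)
    rw [hlast, Subgroup.card_top]
    exact hdiv
  obtain ⟨i, hi1, hi2⟩ := hex
  have hle : Hs i.castSucc ≤ Hs i.succ := hmono (Fin.castSucc_lt_succ).le
  refine ⟨Hs i.castSucc, Hs i.succ, hnorm _, hnorm _, hle, hi1, hi2, ?_⟩
  have hmul : Nat.card (Hs i.castSucc) * (Hs i.castSucc).relIndex (Hs i.succ) =
      Nat.card (Hs i.succ) := by
    have := Subgroup.relIndex_mul_relIndex (H := (⊥ : Subgroup G)) (K := Hs i.castSucc)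
      (L := Hs i.succ) bot_le hle
    simpa [Subgroup.relIndex_bot_left] using this
  rcases hfac i with h | h
  · exact h
  · exfalso
    rw [← hmul] at hi2
    rcases (Nat.Prime.dvd_mul hp.out).mp hi2 with h1 | h1
    · exact hi1 h1
    · have := Nat.Coprime.eq_one_of_dvd h.symm h1
      exact hp.out.one_lt.ne' this

/-- `p'`-elements of `L` lie in `K` when `|L : K|` is a power of `p`. -/
theorem mem_of_coprime_order {K L : Subgroup G} [hK : K.Normal] (hKL : K ≤ L)
    (hKp : ¬ p ∣ Nat.card K) {m : ℕ} (hm : K.relIndex L = p ^ m) {g : G} (hg : g ∈ L)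
    (hgo : (orderOf g).Coprime p) : g ∈ K := by
  set C := Subgroup.zpowers g with hC
  set J := K ⊔ C with hJ
  have hCL : C ≤ L := by rw [hC, Subgroup.zpowers_le]; exact hg
  have hJL : J ≤ L := sup_le hKL hCL
  have hCn : C ≤ Subgroup.normalizer (K : Set G) := by
    rw [Subgroup.normalizer_eq_top_iff.mpr hK]; exact le_top
  have h1 : Nat.card J ∣ Nat.card K * Nat.card C :=
    Cfsg.Agent.Lib.Helper22_Basic.card_sup_dvd_of_le_normalizer K C hCn
  have hcopK : (Nat.card K).Coprime p :=
    ((Nat.Prime.coprime_iff_not_dvd hp.out).mpr hKp).symm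
  have hcopC : (Nat.card C).Coprime p := by rw [hC, Nat.card_zpowers]; exact hgo
  have hcopJ : (Nat.card J).Coprime p :=
    Nat.Coprime.coprime_dvd_left h1 (Nat.Coprime.mul_left hcopK hcopC)
  have h2 : K.relIndex J ∣ p ^ m := by
    rw [← hm, ← Subgroup.relIndex_mul_relIndex (H := K) (K := J) (L := L) le_sup_left hJL]
    exact dvd_mul_right _ _
  have h3 : K.relIndex J ∣ Nat.card J := Subgroup.relIndex_dvd_card _ _
  have h4 : (K.relIndex J).Coprime (p ^ m) :=
    Nat.Coprime.pow_right m (Nat.Coprime.coprime_dvd_left h3 hcopJ)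
  have h5 : K.relIndex J = 1 := Nat.Coprime.eq_one_of_dvd h4 h2
  have h6 : J ≤ K := Subgroup.relIndex_eq_one.mp h5
  exact h6 ((le_sup_right : C ≤ J) (Subgroup.mem_zpowers g))

end se

section main

variable [Finite G] {p : ℕ} [hp : Fact p.Prime]

open Cfsg.Agent.S3056

theorem U_of_SE (hdiv : p ∣ Nat.card G) (hsol : Cfsg.IsPSolvable p G) {H : Subgroup G}
    (hHtop : H ≠ ⊤) (hpH : p ∣ Nat.card H) (hse : SE p H)
    (S : Sylow p G) (hSH : (S : Subgroup G) ≤ H) : U p (S : Subgroup G) := by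
  by_contra hnU
  unfold U at hnU
  push Not at hnU
  obtain ⟨X, Y, hXS, hYS, hXc, hYc, hXY⟩ := hnU
  -- a central element of order p
  have hS1 : (S : Subgroup G) ≠ ⊥ := S.ne_bot_of_dvd_card hdiv
  have hSnt : Nontrivial ↥(S : Subgroup G) := (Subgroup.nontrivial_iff_ne_bot _).mpr hS1
  have hcnt : Nontrivial (Subgroup.center ↥(S : Subgroup G)) := S.isPGroup'.center_nontrivial
  have hcp : IsPGroup p (Subgroup.center ↥(S : Subgroup G)) := S.isPGroup'.to_subgroup _
  have hpc : p ∣ Nat.card (Subgroup.center ↥(S : Subgroup G)) := by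
    obtain ⟨k, hk⟩ := IsPGroup.iff_card.mp hcp
    rw [hk]
    rcases k with _ | k
    · exfalso
      rw [pow_zero] at hk
      have := (Nat.card_eq_one_iff_unique.mp hk).1
      exact not_subsingleton _ this
    · exact dvd_pow_self p (Nat.succ_ne_zero k)
  obtain ⟨z, hz⟩ := exists_prime_orderOf_dvd_card' (G := ↥(Subgroup.center ↥(S : Subgroup G))) p hpc
  set b : G := ((z : ↥(S : Subgroup G)) : G) with hb
  have hbS : b ∈ (S : Subgroup G) := (z : ↥(S : Subgroup G)).2
  have hbo : orderOf b = p := by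
    rw [hb, Subgroup.orderOf_coe, Subgroup.orderOf_coe]; exact hz
  have hbcomm : ∀ s ∈ (S : Subgroup G), s * b = b * s := by
    intro s hs
    have := Subgroup.mem_center_iff.mp z.2 ⟨s, hs⟩
    exact congrArg Subtype.val this
  have hb1 : b ≠ 1 := by
    intro h; rw [h, orderOf_one] at hbo; exact hp.out.one_lt.ne hbo
  -- an element a of order p outside ⟨b⟩
  have hexa : ∃ W : Subgroup G, W ≤ (S : Subgroup G) ∧ Nat.card W = p ∧ W ≠ Subgroup.zpowers b := by
    by_cases hXb : X = Subgroup.zpowers b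
    · exact ⟨Y, hYS, hYc, fun h => hXY (hXb.trans h.symm)⟩
    · exact ⟨X, hXS, hXc, hXb⟩
  obtain ⟨W, hWS, hWc, hWb⟩ := hexa
  obtain ⟨a, haW, ha1⟩ := exists_ne_one_of_card_prime hWc
  obtain ⟨hWa, hao⟩ := eq_zpowers_of_card_prime hWc haW ha1
  have haS : a ∈ (S : Subgroup G) := hWS haW
  have hanb : a ∉ Subgroup.zpowers b := by
    intro h
    apply hWb
    rw [hWa]
    apply Subgroup.eq_of_le_of_card_ge (Subgroup.zpowers_le.mpr h)
    rw [Nat.card_zpowers, Nat.card_zpowers, hao, hbo]
  have hab : a * b = b * a := hbcomm a haS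
  have hap : a ^ p = 1 := by rw [← hao]; exact pow_orderOf_eq_one a
  have hbp : b ^ p = 1 := by rw [← hbo]; exact pow_orderOf_eq_one b
  -- centralizers of nontrivial elements of S lie in H
  have hcent : ∀ w : G, w ∈ (S : Subgroup G) → w ≠ 1 →
      Subgroup.centralizer ({w} : Set G) ≤ H := by
    intro w hwS hw1
    have hZ : IsPGroup p (Subgroup.zpowers w) := S.isPGroup'.to_le (by
      rw [Subgroup.zpowers_le]; exact hwS)
    have hZ1 : Subgroup.zpowers w ≠ ⊥ := by
      intro h; rw [Subgroup.zpowers_eq_bot] at h; exact hw1 h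
    have hZH : Subgroup.zpowers w ≤ H := by
      rw [Subgroup.zpowers_le]; exact hSH hwS
    refine le_trans ?_ (normalizer_le hse hZ hZ1 hZH)
    have : Subgroup.centralizer ({w} : Set G) =
        Subgroup.centralizer ((Subgroup.zpowers w : Subgroup G) : Set G) := by
      rw [Subgroup.zpowers_eq_closure, Subgroup.centralizer_closure]
    rw [this]
    exact Subgroup.centralizer_le_normalizer _
  -- the section K ≤ L
  obtain ⟨K, L, hKn, hLn, hKL, hKp, hLp, m, hm⟩ := exists_section hdiv hsol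
  have hnormK : ∀ g : G, g ∈ Subgroup.normalizer (K : Set G) := by
    intro g
    rw [Subgroup.normalizer_eq_top_iff.mpr hKn]
    exact Subgroup.mem_top g
  have hKH : K ≤ H := by
    apply Cfsg.Agent.Lib.Helper48_Generation.le_of_centralizers_le (p := p) K hKp a b
      (hnormK a) (hnormK b) hap hbp hab H
    · exact inf_le_right.trans (hcent b hbS hb1)
    · intro i
      refine inf_le_right.trans (hcent (a * b ^ i) ?_ ?_)
      · exact Subgroup.mul_mem _ haS (Subgroup.pow_mem _ hbS i)
      · intro h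
        apply hanb
        have haeq : a = (b ^ i)⁻¹ := eq_inv_of_mul_eq_one_left h
        rw [haeq]
        exact Subgroup.inv_mem _ (Subgroup.pow_mem _ (Subgroup.mem_zpowers b) i)
  have h59 := Cfsg.Agent.S3059.result p H hHtop hpH hse L hLp
  apply hHtop
  rw [eq_top_iff, ← h59]
  apply sup_le le_rfl
  rw [Subgroup.closure_le]
  intro g hg
  exact hKH (mem_of_coprime_order hKL hKp hm hg.1 hg.2)

end main

theorem result {G : Type*} [Group G] [Finite G]
    (p : ℕ) [Fact p.Prime] (hdiv : p ∣ Nat.card G) (hsol : Cfsg.IsPSolvable p G) (P : Sylow p G) :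
    ¬ Cfsg.IsSylowChainConnected p G ↔
      Cfsg.pCore p G = ⊥ ∧ (IsCyclic ↥P ∨ (p = 2 ∧ ∃ n : ℕ, Nonempty (↥P ≃* QuaternionGroup (2 ^ n)))) := by
  constructor
  · intro hnc
    obtain ⟨H, hHtop, hpH, hse⟩ := (Cfsg.Agent.S3056.result p).mp hnc
    have hse' : SE p H := hse
    obtain ⟨S, hSH⟩ := exists_sylow_le hse' hpH
    refine ⟨pCore_eq_bot_of_SE hHtop hse' S hSH, ?_⟩
    have hUS : U p (S : Subgroup G) := U_of_SE hdiv hsol hHtop hpH hse' S hSH
    have hUP : U p (P : Subgroup G) := U_all S hUS P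
    exact Cfsg.Agent.S0016.result p P.isPGroup' ((U_iff p (P : Subgroup G)).mp hUP)
  · rintro ⟨hcore, hP⟩
    apply not_connected_of_U hdiv P hcore
    rcases hP with hc | ⟨rfl, n, ⟨e⟩⟩
    · exact U_of_isCyclic p (P : Subgroup G) hc
    · exact U_of_quaternion (P : Subgroup G) n e

end Cfsg.Agent.S3057
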