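import Cfsg.Statements.S3060
import Cfsg.Agent.Lib.Helper51_DStar
import Cfsg.Agent.Lib.Helper11_ZJ
-- import your own Cfsg.Agent.* helpers here

set_option autoImplicit false
open Cfsg

namespace Cfsg.Agent.S3060

open Cfsg.Agent.Lib.Helper51_DStar Cfsg.Agent.Lib.Helper11_ZJ Cfsg.Agent.Lib.Helper34_Sylow
open scoped commutatorElement

/-- class at most two transfers along injective homomorphisms -/
theorem cl2_map_iff {H K : Type*} [Group H] [Group K] (f : H →* K)
    (hf : Function.Injective f) (A : Subgroup H) : cl2 (A.map f) ↔ cl2 A := by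
  unfold cl2
  rw [← Subgroup.map_commutator, ← Subgroup.map_commutator,
    Subgroup.map_eq_bot_iff_of_injective _ hf]

variable {G : Type*} [Group G]

/-- a member of the family of the group `↥H` is a member of the family relative to `H`. -/
theorem PF_of_mem_family (H : Subgroup G) (A' : Subgroup ↥H) (hA' : A' ∈ Cfsg.dStarFamily ↥H) :
    PF H (A'.map H.subtype) := by
  obtain ⟨hc, hfam⟩ := hA'
  refine ⟨Subgroup.map_subtype_le A', ?_, ?_⟩
  · have : IsMulCommutative (A'.map H.subtype) := Subgroup.map_isMulCommutative A' H.subtype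
    exact Subgroup.le_centralizer_iff_isMulCommutative.mpr this
  · intro x hx hcl
    have e : A'.map H.subtype ⊔ Subgroup.zpowers x =
        (A' ⊔ Subgroup.zpowers (⟨x, hx⟩ : ↥H)).map H.subtype := by
      rw [Subgroup.map_sup, MonoidHom.map_zpowers]
      rfl
    rw [e, cl2_map_iff _ H.subtype_injective] at hcl
    rintro _ ⟨a, ha, rfl⟩
    have := hfam ⟨x, hx⟩ hcl a ha
    exact congrArg Subtype.val this

/-- a member of the family relative to `H` gives a member of the family of the group `↥H`. -/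
theorem mem_family_of_PF {H A : Subgroup G} (h : PF H A) :
    A.subgroupOf H ∈ Cfsg.dStarFamily ↥H := by
  obtain ⟨hAH, hc, hfam⟩ := h
  have hmap : (A.subgroupOf H).map H.subtype = A := Subgroup.map_subgroupOf_eq_of_le hAH
  constructor
  · have : IsMulCommutative A := Subgroup.le_centralizer_iff_isMulCommutative.mp hc
    exact Subgroup.subgroupOf_isMulCommutative H A
  · intro x hcl a ha
    have hcl' : cl2 (A.subgroupOf H ⊔ Subgroup.zpowers x) := hcl
    rw [← cl2_map_iff _ H.subtype_injective, Subgroup.map_sup, MonoidHom.map_zpowers, hmap] at hcl'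
    exact Subtype.ext (hfam x x.2 hcl' a ha)

/-- `D*(H)` is the largest member of the family relative to `H`. -/
theorem le_dStarOf_of_PF {H A : Subgroup G} (h : PF H A) : A ≤ Cfsg.dStarOf H := by
  have h1 : A.subgroupOf H ≤ Cfsg.dStar ↥H := le_sSup (mem_family_of_PF h)
  have h2 := Subgroup.map_mono (f := H.subtype) h1
  rwa [Subgroup.map_subgroupOf_eq_of_le h.1] at h2

theorem PF_dStarOf [Finite G] {p : ℕ} [Fact p.Prime] {H : Subgroup G} (hH : IsPGroup p H) :
    PF H (Cfsg.dStarOf H) :=
  PF_of_mem_family H _ (dStar_mem hH)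

theorem map_conj_eq_of_normal (K : Subgroup G) [hK : K.Normal] (g : G) :
    K.map (MulAut.conj g).toMonoidHom = K := by
  have hg : g ∈ Subgroup.normalizer (K : Set G) := by
    rw [Subgroup.normalizer_eq_top K]
    exact Subgroup.mem_top g
  exact cj_eq_self_of_mem_normalizer hg

/-- The D*-Theorem. For a finite p-group S let D*(S) be the subgroup generated by the abelian subgroups A of S such that every x ∈ S with ⟨A, x⟩ of nilpotency class at most two centralizes A. Let p be an odd prime and H a finite p-stable group with Sylow p-subgroup S. Here H is p-stable in the following sense: the largest normal p-subgroup O_p(H) contains its centralizer in H, and for every normal p-subgroup P of H, every element acting quadratically on P has image in O_p(H/C_H(P)). Then D*(S) is a normal subgroup of H. -/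
theorem result {G : Type*} [Group G] [Finite G] {p : ℕ} [Fact p.Prime] (hp : p ≠ 2)
    (hc : Subgroup.centralizer (Cfsg.pCore p G : Set G) ≤ Cfsg.pCore p G)
    (hst : ∀ (P : Subgroup G) [P.Normal], IsPGroup p P → Cfsg.IsPStableOn p P) (S : Sylow p G) :
    (Cfsg.dStarOf (S : Subgroup G)).Normal := by
  have hPp : IsPGroup p (S : Subgroup G) := S.isPGroup'
  have hD : PF (S : Subgroup G) (Cfsg.dStarOf (S : Subgroup G)) := PF_dStarOf hPp
  have hstab : ∀ B : Subgroup G, B.Normal → IsPGroup p B → StableOn p (S : Subgroup G) B :=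
    fun B hBn hBp => stableOn_of_isPStableOn _ B (hst B hBp)
  have hQn : (Cfsg.pCore p G).Normal := Cfsg.Agent.Lib.Helper1_Cores.pCore_normal p
  have hQp : IsPGroup p (Cfsg.pCore p G) := Cfsg.Agent.Lib.Helper1_Cores.pCore_isPGroup p
  have hQS : Cfsg.pCore p G ≤ (S : Subgroup G) := Cfsg.Agent.Lib.Helper1_Cores.pCore_le_sylow p S
  have hDc : ∀ x ∈ Cfsg.dStarOf (S : Subgroup G), ∀ y ∈ Cfsg.dStarOf (S : Subgroup G),
      x * y = y * x := fun x hx y hy => (Subgroup.mem_centralizer_iff.mp (hD.2.1 hx) y hy).symm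
  -- `D` is normalized by `S`
  have hSD : ∀ s ∈ (S : Subgroup G), ∀ d ∈ Cfsg.dStarOf (S : Subgroup G),
      s * d * s⁻¹ ∈ Cfsg.dStarOf (S : Subgroup G) := by
    intro s hs d hd
    have h1 := PF_map (MulAut.conj s) hD
    have e : (S : Subgroup G).map (MulAut.conj s).toMonoidHom = (S : Subgroup G) :=
      cj_eq_self_of_mem_normalizer (Subgroup.le_normalizer hs)
    rw [e] at h1
    exact le_dStarOf_of_PF h1 ⟨d, hd, by simp [MulAut.conj_apply]⟩
  -- `D ≤ O_p(G)`
  have hDQ : Cfsg.dStarOf (S : Subgroup G) ≤ Cfsg.pCore p G := by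
    obtain ⟨L, hLn, hCL, ⟨k, hk⟩, hquad⟩ := hstab (Cfsg.pCore p G) hQn hQp
    have hLp : IsPGroup p L := by
      obtain ⟨j, hj⟩ := IsPGroup.iff_card.mp (hQp.to_le hc)
      apply IsPGroup.of_card (n := j + k)
      rw [← Cfsg.Agent.S0608.card_mul_relIndex' hCL, hj, hk, pow_add]
    have hLQ : L ≤ Cfsg.pCore p G := Cfsg.Agent.Lib.Helper1_Cores.le_pCore hLn hLp
    intro z hz
    apply hLQ
    apply hquad z (hD.1 hz)
    have hzZ : Subgroup.zpowers z ≤ Cfsg.dStarOf (S : Subgroup G) := by
      rw [Subgroup.zpowers_le]; exact hz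
    have h1 : ⁅Cfsg.pCore p G, Subgroup.zpowers z⁆ ≤ Cfsg.dStarOf (S : Subgroup G) := by
      rw [Subgroup.commutator_le]
      intro q hq x hx
      have h2 := hSD q (hQS hq) x (hzZ hx)
      rw [commutatorElement_def]
      exact Subgroup.mul_mem _ h2 (Subgroup.inv_mem _ (hzZ hx))
    rw [eq_bot_iff]
    refine (Subgroup.commutator_mono h1 hzZ).trans ?_
    rw [Subgroup.commutator_le]
    intro x hx y hy
    rw [Subgroup.mem_bot, commutatorElement_def, hDc x hx y hy]
    group
  -- all conjugates of `D` are members of the family of `O_p(G)`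
  have hconj : ∀ g : G, PF (Cfsg.pCore p G)
      ((Cfsg.dStarOf (S : Subgroup G)).map (MulAut.conj g).toMonoidHom) := by
    intro g
    have h1 := PF_map (MulAut.conj g) (PF_mono hD hQS hDQ)
    rwa [map_conj_eq_of_normal (Cfsg.pCore p G) g] at h1
  -- the normal closure `B` of `D`
  set B : Subgroup G := ⨆ g : G, (Cfsg.dStarOf (S : Subgroup G)).map (MulAut.conj g).toMonoidHom
    with hB
  have hBA : B ≤ Cfsg.dStarOf (Cfsg.pCore p G) := iSup_le fun g => le_dStarOf_of_PF (hconj g)
  have hA : PF (Cfsg.pCore p G) (Cfsg.dStarOf (Cfsg.pCore p G)) := PF_dStarOf hQp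
  have hBQ : B ≤ Cfsg.pCore p G := hBA.trans hA.1
  have hBc : B ≤ Subgroup.centralizer (B : Set G) :=
    hBA.trans (hA.2.1.trans (Subgroup.centralizer_le hBA))
  have hDB : Cfsg.dStarOf (S : Subgroup G) ≤ B := by
    intro d hd
    have : (Cfsg.dStarOf (S : Subgroup G)).map (MulAut.conj (1 : G)).toMonoidHom ≤ B :=
      le_iSup (fun g : G => (Cfsg.dStarOf (S : Subgroup G)).map (MulAut.conj g).toMonoidHom) 1
    exact this ⟨d, hd, by simp⟩
  have hBmap : ∀ g : G, B.map (MulAut.conj g).toMonoidHom ≤ B := by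
    intro g
    rw [hB, Subgroup.map_iSup]
    apply iSup_le
    intro h
    refine le_trans ?_ (le_iSup
      (fun g : G => (Cfsg.dStarOf (S : Subgroup G)).map (MulAut.conj g).toMonoidHom) (g * h))
    rintro _ ⟨_, ⟨a, ha, rfl⟩, rfl⟩
    exact ⟨a, ha, by simp [mul_assoc]⟩
  have hBn : B.Normal := by
    apply normal_of_conj_mem
    intro g x hx
    exact hBmap g ⟨x, hx, by simp [MulAut.conj_apply]⟩
  have hBp : IsPGroup p B := hQp.to_le hBQ
  -- `B` is a member of the family of `S`
  have hBPF : PF (S : Subgroup G) B := by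
    refine ⟨hBQ.trans hQS, hBc, ?_⟩
    intro x hx hcl
    obtain ⟨L, hLn, hCL, hidx, hquad⟩ := hstab B hBn hBp
    have hxL : x ∈ L := by
      apply hquad x hx
      rw [eq_bot_iff]
      unfold cl2 at hcl
      rw [← hcl]
      exact Subgroup.commutator_mono (Subgroup.commutator_mono le_sup_left le_sup_right)
        le_sup_right
    have hcent : B ≤ Subgroup.centralizer ({x} : Set G) := by
      rw [hB]
      apply iSup_le
      intro g
      have : (Subgroup.centralizer (B : Set G)).Normal := Subgroup.normal_centralizer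
      obtain ⟨c, hc', n, hn, rfl⟩ :=
        exists_mul_normalizer S (Subgroup.centralizer (B : Set G)) L hCL hidx g
      rintro _ ⟨d, hd, rfl⟩
      rw [Subgroup.mem_centralizer_singleton_iff]
      have hndB : n * d * n⁻¹ ∈ B := hBn.conj_mem d (hDB hd) n
      have e1 : (MulAut.conj (c * n)).toMonoidHom d = n * d * n⁻¹ := by
        have h1 : (MulAut.conj (c * n)).toMonoidHom d = c * (n * d * n⁻¹) * c⁻¹ := by
          simp [MulAut.conj_apply, mul_assoc]
        rw [h1, ← Subgroup.mem_centralizer_iff.mp hc' _ hndB, mul_inv_cancel_right]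
      rw [e1]
      -- `y = n⁻¹ x n`
      have hy : n⁻¹ * x * n⁻¹⁻¹ ∈ ((S : Subgroup G) ⊓ L : Subgroup G) :=
        (Subgroup.mem_normalizer_iff.mp (Subgroup.inv_mem _ hn) x).mp ⟨hx, hxL⟩
      have hcl' : cl2 (Cfsg.dStarOf (S : Subgroup G) ⊔ Subgroup.zpowers (n⁻¹ * x * n⁻¹⁻¹)) := by
        have h2 : Cfsg.dStarOf (S : Subgroup G) ⊔ Subgroup.zpowers (n⁻¹ * x * n⁻¹⁻¹) ≤
            (B ⊔ Subgroup.zpowers x).map (MulAut.conj n⁻¹).toMonoidHom := by
          rw [Subgroup.map_sup, map_conj_eq_of_normal B, MonoidHom.map_zpowers]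
          apply sup_le_sup hDB
          apply le_of_eq
          rfl
        exact cl2_mono h2 ((cl2_map_iff _ (MulAut.conj n⁻¹).injective _).mpr hcl)
      have h3 := hD.2.2 _ hy.1 hcl' d hd
      -- `d * (n⁻¹ x n) = (n⁻¹ x n) * d`
      have h4 : n * d * n⁻¹ * x = n * (d * (n⁻¹ * x * n⁻¹⁻¹)) * n⁻¹ := by group
      have h5 : x * (n * d * n⁻¹) = n * ((n⁻¹ * x * n⁻¹⁻¹) * d) * n⁻¹ := by group
      rw [h4, h5, h3]
    intro b hb
    have := hcent hb
    rw [Subgroup.mem_centralizer_singleton_iff] at this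
    exact this
  have hBD : B ≤ Cfsg.dStarOf (S : Subgroup G) := le_dStarOf_of_PF hBPF
  have : Cfsg.dStarOf (S : Subgroup G) = B := le_antisymm hDB hBD
  rw [this]
  exact hBn

end Cfsg.Agent.S3060
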