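import Cfsg.Statements.S3062
import Cfsg.Agent.Lib.Helper51_DStar
import Cfsg.Agent.S0649
import Cfsg.Agent.S0650

set_option autoImplicit false
set_option linter.unusedSectionVars false
open Cfsg
open scoped commutatorElement
open Cfsg.Agent.Lib.Helper51_DStar

namespace Cfsg.Agent.S3062

variable {S : Type*} [Group S] [Finite S] {p : ℕ} [Fact p.Prime]

/-- The centre belongs to the family. -/
theorem center_mem_family : Subgroup.center S ∈ Cfsg.dStarFamily S := by
  rw [mem_dStarFamily_iff]
  refine ⟨le_top, Subgroup.center_le_centralizer _, ?_⟩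
  intro x _ _ a ha
  exact ((Subgroup.mem_center_iff.mp ha) x).symm

/-- `D*(S)` is a normal subgroup. -/
theorem dStar_normal : (Cfsg.dStar S).Normal := by
  constructor
  intro n hn g
  -- the family is invariant under conjugation
  have hinv : ∀ A ∈ Cfsg.dStarFamily S, A.map (MulAut.conj g).toMonoidHom ∈ Cfsg.dStarFamily S := by
    intro A hA
    rw [mem_dStarFamily_iff] at hA ⊢
    have h := PF_map (MulAut.conj g) hA
    refine ⟨le_top, h.2.1, ?_⟩
    intro x _ hcl a ha
    have hx : x ∈ (⊤ : Subgroup S).map (MulAut.conj g).toMonoidHom := by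
      refine ⟨g⁻¹ * x * g, Subgroup.mem_top _, ?_⟩
      simp [mul_assoc]
    exact h.2.2 x hx hcl a ha
  have hle : (Cfsg.dStar S).map (MulAut.conj g).toMonoidHom ≤ Cfsg.dStar S := by
    rw [Subgroup.map_le_iff_le_comap]
    unfold Cfsg.dStar
    apply sSup_le
    intro A hA
    rw [← Subgroup.map_le_iff_le_comap]
    exact le_sSup (hinv A hA)
  exact hle ⟨n, hn, by simp⟩

/-- A normal abelian subgroup maximal among such is self-centralizing. -/
theorem centralizer_le_of_maximal (hS : IsPGroup p S) (A : Subgroup S) (hAn : A.Normal)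
    (hAc : IsMulCommutative A)
    (hmax : ∀ B : Subgroup S, B.Normal → IsMulCommutative B → A ≤ B → B = A) :
    Subgroup.centralizer (A : Set S) ≤ A := by
  by_contra hnot
  have hnil : Group.IsNilpotent S := hS.isNilpotent
  obtain ⟨n, hn⟩ := hnil.nilpotent'
  set C := Subgroup.centralizer (A : Set S) with hC
  have hCn : ∀ g c : S, c ∈ C → g * c * g⁻¹ ∈ C := by
    intro g c hc
    rw [hC, Subgroup.mem_centralizer_iff] at hc ⊢
    intro a ha
    have ha' : g⁻¹ * a * g ∈ A := by
      have := hAn.conj_mem a ha g⁻¹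
      simpa using this
    have := hc _ ha'
    calc a * (g * c * g⁻¹) = g * ((g⁻¹ * a * g) * c) * g⁻¹ := by group
      _ = g * (c * (g⁻¹ * a * g)) * g⁻¹ := by rw [this]
      _ = g * c * g⁻¹ * a := by group
  have hex : ∃ i, ¬ (C ⊓ Subgroup.upperCentralSeries S i ≤ A) := by
    refine ⟨n, ?_⟩
    rw [hn, inf_top_eq]
    exact hnot
  classical
  have hspec := Nat.find_spec hex
  have hmin : ∀ m, m < Nat.find hex → C ⊓ Subgroup.upperCentralSeries S m ≤ A := by
    intro m hm
    have := Nat.find_min hex hm
    exact not_not.mp this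
  obtain ⟨b, hb, hbA⟩ := SetLike.not_le_iff_exists.mp hspec
  -- all commutators of b lie in A
  have hcomm : ∀ s : S, ⁅b, s⁆ ∈ A := by
    intro s
    rcases Nat.eq_zero_or_pos (Nat.find hex) with h0 | hpos
    · exfalso
      rw [h0, Subgroup.upperCentralSeries_zero] at hb
      have : b = 1 := by simpa using hb.2
      exact hbA (this ▸ A.one_mem)
    · obtain ⟨m, hm⟩ : ∃ m, Nat.find hex = m + 1 := ⟨Nat.find hex - 1, by omega⟩
      rw [hm] at hb
      apply hmin m (by omega)
      refine ⟨?_, ?_⟩
      · have : ⁅b, s⁆ = b * (s * b⁻¹ * s⁻¹) := by rw [commutatorElement_def]; group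
        rw [this]
        exact C.mul_mem hb.1 (hCn s b⁻¹ (C.inv_mem hb.1))
      · exact (Subgroup.mem_upperCentralSeries_succ_iff.mp hb.2) s
  -- B' = A ⊔ ⟨b⟩ is a normal abelian subgroup
  set B' := A ⊔ Subgroup.zpowers b with hB'
  have hbB' : b ∈ B' := (le_sup_right : Subgroup.zpowers b ≤ B') (Subgroup.mem_zpowers b)
  have hB'n : B'.Normal := by
    constructor
    intro x hx g
    have hle : B' ≤ (B'.comap (MulAut.conj g).toMonoidHom) := by
      rw [hB']
      apply sup_le
      · intro a ha
        exact (le_sup_left : A ≤ B') (hAn.conj_mem a ha g)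
      · rw [Subgroup.zpowers_le]
        show g * b * g⁻¹ ∈ B'
        have : g * b * g⁻¹ = (⁅b, g⁆)⁻¹ * b := by rw [commutatorElement_def]; group
        rw [this]
        exact B'.mul_mem (B'.inv_mem ((le_sup_left : A ≤ B') (hcomm g))) hbB'
    exact hle hx
  have hB'c : IsMulCommutative B' := by
    rw [← Subgroup.le_centralizer_iff_isMulCommutative]
    have hAcz : A ≤ Subgroup.centralizer (A : Set S) :=
      Subgroup.le_centralizer_iff_isMulCommutative.mpr hAc
    have hbcent : Subgroup.zpowers b ≤ Subgroup.centralizer (A : Set S) := by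
      rw [Subgroup.zpowers_le]; exact hb.1
    have h1 : A ≤ Subgroup.centralizer (B' : Set S) := by
      rw [Subgroup.le_centralizer_iff, hB']
      exact sup_le hAcz hbcent
    have h2 : Subgroup.zpowers b ≤ Subgroup.centralizer (B' : Set S) := by
      rw [Subgroup.le_centralizer_iff, hB']
      apply sup_le
      · rw [Subgroup.le_centralizer_iff]; exact hbcent
      · rw [Subgroup.zpowers_le, Subgroup.zpowers_eq_closure, Subgroup.centralizer_closure,
          Subgroup.mem_centralizer_singleton_iff]
    rw [hB']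
    exact sup_le h1 h2
  have := hmax B' hB'n hB'c le_sup_left
  exact hbA (this ▸ hbB')

/-- `D*(S)` centralizes every abelian subgroup of largest order. -/
theorem dStar_centralizes_max (hS : IsPGroup p S) :
    ∀ A ∈ Cfsg.maxAbelianSubgroups S, Cfsg.dStar S ≤ Subgroup.centralizer (A : Set S) := by
  classical
  set D := Cfsg.dStar S with hD
  have hDmem : D ∈ Cfsg.dStarFamily S := dStar_mem hS
  have hDn : D.Normal := dStar_normal
  have hDc : IsMulCommutative D := hDmem.1
  have hnil : Group.IsNilpotent S := hS.isNilpotent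
  by_contra hcon
  push Not at hcon
  -- pick a counterexample with |A ⊓ D| maximal
  have hne : Nonempty {A : Subgroup S // A ∈ Cfsg.maxAbelianSubgroups S ∧
      ¬ D ≤ Subgroup.centralizer (A : Set S)} := by
    obtain ⟨A, hA, hAD⟩ := hcon
    exact ⟨⟨A, hA, hAD⟩⟩
  obtain ⟨⟨A, hA, hAD⟩, hAmax⟩ := Finite.exists_max
    (fun A : {A : Subgroup S // A ∈ Cfsg.maxAbelianSubgroups S ∧
      ¬ D ≤ Subgroup.centralizer (A : Set S)} => Nat.card ↥(A.1 ⊓ D))
  have hAc : A ≤ Subgroup.centralizer (A : Set S) :=
    Subgroup.le_centralizer_iff_isMulCommutative.mpr hA.1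
  -- D does not normalize A
  have hDN : ¬ D ≤ Subgroup.normalizer (A : Set S) := by
    intro hDN
    apply hAD
    intro d hd
    rw [Subgroup.mem_centralizer_iff]
    intro a ha
    exact (family_centralizes hS hDmem hAc hDN d hd a ha).symm
  obtain ⟨b, hbD, hbNN, hbN⟩ :=
    Cfsg.Agent.S0649.exists_mem_normalizer_not_mem D (Subgroup.normalizer (A : Set S)) hDN
  have hyp : Cfsg.Agent.S0650.Hyp A D b :=
    { hBn := hDn
      hA := hA.1
      hBA := by
        have : ⁅D, D⁆ = ⊥ := Subgroup.commutator_self_eq_bot_iff.mpr hDc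
        rw [this]; exact bot_le
      hb := hbD
      hbN := hbNN
      hbA := hbN }
  have hB2 : p = 2 → IsMulCommutative D := fun _ => hDc
  set Astar := Cfsg.Agent.S0650.Astar A b with hAstar
  have hcard : Nat.card Astar = Nat.card A := hyp.card_Astar hS hB2
  have hcomm : IsMulCommutative Astar := hyp.isMulCommutative_Astar hS hB2
  have hlt : A ⊓ D < Astar ⊓ D := hyp.inf_B_lt
  have hleN : Astar ≤ Subgroup.normalizer (A : Set S) := hyp.Astar_le_N
  have hAstarMax : Astar ∈ Cfsg.maxAbelianSubgroups S := by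
    refine ⟨hcomm, fun B hB => ?_⟩
    rw [hcard]; exact hA.2 B hB
  -- by maximality, D centralizes A*
  have hDAstar : D ≤ Subgroup.centralizer (Astar : Set S) := by
    by_contra hnot
    have := hAmax ⟨Astar, hAstarMax, hnot⟩
    have hlt' : Nat.card ↥(A ⊓ D) < Nat.card ↥(Astar ⊓ D) := by
      apply lt_of_le_of_ne (Subgroup.card_le_of_le hlt.le)
      intro h
      exact hlt.ne (Subgroup.eq_of_le_of_card_ge hlt.le h.ge)
    exact absurd this (not_le.mpr hlt')
  -- so D ⊔ A* is abelian, hence D ≤ A*
  have hsupc : IsMulCommutative ↥(D ⊔ Astar) := by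
    rw [← Subgroup.le_centralizer_iff_isMulCommutative]
    have hDcz : D ≤ Subgroup.centralizer (D : Set S) :=
      Subgroup.le_centralizer_iff_isMulCommutative.mpr hDc
    have hAscz : Astar ≤ Subgroup.centralizer (Astar : Set S) :=
      Subgroup.le_centralizer_iff_isMulCommutative.mpr hcomm
    apply sup_le
    · rw [Subgroup.le_centralizer_iff]
      exact sup_le hDcz (Subgroup.le_centralizer_iff.mp hDAstar)
    · rw [Subgroup.le_centralizer_iff]
      exact sup_le hDAstar hAscz
  have hDle : D ≤ Astar := by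
    have h1 : Nat.card ↥(D ⊔ Astar) ≤ Nat.card Astar := hAstarMax.2 _ hsupc
    have : Astar = D ⊔ Astar := Subgroup.eq_of_le_of_card_ge le_sup_right h1
    rw [this]; exact le_sup_left
  exact hDN (hDle.trans hleN)

/-- Let S be a finite p-group, J(S) the subgroup generated by the abelian subgroups of S of largest order and Z(J(S)) its centre. Then Z(S) ≤ D*(S) ≤ Z(J(S)), and every maximal normal abelian subgroup of S contains D*(S). -/
theorem result {S : Type*} [Group S] [Finite S] {p : ℕ} [Fact p.Prime]
    (hS : IsPGroup p S) :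
    Subgroup.center S ≤ Cfsg.dStar S ∧
    Cfsg.dStar S ≤ Cfsg.thompsonSubgroupA S ⊓ Subgroup.centralizer (Cfsg.thompsonSubgroupA S : Set S) ∧
    ∀ A : Subgroup S, A.Normal → IsMulCommutative A →
      (∀ B : Subgroup S, B.Normal → IsMulCommutative B → A ≤ B → B = A) → Cfsg.dStar S ≤ A := by
  classical
  have hDmem : Cfsg.dStar S ∈ Cfsg.dStarFamily S := dStar_mem hS
  have hDc : IsMulCommutative (Cfsg.dStar S) := hDmem.1
  refine ⟨le_sSup center_mem_family, ?_, ?_⟩
  · have hcent := dStar_centralizes_max hS
    -- D ≤ A for every A of largest order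
    have hDleA : ∀ A ∈ Cfsg.maxAbelianSubgroups S, Cfsg.dStar S ≤ A := by
      intro A hA
      have hAcz : A ≤ Subgroup.centralizer (A : Set S) :=
        Subgroup.le_centralizer_iff_isMulCommutative.mpr hA.1
      have hDcz : Cfsg.dStar S ≤ Subgroup.centralizer (Cfsg.dStar S : Set S) :=
        Subgroup.le_centralizer_iff_isMulCommutative.mpr hDc
      have hsupc : IsMulCommutative ↥(Cfsg.dStar S ⊔ A) := by
        rw [← Subgroup.le_centralizer_iff_isMulCommutative]
        apply sup_le
        · rw [Subgroup.le_centralizer_iff]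
          exact sup_le hDcz (Subgroup.le_centralizer_iff.mp (hcent A hA))
        · rw [Subgroup.le_centralizer_iff]
          exact sup_le (hcent A hA) hAcz
      have h1 : Nat.card ↥(Cfsg.dStar S ⊔ A) ≤ Nat.card A := hA.2 _ hsupc
      have : A = Cfsg.dStar S ⊔ A := Subgroup.eq_of_le_of_card_ge le_sup_right h1
      rw [this]; exact le_sup_left
    -- existence of an abelian subgroup of largest order
    have : Nonempty {A : Subgroup S // IsMulCommutative A} :=
      ⟨⟨⊥, Subgroup.le_centralizer_iff_isMulCommutative.mp bot_le⟩⟩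
    obtain ⟨⟨A0, hA0c⟩, hA0⟩ := Finite.exists_max
      (fun A : {A : Subgroup S // IsMulCommutative A} => Nat.card A.1)
      (α := {A : Subgroup S // IsMulCommutative A})
    have hA0mem : A0 ∈ Cfsg.maxAbelianSubgroups S := ⟨hA0c, fun B hB => hA0 ⟨B, hB⟩⟩
    refine le_inf ?_ ?_
    · exact (hDleA A0 hA0mem).trans (le_sSup hA0mem)
    · rw [Subgroup.le_centralizer_iff]
      unfold Cfsg.thompsonSubgroupA
      apply sSup_le
      intro A hA
      exact Subgroup.le_centralizer_iff.mp (hcent A hA)
  · intro A hAn hAc hmax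
    have hcz := centralizer_le_of_maximal hS A hAn hAc hmax
    refine le_trans ?_ hcz
    have hAcz : A ≤ Subgroup.centralizer (A : Set S) :=
      Subgroup.le_centralizer_iff_isMulCommutative.mpr hAc
    have hnorm : Cfsg.dStar S ≤ Subgroup.normalizer (A : Set S) := by
      rw [Subgroup.normalizer_eq_top_iff.mpr hAn]; exact le_top
    intro d hd
    rw [Subgroup.mem_centralizer_iff]
    intro a ha
    exact (family_centralizes hS hDmem hAcz hnorm d hd a ha).symm

end Cfsg.Agent.S3062
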