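import Cfsg.Statements.S3063
import Cfsg.Agent.S0649
import Cfsg.Agent.S0650
import Cfsg.Agent.S3036
import Mathlib.Data.Fintype.Lattice

set_option autoImplicit false
open Cfsg
open scoped commutatorElement

namespace Cfsg.Agent.S3063

variable {S : Type*} [Group S]

/-- Product formula when `L` normalizes `K`. -/
theorem card_sup_mul_card_inf [Finite S] (K L : Subgroup S)
    (hL : L ≤ Subgroup.normalizer (K : Set S)) :
    Nat.card ↥(K ⊔ L) * Nat.card ↥(K ⊓ L) = Nat.card K * Nat.card L := by
  have hn1 : (K.subgroupOf L).Normal := Subgroup.normal_subgroupOf_of_le_normalizer hL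
  have hn2 : (K.subgroupOf (L ⊔ K)).Normal := Subgroup.normal_subgroupOf_sup_of_le_normalizer hL
  have e := QuotientGroup.quotientInfEquivProdNormalizerQuotient L K hL
  have h0 : K.relIndex (L ⊔ K) = K.relIndex L := (Nat.card_congr e.toEquiv).symm
  have cm : ∀ M N : Subgroup S, M ≤ N → Nat.card M * M.relIndex N = Nat.card N := by
    intro M N hM
    have := Subgroup.relIndex_mul_relIndex (H := (⊥ : Subgroup S)) (K := M) (L := N) bot_le hM
    simpa [Subgroup.relIndex_bot_left] using this
  have h1 := cm K (L ⊔ K) le_sup_right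
  have h2 := cm (K ⊓ L) L inf_le_right
  rw [Subgroup.inf_relIndex_right] at h2
  rw [h0] at h1
  rw [sup_comm K L, ← h1, ← h2]
  ring

theorem result {S : Type*} [Group S] [Finite S] {p : ℕ} [Fact p.Prime]
    (hS : IsPGroup p S) (hmeta : IsMulCommutative ↥(commutator S))
    (A : Subgroup S) (hA : A ∈ Cfsg.maxAbelianSubgroups S) :
    ∃ B ∈ Cfsg.maxAbelianSubgroups S, B.Normal ∧ B ≤ Subgroup.normalClosure (A : Set S) := by
  classical
  set T : Subgroup S := commutator S with hT
  set N : Subgroup S := Subgroup.normalClosure (A : Set S) with hN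
  have hTn : T.Normal := by rw [hT, commutator_def]; infer_instance
  have hNn : N.Normal := Subgroup.normalClosure_normal
  have hnil : Group.IsNilpotent S := hS.isNilpotent
  have hTcz : T ≤ Subgroup.centralizer (T : Set S) :=
    Subgroup.le_centralizer_iff_isMulCommutative.mpr hmeta
  -- choose `A` inside `N` with `|A ⊓ T|` maximal
  have hne : Nonempty {A' : Subgroup S // A' ∈ Cfsg.maxAbelianSubgroups S ∧ A' ≤ N} :=
    ⟨⟨A, hA, Subgroup.le_normalClosure⟩⟩
  obtain ⟨⟨A1, hA1, hA1N⟩, hAmax⟩ := Finite.exists_max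
    (fun A' : {A' : Subgroup S // A' ∈ Cfsg.maxAbelianSubgroups S ∧ A' ≤ N} =>
      Nat.card ↥(A'.1 ⊓ T))
  have hA1cz : A1 ≤ Subgroup.centralizer (A1 : Set S) :=
    Subgroup.le_centralizer_iff_isMulCommutative.mpr hA1.1
  -- Step 1: `T` normalizes `A1`
  have hTN : T ≤ Subgroup.normalizer (A1 : Set S) := by
    by_contra hTN
    obtain ⟨b, hbT, hbNN, hbN⟩ :=
      Cfsg.Agent.S0649.exists_mem_normalizer_not_mem T (Subgroup.normalizer (A1 : Set S)) hTN
    have hyp : Cfsg.Agent.S0650.Hyp A1 T b :=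
      { hBn := hTn
        hA := hA1.1
        hBA := by
          have : ⁅T, T⁆ = ⊥ := Subgroup.commutator_self_eq_bot_iff.mpr hmeta
          rw [this]; exact bot_le
        hb := hbT
        hbN := hbNN
        hbA := hbN }
    have hB2 : p = 2 → IsMulCommutative T := fun _ => hmeta
    set Astar := Cfsg.Agent.S0650.Astar A1 b with hAstar
    have hcard : Nat.card Astar = Nat.card A1 := hyp.card_Astar hS hB2
    have hcomm : IsMulCommutative Astar := hyp.isMulCommutative_Astar hS hB2
    have hlt : A1 ⊓ T < Astar ⊓ T := hyp.inf_B_lt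
    have hAstarMax : Astar ∈ Cfsg.maxAbelianSubgroups S := by
      refine ⟨hcomm, fun B hB => ?_⟩
      rw [hcard]; exact hA1.2 B hB
    have hAstarN : Astar ≤ N := by
      apply sup_le
      · exact inf_le_left.trans hA1N
      · rw [Subgroup.closure_le]
        rintro g ⟨a, ha, rfl⟩
        have haN : a ∈ N := hA1N ha
        have h1 : b⁻¹ * a⁻¹ * b ∈ N := by
          have := hNn.conj_mem a⁻¹ (N.inv_mem haN) b⁻¹
          simpa using this
        have : a * b⁻¹ * a⁻¹ * b = a * (b⁻¹ * a⁻¹ * b) := by group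
        rw [SetLike.mem_coe, this]
        exact N.mul_mem haN h1
    have := hAmax ⟨Astar, hAstarMax, hAstarN⟩
    have hlt' : Nat.card ↥(A1 ⊓ T) < Nat.card ↥(Astar ⊓ T) := by
      apply lt_of_le_of_ne (Subgroup.card_le_of_le hlt.le)
      intro h
      exact hlt.ne (Subgroup.eq_of_le_of_card_ge hlt.le h.ge)
    exact absurd this (not_le.mpr hlt')
  -- Step 2: `A1` is normal
  have hconj : ∀ s : S, ∀ a ∈ A1, s * a * s⁻¹ ∈ A1 := by
    intro s
    set A2 : Subgroup S := A1.map (MulAut.conj s).toMonoidHom with hA2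
    have hmemA2 : ∀ a ∈ A1, s * a * s⁻¹ ∈ A2 := by
      intro a ha
      exact ⟨a, ha, by simp [MulAut.conj_apply]⟩
    have hA2card : Nat.card A2 = Nat.card A1 := by
      rw [hA2]
      exact Nat.card_congr
        (A1.equivMapOfInjective _ (MulAut.conj s).injective).toEquiv.symm
    have hA2N : A2 ≤ N := by
      rintro x ⟨a, ha, rfl⟩
      have := hNn.conj_mem a (hA1N ha) s
      simpa [MulAut.conj_apply] using this
    have hA2cz : A2 ≤ Subgroup.centralizer (A2 : Set S) := by
      rintro x ⟨a, ha, rfl⟩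
      rw [Subgroup.mem_centralizer_iff]
      rintro y ⟨a', ha', rfl⟩
      have hc : a' * a = a * a' := by
        have := hA1cz ha
        rw [Subgroup.mem_centralizer_iff] at this
        exact this a' ha'
      simp only [MulEquiv.coe_toMonoidHom, MulAut.conj_apply]
      calc s * a' * s⁻¹ * (s * a * s⁻¹) = s * (a' * a) * s⁻¹ := by group
        _ = s * (a * a') * s⁻¹ := by rw [hc]
        _ = s * a * s⁻¹ * (s * a' * s⁻¹) := by group
    set X : Subgroup S := A1 ⊓ A2 with hX
    set J : Subgroup S := A1 ⊔ A2 with hJ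
    set Q : Subgroup S := J ⊓ T with hQ
    set Astar : Subgroup S := X ⊔ Q with hAstar
    have hJX : J ≤ Subgroup.centralizer (X : Set S) := by
      apply sup_le
      · exact hA1cz.trans (Subgroup.centralizer_le (by
          intro x hx; exact hx.1))
      · exact hA2cz.trans (Subgroup.centralizer_le (by
          intro x hx; exact hx.2))
    have hXJ : X ≤ Subgroup.centralizer (J : Set S) := Subgroup.le_centralizer_iff.mp hJX
    have hQJ : Q ≤ J := inf_le_left
    have hQT : Q ≤ T := inf_le_right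
    have hXcz : X ≤ Subgroup.centralizer (X : Set S) :=
      (inf_le_left.trans hA1cz).trans (Subgroup.centralizer_le (by intro x hx; exact hx.1))
    have hQcz : Q ≤ Subgroup.centralizer (Q : Set S) :=
      (hQT.trans hTcz).trans (Subgroup.centralizer_le (by intro x hx; exact hx.2))
    have hXQ : X ≤ Subgroup.centralizer (Q : Set S) :=
      hXJ.trans (Subgroup.centralizer_le (by intro x hx; exact hx.1))
    have hQX : Q ≤ Subgroup.centralizer (X : Set S) := hQJ.trans hJX
    have hAstarc : IsMulCommutative Astar := by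
      rw [← Subgroup.le_centralizer_iff_isMulCommutative]
      apply sup_le
      · rw [Subgroup.le_centralizer_iff]
        exact sup_le hXcz hQX
      · rw [Subgroup.le_centralizer_iff]
        exact sup_le hXQ hQcz
    have hJN : J ≤ N := sup_le hA1N hA2N
    have hAstarN : Astar ≤ N := sup_le (inf_le_left.trans hA1N) (hQJ.trans hJN)
    have hAstarNorm : Astar ≤ Subgroup.normalizer (A1 : Set S) :=
      sup_le (inf_le_left.trans Subgroup.le_normalizer) (hQT.trans hTN)
    -- the elements `v a`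
    have hv : ∀ a ∈ A1, a⁻¹ * (s * a * s⁻¹) ∈ Q := by
      intro a ha
      refine ⟨?_, ?_⟩
      · exact J.mul_mem (J.inv_mem ((le_sup_left : A1 ≤ J) ha))
          ((le_sup_right : A2 ≤ J) (hmemA2 a ha))
      · have : a⁻¹ * (s * a * s⁻¹) = ⁅a⁻¹, s⁆ := by
          rw [commutatorElement_def]; group
        rw [SetLike.mem_coe, this, hT, commutator_def]
        exact Subgroup.commutator_mem_commutator (Subgroup.mem_top _) (Subgroup.mem_top _)
    have hJle : J ≤ A1 ⊔ Astar := by
      apply sup_le le_sup_left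
      rintro x ⟨a, ha, rfl⟩
      have h1 : (MulAut.conj s).toMonoidHom a = a * (a⁻¹ * (s * a * s⁻¹)) := by
        simp [MulAut.conj_apply]
      rw [h1]
      exact (A1 ⊔ Astar).mul_mem ((le_sup_left : A1 ≤ A1 ⊔ Astar) ha)
        ((le_sup_right : Astar ≤ A1 ⊔ Astar) ((le_sup_right : Q ≤ Astar) (hv a ha)))
    have hXle : X ≤ A1 ⊓ Astar := le_inf inf_le_left le_sup_left
    -- counting
    have hcount : Nat.card A1 ≤ Nat.card Astar := by
      have h1 := Cfsg.Agent.S3036.card_mul_card_le A1 A2
      have h2 := card_sup_mul_card_inf A1 Astar hAstarNorm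
      have h3 : Nat.card ↥J ≤ Nat.card ↥(A1 ⊔ Astar) := Subgroup.card_le_of_le hJle
      have h4 : Nat.card ↥X ≤ Nat.card ↥(A1 ⊓ Astar) := Subgroup.card_le_of_le hXle
      have h5 : Nat.card A1 * Nat.card A1 ≤ Nat.card A1 * Nat.card Astar := by
        calc Nat.card A1 * Nat.card A1 = Nat.card A1 * Nat.card A2 := by rw [hA2card]
          _ ≤ Nat.card ↥J * Nat.card ↥X := h1
          _ ≤ Nat.card ↥(A1 ⊔ Astar) * Nat.card ↥(A1 ⊓ Astar) := Nat.mul_le_mul h3 h4
          _ = Nat.card A1 * Nat.card Astar := h2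
      exact Nat.le_of_mul_le_mul_left h5 Nat.card_pos
    have hAstarMax : Astar ∈ Cfsg.maxAbelianSubgroups S :=
      ⟨hAstarc, fun B hB => (hA1.2 B hB).trans hcount⟩
    have hle := hAmax ⟨Astar, hAstarMax, hAstarN⟩
    have hle' : Nat.card ↥(Astar ⊓ T) ≤ Nat.card ↥(A1 ⊓ T) := hle
    have hA1Q : A1 ⊓ T ≤ Q := inf_le_inf_right T le_sup_left
    have hQAs : Q ≤ Astar ⊓ T := le_inf le_sup_right hQT
    have hQeq : A1 ⊓ T = Q :=
      Subgroup.eq_of_le_of_card_ge hA1Q ((Subgroup.card_le_of_le hQAs).trans hle')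
    intro a ha
    have hva : a⁻¹ * (s * a * s⁻¹) ∈ A1 := by
      have := hv a ha
      rw [← hQeq] at this
      exact this.1
    have : s * a * s⁻¹ = a * (a⁻¹ * (s * a * s⁻¹)) := by group
    rw [this]
    exact A1.mul_mem ha hva
  exact ⟨A1, hA1, ⟨fun a ha s => hconj s a ha⟩, hA1N⟩

end Cfsg.Agent.S3063
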