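import Cfsg.Statements.S3064
import Cfsg.Prelude.Def_Solvable
import Cfsg.Agent.Lib.Helper6_Frobenius

set_option autoImplicit false
set_option linter.unusedSectionVars false
open Cfsg
open scoped Pointwise

namespace Cfsg.Agent.S3064

universe u

section basic
variable {G : Type u} [Group G] [Finite G] {p : ℕ} [Fact p.Prime]

/-- `x` isolated in the Sylow subgroup `S` is isolated in every `p`-subgroup containing it. -/
theorem iso_in (S : Sylow p G) (x : G)
    (hU : ∀ g : G, g⁻¹ * x * g ∈ S → g⁻¹ * x * g = x)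
    (P : Subgroup G) (hP : IsPGroup p P) (hxP : x ∈ P) (g : G) (hg : g⁻¹ * x * g ∈ P) :
    g⁻¹ * x * g = x := by
  obtain ⟨Q, hQ⟩ := hP.exists_le_sylow
  obtain ⟨h, hh⟩ := MulAction.exists_smul_eq G S Q
  have hmem : ∀ y ∈ P, h⁻¹ * y * h ∈ S := by
    intro y hy
    have h1 : y ∈ (Q : Subgroup G) := hQ hy
    rw [← hh, Sylow.coe_subgroup_smul, Subgroup.mem_pointwise_smul_iff_inv_smul_mem] at h1
    have h2 : h⁻¹ * y * h ∈ (S : Subgroup G) := by
      simpa [MulAut.smul_def, MulAut.conj_apply] using h1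
    exact h2
  have h1 : h⁻¹ * x * h = x := hU h (hmem x hxP)
  have h2 : (g * h)⁻¹ * x * (g * h) = x := by
    apply hU
    have := hmem _ hg
    simpa [mul_assoc] using this
  have h3 : h⁻¹ * (g⁻¹ * x * g) * h = h⁻¹ * x * h := by
    calc h⁻¹ * (g⁻¹ * x * g) * h = (g * h)⁻¹ * x * (g * h) := by simp only [mul_inv_rev, mul_assoc]
      _ = x := h2
      _ = h⁻¹ * x * h := h1.symm
  have h4 := mul_left_cancel (mul_right_cancel h3)
  exact h4


/-- `x` has `p`-power order. -/
theorem isPGroup_zpowers (S : Sylow p G) (x : G) (hx : x ∈ S) : IsPGroup p (Subgroup.zpowers x) := by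
  have h1 : Subgroup.zpowers x ≤ (S : Subgroup G) := by
    rw [Subgroup.zpowers_le]; exact hx
  exact S.isPGroup'.to_le h1

/-- A conjugate of `x` commuting with `x` equals `x`. -/
theorem conj_comm_eq (S : Sylow p G) (x : G) (hx : x ∈ S)
    (hU : ∀ g : G, g⁻¹ * x * g ∈ S → g⁻¹ * x * g = x) (g : G)
    (hc : x * (g⁻¹ * x * g) = (g⁻¹ * x * g) * x) : g⁻¹ * x * g = x := by
  set y := g⁻¹ * x * g with hy
  have hPx : IsPGroup p (Subgroup.zpowers x) := isPGroup_zpowers S x hx
  have hPy : IsPGroup p (Subgroup.zpowers y) := by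
    have : Subgroup.zpowers y = (Subgroup.zpowers x).map (MulAut.conj g⁻¹).toMonoidHom := by
      rw [MonoidHom.map_zpowers]
      congr 1
      simp [hy]
    rw [this]
    exact hPx.map _
  have hn : Subgroup.zpowers y ≤ Subgroup.normalizer ((Subgroup.zpowers x : Subgroup G) : Set G) := by
    rw [Subgroup.zpowers_le, Subgroup.mem_normalizer_iff]
    intro h
    have key : ∀ h ∈ Subgroup.zpowers x, y * h * y⁻¹ = h := by
      intro h hh
      obtain ⟨k, rfl⟩ := Subgroup.mem_zpowers_iff.1 hh
      have hcm : Commute y x := hc.symm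
      have := (hcm.zpow_right k).eq
      rw [this]; simp
    constructor
    · intro hh; rw [key h hh]; exact hh
    · intro hh
      have h2 := key _ hh
      have h3 : y * h * y⁻¹ = h := by
        have := congrArg (fun t => y⁻¹ * t * y) h2
        simp only [mul_assoc, inv_mul_cancel_left, inv_mul_cancel, mul_one] at this
        simpa [mul_assoc] using this
      rw [← h3]; exact hh
  have hP := IsPGroup.to_sup_of_normal_right' hPy hPx hn
  apply iso_in S x hU _ hP
  · exact (le_sup_right : Subgroup.zpowers x ≤ _) (Subgroup.mem_zpowers x)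
  · exact (le_sup_left : Subgroup.zpowers y ≤ _) (Subgroup.mem_zpowers y)

end basic


theorem main : ∀ (n : ℕ) (G : Type u) [Group G] [Finite G], Nat.card G = n →
    ∀ (p : ℕ) [Fact p.Prime] (S : Sylow p G) (x : G), x ∈ S →
    (∀ g : G, g⁻¹ * x * g ∈ S → g⁻¹ * x * g = x) →
    (∀ H : Subgroup G, (Nat.card H).Coprime p → (∀ h ∈ H, x * h * x⁻¹ ∈ H) →
      ∀ h ∈ H, x * h = h * x) →
    x ∈ Subgroup.center G := by
  intro n
  induction n using Nat.strong_induction_on with
  | _ n ih =>
  intro G _ _ hn p _ S x hx hU hb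
  by_contra hxZ
  set C : Subgroup G := Subgroup.centralizer {x} with hC
  have hmemC : ∀ g : G, g ∈ C ↔ g * x = x * g := fun g => Subgroup.mem_centralizer_singleton_iff
  have hxC : x ∈ C := (hmemC x).2 rfl
  have hCtop : C ≠ ⊤ := by
    intro h
    apply hxZ
    rw [Subgroup.mem_center_iff]
    intro g
    have : g ∈ C := h ▸ Subgroup.mem_top g
    exact (hmemC g).1 this
  -- F0
  have hSC : (S : Subgroup G) ≤ C := by
    intro s hs
    rw [hmemC]
    have h1 : s⁻¹ * x * s = x := hU s (Subgroup.mul_mem _ (Subgroup.mul_mem _ (Subgroup.inv_mem _ hs) hx) hs)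
    calc s * x = s * (s⁻¹ * x * s) := by rw [h1]
      _ = x * s := by group
  -- F1
  have hsub : ∀ H : Subgroup G, x ∈ H → H ≠ ⊤ → H ≤ C := by
    intro H hxH hH
    have hlt : Nat.card H < n := by
      rw [← hn]
      exact lt_of_le_of_ne (Subgroup.card_le_card_group H)
        (fun h => hH ((Subgroup.card_eq_iff_eq_top H).1 h))
    have hPx : IsPGroup p (Subgroup.zpowers (⟨x, hxH⟩ : H)) := by
      have h0 := isPGroup_zpowers S x hx
      have : (Subgroup.zpowers (⟨x, hxH⟩ : H)).map H.subtype = Subgroup.zpowers x := by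
        rw [MonoidHom.map_zpowers]; rfl
      have h1 : IsPGroup p ((Subgroup.zpowers (⟨x, hxH⟩ : H)).map H.subtype) := by
        rw [this]; exact h0
      exact h1.of_equiv (Subgroup.equivMapOfInjective _ _ H.subtype_injective).symm
    obtain ⟨T, hT⟩ := hPx.exists_le_sylow
    have hxT : (⟨x, hxH⟩ : H) ∈ T := hT (Subgroup.mem_zpowers _)
    have key := ih (Nat.card H) hlt H rfl p T ⟨x, hxH⟩ hxT ?_ ?_
    · intro h hh
      rw [hmemC]
      rw [Subgroup.mem_center_iff] at key
      have := key ⟨h, hh⟩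
      exact congrArg Subtype.val this
    · intro h hh
      have h1 := iso_in S x hU ((T : Subgroup H).map H.subtype) (T.isPGroup'.map _)
        ⟨⟨x, hxH⟩, hxT, rfl⟩ (h : G) ⟨_, hh, by simp⟩
      exact Subtype.ext (by simpa using h1)
    · intro K hK hKn k hk
      have h1 := hb (K.map H.subtype) (by rwa [Subgroup.card_subtype]) ?_ (k : G) ⟨k, hk, rfl⟩
      · exact Subtype.ext (by simpa using h1)
      · rintro _ ⟨k', hk', rfl⟩
        exact ⟨_, hKn k' hk', by simp⟩
  -- F3
  have hgen : ∀ g : G, g ∉ C → ∀ H : Subgroup G, x ∈ H → g⁻¹ * x * g ∈ H → H = ⊤ := by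
    intro g hg H hxH hgH
    by_contra hH
    have h1 := hsub H hxH hH hgH
    rw [hmemC] at h1
    have h2 := conj_comm_eq S x hx hU g h1.symm
    apply hg
    rw [hmemC]
    calc g * x = g * (g⁻¹ * x * g) := by rw [h2]
      _ = x * g := by group
  -- F4
  have hmal : ∀ g : G, g ∉ C → ∀ c ∈ C, g * c * g⁻¹ ∈ C → c ∈ Subgroup.center G := by
    intro g hg c hc hgc
    have e : g * c * g⁻¹ * x = x * (g * c * g⁻¹) := (hmemC _).1 hgc
    have h1 : Subgroup.centralizer {c} = ⊤ := by
      apply hgen g hg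
      · rw [Subgroup.mem_centralizer_singleton_iff]
        exact ((hmemC c).1 hc).symm
      · rw [Subgroup.mem_centralizer_singleton_iff]
        calc (g⁻¹ * x * g) * c = g⁻¹ * (x * (g * c * g⁻¹)) * g := by group
          _ = g⁻¹ * ((g * c * g⁻¹) * x) * g := by rw [e]
          _ = c * (g⁻¹ * x * g) := by group
    rw [Subgroup.mem_center_iff]
    intro g'
    have : g' ∈ Subgroup.centralizer {c} := h1 ▸ Subgroup.mem_top g'
    exact Subgroup.mem_centralizer_singleton_iff.1 this
  -- F5
  set Z : Subgroup G := Subgroup.center G with hZ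
  have hZC : Z ≤ C := by
    intro z hz
    rw [hmemC]
    exact (Subgroup.mem_center_iff.1 hz x).symm
  set π : G →* G ⧸ Z := QuotientGroup.mk' Z with hπ
  have hker : π.ker = Z := QuotientGroup.ker_mk' Z
  have hπs : Function.Surjective π := QuotientGroup.mk'_surjective Z
  have hF : IsFrobeniusComplement (C.map π) := by
    refine ⟨?_, ?_, ?_⟩
    · intro h
      rw [Subgroup.map_eq_bot_iff, hker] at h
      exact hxZ (h hxC)
    · intro h
      apply hCtop
      have h1 := Subgroup.comap_map_eq π C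
      rw [h, Subgroup.comap_top, hker, sup_eq_left.2 hZC] at h1
      exact h1.symm
    · intro gb hgb
      obtain ⟨g, rfl⟩ := hπs gb
      have hg : g ∉ C := fun h => hgb (Subgroup.mem_map_of_mem π h)
      rw [eq_bot_iff]
      rintro a ⟨h1, h2⟩
      obtain ⟨c, hc, rfl⟩ := h1
      have h2' : π c ∈ MulAut.conj (π g) • Subgroup.map π C := h2
      rw [Subgroup.mem_pointwise_smul_iff_inv_smul_mem] at h2'
      obtain ⟨c', hc', e⟩ := h2'
      have e2 : π c' = π (g⁻¹ * c * g) := by
        rw [e]; simp [MulAut.smul_def, mul_assoc]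
      have e3 : c'⁻¹ * (g⁻¹ * c * g) ∈ Z := by
        have := QuotientGroup.eq.1 e2
        exact this
      have e4 : g⁻¹ * c * g ∈ C := by
        have : g⁻¹ * c * g = c' * (c'⁻¹ * (g⁻¹ * c * g)) := by group
        rw [this]
        exact C.mul_mem hc' (hZC e3)
      have hg' : g⁻¹ ∉ C := fun h => hg (by simpa using C.inv_mem h)
      have e5 : c ∈ Z := hmal g⁻¹ hg' c hc (by simpa using e4)
      rw [Subgroup.mem_bot]
      exact (QuotientGroup.eq_one_iff c).2 e5
  obtain ⟨Nb, -, hNbn, hcomp⟩ := Cfsg.Agent.Lib.Helper6_Frobenius.exists_kernel (C.map π) hF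
  have := hNbn
  have hidx : (C.map π).index = C.index := Subgroup.index_map_eq C hπs (by rw [hker]; exact hZC)
  have hNbcard : Nat.card Nb = C.index := by rw [← hcomp.index_eq_card, hidx]
  have hCp : ¬ p ∣ C.index := fun h =>
    S.not_dvd_index (dvd_trans h (Subgroup.index_dvd_of_le hSC))
  have hNbne : Nb ≠ ⊥ := by
    intro h
    rw [h] at hcomp
    exact hF.2.1 (Subgroup.isComplement'_bot_left.1 hcomp)
  set N : Subgroup G := Nb.comap π with hN
  have hNn : N.Normal := hNbn.comap π
  have hNC : ∀ r ∈ N, r ∈ C → r ∈ Z := by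
    intro r hrN hrC
    have h1 : π r ∈ Nb ⊓ C.map π := ⟨hrN, Subgroup.mem_map_of_mem π hrC⟩
    rw [hcomp.disjoint.eq_bot] at h1
    exact (QuotientGroup.eq_one_iff r).1 (Subgroup.mem_bot.1 h1)
  have hrel : Z.relIndex N = Nat.card Nb := by
    have h1 := Subgroup.relIndex_comap (⊥ : Subgroup (G ⧸ Z)) π N
    rw [Subgroup.relIndex_bot_left, MonoidHom.comap_bot, hker,
      Subgroup.map_comap_eq_self_of_surjective hπs Nb] at h1
    exact h1
  have hcard1 : Nat.card Nb ≠ 1 := fun h => hNbne (Subgroup.card_eq_one.1 h)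
  obtain ⟨q, hq, hqd⟩ := Nat.exists_prime_and_dvd hcard1
  have : Fact q.Prime := ⟨hq⟩
  have hqp : q ≠ p := by
    rintro rfl
    rw [hNbcard] at hqd
    exact hCp hqd
  let φ : MulAut N := MulAut.conjNormal x
  have hφ : IsPGroup p (Subgroup.zpowers φ) := by
    have h0 := isPGroup_zpowers S x hx
    have : Subgroup.zpowers φ = (Subgroup.zpowers x).map (MulAut.conjNormal : G →* MulAut N) := by
      rw [MonoidHom.map_zpowers]
    rw [this]; exact h0.map _
  have hcardSyl : ¬ p ∣ Nat.card (Sylow q N) := by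
    obtain ⟨Q0⟩ : Nonempty (Sylow q N) := inferInstance
    rw [Sylow.card_eq_index_normalizer Q0]
    have hle : Z.subgroupOf N ≤ Subgroup.normalizer ((Q0 : Subgroup N) : Set N) := by
      intro z hz
      rw [Subgroup.mem_normalizer_iff]
      intro h
      have hz' : (z : G) ∈ Z := Subgroup.mem_subgroupOf.1 hz
      have : z * h * z⁻¹ = h := by
        apply Subtype.ext
        have := Subgroup.mem_center_iff.1 hz' (h : G)
        simp only [Subgroup.coe_mul, Subgroup.coe_inv]
        rw [← this]; group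
      rw [this]
    have h1 := Subgroup.index_dvd_of_le hle
    intro hp
    have h2 : p ∣ Z.relIndex N := dvd_trans hp h1
    rw [hrel, hNbcard] at h2
    exact hCp h2
  obtain ⟨Q, hQ⟩ := hφ.nonempty_fixed_point_of_prime_not_dvd_card (Sylow q N) hcardSyl
  have hQfix : φ • Q = Q := hQ ⟨φ, Subgroup.mem_zpowers φ⟩
  set R : Subgroup G := (Q : Subgroup N).map N.subtype with hR
  have hRn : ∀ r ∈ R, x * r * x⁻¹ ∈ R := by
    rintro _ ⟨m, hm, rfl⟩
    refine ⟨φ m, ?_, ?_⟩
    · have h1 : φ • m ∈ φ • (Q : Subgroup N) := Subgroup.smul_mem_pointwise_smul m φ _ hm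
      rw [← Sylow.pointwise_smul_def, hQfix] at h1
      exact h1
    · simp [φ, MulAut.conjNormal_apply]
  have hRcard : (Nat.card R).Coprime p := by
    rw [hR, Subgroup.card_subtype]
    obtain ⟨k, hk⟩ := IsPGroup.iff_card.1 Q.isPGroup'
    rw [hk]
    apply Nat.Coprime.pow_left
    exact (Nat.coprime_primes hq (Fact.out)).2 hqp
  have hRC := hb R hRcard hRn
  have hQZ : (Q : Subgroup N) ≤ Z.subgroupOf N := by
    intro m hm
    rw [Subgroup.mem_subgroupOf]
    apply hNC _ m.2
    rw [hmemC]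
    exact (hRC (m : G) ⟨m, hm, rfl⟩).symm
  have h1 : (Z.subgroupOf N).index ∣ (Q : Subgroup N).index := Subgroup.index_dvd_of_le hQZ
  have h2 : q ∣ (Z.subgroupOf N).index := by
    rw [← hrel] at hqd; exact hqd
  exact Q.not_dvd_index (dvd_trans h2 h1)


/-- Let S be a Sylow p-subgroup of the finite group G and x an element of S such that (i) x is the only G-conjugate of x lying in S, and (ii) x centralizes every subgroup of order prime to p that it normalizes. Then x lies in the centre of G. -/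
theorem result {G : Type*} [Group G] [Finite G] {p : ℕ} [Fact p.Prime]
    (S : Sylow p G) (x : G) (hx : x ∈ S)
    (hU : ∀ g : G, g⁻¹ * x * g ∈ S → g⁻¹ * x * g = x)
    (hb : ∀ H : Subgroup G, (Nat.card H).Coprime p → (∀ h ∈ H, x * h * x⁻¹ ∈ H) → ∀ h ∈ H, x * h = h * x) :
    x ∈ Subgroup.center G :=
  main _ G rfl p S x hx hU hb

end Cfsg.Agent.S3064
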