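import Cfsg.Statements.S3069
import Cfsg.Agent.S2015
import Mathlib.GroupTheory.Transfer

set_option autoImplicit false
open Cfsg

namespace Cfsg.Agent.S3069

universe u

/-- If `p` divides the index of the derived subgroup then `O^p(G) ≠ G`. -/
theorem pResidual_ne_top {G : Type u} [Group G] [Finite G] {p : ℕ} [Fact p.Prime]
    (h : p ∣ (commutator G).index) : Cfsg.pResidual p G ≠ ⊤ := by
  have hp : p.Prime := Fact.out
  intro htop
  haveI : Finite (Abelianization G) := inferInstanceAs (Finite (G ⧸ commutator G))
  have hcard : Nat.card (Abelianization G) = (commutator G).index := by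
    rw [Subgroup.index_eq_card]; rfl
  obtain ⟨k, m, hm, hkm⟩ := Nat.exists_eq_pow_mul_and_not_dvd
    (n := Nat.card (Abelianization G)) Nat.card_pos.ne' p hp.ne_one
  let f : G →* Abelianization G := (powMonoidHom m).comp Abelianization.of
  have hker : Cfsg.pResidual p G ≤ f.ker := by
    unfold Cfsg.pResidual
    rw [Subgroup.closure_le]
    intro g hg
    have hg' : Nat.Coprime (orderOf g) p := hg
    show f g = 1
    show (Abelianization.of g) ^ m = 1
    have h1 : orderOf (Abelianization.of g) ∣ orderOf g := orderOf_map_dvd _ g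
    have h2 : orderOf (Abelianization.of g) ∣ p ^ k * m := by
      rw [← hkm]; exact orderOf_dvd_natCard _
    have h3 : Nat.Coprime (orderOf (Abelianization.of g)) (p ^ k) :=
      Nat.Coprime.pow_right k (Nat.Coprime.coprime_dvd_left h1 hg')
    have h4 : orderOf (Abelianization.of g) ∣ m := h3.dvd_of_dvd_mul_left h2
    exact orderOf_dvd_iff_pow_eq_one.mp h4
  rw [htop] at hker
  have hall : ∀ a : Abelianization G, a ^ m = 1 := by
    intro a
    obtain ⟨g, rfl⟩ := QuotientGroup.mk_surjective (s := commutator G) a
    have : g ∈ f.ker := hker (Subgroup.mem_top g)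
    exact this
  have hdvd : p ∣ Nat.card (Abelianization G) := hcard ▸ h
  obtain ⟨a, ha⟩ := exists_prime_orderOf_dvd_card' p hdvd
  have : orderOf a ∣ m := orderOf_dvd_iff_pow_eq_one.mpr (hall a)
  rw [ha] at this
  exact hm this

/-- A `p`-element lies in every normal subgroup of index prime to `p`. -/
theorem mem_of_not_dvd_index {G : Type u} [Group G] [Finite G] {p : ℕ} [Fact p.Prime]
    (H : Subgroup G) [H.Normal] (hH : ¬ p ∣ H.index) {s : G} {k : ℕ} (hs : s ^ p ^ k = 1) :
    s ∈ H := by
  have hp : p.Prime := Fact.out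
  rw [← QuotientGroup.eq_one_iff]
  have h1 : orderOf (s : G ⧸ H) ∣ p ^ k := by
    apply orderOf_dvd_of_pow_eq_one
    rw [← QuotientGroup.mk_pow, hs]; rfl
  have h2 : orderOf (s : G ⧸ H) ∣ H.index := by
    rw [Subgroup.index_eq_card]; exact orderOf_dvd_natCard _
  have h3 : Nat.Coprime (p ^ k) H.index :=
    Nat.Coprime.pow_left k ((Nat.Prime.coprime_iff_not_dvd hp).mpr hH)
  have h4 : orderOf (s : G ⧸ H) ∣ 1 := by
    have := Nat.dvd_gcd h1 h2
    rwa [h3] at this
  exact orderOf_eq_one_iff.mp (Nat.dvd_one.mp h4)

/-- The index of the derived subgroup of a surjective image divides that of the source. -/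
theorem commutator_index_dvd {G H : Type u} [Group G] [Group H] (f : G →* H)
    (hf : Function.Surjective f) : (commutator H).index ∣ (commutator G).index := by
  have : commutator H = (commutator G).map f := by
    rw [commutator_def, commutator_def, Subgroup.map_commutator,
      Subgroup.map_top_of_surjective f hf]
  rw [this]
  exact Subgroup.index_map_dvd _ hf

/-- A nontrivial finite `p`-group has derived subgroup of index divisible by `p`. -/
theorem dvd_commutator_index_of_isPGroup {G : Type u} [Group G] [Finite G] {p : ℕ} [Fact p.Prime]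
    (hG : IsPGroup p G) [Nontrivial G] : p ∣ (commutator G).index := by
  have : Group.IsNilpotent G := hG.isNilpotent
  have hlt : commutator G < ⊤ := Group.IsSolvable.commutator_lt_top_of_nontrivial G
  obtain ⟨n, hn⟩ := hG.index (commutator G)
  rcases Nat.eq_zero_or_pos n with h0 | h0
  · exfalso
    rw [h0, pow_zero, Subgroup.index_eq_one] at hn
    exact hlt.ne hn
  · rw [hn]; exact dvd_pow_self p h0.ne'

/-- The transfer-control property supplied by `S2015`. -/
def HasControl (p : ℕ) : Prop :=
  ∀ (P : Type u) [Group P] [Finite P], IsPGroup p P →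
    ∃ K : Subgroup P, K.Characteristic ∧ Subgroup.center P ≤ K ∧
      ∀ (G : Type u) [Group G] [Finite G] (ι : P →* G), Function.Injective ι →
        (∃ T : Sylow p G, (T : Subgroup G) = ι.range) →
        ι.range ⊓ commutator G = ι.range ⊓
          (commutator ↥(Subgroup.normalizer ((K.map ι : Subgroup G) : Set G))).map
            (Subgroup.normalizer ((K.map ι : Subgroup G) : Set G)).subtype

/-- Some `p`-power power of an element of finite order has order prime to `p`. -/
theorem exists_pow_coprime {G : Type u} [Group G] [Finite G] (p : ℕ) [Fact p.Prime] (g : G) :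
    ∃ k : ℕ, (orderOf (g ^ p ^ k)).Coprime p := by
  have hp : p.Prime := Fact.out
  obtain ⟨k, m, hm, hkm⟩ := Nat.exists_eq_pow_mul_and_not_dvd
    (n := orderOf g) (orderOf_pos g).ne' p hp.ne_one
  refine ⟨k, ?_⟩
  have h1 : orderOf (g ^ p ^ k) = m := by
    rw [orderOf_pow, hkm, Nat.gcd_eq_right (Dvd.intro _ rfl)]
    exact Nat.mul_div_cancel_left m (pow_pos hp.pos k)
  rw [h1]
  exact ((Nat.Prime.coprime_iff_not_dvd hp).mpr hm).symm

/-- In `G ⧸ C` with every `p'`-element of `G` in `C`, all elements are `p`-elements. -/
theorem isPGroup_quotient {G : Type u} [Group G] [Finite G] {p : ℕ} [Fact p.Prime]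
    (C : Subgroup G) [C.Normal] (hC : ∀ g : G, (orderOf g).Coprime p → g ∈ C) :
    IsPGroup p (G ⧸ C) := by
  intro x
  obtain ⟨g, rfl⟩ := QuotientGroup.mk_surjective x
  obtain ⟨k, hk⟩ := exists_pow_coprime p g
  refine ⟨k, ?_⟩
  rw [← QuotientGroup.mk_pow, QuotientGroup.eq_one_iff]
  exact hC _ hk

theorem main (p : ℕ) [Fact p.Prime] (hctl : HasControl.{u} p) :
    ∀ (n : ℕ) (G : Type u) [Group G] [Finite G], Nat.card G = n →
    ∀ (S : Sylow p G), (S : Subgroup G) ≠ ⊥ →
    (∀ g ∈ Subgroup.normalizer ((S : Subgroup G) : Set G), (orderOf g).Coprime p →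
      g ∈ Subgroup.centralizer ((S : Subgroup G) : Set G)) → p ∣ (commutator G).index := by
  intro n
  induction n using Nat.strong_induction_on with
  | _ n ih =>
  intro G _ _ hn S hS hN
  have hpp : p.Prime := Fact.out
  obtain ⟨K, hKc, hZK, hKt⟩ := hctl ↥(S : Subgroup G) S.isPGroup'
  have hT := hKt G (S : Subgroup G).subtype Subtype.val_injective
    ⟨S, (Subgroup.range_subtype _).symm⟩
  rw [Subgroup.range_subtype] at hT
  set K' : Subgroup G := K.map (S : Subgroup G).subtype with hK'
  set N : Subgroup G := Subgroup.normalizer (K' : Set G) with hNdef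
  have hK'S : K' ≤ S := Subgroup.map_subtype_le K
  haveI hSnt : Nontrivial ↥(S : Subgroup G) := (Subgroup.nontrivial_iff_ne_bot _).mpr hS
  have hK'ne : K' ≠ ⊥ := by
    haveI := IsPGroup.center_nontrivial (S.isPGroup')
    obtain ⟨z, hz, hz1⟩ := (Subgroup.nontrivial_iff_exists_ne_one _).mp
      (inferInstance : Nontrivial (Subgroup.center ↥(S : Subgroup G)))
    intro hbot
    have : (z : G) ∈ K' := Subgroup.mem_map_of_mem _ (hZK hz)
    rw [hbot, Subgroup.mem_bot] at this
    exact hz1 (Subtype.ext this)
  have hSN : (S : Subgroup G) ≤ N := by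
    haveI : K.Normal := inferInstance
    have : (K'.subgroupOf (S : Subgroup G)).Normal := by
      have h1 : K'.subgroupOf (S : Subgroup G) = K :=
        Subgroup.comap_map_eq_self_of_injective (Subgroup.subtype_injective _) K
      rw [h1]; infer_instance
    exact (Subgroup.normal_subgroupOf_iff_le_normalizer hK'S).mp this
  by_cases hNtop : N = ⊤
  · haveI hK'n : K'.Normal := Subgroup.normalizer_eq_top_iff.mp hNtop
    by_cases hKS : K' = S
    · -- `S` is normal in `G`
      haveI hSn : (S : Subgroup G).Normal := hKS ▸ hK'n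
      have hnorm : Subgroup.normalizer ((S : Subgroup G) : Set G) = ⊤ :=
        Subgroup.normalizer_eq_top_iff.mpr hSn
      have hC : ∀ g : G, (orderOf g).Coprime p →
          g ∈ Subgroup.centralizer ((S : Subgroup G) : Set G) :=
        fun g hg => hN g (hnorm ▸ Subgroup.mem_top g) hg
      by_cases hCtop : Subgroup.centralizer ((S : Subgroup G) : Set G) = ⊤
      · -- Burnside transfer
        have hle : Subgroup.normalizer ((S : Subgroup G) : Set G) ≤
            Subgroup.centralizer ((S : Subgroup G) : Set G) := by
          rw [hCtop]; exact le_top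
        have hcompl := MonoidHom.ker_transferSylow_isComplement' S hle
        have hidx : (MonoidHom.transferSylow S hle).ker.index = Nat.card (S : Subgroup G) :=
          hcompl.symm.index_eq_card
        have hcomm : ∀ a b : ↥(S : Subgroup G), a * b = b * a := fun a b =>
          Subtype.ext (hle (Subgroup.le_normalizer b.2) a a.2)
        have hker : commutator G ≤ (MonoidHom.transferSylow S hle).ker := by
          rw [commutator_eq_closure, Subgroup.closure_le]
          rintro x ⟨a, b, rfl⟩
          rw [SetLike.mem_coe, MonoidHom.mem_ker, map_commutatorElement, commutatorElement_eq_one_iff_mul_comm]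
          exact hcomm _ _
        have hdvd : (MonoidHom.transferSylow S hle).ker.index ∣ (commutator G).index :=
          Subgroup.index_dvd_of_le hker
        rw [hidx] at hdvd
        refine Dvd.dvd.trans ?_ hdvd
        obtain ⟨k, hk⟩ := IsPGroup.iff_card.mp S.isPGroup'
        rw [hk]
        rcases Nat.eq_zero_or_pos k with h0 | h0
        · exfalso
          rw [h0, pow_zero] at hk
          have := (Subgroup.one_lt_card_iff_ne_bot (H := (S : Subgroup G))).mpr hS
          omega
        · exact dvd_pow_self p h0.ne'
      · -- `G ⧸ C_G(S)` is a nontrivial `p`-group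
        have hPG : IsPGroup p (G ⧸ Subgroup.centralizer ((S : Subgroup G) : Set G)) :=
          isPGroup_quotient _ hC
        haveI : Nontrivial (G ⧸ Subgroup.centralizer ((S : Subgroup G) : Set G)) :=
          QuotientGroup.nontrivial_iff.mpr hCtop
        exact (dvd_commutator_index_of_isPGroup hPG).trans
          (commutator_index_dvd (QuotientGroup.mk' _) (QuotientGroup.mk'_surjective _))
    · -- pass to `G ⧸ K'`
      have hKlt : K' < S := lt_of_le_of_ne hK'S hKS
      have hπ : Function.Surjective (QuotientGroup.mk' K') := QuotientGroup.mk'_surjective K'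
      have hlt : Nat.card (G ⧸ K') < n := by
        rw [← hn, ← Subgroup.index_eq_card, ← Subgroup.index_mul_card K']
        have h1 : 1 < Nat.card K' := (Subgroup.one_lt_card_iff_ne_bot K').mpr hK'ne
        have h2 : 0 < K'.index := Nat.pos_of_ne_zero Subgroup.index_ne_zero_of_finite
        nlinarith
      let Sb : Sylow p (G ⧸ K') := S.mapSurjective hπ
      have hSb : (Sb : Subgroup (G ⧸ K')) = (S : Subgroup G).map (QuotientGroup.mk' K') :=
        Sylow.coe_mapSurjective hπ S
      have hSbne : (Sb : Subgroup (G ⧸ K')) ≠ ⊥ := by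
        obtain ⟨s, hs, hsK⟩ := SetLike.exists_of_lt hKlt
        intro hbot
        have : (QuotientGroup.mk' K') s ∈ (Sb : Subgroup (G ⧸ K')) :=
          hSb ▸ Subgroup.mem_map_of_mem _ hs
        rw [hbot, Subgroup.mem_bot] at this
        exact hsK ((QuotientGroup.eq_one_iff s).mp this)
      have hcomap : ((S : Subgroup G).map (QuotientGroup.mk' K')).comap (QuotientGroup.mk' K')
          = S := by
        apply Subgroup.comap_map_eq_self
        rw [QuotientGroup.ker_mk']; exact hK'S
      have hSbN : ∀ x ∈ Subgroup.normalizer ((Sb : Subgroup (G ⧸ K')) : Set (G ⧸ K')),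
          (orderOf x).Coprime p →
          x ∈ Subgroup.centralizer ((Sb : Subgroup (G ⧸ K')) : Set (G ⧸ K')) := by
        intro x hx hxo
        obtain ⟨g, rfl⟩ := hπ x
        have hgN : g ∈ Subgroup.normalizer ((S : Subgroup G) : Set G) := by
          have h1 : g ∈ (Subgroup.normalizer
              ((((S : Subgroup G).map (QuotientGroup.mk' K') : Subgroup (G ⧸ K'))) :
                Set (G ⧸ K'))).comap (QuotientGroup.mk' K') := by
            rw [hSb] at hx; exact hx
          rw [Subgroup.comap_normalizer_eq_of_surjective _ hπ, hcomap] at h1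
          exact h1
        obtain ⟨k, hk⟩ := exists_pow_coprime p g
        have hh : g ^ p ^ k ∈ Subgroup.centralizer ((S : Subgroup G) : Set G) :=
          hN _ (pow_mem hgN _) hk
        have hπh : (QuotientGroup.mk' K') g ^ p ^ k ∈
            Subgroup.centralizer ((Sb : Subgroup (G ⧸ K')) : Set (G ⧸ K')) := by
          rw [hSb, ← map_pow, Subgroup.mem_centralizer_iff]
          rintro y ⟨s, hs, rfl⟩
          rw [← map_mul, ← map_mul, (Subgroup.mem_centralizer_iff.mp hh) s hs]
        obtain ⟨b, hb⟩ := exists_pow_eq_self_of_coprime (x := (QuotientGroup.mk' K') g)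
          (n := p ^ k) (Nat.Coprime.pow_left k hxo.symm)
        rw [← hb]; exact pow_mem hπh b
      have h1 := ih _ hlt (G ⧸ K') rfl Sb hSbne hSbN
      exact h1.trans (commutator_index_dvd (QuotientGroup.mk' K') hπ)
  · -- induction hypothesis on `N`
    have hlt : Nat.card ↥N < n := by
      rw [← hn]
      exact lt_of_le_of_ne (Subgroup.card_le_card_group N)
        (mt (Subgroup.card_eq_iff_eq_top N).mp hNtop)
    let S' : Sylow p ↥N := S.subtype hSN
    have hS'coe : (S' : Subgroup ↥N) = (S : Subgroup G).subgroupOf N := Sylow.coe_subtype S hSN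
    have hS'ne : (S' : Subgroup ↥N) ≠ ⊥ := by
      rw [hS'coe]
      intro hbot
      rw [Subgroup.subgroupOf_eq_bot] at hbot
      exact hS (le_bot_iff.mp ((le_inf le_rfl hSN).trans (disjoint_iff_inf_le.mp hbot)))
    have hS'N : ∀ g ∈ Subgroup.normalizer ((S' : Subgroup ↥N) : Set ↥N), (orderOf g).Coprime p →
        g ∈ Subgroup.centralizer ((S' : Subgroup ↥N) : Set ↥N) := by
      intro g hg hgo
      rw [hS'coe, ← Subgroup.subgroupOf_normalizer_eq hSN, Subgroup.mem_subgroupOf] at hg
      have hgo' : (orderOf (g : G)).Coprime p := by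
        rwa [Subgroup.orderOf_coe]
      have hc := hN (g : G) hg hgo'
      rw [Subgroup.mem_centralizer_iff] at hc ⊢
      intro x hx
      rw [hS'coe] at hx
      have hx' : (x : G) ∈ (S : Subgroup G) := hx
      exact Subtype.ext (hc (x : G) hx')
    have h1 := ih _ hlt ↥N rfl S' hS'ne hS'N
    have h2 : ¬ (S : Subgroup G) ≤ (commutator ↥N).map N.subtype := by
      intro hle
      have hle' : (S' : Subgroup ↥N) ≤ commutator ↥N := by
        intro x hx
        rw [hS'coe] at hx
        have hx' : (x : G) ∈ (S : Subgroup G) := hx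
        obtain ⟨y, hy, hyx⟩ := hle hx'
        have : y = x := Subtype.ext hyx
        rwa [← this]
      have hd : (commutator ↥N).index ∣ (S' : Subgroup ↥N).index := Subgroup.index_dvd_of_le hle'
      exact S'.not_dvd_index (h1.trans hd)
    have h3 : ¬ (S : Subgroup G) ≤ commutator G := by
      intro hle
      apply h2
      have : (S : Subgroup G) ⊓ commutator G = S := inf_eq_left.mpr hle
      rw [hT] at this
      exact inf_eq_left.mp this
    by_contra hnd
    apply h3
    intro s hs
    obtain ⟨k, hk⟩ := (S.isPGroup') ⟨s, hs⟩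
    apply mem_of_not_dvd_index (commutator G) hnd (k := k)
    exact congrArg Subtype.val hk

/-- Let p ≥ 7 be a prime and S a nontrivial Sylow p-subgroup of the finite group G. If N_G(S)/C_G(S) is a p-group (every element of N_G(S) of order prime to p centralizes S), then O^p(G) < G, i.e. G has a nontrivial p-factor group. -/
theorem result {G : Type*} [Group G] [Finite G] {p : ℕ} [Fact p.Prime]
    (hp : 7 ≤ p) (S : Sylow p G) (hS : (S : Subgroup G) ≠ ⊥)
    (hN : ∀ g ∈ Subgroup.normalizer ((S : Subgroup G) : Set G), (orderOf g).Coprime p →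
      g ∈ Subgroup.centralizer ((S : Subgroup G) : Set G)) :
    Cfsg.pResidual p G ≠ ⊤ := by
  apply pResidual_ne_top
  refine main p ?_ _ G rfl S hS hN
  intro P _ _ hP
  exact Cfsg.Agent.S2015.result p (by omega) P hP

end Cfsg.Agent.S3069
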