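import Cfsg.Statements.S3071
import Cfsg.Agent.Lib.Helper11_FusionQ
import Cfsg.Agent.Lib.Helper50_QuadSec
import Cfsg.Agent.Lib.Helper51_Local
import Cfsg.Agent.Lib.Helper34_NPC
import Cfsg.Agent.Lib.Helper10_QuadPair
import Cfsg.Agent.S3082
import Cfsg.Agent.S1959
import Cfsg.Agent.S0653
import Cfsg.Agent.S5299

set_option autoImplicit false
open Cfsg

namespace Cfsg.Agent.S3071

open Cfsg.Agent.Lib.Helper11_ZJ Cfsg.Agent.Lib.Helper11_NPCD Cfsg.Agent.Lib.Helper11_FusionQ
  Cfsg.Agent.Lib.Helper11_FusionD Cfsg.Agent.Lib.Helper33_Conj Cfsg.Agent.Lib.Helper33_Alperin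

universe u

/-- the class of `SL(2, p)`-free groups -/
def Free (p : ℕ) (X : Type u) [Group X] : Prop :=
  ¬ Cfsg.Involves (Matrix.SpecialLinearGroup (Fin 2) (ZMod p)) X

theorem Free.stable {p : ℕ} [Fact p.Prime] (hp : p ≠ 2) {X : Type u} [Group X] [Finite X]
    (h : Free p X) : Cfsg.IsNormalizerPStable p X := by
  intro P hP g hg hq
  rcases Cfsg.Agent.Lib.Helper50_QuadSec.quad_normalizer hp P hP g hg hq with h1 | h1
  · exact h1
  · exact absurd (Cfsg.Agent.Lib.Helper34_NPC.involves_of_subgroup _ h1) h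

theorem Free.cj {p : ℕ} {G : Type u} [Group G] {H : Subgroup G} (h : Free p ↥H) (k : G) :
    Free p ↥(cj k H) := by
  intro hinv
  apply h
  exact Cfsg.Agent.S5299.involves_of_injective
    (H.equivMapOfInjective (MulAut.conj k).toMonoidHom (MulAut.conj k).injective).symm.toMonoidHom
    (MulEquiv.injective _) hinv

/-- the hypothesis of the statement gives `SL(2, p)`-free normalizers -/
theorem free_of_hyp {p : ℕ} {G : Type u} [Group G] (U : Subgroup G)
    (h : ¬ ∃ (H K : Subgroup G) (_ : (K.subgroupOf H).Normal),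
      H ≤ Subgroup.normalizer (U : Set G) ∧
        Nonempty ((H ⧸ K.subgroupOf H) ≃* Matrix.SpecialLinearGroup (Fin 2) (ZMod p))) :
    Free p ↥(Subgroup.normalizer (U : Set G)) := by
  intro hinv
  apply h
  rw [Cfsg.Agent.S5299.involves_iff] at hinv
  obtain ⟨K', f, hf⟩ := hinv
  obtain ⟨K, L, hL, hKle, ⟨e⟩⟩ := Cfsg.Agent.Lib.Helper10_QuadPair.exists_section_of_hom
    (K'.map (Subgroup.normalizer (U : Set G)).subtype)
    (f.comp (K'.equivMapOfInjective (Subgroup.normalizer (U : Set G)).subtype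
      (Subgroup.subtype_injective _)).symm.toMonoidHom) ⊤ (by
      intro x _
      obtain ⟨k, rfl⟩ := hf x
      exact ⟨K'.equivMapOfInjective (Subgroup.normalizer (U : Set G)).subtype
        (Subgroup.subtype_injective _) k, by simp⟩)
  exact ⟨K, L, hL, hKle.trans (Subgroup.map_subtype_le _), ⟨e.trans Subgroup.topEquiv⟩⟩

/-- `Z(P) ≤ Z(J(P₁))` whenever `Z(P) ≤ P₁ ≤ P` -/
theorem center_le_W {G : Type u} [Group G] [Finite G] (P P₁ : Subgroup G) (hP₁ : P₁ ≤ P)
    (hZ : P ⊓ Subgroup.centralizer (P : Set G) ≤ P₁) :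
    P ⊓ Subgroup.centralizer (P : Set G) ≤ W (Cfsg.Agent.S3082.FamAb G) P₁ := by
  rw [le_W_iff]
  intro A hA
  obtain ⟨hAP₁, hAab, hAmax⟩ := hA
  -- `A ⊔ Z(P)` is abelian
  have hcomm : ∀ a ∈ A ⊔ (P ⊓ Subgroup.centralizer (P : Set G)),
      ∀ b ∈ A ⊔ (P ⊓ Subgroup.centralizer (P : Set G)), a * b = b * a := by
    have hAc : ∀ a ∈ A, ∀ b ∈ A, a * b = b * a := by
      intro a ha b hb
      have := (hAab : IsMulCommutative A).is_comm.comm ⟨a, ha⟩ ⟨b, hb⟩
      exact congrArg Subtype.val this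
    have hZc : ∀ z ∈ P ⊓ Subgroup.centralizer (P : Set G), ∀ x ∈ P, z * x = x * z := by
      intro z hz x hx
      exact ((Subgroup.mem_centralizer_iff.mp hz.2) x hx).symm
    have hgen : A ⊔ (P ⊓ Subgroup.centralizer (P : Set G)) =
        Subgroup.closure ((A : Set G) ∪ ((P ⊓ Subgroup.centralizer (P : Set G) : Subgroup G) : Set G)) := by
      rw [Subgroup.closure_union, Subgroup.closure_eq, Subgroup.closure_eq]
    have hgc : ∀ a ∈ ((A : Set G) ∪ ((P ⊓ Subgroup.centralizer (P : Set G) : Subgroup G) : Set G)),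
        ∀ b ∈ ((A : Set G) ∪ ((P ⊓ Subgroup.centralizer (P : Set G) : Subgroup G) : Set G)),
        a * b = b * a := by
      intro a ha b hb
      rcases ha with ha | ha <;> rcases hb with hb | hb
      · exact hAc a ha b hb
      · exact (hZc b hb a (hP₁ (hAP₁ ha))).symm
      · exact hZc a ha b (hP₁ (hAP₁ hb))
      · exact hZc a ha b hb.1
    intro a ha b hb
    rw [hgen] at ha hb
    have h1 : Subgroup.closure ((A : Set G) ∪
        ((P ⊓ Subgroup.centralizer (P : Set G) : Subgroup G) : Set G)) ≤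
        Subgroup.centralizer (Subgroup.closure ((A : Set G) ∪
        ((P ⊓ Subgroup.centralizer (P : Set G) : Subgroup G) : Set G)) : Set G) := by
      rw [Subgroup.closure_le]
      intro x hx
      rw [SetLike.mem_coe, Subgroup.mem_centralizer_iff]
      intro y hy
      have h2 : Subgroup.closure ((A : Set G) ∪
          ((P ⊓ Subgroup.centralizer (P : Set G) : Subgroup G) : Set G)) ≤
          Subgroup.centralizer ({x} : Set G) := by
        rw [Subgroup.closure_le]
        intro w hw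
        rw [SetLike.mem_coe, Subgroup.mem_centralizer_iff]
        intro x' hx'
        rw [Set.mem_singleton_iff] at hx'
        rw [hx']
        exact hgc x hx w hw
      have := Subgroup.mem_centralizer_iff.mp (h2 hy) x (Set.mem_singleton x)
      exact this.symm
    exact ((Subgroup.mem_centralizer_iff.mp (h1 ha)) b hb).symm
  have hab : Cfsg.Agent.S3082.FamAb G (A ⊔ (P ⊓ Subgroup.centralizer (P : Set G))) := by
    show IsMulCommutative _
    exact ⟨⟨fun a b => Subtype.ext (hcomm a a.2 b b.2)⟩⟩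
  have hle : A ⊔ (P ⊓ Subgroup.centralizer (P : Set G)) ≤ P₁ := sup_le hAP₁ hZ
  have hcard := hAmax _ hle hab
  have heq : A = A ⊔ (P ⊓ Subgroup.centralizer (P : Set G)) :=
    Subgroup.eq_of_le_of_card_ge le_sup_left hcard
  rw [heq]
  exact le_sup_right

/-- local control in an `SL(2, p)`-free normalizer -/
theorem local_control {p : ℕ} [Fact p.Prime] (hp : p ≠ 2) {G : Type u} [Group G] [Finite G]
    (P : Sylow p G) (U' : Subgroup G) (hfree : Free p ↥(Subgroup.normalizer (U' : Set G)))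
    (hfn : ¬ p ∣ ((P : Subgroup G) ⊓ Subgroup.normalizer (U' : Set G)).relIndex
      (Subgroup.normalizer (U' : Set G)))
    (B : Set G)
    (hB : B ⊆ (((P : Subgroup G) ⊓ Subgroup.normalizer (U' : Set G) : Subgroup G) : Set G))
    (z : G) (hz : z ∈ Subgroup.normalizer (U' : Set G))
    (hzB : cjs z B ⊆ (((P : Subgroup G) ⊓ Subgroup.normalizer (U' : Set G) : Subgroup G) : Set G)) :
    ∃ y ∈ Subgroup.normalizer ((W (Cfsg.Agent.S3082.FamAb G)
      ((P : Subgroup G) ⊓ Subgroup.normalizer (U' : Set G)) : Subgroup G) : Set G),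
      AgreeOn B y z := by
  have hPP : Cfsg.IsStronglyClosed (P : Subgroup G) (P : Subgroup G) :=
    ⟨le_rfl, fun x _ g h => h⟩
  have hctl : ∀ (T : Sylow p ↥(Subgroup.normalizer (U' : Set G)))
      (D₀ : Subgroup ↥(Subgroup.normalizer (U' : Set G))),
      Cfsg.IsStronglyClosed D₀ (T : Subgroup ↥(Subgroup.normalizer (U' : Set G))) →
      Ctl Cfsg.Agent.S3082.FamAb ↥(Subgroup.normalizer (U' : Set G))
        (T : Subgroup ↥(Subgroup.normalizer (U' : Set G))) D₀ := by
    intro T D₀ hD₀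
    refine main (Cfsg.Agent.S3082.pFam_ab hp) (fun X _ => Free p X) ?_ ?_ ?_ _
      ↥(Subgroup.normalizer (U' : Set G)) rfl hfree T D₀ hD₀
    · intro X _ H h hH
      exact h (Cfsg.Agent.Lib.Helper34_NPC.involves_of_subgroup H hH)
    · intro X _ N _ h hN
      exact h (Cfsg.Agent.Lib.Helper34_NPC.involves_of_surjective (QuotientGroup.mk' N)
        (QuotientGroup.mk'_surjective N) hN)
    · intro X _ _ h
      exact Free.stable hp h
  obtain ⟨y, hy, _, hag⟩ := ctl_sub (Cfsg.Agent.S3082.pFam_ab hp) P (P : Subgroup G) hPP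
    (Subgroup.normalizer (U' : Set G)) hfn hctl B hB z hz hzB
  have e : ((P : Subgroup G) ⊓ Subgroup.normalizer (U' : Set G)) ⊓ (P : Subgroup G) =
      (P : Subgroup G) ⊓ Subgroup.normalizer (U' : Set G) := inf_eq_left.mpr inf_le_left
  rw [e] at hy
  exact ⟨y, hy, hag⟩

/-- **Control of strong fusion by `N_G(Z(J(P)))`** when the normalizers of the subgroups of `P`
containing `Z(P)` are `SL(2, p)`-free. -/
theorem cr_of_local_free {p : ℕ} [Fact p.Prime] (hp : p ≠ 2) {G : Type u} [Group G] [Finite G]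
    (P : Sylow p G)
    (hfree : ∀ U : Subgroup G, (P : Subgroup G) ⊓ Subgroup.centralizer ((P : Subgroup G) : Set G) ≤ U →
      U ≤ (P : Subgroup G) → Free p ↥(Subgroup.normalizer (U : Set G))) :
    ∀ Q : Subgroup G, Q ≤ (P : Subgroup G) → ∀ g : G, cj g Q ≤ (P : Subgroup G) →
      CR (P : Subgroup G) (Subgroup.normalizer
        ((W (Cfsg.Agent.S3082.FamAb G) (P : Subgroup G) : Subgroup G) : Set G)) (Q : Set G) g := by
  have hPr := Cfsg.Agent.S3082.pFam_ab.{u} hp
  obtain ⟨M, hM⟩ : ∃ M : Subgroup G, M = Subgroup.normalizer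
      ((W (Cfsg.Agent.S3082.FamAb G) (P : Subgroup G) : Subgroup G) : Set G) := ⟨_, rfl⟩
  rw [← hM]
  have hR := CR.fusionRel (P : Subgroup G) M
  obtain ⟨Z, hZ⟩ : ∃ Z : Subgroup G,
      Z = (P : Subgroup G) ⊓ Subgroup.centralizer ((P : Subgroup G) : Set G) := ⟨_, rfl⟩
  rw [← hZ] at hfree
  have hZP : Z ≤ (P : Subgroup G) := by rw [hZ]; exact inf_le_left
  have hZN : ∀ U' : Subgroup G, U' ≤ (P : Subgroup G) →
      Z ≤ (P : Subgroup G) ⊓ Subgroup.normalizer (U' : Set G) := by
    intro U' hU' z hz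
    refine ⟨hZP hz, ?_⟩
    apply Subgroup.centralizer_le_normalizer
    rw [hZ] at hz
    exact Subgroup.centralizer_le (show (U' : Set G) ⊆ ((P : Subgroup G) : Set G) from hU') hz.2
  have hfull : ∀ T : Subgroup G, T ≤ (P : Subgroup G) → ∃ U ∈ (Set.univ : Set (Subgroup G)),
      U ≤ (P : Subgroup G) ∧ (∃ g : G, cj g T = U) ∧
      ¬ p ∣ ((P : Subgroup G) ⊓ Subgroup.normalizer (U : Set G)).relIndex
        (Subgroup.normalizer (U : Set G)) := by
    intro T hT
    obtain ⟨g, hg1, hg2⟩ := Cfsg.Agent.S1959.exists_fully_normalized P T hT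
    exact ⟨cj g T, Set.mem_univ _, hg1, ⟨g, rfl⟩, hg2⟩
  apply alperin P Set.univ hfull (CR (P : Subgroup G) M) hR
  intro U _ hUS hUfn IH m hm
  -- the climbing claim
  have C : ∀ n : ℕ, ∀ P₁ : Subgroup G, P₁ ≤ (P : Subgroup G) →
      Nat.card (P : Subgroup G) - Nat.card P₁ = n → Z ≤ P₁ →
      (Nat.card U < Nat.card P₁ ∨ P₁ = (P : Subgroup G)) →
      ∀ z ∈ Subgroup.normalizer ((W (Cfsg.Agent.S3082.FamAb G) P₁ : Subgroup G) : Set G),
        ∀ B : Set G, B ⊆ (P₁ : Set G) → cjs z B ⊆ (P₁ : Set G) → CR (P : Subgroup G) M B z := by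
    intro n
    induction n using Nat.strong_induction_on with
    | _ n ihC =>
    intro P₁ hP₁S hn hZP₁ hcard z hz B hBP hzB
    rcases eq_or_lt_of_le hP₁S with hPeq | hPlt
    · subst hPeq
      rw [← hM] at hz
      exact ⟨hBP, hzB, z, hz, AgreeOn.refl B z⟩
    · have hcardP : Nat.card U < Nat.card P₁ := hcard.resolve_right hPlt.ne
      have hP₁p : IsPGroup p P₁ := P.2.to_le hP₁S
      obtain ⟨V₁, hV₁⟩ : ∃ V₁ : Subgroup G, V₁ = W (Cfsg.Agent.S3082.FamAb G) P₁ := ⟨_, rfl⟩
      rw [← hV₁] at hz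
      have hVP : V₁ ≤ P₁ := by rw [hV₁]; exact W_le' hPr _
      have hZV : Z ≤ V₁ := by
        rw [hV₁, hZ]
        exact center_le_W (P : Subgroup G) P₁ hP₁S (by rw [← hZ]; exact hZP₁)
      have hV₁free : Free p ↥(Subgroup.normalizer (V₁ : Set G)) :=
        hfree V₁ hZV (hVP.trans hP₁S)
      have h1 : P₁ < (P : Subgroup G) ⊓ Subgroup.normalizer (P₁ : Set G) :=
        lt_inf_normalizer P.2 hPlt
      have h2 : (P : Subgroup G) ⊓ Subgroup.normalizer (P₁ : Set G) ≤
          (P : Subgroup G) ⊓ Subgroup.normalizer (V₁ : Set G) := by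
        intro s hs
        refine ⟨hs.1, ?_⟩
        rw [hV₁]
        exact normalizer_le_normalizer_W hPr P₁ hs.2
      obtain ⟨k₀, hk₀S, hk₀fn⟩ :=
        Cfsg.Agent.S1959.exists_fully_normalized P V₁ (hVP.trans hP₁S)
      obtain ⟨k, hkV, hkN⟩ := exists_cj_normalizer_le P k₀ rfl hk₀fn
      obtain ⟨U', hU'⟩ : ∃ U' : Subgroup G, U' = cj k₀ V₁ := ⟨_, rfl⟩
      rw [← hU'] at hk₀S hk₀fn hkV hkN
      have hU'free : Free p ↥(Subgroup.normalizer (U' : Set G)) := by
        have := hV₁free.cj k₀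
        rw [cj_normalizer, ← hU'] at this
        exact this
      have hc1 : Nat.card P₁ < Nat.card ((P : Subgroup G) ⊓
          Subgroup.normalizer (V₁ : Set G) : Subgroup G) :=
        lt_of_lt_of_le (Cfsg.Agent.Lib.Helper33_Alperin.card_lt_of_lt h1)
          (Subgroup.card_le_of_le h2)
      have hc2 : Nat.card ((P : Subgroup G) ⊓
          Subgroup.normalizer (V₁ : Set G) : Subgroup G) ≤
          Nat.card ((P : Subgroup G) ⊓ Subgroup.normalizer (U' : Set G) : Subgroup G) := by
        rw [← Cfsg.Agent.Lib.Helper33_Alperin.card_cj k]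
        exact Subgroup.card_le_of_le hkN
      have hc3 : Nat.card ((P : Subgroup G) ⊓ Subgroup.normalizer (U' : Set G) : Subgroup G) ≤
          Nat.card (P : Subgroup G) := Subgroup.card_le_of_le inf_le_left
      have hRk : CR (P : Subgroup G) M (((P : Subgroup G) ⊓
          Subgroup.normalizer (V₁ : Set G) : Subgroup G) : Set G) k :=
        IH _ inf_le_left (by omega) k (hkN.trans inf_le_left)
      have hBV : B ⊆ (((P : Subgroup G) ⊓
          Subgroup.normalizer (V₁ : Set G) : Subgroup G) : Set G) :=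
        hBP.trans (h1.le.trans h2)
      have hzBV : cjs z B ⊆ (((P : Subgroup G) ⊓
          Subgroup.normalizer (V₁ : Set G) : Subgroup G) : Set G) :=
        hzB.trans (h1.le.trans h2)
      have hRBk := hR.restrict _ _ _ hRk hBV
      have hRzBk := hR.restrict _ _ _ hRk hzBV
      have hz' : k * z * k⁻¹ ∈ Subgroup.normalizer (U' : Set G) := by
        rw [← hkV, ← cj_normalizer]; exact conj_mem_cj hz
      have hcjk : cjs k (((P : Subgroup G) ⊓
          Subgroup.normalizer (V₁ : Set G) : Subgroup G) : Set G) ⊆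
          (((P : Subgroup G) ⊓ Subgroup.normalizer (U' : Set G) : Subgroup G) : Set G) := by
        rw [← coe_cj]; exact hkN
      have hB' : cjs k B ⊆
          (((P : Subgroup G) ⊓ Subgroup.normalizer (U' : Set G) : Subgroup G) : Set G) :=
        (cjs_mono hBV).trans hcjk
      have e0 : cjs (k * z * k⁻¹) (cjs k B) = cjs k (cjs z B) := by
        rw [← cjs_mul, ← cjs_mul]; congr 1; group
      have hz'B' : cjs (k * z * k⁻¹) (cjs k B) ⊆
          (((P : Subgroup G) ⊓ Subgroup.normalizer (U' : Set G) : Subgroup G) : Set G) := by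
        rw [e0]; exact (cjs_mono hzBV).trans hcjk
      obtain ⟨y, hy, hag⟩ := local_control hp P U' hU'free hk₀fn (cjs k B) hB' (k * z * k⁻¹) hz'
        hz'B'
      have CP' := ihC (Nat.card (P : Subgroup G) - Nat.card ((P : Subgroup G) ⊓
        Subgroup.normalizer (U' : Set G) : Subgroup G)) (by omega) _ inf_le_left rfl
        (hZN U' hk₀S) (Or.inl (by omega)) y hy (cjs k B) hB'
        (by rw [hag.cjs_eq]; exact hz'B')
      have hRB'z := CP'.of_agree hag
      have h3 := hR.trans B k (k * z * k⁻¹) hRBk hRB'z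
      have h4 := hR.symm _ _ hRzBk
      have e : cjs (k * z * k⁻¹ * k) B = cjs k (cjs z B) := by
        rw [← cjs_mul]; congr 1; group
      have h5 := hR.trans B _ k⁻¹ h3 (by rw [e]; exact h4)
      have e5 : k⁻¹ * (k * z * k⁻¹ * k) = z := by group
      rwa [e5] at h5
  have hUP : U ≤ (P : Subgroup G) ⊓ Subgroup.normalizer (U : Set G) :=
    le_inf hUS Subgroup.le_normalizer
  have hmU : cjs m (U : Set G) = (U : Set G) := by
    rw [← coe_cj, mem_normalizer_iff_cj.mp hm]
  by_cases hcent : (P : Subgroup G) ⊓ Subgroup.centralizer (U : Set G) ≤ U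
  · -- `U` contains `Z(P)`: local control in `N_G(U)`
    have hZU : Z ≤ U := by
      rw [hZ]
      exact le_trans (inf_le_inf_left _ (Subgroup.centralizer_le
        (show (U : Set G) ⊆ ((P : Subgroup G) : Set G) from hUS))) hcent
    have hUfree := hfree U hZU hUS
    have hcardP : Nat.card U < Nat.card ((P : Subgroup G) ⊓
        Subgroup.normalizer (U : Set G) : Subgroup G) ∨
        (P : Subgroup G) ⊓ Subgroup.normalizer (U : Set G) = (P : Subgroup G) := by
      rcases eq_or_lt_of_le hUS with h | h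
      · right
        rw [h]
        exact inf_eq_left.mpr Subgroup.le_normalizer
      · left
        exact Cfsg.Agent.Lib.Helper33_Alperin.card_lt_of_lt (lt_inf_normalizer P.2 h)
    obtain ⟨y, hy, hag⟩ := local_control hp P U hUfree hUfn (U : Set G) hUP m hm
      (by rw [hmU]; exact hUP)
    have key := C _ _ inf_le_left rfl (hZN U hUS) hcardP y hy (U : Set G) hUP
      (by rw [hag.cjs_eq, hmU]; exact hUP)
    exact key.of_agree hag
  · -- `U` is not centric: enlarge `U` by `C_P(U)`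
    obtain ⟨R₀, hR₀⟩ : ∃ R₀ : Subgroup G,
        R₀ = (P : Subgroup G) ⊓ Subgroup.centralizer (U : Set G) := ⟨_, rfl⟩
    rw [← hR₀] at hcent
    have hCN : Subgroup.centralizer (U : Set G) ≤ Subgroup.normalizer (U : Set G) :=
      Subgroup.centralizer_le_normalizer _
    have hnormC : ∀ m ∈ Subgroup.normalizer (U : Set G),
        cj m (Subgroup.centralizer (U : Set G)) = Subgroup.centralizer (U : Set G) := by
      intro m' hm'
      rw [cj_centralizer, mem_normalizer_iff_cj.mp hm']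
    have hR₀idx : ¬ p ∣ R₀.relIndex (Subgroup.centralizer (U : Set G)) := by
      have h1 := Cfsg.Agent.Lib.Helper51_Local.sylow_inf_normal (p := p) hCN hnormC
        (inf_le_right : (P : Subgroup G) ⊓ Subgroup.normalizer (U : Set G) ≤ _)
        (P.2.to_le inf_le_left) hUfn
      have e : ((P : Subgroup G) ⊓ Subgroup.normalizer (U : Set G)) ⊓
          Subgroup.centralizer (U : Set G) = R₀ := by
        rw [hR₀, inf_assoc, inf_eq_right.mpr hCN]
      rwa [e] at h1
    have hR₀C : R₀ ≤ Subgroup.centralizer (U : Set G) := by rw [hR₀]; exact inf_le_right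
    have hR₀P : R₀ ≤ (P : Subgroup G) := by rw [hR₀]; exact inf_le_left
    obtain ⟨c, hc, hcR⟩ := Cfsg.Agent.Lib.Helper51_Local.frattini (p := p) hnormC hR₀C
      (P.2.to_le hR₀P) hR₀idx hm
    have hnU : cj (c * m) U = U := by
      rw [cj_mul, mem_normalizer_iff_cj.mp hm, mem_normalizer_iff_cj.mp (hCN hc)]
    have hnUR : cj (c * m) (U ⊔ R₀) = U ⊔ R₀ := by
      show Subgroup.map (MulAut.conj (c * m)).toMonoidHom (U ⊔ R₀) = U ⊔ R₀
      rw [Subgroup.map_sup]
      show cj (c * m) U ⊔ cj (c * m) R₀ = U ⊔ R₀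
      rw [hnU, hcR]
    have hlt : U < U ⊔ R₀ := by
      refine lt_of_le_of_ne le_sup_left ?_
      intro heq
      apply hcent
      rw [heq]; exact le_sup_right
    have hURP : U ⊔ R₀ ≤ (P : Subgroup G) := sup_le hUS hR₀P
    have h1 := IH (U ⊔ R₀) hURP (Cfsg.Agent.Lib.Helper33_Alperin.card_lt_of_lt hlt) (c * m)
      (by rw [hnUR]; exact hURP)
    have h2 := hR.restrict _ (U : Set G) _ h1 (SetLike.coe_subset_coe.mpr le_sup_left)
    refine h2.of_agree ?_
    intro u hu
    have hmu : m * u * m⁻¹ ∈ U := (Subgroup.mem_normalizer_iff.mp hm u).mp hu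
    have hcu := (Subgroup.mem_centralizer_iff.mp hc) (m * u * m⁻¹) hmu
    calc c * m * u * (c * m)⁻¹ = c * (m * u * m⁻¹) * c⁻¹ := by group
      _ = (m * u * m⁻¹) * c * c⁻¹ := by rw [hcu]
      _ = m * u * m⁻¹ := by group

/-- Let p be an odd prime and S a Sylow p-subgroup of the finite group G such that, for every subgroup P with Z(S) ≤ P ≤ S, the normalizer N_G(P) has no section isomorphic to SL₂(p). Let J(S) be the subgroup generated by the abelian subgroups of S of largest order. Then two elements of S are conjugate in G if and only if they are conjugate in N_G(Z(J(S))). -/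
theorem result {G : Type*} [Group G] [Finite G] {p : ℕ} [Fact p.Prime]
    (hp : p ≠ 2) (S : Sylow p G)
    (hfree : ∀ P : Subgroup G, (S : Subgroup G) ⊓ Subgroup.centralizer ((S : Subgroup G) : Set G) ≤ P → P ≤ S →
      ¬ ∃ (H K : Subgroup G) (hK : (K.subgroupOf H).Normal), H ≤ Subgroup.normalizer (P : Set G) ∧
        Nonempty ((H ⧸ K.subgroupOf H) ≃* Matrix.SpecialLinearGroup (Fin 2) (ZMod p))) :
    ∀ x ∈ S, ∀ y ∈ S, (∃ g : G, g * x * g⁻¹ = y) ↔
      ∃ n ∈ Subgroup.normalizer (Cfsg.centerThompsonAOf (S : Subgroup G) : Set G), n * x * n⁻¹ = y := by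
  intro x hx y hy
  constructor
  · rintro ⟨g, rfl⟩
    have hle : Subgroup.zpowers x ≤ (S : Subgroup G) := (Subgroup.zpowers_le).2 hx
    have hcj : cj g (Subgroup.zpowers x) ≤ (S : Subgroup G) := by
      show Subgroup.map (MulAut.conj g).toMonoidHom (Subgroup.zpowers x) ≤ _
      rw [MonoidHom.map_zpowers, Subgroup.zpowers_le]
      exact hy
    obtain ⟨_, _, n, hn, hag⟩ := cr_of_local_free hp S
      (fun U hZU hUS => free_of_hyp U (hfree U hZU hUS)) (Subgroup.zpowers x) hle g hcj
    refine ⟨n, ?_, hag x (Subgroup.mem_zpowers x)⟩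
    rw [Cfsg.Agent.S0653.centerThompsonAOf_eq]
    exact hn
  · rintro ⟨n, _, rfl⟩
    exact ⟨n, rfl⟩

end Cfsg.Agent.S3071
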