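import Cfsg.Statements.S3073
import Cfsg.Agent.Lib.Helper34_KInfGlue
import Cfsg.Agent.Lib.Helper33_KInfStable
import Cfsg.Agent.S0072

set_option autoImplicit false
universe u
open Cfsg

namespace Cfsg.Agent.S3073

/-- For an odd prime p, every finite p-group S has a characteristic subgroup K with C_S(K) ≤ K such that, whenever S is (isomorphic to) a Sylow p-subgroup of a finite group G, G has a normal p-complement if and only if N_G(K)/C_G(K) is a p-group, i.e. every element of N_G(K) of order prime to p centralizes K (K transported into G along the isomorphism). -/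
theorem result (p : ℕ) [Fact p.Prime] (hp : p ≠ 2)
    (S : Type u) [Group S] [Finite S] (hS : IsPGroup p S) :
    ∃ K : Subgroup S, K.Characteristic ∧ Subgroup.centralizer (K : Set S) ≤ K ∧
      ∀ (G : Type u) [Group G] [Finite G] (P : Sylow p G) (e : ↥(P : Subgroup G) ≃* S),
        Cfsg.HasNormalPComplement p G ↔
          ∀ g ∈ Subgroup.normalizer (((K.comap (e : ↥(P : Subgroup G) →* S)).map (P : Subgroup G).subtype : Subgroup G) : Set G),
            (orderOf g).Coprime p →
              g ∈ Subgroup.centralizer (((K.comap (e : ↥(P : Subgroup G) →* S)).map (P : Subgroup G).subtype : Subgroup G) : Set G) := by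
  classical
  have hW := Cfsg.Agent.Lib.Helper54_KInf.isCharPFunctor_kInfLower.{u} p
  have HN : Cfsg.Agent.Lib.Helper34_KInfGlue.NormalHyp.{u} p (fun Q _ => Cfsg.kInfLower Q) :=
    fun X _ _ hst' hc T => (Cfsg.Agent.Lib.Helper33_KInfStable.kInf_normal hst' hc T).1
  refine ⟨Cfsg.kInfLower S, ?_, (Cfsg.Agent.S1978.result hS).1, ?_⟩
  · rw [Subgroup.characteristic_iff_map_eq]
    intro φ
    exact Cfsg.Agent.Lib.Helper54_KInf.kInfLower_map φ
  · intro G _ _ P e
    have hK : ((Cfsg.kInfLower S).comap (e : ↥(P : Subgroup G) →* S)).map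
        (P : Subgroup G).subtype =
        Cfsg.inducedFunctor (G := G) (fun Q _ => Cfsg.kInfLower Q) (P : Subgroup G) := by
      unfold Cfsg.inducedFunctor
      congr 1
      have h2 := Cfsg.Agent.Lib.Helper54_KInf.kInfLower_map e
      rw [← h2]
      exact Subgroup.comap_map_eq_self_of_injective e.injective _
    rw [hK]
    constructor
    · intro hnpc
      rw [Cfsg.Agent.S0072.hasNPC_iff] at hnpc
      have hF := Cfsg.Agent.Lib.Helper35_FrobeniusNPC.frobHyp_of_hasNPC hnpc
      intro g hg hgo
      exact hF _ (P.2.to_le (Cfsg.Agent.Lib.Helper34_NPC.inducedFunctor_le _ _)) g hg hgo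
    · intro h
      exact Cfsg.Agent.Lib.Helper34_KInfGlue.npc_of_centralizes hp hW HN P
        (Cfsg.Agent.S1978.result (P := ↥(P : Subgroup G)) P.2).1 h

end Cfsg.Agent.S3073
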