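import Mathlib
import Cfsg.Statements.S3074
import Cfsg.Agent.Lib.Helper63_Heisenberg
import Cfsg.Agent.Lib.Helper46_Qd
import Cfsg.Agent.Lib.Helper35_PSL2Card

set_option autoImplicit false
open Cfsg

namespace Cfsg.Agent.S3074

open Cfsg.Agent.Lib.Helper63_Heisenberg Cfsg.Agent.Lib.Helper46_Qd

/-- the unitriangular matrix of a Heisenberg element -/
def heisMat {p : ℕ} (x : Heis 1 p) : Matrix (Fin 3) (Fin 3) (ZMod p) :=
  !![1, x.a 0, x.c; 0, 1, x.b 0; 0, 0, 1]

theorem heisMat_det {p : ℕ} (x : Heis 1 p) : (heisMat x).det = 1 := by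
  rw [Matrix.det_fin_three]
  simp [heisMat]

theorem heisMat_mul {p : ℕ} (x y : Heis 1 p) : heisMat (x * y) = heisMat x * heisMat y := by
  ext i j
  fin_cases i <;> fin_cases j <;>
    simp [heisMat, Matrix.mul_apply, Fin.sum_univ_three, dotProduct] <;> ring

theorem heisMat_one {p : ℕ} : heisMat (1 : Heis 1 p) = 1 := by
  ext i j
  fin_cases i <;> fin_cases j <;> simp [heisMat]

/-- the embedding of the Heisenberg group of order `p^3` into `Qd(p)` -/
def heisHom (p : ℕ) : Heis 1 p →* ↥(Cfsg.qd p) where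
  toFun x := ⟨⟨heisMat x, heisMat_det x⟩, Subgroup.subset_closure (by
    refine ⟨?_, ?_, ?_⟩ <;> simp [heisMat])⟩
  map_one' := by
    apply Subtype.ext
    apply Subtype.ext
    exact heisMat_one
  map_mul' x y := by
    apply Subtype.ext
    apply Subtype.ext
    exact heisMat_mul x y

theorem heisHom_injective (p : ℕ) : Function.Injective (heisHom p) := by
  intro x y h
  have h1 : heisMat x = heisMat y := by
    have := congrArg (fun t : ↥(Cfsg.qd p) =>
      ((t : Matrix.SpecialLinearGroup (Fin 3) (ZMod p)) : Matrix (Fin 3) (Fin 3) (ZMod p))) h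
    exact this
  have ha := congrFun (congrFun h1 0) 1
  have hc := congrFun (congrFun h1 0) 2
  have hb := congrFun (congrFun h1 1) 2
  simp [heisMat] at ha hb hc
  apply Heis.ext
  · funext i; fin_cases i; exact ha
  · funext i; fin_cases i; exact hb
  · exact hc

theorem card_qd (p : ℕ) [hp : Fact p.Prime] : Nat.card ↥(Cfsg.qd p) = p ^ 3 * (p ^ 2 - 1) := by
  rw [qd_eq, card_affineSub, Nat.card_zmod]
  have h := Cfsg.Agent.Lib.Helper35_PSL2Card.card_SL2_mul (F := ZMod p)
  rw [ZMod.card] at h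
  have hp2 : 2 ≤ p := hp.out.two_le
  have hpos : 0 < p - 1 := by omega
  have h2 : p ^ 2 - p = p * (p - 1) := by
    rw [Nat.mul_sub, mul_one, pow_two]
  rw [h2] at h
  have h3 : Nat.card (Matrix.SpecialLinearGroup (Fin 2) (ZMod p)) = (p ^ 2 - 1) * p := by
    apply Nat.eq_of_mul_eq_mul_right hpos
    rw [h]; ring
  rw [h3]; ring

/-- Let p be an odd prime. A Sylow p-subgroup of Qd(p), the split extension of an elementary abelian group of order p² by SL₂(p) acting naturally, is extraspecial of order p³ and exponent p. -/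
theorem result (p : ℕ) [Fact p.Prime] (hp : p ≠ 2) (P : Sylow p ↥(Cfsg.qd p)) :
    Cfsg.IsExtraspecial p ↥P ∧ Nat.card P = p ^ 3 ∧ Monoid.exponent ↥P = p := by
  have hpp : p.Prime := Fact.out
  haveI : NeZero p := ⟨hpp.ne_zero⟩
  haveI : Finite ↥(Cfsg.qd p) := by
    apply Nat.finite_of_card_ne_zero
    rw [card_qd]
    have : 2 ≤ p := hpp.two_le
    have h1 : 0 < p ^ 3 := by positivity
    have h2 : 0 < p ^ 2 - 1 := by
      have : 4 ≤ p ^ 2 := by nlinarith
      omega
    exact (Nat.mul_pos h1 h2).ne'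
  -- the factorization
  have hfac : (Nat.card ↥(Cfsg.qd p)).factorization p = 3 := by
    rw [card_qd]
    have h2 : p ^ 2 - 1 ≠ 0 := by
      have : 2 ≤ p := hpp.two_le
      have : 4 ≤ p ^ 2 := by nlinarith
      omega
    have hnd : ¬ p ∣ p ^ 2 - 1 := by
      intro hd
      have h3 : p ∣ p ^ 2 := dvd_pow_self p (by norm_num)
      have h4 : p ∣ p ^ 2 - (p ^ 2 - 1) := Nat.dvd_sub h3 hd
      have h5 : p ^ 2 - (p ^ 2 - 1) = 1 := by
        have : 1 ≤ p ^ 2 := Nat.one_le_pow _ _ hpp.pos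
        omega
      rw [h5] at h4
      exact hpp.one_lt.ne' (Nat.dvd_one.mp h4)
    rw [Nat.factorization_mul (pow_ne_zero 3 hpp.ne_zero) h2, Finsupp.add_apply,
      hpp.factorization_pow, Finsupp.single_eq_same, Nat.factorization_eq_zero_of_not_dvd hnd]
  have hcardR : Nat.card ↥(heisHom p).range = p ^ 3 := by
    rw [← Nat.card_congr (MonoidHom.ofInjective (heisHom_injective p)).toEquiv, Heis.card]
  let Q₀ : Sylow p ↥(Cfsg.qd p) := Sylow.ofCard (heisHom p).range (by rw [hcardR, hfac])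
  let e₁ : Heis 1 p ≃* ↥(Q₀ : Subgroup ↥(Cfsg.qd p)) :=
    MonoidHom.ofInjective (heisHom_injective p)
  let e : Heis 1 p ≃* ↥(P : Subgroup ↥(Cfsg.qd p)) := e₁.trans (Sylow.equiv Q₀ P)
  refine ⟨isExtraspecial_of_mulEquiv e (Heis.isExtraspecial hp le_rfl), ?_, ?_⟩
  · rw [← Nat.card_congr e.toEquiv, Heis.card]
  · refine (Monoid.exponent_eq_of_mulEquiv e).symm.trans ?_
    have h1 : Monoid.exponent (Heis 1 p) ∣ p :=
      Monoid.exponent_dvd_of_forall_pow_eq_one (Heis.pow_prime hp)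
    rcases (Nat.dvd_prime hpp).mp h1 with h | h
    · exfalso
      rw [Monoid.exp_eq_one_iff] at h
      have h2 : Nat.card (Heis 1 p) ≤ 1 := Finite.card_le_one_iff_subsingleton.mpr h
      rw [Heis.card] at h2
      have : 2 ≤ p := hpp.two_le
      have : 2 ^ (1 + 2 * 1) ≤ p ^ (1 + 2 * 1) := Nat.pow_le_pow_left this _
      omega
    · exact h

end Cfsg.Agent.S3074
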