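import Cfsg.Statements.S3075
import Mathlib.GroupTheory.SpecificGroups.Cyclic
import Mathlib.GroupTheory.Sylow
import Mathlib.Tactic

set_option autoImplicit false
set_option linter.unusedSectionVars false
open Cfsg

namespace Cfsg.Agent.S3075

section general

variable {N : Type*} [Group N]

/-- On a normal subgroup of prime order, `gh` and `hg` act in the same way. -/
theorem comm_on_prime [Finite N] {p : ℕ} [Fact p.Prime] (C : Subgroup N) (hC : Nat.card C = p)
    (hn : ∀ g : N, ∀ c ∈ C, g * c * g⁻¹ ∈ C) (g h : N) (c : N) (hc : c ∈ C) :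
    (g * h) * c * (g * h)⁻¹ = (h * g) * c * (h * g)⁻¹ := by
  have : IsCyclic ↥C := isCyclic_of_prime_card hC
  obtain ⟨c0, hc0⟩ := IsCyclic.exists_generator (α := ↥C)
  have hgen : ∀ x ∈ C, ∃ n : ℤ, (c0 : N) ^ n = x := by
    intro x hx
    obtain ⟨n, hn⟩ := Subgroup.mem_zpowers_iff.mp (hc0 ⟨x, hx⟩)
    exact ⟨n, by have := congrArg Subtype.val hn; simpa using this⟩
  obtain ⟨i, hi⟩ := hgen _ (hn g c0 c0.2)
  obtain ⟨j, hj⟩ := hgen _ (hn h c0 c0.2)
  obtain ⟨n, rfl⟩ := hgen c hc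
  have conj_zpow : ∀ (x y : N) (m : ℤ), x * y ^ m * x⁻¹ = (x * y * x⁻¹) ^ m := by
    intro x y m
    have := map_zpow (MulAut.conj x) y m
    simpa using this
  have e1 : (g * h) * (c0 : N) ^ n * (g * h)⁻¹ = (c0 : N) ^ (i * j * n) := by
    calc (g * h) * (c0 : N) ^ n * (g * h)⁻¹ = g * (h * (c0 : N) ^ n * h⁻¹) * g⁻¹ := by group
      _ = g * ((c0 : N) ^ j) ^ n * g⁻¹ := by rw [conj_zpow h, hj]
      _ = g * ((c0 : N) ^ (j * n)) * g⁻¹ := by rw [zpow_mul]
      _ = ((c0 : N) ^ i) ^ (j * n) := by rw [conj_zpow g, hi]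
      _ = (c0 : N) ^ (i * j * n) := by rw [← zpow_mul, mul_assoc]
  have e2 : (h * g) * (c0 : N) ^ n * (h * g)⁻¹ = (c0 : N) ^ (j * i * n) := by
    calc (h * g) * (c0 : N) ^ n * (h * g)⁻¹ = h * (g * (c0 : N) ^ n * g⁻¹) * h⁻¹ := by group
      _ = h * ((c0 : N) ^ i) ^ n * h⁻¹ := by rw [conj_zpow g, hi]
      _ = h * ((c0 : N) ^ (i * n)) * h⁻¹ := by rw [zpow_mul]
      _ = ((c0 : N) ^ j) ^ (i * n) := by rw [conj_zpow h, hj]
      _ = (c0 : N) ^ (j * i * n) := by rw [← zpow_mul, mul_assoc]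
  rw [e1, e2, mul_comm i j]

/-- a subgroup of a group of order `p^2` that is neither trivial nor everything has order `p` -/
theorem card_eq_p [Finite N] {p : ℕ} [Fact p.Prime] (A C : Subgroup N) (hA : Nat.card A = p ^ 2)
    (hCA : C ≤ A) (h1 : C ≠ ⊥) (h2 : C ≠ A) : Nat.card C = p := by
  have hp : p.Prime := Fact.out
  have hd : Nat.card C ∣ p ^ 2 := hA ▸ Subgroup.card_dvd_of_le hCA
  obtain ⟨i, hi, hci⟩ := (Nat.dvd_prime_pow hp).mp hd
  interval_cases i
  · exfalso
    apply h1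
    exact Subgroup.eq_bot_of_card_eq C (by simpa using hci)
  · simpa using hci
  · exfalso
    apply h2
    exact Subgroup.eq_of_le_of_card_ge hCA (by rw [hA, hci])

end general

/-- Let p be an odd prime and N a finite group with a normal elementary abelian subgroup A of order p² that is its own centralizer in N, such that N/A is isomorphic to SL₂(p) (over any field F with p elements). Then N splits over A: some subgroup U of N satisfies A ∩ U = 1 and AU = N. -/
theorem result {N : Type*} [Group N] [Finite N] {p : ℕ} [Fact p.Prime] (hp : p ≠ 2)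
    (A : Subgroup N) [A.Normal] (hAcomm : IsMulCommutative A) (hAcard : Nat.card A = p ^ 2) (hAexp : Monoid.exponent ↥A = p)
    (hAself : Subgroup.centralizer (A : Set N) = A)
    {F : Type*} [Field F] [Fintype F] (hF : Fintype.card F = p) (e : N ⧸ A ≃* Matrix.SpecialLinearGroup (Fin 2) F) :
    ∃ U : Subgroup N, A ⊓ U = ⊥ ∧ A ⊔ U = ⊤ := by
  classical
  have hpp : p.Prime := Fact.out
  obtain ⟨k, hk⟩ : ∃ k, p = 2 * k + 1 := by
    rcases hpp.eq_two_or_odd with h | h
    · exact absurd h hp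
    · exact ⟨p / 2, by omega⟩
  -- the projection
  let π : N →* Matrix.SpecialLinearGroup (Fin 2) F := e.toMonoidHom.comp (QuotientGroup.mk' A)
  have hπsurj : Function.Surjective π := by
    intro y
    obtain ⟨q, hq⟩ := e.surjective y
    obtain ⟨g, hg⟩ := QuotientGroup.mk'_surjective A q
    refine ⟨g, ?_⟩
    show e (QuotientGroup.mk' A g) = y
    rw [hg, hq]
  have hπker : ∀ g : N, π g = 1 ↔ g ∈ A := by
    intro g
    simp only [π, MonoidHom.coe_comp, Function.comp_apply, MulEquiv.coe_toMonoidHom,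
      QuotientGroup.mk'_apply]
    rw [MulEquiv.map_eq_one_iff, QuotientGroup.eq_one_iff]
  -- abelian-ness and exponent of A
  have hAab : ∀ a ∈ A, ∀ b ∈ A, a * b = b * a := by
    intro a ha b hb
    have := hAcomm.is_comm.comm (⟨a, ha⟩ : ↥A) ⟨b, hb⟩
    exact congrArg Subtype.val this
  have hAp : ∀ a ∈ A, a ^ p = 1 := by
    intro a ha
    have := Monoid.pow_exponent_eq_one (⟨a, ha⟩ : ↥A)
    rw [hAexp] at this
    exact congrArg Subtype.val this
  have hsqrt : ∀ a ∈ A, (a ^ (k + 1)) ^ 2 = a := by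
    intro a ha
    rw [← pow_mul]
    have : (k + 1) * 2 = p + 1 := by omega
    rw [this, pow_succ, hAp a ha, one_mul]
  have hsq1 : ∀ a ∈ A, a ^ 2 = 1 → a = 1 := by
    intro a ha h2
    rw [← hsqrt a ha, pow_right_comm, h2, one_pow]
  -- the central element -1 of SL₂
  have h2F : (2 : F) ≠ 0 := by
    intro h2
    have hpF : ((p : ℕ) : F) = 0 := by
      rw [← hF]; exact Nat.cast_card_eq_zero F
    rw [hk] at hpF
    push_cast at hpF
    rw [h2, zero_mul, zero_add] at hpF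
    exact one_ne_zero hpF
  let z : Matrix.SpecialLinearGroup (Fin 2) F :=
    ⟨-(1 : Matrix (Fin 2) (Fin 2) F), by simp [Matrix.det_neg]⟩
  have hzcentral : ∀ y : Matrix.SpecialLinearGroup (Fin 2) F, y * z = z * y := by
    intro y
    apply Subtype.ext
    show (y : Matrix (Fin 2) (Fin 2) F) * (-1) = (-1) * (y : Matrix (Fin 2) (Fin 2) F)
    simp
  have hzz : z * z = 1 := by
    apply Subtype.ext
    show (-1 : Matrix (Fin 2) (Fin 2) F) * (-1) = 1
    simp
  have hz1 : z ≠ 1 := by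
    intro h
    have h00 := congrArg (fun m : Matrix.SpecialLinearGroup (Fin 2) F => (m : Matrix (Fin 2) (Fin 2) F) 0 0) h
    simp only [z, Matrix.SpecialLinearGroup.coe_one, Matrix.neg_apply, Matrix.one_apply_eq] at h00
    have : (2 : F) = 0 := by linear_combination -h00
    exact h2F this
  have hzp : z ^ p = z := by
    rw [hk, pow_succ, pow_mul, pow_two, hzz, one_pow, one_mul]
  -- the involution t
  obtain ⟨t0, ht0⟩ := hπsurj z
  let t : N := t0 ^ p
  have hπt : π t = z := by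
    simp only [t, map_pow, ht0, hzp]
  have htt : t * t = 1 := by
    have h1 : t0 ^ 2 ∈ A := by
      rw [← hπker, map_pow, ht0, pow_two, hzz]
    have := hAp _ h1
    calc t * t = (t0 ^ 2) ^ p := by
          simp only [t]; rw [← pow_add, ← pow_mul]; congr 1; ring
      _ = 1 := this
  have htinv : t⁻¹ = t := inv_eq_of_mul_eq_one_left htt
  have htA : t ∉ A := by
    intro h
    rw [← hπker, hπt] at h
    exact hz1 h
  have hc : ∀ g : N, g * t * g⁻¹ * t⁻¹ ∈ A := by
    intro g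
    rw [← hπker]
    simp only [map_mul, map_inv, hπt]
    rw [hzcentral (π g)]
    group
  -- τ a = t a t⁻¹ commutes with conjugation
  have hconjA : ∀ g : N, ∀ a ∈ A, g * a * g⁻¹ ∈ A := fun g a ha =>
    Subgroup.Normal.conj_mem inferInstance a ha g
  have L1 : ∀ g : N, ∀ a ∈ A, t * (g * a * g⁻¹) * t⁻¹ = g * (t * a * t⁻¹) * g⁻¹ := by
    intro g a ha
    have hc' : g⁻¹ * t * g * t⁻¹ ∈ A := by
      have := hc g⁻¹
      rwa [inv_inv] at this
    have hta : t * a * t⁻¹ ∈ A := hconjA t a ha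
    have hcomm := hAab _ hc' _ hta
    calc t * (g * a * g⁻¹) * t⁻¹
        = g * ((g⁻¹ * t * g * t⁻¹) * (t * a * t⁻¹)) * (g⁻¹ * t * g * t⁻¹)⁻¹ * g⁻¹ := by group
      _ = g * ((t * a * t⁻¹) * (g⁻¹ * t * g * t⁻¹)) * (g⁻¹ * t * g * t⁻¹)⁻¹ * g⁻¹ := by rw [hcomm]
      _ = g * (t * a * t⁻¹) * g⁻¹ := by group
  have hττ : ∀ a : N, t * (t * a * t⁻¹) * t⁻¹ = a := by
    intro a
    calc t * (t * a * t⁻¹) * t⁻¹ = (t * t) * a * (t * t)⁻¹ := by group
      _ = a := by rw [htt]; group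
  -- the eigen-subgroups
  let Ap : Subgroup N := A ⊓ Subgroup.centralizer ({t} : Set N)
  let Am : Subgroup N :=
    { carrier := {a | a ∈ A ∧ t * a * t⁻¹ = a⁻¹}
      one_mem' := ⟨A.one_mem, by group⟩
      mul_mem' := by
        rintro a b ⟨ha, ha'⟩ ⟨hb, hb'⟩
        refine ⟨A.mul_mem ha hb, ?_⟩
        calc t * (a * b) * t⁻¹ = (t * a * t⁻¹) * (t * b * t⁻¹) := by group
          _ = a⁻¹ * b⁻¹ := by rw [ha', hb']
          _ = (a * b)⁻¹ := by
            rw [mul_inv_rev]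
            exact hAab _ (A.inv_mem ha) _ (A.inv_mem hb)
      inv_mem' := by
        rintro a ⟨ha, ha'⟩
        refine ⟨A.inv_mem ha, ?_⟩
        calc t * a⁻¹ * t⁻¹ = (t * a * t⁻¹)⁻¹ := by group
          _ = a⁻¹⁻¹ := by rw [ha'] }
  have hApmem : ∀ a : N, a ∈ Ap ↔ a ∈ A ∧ t * a * t⁻¹ = a := by
    intro a
    simp only [Ap, Subgroup.mem_inf, Subgroup.mem_centralizer_singleton_iff]
    constructor
    · rintro ⟨ha, h⟩
      exact ⟨ha, by rw [← h]; group⟩
    · rintro ⟨ha, h⟩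
      refine ⟨ha, ?_⟩
      calc a * t = (t * a * t⁻¹) * t := by rw [h]
        _ = t * a := by group
  have hAmmem : ∀ a : N, a ∈ Am ↔ a ∈ A ∧ t * a * t⁻¹ = a⁻¹ := fun a => Iff.rfl
  have hApA : Ap ≤ A := inf_le_left
  have hAmA : Am ≤ A := fun a ha => ha.1
  -- decomposition
  have hdec : ∀ a ∈ A, ∃ x ∈ Ap, ∃ y ∈ Am, a = x * y := by
    intro a ha
    have hta : t * a * t⁻¹ ∈ A := hconjA t a ha
    refine ⟨(a * (t * a * t⁻¹)) ^ (k + 1), ?_, (a * (t * a * t⁻¹)⁻¹) ^ (k + 1), ?_, ?_⟩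
    · rw [hApmem]
      refine ⟨A.pow_mem (A.mul_mem ha hta) _, ?_⟩
      have : t * (a * (t * a * t⁻¹)) * t⁻¹ = a * (t * a * t⁻¹) := by
        calc t * (a * (t * a * t⁻¹)) * t⁻¹ = (t * a * t⁻¹) * (t * (t * a * t⁻¹) * t⁻¹) := by group
          _ = (t * a * t⁻¹) * a := by rw [hττ]
          _ = a * (t * a * t⁻¹) := hAab _ hta _ ha
      have h2 := map_pow (MulAut.conj t) (a * (t * a * t⁻¹)) (k + 1)
      simp only [MulAut.conj_apply] at h2
      rw [h2, this]
    · rw [hAmmem]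
      refine ⟨A.pow_mem (A.mul_mem ha (A.inv_mem hta)) _, ?_⟩
      have : t * (a * (t * a * t⁻¹)⁻¹) * t⁻¹ = (a * (t * a * t⁻¹)⁻¹)⁻¹ := by
        calc t * (a * (t * a * t⁻¹)⁻¹) * t⁻¹ = (t * a * t⁻¹) * (t * (t * a * t⁻¹) * t⁻¹)⁻¹ := by group
          _ = (t * a * t⁻¹) * a⁻¹ := by rw [hττ]
          _ = (a * (t * a * t⁻¹)⁻¹)⁻¹ := by group
      have h2 := map_pow (MulAut.conj t) (a * (t * a * t⁻¹)⁻¹) (k + 1)
      simp only [MulAut.conj_apply] at h2
      rw [h2, this, inv_pow]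
    · have hcomm : Commute (a * (t * a * t⁻¹)) (a * (t * a * t⁻¹)⁻¹) :=
        hAab _ (A.mul_mem ha hta) _ (A.mul_mem ha (A.inv_mem hta))
      rw [← hcomm.mul_pow]
      have : a * (t * a * t⁻¹) * (a * (t * a * t⁻¹)⁻¹) = a ^ 2 := by
        calc a * (t * a * t⁻¹) * (a * (t * a * t⁻¹)⁻¹)
            = a * ((t * a * t⁻¹) * a) * (t * a * t⁻¹)⁻¹ := by group
          _ = a * (a * (t * a * t⁻¹)) * (t * a * t⁻¹)⁻¹ := by rw [hAab _ hta _ ha]
          _ = a ^ 2 := by rw [pow_two]; group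
      rw [this, pow_right_comm]
      exact (hsqrt a ha).symm
  -- normality of the eigen-subgroups
  have hApn : ∀ g : N, ∀ c ∈ Ap, g * c * g⁻¹ ∈ Ap := by
    intro g c hcm
    rw [hApmem] at hcm ⊢
    exact ⟨hconjA g c hcm.1, by rw [L1 g c hcm.1, hcm.2]⟩
  have hAmn : ∀ g : N, ∀ c ∈ Am, g * c * g⁻¹ ∈ Am := by
    intro g c hcm
    rw [hAmmem] at hcm ⊢
    refine ⟨hconjA g c hcm.1, ?_⟩
    rw [L1 g c hcm.1, hcm.2]; group
  -- SL₂(F) is not commutative
  have hnc : ∃ x y : Matrix.SpecialLinearGroup (Fin 2) F, x * y ≠ y * x := by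
    let x : Matrix.SpecialLinearGroup (Fin 2) F := ⟨!![1, 1; 0, 1], by simp [Matrix.det_fin_two]⟩
    let y : Matrix.SpecialLinearGroup (Fin 2) F := ⟨!![1, 0; 1, 1], by simp [Matrix.det_fin_two]⟩
    refine ⟨x, y, ?_⟩
    intro h
    have h' : (!![1, 1; 0, 1] : Matrix (Fin 2) (Fin 2) F) * !![1, 0; 1, 1] =
        !![1, 0; 1, 1] * !![1, 1; 0, 1] := congrArg Subtype.val h
    have h00 := congrFun (congrFun h' 0) 0
    simp [Matrix.mul_apply, Fin.sum_univ_two] at h00
  -- the fixed points of t on A are trivial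
  have hApbot : Ap = ⊥ := by
    by_contra hne
    have hApne : Ap ≠ A := by
      intro h
      apply htA
      rw [← hAself, Subgroup.mem_centralizer_iff]
      intro a ha
      have : a ∈ Ap := by rw [h]; exact ha
      rw [hApmem] at this
      calc a * t = (t * a * t⁻¹) * t := by rw [this.2]
        _ = t * a := by group
    have hAmne : Am ≠ A := by
      intro h
      apply hne
      rw [Subgroup.eq_bot_iff_forall]
      intro a ha
      have ha' : a ∈ Am := by rw [h]; exact hApA ha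
      rw [hApmem] at ha
      rw [hAmmem] at ha'
      apply hsq1 a ha.1
      have : a = a⁻¹ := ha.2.symm.trans ha'.2
      calc a ^ 2 = a * a := pow_two a
        _ = a * a⁻¹ := by rw [← this]
        _ = 1 := mul_inv_cancel a
    have hAmbot : Am ≠ ⊥ := by
      intro h
      apply hApne
      apply le_antisymm hApA
      intro a ha
      obtain ⟨x, hx, y, hy, rfl⟩ := hdec a ha
      rw [h, Subgroup.mem_bot] at hy
      rw [hy, mul_one]; exact hx
    have hcp : Nat.card Ap = p := card_eq_p A Ap hAcard hApA hne hApne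
    have hcm : Nat.card Am = p := card_eq_p A Am hAcard hAmA hAmbot hAmne
    obtain ⟨x, y, hxy⟩ := hnc
    obtain ⟨g, rfl⟩ := hπsurj x
    obtain ⟨h, rfl⟩ := hπsurj y
    apply hxy
    have hmem : (h * g)⁻¹ * (g * h) ∈ A := by
      rw [← hAself, Subgroup.mem_centralizer_iff]
      intro a ha
      obtain ⟨u, hu, v, hv, rfl⟩ := hdec a ha
      have e1 := comm_on_prime Ap hcp hApn g h u hu
      have e2 := comm_on_prime Am hcm hAmn g h v hv
      have e3 : (g * h) * (u * v) * (g * h)⁻¹ = (h * g) * (u * v) * (h * g)⁻¹ := by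
        calc (g * h) * (u * v) * (g * h)⁻¹
            = ((g * h) * u * (g * h)⁻¹) * ((g * h) * v * (g * h)⁻¹) := by group
          _ = ((h * g) * u * (h * g)⁻¹) * ((h * g) * v * (h * g)⁻¹) := by rw [e1, e2]
          _ = (h * g) * (u * v) * (h * g)⁻¹ := by group
      calc u * v * ((h * g)⁻¹ * (g * h))
          = (h * g)⁻¹ * ((h * g) * (u * v) * (h * g)⁻¹) * (g * h) := by group
        _ = (h * g)⁻¹ * ((g * h) * (u * v) * (g * h)⁻¹) * (g * h) := by rw [e3]
        _ = (h * g)⁻¹ * (g * h) * (u * v) := by group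
    rw [← hπker] at hmem
    simp only [map_mul, map_inv] at hmem
    rw [← map_mul, ← map_mul]
    have := inv_mul_eq_one.mp hmem
    rw [← map_mul, ← map_mul] at this
    exact this.symm
  -- t inverts A
  have hinv : ∀ a ∈ A, t * a * t⁻¹ = a⁻¹ := by
    intro a ha
    obtain ⟨x, hx, y, hy, rfl⟩ := hdec a ha
    rw [hApbot, Subgroup.mem_bot] at hx
    rw [hx, one_mul]
    exact hy.2
  refine ⟨Subgroup.centralizer ({t} : Set N), hApbot, ?_⟩
  rw [eq_top_iff]
  intro g _
  set c := g * t * g⁻¹ * t⁻¹ with hcdef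
  have hcA : c ∈ A := hc g
  set b := c ^ (k + 1) with hbdef
  have hbA : b ∈ A := A.pow_mem hcA _
  have hb2 : b * b = c := by rw [← pow_two]; exact hsqrt c hcA
  have hbt : b * t * b⁻¹ = c * t := by
    have h1 : t * b⁻¹ * t⁻¹ = b := by
      have := hinv b⁻¹ (A.inv_mem hbA)
      rwa [inv_inv] at this
    calc b * t * b⁻¹ = b * (t * b⁻¹ * t⁻¹) * t := by group
      _ = b * b * t := by rw [h1]
      _ = c * t := by rw [hb2]
  have hU : b⁻¹ * g ∈ Subgroup.centralizer ({t} : Set N) := by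
    rw [Subgroup.mem_centralizer_singleton_iff]
    have h1 : g * t * g⁻¹ = c * t := by rw [hcdef]; group
    have h2 : g * t * g⁻¹ = b * t * b⁻¹ := by rw [h1, hbt]
    calc b⁻¹ * g * t = b⁻¹ * (g * t * g⁻¹) * g := by group
      _ = b⁻¹ * (b * t * b⁻¹) * g := by rw [h2]
      _ = t * (b⁻¹ * g) := by group
  have : g = b * (b⁻¹ * g) := by group
  rw [this]
  exact Subgroup.mul_mem_sup hbA hU

end Cfsg.Agent.S3075
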