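import Cfsg.Statements.S3078
import Cfsg.Agent.S0649
import Cfsg.Agent.S0650

set_option autoImplicit false
open Cfsg
open scoped commutatorElement

namespace Cfsg.Agent.S3078

open Cfsg.Agent.S0650

section generic

variable {S : Type*} [Group S]

/-- The elements of an abelian subgroup with trivial `p`-th power. -/
def omegaSub (p : ℕ) (H : Subgroup S) (hH : IsMulCommutative H) : Subgroup S where
  carrier := {x | x ∈ H ∧ x ^ p = 1}
  one_mem' := ⟨H.one_mem, one_pow _⟩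
  mul_mem' := by
    rintro x y ⟨hx, hxp⟩ ⟨hy, hyp⟩
    refine ⟨H.mul_mem hx hy, ?_⟩
    have hc : Commute x y := congrArg Subtype.val (mul_comm' (⟨x, hx⟩ : H) ⟨y, hy⟩)
    rw [hc.mul_pow, hxp, hyp, one_mul]
  inv_mem' := by
    rintro x ⟨hx, hxp⟩
    exact ⟨H.inv_mem hx, by rw [inv_pow, hxp, inv_one]⟩

theorem mem_omegaSub {p : ℕ} {H : Subgroup S} {hH : IsMulCommutative H} {x : S} :
    x ∈ omegaSub p H hH ↔ x ∈ H ∧ x ^ p = 1 := Iff.rfl

/-- An index comparison from a map reflecting the coset relation. -/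
theorem index_le_of_map {K₁ K₂ : Type*} [Group K₁] [Group K₂] [Finite K₂]
    (H₁ : Subgroup K₁) (H₂ : Subgroup K₂) (f : K₁ → K₂)
    (hf : ∀ a c, (f a)⁻¹ * f c ∈ H₂ → a⁻¹ * c ∈ H₁) : H₁.index ≤ H₂.index := by
  unfold Subgroup.index
  apply Nat.card_le_card_of_injective
    (fun q : K₁ ⧸ H₁ => (QuotientGroup.mk (f (Quotient.out q)) : K₂ ⧸ H₂))
  intro q₁ q₂ h
  have h1 : (f (Quotient.out q₁))⁻¹ * f (Quotient.out q₂) ∈ H₂ := QuotientGroup.eq.mp h
  have h2 := hf _ _ h1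
  have h3 : (QuotientGroup.mk (Quotient.out q₁) : K₁ ⧸ H₁) = QuotientGroup.mk (Quotient.out q₂) :=
    QuotientGroup.eq.mpr h2
  simpa using h3

variable {A B : Subgroup S} {b : S}

namespace HypX

variable (h : Hyp A B b)
include h

theorem uu_pow_prime [Finite S] {p : ℕ} [hp : Fact p.Prime] (hp2 : p ≠ 2)
    {a : S} (ha : a ∈ A) (hap : a ^ p = 1) : (uu b a) ^ p = 1 := by
  obtain ⟨x, hx⟩ : ∃ x, x = b⁻¹ * a⁻¹ * b := ⟨_, rfl⟩
  obtain ⟨c, hc⟩ : ∃ c, c = x⁻¹ * a⁻¹ * x * a := ⟨_, rfl⟩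
  have hxAb : x ∈ Ab A b := by rw [hx]; exact conj_mem_Ab (A.inv_mem ha)
  have hcZ : c ∈ A ⊓ Ab A b := by
    have h1 := h.comm_mem_Z (A.inv_mem ha) (Subgroup.inv_mem _ hxAb)
    have e : c = (a⁻¹ * x⁻¹ * a⁻¹⁻¹ * x⁻¹⁻¹)⁻¹ := by rw [hc]; group
    rw [e]
    exact Subgroup.inv_mem _ h1
  have hrel : x * a = a * x * c := by rw [hc]; group
  have hca : Commute c a := h.comm_Z_A hcZ ha
  have hcx : Commute c x := h.comm_Z_Ab hcZ hxAb
  have e1 : uu b a = a * x := by rw [hx]; unfold uu; group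
  have hodd : Nat.Coprime p 2 := (Nat.coprime_primes hp.out Nat.prime_two).mpr hp2
  have hxe : x ^ p = 1 := by
    have e : x ^ p = b⁻¹ * (a⁻¹) ^ p * b := by
      rw [hx]
      have := conj_pow (a := b⁻¹) (b := a⁻¹) (i := p)
      rw [inv_inv] at this
      exact this
    rw [e, inv_pow, hap]; group
  have hcp : c ^ p = 1 := by
    have := pow_mul_comm_central hrel hcx p
    rw [hxe, one_mul, mul_one] at this
    exact (mul_eq_left.mp this.symm)
  rw [e1, mul_pow_of_central hrel hca hcx, hap, hxe, one_mul, one_mul]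
  obtain ⟨m, hm⟩ := dvd_sum_range_of_odd hodd
  rw [hm, pow_mul, hcp, one_pow]

section cardX

variable [Finite S] {p : ℕ} [Fact p.Prime] (hS : IsPGroup p S) (hB2 : p = 2 → IsMulCommutative B)
include hS hB2

theorem uu_mul_mod_Z {a c : S} (ha : a ∈ A) (hc : c ∈ A) :
    (uu b (a * c))⁻¹ * (uu b a * uu b c) ∈ A ⊓ Ab A b := by
  have hz := h.comm_Tb_mem_Z ha (uu_mem_Tb hc)
  have hcm : Commute (uu b a) (uu b c) :=
    h.comm_Tb hS hB2 (uu_mem_Tb ha) (uu_mem_Tb hc)
  have e : (uu b (a * c))⁻¹ * (uu b a * uu b c) =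
      (uu b a)⁻¹ * (uu b c)⁻¹ * (a * uu b c * a⁻¹ * (uu b c)⁻¹)⁻¹ *
        (uu b a * uu b c) := by
    rw [uu_mul]; group
  rw [e]
  have hcm2 : Commute (a * uu b c * a⁻¹ * (uu b c)⁻¹)⁻¹ (uu b a * uu b c) :=
    ((h.comm_Z_Tb hz (uu_mem_Tb ha)).mul_right (h.comm_Z_Tb hz (uu_mem_Tb hc))).inv_left
  have e2 : (uu b a)⁻¹ * (uu b c)⁻¹ * (a * uu b c * a⁻¹ * (uu b c)⁻¹)⁻¹ *
        (uu b a * uu b c) =
      ((uu b a)⁻¹ * (uu b c)⁻¹ * (uu b a * uu b c)) *
        (a * uu b c * a⁻¹ * (uu b c)⁻¹)⁻¹ := by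
    rw [mul_assoc, hcm2.eq, ← mul_assoc]
  rw [e2]
  have e3 : (uu b a)⁻¹ * (uu b c)⁻¹ * (uu b a * uu b c) = 1 := by
    rw [hcm.eq]; group
  rw [e3, one_mul]
  exact Subgroup.inv_mem _ hz

theorem uu_inv_mul_mem_Z {a c : S} (ha : a ∈ A) (hc : c ∈ A)
    (hu : (uu b a)⁻¹ * uu b c ∈ A ⊓ Ab A b) : a⁻¹ * c ∈ A ⊓ Ab A b := by
  have hac : a⁻¹ * c ∈ A := A.mul_mem (A.inv_mem ha) hc
  have h1 := uu_mul_mod_Z h hS hB2 ha hac
  have e0 : a * (a⁻¹ * c) = c := by group
  rw [e0] at h1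
  rw [← h.uu_mem_Z_iff hac]
  -- uu b (a⁻¹ c) = (uu b a)⁻¹ * (uu b c * z)
  have e : uu b (a⁻¹ * c) =
      ((uu b a)⁻¹ * uu b c) * ((uu b c)⁻¹ * (uu b a * uu b (a⁻¹ * c))) := by group
  rw [e]
  exact Subgroup.mul_mem _ hu h1

theorem card_omegaSub_le (hp2 : p ≠ 2) (hAst : IsMulCommutative (Astar A b)) :
    Nat.card (omegaSub p A h.hA) ≤ Nat.card (omegaSub p (Astar A b) hAst) := by
  have hZc : IsMulCommutative ↥(A ⊓ Ab A b) := by
    have := h.hA
    rw [← Subgroup.le_centralizer_iff_isMulCommutative] at this ⊢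
    exact (inf_le_left.trans this).trans (Subgroup.centralizer_le (by intro x hx; exact hx.1))
  set W := omegaSub p A h.hA with hW
  set Wst := omegaSub p (Astar A b) hAst with hWst
  set WZ := omegaSub p (A ⊓ Ab A b) hZc with hWZ
  have hWZW : WZ ≤ W := fun x hx => ⟨hx.1.1, hx.2⟩
  have hWZWst : WZ ≤ Wst := fun x hx => ⟨h.Z_le_Astar hx.1, hx.2⟩
  have hmem : ∀ a : W, uu b (a : S) ∈ Wst := fun a =>
    ⟨h.uu_mem_Astar hS hB2 a.2.1, HypX.uu_pow_prime h hp2 a.2.1 a.2.2⟩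
  have hidx : (WZ.subgroupOf W).index ≤ (WZ.subgroupOf Wst).index := by
    apply index_le_of_map (WZ.subgroupOf W) (WZ.subgroupOf Wst)
      (fun a : W => (⟨uu b (a : S), hmem a⟩ : Wst))
    intro a c hac
    rw [Subgroup.mem_subgroupOf] at hac ⊢
    have hac' : (uu b (a : S))⁻¹ * uu b (c : S) ∈ WZ := hac
    have := uu_inv_mul_mem_Z h hS hB2 a.2.1 c.2.1 hac'.1
    refine ⟨this, ?_⟩
    have hm : ((a⁻¹ * c : W) : S) ∈ W := (a⁻¹ * c).2
    exact hm.2
  have c1 : Nat.card W = Nat.card WZ * (WZ.subgroupOf W).index := by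
    rw [← Subgroup.card_mul_index (WZ.subgroupOf W)]
    congr 1
    exact Nat.card_congr (Subgroup.subgroupOfEquivOfLe hWZW).toEquiv
  have c2 : Nat.card Wst = Nat.card WZ * (WZ.subgroupOf Wst).index := by
    rw [← Subgroup.card_mul_index (WZ.subgroupOf Wst)]
    congr 1
    exact Nat.card_congr (Subgroup.subgroupOfEquivOfLe hWZWst).toEquiv
  rw [c1, c2]
  exact Nat.mul_le_mul_left _ hidx

end cardX

end HypX

end generic

section transfer

variable {G : Type*} [Group G]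

theorem omegaOne_map_subtype (p : ℕ) (M : Subgroup G) (K : Subgroup M) (hK : IsMulCommutative K) :
    Cfsg.omegaOne p (K.map M.subtype) = (omegaSub p K hK).map M.subtype := by
  unfold Cfsg.omegaOne
  have : {x : G | x ∈ K.map M.subtype ∧ x ^ p = 1} = ((omegaSub p K hK).map M.subtype : Set G) := by
    ext x
    constructor
    · rintro ⟨⟨y, hy, rfl⟩, hxp⟩
      refine ⟨y, ⟨hy, ?_⟩, rfl⟩
      apply Subtype.ext
      simpa using hxp
    · rintro ⟨y, ⟨hy, hyp⟩, rfl⟩
      refine ⟨⟨y, hy, rfl⟩, ?_⟩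
      have := congrArg Subtype.val hyp
      simpa using this
  rw [this, Subgroup.closure_eq]

theorem card_omegaOne_map_subtype (p : ℕ) (M : Subgroup G) (K : Subgroup M)
    (hK : IsMulCommutative K) :
    Nat.card (Cfsg.omegaOne p (K.map M.subtype)) = Nat.card (omegaSub p K hK) := by
  rw [omegaOne_map_subtype p M K hK]
  exact Subgroup.card_map_of_injective M.subtype_injective

end transfer

theorem result {G : Type*} [Group G] [Finite G] {p : ℕ} [Fact p.Prime] (hp : p ≠ 2) (hG : IsPGroup p G) (A B : Subgroup G) (hA : IsMulCommutative A) (hB2 : ⁅⁅B, B⁆, B⁆ = ⊥) (hBA : ⁅B, B⁆ ≤ A) (hAB : A ≤ Subgroup.normalizer (B : Set G)) (hBnA : ¬ B ≤ Subgroup.normalizer (A : Set G)) : ∃ Astar : Subgroup G, IsMulCommutative Astar ∧ Nat.card Astar = Nat.card A ∧ A ⊓ B < Astar ⊓ B ∧ Astar ≤ Subgroup.normalizer (A : Set G) ∧ Astar ≤ Subgroup.normalClosure (A : Set G) ∧ Monoid.exponent Astar ∣ Monoid.exponent A ∧ Nat.card (Cfsg.omegaOne p A) ≤ Nat.card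 (Cfsg.omegaOne p Astar) := by
  classical
  set M : Subgroup G := Subgroup.normalizer (B : Set G) with hM
  have hBM : B ≤ M := Subgroup.le_normalizer
  set A' : Subgroup M := A.subgroupOf M with hA'
  set B' : Subgroup M := B.subgroupOf M with hB'
  have hmapA : A'.map M.subtype = A := Subgroup.map_subgroupOf_eq_of_le hAB
  have hmapB : B'.map M.subtype = B := Subgroup.map_subgroupOf_eq_of_le hBM
  have hinj : Function.Injective M.subtype := M.subtype_injective
  have hS' : IsPGroup p M := hG.to_subgroup M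
  have hnil : Group.IsNilpotent M := hS'.isNilpotent
  have hB'n : B'.Normal := Subgroup.normal_in_normalizer
  have hA'c : IsMulCommutative A' := inferInstance
  have hBA' : ⁅B', B'⁆ ≤ A' := by
    rw [hA', Subgroup.subgroupOf, ← Subgroup.map_le_iff_le_comap, Subgroup.map_commutator, hmapB]
    exact hBA
  have hNeq : Subgroup.normalizer (A' : Set M) = (Subgroup.normalizer (A : Set G)).subgroupOf M :=
    (Subgroup.subgroupOf_normalizer_eq hAB).symm
  have hnot' : ¬ B' ≤ Subgroup.normalizer (A' : Set M) := by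
    intro hle
    apply hBnA
    intro x hx
    have h1 : (⟨x, hBM hx⟩ : M) ∈ B' := by
      rw [hB', Subgroup.mem_subgroupOf]; exact hx
    have h2 := hle h1
    rw [hNeq, Subgroup.mem_subgroupOf] at h2
    exact h2
  obtain ⟨b, hbB, hbNN, hbN⟩ :=
    Cfsg.Agent.S0649.exists_mem_normalizer_not_mem B' (Subgroup.normalizer (A' : Set M)) hnot'
  have hyp : Hyp A' B' b :=
    { hBn := hB'n
      hA := hA'c
      hBA := hBA'
      hb := hbB
      hbN := hbNN
      hbA := hbN }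
  have hB2' : p = 2 → IsMulCommutative B' := fun h => absurd h hp
  set Ast' : Subgroup M := Cfsg.Agent.S0650.Astar A' b with hAst'
  have hcard : Nat.card Ast' = Nat.card A' := hyp.card_Astar hS' hB2'
  have hcomm : IsMulCommutative Ast' := hyp.isMulCommutative_Astar hS' hB2'
  have hlt : A' ⊓ B' < Ast' ⊓ B' := hyp.inf_B_lt
  have hleN : Ast' ≤ Subgroup.normalizer (A' : Set M) := hyp.Astar_le_N
  have hexp : Monoid.exponent Ast' ∣ Monoid.exponent A' := hyp.exponent_Astar_dvd hS' hB2' hp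
  have hom := HypX.card_omegaSub_le hyp hS' hB2' hp hcomm
  refine ⟨Ast'.map M.subtype, inferInstance, ?_, ?_, ?_, ?_, ?_, ?_⟩
  · rw [Subgroup.card_map_of_injective hinj, hcard, ← hmapA,
      Subgroup.card_map_of_injective hinj]
  · have := (Subgroup.map_lt_map_iff_of_injective hinj).mpr hlt
    rw [Subgroup.map_inf _ _ _ hinj, Subgroup.map_inf _ _ _ hinj, hmapA, hmapB] at this
    exact this
  · rw [Subgroup.map_le_iff_le_comap]
    rw [hNeq] at hleN
    exact hleN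
  · rw [Subgroup.map_le_iff_le_comap]
    set N' : Subgroup M := (Subgroup.normalClosure (A : Set G)).comap M.subtype with hN'
    have hN'n : N'.Normal := Subgroup.Normal.comap Subgroup.normalClosure_normal _
    have hA'N : A' ≤ N' := by
      intro x hx
      rw [hN', Subgroup.mem_comap]
      exact Subgroup.le_normalClosure (Subgroup.mem_subgroupOf.mp hx)
    apply sup_le
    · exact inf_le_left.trans hA'N
    · rw [Subgroup.closure_le]
      rintro g ⟨a, ha, rfl⟩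
      have haN : a ∈ N' := hA'N ha
      have h1 : b⁻¹ * a⁻¹ * b ∈ N' := by
        have := hN'n.conj_mem a⁻¹ (N'.inv_mem haN) b⁻¹
        simpa using this
      have : a * b⁻¹ * a⁻¹ * b = a * (b⁻¹ * a⁻¹ * b) := by group
      rw [SetLike.mem_coe, this]
      exact N'.mul_mem haN h1
  · have e1 : Monoid.exponent ↥(Ast'.map M.subtype) = Monoid.exponent Ast' :=
      (Monoid.exponent_eq_of_mulEquiv (Ast'.equivMapOfInjective _ hinj)).symm
    have e2 : Monoid.exponent A' = Monoid.exponent A :=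
      Monoid.exponent_eq_of_mulEquiv (Subgroup.subgroupOfEquivOfLe hAB)
    rw [e1, ← e2]
    exact hexp
  · have c1 : Nat.card (Cfsg.omegaOne p A) = Nat.card (omegaSub p A' hyp.hA) := by
      rw [← card_omegaOne_map_subtype p M A' hyp.hA, hmapA]
    rw [c1, card_omegaOne_map_subtype p M Ast' hcomm]
    exact hom

end Cfsg.Agent.S3078
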