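import Cfsg.Statements.S3084
import Cfsg.Agent.Lib.Helper95_ExtraCore
import Cfsg.Agent.Lib.Helper95_HypModel

set_option autoImplicit false
open Cfsg

namespace Cfsg.Agent.S3084

open Cfsg.Agent.Lib.Helper95_ExtraOps Cfsg.Agent.Lib.Helper95_ExtraCore
  Cfsg.Agent.Lib.Helper95_HypModel

section transfer
variable {K : Type*} [Group K] {U : Type*} [AddCommGroup U] [Module (ZMod 2) U] {n : ℕ}
  (ρ : Representation (ZMod 2) K U) (φ : U ≃ₗ[ZMod 2] V n)

/-- the action of `K` transported to the standard hyperbolic space -/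
def iotaHom : K →* (V n ≃ₗ[ZMod 2] V n) where
  toFun k := LinearEquiv.ofLinearMap ((φ : U →ₗ[ZMod 2] V n) ∘ₗ ρ k ∘ₗ (φ.symm : V n →ₗ[ZMod 2] U))
    ((φ : U →ₗ[ZMod 2] V n) ∘ₗ ρ k⁻¹ ∘ₗ (φ.symm : V n →ₗ[ZMod 2] U))
    (by
      apply LinearMap.ext
      intro v
      simp only [LinearMap.coe_comp, LinearEquiv.coe_coe, Function.comp_apply,
        LinearEquiv.symm_apply_apply, LinearMap.id_coe, id_eq]
      rw [← Module.End.mul_apply, ← map_mul, mul_inv_cancel, map_one, Module.End.one_apply,
        LinearEquiv.apply_symm_apply])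
    (by
      apply LinearMap.ext
      intro v
      simp only [LinearMap.coe_comp, LinearEquiv.coe_coe, Function.comp_apply,
        LinearEquiv.symm_apply_apply, LinearMap.id_coe, id_eq]
      rw [← Module.End.mul_apply, ← map_mul, inv_mul_cancel, map_one, Module.End.one_apply,
        LinearEquiv.apply_symm_apply])
  map_one' := by
    apply LinearEquiv.ext
    intro v
    simp
  map_mul' k k' := by
    apply LinearEquiv.ext
    intro v
    simp [LinearEquiv.mul_apply]

theorem iotaHom_apply (k : K) (v : V n) : iotaHom ρ φ k v = φ (ρ k (φ.symm v)) := rfl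

theorem iotaHom_injective (hρ : Function.Injective ρ) : Function.Injective (iotaHom ρ φ) := by
  intro k k' h
  apply hρ
  apply LinearMap.ext
  intro u
  have h1 := LinearEquiv.congr_fun h (φ u)
  rw [iotaHom_apply, iotaHom_apply, LinearEquiv.symm_apply_apply] at h1
  exact φ.injective h1

end transfer

/-- Let K be a group acting faithfully and linearly on a finite-dimensional vector space U of dimension 2n ≥ 2 over the field with two elements, preserving a quadratic form q whose polar bilinear form is non-degenerate and which vanishes on some n-dimensional subspace (a non-singular form of plus type). Then there is a finite group R with a normal extraspecial 2-subgroup Q of order 2^(2n+1), an isomorphism of R/Q with K, and a surjective homomorphism χ from Q onto (the additive group of) U with kernel the centre of Q, such that χ carries conjugation by any r in R to the action of the image of r in K, and an element a of Q squares to the identity exactly when q vanishes at χ(a). -/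
theorem result {K : Type*} [Group K] {U : Type*} [AddCommGroup U] [Module (ZMod 2) U] [Module.Finite (ZMod 2) U] (n : ℕ) (hn1 : 1 ≤ n) (hn : Module.finrank (ZMod 2) U = 2 * n) (ρ : Representation (ZMod 2) K U) (hρ : Function.Injective ρ) (q : QuadraticForm (ZMod 2) U) (hq : ∀ (k : K) (u : U), q (ρ k u) = q u) (hnd : (QuadraticMap.polarBilin q).Nondegenerate) (hplus : ∃ W : Submodule (ZMod 2) U, Module.finrank (ZMod 2) ↥W = n ∧ ∀ w ∈ W, q w = 0) : ∃ (R : Type) (_ : Group R) (_ : Finite R) (Q : Subgroup R) (hN : Q.Normal) (e : R ⧸ Q ≃* K) (χ : ↥Q →* Multiplicative U), Cfsg.IsExtraspecial 2 ↥Q ∧ Nat.card ↥Q = 2 ^ (2 * n + 1) ∧ Function.Surjective χ ∧ χ.ker = Subgroup.center ↥Q ∧ (∀ (r : R) (a : ↥Q), χ ⟨r * a * r⁻¹, hN.conj_mem (a : R) a.2 r⟩ = Multiplicative.ofAdd (ρ (e (r : R ⧸ Q)) (Multiplicative.toAdd (χ a)))) ∧ ∀ a : ↥Q, a * a = 1 ↔ q (Multiplicative.toAdd (χ a)) = 0 := by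
  obtain ⟨W, hW, hq0⟩ := hplus
  obtain ⟨φ, hφ⟩ := exists_std n hn q hnd W hW hq0
  have hι := iotaHom_injective ρ φ hρ
  have hq' : ∀ k v, bet (iotaHom ρ φ k v) (iotaHom ρ φ k v) = bet v v := by
    intro k v
    rw [iotaHom_apply, ← hφ, hq, hφ, LinearEquiv.apply_symm_apply]
  have hφs : ∀ w : V n, q (φ.symm w) = bet w w := by
    intro w
    rw [hφ, LinearEquiv.apply_symm_apply]
  refine ⟨RGrp (iotaHom ρ φ), inferInstance, finite_RGrp (iotaHom ρ φ) hι hq',
    (piHom (iotaHom ρ φ) hι).ker, MonoidHom.normal_ker _,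
    QuotientGroup.quotientKerEquivOfSurjective (piHom (iotaHom ρ φ) hι)
      (piHom_surjective (iotaHom ρ φ) hι hq'),
    (AddMonoidHom.toMultiplicative (φ.symm : V n →ₗ[ZMod 2] U).toAddMonoidHom).comp
      (chi₀ (iotaHom ρ φ) hι),
    isExtraspecial_ker (iotaHom ρ φ) hι hn1, card_ker (iotaHom ρ φ) hι, ?_, ?_, ?_, ?_⟩
  · intro u
    obtain ⟨a, ha⟩ := chi₀_surjective (iotaHom ρ φ) hι (Multiplicative.ofAdd (φ (Multiplicative.toAdd u)))
    refine ⟨a, ?_⟩
    rw [MonoidHom.comp_apply, ha]
    simp
  · rw [← chi₀_ker (iotaHom ρ φ) hι]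
    ext a
    rw [MonoidHom.mem_ker, MonoidHom.mem_ker, MonoidHom.comp_apply]
    constructor
    · intro h
      have h1 : φ.symm (Multiplicative.toAdd (chi₀ (iotaHom ρ φ) hι a)) = 0 := h
      have h2 : Multiplicative.toAdd (chi₀ (iotaHom ρ φ) hι a) = 0 := by
        apply φ.symm.injective
        rw [h1, map_zero]
      exact h2
    · intro h
      rw [h, map_one]
  · intro r a
    rw [MonoidHom.comp_apply, chi₀_conj (iotaHom ρ φ) hι r a]
    rw [MonoidHom.comp_apply]
    simp only [AddMonoidHom.toMultiplicative_apply_apply, toAdd_ofAdd, LinearMap.toAddMonoidHom_coe,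
      LinearEquiv.coe_coe, iotaHom_apply, LinearEquiv.symm_apply_apply]
    rfl
  · intro a
    rw [chi₀_sq (iotaHom ρ φ) hι a, MonoidHom.comp_apply]
    simp only [AddMonoidHom.toMultiplicative_apply_apply, toAdd_ofAdd, LinearMap.toAddMonoidHom_coe,
      LinearEquiv.coe_coe, hφs]

end Cfsg.Agent.S3084
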