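import Cfsg.Statements.S3085
import Cfsg.Agent.Lib.Helper63_QG
import Cfsg.Agent.Lib.Helper63_QGStd
import Cfsg.Agent.Lib.Helper63_QGSplit
import Cfsg.Agent.Lib.Helper89_ESClass
import Cfsg.Agent.Lib.Helper89_ESRank

set_option autoImplicit false
open Cfsg

namespace Cfsg.Agent.S3085

open Cfsg.Agent.Lib.Helper63_QG Cfsg.Agent.Lib.Helper63_QGStd Cfsg.Agent.Lib.Helper63_QGSplit
  Cfsg.Agent.Lib.Helper89_ESClass Cfsg.Agent.Lib.Helper89_ESRank Cfsg.Agent.S5396

theorem congr_conj_eq {G H : Type*} [Group G] [Group H] (e : G ≃* H) (g : G) :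
    MulAut.congr e (MulAut.conj g) = MulAut.conj (e g) := by
  refine MulEquiv.ext fun y => ?_
  simp [MulAut.congr, MulAut.conj_apply, map_mul, map_inv]

theorem congr_mem_inn_iff {G H : Type*} [Group G] [Group H] (e : G ≃* H) (α : MulAut G) :
    MulAut.congr e α ∈ (MulAut.conj : H →* MulAut H).range ↔
      α ∈ (MulAut.conj : G →* MulAut G).range := by
  constructor
  · rintro ⟨x, hx⟩
    refine ⟨e.symm x, ?_⟩
    apply (MulAut.congr e).injective
    rw [congr_conj_eq, MulEquiv.apply_symm_apply, hx]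
  · rintro ⟨g, rfl⟩
    exact ⟨e g, (congr_conj_eq e g).symm⟩

/-- Let Q be an extraspecial 2-group of order 2^(2n+1) with n ≥ 3 that is of plus type (it contains an elementary abelian subgroup of order 2^(n+1)). Then the group of inner automorphisms of Q has no complement in the full automorphism group of Q: the extension of the inner automorphism group (elementary abelian of order 2^(2n)) by the outer automorphism group (the orthogonal group of plus type) does not split. -/
theorem result {Q : Type*} [Group Q] [Finite Q] (n : ℕ) (hn : 3 ≤ n) (hQ : Cfsg.IsExtraspecial 2 Q) (hcard : Nat.card Q = 2 ^ (2 * n + 1)) (hplus : ∃ E : Subgroup Q, Cfsg.IsElementaryAbelian 2 E ∧ Nat.card ↥E = 2 ^ (n + 1)) (L : Subgroup (MulAut Q)) : ¬ (Cfsg.Inn Q).IsComplement' L := by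
  intro hL
  obtain ⟨m, b, ⟨Φ⟩⟩ := exists_iso_std hQ
  have hc := card_eq_of_iso Φ
  rw [hcard] at hc
  have hm : n = m := eq_of_card_eq hc
  subst hm
  obtain ⟨A, hA, hAc⟩ := hplus
  cases b with
  | true =>
    rw [eStd_true n (by omega)] at Φ
    have h1 := prankLE_congr Φ (prankLE_minus n (by omega)) A hA.1 hA.2
    rw [hAc] at h1
    have h2 : n + 1 ≤ n := (Nat.pow_le_pow_iff_right (by norm_num)).mp h1
    omega
  | false =>
    rw [eStd_false] at Φ
    obtain ⟨k, rfl⟩ : ∃ k, n = 3 + k := ⟨n - 3, by omega⟩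
    let e : Q ≃* QG (bsum (betaPlus 3) (betaPlus k)) :=
      (Φ.symm.trans (isoPlus (3 + k))).trans (splitIso k)
    have hnd : QG.Nondeg (bsum (betaPlus 3) (betaPlus k)) :=
      nondeg_bsum (nondeg_betaPlus 3) (nondeg_betaPlus k)
    have hker : ((QG.piHom hnd).comp (MulAut.congr e).toMonoidHom).ker = Cfsg.Inn Q := by
      ext α
      rw [MonoidHom.mem_ker, MonoidHom.comp_apply, ← MonoidHom.mem_ker, QG.ker_piHom]
      exact congr_mem_inn_iff e α
    apply no_complement (betaPlus k) hnd (MulAut.congr e).toMonoidHom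
      (MulAut.congr e).surjective L
    rw [hker]
    exact hL

end Cfsg.Agent.S3085
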