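import Cfsg.Statements.S3087

set_option autoImplicit false
open Cfsg

namespace Cfsg.Agent.S3087

/-- Second isomorphism inequality for additive subgroups of a finite group. -/
theorem key {V : Type*} [AddCommGroup V] [Finite V] (X Y W : AddSubgroup V) (hYX : Y ≤ X) :
    Nat.card ↥(X ⊓ W) * Nat.card ↥Y ≤ Nat.card ↥X * Nat.card ↥(Y ⊓ W) := by
  have h1 : Nat.card ↥(Y ⊓ W) * (Y ⊓ W).relIndex (X ⊓ W) = Nat.card ↥(X ⊓ W) := by
    have := AddSubgroup.relIndex_mul_relIndex (H := (⊥ : AddSubgroup V)) (K := Y ⊓ W) (L := X ⊓ W)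
      bot_le (inf_le_inf_right W hYX)
    simpa [AddSubgroup.relIndex_bot_left] using this
  have h2 : Nat.card ↥Y * Y.relIndex X = Nat.card ↥X := by
    have := AddSubgroup.relIndex_mul_relIndex (H := (⊥ : AddSubgroup V)) (K := Y) (L := X)
      bot_le hYX
    simpa [AddSubgroup.relIndex_bot_left] using this
  have h3 : (Y ⊓ W).relIndex (X ⊓ W) = Y.relIndex (X ⊓ W) := by
    have h := AddSubgroup.inf_relIndex_right (H := Y) (K := X ⊓ W)
    have e : Y ⊓ (X ⊓ W) = Y ⊓ W := by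
      rw [← inf_assoc, inf_of_le_left hYX]
    rw [e] at h
    exact h
  have h4 : Y.relIndex (X ⊓ W) ≤ Y.relIndex X := by
    apply AddSubgroup.relIndex_le_of_le_right inf_le_left
    exact AddSubgroup.index_ne_zero_of_finite
  rw [← h1, ← h2, h3]
  calc Nat.card ↥(Y ⊓ W) * Y.relIndex (X ⊓ W) * Nat.card ↥Y
      ≤ Nat.card ↥(Y ⊓ W) * Y.relIndex X * Nat.card ↥Y := by gcongr
    _ = Nat.card ↥Y * Y.relIndex X * Nat.card ↥(Y ⊓ W) := by ring

/-- Let p be a prime, G a finite group acting linearly on a finite vector space V over the field with p elements, W a G-invariant subspace, and A a subgroup of G with |A|·|C_V(A)| ≥ |B|·|C_V(B)| for every subgroup B of A. Then |A|·|C_W(A)| ≥ |B|·|C_W(B)| for every subgroup B of A that contains C_A(W); that is, the image of A in the group induced on W satisfies the same maximality condition. -/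
theorem result {G V : Type*} [Group G] [Finite G] [AddCommGroup V] [Finite V] (p : ℕ) [Fact p.Prime] [Module (ZMod p) V]
    (ρ : Representation (ZMod p) G V) (W : Submodule (ZMod p) V) (hW : ∀ g : G, ∀ w ∈ W, ρ g w ∈ W)
    (A : Subgroup G)
    (hP : ∀ B : Subgroup G, B ≤ A →
      Nat.card ↥B * Nat.card {v : V // ∀ b ∈ B, ρ b v = v} ≤ Nat.card ↥A * Nat.card {v : V // ∀ a ∈ A, ρ a v = v})
    (B : Subgroup G) (hBA : B ≤ A) (hCB : ∀ a ∈ A, (∀ w ∈ W, ρ a w = w) → a ∈ B) :
    Nat.card ↥B * Nat.card {w : W // ∀ b ∈ B, ρ b w = w} ≤ Nat.card ↥A * Nat.card {w : W // ∀ a ∈ A, ρ a w = w} := by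
  -- the fixed-point subgroup of a subgroup of G
  let fixV : Subgroup G → AddSubgroup V := fun C =>
    { carrier := {v | ∀ c ∈ C, ρ c v = v}
      zero_mem' := by intro c _; simp
      add_mem' := by
        intro a b ha hb c hc
        simp only [Set.mem_ofPred_eq] at ha hb
        rw [map_add, ha c hc, hb c hc]
      neg_mem' := by
        intro a ha c hc
        simp only [Set.mem_ofPred_eq] at ha
        rw [map_neg, ha c hc] }
  have cardV : ∀ C : Subgroup G, Nat.card {v : V // ∀ c ∈ C, ρ c v = v} = Nat.card ↥(fixV C) := by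
    intro C
    rfl
  have cardW : ∀ C : Subgroup G,
      Nat.card {w : W // ∀ c ∈ C, ρ c w = w} = Nat.card ↥(fixV C ⊓ W.toAddSubgroup) := by
    intro C
    apply Nat.card_congr
    refine
      { toFun := fun w => ⟨(w.1 : V), ⟨w.2, w.1.2⟩⟩
        invFun := fun v => ⟨⟨v.1, v.2.2⟩, v.2.1⟩
        left_inv := by intro w; rfl
        right_inv := by intro v; rfl }
  have hmono : fixV A ≤ fixV B := by
    intro v hv b hb
    exact hv b (hBA hb)
  have hkey := key (fixV B) (fixV A) W.toAddSubgroup hmono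
  have hPB := hP B hBA
  rw [cardV, cardV] at hPB
  rw [cardW, cardW]
  have hpos : 0 < Nat.card ↥(fixV A) := Nat.card_pos
  -- |B| |X∩W| |Y| ≤ |B| |X| |Y∩W| ≤ |A| |Y| |Y∩W|
  have : Nat.card ↥B * Nat.card ↥(fixV B ⊓ W.toAddSubgroup) * Nat.card ↥(fixV A)
      ≤ Nat.card ↥A * Nat.card ↥(fixV A ⊓ W.toAddSubgroup) * Nat.card ↥(fixV A) := by
    calc Nat.card ↥B * Nat.card ↥(fixV B ⊓ W.toAddSubgroup) * Nat.card ↥(fixV A)
        = Nat.card ↥B * (Nat.card ↥(fixV B ⊓ W.toAddSubgroup) * Nat.card ↥(fixV A)) := by ring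
      _ ≤ Nat.card ↥B * (Nat.card ↥(fixV B) * Nat.card ↥(fixV A ⊓ W.toAddSubgroup)) := by gcongr
      _ = (Nat.card ↥B * Nat.card ↥(fixV B)) * Nat.card ↥(fixV A ⊓ W.toAddSubgroup) := by ring
      _ ≤ (Nat.card ↥A * Nat.card ↥(fixV A)) * Nat.card ↥(fixV A ⊓ W.toAddSubgroup) := by gcongr
      _ = Nat.card ↥A * Nat.card ↥(fixV A ⊓ W.toAddSubgroup) * Nat.card ↥(fixV A) := by ring
  exact Nat.le_of_mul_le_mul_right this hpos

end Cfsg.Agent.S3087
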