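import Cfsg.Statements.S3103
import Mathlib
import Cfsg.Agent.S0521
import Cfsg.Agent.Lib.Helper1_Cores
import Cfsg.Agent.Lib.Helper1_Frattini
import Cfsg.Agent.Lib.Helper6_AutGL
import Cfsg.Agent.Lib.Helper6_GL42A8

set_option autoImplicit false
set_option linter.style.haveILetI false
set_option linter.unusedSectionVars false
open Cfsg

namespace Cfsg.Agent.S3103

open scoped commutatorElement

/-- `MulAut P → MulAut (P ⧸ N)` for characteristic `N`. -/
noncomputable def autQuot {P : Type*} [Group P] (N : Subgroup P) [hN : N.Characteristic] :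
    MulAut P →* MulAut (P ⧸ N) where
  toFun α := QuotientGroup.congr N N α (Subgroup.characteristic_iff_map_eq.1 hN α)
  map_one' := by
    ext x; induction x using QuotientGroup.induction_on; rfl
  map_mul' α β := by
    ext x; induction x using QuotientGroup.induction_on; rfl

theorem autQuot_apply {P : Type*} [Group P] (N : Subgroup P) [hN : N.Characteristic]
    (α : MulAut P) (x : P) : autQuot N α (x : P ⧸ N) = ((α x : P) : P ⧸ N) := rfl

section main

variable {X : Type*} [Group X] [Finite X]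

omit [Finite X] in
/-- With `O_{p'}(X) = 1`, `O_{p',p}(X) = O_p(X)`. -/
theorem pPrimePCore_eq_pCore' {p : ℕ} [Fact p.Prime] [Finite X] (h1 : pPrimeCore p X = ⊥) :
    pPrimePCore p X = pCore p X := by
  apply le_antisymm
  · have hn : (pPrimePCore p X).Normal :=
      Subgroup.Normal.comap (Cfsg.Agent.Lib.Helper1_Cores.pCore_normal p) _
    have hinj : Function.Injective (QuotientGroup.mk' (pPrimeCore p X)) := by
      rw [← MonoidHom.ker_eq_bot_iff, QuotientGroup.ker_mk', h1]
    have hpg : IsPGroup p (pPrimePCore p X) :=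
      (Cfsg.Agent.Lib.Helper1_Cores.pCore_isPGroup p).comap_of_injective _ hinj
    exact Cfsg.Agent.Lib.Helper1_Cores.le_pCore hn hpg
  · unfold pPrimePCore
    rw [← Subgroup.map_le_iff_le_comap]
    have hn : ((pCore p X).map (QuotientGroup.mk' (pPrimeCore p X))).Normal :=
      Subgroup.Normal.map (Cfsg.Agent.Lib.Helper1_Cores.pCore_normal p) _
        (QuotientGroup.mk'_surjective _)
    exact Cfsg.Agent.Lib.Helper1_Cores.le_pCore hn
      ((Cfsg.Agent.Lib.Helper1_Cores.pCore_isPGroup p).map _)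

theorem centralizer_pCore_le (hc : IsPConstrained 2 X) (hO : oddCore X = ⊥) :
    Subgroup.centralizer (pCore 2 X : Set X) ≤ pCore 2 X := by
  haveI : Fact (Nat.Prime 2) := ⟨Nat.prime_two⟩
  have hPP := pPrimePCore_eq_pCore' (p := 2) (X := X) hO
  obtain ⟨P₀⟩ : Nonempty (Sylow 2 ↥(pPrimePCore 2 X)) := inferInstance
  have h := hc P₀
  rw [← hPP]
  refine le_trans (Subgroup.centralizer_le ?_) h
  exact SetLike.coe_subset_coe.mpr (Subgroup.map_subtype_le _)

/-- the action of `X` on the Frattini quotient of `O_2(X)` -/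
noncomputable def rho (X : Type*) [Group X] :
    X →* MulAut (↥(pCore 2 X) ⧸ frattini ↥(pCore 2 X)) :=
  (autQuot (frattini ↥(pCore 2 X))).comp (MulAut.conjNormal (H := pCore 2 X))

theorem rho_apply (x : X) (r : ↥(pCore 2 X)) :
    rho X x (r : ↥(pCore 2 X) ⧸ frattini ↥(pCore 2 X)) =
      ((MulAut.conjNormal x r : ↥(pCore 2 X)) : ↥(pCore 2 X) ⧸ frattini ↥(pCore 2 X)) := rfl

theorem mem_ker_rho_iff (x : X) :
    x ∈ (rho X).ker ↔ ∀ r : ↥(pCore 2 X), r⁻¹ * MulAut.conjNormal x r ∈ frattini ↥(pCore 2 X) := by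
  rw [MonoidHom.mem_ker]
  constructor
  · intro h r
    have := congrArg (fun α : MulAut (↥(pCore 2 X) ⧸ frattini ↥(pCore 2 X)) =>
      α (r : ↥(pCore 2 X) ⧸ frattini ↥(pCore 2 X))) h
    simp only [rho_apply, MulAut.one_apply] at this
    rw [← QuotientGroup.eq]
    exact this.symm
  · intro h
    ext v
    induction v using QuotientGroup.induction_on with
    | H r =>
      rw [rho_apply, MulAut.one_apply]
      exact (QuotientGroup.eq.2 (h r)).symm

theorem ker_rho (hc : IsPConstrained 2 X) (hO : oddCore X = ⊥) :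
    (rho X).ker = pCore 2 X := by
  haveI : Fact (Nat.Prime 2) := ⟨Nat.prime_two⟩
  have hPp : IsPGroup 2 ↥(pCore 2 X) := Cfsg.Agent.Lib.Helper1_Cores.pCore_isPGroup 2
  apply le_antisymm
  · -- kernel is a 2-group
    apply Cfsg.Agent.Lib.Helper1_Cores.le_pCore (MonoidHom.normal_ker _)
    apply Cfsg.Agent.S0521.isPGroup_of_commutator_le_phi 2 (pCore 2 X) hPp
      (centralizer_pCore_le hc hO)
    rw [Subgroup.commutator_le]
    intro r hr d hd
    rw [mem_ker_rho_iff] at hd
    have h := hd ⟨r, hr⟩⁻¹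
    refine ⟨_, h, ?_⟩
    simp [MulAut.conjNormal_apply, commutatorElement_def, mul_assoc]
  · intro x hx
    rw [mem_ker_rho_iff]
    intro r
    apply Cfsg.Agent.Lib.Helper1_Frattini.commutator_le_frattini_of_isPGroup hPp
    have : r⁻¹ * MulAut.conjNormal x r = ⁅r⁻¹, ⟨x, hx⟩⁆ := by
      apply Subtype.ext
      simp [MulAut.conjNormal_apply, commutatorElement_def, mul_assoc]
    rw [this]
    exact Subgroup.commutator_mem_commutator (Subgroup.mem_top _) (Subgroup.mem_top _)

theorem frat_comm (a b : ↥(pCore 2 X) ⧸ frattini ↥(pCore 2 X)) : a * b = b * a := by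
  haveI : Fact (Nat.Prime 2) := ⟨Nat.prime_two⟩
  have hPp : IsPGroup 2 ↥(pCore 2 X) := Cfsg.Agent.Lib.Helper1_Cores.pCore_isPGroup 2
  induction a using QuotientGroup.induction_on with
  | H a =>
    induction b using QuotientGroup.induction_on with
    | H b =>
      rw [← QuotientGroup.mk_mul, ← QuotientGroup.mk_mul, QuotientGroup.eq]
      apply Cfsg.Agent.Lib.Helper1_Frattini.commutator_le_frattini_of_isPGroup hPp
      have : (a * b)⁻¹ * (b * a) = ⁅b⁻¹, a⁻¹⁆ := by
        simp [commutatorElement_def, mul_assoc]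
      rw [this]
      exact Subgroup.commutator_mem_commutator (Subgroup.mem_top _) (Subgroup.mem_top _)

theorem frat_sq (v : ↥(pCore 2 X) ⧸ frattini ↥(pCore 2 X)) : v ^ 2 = 1 := by
  haveI : Fact (Nat.Prime 2) := ⟨Nat.prime_two⟩
  have hPp : IsPGroup 2 ↥(pCore 2 X) := Cfsg.Agent.Lib.Helper1_Cores.pCore_isPGroup 2
  induction v using QuotientGroup.induction_on with
  | H a =>
    rw [← QuotientGroup.mk_pow, QuotientGroup.eq_one_iff]
    exact Cfsg.Agent.Lib.Helper1_Frattini.pow_mem_frattini_of_isPGroup hPp a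

theorem frat_card (h4 : SectionalPRankLE 2 4 ↥(pCore 2 X)) :
    Nat.card (↥(pCore 2 X) ⧸ frattini ↥(pCore 2 X)) ≤ 16 := by
  haveI : Fact (Nat.Prime 2) := ⟨Nat.prime_two⟩
  have hPp : IsPGroup 2 ↥(pCore 2 X) := Cfsg.Agent.Lib.Helper1_Cores.pCore_isPGroup 2
  set P := ↥(pCore 2 X)
  set N : Subgroup (⊤ : Subgroup P) := (frattini P).subgroupOf ⊤ with hN
  have h := h4 ⊤ N ⊤ ?_ ?_
  · have e1 : Nat.card (⊤ : Subgroup ((⊤ : Subgroup P) ⧸ N)) = Nat.card ((⊤ : Subgroup P) ⧸ N) :=
      Subgroup.card_top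
    rw [e1, ← Subgroup.index_eq_card] at h
    have e2 : N.index = (frattini P).index := by
      rw [hN]
      show (frattini P).relIndex ⊤ = _
      exact Subgroup.relIndex_top_right _
    rw [e2, Subgroup.index_eq_card] at h
    exact h
  · constructor
    constructor
    rintro ⟨a, _⟩ ⟨b, _⟩
    apply Subtype.ext
    show a * b = b * a
    induction a using QuotientGroup.induction_on with
    | H a =>
      induction b using QuotientGroup.induction_on with
      | H b =>
        rw [← QuotientGroup.mk_mul, ← QuotientGroup.mk_mul, QuotientGroup.eq, hN,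
          Subgroup.mem_subgroupOf]
        apply Cfsg.Agent.Lib.Helper1_Frattini.commutator_le_frattini_of_isPGroup hPp
        have : (((a * b)⁻¹ * (b * a) : (⊤ : Subgroup P)) : P) = ⁅(b : P)⁻¹, (a : P)⁻¹⁆ := by
          simp [commutatorElement_def, mul_assoc]
        rw [this]
        exact Subgroup.commutator_mem_commutator (Subgroup.mem_top _) (Subgroup.mem_top _)
  · intro a _
    induction a using QuotientGroup.induction_on with
    | H a =>
      rw [← QuotientGroup.mk_pow, QuotientGroup.eq_one_iff, hN, Subgroup.mem_subgroupOf]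
      exact Cfsg.Agent.Lib.Helper1_Frattini.pow_mem_frattini_of_isPGroup hPp (a : P)

end main


/-- Let X be a finite 2-constrained group with no nontrivial normal subgroup of odd order such that O₂(X) has sectional 2-rank at most 4. Then X/O₂(X) is isomorphic to a subgroup of the alternating group of degree 8. -/
theorem result {X : Type*} [Group X] [Finite X] (hc : Cfsg.IsPConstrained 2 X) (hO : Cfsg.oddCore X = ⊥)
    (h4 : Cfsg.SectionalPRankLE 2 4 ↥(Cfsg.pCore 2 X)) :
    ∃ f : X ⧸ Cfsg.pCore 2 X →* ↥(alternatingGroup (Fin 8)), Function.Injective f := by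
  classical
  obtain ⟨f, hf⟩ := Cfsg.Agent.Helper6AutGL.exists_injective_mulAut_GL4
    (↥(pCore 2 X) ⧸ frattini ↥(pCore 2 X)) frat_comm frat_sq (frat_card h4)
  obtain ⟨e⟩ := Cfsg.Agent.Helper6GL42.gl4EquivA8 (F := ZMod 2) (by rw [ZMod.card])
  have hker : pCore 2 X = (rho X).ker := (ker_rho hc hO).symm
  refine ⟨(e.toMonoidHom.comp f).comp ((QuotientGroup.kerLift (rho X)).comp
    (QuotientGroup.quotientMulEquivOfEq hker).toMonoidHom), ?_⟩
  exact (e.injective.comp hf).comp
    ((QuotientGroup.kerLift_injective (rho X)).comp (MulEquiv.injective _))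

end Cfsg.Agent.S3103
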