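import Cfsg.Statements.S3116

set_option autoImplicit false
open Cfsg

namespace Cfsg.Agent.S3116

/-- iterating an automorphism that maps `x` to `x ^ a`. -/
theorem pow_apply_of_apply_eq_pow {X : Type*} [Group X] (φ : MulAut X) (x : X) (a : ℕ)
    (h : φ x = x ^ a) (m : ℕ) : (φ ^ m) x = x ^ (a ^ m) := by
  induction m with
  | zero => simp
  | succ k ih =>
    rw [pow_succ', MulAut.mul_apply, ih, map_pow, h, ← pow_mul, pow_succ']

/-- iterating an automorphism that fixes `c` and maps `y` to `y * c`. -/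
theorem pow_apply_of_apply_eq_mul {X : Type*} [Group X] (ψ : MulAut X) (y c : X)
    (hc : ψ c = c) (h : ψ y = y * c) (m : ℕ) : (ψ ^ m) y = y * c ^ m := by
  induction m with
  | zero => simp
  | succ k ih =>
    rw [pow_succ', MulAut.mul_apply, ih, map_mul, map_pow, hc, h, mul_assoc, ← pow_succ']

/-- The key lemma: a finite group with a cyclic subgroup `⟨x⟩` of index two and order `2 ^ n`, such that
no element outside `⟨x⟩` has the same order as `x`, has a `2`-group of automorphisms. -/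
theorem isPGroup_mulAut_of_cyclic_index_two {X : Type*} [Group X] [Finite X] (n : ℕ) (hn : 1 ≤ n) (x y : X)
    (hx : orderOf x = 2 ^ n) (hcard : Nat.card X = 2 ^ (n + 1)) (hy : y ∉ Subgroup.zpowers x)
    (hout : ∀ g : X, g ∉ Subgroup.zpowers x → orderOf g ≠ orderOf x) :
    IsPGroup 2 (MulAut X) := by
  classical
  -- index two
  have hidx : (Subgroup.zpowers x).index = 2 := by
    have h1 := (Subgroup.zpowers x).card_mul_index
    rw [Nat.card_zpowers, hx, hcard, pow_succ] at h1
    exact Nat.eq_of_mul_eq_mul_left (by positivity) h1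
  -- closure {x, y} = ⊤
  have hcl : Subgroup.closure ({x, y} : Set X) = ⊤ := by
    set K := Subgroup.closure ({x, y} : Set X) with hK
    have hxK : x ∈ K := Subgroup.subset_closure (by simp)
    have hyK : y ∈ K := Subgroup.subset_closure (by simp)
    have hle : Subgroup.zpowers x ≤ K := by
      rw [Subgroup.zpowers_le]; exact hxK
    have h2 := Subgroup.relIndex_mul_index hle
    rw [hidx] at h2
    have hdv : K.index ∣ 2 := Dvd.intro_left _ h2
    rcases (Nat.dvd_prime Nat.prime_two).1 hdv with h | h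
    · exact Subgroup.index_eq_one.1 h
    · exfalso
      rw [h] at h2
      have h3 : (Subgroup.zpowers x).relIndex K = 1 := by omega
      exact hy (Subgroup.relIndex_eq_one.1 h3 hyK)
  intro φ
  -- φ x ∈ zpowers x
  have hφx : φ x ∈ Subgroup.zpowers x := by
    by_contra hcon
    exact hout _ hcon (by simp)
  obtain ⟨a, ha⟩ : ∃ a : ℕ, φ x = x ^ a := by
    rw [Subgroup.mem_zpowers_iff] at hφx
    obtain ⟨k, hk⟩ := hφx
    refine ⟨(k % (orderOf x : ℤ)).toNat, ?_⟩
    rw [← hk, ← zpow_natCast, Int.toNat_of_nonneg, zpow_mod_orderOf]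
    apply Int.emod_nonneg
    rw [hx]; positivity
  -- a is coprime to 2 ^ n
  have hcop : Nat.Coprime a (2 ^ n) := by
    have h1 : orderOf (φ x) = orderOf x := by
      simp
    rw [ha, orderOf_pow, hx] at h1
    have hg : Nat.gcd (2 ^ n) a ∣ 2 ^ n := Nat.gcd_dvd_left _ _
    have hpos : 0 < Nat.gcd (2 ^ n) a := Nat.gcd_pos_of_pos_left _ (by positivity)
    have h3 : Nat.gcd (2 ^ n) a = 1 := by
      have := Nat.div_mul_cancel hg
      rw [h1] at this
      have h4 : 2 ^ n * Nat.gcd (2 ^ n) a = 2 ^ n * 1 := by rw [this, mul_one]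
      exact Nat.eq_of_mul_eq_mul_left (by positivity) h4
    rw [Nat.coprime_comm]; exact h3
  have htot : a ^ (2 ^ (n - 1)) ≡ 1 [MOD 2 ^ n] := by
    have := Nat.ModEq.pow_totient hcop
    rwa [Nat.totient_prime_pow Nat.prime_two (by omega), show (2 - 1 : ℕ) = 1 from rfl, mul_one] at this
  set ψ := φ ^ (2 ^ (n - 1)) with hψ
  have hψx : ψ x = x := by
    rw [hψ, pow_apply_of_apply_eq_pow φ x a ha]
    have h1 : a ^ (2 ^ (n - 1)) ≡ 1 [MOD orderOf x] := by rw [hx]; exact htot
    have := (pow_eq_pow_iff_modEq (x := x)).2 h1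
    rw [this]; exact pow_one x
  -- ψ y = y * c with c a power of x
  have hψy : ψ y ∉ Subgroup.zpowers x := by
    intro hmem
    rw [Subgroup.mem_zpowers_iff] at hmem
    obtain ⟨k, hk⟩ := hmem
    apply hy
    have : ψ (x ^ k) = ψ y := by rw [map_zpow, hψx, hk]
    rw [← ψ.injective this]
    exact Subgroup.zpow_mem_zpowers x k
  set c := y⁻¹ * ψ y with hc
  have hcmem : c ∈ Subgroup.zpowers x := by
    rw [hc, Subgroup.mul_mem_iff_of_index_two hidx, inv_mem_iff]
    exact ⟨fun h => absurd h hy, fun h => absurd h hψy⟩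
  have hψc : ψ c = c := by
    rw [Subgroup.mem_zpowers_iff] at hcmem
    obtain ⟨k, hk⟩ := hcmem
    rw [← hk, map_zpow, hψx]
  have hψy' : ψ y = y * c := by rw [hc]; group
  have hc2 : c ^ (2 ^ n) = 1 := by
    rw [Subgroup.mem_zpowers_iff] at hcmem
    obtain ⟨k, hk⟩ := hcmem
    rw [← hk, ← zpow_natCast, ← zpow_mul, mul_comm, zpow_mul, zpow_natCast, ← hx, pow_orderOf_eq_one, one_zpow]
  refine ⟨(n - 1) + n, ?_⟩
  rw [pow_add, pow_mul, ← hψ]
  apply MulEquiv.ext
  intro g
  have hg : g ∈ Subgroup.closure ({x, y} : Set X) := by rw [hcl]; trivial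
  have hfix : ∀ z ∈ ({x, y} : Set X), (ψ ^ (2 ^ n)) z = z := by
    intro z hz
    rcases hz with hz | hz
    · have : ∀ m : ℕ, (ψ ^ m) x = x := by
        intro m
        induction m with
        | zero => simp
        | succ k ih => rw [pow_succ', MulAut.mul_apply, ih, hψx]
      rw [hz]
      exact this _
    · rw [Set.mem_singleton_iff.1 hz, pow_apply_of_apply_eq_mul ψ y c hψc hψy', hc2, mul_one]
  have := MonoidHom.eqOn_closure (f := (ψ ^ (2 ^ n)).toMonoidHom) (g := MonoidHom.id X) (s := ({x, y} : Set X))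
    (fun z hz => by simpa using hfix z hz)
  simpa using this hg


/-- the dihedral case. -/
theorem dihedral_case (m : ℕ) (hm : 4 ≤ m) (h2 : IsPGroup 2 (DihedralGroup m)) :
    IsPGroup 2 (MulAut (DihedralGroup m)) := by
  have : NeZero m := ⟨by omega⟩
  have : Fact (Nat.Prime 2) := ⟨Nat.prime_two⟩
  obtain ⟨k, hk⟩ := IsPGroup.iff_card.1 h2
  rw [DihedralGroup.nat_card] at hk
  obtain ⟨n, rfl⟩ : ∃ n, k = n + 1 := by
    rcases k with _ | n
    · omega
    · exact ⟨n, rfl⟩
  have hmn : m = 2 ^ n := by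
    rw [pow_succ, mul_comm] at hk
    exact Nat.eq_of_mul_eq_mul_right (by norm_num) hk
  have hn : 2 ≤ n := by
    by_contra hcon
    have : n = 0 ∨ n = 1 := by omega
    rcases this with rfl | rfl <;> omega
  refine isPGroup_mulAut_of_cyclic_index_two n (by omega) (DihedralGroup.r 1) (DihedralGroup.sr 0)
    (by rw [DihedralGroup.orderOf_r_one, hmn]) (by rw [DihedralGroup.nat_card, hmn, pow_succ, mul_comm]) ?_ ?_
  · intro hmem
    rw [Subgroup.mem_zpowers_iff] at hmem
    obtain ⟨j, hj⟩ := hmem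
    rw [DihedralGroup.r_one_zpow] at hj
    exact absurd hj (by simp)
  · intro g hg
    rcases g with i | i
    · exfalso
      apply hg
      rw [Subgroup.mem_zpowers_iff]
      refine ⟨(ZMod.val i : ℤ), ?_⟩
      rw [DihedralGroup.r_one_zpow]
      simp
    · rw [DihedralGroup.orderOf_sr, DihedralGroup.orderOf_r_one]
      omega

/-- the quasi-dihedral case. -/
theorem quasidihedral_case {X : Type*} [Group X] [Finite X] (h : Cfsg.IsQuasiDihedral X) :
    IsPGroup 2 (MulAut X) := by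
  obtain ⟨n, hn, hcard, x, y, hx, hy, hxy⟩ := h
  have hidx : (Subgroup.zpowers x).index = 2 := by
    have h1 := (Subgroup.zpowers x).card_mul_index
    rw [Nat.card_zpowers, hx, hcard, pow_succ] at h1
    exact Nat.eq_of_mul_eq_mul_left (by positivity) h1
  have hpow : (2:ℕ) ^ n = 2 * 2 ^ (n - 1) := by
    rw [← pow_succ']; congr 1; omega
  have h4 : 4 ≤ 2 ^ (n - 1) := by
    calc 4 = 2 ^ 2 := by norm_num
      _ ≤ 2 ^ (n - 1) := Nat.pow_le_pow_right (by norm_num) (by omega)
  have hyinv : y⁻¹ = y := by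
    have : y ^ 2 = 1 := by rw [← hy, pow_orderOf_eq_one]
    rw [inv_eq_iff_mul_eq_one, ← pow_two, this]
  have hynot : y ∉ Subgroup.zpowers x := by
    intro hmem
    rw [Subgroup.mem_zpowers_iff] at hmem
    obtain ⟨j, hj⟩ := hmem
    have hcomm : y * x * y⁻¹ = x := by
      rw [← hj]
      have : Commute (x ^ j) x := (Commute.refl x).zpow_left j
      rw [this.eq, mul_inv_cancel_right]
    rw [hcomm] at hxy
    have h1 : x ^ 1 = x ^ (2 ^ (n - 1) - 1) := by rw [pow_one]; exact hxy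
    rw [pow_eq_pow_iff_modEq, hx] at h1
    have h2 := (Nat.modEq_iff_dvd' (by omega)).1 h1
    have h3 := Nat.le_of_dvd (by omega) h2
    omega
  refine isPGroup_mulAut_of_cyclic_index_two n (by omega) x y hx hcard hynot ?_
  intro g hg
  -- g = y * x ^ j
  have hmem : y⁻¹ * g ∈ Subgroup.zpowers x := by
    rw [Subgroup.mul_mem_iff_of_index_two hidx, inv_mem_iff]
    exact ⟨fun h => absurd h hynot, fun h => absurd h hg⟩
  rw [Subgroup.mem_zpowers_iff] at hmem
  obtain ⟨j, hj⟩ := hmem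
  have hgj : g = y * x ^ j := by rw [hj]; group
  have hconj : y * x ^ j * y⁻¹ = (x ^ (2 ^ (n - 1) - 1 : ℕ)) ^ j := by
    rw [← hxy]
    simp [conj_zpow]
  have hg2 : g ^ 2 = (x ^ (2 ^ (n - 1) : ℕ)) ^ j := by
    rw [pow_two, hgj]
    have : y * x ^ j * (y * x ^ j) = (y * x ^ j * y⁻¹) * x ^ j := by
      rw [hyinv]; group
    rw [this, hconj, ← zpow_natCast, ← zpow_natCast, ← zpow_mul, ← zpow_mul, ← zpow_add]
    congr 1
    have : ((2 ^ (n - 1) - 1 : ℕ) : ℤ) = 2 ^ (n - 1) - 1 := by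
      rw [Nat.cast_sub (by omega)]; simp
    rw [this]; push_cast; ring
  have hg4 : g ^ 4 = 1 := by
    have : g ^ 4 = (g ^ 2) ^ 2 := by rw [← pow_mul]
    rw [this, hg2, ← zpow_natCast, ← zpow_natCast, ← zpow_mul, ← zpow_mul]
    have h5 : ((2 ^ (n - 1) : ℕ) : ℤ) * (j * ((2 : ℕ) : ℤ)) = ((2 ^ n : ℕ) : ℤ) * j := by
      rw [hpow]; push_cast; ring
    rw [h5, zpow_mul, zpow_natCast, ← hx, pow_orderOf_eq_one, one_zpow]
  have hle : orderOf g ≤ 4 := Nat.le_of_dvd (by norm_num) (orderOf_dvd_of_pow_eq_one hg4)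
  rw [hx]
  omega

theorem result {X : Type*} [Group X] [Finite X] (h2 : IsPGroup 2 X)
    (h : (∃ n : ℕ, 4 ≤ n ∧ Nonempty (X ≃* DihedralGroup n)) ∨ Cfsg.IsQuasiDihedral X) : IsPGroup 2 (MulAut X) := by
  rcases h with ⟨m, hm, ⟨e⟩⟩ | h
  · have h3 : IsPGroup 2 (DihedralGroup m) := h2.of_equiv e
    exact (dihedral_case m hm h3).of_equiv (MulAut.congr e).symm
  · exact quasidihedral_case h

end Cfsg.Agent.S3116
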