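import Mathlib
import Cfsg.Statements.S3155

set_option autoImplicit false
open Cfsg

namespace Cfsg.Agent.S3155

abbrev M := ZMod 4 × ZMod 4 × ZMod 4

theorem no_sq (x : ZMod 4) : x * x ≠ -1 := by
  revert x; decide

theorem one_lt_four : Fact (1 < 4) := ⟨by norm_num⟩

theorem finrank_M : Module.finrank (ZMod 4) M = 3 := by
  haveI := one_lt_four
  show Module.finrank (ZMod 4) (ZMod 4 × ZMod 4 × ZMod 4) = 3
  rw [Module.finrank_prod, Module.finrank_prod, Module.finrank_self]

/-- no additive endomorphism of `(ZMod 4)^3` squares to negation -/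
theorem no_sqrt_neg (σ : M →+ M) (h : ∀ m, σ (σ m) = -m) : False := by
  let f : M →ₗ[ZMod 4] M := σ.toZModLinearMap 4
  have hff : f ∘ₗ f = (-1 : ZMod 4) • LinearMap.id := by
    apply LinearMap.ext
    intro m
    show σ (σ m) = (-1 : ZMod 4) • m
    rw [h m]; simp
  have h1 := congrArg LinearMap.det hff
  rw [LinearMap.det_comp, LinearMap.det_smul, LinearMap.det_id, finrank_M] at h1
  have h2 : ((-1 : ZMod 4)) ^ 3 * 1 = -1 := by decide
  rw [h2] at h1
  exact no_sq _ h1

/-- Let B be the direct product of three cyclic groups of order 4. Then the automorphism of B inverting every element is not the square of any automorphism of B. -/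
theorem result {B : Type*} [CommGroup B] [Finite B] (hB : Nonempty (B ≃* Multiplicative (ZMod 4 × ZMod 4 × ZMod 4)))
    (τ : B ≃* B) : τ.trans τ ≠ MulEquiv.inv B := by
  intro h
  obtain ⟨e⟩ := hB
  have hτ : ∀ b : B, τ (τ b) = b⁻¹ := by
    intro b
    have := congrArg (fun φ : B ≃* B => φ b) h
    simpa using this
  let σ : M →+ M :=
    { toFun := fun m => Multiplicative.toAdd (e (τ (e.symm (Multiplicative.ofAdd m))))
      map_zero' := by simp
      map_add' := by
        intro a b
        simp [ofAdd_add, map_mul, toAdd_mul] }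
  apply no_sqrt_neg σ
  intro m
  show Multiplicative.toAdd (e (τ (e.symm (Multiplicative.ofAdd
    (Multiplicative.toAdd (e (τ (e.symm (Multiplicative.ofAdd m))))))))) = -m
  simp [hτ]

end Cfsg.Agent.S3155
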