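import Cfsg.Statements.S3157
import Cfsg.Agent.Lib.Helper44_PSLnUT
import Cfsg.Agent.Lib.Helper61_F4
import Cfsg.Agent.Lib.Helper76_S3157Defs
import Cfsg.Agent.Lib.Helper64_S3157_STR
import Cfsg.Agent.Lib.Helper76_S3157_RHO
import Cfsg.Agent.Lib.Helper76_S3157_C8
import Cfsg.Agent.Lib.Helper86_S3157_ORD8
import Cfsg.Agent.Lib.Helper76_S3157_SING
import Cfsg.Agent.Lib.Helper76_S3157_F4HOM
import Cfsg.Agent.Lib.Helper86_S3157_HEIS

set_option autoImplicit false
open Cfsg
open scoped commutatorElement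
open Cfsg.Agent.Lib.Helper76_S3157Defs

namespace Cfsg.Agent.S3157

open Cfsg.Agent.Lib.Helper44_PSLnUT Cfsg.Agent.Lib.Helper61_F4

/-- Let T be a non-abelian group of order 64 admitting automorphisms ρ of order 3 and x of order 2 with x ρ x⁻¹ = ρ⁻¹ (so they generate a symmetric group of degree 3), where ρ fixes only the identity. Then T is isomorphic to a Sylow 2-subgroup of the projective special linear group of dimension 3 over the field with 4 elements, and the subgroup of fixed points of x is dihedral of order 8 or quaternion of order 8. -/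
theorem result {T : Type*} [Group T] [Finite T] (hT : Nat.card T = 64) (hna : ¬ IsMulCommutative T) (ρ x : MulAut T) (hρ : orderOf ρ = 3) (hx : orderOf x = 2)
    (hxr : x * ρ * x⁻¹ = ρ⁻¹) (hfp : ∀ y : T, ρ y = y → y = 1) (C : Subgroup T) (hC : ∀ y : T, y ∈ C ↔ x y = y) :
    (∃ (F : Type) (_ : Field F) (_ : Fintype F), Fintype.card F = 4 ∧
        ∃ S : Sylow 2 (Matrix.ProjectiveSpecialLinearGroup (Fin 3) F), Nonempty (T ≃* ↥(S : Subgroup (Matrix.ProjectiveSpecialLinearGroup (Fin 3) F)))) ∧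
      (Nonempty (↥C ≃* DihedralGroup 4) ∨ Nonempty (↥C ≃* QuaternionGroup 2)) := by
  -- basic facts
  have hρ3 : ∀ t : T, ρ (ρ (ρ t)) = t := by
    intro t
    have h1 : ρ ^ 3 = 1 := by rw [← hρ]; exact pow_orderOf_eq_one ρ
    have h2 : (ρ ^ 3) t = t := by rw [h1]; rfl
    simpa [pow_succ] using h2
  have hx2 : ∀ t : T, x (x t) = t := by
    intro t
    have h1 : x ^ 2 = 1 := by rw [← hx]; exact pow_orderOf_eq_one x
    have h2 : (x ^ 2) t = t := by rw [h1]; rfl
    simpa [pow_succ] using h2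
  have hxρ : ∀ t : T, x (ρ t) = ρ (ρ (x t)) := by
    intro t
    have h1 : x * ρ = ρ⁻¹ * x := by
      rw [← hxr]; group
    have h2 : (x * ρ) t = (ρ⁻¹ * x) t := by rw [h1]
    have h3 : ρ⁻¹ (x t) = ρ (ρ (x t)) := by
      rw [MulAut.inv_apply, MulEquiv.symm_apply_eq]
      exact (hρ3 _).symm
    rw [MulAut.mul_apply, MulAut.mul_apply, h3] at h2
    exact h2
  have hna' : ∃ a b : T, a * b ≠ b * a := by
    by_contra hcon
    push Not at hcon
    exact hna ⟨⟨hcon⟩⟩
  obtain ⟨hZ, hcl, hsq, hz2⟩ := Cfsg.Agent.Lib.Helper64_S3157_STR.structure_thm hT hna' ρ hρ3 hfp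
  have hR : HypR T ρ := Cfsg.Agent.Lib.Helper76_S3157_RHO.hypR_of_structure hT hna' ρ hρ3 hfp hZ hcl hsq hz2
  have hX : HypX T ρ x := { hR with x2 := hx2, xrho := hxρ }
  -- the centralizer of x
  have hCeq : C = fixSub x := by
    ext y
    rw [hC, mem_fixSub]
  obtain ⟨hC8, c₁, c₂, hc₁, hc₂, hc⟩ := Cfsg.Agent.Lib.Helper76_S3157_C8.card_fixSub hX
  have hC8' : Nat.card C = 8 := by rw [hCeq]; exact hC8
  have hCna : ∃ a b : C, a * b ≠ b * a := by
    refine ⟨⟨c₁, (hC c₁).mpr hc₁⟩, ⟨c₂, (hC c₂).mpr hc₂⟩, ?_⟩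
    intro h
    exact hc (congrArg Subtype.val h)
  have hdich := Cfsg.Agent.Lib.Helper86_S3157_ORD8.order_eight_dichotomy hC8' hCna
  have hpair : (∃ a b : T, a ^ 2 = 1 ∧ b ^ 2 = 1 ∧ a * b ≠ b * a) ∨
      (∃ t s : T, t ^ 2 = s ^ 2 ∧ ⁅t, s⁆ = t ^ 2 ∧ t ^ 2 ≠ 1) := by
    rcases hdich with ⟨-, a, b, ha, hb, hab⟩ | ⟨-, t, s, hts, hcomm, ht⟩
    · left
      refine ⟨a, b, ?_, ?_, ?_⟩
      · have := congrArg Subtype.val ha; simpa using this
      · have := congrArg Subtype.val hb; simpa using this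
      · intro h
        exact hab (Subtype.ext (by simpa using h))
    · right
      refine ⟨t, s, ?_, ?_, ?_⟩
      · have := congrArg Subtype.val hts; simpa using this
      · have := congrArg Subtype.val hcomm
        simpa [commutatorElement_def] using this
      · intro h
        exact ht (Subtype.ext (by simpa using h))
  refine ⟨?_, ?_⟩
  · obtain ⟨a₁, b₁, ha, hb, hab⟩ := Cfsg.Agent.Lib.Helper76_S3157_SING.exists_sing hR hpair
    obtain ⟨A, B, Zm, hZc, hZinj, hAB⟩ := Cfsg.Agent.Lib.Helper76_S3157_F4HOM.exists_homs hR a₁ b₁ ha hb hab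
    have hcard : Nat.card T = Fintype.card F4 ^ 3 := by rw [hT, F4.card]; norm_num
    obtain ⟨e⟩ := Cfsg.Agent.Lib.Helper86_S3157_HEIS.heis_recognition hcard A B Zm hZc hZinj hAB
    have : Fact (Nat.Prime 2) := ⟨Nat.prime_two⟩
    obtain ⟨S, hS⟩ := exists_sylow_PSL (n := 3) (F := F4) (p := 2) (f := 2) (by rw [F4.card]; norm_num)
    refine ⟨F4, inferInstance, inferInstance, F4.card, S, ?_⟩
    -- UT 3 F4 ≃* UTbar 3 F4
    let φ : UT 3 F4 →* Matrix.ProjectiveSpecialLinearGroup (Fin 3) F4 :=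
      (QuotientGroup.mk' (Subgroup.center (Matrix.SpecialLinearGroup (Fin 3) F4))).comp
        (UT 3 F4).subtype
    have hφ : Function.Injective φ := by
      rintro ⟨a, ha⟩ ⟨b, hb⟩ hab
      exact Subtype.ext (mk_injOn a b ha hb hab)
    have hr : φ.range = UTbar 3 F4 := by
      rw [MonoidHom.range_comp, Subgroup.range_subtype]
      rfl
    have e2 : UT 3 F4 ≃* φ.range := MonoidHom.ofInjective hφ
    have e3 : φ.range ≃* (S : Subgroup (Matrix.ProjectiveSpecialLinearGroup (Fin 3) F4)) :=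
      MulEquiv.subgroupCongr (by rw [hr, hS])
    exact ⟨(e.trans e2).trans e3⟩
  · rcases hdich with ⟨h, -⟩ | ⟨h, -⟩
    · exact Or.inl h
    · exact Or.inr h

end Cfsg.Agent.S3157
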