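import Mathlib
import Cfsg.Statements.S3158
import Cfsg.Agent.Lib.Helper32_PGroup

set_option autoImplicit false
open Cfsg

namespace Cfsg.Agent.S3158

variable {U : Type*} [Group U]

/-- powers of `y` preserve `V` -/
theorem pow_mem (y : MulAut U) (V : Subgroup U) (hyV : ∀ v ∈ V, y v ∈ V) (k : ℕ) :
    ∀ v ∈ V, (y ^ k) v ∈ V := by
  induction k with
  | zero => intro v hv; simpa using hv
  | succ k ih =>
    intro v hv
    rw [pow_succ', MulAut.mul_apply]
    exact hyV _ (ih v hv)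

/-- regularity of the action of `⟨y⟩` on `V \ {1}` -/
theorem regular [Finite U] (q : ℕ) (y : MulAut U) (hy : orderOf y = q - 1)
    (hfp : ∀ k : ℕ, y ^ k ≠ 1 → ∀ u : U, (y ^ k) u = u → u = 1)
    (V : Subgroup U) (hVc : Nat.card ↥V = q) (hyV : ∀ v ∈ V, y v ∈ V)
    {v v' : U} (hv : v ∈ V) (hv1 : v ≠ 1) (hv' : v' ∈ V) (hv'1 : v' ≠ 1) :
    ∃ k : ℕ, (y ^ k) v = v' := by
  classical
  have hinj : Set.InjOn (fun k : ℕ => (y ^ k) v) (↑(Finset.range (q - 1)) : Set ℕ) := by
    have key : ∀ i j : ℕ, i < j → j < q - 1 → (y ^ i) v ≠ (y ^ j) v := by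
      intro i j hij hj h
      have h1 : (y ^ j) v = (y ^ i) ((y ^ (j - i)) v) := by
        rw [← MulAut.mul_apply, ← pow_add]; congr 2; omega
      rw [h1] at h
      have h2 : (y ^ (j - i)) v = v := ((y ^ i).injective h).symm
      have h3 : y ^ (j - i) ≠ 1 :=
        pow_ne_one_of_lt_orderOf (by omega) (by rw [hy]; omega)
      exact hv1 (hfp _ h3 v h2)
    intro i hi j hj h
    simp only [Finset.coe_range, Set.mem_Iio] at hi hj
    by_contra hne
    rcases lt_or_gt_of_ne hne with h' | h'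
    · exact key i j h' hj h
    · exact key j i h' hi h.symm
  have hsub : (fun k : ℕ => (y ^ k) v) '' (↑(Finset.range (q - 1)) : Set ℕ) ⊆
      ((V : Set U) \ {1}) := by
    rintro _ ⟨k, -, rfl⟩
    refine ⟨pow_mem y V hyV k v hv, ?_⟩
    intro h
    have : (y ^ k) v = (y ^ k) 1 := by rw [map_one]; exact h
    exact hv1 ((y ^ k).injective this)
  have hcard : ((V : Set U) \ {1}).ncard ≤
      ((fun k : ℕ => (y ^ k) v) '' (↑(Finset.range (q - 1)) : Set ℕ)).ncard := by
    rw [Set.ncard_image_of_injOn hinj, Set.ncard_coe_finset, Finset.card_range,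
      Set.ncard_diff_singleton_of_mem V.one_mem]
    have : (V : Set U).ncard = Nat.card ↥V := rfl
    rw [this, hVc]
  have heq := Set.eq_of_subset_of_ncard_le hsub hcard (Set.toFinite _)
  have : v' ∈ ((V : Set U) \ {1}) := ⟨hv', hv'1⟩
  rw [← heq] at this
  obtain ⟨k, -, hk⟩ := this
  exact ⟨k, hk⟩

/-- automorphisms preserve the centre -/
theorem map_mem_center (f : MulAut U) {z : U} (hz : z ∈ Subgroup.center U) :
    f z ∈ Subgroup.center U := by
  rw [Subgroup.mem_center_iff] at hz ⊢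
  intro g
  have := congrArg f (hz (f.symm g))
  rw [map_mul, map_mul, MulEquiv.apply_symm_apply] at this
  exact this

/-- Let U be a group of order q² with q = 2^n ≥ 2, and y an automorphism of U of order q − 1 all of whose nontrivial powers fix only the identity. Let V be a proper normal y-invariant subgroup of U such that V and U/V are elementary abelian 2-groups and there is an isomorphism from V to U/V commuting with the actions of y. Then U is abelian. -/
theorem result {U : Type*} [Group U] [Finite U] (n : ℕ) (hn : 1 ≤ n) (hU : Nat.card U = (2 ^ n) ^ 2)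
    (y : MulAut U) (hy : orderOf y = 2 ^ n - 1) (hfp : ∀ k : ℕ, y ^ k ≠ 1 → ∀ u : U, (y ^ k) u = u → u = 1)
    (V : Subgroup U) [V.Normal] (hV : V ≠ ⊤) (hyV : ∀ v ∈ V, y v ∈ V)
    (hVe : ∀ v ∈ V, v ^ 2 = 1) (hQe : ∀ u : U, u ^ 2 ∈ V) (hQc : ∀ u w : U, u * w * u⁻¹ * w⁻¹ ∈ V)
    (φ : ↥V ≃* U ⧸ V) (hφ : ∀ (v : ↥V) (u : U), (QuotientGroup.mk u : U ⧸ V) = φ v → φ ⟨y v, hyV v v.2⟩ = QuotientGroup.mk (y u)) :
    IsMulCommutative U := by
  -- it suffices that squaring is multiplicative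
  suffices hmul : ∀ u w : U, (u * w) ^ 2 = u ^ 2 * w ^ 2 by
    refine ⟨⟨fun u w => ?_⟩⟩
    have h := hmul u w
    rw [pow_two, pow_two, pow_two] at h
    have h1 : u * (w * u) * w = u * (u * w) * w := by
      rw [← mul_assoc, ← mul_assoc]
      calc u * w * u * w = u * w * (u * w) := by group
        _ = u * u * (w * w) := h
        _ = u * u * w * w := by group
    exact (mul_left_cancel (mul_right_cancel h1)).symm
  -- `|V| = 2^n`
  have hVc : Nat.card ↥V = 2 ^ n := by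
    have h1 := Subgroup.card_eq_card_quotient_mul_card_subgroup V
    rw [← Nat.card_congr φ.toEquiv, hU, ← pow_two] at h1
    exact (Nat.pow_left_injective (by norm_num : 2 ≠ 0) h1).symm
  have hreg := fun {v v' : U} => regular (2 ^ n) y hy hfp V hVc hyV (v := v) (v' := v')
  -- `V` is central
  have hU2 : IsPGroup 2 U := IsPGroup.of_card (n := n * 2) (by rw [hU, pow_mul])
  have hVbot : V ≠ ⊥ := by
    intro h
    rw [h, Subgroup.card_bot] at hVc
    have : 2 ≤ 2 ^ n := by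
      calc 2 = 2 ^ 1 := (pow_one 2).symm
        _ ≤ 2 ^ n := Nat.pow_le_pow_right (by norm_num) hn
    omega
  obtain ⟨z, hzV, hzc, hz1⟩ :=
    Cfsg.Agent.Lib.Helper32_PGroup.exists_mem_center_of_normal hU2 V hVbot
  have hVZ : ∀ v ∈ V, ∀ g : U, g * v = v * g := by
    intro v hv
    by_cases hv1 : v = 1
    · intro g; rw [hv1, mul_one, one_mul]
    · obtain ⟨k, hk⟩ := hreg hzV hz1 hv hv1
      rw [← hk]
      exact Subgroup.mem_center_iff.mp (map_mem_center _ hzc)
  -- the homomorphism `Ψ : U → V`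
  let Ψ : U →* ↥V := φ.symm.toMonoidHom.comp (QuotientGroup.mk' V)
  have hΨdef : ∀ u, Ψ u = φ.symm (QuotientGroup.mk u) := fun u => rfl
  have hΨker : ∀ u, Ψ u = 1 ↔ u ∈ V := by
    intro u
    rw [hΨdef, MulEquiv.map_eq_one_iff, QuotientGroup.eq_one_iff]
  have hΨeq : ∀ u u', Ψ u = Ψ u' → u⁻¹ * u' ∈ V := by
    intro u u' h
    rw [hΨdef, hΨdef] at h
    exact QuotientGroup.eq.mp (φ.symm.injective h)
  have hΨy : ∀ u, ((Ψ (y u) : ↥V) : U) = y (Ψ u) := by
    intro u
    have h1 : (QuotientGroup.mk u : U ⧸ V) = φ (Ψ u) := by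
      rw [hΨdef, MulEquiv.apply_symm_apply]
    have h2 := hφ (Ψ u) u h1
    have h3 : Ψ (y u) = ⟨y (Ψ u), hyV _ (Ψ u).2⟩ := by
      rw [hΨdef, ← h2, MulEquiv.symm_apply_apply]
    rw [h3]
  have hΨyk : ∀ (k : ℕ) u, ((Ψ ((y ^ k) u) : ↥V) : U) = (y ^ k) (Ψ u) := by
    intro k
    induction k with
    | zero => intro u; simp
    | succ k ih =>
      intro u
      rw [pow_succ', MulAut.mul_apply, hΨy, ih, MulAut.mul_apply]
  -- squares depend only on `Ψ`
  have hsq : ∀ u u', Ψ u = Ψ u' → u ^ 2 = u' ^ 2 := by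
    intro u u' h
    have hv := hΨeq u u' h
    have hc := hVZ _ hv
    have h2 := hVe _ hv
    have : u' = u * (u⁻¹ * u') := by group
    rw [this, pow_two, pow_two]
    calc u * u = u * u * (u⁻¹ * u') ^ 2 := by rw [h2, mul_one]
      _ = u * (u * (u⁻¹ * u')) * (u⁻¹ * u') := by rw [pow_two]; group
      _ = u * ((u⁻¹ * u') * u) * (u⁻¹ * u') := by rw [hc u]
      _ = u * (u⁻¹ * u') * (u * (u⁻¹ * u')) := by group
  obtain ⟨u₀, -, hu₀⟩ := SetLike.exists_of_lt (lt_of_le_of_ne le_top hV)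
  have hv₀1 : ((Ψ u₀ : ↥V) : U) ≠ 1 := by
    intro h
    exact hu₀ ((hΨker u₀).mp (Subtype.ext h))
  have key : ∀ u, u ∉ V → ∃ j : ℕ, u ^ 2 = (y ^ j) (u₀ ^ 2) ∧
      ((Ψ u : ↥V) : U) = (y ^ j) (Ψ u₀) := by
    intro u hu
    have h1 : ((Ψ u : ↥V) : U) ≠ 1 := by
      intro h
      exact hu ((hΨker u).mp (Subtype.ext h))
    obtain ⟨j, hj⟩ := hreg (Ψ u₀).2 hv₀1 (Ψ u).2 h1
    refine ⟨j, ?_, hj.symm⟩
    have h2 : Ψ ((y ^ j) u₀) = Ψ u := Subtype.ext (by rw [hΨyk, hj])
    rw [← hsq _ _ h2, map_pow]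
  by_cases hu₀2 : u₀ ^ 2 = 1
  · have hall : ∀ u : U, u ^ 2 = 1 := by
      intro u
      by_cases hu : u ∈ V
      · exact hVe u hu
      · obtain ⟨j, hj, -⟩ := key u hu
        rw [hj, hu₀2, map_one]
    intro u w
    rw [hall, hall, hall, one_mul]
  · obtain ⟨k, hk⟩ := hreg (Ψ u₀).2 hv₀1 (hQe u₀) hu₀2
    have hform : ∀ u : U, u ^ 2 = (y ^ k) (Ψ u) := by
      intro u
      by_cases hu : u ∈ V
      · rw [hVe u hu, (hΨker u).mpr hu, Subgroup.coe_one, map_one]
      · obtain ⟨j, hj, hj'⟩ := key u hu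
        rw [hj, hj', ← hk, ← MulAut.mul_apply, ← MulAut.mul_apply, ← pow_add, ← pow_add,
          add_comm]
    intro u w
    rw [hform, hform, hform, map_mul, Subgroup.coe_mul, map_mul]

end Cfsg.Agent.S3158
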