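import Cfsg.Statements.S3162
import Cfsg.Agent.S3156
import Cfsg.Agent.Lib.Helper8_NormSim
import Cfsg.Agent.Lib.Helper49_CharP

/-!
# S3162: the automorphism group of a Sylow 2-subgroup of `SU₃(2ⁿ)` (helper8)

The Sylow 2-subgroup is the parameter group `PS σ` of `S1141` (pairs `(b, c)` with
`c + σ c = b σ b`).  Every automorphism induces on `PS σ / Z ≅ F` a similitude of the norm form,
hence a map `b ↦ l * φ b` (`Helper8_NormSim`).  The kernel of `α ↦ (b ↦ l φ b)` consists of the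
central automorphisms `(b, c) ↦ (b, c + ζ b)` with `ζ : F →+ K`; it is the `2`-core.
-/

set_option autoImplicit false
set_option linter.unusedSectionVars false
open Cfsg

namespace Cfsg.Agent.S3162

open Cfsg.Agent.S1141 Cfsg.Agent.S3315 Cfsg.Agent.S3156 Cfsg.Agent.Lib.Helper8_NormSim

section bpart

variable {F : Type*} [Field F] [Fintype F] [CharP F 2] {σ : F →+* F}
  [hσ : Fact (∀ x : F, σ (σ x) = x)]

/-- a section of the projection onto the first coordinate -/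
def sec (τ : F) (hτ : τ + σ τ = 1) (b : F) : PS σ := PS.mkOf τ hτ b 0 (map_zero σ)

theorem sec_b (τ : F) (hτ : τ + σ τ = 1) (b : F) : (sec τ hτ b).b = b := rfl

/-- the map induced by an automorphism on the first coordinate -/
def bp (τ : F) (hτ : τ + σ τ = 1) (α : MulAut (PS σ)) (b : F) : F := (α (sec τ hτ b)).b

theorem apply_b (τ : F) (hτ : τ + σ τ = 1) (t : F) (ht : σ t ≠ t) (α : MulAut (PS σ))
    (p : PS σ) : (α p).b = bp τ hτ α p.b := by
  obtain ⟨A, hA⟩ := exists_induced τ hτ t ht α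
  rw [bp, hA, hA, sec_b]

theorem bp_one (τ : F) (hτ : τ + σ τ = 1) (b : F) : bp τ hτ (1 : MulAut (PS σ)) b = b := rfl

theorem bp_mul (τ : F) (hτ : τ + σ τ = 1) (t : F) (ht : σ t ≠ t) (α β : MulAut (PS σ)) (b : F) :
    bp τ hτ (α * β) b = bp τ hτ α (bp τ hτ β b) := by
  rw [bp, MulAut.mul_apply, apply_b τ hτ t ht α]
  rfl

theorem bp_add (τ : F) (hτ : τ + σ τ = 1) (t : F) (ht : σ t ≠ t) (α : MulAut (PS σ)) (b b' : F) :
    bp τ hτ α (b + b') = bp τ hτ α b + bp τ hτ α b' := by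
  have h1 : (sec τ hτ b * sec τ hτ b' : PS σ).b = b + b' := rfl
  have h2 := apply_b τ hτ t ht α (sec τ hτ b * sec τ hτ b')
  rw [h1, map_mul, PS.mul_b] at h2
  exact h2.symm

/-- the action on `PS σ / Z = F` -/
def Psi (τ : F) (hτ : τ + σ τ = 1) (t : F) (ht : σ t ≠ t) : MulAut (PS σ) →* Equiv.Perm F where
  toFun α :=
    { toFun := bp τ hτ α
      invFun := bp τ hτ α⁻¹
      left_inv := fun b => by rw [← bp_mul τ hτ t ht, inv_mul_cancel, bp_one]
      right_inv := fun b => by rw [← bp_mul τ hτ t ht, mul_inv_cancel, bp_one] }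
  map_one' := by
    ext b
    exact bp_one τ hτ b
  map_mul' α β := by
    ext b
    exact bp_mul τ hτ t ht α β b

theorem Psi_apply (τ : F) (hτ : τ + σ τ = 1) (t : F) (ht : σ t ≠ t) (α : MulAut (PS σ)) (b : F) :
    Psi τ hτ t ht α b = bp τ hτ α b := rfl

theorem mem_ker_Psi (τ : F) (hτ : τ + σ τ = 1) (t : F) (ht : σ t ≠ t) (α : MulAut (PS σ)) :
    α ∈ (Psi τ hτ t ht).ker ↔ ∀ p : PS σ, (α p).b = p.b := by
  rw [MonoidHom.mem_ker]
  constructor
  · intro h p
    rw [apply_b τ hτ t ht, ← Psi_apply τ hτ t ht, h]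
    rfl
  · intro h
    ext b
    rw [Psi_apply, bp, h, sec_b]
    rfl

end bpart

section classify

variable {F : Type*} [Field F] [Fintype F] [CharP F 2] {σ : F →+* F}
  [hσ : Fact (∀ x : F, σ (σ x) = x)]

/-- the central element with second coordinate `k` (for `k` fixed by `σ`) is `cz σ (τ * k)` -/
theorem cz_tau_c (τ : F) (hτ : τ + σ τ = 1) (k : F) (hk : σ k = k) : (cz σ (τ * k)).c = k := by
  rw [cz_c, map_mul, hk, ← add_mul, hτ, one_mul]

/-- the structure of an automorphism: on the first coordinate it is `b ↦ l * φ b`, on the centre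
it is `c ↦ l * σ l * φ c` -/
theorem aut_classification (τ : F) (hτ : τ + σ τ = 1) (t : F) (ht : σ t ≠ t)
    (α : MulAut (PS σ)) :
    ∃ (l : F) (φ : F ≃+* F), l ≠ 0 ∧ (∀ p : PS σ, (α p).b = l * φ p.b) ∧
      (∀ p : PS σ, p.b = 0 → (α p).c = l * σ l * φ p.c) := by
  obtain ⟨A, hA⟩ := exists_induced τ hτ t ht α
  have hcen := apply_b_eq_zero_iff τ hτ t ht α
  have hAinj : Function.Injective A := by
    rw [injective_iff_map_eq_zero]
    intro b hb
    have h1 : (α (sec τ hτ b)).b = 0 := by rw [hA, sec_b, hb]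
    exact (hcen _).mp h1
  have hαcz : ∀ x, (α (cz σ x)).b = 0 := fun x => (hcen _).mpr (cz_b x)
  let B : F →+ F := AddMonoidHom.mk' (fun x => (α (cz σ (τ * x))).c) (by
    intro x y
    show (α (cz σ (τ * (x + y)))).c = (α (cz σ (τ * x))).c + (α (cz σ (τ * y))).c
    rw [mul_add, cz_add, map_mul, PS.mul_c, hαcz, map_zero, zero_mul, add_zero])
  have hB : ∀ x, B x = (α (cz σ (τ * x))).c := fun x => rfl
  have hAB : ∀ b, A b * σ (A b) = B (b * σ b) := by
    intro b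
    have h1 : sec τ hτ b * sec τ hτ b = cz σ (τ * (b * σ b)) := by
      apply PS.ext
      · rw [PS.mul_b, sec_b, cz_b]
        exact CharTwo.add_self_eq_zero b
      · rw [PS.mul_c, cz_tau_c τ hτ _ (norm_fix b), sec_b, CharTwo.add_self_eq_zero, zero_add,
          mul_comm]
    rw [hB, ← h1, map_mul, PS.mul_c, hA, sec_b, CharTwo.add_self_eq_zero, zero_add, mul_comm]
  obtain ⟨l, φ, hl, h1, h2⟩ := similitude_classification τ hτ t ht A B hAinj hAB
  refine ⟨l, φ, hl, fun p => by rw [hA, h1], ?_⟩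
  intro p hp
  have hpc := PS.fix_c_of_b p hp
  rw [← h2 _ hpc, hB]
  conv_lhs => rw [eq_cz τ hτ p hp]

end classify

section standard

variable {F : Type*} [Field F] [Fintype F] [CharP F 2] {σ : F →+* F}
  [hσ : Fact (∀ x : F, σ (σ x) = x)]

/-- the standard endomorphism `(b, c) ↦ (l φ b, l σ(l) φ c)` -/
def slHom (l : F) (φ : F ≃+* F) (hφ : ∀ x, φ (σ x) = σ (φ x)) : PS σ →* PS σ where
  toFun p := ⟨l * φ p.b, l * σ l * φ p.c, by
    have h := congrArg φ p.h
    rw [map_add, map_mul, hφ, hφ] at h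
    rw [map_mul σ, map_mul σ, map_mul σ, hσ.out l]
    grind⟩
  map_one' := by
    apply PS.ext
    · show l * φ (1 : PS σ).b = (1 : PS σ).b
      rw [PS.one_b, map_zero, mul_zero]
    · show l * σ l * φ (1 : PS σ).c = (1 : PS σ).c
      rw [PS.one_c, map_zero, mul_zero]
  map_mul' p q := by
    apply PS.ext
    · show l * φ (p * q).b = l * φ p.b + l * φ q.b
      rw [PS.mul_b, map_add, mul_add]
    · show l * σ l * φ (p * q).c = l * σ l * φ p.c + l * σ l * φ q.c + σ (l * φ p.b) * (l * φ q.b)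
      rw [PS.mul_c, map_add, map_add, map_mul φ, hφ, map_mul σ]
      ring

theorem slHom_b (l : F) (φ : F ≃+* F) (hφ : ∀ x, φ (σ x) = σ (φ x)) (p : PS σ) :
    (slHom l φ hφ p).b = l * φ p.b := rfl

theorem slHom_c (l : F) (φ : F ≃+* F) (hφ : ∀ x, φ (σ x) = σ (φ x)) (p : PS σ) :
    (slHom l φ hφ p).c = l * σ l * φ p.c := rfl

theorem slHom_injective (l : F) (hl : l ≠ 0) (φ : F ≃+* F) (hφ : ∀ x, φ (σ x) = σ (φ x)) :
    Function.Injective (slHom (σ := σ) l φ hφ) := by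
  intro p q h
  have hb := congrArg PS.b h
  have hc := congrArg PS.c h
  rw [slHom_b, slHom_b] at hb
  rw [slHom_c, slHom_c] at hc
  have hσl : σ l ≠ 0 := (map_ne_zero σ).mpr hl
  apply PS.ext
  · exact φ.injective (mul_left_cancel₀ hl hb)
  · exact φ.injective (mul_left_cancel₀ (mul_ne_zero hl hσl) hc)

/-- the standard automorphism -/
noncomputable def sl (τ : F) (hτ : τ + σ τ = 1) (l : F) (hl : l ≠ 0) (φ : F ≃+* F)
    (hφ : ∀ x, φ (σ x) = σ (φ x)) : MulAut (PS σ) :=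
  haveI : Finite (PS σ) := Finite.of_equiv _ (PS.equivProd τ hτ).symm
  MulEquiv.ofBijective (slHom l φ hφ)
    ⟨slHom_injective l hl φ hφ, Finite.injective_iff_surjective.mp (slHom_injective l hl φ hφ)⟩

theorem sl_apply (τ : F) (hτ : τ + σ τ = 1) (l : F) (hl : l ≠ 0) (φ : F ≃+* F)
    (hφ : ∀ x, φ (σ x) = σ (φ x)) (p : PS σ) : sl τ hτ l hl φ hφ p = slHom l φ hφ p := rfl

theorem bp_sl (τ : F) (hτ : τ + σ τ = 1) (l : F) (hl : l ≠ 0) (φ : F ≃+* F)
    (hφ : ∀ x, φ (σ x) = σ (φ x)) (b : F) : bp τ hτ (sl τ hτ l hl φ hφ) b = l * φ b := rfl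

/-- the image of `Psi` has `|Fˣ| * |Aut F|` elements -/
theorem card_range_Psi (τ : F) (hτ : τ + σ τ = 1) (t : F) (ht : σ t ≠ t)
    (hcomm : ∀ (φ : F ≃+* F) (x : F), φ (σ x) = σ (φ x)) :
    Nat.card (Psi τ hτ t ht).range = Nat.card (Fˣ × (F ≃+* F)) := by
  symm
  let f : Fˣ × (F ≃+* F) → (Psi τ hτ t ht).range := fun x =>
    ⟨Psi τ hτ t ht (sl τ hτ (x.1 : F) x.1.ne_zero x.2 (hcomm x.2)), MonoidHom.mem_range.mpr ⟨_, rfl⟩⟩
  apply Nat.card_eq_of_bijective f
  constructor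
  · rintro ⟨l, φ⟩ ⟨l', φ'⟩ h
    have h1 : ∀ b : F, (l : F) * φ b = (l' : F) * φ' b := by
      intro b
      have h2 := congrArg (fun g : (Psi τ hτ t ht).range => (g : Equiv.Perm F) b) h
      exact h2
    have hl : l = l' := by
      have := h1 1
      rw [map_one, map_one, mul_one, mul_one] at this
      exact Units.ext this
    subst hl
    have hφ : φ = φ' := by
      ext b
      exact mul_left_cancel₀ l.ne_zero (h1 b)
    rw [hφ]
  · rintro ⟨g, hg⟩
    obtain ⟨α, rfl⟩ := MonoidHom.mem_range.mp hg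
    obtain ⟨l, φ, hl, h1, -⟩ := aut_classification τ hτ t ht α
    refine ⟨⟨Units.mk0 l hl, φ⟩, ?_⟩
    apply Subtype.ext
    ext b
    show bp τ hτ (sl τ hτ l hl φ (hcomm φ)) b = bp τ hτ α b
    rw [bp_sl, bp, h1, sec_b]

end standard

section central

variable {F : Type*} [Field F] [Fintype F] [CharP F 2] {σ : F →+* F}
  [hσ : Fact (∀ x : F, σ (σ x) = x)]

/-- the central automorphism `(b, c) ↦ (b, c + ζ b)` -/
def cen (ζ : F →+ fixAdd σ) : MulAut (PS σ) where
  toFun p := ⟨p.b, p.c + (ζ p.b : F), by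
    have h1 : σ (ζ p.b : F) = (ζ p.b : F) := (ζ p.b).2
    have h2 := p.h
    rw [map_add, h1]
    grind⟩
  invFun p := ⟨p.b, p.c + (ζ p.b : F), by
    have h1 : σ (ζ p.b : F) = (ζ p.b : F) := (ζ p.b).2
    have h2 := p.h
    rw [map_add, h1]
    grind⟩
  left_inv p := by
    apply PS.ext
    · rfl
    · show p.c + (ζ p.b : F) + (ζ p.b : F) = p.c
      rw [add_assoc, CharTwo.add_self_eq_zero, add_zero]
  right_inv p := by
    apply PS.ext
    · rfl
    · show p.c + (ζ p.b : F) + (ζ p.b : F) = p.c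
      rw [add_assoc, CharTwo.add_self_eq_zero, add_zero]
  map_mul' p q := by
    apply PS.ext
    · rfl
    · show (p * q).c + (ζ (p * q).b : F)
        = p.c + (ζ p.b : F) + (q.c + (ζ q.b : F)) + σ p.b * q.b
      rw [PS.mul_c, PS.mul_b, map_add, AddSubgroup.coe_add]
      ring

theorem cen_b (ζ : F →+ fixAdd σ) (p : PS σ) : (cen ζ p).b = p.b := rfl

theorem cen_c (ζ : F →+ fixAdd σ) (p : PS σ) : (cen ζ p).c = p.c + (ζ p.b : F) := rfl

theorem cen_mul_cen (ζ ξ : F →+ fixAdd σ) : cen ζ * cen ξ = cen ξ * cen ζ := by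
  ext p
  · rfl
  · show (cen ζ (cen ξ p)).c = (cen ξ (cen ζ p)).c
    rw [cen_c, cen_c, cen_c, cen_c, cen_b, cen_b]
    ring

theorem cen_sq (ζ : F →+ fixAdd σ) : cen ζ ^ 2 = 1 := by
  rw [pow_two]
  ext p
  · rfl
  · show (cen ζ (cen ζ p)).c = p.c
    rw [cen_c, cen_c, cen_b, add_assoc, CharTwo.add_self_eq_zero, add_zero]

theorem cen_injective (τ : F) (hτ : τ + σ τ = 1) :
    Function.Injective (cen : (F →+ fixAdd σ) → MulAut (PS σ)) := by
  intro ζ ξ h
  ext b
  have h1 := congrArg (fun α : MulAut (PS σ) => (α (sec τ hτ b)).c) h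
  simp only [cen_c, sec_b] at h1
  exact add_left_cancel h1

/-- an automorphism acting trivially on the first coordinate fixes the centre -/
theorem ker_fixes_center (τ : F) (hτ : τ + σ τ = 1) (t : F) (ht : σ t ≠ t) (α : MulAut (PS σ))
    (hα : ∀ p : PS σ, (α p).b = p.b) (z : PS σ) (hz : z.b = 0) : α z = z := by
  obtain ⟨l, φ, hl, h1, h2⟩ := aut_classification τ hτ t ht α
  have hl1 : l = 1 := by
    have := h1 (sec τ hτ 1)
    rw [hα, sec_b, map_one, mul_one] at this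
    exact this.symm
  subst hl1
  have hφ : ∀ x, φ x = x := by
    intro x
    have := h1 (sec τ hτ x)
    rw [hα, sec_b, one_mul] at this
    exact this.symm
  apply PS.ext
  · rw [hα]
  · rw [h2 z hz, map_one, mul_one, one_mul, hφ]

/-- for an automorphism acting trivially on the first coordinate, the change of the second
coordinate depends only on the first -/
theorem ker_diff (τ : F) (hτ : τ + σ τ = 1) (t : F) (ht : σ t ≠ t) (α : MulAut (PS σ))
    (hα : ∀ p : PS σ, (α p).b = p.b) (p q : PS σ) (hpq : p.b = q.b) :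
    (α p).c + p.c = (α q).c + q.c := by
  have hz : (p⁻¹ * q).b = 0 := by
    rw [PS.mul_b, PS.inv_b, hpq]
    exact CharTwo.add_self_eq_zero _
  have hq : q = p * (p⁻¹ * q) := by group
  have h1 := ker_fixes_center τ hτ t ht α hα _ hz
  have h2 : (α q).c = (α p).c + (p⁻¹ * q).c := by
    conv_lhs => rw [hq]
    rw [map_mul, PS.mul_c, h1, hz, mul_zero, add_zero]
  have h3 : q.c = p.c + (p⁻¹ * q).c := by
    conv_lhs => rw [hq]
    rw [PS.mul_c, hz, mul_zero, add_zero]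
  rw [h2, h3]
  grind

/-- the kernel of `Psi` consists of the central automorphisms -/
theorem exists_cen (τ : F) (hτ : τ + σ τ = 1) (t : F) (ht : σ t ≠ t) (α : MulAut (PS σ))
    (hα : ∀ p : PS σ, (α p).b = p.b) : ∃ ζ : F →+ fixAdd σ, α = cen ζ := by
  have hfix : ∀ b : F, σ ((α (sec τ hτ b)).c + (sec τ hτ b).c)
      = (α (sec τ hτ b)).c + (sec τ hτ b).c := by
    intro b
    apply fix_of_add_eq_zero
    have h1 := (α (sec τ hτ b)).h
    have h2 := (sec τ hτ b).h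
    rw [hα] at h1
    rw [map_add]
    grind
  let ζ : F →+ fixAdd σ := AddMonoidHom.mk'
    (fun b => ⟨(α (sec τ hτ b)).c + (sec τ hτ b).c, hfix b⟩) (by
      intro b b'
      apply Subtype.ext
      show (α (sec τ hτ (b + b'))).c + (sec τ hτ (b + b')).c
        = ((α (sec τ hτ b)).c + (sec τ hτ b).c) + ((α (sec τ hτ b')).c + (sec τ hτ b').c)
      rw [ker_diff τ hτ t ht α hα (sec τ hτ (b + b')) (sec τ hτ b * sec τ hτ b') rfl,
        map_mul, PS.mul_c, PS.mul_c, hα, hα]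
      grind)
  refine ⟨ζ, ?_⟩
  ext p
  · show (α p).b = p.b
    exact hα p
  · show (α p).c = p.c + ((α (sec τ hτ p.b)).c + (sec τ hτ p.b).c)
    rw [ker_diff τ hτ t ht α hα (sec τ hτ p.b) p rfl]
    grind

end central

section counting

theorem card_addMonoidHom {M N : Type*} [AddCommGroup M] [AddCommGroup N] [Finite M] [Finite N]
    (hM : ∀ x : M, 2 • x = 0) (hN : ∀ x : N, 2 • x = 0) {a b : ℕ} (ha : Nat.card M = 2 ^ a)
    (hb : Nat.card N = 2 ^ b) : Nat.card (M →+ N) = 2 ^ (a * b) := by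
  let _ : Module (ZMod 2) M := AddCommGroup.zmodModule hM
  let _ : Module (ZMod 2) N := AddCommGroup.zmodModule hN
  have h1 : Module.finrank (ZMod 2) M = a := by
    have := Module.natCard_eq_pow_finrank (K := ZMod 2) (V := M)
    rw [ha, Nat.card_zmod] at this
    exact (Nat.pow_right_injective le_rfl this).symm
  have h2 : Module.finrank (ZMod 2) N = b := by
    have := Module.natCard_eq_pow_finrank (K := ZMod 2) (V := N)
    rw [hb, Nat.card_zmod] at this
    exact (Nat.pow_right_injective le_rfl this).symm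
  rw [Nat.card_congr (AddMonoidHom.toZModLinearMapEquiv 2).toEquiv,
    Module.natCard_eq_pow_finrank (K := ZMod 2), Nat.card_zmod, Module.finrank_linearMap, h1, h2]

theorem card_ringAut {F : Type*} [Field F] [Finite F] [CharP F 2] {m : ℕ}
    (hF : Nat.card F = 2 ^ m) : Nat.card (F ≃+* F) = m := by
  let _ := ZMod.algebra F 2
  have h1 : Module.finrank (ZMod 2) F = m := by
    have := Module.natCard_eq_pow_finrank (K := ZMod 2) (V := F)
    rw [hF, Nat.card_zmod] at this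
    exact (Nat.pow_right_injective le_rfl this).symm
  have h2 : Nat.card (F ≃ₐ[ZMod 2] F) = m := by
    rw [IsGalois.card_aut_eq_finrank, h1]
  rw [← h2]
  apply Nat.card_congr
  exact
    { toFun := fun f => AlgEquiv.ofRingEquiv (f := f) (fun x => by
        have := Subsingleton.elim ((f : F →+* F).comp (algebraMap (ZMod 2) F))
          (algebraMap (ZMod 2) F)
        exact DFunLike.congr_fun this x)
      invFun := fun g => g.toRingEquiv
      left_inv := fun f => by ext; rfl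
      right_inv := fun g => by ext; rfl }

end counting

section core

variable {F : Type*} [Field F] [Fintype F] [CharP F 2] {σ : F →+* F}
  [hσ : Fact (∀ x : F, σ (σ x) = x)]

theorem eq_one_of_pow_two_pow {ν : F} {k : ℕ} (h : ν ^ 2 ^ k = 1) : ν = 1 := by
  have h1 : (ν + 1) ^ 2 ^ k = 0 := by
    rw [add_pow_char_pow, h, one_pow]
    exact CharTwo.add_self_eq_zero 1
  have h2 := pow_eq_zero_iff (pow_ne_zero k two_ne_zero) |>.mp h1
  grind

theorem bp_pow_of_scalar (τ : F) (hτ : τ + σ τ = 1) (t : F) (ht : σ t ≠ t) (β : MulAut (PS σ))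
    (ν : F) (hβ : ∀ x, bp τ hτ β x = ν * x) (m : ℕ) (x : F) :
    bp τ hτ (β ^ m) x = ν ^ m * x := by
  induction m generalizing x with
  | zero => rw [pow_zero, pow_zero, one_mul, bp_one]
  | succ m ih => rw [pow_succ, bp_mul τ hτ t ht, hβ, ih, pow_succ]; ring

/-- a scalar automorphism of `2`-power order is trivial on the first coordinate -/
theorem scalar_eq_one (τ : F) (hτ : τ + σ τ = 1) (t : F) (ht : σ t ≠ t) (β : MulAut (PS σ))
    (ν : F) (hβ : ∀ x, bp τ hτ β x = ν * x) {k : ℕ} (hk : β ^ 2 ^ k = 1) : ν = 1 := by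
  have h1 := bp_pow_of_scalar τ hτ t ht β ν hβ (2 ^ k) 1
  rw [hk, bp_one, mul_one] at h1
  exact eq_one_of_pow_two_pow h1.symm

/-- a normal `2`-subgroup of the automorphism group acts trivially on the first coordinate -/
theorem normal_two_subgroup_le_ker (τ : F) (hτ : τ + σ τ = 1) (t : F) (ht : σ t ≠ t)
    (N : Subgroup (MulAut (PS σ))) (hN : N.Normal) (hN2 : IsPGroup 2 N) :
    N ≤ (Psi τ hτ t ht).ker := by
  intro α hα
  rw [mem_ker_Psi]
  obtain ⟨l, φ, hl, h1, -⟩ := aut_classification τ hτ t ht α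
  have hbα : ∀ x, bp τ hτ α x = l * φ x := by
    intro x
    rw [bp, h1, sec_b]
  -- `φ` is trivial
  have hφ : ∀ μ : F, φ μ = μ := by
    intro μ
    by_cases hμ : μ = 0
    · rw [hμ, map_zero]
    let s : MulAut (PS σ) := sl τ hτ μ hμ (RingEquiv.refl F) (fun x => rfl)
    have hbs : ∀ x, bp τ hτ s x = μ * x := fun x => rfl
    have hbs' : ∀ x, bp τ hτ s⁻¹ x = μ⁻¹ * x := by
      intro x
      have h2 : bp τ hτ (s * s⁻¹) x = x := by rw [mul_inv_cancel, bp_one]
      rw [bp_mul τ hτ t ht, hbs] at h2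
      calc bp τ hτ s⁻¹ x = μ⁻¹ * (μ * bp τ hτ s⁻¹ x) := by rw [inv_mul_cancel_left₀ hμ]
        _ = μ⁻¹ * x := by rw [h2]
    have hmem : α * s * α⁻¹ * s⁻¹ ∈ N := by
      have h2 : s * α⁻¹ * s⁻¹ ∈ N := hN.conj_mem _ (N.inv_mem hα) s
      have h3 := N.mul_mem hα h2
      have e : α * (s * α⁻¹ * s⁻¹) = α * s * α⁻¹ * s⁻¹ := by group
      rwa [e] at h3
    have hβ : ∀ x, bp τ hτ (α * s * α⁻¹ * s⁻¹) x = (φ μ * μ⁻¹) * x := by
      intro x
      rw [bp_mul τ hτ t ht, bp_mul τ hτ t ht, bp_mul τ hτ t ht, hbs', hbs, hbα, map_mul]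
      have h4 : l * φ (bp τ hτ α⁻¹ (μ⁻¹ * x)) = μ⁻¹ * x := by
        rw [← hbα, ← bp_mul τ hτ t ht, mul_inv_cancel, bp_one]
      calc l * (φ μ * φ (bp τ hτ α⁻¹ (μ⁻¹ * x)))
          = φ μ * (l * φ (bp τ hτ α⁻¹ (μ⁻¹ * x))) := by ring
        _ = φ μ * μ⁻¹ * x := by rw [h4]; ring
    obtain ⟨k, hk⟩ := hN2 ⟨_, hmem⟩
    have hk' : (α * s * α⁻¹ * s⁻¹) ^ 2 ^ k = 1 := by
      have := congrArg Subtype.val hk
      simpa using this
    have h5 := scalar_eq_one τ hτ t ht _ _ hβ hk'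
    have h6 : φ μ * μ⁻¹ * μ = μ := by rw [h5, one_mul]
    rw [inv_mul_cancel_right₀ hμ] at h6
    exact h6
  -- `l` is trivial
  have hl1 : l = 1 := by
    obtain ⟨k, hk⟩ := hN2 ⟨α, hα⟩
    have hk' : α ^ 2 ^ k = 1 := by
      have := congrArg Subtype.val hk
      simpa using this
    exact scalar_eq_one τ hτ t ht α l (fun x => by rw [hbα, hφ]) hk'
  intro p
  rw [h1, hl1, hφ, one_mul]

end core

section main

variable {F : Type*} [Field F] [Fintype F] [CharP F 2] {σ : F →+* F}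
  [hσ : Fact (∀ x : F, σ (σ x) = x)]

theorem card_ker_Psi (τ : F) (hτ : τ + σ τ = 1) (t : F) (ht : σ t ≠ t) {n : ℕ}
    (hF : Fintype.card F = (2 ^ n) ^ 2) :
    Nat.card (Psi τ hτ t ht).ker = 2 ^ (2 * n ^ 2) := by
  have h1 : Nat.card (F →+ fixAdd σ) = 2 ^ (2 * n * n) :=
    card_addMonoidHom (fun x => CharTwo.two_nsmul x)
      (fun x => Subtype.ext (CharTwo.two_nsmul (x : F))) (a := 2 * n) (b := n)
      (by rw [Nat.card_eq_fintype_card, hF, ← pow_mul, mul_comm])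
      (card_fixAdd τ hτ hF)
  have e : 2 * n * n = 2 * n ^ 2 := by ring
  rw [← e, ← h1]
  symm
  let f : (F →+ fixAdd σ) → (Psi τ hτ t ht).ker := fun ζ =>
    ⟨cen ζ, (mem_ker_Psi τ hτ t ht _).mpr (fun p => rfl)⟩
  apply Nat.card_eq_of_bijective f
  constructor
  · intro ζ ξ h
    exact cen_injective τ hτ (congrArg Subtype.val h)
  · rintro ⟨α, hα⟩
    obtain ⟨ζ, rfl⟩ := exists_cen τ hτ t ht α ((mem_ker_Psi τ hτ t ht _).mp hα)
    exact ⟨ζ, rfl⟩

theorem pCore_eq_ker (τ : F) (hτ : τ + σ τ = 1) (t : F) (ht : σ t ≠ t) {n : ℕ}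
    (hF : Fintype.card F = (2 ^ n) ^ 2) :
    pCore 2 (MulAut (PS σ)) = (Psi τ hτ t ht).ker := by
  have : Fact (Nat.Prime 2) := ⟨Nat.prime_two⟩
  apply le_antisymm
  · exact normal_two_subgroup_le_ker τ hτ t ht _ (Lib.Helper49_CharP.pCoreNormal 2 _)
      (Lib.Helper49_CharP.pCore_isPGroup 2 _)
  · apply Lib.Helper49_CharP.le_pCore (MonoidHom.normal_ker _)
    exact IsPGroup.of_card (card_ker_Psi τ hτ t ht hF)

theorem card_aut (τ : F) (hτ : τ + σ τ = 1) (t : F) (ht : σ t ≠ t) {n : ℕ}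
    (hF : Fintype.card F = (2 ^ n) ^ 2)
    (hcomm : ∀ (φ : F ≃+* F) (x : F), φ (σ x) = σ (φ x)) :
    Nat.card (MulAut (PS σ)) = 2 ^ (2 * n ^ 2) * (2 * n * ((2 ^ n) ^ 2 - 1)) := by
  rw [← Subgroup.card_mul_index (Psi τ hτ t ht).ker, Subgroup.index_ker,
    card_ker_Psi τ hτ t ht hF, card_range_Psi τ hτ t ht hcomm, Nat.card_prod, Nat.card_units,
    Nat.card_eq_fintype_card (α := F), hF,
    card_ringAut (m := 2 * n) (by rw [Nat.card_eq_fintype_card, hF, ← pow_mul, mul_comm])]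
  ring

end main

open Cfsg.Agent.Lib.Helper5_SUOrder Cfsg.Agent.Lib.Helper5_SUCenter in
theorem result {S : Type*} [Group S] [Finite S] (n : ℕ) (hn : 2 ≤ n) {F : Type*} [Field F] [Fintype F] (hF : Fintype.card F = 4 ^ n)
    (P : Sylow 2 ↥(Cfsg.SU 3 F (2 ^ n))) (hS : Nonempty (S ≃* ↥(P : Subgroup ↥(Cfsg.SU 3 F (2 ^ n))))) :
    Cfsg.IsElementaryAbelian 2 (Cfsg.pCore 2 (MulAut S)) ∧ Nat.card ↥(Cfsg.pCore 2 (MulAut S)) = 2 ^ (2 * n ^ 2) ∧
      Nat.card (MulAut S) = 2 ^ (2 * n ^ 2) * (2 * n * ((2 ^ n) ^ 2 - 1)) := by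
  classical
  have hF' : Fintype.card F = (2 ^ n) ^ 2 := by
    rw [hF, show (4 : ℕ) = 2 ^ 2 by norm_num, ← pow_mul, ← pow_mul, mul_comm]
  have := charP_two (by omega) hF'
  have hσ : Fact (∀ x : F, powQ hF' (powQ hF' x) = x) := ⟨powQ_powQ hF'⟩
  obtain ⟨t, ht⟩ := exists_pow_q_ne hF'
  have ht' : powQ hF' t ≠ t := ht
  have hu : t + powQ hF' t ≠ 0 := fun h => ht' (fix_of_add_eq_zero h)
  have hτ : (t / (t + powQ hF' t)) + powQ hF' (t / (t + powQ hF' t)) = 1 := by
    rw [map_div₀, map_add, hσ.out t, add_comm (powQ hF' t) t, ← add_div, div_self hu]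
  generalize t / (t + powQ hF' t) = τ at hτ
  obtain ⟨e0⟩ := exists_equiv hF' (by omega) τ hτ P
  obtain ⟨e1⟩ := hS
  let e : S ≃* PS (powQ hF') := e1.trans e0
  let E : MulAut S ≃* MulAut (PS (powQ hF')) := MulAut.congr e
  have hcomm : ∀ (φ : F ≃+* F) (x : F), φ (powQ hF' x) = powQ hF' (φ x) := by
    intro φ x
    rw [powQ_apply, powQ_apply, map_pow]
  have hcore : (pCore 2 (MulAut S)).map (E : MulAut S →* MulAut (PS (powQ hF')))
      = (Psi τ hτ t ht').ker := by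
    rw [Lib.Helper49_CharP.map_pCore_mulEquiv E, pCore_eq_ker τ hτ t ht' hF']
  have hmem : ∀ a ∈ pCore 2 (MulAut S), ∃ ζ : F →+ fixAdd (powQ hF'), E a = cen ζ := by
    intro a ha
    have h1 : E a ∈ (Psi τ hτ t ht').ker := by
      rw [← hcore]
      exact ⟨a, ha, rfl⟩
    exact exists_cen τ hτ t ht' _ ((mem_ker_Psi τ hτ t ht' _).mp h1)
  refine ⟨⟨?_, ?_⟩, ?_, ?_⟩
  · refine ⟨⟨?_⟩⟩
    rintro ⟨a, ha⟩ ⟨b, hb⟩
    apply Subtype.ext
    obtain ⟨ζ, hζ⟩ := hmem a ha
    obtain ⟨ξ, hξ⟩ := hmem b hb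
    apply E.injective
    show E (a * b) = E (b * a)
    rw [map_mul, map_mul, hζ, hξ, cen_mul_cen]
  · intro a ha
    obtain ⟨ζ, hζ⟩ := hmem a ha
    apply E.injective
    rw [map_pow, hζ, cen_sq, map_one]
  · rw [← card_ker_Psi τ hτ t ht' hF', ← hcore]
    exact (Subgroup.card_map_of_injective (E.injective)).symm
  · rw [Nat.card_congr E.toEquiv]
    exact card_aut τ hτ t ht' hF' hcomm

end Cfsg.Agent.S3162
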