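import Mathlib
import Cfsg.Statements.S3163

set_option autoImplicit false
open Cfsg

namespace Cfsg.Agent.S3163

variable {S : Type*} [Group S]

theorem comm_of_mem {A : Subgroup S} {p : ℕ} (hA : Cfsg.IsElementaryAbelian p A) {x y : S}
    (hx : x ∈ A) (hy : y ∈ A) : x * y = y * x := by
  have := hA.1.is_comm.comm (⟨x, hx⟩ : ↥A) ⟨y, hy⟩
  exact congrArg Subtype.val this

theorem mem_centralizer_singleton {a g : S} :
    g ∈ Subgroup.centralizer ({a} : Set S) ↔ a * g = g * a := by
  rw [Subgroup.mem_centralizer_iff]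
  simp

theorem card_le_of_inf_le [Finite S] (A B C : Subgroup S) [A.Normal]
    (hAB : A ⊔ B = ⊤) (hC : A ⊓ C ≤ B) : Nat.card ↥C ≤ Nat.card ↥B := by
  have key : ∀ K : Subgroup S, Nat.card ↥K = Nat.card ↥(A ⊓ K) * A.relIndex K := by
    intro K
    have h1 := (A.subgroupOf K).card_mul_index
    have h2 : Nat.card ↥(A.subgroupOf K) = Nat.card ↥(A ⊓ K) := by
      rw [← Subgroup.inf_subgroupOf_right]
      exact Nat.card_congr (Subgroup.subgroupOfEquivOfLe inf_le_right).toEquiv
    rw [← h1, h2]; rfl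
  rw [key C, key B]
  have h3 : A.relIndex B = A.index := by
    rw [← Subgroup.relIndex_sup_left B A, hAB, Subgroup.relIndex_top_right]
  have h4 : A.relIndex C ≤ A.index :=
    Nat.le_of_dvd (Nat.pos_of_ne_zero Subgroup.index_ne_zero_of_finite)
      (Subgroup.relIndex_dvd_index_of_normal A C)
  have h5 : Nat.card ↥(A ⊓ C) ≤ Nat.card ↥(A ⊓ B) :=
    Subgroup.card_le_of_le (le_inf inf_le_left hC)
  rw [h3]
  exact Nat.mul_le_mul h5 h4

/-- Let S be a non-abelian finite 2-group which is the product S = AB of two elementary abelian subgroups A and B, and suppose that the centralizer in S of every element of A outside B is exactly A. Then the centralizer of every element of B outside A is exactly B; A and B are maximal elementary abelian subgroups of S and the only ones; the centre of S is A ∩ B; and every element of S outside A ∪ B has centralizer of order at most min(|A|, |B|). -/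
theorem result {S : Type*} [Group S] [Finite S] (hS : IsPGroup 2 S) (hna : ¬ IsMulCommutative S) (A B : Subgroup S)
    (hA : Cfsg.IsElementaryAbelian 2 A) (hB : Cfsg.IsElementaryAbelian 2 B) (hAB : ∀ s : S, ∃ a ∈ A, ∃ b ∈ B, s = a * b)
    (hC : ∀ a ∈ A, a ∉ B → Subgroup.centralizer ({a} : Set S) = A) :
    (∀ b ∈ B, b ∉ A → Subgroup.centralizer ({b} : Set S) = B) ∧
      (∀ E : Subgroup S, Cfsg.IsElementaryAbelian 2 E → (∀ E' : Subgroup S, Cfsg.IsElementaryAbelian 2 E' → E ≤ E' → E' = E) → E = A ∨ E = B) ∧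
      (∀ E' : Subgroup S, Cfsg.IsElementaryAbelian 2 E' → A ≤ E' → E' = A) ∧ (∀ E' : Subgroup S, Cfsg.IsElementaryAbelian 2 E' → B ≤ E' → E' = B) ∧
      Subgroup.center S = A ⊓ B ∧
      (∀ x : S, x ∉ A → x ∉ B → Nat.card ↥(Subgroup.centralizer ({x} : Set S)) ≤ min (Nat.card ↥A) (Nat.card ↥B)) := by
  -- basic facts
  have hAinv : ∀ a ∈ A, a⁻¹ = a := by
    intro a ha
    have h2 := hA.2 a ha
    rw [pow_two] at h2
    exact inv_eq_of_mul_eq_one_left h2
  have hBinv : ∀ b ∈ B, b⁻¹ = b := by
    intro b hb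
    have h2 := hB.2 b hb
    rw [pow_two] at h2
    exact inv_eq_of_mul_eq_one_left h2
  -- S not commutative: some witnesses
  have hAnotB : ∃ a ∈ A, a ∉ B := by
    by_contra hcon
    push Not at hcon
    apply hna
    refine ⟨⟨?_⟩⟩
    intro x y
    obtain ⟨a, ha, b, hb, rfl⟩ := hAB x
    obtain ⟨a', ha', b', hb', rfl⟩ := hAB y
    exact comm_of_mem hB (B.mul_mem (hcon a ha) hb) (B.mul_mem (hcon a' ha') hb')
  have hBnotA : ∃ b ∈ B, b ∉ A := by
    by_contra hcon
    push Not at hcon
    apply hna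
    refine ⟨⟨?_⟩⟩
    intro x y
    obtain ⟨a, ha, b, hb, rfl⟩ := hAB x
    obtain ⟨a', ha', b', hb', rfl⟩ := hAB y
    exact comm_of_mem hA (A.mul_mem ha (hcon b hb)) (A.mul_mem ha' (hcon b' hb'))
  obtain ⟨a₀, ha₀, ha₀B⟩ := hAnotB
  obtain ⟨b₀, hb₀, hb₀A⟩ := hBnotA
  -- (F2) involutions lie in A or B
  have hF2 : ∀ x : S, x ^ 2 = 1 → x ∈ A ∨ x ∈ B := by
    intro x hx
    by_contra hcon
    push Not at hcon
    obtain ⟨hxA, hxB⟩ := hcon
    obtain ⟨a, ha, b, hb, rfl⟩ := hAB x
    have haB : a ∉ B := fun h => hxB (B.mul_mem h hb)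
    have hbA : b ∉ A := fun h => hxA (A.mul_mem ha h)
    apply hbA
    rw [← hC a ha haB, mem_centralizer_singleton]
    -- (ab)^2 = 1 → ab = ba
    rw [pow_two] at hx
    have h1 : a * b = (a * b)⁻¹ := (inv_eq_of_mul_eq_one_left hx).symm
    rw [mul_inv_rev, hAinv a ha, hBinv b hb] at h1
    exact h1
  -- (1)
  have h1 : ∀ b ∈ B, b ∉ A → Subgroup.centralizer ({b} : Set S) = B := by
    intro b hb hbA
    ext x
    rw [mem_centralizer_singleton]
    constructor
    · intro hx
      obtain ⟨a, ha, b', hb', rfl⟩ := hAB x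
      have hcomm : b * a = a * b := by
        have h2 : b * (a * b') = a * b * b' := by
          rw [hx, mul_assoc, mul_assoc, comm_of_mem hB hb' hb]
        have h3 : b * a * b' = a * b * b' := by rw [mul_assoc]; exact h2
        exact mul_right_cancel h3
      by_cases haB : a ∈ B
      · exact B.mul_mem haB hb'
      · exfalso
        apply hbA
        rw [← hC a ha haB, mem_centralizer_singleton]
        exact hcomm.symm
    · intro hx
      exact comm_of_mem hB hb hx
  -- (F4) centre
  have hcenter : Subgroup.center S = A ⊓ B := by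
    ext z
    rw [Subgroup.mem_center_iff, Subgroup.mem_inf]
    constructor
    · intro hz
      constructor
      · rw [← hC a₀ ha₀ ha₀B, mem_centralizer_singleton]
        exact hz a₀
      · rw [← h1 b₀ hb₀ hb₀A, mem_centralizer_singleton]
        exact hz b₀
    · rintro ⟨hzA, hzB⟩ g
      obtain ⟨a, ha, b, hb, rfl⟩ := hAB g
      rw [mul_assoc, comm_of_mem hB hb hzB, ← mul_assoc, comm_of_mem hA ha hzA, mul_assoc]
  have hcentral : ∀ z, z ∈ A → z ∈ B → ∀ g : S, g * z = z * g := by
    intro z hzA hzB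
    have : z ∈ Subgroup.center S := by rw [hcenter]; exact ⟨hzA, hzB⟩
    exact Subgroup.mem_center_iff.mp this
  -- conj of involution is involution
  have hconj_sq : ∀ n x : S, x ^ 2 = 1 → (n * x * n⁻¹) ^ 2 = 1 := by
    intro n x hx
    rw [pow_two] at hx ⊢
    calc n * x * n⁻¹ * (n * x * n⁻¹) = n * (x * x) * n⁻¹ := by group
      _ = 1 := by rw [hx]; group
  -- (F5) normality
  have hBnormA : ∀ b ∈ B, ∀ a ∈ A, b * a * b⁻¹ ∈ A := by
    intro b hb a ha
    by_cases haB : a ∈ B
    · rw [hcentral a ha haB b]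
      simpa using ha
    · rcases hF2 _ (hconj_sq b a (hA.2 a ha)) with h | h
      · exact h
      · exfalso
        apply haB
        have : a = b⁻¹ * (b * a * b⁻¹) * b := by group
        rw [this]
        exact B.mul_mem (B.mul_mem (B.inv_mem hb) h) hb
  have hAnormB : ∀ a ∈ A, ∀ b ∈ B, a * b * a⁻¹ ∈ B := by
    intro a ha b hb
    by_cases hbA : b ∈ A
    · rw [hcentral b hbA hb a]
      simpa using hb
    · rcases hF2 _ (hconj_sq a b (hB.2 b hb)) with h | h
      · exfalso
        apply hbA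
        have : b = a⁻¹ * (a * b * a⁻¹) * a := by group
        rw [this]
        exact A.mul_mem (A.mul_mem (A.inv_mem ha) h) ha
      · exact h
  have hAnormal : A.Normal := by
    refine ⟨fun a ha n => ?_⟩
    obtain ⟨a', ha', b', hb', rfl⟩ := hAB n
    have : a' * b' * a * (a' * b')⁻¹ = a' * (b' * a * b'⁻¹) * a'⁻¹ := by group
    rw [this]
    exact A.mul_mem (A.mul_mem ha' (hBnormA b' hb' a ha)) (A.inv_mem ha')
  have hBnormal : B.Normal := by
    refine ⟨fun b hb n => ?_⟩
    -- write n⁻¹ = a b', so n = b'⁻¹ a⁻¹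
    obtain ⟨a', ha', b', hb', hn⟩ := hAB n⁻¹
    have hn' : n = b'⁻¹ * a'⁻¹ := by
      rw [← mul_inv_rev, ← hn, inv_inv]
    rw [hn']
    have : b'⁻¹ * a'⁻¹ * b * (b'⁻¹ * a'⁻¹)⁻¹ = b'⁻¹ * (a'⁻¹ * b * a'⁻¹⁻¹) * b'⁻¹⁻¹ := by group
    rw [this]
    exact B.mul_mem (B.mul_mem (B.inv_mem hb') (hAnormB a'⁻¹ (A.inv_mem ha') b hb))
      (B.inv_mem (B.inv_mem hb'))
  have hsupAB : A ⊔ B = ⊤ := by
    rw [eq_top_iff]
    intro s _
    obtain ⟨a, ha, b, hb, rfl⟩ := hAB s
    exact Subgroup.mul_mem_sup ha hb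
  have hsupBA : B ⊔ A = ⊤ := by rw [sup_comm]; exact hsupAB
  -- elementary abelian subgroups lie in A or B
  have hcov : ∀ E : Subgroup S, Cfsg.IsElementaryAbelian 2 E → E ≤ A ∨ E ≤ B := by
    intro E hE
    by_contra hcon
    push Not at hcon
    obtain ⟨hEA, hEB⟩ := hcon
    obtain ⟨e1, he1, he1A⟩ := SetLike.not_le_iff_exists.mp hEA
    obtain ⟨e2, he2, he2B⟩ := SetLike.not_le_iff_exists.mp hEB
    have he1B : e1 ∈ B := (hF2 e1 (hE.2 e1 he1)).resolve_left he1A
    have he2A : e2 ∈ A := (hF2 e2 (hE.2 e2 he2)).resolve_right he2B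
    rcases hF2 (e1 * e2) (hE.2 _ (E.mul_mem he1 he2)) with h | h
    · apply he1A
      have : e1 = e1 * e2 * e2⁻¹ := by group
      rw [this]
      exact A.mul_mem h (A.inv_mem he2A)
    · apply he2B
      have : e2 = e1⁻¹ * (e1 * e2) := by group
      rw [this]
      exact B.mul_mem (B.inv_mem he1B) h
  -- (3), (4)
  have h3 : ∀ E' : Subgroup S, Cfsg.IsElementaryAbelian 2 E' → A ≤ E' → E' = A := by
    intro E' hE' hle
    apply le_antisymm _ hle
    intro e he
    rw [← hC a₀ ha₀ ha₀B, mem_centralizer_singleton]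
    exact comm_of_mem hE' (hle ha₀) he
  have h4 : ∀ E' : Subgroup S, Cfsg.IsElementaryAbelian 2 E' → B ≤ E' → E' = B := by
    intro E' hE' hle
    apply le_antisymm _ hle
    intro e he
    rw [← h1 b₀ hb₀ hb₀A, mem_centralizer_singleton]
    exact comm_of_mem hE' (hle hb₀) he
  refine ⟨h1, ?_, h3, h4, hcenter, ?_⟩
  · intro E hE hmax
    rcases hcov E hE with h | h
    · left; exact (hmax A hA h).symm
    · right; exact (hmax B hB h).symm
  · intro x hxA hxB
    obtain ⟨a, ha, b, hb, rfl⟩ := hAB x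
    have haB : a ∉ B := fun h => hxB (B.mul_mem h hb)
    have hbA : b ∉ A := fun h => hxA (A.mul_mem ha h)
    apply le_min
    · -- card C ≤ card A, using B normal
      haveI := hBnormal
      apply card_le_of_inf_le B A _ hsupBA
      intro c hc
      rw [Subgroup.mem_inf] at hc
      obtain ⟨hcB, hcC⟩ := hc
      rw [mem_centralizer_singleton] at hcC
      rw [← hC a ha haB, mem_centralizer_singleton]
      -- a b c = c a b, c b = b c → a c = c a
      have h5 : a * c * b = c * a * b := by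
        calc a * c * b = a * (c * b) := by rw [mul_assoc]
          _ = a * (b * c) := by rw [comm_of_mem hB hcB hb]
          _ = a * b * c := by rw [mul_assoc]
          _ = c * (a * b) := hcC
          _ = c * a * b := by rw [mul_assoc]
      exact mul_right_cancel h5
    · haveI := hAnormal
      apply card_le_of_inf_le A B _ hsupAB
      intro c hc
      rw [Subgroup.mem_inf] at hc
      obtain ⟨hcA, hcC⟩ := hc
      rw [mem_centralizer_singleton] at hcC
      rw [← h1 b hb hbA, mem_centralizer_singleton]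
      -- a b c = c a b = a c b → b c = c b
      have h5 : a * (b * c) = a * (c * b) := by
        calc a * (b * c) = a * b * c := by rw [mul_assoc]
          _ = c * (a * b) := hcC
          _ = c * a * b := by rw [mul_assoc]
          _ = a * c * b := by rw [comm_of_mem hA hcA ha]
          _ = a * (c * b) := by rw [mul_assoc]
      exact mul_left_cancel h5

end Cfsg.Agent.S3163
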