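import Mathlib
import Cfsg.Statements.S3166

set_option autoImplicit false
open Cfsg

namespace Cfsg.Agent.S3166

/-- even case: the value is strictly between consecutive squares -/
theorem pieceA (q r s : ℤ) (hq : q = 2 * r) (hr : 1 ≤ r) (hs : 0 ≤ s)
    (h : s ^ 2 = q ^ 4 - q ^ 3 + q ^ 2 - q + 1) : False := by
  subst hq
  rcases le_or_gt s ((2 * r) ^ 2 - r) with h1 | h1
  · have h2 : s ^ 2 ≤ ((2 * r) ^ 2 - r) ^ 2 := by
      apply pow_le_pow_left₀ hs h1
    nlinarith [sq_nonneg (r - 1), sq_nonneg r]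
  · have h1' : (2 * r) ^ 2 - r + 1 ≤ s := by omega
    have h0 : 0 ≤ (2 * r) ^ 2 - r + 1 := by nlinarith
    have h2 : ((2 * r) ^ 2 - r + 1) ^ 2 ≤ s ^ 2 := by
      apply pow_le_pow_left₀ h0 h1'
    nlinarith [sq_nonneg (r - 1), sq_nonneg r]

theorem pieceC (q k : ℤ) (hq : 2 ≤ q) (hk : 1 ≤ k)
    (h : (1 + k * q) ^ 3 = q ^ 4 - q ^ 3 + q ^ 2 - q + 1) : False := by
  have hq0 : (0 : ℤ) < q := by omega
  have h1 : q * (3 * k + 3 * k ^ 2 * q + k ^ 3 * q ^ 2) = q * (q ^ 3 - q ^ 2 + q - 1) := by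
    nlinarith
  have h2 : 3 * k + 3 * k ^ 2 * q + k ^ 3 * q ^ 2 = q ^ 3 - q ^ 2 + q - 1 :=
    mul_left_cancel₀ hq0.ne' h1
  have h3 : q ∣ 3 * k + 1 := ⟨q ^ 2 - q + 1 - 3 * k ^ 2 - k ^ 3 * q, by nlinarith⟩
  have h4 : q ≤ 3 * k + 1 := Int.le_of_dvd (by omega) h3
  have h5 : k ^ 3 < q := by
    by_contra hcon
    push Not at hcon
    have : q * q ^ 2 ≤ k ^ 3 * q ^ 2 := by
      apply mul_le_mul_of_nonneg_right hcon (by positivity)
    nlinarith [mul_pos hq0 hq0, sq_nonneg k, mul_nonneg (sq_nonneg k) hq0.le]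
  have h6 : k = 1 := by
    have : k ^ 3 < 3 * k + 1 := by omega
    have hk2 : k < 2 := by
      by_contra hc
      push Not at hc
      nlinarith [mul_self_nonneg (k - 2), mul_nonneg (by omega : (0:ℤ) ≤ k - 2) (by omega : (0:ℤ) ≤ k)]
    omega
  subst h6
  have h7 : q ≤ 4 := by omega
  interval_cases q <;> omega

open Finset in
theorem pieceB (n p m : ℕ) (hm : Odd m) (hpodd : Odd p) (hp1 : 1 ≤ p) (h : 2 ^ n ∣ p ^ m - 1) :
    2 ^ n ∣ p - 1 := by
  have hsum : Odd (∑ i ∈ range m, p ^ i) := by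
    rw [Finset.odd_sum_iff_odd_card_odd]
    have : (range m).filter (fun i => Odd (p ^ i)) = range m := by
      apply Finset.filter_true_of_mem
      intro i _
      exact hpodd.pow
    rw [this, card_range]
    exact hm
  have hgeom : (∑ i ∈ range m, p ^ i) * (p - 1) = p ^ m - 1 := by
    zify [hp1, Nat.one_le_pow m p hp1]
    exact geom_sum_mul (p : ℤ) m
  rw [← hgeom] at h
  have hcop : Nat.Coprime (2 ^ n) (∑ i ∈ range m, p ^ i) :=
    Nat.Coprime.pow_left n (Nat.coprime_two_left.mpr hsum)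
  exact hcop.dvd_of_dvd_mul_left h

/-- Let q = 2^n with n ≥ 1. If q⁴ − q³ + q² − q + 1 is a power p^m of a prime p, then m = 1: the value is never a prime power with exponent greater than 1. -/
theorem result (n p m : ℕ) (hn : 1 ≤ n) (hp : p.Prime) (h : (2 ^ n) ^ 4 - (2 ^ n) ^ 3 + (2 ^ n) ^ 2 - 2 ^ n + 1 = p ^ m) : m = 1 := by
  obtain ⟨r, hr1, hqr⟩ : ∃ r : ℕ, 1 ≤ r ∧ 2 ^ n = 2 * r :=
    ⟨2 ^ (n - 1), Nat.one_le_two_pow, by rw [← pow_succ']; congr 1; omega⟩
  have hpow : ∃ n', 2 ^ n = 2 ^ n' := ⟨n, rfl⟩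
  generalize 2 ^ n = q at h hqr hpow
  have hq2 : 2 ≤ q := by omega
  have h1 : q ^ 3 ≤ q ^ 4 := Nat.pow_le_pow_right (by omega) (by norm_num)
  have h2 : q ≤ q ^ 4 - q ^ 3 + q ^ 2 := by
    have : q ≤ q ^ 2 := by nlinarith
    omega
  have hZ : (p : ℤ) ^ m = (q : ℤ) ^ 4 - q ^ 3 + q ^ 2 - q + 1 := by
    have := h.symm
    zify [h1, h2] at this
    exact this
  have hqZ : (2 : ℤ) ≤ q := by exact_mod_cast hq2
  have hp2 : 2 ≤ p := hp.two_le
  -- m ≠ 0
  have hm0 : m ≠ 0 := by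
    rintro rfl
    simp only [pow_zero] at hZ
    nlinarith [mul_pos (by omega : (0:ℤ) < q) (by omega : (0:ℤ) < q),
      mul_pos (mul_pos (by omega : (0:ℤ) < q) (by omega : (0:ℤ) < q)) (by omega : (0:ℤ) < q)]
  rcases Nat.even_or_odd m with hev | hodd
  · exfalso
    obtain ⟨j, hj⟩ := hev
    apply pieceA (q : ℤ) r ((p : ℤ) ^ j) (by exact_mod_cast hqr) (by exact_mod_cast hr1)
      (by positivity)
    rw [← hZ, hj, ← pow_mul]
    congr 1
    omega
  · by_contra hm1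
    exfalso
    have hm3 : 3 ≤ m := by
      obtain ⟨t, ht⟩ := hodd
      omega
    -- p ^ m is odd
    have hNodd : Odd ((p : ℤ) ^ m) := by
      rw [hZ]
      refine ⟨(r : ℤ) * (q ^ 3 - q ^ 2 + q - 1), ?_⟩
      have : (q : ℤ) = 2 * r := by exact_mod_cast hqr
      rw [this]; ring
    have hpodd : Odd p := by
      have : Odd (p : ℤ) := by
        rcases Int.odd_pow.mp hNodd with h3 | h3
        · exact h3
        · exact absurd h3 hm0
      exact_mod_cast this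
    -- q ∣ p ^ m - 1
    have hdvd : q ∣ p ^ m - 1 := by
      have h3 : ((p ^ m - 1 : ℕ) : ℤ) = (q : ℤ) * (q ^ 3 - q ^ 2 + q - 1) := by
        rw [Nat.cast_sub (Nat.one_le_pow m p (by omega))]
        push_cast
        rw [hZ]; ring
      have h4 : (q : ℤ) ∣ ((p ^ m - 1 : ℕ) : ℤ) := ⟨_, h3⟩
      exact Int.natCast_dvd_natCast.mp h4
    obtain ⟨n', hn'⟩ := hpow
    rw [hn'] at hdvd
    have hdvd2 := pieceB n' p m hodd hpodd (by omega) hdvd
    rw [← hn'] at hdvd2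
    obtain ⟨k, hk⟩ := hdvd2
    have hk1 : 1 ≤ k := by
      rcases Nat.eq_zero_or_pos k with rfl | hk0
      · omega
      · exact hk0
    have hpk : p = 1 + k * q := by
      have : p = (p - 1) + 1 := by omega
      rw [this, hk]; ring
    -- q < p
    have hqp : q < p := by nlinarith
    -- m < 4
    have hm4 : m < 4 := by
      have h5 : p ^ m < p ^ 4 := by
        have h6 : q ^ 4 < p ^ 4 := Nat.pow_lt_pow_left hqp (by norm_num)
        have h7 : p ^ m < q ^ 4 := by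
          have : (p : ℤ) ^ m < (q : ℤ) ^ 4 := by
            rw [hZ]
            nlinarith [mul_pos (by omega : (0:ℤ) < q) (by omega : (0:ℤ) < q),
              mul_pos (mul_pos (by omega : (0:ℤ) < q) (by omega : (0:ℤ) < q)) (by omega : (0:ℤ) < q)]
          exact_mod_cast this
        omega
      exact (Nat.pow_lt_pow_iff_right (by omega)).mp h5
    have hm3' : m = 3 := by omega
    subst hm3'
    apply pieceC (q : ℤ) (k : ℤ) hqZ (by exact_mod_cast hk1)
    rw [← hZ, hpk]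
    push_cast
    ring

end Cfsg.Agent.S3166
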