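import Cfsg.Statements.S3171
import Cfsg.Agent.Lib.Helper93_S3171d
import Cfsg.Agent.S2882

set_option autoImplicit false
open Cfsg

namespace Cfsg.Agent.S3171

/-- Let P be a Sylow 2-subgroup of the Mathieu group of degree 24 and S the quotient of P by its centre. Then the centre of every maximal subgroup of S has order at most 8; S has an elementary abelian subgroup of order 64; and S has only one abelian subgroup of order 64. -/
theorem result (P : Sylow 2 ↥Cfsg.M24) :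
    (∀ M : Subgroup (↥(P : Subgroup ↥Cfsg.M24) ⧸ Subgroup.center ↥(P : Subgroup ↥Cfsg.M24)), IsCoatom M →
        Nat.card ↥(Subgroup.center ↥M) ≤ 8) ∧
      (∃ A : Subgroup (↥(P : Subgroup ↥Cfsg.M24) ⧸ Subgroup.center ↥(P : Subgroup ↥Cfsg.M24)),
        Cfsg.IsElementaryAbelian 2 A ∧ Nat.card ↥A = 64) ∧
      ∀ A B : Subgroup (↥(P : Subgroup ↥Cfsg.M24) ⧸ Subgroup.center ↥(P : Subgroup ↥Cfsg.M24)),
        IsMulCommutative ↥A → Nat.card ↥A = 64 → IsMulCommutative ↥B → Nat.card ↥B = 64 → A = B := by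
  have : Fact (Nat.Prime 2) := ⟨Nat.prime_two⟩
  let P0 : Sylow 2 ↥M24 := Sylow.ofCard Cfsg.Agent.S2882.S0'
    (by rw [Cfsg.Agent.S2882.card_S0', Cfsg.Agent.S0364.result, Cfsg.Agent.S2882.fact2]; norm_num)
  have e1 : ↥(P : Subgroup ↥M24) ≃* ↥(P0 : Subgroup ↥M24) := Sylow.equiv P P0
  have e2 : ↥(P0 : Subgroup ↥M24) ≃* ↥Cfsg.Agent.Lib.Helper93_S2882b.S0 :=
    Subgroup.subgroupOfEquivOfLe Cfsg.Agent.Lib.Helper93_S2882b.S0_le
  let e : ↥(P : Subgroup ↥M24) ≃* ↥Cfsg.Agent.Lib.Helper93_S2882b.S0 := e1.trans e2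
  let φ : ↥Cfsg.Agent.Lib.Helper93_S2882b.S0 →*
      (↥(P : Subgroup ↥M24) ⧸ Subgroup.center ↥(P : Subgroup ↥M24)) :=
    (QuotientGroup.mk' (Subgroup.center ↥(P : Subgroup ↥M24))).comp e.symm.toMonoidHom
  have hsurj : Function.Surjective φ := by
    intro x
    obtain ⟨y, rfl⟩ := QuotientGroup.mk'_surjective _ x
    exact ⟨e y, by simp [φ]⟩
  have hker : φ.ker = Subgroup.center ↥Cfsg.Agent.Lib.Helper93_S2882b.S0 := by
    ext x
    rw [MonoidHom.mem_ker]
    show (QuotientGroup.mk' _) (e.symm x) = 1 ↔ _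
    rw [QuotientGroup.mk'_apply, QuotientGroup.eq_one_iff, Subgroup.mem_center_iff,
      Subgroup.mem_center_iff]
    constructor
    · intro h z
      have := h (e.symm z)
      rw [← map_mul, ← map_mul] at this
      exact e.symm.injective this
    · intro h y
      have := h (e y)
      have h2 := congrArg e.symm this
      rw [map_mul, map_mul, MulEquiv.symm_apply_apply] at h2
      exact h2
  obtain ⟨M⟩ := Cfsg.Agent.Lib.Helper93_S3171b.exists_model φ hsurj hker
  refine ⟨fun M' hM' => Cfsg.Agent.Lib.Helper93_S3171d.card_center_coatom_le M M' hM',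
    ⟨Cfsg.Agent.Lib.Helper93_S3171c.A0sub M, Cfsg.Agent.Lib.Helper93_S3171c.A0sub_elem M,
      Cfsg.Agent.Lib.Helper93_S3171c.card_A0sub M⟩, ?_⟩
  intro A B hA hcA hB hcB
  rw [Cfsg.Agent.Lib.Helper93_S3171d.unique_abelian M A hA hcA,
    Cfsg.Agent.Lib.Helper93_S3171d.unique_abelian M B hB hcB]

end Cfsg.Agent.S3171
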