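-- Statement S3174 (row 3174): structure of a Rudvalis-type 2-group of order >= 2^14.
-- Proof: helper56 (architect; pending/helper56/S3174_proof.md) with the ru_packages market
-- (UCSN/UCSC helper24, IDXW helper3/helper86, STEPCORE helper3, STEPCOR helper91, CHAIN helper71, HYPER helper79,
--  BOUND helper47, COMM helper86, EXP helper7/helper60/helper42, NHAT/F1 helper8, D8 helper74, F2/ADJ helper78,
--  QUAD helper42, GENEL/COUNT helper61, EXE helper60, CENTX helper90, BIGE helper7).
import Cfsg.Statements.S3174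
import Cfsg.Agent.Lib.Helper56_RuDefs
import Cfsg.Agent.Lib.Helper56_RuBasic
import Cfsg.Agent.Lib.Helper56_RuCenter
import Cfsg.Agent.Lib.Helper47_RU_BOUND
import Cfsg.Agent.Lib.Helper86_RU_COMM
import Cfsg.Agent.Lib.Helper7_RU_EXP
import Cfsg.Agent.Lib.Helper74_RU_D8

set_option autoImplicit false
open Cfsg

namespace Cfsg.Agent.S3174

open Cfsg.Agent.Lib.Helper56_RuDefs Cfsg.Agent.Lib.Helper56_RuBasic

theorem card_quot_comm {T : Type*} [Group T] (hS : Str T) :
    Nat.card (↥(Wc T) ⧸ _root_.commutator ↥(Wc T)) = 2 ^ 8 := by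
  have := hS.fin
  have h1 : Nat.card ↥(_root_.commutator ↥(Wc T)) = 8 := by
    have h2 : Nat.card ↥((_root_.commutator ↥(Wc T)).map (Wc T).subtype) = 8 := by
      rw [Cfsg.Agent.Lib.Helper86_RU_COMM.comm_eq hS]; exact hS.cardZ 3 (by norm_num)
    rw [← h2]
    exact (Subgroup.card_map_of_injective (Subgroup.subtype_injective _)).symm
  have h3 := (_root_.commutator ↥(Wc T)).card_mul_index
  rw [h1, card_W hS] at h3
  rw [← Subgroup.index_eq_card]
  omega

theorem exp_quot_comm {T : Type*} [Group T] (hS : Str T) :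
    ∀ x : ↥(Wc T) ⧸ _root_.commutator ↥(Wc T), x ^ 2 = 1 := by
  intro x
  induction x using QuotientGroup.induction_on with
  | H w =>
    rw [← QuotientGroup.mk_pow, QuotientGroup.eq_one_iff]
    have h1 : ((w ^ 2 : ↥(Wc T)) : T) ∈ (_root_.commutator ↥(Wc T)).map (Wc T).subtype := by
      rw [Cfsg.Agent.Lib.Helper86_RU_COMM.comm_eq hS]
      simpa using sq_mem hS w w.2
    obtain ⟨y, hy, hyw⟩ := Subgroup.mem_map.1 h1
    have : y = w ^ 2 := Subtype.ext (by simpa using hyw)
    rw [← this]; exact hy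

/-- Let T be a finite 2-group of order at least 2^14 in which the fourth term of the upper central series has order 16. Let W be the centralizer in T of the third term Z₃(T), and suppose the Frattini subgroup of W has order at most 8 and lies in every subgroup of W of index at most 16. Then T has order exactly 2^14; the derived subgroup of W and the Frattini subgroup of W both equal Z₃(T), which is elementary abelian of order 8; the centre of W has order 8; W is normal in T with quotient dihedral of order 8; and W modulo its derived subgroup is elementary abelian of order 2^8. -/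
theorem result {T : Type*} [Group T] [Finite T]
    (hT : IsPGroup 2 T) (ha : 2 ^ 14 ≤ Nat.card T) (hb : Nat.card ↥(Subgroup.upperCentralSeries T 4) = 16)
    (W : Subgroup T) (hW : W = Subgroup.centralizer ((Subgroup.upperCentralSeries T 3 : Subgroup T) : Set T))
    (hc : Nat.card ↥(frattini ↥W) ≤ 8) (hd : ∀ U : Subgroup ↥W, U.index ≤ 16 → frattini ↥W ≤ U) :
    Nat.card T = 2 ^ 14 ∧
      (commutator ↥W).map W.subtype = Subgroup.upperCentralSeries T 3 ∧
      (frattini ↥W).map W.subtype = Subgroup.upperCentralSeries T 3 ∧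
      Nat.card ↥(Subgroup.center ↥W) = 8 ∧
      Nat.card ↥(Subgroup.upperCentralSeries T 3) = 8 ∧ (∀ z ∈ Subgroup.upperCentralSeries T 3, z ^ 2 = 1) ∧
      (∃ (_ : W.Normal), Nonempty (T ⧸ W ≃* DihedralGroup 4)) ∧
      Nat.card (↥W ⧸ commutator ↥W) = 2 ^ 8 ∧ (∀ x : ↥W ⧸ commutator ↥W, x ^ 2 = 1) := by
  subst hW
  have hH : Hyp T := ⟨inferInstance, hT, ha, hb, hc, hd⟩
  have hS : Str T := Cfsg.Agent.Lib.Helper47_RU_BOUND.bound hH
  exact ⟨hS.cardT, Cfsg.Agent.Lib.Helper86_RU_COMM.comm_eq hS, hS.frat,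
    Cfsg.Agent.Lib.Helper56_RuCenter.center_card hS, hS.cardZ 3 (by norm_num),
    Cfsg.Agent.Lib.Helper7_RU_EXP.exp_Z3 hS,
    ⟨inferInstance, Cfsg.Agent.Lib.Helper74_RU_D8.quot_D8 hS⟩, card_quot_comm hS, exp_quot_comm hS⟩

end Cfsg.Agent.S3174
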