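-- Statement S3175 (row 3175): Rudvalis-type Sylow 2-subgroup: N_G(T) has a normal 2-complement, W weakly closed.
-- Proof: helper56 (architect; pending/helper56/S3174_proof.md) with the ru_packages market
-- (BOUND helper47, NPC helper79, ODD/ODDABS helper57, WCL helper74, WCLCORE helper60, ...).
import Cfsg.Statements.S3175
import Cfsg.Agent.Lib.Helper56_RuDefs
import Cfsg.Agent.Lib.Helper47_RU_BOUND
import Cfsg.Agent.Lib.Helper79_RU_NPC
import Cfsg.Agent.Lib.Helper57_RU_ODD
import Cfsg.Agent.Lib.Helper74_RU_WCL

set_option autoImplicit false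
open Cfsg

namespace Cfsg.Agent.S3175

open Cfsg.Agent.Lib.Helper56_RuDefs in
/-- Let G be a finite group whose Sylow 2-subgroup T has order at least 2^14 and whose upper central series has fourth term of order 16; let W be the centralizer in T of the third term, and suppose the Frattini subgroup of W has order at most 8 and lies in every subgroup of W of index at most 16. Then the normalizer of T in G has a normal 2-complement, and W is weakly closed in T with respect to G. -/
theorem result {G : Type*} [Group G] [Finite G]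
    (T : Sylow 2 G) (ha : 2 ^ 14 ≤ Nat.card ↥(T : Subgroup G))
    (hb : Nat.card ↥(Subgroup.upperCentralSeries ↥(T : Subgroup G) 4) = 16)
    (W : Subgroup ↥(T : Subgroup G))
    (hW : W = Subgroup.centralizer ((Subgroup.upperCentralSeries ↥(T : Subgroup G) 3 : Subgroup ↥(T : Subgroup G)) : Set ↥(T : Subgroup G)))
    (hc : Nat.card ↥(frattini ↥W) ≤ 8)
    (hd : ∀ U : Subgroup ↥W, U.index ≤ 16 → frattini ↥W ≤ U) :
    Cfsg.HasNormalPComplement 2 ↥(Subgroup.normalizer ((T : Subgroup G) : Set G)) ∧
      Cfsg.IsWeaklyClosed (W.map (T : Subgroup G).subtype) (T : Subgroup G) := by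
  subst hW
  have hH : Hyp ↥(T : Subgroup G) := ⟨inferInstance, T.isPGroup', ha, hb, hc, hd⟩
  have hS : Str ↥(T : Subgroup G) := Cfsg.Agent.Lib.Helper47_RU_BOUND.bound hH
  exact ⟨Cfsg.Agent.Lib.Helper79_RU_NPC.has_npc T
      (fun g hg hodd => Cfsg.Agent.Lib.Helper57_RU_ODD.odd_centralizes T hS g hg hodd),
    Cfsg.Agent.Lib.Helper74_RU_WCL.weakly_closed T hS⟩

end Cfsg.Agent.S3175
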