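import Cfsg.Statements.S3178
import Cfsg.Agent.Lib.Helper55_Transfer
import Cfsg.Agent.Lib.Helper32_Sylow
import Cfsg.Agent.Lib.Helper2_Sylow
import Cfsg.Agent.Lib.Helper4_Sylow2
import Cfsg.Agent.Lib.Helper34_Sylow
import Cfsg.Agent.Lib.Helper17_Sylow
import Cfsg.Agent.Lib.Helper1_Cores
import Cfsg.Agent.S3294

set_option autoImplicit false
open Cfsg

namespace Cfsg.Agent.S3178

open Cfsg.Agent.Lib Subgroup

section elt

variable {G : Type*} [Group G]

theorem zsq {a : G} {m : ℕ} (hao : orderOf a = 2 ^ (m + 3)) :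
    (a ^ 2 ^ (m + 2)) ^ 2 = 1 := by
  have h : 2 ^ (m + 2) * 2 = 2 ^ (m + 3) := by ring
  rw [← pow_mul, h, ← hao, pow_orderOf_eq_one]

theorem sq_mul_b {a b : G} {m : ℕ} (hb : b * b = 1)
    (hrel : b * a * b⁻¹ = a ^ (2 ^ (m + 2) + 1)) (i : ℕ) :
    (a ^ i * b) ^ 2 = (a ^ 2) ^ (i + 2 ^ (m + 1) * i) := by
  have hbinv : b⁻¹ = b := inv_eq_of_mul_eq_one_right hb
  have h1 : b * a ^ i * b⁻¹ = a ^ ((2 ^ (m + 2) + 1) * i) := by
    rw [← conj_pow, hrel, ← pow_mul]
  rw [hbinv] at h1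
  calc (a ^ i * b) ^ 2 = a ^ i * (b * a ^ i * b) := by rw [pow_two]; simp only [mul_assoc]
    _ = a ^ i * a ^ ((2 ^ (m + 2) + 1) * i) := by rw [h1]
    _ = (a ^ 2) ^ (i + 2 ^ (m + 1) * i) := by
      rw [← pow_add, ← pow_mul]; congr 1; ring

theorem pow_half {a s : G} {m k : ℕ} (hao : orderOf a = 2 ^ (m + 3)) (hs : s ^ 2 = (a ^ 2) ^ k)
    (hs1 : s ^ (2 ^ (m + 2)) = 1) :
    s ^ (2 ^ (m + 1)) = 1 ∨ s ^ (2 ^ (m + 1)) = a ^ (2 ^ (m + 2)) := by
  have h1 : s ^ (2 ^ (m + 2)) = a ^ (2 ^ (m + 2) * k) := by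
    have : 2 ^ (m + 2) = 2 * 2 ^ (m + 1) := by ring
    rw [this, pow_mul, hs, ← pow_mul, ← pow_mul]; congr 1; ring
  rw [h1] at hs1
  have hdvd : 2 ^ (m + 3) ∣ 2 ^ (m + 2) * k := by
    rw [← hao]; exact orderOf_dvd_of_pow_eq_one hs1
  have hk : 2 ∣ k := by
    have h : 2 ^ (m + 2) * 2 ∣ 2 ^ (m + 2) * k := by
      have : 2 ^ (m + 2) * 2 = 2 ^ (m + 3) := by ring
      rwa [this]
    exact Nat.dvd_of_mul_dvd_mul_left (by positivity) h
  obtain ⟨j, rfl⟩ := hk
  have h2 : s ^ (2 ^ (m + 1)) = (a ^ (2 ^ (m + 2))) ^ j := by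
    have : 2 ^ (m + 1) = 2 * 2 ^ m := by ring
    rw [this, pow_mul, hs, ← pow_mul, ← pow_mul, ← pow_mul]; congr 1; ring
  rw [h2]
  rcases Nat.even_or_odd' j with ⟨t, rfl | rfl⟩
  · left; rw [pow_mul, zsq hao, one_pow]
  · right; rw [pow_succ, pow_mul, zsq hao, one_pow, one_mul]

end elt

theorem result {G : Type*} [Group G] [Finite G]
    (S : Sylow 2 G) (n : ℕ) (hn : 3 ≤ n) (hS : Nat.card ↥(S : Subgroup G) = 2 ^ (n + 1))
    (a b : G) (ha : a ∈ (S : Subgroup G)) (hb : b ∈ (S : Subgroup G))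
    (hao : orderOf a = 2 ^ n) (hbo : orderOf b = 2) (hrel : b * a * b⁻¹ = a ^ (2 ^ (n - 1) + 1)) :
    Cfsg.HasNormalPComplement 2 G := by
  classical
  have : Fact (Nat.Prime 2) := ⟨Nat.prime_two⟩
  obtain ⟨m, rfl⟩ : ∃ m, n = m + 3 := ⟨n - 3, by omega⟩
  have e1 : m + 3 - 1 = m + 2 := by omega
  rw [e1] at hrel
  have hbb : b * b = 1 := by rw [← pow_two, ← hbo, pow_orderOf_eq_one]
  have hbinv : b⁻¹ = b := inv_eq_of_mul_eq_one_right hbb
  obtain ⟨z, hz⟩ : ∃ z, z = a ^ 2 ^ (m + 2) := ⟨_, rfl⟩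
  have hz2 : z ^ 2 = 1 := by rw [hz]; exact zsq hao
  have hz1 : z ≠ 1 := by
    rw [hz]
    exact pow_ne_one_of_lt_orderOf (by positivity)
      (by rw [hao]; exact Nat.pow_lt_pow_right (by norm_num) (by omega))
  have hzo : orderOf z = 2 := orderOf_eq_prime hz2 hz1
  have hzS : z ∈ (S : Subgroup G) := by rw [hz]; exact pow_mem ha _
  have hza : z ∈ zpowers a := by rw [hz]; exact pow_mem (mem_zpowers a) _
  -- b is not a power of a
  have hbna : b ∉ zpowers a := by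
    intro hmem
    have hc : b * a = a * b := by
      obtain ⟨k, hk⟩ := hmem
      rw [← hk]
      exact ((Commute.refl a).zpow_left k).eq
    have h1 : b * a * b⁻¹ = a := by rw [hc]; group
    rw [hrel, pow_succ, ← hz] at h1
    exact hz1 (mul_right_cancel (h1.trans (one_mul a).symm))
  have hale : zpowers a ≤ (S : Subgroup G) := (zpowers_le).mpr ha
  have hcardA : Nat.card (zpowers a) = 2 ^ (m + 3) := by rw [Nat.card_zpowers, hao]
  have hQi : (zpowers a).relIndex (S : Subgroup G) = 2 := by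
    have h := Helper32_Sylow.card_mul_relIndex' hale
    rw [hcardA, hS, pow_succ] at h
    exact Nat.eq_of_mul_eq_mul_left (by positivity) h
  -- normal form
  have hform : ∀ s ∈ (S : Subgroup G), ∃ i : ℕ, s = a ^ i ∨ s = a ^ i * b := by
    intro s hs
    have hidx : ((zpowers a).subgroupOf (S : Subgroup G)).index = 2 := hQi
    by_cases hsa : s ∈ zpowers a
    · obtain ⟨i, hi⟩ := (mem_powers_iff_mem_zpowers).mpr hsa
      exact ⟨i, Or.inl hi.symm⟩
    · have h := Subgroup.mul_mem_iff_of_index_two hidx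
        (a := (⟨s, hs⟩ : (S : Subgroup G))) (b := (⟨b, hb⟩ : (S : Subgroup G)))
      have h' : s * b ∈ zpowers a := by
        have h2 : ((⟨s, hs⟩ : (S : Subgroup G)) * ⟨b, hb⟩) ∈
            (zpowers a).subgroupOf (S : Subgroup G) := by
          rw [h]
          simp only [mem_subgroupOf]
          exact ⟨fun h3 => absurd h3 hsa, fun h3 => absurd h3 hbna⟩
        simpa [mem_subgroupOf] using h2
      obtain ⟨i, hi⟩ := (mem_powers_iff_mem_zpowers).mpr h'
      refine ⟨i, Or.inr ?_⟩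
      have hi' : a ^ i = s * b := hi
      rw [hi', mul_assoc, hbb, mul_one]
  have hsq : ∀ s ∈ (S : Subgroup G), ∃ k : ℕ, s ^ 2 = (a ^ 2) ^ k := by
    intro s hs
    obtain ⟨i, rfl | rfl⟩ := hform s hs
    · exact ⟨i, by rw [← pow_mul, ← pow_mul, mul_comm]⟩
    · exact ⟨_, sq_mul_b hbb hrel i⟩
  -- z is central in S
  have hzb : b * z = z * b := by
    have h1 : b * z * b⁻¹ = z := by
      have e2 : (2 ^ (m + 2) + 1) * 2 ^ (m + 2) = 2 ^ (m + 2) + 2 ^ (m + 3) * 2 ^ (m + 1) := by ring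
      rw [hz, ← conj_pow, hrel, ← pow_mul, e2, pow_add, pow_mul, ← hao, pow_orderOf_eq_one,
        one_pow, mul_one]
    calc b * z = (b * z * b⁻¹) * b := by group
      _ = z * b := by rw [h1]
  have hzc : ∀ s ∈ (S : Subgroup G), s * z = z * s := by
    intro s hs
    have h1 : ∀ i : ℕ, a ^ i * z = z * a ^ i := by
      intro i; rw [hz, ← pow_add, ← pow_add, add_comm]
    obtain ⟨i, rfl | rfl⟩ := hform s hs
    · exact h1 i
    · rw [mul_assoc, hzb, ← mul_assoc, h1, mul_assoc]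
  -- a^2 commutes with b
  have ha2b : b * a ^ 2 = a ^ 2 * b := by
    have h1 : b * a ^ 2 * b⁻¹ = a ^ 2 := by
      have e2 : (2 ^ (m + 2) + 1) * 2 = 2 ^ (m + 3) + 2 := by ring
      rw [← conj_pow, hrel, ← pow_mul, e2, pow_add, ← hao, pow_orderOf_eq_one, one_mul]
    calc b * a ^ 2 = (b * a ^ 2 * b⁻¹) * b := by group
      _ = a ^ 2 * b := by rw [h1]
  -- z and b are not conjugate
  have hnc : ∀ g : G, g * z * g⁻¹ = b → False := by
    intro g hg
    have hle : ((g • S : Sylow 2 G) : Subgroup G) ≤ centralizer {b} := by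
      intro x hx
      have hx' : g⁻¹ * x * g ∈ (S : Subgroup G) := (Helper2_Sylow.mem_smul_sylow_iff' g x S).mp hx
      rw [mem_centralizer_iff]
      intro w hw
      rw [Set.mem_singleton_iff] at hw
      rw [hw]
      have h1 := hzc _ hx'
      rw [← hg]
      calc g * z * g⁻¹ * x = g * (z * (g⁻¹ * x * g)) * g⁻¹ := by group
        _ = g * ((g⁻¹ * x * g) * z) * g⁻¹ := by rw [h1]
        _ = x * (g * z * g⁻¹) := by group
    obtain ⟨c, hc, hcx⟩ := Helper32_Sylow.sylow_conj_into (centralizer {b}) (g • S) hle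
      ((S : Subgroup G) ⊓ centralizer {b}) inf_le_right (S.2.to_le inf_le_left)
    have ha2c : a ^ 2 ∈ centralizer {b} := by
      rw [mem_centralizer_iff]
      intro w hw
      rw [Set.mem_singleton_iff] at hw
      rw [hw]
      exact ha2b
    have ha2 : a ^ 2 ∈ (S : Subgroup G) ⊓ centralizer {b} :=
      Subgroup.mem_inf.mpr ⟨pow_mem ha 2, ha2c⟩
    have hd := hcx _ ha2
    have hd' : g⁻¹ * (c * a ^ 2 * c⁻¹) * g ∈ (S : Subgroup G) :=
      (Helper2_Sylow.mem_smul_sylow_iff' g _ S).mp hd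
    obtain ⟨d, hdd⟩ : ∃ d, d = g⁻¹ * (c * a ^ 2 * c⁻¹) * g := ⟨_, rfl⟩
    rw [← hdd] at hd'
    have hdu : d = (g⁻¹ * c) * a ^ 2 * (g⁻¹ * c)⁻¹ := by rw [hdd]; group
    obtain ⟨k, hk⟩ := hsq d hd'
    have hd1 : d ^ (2 ^ (m + 2)) = 1 := by
      have e2 : 2 * 2 ^ (m + 2) = 2 ^ (m + 3) := by ring
      rw [hdu, conj_pow, ← pow_mul, e2, ← hao, pow_orderOf_eq_one]; group
    have hd2 : d ^ (2 ^ (m + 1)) = (g⁻¹ * c) * z * (g⁻¹ * c)⁻¹ := by
      have e2 : 2 * 2 ^ (m + 1) = 2 ^ (m + 2) := by ring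
      rw [hdu, conj_pow, ← pow_mul, e2, hz]
    rcases pow_half hao hk hd1 with h | h
    · rw [hd2] at h
      apply hz1
      have e3 : z = (g⁻¹ * c)⁻¹ * ((g⁻¹ * c) * z * (g⁻¹ * c)⁻¹) * (g⁻¹ * c) := by group
      rw [e3, h]; group
    · rw [hd2, ← hz] at h
      have hcb : c * b = b * c := by
        rw [mem_centralizer_iff] at hc
        exact (hc b rfl).symm
      have hzb' : z = b := by
        calc z = (g⁻¹ * c)⁻¹ * ((g⁻¹ * c) * z * (g⁻¹ * c)⁻¹) * (g⁻¹ * c) := by group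
          _ = (g⁻¹ * c)⁻¹ * z * (g⁻¹ * c) := by rw [h]
          _ = c⁻¹ * (g * z * g⁻¹) * c := by group
          _ = c⁻¹ * b * c := by rw [hg]
          _ = b := by rw [mul_assoc, ← hcb, ← mul_assoc, inv_mul_cancel, one_mul]
      exact hbna (hzb' ▸ hza)
  -- Thompson transfer
  obtain ⟨M, hM2, hbM⟩ := Helper55_Transfer.exists_index_two_of_nonextremal S (zpowers a) hale hQi
    b hbo (by
      intro y hy hconj
      exfalso
      obtain ⟨g, hg⟩ := isConj_iff.mp hconj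
      have hyo : orderOf y = 2 := by
        rw [← hg, Helper34_Sylow.orderOf_conj', hbo]
      have hyz : y = z :=
        Helper4_Sylow2.involution_unique_of_isCyclic_subgroup (zpowers a) inferInstance y z hy hza
          hyo hzo
      apply hnc g⁻¹
      rw [← hyz, ← hg]; group)
  have hMn : M.Normal := Subgroup.normal_of_index_eq_two hM2
  -- an element of order 2^(m+3) in M
  obtain ⟨c, hcM, hco⟩ : ∃ c, c ∈ M ∧ orderOf c = 2 ^ (m + 3) := by
    by_cases haM : a ∈ M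
    · exact ⟨a, haM, hao⟩
    · refine ⟨a * b, (Subgroup.mul_mem_iff_of_index_two hM2).mpr
        ⟨fun h => absurd h haM, fun h => absurd h hbM⟩, ?_⟩
      have h1 : (a * b) ^ 2 = (a ^ 2) ^ (1 + 2 ^ (m + 1)) := by
        have := sq_mul_b hbb hrel 1
        rwa [pow_one, mul_one] at this
      apply orderOf_eq_prime_pow
      · -- (a b)^(2^(m+2)) = z
        have e2 : 2 ^ (m + 2) = 2 * 2 ^ (m + 1) := by ring
        have e3 : 2 * ((1 + 2 ^ (m + 1)) * 2 ^ (m + 1)) = 2 ^ (m + 2) + 2 ^ (m + 3) * 2 ^ m := by ring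
        rw [e2, pow_mul, h1, ← pow_mul, ← pow_mul, e3, pow_add, pow_mul, ← hao, pow_orderOf_eq_one,
          one_pow, mul_one, ← hz]
        exact hz1
      · have e2 : 2 ^ (m + 2 + 1) = 2 * 2 ^ (m + 2) := by ring
        have e3 : 2 * ((1 + 2 ^ (m + 1)) * 2 ^ (m + 2)) = 2 ^ (m + 3) * (1 + 2 ^ (m + 1)) := by ring
        rw [e2, pow_mul, h1, ← pow_mul, ← pow_mul, e3, pow_mul, ← hao, pow_orderOf_eq_one, one_pow]
  -- orders
  obtain ⟨r, hr⟩ : ∃ r, r = (S : Subgroup G).index := ⟨_, rfl⟩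
  have hrodd : ¬ 2 ∣ r := by rw [hr]; exact S.not_dvd_index
  have hG : Nat.card G = 2 ^ (m + 3 + 1) * r := by
    rw [hr, ← hS]; exact ((S : Subgroup G).card_mul_index).symm
  have hMcard : Nat.card M = 2 ^ (m + 3) * r := by
    have h1 := M.card_mul_index
    rw [hM2, hG, pow_succ] at h1
    have h2 : Nat.card M * 2 = (2 ^ (m + 3) * r) * 2 := by rw [h1]; ring
    exact Nat.eq_of_mul_eq_mul_right (by norm_num) h2
  -- a cyclic Sylow 2-subgroup of M
  let c' : M := ⟨c, hcM⟩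
  have hc'o : orderOf c' = 2 ^ (m + 3) := by rw [← hco]; exact Subgroup.orderOf_mk c hcM
  have hpg : IsPGroup 2 (zpowers c') := by
    apply IsPGroup.of_card (n := m + 3)
    rw [Nat.card_zpowers, hc'o]
  obtain ⟨P, hP⟩ := hpg.exists_le_sylow
  have hPcard : Nat.card (P : Subgroup M) = 2 ^ (m + 3) :=
    Helper17_Sylow.card_sylow_eq_pow hMcard hrodd P
  have hcyc : IsCyclic (P : Subgroup M) := by
    apply isCyclic_of_orderOf_eq_card (⟨c', hP (mem_zpowers c')⟩ : (P : Subgroup M))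
    rw [hPcard, ← hc'o]
    exact Subgroup.orderOf_mk c' _
  have hp : (Nat.card M).minFac = 2 := by
    rw [Nat.minFac_eq_two_iff, hMcard]
    exact Dvd.dvd.mul_right (dvd_pow_self 2 (by omega)) r
  have hcompl := IsCyclic.isComplement' hp hcyc
  obtain ⟨K, hK⟩ : ∃ K : Subgroup M, K =
    (MonoidHom.transferSylow P (hcyc.normalizer_le_centralizer hp)).ker := ⟨_, rfl⟩
  rw [← hK] at hcompl
  have hKn : K.Normal := by rw [hK]; infer_instance
  have hKcard : Nat.card K = r := by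
    have h1 := hcompl.card_mul_card
    rw [hPcard, hMcard, mul_comm] at h1
    exact Nat.eq_of_mul_eq_mul_left (by positivity) h1
  have hrcop : r.Coprime 2 := (Nat.coprime_comm.mp ((Nat.Prime.coprime_iff_not_dvd Nat.prime_two).mpr hrodd))
  -- the 2'-core of M
  let N : Subgroup M := Cfsg.pPrimeCore 2 M
  have hKN : K ≤ N := Helper1_Cores.le_pPrimeCore hKn (by rw [hKcard]; exact hrcop)
  have hNcop : (Nat.card N).Coprime 2 := Helper1_Cores.pPrimeCore_card_coprime 2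
  have hNcard : Nat.card N = r := by
    apply Nat.dvd_antisymm
    · have h1 : Nat.card N ∣ 2 ^ (m + 3) * r := by
        rw [← hMcard]; exact Subgroup.card_subgroup_dvd_card N
      exact (Nat.Coprime.pow_right (m + 3) hNcop).dvd_of_dvd_mul_left h1
    · rw [← hKcard]; exact Subgroup.card_dvd_of_le hKN
  have hNchar : N.Characteristic := inferInstance
  have hN'n : (N.map M.subtype).Normal := ConjAct.normal_of_characteristic_of_normal
  have hN'card : Nat.card (N.map M.subtype) = r := by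
    rw [Subgroup.card_map_of_injective M.subtype_injective, hNcard]
  apply S3294.hasNormalPComplement_of_quotient_isPGroup 2 (N.map M.subtype)
    (by rw [hN'card]; exact hrcop)
  apply IsPGroup.of_card (n := m + 3 + 1)
  rw [← Subgroup.index_eq_card]
  have h1 := (N.map M.subtype).card_mul_index
  rw [hN'card, hG, mul_comm] at h1
  exact Nat.eq_of_mul_eq_mul_right (Nat.pos_of_ne_zero (fun h => hrodd (by rw [h]; exact dvd_zero 2))) h1

end Cfsg.Agent.S3178
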