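import Cfsg.Statements.S3179
import Cfsg.Agent.Lib.Helper6_GL52
import Cfsg.Agent.Lib.Helper6_GL52Sec
import Cfsg.Agent.Lib.Helper37_SzBridge
import Cfsg.Agent.S0324
import Cfsg.Agent.S0280

set_option autoImplicit false
open Cfsg

namespace Cfsg.Agent.S3179

/-- Let X be a section of the general linear group GL(5, 2), that is, a quotient of a subgroup of it. If X is isomorphic to PSL(2, 2^n) for some n ≥ 2, to a Suzuki group over the field with 2^(2m+1) elements for some m ≥ 1, or to PSU(3, 2^n) for some n ≥ 2, then X is isomorphic to PSL(2, 4). -/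
theorem result {H : Subgroup (GL (Fin 5) (ZMod 2))}
    {K : Subgroup ↥H} [K.Normal]
    (hX : (∃ (n : ℕ) (F : Type) (_ : Field F) (_ : Fintype F), 2 ≤ n ∧ Fintype.card F = 2 ^ n ∧
        Nonempty (↥H ⧸ K ≃* Matrix.ProjectiveSpecialLinearGroup (Fin 2) F)) ∨
      (∃ (m : ℕ) (F : Type) (_ : Field F) (_ : Fintype F), 1 ≤ m ∧ Fintype.card F = 2 ^ (2 * m + 1) ∧
        Nonempty (↥H ⧸ K ≃* ↥(Cfsg.Lie.Sz F (2 ^ (m + 1))))) ∨
      (∃ (n : ℕ) (F : Type) (_ : Field F) (_ : Fintype F), 2 ≤ n ∧ Fintype.card F = 4 ^ n ∧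
        Nonempty (↥H ⧸ K ≃* Cfsg.PSU 3 F (2 ^ n)))) :
    ∃ (F : Type) (_ : Field F) (_ : Fintype F), Fintype.card F = 4 ∧
      Nonempty (↥H ⧸ K ≃* Matrix.ProjectiveSpecialLinearGroup (Fin 2) F) := by
  have hdvd := Cfsg.Agent.Lib.Helper6_GL52Sec.card_section_dvd H K
  rcases hX with ⟨n, F, _, _, hn, hF, ⟨e⟩⟩ | ⟨m, F, _, _, hm, hF, ⟨e⟩⟩ | ⟨n, F, _, _, hn, hF, ⟨e⟩⟩
  · -- PSL₂(2ⁿ)
    have hcard : Nat.card (↥H ⧸ K) = 2 ^ n * ((2 ^ n) ^ 2 - 1) := by
      rw [Nat.card_congr e.toEquiv,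
        Cfsg.Agent.Lib.Helper6_GL52Sec.card_PSL2_even (by omega) hF]
    rw [hcard] at hdvd
    have hn10 : n ≤ 10 := by
      by_contra hlt
      rw [not_le] at hlt
      have h11 : 2 ^ 11 ∣ 9999360 :=
        (pow_dvd_pow 2 hlt).trans ((Dvd.intro _ rfl).trans hdvd)
      norm_num at h11
    interval_cases n
    · exact ⟨F, inferInstance, inferInstance, by rw [hF]; norm_num, ⟨e⟩⟩
    · exfalso
      obtain ⟨x, hx9, hx3⟩ := Cfsg.Agent.Lib.Helper6_GL52Sec.exists_order_nine (F := F)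
        (by rw [hF]; norm_num)
      apply hx3
      have h3 := Cfsg.Agent.Lib.Helper6_GL52Sec.section_pow_three H K (e.symm x)
        (by rw [← map_pow, hx9, map_one])
      rw [← map_pow] at h3
      have h4 := congrArg e h3
      rwa [MulEquiv.apply_symm_apply, map_one] at h4
    all_goals (exfalso; norm_num at hdvd)
  · -- Sz(2^(2m+1))
    exfalso
    have hcard : Nat.card (↥H ⧸ K) =
        (2 ^ (2 * m + 1)) ^ 2 * ((2 ^ (2 * m + 1)) ^ 2 + 1) * (2 ^ (2 * m + 1) - 1) := by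
      rw [Nat.card_congr e.toEquiv,
        ← Nat.card_congr (Cfsg.Agent.Helper37Sz.lieSzEquiv hm hF).toEquiv,
        Cfsg.Agent.S0324.result hm hF]
    rw [hcard] at hdvd
    have hm2 : m ≤ 2 := by
      by_contra hlt
      rw [not_le] at hlt
      have h11 : 2 ^ 11 ∣ 9999360 := by
        refine (pow_dvd_pow 2 (show 11 ≤ (2 * m + 1) * 2 by omega)).trans ?_
        rw [pow_mul]
        exact (Dvd.intro _ rfl).trans ((Dvd.intro _ rfl).trans hdvd)
      norm_num at h11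
    interval_cases m <;> norm_num at hdvd
  · -- PSU₃(2ⁿ)
    exfalso
    have hF' : Fintype.card F = (2 ^ n) ^ 2 := by
      rw [hF, ← pow_mul, mul_comm, pow_mul]; norm_num
    have h := Cfsg.Agent.S0280.result hF' 3 (by norm_num)
    rw [← Nat.card_congr e.toEquiv] at h
    have hprod : ∏ i ∈ Finset.range 3,
        (if Even i then (2 ^ n) ^ (i + 1) + 1 else (2 ^ n) ^ (i + 1) - 1) =
        (2 ^ n + 1) * ((2 ^ n) ^ 2 - 1) * ((2 ^ n) ^ 3 + 1) := by
      rw [Finset.prod_range_succ, Finset.prod_range_succ, Finset.prod_range_one]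
      have e1 : ¬ Even 1 := by decide
      have e2 : Even 2 := by decide
      simp [e1, e2]
    rw [hprod] at h
    have hY : Nat.gcd 3 (2 ^ n + 1) * Nat.card (↥H ⧸ K) =
        (2 ^ n) ^ 3 * (((2 ^ n) ^ 2 - 1) * ((2 ^ n) ^ 3 + 1)) := by
      have hpos : 0 < 2 ^ n + 1 := by positivity
      apply Nat.eq_of_mul_eq_mul_left hpos
      have h3 : 3 * (3 - 1) / 2 = 3 := by norm_num
      rw [h3] at h
      linarith [h]
    have hdvd3 : (2 ^ n) ^ 3 * (((2 ^ n) ^ 2 - 1) * ((2 ^ n) ^ 3 + 1)) ∣ 3 * 9999360 := by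
      rw [← hY]
      exact Nat.mul_dvd_mul (Nat.gcd_dvd_left 3 _) hdvd
    have hn3 : n ≤ 3 := by
      by_contra hlt
      rw [not_le] at hlt
      have h11 : 2 ^ 11 ∣ 3 * 9999360 := by
        refine (pow_dvd_pow 2 (show 11 ≤ n * 3 by omega)).trans ?_
        rw [pow_mul]
        exact (Dvd.intro _ rfl).trans hdvd3
      norm_num at h11
    interval_cases n <;> norm_num at hdvd3

end Cfsg.Agent.S3179
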