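import Mathlib
import Cfsg.Statements.S3180

set_option autoImplicit false
open Cfsg

namespace Cfsg.Agent.S3180

open scoped Pointwise

/-- If `P₁` is weakly closed in `P` and `g P₁ g⁻¹ ≤ P` then `g` normalizes `P₁`. -/
theorem mem_normalizer_of_conj_le {J : Type*} [Group J] (P P₁ : Subgroup J)
    (hW : Cfsg.IsWeaklyClosed P₁ P) (g : J) (h : ∀ a ∈ P₁, g * a * g⁻¹ ∈ P) :
    g ∈ Subgroup.normalizer (P₁ : Set J) := by
  rw [Subgroup.mem_normalizer_iff_map_conj_eq]
  apply hW.2 g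
  rintro _ ⟨a, ha, rfl⟩
  exact h a ha

/-- Let P be a Sylow p-subgroup of a finite group J and P₁ a subgroup of P that is weakly closed in P with respect to J. If J acts on a set and two points, each fixed by every element of P₁, lie in one J-orbit, then they lie in one orbit of the normalizer of P₁ in J. -/
theorem result {J : Type*} [Group J] [Finite J]
    {p : ℕ} [Fact p.Prime] (P : Sylow p J) (P₁ : Subgroup J) (hW : Cfsg.IsWeaklyClosed P₁ (P : Subgroup J))
    {Ω : Type*} [MulAction J Ω] (x y : Ω) (hx : ∀ g ∈ P₁, g • x = x) (hy : ∀ g ∈ P₁, g • y = y)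
    (hc : ∃ g : J, g • x = y) :
    ∃ g ∈ Subgroup.normalizer (P₁ : Set J), g • x = y := by
  obtain ⟨g, hg⟩ := hc
  set St : Subgroup J := MulAction.stabilizer J y with hSt
  have hP₁p : IsPGroup p ↥P₁ := P.isPGroup'.to_le hW.1
  have hP₁St : P₁ ≤ St := fun a ha => MulAction.mem_stabilizer_iff.mpr (hy a ha)
  set Q : Subgroup J := P₁.map (MulAut.conj g).toMonoidHom with hQ
  have hQp : IsPGroup p ↥Q := hP₁p.map _
  have hQSt : Q ≤ St := by
    rintro _ ⟨a, ha, rfl⟩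
    rw [hSt, MulAction.mem_stabilizer_iff]
    show (g * a * g⁻¹) • y = y
    rw [← hg, mul_smul, mul_smul, inv_smul_smul, hx a ha]
  obtain ⟨R, hR⟩ := (hP₁p.comap_subtype (K := St)).exists_le_sylow
  obtain ⟨R', hR'⟩ := (hQp.comap_subtype (K := St)).exists_le_sylow
  obtain ⟨h, hh⟩ := MulAction.exists_smul_eq ↥St R' R
  have hRp : IsPGroup p ↥((R : Subgroup ↥St).map St.subtype) := R.isPGroup'.map _
  obtain ⟨P', hP'⟩ := hRp.exists_le_sylow
  obtain ⟨k, hk⟩ := MulAction.exists_smul_eq J P P'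
  -- membership in P' means conjugate by k⁻¹ lies in P
  have hmemP' : ∀ a : J, a ∈ (P' : Subgroup J) → k⁻¹ * a * k ∈ (P : Subgroup J) := by
    intro a ha
    rw [← hk, Sylow.smul_def] at ha
    have : a ∈ MulAut.conj k • (P : Subgroup J) := ha
    rw [Subgroup.mem_pointwise_smul_iff_inv_smul_mem] at this
    simpa [MulAut.smul_def] using this
  -- P₁ ≤ P'
  have h1 : ∀ a ∈ P₁, a ∈ (P' : Subgroup J) := by
    intro a ha
    apply hP'
    refine ⟨⟨a, hP₁St ha⟩, hR ?_, rfl⟩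
    exact ha
  -- (h g) P₁ (h g)⁻¹ ≤ P'
  have h2 : ∀ a ∈ P₁, (h : J) * g * a * ((h : J) * g)⁻¹ ∈ (P' : Subgroup J) := by
    intro a ha
    apply hP'
    have hqa : g * a * g⁻¹ ∈ Q := ⟨a, ha, rfl⟩
    have hb : (⟨g * a * g⁻¹, hQSt hqa⟩ : ↥St) ∈ (R' : Subgroup ↥St) := hR' hqa
    have hb' : h * (⟨g * a * g⁻¹, hQSt hqa⟩ : ↥St) * h⁻¹ ∈ (R : Subgroup ↥St) := by
      rw [← hh, Sylow.smul_def]
      show MulAut.conj h • (⟨g * a * g⁻¹, hQSt hqa⟩ : ↥St) ∈ MulAut.conj h • (R' : Subgroup ↥St)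
      exact Subgroup.smul_mem_pointwise_smul _ _ _ hb
    refine ⟨_, hb', ?_⟩
    simp [mul_assoc]
  have hk1 : k⁻¹ ∈ Subgroup.normalizer (P₁ : Set J) := by
    apply mem_normalizer_of_conj_le (P : Subgroup J) P₁ hW
    intro a ha
    simpa using hmemP' a (h1 a ha)
  have hk2 : k⁻¹ * ((h : J) * g) ∈ Subgroup.normalizer (P₁ : Set J) := by
    apply mem_normalizer_of_conj_le (P : Subgroup J) P₁ hW
    intro a ha
    have := hmemP' _ (h2 a ha)
    simpa [mul_assoc] using this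
  refine ⟨(h : J) * g, ?_, ?_⟩
  · have := Subgroup.mul_mem _ (Subgroup.inv_mem _ hk1) hk2
    simpa using this
  · rw [mul_smul, hg]
    exact MulAction.mem_stabilizer_iff.mp h.2

end Cfsg.Agent.S3180
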