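import Mathlib
import Cfsg.Statements.S3183
import Cfsg.Agent.Lib.Helper53_Conj
import Cfsg.Agent.Lib.Helper53_PGroup

set_option autoImplicit false
open Cfsg

namespace Cfsg.Agent.S3183

open Cfsg.Agent.Lib.Helper53_Conj Cfsg.Agent.Lib.Helper53_PGroup

variable {G : Type*} [Group G]

theorem fact2 : Fact (Nat.Prime 2) := ⟨Nat.prime_two⟩

/-- the key claim: distinct Sylow 2-subgroups meet inside the centre of the first -/
theorem claim [Finite G]
    (hCI : ∀ S T : Sylow 2 G, S ≠ T → ∃ U : Sylow 2 G,
      (S : Subgroup G) ⊓ (T : Subgroup G) ≤ centerOf (U : Subgroup G)) :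
    ∀ (k : ℕ) (S T : Sylow 2 G), S ≠ T →
      Nat.card ↥(S : Subgroup G) - Nat.card ↥((S : Subgroup G) ⊓ (T : Subgroup G)) ≤ k →
      (S : Subgroup G) ⊓ (T : Subgroup G) ≤ centerOf (S : Subgroup G) := by
  haveI := fact2
  intro k
  induction k with
  | zero =>
    intro S T hST hk
    exfalso
    apply hST
    apply sylow_eq_of_le
    have h1 : (S : Subgroup G) ⊓ (T : Subgroup G) = (S : Subgroup G) :=
      eq_of_le_of_card_le inf_le_left (by omega)
    rw [← h1]
    exact inf_le_right
  | succ k ih =>
    intro S T hST hk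
    set D : Subgroup G := (S : Subgroup G) ⊓ (T : Subgroup G) with hD
    obtain ⟨U, hU⟩ := hCI S T hST
    set N : Subgroup G := Subgroup.normalizer (D : Set G) with hN
    -- U ≤ N
    have hUN : (U : Subgroup G) ≤ N := by
      intro u hu
      rw [hN, ← cj_eq_self_iff]
      apply cj_eq_of_cj_le
      rw [cj_le_iff]
      intro d hd
      have := (mem_centerOf.mp (hU hd)).2 u hu
      rw [this]
      simpa using hd
    have hSNp : IsPGroup 2 ↥((S : Subgroup G) ⊓ N) := S.isPGroup'.to_le inf_le_left
    obtain ⟨n, hn, hle⟩ := exists_mem_le_cj_sylow U N ((S : Subgroup G) ⊓ N) hUN inf_le_right hSNp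
    -- V := n • U
    have hV : ((n • U : Sylow 2 G) : Subgroup G) = cj n (U : Subgroup G) := coe_smul_sylow n U
    -- D ≤ Z(V)
    have hDZV : D ≤ centerOf ((n • U : Sylow 2 G) : Subgroup G) := by
      rw [hV, centerOf_cj]
      have h1 : cj n D = D := cj_eq_self_iff.mpr hn
      rw [← h1]
      exact cj_mono hU
    by_cases hSV : S = n • U
    · rw [← hSV] at hDZV
      exact hDZV
    · -- D < S
      have hDS : D < (S : Subgroup G) := by
        refine lt_of_le_of_ne inf_le_left ?_
        intro h
        apply hST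
        apply sylow_eq_of_le
        rw [← h]
        exact inf_le_right
      obtain ⟨s, hsS, hsN, hsD⟩ := exists_mem_normalizer_not_mem S.isPGroup' hDS
      have hDV : D ≤ (S : Subgroup G) ⊓ ((n • U : Sylow 2 G) : Subgroup G) :=
        le_inf inf_le_left (hDZV.trans (centerOf_le _))
      have hsV : s ∈ (S : Subgroup G) ⊓ ((n • U : Sylow 2 G) : Subgroup G) := by
        refine ⟨hsS, ?_⟩
        rw [SetLike.mem_coe, hV]
        exact hle ⟨hsS, hsN⟩
      have hlt : D < (S : Subgroup G) ⊓ ((n • U : Sylow 2 G) : Subgroup G) :=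
        lt_of_le_of_ne hDV (fun h => hsD (h ▸ hsV))
      have hcard : Nat.card ↥D < Nat.card ↥((S : Subgroup G) ⊓ ((n • U : Sylow 2 G) : Subgroup G)) := by
        by_contra hc
        push Not at hc
        exact hlt.ne (eq_of_le_of_card_le hDV hc)
      have hcard2 : Nat.card ↥((S : Subgroup G) ⊓ ((n • U : Sylow 2 G) : Subgroup G)) ≤
          Nat.card ↥(S : Subgroup G) := Subgroup.card_le_of_le inf_le_left
      have := ih S (n • U) hSV (by omega)
      exact hDV.trans this

/-- Let G be a finite group in which the intersection of any two distinct Sylow 2-subgroups is contained in the centre of some Sylow 2-subgroup, and let S be a Sylow 2-subgroup. Then for every x in S the centralizer of x in S is a Sylow 2-subgroup of the centralizer of x in G (no 2-subgroup centralizing x is larger), and for every other Sylow 2-subgroup T the intersection S ∩ T lies in both the centre of S and the centre of T. -/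
theorem result {G : Type*} [Group G] [Finite G]
    (hCI : ∀ S T : Sylow 2 G, S ≠ T → ∃ U : Sylow 2 G,
      (S : Subgroup G) ⊓ (T : Subgroup G) ≤ (Subgroup.center ↥(U : Subgroup G)).map (U : Subgroup G).subtype)
    (S : Sylow 2 G) :
    (∀ x ∈ (S : Subgroup G), ∀ P : Subgroup G, IsPGroup 2 ↥P → P ≤ Subgroup.centralizer ({x} : Set G) →
        Nat.card ↥P ≤ Nat.card ↥((S : Subgroup G) ⊓ Subgroup.centralizer ({x} : Set G))) ∧
    (∀ T : Sylow 2 G, T ≠ S →
        (S : Subgroup G) ⊓ (T : Subgroup G) ≤
          (Subgroup.center ↥(S : Subgroup G)).map (S : Subgroup G).subtype ⊓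
            (Subgroup.center ↥(T : Subgroup G)).map (T : Subgroup G).subtype) := by
  haveI := fact2
  have hclaim : ∀ S T : Sylow 2 G, S ≠ T →
      (S : Subgroup G) ⊓ (T : Subgroup G) ≤ centerOf (S : Subgroup G) :=
    fun S T hST => claim hCI _ S T hST le_rfl
  constructor
  · intro x hxS P hP hPC
    set C : Subgroup G := Subgroup.centralizer ({x} : Set G) with hC
    by_cases hxZ : x ∈ centerOf (S : Subgroup G)
    · -- S ≤ C
      have hSC : (S : Subgroup G) ≤ C := by
        intro s hs
        rw [hC, Subgroup.mem_centralizer_iff]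
        intro y hy
        rw [Set.mem_singleton_iff] at hy
        subst hy
        exact ((mem_centerOf.mp hxZ).2 s hs).symm
      rw [inf_of_le_left hSC]
      exact card_le_card_sylow hP S
    · -- a Sylow 2-subgroup R of C containing S ⊓ C
      have hSCp : IsPGroup 2 ↥((S : Subgroup G) ⊓ C) := S.isPGroup'.to_le inf_le_left
      obtain ⟨R, hR⟩ := (hSCp.comap_subtype (K := C)).exists_le_sylow
      have hRp : IsPGroup 2 ↥((R : Subgroup ↥C).map C.subtype) := R.isPGroup'.map _
      obtain ⟨T, hT⟩ := hRp.exists_le_sylow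
      have hxC : x ∈ C := by
        rw [hC, Subgroup.mem_centralizer_iff]
        intro y hy
        rw [Set.mem_singleton_iff] at hy
        rw [hy]
      have hxT : x ∈ (T : Subgroup G) := by
        apply hT
        refine ⟨⟨x, hxC⟩, hR ?_, rfl⟩
        show x ∈ (S : Subgroup G) ⊓ C
        exact ⟨hxS, hxC⟩
      have hST : S = T := by
        by_contra hne
        exact hxZ (hclaim S T hne ⟨hxS, hxT⟩)
      -- R.map ≤ S ⊓ C
      have hRle : (R : Subgroup ↥C).map C.subtype ≤ (S : Subgroup G) ⊓ C := by
        refine le_inf (by rw [hST]; exact hT) ?_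
        rintro _ ⟨c, _, rfl⟩
        exact c.2
      have h1 : Nat.card ↥(P.subgroupOf C) ≤ Nat.card ↥(R : Subgroup ↥C) :=
        card_le_card_sylow (hP.comap_subtype (K := C)) R
      have h2 : Nat.card ↥(P.subgroupOf C) = Nat.card ↥P :=
        Nat.card_congr (Subgroup.subgroupOfEquivOfLe hPC).toEquiv
      have h3 : Nat.card ↥((R : Subgroup ↥C).map C.subtype) = Nat.card ↥(R : Subgroup ↥C) :=
        (Nat.card_congr ((R : Subgroup ↥C).equivMapOfInjective C.subtype
          C.subtype_injective).toEquiv).symm
      have h4 := Subgroup.card_le_of_le hRle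
      omega
  · intro T hTS
    refine le_inf (hclaim S T hTS.symm) ?_
    rw [inf_comm]
    exact hclaim T S hTS

end Cfsg.Agent.S3183
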