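import Cfsg.Statements.S3184
import Cfsg.Agent.S0215
import Cfsg.Agent.Lib.Helper34_Sylow
import Cfsg.Agent.Lib.Helper41_RedundantSylow
import Cfsg.Agent.Lib.Helper4_Sylow2
import Cfsg.Agent.Lib.Helper1_Cores

set_option autoImplicit false
open Cfsg

namespace Cfsg.Agent.S3184

open Cfsg.Agent.Lib.Helper34_Sylow Cfsg.Agent.Lib.Helper41_RedundantSylow
open scoped Pointwise

variable {G : Type*} [Group G]

/-- Conjugation by an element of the normalizer, as an automorphism of the subgroup. -/
def conjEquiv (S : Subgroup G) (n : G) (hn : n ∈ Subgroup.normalizer (S : Set G)) : S ≃* S where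
  toFun s := ⟨n * s * n⁻¹, (Subgroup.mem_normalizer_iff.mp hn s).mp s.2⟩
  invFun s := ⟨n⁻¹ * s * n, by
    have := (Subgroup.mem_normalizer_iff.mp (Subgroup.inv_mem _ hn) s).mp s.2
    rwa [inv_inv] at this⟩
  left_inv s := Subtype.ext (by simp only; group)
  right_inv s := Subtype.ext (by simp only; group)
  map_mul' a b := Subtype.ext (by simp only [Subgroup.coe_mul]; group)

theorem conjEquiv_coe (S : Subgroup G) (n : G) (hn : n ∈ Subgroup.normalizer (S : Set G)) (s : S) :
    ((conjEquiv S n hn s : S) : G) = n * s * n⁻¹ := rfl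

/-- The involution of a cyclic characteristic subgroup is centralized by the normalizer. -/
theorem conj_eq_of_mem_normalizer [Finite G] (S : Subgroup G) (C : Subgroup S) (hCc : IsCyclic C)
    (hCh : C.Characteristic) (c : S) (hc : c ∈ C) (hc2 : orderOf c = 2) (n : G)
    (hn : n ∈ Subgroup.normalizer (S : Set G)) : n * (c : G) * n⁻¹ = c := by
  have h1 := hCh.fixed (conjEquiv S n hn)
  have h2 : conjEquiv S n hn c ∈ C := by
    have : c ∈ C.comap (conjEquiv S n hn).toMonoidHom := by rw [h1]; exact hc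
    exact this
  have h3 : orderOf (conjEquiv S n hn c) = 2 := by
    rw [MulEquiv.orderOf_eq]; exact hc2
  have h4 := Cfsg.Agent.Lib.Helper4_Sylow2.involution_unique_of_isCyclic_subgroup C hCc _ _ h2 hc
    h3 hc2
  have := congrArg (fun s : S => (s : G)) h4
  simpa [conjEquiv_coe] using this

/-- Two Sylow subgroups contained in `H` are conjugate by an element of `H`. -/
theorem exists_smul_eq_of_le [Finite G] {p : ℕ} [Fact p.Prime] (H : Subgroup G) (P Q : Sylow p G)
    (hP : (P : Subgroup G) ≤ H) (hQ : (Q : Subgroup G) ≤ H) : ∃ h ∈ H, h • Q = P := by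
  have hidx : ¬ p ∣ (P : Subgroup G).relIndex H := by
    intro h
    apply P.not_dvd_index
    rw [← Subgroup.relIndex_mul_index hP]
    exact Dvd.dvd.mul_right h _
  obtain ⟨x, hxH, hle⟩ := exists_cj_le_of_relIndex P.2 hidx hQ Q.2
  refine ⟨x, hxH, ?_⟩
  have hle' : ((x • Q : Sylow p G) : Subgroup G) ≤ P := by
    intro y hy
    apply hle
    rw [mem_cj]
    exact (mem_smul_iff x y Q).mp hy
  exact (Sylow.ext ((x • Q).is_maximal' P.2 hle')).symm

/-- A subgroup centralizing `x` elementwise (in conjugation form) lies in the centralizer. -/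
theorem le_centralizer_of_conj (P : Subgroup G) (x : G) (h : ∀ s ∈ P, s * x * s⁻¹ = x) :
    P ≤ Subgroup.centralizer ({x} : Set G) := by
  intro s hs
  rw [Subgroup.mem_centralizer_iff]
  intro k hk
  rw [Set.mem_singleton_iff] at hk
  rw [hk]
  calc x * s = (s * x * s⁻¹) * s := by rw [h s hs]
    _ = s * x := by group

theorem conj_eq_of_mem_centralizer {x k : G} (hk : k ∈ Subgroup.centralizer ({x} : Set G)) :
    k * x * k⁻¹ = x := by
  have := (Subgroup.mem_centralizer_iff.mp hk) x (Set.mem_singleton x)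
  rw [← this]; group

/-- Let G be a finite group in which the intersection of any two distinct Sylow 2-subgroups is contained in the centre of some Sylow 2-subgroup, and let S be a Sylow 2-subgroup. If C is a nontrivial cyclic characteristic subgroup of S, then the involution of C is central modulo the largest normal subgroup of odd order of G: each of its conjugates has the same image in G/O(G). -/
theorem result {G : Type*} [Group G] [Finite G]
    (hCI : ∀ S T : Sylow 2 G, S ≠ T → ∃ U : Sylow 2 G,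
      (S : Subgroup G) ⊓ (T : Subgroup G) ≤ (Subgroup.center ↥(U : Subgroup G)).map (U : Subgroup G).subtype)
    (S : Sylow 2 G) (C : Subgroup ↥(S : Subgroup G)) (hC : C ≠ ⊥) (hCc : IsCyclic ↥C) (hCh : C.Characteristic)
    (c : ↥(S : Subgroup G)) (hc : c ∈ C) (hc2 : orderOf c = 2) :
    ∀ g : G, (QuotientGroup.mk (s := Cfsg.oddCore G) (g * (c : G) * g⁻¹)) =
      QuotientGroup.mk (s := Cfsg.oddCore G) (c : G) := by
  classical
  have hcG2 : orderOf (c : G) = 2 := by rw [Subgroup.orderOf_coe]; exact hc2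
  -- `c` is centralized by the normalizer of `S`
  have hcN : ∀ n ∈ Subgroup.normalizer ((S : Subgroup G) : Set G), n * (c : G) * n⁻¹ = c :=
    fun n hn => conj_eq_of_mem_normalizer (S : Subgroup G) C hCc hCh c hc hc2 n hn
  have hcS : ∀ s ∈ (S : Subgroup G), s * (c : G) * s⁻¹ = c :=
    fun s hs => hcN s (Subgroup.le_normalizer hs)
  -- the involution attached to a conjugate of `S` is well defined
  have hwd : ∀ x y : G, x • S = y • S → x * (c : G) * x⁻¹ = y * (c : G) * y⁻¹ := by
    intro x y hxy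
    have h1 : (y⁻¹ * x) • S = S := by rw [mul_smul, hxy, inv_smul_smul]
    have h2 : y⁻¹ * x ∈ Subgroup.normalizer ((S : Subgroup G) : Set G) :=
      Sylow.smul_eq_iff_mem_normalizer.mp h1
    have h3 := hcN _ h2
    calc x * (c : G) * x⁻¹ = y * ((y⁻¹ * x) * (c : G) * (y⁻¹ * x)⁻¹) * y⁻¹ := by group
      _ = y * (c : G) * y⁻¹ := by rw [h3]
  -- the involution attached to `x • S` is central in `x • S`
  have hdT : ∀ x : G, ∀ s ∈ x • S, s * (x * (c : G) * x⁻¹) * s⁻¹ = x * (c : G) * x⁻¹ := by
    intro x s hs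
    rw [mem_smul_iff] at hs
    have := hcS _ hs
    calc s * (x * (c : G) * x⁻¹) * s⁻¹
        = x * ((x⁻¹ * s * x) * (c : G) * (x⁻¹ * s * x)⁻¹) * x⁻¹ := by group
      _ = x * (c : G) * x⁻¹ := by rw [this]
  -- isolation
  have hiso : ∀ g : G, g * (c : G) * g⁻¹ ∈ S → g * (c : G) * g⁻¹ = c := by
    intro g hd
    set d := g * (c : G) * g⁻¹ with hddef
    have hcd : (c : G) * d = d * c := by
      have := hcS d hd
      calc (c : G) * d = (d * c * d⁻¹) * d := by rw [this]
        _ = d * c := by group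
    set H := Subgroup.centralizer ({d} : Set G) with hH
    have hgS_le : ((g • S : Sylow 2 G) : Subgroup G) ≤ H :=
      le_centralizer_of_conj _ d (fun s hs => hdT g s hs)
    have hcH : Subgroup.zpowers (c : G) ≤ H := by
      rw [Subgroup.zpowers_le, hH, Subgroup.mem_centralizer_iff]
      intro k hk
      rw [Set.mem_singleton_iff] at hk
      rw [hk]
      exact hcd.symm
    have hcP : IsPGroup 2 (Subgroup.zpowers (c : G)) := by
      apply IsPGroup.of_card (n := 1)
      rw [Nat.card_zpowers, hcG2, pow_one]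
    have hidx : ¬ 2 ∣ ((g • S : Sylow 2 G) : Subgroup G).relIndex H := by
      intro h
      apply (g • S).not_dvd_index
      rw [← Subgroup.relIndex_mul_index hgS_le]
      exact Dvd.dvd.mul_right h _
    obtain ⟨k, hkH, hk⟩ := exists_cj_le_of_relIndex (g • S).2 hidx hcH hcP
    have hkc : k * (c : G) * k⁻¹ ∈ g • S := hk (conj_mem_cj (Subgroup.mem_zpowers _))
    set T : Sylow 2 G := (k⁻¹ * g) • S with hT
    have hcT : (c : G) ∈ T := by
      rw [hT, mem_smul_iff]
      have := (mem_smul_iff g _ S).mp hkc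
      have e : (k⁻¹ * g)⁻¹ * (c : G) * (k⁻¹ * g) = g⁻¹ * (k * (c : G) * k⁻¹) * g := by group
      rw [e]; exact this
    have hkd : k * d * k⁻¹ = d := conj_eq_of_mem_centralizer hkH
    have hdT' : d = (k⁻¹ * g) * (c : G) * (k⁻¹ * g)⁻¹ := by
      have e : (k⁻¹ * g) * (c : G) * (k⁻¹ * g)⁻¹ = k⁻¹ * (g * (c : G) * g⁻¹) * k := by group
      rw [e, ← hddef]
      calc d = k⁻¹ * (k * d * k⁻¹) * k := by group
        _ = k⁻¹ * d * k := by rw [hkd]
    have hdmemT : d ∈ T := by
      rw [hT, mem_smul_iff, hdT']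
      have e : (k⁻¹ * g)⁻¹ * ((k⁻¹ * g) * (c : G) * (k⁻¹ * g)⁻¹) * (k⁻¹ * g) = (c : G) := by group
      rw [e]; exact c.2
    by_cases hST : S = T
    · have := hwd (k⁻¹ * g) 1 (by rw [one_smul]; exact hST.symm)
      rw [hdT', this]; group
    · obtain ⟨U, hU⟩ := hCI S T hST
      have hcentral : ∀ x : G, x ∈ (S : Subgroup G) ⊓ (T : Subgroup G) →
          ∀ s ∈ (U : Subgroup G), s * x * s⁻¹ = x := by
        intro x hx s hs
        obtain ⟨z, hz, hzx⟩ := hU hx
        have h1 := Subgroup.mem_center_iff.mp hz ⟨s, hs⟩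
        have h2 : s * (z : G) = (z : G) * s := congrArg Subtype.val h1
        have hzx' : (z : G) = x := hzx
        rw [← hzx', h2]; group
      have hUc : (U : Subgroup G) ≤ Subgroup.centralizer ({(c : G)} : Set G) :=
        le_centralizer_of_conj _ _ (hcentral _ ⟨c.2, hcT⟩)
      have hUd : (U : Subgroup G) ≤ H :=
        le_centralizer_of_conj _ _ (hcentral _ ⟨hd, hdmemT⟩)
      have hSc : (S : Subgroup G) ≤ Subgroup.centralizer ({(c : G)} : Set G) :=
        le_centralizer_of_conj _ _ hcS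
      have hTd : (T : Subgroup G) ≤ H := by
        apply le_centralizer_of_conj
        intro s hs
        have := hdT (k⁻¹ * g) s hs
        rw [← hdT'] at this
        exact this
      obtain ⟨x, hx, hxU⟩ := exists_smul_eq_of_le _ U S hUc hSc
      obtain ⟨y, hy, hyU⟩ := exists_smul_eq_of_le _ U T hUd hTd
      have h1 : x • S = (y * (k⁻¹ * g)) • S := by
        rw [hxU, mul_smul, ← hT, hyU]
      have h2 := hwd _ _ h1
      have h3 : x * (c : G) * x⁻¹ = c := conj_eq_of_mem_centralizer hx
      have h4 : (y * (k⁻¹ * g)) * (c : G) * (y * (k⁻¹ * g))⁻¹ = d := by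
        have e : (y * (k⁻¹ * g)) * (c : G) * (y * (k⁻¹ * g))⁻¹ =
            y * ((k⁻¹ * g) * (c : G) * (k⁻¹ * g)⁻¹) * y⁻¹ := by group
        rw [e, ← hdT']
        exact conj_eq_of_mem_centralizer hy
      rw [h3, h4] at h2
      exact h2.symm
  -- apply the Z*-theorem
  obtain ⟨N, hN, hNodd, hNcomm⟩ := Cfsg.Agent.S0215.result S (c : G) hcG2 c.2 hiso
  have hNle : N ≤ Cfsg.oddCore G := by
    apply Cfsg.Agent.Lib.Helper1_Cores.le_pPrimeCore hN
    exact Nat.Coprime.symm (Nat.coprime_two_left.mpr hNodd)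
  intro g
  rw [QuotientGroup.eq]
  have h1 := hNle (hNcomm g)
  have hc2' : (c : G) ^ 2 = 1 := by
    have h := pow_orderOf_eq_one (c : G)
    rwa [hcG2] at h
  have hcinv : (c : G)⁻¹ = c := by
    rw [inv_eq_iff_mul_eq_one, ← pow_two]
    exact hc2'
  have e : (g * (c : G) * g⁻¹)⁻¹ * (c : G) = ((c : G) * g * (c : G)⁻¹ * g⁻¹)⁻¹ := by
    have h2 : (g * (c : G) * g⁻¹)⁻¹ * (c : G) = g * (c : G)⁻¹ * g⁻¹ * (c : G) := by group
    have h3 : ((c : G) * g * (c : G)⁻¹ * g⁻¹)⁻¹ = g * (c : G) * g⁻¹ * (c : G)⁻¹ := by group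
    rw [h2, h3, hcinv]
  rw [e]
  exact Subgroup.inv_mem _ h1

end Cfsg.Agent.S3184
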