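import Mathlib
import Cfsg.Statements.S3190
import Cfsg.Agent.Lib.Helper53_Conj
import Cfsg.Agent.Lib.Helper53_PGroup

set_option autoImplicit false
open Cfsg

namespace Cfsg.Agent.S3190

open Cfsg.Agent.Lib.Helper53_Conj Cfsg.Agent.Lib.Helper53_PGroup

variable {X : Type*} [Group X]

/-- A `p`-group `C` normalizing a nontrivial `p`-group `W` centralizes a nontrivial element of it. -/
theorem exists_fixed [Finite X] {p : ℕ} [Fact p.Prime] (C W : Subgroup X)
    (hC : IsPGroup p ↥C) (hW : IsPGroup p ↥W)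
    (hCW : C ≤ Subgroup.normalizer (W : Set X)) (hW1 : W ≠ ⊥) :
    ∃ w ∈ W, w ≠ 1 ∧ ∀ c ∈ C, c * w = w * c := by
  letI act : MulAction ↥C ↥W :=
    { smul := fun c w => ⟨c * w * (c : X)⁻¹, (Subgroup.mem_normalizer_iff.mp (hCW c.2) w).mp w.2⟩
      one_smul := fun w => by
        apply Subtype.ext
        show ((1 : ↥C) : X) * (w : X) * ((1 : ↥C) : X)⁻¹ = w
        simp
      mul_smul := fun c d w => by
        apply Subtype.ext
        show ((c * d : ↥C) : X) * (w : X) * ((c * d : ↥C) : X)⁻¹ =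
          (c : X) * ((d : X) * (w : X) * (d : X)⁻¹) * (c : X)⁻¹
        simp [mul_assoc] }
  have hsmul : ∀ (c : ↥C) (w : ↥W), ((c • w : ↥W) : X) = c * w * (c : X)⁻¹ := fun _ _ => rfl
  have hdvd : p ∣ Nat.card ↥W := by
    obtain ⟨k, hk⟩ := IsPGroup.iff_card.mp hW
    rcases Nat.eq_zero_or_pos k with rfl | hk0
    · exfalso
      apply hW1
      rw [pow_zero] at hk
      exact Subgroup.card_eq_one.mp hk
    · rw [hk]
      exact dvd_pow_self p hk0.ne'
  have h1 : (1 : ↥W) ∈ MulAction.fixedPoints ↥C ↥W := by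
    intro c
    apply Subtype.ext
    rw [hsmul]
    simp
  obtain ⟨w, hw, hne⟩ := hC.exists_fixed_point_of_prime_dvd_card_of_fixed_point ↥W hdvd h1
  refine ⟨w, w.2, ?_, ?_⟩
  · intro h
    apply hne
    apply Subtype.ext
    simp [h]
  · intro c hc
    have := hw ⟨c, hc⟩
    have h2 := congrArg Subtype.val this
    rw [hsmul] at h2
    simp only at h2
    calc c * w = c * w * c⁻¹ * c := by group
      _ = w * c := by rw [h2]

/-- Let p be an odd prime and, inside a finite group, let P be a p-subgroup normalized by a Klein four-group T. Let R be a subgroup of P, normal in P and normalized by T, such that P is the product of R with the centralizer of T in P. If T centralizes the centre of P, then T centralizes the centre of R. -/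
theorem result {X : Type*} [Group X] [Finite X]
    {p : ℕ} (hp : p.Prime) (hodd : Odd p) (P T R : Subgroup X) (hP : IsPGroup p ↥P) (hT : IsKleinFour ↥T)
    (hTP : T ≤ Subgroup.normalizer (P : Set X)) (hRP : R ≤ P) (hRn : (R.subgroupOf P).Normal)
    (hTR : T ≤ Subgroup.normalizer (R : Set X)) (hfac : R ⊔ (P ⊓ Subgroup.centralizer (T : Set X)) = P)
    (hZ : T ≤ Subgroup.centralizer (((Subgroup.center ↥P).map P.subtype : Subgroup X) : Set X)) :
    T ≤ Subgroup.centralizer (((Subgroup.center ↥R).map R.subtype : Subgroup X) : Set X) := by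
  haveI : Fact p.Prime := ⟨hp⟩
  set Z : Subgroup X := centerOf R with hZdef
  set C : Subgroup X := P ⊓ Subgroup.centralizer (T : Set X) with hCdef
  -- t ^ 2 = 1 for t ∈ T
  have hT2 : ∀ t ∈ T, t * t = 1 := by
    intro t ht
    have h1 : (⟨t, ht⟩ : ↥T) ^ Monoid.exponent ↥T = 1 := Monoid.pow_exponent_eq_one _
    rw [hT.exponent_two, pow_two] at h1
    exact congrArg Subtype.val h1
  have hZcomm : ∀ z ∈ Z, ∀ r ∈ R, r * z = z * r := fun z hz => (mem_centerOf.mp hz).2
  have hZR : Z ≤ R := centerOf_le R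
  have hZZ : ∀ z ∈ Z, ∀ z' ∈ Z, z * z' = z' * z := fun z hz z' hz' => hZcomm z' hz' z (hZR hz)
  -- elements normalizing R normalize Z
  have hnormZ : ∀ g : X, g ∈ Subgroup.normalizer (R : Set X) → ∀ z ∈ Z, g * z * g⁻¹ ∈ Z := by
    intro g hg z hz
    have h1 : cj g R = R := cj_eq_self_iff.mpr hg
    have h2 : cj g Z = Z := by rw [hZdef, ← centerOf_cj, h1]
    rw [← h2]
    exact conj_mem_cj hz
  -- P normalizes R
  have hPR : P ≤ Subgroup.normalizer (R : Set X) := by
    intro g hg
    rw [← cj_eq_self_iff]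
    apply cj_eq_of_cj_le
    rw [cj_le_iff]
    intro r hr
    have := hRn.conj_mem ⟨r, hRP hr⟩ (by rw [Subgroup.mem_subgroupOf]; exact hr) ⟨g, hg⟩
    rw [Subgroup.mem_subgroupOf] at this
    simpa using this
  have hCP : C ≤ P := inf_le_left
  have hCT : ∀ c ∈ C, ∀ t ∈ T, t * c = c * t := by
    intro c hc t ht
    exact (Subgroup.mem_centralizer_iff.mp hc.2) t ht
  -- main: each t ∈ T centralizes Z
  intro t ht
  rw [Subgroup.mem_centralizer_iff]
  intro z hz
  change z ∈ Z at hz
  -- W_t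
  have htinv : t⁻¹ = t := inv_eq_of_mul_eq_one_left (hT2 t ht)
  have htZ : ∀ z ∈ Z, t * z * t⁻¹ ∈ Z := hnormZ t (hTR ht)
  let W : Subgroup X :=
    { carrier := {z | z ∈ Z ∧ t * z * t⁻¹ = z⁻¹}
      one_mem' := ⟨Z.one_mem, by simp⟩
      mul_mem' := by
        rintro a b ⟨ha, ha'⟩ ⟨hb, hb'⟩
        refine ⟨Z.mul_mem ha hb, ?_⟩
        have : t * (a * b) * t⁻¹ = (t * a * t⁻¹) * (t * b * t⁻¹) := by group
        rw [this, ha', hb', mul_inv_rev]
        exact hZZ _ (Z.inv_mem ha) _ (Z.inv_mem hb)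
      inv_mem' := by
        rintro a ⟨ha, ha'⟩
        refine ⟨Z.inv_mem ha, ?_⟩
        have : t * a⁻¹ * t⁻¹ = (t * a * t⁻¹)⁻¹ := by group
        rw [this, ha'] }
  have hWmem : ∀ x, x ∈ W ↔ x ∈ Z ∧ t * x * t⁻¹ = x⁻¹ := fun x => Iff.rfl
  have hWZ : W ≤ Z := fun x hx => hx.1
  have hWP : W ≤ P := hWZ.trans (hZR.trans hRP)
  have hWbot : W = ⊥ := by
    by_contra hW1
    have hCW : C ≤ Subgroup.normalizer (W : Set X) := by
      intro c hc
      rw [← cj_eq_self_iff]
      apply cj_eq_of_cj_le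
      rw [cj_le_iff]
      intro w hw
      rw [hWmem] at hw ⊢
      refine ⟨hnormZ c (hPR (hCP hc)) w hw.1, ?_⟩
      have h1 := hCT c hc t ht
      have h2 : t * (c * w * c⁻¹) * t⁻¹ = (t * c) * w * (t * c)⁻¹ := by group
      rw [h2, h1]
      have h3 : c * t * w * (c * t)⁻¹ = c * (t * w * t⁻¹) * c⁻¹ := by group
      rw [h3, hw.2]
      group
    obtain ⟨w, hwW, hw1, hwC⟩ := exists_fixed C W (hP.to_le hCP) (hP.to_le hWP) hCW hW1
    -- w is central in P
    have hwZP : w ∈ centerOf P := by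
      rw [mem_centerOf]
      refine ⟨hWP hwW, ?_⟩
      have hle : R ⊔ C ≤ Subgroup.centralizer ({w} : Set X) := by
        apply sup_le
        · intro r hr
          rw [Subgroup.mem_centralizer_iff]
          intro y hy
          rw [Set.mem_singleton_iff] at hy
          subst hy
          exact (hZcomm y (hWZ hwW) r hr).symm
        · intro c hc
          rw [Subgroup.mem_centralizer_iff]
          intro y hy
          rw [Set.mem_singleton_iff] at hy
          subst hy
          exact (hwC c hc).symm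
      rw [hfac] at hle
      intro h hh
      have := Subgroup.mem_centralizer_iff.mp (hle hh) w (Set.mem_singleton w)
      exact this.symm
    have h1 : w * t = t * w := Subgroup.mem_centralizer_iff.mp (hZ ht) w hwZP
    have h2 : t * w * t⁻¹ = w := by rw [← h1]; group
    have h3 : w = w⁻¹ := by rw [← ((hWmem w).mp hwW).2, h2]
    have h4 : w ^ 2 = 1 := by
      rw [pow_two]
      nth_rewrite 2 [h3]
      exact mul_inv_cancel w
    obtain ⟨k, hk⟩ := hP ⟨w, hWP hwW⟩
    have h5 : w ^ p ^ k = 1 := by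
      have := congrArg Subtype.val hk
      simpa using this
    have h6 : w ^ Nat.gcd (p ^ k) 2 = 1 := pow_gcd_eq_one.mpr ⟨h5, h4⟩
    have hcop : Nat.Coprime (p ^ k) 2 := Nat.Coprime.pow_left k (Nat.Coprime.symm (Nat.coprime_two_left.mpr hodd))
    rw [hcop.gcd_eq_one, pow_one] at h6
    exact hw1 h6
  -- conclude
  have hu : z * (t * z * t⁻¹)⁻¹ ∈ W := by
    rw [hWmem]
    refine ⟨Z.mul_mem hz (Z.inv_mem (htZ z hz)), ?_⟩
    have h1 : t * (z * (t * z * t⁻¹)⁻¹) * t⁻¹ = (t * z * t⁻¹) * ((t * t) * z * (t * t)⁻¹)⁻¹ := by group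
    rw [h1, hT2 t ht]
    simp only [one_mul, inv_one, mul_one, mul_inv_rev, inv_inv]
  rw [hWbot, Subgroup.mem_bot] at hu
  have h7 : z = t * z * t⁻¹ := by
    have := mul_inv_eq_one.mp hu
    exact this
  calc z * t = t * z * t⁻¹ * t := by rw [← h7]
    _ = t * z := by group

end Cfsg.Agent.S3190
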