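import Mathlib
import Cfsg.Statements.S3196
import Cfsg.Agent.Lib.Helper53_Conj

set_option autoImplicit false
open Cfsg

namespace Cfsg.Agent.S3196

open Cfsg.Agent.Lib.Helper53_Conj

variable {G : Type*} [Group G]

/-- elementwise commuting of two subgroups -/
def Comm (X Y : Subgroup G) : Prop := ∀ x ∈ X, ∀ y ∈ Y, x * y = y * x

theorem Comm.symm {X Y : Subgroup G} (h : Comm X Y) : Comm Y X :=
  fun y hy x hx => (h x hx y hy).symm

theorem comm_iff_le_centralizer {X Y : Subgroup G} :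
    Comm X Y ↔ Y ≤ Subgroup.centralizer (X : Set G) := by
  constructor
  · intro h y hy
    rw [Subgroup.mem_centralizer_iff]
    intro x hx
    exact h x hx y hy
  · intro h x hx y hy
    exact Subgroup.mem_centralizer_iff.mp (h hy) x hx

theorem Comm.sup_right {W A B : Subgroup G} (hA : Comm W A) (hB : Comm W B) :
    Comm W (A ⊔ B) := by
  rw [comm_iff_le_centralizer] at hA hB ⊢
  exact sup_le hA hB

theorem Comm.mono_right {W E Z : Subgroup G} (h : Comm W E) (hZ : Z ≤ E) : Comm W Z :=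
  fun w hw z hz => h w hw z (hZ hz)

theorem Comm.cj {A B : Subgroup G} (h : Comm A B) (g : G) : Comm (cj g A) (cj g B) := by
  intro a ha b hb
  rw [mem_cj] at ha hb
  have := h _ ha _ hb
  calc a * b = g * ((g⁻¹ * a * g) * (g⁻¹ * b * g)) * g⁻¹ := by group
    _ = g * ((g⁻¹ * b * g) * (g⁻¹ * a * g)) * g⁻¹ := by rw [this]
    _ = b * a := by group

theorem cj_eq_of_comm {X Y : Subgroup G} {x : G} (hx : x ∈ X) (h : Comm X Y) : cj x Y = Y := by
  ext y
  rw [mem_cj]
  constructor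
  · intro hy
    have h1 := h x hx _ hy
    have h2 : x * (x⁻¹ * y * x) = y * x := by group
    rw [h2] at h1
    have h3 : y = x⁻¹ * y * x := by
      have : y * x = (x⁻¹ * y * x) * x := h1
      exact mul_right_cancel this
    rw [h3]; exact hy
  · intro hy
    have h1 := h x hx y hy
    have : x⁻¹ * y * x = y := by
      calc x⁻¹ * y * x = x⁻¹ * (y * x) := by group
        _ = x⁻¹ * (x * y) := by rw [h1]
        _ = y := by group
    rw [this]; exact hy

section prime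

variable {p : ℕ}

/-- a subgroup of prime order is generated by any nontrivial element -/
theorem eq_zpowers_of_card_prime (hp : p.Prime) {X : Subgroup G} (hX : Nat.card ↥X = p) {x : G}
    (hx : x ∈ X) (hx1 : x ≠ 1) : X = Subgroup.zpowers x := by
  haveI : Fact p.Prime := ⟨hp⟩
  haveI : Finite ↥X := Nat.finite_of_card_ne_zero (by rw [hX]; exact hp.ne_zero)
  symm
  apply Subgroup.eq_of_le_of_card_ge
  · rw [Subgroup.zpowers_le]; exact hx
  · rw [Nat.card_zpowers, hX]
    have hdvd : orderOf x ∣ p := by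
      have h1 : orderOf (⟨x, hx⟩ : ↥X) ∣ Nat.card ↥X := orderOf_dvd_natCard _
      rw [hX] at h1
      rwa [Subgroup.orderOf_mk] at h1
    rcases (Nat.dvd_prime hp).mp hdvd with h | h
    · exact absurd (orderOf_eq_one_iff.mp h) hx1
    · exact h.ge

theorem pow_eq_one_of_mem (hp : p.Prime) {X : Subgroup G} (hX : Nat.card ↥X = p) {x : G}
    (hx : x ∈ X) : x ^ p = 1 := by
  have h1 : (⟨x, hx⟩ : ↥X) ^ Nat.card ↥X = 1 := pow_card_eq_one'
  rw [hX] at h1
  exact congrArg Subtype.val h1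

theorem exists_ne_one_of_card_prime (hp : p.Prime) {X : Subgroup G} (hX : Nat.card ↥X = p) :
    ∃ x ∈ X, x ≠ 1 := by
  by_contra hcon
  push Not at hcon
  have : X = ⊥ := by
    rw [Subgroup.eq_bot_iff_forall]; exact hcon
  rw [this, Subgroup.card_bot] at hX
  exact hp.one_lt.ne hX

/-- a subgroup of prime order is commutative -/
theorem comm_self_of_card_prime (hp : p.Prime) {X : Subgroup G} (hX : Nat.card ↥X = p) :
    Comm X X := by
  obtain ⟨x, hx, hx1⟩ := exists_ne_one_of_card_prime hp hX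
  have hXz := eq_zpowers_of_card_prime hp hX hx hx1
  intro a ha b hb
  rw [hXz] at ha hb
  obtain ⟨i, rfl⟩ := Subgroup.mem_zpowers_iff.mp ha
  obtain ⟨j, rfl⟩ := Subgroup.mem_zpowers_iff.mp hb
  exact (Commute.zpow_zpow_self x i j).eq

/-- **Fact N**: an element of order `p` normalizing a subgroup of order `p` centralizes it. -/
theorem comm_of_cj_eq (hp : p.Prime) {X U : Subgroup G} (hX : Nat.card ↥X = p)
    (hU : Nat.card ↥U = p) {x : G} (hx : x ∈ X) (hx1 : x ≠ 1) (h : cj x U = U) : Comm X U := by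
  haveI : Fact p.Prime := ⟨hp⟩
  obtain ⟨u, hu, hu1⟩ := exists_ne_one_of_card_prime hp hU
  have hUz := eq_zpowers_of_card_prime hp hU hu hu1
  have hXz := eq_zpowers_of_card_prime hp hX hx hx1
  have hou : orderOf u = p := by
    have := Nat.card_zpowers u
    rw [← hUz, hU] at this
    exact this.symm
  -- x u x⁻¹ = u ^ n
  have hmem : x * u * x⁻¹ ∈ U := by
    rw [← h]; exact conj_mem_cj hu
  rw [hUz] at hmem
  have hfin : IsOfFinOrder u := by
    rw [← orderOf_pos_iff, hou]; exact hp.pos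
  rw [← hfin.mem_powers_iff_mem_zpowers] at hmem
  obtain ⟨n, hn⟩ := hmem
  have hn' : u ^ n = x * u * x⁻¹ := hn
  have hpow : ∀ i : ℕ, x ^ i * u * (x ^ i)⁻¹ = u ^ (n ^ i) := by
    intro i
    induction i with
    | zero => simp
    | succ i ih =>
      calc x ^ (i + 1) * u * (x ^ (i + 1))⁻¹ = x * (x ^ i * u * (x ^ i)⁻¹) * x⁻¹ := by
            rw [pow_succ']; group
        _ = x * (u ^ (n ^ i)) * x⁻¹ := by rw [ih]
        _ = (x * u * x⁻¹) ^ (n ^ i) := by rw [conj_pow]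
        _ = u ^ (n ^ (i + 1)) := by rw [← hn', ← pow_mul, pow_succ']
  have hxp : x ^ p = 1 := pow_eq_one_of_mem hp hX hx
  have h1 := hpow p
  rw [hxp] at h1
  simp only [one_mul, inv_one, mul_one] at h1
  have h2 : u ^ 1 = u ^ (n ^ p) := by rw [pow_one]; exact h1
  rw [pow_eq_pow_iff_modEq, hou] at h2
  have h3 : ((n ^ p : ℕ) : ZMod p) = ((1 : ℕ) : ZMod p) :=
    ((ZMod.natCast_eq_natCast_iff _ _ _).mpr h2).symm
  rw [Nat.cast_pow, ZMod.pow_card, Nat.cast_one] at h3
  have h4 : n ≡ 1 [MOD p] := by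
    rw [← ZMod.natCast_eq_natCast_iff]; rw [h3]; simp
  have h5 : u ^ n = u ^ 1 := by
    rw [pow_eq_pow_iff_modEq, hou]; exact h4
  rw [pow_one] at h5
  have hcomm : x * u = u * x := by
    have : x * u * x⁻¹ = u := hn'.symm.trans h5
    calc x * u = (x * u * x⁻¹) * x := by group
      _ = u * x := by rw [this]
  intro a ha b hb
  rw [hXz] at ha
  rw [hUz] at hb
  obtain ⟨i, rfl⟩ := Subgroup.mem_zpowers_iff.mp ha
  obtain ⟨j, rfl⟩ := Subgroup.mem_zpowers_iff.mp hb
  have hc : Commute x u := hcomm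
  exact (hc.zpow_zpow i j).eq

/-- A "line": an elementary abelian subgroup of order `p²`. -/
structure IsLine (p : ℕ) (E : Subgroup G) : Prop where
  card : Nat.card ↥E = p ^ 2
  comm : Comm E E
  pow : ∀ e ∈ E, e ^ p = 1

theorem disjoint_of_card_prime [Finite G] (hp : p.Prime) {A B : Subgroup G}
    (hA : Nat.card ↥A = p) (hB : Nat.card ↥B = p) (hne : A ≠ B) : A ⊓ B = ⊥ := by
  by_contra hbot
  obtain ⟨e, he1⟩ := (Subgroup.ne_bot_iff_exists_ne_one).mp hbot
  have he' : (e : G) ≠ 1 := fun h => he1 (Subtype.ext h)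
  have h1 := eq_zpowers_of_card_prime hp hA e.2.1 he'
  have h2 := eq_zpowers_of_card_prime hp hB e.2.2 he'
  exact hne (h1.trans h2.symm)

theorem isLine_sup [Finite G] (hp : p.Prime) {A B : Subgroup G} (hA : Nat.card ↥A = p)
    (hB : Nat.card ↥B = p) (hne : A ≠ B) (hc : Comm A B) : IsLine p (A ⊔ B) := by
  have hcomm : ∀ (a : ↥A) (b : ↥B), Commute (A.subtype a) (B.subtype b) :=
    fun a b => hc a a.2 b b.2
  have hrange : (MonoidHom.noncommCoprod A.subtype B.subtype hcomm).range = A ⊔ B := by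
    rw [MonoidHom.noncommCoprod_range, Subgroup.range_subtype, Subgroup.range_subtype]
  have hinj : Function.Injective (MonoidHom.noncommCoprod A.subtype B.subtype hcomm) := by
    rw [MonoidHom.noncommCoprod_injective]
    refine ⟨Subgroup.subtype_injective _, Subgroup.subtype_injective _, ?_⟩
    rw [Subgroup.range_subtype, Subgroup.range_subtype, disjoint_iff]
    exact disjoint_of_card_prime hp hA hB hne
  refine ⟨?_, ?_, ?_⟩
  · rw [← hrange, ← Nat.card_congr (MonoidHom.ofInjective hinj).toEquiv, Nat.card_prod, hA, hB,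
      pow_two]
  · have hAA := comm_self_of_card_prime hp hA
    have hBB := comm_self_of_card_prime hp hB
    have h1 : Comm A (A ⊔ B) := hAA.sup_right hc
    have h2 : Comm B (A ⊔ B) := hc.symm.sup_right hBB
    exact (h1.symm.sup_right h2.symm)
  · intro e he
    rw [← hrange] at he
    obtain ⟨⟨a, b⟩, rfl⟩ := he
    rw [MonoidHom.noncommCoprod_apply]
    rw [(hcomm a b).mul_pow]
    have h1 := pow_eq_one_of_mem hp hA a.2
    have h2 := pow_eq_one_of_mem hp hB b.2
    simp only [Subgroup.subtype_apply]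
    rw [h1, h2, one_mul]

theorem IsLine.comm_of_le {E A B : Subgroup G} (hE : IsLine p E) (hA : A ≤ E) (hB : B ≤ E) :
    Comm A B := fun a ha b hb => hE.comm a (hA ha) b (hB hb)

/-- two distinct points of a line generate it -/
theorem IsLine.sup_eq [Finite G] (hp : p.Prime) {E A B : Subgroup G} (hE : IsLine p E)
    (hA : Nat.card ↥A = p) (hB : Nat.card ↥B = p) (hAE : A ≤ E) (hBE : B ≤ E) (hne : A ≠ B) :
    A ⊔ B = E := by
  have hl := isLine_sup hp hA hB hne (hE.comm_of_le hAE hBE)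
  apply eq_of_le_of_card_le (sup_le hAE hBE)
  rw [hl.card, hE.card]

theorem IsLine.card_zpowers (hp : p.Prime) {E : Subgroup G} (hE : IsLine p E) {g : G}
    (hg : g ∈ E) (hg1 : g ≠ 1) : Nat.card ↥(Subgroup.zpowers g) = p := by
  rw [Nat.card_zpowers]
  have hdvd : orderOf g ∣ p := orderOf_dvd_of_pow_eq_one (hE.pow g hg)
  rcases (Nat.dvd_prime hp).mp hdvd with h | h
  · exact absurd (orderOf_eq_one_iff.mp h) hg1
  · exact h

end prime

/-- the hypotheses of the statement -/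
structure Setup (p : ℕ) (K : Set (Subgroup G)) : Prop where
  hp : p.Prime
  card : ∀ X ∈ K, Nat.card ↥X = p
  conj : ∀ X ∈ K, ∀ g : G, cj g X ∈ K
  mem_of_le : ∀ X ∈ K, ∀ Y ∈ K, X ≠ Y → Comm X Y →
    ∀ Z : Subgroup G, Z ≤ X ⊔ Y → Nat.card ↥Z = p → Z ∈ K
  meet : ∀ X ∈ K, ∀ Y ∈ K, X ≠ Y → Comm X Y → ∀ W ∈ K, ∃ Z ∈ K, Z ≤ X ⊔ Y ∧ Comm Z W

/-- a radical point: commutes with all points -/
def IsRad (K : Set (Subgroup G)) (V : Subgroup G) : Prop := V ∈ K ∧ ∀ W ∈ K, Comm V W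

section setup

variable [Finite G] {p : ℕ} {K : Set (Subgroup G)}

theorem Setup.line (S : Setup p K) {X Y : Subgroup G} (hX : X ∈ K) (hY : Y ∈ K) (hne : X ≠ Y)
    (hc : Comm X Y) : IsLine p (X ⊔ Y) :=
  isLine_sup S.hp (S.card X hX) (S.card Y hY) hne hc

/-- one-or-all -/
theorem Setup.all_of_two (S : Setup p K) {X Y : Subgroup G} (hX : X ∈ K) (hY : Y ∈ K)
    (hne : X ≠ Y) (hc : Comm X Y) {W A B : Subgroup G} (hA : A ∈ K) (hB : B ∈ K) (hAB : A ≠ B)
    (hAL : A ≤ X ⊔ Y) (hBL : B ≤ X ⊔ Y) (hWA : Comm W A) (hWB : Comm W B) :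
    Comm W (X ⊔ Y) := by
  rw [← (S.line hX hY hne hc).sup_eq S.hp (S.card A hA) (S.card B hB) hAL hBL hAB]
  exact hWA.sup_right hWB

/-- Lemma A: a point is not moved to a collinear point by a non-collinear symmetry. -/
theorem Setup.lemmaA (S : Setup p K) (hno : ¬ ∃ V, IsRad K V) {X U : Subgroup G} (hX : X ∈ K)
    (hU : U ∈ K) (hXU : ¬ Comm X U) {x : G} (hx : x ∈ X) (hne : U ≠ cj x U)
    (hUU' : Comm U (cj x U)) : False := by
  have hU' : cj x U ∈ K := S.conj U hU x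
  have hN := S.line hU hU' hne hUU'
  obtain ⟨P, hPK, hPN, hPX⟩ := S.meet U hU _ hU' hne hUU' X hX
  apply hno
  refine ⟨P, hPK, ?_⟩
  intro Q hQ
  obtain ⟨Us, hUsK, hUsN, hUsQ⟩ := S.meet U hU _ hU' hne hUU' Q hQ
  by_cases hUsP : Us = P
  · rw [← hUsP]; exact hUsQ
  have hx1 : x ≠ 1 := by
    rintro rfl
    exact hne (cj_one U).symm
  have hU'X : ¬ Comm (cj x U) X := by
    intro h
    have h1 := h.cj x⁻¹
    rw [cj_inv_cj, cj_eq_of_mem (X.inv_mem hx)] at h1
    exact hXU h1.symm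
  have hPU' : P ≠ cj x U := by
    rintro rfl
    exact hU'X hPX
  have h1 : ¬ Comm X Us := by
    intro h
    have := S.all_of_two hU hU' hne hUU' hPK hUsK (Ne.symm hUsP) hPN hUsN hPX.symm h
    exact hXU (this.mono_right le_sup_left)
  have h2 : cj x (U ⊔ cj x U) = U ⊔ cj x U := by
    have hPU'N : P ⊔ cj x U = U ⊔ cj x U :=
      hN.sup_eq S.hp (S.card P hPK) (S.card _ hU') hPN le_sup_right hPU'
    have hle : U ⊔ cj x U ≤ cj x (U ⊔ cj x U) := by
      have hA1 : P ≤ cj x (U ⊔ cj x U) := by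
        have : cj x P = P := cj_eq_of_comm hx hPX.symm
        rw [← this]
        exact cj_mono hPN
      have hA2 : cj x U ≤ cj x (U ⊔ cj x U) := cj_mono le_sup_left
      have := sup_le hA1 hA2
      rwa [hPU'N] at this
    exact (eq_of_le_of_card_le hle (by rw [card_cj])).symm
  have hUs' : cj x Us ∈ K := S.conj _ hUsK x
  have hUs'N : cj x Us ≤ U ⊔ cj x U := by
    rw [← h2]; exact cj_mono hUsN
  have hUs'ne : Us ≠ cj x Us := by
    intro h
    exact h1 (comm_of_cj_eq S.hp (S.card X hX) (S.card Us hUsK) hx hx1 h.symm)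
  have hPUs : Comm P Us := hN.comm_of_le hPN hUsN
  by_cases hQUs : Q = Us
  · rw [hQUs]; exact hPUs
  have hUsQne : Us ≠ Q := Ne.symm hQUs
  obtain ⟨Y₀, hY₀K, hY₀L, hY₀X⟩ := S.meet Us hUsK Q hQ hUsQne hUsQ X hX
  have hL := S.line hUsK hQ hUsQne hUsQ
  have hY₀Us : Y₀ ≠ Us := by
    rintro rfl
    exact h1 hY₀X.symm
  have hY₀cUs : Comm Y₀ Us := hL.comm_of_le hY₀L le_sup_left
  have hY₀cUs' : Comm Y₀ (cj x Us) := by
    have := hY₀cUs.cj x
    rwa [cj_eq_of_comm hx hY₀X.symm] at this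
  have hY₀N : Comm Y₀ (U ⊔ cj x U) :=
    S.all_of_two hU hU' hne hUU' hUsK hUs' hUs'ne hUsN hUs'N hY₀cUs hY₀cUs'
  have hY₀P : Comm Y₀ P := hY₀N.mono_right hPN
  have := S.all_of_two hUsK hQ hUsQne hUsQ hY₀K hUsK hY₀Us hY₀L le_sup_left hY₀P.symm hPUs
  exact this.mono_right le_sup_right

/-- the "third point" generated by the product of generators of two collinear points -/
theorem Setup.point_mul (S : Setup p K) {X Z : Subgroup G} (hX : X ∈ K) (hZ : Z ∈ K) (hXZ : X ≠ Z)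
    (hc : Comm X Z) {x z : G} (hx : x ∈ X) (hz : z ∈ Z) (hx1 : x ≠ 1) (hz1 : z ≠ 1) :
    Subgroup.zpowers (x * z) ∈ K ∧ Subgroup.zpowers (x * z) ≤ X ⊔ Z ∧
      Subgroup.zpowers (x * z) ≠ X ∧ Subgroup.zpowers (x * z) ≠ Z := by
  have hL := S.line hX hZ hXZ hc
  have hdis := disjoint_of_card_prime S.hp (S.card X hX) (S.card Z hZ) hXZ
  have hmem : x * z ∈ X ⊔ Z :=
    Subgroup.mul_mem _ (Subgroup.mem_sup_left hx) (Subgroup.mem_sup_right hz)
  have hne1 : x * z ≠ 1 := by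
    intro h
    have hxz : x = z⁻¹ := eq_inv_of_mul_eq_one_left h
    have : x ∈ X ⊓ Z := ⟨hx, by rw [hxz]; exact Z.inv_mem hz⟩
    rw [hdis, Subgroup.mem_bot] at this
    exact hx1 this
  have hle : Subgroup.zpowers (x * z) ≤ X ⊔ Z := by
    rw [Subgroup.zpowers_le]; exact hmem
  have hcard := hL.card_zpowers S.hp hmem hne1
  refine ⟨S.mem_of_le X hX Z hZ hXZ hc _ hle hcard, hle, ?_, ?_⟩
  · intro h
    have h1 : x * z ∈ X := by rw [← h]; exact Subgroup.mem_zpowers _
    have h2 : z ∈ X := by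
      have := X.mul_mem (X.inv_mem hx) h1
      rwa [inv_mul_cancel_left] at this
    have : z ∈ X ⊓ Z := ⟨h2, hz⟩
    rw [hdis, Subgroup.mem_bot] at this
    exact hz1 this
  · intro h
    have h1 : x * z ∈ Z := by rw [← h]; exact Subgroup.mem_zpowers _
    have h2 : x ∈ Z := by
      have := Z.mul_mem h1 (Z.inv_mem hz)
      rwa [mul_inv_cancel_right] at this
    have : x ∈ X ⊓ Z := ⟨hx, h2⟩
    rw [hdis, Subgroup.mem_bot] at this
    exact hx1 this

/-- Claim C -/
theorem Setup.claimC (S : Setup p K) (hno : ¬ ∃ V, IsRad K V) {X Z : Subgroup G} (hX : X ∈ K)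
    (hZ : Z ∈ K) (hXZ : X ≠ Z) (hc : Comm X Z) {x z : G} (hx : x ∈ X) (hz : z ∈ Z) (hx1 : x ≠ 1)
    (hz1 : z ≠ 1) {U : Subgroup G} (hU : U ∈ K) (hUT : Comm U (Subgroup.zpowers (x * z)))
    (hUX : ¬ Comm U X) : ∀ Y' ∈ K, Comm Y' U → Comm (Subgroup.zpowers (x * z)) Y' := by
  obtain ⟨hTK, hTL, hTX, hTZ⟩ := S.point_mul hX hZ hXZ hc hx hz hx1 hz1
  have hUZ : ¬ Comm U Z := by
    intro h
    have := S.all_of_two hX hZ hXZ hc hTK hZ hTZ hTL le_sup_right hUT h
    exact hUX (this.mono_right le_sup_left)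
  have hxz : x * z = z * x := hc x hx z hz
  have hU'eq : cj x U = cj z⁻¹ U := by
    have h1 : cj (x * z) U = U := cj_eq_of_comm (Subgroup.mem_zpowers _) hUT.symm
    rw [hxz, cj_mul] at h1
    have h2 := congrArg (cj z⁻¹) h1
    rw [cj_inv_cj] at h2
    exact h2
  have hXU : ¬ Comm X U := fun h => hUX h.symm
  have hU'ne : U ≠ cj x U := by
    intro h
    exact hXU (comm_of_cj_eq S.hp (S.card X hX) (S.card U hU) hx hx1 h.symm)
  have hU'K : cj x U ∈ K := S.conj U hU x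
  have hUU' : ¬ Comm U (cj x U) := fun h => S.lemmaA hno hX hU hXU hx hU'ne h
  -- Step (i)
  have step1 : ∀ Y ∈ K, Comm Y X → Comm Y U → Comm Y Z := by
    intro Y hY hYX hYU
    by_contra hYZ
    have hYUne : Y ≠ U := by
      rintro rfl
      exact hUX hYX
    obtain ⟨Z₀, hZ₀K, hZ₀L, hZ₀Z⟩ := S.meet Y hY U hU hYUne hYU Z hZ
    have hL := S.line hY hU hYUne hYU
    have hZ₀Y : Z₀ ≠ Y := by
      rintro rfl
      exact hYZ hZ₀Z
    have hYU' : Comm Y (cj x U) := by
      have := hYU.cj x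
      rwa [cj_eq_of_comm hx hYX.symm] at this
    have hZ₀U' : Comm Z₀ (cj x U) := by
      have h0 : Comm Z₀ U := hL.comm_of_le hZ₀L le_sup_right
      have := h0.cj z⁻¹
      rw [cj_eq_of_comm (Z.inv_mem hz) hZ₀Z.symm] at this
      rwa [hU'eq]
    have := S.all_of_two hY hU hYUne hYU hY hZ₀K (Ne.symm hZ₀Y) le_sup_left hZ₀L
      hYU'.symm hZ₀U'.symm
    exact hUU' (this.mono_right le_sup_right).symm
  -- Step (ii)
  intro Y' hY' hY'U
  by_cases hY'eq : Y' = U
  · rw [hY'eq]; exact hUT.symm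
  have hne : U ≠ Y' := Ne.symm hY'eq
  obtain ⟨Y₀, hY₀K, hY₀L, hY₀X⟩ := S.meet U hU Y' hY' hne hY'U.symm X hX
  have hL := S.line hU hY' hne hY'U.symm
  have hY₀U : Y₀ ≠ U := by
    rintro rfl
    exact hUX hY₀X
  have hY₀cU : Comm Y₀ U := hL.comm_of_le hY₀L le_sup_left
  have hY₀Z : Comm Y₀ Z := step1 Y₀ hY₀K hY₀X hY₀cU
  have hY₀T : Comm Y₀ (Subgroup.zpowers (x * z)) := (hY₀X.sup_right hY₀Z).mono_right hTL
  have := S.all_of_two hU hY' hne hY'U.symm hU hY₀K (Ne.symm hY₀U) le_sup_left hY₀L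
    hUT.symm hY₀T.symm
  exact this.mono_right le_sup_right

/-- Lemma B -/
theorem Setup.lemmaB (S : Setup p K) (hno : ¬ ∃ V, IsRad K V) {X Z : Subgroup G} (hX : X ∈ K)
    (hZ : Z ∈ K) (hXZ : X ≠ Z) (hc : Comm X Z) {x z : G} (hx : x ∈ X) (hz : z ∈ Z) (hx1 : x ≠ 1)
    (hz1 : z ≠ 1) {U : Subgroup G} (hU : U ∈ K) (hUT : Comm U (Subgroup.zpowers (x * z))) :
    Comm U X := by
  by_contra hUX
  obtain ⟨hTK, hTL, hTX, hTZ⟩ := S.point_mul hX hZ hXZ hc hx hz hx1 hz1
  apply hno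
  refine ⟨Subgroup.zpowers (x * z), hTK, ?_⟩
  intro Q hQ
  have hL0 := S.line hX hZ hXZ hc
  have hTX' : Comm (Subgroup.zpowers (x * z)) X := hL0.comm_of_le hTL le_sup_left
  have hTU : Subgroup.zpowers (x * z) ≠ U := by
    intro h
    rw [← h] at hUX
    exact hUX hTX'
  obtain ⟨Us, hUsK, hUsL, hUsQ⟩ := S.meet _ hTK U hU hTU hUT.symm Q hQ
  have hL := S.line hTK hU hTU hUT.symm
  by_cases hUsT : Us = Subgroup.zpowers (x * z)
  · rw [← hUsT]; exact hUsQ
  have hUsT' : Comm Us (Subgroup.zpowers (x * z)) := hL.comm_of_le hUsL le_sup_left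
  have hUsX : ¬ Comm Us X := by
    intro h
    have := S.all_of_two hTK hU hTU hUT.symm hTK hUsK (Ne.symm hUsT) le_sup_left hUsL
      hTX'.symm h.symm
    exact hUX (this.mono_right le_sup_right).symm
  exact S.claimC hno hX hZ hXZ hc hx hz hx1 hz1 hUsK hUsT' hUsX Q hQ hUsQ.symm

/-- a radical point exists -/
theorem Setup.exists_rad (S : Setup p K) (hex : ∃ X ∈ K, ∃ Y ∈ K, X ≠ Y ∧ Comm X Y) :
    ∃ V, IsRad K V := by
  by_contra hno
  obtain ⟨X₀, hX₀, Z₀, hZ₀, hne, hc⟩ := hex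
  have hL := S.line hX₀ hZ₀ hne hc
  have claimD : ∀ P ∈ K, P ≤ X₀ ⊔ Z₀ → ∀ U ∈ K, Comm U P → Comm U (X₀ ⊔ Z₀) := by
    intro P hP hPL U hU hUP
    obtain ⟨A, hAK, hAL, hAP⟩ : ∃ A ∈ K, A ≤ X₀ ⊔ Z₀ ∧ A ≠ P := by
      by_cases h : X₀ = P
      · exact ⟨Z₀, hZ₀, le_sup_right, fun h' => hne (h.trans h'.symm)⟩
      · exact ⟨X₀, hX₀, le_sup_left, h⟩
    obtain ⟨a, ha, ha1⟩ := exists_ne_one_of_card_prime S.hp (S.card A hAK)
    obtain ⟨g, hg, hg1⟩ := exists_ne_one_of_card_prime S.hp (S.card P hP)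
    have hdis := disjoint_of_card_prime S.hp (S.card A hAK) (S.card P hP) hAP
    obtain ⟨b, hb⟩ : ∃ b, b = a⁻¹ * g := ⟨_, rfl⟩
    have hab : a * b = g := by rw [hb]; group
    have hbL : b ∈ X₀ ⊔ Z₀ := by
      rw [hb]; exact Subgroup.mul_mem _ (Subgroup.inv_mem _ (hAL ha)) (hPL hg)
    have hb1 : b ≠ 1 := by
      intro h
      rw [h, mul_one] at hab
      have : a ∈ A ⊓ P := ⟨ha, by rw [hab]; exact hg⟩
      rw [hdis, Subgroup.mem_bot] at this
      exact ha1 this
    have hBcard := hL.card_zpowers S.hp hbL hb1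
    have hBL : Subgroup.zpowers b ≤ X₀ ⊔ Z₀ := by rw [Subgroup.zpowers_le]; exact hbL
    have hBK : Subgroup.zpowers b ∈ K := S.mem_of_le X₀ hX₀ Z₀ hZ₀ hne hc _ hBL hBcard
    have hAB : A ≠ Subgroup.zpowers b := by
      intro h
      have hbA : b ∈ A := by rw [h]; exact Subgroup.mem_zpowers b
      have hgA : g ∈ A := by
        rw [← hab]; exact A.mul_mem ha hbA
      have : g ∈ A ⊓ P := ⟨hgA, hg⟩
      rw [hdis, Subgroup.mem_bot] at this
      exact hg1 this
    have hcAB : Comm A (Subgroup.zpowers b) := hL.comm_of_le hAL hBL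
    have hPz : P = Subgroup.zpowers (a * b) := by
      rw [hab]; exact eq_zpowers_of_card_prime S.hp (S.card P hP) hg hg1
    have hba : b * a = a * b := (hcAB a ha b (Subgroup.mem_zpowers b)).symm
    have hUP1 : Comm U (Subgroup.zpowers (a * b)) := by rw [← hPz]; exact hUP
    have hUA : Comm U A :=
      S.lemmaB hno hAK hBK hAB hcAB ha (Subgroup.mem_zpowers b) ha1 hb1 hU hUP1
    have hUP2 : Comm U (Subgroup.zpowers (b * a)) := by rw [hba]; exact hUP1
    have hUB : Comm U (Subgroup.zpowers b) :=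
      S.lemmaB hno hBK hAK (Ne.symm hAB) hcAB.symm (Subgroup.mem_zpowers b) ha hb1 ha1 hU hUP2
    exact S.all_of_two hX₀ hZ₀ hne hc hAK hBK hAB hAL hBL hUA hUB
  have hnr : ¬ IsRad K X₀ := fun h => hno ⟨X₀, h⟩
  have hQ : ∃ Q ∈ K, ¬ Comm X₀ Q := by
    by_contra hcon
    push Not at hcon
    exact hnr ⟨hX₀, hcon⟩
  obtain ⟨Q, hQ, hXQ⟩ := hQ
  obtain ⟨P, hPK, hPL, hPQ⟩ := S.meet X₀ hX₀ Z₀ hZ₀ hne hc Q hQ
  have := claimD P hPK hPL Q hQ hPQ.symm
  exact hXQ (this.mono_right le_sup_left).symm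

end setup

/-- Let p be a prime and K a set of subgroups of order p of a finite group G, closed under conjugation, such that at least two distinct members of K commute elementwise, and whenever two distinct members X, Y of K commute: every subgroup of order p of the group XY they generate belongs to K, and every member W of K has centralizer meeting XY nontrivially. Then some member V of K commutes elementwise with every member of K and lies in O_p(G); in particular G is not simple. -/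
theorem result {G : Type*} [Group G] [Finite G]
    {p : ℕ} (hp : p.Prime) (K : Set (Subgroup G)) (hK : ∀ X ∈ K, Nat.card ↥X = p)
    (hKc : ∀ X ∈ K, ∀ g : G, X.map (MulAut.conj g).toMonoidHom ∈ K)
    (hex : ∃ X ∈ K, ∃ Y ∈ K, X ≠ Y ∧ ∀ x ∈ X, ∀ y ∈ Y, x * y = y * x)
    (ha : ∀ X ∈ K, ∀ Y ∈ K, X ≠ Y → (∀ x ∈ X, ∀ y ∈ Y, x * y = y * x) →
      ∀ Z : Subgroup G, Z ≤ X ⊔ Y → Nat.card ↥Z = p → Z ∈ K)
    (hb : ∀ X ∈ K, ∀ Y ∈ K, X ≠ Y → (∀ x ∈ X, ∀ y ∈ Y, x * y = y * x) →
      ∀ W ∈ K, (X ⊔ Y) ⊓ Subgroup.centralizer (W : Set G) ≠ ⊥) :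
    (∃ V ∈ K, (∀ W ∈ K, ∀ v ∈ V, ∀ w ∈ W, v * w = w * v) ∧ V ≤ Cfsg.pCore p G) ∧ ¬ IsSimpleGroup G := by
  have S : Setup p K :=
    { hp := hp
      card := hK
      conj := fun X hX g => hKc X hX g
      mem_of_le := ha
      meet := by
        intro X hX Y hY hne hc W hW
        have hbot := hb X hX Y hY hne hc W hW
        obtain ⟨e, he1⟩ := (Subgroup.ne_bot_iff_exists_ne_one).mp hbot
        have he' : (e : G) ≠ 1 := fun h => he1 (Subtype.ext h)
        have hL := isLine_sup hp (hK X hX) (hK Y hY) hne hc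
        refine ⟨Subgroup.zpowers (e : G), ?_, ?_, ?_⟩
        · apply ha X hX Y hY hne hc
          · rw [Subgroup.zpowers_le]; exact e.2.1
          · exact hL.card_zpowers hp e.2.1 he'
        · rw [Subgroup.zpowers_le]; exact e.2.1
        · apply Comm.symm
          rw [comm_iff_le_centralizer, Subgroup.zpowers_le]
          exact e.2.2 }
  obtain ⟨V, hVK, hVrad⟩ := S.exists_rad hex
  have hrad : ∀ g : G, ∀ W ∈ K, Comm (cj g V) W := by
    intro g W hW
    have h1 := (hVrad _ (S.conj W hW g⁻¹)).cj g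
    rwa [cj_cj_inv] at h1
  have hmemS : ∀ s ∈ Group.conjugatesOfSet (V : Set G), ∃ g : G, s ∈ cj g V := by
    intro s hs
    rw [Group.mem_conjugatesOfSet_iff] at hs
    obtain ⟨b, hb', hconj⟩ := hs
    rw [isConj_iff] at hconj
    obtain ⟨c, rfl⟩ := hconj
    exact ⟨c, conj_mem_cj hb'⟩
  have hScomm : ∀ s ∈ Group.conjugatesOfSet (V : Set G),
      ∀ t ∈ Group.conjugatesOfSet (V : Set G), s * t = t * s := by
    intro s hs t ht
    obtain ⟨g, hg⟩ := hmemS s hs
    obtain ⟨g', hg'⟩ := hmemS t ht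
    exact hrad g _ (S.conj V hVK g') s hg t hg'
  have hSpow : ∀ s ∈ Group.conjugatesOfSet (V : Set G), s ^ p = 1 := by
    intro s hs
    obtain ⟨g, hg⟩ := hmemS s hs
    exact pow_eq_one_of_mem hp (by rw [card_cj]; exact hK V hVK) hg
  obtain ⟨N₀, hN₀⟩ : ∃ N : Subgroup G, N = Subgroup.closure (Group.conjugatesOfSet (V : Set G)) :=
    ⟨_, rfl⟩
  have hNnormal : N₀.Normal := by
    rw [hN₀]; exact Subgroup.normalClosure_normal
  have hVN : V ≤ N₀ := by
    rw [hN₀]; exact Subgroup.le_normalClosure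
  have h1 : N₀ ≤ Subgroup.centralizer (Group.conjugatesOfSet (V : Set G)) := by
    rw [hN₀, Subgroup.closure_le]
    intro s hs
    rw [SetLike.mem_coe, Subgroup.mem_centralizer_iff]
    intro t ht
    exact hScomm t ht s hs
  have h3 : N₀ ≤ Subgroup.centralizer (N₀ : Set G) := by
    conv_lhs => rw [hN₀]
    rw [Subgroup.closure_le]
    intro s hs
    rw [SetLike.mem_coe, Subgroup.mem_centralizer_iff]
    intro a ha'
    have := Subgroup.mem_centralizer_iff.mp (h1 ha') s hs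
    exact this.symm
  have hNcomm : ∀ a ∈ N₀, ∀ b ∈ N₀, a * b = b * a := by
    intro a ha' b hb'
    exact Subgroup.mem_centralizer_iff.mp (h3 hb') a ha'
  have hNpow : ∀ a ∈ N₀, a ^ p = 1 := by
    intro a ha'
    have hmem : ∀ y ∈ Subgroup.closure (Group.conjugatesOfSet (V : Set G)), y ^ p = 1 := by
      intro y hy
      induction hy using Subgroup.closure_induction with
      | mem x hx => exact hSpow x hx
      | one => exact one_pow p
      | mul x y hx hy ihx ihy =>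
        have hc : Commute x y := hNcomm x (by rw [hN₀]; exact hx) y (by rw [hN₀]; exact hy)
        rw [hc.mul_pow, ihx, ihy, one_mul]
      | inv x hx ih => rw [inv_pow, ih, inv_one]
    exact hmem a (by rw [← hN₀]; exact ha')
  have hNp : IsPGroup p ↥N₀ := by
    intro g
    refine ⟨1, ?_⟩
    rw [pow_one]
    apply Subtype.ext
    rw [Subgroup.coe_pow, Subgroup.coe_one]
    exact hNpow g g.2
  have hNcore : N₀ ≤ Cfsg.pCore p G := le_sSup ⟨hNnormal, hNp⟩
  refine ⟨⟨V, hVK, hVrad, hVN.trans hNcore⟩, ?_⟩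
  intro hsimple
  haveI := hsimple
  rcases hNnormal.eq_bot_or_eq_top with h | h
  · obtain ⟨v, hv, hv1⟩ := exists_ne_one_of_card_prime hp (hK V hVK)
    have : v ∈ N₀ := hVN hv
    rw [h, Subgroup.mem_bot] at this
    exact hv1 this
  · have hcomm : ∀ a b : G, a * b = b * a := fun a b =>
      hNcomm a (by rw [h]; trivial) b (by rw [h]; trivial)
    obtain ⟨X, hX, Y, hY, hne, _⟩ := hex
    have key : ∀ X ∈ K, X = ⊤ := by
      intro X hX
      have hXn : X.Normal := ⟨fun n hn g => by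
        rw [hcomm g n, mul_inv_cancel_right]; exact hn⟩
      rcases hXn.eq_bot_or_eq_top with h' | h'
      · exfalso
        have := hK X hX
        rw [h', Subgroup.card_bot] at this
        exact hp.one_lt.ne this
      · exact h'
    exact hne ((key X hX).trans (key Y hY).symm)

end Cfsg.Agent.S3196
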