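import Cfsg.Statements.S3200
import Cfsg.Agent.S3824
import Cfsg.Agent.Lib.Helper1_Hall

set_option autoImplicit false
open Cfsg

namespace Cfsg.Agent.S3200

universe u

/-- Subgroups of a group with a Sylow `2`-subgroup having an abelian complement. -/
theorem sub_part {H : Type u} [Group H] [Finite H] [Group.IsSolvable H]
    (C : Subgroup H) (hCcomm : ∀ a ∈ C, ∀ b ∈ C, a * b = b * a) (s : ℕ)
    (hcard : Nat.card H = Nat.card C * 2 ^ s) (hodd : (Nat.card C).Coprime (2 ^ s))
    (L : Subgroup H) :
    ∃ (P : Sylow 2 ↥L) (D : Subgroup ↥L), IsMulCommutative ↥D ∧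
      Subgroup.IsComplement' (P : Subgroup ↥L) D := by
  have : Fact (Nat.Prime 2) := ⟨Nat.prime_two⟩
  obtain ⟨P⟩ : Nonempty (Sylow 2 ↥L) := inferInstance
  have hPcard : Nat.card P = 2 ^ (Nat.card L).factorization 2 := P.card_eq_multiplicity
  set e := (Nat.card L).factorization 2 with he
  have hLpos : Nat.card L ≠ 0 := Nat.card_pos.ne'
  set m := Nat.card L / 2 ^ e with hm
  have hLm : Nat.card L = m * 2 ^ e := by
    rw [hm, he]
    exact (Nat.div_mul_cancel (Nat.ordProj_dvd _ _)).symm
  have hmcop : m.Coprime (2 ^ e) := by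
    rw [hm, he]
    exact (Nat.coprime_ordCompl Nat.prime_two hLpos).symm.pow_right _
  have hLsolv : Group.IsSolvable L := inferInstance
  obtain ⟨D, hD⟩ := Cfsg.Agent.Lib.Helper1_Hall.hall_exists (G := L) m (2 ^ e) hLm hmcop
  refine ⟨P, D, ?_, ?_⟩
  · -- `D` is abelian: it lies in a conjugate of `C`
    have hD'card : Nat.card (D.map L.subtype) = m := by
      rw [Subgroup.card_map_of_injective L.subtype_injective, hD]
    have hD'cop : (Nat.card (D.map L.subtype)).Coprime (2 ^ s) := by
      rw [hD'card]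
      have h2 : m.Coprime 2 := by
        rcases Nat.eq_zero_or_pos e with h0 | h0
        · -- `e = 0`: `card L` is odd
          have hnd : ¬ 2 ∣ Nat.card L := by
            intro hd
            have := (Nat.Prime.factorization_pos_of_dvd Nat.prime_two hLpos hd)
            omega
          have : m = Nat.card L := by rw [hLm, h0, pow_zero, mul_one]
          rw [this]
          exact (Nat.Prime.coprime_iff_not_dvd Nat.prime_two).mpr hnd |>.symm
        · exact Nat.Coprime.coprime_dvd_right (dvd_pow_self 2 h0.ne') hmcop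
      exact h2.pow_right s
    obtain ⟨H₀, hH₀card, hDH₀⟩ := Cfsg.Agent.Lib.Helper1_Hall.hall_dominance (G := H)
      (Nat.card C) (2 ^ s) hcard hodd (D.map L.subtype) hD'cop
    obtain ⟨g, hg⟩ := Cfsg.Agent.Lib.Helper1_Hall.hall_conj (G := H) (Nat.card C) (2 ^ s) hcard hodd
      C H₀ rfl hH₀card
    have hH₀comm : ∀ a ∈ H₀, ∀ b ∈ H₀, a * b = b * a := by
      intro a ha b hb
      rw [← hg] at ha hb
      obtain ⟨a', ha', rfl⟩ := ha
      obtain ⟨b', hb', rfl⟩ := hb
      have := hCcomm a' ha' b' hb'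
      simp only [MulDistribMulAction.toMonoidEnd_apply, MulDistribMulAction.toMonoidHom_apply]
      rw [← smul_mul', ← smul_mul', this]
    refine ⟨⟨fun a b => ?_⟩⟩
    apply Subtype.ext
    apply Subtype.ext
    have ha : ((a : L) : H) ∈ D.map L.subtype := ⟨a, a.2, rfl⟩
    have hb : ((b : L) : H) ∈ D.map L.subtype := ⟨b, b.2, rfl⟩
    exact hH₀comm _ (hDH₀ ha) _ (hDH₀ hb)
  · apply Subgroup.isComplement'_of_coprime
    · rw [hPcard, hD, hLm, mul_comm]
    · rw [hPcard, hD]
      exact hmcop.symm

/-- Let H be a finite group in which a Sylow 2-subgroup has an abelian complement (an abelian subgroup meeting it trivially whose product with it is all of H). Then H is solvable, and every subgroup and every quotient group of H again has a Sylow 2-subgroup with an abelian complement. -/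
theorem result {H : Type*} [Group H] [Finite H]
    (S : Sylow 2 H) (C : Subgroup H) (hC : IsMulCommutative ↥C) (hSC : Subgroup.IsComplement' (S : Subgroup H) C) :
    Group.IsSolvable H ∧
    (∀ L : Subgroup H, ∃ (P : Sylow 2 ↥L) (D : Subgroup ↥L), IsMulCommutative ↥D ∧ Subgroup.IsComplement' (P : Subgroup ↥L) D) ∧
    (∀ (N : Subgroup H) [N.Normal], ∃ (P : Sylow 2 (H ⧸ N)) (D : Subgroup (H ⧸ N)),
      IsMulCommutative ↥D ∧ Subgroup.IsComplement' (P : Subgroup (H ⧸ N)) D) := by
  have : Fact (Nat.Prime 2) := ⟨Nat.prime_two⟩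
  have hcm : Nat.card (S : Subgroup H) * Nat.card C = Nat.card H := hSC.card_mul_card
  have hScard : Nat.card (S : Subgroup H) = 2 ^ (Nat.card H).factorization 2 := S.card_eq_multiplicity
  set s := (Nat.card H).factorization 2 with hs
  have hcard : Nat.card H = Nat.card C * 2 ^ s := by rw [← hcm, hScard, mul_comm]
  have hHpos : Nat.card H ≠ 0 := Nat.card_pos.ne'
  have hCeq : Nat.card C = Nat.card H / 2 ^ s := by
    rw [hcard]
    exact (Nat.mul_div_cancel _ (pow_pos (by norm_num) s)).symm
  have hodd2 : (Nat.card C).Coprime 2 := by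
    rw [hCeq, hs]
    exact (Nat.coprime_ordCompl Nat.prime_two hHpos).symm
  have hodd : (Nat.card C).Coprime (2 ^ s) := hodd2.pow_right s
  have hCcomm : ∀ a ∈ C, ∀ b ∈ C, a * b = b * a := by
    intro a ha b hb
    exact congrArg Subtype.val (hC.is_comm.comm ⟨a, ha⟩ ⟨b, hb⟩)
  have hidx : C.index = 2 ^ s := by
    have h1 : Nat.card C * C.index = Nat.card H := Subgroup.card_mul_index C
    rw [hcard] at h1
    exact Nat.eq_of_mul_eq_mul_left Nat.card_pos h1
  have hsolv : Group.IsSolvable H := Cfsg.Agent.S3824.result C hC ⟨s, hidx⟩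
  refine ⟨hsolv, fun L => sub_part C hCcomm s hcard hodd L, ?_⟩
  intro N _
  set π := QuotientGroup.mk' N with hπ
  have hπs : Function.Surjective π := QuotientGroup.mk'_surjective N
  have hS' : IsPGroup 2 ((S : Subgroup H).map π) := S.2.map π
  have hSidx : ¬ 2 ∣ ((S : Subgroup H).map π).index := by
    intro h
    exact S.not_dvd_index (h.trans (Subgroup.index_map_dvd (S : Subgroup H) hπs))
  refine ⟨hS'.toSylow hSidx, C.map π, inferInstance, ?_⟩
  rw [IsPGroup.toSylow_coe]
  apply Subgroup.isComplement'_of_disjoint_and_mul_eq_univ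
  · apply Subgroup.disjoint_of_coprime_natCard
    have h1 : Nat.card ((S : Subgroup H).map π) ∣ 2 ^ s := by
      rw [← hScard]; exact Subgroup.card_map_dvd _ π
    have h2 : Nat.card (C.map π) ∣ Nat.card C := Subgroup.card_map_dvd _ π
    exact Nat.Coprime.of_dvd h1 h2 hodd.symm
  · rw [Set.eq_univ_iff_forall]
    intro x
    obtain ⟨h, rfl⟩ := hπs x
    obtain ⟨⟨a, b⟩, hab⟩ := hSC.2 h
    refine ⟨π a, ⟨a, a.2, rfl⟩, π b, ⟨b, b.2, rfl⟩, ?_⟩
    show π a * π b = π h
    rw [← map_mul]
    exact congrArg π hab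

end Cfsg.Agent.S3200
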