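import Mathlib
import Cfsg.Statements.S3201
import Cfsg.Agent.Lib.Helper50_UniqueInv2
import Cfsg.Agent.Lib.Helper1_Frattini

set_option autoImplicit false
open Cfsg

namespace Cfsg.Agent.S3201

open Cfsg.Agent.Lib.Helper50_UniqueInv Cfsg.Agent.Lib.Helper50_UniqueInv2

theorem uniqueInvolution_of_existsUnique {P : Type*} [Group P] (h : ∃! x : P, orderOf x = 2) :
    UniqueInvolution P := by
  intro u v hu hv hu1 hv1
  have hou : orderOf u = 2 := orderOf_eq_prime hu hu1
  have hov : orderOf v = 2 := orderOf_eq_prime hv hv1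
  exact h.unique hou hov

section

variable {S : Type*} [Group S] [Finite S]

/-- a coatom of the centre of a `2`-group has index 2 in the centre -/
theorem index_coatom (hS : IsPGroup 2 S) {D : Subgroup ↥(Subgroup.center S)} (hD : IsCoatom D) :
    D.index = 2 :=
  Cfsg.Agent.Lib.Helper1_Frattini.index_of_isCoatom_of_isPGroup (hS.to_subgroup _) hD

/-- if coatoms of the centre intersect trivially, the centre is elementary abelian -/
theorem center_sq (hS : IsPGroup 2 S) {n : ℕ} (C : Fin n → Subgroup ↥(Subgroup.center S))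
    (hCmax : ∀ i, IsCoatom (C i)) (hCint : ⨅ i, C i = ⊥) (z : ↥(Subgroup.center S)) :
    z ^ 2 = 1 := by
  have : z ^ 2 ∈ ⨅ i, C i := by
    rw [Subgroup.mem_iInf]
    intro i
    exact Subgroup.sq_mem_of_index_two (index_coatom hS (hCmax i)) z
  rwa [hCint, Subgroup.mem_bot] at this

/-- at most one element of the centre lies outside all the coatoms -/
theorem uniq_out (hS : IsPGroup 2 S) {n : ℕ} (C : Fin n → Subgroup ↥(Subgroup.center S))
    (hCmax : ∀ i, IsCoatom (C i)) (hCint : ⨅ i, C i = ⊥) {u v : ↥(Subgroup.center S)}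
    (hu : ∀ i, u ∉ C i) (hv : ∀ i, v ∉ C i) : u = v := by
  have : u * v ∈ ⨅ i, C i := by
    rw [Subgroup.mem_iInf]
    intro i
    rw [Subgroup.mul_mem_iff_of_index_two (index_coatom hS (hCmax i))]
    exact ⟨fun h => absurd h (hu i), fun h => absurd h (hv i)⟩
  rw [hCint, Subgroup.mem_bot] at this
  have hv2 := center_sq hS C hCmax hCint v
  rw [pow_two] at hv2
  calc u = u * (v * v) := by rw [hv2, mul_one]
    _ = (u * v) * v := by rw [mul_assoc]
    _ = v := by rw [this, one_mul]

theorem mem_map_iff {D : Subgroup ↥(Subgroup.center S)} (z : ↥(Subgroup.center S)) :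
    (z : S) ∈ D.map (Subgroup.center S).subtype ↔ z ∈ D :=
  Subgroup.mem_map_iff_mem (Subgroup.subtype_injective _)

theorem map_le_center (D : Subgroup ↥(Subgroup.center S)) :
    D.map (Subgroup.center S).subtype ≤ Subgroup.center S :=
  Subgroup.map_subtype_le D

/-- an element whose image in the quotient squares to `1` is central -/
theorem mem_center_of_sq
    (D : Subgroup ↥(Subgroup.center S)) (hD : IsCoatom D)
    (hsq : ∀ z : ↥(Subgroup.center S), z ^ 2 = 1)
    [hN : (D.map (Subgroup.center S).subtype).Normal]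
    (huniq : ∃! x : S ⧸ D.map (Subgroup.center S).subtype, orderOf x = 2)
    (t : S) (ht : (QuotientGroup.mk t : S ⧸ D.map (Subgroup.center S).subtype) ^ 2 = 1) :
    t ∈ Subgroup.center S := by
  obtain ⟨z, -, hz⟩ := SetLike.exists_of_lt (lt_of_le_of_ne le_top hD.1)
  have hz1 : (QuotientGroup.mk (z : S) : S ⧸ D.map (Subgroup.center S).subtype) ≠ 1 := by
    intro h
    rw [QuotientGroup.eq_one_iff, mem_map_iff] at h
    exact hz h
  have hz2 : (QuotientGroup.mk (z : S) : S ⧸ D.map (Subgroup.center S).subtype) ^ 2 = 1 := by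
    rw [← QuotientGroup.mk_pow]
    have := congrArg Subtype.val (hsq z)
    rw [Subgroup.coe_pow, Subgroup.coe_one] at this
    rw [this]; rfl
  have hoz : orderOf (QuotientGroup.mk (z : S) : S ⧸ D.map (Subgroup.center S).subtype) = 2 :=
    orderOf_eq_prime hz2 hz1
  by_cases ht1 : (QuotientGroup.mk t : S ⧸ D.map (Subgroup.center S).subtype) = 1
  · rw [QuotientGroup.eq_one_iff] at ht1
    exact map_le_center D ht1
  · have hot : orderOf (QuotientGroup.mk t : S ⧸ D.map (Subgroup.center S).subtype) = 2 :=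
      orderOf_eq_prime ht ht1
    have heq := huniq.unique hoz hot
    rw [QuotientGroup.eq] at heq
    have h1 : (z : S)⁻¹ * t ∈ Subgroup.center S := map_le_center D heq
    have h2 := (Subgroup.center S).mul_mem z.2 h1
    rwa [mul_inv_cancel_left] at h2

/-- an element whose image in some quotient has order 4 squares to a central element outside
all `C j` -/
theorem sq_of_order_four (hS : IsPGroup 2 S) {n : ℕ} (C : Fin n → Subgroup ↥(Subgroup.center S))
    (hCmax : ∀ i, IsCoatom (C i)) (hCint : ⨅ i, C i = ⊥)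
    (hCq : ∀ i, ∃ (_ : ((C i).map (Subgroup.center S).subtype).Normal),
      ¬ IsMulCommutative (S ⧸ (C i).map (Subgroup.center S).subtype) ∧
      ∃! x : S ⧸ (C i).map (Subgroup.center S).subtype, orderOf x = 2)
    (i : Fin n) [hN : ((C i).map (Subgroup.center S).subtype).Normal] (s : S)
    (hs : orderOf (QuotientGroup.mk s : S ⧸ (C i).map (Subgroup.center S).subtype) = 4) :
    ∃ h : s ^ 2 ∈ Subgroup.center S, ∀ j, (⟨s ^ 2, h⟩ : ↥(Subgroup.center S)) ∉ C j := by
  have hsq := center_sq hS C hCmax hCint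
  have hsZ : s ∉ Subgroup.center S := by
    intro h
    have h1 : (⟨s, h⟩ : ↥(Subgroup.center S)) ^ 2 = 1 := hsq _
    have h2 : s ^ 2 = 1 := congrArg Subtype.val h1
    have h3 : (QuotientGroup.mk s : S ⧸ (C i).map (Subgroup.center S).subtype) ^ 2 = 1 := by
      rw [← QuotientGroup.mk_pow, h2]; rfl
    have := orderOf_dvd_of_pow_eq_one h3
    rw [hs] at this
    exact absurd this (by norm_num)
  obtain ⟨_, _, huniq_i⟩ := hCq i
  have h4 : (QuotientGroup.mk (s ^ 2) : S ⧸ (C i).map (Subgroup.center S).subtype) ^ 2 = 1 := by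
    rw [QuotientGroup.mk_pow, ← pow_mul]
    have h5 : (QuotientGroup.mk s : S ⧸ (C i).map (Subgroup.center S).subtype) ^ 4 = 1 := by
      rw [← hs]; exact pow_orderOf_eq_one _
    exact h5
  have hs2 : s ^ 2 ∈ Subgroup.center S := mem_center_of_sq (C i) (hCmax i) hsq huniq_i _ h4
  refine ⟨hs2, ?_⟩
  intro j hj
  obtain ⟨hNj, _, huniq_j⟩ := hCq j
  apply hsZ
  apply mem_center_of_sq (C j) (hCmax j) hsq huniq_j s
  rw [← QuotientGroup.mk_pow, QuotientGroup.eq_one_iff]
  exact (mem_map_iff (D := C j) ⟨s ^ 2, hs2⟩).mpr hj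

/-- A central-type extension of a generalized quaternion group in which all lifts of elements of
order 4 have the same square (of order ≤ 2) splits. -/
theorem split_of_sq (hS : IsPGroup 2 S) (N : Subgroup S) [N.Normal]
    (hnc : ¬ IsMulCommutative (S ⧸ N)) (huniq : ∃! x : S ⧸ N, orderOf x = 2)
    (hsq : ∀ s t : S, orderOf (QuotientGroup.mk s : S ⧸ N) = 4 →
      orderOf (QuotientGroup.mk t : S ⧸ N) = 4 → s ^ 2 = t ^ 2)
    (hsq2 : ∀ s : S, orderOf (QuotientGroup.mk s : S ⧸ N) = 4 → s ^ 4 = 1) :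
    ∃ Q : Subgroup S, N ⊓ Q = ⊥ ∧ N ⊔ Q = ⊤ ∧ ¬ IsMulCommutative ↥Q ∧
      ∃! x : ↥Q, orderOf x = 2 := by
  have hP2 : IsPGroup 2 (S ⧸ N) := hS.to_quotient N
  have hui : UniqueInvolution (S ⧸ N) := uniqueInvolution_of_existsUnique huniq
  rcases isCyclic_or_quaternion hP2 hui with hcyc | ⟨k, hk, ⟨e⟩⟩
  · exfalso; exact hnc IsCyclic.isMulCommutative
  obtain ⟨m, hm⟩ : ∃ m, m = 2 ^ k := ⟨_, rfl⟩
  rw [← hm] at e
  have h2m : 2 * m = 4 * 2 ^ (k - 1) := by
    obtain ⟨k', rfl⟩ : ∃ k', k = k' + 1 := ⟨k - 1, by omega⟩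
    rw [hm, Nat.add_sub_cancel, pow_succ]; ring
  have hmh : m = 2 ^ (k - 1) * 2 := by omega
  have hm2 : 2 ≤ m := by
    have : 0 < 2 ^ (k - 1) := by positivity
    omega
  haveI : NeZero m := ⟨by omega⟩
  obtain ⟨a, ha⟩ := QuotientGroup.mk_surjective (s := N) (e.symm (QuaternionGroup.a 1))
  obtain ⟨x, hx⟩ := QuotientGroup.mk_surjective (s := N) (e.symm (QuaternionGroup.xa 0))
  have ho_x : orderOf (QuotientGroup.mk x : S ⧸ N) = 4 := by
    rw [hx, MulEquiv.orderOf_eq, QuaternionGroup.orderOf_xa]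
  have ho_xa : orderOf (QuotientGroup.mk (x * a) : S ⧸ N) = 4 := by
    rw [QuotientGroup.mk_mul, hx, ha, ← map_mul, MulEquiv.orderOf_eq, QuaternionGroup.xa_mul_a,
      QuaternionGroup.orderOf_xa]
  have ho_ah : orderOf (QuotientGroup.mk (a ^ 2 ^ (k - 1)) : S ⧸ N) = 4 := by
    rw [QuotientGroup.mk_pow, ha, ← map_pow, MulEquiv.orderOf_eq]
    rw [orderOf_pow_of_dvd (by positivity)
      (by rw [QuaternionGroup.orderOf_a_one, h2m]; exact Dvd.intro_left 4 rfl),
      QuaternionGroup.orderOf_a_one, h2m]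
    exact Nat.mul_div_cancel _ (by positivity)
  -- relations
  have hx2 : x ^ 2 = a ^ m := by
    rw [hsq x _ ho_x ho_ah, ← pow_mul, ← hmh]
  have ha2m : a ^ (2 * m) = 1 := by
    rw [mul_comm, pow_mul, ← hx2, ← pow_mul]; exact hsq2 x ho_x
  have hxa : x * a * x⁻¹ = a⁻¹ := by
    have h1 := hsq (x * a) x ho_xa ho_x
    rw [pow_two, pow_two] at h1
    have h2 : a * x * a = x := by
      have : x * (a * x * a) = x * x := by rw [← h1]; group
      exact mul_left_cancel this
    calc x * a * x⁻¹ = a⁻¹ * (a * x * a) * x⁻¹ := by group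
      _ = a⁻¹ * x * x⁻¹ := by rw [h2]
      _ = a⁻¹ := by group
  let F : QuaternionGroup m →* S := MonoidHom.mk' (qmap m a ha2m x) (qmap_mul m a ha2m x hx2 hxa)
  have hF : ∀ q : QuaternionGroup m, (QuotientGroup.mk (F q) : S ⧸ N) = e.symm q := by
    intro q
    rcases q with i | i
    · show (QuotientGroup.mk (zpm m a ha2m i) : S ⧸ N) = _
      have h2 : zpm m a ha2m ((i.val : ℕ) : ZMod (2 * m)) = a ^ i.val := zpm_natCast m a ha2m i.val
      rw [ZMod.natCast_zmod_val] at h2
      rw [h2, QuotientGroup.mk_pow, ha, ← map_pow, QuaternionGroup.a_one_pow,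
        ZMod.natCast_zmod_val]
    · show (QuotientGroup.mk (x * zpm m a ha2m i) : S ⧸ N) = _
      have h2 : zpm m a ha2m ((i.val : ℕ) : ZMod (2 * m)) = a ^ i.val := zpm_natCast m a ha2m i.val
      rw [ZMod.natCast_zmod_val] at h2
      rw [h2, QuotientGroup.mk_mul, QuotientGroup.mk_pow, ha, hx, ← map_pow, ← map_mul,
        QuaternionGroup.a_one_pow, QuaternionGroup.xa_mul_a, ZMod.natCast_zmod_val, zero_add]
  have hFinj : Function.Injective F := by
    intro q q' h
    have := congrArg (fun s => (QuotientGroup.mk s : S ⧸ N)) h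
    simp only [hF] at this
    exact e.symm.injective this
  refine ⟨F.range, ?_, ?_, ?_, ?_⟩
  · rw [Subgroup.eq_bot_iff_forall]
    rintro s ⟨hsN, ⟨q, rfl⟩⟩
    have h1 : (QuotientGroup.mk (F q) : S ⧸ N) = 1 := (QuotientGroup.eq_one_iff _).mpr hsN
    rw [hF] at h1
    have : q = 1 := by
      have := congrArg e h1
      rwa [MulEquiv.apply_symm_apply, map_one] at this
    rw [this, map_one]
  · rw [eq_top_iff]
    intro s _
    have h1 : (QuotientGroup.mk (F (e (QuotientGroup.mk s))) : S ⧸ N) = QuotientGroup.mk s := by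
      rw [hF, MulEquiv.symm_apply_apply]
    rw [QuotientGroup.eq] at h1
    have h2 : s = (F (e (QuotientGroup.mk s))) * ((F (e (QuotientGroup.mk s)))⁻¹ * s) := by group
    rw [h2]
    exact Subgroup.mul_mem _ (Subgroup.mem_sup_right ⟨_, rfl⟩) (Subgroup.mem_sup_left h1)
  · intro hcomm
    apply hnc
    refine ⟨⟨fun u v => ?_⟩⟩
    have hu : u = QuotientGroup.mk (F (e u)) := by rw [hF, MulEquiv.symm_apply_apply]
    have hv : v = QuotientGroup.mk (F (e v)) := by rw [hF, MulEquiv.symm_apply_apply]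
    have h1 := hcomm.is_comm.comm (⟨F (e u), ⟨_, rfl⟩⟩ : ↥F.range) ⟨F (e v), ⟨_, rfl⟩⟩
    have h2 : F (e u) * F (e v) = F (e v) * F (e u) := congrArg Subtype.val h1
    rw [hu, hv, ← QuotientGroup.mk_mul, h2, QuotientGroup.mk_mul]
  · obtain ⟨x₀, hx₀, hx₀u⟩ := huniq
    refine ⟨⟨F (e x₀), ⟨_, rfl⟩⟩, ?_, ?_⟩
    · show orderOf (⟨F (e x₀), ⟨_, rfl⟩⟩ : ↥F.range) = 2
      rw [← Subgroup.orderOf_coe]
      show orderOf (F (e x₀)) = 2
      rw [orderOf_injective F hFinj, MulEquiv.orderOf_eq, hx₀]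
    · rintro ⟨_, ⟨q, rfl⟩⟩ hy
      have h1 : orderOf (F q) = 2 := by
        rw [← hy, ← Subgroup.orderOf_coe]
      rw [orderOf_injective F hFinj] at h1
      have h2 : orderOf (e.symm q) = 2 := by rw [MulEquiv.orderOf_eq, h1]
      have h3 := hx₀u _ h2
      have h4 : q = e x₀ := by rw [← h3, MulEquiv.apply_symm_apply]
      apply Subtype.ext
      show F q = F (e x₀)
      rw [h4]

end

/-- Let S be a finite 2-group whose centre Z(S) has n ≥ 2 distinct maximal subgroups C₁, …, Cₙ with trivial intersection such that each quotient S/Cᵢ is a non-abelian group with exactly one involution (a generalized quaternion group). Then S is the internal direct product of an elementary abelian subgroup and a non-abelian subgroup with exactly one involution. -/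
theorem result {S : Type*} [Group S] [Finite S]
    (hS : IsPGroup 2 S) (n : ℕ) (hn : 2 ≤ n) (C : Fin n → Subgroup ↥(Subgroup.center S))
    (hCmax : ∀ i, IsCoatom (C i)) (hCinj : Function.Injective C) (hCint : ⨅ i, C i = ⊥)
    (hCq : ∀ i, ∃ (_ : ((C i).map (Subgroup.center S).subtype).Normal),
      ¬ IsMulCommutative (S ⧸ (C i).map (Subgroup.center S).subtype) ∧
      ∃! x : S ⧸ (C i).map (Subgroup.center S).subtype, orderOf x = 2) :
    ∃ E Q : Subgroup S, Cfsg.IsInternalDirectProduct E Q ⊤ ∧ Cfsg.IsElementaryAbelian 2 E ∧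
      ¬ IsMulCommutative ↥Q ∧ ∃! x : ↥Q, orderOf x = 2 := by
  have hsq := center_sq hS C hCmax hCint
  obtain ⟨hN, hnc, huniq⟩ := hCq ⟨0, by omega⟩
  have key : ∀ s t : S,
      orderOf (QuotientGroup.mk s :
        S ⧸ (C ⟨0, by omega⟩).map (Subgroup.center S).subtype) = 4 →
      orderOf (QuotientGroup.mk t :
        S ⧸ (C ⟨0, by omega⟩).map (Subgroup.center S).subtype) = 4 → s ^ 2 = t ^ 2 := by
    intro s t hs ht
    obtain ⟨h1, h1'⟩ := sq_of_order_four hS C hCmax hCint hCq _ s hs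
    obtain ⟨h2, h2'⟩ := sq_of_order_four hS C hCmax hCint hCq _ t ht
    exact congrArg Subtype.val (uniq_out hS C hCmax hCint h1' h2')
  have key2 : ∀ s : S,
      orderOf (QuotientGroup.mk s :
        S ⧸ (C ⟨0, by omega⟩).map (Subgroup.center S).subtype) = 4 → s ^ 4 = 1 := by
    intro s hs
    obtain ⟨h1, _⟩ := sq_of_order_four hS C hCmax hCint hCq _ s hs
    have := congrArg Subtype.val (hsq ⟨s ^ 2, h1⟩)
    rw [Subgroup.coe_pow, Subgroup.coe_one] at this
    rw [show 4 = 2 * 2 from rfl, pow_mul]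
    exact this
  obtain ⟨Q, hQ1, hQ2, hQ3, hQ4⟩ := split_of_sq hS _ hnc huniq key key2
  refine ⟨_, Q, ⟨le_top, le_top, ?_, hQ1, hQ2⟩, ⟨?_, ?_⟩, hQ3, hQ4⟩
  · intro a ha b _
    have := map_le_center _ ha
    rw [Subgroup.mem_center_iff] at this
    exact (this b).symm
  · refine ⟨⟨fun u v => ?_⟩⟩
    have := map_le_center _ u.2
    rw [Subgroup.mem_center_iff] at this
    apply Subtype.ext
    exact (this v).symm
  · intro a ha
    have h1 := map_le_center _ ha
    have := congrArg Subtype.val (hsq ⟨a, h1⟩)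
    rw [Subgroup.coe_pow, Subgroup.coe_one] at this
    exact this

end Cfsg.Agent.S3201
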