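import Mathlib
import Cfsg.Statements.S3202
import Cfsg.Agent.S3201
import Cfsg.Agent.Lib.Helper53_Conj

set_option autoImplicit false
open Cfsg

namespace Cfsg.Agent.S3202

open Cfsg.Agent.Lib.Helper50_UniqueInv Cfsg.Agent.Lib.Helper50_UniqueInv2
open Cfsg.Agent.Lib.Helper53_Conj

variable {S : Type*} [Group S]

/-- every element of an extension of a quaternion group is `a^i d` or `b a^i d` -/
theorem exists_decomp {m : ℕ} [NeZero m] (N : Subgroup S) [N.Normal]
    (e : S ⧸ N ≃* QuaternionGroup m) (a b : S)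
    (ha : (QuotientGroup.mk a : S ⧸ N) = e.symm (QuaternionGroup.a 1))
    (hb : (QuotientGroup.mk b : S ⧸ N) = e.symm (QuaternionGroup.xa 0)) (g : S) :
    ∃ i : ℕ, ∃ d ∈ N, g = a ^ i * d ∨ g = b * a ^ i * d := by
  have hg : (QuotientGroup.mk g : S ⧸ N) = e.symm (e (QuotientGroup.mk g)) :=
    (e.symm_apply_apply _).symm
  rcases hq : e (QuotientGroup.mk g) with j | j
  · refine ⟨j.val, (a ^ j.val)⁻¹ * g, ?_, Or.inl (by group)⟩
    rw [← QuotientGroup.eq, QuotientGroup.mk_pow, ha, ← map_pow, QuaternionGroup.a_one_pow,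
      ZMod.natCast_zmod_val, hg, hq]
  · refine ⟨j.val, (b * a ^ j.val)⁻¹ * g, ?_, Or.inr (by group)⟩
    rw [← QuotientGroup.eq, QuotientGroup.mk_mul, QuotientGroup.mk_pow, ha, hb, ← map_pow,
      ← map_mul, QuaternionGroup.a_one_pow, QuaternionGroup.xa_mul_a, ZMod.natCast_zmod_val,
      zero_add, hg, hq]

/-- the commutator subgroup of a central extension of a quaternion group is cyclic -/
theorem commutator_le_zpowers {m : ℕ} [NeZero m] (N : Subgroup S) [N.Normal]
    (hNZ : N ≤ Subgroup.center S) (e : S ⧸ N ≃* QuaternionGroup m) :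
    ∃ w : S, commutator S ≤ Subgroup.zpowers w := by
  obtain ⟨a, ha⟩ := QuotientGroup.mk_surjective (s := N) (e.symm (QuaternionGroup.a 1))
  obtain ⟨b, hb⟩ := QuotientGroup.mk_surjective (s := N) (e.symm (QuaternionGroup.xa 0))
  have hrel : (QuotientGroup.mk (a * b * a) : S ⧸ N) = QuotientGroup.mk b := by
    rw [QuotientGroup.mk_mul, QuotientGroup.mk_mul, ha, hb, ← map_mul, ← map_mul,
      QuaternionGroup.a_mul_xa, QuaternionGroup.xa_mul_a, sub_add_cancel]
  rw [QuotientGroup.eq] at hrel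
  obtain ⟨c, hcdef⟩ : ∃ c, c = (a * b * a)⁻¹ * b := ⟨_, rfl⟩
  rw [← hcdef] at hrel
  have hcZ : c ∈ Subgroup.center S := hNZ hrel
  have hc : ∀ g : S, g * c = c * g := Subgroup.mem_center_iff.mp hcZ
  have hc' : ∀ g : S, g * c⁻¹ = c⁻¹ * g :=
    Subgroup.mem_center_iff.mp ((Subgroup.center S).inv_mem hcZ)
  have hdec := exists_decomp N e a b ha hb
  -- `a b a = c⁻¹ b`
  have h1 : a * b * a = c⁻¹ * b := by
    have : b * c⁻¹ = a * b * a := by rw [hcdef]; group
    rw [← this, hc' b]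
  -- `b a b⁻¹ = a⁻¹ c⁻¹`
  have hbab : b * a * b⁻¹ = a⁻¹ * c⁻¹ := by
    calc b * a * b⁻¹ = a⁻¹ * (a * b * a) * b⁻¹ := by group
      _ = a⁻¹ * (c⁻¹ * b) * b⁻¹ := by rw [h1]
      _ = a⁻¹ * c⁻¹ := by group
  obtain ⟨w, hw⟩ : ∃ w, w = c * a * a := ⟨_, rfl⟩
  refine ⟨w, ?_⟩
  have hwa : a * w * a⁻¹ = w := by
    calc a * w * a⁻¹ = (a * c) * a * a * a⁻¹ := by rw [hw]; group
      _ = (c * a) * a * a * a⁻¹ := by rw [hc a]
      _ = w := by rw [hw]; group
  have hwb : b * w * b⁻¹ = w⁻¹ := by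
    calc b * w * b⁻¹ = (b * c) * b⁻¹ * (b * a * b⁻¹) * (b * a * b⁻¹) := by rw [hw]; group
      _ = (c * b) * b⁻¹ * (a⁻¹ * c⁻¹) * (a⁻¹ * c⁻¹) := by rw [hc b, hbab]
      _ = (c * a⁻¹) * c⁻¹ * a⁻¹ * c⁻¹ := by group
      _ = (a⁻¹ * c) * c⁻¹ * a⁻¹ * c⁻¹ := by rw [hc a⁻¹]
      _ = w⁻¹ := by rw [hw]; group
  have hwd : ∀ d ∈ N, d * w * d⁻¹ = w := by
    intro d hd
    have hdZ := Subgroup.mem_center_iff.mp (hNZ hd)
    calc d * w * d⁻¹ = (w * d) * d⁻¹ := by rw [hdZ w]
      _ = w := by group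
  -- commutator
  have hab : a * b = w * (b * a) := by
    symm
    calc w * (b * a) = c * a * (a * b * a) := by rw [hw]; group
      _ = c * a * (c⁻¹ * b) := by rw [h1]
      _ = c * (a * c⁻¹) * b := by group
      _ = c * (c⁻¹ * a) * b := by rw [hc' a]
      _ = a * b := by group
  -- `W` is normal
  have cja : cj a (Subgroup.zpowers w) = Subgroup.zpowers w := by
    show (Subgroup.zpowers w).map (MulAut.conj a).toMonoidHom = _
    rw [MonoidHom.map_zpowers]
    show Subgroup.zpowers (a * w * a⁻¹) = _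
    rw [hwa]
  have cjb : cj b (Subgroup.zpowers w) = Subgroup.zpowers w := by
    show (Subgroup.zpowers w).map (MulAut.conj b).toMonoidHom = _
    rw [MonoidHom.map_zpowers]
    show Subgroup.zpowers (b * w * b⁻¹) = _
    rw [hwb, Subgroup.zpowers_inv]
  have cjd : ∀ d ∈ N, cj d (Subgroup.zpowers w) = Subgroup.zpowers w := by
    intro d hd
    show (Subgroup.zpowers w).map (MulAut.conj d).toMonoidHom = _
    rw [MonoidHom.map_zpowers]
    show Subgroup.zpowers (d * w * d⁻¹) = _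
    rw [hwd d hd]
  rw [cj_eq_self_iff] at cja cjb
  have hnorm : (Subgroup.zpowers w).Normal := by
    rw [← Subgroup.normalizer_eq_top_iff, eq_top_iff]
    intro g _
    obtain ⟨i, d, hd, hg | hg⟩ := hdec g
    · rw [hg]
      exact Subgroup.mul_mem _ (Subgroup.pow_mem _ cja i) (cj_eq_self_iff.mp (cjd d hd))
    · rw [hg]
      exact Subgroup.mul_mem _ (Subgroup.mul_mem _ cjb (Subgroup.pow_mem _ cja i))
        (cj_eq_self_iff.mp (cjd d hd))
  rw [← Subgroup.Normal.quotient_commutative_iff_commutator_le]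
  have hAB : Commute (QuotientGroup.mk a : S ⧸ Subgroup.zpowers w) (QuotientGroup.mk b) := by
    show (QuotientGroup.mk a : S ⧸ Subgroup.zpowers w) * QuotientGroup.mk b =
      QuotientGroup.mk b * QuotientGroup.mk a
    rw [← QuotientGroup.mk_mul, ← QuotientGroup.mk_mul, hab, QuotientGroup.mk_mul]
    have : (QuotientGroup.mk w : S ⧸ Subgroup.zpowers w) = 1 :=
      (QuotientGroup.eq_one_iff w).mpr (Subgroup.mem_zpowers w)
    rw [this, one_mul]
  have hDc : ∀ d ∈ N, ∀ t : S ⧸ Subgroup.zpowers w,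
      Commute (QuotientGroup.mk d : S ⧸ Subgroup.zpowers w) t := by
    intro d hd t
    obtain ⟨t, rfl⟩ := QuotientGroup.mk_surjective t
    have hdZ := Subgroup.mem_center_iff.mp (hNZ hd)
    show (QuotientGroup.mk d : S ⧸ Subgroup.zpowers w) * QuotientGroup.mk t =
      QuotientGroup.mk t * QuotientGroup.mk d
    rw [← QuotientGroup.mk_mul, ← QuotientGroup.mk_mul, hdZ t]
  have key : ∀ g : S, Commute (QuotientGroup.mk g : S ⧸ Subgroup.zpowers w) (QuotientGroup.mk a) ∧
      Commute (QuotientGroup.mk g : S ⧸ Subgroup.zpowers w) (QuotientGroup.mk b) := by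
    intro g
    obtain ⟨i, d, hd, hg | hg⟩ := hdec g
    · rw [hg, QuotientGroup.mk_mul, QuotientGroup.mk_pow]
      exact ⟨((Commute.refl _).pow_left i).mul_left (hDc d hd _),
        (hAB.pow_left i).mul_left (hDc d hd _)⟩
    · rw [hg, QuotientGroup.mk_mul, QuotientGroup.mk_mul, QuotientGroup.mk_pow]
      exact ⟨(hAB.symm.mul_left ((Commute.refl _).pow_left i)).mul_left (hDc d hd _),
        ((Commute.refl _).mul_left (hAB.pow_left i)).mul_left (hDc d hd _)⟩
  refine ⟨⟨fun u v => ?_⟩⟩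
  obtain ⟨g, rfl⟩ := QuotientGroup.mk_surjective u
  obtain ⟨h, rfl⟩ := QuotientGroup.mk_surjective v
  obtain ⟨i, d, hd, hh | hh⟩ := hdec h
  · rw [hh, QuotientGroup.mk_mul, QuotientGroup.mk_pow]
    exact (((key g).1.pow_right i).mul_right (hDc d hd _).symm).eq
  · rw [hh, QuotientGroup.mk_mul, QuotientGroup.mk_mul, QuotientGroup.mk_pow]
    exact ((((key g).2).mul_right ((key g).1.pow_right i)).mul_right (hDc d hd _).symm).eq

/-- Let S be a finite 2-group of 2-rank exactly 2 and D a maximal subgroup of the centre of S such that S/D is a non-abelian group with exactly one involution (a generalized quaternion group). Then S has a nontrivial cyclic characteristic subgroup. -/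
theorem result {S : Type*} [Group S]
    [Finite S] (hS : IsPGroup 2 S) (hr2 : Cfsg.PRankLE 2 2 S) (hr1 : ¬ Cfsg.PRankLE 2 1 S)
    (D : Subgroup ↥(Subgroup.center S)) (hD : IsCoatom D)
    (hq : ∃ (_ : (D.map (Subgroup.center S).subtype).Normal),
      ¬ IsMulCommutative (S ⧸ D.map (Subgroup.center S).subtype) ∧
      ∃! x : S ⧸ D.map (Subgroup.center S).subtype, orderOf x = 2) :
    ∃ C : Subgroup S, C ≠ ⊥ ∧ IsCyclic ↥C ∧ C.Characteristic := by
  obtain ⟨hN, hnc, huniq⟩ := hq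
  have hNZ : D.map (Subgroup.center S).subtype ≤ Subgroup.center S := Subgroup.map_subtype_le D
  have hP2 : IsPGroup 2 (S ⧸ D.map (Subgroup.center S).subtype) := hS.to_quotient _
  have hui := Cfsg.Agent.S3201.uniqueInvolution_of_existsUnique huniq
  rcases isCyclic_or_quaternion hP2 hui with hcyc | ⟨k, hk, ⟨e⟩⟩
  · exfalso; exact hnc IsCyclic.isMulCommutative
  haveI : NeZero (2 ^ k) := ⟨by positivity⟩
  obtain ⟨w, hw⟩ := commutator_le_zpowers _ hNZ e
  refine ⟨commutator S, ?_, Subgroup.isCyclic_of_le hw, inferInstance⟩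
  intro hbot
  apply hnc
  rw [Subgroup.Normal.quotient_commutative_iff_commutator_le, hbot]
  exact bot_le

end Cfsg.Agent.S3202
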