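import Mathlib
import Cfsg.Statements.S3203
import Cfsg.Agent.Lib.Helper53_Conj

set_option autoImplicit false
open Cfsg

namespace Cfsg.Agent.S3203

open Cfsg.Agent.Lib.Helper53_Conj

variable {G : Type*} [Group G]

/-- hypotheses, transported to subgroups of `G`, symmetric in `A` and `B` -/
structure Hyp (S A B : Subgroup G) : Prop where
  hAS : A ≤ S
  hBS : B ≤ S
  hne : A ≠ B
  hAe : Cfsg.IsElementaryAbelian 2 A
  hBe : Cfsg.IsElementaryAbelian 2 B
  hAmax : ∀ E : Subgroup G, E ≤ S → Cfsg.IsElementaryAbelian 2 E → A ≤ E → E = A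
  hBmax : ∀ E : Subgroup G, E ≤ S → Cfsg.IsElementaryAbelian 2 E → B ≤ E → E = B
  hcov : ∀ E : Subgroup G, E ≤ S → Cfsg.IsElementaryAbelian 2 E → E ≤ A ∨ E ≤ B

theorem Hyp.symm {S A B : Subgroup G} (h : Hyp S A B) : Hyp S B A :=
  ⟨h.hBS, h.hAS, h.hne.symm, h.hBe, h.hAe, h.hBmax, h.hAmax, fun E h1 h2 => (h.hcov E h1 h2).symm⟩

theorem Hyp.not_le {S A B : Subgroup G} (h : Hyp S A B) : ¬ A ≤ B := fun hle =>
  h.hne (h.hAmax B h.hBS h.hBe hle).symm

/-- elements of `B` normalize `A` -/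
theorem Hyp.mem_normalizer [Finite G] {S A B : Subgroup G} (h : Hyp S A B) {b : G} (hb : b ∈ B) :
    b ∈ Subgroup.normalizer (A : Set G) := by
  rw [← cj_eq_self_iff]
  apply cj_eq_of_cj_le
  have hS : cj b A ≤ S := by
    rw [cj_le_iff]
    intro a ha
    exact S.mul_mem (S.mul_mem (h.hBS hb) (h.hAS ha)) (S.inv_mem (h.hBS hb))
  rcases h.hcov _ hS (isElementaryAbelian_cj h.hAe) with h1 | h1
  · exact h1
  · exfalso
    rw [cj_le_iff_le_cj_inv, cj_eq_of_mem (B.inv_mem hb)] at h1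
    exact h.not_le h1

theorem Hyp.le_normalizer [Finite G] {S A B : Subgroup G} (h : Hyp S A B)
    (hprod : ∀ s ∈ S, ∃ a ∈ A, ∃ b ∈ B, a * b = s) :
    S ≤ Subgroup.normalizer (A : Set G) := by
  intro s hs
  obtain ⟨a, ha, b, hb, rfl⟩ := hprod s hs
  exact Subgroup.mul_mem _ (Subgroup.le_normalizer ha) (h.mem_normalizer hb)

/-- an element normalizing `S` either fixes `A`, or swaps `A` and `B` -/
theorem Hyp.fix_or_swap [Finite G] {S A B : Subgroup G} (h : Hyp S A B) {n : G}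
    (hn : n ∈ Subgroup.normalizer (S : Set G)) :
    cj n A = A ∨ cj n A = B := by
  have hnS : cj n S = S := cj_eq_self_iff.mpr hn
  have hnS' : cj n⁻¹ S = S := cj_eq_self_iff.mpr (Subgroup.inv_mem _ hn)
  have hS : cj n A ≤ S := by
    rw [← hnS]; exact cj_mono h.hAS
  rcases h.hcov _ hS (isElementaryAbelian_cj h.hAe) with h1 | h1
  · left; exact cj_eq_of_cj_le h1
  · right
    -- A ≤ cj n⁻¹ B ≤ S, elementary abelian, so cj n⁻¹ B = A
    have h2 : A ≤ cj n⁻¹ B := cj_le_iff_le_cj_inv.mp h1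
    have h3 : cj n⁻¹ B ≤ S := by
      rw [← hnS']; exact cj_mono h.hBS
    have h4 := h.hAmax _ h3 (isElementaryAbelian_cj h.hBe) h2
    rw [← h4, cj_cj_inv]

theorem Hyp.normalizer_le [Finite G] (S : Sylow 2 G) {A B : Subgroup G}
    (h : Hyp (S : Subgroup G) A B)
    (hSA : (S : Subgroup G) ≤ Subgroup.normalizer (A : Set G)) :
    Subgroup.normalizer ((S : Subgroup G) : Set G) ≤ Subgroup.normalizer (A : Set G) := by
  intro n hn
  by_contra hnA
  have hswap : ∀ b ∈ Subgroup.normalizer ((S : Subgroup G) : Set G),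
      b ∉ Subgroup.normalizer (A : Set G) → cj b A = B ∧ cj b B = A := by
    intro b hb hbA
    have h1 : cj b A = B := by
      rcases h.fix_or_swap hb with h1 | h1
      · exact absurd (cj_eq_self_iff.mp h1) hbA
      · exact h1
    refine ⟨h1, ?_⟩
    rcases h.symm.fix_or_swap hb with h2 | h2
    · exfalso
      rw [← h2] at h1
      exact h.hne (cj_injective b h1)
    · exact h2
  set NS := Subgroup.normalizer ((S : Subgroup G) : Set G) with hNS
  set M : Subgroup G := NS ⊓ Subgroup.normalizer (A : Set G) with hM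
  have hSM : (S : Subgroup G) ≤ M := le_inf Subgroup.le_normalizer hSA
  have hidx : (M.subgroupOf NS).index = 2 := by
    rw [Subgroup.index_eq_two_iff]
    refine ⟨⟨n, hn⟩, ?_⟩
    rintro ⟨b, hb⟩
    simp only [Subgroup.mem_subgroupOf, Subgroup.coe_mul, hM, Subgroup.mem_inf]
    by_cases hbA : b ∈ Subgroup.normalizer (A : Set G)
    · right
      refine ⟨⟨hb, hbA⟩, ?_⟩
      rintro ⟨_, h2⟩
      apply hnA
      have := Subgroup.mul_mem _ (Subgroup.inv_mem _ hbA) h2
      simpa using this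
    · left
      refine ⟨⟨Subgroup.mul_mem _ hb hn, ?_⟩, fun hh => hbA hh.2⟩
      rw [← cj_eq_self_iff, cj_mul, (hswap n hn hnA).1, (hswap b hb hbA).2]
  have h2 : (2 : ℕ) ∣ (S : Subgroup G).index := by
    have h3 : M.relIndex NS * NS.index = M.index := Subgroup.relIndex_mul_index inf_le_left
    have h4 : M.index ∣ (S : Subgroup G).index := Subgroup.index_dvd_of_le hSM
    have h5 : M.relIndex NS = 2 := hidx
    rw [h5] at h3
    exact (Dvd.intro _ h3).trans h4
  haveI : Fact (Nat.Prime 2) := ⟨Nat.prime_two⟩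
  exact S.not_dvd_index h2

theorem normalizer_cj (g : G) (H : Subgroup G) :
    Subgroup.normalizer ((cj g H : Subgroup G) : Set G) = cj g (Subgroup.normalizer (H : Set G)) := by
  ext x
  rw [mem_cj, ← cj_eq_self_iff, ← cj_eq_self_iff, cj_mul, cj_mul]
  constructor
  · intro h
    rw [h, cj_inv_cj]
  · intro h
    have := congrArg (cj g) h
    rwa [cj_cj_inv] at this

theorem Hyp.weaklyClosed [Finite G] (S : Sylow 2 G) {A B : Subgroup G}
    (h : Hyp (S : Subgroup G) A B)
    (hSA : (S : Subgroup G) ≤ Subgroup.normalizer (A : Set G))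
    (hSB : (S : Subgroup G) ≤ Subgroup.normalizer (B : Set G)) :
    Cfsg.IsWeaklyClosed A (S : Subgroup G) := by
  haveI : Fact (Nat.Prime 2) := ⟨Nat.prime_two⟩
  refine ⟨h.hAS, ?_⟩
  intro g hg
  change cj g A ≤ (S : Subgroup G) at hg
  change cj g A = A
  rcases h.hcov _ hg (isElementaryAbelian_cj h.hAe) with h1 | h1
  · exact cj_eq_of_cj_le h1
  · exfalso
    set N := Subgroup.normalizer ((cj g A : Subgroup G) : Set G) with hN
    have hgSN : cj g (S : Subgroup G) ≤ N := by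
      rw [hN, normalizer_cj]
      exact cj_mono hSA
    have hBN : B ≤ N := by
      intro b hb
      rw [hN, Subgroup.mem_normalizer_iff]
      intro x
      have key : x ∈ cj g A → b * x * b⁻¹ = x := by
        intro hx
        have := h.hBe.1.is_comm.comm (⟨b, hb⟩ : ↥B) ⟨x, h1 hx⟩
        have h3 : b * x = x * b := congrArg Subtype.val this
        rw [h3]; group
      constructor
      · intro hx
        rw [key hx]; exact hx
      · intro hx
        have h4 : b⁻¹ * (b * x * b⁻¹) * b = x := by group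
        have := h.hBe.1.is_comm.comm (⟨b⁻¹, B.inv_mem hb⟩ : ↥B) ⟨b * x * b⁻¹, h1 hx⟩
        have h3 : b⁻¹ * (b * x * b⁻¹) = (b * x * b⁻¹) * b⁻¹ := congrArg Subtype.val this
        rw [← h4, h3]
        have : b * x * b⁻¹ * b⁻¹ * b = b * x * b⁻¹ := by group
        rw [this]; exact hx
    -- Sylow in N
    have hgS : IsPGroup 2 ↥B := S.isPGroup'.to_le h.hBS
    obtain ⟨n, hn, hle⟩ := exists_mem_le_cj_cj_sylow S g N B hgSN hBN hgS
    -- k := (n * g)⁻¹
    have h2 : cj (n * g)⁻¹ B ≤ (S : Subgroup G) := by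
      rw [cj_le_iff_le_cj_inv, inv_inv]; exact hle
    have h3 : A ≤ cj (n * g)⁻¹ B := by
      rw [← cj_le_iff_le_cj_inv, cj_mul, cj_eq_self_iff.mpr hn]
      exact h1
    have h4 := h.hAmax _ h2 (isElementaryAbelian_cj h.hBe) h3
    have h5 : Nat.card ↥B = Nat.card ↥A := by rw [← h4, card_cj]
    have h6 : cj g A = B := eq_of_le_of_card_le h1 (by rw [card_cj, h5])
    -- now N = N(B) contains S
    have hSN : (S : Subgroup G) ≤ N := by rw [hN, h6]; exact hSB
    obtain ⟨m, hm, hmeq⟩ := exists_mem_cj_sylow_eq S N g hSN hgSN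
    have h7 : m⁻¹ * g ∈ Subgroup.normalizer ((S : Subgroup G) : Set G) := by
      rw [← cj_eq_self_iff, cj_mul, hmeq, cj_inv_cj]
    have h8 := h.normalizer_le S hSA h7
    rw [← cj_eq_self_iff, cj_mul, h6] at h8
    have h9 : cj m⁻¹ B = B := by
      rw [cj_eq_self_iff]
      have : m ∈ Subgroup.normalizer (B : Set G) := by
        rw [hN, h6] at hm; exact hm
      exact Subgroup.inv_mem _ this
    rw [h9] at h8
    exact h.hne h8.symm

/-- transport elementary abelian along the inclusion of a subgroup -/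
theorem isElementaryAbelian_map_subtype {S : Subgroup G} {p : ℕ} {C : Subgroup ↥S}
    (h : Cfsg.IsElementaryAbelian p C) : Cfsg.IsElementaryAbelian p (C.map S.subtype) := by
  obtain ⟨hc, he⟩ := h
  refine ⟨⟨⟨?_⟩⟩, ?_⟩
  · rintro ⟨_, a, ha, rfl⟩ ⟨_, b, hb, rfl⟩
    have h1 := hc.is_comm.comm (⟨a, ha⟩ : ↥C) ⟨b, hb⟩
    have h2 : a * b = b * a := congrArg Subtype.val h1
    ext
    show (a : G) * (b : G) = (b : G) * (a : G)
    rw [← Subgroup.coe_mul, h2, Subgroup.coe_mul]
  · rintro _ ⟨a, ha, rfl⟩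
    show (a : G) ^ p = 1
    rw [← Subgroup.coe_pow, he a ha, Subgroup.coe_one]

theorem isElementaryAbelian_subgroupOf {S : Subgroup G} {p : ℕ} {E : Subgroup G}
    (h : Cfsg.IsElementaryAbelian p E) : Cfsg.IsElementaryAbelian p (E.subgroupOf S) := by
  obtain ⟨hc, he⟩ := h
  refine ⟨⟨⟨?_⟩⟩, ?_⟩
  · rintro ⟨a, ha⟩ ⟨b, hb⟩
    rw [Subgroup.mem_subgroupOf] at ha hb
    have h1 := hc.is_comm.comm (⟨a, ha⟩ : ↥E) ⟨b, hb⟩
    have h2 : (a : G) * (b : G) = (b : G) * (a : G) := congrArg Subtype.val h1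
    ext
    exact h2
  · intro a ha
    rw [Subgroup.mem_subgroupOf] at ha
    ext
    rw [Subgroup.coe_pow, he _ ha, Subgroup.coe_one]

theorem mkHyp [Finite G] (S : Subgroup G)
    (A B : Subgroup ↥S) (hAB : A ≠ B)
    (hA : Cfsg.IsElementaryAbelian 2 A ∧ ∀ C : Subgroup ↥S, Cfsg.IsElementaryAbelian 2 C → A ≤ C → C = A)
    (hB : Cfsg.IsElementaryAbelian 2 B ∧ ∀ C : Subgroup ↥S, Cfsg.IsElementaryAbelian 2 C → B ≤ C → C = B)
    (honly : ∀ C : Subgroup ↥S, Cfsg.IsElementaryAbelian 2 C →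
      (∀ D : Subgroup ↥S, Cfsg.IsElementaryAbelian 2 D → C ≤ D → D = C) → C = A ∨ C = B) :
    Hyp S (A.map S.subtype) (B.map S.subtype) := by
  have hmapS : ∀ C : Subgroup ↥S, C.map S.subtype ≤ S := by
    rintro C _ ⟨a, _, rfl⟩
    exact a.2
  have hback : ∀ E : Subgroup G, E ≤ S → (E.subgroupOf S).map S.subtype = E := fun E hE =>
    Subgroup.map_subgroupOf_eq_of_le hE
  refine ⟨hmapS A, hmapS B, ?_, isElementaryAbelian_map_subtype hA.1,
    isElementaryAbelian_map_subtype hB.1, ?_, ?_, ?_⟩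
  · intro h
    exact hAB (Subgroup.map_injective S.subtype_injective h)
  · intro E hES hE hAE
    have h1 : A ≤ E.subgroupOf S := by
      rw [← hback E hES] at hAE
      exact (Subgroup.map_subtype_le_map_subtype).mp hAE
    rw [← hA.2 _ (isElementaryAbelian_subgroupOf hE) h1, hback E hES]
  · intro E hES hE hBE
    have h1 : B ≤ E.subgroupOf S := by
      rw [← hback E hES] at hBE
      exact (Subgroup.map_subtype_le_map_subtype).mp hBE
    rw [← hB.2 _ (isElementaryAbelian_subgroupOf hE) h1, hback E hES]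
  · intro E hES hE
    have hfin : Set.Finite {C : Subgroup ↥S | Cfsg.IsElementaryAbelian 2 C} := Set.toFinite _
    obtain ⟨D, hED, hD⟩ := hfin.exists_le_maximal
      (show E.subgroupOf S ∈ {C : Subgroup ↥S | Cfsg.IsElementaryAbelian 2 C} from
        isElementaryAbelian_subgroupOf hE)
    have hD1 : Cfsg.IsElementaryAbelian 2 D := hD.1
    have hD2 : ∀ D' : Subgroup ↥S, Cfsg.IsElementaryAbelian 2 D' → D ≤ D' → D' = D :=
      fun D' hD' hle => le_antisymm (hD.2 hD' hle) hle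
    have h3 : E ≤ D.map S.subtype := by
      rw [← hback E hES]
      exact Subgroup.map_mono hED
    rcases honly D hD1 hD2 with rfl | rfl
    · left; exact h3
    · right; exact h3

/-- Let S be a Sylow 2-subgroup of a finite group G having exactly two subgroups A ≠ B that are maximal among its elementary abelian subgroups, with S = AB. Then A and B are each weakly closed in S with respect to G, and the normalizer of S normalizes both A and B. -/
theorem result {G : Type*} [Group G] [Finite G] (S : Sylow 2 G)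
    (A B : Subgroup ↥(S : Subgroup G)) (hAB : A ≠ B)
    (hA : Cfsg.IsElementaryAbelian 2 A ∧ ∀ C : Subgroup ↥(S : Subgroup G), Cfsg.IsElementaryAbelian 2 C → A ≤ C → C = A)
    (hB : Cfsg.IsElementaryAbelian 2 B ∧ ∀ C : Subgroup ↥(S : Subgroup G), Cfsg.IsElementaryAbelian 2 C → B ≤ C → C = B)
    (honly : ∀ C : Subgroup ↥(S : Subgroup G), Cfsg.IsElementaryAbelian 2 C →
      (∀ D : Subgroup ↥(S : Subgroup G), Cfsg.IsElementaryAbelian 2 D → C ≤ D → D = C) → C = A ∨ C = B)
    (hprod : ∀ s : ↥(S : Subgroup G), ∃ a ∈ A, ∃ b ∈ B, a * b = s)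
    (A' B' : Subgroup G) (hA' : A' = A.map (S : Subgroup G).subtype) (hB' : B' = B.map (S : Subgroup G).subtype) :
    Cfsg.IsWeaklyClosed A' (S : Subgroup G) ∧ Cfsg.IsWeaklyClosed B' (S : Subgroup G) ∧
      Subgroup.normalizer ((S : Subgroup G) : Set G) ≤ Subgroup.normalizer (A' : Set G) ⊓ Subgroup.normalizer (B' : Set G) := by
  have h := mkHyp (S : Subgroup G) A B hAB hA hB honly
  rw [← hA', ← hB'] at h
  have hprod1 : ∀ s ∈ (S : Subgroup G), ∃ a ∈ A', ∃ b ∈ B', a * b = s := by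
    intro s hs
    obtain ⟨a, ha, b, hb, hab⟩ := hprod ⟨s, hs⟩
    refine ⟨a, ?_, b, ?_, ?_⟩
    · rw [hA']; exact ⟨a, ha, rfl⟩
    · rw [hB']; exact ⟨b, hb, rfl⟩
    · have := congrArg Subtype.val hab
      simpa using this
  have hprod2 : ∀ s ∈ (S : Subgroup G), ∃ b ∈ B', ∃ a ∈ A', b * a = s := by
    intro s hs
    obtain ⟨a, ha, b, hb, hab⟩ := hprod1 s⁻¹ (Subgroup.inv_mem _ hs)
    refine ⟨b⁻¹, B'.inv_mem hb, a⁻¹, A'.inv_mem ha, ?_⟩
    rw [← mul_inv_rev, hab, inv_inv]
  have hSA := h.le_normalizer hprod1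
  have hSB := h.symm.le_normalizer hprod2
  exact ⟨h.weaklyClosed S hSA hSB, h.symm.weaklyClosed S hSB hSA,
    le_inf (h.normalizer_le S hSA) (h.symm.normalizer_le S hSB)⟩

end Cfsg.Agent.S3203
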