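import Cfsg.Statements.S3206
import Cfsg.Agent.Lib.Helper73_AutSylow
import Cfsg.Agent.Lib.Helper8_StemThree
import Cfsg.Agent.Lib.Helper8_JankoRee
import Cfsg.Agent.Lib.Helper8_PSL2Sylow

set_option autoImplicit false
open Cfsg
open Cfsg.Agent.Lib.Helper8_StemTwo Cfsg.Agent.Lib.Helper8_StemThree
open Cfsg.Agent.Lib.Helper8_JankoRee
open scoped commutatorElement

namespace Cfsg.Agent.S3206

/-! ### general lemmas -/

section general

variable {H : Type*} [Group H]

/-- a non-commutative simple group is perfect -/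
theorem commutator_eq_top_of_simple [IsSimpleGroup H] (h : ¬ ∀ a b : H, a * b = b * a) :
    commutator H = ⊤ := by
  rcases (inferInstance : (commutator H).Normal).eq_bot_or_eq_top with h0 | h0
  · exfalso
    apply h
    intro a b
    have : ⁅a, b⁆ ∈ commutator H := by
      rw [commutator_def]
      exact Subgroup.commutator_mem_commutator (Subgroup.mem_top a) (Subgroup.mem_top b)
    rw [h0, Subgroup.mem_bot] at this
    exact commutatorElement_eq_one_iff_mul_comm.mp this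
  · exact h0

/-- the odd core of a simple group of even order is trivial -/
theorem pPrimeCore_eq_bot_of_simple [Finite H] [IsSimpleGroup H] (heven : 2 ∣ Nat.card H) :
    Cfsg.pPrimeCore 2 H = ⊥ := by
  unfold Cfsg.pPrimeCore
  rw [sSup_eq_bot]
  rintro K ⟨hK, hcop⟩
  rcases hK.eq_bot_or_eq_top with h | h
  · exact h
  · exfalso
    rw [h, Subgroup.card_top] at hcop
    have := Nat.Coprime.eq_one_of_dvd hcop.symm heven
    omega

/-- commutators, modulo factors commuting with the other entry -/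
theorem commutatorElement_mul_comm_left (x y k : H) (hky : k * y = y * k) :
    ⁅x * k, y⁆ = ⁅x, y⁆ := by
  rw [commutatorElement_def, commutatorElement_def]
  calc x * k * y * (x * k)⁻¹ * y⁻¹ = x * (k * y) * k⁻¹ * x⁻¹ * y⁻¹ := by group
    _ = x * (y * k) * k⁻¹ * x⁻¹ * y⁻¹ := by rw [hky]
    _ = x * y * x⁻¹ * y⁻¹ := by group

theorem commutatorElement_mul_comm_right (x y k : H) (hkx : k * x = x * k) :
    ⁅x, y * k⁆ = ⁅x, y⁆ := by
  have hkx' : k * x⁻¹ = x⁻¹ * k := by
    calc k * x⁻¹ = x⁻¹ * (x * k) * x⁻¹ := by group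
      _ = x⁻¹ * (k * x) * x⁻¹ := by rw [hkx]
      _ = x⁻¹ * k := by group
  rw [commutatorElement_def, commutatorElement_def]
  calc x * (y * k) * x⁻¹ * (y * k)⁻¹ = x * y * (k * x⁻¹) * k⁻¹ * y⁻¹ := by group
    _ = x * y * (x⁻¹ * k) * k⁻¹ * y⁻¹ := by rw [hkx']
    _ = x * y * x⁻¹ * y⁻¹ := by group

end general

/-! ### the structure of a Sylow 2-subgroup -/

section main

variable {G : Type*} [Group G] [Finite G] [IsSimpleGroup G]

/-- the data extracted from the hypotheses: a Sylow 2-subgroup `P = Q ∪ t Q` with `Q` of order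
four inside a perfect subgroup centralised by `t`, and an element of the normaliser of `P` moving
`t` -/
theorem exists_data (hG : ¬ IsMulCommutative G)
    (hab : ∀ S : Sylow 2 G, IsMulCommutative ↥(S : Subgroup G))
    (t : G) (ht : orderOf t = 2)
    (E : Subgroup G) (hE : Cfsg.IsInternalDirectProduct (Subgroup.zpowers t) E
      (Subgroup.centralizer ({t} : Set G)))
    {F : Type*} [Field F] [Fintype F] (hFo : Odd (Fintype.card F)) (hF3 : 3 < Fintype.card F)
    (N : Subgroup ↥E) [N.Normal]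
    (hN : Nonempty (↥N ≃* Matrix.ProjectiveSpecialLinearGroup (Fin 2) F))
    (hNc : Subgroup.centralizer (N : Set ↥E) = ⊥) :
    ∃ (P : Sylow 2 G) (N' Q : Subgroup G) (n : G), t ∈ (P : Subgroup G) ∧ t * t = 1 ∧
      N' ≤ ⁅N', N'⁆ ∧ (∀ y ∈ N', t * y = y * t) ∧ Q ≤ N' ∧ Q ≤ (P : Subgroup G) ∧
      Nat.card ↥Q = 4 ∧ (∀ x ∈ (P : Subgroup G), x ∈ Q ∨ t * x ∈ Q) ∧ t ∉ Q ∧
      n ∈ Subgroup.normalizer ((P : Subgroup G) : Set G) ∧ n * t * n⁻¹ ≠ t := by
  classical
  have : Fact (Nat.Prime 2) := ⟨Nat.prime_two⟩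
  obtain ⟨hE1, hE2, hE3, hE4, hE5⟩ := hE
  have htt : t * t = 1 := by rw [← pow_two, ← ht]; exact pow_orderOf_eq_one t
  have ht1 : t ≠ 1 := by
    intro h; rw [h, orderOf_one] at ht; omega
  have htE : ∀ e ∈ E, t * e = e * t := fun e he => hE3 t (Subgroup.mem_zpowers t) e he
  have hodd : Fintype.card F % 2 = 1 := Nat.odd_iff.mp hFo
  have h5 : 5 ≤ Fintype.card F := by omega
  obtain ⟨e⟩ := hN
  -- `N` is simple and not commutative
  have hsPSL : IsSimpleGroup (Matrix.ProjectiveSpecialLinearGroup (Fin 2) F) :=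
    Matrix.ProjectiveSpecialLinearGroup.rank_two_simple
      (by rw [Nat.card_eq_fintype_card]; omega)
  have hsimpleN : IsSimpleGroup ↥N := e.isSimpleGroup
  have hncN : ¬ ∀ a b : ↥N, a * b = b * a := by
    intro h
    apply Cfsg.Agent.Lib.Helper8_PSL2Sylow.psl2_not_comm (F := F) hodd h5
    intro a b
    have h1 := h (e.symm a) (e.symm b)
    have h2 := congrArg e h1
    rwa [map_mul, map_mul, e.apply_symm_apply, e.apply_symm_apply] at h2
  have hfinPSL : Finite (Matrix.ProjectiveSpecialLinearGroup (Fin 2) F) :=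
    Finite.of_equiv _ e.toEquiv
  -- the embedding of `N`
  obtain ⟨f, hfdef⟩ : ∃ f : ↥N →* G, f = E.subtype.comp N.subtype := ⟨_, rfl⟩
  have hf : Function.Injective f := by
    rw [hfdef]
    exact (Subgroup.subtype_injective E).comp (Subgroup.subtype_injective N)
  have hfval : ∀ y : ↥N, f y = ((y : ↥E) : G) := by
    intro y; rw [hfdef]; rfl
  have hfE : ∀ y : ↥N, f y ∈ E := by
    intro y; rw [hfval]; exact (y : ↥E).2
  obtain ⟨N', hN'⟩ : ∃ N' : Subgroup G, N' = f.range := ⟨_, rfl⟩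
  have hperf : N' ≤ ⁅N', N'⁆ := by
    have hc : commutator ↥N = ⊤ := commutator_eq_top_of_simple hncN
    rw [hN', MonoidHom.range_eq_map, ← Subgroup.map_commutator, ← commutator_def, hc]
  have hN'E : N' ≤ E := by
    rw [hN']; rintro _ ⟨y, rfl⟩; exact hfE y
  have htN' : ∀ y ∈ N', t * y = y * t := fun y hy => htE y (hN'E hy)
  -- a Sylow 2-subgroup of `N`
  have Q0 : Sylow 2 ↥N := default
  obtain ⟨Q, hQdef⟩ : ∃ Q : Subgroup G, Q = (Q0 : Subgroup ↥N).map f := ⟨_, rfl⟩
  have hQN : Q ≤ N' := by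
    rw [hQdef, hN']; exact Subgroup.map_le_range f _
  have hQ2 : IsPGroup 2 ↥Q := by rw [hQdef]; exact Q0.2.map f
  have hzt : IsPGroup 2 ↥(Subgroup.zpowers t) :=
    IsPGroup.of_card (n := 1) (by rw [Nat.card_zpowers, ht, pow_one])
  have htQc : ∀ y ∈ Q, t * y * t⁻¹ ∈ Q := by
    intro y hy
    rw [htN' y (hQN hy), mul_inv_cancel_right]; exact hy
  have hnorm : Subgroup.zpowers t ≤ Subgroup.normalizer (Q : Set G) := by
    rw [Subgroup.zpowers_le]
    exact mem_normalizer_of_sq htt htQc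
  have hR : IsPGroup 2 ↥(Subgroup.zpowers t ⊔ Q) := hzt.to_sup_of_normal_right' hQ2 hnorm
  obtain ⟨P, hRP⟩ := hR.exists_le_sylow
  have htP : t ∈ (P : Subgroup G) := hRP (Subgroup.mem_sup_left (Subgroup.mem_zpowers t))
  have hQP : Q ≤ (P : Subgroup G) := le_trans le_sup_right hRP
  have hPcomm : ∀ a ∈ (P : Subgroup G), ∀ b ∈ (P : Subgroup G), a * b = b * a := by
    intro a ha b hb
    have := (hab P).is_comm.comm ⟨a, ha⟩ ⟨b, hb⟩
    exact congrArg Subtype.val this
  -- `P ∩ N' = Q`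
  have hPN : ∀ x ∈ (P : Subgroup G), x ∈ N' → x ∈ Q := by
    intro x hxP hxN
    rw [hN'] at hxN
    obtain ⟨y, rfl⟩ := hxN
    have hQ1 : IsPGroup 2 ↥((P : Subgroup G).comap f) := P.2.comap_of_injective f hf
    have hle : (Q0 : Subgroup ↥N) ≤ (P : Subgroup G).comap f := by
      intro z hz
      rw [Subgroup.mem_comap]
      apply hQP
      rw [hQdef]
      exact Subgroup.mem_map_of_mem f hz
    have heq := Q0.is_maximal' hQ1 hle
    have hy : y ∈ (P : Subgroup G).comap f := hxP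
    rw [heq] at hy
    rw [hQdef]
    exact Subgroup.mem_map_of_mem f hy
  have hQ0P : ∀ y ∈ (Q0 : Subgroup ↥N), f y ∈ (P : Subgroup G) := by
    intro y hy
    apply hQP
    rw [hQdef]
    exact Subgroup.mem_map_of_mem f hy
  -- the order of `N` is even
  have hQ0comm : ∀ a ∈ (Q0 : Subgroup ↥N), ∀ b ∈ (Q0 : Subgroup ↥N), a * b = b * a := by
    intro a ha b hb
    apply hf
    rw [map_mul, map_mul]
    exact hPcomm _ (hQ0P a ha) _ (hQ0P b hb)
  have hQ0card : Nat.card ↥(Q0 : Subgroup ↥N) = 4 := by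
    obtain ⟨S', hS'⟩ : ∃ S' : Subgroup (Matrix.ProjectiveSpecialLinearGroup (Fin 2) F),
      S' = (Q0 : Subgroup ↥N).map e.toMonoidHom := ⟨_, rfl⟩
    have hcS' : Nat.card ↥S' = Nat.card ↥(Q0 : Subgroup ↥N) := by
      rw [hS']; exact Subgroup.card_map_of_injective e.injective
    have hcard : Nat.card ↥S' =
        2 ^ (Nat.card (Matrix.ProjectiveSpecialLinearGroup (Fin 2) F)).factorization 2 := by
      rw [hcS', Q0.card_eq_multiplicity, Nat.card_congr e.toEquiv]
    have h4 := Cfsg.Agent.Lib.Helper8_PSL2Sylow.card_sylow_of_comm hodd h5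
      (Sylow.ofCard S' hcard) (by
        intro a ha b hb
        have ha' : a ∈ S' := ha
        have hb' : b ∈ S' := hb
        rw [hS'] at ha' hb'
        obtain ⟨a0, ha0, rfl⟩ := ha'
        obtain ⟨b0, hb0, rfl⟩ := hb'
        show e a0 * e b0 = e b0 * e a0
        rw [← map_mul, ← map_mul, hQ0comm a0 ha0 b0 hb0])
    have h4' : Nat.card ↥S' = 4 := h4
    rw [← hcS', h4']
  have hQ4 : Nat.card ↥Q = 4 := by
    rw [hQdef, Subgroup.card_map_of_injective hf, hQ0card]
  have hevenN : 2 ∣ Nat.card ↥N := by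
    have := Subgroup.card_subgroup_dvd_card (Q0 : Subgroup ↥N)
    rw [hQ0card] at this
    exact dvd_trans (by norm_num) this
  -- `P ∩ E ≤ N'`
  have hPE : ∀ x ∈ (P : Subgroup G), x ∈ E → x ∈ N' := by
    intro x hxP hxE
    obtain ⟨xE, hxEdef⟩ : ∃ xE : ↥E, xE = ⟨x, hxE⟩ := ⟨_, rfl⟩
    have hxEval : (xE : G) = x := by rw [hxEdef]
    obtain ⟨α, hαdef⟩ : ∃ α : MulAut ↥N, α = MulAut.conjNormal xE := ⟨_, rfl⟩
    have hα : ∀ y : ↥N, ((α y : ↥N) : ↥E) = xE * y * xE⁻¹ := by
      intro y; rw [hαdef]; exact MulAut.conjNormal_apply xE y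
    have h2 : ∃ j : ℕ, orderOf α = 2 ^ j := by
      obtain ⟨k, hk⟩ := P.2 ⟨x, hxP⟩
      have hxk : xE ^ 2 ^ k = 1 := by
        apply Subtype.ext
        have := congrArg Subtype.val hk
        rw [Subgroup.coe_pow, hxEval]
        exact this
      have hαk : α ^ 2 ^ k = 1 := by rw [hαdef, ← map_pow, hxk, map_one]
      obtain ⟨j, -, hj⟩ := (Nat.dvd_prime_pow Nat.prime_two).mp (orderOf_dvd_of_pow_eq_one hαk)
      exact ⟨j, hj⟩
    have hfix : ∀ y ∈ (Q0 : Subgroup ↥N), α y = y := by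
      intro y hy
      apply hf
      rw [hfval, hfval, hα y]
      show (xE : G) * ((y : ↥E) : G) * (xE : G)⁻¹ = ((y : ↥E) : G)
      rw [hxEval, ← hfval, hPcomm x hxP (f y) (hQ0P y hy), mul_inv_cancel_right]
    have hcore : Cfsg.pPrimeCore 2 ↥N = ⊥ := pPrimeCore_eq_bot_of_simple hevenN
    have habQ0 : IsMulCommutative ↥(Q0 : Subgroup ↥N) :=
      ⟨⟨fun a b => Subtype.ext (hQ0comm a a.2 b b.2)⟩⟩
    obtain ⟨g, hgQ, hg⟩ :=
      Cfsg.Agent.Lib.Helper73_AutSylow.inner_of_fix_abelian_sylow hcore Q0 habQ0 α h2 hfix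
    have hz : xE⁻¹ * (g : ↥E) ∈ Subgroup.centralizer (N : Set ↥E) := by
      rw [Subgroup.mem_centralizer_iff]
      intro h hh
      have h1 := hg ⟨h, hh⟩
      have h3 := congrArg (Subtype.val : ↥N → ↥E) h1
      rw [hα] at h3
      have h4 : xE * h * xE⁻¹ = (g : ↥E) * h * (g : ↥E)⁻¹ := h3
      calc h * (xE⁻¹ * (g : ↥E)) = xE⁻¹ * (xE * h * xE⁻¹) * (g : ↥E) := by group
        _ = xE⁻¹ * ((g : ↥E) * h * (g : ↥E)⁻¹) * (g : ↥E) := by rw [h4]
        _ = xE⁻¹ * (g : ↥E) * h := by group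
    rw [hNc, Subgroup.mem_bot] at hz
    have hxg : xE = (g : ↥E) := inv_mul_eq_one.mp hz
    rw [hN']
    refine ⟨g, ?_⟩
    rw [hfval, ← hxg, hxEval]
  -- `P = Q ∪ t Q`
  have hPQ : ∀ x ∈ (P : Subgroup G), x ∈ Q ∨ t * x ∈ Q := by
    intro x hx
    have hxC : x ∈ Subgroup.centralizer ({t} : Set G) := by
      rw [Subgroup.mem_centralizer_iff]
      intro h hh
      rw [Set.mem_singleton_iff] at hh
      rw [hh]
      exact hPcomm t htP x hx
    rw [← hE5, sup_comm] at hxC
    obtain ⟨e1, he1, w, hw, rfl⟩ := exists_mul_of_mem_sup E (Subgroup.zpowers t) (by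
      intro w hw e1 he1
      rw [hE3 w hw e1 he1, mul_inv_cancel_right]; exact he1) x hxC
    rcases mem_zpowers_two htt hw with hw1 | hw1
    · left
      rw [hw1, mul_one] at hx ⊢
      exact hPN e1 hx (hPE e1 hx he1)
    · right
      rw [hw1] at hx ⊢
      have heP : e1 ∈ (P : Subgroup G) := by
        have := (P : Subgroup G).mul_mem hx htP
        rwa [mul_assoc, htt, mul_one] at this
      have e2 : t * (e1 * t) = e1 := by
        rw [← mul_assoc, htE e1 he1, mul_assoc, htt, mul_one]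
      rw [e2]
      exact hPN e1 heP (hPE e1 heP he1)
  have hQE : Q ≤ E := le_trans hQN hN'E
  have htQ : t ∉ Q := by
    intro h
    have : t ∈ Subgroup.zpowers t ⊓ E := ⟨Subgroup.mem_zpowers t, hQE h⟩
    rw [hE4, Subgroup.mem_bot] at this
    exact ht1 this
  -- fusion
  have hfus : ∃ n ∈ Subgroup.normalizer ((P : Subgroup G) : Set G), n * t * n⁻¹ ≠ t := by
    by_contra hcon
    have hall : ∀ n ∈ Subgroup.normalizer ((P : Subgroup G) : Set G), n * t * n⁻¹ = t := by
      intro n hn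
      by_contra h
      exact hcon ⟨n, hn, h⟩
    have hGperf : commutator G = ⊤ := commutator_eq_top_of_simple (by
      intro h; exact hG ⟨⟨h⟩⟩)
    have hfoc := Subgroup.commutator_inf_eq_focalSubgroup P
    rw [hGperf, top_inf_eq] at hfoc
    have hnorm' : ∀ w ∈ Subgroup.zpowers t, ∀ e1 ∈ E, w * e1 * w⁻¹ ∈ E := by
      intro w hw e1 he1
      rw [hE3 w hw e1 he1, mul_inv_cancel_right]; exact he1
    have hle : (P : Subgroup G).focalSubgroup ≤ E := by
      rw [Subgroup.focalSubgroup_def, Subgroup.closure_le]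
      rintro g ⟨hgP, x, hxP, u, rfl⟩
      have h1 : (u⁻¹)⁻¹ * x⁻¹ * u⁻¹ ∈ (P : Subgroup G) := by
        have : (u⁻¹)⁻¹ * x⁻¹ * u⁻¹ = x⁻¹ * ⁅x, u⁆ := by
          rw [commutatorElement_def]; group
        rw [this]
        exact (P : Subgroup G).mul_mem ((P : Subgroup G).inv_mem hxP) hgP
      have hcommP : IsMulCommutative ↥(P : Subgroup G) := hab P
      obtain ⟨n, hn, hn2⟩ := P.conj_eq_normalizer_conj_of_mem x⁻¹ u⁻¹
        ((P : Subgroup G).inv_mem hxP) h1
      have hcomm_eq : ⁅x, u⁆ = ⁅x, n⁻¹⁆ := by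
        rw [commutatorElement_def, commutatorElement_def]
        calc x * u * x⁻¹ * u⁻¹ = x * ((u⁻¹)⁻¹ * x⁻¹ * u⁻¹) := by group
          _ = x * (n⁻¹ * x⁻¹ * n) := by rw [hn2]
          _ = x * n⁻¹ * x⁻¹ * (n⁻¹)⁻¹ := by group
      rw [SetLike.mem_coe, hcomm_eq]
      have hxC : x ∈ E ⊔ Subgroup.zpowers t := by
        rw [sup_comm, hE5, Subgroup.mem_centralizer_iff]
        intro h hh
        rw [Set.mem_singleton_iff] at hh
        rw [hh]
        exact hPcomm t htP x hxP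
      have hnC : n⁻¹ ∈ E ⊔ Subgroup.zpowers t := by
        rw [sup_comm, hE5, Subgroup.mem_centralizer_iff]
        intro h hh
        rw [Set.mem_singleton_iff] at hh
        rw [hh]
        have h3 := hall n⁻¹ (Subgroup.inv_mem _ hn)
        calc t * n⁻¹ = (n⁻¹ * t * n⁻¹⁻¹) * n⁻¹ := by rw [h3]
          _ = n⁻¹ * t := by group
      obtain ⟨e1, he1, w1, hw1, rfl⟩ :=
        exists_mul_of_mem_sup E (Subgroup.zpowers t) hnorm' x hxC
      obtain ⟨e2, he2, w2, hw2, hn_eq⟩ :=
        exists_mul_of_mem_sup E (Subgroup.zpowers t) hnorm' n⁻¹ hnC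
      rw [hn_eq]
      have hw12 : w1 * w2 = w2 * w1 := by
        obtain ⟨a, rfl⟩ := Subgroup.mem_zpowers_iff.mp hw1
        obtain ⟨b, rfl⟩ := Subgroup.mem_zpowers_iff.mp hw2
        exact ((Commute.refl t).zpow_zpow a b).eq
      have hc1 : w1 * (e2 * w2) = (e2 * w2) * w1 := by
        rw [← mul_assoc, hE3 w1 hw1 e2 he2, mul_assoc, hw12, mul_assoc]
      rw [commutatorElement_mul_comm_left e1 (e2 * w2) w1 hc1,
        commutatorElement_mul_comm_right e1 e2 w2 (hE3 w2 hw2 e1 he1), commutatorElement_def]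
      exact E.mul_mem (E.mul_mem (E.mul_mem he1 he2) (E.inv_mem he1)) (E.inv_mem he2)
    have htE' : t ∈ E := hle (by rw [← hfoc]; exact htP)
    have : t ∈ Subgroup.zpowers t ⊓ E := ⟨Subgroup.mem_zpowers t, htE'⟩
    rw [hE4, Subgroup.mem_bot] at this
    exact ht1 this
  obtain ⟨n, hn, hnt⟩ := hfus
  exact ⟨P, N', Q, n, htP, htt, hperf, htN', hQN, hQP, hQ4, hPQ, htQ, hn, hnt⟩

end main

/-- Let G be a non-abelian finite simple group with abelian Sylow 2-subgroups, and let t be an involution of G whose centralizer is a maximal subgroup of G and is the direct product of the subgroup generated by t with a subgroup E having a normal subgroup isomorphic to PSL(2, q), q odd and greater than 3, with trivial centralizer in E. Then every finite perfect group having a central 2-subgroup with quotient isomorphic to G has that central subgroup trivial (G has no nontrivial perfect central extension by a 2-group), and every automorphism of G of 2-power order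 that fixes every element of some Sylow 2-subgroup of G is inner. -/
theorem result {G : Type*} [Group G] [Finite G] [IsSimpleGroup G]
    (hG : ¬ IsMulCommutative G) (hab : ∀ S : Sylow 2 G, IsMulCommutative ↥(S : Subgroup G))
    (t : G) (ht : orderOf t = 2) (hmax : IsCoatom (Subgroup.centralizer ({t} : Set G)))
    (E : Subgroup G) (hE : Cfsg.IsInternalDirectProduct (Subgroup.zpowers t) E (Subgroup.centralizer ({t} : Set G)))
    {F : Type*} [Field F] [Fintype F] (hFo : Odd (Fintype.card F)) (hF3 : 3 < Fintype.card F)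
    (N : Subgroup ↥E) [N.Normal] (hN : Nonempty (↥N ≃* Matrix.ProjectiveSpecialLinearGroup (Fin 2) F))
    (hNc : Subgroup.centralizer (N : Set ↥E) = ⊥) :
    (∀ (L : Type) (_ : Group L) (_ : Finite L) (Z : Subgroup L) (_ : Z.Normal), commutator L = ⊤ → Z ≤ Subgroup.center L →
        IsPGroup 2 ↥Z → Nonempty (L ⧸ Z ≃* G) → Z = ⊥) ∧
    (∀ (φ : G ≃* G) (k : ℕ), φ ^ (2 ^ k) = 1 → (∃ S : Sylow 2 G, ∀ s ∈ (S : Subgroup G), φ s = s) →
        ∃ g : G, ∀ x : G, φ x = g * x * g⁻¹) := by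
  classical
  have hfact : Fact (Nat.Prime 2) := ⟨Nat.prime_two⟩
  obtain ⟨P, N', Q, n, htP, htt, hperf, htN', hQN, hQP, hQ4, hPQ, htQ, hn, hnt⟩ :=
    exists_data hG hab t ht E hE hFo hF3 N hN hNc
  refine ⟨?_, ?_⟩
  · intro L _ _ Z _ hLperf hZc hZ2 ⟨iso⟩
    obtain ⟨σ, hσdef⟩ : ∃ σ : L →* G, σ = iso.toMonoidHom.comp (QuotientGroup.mk' Z) := ⟨_, rfl⟩
    have hker : σ.ker = Z := by
      ext x
      rw [MonoidHom.mem_ker, hσdef]
      show iso (QuotientGroup.mk' Z x) = 1 ↔ x ∈ Z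
      rw [map_eq_one_iff iso iso.injective]
      exact QuotientGroup.eq_one_iff x
    have hσ : IsStemExtension σ := by
      refine ⟨?_, ?_, ?_⟩
      · rw [hσdef]
        exact iso.surjective.comp (QuotientGroup.mk'_surjective Z)
      · rw [hker]; exact hZc
      · rw [hLperf]; exact le_top
    obtain ⟨k, hk⟩ := IsPGroup.iff_card.mp hZ2
    rw [← hker]
    apply ker_eq_bot_of_exponent_two σ hσ k
    · intro a ha
      rw [hker] at ha
      have h1 : (⟨a, ha⟩ : ↥Z) ^ Nat.card ↥Z = 1 := pow_card_eq_one'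
      rw [hk] at h1
      exact congrArg Subtype.val h1
    · intro Γ' _ _ σ' hσ' hexp
      exact ker_eq_bot_of_fused_involution σ' hσ' hexp P t htP htt N' hperf htN' Q hQN hQP hQ4
        hPQ htQ n hn hnt
  · intro φ k hφ ⟨S, hS⟩
    have heven : 2 ∣ Nat.card G := by
      rw [← ht]; exact orderOf_dvd_natCard t
    have hcore : Cfsg.pPrimeCore 2 G = ⊥ := pPrimeCore_eq_bot_of_simple heven
    have h2 : ∃ j : ℕ, orderOf φ = 2 ^ j := by
      obtain ⟨j, -, hj⟩ := (Nat.dvd_prime_pow Nat.prime_two).mp (orderOf_dvd_of_pow_eq_one hφ)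
      exact ⟨j, hj⟩
    obtain ⟨g, -, hg⟩ :=
      Cfsg.Agent.Lib.Helper73_AutSylow.inner_of_fix_abelian_sylow hcore S (hab S) φ h2 hS
    exact ⟨g, hg⟩

end Cfsg.Agent.S3206
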