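import Mathlib
import Cfsg.Statements.S3208

set_option autoImplicit false
open Cfsg

namespace Cfsg.Agent.S3208

/-- conjugation by a normalizing element as an automorphism of the subgroup -/
def conjAut {G : Type*} [Group G] (T : Subgroup G) (g : G)
    (hg : g ∈ Subgroup.normalizer (T : Set G)) : ↥T ≃* ↥T where
  toFun t := ⟨g * t * g⁻¹, (Subgroup.mem_normalizer_iff.mp hg t).1 t.2⟩
  invFun t := ⟨g⁻¹ * t * g, (Subgroup.mem_normalizer_iff''.mp hg t).1 t.2⟩
  left_inv t := by ext; simp [mul_assoc]
  right_inv t := by ext; simp [mul_assoc]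
  map_mul' a b := by ext; simp [mul_assoc]

theorem mem_zpowers_of_order_two {G : Type*} [Group G] (j x : G) (hj : orderOf j = 2)
    (hx : x ∈ Subgroup.zpowers j) : x = 1 ∨ x = j := by
  obtain ⟨k, rfl⟩ := Subgroup.mem_zpowers_iff.mp hx
  have hj2 : j ^ (2 : ℤ) = 1 := by
    have := pow_orderOf_eq_one j
    rw [hj] at this
    exact_mod_cast this
  rcases Int.even_or_odd' k with ⟨m, hm | hm⟩
  · left
    rw [hm, zpow_mul, hj2, one_zpow]
  · right
    rw [hm, zpow_add, zpow_mul, hj2, one_zpow, one_mul, zpow_one]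

theorem dvd_relIndex_normalizer {H : Type*} [Group H] [Finite H] {p : ℕ} [Fact p.Prime]
    (T : Subgroup H) (hT : IsPGroup p T) (hdvd : p ∣ T.index) :
    p ∣ T.relIndex (Subgroup.normalizer (T : Set H)) := by
  obtain ⟨n, hn⟩ := IsPGroup.iff_card.mp hT
  have h := Sylow.card_quotient_normalizer_modEq_card_quotient (p := p) hn
  have h1 : Nat.card (H ⧸ T) = T.index := rfl
  rw [h1] at h
  have h2 : Nat.card (↥(Subgroup.normalizer (T : Set H)) ⧸
      T.comap (Subgroup.normalizer (T : Set H)).subtype) =
      T.relIndex (Subgroup.normalizer (T : Set H)) := rfl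
  rw [h2] at h
  exact (Nat.modEq_zero_iff_dvd.mp (h.trans (Nat.modEq_zero_iff_dvd.mpr hdvd)))

/-- Let j be an involution of a finite group G, H a subgroup of G, and T a Sylow 2-subgroup of H ∩ C_G(j) containing j such that ⟨j⟩ is a characteristic subgroup of T. Then T is a Sylow 2-subgroup of H. -/
theorem result {G : Type*} [Group G] [Finite G]
    (j : G) (hj : orderOf j = 2) (H T : Subgroup G) (hT : T ≤ H ⊓ Subgroup.centralizer ({j} : Set G)) (h2 : IsPGroup 2 ↥T)
    (hSyl : ¬ 2 ∣ T.relIndex (H ⊓ Subgroup.centralizer ({j} : Set G))) (hjT : j ∈ T)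
    (hchar : ((Subgroup.zpowers j).subgroupOf T).Characteristic) :
    ¬ 2 ∣ T.relIndex H := by
  intro hdvd
  apply hSyl
  haveI : Fact (Nat.Prime 2) := ⟨Nat.prime_two⟩
  have hTH : T ≤ H := hT.trans inf_le_left
  have hj1 : j ≠ 1 := by
    intro h
    rw [h, orderOf_one] at hj
    omega
  -- the normalizer of T lies in the centralizer of j
  have hN : Subgroup.normalizer (T : Set G) ≤ Subgroup.centralizer ({j} : Set G) := by
    intro g hg
    have hfix := hchar.fixed (conjAut T g hg)
    have hmem : (⟨j, hjT⟩ : ↥T) ∈ (Subgroup.zpowers j).subgroupOf T := by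
      rw [Subgroup.mem_subgroupOf]
      exact Subgroup.mem_zpowers j
    rw [← hfix] at hmem
    rw [Subgroup.mem_comap, Subgroup.mem_subgroupOf] at hmem
    have hmem' : g * j * g⁻¹ ∈ Subgroup.zpowers j := hmem
    rw [Subgroup.mem_centralizer_iff]
    intro y hy
    rw [Set.mem_singleton_iff] at hy
    subst hy
    rcases mem_zpowers_of_order_two y _ hj hmem' with h | h
    · exfalso
      apply hj1
      have : y = g⁻¹ * (g * y * g⁻¹) * g := by group
      rw [this, h]; group
    · calc y * g = (g * y * g⁻¹) * g := by rw [h]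
        _ = g * y := by group
  -- work inside H
  set T' : Subgroup ↥H := T.subgroupOf H with hT'
  have hT'p : IsPGroup 2 ↥T' :=
    h2.of_equiv (Subgroup.subgroupOfEquivOfLe hTH).symm
  have hidx : T'.index = T.relIndex H := rfl
  have h3 := dvd_relIndex_normalizer T' hT'p (by rw [hidx]; exact hdvd)
  -- normalizer of T' in H is inside D'
  set D : Subgroup G := H ⊓ Subgroup.centralizer ({j} : Set G) with hD
  have hDH : D ≤ H := inf_le_left
  have hND : Subgroup.normalizer (T' : Set ↥H) ≤ D.subgroupOf H := by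
    intro x hx
    rw [Subgroup.mem_subgroupOf]
    refine ⟨x.2, hN ?_⟩
    rw [Subgroup.mem_normalizer_iff] at hx ⊢
    intro h
    constructor
    · intro hh
      have := (hx ⟨h, hTH hh⟩).1 (by rw [hT', Subgroup.mem_subgroupOf]; exact hh)
      rw [hT', Subgroup.mem_subgroupOf] at this
      simpa using this
    · intro hh
      have hhH : h ∈ H := by
        have h5 : (x : G) * h * (x : G)⁻¹ ∈ H := hTH hh
        have : h = (x : G)⁻¹ * ((x : G) * h * (x : G)⁻¹) * (x : G) := by group
        rw [this]
        exact H.mul_mem (H.mul_mem (H.inv_mem x.2) h5) x.2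
      have := (hx ⟨h, hhH⟩).2 (by rw [hT', Subgroup.mem_subgroupOf]; simpa using hh)
      rw [hT', Subgroup.mem_subgroupOf] at this
      exact this
  have h4 : T'.relIndex (Subgroup.normalizer (T' : Set ↥H)) ∣ T'.relIndex (D.subgroupOf H) := by
    have := Subgroup.relIndex_mul_relIndex T' (Subgroup.normalizer (T' : Set ↥H)) (D.subgroupOf H)
      Subgroup.le_normalizer hND
    exact Dvd.intro _ this
  have h5 : T'.relIndex (D.subgroupOf H) = T.relIndex D := Subgroup.relIndex_subgroupOf hDH
  rw [← h5]
  exact h3.trans h4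

end Cfsg.Agent.S3208
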