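import Mathlib
import Cfsg.Statements.S3209
import Cfsg.Agent.Lib.Helper53_SL2

set_option autoImplicit false
open Cfsg

namespace Cfsg.Agent.S3209

open Cfsg.Agent.Lib.Helper53_SL2

variable {G : Type*} [Group G]

theorem mem_zpowers_of_order_two (j x : G) (hj : orderOf j = 2)
    (hx : x ∈ Subgroup.zpowers j) : x = 1 ∨ x = j := by
  obtain ⟨k, rfl⟩ := Subgroup.mem_zpowers_iff.mp hx
  have hj2 : j ^ (2 : ℤ) = 1 := by
    have := pow_orderOf_eq_one j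
    rw [hj] at this
    exact_mod_cast this
  rcases Int.even_or_odd' k with ⟨m, hm | hm⟩
  · left
    rw [hm, zpow_mul, hj2, one_zpow]
  · right
    rw [hm, zpow_add, zpow_mul, hj2, one_zpow, one_mul, zpow_one]

/-- the properties of a subgroup `L ≅ SL₂(odd)` with central involution `j` that we use -/
structure QL (L : Subgroup G) (j : G) : Prop where
  mem : j ∈ L
  invol : ∀ g ∈ L, g * g = 1 → g = 1 ∨ g = j
  exists_sqrt : ∃ u ∈ L, u * u = j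
  conj : ∀ u ∈ L, ∀ v ∈ L, u * u = j → v * v = j → ∃ g ∈ L, g * u * g⁻¹ = v

theorem mkQL {F : Type*} [Field F] [Fintype F] (hF : Odd (Fintype.card F)) (L : Subgroup G)
    (e : ↥L ≃* Matrix.SpecialLinearGroup (Fin 2) F) (j : G) (hj : orderOf j = 2) (hjL : j ∈ L) :
    QL L j := by
  have hF' : Fintype.card F % 2 = 1 := Nat.odd_iff.mp hF
  have h2 : (2 : F) ≠ 0 := two_ne_zero_of_card_odd hF'
  have hj1 : j ≠ 1 := by
    intro h
    rw [h, orderOf_one] at hj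
    omega
  have hjj : j * j = 1 := by
    have := pow_orderOf_eq_one j
    rwa [hj, pow_two] at this
  -- e ⟨j, _⟩ = negOne
  have hej : e ⟨j, hjL⟩ = negOne := by
    have h1 : e ⟨j, hjL⟩ * e ⟨j, hjL⟩ = 1 := by
      rw [← map_mul]
      have : (⟨j, hjL⟩ : ↥L) * ⟨j, hjL⟩ = 1 := Subtype.ext hjj
      rw [this, map_one]
    rcases eq_one_or_negOne_of_mul_self h2 _ h1 with h | h
    · exfalso
      apply hj1
      have : (⟨j, hjL⟩ : ↥L) = 1 := e.injective (by rw [h, map_one])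
      exact congrArg Subtype.val this
    · exact h
  refine ⟨hjL, ?_, ?_, ?_⟩
  · intro g hg hgg
    have h1 : e ⟨g, hg⟩ * e ⟨g, hg⟩ = 1 := by
      rw [← map_mul]
      have : (⟨g, hg⟩ : ↥L) * ⟨g, hg⟩ = 1 := Subtype.ext hgg
      rw [this, map_one]
    rcases eq_one_or_negOne_of_mul_self h2 _ h1 with h | h
    · left
      have : (⟨g, hg⟩ : ↥L) = 1 := e.injective (by rw [h, map_one])
      exact congrArg Subtype.val this
    · right
      have : (⟨g, hg⟩ : ↥L) = ⟨j, hjL⟩ := e.injective (by rw [h, hej])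
      exact congrArg Subtype.val this
  · refine ⟨(e.symm wElt : ↥L), (e.symm wElt).2, ?_⟩
    have : e.symm wElt * e.symm wElt = (⟨j, hjL⟩ : ↥L) := by
      apply e.injective
      rw [map_mul, e.apply_symm_apply, wElt_mul_self, hej]
    exact congrArg Subtype.val this
  · intro u hu v hv huu hvv
    have h1 : e ⟨u, hu⟩ * e ⟨u, hu⟩ = negOne := by
      rw [← map_mul, ← hej]
      congr 1
      exact Subtype.ext huu
    have h1' : e ⟨v, hv⟩ * e ⟨v, hv⟩ = negOne := by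
      rw [← map_mul, ← hej]
      congr 1
      exact Subtype.ext hvv
    obtain ⟨P, hP⟩ := exists_conj_of_mul_self_eq_negOne hF' h2 _ h1
    obtain ⟨Q, hQ⟩ := exists_conj_of_mul_self_eq_negOne hF' h2 _ h1'
    refine ⟨(e.symm (Q * P⁻¹) : ↥L), (e.symm (Q * P⁻¹)).2, ?_⟩
    have : e.symm (Q * P⁻¹) * ⟨u, hu⟩ * (e.symm (Q * P⁻¹))⁻¹ = (⟨v, hv⟩ : ↥L) := by
      apply e.injective
      rw [map_mul, map_mul, map_inv, e.apply_symm_apply, ← hP, ← hQ]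
      group
    exact congrArg Subtype.val this

theorem main (L₁ L₂ : Subgroup G) (j : G) (hj : orderOf j = 2)
    (h₁ : QL L₁ j) (h₂ : QL L₂ j)
    (hc : ∀ x ∈ L₁, ∀ y ∈ L₂, x * y = y * x) (hm : L₁ ⊓ L₂ = Subgroup.zpowers j) :
    ∃ x ∈ L₁ ⊔ L₂, orderOf x = 2 ∧ x ≠ j ∧
      ∀ y ∈ L₁ ⊔ L₂, orderOf y = 2 → y = j ∨ ∃ g ∈ L₁ ⊔ L₂, g * x * g⁻¹ = y := by
  have hj1 : j ≠ 1 := by
    intro h
    rw [h, orderOf_one] at hj
    omega
  have hjj : j * j = 1 := by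
    have := pow_orderOf_eq_one j
    rwa [hj, pow_two] at this
  have hjinv : j⁻¹ = j := inv_eq_of_mul_eq_one_left hjj
  have hinter : ∀ x, x ∈ L₁ → x ∈ L₂ → x = 1 ∨ x = j := by
    intro x h1 h2
    apply mem_zpowers_of_order_two j x hj
    rw [← hm]
    exact ⟨h1, h2⟩
  obtain ⟨u₁, hu₁, hu₁j⟩ := h₁.exists_sqrt
  obtain ⟨u₂, hu₂, hu₂j⟩ := h₂.exists_sqrt
  have hu₁not : u₁ ∉ L₂ := by
    intro h
    rcases hinter u₁ hu₁ h with h' | h'
    · rw [h', one_mul] at hu₁j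
      exact hj1 hu₁j.symm
    · rw [h', hjj] at hu₁j
      exact hj1 hu₁j.symm
  have hord : ∀ x : G, x * x = 1 → x ≠ 1 → orderOf x = 2 := by
    intro x hxx hx1
    have : x ^ 2 = 1 := by rw [pow_two]; exact hxx
    exact orderOf_eq_prime this hx1
  refine ⟨u₁ * u₂, Subgroup.mul_mem_sup hu₁ hu₂, ?_, ?_, ?_⟩
  · apply hord
    · calc u₁ * u₂ * (u₁ * u₂) = u₁ * (u₂ * u₁) * u₂ := by group
        _ = u₁ * (u₁ * u₂) * u₂ := by rw [hc u₁ hu₁ u₂ hu₂]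
        _ = (u₁ * u₁) * (u₂ * u₂) := by group
        _ = 1 := by rw [hu₁j, hu₂j, hjj]
    · intro h
      apply hu₁not
      have : u₁ = u₂⁻¹ := eq_inv_of_mul_eq_one_left h
      rw [this]
      exact L₂.inv_mem hu₂
  · intro h
    apply hu₁not
    have : u₁ = j * u₂⁻¹ := by rw [← h]; group
    rw [this]
    exact L₂.mul_mem h₂.mem (L₂.inv_mem hu₂)
  · intro y hy hyo
    -- decompose y
    have hnorm : L₁ ≤ Subgroup.normalizer (L₂ : Set G) := by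
      intro a ha
      rw [Subgroup.mem_normalizer_iff]
      intro b
      constructor
      · intro hb
        rw [hc a ha b hb]
        simpa using hb
      · intro hb
        have h3 := hc a⁻¹ (L₁.inv_mem ha) _ hb
        have h4 : b = a⁻¹ * (a * b * a⁻¹) * a := by group
        rw [h4, h3]
        simpa using hb
    have hy' : y ∈ ((L₁ ⊔ L₂ : Subgroup G) : Set G) := hy
    rw [Subgroup.coe_mul_of_left_le_normalizer_right L₁ L₂ hnorm, Set.mem_mul] at hy'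
    obtain ⟨y₁, hy₁, y₂, hy₂, rfl⟩ := hy'
    have hy₁' : y₁ ∈ L₁ := hy₁
    have hy₂' : y₂ ∈ L₂ := hy₂
    have hy1 : y₁ * y₂ ≠ 1 := by
      intro h
      rw [h, orderOf_one] at hyo
      omega
    have hyy : (y₁ * y₁) * (y₂ * y₂) = 1 := by
      have h5 : (y₁ * y₂) ^ 2 = 1 := by
        rw [← hyo]; exact pow_orderOf_eq_one _
      rw [pow_two] at h5
      calc (y₁ * y₁) * (y₂ * y₂) = y₁ * (y₁ * y₂) * y₂ := by group
        _ = y₁ * (y₂ * y₁) * y₂ := by rw [hc y₁ hy₁' y₂ hy₂']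
        _ = (y₁ * y₂) * (y₁ * y₂) := by group
        _ = 1 := h5
    have hsq : y₁ * y₁ = (y₂ * y₂)⁻¹ := eq_inv_of_mul_eq_one_left hyy
    have hsq2 : y₁ * y₁ ∈ L₂ := by
      rw [hsq]; exact L₂.inv_mem (L₂.mul_mem hy₂' hy₂')
    rcases hinter _ (L₁.mul_mem hy₁' hy₁') hsq2 with h | h
    · -- y₁² = 1
      left
      have h' : y₂ * y₂ = 1 := by
        rw [h, one_mul] at hyy; exact hyy
      rcases h₁.invol y₁ hy₁' h with ha | ha <;> rcases h₂.invol y₂ hy₂' h' with hb | hb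
      · exfalso; apply hy1; rw [ha, hb, one_mul]
      · rw [ha, hb, one_mul]
      · rw [ha, hb, mul_one]
      · exfalso; apply hy1; rw [ha, hb, hjj]
    · -- y₁² = j
      right
      have h' : y₂ * y₂ = j := by
        have : y₂ * y₂ = (y₁ * y₁)⁻¹ := by rw [hsq, inv_inv]
        rw [this, h, hjinv]
      obtain ⟨g₁, hg₁, hg₁c⟩ := h₁.conj u₁ hu₁ y₁ hy₁' hu₁j h
      obtain ⟨g₂, hg₂, hg₂c⟩ := h₂.conj u₂ hu₂ y₂ hy₂' hu₂j h'
      refine ⟨g₁ * g₂, Subgroup.mul_mem_sup hg₁ hg₂, ?_⟩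
      rw [← hg₁c, ← hg₂c]
      have e1 : g₂ * u₁ = u₁ * g₂ := (hc u₁ hu₁ g₂ hg₂).symm
      have e2 : g₂⁻¹ * g₁⁻¹ = g₁⁻¹ * g₂⁻¹ := (hc g₁⁻¹ (L₁.inv_mem hg₁) g₂⁻¹ (L₂.inv_mem hg₂)).symm
      have e3 : u₂ * g₁⁻¹ = g₁⁻¹ * u₂ := (hc g₁⁻¹ (L₁.inv_mem hg₁) u₂ hu₂).symm
      have e4 : g₂ * g₁⁻¹ = g₁⁻¹ * g₂ := (hc g₁⁻¹ (L₁.inv_mem hg₁) g₂ hg₂).symm
      calc g₁ * g₂ * (u₁ * u₂) * (g₁ * g₂)⁻¹
          = g₁ * (g₂ * u₁) * u₂ * (g₂⁻¹ * g₁⁻¹) := by group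
        _ = g₁ * (u₁ * g₂) * u₂ * (g₁⁻¹ * g₂⁻¹) := by rw [e1, e2]
        _ = g₁ * u₁ * g₂ * (u₂ * g₁⁻¹) * g₂⁻¹ := by group
        _ = g₁ * u₁ * (g₂ * g₁⁻¹) * u₂ * g₂⁻¹ := by rw [e3]; group
        _ = g₁ * u₁ * (g₁⁻¹ * g₂) * u₂ * g₂⁻¹ := by rw [e4]
        _ = g₁ * u₁ * g₁⁻¹ * (g₂ * u₂ * g₂⁻¹) := by group

/-- Let L₁ ≅ SL₂(q₁) and L₂ ≅ SL₂(q₂), q₁ and q₂ odd, be elementwise-commuting subgroups of a finite group meeting in ⟨j⟩ for an involution j. Then L₁L₂ has exactly two conjugacy classes of involutions: the central involution j, and one further class (there is an involution x ≠ j in L₁L₂, and every involution of L₁L₂ other than j is conjugate to x by an element of L₁L₂). -/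
theorem result {G : Type*} [Group G] [Finite G]
    {F₁ : Type*} [Field F₁] [Fintype F₁] {F₂ : Type*} [Field F₂] [Fintype F₂]
    (hF₁ : Odd (Fintype.card F₁)) (hF₂ : Odd (Fintype.card F₂)) (L₁ L₂ : Subgroup G)
    (e₁ : ↥L₁ ≃* Matrix.SpecialLinearGroup (Fin 2) F₁) (e₂ : ↥L₂ ≃* Matrix.SpecialLinearGroup (Fin 2) F₂)
    (hc : ∀ x ∈ L₁, ∀ y ∈ L₂, x * y = y * x) (j : G) (hj : orderOf j = 2) (hm : L₁ ⊓ L₂ = Subgroup.zpowers j) :
    ∃ x ∈ L₁ ⊔ L₂, orderOf x = 2 ∧ x ≠ j ∧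
      ∀ y ∈ L₁ ⊔ L₂, orderOf y = 2 → y = j ∨ ∃ g ∈ L₁ ⊔ L₂, g * x * g⁻¹ = y := by
  have hjm : j ∈ L₁ ⊓ L₂ := by rw [hm]; exact Subgroup.mem_zpowers j
  exact main L₁ L₂ j hj (mkQL hF₁ L₁ e₁ j hj hjm.1) (mkQL hF₂ L₂ e₂ j hj hjm.2) hc hm

end Cfsg.Agent.S3209
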