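import Cfsg.Statements.S3210
import Mathlib
import Cfsg.Agent.S3209
import Cfsg.Agent.Lib.Helper50_SL2Mat
import Cfsg.Agent.Lib.Helper5_PSLCard
import Cfsg.Agent.Lib.Helper65_CommPair

set_option autoImplicit false
open Cfsg

namespace Cfsg.Agent.S3210

open Cfsg.Agent.Lib.Helper65_CommPair Cfsg.Agent.Lib.Helper50_SL2Mat
open scoped MatrixGroups

section SLfacts

variable {F : Type*} [Field F]

theorem isScalar_mul_self {g : SL(2, F)} (hg : IsScalar g) : g * g = 1 := by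
  have hs := hg.sq
  obtain ⟨g1, g2, g3⟩ := hg
  apply ext4 <;> simp only [mul00, mul01, mul10, mul11, one00, one01, one10, one11, g1, g2]
  · rw [hs]; ring
  · ring
  · ring
  · rw [← g3, hs]; ring

theorem transvection_pow {i k : Fin 2} (h : i ≠ k) (c : F) (m : ℕ) :
    (Matrix.SpecialLinearGroup.transvection h c) ^ m =
      Matrix.SpecialLinearGroup.transvection h ((m : F) * c) := by
  induction m with
  | zero => simp
  | succ m ih =>
    rw [pow_succ, ih, ← Matrix.SpecialLinearGroup.transvection_add]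
    congr 1
    push_cast; ring

theorem tU_tL_ne : (tU (1 : F)) * tL 1 ≠ tL 1 * tU 1 := by
  intro h
  have := congrArg (fun g : SL(2, F) => g 0 0) h
  simp only [mul00, tU00, tU01, tL00, tL10, tL01, tU10] at this
  have h1 : (1 : F) = 0 := by linear_combination this
  exact one_ne_zero h1

end SLfacts

section transfer

variable {G : Type*} [Group G] {F : Type*} [Field F]

theorem centComm_of_equiv (L : Subgroup G) (e : ↥L ≃* SL(2, F)) (j : G)
    (hinv : ∀ g ∈ L, g * g = 1 → g = 1 ∨ g = j) : CentComm L j := by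
  intro a ha
  by_cases hs : IsScalar (e ⟨a, ha⟩)
  · left
    apply hinv a ha
    have h1 := isScalar_mul_self hs
    rw [← map_mul] at h1
    have h2 : (⟨a, ha⟩ : ↥L) * ⟨a, ha⟩ = 1 := e.injective (by rw [h1, map_one])
    exact congrArg (fun x : ↥L => (x : G)) h2
  · right
    intro c hc c' hc' h1 h2
    have k1 : Commute (e ⟨c, hc⟩) (e ⟨a, ha⟩) := by
      unfold Commute SemiconjBy
      rw [← map_mul, ← map_mul]
      congr 1
      exact Subtype.ext h1
    have k2 : Commute (e ⟨a, ha⟩) (e ⟨c', hc'⟩) := by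
      unfold Commute SemiconjBy
      rw [← map_mul, ← map_mul]
      congr 1
      exact Subtype.ext h2.symm
    have k3 := commute_trans hs k1 k2
    unfold Commute SemiconjBy at k3
    rw [← map_mul, ← map_mul] at k3
    have k4 := e.injective k3
    exact congrArg (fun x : ↥L => (x : G)) k4

theorem oddGen_of_equiv [Fintype F] (hF : Odd (Fintype.card F)) (L : Subgroup G)
    (e : ↥L ≃* SL(2, F)) : OddGen L := by
  intro P hP
  have key : ∀ A : SL(2, F), ((e.symm A : ↥L) : G) ∈ P := by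
    intro A
    refine Matrix.SL2.transvection_induction (fun A => ((e.symm A : ↥L) : G) ∈ P) ?_ ?_ A
    · intro i k h c
      apply hP _ (e.symm _).2
      refine ⟨Fintype.card F, hF, ?_⟩
      have h1 : (Matrix.SpecialLinearGroup.transvection h c) ^ (Fintype.card F) = 1 := by
        rw [transvection_pow, Nat.cast_card_eq_zero F, zero_mul,
          Matrix.SpecialLinearGroup.transvection_coeff_zero]
      have h2 : (e.symm (Matrix.SpecialLinearGroup.transvection h c)) ^ (Fintype.card F) = 1 := by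
        rw [← map_pow, h1, map_one]
      have h3 := congrArg (fun x : ↥L => (x : G)) h2
      simpa using h3
    · intro A B hA hB
      have : ((e.symm (A * B) : ↥L) : G) = ((e.symm A : ↥L) : G) * ((e.symm B : ↥L) : G) := by
        rw [map_mul]; rfl
      rw [this]
      exact P.mul_mem hA hB
  intro x hx
  have := key (e ⟨x, hx⟩)
  simpa using this

theorem nonComm_of_equiv (L : Subgroup G) (e : ↥L ≃* SL(2, F)) : NonComm L := by
  refine ⟨(e.symm (tU 1) : ↥L), (e.symm (tU 1)).2, (e.symm (tL 1) : ↥L), (e.symm (tL 1)).2, ?_⟩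
  intro h
  have h1 : e.symm (tU (1 : F)) * e.symm (tL 1) = e.symm (tL 1) * e.symm (tU 1) := Subtype.ext h
  rw [← map_mul, ← map_mul] at h1
  exact tU_tL_ne (e.symm.injective h1)

end transfer

section conj

variable {G : Type*} [Group G]

theorem mem_conj_map (L : Subgroup G) (n y : G) :
    y ∈ L.map (MulAut.conj n).toMonoidHom ↔ n⁻¹ * y * n ∈ L := by
  rw [Subgroup.mem_map]
  constructor
  · rintro ⟨x, hx, rfl⟩
    have : n⁻¹ * ((MulAut.conj n).toMonoidHom x) * n = x := by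
      simp [MulAut.conj_apply]
      group
    rw [this]; exact hx
  · intro h
    refine ⟨n⁻¹ * y * n, h, ?_⟩
    simp [MulAut.conj_apply]
    group

theorem conj_mem_conj_map (L : Subgroup G) (n x : G) (hx : x ∈ L) :
    n * x * n⁻¹ ∈ L.map (MulAut.conj n).toMonoidHom := by
  rw [mem_conj_map]
  have : n⁻¹ * (n * x * n⁻¹) * n = x := by group
  rw [this]; exact hx

theorem oddGen_conj (L : Subgroup G) (n : G) (h : OddGen L) :
    OddGen (L.map (MulAut.conj n).toMonoidHom) := by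
  intro P hP
  rw [Subgroup.map_le_iff_le_comap]
  apply h
  rintro t ht ⟨m, hm, htm⟩
  rw [Subgroup.mem_comap]
  have h1 : (MulAut.conj n).toMonoidHom t = n * t * n⁻¹ := by simp [MulAut.conj_apply]
  rw [h1]
  apply hP _ (conj_mem_conj_map L n t ht)
  refine ⟨m, hm, ?_⟩
  rw [conj_pow, htm]; group

theorem nonComm_conj (L : Subgroup G) (n : G) (h : NonComm L) :
    NonComm (L.map (MulAut.conj n).toMonoidHom) := by
  obtain ⟨x, hx, y, hy, hxy⟩ := h
  refine ⟨n * x * n⁻¹, conj_mem_conj_map L n x hx, n * y * n⁻¹, conj_mem_conj_map L n y hy, ?_⟩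
  intro h
  apply hxy
  have e1 : n * x * n⁻¹ * (n * y * n⁻¹) = n * (x * y) * n⁻¹ := by group
  have e2 : n * y * n⁻¹ * (n * x * n⁻¹) = n * (y * x) * n⁻¹ := by group
  rw [e1, e2] at h
  have := mul_left_cancel (mul_right_cancel h)
  exact this

end conj

theorem card_lt_of_lt {a b : ℕ} (ha : 1 ≤ a) (h : a < b) : a * (a ^ 2 - 1) < b * (b ^ 2 - 1) := by
  have h1 : a ^ 2 - 1 ≤ b ^ 2 - 1 := by
    have : a ^ 2 ≤ b ^ 2 := Nat.pow_le_pow_left h.le 2
    omega
  have h2 : 0 < b ^ 2 - 1 := by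
    have : 2 ≤ b := by omega
    have : 4 ≤ b ^ 2 := by nlinarith
    omega
  calc a * (a ^ 2 - 1) ≤ a * (b ^ 2 - 1) := Nat.mul_le_mul_left a h1
    _ < b * (b ^ 2 - 1) := Nat.mul_lt_mul_of_pos_right h h2

theorem card_inj {a b : ℕ} (ha : 1 ≤ a) (hb : 1 ≤ b) (h : a * (a ^ 2 - 1) = b * (b ^ 2 - 1)) :
    a = b := by
  rcases lt_trichotomy a b with h1 | h1 | h1
  · exact absurd h (card_lt_of_lt ha h1).ne
  · exact h1
  · exact absurd h.symm (card_lt_of_lt hb h1).ne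

/-- Let G be a finite group with subgroups L₁ ≅ SL₂(q₁) and L₂ ≅ SL₂(q₂), q₁ and q₂ odd prime powers, which commute elementwise and meet in ⟨j⟩ for an involution j, and suppose L₁L₂ has index 2 in C_G(j). Then every element n of C_G(j) outside L₁L₂ either normalizes both L₁ and L₂, or conjugates L₁ onto L₂; in the second case q₁ = q₂ and there is an element n′ of C_G(j) outside L₁L₂ conjugating L₁ onto L₂ with n′² ∈ ⟨j⟩. -/
theorem result {G : Type*} [Group G] [Finite G]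
    {F₁ : Type*} [Field F₁] [Fintype F₁] {F₂ : Type*} [Field F₂] [Fintype F₂]
    (hF₁ : Odd (Fintype.card F₁)) (hF₂ : Odd (Fintype.card F₂)) (L₁ L₂ : Subgroup G)
    (e₁ : ↥L₁ ≃* Matrix.SpecialLinearGroup (Fin 2) F₁) (e₂ : ↥L₂ ≃* Matrix.SpecialLinearGroup (Fin 2) F₂)
    (hc : ∀ x ∈ L₁, ∀ y ∈ L₂, x * y = y * x) (j : G) (hj : orderOf j = 2) (hm : L₁ ⊓ L₂ = Subgroup.zpowers j)
    (hle : L₁ ⊔ L₂ ≤ Subgroup.centralizer ({j} : Set G)) (hi : (L₁ ⊔ L₂).relIndex (Subgroup.centralizer ({j} : Set G)) = 2) (n : G) (hn : n ∈ Subgroup.centralizer ({j} : Set G)) (hn' : n ∉ L₁ ⊔ L₂) :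
    (L₁.map (MulAut.conj n).toMonoidHom = L₁ ∧ L₂.map (MulAut.conj n).toMonoidHom = L₂) ∨
      (L₁.map (MulAut.conj n).toMonoidHom = L₂ ∧ Fintype.card F₁ = Fintype.card F₂ ∧
        ∃ n' ∈ Subgroup.centralizer ({j} : Set G), n' ∉ L₁ ⊔ L₂ ∧ L₁.map (MulAut.conj n').toMonoidHom = L₂ ∧ n' ^ 2 ∈ Subgroup.zpowers j) := by
  classical
  -- basic facts on j
  have hj1 : j ≠ 1 := by
    intro h
    rw [h, orderOf_one] at hj
    omega
  have hjj : j * j = 1 := by
    have := pow_orderOf_eq_one j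
    rwa [hj, pow_two] at this
  have hjm : j ∈ L₁ ⊓ L₂ := by rw [hm]; exact Subgroup.mem_zpowers j
  have hj₁ : j ∈ L₁ := hjm.1
  have hj₂ : j ∈ L₂ := hjm.2
  have hinter : ∀ x, x ∈ L₁ → x ∈ L₂ → x = 1 ∨ x = j := by
    intro x h1 h2
    apply Cfsg.Agent.S3209.mem_zpowers_of_order_two j x hj
    rw [← hm]
    exact ⟨h1, h2⟩
  have hjc : ∀ x ∈ L₁ ⊔ L₂, x * j = j * x := by
    intro x hx
    have := hle hx
    rw [Subgroup.mem_centralizer_iff] at this
    exact (this j rfl).symm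
  have hQ₁ := Cfsg.Agent.S3209.mkQL hF₁ L₁ e₁ j hj hj₁
  have hQ₂ := Cfsg.Agent.S3209.mkQL hF₂ L₂ e₂ j hj hj₂
  have hC₁ : CentComm L₁ j := centComm_of_equiv L₁ e₁ j hQ₁.invol
  have hC₂ : CentComm L₂ j := centComm_of_equiv L₂ e₂ j hQ₂.invol
  have hG₁ : OddGen L₁ := oddGen_of_equiv hF₁ L₁ e₁
  have hG₂ : OddGen L₂ := oddGen_of_equiv hF₂ L₂ e₂
  have hN₁ : NonComm L₁ := nonComm_of_equiv L₁ e₁
  have hN₂ : NonComm L₂ := nonComm_of_equiv L₂ e₂
  -- normality of M in C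
  have hidx : ((L₁ ⊔ L₂).subgroupOf (Subgroup.centralizer ({j} : Set G))).index = 2 := hi
  have hnormal := Subgroup.normal_of_index_eq_two hidx
  have hconjM : ∀ g ∈ Subgroup.centralizer ({j} : Set G), ∀ x ∈ L₁ ⊔ L₂, g * x * g⁻¹ ∈ L₁ ⊔ L₂ := by
    intro g hg x hx
    have h1 : (⟨x, hle hx⟩ : ↥(Subgroup.centralizer ({j} : Set G))) ∈
        (L₁ ⊔ L₂).subgroupOf (Subgroup.centralizer ({j} : Set G)) := by
      rw [Subgroup.mem_subgroupOf]; exact hx
    have h2 := hnormal.conj_mem _ h1 ⟨g, hg⟩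
    rw [Subgroup.mem_subgroupOf] at h2
    exact h2
  have hsqM : ∀ g ∈ Subgroup.centralizer ({j} : Set G), g * g ∈ L₁ ⊔ L₂ := by
    intro g hg
    have h2 := Subgroup.mul_self_mem_of_index_two hidx ⟨g, hg⟩
    rw [Subgroup.mem_subgroupOf] at h2
    exact h2
  -- the conjugates
  set K₁ := L₁.map (MulAut.conj n).toMonoidHom with hK₁def
  set K₂ := L₂.map (MulAut.conj n).toMonoidHom with hK₂def
  have hK₁M : K₁ ≤ L₁ ⊔ L₂ := by
    intro y hy
    rw [hK₁def, Subgroup.mem_map] at hy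
    obtain ⟨x, hx, rfl⟩ := hy
    have h1 : (MulAut.conj n).toMonoidHom x = n * x * n⁻¹ := by simp [MulAut.conj_apply]
    rw [h1]
    exact hconjM n hn x (Subgroup.mem_sup_left hx)
  have hK₂M : K₂ ≤ L₁ ⊔ L₂ := by
    intro y hy
    rw [hK₂def, Subgroup.mem_map] at hy
    obtain ⟨x, hx, rfl⟩ := hy
    have h1 : (MulAut.conj n).toMonoidHom x = n * x * n⁻¹ := by simp [MulAut.conj_apply]
    rw [h1]
    exact hconjM n hn x (Subgroup.mem_sup_right hx)
  have hKc : ∀ x ∈ K₁, ∀ y ∈ K₂, x * y = y * x := by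
    intro x hx y hy
    rw [hK₁def, mem_conj_map] at hx
    rw [hK₂def, mem_conj_map] at hy
    have h1 := hc _ hx _ hy
    have e1 : n⁻¹ * x * n * (n⁻¹ * y * n) = n⁻¹ * (x * y) * n := by group
    have e2 : n⁻¹ * y * n * (n⁻¹ * x * n) = n⁻¹ * (y * x) * n := by group
    rw [e1, e2] at h1
    exact mul_left_cancel (mul_right_cancel h1)
  have hKc' : ∀ x ∈ K₂, ∀ y ∈ K₁, x * y = y * x := fun x hx y hy => (hKc y hy x hx).symm
  have hGK₁ : OddGen K₁ := oddGen_conj L₁ n hG₁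
  have hGK₂ : OddGen K₂ := oddGen_conj L₂ n hG₂
  have hNK₁ : NonComm K₁ := nonComm_conj L₁ n hN₁
  have hNK₂ : NonComm K₂ := nonComm_conj L₂ n hN₂
  have hA := le_or_le L₁ L₂ j hj1 hjj hj₁ hj₂ hC₁ hC₂ hc hinter hjc K₁ K₂ hK₁M hK₂M hKc hGK₂ hNK₂
  have hB := le_or_le L₁ L₂ j hj1 hjj hj₁ hj₂ hC₁ hC₂ hc hinter hjc K₂ K₁ hK₂M hK₁M hKc' hGK₁ hNK₁
  -- cardinalities
  have hcK₁ : Nat.card K₁ = Nat.card L₁ :=
    Subgroup.card_map_of_injective (MulAut.conj n).injective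
  have hcK₂ : Nat.card K₂ = Nat.card L₂ :=
    Subgroup.card_map_of_injective (MulAut.conj n).injective
  have hcL₁ : Nat.card L₁ = Fintype.card F₁ * (Fintype.card F₁ ^ 2 - 1) := by
    rw [Nat.card_congr e₁.toEquiv]; exact Cfsg.Agent.Lib.Helper5_PSLCard.card_SL_two
  have hcL₂ : Nat.card L₂ = Fintype.card F₂ * (Fintype.card F₂ ^ 2 - 1) := by
    rw [Nat.card_congr e₂.toEquiv]; exact Cfsg.Agent.Lib.Helper5_PSLCard.card_SL_two
  -- a commutative subgroup cannot contain a noncommutative one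
  have hnoncomm : ∀ A B : Subgroup G, A ≤ B → (∀ x ∈ A, ∀ y ∈ B, x * y = y * x) → NonComm A →
      False := by
    intro A B hAB hcomm ⟨x, hx, y, hy, hxy⟩
    exact hxy (hcomm x hx y (hAB hy))
  rcases hA with hA | hA <;> rcases hB with hB | hB
  · -- K₁ ≤ L₁, K₂ ≤ L₁: impossible
    exfalso
    have hK₁eq : K₁ = L₁ := Subgroup.eq_of_le_of_card_ge hA hcK₁.symm.le
    apply hnoncomm K₂ K₁ (by rw [hK₁eq]; exact hB) hKc' hNK₂
  · -- normalizes both
    left
    exact ⟨Subgroup.eq_of_le_of_card_ge hA hcK₁.symm.le, Subgroup.eq_of_le_of_card_ge hB hcK₂.symm.le⟩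
  · -- swap
    right
    have h1 : Nat.card L₁ ≤ Nat.card L₂ := by
      rw [← hcK₁]; exact Subgroup.card_le_of_le hA
    have h2 : Nat.card L₂ ≤ Nat.card L₁ := by
      rw [← hcK₂]; exact Subgroup.card_le_of_le hB
    have hcard : Nat.card L₁ = Nat.card L₂ := le_antisymm h1 h2
    have hK₁eq : K₁ = L₂ := Subgroup.eq_of_le_of_card_ge hA (by rw [hcK₁]; exact h2)
    have hK₂eq : K₂ = L₁ := Subgroup.eq_of_le_of_card_ge hB (by rw [hcK₂]; exact h1)
    have hq : Fintype.card F₁ = Fintype.card F₂ := by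
      apply card_inj Fintype.card_pos Fintype.card_pos
      rw [← hcL₁, ← hcL₂, hcard]
    refine ⟨hK₁eq, hq, ?_⟩
    -- construct n'
    obtain ⟨a, ha, b, hb, hab⟩ := exists_mul_of_mem_sup L₁ L₂ hc (n * n) (hsqM n hn)
    have haC : a ∈ Subgroup.centralizer ({j} : Set G) := hle (Subgroup.mem_sup_left ha)
    have hnaL₂ : n * a * n⁻¹ ∈ L₂ := by
      rw [← hK₁eq]; exact conj_mem_conj_map L₁ n a ha
    have hnbL₁ : n * b * n⁻¹ ∈ L₁ := by
      rw [← hK₂eq]; exact conj_mem_conj_map L₂ n b hb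
    -- z := a⁻¹ * (n b n⁻¹) = b * (n a n⁻¹)⁻¹
    have hcomm1 : (n * a * n⁻¹) * (n * b * n⁻¹) = a * b := by
      have : (n * a * n⁻¹) * (n * b * n⁻¹) = n * (a * b) * n⁻¹ := by group
      rw [this, ← hab]; group
    have hcomm2 : (n * b * n⁻¹) * (n * a * n⁻¹) = a * b := by
      rw [hc _ hnbL₁ _ hnaL₂]; exact hcomm1
    have hz : a⁻¹ * (n * b * n⁻¹) = b * (n * a * n⁻¹)⁻¹ := by
      have : a⁻¹ * (n * b * n⁻¹) = a⁻¹ * ((n * b * n⁻¹) * (n * a * n⁻¹)) * (n * a * n⁻¹)⁻¹ := by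
        group
      rw [this, hcomm2]; group
    have hz₁ : b * (n * a * n⁻¹)⁻¹ ∈ L₁ := by
      rw [← hz]; exact L₁.mul_mem (L₁.inv_mem ha) hnbL₁
    have hz₂ : b * (n * a * n⁻¹)⁻¹ ∈ L₂ := L₂.mul_mem hb (L₂.inv_mem hnaL₂)
    have hzj : b * (n * a * n⁻¹)⁻¹ ∈ Subgroup.zpowers j := by
      rw [← hm]; exact ⟨hz₁, hz₂⟩
    refine ⟨n * a⁻¹, Subgroup.mul_mem _ hn (Subgroup.inv_mem _ haC), ?_, ?_, ?_⟩
    · intro h
      apply hn'
      have : n = (n * a⁻¹) * a := by group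
      rw [this]
      exact Subgroup.mul_mem _ h (Subgroup.mem_sup_left ha)
    · rw [← hK₁eq]
      ext y
      rw [hK₁def, mem_conj_map, mem_conj_map]
      have e1 : (n * a⁻¹)⁻¹ * y * (n * a⁻¹) = a * (n⁻¹ * y * n) * a⁻¹ := by group
      rw [e1]
      constructor
      · intro h
        have : n⁻¹ * y * n = a⁻¹ * (a * (n⁻¹ * y * n) * a⁻¹) * a := by group
        rw [this]
        exact L₁.mul_mem (L₁.mul_mem (L₁.inv_mem ha) h) ha
      · intro h
        exact L₁.mul_mem (L₁.mul_mem ha h) (L₁.inv_mem ha)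
    · -- (n a⁻¹)² = (n a n⁻¹)⁻¹ * b
      have e1 : (n * a⁻¹) ^ 2 = (n * a * n⁻¹)⁻¹ * ((n * n) * a⁻¹) := by
        rw [pow_two]; group
      have e2 : (n * n) * a⁻¹ = b := by
        rw [hab, hc a ha b hb]; group
      rw [e1, e2]
      -- (n a n⁻¹)⁻¹ * b = b * (n a n⁻¹)⁻¹ since the latter is central
      have hcen : (n * a * n⁻¹) * (b * (n * a * n⁻¹)⁻¹) = (b * (n * a * n⁻¹)⁻¹) * (n * a * n⁻¹) := by
        rcases Cfsg.Agent.S3209.mem_zpowers_of_order_two j _ hj hzj with h | h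
        · rw [h]; simp
        · rw [h]; exact hjc _ (Subgroup.mem_sup_right hnaL₂)
      have e3 : (n * a * n⁻¹)⁻¹ * b = b * (n * a * n⁻¹)⁻¹ := by
        have : (n * a * n⁻¹)⁻¹ * b
            = (n * a * n⁻¹)⁻¹ * ((b * (n * a * n⁻¹)⁻¹) * (n * a * n⁻¹)) := by group
        rw [this, ← hcen]; group
      rw [e3]; exact hzj
  · -- K₁ ≤ L₂, K₂ ≤ L₂: impossible
    exfalso
    have hK₂eq : K₂ = L₂ := Subgroup.eq_of_le_of_card_ge hB hcK₂.symm.le
    apply hnoncomm K₁ K₂ (by rw [hK₂eq]; exact hA) hKc hNK₁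

end Cfsg.Agent.S3210
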