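import Mathlib
import Cfsg.Statements.S3211
import Cfsg.Agent.Lib.Helper53_SL2Tor
import Cfsg.Agent.Lib.Helper53_StdForm
import Cfsg.Agent.Lib.Helper23_ZStarD
import Cfsg.Agent.S0201

set_option autoImplicit false
open Cfsg

namespace Cfsg.Agent.S3211

open Cfsg.Agent.Lib.Helper53_SL2 Cfsg.Agent.Lib.Helper53_SL2Tor Cfsg.Agent.Lib.Helper53_StdForm

/-- transfer of the torus property along a group isomorphism -/
theorem transfer_torus {H K : Type*} [Group H] [Group K] (e : H ≃* K) (z : K) (b : ℕ)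
    (hT : ∀ x : K, x * x = z → ∃ r w : K, r ^ 2 ^ (b - 1) = z ∧ r * x = x * r ∧
      w * w = z ∧ w * x * w⁻¹ = x⁻¹ ∧ w * r * w⁻¹ = r⁻¹) :
    ∀ x : H, x * x = e.symm z → ∃ r w : H, r ^ 2 ^ (b - 1) = e.symm z ∧ r * x = x * r ∧
      w * w = e.symm z ∧ w * x * w⁻¹ = x⁻¹ ∧ w * r * w⁻¹ = r⁻¹ := by
  intro x hx
  obtain ⟨r, w, h1, h2, h3, h4, h5⟩ := hT (e x) (by rw [← map_mul, hx]; simp)
  refine ⟨e.symm r, e.symm w, ?_, ?_, ?_, ?_, ?_⟩
  · rw [← map_pow, h1]
  · apply e.injective; simp [h2]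
  · rw [← map_mul, h3]
  · apply e.injective; simp [h4]
  · apply e.injective; simp [h5]

/-- Let G be a finite group with subgroups L₁ ≅ SL₂(q₁) and L₂ ≅ SL₂(q₂), q₁ and q₂ odd prime powers, which commute elementwise and meet in ⟨j⟩ for an involution j, and suppose L₁L₂ has index 2 in C_G(j). If some n ∈ C_G(j) with n² = j interchanges L₁ and L₂ under conjugation (so that C_G(j) = L₁L₂⟨n⟩), then G = C_G(j)O(G). -/
theorem result {G : Type*} [Group G] [Finite G]
    {F₁ : Type*} [Field F₁] [Fintype F₁] {F₂ : Type*} [Field F₂] [Fintype F₂]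
    (hF₁ : Odd (Fintype.card F₁)) (hF₂ : Odd (Fintype.card F₂)) (L₁ L₂ : Subgroup G)
    (e₁ : ↥L₁ ≃* Matrix.SpecialLinearGroup (Fin 2) F₁) (e₂ : ↥L₂ ≃* Matrix.SpecialLinearGroup (Fin 2) F₂)
    (hc : ∀ x ∈ L₁, ∀ y ∈ L₂, x * y = y * x) (j : G) (hj : orderOf j = 2) (hm : L₁ ⊓ L₂ = Subgroup.zpowers j)
    (hle : L₁ ⊔ L₂ ≤ Subgroup.centralizer ({j} : Set G)) (hi : (L₁ ⊔ L₂).relIndex (Subgroup.centralizer ({j} : Set G)) = 2) (n : G) (hn : n ∈ Subgroup.centralizer ({j} : Set G))
    (hn2 : n ^ 2 = j) (hswap : L₁.map (MulAut.conj n).toMonoidHom = L₂) :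
    Subgroup.centralizer ({j} : Set G) ⊔ Cfsg.oddCore G = ⊤ := by
  have hF : Fintype.card F₁ % 2 = 1 := Nat.odd_iff.mp hF₁
  have h2 : (2 : F₁) ≠ 0 := two_ne_zero_of_card_odd hF
  obtain ⟨b, hb2, hE, hT⟩ := exists_two_structure (F := F₁) hF
  have hjL₁ : j ∈ L₁ := by
    have : j ∈ L₁ ⊓ L₂ := by rw [hm]; exact Subgroup.mem_zpowers j
    exact this.1
  have hjj : j * j = 1 := by
    have := pow_orderOf_eq_one j
    rwa [hj, pow_two] at this
  have hj1 : j ≠ 1 := by
    intro h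
    rw [h, orderOf_one] at hj
    omega
  -- `e₁ j = -1`
  have hej : e₁ ⟨j, hjL₁⟩ = negOne := by
    have h1 : e₁ ⟨j, hjL₁⟩ * e₁ ⟨j, hjL₁⟩ = 1 := by
      rw [← map_mul]
      have : (⟨j, hjL₁⟩ : L₁) * ⟨j, hjL₁⟩ = 1 := Subtype.ext hjj
      rw [this, map_one]
    rcases eq_one_or_negOne_of_mul_self h2 _ h1 with h | h
    · exfalso
      have := (MulEquiv.map_eq_one_iff e₁).mp h
      exact hj1 (congrArg Subtype.val this)
    · exact h
  have hesymm : e₁.symm negOne = ⟨j, hjL₁⟩ := by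
    rw [← hej]; simp
  have hT' := transfer_torus e₁ negOne b hT
  rw [hesymm] at hT'
  have S : Setting L₁ L₂ j n b :=
    { hc := hc, hj := hj, hm := hm, hle := hle, hi := hi, hn := hn, hn2 := hn2, hswap := hswap
      hb := by omega
      hU := by
        intro x hx hxx
        have h1 : e₁ ⟨x, hx⟩ * e₁ ⟨x, hx⟩ = 1 := by
          rw [← map_mul]
          have : (⟨x, hx⟩ : L₁) * ⟨x, hx⟩ = 1 := Subtype.ext hxx
          rw [this, map_one]
        rcases eq_one_or_negOne_of_mul_self h2 _ h1 with h | h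
        · left
          have := (MulEquiv.map_eq_one_iff e₁).mp h
          exact congrArg Subtype.val this
        · right
          rw [← hej] at h
          exact congrArg Subtype.val (e₁.injective h)
      hE := by
        intro y hy k hk
        have h1 : (e₁ ⟨y, hy⟩) ^ 2 ^ k = 1 := by
          rw [← map_pow]
          have : (⟨y, hy⟩ : L₁) ^ 2 ^ k = 1 := Subtype.ext (by simpa using hk)
          rw [this, map_one]
        have h3 := hE _ k h1
        rw [← map_pow] at h3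
        have := (MulEquiv.map_eq_one_iff e₁).mp h3
        simpa using congrArg Subtype.val this
      hT := by
        intro x hx hxx
        obtain ⟨r, w, h1, h3, h4, h5, h6⟩ := hT' ⟨x, hx⟩ (Subtype.ext hxx)
        refine ⟨r, r.2, w, w.2, ?_, ?_, ?_, ?_, ?_⟩
        · simpa using congrArg Subtype.val h1
        · simpa using congrArg Subtype.val h3
        · simpa using congrArg Subtype.val h4
        · simpa using congrArg Subtype.val h5
        · simpa using congrArg Subtype.val h6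
      hex := by
        refine ⟨(e₁.symm wElt : L₁), (e₁.symm wElt).2, ?_⟩
        have : e₁.symm wElt * e₁.symm wElt = ⟨j, hjL₁⟩ := by
          rw [← map_mul, wElt_mul_self, hesymm]
        simpa using congrArg Subtype.val this }
  have hiso : Cfsg.IsIsolatedInvolution j :=
    ⟨hj, fun g hcomm => S.isolated g (S.mem_cent_of_comm hcomm.eq)⟩
  have hBS : Cfsg.Agent.Lib.Helper23_ZStar.BrauerSuzukiHyp :=
    fun H _ _ S n e hO => Cfsg.Agent.S0201.result S n e hO
  have hz := Cfsg.Agent.Lib.Helper23_ZStarC.oddProd_of_isIsolatedInvolution hiso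
  have hzs := Cfsg.Agent.Lib.Helper23_ZStarC.zstar_isolated hBS hiso
  rw [eq_top_iff]
  intro g _
  obtain ⟨k, hk, hkg⟩ := Cfsg.Agent.Lib.Helper23_ZStarD.exists_core_mul_centralizer hz hzs g
  have : g = k * (k⁻¹ * g) := by group
  rw [this]
  exact Subgroup.mul_mem _ (Subgroup.mem_sup_right hk) (Subgroup.mem_sup_left hkg)

end Cfsg.Agent.S3211
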