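import Cfsg.Statements.S3213
import Mathlib

set_option autoImplicit false
open Cfsg

namespace Cfsg.Agent.S3213


section sl2

open Matrix

variable {K : Type*} [Field K] [Fintype K]

theorem five_eq_zero (hK : Fintype.card K = 5) : (5 : K) = 0 := by
  have := FiniteField.cast_card_eq_zero K
  rw [hK] at this
  exact_mod_cast this

theorem two_ne_zero' (hK : Fintype.card K = 5) : (2 : K) ≠ 0 := by
  intro h
  have h5 := five_eq_zero hK
  have : (1 : K) = 0 := by
    calc (1 : K) = 5 - 2 * 2 := by ring
      _ = 0 := by rw [h5, h]; ring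
  exact one_ne_zero this

theorem three_ne_zero' (hK : Fintype.card K = 5) : (3 : K) ≠ 0 := by
  intro h
  have h5 := five_eq_zero hK
  have : (1 : K) = 0 := by
    calc (1 : K) = 2 * 3 - 5 := by ring
      _ = 0 := by rw [h5, h]; ring
  exact one_ne_zero this

/-- the central involution -/
def negI : SpecialLinearGroup (Fin 2) K := ⟨!![-1, 0; 0, -1], by simp [det_fin_two]⟩

theorem negI_mul_self : (negI : SpecialLinearGroup (Fin 2) K) * negI = 1 := by
  apply Subtype.ext
  show (!![-1, 0; 0, -1] : Matrix (Fin 2) (Fin 2) K) * !![-1, 0; 0, -1] = 1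
  rw [Matrix.mul_fin_two, Matrix.one_fin_two]
  simp

theorem negI_comm (y : SpecialLinearGroup (Fin 2) K) : negI * y = y * negI := by
  apply Subtype.ext
  show (!![-1, 0; 0, -1] : Matrix (Fin 2) (Fin 2) K) * y.1 = y.1 * !![-1, 0; 0, -1]
  have hy : y.1 = !![y.1 0 0, y.1 0 1; y.1 1 0, y.1 1 1] := Matrix.eta_fin_two y.1
  rw [hy, Matrix.mul_fin_two, Matrix.mul_fin_two]
  simp

theorem negI_ne_one (hK : Fintype.card K = 5) : (negI : SpecialLinearGroup (Fin 2) K) ≠ 1 := by
  intro h
  have h1 := congrArg (fun y : SpecialLinearGroup (Fin 2) K => y.1 0 0) h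
  simp only [negI] at h1
  have h2 : (-1 : K) = 1 := by simpa using h1
  apply two_ne_zero' hK
  calc (2 : K) = 1 - (-1) := by ring
    _ = 0 := by rw [h2]; ring

/-- an element of order five -/
def g5 : SpecialLinearGroup (Fin 2) K := ⟨!![1, 1; 0, 1], by simp [det_fin_two]⟩

theorem g5_pow (n : ℕ) : ((g5 : SpecialLinearGroup (Fin 2) K) ^ n).1 = !![1, (n : K); 0, 1] := by
  induction n with
  | zero =>
    rw [pow_zero]
    show (1 : Matrix (Fin 2) (Fin 2) K) = _
    rw [Matrix.one_fin_two]; simp
  | succ n ih =>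
    rw [pow_succ]
    show ((g5 : SpecialLinearGroup (Fin 2) K) ^ n).1 * !![1, 1; 0, 1] = _
    rw [ih, Matrix.mul_fin_two]
    simp [add_comm]

theorem g5_pow_five (hK : Fintype.card K = 5) : (g5 : SpecialLinearGroup (Fin 2) K) ^ 5 = 1 := by
  apply Subtype.ext
  rw [g5_pow]
  show _ = (1 : Matrix (Fin 2) (Fin 2) K)
  rw [Matrix.one_fin_two]
  have := five_eq_zero hK
  simp [this]

theorem g5_ne_one : (g5 : SpecialLinearGroup (Fin 2) K) ≠ 1 := by
  intro h
  have h1 := congrArg (fun y : SpecialLinearGroup (Fin 2) K => y.1 0 1) h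
  simp [g5] at h1

/-- every element of order three is inverted by an element whose square is the central
involution -/
theorem exists_inverting (hK : Fintype.card K = 5) (x : SpecialLinearGroup (Fin 2) K)
    (hx3 : x * x * x = 1) (hx1 : x ≠ 1) :
    ∃ s : SpecialLinearGroup (Fin 2) K, s * x = x * x * s ∧ s * s = negI := by
  have h5 := five_eq_zero hK
  have h2 := two_ne_zero' hK
  have h3 := three_ne_zero' hK
  set a := x.1 0 0 with ha
  set b := x.1 0 1 with hb
  set c := x.1 1 0 with hc
  set d := x.1 1 1 with hd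
  have hx : x.1 = !![a, b; c, d] := Matrix.eta_fin_two x.1
  have hdet : a * d - b * c = 1 := by
    have := x.2
    rw [hx, det_fin_two_of] at this
    exact this
  have hcube : (!![a, b; c, d] : Matrix (Fin 2) (Fin 2) K) * !![a, b; c, d] * !![a, b; c, d] = 1 := by
    rw [← hx]
    exact congrArg Subtype.val hx3
  rw [Matrix.mul_fin_two, Matrix.mul_fin_two, Matrix.one_fin_two] at hcube
  have e00 := congrArg (fun M : Matrix (Fin 2) (Fin 2) K => M 0 0) hcube
  have e01 := congrArg (fun M : Matrix (Fin 2) (Fin 2) K => M 0 1) hcube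
  have e10 := congrArg (fun M : Matrix (Fin 2) (Fin 2) K => M 1 0) hcube
  have e11 := congrArg (fun M : Matrix (Fin 2) (Fin 2) K => M 1 1) hcube
  simp only [of_apply, cons_val', cons_val_zero, cons_val_one, cons_val_fin_one] at e00 e01 e10 e11
  -- the reduced equations
  have r10 : ((a + d) ^ 2 - 1) * c = 0 := by linear_combination e10 + c * hdet
  have r01 : ((a + d) ^ 2 - 1) * b = 0 := by linear_combination e01 + b * hdet
  have r00 : ((a + d) ^ 2 - 1) * a - (a + d) = 1 := by linear_combination e00 + (2 * a + d) * hdet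
  have r11 : ((a + d) ^ 2 - 1) * d - (a + d) = 1 := by linear_combination e11 + (a + 2 * d) * hdet
  -- the trace
  have htr : a + d = -1 := by
    have hcubic : (a + d + 1) ^ 2 * (a + d - 2) = 0 := by linear_combination r00 + r11
    rcases mul_eq_zero.mp hcubic with h | h
    · have := pow_eq_zero_iff (M₀ := K) (two_ne_zero (α := ℕ)) |>.mp h
      linear_combination this
    · exfalso
      have ht : a + d = 2 := by linear_combination h
      rw [ht] at r10 r01 r00 r11
      have h3' : ((2 : K) ^ 2 - 1) ≠ 0 := by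
        have : (2 : K) ^ 2 - 1 = 3 := by ring
        rw [this]; exact h3
      have hc0 : c = 0 := (mul_eq_zero.mp r10).resolve_left h3'
      have hb0 : b = 0 := (mul_eq_zero.mp r01).resolve_left h3'
      have ha1 : a = 1 := by
        have : (3 : K) * (a - 1) = 0 := by linear_combination r00
        have := (mul_eq_zero.mp this).resolve_left h3
        linear_combination this
      have hd1 : d = 1 := by
        have : (3 : K) * (d - 1) = 0 := by linear_combination r11
        have := (mul_eq_zero.mp this).resolve_left h3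
        linear_combination this
      apply hx1
      apply Subtype.ext
      rw [hx, ha1, hb0, hc0, hd1]
      show _ = (1 : Matrix (Fin 2) (Fin 2) K)
      rw [Matrix.one_fin_two]
  -- the lower left entry does not vanish
  have hc0 : c ≠ 0 := by
    intro hc0
    rw [hc0] at hdet
    have had : a * d = 1 := by linear_combination hdet
    have ha0 : a ≠ 0 := by
      intro h; rw [h, zero_mul] at had; exact zero_ne_one had
    have hquad : a ^ 2 + a + 1 = 0 := by
      have hd' : d = -1 - a := by linear_combination htr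
      rw [hd'] at had
      linear_combination -had
    have ha3 : a ^ 3 = 1 := by linear_combination (a - 1) * hquad
    have ha4 : a ^ 4 = 1 := by
      have := FiniteField.pow_card_sub_one_eq_one a ha0
      rwa [hK] at this
    have ha1 : a = 1 := by
      calc a = a ^ 4 * (a ^ 3)⁻¹ := by
            rw [pow_succ a 3]; field_simp
        _ = 1 := by rw [ha3, ha4]; simp
    rw [ha1] at hquad
    apply h3
    linear_combination hquad
  have hd' : d = -1 - a := by linear_combination htr
  have hb' : b = (-a ^ 2 - a - 1) * c⁻¹ := by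
    have : b * c = -a ^ 2 - a - 1 := by
      rw [hd'] at hdet
      linear_combination -hdet
    rw [← this]; field_simp
  -- the inverting element
  have hsdet : (!![2 * a, 2 * (1 - a ^ 2) * c⁻¹; 2 * c, -(2 * a)] : Matrix (Fin 2) (Fin 2) K).det
      = 1 := by
    rw [det_fin_two_of]
    field_simp
    linear_combination (-1 : K) * h5
  refine ⟨⟨!![2 * a, 2 * (1 - a ^ 2) * c⁻¹; 2 * c, -(2 * a)], hsdet⟩, ?_, ?_⟩
  · -- first x s x = s
    have key : x.1 * !![2 * a, 2 * (1 - a ^ 2) * c⁻¹; 2 * c, -(2 * a)] * x.1 =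
        !![2 * a, 2 * (1 - a ^ 2) * c⁻¹; 2 * c, -(2 * a)] := by
      rw [hx, hb', hd', Matrix.mul_fin_two, Matrix.mul_fin_two]
      ext i j
      fin_cases i <;> fin_cases j <;>
        simp only [of_apply, cons_val', cons_val_zero, cons_val_one, cons_val_fin_one,
          Fin.zero_eta, Fin.mk_one] <;> field_simp <;> ring
    have key' : x * ⟨!![2 * a, 2 * (1 - a ^ 2) * c⁻¹; 2 * c, -(2 * a)], hsdet⟩ * x =
        ⟨!![2 * a, 2 * (1 - a ^ 2) * c⁻¹; 2 * c, -(2 * a)], hsdet⟩ := Subtype.ext key
    set s : SpecialLinearGroup (Fin 2) K :=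
      ⟨!![2 * a, 2 * (1 - a ^ 2) * c⁻¹; 2 * c, -(2 * a)], hsdet⟩ with hs
    calc s * x = (x * x * x) * s * x := by rw [hx3, one_mul]
      _ = x * x * (x * s * x) := by group
      _ = x * x * s := by rw [key']
  · apply Subtype.ext
    show (!![2 * a, 2 * (1 - a ^ 2) * c⁻¹; 2 * c, -(2 * a)] : Matrix (Fin 2) (Fin 2) K) *
      !![2 * a, 2 * (1 - a ^ 2) * c⁻¹; 2 * c, -(2 * a)] = !![-1, 0; 0, -1]
    rw [Matrix.mul_fin_two]
    ext i j
    fin_cases i <;> fin_cases j <;>
      simp only [of_apply, cons_val', cons_val_zero, cons_val_one, cons_val_fin_one,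
        Fin.zero_eta, Fin.mk_one] <;> field_simp
    · linear_combination (1 : K) * h5
    · ring
    · ring
    · linear_combination (1 : K) * h5

end sl2



section linalg

variable {F : Type*} [Field F] [Fintype F]

theorem three_eq_zero (hF : Fintype.card F = 3) : (3 : F) = 0 := by
  have := FiniteField.cast_card_eq_zero F
  rw [hF] at this
  exact_mod_cast this

/-- in a field with three elements no square is `-1` -/
theorem sq_ne_neg_one (hF : Fintype.card F = 3) (a : F) : a * a ≠ -1 := by
  have h3 := three_eq_zero hF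
  intro h
  by_cases ha : a = 0
  · rw [ha, zero_mul] at h
    exact one_ne_zero (neg_eq_zero.mp h.symm)
  · have h1 := FiniteField.pow_card_sub_one_eq_one a ha
    rw [hF] at h1
    have h2 : a * a = 1 := by
      rw [← h1]; ring
    rw [h2] at h
    have : (1 : F) = 0 := by
      calc (1 : F) = 3 - (1 + 1) := by ring
        _ = 3 - (1 + -1) := by rw [← h]
        _ = 0 := by rw [h3]; ring
    exact one_ne_zero this

variable {V : Type*} [AddCommGroup V] [Module F V] [FiniteDimensional F V]

/-- subspaces invariant under `S` with `S² = -1` have even dimension -/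
theorem even_finrank_of_invariant (hF : Fintype.card F = 3) (S : Module.End F V)
    (hS : S * S = -1) (W : Submodule F V) (hW : ∀ w ∈ W, S w ∈ W) :
    Even (Module.finrank F W) := by
  by_contra hodd
  rw [Nat.not_even_iff_odd] at hodd
  let Sw : Module.End F W := S.restrict hW
  have h1 : Sw * Sw = (-1 : F) • (1 : Module.End F W) := by
    ext w
    simp only [Module.End.mul_apply, LinearMap.smul_apply, Module.End.one_apply,
      Submodule.coe_smul, neg_smul, one_smul, Submodule.coe_neg]
    show S (S w) = -w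
    have := congrArg (fun f : Module.End F V => f (w : V)) hS
    simpa using this
  have h2 := congrArg LinearMap.det h1
  rw [map_mul, LinearMap.det_smul, map_one, mul_one, Odd.neg_one_pow hodd] at h2
  exact sq_ne_neg_one hF _ h2

/-- the fixed space of an element `U` of order three inverted by `S` with `S² = -1`,
in dimension four over the field with three elements -/
theorem fixed_space (hF : Fintype.card F = 3) (U S : Module.End F V) (hU3 : U * U * U = 1)
    (hU1 : U ≠ 1) (hS2 : S * S = -1) (hSU : S * U = U * U * S) (hdim : Module.finrank F V = 4) :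
    Module.finrank F (LinearMap.ker (U - 1)) = 2 ∧
      LinearMap.ker (U - 1) ≤ LinearMap.range (U - 1) := by
  have h3 : (3 : Module.End F V) = 0 := by
    have : (3 : Module.End F V) = algebraMap F (Module.End F V) 3 := by rw [map_ofNat]
    rw [this, three_eq_zero hF, map_zero]
  -- nilpotency
  have hN3 : (U - 1) * (U - 1) * (U - 1) = 0 := by
    have : (U - 1) * (U - 1) * (U - 1) = U * U * U - 1 - 3 * (U * U) + 3 * U := by noncomm_ring
    rw [this, hU3, h3]; simp
  have hmemK : ∀ w : V, w ∈ LinearMap.ker (U - 1) ↔ U w = w := by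
    intro w
    rw [LinearMap.mem_ker, LinearMap.sub_apply, Module.End.one_apply, sub_eq_zero]
  -- invariance
  have hSK : ∀ w ∈ LinearMap.ker (U - 1), S w ∈ LinearMap.ker (U - 1) := by
    intro w hw
    rw [hmemK] at hw ⊢
    have e1 : U (U (S w)) = S w := by
      have := congrArg (fun f : Module.End F V => f w) hSU
      simp only [Module.End.mul_apply] at this
      rw [← this, hw]
    have e2 : U (U (U (S w))) = S w := by
      have := congrArg (fun f : Module.End F V => f (S w)) hU3
      simpa only [Module.End.mul_apply, Module.End.one_apply] using this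
    rw [e1] at e2
    exact e2
  have hSR : ∀ y ∈ LinearMap.range (U - 1), S y ∈ LinearMap.range (U - 1) := by
    rintro _ ⟨v, rfl⟩
    refine ⟨(U + 1) (S v), ?_⟩
    have e : (U - 1) * (U + 1) * S = S * (U - 1) := by
      have : (U - 1) * (U + 1) * S = U * U * S - S := by noncomm_ring
      rw [this, ← hSU]; noncomm_ring
    have := congrArg (fun f : Module.End F V => f v) e
    simpa only [Module.End.mul_apply] using this
  have hSKR : ∀ y ∈ LinearMap.ker (U - 1) ⊓ LinearMap.range (U - 1),
      S y ∈ LinearMap.ker (U - 1) ⊓ LinearMap.range (U - 1) :=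
    fun y hy => ⟨hSK y hy.1, hSR y hy.2⟩
  -- if the kernel meets the range trivially, the range is trivial
  have hbot : LinearMap.ker (U - 1) ⊓ LinearMap.range (U - 1) = ⊥ → LinearMap.range (U - 1) = ⊥ := by
    intro h
    rw [eq_bot_iff]
    intro y hy
    have key : ∀ y' ∈ LinearMap.range (U - 1), (U - 1) y' = 0 → y' = 0 := by
      intro y' hy' h0
      have : y' ∈ LinearMap.ker (U - 1) ⊓ LinearMap.range (U - 1) := ⟨h0, hy'⟩
      rw [h] at this
      exact this
    have r1 : (U - 1) y ∈ LinearMap.range (U - 1) := ⟨y, rfl⟩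
    have r2 : (U - 1) ((U - 1) y) ∈ LinearMap.range (U - 1) := ⟨_, rfl⟩
    have z3 : (U - 1) ((U - 1) ((U - 1) y)) = 0 := by
      have := congrArg (fun f : Module.End F V => f y) hN3
      simpa only [Module.End.mul_apply, LinearMap.zero_apply] using this
    have z2 := key _ r2 z3
    have z1 := key _ r1 z2
    exact key _ hy z1
  have hrn := LinearMap.finrank_range_add_finrank_ker (U - 1)
  rw [hdim] at hrn
  have evK := even_finrank_of_invariant hF S hS2 _ hSK
  have evKR := even_finrank_of_invariant hF S hS2 _ hSKR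
  -- the kernel is not everything
  have hKtop : Module.finrank F (LinearMap.ker (U - 1)) ≠ 4 := by
    intro h
    have : LinearMap.ker (U - 1) = ⊤ := by
      apply Submodule.eq_top_of_finrank_eq
      rw [h, hdim]
    apply hU1
    ext v
    have hv : v ∈ LinearMap.ker (U - 1) := by rw [this]; trivial
    rw [hmemK] at hv
    rw [hv, Module.End.one_apply]
  -- the kernel is not trivial
  have hKbot : Module.finrank F (LinearMap.ker (U - 1)) ≠ 0 := by
    intro h
    have hK : LinearMap.ker (U - 1) = ⊥ := Submodule.finrank_eq_zero.mp h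
    have hR := hbot (by rw [hK, bot_inf_eq])
    rw [h, hR, finrank_bot] at hrn
    omega
  have hK2 : Module.finrank F (LinearMap.ker (U - 1)) = 2 := by
    obtain ⟨k, hk⟩ := evK
    omega
  have hR2 : Module.finrank F (LinearMap.range (U - 1)) = 2 := by omega
  refine ⟨hK2, ?_⟩
  have hle : Module.finrank F ↥(LinearMap.ker (U - 1) ⊓ LinearMap.range (U - 1)) ≤ 2 := by
    rw [← hK2]
    exact Submodule.finrank_mono inf_le_left
  have hne : Module.finrank F ↥(LinearMap.ker (U - 1) ⊓ LinearMap.range (U - 1)) ≠ 0 := by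
    intro h
    have := hbot (Submodule.finrank_eq_zero.mp h)
    rw [this, finrank_bot] at hR2
    omega
  have h2 : Module.finrank F ↥(LinearMap.ker (U - 1) ⊓ LinearMap.range (U - 1)) = 2 := by
    obtain ⟨k, hk⟩ := evKR
    omega
  have : LinearMap.ker (U - 1) ⊓ LinearMap.range (U - 1) = LinearMap.ker (U - 1) :=
    Submodule.eq_of_le_of_finrank_eq inf_le_left (by rw [h2, hK2])
  rw [← this]
  exact inf_le_right

end linalg


section linalg2

variable {F : Type*} [Field F] [Fintype F]

variable {V : Type*} [AddCommGroup V] [Module F V] [FiniteDimensional F V]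

/-- an endomorphism of order five is trivial on invariant subspaces of dimension at most three -/
theorem trivial_on_small [Fintype V] (hF : Fintype.card F = 3) (T : Module.End F V)
    (hT5 : T ^ 5 = 1) (W : Submodule F V) (hW : ∀ w ∈ W, T w ∈ W)
    (hd : Module.finrank F W ≤ 3) : ∀ w ∈ W, T w = w := by
  classical
  haveI : Fact (Nat.Prime 5) := ⟨by norm_num⟩
  let f : Function.End ↥W := fun w => ⟨T w, hW w w.2⟩
  have hfpow : ∀ (n : ℕ) (w : ↥W), (((f ^ n) w : ↥W) : V) = (T ^ n) (w : V) := by
    intro n
    induction n with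
    | zero => intro w; rfl
    | succ n ih =>
      intro w
      rw [pow_succ, pow_succ]
      show (((f ^ n) (f w) : ↥W) : V) = (T ^ n) (T (w : V))
      rw [ih]
  have hf5 : f ^ 5 ^ 1 = 1 := by
    rw [pow_one]
    funext w
    apply Subtype.ext
    rw [hfpow, hT5]
    rfl
  have hmod := Equiv.Perm.card_fixedPoints_modEq (p := 5) (n := 1) hf5
  -- the fixed points form a subspace
  let W' : Submodule F V := W ⊓ LinearMap.ker (T - 1)
  have hmemK : ∀ w : V, w ∈ LinearMap.ker (T - 1) ↔ T w = w := by
    intro w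
    rw [LinearMap.mem_ker, LinearMap.sub_apply, Module.End.one_apply, sub_eq_zero]
  let e : ↥(Function.fixedPoints f) ≃ ↥W' :=
    { toFun := fun x => ⟨x.1.1, x.1.2, (hmemK _).mpr (congrArg Subtype.val x.2)⟩
      invFun := fun y => ⟨⟨y.1, y.2.1⟩, Subtype.ext ((hmemK _).mp y.2.2)⟩
      left_inv := fun x => rfl
      right_inv := fun y => rfl }
  have hc1 : Fintype.card ↥W = 3 ^ Module.finrank F W := by
    rw [Module.card_eq_pow_finrank (K := F) (V := ↥W), hF]
  have hc2 : Fintype.card ↥(Function.fixedPoints f) = 3 ^ Module.finrank F W' := by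
    rw [Fintype.card_congr e, Module.card_eq_pow_finrank (K := F) (V := ↥W'), hF]
  rw [hc1, hc2] at hmod
  have hle : Module.finrank F W' ≤ Module.finrank F W := Submodule.finrank_mono inf_le_left
  have heq : Module.finrank F W' = Module.finrank F W := by
    generalize Module.finrank F W' = k at *
    generalize Module.finrank F W = d at *
    unfold Nat.ModEq at hmod
    interval_cases d <;> interval_cases k <;> first | rfl | (exfalso; revert hmod; decide)
  have : W' = W := Submodule.eq_of_le_of_finrank_eq inf_le_left heq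
  intro w hw
  rw [← this] at hw
  exact (hmemK w).mp hw.2

/-- a central involution commuting with an element of order five is `-1`,
in dimension four over the field with three elements -/
theorem eq_neg_one [Fintype V] (hF : Fintype.card F = 3) (z T : Module.End F V) (hz2 : z * z = 1)
    (hz1 : z ≠ 1) (hzT : z * T = T * z) (hT5 : T ^ 5 = 1) (hT1 : T ≠ 1)
    (hdim : Module.finrank F V = 4) : z = -1 := by
  have h3 := three_eq_zero hF
  have hmemP : ∀ w : V, w ∈ LinearMap.ker (z - 1) ↔ z w = w := by
    intro w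
    rw [LinearMap.mem_ker, LinearMap.sub_apply, Module.End.one_apply, sub_eq_zero]
  have hmemM : ∀ w : V, w ∈ LinearMap.ker (z + 1) ↔ z w = -w := by
    intro w
    rw [LinearMap.mem_ker, LinearMap.add_apply, Module.End.one_apply, add_eq_zero_iff_eq_neg]
  have hzT' : ∀ w : V, z (T w) = T (z w) := by
    intro w
    have := congrArg (fun f : Module.End F V => f w) hzT
    simpa only [Module.End.mul_apply] using this
  have hzz : ∀ w : V, z (z w) = w := by
    intro w
    have := congrArg (fun f : Module.End F V => f w) hz2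
    simpa only [Module.End.mul_apply, Module.End.one_apply] using this
  have invP : ∀ w ∈ LinearMap.ker (z - 1), T w ∈ LinearMap.ker (z - 1) := by
    intro w hw
    rw [hmemP] at hw ⊢
    rw [hzT', hw]
  have invM : ∀ w ∈ LinearMap.ker (z + 1), T w ∈ LinearMap.ker (z + 1) := by
    intro w hw
    rw [hmemM] at hw ⊢
    rw [hzT', hw, map_neg]
  have hsup : ∀ v : V, ∃ a ∈ LinearMap.ker (z - 1), ∃ b ∈ LinearMap.ker (z + 1), v = a + b := by
    intro v
    refine ⟨-(v + z v), ?_, -(v - z v), ?_, ?_⟩
    · rw [hmemP, map_neg, map_add, hzz]; abel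
    · rw [hmemM, map_neg, map_sub, hzz]; abel
    · have e1 : v - (-(v + z v) + -(v - z v)) = (3 : F) • v := by
        rw [show (3 : F) = 1 + 1 + 1 by norm_num, add_smul, add_smul, one_smul]
        abel
      rw [h3, zero_smul, sub_eq_zero] at e1
      exact e1
  by_cases hP : Module.finrank F (LinearMap.ker (z - 1)) ≤ 3
  · by_cases hM : Module.finrank F (LinearMap.ker (z + 1)) ≤ 3
    · exfalso
      apply hT1
      ext v
      obtain ⟨a, ha, b, hb, rfl⟩ := hsup v
      rw [map_add, trivial_on_small hF T hT5 _ invP hP a ha,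
        trivial_on_small hF T hT5 _ invM hM b hb, Module.End.one_apply]
    · have h4 : Module.finrank F (LinearMap.ker (z + 1)) = 4 := by
        have := Submodule.finrank_le (LinearMap.ker (z + 1))
        omega
      have htop : LinearMap.ker (z + 1) = ⊤ :=
        Submodule.eq_top_of_finrank_eq (by rw [h4, hdim])
      ext v
      have hv : v ∈ LinearMap.ker (z + 1) := by rw [htop]; trivial
      rw [hmemM] at hv
      rw [hv]; rfl
  · exfalso
    have h4 : Module.finrank F (LinearMap.ker (z - 1)) = 4 := by
      have := Submodule.finrank_le (LinearMap.ker (z - 1))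
      omega
    have htop : LinearMap.ker (z - 1) = ⊤ :=
      Submodule.eq_top_of_finrank_eq (by rw [h4, hdim])
    apply hz1
    ext v
    have hv : v ∈ LinearMap.ker (z - 1) := by rw [htop]; trivial
    rw [hmemP] at hv
    rw [hv]; rfl

end linalg2

/-- Let F be the field with 3 elements and K the field with 5 elements. For every injective homomorphism φ from SL₂(K) into the symplectic group Sp₄(F) (4 × 4 matrices g with g J gᵀ = J for the standard alternating matrix J) and every element x of order 3 of SL₂(K), the vectors of F⁴ fixed by φ(x) form a 2-dimensional subspace that is totally isotropic for the alternating form defined by J. -/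
theorem result {F : Type*} [Field F] [Fintype F] (hF : Fintype.card F = 3)
    {K : Type*} [Field K] [Fintype K] (hK : Fintype.card K = 5)
    (φ : Matrix.SpecialLinearGroup (Fin 2) K →* ↥(Matrix.symplecticGroup (Fin 2) F)) (hφ : Function.Injective φ)
    (x : Matrix.SpecialLinearGroup (Fin 2) K) (hx : orderOf x = 3) :
    Module.finrank F ↥(LinearMap.ker (Matrix.toLin' ((φ x : Matrix (Fin 2 ⊕ Fin 2) (Fin 2 ⊕ Fin 2) F)) - LinearMap.id)) = 2 ∧
      ∀ v w : Fin 2 ⊕ Fin 2 → F, (φ x : Matrix (Fin 2 ⊕ Fin 2) (Fin 2 ⊕ Fin 2) F).mulVec v = v →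
        (φ x : Matrix (Fin 2 ⊕ Fin 2) (Fin 2 ⊕ Fin 2) F).mulVec w = w →
          dotProduct v ((Matrix.J (Fin 2) F).mulVec w) = 0 := by
  classical
  have hx3 : x * x * x = 1 := by
    have := pow_orderOf_eq_one x
    rw [hx] at this
    rw [← this, pow_succ, pow_succ, pow_one]
  have hx1 : x ≠ 1 := by
    intro h
    rw [h, orderOf_one] at hx
    omega
  obtain ⟨s, hsx, hss⟩ := exists_inverting hK x hx3 hx1
  -- the representation on the space of column vectors
  let Ψ : Matrix.SpecialLinearGroup (Fin 2) K →* Module.End F (Fin 2 ⊕ Fin 2 → F) :=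
    { toFun := fun y => Matrix.toLin' (φ y : Matrix (Fin 2 ⊕ Fin 2) (Fin 2 ⊕ Fin 2) F)
      map_one' := by
        rw [map_one]
        show Matrix.toLin' (1 : Matrix (Fin 2 ⊕ Fin 2) (Fin 2 ⊕ Fin 2) F) = 1
        rw [Matrix.toLin'_one]; rfl
      map_mul' := by
        intro a b
        rw [map_mul]
        show Matrix.toLin' ((φ a : Matrix (Fin 2 ⊕ Fin 2) (Fin 2 ⊕ Fin 2) F) *
          (φ b : Matrix (Fin 2 ⊕ Fin 2) (Fin 2 ⊕ Fin 2) F)) = _
        rw [Matrix.toLin'_mul]; rfl }
  have hΨ : ∀ y, Ψ y = Matrix.toLin' (φ y : Matrix (Fin 2 ⊕ Fin 2) (Fin 2 ⊕ Fin 2) F) := fun y => rfl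
  have hΨinj : Function.Injective Ψ := by
    intro a b hab
    apply hφ
    apply Subtype.ext
    exact Matrix.toLin'.injective hab
  have hdim : Module.finrank F (Fin 2 ⊕ Fin 2 → F) = 4 := by
    rw [Module.finrank_fintype_fun_eq_card]; rfl
  have hU3 : Ψ x * Ψ x * Ψ x = 1 := by rw [← map_mul, ← map_mul, hx3, map_one]
  have hU1 : Ψ x ≠ 1 := by
    intro h
    rw [← map_one Ψ] at h
    exact hx1 (hΨinj h)
  have hz : Ψ negI = -1 := by
    apply eq_neg_one hF (Ψ negI) (Ψ g5)
    · rw [← map_mul, negI_mul_self, map_one]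
    · intro h
      rw [← map_one Ψ] at h
      exact negI_ne_one hK (hΨinj h)
    · rw [← map_mul, ← map_mul, negI_comm]
    · rw [← map_pow, g5_pow_five hK, map_one]
    · intro h
      rw [← map_one Ψ] at h
      exact g5_ne_one (hΨinj h)
    · exact hdim
  have hS2 : Ψ s * Ψ s = -1 := by rw [← map_mul, hss, hz]
  have hSU : Ψ s * Ψ x = Ψ x * Ψ x * Ψ s := by rw [← map_mul, hsx, map_mul, map_mul]
  obtain ⟨h1, h2⟩ := fixed_space hF (Ψ x) (Ψ s) hU3 hU1 hS2 hSU hdim
  refine ⟨h1, ?_⟩
  intro v w hv hw
  have hvK : v ∈ LinearMap.ker (Ψ x - 1) := by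
    rw [LinearMap.mem_ker, LinearMap.sub_apply, Module.End.one_apply, hΨ, Matrix.toLin'_apply, hv,
      sub_self]
  obtain ⟨v', hv'⟩ := h2 hvK
  rw [LinearMap.sub_apply, Module.End.one_apply, hΨ, Matrix.toLin'_apply] at hv'
  have hsym : Matrix.transpose (φ x : Matrix (Fin 2 ⊕ Fin 2) (Fin 2 ⊕ Fin 2) F) *
      Matrix.J (Fin 2) F * (φ x : Matrix (Fin 2 ⊕ Fin 2) (Fin 2 ⊕ Fin 2) F) = Matrix.J (Fin 2) F :=
    SymplecticGroup.mem_iff'.mp (φ x).2
  have e1 : dotProduct ((φ x : Matrix (Fin 2 ⊕ Fin 2) (Fin 2 ⊕ Fin 2) F).mulVec v')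
      ((Matrix.J (Fin 2) F).mulVec w) = dotProduct v' ((Matrix.J (Fin 2) F).mulVec w) := by
    conv_lhs => rw [← hw]
    rw [Matrix.mulVec_mulVec, ← Matrix.vecMul_transpose, ← Matrix.dotProduct_mulVec,
      Matrix.mulVec_mulVec, ← Matrix.mul_assoc, hsym]
  rw [← hv', sub_dotProduct, e1, sub_self]

end Cfsg.Agent.S3213
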