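import Cfsg.Statements.S3839
import Cfsg.Agent.Lib.Helper35_FrobeniusNPC
import Cfsg.Agent.Lib.Helper33_Conj
import Cfsg.Agent.Lib.Helper33_Alperin
import Cfsg.Agent.Lib.Helper34_Fusion
import Cfsg.Agent.Lib.Helper32_Sylow
import Cfsg.Agent.Lib.Helper24_CoprimeAction
import Cfsg.Agent.S2012
import Mathlib

set_option autoImplicit false
set_option linter.unusedSectionVars false
open Cfsg

namespace Cfsg.Agent.S3839

open Cfsg.Agent.Lib.Helper35_FrobeniusNPC
open Cfsg.Agent.Lib.Helper33_Conj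
open Subgroup

variable {G : Type*} [Group G]

/-- every `p'`-element of `H` lies in `C` -/
def PP (p : ℕ) (H C : Subgroup G) : Prop := ∀ h ∈ H, (orderOf h).Coprime p → h ∈ C

/-- powers of a product `a * n` with `n` normalizing `A ∋ a`. -/
theorem pow_mul_of_normalizes {A : Subgroup G} {a n : G} (ha : a ∈ A)
    (hn : n ∈ normalizer (A : Set G)) (k : ℕ) : ∃ a' ∈ A, (a * n) ^ k = a' * n ^ k := by
  induction k with
  | zero => exact ⟨1, A.one_mem, by simp⟩
  | succ k ih =>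
    obtain ⟨a', ha', hk⟩ := ih
    refine ⟨a' * (n ^ k * a * (n ^ k)⁻¹), ?_, ?_⟩
    · refine A.mul_mem ha' ?_
      have hnk : n ^ k ∈ normalizer (A : Set G) := pow_mem hn k
      exact (mem_normalizer_iff.mp hnk a).mp ha
    · rw [pow_succ, hk, pow_succ]
      group

/-- the `p'`-part trick: a power `n ^ (p ^ a)` has order prime to `p`. -/
theorem exists_pow_coprime [Finite G] {p : ℕ} [hp : Fact p.Prime] (n : G) :
    ∃ a : ℕ, (orderOf (n ^ (p ^ a))).Coprime p := by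
  have ho : orderOf n ≠ 0 := (orderOf_pos n).ne'
  obtain ⟨a, m, hm, hkm⟩ := Nat.exists_eq_pow_mul_and_not_dvd ho p hp.out.ne_one
  refine ⟨a, ?_⟩
  have h1 : orderOf (n ^ (p ^ a)) = m := by
    rw [orderOf_pow, hkm, Nat.gcd_mul_right_left, Nat.mul_div_cancel_left _ (pow_pos hp.out.pos a)]
  rw [h1]
  exact ((Nat.Prime.coprime_iff_not_dvd hp.out).mpr hm).symm

/-- an element of order prime to `p` lies in any subgroup containing its `p^a`-th power -/
theorem mem_of_pow_mem [Finite G] {p : ℕ} [Fact p.Prime] {C : Subgroup G} {g : G}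
    (hg : (orderOf g).Coprime p) (a : ℕ) (h : g ^ (p ^ a) ∈ C) : g ∈ C := by
  have hc : (p ^ a).Coprime (orderOf g) := (Nat.Coprime.pow_right a hg).symm
  obtain ⟨m, hm⟩ := exists_pow_eq_self_of_coprime hc
  rw [← hm]
  exact pow_mem h m

/-- combining: `T = X N`, `X ⊴ T`, `C ⊴ T`, the `p'`-elements of `X` and of `N` lie in `C`. -/
theorem pp_combine [Finite G] {p : ℕ} [Fact p.Prime] {T X C N : Subgroup G}
    (hXT : X ≤ T) (hTX : T ≤ normalizer (X : Set G)) (hTC : T ≤ normalizer (C : Set G))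
    (hNT : N ≤ T) (hdec : ∀ t ∈ T, ∃ x ∈ X, ∃ n ∈ N, t = x * n)
    (hX : PP p X C) (hN : PP p N C) : PP p T C := by
  intro g hgT hgo
  obtain ⟨x, hx, n, hn, rfl⟩ := hdec g hgT
  obtain ⟨a, ha⟩ := exists_pow_coprime (p := p) n
  have hc1 : n ^ (p ^ a) ∈ C := hN _ (pow_mem hn _) ha
  obtain ⟨x₁, hx₁, h1⟩ := pow_mul_of_normalizes hx (hTX (hNT hn)) (p ^ a)
  have hc1' : x₁ * n ^ (p ^ a) * x₁⁻¹ ∈ C :=
    (mem_normalizer_iff.mp (hTC (hXT hx₁)) _).mp hc1
  have h2 : (x * n) ^ (p ^ a) = (x₁ * n ^ (p ^ a) * x₁⁻¹) * x₁ := by rw [h1]; group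
  obtain ⟨b, hb⟩ := exists_pow_coprime (p := p) x₁
  have hx1b : x₁ ^ (p ^ b) ∈ C := hX _ (pow_mem hx₁ _) hb
  obtain ⟨c₂, hc₂, h3⟩ := pow_mul_of_normalizes hc1' (hTC (hXT hx₁)) (p ^ b)
  have h4 : (x * n) ^ (p ^ (a + b)) ∈ C := by
    rw [pow_add, pow_mul, h2, h3]
    exact C.mul_mem hc₂ hx1b
  exact mem_of_pow_mem hgo (a + b) h4

/-- Relative Frattini argument: `X ⊴ T`, `R` a Sylow `p`-subgroup of `T`. -/
theorem rel_frattini [Finite G] {p : ℕ} [Fact p.Prime] {T X R : Subgroup G}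
    (hXT : X ≤ T) (hTX : T ≤ normalizer (X : Set G)) (hRT : R ≤ T) (hR : IsPGroup p R)
    (hidx : ¬ p ∣ R.relIndex T) :
    ∀ t ∈ T, ∃ x ∈ X, ∃ n ∈ T ⊓ normalizer ((R ⊓ X : Subgroup G) : Set G), t = x * n := by
  intro t ht
  let R' : Sylow p T := IsPGroup.toSylow (P := R.subgroupOf T) hR.comap_subtype hidx
  have hR' : (R' : Subgroup T) = R.subgroupOf T := IsPGroup.toSylow_coe _ _
  have hXn : (X.subgroupOf T).Normal := (normal_subgroupOf_iff_le_normalizer hXT).mpr hTX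
  obtain ⟨c, hc, n, hn, hcn⟩ := Cfsg.Agent.Lib.Helper32_Sylow.frattini_inf R' (X.subgroupOf T) ⟨t, ht⟩
  refine ⟨(c : G), mem_subgroupOf.mp hc, (n : G), ⟨n.2, ?_⟩, ?_⟩
  · rw [hR'] at hn
    apply Cfsg.Agent.Lib.Helper34_Fusion.mem_normalizer_of_cj_le
    intro y hy
    rw [mem_cj] at hy
    have hyT : (n : G)⁻¹ * y * (n : G) ∈ T := hRT hy.1
    have hyT' : y ∈ T := by
      have : y = (n : G) * ((n : G)⁻¹ * y * (n : G)) * (n : G)⁻¹ := by group
      rw [this]
      exact T.mul_mem (T.mul_mem n.2 hyT) (T.inv_mem n.2)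
    have h1 : (⟨(n : G)⁻¹ * y * (n : G), hyT⟩ : T) ∈ R.subgroupOf T ⊓ X.subgroupOf T :=
      ⟨mem_subgroupOf.mpr hy.1, mem_subgroupOf.mpr hy.2⟩
    have h2 := (mem_normalizer_iff.mp hn _).mp h1
    have e : n * (⟨(n : G)⁻¹ * y * (n : G), hyT⟩ : T) * n⁻¹ = ⟨y, hyT'⟩ := by
      apply Subtype.ext
      simp only [coe_mul, InvMemClass.coe_inv]
      group
    rw [e] at h2
    exact ⟨mem_subgroupOf.mp h2.1, mem_subgroupOf.mp h2.2⟩
  · have := congrArg Subtype.val hcn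
    simpa using this

/-- a `p'`-element centralizing the `p`-group `Q₀` and acting trivially modulo `Q₀` on `q`
commutes with `q`. -/
theorem commute_of_stab [Finite G] {p : ℕ} [Fact p.Prime] {Q₀ : Subgroup G} (hQ₀ : IsPGroup p Q₀)
    {t : G} (hto : (orderOf t).Coprime p) (hc : ∀ z ∈ Q₀, t * z = z * t) {q : G}
    (hq : t * q * t⁻¹ * q⁻¹ ∈ Q₀) : t * q = q * t := by
  set z := t * q * t⁻¹ * q⁻¹ with hz
  have hzq : t * q * t⁻¹ = z * q := by rw [hz]; group
  have hk : ∀ k : ℕ, t ^ k * q * (t ^ k)⁻¹ = z ^ k * q := by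
    intro k
    induction k with
    | zero => simp
    | succ k ih =>
      have e : t ^ (k + 1) * q * (t ^ (k + 1))⁻¹ = t * (t ^ k * q * (t ^ k)⁻¹) * t⁻¹ := by
        rw [pow_succ']; group
      rw [e, ih]
      have hzk : t * z ^ k = z ^ k * t := hc _ (pow_mem hq k)
      calc t * (z ^ k * q) * t⁻¹ = (t * z ^ k) * q * t⁻¹ := by group
        _ = z ^ k * t * q * t⁻¹ := by rw [hzk]
        _ = z ^ k * (t * q * t⁻¹) := by group
        _ = z ^ k * (z * q) := by rw [hzq]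
        _ = z ^ (k + 1) * q := by rw [pow_succ]; group
  have h1 := hk (orderOf t)
  rw [pow_orderOf_eq_one] at h1
  have h2 : z ^ orderOf t = 1 := by
    have : q = z ^ orderOf t * q := by simpa using h1
    exact (mul_eq_right.mp this.symm)
  obtain ⟨j, hj⟩ := hQ₀ ⟨z, hq⟩
  have hj' : z ^ (p ^ j) = 1 := by simpa using congrArg Subtype.val hj
  have h3 : orderOf z ∣ Nat.gcd (orderOf t) (p ^ j) :=
    Nat.dvd_gcd (orderOf_dvd_of_pow_eq_one h2) (orderOf_dvd_of_pow_eq_one hj')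
  rw [Nat.Coprime.pow_right j hto, Nat.dvd_one, orderOf_eq_one_iff] at h3
  calc t * q = (t * q * t⁻¹) * t := by group
    _ = z * q * t := by rw [hzq]
    _ = q * t := by rw [h3, one_mul]

/-- the Frobenius condition in a subgroup `M` of `G`, read in `G`. -/
theorem frob_sub {p : ℕ} {M : Subgroup G} (hM : FrobHyp p ↥M) {Q : Subgroup G} (hQM : Q ≤ M)
    (hQ : IsPGroup p Q) {g : G} (hgM : g ∈ M) (hgN : g ∈ normalizer (Q : Set G))
    (hgo : (orderOf g).Coprime p) : g ∈ centralizer (Q : Set G) := by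
  have h1 : (⟨g, hgM⟩ : M) ∈ normalizer ((Q.subgroupOf M : Subgroup M) : Set M) := by
    rw [mem_normalizer_iff]
    intro h
    rw [mem_subgroupOf, mem_subgroupOf]
    exact mem_normalizer_iff.mp hgN h
  have h2 : (orderOf (⟨g, hgM⟩ : M)).Coprime p := by
    rw [Subgroup.orderOf_mk]; exact hgo
  have h3 := hM (Q.subgroupOf M) hQ.comap_subtype _ h1 h2
  rw [mem_centralizer_iff] at h3 ⊢
  intro q hq
  have := h3 ⟨q, hQM hq⟩ (mem_subgroupOf.mpr hq)
  exact congrArg Subtype.val this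

/-- `g` normalizes a join if it normalizes both parts -/
theorem mem_normalizer_sup {A B : Subgroup G} {g : G} (hA : g ∈ normalizer (A : Set G))
    (hB : g ∈ normalizer (B : Set G)) : g ∈ normalizer ((A ⊔ B : Subgroup G) : Set G) := by
  rw [mem_normalizer_iff_cj] at hA hB ⊢
  unfold cj at hA hB ⊢
  rw [Subgroup.map_sup, hA, hB]

/-- conjugation invariance of the Frobenius condition for one subgroup -/
theorem pp_cj {p : ℕ} (c : G) (Q : Subgroup G)
    (h : PP p (normalizer ((cj c Q : Subgroup G) : Set G)) (centralizer ((cj c Q : Subgroup G) : Set G))) :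
    PP p (normalizer (Q : Set G)) (centralizer (Q : Set G)) := by
  intro g hg hgo
  have h1 : c * g * c⁻¹ ∈ normalizer ((cj c Q : Subgroup G) : Set G) := by
    rw [← cj_normalizer]; exact conj_mem_cj hg
  have h2 : orderOf (c * g * c⁻¹) = orderOf g := by
    have := MulEquiv.orderOf_eq (MulAut.conj c) g
    rwa [MulAut.conj_apply] at this
  have h3 := h _ h1 (by rw [h2]; exact hgo)
  rw [← cj_centralizer] at h3
  exact conj_mem_cj_iff.mp h3

/-- the elements of `N(Q)` acting trivially on `Q` modulo `Q₀` -/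
def stab (Q Q₀ : Subgroup G) (h : normalizer (Q : Set G) ≤ normalizer (Q₀ : Set G)) :
    Subgroup G where
  carrier := {t | t ∈ normalizer (Q : Set G) ∧ ∀ q ∈ Q, t * q * t⁻¹ * q⁻¹ ∈ Q₀}
  one_mem' := ⟨one_mem _, fun q _ => by simp [Q₀.one_mem]⟩
  mul_mem' := by
    rintro t s ⟨ht, ht'⟩ ⟨hs, hs'⟩
    refine ⟨mul_mem ht hs, fun q hq => ?_⟩
    have e : t * s * q * (t * s)⁻¹ * q⁻¹ =
        t * (s * q * s⁻¹ * q⁻¹) * t⁻¹ * (t * q * t⁻¹ * q⁻¹) := by group
    rw [e]
    exact Q₀.mul_mem ((mem_normalizer_iff.mp (h ht) _).mp (hs' q hq)) (ht' q hq)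
  inv_mem' := by
    rintro t ⟨ht, ht'⟩
    refine ⟨inv_mem ht, fun q hq => ?_⟩
    have e : t⁻¹ * q * t⁻¹⁻¹ * q⁻¹ = t⁻¹ * (t * q * t⁻¹ * q⁻¹)⁻¹ * t⁻¹⁻¹ := by group
    rw [e]
    exact (mem_normalizer_iff.mp (h (inv_mem ht)) _).mp (Q₀.inv_mem (ht' q hq))

theorem mem_stab {Q Q₀ : Subgroup G} {h : normalizer (Q : Set G) ≤ normalizer (Q₀ : Set G)} {t : G} :
    t ∈ stab Q Q₀ h ↔ t ∈ normalizer (Q : Set G) ∧ ∀ q ∈ Q, t * q * t⁻¹ * q⁻¹ ∈ Q₀ := Iff.rfl

theorem stab_le (Q Q₀ : Subgroup G) (h : normalizer (Q : Set G) ≤ normalizer (Q₀ : Set G)) :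
    stab Q Q₀ h ≤ normalizer (Q : Set G) := fun _ ht => ht.1

theorem normalizer_le_normalizer_stab [Finite G] (Q Q₀ : Subgroup G)
    (h : normalizer (Q : Set G) ≤ normalizer (Q₀ : Set G)) :
    normalizer (Q : Set G) ≤ normalizer ((stab Q Q₀ h : Subgroup G) : Set G) := by
  intro s hs
  apply Cfsg.Agent.Lib.Helper34_Fusion.mem_normalizer_of_cj_le
  intro y hy
  rw [mem_cj, mem_stab] at hy
  obtain ⟨hy1, hy2⟩ := hy
  have e : y = s * (s⁻¹ * y * s) * s⁻¹ := by group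
  rw [mem_stab]
  refine ⟨?_, fun q hq => ?_⟩
  · rw [e]
    exact mul_mem (mul_mem hs hy1) (inv_mem hs)
  · have hq' : s⁻¹ * q * s⁻¹⁻¹ ∈ Q := (mem_normalizer_iff.mp (inv_mem hs) q).mp hq
    have h1 := hy2 _ hq'
    have h2 := (mem_normalizer_iff.mp (h hs) _).mp h1
    have e2 : s * (s⁻¹ * y * s * (s⁻¹ * q * s⁻¹⁻¹) * (s⁻¹ * y * s)⁻¹ * (s⁻¹ * q * s⁻¹⁻¹)⁻¹) * s⁻¹ =
        y * q * y⁻¹ * q⁻¹ := by group
    rw [e2] at h2
    exact h2

section Main

variable [Finite G] {p : ℕ} [Fact p.Prime] (S : Sylow p G) (D : Subgroup G)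
  (hD : Cfsg.IsStronglyClosed D (S : Subgroup G))

include hD

theorem sylow_le_normalizer : (S : Subgroup G) ≤ normalizer (D : Set G) := by
  intro s hs
  apply Cfsg.Agent.Lib.Helper34_Fusion.mem_normalizer_of_cj_le
  intro y hy
  rw [mem_cj] at hy
  have e : y = s * (s⁻¹ * y * s) * s⁻¹ := by group
  rw [e]
  apply hD.2 _ hy s
  exact mul_mem (mul_mem hs (hD.1 hy)) (inv_mem hs)

theorem normalizes_inf {A : Subgroup G} (hA : A ≤ (S : Subgroup G)) {n : G}
    (hn : n ∈ normalizer (A : Set G)) : n ∈ normalizer ((A ⊓ D : Subgroup G) : Set G) := by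
  apply Cfsg.Agent.Lib.Helper34_Fusion.mem_normalizer_of_cj_le
  intro y hy
  rw [mem_cj] at hy
  have e : y = n * (n⁻¹ * y * n) * n⁻¹ := by group
  have hyA : y ∈ A := by rw [e]; exact (mem_normalizer_iff.mp hn _).mp hy.1
  refine ⟨hyA, ?_⟩
  rw [e]
  apply hD.2 _ hy.2 n
  rw [← e]
  exact hA hyA

theorem cj_le_of_le {U : Subgroup G} (hU : U ≤ D) {c : G} (hc : cj c U ≤ (S : Subgroup G)) :
    cj c U ≤ D := by
  intro y hy
  have hy' := mem_cj.mp hy
  have e : y = c * (c⁻¹ * y * c) * c⁻¹ := by group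
  rw [e]
  apply hD.2 _ (hU hy') c
  rw [← e]
  exact hc hy

theorem cj_inf_le {Q : Subgroup G} {c : G} (hcQ : cj c Q ≤ (S : Subgroup G)) :
    cj c (Q ⊓ D) ≤ cj c Q ⊓ D :=
  le_inf (cj_mono inf_le_left)
    (cj_le_of_le S D hD inf_le_right ((cj_mono inf_le_left).trans hcQ))

theorem card_cj_inf {Q : Subgroup G} (hQ : Q ≤ (S : Subgroup G)) {c : G}
    (hcQ : cj c Q ≤ (S : Subgroup G)) :
    Nat.card (cj c Q ⊓ D : Subgroup G) = Nat.card (Q ⊓ D : Subgroup G) := by
  apply le_antisymm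
  · have h1 := cj_inf_le S D hD (Q := cj c Q) (c := c⁻¹) (by rw [cj_inv_cj]; exact hQ)
    rw [cj_inv_cj] at h1
    calc Nat.card (cj c Q ⊓ D : Subgroup G) = Nat.card (cj c⁻¹ (cj c Q ⊓ D)) :=
          (Cfsg.Agent.Lib.Helper33_Alperin.card_cj _ _).symm
      _ ≤ Nat.card (Q ⊓ D : Subgroup G) := Subgroup.card_le_of_le h1
  · have h1 := cj_inf_le S D hD (Q := Q) (c := c) hcQ
    calc Nat.card (Q ⊓ D : Subgroup G) = Nat.card (cj c (Q ⊓ D)) :=
          (Cfsg.Agent.Lib.Helper33_Alperin.card_cj _ _).symm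
      _ ≤ Nat.card (cj c Q ⊓ D : Subgroup G) := Subgroup.card_le_of_le h1

theorem normalizer_le_normalizer_centralizer' (U : Subgroup G) :
    normalizer (U : Set G) ≤ normalizer ((centralizer (U : Set G) : Subgroup G) : Set G) := by
  intro t ht
  rw [mem_normalizer_iff_cj, cj_centralizer, mem_normalizer_iff_cj.mp ht]

variable (hH : ∀ U : Subgroup G, U ≤ D → D ⊓ centralizer (U : Set G) ≤ U →
  FrobHyp p ↥(normalizer (U : Set G)))

include hH

theorem stepA_fn {U₀ : Subgroup G} (hU₀ : U₀ ≤ D)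
    (hfn : ¬ p ∣ ((S : Subgroup G) ⊓ normalizer (U₀ : Set G)).relIndex (normalizer (U₀ : Set G))) :
    PP p (normalizer (U₀ : Set G)) (centralizer (U₀ : Set G)) := by
  have hCT : centralizer (U₀ : Set G) ≤ normalizer (U₀ : Set G) := centralizer_le_normalizer _
  have hTC := normalizer_le_normalizer_centralizer' S D hD U₀
  refine pp_combine (X := centralizer (U₀ : Set G))
    (N := normalizer (U₀ : Set G) ⊓ normalizer ((((S : Subgroup G) ⊓ normalizer (U₀ : Set G)) ⊓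
      centralizer (U₀ : Set G) : Subgroup G) : Set G)) hCT hTC hTC inf_le_left
    (rel_frattini hCT hTC inf_le_right (S.2.to_le inf_le_left) hfn) (fun h hh _ => hh) ?_
  intro n hn hno
  have hn1 := normalizes_inf S D hD (A := ((S : Subgroup G) ⊓ normalizer (U₀ : Set G)) ⊓
      centralizer (U₀ : Set G)) (inf_le_left.trans inf_le_left) hn.2
  have e : ((S : Subgroup G) ⊓ normalizer (U₀ : Set G)) ⊓ centralizer (U₀ : Set G) ⊓ D =
      D ⊓ centralizer (U₀ : Set G) := by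
    apply le_antisymm
    · exact le_inf inf_le_right (inf_le_left.trans inf_le_right)
    · exact le_inf (le_inf (le_inf (inf_le_left.trans hD.1) (inf_le_right.trans hCT)) inf_le_right)
        inf_le_left
  rw [e] at hn1
  have hnU₁ := mem_normalizer_sup hn.1 hn1
  have hU₁D : U₀ ⊔ (D ⊓ centralizer (U₀ : Set G)) ≤ D := sup_le hU₀ inf_le_left
  have hcen : D ⊓ centralizer ((U₀ ⊔ (D ⊓ centralizer (U₀ : Set G)) : Subgroup G) : Set G) ≤
      U₀ ⊔ (D ⊓ centralizer (U₀ : Set G)) := by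
    refine le_trans (inf_le_inf_left D (centralizer_le ?_)) le_sup_right
    exact (le_sup_left : U₀ ≤ U₀ ⊔ (D ⊓ centralizer (U₀ : Set G)))
  have h3 := frob_sub (hH _ hU₁D hcen) le_normalizer (S.2.to_le (hU₁D.trans hD.1)) hnU₁ hnU₁ hno
  exact centralizer_le (le_sup_left : U₀ ≤ U₀ ⊔ (D ⊓ centralizer (U₀ : Set G))) h3

theorem stepA {U₀ : Subgroup G} (hU₀ : U₀ ≤ D) :
    PP p (normalizer (U₀ : Set G)) (centralizer (U₀ : Set G)) := by
  obtain ⟨U, -, hUS, ⟨c, rfl⟩, hfn⟩ := Cfsg.Agent.S2012.exists_FN S U₀ (hU₀.trans hD.1)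
  apply pp_cj c
  exact stepA_fn S D hD hH (cj_le_of_le S D hD hU₀ hUS) hfn

theorem main_fn (k : ℕ)
    (ih : ∀ Q' : Subgroup G, Q' ≤ (S : Subgroup G) →
      Nat.card D - Nat.card (Q' ⊓ D : Subgroup G) < k →
      PP p (normalizer (Q' : Set G)) (centralizer (Q' : Set G)))
    {Q : Subgroup G} (hQS : Q ≤ (S : Subgroup G))
    (hk : Nat.card D - Nat.card (Q ⊓ D : Subgroup G) = k)
    (hfn : ¬ p ∣ ((S : Subgroup G) ⊓ normalizer (Q : Set G)).relIndex (normalizer (Q : Set G))) :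
    PP p (normalizer (Q : Set G)) (centralizer (Q : Set G)) := by
  have hSD := sylow_le_normalizer S D hD
  by_cases hDQ : D ≤ Q
  · intro g hg hgo
    have h1 := normalizes_inf S D hD hQS hg
    rw [inf_eq_right.mpr hDQ] at h1
    have hF := hH D le_rfl inf_le_left
    exact frob_sub hF (hQS.trans hSD) (S.2.to_le hQS) h1 hg hgo
  · have hTQ₀ : normalizer (Q : Set G) ≤ normalizer ((Q ⊓ D : Subgroup G) : Set G) :=
      fun t ht => normalizes_inf S D hD hQS ht
    have hXT := stab_le Q (Q ⊓ D) hTQ₀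
    have hTX := normalizer_le_normalizer_stab Q (Q ⊓ D) hTQ₀
    have hTC := normalizer_le_normalizer_centralizer' S D hD Q
    have hQ₀p : IsPGroup p (Q ⊓ D : Subgroup G) := S.2.to_le (inf_le_left.trans hQS)
    -- p'-elements of X centralize Q
    have hppX : PP p (stab Q (Q ⊓ D) hTQ₀) (centralizer (Q : Set G)) := by
      intro t ht hto
      have h1 : t ∈ centralizer ((Q ⊓ D : Subgroup G) : Set G) :=
        stepA S D hD hH (inf_le_right : Q ⊓ D ≤ D) t (hTQ₀ ht.1) hto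
      rw [mem_centralizer_iff] at h1 ⊢
      intro q hq
      exact (commute_of_stab hQ₀p hto (fun z hz => (h1 z hz).symm) (ht.2 q hq)).symm
    -- an element of D ∩ N(Q) outside Q
    have hex : ∃ d ∈ D ⊓ normalizer (Q : Set G), d ∉ Q := by
      have hlt : Q < Q ⊔ D := by
        refine lt_of_le_of_ne le_sup_left ?_
        intro h
        apply hDQ
        rw [h]
        exact le_sup_right
      have hp' : IsPGroup p (Q ⊔ D : Subgroup G) := S.2.to_le (sup_le hQS hD.1)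
      have h2 := Cfsg.Agent.Lib.Helper33_Alperin.lt_inf_normalizer hp' hlt
      obtain ⟨y, hy, hyQ⟩ := SetLike.exists_of_lt h2
      have hy1 : y ∈ D ⊔ Q := by rw [sup_comm]; exact hy.1
      obtain ⟨d, hd, q, hq, hdq⟩ := Cfsg.Agent.Lib.Helper24_CoprimeAction.exists_mul_of_mem_sup Q D
        (hQS.trans hSD) hy1
      refine ⟨d, ⟨hd, ?_⟩, ?_⟩
      · have : d = y * q⁻¹ := by rw [hdq]; group
        rw [this]
        exact (normalizer (Q : Set G)).mul_mem hy.2 ((normalizer (Q : Set G)).inv_mem (le_normalizer hq))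
      · intro hdQ
        apply hyQ
        rw [hdq]
        exact mul_mem hdQ hq
    obtain ⟨d, hd, hdQ⟩ := hex
    -- p'-elements of the Frattini normalizer centralize Q
    have hppN : PP p (normalizer (Q : Set G) ⊓ normalizer
        (((((S : Subgroup G) ⊓ normalizer (Q : Set G)) ⊓ stab Q (Q ⊓ D) hTQ₀ : Subgroup G)) : Set G))
        (centralizer (Q : Set G)) := by
      intro n hn hno
      have hn1 := normalizes_inf S D hD (A := ((S : Subgroup G) ⊓ normalizer (Q : Set G)) ⊓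
        stab Q (Q ⊓ D) hTQ₀) (inf_le_left.trans inf_le_left) hn.2
      have e : ((S : Subgroup G) ⊓ normalizer (Q : Set G)) ⊓ stab Q (Q ⊓ D) hTQ₀ ⊓ D =
          D ⊓ normalizer (Q : Set G) := by
        apply le_antisymm
        · exact le_inf inf_le_right (inf_le_left.trans (inf_le_left.trans inf_le_right))
        · intro x hx
          refine ⟨⟨⟨hD.1 hx.1, hx.2⟩, ⟨hx.2, fun q hq => ⟨?_, ?_⟩⟩⟩, hx.1⟩
          · exact Q.mul_mem ((mem_normalizer_iff.mp hx.2 q).mp hq) (Q.inv_mem hq)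
          · have h3 : q * x⁻¹ * q⁻¹ ∈ D :=
              (mem_normalizer_iff.mp (hSD (hQS hq)) _).mp (inv_mem hx.1)
            have e3 : x * q * x⁻¹ * q⁻¹ = x * (q * x⁻¹ * q⁻¹) := by group
            rw [e3]
            exact mul_mem hx.1 h3
      rw [e] at hn1
      have hnQ₁ := mem_normalizer_sup hn.1 hn1
      have hQ₁S : Q ⊔ (D ⊓ normalizer (Q : Set G)) ≤ (S : Subgroup G) :=
        sup_le hQS (inf_le_left.trans hD.1)
      have hlt : Q ⊓ D < (Q ⊔ (D ⊓ normalizer (Q : Set G))) ⊓ D := by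
        refine lt_of_le_of_ne (inf_le_inf_right D le_sup_left) ?_
        intro h
        apply hdQ
        have : d ∈ (Q ⊔ (D ⊓ normalizer (Q : Set G))) ⊓ D := ⟨le_sup_right (a := Q) hd, hd.1⟩
        rw [← h] at this
        exact this.1
      have hc1 := Cfsg.Agent.Lib.Helper33_Alperin.card_lt_of_lt hlt
      have hc2 : Nat.card ((Q ⊔ (D ⊓ normalizer (Q : Set G))) ⊓ D : Subgroup G) ≤ Nat.card D :=
        Subgroup.card_le_of_le inf_le_right
      have hmeas : Nat.card D - Nat.card ((Q ⊔ (D ⊓ normalizer (Q : Set G))) ⊓ D : Subgroup G) < k := by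
        omega
      have h4 := ih _ hQ₁S hmeas n hnQ₁ hno
      exact centralizer_le (le_sup_left : Q ≤ Q ⊔ (D ⊓ normalizer (Q : Set G))) h4
    exact pp_combine hXT hTX hTC inf_le_left
      (rel_frattini hXT hTX inf_le_right (S.2.to_le inf_le_left) hfn) hppX hppN

theorem main_ind : ∀ k : ℕ, ∀ Q : Subgroup G, Q ≤ (S : Subgroup G) →
    Nat.card D - Nat.card (Q ⊓ D : Subgroup G) = k →
    PP p (normalizer (Q : Set G)) (centralizer (Q : Set G)) := by
  intro k
  induction k using Nat.strong_induction_on with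
  | _ k ih =>
    intro Q hQS hk
    obtain ⟨U, -, hUS, ⟨c, rfl⟩, hfn⟩ := Cfsg.Agent.S2012.exists_FN S Q hQS
    apply pp_cj c
    have hk' : Nat.card D - Nat.card (cj c Q ⊓ D : Subgroup G) = k := by
      rw [card_cj_inf S D hD hQS hUS]; exact hk
    exact main_fn S D hD hH k (fun Q' hQ' hlt => ih _ hlt Q' hQ' rfl) hUS hk' hfn

theorem frobHyp_of_hyp : FrobHyp p G :=
  frobHyp_of_le_sylow S (fun Q hQ g hg hgo => main_ind S D hD hH _ Q hQ rfl g hg hgo)

end Main

theorem npc_iff {H : Type*} [Group H] [Finite H] {p : ℕ} [Fact p.Prime] :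
    Cfsg.HasNormalPComplement p H ↔ HasNPC p H := by
  constructor
  · rintro ⟨P, N, hN, hc⟩
    exact hasNPC_of_isComplement' hN P hc
  · rintro ⟨K, hKn, hKc, n, hKi⟩
    obtain ⟨P⟩ : Nonempty (Sylow p H) := inferInstance
    exact ⟨P, K, hKn, isComplement'_of_npc hKc hKi P⟩

theorem result {G : Type*} [Group G] [Finite G] {p : ℕ} [Fact p.Prime] (S : Sylow p G) (D : Subgroup G) (hD : Cfsg.IsStronglyClosed D (S : Subgroup G)) : Cfsg.HasNormalPComplement p G ↔ ∀ U : Subgroup G, U ≤ D → D ⊓ Subgroup.centralizer (U : Set G) ≤ U → Cfsg.HasNormalPComplement p ↥(Subgroup.normalizer (U : Set G)) := by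
  constructor
  · intro h U _ _
    rw [npc_iff] at h ⊢
    exact hasNPC_subgroup h _
  · intro h
    rw [npc_iff]
    apply hasNPC_of_frobHyp
    apply frobHyp_of_hyp S D hD
    intro U hU hc
    exact frobHyp_of_hasNPC (npc_iff.mp (h U hU hc))

end Cfsg.Agent.S3839
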