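import Cfsg.Statements.S4403
import Cfsg.Agent.Lib.Helper1_Cores
import Cfsg.Agent.Lib.Helper21_Components
import Cfsg.Agent.Lib.Helper21_FStar
import Cfsg.Agent.Lib.Helper22_Layer
import Cfsg.Agent.Lib.Helper29_Local
import Cfsg.Agent.Lib.Helper48_SPEFStar
import Cfsg.Agent.Lib.Helper50_UniqueInv
import Cfsg.Agent.Lib.Helper55_Fitting
import Cfsg.Agent.S2971

set_option autoImplicit false
open Cfsg

namespace Cfsg.Agent.S4403

open Subgroup
open scoped commutatorElement

universe u

/-- subgroups of a cyclic `p`-subgroup form a chain -/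
theorem le_or_le_of_cyclic {K : Type*} [Group K] [Finite K] {p : ℕ} [Fact p.Prime] (P : Subgroup K)
    (hP : IsPGroup p P) (hc : IsCyclic P) (A B : Subgroup K) (hA : A ≤ P) (hB : B ≤ P) :
    A ≤ B ∨ B ≤ A := by
  rcases Cfsg.Agent.Lib.Helper50_UniqueInv.le_or_lt_of_isPGroup hP (A.subgroupOf P)
    (B.subgroupOf P) with h | h
  · left
    intro a ha
    exact h (show (⟨a, hA ha⟩ : P) ∈ A.subgroupOf P from ha)
  · right
    intro b hb
    exact h.le (show (⟨b, hB hb⟩ : P) ∈ B.subgroupOf P from hb)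

/-- an element of order `p` of a cyclic `p`-subgroup lies in every nontrivial subgroup of it -/
theorem mem_of_ne_bot {K : Type*} [Group K] [Finite K] {p : ℕ} [Fact p.Prime] (P : Subgroup K)
    (hP : IsPGroup p P) (hc : IsCyclic P) (z : K) (hzP : z ∈ P) (hz : orderOf z = p)
    (A : Subgroup K) (hA : A ≤ P) (hA1 : A ≠ ⊥) : z ∈ A := by
  have hp : p.Prime := Fact.out
  obtain ⟨a, haA, ha1⟩ := (A.bot_or_exists_ne_one).resolve_left hA1
  rcases le_or_le_of_cyclic P hP hc (zpowers z) (zpowers a) (zpowers_le.mpr hzP)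
    (zpowers_le.mpr (hA haA)) with h | h
  · exact (zpowers_le.mpr haA) (h (mem_zpowers z))
  · have hcard : Nat.card (zpowers z) = p := by rw [Nat.card_zpowers, hz]
    have hd : Nat.card (zpowers a) ∣ p := hcard ▸ Subgroup.card_dvd_of_le h
    rcases (Nat.dvd_prime hp).mp hd with h1 | h1
    · exfalso
      apply ha1
      have : zpowers a = ⊥ := Subgroup.card_eq_one.mp h1
      rwa [zpowers_eq_bot] at this
    · have : zpowers a = zpowers z := Subgroup.eq_of_le_of_card_ge h (by rw [hcard, h1])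
      exact (zpowers_le.mpr haA) (this ▸ mem_zpowers z)

/-- if a Sylow `p`-subgroup is cyclic, every `p`-subgroup is cyclic -/
theorem isCyclic_of_isPGroup {K : Type*} [Group K] [Finite K] {p : ℕ} [Fact p.Prime]
    (P : Sylow p K) (hP : IsCyclic ↥(P : Subgroup K)) (D : Subgroup K) (hD : IsPGroup p D) :
    IsCyclic ↥D := by
  obtain ⟨Q, hQ⟩ := hD.exists_le_sylow
  obtain ⟨g, rfl⟩ := MulAction.exists_smul_eq K P Q
  have e : ↥(P : Subgroup K) ≃* ↥((g • P : Sylow p K) : Subgroup K) := Sylow.equivSMul P g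
  have : IsCyclic ↥((g • P : Sylow p K) : Subgroup K) := isCyclic_of_surjective e e.surjective
  exact Subgroup.isCyclic_of_le hQ

/-- a homomorphism into a group whose elements commute kills the commutator subgroup -/
theorem commutator_le_ker {X A : Type*} [Group X] [Group A] (f : X →* A)
    (hA : ∀ a b : A, a * b = b * a) : commutator X ≤ f.ker := by
  rw [commutator_def, Subgroup.commutator_le]
  intro a _ b _
  rw [MonoidHom.mem_ker, map_commutatorElement, commutatorElement_eq_one_iff_mul_comm]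
  exact hA _ _

/-- **transfer**: an element of order `p` of a cyclic Sylow `p`-subgroup lying in the commutator
subgroup is moved by some element of the normalizer. -/
theorem exists_normalizer_move {X : Type*} [Group X] [Finite X] {p : ℕ} [Fact p.Prime]
    (P : Sylow p X) (hcyc : IsCyclic ↥(P : Subgroup X)) (z : X) (hzP : z ∈ (P : Subgroup X))
    (hz : orderOf z = p) (hzc : z ∈ commutator X) :
    ∃ n ∈ Subgroup.normalizer ((P : Subgroup X) : Set X), n * z * n⁻¹ ≠ z := by
  by_contra hno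
  push Not at hno
  have hNC := Cfsg.Agent.S2971.normalizer_le_centralizer P hcyc z hzP hz hno
  have hcomm : ∀ a b : ↥(P : Subgroup X), a * b = b * a := fun a b =>
    (IsCyclic.isMulCommutative (α := ↥(P : Subgroup X))).is_comm.comm a b
  have h1 : MonoidHom.transferSylow P hNC z = 1 :=
    MonoidHom.mem_ker.mp (commutator_le_ker (MonoidHom.transferSylow P hNC) hcomm hzc)
  have h2 := MonoidHom.transferSylow_eq_pow P hNC z hzP
  rw [h1] at h2
  have h3 : z ^ (P : Subgroup X).index = 1 := by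
    have := congrArg Subtype.val h2
    simpa using this.symm
  have h4 : p ∣ (P : Subgroup X).index := by
    have := orderOf_dvd_of_pow_eq_one h3
    rwa [hz] at this
  exact P.not_dvd_index h4

/-- an element normalizing a cyclic `p`-subgroup `P`, fixing an element of order `p` of it, and
having a power coprime to `p` that centralizes `P`, centralizes `P`. -/
theorem commute_of_fix {K : Type*} [Group K] [Finite K] {p : ℕ} [Fact p.Prime] (P : Subgroup K)
    (hP : IsPGroup p P) (hc : IsCyclic P) (z : K) (hzP : z ∈ P) (hz : orderOf z = p) (n : K)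
    (hn : ∀ w ∈ P, n * w * n⁻¹ ∈ P) (hfix : n * z * n⁻¹ = z) (j : ℕ) (hj : j.Coprime p)
    (hnj : ∀ w ∈ P, n ^ j * w = w * n ^ j) : ∀ w ∈ P, n * w = w * n := by
  obtain ⟨a', ha'⟩ := IsCyclic.exists_generator (α := ↥P)
  set a : K := (a' : K) with ha
  have haP : a ∈ P := a'.2
  have hgen : ∀ w ∈ P, ∃ s : ℤ, a ^ s = w := by
    intro w hw
    obtain ⟨s, hs⟩ := Subgroup.mem_zpowers_iff.mp (ha' ⟨w, hw⟩)
    refine ⟨s, ?_⟩
    have := congrArg Subtype.val hs
    simpa using this
  obtain ⟨m, hm⟩ := hP.exists_card_eq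
  have horda : orderOf a = p ^ m := by
    rw [ha, Subgroup.orderOf_coe, orderOf_eq_card_of_forall_mem_zpowers ha', hm]
  have hm1 : 1 ≤ m := by
    by_contra h0
    have h0' : m = 0 := by omega
    rw [h0', pow_zero] at hm
    have hbot : P = ⊥ := Subgroup.card_eq_one.mp hm
    rw [hbot, Subgroup.mem_bot] at hzP
    rw [hzP, orderOf_one] at hz
    exact (Fact.out : p.Prime).one_lt.ne hz
  have hsuff : ∀ n' : K, n' * a = a * n' → ∀ w ∈ P, n' * w = w * n' := by
    intro n' hn' w hw
    obtain ⟨s, rfl⟩ := hgen w hw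
    exact ((Commute.zpow_left (show Commute a n' from hn'.symm) s).eq).symm
  obtain ⟨r, hr⟩ := hgen _ (hn a haP)
  obtain ⟨s, hs⟩ := hgen z hzP
  have hzr : z ^ r = z := by
    calc z ^ r = (a ^ s) ^ r := by rw [hs]
      _ = (a ^ r) ^ s := by rw [← zpow_mul, ← zpow_mul, mul_comm]
      _ = (n * a * n⁻¹) ^ s := by rw [hr]
      _ = n * a ^ s * n⁻¹ := by rw [conj_zpow]
      _ = z := by rw [hs, hfix]
  have hpr : (p : ℤ) ∣ r - 1 := by
    have h1 : z ^ (r - 1) = 1 := by rw [zpow_sub_one, hzr, mul_inv_cancel]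
    rw [← hz]
    exact orderOf_dvd_iff_zpow_eq_one.mpr h1
  have hpow : ∀ k : ℕ, n ^ k * a * (n ^ k)⁻¹ = a ^ (r ^ k) := by
    intro k
    induction k with
    | zero => simp
    | succ k ih =>
      calc n ^ (k + 1) * a * (n ^ (k + 1))⁻¹ = n * (n ^ k * a * (n ^ k)⁻¹) * n⁻¹ := by
            rw [pow_succ']; group
        _ = n * a ^ (r ^ k) * n⁻¹ := by rw [ih]
        _ = (n * a * n⁻¹) ^ (r ^ k) := by rw [conj_zpow]
        _ = (a ^ r) ^ (r ^ k) := by rw [hr]
        _ = a ^ (r ^ (k + 1)) := by rw [← zpow_mul, pow_succ']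
  have hq : n ^ (p ^ (m - 1)) * a = a * n ^ (p ^ (m - 1)) := by
    have h1 := hpow (p ^ (m - 1))
    have hdvd : ((p : ℤ) ^ (m - 1 + 1)) ∣ r ^ p ^ (m - 1) - 1 ^ p ^ (m - 1) :=
      dvd_sub_pow_of_dvd_sub hpr (m - 1)
    rw [one_pow, Nat.sub_add_cancel hm1] at hdvd
    have h2 : a ^ (r ^ p ^ (m - 1) - 1) = 1 := by
      apply orderOf_dvd_iff_zpow_eq_one.mp
      rw [horda]; exact_mod_cast hdvd
    have h3 : a ^ (r ^ p ^ (m - 1)) = a := by
      have e : r ^ p ^ (m - 1) = (r ^ p ^ (m - 1) - 1) + 1 := by ring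
      rw [e, zpow_add_one, h2, one_mul]
    rw [h3] at h1
    calc n ^ p ^ (m - 1) * a
        = (n ^ p ^ (m - 1) * a * (n ^ p ^ (m - 1))⁻¹) * n ^ p ^ (m - 1) := by group
      _ = a * n ^ p ^ (m - 1) := by rw [h1]
  have hcop : Nat.Coprime (p ^ (m - 1)) j := (Nat.Coprime.pow_left _ hj.symm)
  have hb := Nat.gcd_eq_gcd_ab (p ^ (m - 1)) j
  rw [hcop.gcd_eq_one] at hb
  have hn_eq : n = (n ^ (p ^ (m - 1))) ^ (Nat.gcdA (p ^ (m - 1)) j) *
      (n ^ j) ^ (Nat.gcdB (p ^ (m - 1)) j) := by
    rw [← zpow_natCast, ← zpow_natCast, ← zpow_mul, ← zpow_mul, ← zpow_add, ← hb]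
    simp
  have hca : n * a = a * n := by
    have c1 : Commute (n ^ (p ^ (m - 1))) a := hq
    have c2 : Commute (n ^ j) a := hnj a haP
    have : Commute ((n ^ (p ^ (m - 1))) ^ (Nat.gcdA (p ^ (m - 1)) j) *
      (n ^ j) ^ (Nat.gcdB (p ^ (m - 1)) j)) a :=
      (c1.zpow_left _).mul_left (c2.zpow_left _)
    rw [← hn_eq] at this
    exact this.eq
  exact hsuff n hca

/-- if `n` normalizes the cyclic `p`-subgroup `P = ⟨a⟩` and moves an element of order `p` of it,
then `a` is a power of the commutator `n a n⁻¹ a⁻¹`. -/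
theorem mem_zpowers_of_move {K : Type*} [Group K] [Finite K] {p : ℕ} [Fact p.Prime]
    (P : Subgroup K) (hP : IsPGroup p P) (a : K) (haP : a ∈ P)
    (hgen : ∀ w ∈ P, ∃ s : ℤ, a ^ s = w) (z : K) (hzP : z ∈ P) (hz : orderOf z = p) (n : K)
    (hn : n * a * n⁻¹ ∈ P) (hmove : n * z * n⁻¹ ≠ z) :
    a ∈ Subgroup.zpowers (n * a * n⁻¹ * a⁻¹) := by
  have hp : p.Prime := Fact.out
  obtain ⟨m, hm⟩ := hP.exists_card_eq
  have hapm : a ^ (p ^ m) = 1 := by
    have := pow_card_eq_one' (G := P) (x := ⟨a, haP⟩)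
    rw [hm] at this
    simpa using congrArg Subtype.val this
  obtain ⟨r, hr⟩ := hgen _ hn
  obtain ⟨s, hs⟩ := hgen z hzP
  have hzr : n * z * n⁻¹ = z ^ r := by
    calc n * z * n⁻¹ = n * a ^ s * n⁻¹ := by rw [hs]
      _ = (n * a * n⁻¹) ^ s := by rw [conj_zpow]
      _ = (a ^ r) ^ s := by rw [hr]
      _ = (a ^ s) ^ r := by rw [← zpow_mul, ← zpow_mul, mul_comm]
      _ = z ^ r := by rw [hs]
  have hndvd : ¬ (p : ℤ) ∣ r - 1 := by
    intro hd
    apply hmove
    have h1 : z ^ (r - 1) = 1 := by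
      apply orderOf_dvd_iff_zpow_eq_one.mp
      rw [hz]; exact hd
    rw [hzr]
    have e : r = (r - 1) + 1 := by ring
    rw [e, zpow_add_one, h1, one_mul]
  have hcop : IsCoprime (r - 1) ((p : ℤ) ^ m) := by
    apply IsCoprime.pow_right
    rw [isCoprime_comm]
    exact (Prime.coprime_iff_not_dvd (Nat.prime_iff_prime_int.mp hp)).mpr hndvd
  obtain ⟨u, v, huv⟩ := hcop
  have hcomm : n * a * n⁻¹ * a⁻¹ = a ^ (r - 1) := by
    rw [← hr, zpow_sub_one]
  rw [hcomm, Subgroup.mem_zpowers_iff]
  refine ⟨u, ?_⟩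
  rw [← zpow_mul]
  have e : (r - 1) * u = 1 - v * (p : ℤ) ^ m := by linarith
  rw [e, zpow_sub, zpow_one, zpow_mul']
  have : a ^ ((p : ℤ) ^ m) = 1 := by
    have := hapm
    rw [← zpow_natCast] at this
    push_cast at this
    exact this
  rw [this, one_zpow, inv_one, mul_one]

/-- a normal self-centralizing cyclic Sylow `p`-subgroup has cyclic quotient of order dividing
`p - 1` -/
theorem quotient_cyclic {K : Type*} [Group K] [Finite K] {p : ℕ} [Fact p.Prime] (P : Sylow p K)
    (hcyc : IsCyclic ↥(P : Subgroup K)) (hn : (P : Subgroup K).Normal)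
    (hC : Subgroup.centralizer ((P : Subgroup K) : Set K) = (P : Subgroup K))
    (hne : (P : Subgroup K) ≠ ⊥) :
    IsCyclic (K ⧸ (P : Subgroup K)) ∧ (P : Subgroup K).index ∣ p - 1 := by
  have hp : p.Prime := Fact.out
  have hPcomm : ∀ u ∈ (P : Subgroup K), ∀ v ∈ (P : Subgroup K), u * v = v * u := by
    intro u hu v hv
    have := (IsCyclic.isMulCommutative (α := ↥(P : Subgroup K))).is_comm.comm ⟨u, hu⟩ ⟨v, hv⟩
    exact congrArg Subtype.val this
  -- an element of order `p`
  have hpd : p ∣ Nat.card ↥(P : Subgroup K) := by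
    rcases P.isPGroup'.card_eq_or_dvd with h | h
    · exact absurd (Subgroup.card_eq_one.mp h) hne
    · exact h
  obtain ⟨z', hz'⟩ := exists_prime_orderOf_dvd_card' (G := ↥(P : Subgroup K)) p hpd
  obtain ⟨z, hzP, hz⟩ : ∃ z : K, z ∈ (P : Subgroup K) ∧ orderOf z = p :=
    ⟨z', z'.2, by rw [Subgroup.orderOf_coe, hz']⟩
  have hZP : zpowers z ≤ (P : Subgroup K) := zpowers_le.mpr hzP
  have hZne : zpowers z ≠ ⊥ := by
    rw [Ne, zpowers_eq_bot]
    intro h
    rw [h, orderOf_one] at hz
    exact hp.one_lt.ne hz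
  have hZn : (zpowers z).Normal := by
    constructor
    intro x hx k
    obtain ⟨i, rfl⟩ := mem_zpowers_iff.mp hx
    rw [← conj_zpow]
    apply zpow_mem
    apply mem_of_ne_bot (P : Subgroup K) P.isPGroup' hcyc (k * z * k⁻¹) (hn.conj_mem z hzP k)
      (by rw [← hz]; exact (MulAut.conj k).orderOf_eq z) (zpowers z) hZP hZne
  let ψ : K →* MulAut ↥(zpowers z) := MulAut.conjNormal
  have hker : ψ.ker = (P : Subgroup K) := by
    apply le_antisymm
    · intro k hk
      have h1 : ψ k ⟨z, mem_zpowers z⟩ = ⟨z, mem_zpowers z⟩ := by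
        rw [MonoidHom.mem_ker.mp hk]; rfl
      have hfix : k * z * k⁻¹ = z := by
        have := congrArg Subtype.val h1
        simpa [ψ, MulAut.conjNormal_apply] using this
      have hcop : ((P : Subgroup K).index).Coprime p :=
        ((Nat.Prime.coprime_iff_not_dvd hp).mpr P.not_dvd_index).symm
      have hkj : ∀ w ∈ (P : Subgroup K), k ^ (P : Subgroup K).index * w =
          w * k ^ (P : Subgroup K).index := by
        intro w hw
        exact hPcomm _ (Subgroup.pow_index_mem _ k) w hw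
      have := commute_of_fix (P : Subgroup K) P.isPGroup' hcyc z hzP hz k
        (fun w hw => hn.conj_mem w hw k) hfix _ hcop hkj
      rw [← hC, Subgroup.mem_centralizer_iff]
      intro w hw
      exact (this w hw).symm
    · intro k hk
      rw [MonoidHom.mem_ker]
      ext ⟨x, hx⟩
      simp only [ψ, MulAut.conjNormal_apply, MulAut.one_apply]
      rw [hPcomm k hk x (hZP hx), mul_inv_cancel_right]
  have hZcard : Nat.card ↥(zpowers z) = p := by rw [Nat.card_zpowers, hz]
  have : Fact (Nat.card ↥(zpowers z)).Prime := ⟨by rw [hZcard]; exact hp⟩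
  have hcycU : IsCyclic (ZMod (Nat.card ↥(zpowers z)))ˣ := inferInstance
  have hcycA : IsCyclic (MulAut ↥(zpowers z)) :=
    (IsCyclic.mulAutMulEquiv ↥(zpowers z)).isCyclic.mpr hcycU
  have hcycR : IsCyclic ↥ψ.range := inferInstance
  have e1 : K ⧸ ψ.ker ≃* ↥ψ.range := QuotientGroup.quotientKerEquivRange ψ
  have e2 : K ⧸ (P : Subgroup K) ≃* K ⧸ ψ.ker := QuotientGroup.quotientMulEquivOfEq hker.symm
  have e : K ⧸ (P : Subgroup K) ≃* ↥ψ.range := e2.trans e1
  refine ⟨e.isCyclic.mpr hcycR, ?_⟩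
  have h1 : (P : Subgroup K).index = Nat.card ↥ψ.range := by
    rw [Subgroup.index_eq_card]; exact Nat.card_congr e.toEquiv
  have h2 : Nat.card ↥ψ.range ∣ Nat.card (MulAut ↥(zpowers z)) := Subgroup.card_subgroup_dvd_card _
  rw [IsCyclic.card_mulAut, hZcard, Nat.totient_prime hp] at h2
  rw [h1]; exact h2

/-- Let K be a finite group, p a prime dividing its order with O_{p'}(K) = 1 (no nontrivial normal subgroup of order prime to p), and P a cyclic Sylow p-subgroup of K. Then either P is normal and self-centralizing in K with K/P cyclic of order dividing p − 1 (so K is the semidirect product of P by a group of automorphisms of P of order dividing p − 1), or the generalized Fitting subgroup F*(K) is a non-abelian simple group and p does not divide the index of F*(K) in K. -/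
theorem result {K : Type*} [Group K] [Finite K] (p : ℕ) [Fact p.Prime] (hp : p ∣ Nat.card K) (hO : Cfsg.pPrimeCore p K = ⊥)
    (P : Sylow p K) (hP : IsCyclic ↥(P : Subgroup K)) :
    ((P : Subgroup K).Normal ∧ Subgroup.centralizer ((P : Subgroup K) : Set K) = (P : Subgroup K) ∧
      (∀ (_ : (P : Subgroup K).Normal), IsCyclic (K ⧸ (P : Subgroup K))) ∧ (P : Subgroup K).index ∣ p - 1) ∨
    (IsSimpleGroup ↥(Cfsg.generalizedFittingSubgroup K) ∧ ¬ IsMulCommutative ↥(Cfsg.generalizedFittingSubgroup K) ∧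
      ¬ p ∣ (Cfsg.generalizedFittingSubgroup K).index) := by
  have hpp : p.Prime := Fact.out
  have hPne : (P : Subgroup K) ≠ ⊥ := P.ne_bot_of_dvd_card hp
  have hFit : fittingSubgroup K = pCore p K :=
    Cfsg.Agent.Lib.Helper55_Fitting.fittingSubgroup_eq_pCore_of_pPrimeCore_eq_bot p hO
  have hPcomm : ∀ u ∈ (P : Subgroup K), ∀ v ∈ (P : Subgroup K), u * v = v * u := by
    intro u hu v hv
    have := (IsCyclic.isMulCommutative (α := ↥(P : Subgroup K))).is_comm.comm ⟨u, hu⟩ ⟨v, hv⟩
    exact congrArg Subtype.val this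
  -- an element of order `p`
  have hpd : p ∣ Nat.card ↥(P : Subgroup K) := by
    rcases P.isPGroup'.card_eq_or_dvd with h | h
    · exact absurd (Subgroup.card_eq_one.mp h) hPne
    · exact h
  obtain ⟨z', hz'⟩ := exists_prime_orderOf_dvd_card' (G := ↥(P : Subgroup K)) p hpd
  obtain ⟨z, hzP, hz⟩ : ∃ z : K, z ∈ (P : Subgroup K) ∧ orderOf z = p :=
    ⟨z', z'.2, by rw [Subgroup.orderOf_coe, hz']⟩
  have hz1 : z ≠ 1 := by
    intro h
    rw [h, orderOf_one] at hz
    exact hpp.one_lt.ne hz
  have hzmem : ∀ A : Subgroup K, A ≤ (P : Subgroup K) → A ≠ ⊥ → z ∈ A :=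
    fun A hA hA1 => mem_of_ne_bot (P : Subgroup K) P.isPGroup' hP z hzP hz A hA hA1
  have hzcomp : ∀ L : Subgroup K, IsComponent L → z ∈ L := by
    intro L hL
    have hd := Cfsg.Agent.Lib.Helper48_SPEFStar.dvd_card_of_isComponent hO hL
    have hPL := Cfsg.Agent.Lib.Helper48_SPEFStar.sylow_inf_ne_bot P hL.1 hd
    exact (hzmem _ inf_le_left hPL).2
  by_cases hQ : pCore p K = ⊥
  · -- `O_p(K) = 1`
    right
    have hF : fittingSubgroup K = ⊥ := by rw [hFit, hQ]
    have hex : ∃ L : Subgroup K, IsComponent L := by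
      by_contra hno
      push Not at hno
      have hlay : layer K = ⊥ := by
        unfold layer
        rw [eq_bot_iff]
        apply sSup_le
        intro L hL
        exact absurd hL (hno L)
      have hgF : generalizedFittingSubgroup K = ⊥ := by
        unfold generalizedFittingSubgroup
        rw [hlay, hF, sup_bot_eq]
      have h1 := Cfsg.Agent.Lib.Helper21_FStar.centralizer_generalizedFitting_le (G := K)
      rw [hgF, Subgroup.coe_bot, Subgroup.centralizer_eq_top_iff_subset.mpr (by simp)] at h1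
      have h2 : (⊤ : Subgroup K) = ⊥ := le_bot_iff.mp h1
      have h3 : z ∈ (⊥ : Subgroup K) := h2 ▸ Subgroup.mem_top z
      exact hz1 (Subgroup.mem_bot.mp h3)
    obtain ⟨L₀, hL₀⟩ := hex
    have huniq : ∀ L : Subgroup K, IsComponent L → L = L₀ := by
      intro L hL
      by_contra hne
      have hzL : z ∈ L := hzcomp L hL
      have hzL₀ : z ∈ L₀ := hzcomp L₀ hL₀
      have hZ := Cfsg.Agent.Lib.Helper48_SPEFStar.center_eq_bot_of_isComponent hF hL
      have hmem : (⟨z, hzL⟩ : ↥L) ∈ Subgroup.center ↥L := by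
        rw [Subgroup.mem_center_iff]
        intro l
        apply Subtype.ext
        exact (Cfsg.Agent.Lib.Helper21_Components.IsComponent.commute_of_ne hL hL₀ hne l.2
          hzL₀).eq
      rw [hZ, Subgroup.mem_bot] at hmem
      exact hz1 (congrArg Subtype.val hmem)
    have hlay : layer K = L₀ := by
      unfold layer
      apply le_antisymm
      · apply sSup_le
        intro L hL
        rw [huniq L hL]
      · exact le_sSup hL₀
    have hgF : generalizedFittingSubgroup K = L₀ := by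
      unfold generalizedFittingSubgroup
      rw [hF, sup_bot_eq, hlay]
    have hLn : L₀.Normal := by
      rw [← hgF]; exact Cfsg.Agent.Lib.Helper29_Local.generalizedFittingSubgroup_normal K
    rw [hgF]
    refine ⟨Cfsg.Agent.Lib.Helper48_SPEFStar.isSimpleGroup_of_isComponent hF hL₀, ?_, ?_⟩
    · intro hc
      apply Cfsg.Agent.Lib.Helper29_Local.IsQuasisimple.not_isSolvable hL₀.2
      exact Group.isSolvable_of_comm (fun a b => hc.is_comm.comm a b)
    · -- `P ≤ L₀`
      have hPH : (P : Subgroup K) ≤ L₀ ⊔ (P : Subgroup K) := le_sup_right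
      have hLH : L₀ ≤ L₀ ⊔ (P : Subgroup K) := le_sup_left
      have hzL₀ : z ∈ L₀ := hzcomp L₀ hL₀
      have hcycH : IsCyclic ↥((P.subtype hPH : Sylow p ↥(L₀ ⊔ (P : Subgroup K))) :
          Subgroup ↥(L₀ ⊔ (P : Subgroup K))) := by
        rw [Sylow.coe_subtype]
        exact (Subgroup.subgroupOfEquivOfLe hPH).isCyclic.mpr hP
      have hzc : (⟨z, hPH hzP⟩ : ↥(L₀ ⊔ (P : Subgroup K))) ∈
          commutator ↥(L₀ ⊔ (P : Subgroup K)) := by
        have h1 : ⁅L₀, L₀⁆ = L₀ := Subgroup.isPerfect_iff.mp hL₀.2.1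
        have h2 : z ∈ ⁅L₀ ⊔ (P : Subgroup K), L₀ ⊔ (P : Subgroup K)⁆ :=
          Subgroup.commutator_mono hLH hLH (by rw [h1]; exact hzL₀)
        rw [← Subgroup.map_subtype_commutator] at h2
        obtain ⟨y, hy, hyz⟩ := h2
        have : y = ⟨z, hPH hzP⟩ := Subtype.ext hyz
        rwa [this] at hy
      obtain ⟨n, hn, hmove⟩ := exists_normalizer_move (P.subtype hPH) hcycH ⟨z, hPH hzP⟩
        (by rw [Sylow.coe_subtype]; exact hzP) ((Subgroup.orderOf_mk z _).trans hz) hzc
      -- a generator of `P`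
      obtain ⟨a', ha'⟩ := IsCyclic.exists_generator (α := ↥(P : Subgroup K))
      have haP : (a' : K) ∈ (P : Subgroup K) := a'.2
      have hgen : ∀ w ∈ (P : Subgroup K), ∃ s : ℤ, (a' : K) ^ s = w := by
        intro w hw
        obtain ⟨s, hs⟩ := Subgroup.mem_zpowers_iff.mp (ha' ⟨w, hw⟩)
        refine ⟨s, ?_⟩
        have := congrArg Subtype.val hs
        simpa using this
      have hnP : (n : K) * (a' : K) * (n : K)⁻¹ ∈ (P : Subgroup K) := by
        have h1 := (Subgroup.mem_normalizer_iff.mp hn ⟨(a' : K), hPH haP⟩).mp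
          (by rw [Sylow.coe_subtype]; exact haP)
        rw [Sylow.coe_subtype, Subgroup.mem_subgroupOf] at h1
        simpa using h1
      have hmoveK : (n : K) * z * (n : K)⁻¹ ≠ z := by
        intro h
        apply hmove
        apply Subtype.ext
        simpa using h
      have hmem := mem_zpowers_of_move (P : Subgroup K) P.isPGroup' (a' : K) haP hgen z hzP hz
        (n : K) hnP hmoveK
      -- the commutator lies in `L₀`
      have hnmem : (n : K) ∈ ((L₀ ⊔ (P : Subgroup K) : Subgroup K) : Set K) := n.2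
      rw [Subgroup.normal_mul] at hnmem
      obtain ⟨l, hl, x, hx, hlx⟩ := Set.mem_mul.mp hnmem
      have hcL : (n : K) * (a' : K) * (n : K)⁻¹ * (a' : K)⁻¹ ∈ L₀ := by
        have e : (n : K) * (a' : K) * (n : K)⁻¹ * (a' : K)⁻¹ =
            l * ((a' : K) * l⁻¹ * (a' : K)⁻¹) := by
          rw [← hlx]
          have hxa : x * (a' : K) = (a' : K) * x := hPcomm x hx _ haP
          calc l * x * (a' : K) * (l * x)⁻¹ * (a' : K)⁻¹
              = l * (x * (a' : K)) * x⁻¹ * l⁻¹ * (a' : K)⁻¹ := by group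
            _ = l * ((a' : K) * x) * x⁻¹ * l⁻¹ * (a' : K)⁻¹ := by rw [hxa]
            _ = l * ((a' : K) * l⁻¹ * (a' : K)⁻¹) := by group
        rw [e]
        exact L₀.mul_mem hl (hLn.conj_mem _ (L₀.inv_mem hl) _)
      have haL : (a' : K) ∈ L₀ := (Subgroup.zpowers_le.mpr hcL) hmem
      have hPL : (P : Subgroup K) ≤ L₀ := by
        intro w hw
        obtain ⟨s, rfl⟩ := hgen w hw
        exact L₀.zpow_mem haL s
      intro hd
      exact P.not_dvd_index (hd.trans (Subgroup.index_dvd_of_le hPL))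
  · -- `O_p(K) ≠ 1`
    left
    have hQP : pCore p K ≤ (P : Subgroup K) := Cfsg.Agent.Lib.Helper1_Cores.pCore_le_sylow p P
    have hzQ : z ∈ pCore p K := hzmem _ hQP hQ
    have hno : ∀ L : Subgroup K, ¬ IsComponent L := by
      intro L hL
      have hzL : z ∈ L := hzcomp L hL
      have hcen : ∀ l ∈ L, l * z = z * l := by
        intro l hl
        have h1 : ⁅layer K, fittingSubgroup K⁆ = ⊥ :=
          Cfsg.Agent.Lib.Helper22_Layer.layer_commutator_fitting
        have h2 : ⁅l, z⁆ ∈ ⁅layer K, fittingSubgroup K⁆ :=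
          Subgroup.commutator_mem_commutator
            (Cfsg.Agent.Lib.Helper29_Local.IsComponent.le_layer hL hl) (hFit ▸ hzQ)
        rw [h1, Subgroup.mem_bot, commutatorElement_eq_one_iff_mul_comm] at h2
        exact h2
      have hperf : Group.IsPerfect ↥L := hL.2.1
      have hz'L : orderOf (⟨z, hzL⟩ : ↥L) = p := (Subgroup.orderOf_mk z _).trans hz
      have hZp : IsPGroup p (zpowers (⟨z, hzL⟩ : ↥L)) :=
        IsPGroup.of_card (n := 1) (by rw [Nat.card_zpowers, hz'L, pow_one])
      obtain ⟨P₀, hP₀⟩ := hZp.exists_le_sylow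
      have hP₀c : IsCyclic ↥(P₀ : Subgroup ↥L) := by
        have h1 : IsPGroup p ((P₀ : Subgroup ↥L).map L.subtype) := P₀.isPGroup'.map _
        have h2 := isCyclic_of_isPGroup P hP _ h1
        exact (Subgroup.equivMapOfInjective (P₀ : Subgroup ↥L) L.subtype
          L.subtype_injective).isCyclic.mpr h2
      obtain ⟨n, hn, hmove⟩ := exists_normalizer_move P₀ hP₀c ⟨z, hzL⟩
        (hP₀ (mem_zpowers _)) hz'L
        (by rw [Group.isPerfect_def.mp hperf]; exact Subgroup.mem_top _)
      apply hmove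
      apply Subtype.ext
      have := hcen n n.2
      simp only [Subgroup.coe_mul, Subgroup.coe_inv]
      rw [this, mul_inv_cancel_right]
    have hlay : layer K = ⊥ := by
      unfold layer
      rw [eq_bot_iff]
      apply sSup_le
      intro L hL
      exact absurd hL (hno L)
    have hgF : generalizedFittingSubgroup K = pCore p K := by
      unfold generalizedFittingSubgroup
      rw [hlay, hFit, bot_sup_eq]
    have hcent := Cfsg.Agent.Lib.Helper21_FStar.centralizer_generalizedFitting_le (G := K)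
    rw [hgF] at hcent
    have hPQ : (P : Subgroup K) ≤ pCore p K := by
      refine le_trans ?_ hcent
      intro x hx
      rw [Subgroup.mem_centralizer_iff]
      intro q hq
      exact hPcomm q (hQP hq) x hx
    have hPeq : (P : Subgroup K) = pCore p K := le_antisymm hPQ hQP
    have hPn : (P : Subgroup K).Normal := by
      rw [hPeq]; infer_instance
    have hCP : Subgroup.centralizer ((P : Subgroup K) : Set K) = (P : Subgroup K) := by
      apply le_antisymm
      · rw [hPeq]; exact hcent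
      · intro x hx
        rw [Subgroup.mem_centralizer_iff]
        intro q hq
        exact hPcomm q hq x hx
    have hfin := quotient_cyclic P hP hPn hCP hPne
    exact ⟨hPn, hCP, fun _ => hfin.1, hfin.2⟩

end Cfsg.Agent.S4403
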