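import Cfsg.Statements.S3215
import Cfsg.Agent.Lib.Helper1_Cores
import Cfsg.Agent.Lib.Helper1_Frattini
import Cfsg.Agent.Lib.Helper35_FrobeniusNPC
import Cfsg.Agent.Lib.Helper24_CoprimeAction
import Cfsg.Agent.Lib.Helper55_Fitting
import Cfsg.Agent.S3839
import Cfsg.Agent.S0016
import Cfsg.Agent.S0017
import Cfsg.Agent.S0028
import Cfsg.Agent.S0058
import Cfsg.Agent.S4403
import Cfsg.Agent.Lib.Helper1_FPF
import Cfsg.Agent.Lib.Helper32_PGroup
import Mathlib

set_option autoImplicit false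
open Cfsg

namespace Cfsg.Agent.S3215

open Subgroup
open Cfsg.Agent.Lib
open scoped commutatorElement

variable {H : Type*} [Group H]

/-- an element of a `2`-group whose order is odd is trivial -/
theorem eq_one_of_odd_of_isPGroup {K : Subgroup H} (hK : IsPGroup 2 K) {x : H} (hx : x ∈ K)
    (hodd : Odd (orderOf x)) : x = 1 := by
  obtain ⟨k, hk⟩ := hK ⟨x, hx⟩
  have hk' : x ^ (2 ^ k) = 1 := by
    have := congrArg Subtype.val hk
    simpa using this
  have h1 : orderOf x ∣ 2 ^ k := orderOf_dvd_of_pow_eq_one hk'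
  have h2 : (orderOf x).Coprime (2 ^ k) :=
    Nat.Coprime.pow_right k (Nat.Coprime.symm (Nat.coprime_two_left.mpr hodd))
  exact orderOf_eq_one_iff.mp (Nat.Coprime.eq_one_of_dvd h2 h1)

/-- a nontrivial `2`-element has an involution among its powers -/
theorem exists_involution_pow {K : Subgroup H} (hK : IsPGroup 2 K) {y : H} (hy : y ∈ K)
    (hy1 : y ≠ 1) : ∃ m : ℕ, orderOf (y ^ m) = 2 := by
  obtain ⟨k, hk⟩ := (IsPGroup.iff_orderOf.mp hK) ⟨y, hy⟩
  rw [Subgroup.orderOf_mk] at hk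
  have hk0 : k ≠ 0 := by
    rintro rfl
    rw [pow_zero, orderOf_eq_one_iff] at hk
    exact hy1 hk
  obtain ⟨j, rfl⟩ := Nat.exists_eq_succ_of_ne_zero hk0
  refine ⟨2 ^ j, ?_⟩
  rw [orderOf_pow_of_dvd (by positivity) (by rw [hk, pow_succ]; exact dvd_mul_right _ _), hk,
    pow_succ, Nat.mul_div_cancel_left _ (by positivity)]

theorem commute_zpowers {a b : H} (h : a * b = b * a) :
    zpowers a ≤ centralizer ((zpowers b : Subgroup H) : Set H) := by
  rw [zpowers_le, mem_centralizer_iff]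
  intro g hg
  obtain ⟨k, rfl⟩ := mem_zpowers_iff.mp hg
  have hc : Commute b a := h.symm
  exact (hc.zpow_left k).eq

variable [Finite H]

/-- if the centralizer of the involution `t` has a normal `2`-complement, every odd-order element
commuting with `t` centralizes `C_Y(t)`, `Y = O_2(H)` -/
theorem inv_cent
    (hI : ∀ t : H, orderOf t = 2 →
      Cfsg.HasNormalPComplement 2 ↥(centralizer ({t} : Set H)))
    (t : H) (hm : orderOf t = 2) (x : H) (hx : Odd (orderOf x)) (hxt : x * t = t * x)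
    (u : H) (huY : u ∈ Cfsg.pCore 2 H) (hut : u * t = t * u) : x * u = u * x := by
  set Y := Cfsg.pCore 2 H with hY
  have hYn : Y.Normal := Helper1_Cores.pCore_normal 2
  have hYp : IsPGroup 2 Y := Helper1_Cores.pCore_isPGroup 2
  set C := centralizer ({t} : Set H) with hC
  have hxC : x ∈ C := by
    rw [hC, mem_centralizer_iff]
    intro g hg
    rw [Set.mem_singleton_iff] at hg
    rw [hg]; exact hxt.symm
  have huC : u ∈ C := by
    rw [hC, mem_centralizer_iff]
    intro g hg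
    rw [Set.mem_singleton_iff] at hg
    rw [hg]; exact hut.symm
  obtain ⟨K, hKn, hKc, n, hKi⟩ := Cfsg.Agent.S3839.npc_iff.mp (hI t hm)
  have hxK : (⟨x, hxC⟩ : ↥C) ∈ K := by
    apply Helper35_FrobeniusNPC.mem_of_coprime_order K hKi
    rw [Subgroup.orderOf_mk]
    exact Nat.Coprime.symm (Nat.coprime_two_left.mpr hx)
  have h1 : (⟨x, hxC⟩ : ↥C) * ⟨u, huC⟩ * (⟨x, hxC⟩ : ↥C)⁻¹ * (⟨u, huC⟩ : ↥C)⁻¹ ∈ K := by
    have e1 : (⟨x, hxC⟩ : ↥C) * ⟨u, huC⟩ * (⟨x, hxC⟩ : ↥C)⁻¹ * (⟨u, huC⟩ : ↥C)⁻¹ =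
        (⟨x, hxC⟩ : ↥C) * (⟨u, huC⟩ * (⟨x, hxC⟩ : ↥C)⁻¹ * (⟨u, huC⟩ : ↥C)⁻¹) := by group
    rw [e1]
    exact K.mul_mem hxK (hKn.conj_mem _ (K.inv_mem hxK) _)
  have h2 : x * u * x⁻¹ * u⁻¹ ∈ Y := Y.mul_mem (hYn.conj_mem u huY x) (Y.inv_mem huY)
  have h3 : Odd (orderOf (x * u * x⁻¹ * u⁻¹)) := by
    have h4 : orderOf ((⟨x, hxC⟩ : ↥C) * ⟨u, huC⟩ * (⟨x, hxC⟩ : ↥C)⁻¹ * (⟨u, huC⟩ : ↥C)⁻¹) ∣
        Nat.card K := Subgroup.orderOf_dvd_natCard K h1
    have h5 : orderOf ((⟨x, hxC⟩ : ↥C) * ⟨u, huC⟩ * (⟨x, hxC⟩ : ↥C)⁻¹ * (⟨u, huC⟩ : ↥C)⁻¹) =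
        orderOf (x * u * x⁻¹ * u⁻¹) := by
      rw [← Subgroup.orderOf_coe]; rfl
    rw [h5] at h4
    have h6 : (orderOf (x * u * x⁻¹ * u⁻¹)).Coprime 2 := Nat.Coprime.coprime_dvd_left h4 hKc
    exact Nat.coprime_two_left.mp h6.symm
  have h7 := eq_one_of_odd_of_isPGroup hYp h2 h3
  calc x * u = (x * u * x⁻¹ * u⁻¹) * u * x := by group
    _ = u * x := by rw [h7, one_mul]

/-- **Key lemma**: an element of odd order commuting with a nontrivial element of `O_2(H)` is
trivial. -/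
theorem fpf (hsol : Group.IsSolvable H) (hO : Cfsg.oddCore H = ⊥)
    (hI : ∀ t : H, orderOf t = 2 →
      Cfsg.HasNormalPComplement 2 ↥(centralizer ({t} : Set H)))
    (x : H) (hx : Odd (orderOf x)) (y : H) (hy : y ∈ Cfsg.pCore 2 H) (hy1 : y ≠ 1)
    (hxy : x * y = y * x) : x = 1 := by
  have := hsol
  set Y := Cfsg.pCore 2 H with hY
  have hYn : Y.Normal := Helper1_Cores.pCore_normal 2
  have hYp : IsPGroup 2 Y := Helper1_Cores.pCore_isPGroup 2
  obtain ⟨m, hm⟩ := exists_involution_pow hYp hy hy1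
  set t := y ^ m with ht
  have htY : t ∈ Y := Y.pow_mem hy m
  have hxt : x * t = t * x := by
    have hc : Commute x y := hxy
    exact (hc.pow_right m).eq
  -- Thompson's P × Q lemma
  have hPQ := Cfsg.Agent.S0028.result 2 (zpowers t) (zpowers x) Y
    (IsPGroup.of_card (n := 1) (by rw [Nat.card_zpowers, hm, pow_one]))
    (by rw [Nat.card_zpowers]; exact Nat.Coprime.symm (Nat.coprime_two_left.mpr hx))
    hYp (commute_zpowers hxt.symm)
    (by rw [normalizer_eq_top]; exact le_top) (by rw [normalizer_eq_top]; exact le_top)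
    (by
      rintro u ⟨huY, huP⟩
      have hut : u * t = t * u := ((mem_centralizer_iff.mp huP) t (mem_zpowers t)).symm
      have h1 := inv_cent hI t hm x hx hxt u huY hut
      have h2 : zpowers u ≤ centralizer ((zpowers x : Subgroup H) : Set H) := commute_zpowers h1.symm
      exact h2 (mem_zpowers u))
  have hxcent : x ∈ centralizer (Y : Set H) := hPQ (mem_zpowers x)
  have hxY : x ∈ Y := Cfsg.Agent.S0017.result (G := H) 2 hO hxcent
  exact eq_one_of_odd_of_isPGroup hYp hxY hx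

omit [Finite H] in
theorem zpowers_eq_of_card_prime {A : Subgroup H} {p : ℕ} (hp : p.Prime)
    (hA : Nat.card A = p) {g : H} (hg : g ∈ A) (hg1 : g ≠ 1) :
    zpowers g = A ∧ orderOf g = p := by
  have hfin : Finite A := Nat.finite_of_card_ne_zero (by rw [hA]; exact hp.ne_zero)
  have hle : zpowers g ≤ A := zpowers_le.mpr hg
  have h1 : orderOf g ∣ p := by rw [← hA]; exact Subgroup.orderOf_dvd_natCard A hg
  have h2 : orderOf g = p := by
    rcases (Nat.dvd_prime hp).mp h1 with h | h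
    · exact absurd (orderOf_eq_one_iff.mp h) hg1
    · exact h
  exact ⟨Subgroup.eq_of_le_of_card_ge hle (by rw [Nat.card_zpowers, h2, hA]), h2⟩

/-- every `p`-subgroup, `p` odd, is cyclic -/
theorem cyc (hsol : Group.IsSolvable H) (hO : Cfsg.oddCore H = ⊥)
    (hI : ∀ t : H, orderOf t = 2 →
      Cfsg.HasNormalPComplement 2 ↥(centralizer ({t} : Set H)))
    (hYne : Cfsg.pCore 2 H ≠ ⊥) {p : ℕ} [Fact p.Prime] (hp2 : p ≠ 2) (R : Subgroup H)
    (hR : IsPGroup p R) : IsCyclic ↥R := by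
  have hp : p.Prime := Fact.out
  have hpodd : Odd p := hp.odd_of_ne_two hp2
  have hodd : ∀ g ∈ R, Odd (orderOf g) := by
    intro g hg
    obtain ⟨k, hk⟩ := (IsPGroup.iff_orderOf.mp hR) ⟨g, hg⟩
    rw [Subgroup.orderOf_mk] at hk
    rw [hk]; exact hpodd.pow
  have habc : ∀ E : Subgroup H, E ≤ R → IsMulCommutative E → IsCyclic E := by
    intro E hER hE
    apply Helper1_FPF.isCyclic_of_fpf_of_comm E (Cfsg.pCore 2 H) hYne
      (by rw [normalizer_eq_top]; exact le_top)
    intro a ha ha1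
    rw [eq_bot_iff]
    rintro y ⟨hyY, hyC⟩
    rw [mem_bot]
    by_contra hy1
    apply ha1
    apply fpf hsol hO hI a (hodd a (hER ha)) y hyY hy1
    exact (mem_centralizer_iff.mp hyC a rfl)
  have huniq : ∀ A B : Subgroup ↥R, Nat.card A = p → Nat.card B = p → A = B := by
    intro A B hA hB
    have hAne : A ≠ ⊥ := by
      rw [← Subgroup.one_lt_card_iff_ne_bot, hA]; exact hp.one_lt
    obtain ⟨a, ha, ha1⟩ := (Subgroup.ne_bot_iff_exists_ne_one).mp hAne |> fun ⟨a, h⟩ =>
      (⟨a.1, a.2, fun h1 => h (Subtype.ext h1)⟩ : ∃ a : ↥R, a ∈ A ∧ a ≠ 1)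
    have hnt : Nontrivial ↥R := ⟨⟨a, 1, ha1⟩⟩
    have hcn : Nontrivial (center ↥R) := hR.center_nontrivial
    obtain ⟨k, hk⟩ := IsPGroup.iff_card.mp (hR.to_subgroup (center ↥R))
    have hk0 : k ≠ 0 := by
      rintro rfl
      rw [pow_zero] at hk
      have : Subsingleton (center ↥R) := (Nat.card_eq_one_iff_unique.mp hk).1
      exact not_subsingleton _ this
    have hdvd : p ∣ Nat.card (center ↥R) := by rw [hk]; exact dvd_pow_self p hk0
    obtain ⟨z, hz⟩ := exists_prime_orderOf_dvd_card' p hdvd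
    have hzc : ∀ g : ↥R, g * z.1 = z.1 * g := fun g => (mem_center_iff.mp z.2 g)
    have hz' : orderOf z.1 = p := by rw [← hz]; exact Subgroup.orderOf_coe z
    have key : ∀ C : Subgroup ↥R, Nat.card C = p → C = zpowers z.1 := by
      intro C hC
      have hCne : C ≠ ⊥ := by
        rw [← Subgroup.one_lt_card_iff_ne_bot, hC]; exact hp.one_lt
      obtain ⟨c, hcC, hc1⟩ := (Subgroup.ne_bot_iff_exists_ne_one).mp hCne |> fun ⟨a, h⟩ =>
        (⟨a.1, a.2, fun h1 => h (Subtype.ext h1)⟩ : ∃ a : ↥R, a ∈ C ∧ a ≠ 1)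
      obtain ⟨hcz, hco⟩ := zpowers_eq_of_card_prime hp hC hcC hc1
      set c' : H := (c : H) with hc'
      set z' : H := ((z.1 : ↥R) : H) with hz''
      have hcomm : c' * z' = z' * c' := by
        have := congrArg Subtype.val (hzc c)
        simpa using this
      set E : Subgroup H := Subgroup.closure {c', z'} with hE
      have hER : E ≤ R := by
        rw [hE, Subgroup.closure_le]
        rintro x (rfl | rfl)
        · exact c.2
        · exact (z.1).2
      have hEcomm : IsMulCommutative E := by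
        rw [hE]
        apply Subgroup.isMulCommutative_closure
        rintro x (rfl | rfl) y (rfl | rfl)
        · rfl
        · exact hcomm
        · exact hcomm.symm
        · rfl
      have hEc : IsCyclic E := habc E hER hEcomm
      have hcE : zpowers c' ≤ E := by
        rw [zpowers_le, hE]; exact Subgroup.subset_closure (by simp)
      have hzE : zpowers z' ≤ E := by
        rw [zpowers_le, hE]; exact Subgroup.subset_closure (by simp)
      have hco' : orderOf c' = p := by rw [hc', Subgroup.orderOf_coe]; exact hco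
      have hzo' : orderOf z' = p := by rw [hz'', Subgroup.orderOf_coe]; exact hz'
      have heq : zpowers c' = zpowers z' := by
        rcases Cfsg.Agent.S4403.le_or_le_of_cyclic E (hR.to_le hER) hEc (zpowers c') (zpowers z')
          hcE hzE with h | h
        · exact Subgroup.eq_of_le_of_card_ge h (by rw [Nat.card_zpowers, Nat.card_zpowers, hco', hzo'])
        · exact (Subgroup.eq_of_le_of_card_ge h
            (by rw [Nat.card_zpowers, Nat.card_zpowers, hco', hzo'])).symm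
      have hcmem : c' ∈ zpowers z' := by rw [← heq]; exact mem_zpowers c'
      obtain ⟨j, hj⟩ := mem_zpowers_iff.mp hcmem
      have hc2 : c ∈ zpowers z.1 := by
        rw [mem_zpowers_iff]
        refine ⟨j, Subtype.ext ?_⟩
        rw [Subgroup.coe_zpow]; exact hj
      rw [← hcz]
      exact Subgroup.eq_of_le_of_card_ge (zpowers_le.mpr hc2)
        (by rw [Nat.card_zpowers, Nat.card_zpowers, hco, hz'])
    rw [key A hA, key B hB]
  rcases Cfsg.Agent.S0016.result p hR huniq with h | ⟨h2, _⟩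
  · exact h
  · exact absurd h2 hp2

/-- a `2`-element `e` outside `Y = O_2(H)` and an odd-order element `f` that commute modulo `Y`:
then `f = 1` -/
theorem claimA (hsol : Group.IsSolvable H) (hO : Cfsg.oddCore H = ⊥)
    (hI : ∀ t : H, orderOf t = 2 →
      Cfsg.HasNormalPComplement 2 ↥(centralizer ({t} : Set H)))
    (hYne : Cfsg.pCore 2 H ≠ ⊥) (e f : H) (k : ℕ) (he2 : e ^ (2 ^ k) = 1)
    (heY : e ∉ Cfsg.pCore 2 H) (hf : Odd (orderOf f))
    (hef : e * f * e⁻¹ * f⁻¹ ∈ Cfsg.pCore 2 H) : f = 1 := by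
  have := hsol
  set Y := Cfsg.pCore 2 H with hY
  have hYn : Y.Normal := Helper1_Cores.pCore_normal 2
  have hYp : IsPGroup 2 Y := Helper1_Cores.pCore_isPGroup 2
  have hcop : (Nat.card (zpowers f)).Coprime (Nat.card Y) := by
    rw [Nat.card_zpowers]
    obtain ⟨n, hn⟩ := IsPGroup.iff_card.mp hYp
    rw [hn]
    exact Nat.Coprime.pow_right n (Nat.Coprime.symm (Nat.coprime_two_left.mpr hf))
  have hfix : ∀ a ∈ zpowers f, e⁻¹ * (a * e * a⁻¹) ∈ Y := by
    intro a ha
    rw [← QuotientGroup.eq_one_iff]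
    have hc : Commute (e : H ⧸ Y) (f : H ⧸ Y) := by
      have h1 : ((e * f * e⁻¹ * f⁻¹ : H) : H ⧸ Y) = 1 := (QuotientGroup.eq_one_iff _).mpr hef
      simp only [QuotientGroup.mk_mul, QuotientGroup.mk_inv] at h1
      show (e : H ⧸ Y) * f = f * e
      calc (e : H ⧸ Y) * f = ((e : H ⧸ Y) * f * (e : H ⧸ Y)⁻¹ * (f : H ⧸ Y)⁻¹) * f * e := by group
        _ = f * e := by rw [h1, one_mul]
    obtain ⟨j, rfl⟩ := mem_zpowers_iff.mp ha
    have hc2 : Commute (e : H ⧸ Y) ((f : H ⧸ Y) ^ j) := hc.zpow_right j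
    simp only [QuotientGroup.mk_mul, QuotientGroup.mk_inv, QuotientGroup.mk_zpow]
    rw [← hc2.eq]; group
  obtain ⟨d, hdY, hd⟩ := Helper24_CoprimeAction.exists_fixed_in_coset (zpowers f) Y
    (by rw [normalizer_eq_top]; exact le_top) hcop (Or.inr inferInstance) e hfix
  set e' := e * d with he'
  have hfe' : f * e' = e' * f := hd f (mem_zpowers f)
  have he'Y : e' ∉ Y := by
    intro h
    apply heY
    have h2 := Y.mul_mem h (Y.inv_mem hdY)
    rwa [he', mul_inv_cancel_right] at h2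
  have hzp : IsPGroup 2 (zpowers e) := by
    have h1 : orderOf e ∣ 2 ^ k := orderOf_dvd_of_pow_eq_one he2
    obtain ⟨j, -, hj⟩ := (Nat.dvd_prime_pow Nat.prime_two).mp h1
    exact IsPGroup.of_card (n := j) (by rw [Nat.card_zpowers, hj])
  set T' := zpowers e ⊔ Y with hT'
  have hT'p : IsPGroup 2 T' := IsPGroup.to_sup_of_normal_right hzp hYp
  have he'T : e' ∈ T' := T'.mul_mem (mem_sup_left (mem_zpowers e)) (mem_sup_right hdY)
  have he'1 : e' ≠ 1 := fun h => he'Y (h ▸ Y.one_mem)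
  obtain ⟨m, hm⟩ := exists_involution_pow hT'p he'T he'1
  set t' := e' ^ m with ht'
  have ht'T : t' ∈ T' := T'.pow_mem he'T m
  have hft' : f * t' = t' * f := by
    have hc : Commute f e' := hfe'
    exact (hc.pow_right m).eq
  have hN : (Y.subgroupOf T').Normal := Subgroup.Normal.subgroupOf hYn T'
  have hNne : Y.subgroupOf T' ≠ ⊥ := by
    intro h
    apply hYne
    rw [eq_bot_iff]
    intro y hy
    have h1 : (⟨y, mem_sup_right hy⟩ : ↥T') ∈ Y.subgroupOf T' := by
      rw [mem_subgroupOf]; exact hy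
    rw [h, mem_bot] at h1
    rw [mem_bot]
    exact congrArg Subtype.val h1
  obtain ⟨z, hzN, hzc, hz1⟩ :=
    Helper32_PGroup.exists_mem_center_of_normal hT'p (Y.subgroupOf T') hNne
  have hzY : (z : H) ∈ Y := mem_subgroupOf.mp hzN
  have hzt' : (z : H) * t' = t' * z := by
    have h1 := mem_center_iff.mp hzc ⟨t', ht'T⟩
    have h2 := congrArg Subtype.val h1
    simpa using h2.symm
  have hz1' : (z : H) ≠ 1 := fun h => hz1 (Subtype.ext h)
  have hfz := inv_cent hI t' hm f hf hft' z hzY hzt'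
  exact fpf hsol hO hI f hf z hzY hz1' hfz

/-- a normal subgroup of odd order lies in every subgroup of odd order and `2`-power index -/
theorem le_of_odd_normal {G : Type*} [Group G] [Finite G] (X N : Subgroup G) [N.Normal]
    (hX : Odd (Nat.card X)) {k : ℕ} (hXi : X.index = 2 ^ k) (hN : Odd (Nat.card N)) : N ≤ X := by
  have h1 : Nat.card (X ⊔ N : Subgroup G) ∣ Nat.card X * Nat.card N :=
    Helper1_Cores.card_sup_dvd X N
  have hodd : Odd (Nat.card (X ⊔ N : Subgroup G)) := (hX.mul hN).of_dvd_nat h1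
  have h2 : X.relIndex (X ⊔ N) ∣ 2 ^ k := by
    rw [← hXi, ← Subgroup.relIndex_mul_index (le_sup_left : X ≤ X ⊔ N)]
    exact dvd_mul_right _ _
  have h3 : X.relIndex (X ⊔ N) ∣ Nat.card (X ⊔ N : Subgroup G) := Subgroup.relIndex_dvd_card _ _
  have h4 : Odd (X.relIndex (X ⊔ N)) := hodd.of_dvd_nat h3
  have h5 : X.relIndex (X ⊔ N) = 1 := by
    have hc : (X.relIndex (X ⊔ N)).Coprime (2 ^ k) :=
      Nat.Coprime.pow_right k (Nat.Coprime.symm (Nat.coprime_two_left.mpr h4))
    exact Nat.Coprime.eq_one_of_dvd hc h2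
  exact le_sup_right.trans (Subgroup.relIndex_eq_one.mp h5)

/-- commutators centralize a cyclic normal subgroup -/
theorem comm_cent_of_cyclic_normal {G : Type*} [Group G] (N : Subgroup G) [N.Normal]
    (hc : IsCyclic N) : commutator G ≤ centralizer (N : Set G) := by
  rw [_root_.commutator_def, Subgroup.commutator_le]
  intro g _ h _
  rw [mem_centralizer_iff]
  intro n hn
  have hcomm : ∀ α β : MulAut ↥N, α * β = β * α := by
    intro α β
    apply (IsCyclic.mulAutMulEquiv ↥N).injective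
    rw [map_mul, map_mul, mul_comm]
  have h1 : MulAut.conjNormal (H := N) ⁅g, h⁆ = 1 := by
    rw [commutatorElement_def, map_mul, map_mul, map_mul, map_inv, map_inv,
      hcomm (MulAut.conjNormal g) (MulAut.conjNormal h)]
    group
  have h2 := MulAut.conjNormal_apply ⁅g, h⁆ (⟨n, hn⟩ : ↥N)
  rw [h1] at h2
  have h3 : n = ⁅g, h⁆ * n * ⁅g, h⁆⁻¹ := by simpa using h2
  calc n * ⁅g, h⁆ = (⁅g, h⁆ * n * ⁅g, h⁆⁻¹) * ⁅g, h⁆ := by rw [← h3]
    _ = ⁅g, h⁆ * n := by group

theorem pCore_quot_eq_bot {G : Type*} [Group G] [Finite G] (p : ℕ) [Fact p.Prime] :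
    Cfsg.pCore p (G ⧸ Cfsg.pCore p G) = ⊥ := by
  have h1 : (Cfsg.pCore p (G ⧸ Cfsg.pCore p G)).comap (QuotientGroup.mk' (Cfsg.pCore p G)) ≤
      Cfsg.pCore p G := by
    apply Helper1_Cores.le_pCore (Subgroup.Normal.comap inferInstance _)
    apply (Helper1_Cores.pCore_isPGroup (G := G ⧸ Cfsg.pCore p G) p).comap_of_ker_isPGroup
    rw [QuotientGroup.ker_mk']
    exact Helper1_Cores.pCore_isPGroup p
  rw [eq_bot_iff]
  intro x hx
  obtain ⟨g, rfl⟩ := QuotientGroup.mk'_surjective (Cfsg.pCore p G) x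
  have h2 : g ∈ Cfsg.pCore p G := h1 hx
  rw [mem_bot]
  exact (QuotientGroup.eq_one_iff g).mpr h2

omit [Finite H] in
/-- `X ∩ Y = 1` -/
theorem inf_pCore_two (X : Subgroup H) (hXodd : Odd (Nat.card X)) {x : H} (hx : x ∈ X)
    (hxY : x ∈ Cfsg.pCore 2 H) : x = 1 :=
  eq_one_of_odd_of_isPGroup (Helper1_Cores.pCore_isPGroup 2) hxY
    (hXodd.of_dvd_nat (Subgroup.orderOf_dvd_natCard X hx))

/-- the odd `p`-cores of `H / O_2(H)` are cyclic and lie in the image of `X` -/
theorem pCore_quot_cyclic (hsol : Group.IsSolvable H) (hO : Cfsg.oddCore H = ⊥)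
    (hI : ∀ t : H, orderOf t = 2 →
      Cfsg.HasNormalPComplement 2 ↥(centralizer ({t} : Set H)))
    (hYne : Cfsg.pCore 2 H ≠ ⊥)
    (X : Subgroup H) (hXodd : Odd (Nat.card X)) {k : ℕ} (hXidx : X.index = 2 ^ k)
    (p : ℕ) [Fact p.Prime] :
    IsCyclic ↥(Cfsg.pCore p (H ⧸ Cfsg.pCore 2 H)) ∧
      Cfsg.pCore p (H ⧸ Cfsg.pCore 2 H) ≤ X.map (QuotientGroup.mk' (Cfsg.pCore 2 H)) := by
  have hp : p.Prime := Fact.out
  by_cases hp2 : p = 2
  · subst hp2
    rw [pCore_quot_eq_bot]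
    exact ⟨isCyclic_of_subsingleton, bot_le⟩
  set Y := Cfsg.pCore 2 H with hY
  set N := Cfsg.pCore p (H ⧸ Y) with hN
  have hNp : IsPGroup p N := Helper1_Cores.pCore_isPGroup p
  have hpodd : Odd p := hp.odd_of_ne_two hp2
  have hNodd : Odd (Nat.card N) := by
    obtain ⟨j, hj⟩ := IsPGroup.iff_card.mp hNp
    rw [hj]; exact hpodd.pow
  have hXbodd : Odd (Nat.card (X.map (QuotientGroup.mk' Y))) :=
    hXodd.of_dvd_nat (Subgroup.card_map_dvd X _)
  obtain ⟨j, -, hj⟩ := (Nat.dvd_prime_pow Nat.prime_two).mp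
    (hXidx ▸ Subgroup.index_map_dvd X (QuotientGroup.mk'_surjective Y))
  have hle : N ≤ X.map (QuotientGroup.mk' Y) := le_of_odd_normal _ N hXbodd hj hNodd
  refine ⟨?_, hle⟩
  set R : Subgroup H := X ⊓ N.comap (QuotientGroup.mk' Y) with hR
  have hRmap : R.map (QuotientGroup.mk' Y) = N := by
    apply le_antisymm
    · rintro _ ⟨r, hr, rfl⟩
      exact hr.2
    · intro n hn
      obtain ⟨x, hx, rfl⟩ := hle hn
      exact ⟨x, ⟨hx, hn⟩, rfl⟩
  have hRp : IsPGroup p R := by
    rintro ⟨r, hr⟩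
    obtain ⟨i, hi⟩ := hNp ⟨QuotientGroup.mk' Y r, hr.2⟩
    refine ⟨i, Subtype.ext ?_⟩
    have h1 : (QuotientGroup.mk' Y r) ^ (p ^ i) = 1 := by
      have := congrArg Subtype.val hi
      simpa using this
    have h2 : r ^ (p ^ i) ∈ Y := by
      rw [← QuotientGroup.eq_one_iff, QuotientGroup.mk_pow]
      exact h1
    have h3 := inf_pCore_two X hXodd (X.pow_mem hr.1 (p ^ i)) h2
    simpa using h3
  have hRc : IsCyclic ↥R := cyc hsol hO hI hYne hp2 R hRp
  have h4 : IsCyclic ↥(R.map (QuotientGroup.mk' Y)) :=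
    isCyclic_of_surjective ((QuotientGroup.mk' Y).subgroupMap R)
      (MonoidHom.subgroupMap_surjective _ R)
  rw [hRmap] at h4
  exact h4

/-- the commutator subgroup of `H / O_2(H)` lies in the image of `X` -/
theorem commutator_quot_le (hsol : Group.IsSolvable H) (hO : Cfsg.oddCore H = ⊥)
    (hI : ∀ t : H, orderOf t = 2 →
      Cfsg.HasNormalPComplement 2 ↥(centralizer ({t} : Set H)))
    (hYne : Cfsg.pCore 2 H ≠ ⊥)
    (X : Subgroup H) (hXodd : Odd (Nat.card X)) {k : ℕ} (hXidx : X.index = 2 ^ k) :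
    commutator (H ⧸ Cfsg.pCore 2 H) ≤ X.map (QuotientGroup.mk' (Cfsg.pCore 2 H)) := by
  have := hsol
  set Y := Cfsg.pCore 2 H with hY
  have hF : Cfsg.fittingSubgroup (H ⧸ Y) = ⨆ p : Nat.Primes, Cfsg.pCore (p : ℕ) (H ⧸ Y) :=
    Helper1_Cores.fittingSubgroup_eq_iSup_pCore
  have h1 : commutator (H ⧸ Y) ≤ centralizer (Cfsg.fittingSubgroup (H ⧸ Y) : Set (H ⧸ Y)) := by
    rw [Subgroup.le_centralizer_iff, hF]
    refine iSup_le (fun p => ?_)
    have : Fact (p : ℕ).Prime := ⟨p.2⟩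
    rw [← Subgroup.le_centralizer_iff]
    exact comm_cent_of_cyclic_normal _
      (pCore_quot_cyclic hsol hO hI hYne X hXodd hXidx (p : ℕ)).1
  have h2 : centralizer (Cfsg.fittingSubgroup (H ⧸ Y) : Set (H ⧸ Y)) ≤
      Cfsg.fittingSubgroup (H ⧸ Y) := Helper55_Fitting.centralizer_fittingSubgroup_le
  have h3 : Cfsg.fittingSubgroup (H ⧸ Y) ≤ X.map (QuotientGroup.mk' Y) := by
    rw [hF]
    refine iSup_le (fun p => ?_)
    have : Fact (p : ℕ).Prime := ⟨p.2⟩
    exact (pCore_quot_cyclic hsol hO hI hYne X hXodd hXidx (p : ℕ)).2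
  exact h1.trans (h2.trans h3)

/-- in `H / O_2(H)`, a nontrivial `2`-element commutes with no nontrivial element of the image of
`X` -/
theorem claimA' (hsol : Group.IsSolvable H) (hO : Cfsg.oddCore H = ⊥)
    (hI : ∀ t : H, orderOf t = 2 →
      Cfsg.HasNormalPComplement 2 ↥(centralizer ({t} : Set H)))
    (hYne : Cfsg.pCore 2 H ≠ ⊥)
    (X : Subgroup H) (hXodd : Odd (Nat.card X))
    (a : H ⧸ Cfsg.pCore 2 H) (j : ℕ) (haj : a ^ (2 ^ j) = 1) (ha1 : a ≠ 1)
    (fb : H ⧸ Cfsg.pCore 2 H) (hfb : fb ∈ X.map (QuotientGroup.mk' (Cfsg.pCore 2 H)))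
    (hc : fb * a = a * fb) : fb = 1 := by
  obtain ⟨x, hxX, rfl⟩ := hfb
  obtain ⟨e₀, rfl⟩ := QuotientGroup.mk'_surjective (Cfsg.pCore 2 H) a
  obtain ⟨i, m, hm, hord⟩ := Nat.exists_eq_two_pow_mul_odd (orderOf_pos e₀).ne'
  set e := e₀ ^ m with he
  have he2 : e ^ (2 ^ i) = 1 := by
    rw [he, ← pow_mul, mul_comm, ← hord]; exact pow_orderOf_eq_one e₀
  have heY : e ∉ Cfsg.pCore 2 H := by
    intro h
    apply ha1
    have h1 : (QuotientGroup.mk' (Cfsg.pCore 2 H) e₀) ^ m = 1 := by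
      rw [← map_pow]; exact (QuotientGroup.eq_one_iff _).mpr h
    have h2 : orderOf (QuotientGroup.mk' (Cfsg.pCore 2 H) e₀) ∣ m := orderOf_dvd_of_pow_eq_one h1
    have h3 : orderOf (QuotientGroup.mk' (Cfsg.pCore 2 H) e₀) ∣ 2 ^ j := orderOf_dvd_of_pow_eq_one haj
    have h4 : (m).Coprime (2 ^ j) :=
      Nat.Coprime.pow_right j (Nat.Coprime.symm (Nat.coprime_two_left.mpr hm))
    exact orderOf_eq_one_iff.mp (Nat.eq_one_of_dvd_coprimes h4 h2 h3)
  have hxodd : Odd (orderOf x) := hXodd.of_dvd_nat (Subgroup.orderOf_dvd_natCard X hxX)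
  have hcomm : e * x * e⁻¹ * x⁻¹ ∈ Cfsg.pCore 2 H := by
    rw [← QuotientGroup.eq_one_iff]
    have hc' : Commute (QuotientGroup.mk' (Cfsg.pCore 2 H) x) (QuotientGroup.mk' (Cfsg.pCore 2 H) e₀) := hc
    have hc2 : Commute (QuotientGroup.mk' (Cfsg.pCore 2 H) x) ((QuotientGroup.mk' (Cfsg.pCore 2 H) e₀) ^ m) := hc'.pow_right m
    have e1 : ((e * x * e⁻¹ * x⁻¹ : H) : H ⧸ Cfsg.pCore 2 H) =
        (QuotientGroup.mk' (Cfsg.pCore 2 H) e₀) ^ m * (QuotientGroup.mk' (Cfsg.pCore 2 H) x) * ((QuotientGroup.mk' (Cfsg.pCore 2 H) e₀) ^ m)⁻¹ *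
          (QuotientGroup.mk' (Cfsg.pCore 2 H) x)⁻¹ := by
      rw [he]; simp
    rw [e1, ← hc2.eq]; group
  have hx1 := claimA hsol hO hI hYne e x i he2 heY hxodd hcomm
  rw [hx1, map_one]

/-- Let H be a finite solvable group with no nontrivial normal subgroup of odd order in which the centralizer of every involution has a normal 2-complement. Let X be a Hall 2'-subgroup of H (odd order, index a power of 2) and Y = O₂(H). Then no non-identity element of X commutes with a non-identity element of Y (so for X ≠ 1 the group XY is a Frobenius group with kernel Y), every Sylow subgroup of X is cyclic, XY is normal in H, and H/XY is a cyclic 2-group. -/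
theorem result {H : Type*} [Group H] [Finite H] (hsol : Group.IsSolvable H)
    (hO : Cfsg.oddCore H = ⊥)
    (hI : ∀ t : H, orderOf t = 2 → Cfsg.HasNormalPComplement 2 ↥(Subgroup.centralizer ({t} : Set H)))
    (X : Subgroup H) (hXodd : Odd (Nat.card X)) (hXidx : ∃ k : ℕ, X.index = 2 ^ k) :
    (∀ x ∈ X, x ≠ 1 → ∀ y ∈ Cfsg.pCore 2 H, y ≠ 1 → x * y ≠ y * x) ∧
      (∀ (p : ℕ) [Fact p.Prime] (P : Sylow p ↥X), IsCyclic ↥(P : Subgroup ↥X)) ∧
      (X ⊔ Cfsg.pCore 2 H).Normal ∧
      ∀ hN : (X ⊔ Cfsg.pCore 2 H).Normal, IsCyclic (H ⧸ (X ⊔ Cfsg.pCore 2 H)) ∧ IsPGroup 2 (H ⧸ (X ⊔ Cfsg.pCore 2 H)) := by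
  have := hsol
  obtain ⟨k, hk⟩ := hXidx
  have hYn : (Cfsg.pCore 2 H).Normal := Helper1_Cores.pCore_normal 2
  have hYp : IsPGroup 2 (Cfsg.pCore 2 H) := Helper1_Cores.pCore_isPGroup 2
  by_cases hY : Cfsg.pCore 2 H = ⊥
  · -- then `H` is trivial
    have hsub : Subsingleton H := by
      have h := Cfsg.Agent.S0017.result (G := H) 2 hO
      rw [hY] at h
      constructor
      intro a b
      have ha : a ∈ centralizer (((⊥ : Subgroup H) : Subgroup H) : Set H) := by
        rw [mem_centralizer_iff]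
        intro g hg
        rw [SetLike.mem_coe, mem_bot] at hg
        subst hg; simp
      have hb : b ∈ centralizer (((⊥ : Subgroup H) : Subgroup H) : Set H) := by
        rw [mem_centralizer_iff]
        intro g hg
        rw [SetLike.mem_coe, mem_bot] at hg
        subst hg; simp
      rw [mem_bot.mp (h ha), mem_bot.mp (h hb)]
    refine ⟨?_, ?_, ?_, ?_⟩
    · intro x _ _ y _ hy1
      exact absurd (Subsingleton.elim y 1) hy1
    · intro p _ P
      exact isCyclic_of_subsingleton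
    · constructor
      intro n hn g
      rw [Subsingleton.elim (g * n * g⁻¹) n]; exact hn
    · intro hN
      have : Subsingleton (H ⧸ (X ⊔ Cfsg.pCore 2 H)) :=
        Function.Surjective.subsingleton (QuotientGroup.mk_surjective)
      exact ⟨isCyclic_of_subsingleton,
        IsPGroup.of_card (n := 0) (by rw [pow_zero]; exact Nat.card_of_subsingleton 1)⟩
  · have hcomm := commutator_quot_le hsol hO hI hY X hXodd hk
    have hXbn : (X.map (QuotientGroup.mk' (Cfsg.pCore 2 H))).Normal :=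
      Helper1_Frattini.normal_of_commutator_le hcomm
    have hcomap : (X.map (QuotientGroup.mk' (Cfsg.pCore 2 H))).comap
        (QuotientGroup.mk' (Cfsg.pCore 2 H)) = X ⊔ Cfsg.pCore 2 H := by
      rw [Subgroup.comap_map_eq, QuotientGroup.ker_mk']
    have hXYn : (X ⊔ Cfsg.pCore 2 H).Normal := by
      rw [← hcomap]; exact hXbn.comap _
    refine ⟨?_, ?_, hXYn, ?_⟩
    · intro x hx hx1 y hy hy1 hxy
      exact hx1 (fpf hsol hO hI x (hXodd.of_dvd_nat (Subgroup.orderOf_dvd_natCard X hx)) y hy hy1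
        hxy)
    · intro p _ P
      by_cases hp2 : p = 2
      · subst hp2
        obtain ⟨j, hj⟩ := IsPGroup.iff_card.mp P.isPGroup'
        have h1 : Nat.card ↥(P : Subgroup ↥X) ∣ Nat.card ↥X := Subgroup.card_subgroup_dvd_card _
        have h2 : Odd (Nat.card ↥(P : Subgroup ↥X)) := hXodd.of_dvd_nat h1
        have h3 : Nat.card ↥(P : Subgroup ↥X) = 1 := by
          rcases Nat.eq_zero_or_pos j with h0 | h0
          · rw [hj, h0, pow_zero]
          · exfalso
            rw [hj] at h2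
            exact (Nat.not_even_iff_odd.mpr h2) (Nat.even_pow.mpr ⟨even_two, h0.ne'⟩)
        have : Subsingleton ↥(P : Subgroup ↥X) := (Nat.card_eq_one_iff_unique.mp h3).1
        exact isCyclic_of_subsingleton
      · have hRp : IsPGroup p ((P : Subgroup ↥X).map X.subtype) := P.isPGroup'.map _
        have hRc := cyc hsol hO hI hY hp2 _ hRp
        let e := Subgroup.equivMapOfInjective (P : Subgroup ↥X) X.subtype X.subtype_injective
        exact isCyclic_of_surjective e.symm e.symm.surjective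
    · intro hN
      have hidx : (X ⊔ Cfsg.pCore 2 H).index ∣ 2 ^ k :=
        hk ▸ Subgroup.index_dvd_of_le (le_sup_left : X ≤ X ⊔ Cfsg.pCore 2 H)
      obtain ⟨j, -, hj⟩ := (Nat.dvd_prime_pow Nat.prime_two).mp hidx
      refine ⟨?_, IsPGroup.of_card (n := j) (by rw [← Subgroup.index_eq_card]; exact hj)⟩
      -- a Sylow 2-subgroup of the quotient by `Y`
      obtain ⟨T⟩ : Nonempty (Sylow 2 (H ⧸ Cfsg.pCore 2 H)) := inferInstance
      have hXbodd : Odd (Nat.card (X.map (QuotientGroup.mk' (Cfsg.pCore 2 H)))) :=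
        hXodd.of_dvd_nat (Subgroup.card_map_dvd X _)
      obtain ⟨i, -, hi⟩ := (Nat.dvd_prime_pow Nat.prime_two).mp
        (hk ▸ Subgroup.index_map_dvd X (QuotientGroup.mk'_surjective (Cfsg.pCore 2 H)))
      have hTX : ∀ a ∈ (T : Subgroup (H ⧸ Cfsg.pCore 2 H)),
          a ∈ X.map (QuotientGroup.mk' (Cfsg.pCore 2 H)) → a = 1 := by
        intro a haT haX
        have h1 : Odd (orderOf a) := hXbodd.of_dvd_nat (Subgroup.orderOf_dvd_natCard _ haX)
        exact eq_one_of_odd_of_isPGroup T.isPGroup' haT h1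
      have hTcomm : IsMulCommutative ↥(T : Subgroup (H ⧸ Cfsg.pCore 2 H)) := by
        refine ⟨⟨fun a b => Subtype.ext ?_⟩⟩
        have h1 : ⁅(a : H ⧸ Cfsg.pCore 2 H), (b : H ⧸ Cfsg.pCore 2 H)⁆ ∈
            X.map (QuotientGroup.mk' (Cfsg.pCore 2 H)) := by
          apply hcomm
          rw [_root_.commutator_def]
          exact Subgroup.commutator_mem_commutator (mem_top _) (mem_top _)
        have h2 : ⁅(a : H ⧸ Cfsg.pCore 2 H), (b : H ⧸ Cfsg.pCore 2 H)⁆ ∈
            (T : Subgroup (H ⧸ Cfsg.pCore 2 H)) := by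
          rw [commutatorElement_def]
          exact mul_mem (mul_mem (mul_mem a.2 b.2) (inv_mem a.2)) (inv_mem b.2)
        have h3 := hTX _ h2 h1
        rw [commutatorElement_def] at h3
        show (a : H ⧸ Cfsg.pCore 2 H) * b = b * a
        calc (a : H ⧸ Cfsg.pCore 2 H) * b
            = ((a : H ⧸ Cfsg.pCore 2 H) * b * (a : H ⧸ Cfsg.pCore 2 H)⁻¹ *
                (b : H ⧸ Cfsg.pCore 2 H)⁻¹) * b * a := by group
          _ = b * a := by rw [h3, one_mul]
      have hTc : IsCyclic ↥(T : Subgroup (H ⧸ Cfsg.pCore 2 H)) := by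
        by_cases hXb : X.map (QuotientGroup.mk' (Cfsg.pCore 2 H)) = ⊥
        · -- the quotient is a `2`-group with trivial `2`-core
          have h1 : Nat.card (H ⧸ Cfsg.pCore 2 H) = 2 ^ i := by
            rw [← hi, hXb, Subgroup.index_bot]
          have h2 : IsPGroup 2 (H ⧸ Cfsg.pCore 2 H) := IsPGroup.of_card h1
          have h3 : (⊤ : Subgroup (H ⧸ Cfsg.pCore 2 H)) ≤ Cfsg.pCore 2 (H ⧸ Cfsg.pCore 2 H) :=
            Helper1_Cores.le_pCore inferInstance (h2.to_subgroup ⊤)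
          rw [pCore_quot_eq_bot] at h3
          have : Subsingleton (H ⧸ Cfsg.pCore 2 H) := by
            constructor
            intro a b
            rw [mem_bot.mp (h3 (mem_top a)), mem_bot.mp (h3 (mem_top b))]
          exact isCyclic_of_subsingleton
        · apply Helper1_FPF.isCyclic_of_fpf_of_comm (T : Subgroup (H ⧸ Cfsg.pCore 2 H))
            (X.map (QuotientGroup.mk' (Cfsg.pCore 2 H))) hXb
            (by rw [normalizer_eq_top]; exact le_top)
          intro a haT ha1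
          rw [eq_bot_iff]
          rintro fb ⟨hfbX, hfbC⟩
          rw [mem_bot]
          obtain ⟨j', hj'⟩ := T.isPGroup' ⟨a, haT⟩
          have haj : a ^ (2 ^ j') = 1 := by
            have := congrArg Subtype.val hj'
            simpa using this
          have hc : fb * a = a * fb := ((mem_centralizer_iff.mp hfbC) a rfl).symm
          exact claimA' hsol hO hI hY X hXodd a j' haj ha1 fb hfbX hc
      -- the quotient is the image of `T`
      have hTXtop : (T : Subgroup (H ⧸ Cfsg.pCore 2 H)) ⊔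
          X.map (QuotientGroup.mk' (Cfsg.pCore 2 H)) = ⊤ := by
        rw [← Subgroup.index_eq_one]
        have h1 : ((T : Subgroup (H ⧸ Cfsg.pCore 2 H)) ⊔
            X.map (QuotientGroup.mk' (Cfsg.pCore 2 H))).index ∣
            (T : Subgroup (H ⧸ Cfsg.pCore 2 H)).index := Subgroup.index_dvd_of_le le_sup_left
        have h2 : ((T : Subgroup (H ⧸ Cfsg.pCore 2 H)) ⊔
            X.map (QuotientGroup.mk' (Cfsg.pCore 2 H))).index ∣ 2 ^ i :=
          hi ▸ Subgroup.index_dvd_of_le le_sup_right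
        have h3 : ¬ 2 ∣ (T : Subgroup (H ⧸ Cfsg.pCore 2 H)).index := T.not_dvd_index
        have h4 : Nat.Coprime ((T : Subgroup (H ⧸ Cfsg.pCore 2 H)) ⊔
            X.map (QuotientGroup.mk' (Cfsg.pCore 2 H))).index (2 ^ i) := by
          apply Nat.Coprime.pow_right
          apply Nat.Coprime.symm
          rw [Nat.Prime.coprime_iff_not_dvd Nat.prime_two]
          exact fun h => h3 (h.trans h1)
        exact Nat.Coprime.eq_one_of_dvd h4 h2
      let ρ : (H ⧸ Cfsg.pCore 2 H) →* (H ⧸ (X ⊔ Cfsg.pCore 2 H)) :=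
        QuotientGroup.map (Cfsg.pCore 2 H) (X ⊔ Cfsg.pCore 2 H) (MonoidHom.id H)
          (by rw [Subgroup.comap_id]; exact le_sup_right)
      have hρ : ∀ h : H, ρ (QuotientGroup.mk' (Cfsg.pCore 2 H) h) =
          (QuotientGroup.mk' (X ⊔ Cfsg.pCore 2 H) h) := fun h => rfl
      have hsurj : Function.Surjective
          (ρ.comp (T : Subgroup (H ⧸ Cfsg.pCore 2 H)).subtype) := by
        intro w
        obtain ⟨h, rfl⟩ := QuotientGroup.mk'_surjective (X ⊔ Cfsg.pCore 2 H) w
        have h1 : QuotientGroup.mk' (Cfsg.pCore 2 H) h ∈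
            (T : Subgroup (H ⧸ Cfsg.pCore 2 H)) ⊔
              X.map (QuotientGroup.mk' (Cfsg.pCore 2 H)) := by
          rw [hTXtop]; exact mem_top _
        obtain ⟨t, ht, xb, hxb, htx⟩ := Subgroup.mem_sup_of_normal_right.mp h1
        obtain ⟨x, hxX, rfl⟩ := hxb
        refine ⟨⟨t, ht⟩, ?_⟩
        have h2 : ρ (QuotientGroup.mk' (Cfsg.pCore 2 H) x) = 1 := by
          rw [hρ]
          exact (QuotientGroup.eq_one_iff x).mpr (mem_sup_left hxX)
        show ρ t = _
        rw [← hρ, ← htx, map_mul, h2, mul_one]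
      exact isCyclic_of_surjective _ hsurj

end Cfsg.Agent.S3215
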