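import Cfsg.Statements.S3222
import Mathlib
import Cfsg.Agent.Lib.Helper55_Z2S4
import Cfsg.Agent.Lib.Helper55_S6Setup
import Cfsg.Agent.Lib.Helper55_S6Index2
import Cfsg.Agent.Lib.Helper55_S6Cases
import Cfsg.Agent.Lib.Helper55_S6Final
import Cfsg.Agent.S3035

set_option autoImplicit false
open Cfsg

namespace Cfsg.Agent.S3222

open Cfsg.Agent.Lib.Helper55_Z2S4 Cfsg.Agent.Lib.Helper55_S6Setup Cfsg.Agent.Lib.Helper55_S6Index2
  Cfsg.Agent.Lib.Helper55_S6Cases Cfsg.Agent.Lib.Helper55_S6Final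

/-- Let G be a finite group of even order such that (1) some involution t lying in the centre of a Sylow 2-subgroup of G has C_G(t) ≅ Z₂ × S₄, and (2) every Sylow 2-subgroup S of G satisfies C_G(S′) = S, where S′ is the derived subgroup of S. Then G = C_G(t) if G is solvable, and G ≅ S₆ otherwise. -/
theorem result {G : Type*} [Group G] [Finite G] (hev : Even (Nat.card G))
    (t : G) (ht : orderOf t = 2) (T : Sylow 2 G) (htT : t ∈ (T : Subgroup G)) (htc : ∀ s ∈ (T : Subgroup G), s * t = t * s)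
    (e : ↥(Subgroup.centralizer ({t} : Set G)) ≃* (Multiplicative (ZMod 2) × Equiv.Perm (Fin 4)))
    (h2 : ∀ S : Sylow 2 G, Subgroup.centralizer ((⁅(S : Subgroup G), (S : Subgroup G)⁆ : Subgroup G) : Set G) = (S : Subgroup G)) :
    (Group.IsSolvable G → Subgroup.centralizer ({t} : Set G) = ⊤) ∧
      (¬ Group.IsSolvable G → Nonempty (G ≃* Equiv.Perm (Fin 6))) := by
  obtain ⟨S, hS⟩ := exists_sylow e T htc
  have hCz := centralizer_zG e T htc h2
  obtain ⟨M, hM, htM⟩ := exists_index_two e ht S hS hCz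
  have hD := nonempty_dihedral e M hM ht htM hCz
  have hz : orderOf (⟨zG e, zG_mem_M e M hM⟩ : ↥M) = 2 := by
    rw [← Subgroup.orderOf_coe]; exact orderOf_zG e
  rcases Cfsg.Agent.S3035.result (⟨zG e, zG_mem_M e M hM⟩ : ↥M) hz hD with h | h | h | h | h
  · exact (case_core e M hM ht htM hCz h).elim
  · have htop := case_S4 e M hM h
    exact ⟨fun _ => htop, fun hns => (hns (isSolvable_of_centT_eq_top e htop)).elim⟩
  · exact (case_S5 e M hM ht hCz h).elim
  · exact (case_SL3 e M hM ht hCz h).elim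
  · obtain ⟨f⟩ := case_A6 e M hM ht htM hCz h
    refine ⟨fun hs => ?_, fun _ => ⟨f⟩⟩
    exfalso
    have h1 : Group.IsSolvable (Equiv.Perm (Fin 6)) :=
      Group.isSolvable_of_isSolvable_injective (f := f.symm.toMonoidHom) f.symm.injective
    exact Equiv.Perm.not_isSolvable (Fin 6) (by simp; norm_num) h1

end Cfsg.Agent.S3222
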