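import Cfsg.Statements.S3225
import Mathlib.GroupTheory.Transfer
import Mathlib.GroupTheory.SpecificGroups.Cyclic
import Mathlib.GroupTheory.IndexNormal
-- import your own Cfsg.Agent.* helpers here

set_option autoImplicit false
open Cfsg

namespace Cfsg.Agent.S3225

open MulAction Subgroup in
/-- Key computation: if no conjugate of `x` (of order `2 ^ n`) is killed by `ϕ : H →* A`, `|A| = 2`,
`[G : H]` odd, and `ϕ` kills every element of `H` of order at most `2 ^ (n - 1)`, then the transfer of
`x` is nontrivial. -/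
theorem transfer_ne_one {G : Type*} [Group G] [Finite G]
    (H : Subgroup G) (hodd : Odd H.index) {A : Type*} [CommGroup A] (hA : Nat.card A = 2)
    (ϕ : H →* A) (n : ℕ) (hn : 1 ≤ n)
    (hord : ∀ y : H, ϕ y ≠ 1 → 2 ^ (n - 1) < orderOf (y : G))
    (x : G) (hxn : orderOf x = 2 ^ n)
    (hno : ∀ (g : G) (hg : g⁻¹ * x * g ∈ H), ϕ ⟨g⁻¹ * x * g, hg⟩ ≠ 1) :
    MonoidHom.transfer ϕ x ≠ 1 := by
  classical
  have : Fintype (Quotient (orbitRel (zpowers x) (G ⧸ H))) := Fintype.ofFinite _
  have : Finite A := Nat.finite_of_card_ne_zero (by omega)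
  -- the nontrivial element of `A`
  have hA2 : ∀ b : A, b ^ 2 = 1 := by
    intro b
    have h := pow_card_eq_one' (x := b)
    rwa [hA] at h
  obtain ⟨a, ha, huniq⟩ := (Nat.card_eq_two_iff' (1 : A)).1 hA
  -- each factor of the transfer product
  have key : ∀ (g₀ : G) (k : ℕ) (_ : k ∣ 2 ^ n) (hmem : g₀⁻¹ * x ^ k * g₀ ∈ H),
      ϕ ⟨g₀⁻¹ * x ^ k * g₀, hmem⟩ = if k = 1 then a else 1 := by
    intro g₀ k hkdvd hmem
    obtain ⟨j, hjn, hkj⟩ := (Nat.dvd_prime_pow Nat.prime_two).1 hkdvd
    split_ifs with h1
    · -- fixed point: the conjugate of `x` is not killed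
      apply huniq
      subst h1
      have hmem' : g₀⁻¹ * x * g₀ ∈ H := by simpa using hmem
      have := hno g₀ hmem'
      convert this using 3
      rw [pow_one]
    · -- non-fixed point: the element has small order, so it is killed
      by_contra hne
      have hlt := hord _ hne
      simp only at hlt
      have hj1 : 1 ≤ j := by
        rcases Nat.eq_zero_or_pos j with h0 | h0
        · exact absurd (by rw [hkj, h0, pow_zero]) h1
        · exact h0
      have hconj : orderOf (g₀⁻¹ * x ^ k * g₀) = orderOf (x ^ k) := by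
        have := orderOf_injective (MulAut.conj (g₀⁻¹ : G)).toMonoidHom
          (MulAut.conj (g₀⁻¹ : G)).injective (x ^ k)
        simpa [MulAut.conj_apply] using this
      rw [hconj, orderOf_pow_of_dvd (by rw [hkj]; positivity) (by rw [hxn]; exact hkdvd), hxn, hkj,
        Nat.pow_div hjn (by norm_num)] at hlt
      have : n - j ≤ n - 1 := by omega
      have := Nat.pow_le_pow_right (n := 2) (by norm_num) this
      omega
  have hper : ∀ q : Quotient (orbitRel (zpowers x) (G ⧸ H)),
      Function.minimalPeriod (x • ·) q.out ∣ 2 ^ n := by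
    intro q
    rw [← hxn, ← MulAction.pow_smul_eq_iff_minimalPeriod_dvd, pow_orderOf_eq_one, one_smul]
  have hfac : ∀ q : Quotient (orbitRel (zpowers x) (G ⧸ H)),
      ϕ ⟨q.out.out⁻¹ * x ^ Function.minimalPeriod (x • ·) q.out * q.out.out,
            QuotientGroup.out_conj_pow_minimalPeriod_mem H x q.out⟩ =
        if Function.minimalPeriod (x • ·) q.out = 1 then a else 1 :=
    fun q => key _ _ (hper q) _
  rw [MonoidHom.transfer_eq_prod_quotient_orbitRel_zpowers_quot]
  simp_rw [hfac]
  rw [Finset.prod_ite, Finset.prod_const_one, mul_one, Finset.prod_const]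
  -- parity of the number of fixed points
  have hsum := Subgroup.index_eq_sum_minimalPeriod H x
  set F := Finset.univ.filter (fun q : Quotient (orbitRel (zpowers x) (G ⧸ H)) =>
    Function.minimalPeriod (x • ·) q.out = 1) with hF
  have hoddF : Odd F.card := by
    rw [← Finset.sum_filter_add_sum_filter_not Finset.univ
      (fun q : Quotient (orbitRel (zpowers x) (G ⧸ H)) =>
        Function.minimalPeriod (x • ·) q.out = 1)] at hsum
    rw [Finset.sum_congr rfl (g := fun _ => 1) (fun q hq => (Finset.mem_filter.1 hq).2)] at hsum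
    rw [Finset.sum_const, smul_eq_mul, mul_one] at hsum
    have heven : Even (∑ q ∈ Finset.univ.filter (fun q : Quotient (orbitRel (zpowers x) (G ⧸ H)) =>
        ¬ Function.minimalPeriod (x • ·) q.out = 1), Function.minimalPeriod (x • ·) q.out) := by
      apply Finset.even_sum
      intro q hq
      have h1 := (Finset.mem_filter.1 hq).2
      obtain ⟨j, hjn, hkj⟩ := (Nat.dvd_prime_pow Nat.prime_two).1 (hper q)
      rcases Nat.eq_zero_or_pos j with h0 | h0
      · exact absurd (by rw [hkj, h0, pow_zero]) h1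
      · rw [hkj]
        exact (Nat.even_pow.2 ⟨even_two, by omega⟩)
    rw [hsum] at hodd
    by_contra hne
    rw [Nat.not_odd_iff_even] at hne
    exact (Nat.not_odd_iff_even.2 (hne.add heven)) hodd
  obtain ⟨m, hm⟩ := hoddF
  rw [hm, pow_succ, pow_mul, hA2, one_pow, one_mul]
  exact ha

theorem result {G : Type*} [Group G] [Finite G] (hev : Even (Nat.card G))
    (hG : ∀ H : Subgroup G, H.index ≠ 2) (S : Sylow 2 G) (M : Subgroup G) (hMS : M ≤ (S : Subgroup G)) (hM : M.relIndex (S : Subgroup G) = 2)
    (n : ℕ) (hn : 1 ≤ n) (hord : ∀ y ∈ (S : Subgroup G), y ∉ M → 2 ^ (n - 1) < orderOf y)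
    (x : G) (hx : x ∈ (S : Subgroup G)) (hxn : orderOf x = 2 ^ n) :
    ∃ g : G, g * x * g⁻¹ ∈ M := by
  by_contra hcon
  push Not at hcon
  have : Fact (Nat.Prime 2) := ⟨Nat.prime_two⟩
  have hidx : (M.subgroupOf (S : Subgroup G)).index = 2 := hM
  have : (M.subgroupOf (S : Subgroup G)).Normal := Subgroup.normal_of_index_eq_two hidx
  have hcard : Nat.card (↥(S : Subgroup G) ⧸ M.subgroupOf (S : Subgroup G)) = 2 := by
    rw [← Subgroup.index_eq_card]; exact hidx
  have : IsCyclic (↥(S : Subgroup G) ⧸ M.subgroupOf (S : Subgroup G)) :=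
    isCyclic_of_prime_card hcard
  let _ : CommGroup (↥(S : Subgroup G) ⧸ M.subgroupOf (S : Subgroup G)) := IsCyclic.commGroup
  have hodd : Odd (S : Subgroup G).index := by
    have h := S.not_dvd_index
    exact Nat.odd_iff.2 (Nat.two_dvd_ne_zero.1 h)
  have hne := transfer_ne_one (S : Subgroup G) hodd hcard
    (QuotientGroup.mk' (M.subgroupOf (S : Subgroup G))) n hn ?_ x hxn ?_
  · -- the kernel of the transfer has index 2
    apply hG (MonoidHom.transfer (QuotientGroup.mk' (M.subgroupOf (S : Subgroup G)))).ker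
    rw [Subgroup.index_ker]
    have : Fact (Nat.card (↥(S : Subgroup G) ⧸ M.subgroupOf (S : Subgroup G))).Prime := by
      rw [hcard]; exact ⟨Nat.prime_two⟩
    rcases (MonoidHom.transfer
        (QuotientGroup.mk' (M.subgroupOf (S : Subgroup G)))).range.eq_bot_or_eq_top_of_prime_card
        with hb | ht
    · exfalso
      apply hne
      have : MonoidHom.transfer (QuotientGroup.mk' (M.subgroupOf (S : Subgroup G))) x ∈
          (MonoidHom.transfer (QuotientGroup.mk' (M.subgroupOf (S : Subgroup G)))).range :=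
        ⟨x, rfl⟩
      rw [hb] at this
      exact Subgroup.mem_bot.1 this
    · rw [ht, Subgroup.card_top, hcard]
  · intro y hy
    apply hord y y.2
    intro hyM
    apply hy
    rw [QuotientGroup.mk'_apply, QuotientGroup.eq_one_iff]
    exact Subgroup.mem_subgroupOf.2 hyM
  · intro g hg hker
    rw [QuotientGroup.mk'_apply, QuotientGroup.eq_one_iff, Subgroup.mem_subgroupOf] at hker
    have := hcon g⁻¹
    rw [inv_inv] at this
    exact this hker

end Cfsg.Agent.S3225
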