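import Cfsg.Statements.S3246
import Cfsg.Agent.Lib.Helper49_CharP
import Cfsg.Agent.Lib.Helper49_CharP2
import Cfsg.Agent.Lib.Helper23_CharP
import Cfsg.Agent.Lib.Helper23_PConstrained
import Cfsg.Agent.Lib.Helper4_NormalFour

set_option autoImplicit false
open Cfsg

namespace Cfsg.Agent.S3246

open Cfsg.Agent.Lib.Helper49_CharP Cfsg.Agent.Lib.Helper23_CharP Cfsg.Agent.Lib.Helper23_PConstrained

theorem fact_two : Fact (Nat.Prime 2) := ⟨Nat.prime_two⟩

/-- `p`-constrained with trivial `p'`-core gives characteristic `p`. -/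
theorem charP_of_constrained {X : Type*} [Group X] [Finite X]
    (h1 : IsPConstrained 2 X) (h2 : pPrimeCore 2 X = ⊥) : IsCharP 2 X := by
  have := fact_two
  have h3 := (isPConstrained_iff_centralizer_pCore_le (X := X) 2).mp h1
  have h4 : IsCharP 2 (X ⧸ pPrimeCore 2 X) := h3
  exact h4.of_mulEquiv ((QuotientGroup.quotientMulEquivOfEq h2).trans QuotientGroup.quotientBot)

/-- characteristic `p` gives trivial `p'`-core. -/
theorem pPrimeCore_eq_bot_of_charP {X : Type*} [Group X] [Finite X]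
    (h : IsCharP 2 X) : pPrimeCore 2 X = ⊥ := by
  have := fact_two
  have hOn : (pPrimeCore 2 X).Normal := inferInstance
  have hRn : (pCore 2 X).Normal := pCoreNormal 2 X
  have hinf := pPrimeCore_inf_eq_bot (X := X) 2 (pCore_isPGroup 2 X)
  rw [eq_bot_iff]
  intro y hy
  have hyc : y ∈ Subgroup.centralizer (pCore 2 X : Set X) := by
    rw [Subgroup.mem_centralizer_iff]
    intro q hq
    have h1 : y * q * y⁻¹ * q⁻¹ ∈ pPrimeCore 2 X ⊓ pCore 2 X := by
      refine Subgroup.mem_inf.mpr ⟨?_, ?_⟩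
      · have : y * q * y⁻¹ * q⁻¹ = y * (q * y⁻¹ * q⁻¹) := by group
        rw [this]
        exact mul_mem hy (hOn.conj_mem _ (inv_mem hy) q)
      · exact mul_mem (hRn.conj_mem q hq y) (inv_mem hq)
    rw [hinf, Subgroup.mem_bot] at h1
    have : y * q = (y * q * y⁻¹ * q⁻¹) * (q * y) := by group
    rw [this, h1, one_mul]
  have : y ∈ pPrimeCore 2 X ⊓ pCore 2 X := Subgroup.mem_inf.mpr ⟨hy, h hyc⟩
  rwa [hinf] at this

/-- characteristic `p` gives `p`-constrained. -/
theorem constrained_of_charP {X : Type*} [Group X] [Finite X]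
    (h : IsCharP 2 X) : IsPConstrained 2 X := by
  have := fact_two
  have h2 := pPrimeCore_eq_bot_of_charP h
  rw [isPConstrained_iff_centralizer_pCore_le (X := X) 2]
  have h4 : IsCharP 2 (X ⧸ pPrimeCore 2 X) :=
    h.of_mulEquiv ((QuotientGroup.quotientMulEquivOfEq h2).trans QuotientGroup.quotientBot).symm
  exact h4

/-- every 2-local subgroup lies in a maximal 2-local subgroup. -/
theorem exists_maximal_twoLocal {G : Type*} [Group G] [Finite G] (N : Subgroup G)
    (hN : IsTwoLocal N) : ∃ M : Subgroup G, IsMaximalTwoLocal M ∧ N ≤ M := by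
  have hwf : WellFounded (fun a b : Subgroup G => a > b) := wellFounded_gt
  obtain ⟨M, hM, hmax⟩ := hwf.has_min {M : Subgroup G | IsTwoLocal M ∧ N ≤ M} ⟨N, hN, le_rfl⟩
  refine ⟨M, ⟨hM.1, ?_⟩, hM.2⟩
  intro N' hN' hMN'
  exact (eq_of_le_of_not_lt hMN' (hmax N' ⟨hN', hM.2.trans hMN'⟩)).symm

theorem centralizer_singleton_le_normalizer_zpowers {G : Type*} [Group G] (t : G) :
    Subgroup.centralizer ({t} : Set G) ≤ Subgroup.normalizer (Subgroup.zpowers t : Set G) := by
  intro x hx
  have hxt : t * x = x * t := Subgroup.mem_centralizer_iff.mp hx t rfl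
  refine (Subgroup.centralizer_le_normalizer _) ?_
  rw [Subgroup.mem_centralizer_iff]
  intro y hy
  obtain ⟨k, rfl⟩ := Subgroup.mem_zpowers_iff.mp hy
  exact ((Commute.zpow_left (show Commute t x from hxt) k).eq)

theorem isTwoLocal_normalizer_zpowers {G : Type*} [Group G] (t : G) (ht : orderOf t = 2) :
    IsTwoLocal (Subgroup.normalizer (Subgroup.zpowers t : Set G)) := by
  have := fact_two
  refine ⟨Subgroup.zpowers t, ?_, ?_, rfl⟩
  · apply IsPGroup.of_card (n := 1)
    rw [Nat.card_zpowers, ht, pow_one]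
  · rw [Ne, Subgroup.zpowers_eq_bot]
    rintro rfl
    rw [orderOf_one] at ht
    omega

/-- (U): every involution centralizer lies in a subgroup of characteristic 2. -/
theorem exists_charP_over {G : Type*} [Group G] [Finite G]
    (h : (∀ M : Subgroup G, Cfsg.IsMaximalTwoLocal M → Cfsg.IsPConstrained 2 ↥M ∧ Cfsg.oddCore ↥M = ⊥) ∨
      (∀ t : G, orderOf t = 2 → Cfsg.IsPConstrained 2 ↥(Subgroup.centralizer ({t} : Set G)) ∧
        Cfsg.oddCore ↥(Subgroup.centralizer ({t} : Set G)) = ⊥))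
    (t : G) (ht : orderOf t = 2) :
    ∃ L : Subgroup G, Subgroup.centralizer ({t} : Set G) ≤ L ∧ IsCharP 2 ↥L := by
  rcases h with h | h
  · obtain ⟨M, hM, hNM⟩ := exists_maximal_twoLocal _ (isTwoLocal_normalizer_zpowers t ht)
    exact ⟨M, (centralizer_singleton_le_normalizer_zpowers t).trans hNM,
      charP_of_constrained (h M hM).1 (h M hM).2⟩
  · exact ⟨_, le_rfl, charP_of_constrained (h t ht).1 (h t ht).2⟩

/-- Step 2: in a subgroup `L` of characteristic 2, `N_L(T)` has characteristic 2. -/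
theorem charP_normalizer_inf {G : Type*} [Group G] [Finite G] (L T : Subgroup G)
    (hL : IsCharP 2 ↥L) (hT : IsPGroup 2 ↥T) (hTL : T ≤ L) :
    IsCharP 2 ↥(Subgroup.normalizer (T : Set G) ⊓ L) := by
  have := fact_two
  have h1 : IsCharP 2 ↥((Subgroup.normalizer (T : Set G) ⊓ L).subgroupOf L) := by
    apply IsCharP.of_local hL (T.subgroupOf L) _ hT.comap_subtype
    · intro x hx
      rw [Subgroup.mem_subgroupOf] at hx ⊢
      exact Subgroup.mem_inf.mpr ⟨Subgroup.le_normalizer hx, x.2⟩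
    · intro x hx
      rw [Subgroup.mem_subgroupOf] at hx
      have hxN := (Subgroup.mem_inf.mp hx).1
      rw [Subgroup.mem_normalizer_iff]
      intro y
      rw [Subgroup.mem_subgroupOf, Subgroup.mem_subgroupOf]
      exact Subgroup.mem_normalizer_iff.mp hxN (y : G)
    · intro x hx
      rw [Subgroup.mem_subgroupOf]
      have hxc := (Subgroup.mem_inf.mp hx).2
      refine Subgroup.mem_inf.mpr ⟨?_, x.2⟩
      apply Subgroup.centralizer_le_normalizer
      rw [Subgroup.mem_centralizer_iff]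
      intro u hu
      have := Subgroup.mem_centralizer_iff.mp hxc ⟨u, hTL hu⟩
        (by rw [SetLike.mem_coe, Subgroup.mem_subgroupOf]; exact hu)
      exact congrArg Subtype.val this
  exact h1.of_mulEquiv (Subgroup.subgroupOfEquivOfLe inf_le_right)

/-- Lemma B: if `t ∈ Z(O_2(X))` and `C_X(t)` has characteristic 2 then `X` has characteristic 2. -/
theorem charP_of_centralizer {X : Type*} [Group X] [Finite X] (t : X)
    (htR : t ∈ pCore 2 X) (htc : ∀ q ∈ pCore 2 X, t * q = q * t)
    (hC : IsCharP 2 ↥(Subgroup.centralizer ({t} : Set X))) : IsCharP 2 X := by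
  have := fact_two
  have hRn : (pCore 2 X).Normal := pCoreNormal 2 X
  have hCn : (Subgroup.centralizer (pCore 2 X : Set X)).Normal := Subgroup.normal_centralizer
  have hCp : IsPGroup 2 ↥(Subgroup.centralizer (pCore 2 X : Set X)) := by
    apply isPGroup_of_forall_coprime_eq_one
    intro y hy hyo
    have hyc : ∀ b ∈ pCore 2 X, y * b = b * y :=
      fun b hb => (Subgroup.mem_centralizer_iff.mp hy b hb).symm
    have hmemH : ∀ c : X, t * c = c * t → c ∈ Subgroup.centralizer ({t} : Set X) := by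
      intro c hc
      rw [Subgroup.mem_centralizer_iff]
      intro u hu
      rw [Set.mem_singleton_iff.mp hu]
      exact hc
    have hyH : y ∈ Subgroup.centralizer ({t} : Set X) := hmemH y (hyc t htR).symm
    have hQ : IsPGroup 2 ↥((pCore 2 ↥(Subgroup.centralizer ({t} : Set X))).map
        (Subgroup.centralizer ({t} : Set X)).subtype) := (pCore_isPGroup 2 _).map _
    have hHQ : ∀ h ∈ Subgroup.centralizer ({t} : Set X),
        ∀ q ∈ (pCore 2 ↥(Subgroup.centralizer ({t} : Set X))).map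
          (Subgroup.centralizer ({t} : Set X)).subtype,
        h * q * h⁻¹ ∈ (pCore 2 ↥(Subgroup.centralizer ({t} : Set X))).map
          (Subgroup.centralizer ({t} : Set X)).subtype := by
      rintro h hh q ⟨q', hq', rfl⟩
      exact ⟨⟨h, hh⟩ * q' * ⟨h, hh⟩⁻¹, (pCoreNormal 2 _).conj_mem q' hq' _, rfl⟩
    have hHQ' : Subgroup.centralizer ({t} : Set X) ≤
        Subgroup.normalizer (((pCore 2 ↥(Subgroup.centralizer ({t} : Set X))).map
          (Subgroup.centralizer ({t} : Set X)).subtype : Subgroup X) : Set X) := by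
      intro h hh
      rw [Subgroup.mem_normalizer_iff]
      intro q
      constructor
      · exact hHQ h hh q
      · intro hq
        have h1 := hHQ h⁻¹ (inv_mem hh) _ hq
        have h2 : h⁻¹ * (h * q * h⁻¹) * h⁻¹⁻¹ = q := by group
        rwa [h2] at h1
    have hRH : pCore 2 X ≤ Subgroup.centralizer ({t} : Set X) :=
      fun r hr => hmemH r (htc r hr)
    have hcomm : ∀ q ∈ (pCore 2 ↥(Subgroup.centralizer ({t} : Set X))).map
        (Subgroup.centralizer ({t} : Set X)).subtype, y * q = q * y := by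
      apply pxq _ (pCore 2 X) hQ (pCore_isPGroup 2 X) (hRH.trans hHQ') y hyo (hHQ y hyH) hyc
      intro q hq hqR
      have hqC : q ∈ Subgroup.centralizer (pCore 2 X : Set X) := by
        rw [Subgroup.mem_centralizer_iff]
        intro b hb
        exact (hqR b hb).symm
      have hqR' : q ∈ pCore 2 X := by
        apply le_pCore_of_normalizedBy_normal (Subgroup.centralizer (pCore 2 X : Set X))
          ((pCore 2 ↥(Subgroup.centralizer ({t} : Set X))).map
            (Subgroup.centralizer ({t} : Set X)).subtype ⊓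
              Subgroup.centralizer (pCore 2 X : Set X)) inf_le_right ?_ (hQ.to_le inf_le_left)
          (Subgroup.mem_inf.mpr ⟨hq, hqC⟩)
        intro c hc
        have hcH : c ∈ Subgroup.centralizer ({t} : Set X) :=
          hmemH c (Subgroup.mem_centralizer_iff.mp hc t htR)
        rw [Subgroup.mem_normalizer_iff]
        intro u
        rw [Subgroup.mem_inf, Subgroup.mem_inf]
        have h1 := Subgroup.mem_normalizer_iff.mp (hHQ' hcH) u
        have h2 : u ∈ Subgroup.centralizer (pCore 2 X : Set X) ↔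
            c * u * c⁻¹ ∈ Subgroup.centralizer (pCore 2 X : Set X) := by
          constructor
          · intro hu
            exact mul_mem (mul_mem hc hu) (inv_mem hc)
          · intro hu
            have h3 := mul_mem (mul_mem (inv_mem hc) hu) hc
            have h4 : c⁻¹ * (c * u * c⁻¹) * c = u := by group
            rwa [h4] at h3
        rw [h1, h2]
      exact hyc q hqR'
    have hy1 : (⟨y, hyH⟩ : ↥(Subgroup.centralizer ({t} : Set X))) = 1 := by
      apply hC.eq_one_of_coprime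
      · rw [← Subgroup.orderOf_coe]
        exact hyo
      · intro q hq
        apply Subtype.ext
        exact hcomm q ⟨q, hq, rfl⟩
    exact congrArg Subtype.val hy1
  exact le_pCore hCn hCp

/-- Part 2: every 2-local subgroup is 2-constrained. -/
theorem part2 {G : Type*} [Group G] [Finite G]
    (h : (∀ M : Subgroup G, Cfsg.IsMaximalTwoLocal M → Cfsg.IsPConstrained 2 ↥M ∧ Cfsg.oddCore ↥M = ⊥) ∨
      (∀ t : G, orderOf t = 2 → Cfsg.IsPConstrained 2 ↥(Subgroup.centralizer ({t} : Set G)) ∧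
        Cfsg.oddCore ↥(Subgroup.centralizer ({t} : Set G)) = ⊥))
    (T : Subgroup G) (hT : IsPGroup 2 ↥T) (hT1 : T ≠ ⊥) :
    IsPConstrained 2 ↥(Subgroup.normalizer (T : Set G)) := by
  have := fact_two
  apply constrained_of_charP
  rcases h with h | h
  · obtain ⟨M, hM, hNM⟩ := exists_maximal_twoLocal _ ⟨T, hT, hT1, rfl⟩
    have hMc := charP_of_constrained (h M hM).1 (h M hM).2
    have h1 := charP_normalizer_inf M T hMc hT (Subgroup.le_normalizer.trans hNM)
    have h2 : Subgroup.normalizer (T : Set G) ⊓ M = Subgroup.normalizer (T : Set G) :=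
      inf_eq_left.mpr hNM
    exact h1.of_mulEquiv (MulEquiv.subgroupCongr h2)
  · -- `O_2(N)` is nontrivial
    have hTN : T ≤ Subgroup.normalizer (T : Set G) := Subgroup.le_normalizer
    have hTR : T.subgroupOf (Subgroup.normalizer (T : Set G)) ≤
        pCore 2 ↥(Subgroup.normalizer (T : Set G)) :=
      le_pCore ((Subgroup.normal_subgroupOf_iff_le_normalizer hTN).mpr le_rfl) hT.comap_subtype
    have hRp : IsPGroup 2 ↥(pCore 2 ↥(Subgroup.normalizer (T : Set G))) := pCore_isPGroup 2 _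
    have hRnt : Nontrivial ↥(pCore 2 ↥(Subgroup.normalizer (T : Set G))) := by
      obtain ⟨⟨u, huT⟩, hu1⟩ := (Subgroup.ne_bot_iff_exists_ne_one).mp hT1
      refine ⟨⟨⟨⟨u, hTN huT⟩, hTR (by rw [Subgroup.mem_subgroupOf]; exact huT)⟩, 1, ?_⟩⟩
      intro h0
      apply hu1
      have := congrArg (fun x : ↥(pCore 2 ↥(Subgroup.normalizer (T : Set G))) =>
        ((x : ↥(Subgroup.normalizer (T : Set G))) : G)) h0
      exact Subtype.ext this
    have hZnt := hRp.center_nontrivial
    have hZp : IsPGroup 2 ↥(Subgroup.center ↥(pCore 2 ↥(Subgroup.normalizer (T : Set G)))) :=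
      hRp.to_subgroup _
    obtain ⟨n, hn⟩ := IsPGroup.iff_card.mp hZp
    have hn0 : n ≠ 0 := by
      rintro rfl
      have := Finite.one_lt_card (α := ↥(Subgroup.center ↥(pCore 2 ↥(Subgroup.normalizer (T : Set G)))))
      omega
    obtain ⟨t'', ht''⟩ := exists_prime_orderOf_dvd_card' (G :=
      ↥(Subgroup.center ↥(pCore 2 ↥(Subgroup.normalizer (T : Set G))))) 2
      (by rw [hn]; exact dvd_pow_self 2 hn0)
    -- unpack
    have ht2 : orderOf (((t'' : ↥(pCore 2 ↥(Subgroup.normalizer (T : Set G)))) :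
        ↥(Subgroup.normalizer (T : Set G))) : G) = 2 := by
      rw [Subgroup.orderOf_coe, Subgroup.orderOf_coe, Subgroup.orderOf_coe, ht'']
    have htc : ∀ q ∈ pCore 2 ↥(Subgroup.normalizer (T : Set G)),
        ((t'' : ↥(pCore 2 ↥(Subgroup.normalizer (T : Set G)))) :
          ↥(Subgroup.normalizer (T : Set G))) * q =
        q * ((t'' : ↥(pCore 2 ↥(Subgroup.normalizer (T : Set G)))) :
          ↥(Subgroup.normalizer (T : Set G))) := by
      intro q hq
      have h1 := Subgroup.mem_center_iff.mp t''.2 ⟨q, hq⟩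
      exact (congrArg Subtype.val h1).symm
    apply charP_of_centralizer _ (t'' : ↥(pCore 2 ↥(Subgroup.normalizer (T : Set G)))).2 htc
    have hLc := charP_of_constrained (h _ ht2).1 (h _ ht2).2
    have hTL : T ≤ Subgroup.centralizer ({(((t'' : ↥(pCore 2 ↥(Subgroup.normalizer (T : Set G)))) :
        ↥(Subgroup.normalizer (T : Set G))) : G)} : Set G) := by
      intro u hu
      rw [Subgroup.mem_centralizer_iff]
      intro v hv
      rw [Set.mem_singleton_iff.mp hv]
      have h1 := htc ⟨u, hTN hu⟩ (hTR (by rw [Subgroup.mem_subgroupOf]; exact hu))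
      exact congrArg Subtype.val h1
    have h1 := charP_normalizer_inf _ T hLc hT hTL
    have h2 := h1.of_mulEquiv (Subgroup.subgroupOfEquivOfLe inf_le_left).symm
    have e1 : (Subgroup.normalizer (T : Set G) ⊓
        Subgroup.centralizer ({(((t'' : ↥(pCore 2 ↥(Subgroup.normalizer (T : Set G)))) :
        ↥(Subgroup.normalizer (T : Set G))) : G)} : Set G)).subgroupOf
          (Subgroup.normalizer (T : Set G)) =
        Subgroup.centralizer ({((t'' : ↥(pCore 2 ↥(Subgroup.normalizer (T : Set G)))) :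
        ↥(Subgroup.normalizer (T : Set G)))} : Set ↥(Subgroup.normalizer (T : Set G))) := by
      ext x
      rw [Subgroup.mem_subgroupOf, Subgroup.mem_inf, Subgroup.mem_centralizer_iff,
        Subgroup.mem_centralizer_iff]
      constructor
      · rintro ⟨-, hx⟩ v hv
        rw [Set.mem_singleton_iff.mp hv]
        exact Subtype.ext (hx _ rfl)
      · intro hx
        refine ⟨x.2, ?_⟩
        intro v hv
        rw [Set.mem_singleton_iff.mp hv]
        exact congrArg Subtype.val (hx _ rfl)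
    exact h2.of_mulEquiv (MulEquiv.subgroupCongr e1)

/-- Lemma K: an odd-order subgroup `Y` of a characteristic 2 subgroup `L`, normalized by a
2-subgroup `U ≤ L` of index at most two in every 2-overgroup, is trivial. -/
theorem eq_one_of_charP_of_index_two {G : Type*} [Group G] [Finite G] (L Y U : Subgroup G)
    (hL : IsCharP 2 ↥L) (hYL : Y ≤ L) (hUL : U ≤ L) (hYodd : (Nat.card ↥Y).Coprime 2)
    (hU : IsPGroup 2 ↥U) (hUY : ∀ u ∈ U, ∀ y ∈ Y, u * y * u⁻¹ ∈ Y)
    (hU2 : ∀ V : Subgroup G, IsPGroup 2 ↥V → U ≤ V → Nat.card ↥V ≤ 2 * Nat.card ↥U) :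
    ∀ y ∈ Y, y = 1 := by
  have := fact_two
  have hR : IsPGroup 2 ↥((pCore 2 ↥L).map L.subtype) := (pCore_isPGroup 2 _).map _
  have hLR : ∀ l ∈ L, ∀ q ∈ (pCore 2 ↥L).map L.subtype, l * q * l⁻¹ ∈ (pCore 2 ↥L).map L.subtype := by
    rintro l hl q ⟨q', hq', rfl⟩
    exact ⟨⟨l, hl⟩ * q' * ⟨l, hl⟩⁻¹, (pCoreNormal 2 _).conj_mem q' hq' _, rfl⟩
  have hLR' : L ≤ Subgroup.normalizer (((pCore 2 ↥L).map L.subtype : Subgroup G) : Set G) := by
    intro l hl
    rw [Subgroup.mem_normalizer_iff]
    intro q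
    constructor
    · exact hLR l hl q
    · intro hq
      have h1 := hLR l⁻¹ (inv_mem hl) _ hq
      have h2 : l⁻¹ * (l * q * l⁻¹) * l⁻¹⁻¹ = q := by group
      rwa [h2] at h1
  have hYo : ∀ y ∈ Y, (orderOf y).Coprime 2 := by
    intro y hy
    have h1 : orderOf y ∣ Nat.card ↥Y := by
      have := orderOf_dvd_natCard (⟨y, hy⟩ : ↥Y)
      rwa [← Subgroup.orderOf_coe] at this
    exact Nat.Coprime.coprime_dvd_left h1 hYodd
  -- `Y` centralizes `R ∩ U`
  have hYR : ∀ y ∈ Y, ∀ q ∈ (pCore 2 ↥L).map L.subtype, q ∈ U → y * q = q * y := by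
    intro y hy q hq hqU
    have hcY : q * y * q⁻¹ * y⁻¹ ∈ Y := mul_mem (hUY q hqU y hy) (inv_mem hy)
    have hcR : q * y * q⁻¹ * y⁻¹ ∈ (pCore 2 ↥L).map L.subtype := by
      have h1 : q * y * q⁻¹ * y⁻¹ = q * (y * q⁻¹ * y⁻¹) := by group
      rw [h1]
      exact mul_mem hq (hLR y (hYL hy) _ (inv_mem hq))
    have hc1 : q * y * q⁻¹ * y⁻¹ = 1 := eq_one_of_coprime_of_mem hR hcR (hYo _ hcY)
    have h2 : q * y = (q * y * q⁻¹ * y⁻¹) * (y * q) := by group
    rw [h2, hc1, one_mul]
  have hmain : ∀ y ∈ Y, ∀ q ∈ (pCore 2 ↥L).map L.subtype, y * q = q * y := by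
    intro y hy q hq
    by_cases hqU : q ∈ U
    · exact hYR y hy q hq hqU
    · have hV : IsPGroup 2 ↥(U ⊔ (pCore 2 ↥L).map L.subtype) :=
        IsPGroup.to_sup_of_normal_right' hU hR (hUL.trans hLR')
      have hcard := hU2 _ hV le_sup_left
      have hqV : q ∈ U ⊔ (pCore 2 ↥L).map L.subtype := (le_sup_right : _ ≤ U ⊔ _) hq
      -- the index of `U` in `V` is two
      have hidx : (U.subgroupOf (U ⊔ (pCore 2 ↥L).map L.subtype)).index = 2 := by
        have h1 := Subgroup.card_mul_index (U.subgroupOf (U ⊔ (pCore 2 ↥L).map L.subtype))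
        have h2 : Nat.card ↥(U.subgroupOf (U ⊔ (pCore 2 ↥L).map L.subtype)) = Nat.card ↥U :=
          Nat.card_congr (Subgroup.subgroupOfEquivOfLe le_sup_left).toEquiv
        rw [h2] at h1
        have hUpos : 0 < Nat.card ↥U := Nat.card_pos
        have hle : (U.subgroupOf (U ⊔ (pCore 2 ↥L).map L.subtype)).index ≤ 2 := by
          by_contra hcon
          have h3 : 3 ≤ (U.subgroupOf (U ⊔ (pCore 2 ↥L).map L.subtype)).index := by omega
          have h4 : Nat.card ↥U * 3 ≤
              Nat.card ↥U * (U.subgroupOf (U ⊔ (pCore 2 ↥L).map L.subtype)).index :=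
            Nat.mul_le_mul_left _ h3
          omega
        have hne0 : (U.subgroupOf (U ⊔ (pCore 2 ↥L).map L.subtype)).index ≠ 0 :=
          Subgroup.index_ne_zero_of_finite
        have hne1 : (U.subgroupOf (U ⊔ (pCore 2 ↥L).map L.subtype)).index ≠ 1 := by
          intro h5
          rw [Subgroup.index_eq_one] at h5
          have h6 : (⟨q, hqV⟩ : ↥(U ⊔ (pCore 2 ↥L).map L.subtype)) ∈
              U.subgroupOf (U ⊔ (pCore 2 ↥L).map L.subtype) := by
            rw [h5]; exact Subgroup.mem_top _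
          rw [Subgroup.mem_subgroupOf] at h6
          exact hqU h6
        omega
      have hconjR : y * q * y⁻¹ ∈ (pCore 2 ↥L).map L.subtype := hLR y (hYL hy) q hq
      have hconjU : y * q * y⁻¹ ∉ U := by
        intro h1
        have h2 := hYR y hy _ hconjR h1
        apply hqU
        have h3 : q = y⁻¹ * ((y * q * y⁻¹) * y) := by group
        rw [← h2] at h3
        have h4 : y⁻¹ * (y * (y * q * y⁻¹)) = y * q * y⁻¹ := by group
        rw [h4] at h3
        rw [h3]
        exact h1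
      have hqiU : q⁻¹ ∉ U := fun h1 => hqU (by simpa using inv_mem h1)
      have hr0U : q⁻¹ * (y * q * y⁻¹) ∈ U := by
        have h1 := Subgroup.mul_mem_iff_of_index_two hidx
          (a := (⟨q⁻¹, inv_mem hqV⟩ : ↥(U ⊔ (pCore 2 ↥L).map L.subtype)))
          (b := (⟨y * q * y⁻¹, (le_sup_right : _ ≤ U ⊔ _) hconjR⟩ :
            ↥(U ⊔ (pCore 2 ↥L).map L.subtype)))
        rw [Subgroup.mem_subgroupOf, Subgroup.mem_subgroupOf, Subgroup.mem_subgroupOf] at h1
        exact h1.mpr ⟨fun h => absurd h hqiU, fun h => absurd h hconjU⟩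
      have hr0R : q⁻¹ * (y * q * y⁻¹) ∈ (pCore 2 ↥L).map L.subtype :=
        mul_mem (inv_mem hq) hconjR
      have hcomm : Commute y q := by
        refine commute_of_coprime_of_conj_eq_mul (p := 2) y q (q⁻¹ * (y * q * y⁻¹)) (hYo y hy)
          (by group) (hYR y hy _ hr0R hr0U) (orderOf_eq_pow_of_mem hR hr0R)
      exact hcomm.eq
  intro y hy
  have hy1 : (⟨y, hYL hy⟩ : ↥L) = 1 := by
    apply hL.eq_one_of_coprime
    · rw [← Subgroup.orderOf_coe]
      exact hYo y hy
    · intro q hq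
      apply Subtype.ext
      exact hmain y hy q ⟨q, hq, rfl⟩
  exact congrArg Subtype.val hy1

/-- An element `v` with `v * v = 1` normalizing `X` and fixing only `1` inverts `X`. -/
theorem inverts_of_fpf {G : Type*} [Group G] (X : Subgroup G) [Finite ↥X] (v : G) (hv : v * v = 1)
    (hvX : ∀ x ∈ X, v * x * v⁻¹ ∈ X) (hfix : ∀ x ∈ X, v * x = x * v → x = 1) :
    ∀ x ∈ X, v * x * v⁻¹ = x⁻¹ := by
  have hvi : v⁻¹ = v := inv_eq_of_mul_eq_one_right hv
  have hinj : Function.Injective (fun x : ↥X =>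
      (⟨(x : G)⁻¹ * (v * x * v⁻¹), mul_mem (inv_mem x.2) (hvX x x.2)⟩ : ↥X)) := by
    intro x y hxy
    have h1 : (x : G)⁻¹ * (v * x * v⁻¹) = (y : G)⁻¹ * (v * y * v⁻¹) := congrArg Subtype.val hxy
    have h2 : (y : G) * (x : G)⁻¹ ∈ X := mul_mem y.2 (inv_mem x.2)
    have h3 : v * ((y : G) * (x : G)⁻¹) = ((y : G) * (x : G)⁻¹) * v := by
      have h4 : (y : G) * (x : G)⁻¹ = (v * y * v⁻¹) * (v * x * v⁻¹)⁻¹ := by
        have h5 : (v * (y : G) * v⁻¹) = (y : G) * ((x : G)⁻¹ * (v * x * v⁻¹)) := by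
          rw [h1]; group
        rw [h5]; group
      have h6 : (v * (y : G) * v⁻¹) * (v * x * v⁻¹)⁻¹ = v * ((y : G) * (x : G)⁻¹) * v⁻¹ := by group
      rw [h6] at h4
      calc v * ((y : G) * (x : G)⁻¹) = (v * ((y : G) * (x : G)⁻¹) * v⁻¹) * v := by group
        _ = ((y : G) * (x : G)⁻¹) * v := by rw [← h4]
    have h7 := hfix _ h2 h3
    apply Subtype.ext
    have h8 : (y : G) = ((y : G) * (x : G)⁻¹) * x := by group
    rw [h8, h7, one_mul]
  have hsurj := Finite.injective_iff_surjective.mp hinj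
  intro w hw
  obtain ⟨x, hx⟩ := hsurj ⟨w, hw⟩
  have h1 : (x : G)⁻¹ * (v * x * v⁻¹) = w := congrArg Subtype.val hx
  have key : v * ((x : G)⁻¹ * (v * x * v⁻¹)) * v⁻¹ = ((x : G)⁻¹ * (v * x * v⁻¹))⁻¹ := by
    have e1 : v * ((x : G)⁻¹ * (v * x * v⁻¹)) * v⁻¹ =
        (v * (x : G)⁻¹ * v⁻¹) * ((v * v) * x * (v * v)⁻¹) := by group
    have e2 : ((x : G)⁻¹ * (v * x * v⁻¹))⁻¹ = (v * (x : G)⁻¹ * v⁻¹) * x := by group
    rw [e1, e2, hv]
    group
  rw [← h1]
  exact key

theorem mem_centralizer_singleton_iff' {G : Type*} [Group G] (a x : G) :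
    x ∈ Subgroup.centralizer ({a} : Set G) ↔ a * x = x * a := by
  rw [Subgroup.mem_centralizer_iff]
  constructor
  · intro h
    exact h a rfl
  · intro h u hu
    rw [Set.mem_singleton_iff.mp hu]
    exact h

/-- If the `S`-conjugates of `a` are `a` and `z' * a` with `z'` central of square one, then
`C_S(a)` has index at most two. -/
theorem card_le_two_mul_centralizer {G : Type*} [Group G] [Finite G] (S : Subgroup G) (a z' : G)
    (hz'c : ∀ s ∈ S, s * z' = z' * s) (hz'2 : z' * z' = 1)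
    (hconj : ∀ s ∈ S, s * a * s⁻¹ = a ∨ s * a * s⁻¹ = z' * a) :
    Nat.card ↥S ≤ 2 * Nat.card ↥(S ⊓ Subgroup.centralizer ({a} : Set G)) := by
  have h1 := Subgroup.card_mul_index ((S ⊓ Subgroup.centralizer ({a} : Set G)).subgroupOf S)
  have h2 : Nat.card ↥((S ⊓ Subgroup.centralizer ({a} : Set G)).subgroupOf S) =
      Nat.card ↥(S ⊓ Subgroup.centralizer ({a} : Set G)) :=
    Nat.card_congr (Subgroup.subgroupOfEquivOfLe inf_le_left).toEquiv
  rw [h2] at h1
  have hmemU : ∀ b : ↥S, b ∈ (S ⊓ Subgroup.centralizer ({a} : Set G)).subgroupOf S ↔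
      a * (b : G) = (b : G) * a := by
    intro b
    rw [Subgroup.mem_subgroupOf, Subgroup.mem_inf, mem_centralizer_singleton_iff']
    exact ⟨fun h => h.2, fun h => ⟨b.2, h⟩⟩
  have hidx : ((S ⊓ Subgroup.centralizer ({a} : Set G)).subgroupOf S).index ≤ 2 := by
    by_cases hall : ∀ s ∈ S, a * s = s * a
    · have htop : (S ⊓ Subgroup.centralizer ({a} : Set G)).subgroupOf S = ⊤ := by
        rw [eq_top_iff]
        intro b _
        exact (hmemU b).mpr (hall b b.2)
      rw [htop, Subgroup.index_top]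
      norm_num
    · obtain ⟨s₁, hs₁⟩ := not_forall.mp hall
      obtain ⟨hs₁S, hs₁a⟩ := Classical.not_imp.mp hs₁
      have hs₁c : s₁ * a * s₁⁻¹ = z' * a := by
        rcases hconj s₁ hs₁S with h3 | h3
        · exfalso
          apply hs₁a
          have h4 : s₁ * a = (s₁ * a * s₁⁻¹) * s₁ := by group
          rw [h4, h3]
        · exact h3
      apply le_of_eq
      rw [Subgroup.index_eq_two_iff]
      refine ⟨⟨s₁, hs₁S⟩, fun b => ?_⟩
      by_cases hb : a * (b : G) = (b : G) * a
      · right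
        refine ⟨(hmemU b).mpr hb, ?_⟩
        intro h3
        have h4 := (hmemU _).mp h3
        simp only [Subgroup.coe_mul] at h4
        apply hs₁a
        have h5 : a * s₁ = (b : G)⁻¹ * ((b : G) * a) * s₁ := by group
        rw [h5, ← hb]
        have h6 : (b : G)⁻¹ * (a * (b : G)) * s₁ = (b : G)⁻¹ * (a * ((b : G) * s₁)) := by group
        rw [h6, h4]
        group
      · left
        refine ⟨?_, fun h3 => hb ((hmemU b).mp h3)⟩
        rw [hmemU]
        simp only [Subgroup.coe_mul]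
        have hbc : (b : G) * a * (b : G)⁻¹ = z' * a := by
          rcases hconj b b.2 with h3 | h3
          · exfalso
            apply hb
            have h4 : (b : G) * a = ((b : G) * a * (b : G)⁻¹) * b := by group
            rw [h4, h3]
          · exact h3
        have h7 : ((b : G) * s₁) * a * ((b : G) * s₁)⁻¹ = a := by
          have h8 : ((b : G) * s₁) * a * ((b : G) * s₁)⁻¹ = (b : G) * (s₁ * a * s₁⁻¹) * (b : G)⁻¹ := by
            group
          rw [h8, hs₁c]
          have h9 : (b : G) * (z' * a) * (b : G)⁻¹ = ((b : G) * z') * a * (b : G)⁻¹ := by group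
          rw [h9, hz'c b b.2]
          have h10 : z' * (b : G) * a * (b : G)⁻¹ = z' * ((b : G) * a * (b : G)⁻¹) := by group
          rw [h10, hbc, ← mul_assoc, hz'2, one_mul]
        have h11 : a * ((b : G) * s₁) = (((b : G) * s₁) * a * ((b : G) * s₁)⁻¹) * ((b : G) * s₁) := by
          rw [h7]
        rw [h11]
        group
  calc Nat.card ↥S = Nat.card ↥(S ⊓ Subgroup.centralizer ({a} : Set G)) *
        ((S ⊓ Subgroup.centralizer ({a} : Set G)).subgroupOf S).index := h1.symm
    _ ≤ Nat.card ↥(S ⊓ Subgroup.centralizer ({a} : Set G)) * 2 := Nat.mul_le_mul_left _ hidx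
    _ = 2 * Nat.card ↥(S ⊓ Subgroup.centralizer ({a} : Set G)) := mul_comm _ _

/-- (*): an involution `a ∈ S` with at most two `S`-conjugates `a`, `z' * a` acts fixed point
freely on every odd-order subgroup normalized by `S`. -/
theorem star {G : Type*} [Group G] [Finite G]
    (h : (∀ M : Subgroup G, Cfsg.IsMaximalTwoLocal M → Cfsg.IsPConstrained 2 ↥M ∧ Cfsg.oddCore ↥M = ⊥) ∨
      (∀ t : G, orderOf t = 2 → Cfsg.IsPConstrained 2 ↥(Subgroup.centralizer ({t} : Set G)) ∧
        Cfsg.oddCore ↥(Subgroup.centralizer ({t} : Set G)) = ⊥))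
    (S : Sylow 2 G) (X : Subgroup G) (hXodd : (Nat.card ↥X).Coprime 2)
    (hSX : (S : Subgroup G) ≤ Subgroup.normalizer (X : Set G))
    (a z' : G) (ha : orderOf a = 2)
    (hz'c : ∀ s ∈ (S : Subgroup G), s * z' = z' * s) (hz'2 : z' * z' = 1)
    (hconj : ∀ s ∈ (S : Subgroup G), s * a * s⁻¹ = a ∨ s * a * s⁻¹ = z' * a) :
    ∀ x ∈ X, a * x = x * a → x = 1 := by
  have := fact_two
  obtain ⟨L, hCL, hLc⟩ := exists_charP_over h a ha
  intro x hx hxa
  apply eq_one_of_charP_of_index_two L (X ⊓ Subgroup.centralizer ({a} : Set G))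
    ((S : Subgroup G) ⊓ Subgroup.centralizer ({a} : Set G)) hLc (inf_le_right.trans hCL)
    (inf_le_right.trans hCL) ?_ (S.isPGroup'.to_le inf_le_left) ?_ ?_ x
    (Subgroup.mem_inf.mpr ⟨hx, (mem_centralizer_singleton_iff' a x).mpr hxa⟩)
  · exact Nat.Coprime.coprime_dvd_left (Subgroup.card_dvd_of_le inf_le_left) hXodd
  · intro u hu y hy
    rw [Subgroup.mem_inf] at hu hy ⊢
    exact ⟨(Subgroup.mem_normalizer_iff.mp (hSX hu.1) y).mp hy.1,
      mul_mem (mul_mem hu.2 hy.2) (inv_mem hu.2)⟩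
  · intro V hV _
    obtain ⟨P, hVP⟩ := hV.exists_le_sylow
    have h1 : Nat.card ↥V ≤ Nat.card ↥(P : Subgroup G) := Subgroup.card_le_of_le hVP
    have h2 : Nat.card ↥(P : Subgroup G) = Nat.card ↥(S : Subgroup G) := by
      rw [Sylow.card_eq_multiplicity, Sylow.card_eq_multiplicity]
    have h3 := card_le_two_mul_centralizer (S : Subgroup G) a z' hz'c hz'2 hconj
    omega

/-- Part 1: `S` normalizes no nontrivial subgroup of odd order. -/
theorem part1 {G : Type*} [Group G] [Finite G]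
    (S : Sylow 2 G) (A : Subgroup G) (hA : Cfsg.IsSCN (S : Subgroup G) A)
    (hA3 : ¬ Cfsg.PRankLE 2 2 ↥A)
    (h : (∀ M : Subgroup G, Cfsg.IsMaximalTwoLocal M → Cfsg.IsPConstrained 2 ↥M ∧ Cfsg.oddCore ↥M = ⊥) ∨
      (∀ t : G, orderOf t = 2 → Cfsg.IsPConstrained 2 ↥(Subgroup.centralizer ({t} : Set G)) ∧
        Cfsg.oddCore ↥(Subgroup.centralizer ({t} : Set G)) = ⊥))
    (X : Subgroup G) (hXo : Odd (Nat.card ↥X))
    (hSX : (S : Subgroup G) ≤ Subgroup.normalizer (X : Set G)) : X = ⊥ := by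
  have := fact_two
  have hXodd : (Nat.card ↥X).Coprime 2 := hXo.coprime_two_right
  -- an elementary abelian subgroup of order 8 in `S`
  unfold Cfsg.PRankLE at hA3
  obtain ⟨B, hB⟩ := not_forall.mp hA3
  obtain ⟨hBc, hB⟩ := Classical.not_imp.mp hB
  obtain ⟨hB2, hBcard⟩ := Classical.not_imp.mp hB
  have hBp : IsPGroup 2 ↥B := by
    intro b
    refine ⟨1, ?_⟩
    rw [pow_one]
    exact Subtype.ext (hB2 b b.2)
  obtain ⟨n, hn⟩ := IsPGroup.iff_card.mp hBp
  have hn3 : 3 ≤ n := by
    by_contra hcon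
    have hn2 : n ≤ 2 := by omega
    have : 2 ^ n ≤ 2 ^ 2 := Nat.pow_le_pow_right (by norm_num) hn2
    rw [hn] at hBcard
    exact hBcard this
  obtain ⟨K, hK⟩ := Sylow.exists_subgroup_card_pow_prime (G := ↥B) 2 (n := 3)
    (by rw [hn]; exact pow_dvd_pow 2 hn3)
  have hE : Nat.card ↥((K.map B.subtype).map (Subgroup.inclusion hA.1)) = 8 := by
    rw [Subgroup.card_map_of_injective (Subgroup.inclusion_injective hA.1),
      Subgroup.card_map_of_injective B.subtype_injective, hK]
    norm_num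
  have hE2 : ∀ e ∈ (K.map B.subtype).map (Subgroup.inclusion hA.1), e ^ 2 = 1 := by
    rintro e ⟨e', ⟨k, _, rfl⟩, rfl⟩
    have h1 : ((k : ↥B) : ↥A) ^ 2 = 1 := hB2 _ k.2
    rw [← map_pow]
    simp only [Subgroup.coe_subtype] at h1 ⊢
    rw [h1, map_one]
  obtain ⟨z, t, hzc, hz1, hz2, ht2, ht1, htz, hconj⟩ :=
    Cfsg.Agent.Lib.Helper4_NormalFour.hasNormalFour_of_E8 (S := ↥(S : Subgroup G)) S.isPGroup'
      _ hE hE2
  -- translate to `G`
  have hzc' : ∀ s ∈ (S : Subgroup G), s * (z : G) = (z : G) * s := by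
    intro s hs
    have h1 := Subgroup.mem_center_iff.mp hzc ⟨s, hs⟩
    exact congrArg Subtype.val h1
  have hzz : (z : G) * (z : G) = 1 := by
    have h1 : ((z ^ 2 : ↥(S : Subgroup G)) : G) = 1 := by rw [hz2]; rfl
    rwa [Subgroup.coe_pow, pow_two] at h1
  have htt : (t : G) * (t : G) = 1 := by
    have h1 : ((t ^ 2 : ↥(S : Subgroup G)) : G) = 1 := by rw [ht2]; rfl
    rwa [Subgroup.coe_pow, pow_two] at h1
  have hz1' : (z : G) ≠ 1 := fun h0 => hz1 (Subtype.ext h0)
  have ht1' : (t : G) ≠ 1 := fun h0 => ht1 (Subtype.ext h0)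
  have htz' : (t : G) ≠ (z : G) := fun h0 => htz (Subtype.ext h0)
  have hzo : orderOf (z : G) = 2 := orderOf_eq_prime (by rw [pow_two]; exact hzz) hz1'
  have hto : orderOf (t : G) = 2 := orderOf_eq_prime (by rw [pow_two]; exact htt) ht1'
  have hconj' : ∀ s ∈ (S : Subgroup G), s * (t : G) * s⁻¹ = (t : G) ∨
      s * (t : G) * s⁻¹ = (z : G) * (t : G) := by
    intro s hs
    rcases hconj ⟨s, hs⟩ with h1 | h1
    · left
      exact congrArg Subtype.val h1
    · right
      exact congrArg Subtype.val h1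
  have hzt : (z : G) * (t : G) = (t : G) * (z : G) := (hzc' t t.2).symm
  have hzt2 : ((z : G) * (t : G)) * ((z : G) * (t : G)) = 1 := by
    have h1 : ((z : G) * (t : G)) * ((z : G) * (t : G)) =
        (z : G) * ((t : G) * (z : G)) * (t : G) := by group
    rw [h1, ← hzt]
    have h2 : (z : G) * ((z : G) * (t : G)) * (t : G) = ((z : G) * (z : G)) * ((t : G) * (t : G)) := by
      group
    rw [h2, hzz, htt, one_mul]
  have hzt1 : (z : G) * (t : G) ≠ 1 := by
    intro h0
    apply htz'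
    have h1 : (t : G) = (z : G)⁻¹ := (inv_eq_of_mul_eq_one_right h0).symm
    rw [h1]
    exact inv_eq_of_mul_eq_one_right hzz
  have hzto : orderOf ((z : G) * (t : G)) = 2 :=
    orderOf_eq_prime (by rw [pow_two]; exact hzt2) hzt1
  have hconjz : ∀ s ∈ (S : Subgroup G), s * (z : G) * s⁻¹ = (z : G) ∨
      s * (z : G) * s⁻¹ = 1 * (z : G) := by
    intro s hs
    left
    rw [hzc' s hs]
    group
  have hconjzt : ∀ s ∈ (S : Subgroup G),
      s * ((z : G) * (t : G)) * s⁻¹ = (z : G) * (t : G) ∨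
      s * ((z : G) * (t : G)) * s⁻¹ = (z : G) * ((z : G) * (t : G)) := by
    intro s hs
    have h1 : s * ((z : G) * (t : G)) * s⁻¹ = (s * (z : G)) * (t : G) * s⁻¹ := by group
    rw [h1, hzc' s hs]
    have h2 : (z : G) * s * (t : G) * s⁻¹ = (z : G) * (s * (t : G) * s⁻¹) := by group
    rw [h2]
    rcases hconj' s hs with h3 | h3
    · left
      rw [h3]
    · right
      rw [h3]
  have hone_c : ∀ s ∈ (S : Subgroup G), s * (1 : G) = 1 * s := by
    intro s _
    rw [mul_one, one_mul]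
  have fz := star h S X hXodd hSX (z : G) 1 hzo hone_c (one_mul 1) hconjz
  have ft := star h S X hXodd hSX (t : G) (z : G) hto hzc' hzz hconj'
  have fzt := star h S X hXodd hSX ((z : G) * (t : G)) (z : G) hzto hzc' hzz hconjzt
  have hnorm : ∀ s ∈ (S : Subgroup G), ∀ x ∈ X, s * x * s⁻¹ ∈ X :=
    fun s hs x hx => (Subgroup.mem_normalizer_iff.mp (hSX hs) x).mp hx
  have iz := inverts_of_fpf X (z : G) hzz (hnorm _ z.2) fz
  have it := inverts_of_fpf X (t : G) htt (hnorm _ t.2) ft
  rw [eq_bot_iff]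
  intro x hx
  rw [Subgroup.mem_bot]
  apply fzt x hx
  have h1 : ((z : G) * (t : G)) * x * ((z : G) * (t : G))⁻¹ = x := by
    have h2 : ((z : G) * (t : G)) * x * ((z : G) * (t : G))⁻¹ =
        (z : G) * ((t : G) * x * (t : G)⁻¹) * (z : G)⁻¹ := by group
    rw [h2, it x hx, iz _ (inv_mem hx), inv_inv]
  have h3 : ((z : G) * (t : G)) * x =
      (((z : G) * (t : G)) * x * ((z : G) * (t : G))⁻¹) * ((z : G) * (t : G)) := by group
  rw [h3, h1]


/-- Let G be a finite group whose Sylow 2-subgroup S has a self-centralizing normal subgroup of rank at least 3. Suppose that either every maximal 2-local subgroup of G is 2-constrained with no nontrivial normal subgroup of odd order, or the centralizer of every involution of G is 2-constrained with no nontrivial normal subgroup of odd order. Then S normalizes no nontrivial subgroup of G of odd order and every 2-local subgroup of G is 2-constrained. -/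
theorem result {G : Type*} [Group G] [Finite G]
    (S : Sylow 2 G) (A : Subgroup G) (hA : Cfsg.IsSCN (S : Subgroup G) A) (hA3 : ¬ Cfsg.PRankLE 2 2 ↥A)
    (h : (∀ M : Subgroup G, Cfsg.IsMaximalTwoLocal M → Cfsg.IsPConstrained 2 ↥M ∧ Cfsg.oddCore ↥M = ⊥) ∨
      (∀ t : G, orderOf t = 2 → Cfsg.IsPConstrained 2 ↥(Subgroup.centralizer ({t} : Set G)) ∧
        Cfsg.oddCore ↥(Subgroup.centralizer ({t} : Set G)) = ⊥)) :
    (∀ X : Subgroup G, Odd (Nat.card ↥X) → (S : Subgroup G) ≤ Subgroup.normalizer (X : Set G) → X = ⊥) ∧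
      (∀ T : Subgroup G, IsPGroup 2 ↥T → T ≠ ⊥ → Cfsg.IsPConstrained 2 ↥(Subgroup.normalizer (T : Set G))) := by
  exact ⟨fun X hX hSX => part1 S A hA hA3 h X hX hSX, fun T hT hT1 => part2 h T hT hT1⟩

end Cfsg.Agent.S3246
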