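import Cfsg.Statements.S3247
import Cfsg.Agent.Lib.Helper23_PCLocal

set_option autoImplicit false
open Cfsg

namespace Cfsg.Agent.S3247

open Cfsg.Agent.Lib.Helper49_CharP Cfsg.Agent.Lib.Helper23_Layer Cfsg.Agent.Lib.Helper23_PComp
  Cfsg.Agent.Lib.Helper23_PCLocal Cfsg.Agent.Lib.Helper23_LocalLayer in
/-- If the centralizers of all elements of order `p` have trivial `p`-layer, so has the normalizer of
every nontrivial `p`-subgroup. -/
theorem pLayer_normalizer_eq_bot_of_centralizers {G : Type*} [Group G] [Finite G] (p : ℕ)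
    [Fact p.Prime]
    (h : ∀ x : G, orderOf x = p → Cfsg.pLayer p ↥(Subgroup.centralizer ({x} : Set G)) = ⊥)
    (T : Subgroup G) (hT : IsPGroup p ↥T) (hT1 : T ≠ ⊥) :
    Cfsg.pLayer p ↥(Subgroup.normalizer (T : Set G)) = ⊥ := by
  by_contra hne
  -- a `p`-component `J` of `N = N_G(T)`
  obtain ⟨J, hJ⟩ : ∃ J : Subgroup ↥(Subgroup.normalizer (T : Set G)), Cfsg.IsPComponent p J := by
    by_contra hcon
    push Not at hcon
    apply hne
    unfold Cfsg.pLayer
    rw [sSup_eq_bot]
    intro K hK
    exact absurd hK (hcon K)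
  -- an element `x` of order `p` in the centre of `T`
  have hTnt : Nontrivial ↥T := (Subgroup.nontrivial_iff_ne_bot T).mpr hT1
  have hZnt : Nontrivial ↥(Subgroup.center ↥T) := hT.center_nontrivial
  have hZp : IsPGroup p ↥(Subgroup.center ↥T) := hT.to_subgroup _
  obtain ⟨k, hk0, hk⟩ := hZp.nontrivial_iff_card.mp hZnt
  have hdvd : p ∣ Nat.card ↥(Subgroup.center ↥T) := by
    rw [hk]; exact dvd_pow_self p hk0.ne'
  obtain ⟨z, hz⟩ := exists_prime_orderOf_dvd_card' p hdvd
  set x : G := ((z : ↥T) : G) with hxdef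
  have hxo : orderOf x = p := by
    rw [hxdef, Subgroup.orderOf_coe, Subgroup.orderOf_coe]; exact hz
  have hxT : x ∈ T := (z : ↥T).2
  have hTC : T ≤ Subgroup.centralizer ({x} : Set G) := by
    intro t ht
    rw [Subgroup.mem_centralizer_iff]
    intro y hy
    rw [Set.mem_singleton_iff] at hy
    rw [hy]
    have := Subgroup.mem_center_iff.mp z.2 ⟨t, ht⟩
    exact (congrArg Subtype.val this).symm
  have hC := h x hxo
  have hH := pLayer_normalizer_inf_eq_bot p hC hTC hT
  -- `J ≤ C_G(x)`
  have hT0p : IsPGroup p ↥(T.subgroupOf (Subgroup.normalizer (T : Set G))) := hT.comap_subtype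
  have hT0n : (T.subgroupOf (Subgroup.normalizer (T : Set G))).Normal := Subgroup.normal_in_normalizer
  have hcomm := pcomp_commutator_eq_bot p hJ _ hT0p
  rw [Subgroup.commutator_eq_bot_iff_le_centralizer] at hcomm
  have hJH : J.map (Subgroup.normalizer (T : Set G)).subtype ≤
      Subgroup.normalizer (T : Set G) ⊓ Subgroup.centralizer ({x} : Set G) := by
    rintro _ ⟨j, hj, rfl⟩
    refine Subgroup.mem_inf.mpr ⟨j.2, ?_⟩
    rw [Subgroup.mem_centralizer_iff]
    intro y hy
    rw [Set.mem_singleton_iff] at hy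
    rw [hy]
    have hxmem : (⟨x, Subgroup.le_normalizer hxT⟩ : ↥(Subgroup.normalizer (T : Set G))) ∈
        T.subgroupOf (Subgroup.normalizer (T : Set G)) := by
      rw [Subgroup.mem_subgroupOf]; exact hxT
    have := Subgroup.mem_centralizer_iff.mp (hcomm hj) _ hxmem
    exact congrArg Subtype.val this
  -- `J` is subnormal in `H = N ∩ C_G(x)`
  have hsn : ((J.map (Subgroup.normalizer (T : Set G)).subtype).subgroupOf
      (Subgroup.normalizer (T : Set G) ⊓ Subgroup.centralizer ({x} : Set G))).IsSubnormal := by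
    have h1 : (J.comap (Subgroup.inclusion (inf_le_left :
        Subgroup.normalizer (T : Set G) ⊓ Subgroup.centralizer ({x} : Set G) ≤
          Subgroup.normalizer (T : Set G)))).IsSubnormal := hJ.1.comap _
    have h2 : J.comap (Subgroup.inclusion (inf_le_left :
        Subgroup.normalizer (T : Set G) ⊓ Subgroup.centralizer ({x} : Set G) ≤
          Subgroup.normalizer (T : Set G))) =
        (J.map (Subgroup.normalizer (T : Set G)).subtype).subgroupOf
          (Subgroup.normalizer (T : Set G) ⊓ Subgroup.centralizer ({x} : Set G)) := by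
      ext c
      rw [Subgroup.mem_comap, Subgroup.mem_subgroupOf]
      constructor
      · intro hc
        exact ⟨_, hc, rfl⟩
      · rintro ⟨n, hn, hnc⟩
        have : n = Subgroup.inclusion inf_le_left c := Subtype.ext hnc
        rwa [← this]
    rwa [h2] at h1
  have h3 := pLayer_eq_bot_of_isSubnormal p hH _ hsn
  have h4 := pLayer_eq_bot_of_mulEquiv p (Subgroup.subgroupOfEquivOfLe hJH) h3
  have h5 := pLayer_eq_bot_of_mulEquiv p
    (J.equivMapOfInjective _ (Subgroup.subtype_injective _)).symm h4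
  exact IsPComponent.pLayer_ne_bot p hJ h5

/-- Let G be a finite group and p a prime; here a p-local subgroup means the normalizer of a nontrivial p-subgroup, other than G itself. If every p-local subgroup of G that is maximal among p-local subgroups is p-constrained, or if the centralizer of every element of order p of G is p-constrained, then every p-local subgroup of G is p-constrained. -/
theorem result {G : Type*} [Group G] [Finite G] (p : ℕ) [hp : Fact p.Prime]
    (h : (∀ M : Subgroup G, (∃ T : Subgroup G, IsPGroup p ↥T ∧ T ≠ ⊥ ∧ M = Subgroup.normalizer (T : Set G)) → M ≠ ⊤ →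
        (∀ M' : Subgroup G, (∃ T' : Subgroup G, IsPGroup p ↥T' ∧ T' ≠ ⊥ ∧ M' = Subgroup.normalizer (T' : Set G)) → M' ≠ ⊤ → M ≤ M' → M = M') →
        Cfsg.IsPConstrained p ↥M) ∨
      (∀ x : G, orderOf x = p → Cfsg.IsPConstrained p ↥(Subgroup.centralizer ({x} : Set G))))
    (T : Subgroup G) (hT : IsPGroup p ↥T) (hT1 : T ≠ ⊥) (hTG : Subgroup.normalizer (T : Set G) ≠ ⊤) :
    Cfsg.IsPConstrained p ↥(Subgroup.normalizer (T : Set G)) := by
  rw [Cfsg.Agent.Lib.Helper23_PConstrained.isPConstrained_iff_pLayer_eq_bot]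
  rcases h with h | h
  · -- a maximal `p`-local above `N_G(T)`
    have hfin : {M : Subgroup G | (∃ T' : Subgroup G, IsPGroup p ↥T' ∧ T' ≠ ⊥ ∧
        M = Subgroup.normalizer (T' : Set G)) ∧ M ≠ ⊤}.Finite := Set.toFinite _
    obtain ⟨M, hNM, hMmax⟩ := hfin.exists_le_maximal
      (a := Subgroup.normalizer (T : Set G)) ⟨⟨T, hT, hT1, rfl⟩, hTG⟩
    have hMc := h M hMmax.1.1 hMmax.1.2 (fun M' hM' hM'top hle =>
      le_antisymm hle (hMmax.2 ⟨hM', hM'top⟩ hle))
    rw [Cfsg.Agent.Lib.Helper23_PConstrained.isPConstrained_iff_pLayer_eq_bot] at hMc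
    have hTM : T ≤ M := Subgroup.le_normalizer.trans hNM
    have := Cfsg.Agent.Lib.Helper23_PCLocal.pLayer_normalizer_inf_eq_bot p hMc hTM hT
    rwa [inf_eq_left.mpr hNM] at this
  · apply pLayer_normalizer_eq_bot_of_centralizers p _ T hT hT1
    intro x hx
    rw [← Cfsg.Agent.Lib.Helper23_PConstrained.isPConstrained_iff_pLayer_eq_bot]
    exact h x hx

end Cfsg.Agent.S3247
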