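import Cfsg.Statements.S3266
import Cfsg.Agent.Lib.Helper41_PSL2Inv
import Cfsg.Agent.Lib.Helper41_PSL2Inv5

set_option autoImplicit false
open Cfsg

namespace Cfsg.Agent.S3266

open Cfsg.Agent.Lib.Helper41_PSL2Inv Cfsg.Agent.Lib.Helper41_PSL2Inv5

/-- A graph in which any two distinct non-adjacent vertices have a common neighbour, and which has
two distinct non-adjacent vertices, is connected of diameter two. -/
theorem connected_diam_two {V : Type*} (Γ : SimpleGraph V)
    (h1 : ∀ u v, u ≠ v → ¬ Γ.Adj u v → ∃ w, Γ.Adj u w ∧ Γ.Adj w v)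
    (h2 : ∃ u v, u ≠ v ∧ ¬ Γ.Adj u v) : Γ.Connected ∧ Γ.diam = 2 := by
  obtain ⟨u₀, v₀, hne, hnadj⟩ := h2
  have hle : Γ.ediam ≤ 2 := by
    apply SimpleGraph.ediam_le_of_edist_le
    intro u v
    by_cases huv : u = v
    · subst huv
      simp
    · by_cases hadj : Γ.Adj u v
      · rw [SimpleGraph.edist_eq_one_iff_adj.mpr hadj]
        norm_num
      · obtain ⟨w, hw1, hw2⟩ := h1 u v huv hadj
        have := (SimpleGraph.Walk.cons hw1 (SimpleGraph.Walk.cons hw2 SimpleGraph.Walk.nil)).edist_le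
        simpa using this
  have hge : 2 ≤ Γ.ediam := by
    obtain ⟨w, hw1, hw2⟩ := h1 u₀ v₀ hne hnadj
    have h2' : Γ.edist u₀ v₀ = 2 := by
      rw [SimpleGraph.edist_eq_two_iff]
      exact ⟨hne, hnadj, ⟨w, (SimpleGraph.mem_commonNeighbors Γ).mpr ⟨hw1, hw2.symm⟩⟩⟩
    rw [← h2']
    exact SimpleGraph.edist_le_ediam
  have heq : Γ.ediam = 2 := le_antisymm hle hge
  have : Nonempty V := ⟨u₀⟩
  constructor
  · apply SimpleGraph.connected_of_ediam_ne_top
    rw [heq]
    exact ENat.ofNat_ne_top 2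
  · rw [SimpleGraph.diam, heq]
    rfl

/-- Let F be a finite field with at least 4 elements and let X be a conjugacy class of involutions of PSL(2, F). The graph on X joining two distinct involutions whose product has odd order is connected and has diameter exactly 2. -/
theorem result {F : Type*} [Field F] [Fintype F] (hF : 4 ≤ Fintype.card F)
    (t : Matrix.ProjectiveSpecialLinearGroup (Fin 2) F) (ht : orderOf t = 2) :
    (SimpleGraph.fromRel fun x y : {x : Matrix.ProjectiveSpecialLinearGroup (Fin 2) F // IsConj t x} =>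
        Odd (orderOf (x.1 * y.1))).Connected ∧
      (SimpleGraph.fromRel fun x y : {x : Matrix.ProjectiveSpecialLinearGroup (Fin 2) F // IsConj t x} =>
        Odd (orderOf (x.1 * y.1))).diam = 2 := by
  apply connected_diam_two
  · rintro ⟨x, hx⟩ ⟨y, hy⟩ hxy hnadj
    obtain ⟨g, rfl, hg, hg1⟩ := exists_rep_of_isConj t x ht hx
    obtain ⟨h, rfl, hh, hh1⟩ := exists_rep_of_isConj t y ht hy
    rw [SimpleGraph.fromRel_adj] at hnadj
    rcases common hF g h hg hh hg1 hh1 with hodd | ⟨k, hk, hk1, hkg, hkh, hgk, hkh'⟩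
    · exact absurd ⟨hxy, Or.inl hodd⟩ hnadj
    · refine ⟨⟨proj k, isConj_of_trace_zero t ht k hk hk1⟩, ?_, ?_⟩
      · rw [SimpleGraph.fromRel_adj]
        refine ⟨?_, Or.inl hgk⟩
        intro h
        exact hkg (congrArg Subtype.val h).symm
      · rw [SimpleGraph.fromRel_adj]
        refine ⟨?_, Or.inl hkh'⟩
        intro h
        exact hkh (congrArg Subtype.val h)
  · obtain ⟨g, rfl, hg, hg1⟩ := exists_rep_of_isConj t t ht (IsConj.refl t)
    obtain ⟨h, hh, hh1, hhg, hn1, hn2⟩ := exists_nonadj hF g hg hg1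
    refine ⟨⟨proj g, IsConj.refl _⟩, ⟨proj h, isConj_of_trace_zero _ ht h hh hh1⟩, ?_, ?_⟩
    · intro h
      exact hhg (congrArg Subtype.val h).symm
    · rw [SimpleGraph.fromRel_adj]
      rintro ⟨-, h | h⟩
      · exact hn1 h
      · exact hn2 h

end Cfsg.Agent.S3266
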