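import Mathlib
import Cfsg.Statements.S3269
import Cfsg.Agent.S0215

set_option autoImplicit false
open Cfsg

namespace Cfsg.Agent.S3269


open QuaternionGroup in
theorem quat_sq {m : ℕ} [NeZero m] (q : QuaternionGroup m) (h : q * q = 1) :
    q = 1 ∨ q = a ((m : ℕ) : ZMod (2 * m)) := by
  rcases q with i | i
  · rw [a_mul_a, one_def, a.injEq] at h
    have hv := ZMod.val_lt i
    have h2 : ((i.val + i.val : ℕ) : ZMod (2*m)) = 0 := by
      push_cast; rw [ZMod.natCast_zmod_val]; exact h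
    rw [ZMod.natCast_eq_zero_iff] at h2
    obtain ⟨c, hc⟩ := h2
    have : i.val = 0 ∨ i.val = m := by
      have hc1 : c < 2 := by nlinarith
      interval_cases c <;> omega
    rcases this with h0 | h0
    · left; rw [one_def]; congr; exact (ZMod.val_eq_zero i).mp h0
    · right; congr; rw [← ZMod.natCast_zmod_val i, h0]
  · exfalso
    rw [xa_mul_xa, one_def, a.injEq] at h
    have h2 : ((m : ℕ) : ZMod (2*m)) = 0 := by
      rw [← h]; ring
    rw [ZMod.natCast_eq_zero_iff] at h2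
    have hm : 0 < m := Nat.pos_of_ne_zero (NeZero.ne m)
    have := Nat.le_of_dvd hm h2
    omega

open QuaternionGroup in
theorem quat_central {m : ℕ} (q : QuaternionGroup m) :
    a ((m : ℕ) : ZMod (2 * m)) * q = q * a ((m : ℕ) : ZMod (2 * m)) := by
  have h2 : ((m : ℕ) : ZMod (2*m)) + (m : ℕ) = 0 := by
    have : ((2 * m : ℕ) : ZMod (2*m)) = 0 := ZMod.natCast_self _
    rw [← this]; push_cast; ring
  rcases q with i | i
  · rw [a_mul_a, a_mul_a, add_comm]
  · rw [a_mul_xa, xa_mul_a]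
    congr 1
    have : -((m : ℕ) : ZMod (2*m)) = (m : ℕ) := by
      rw [neg_eq_iff_add_eq_zero]; exact h2
    rw [sub_eq_add_neg, this]

open QuaternionGroup in
theorem quat_ne_one {m : ℕ} [NeZero m] : a ((m : ℕ) : ZMod (2 * m)) ≠ 1 := by
  rw [one_def]
  intro h
  rw [a.injEq, ZMod.natCast_eq_zero_iff] at h
  have hm : 0 < m := Nat.pos_of_ne_zero (NeZero.ne m)
  have := Nat.le_of_dvd hm h
  omega

open QuaternionGroup in
theorem quat_comm {m k : ℕ} (hk : m = 2 * k) :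
    ∃ u v : QuaternionGroup m, u * v = a ((m : ℕ) : ZMod (2 * m)) * (v * u) := by
  refine ⟨a ((k : ℕ) : ZMod (2 * m)), xa 0, ?_⟩
  rw [a_mul_xa, xa_mul_a, a_mul_xa]
  congr 1
  have : ((m : ℕ) : ZMod (2*m)) = 2 * (k : ℕ) := by
    rw [hk]; push_cast; ring
  rw [this]; ring

theorem decomp {G : Type*} [Group G] (Q R S : Subgroup G)
    (hcomm : ∀ a ∈ Q, ∀ b ∈ R, a * b = b * a) (hsup : Q ⊔ R = S) :
    ∀ s ∈ S, ∃ q ∈ Q, ∃ r ∈ R, s = q * r := by
  let P : Subgroup G :=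
    { carrier := {s | ∃ q ∈ Q, ∃ r ∈ R, s = q * r}
      one_mem' := ⟨1, Q.one_mem, 1, R.one_mem, by simp⟩
      mul_mem' := by
        rintro _ _ ⟨q, hq, r, hr, rfl⟩ ⟨q', hq', r', hr', rfl⟩
        refine ⟨q * q', Q.mul_mem hq hq', r * r', R.mul_mem hr hr', ?_⟩
        have := hcomm q' hq' r hr
        calc q * r * (q' * r') = q * (r * q') * r' := by group
          _ = q * (q' * r) * r' := by rw [this]
          _ = q * q' * (r * r') := by group
      inv_mem' := by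
        rintro _ ⟨q, hq, r, hr, rfl⟩
        refine ⟨q⁻¹, Q.inv_mem hq, r⁻¹, R.inv_mem hr, ?_⟩
        have := hcomm q⁻¹ (Q.inv_mem hq) r⁻¹ (R.inv_mem hr)
        rw [mul_inv_rev]; exact this.symm }
  have hle : S ≤ P := by
    rw [← hsup]
    refine sup_le ?_ ?_
    · intro q hq; exact ⟨q, hq, 1, R.one_mem, by simp⟩
    · intro r hr; exact ⟨1, Q.one_mem, r, hr, by simp⟩
  intro s hs
  exact hle hs

/-- `Q` is normal in `S = QR`. -/
theorem comm_mem_left {G : Type*} [Group G] (Q R S : Subgroup G)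
    (hcomm : ∀ a ∈ Q, ∀ b ∈ R, a * b = b * a)
    (hdec : ∀ s ∈ S, ∃ q ∈ Q, ∃ r ∈ R, s = q * r) :
    ∀ x ∈ Q, ∀ s ∈ S, x * s * x⁻¹ * s⁻¹ ∈ Q := by
  intro x hx s hs
  obtain ⟨q, hq, r, hr, rfl⟩ := hdec s hs
  have h1 := hcomm x⁻¹ (Q.inv_mem hx) r hr
  have : x * (q * r) * x⁻¹ * (q * r)⁻¹ = x * q * x⁻¹ * q⁻¹ := by
    calc x * (q * r) * x⁻¹ * (q * r)⁻¹ = x * q * (r * x⁻¹) * r⁻¹ * q⁻¹ := by group
      _ = x * q * (x⁻¹ * r) * r⁻¹ * q⁻¹ := by rw [h1]
      _ = x * q * x⁻¹ * q⁻¹ := by group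
  rw [this]
  exact Q.mul_mem (Q.mul_mem (Q.mul_mem hx hq) (Q.inv_mem hx)) (Q.inv_mem hq)

theorem comm_mem_right {G : Type*} [Group G] (Q R S : Subgroup G)
    (hcomm : ∀ a ∈ Q, ∀ b ∈ R, a * b = b * a)
    (hdec : ∀ s ∈ S, ∃ q ∈ Q, ∃ r ∈ R, s = q * r) :
    ∀ s ∈ S, ∀ y ∈ R, s * y * s⁻¹ * y⁻¹ ∈ R := by
  intro s hs y hy
  obtain ⟨q, hq, r, hr, rfl⟩ := hdec s hs
  have h1 := hcomm q hq (r * y * r⁻¹) (R.mul_mem (R.mul_mem hr hy) (R.inv_mem hr))
  have : (q * r) * y * (q * r)⁻¹ * y⁻¹ = r * y * r⁻¹ * y⁻¹ := by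
    calc (q * r) * y * (q * r)⁻¹ * y⁻¹ = (q * (r * y * r⁻¹)) * q⁻¹ * y⁻¹ := by group
      _ = ((r * y * r⁻¹) * q) * q⁻¹ * y⁻¹ := by rw [h1]
      _ = r * y * r⁻¹ * y⁻¹ := by group
  rw [this]
  exact R.mul_mem (R.mul_mem (R.mul_mem hr hy) (R.inv_mem hr)) (R.inv_mem hy)

theorem exists_invol_pow {G : Type*} [Group G] :
    ∀ (k : ℕ) (c : G), c ≠ 1 → c ^ (2 ^ k) = 1 → ∃ m : ℕ, c ^ m ≠ 1 ∧ c ^ m * c ^ m = 1 := by
  intro k
  induction k with
  | zero => intro c hc h; simp at h; exact absurd h hc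
  | succ k ih =>
    intro c hc h
    by_cases h1 : c ^ (2 ^ k) = 1
    · exact ih c hc h1
    · refine ⟨2 ^ k, h1, ?_⟩
      rw [← pow_add, ← two_mul, ← pow_succ']
      exact h

theorem key {G : Type*} [Group G] (Q R S : Subgroup G)
    (hS2 : ∀ s ∈ S, ∃ k : ℕ, s ^ (2 ^ k) = 1)
    (hQS : Q ≤ S) (hRS : R ≤ S)
    (hcomm : ∀ a ∈ Q, ∀ b ∈ R, a * b = b * a)
    (hdec : ∀ s ∈ S, ∃ q ∈ Q, ∃ r ∈ R, s = q * r)
    (z : G) (hz1 : z ≠ 1) (hzz : z * z = 1)
    (hQinv : ∀ q ∈ Q, q * q = 1 → q = 1 ∨ q = z)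
    (u v : G) (hu : u ∈ Q) (hv : v ∈ Q) (huv : u * v = z * (v * u))
    (h : G) (hh : h ∈ Subgroup.normalizer (S : Set G)) :
    h * z * h⁻¹ = z ∨ h * z * h⁻¹ ∈ R := by
  by_cases ha : h * z * h⁻¹ ∈ R
  · exact Or.inr ha
  left
  have hconjS : ∀ s ∈ S, h * s * h⁻¹ ∈ S := fun s hs =>
    (Subgroup.mem_normalizer_iff.mp hh s).mp hs
  have hconjS' : ∀ s ∈ S, h⁻¹ * s * h ∈ S := fun s hs => by
    have := (Subgroup.mem_normalizer_iff.mp (Subgroup.inv_mem _ hh) s).mp hs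
    simpa using this
  -- Step 1: R centralizes h Q h⁻¹
  have step1 : ∀ x ∈ Q, ∀ r ∈ R, (h * x * h⁻¹) * r = r * (h * x * h⁻¹) := by
    intro x hx r hr
    set c := (h * x * h⁻¹) * r * (h * x * h⁻¹)⁻¹ * r⁻¹ with hc
    have hcR : c ∈ R := comm_mem_right Q R S hcomm hdec _ (hconjS x (hQS hx)) r hr
    have hcQ : h⁻¹ * c * h ∈ Q := by
      have := comm_mem_left Q R S hcomm hdec x hx (h⁻¹ * r * h) (hconjS' r (hRS hr))
      have e : h⁻¹ * c * h = x * (h⁻¹ * r * h) * x⁻¹ * (h⁻¹ * r * h)⁻¹ := by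
        rw [hc]; group
      rw [e]; exact this
    by_contra hne
    have hc1 : c ≠ 1 := by
      intro h1
      apply hne
      have : (h * x * h⁻¹) * r * (h * x * h⁻¹)⁻¹ * r⁻¹ = 1 := h1
      calc (h * x * h⁻¹) * r
          = ((h * x * h⁻¹) * r * (h * x * h⁻¹)⁻¹ * r⁻¹) * (r * (h * x * h⁻¹)) := by group
        _ = r * (h * x * h⁻¹) := by rw [this, one_mul]
    obtain ⟨k, hk⟩ := hS2 c (hRS hcR)
    obtain ⟨m, hm1, hm2⟩ := exists_invol_pow k c hc1 hk
    have hyR : c ^ m ∈ R := R.pow_mem hcR m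
    have hyQ : h⁻¹ * c ^ m * h ∈ Q := by
      have : h⁻¹ * c ^ m * h = (h⁻¹ * c * h) ^ m := by
        have := map_pow (MulAut.conj h⁻¹) c m
        simpa [MulAut.conj_apply] using this
      rw [this]; exact Q.pow_mem hcQ m
    have hy2 : (h⁻¹ * c ^ m * h) * (h⁻¹ * c ^ m * h) = 1 := by
      calc (h⁻¹ * c ^ m * h) * (h⁻¹ * c ^ m * h) = h⁻¹ * (c ^ m * c ^ m) * h := by group
        _ = 1 := by rw [hm2]; group
    rcases hQinv _ hyQ hy2 with h0 | h0
    · apply hm1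
      calc c ^ m = h * (h⁻¹ * c ^ m * h) * h⁻¹ := by group
        _ = 1 := by rw [h0]; group
    · apply ha
      have : h * z * h⁻¹ = c ^ m := by rw [← h0]; group
      rw [this]; exact hyR
  -- Step 2
  obtain ⟨q₁, hq₁, r₁, hr₁, e₁⟩ := hdec _ (hconjS u (hQS hu))
  obtain ⟨q₂, hq₂, r₂, hr₂, e₂⟩ := hdec _ (hconjS v (hQS hv))
  have c1 : Commute r₁ q₂ := (hcomm q₂ hq₂ r₁ hr₁).symm
  have c2 : Commute r₂ q₁ := (hcomm q₁ hq₁ r₂ hr₂).symm
  have c3 : Commute r₁ r₂ := by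
    have h1 := step1 u hu r₂ hr₂
    rw [e₁] at h1
    -- q₁ * r₁ * r₂ = r₂ * (q₁ * r₁)
    have h2 : q₁ * (r₁ * r₂) = q₁ * (r₂ * r₁) := by
      calc q₁ * (r₁ * r₂) = q₁ * r₁ * r₂ := by group
        _ = r₂ * (q₁ * r₁) := h1
        _ = (r₂ * q₁) * r₁ := by group
        _ = (q₁ * r₂) * r₁ := by rw [c2.eq]
        _ = q₁ * (r₂ * r₁) := by group
    exact mul_left_cancel h2
  have hconj : (h * u * h⁻¹) * (h * v * h⁻¹) = (h * z * h⁻¹) * ((h * v * h⁻¹) * (h * u * h⁻¹)) := by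
    calc (h * u * h⁻¹) * (h * v * h⁻¹) = h * (u * v) * h⁻¹ := by group
      _ = h * (z * (v * u)) * h⁻¹ := by rw [huv]
      _ = _ := by group
  rw [e₁, e₂] at hconj
  have huv' : q₁ * r₁ * (q₂ * r₂) = q₁ * q₂ * (r₁ * r₂) := c1.mul_mul_mul_comm q₁ r₂
  have hvu' : q₂ * r₂ * (q₁ * r₁) = q₂ * q₁ * (r₁ * r₂) := by
    rw [c2.mul_mul_mul_comm q₂ r₁, c3.eq]
  rw [huv', hvu'] at hconj
  have haQ : h * z * h⁻¹ = q₁ * q₂ * (q₂ * q₁)⁻¹ := by
    calc h * z * h⁻¹ = (h * z * h⁻¹ * (q₂ * q₁ * (r₁ * r₂))) * (q₂ * q₁ * (r₁ * r₂))⁻¹ := by group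
      _ = (q₁ * q₂ * (r₁ * r₂)) * (q₂ * q₁ * (r₁ * r₂))⁻¹ := by rw [← hconj]
      _ = _ := by group
  have haQ' : h * z * h⁻¹ ∈ Q := by
    rw [haQ]; exact Q.mul_mem (Q.mul_mem hq₁ hq₂) (Q.inv_mem (Q.mul_mem hq₂ hq₁))
  have haa : (h * z * h⁻¹) * (h * z * h⁻¹) = 1 := by
    calc (h * z * h⁻¹) * (h * z * h⁻¹) = h * (z * z) * h⁻¹ := by group
      _ = 1 := by rw [hzz]; group
  rcases hQinv _ haQ' haa with h0 | h0
  · exfalso; apply hz1
    calc z = h⁻¹ * (h * z * h⁻¹) * h := by group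
      _ = 1 := by rw [h0]; group
  · exact h0

theorem multiset_noncommProd_congr {G : Type*} [Monoid G] (s t : Multiset G) (hs) (ht) (e : s = t) :
    s.noncommProd hs = t.noncommProd ht := by
  subst e; rfl

theorem result {G : Type*} [Group G] [Finite G]
    (S : Sylow 2 G) (Q R : Subgroup G) (hQR : Cfsg.IsInternalDirectProduct Q R (S : Subgroup G))
    (n : ℕ) (hn : 1 ≤ n) (eQ : ↥Q ≃* QuaternionGroup (2 ^ n))
    (hR : ∀ r ∈ R, orderOf r = 2 → ∀ s ∈ R, r * s = s * r) :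
    ¬ IsSimpleGroup G := by
  intro hsimple
  classical
  have : Fintype G := Fintype.ofFinite G
  obtain ⟨hQS, hRS, hcomm, hinf, hsup⟩ := hQR
  have hdec := decomp Q R S hcomm hsup
  have : NeZero (2 ^ n) := ⟨by positivity⟩
  -- the central involution of Q
  set zq : Q := eQ.symm (QuaternionGroup.a (((2 ^ n : ℕ)) : ZMod (2 * 2 ^ n))) with hzq
  have hzq1 : zq ≠ 1 := by
    intro h
    have : eQ zq = 1 := by rw [h, map_one]
    rw [hzq, MulEquiv.apply_symm_apply] at this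
    exact quat_ne_one this
  have hzqz : zq * zq = 1 := by
    apply eQ.injective
    rw [map_mul, map_one, hzq, MulEquiv.apply_symm_apply]
    have := @QuaternionGroup.a_mul_a (2 ^ n) (((2 ^ n : ℕ)) : ZMod (2 * 2 ^ n)) (((2 ^ n : ℕ)) : ZMod (2 * 2 ^ n))
    rw [this, QuaternionGroup.one_def]
    congr 1
    have h2 : ((2 * 2 ^ n : ℕ) : ZMod (2 * 2 ^ n)) = 0 := ZMod.natCast_self _
    rw [← h2]; push_cast; ring
  have hzqinv : ∀ q : Q, q * q = 1 → q = 1 ∨ q = zq := by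
    intro q hq
    have : eQ q * eQ q = 1 := by rw [← map_mul, hq, map_one]
    rcases quat_sq _ this with h | h
    · left; apply eQ.injective; rw [h, map_one]
    · right; apply eQ.injective; rw [h, hzq, MulEquiv.apply_symm_apply]
  have hzqc : ∀ q : Q, zq * q = q * zq := by
    intro q
    apply eQ.injective
    rw [map_mul, map_mul, hzq, MulEquiv.apply_symm_apply]
    exact quat_central _
  obtain ⟨uq, vq, huvq⟩ : ∃ uq vq : Q, uq * vq = zq * (vq * uq) := by
    obtain ⟨k, rfl⟩ : ∃ k, n = k + 1 := ⟨n - 1, by omega⟩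
    obtain ⟨u, v, huv⟩ := quat_comm (m := 2 ^ (k + 1)) (k := 2 ^ k) (by ring)
    refine ⟨eQ.symm u, eQ.symm v, ?_⟩
    apply eQ.injective
    simp only [map_mul, MulEquiv.apply_symm_apply, hzq]
    exact huv
  set z : G := (zq : G) with hz
  have hzQ : z ∈ Q := zq.2
  have hzS : z ∈ (S : Subgroup G) := hQS hzQ
  have hz1 : z ≠ 1 := by
    intro h; apply hzq1; exact Subtype.ext h
  have hzz : z * z = 1 := by
    have := congrArg (Subtype.val) hzqz
    simpa using this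
  have hQinv : ∀ q ∈ Q, q * q = 1 → q = 1 ∨ q = z := by
    intro q hq hqq
    rcases hzqinv ⟨q, hq⟩ (Subtype.ext hqq) with h | h
    · left; exact congrArg Subtype.val h
    · right; exact congrArg Subtype.val h
  have hzc : ∀ q ∈ Q, z * q = q * z := by
    intro q hq
    exact congrArg Subtype.val (hzqc ⟨q, hq⟩)
  set u : G := (uq : G) with hu
  set v : G := (vq : G) with hv
  have huQ : u ∈ Q := uq.2
  have hvQ : v ∈ Q := vq.2
  have huv : u * v = z * (v * u) := congrArg Subtype.val huvq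
  -- S is a 2-group
  have hS2 : ∀ s ∈ (S : Subgroup G), ∃ k : ℕ, s ^ (2 ^ k) = 1 := by
    intro s hs
    obtain ⟨k, hk⟩ := S.isPGroup' ⟨s, hs⟩
    exact ⟨k, by simpa using congrArg Subtype.val hk⟩
  -- involutions of S are central in S
  have hcent : ∀ s ∈ (S : Subgroup G), s * s = 1 → ∀ t ∈ (S : Subgroup G), s * t = t * s := by
    intro s hs hss t ht
    obtain ⟨q, hq, r, hr, rfl⟩ := hdec s hs
    obtain ⟨q', hq', r', hr', rfl⟩ := hdec t ht
    have hqr : Commute q r := hcomm q hq r hr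
    have e : (q * q) * (r * r) = 1 := by
      rw [← hss]; exact hqr.mul_mul_mul_comm q r
    have hqq_mem : q * q ∈ Q ⊓ R := by
      refine ⟨Q.mul_mem hq hq, ?_⟩
      have : q * q = (r * r)⁻¹ := eq_inv_of_mul_eq_one_left e
      rw [this]; exact R.inv_mem (R.mul_mem hr hr)
    rw [hinf, Subgroup.mem_bot] at hqq_mem
    have hrr : r * r = 1 := by rw [hqq_mem, one_mul] at e; exact e
    have cq : ∀ x ∈ Q, Commute q x := by
      intro x hx
      rcases hQinv q hq hqq_mem with h | h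
      · rw [h]; exact Commute.one_left x
      · rw [h]; exact hzc x hx
    have cr : ∀ y ∈ R, Commute r y := by
      intro y hy
      by_cases h1 : r = 1
      · rw [h1]; exact Commute.one_left y
      · have : orderOf r = 2 := orderOf_eq_prime (by rw [pow_two]; exact hrr) h1
        exact hR r hr this y hy
    have c1 : Commute q q' := cq q' hq'
    have c2 : Commute q r' := hcomm q hq r' hr'
    have c3 : Commute r q' := (hcomm q' hq' r hr).symm
    have c4 : Commute r r' := cr r' hr'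
    exact ((c1.mul_right c2).mul_left (c3.mul_right c4)).eq
  -- the subgroup of elements of S squaring to 1
  let Om : Subgroup G :=
    { carrier := {s | s ∈ (S : Subgroup G) ∧ s * s = 1}
      one_mem' := ⟨Subgroup.one_mem _, by simp⟩
      mul_mem' := by
        rintro a b ⟨ha, haa⟩ ⟨hb, hbb⟩
        refine ⟨Subgroup.mul_mem _ ha hb, ?_⟩
        have hc : Commute a b := hcent a ha haa b hb
        rw [← hc.mul_mul_mul_comm a b, haa, hbb, one_mul]
      inv_mem' := by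
        rintro a ⟨ha, haa⟩
        refine ⟨Subgroup.inv_mem _ ha, ?_⟩
        rw [← mul_inv_rev, haa, inv_one] }
  have hOm : ∀ s, s ∈ Om ↔ s ∈ (S : Subgroup G) ∧ s * s = 1 := fun s => Iff.rfl
  set N := Subgroup.normalizer ((S : Subgroup G) : Set G) with hN
  let O : Finset G := Finset.univ.filter (fun a => ∃ h ∈ N, a = h * z * h⁻¹)
  have hOmem : ∀ a, a ∈ O ↔ ∃ h ∈ N, a = h * z * h⁻¹ := by
    intro a; simp [O]
  have hzO : z ∈ O := (hOmem z).2 ⟨1, N.one_mem, by simp⟩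
  have hOS : ∀ a ∈ O, a ∈ Om := by
    intro a ha
    obtain ⟨h, hh, rfl⟩ := (hOmem a).1 ha
    refine ⟨(Subgroup.mem_normalizer_iff.mp hh z).mp hzS, ?_⟩
    calc (h * z * h⁻¹) * (h * z * h⁻¹) = h * (z * z) * h⁻¹ := by group
      _ = 1 := by rw [hzz]; group
  have hOR : ∀ a ∈ O, a ≠ z → a ∈ R := by
    intro a ha hne
    obtain ⟨h, hh, rfl⟩ := (hOmem a).1 ha
    rcases key Q R S hS2 hQS hRS hcomm hdec z hz1 hzz hQinv u v huQ hvQ huv h hh with h0 | h0
    · exact absurd h0 hne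
    · exact h0
  have comm : (O : Set G).Pairwise (Function.onFun Commute id) := by
    intro a ha b hb _
    have ha' := hOS a ha
    have hb' := hOS b hb
    exact hcent a ha'.1 ha'.2 b hb'.1
  set p := O.noncommProd id comm with hp
  have hpOm : p ∈ Om := Subgroup.noncommProd_mem Om comm (fun a ha => hOS a ha)
  have hp_eq := Finset.noncommProd_erase_mul O hzO id comm
  have hw : (O.erase z).noncommProd id (fun a ha b hb hab =>
      comm (Finset.mem_of_mem_erase ha) (Finset.mem_of_mem_erase hb) hab) ∈ R :=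
    Subgroup.noncommProd_mem R _
      (fun a ha => hOR a (Finset.mem_of_mem_erase ha) (Finset.ne_of_mem_erase ha))
  have hp1 : p ≠ 1 := by
    intro h1
    rw [← hp, h1] at hp_eq
    have hzR : z ∈ R := by
      have : z = ((O.erase z).noncommProd id (fun a ha b hb hab =>
        comm (Finset.mem_of_mem_erase ha) (Finset.mem_of_mem_erase hb) hab))⁻¹ :=
        eq_inv_of_mul_eq_one_right hp_eq
      rw [this]; exact R.inv_mem hw
    have : z ∈ Q ⊓ R := ⟨hzQ, hzR⟩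
    rw [hinf, Subgroup.mem_bot] at this
    exact hz1 this
  have hpS : p ∈ (S : Subgroup G) := hpOm.1
  have hpp : p * p = 1 := hpOm.2
  have hp2 : orderOf p = 2 := orderOf_eq_prime (by rw [pow_two]; exact hpp) hp1
  -- p is fixed by N
  have hpfix : ∀ h ∈ N, h * p * h⁻¹ = p := by
    intro h hh
    have h1 := Finset.map_noncommProd O id comm (MulAut.conj h)
    have h2 : (MulAut.conj h) p = h * p * h⁻¹ := MulAut.conj_apply h p
    rw [← h2, hp, h1]
    unfold Finset.noncommProd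
    apply multiset_noncommProd_congr
    have himg : O.image (fun i => (MulAut.conj h) (id i)) = O := by
      ext a
      rw [Finset.mem_image]
      constructor
      · rintro ⟨b, hb, rfl⟩
        obtain ⟨g, hg, rfl⟩ := (hOmem b).1 hb
        refine (hOmem _).2 ⟨h * g, N.mul_mem hh hg, ?_⟩
        simp only [id, MulAut.conj_apply]; group
      · intro ha
        obtain ⟨g, hg, rfl⟩ := (hOmem a).1 ha
        refine ⟨h⁻¹ * g * z * (h⁻¹ * g)⁻¹, (hOmem _).2 ⟨h⁻¹ * g, N.mul_mem (N.inv_mem hh) hg, rfl⟩, ?_⟩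
        simp only [id, MulAut.conj_apply]; group
    have hinj : Set.InjOn (fun i => (MulAut.conj h) (id i)) (O : Set G) := by
      intro a _ b _ hab
      exact (MulAut.conj h).injective hab
    rw [← Finset.image_val_of_injOn hinj, himg, Multiset.map_id]
  -- p is isolated
  have hiso : ∀ g : G, g * p * g⁻¹ ∈ (S : Subgroup G) → g * p * g⁻¹ = p := by
    intro g hg
    have hb2 : (g * p * g⁻¹) * (g * p * g⁻¹) = 1 := by
      calc (g * p * g⁻¹) * (g * p * g⁻¹) = g * (p * p) * g⁻¹ := by group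
        _ = 1 := by rw [hpp]; group
    have hx : p ∈ Subgroup.centralizer ((S : Subgroup G) : Set G) := by
      rw [Subgroup.mem_centralizer_iff]
      intro t ht
      exact (hcent p hpS hpp t ht).symm
    have hy : (g⁻¹)⁻¹ * p * g⁻¹ ∈ Subgroup.centralizer ((S : Subgroup G) : Set G) := by
      rw [inv_inv, Subgroup.mem_centralizer_iff]
      intro t ht
      exact (hcent _ hg hb2 t ht).symm
    obtain ⟨m, hm, hme⟩ := Sylow.conj_eq_normalizer_conj_of_mem_centralizer S p g⁻¹ hx hy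
    rw [inv_inv] at hme
    rw [hme]
    have := hpfix m⁻¹ (N.inv_mem hm)
    rw [inv_inv] at this
    exact this
  obtain ⟨K, hKn, hKodd, hK⟩ := Cfsg.Agent.S0215.result S p hp2 hpS hiso
  rcases hsimple.eq_bot_or_eq_top_of_normal K hKn with hK0 | hK0
  · -- p central
    have hpc : p ∈ Subgroup.center G := by
      rw [Subgroup.mem_center_iff]
      intro g
      have := hK g
      rw [hK0, Subgroup.mem_bot] at this
      -- p g p⁻¹ g⁻¹ = 1
      calc g * p = (p * g * p⁻¹ * g⁻¹)⁻¹ * (p * g) := by group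
        _ = p * g := by rw [this, inv_one, one_mul]
    rcases hsimple.eq_bot_or_eq_top_of_normal (Subgroup.center G) inferInstance with hc | hc
    · rw [hc, Subgroup.mem_bot] at hpc; exact hp1 hpc
    · have huc : u ∈ Subgroup.center G := by rw [hc]; exact Subgroup.mem_top u
      rw [Subgroup.mem_center_iff] at huc
      have h1 := huc v  -- v * u = u * v
      rw [← h1] at huv
      -- v * u = z * (v * u)
      apply hz1
      have : z * (v * u) = 1 * (v * u) := by rw [one_mul]; exact huv.symm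
      exact mul_right_cancel this
  · -- K = ⊤ odd order, but z has order 2
    rw [hK0, Subgroup.card_top] at hKodd
    have hz2 : orderOf z = 2 := orderOf_eq_prime (by rw [pow_two]; exact hzz) hz1
    have : 2 ∣ Nat.card G := hz2 ▸ orderOf_dvd_natCard z
    exact (Nat.not_even_iff_odd.mpr hKodd) (even_iff_two_dvd.mpr this)

end Cfsg.Agent.S3269
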