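import Cfsg.Statements.S3299
import Cfsg.Prelude.Def_CaseTheorems
import Cfsg.Agent.Lib.Helper54_LargeES
import Cfsg.Agent.Lib.Helper55_TransferGen

set_option autoImplicit false
open Cfsg

namespace Cfsg.Agent.S3299

open Cfsg.Agent.Lib.Helper89_ESClass Cfsg.Agent.Lib.Helper54_LargeES
  Cfsg.Agent.Lib.Helper55_TransferGen

/-- a group generated by its elements of odd order has no nontrivial sign character -/
theorem hom_eq_one_of_pResidual {G : Type*} [Group G] [Finite G]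
    (hres : Cfsg.pResidual 2 G = ⊤) (f : G →* ℤˣ) (g : G) : f g = 1 := by
  have h1 : Cfsg.pResidual 2 G ≤ f.ker := by
    unfold Cfsg.pResidual
    rw [Subgroup.closure_le]
    intro x hx
    rw [SetLike.mem_coe, MonoidHom.mem_ker]
    rcases Int.units_eq_one_or (f x) with h | h
    · exact h
    · exfalso
      have hodd : Odd (orderOf x) := Nat.Coprime.odd_of_right hx
      have h2 : f x ^ orderOf x = 1 := by rw [← map_pow, pow_orderOf_eq_one, map_one]
      rw [h, hodd.neg_one_pow] at h2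
      exact absurd h2 (by decide)
  have : g ∈ f.ker := h1 (by rw [hres]; trivial)
  exact MonoidHom.mem_ker.1 this

/-- Let G be a finite group with no nontrivial 2-group quotient (O^2(G) = G), z an involution of G with H = C_G(z), and suppose E = O_2(H) is extraspecial with C_G(E) ≤ E and of order 2^(2n+1) with n ≥ 2. Then E is contained in every normal subgroup of H of index 2. -/
theorem result {G : Type*} [Group G] [Finite G] (hres : Cfsg.pResidual 2 G = ⊤) (z : G) (hz : orderOf z = 2)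
    (E : Subgroup G) (hE : E = (Cfsg.pCore 2 ↥(Subgroup.centralizer ({z} : Set G))).map (Subgroup.centralizer ({z} : Set G)).subtype)
    (hext : Cfsg.IsExtraspecial 2 ↥E) (hcent : Subgroup.centralizer (E : Set G) ≤ E) (n : ℕ) (hn : 2 ≤ n) (hcard : Nat.card ↥E = 2 ^ (2 * n + 1))
    (K : Subgroup G) (hKH : K ≤ Subgroup.centralizer ({z} : Set G))
    (hKn : ∀ h ∈ Subgroup.centralizer ({z} : Set G), K.map (MulAut.conj h).toMonoidHom = K)
    (hKi : K.relIndex (Subgroup.centralizer ({z} : Set G)) = 2) : E ≤ K := by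
  classical
  by_contra hEK
  have hzmem : ∀ x : G, x ∈ Subgroup.centralizer ({z} : Set G) ↔ x * z = z * x :=
    fun x => Subgroup.mem_centralizer_singleton_iff
  have hEH : E ≤ Subgroup.centralizer ({z} : Set G) := by
    rw [hE]; exact Subgroup.map_subtype_le _
  -- `C(z)` normalizes `E`
  have hconj : ∀ h ∈ Subgroup.centralizer ({z} : Set G), ∀ e ∈ E, h * e * h⁻¹ ∈ E := by
    intro h hh e he
    rw [hE] at he ⊢
    obtain ⟨e', he', rfl⟩ := Subgroup.mem_map.1 he
    exact Subgroup.mem_map.2 ⟨⟨h, hh⟩ * e' * ⟨h, hh⟩⁻¹,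
      (Cfsg.pCore_normal 2 _).conj_mem e' he' _, rfl⟩
  have hEn : ∀ h ∈ Subgroup.centralizer ({z} : Set G), h ∈ Subgroup.normalizer (E : Set G) := by
    intro h hh
    rw [Subgroup.mem_normalizer_iff]
    intro e
    constructor
    · exact hconj h hh e
    · intro he
      have := hconj h⁻¹ (Subgroup.inv_mem _ hh) _ he
      have h2 : h⁻¹ * (h * e * h⁻¹) * h⁻¹⁻¹ = e := by group
      rwa [h2] at this
  have hz1 : z ≠ 1 := by
    intro h
    rw [h, orderOf_one] at hz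
    exact absurd hz (by norm_num)
  have hzz : z * z = 1 := by
    rw [← pow_two, ← hz, pow_orderOf_eq_one]
  have hzH : z ∈ Subgroup.centralizer ({z} : Set G) := (hzmem z).2 rfl
  have hzE : z ∈ E :=
    hcent (Subgroup.mem_centralizer_iff.2 (fun e he => ((hzmem e).1 (hEH he))))
  have hES : IsES2 ↥E ⟨z, hzE⟩ :=
    isES2_of_central hext ⟨z, hzE⟩
      (fun g => Subtype.ext ((hzmem g).1 (hEH g.2)).symm)
      (fun h => hz1 (congrArg Subtype.val h))
  have hcard8 : 8 < Nat.card ↥E := by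
    rw [hcard]
    calc 8 < 2 ^ 5 := by norm_num
      _ ≤ 2 ^ (2 * n + 1) := Nat.pow_le_pow_right (by norm_num) (by omega)
  -- the sign character of `K`
  set ψ := signOfIndexTwo (Subgroup.centralizer ({z} : Set G)) K hKi with hψdef
  have hψ1 : ∀ s : ↥(Subgroup.centralizer ({z} : Set G)), ψ s = 1 → (s : G) ∈ K := by
    intro s hs
    by_contra hne
    rw [hψdef, signOfIndexTwo_apply, if_neg hne] at hs
    exact absurd hs (by decide)
  have hψ2 : ∀ s : ↥(Subgroup.centralizer ({z} : Set G)), ψ s = -1 → (s : G) ∉ K := by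
    intro s hs hmem
    rw [hψdef, signOfIndexTwo_apply, if_pos hmem] at hs
    exact absurd hs (by decide)
  have hψ3 : ∀ s : ↥(Subgroup.centralizer ({z} : Set G)), (s : G) ∉ K → ψ s = -1 := by
    intro s hs
    rw [hψdef, signOfIndexTwo_apply, if_neg hs]
  have hψcomm : ∀ p q : ↥(Subgroup.centralizer ({z} : Set G)), ψ (p * q * p⁻¹ * q⁻¹) = 1 := by
    intro p q
    rw [map_mul, map_mul, map_mul, map_inv, map_inv, mul_comm (ψ p) (ψ q), mul_inv_cancel_right,
      mul_inv_cancel]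
  -- its restriction to `E`
  let χ : ↥E →* ℤˣ := ψ.comp (Subgroup.inclusion hEH)
  have hχ : ∃ x, χ x = -1 := by
    obtain ⟨e, he, heK⟩ := SetLike.not_le_iff_exists.1 hEK
    exact ⟨⟨e, he⟩, hψ3 ⟨e, hEH he⟩ heK⟩
  obtain ⟨u, hu2, hχu⟩ := exists_invol_neg hES hcard8 χ hχ
  have huH : (u : G) ∈ Subgroup.centralizer ({z} : Set G) := hEH u.2
  have hψu : ψ ⟨(u : G), huH⟩ = -1 := hχu
  have huK : (u : G) ∉ K := hψ2 _ hψu
  have hu2' : (u : G) * u = 1 := congrArg Subtype.val hu2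
  obtain ⟨a, b, hau, hbu, hab⟩ := exists_comm_pair hES hcard8 u
  have hab' : (a : G) * b = z * (b * a) := congrArg Subtype.val hab
  have hzab : z = (a : G) * b * (a : G)⁻¹ * (b : G)⁻¹ := by
    rw [hab']; group
  -- conjugates of `z` that are commutators in `C(z)` lie in `K`
  have hzK : ∀ g₀ : G, g₀⁻¹ * (a : G) * g₀ ∈ Subgroup.centralizer ({z} : Set G) →
      g₀⁻¹ * (b : G) * g₀ ∈ Subgroup.centralizer ({z} : Set G) → g₀⁻¹ * z * g₀ ∈ K := by
    intro g₀ ha hb
    have h1 := hψ1 _ (hψcomm ⟨_, ha⟩ ⟨_, hb⟩)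
    have h2 : ((⟨_, ha⟩ * ⟨_, hb⟩ * ⟨_, ha⟩⁻¹ * ⟨_, hb⟩⁻¹ :
        ↥(Subgroup.centralizer ({z} : Set G))) : G) = g₀⁻¹ * z * g₀ := by
      show (g₀⁻¹ * (a : G) * g₀) * (g₀⁻¹ * (b : G) * g₀) * (g₀⁻¹ * (a : G) * g₀)⁻¹ *
        (g₀⁻¹ * (b : G) * g₀)⁻¹ = g₀⁻¹ * z * g₀
      rw [hzab]; group
    rwa [h2] at h1
  have hzK1 : z ∈ K := by
    have := hzK 1 (by simpa using hEH a.2) (by simpa using hEH b.2)
    simpa using this
  have hunc : ¬ ∀ k, u * k = k * u := by
    intro h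
    rcases (hES.center u).1 h with h1 | h1
    · apply huK
      rw [h1]
      exact K.one_mem
    · apply huK
      rw [h1]
      exact hzK1
  -- the group `D = C_E(u)`
  set D : Subgroup G := E ⊓ Subgroup.centralizer ({(u : G)} : Set G) with hDdef
  have hDmem : ∀ k : G, k ∈ D ↔ k ∈ E ∧ k * u = u * k := by
    intro k
    rw [hDdef, Subgroup.mem_inf, Subgroup.mem_centralizer_singleton_iff]
  have hD : IsPGroup 2 ↥D := IsPGroup.to_le hext.1.1 inf_le_left
  have hDH : D ≤ Subgroup.centralizer ({z} : Set G) := inf_le_left.trans hEH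
  have haD : (a : G) ∈ D := (hDmem _).2 ⟨a.2, congrArg Subtype.val hau⟩
  have hbD : (b : G) ∈ D := (hDmem _).2 ⟨b.2, congrArg Subtype.val hbu⟩
  have hzD : z ∈ D := (hDmem _).2 ⟨hzE, ((hzmem _).1 huH).symm⟩
  have huniq : ∀ g₀ : G, (∀ k ∈ D, g₀⁻¹ * k * g₀ ∈ Subgroup.centralizer ({z} : Set G)) →
      ∀ h : g₀⁻¹ * (u : G) * g₀ ∈ Subgroup.centralizer ({z} : Set G),
      ψ ⟨_, h⟩ = -1 → g₀ ∈ Subgroup.centralizer ({z} : Set G) := by
    intro g₀ hDg₀ h hψ
    have hnotK := hψ2 _ hψ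
    have hcD : ∀ d : ↥E, d * u = u * d → (g₀ * z * g₀⁻¹) * (d : G) = d * (g₀ * z * g₀⁻¹) := by
      intro d hd
      have h1 := (hzmem _).1 (hDg₀ d ((hDmem _).2 ⟨d.2, congrArg Subtype.val hd⟩))
      calc (g₀ * z * g₀⁻¹) * (d : G) = g₀ * (z * (g₀⁻¹ * d * g₀)) * g₀⁻¹ := by group
        _ = g₀ * ((g₀⁻¹ * d * g₀) * z) * g₀⁻¹ := by rw [h1]
        _ = d * (g₀ * z * g₀⁻¹) := by group
    have hcH : g₀ * z * g₀⁻¹ ∈ Subgroup.centralizer ({z} : Set G) := by
      rw [hzmem]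
      exact hcD ⟨z, hzE⟩ (Subtype.ext ((hzmem _).1 huH).symm)
    rcases eq_of_centralizes hzE hES hcent u hu2 hunc _ (hEn _ hcH) hcD with h1 | h1 | h1 | h1
    · exfalso
      apply hz1
      calc z = g₀⁻¹ * (g₀ * z * g₀⁻¹) * g₀ := by group
        _ = 1 := by rw [h1]; group
    · rw [hzmem]
      calc g₀ * z = (g₀ * z * g₀⁻¹) * g₀ := by group
        _ = z * g₀ := by rw [h1]
    · exfalso
      apply hnotK
      have h2 : g₀⁻¹ * (u : G) * g₀ = z := by
        rw [← h1]; group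
      show g₀⁻¹ * (u : G) * g₀ ∈ K
      rw [h2]
      exact hzK1
    · exfalso
      apply hnotK
      have h2 : g₀⁻¹ * (u : G) * g₀ = z * (g₀⁻¹ * z * g₀)⁻¹ := by
        have h3 : (u : G) = (g₀ * z * g₀⁻¹) * z⁻¹ := by rw [h1]; group
        rw [h3]; group
      show g₀⁻¹ * (u : G) * g₀ ∈ K
      rw [h2]
      exact K.mul_mem hzK1 (K.inv_mem (hzK g₀ (hDg₀ _ haD) (hDg₀ _ hbD)))
  have ht := transfer_involution_of_unique ψ (u : G) (by rw [pow_two]; exact hu2') D hD
    (fun k hk => ((hDmem k).1 hk).2) hDH huH hψu huniq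
  have h1 := hom_eq_one_of_pResidual hres (MonoidHom.transfer ψ) (u : G)
  rw [ht] at h1
  exact absurd h1 (by decide)

end Cfsg.Agent.S3299
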