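import Cfsg.Statements.S3300
import Cfsg.Prelude.Def_CaseTheorems
import Cfsg.Agent.Lib.Helper54_LargeES3
import Cfsg.Agent.Lib.Helper55_TransferGen

set_option autoImplicit false
open Cfsg

namespace Cfsg.Agent.S3300

open Cfsg.Agent.Lib.Helper54_LargeES3 Cfsg.Agent.Lib.Helper55_TransferGen

/-- Let G be a finite group with no nontrivial 2-group quotient (O^2(G) = G), z an involution of G with H = C_G(z), and suppose E = O_2(H) is extraspecial with C_G(E) ≤ E and of order 2^(2n+1) with n ≥ 3. If H has a normal subgroup of index 2, then z is conjugate in G to an element of E other than z. -/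
theorem result {G : Type*} [Group G] [Finite G] (hres : Cfsg.pResidual 2 G = ⊤) (z : G) (hz : orderOf z = 2)
    (E : Subgroup G) (hE : E = (Cfsg.pCore 2 ↥(Subgroup.centralizer ({z} : Set G))).map (Subgroup.centralizer ({z} : Set G)).subtype)
    (hext : Cfsg.IsExtraspecial 2 ↥E) (hcent : Subgroup.centralizer (E : Set G) ≤ E) (n : ℕ) (hn : 3 ≤ n) (hcard : Nat.card ↥E = 2 ^ (2 * n + 1))
    (K : Subgroup G) (hKH : K ≤ Subgroup.centralizer ({z} : Set G))
    (hKn : ∀ h ∈ Subgroup.centralizer ({z} : Set G), K.map (MulAut.conj h).toMonoidHom = K)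
    (hKi : K.relIndex (Subgroup.centralizer ({z} : Set G)) = 2) :
    ∃ g : G, g * z * g⁻¹ ∈ E ∧ g * z * g⁻¹ ≠ z := by
  classical
  by_contra hcon
  push Not at hcon
  have hS := setup_of_hyps z hz E hE hext hcent
  have hcard32 : 32 < Nat.card ↥E := by
    rw [hcard]
    calc 32 < 2 ^ 7 := by norm_num
      _ ≤ 2 ^ (2 * n + 1) := Nat.pow_le_pow_right (by norm_num) (by omega)
  set ψ := signOfIndexTwo (Subgroup.centralizer ({z} : Set G)) K hKi with hψdef
  -- an element of `C(z)` outside `K`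
  have hnle : ¬ Subgroup.centralizer ({z} : Set G) ≤ K := by
    intro h
    have := Subgroup.relIndex_eq_one.2 h
    rw [hKi] at this
    exact absurd this (by norm_num)
  obtain ⟨h, hhH, hhK⟩ := SetLike.not_le_iff_exists.1 hnle
  have hψh : ψ ⟨h, hhH⟩ = -1 := by
    rw [hψdef, signOfIndexTwo_apply, if_neg hhK]
  obtain ⟨s, m, hm, hord⟩ := Nat.exists_eq_two_pow_mul_odd (orderOf_pos h).ne'
  have htH : h ^ m ∈ Subgroup.centralizer ({z} : Set G) := Subgroup.pow_mem _ hhH m
  have htk : (h ^ m) ^ 2 ^ s = 1 := by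
    rw [← pow_mul, mul_comm, ← hord, pow_orderOf_eq_one]
  have h1 : ψ ⟨h ^ m, htH⟩ ∈ (⊥ : Subgroup ℤˣ) :=
    hS.key_transfer_weakly_closed hres hcard32 hcon ψ ⊥
      (fun a => by rw [Subgroup.mem_bot]; exact Int.units_mul_self a) htH htk
  rw [Subgroup.mem_bot] at h1
  have h2 : (⟨h ^ m, htH⟩ : ↥(Subgroup.centralizer ({z} : Set G))) = ⟨h, hhH⟩ ^ m := rfl
  rw [h2, map_pow, hψh, hm.neg_one_pow] at h1
  exact absurd h1 (by decide)

end Cfsg.Agent.S3300
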