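import Cfsg.Statements.S3301
import Cfsg.Prelude.Def_CaseTheorems
import Cfsg.Agent.Lib.Helper54_LargeES3
import Cfsg.Agent.Lib.Helper63_Extraspecial

set_option autoImplicit false
open Cfsg

namespace Cfsg.Agent.S3301

open Cfsg.Agent.Lib.Helper54_LargeES3

/-- Let G be a finite group with no nontrivial 2-group quotient (O^2(G) = G), z an involution of G with H = C_G(z), and suppose E = O_2(H) is extraspecial with C_G(E) ≤ E. Then the Sylow 2-subgroups of H/[H, H] are elementary abelian: every element of 2-power order of the abelianization of H has order at most 2. -/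
theorem result {G : Type*} [Group G] [Finite G] (hres : Cfsg.pResidual 2 G = ⊤) (z : G) (hz : orderOf z = 2)
    (E : Subgroup G) (hE : E = (Cfsg.pCore 2 ↥(Subgroup.centralizer ({z} : Set G))).map (Subgroup.centralizer ({z} : Set G)).subtype)
    (hext : Cfsg.IsExtraspecial 2 ↥E) (hcent : Subgroup.centralizer (E : Set G) ≤ E) :
    ∀ q : Abelianization ↥(Subgroup.centralizer ({z} : Set G)), (∃ k : ℕ, orderOf q = 2 ^ k) → q ^ 2 = 1 := by
  have hS := setup_of_hyps z hz E hE hext hcent
  have : Fact (Nat.Prime 2) := ⟨Nat.prime_two⟩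
  obtain ⟨n, hn, hcard⟩ := Cfsg.Agent.Lib.Helper63_Extraspecial.card_of_extraspecial hext
  apply abelian_final (Abelianization.of (G := ↥(Subgroup.centralizer ({z} : Set G))))
    (QuotientGroup.mk_surjective)
  rintro ⟨t, ht⟩ ⟨k, htk⟩
  have htk' : t ^ 2 ^ k = 1 := by
    have := congrArg Subtype.val htk
    simpa using this
  by_cases h8 : 8 < Nat.card ↥E
  · exact hS.key_transfer hres Abelianization.of (sqInv _) sq_mem_sqInv
      (fun M₁ w ω _ _ hwE _ hcov _ c hc =>
        mem_sqInv_of_sq (hS.ptr_sq_of_card h8 Abelianization.of M₁ w ω hwE hcov c hc))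
      ht htk'
  · have hc8 : Nat.card ↥E = 8 := by
      have h1 : n = 1 := by
        by_contra hne
        have h2 : 2 ≤ n := by omega
        have h3 : 2 ^ 5 ≤ 2 ^ (2 * n + 1) := Nat.pow_le_pow_right (by norm_num) (by omega)
        rw [← hcard] at h3
        omega
      rw [hcard, h1]
      norm_num
    exact mem_sqInv_of_sq (hS.hom_sq_of_card8 hc8 Abelianization.of ht htk')

end Cfsg.Agent.S3301
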