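import Cfsg.Statements.S3303
import Cfsg.Agent.S3305
import Cfsg.Agent.Lib.Helper55_Fitting

set_option autoImplicit false
open Cfsg

namespace Cfsg.Agent.S3303

open Cfsg.Agent.Lib

theorem result {G : Type*} [Group G] [Finite G] (hs : Group.IsSolvable G)
    (hC : ∀ S T : Sylow 2 G, S ≠ T → IsCyclic ↥((S : Subgroup G) ⊓ (T : Subgroup G))) :
    ∃ P : Sylow 2 (G ⧸ Cfsg.oddCore G), (P : Subgroup (G ⧸ Cfsg.oddCore G)).Normal := by
  classical
  have : Fact (Nat.Prime 2) := ⟨Nat.prime_two⟩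
  -- the hypothesis passes to the quotient
  have hCq := Cfsg.Agent.S3305.result hC (Cfsg.oddCore G)
  set Q := G ⧸ Cfsg.oddCore G with hQ
  have hsolQ : Group.IsSolvable Q := inferInstance
  have hO : Cfsg.pPrimeCore 2 Q = ⊥ := Helper55_Fitting.pPrimeCore_quotient_pPrimeCore 2
  have hcent := Helper55_Fitting.centralizer_pCore_le (G := Q) 2 hO
  by_cases hsub : ∀ S T : Sylow 2 Q, S = T
  · -- unique Sylow subgroup
    have : Subsingleton (Sylow 2 Q) := ⟨hsub⟩
    let P : Sylow 2 Q := default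
    exact ⟨P, Sylow.normal_of_subsingleton P⟩
  · push Not at hsub
    obtain ⟨S, T, hST⟩ := hsub
    have hcyc := hCq S T hST
    have hR_le : Cfsg.pCore 2 Q ≤ (S : Subgroup Q) ⊓ (T : Subgroup Q) :=
      le_inf (Helper1_Cores.pCore_le_sylow 2 S) (Helper1_Cores.pCore_le_sylow 2 T)
    have hRcyc : IsCyclic (Cfsg.pCore 2 Q) := by
      have : IsCyclic ((Cfsg.pCore 2 Q).subgroupOf ((S : Subgroup Q) ⊓ (T : Subgroup Q))) :=
        inferInstance
      exact isCyclic_of_surjective _ (Subgroup.subgroupOfEquivOfLe hR_le).surjective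
    have hRp : IsPGroup 2 (Cfsg.pCore 2 Q) := Helper1_Cores.pCore_isPGroup 2
    have hQp : IsPGroup 2 Q :=
      Helper55_Fitting.isPGroup_two_of_cyclic_normal (Cfsg.pCore 2 Q) hRp hcent
    -- then the Sylow 2-subgroup is everything
    exfalso
    apply hST
    have hS : (S : Subgroup Q) = ⊤ := by
      have htop : IsPGroup 2 (⊤ : Subgroup Q) := hQp.to_subgroup ⊤
      exact (S.3 htop le_top).symm
    have hT : (T : Subgroup Q) = ⊤ := by
      have htop : IsPGroup 2 (⊤ : Subgroup Q) := hQp.to_subgroup ⊤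
      exact (T.3 htop le_top).symm
    exact Sylow.ext (hS.trans hT.symm)

end Cfsg.Agent.S3303
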