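import Cfsg.Statements.S3313
import Cfsg.Agent.S0213
import Cfsg.Agent.S1265
import Cfsg.Agent.S1774
import Cfsg.Agent.Lib.Helper93_LES
import Cfsg.Agent.Lib.Helper63_Heisenberg
import Cfsg.Agent.Lib.Helper69_J2A5
import Cfsg.Agent.Lib.Helper69_J2Gen
import Cfsg.Agent.Lib.Helper69_J2Q
import Cfsg.Agent.Lib.Helper69_J2Main

set_option autoImplicit false
open Cfsg

namespace Cfsg.Agent.S3313

/-- The order of a simple group with the involution pattern of the Hall–Janko group. Let G be a non-abelian finite simple group with exactly two conjugacy classes of involutions, represented by z and t, such that: F*(C_G(z)) is an extraspecial 2-group; Q = O₂(C_G(z)) has order 32 and C_G(z) is the semidirect product of Q by a subgroup isomorphic to A₅; every involution of Q is conjugate to z and every other involution of C_G(z) is conjugate to t; C_G(t) is an internal direct product V × B with V a four-group containing t and B ≅ A₅; every involution of B is conjugate to z and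 every other involution of C_G(t) is conjugate to t. Then |G| = 604800. -/
theorem result {G : Type*} [Group G] [Finite G]
    [IsSimpleGroup G] (hna : ¬ IsMulCommutative G) (z t : G) (hz : orderOf z = 2) (ht : orderOf t = 2)
    (hzt : ¬ IsConj z t) (hcl : ∀ x : G, orderOf x = 2 → IsConj x z ∨ IsConj x t)
    (hex : Cfsg.IsExtraspecial 2 ↥(Cfsg.generalizedFittingSubgroup ↥(Subgroup.centralizer ({z} : Set G))))
    (hQ : Nat.card ↥(Cfsg.pCore 2 ↥(Subgroup.centralizer ({z} : Set G))) = 32)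
    (K : Subgroup G) (hK : Nonempty (↥K ≃* alternatingGroup (Fin 5)))
    (hKC : K ⊔ (Cfsg.pCore 2 ↥(Subgroup.centralizer ({z} : Set G))).map (Subgroup.centralizer ({z} : Set G)).subtype = Subgroup.centralizer ({z} : Set G))
    (hKQ : K ⊓ (Cfsg.pCore 2 ↥(Subgroup.centralizer ({z} : Set G))).map (Subgroup.centralizer ({z} : Set G)).subtype = ⊥)
    (hQz : ∀ x ∈ (Cfsg.pCore 2 ↥(Subgroup.centralizer ({z} : Set G))).map (Subgroup.centralizer ({z} : Set G)).subtype, orderOf x = 2 → IsConj x z)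
    (hCz : ∀ x ∈ Subgroup.centralizer ({z} : Set G), orderOf x = 2 →
      x ∉ (Cfsg.pCore 2 ↥(Subgroup.centralizer ({z} : Set G))).map (Subgroup.centralizer ({z} : Set G)).subtype → IsConj x t)
    (V B : Subgroup G) (hVB : Cfsg.IsInternalDirectProduct V B (Subgroup.centralizer ({t} : Set G)))
    (hV : Nat.card ↥V = 4) (hV2 : ∀ v ∈ V, v ^ 2 = 1) (htV : t ∈ V) (hB : Nonempty (↥B ≃* alternatingGroup (Fin 5)))
    (hBz : ∀ x ∈ B, orderOf x = 2 → IsConj x z)
    (hCt : ∀ x ∈ Subgroup.centralizer ({t} : Set G), orderOf x = 2 → x ∉ B → IsConj x t) :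
    Nat.card G = 604800 := by
  classical
  have : Fact (Nat.Prime 2) := ⟨Nat.prime_two⟩
  have hzz : z * z = 1 := Cfsg.Agent.Lib.Helper69_J2Main.mul_self_of_order_two hz
  have hz2 : z ^ 2 = 1 := by rw [pow_two]; exact hzz
  have hz1 : z ≠ 1 := Cfsg.Agent.Lib.Helper69_J2Main.ne_one_of_order_two hz
  have htt : t * t = 1 := Cfsg.Agent.Lib.Helper69_J2Main.mul_self_of_order_two ht
  -- the subgroup `(Cfsg.Agent.Lib.Helper93_LES.tc z) = O_2(C(z))`
  have hQtc : (Cfsg.pCore 2 ↥(Subgroup.centralizer ({z} : Set G))).map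
      (Subgroup.centralizer ({z} : Set G)).subtype = Cfsg.Agent.Lib.Helper93_LES.tc z := rfl
  rw [hQtc] at hKC hKQ hQz hCz
  have hQcard : Nat.card ↥(Cfsg.Agent.Lib.Helper93_LES.tc z) = 32 := by
    rw [← hQ]
    exact Subgroup.card_map_of_injective (Subgroup.subtype_injective _)
  have hPg : IsPGroup 2 ↥(Cfsg.generalizedFittingSubgroup ↥(Subgroup.centralizer ({z} : Set G))) :=
    hex.1.1
  have hFQ := Cfsg.Agent.S1774.map_eq_tc z hPg
  have hESQ : Cfsg.IsExtraspecial 2 ↥(Cfsg.Agent.Lib.Helper93_LES.tc z) := by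
    have e1 := (Cfsg.generalizedFittingSubgroup ↥(Subgroup.centralizer ({z} : Set G))).equivMapOfInjective
      (Subgroup.centralizer ({z} : Set G)).subtype (Subgroup.subtype_injective _)
    exact Cfsg.Agent.Lib.Helper63_Heisenberg.isExtraspecial_of_mulEquiv
      (e1.trans (MulEquiv.subgroupCongr hFQ)) hex
  have hQc : ∀ q ∈ (Cfsg.Agent.Lib.Helper93_LES.tc z), q * z = z * q := fun q hq =>
    Cfsg.Agent.Lib.Helper93_LES.commute_of_mem_tc hq
  have hQn : ∀ c : G, c * z = z * c → ∀ q ∈ (Cfsg.Agent.Lib.Helper93_LES.tc z), c * q * c⁻¹ ∈ (Cfsg.Agent.Lib.Helper93_LES.tc z) := by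
    intro c hc q hq
    exact Cfsg.Agent.Lib.Helper93_LES.conj_mem_tc hq (Subgroup.mem_centralizer_singleton_iff.mpr hc)
  have hzQ : z ∈ (Cfsg.Agent.Lib.Helper93_LES.tc z) := Cfsg.Agent.Lib.Helper93_LES.self_mem_tc hz2
  have hself : ∀ c : G, c * z = z * c → (∀ q ∈ (Cfsg.Agent.Lib.Helper93_LES.tc z), c * q = q * c) → c ∈ (Cfsg.Agent.Lib.Helper93_LES.tc z) := by
    intro c hc hcq
    have hcC : c ∈ Subgroup.centralizer ({z} : Set G) := Subgroup.mem_centralizer_singleton_iff.mpr hc
    have h1 : (⟨c, hcC⟩ : ↥(Subgroup.centralizer ({z} : Set G))) ∈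
        Subgroup.centralizer ((Cfsg.generalizedFittingSubgroup
          ↥(Subgroup.centralizer ({z} : Set G)) : Subgroup _) : Set _) := by
      rw [Subgroup.mem_centralizer_iff]
      intro y hy
      apply Subtype.ext
      have hyQ : (y : G) ∈ (Cfsg.Agent.Lib.Helper93_LES.tc z) := by
        rw [← hFQ]
        exact ⟨y, hy, rfl⟩
      exact (hcq y hyQ).symm
    have h2 := Cfsg.Agent.S1265.result h1
    rw [← hFQ]
    exact ⟨⟨c, hcC⟩, h2, rfl⟩
  -- the complement `K`
  obtain ⟨eK⟩ := hK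
  have hKle : K ≤ Subgroup.centralizer ({z} : Set G) := by rw [← hKC]; exact le_sup_left
  obtain ⟨f, hfK, hf5⟩ := Cfsg.Agent.Lib.Helper69_J2A5.sub_exists_order_five eK
  have hfz : f * z = z * f := Subgroup.mem_centralizer_singleton_iff.mp (hKle hfK)
  have hnc : ¬ ∀ q ∈ (Cfsg.Agent.Lib.Helper93_LES.tc z), f * q = q * f := by
    intro h
    have hfQ : f ∈ (Cfsg.Agent.Lib.Helper93_LES.tc z) := hself f hfz h
    have : f ∈ K ⊓ (Cfsg.Agent.Lib.Helper93_LES.tc z) := Subgroup.mem_inf.mpr ⟨hfK, hfQ⟩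
    rw [hKQ, Subgroup.mem_bot] at this
    rw [this, orderOf_one] at hf5
    omega
  obtain ⟨hinv, hrank, hsq⟩ := Cfsg.Agent.Lib.Helper69_J2Q.minus_type (Cfsg.Agent.Lib.Helper93_LES.tc z) hESQ hQcard z hzQ hz
    (fun q hq => (hQc q hq).symm) f hf5 hfz (hQn f hfz) hnc
  have hCcard : Nat.card ↥(Subgroup.centralizer ({z} : Set G)) = 1920 := by
    have hKN : K ≤ Subgroup.normalizer ((Cfsg.Agent.Lib.Helper93_LES.tc z) : Set G) := by
      intro k hk
      have hkz : k * z = z * k := Subgroup.mem_centralizer_singleton_iff.mp (hKle hk)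
      have hkz' : k⁻¹ * z = z * k⁻¹ := by
        calc k⁻¹ * z = k⁻¹ * (z * k) * k⁻¹ := by group
          _ = k⁻¹ * (k * z) * k⁻¹ := by rw [hkz]
          _ = z * k⁻¹ := by group
      rw [Subgroup.mem_normalizer_iff]
      intro q
      constructor
      · exact hQn k hkz q
      · intro h
        have := hQn k⁻¹ hkz' _ h
        have e : k⁻¹ * (k * q * k⁻¹) * k⁻¹⁻¹ = q := by group
        rwa [e] at this
    have h := Cfsg.Agent.Lib.Helper69_J2Gen.card_sup_of_le_normalizer K (Cfsg.Agent.Lib.Helper93_LES.tc z) hKN hKQ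
    rw [hKC, Cfsg.Agent.Lib.Helper69_J2A5.sub_card eK, hQcard] at h
    exact h
  -- the centralizer of `t`
  obtain ⟨hVle, hBle, hVBc, hVBd, hVBs⟩ := hVB
  obtain ⟨eB⟩ := hB
  have hBt : ∀ b ∈ B, b * t = t * b := fun b hb =>
    Subgroup.mem_centralizer_singleton_iff.mp (hBle hb)
  have hVN : V ≤ Subgroup.normalizer (B : Set G) := by
    intro v hv
    rw [Subgroup.mem_normalizer_iff]
    intro b
    have key : ∀ b' : G, v * b' * v⁻¹ ∈ B ↔ b' ∈ B := by
      intro b'
      constructor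
      · intro h
        have h3 : v⁻¹ * (v * b' * v⁻¹) * v = v * b' * v⁻¹ := by
          have := hVBc v hv _ h
          calc v⁻¹ * (v * b' * v⁻¹) * v = v⁻¹ * ((v * b' * v⁻¹) * v) := by group
            _ = v⁻¹ * (v * (v * b' * v⁻¹)) := by rw [this]
            _ = v * b' * v⁻¹ := by group
        have h4 : v⁻¹ * (v * b' * v⁻¹) * v = b' := by group
        rw [← h4, h3]
        exact h
      · intro h
        rw [hVBc v hv b' h]
        have : b' * v * v⁻¹ = b' := by group
        rw [this]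
        exact h
    exact (key b).symm
  have hCtcard : Nat.card ↥(Subgroup.centralizer ({t} : Set G)) = 240 := by
    have h := Cfsg.Agent.Lib.Helper69_J2Gen.card_sup_of_le_normalizer V B hVN hVBd
    rw [hVBs, hV, Cfsg.Agent.Lib.Helper69_J2A5.sub_card eB] at h
    exact h
  have hdec : ∀ c : G, c * t = t * c → ∃ a ∈ V, ∃ b ∈ B, c = a * b := by
    intro c hc
    have hcC : c ∈ V ⊔ B := by
      rw [hVBs]
      exact Subgroup.mem_centralizer_singleton_iff.mpr hc
    have h := Subgroup.coe_mul_of_left_le_normalizer_right V B hVN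
    have hc' : c ∈ ((V ⊔ B : Subgroup G) : Set G) := hcC
    rw [h, Set.mem_mul] at hc'
    obtain ⟨a, ha, b, hb, rfl⟩ := hc'
    exact ⟨a, ha, b, hb, rfl⟩
  have hCz' : ∀ x : G, x * z = z * x → orderOf x = 2 → x ∉ (Cfsg.Agent.Lib.Helper93_LES.tc z) → IsConj x t := fun x hx =>
    hCz x (Subgroup.mem_centralizer_singleton_iff.mpr hx)
  have hCt' : ∀ x : G, x * t = t * x → orderOf x = 2 → x ∉ B → IsConj x t := fun x hx =>
    hCt x (Subgroup.mem_centralizer_singleton_iff.mpr hx)
  -- the count `n_t`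
  have hnt := Cfsg.Agent.Lib.Helper69_J2Main.card_pairs_t z t hz ht hzt V B hBt hVBc hVBd hdec hV2 htV
    hBz hCt' eB
  -- involutions of `C(t)` conjugate to `z`
  have hY : Nat.card {a : G // IsConj z a ∧ a * t = t * a} = 15 := by
    rw [← Cfsg.Agent.Lib.Helper69_J2A5.sub_card_invs eB]
    apply Nat.card_congr
    refine Equiv.subtypeEquivRight (fun a => ?_)
    constructor
    · rintro ⟨h1, h2⟩
      have ha2 : orderOf a = 2 := Cfsg.Agent.Lib.Helper69_J2Main.order_two_of_isConj h1 hz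
      refine ⟨?_, ha2⟩
      by_contra haB
      exact hzt (h1.trans (hCt' a h2 ha2 haB))
    · rintro ⟨h1, h2⟩
      exact ⟨(hBz a h1 h2).symm, hBt a h1⟩
  -- involutions of `C(z)` conjugate to `t`
  have hX : Nat.card {v : G // IsConj t v ∧ z * v = v * z} = 120 := by
    have h1 := Cfsg.Agent.Lib.Helper69_J2Gen.card_commuting_classes z t
    have h2 := Cfsg.Agent.S0213.card_class_mul_card_centralizer z
    have h3 := Cfsg.Agent.S0213.card_class_mul_card_centralizer t
    rw [hCcard] at h2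
    rw [hCtcard] at h3
    rw [hY] at h1
    have hpos : 0 < Nat.card {y : G // IsConj z y} := by
      apply Nat.card_pos_iff.mpr
      exact ⟨⟨⟨z, IsConj.refl z⟩⟩, inferInstance⟩
    have h4 : Nat.card {y : G // IsConj t y} = 8 * Nat.card {y : G // IsConj z y} := by omega
    rw [h4] at h1
    have h5 : Nat.card {y : G // IsConj z y} * Nat.card {v : G // IsConj t v ∧ z * v = v * z} =
        Nat.card {y : G // IsConj z y} * 120 := by
      rw [h1]; ring
    exact Nat.eq_of_mul_eq_mul_left hpos h5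
  -- involutions of `(Cfsg.Agent.Lib.Helper93_LES.tc z)` commuting with an involution outside `(Cfsg.Agent.Lib.Helper93_LES.tc z)`
  have hcomm : ∀ v : G, IsConj t v → z * v = v * z →
      Nat.card {u : G // (u ∈ (Cfsg.Agent.Lib.Helper93_LES.tc z) ∧ orderOf u = 2) ∧ u * v = v * u} = 3 := by
    intro v hv hvz
    obtain ⟨g, rfl⟩ := isConj_iff.mp hv
    set z' := g⁻¹ * z * g with hz'
    have hz'2 : orderOf z' = 2 := by
      have : z' = g⁻¹ * z * g⁻¹⁻¹ := by rw [hz']; group
      rw [this]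
      exact Cfsg.Agent.Lib.Helper69_J2Main.order_two_of_isConj (isConj_iff.mpr ⟨g⁻¹, rfl⟩) hz
    have hzz' : IsConj z z' := isConj_iff.mpr ⟨g⁻¹, by rw [hz']; group⟩
    have hz't : z' * t = t * z' := by
      rw [hz']
      calc g⁻¹ * z * g * t = g⁻¹ * (z * (g * t * g⁻¹)) * g := by group
        _ = g⁻¹ * ((g * t * g⁻¹) * z) * g := by rw [hvz]
        _ = t * (g⁻¹ * z * g) := by group
    have hz'B : z' ∈ B := by
      by_contra h
      exact hzt (hzz'.trans (hCt' z' hz't hz'2 h))
    rw [← Cfsg.Agent.Lib.Helper69_J2A5.sub_card_comm_invs eB z' hz'B hz'2]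
    apply Nat.card_congr
    let cj : G ≃ G := ⟨fun u => g⁻¹ * u * g, fun u => g * u * g⁻¹,
      fun u => by group, fun u => by group⟩
    refine Equiv.subtypeEquiv cj (fun u => ?_)
    show ((u ∈ (Cfsg.Agent.Lib.Helper93_LES.tc z) ∧ orderOf u = 2) ∧ u * (g * t * g⁻¹) = g * t * g⁻¹ * u) ↔
      ((g⁻¹ * u * g ∈ B ∧ orderOf (g⁻¹ * u * g) = 2) ∧ g⁻¹ * u * g * z' = z' * (g⁻¹ * u * g))
    have hord : orderOf (g⁻¹ * u * g) = orderOf u := by
      have : g⁻¹ * u * g = MulAut.conj g⁻¹ u := by simp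
      rw [this, MulEquiv.orderOf_eq]
    have hcu : IsConj u (g⁻¹ * u * g) := isConj_iff.mpr ⟨g⁻¹, by group⟩
    rw [hord]
    constructor
    · rintro ⟨⟨huQ, hu2⟩, huv⟩
      have hut : g⁻¹ * u * g * t = t * (g⁻¹ * u * g) := by
        calc g⁻¹ * u * g * t = g⁻¹ * (u * (g * t * g⁻¹)) * g := by group
          _ = g⁻¹ * ((g * t * g⁻¹) * u) * g := by rw [huv]
          _ = t * (g⁻¹ * u * g) := by group
      have hu'2 : orderOf (g⁻¹ * u * g) = 2 := by rw [hord]; exact hu2
      refine ⟨⟨?_, hu2⟩, ?_⟩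
      · by_contra h
        have h1 : IsConj z (g⁻¹ * u * g) := (hQz u huQ hu2).symm.trans hcu
        exact hzt (h1.trans (hCt' _ hut hu'2 h))
      · rw [hz']
        calc g⁻¹ * u * g * (g⁻¹ * z * g) = g⁻¹ * (u * z) * g := by group
          _ = g⁻¹ * (z * u) * g := by rw [hQc u huQ]
          _ = g⁻¹ * z * g * (g⁻¹ * u * g) := by group
    · rintro ⟨⟨huB, hu2⟩, huz⟩
      have hu'2 : orderOf (g⁻¹ * u * g) = 2 := by rw [hord]; exact hu2
      have huz' : u * z = z * u := by
        rw [hz'] at huz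
        calc u * z = g * (g⁻¹ * u * g * (g⁻¹ * z * g)) * g⁻¹ := by group
          _ = g * (g⁻¹ * z * g * (g⁻¹ * u * g)) * g⁻¹ := by rw [huz]
          _ = z * u := by group
      refine ⟨⟨?_, hu2⟩, ?_⟩
      · by_contra h
        have h1 : IsConj z u := ((hBz _ huB hu'2).symm).trans hcu.symm
        exact hzt (h1.trans (hCz' u huz' hu2 h))
      · have := hBt _ huB
        calc u * (g * t * g⁻¹) = g * (g⁻¹ * u * g * t) * g⁻¹ := by group
          _ = g * (t * (g⁻¹ * u * g)) * g⁻¹ := by rw [this]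
          _ = g * t * g⁻¹ * u := by group
  -- the count `n_z`
  have hnz := Cfsg.Agent.Lib.Helper69_J2Main.card_pairs_z z t hz ht hzt (Cfsg.Agent.Lib.Helper93_LES.tc z) hQc hQn hzQ hQz hCz' hsq hrank
    hinv hX hcomm
  -- the order formula
  have hall : ∀ x : G, orderOf x = 2 → IsConj z x ∨ IsConj t x := by
    intro x hx
    rcases hcl x hx with h | h
    · exact Or.inl h.symm
    · exact Or.inr h.symm
  have hform := Cfsg.Agent.S0213.result z t hz ht hzt hall
  rw [hnz, hnt, hCcard, hCtcard] at hform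
  rw [hform]

end Cfsg.Agent.S3313
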