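import Cfsg.Statements.S3333
import Cfsg.Agent.Lib.Helper6_S6Main

set_option autoImplicit false
open Cfsg

namespace Cfsg.Agent.S3333

/-- Let G be a finite group with a Sylow 3-subgroup S of order 9 that is its own centralizer, with N_G(S)/S dihedral of order 8, and such that C_G(x) ≤ N_G(S) for every non-identity x in S. Then S is normal in G or G is isomorphic to the symmetric group of degree 6.
Proof: reduction (market `s6_packages`, `Helper6_S6Main.main`) to S3341, S3805, S3716 and `Cfsg.Agent.S2119.step2`. -/
theorem result {G : Type*} [Group G] [Finite G]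
    (P : Sylow 3 G) (S : Subgroup G) (hSP : S = P) (hcard : Nat.card S = 9)
    (hC : Subgroup.centralizer (S : Set G) = S)
    (eN : Subgroup.normalizer (S : Set G) ⧸ S.subgroupOf (Subgroup.normalizer (S : Set G)) ≃* DihedralGroup 4)
    (hcent : ∀ x ∈ S, x ≠ 1 → Subgroup.centralizer ({x} : Set G) ≤ Subgroup.normalizer (S : Set G)) :
    S.Normal ∨ Nonempty (G ≃* Equiv.Perm (Fin 6)) :=
  Cfsg.Agent.Lib.Helper6_S6Main.main
    (Cfsg.Agent.Lib.Helper6_S6Main.setupOf P S hSP hcard hC eN hcent)

end Cfsg.Agent.S3333
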