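import Cfsg.Statements.S3349
-- import your own Cfsg.Agent.* helpers here

set_option autoImplicit false
open Cfsg
open scoped commutatorElement

namespace Cfsg.Agent.S3349

/-- A maximal abelian subgroup is self-centralizing. -/
theorem mem_of_commutes {Q : Type*} [Group Q]
    (A : Subgroup Q) (hA : IsMulCommutative A)
    (hmax : ∀ B : Subgroup Q, A ≤ B → IsMulCommutative B → B = A)
    (x : Q) (hx : ∀ a ∈ A, x * a = a * x) : x ∈ A := by
  set B : Subgroup Q := Subgroup.closure (insert x (A : Set Q)) with hB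
  have hcomm : ∀ u ∈ insert x (A : Set Q), ∀ v ∈ insert x (A : Set Q), u * v = v * u := by
    intro u hu v hv
    rcases hu with rfl | hu <;> rcases hv with rfl | hv
    · rfl
    · exact hx v hv
    · exact (hx u hu).symm
    · exact setLike_mul_comm hu hv
  have hBc : IsMulCommutative B := Subgroup.isMulCommutative_closure hcomm
  have hAB : A ≤ B := by
    intro a ha
    exact Subgroup.subset_closure (Set.mem_insert_of_mem _ ha)
  have hBA : B = A := hmax B hAB hBc
  rw [← hBA]
  exact Subgroup.subset_closure (Set.mem_insert _ _)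

/-- Let Q be a finite extraspecial p-group and α an automorphism of Q fixing every element of some maximal abelian subgroup of Q. Then the order of α is a power of p. -/
theorem result {Q : Type*} [Group Q] [Finite Q]
    (p : ℕ) [Fact p.Prime] (hQ : Cfsg.IsExtraspecial p Q) (α : MulAut Q)
    (A : Subgroup Q) (hA : IsMulCommutative A) (hmax : ∀ B : Subgroup Q, A ≤ B → IsMulCommutative B → B = A)
    (hfix : ∀ a ∈ A, α a = a) :
    ∃ k : ℕ, orderOf α = p ^ k := by
  obtain ⟨⟨hp, -, hcomm⟩, -⟩ := hQ
  -- the centre lies in A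
  have hZA : Subgroup.center Q ≤ A := by
    intro z hz
    apply mem_of_commutes A hA hmax
    intro a _
    exact (Subgroup.mem_center_iff.mp hz a).symm
  -- commutators are fixed by α
  have hfixc : ∀ x a : Q, α ⁅x, a⁆ = ⁅x, a⁆ := by
    intro x a
    apply hfix
    apply hZA
    rw [← hcomm]
    exact Subgroup.commutator_mem_commutator (Subgroup.mem_top x) (Subgroup.mem_top a)
  -- x⁻¹ α(x) ∈ A
  have hc : ∀ x : Q, x⁻¹ * α x ∈ A := by
    intro x
    apply mem_of_commutes A hA hmax
    intro a ha
    have h1 := hfixc x a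
    rw [commutatorElement_def] at h1
    simp only [map_mul, map_inv, hfix a ha] at h1
    -- h1 : α x * a * (α x)⁻¹ * a⁻¹ = x * a * x⁻¹ * a⁻¹
    have h2 : α x * a * (α x)⁻¹ = x * a * x⁻¹ := mul_right_cancel h1
    calc x⁻¹ * α x * a = x⁻¹ * (α x * a * (α x)⁻¹) * α x := by group
      _ = x⁻¹ * (x * a * x⁻¹) * α x := by rw [h2]
      _ = a * (x⁻¹ * α x) := by group
  -- α^k x = x * (x⁻¹ α x)^k
  have hpow : ∀ (k : ℕ) (x : Q), (α ^ k) x = x * (x⁻¹ * α x) ^ k := by
    intro k x
    induction k with
    | zero => simp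
    | succ k ih =>
      rw [pow_succ', MulAut.mul_apply, ih, map_mul, map_pow, hfix _ (hc x), pow_succ']
      simp only [mul_assoc, mul_inv_cancel_left]
  obtain ⟨n, hn⟩ := hp.exists_card_eq
  have hone : α ^ (Nat.card Q) = 1 := by
    ext x
    rw [hpow, pow_card_eq_one', mul_one, MulAut.one_apply]
  have hdvd : orderOf α ∣ p ^ n := by
    rw [← hn]
    exact orderOf_dvd_of_pow_eq_one hone
  obtain ⟨k, -, hk⟩ := (Nat.dvd_prime_pow (Fact.out : p.Prime)).mp hdvd
  exact ⟨k, hk⟩

end Cfsg.Agent.S3349
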