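import Cfsg.Statements.S3356
import Cfsg.Agent.Lib.Helper59_HalfTrans
-- import your own Cfsg.Agent.* helpers here

set_option autoImplicit false
open Cfsg

namespace Cfsg.Agent.S3356

open Cfsg.Agent.Lib.Helper59_HalfTrans

/-- the subgroup of elements of `N` killed by `p`, for abelian `N` -/
def torsionSub {G : Type*} [Group G] (N : Subgroup G)
    (hcomm : ∀ x ∈ N, ∀ y ∈ N, x * y = y * x) (p : ℕ) : Subgroup G where
  carrier := {x | x ∈ N ∧ x ^ p = 1}
  one_mem' := ⟨N.one_mem, one_pow p⟩
  mul_mem' := by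
    intro a b ha hb
    refine ⟨N.mul_mem ha.1 hb.1, ?_⟩
    have hc : Commute a b := hcomm a ha.1 b hb.1
    rw [hc.mul_pow, ha.2, hb.2, one_mul]
  inv_mem' := by
    intro a ha
    exact ⟨N.inv_mem ha.1, by rw [inv_pow, ha.2, inv_one]⟩

/-- Let G be a finite 3/2-transitive permutation group: G acts faithfully and transitively on a finite set, the point stabilizers are non-trivial, and for each point a all orbits of G_a on the remaining points have the same size. Suppose G has a regular normal subgroup N and G is not a Frobenius group (some two-point stabilizer is non-trivial). Then N is an elementary abelian p-group for some prime p, and every non-trivial normal subgroup of G contains N (so N is the unique minimal normal subgroup). -/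
theorem result {G Ω : Type*} [Group G] [Finite G]
    [MulAction G Ω] [FaithfulSMul G Ω] [Finite Ω] (htrans : MulAction.IsPretransitive G Ω)
    (hne : ∀ a : Ω, MulAction.stabilizer G a ≠ ⊥)
    (hhalf : ∀ a b c : Ω, b ≠ a → c ≠ a →
      Nat.card (MulAction.orbit (MulAction.stabilizer G a) b) = Nat.card (MulAction.orbit (MulAction.stabilizer G a) c))
    (N : Subgroup G) [hN : N.Normal] (hNt : MulAction.IsPretransitive N Ω) (hNr : ∀ a : Ω, MulAction.stabilizer N a = ⊥)
    (hnotF : ∃ a b : Ω, a ≠ b ∧ MulAction.stabilizer G a ⊓ MulAction.stabilizer G b ≠ ⊥) :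
    (∃ p : ℕ, p.Prime ∧ IsMulCommutative N ∧ ∀ x ∈ N, x ^ p = 1) ∧
    (∀ M : Subgroup G, M.Normal → M ≠ ⊥ → N ≤ M) := by
  obtain ⟨a, b₀, hab, hD⟩ := hnotF
  set A : Subgroup G := MulAction.stabilizer G a with hA
  set c : ℕ := Nat.card ↥(A ⊓ MulAction.stabilizer G b₀) with hc
  -- regularity: an element of N fixing a is 1
  have hreg : ∀ x ∈ N, x • a = a → x = 1 := by
    intro x hx hxa
    have : (⟨x, hx⟩ : N) ∈ MulAction.stabilizer N a := by
      rw [MulAction.mem_stabilizer_iff]; exact hxa
    rw [hNr a, Subgroup.mem_bot] at this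
    exact congrArg Subtype.val this
  -- Claim 1
  have hcl1 : ∀ x ∈ N, A ⊓ Subgroup.centralizer {x} = A ⊓ MulAction.stabilizer G (x • a) := by
    intro x hx
    ext α
    rw [Subgroup.mem_inf, Subgroup.mem_inf, Subgroup.mem_centralizer_singleton_iff]
    constructor
    · rintro ⟨hαA, hαx⟩
      refine ⟨hαA, ?_⟩
      have hαa : α • a = a := MulAction.mem_stabilizer_iff.1 hαA
      rw [MulAction.mem_stabilizer_iff, ← mul_smul, hαx, mul_smul, hαa]
    · rintro ⟨hαA, hαx⟩
      refine ⟨hαA, ?_⟩
      have hαa : α • a = a := MulAction.mem_stabilizer_iff.1 hαA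
      rw [MulAction.mem_stabilizer_iff] at hαx
      have hαa' : α⁻¹ • a = a := by rw [inv_smul_eq_iff, hαa]
      have hy : (x⁻¹ * (α * x * α⁻¹)) • a = a := by
        rw [mul_smul, mul_smul, mul_smul, hαa', hαx, inv_smul_smul]
      have := hreg _ (N.mul_mem (N.inv_mem hx) (hN.conj_mem x hx α)) hy
      have h2 : α * x * α⁻¹ = x := by
        have : α * x * α⁻¹ = x * (x⁻¹ * (α * x * α⁻¹)) := by group
        rw [this]
        rw [‹x⁻¹ * (α * x * α⁻¹) = 1›, mul_one]
      calc α * x = α * x * α⁻¹ * α := by group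
        _ = x * α := by rw [h2]
  -- Claim 2
  have hstabcard : ∀ b : Ω, Nat.card (MulAction.stabilizer A b) =
      Nat.card ↥(A ⊓ MulAction.stabilizer G b) := by
    intro b
    refine Nat.card_congr ⟨fun s => ⟨((s : A) : G), Subgroup.mem_inf.2 ⟨(s : A).2, ?_⟩⟩,
      fun t => ⟨⟨(t : G), (Subgroup.mem_inf.1 t.2).1⟩, ?_⟩, ?_, ?_⟩
    · have := s.2
      rw [MulAction.mem_stabilizer_iff] at this ⊢
      exact this
    · rw [MulAction.mem_stabilizer_iff]
      exact MulAction.mem_stabilizer_iff.1 (Subgroup.mem_inf.1 t.2).2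
    · intro s; rfl
    · intro t; rfl
  have hcl2 : ∀ b : Ω, b ≠ a → Nat.card ↥(A ⊓ MulAction.stabilizer G b) = c := by
    intro b hb
    have h1 := Nat.card_congr (MulAction.orbitProdStabilizerEquivGroup A b)
    have h2 := Nat.card_congr (MulAction.orbitProdStabilizerEquivGroup A b₀)
    rw [Nat.card_prod] at h1 h2
    rw [hstabcard] at h1 h2
    have h3 := hhalf a b b₀ hb hab.symm
    rw [h3] at h1
    have hne' : Nonempty (MulAction.orbit A b₀) := ⟨⟨b₀, MulAction.mem_orbit_self b₀⟩⟩
    have hpos : 0 < Nat.card (MulAction.orbit A b₀) := Nat.card_pos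
    exact Nat.eq_of_mul_eq_mul_left hpos (h1.trans h2.symm)
  -- every point is n • a
  have hNa : ∀ ω : Ω, ∃ n ∈ N, n • a = ω := by
    intro ω
    obtain ⟨n, hn⟩ := hNt.exists_smul_eq a ω
    exact ⟨(n : G), n.2, hn⟩
  have hS : Setting N A c := by
    refine ⟨hN, ?_, ?_, ?_⟩
    · rw [hc]
      exact (Subgroup.one_lt_card_iff_ne_bot _).2 hD
    · intro x hx hx1
      rw [hcl1 x hx]
      apply hcl2
      intro h
      exact hx1 (hreg x hx h)
    · intro α hαA hα
      have hαa : α • a = a := MulAction.mem_stabilizer_iff.1 hαA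
      apply FaithfulSMul.eq_of_smul_eq_smul (α := Ω)
      intro ω
      obtain ⟨n, hn, rfl⟩ := hNa ω
      rw [one_smul, ← mul_smul, hα n hn, mul_smul, hαa]
  have hcomm := hS.comm
  have hmin := hS.eq_bot_or_eq
  -- N is non-trivial
  obtain ⟨x₀, hx₀, hx₀b⟩ := hNa b₀
  have hx₀1 : x₀ ≠ 1 := by
    rintro rfl
    rw [one_smul] at hx₀b
    exact hab hx₀b
  have hNbot : N ≠ ⊥ := by
    intro h
    rw [h, Subgroup.mem_bot] at hx₀
    exact hx₀1 hx₀
  constructor
  · have hcard : Nat.card N ≠ 1 := by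
      intro h
      exact hNbot ((Subgroup.card_eq_one).1 h)
    set p := (Nat.card N).minFac with hp
    have hpp : p.Prime := Nat.minFac_prime hcard
    have hpd : p ∣ Nat.card N := Nat.minFac_dvd _
    refine ⟨p, hpp, ⟨⟨fun x y => Subtype.ext (hcomm x x.2 y y.2)⟩⟩, ?_⟩
    have : Fact p.Prime := ⟨hpp⟩
    obtain ⟨g, hg⟩ := exists_prime_orderOf_dvd_card' (G := N) p hpd
    set K := torsionSub N hcomm p with hK
    have hKN : K ≤ N := fun x hx => hx.1
    have hKA : ∀ α ∈ A, ∀ k ∈ K, α * k * α⁻¹ ∈ K := by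
      intro α _ k hk
      refine ⟨hN.conj_mem k hk.1 α, ?_⟩
      rw [conj_pow, hk.2]; group
    rcases hmin K hKN hKA with h | h
    · exfalso
      have hgK : (g : G) ∈ K := by
        refine ⟨g.2, ?_⟩
        have : g ^ p = 1 := by rw [← hg]; exact pow_orderOf_eq_one g
        have := congrArg Subtype.val this
        simpa using this
      rw [h, Subgroup.mem_bot] at hgK
      have : g = 1 := Subtype.ext hgK
      rw [this, orderOf_one] at hg
      exact hpp.one_lt.ne hg
    · intro x hx
      have : x ∈ K := by rw [h]; exact hx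
      exact this.2
  · intro M hM hMbot
    have hKA : ∀ α ∈ A, ∀ k ∈ M ⊓ N, α * k * α⁻¹ ∈ M ⊓ N := by
      intro α _ k hk
      exact Subgroup.mem_inf.2 ⟨hM.conj_mem k (Subgroup.mem_inf.1 hk).1 α,
        hN.conj_mem k (Subgroup.mem_inf.1 hk).2 α⟩
    rcases hmin (M ⊓ N) inf_le_right hKA with h | h
    · exfalso
      apply hMbot
      rw [eq_bot_iff]
      intro g hg
      rw [Subgroup.mem_bot]
      obtain ⟨n, hn, hng⟩ := hNa (g • a)
      -- g commutes with N
      have hgN : ∀ x ∈ N, g * x = x * g := by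
        intro x hx
        have hmem : g * x * g⁻¹ * x⁻¹ ∈ M ⊓ N := by
          refine Subgroup.mem_inf.2 ⟨?_, N.mul_mem (hN.conj_mem x hx g) (N.inv_mem hx)⟩
          have : g * x * g⁻¹ * x⁻¹ = g * (x * g⁻¹ * x⁻¹) := by group
          rw [this]
          exact M.mul_mem hg (hM.conj_mem g⁻¹ (M.inv_mem hg) x)
        rw [h, Subgroup.mem_bot] at hmem
        calc g * x = (g * x * g⁻¹ * x⁻¹) * (x * g) := by group
          _ = x * g := by rw [hmem, one_mul]
      have hαA : n⁻¹ * g ∈ A := by
        rw [hA, MulAction.mem_stabilizer_iff, mul_smul, ← hng, inv_smul_smul]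
      have hα1 : n⁻¹ * g = 1 := by
        apply hS.faithful _ hαA
        intro x hx
        have e1 : n⁻¹ * x = x * n⁻¹ := (hcomm _ (N.inv_mem hn) x hx)
        calc n⁻¹ * g * x = n⁻¹ * (g * x) := by group
          _ = n⁻¹ * (x * g) := by rw [hgN x hx]
          _ = (n⁻¹ * x) * g := by group
          _ = (x * n⁻¹) * g := by rw [e1]
          _ = x * (n⁻¹ * g) := by group
      have hgn : g = n := by
        have : g = n * (n⁻¹ * g) := by group
        rw [this, hα1, mul_one]
      have : g ∈ M ⊓ N := Subgroup.mem_inf.2 ⟨hg, hgn ▸ hn⟩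
      rw [h, Subgroup.mem_bot] at this
      exact this
    · rw [← h]
      exact inf_le_left

end Cfsg.Agent.S3356
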