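import Cfsg.Statements.S4291
import Cfsg.Agent.Lib.Helper71_FCBridge
import Cfsg.Agent.Lib.Helper71_FCSmall
import Cfsg.Agent.Lib.Helper71_FCUnique
import Cfsg.Agent.Lib.Helper71_FCSolv
import Cfsg.Agent.Lib.Helper71_FCNonsolv
import Cfsg.Agent.S3359

set_option autoImplicit false
open Cfsg

namespace Cfsg.Agent.S4291

open Cfsg.Agent.Lib.Helper71_FCBridge Cfsg.Agent.Lib.Helper71_FCUnique
  Cfsg.Agent.Lib.Helper71_FCSolv Cfsg.Agent.Lib.Helper71_FCNonsolv

/-- in a fixed-point-free group, a subgroup with cyclic `2`-subgroups has cyclic Sylow subgroups -/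
theorem sylow_cyclic_of_c2 {G : Type*} [Group G] [Finite G] (hF : HasFpf G) (N : Subgroup G)
    (hC : C2 N) : ∀ (p : ℕ) [Fact p.Prime] (P : Sylow p N), IsCyclic P := by
  intro p hp P
  have hP' : IsPGroup p ((P : Subgroup N).map N.subtype) := P.2.map _
  have hcyc : IsCyclic ((P : Subgroup N).map N.subtype) := by
    by_cases h2 : p = 2
    · subst h2
      exact hC _ (Subgroup.map_subtype_le _) hP'
    · exact hF.isCyclic_of_odd h2 _ hP'
  apply isCyclic_of_injective (N.subtype.subgroupMap (P : Subgroup N))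
  intro a b h
  have h1 := congrArg Subtype.val h
  exact Subtype.ext (Subtype.ext h1)

/-- Let G be a finite group that occurs as a Frobenius complement. Then G has exactly one normal subgroup N such that every Sylow subgroup of N is cyclic and the quotient of G by N is trivial or isomorphic to one of the following five groups: the Klein four-group, the alternating group of degree 4, the symmetric group of degree 4, the alternating group of degree 5, the symmetric group of degree 5. (The quotient is described by a surjective homomorphism with kernel N; the Klein four-group is written as the dihedral group of order 4.) -/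
theorem result {G : Type*} [Group G] [Finite G]
    (hFC : (∃ (L : Type) (_ : Group L) (_ : Finite L) (H : Subgroup L), Cfsg.IsFrobeniusComplement H ∧ Nonempty (G ≃* H))) :
    ∃! N : Subgroup G, N.Normal ∧ (∀ (p : ℕ) [Fact p.Prime] (P : Sylow p N), IsCyclic P) ∧
      (N = ⊤ ∨
        (∃ f : G →* DihedralGroup 2, Function.Surjective f ∧ f.ker = N) ∨
        (∃ f : G →* alternatingGroup (Fin 4), Function.Surjective f ∧ f.ker = N) ∨
        (∃ f : G →* Equiv.Perm (Fin 4), Function.Surjective f ∧ f.ker = N) ∨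
        (∃ f : G →* alternatingGroup (Fin 5), Function.Surjective f ∧ f.ker = N) ∨
        (∃ f : G →* Equiv.Perm (Fin 5), Function.Surjective f ∧ f.ker = N)) := by
  have hF : HasFpf G := hasFpf_of_hyp hFC
  have hQ : ∀ P : Subgroup G, IsPGroup 2 P →
      IsCyclic P ∨ ∃ n : ℕ, Nonempty (P ≃* QuaternionGroup (2 ^ n)) := by
    intro P hP
    have : Fact (Nat.Prime 2) := ⟨Nat.prime_two⟩
    rcases hF.isCyclic_or_quat P hP with h | ⟨-, h⟩
    · exact Or.inl h
    · exact Or.inr h
  have huniq : ∀ a b : G, a ≠ 1 → b ≠ 1 → a ^ 2 = 1 → b ^ 2 = 1 → a = b :=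
    fun a b ha hb ha2 hb2 => hF.invol_unique ha hb ha2 hb2
  have hex : ∃ N : Subgroup G, N.Normal ∧ C2 N ∧ SixType N := by
    by_cases hc : C2 (⊤ : Subgroup G)
    · exact ⟨⊤, inferInstance, hc, Or.inl rfl⟩
    · have hnc : ∃ P : Subgroup G, IsPGroup 2 P ∧ ¬ IsCyclic P := by
        by_contra hno
        apply hc
        intro P _ hP
        by_contra hPc
        exact hno ⟨P, hP, hPc⟩
      by_cases hsol : Group.IsSolvable G
      · exact solvable_case hsol hQ hnc
      · obtain ⟨G₀, hG₀, hidx, S, M, hSM, hdisj, hcomm, ⟨eS⟩, -, hM30⟩ :=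
          Cfsg.Agent.S3359.result hsol hFC
        exact nonsolvable_case hQ huniq G₀ hG₀ hidx S M hSM hdisj hcomm eS hM30
  obtain ⟨N, hNn, hNc, hN6⟩ := hex
  refine ⟨N, ⟨hNn, sylow_cyclic_of_c2 hF N hNc, hN6⟩, ?_⟩
  rintro N' ⟨hN'n, hN'c, hN'6⟩
  exact unique_of_valid hQ hN'n hNn (c2_of_sylow N' hN'c) hNc hN'6 hN6

end Cfsg.Agent.S4291
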