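import Cfsg.Statements.S3361
import Cfsg.Agent.Lib.Helper12_SolvReg

set_option autoImplicit false
open Cfsg

namespace Cfsg.Agent.S3361

/-- Let q be a prime and V a non-trivial finite vector space over the field with q elements, and let G be a finite solvable group acting faithfully and linearly on V and regularly on the non-zero vectors (transitively, with only the identity fixing a non-zero vector). Then either V can be identified with the additive group of a finite field F so that every element of G acts as x ↦ a·σ(x) (a ∈ F, σ a field automorphism), or V has 5^2, 7^2, 11^2 or 23^2 elements. Moreover, if q ≠ 2 then G has a normal subgroup of index 2, except that when V has 25 elements G may be isomorphic to SL(2,3) and when V has 121 elements G may be isomorphic to SL(2,3) × C₅. -/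
theorem result
    (q : ℕ) [Fact q.Prime] {V : Type*} [AddCommGroup V] [Module (ZMod q) V] [Finite V] [Nontrivial V]
    {G : Type*} [Group G] [Finite G] (hsol : Group.IsSolvable G)
    (ρ : G →* (V ≃ₗ[ZMod q] V)) (hρ : Function.Injective ρ)
    (htrans : ∀ v w : V, v ≠ 0 → w ≠ 0 → ∃ g : G, ρ g v = w)
    (hreg : ∀ v : V, v ≠ 0 → ∀ g : G, ρ g v = v → g = 1) :
    ((∃ (F : Type) (_ : Field F) (_ : Fintype F) (e : V ≃+ F),
        ∀ g : G, ∃ (a : F) (σ : F ≃+* F), ∀ v : V, e (ρ g v) = a * σ (e v)) ∨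
      Nat.card V ∈ ({25, 49, 121, 529} : Set ℕ)) ∧
    (q ≠ 2 → (∃ N : Subgroup G, N.Normal ∧ N.index = 2) ∨
      (Nat.card V = 25 ∧ Nonempty (G ≃* Matrix.SpecialLinearGroup (Fin 2) (ZMod 3))) ∨
      (Nat.card V = 121 ∧ Nonempty (G ≃* Matrix.SpecialLinearGroup (Fin 2) (ZMod 3) × Multiplicative (ZMod 5)))) := by
  classical
  have hq : q.Prime := Fact.out
  have hfinL := Cfsg.Agent.Lib.Helper12_ExcNF.finite_linearEquiv (p := q) (V := V)
  let θ : G ≃* ρ.range := MonoidHom.ofInjective hρ
  have hθ : ∀ (g : G) (v : V), ((θ g : ρ.range) : V ≃ₗ[ZMod q] V) v = ρ g v := fun g v => rfl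
  have hregH : ∀ v w : V, v ≠ 0 → w ≠ 0 →
      ∃! h : ρ.range, (h : V ≃ₗ[ZMod q] V) v = w := by
    intro v w hv hw
    obtain ⟨g, hg⟩ := htrans v w hv hw
    refine ⟨θ g, hg, ?_⟩
    intro h' hh'
    obtain ⟨g', rfl⟩ := θ.surjective h'
    rw [hθ] at hh'
    have h1 : ρ (g⁻¹ * g') v = v := by
      rw [map_mul, LinearEquiv.mul_apply, hh', ← hg, ← LinearEquiv.mul_apply, ← map_mul,
        inv_mul_cancel, map_one]
      rfl
    have h2 := hreg v hv _ h1
    have h3 : g' = g := by
      have := congrArg (fun x => g * x) h2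
      simpa using this
    rw [h3]
  have hsolH : Group.IsSolvable ρ.range :=
    Group.isSolvable_of_surjective (f := θ.toMonoidHom) θ.surjective
  have hpull : (∃ M : Subgroup ρ.range, M.Normal ∧ M.index = 2) →
      ∃ N : Subgroup G, N.Normal ∧ N.index = 2 := by
    rintro ⟨M, hMn, hMi⟩
    refine ⟨M.comap θ.toMonoidHom, inferInstance, ?_⟩
    exact (Subgroup.index_comap_of_surjective M (f := θ.toMonoidHom) θ.surjective).trans hMi
  by_cases hI : ∀ A : Subgroup ρ.range, A.Normal → IsCyclic A →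
      ∃ W : Submodule (ZMod q) V, W ≠ ⊥ ∧ W ≠ ⊤ ∧
        ∀ a ∈ A, ∀ v ∈ W, ((a : ρ.range) : V ≃ₗ[ZMod q] V) v ∈ W
  · constructor
    · right
      rcases Cfsg.Agent.Lib.Helper12_ExcDeg.degrees_solvable ρ.range hregH hI hsolH with h | h | h | h <;> rw [h] <;> simp
    · intro _
      rcases Cfsg.Agent.Lib.Helper12_SolvReg.exceptional_index_two ρ.range hregH hI hsolH with hM | ⟨h25, ⟨ζ⟩⟩ | ⟨h121, ⟨ζ⟩⟩
      · left; exact hpull hM
      · right; left; exact ⟨h25, ⟨θ.trans ζ⟩⟩
      · right; right; exact ⟨h121, ⟨θ.trans ζ⟩⟩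
  · push Not at hI
    obtain ⟨A, hAn, hAc, hA⟩ := hI
    have hirr : ∀ W : Submodule (ZMod q) V,
        (∀ a ∈ A, ∀ v ∈ W, ((a : ρ.range) : V ≃ₗ[ZMod q] V) v ∈ W) → W = ⊥ ∨ W = ⊤ := by
      intro W hW
      by_contra hcon
      push Not at hcon
      obtain ⟨a, ha, v, hv, hav⟩ := hA W hcon.1 hcon.2
      exact hav (hW a ha v hv)
    obtain ⟨K, hK1, hK2, hK3, e, hsl⟩ := Cfsg.Agent.Lib.Helper12_SolvReg.semilinear_of_irreducible ρ.range A hAn hAc hirr
    have hsl' : ∀ g : G, ∃ (b : K) (σ : K ≃+* K), ∀ v : V, e (ρ g v) = b * σ (e v) :=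
      fun g => hsl (θ g)
    obtain ⟨F, hF1, hF2, e', hsl''⟩ := Cfsg.Agent.Lib.Helper12_SolvReg.to_type0 (fun (g : G) (v : V) => ρ g v) e hsl'
    constructor
    · left
      exact ⟨F, hF1, hF2, e', hsl''⟩
    · intro hq2
      left
      have hchar : ringChar F ≠ 2 := by
        intro h2
        rw [FiniteField.even_card_iff_char_two] at h2
        have hcardF : Fintype.card F = Nat.card V := by
          rw [← Nat.card_eq_fintype_card]
          exact (Nat.card_congr e'.toEquiv).symm
        rw [hcardF, Cfsg.Agent.Lib.Helper12_ExcSpread.card_eq_pow_top (p := q) (V := V)] at h2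
        have hodd : Odd q := hq.eq_two_or_odd'.resolve_left hq2
        have := Nat.odd_iff.1 (hodd.pow (n := Module.finrank (ZMod q) V))
        omega
      exact Cfsg.Agent.Lib.Helper12_SolvReg.index_two_of_semilinear (fun (g : G) (v : V) => ρ g v)
        (fun v => by simp) (fun g g' v => by simp) hchar e' hsl'' htrans

end Cfsg.Agent.S3361
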