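import Cfsg.Statements.S3362
import Cfsg.Agent.Lib.Helper56_SchreierSims
-- import your own Cfsg.Agent.* helpers here

set_option autoImplicit false
open Cfsg

namespace Cfsg.Agent.S3362

/-! A verified Schreier–Sims computation: base `2, 1, 0, 3, 4`, strong generators
`u, v, w, s, t, x₁, x₂, x₃` (in this order), transversals given as words in the generators,
and every Schreier generator sifted to the identity by kernel evaluation. -/

open Equiv Cfsg.Agent.Lib.Helper56_SchreierSims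

abbrev P := Perm (Fin 12)

/-- A permutation given by two mutually inverse lookup tables. -/
def mkP (f g : List (Fin 12))
    (h1 : ∀ i : Fin 12, g.getD (f.getD i.val 0).val 0 = i)
    (h2 : ∀ i : Fin 12, f.getD (g.getD i.val 0).val 0 = i) : P :=
  ⟨fun i => f.getD i.val 0, fun i => g.getD i.val 0, h1, h2⟩

def gen : Fin 8 → P
  | 0 => mkP [0, 1, 2, 3, 6, 9, 5, 8, 11, 4, 7, 10] [0, 1, 2, 3, 9, 6, 4, 10, 7, 5, 11, 8] (by decide) (by decide)
  | 1 => mkP [0, 1, 2, 3, 7, 11, 10, 5, 6, 8, 9, 4] [0, 1, 2, 3, 11, 7, 8, 4, 9, 10, 6, 5] (by decide) (by decide)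
  | 2 => mkP [0, 1, 2, 3, 10, 8, 11, 6, 4, 7, 5, 9] [0, 1, 2, 3, 8, 10, 7, 9, 5, 11, 4, 6] (by decide) (by decide)
  | 3 => mkP [0, 1, 2, 4, 5, 3, 7, 8, 6, 10, 11, 9] [0, 1, 2, 5, 3, 4, 8, 6, 7, 11, 9, 10] (by decide) (by decide)
  | 4 => mkP [0, 1, 2, 6, 7, 8, 9, 10, 11, 3, 4, 5] [0, 1, 2, 9, 10, 11, 3, 4, 5, 6, 7, 8] (by decide) (by decide)
  | 5 => mkP [3, 1, 2, 0, 4, 5, 7, 6, 10, 11, 8, 9] [3, 1, 2, 0, 4, 5, 7, 6, 10, 11, 8, 9] (by decide) (by decide)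
  | 6 => mkP [1, 0, 2, 3, 4, 5, 9, 10, 11, 6, 7, 8] [1, 0, 2, 3, 4, 5, 9, 10, 11, 6, 7, 8] (by decide) (by decide)
  | 7 => mkP [0, 2, 1, 3, 4, 5, 11, 9, 10, 7, 8, 6] [0, 2, 1, 3, 4, 5, 11, 9, 10, 7, 8, 6] (by decide) (by decide)

def trw : ℕ → Fin 12 → List (Fin 8)
  | 0, 0 => [6, 7]
  | 0, 1 => [7]
  | 0, 3 => [5, 6, 7]
  | 0, 4 => [3, 5, 6, 7]
  | 0, 5 => [3, 3, 5, 6, 7]
  | 0, 6 => [4, 5, 6, 7]
  | 0, 7 => [1, 3, 5, 6, 7]
  | 0, 8 => [0, 1, 3, 5, 6, 7]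
  | 0, 9 => [4, 4, 5, 6, 7]
  | 0, 10 => [2, 3, 5, 6, 7]
  | 0, 11 => [2, 4, 5, 6, 7]
  | 1, 0 => [6]
  | 1, 3 => [5, 6]
  | 1, 4 => [3, 5, 6]
  | 1, 5 => [3, 3, 5, 6]
  | 1, 6 => [4, 5, 6]
  | 1, 7 => [1, 3, 5, 6]
  | 1, 8 => [0, 1, 3, 5, 6]
  | 1, 9 => [4, 4, 5, 6]
  | 1, 10 => [2, 3, 5, 6]
  | 1, 11 => [2, 4, 5, 6]
  | 2, 3 => [5]
  | 2, 4 => [3, 5]
  | 2, 5 => [3, 3, 5]
  | 2, 6 => [4, 5]
  | 2, 7 => [1, 3, 5]
  | 2, 8 => [0, 1, 3, 5]
  | 2, 9 => [4, 4, 5]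
  | 2, 10 => [2, 3, 5]
  | 2, 11 => [2, 4, 5]
  | 3, 4 => [3]
  | 3, 5 => [3, 3]
  | 3, 6 => [4]
  | 3, 7 => [1, 3]
  | 3, 8 => [0, 1, 3]
  | 3, 9 => [4, 4]
  | 3, 10 => [2, 3]
  | 3, 11 => [2, 4]
  | 4, 5 => [0, 0]
  | 4, 6 => [0]
  | 4, 7 => [1]
  | 4, 8 => [0, 1]
  | 4, 9 => [1, 2]
  | 4, 10 => [2]
  | 4, 11 => [2, 0]
  | _, _ => []

def tr (lvl : ℕ) (ω : Fin 12) : P := ((trw lvl ω).map gen).prod

def base : ℕ → Fin 12
  | 0 => 2
  | 1 => 1
  | 2 => 0
  | 3 => 3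
  | _ => 4

def ns : ℕ → ℕ
  | 0 => 8
  | 1 => 7
  | 2 => 6
  | 3 => 5
  | 4 => 3
  | _ => 0

/-- the orbit at level `lvl`: all points except the earlier base points -/
def orb (lvl : ℕ) : Finset (Fin 12) :=
  Finset.univ.filter fun ω => ∀ i < lvl, ω ≠ base i

def isOne (h : P) : Bool := (List.finRange 12).all fun i => decide (h i = i)

def sift : ℕ → ℕ → P → Bool
  | 0, _, h => isOne h
  | fuel + 1, lvl, h =>
    decide (h (base lvl) ∈ orb lvl) && sift fuel (lvl + 1) ((tr lvl (h (base lvl)))⁻¹ * h)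

set_option maxRecDepth 100000 in
theorem sift_all : ∀ lvl < 5, ∀ j : Fin 8, j.val < ns lvl → ∀ ω ∈ orb lvl,
    sift (4 - lvl) (lvl + 1) ((tr lvl (gen j ω))⁻¹ * gen j * tr lvl ω) = true := by
  decide +kernel

set_option maxRecDepth 100000 in
theorem trw_lt : ∀ lvl < 5, ∀ ω : Fin 12, ∀ j ∈ trw lvl ω, j.val < ns lvl := by
  decide +kernel

set_option maxRecDepth 100000 in
theorem gen_fix : ∀ j < 6, ∀ i < j, ∀ m : Fin 8, m.val < ns j → gen m (base i) = base i := by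
  decide +kernel

set_option maxRecDepth 100000 in
theorem orb_closed : ∀ lvl < 5, ∀ j : Fin 8, j.val < ns lvl → ∀ ω ∈ orb lvl, gen j ω ∈ orb lvl := by
  decide +kernel

set_option maxRecDepth 100000 in
theorem tr_base : ∀ lvl < 5, ∀ ω ∈ orb lvl, tr lvl ω (base lvl) = ω := by
  decide +kernel

set_option maxRecDepth 100000 in
theorem base_mem : ∀ lvl < 5, base lvl ∈ orb lvl := by
  decide +kernel

set_option maxRecDepth 100000 in
theorem orb_card : ∀ lvl < 5, (orb lvl).card = 12 - lvl := by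
  decide +kernel

theorem tr_one : ∀ lvl < 5, tr lvl (base lvl) = 1 := by
  intro lvl hlvl
  interval_cases lvl <;> rfl

theorem ns_anti : ∀ lvl < 5, ns (lvl + 1) ≤ ns lvl := by decide

theorem ns_le : ∀ lvl, ns lvl ≤ 8 := by
  intro lvl
  rcases lvl with _ | _ | _ | _ | _ | _ <;> simp [ns]

/-- The subgroup generated by the first `n` generators. -/
def K (n : ℕ) : Subgroup P := Subgroup.closure (gen '' {j | j.val < n})

theorem K_mono {m n : ℕ} (h : m ≤ n) : K m ≤ K n := by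
  apply Subgroup.closure_mono
  apply Set.image_mono
  intro j hj
  exact lt_of_lt_of_le hj h

theorem gen_mem {n : ℕ} (j : Fin 8) (hj : j.val < n) : gen j ∈ K n :=
  Subgroup.subset_closure ⟨j, hj, rfl⟩

theorem K_zero : K 0 = ⊥ := by
  rw [K]
  have : {j : Fin 8 | j.val < 0} = ∅ := by
    ext j; simp
  rw [this, Set.image_empty, Subgroup.closure_empty]

theorem isOne_sound {h : P} (hh : isOne h = true) : h = 1 := by
  ext i
  rw [isOne, List.all_eq_true] at hh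
  have := hh i (List.mem_finRange i)
  simpa using congrArg Fin.val (of_decide_eq_true this)

theorem tr_mem {lvl : ℕ} (hlvl : lvl < 5) (ω : Fin 12) : tr lvl ω ∈ K (ns lvl) := by
  rw [tr]
  apply Subgroup.list_prod_mem
  intro x hx
  rw [List.mem_map] at hx
  obtain ⟨j, hj, rfl⟩ := hx
  exact gen_mem j (trw_lt lvl hlvl ω j hj)

theorem sift_sound : ∀ (fuel lvl : ℕ) (h : P), lvl + fuel = 5 → sift fuel lvl h = true →
    h ∈ K (ns lvl) := by
  intro fuel
  induction fuel with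
  | zero =>
    intro lvl h _ hs
    rw [sift] at hs
    rw [isOne_sound hs]
    exact Subgroup.one_mem _
  | succ fuel ih =>
    intro lvl h hl hs
    rw [sift, Bool.and_eq_true] at hs
    have hlvl : lvl < 5 := by omega
    have h1 := ih (lvl + 1) _ (by omega) hs.2
    have h2 : h = tr lvl (h (base lvl)) * ((tr lvl (h (base lvl)))⁻¹ * h) := by group
    rw [h2]
    exact Subgroup.mul_mem _ (tr_mem hlvl _) (K_mono (ns_anti lvl hlvl) h1)

theorem K_fix {i j : ℕ} (hij : i < j) (hj : j < 6) : ∀ k ∈ K (ns j), k (base i) = base i := by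
  have hle : K (ns j) ≤ MulAction.stabilizer P (base i) := by
    rw [K, Subgroup.closure_le]
    rintro x ⟨m, hm, rfl⟩
    exact gen_fix j hj i hij m hm
  intro k hk
  exact hle hk

/-- The image set of generators, as needed by the generic step. -/
theorem step_hyps (lvl : ℕ) (hlvl : lvl < 5) :
    (∀ s ∈ gen '' {j : Fin 8 | j.val < ns lvl}, ∀ ω ∈ orb lvl, s ω ∈ orb lvl) ∧
    (∀ s ∈ gen '' {j : Fin 8 | j.val < ns lvl}, ∀ ω ∈ orb lvl,
      (tr lvl (s ω))⁻¹ * s * tr lvl ω ∈ K (ns (lvl + 1))) := by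
  constructor
  · rintro s ⟨j, hj, rfl⟩ ω hω
    exact orb_closed lvl hlvl j hj ω hω
  · rintro s ⟨j, hj, rfl⟩ ω hω
    have h := sift_all lvl hlvl j hj ω hω
    exact sift_sound (4 - lvl) (lvl + 1) _ (by omega) h

theorem card_K_step (lvl : ℕ) (hlvl : lvl < 5) :
    Nat.card (K (ns lvl)) = (12 - lvl) * Nat.card (K (ns (lvl + 1))) := by
  obtain ⟨h1, h2⟩ := step_hyps lvl hlvl
  have := card_closure_eq (gen '' {j : Fin 8 | j.val < ns lvl}) (K (ns (lvl + 1))) (base lvl) (orb lvl)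
    (tr lvl) (base_mem lvl hlvl) (tr_one lvl hlvl) (fun ω _ => tr_mem hlvl ω)
    (tr_base lvl hlvl) h1 (K_mono (ns_anti lvl hlvl))
    (K_fix (Nat.lt_succ_self lvl) (by omega)) h2
  rw [orb_card lvl hlvl] at this
  exact this

theorem card_K8 : Nat.card (K 8) = 95040 := by
  have h0 := card_K_step 0 (by norm_num)
  have h1 := card_K_step 1 (by norm_num)
  have h2 := card_K_step 2 (by norm_num)
  have h3 := card_K_step 3 (by norm_num)
  have h4 := card_K_step 4 (by norm_num)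
  have h5 : Nat.card (K (ns 5)) = 1 := by
    show Nat.card (K 0) = 1
    rw [K_zero]; simp
  simp only [ns] at h0 h1 h2 h3 h4 h5
  rw [h0, h1, h2, h3, h4, h5]

theorem card_K7 : Nat.card (K 7) = 7920 := by
  have h1 := card_K_step 1 (by norm_num)
  have h2 := card_K_step 2 (by norm_num)
  have h3 := card_K_step 3 (by norm_num)
  have h4 := card_K_step 4 (by norm_num)
  have h5 : Nat.card (K (ns 5)) = 1 := by
    show Nat.card (K 0) = 1
    rw [K_zero]; simp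
  simp only [ns] at h1 h2 h3 h4 h5
  rw [h1, h2, h3, h4, h5]

theorem stab_K8 : K 8 ⊓ MulAction.stabilizer P (2 : Fin 12) = K 7 := by
  obtain ⟨h1, h2⟩ := step_hyps 0 (by norm_num)
  exact stabilizer_eq (gen '' {j : Fin 8 | j.val < ns 0}) (K (ns 1)) (base 0) (orb 0)
    (tr 0) (base_mem 0 (by norm_num)) (tr_one 0 (by norm_num)) h1
    (K_mono (ns_anti 0 (by norm_num))) (K_fix (Nat.lt_succ_self 0) (by norm_num)) h2

/-- the base as an embedding -/
def baseEmb : Fin 5 ↪ Fin 12 := ⟨fun i => base i.val, by decide⟩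

theorem K8_five_transitive : MulAction.IsMultiplyPretransitive (K 8) (Fin 12) 5 := by
  apply multiply_pretransitive_of_chain (K 8) 5 baseEmb
  intro j p hp
  have hj : j.val < 5 := j.isLt
  have hpO : p ∈ orb j.val := by
    rw [orb, Finset.mem_filter]
    refine ⟨Finset.mem_univ _, fun i hi => ?_⟩
    exact hp ⟨i, by omega⟩ (by exact hi)
  refine ⟨tr j.val p, K_mono (ns_le _) (tr_mem hj p), ?_, ?_⟩
  · intro i hi
    exact K_fix (show i.val < j.val from hi) (by omega) _ (tr_mem hj p)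
  · exact tr_base j.val hj p hpO

/-! The generators of the statement are the table permutations. -/

set_option maxRecDepth 100000 in
theorem eq_s : Equiv.swap (3 : Fin 12) 5 * Equiv.swap (3 : Fin 12) 4 * Equiv.swap (6 : Fin 12) 8 * Equiv.swap (6 : Fin 12) 7 * Equiv.swap (9 : Fin 12) 11 * Equiv.swap (9 : Fin 12) 10 = gen 3 := by
  decide +kernel
set_option maxRecDepth 100000 in
theorem eq_t : Equiv.swap (3 : Fin 12) 9 * Equiv.swap (3 : Fin 12) 6 * Equiv.swap (4 : Fin 12) 10 * Equiv.swap (4 : Fin 12) 7 * Equiv.swap (5 : Fin 12) 11 * Equiv.swap (5 : Fin 12) 8 = gen 4 := by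
  decide +kernel
set_option maxRecDepth 100000 in
theorem eq_u : Equiv.swap (4 : Fin 12) 9 * Equiv.swap (4 : Fin 12) 5 * Equiv.swap (4 : Fin 12) 6 * Equiv.swap (7 : Fin 12) 10 * Equiv.swap (7 : Fin 12) 11 * Equiv.swap (7 : Fin 12) 8 = gen 0 := by
  decide +kernel
set_option maxRecDepth 100000 in
theorem eq_v : Equiv.swap (4 : Fin 12) 11 * Equiv.swap (4 : Fin 12) 5 * Equiv.swap (4 : Fin 12) 7 * Equiv.swap (6 : Fin 12) 8 * Equiv.swap (6 : Fin 12) 9 * Equiv.swap (6 : Fin 12) 10 = gen 1 := by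
  decide +kernel
set_option maxRecDepth 100000 in
theorem eq_w : Equiv.swap (4 : Fin 12) 8 * Equiv.swap (4 : Fin 12) 5 * Equiv.swap (4 : Fin 12) 10 * Equiv.swap (6 : Fin 12) 7 * Equiv.swap (6 : Fin 12) 9 * Equiv.swap (6 : Fin 12) 11 = gen 2 := by
  decide +kernel
set_option maxRecDepth 100000 in
theorem eq_x1 : Equiv.swap (0 : Fin 12) 3 * Equiv.swap (6 : Fin 12) 7 * Equiv.swap (8 : Fin 12) 10 * Equiv.swap (9 : Fin 12) 11 = gen 5 := by
  decide +kernel
set_option maxRecDepth 100000 in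
theorem eq_x2 : Equiv.swap (0 : Fin 12) 1 * Equiv.swap (6 : Fin 12) 9 * Equiv.swap (7 : Fin 12) 10 * Equiv.swap (8 : Fin 12) 11 = gen 6 := by
  decide +kernel
set_option maxRecDepth 100000 in
theorem eq_x3 : Equiv.swap (1 : Fin 12) 2 * Equiv.swap (6 : Fin 12) 11 * Equiv.swap (7 : Fin 12) 9 * Equiv.swap (8 : Fin 12) 10 = gen 7 := by
  decide +kernel

theorem closure8 : Subgroup.closure ({gen 3, gen 4, gen 0, gen 1, gen 2, gen 5, gen 6, gen 7} : Set P) = K 8 := by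
  apply le_antisymm
  · rw [Subgroup.closure_le]
    intro x hx
    simp only [Set.mem_insert_iff, Set.mem_singleton_iff] at hx
    rcases hx with rfl | rfl | rfl | rfl | rfl | rfl | rfl | rfl <;> exact gen_mem _ (by decide)
  · rw [K, Subgroup.closure_le]
    rintro x ⟨j, -, rfl⟩
    apply Subgroup.subset_closure
    fin_cases j <;> simp

theorem closure7 : Subgroup.closure ({gen 3, gen 4, gen 0, gen 1, gen 2, gen 5, gen 6} : Set P) = K 7 := by
  apply le_antisymm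
  · rw [Subgroup.closure_le]
    intro x hx
    simp only [Set.mem_insert_iff, Set.mem_singleton_iff] at hx
    rcases hx with rfl | rfl | rfl | rfl | rfl | rfl | rfl <;> exact gen_mem _ (by decide)
  · rw [K, Subgroup.closure_le]
    rintro x ⟨j, hj, rfl⟩
    apply Subgroup.subset_closure
    fin_cases j <;> first | (exfalso; revert hj; decide) | simp

theorem card_emb : Nat.card (Fin 5 ↪ Fin 12) = 95040 := by
  rw [Nat.card_eq_fintype_card, Fintype.card_embedding_eq]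
  simp [Nat.descFactorial]

theorem K8_sharp (y : Fin 5 ↪ Fin 12) : MulAction.stabilizer (K 8) y = ⊥ := by
  have h1 : (MulAction.stabilizer (K 8) y).index = Nat.card (Fin 5 ↪ Fin 12) :=
    @MulAction.index_stabilizer_of_transitive (K 8) _ _ _ y K8_five_transitive
  have h2 := Subgroup.index_mul_card (MulAction.stabilizer (K 8) y)
  rw [h1, card_emb, card_K8] at h2
  have h3 : Nat.card (MulAction.stabilizer (K 8) y) = 1 := by omega
  exact Subgroup.card_eq_one.mp h3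

/-- An explicit construction of the Mathieu groups of degrees 11 and 12. On the points 0, …, 11 let s = (3 4 5)(6 7 8)(9 10 11), t = (3 6 9)(4 7 10)(5 8 11), u = (4 6 5 9)(7 8 11 10), v = (4 7 5 11)(6 10 9 8), w = (4 10 5 8)(6 11 9 7), x₁ = (0 3)(6 7)(8 10)(9 11), x₂ = (0 1)(6 9)(7 10)(8 11), x₃ = (1 2)(6 11)(7 9)(8 10) (each written as a product of transpositions). Then the group M₁₂ generated by all eight permutations is sharply 5-transitive on the 12 points and has order 95040, and the group M₁₁ generated by the first seven has order 7920 and is the stabilizer of the point 2 in M₁₂. -/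
theorem result
    (s t u v w x₁ x₂ x₃ : Equiv.Perm (Fin 12))
    (hs : s = Equiv.swap (3 : Fin 12) 5 * Equiv.swap (3 : Fin 12) 4 * Equiv.swap (6 : Fin 12) 8 * Equiv.swap (6 : Fin 12) 7 * Equiv.swap (9 : Fin 12) 11 * Equiv.swap (9 : Fin 12) 10) (ht : t = Equiv.swap (3 : Fin 12) 9 * Equiv.swap (3 : Fin 12) 6 * Equiv.swap (4 : Fin 12) 10 * Equiv.swap (4 : Fin 12) 7 * Equiv.swap (5 : Fin 12) 11 * Equiv.swap (5 : Fin 12) 8)
    (hu : u = Equiv.swap (4 : Fin 12) 9 * Equiv.swap (4 : Fin 12) 5 * Equiv.swap (4 : Fin 12) 6 * Equiv.swap (7 : Fin 12) 10 * Equiv.swap (7 : Fin 12) 11 * Equiv.swap (7 : Fin 12) 8) (hv : v = Equiv.swap (4 : Fin 12) 11 * Equiv.swap (4 : Fin 12) 5 * Equiv.swap (4 : Fin 12) 7 * Equiv.swap (6 : Fin 12) 8 * Equiv.swap (6 : Fin 12) 9 * Equiv.swap (6 : Fin 12) 10) (hw : w = Equiv.swap (4 : Fin 12) 8 * Equiv.swap (4 : Fin 12) 5 * Equiv.swap (4 : Fin 12) 10 * Equiv.swap (6 : Fin 12) 7 * Equiv.swap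 (6 : Fin 12) 9 * Equiv.swap (6 : Fin 12) 11)
    (hx₁ : x₁ = Equiv.swap (0 : Fin 12) 3 * Equiv.swap (6 : Fin 12) 7 * Equiv.swap (8 : Fin 12) 10 * Equiv.swap (9 : Fin 12) 11) (hx₂ : x₂ = Equiv.swap (0 : Fin 12) 1 * Equiv.swap (6 : Fin 12) 9 * Equiv.swap (7 : Fin 12) 10 * Equiv.swap (8 : Fin 12) 11)
    (hx₃ : x₃ = Equiv.swap (1 : Fin 12) 2 * Equiv.swap (6 : Fin 12) 11 * Equiv.swap (7 : Fin 12) 9 * Equiv.swap (8 : Fin 12) 10)
    (M₁₂ M₁₁ : Subgroup (Equiv.Perm (Fin 12))) (hM₁₂ : M₁₂ = Subgroup.closure {s, t, u, v, w, x₁, x₂, x₃})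
    (hM₁₁ : M₁₁ = Subgroup.closure {s, t, u, v, w, x₁, x₂}) :
    MulAction.IsMultiplyPretransitive M₁₂ (Fin 12) 5 ∧ (∀ y : Fin 5 ↪ Fin 12, MulAction.stabilizer M₁₂ y = ⊥) ∧
    Nat.card M₁₂ = 95040 ∧ Nat.card M₁₁ = 7920 ∧
    M₁₁ = M₁₂ ⊓ MulAction.stabilizer (Equiv.Perm (Fin 12)) (2 : Fin 12) := by
  rw [eq_s] at hs
  rw [eq_t] at ht
  rw [eq_u] at hu
  rw [eq_v] at hv
  rw [eq_w] at hw
  rw [eq_x1] at hx₁
  rw [eq_x2] at hx₂
  rw [eq_x3] at hx₃
  subst hs ht hu hv hw hx₁ hx₂ hx₃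
  rw [closure8] at hM₁₂
  rw [closure7] at hM₁₁
  subst hM₁₂ hM₁₁
  exact ⟨K8_five_transitive, K8_sharp, card_K8, card_K7, stab_K8.symm⟩

end Cfsg.Agent.S3362
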