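import Cfsg.Statements.S3370
import Cfsg.Agent.Lib.Helper56_GL23
import Cfsg.Agent.Lib.Helper50_UniqueInv
import Cfsg.Agent.Lib.Helper50_UniqueInv2

set_option autoImplicit false
open Cfsg

namespace Cfsg.Agent.S3370

open Cfsg.Agent.Lib.Helper56_GL23
open Cfsg.Agent.Lib.Helper50_UniqueInv (UniqueInvolution)

/-! ### Number theory -/


/-- an odd divisor of a power of two is one -/
theorem odd_dvd_two_pow {c j : ℕ} (hc : Odd c) (h : c ∣ 2 ^ j) : c = 1 := by
  have hcop : Nat.Coprime c (2 ^ j) := by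
    apply Nat.Coprime.pow_right
    rw [Nat.coprime_two_right]
    exact hc
  exact Nat.Coprime.eq_one_of_dvd hcop h

/-- for odd `q`, `q ^ (2 i + 1) - 1 = (q - 1) * c` with `c` odd -/
theorem odd_cofactor_sub (q : ℕ) (hq : Odd q) (i : ℕ) :
    ∃ c, Odd c ∧ q ^ (2 * i + 1) = (q - 1) * c + 1 := by
  have hq1 : 1 ≤ q := hq.pos
  induction i with
  | zero => exact ⟨1, odd_one, by simp; omega⟩
  | succ i ih =>
    obtain ⟨c, hc, h⟩ := ih
    refine ⟨q ^ 2 * c + (q + 1), ?_, ?_⟩
    · have h1 : Odd (q ^ 2 * c) := (hq.pow).mul hc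
      have h2 : Even (q + 1) := hq.add_one
      exact h1.add_even h2
    · have e : q ^ (2 * (i + 1) + 1) = q ^ 2 * q ^ (2 * i + 1) := by
        rw [← pow_add]; congr 1; ring
      rw [e, h]
      obtain ⟨r, rfl⟩ : ∃ r, q = r + 1 := ⟨q - 1, by omega⟩
      simp only [Nat.add_sub_cancel]
      ring

/-- for odd `p`, `p ^ (2 i + 1) + 1 = (p + 1) * c` with `c` odd -/
theorem odd_cofactor_add (p : ℕ) (hp : Odd p) (i : ℕ) :
    ∃ c, Odd c ∧ p ^ (2 * i + 1) + 1 = (p + 1) * c := by
  have hp1 : 1 ≤ p := hp.pos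
  induction i with
  | zero => exact ⟨1, odd_one, by simp⟩
  | succ i ih =>
    obtain ⟨c, hc, h⟩ := ih
    have hc1 : 1 ≤ c := hc.pos
    have hge : p - 1 ≤ p ^ 2 * c := by
      calc p - 1 ≤ p := Nat.sub_le _ _
        _ = p * 1 := (mul_one p).symm
        _ ≤ p * (p * c) := Nat.mul_le_mul_left _ (by nlinarith)
        _ = p ^ 2 * c := by ring
    refine ⟨p ^ 2 * c - (p - 1), ?_, ?_⟩
    · have h1 : Odd (p ^ 2 * c) := (hp.pow).mul hc
      have h2 : Even (p - 1) := by
        obtain ⟨r, hr⟩ := hp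
        exact ⟨r, by omega⟩
      exact Nat.Odd.sub_even hge h1 h2
    · have e : p ^ (2 * (i + 1) + 1) = p ^ 2 * p ^ (2 * i + 1) := by
        rw [← pow_add]; congr 1; ring
      have h' : p ^ (2 * i + 1) = (p + 1) * c - 1 := by omega
      rw [e, h']
      obtain ⟨r, rfl⟩ : ∃ r, p = r + 1 := ⟨p - 1, by omega⟩
      simp only [Nat.add_sub_cancel] at hge ⊢
      have h3 : 1 ≤ (r + 1 + 1) * c := by nlinarith
      zify [hge, h3]
      ring

/-- `2 ^ n - 1 = p ^ j` forces `j ≤ 1` -/
theorem nt_two (p n j : ℕ) (hp : p.Prime) (hn : 1 ≤ n) (h : 2 ^ n = p ^ j + 1) : j ≤ 1 := by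
  by_contra hj
  push Not at hj
  have hpodd : Odd p := by
    rcases hp.eq_two_or_odd' with rfl | ho
    · exfalso
      have h1 : 2 ∣ 2 ^ n := dvd_pow_self 2 (by omega)
      have h2 : 2 ∣ 2 ^ j := dvd_pow_self 2 (by omega)
      omega
    · exact ho
  rcases Nat.even_or_odd' j with ⟨i, rfl | rfl⟩
  · -- even exponent
    have hi : 1 ≤ i := by omega
    set t := p ^ i with ht
    have htodd : Odd t := hpodd.pow
    have e : p ^ (2 * i) = t * t := by rw [ht, ← pow_add]; congr 1; ring
    rw [e] at h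
    obtain ⟨r, hr⟩ := htodd
    have h4 : (t * t + 1) % 4 = 2 := by
      rw [hr]; ring_nf; omega
    have hn1 : n = 1 := by
      by_contra hne
      have : 4 ∣ 2 ^ n := by
        have : (2 : ℕ) ^ 2 ∣ 2 ^ n := pow_dvd_pow 2 (by omega)
        simpa using this
      omega
    rw [hn1] at h
    have ht1 : t = 1 := by nlinarith
    have : 2 ≤ p := hp.two_le
    have : 2 ^ i ≤ p ^ i := Nat.pow_le_pow_left this i
    have : 2 ≤ 2 ^ i := by
      calc 2 = 2 ^ 1 := by norm_num
        _ ≤ 2 ^ i := Nat.pow_le_pow_right (by norm_num) hi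
    omega
  · -- odd exponent
    have hi : 1 ≤ i := by omega
    obtain ⟨c, hc, hcf⟩ := odd_cofactor_add p hpodd i
    have hdvd : c ∣ 2 ^ n := by
      rw [h, hcf]; exact Dvd.intro_left _ rfl
    have hc1 := odd_dvd_two_pow hc hdvd
    rw [hc1, mul_one] at hcf
    have h2 : p ^ (2 * i + 1) = p := by omega
    have h3 : p ^ (2 * i + 1) = p ^ 1 := by rw [h2, pow_one]
    have := Nat.pow_right_injective hp.two_le h3
    omega

/-- `q ^ n - 1 = 2 ^ j` with `q` an odd prime forces `n = 1` or `q = 3, n = 2` -/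
theorem nt_odd (q n j : ℕ) (hq : q.Prime) (hq2 : q ≠ 2) (hn : 1 ≤ n) (h : q ^ n = 2 ^ j + 1) :
    n = 1 ∨ (q = 3 ∧ n = 2) := by
  have hqodd : Odd q := hq.odd_of_ne_two hq2
  have hq3 : 3 ≤ q := by
    have := hq.two_le
    omega
  rcases Nat.even_or_odd' n with ⟨i, rfl | rfl⟩
  · -- even exponent
    right
    have hi : 1 ≤ i := by omega
    obtain ⟨t, ht⟩ : ∃ t, t = q ^ i := ⟨_, rfl⟩
    have e : q ^ (2 * i) = t * t := by rw [ht, ← pow_add]; congr 1; ring
    rw [e] at h
    have ht3 : 3 ≤ t := by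
      calc 3 ≤ q := hq3
        _ = q ^ 1 := (pow_one q).symm
        _ ≤ q ^ i := Nat.pow_le_pow_right (by omega) hi
        _ = t := ht.symm
    have hfac : (t - 1) * (t + 1) = 2 ^ j := by
      obtain ⟨r, rfl⟩ : ∃ r, t = r + 1 := ⟨t - 1, by omega⟩
      simp only [Nat.add_sub_cancel]
      have : (r + 1) * (r + 1) = 2 ^ j + 1 := h
      nlinarith
    have hd1 : t - 1 ∣ 2 ^ j := Dvd.intro _ hfac
    have hd2 : t + 1 ∣ 2 ^ j := Dvd.intro_left _ hfac
    obtain ⟨a, _, ha⟩ := (Nat.dvd_prime_pow Nat.prime_two).mp hd1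
    obtain ⟨b, _, hb⟩ := (Nat.dvd_prime_pow Nat.prime_two).mp hd2
    have hab : 2 ^ b = 2 ^ a + 2 := by omega
    have ha1 : a = 1 := by
      by_contra hne
      have ha0 : a ≠ 0 := by
        intro h0; rw [h0] at ha; omega
      have ha2 : 2 ≤ a := by omega
      have hb2 : 2 ≤ b := by
        by_contra hb2
        have : b = 0 ∨ b = 1 := by omega
        rcases this with rfl | rfl
        · omega
        · omega
      have h4a : 4 ∣ 2 ^ a := by
        have : (2 : ℕ) ^ 2 ∣ 2 ^ a := pow_dvd_pow 2 ha2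
        simpa using this
      have h4b : 4 ∣ 2 ^ b := by
        have : (2 : ℕ) ^ 2 ∣ 2 ^ b := pow_dvd_pow 2 hb2
        simpa using this
      omega
    rw [ha1] at ha
    have ht' : t = 3 := by omega
    have hq' : q ∣ 3 := by
      rw [← ht', ht]; exact dvd_pow_self q (by omega)
    have hq3' : q = 3 := (Nat.prime_dvd_prime_iff_eq hq Nat.prime_three).mp hq'
    refine ⟨hq3', ?_⟩
    rw [hq3'] at ht
    have h3 : (3 : ℕ) ^ i = 3 ^ 1 := by rw [← ht, ht']; norm_num
    have := Nat.pow_right_injective (le_refl 2 |>.trans (by norm_num : 2 ≤ 3)) h3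
    omega
  · -- odd exponent
    left
    obtain ⟨c, hc, hcf⟩ := odd_cofactor_sub q hqodd i
    have hdvd : c ∣ 2 ^ j := by
      have : 2 ^ j = (q - 1) * c := by omega
      rw [this]; exact Dvd.intro_left _ rfl
    have hc1 := odd_dvd_two_pow hc hdvd
    rw [hc1, mul_one] at hcf
    have h2 : q ^ (2 * i + 1) = q := by omega
    have h3 : q ^ (2 * i + 1) = q ^ 1 := by rw [h2, pow_one]
    have := Nat.pow_right_injective hq.two_le h3
    omega


/-! ### The action -/


section
variable {q : ℕ} [Fact q.Prime] {V : Type*} [AddCommGroup V] [Module (ZMod q) V]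
    {G : Type*} [Group G] (ρ : G →* (V ≃ₗ[ZMod q] V))

theorem act_mul (g h : G) (v : V) : ρ (g * h) v = ρ g (ρ h v) := by
  rw [map_mul]; rfl

theorem act_one (v : V) : ρ 1 v = v := by rw [map_one]; rfl

theorem act_inv (g : G) (v : V) : ρ g⁻¹ (ρ g v) = v := by
  rw [← act_mul, inv_mul_cancel, act_one]

theorem act_ne_zero (g : G) {v : V} (hv : v ≠ 0) : ρ g v ≠ 0 := by
  intro h
  apply hv
  have := congrArg (ρ g⁻¹) h
  rwa [act_inv, map_zero] at this

/-- the stabilizer of a vector -/
def stab (v : V) : Subgroup G where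
  carrier := {g | ρ g v = v}
  mul_mem' := by
    intro a b ha hb
    simp only [Set.mem_ofPred_eq] at *
    rw [act_mul, hb, ha]
  one_mem' := act_one ρ v
  inv_mem' := by
    intro a ha
    simp only [Set.mem_ofPred_eq] at *
    have := act_inv ρ a v
    rwa [ha] at this

theorem mem_stab (v : V) (g : G) : g ∈ stab ρ v ↔ ρ g v = v := Iff.rfl

/-- orbit-stabilizer for a group transitive on the non-zero vectors -/
theorem card_eq [Finite G] [Finite V]
    (htrans : ∀ v w : V, v ≠ 0 → w ≠ 0 → ∃ g : G, ρ g v = w) (v₀ : V) (hv₀ : v₀ ≠ 0) :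
    Nat.card G = Nat.card (stab ρ v₀) * (Nat.card V - 1) := by
  rw [← Subgroup.card_mul_index (stab ρ v₀)]
  congr 1
  -- the cosets of the stabilizer correspond to the non-zero vectors
  have h1 : Nat.card {v : V // v ≠ 0} = Nat.card V - 1 := by
    classical
    have : Fintype V := Fintype.ofFinite V
    rw [Nat.card_eq_fintype_card, Nat.card_eq_fintype_card, Fintype.card_subtype_compl,
      Fintype.card_subtype_eq]
  rw [← h1, Subgroup.index_eq_card]
  apply Nat.card_congr
  refine Equiv.ofBijective (Quotient.lift (fun g : G => (⟨ρ g v₀, act_ne_zero ρ g hv₀⟩ : {v : V // v ≠ 0}))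
    ?_) ⟨?_, ?_⟩
  · intro a b hab
    have hab' : a⁻¹ * b ∈ stab ρ v₀ := QuotientGroup.leftRel_apply.mp hab
    rw [mem_stab, act_mul] at hab'
    apply Subtype.ext
    show ρ a v₀ = ρ b v₀
    have := congrArg (ρ a) hab'
    rw [← act_mul, mul_inv_cancel, act_one] at this
    exact this.symm
  · intro x y
    induction x using Quotient.inductionOn with | _ a => ?_
    induction y using Quotient.inductionOn with | _ b => ?_
    intro h
    apply Quotient.sound
    apply QuotientGroup.leftRel_apply.mpr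
    rw [mem_stab, act_mul]
    have h' : ρ a v₀ = ρ b v₀ := congrArg Subtype.val h
    rw [← h', act_inv]
  · rintro ⟨w, hw⟩
    obtain ⟨g, hg⟩ := htrans v₀ w hv₀ hw
    exact ⟨Quotient.mk _ g, Subtype.ext hg⟩

/-- the action as a `MulAction` -/
@[reducible] def actV : MulAction G V where
  smul g v := ρ g v
  one_smul := act_one ρ
  mul_smul := act_mul ρ

/-- case `|V| = p + 1`: the stabilizer of a non-zero vector is trivial -/
theorem stab_trivial_of_card [Finite G] [Finite V] (hρ : Function.Injective ρ)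
    (p : ℕ) [Fact p.Prime] (hG : IsPGroup p G) (hV : Nat.card V = p + 1)
    (v₀ : V) (hv₀ : v₀ ≠ 0) : Nat.card (stab ρ v₀) = 1 := by
  let _ : MulAction G V := actV ρ
  have hS : IsPGroup p (stab ρ v₀) := hG.to_subgroup _
  have hmod := hS.card_modEq_card_fixedPoints V
  rw [hV] at hmod
  -- the fixed points contain 0 and v₀
  have h0 : (0 : V) ∈ MulAction.fixedPoints (stab ρ v₀) V := by
    intro s
    show ρ s.1 0 = 0
    exact map_zero _
  have h1 : v₀ ∈ MulAction.fixedPoints (stab ρ v₀) V := by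
    intro s
    show ρ s.1 v₀ = v₀
    exact s.2
  have hge2 : 2 ≤ Nat.card (MulAction.fixedPoints (stab ρ v₀) V) := by
    have : Fintype (MulAction.fixedPoints (stab ρ v₀) V) := Fintype.ofFinite _
    rw [Nat.card_eq_fintype_card]
    have : 1 < Fintype.card (MulAction.fixedPoints (stab ρ v₀) V) := by
      rw [Fintype.one_lt_card_iff]
      exact ⟨⟨0, h0⟩, ⟨v₀, h1⟩, fun h => hv₀ (congrArg Subtype.val h).symm⟩
    omega
  have hle : Nat.card (MulAction.fixedPoints (stab ρ v₀) V) ≤ p + 1 := by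
    rw [← hV]
    exact Nat.card_le_card_of_injective _ Subtype.val_injective
  have hp2 : 2 ≤ p := (Fact.out : p.Prime).two_le
  have hfix : Nat.card (MulAction.fixedPoints (stab ρ v₀) V) = p + 1 := by
    have h3 : (p + 1) % p = Nat.card (MulAction.fixedPoints (stab ρ v₀) V) % p := hmod
    have h4 : (p + 1) % p = 1 := by
      rw [Nat.add_mod_left, Nat.mod_eq_of_lt (by omega)]
    rw [h4] at h3
    -- card ≡ 1 mod p, 2 ≤ card ≤ p + 1
    by_contra hne
    have hlt : Nat.card (MulAction.fixedPoints (stab ρ v₀) V) ≤ p := by omega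
    rcases Nat.lt_or_ge (Nat.card (MulAction.fixedPoints (stab ρ v₀) V)) p with h | h
    · rw [Nat.mod_eq_of_lt h] at h3; omega
    · have : Nat.card (MulAction.fixedPoints (stab ρ v₀) V) = p := by omega
      rw [this, Nat.mod_self] at h3; omega
  -- so every vector is fixed
  have heq : MulAction.fixedPoints (stab ρ v₀) V = Set.univ := by
    rw [Set.eq_univ_iff_ncard, ← Nat.card_coe_set_eq, hfix, hV]
  -- hence the stabilizer is trivial
  rw [Subgroup.card_eq_one, Subgroup.eq_bot_iff_forall]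
  intro s hs
  apply hρ
  apply LinearEquiv.ext
  intro v
  have hv : v ∈ MulAction.fixedPoints (stab ρ v₀) V := by rw [heq]; trivial
  have := hv ⟨s, hs⟩
  rw [act_one]
  exact this

/-- case `|V| = q`: every vector is a multiple of a fixed non-zero vector -/
theorem exists_smul_of_card [Finite V] (hV : Nat.card V = q) (v₀ : V) (hv₀ : v₀ ≠ 0) (v : V) :
    ∃ c : ZMod q, v = c • v₀ := by
  have hinj : Function.Injective (fun c : ZMod q => c • v₀) := by
    intro a b hab
    exact smul_left_injective (ZMod q) hv₀ hab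
  have : Fintype V := Fintype.ofFinite V
  have hbij : Function.Bijective (fun c : ZMod q => c • v₀) := by
    rw [Fintype.bijective_iff_injective_and_card]
    refine ⟨hinj, ?_⟩
    rw [ZMod.card, ← Nat.card_eq_fintype_card, hV]
  obtain ⟨c, hc⟩ := hbij.2 v
  exact ⟨c, hc.symm⟩

theorem stab_trivial_of_dim_one [Finite V] (hρ : Function.Injective ρ) (hV : Nat.card V = q)
    (v₀ : V) (hv₀ : v₀ ≠ 0) : ∀ s : G, ρ s v₀ = v₀ → s = 1 := by
  intro s hs
  apply hρ
  apply LinearEquiv.ext
  intro v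
  obtain ⟨c, rfl⟩ := exists_smul_of_card hV v₀ hv₀ v
  rw [map_smul, hs, act_one]

theorem cyclic_of_dim_one [Finite G] [Finite V] (hρ : Function.Injective ρ) (hV : Nat.card V = q) :
    IsCyclic G := by
  obtain ⟨v₀, hv₀⟩ : ∃ v₀ : V, v₀ ≠ 0 := by
    by_contra hcon
    push Not at hcon
    have : Subsingleton V := ⟨fun a b => by rw [hcon a, hcon b]⟩
    have h1 : Nat.card V = 1 := Nat.card_unique
    have := (Fact.out : q.Prime).two_le
    omega
  have hex : ∀ g : G, ∃ c : ZMod q, ρ g v₀ = c • v₀ := fun g =>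
    exists_smul_of_card hV v₀ hv₀ (ρ g v₀)
  choose χ hχ using hex
  have huniq : ∀ a b : ZMod q, a • v₀ = b • v₀ → a = b := fun a b hab =>
    smul_left_injective (ZMod q) hv₀ hab
  let f : G →* ZMod q :=
    { toFun := χ
      map_one' := by
        apply huniq
        rw [← hχ, act_one, one_smul]
      map_mul' := by
        intro a b
        apply huniq
        rw [← hχ, act_mul, hχ b, map_smul, hχ a, smul_smul, mul_comm] }
  have hf : Function.Injective f := by
    intro a b hab
    have hab' : χ a = χ b := hab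
    have h1 : ρ a v₀ = ρ b v₀ := by rw [hχ a, hχ b, hab']
    have h2 : ρ (b⁻¹ * a) v₀ = v₀ := by rw [act_mul, h1, act_inv]
    have := stab_trivial_of_dim_one ρ hρ hV v₀ hv₀ _ h2
    exact (inv_mul_eq_one.mp this).symm
  exact isCyclic_of_injective_ringHom f hf

end


/-! ### The case `|V| = 9` -/



section
variable {V : Type*} [AddCommGroup V] [Module (ZMod 3) V]
    {G : Type*} [Group G] (ρ : G →* (V ≃ₗ[ZMod 3] V))

theorem finrank_nine [Finite V] (hV : Nat.card V = 9) : Module.finrank (ZMod 3) V = 2 := by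
  have h := Module.natCard_eq_pow_finrank (K := ZMod 3) (V := V)
  rw [hV, Nat.card_eq_fintype_card, ZMod.card] at h
  have h2 : (3 : ℕ) ^ 2 = 3 ^ Module.finrank (ZMod 3) V := by rw [← h]; norm_num
  exact (Nat.pow_right_injective (by norm_num : 2 ≤ 3) h2).symm

/-- the matrix of `ρ g` -/
noncomputable def mat (b : Module.Basis (Fin 2) (ZMod 3) V) : G →* M3 where
  toFun g := LinearMap.toMatrix b b (ρ g : V →ₗ[ZMod 3] V)
  map_one' := by
    rw [map_one]
    exact LinearMap.toMatrix_one b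
  map_mul' g h := by
    rw [map_mul]
    exact LinearMap.toMatrix_mul b _ _

theorem mat_mulVec (b : Module.Basis (Fin 2) (ZMod 3) V) (g : G) (v : V) :
    (mat ρ b g).mulVec (b.equivFun v) = b.equivFun (ρ g v) := by
  have := LinearMap.toMatrix_mulVec_repr b b (ρ g : V →ₗ[ZMod 3] V) v
  exact this

theorem mat_injective (hρ : Function.Injective ρ) (b : Module.Basis (Fin 2) (ZMod 3) V) :
    Function.Injective (mat ρ b) := by
  rw [injective_iff_map_eq_one]
  intro g hg
  apply hρ
  rw [map_one]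
  apply LinearEquiv.ext
  intro v
  apply b.equivFun.injective
  rw [← mat_mulVec, hg, Matrix.one_mulVec]
  rfl

theorem mat_det_ne_zero (b : Module.Basis (Fin 2) (ZMod 3) V) (g : G) : (mat ρ b g).det ≠ 0 := by
  intro h
  have h1 : mat ρ b g * mat ρ b g⁻¹ = 1 := by rw [← map_mul, mul_inv_cancel, map_one]
  have h2 := congrArg Matrix.det h1
  rw [Matrix.det_mul, h, zero_mul, Matrix.det_one] at h2
  exact zero_ne_one h2

end


section
variable {V : Type*} [AddCommGroup V] [Module (ZMod 3) V] [Finite V]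
    {G : Type*} [Group G] [Finite G] (ρ : G →* (V ≃ₗ[ZMod 3] V))

theorem case9 (hG : IsPGroup 2 G) (hρ : Function.Injective ρ)
    (htrans : ∀ v w : V, v ≠ 0 → w ≠ 0 → ∃ g : G, ρ g v = w) (hV : Nat.card V = 9) :
    (IsCyclic G ∧ Nat.card G = 8) ∨ Nonempty (G ≃* QuaternionGroup 2) ∨
      (Cfsg.IsQuasiDihedral G ∧ Nat.card G = 16) := by
  have hfr := finrank_nine hV
  have hfin : Module.Finite (ZMod 3) V := Module.Finite.of_finite
  let b := Module.finBasisOfFinrankEq (ZMod 3) V hfr
  obtain ⟨μ, hμ⟩ : ∃ μ : G →* M3, μ = mat ρ b := ⟨_, rfl⟩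
  have hμinj : Function.Injective μ := hμ ▸ mat_injective ρ hρ b
  have hdet : ∀ g, (μ g).det ≠ 0 := hμ ▸ mat_det_ne_zero ρ b
  have hact : ∀ g v, (μ g).mulVec (b.equivFun v) = b.equivFun (ρ g v) := hμ ▸ mat_mulVec ρ b
  have hco0 : ∀ v : V, v ≠ 0 → b.equivFun v ≠ 0 := by
    intro v hv h
    exact hv (b.equivFun.map_eq_zero_iff.mp h)
  have hμ1 : ∀ g : G, μ g = 1 → g = 1 := fun g h => hμinj (by rw [h, map_one])
  -- (a) elements of stabilizers are involutions
  have hsq : ∀ v : V, v ≠ 0 → ∀ s : G, ρ s v = v → s ^ 2 = 1 := by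
    intro v hv s hs
    have h6 : (μ s) ^ 6 = 1 :=
      pow_six_of_fix (μ s) (hdet s) (b.equivFun v) (hco0 v hv) (by rw [hact, hs])
    have h6' : s ^ 6 = 1 := hμinj (by rw [map_pow, h6, map_one])
    obtain ⟨k, hk⟩ := hG s
    have h1 : orderOf s ∣ 6 := orderOf_dvd_of_pow_eq_one h6'
    have h2 : orderOf s ∣ 2 ^ k := orderOf_dvd_of_pow_eq_one hk
    have h3 : orderOf s ∣ Nat.gcd 6 (2 ^ k) := Nat.dvd_gcd h1 h2
    have h4 : Nat.gcd 6 (2 ^ k) ∣ 2 := by
      have hc : Nat.Coprime 3 (2 ^ k) := Nat.Coprime.pow_right k (by norm_num)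
      have h6 : (6 : ℕ) = 3 * 2 := by norm_num
      rw [h6, Nat.Coprime.gcd_mul_left_cancel _ hc]
      exact Nat.gcd_dvd_left _ _
    exact orderOf_dvd_iff_pow_eq_one.mp (h3.trans h4)
  -- (b) stabilizers have at most one non-trivial element
  have hstab2 : ∀ v : V, v ≠ 0 → ∀ s₁ s₂ : G, ρ s₁ v = v → ρ s₂ v = v → s₁ ≠ 1 → s₂ ≠ 1 →
      s₁ = s₂ := by
    intro v hv s₁ s₂ h₁ h₂ hne₁ hne₂
    apply hμinj
    have e₁ := hsq v hv s₁ h₁
    have e₂ := hsq v hv s₂ h₂
    have e₁₂ := hsq v hv (s₁ * s₂) (by rw [act_mul, h₂, h₁])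
    apply invol_eq_of_fix (μ s₁) ?_ ?_ (b.equivFun v) (hco0 v hv) ?_ (μ s₂) ?_ ?_ ?_ ?_
    · rw [← map_mul, ← pow_two, e₁, map_one]
    · intro h; exact hne₁ (hμ1 _ h)
    · rw [hact, h₁]
    · rw [← map_mul, ← pow_two, e₂, map_one]
    · intro h; exact hne₂ (hμ1 _ h)
    · rw [hact, h₂]
    · rw [← map_mul, ← map_mul, ← pow_two, e₁₂, map_one]
  have hstabcard : ∀ v : V, v ≠ 0 → Nat.card (stab ρ v) ≤ 2 := by
    intro v hv
    classical
    have hinj : Function.Injective (fun s : stab ρ v => if s = 1 then (0 : Fin 2) else 1) := by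
      intro s₁ s₂ h
      by_cases h1 : s₁ = 1 <;> by_cases h2 : s₂ = 1
      · rw [h1, h2]
      · simp [h1, h2] at h
      · simp [h1, h2] at h
      · apply Subtype.ext
        apply hstab2 v hv s₁ s₂ s₁.2 s₂.2
        · intro h; exact h1 (Subtype.ext h)
        · intro h; exact h2 (Subtype.ext h)
    have := Nat.card_le_card_of_injective _ hinj
    simpa using this
  -- a non-zero vector
  obtain ⟨v₀, hv₀⟩ : ∃ v₀ : V, v₀ ≠ 0 := by
    by_contra hcon
    push Not at hcon
    have : Subsingleton V := ⟨fun a b => by rw [hcon a, hcon b]⟩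
    have h1 : Nat.card V = 1 := Nat.card_unique
    omega
  have hcard := card_eq ρ htrans
  rw [hV] at hcard
  have hpos : 0 < Nat.card (stab ρ v₀) := Nat.card_pos
  have h12 : Nat.card (stab ρ v₀) = 1 ∨ Nat.card (stab ρ v₀) = 2 := by
    have := hstabcard v₀ hv₀
    omega
  rcases h12 with h1 | h2
  · -- `|G| = 8`
    have hc8 : Nat.card G = 8 := by rw [hcard v₀ hv₀, h1]
    have hstab1 : ∀ v : V, v ≠ 0 → ∀ s : G, ρ s v = v → s = 1 := by
      intro v hv s hs
      have h := hcard v hv
      rw [hc8] at h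
      have h1 : Nat.card (stab ρ v) = 1 := by omega
      rw [Subgroup.card_eq_one, Subgroup.eq_bot_iff_forall] at h1
      exact h1 s hs
    have key : ∀ u : G, u ^ 2 = 1 → u ≠ 1 → μ u = -1 := by
      intro u hu hu1
      apply invol_eq_neg_one (μ u)
      · rw [← map_mul, ← pow_two, hu, map_one]
      · intro h; exact hu1 (hμ1 _ h)
      · intro w hw hfix
        apply hu1
        apply hstab1 (b.equivFun.symm w)
        · intro h
          apply hw
          have := congrArg b.equivFun h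
          rwa [LinearEquiv.apply_symm_apply, map_zero] at this
        · apply b.equivFun.injective
          rw [← hact, LinearEquiv.apply_symm_apply, hfix]
    have huniq : UniqueInvolution G := by
      intro u v hu hv hu1 hv1
      apply hμinj
      rw [key u hu hu1, key v hv hv1]
    rcases Cfsg.Agent.Lib.Helper50_UniqueInv2.isCyclic_or_quaternion hG huniq with hcyc | ⟨k, hk, ⟨e⟩⟩
    · exact Or.inl ⟨hcyc, hc8⟩
    · right; left
      have hcq : Nat.card G = 4 * 2 ^ k := by
        rw [Nat.card_congr e.toEquiv, Nat.card_eq_fintype_card, QuaternionGroup.card]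
      have hk1 : k = 1 := by
        have h2 : (2 : ℕ) ^ k = 2 ^ 1 := by omega
        exact Nat.pow_right_injective (le_refl 2) h2
      subst hk1
      exact ⟨e⟩
  · -- `|G| = 16`
    have hc16 : Nat.card G = 16 := by rw [hcard v₀ hv₀, h2]
    have hpow16 : ∀ g : G, g ^ 16 = 1 := fun g => hc16 ▸ pow_card_eq_one'
    obtain ⟨t, ht, ht1⟩ : ∃ t : G, ρ t v₀ = v₀ ∧ t ≠ 1 := by
      by_contra hcon
      push Not at hcon
      have : stab ρ v₀ = ⊥ := by
        rw [Subgroup.eq_bot_iff_forall]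
        exact hcon
      rw [← Subgroup.card_eq_one] at this
      omega
    have ht2 : t ^ 2 = 1 := hsq v₀ hv₀ t ht
    have ht2' : μ t * μ t = 1 := by rw [← map_mul, ← pow_two, ht2, map_one]
    have ht1' : μ t ≠ 1 := fun h => ht1 (hμ1 _ h)
    have htfix : (μ t).mulVec (b.equivFun v₀) = b.equivFun v₀ := by rw [hact, ht]
    obtain ⟨w₂, hw₂, hne₁, hne₂⟩ :=
      exists_non_eigenvector (μ t) ht2' ht1' (b.equivFun v₀) (hco0 v₀ hv₀) htfix
    have hv₂ : b.equivFun.symm w₂ ≠ 0 := by
      intro h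
      apply hw₂
      have := congrArg b.equivFun h
      rwa [LinearEquiv.apply_symm_apply, map_zero] at this
    obtain ⟨g, hg⟩ := htrans v₀ (b.equivFun.symm w₂) hv₀ hv₂
    have hgw : (μ g).mulVec (b.equivFun v₀) = w₂ := by
      rw [hact, hg, LinearEquiv.apply_symm_apply]
    have hx : ∃ x : G, (μ x) ^ 4 = -1 := by
      rcases exists_order_eight (μ t) ht2' ht1' (b.equivFun v₀) (hco0 v₀ hv₀) htfix (μ g)
        (by rw [hgw]; exact hne₁) (by rw [hgw]; exact hne₂)
        (by rw [← map_pow, hpow16, map_one])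
        (by rw [← map_mul, ← map_pow, hpow16, map_one]) with h | h
      · exact ⟨g, h⟩
      · exact ⟨t * g, by rw [map_mul]; exact h⟩
    obtain ⟨x, hx⟩ := hx
    have hx4 : ¬ x ^ 2 ^ 2 = 1 := by
      intro h
      have : (μ x) ^ 4 = 1 := by
        rw [← map_pow]
        have : x ^ 4 = 1 := by simpa using h
        rw [this, map_one]
      rw [hx] at this
      exact one_ne_neg_one this.symm
    have hx8 : x ^ 2 ^ (2 + 1) = 1 := by
      apply hμinj
      have e : (2 : ℕ) ^ (2 + 1) = 4 * 2 := by norm_num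
      rw [map_pow, e, pow_mul, hx, neg_one_sq, map_one]
    have hox : orderOf x = 2 ^ 3 := orderOf_eq_prime_pow hx4 hx8
    have hot : orderOf t = 2 := orderOf_eq_prime ht2 ht1
    have htinv : t⁻¹ = t := by
      rw [inv_eq_iff_mul_eq_one, ← pow_two, ht2]
    have hrel : t * x * t⁻¹ = x ^ 3 := by
      apply hμinj
      rw [htinv, map_mul, map_mul, map_pow]
      apply semidihedral_rel (μ x) hx (μ t) ht2' ht1'
      · intro h
        rw [h] at htfix
        exact neg_one_no_fix _ (hco0 v₀ hv₀) htfix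
      · rw [← map_mul, ← map_pow, hpow16, map_one]
    right; right
    refine ⟨⟨3, le_refl 3, by rw [hc16]; norm_num, x, t, hox, hot, ?_⟩, hc16⟩
    have e : (2 : ℕ) ^ (3 - 1) - 1 = 3 := by norm_num
    rw [e]
    exact hrel

end

/-- Let q be a prime, V a non-trivial finite vector space over the field with q elements, and G a non-trivial finite p-group (p prime) acting faithfully and linearly on V and transitively on the non-zero vectors. Then either q = 2 and G has prime order p = |V| − 1; or p = 2, V has q elements with q = 2^m + 1 and G is cyclic of order 2^m; or p = 2, q = 3, V has 9 elements and G is cyclic of order 8, quaternion of order 8, or semidihedral of order 16. -/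
theorem result (q : ℕ) [Fact q.Prime] {V : Type*} [AddCommGroup V] [Module (ZMod q) V] [Finite V] [Nontrivial V]
    {G : Type*} [Group G] [Finite G] [Nontrivial G] (p : ℕ) [Fact p.Prime] (hG : IsPGroup p G)
    (ρ : G →* (V ≃ₗ[ZMod q] V)) (hρ : Function.Injective ρ)
    (htrans : ∀ v w : V, v ≠ 0 → w ≠ 0 → ∃ g : G, ρ g v = w) :
    (q = 2 ∧ p = Nat.card V - 1 ∧ Nat.card G = p) ∨
    (p = 2 ∧ Nat.card V = q ∧ (∃ m : ℕ, q = 2 ^ m + 1 ∧ Nat.card G = 2 ^ m) ∧ IsCyclic G) ∨
    (p = 2 ∧ q = 3 ∧ Nat.card V = 9 ∧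
      ((IsCyclic G ∧ Nat.card G = 8) ∨ Nonempty (G ≃* QuaternionGroup 2) ∨ (Cfsg.IsQuasiDihedral G ∧ Nat.card G = 16))) := by
  have hq : q.Prime := Fact.out
  have hp : p.Prime := Fact.out
  have hfin : Module.Finite (ZMod q) V := Module.Finite.of_finite
  obtain ⟨n, hn⟩ : ∃ n, n = Module.finrank (ZMod q) V := ⟨_, rfl⟩
  have hVcard : Nat.card V = q ^ n := by
    have h := Module.natCard_eq_pow_finrank (K := ZMod q) (V := V)
    rwa [Nat.card_zmod, ← hn] at h
  have hV2 : 2 ≤ Nat.card V := Finite.one_lt_card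
  have hn1 : 1 ≤ n := by
    by_contra h
    have : n = 0 := by omega
    rw [this, pow_zero] at hVcard
    omega
  obtain ⟨v₀, hv₀⟩ := exists_ne (0 : V)
  have hcard := card_eq ρ htrans v₀ hv₀
  obtain ⟨k, hk⟩ := hG.exists_card_eq
  have hdvd : Nat.card V - 1 ∣ p ^ k := by
    rw [← hk, hcard]
    exact Dvd.intro_left _ rfl
  obtain ⟨j, _, hj⟩ := (Nat.dvd_prime_pow hp).mp hdvd
  have hqn : q ^ n = p ^ j + 1 := by
    rw [← hVcard]
    omega
  by_cases hq2 : q = 2
  · -- `q = 2`
    rw [hq2] at hqn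
    have hj1 := nt_two p n j hp hn1 hqn
    have hj01 : j = 0 ∨ j = 1 := by omega
    rcases hj01 with rfl | rfl
    · -- `|V| = 2`: impossible
      exfalso
      rw [pow_zero] at hj
      have hVq : Nat.card V = q := by omega
      rw [hj, mul_one] at hcard
      have htop : stab ρ v₀ = ⊤ := (Subgroup.card_eq_iff_eq_top _).mp hcard.symm
      have hall : ∀ g : G, g = 1 := by
        intro g
        apply stab_trivial_of_dim_one ρ hρ hVq v₀ hv₀ g
        have : g ∈ stab ρ v₀ := by rw [htop]; trivial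
        exact this
      obtain ⟨g, hg⟩ := exists_ne (1 : G)
      exact hg (hall g)
    · -- `|V| = p + 1`
      left
      rw [pow_one] at hj
      have hVp : Nat.card V = p + 1 := by omega
      have hst := stab_trivial_of_card ρ hρ p hG hVp v₀ hv₀
      refine ⟨hq2, hj.symm, ?_⟩
      rw [hcard, hst, hj, one_mul]
  · -- `q` odd
    right
    have hqodd : Odd q := hq.odd_of_ne_two hq2
    have hq3 : 3 ≤ q := by
      have := hq.two_le
      omega
    have hp2 : p = 2 := by
      have hN : Odd (q ^ n) := hqodd.pow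
      have hev : Even (p ^ j) := by
        obtain ⟨r, hr⟩ := hN
        exact ⟨r, by omega⟩
      have hj0 : j ≠ 0 := by
        rintro rfl
        rw [pow_zero] at hev
        exact absurd hev (by decide)
      have := (Nat.even_pow.mp hev).1
      exact (Nat.Prime.even_iff hp).mp this
    subst hp2
    rcases nt_odd q n j hq hq2 hn1 hqn with h1 | ⟨h3, h2⟩
    · -- `|V| = q`
      left
      subst h1
      rw [pow_one] at hVcard hqn
      have hst : Nat.card (stab ρ v₀) = 1 := by
        rw [Subgroup.card_eq_one, Subgroup.eq_bot_iff_forall]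
        intro s hs
        exact stab_trivial_of_dim_one ρ hρ hVcard v₀ hv₀ s hs
      refine ⟨rfl, hVcard, ⟨j, hqn, ?_⟩, cyclic_of_dim_one ρ hρ hVcard⟩
      rw [hcard, hst, hj, one_mul]
    · -- `|V| = 9`
      right
      subst h3
      subst h2
      have hV9 : Nat.card V = 9 := by rw [hVcard]; norm_num
      exact ⟨rfl, rfl, hV9, case9 ρ hG hρ htrans hV9⟩

end Cfsg.Agent.S3370
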