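import Mathlib
import Cfsg.Statements.S3380
import Cfsg.Agent.S0519
import Cfsg.Agent.S1337
import Cfsg.Agent.Lib.Helper50_UniqueInv2
import Cfsg.Agent.Lib.Helper4_FixedSpaces

set_option autoImplicit false
open Cfsg

namespace Cfsg.Agent.S3380

open Cfsg.Agent.Lib.Helper20_PGroupOdd Cfsg.Agent.Lib.Helper4_NormalFour
open Cfsg.Agent.Lib.Helper4_FixedSpaces

/-- A `p`-group which is not cyclic, generalized quaternion, dihedral or quasidihedral has a good
pair: a normal `C_p × C_p`. -/
theorem exists_good_pair {G : Type*} [Group G] [Finite G] (p : ℕ) [Fact p.Prime]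
    (hG : IsPGroup p G) (hnc : ¬ IsCyclic G) (hnq : ∀ n : ℕ, ¬ Nonempty (G ≃* QuaternionGroup n))
    (hnd : ∀ n : ℕ, ¬ Nonempty (G ≃* DihedralGroup n)) (hnsd : ¬ Cfsg.IsQuasiDihedral G) :
    ∃ z t : G, Good p (⊤ : Subgroup G) z t := by
  classical
  by_cases hp2 : p = 2
  · subst hp2
    have hnf : HasNormalFour G := by
      by_contra hno
      have hn : ∀ A : Subgroup G, A.Normal → IsMulCommutative A → IsCyclic A := by
        intro A hAn hAc
        by_contra hAnc
        apply hno
        have hex : ∃ u v : A, u ^ 2 = 1 ∧ v ^ 2 = 1 ∧ u ≠ 1 ∧ v ≠ 1 ∧ u ≠ v := by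
          by_contra hcon
          push Not at hcon
          apply hAnc
          open scoped IsMulCommutative in
          apply Cfsg.Agent.Lib.Helper54_TwoGroups.isCyclic_of_unique_involution (hG.to_subgroup A)
          intro a b ha hb ha1 hb1
          exact hcon a b ha hb ha1 hb1
        obtain ⟨u, v, hu2, hv2, hu1, hv1, huv⟩ := hex
        have hcomm : ∀ x ∈ A, ∀ y ∈ A, x * y = y * x := fun x hx y hy =>
          congrArg Subtype.val (hAc.is_comm.comm (⟨x, hx⟩ : A) ⟨y, hy⟩)
        exact hasNormalFour_of_two_involutions hG A hcomm u.1 v.1 u.2 v.2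
          (by simpa using congrArg Subtype.val hu2) (by simpa using congrArg Subtype.val hv2)
          (fun h => hu1 (Subtype.ext h)) (fun h => hv1 (Subtype.ext h))
          (fun h => huv (Subtype.ext h))
      have hni : ¬ Cfsg.Agent.Lib.Helper50_UniqueInv.UniqueInvolution G := by
        intro hu
        rcases Cfsg.Agent.Lib.Helper50_UniqueInv2.isCyclic_or_quaternion hG hu with h | ⟨k, _, h⟩
        · exact hnc h
        · exact hnq _ h
      unfold Cfsg.Agent.Lib.Helper50_UniqueInv.UniqueInvolution at hni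
      push Not at hni
      obtain ⟨u, v, hu2, hv2, hu1, hv1, huv⟩ := hni
      -- a central involution
      have htop : (⊤ : Subgroup G) ≠ ⊥ := by
        intro h
        have : u ∈ (⊤ : Subgroup G) := Subgroup.mem_top u
        rw [h, Subgroup.mem_bot] at this
        exact hu1 this
      obtain ⟨c, _, hcZ, hc1⟩ :=
        Cfsg.Agent.Lib.Helper32_PGroup.exists_mem_center_of_normal hG (⊤ : Subgroup G) htop
      obtain ⟨m, hm⟩ := (IsPGroup.iff_orderOf.mp hG) c
      have hm1 : 1 ≤ m := by
        by_contra h0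
        have : m = 0 := by omega
        rw [this, pow_zero, orderOf_eq_one_iff] at hm
        exact hc1 hm
      set z := c ^ 2 ^ (m - 1) with hz
      have hz2 : z ^ 2 = 1 := invol_sq hm hm1
      have hz1 : z ≠ 1 := invol_ne_one hm hm1
      have hzZ : z ∈ Subgroup.center G := Subgroup.pow_mem _ hcZ _
      obtain ⟨w, hw2, hw1, hwz⟩ : ∃ w : G, w ^ 2 = 1 ∧ w ≠ 1 ∧ w ≠ z := by
        by_cases h : u = z
        · exact ⟨v, hv2, hv1, fun h' => huv (h.trans h'.symm)⟩
        · exact ⟨u, hu2, hu1, h⟩
      obtain ⟨V, hVcard, hV2, hVm⟩ := Cfsg.Agent.S0221.exists_four z w hz2 hw2 hz1 hw1 hwz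
        (Subgroup.mem_center_iff.mp hzZ w)
      have hVc : IsMulCommutative V := by
        refine ⟨⟨fun x y => Subtype.ext ?_⟩⟩
        exact comm_of_sq_eq_one (hV2 x x.2) (hV2 y y.2) (hV2 _ (V.mul_mem x.2 y.2))
      have hVnc : ¬ IsCyclic V := by
        intro hcyc
        obtain ⟨g, hg⟩ := hcyc.exists_generator
        have hord : orderOf g = 4 := by
          rw [orderOf_eq_card_of_forall_mem_zpowers hg, hVcard]
        have hg2 : g ^ 2 = 1 := Subtype.ext (by simpa using hV2 g g.2)
        have := orderOf_dvd_of_pow_eq_one hg2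
        rw [hord] at this
        omega
      obtain ⟨_, hQ | hD | hSD⟩ := Cfsg.Agent.S0519.result 2 hG hn ⟨V, hVc, hVnc⟩
      · obtain ⟨n, hn'⟩ := hQ
        exact hnq n hn'
      · obtain ⟨n, _, hn'⟩ := hD
        exact hnd n hn'
      · exact hnsd hSD
    obtain ⟨z, t, hzc, hz1, hz2, ht2, ht1, htz, hconj⟩ := hnf
    refine ⟨z, t, Subgroup.mem_top _, Subgroup.mem_top _, hzc, orderOf_eq_prime hz2 hz1, ht2, ?_, ?_⟩
    · intro hmem
      rcases (mem_zpowers_of_sq_eq_one hz2).mp hmem with h1 | h1
      · exact ht1 h1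
      · exact htz h1
    · intro g
      rcases hconj g with h1 | h1
      · rw [h1, mul_inv_cancel]; exact Subgroup.one_mem _
      · rw [h1, mul_inv_cancel_right]; exact Subgroup.mem_zpowers z
  · have : (⊤ : Subgroup G).Normal := inferInstance
    apply exists_good hp2 hG ⊤
    intro hcyc
    exact hnc (isCyclic_of_surjective (Subgroup.topEquiv : (⊤ : Subgroup G) ≃* G).toMonoidHom
        (Subgroup.topEquiv : (⊤ : Subgroup G) ≃* G).surjective)

/-- Let a finite p-group G act faithfully and irreducibly on a non-trivial finite vector space V over the field with q elements (q prime), and suppose G is not cyclic, generalized quaternion, dihedral or semidihedral. Then G has a subgroup H of index p and V is the direct sum of p subspaces, each invariant under H, on none of which H acts faithfully, and which every element of G outside H permutes in a single p-cycle. -/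
theorem result
    (q : ℕ) [Fact q.Prime] {V : Type*} [AddCommGroup V] [Module (ZMod q) V] [Finite V] [Nontrivial V]
    {G : Type*} [Group G] [Finite G] (p : ℕ) [Fact p.Prime] (hG : IsPGroup p G)
    (ρ : G →* (V ≃ₗ[ZMod q] V)) (hρ : Function.Injective ρ)
    (hirr : ∀ W : Submodule (ZMod q) V, (∀ g : G, ∀ w ∈ W, ρ g w ∈ W) → W = ⊥ ∨ W = ⊤)
    (hnc : ¬ IsCyclic G) (hnq : ∀ n : ℕ, ¬ Nonempty (G ≃* QuaternionGroup n))
    (hnd : ∀ n : ℕ, ¬ Nonempty (G ≃* DihedralGroup n)) (hnsd : ¬ Cfsg.IsQuasiDihedral G) :
    ∃ (H : Subgroup G) (W : Fin p → Submodule (ZMod q) V), H.index = p ∧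
      iSup W = ⊤ ∧ iSupIndep W ∧
      (∀ h ∈ H, ∀ i, ∀ w ∈ W i, ρ h w ∈ W i) ∧
      (∀ i, ∃ h ∈ H, h ≠ 1 ∧ ∀ w ∈ W i, ρ h w = w) ∧
      ∀ g : G, g ∉ H → ∃ σ : Equiv.Perm (Fin p), orderOf σ = p ∧ ∀ i, (W i).map (ρ g : V →ₗ[ZMod q] V) = W (σ i) := by
  classical
  have hpp : p.Prime := Fact.out
  have hqq : q.Prime := Fact.out
  obtain ⟨z, t, hg⟩ := exists_good_pair p hG hnc hnq hnd hnsd
  have hzc : z ∈ Subgroup.center G := hg.2.2.1
  have hzp : z ^ p = 1 := hg.z_pow
  have htp : t ^ p = 1 := hg.2.2.2.2.1
  have hz1 : z ≠ 1 := by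
    intro h
    have := hg.2.2.2.1
    rw [h, orderOf_one] at this
    exact hpp.one_lt.ne this
  have htz : t ∉ Subgroup.zpowers z := hg.2.2.2.2.2.1
  -- central elements have no fixed vectors
  have hcent : ∀ c : G, c ∈ Subgroup.center G → c ≠ 1 → fixS ρ c = ⊥ := by
    intro c hc hc1
    rcases hirr (fixS ρ c) (fun g w hw => fixS_invariant_of_central ρ hc g hw) with h | h
    · exact h
    · exfalso
      apply hc1
      apply hρ
      rw [map_one]
      ext v
      have : v ∈ fixS ρ c := by rw [h]; exact Submodule.mem_top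
      exact this
  have hfix : fixS ρ z = ⊥ := hcent z hzc hz1
  -- `p ≠ q`
  have hpq : p ≠ q := by
    intro hpq
    subst hpq
    let _ : MulAction G V := MulAction.compHom V ρ
    have hsmul : ∀ (g : G) (v : V), g • v = ρ g v := fun g v => rfl
    have hdvd : p ∣ Nat.card V := by
      have hV : Nat.card V = p ^ (Module.finrank (ZMod p) V) := by
        have : Module.Finite (ZMod p) V := Module.Finite.of_finite
        rw [Module.natCard_eq_pow_finrank (K := ZMod p), Nat.card_zmod]
      rw [hV]
      apply dvd_pow_self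
      have : 0 < Module.finrank (ZMod p) V := Module.finrank_pos
      omega
    have h0 : (0 : V) ∈ MulAction.fixedPoints G V := by
      intro g
      rw [hsmul, map_zero]
    obtain ⟨b, hb, hb0⟩ := hG.exists_fixed_point_of_prime_dvd_card_of_fixed_point V hdvd h0
    have hbz : b ∈ fixS ρ z := by
      rw [mem_fixS]
      exact hb z
    rw [hfix, Submodule.mem_bot] at hbz
    exact hb0 hbz.symm
  -- the subgroup `H`
  set H := Subgroup.centralizer ({t} : Set G) with hH
  have hxel_comm : ∀ (h : G), h ∈ H → ∀ i : ZMod p, h * xel p z t i = xel p z t i * h := by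
    intro h hh i
    have h1 : h * t = t * h := Subgroup.mem_centralizer_singleton_iff.mp hh
    have h2 := Subgroup.mem_center_iff.mp (pw_mem_center p hzc i) h
    unfold xel
    rw [← mul_assoc, h1, mul_assoc, h2, mul_assoc]
  have hxel_ne : ∀ i : ZMod p, xel p z t i ≠ 1 := by
    intro i h
    apply htz
    unfold xel at h
    have : t = (pw p z i)⁻¹ := eq_inv_of_mul_eq_one_left h
    rw [this]
    exact Subgroup.inv_mem _ (Subgroup.pow_mem _ (Subgroup.mem_zpowers z) _)
  have hxel_mem : ∀ i : ZMod p, xel p z t i ∈ H := by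
    intro i
    rw [hH, Subgroup.mem_centralizer_singleton_iff]
    have h2 := Subgroup.mem_center_iff.mp (pw_mem_center p hzc i) t
    unfold xel
    rw [mul_assoc, ← h2]
  -- conjugation shifts the index
  have hconj : ∀ g : G, ∃ c : ZMod p, (c = 0 ↔ g ∈ H) ∧
      ∀ i : ZMod p, g * xel p z t i * g⁻¹ = xel p z t (i + c) := by
    intro g
    obtain ⟨k, hk⟩ := Subgroup.mem_zpowers_iff.mp (hg.2.2.2.2.2.2 g)
    refine ⟨(k : ZMod p), ?_, ?_⟩
    · rw [hH, Subgroup.mem_centralizer_singleton_iff]
      constructor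
      · intro h0
        have : z ^ k = 1 := by rw [← pw_intCast p hzp, h0, pw_zero]
        rw [this] at hk
        have h1 : g * t * g⁻¹ = t := by
          rw [← mul_inv_eq_one]; exact hk.symm
        rw [mul_inv_eq_iff_eq_mul] at h1
        exact h1
      · intro hgt
        have h1 : g * t * g⁻¹ * t⁻¹ = 1 := by
          rw [hgt, mul_inv_cancel_right, mul_inv_cancel]
        rw [h1] at hk
        have h2 := orderOf_dvd_iff_zpow_eq_one.mpr hk
        rw [hg.2.2.2.1] at h2
        exact (ZMod.intCast_zmod_eq_zero_iff_dvd k p).mpr h2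
    · intro i
      have hzk : z ^ k ∈ Subgroup.center G := Subgroup.zpow_mem _ hzc _
      have h1 : g * t * g⁻¹ = z ^ k * t := by
        rw [hk]; group
      have h2 := Subgroup.mem_center_iff.mp (pw_mem_center p hzc i) g⁻¹
      unfold xel
      calc g * (t * pw p z i) * g⁻¹ = g * t * (pw p z i * g⁻¹) := by simp only [mul_assoc]
        _ = g * t * (g⁻¹ * pw p z i) := by rw [h2]
        _ = (g * t * g⁻¹) * pw p z i := by simp only [mul_assoc]
        _ = z ^ k * t * pw p z i := by rw [h1]
        _ = t * (z ^ k * pw p z i) := by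
          rw [← Subgroup.mem_center_iff.mp hzk t, mul_assoc]
        _ = t * pw p z (i + k) := by
          rw [add_comm, pw_add p hzp, pw_intCast p hzp]
  -- `t` is not central, so `H` has index `p`
  have hidx : H.index = p := by
    obtain ⟨r, hr, hcard⟩ := Cfsg.Agent.S1337.card_inf_centralizer hg (⊤ : Subgroup G)
    rw [inf_top_eq] at hcard
    have h1 := H.card_mul_index
    rw [Subgroup.card_top] at hcard
    have hHpos : 0 < Nat.card H := Nat.card_pos
    have hr' : H.index = r := by
      have : Nat.card H * H.index = Nat.card H * r := by rw [h1, hcard]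
      exact Nat.eq_of_mul_eq_mul_left hHpos this
    rcases (Nat.dvd_prime hpp).mp hr with h2 | h2
    · exfalso
      -- `H = ⊤`: then `t` is central and `V = 0`
      have hHtop : H = ⊤ := by
        rw [← Subgroup.index_eq_one, hr', h2]
      have htc : ∀ i : ZMod p, xel p z t i ∈ Subgroup.center G := by
        intro i
        rw [Subgroup.mem_center_iff]
        intro g
        have : g ∈ H := by rw [hHtop]; exact Subgroup.mem_top g
        exact hxel_comm g this i
      have hsup := iSup_fixS ρ p hzc hzp htp hfix hpq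
      have hbot : ⨆ i : ZMod p, fixS ρ (xel p z t i) = ⊥ := by
        rw [iSup_eq_bot]
        intro i
        exact hcent _ (htc i) (hxel_ne i)
      rw [hbot] at hsup
      obtain ⟨v, hv⟩ := exists_ne (0 : V)
      have : v ∈ (⊥ : Submodule (ZMod q) V) := by rw [hsup]; exact Submodule.mem_top
      exact hv ((Submodule.mem_bot _).mp this)
    · rw [hr', h2]
  -- the family of subspaces
  have : NeZero p := ⟨hpp.ne_zero⟩
  let e : Fin p ≃ ZMod p := (ZMod.finEquiv p).toEquiv
  refine ⟨H, fun i => fixS ρ (xel p z t (e i)), hidx, ?_, ?_, ?_, ?_, ?_⟩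
  · have := iSup_fixS ρ p hzc hzp htp hfix hpq
    rw [← this]
    exact Equiv.iSup_comp (g := fun j => fixS ρ (xel p z t j)) e
  · exact (iSupIndep_fixS ρ p hzc hzp hfix hpq).comp e.injective
  · intro h hh i w hw
    rw [mem_fixS] at hw ⊢
    rw [← rho_mul, ← hxel_comm h hh, rho_mul, hw]
  · intro i
    exact ⟨xel p z t (e i), hxel_mem _, hxel_ne _, fun w hw => hw⟩
  · intro g hgH
    obtain ⟨c, hc0, hc⟩ := hconj g
    have hcne : c ≠ 0 := fun h => hgH (hc0.mp h)
    let σ : Equiv.Perm (Fin p) := e.trans ((Equiv.addRight c).trans e.symm)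
    have hσ : ∀ i, σ i = e.symm (e i + c) := fun i => rfl
    have hσpow : ∀ (n : ℕ) (i : Fin p), (σ ^ n) i = e.symm (e i + n • c) := by
      intro n
      induction n with
      | zero => intro i; simp
      | succ n ih =>
        intro i
        rw [pow_succ', Equiv.Perm.mul_apply, ih, hσ, Equiv.apply_symm_apply, succ_nsmul, add_assoc]
    refine ⟨σ, ?_, ?_⟩
    · apply orderOf_eq_prime
      · ext i
        rw [hσpow]
        have : p • c = 0 := by
          rw [nsmul_eq_mul]
          simp
        rw [this, add_zero, Equiv.symm_apply_apply]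
        rfl
      · intro h
        have h1 := congrArg (fun τ : Equiv.Perm (Fin p) => e (τ (e.symm 0))) h
        simp only [hσ, Equiv.apply_symm_apply, zero_add, Equiv.Perm.coe_one, id_eq] at h1
        exact hcne h1
    · intro i
      rw [map_fixS, hc, hσ]
      show fixS ρ (xel p z t (e i + c)) = fixS ρ (xel p z t (e (e.symm (e i + c))))
      rw [Equiv.apply_symm_apply]

end Cfsg.Agent.S3380
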