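import Cfsg.Statements.S3371
import Cfsg.Agent.S3380
import Cfsg.Agent.Lib.Helper4_HTDefs
import Cfsg.Agent.Lib.Helper89_HT_STAB
import Cfsg.Agent.Lib.Helper89_HT_PEQ
import Cfsg.Agent.Lib.Helper17_HT_KEY
import Cfsg.Agent.Lib.Helper70_HT_IRR
import Cfsg.Agent.Lib.Helper41_HT_SEMI
import Cfsg.Agent.Lib.Helper89_HT_CENT
import Cfsg.Agent.Lib.Helper68_HT_CYCQ
import Cfsg.Agent.Lib.Helper54_HT_DIHGRP
import Cfsg.Agent.Lib.Helper54_HT_SDGRP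
import Cfsg.Agent.Lib.Helper12_HT_DL1
import Cfsg.Agent.Lib.Helper82_HT_DL2
import Cfsg.Agent.Lib.Helper61_HT_NT
import Cfsg.Agent.Lib.Helper61_HT_ORB2
import Cfsg.Agent.Lib.Helper17_HT_ODD
import Cfsg.Agent.Lib.Helper82_HT_TWOS
import Cfsg.Agent.Lib.Helper69_HT_TWOCOUNT
import Cfsg.Agent.Lib.Helper41_HT_TF1
import Cfsg.Agent.Lib.Helper69_HT_TF2

/-!
# S3371: Passman's theorem on half-transitive `p`-groups of linear maps

Architect: helper4.  Packages (pending/helper4/S3371_packages.lean.txt): helper89 (STAB, PEQ, CENT),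
helper17 (KEY, ODD), helper70 (IRR), helper41 (SEMI, TF1), helper68 (CYCQ), helper54 (DIHGRP, SDGRP),
helper12 (DL1), helper82 (DL2, TWOS), helper61 (NT, ORB2), helper69 (TWOCOUNT, TF2).
Rides on the landed S3380 (imprimitivity), S0016 and Maschke.
-/

set_option autoImplicit false
open Cfsg

namespace Cfsg.Agent.S3371

open Cfsg.Agent.Lib.Helper4_HTDefs
open Cfsg.Agent.Lib.Helper89_HT_STAB Cfsg.Agent.Lib.Helper89_HT_PEQ Cfsg.Agent.Lib.Helper17_HT_KEY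
  Cfsg.Agent.Lib.Helper70_HT_IRR Cfsg.Agent.Lib.Helper41_HT_SEMI Cfsg.Agent.Lib.Helper89_HT_CENT
  Cfsg.Agent.Lib.Helper68_HT_CYCQ Cfsg.Agent.Lib.Helper54_HT_DIHGRP Cfsg.Agent.Lib.Helper54_HT_SDGRP
  Cfsg.Agent.Lib.Helper12_HT_DL1 Cfsg.Agent.Lib.Helper82_HT_DL2 Cfsg.Agent.Lib.Helper61_HT_NT
  Cfsg.Agent.Lib.Helper61_HT_ORB2 Cfsg.Agent.Lib.Helper17_HT_ODD Cfsg.Agent.Lib.Helper82_HT_TWOS
  Cfsg.Agent.Lib.Helper69_HT_TWOCOUNT Cfsg.Agent.Lib.Helper41_HT_TF1 Cfsg.Agent.Lib.Helper69_HT_TF2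

theorem result (q : ℕ) [Fact q.Prime] {V : Type*} [AddCommGroup V] [Module (ZMod q) V] [Finite V] [Nontrivial V]
    {G : Type*} [Group G] [Finite G] (p : ℕ) [Fact p.Prime] (hG : IsPGroup p G)
    (ρ : G →* (V ≃ₗ[ZMod q] V)) (hρ : Function.Injective ρ)
    (hhalf : ∀ v w : V, v ≠ 0 → w ≠ 0 → Nat.card {u : V | ∃ g : G, ρ g v = u} = Nat.card {u : V | ∃ g : G, ρ g w = u}) :
    ((IsCyclic G ∨ ∃ n : ℕ, Nonempty (G ≃* QuaternionGroup n)) ∧ ∀ v : V, v ≠ 0 → ∀ g : G, ρ g v = v → g = 1) ∨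
    (Nat.card V = q ^ 2 ∧ ∃ m : ℕ, q = 2 ^ m - 1 ∧
      (Nonempty (G ≃* DihedralGroup (2 ^ m)) ∨ (Cfsg.IsQuasiDihedral G ∧ Nat.card G = 2 ^ (m + 2)))) ∨
    (Nat.card V = q ^ 2 ∧ (∃ m : ℕ, q = 2 ^ m + 1) ∧
      ∃ e : V ≃ₗ[ZMod q] (Fin 2 → ZMod q), ∀ f : (Fin 2 → ZMod q) ≃ₗ[ZMod q] (Fin 2 → ZMod q),
        (∃ g : G, f = e.symm.trans ((ρ g).trans e)) ↔
        ∃ a s : ZMod q, a ≠ 0 ∧ (s = 1 ∨ s = -1) ∧
          ((∀ v, f v = ![a * v 0, s * a⁻¹ * v 1]) ∨ (∀ v, f v = ![s * a⁻¹ * v 1, a * v 0]))) ∨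
    (Nat.card V = 81 ∧ q = 3 ∧ p = 2) := by
  classical
  have hq : q.Prime := Fact.out
  obtain ⟨s, hs⟩ := exists_s ρ hhalf
  obtain ⟨d, hd⟩ : ∃ d : ℕ, Nat.card V = q ^ d := by
    refine ⟨Module.finrank (ZMod q) V, ?_⟩
    have := Module.natCard_eq_pow_finrank (K := ZMod q) (V := V)
    rw [this, Nat.card_zmod]
  -- the case p = q
  by_cases hpq : p = q
  · subst hpq
    have h1 := trivial_of_eq hG ρ hρ s hs
    left
    refine ⟨Or.inl ?_, fun v _ g _ => h1 g⟩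
    have : Subsingleton G := ⟨fun a b => by rw [h1 a, h1 b]⟩
    exact isCyclic_of_subsingleton
  -- the semiregular case
  by_cases hs1 : s = 1
  · subst hs1
    have hsemi : ∀ v : V, v ≠ 0 → ∀ g : G, ρ g v = v → g = 1 := by
      intro v hv g hg
      have hc := hs v hv
      have hsub : Subsingleton (stab ρ v) := (Nat.card_eq_one_iff_unique.mp hc).1
      have := Subsingleton.elim (⟨g, hg⟩ : stab ρ v) 1
      exact congrArg Subtype.val this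
    left
    exact ⟨cyc_or_quat p hG hpq ρ hsemi, hsemi⟩
  -- from now on s ≠ 1
  have hirr : Irr ρ := irr p hG hpq ρ s hs1
    (fun W₁ W₂ h1 h2 hc hn1 hn2 => key ρ hρ s hs W₁ W₂ h1 h2 hc hn1 hn2)
  have hcent := cent ρ hρ hirr
  have hna : ∃ a b : G, a * b ≠ b * a := by
    by_contra hcon
    push Not at hcon
    exact comm_false ρ s hs hs1 hcent hcon
  have hnc : ¬ IsCyclic G := by
    intro hc
    obtain ⟨a, b, hab⟩ := hna
    obtain ⟨g, hg⟩ := hc.exists_generator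
    obtain ⟨i, rfl⟩ := Subgroup.mem_zpowers_iff.mp (hg a)
    obtain ⟨j, rfl⟩ := Subgroup.mem_zpowers_iff.mp (hg b)
    exact hab (by rw [← zpow_add, ← zpow_add, add_comm])
  have hnq : ∀ n : ℕ, ¬ Nonempty (G ≃* QuaternionGroup n) :=
    fun n ⟨e⟩ => quat_false p hG ρ s hs hs1 hcent n e
  -- the common treatment of dihedral and quasidihedral groups
  have hDL : ∀ (z : G) (N k : ℕ), p = 2 → 2 ≤ k → N = 2 ^ k → DihLike G z N →
      Nat.card V = q ^ 2 ∧ q + 1 = N := by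
    intro z N k hp2 hk hN hdl
    obtain ⟨hs2, hz⟩ := dl1 ρ s hs hs1 hcent z N hdl
    subst hs2
    have hq2 : q ≠ 2 := fun h => hpq (by rw [hp2, h])
    obtain ⟨Q, hVQ, hNQ⟩ := dl2 hq2 ρ hs z hz hdl.2.2.2.2.1
    rw [hdl.2.2.2.2.2] at hNQ
    have hQq : Q = q := nt1 hq d Q k (by rw [← hd, hVQ]) hk (by rw [← hNQ, hN])
    rw [hQq] at hVQ hNQ
    exact ⟨hVQ, hNQ.symm⟩
  by_cases hdih : ∃ n : ℕ, Nonempty (G ≃* DihedralGroup n)
  · obtain ⟨n, ⟨e⟩⟩ := hdih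
    obtain ⟨hp2, k, hk, hn, z, hdl⟩ := dihLike_of_dihedral p hG n e hna
    obtain ⟨hV, hqn⟩ := hDL z n k hp2 hk hn hdl
    right; left
    refine ⟨hV, k, by omega, Or.inl ⟨?_⟩⟩
    rw [← hn]
    exact e
  by_cases hsd : Cfsg.IsQuasiDihedral G
  · obtain ⟨hp2, k, hk, hcard, z, hdl⟩ := dihLike_of_quasidihedral p hG hsd
    obtain ⟨hV, hqn⟩ := hDL z (2 ^ k) k hp2 hk rfl hdl
    right; left
    exact ⟨hV, k, by omega, Or.inr ⟨hsd, hcard⟩⟩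
  -- the imprimitive case
  have hnd : ∀ n : ℕ, ¬ Nonempty (G ≃* DihedralGroup n) := fun n h => hdih ⟨n, h⟩
  obtain ⟨H, W, himp⟩ := Cfsg.Agent.S3380.result q p hG ρ hρ hirr hnc hnq hnd hsd
  have himp' : Imprim p ρ H W := himp
  by_cases hp2 : p = 2
  · subst hp2
    have hq2 : q ≠ 2 := fun h => hpq h.symm
    have hs2 : s = 2 := twos hq2 hG ρ hρ s hs hs1 H W himp'
      (fun hodd φ horb => index_le_two hodd φ horb)
    subst hs2
    obtain ⟨Q, hQ2, hW0, hW1, hVQ, hinv, hH, x, hx⟩ := twocount hq2 hG ρ hρ hs H W himp'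
    rcases nt2 hq d Q x (by rw [← hd, hVQ]) hQ2 hx with hQq | ⟨hq3, hQ9⟩
    · right; right; left
      rw [hQq] at hW0 hW1 hVQ hinv hH hx
      have hq2' := hq.two_le
      have hinv' : ∃ g : G, g ∉ H ∧ g ^ 2 = 1 := by
        have hpos : 0 < Nat.card {g : G // g ∉ H ∧ g ^ 2 = 1} := by rw [hinv]; omega
        obtain ⟨⟨g, hg⟩⟩ := (Nat.card_pos_iff.mp hpos).1
        exact ⟨g, hg⟩
      obtain ⟨e, he0, he1, heH, heg⟩ := tf1 ρ H W himp' hW0 hW1 hinv'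
      exact ⟨hVQ, ⟨x, by omega⟩, e, tf2 hq2 ρ hρ hs H W himp' hinv hH e he0 he1 heH heg⟩
    · right; right; right
      exact ⟨by rw [hVQ, hQ9]; norm_num, hq3, rfl⟩
  · exact absurd (odd_case p hp2 ρ hρ s hs H W himp') hs1

end Cfsg.Agent.S3371
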