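import Cfsg.Statements.S3374
import Cfsg.Agent.S4108
-- import your own Cfsg.Agent.* helpers here

set_option autoImplicit false
open Cfsg

namespace Cfsg.Agent.S3374

/-! `SL(2,5)` embeds in `SL(2,11)` and so acts without fixed points on the 120 non-zero vectors of
`(ZMod 11)²`; the semidirect product is a Frobenius group with complement `SL(2,5)`.
The embedding is given by an explicit formula (Bruhat normal form) and checked by kernel
evaluation. -/

abbrev M11 := ZMod 11 × ZMod 11 × ZMod 11 × ZMod 11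

def mul4 (A B : M11) : M11 :=
  (A.1 * B.1 + A.2.1 * B.2.2.1, A.1 * B.2.1 + A.2.1 * B.2.2.2,
   A.2.2.1 * B.1 + A.2.2.2 * B.2.2.1, A.2.2.1 * B.2.1 + A.2.2.2 * B.2.2.2)

def one4 : M11 := (1, 0, 0, 1)
def U4 : M11 := (1, 3, 4, 2)
def W4 : M11 := (0, 1, 10, 0)
def T4 : M11 := (1, 8, 8, 10)

def pow4 (A : M11) : ℕ → M11
  | 0 => one4
  | n + 1 => mul4 A (pow4 A n)

def dlog (a : ZMod 5) : ℕ :=
  match a.val with
  | 1 => 0
  | 2 => 1
  | 4 => 2
  | 3 => 3
  | _ => 0

def phi4 (p q r s : ZMod 5) : M11 :=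
  if r = 0 then mul4 (pow4 T4 (dlog p)) (pow4 U4 (q * p ^ 3).val)
  else mul4 (mul4 (mul4 (pow4 U4 (p * r ^ 3).val) W4) (pow4 T4 (dlog r))) (pow4 U4 (s * r ^ 3).val)

set_option maxRecDepth 100000 in
theorem phi4_mul : ∀ p q r s : ZMod 5, p * s - q * r = 1 → ∀ p' q' r' s' : ZMod 5, p' * s' - q' * r' = 1 →
    phi4 (p * p' + q * r') (p * q' + q * s') (r * p' + s * r') (r * q' + s * s') =
      mul4 (phi4 p q r s) (phi4 p' q' r' s') := by
  decide +kernel

theorem phi4_one : phi4 1 0 0 1 = one4 := by decide +kernel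

/-- The action of a 2×2 matrix on a pair. -/
def act4 (A : M11) (v : ZMod 11 × ZMod 11) : ZMod 11 × ZMod 11 :=
  (A.1 * v.1 + A.2.1 * v.2, A.2.2.1 * v.1 + A.2.2.2 * v.2)

theorem act4_mul4 (A B : M11) (v : ZMod 11 × ZMod 11) : act4 (mul4 A B) v = act4 A (act4 B v) := by
  simp only [act4, mul4]
  ext <;> ring

theorem act4_one4 (v : ZMod 11 × ZMod 11) : act4 one4 v = v := by
  simp [act4, one4]

theorem act4_add (A : M11) (v w : ZMod 11 × ZMod 11) : act4 A (v + w) = act4 A v + act4 A w := by
  simp only [act4, Prod.fst_add, Prod.snd_add]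
  ext <;> simp <;> ring

theorem act4_zero (A : M11) : act4 A 0 = 0 := by
  simp [act4]

set_option maxRecDepth 100000 in
/-- Fixed-point-freeness: a non-identity element fixes only the zero vector. -/
theorem phi4_fpf : ∀ p q r s : ZMod 5, p * s - q * r = 1 → ¬ (p = 1 ∧ q = 0 ∧ r = 0 ∧ s = 1) →
    ∀ x y : ZMod 11, act4 (phi4 p q r s) (x, y) = (x, y) → x = 0 ∧ y = 0 := by
  decide +kernel

abbrev S5 := Matrix.SpecialLinearGroup (Fin 2) (ZMod 5)
abbrev V := Multiplicative (ZMod 11 × ZMod 11)

def phiS (A : S5) : M11 := phi4 (A.1 0 0) (A.1 0 1) (A.1 1 0) (A.1 1 1)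

theorem det_eq (A : S5) : A.1 0 0 * A.1 1 1 - A.1 0 1 * A.1 1 0 = 1 := by
  have := A.2
  rwa [Matrix.det_fin_two] at this

theorem phiS_mul (A B : S5) : phiS (A * B) = mul4 (phiS A) (phiS B) := by
  have h := phi4_mul _ _ _ _ (det_eq A) _ _ _ _ (det_eq B)
  rw [phiS, phiS, phiS, ← h]
  simp [Matrix.SpecialLinearGroup.coe_mul, Matrix.mul_apply, Fin.sum_univ_two]

theorem phiS_one : phiS 1 = one4 := by
  rw [phiS]
  simpa using phi4_one

instance actInst : MulDistribMulAction S5 V where
  smul A v := Multiplicative.ofAdd (act4 (phiS A) (Multiplicative.toAdd v))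
  one_smul v := by
    show Multiplicative.ofAdd (act4 (phiS 1) (Multiplicative.toAdd v)) = v
    rw [phiS_one, act4_one4]; rfl
  mul_smul A B v := by
    show Multiplicative.ofAdd (act4 (phiS (A * B)) (Multiplicative.toAdd v)) =
      Multiplicative.ofAdd (act4 (phiS A) (act4 (phiS B) (Multiplicative.toAdd v)))
    rw [phiS_mul, act4_mul4]
  smul_mul A v w := by
    show Multiplicative.ofAdd (act4 (phiS A) (Multiplicative.toAdd v + Multiplicative.toAdd w)) =
      Multiplicative.ofAdd (act4 (phiS A) (Multiplicative.toAdd v)) *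
        Multiplicative.ofAdd (act4 (phiS A) (Multiplicative.toAdd w))
    rw [act4_add]; rfl
  smul_one A := by
    show Multiplicative.ofAdd (act4 (phiS A) 0) = 1
    rw [act4_zero]; rfl

theorem smul_def (A : S5) (v : V) :
    A • v = Multiplicative.ofAdd (act4 (phiS A) (Multiplicative.toAdd v)) := rfl

theorem fpf (A : S5) (hA : A ≠ 1) (v : V) (hv : A • v = v) : v = 1 := by
  have hne : ¬ (A.1 0 0 = 1 ∧ A.1 0 1 = 0 ∧ A.1 1 0 = 0 ∧ A.1 1 1 = 1) := by
    rintro ⟨h1, h2, h3, h4⟩
    apply hA
    ext i j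
    fin_cases i <;> fin_cases j <;> simp [h1, h2, h3, h4]
  have h := phi4_fpf _ _ _ _ (det_eq A) hne (Multiplicative.toAdd v).1 (Multiplicative.toAdd v).2
    (by
      have := congrArg Multiplicative.toAdd hv
      rw [smul_def] at this
      exact this)
  apply Multiplicative.toAdd.injective
  ext
  · exact h.1
  · exact h.2

abbrev psi : S5 →* MulAut V := MulDistribMulAction.toMulAut S5 V

abbrev L := V ⋊[psi] S5

instance finiteL : Finite L := Finite.of_equiv _ SemidirectProduct.equivProd.symm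

def Nsub : Subgroup L := (SemidirectProduct.inl : V →* L).range
def Hsub : Subgroup L := (SemidirectProduct.inr : S5 →* L).range

instance Nsub_normal : Nsub.Normal := by
  rw [Nsub, SemidirectProduct.range_inl_eq_ker_rightHom]
  infer_instance

theorem frob : Cfsg.IsFrobeniusComplement Hsub := by
  refine (Cfsg.Agent.S4108.frobenius_of_fpf Nsub Hsub ?_ ?_ ?_ ?_ ?_).1
  · -- N ⊔ H = ⊤
    rw [eq_top_iff]
    intro x _
    rw [← SemidirectProduct.inl_left_mul_inr_right x]
    exact Subgroup.mul_mem_sup ⟨x.left, rfl⟩ ⟨x.right, rfl⟩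
  · -- N ⊓ H = ⊥
    rw [Subgroup.eq_bot_iff_forall]
    rintro x ⟨⟨n, rfl⟩, ⟨g, hg⟩⟩
    have h1 : (SemidirectProduct.inr g : L).left = (SemidirectProduct.inl n : L).left :=
      congrArg SemidirectProduct.left hg
    simp only [SemidirectProduct.left_inl, SemidirectProduct.left_inr] at h1
    rw [← h1]; simp
  · -- N ≠ ⊥
    intro h
    have hmem : (SemidirectProduct.inl (Multiplicative.ofAdd ((1 : ZMod 11), (0 : ZMod 11))) : L) ∈ Nsub :=
      ⟨_, rfl⟩
    rw [h, Subgroup.mem_bot] at hmem
    have h2 := SemidirectProduct.inl_injective (hmem.trans (map_one _).symm)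
    have h3 := congrArg (fun v => (Multiplicative.toAdd v).1) h2
    simp at h3
    exact absurd h3 (by decide)
  · -- H ≠ ⊥
    intro h
    have hmem : (SemidirectProduct.inr (-1 : S5) : L) ∈ Hsub := ⟨_, rfl⟩
    rw [h, Subgroup.mem_bot] at hmem
    have h2 : (-1 : S5) = 1 := SemidirectProduct.inr_injective (hmem.trans (map_one _).symm)
    have h3 := congrArg (fun A : S5 => A.1 0 0) h2
    revert h3
    simp only [Matrix.SpecialLinearGroup.coe_neg, Matrix.SpecialLinearGroup.coe_one, Matrix.neg_apply,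
      Matrix.one_apply_eq]
    decide
  · -- fixed-point-freeness
    rintro h ⟨g, rfl⟩ hg1 n ⟨v, rfl⟩ hcomm
    have hg : g ≠ 1 := by
      rintro rfl
      exact hg1 (map_one _)
    have h1 := congrArg SemidirectProduct.left hcomm
    simp only [SemidirectProduct.mul_left, SemidirectProduct.left_inl, SemidirectProduct.left_inr,
      SemidirectProduct.right_inl, SemidirectProduct.right_inr, one_mul, map_one, mul_one] at h1
    have h2 : g • v = v := h1
    rw [fpf g hg v h2, map_one]

/-- SL(2,5) occurs as a Frobenius complement: there is a finite group L with a subgroup H isomorphic to SL(2,5) which is a non-trivial proper subgroup meeting each conjugate gHg⁻¹ with g outside H trivially. -/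
theorem result :
    ∃ (L : Type) (_ : Group L) (_ : Finite L) (H : Subgroup L),
      Cfsg.IsFrobeniusComplement H ∧ Nonempty (H ≃* Matrix.SpecialLinearGroup (Fin 2) (ZMod 5)) :=
  ⟨L, inferInstance, inferInstance, Hsub, frob,
    ⟨(MonoidHom.ofInjective SemidirectProduct.inr_injective).symm⟩⟩

end Cfsg.Agent.S3374
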