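import Cfsg.Statements.S3375
-- import your own Cfsg.Agent.* helpers here

set_option autoImplicit false
open Cfsg

namespace Cfsg.Agent.S3375

/-- The subgroup of fixed points of an automorphism. -/
def fixSubgroup {H : Type*} [Group H] (γ : MulAut H) : Subgroup H :=
  MonoidHom.eqLocus γ.toMonoidHom (MonoidHom.id H)

theorem mem_fixSubgroup {H : Type*} [Group H] (γ : MulAut H) (x : H) :
    x ∈ fixSubgroup γ ↔ γ x = x := Iff.rfl

/-- Key lemma: if `A` contains all `γ h * h⁻¹` and is no bigger than the index of the fixed point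
subgroup, then `γ` inverts `A`. -/
theorem inverts_of_card_le {H : Type*} [Group H] [Finite H] (γ : MulAut H)
    (hγ2 : ∀ x : H, γ (γ x) = x) (A : Subgroup H) (hT : ∀ h : H, γ h * h⁻¹ ∈ A)
    (hcard : Nat.card A ≤ (fixSubgroup γ).index) : ∀ a ∈ A, γ a = a⁻¹ := by
  set C := fixSubgroup γ with hC
  -- the map H ⧸ C → A
  let T : H ⧸ C → A := Quotient.lift (fun h : H => (⟨γ h * h⁻¹, hT h⟩ : A)) (by
    intro a b hab
    have hab' : a⁻¹ * b ∈ C := QuotientGroup.leftRel_apply.mp hab
    have hfix : γ (a⁻¹ * b) = a⁻¹ * b := (mem_fixSubgroup γ _).mp hab'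
    apply Subtype.ext
    show γ a * a⁻¹ = γ b * b⁻¹
    rw [map_mul, map_inv] at hfix
    calc γ a * a⁻¹ = γ a * ((γ a)⁻¹ * γ b) * b⁻¹ := by rw [hfix]; group
      _ = γ b * b⁻¹ := by group)
  have hTinj : Function.Injective T := by
    intro x y
    induction x using Quotient.inductionOn with
    | _ a =>
    induction y using Quotient.inductionOn with
    | _ b =>
    intro hxy
    have h1 : γ a * a⁻¹ = γ b * b⁻¹ := congrArg Subtype.val hxy
    apply Quotient.sound
    apply QuotientGroup.leftRel_apply.mpr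
    rw [hC, mem_fixSubgroup, map_mul, map_inv]
    calc (γ a)⁻¹ * γ b = (γ a)⁻¹ * (γ b * b⁻¹) * b := by group
      _ = (γ a)⁻¹ * (γ a * a⁻¹) * b := by rw [h1]
      _ = a⁻¹ * b := by group
  have hTbij : Function.Bijective T :=
    hTinj.bijective_of_nat_card_le (by rw [← Subgroup.index_eq_card]; exact hcard)
  intro a ha
  obtain ⟨x, hx⟩ := hTbij.2 ⟨a, ha⟩
  induction x using Quotient.inductionOn with
  | _ h =>
  have h1 : γ h * h⁻¹ = a := congrArg Subtype.val hx
  rw [← h1, map_mul, map_inv, hγ2]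
  group

/-- A subgroup inverted by an automorphism is commutative. -/
theorem comm_of_inverts {H : Type*} [Group H] (γ : MulAut H) (A : Subgroup H)
    (hinv : ∀ a ∈ A, γ a = a⁻¹) : ∀ a ∈ A, ∀ b ∈ A, a * b = b * a := by
  intro a ha b hb
  have h1 := hinv (a * b) (A.mul_mem ha hb)
  rw [map_mul, hinv a ha, hinv b hb, mul_inv_rev] at h1
  -- h1 : a⁻¹ * b⁻¹ = b⁻¹ * a⁻¹
  calc a * b = (b⁻¹ * a⁻¹)⁻¹ := by group
    _ = (a⁻¹ * b⁻¹)⁻¹ := by rw [h1]
    _ = b * a := by group

/-- The third subgroup of index two above the intersection of two distinct subgroups of index two. -/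
def thirdSubgroup {H : Type*} [Group H] (M₁ M₂ : Subgroup H) (h₁ : M₁.index = 2) (h₂ : M₂.index = 2) :
    Subgroup H where
  carrier := {x | x ∈ M₁ ↔ x ∈ M₂}
  one_mem' := by simp [M₁.one_mem, M₂.one_mem]
  mul_mem' := by
    intro a b ha hb
    simp only [Set.mem_ofPred_eq] at ha hb ⊢
    rw [Subgroup.mul_mem_iff_of_index_two h₁, Subgroup.mul_mem_iff_of_index_two h₂, ha, hb]
  inv_mem' := by
    intro a ha
    simp only [Set.mem_ofPred_eq] at ha ⊢
    rw [M₁.inv_mem_iff, M₂.inv_mem_iff, ha]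

theorem mem_thirdSubgroup {H : Type*} [Group H] (M₁ M₂ : Subgroup H) (h₁ : M₁.index = 2)
    (h₂ : M₂.index = 2) (x : H) : x ∈ thirdSubgroup M₁ M₂ h₁ h₂ ↔ (x ∈ M₁ ↔ x ∈ M₂) := Iff.rfl

theorem thirdSubgroup_index {H : Type*} [Group H] (M₁ M₂ : Subgroup H) (h₁ : M₁.index = 2)
    (h₂ : M₂.index = 2) (hne : M₁ ≠ M₂) : (thirdSubgroup M₁ M₂ h₁ h₂).index = 2 := by
  -- an element in exactly one of M₁, M₂
  have hex : ∃ a : H, ¬ (a ∈ M₁ ↔ a ∈ M₂) := by
    by_contra hcon
    push Not at hcon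
    exact hne (Subgroup.ext hcon)
  obtain ⟨a, ha⟩ := hex
  rw [Subgroup.index_eq_two_iff]
  refine ⟨a, fun b => ?_⟩
  rw [mem_thirdSubgroup, mem_thirdSubgroup, Subgroup.mul_mem_iff_of_index_two h₁,
    Subgroup.mul_mem_iff_of_index_two h₂]
  by_cases hb1 : b ∈ M₁ <;> by_cases hb2 : b ∈ M₂ <;> by_cases ha1 : a ∈ M₁ <;>
    by_cases ha2 : a ∈ M₂ <;> simp_all [Xor]

/-- Let γ be an automorphism of order 2 of a finite group H. (i) If γ fixes only the identity, then H is abelian and γ inverts every element. (ii) If γ has exactly two fixed points and H has a subgroup of index 2, then H has a γ-invariant abelian subgroup of index 2 on which γ acts by inversion. -/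
theorem result {H : Type*} [Group H] [Finite H] (γ : MulAut H) (hγ : orderOf γ = 2) :
    ((∀ h : H, γ h = h → h = 1) → (∀ a b : H, a * b = b * a) ∧ ∀ h : H, γ h = h⁻¹) ∧
    ((Nat.card {h : H // γ h = h} = 2 ∧ ∃ M : Subgroup H, M.index = 2) →
      ∃ A : Subgroup H, A.index = 2 ∧ IsMulCommutative A ∧ (∀ a ∈ A, γ a ∈ A) ∧ ∀ a ∈ A, γ a = a⁻¹) := by
  have hγ2 : ∀ x : H, γ (γ x) = x := by
    intro x
    have h := pow_orderOf_eq_one γ
    rw [hγ, pow_two] at h
    have := congrArg (fun f : MulAut H => f x) h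
    simpa using this
  constructor
  · intro hfix
    have hCbot : fixSubgroup γ = ⊥ := by
      rw [Subgroup.eq_bot_iff_forall]
      intro x hx
      exact hfix x ((mem_fixSubgroup γ x).mp hx)
    have hinv : ∀ a ∈ (⊤ : Subgroup H), γ a = a⁻¹ := by
      apply inverts_of_card_le γ hγ2 ⊤ (fun h => Subgroup.mem_top _)
      rw [hCbot, Subgroup.index_bot, Subgroup.card_top]
    refine ⟨fun a b => comm_of_inverts γ ⊤ hinv a (Subgroup.mem_top a) b (Subgroup.mem_top b),
      fun h => hinv h (Subgroup.mem_top h)⟩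
  · rintro ⟨hcard2, M, hM⟩
    -- the fixed point subgroup has order 2
    have hCcard : Nat.card (fixSubgroup γ) = 2 := by
      rw [← hcard2]
      exact Nat.card_congr (Equiv.subtypeEquivRight (fun x => mem_fixSubgroup γ x))
    -- a γ-invariant subgroup of index 2
    obtain ⟨M', hM'idx, hM'inv⟩ : ∃ M' : Subgroup H, M'.index = 2 ∧ ∀ x : H, x ∈ M' ↔ γ x ∈ M' := by
      set M₂ : Subgroup H := M.comap γ.toMonoidHom with hM₂
      have hM₂idx : M₂.index = 2 := by
        rw [hM₂, Subgroup.index_comap_of_surjective M γ.surjective, hM]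
      have hM₂mem : ∀ x : H, x ∈ M₂ ↔ γ x ∈ M := fun x => Iff.rfl
      by_cases hEq : M = M₂
      · refine ⟨M, hM, fun x => ?_⟩
        conv_lhs => rw [hEq]
        exact hM₂mem x
      · refine ⟨thirdSubgroup M M₂ hM hM₂idx, thirdSubgroup_index M M₂ hM hM₂idx hEq, fun x => ?_⟩
        rw [mem_thirdSubgroup, mem_thirdSubgroup, hM₂mem, hM₂mem, hγ2]
        tauto
    have hT : ∀ h : H, γ h * h⁻¹ ∈ M' := by
      intro h
      rw [Subgroup.mul_mem_iff_of_index_two hM'idx, M'.inv_mem_iff]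
      exact (hM'inv h).symm
    have hcardle : Nat.card M' ≤ (fixSubgroup γ).index := by
      have h1 := Subgroup.index_mul_card (fixSubgroup γ)
      have h2 := Subgroup.index_mul_card M'
      rw [hCcard] at h1
      rw [hM'idx] at h2
      omega
    have hinv := inverts_of_card_le γ hγ2 M' hT hcardle
    refine ⟨M', hM'idx, ?_, fun a ha => (hM'inv a).mp ha, hinv⟩
    exact Subgroup.le_centralizer_iff_isMulCommutative.mp
      (fun a ha b hb => comm_of_inverts γ M' hinv b hb a ha)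

end Cfsg.Agent.S3375
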