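import Cfsg.Statements.S3376
import Cfsg.Agent.Lib.Helper32_PGroup

set_option autoImplicit false
open Cfsg
open scoped Pointwise

namespace Cfsg.Agent.S3376

/-! ### The target group -/


/-- the permutation `(0 1 2)(3 4 5)(6 7 8)` -/
def σ₀ : Equiv.Perm (Fin 9) :=
  Equiv.swap (0 : Fin 9) 1 * Equiv.swap 1 2 * Equiv.swap 3 4 * Equiv.swap 4 5 * Equiv.swap 6 7 * Equiv.swap 7 8

theorem cycleType_σ₀ : σ₀.cycleType = Multiset.replicate 3 3 := by
  decide

theorem card_centralizer_σ₀ : Nat.card (Subgroup.centralizer ({σ₀} : Set (Equiv.Perm (Fin 9)))) = 162 := by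
  rw [Equiv.Perm.nat_card_centralizer, cycleType_σ₀]
  decide

theorem iso_of_action {G : Type*} [Group G] [Finite G] (hG : Nat.card G = 162)
    (H : Subgroup G) (hidx : H.index = 9) (hcore : H.normalCore = ⊥)
    (z : G) (hzc : z ∈ Subgroup.center G) (hz3 : z ^ 3 = 1) (hzH : z ∉ H) :
    Nonempty (G ≃* Subgroup.centralizer ({σ₀} : Set (Equiv.Perm (Fin 9)))) := by
  classical
  have hcard : Nat.card (G ⧸ H) = 9 := by rw [← Subgroup.index_eq_card]; exact hidx
  let e : (G ⧸ H) ≃ Fin 9 := Finite.equivFinOfCardEq hcard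
  let ρ : G →* Equiv.Perm (G ⧸ H) := MulAction.toPermHom G (G ⧸ H)
  have hρker : ρ.ker = ⊥ := by rw [← Subgroup.normalCore_eq_ker, hcore]
  let Φ : G →* Equiv.Perm (Fin 9) := (e.permCongrHom.toMonoidHom).comp ρ
  have hΦinj : Function.Injective Φ := by
    rw [injective_iff_map_eq_one]
    intro g hg
    have h1 : ρ g = 1 := by
      have : e.permCongrHom (ρ g) = 1 := hg
      exact (MulEquiv.map_eq_one_iff _).mp this
    have : g ∈ ρ.ker := h1
    rwa [hρker, Subgroup.mem_bot] at this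
  have hfix : ∀ i : Fin 9, Φ z i ≠ i := by
    intro i hi
    have h1 : e (z • (e.symm i)) = i := hi
    have h2 : z • (e.symm i) = e.symm i := by
      have := congrArg e.symm h1
      rwa [Equiv.symm_apply_apply] at this
    obtain ⟨g, hg⟩ := QuotientGroup.mk_surjective (e.symm i)
    rw [← hg] at h2
    have h3 : ((z * g : G) : G ⧸ H) = (g : G ⧸ H) := h2
    rw [QuotientGroup.eq] at h3
    apply hzH
    have h4 : (z * g)⁻¹ * g = z⁻¹ := by
      rw [mul_inv_rev, mul_assoc, ← (Subgroup.mem_center_iff.mp (Subgroup.inv_mem _ hzc) g),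
        inv_mul_cancel_left]
    rw [h4] at h3
    exact (Subgroup.inv_mem_iff H).mp h3
  have hΦz3 : (Φ z) ^ 3 = 1 := by rw [← map_pow, hz3, map_one]
  have hΦz1 : Φ z ≠ 1 := by
    intro h
    apply hfix 0
    rw [h]; rfl
  have hord : orderOf (Φ z) = 3 := orderOf_eq_prime hΦz3 hΦz1
  have hct : (Φ z).cycleType = Multiset.replicate 3 3 := by
    obtain ⟨n, hn⟩ := Equiv.Perm.cycleType_prime_order (σ := Φ z) (by rw [hord]; exact Nat.prime_three)
    rw [hord] at hn
    have hsum := Equiv.Perm.sum_cycleType (Φ z)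
    have hsupp : (Φ z).support = Finset.univ := by
      ext i
      simp [hfix i]
    rw [hn, hsupp, Multiset.sum_replicate, Finset.card_univ, Fintype.card_fin, smul_eq_mul] at hsum
    have h3 : n + 1 = 3 := by omega
    rw [hn, h3]
  obtain ⟨π, hπ⟩ := isConj_iff.mp
    ((Equiv.Perm.isConj_iff_cycleType_eq).mpr (hct.trans cycleType_σ₀.symm))
  let Ψ : G →* Equiv.Perm (Fin 9) := (MulAut.conj π).toMonoidHom.comp Φ
  have hΨz : Ψ z = σ₀ := hπ
  have hΨinj : Function.Injective Ψ := (MulAut.conj π).injective.comp hΦinj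
  have hmem : ∀ g : G, Ψ g ∈ Subgroup.centralizer ({σ₀} : Set (Equiv.Perm (Fin 9))) := by
    intro g
    rw [Subgroup.mem_centralizer_singleton_iff, ← hΨz, ← map_mul, ← map_mul,
      Subgroup.mem_center_iff.mp hzc g]
  let Ψ' : G →* Subgroup.centralizer ({σ₀} : Set (Equiv.Perm (Fin 9))) :=
    Ψ.codRestrict _ hmem
  have hΨ'inj : Function.Injective Ψ' := by
    intro a b hab
    apply hΨinj
    exact congrArg Subtype.val hab
  have hbij : Function.Bijective Ψ' := by
    rw [Nat.bijective_iff_injective_and_card]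
    exact ⟨hΨ'inj, by rw [hG, card_centralizer_σ₀]⟩
  exact ⟨MulEquiv.ofBijective Ψ' hbij⟩


/-! ### An invariant complement -/


theorem exists_invariant_complement {G : Type*} [Group G] [Finite G]
    (J : Subgroup G) [hJn : J.Normal] (hJcomm : IsMulCommutative J) (hJexp : ∀ a ∈ J, a ^ 3 = 1)
    (hJcard : Nat.card J = 27) (z : G) (hzJ : z ∈ J) (hz1 : z ≠ 1)
    (t : G) (ht2 : t ^ 2 = 1) (hzt : t * z = z * t) :
    ∃ H₃ : Subgroup G, H₃ ≤ J ∧ Nat.card H₃ = 9 ∧ z ∉ H₃ ∧ ∀ x ∈ H₃, t * x * t⁻¹ ∈ H₃ := by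
  let _ : CommGroup J :=
    { (inferInstance : Group J) with mul_comm := fun a b => hJcomm.is_comm.comm a b }
  have hne : NeZero (Monoid.exponent J) := ⟨Monoid.exponent_ne_zero_of_finite⟩
  have hz1' : (⟨z, hzJ⟩ : J) ≠ 1 := fun h => hz1 (congrArg Subtype.val h)
  obtain ⟨ψ, hψ⟩ := CommGroup.exists_apply_ne_one_of_hasEnoughRootsOfUnity J ℂ hz1'
  have htinv : t⁻¹ = t := by rw [inv_eq_iff_mul_eq_one, ← pow_two, ht2]
  -- conjugation by `t` on `J`
  let cj : J →* J :=
    { toFun := fun x => ⟨t * x * t⁻¹, hJn.conj_mem x x.2 t⟩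
      map_one' := by apply Subtype.ext; simp
      map_mul' := fun x y => by apply Subtype.ext; simp }
  have hcjcj : ∀ x : J, cj (cj x) = x := by
    intro x
    apply Subtype.ext
    show t * (t * x * t⁻¹) * t⁻¹ = x
    rw [htinv]
    have : t * t = 1 := by rw [← pow_two, ht2]
    calc t * (t * (x : G) * t) * t = (t * t) * x * (t * t) := by group
      _ = x := by rw [this, one_mul, mul_one]
  have hcjz : cj ⟨z, hzJ⟩ = ⟨z, hzJ⟩ := by
    apply Subtype.ext
    show t * z * t⁻¹ = z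
    rw [hzt, mul_inv_cancel_right]
  let φ : J →* ℂˣ := ψ * ψ.comp cj
  have hφ : ∀ x : J, φ x = ψ x * ψ (cj x) := fun x => rfl
  have hφinv : ∀ x : J, φ (cj x) = φ x := by
    intro x
    rw [hφ, hφ, hcjcj, mul_comm]
  have hψ3 : (ψ ⟨z, hzJ⟩) ^ 3 = 1 := by
    rw [← map_pow]
    have : (⟨z, hzJ⟩ : J) ^ 3 = 1 := Subtype.ext (hJexp z hzJ)
    rw [this, map_one]
  have hφz : φ ⟨z, hzJ⟩ ≠ 1 := by
    rw [hφ, hcjz]
    intro h
    apply hψ
    have h2 : (ψ ⟨z, hzJ⟩) ^ 2 = 1 := by rw [pow_two]; exact h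
    calc ψ ⟨z, hzJ⟩ = (ψ ⟨z, hzJ⟩) ^ 3 * ((ψ ⟨z, hzJ⟩) ^ 2)⁻¹ := by group
      _ = 1 := by rw [hψ3, h2]; simp
  -- the range of `φ` has three elements
  have hrange : Nat.card φ.range = 3 := by
    have hle : φ.range ≤ rootsOfUnity 3 ℂ := by
      rintro _ ⟨x, rfl⟩
      rw [mem_rootsOfUnity]
      show φ x ^ 3 = 1
      rw [← map_pow]
      have : x ^ 3 = 1 := Subtype.ext (hJexp x x.2)
      rw [this, map_one]
    have hdvd := Subgroup.card_dvd_of_le hle
    have h3 : Nat.card (rootsOfUnity 3 ℂ) = 3 := Complex.card_rootsOfUnity 3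
    rw [h3] at hdvd
    rcases (Nat.dvd_prime Nat.prime_three).mp hdvd with h | h
    · exfalso
      rw [Subgroup.card_eq_one] at h
      have : φ ⟨z, hzJ⟩ ∈ φ.range := ⟨_, rfl⟩
      rw [h, Subgroup.mem_bot] at this
      exact hφz this
    · exact h
  have hker : Nat.card φ.ker = 9 := by
    have h1 := Subgroup.card_mul_index φ.ker
    rw [Subgroup.index_ker, hrange, hJcard] at h1
    omega
  refine ⟨φ.ker.map J.subtype, ?_, ?_, ?_, ?_⟩
  · rintro _ ⟨x, _, rfl⟩
    exact x.2
  · rw [Subgroup.card_map_of_injective J.subtype_injective, hker]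
  · rintro ⟨x, hx, hxz⟩
    apply hφz
    have : x = ⟨z, hzJ⟩ := Subtype.ext hxz
    rw [← this]
    exact hx
  · rintro _ ⟨x, hx, rfl⟩
    refine ⟨cj x, ?_, rfl⟩
    show φ (cj x) = 1
    rw [hφinv]
    exact hx


/-! ### The point stabilizer -/


/-- the subgroup `H₃ ∪ H₃ t` -/
def ext {G : Type*} [Group G] (H₃ : Subgroup G) (t : G) (ht2 : t ^ 2 = 1)
    (hinv : ∀ x ∈ H₃, t * x * t⁻¹ ∈ H₃) : Subgroup G where
  carrier := {g | g ∈ H₃ ∨ g * t ∈ H₃}
  one_mem' := Or.inl H₃.one_mem
  mul_mem' := by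
    have htinv : t⁻¹ = t := by rw [inv_eq_iff_mul_eq_one, ← pow_two, ht2]
    have htt : t * t = 1 := by rw [← pow_two, ht2]
    intro a b ha hb
    rcases ha with ha | ha <;> rcases hb with hb | hb
    · exact Or.inl (H₃.mul_mem ha hb)
    · right
      rw [mul_assoc]
      exact H₃.mul_mem ha hb
    · right
      have h1 := hinv b hb
      rw [htinv] at h1
      have : a * b * t = (a * t) * (t * b * t) := by
        calc a * b * t = a * (t * t) * b * t := by rw [htt, mul_one]
          _ = (a * t) * (t * b * t) := by group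
      rw [this]
      exact H₃.mul_mem ha h1
    · left
      have h1 := hinv (b * t) hb
      rw [htinv] at h1
      have : a * b = (a * t) * (t * (b * t) * t) := by
        calc a * b = a * (t * t) * b * (t * t) := by rw [htt, mul_one, mul_one]
          _ = (a * t) * (t * (b * t) * t) := by group
      rw [this]
      exact H₃.mul_mem ha h1
  inv_mem' := by
    have htinv : t⁻¹ = t := by rw [inv_eq_iff_mul_eq_one, ← pow_two, ht2]
    intro a ha
    rcases ha with ha | ha
    · exact Or.inl (H₃.inv_mem ha)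
    · right
      have h1 := hinv _ (H₃.inv_mem ha)
      have : a⁻¹ * t = t * (a * t)⁻¹ * t⁻¹ := by
        calc a⁻¹ * t = a⁻¹ * t⁻¹ := by rw [htinv]
          _ = t * (a * t)⁻¹ * t⁻¹ := by group
      rw [this]
      exact h1

theorem mem_ext {G : Type*} [Group G] (H₃ : Subgroup G) (t : G) (ht2 : t ^ 2 = 1)
    (hinv : ∀ x ∈ H₃, t * x * t⁻¹ ∈ H₃) (g : G) :
    g ∈ ext H₃ t ht2 hinv ↔ g ∈ H₃ ∨ g * t ∈ H₃ := Iff.rfl

theorem card_ext {G : Type*} [Group G] [Finite G] (H₃ : Subgroup G) (t : G) (ht2 : t ^ 2 = 1)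
    (hinv : ∀ x ∈ H₃, t * x * t⁻¹ ∈ H₃) (htH : t ∉ H₃) :
    Nat.card (ext H₃ t ht2 hinv) = Nat.card H₃ * 2 := by
  have hle : H₃ ≤ ext H₃ t ht2 hinv := fun g hg => Or.inl hg
  have htmem : t ∈ ext H₃ t ht2 hinv := by
    right
    rw [← pow_two, ht2]
    exact H₃.one_mem
  have hidx : (H₃.subgroupOf (ext H₃ t ht2 hinv)).index = 2 := by
    rw [Subgroup.index_eq_two_iff]
    refine ⟨⟨t, htmem⟩, ?_⟩
    intro b
    rw [Subgroup.mem_subgroupOf, Subgroup.mem_subgroupOf]
    show Xor ((b : G) * t ∈ H₃) ((b : G) ∈ H₃)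
    rcases b.2 with hb | hb
    · right
      refine ⟨hb, ?_⟩
      intro h
      apply htH
      have := H₃.mul_mem (H₃.inv_mem hb) h
      rwa [inv_mul_cancel_left] at this
    · left
      refine ⟨hb, ?_⟩
      intro h
      apply htH
      have := H₃.mul_mem (H₃.inv_mem h) hb
      rwa [inv_mul_cancel_left] at this
  have h1 := Subgroup.card_mul_index (H₃.subgroupOf (ext H₃ t ht2 hinv))
  rw [hidx, Nat.card_congr (Subgroup.subgroupOfEquivOfLe hle).toEquiv] at h1
  exact h1.symm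


/-! ### Sylow numerics -/

theorem card_sylow_eq_pow' {G : Type*} [Group G] [Finite G] {p k m : ℕ} [hp : Fact p.Prime]
    (hG : Nat.card G = p ^ k * m) (hm : ¬ p ∣ m) (P : Sylow p G) :
    Nat.card (P : Subgroup G) = p ^ k := by
  rw [Sylow.card_eq_multiplicity, hG]
  have hm0 : m ≠ 0 := fun h => hm (h ▸ dvd_zero p)
  have hpk : p ^ k ≠ 0 := pow_ne_zero _ hp.out.ne_zero
  rw [Nat.factorization_mul hpk hm0, Nat.Prime.factorization_pow hp.out]
  simp [Nat.factorization_eq_zero_of_not_dvd hm]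

/-- Let G be a group of order 162 = 3⁴·2 with Sylow 3-subgroup S and Sylow 2-subgroup T, having an elementary abelian normal subgroup J of order 27, such that Z = Z(S) has order 3, Z centralizes T, and C_S(T) ≠ S. Then G is isomorphic to the centralizer in Sym(9) of a product of three disjoint 3-cycles. -/
theorem result {G : Type*} [Group G] [Finite G] (hG : Nat.card G = 162)
    (S : Sylow 3 G) (T : Sylow 2 G) (J : Subgroup G) [hJn : J.Normal] (hJcomm : IsMulCommutative J)
    (hJexp : ∀ a ∈ J, a ^ 3 = 1) (hJcard : Nat.card J = 27)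
    (Z : Subgroup G) (hZ : Z = (S : Subgroup G) ⊓ Subgroup.centralizer ((S : Subgroup G) : Set G)) (hZcard : Nat.card Z = 3)
    (hZT : Z ≤ Subgroup.centralizer ((T : Subgroup G) : Set G))
    (hST : (S : Subgroup G) ⊓ Subgroup.centralizer ((T : Subgroup G) : Set G) ≠ S) :
    Nonempty (G ≃* Subgroup.centralizer ({Equiv.swap (0 : Fin 9) 1 * Equiv.swap 1 2 * Equiv.swap 3 4 * Equiv.swap 4 5 * Equiv.swap 6 7 * Equiv.swap 7 8} : Set (Equiv.Perm (Fin 9)))) := by
  -- Sylow orders
  have hS81 : Nat.card (S : Subgroup G) = 81 := by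
    have := card_sylow_eq_pow' (p := 3) (k := 4) (m := 2) (by rw [hG]; norm_num) (by norm_num) S
    simpa using this
  have hT2 : Nat.card (T : Subgroup G) = 2 := by
    have := card_sylow_eq_pow' (p := 2) (k := 1) (m := 81) (by rw [hG]; norm_num) (by norm_num) T
    simpa using this
  -- `J ≤ S`
  have hJp : IsPGroup 3 J := IsPGroup.of_card (n := 3) (by rw [hJcard]; norm_num)
  have hJS : J ≤ S := hJp.le_sylow_of_normal S
  have hSp : IsPGroup 3 (S : Subgroup G) := S.isPGroup'
  -- a central element of `S` inside `J`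
  have hJne : (J.subgroupOf S) ≠ ⊥ := by
    intro h
    have h1 := Subgroup.card_eq_one.mpr h
    rw [Nat.card_congr (Subgroup.subgroupOfEquivOfLe hJS).toEquiv, hJcard] at h1
    norm_num at h1
  obtain ⟨z', hz'J, hz'c, hz'1⟩ :=
    Cfsg.Agent.Lib.Helper32_PGroup.exists_mem_center_of_normal hSp (J.subgroupOf S) hJne
  obtain ⟨z, hzdef⟩ : ∃ z : G, z = (z' : G) := ⟨_, rfl⟩
  have hzJ : z ∈ J := by rw [hzdef]; exact hz'J
  have hzS : z ∈ (S : Subgroup G) := by rw [hzdef]; exact z'.2
  have hz1 : z ≠ 1 := by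
    rw [hzdef]
    exact fun h => hz'1 (Subtype.ext h)
  have hzcS : z ∈ Subgroup.centralizer ((S : Subgroup G) : Set G) := by
    rw [Subgroup.mem_centralizer_iff]
    intro s hs
    have := Subgroup.mem_center_iff.mp hz'c ⟨s, hs⟩
    rw [hzdef]
    exact congrArg Subtype.val this
  have hzZ : z ∈ Z := by rw [hZ]; exact ⟨hzS, hzcS⟩
  have hzcT := hZT hzZ
  have hz3 : z ^ 3 = 1 := hJexp z hzJ
  -- `G = S T`
  have hST_top : (S : Subgroup G) ⊔ T = ⊤ := by
    rw [← Subgroup.card_eq_iff_eq_top, hG]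
    have h1 : 81 ∣ Nat.card ↥((S : Subgroup G) ⊔ T) := by
      have := Subgroup.card_dvd_of_le (le_sup_left : (S : Subgroup G) ≤ (S : Subgroup G) ⊔ T)
      rwa [hS81] at this
    have h2 : 2 ∣ Nat.card ↥((S : Subgroup G) ⊔ T) := by
      have := Subgroup.card_dvd_of_le (le_sup_right : (T : Subgroup G) ≤ (S : Subgroup G) ⊔ T)
      rwa [hT2] at this
    have h3 : 81 * 2 ∣ Nat.card ↥((S : Subgroup G) ⊔ T) :=
      Nat.Coprime.mul_dvd_of_dvd_of_dvd (by norm_num) h1 h2
    have h4 : Nat.card ↥((S : Subgroup G) ⊔ T) ∣ 162 := by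
      rw [← hG]
      exact Subgroup.card_subgroup_dvd_card _
    exact Nat.dvd_antisymm h4 h3
  have hzc : z ∈ Subgroup.center G := by
    have hle : (S : Subgroup G) ⊔ T ≤ Subgroup.centralizer {z} := by
      rw [sup_le_iff]
      constructor
      · intro s hs
        rw [Subgroup.mem_centralizer_singleton_iff]
        exact Subgroup.mem_centralizer_iff.mp hzcS s hs
      · intro s hs
        rw [Subgroup.mem_centralizer_singleton_iff]
        exact Subgroup.mem_centralizer_iff.mp hzcT s hs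
    rw [Subgroup.mem_center_iff]
    intro g
    have hg : g ∈ Subgroup.centralizer {z} := hle (by rw [hST_top]; trivial)
    rw [Subgroup.mem_centralizer_singleton_iff] at hg
    exact hg
  -- the involution `t`
  obtain ⟨t, htT, ht1⟩ : ∃ t ∈ (T : Subgroup G), t ≠ 1 := by
    by_contra hcon
    push Not at hcon
    have h1 : (T : Subgroup G) = ⊥ := (Subgroup.eq_bot_iff_forall _).mpr hcon
    rw [← Subgroup.card_eq_one, hT2] at h1
    norm_num at h1
  have ht2 : t ^ 2 = 1 := by
    have := pow_card_eq_one' (G := (T : Subgroup G)) (x := ⟨t, htT⟩)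
    rw [hT2] at this
    exact congrArg Subtype.val this
  have hTel : ∀ x ∈ (T : Subgroup G), x = 1 ∨ x = t := by
    intro x hx
    have h2 : Fact (Nat.Prime 2) := ⟨Nat.prime_two⟩
    have htop := zpowers_eq_top_of_prime_card (G := (T : Subgroup G)) (p := 2) hT2
      (g := ⟨t, htT⟩) (fun h => ht1 (congrArg Subtype.val h))
    have hmem : (⟨x, hx⟩ : (T : Subgroup G)) ∈ Subgroup.zpowers (⟨t, htT⟩ : (T : Subgroup G)) := by
      rw [htop]; trivial
    obtain ⟨k, hk⟩ := Subgroup.mem_zpowers_iff.mp hmem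
    have hk' : t ^ k = x := by
      have := congrArg Subtype.val hk
      simpa using this
    rcases Int.even_or_odd' k with ⟨j, rfl | rfl⟩
    · left
      rw [← hk', zpow_mul, zpow_ofNat, ht2, one_zpow]
    · right
      rw [← hk', zpow_add, zpow_mul, zpow_ofNat, ht2, one_zpow, one_mul, zpow_one]
  have hzt : t * z = z * t := Subgroup.mem_centralizer_iff.mp hzcT t htT
  have htJ : t ∉ J := by
    intro h
    have h3 := hJexp t h
    apply ht1
    calc t = t ^ 3 * (t ^ 2)⁻¹ := by group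
      _ = 1 := by rw [h3, ht2]; simp
  -- the point stabilizer
  obtain ⟨H₃, hH₃J, hH₃card, hzH₃, hH₃inv⟩ :=
    exists_invariant_complement J hJcomm hJexp hJcard z hzJ hz1 t ht2 hzt
  have htH₃ : t ∉ H₃ := fun h => htJ (hH₃J h)
  obtain ⟨H, hHdef⟩ : ∃ H : Subgroup G, H = ext H₃ t ht2 hH₃inv := ⟨_, rfl⟩
  have hHmem : ∀ g, g ∈ H ↔ g ∈ H₃ ∨ g * t ∈ H₃ := by
    intro g
    rw [hHdef]
    exact mem_ext H₃ t ht2 hH₃inv g
  have hHcard : Nat.card H = 18 := by rw [hHdef, card_ext _ _ _ _ htH₃, hH₃card]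
  have hHidx : H.index = 9 := by
    have := Subgroup.card_mul_index H
    rw [hHcard, hG] at this
    omega
  have hHJ : ∀ g ∈ H, g ∈ J → g ∈ H₃ := by
    intro g hg hgJ
    rcases (hHmem g).mp hg with h | h
    · exact h
    · exfalso
      apply htJ
      have := J.mul_mem (J.inv_mem hgJ) (hH₃J h)
      rwa [inv_mul_cancel_left] at this
  have hzH : z ∉ H := fun h => hzH₃ (hHJ z h hzJ)
  -- the core of `H` is trivial
  have hcore : H.normalCore = ⊥ := by
    obtain ⟨N, hN⟩ : ∃ N : Subgroup G, N = H.normalCore := ⟨_, rfl⟩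
    rw [← hN]
    have hNH : N ≤ H := hN ▸ Subgroup.normalCore_le H
    have hNn : N.Normal := hN ▸ Subgroup.normalCore_normal H
    have hNJ : N ⊓ J = ⊥ := by
      by_contra hne
      have hNJS : N ⊓ J ≤ S := inf_le_right.trans hJS
      have hne' : (N ⊓ J).subgroupOf S ≠ ⊥ := by
        intro h
        apply hne
        rw [Subgroup.subgroupOf_eq_bot, disjoint_iff, inf_eq_left.mpr hNJS] at h
        exact h
      obtain ⟨w, hwN, hwc, hw1⟩ :=
        Cfsg.Agent.Lib.Helper32_PGroup.exists_mem_center_of_normal hSp ((N ⊓ J).subgroupOf S) hne'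
      have hwNJ : (w : G) ∈ N ⊓ J := hwN
      have hwZ : (w : G) ∈ Z := by
        rw [hZ]
        refine Subgroup.mem_inf.mpr ⟨w.2, ?_⟩
        rw [Subgroup.mem_centralizer_iff]
        intro s hs
        have := Subgroup.mem_center_iff.mp hwc ⟨s, hs⟩
        exact congrArg Subtype.val this
      have hzw : z ∈ Subgroup.zpowers (w : G) := by
        have h3 : Fact (Nat.Prime 3) := ⟨Nat.prime_three⟩
        have htop := zpowers_eq_top_of_prime_card (G := Z) (p := 3) hZcard
          (g := ⟨(w : G), hwZ⟩) (fun h => hw1 (Subtype.ext (show (w : G) = 1 from congrArg Subtype.val h)))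
        have hmem : (⟨z, hzZ⟩ : Z) ∈ Subgroup.zpowers (⟨(w : G), hwZ⟩ : Z) := by
          rw [htop]; trivial
        obtain ⟨k, hk⟩ := Subgroup.mem_zpowers_iff.mp hmem
        refine Subgroup.mem_zpowers_iff.mpr ⟨k, ?_⟩
        have := congrArg Subtype.val hk
        simpa using this
      have hzNJ : z ∈ N ⊓ J := (Subgroup.zpowers_le.mpr hwNJ) hzw
      exact hzH (hNH hzNJ.1)
    rw [Subgroup.eq_bot_iff_forall]
    intro g hgN
    by_contra hg1
    have hcoset : ∀ g' ∈ N, g' ≠ 1 → g' * t ∈ H₃ := by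
      intro g' hg'N hg'1
      rcases (hHmem g').mp (hNH hg'N) with h | h
      · exfalso
        apply hg'1
        have : g' ∈ N ⊓ J := ⟨hg'N, hH₃J h⟩
        rwa [hNJ, Subgroup.mem_bot] at this
      · exact h
    have hgt := hcoset g hgN hg1
    have huniq : ∀ g' ∈ N, g' ≠ 1 → g' = g := by
      intro g' hg'N hg'1
      have hg't := hcoset g' hg'N hg'1
      have h1 : g⁻¹ * g' ∈ N := N.mul_mem (N.inv_mem hgN) hg'N
      have h2 : g⁻¹ * g' ∈ H₃ := by
        have := hH₃inv _ (H₃.mul_mem (H₃.inv_mem hgt) hg't)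
        have e : t * ((g * t)⁻¹ * (g' * t)) * t⁻¹ = g⁻¹ * g' := by group
        rwa [e] at this
      have : g⁻¹ * g' ∈ N ⊓ J := ⟨h1, hH₃J h2⟩
      rw [hNJ, Subgroup.mem_bot] at this
      exact (inv_mul_eq_one.mp this).symm
    have hgc : ∀ u : G, u * g * u⁻¹ = g := by
      intro u
      apply huniq _ (hNn.conj_mem g hgN u)
      intro h
      apply hg1
      have := congrArg (fun x => u⁻¹ * x * u) h
      simpa [mul_assoc] using this
    have hg2 : g ^ 2 = 1 := by
      by_contra h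
      have := huniq (g ^ 2) (N.pow_mem hgN 2) h
      apply hg1
      rw [pow_two] at this
      exact mul_left_cancel (a := g) (by rw [this, mul_one])
    have h2 : Fact (Nat.Prime 2) := ⟨Nat.prime_two⟩
    have hgp : IsPGroup 2 (Subgroup.zpowers g) := by
      apply IsPGroup.of_card (n := 1)
      rw [Nat.card_zpowers, pow_one]
      exact orderOf_eq_prime hg2 hg1
    obtain ⟨Q, hQ⟩ := hgp.exists_le_sylow
    obtain ⟨u, hu⟩ := MulAction.exists_smul_eq G Q T
    have hgT : g ∈ (T : Subgroup G) := by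
      have h1 : g ∈ (Q : Subgroup G) := hQ (Subgroup.mem_zpowers g)
      have h3 : MulAut.conj u • g ∈ MulAut.conj u • (Q : Subgroup G) :=
        Subgroup.smul_mem_pointwise_smul _ _ _ h1
      rw [← Sylow.coe_subgroup_smul, hu, MulAut.smul_def, MulAut.conj_apply, hgc u] at h3
      exact h3
    have hgt_eq : g = t := by
      rcases hTel g hgT with h | h
      · exact absurd h hg1
      · exact h
    -- `t` is central, contradicting `C_S(T) ≠ S`
    apply hST
    apply inf_eq_left.mpr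
    intro s _
    rw [Subgroup.mem_centralizer_iff]
    intro x hx
    rcases hTel x hx with h | h
    · rw [h, one_mul, mul_one]
    · have := hgc s
      rw [hgt_eq] at this
      rw [h]
      exact (mul_inv_eq_iff_eq_mul.mp this).symm
  exact iso_of_action hG H hHidx hcore z hzc hz3 hzH

end Cfsg.Agent.S3376
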