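import Cfsg.Statements.S3379
-- import your own Cfsg.Agent.* helpers here

set_option autoImplicit false
open Cfsg

namespace Cfsg.Agent.S3379

/-- a group generated by two commuting elements is commutative -/
theorem comm_of_closure_pair {Q : Type*} [Group Q] (a b : Q) (hab : a * b = b * a)
    (htop : Subgroup.closure {a, b} = ⊤) (u v : Q) : u * v = v * u := by
  have h1 : Subgroup.closure {a, b} ≤ Subgroup.centralizer ({a, b} : Set Q) := by
    rw [Subgroup.closure_le]
    intro s hs
    rw [SetLike.mem_coe, Subgroup.mem_centralizer_iff]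
    intro t ht
    rcases hs with rfl | rfl <;> rcases ht with rfl | rfl
    · rfl
    · exact hab.symm
    · exact hab
    · rfl
  have h2 : ∀ w : Q, ∀ t ∈ ({a, b} : Set Q), t * w = w * t := by
    intro w t ht
    have hw : w ∈ Subgroup.centralizer ({a, b} : Set Q) := h1 (by rw [htop]; trivial)
    exact Subgroup.mem_centralizer_iff.mp hw t ht
  have h3 : Subgroup.closure {a, b} ≤ Subgroup.center Q := by
    rw [Subgroup.closure_le]
    intro s hs
    rw [SetLike.mem_coe, Subgroup.mem_center_iff]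
    intro w
    exact (h2 w s hs).symm
  have hu : u ∈ Subgroup.center Q := h3 (by rw [htop]; trivial)
  exact (Subgroup.mem_center_iff.mp hu v).symm


theorem coprime_of_comm {G : Type*} [Group G] [Finite G] (x y : G) (r : ℕ) (hr : 1 ≤ r)
    (htop : Subgroup.closure {x, y} = ⊤) (hconj : x⁻¹ * y * x = y ^ r)
    (hy : Subgroup.zpowers y = commutator G) : Nat.Coprime (r - 1) (orderOf y) := by
  set K : Subgroup G := Subgroup.zpowers (y ^ (r - 1)) with hK
  have hKn : K.Normal := by
    constructor
    intro n hn g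
    obtain ⟨k, rfl⟩ := Subgroup.mem_zpowers_iff.mp hn
    have hgy : g * y * g⁻¹ ∈ Subgroup.zpowers y := by
      rw [hy]
      exact (inferInstance : (commutator G).Normal).conj_mem y
        (by rw [← hy]; exact Subgroup.mem_zpowers y) g
    obtain ⟨j, hj⟩ := Subgroup.mem_zpowers_iff.mp hgy
    have : g * (y ^ (r - 1)) ^ k * g⁻¹ = (y ^ (r - 1)) ^ (j * k) := by
      have h1 : g * (y ^ (r - 1)) ^ k * g⁻¹ = ((g * y * g⁻¹) ^ (r - 1)) ^ k := by
        simp [conj_pow, conj_zpow]
      rw [h1, ← hj]
      rw [← zpow_natCast, ← zpow_natCast, ← zpow_mul, ← zpow_mul, ← zpow_mul]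
      congr 1
      ring
    rw [this]
    exact Subgroup.zpow_mem_zpowers _ _
  have hcomm : ∀ u v : G ⧸ K, u * v = v * u := by
    apply comm_of_closure_pair (QuotientGroup.mk x : G ⧸ K) (QuotientGroup.mk y)
    · rw [← QuotientGroup.mk_mul, ← QuotientGroup.mk_mul, QuotientGroup.eq]
      have : (x * y)⁻¹ * (y * x) = y ^ (r - 1) := by
        have h1 : (x * y)⁻¹ * (y * x) = y⁻¹ * (x⁻¹ * y * x) := by group
        rw [h1, hconj]
        obtain ⟨s, rfl⟩ : ∃ s, r = s + 1 := ⟨r - 1, by omega⟩
        rw [Nat.add_sub_cancel, pow_succ']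
        group
      rw [this]
      exact Subgroup.mem_zpowers _
    · have h1 := (QuotientGroup.mk' K).map_closure {x, y}
      rw [htop, Subgroup.map_top_of_surjective _ (QuotientGroup.mk'_surjective K),
        Set.image_pair] at h1
      exact h1.symm
  have hle : commutator G ≤ K := by
    rw [commutator_def, Subgroup.commutator_le]
    intro g₁ _ g₂ _
    rw [← QuotientGroup.eq_one_iff]
    rw [commutatorElement_def]
    simp only [QuotientGroup.mk_mul, QuotientGroup.mk_inv]
    rw [hcomm (↑g₁) (↑g₂)]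
    group
  have hm : 0 < orderOf y := orderOf_pos y
  have h1 : Nat.card (commutator G) = orderOf y := by rw [← hy, Nat.card_zpowers]
  have h2 : Nat.card K = orderOf y / Nat.gcd (orderOf y) (r - 1) := by
    rw [hK, Nat.card_zpowers, orderOf_pow]
  have h3 := Subgroup.card_le_of_le hle
  rw [h1, h2] at h3
  rw [Nat.coprime_comm, Nat.coprime_iff_gcd_eq_one]
  by_contra hne
  have hg0 : 0 < Nat.gcd (orderOf y) (r - 1) := Nat.gcd_pos_of_pos_left _ hm
  have hg2 : 2 ≤ Nat.gcd (orderOf y) (r - 1) := by omega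
  have := Nat.div_lt_self hm hg2
  omega


theorem conj_pow_iter {G : Type*} [Group G] (x y : G) (r : ℕ) (hconj : x⁻¹ * y * x = y ^ r)
    (k : ℕ) : (x ^ k)⁻¹ * y * x ^ k = y ^ (r ^ k) := by
  induction k with
  | zero => simp
  | succ k ih =>
    have h1 : (x ^ (k + 1))⁻¹ * y * x ^ (k + 1) = x⁻¹ * ((x ^ k)⁻¹ * y * x ^ k) * x := by
      rw [pow_succ]; group
    rw [h1, ih]
    have h2 : x⁻¹ * y ^ (r ^ k) * x = (x⁻¹ * y * x) ^ (r ^ k) := by
      have := conj_pow (a := x⁻¹) (b := y) (i := r ^ k)
      simpa using this.symm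
    rw [h2, hconj, ← pow_mul, pow_succ, mul_comm]

/-- Let G be a finite group all of whose Sylow subgroups are cyclic. Then G is generated by two elements x and y of coprime orders n and m with x⁻¹yx = y^r, where gcd(r − 1, m) = 1 and r^n ≡ 1 (mod m). -/
theorem result {G : Type*} [Group G] [Finite G]
    (hZ : ∀ (p : ℕ) [Fact p.Prime] (P : Sylow p G), IsCyclic (P : Subgroup G)) :
    ∃ (x y : G) (n m r : ℕ), Subgroup.closure {x, y} = ⊤ ∧ orderOf x = n ∧ orderOf y = m ∧
      x⁻¹ * y * x = y ^ r ∧ Nat.Coprime (r - 1) m ∧ Nat.Coprime n m ∧ 1 ≤ r ∧ r ^ n % m = 1 % m := by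
  have hG : IsZGroup G := ⟨fun p hp P => @hZ p ⟨hp⟩ P⟩
  have hcop := IsZGroup.coprime_commutator_index G
  obtain ⟨H, hH⟩ := Subgroup.exists_right_complement'_of_coprime hcop
  have hNcyc : IsCyclic (commutator G) := IsZGroup.isCyclic_commutator G
  have hHcyc : IsCyclic H := by
    have h1 : Abelianization G ≃* H := hH.symm.QuotientMulEquiv
    exact isCyclic_of_surjective _ h1.surjective
  obtain ⟨⟨y, hyN⟩, hy⟩ := hNcyc.exists_generator
  obtain ⟨⟨x, hxH⟩, hx⟩ := hHcyc.exists_generator
  have hyz : Subgroup.zpowers y = commutator G := by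
    apply le_antisymm
    · rw [Subgroup.zpowers_le]; exact hyN
    · intro g hg
      obtain ⟨k, hk⟩ := Subgroup.mem_zpowers_iff.mp (hy ⟨g, hg⟩)
      rw [Subgroup.mem_zpowers_iff]
      refine ⟨k, ?_⟩
      have := congrArg Subtype.val hk
      simpa using this
  have hxz : Subgroup.zpowers x = H := by
    apply le_antisymm
    · rw [Subgroup.zpowers_le]; exact hxH
    · intro g hg
      obtain ⟨k, hk⟩ := Subgroup.mem_zpowers_iff.mp (hx ⟨g, hg⟩)
      rw [Subgroup.mem_zpowers_iff]
      refine ⟨k, ?_⟩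
      have := congrArg Subtype.val hk
      simpa using this
  have htop : Subgroup.closure {x, y} = ⊤ := by
    have h1 : commutator G ⊔ H = ⊤ := hH.sup_eq_top
    rw [eq_top_iff, ← h1, sup_le_iff, ← hyz, ← hxz, Subgroup.zpowers_le, Subgroup.zpowers_le]
    exact ⟨Subgroup.subset_closure (by simp), Subgroup.subset_closure (by simp)⟩
  have hc : x⁻¹ * y * x ∈ Subgroup.zpowers y := by
    rw [hyz]
    have := (inferInstance : (commutator G).Normal).conj_mem y hyN x⁻¹
    simpa using this
  obtain ⟨k, hk⟩ := (Submonoid.mem_powers_iff _ _).mp (mem_powers_iff_mem_zpowers.mpr hc)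
  have hm : 0 < orderOf y := orderOf_pos y
  have hconj : x⁻¹ * y * x = y ^ (k + orderOf y) := by
    rw [pow_add, pow_orderOf_eq_one, mul_one, hk]
  refine ⟨x, y, orderOf x, orderOf y, k + orderOf y, htop, rfl, rfl, hconj, ?_, ?_, by omega, ?_⟩
  · exact coprime_of_comm x y _ (by omega) htop hconj hyz
  · have h1 : orderOf x = (commutator G).index := by
      rw [← Nat.card_zpowers, hxz, hH.symm.index_eq_card]
    have h2 : orderOf y = Nat.card (commutator G) := by
      rw [← Nat.card_zpowers, hyz]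
    rw [h1, h2]
    exact hcop.symm
  · have h1 := conj_pow_iter x y _ hconj (orderOf x)
    rw [pow_orderOf_eq_one, inv_one, one_mul, mul_one] at h1
    have h2 : y ^ ((k + orderOf y) ^ orderOf x) = y ^ 1 := by rw [← h1, pow_one]
    exact pow_eq_pow_iff_modEq.mp h2

end Cfsg.Agent.S3379
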