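import Cfsg.Statements.S3381
-- import your own Cfsg.Agent.* helpers here

set_option autoImplicit false
open Cfsg

namespace Cfsg.Agent.S3381


section
variable {q : ℕ} [Fact q.Prime] {V : Type*} [AddCommGroup V] [Module (ZMod q) V]
    {G : Type*} [Group G] (ρ : G →* (V ≃ₗ[ZMod q] V))

theorem act_mul (g h : G) (v : V) : ρ (g * h) v = ρ g (ρ h v) := by
  rw [map_mul]; rfl

theorem act_one (v : V) : ρ 1 v = v := by rw [map_one]; rfl

theorem stab_cases {v : V} (h : Nat.card {g : G // ρ g v = v} = 2) {a b : G}
    (ha : ρ a v = v) (hb : ρ b v = v) (hab : a ≠ b) (c : G) (hc : ρ c v = v) :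
    c = a ∨ c = b := by
  obtain ⟨y, hy, huniq⟩ := (Nat.card_eq_two_iff' (⟨a, ha⟩ : {g : G // ρ g v = v})).mp h
  by_cases hca : c = a
  · left; exact hca
  · right
    have h1 := huniq ⟨b, hb⟩ (by intro e; exact hab (Subtype.ext_iff.mp e).symm)
    have h2 := huniq ⟨c, hc⟩ (by intro e; exact hca (Subtype.ext_iff.mp e))
    exact Subtype.ext_iff.mp (h2.trans h1.symm)

theorem stab_other {v : V} (h : Nat.card {g : G // ρ g v = v} = 2) :
    ∃ t : G, t ≠ 1 ∧ ρ t v = v := by
  obtain ⟨y, hy, _⟩ := (Nat.card_eq_two_iff' (⟨1, act_one ρ v⟩ : {g : G // ρ g v = v})).mp h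
  exact ⟨y.1, fun e => hy (Subtype.ext e), y.2⟩

theorem mul_self_of_order_two {g : G} (h : orderOf g = 2) : g * g = 1 := by
  have := pow_orderOf_eq_one g
  rw [h, sq] at this
  exact this

theorem ne_one_of_order_two {g : G} (h : orderOf g = 2) : g ≠ 1 := by
  rintro rfl
  rw [orderOf_one] at h
  omega

theorem half_exists (hq : q ≠ 2) : ∃ h : ZMod q, h * 2 = 1 := by
  have h2 : (2 : ZMod q) ≠ 0 := by
    intro h
    have h' : ((2 : ℕ) : ZMod q) = 0 := by exact_mod_cast h
    rw [ZMod.natCast_eq_zero_iff] at h'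
    exact hq ((Nat.prime_dvd_prime_iff_eq (Fact.out : q.Prime) Nat.prime_two).mp h')
  exact ⟨2⁻¹, inv_mul_cancel₀ h2⟩

theorem two_cancel (hq : q ≠ 2) {x y : V} (h : x + x = y + y) : x = y := by
  obtain ⟨k, hk⟩ := half_exists (q := q) hq
  have hx : x = k • ((2 : ZMod q) • x) := by rw [smul_smul, hk, one_smul]
  have hy : y = k • ((2 : ZMod q) • y) := by rw [smul_smul, hk, one_smul]
  rw [hx, hy, two_smul, two_smul, h]

theorem char_two_add_self (hq : q = 2) (x : V) : x + x = 0 := by
  have h2 : (2 : ZMod q) = 0 := by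
    have : ((2 : ℕ) : ZMod q) = 0 := by rw [ZMod.natCast_eq_zero_iff, hq]
    exact_mod_cast this
  rw [← two_smul (ZMod q) x, h2, zero_smul]

/-- a central involution fixes no nonzero vector -/
theorem central_fixes_nothing (hρ : Function.Injective ρ)
    (hstab : ∀ v : V, v ≠ 0 → Nat.card {g : G // ρ g v = v} = 2)
    (z : G) (hz : orderOf z = 2) (hzc : z ∈ Subgroup.center G) :
    ∀ w : V, w ≠ 0 → ρ z w ≠ w := by
  intro w hw hzw
  have hz1 : z ≠ 1 := ne_one_of_order_two hz
  have hzz : z * z = 1 := mul_self_of_order_two hz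
  have hcomm : ∀ g : G, g * z = z * g := fun g => Subgroup.mem_center_iff.mp hzc g
  have hzzv : ∀ x : V, ρ z (ρ z x) = x := fun x => by rw [← act_mul, hzz, act_one]
  have hcommv : ∀ (g : G) (x : V), ρ z (ρ g x) = ρ g (ρ z x) := fun g x => by
    rw [← act_mul, ← act_mul, hcomm]
  -- there is v moved by z
  obtain ⟨v, hv⟩ : ∃ v : V, ρ z v ≠ v := by
    by_contra hcon
    push Not at hcon
    apply hz1
    apply hρ
    apply LinearEquiv.ext
    intro x
    rw [hcon x, act_one]
  have hstw : ∀ c : G, ρ c w = w → c = 1 ∨ c = z := fun c hc =>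
    stab_cases ρ (hstab w hw) (act_one ρ w) hzw (Ne.symm hz1) c hc
  have hv0 : v ≠ 0 := by
    rintro rfl
    exact hv (map_zero _)
  by_cases hq : q = 2
  · -- characteristic two
    obtain ⟨t, ht1, htv⟩ := stab_other ρ (hstab v hv0)
    have htz : t ≠ z := by
      rintro rfl
      exact hv htv
    have htt : t * t = 1 := by
      have h2 : ρ (t * t) v = v := by rw [act_mul, htv, htv]
      rcases stab_cases ρ (hstab v hv0) (act_one ρ v) htv (Ne.symm ht1) (t * t) h2 with h | h
      · exact h
      · exfalso
        apply ht1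
        have : t * t = t * 1 := by rw [h, mul_one]
        exact mul_left_cancel this
    have httw : ρ t (ρ t w) = w := by rw [← act_mul, htt, act_one]
    have htu : ρ t (w + ρ t w) = w + ρ t w := by
      rw [map_add, httw, add_comm]
    have hzu : ρ z (w + ρ t w) = w + ρ t w := by
      rw [map_add, hcommv, hzw]
    by_cases hu : w + ρ t w = 0
    · have : ρ t w = w := by
        have h1 : w + w = 0 := char_two_add_self hq w
        have : w + ρ t w = w + w := by rw [hu, h1]
        exact add_left_cancel this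
      rcases hstw t this with h | h
      · exact ht1 h
      · exact htz h
    · rcases stab_cases ρ (hstab _ hu) (act_one ρ _) hzu (Ne.symm hz1) t htu with h | h
      · exact ht1 h
      · exact htz h
  · -- odd characteristic
    set a : V := v - ρ z v with ha
    have ha0 : a ≠ 0 := by
      rw [ha]
      exact sub_ne_zero.mpr (Ne.symm hv)
    have hza : ρ z a = -a := by
      rw [ha, map_sub, hzzv]; abel
    have hx0 : a + w ≠ 0 := by
      intro h0
      have h1 : ρ z (a + w) = 0 := by rw [h0, map_zero]
      rw [map_add, hza, hzw] at h1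
      -- -a + w = 0 and a + w = 0 so w + w = 0
      have h2 : w + w = (0 : V) + 0 := by
        have : (a + w) + (-a + w) = 0 := by rw [h0, h1, add_zero]
        rw [add_zero, ← this]; abel
      exact hw (two_cancel hq h2)
    obtain ⟨s, hs1, hsx⟩ := stab_other ρ (hstab _ hx0)
    have h1 : ρ s a + ρ s w = a + w := by rw [← map_add, hsx]
    have h2 : -ρ s a + ρ s w = -a + w := by
      have := congrArg (ρ z) h1
      rw [map_add, map_add, hcommv, hcommv, hza, hzw, map_neg] at this
      exact this
    have h3 : ρ s w = w := by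
      apply two_cancel hq
      have : (ρ s a + ρ s w) + (-ρ s a + ρ s w) = (a + w) + (-a + w) := by rw [h1, h2]
      calc ρ s w + ρ s w = (ρ s a + ρ s w) + (-ρ s a + ρ s w) := by abel
        _ = (a + w) + (-a + w) := this
        _ = w + w := by abel
    rcases hstw s h3 with h | h
    · exact hs1 h
    · rw [h] at hsx
      rw [map_add, hza, hzw] at hsx
      have : a + a = (0 : V) + 0 := by
        have h5 : a = -a := by
          have := add_right_cancel hsx
          exact this.symm
        rw [add_zero]
        nth_rewrite 2 [h5]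
        abel
      exact ha0 (two_cancel hq this)

theorem central_neg (hρ : Function.Injective ρ)
    (hstab : ∀ v : V, v ≠ 0 → Nat.card {g : G // ρ g v = v} = 2)
    (z : G) (hz : orderOf z = 2) (hzc : z ∈ Subgroup.center G) (v : V) :
    ρ z v = -v := by
  have hzz : z * z = 1 := mul_self_of_order_two hz
  have h1 : ρ z (v + ρ z v) = v + ρ z v := by
    rw [map_add, ← act_mul, hzz, act_one, add_comm]
  by_cases h0 : v + ρ z v = 0
  · exact (neg_eq_of_add_eq_zero_right h0).symm
  · exact absurd h1 (central_fixes_nothing ρ hρ hstab z hz hzc _ h0)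

theorem q_ne_two (hρ : Function.Injective ρ)
    (hstab : ∀ v : V, v ≠ 0 → Nat.card {g : G // ρ g v = v} = 2)
    (z : G) (hz : orderOf z = 2) (hzc : z ∈ Subgroup.center G) : q ≠ 2 := by
  intro hq
  apply ne_one_of_order_two hz
  apply hρ
  apply LinearEquiv.ext
  intro x
  rw [central_neg ρ hρ hstab z hz hzc, act_one]
  have := char_two_add_self hq x
  exact neg_eq_of_add_eq_zero_right this

/-- the unique central involution -/
theorem central_unique (hρ : Function.Injective ρ)
    (hstab : ∀ v : V, v ≠ 0 → Nat.card {g : G // ρ g v = v} = 2)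
    (z : G) (hz : orderOf z = 2) (hzc : z ∈ Subgroup.center G)
    (g : G) (hg : orderOf g = 2) (hgc : g ∈ Subgroup.center G) : g = z := by
  apply hρ
  apply LinearEquiv.ext
  intro x
  rw [central_neg ρ hρ hstab z hz hzc, central_neg ρ hρ hstab g hg hgc]

end


/-- the abstract counting lemma -/
theorem comb {ι : Type*} [DecidableEq ι] (I : Finset ι) (σ : ι → ι) (c : ι → ℕ) (N : ℕ)
    (hN : 2 ≤ N)
    (h1 : ∀ t ∈ I, c t * c (σ t) = N)
    (h2 : ∀ s ∈ I, ∀ t ∈ I, s ≠ t → c s * c t ≤ N)
    (h3 : ∀ t ∈ I, σ t ∈ I ∧ σ t ≠ t ∧ σ (σ t) = t)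
    (h4 : ∑ t ∈ I, (c t - 1) = N - 1)
    (h5 : ∀ t ∈ I, 2 ≤ c t) :
    ∃ k, k * k = N ∧ I.card = k + 1 := by
  -- auxiliary claim
  have aux : ∀ t ∈ I, ¬ (c (σ t) < c t) := by
    intro t ht hlt
    obtain ⟨hσt, hσne, hσσ⟩ := h3 t ht
    set a := c t with ha
    set b := c (σ t) with hb
    have hab : a * b = N := h1 t ht
    have ha2 : 2 ≤ a := h5 t ht
    have hb2 : 2 ≤ b := h5 _ hσt
    have hle : ∀ s ∈ I, s ≠ t → c s ≤ b := by
      intro s hs hst
      have := h2 s hs t ht hst
      rw [← hab, ← ha, mul_comm] at this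
      exact Nat.le_of_mul_le_mul_left this (by omega)
    have hsub : ∀ s ∈ I, s = t ∨ s = σ t := by
      intro s hs
      by_contra hcon
      push Not at hcon
      obtain ⟨hs1, hs2, hs3⟩ := h3 s hs
      have e1 : c s ≤ b := hle s hs hcon.1
      have e2 : c (σ s) ≤ b := by
        apply hle _ hs1
        intro e
        apply hcon.2
        rw [← hs3, e]
      have e3 : c s * c (σ s) = N := h1 s hs
      have e4 : c s * c (σ s) ≤ b * b := Nat.mul_le_mul e1 e2
      have e5 : b * b < a * b := Nat.mul_lt_mul_of_pos_right hlt (by omega)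
      omega
    have hI : I = {t, σ t} := by
      ext s
      simp only [Finset.mem_insert, Finset.mem_singleton]
      constructor
      · exact hsub s
      · rintro (rfl | rfl)
        · exact ht
        · exact hσt
    rw [hI, Finset.sum_pair (Ne.symm hσne), ← ha, ← hb, ← hab] at h4
    -- (a-1) + (b-1) = a*b - 1 with a,b ≥ 2
    obtain ⟨a', ha'⟩ : ∃ a', a = a' + 2 := ⟨a - 2, by omega⟩
    obtain ⟨b', hb'⟩ : ∃ b', b = b' + 2 := ⟨b - 2, by omega⟩
    have : (a' + 2) * (b' + 2) = a' * b' + 2 * a' + 2 * b' + 4 := by ring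
    rw [ha', hb', this] at h4
    omega
  have hsq : ∀ t ∈ I, c t * c t = N := by
    intro t ht
    obtain ⟨hσt, hσne, hσσ⟩ := h3 t ht
    have e1 := aux t ht
    have e2 := aux _ hσt
    rw [hσσ] at e2
    have : c t = c (σ t) := by omega
    have := h1 t ht
    rw [← ‹c t = c (σ t)›] at this
    exact this
  have hne : I.Nonempty := by
    by_contra hcon
    rw [Finset.not_nonempty_iff_eq_empty] at hcon
    rw [hcon, Finset.sum_empty] at h4
    omega
  obtain ⟨t0, ht0⟩ := hne
  refine ⟨c t0, hsq t0 ht0, ?_⟩
  have hall : ∀ t ∈ I, c t = c t0 := by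
    intro t ht
    have := (hsq t ht).trans (hsq t0 ht0).symm
    exact Nat.mul_self_inj.mp this
  have hsum : ∑ t ∈ I, (c t - 1) = I.card * (c t0 - 1) := by
    rw [Finset.sum_congr rfl (fun t ht => by rw [hall t ht]), Finset.sum_const, smul_eq_mul]
  rw [hsum, ← hsq t0 ht0] at h4
  have hk2 := h5 t0 ht0
  obtain ⟨k', hk'⟩ : ∃ k', c t0 = k' + 2 := ⟨c t0 - 2, by omega⟩
  rw [hk'] at h4 ⊢
  have e1 : (k' + 2) * (k' + 2) - 1 = (k' + 3) * (k' + 1) := by
    have : (k' + 2) * (k' + 2) = (k' + 3) * (k' + 1) + 1 := by ring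
    omega
  have e2 : k' + 2 - 1 = k' + 1 := by omega
  rw [e1, e2] at h4
  exact Nat.eq_of_mul_eq_mul_right (by omega) h4


section
variable {q : ℕ} [Fact q.Prime] {V : Type*} [AddCommGroup V] [Module (ZMod q) V] [Fintype V]
    [DecidableEq V]
    {G : Type*} [Group G] (ρ : G →* (V ≃ₗ[ZMod q] V))

/-- number of fixed vectors -/
noncomputable def fixCard (g : G) : ℕ := (Finset.univ.filter (fun v : V => ρ g v = v)).card

/-- F1 -/
theorem fix_mul (hq : q ≠ 2) (t z : G) (htt : t * t = 1) (hzneg : ∀ v : V, ρ z v = -v) :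
    fixCard ρ t * fixCard ρ (t * z) = Fintype.card V := by
  unfold fixCard
  rw [← Finset.card_product, ← Finset.card_univ]
  obtain ⟨k, hk⟩ := half_exists (q := q) hq
  have httv : ∀ x : V, ρ t (ρ t x) = x := fun x => by rw [← act_mul, htt, act_one]
  have hneg : ∀ b : V, ρ (t * z) b = b → ρ t b = -b := by
    intro b hb
    rw [act_mul, hzneg, map_neg] at hb
    exact neg_eq_iff_eq_neg.mp hb
  apply Finset.card_bij (fun p _ => p.1 + p.2)
  · intro p _; exact Finset.mem_univ _
  · rintro ⟨a, b⟩ hp ⟨a', b'⟩ hp' h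
    simp only [Finset.mem_product, Finset.mem_filter, Finset.mem_univ, true_and] at hp hp'
    simp only at h
    have h2 : a - b = a' - b' := by
      have := congrArg (ρ t) h
      rw [map_add, map_add, hp.1, hp'.1, hneg b hp.2, hneg b' hp'.2] at this
      rw [sub_eq_add_neg, sub_eq_add_neg]; exact this
    have ha : a = a' := by
      apply two_cancel hq
      calc a + a = (a + b) + (a - b) := by abel
        _ = (a' + b') + (a' - b') := by rw [h, h2]
        _ = a' + a' := by abel
    subst ha
    have hb : b = b' := add_left_cancel h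
    rw [hb]
  · intro v _
    refine ⟨(k • (v + ρ t v), k • (v - ρ t v)), ?_, ?_⟩
    · simp only [Finset.mem_product, Finset.mem_filter, Finset.mem_univ, true_and]
      constructor
      · rw [map_smul, map_add, httv, add_comm]
      · rw [act_mul, hzneg, map_neg, map_smul, map_sub, httv, ← smul_neg, neg_sub]
    · simp only
      rw [← smul_add]
      have : v + ρ t v + (v - ρ t v) = (2 : ZMod q) • v := by rw [two_smul]; abel
      rw [this, smul_smul, hk, one_smul]

/-- F2 -/
theorem fix_mul_le (hstab : ∀ v : V, v ≠ 0 → Nat.card {g : G // ρ g v = v} = 2)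
    (s t : G) (hs : s ≠ 1) (ht : t ≠ 1) (hst : s ≠ t) :
    fixCard ρ s * fixCard ρ t ≤ Fintype.card V := by
  unfold fixCard
  rw [← Finset.card_product, ← Finset.card_univ]
  apply Finset.card_le_card_of_injOn (fun p => p.1 + p.2)
  · intro p _; exact Finset.mem_coe.mpr (Finset.mem_univ _)
  · rintro ⟨a, b⟩ hp ⟨a', b'⟩ hp' h
    simp only [Finset.coe_product, Set.mem_prod, Finset.mem_coe, Finset.mem_filter,
      Finset.mem_univ, true_and] at hp hp'
    simp only at h
    have hd : a - a' = b' - b := by
      rw [sub_eq_sub_iff_add_eq_add, h, add_comm]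
    have hsd : ρ s (a - a') = a - a' := by rw [map_sub, hp.1, hp'.1]
    have htd : ρ t (a - a') = a - a' := by rw [hd, map_sub, hp.2, hp'.2]
    have hd0 : a - a' = 0 := by
      by_contra hne
      rcases stab_cases ρ (hstab _ hne) (act_one ρ _) hsd (Ne.symm hs) t htd with e | e
      · exact ht e
      · exact hst e.symm
    have ha : a = a' := sub_eq_zero.mp hd0
    have hb : b = b' := by
      rw [hd0] at hd
      exact (sub_eq_zero.mp hd.symm).symm
    rw [ha, hb]

/-- F5 -/
theorem two_le_fix (hρ : Function.Injective ρ) (t z : G) (htt : t * t = 1) (htz : t ≠ z)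
    (hzneg : ∀ v : V, ρ z v = -v) : 2 ≤ fixCard ρ t := by
  by_contra hcon
  apply htz
  apply hρ
  apply LinearEquiv.ext
  intro x
  unfold fixCard at hcon
  have hle : (Finset.univ.filter (fun v : V => ρ t v = v)).card ≤ 1 := by omega
  rw [Finset.card_le_one] at hle
  have h0 : (0 : V) ∈ Finset.univ.filter (fun v : V => ρ t v = v) := by
    simp
  have hx : x + ρ t x ∈ Finset.univ.filter (fun v : V => ρ t v = v) := by
    simp only [Finset.mem_filter, Finset.mem_univ, true_and]
    rw [map_add, ← act_mul, htt, act_one, add_comm]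
  have := hle _ hx _ h0
  rw [hzneg]
  exact (neg_eq_of_add_eq_zero_right this).symm

/-- F4 -/
theorem partition_count [Fintype G] [DecidableEq G] (hq : q ≠ 2)
    (hstab : ∀ v : V, v ≠ 0 → Nat.card {g : G // ρ g v = v} = 2)
    (z : G) (hzneg : ∀ v : V, ρ z v = -v) :
    ∑ t ∈ Finset.univ.filter (fun g : G => orderOf g = 2 ∧ g ≠ z), (fixCard ρ t - 1)
      = Fintype.card V - 1 := by
  classical
  set I : Finset G := Finset.univ.filter (fun g : G => orderOf g = 2 ∧ g ≠ z) with hI
  set S : Finset V := Finset.univ.filter (fun v : V => v ≠ 0) with hS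
  have key := Finset.sum_card_bipartiteAbove_eq_sum_card_bipartiteBelow
    (s := S) (t := I) (fun (v : V) (t : G) => ρ t v = v)
  have hL : ∀ v ∈ S, (I.bipartiteAbove (fun (v : V) (t : G) => ρ t v = v) v).card = 1 := by
    intro v hv
    have hv0 : v ≠ 0 := by simpa [hS] using hv
    obtain ⟨t, ht1, htv⟩ := stab_other ρ (hstab v hv0)
    have hst : ∀ c : G, ρ c v = v → c = 1 ∨ c = t := fun c hc =>
      stab_cases ρ (hstab v hv0) (act_one ρ v) htv (Ne.symm ht1) c hc
    have htt : t * t = 1 := by
      have h2 : ρ (t * t) v = v := by rw [act_mul, htv, htv]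
      rcases hst _ h2 with h | h
      · exact h
      · exfalso
        apply ht1
        have : t * t = t * 1 := by rw [h, mul_one]
        exact mul_left_cancel this
    have hto : orderOf t = 2 := orderOf_eq_prime (by rw [sq]; exact htt) ht1
    have htz : t ≠ z := by
      rintro rfl
      rw [hzneg] at htv
      -- -v = v so v + v = 0
      apply hv0
      apply two_cancel hq
      rw [add_zero]
      nth_rewrite 1 [← htv]
      exact neg_add_cancel v
    rw [Finset.card_eq_one]
    refine ⟨t, ?_⟩
    ext c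
    simp only [Finset.mem_bipartiteAbove, Finset.mem_singleton, hI, Finset.mem_filter,
      Finset.mem_univ, true_and]
    constructor
    · rintro ⟨⟨hc2, _⟩, hcv⟩
      rcases hst c hcv with h | h
      · exact absurd h (ne_one_of_order_two hc2)
      · exact h
    · rintro rfl
      exact ⟨⟨hto, htz⟩, htv⟩
  have hR : ∀ t ∈ I, (S.bipartiteBelow (fun (v : V) (t : G) => ρ t v = v) t).card
      = fixCard ρ t - 1 := by
    intro t _
    unfold fixCard
    have : S.bipartiteBelow (fun (v : V) (t : G) => ρ t v = v) t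
        = (Finset.univ.filter (fun v : V => ρ t v = v)).erase 0 := by
      ext v
      simp only [Finset.mem_bipartiteBelow, hS, Finset.mem_filter, Finset.mem_univ, true_and,
        Finset.mem_erase]
    rw [this, Finset.card_erase_of_mem]
    simp
  rw [Finset.sum_congr rfl hL, Finset.sum_congr rfl hR] at key
  rw [← key, Finset.sum_const, smul_eq_mul, mul_one, hS, Finset.filter_ne', Finset.card_erase_of_mem (Finset.mem_univ _), Finset.card_univ]

end

/-- Let G be a finite group acting faithfully and linearly on a non-trivial finite vector space V over the field with q elements (q prime) so that every non-zero vector has a stabilizer of order 2, and suppose G has a central involution. Then V has q^(2r) elements for some r and G contains exactly q^r + 1 non-central involutions. -/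
theorem result
    (q : ℕ) [Fact q.Prime] {V : Type*} [AddCommGroup V] [Module (ZMod q) V] [Finite V] [Nontrivial V]
    {G : Type*} [Group G] [Finite G] (ρ : G →* (V ≃ₗ[ZMod q] V)) (hρ : Function.Injective ρ)
    (hstab : ∀ v : V, v ≠ 0 → Nat.card {g : G // ρ g v = v} = 2)
    (z : G) (hz : orderOf z = 2) (hzc : z ∈ Subgroup.center G) :
    ∃ r : ℕ, Nat.card V = q ^ (2 * r) ∧
      Nat.card {g : G // orderOf g = 2 ∧ g ∉ Subgroup.center G} = q ^ r + 1 := by
  classical
  have : Fintype V := Fintype.ofFinite V
  have : Fintype G := Fintype.ofFinite G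
  have hq := q_ne_two ρ hρ hstab z hz hzc
  have hzneg := central_neg ρ hρ hstab z hz hzc
  have hz1 := ne_one_of_order_two hz
  have hzz := mul_self_of_order_two hz
  have hcomm : ∀ g : G, g * z = z * g := fun g => Subgroup.mem_center_iff.mp hzc g
  have hN : 2 ≤ Fintype.card V := Fintype.one_lt_card
  have hImem : ∀ t : G, t ∈ Finset.univ.filter (fun g : G => orderOf g = 2 ∧ g ≠ z) ↔
      (orderOf t = 2 ∧ t ≠ z) := by
    intro t; simp
  obtain ⟨k, hk, hcard⟩ := comb (Finset.univ.filter (fun g : G => orderOf g = 2 ∧ g ≠ z))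
    (fun t => t * z) (fixCard ρ) (Fintype.card V) hN
    (by
      intro t ht
      rw [hImem] at ht
      exact fix_mul ρ hq t z (mul_self_of_order_two ht.1) hzneg)
    (by
      intro s hs t ht hst
      rw [hImem] at hs ht
      exact fix_mul_le ρ hstab s t (ne_one_of_order_two hs.1) (ne_one_of_order_two ht.1) hst)
    (by
      intro t ht
      rw [hImem] at ht ⊢
      have htt := mul_self_of_order_two ht.1
      have ht1 := ne_one_of_order_two ht.1
      have h1 : t * z ≠ 1 := by
        intro e
        apply ht.2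
        have : t * z = z * z := by rw [e, hzz]
        exact mul_right_cancel this
      have h2 : (t * z) ^ 2 = 1 := by
        rw [sq]
        calc t * z * (t * z) = t * (z * t) * z := by simp only [mul_assoc]
          _ = t * (t * z) * z := by rw [hcomm t]
          _ = (t * t) * (z * z) := by simp only [mul_assoc]
          _ = 1 := by rw [htt, hzz, mul_one]
      refine ⟨⟨orderOf_eq_prime h2 h1, ?_⟩, ?_, ?_⟩
      · intro e
        apply ht1
        have : t * z = 1 * z := by rw [e, one_mul]
        exact mul_right_cancel this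
      · intro e
        apply hz1
        have : t * z = t * 1 := by rw [e, mul_one]
        exact mul_left_cancel this
      · show t * z * z = t
        rw [mul_assoc, hzz, mul_one])
    (partition_count ρ hq hstab z hzneg)
    (by
      intro t ht
      rw [hImem] at ht
      exact two_le_fix ρ hρ t z (mul_self_of_order_two ht.1) ht.2 hzneg)
  -- the order of V is a power of q
  have hpow : Fintype.card V = q ^ Module.finrank (ZMod q) V := by
    rw [Module.card_eq_pow_finrank (K := ZMod q) (V := V), ZMod.card]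
  have hkdvd : k ∣ q ^ Module.finrank (ZMod q) V := by
    rw [← hpow, ← hk]
    exact Dvd.intro _ rfl
  obtain ⟨r, _, hr⟩ := (Nat.dvd_prime_pow (Fact.out : q.Prime)).mp hkdvd
  refine ⟨r, ?_, ?_⟩
  · rw [Nat.card_eq_fintype_card, ← hk, hr, two_mul, pow_add]
  · rw [← hr, ← hcard]
    apply Nat.subtype_card
    intro g
    rw [hImem]
    constructor
    · rintro ⟨h2, hgz⟩
      refine ⟨h2, fun hgc => hgz ?_⟩
      exact central_unique ρ hρ hstab z hz hzc g h2 hgc
    · rintro ⟨h2, hgc⟩
      refine ⟨h2, ?_⟩
      rintro rfl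
      exact hgc hzc

end Cfsg.Agent.S3381
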