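import Cfsg.Statements.S3382
import Cfsg.Agent.Lib.Helper56_Monomial

set_option autoImplicit false
open Cfsg

namespace Cfsg.Agent.S3382

open Cfsg.Agent.Lib.Helper56_Monomial

section units
variable {q : ℕ} [Fact q.Prime]

theorem unit_sq_eq_one {a : (ZMod q)ˣ} (h : a ^ 2 = 1) : a = 1 ∨ a = -1 := by
  have h' : (a : ZMod q) * a = 1 := by
    have := congrArg Units.val h
    rwa [Units.val_pow_eq_pow_val, pow_two, Units.val_one] at this
  rcases mul_self_eq_one_iff.mp h' with h1 | h1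
  · left; exact Units.ext h1
  · right; exact Units.ext (by rw [h1]; simp)

theorem unit_sq_eq_sq {a c : (ZMod q)ˣ} (h : c ^ 2 = a ^ 2) : c = a ∨ c = -a := by
  have : (c * a⁻¹) ^ 2 = 1 := by rw [mul_pow, h, ← mul_pow, mul_inv_cancel, one_pow]
  rcases unit_sq_eq_one this with h1 | h1
  · left; exact mul_inv_eq_one.mp h1
  · right; rw [mul_inv_eq_iff_eq_mul] at h1; rw [h1, neg_mul, one_mul]

theorem unit_neg_one_inv : ((-1 : (ZMod q)ˣ))⁻¹ = -1 := by
  rw [inv_eq_iff_mul_eq_one, neg_mul_neg, one_mul]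

end units

section T
variable {q : ℕ} [Fact q.Prime]
  {T : Subgroup ((Fin 2 → ZMod q) ≃ₗ[ZMod q] (Fin 2 → ZMod q))}
  (hT : ∀ f, f ∈ T ↔ ∃ a b : (ZMod q)ˣ, (a * b = 1 ∨ a * b = -1) ∧ (f = dg a b ∨ f = ad a b))

/-- diagonal element of `T` -/
def mkD (a b : (ZMod q)ˣ) (h : a * b = 1 ∨ a * b = -1) : T :=
  ⟨dg a b, (hT _).mpr ⟨a, b, h, Or.inl rfl⟩⟩

/-- antidiagonal element of `T` -/
def mkA (a b : (ZMod q)ˣ) (h : a * b = 1 ∨ a * b = -1) : T :=
  ⟨ad a b, (hT _).mpr ⟨a, b, h, Or.inr rfl⟩⟩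

theorem coe_mkD (a b : (ZMod q)ˣ) (h : a * b = 1 ∨ a * b = -1) :
    ((mkD hT a b h : T) : (Fin 2 → ZMod q) ≃ₗ[ZMod q] (Fin 2 → ZMod q)) = dg a b := rfl

theorem coe_mkA (a b : (ZMod q)ˣ) (h : a * b = 1 ∨ a * b = -1) :
    ((mkA hT a b h : T) : (Fin 2 → ZMod q) ≃ₗ[ZMod q] (Fin 2 → ZMod q)) = ad a b := rfl

include hT in
theorem cases_T (x : T) : ∃ a b : (ZMod q)ˣ, (a * b = 1 ∨ a * b = -1) ∧
    ((x : (Fin 2 → ZMod q) ≃ₗ[ZMod q] (Fin 2 → ZMod q)) = dg a b ∨
      (x : (Fin 2 → ZMod q) ≃ₗ[ZMod q] (Fin 2 → ZMod q)) = ad a b) := (hT x.1).mp x.2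

/-- the determinant-one diagonal subgroup as a homomorphism -/
def cd : (ZMod q)ˣ →* T where
  toFun a := mkD hT a a⁻¹ (Or.inl (mul_inv_cancel a))
  map_one' := by
    apply Subtype.ext
    rw [coe_mkD, inv_one, dg_one]
    rfl
  map_mul' a b := by
    apply Subtype.ext
    rw [Subgroup.coe_mul, coe_mkD, coe_mkD, coe_mkD, dg_mul_dg, mul_inv]

theorem coe_cd (a : (ZMod q)ˣ) :
    ((cd hT a : T) : (Fin 2 → ZMod q) ≃ₗ[ZMod q] (Fin 2 → ZMod q)) = dg a a⁻¹ := rfl

/-- the square of a diagonal element -/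
theorem sq_of_dg (x : T) (a b : (ZMod q)ˣ) (hab : a * b = 1 ∨ a * b = -1)
    (hx : (x : (Fin 2 → ZMod q) ≃ₗ[ZMod q] (Fin 2 → ZMod q)) = dg a b) : x ^ 2 = cd hT (a ^ 2) := by
  apply Subtype.ext
  rw [Subgroup.coe_pow, hx, dg_pow, coe_cd]
  congr 1
  have h1 : (a * b) ^ 2 = 1 := by
    rcases hab with h | h <;> rw [h] <;> simp
  rw [mul_pow] at h1
  exact (inv_eq_of_mul_eq_one_right h1).symm

/-- the square of an antidiagonal element -/
theorem sq_of_ad (x : T) (a b : (ZMod q)ˣ)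
    (hx : (x : (Fin 2 → ZMod q) ≃ₗ[ZMod q] (Fin 2 → ZMod q)) = ad a b) :
    ((x ^ 2 : T) : (Fin 2 → ZMod q) ≃ₗ[ZMod q] (Fin 2 → ZMod q)) = dg (a * b) (a * b) := by
  rw [Subgroup.coe_pow, hx, pow_two, ad_mul_ad, mul_comm b a]

theorem pow_card_of_dg (x : T) (a b : (ZMod q)ˣ)
    (hx : (x : (Fin 2 → ZMod q) ≃ₗ[ZMod q] (Fin 2 → ZMod q)) = dg a b) : x ^ (q - 1) = 1 := by
  apply Subtype.ext
  rw [Subgroup.coe_pow, hx, dg_pow, ZMod.units_pow_card_sub_one_eq_one,
    ZMod.units_pow_card_sub_one_eq_one, dg_one]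
  rfl

end T


section main
variable {q : ℕ} [Fact q.Prime]
  {T : Subgroup ((Fin 2 → ZMod q) ≃ₗ[ZMod q] (Fin 2 → ZMod q))}
  (hT : ∀ f, f ∈ T ↔ ∃ a b : (ZMod q)ˣ, (a * b = 1 ∨ a * b = -1) ∧ (f = dg a b ∨ f = ad a b))

include hT in
theorem main_case (m : ℕ) (hq : q = 2 ^ m + 1) (hm : 3 ≤ m) (α : MulAut T) (r : ℕ) (hr : Odd r)
    (hα : α ^ r = 1) : ∀ x : T, α x = x := by
  have hq1 : q - 1 = 2 ^ m := by rw [hq, Nat.add_sub_cancel]
  have h8 : 2 ^ 3 ≤ 2 ^ m := Nat.pow_le_pow_right (by norm_num) hm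
  have h2q : Fact (2 < q) := ⟨by rw [hq]; omega⟩
  have hneg : (-1 : (ZMod q)ˣ) ≠ 1 := by
    intro h
    have := congrArg Units.val h
    rw [Units.val_neg, Units.val_one] at this
    exact ZMod.neg_one_ne_one this
  -- a generator of the multiplicative group
  obtain ⟨ζ, hζ⟩ := IsCyclic.exists_generator (α := (ZMod q)ˣ)
  have hordζ : orderOf ζ = 2 ^ m := by
    rw [orderOf_eq_card_of_forall_mem_zpowers hζ, Nat.card_eq_fintype_card, ZMod.card_units, hq1]
  have hζ4 : ζ ^ 4 ≠ 1 := by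
    intro h
    have h1 := orderOf_dvd_of_pow_eq_one h
    rw [hordζ] at h1
    have := Nat.le_of_dvd (by norm_num) h1
    omega
  have hζhalf : ζ ^ 2 ^ (m - 1) = -1 := by
    have h1 : (ζ ^ 2 ^ (m - 1)) ^ 2 = 1 := by
      rw [← pow_mul, ← pow_succ, show m - 1 + 1 = m by omega, ← hordζ, pow_orderOf_eq_one]
    rcases unit_sq_eq_one h1 with h | h
    · exfalso
      have h2 := orderOf_dvd_of_pow_eq_one h
      rw [hordζ] at h2
      have h3 := Nat.le_of_dvd (by positivity) h2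
      have : 2 ^ (m - 1) < 2 ^ m := Nat.pow_lt_pow_right (by norm_num) (by omega)
      omega
    · exact h
  have hpowers : ∀ a : (ZMod q)ˣ, ∃ k : ℕ, ζ ^ k = a := by
    intro a
    have := hζ a
    rwa [← mem_powers_iff_mem_zpowers, Submonoid.mem_powers_iff] at this
  -- all squares of `T` lie in `⟨g²⟩`
  obtain ⟨c, hc⟩ : ∃ c : T, c = cd hT (ζ ^ 2) := ⟨_, rfl⟩
  have hsqmem : ∀ x : T, x ^ 2 ∈ Subgroup.zpowers c := by
    intro x
    obtain ⟨a, b, hab, hx | hx⟩ := cases_T hT x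
    · obtain ⟨k, hk⟩ := hpowers a
      have : x ^ 2 = c ^ k := by
        rw [sq_of_dg hT x a b hab hx, hc, ← map_pow, ← hk, ← pow_mul, ← pow_mul, mul_comm]
      rw [this]
      exact Subgroup.npow_mem_zpowers _ _
    · have h2 := sq_of_ad x a b hx
      rcases hab with h | h
      · have : x ^ 2 = 1 := by
          apply Subtype.ext
          rw [h2, h, dg_one]; rfl
        rw [this]
        exact one_mem _
      · have : x ^ 2 = c ^ 2 ^ (m - 2) := by
          apply Subtype.ext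
          rw [h2, h, hc, ← map_pow, coe_cd, ← pow_mul, ← pow_succ',
            show m - 2 + 1 = m - 1 by omega, hζhalf, unit_neg_one_inv]
        rw [this]
        exact Subgroup.npow_mem_zpowers _ _
  -- `α` fixes `c`, hence all squares
  have hcpow : c ^ 2 ^ m = 1 := by
    rw [hc, ← map_pow, ← pow_mul, mul_comm, pow_mul, ← hordζ, pow_orderOf_eq_one, one_pow, map_one]
  have hαc : α c = c := by
    apply fix_of_mem_zpowers α r hr hα c m hcpow
    have : α c = (α (cd hT ζ)) ^ 2 := by rw [hc, map_pow, map_pow]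
    rw [this]
    exact hsqmem _
  have hfixsq : ∀ x : T, α (x ^ 2) = x ^ 2 := by
    intro x
    obtain ⟨k, hk⟩ := Subgroup.mem_zpowers_iff.mp (hsqmem x)
    rw [← hk, map_zpow, hαc]
  -- (3) the diagonal subgroup is invariant
  have hccoe : (c : (Fin 2 → ZMod q) ≃ₗ[ZMod q] (Fin 2 → ZMod q)) = dg (ζ ^ 2) (ζ ^ 2)⁻¹ := by
    rw [hc, coe_cd]
  have hinv : ∀ x : T, (∃ a b : (ZMod q)ˣ,
      (x : (Fin 2 → ZMod q) ≃ₗ[ZMod q] (Fin 2 → ZMod q)) = dg a b) →
      ∃ a' b' : (ZMod q)ˣ, (a' * b' = 1 ∨ a' * b' = -1) ∧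
        ((α x : T) : (Fin 2 → ZMod q) ≃ₗ[ZMod q] (Fin 2 → ZMod q)) = dg a' b' := by
    rintro x ⟨a, b, hx⟩
    have hcomm : x * c = c * x := by
      apply Subtype.ext
      rw [Subgroup.coe_mul, Subgroup.coe_mul, hx, hccoe, dg_mul_dg, dg_mul_dg, mul_comm a,
        mul_comm b]
    have hcomm' : α x * c = c * α x := by
      have := congrArg α hcomm
      rwa [map_mul, map_mul, hαc] at this
    obtain ⟨a', b', hab', h | h⟩ := cases_T hT (α x)
    · exact ⟨a', b', hab', h⟩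
    · exfalso
      have h1 := congrArg (Subtype.val) hcomm'
      rw [Subgroup.coe_mul, Subgroup.coe_mul, h, hccoe, ad_mul_dg, dg_mul_ad] at h1
      have h2 := (ad_injective h1).1
      rw [mul_comm (ζ ^ 2) a'] at h2
      have h3 : (ζ ^ 2)⁻¹ = ζ ^ 2 := mul_left_cancel h2
      apply hζ4
      have : ζ ^ 4 = ζ ^ 2 * ζ ^ 2 := by rw [← pow_add]
      rw [this]
      exact inv_eq_iff_mul_eq_one.mp h3
  -- (4) the four diagonal involutions
  obtain ⟨zz, hzz⟩ : ∃ zz : T, zz = mkD hT (-1) (-1) (Or.inl (by rw [neg_mul_neg, one_mul])) :=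
    ⟨_, rfl⟩
  obtain ⟨e, he⟩ : ∃ e : T, e = mkD hT 1 (-1) (Or.inr (one_mul _)) := ⟨_, rfl⟩
  have hzzcoe : (zz : (Fin 2 → ZMod q) ≃ₗ[ZMod q] (Fin 2 → ZMod q)) = dg (-1) (-1) := by
    rw [hzz, coe_mkD]
  have hecoe : (e : (Fin 2 → ZMod q) ≃ₗ[ZMod q] (Fin 2 → ZMod q)) = dg 1 (-1) := by
    rw [he, coe_mkD]
  have hzzfix : α zz = zz := by
    have : zz = (mkA hT 1 (-1) (Or.inr (one_mul _))) ^ 2 := by
      apply Subtype.ext
      rw [hzzcoe, sq_of_ad _ 1 (-1) (coe_mkA hT _ _ _), one_mul]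
    rw [this]
    exact hfixsq _
  have hzzsq : zz ^ 2 = 1 := by
    apply Subtype.ext
    rw [Subgroup.coe_pow, hzzcoe, dg_pow, neg_one_sq, dg_one]; rfl
  have hesq : e ^ 2 = 1 := by
    apply Subtype.ext
    rw [Subgroup.coe_pow, hecoe, dg_pow, neg_one_sq, one_pow, dg_one]; rfl
  have hV : ∀ y : T, (∃ a b : (ZMod q)ˣ,
      (y : (Fin 2 → ZMod q) ≃ₗ[ZMod q] (Fin 2 → ZMod q)) = dg a b) → y ^ 2 = 1 →
      y = 1 ∨ y = zz ∨ y = e ∨ y = e * zz := by
    rintro y ⟨a, b, hy⟩ hy2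
    have h1 := congrArg Subtype.val hy2
    rw [Subgroup.coe_pow, hy, dg_pow, Subgroup.coe_one, ← dg_one] at h1
    obtain ⟨ha, hb⟩ := dg_injective h1
    rcases unit_sq_eq_one ha with rfl | rfl <;> rcases unit_sq_eq_one hb with rfl | rfl
    · left
      apply Subtype.ext
      rw [hy, dg_one]; rfl
    · right; right; left
      apply Subtype.ext
      rw [hy, hecoe]
    · right; right; right
      apply Subtype.ext
      rw [hy, Subgroup.coe_mul, hecoe, hzzcoe, dg_mul_dg, one_mul, neg_mul_neg, one_mul]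
    · right; left
      apply Subtype.ext
      rw [hy, hzzcoe]
  have hne1 : e ≠ 1 := by
    intro h
    have h1 := congrArg Subtype.val h
    rw [hecoe, Subgroup.coe_one, ← dg_one] at h1
    exact hneg (dg_injective h1).2
  have hnezz : e ≠ zz := by
    intro h
    have h1 := congrArg Subtype.val h
    rw [hecoe, hzzcoe] at h1
    exact hneg (dg_injective h1).1.symm
  have hefix : α e = e := by
    obtain ⟨a', b', _, hαe⟩ := hinv e ⟨_, _, hecoe⟩
    have hαe2 : (α e) ^ 2 = 1 := by rw [← map_pow, hesq, map_one]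
    rcases hV (α e) ⟨a', b', hαe⟩ hαe2 with h | h | h | h
    · exfalso
      apply hne1
      apply α.injective
      rw [h, map_one]
    · exfalso
      apply hnezz
      apply α.injective
      rw [h, hzzfix]
    · exact h
    · apply fix_of_quot_fixed α r hr hα e
      · rw [h, inv_mul_cancel_left, hzzfix]
      · exact ⟨1, by rw [h, inv_mul_cancel_left, pow_one, hzzsq]⟩
  have hVfix : ∀ y : T, (y = 1 ∨ y = zz ∨ y = e ∨ y = e * zz) → α y = y := by
    rintro y (rfl | rfl | rfl | rfl)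
    · exact map_one α
    · exact hzzfix
    · exact hefix
    · rw [map_mul, hefix, hzzfix]
  -- (5/6) the diagonal elements are fixed
  have hD : ∀ x : T, (∃ a b : (ZMod q)ˣ,
      (x : (Fin 2 → ZMod q) ≃ₗ[ZMod q] (Fin 2 → ZMod q)) = dg a b) → α x = x := by
    rintro x ⟨a, b, hx⟩
    obtain ⟨a', b', _, hαx⟩ := hinv x ⟨a, b, hx⟩
    have h2 : (α x) ^ 2 = x ^ 2 := by rw [← map_pow, hfixsq]
    have h3 := congrArg Subtype.val h2
    rw [Subgroup.coe_pow, Subgroup.coe_pow, hαx, hx, dg_pow, dg_pow] at h3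
    obtain ⟨ha, hb⟩ := dg_injective h3
    have hy : ((x⁻¹ * α x : T) : (Fin 2 → ZMod q) ≃ₗ[ZMod q] (Fin 2 → ZMod q)) =
        dg (a⁻¹ * a') (b⁻¹ * b') := by
      rw [Subgroup.coe_mul, Subgroup.coe_inv, hx, hαx, dg_inv, dg_mul_dg]
    have hy2 : (x⁻¹ * α x) ^ 2 = 1 := by
      apply Subtype.ext
      rw [Subgroup.coe_pow, hy, dg_pow, mul_pow, mul_pow, ha, hb, inv_pow, inv_pow,
        inv_mul_cancel, inv_mul_cancel, dg_one]
      rfl
    apply fix_of_quot_fixed α r hr hα x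
    · exact hVfix _ (hV _ ⟨_, _, hy⟩ hy2)
    · exact ⟨1, by rw [pow_one]; exact hy2⟩
  -- (7) the remaining elements
  intro x
  obtain ⟨a, b, _, hx | hx⟩ := cases_T hT x
  · exact hD x ⟨a, b, hx⟩
  · obtain ⟨a', b', _, hαx | hαx⟩ := cases_T hT (α x)
    · exfalso
      have h1 : α (α x) = α x := hD (α x) ⟨a', b', hαx⟩
      have h2 : α x = x := α.injective h1
      rw [h2, hx] at hαx
      exact dg_ne_ad _ _ _ _ hαx.symm
    · have hy : ((x⁻¹ * α x : T) : (Fin 2 → ZMod q) ≃ₗ[ZMod q] (Fin 2 → ZMod q)) =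
          dg (b⁻¹ * b') (a⁻¹ * a') := by
        rw [Subgroup.coe_mul, Subgroup.coe_inv, hx, hαx, ad_inv, ad_mul_ad]
      apply fix_of_quot_fixed α r hr hα x
      · exact hD _ ⟨_, _, hy⟩
      · exact ⟨m, by rw [← hq1]; exact pow_card_of_dg _ _ _ hy⟩

end main


section small
variable {q : ℕ} [Fact q.Prime]
  {T : Subgroup ((Fin 2 → ZMod q) ≃ₗ[ZMod q] (Fin 2 → ZMod q))}
  (hT : ∀ f, f ∈ T ↔ ∃ a b : (ZMod q)ˣ, (a * b = 1 ∨ a * b = -1) ∧ (f = dg a b ∨ f = ad a b))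

include hT in
theorem case_two (hq : q = 2) (α : MulAut T) : ∀ x : T, α x = x := by
  have hu : ∀ a : (ZMod q)ˣ, a = 1 := by
    intro a
    have := ZMod.units_pow_card_sub_one_eq_one q a
    have h1 : q - 1 = 1 := by omega
    rwa [h1, pow_one] at this
  intro x
  obtain ⟨a, b, _, hx | hx⟩ := cases_T hT x
  · have : x = 1 := by
      apply Subtype.ext
      rw [hx, hu a, hu b, dg_one]; rfl
    rw [this, map_one]
  · obtain ⟨a', b', _, hαx | hαx⟩ := cases_T hT (α x)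
    · have h1 : α x = 1 := by
        apply Subtype.ext
        rw [hαx, hu a', hu b', dg_one]; rfl
      have h2 : x = 1 := by
        apply α.injective
        rw [h1, map_one]
      rw [h2, map_one]
    · apply Subtype.ext
      rw [hαx, hx, hu a, hu b, hu a', hu b']

include hT in
theorem case_three (hq : q = 3) (α : MulAut T) (r : ℕ) (hr : Odd r) (hα : α ^ r = 1) :
    ∀ x : T, α x = x := by
  have h2q : Fact (2 < q) := ⟨by omega⟩
  have hneg : (-1 : (ZMod q)ˣ) ≠ 1 := by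
    intro h
    have := congrArg Units.val h
    rw [Units.val_neg, Units.val_one] at this
    exact ZMod.neg_one_ne_one this
  have husq : ∀ a : (ZMod q)ˣ, a ^ 2 = 1 := by
    intro a
    have := ZMod.units_pow_card_sub_one_eq_one q a
    have h1 : q - 1 = 2 := by omega
    rwa [h1] at this
  have hu : ∀ a : (ZMod q)ˣ, a = 1 ∨ a = -1 := fun a => unit_sq_eq_one (husq a)
  obtain ⟨zz, hzz⟩ : ∃ zz : T, zz = mkD hT (-1) (-1) (Or.inl (by rw [neg_mul_neg, one_mul])) :=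
    ⟨_, rfl⟩
  obtain ⟨r₀, hr₀⟩ : ∃ r₀ : T, r₀ = mkA hT 1 (-1) (Or.inr (one_mul _)) := ⟨_, rfl⟩
  have hzzcoe : (zz : (Fin 2 → ZMod q) ≃ₗ[ZMod q] (Fin 2 → ZMod q)) = dg (-1) (-1) := by
    rw [hzz, coe_mkD]
  have hr₀coe : (r₀ : (Fin 2 → ZMod q) ≃ₗ[ZMod q] (Fin 2 → ZMod q)) = ad 1 (-1) := by
    rw [hr₀, coe_mkA]
  have hzzsq : zz ^ 2 = 1 := by
    apply Subtype.ext
    rw [Subgroup.coe_pow, hzzcoe, dg_pow, neg_one_sq, dg_one]; rfl
  have hzzne : zz ≠ 1 := by
    intro h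
    have h1 := congrArg Subtype.val h
    rw [hzzcoe, Subgroup.coe_one, ← dg_one] at h1
    exact hneg (dg_injective h1).1
  have hr₀sq : r₀ ^ 2 = zz := by
    apply Subtype.ext
    rw [sq_of_ad _ 1 (-1) hr₀coe, hzzcoe, one_mul]
  -- all squares are `1` or `zz`
  have hsq : ∀ x : T, x ^ 2 = 1 ∨ x ^ 2 = zz := by
    intro x
    obtain ⟨a, b, hab, hx | hx⟩ := cases_T hT x
    · left
      rw [sq_of_dg hT x a b hab hx, husq, map_one]
    · have h2 := sq_of_ad x a b hx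
      rcases hab with h | h
      · left
        apply Subtype.ext
        rw [h2, h, dg_one]; rfl
      · right
        apply Subtype.ext
        rw [h2, h, hzzcoe]
  have hpow4 : ∀ x : T, x ^ 2 ^ 2 = 1 := by
    intro x
    rw [pow_two, pow_mul]
    rcases hsq x with h | h
    · rw [h, one_pow]
    · rw [h, hzzsq]
  have hzzfix : α zz = zz := by
    rcases hsq (α r₀) with h | h
    · exfalso
      apply hzzne
      apply α.injective
      rw [← hr₀sq, map_pow, h, map_one]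
    · rw [← hr₀sq, map_pow, h, hr₀sq]
  have hr₀fix : α r₀ = r₀ := by
    have h2 : (α r₀) ^ 2 = zz := by rw [← map_pow, hr₀sq, hzzfix]
    obtain ⟨a', b', hab', h | h⟩ := cases_T hT (α r₀)
    · exfalso
      apply hzzne
      rw [← h2, sq_of_dg hT _ a' b' hab' h, husq, map_one]
    · have h3 := sq_of_ad _ a' b' h
      rw [h2, hzzcoe] at h3
      have hab : a' * b' = -1 := (dg_injective h3).1.symm
      have hy : ((r₀⁻¹ * α r₀ : T) : (Fin 2 → ZMod q) ≃ₗ[ZMod q] (Fin 2 → ZMod q)) =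
          dg ((-1)⁻¹ * b') (1⁻¹ * a') := by
        rw [Subgroup.coe_mul, Subgroup.coe_inv, hr₀coe, h, ad_inv, ad_mul_ad]
      have hy' : r₀⁻¹ * α r₀ = 1 ∨ r₀⁻¹ * α r₀ = zz := by
        rcases hu a' with rfl | rfl
        · have hb : b' = -1 := by rwa [one_mul] at hab
          left
          apply Subtype.ext
          rw [hy, hb, unit_neg_one_inv, neg_mul_neg, one_mul, inv_one, one_mul, dg_one]; rfl
        · have hb : b' = 1 := by
            have : -b' = -1 := by rwa [neg_mul, one_mul] at hab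
            exact neg_injective this
          right
          apply Subtype.ext
          rw [hy, hb, unit_neg_one_inv, mul_one, inv_one, one_mul, hzzcoe]
      apply fix_of_quot_fixed α r hr hα r₀
      · rcases hy' with h' | h'
        · rw [h', map_one]
        · rw [h', hzzfix]
      · exact ⟨2, hpow4 _⟩
  -- the elements of the kernel of the character are fixed
  have hK : ∀ y : T, (∃ a b : (ZMod q)ˣ,
      (a * b = 1 ∧ (y : (Fin 2 → ZMod q) ≃ₗ[ZMod q] (Fin 2 → ZMod q)) = dg a b) ∨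
      (a * b = -1 ∧ (y : (Fin 2 → ZMod q) ≃ₗ[ZMod q] (Fin 2 → ZMod q)) = ad a b)) → α y = y := by
    rintro y ⟨a, b, ⟨hab, hy⟩ | ⟨hab, hy⟩⟩
    · rcases hu a with rfl | rfl
      · have hb : b = 1 := by rwa [one_mul] at hab
        have : y = 1 := by
          apply Subtype.ext
          rw [hy, hb, dg_one]; rfl
        rw [this, map_one]
      · have hb : b = -1 := by
          have : -b = 1 := by rwa [neg_mul, one_mul] at hab
          rw [← this, neg_neg]
        have : y = zz := by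
          apply Subtype.ext
          rw [hy, hb, hzzcoe]
        rw [this, hzzfix]
    · rcases hu a with rfl | rfl
      · have hb : b = -1 := by rwa [one_mul] at hab
        have : y = r₀ := by
          apply Subtype.ext
          rw [hy, hb, hr₀coe]
        rw [this, hr₀fix]
      · have hb : b = 1 := by
          have : -b = -1 := by rwa [neg_mul, one_mul] at hab
          exact neg_injective this
        have : y = r₀ * zz := by
          apply Subtype.ext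
          rw [hy, hb, Subgroup.coe_mul, hr₀coe, hzzcoe, ad_mul_dg, one_mul, neg_mul_neg, one_mul]
        rw [this, map_mul, hr₀fix, hzzfix]
  -- the remaining elements
  have hKN : ∀ y : T, (∃ a b : (ZMod q)ˣ,
      (a * b = 1 ∧ (y : (Fin 2 → ZMod q) ≃ₗ[ZMod q] (Fin 2 → ZMod q)) = dg a b) ∨
      (a * b = -1 ∧ (y : (Fin 2 → ZMod q) ≃ₗ[ZMod q] (Fin 2 → ZMod q)) = ad a b)) ∨
      (∃ a b : (ZMod q)ˣ,
      (a * b = -1 ∧ (y : (Fin 2 → ZMod q) ≃ₗ[ZMod q] (Fin 2 → ZMod q)) = dg a b) ∨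
      (a * b = 1 ∧ (y : (Fin 2 → ZMod q) ≃ₗ[ZMod q] (Fin 2 → ZMod q)) = ad a b)) := by
    intro y
    obtain ⟨a, b, hab | hab, hy | hy⟩ := cases_T hT y
    · exact Or.inl ⟨a, b, Or.inl ⟨hab, hy⟩⟩
    · exact Or.inr ⟨a, b, Or.inr ⟨hab, hy⟩⟩
    · exact Or.inr ⟨a, b, Or.inl ⟨hab, hy⟩⟩
    · exact Or.inl ⟨a, b, Or.inr ⟨hab, hy⟩⟩
  intro x
  rcases hKN x with hx | hx
  · exact hK x hx
  rcases hKN (α x) with hαx | hαx
  · exact α.injective (hK (α x) hαx)
  apply fix_of_quot_fixed α r hr hα x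
  · apply hK
    obtain ⟨a, b, ⟨hab, hx⟩ | ⟨hab, hx⟩⟩ := hx <;>
      obtain ⟨a', b', ⟨hab', hαx⟩ | ⟨hab', hαx⟩⟩ := hαx
    · refine ⟨a⁻¹ * a', b⁻¹ * b', Or.inl ⟨?_, ?_⟩⟩
      · rw [mul_mul_mul_comm, ← mul_inv, hab, hab', unit_neg_one_inv, neg_mul_neg, one_mul]
      · rw [Subgroup.coe_mul, Subgroup.coe_inv, hx, hαx, dg_inv, dg_mul_dg]
    · refine ⟨a⁻¹ * a', b⁻¹ * b', Or.inr ⟨?_, ?_⟩⟩
      · rw [mul_mul_mul_comm, ← mul_inv, hab, hab', unit_neg_one_inv, mul_one]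
      · rw [Subgroup.coe_mul, Subgroup.coe_inv, hx, hαx, dg_inv, dg_mul_ad]
    · refine ⟨b⁻¹ * b', a⁻¹ * a', Or.inr ⟨?_, ?_⟩⟩
      · rw [mul_mul_mul_comm, ← mul_inv, mul_comm b a, hab, mul_comm b' a', hab', inv_one, one_mul]
      · rw [Subgroup.coe_mul, Subgroup.coe_inv, hx, hαx, ad_inv, ad_mul_dg]
    · refine ⟨b⁻¹ * b', a⁻¹ * a', Or.inl ⟨?_, ?_⟩⟩
      · rw [mul_mul_mul_comm, ← mul_inv, mul_comm b a, hab, mul_comm b' a', hab', inv_one, one_mul]
      · rw [Subgroup.coe_mul, Subgroup.coe_inv, hx, hαx, ad_inv, ad_mul_ad]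
  · exact ⟨2, hpow4 _⟩

end small

/-- Let q = 2^m + 1 be a prime other than 5. Then the automorphism group of the group of linear maps of F_q² of the forms (x, y) ↦ (a x, ± a⁻¹ y) and (x, y) ↦ (± a⁻¹ y, a x) with a ≠ 0 is itself a 2-group. -/
theorem result (q m : ℕ) [Fact q.Prime] (hq : q = 2 ^ m + 1) (hq5 : q ≠ 5)
    (T : Subgroup ((Fin 2 → ZMod q) ≃ₗ[ZMod q] (Fin 2 → ZMod q)))
    (hT : ∀ f, f ∈ T ↔ ∃ a s : ZMod q, a ≠ 0 ∧ (s = 1 ∨ s = -1) ∧
      ((∀ v, f v = ![a * v 0, s * a⁻¹ * v 1]) ∨ (∀ v, f v = ![s * a⁻¹ * v 1, a * v 0]))) :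
    IsPGroup 2 (MulAut T) := by
  have hT' := memT T hT
  -- automorphisms of odd order are trivial
  have hodd : ∀ (α : MulAut T) (r : ℕ), Odd r → α ^ r = 1 → α = 1 := by
    intro α r hr hα
    apply MulEquiv.ext
    intro x
    show α x = x
    rcases Nat.lt_or_ge m 3 with hm | hm
    · interval_cases m
      · exact case_two hT' (by rw [hq]; norm_num) α x
      · exact case_three hT' (by rw [hq]; norm_num) α r hr hα x
      · exfalso
        apply hq5
        rw [hq]; norm_num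
    · exact main_case hT' m hq hm α r hr hα x
  -- hence the automorphism group is a `2`-group
  have hfinGL : Finite ((Fin 2 → ZMod q) ≃ₗ[ZMod q] (Fin 2 → ZMod q)) :=
    Finite.of_injective (fun f => (f : (Fin 2 → ZMod q) → (Fin 2 → ZMod q)))
      DFunLike.coe_injective
  have hfinAut : Finite (MulAut T) :=
    Finite.of_injective (fun f : MulAut T => (f : T → T)) DFunLike.coe_injective
  intro α
  have hpos : orderOf α ≠ 0 := (orderOf_pos α).ne'
  obtain ⟨k, r, hr, hkr⟩ := Nat.exists_eq_two_pow_mul_odd hpos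
  refine ⟨k, ?_⟩
  apply hodd (α ^ 2 ^ k) r hr
  rw [← pow_mul, ← hkr, pow_orderOf_eq_one]

end Cfsg.Agent.S3382
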