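import Cfsg.Statements.S3383
-- import your own Cfsg.Agent.* helpers here

set_option autoImplicit false
open Cfsg
open scoped Pointwise

namespace Cfsg.Agent.S3383

theorem mem_conj_smul {L : Type*} [Group L] (H : Subgroup L) (g x : L) :
    x ∈ MulAut.conj g • H ↔ g⁻¹ * x * g ∈ H := by
  rw [Subgroup.mem_pointwise_smul_iff_inv_smul_mem]
  simp [MulAut.smul_def]

theorem mem_kernel_iff {L : Type*} [Group L] (H : Subgroup L) (K : Subgroup L)
    (hK : (K : Set L) = Cfsg.frobeniusKernel H) (x : L) :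
    x ∈ K ↔ x = 1 ∨ ∀ g : L, g⁻¹ * x * g ∉ H := by
  have : x ∈ K ↔ x ∈ (K : Set L) := Iff.rfl
  rw [this, hK]
  unfold Cfsg.frobeniusKernel
  simp only [Set.mem_ofPred_eq, mem_conj_smul]

/-- The comparability part: a normal subgroup not inside the kernel contains it. -/
theorem comparable {L : Type*} [Group L] [Finite L]
    (H : Subgroup L) (hH : Cfsg.IsFrobeniusComplement H)
    (K : Subgroup L) (hK : (K : Set L) = Cfsg.frobeniusKernel H)
    (N : Subgroup L) (hN : N.Normal) : K ≤ N ∨ N ≤ K := by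
  obtain ⟨-, -, hTI⟩ := hH
  have hmem := mem_kernel_iff H K hK
  -- K is normal
  have hKn : ∀ k ∈ K, ∀ y : L, y * k * y⁻¹ ∈ K := by
    intro k hk y
    rcases (hmem k).mp hk with rfl | h
    · simp [K.one_mem]
    · refine (hmem _).mpr (Or.inr fun g hg => h (y⁻¹ * g) ?_)
      have : (y⁻¹ * g)⁻¹ * k * (y⁻¹ * g) = g⁻¹ * (y * k * y⁻¹) * g := by group
      rw [this]; exact hg
  -- K ∩ H = 1
  have hKH : ∀ x ∈ K, x ∈ H → x = 1 := by
    intro x hxK hxH
    rcases (hmem x).mp hxK with rfl | h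
    · rfl
    · exact absurd (by simpa using hxH) (h 1)
  by_cases hNK : N ≤ K
  · exact Or.inr hNK
  left
  -- an element of N outside K
  obtain ⟨n, hnN, hnK⟩ := SetLike.not_le_iff_exists.mp hNK
  rw [hmem] at hnK
  push Not at hnK
  obtain ⟨hn1, g, hg⟩ := hnK
  set h : L := g⁻¹ * n * g with hh
  have hhN : h ∈ N := by
    have := hN.conj_mem n hnN g⁻¹
    simpa [hh] using this
  have hh1 : h ≠ 1 := by
    intro h1
    apply hn1
    have : n = g * h * g⁻¹ := by rw [hh]; group
    rw [this, h1]; group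
  -- centralizer of h lies in H
  have hcent : ∀ x : L, x * h = h * x → x ∈ H := by
    intro x hx
    by_contra hxH
    have h2 := hTI x hxH
    have h3 : h ∈ H ⊓ (MulAut.conj x • H) := by
      refine Subgroup.mem_inf.mpr ⟨hg, ?_⟩
      rw [mem_conj_smul]
      have : x⁻¹ * h * x = h := by
        calc x⁻¹ * h * x = x⁻¹ * (h * x) := by group
          _ = x⁻¹ * (x * h) := by rw [hx]
          _ = h := by group
      rw [this]; exact hg
    rw [h2, Subgroup.mem_bot] at h3
    exact hh1 h3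
  -- the map k ↦ k⁻¹ * h⁻¹ * k * h on K
  let f : K → K := fun k => ⟨(k : L)⁻¹ * (h⁻¹ * k * h), by
    apply K.mul_mem (K.inv_mem k.2)
    have := hKn k k.2 h⁻¹
    simpa using this⟩
  have hf_inj : Function.Injective f := by
    intro a b hab
    have hab' : (a : L)⁻¹ * (h⁻¹ * a * h) = (b : L)⁻¹ * (h⁻¹ * b * h) := congrArg Subtype.val hab
    have hc : ((b : L) * (a : L)⁻¹) * h = h * ((b : L) * (a : L)⁻¹) := by
      have e1 : (b : L) * (a : L)⁻¹ * h⁻¹ = h⁻¹ * ((b : L) * (a : L)⁻¹) := by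
        calc (b : L) * (a : L)⁻¹ * h⁻¹
            = (b : L) * ((a : L)⁻¹ * (h⁻¹ * a * h)) * h⁻¹ * (a : L)⁻¹ := by group
          _ = (b : L) * ((b : L)⁻¹ * (h⁻¹ * b * h)) * h⁻¹ * (a : L)⁻¹ := by rw [hab']
          _ = h⁻¹ * ((b : L) * (a : L)⁻¹) := by group
      calc (b : L) * (a : L)⁻¹ * h = h * (h⁻¹ * ((b : L) * (a : L)⁻¹)) * h := by group
        _ = h * ((b : L) * (a : L)⁻¹ * h⁻¹) * h := by rw [e1]
        _ = h * ((b : L) * (a : L)⁻¹) := by group
    have hmemH := hcent _ hc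
    have hmemK : (b : L) * (a : L)⁻¹ ∈ K := K.mul_mem b.2 (K.inv_mem a.2)
    have h1 := hKH _ hmemK hmemH
    apply Subtype.ext
    have : (b : L) = a := by
      calc (b : L) = (b : L) * (a : L)⁻¹ * a := by group
        _ = a := by rw [h1, one_mul]
    exact this.symm
  have hf_surj : Function.Surjective f := Finite.surjective_of_injective hf_inj
  intro k hk
  obtain ⟨k₀, hk₀⟩ := hf_surj ⟨k, hk⟩
  have hval : (k₀ : L)⁻¹ * (h⁻¹ * k₀ * h) = k := congrArg Subtype.val hk₀
  rw [← hval]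
  have h4 : (k₀ : L)⁻¹ * h⁻¹ * ((k₀ : L)⁻¹)⁻¹ ∈ N := hN.conj_mem h⁻¹ (N.inv_mem hhN) _
  have h5 : (k₀ : L)⁻¹ * (h⁻¹ * k₀ * h) = ((k₀ : L)⁻¹ * h⁻¹ * ((k₀ : L)⁻¹)⁻¹) * h := by group
  rw [h5]
  exact N.mul_mem h4 hhN

/-- Let H be a Frobenius complement in a finite group L and K the Frobenius kernel (as a subgroup). Then K is characteristic in L, and every normal subgroup of L either contains K or is contained in K. -/
theorem result {L : Type*} [Group L] [Finite L]
    (H : Subgroup L) (hH : Cfsg.IsFrobeniusComplement H)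
    (K : Subgroup L) (hK : (K : Set L) = Cfsg.frobeniusKernel H) :
    K.Characteristic ∧ ∀ N : Subgroup L, N.Normal → K ≤ N ∨ N ≤ K := by
  have hcomp := comparable H hH K hK
  refine ⟨?_, hcomp⟩
  -- K is normal
  have hmem := mem_kernel_iff H K hK
  have hKnormal : K.Normal := by
    constructor
    intro k hk y
    rcases (hmem k).mp hk with rfl | h
    · simp [K.one_mem]
    · refine (hmem _).mpr (Or.inr fun g hg => h (y⁻¹ * g) ?_)
      have : (y⁻¹ * g)⁻¹ * k * (y⁻¹ * g) = g⁻¹ * (y * k * y⁻¹) * g := by group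
      rw [this]; exact hg
  rw [Subgroup.characteristic_iff_map_eq]
  intro φ
  have hNn : (K.map φ.toMonoidHom).Normal := hKnormal.map φ.toMonoidHom φ.surjective
  have hcard : Nat.card (K.map φ.toMonoidHom) = Nat.card K :=
    Subgroup.card_map_of_injective φ.injective
  rcases hcomp _ hNn with h | h
  · exact (Subgroup.eq_of_le_of_card_ge h hcard.le).symm
  · exact Subgroup.eq_of_le_of_card_ge h hcard.ge

end Cfsg.Agent.S3383
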