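import Cfsg.Statements.S3391
import Cfsg.Agent.Lib.Helper6_SzFixity
import Cfsg.Agent.Lib.Helper37_SzBridge

set_option autoImplicit false
open Cfsg

namespace Cfsg.Agent.S3391

/-- Let q = 2^{2m+1} ≥ 8 and let G be isomorphic to the Suzuki group Sz(q). If G acts faithfully and transitively on a finite set Ω with fixity 2 (every non-identity element fixes at most two points, and some fixes exactly two), then either |Ω| = q² + 1 and the action is 2-transitive, or |Ω| = q²(q² + 1) and the point stabilizers have order q − 1. -/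
theorem result {G : Type*} [Group G] [Finite G] (F : Type) [Field F] [Fintype F] (m : ℕ) (hm : 1 ≤ m) (hF : Fintype.card F = 2 ^ (2 * m + 1))
    (e : G ≃* ↥(Cfsg.Lie.Sz F (2 ^ (m + 1)))) {Ω : Type*} [Fintype Ω] [MulAction G Ω] [FaithfulSMul G Ω] (htr : MulAction.IsPretransitive G Ω)
    (hfix : ∀ g : G, g ≠ 1 → Nat.card (MulAction.fixedBy Ω g) ≤ 2) (hex : ∃ g : G, g ≠ 1 ∧ Nat.card (MulAction.fixedBy Ω g) = 2) :
    (Fintype.card Ω = Fintype.card F ^ 2 + 1 ∧ MulAction.IsMultiplyPretransitive G Ω 2) ∨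
    (Fintype.card Ω = Fintype.card F ^ 2 * (Fintype.card F ^ 2 + 1) ∧ ∀ α : Ω, Nat.card (MulAction.stabilizer G α) = Fintype.card F - 1) := by
  classical
  let Ψ : Cfsg.Sz F m ≃* G := (Cfsg.Agent.Helper37Sz.lieSzEquiv hm hF).trans e.symm
  letI act : MulAction (Cfsg.Sz F m) Ω := MulAction.compHom Ω Ψ.toMonoidHom
  have hsmul : ∀ (g : Cfsg.Sz F m) (ω : Ω), g • ω = Ψ g • ω := fun _ _ => rfl
  have htr' : ∀ a b : Ω, ∃ g : Cfsg.Sz F m, g • a = b := by
    intro a b
    obtain ⟨g, hg⟩ := htr.exists_smul_eq a b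
    exact ⟨Ψ.symm g, by rw [hsmul, MulEquiv.apply_symm_apply, hg]⟩
  have hfix' : ∀ g : Cfsg.Sz F m, g ≠ 1 → ∀ a b c : Ω, g • a = a → g • b = b → g • c = c →
      a = b ∨ a = c ∨ b = c := by
    intro g hg a b c ha hb hc
    have hg' : Ψ g ≠ 1 := fun h => hg ((MulEquiv.map_eq_one_iff Ψ).1 h)
    have hle := hfix (Ψ g) hg'
    by_contra hcon
    push Not at hcon
    have h3 : 2 < Nat.card (MulAction.fixedBy Ω (Ψ g)) := by
      rw [Nat.card_eq_fintype_card, Fintype.two_lt_card_iff]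
      refine ⟨⟨a, ha⟩, ⟨b, hb⟩, ⟨c, hc⟩, ?_, ?_, ?_⟩
      · intro h; exact hcon.1 (congrArg Subtype.val h)
      · intro h; exact hcon.2.1 (congrArg Subtype.val h)
      · intro h; exact hcon.2.2 (congrArg Subtype.val h)
    omega
  have hex' : ∃ g : Cfsg.Sz F m, g ≠ 1 ∧ ∃ a b : Ω, a ≠ b ∧ g • a = a ∧ g • b = b := by
    obtain ⟨g, hg1, hg2⟩ := hex
    rw [Nat.card_eq_two_iff] at hg2
    obtain ⟨x, y, hxy, -⟩ := hg2
    refine ⟨Ψ.symm g, ?_, x, y, fun h => hxy (Subtype.ext h), ?_, ?_⟩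
    · intro h
      apply hg1
      have := congrArg Ψ h
      rwa [MulEquiv.apply_symm_apply, map_one] at this
    · rw [hsmul, MulEquiv.apply_symm_apply]; exact x.2
    · rw [hsmul, MulEquiv.apply_symm_apply]; exact y.2
  rcases Cfsg.Agent.Lib.Helper6_SzFixity.main hm hF htr' hfix' hex' with ⟨h1, h2⟩ | ⟨h1, h2⟩
  · left
    refine ⟨by rw [← Nat.card_eq_fintype_card, h1, hF], ?_⟩
    rw [MulAction.is_two_pretransitive_iff]
    intro a b c d hab hcd
    obtain ⟨g, hg1, hg2⟩ := h2 a b c d hab hcd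
    exact ⟨Ψ g, hg1, hg2⟩
  · right
    refine ⟨by rw [← Nat.card_eq_fintype_card, h1, hF], fun α => ?_⟩
    rw [hF, ← h2 α]
    symm
    apply Nat.card_congr
    refine Equiv.subtypeEquiv Ψ.toEquiv (fun g => ?_)
    rw [MulAction.mem_stabilizer_iff, MulAction.mem_stabilizer_iff]
    rfl

end Cfsg.Agent.S3391
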