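import Cfsg.Statements.S3401
import Cfsg.Agent.Lib.Helper58_Deg2Mod4

set_option autoImplicit false
set_option linter.style.haveILetI false
set_option linter.unusedSectionVars false
open Cfsg

namespace Cfsg.Agent.S3401

open MulAction Cfsg.Agent.Lib.Helper58_Deg2Mod4

universe u v

section Aux

variable {G : Type u} [Group G] [Finite G] {Ω : Type v} [Finite Ω] [MulAction G Ω]

/-- a nontrivial subgroup of a faithful group moves a point -/
theorem exists_moved [FaithfulSMul G Ω] (N : Subgroup G) (hN : N ≠ ⊥) :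
    ∃ y ∈ N, ∃ a : Ω, y • a ≠ a := by
  rcases N.bot_or_exists_ne_one with h | ⟨y, hy, hy1⟩
  · exact absurd h hN
  · refine ⟨y, hy, ?_⟩
    by_contra hcon
    push Not at hcon
    apply hy1
    apply FaithfulSMul.eq_of_smul_eq_smul (α := Ω)
    intro a
    rw [hcon a, one_smul]

/-- a subgroup of minimal order with a given property -/
theorem exists_min_card (P : Subgroup G → Prop) (h : ∃ N, P N) :
    ∃ M, P M ∧ ∀ N, P N → Nat.card M ≤ Nat.card N := by
  classical
  have hex : ∃ k, ∃ N, P N ∧ Nat.card N = k := by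
    obtain ⟨N, hN⟩ := h
    exact ⟨_, N, hN, rfl⟩
  obtain ⟨M, hM, hMk⟩ := Nat.find_spec hex
  refine ⟨M, hM, fun N hN => ?_⟩
  rw [hMk]
  exact Nat.find_min' hex ⟨N, hN, rfl⟩

omit [Finite G] [Finite Ω] in
/-- a doubly transitive subgroup cannot centralize a transitive subgroup when there are at least
three points -/
theorem not_two_transitive_of_commute (M N : Subgroup G)
    (h3 : ∃ a b c : Ω, a ≠ b ∧ a ≠ c ∧ b ≠ c)
    (hM : ∀ c d : Ω, ∃ m ∈ M, m • c = d)
    (hcomm : ∀ m ∈ M, ∀ y ∈ N, m * y = y * m)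
    (hN : ∀ a b c d : Ω, a ≠ b → c ≠ d → ∃ y ∈ N, y • a = c ∧ y • b = d) : False := by
  obtain ⟨a, b, c, hab, hac, hbc⟩ := h3
  obtain ⟨y, hy, hya, hyb⟩ := hN a b a c hab hac
  obtain ⟨m, hm, hmb⟩ := hM a b
  apply hbc
  rw [← hyb, ← hmb, ← mul_smul, ← hcomm m hm y hy, mul_smul, hya]

/-- the unique minimal normal subgroup -/
theorem thmU [FaithfulSMul G Ω] (hn4 : Nat.card Ω % 4 = 2) (hn2 : 2 < Nat.card Ω)
    (h2 : ∀ a b c d : Ω, a ≠ b → c ≠ d → ∃ g : G, g • a = c ∧ g • b = d) :
    ∃ M : Subgroup G, M.Normal ∧ M ≠ ⊥ ∧ (∀ N : Subgroup G, N.Normal → N ≠ ⊥ → M ≤ N) ∧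
      Subgroup.centralizer (M : Set G) = ⊥ ∧
      (∀ a b c d : Ω, a ≠ b → c ≠ d → ∃ y ∈ M, y • a = c ∧ y • b = d) := by
  have h3 : ∃ a b c : Ω, a ≠ b ∧ a ≠ c ∧ b ≠ c := by
    haveI : Fintype Ω := Fintype.ofFinite Ω
    rw [Nat.card_eq_fintype_card] at hn2
    exact Fintype.two_lt_card_iff.mp hn2
  have key : ∀ N : Subgroup G, N.Normal → N ≠ ⊥ →
      ∀ a b c d : Ω, a ≠ b → c ≠ d → ∃ y ∈ N, y • a = c ∧ y • b = d := by
    intro N hNn hN
    haveI := hNn
    exact normal_two_transitive hn4 hn2 h2 N (exists_moved N hN)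
  have htop : (⊤ : Subgroup G) ≠ ⊥ := by
    intro h
    obtain ⟨a, b, c, hab, hac, hbc⟩ := h3
    obtain ⟨g, hga, hgb⟩ := h2 a b a c hab hac
    have hg : g ∈ (⊥ : Subgroup G) := by rw [← h]; trivial
    rw [Subgroup.mem_bot] at hg
    rw [hg, one_smul] at hgb
    exact hbc hgb
  obtain ⟨M, ⟨hMn, hMb⟩, hmin⟩ := exists_min_card (G := G)
    (fun N => N.Normal ∧ N ≠ ⊥) ⟨⊤, inferInstance, htop⟩
  have hM2 := key M hMn hMb
  have hMtr : ∀ c d : Ω, ∃ m ∈ M, m • c = d := by
    intro c d
    by_cases hcd : c = d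
    · exact ⟨1, M.one_mem, by rw [one_smul, hcd]⟩
    · obtain ⟨e, hce, hde⟩ : ∃ e : Ω, c ≠ e ∧ d ≠ e := by
        obtain ⟨x, y, z, hxy, hxz, hyz⟩ := h3
        by_cases h1 : c = x ∨ d = x
        · by_cases h4 : c = y ∨ d = y
          · refine ⟨z, ?_, ?_⟩
            · rintro rfl
              rcases h1 with h1 | h1
              · exact hxz h1.symm
              · rcases h4 with h4 | h4
                · exact hyz h4.symm
                · exact hxy (h1.symm.trans h4)
            · rintro rfl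
              rcases h1 with h1 | h1
              · rcases h4 with h4 | h4
                · exact hxy (h1.symm.trans h4)
                · exact hyz h4.symm
              · exact hxz h1.symm
          · push Not at h4
            exact ⟨y, h4.1, h4.2⟩
        · push Not at h1
          exact ⟨x, h1.1, h1.2⟩
      obtain ⟨m, hm, hmc, -⟩ := hM2 c e d e hce hde
      exact ⟨m, hm, hmc⟩
  refine ⟨M, hMn, hMb, ?_, ?_, hM2⟩
  · intro N hNn hNb
    by_cases hMN : M ⊓ N = ⊥
    · exfalso
      have hdis : Disjoint M N := disjoint_iff.mpr hMN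
      exact not_two_transitive_of_commute M N h3 hMtr
        (fun m hm y hy => Subgroup.commute_of_normal_of_disjoint M N hMn hNn hdis m y hm hy)
        (key N hNn hNb)
    · haveI := hMn
      haveI := hNn
      have hle := hmin (M ⊓ N) ⟨inferInstance, hMN⟩
      have heq : M ⊓ N = M := Subgroup.eq_of_le_of_card_ge inf_le_left hle
      rw [← heq]
      exact inf_le_right
  · by_contra hC
    haveI := hMn
    have hCn : (Subgroup.centralizer (M : Set G)).Normal := inferInstance
    exact not_two_transitive_of_commute M (Subgroup.centralizer (M : Set G)) h3 hMtr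
      (fun m hm y hy => Subgroup.mem_centralizer_iff.mp hy m hm)
      (key _ hCn hC)

end Aux

/-- Let G be a doubly transitive permutation group on a finite set Ω with |Ω| ≡ 2 mod 4 and |Ω| > 2. Then G has a unique minimal normal subgroup M (a nontrivial normal subgroup contained in every nontrivial normal subgroup); M is simple and doubly transitive on Ω, and its centralizer in G is trivial (so G embeds in Aut(M)). -/
theorem result {G : Type*} [Group G] [Finite G] {Ω : Type*} [Fintype Ω] [MulAction G Ω] [FaithfulSMul G Ω]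
    (h2 : MulAction.IsMultiplyPretransitive G Ω 2) (hn : Fintype.card Ω % 4 = 2) (hn2 : 2 < Fintype.card Ω) :
    ∃ M : Subgroup G, M.Normal ∧ M ≠ ⊥ ∧ (∀ N : Subgroup G, N.Normal → N ≠ ⊥ → M ≤ N) ∧
      IsSimpleGroup ↥M ∧ MulAction.IsMultiplyPretransitive ↥M Ω 2 ∧ Subgroup.centralizer (M : Set G) = ⊥ := by
  have hn4 : Nat.card Ω % 4 = 2 := by rw [Nat.card_eq_fintype_card]; exact hn
  have hn2' : 2 < Nat.card Ω := by rw [Nat.card_eq_fintype_card]; exact hn2
  have h2e : ∀ a b c d : Ω, a ≠ b → c ≠ d → ∃ g : G, g • a = c ∧ g • b = d :=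
    fun a b c d hab hcd => MulAction.is_two_pretransitive_iff.mp h2 hab hcd
  obtain ⟨M, hMn, hMb, hMmin, hMc, hM2⟩ := thmU hn4 hn2' h2e
  have hM2e : ∀ a b c d : Ω, a ≠ b → c ≠ d → ∃ g : ↥M, g • a = c ∧ g • b = d := by
    intro a b c d hab hcd
    obtain ⟨y, hy, h5, h6⟩ := hM2 a b c d hab hcd
    exact ⟨⟨y, hy⟩, h5, h6⟩
  refine ⟨M, hMn, hMb, hMmin, ?_, MulAction.is_two_pretransitive_iff.mpr
    (fun {a b c d} hab hcd => hM2e a b c d hab hcd), hMc⟩
  -- simplicity
  obtain ⟨M₁, hM₁n, hM₁b, hM₁min, -, -⟩ := thmU (G := ↥M) hn4 hn2' hM2e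
  haveI := hMn
  haveI := hM₁n
  haveI hchar : M₁.Characteristic := by
    rw [Subgroup.characteristic_iff_le_map]
    intro ϕ
    apply hM₁min
    · exact Subgroup.Normal.map hM₁n ϕ.toMonoidHom ϕ.surjective
    · intro h
      exact hM₁b ((Subgroup.map_eq_bot_iff_of_injective M₁ ϕ.injective).mp h)
  have hnorm : (M₁.map M.subtype).Normal := ConjAct.normal_of_characteristic_of_normal
  have hne : M₁.map M.subtype ≠ ⊥ := by
    intro h
    exact hM₁b ((Subgroup.map_eq_bot_iff_of_injective M₁ M.subtype_injective).mp h)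
  have hle := hMmin _ hnorm hne
  have htop : M₁ = ⊤ := by
    rw [eq_top_iff]
    intro x _
    obtain ⟨y, hy, hyx⟩ := hle x.2
    have : y = x := Subtype.ext hyx
    rwa [← this]
  haveI : Nontrivial ↥M := (Subgroup.nontrivial_iff_ne_bot M).mpr hMb
  refine ⟨fun H hH => ?_⟩
  by_cases hHb : H = ⊥
  · exact Or.inl hHb
  · right
    have := hM₁min H hH hHb
    rw [htop] at this
    exact top_le_iff.mp this

end Cfsg.Agent.S3401
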