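import Cfsg.Statements.S3419
import Cfsg.Agent.Lib.Helper95_AltSpec
import Cfsg.Agent.Lib.Helper95_TwoPrimes
import Cfsg.Agent.Lib.Helper95_MixedOrder

set_option autoImplicit false
open Cfsg

namespace Cfsg.Agent.S3419

/-- Let n ≥ 5 and let G be a finite group with the same order and the same set of element orders as the alternating group of degree n. Then G is not solvable. -/
theorem result {G : Type*} [Group G] [Finite G] (n : ℕ) (hn : 5 ≤ n)
    (hcard : Nat.card G = Nat.card ↥(alternatingGroup (Fin n)))
    (hspec : Set.range (orderOf : G → ℕ) = Set.range (orderOf : ↥(alternatingGroup (Fin n)) → ℕ)) :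
    ¬ Group.IsSolvable G := by
  intro hsolv
  -- the generic case: two primes in `(n / 2, n]`
  have generic : ∀ p q : ℕ, p.Prime → q.Prime → n < 2 * q → q < p → p ≤ n → False := by
    intro p q hp hq hnq hqp hpn
    obtain ⟨N, H, hN, hHn, -, hsimple, hnc, -⟩ :=
      Cfsg.Agent.Helper95OrderSpec.alt_section n hn hcard hspec p q hp hq hnq hqp hpn
    have hQs : Group.IsSolvable (↥H ⧸ N.subgroupOf H) := inferInstance
    have hcomm := (IsSimpleGroup.comm_iff_isSolvable (G := ↥H ⧸ N.subgroupOf H)).mpr hQs
    exact hnc ⟨⟨hcomm⟩⟩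
  -- the two exceptional degrees: an element of order `p q` in a Hall `{p, q}`-subgroup
  have special : ∀ p q b m : ℕ, p.Prime → q.Prime → p ≠ q → 1 ≤ b →
      Nat.card G = (p * q ^ b) * m → (p * q ^ b).Coprime m →
      (∀ j, 1 ≤ j → j ≤ b → ¬ p ∣ q ^ j - 1) → ¬ q ∣ p - 1 → n < p + q → False := by
    intro p q b m hp hq hpq hb hc hcop h1 h2 hlt
    obtain ⟨g, hg⟩ :=
      Cfsg.Agent.Helper95OrderSpec.exists_orderOf_mul_of_solvable hp hq hpq hb hc hcop h1 h2
    have hmem : p * q ∈ Set.range (orderOf : G → ℕ) := ⟨g, hg⟩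
    rw [hspec] at hmem
    obtain ⟨σ, hσ⟩ := hmem
    exact Cfsg.Agent.Helper95OrderSpec.alt_orderOf_ne_mul hp hq hpq hlt σ hσ
  have hfact := Cfsg.Agent.Helper95OrderSpec.two_mul_card_alt (n := n) (by omega)
  rcases Nat.lt_or_ge n 11 with hlt | hge
  · interval_cases n
    · exact generic 5 3 (by norm_num) (by norm_num) (by norm_num) (by norm_num) (by norm_num)
    · have h360 : Nat.card G = (5 * 3 ^ 2) * 8 := by
        have : (6 : ℕ).factorial = 720 := by decide
        omega
      refine special 5 3 2 8 (by norm_num) (by norm_num) (by norm_num) (by norm_num) h360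
        (by norm_num) ?_ (by norm_num) (by norm_num)
      intro j hj1 hj2
      interval_cases j <;> norm_num
    · exact generic 7 5 (by norm_num) (by norm_num) (by norm_num) (by norm_num) (by norm_num)
    · exact generic 7 5 (by norm_num) (by norm_num) (by norm_num) (by norm_num) (by norm_num)
    · exact generic 7 5 (by norm_num) (by norm_num) (by norm_num) (by norm_num) (by norm_num)
    · have hc : Nat.card G = (7 * 5 ^ 2) * 10368 := by
        have : (10 : ℕ).factorial = 3628800 := by decide
        omega
      refine special 7 5 2 10368 (by norm_num) (by norm_num) (by norm_num) (by norm_num) hc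
        (by norm_num) ?_ (by norm_num) (by norm_num)
      intro j hj1 hj2
      interval_cases j <;> norm_num
  · obtain ⟨p, q, hp, hq, hnq, hqp, hpn⟩ :=
      Cfsg.Agent.Helper95TwoPrimes.two_primes_upper_half n hge
    exact generic p q hp hq hnq hqp hpn

end Cfsg.Agent.S3419
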