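import Cfsg.Statements.S3430
import Cfsg.Agent.Lib.Helper99_PrimPartEval

set_option autoImplicit false
open Cfsg

namespace Cfsg.Agent.S3430

open Cfsg.Agent.Lib.Helper99_Zsigmondy Cfsg.Agent.Lib.Helper99_PrimPart
  Cfsg.Agent.Lib.Helper99_PrimPartEval

/-- The case `n = 2`. -/
lemma case_two (q : ℕ) (hq : 2 ≤ q)
    (h1 : ¬ ∃ s t : ℕ, t ≤ 1 ∧ q + 1 = 2 ^ s * 3 ^ t) :
    ∃ p : ℕ, p.Prime ∧ p ∣ q ^ 2 - 1 ∧ ¬ p ∣ q - 1 ∧ (3 < p ∨ p ^ 2 ∣ q ^ 2 - 1) := by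
  have hfac : q ^ 2 - 1 = (q - 1) * (q + 1) := sq_sub_one_eq q (by omega)
  have hdvd : q + 1 ∣ q ^ 2 - 1 := Dvd.intro_left _ hfac.symm
  obtain ⟨s, w₁, hw₁, hs⟩ := Nat.exists_eq_pow_mul_and_not_dvd (by omega : q + 1 ≠ 0) 2 (by norm_num)
  have hw₁0 : w₁ ≠ 0 := by
    rintro rfl
    exact hw₁ (dvd_zero 2)
  obtain ⟨t, w, hw, ht⟩ := Nat.exists_eq_pow_mul_and_not_dvd hw₁0 3 (by norm_num)
  have hw2 : ¬ 2 ∣ w := by
    intro h
    apply hw₁
    rw [ht]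
    exact Dvd.dvd.mul_left h _
  have hq1 : q + 1 = 2 ^ s * 3 ^ t * w := by rw [hs, ht, mul_assoc]
  -- a prime dividing `q + 1` and `q - 1` is `2`
  have hcommon : ∀ p : ℕ, p.Prime → p ∣ q + 1 → p ∣ q - 1 → p = 2 := by
    intro p hp h1 h2
    have : p ∣ (q + 1) - (q - 1) := Nat.dvd_sub h1 h2
    have h3 : (q + 1) - (q - 1) = 2 := by omega
    rw [h3] at this
    exact (Nat.prime_dvd_prime_iff_eq hp Nat.prime_two).mp this
  by_cases hw1 : w = 1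
  · -- `q + 1 = 2^s 3^t` with `t ≥ 2`
    have ht2 : 2 ≤ t := by
      by_contra hlt
      apply h1
      refine ⟨s, t, by omega, ?_⟩
      rw [hq1, hw1, mul_one]
    have h9 : 3 ^ 2 ∣ q + 1 := by
      rw [hq1]
      exact Dvd.dvd.mul_right (Dvd.dvd.mul_left (pow_dvd_pow 3 ht2) _) _
    refine ⟨3, Nat.prime_three, ?_, ?_, Or.inr (h9.trans hdvd)⟩
    · exact (Dvd.intro_left _ rfl : 3 ∣ 3 ^ 2).trans (h9.trans hdvd)
    · intro h3
      have := hcommon 3 Nat.prime_three ((Dvd.intro_left _ rfl : 3 ∣ 3 ^ 2).trans h9) h3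
      omega
  · obtain ⟨p, hp, hpw⟩ := Nat.exists_prime_and_dvd hw1
    have hp2 : p ≠ 2 := by
      rintro rfl
      exact hw2 hpw
    have hp3 : p ≠ 3 := by
      rintro rfl
      exact hw hpw
    have hpq : p ∣ q + 1 := by
      rw [hq1]
      exact Dvd.dvd.mul_left hpw _
    refine ⟨p, hp, hpq.trans hdvd, fun h => hp2 (hcommon p hp hpq h), Or.inl ?_⟩
    have := hp.two_le
    omega


/-- Let q, n ≥ 2 be integers. Unless (n = 2 and q + 1 = 2^s·3^t for some s ≥ 0 and t ≤ 1), or (q = 2 and n ∈ {4, 6, 10, 12, 18}), or (q = 3 and n ∈ {4, 6}), or (q, n) = (5, 6), there is a prime p dividing q^n − 1 but no q^i − 1 with 1 ≤ i < n (a primitive prime divisor), such that p > n + 1 or p² divides q^n − 1. -/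
theorem result (q n : ℕ) (hq : 2 ≤ q) (hn : 2 ≤ n)
    (h1 : ¬ (n = 2 ∧ ∃ s t : ℕ, t ≤ 1 ∧ q + 1 = 2 ^ s * 3 ^ t))
    (h2 : ¬ (q = 2 ∧ (n = 4 ∨ n = 6 ∨ n = 10 ∨ n = 12 ∨ n = 18)))
    (h3 : ¬ (q = 3 ∧ (n = 4 ∨ n = 6))) (h4 : ¬ (q = 5 ∧ n = 6)) :
    ∃ p : ℕ, p.Prime ∧ p ∣ q ^ n - 1 ∧ (∀ i : ℕ, 1 ≤ i → i < n → ¬ p ∣ q ^ i - 1) ∧ (n + 1 < p ∨ p ^ 2 ∣ q ^ n - 1) := by
  rcases Nat.lt_or_ge 2 n with hn3 | hn2
  · -- `n ≥ 3`
    have hn3' : 3 ≤ n := hn3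
    by_contra hno
    push Not at hno
    -- every prime divisor of the primitive part equals `n + 1`
    have hprime : ∀ {r : ℕ}, r.Prime → r ∣ pp q n → r = n + 1 ∧ ¬ r ^ 2 ∣ q ^ n - 1 := by
      intro r hr hrpp
      obtain ⟨hr1, hr2⟩ := ppd_of_dvd_pp hq hn3' hr hrpp
      obtain ⟨hle, hsq⟩ := hno r hr hr1 (fun i hi hin => hr2 i (by omega) hin)
      have hmod := ppd_modEq (by omega) hr hr1 hr2 (by omega)
      have hr2' := hr.two_le
      have := Nat.le_of_dvd (by omega) hmod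
      exact ⟨by omega, hsq⟩
    have hpp0 : pp q n ≠ 0 := (pp_pos hq).ne'
    have hval : pp q n = 1 ∨ pp q n = n + 1 := by
      by_cases h1' : pp q n = 1
      · exact Or.inl h1'
      right
      obtain ⟨r, hr, hrpp⟩ := Nat.exists_prime_and_dvd h1'
      obtain ⟨hrn, hrsq⟩ := hprime hr hrpp
      have hpow := Nat.eq_prime_pow_of_unique_prime_dvd hpp0
        (fun {d} hd hdpp => (hprime hd hdpp).1.trans hrn.symm)
      obtain ⟨k, hk⟩ : ∃ k, k = (pp q n).primeFactorsList.length := ⟨_, rfl⟩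
      rw [← hk] at hpow
      have hk1 : k ≤ 1 := by
        by_contra hk2
        apply hrsq
        have h2 : r ^ 2 ∣ r ^ k := pow_dvd_pow r (by omega)
        rw [← hpow] at h2
        exact h2.trans (pp_dvd_pow_sub_one (by omega) (by omega))
      have hk0 : k ≠ 0 := by
        rintro rfl
        rw [pow_zero] at hpow
        exact h1' hpow
      have hk' : k = 1 := by omega
      rw [hpow, hk', pow_one, hrn]
    have hle : pp q n ≤ 3 * n := by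
      rcases hval with h | h <;> omega
    have hmem := pp_small q n hq hn3' hle
    simp only [ppTable, List.mem_cons, Prod.mk.injEq, List.not_mem_nil, or_false] at hmem
    rcases hmem with ⟨rfl, rfl, hv⟩ | ⟨rfl, rfl, hv⟩ | ⟨rfl, rfl, hv⟩ | ⟨rfl, rfl, hv⟩ |
      ⟨rfl, rfl, hv⟩ | ⟨rfl, rfl, hv⟩ | ⟨rfl, rfl, hv⟩ | ⟨rfl, rfl, hv⟩ | ⟨rfl, rfl, hv⟩ |
      ⟨rfl, rfl, hv⟩ | ⟨rfl, rfl, hv⟩ | ⟨rfl, rfl, hv⟩ | ⟨rfl, rfl, hv⟩
    · exact h2 ⟨rfl, by norm_num⟩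
    · exact h2 ⟨rfl, by norm_num⟩
    · exact h2 ⟨rfl, by norm_num⟩
    · exact h2 ⟨rfl, by norm_num⟩
    · exact h2 ⟨rfl, by norm_num⟩
    · exact h3 ⟨rfl, by norm_num⟩
    · exact h3 ⟨rfl, by norm_num⟩
    · exact h4 ⟨rfl, rfl⟩
    · rcases hval with h | h <;> omega
    · rcases hval with h | h <;> omega
    · rcases hval with h | h <;> omega
    · rcases hval with h | h <;> omega
    · rcases hval with h | h <;> omega
  · -- `n = 2`
    have hn2' : n = 2 := by omega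
    subst hn2'
    obtain ⟨p, hp, hp1, hp2, hp3⟩ := case_two q hq (fun h => h1 ⟨rfl, h⟩)
    refine ⟨p, hp, hp1, ?_, ?_⟩
    · intro i hi hi2
      have : i = 1 := by omega
      subst this
      rw [pow_one]
      exact hp2
    · rcases hp3 with h | h
      · left; omega
      · right; exact h

end Cfsg.Agent.S3430
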