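import Cfsg.Statements.S3431
import Cfsg.Agent.Lib.Helper58_NseArith
import Cfsg.Agent.Lib.Helper58_NseAlt
import Cfsg.Agent.Lib.Helper58_NseIdent
import Cfsg.Agent.S0494
import Cfsg.Agent.S0497

set_option autoImplicit false
set_option linter.style.haveILetI false
set_option linter.unusedSectionVars false
open Cfsg

namespace Cfsg.Agent.S3431

open Cfsg.Agent.Lib.Helper58_Nse Cfsg.Agent.Lib.Helper58_NseArith Cfsg.Agent.Lib.Helper58_NseAlt
  Cfsg.Agent.Lib.Helper58_NseIdent

/-- Let n be 4, 5 or 6 and let G be a finite group whose set of sizes of same-order classes (the set of numbers #{g : o(g) = m} over the element orders m of G) equals that of the alternating group of degree n. Then G is isomorphic to that alternating group. -/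
theorem result {G : Type*} [Group G] [Finite G] (n : ℕ) (hn : n = 4 ∨ n = 5 ∨ n = 6)
    (h : ((fun m : ℕ => Nat.card {g : G // orderOf g = m}) '' Set.range (orderOf : G → ℕ)) = ((fun m : ℕ => Nat.card {g : ↥(alternatingGroup (Fin n)) // orderOf g = m}) '' Set.range (orderOf : ↥(alternatingGroup (Fin n)) → ℕ))) :
    Nonempty (G ≃* ↥(alternatingGroup (Fin n))) := by
  have D := nseData G
  have hval : ∀ k, cnt G k = 0 ∨ cnt G k ∈
      ((fun m : ℕ => Nat.card {g : G // orderOf g = m}) '' Set.range (orderOf : G → ℕ)) := by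
    intro k
    by_cases hk : cnt G k = 0
    · exact Or.inl hk
    · exact Or.inr ⟨k, (cnt_ne_zero_iff k).mp hk, rfl⟩
  have hatt : ∀ v ∈ ((fun m : ℕ => Nat.card {g : G // orderOf g = m}) ''
      Set.range (orderOf : G → ℕ)), ∃ k, cnt G k = v := by
    rintro v ⟨m, -, rfl⟩
    exact ⟨m, rfl⟩
  rcases hn with rfl | rfl | rfl
  · rw [nse_A4] at h
    rw [h] at hval hatt
    have hval' : ∀ k, cnt G k = 0 ∨ cnt G k = 1 ∨ cnt G k = 3 ∨ cnt G k = 8 := by
      intro k
      rcases hval k with h0 | hm
      · exact Or.inl h0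
      · right; simpa using hm
    obtain ⟨hN, h3⟩ := arith_A4 D hval' (hatt 3 (by simp)) (hatt 8 (by simp))
    exact iso_A4 hN h3
  · rw [nse_A5] at h
    rw [h] at hval hatt
    have hval' : ∀ k, cnt G k = 0 ∨ cnt G k = 1 ∨ cnt G k = 15 ∨ cnt G k = 20 ∨ cnt G k = 24 := by
      intro k
      rcases hval k with h0 | hm
      · exact Or.inl h0
      · right; simpa using hm
    obtain ⟨hN, -, h3, h5, hspec⟩ :=
      arith_A5 D hval' (hatt 15 (by simp)) (hatt 20 (by simp)) (hatt 24 (by simp))
    haveI := isSimpleGroup_of_card60 hN h3 h5 hspec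
    exact Cfsg.Agent.S0494.result hN
  · rw [nse_A6] at h
    rw [h] at hval hatt
    have hval' : ∀ k, cnt G k = 0 ∨ cnt G k = 1 ∨ cnt G k = 45 ∨ cnt G k = 80 ∨ cnt G k = 90 ∨
        cnt G k = 144 := by
      intro k
      rcases hval k with h0 | hm
      · exact Or.inl h0
      · right; simpa using hm
    obtain ⟨hN, -, h3, -, h5, hspec⟩ :=
      arith_A6 D hval' (hatt 45 (by simp)) (hatt 80 (by simp)) (hatt 90 (by simp))
        (hatt 144 (by simp))
    haveI := isSimpleGroup_of_card360 hN h3 h5 hspec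
    exact Cfsg.Agent.S0497.result hN

end Cfsg.Agent.S3431
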