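import Cfsg.Statements.S3439
import Cfsg.Agent.Lib.Helper91_IsoSpec
import Cfsg.Agent.Lib.Helper91_PSp43Spec

set_option autoImplicit false
open Cfsg

namespace Cfsg.Agent.S3439

/-- There is a finite solvable group with exactly the same set of element orders as the simple group PSp(4,3). -/
theorem result {F : Type*} [Field F] [Fintype F] (hF : Fintype.card F = 3) :
    ∃ (H : Type) (_ : Group H) (_ : Fintype H), Group.IsSolvable H ∧ Set.range (orderOf : H → ℕ) = Set.range (orderOf : Cfsg.PSp 2 F → ℕ) := by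
  obtain ⟨H, iG, iF, hs, hr⟩ := Cfsg.Agent.Lib.Helper91_IsoSpec.exists_solvable_spectrum
  refine ⟨H, iG, iF, hs, ?_⟩
  rw [hr, ← Cfsg.Agent.Lib.Helper91_PSp43Spec.range_orderOf]
  have e : ZMod 3 ≃+* F := ZMod.ringEquivOfPrime F (by norm_num) hF
  have E : Cfsg.PSp 2 (ZMod 3) ≃* Cfsg.PSp 2 F :=
    Cfsg.Agent.Lib.Helper61_PSpTools.pspEquiv (l := Fin 2) e
  ext n
  constructor
  · rintro ⟨x, rfl⟩
    exact ⟨E x, MulEquiv.orderOf_eq E x⟩
  · rintro ⟨y, rfl⟩
    exact ⟨E.symm y, MulEquiv.orderOf_eq E.symm y⟩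

end Cfsg.Agent.S3439
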