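import Cfsg.Statements.S3443

set_option autoImplicit false
open Cfsg

namespace Cfsg.Agent.S3443

/-- The multiplication map `V ⋊ G → G`, `(v, g) ↦ v * g`. -/
noncomputable def mulHom {G : Type*} [Group G] (V : Subgroup G) [V.Normal] :
    V ⋊[MulAut.conjNormal] G →* G :=
  SemidirectProduct.lift V.subtype (MonoidHom.id G) (by
    intro g
    ext v
    simp [MulAut.conjNormal_apply])

theorem mulHom_apply {G : Type*} [Group G] (V : Subgroup G) [V.Normal]
    (x : V ⋊[MulAut.conjNormal] G) : mulHom V x = (x.left : G) * x.right := by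
  simp [mulHom, SemidirectProduct.lift]

/-- number-theoretic core -/
theorem nat_core (p n m₁ m₂ : ℕ) (hp : p.Prime) (h1 : m₁ ∣ n) (h2 : m₂ ∣ n)
    (h1' : n ∣ p * m₁) (h2' : n ∣ p * m₂) (hm₁ : 0 < m₁) (hm₂ : 0 < m₂)
    (hl : n = Nat.lcm m₁ m₂) : n = m₁ ∨ n = m₂ := by
  obtain ⟨c₁, rfl⟩ := h1
  have hc₁ : c₁ ∣ p := by
    have : m₁ * c₁ ∣ m₁ * p := by rwa [mul_comm m₁ p]
    exact (Nat.mul_dvd_mul_iff_left hm₁).mp this
  rcases (Nat.dvd_prime hp).mp hc₁ with h | h
  · left; rw [h]; simp
  · obtain ⟨c₂, hc₂⟩ := h2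
    have hc₂' : c₂ ∣ p := by
      have : m₂ * c₂ ∣ m₂ * p := by rw [← hc₂]; rwa [mul_comm m₂ p]
      exact (Nat.mul_dvd_mul_iff_left hm₂).mp this
    rcases (Nat.dvd_prime hp).mp hc₂' with h' | h'
    · right; rw [hc₂, h']; simp
    · rw [h] at hc₂ hl ⊢
      rw [h'] at hc₂
      have hmm : m₁ = m₂ := Nat.eq_of_mul_eq_mul_right hp.pos hc₂
      subst hmm
      rw [Nat.lcm_self] at hl
      left; exact hl

theorem result {G : Type*} [Group G] [Finite G] (V : Subgroup G) [V.Normal] (p : ℕ) (hp : p.Prime)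
    (hcomm : ∀ x y : V, x * y = y * x) (hexp : ∀ x : V, x ^ p = 1) :
    Set.range (orderOf : V ⋊[MulAut.conjNormal] G → ℕ) = Set.range (orderOf : G → ℕ) := by
  classical
  apply Set.eq_of_subset_of_subset
  · rintro _ ⟨x, rfl⟩
    -- the two homomorphisms
    set φ := mulHom V with hφ
    set π : V ⋊[MulAut.conjNormal] G →* G := SemidirectProduct.rightHom with hπ
    set ψ : V ⋊[MulAut.conjNormal] G →* G × G := φ.prod π with hψ
    have hψinj : Function.Injective ψ := by
      intro a b hab
      have h1 : φ a = φ b := congrArg Prod.fst hab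
      have h2 : π a = π b := congrArg Prod.snd hab
      rw [hφ, mulHom_apply, mulHom_apply] at h1
      have h2' : a.right = b.right := h2
      rw [h2'] at h1
      have h3 : (a.left : G) = b.left := mul_right_cancel h1
      exact SemidirectProduct.ext (Subtype.ext h3) h2'
    have hord : orderOf x = Nat.lcm (orderOf (φ x)) (orderOf (π x)) := by
      rw [← orderOf_injective ψ hψinj x, Prod.orderOf]
      rfl
    -- exponent p for elements of V viewed in G
    have hV : ∀ g : G, g ∈ V → g ^ p = 1 := by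
      intro g hg
      have := hexp ⟨g, hg⟩
      exact congrArg Subtype.val this
    have hm₁ : 0 < orderOf (φ x) := orderOf_pos _
    have hm₂ : 0 < orderOf (π x) := orderOf_pos _
    -- x ^ (p * m₂) = 1
    have hx2 : x ^ (p * orderOf (π x)) = 1 := by
      apply hψinj
      rw [map_pow, map_one]
      ext
      · show (φ x) ^ (p * orderOf (π x)) = 1
        rw [mul_comm, pow_mul, ← map_pow]
        apply hV
        rw [hφ, mulHom_apply]
        have hr : (x ^ orderOf (π x)).right = 1 := by
          have : π (x ^ orderOf (π x)) = 1 := by rw [map_pow, pow_orderOf_eq_one]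
          exact this
        rw [hr, mul_one]
        exact (x ^ orderOf (π x)).left.2
      · show (π x) ^ (p * orderOf (π x)) = 1
        rw [mul_comm, pow_mul, pow_orderOf_eq_one, one_pow]
    have hx1 : x ^ (p * orderOf (φ x)) = 1 := by
      apply hψinj
      rw [map_pow, map_one]
      ext
      · show (φ x) ^ (p * orderOf (φ x)) = 1
        rw [mul_comm, pow_mul, pow_orderOf_eq_one, one_pow]
      · show (π x) ^ (p * orderOf (φ x)) = 1
        rw [mul_comm, pow_mul, ← map_pow]
        apply hV
        have h1 : φ (x ^ orderOf (φ x)) = 1 := by rw [map_pow, pow_orderOf_eq_one]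
        rw [hφ, mulHom_apply] at h1
        have h2 : (x ^ orderOf (φ x)).right = ((x ^ orderOf (φ x)).left : G)⁻¹ :=
          (eq_inv_of_mul_eq_one_right h1)
        show (x ^ orderOf (φ x)).right ∈ V
        rw [h2]
        exact V.inv_mem (x ^ orderOf (φ x)).left.2
    have key := nat_core p (orderOf x) (orderOf (φ x)) (orderOf (π x)) hp
      (orderOf_map_dvd φ x) (orderOf_map_dvd π x)
      (orderOf_dvd_of_pow_eq_one hx1) (orderOf_dvd_of_pow_eq_one hx2) hm₁ hm₂ hord
    rcases key with h | h
    · exact ⟨φ x, h.symm⟩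
    · exact ⟨π x, h.symm⟩
  · rintro _ ⟨g, rfl⟩
    refine ⟨SemidirectProduct.inr g, ?_⟩
    exact orderOf_injective (SemidirectProduct.inr : G →* V ⋊[MulAut.conjNormal] G)
      SemidirectProduct.inr_injective g

end Cfsg.Agent.S3443
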