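import Cfsg.Statements.S3444
import Cfsg.Agent.S3443
import Mathlib.GroupTheory.Perm.Cycle.Type
import Mathlib.GroupTheory.GroupAction.ConjAct
import Mathlib.Algebra.Group.Shrink
import Mathlib.Logic.Small.Basic

set_option autoImplicit false
open Cfsg

namespace Cfsg.Agent.S3444

universe u

open scoped commutatorElement

/-- A finite group with a nontrivial solvable normal subgroup has a nontrivial normal
elementary abelian `p`-subgroup. -/
theorem exists_normal_elementary {G : Type u} [Group G] [Finite G] (K : Subgroup G) [K.Normal]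
    (hK : K ≠ ⊥) (hs : Group.IsSolvable K) :
    ∃ (V : Subgroup G) (p : ℕ), V.Normal ∧ V ≠ ⊥ ∧ p.Prime ∧ (∀ x y : V, x * y = y * x) ∧
      (∀ x : V, x ^ p = 1) := by
  classical
  obtain ⟨n, hn⟩ := hs
  -- minimal index where the derived series vanishes
  have hex : ∃ n, derivedSeries ↥K n = ⊥ := ⟨n, hn⟩
  set m := Nat.find hex with hm
  have hm_spec : derivedSeries ↥K m = ⊥ := Nat.find_spec hex
  have hKnt : Nontrivial ↥K := (Subgroup.nontrivial_iff_ne_bot K).mpr hK
  have hm0 : m ≠ 0 := by
    intro h0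
    rw [h0, derivedSeries_zero] at hm_spec
    exact top_ne_bot hm_spec
  obtain ⟨k, hk⟩ := Nat.exists_eq_succ_of_ne_zero hm0
  have hDk : derivedSeries ↥K k ≠ ⊥ := by
    have : k < m := by omega
    exact Nat.find_min hex this
  have hcomm0 : ⁅derivedSeries ↥K k, derivedSeries ↥K k⁆ = ⊥ := by
    rw [← derivedSeries_succ, ← Nat.succ_eq_add_one, ← hk]; exact hm_spec
  -- the abelian normal subgroup A
  set A : Subgroup G := (derivedSeries ↥K k).map K.subtype with hA
  have hAnormal : A.Normal := ConjAct.normal_of_characteristic_of_normal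
  have hAne : A ≠ ⊥ := by
    intro h
    apply hDk
    rw [hA] at h
    exact (Subgroup.map_eq_bot_iff_of_injective _ K.subtype_injective).mp h
  have hAcomm : ∀ a ∈ A, ∀ b ∈ A, a * b = b * a := by
    rintro _ ⟨a, ha, rfl⟩ _ ⟨b, hb, rfl⟩
    have h1 : ⁅a, b⁆ ∈ ⁅derivedSeries ↥K k, derivedSeries ↥K k⁆ := Subgroup.commutator_mem_commutator ha hb
    rw [hcomm0, Subgroup.mem_bot] at h1
    have h2 : a * b = b * a := by
      rw [commutatorElement_def] at h1
      have := mul_inv_eq_one.mp (by simpa [mul_assoc] using h1 : a * b * (b * a)⁻¹ = 1)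
      exact this
    simpa using congrArg (K.subtype) h2
  -- a prime dividing the order of A
  have hAnt : Nontrivial ↥A := (Subgroup.nontrivial_iff_ne_bot A).mpr hAne
  have hcard : Nat.card ↥A ≠ 1 := by
    intro h
    have := (Nat.card_eq_one_iff_unique.mp h).1
    exact not_subsingleton ↥A this
  obtain ⟨p, hp, hpd⟩ := Nat.exists_prime_and_dvd hcard
  have : Fact p.Prime := ⟨hp⟩
  obtain ⟨x, hx⟩ := exists_prime_orderOf_dvd_card' p hpd
  -- V = elements of A of order dividing p
  let V : Subgroup G :=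
    { carrier := {g | g ∈ A ∧ g ^ p = 1}
      one_mem' := ⟨A.one_mem, one_pow p⟩
      mul_mem' := by
        rintro a b ⟨ha, hap⟩ ⟨hb, hbp⟩
        refine ⟨A.mul_mem ha hb, ?_⟩
        have hc : Commute a b := hAcomm a ha b hb
        rw [hc.mul_pow, hap, hbp, one_mul]
      inv_mem' := by
        rintro a ⟨ha, hap⟩
        exact ⟨A.inv_mem ha, by rw [inv_pow, hap, inv_one]⟩ }
  have hVmem : ∀ g, g ∈ V ↔ g ∈ A ∧ g ^ p = 1 := fun g => Iff.rfl
  refine ⟨V, p, ⟨?_⟩, ?_, hp, ?_, ?_⟩
  · intro a ha g
    rw [hVmem] at ha ⊢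
    refine ⟨hAnormal.conj_mem a ha.1 g, ?_⟩
    rw [conj_pow, ha.2, mul_one, mul_inv_cancel]
  · intro hV
    have hxV : (x : G) ∈ V := by
      rw [hVmem]
      refine ⟨x.2, ?_⟩
      have : x ^ p = 1 := by rw [← hx]; exact pow_orderOf_eq_one x
      simpa using congrArg Subtype.val this
    rw [hV, Subgroup.mem_bot] at hxV
    have hx1 : x = 1 := Subtype.ext hxV
    rw [hx1, orderOf_one] at hx
    exact hp.one_lt.ne hx
  · rintro ⟨a, ha⟩ ⟨b, hb⟩
    apply Subtype.ext
    exact hAcomm a ((hVmem a).mp ha).1 b ((hVmem b).mp hb).1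
  · rintro ⟨a, ha⟩
    apply Subtype.ext
    simpa using ((hVmem a).mp ha).2

/-- iteration: arbitrarily large groups with the same spectrum, in the same universe -/
theorem iterate (n : ℕ) : ∀ (G : Type u) [Group G] [Finite G] (V : Subgroup G) [V.Normal] (p : ℕ),
    V ≠ ⊥ → p.Prime → (∀ x y : V, x * y = y * x) → (∀ x : V, x ^ p = 1) →
    ∃ (H : Type u) (_ : Group H) (_ : Finite H), Nat.card G + n ≤ Nat.card H ∧
      Set.range (orderOf : H → ℕ) = Set.range (orderOf : G → ℕ) := by
  induction n with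
  | zero =>
    intro G _ _ V _ p _ _ _ _
    exact ⟨G, inferInstance, inferInstance, le_refl _, rfl⟩
  | succ n ih =>
    intro G _ _ V _ p hV hp hcomm hexp
    -- the semidirect product
    let G' := V ⋊[MulAut.conjNormal] G
    have hfin : Finite G' := Finite.of_equiv _ (SemidirectProduct.equivProd).symm
    let V' : Subgroup G' := (SemidirectProduct.inl : V →* G').range
    have hV'n : V'.Normal := by
      have : V' = (SemidirectProduct.rightHom : G' →* G).ker :=
        SemidirectProduct.range_inl_eq_ker_rightHom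
      rw [this]; infer_instance
    have hV'ne : V' ≠ ⊥ := by
      intro h
      apply hV
      rw [Subgroup.eq_bot_iff_forall]
      intro v hv
      have h1 : (SemidirectProduct.inl ⟨v, hv⟩ : G') ∈ V' := ⟨⟨v, hv⟩, rfl⟩
      rw [h, Subgroup.mem_bot] at h1
      have h2 : (⟨v, hv⟩ : V) = 1 := SemidirectProduct.inl_injective (by rw [h1, map_one])
      exact congrArg Subtype.val h2
    have hcomm' : ∀ x y : V', x * y = y * x := by
      rintro ⟨_, ⟨a, rfl⟩⟩ ⟨_, ⟨b, rfl⟩⟩
      apply Subtype.ext
      show SemidirectProduct.inl a * SemidirectProduct.inl b =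
        SemidirectProduct.inl b * SemidirectProduct.inl a
      rw [← map_mul, ← map_mul, hcomm a b]
    have hexp' : ∀ x : V', x ^ p = 1 := by
      rintro ⟨_, ⟨a, rfl⟩⟩
      apply Subtype.ext
      show (SemidirectProduct.inl a : G') ^ p = 1
      rw [← map_pow, hexp a, map_one]
    obtain ⟨H, hHg, hHf, hcardH, hspec⟩ := ih G' V' p hV'ne hp hcomm' hexp'
    refine ⟨H, hHg, hHf, ?_, ?_⟩
    · have hcard' : Nat.card G' = Nat.card V * Nat.card G := SemidirectProduct.card
      have hVnt : Nontrivial ↥V := (Subgroup.nontrivial_iff_ne_bot V).mpr hV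
      have h2 : 2 ≤ Nat.card ↥V := by
        have := Finite.one_lt_card (α := ↥V)
        omega
      have hGpos : 0 < Nat.card G := Nat.card_pos
      have : 2 * Nat.card G ≤ Nat.card G' := by
        rw [hcard']; exact Nat.mul_le_mul_right _ h2
      omega
    · rw [hspec]
      exact Cfsg.Agent.S3443.result V p hp hcomm hexp

theorem result {G : Type*} [Group G] [Finite G] (K : Subgroup G) [K.Normal] (hK : K ≠ ⊥)
    (hs : Group.IsSolvable K) (N : ℕ) :
    ∃ (H : Type) (_ : Group H) (_ : Fintype H), N < Fintype.card H ∧ Set.range (orderOf : H → ℕ) = Set.range (orderOf : G → ℕ) := by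
  classical
  obtain ⟨V, p, hVn, hVne, hp, hcomm, hexp⟩ := exists_normal_elementary K hK hs
  obtain ⟨H, hHg, hHf, hcardH, hspec⟩ := iterate (N + 1) G V p hVne hp hcomm hexp
  -- transfer to universe 0
  haveI : Small.{0} H := Countable.toSmall H
  let em : Shrink.{0} H ≃* H := Shrink.mulEquiv
  haveI : Fintype H := Fintype.ofFinite H
  let ft : Fintype (Shrink.{0} H) := Fintype.ofEquiv H (equivShrink H)
  refine ⟨Shrink.{0} H, inferInstance, ft, ?_, ?_⟩
  · have h1 : Fintype.card (Shrink.{0} H) = Nat.card H := by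
      rw [← Nat.card_eq_fintype_card]
      exact Nat.card_congr (equivShrink H).symm
    rw [h1]
    omega
  · rw [← hspec]
    ext k
    constructor
    · rintro ⟨x, rfl⟩
      exact ⟨em x, MulEquiv.orderOf_eq em x⟩
    · rintro ⟨y, rfl⟩
      exact ⟨em.symm y, by rw [← MulEquiv.orderOf_eq em (em.symm y), MulEquiv.apply_symm_apply]⟩

end Cfsg.Agent.S3444
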