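import Cfsg.Statements.S3448

set_option autoImplicit false
open Cfsg

namespace Cfsg.Agent.S3448

set_option maxRecDepth 100000 in
theorem perm5_pow : ∀ g : Equiv.Perm (Fin 5), Equiv.Perm.sign g = 1 →
    g ^ 2 = 1 ∨ g ^ 3 = 1 ∨ g ^ 5 = 1 := by
  decide

/-- every element of `A₅` has order 1, 2, 3 or 5 -/
theorem orderOf_a5 (g : alternatingGroup (Fin 5)) :
    orderOf g = 1 ∨ orderOf g = 2 ∨ orderOf g = 3 ∨ orderOf g = 5 := by
  have hs : Equiv.Perm.sign (g : Equiv.Perm (Fin 5)) = 1 := Equiv.Perm.mem_alternatingGroup.mp g.2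
  have key : ∀ k : ℕ, (g : Equiv.Perm (Fin 5)) ^ k = 1 → g ^ k = 1 := by
    intro k hk
    apply Subtype.ext
    simpa using hk
  rcases perm5_pow g hs with h | h | h
  · have := (Nat.dvd_prime Nat.prime_two).mp (orderOf_dvd_of_pow_eq_one (key 2 h))
    tauto
  · have := (Nat.dvd_prime Nat.prime_three).mp (orderOf_dvd_of_pow_eq_one (key 3 h))
    tauto
  · have := (Nat.dvd_prime Nat.prime_five).mp (orderOf_dvd_of_pow_eq_one (key 5 h))
    tauto

/-- explicit elements -/
def e2 : alternatingGroup (Fin 5) :=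
  ⟨Equiv.swap 0 1 * Equiv.swap 2 3, Equiv.Perm.mem_alternatingGroup.mpr (by decide)⟩

def e3 : alternatingGroup (Fin 5) :=
  ⟨Equiv.swap 0 1 * Equiv.swap 1 2, Equiv.Perm.mem_alternatingGroup.mpr (by decide)⟩

def e5 : alternatingGroup (Fin 5) :=
  ⟨Equiv.swap 0 1 * Equiv.swap 1 2 * Equiv.swap 2 3 * Equiv.swap 3 4,
    Equiv.Perm.mem_alternatingGroup.mpr (by decide)⟩

theorem orderOf_e2 : orderOf e2 = 2 := by
  have : Fact (Nat.Prime 2) := ⟨Nat.prime_two⟩
  apply orderOf_eq_prime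
  · apply Subtype.ext; simp only [e2]; decide
  · intro h; have := congrArg Subtype.val h; simp only [e2] at this; revert this; decide

theorem orderOf_e3 : orderOf e3 = 3 := by
  have : Fact (Nat.Prime 3) := ⟨Nat.prime_three⟩
  apply orderOf_eq_prime
  · apply Subtype.ext; simp only [e3]; decide
  · intro h; have := congrArg Subtype.val h; simp only [e3] at this; revert this; decide

theorem orderOf_e5 : orderOf e5 = 5 := by
  have : Fact (Nat.Prime 5) := ⟨Nat.prime_five⟩
  apply orderOf_eq_prime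
  · apply Subtype.ext; simp only [e5]; decide
  · intro h; have := congrArg Subtype.val h; simp only [e5] at this; revert this; decide

/-- the set of element orders of `A₅` -/
theorem spec_a5 (n : ℕ) :
    (∃ g : alternatingGroup (Fin 5), orderOf g = n) ↔ n = 1 ∨ n = 2 ∨ n = 3 ∨ n = 5 := by
  constructor
  · rintro ⟨g, rfl⟩; exact orderOf_a5 g
  · rintro (rfl | rfl | rfl | rfl)
    · exact ⟨1, orderOf_one⟩
    · exact ⟨e2, orderOf_e2⟩
    · exact ⟨e3, orderOf_e3⟩
    · exact ⟨e5, orderOf_e5⟩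

theorem result : Set.range (orderOf : alternatingGroup (Fin 5) × alternatingGroup (Fin 5) → ℕ) = {1, 2, 3, 5, 6, 10, 15} := by
  ext n
  simp only [Set.mem_range, Set.mem_insert_iff, Set.mem_singleton_iff]
  constructor
  · rintro ⟨⟨a, b⟩, rfl⟩
    rw [Prod.orderOf]
    rcases orderOf_a5 a with ha | ha | ha | ha <;> rcases orderOf_a5 b with hb | hb | hb | hb <;>
      simp only [ha, hb] <;> decide
  · rintro (rfl | rfl | rfl | rfl | rfl | rfl | rfl)
    · exact ⟨(1, 1), by rw [Prod.orderOf]; simp⟩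
    · exact ⟨(e2, 1), by rw [Prod.orderOf]; simp [orderOf_e2]⟩
    · exact ⟨(e3, 1), by rw [Prod.orderOf]; simp [orderOf_e3]⟩
    · exact ⟨(e5, 1), by rw [Prod.orderOf]; simp [orderOf_e5]⟩
    · exact ⟨(e2, e3), by rw [Prod.orderOf]; rw [orderOf_e2, orderOf_e3]; rfl⟩
    · exact ⟨(e2, e5), by rw [Prod.orderOf]; rw [orderOf_e2, orderOf_e5]; rfl⟩
    · exact ⟨(e3, e5), by rw [Prod.orderOf]; rw [orderOf_e3, orderOf_e5]; rfl⟩

end Cfsg.Agent.S3448
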