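import Cfsg.Statements.S3449
import Cfsg.Agent.S3448

set_option autoImplicit false
open Cfsg

namespace Cfsg.Agent.S3449

open Cfsg.Agent.S3448

/-- element orders of the cyclic group of order 30 are exactly the divisors of 30 -/
theorem spec_z30 (n : ℕ) :
    (∃ g : Multiplicative (ZMod 30), orderOf g = n) ↔ n ∣ 30 := by
  constructor
  · rintro ⟨g, rfl⟩
    have : Nat.card (Multiplicative (ZMod 30)) = 30 := by
      rw [Nat.card_eq_fintype_card]; simp
    have h2 := orderOf_dvd_natCard g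
    rwa [this] at h2
  · intro hn
    obtain ⟨d, hd⟩ := hn
    have hdpos : 0 < d := by
      rcases Nat.eq_zero_or_pos d with h | h
      · subst h; simp at hd
      · exact h
    refine ⟨Multiplicative.ofAdd ((d : ℕ) : ZMod 30), ?_⟩
    rw [orderOf_ofAdd_eq_addOrderOf, ZMod.addOrderOf_coe d (by norm_num)]
    have hg : Nat.gcd 30 d = d := Nat.gcd_eq_right ⟨n, by rw [hd, mul_comm]⟩
    rw [hg]
    exact Nat.div_eq_of_eq_mul_left hdpos hd

theorem result : Set.range (orderOf : alternatingGroup (Fin 5) × alternatingGroup (Fin 5) × alternatingGroup (Fin 5) → ℕ) =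
      Set.range (orderOf : Multiplicative (ZMod 30) → ℕ) := by
  ext n
  simp only [Set.mem_range]
  rw [spec_z30]
  constructor
  · rintro ⟨⟨a, b, c⟩, rfl⟩
    rw [Prod.orderOf, Prod.orderOf]
    rcases orderOf_a5 a with ha | ha | ha | ha <;> rcases orderOf_a5 b with hb | hb | hb | hb <;>
      rcases orderOf_a5 c with hc | hc | hc | hc <;>
      simp only [ha, hb, hc] <;> decide
  · intro hn
    have hmem : n ∈ Nat.divisors 30 := Nat.mem_divisors.mpr ⟨hn, by norm_num⟩
    have : Nat.divisors 30 = {1, 2, 3, 5, 6, 10, 15, 30} := by decide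
    rw [this] at hmem
    simp only [Finset.mem_insert, Finset.mem_singleton] at hmem
    rcases hmem with rfl | rfl | rfl | rfl | rfl | rfl | rfl | rfl
    · exact ⟨(1, 1, 1), by rw [Prod.orderOf, Prod.orderOf]; simp⟩
    · exact ⟨(e2, 1, 1), by rw [Prod.orderOf, Prod.orderOf]; simp [orderOf_e2]⟩
    · exact ⟨(e3, 1, 1), by rw [Prod.orderOf, Prod.orderOf]; simp [orderOf_e3]⟩
    · exact ⟨(e5, 1, 1), by rw [Prod.orderOf, Prod.orderOf]; simp [orderOf_e5]⟩
    · exact ⟨(e2, e3, 1), by
        rw [Prod.orderOf, Prod.orderOf]; simp only [orderOf_e2, orderOf_e3, orderOf_one]; rfl⟩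
    · exact ⟨(e2, e5, 1), by
        rw [Prod.orderOf, Prod.orderOf]; simp only [orderOf_e2, orderOf_e5, orderOf_one]; rfl⟩
    · exact ⟨(e3, e5, 1), by
        rw [Prod.orderOf, Prod.orderOf]; simp only [orderOf_e3, orderOf_e5, orderOf_one]; rfl⟩
    · exact ⟨(e2, e3, e5), by
        rw [Prod.orderOf, Prod.orderOf]; simp only [orderOf_e2, orderOf_e3, orderOf_e5]; rfl⟩

end Cfsg.Agent.S3449
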