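import Cfsg.Statements.S3488
import Cfsg.Agent.Lib.Helper58_F4
import Cfsg.Agent.Lib.Helper58_A6

set_option autoImplicit false
set_option linter.style.haveILetI false
open Cfsg

namespace Cfsg.Agent.S3488

open Cfsg.Agent.Lib.Helper58_F4 Cfsg.Agent.Lib.Helper58_A6 Matrix

section
variable {F : Type*} [Field F] [Fintype F]

/-- the set of affine matrices -/
def affSet (F : Type*) [Field F] : Set (SpecialLinearGroup (Fin 3) F) :=
  {M | (M : Matrix (Fin 3) (Fin 3) F) 2 0 = 0 ∧ (M : Matrix (Fin 3) (Fin 3) F) 2 1 = 0 ∧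
    (M : Matrix (Fin 3) (Fin 3) F) 2 2 = 1}

omit [Fintype F] in
theorem mem_affSet_iff (M : SpecialLinearGroup (Fin 3) F) :
    M ∈ affSet F ↔ Matrix.vecMul (Pi.single 2 1) (M : Matrix (Fin 3) (Fin 3) F) = Pi.single 2 1 := by
  constructor
  · rintro ⟨h0, h1, h2⟩
    funext j
    fin_cases j <;> simp [Matrix.vecMul, dotProduct, Fin.sum_univ_three, h0, h1, h2]
  · intro h
    have h0 := congrFun h 0
    have h1 := congrFun h 1
    have h2 := congrFun h 2
    simp [Matrix.vecMul, dotProduct, Fin.sum_univ_three] at h0 h1 h2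
    exact ⟨h0, h1, h2⟩

omit [Fintype F] in
theorem closure_affSet_le (x : SpecialLinearGroup (Fin 3) F)
    (hx : x ∈ Subgroup.closure (affSet F)) : x ∈ affSet F := by
  induction hx using Subgroup.closure_induction with
  | mem x hx => exact hx
  | one => rw [mem_affSet_iff]; simp
  | mul x y _ _ hx hy =>
    rw [mem_affSet_iff] at hx hy ⊢
    rw [Matrix.SpecialLinearGroup.coe_mul, ← Matrix.vecMul_vecMul, hx, hy]
  | inv x _ hx =>
    rw [mem_affSet_iff] at hx ⊢
    have h1 : Matrix.vecMul (Pi.single 2 1) ((x * x⁻¹ : SpecialLinearGroup (Fin 3) F) : Matrix (Fin 3) (Fin 3) F) = Pi.single 2 1 := by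
      rw [mul_inv_cancel]; simp
    rw [Matrix.SpecialLinearGroup.coe_mul, ← Matrix.vecMul_vecMul, hx] at h1
    exact h1

theorem pow_of_mem_affSet (hF : Fintype.card F = 4) (x : SpecialLinearGroup (Fin 3) F)
    (hx : x ∈ affSet F) : x ^ 3 = 1 ∨ x ^ 4 = 1 ∨ x ^ 5 = 1 := by
  obtain ⟨h0, h1, h2⟩ := hx
  have hann := mat3_annihilated (x : Matrix (Fin 3) (Fin 3) F) h0 h1 h2 x.det_coe
  have := pow_eq_one_of_annihilated hF _ _ hann
  rcases this with h | h | h
  · exact Or.inl (by ext1; rw [Matrix.SpecialLinearGroup.coe_pow, h]; rfl)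
  · exact Or.inr (Or.inl (by ext1; rw [Matrix.SpecialLinearGroup.coe_pow, h]; rfl))
  · exact Or.inr (Or.inr (by ext1; rw [Matrix.SpecialLinearGroup.coe_pow, h]; rfl))

end

theorem result {F : Type*} [Field F] [Fintype F] (hF : Fintype.card F = 4) :
    Set.range (orderOf : Subgroup.closure {M : Matrix.SpecialLinearGroup (Fin 3) F |
        (M : Matrix (Fin 3) (Fin 3) F) 2 0 = 0 ∧ (M : Matrix (Fin 3) (Fin 3) F) 2 1 = 0 ∧ (M : Matrix (Fin 3) (Fin 3) F) 2 2 = 1} → ℕ) =
      Set.range (orderOf : alternatingGroup (Fin 6) → ℕ) := by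
  rw [spec_A6]
  change Set.range (orderOf : Subgroup.closure (affSet F) → ℕ) = _
  have h2 : (2 : F) = 0 := two_eq_zero hF
  have hneg : (-1 : F) = 1 := by linear_combination (-1 : F) * h2
  obtain ⟨w, hw⟩ := exists_omega hF
  apply Set.Subset.antisymm
  · rintro _ ⟨⟨x, hx⟩, rfl⟩
    have h := pow_of_mem_affSet hF x (closure_affSet_le x hx)
    have h' : (⟨x, hx⟩ : Subgroup.closure (affSet F)) ^ 3 = 1 ∨ (⟨x, hx⟩ : Subgroup.closure (affSet F)) ^ 4 = 1 ∨
        (⟨x, hx⟩ : Subgroup.closure (affSet F)) ^ 5 = 1 := by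
      rcases h with h | h | h
      · exact Or.inl (Subtype.ext h)
      · exact Or.inr (Or.inl (Subtype.ext h))
      · exact Or.inr (Or.inr (Subtype.ext h))
    exact orderOf_mem_of_pow _ h'
  · -- explicit elements
    have key : ∀ (x : SpecialLinearGroup (Fin 3) F) (n : ℕ),
        (x : Matrix (Fin 3) (Fin 3) F) 2 0 = 0 → (x : Matrix (Fin 3) (Fin 3) F) 2 1 = 0 →
        (x : Matrix (Fin 3) (Fin 3) F) 2 2 = 1 → orderOf x = n →
        n ∈ Set.range (orderOf : Subgroup.closure (affSet F) → ℕ) := by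
      intro x n h0 h1 h2 hord
      refine ⟨⟨x, Subgroup.subset_closure ⟨h0, h1, h2⟩⟩, ?_⟩
      rw [← hord]
      exact Subgroup.orderOf_mk _ _
    -- general facts about x built from a matrix
    have hne : ∀ (x : SpecialLinearGroup (Fin 3) F), (x : Matrix (Fin 3) (Fin 3) F) 0 1 = 1 → x ≠ 1 := by
      intro x hx h
      rw [h] at hx
      simp at hx
    have hpow : ∀ (x : SpecialLinearGroup (Fin 3) F) (k : ℕ),
        (x : Matrix (Fin 3) (Fin 3) F) ^ k = 1 → x ^ k = 1 := by
      intro x k h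
      apply Subtype.ext
      rw [Matrix.SpecialLinearGroup.coe_pow, h]
      rfl
    intro n hn
    simp only [Set.mem_insert_iff, Set.mem_singleton_iff] at hn
    rcases hn with rfl | rfl | rfl | rfl | rfl
    · exact ⟨1, orderOf_one⟩
    · -- order 2
      have hdet : (!![1, 1, 0; 0, 1, 0; 0, 0, 1] : Matrix (Fin 3) (Fin 3) F).det = 1 := by
        simp [Matrix.det_fin_three]
      let x : SpecialLinearGroup (Fin 3) F := ⟨_, hdet⟩
      refine key x 2 (by simp [x]) (by simp [x]) (by simp [x]) ?_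
      apply orderOf_eq_prime
      · apply hpow
        show (!![1, 1, 0; 0, 1, 0; 0, 0, 1] : Matrix (Fin 3) (Fin 3) F) ^ 2 = 1
        ext i j
        fin_cases i <;> fin_cases j <;>
          simp [pow_two, Matrix.mul_apply, Fin.sum_univ_three] <;>
          linear_combination h2
      · exact hne x (by simp [x])
    · -- order 3
      have hdet : (!![0, 1, 0; 1, 1, 0; 0, 0, 1] : Matrix (Fin 3) (Fin 3) F).det = 1 := by
        simp [Matrix.det_fin_three, hneg]
      let x : SpecialLinearGroup (Fin 3) F := ⟨_, hdet⟩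
      refine key x 3 (by simp [x]) (by simp [x]) (by simp [x]) ?_
      apply orderOf_eq_prime
      · apply hpow
        have hann := mat3_annihilated (!![0, 1, 0; 1, 1, 0; 0, 0, 1] : Matrix (Fin 3) (Fin 3) F)
          (by simp) (by simp) (by simp) hdet
        have ht : (!![0, 1, 0; 1, 1, 0; 0, 0, 1] : Matrix (Fin 3) (Fin 3) F) 0 0 +
            (!![0, 1, 0; 1, 1, 0; 0, 0, 1] : Matrix (Fin 3) (Fin 3) F) 1 1 = 1 := by simp
        rw [ht] at hann
        exact pow_three_eq_one hF _ hann
      · exact hne x (by simp [x])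
    · -- order 4
      have hdet : (!![1, 1, 0; 0, 1, 1; 0, 0, 1] : Matrix (Fin 3) (Fin 3) F).det = 1 := by
        simp [Matrix.det_fin_three]
      let x : SpecialLinearGroup (Fin 3) F := ⟨_, hdet⟩
      refine key x 4 (by simp [x]) (by simp [x]) (by simp [x]) ?_
      apply orderOf_eq_prime_pow (p := 2) (n := 1)
      · intro h
        have h' : (!![1, 1, 0; 0, 1, 1; 0, 0, 1] : Matrix (Fin 3) (Fin 3) F) ^ 2 = 1 := by
          have := congrArg Subtype.val h
          rw [pow_one, Matrix.SpecialLinearGroup.coe_pow] at this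
          exact this
        have := congrFun (congrFun h' 0) 2
        simp [pow_two, Matrix.mul_apply, Fin.sum_univ_three] at this
      · apply hpow
        have hann := mat3_annihilated (!![1, 1, 0; 0, 1, 1; 0, 0, 1] : Matrix (Fin 3) (Fin 3) F)
          (by simp) (by simp) (by simp) hdet
        have ht : (!![1, 1, 0; 0, 1, 1; 0, 0, 1] : Matrix (Fin 3) (Fin 3) F) 0 0 +
            (!![1, 1, 0; 0, 1, 1; 0, 0, 1] : Matrix (Fin 3) (Fin 3) F) 1 1 = 0 := by
          simp; linear_combination h2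
        rw [ht] at hann
        exact pow_four_eq_one hF _ hann
    · -- order 5
      have hdet : (!![0, 1, 0; 1, w, 0; 0, 0, 1] : Matrix (Fin 3) (Fin 3) F).det = 1 := by
        simp [Matrix.det_fin_three, hneg]
      let x : SpecialLinearGroup (Fin 3) F := ⟨_, hdet⟩
      refine key x 5 (by simp [x]) (by simp [x]) (by simp [x]) ?_
      haveI : Fact (Nat.Prime 5) := ⟨by norm_num⟩
      apply orderOf_eq_prime
      · apply hpow
        have hann := mat3_annihilated (!![0, 1, 0; 1, w, 0; 0, 0, 1] : Matrix (Fin 3) (Fin 3) F)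
          (by simp) (by simp) (by simp) hdet
        have ht : (!![0, 1, 0; 1, w, 0; 0, 0, 1] : Matrix (Fin 3) (Fin 3) F) 0 0 +
            (!![0, 1, 0; 1, w, 0; 0, 0, 1] : Matrix (Fin 3) (Fin 3) F) 1 1 = w := by simp
        rw [ht] at hann
        exact pow_five_eq_one hF w hw _ hann
      · exact hne x (by simp [x])

end Cfsg.Agent.S3488
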