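import Mathlib
import Cfsg.Statements.S3489
import Cfsg.Agent.S2477
import Cfsg.Agent.Lib.Helper90_A10Twin

set_option autoImplicit false
open Cfsg

namespace Cfsg.Agent.S3489

open Cfsg.Agent.Lib.Helper90_A10Data Cfsg.Agent.Lib.Helper90_A10Twin
  Cfsg.Agent.Lib.Helper90_AffSpec

/-- The alternating group of degree 10 is not determined by its set of element orders, not even up to finitely many groups: for every bound N there is a finite group of order greater than N with exactly the same set of element orders as the alternating group of degree 10. -/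
theorem result (N : ℕ) : ∃ (H : Type) (_ : Group H) (_ : Fintype H), N < Fintype.card H ∧ Set.range (orderOf : H → ℕ) = Set.range (orderOf : alternatingGroup (Fin 10) → ℕ) := by
  rw [Cfsg.Agent.S2477.result]
  refine ⟨↥(FiberPow (SemidirectProduct.rightHom : G →* C) (N + 1)), inferInstance,
    Fintype.ofFinite _, ?_, ?_⟩
  · rw [Fintype.card_eq_nat_card]
    have hv1 : (mk (1 : C) (Pi.single (0 : Fin 12) (1 : ZMod 21)) : G) ≠ 1 := by
      apply ne_one_of_tr
      intro h
      have h1 := congrFun h 0
      rw [tr_mk, Pi.single_eq_same] at h1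
      revert h1
      decide
    exact Nat.lt_of_succ_le (le_card_fiberPow (SemidirectProduct.rightHom : G →* C) (N + 1)
      (mk (1 : C) (Pi.single (0 : Fin 12) (1 : ZMod 21))) rfl hv1)
  · ext d
    constructor
    · rintro ⟨f, rfl⟩
      have h := orderOf_mem_Om N f
      unfold Om at h
      simpa using h
    · intro hd
      have key : ∀ x : G, orderOf x = d → d ∈ Set.range
          (orderOf : ↥(FiberPow (SemidirectProduct.rightHom : G →* C) (N + 1)) → ℕ) := by
        intro x hx
        exact ⟨diag _ (N + 1) x, by rw [orderOf_diag, hx]⟩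
      simp only [Set.mem_insert_iff, Set.mem_singleton_iff] at hd
      rcases hd with rfl | rfl | rfl | rfl | rfl | rfl | rfl | rfl | rfl | rfl | rfl | rfl | rfl
      · exact key 1 orderOf_one
      · obtain ⟨x, hx⟩ := exists_orderOf _ _ _ 2 (by norm_num) (by norm_num) (by norm_num) W_2
        exact key x hx
      · obtain ⟨x, hx⟩ := exists_orderOf _ _ _ 3 (by norm_num) (by norm_num) (by norm_num) W_3
        exact key x hx
      · obtain ⟨x, hx⟩ := exists_orderOf _ _ _ 4 (by norm_num) (by norm_num) (by norm_num) W_4
        exact key x hx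
      · obtain ⟨x, hx⟩ := exists_orderOf _ _ _ 5 (by norm_num) (by norm_num) (by norm_num) W_5
        exact key x hx
      · obtain ⟨x, hx⟩ := exists_orderOf _ _ _ 6 (by norm_num) (by norm_num) (by norm_num) W_6
        exact key x hx
      · obtain ⟨x, hx⟩ := exists_orderOf _ _ _ 7 (by norm_num) (by norm_num) (by norm_num) W_7
        exact key x hx
      · obtain ⟨x, hx⟩ := exists_orderOf _ _ _ 8 (by norm_num) (by norm_num) (by norm_num) W_8
        exact key x hx
      · obtain ⟨x, hx⟩ := exists_orderOf _ _ _ 9 (by norm_num) (by norm_num) (by norm_num) W_9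
        exact key x hx
      · obtain ⟨x, hx⟩ := exists_orderOf _ _ _ 10 (by norm_num) (by norm_num) (by norm_num) W_10
        exact key x hx
      · obtain ⟨x, hx⟩ := exists_orderOf _ _ _ 12 (by norm_num) (by norm_num) (by norm_num) W_12
        exact key x hx
      · obtain ⟨x, hx⟩ := exists_orderOf _ _ _ 15 (by norm_num) (by norm_num) (by norm_num) W_15
        exact key x hx
      · obtain ⟨x, hx⟩ := exists_orderOf _ _ _ 21 (by norm_num) (by norm_num) (by norm_num) W_21
        exact key x hx

end Cfsg.Agent.S3489
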