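import Cfsg.Statements.S3491
import Cfsg.Agent.S3488

set_option autoImplicit false
set_option linter.style.haveILetI false
open Cfsg

namespace Cfsg.Agent.S3491

open Cfsg.Agent.Lib.Helper58_F4 Cfsg.Agent.Lib.Helper58_A6 Cfsg.Agent.S3488 Matrix

section
variable {F : Type} [Field F]

/-- the affine group inside `SL(3,F)` -/
abbrev Aff (F : Type) [Field F] : Subgroup (SpecialLinearGroup (Fin 3) F) :=
  Subgroup.closure (affSet F)

theorem aff_row (x : Aff F) : (x.1 : Matrix (Fin 3) (Fin 3) F) 2 0 = 0 ∧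
    (x.1 : Matrix (Fin 3) (Fin 3) F) 2 1 = 0 ∧ (x.1 : Matrix (Fin 3) (Fin 3) F) 2 2 = 1 :=
  closure_affSet_le x.1 x.2

/-- the top left block, as a monoid homomorphism -/
def tl : Aff F →* Matrix (Fin 2) (Fin 2) F where
  toFun x := Matrix.of fun a b => (x.1 : Matrix (Fin 3) (Fin 3) F) (Fin.castSucc a) (Fin.castSucc b)
  map_one' := by
    ext a b
    fin_cases a <;> fin_cases b <;> simp
  map_mul' x y := by
    obtain ⟨h0, h1, -⟩ := aff_row y
    ext a b
    rw [Matrix.mul_apply]
    simp only [Matrix.of_apply, Subgroup.coe_mul, Matrix.SpecialLinearGroup.coe_mul,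
      Matrix.mul_apply, Fin.sum_univ_castSucc (n := 2)]
    have : (y.1 : Matrix (Fin 3) (Fin 3) F) (Fin.last 2) (Fin.castSucc b) = 0 := by
      fin_cases b
      · exact h0
      · exact h1
    rw [this, mul_zero, add_zero]

theorem tl_apply (x : Aff F) (a b : Fin 2) :
    tl x a b = (x.1 : Matrix (Fin 3) (Fin 3) F) (Fin.castSucc a) (Fin.castSucc b) := rfl

/-- the fibre power -/
def Hk (F : Type) [Field F] (k : ℕ) : Subgroup (Fin k → Aff F) :=
  ⨅ i : Fin k, ⨅ j : Fin k,
    MonoidHom.eqLocus ((tl (F := F)).comp (Pi.evalMonoidHom (fun _ : Fin k => Aff F) i))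
      ((tl (F := F)).comp (Pi.evalMonoidHom (fun _ : Fin k => Aff F) j))

theorem mem_Hk (k : ℕ) (x : Fin k → Aff F) : x ∈ Hk F k ↔ ∀ i j, tl (x i) = tl (x j) := by
  simp only [Hk, Subgroup.mem_iInf]
  rfl

variable [Fintype F]

theorem pow_of_mem_Hk (hF : Fintype.card F = 4) (k : ℕ) (x : Fin k → Aff F) (hx : x ∈ Hk F k) :
    x ^ 3 = 1 ∨ x ^ 4 = 1 ∨ x ^ 5 = 1 := by
  rw [mem_Hk] at hx
  rcases isEmpty_or_nonempty (Fin k) with he | ⟨⟨i0⟩⟩
  · exact Or.inl (Subsingleton.elim _ _)
  · have hann : ∀ i, ((((x i).1 : SpecialLinearGroup (Fin 3) F) : Matrix (Fin 3) (Fin 3) F) - 1) *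
        ((((x i).1 : SpecialLinearGroup (Fin 3) F) : Matrix (Fin 3) (Fin 3) F) ^ 2 -
          (tl (x i0) 0 0 + tl (x i0) 1 1) • (((x i).1 : SpecialLinearGroup (Fin 3) F) : Matrix (Fin 3) (Fin 3) F) + 1) = 0 := by
      intro i
      obtain ⟨h0, h1, h2⟩ := aff_row (x i)
      have := mat3_annihilated _ h0 h1 h2 (x i).1.det_coe
      rw [← hx i i0, tl_apply, tl_apply]
      exact this
    have hlift : ∀ n : ℕ, (∀ i, (((x i).1 : SpecialLinearGroup (Fin 3) F) : Matrix (Fin 3) (Fin 3) F) ^ n = 1) →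
        x ^ n = 1 := by
      intro n h
      funext i
      apply Subtype.ext
      apply Subtype.ext
      rw [Pi.pow_apply, Subgroup.coe_pow, Matrix.SpecialLinearGroup.coe_pow, h i]
      rfl
    rcases trichotomy hF (tl (x i0) 0 0 + tl (x i0) 1 1) with ht | ht | ht
    · refine Or.inr (Or.inl (hlift 4 fun i => ?_))
      have := hann i
      rw [ht] at this
      exact pow_four_eq_one hF _ this
    · refine Or.inl (hlift 3 fun i => ?_)
      have := hann i
      rw [ht] at this
      exact pow_three_eq_one hF _ this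
    · refine Or.inr (Or.inr (hlift 5 fun i => ?_))
      exact pow_five_eq_one hF _ ht _ (hann i)

/-- the diagonal embedding -/
def diag (k : ℕ) : Aff F →* Hk F k where
  toFun a := ⟨fun _ => a, (mem_Hk k _).mpr fun _ _ => rfl⟩
  map_one' := rfl
  map_mul' _ _ := rfl

omit [Fintype F] in
theorem diag_injective (k : ℕ) : Function.Injective (diag (F := F) (k + 1)) := by
  intro a b h
  have := congrArg (fun x : Hk F (k + 1) => x.1 0) h
  exact this

/-- translations -/
def transl (c : F) : Aff F :=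
  ⟨⟨!![1, 0, c; 0, 1, 0; 0, 0, 1], by simp [Matrix.det_fin_three]⟩,
    Subgroup.subset_closure ⟨by simp, by simp, by simp⟩⟩

omit [Fintype F] in
theorem tl_transl (c : F) : tl (transl c) = 1 := by
  ext a b
  rw [tl_apply]
  fin_cases a <;> fin_cases b <;> simp [transl]

def translMap (k : ℕ) (c : Fin k → F) : Hk F k :=
  ⟨fun i => transl (c i), (mem_Hk k _).mpr fun i j => by rw [tl_transl, tl_transl]⟩

omit [Fintype F] in
theorem translMap_injective (k : ℕ) : Function.Injective (translMap (F := F) k) := by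
  intro c d h
  funext i
  have h1 := congrArg (fun x : Hk F k => (((x.1 i).1 : SpecialLinearGroup (Fin 3) F) : Matrix (Fin 3) (Fin 3) F) 0 2) h
  simpa [translMap, transl] using h1

theorem main (hF : Fintype.card F = 4) (N : ℕ) :
    ∃ (H : Type) (_ : Group H) (_ : Fintype H), N < Fintype.card H ∧
      Set.range (orderOf : H → ℕ) = Set.range (orderOf : alternatingGroup (Fin 6) → ℕ) := by
  classical
  refine ⟨Hk F (N + 1), inferInstance, Fintype.ofFinite _, ?_, ?_⟩
  · have h1 := @Fintype.card_le_of_injective (Fin (N + 1) → F) (Hk F (N + 1)) _ (Fintype.ofFinite _) _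
      (translMap_injective (N + 1))
    rw [Fintype.card_fun, hF, Fintype.card_fin] at h1
    have h2 : N + 1 < 4 ^ (N + 1) := Nat.lt_pow_self (by norm_num)
    omega
  · have hS := Cfsg.Agent.S3488.result (F := F) hF
    change Set.range (orderOf : Aff F → ℕ) = _ at hS
    rw [← hS]
    apply Set.Subset.antisymm
    · rintro _ ⟨⟨x, hx⟩, rfl⟩
      have h := pow_of_mem_Hk hF _ x hx
      have h' : (⟨x, hx⟩ : Hk F (N + 1)) ^ 3 = 1 ∨ (⟨x, hx⟩ : Hk F (N + 1)) ^ 4 = 1 ∨
          (⟨x, hx⟩ : Hk F (N + 1)) ^ 5 = 1 := by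
        rcases h with h | h | h
        · exact Or.inl (Subtype.ext h)
        · exact Or.inr (Or.inl (Subtype.ext h))
        · exact Or.inr (Or.inr (Subtype.ext h))
      have := orderOf_mem_of_pow _ h'
      rw [hS, spec_A6]
      exact this
    · rintro _ ⟨a, rfl⟩
      exact ⟨diag (N + 1) a, orderOf_injective _ (diag_injective N) a⟩

end

theorem result (N : ℕ) : ∃ (H : Type) (_ : Group H) (_ : Fintype H), N < Fintype.card H ∧ Set.range (orderOf : H → ℕ) = Set.range (orderOf : alternatingGroup (Fin 6) → ℕ) := by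
  haveI : Fact (Nat.Prime 2) := ⟨Nat.prime_two⟩
  letI : Fintype (GaloisField 2 2) := Fintype.ofFinite _
  have hF : Fintype.card (GaloisField 2 2) = 4 := by
    rw [← Nat.card_eq_fintype_card, GaloisField.card 2 2 (by norm_num)]
    norm_num
  exact main hF N

end Cfsg.Agent.S3491
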