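import Cfsg.Statements.S3494
import Cfsg.Agent.Lib.Helper58_ExtPrim

set_option autoImplicit false
set_option linter.style.haveILetI false
open Cfsg

namespace Cfsg.Agent.S3494

open MulAction Cfsg.Agent.Lib.Helper58_ExtPrim

/-- The data used in the proof of Manning's theorem: `K` is the pointwise stabilizer of a
suborbit (together with the base point `α`), `F` is its set of fixed points. -/
structure MD {G : Type*} [Group G] {Ω : Type*} [MulAction G Ω]
    (K : Subgroup G) (F : Set Ω) (α : Ω) : Prop where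
  hKH : ∀ k ∈ K, k • α = α
  hKn : ∀ h : G, h • α = α → ∀ k ∈ K, h * k * h⁻¹ ∈ K
  hF : ∀ x, x ∈ F ↔ ∀ k ∈ K, k • x = x
  hKF : ∀ g : G, (∀ x ∈ F, g • x = x) → g ∈ K
  hNK : ∀ g : G, (∀ k ∈ K, g * k * g⁻¹ ∈ K) → g • α = α
  hP2 : ∀ (X : Subgroup G), (∀ x ∈ X, x • α = α) →
    (∀ h : G, h • α = α → ∀ x ∈ X, h * x * h⁻¹ ∈ X) → ∀ s : Ω,
      (∀ x ∈ X, ∀ h : G, h • α = α → x • h • s = h • s) ∨
      (∀ h : G, h • α = α → ∃ x ∈ X, x • s = h • s)
  hGEN : ∀ (S : Set Ω) (σ : Ω), S.Nonempty → σ ≠ α →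
    (∀ h : G, h • α = α → ∀ s ∈ S, h • s ∈ S) →
    (∀ h : G, h • σ = σ → ∀ s ∈ S, h • s ∈ S) → S = Set.univ
  htrans : ∀ x : Ω, ∃ g : G, g • α = x

variable {G : Type*} [Group G] {Ω : Type*} [MulAction G Ω] {K : Subgroup G} {F : Set Ω} {α : Ω}

theorem MD.alpha_mem (D : MD K F α) : α ∈ F := (D.hF α).mpr D.hKH

theorem MD.F_inv (D : MD K F α) {h : G} (hh : h • α = α) {x : Ω} (hx : x ∈ F) :
    h • x ∈ F := by
  rw [D.hF]
  intro k hk
  have hinv : h⁻¹ • α = α := by rw [inv_smul_eq_iff]; exact hh.symm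
  have h1 := D.hKn h⁻¹ hinv k hk
  rw [inv_inv] at h1
  have h2 := (D.hF x).mp hx _ h1
  rw [mul_smul, mul_smul, inv_smul_eq_iff] at h2
  exact h2

theorem MD.K_trans (D : MD K F α) {x : Ω} (hx : x ∉ F) {h : G} (hh : h • α = α) :
    ∃ k ∈ K, k • x = h • x := by
  rcases D.hP2 K D.hKH D.hKn x with h1 | h1
  · exfalso
    apply hx
    rw [D.hF]
    intro k hk
    have := h1 k hk 1 (one_smul _ _)
    simpa using this
  · exact h1 h hh

/-- Symmetry of the relation `y ∈ F_x`. -/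
theorem MD.symm (D : MD K F α) (g : G) (hθ : g⁻¹ • α ∈ F) : g • α ∈ F := by
  by_contra hσ
  have hαF := D.alpha_mem
  have hσα : g • α ≠ α := fun h => hσ (by rw [h]; exact hαF)
  have C1 : ∀ k ∈ K, (g * k * g⁻¹) • α = α := by
    intro k hk
    rw [mul_smul, mul_smul, (D.hF _).mp hθ k hk, smul_inv_smul]
  obtain ⟨x₀, hx₀, k₀, hk₀, hmove⟩ : ∃ x₀ ∈ F, ∃ k₀ ∈ K, (g * k₀ * g⁻¹) • x₀ ≠ x₀ := by
    by_contra hcon
    push Not at hcon
    apply hσα
    apply D.hNK
    intro k hk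
    apply D.hKF
    intro x hx
    exact hcon x hx k hk
  have C3 : ∀ h : G, h • α = α → ∀ k ∈ K, ∃ k₁ ∈ K, ∃ k' ∈ K,
      h * (g * k * g⁻¹) * h⁻¹ = k₁ * (g * k' * g⁻¹) * k₁⁻¹ := by
    intro h hh k hk
    obtain ⟨k₁, hk₁, hk₁σ⟩ := D.K_trans hσ hh
    have hy' : (g⁻¹ * (k₁⁻¹ * h) * g) • α = α := by
      rw [mul_smul, mul_smul, mul_smul, ← hk₁σ, inv_smul_smul, inv_smul_smul]
    refine ⟨k₁, hk₁, (g⁻¹ * (k₁⁻¹ * h) * g) * k * (g⁻¹ * (k₁⁻¹ * h) * g)⁻¹,
      D.hKn _ hy' k hk, ?_⟩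
    group
  -- the orbit of `x₀` under the stabilizer of `α`
  set Γ : Set Ω := {t | ∃ h : G, h • α = α ∧ h • x₀ = t} with hΓ
  have hΓF : ∀ t ∈ Γ, t ∈ F := by
    rintro t ⟨h, hh, rfl⟩; exact D.F_inv hh hx₀
  have hΓinv : ∀ h : G, h • α = α → ∀ t ∈ Γ, h • t ∈ Γ := by
    rintro h hh t ⟨h', hh', rfl⟩
    exact ⟨h * h', by rw [mul_smul, hh', hh], mul_smul _ _ _⟩
  have hx₀Γ : x₀ ∈ Γ := ⟨1, one_smul _ _, one_smul _ _⟩
  let L : Subgroup G :=
    { carrier := {l | l • α = α ∧ ∃ k ∈ K, ∀ t ∈ Γ, l • t = (g * k * g⁻¹) • t}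
      mul_mem' := by
        rintro a b ⟨ha, ka, hka, hat⟩ ⟨hb, kb, hkb, hbt⟩
        refine ⟨by rw [mul_smul, hb, ha], ka * kb, K.mul_mem hka hkb, ?_⟩
        intro t ht
        rw [mul_smul, hat _ (hΓinv b hb t ht), hbt t ht, ← mul_smul]
        congr 1
        group
      one_mem' := ⟨one_smul _ _, 1, K.one_mem, by intro t _; simp⟩
      inv_mem' := by
        rintro a ⟨ha, ka, hka, hat⟩
        have ha' : a⁻¹ • α = α := by rw [inv_smul_eq_iff]; exact ha.symm
        refine ⟨ha', ka⁻¹, K.inv_mem hka, ?_⟩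
        intro t ht
        have h1 := hat _ (hΓinv a⁻¹ ha' t ht)
        rw [smul_inv_smul] at h1
        have e : g * ka⁻¹ * g⁻¹ = (g * ka * g⁻¹)⁻¹ := by group
        rw [e, eq_inv_smul_iff]
        exact h1.symm }
  have hLH : ∀ x ∈ L, x • α = α := fun x hx => hx.1
  have hLn : ∀ h : G, h • α = α → ∀ x ∈ L, h * x * h⁻¹ ∈ L := by
    rintro h hh l ⟨hl, k, hk, hlt⟩
    have hh' : h⁻¹ • α = α := by rw [inv_smul_eq_iff]; exact hh.symm
    obtain ⟨k₁, hk₁, k', hk', heq⟩ := C3 h hh k hk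
    refine ⟨by rw [mul_smul, mul_smul, hh', hl, hh], k', hk', ?_⟩
    intro t ht
    have ht' := hΓinv h⁻¹ hh' t ht
    calc (h * l * h⁻¹) • t = h • l • h⁻¹ • t := by rw [mul_smul, mul_smul]
      _ = h • (g * k * g⁻¹) • h⁻¹ • t := by rw [hlt _ ht']
      _ = (h * (g * k * g⁻¹) * h⁻¹) • t := by simp only [mul_smul]
      _ = (k₁ * (g * k' * g⁻¹) * k₁⁻¹) • t := by rw [heq]
      _ = k₁ • (g * k' * g⁻¹) • k₁⁻¹ • t := by rw [mul_smul, mul_smul]
      _ = k₁ • (g * k' * g⁻¹) • t := by rw [(D.hF t).mp (hΓF t ht) _ (K.inv_mem hk₁)]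
      _ = (g * k' * g⁻¹) • t := (D.hF _).mp (hΓF _ (hΓinv _ (C1 k' hk') t ht)) k₁ hk₁
  have hKgL : ∀ k ∈ K, g * k * g⁻¹ ∈ L := fun k hk => ⟨C1 k hk, k, hk, fun t _ => rfl⟩
  have C5 : ∀ h : G, h • α = α → ∃ k ∈ K, (g * k * g⁻¹) • x₀ = h • x₀ := by
    rcases D.hP2 L hLH hLn x₀ with h1 | h1
    · exfalso
      have := h1 _ (hKgL k₀ hk₀) 1 (one_smul _ _)
      rw [one_smul] at this
      exact hmove this
    · intro h hh
      obtain ⟨l, ⟨_, k, hk, hlt⟩, hlx⟩ := h1 h hh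
      exact ⟨k, hk, by rw [← hlt x₀ hx₀Γ]; exact hlx⟩
  -- the point `y₀ = g⁻¹ • x₀` is moved by `K`
  have hy₀ : g⁻¹ • x₀ ∉ F := by
    intro hy
    apply hmove
    rw [mul_smul, mul_smul, (D.hF _).mp hy k₀ hk₀, smul_inv_smul]
  have C6 : ∀ h : G, h • α = α → ∃ h' : G, h' • α = α ∧ g⁻¹ • h' • x₀ = h • g⁻¹ • x₀ := by
    intro h hh
    obtain ⟨k, hk, hky⟩ := D.K_trans hy₀ hh
    refine ⟨g * k * g⁻¹, C1 k hk, ?_⟩
    rw [mul_smul, mul_smul, inv_smul_smul]
    exact hky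
  have C7 : ∀ h' : G, h' • α = α → ∃ k ∈ K, g⁻¹ • h' • x₀ = k • g⁻¹ • x₀ := by
    intro h' hh'
    obtain ⟨k, hk, hkx⟩ := C5 h' hh'
    refine ⟨k, hk, ?_⟩
    rw [← hkx, mul_smul, mul_smul, inv_smul_smul]
  have hΓσ : ∀ y : G, y • (g • α) = g • α → ∀ t ∈ Γ, y • t ∈ Γ := by
    rintro y hy t ⟨h', hh', rfl⟩
    obtain ⟨k, hk, hkt⟩ := C7 h' hh'
    have hz : (g⁻¹ * y * g) • α = α := by
      rw [mul_smul, mul_smul, hy, inv_smul_smul]
    have hzk : ((g⁻¹ * y * g) * k) • α = α := by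
      rw [mul_smul, D.hKH k hk, hz]
    obtain ⟨h'', hh'', e⟩ := C6 _ hzk
    refine ⟨h'', hh'', ?_⟩
    have e2 : ((g⁻¹ * y * g) * k) • g⁻¹ • x₀ = g⁻¹ • y • h' • x₀ := by
      rw [mul_smul, ← hkt, mul_smul, mul_smul, smul_inv_smul]
    rw [e2] at e
    exact smul_left_cancel _ e
  have := D.hGEN Γ (g • α) ⟨x₀, hx₀Γ⟩ hσα hΓinv hΓσ
  apply hσ
  apply hΓF
  rw [this]
  exact Set.mem_univ _

theorem MD.U_inv (D : MD K F α) (b : G) (hb : b • α ∈ F) (h : G) (hh : h • α = α) (y : Ω)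
    (hy : y ∈ F ∨ b⁻¹ • y ∈ F) : h • y ∈ F ∨ b⁻¹ • h • y ∈ F := by
  by_cases hyF : y ∈ F
  · exact Or.inl (D.F_inv hh hyF)
  · right
    have hy' : b⁻¹ • y ∈ F := hy.resolve_left hyF
    obtain ⟨k, hk, hky⟩ := D.K_trans hyF hh
    rw [← hky]
    have hz : (b⁻¹ * k * b) • α = α := by
      rw [mul_smul, mul_smul, (D.hF _).mp hb k hk, inv_smul_smul]
    have := D.F_inv hz hy'
    rwa [mul_smul, mul_smul, smul_inv_smul] at this

theorem MD.cover (D : MD K F α) (b : G) (hb : b • α ∈ F) (hne : b • α ≠ α) (y : Ω) :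
    y ∈ F ∨ b⁻¹ • y ∈ F := by
  have hb' : b⁻¹ • α ∈ F := D.symm b⁻¹ (by rwa [inv_inv])
  have hU : {y | y ∈ F ∨ b⁻¹ • y ∈ F} = Set.univ := by
    apply D.hGEN _ (b • α) ⟨α, Or.inl D.alpha_mem⟩ hne
    · intro h hh s hs; exact D.U_inv b hb h hh s hs
    · intro x hx s hs
      have hh : (b⁻¹ * x * b) • α = α := by rw [mul_smul, mul_smul, hx, inv_smul_smul]
      have h1 : b⁻¹ • s ∈ F ∨ (b⁻¹)⁻¹ • (b⁻¹ • s) ∈ F := by
        rw [inv_inv, smul_inv_smul]; exact hs.symm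
      have h2 := D.U_inv b⁻¹ hb' _ hh _ h1
      rw [inv_inv] at h2
      have e : (b⁻¹ * x * b) • b⁻¹ • s = b⁻¹ • x • s := by
        rw [mul_smul, mul_smul, smul_inv_smul]
      rw [e, smul_inv_smul] at h2
      exact h2.symm
  have hy : y ∈ {y | y ∈ F ∨ b⁻¹ • y ∈ F} := by rw [hU]; exact Set.mem_univ _
  exact hy

theorem MD.shape (D : MD K F α) (c : G) (hc : c • α ∉ F) (y : Ω) :
    c⁻¹ • y ∈ F ↔ (y ∈ F ∧ y ≠ α) ∨ y = c • α := by
  have hc' : c⁻¹ • α ∉ F := fun h => hc (D.symm c h)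
  constructor
  · intro hy
    by_cases hyc : y = c • α
    · exact Or.inr hyc
    left
    obtain ⟨b, hb⟩ := D.htrans (c⁻¹ • y)
    have hbF : b • α ∈ F := hb ▸ hy
    have hbne : b • α ≠ α := by
      intro h; apply hyc; rw [hb] at h; rw [← h, smul_inv_smul]
    have hyα : y ≠ α := by rintro rfl; exact hc' hy
    refine ⟨?_, hyα⟩
    rcases D.cover b hbF hbne (c⁻¹ • α) with h | h
    · exact absurd h hc'
    · have := D.symm (c * b) (by rw [mul_inv_rev, mul_smul]; exact h)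
      rw [mul_smul, hb, smul_inv_smul] at this
      exact this
  · rintro (⟨hyF, hyα⟩ | rfl)
    · obtain ⟨b, rfl⟩ := D.htrans y
      rcases D.cover b hyF hyα (c • α) with h | h
      · exact absurd h hc
      · have := D.symm (c⁻¹ * b) (by rw [mul_inv_rev, inv_inv, mul_smul]; exact h)
        rwa [mul_smul] at this
    · rw [inv_smul_smul]; exact D.alpha_mem

theorem MD.false [IsPreprimitive G Ω] (D : MD K F α) (β : Ω) (hβ : β ∈ F) (hβα : β ≠ α)
    (δ : Ω) (hδ : δ ∉ F) : False := by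
  have hblock : IsBlock G {x | x = α ∨ x ∉ F} := by
    rw [isBlock_iff_smul_eq_or_disjoint]
    intro g
    by_cases h1 : g • α = α
    · left
      ext y
      rw [Set.mem_smul_set_iff_inv_smul_mem]
      have h1' : g⁻¹ • α = α := by rw [inv_smul_eq_iff]; exact h1.symm
      show (g⁻¹ • y = α ∨ g⁻¹ • y ∉ F) ↔ (y = α ∨ y ∉ F)
      have e1 : g⁻¹ • y = α ↔ y = α := by rw [inv_smul_eq_iff, h1]
      have e2 : g⁻¹ • y ∈ F ↔ y ∈ F :=
        ⟨fun h => by have := D.F_inv h1 h; rwa [smul_inv_smul] at this, fun h => D.F_inv h1' h⟩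
      rw [e1, e2]
    · by_cases h2 : g • α ∈ F
      · right
        rw [Set.disjoint_left]
        intro y hy1 hy2
        rw [Set.mem_smul_set_iff_inv_smul_mem] at hy1
        have hcov := D.cover g h2 h1 y
        have hsym : g⁻¹ • α ∈ F := D.symm g⁻¹ (by rwa [inv_inv])
        rcases hy2 with rfl | hy2
        · rcases hy1 with hy1 | hy1
          · apply h1; rw [inv_smul_eq_iff] at hy1; exact hy1.symm
          · exact hy1 hsym
        · have h3 : g⁻¹ • y ∈ F := hcov.resolve_left hy2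
          rcases hy1 with hy1 | hy1
          · rw [inv_smul_eq_iff] at hy1; rw [hy1] at hy2; exact hy2 h2
          · exact hy1 h3
      · left
        ext y
        rw [Set.mem_smul_set_iff_inv_smul_mem]
        show (g⁻¹ • y = α ∨ g⁻¹ • y ∉ F) ↔ (y = α ∨ y ∉ F)
        rw [D.shape g h2 y, inv_smul_eq_iff]
        constructor
        · rintro (h | h)
          · right; rw [h]; exact h2
          · push Not at h
            by_cases hy : y ∈ F
            · left; exact h.1 hy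
            · right; exact hy
        · rintro (rfl | h)
          · right; push Not; exact ⟨fun _ => rfl, fun h => h1 h.symm⟩
          · by_cases hy : y = g • α
            · left; exact hy
            · right; push Not; exact ⟨fun h' => absurd h' h, hy⟩
  rcases hblock.subsingleton_or_eq_univ with h | h
  · have hα : α ∈ {x | x = α ∨ x ∉ F} := Or.inl rfl
    have hδB : δ ∈ {x | x = α ∨ x ∉ F} := Or.inr hδ
    have := h hα hδB
    exact hδ (this ▸ D.alpha_mem)
  · have : β ∈ {x | x = α ∨ x ∉ F} := by rw [h]; exact Set.mem_univ _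
    rcases this with h | h
    · exact hβα h
    · exact h hβ

theorem le_normalizer_of_conj {X : Subgroup G} {α : Ω}
    (h : ∀ h' : G, h' • α = α → ∀ x ∈ X, h' * x * h'⁻¹ ∈ X) :
    stabilizer G α ≤ Subgroup.normalizer (X : Set G) := by
  intro h' hh'
  rw [mem_stabilizer_iff] at hh'
  rw [Subgroup.mem_normalizer_iff]
  intro k
  constructor
  · exact h h' hh' k
  · intro hk
    have := h h'⁻¹ (by rw [inv_smul_eq_iff]; exact hh'.symm) _ hk
    simpa [mul_assoc] using this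

/-- Manning's Theorem on extremely primitive groups. Let a finite group G act faithfully and primitively on a finite set Ω with non-trivial point stabilizers, and suppose every point stabilizer G_α acts primitively on each of its orbits. Then G_α acts faithfully on each of its orbits other than {α}: an element of G_α fixing every point of one such orbit is the identity. -/
theorem result {G : Type*} [Group G] [Finite G] {Ω : Type*} [Fintype Ω] [MulAction G Ω] [FaithfulSMul G Ω] (hprim : MulAction.IsPreprimitive G Ω) (hH : ∀ α : Ω, MulAction.stabilizer G α ≠ ⊥) (hep : ∀ (α : Ω) (ω : Ω), MulAction.IsPreprimitive (MulAction.stabilizer G α) (MulAction.orbit (MulAction.stabilizer G α) ω))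
    (α ω : Ω) (hω : ω ≠ α) (h : MulAction.stabilizer G α) (hfix : ∀ x ∈ MulAction.orbit (MulAction.stabilizer G α) ω, h • x = x) : h = 1 := by
  by_contra hne
  haveI := hprim
  let K : Subgroup G :=
    { carrier := {g | g • α = α ∧ ∀ x ∈ orbit (stabilizer G α) ω, g • x = x}
      mul_mem' := by
        rintro a b ⟨ha, ha'⟩ ⟨hb, hb'⟩
        exact ⟨by rw [mul_smul, hb, ha], fun x hx => by rw [mul_smul, hb' x hx, ha' x hx]⟩
      one_mem' := ⟨one_smul _ _, fun x _ => one_smul _ _⟩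
      inv_mem' := by
        rintro a ⟨ha, ha'⟩
        exact ⟨by rw [inv_smul_eq_iff]; exact ha.symm,
          fun x hx => by rw [inv_smul_eq_iff]; exact (ha' x hx).symm⟩ }
  let F : Set Ω := {x | ∀ k ∈ K, k • x = x}
  have hhK : (h : G) ∈ K := ⟨h.2, hfix⟩
  have hh1 : (h : G) ≠ 1 := fun e => hne (Subtype.ext e)
  have hKbot : K ≠ ⊥ := fun e => hh1 (by
    have := hhK; rw [e, Subgroup.mem_bot] at this; exact this)
  have hKle : K ≤ stabilizer G α := fun k hk => hk.1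
  have horb : ∀ h' : G, h' • α = α → ∀ x ∈ orbit (stabilizer G α) ω,
      h' • x ∈ orbit (stabilizer G α) ω := by
    rintro h' hh' _ ⟨y, rfl⟩
    exact ⟨⟨h', hh'⟩ * y, mul_smul _ _ _⟩
  have hKn : ∀ h' : G, h' • α = α → ∀ k ∈ K, h' * k * h'⁻¹ ∈ K := by
    rintro h' hh' k ⟨hk, hk'⟩
    have hinv : h'⁻¹ • α = α := by rw [inv_smul_eq_iff]; exact hh'.symm
    refine ⟨by rw [mul_smul, mul_smul, hinv, hk, hh'], fun x hx => ?_⟩
    rw [mul_smul, mul_smul, hk' _ (horb _ hinv x hx), smul_inv_smul]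
  have hKnorm : stabilizer G α ≤ Subgroup.normalizer (K : Set G) := le_normalizer_of_conj hKn
  have D : MD K F α :=
    { hKH := fun k hk => hk.1
      hKn := hKn
      hF := fun x => Iff.rfl
      hKF := by
        intro g hg
        exact ⟨hg α (fun k hk => hk.1), fun x hx => hg x (fun k hk => hk.2 x hx)⟩
      hNK := by
        intro g hg
        by_contra hgα
        have hgn : g ∈ Subgroup.normalizer (K : Set G) :=
          Subgroup.mem_normalizer_fintype (fun n hn => hg n hn)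
        have hnormal := normal_of_normalizer α K hKnorm ⟨g, hgn, hgα⟩
        exact hKbot (normal_fix_eq_bot α K hnormal hKle)
      hP2 := by
        intro X hX hXn s
        have hXle : X ≤ stabilizer G α := fun x hx => hX x hx
        have hXnorm : stabilizer G α ≤ Subgroup.normalizer (X : Set G) :=
          le_normalizer_of_conj hXn
        rcases trivial_or_transitive α s (hep α s) X hXle hXnorm with h1 | h1
        · left
          intro x hx h' hh'
          exact h1 x hx _ ⟨⟨h', hh'⟩, rfl⟩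
        · right
          intro h' hh'
          exact h1 s (mem_orbit_self s) (h' • s) ⟨⟨h', hh'⟩, rfl⟩
      hGEN := fun S σ hS hσ h1 h2 => eq_univ_of_invariant α (hH α) S σ hS hσ h1 h2
      htrans := fun x => exists_smul_eq G α x }
  obtain ⟨δ, hδ⟩ : ∃ δ : Ω, (h : G) • δ ≠ δ := by
    by_contra hcon
    push Not at hcon
    apply hh1
    apply FaithfulSMul.eq_of_smul_eq_smul (α := Ω)
    intro x; rw [hcon x, one_smul]
  exact D.false ω (fun k hk => hk.2 ω (mem_orbit_self ω)) hω δ (fun hδF => hδ (hδF _ hhK))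

end Cfsg.Agent.S3494
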