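import Cfsg.Statements.S3493
import Cfsg.Agent.S3494
import Cfsg.Agent.Lib.Helper58_ExtPrim
import Cfsg.Agent.Lib.Helper58_PrimNormal
import Cfsg.Agent.Lib.Helper58_MinNormal
import Cfsg.Agent.Lib.Helper58_MinInv
import Cfsg.Agent.Lib.Helper58_Holomorph

set_option autoImplicit false
set_option linter.style.haveILetI false
open Cfsg

namespace Cfsg.Agent.S3493

open MulAction
open scoped Pointwise
open Cfsg.Agent.Lib.Helper58_ExtPrim Cfsg.Agent.Lib.Helper58_PrimNormal
open Cfsg.Agent.Lib.Helper58_MinInv Cfsg.Agent.Lib.Helper58_Holomorph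

variable {G : Type*} [Group G] {Ω : Type*} [MulAction G Ω]

/-- An element commuting with a subgroup that is transitive from `α`, and fixing `α`, is
trivial. -/
theorem eq_one_of_commute_fix [FaithfulSMul G Ω] {B : Subgroup G} (α : Ω) {a : G}
    (hc : ∀ b ∈ B, a * b = b * a) (hB : ∀ ω : Ω, ∃ b ∈ B, b • α = ω) (haα : a • α = α) :
    a = 1 := by
  apply FaithfulSMul.eq_of_smul_eq_smul (α := Ω)
  intro ω
  obtain ⟨b, hb, rfl⟩ := hB ω
  rw [one_smul, ← mul_smul, hc b hb, mul_smul, haα]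

/-- In a primitive group on at least two points without nontrivial abelian normal subgroups,
point stabilizers are nontrivial. -/
theorem stab_ne_bot [Fintype Ω] (hΩ : 2 ≤ Fintype.card Ω) [IsPreprimitive G Ω]
    (hnoab : ¬ ∃ N : Subgroup G, N.Normal ∧ N ≠ ⊥ ∧ ∀ a ∈ N, ∀ b ∈ N, a * b = b * a) (α : Ω) :
    stabilizer G α ≠ ⊥ := by
  intro hH
  apply hnoab
  haveI : Nontrivial Ω := Fintype.one_lt_card_iff_nontrivial.mp (by omega)
  have hco := IsPreprimitive.isCoatom_stabilizer_of_isPreprimitive (G := G) α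
  rw [hH] at hco
  obtain ⟨x, hx⟩ : ∃ x : G, x ≠ 1 := by
    by_contra hcon
    push Not at hcon
    apply hco.1
    rw [eq_top_iff]
    intro y _
    rw [Subgroup.mem_bot]
    exact hcon y
  have hz : Subgroup.zpowers x = ⊤ := by
    apply hco.2
    rw [bot_lt_iff_ne_bot]
    intro h
    have : x ∈ Subgroup.zpowers x := Subgroup.mem_zpowers x
    rw [h, Subgroup.mem_bot] at this
    exact hx this
  refine ⟨⊤, inferInstance, fun h => hco.1 h.symm, ?_⟩
  intro a _ b _
  have ha : a ∈ Subgroup.zpowers x := by rw [hz]; exact Subgroup.mem_top _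
  have hb : b ∈ Subgroup.zpowers x := by rw [hz]; exact Subgroup.mem_top _
  obtain ⟨i, rfl⟩ := Subgroup.mem_zpowers_iff.mp ha
  obtain ⟨j, rfl⟩ := Subgroup.mem_zpowers_iff.mp hb
  exact zpow_mul_comm x i j

/-- The affine alternative, from a nontrivial abelian normal subgroup. -/
theorem affine_case [FaithfulSMul G Ω] [IsPreprimitive G Ω] (N : Subgroup G) (hNn : N.Normal)
    (hN1 : N ≠ ⊥) (hc : ∀ a ∈ N, ∀ b ∈ N, a * b = b * a) :
    ∃ N : Subgroup G, N.Normal ∧ N ≠ ⊥ ∧ IsMulCommutative N ∧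
      ∀ ω : Ω, MulAction.stabilizer N ω = ⊥ := by
  haveI := hNn
  refine ⟨N, hNn, hN1, ⟨⟨fun a b => Subtype.ext (hc a a.2 b b.2)⟩⟩, fun ω => ?_⟩
  rw [eq_bot_iff]
  intro n hn
  rw [Subgroup.mem_bot]
  rw [mem_stabilizer_iff] at hn
  apply Subtype.ext
  exact abelian_semiregular N hN1 hc n.1 n.2 ω hn

/-- The case where the minimal normal subgroup `N` has no proper nontrivial `N`-invariant
subgroup (so `N` is simple). -/
theorem case_normal [Finite G] [FaithfulSMul G Ω] [IsPreprimitive G Ω]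
    (hnoab : ¬ ∃ N : Subgroup G, N.Normal ∧ N ≠ ⊥ ∧ ∀ a ∈ N, ∀ b ∈ N, a * b = b * a) (α : Ω)
    (hH : stabilizer G α ≠ ⊥)
    (hep : ∀ ω : Ω, IsPreprimitive (stabilizer G α) (orbit (stabilizer G α) ω))
    (N : Subgroup G) [hNn : N.Normal] (hN1 : N ≠ ⊥)
    (hsimple : ∀ B : Subgroup G, B ≤ N → (∀ n ∈ N, ∀ x ∈ B, n * x * n⁻¹ ∈ B) → B = ⊥ ∨ B = N) :
    ∃ T : Subgroup G, T.Normal ∧ IsSimpleGroup T ∧ ¬ IsMulCommutative T ∧
      Subgroup.centralizer (T : Set G) = ⊥ := by
  haveI : Nontrivial N := (Subgroup.nontrivial_iff_ne_bot N).mpr hN1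
  have hsimp : IsSimpleGroup N := by
    refine IsSimpleGroup.mk (fun B hB => ?_)
    have hle : B.map N.subtype ≤ N := Subgroup.map_subtype_le B
    have hinv : ∀ n ∈ N, ∀ x ∈ B.map N.subtype, n * x * n⁻¹ ∈ B.map N.subtype := by
      intro n hn x hx
      obtain ⟨y, hy, rfl⟩ := Subgroup.mem_map.mp hx
      exact Subgroup.mem_map.mpr ⟨⟨n, hn⟩ * y * ⟨n, hn⟩⁻¹, hB.conj_mem y hy ⟨n, hn⟩, rfl⟩
    rcases hsimple _ hle hinv with h | h
    · left
      exact (Subgroup.map_eq_bot_iff_of_injective B N.subtype_injective).mp h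
    · right
      rw [eq_top_iff]
      intro y _
      have : (y : G) ∈ B.map N.subtype := by rw [h]; exact y.2
      obtain ⟨z, hz, hzy⟩ := Subgroup.mem_map.mp this
      have : z = y := Subtype.ext hzy
      rw [← this]; exact hz
  have hnc : ∃ a ∈ N, ∃ b ∈ N, a * b ≠ b * a := by
    by_contra hcon
    push Not at hcon
    exact hnoab ⟨N, hNn, hN1, hcon⟩
  refine ⟨N, hNn, hsimp, ?_, ?_⟩
  · intro hcomm
    obtain ⟨a, ha, b, hb, hab⟩ := hnc
    exact hab (congrArg Subtype.val (hcomm.is_comm.comm ⟨a, ha⟩ ⟨b, hb⟩))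
  · by_contra hC
    exfalso
    haveI : (Subgroup.centralizer (N : Set G)).Normal := Subgroup.normal_centralizer
    have hcomm : ∀ a ∈ N, ∀ b ∈ Subgroup.centralizer (N : Set G), a * b = b * a :=
      fun a ha b hb => Subgroup.mem_centralizer_iff.mp hb a ha
    have htr1 : ∀ ω : Ω, ∃ t ∈ N, t • α = ω := fun ω => normal_transitive N hN1 α ω
    have htr2 : ∀ ω : Ω, ∃ t ∈ Subgroup.centralizer (N : Set G), t • α = ω :=
      fun ω => normal_transitive _ hC α ω
    have D : Holo α N (Subgroup.centralizer (N : Set G)) :=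
      { trans₁ := htr1
        trans₂ := htr2
        free₁ := fun t ht h => eq_one_of_commute_fix α (fun b hb => hcomm t ht b hb) htr2 h
        free₂ := fun t ht h =>
          eq_one_of_commute_fix α (fun b hb => (hcomm b hb t ht).symm) htr1 h
        comm := hcomm
        perm := fun h => Or.inl ⟨fun t ht => hNn.conj_mem t ht h,
          fun t ht => (inferInstance : (Subgroup.centralizer (N : Set G)).Normal).conj_mem t ht h⟩ }
    haveI := hsimp
    exact D.false_of_simple hH hep hnc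

/-- `conj k • X = X` in terms of the normalizer. -/
theorem conj_smul_eq_iff {X : Subgroup G} {k : G} :
    MulAut.conj k • X = X ↔ k ∈ Subgroup.normalizer (X : Set G) := by
  rw [Subgroup.mem_normalizer_iff]
  constructor
  · intro h x
    constructor
    · intro hx
      rw [← h]; exact conj_mem_conj_smul hx
    · intro hx
      rw [← h, mem_conj_smul] at hx
      convert hx using 1; group
  · intro h
    ext x
    rw [mem_conj_smul, h (k⁻¹ * x * k)]
    constructor
    · intro hx; convert hx using 1; group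
    · intro hx; convert hx using 1; group

/-- The regular case with at least two "factors" is impossible. -/
theorem case_regular [Finite G] [FaithfulSMul G Ω] [IsPreprimitive G Ω]
    (hnoab : ¬ ∃ N : Subgroup G, N.Normal ∧ N ≠ ⊥ ∧ ∀ a ∈ N, ∀ b ∈ N, a * b = b * a) (α : Ω)
    (hH : stabilizer G α ≠ ⊥)
    (hep : ∀ ω : Ω, IsPreprimitive (stabilizer G α) (orbit (stabilizer G α) ω))
    (N : Subgroup G) [hNn : N.Normal] (hN1 : N ≠ ⊥) (T₁ : Subgroup G) (hT : IsMinInv N T₁)
    (hg : ∃ g : G, MulAut.conj g • T₁ ≠ T₁) (hreg : N ⊓ stabilizer G α = ⊥) : False := by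
  have hNt : ∀ ω ω' : Ω, ∃ n ∈ N, n • ω = ω' := fun ω ω' => normal_transitive N hN1 ω ω'
  -- N acts freely at α
  have hfree : ∀ n ∈ N, n • α = α → n = 1 := by
    intro n hn hnα
    have : n ∈ N ⊓ stabilizer G α := Subgroup.mem_inf.mpr ⟨hn, hnα⟩
    rw [hreg, Subgroup.mem_bot] at this
    exact this
  have hinj : ∀ n ∈ N, ∀ n' ∈ N, n • α = n' • α → n = n' := by
    intro n hn n' hn' h
    have h1 : (n'⁻¹ * n) • α = α := by rw [mul_smul, h, inv_smul_smul]
    have := hfree _ (N.mul_mem (N.inv_mem hn') hn) h1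
    calc n = n' * (n'⁻¹ * n) := by group
      _ = n' := by rw [this, mul_one]
  -- an element of the stabilizer moving T₁
  have hex : ∃ h : G, h • α = α ∧ MulAut.conj h • T₁ ≠ T₁ := by
    obtain ⟨g, hg⟩ := hg
    obtain ⟨n, hn, hnα⟩ := hNt α (g • α)
    refine ⟨n⁻¹ * g, by rw [mul_smul, ← hnα, inv_smul_smul], ?_⟩
    intro h
    apply hg
    ext x
    rw [mem_conj_smul]
    constructor
    · intro hx
      have h1 : n⁻¹ * x * n ∈ MulAut.conj (n⁻¹ * g) • T₁ := by
        rw [mem_conj_smul]; convert hx using 1; group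
      rw [h] at h1
      have h2 := hT.inv n hn _ h1
      convert h2 using 1; group
    · intro hx
      have h1 : n⁻¹ * x * n ∈ T₁ := by
        have := hT.inv n⁻¹ (N.inv_mem hn) x hx
        convert this using 1; group
      rw [← h, mem_conj_smul] at h1
      convert h1 using 1; group
  -- elements of the stabilizer normalizing T₁ centralize it
  have hcent : ∀ k : G, k • α = α → MulAut.conj k • T₁ = T₁ → ∀ t' ∈ T₁, k * t' * k⁻¹ = t' := by
    intro k hkα hk t' ht'
    by_cases ht'1 : t' = 1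
    · rw [ht'1]; group
    have hβ : t' • α ≠ α := fun h => ht'1 (hfree t' (hT.le ht') h)
    have hconjfix : ∀ h : G, h • α = α → h • (t' • α) = t' • α → h * t' * h⁻¹ = t' := by
      intro h hα hfix
      have hinv : h⁻¹ • α = α := by rw [inv_smul_eq_iff, hα]
      apply hinj _ (hNn.conj_mem t' (hT.le ht') h) _ (hT.le ht')
      rw [mul_smul, mul_smul, hinv, hfix]
    have hL1 : stabilizer G α ⊓ stabilizer G (t' • α) ≤
        stabilizer G α ⊓ Subgroup.normalizer (T₁ : Set G) := by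
      intro h hh
      obtain ⟨h1, h2⟩ := Subgroup.mem_inf.mp hh
      refine Subgroup.mem_inf.mpr ⟨h1, ?_⟩
      rw [← conj_smul_eq_iff]
      apply (hT.conj h).eq_of_inf_ne_bot hT
      intro hbot
      have hmem : t' ∈ MulAut.conj h • T₁ ⊓ T₁ := by
        refine Subgroup.mem_inf.mpr ⟨?_, ht'⟩
        have := conj_mem_conj_smul (g := h) ht'
        rwa [hconjfix h h1 h2] at this
      rw [hbot, Subgroup.mem_bot] at hmem
      exact ht'1 hmem
    have hnt : ∃ h : G, h • α = α ∧ h • (t' • α) ≠ t' • α := by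
      by_contra hcon
      push Not at hcon
      exact hβ (fixes_only α hH _ hcon)
    rcases stab_maximal α (t' • α) (hep _) hnt _ hL1 inf_le_left with h | h
    · have hk' : k ∈ stabilizer G α ⊓ Subgroup.normalizer (T₁ : Set G) :=
        Subgroup.mem_inf.mpr ⟨hkα, conj_smul_eq_iff.mp hk⟩
      rw [h] at hk'
      exact hconjfix k hkα (Subgroup.mem_inf.mp hk').2
    · exfalso
      obtain ⟨h', h'α, h'T⟩ := hex
      apply h'T
      rw [conj_smul_eq_iff]
      have : h' ∈ stabilizer G α ⊓ Subgroup.normalizer (T₁ : Set G) := by rw [h]; exact h'α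
      exact (Subgroup.mem_inf.mp this).2
  -- a nontrivial element of T₁
  obtain ⟨t, ht, ht1⟩ : ∃ t ∈ T₁, t ≠ 1 := by
    by_contra hcon
    push Not at hcon
    apply hT.ne_bot
    rw [eq_bot_iff]
    intro x hx
    rw [Subgroup.mem_bot]; exact hcon x hx
  set S : Set G := {x | ∃ h : G, h • α = α ∧ x = h * t * h⁻¹} with hS
  have hScomm : ∀ x ∈ S, ∀ y ∈ S, x * y = y * x := by
    rintro x ⟨h, hα, rfl⟩ y ⟨h', h'α, rfl⟩
    by_cases hXY : MulAut.conj h • T₁ = MulAut.conj h' • T₁
    · have hk : MulAut.conj (h'⁻¹ * h) • T₁ = T₁ := by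
        ext x
        rw [mem_conj_smul]
        constructor
        · intro hx
          have h1 : h' * x * h'⁻¹ ∈ MulAut.conj h • T₁ := by
            rw [mem_conj_smul]; convert hx using 1; group
          rw [hXY, mem_conj_smul] at h1
          convert h1 using 1; group
        · intro hx
          have h1 : h' * x * h'⁻¹ ∈ MulAut.conj h' • T₁ := conj_mem_conj_smul hx
          rw [← hXY, mem_conj_smul] at h1
          convert h1 using 1; group
      have hkα : (h'⁻¹ * h) • α = α := by rw [mul_smul, hα, inv_smul_eq_iff, h'α]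
      have e := hcent _ hkα hk t ht
      have : h * t * h⁻¹ = h' * t * h'⁻¹ := by
        calc h * t * h⁻¹ = h' * ((h'⁻¹ * h) * t * (h'⁻¹ * h)⁻¹) * h'⁻¹ := by group
          _ = h' * t * h'⁻¹ := by rw [e]
      rw [this]
    · exact (hT.conj h).commute (hT.conj h') hXY _ (conj_mem_conj_smul ht) _
        (conj_mem_conj_smul ht)
  set M : Subgroup G := Subgroup.closure S with hM
  have hMS : ∀ m ∈ M, ∀ s ∈ S, s * m = m * s := by
    intro m hm s hs
    induction hm using Subgroup.closure_induction with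
    | mem x hx => exact hScomm s hs x hx
    | one => simp
    | mul x y _ _ ihx ihy => rw [← mul_assoc, ihx, mul_assoc, ihy, mul_assoc]
    | inv x _ ih =>
      calc s * x⁻¹ = x⁻¹ * (x * s) * x⁻¹ := by group
        _ = x⁻¹ * (s * x) * x⁻¹ := by rw [ih]
        _ = x⁻¹ * s := by group
  have hMcomm : ∀ a ∈ M, ∀ b ∈ M, a * b = b * a := by
    intro a ha b hb
    induction ha using Subgroup.closure_induction with
    | mem x hx => exact hMS b hb x hx
    | one => simp
    | mul x y _ _ ihx ihy => rw [mul_assoc, ihy, ← mul_assoc, ihx, mul_assoc]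
    | inv x _ ih =>
      calc x⁻¹ * b = x⁻¹ * (b * x) * x⁻¹ := by group
        _ = x⁻¹ * (x * b) * x⁻¹ := by rw [ih]
        _ = b * x⁻¹ := by group
  have hMN : M ≤ N := by
    rw [hM, Subgroup.closure_le]
    rintro x ⟨h, -, rfl⟩
    exact hNn.conj_mem t (hT.le ht) h
  have hMinv : ∀ h : G, h • α = α → ∀ m ∈ M, h * m * h⁻¹ ∈ M := by
    intro h hα m hm
    induction hm using Subgroup.closure_induction with
    | mem x hx =>
      obtain ⟨h', h'α, rfl⟩ := hx
      apply Subgroup.subset_closure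
      refine ⟨h * h', by rw [mul_smul, h'α, hα], by group⟩
    | one => simp
    | mul x y _ _ ihx ihy =>
      have := M.mul_mem ihx ihy
      convert this using 1; group
    | inv x _ ih =>
      have := M.inv_mem ih
      convert this using 1; group
  have htM : t ∈ M := Subgroup.subset_closure ⟨1, one_smul _ _, by group⟩
  -- the orbit of α under M is everything
  have hB : {ω : Ω | ∃ m ∈ M, m • α = ω} = Set.univ := by
    apply eq_univ_of_invariant α hH {ω : Ω | ∃ m ∈ M, m • α = ω} (t • α)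
      ⟨α, 1, M.one_mem, one_smul _ _⟩ (fun h => ht1 (hfree t (hT.le ht) h))
    · rintro h hα _ ⟨m, hm, rfl⟩
      have hinv : h⁻¹ • α = α := by rw [inv_smul_eq_iff, hα]
      exact ⟨h * m * h⁻¹, hMinv h hα m hm, by rw [mul_smul, mul_smul, hinv]⟩
    · rintro h hσ _ ⟨m, hm, rfl⟩
      have hkα : (t⁻¹ * h * t) • α = α := by
        rw [mul_smul, mul_smul, hσ, inv_smul_smul]
      have hkinv : (t⁻¹ * h * t)⁻¹ • α = α := by rw [inv_smul_eq_iff, hkα]
      have h1 := hMinv _ hkα (t⁻¹ * m) (M.mul_mem (M.inv_mem htM) hm)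
      refine ⟨t * ((t⁻¹ * h * t) * (t⁻¹ * m) * (t⁻¹ * h * t)⁻¹), M.mul_mem htM h1, ?_⟩
      have e : t * ((t⁻¹ * h * t) * (t⁻¹ * m) * (t⁻¹ * h * t)⁻¹) =
          h * m * (t⁻¹ * h * t)⁻¹ := by group
      rw [e, mul_smul, mul_smul, hkinv]
  apply hnoab
  refine ⟨N, hNn, hN1, ?_⟩
  have hNM : N ≤ M := by
    intro n hn
    have : n • α ∈ {ω : Ω | ∃ m ∈ M, m • α = ω} := by rw [hB]; exact Set.mem_univ _
    obtain ⟨m, hm, hmα⟩ := this
    rw [← hinj m (hMN hm) n hn hmα]
    exact hm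
  exact fun a ha b hb => hMcomm a (hNM ha) b (hNM hb)

/-- The non-regular case with at least two "factors" is impossible. -/
theorem case_nonregular [Finite G] [Fintype Ω] [FaithfulSMul G Ω] (hprim : IsPreprimitive G Ω)
    (hnoab : ¬ ∃ N : Subgroup G, N.Normal ∧ N ≠ ⊥ ∧ ∀ a ∈ N, ∀ b ∈ N, a * b = b * a) (α : Ω)
    (hHall : ∀ α' : Ω, stabilizer G α' ≠ ⊥)
    (hep : ∀ (α ω : Ω), IsPreprimitive (stabilizer G α) (orbit (stabilizer G α) ω))
    (N : Subgroup G) [hNn : N.Normal] (hN1 : N ≠ ⊥)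
    (hNmin : ∀ B : Subgroup G, B.Normal → B ≤ N → B = ⊥ ∨ B = N)
    (T₁ : Subgroup G) (hT : IsMinInv N T₁)
    (hg : ∃ g : G, MulAut.conj g • T₁ ≠ T₁) (hnreg : N ⊓ stabilizer G α ≠ ⊥) : False := by
  haveI := hprim
  have hH := hHall α
  have hNt : ∀ ω ω' : Ω, ∃ n ∈ N, n • ω = ω' := fun ω ω' => normal_transitive N hN1 ω ω'
  -- (n1) N ⊓ H is transitive on the nontrivial orbits of H
  have hD₀ : ∀ β : Ω, β ≠ α → ∀ h : G, h • α = α →
      ∃ x ∈ N ⊓ stabilizer G α, x • β = h • β := by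
    intro β hβ h hα
    have hnorm : stabilizer G α ≤ Subgroup.normalizer ((N ⊓ stabilizer G α : Subgroup G) : Set G) := by
      intro k hk
      rw [Subgroup.mem_normalizer_iff]
      intro x
      constructor
      · intro hx
        obtain ⟨hx1, hx2⟩ := Subgroup.mem_inf.mp hx
        exact Subgroup.mem_inf.mpr ⟨hNn.conj_mem x hx1 k,
          (stabilizer G α).mul_mem ((stabilizer G α).mul_mem hk hx2) ((stabilizer G α).inv_mem hk)⟩
      · intro hx
        obtain ⟨hx1, hx2⟩ := Subgroup.mem_inf.mp hx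
        refine Subgroup.mem_inf.mpr ⟨?_, ?_⟩
        · have := hNn.conj_mem _ hx1 k⁻¹
          convert this using 1; group
        · have := (stabilizer G α).mul_mem ((stabilizer G α).mul_mem
            ((stabilizer G α).inv_mem hk) hx2) hk
          convert this using 1; group
    rcases trivial_or_transitive α β (hep α β) (N ⊓ stabilizer G α) inf_le_right hnorm with h1 | h1
    · exfalso
      apply hnreg
      rw [eq_bot_iff]
      intro x hx
      rw [Subgroup.mem_bot]
      have hxH : x ∈ stabilizer G α := (Subgroup.mem_inf.mp hx).2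
      have := Cfsg.Agent.S3494.result hprim hHall hep α β hβ ⟨x, hxH⟩
        (fun s hs => h1 x hx s hs)
      exact congrArg Subtype.val this
    · exact h1 β (mem_orbit_self β) (h • β) ⟨⟨h, hα⟩, rfl⟩
  -- (n2) T₁ is transitive
  have hT₁ne : ∃ t₀ ∈ T₁, t₀ • α ≠ α := by
    by_contra hcon
    push Not at hcon
    apply hT.ne_bot
    rw [eq_bot_iff]
    intro t ht
    rw [Subgroup.mem_bot]
    apply FaithfulSMul.eq_of_smul_eq_smul (α := Ω)
    intro ω
    obtain ⟨n, hn, rfl⟩ := hNt α ω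
    have h1 : n⁻¹ * t * n⁻¹⁻¹ ∈ T₁ := hT.inv n⁻¹ (N.inv_mem hn) t ht
    have h2 := hcon _ h1
    rw [one_smul]
    calc t • n • α = n • (n⁻¹ * t * n⁻¹⁻¹) • α := by
          rw [← mul_smul, ← mul_smul]; congr 1; group
      _ = n • α := by rw [h2]
  obtain ⟨t₀, ht₀, ht₀α⟩ := hT₁ne
  have hΓH : ∀ h : G, h • α = α → ∀ s ∈ {ω : Ω | ∃ t ∈ T₁, t • α = ω},
      h • s ∈ {ω : Ω | ∃ t ∈ T₁, t • α = ω} := by
    rintro h hα _ ⟨t, ht, rfl⟩
    by_cases hβ : t • α = α
    · rw [hβ, hα]; exact ⟨1, T₁.one_mem, one_smul _ _⟩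
    · obtain ⟨x, hx, hxβ⟩ := hD₀ _ hβ h hα
      obtain ⟨hxN, hxα⟩ := Subgroup.mem_inf.mp hx
      have hxinv : x⁻¹ • α = α := by rw [inv_smul_eq_iff]; exact hxα.symm
      refine ⟨x * t * x⁻¹, hT.inv x hxN t ht, ?_⟩
      rw [← hxβ, mul_smul, mul_smul, hxinv]
  have hΓ : {ω : Ω | ∃ t ∈ T₁, t • α = ω} = Set.univ := by
    apply eq_univ_of_invariant α hH {ω : Ω | ∃ t ∈ T₁, t • α = ω} (t₀ • α)
      ⟨α, 1, T₁.one_mem, one_smul _ _⟩ ht₀α hΓH
    rintro h hσ _ ⟨t, ht, rfl⟩
    have hkα : (t₀⁻¹ * h * t₀) • α = α := by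
      rw [mul_smul, mul_smul, hσ, inv_smul_smul]
    obtain ⟨t', ht', ht'α⟩ := hΓH _ hkα ((t₀⁻¹ * t) • α) ⟨t₀⁻¹ * t, T₁.mul_mem (T₁.inv_mem ht₀) ht, rfl⟩
    refine ⟨t₀ * t', T₁.mul_mem ht₀ ht', ?_⟩
    rw [mul_smul, ht'α]
    simp only [← mul_smul]
    congr 1; group
  have htr₁ : ∀ ω : Ω, ∃ t ∈ T₁, t • α = ω := by
    intro ω
    have : ω ∈ {ω : Ω | ∃ t ∈ T₁, t • α = ω} := by rw [hΓ]; exact Set.mem_univ _
    exact this
  -- conjugates of transitive subgroups are transitive
  have htrconj : ∀ (X : Subgroup G), (∀ ω : Ω, ∃ t ∈ X, t • α = ω) → ∀ k : G,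
      ∀ ω : Ω, ∃ t ∈ MulAut.conj k • X, t • α = ω := by
    intro X hX k ω
    obtain ⟨a, ha, haα⟩ := hX (k⁻¹ • α)
    obtain ⟨b, hb, hbα⟩ := hX (k⁻¹ • ω)
    refine ⟨k * (b * a⁻¹) * k⁻¹, conj_mem_conj_smul (X.mul_mem hb (X.inv_mem ha)), ?_⟩
    rw [mul_smul, mul_smul, mul_smul, ← haα, inv_smul_smul, hbα, smul_inv_smul]
  obtain ⟨g, hg⟩ := hg
  set T₂ : Subgroup G := MulAut.conj g • T₁ with hT₂def
  have hT₂ : IsMinInv N T₂ := hT.conj g
  have htr₂ : ∀ ω : Ω, ∃ t ∈ T₂, t • α = ω := htrconj T₁ htr₁ g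
  have hcomm : ∀ a ∈ T₁, ∀ b ∈ T₂, a * b = b * a := hT.commute hT₂ (Ne.symm hg)
  -- (n5) a transitive minimal invariant subgroup different from A equals B
  have hdich : ∀ A B : Subgroup G, IsMinInv N A → IsMinInv N B →
      (∀ ω : Ω, ∃ t ∈ A, t • α = ω) → (∀ ω : Ω, ∃ t ∈ B, t • α = ω) →
      (∀ a ∈ A, ∀ b ∈ B, a * b = b * a) →
      ∀ X : Subgroup G, IsMinInv N X → X ≠ A → X = B := by
    intro A B hA hB htrA htrB hAB X hX hXA
    have hXcomm := hX.commute hA hXA
    have hle : X ≤ B := by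
      intro x hx
      obtain ⟨s, hs, hsα⟩ := htrB (x • α)
      have h1 : s⁻¹ * x = 1 := by
        apply eq_one_of_commute_fix (B := A) α _ htrA
        · rw [mul_smul, ← hsα, inv_smul_smul]
        · intro a ha
          have e1 := hXcomm x hx a ha
          have e2 := hAB a ha s hs
          calc s⁻¹ * x * a = s⁻¹ * (x * a) := by group
            _ = s⁻¹ * (a * x) := by rw [e1]
            _ = s⁻¹ * (a * s) * s⁻¹ * x := by group
            _ = s⁻¹ * (s * a) * s⁻¹ * x := by rw [e2]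
            _ = a * (s⁻¹ * x) := by group
      have : x = s := by
        calc x = s * (s⁻¹ * x) := by group
          _ = s := by rw [h1, mul_one]
      rw [this]; exact hs
    apply hX.eq_of_inf_ne_bot hB
    rw [inf_eq_left.mpr hle]
    exact hX.ne_bot
  have hcomm' : ∀ a ∈ T₂, ∀ b ∈ T₁, a * b = b * a := fun a ha b hb => (hcomm b hb a ha).symm
  -- (n6) every element of G fixes or swaps T₁, T₂
  have hperm : ∀ k : G,
      ((∀ t ∈ T₁, k * t * k⁻¹ ∈ T₁) ∧ (∀ t ∈ T₂, k * t * k⁻¹ ∈ T₂)) ∨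
      ((∀ t ∈ T₁, k * t * k⁻¹ ∈ T₂) ∧ (∀ t ∈ T₂, k * t * k⁻¹ ∈ T₁)) := by
    intro k
    have hXY : MulAut.conj k • T₁ ≠ MulAut.conj k • T₂ := by
      intro h
      apply hg
      ext x
      constructor
      · intro hx
        have h1 : k * x * k⁻¹ ∈ MulAut.conj k • T₂ := conj_mem_conj_smul hx
        rw [← h, mem_conj_smul] at h1
        convert h1 using 1; group
      · intro hx
        have h1 : k * x * k⁻¹ ∈ MulAut.conj k • T₁ := conj_mem_conj_smul hx
        rw [h, mem_conj_smul] at h1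
        convert h1 using 1; group
    by_cases hX : MulAut.conj k • T₁ = T₁
    · left
      have hY : MulAut.conj k • T₂ = T₂ :=
        hdich T₁ T₂ hT hT₂ htr₁ htr₂ hcomm _ (hT₂.conj k) (fun h => hXY (hX.trans h.symm))
      refine ⟨fun t ht => ?_, fun t ht => ?_⟩
      · rw [← hX]; exact conj_mem_conj_smul ht
      · rw [← hY]; exact conj_mem_conj_smul ht
    · right
      have hX' : MulAut.conj k • T₁ = T₂ :=
        hdich T₁ T₂ hT hT₂ htr₁ htr₂ hcomm _ (hT.conj k) hX
      have hY : MulAut.conj k • T₂ = T₁ :=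
        hdich T₂ T₁ hT₂ hT htr₂ htr₁ hcomm' _ (hT₂.conj k) (fun h => hXY (hX'.trans h.symm))
      refine ⟨fun t ht => ?_, fun t ht => ?_⟩
      · rw [← hX']; exact conj_mem_conj_smul ht
      · rw [← hY]; exact conj_mem_conj_smul ht
  have D : Holo α T₁ T₂ :=
    { trans₁ := htr₁
      trans₂ := htr₂
      free₁ := fun t ht h => eq_one_of_commute_fix α (fun b hb => hcomm t ht b hb) htr₂ h
      free₂ := fun t ht h => eq_one_of_commute_fix α (fun b hb => hcomm' t ht b hb) htr₁ h
      comm := hcomm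
      perm := hperm }
  -- (n9) N = T₁ T₂
  have hPN : D.prodSub = N := by
    have hle : D.prodSub ≤ N := by
      rintro _ ⟨a, ha, b, hb, rfl⟩
      exact N.mul_mem (hT.le ha) (hT₂.le hb)
    rcases hNmin _ D.prodSub_normal hle with h | h
    · exfalso
      apply hT.ne_bot
      rw [eq_bot_iff]
      exact D.le_prodSub.trans (le_of_eq h)
    · exact h
  -- (n10) T₁ is simple
  haveI : Nontrivial T₁ := (Subgroup.nontrivial_iff_ne_bot T₁).mpr hT.ne_bot
  have hsimp : IsSimpleGroup T₁ := by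
    refine IsSimpleGroup.mk (fun B hB => ?_)
    have hle : B.map T₁.subtype ≤ T₁ := Subgroup.map_subtype_le B
    have hinv : ∀ n ∈ N, ∀ x ∈ B.map T₁.subtype, n * x * n⁻¹ ∈ B.map T₁.subtype := by
      intro n hn x hx
      rw [← hPN] at hn
      obtain ⟨a, ha, b, hb, rfl⟩ := hn
      obtain ⟨y, hy, rfl⟩ := Subgroup.mem_map.mp hx
      refine Subgroup.mem_map.mpr ⟨⟨a, ha⟩ * y * ⟨a, ha⟩⁻¹, hB.conj_mem y hy ⟨a, ha⟩, ?_⟩
      have e := hcomm (y : G) y.2 b hb
      show a * (y : G) * a⁻¹ = a * b * (y : G) * (a * b)⁻¹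
      calc a * (y : G) * a⁻¹ = a * ((y : G) * b) * b⁻¹ * a⁻¹ := by group
        _ = a * (b * (y : G)) * b⁻¹ * a⁻¹ := by rw [e]
        _ = a * b * (y : G) * (a * b)⁻¹ := by group
    rcases hT.min _ hle hinv with h | h
    · left
      exact (Subgroup.map_eq_bot_iff_of_injective B T₁.subtype_injective).mp h
    · right
      rw [eq_top_iff]
      intro y _
      have : (y : G) ∈ B.map T₁.subtype := by rw [h]; exact y.2
      obtain ⟨z, hz, hzy⟩ := Subgroup.mem_map.mp this
      have : z = y := Subtype.ext hzy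
      rw [← this]; exact hz
  -- (n11) T₁ is nonabelian
  have hnc : ∃ a ∈ T₁, ∃ b ∈ T₁, a * b ≠ b * a := by
    by_contra hcon
    push Not at hcon
    have hcon₂ : ∀ a ∈ T₂, ∀ b ∈ T₂, a * b = b * a := by
      intro a ha b hb
      rw [hT₂def, mem_conj_smul] at ha hb
      have := hcon _ ha _ hb
      calc a * b = g * ((g⁻¹ * a * g) * (g⁻¹ * b * g)) * g⁻¹ := by group
        _ = g * ((g⁻¹ * b * g) * (g⁻¹ * a * g)) * g⁻¹ := by rw [this]
        _ = b * a := by group
    apply hnoab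
    refine ⟨N, hNn, hN1, ?_⟩
    intro x hx y hy
    rw [← hPN] at hx hy
    obtain ⟨a, ha, b, hb, rfl⟩ := hx
    obtain ⟨a', ha', b', hb', rfl⟩ := hy
    have e1 := hcomm a' ha' b hb
    have e2 := hcomm a ha b' hb'
    have e3 := hcon a ha a' ha'
    have e4 := hcon₂ b hb b' hb'
    calc a * b * (a' * b') = a * (b * a') * b' := by group
      _ = a * (a' * b) * b' := by rw [e1]
      _ = (a * a') * (b * b') := by group
      _ = (a' * a) * (b' * b) := by rw [e3, e4]
      _ = a' * (a * b') * b := by group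
      _ = a' * (b' * a) * b := by rw [e2]
      _ = a' * b' * (a * b) := by group
  haveI := hsimp
  exact D.false_of_simple hH (hep α) hnc

/-- An extremely primitive permutation group is of affine type or almost simple. Let a finite group G act faithfully and primitively on a finite set Ω with at least two points, in such a way that every point stabilizer acts primitively on each of its own orbits in Ω (an orbit of size one counts as primitive). Then either G has a non-trivial abelian normal subgroup whose elements other than the identity fix no point (affine type), or G has a non-abelian simple normal subgroup with trivial centralizer (almost simple). -/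
theorem result {G : Type*} [Group G] [Finite G] {Ω : Type*} [Fintype Ω] [MulAction G Ω] [FaithfulSMul G Ω] (hΩ : 2 ≤ Fintype.card Ω) (hprim : MulAction.IsPreprimitive G Ω) (hep : ∀ (α : Ω) (ω : Ω), MulAction.IsPreprimitive (MulAction.stabilizer G α) (MulAction.orbit (MulAction.stabilizer G α) ω)) :
    (∃ N : Subgroup G, N.Normal ∧ N ≠ ⊥ ∧ IsMulCommutative N ∧ ∀ ω : Ω, MulAction.stabilizer N ω = ⊥) ∨ (∃ T : Subgroup G, T.Normal ∧ IsSimpleGroup T ∧ ¬ IsMulCommutative T ∧ Subgroup.centralizer (T : Set G) = ⊥) := by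
  classical
  haveI := hprim
  by_cases hab : ∃ N : Subgroup G, N.Normal ∧ N ≠ ⊥ ∧ ∀ a ∈ N, ∀ b ∈ N, a * b = b * a
  · left
    obtain ⟨N, hNn, hN1, hc⟩ := hab
    exact affine_case N hNn hN1 hc
  right
  have hΩpos : 0 < Fintype.card Ω := by omega
  obtain ⟨α⟩ : Nonempty Ω := Fintype.card_pos_iff.mp hΩpos
  have hHall : ∀ α' : Ω, stabilizer G α' ≠ ⊥ := fun α' => stab_ne_bot hΩ hab α'
  have hGnt : Nontrivial G := by
    by_contra h
    rw [not_nontrivial_iff_subsingleton] at h
    exact hHall α (Subsingleton.elim _ _)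
  obtain ⟨N, hNn, hN1, hNmin⟩ : ∃ N : Subgroup G, N.Normal ∧ N ≠ ⊥ ∧
      ∀ B : Subgroup G, B.Normal → B ≤ N → B = ⊥ ∨ B = N := by
    by_cases hs : IsSimpleGroup G
    · exact ⟨⊤, inferInstance, top_ne_bot, fun B hB _ => hB.eq_bot_or_eq_top⟩
    · obtain ⟨N, h1, h2, -, h4⟩ := Cfsg.Agent.Lib.Helper58_MinNormal.exists_minimal_normal hs
      exact ⟨N, h1, h2, h4⟩
  haveI := hNn
  obtain ⟨T₁, hT⟩ := exists_isMinInv N hN1
  by_cases hg : ∃ g : G, MulAut.conj g • T₁ ≠ T₁
  · exfalso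
    by_cases hreg : N ⊓ stabilizer G α = ⊥
    · exact case_regular hab α (hHall α) (hep α) N hN1 T₁ hT hg hreg
    · exact case_nonregular hprim hab α hHall hep N hN1 hNmin T₁ hT hg hreg
  · push Not at hg
    have hTn : T₁.Normal := ⟨fun t ht g => by rw [← hg g]; exact conj_mem_conj_smul ht⟩
    have hTN : T₁ = N := (hNmin T₁ hTn hT.le).resolve_left hT.ne_bot
    apply case_normal hab α (hHall α) (hep α) N hN1
    intro B hB hBinv
    rw [← hTN] at hB ⊢
    exact hT.min B hB hBinv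

end Cfsg.Agent.S3493
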