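import Cfsg.Statements.S3495
import Cfsg.Agent.Lib.Helper58_ExtPrim

set_option autoImplicit false
set_option linter.style.haveILetI false
open Cfsg

namespace Cfsg.Agent.S3495

open MulAction Cfsg.Agent.Lib.Helper58_ExtPrim

theorem result {G : Type*} [Group G] [Finite G] {Ω : Type*} [Fintype Ω] [MulAction G Ω] [FaithfulSMul G Ω] (hprim : MulAction.IsPreprimitive G Ω) (hH : ∀ α : Ω, MulAction.stabilizer G α ≠ ⊥) (hep : ∀ (α : Ω) (ω : Ω), MulAction.IsPreprimitive (MulAction.stabilizer G α) (MulAction.orbit (MulAction.stabilizer G α) ω))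
    (N : Subgroup G) [N.Normal] (hNc : IsMulCommutative N) (p : ℕ) (hp : p.Prime) (hNp : ∀ n ∈ N, n ^ p = 1)
    (hNtr : MulAction.IsPretransitive N Ω) (hNreg : ∀ ω : Ω, MulAction.stabilizer N ω = ⊥) (α : Ω) (M : Subgroup G) (hM : M ≠ ⊥) (hMle : M ≤ MulAction.stabilizer G α)
    (hMn : MulAction.stabilizer G α ≤ Subgroup.normalizer (M : Set G)) :
    (∀ ω : Ω, MulAction.orbit M ω = MulAction.orbit (MulAction.stabilizer G α) ω) ∧
    (∀ L : Subgroup G, L ≤ N → M ≤ Subgroup.normalizer (L : Set G) → L = ⊥ ∨ L = N) := by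
  haveI := hprim
  -- regularity of N, in terms of elements of G
  have hreg : ∀ n ∈ N, ∀ ω : Ω, n • ω = ω → n = 1 := by
    intro n hn ω h
    have : (⟨n, hn⟩ : N) ∈ stabilizer N ω := h
    rw [hNreg, Subgroup.mem_bot] at this
    exact congrArg Subtype.val this
  have hreg2 : ∀ n₁ ∈ N, ∀ n₂ ∈ N, ∀ ω : Ω, n₁ • ω = n₂ • ω → n₁ = n₂ := by
    intro n₁ h₁ n₂ h₂ ω h
    have := hreg (n₂⁻¹ * n₁) (N.mul_mem (N.inv_mem h₂) h₁) ω (by rw [mul_smul, h, inv_smul_smul])
    exact (inv_mul_eq_one.mp this).symm
  have htr : ∀ ω ω' : Ω, ∃ n ∈ N, n • ω = ω' := by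
    intro ω ω'
    obtain ⟨n, hn⟩ := hNtr.exists_smul_eq ω ω'
    exact ⟨n.1, n.2, hn⟩
  -- a subgroup normal in G and fixing a point is trivial
  have hnormal_fix : ∀ X : Subgroup G, X.Normal → X ≤ stabilizer G α → X = ⊥ := by
    intro X hX hXα
    rw [eq_bot_iff]
    intro x hx
    rw [Subgroup.mem_bot]
    apply FaithfulSMul.eq_of_smul_eq_smul (α := Ω)
    intro ω
    obtain ⟨g, rfl⟩ := exists_smul_eq G α ω
    have h1 : g⁻¹ * x * g ∈ X := by
      have := hX.conj_mem x hx g⁻¹
      simpa using this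
    have h2 := hXα h1
    rw [mem_stabilizer_iff, mul_smul, mul_smul, inv_smul_eq_iff] at h2
    rw [h2, one_smul]
  -- a subgroup whose normalizer contains the stabilizer of α and an element moving α is normal
  have hnormal : ∀ X : Subgroup G, stabilizer G α ≤ Subgroup.normalizer (X : Set G) →
      (∃ g ∈ Subgroup.normalizer (X : Set G), g • α ≠ α) → X.Normal := by
    intro X hX ⟨g, hg, hgα⟩
    haveI : Nontrivial Ω := ⟨⟨g • α, α, hgα⟩⟩
    have hco := IsPreprimitive.isCoatom_stabilizer_of_isPreprimitive (G := G) α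
    rcases hco.le_iff.mp hX with h | h
    · exact Subgroup.normalizer_eq_top_iff.mp h
    · exfalso
      rw [h] at hg
      exact hgα hg
  have part1 : ∀ ω : Ω, MulAction.orbit M ω = MulAction.orbit (MulAction.stabilizer G α) ω := by
    intro ω
    apply Set.Subset.antisymm
    · rintro _ ⟨m, rfl⟩
      exact ⟨⟨m.1, hMle m.2⟩, rfl⟩
    · rcases trivial_or_transitive α ω (hep α ω) M hMle hMn with h | h
      · -- M fixes the orbit pointwise
        by_cases hωα : ω = α
        · rintro _ ⟨h', rfl⟩
          rw [hωα]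
          have : h' • α = α := h'.2
          show h' • α ∈ orbit M α
          rw [this]
          exact mem_orbit_self α
        · exfalso
          obtain ⟨n, hn, hnα⟩ := htr α ω
          -- n centralizes M
          have hcomm : ∀ m ∈ M, m * n * m⁻¹ = n := by
            intro m hm
            apply hreg2 _ (Subgroup.Normal.conj_mem inferInstance n hn m) _ hn α
            rw [mul_smul, mul_smul]
            have h1 : m⁻¹ • α = α := by
              rw [inv_smul_eq_iff]; exact (hMle hm).symm
            rw [h1, hnα]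
            exact h m hm ω (mem_orbit_self ω)
          have hnorm : n ∈ Subgroup.normalizer (M : Set G) := by
            apply Subgroup.centralizer_le_normalizer
            rw [Subgroup.mem_centralizer_iff]
            intro m hm
            exact mul_inv_eq_iff_eq_mul.mp (hcomm m hm)
          have hMnormal := hnormal M hMn ⟨n, hnorm, by rw [hnα]; exact hωα⟩
          exact hM (hnormal_fix M hMnormal hMle)
      · rintro _ ⟨h', rfl⟩
        obtain ⟨x, hx, hxs⟩ := h ω (mem_orbit_self ω) (h' • ω) ⟨h', rfl⟩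
        exact ⟨⟨x, hx⟩, hxs⟩
  refine ⟨part1, ?_⟩
  intro L hLN hML
  by_cases hLbot : L = ⊥
  · exact Or.inl hLbot
  right
  -- L is normalized by the stabilizer
  have hLH : stabilizer G α ≤ Subgroup.normalizer (L : Set G) := by
    -- first: h l h⁻¹ ∈ L for h in the stabilizer
    have key : ∀ h ∈ stabilizer G α, ∀ l ∈ L, h * l * h⁻¹ ∈ L := by
      intro h hh l hl
      -- l • α lies in the M-orbit = H-orbit
      have h1 : h • (l • α) ∈ orbit (stabilizer G α) (l • α) := ⟨⟨h, hh⟩, rfl⟩
      rw [← part1] at h1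
      obtain ⟨m, hm⟩ := h1
      have hm' : (m : G) • (l • α) = h • (l • α) := hm
      -- m l m⁻¹ ∈ L
      have h2 : (m : G) * l * (m : G)⁻¹ ∈ L := by
        have := (Subgroup.mem_normalizer_iff.mp (hML m.2) l).mp hl
        exact this
      have h3 : h * l * h⁻¹ = (m : G) * l * (m : G)⁻¹ := by
        apply hreg2 _ (Subgroup.Normal.conj_mem inferInstance l (hLN hl) h) _
          (Subgroup.Normal.conj_mem inferInstance l (hLN hl) m) α
        have e1 : h⁻¹ • α = α := by rw [inv_smul_eq_iff]; exact hh.symm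
        have e2 : (m : G)⁻¹ • α = α := by rw [inv_smul_eq_iff]; exact (hMle m.2).symm
        rw [mul_smul, mul_smul, mul_smul, mul_smul, e1, e2, hm']
      rw [h3]; exact h2
    intro h hh
    rw [Subgroup.mem_normalizer_iff]
    intro l
    constructor
    · exact key h hh l
    · intro hl
      have := key h⁻¹ ((stabilizer G α).inv_mem hh) _ hl
      simpa [mul_assoc] using this
  -- N normalizes L since N is commutative
  have hLN' : N ≤ Subgroup.normalizer (L : Set G) := by
    intro n hn
    apply Subgroup.centralizer_le_normalizer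
    rw [Subgroup.mem_centralizer_iff]
    intro l hl
    have := hNc.is_comm.comm (⟨l, hLN hl⟩ : N) ⟨n, hn⟩
    exact congrArg Subtype.val this
  -- an element of N moving α
  obtain ⟨l0, hl0, hl0ne⟩ : ∃ l ∈ L, l ≠ 1 := by
    by_contra hcon
    push Not at hcon
    exact hLbot (by rw [eq_bot_iff]; intro l hl; rw [Subgroup.mem_bot]; exact hcon l hl)
  have hl0α : l0 • α ≠ α := fun h => hl0ne (hreg l0 (hLN hl0) α h)
  have hLnormal : L.Normal := hnormal L hLH ⟨l0, hLN' (hLN hl0), hl0α⟩
  -- L is transitive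
  have hLtr : IsPretransitive L Ω := by
    apply IsQuasiPreprimitive.isPretransitive_of_normal (G := G) (X := Ω)
    intro hfix
    have : α ∈ fixedPoints L Ω := by rw [hfix]; exact Set.mem_univ _
    exact hl0α (this ⟨l0, hl0⟩)
  apply le_antisymm hLN
  intro n hn
  obtain ⟨l, hl⟩ := hLtr.exists_smul_eq α (n • α)
  have : (l : G) = n := hreg2 _ (hLN l.2) _ hn α hl
  rw [← this]; exact l.2

end Cfsg.Agent.S3495
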