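import Cfsg.Statements.S3497
import Cfsg.Agent.S3494
import Cfsg.Agent.Lib.Helper58_PrimNormal
import Cfsg.Agent.Lib.Helper58_GLHom

set_option autoImplicit false
set_option linter.style.haveILetI false
open Cfsg

namespace Cfsg.Agent.S3497

open MulAction Cfsg.Agent.Lib.Helper58_PrimNormal Cfsg.Agent.Lib.Helper58_GLHom

/-- If a group `N` acts on a finite set fixing `α` and freely on the other points, then the
order of `N` divides the number of points minus one. -/
theorem card_dvd_of_semiregular {N : Type*} [Group N] {Ω : Type*} [Fintype Ω] [MulAction N Ω]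
    (α : Ω) (hα : ∀ n : N, n • α = α) (hfree : ∀ x : Ω, x ≠ α → ∀ n : N, n • x = x → n = 1) :
    Nat.card N ∣ Fintype.card Ω - 1 := by
  classical
  let S : SubMulAction N Ω :=
    { carrier := {x | x ≠ α}
      smul_mem' := by
        intro n x hx h
        apply hx
        have : n • x = n • α := by rw [hα n]; exact h
        exact smul_left_cancel n this }
  have hstab : ∀ b : S, stabilizer N b = ⊥ := by
    intro b
    rw [eq_bot_iff]
    intro n hn
    rw [Subgroup.mem_bot]
    apply hfree b.1 b.2 n
    have : n • b = b := hn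
    exact congrArg Subtype.val this
  have e := selfEquivOrbitsQuotientProd hstab
  have h1 : Nat.card S = Nat.card (Quotient (orbitRel N S)) * Nat.card N := by
    rw [Nat.card_congr e, Nat.card_prod]
  have h2 : Nat.card S = Fintype.card Ω - 1 := by
    have : Nat.card S = Nat.card {x : Ω | x ≠ α} := rfl
    rw [this, Nat.card_eq_fintype_card, Set.card_ne_eq]
  rw [← h2, h1]
  exact Dvd.intro_left _ rfl

/-- Restrictions on the point stabilizer of an extremely primitive group. Let a finite group G act faithfully and primitively on a finite set Ω with point stabilizers H = G_α whose order is neither 1 nor a prime, each acting primitively on every one of its orbits. Then H has trivial center, the Fitting subgroup F(H) is an elementary abelian p-group for some prime p, and if F(H) ≠ 1 has order p ^ e then p ^ e divides the number of points minus one and H / F(H) embeds in GL_e(p) (there is a homomorphism from H to GL_e(p) with kernel exactly F(H)). -/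
theorem result {G : Type*} [Group G] [Finite G] {Ω : Type*} [Fintype Ω] [MulAction G Ω] [FaithfulSMul G Ω] (hprim : MulAction.IsPreprimitive G Ω) (hep : ∀ (α : Ω) (ω : Ω), MulAction.IsPreprimitive (MulAction.stabilizer G α) (MulAction.orbit (MulAction.stabilizer G α) ω)) (α : Ω)
    (hH1 : MulAction.stabilizer G α ≠ ⊥) (hHp : ¬ (Nat.card (MulAction.stabilizer G α)).Prime) :
    Subgroup.center (MulAction.stabilizer G α) = ⊥ ∧
    IsMulCommutative (Cfsg.fittingSubgroup (MulAction.stabilizer G α)) ∧
    ∃ p e : ℕ, p.Prime ∧ Nat.card (Cfsg.fittingSubgroup (MulAction.stabilizer G α)) = p ^ e ∧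
      (∀ x ∈ Cfsg.fittingSubgroup (MulAction.stabilizer G α), x ^ p = 1) ∧
      (Cfsg.fittingSubgroup (MulAction.stabilizer G α) ≠ ⊥ →
        p ^ e ∣ Fintype.card Ω - 1 ∧
        ∃ φ : MulAction.stabilizer G α →* GL (Fin e) (ZMod p), φ.ker = Cfsg.fittingSubgroup (MulAction.stabilizer G α)) := by
  haveI := hprim
  -- all point stabilizers are nontrivial
  have hH : ∀ β : Ω, stabilizer G β ≠ ⊥ := by
    intro β
    obtain ⟨g, rfl⟩ := exists_smul_eq G α β
    rw [stabilizer_smul_eq_stabilizer_map_conj]
    intro h0
    apply hH1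
    rw [Subgroup.map_eq_bot_iff_of_injective _ (MulAut.conj g).injective] at h0
    exact h0
  -- faithfulness on nontrivial suborbits (Manning)
  have hfaith : ∀ ω : Ω, ω ≠ α →
      FaithfulSMul (stabilizer G α) (orbit (stabilizer G α) ω) := by
    intro ω hω
    constructor
    intro h₁ h₂ hh
    have := Cfsg.Agent.S3494.result hprim hH hep α ω hω (h₂⁻¹ * h₁) (by
      intro x hx
      have h3 := hh ⟨x, hx⟩
      have h4 : h₁ • x = h₂ • x := congrArg Subtype.val h3
      rw [mul_smul, h4, inv_smul_smul])
    exact (inv_mul_eq_one.mp this).symm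
  obtain ⟨h₀, hh₀⟩ : ∃ h : stabilizer G α, h ≠ 1 := by
    by_contra hcon
    push Not at hcon
    apply hH1
    rw [eq_bot_iff]
    intro x hx
    rw [Subgroup.mem_bot]
    exact congrArg Subtype.val (hcon ⟨x, hx⟩)
  obtain ⟨ω, hω⟩ : ∃ ω : Ω, (h₀ : G) • ω ≠ ω := by
    by_contra hcon
    push Not at hcon
    apply hh₀
    apply Subtype.ext
    apply FaithfulSMul.eq_of_smul_eq_smul (α := Ω)
    intro x
    rw [hcon x]
    simp
  have hωα : ω ≠ α := by
    rintro rfl
    exact hω h₀.2
  haveI := hfaith ω hωα
  haveI := hep α ω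
  haveI : Nontrivial (orbit (stabilizer G α) ω) :=
    ⟨⟨⟨ω, mem_orbit_self ω⟩, ⟨(h₀ : G) • ω, ⟨h₀, rfl⟩⟩,
      fun h => hω (congrArg Subtype.val h).symm⟩⟩
  refine ⟨center_eq_bot (Δ := orbit (stabilizer G α) ω) hHp, ?_⟩
  -- the Fitting subgroup
  have hcases := fitting_cases (H := stabilizer G α) (Δ := orbit (stabilizer G α) ω)
  have hFc : ∀ a ∈ Cfsg.fittingSubgroup (stabilizer G α),
      ∀ b ∈ Cfsg.fittingSubgroup (stabilizer G α), a * b = b * a := by
    rcases hcases with h0 | ⟨_, hc⟩
    · intro a ha b hb
      rw [h0, Subgroup.mem_bot] at ha hb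
      rw [ha, hb]
    · exact hc
  refine ⟨⟨⟨fun a b => Subtype.ext (hFc a a.2 b b.2)⟩⟩, ?_⟩
  by_cases hF0 : Cfsg.fittingSubgroup (stabilizer G α) = ⊥
  · refine ⟨2, 0, Nat.prime_two, ?_, ?_, fun h => absurd hF0 h⟩
    · rw [hF0, pow_zero]; exact Subgroup.card_bot
    · intro x hx
      rw [hF0, Subgroup.mem_bot] at hx
      rw [hx, one_pow]
  · have hFn : (Cfsg.fittingSubgroup (stabilizer G α)).Normal := by
      rcases hcases with h0 | ⟨hn, _⟩
      · exact absurd h0 hF0
      · exact hn
    haveI := hFn
    obtain ⟨p, e, hp, hcard, hexp⟩ := abelian_normal_elementary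
      (Δ := orbit (stabilizer G α) ω) (Cfsg.fittingSubgroup (stabilizer G α)) hF0 hFc
    haveI : Fact p.Prime := ⟨hp⟩
    refine ⟨p, e, hp, hcard, hexp, fun _ => ⟨?_, ?_⟩⟩
    · rw [← hcard]
      apply card_dvd_of_semiregular (N := Cfsg.fittingSubgroup (stabilizer G α)) α
      · intro n
        exact (n : stabilizer G α).2
      · intro x hx n hn
        haveI := hfaith x hx
        haveI := hep α x
        apply Subtype.ext
        apply abelian_semiregular (Δ := orbit (stabilizer G α) x)
          (Cfsg.fittingSubgroup (stabilizer G α)) hF0 hFc (n : stabilizer G α) n.2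
          ⟨x, mem_orbit_self x⟩
        exact Subtype.ext hn
    · obtain ⟨φ, hφ⟩ := exists_GL_of_normal (Cfsg.fittingSubgroup (stabilizer G α)) hFc p e
        hexp hcard
      refine ⟨φ, ?_⟩
      ext h
      rw [hφ]
      constructor
      · intro hh
        exact centralizer_le (Δ := orbit (stabilizer G α) ω)
          (Cfsg.fittingSubgroup (stabilizer G α)) hF0 hFc h hh
      · intro hh n hn
        exact hFc h hh n hn

end Cfsg.Agent.S3497
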