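import Cfsg.Statements.S3496
import Cfsg.Agent.S3494
import Cfsg.Agent.S3495
import Cfsg.Agent.S3497
import Cfsg.Agent.Lib.Helper58_PrimNormal
import Cfsg.Agent.Lib.Helper58_FieldAct2

set_option autoImplicit false
set_option linter.style.haveILetI false
open Cfsg

namespace Cfsg.Agent.S3496

open MulAction Cfsg.Agent.Lib.Helper58_PrimNormal Cfsg.Agent.Lib.Helper58_FieldAct2

/-- A nontrivial solvable group has a nontrivial abelian normal subgroup. -/
theorem exists_abelian_normal (G : Type*) [Group G] [Group.IsSolvable G] [Nontrivial G] :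
    ∃ V : Subgroup G, V.Normal ∧ V ≠ ⊥ ∧ ∀ a ∈ V, ∀ b ∈ V, a * b = b * a := by
  classical
  have hsol : ∃ n, derivedSeries G n = ⊥ := Group.IsSolvable.solvable
  have hspec := Nat.find_spec hsol
  have hn0 : Nat.find hsol ≠ 0 := by
    intro h0
    rw [h0, derivedSeries_zero] at hspec
    exact top_ne_bot hspec
  obtain ⟨m, hm⟩ := Nat.exists_eq_succ_of_ne_zero hn0
  refine ⟨derivedSeries G m, inferInstance, ?_, ?_⟩
  · intro h
    exact Nat.find_min hsol (by omega : m < Nat.find hsol) h
  · rw [hm, derivedSeries_succ, Subgroup.commutator_eq_bot_iff_le_centralizer] at hspec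
    intro a ha b hb
    have := hspec ha
    rw [Subgroup.mem_centralizer_iff] at this
    exact (this b hb).symm

/-- A subgroup closed under conjugation by the elements of `M` is normalized by `M`. -/
theorem le_normalizer_of_conj_mem {G : Type*} [Group G] (M L : Subgroup G)
    (h : ∀ m ∈ M, ∀ l ∈ L, m * l * m⁻¹ ∈ L) : M ≤ Subgroup.normalizer (L : Set G) := by
  intro m hm
  rw [Subgroup.mem_normalizer_iff]
  intro g
  constructor
  · exact h m hm g
  · intro hg
    have := h m⁻¹ (M.inv_mem hm) _ hg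
    simpa [mul_assoc] using this

/-- The soluble extremely primitive groups. Let a finite solvable group G act faithfully and primitively on a finite set Ω with p ^ d points (p prime), with non-trivial point stabilizers each acting primitively on every one of its orbits. Then there is a prime q such that every orbit of a point stabilizer G_α other than {α} has exactly q points, q divides p ^ d − 1 but no p ^ i − 1 with 0 < i < d, and G_α has a normal subgroup T of order q with G_α generated by T and one further element and the order of G_α dividing q·d (so G_α is cyclic of order q, or an extension of T by a cyclic group of order dividing d). -/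
theorem result {G : Type*} [Group G] [Finite G] {Ω : Type*} [Fintype Ω] [MulAction G Ω] [FaithfulSMul G Ω] [Group.IsSolvable G] (p d : ℕ) (hp : p.Prime) (hcard : Fintype.card Ω = p ^ d)
    (hprim : MulAction.IsPreprimitive G Ω) (hH : ∀ α : Ω, MulAction.stabilizer G α ≠ ⊥) (hep : ∀ (α : Ω) (ω : Ω), MulAction.IsPreprimitive (MulAction.stabilizer G α) (MulAction.orbit (MulAction.stabilizer G α) ω)) (α : Ω) :
    ∃ q : ℕ, q.Prime ∧ (∀ ω : Ω, ω ≠ α → Nat.card (MulAction.orbit (MulAction.stabilizer G α) ω) = q) ∧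
      q ∣ p ^ d - 1 ∧ (∀ i : ℕ, 0 < i → i < d → ¬ q ∣ p ^ i - 1) ∧
      ∃ T : Subgroup G, T ≤ MulAction.stabilizer G α ∧ MulAction.stabilizer G α ≤ Subgroup.normalizer (T : Set G) ∧ Nat.card T = q ∧
        (∃ h : G, MulAction.stabilizer G α = T ⊔ Subgroup.zpowers h) ∧ Nat.card (MulAction.stabilizer G α) ∣ q * d := by
  haveI := hprim
  haveI : Fact p.Prime := ⟨hp⟩
  -- faithfulness on nontrivial suborbits (Manning)
  have hfaith : ∀ ω : Ω, ω ≠ α →
      FaithfulSMul (stabilizer G α) (orbit (stabilizer G α) ω) := by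
    intro ω hω
    constructor
    intro h₁ h₂ hh
    have := Cfsg.Agent.S3494.result hprim hH hep α ω hω (h₂⁻¹ * h₁) (by
      intro x hx
      have h3 := hh ⟨x, hx⟩
      have h4 : h₁ • x = h₂ • x := congrArg Subtype.val h3
      rw [mul_smul, h4, inv_smul_smul])
    exact (inv_mul_eq_one.mp this).symm
  obtain ⟨h₀, hh₀⟩ : ∃ h : stabilizer G α, h ≠ 1 := by
    by_contra hcon
    push Not at hcon
    apply hH α
    rw [eq_bot_iff]
    intro x hx
    rw [Subgroup.mem_bot]
    exact congrArg Subtype.val (hcon ⟨x, hx⟩)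
  obtain ⟨ω₀, hω₀⟩ : ∃ ω : Ω, (h₀ : G) • ω ≠ ω := by
    by_contra hcon
    push Not at hcon
    apply hh₀
    apply Subtype.ext
    apply FaithfulSMul.eq_of_smul_eq_smul (α := Ω)
    intro x
    rw [hcon x]
    simp
  have hω₀α : ω₀ ≠ α := by
    rintro rfl
    exact hω₀ h₀.2
  haveI : Nontrivial (stabilizer G α) := ⟨⟨h₀, 1, hh₀⟩⟩
  haveI : Nontrivial G := ⟨⟨(h₀ : G), 1, fun h => hh₀ (Subtype.ext h)⟩⟩
  haveI : Nonempty Ω := ⟨α⟩
  -- the regular normal subgroup `V`
  obtain ⟨V, hVn, hV1, hVc⟩ := exists_abelian_normal G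
  haveI := hVn
  obtain ⟨r, f, hr, hVcard, hVr⟩ := abelian_normal_elementary (Δ := Ω) V hV1 hVc
  have hVtr : ∀ x y : Ω, ∃ v ∈ V, v • x = y := normal_transitive V hV1
  have hVsr : ∀ v ∈ V, ∀ x : Ω, v • x = x → v = 1 :=
    fun v hv x h => abelian_semiregular V hV1 hVc v hv x h
  have hVΩ : Nat.card V = Fintype.card Ω := by
    rw [← Nat.card_eq_fintype_card]
    apply Nat.card_congr
    refine Equiv.ofBijective (fun v : V => (v : G) • α) ⟨?_, ?_⟩
    · intro v w hvw
      have h1 : ((w : G)⁻¹ * (v : G)) • α = α := by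
        rw [mul_smul]
        show (w : G)⁻¹ • ((v : G) • α) = α
        rw [show (v : G) • α = (w : G) • α from hvw, inv_smul_smul]
      have h2 := hVsr _ (V.mul_mem (V.inv_mem w.2) v.2) α h1
      exact Subtype.ext (inv_mul_eq_one.mp h2).symm
    · intro x
      obtain ⟨v, hv, hvx⟩ := hVtr α x
      exact ⟨⟨v, hv⟩, hvx⟩
  have hΩ2 : 2 ≤ Fintype.card Ω := by
    have : 1 < Fintype.card Ω := Fintype.one_lt_card_iff.mpr ⟨ω₀, α, hω₀α⟩
    omega
  have hrf : r ^ f = p ^ d := by rw [← hVcard, hVΩ, hcard]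
  have hf0 : f ≠ 0 := by
    rintro rfl
    rw [pow_zero] at hrf
    rw [hcard, ← hrf] at hΩ2
    omega
  have hrp : p = r := by
    have h1 : r ∣ p ^ d := by rw [← hrf]; exact dvd_pow_self r hf0
    exact ((Nat.prime_dvd_prime_iff_eq hr hp).mp (hr.dvd_of_dvd_pow h1)).symm
  subst hrp
  have hfd : d = f := (Nat.pow_right_injective hp.two_le hrf).symm
  subst hfd
  -- the abelian normal subgroup `T` of the stabilizer
  obtain ⟨T, hTn, hT1, hTc⟩ := exists_abelian_normal (stabilizer G α)
  haveI := hTn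
  haveI := hfaith ω₀ hω₀α
  haveI := hep α ω₀
  haveI : Nonempty (orbit (stabilizer G α) ω₀) := ⟨⟨ω₀, mem_orbit_self ω₀⟩⟩
  obtain ⟨q, e, hq, hTcard, hTq⟩ := abelian_normal_elementary
    (Δ := orbit (stabilizer G α) ω₀) T hT1 hTc
  have hcent : ∀ h : stabilizer G α, (∀ t ∈ T, h * t = t * h) → h ∈ T :=
    fun h hh => centralizer_le (Δ := orbit (stabilizer G α) ω₀) T hT1 hTc h hh
  -- `T` as a subgroup of `G`
  have hM1 : T.map (stabilizer G α).subtype ≠ ⊥ := by
    intro h0
    apply hT1
    rwa [Subgroup.map_eq_bot_iff_of_injective _ (Subgroup.subtype_injective _)] at h0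
  have hMle : T.map (stabilizer G α).subtype ≤ stabilizer G α := Subgroup.map_subtype_le T
  have hMn : stabilizer G α ≤
      Subgroup.normalizer ((T.map (stabilizer G α).subtype : Subgroup G) : Set G) := by
    apply le_normalizer_of_conj_mem
    rintro m hm _ ⟨t, ht, rfl⟩
    refine ⟨⟨m, hm⟩ * t * ⟨m, hm⟩⁻¹, Subgroup.Normal.conj_mem inferInstance t ht ⟨m, hm⟩, ?_⟩
    simp
  have hNtr : IsPretransitive V Ω :=
    ⟨fun x y => let ⟨v, hv, h⟩ := hVtr x y; ⟨⟨v, hv⟩, h⟩⟩
  have hNreg : ∀ ω : Ω, stabilizer V ω = ⊥ := by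
    intro ω
    rw [eq_bot_iff]
    intro v hv
    rw [Subgroup.mem_bot]
    exact Subtype.ext (hVsr v v.2 ω hv)
  have hS3495 := (Cfsg.Agent.S3495.result hprim hH hep V ⟨⟨fun a b => Subtype.ext (hVc a a.2 b b.2)⟩⟩
    p hp hVr hNtr hNreg α (T.map (stabilizer G α).subtype) hM1 hMle hMn).2
  -- the conjugation action of the stabilizer on `V`
  let a : stabilizer G α →* MulAut V :=
    (MulAut.conjNormal (H := V)).comp (stabilizer G α).subtype
  have ha_apply : ∀ (h : stabilizer G α) (v : V), ((a h v : V) : G) = (h : G) * v * (h : G)⁻¹ :=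
    fun h v => rfl
  have ha : Function.Injective a := by
    rw [injective_iff_map_eq_one]
    intro h hh
    have hc : ∀ v ∈ V, (h : G) * v = v * (h : G) := by
      intro v hv
      have h1 := congrArg (fun e : MulAut V => ((e ⟨v, hv⟩ : V) : G)) hh
      simp only [ha_apply, MulAut.one_apply] at h1
      calc (h : G) * v = ((h : G) * v * (h : G)⁻¹) * (h : G) := by group
        _ = v * (h : G) := by rw [h1]
    have hV : (h : G) ∈ V := centralizer_le (Δ := Ω) V hV1 hVc (h : G) hc
    exact Subtype.ext (hVsr _ hV α h.2)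
  have hirrV : ∀ L : Subgroup V, (∀ t ∈ T, ∀ l ∈ L, a t l ∈ L) → L = ⊥ ∨ L = ⊤ := by
    intro L hL
    have h1 : L.map V.subtype ≤ V := Subgroup.map_subtype_le L
    have h2 : T.map (stabilizer G α).subtype ≤
        Subgroup.normalizer ((L.map V.subtype : Subgroup G) : Set G) := by
      apply le_normalizer_of_conj_mem
      rintro _ ⟨t, ht, rfl⟩ _ ⟨l, hl, rfl⟩
      exact ⟨a t l, hL t ht l hl, rfl⟩
    rcases hS3495 _ h1 h2 with h3 | h3
    · left
      rwa [Subgroup.map_eq_bot_iff_of_injective _ (Subgroup.subtype_injective _)] at h3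
    · right
      apply Subgroup.map_injective (Subgroup.subtype_injective V)
      rw [h3, ← MonoidHom.range_eq_map, Subgroup.range_subtype]
  let inst1 : CommGroup V :=
    { (inferInstance : Group V) with mul_comm := fun a b => Subtype.ext (hVc a a.2 b b.2) }
  let inst2 : Module (ZMod p) (Additive V) := AddCommGroup.zmodModule (n := p) (by
    intro x
    have h1 : (Additive.toMul x) ^ p = 1 := by
      apply Subtype.ext
      have := hVr _ (Additive.toMul x).2
      simpa using this
    have h2 : Additive.ofMul ((Additive.toMul x) ^ p) = 0 := by rw [h1]; rfl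
    rw [ofMul_pow] at h2
    exact h2)
  obtain ⟨hTq', hppd, hHdvd, ⟨h₁, hh₁⟩, _⟩ := @glue p d q _ hq V inst1 _ inst2 hVcard
    (stabilizer G α) _ _ a ha T _ hTc hTq hT1 hcent hirrV
  refine ⟨q, hq, ?_, ?_, hppd, T.map (stabilizer G α).subtype, hMle, hMn, ?_, ⟨(h₁ : G), ?_⟩,
    hHdvd⟩
  · -- all nontrivial suborbits have `q` points
    intro ω hω
    haveI := hfaith ω hω
    haveI := hep α ω
    rw [← hTq']
    symm
    apply Nat.card_congr
    refine Equiv.ofBijective (fun t : T => (t : stabilizer G α) •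
      (⟨ω, mem_orbit_self ω⟩ : orbit (stabilizer G α) ω)) ⟨?_, ?_⟩
    · intro s t hst
      have h1 : ((t : stabilizer G α)⁻¹ * (s : stabilizer G α)) •
          (⟨ω, mem_orbit_self ω⟩ : orbit (stabilizer G α) ω) = ⟨ω, mem_orbit_self ω⟩ := by
        rw [mul_smul]
        have hst' : (s : stabilizer G α) • (⟨ω, mem_orbit_self ω⟩ : orbit (stabilizer G α) ω) =
            (t : stabilizer G α) • (⟨ω, mem_orbit_self ω⟩ : orbit (stabilizer G α) ω) := hst
        rw [hst', inv_smul_smul]
      have h2 := abelian_semiregular (Δ := orbit (stabilizer G α) ω) T hT1 hTc _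
        (T.mul_mem (T.inv_mem t.2) s.2) _ h1
      exact Subtype.ext (inv_mul_eq_one.mp h2).symm
    · intro x
      obtain ⟨t, ht, htx⟩ := normal_transitive (Δ := orbit (stabilizer G α) ω) T hT1
        ⟨ω, mem_orbit_self ω⟩ x
      exact ⟨⟨t, ht⟩, htx⟩
  · -- `q` divides `p ^ d - 1`
    rw [← hcard, ← hTq']
    apply Cfsg.Agent.S3497.card_dvd_of_semiregular (N := T) α
    · intro n
      exact (n : stabilizer G α).2
    · intro x hx n hn
      haveI := hfaith x hx
      haveI := hep α x
      apply Subtype.ext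
      apply abelian_semiregular (Δ := orbit (stabilizer G α) x) T hT1 hTc
        (n : stabilizer G α) n.2 ⟨x, mem_orbit_self x⟩
      exact Subtype.ext hn
  · rw [← hTq']
    exact Subgroup.card_map_of_injective (Subgroup.subtype_injective _)
  · have h1 := congrArg (Subgroup.map (stabilizer G α).subtype) hh₁
    rw [Subgroup.map_sup, MonoidHom.map_zpowers, ← MonoidHom.range_eq_map,
      Subgroup.range_subtype] at h1
    exact h1

end Cfsg.Agent.S3496
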