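import Cfsg.Statements.S3498

set_option autoImplicit false
set_option linter.style.haveILetI false
open Cfsg

namespace Cfsg.Agent.S3498

open Subgroup

/-- a nonabelian simple finite group is not a `q`-group -/
theorem not_isPGroup_of_simple {T : Type*} [Group T] [Finite T] (hT : IsSimpleGroup T)
    (hTc : ¬ IsMulCommutative T) (q : ℕ) (hq : q.Prime) : ¬ IsPGroup q T := by
  intro h
  haveI : Fact q.Prime := ⟨hq⟩
  have := h.isNilpotent
  apply hTc
  exact ⟨⟨IsSimpleGroup.comm_iff_isSolvable.mpr inferInstance⟩⟩

/-- an element of order prime to `p` lies in any normal subgroup of index `p`. -/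
theorem mem_of_index_prime {G : Type*} [Group G] (T : Subgroup G) [T.Normal] {p : ℕ}
    (hidx : T.index = p) {x : G} {n : ℕ} (hx : x ^ n = 1) (hcop : Nat.Coprime n p) : x ∈ T := by
  have h1 : x ^ p ∈ T := hidx ▸ T.pow_index_mem x
  have h2 : x ^ n ∈ T := hx ▸ T.one_mem
  have h3 : x ^ (Nat.gcd n p) ∈ T := by
    rw [← zpow_natCast, Nat.gcd_eq_gcd_ab, zpow_add, zpow_mul, zpow_mul, zpow_natCast, zpow_natCast]
    exact T.mul_mem (T.zpow_mem h2 _) (T.zpow_mem h1 _)
  rwa [hcop, pow_one] at h3

theorem result {G : Type*} [Group G] [Finite G] (T : Subgroup G) [T.Normal] (hT : IsSimpleGroup T) (hTc : ¬ IsMulCommutative T)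
    (hC : Subgroup.centralizer (T : Set G) = ⊥) (H : Subgroup G) (hmax : IsCoatom H) : ¬ (Nat.card H).Prime := by
  intro hp
  obtain ⟨p, hpdef⟩ : ∃ p, p = Nat.card H := ⟨_, rfl⟩
  rw [← hpdef] at hp
  haveI : Fact p.Prime := ⟨hp⟩
  have hnotp : ∀ q : ℕ, q.Prime → ¬ IsPGroup q T := not_isPGroup_of_simple hT hTc
  -- H is a p-group, contained in a Sylow p-subgroup, which must be H
  have hHp : IsPGroup p H := IsPGroup.of_card (n := 1) (by rw [pow_one, hpdef])
  obtain ⟨P, hHP⟩ := hHp.exists_le_sylow
  have hPH : (P : Subgroup G) = H := by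
    rcases hmax.le_iff.mp hHP with h | h
    · exfalso
      have : IsPGroup p (⊤ : Subgroup G) := h ▸ P.isPGroup'
      exact hnotp p hp (this.to_le le_top)
    · exact h
  have hPcard : Nat.card P = p := by
    exact (congrArg (fun K : Subgroup G => Nat.card K) hPH).trans hpdef.symm
  -- p^2 does not divide |G|
  have hp2 : ¬ p ^ 2 ∣ Nat.card G := by
    intro h
    have := P.pow_dvd_card_of_pow_dvd_card h
    rw [hPcard] at this
    have h2 : p ^ 2 ≤ p := Nat.le_of_dvd hp.pos this
    nlinarith [hp.two_le]
  by_cases hHT : H ≤ T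
  · -- Case A : H ≤ T, so T = ⊤ and G is simple
    have hTtop : T = ⊤ := by
      rcases hmax.le_iff.mp hHT with h | h
      · exact h
      · exfalso
        exact hnotp p hp (h ▸ hHp)
    haveI : Nontrivial G := by
      haveI := hT.toNontrivial
      exact Function.Injective.nontrivial T.subtype_injective
    haveI hGs : IsSimpleGroup G := by
      haveI := hT
      refine IsSimpleGroup.isSimpleGroup_of_surjective T.subtype ?_
      intro g
      exact ⟨⟨g, hTtop ▸ mem_top g⟩, rfl⟩
    -- normalizer of H is H
    have hHne_top : H ≠ ⊤ := hmax.1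
    have hHne_bot : H ≠ ⊥ := by
      intro h
      rw [h, Subgroup.card_bot] at hpdef
      exact hp.ne_one hpdef
    have hnorm : normalizer (H : Set G) = H := by
      rcases hmax.le_iff.mp (le_normalizer (H := H)) with h | h
      · exfalso
        haveI : H.Normal := normalizer_eq_top_iff.mp h
        rcases Subgroup.Normal.eq_bot_or_eq_top (H := H) inferInstance with h' | h'
        · exact hHne_bot h'
        · exact hHne_top h'
      · exact h
    haveI hcyc : IsCyclic H := isCyclic_of_prime_card hpdef.symm
    have hcomm : IsMulCommutative H := hcyc.isMulCommutative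
    have hle : H ≤ centralizer (H : Set G) := le_centralizer_iff_isMulCommutative.mpr hcomm
    have hP : normalizer (P : Set G) ≤ centralizer (P : Set G) := by
      have e1 : ((P : Subgroup G) : Set G) = (H : Set G) := congrArg _ hPH
      rw [show (P : Set G) = (H : Set G) from e1, hnorm]
      exact hle
    have hcompl := MonoidHom.ker_transferSylow_isComplement' P hP
    have hcard := hcompl.card_mul_card
    rcases Subgroup.Normal.eq_bot_or_eq_top (H := (MonoidHom.transferSylow P hP).ker) inferInstance with h | h
    · rw [h, Subgroup.card_bot, one_mul] at hcard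
      have : (P : Subgroup G) = ⊤ := (Subgroup.card_eq_iff_eq_top _).mp hcard
      exact hHne_top (hPH ▸ this)
    · rw [h, Subgroup.card_top] at hcard
      have hG0 : 0 < Nat.card G := Nat.card_pos
      have : Nat.card (P : Subgroup G) = 1 := by
        nlinarith
      rw [hPcard] at this
      exact hp.ne_one this
  · -- Case B
    have hinf : H ⊓ T = ⊥ := by
      haveI : Fact (Nat.card H).Prime := ⟨hpdef ▸ hp⟩
      rcases ((H ⊓ T).subgroupOf H).eq_bot_or_eq_top_of_prime_card with h | h
      · rw [subgroupOf_eq_bot] at h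
        have := h.eq_bot
        rwa [inf_assoc, inf_comm T H, ← inf_assoc, inf_idem] at this
      · exfalso
        apply hHT
        rw [subgroupOf_eq_top] at h
        exact h.trans inf_le_right
    have hsup : H ⊔ T = ⊤ := by
      rcases hmax.le_iff.mp (le_sup_left : H ≤ H ⊔ T) with h | h
      · exact h
      · exfalso
        have : T ≤ H := by rw [← h]; exact le_sup_right
        exact hnotp p hp (hHp.to_le this)
    have hidx : T.index = p := by
      rw [← relIndex_top_right, ← hsup, relIndex_sup_right, ← inf_relIndex_left, hinf,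
        relIndex_bot_left, hpdef]
    have hcardG : Nat.card G = Nat.card T * p := by rw [← hidx, card_mul_index]
    have hpT : ¬ p ∣ Nat.card T := by
      intro h
      apply hp2
      rw [hcardG, sq]
      exact mul_dvd_mul_right h p
    have hTnt : Nontrivial T := hT.toNontrivial
    have hT1 : Nat.card T ≠ 1 := by
      intro h
      have := (Nat.card_eq_one_iff_unique.mp h).1
      exact not_subsingleton T this
    obtain ⟨r, hr, hrT⟩ := Nat.exists_prime_and_dvd hT1
    haveI : Fact r.Prime := ⟨hr⟩
    have hrp : r ≠ p := fun h => hpT (h ▸ hrT)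
    have hrG : r ∣ Nat.card G := hcardG ▸ Dvd.dvd.mul_right hrT p
    -- all Sylow r-subgroups of G are in T
    have hST : ∀ S : Sylow r G, (S : Subgroup G) ≤ T := by
      intro S x hx
      obtain ⟨k, hk⟩ := S.isPGroup' ⟨x, hx⟩
      have hxk : x ^ (r ^ k) = 1 := by simpa using congrArg Subtype.val hk
      exact mem_of_index_prime T hidx hxk (((Nat.coprime_primes hr hp).mpr hrp).pow_left k)
    -- p does not divide the number of Sylow r-subgroups
    have hnum : ¬ p ∣ Nat.card (Sylow r G) := by
      obtain ⟨S0⟩ : Nonempty (Sylow r G) := inferInstance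
      rw [S0.card_eq_index_normalizer]
      intro hdiv
      have hfr := Sylow.normalizer_sup_eq_top' S0 (hST S0)
      have h1 : T.relIndex (normalizer (S0 : Set G)) = p := by
        rw [← relIndex_sup_right (K := T), hfr, relIndex_top_right, hidx]
      have h2 : p ∣ Nat.card (normalizer (S0 : Set G)) := h1 ▸ relIndex_dvd_card _ _
      apply hp2
      rw [← card_mul_index (normalizer (S0 : Set G)), sq]
      exact mul_dvd_mul h2 hdiv
    -- fixed point
    obtain ⟨S, hS⟩ := hHp.nonempty_fixed_point_of_prime_not_dvd_card (Sylow r G) hnum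
    rw [Subgroup.sylow_mem_fixedPoints_iff] at hS
    have hSne : (S : Subgroup G) ≠ ⊥ := S.ne_bot_of_dvd_card hrG
    rcases hmax.le_iff.mp (le_sup_right : H ≤ (S : Subgroup G) ⊔ H) with h | h
    · have hn : normalizer (S : Set G) = ⊤ := by
        rw [eq_top_iff, ← h]; exact sup_le le_normalizer hS
      haveI : (S : Subgroup G).Normal := normalizer_eq_top_iff.mp hn
      haveI := hT
      rcases Subgroup.Normal.eq_bot_or_eq_top (H := (S : Subgroup G).subgroupOf T) inferInstance with h' | h'
      · rw [subgroupOf_eq_bot] at h'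
        apply hSne
        have := h'.eq_bot
        rwa [inf_of_le_left (hST S)] at this
      · rw [subgroupOf_eq_top] at h'
        exact hnotp r hr (S.isPGroup'.to_le h')
    · apply hSne
      rw [eq_bot_iff, ← hinf]
      exact le_inf (le_sup_left.trans h.le) (hST S)

end Cfsg.Agent.S3498
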