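import Cfsg.Statements.S3501
import Cfsg.Agent.S0700
import Cfsg.Agent.Lib.Helper59_Derangements
import Cfsg.Agent.Lib.Helper12_Sharp2

set_option autoImplicit false
set_option linter.unusedSectionVars false
open Cfsg
open scoped Pointwise

namespace Cfsg.Agent.S3501

open MulAction Cfsg.Agent.S0700

section conj

variable {Γ : Type*} [Group Γ] [Finite Γ] (N : Subgroup Γ) [N.Normal]

/-- the conjugate of a subgroup of `N` by an element of the big group -/
def conjSub (M : Subgroup N) (g : Γ) : Subgroup N :=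
  M.map (MulAut.conjNormal g : N ≃* N).toMonoidHom

theorem conjSub_normal (M : Subgroup N) [hM : M.Normal] (g : Γ) : (conjSub N M g).Normal :=
  hM.map _ (MulEquiv.surjective _)

theorem card_conjSub (M : Subgroup N) (g : Γ) : Nat.card (conjSub N M g) = Nat.card M :=
  Subgroup.card_map_of_injective (MulEquiv.injective _)

theorem conjSub_one (M : Subgroup N) : conjSub N M 1 = M := by
  simp only [conjSub, map_one]
  exact Subgroup.map_id M

theorem mem_conjSub (M : Subgroup N) (g : Γ) {m : N} (hm : m ∈ M) :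
    MulAut.conjNormal g m ∈ conjSub N M g :=
  Subgroup.mem_map_of_mem _ hm

theorem map_conjSub (M : Subgroup N) (γ g : Γ) :
    (conjSub N M g).map (MulAut.conjNormal γ : N ≃* N).toMonoidHom = conjSub N M (γ * g) := by
  simp only [conjSub, Subgroup.map_map]
  congr 1
  ext x
  simp [map_mul]

theorem iSup_conjSub_eq_top
    (hmin : ∀ M : Subgroup Γ, M.Normal → M ≤ N → M = ⊥ ∨ M = N)
    (M : Subgroup N) (hM : M ≠ ⊥) : (⨆ g, conjSub N M g) = ⊤ := by
  have hinv : ∀ γ : Γ, ∀ k ∈ (⨆ g, conjSub N M g),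
      MulAut.conjNormal γ k ∈ (⨆ g, conjSub N M g) := by
    intro γ k hk
    have hk' : MulAut.conjNormal γ k ∈
        (⨆ g, conjSub N M g).map (MulAut.conjNormal γ : N ≃* N).toMonoidHom :=
      Subgroup.mem_map_of_mem _ hk
    rw [Subgroup.map_iSup] at hk'
    refine (iSup_le ?_ : _ ≤ ⨆ g, conjSub N M g) hk'
    intro g
    rw [map_conjSub]; exact le_iSup (conjSub N M) (γ * g)
  rcases min_invariant N hmin (⨆ g, conjSub N M g) hinv with h | h
  · exfalso; apply hM; rw [eq_bot_iff, ← h]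
    have h1 := le_iSup (conjSub N M) 1
    rwa [conjSub_one] at h1
  · exact h

theorem conjSub_dichotomy (M : Subgroup N) [hMn : M.Normal]
    (hMmin : ∀ K : Subgroup N, K.Normal → K ≠ ⊥ → K ≤ M → M ≤ K) (g : Γ) :
    conjSub N M g = M ∨ conjSub N M g ≤ Subgroup.centralizer (M : Set N) := by
  have hn := conjSub_normal N M g
  by_cases hI : M ⊓ conjSub N M g = ⊥
  · right
    intro y hy
    rw [Subgroup.mem_centralizer_iff]
    intro m hm
    exact (Subgroup.commute_of_normal_of_disjoint M (conjSub N M g) hMn hn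
      (disjoint_iff.mpr hI) m y hm hy).eq
  · left
    have hIn : (M ⊓ conjSub N M g).Normal := Subgroup.normal_inf_normal _ _
    have hle : M ≤ M ⊓ conjSub N M g := hMmin _ hIn hI inf_le_left
    have hle' : M ≤ conjSub N M g := hle.trans inf_le_right
    exact (Subgroup.eq_of_le_of_card_ge hle' (card_conjSub N M g).le).symm

theorem sup_centralizer_eq_top
    (hmin : ∀ M : Subgroup Γ, M.Normal → M ≤ N → M = ⊥ ∨ M = N)
    (M : Subgroup N) [hMn : M.Normal] (hM : M ≠ ⊥)
    (hMmin : ∀ K : Subgroup N, K.Normal → K ≠ ⊥ → K ≤ M → M ≤ K) :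
    M ⊔ Subgroup.centralizer (M : Set N) = ⊤ := by
  rw [eq_top_iff, ← iSup_conjSub_eq_top N hmin M hM]
  refine iSup_le fun g => ?_
  rcases conjSub_dichotomy N M hMmin g with h | h
  · rw [h]; exact le_sup_left
  · exact h.trans le_sup_right

end conj

section jordan

variable {H Ω : Type*} [Group H] [Finite H] [Finite Ω] [MulAction H Ω]

/-- Jordan: a finite transitive group on at least two points has a derangement -/
theorem exists_derangement [IsPretransitive H Ω] [Nontrivial Ω] : ∃ h : H, ∀ ω : Ω, h • ω ≠ ω := by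
  by_contra hcon
  push Not at hcon
  have hempty : {g : H | ∀ ω : Ω, g • ω ≠ ω} = ∅ := by
    ext g
    simp only [Set.mem_ofPred_eq, Set.mem_empty_iff_false, iff_false]
    intro hg
    obtain ⟨ω, hω⟩ := hcon g
    exact hg ω hω
  obtain ⟨htr, -⟩ := Cfsg.Agent.Lib.Helper59_Derangements.main_count (G := H) (Ω := Ω)
  obtain ⟨a, b, hab⟩ := exists_pair_ne Ω
  obtain ⟨g, hg⟩ := htr.exists_smul_eq a b
  have hg1 : (g : H) = 1 := by
    have hbot : Cfsg.Agent.Lib.Helper59_Derangements.derSubgroup H Ω = ⊥ := by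
      unfold Cfsg.Agent.Lib.Helper59_Derangements.derSubgroup
      rw [hempty, Subgroup.closure_empty]
    have h2 : ∀ x ∈ Cfsg.Agent.Lib.Helper59_Derangements.derSubgroup H Ω, x = 1 := by
      rw [hbot]; intro x hx; exact Subgroup.mem_bot.mp hx
    exact h2 g g.2
  apply hab
  rw [← hg]
  show a = (g : H) • a
  rw [hg1, one_smul]

end jordan

section main

variable {G Ω : Type*} [Group G] [Finite G] [Finite Ω] [MulAction G Ω] [FaithfulSMul G Ω]

/-- if all derangements lie in a regular normal subgroup, point stabilizers are semiregular -/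
theorem semiregular_stabilizer (N : Subgroup G) [N.Normal] [IsPretransitive N Ω]
    (hreg : ∀ a : Ω, stabilizer N a = ⊥)
    (hDN : ∀ g : G, (∀ ω : Ω, g • ω ≠ ω) → g ∈ N)
    (g : G) (hg1 : g ≠ 1) (a b : Ω) (hab : a ≠ b) (ha : g • a = a) : g • b ≠ b := by
  intro hb
  have hgN : g ∉ N := fun h => hg1 (by
    have : (⟨g, h⟩ : N) ∈ stabilizer N a := ha
    rw [hreg a, Subgroup.mem_bot] at this
    exact congrArg Subtype.val this)
  have hga' : g⁻¹ • a = a := by rw [inv_smul_eq_iff, ha]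
  have hsurj : Function.Surjective (fun u : N => u * (MulAut.conjNormal g u)⁻¹) := by
    intro t
    set m' : N := MulAut.conjNormal g⁻¹ t with hm'
    have hnotder : ¬ ∀ ω : Ω, (g * (m' : G)) • ω ≠ ω := by
      intro h
      have h1 := hDN _ h
      apply hgN
      have h2 := N.mul_mem h1 (N.inv_mem m'.2)
      simpa using h2
    push Not at hnotder
    obtain ⟨c, hc⟩ := hnotder
    obtain ⟨u, rfl⟩ := exists_smul_eq N a c
    refine ⟨u, ?_⟩
    have hw : (MulAut.conjNormal g (m' * u)) • a = u • a := by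
      show ((MulAut.conjNormal g (m' * u) : N) : G) • a = (u : G) • a
      rw [MulAut.conjNormal_apply, mul_smul, hga', Subgroup.coe_mul, ← mul_assoc, mul_smul]
      exact hc
    have hst : u⁻¹ * MulAut.conjNormal g (m' * u) ∈ stabilizer N a := by
      rw [mem_stabilizer_iff, mul_smul, hw, inv_smul_smul]
    rw [hreg a, Subgroup.mem_bot, inv_mul_eq_one] at hst
    have ht : MulAut.conjNormal g m' = t := by
      rw [hm', ← MulAut.mul_apply, ← map_mul, mul_inv_cancel, map_one]; rfl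
    rw [map_mul, ht] at hst
    exact mul_inv_eq_of_eq_mul hst
  have hinj := Finite.injective_iff_surjective.mpr hsurj
  obtain ⟨v, hv⟩ := exists_smul_eq N a b
  have hφv : MulAut.conjNormal g v = v := by
    have hw : (MulAut.conjNormal g v) • a = v • a := by
      show ((MulAut.conjNormal g v : N) : G) • a = (v : G) • a
      rw [MulAut.conjNormal_apply, mul_smul, hga', mul_smul]
      have hv' : (v : G) • a = b := hv
      rw [hv', hb]
    have hst : v⁻¹ * MulAut.conjNormal g v ∈ stabilizer N a := by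
      rw [mem_stabilizer_iff, mul_smul, hw, inv_smul_smul]
    rw [hreg a, Subgroup.mem_bot, inv_mul_eq_one] at hst
    exact hst.symm
  have hv1 : v = 1 := by
    apply hinj
    show v * (MulAut.conjNormal g v)⁻¹ = 1 * (MulAut.conjNormal g 1)⁻¹
    rw [hφv, map_one]; simp
  apply hab
  rw [← hv, hv1, one_smul]

/-- a minimal normal subgroup all of whose nonidentity elements are conjugate is abelian -/
theorem abelian_of_conj (N : Subgroup G) [N.Normal] (hN : N ≠ ⊥)
    (hmin : ∀ M : Subgroup G, M.Normal → M ≤ N → M = ⊥ ∨ M = N)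
    (hconj : ∀ n n' : N, n ≠ 1 → n' ≠ 1 → ∃ g : G, MulAut.conjNormal g n = n') :
    ∀ x y : N, x * y = y * x := by
  have : Nontrivial N := (Subgroup.nontrivial_iff_ne_bot N).mpr hN
  have hcard : Nat.card N ≠ 1 := by
    intro h
    exact not_subsingleton N ((Nat.card_eq_one_iff_unique.mp h).1)
  obtain ⟨p, hp, hpd⟩ := Nat.exists_prime_and_dvd hcard
  have := Fact.mk hp
  obtain ⟨x, hx⟩ := exists_prime_orderOf_dvd_card' p hpd
  have hx1 : x ≠ 1 := by
    intro h; rw [h, orderOf_one] at hx; exact hp.one_lt.ne hx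
  have hexp : ∀ n : N, n ^ p = 1 := by
    intro n
    by_cases hn : n = 1
    · rw [hn, one_pow]
    · obtain ⟨g, hg⟩ := hconj x n hx1 hn
      rw [← hg, ← map_pow, ← hx, pow_orderOf_eq_one, map_one]
  have hpg : IsPGroup p N := fun n => ⟨1, by rw [pow_one]; exact hexp n⟩
  have hZ : Nontrivial (Subgroup.center N) := hpg.center_nontrivial
  have hZchar := min_invariant N hmin (Subgroup.center N) (fun g k hk =>
    (Subgroup.characteristic_iff_map_le.mp inferInstance (MulAut.conjNormal g))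
      (Subgroup.mem_map_of_mem _ hk))
  rcases hZchar with h | h
  · exact absurd h ((Subgroup.nontrivial_iff_ne_bot _).mp hZ)
  · intro x y
    have hy : y ∈ Subgroup.center N := by rw [h]; trivial
    exact (Subgroup.mem_center_iff.mp hy x)

/-- the regular case: `G` is sharply 2-transitive -/
theorem regular_case' (N : Subgroup G) [N.Normal] [IsPretransitive N Ω] (hN : N ≠ ⊥)
    (hmin : ∀ M : Subgroup G, M.Normal → M ≤ N → M = ⊥ ∨ M = N)
    (hreg : ∀ a : Ω, stabilizer N a = ⊥)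
    (hDN : ∀ g : G, (∀ ω : Ω, g • ω ≠ ω) → g ∈ N)
    (hDconj : ∀ g h : G, (∀ ω : Ω, g • ω ≠ ω) → (∀ ω : Ω, h • ω ≠ ω) → IsConj g h) :
    IsMultiplyPretransitive G Ω 2 ∧
      ∀ g : G, g ≠ 1 → ∀ a b : Ω, a ≠ b → g • a = a → g • b ≠ b := by
  refine ⟨?_, fun g hg1 a b hab ha => semiregular_stabilizer N hreg hDN g hg1 a b hab ha⟩
  have hder : ∀ n : N, n ≠ 1 → ∀ ω : Ω, (n : G) • ω ≠ ω := by
    intro n hn ω h
    apply hn
    have : n ∈ stabilizer N ω := h
    rw [hreg ω, Subgroup.mem_bot] at this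
    exact this
  have hconj : ∀ n n' : N, n ≠ 1 → n' ≠ 1 → ∃ g : G, MulAut.conjNormal g n = n' := by
    intro n n' hn hn'
    obtain ⟨c, hc⟩ := isConj_iff.mp (hDconj n n' (hder n hn) (hder n' hn'))
    exact ⟨c, Subtype.ext (by rw [MulAut.conjNormal_apply]; exact hc)⟩
  have hab := abelian_of_conj N hN hmin hconj
  have key : ∀ a b b' : Ω, b ≠ a → b' ≠ a → ∃ k : G, k • a = a ∧ k • b = b' := by
    intro a b b' hb hb'
    obtain ⟨v, hv⟩ := exists_smul_eq N a b
    obtain ⟨v', hv'⟩ := exists_smul_eq N a b'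
    have hv1 : v ≠ 1 := by rintro rfl; rw [one_smul] at hv; exact hb hv.symm
    have hv'1 : v' ≠ 1 := by rintro rfl; rw [one_smul] at hv'; exact hb' hv'.symm
    obtain ⟨h, hh⟩ := hconj v v' hv1 hv'1
    obtain ⟨u, hu⟩ := exists_smul_eq N a (h • a)
    have hu' : (u : G) • a = h • a := hu
    have hka : ((u : G)⁻¹ * h) • a = a := by
      rw [mul_smul, ← hu', inv_smul_smul]
    refine ⟨(u : G)⁻¹ * h, hka, ?_⟩
    have hh' : h * (v : G) * h⁻¹ = (v' : G) := by
      rw [← hh, MulAut.conjNormal_apply]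
    have hcomm : ((u⁻¹ : N) : G) * (v' : G) = (v' : G) * ((u⁻¹ : N) : G) := by
      have := congrArg Subtype.val (hab u⁻¹ v')
      simpa using this
    have e1 : (u : G)⁻¹ * h * (v : G) = (v' : G) * ((u : G)⁻¹ * h) := by
      have : (u : G)⁻¹ * h * (v : G) = (u : G)⁻¹ * (h * (v : G) * h⁻¹) * h := by group
      rw [this, hh']
      rw [Subgroup.coe_inv] at hcomm
      rw [hcomm, mul_assoc]
    have hv2 : (v : G) • a = b := hv
    have hv2' : (v' : G) • a = b' := hv'
    rw [← hv2, ← mul_smul, e1, mul_smul, hka, hv2']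
  rw [is_two_pretransitive_iff]
  intro a b c d hab' hcd
  obtain ⟨h₀, hh₀⟩ := exists_smul_eq N a c
  have hh₀' : (h₀ : G) • a = c := hh₀
  have hne : (h₀ : G)⁻¹ • d ≠ a := by
    intro h
    apply hcd
    rw [← hh₀', ← h, smul_inv_smul]
  obtain ⟨k, hka, hkb⟩ := key a b ((h₀ : G)⁻¹ • d) (Ne.symm hab') hne
  refine ⟨(h₀ : G) * k, ?_, ?_⟩
  · rw [mul_smul, hka, hh₀']
  · rw [mul_smul, hkb, smul_inv_smul]

/-- transitive abelian faithful groups are regular -/
theorem regular_of_abelian (N : Subgroup G) [IsPretransitive N Ω]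
    (hab : ∀ x y : N, x * y = y * x) (a : Ω) : stabilizer N a = ⊥ := by
  rw [eq_bot_iff]
  intro n hn
  have hna : n • a = a := hn
  have hall : ∀ ω : Ω, (n : G) • ω = ω := by
    intro ω
    obtain ⟨m, rfl⟩ := exists_smul_eq N a ω
    show n • (m • a) = m • a
    rw [smul_smul, hab n m, ← smul_smul, hna]
  have : (n : G) = 1 := FaithfulSMul.eq_of_smul_eq_smul (α := Ω) (fun w => by
    rw [one_smul]; exact hall w)
  exact Subgroup.mem_bot.mpr (Subtype.ext (by simpa using this))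

/-- the case of a simple (nonabelian) minimal normal subgroup -/
theorem simple_false [hprim : IsPreprimitive G Ω] (N : Subgroup G) [N.Normal]
    (hnas : ¬ ∃ T : Subgroup G, T.Normal ∧ IsSimpleGroup T ∧ ¬ IsMulCommutative T ∧
      Subgroup.centralizer (T : Set G) = ⊥)
    (hnab : ¬ ∀ x y : N, x * y = y * x) (hs : IsSimpleGroup N)
    (a : Ω) (hna : stabilizer N a ≠ ⊥) : False := by
  have hZne : Subgroup.centralizer (N : Set G) ≠ ⊥ := by
    intro h
    apply hnas
    refine ⟨N, inferInstance, hs, ?_, h⟩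
    intro hc
    exact hnab (fun x y => (isMulCommutative_iff.mp hc) x y)
  have hZn : (Subgroup.centralizer (N : Set G)).Normal := Subgroup.normal_centralizer
  exact hna (stabilizer_eq_bot_of_commute N (Subgroup.centralizer (N : Set G)) hZne
    (fun m hm c hc => Subgroup.mem_centralizer_iff.mp hc m hm) a)

/-- the case of a nonsimple, centerless minimal normal subgroup -/
theorem nonsimple_false (N : Subgroup G) [N.Normal] [IsPretransitive N Ω]
    (hmin : ∀ M : Subgroup G, M.Normal → M ≤ N → M = ⊥ ∨ M = N)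
    (hcenter : Subgroup.center N = ⊥)
    (hDN : ∀ g : G, (∀ ω : Ω, g • ω ≠ ω) → g ∈ N)
    (hDconj : ∀ g h : G, (∀ ω : Ω, g • ω ≠ ω) → (∀ ω : Ω, h • ω ≠ ω) → IsConj g h)
    (M : Subgroup N) [hMn : M.Normal] (hMne : M ≠ ⊥) (hMtop : M ≠ ⊤)
    (hMmin : ∀ K : Subgroup N, K.Normal → K ≠ ⊥ → K ≤ M → M ≤ K) : False := by
  set C : Subgroup N := Subgroup.centralizer (M : Set N) with hC
  have hCn : C.Normal := Subgroup.normal_centralizer
  have hMC : M ⊔ C = ⊤ := sup_centralizer_eq_top N hmin M hMne hMmin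
  have hcomm : ∀ m ∈ M, ∀ c ∈ C, m * c = c * m :=
    fun m hm c hc => Subgroup.mem_centralizer_iff.mp hc m hm
  have hMCbot : M ⊓ C = ⊥ := by
    by_contra hI
    have hle : M ≤ M ⊓ C := hMmin _ (Subgroup.normal_inf_normal _ _) hI inf_le_left
    have hMleC : M ≤ C := hle.trans inf_le_right
    have hCtop : C = ⊤ := by rw [← hMC]; exact (sup_eq_right.mpr hMleC).symm
    apply hMne
    rw [eq_bot_iff, ← hcenter]
    intro m hm
    rw [Subgroup.mem_center_iff]
    intro n
    have : n ∈ C := by rw [hCtop]; trivial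
    exact (hcomm m hm n this).symm
  have hdecomp : ∀ n : N, ∃ m ∈ M, ∃ c ∈ C, n = m * c := by
    intro n
    have : n ∈ ((M ⊔ C : Subgroup N) : Set N) := by rw [hMC]; trivial
    rw [Subgroup.mul_normal M C] at this
    obtain ⟨m, hm, c, hc, rfl⟩ := Set.mem_mul.mp this
    exact ⟨m, hm, c, hc, rfl⟩
  have hex : ∃ g₁ : G, conjSub N M g₁ ≠ M := by
    by_contra hall; push Not at hall
    rcases min_invariant N hmin M (fun g k hk => by
      have := mem_conjSub N M g hk; rwa [hall g] at this) with h | h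
    · exact hMne h
    · exact hMtop h
  by_cases hMt : IsPretransitive M Ω
  · obtain ⟨g₁, hg₁⟩ := hex
    have hle : conjSub N M g₁ ≤ C := (conjSub_dichotomy N M hMmin g₁).resolve_left hg₁
    have hMreg : ∀ ω : Ω, ∀ m ∈ M, (m : G) • ω = ω → m = 1 := by
      intro ω m hm hmω
      have hall : ∀ ω' : Ω, (m : G) • ω' = ω' := by
        intro ω'
        obtain ⟨m₂, hm₂⟩ := hMt.exists_smul_eq (g₁⁻¹ • ω) (g₁⁻¹ • ω')
        have hy : MulAut.conjNormal g₁ (m₂ : N) ∈ C := hle (mem_conjSub N M g₁ m₂.2)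
        have hyω : ((MulAut.conjNormal g₁ (m₂ : N) : N) : G) • ω = ω' := by
          rw [MulAut.conjNormal_apply, mul_smul, mul_smul]
          have : ((m₂ : N) : G) • g₁⁻¹ • ω = g₁⁻¹ • ω' := hm₂
          rw [this, smul_inv_smul]
        have hc := hcomm m hm _ hy
        have hc' : (m : G) * ((MulAut.conjNormal g₁ (m₂ : N) : N) : G) =
            ((MulAut.conjNormal g₁ (m₂ : N) : N) : G) * (m : G) := by
          have := congrArg Subtype.val hc; simpa using this
        rw [← hyω, ← mul_smul, hc', mul_smul, hmω]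
      have : (m : G) = 1 := FaithfulSMul.eq_of_smul_eq_smul (α := Ω) (fun w => by
        rw [one_smul]; exact hall w)
      exact Subtype.ext (by simpa using this)
    have : Nontrivial M := (Subgroup.nontrivial_iff_ne_bot M).mpr hMne
    have hcard : Nat.card M ≠ 1 := by
      intro h
      exact not_subsingleton M ((Nat.card_eq_one_iff_unique.mp h).1)
    obtain ⟨p, hp, hpd⟩ := Nat.exists_prime_and_dvd hcard
    have := Fact.mk hp
    obtain ⟨x₀, hx₀⟩ := exists_prime_orderOf_dvd_card' p hpd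
    have hx₀1 : x₀ ≠ 1 := by
      intro h; rw [h, orderOf_one] at hx₀; exact hp.one_lt.ne hx₀
    have hder : ∀ m : M, m ≠ 1 → ∀ ω : Ω, ((m : N) : G) • ω ≠ ω := by
      intro m hm ω h
      exact hm (Subtype.ext (hMreg ω m m.2 h))
    have hexp : ∀ m : M, m ^ p = 1 := by
      intro m
      by_cases hm : m = 1
      · rw [hm, one_pow]
      · obtain ⟨c, hc⟩ := isConj_iff.mp (hDconj _ _ (hder x₀ hx₀1) (hder m hm))
        apply Subtype.ext; apply Subtype.ext
        have h1 : ((x₀ : N) : G) ^ p = 1 := by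
          have := congrArg (fun z : M => ((z : N) : G)) (pow_orderOf_eq_one x₀)
          rw [hx₀] at this
          simpa using this
        have h2 : (((m ^ p : M) : N) : G) = ((m : N) : G) ^ p := by simp
        rw [h2, ← hc, conj_pow, h1]; simp
    have hpg : IsPGroup p M := fun n => ⟨1, by rw [pow_one]; exact hexp n⟩
    have hZ : Nontrivial (Subgroup.center M) := hpg.center_nontrivial
    obtain ⟨z, hz⟩ := exists_ne (1 : Subgroup.center M)
    have hzC : ((z : M) : N) ∈ C := by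
      rw [hC, Subgroup.mem_centralizer_iff]
      intro h hh
      have := Subgroup.mem_center_iff.mp z.2 ⟨h, hh⟩
      exact congrArg Subtype.val this
    have hzMC : ((z : M) : N) ∈ M ⊓ C := ⟨(z : M).2, hzC⟩
    rw [hMCbot, Subgroup.mem_bot] at hzMC
    apply hz
    exact Subtype.ext (Subtype.ext hzMC)
  · -- `M` intransitive
    obtain ⟨m₁, hm₁⟩ := (Subgroup.ne_bot_iff_exists_ne_one).mp hMne
    obtain ⟨ω₁, hω₁⟩ : ∃ ω₁ : Ω, (m₁ : M) • ω₁ ≠ ω₁ := by
      by_contra hcon; push Not at hcon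
      apply hm₁
      have : ((m₁ : N) : G) = 1 := FaithfulSMul.eq_of_smul_eq_smul (α := Ω) (fun w => by
        rw [one_smul]; exact hcon w)
      exact Subtype.ext (Subtype.ext (by simpa using this))
    have hntB : Nontrivial (orbit M ω₁) :=
      ⟨⟨⟨ω₁, mem_orbit_self ω₁⟩, ⟨m₁ • ω₁, mem_orbit ω₁ m₁⟩,
        fun h => hω₁ (congrArg Subtype.val h).symm⟩⟩
    obtain ⟨x, hx⟩ := exists_derangement (H := M) (Ω := orbit M ω₁)
    have hxB : ∀ ω ∈ orbit M ω₁, (x : M) • ω ≠ ω := by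
      intro ω hω h
      exact hx ⟨ω, hω⟩ (Subtype.ext h)
    have hxder : ∀ ω : Ω, ((x : N) : G) • ω ≠ ω := by
      intro ω
      obtain ⟨n, rfl⟩ := exists_smul_eq N ω₁ ω
      obtain ⟨m, hm, c, hc, rfl⟩ := hdecomp n
      intro h
      have hmc := hcomm m hm c hc
      have hxc := hcomm x x.2 c hc
      apply hxB ((⟨m, hm⟩ : M) • ω₁) (mem_orbit ω₁ _)
      have h' : (x : N) • ((m * c) • ω₁) = (m * c) • ω₁ := h
      rw [hmc, mul_smul, smul_smul, hxc, ← smul_smul] at h'
      exact (MulAction.injective c) h'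
    have hDMC : ∀ y : G, (∀ ω : Ω, y • ω ≠ ω) →
        ∃ hy : y ∈ N, (⟨y, hy⟩ : N) ∈ M ∨ (⟨y, hy⟩ : N) ∈ C := by
      intro y hyD
      obtain ⟨h, hh⟩ := isConj_iff.mp (hDconj _ y hxder hyD)
      have hyN := hDN y hyD
      refine ⟨hyN, ?_⟩
      have hmem : (⟨y, hyN⟩ : N) ∈ conjSub N M h := by
        have := mem_conjSub N M h x.2
        convert this using 1
        exact Subtype.ext (by rw [MulAut.conjNormal_apply]; exact hh.symm)
      rcases conjSub_dichotomy N M hMmin h with e | e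
      · left; rw [← e]; exact hmem
      · right; exact e hmem
    have hc₁ : ∃ c₁ : C, c₁ • (orbit M ω₁) ≠ orbit M ω₁ := by
      by_contra hcon; push Not at hcon
      apply hMt
      have hBinv : ∀ n : N, n • ω₁ ∈ orbit M ω₁ := by
        intro n
        obtain ⟨m, hm, c, hc, rfl⟩ := hdecomp n
        have h1 : (c : N) • ω₁ ∈ orbit M ω₁ := by
          have : (⟨c, hc⟩ : C) • ω₁ ∈ (⟨c, hc⟩ : C) • orbit M ω₁ :=
            Set.smul_mem_smul_set (mem_orbit_self ω₁)
          rw [hcon ⟨c, hc⟩] at this; exact this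
        rw [mul_smul]
        obtain ⟨m', hm'⟩ := h1
        have hm'' : (m' : N) • ω₁ = c • ω₁ := hm'
        rw [← hm'']
        exact ⟨⟨m, hm⟩ * m', by simp only [mul_smul]; rfl⟩
      refine ⟨fun ω ω' => ?_⟩
      obtain ⟨n, rfl⟩ := exists_smul_eq N ω₁ ω
      obtain ⟨n', rfl⟩ := exists_smul_eq N ω₁ ω'
      obtain ⟨m, hm⟩ := hBinv n
      obtain ⟨m', hm'⟩ := hBinv n'
      have hm2 : m • ω₁ = n • ω₁ := hm
      have hm2' : m' • ω₁ = n' • ω₁ := hm'
      exact ⟨m' * m⁻¹, by rw [← hm2, ← hm2', mul_smul, inv_smul_smul]⟩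
    obtain ⟨c₁, hc₁⟩ := hc₁
    have hnt𝔅 : Nontrivial (orbit C (orbit M ω₁)) :=
      ⟨⟨⟨orbit M ω₁, mem_orbit_self _⟩, ⟨c₁ • orbit M ω₁, mem_orbit _ c₁⟩,
        fun h => hc₁ (congrArg Subtype.val h).symm⟩⟩
    obtain ⟨c₀, hc₀⟩ := exists_derangement (H := C) (Ω := orbit C (orbit M ω₁))
    have hc₀' : ∀ c : C, c₀ • (c • orbit M ω₁) ≠ c • orbit M ω₁ := by
      intro c h
      exact hc₀ ⟨c • orbit M ω₁, mem_orbit _ c⟩ (Subtype.ext h)
    have horb : ∀ c : C, c • orbit M ω₁ = orbit M ((c : N) • ω₁) := by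
      intro c
      exact smul_orbit_eq_orbit_smul M ω₁ (c : N)
    have hzder : ∀ ω : Ω, (((x : N) : G) * ((c₀ : N) : G)) • ω ≠ ω := by
      intro ω h
      obtain ⟨n, rfl⟩ := exists_smul_eq N ω₁ ω
      obtain ⟨m, hm, c, hc, rfl⟩ := hdecomp n
      have h' : (x : N) • ((c₀ : N) • ((m * c) • ω₁)) = (m * c) • ω₁ := by
        rw [mul_smul] at h; exact h
      -- ω ∈ orbit M (c • ω₁)
      have hω1 : (m * c) • ω₁ ∈ orbit M ((c : N) • ω₁) := by
        rw [mul_smul]; exact ⟨⟨m, hm⟩, rfl⟩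
      -- c₀ • ω ∈ orbit M (c₀ • c • ω₁)
      have hω2 : (c₀ : N) • ((m * c) • ω₁) ∈ orbit M (((c₀ : N) * c) • ω₁) := by
        have hcc := hcomm m hm (c₀ : N) c₀.2
        have e : (c₀ : N) • ((m * c) • ω₁) = m • (((c₀ : N) * c) • ω₁) := by
          rw [smul_smul, smul_smul, ← mul_assoc, ← hcc, mul_assoc]
        rw [e]
        exact ⟨⟨m, hm⟩, rfl⟩
      have hω3 : (x : N) • ((c₀ : N) • ((m * c) • ω₁)) ∈ orbit M (((c₀ : N) * c) • ω₁) :=
        mem_orbit_of_mem_orbit x hω2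
      rw [h'] at hω3
      have e1 : orbit M ((m * c) • ω₁) = orbit M ((c : N) • ω₁) := orbit_eq_iff.mpr hω1
      have e2 : orbit M ((m * c) • ω₁) = orbit M (((c₀ : N) * c) • ω₁) := orbit_eq_iff.mpr hω3
      apply hc₀' ⟨c, hc⟩
      rw [horb ⟨c, hc⟩]
      have : c₀ • orbit M ((c : N) • ω₁) = (c₀ * ⟨c, hc⟩ : C) • orbit M ω₁ := by
        rw [mul_smul, horb ⟨c, hc⟩]
      rw [this, horb, ← e1, e2]; rfl
    obtain ⟨hzN, hz⟩ := hDMC _ hzder
    have hzeq : (⟨((x : N) : G) * ((c₀ : N) : G), hzN⟩ : N) = (x : N) * (c₀ : N) :=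
      Subtype.ext rfl
    rw [hzeq] at hz
    rcases hz with hz | hz
    · have h1 : (c₀ : N) ∈ M := by
        have := M.mul_mem (M.inv_mem x.2) hz; simpa using this
      have h2 : (c₀ : N) ∈ M ⊓ C := ⟨h1, c₀.2⟩
      rw [hMCbot, Subgroup.mem_bot] at h2
      apply hc₀' 1
      have : c₀ = 1 := Subtype.ext h2
      rw [this, one_smul]
    · have h1 : (x : N) ∈ C := by
        have := C.mul_mem hz (C.inv_mem c₀.2); simpa using this
      have h2 : (x : N) ∈ M ⊓ C := ⟨x.2, h1⟩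
      rw [hMCbot, Subgroup.mem_bot] at h2
      exact hxder ω₁ (by rw [h2]; simp)

theorem forward [IsPreprimitive G Ω] [Nontrivial Ω]
    (hnas : ¬ ∃ T : Subgroup G, T.Normal ∧ IsSimpleGroup T ∧ ¬ IsMulCommutative T ∧
      Subgroup.centralizer (T : Set G) = ⊥)
    (hDconj : ∀ g h : G, (∀ ω : Ω, g • ω ≠ ω) → (∀ ω : Ω, h • ω ≠ ω) → IsConj g h) :
    IsMultiplyPretransitive G Ω 2 ∧
      ∀ g : G, g ≠ 1 → ∀ a b : Ω, a ≠ b → g • a = a → g • b ≠ b := by
  have hGnt : (⊤ : Subgroup G) ≠ ⊥ := by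
    obtain ⟨a, b, hab⟩ := exists_pair_ne Ω
    obtain ⟨g, hg⟩ := exists_smul_eq G a b
    intro h
    have : g ∈ (⊥ : Subgroup G) := by rw [← h]; trivial
    rw [Subgroup.mem_bot] at this
    rw [this, one_smul] at hg
    exact hab hg
  obtain ⟨N, ⟨hNn, hNne⟩, hNmin⟩ := exists_minimal_of_wellFoundedLT
    (fun K : Subgroup G => K.Normal ∧ K ≠ ⊥) ⟨⊤, inferInstance, hGnt⟩
  have hmin : ∀ M : Subgroup G, M.Normal → M ≤ N → M = ⊥ ∨ M = N := by
    intro M hM hle
    by_cases h : M = ⊥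
    · left; exact h
    · right; exact le_antisymm hle (hNmin ⟨hM, h⟩ hle)
  have hNt : IsPretransitive N Ω :=
    IsQuasiPreprimitive.isPretransitive_of_normal (fixedPoints_ne_univ N hNne)
  obtain ⟨x, hx⟩ := exists_derangement (H := N) (Ω := Ω)
  have hDN : ∀ g : G, (∀ ω : Ω, g • ω ≠ ω) → g ∈ N := by
    intro g hg
    obtain ⟨c, hc⟩ := isConj_iff.mp (hDconj (x : G) g hx hg)
    rw [← hc]; exact hNn.conj_mem _ x.2 c
  by_cases hreg : ∀ a : Ω, stabilizer N a = ⊥
  · exact regular_case' N hNne hmin hreg hDN hDconj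
  · exfalso
    push Not at hreg
    obtain ⟨a, hna⟩ := hreg
    have hnab : ¬ ∀ x y : N, x * y = y * x := fun h => hna (regular_of_abelian N h a)
    have hcenter : Subgroup.center N = ⊥ := by
      rcases min_invariant N hmin (Subgroup.center N) (fun g k hk =>
        (Subgroup.characteristic_iff_map_le.mp inferInstance (MulAut.conjNormal g))
          (Subgroup.mem_map_of_mem _ hk)) with h | h
      · exact h
      · exfalso; apply hnab; intro x y
        have hy : y ∈ Subgroup.center N := by rw [h]; trivial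
        exact (Subgroup.mem_center_iff.mp hy x)
    by_cases hs : IsSimpleGroup N
    · exact simple_false N hnas hnab hs a hna
    · have : Nontrivial N := (Subgroup.nontrivial_iff_ne_bot N).mpr hNne
      have hM₀ : ∃ M₀ : Subgroup N, M₀.Normal ∧ M₀ ≠ ⊥ ∧ M₀ ≠ ⊤ := by
        by_contra hcon; push Not at hcon
        exact hs ⟨fun H hH => by
          by_cases h : H = ⊥
          · exact Or.inl h
          · exact Or.inr (hcon H hH h)⟩
      obtain ⟨M₀, hM₀n, hM₀b, hM₀t⟩ := hM₀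
      obtain ⟨M, hMle, ⟨hMn, hMne⟩, hMmin'⟩ := exists_minimal_le_of_wellFoundedLT
        (fun K : Subgroup N => K.Normal ∧ K ≠ ⊥) M₀ ⟨hM₀n, hM₀b⟩
      have hMtop : M ≠ ⊤ := fun h => hM₀t (top_le_iff.mp (h ▸ hMle))
      exact nonsimple_false N hmin hcenter hDN hDconj M hMne hMtop
        (fun K hK hKne hKle => hMmin' ⟨hK, hKne⟩ hKle)

theorem backward [Fintype Ω] (h2 : IsMultiplyPretransitive G Ω 2)
    (hsh : ∀ g : G, g ≠ 1 → ∀ a b : Ω, a ≠ b → g • a = a → g • b ≠ b)
    (hΩ : 2 ≤ Fintype.card Ω) :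
    (∃ g : G, ∀ ω : Ω, g • ω ≠ ω) ∧
      ∀ g h : G, (∀ ω : Ω, g • ω ≠ ω) → (∀ ω : Ω, h • ω ≠ ω) → IsConj g h := by
  classical
  have hsh' : ∀ x : Fin 2 ↪ Ω, stabilizer G x = ⊥ := by
    intro x
    rw [eq_bot_iff]
    intro g hg
    rw [Subgroup.mem_bot]
    by_contra hg1
    have h0 : g • x 0 = x 0 := by
      have := congrArg (fun y : Fin 2 ↪ Ω => y 0) (mem_stabilizer_iff.mp hg)
      simpa using this
    have h1 : g • x 1 = x 1 := by
      have := congrArg (fun y : Fin 2 ↪ Ω => y 1) (mem_stabilizer_iff.mp hg)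
      simpa using this
    exact hsh g hg1 (x 0) (x 1) (fun h => by simpa using x.injective h) h0 h1
  have hNS := Cfsg.Agent.Lib.Helper12_Sharp2.ncard_NS h2 hsh' hΩ
  obtain ⟨x₀, hx₀NS, hx₀1⟩ := Set.exists_ne_of_one_lt_ncard
    (s := Cfsg.Agent.Lib.Helper12_Sharp2.NS G Ω) (by omega) 1
  have hx₀ : Cfsg.Agent.Lib.Helper12_Sharp2.Fpf G Ω x₀ := hx₀NS.resolve_left hx₀1
  have hne : Nonempty Ω := by
    rw [← Fintype.card_pos_iff]; omega
  obtain ⟨ω₀⟩ := hne
  refine ⟨⟨x₀, hx₀⟩, ?_⟩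
  intro g h hg hh
  have hg1 : g ≠ 1 := by rintro rfl; exact hg ω₀ (one_smul _ _)
  have hh1 : h ≠ 1 := by rintro rfl; exact hh ω₀ (one_smul _ _)
  obtain ⟨-, hkey⟩ := Cfsg.Agent.Lib.Helper12_Sharp2.key h2 hsh' hΩ hg1 hg
  obtain ⟨c, hc⟩ := hkey h hh1 hh
  exact isConj_iff.mpr ⟨c, hc⟩

end main

/-- Let a finite group G act faithfully and primitively on a finite set Ω with at least two points, and suppose G is not almost simple (it has no non-abelian simple normal subgroup with trivial centralizer). Then the derangements of G form a single conjugacy class if and only if G is sharply 2-transitive (2-transitive, and no non-identity element fixes two points). -/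
theorem result {G : Type*} [Group G] [Finite G] {Ω : Type*} [Fintype Ω] [MulAction G Ω] [FaithfulSMul G Ω] (hΩ : 2 ≤ Fintype.card Ω) (hprim : MulAction.IsPreprimitive G Ω) (hnas : ¬ ∃ T : Subgroup G, T.Normal ∧ IsSimpleGroup T ∧ ¬ IsMulCommutative T ∧ Subgroup.centralizer (T : Set G) = ⊥) :
    Nat.card {c : ConjClasses G // ∃ g : G, ConjClasses.mk g = c ∧ ∀ ω : Ω, g • ω ≠ ω} = 1 ↔ (MulAction.IsMultiplyPretransitive G Ω 2 ∧ ∀ g : G, g ≠ 1 → ∀ a b : Ω, a ≠ b → g • a = a → g • b ≠ b) := by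
  have hnt : Nontrivial Ω := Fintype.one_lt_card_iff_nontrivial.mp (by omega)
  have hequiv : Nat.card {c : ConjClasses G // ∃ g : G, ConjClasses.mk g = c ∧
      ∀ ω : Ω, g • ω ≠ ω} = 1 ↔ ((∃ g : G, ∀ ω : Ω, g • ω ≠ ω) ∧
      ∀ g h : G, (∀ ω : Ω, g • ω ≠ ω) → (∀ ω : Ω, h • ω ≠ ω) → IsConj g h) := by
    rw [Nat.card_eq_one_iff_unique]
    constructor
    · rintro ⟨hss, ⟨⟨c, g, hgc, hg⟩⟩⟩
      refine ⟨⟨g, hg⟩, fun g₁ g₂ h₁ h₂ => ?_⟩
      have := hss.elim ⟨ConjClasses.mk g₁, g₁, rfl, h₁⟩ ⟨ConjClasses.mk g₂, g₂, rfl, h₂⟩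
      exact ConjClasses.mk_eq_mk_iff_isConj.mp (congrArg Subtype.val this)
    · rintro ⟨⟨g, hg⟩, hconj⟩
      refine ⟨⟨?_⟩, ⟨⟨ConjClasses.mk g, g, rfl, hg⟩⟩⟩
      rintro ⟨c₁, g₁, rfl, h₁⟩ ⟨c₂, g₂, rfl, h₂⟩
      exact Subtype.ext (ConjClasses.mk_eq_mk_iff_isConj.mpr (hconj g₁ g₂ h₁ h₂))
  rw [hequiv]
  constructor
  · rintro ⟨-, hconj⟩
    exact forward hnas hconj
  · rintro ⟨h2, hsh⟩
    exact backward h2 hsh hΩ

end Cfsg.Agent.S3501
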