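import Cfsg.Statements.S3504

set_option autoImplicit false
set_option linter.style.haveILetI false
open Cfsg

namespace Cfsg.Agent.S3504

open Equiv Equiv.Perm

/-- a fixed-point-free permutation of prime order `p` on `Fin n` has cycle type
`replicate (n / p) p`, and `p ∣ n`. -/
theorem cycleType_of_derangement {n : ℕ} (g : Perm (Fin n)) (hg : (orderOf g).Prime)
    (hfix : ∀ i : Fin n, g i ≠ i) :
    orderOf g ∣ n ∧ g.cycleType = Multiset.replicate (n / orderOf g) (orderOf g) := by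
  obtain ⟨k, hk⟩ := cycleType_prime_order hg
  have hsupp : g.support = Finset.univ := by
    ext i; simp [hfix i]
  have hsum : g.cycleType.sum = n := by
    rw [sum_cycleType, hsupp, Finset.card_univ, Fintype.card_fin]
  rw [hk, Multiset.sum_replicate, smul_eq_mul] at hsum
  have hpos : 0 < orderOf g := hg.pos
  have hdiv : n / orderOf g = k + 1 := by
    apply Nat.div_eq_of_eq_mul_left hpos hsum.symm
  refine ⟨⟨k + 1, by rw [mul_comm]; exact hsum.symm⟩, ?_⟩
  rw [hk, hdiv]

/-- for a prime `q ∣ n` (n ≠ 0) there is a fixed-point-free permutation of order `q`. -/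
theorem exists_derangement {n : ℕ} (hn : n ≠ 0) (q : ℕ) (hq : q.Prime) (hqn : q ∣ n) :
    ∃ g : Perm (Fin n), orderOf g = q ∧ (∀ i : Fin n, g i ≠ i) ∧
      g.cycleType = Multiset.replicate (n / q) q := by
  have hm : (Multiset.replicate (n / q) q).sum = n := by
    rw [Multiset.sum_replicate, smul_eq_mul, Nat.div_mul_cancel hqn]
  obtain ⟨g, hg⟩ := (exists_with_cycleType_iff (α := Fin n) (m := Multiset.replicate (n / q) q)).mpr
    ⟨by rw [hm, Fintype.card_fin], fun a ha => by
      rw [Multiset.eq_of_mem_replicate ha]; exact hq.two_le⟩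
  haveI : Fact q.Prime := ⟨hq⟩
  have hpow : g ^ q = 1 := by
    rw [pow_prime_eq_one_iff]
    intro c hc
    rw [hg] at hc
    exact Multiset.eq_of_mem_replicate hc
  have hdivpos : 0 < n / q := Nat.div_pos (Nat.le_of_dvd (Nat.pos_of_ne_zero hn) hqn) hq.pos
  have hne : g ≠ 1 := by
    intro h1
    have : g.cycleType = 0 := cycleType_eq_zero.mpr h1
    rw [hg] at this
    have h2 := congrArg Multiset.card this
    rw [Multiset.card_replicate, Multiset.card_zero] at h2
    omega
  refine ⟨g, orderOf_eq_prime hpow hne, ?_, hg⟩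
  have hcard : g.support.card = n := by
    rw [← sum_cycleType, hg, hm]
  have hsupp : g.support = Finset.univ := by
    apply Finset.eq_univ_of_card
    rw [hcard, Fintype.card_fin]
  intro i
  have : i ∈ g.support := hsupp ▸ Finset.mem_univ i
  exact mem_support.mp this

theorem result (n : ℕ) (hn : 5 ≤ n) :
    Nat.card {c : ConjClasses (Equiv.Perm (Fin n)) // ∃ g : Equiv.Perm (Fin n), ConjClasses.mk g = c ∧ (orderOf g).Prime ∧ ∀ i : Fin n, g i ≠ i} = 1 ↔ IsPrimePow n := by
  have hn0 : n ≠ 0 := by omega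
  rw [isPrimePow_iff_unique_prime_dvd, Nat.card_eq_one_iff_unique]
  constructor
  · rintro ⟨hsub, ⟨⟨c, g, hgc, hgp, hgfix⟩⟩⟩
    obtain ⟨hdvd, hct⟩ := cycleType_of_derangement g hgp hgfix
    refine ⟨orderOf g, ⟨hgp, hdvd⟩, ?_⟩
    rintro q ⟨hq, hqn⟩
    obtain ⟨g', hg'ord, hg'fix, hg'ct⟩ := exists_derangement hn0 q hq hqn
    have heq := hsub.elim ⟨c, g, hgc, hgp, hgfix⟩
      ⟨ConjClasses.mk g', g', rfl, hg'ord ▸ hq, hg'fix⟩
    have hcc : ConjClasses.mk g = ConjClasses.mk g' := by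
      rw [hgc]; exact congrArg Subtype.val heq
    rw [ConjClasses.mk_eq_mk_iff_isConj, isConj_iff_cycleType_eq, hct, hg'ct] at hcc
    have hdivpos : 0 < n / q := Nat.div_pos (Nat.le_of_dvd (Nat.pos_of_ne_zero hn0) hqn) hq.pos
    have hmem : q ∈ Multiset.replicate (n / q) q := by
      rw [Multiset.mem_replicate]; exact ⟨by omega, rfl⟩
    rw [← hcc] at hmem
    exact Multiset.eq_of_mem_replicate hmem
  · rintro ⟨p, ⟨hp, hpn⟩, huniq⟩
    constructor
    · constructor
      rintro ⟨c1, g1, hg1c, hg1p, hg1fix⟩ ⟨c2, g2, hg2c, hg2p, hg2fix⟩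
      apply Subtype.ext
      show c1 = c2
      obtain ⟨hd1, hct1⟩ := cycleType_of_derangement g1 hg1p hg1fix
      obtain ⟨hd2, hct2⟩ := cycleType_of_derangement g2 hg2p hg2fix
      have e1 : orderOf g1 = p := huniq _ ⟨hg1p, hd1⟩
      have e2 : orderOf g2 = p := huniq _ ⟨hg2p, hd2⟩
      rw [← hg1c, ← hg2c, ConjClasses.mk_eq_mk_iff_isConj, isConj_iff_cycleType_eq, hct1, hct2, e1, e2]
    · obtain ⟨g, hgord, hgfix, -⟩ := exists_derangement hn0 p hp hpn
      exact ⟨⟨ConjClasses.mk g, g, rfl, hgord ▸ hp, hgfix⟩⟩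

end Cfsg.Agent.S3504
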