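import Cfsg.Statements.S3508

set_option autoImplicit false
set_option linter.style.haveILetI false
open Cfsg

namespace Cfsg.Agent.S3508

open Polynomial Module

theorem lemA (p : ℕ) [Fact p.Prime] {V : Type*} [AddCommGroup V] [Module (ZMod p) V]
    [Module.Finite (ZMod p) V] (A : Module.End (ZMod p) V) (r : ℕ) (hA : A ^ (p ^ r) = 1)
    (s : ℕ) (hs : finrank (ZMod p) V < p ^ s) :
    A ^ (p ^ s) = 1 ∧ ∑ i ∈ Finset.range (p ^ s), A ^ i = 0 := by
  have hpoly : ∀ n : ℕ, ((X : (ZMod p)[X]) - 1) ^ (p ^ n) = X ^ (p ^ n) - 1 := by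
    intro n
    rw [sub_pow_char_pow, one_pow]
  have haeval : ∀ n : ℕ, (A - 1) ^ (p ^ n) = A ^ (p ^ n) - 1 := by
    intro n
    have := congrArg (aeval A) (hpoly n)
    simpa using this
  have hnil : IsNilpotent (A - 1) := ⟨p ^ r, by rw [haeval, hA, sub_self]⟩
  have hfin : (A - 1) ^ finrank (ZMod p) V = 0 := by
    have h1 := hnil.charpoly_eq_X_pow_finrank
    have h2 := LinearMap.aeval_self_charpoly (A - 1)
    rw [h1] at h2
    simpa using h2
  constructor
  · have : (A - 1) ^ (p ^ s) = 0 := pow_eq_zero_of_le hs.le hfin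
    rw [haeval] at this
    exact sub_eq_zero.mp this
  · have hgeom : (∑ i ∈ Finset.range (p ^ s), (X : (ZMod p)[X]) ^ i) = (X - 1) ^ (p ^ s - 1) := by
      have h1 : (∑ i ∈ Finset.range (p ^ s), (X : (ZMod p)[X]) ^ i) * (X - 1) = (X - 1) ^ (p ^ s - 1) * (X - 1) := by
        rw [geom_sum_mul, ← pow_succ, Nat.sub_add_cancel (Nat.one_le_pow _ _ (Fact.out : p.Prime).pos), hpoly]
      have hne : (X - 1 : (ZMod p)[X]) ≠ 0 := by
        have := X_sub_C_ne_zero (1 : ZMod p)
        simpa using this
      exact mul_right_cancel₀ hne h1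
    have := congrArg (aeval A) hgeom
    simp only [map_sum, map_pow, aeval_X, map_sub, map_one] at this
    rw [this]
    exact pow_eq_zero_of_le (Nat.le_sub_one_of_lt hs) hfin

open scoped IsMulCommutative in
/-- the main claim, with the module structure given -/
theorem main' {G : Type*} [Group G] [Finite G] {Ω : Type*} [Fintype Ω] [MulAction G Ω] [FaithfulSMul G Ω] (p m : ℕ) (hp : p.Prime) (hcard : Fintype.card Ω = p ^ m)
    (N : Subgroup G) [N.Normal] [hNc : IsMulCommutative N] [Module (ZMod p) (Additive N)]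
    (hNtr : MulAction.IsPretransitive N Ω) (hNreg : ∀ ω : Ω, MulAction.stabilizer N ω = ⊥)
    (g : G) (r : ℕ) (hr : 1 ≤ r) (hg : orderOf g = p ^ r) :
    p ^ (r - 1) ≤ m := by
  haveI : Fact p.Prime := ⟨hp⟩
  by_contra hlt
  push Not at hlt
  -- a point
  have hΩ : 0 < Fintype.card Ω := by rw [hcard]; exact pow_pos hp.pos _
  obtain ⟨α⟩ : Nonempty Ω := Fintype.card_pos_iff.mp hΩ
  -- card N = p ^ m
  have hbij : Function.Bijective (fun n : N => n • α) := by
    constructor
    · intro n₁ n₂ h
      have : n₂⁻¹ * n₁ ∈ MulAction.stabilizer N α := by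
        rw [MulAction.mem_stabilizer_iff, mul_smul]
        simp only at h
        rw [h, inv_smul_smul]
      rw [hNreg, Subgroup.mem_bot] at this
      exact (inv_mul_eq_one.mp this).symm
    · intro ω
      exact MulAction.exists_smul_eq N α ω
  have hcardN : Nat.card N = p ^ m := by
    rw [Nat.card_congr (Equiv.ofBijective _ hbij), Nat.card_eq_fintype_card, hcard]
  haveI : Finite (Additive N) := inferInstanceAs (Finite N)
  haveI : Module.Finite (ZMod p) (Additive N) := Module.Finite.of_finite
  have hfr : finrank (ZMod p) (Additive N) = m := by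
    have h1 := Module.natCard_eq_pow_finrank (K := ZMod p) (V := Additive N)
    rw [Nat.card_zmod] at h1
    have h2 : Nat.card (Additive N) = p ^ m := hcardN
    rw [h2] at h1
    exact (Nat.pow_right_injective hp.two_le h1).symm
  -- conjugation by g as a linear map
  let cg : N →* N := (MulAut.conjNormal g : MulAut N).toMonoidHom
  let A : Module.End (ZMod p) (Additive N) := (MonoidHom.toAdditive cg).toZModLinearMap p
  have hAk : ∀ (k : ℕ) (n : N), (A ^ k) (Additive.ofMul n) = Additive.ofMul ((MulAut.conjNormal (g ^ k) : MulAut N) n) := by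
    intro k
    induction k with
    | zero => intro n; simp
    | succ k ih =>
      intro n
      rw [pow_succ', Module.End.mul_apply, ih, pow_succ', map_mul]
      rfl
  have hApr : A ^ (p ^ r) = 1 := by
    apply LinearMap.ext
    intro x
    induction x using Additive.rec with
    | _ n =>
    rw [hAk, ← hg, pow_orderOf_eq_one, map_one]
    rfl
  obtain ⟨hAq, hsum⟩ := lemA p A r hApr (r - 1) (hfr ▸ hlt)
  set q := p ^ (r - 1) with hq
  -- b with g • α = b • α
  obtain ⟨b, hb⟩ := MulAction.exists_smul_eq N α (g • α)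
  -- c k
  have hc : ∀ k : ℕ, g ^ k • α = (Additive.toMul ((∑ i ∈ Finset.range k, A ^ i) (Additive.ofMul b)) : N) • α := by
    intro k
    induction k with
    | zero => simp
    | succ k ih =>
      rw [pow_succ', mul_smul, ih]
      set c : N := Additive.toMul ((∑ i ∈ Finset.range k, A ^ i) (Additive.ofMul b)) with hcdef
      have h1 : (∑ i ∈ Finset.range (k + 1), A ^ i) (Additive.ofMul b) = A (Additive.ofMul c) + Additive.ofMul b := by
        rw [Finset.sum_range_succ', pow_zero, LinearMap.add_apply, Module.End.one_apply]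
        congr 1
        simp only [pow_succ', ← Finset.mul_sum, Module.End.mul_apply]
        rfl
      rw [h1]
      have h2 : (Additive.toMul (A (Additive.ofMul c) + Additive.ofMul b) : N) = cg c * b := rfl
      rw [h2]
      have h3 : ((cg c * b : N) : G) = g * c * g⁻¹ * b := by
        simp [cg, MulAut.conjNormal_apply]
      show g • ((c : G) • α) = ((cg c * b : N) : G) • α
      rw [h3, mul_smul, mul_smul, mul_smul]
      have hb' : (b : G) • α = g • α := hb
      rw [hb', inv_smul_smul]
  have hgq : g ^ q • α = α := by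
    rw [hc q, hsum]
    simp
  -- g ^ q acts trivially
  have htriv : ∀ ω : Ω, g ^ q • ω = ω := by
    intro ω
    obtain ⟨n, hn⟩ := MulAction.exists_smul_eq N α ω
    have h1 : (MulAut.conjNormal (g ^ q) : MulAut N) n = n := by
      have := hAk q n
      rw [hAq] at this
      exact (Additive.ofMul.injective this).symm
    have h2 : g ^ q * (n : G) = (n : G) * g ^ q := by
      have := congrArg Subtype.val h1
      rw [MulAut.conjNormal_apply] at this
      exact mul_inv_eq_iff_eq_mul.mp this
    rw [← hn]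
    show g ^ q • ((n : G) • α) = (n : G) • α
    rw [← mul_smul, h2, mul_smul, hgq]
  have hone : g ^ q = 1 := FaithfulSMul.eq_of_smul_eq_smul (α := Ω) (fun ω => by rw [htriv, one_smul])
  have hdvd : p ^ r ∣ q := hg ▸ orderOf_dvd_of_pow_eq_one hone
  rw [hq, Nat.pow_dvd_pow_iff_le_right hp.one_lt] at hdvd
  omega

open scoped IsMulCommutative in
/-- the main claim -/
theorem main {G : Type*} [Group G] [Finite G] {Ω : Type*} [Fintype Ω] [MulAction G Ω] [FaithfulSMul G Ω] (p m : ℕ) (hp : p.Prime) (hcard : Fintype.card Ω = p ^ m)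
    (N : Subgroup G) [N.Normal] (hNc : IsMulCommutative N) (hNp : ∀ n ∈ N, n ^ p = 1)
    (hNtr : MulAction.IsPretransitive N Ω) (hNreg : ∀ ω : Ω, MulAction.stabilizer N ω = ⊥)
    (g : G) (r : ℕ) (hr : 1 ≤ r) (hg : orderOf g = p ^ r) :
    p ^ (r - 1) ≤ m := by
  letI : Module (ZMod p) (Additive N) := AddCommGroup.zmodModule (n := p) (by
    intro x
    induction x using Additive.rec with
    | _ n =>
    rw [← ofMul_pow]
    have : n ^ p = 1 := Subtype.ext (by simpa using hNp n n.2)
    rw [this, ofMul_one])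
  exact main' p m hp hcard N hNtr hNreg g r hr hg

theorem result {G : Type*} [Group G] [Finite G] {Ω : Type*} [Fintype Ω] [MulAction G Ω] [FaithfulSMul G Ω] (p m : ℕ) (hp : p.Prime) (hcard : Fintype.card Ω = p ^ m)
    (N : Subgroup G) [N.Normal] (hNc : IsMulCommutative N) (hNp : ∀ n ∈ N, n ^ p = 1)
    (hNtr : MulAction.IsPretransitive N Ω) (hNreg : ∀ ω : Ω, MulAction.stabilizer N ω = ⊥)
    (g : G) (r : ℕ) (hr : 1 ≤ r) (hg : orderOf g = p ^ r) :
    p ^ (r - 1) ≤ m ∧ (r = m → m ≤ 2 ∧ (2 < p → m ≤ 1)) := by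
  have hmain := main p m hp hcard N hNc hNp hNtr hNreg g r hr hg
  refine ⟨hmain, ?_⟩
  rintro rfl
  have h2 : ∀ k : ℕ, 3 ≤ k → k < 2 ^ (k - 1) := by
    intro k hk
    induction k, hk using Nat.le_induction with
    | base => norm_num
    | succ k hk ih =>
      have : k + 1 - 1 = (k - 1) + 1 := by omega
      rw [this, pow_succ]
      omega
  constructor
  · by_contra hlt
    push Not at hlt
    have h3 := h2 r (by omega)
    have h4 : 2 ^ (r - 1) ≤ p ^ (r - 1) := Nat.pow_le_pow_left hp.two_le _
    omega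
  · intro hp2
    by_contra hlt
    push Not at hlt
    have hr2 : r = 2 ∨ 3 ≤ r := by omega
    rcases hr2 with rfl | hr3
    · simp at hmain
      omega
    · have h3 := h2 r hr3
      have h4 : 2 ^ (r - 1) ≤ p ^ (r - 1) := Nat.pow_le_pow_left hp.two_le _
      omega

end Cfsg.Agent.S3508
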