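import Cfsg.Statements.S3511

set_option autoImplicit false
open Cfsg

namespace Cfsg.Agent.S3511

open UniqueFactorizationMonoid in
/-- Let a finite group G act faithfully on a set Ω. If every element of G of square-free order has a regular cycle (an orbit of the cyclic group it generates with trivial stabilizer), then every element of G has a regular cycle. -/
theorem result {G : Type*} [Group G] [Finite G] {Ω : Type*} [MulAction G Ω] [FaithfulSMul G Ω]
    (h : ∀ g : G, Squarefree (orderOf g) → ∃ ω : Ω, MulAction.stabilizer (Subgroup.zpowers g) ω = ⊥) (g : G) :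
    ∃ ω : Ω, MulAction.stabilizer (Subgroup.zpowers g) ω = ⊥ := by
  classical
  obtain ⟨n, hn⟩ : ∃ n, n = orderOf g := ⟨_, rfl⟩
  obtain ⟨r, hr⟩ : ∃ r, r = radical n := ⟨_, rfl⟩
  have hnpos : 0 < n := hn ▸ orderOf_pos g
  have hrn : r ∣ n := hr ▸ radical_dvd_self
  have hrsq : Squarefree r := hr ▸ squarefree_radical
  have hord : orderOf (g ^ (n / r)) = r := by
    rw [hn] at hrn hnpos ⊢
    exact orderOf_pow_orderOf_div hnpos.ne' hrn
  obtain ⟨ω, hω⟩ := h (g ^ (n / r)) (hord.symm ▸ hrsq)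
  refine ⟨ω, ?_⟩
  rw [Subgroup.eq_bot_iff_forall]
  rintro ⟨y, hy⟩ hstab
  by_contra hne
  have hy1 : y ≠ 1 := fun h1 => hne (Subtype.ext h1)
  have hyω : y • ω = ω := hstab
  -- pick a prime dividing the order of y
  obtain ⟨m, hm⟩ : ∃ m, m = orderOf y := ⟨_, rfl⟩
  have hm1 : m ≠ 1 := fun h1 => hy1 (orderOf_eq_one_iff.mp (hm ▸ h1))
  obtain ⟨p, hp, hpm⟩ := Nat.exists_prime_and_dvd hm1
  have hmpos : 0 < m := hm ▸ orderOf_pos y
  -- z = y^(m/p) has order p
  have hz : orderOf (y ^ (m / p)) = p := by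
    rw [hm] at hpm hmpos ⊢
    exact orderOf_pow_orderOf_div hmpos.ne' hpm
  -- y = g^k
  obtain ⟨k, hk⟩ := (Subgroup.mem_zpowers_iff).mp hy
  -- order of y divides the order of g
  have hyg : m ∣ n := by
    rw [hm, hn]; exact orderOf_dvd_of_mem_zpowers hy
  have hpn : p ∣ n := hpm.trans hyg
  have hpr : p ∣ r := by
    rw [hr]
    exact (dvd_radical_iff_of_irreducible hp.prime.irreducible hnpos.ne').mpr hpn
  -- z is a power of g with exponent j := k * (m/p)
  have hzk : y ^ (m / p) = g ^ (k * (m / p : ℕ)) := by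
    rw [zpow_mul, hk, zpow_natCast]
  -- z^p = 1 hence orderOf g ∣ j * p
  have hzp : (g ^ (k * (m / p : ℕ))) ^ (p : ℤ) = 1 := by
    rw [← hzk, zpow_natCast]
    have := pow_orderOf_eq_one (y ^ (m / p))
    rwa [hz] at this
  rw [← zpow_mul] at hzp
  have hdiv : (n : ℤ) ∣ k * (m / p : ℕ) * p := by
    rw [hn]; exact (orderOf_dvd_iff_zpow_eq_one).mpr hzp
  -- n = (n / r) * (r / p) * p
  obtain ⟨a, ha⟩ := hrn
  obtain ⟨b, hb⟩ := hpr
  have hrpos : 0 < r := Nat.pos_of_dvd_of_pos ⟨a, ha⟩ hnpos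
  have hadiv : n / r = a := by
    rw [ha, Nat.mul_div_cancel_left _ hrpos]
  have hn' : (n : ℤ) = (a : ℤ) * b * p := by
    have : n = a * b * p := by
      calc n = r * a := ha
        _ = p * b * a := by rw [← hb]
        _ = a * b * p := by ring
    exact_mod_cast this
  have hppos : (p : ℤ) ≠ 0 := by exact_mod_cast hp.ne_zero
  have hdiv2 : (a : ℤ) * b ∣ k * (m / p : ℕ) := by
    rw [hn'] at hdiv
    exact Int.dvd_of_mul_dvd_mul_right hppos hdiv
  obtain ⟨c, hc⟩ := hdiv2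
  -- so z ∈ zpowers (g^(n/r))
  have hzmem : y ^ (m / p) ∈ Subgroup.zpowers (g ^ (n / r)) := by
    rw [Subgroup.mem_zpowers_iff]
    refine ⟨b * c, ?_⟩
    rw [hzk, hc, hadiv, ← zpow_natCast, ← zpow_mul]
    congr 1
    ring
  -- z fixes ω
  have hzω : (y ^ (m / p)) • ω = ω := by
    have : y ∈ MulAction.stabilizer G ω := hyω
    exact (MulAction.stabilizer G ω).pow_mem this _
  have hzbot : (⟨y ^ (m / p), hzmem⟩ : Subgroup.zpowers (g ^ (n / r))) ∈
      MulAction.stabilizer (Subgroup.zpowers (g ^ (n / r))) ω := hzω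
  rw [hω, Subgroup.mem_bot] at hzbot
  have hz1 : y ^ (m / p) = 1 := congrArg Subtype.val hzbot
  rw [hz1, orderOf_one] at hz
  exact hp.one_lt.ne hz

end Cfsg.Agent.S3511
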