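import Cfsg.Statements.S3514

set_option autoImplicit false
set_option linter.style.haveILetI false
open Cfsg

namespace Cfsg.Agent.S3514

open Subgroup

/-- In a finite group, if `K` is normal then `|SK : S| = |K : S ∩ K|`. -/
theorem relIndex_sup_of_normal {L : Type*} [Group L] [Finite L] (S K : Subgroup L) [K.Normal] :
    S.relIndex (S ⊔ K) = S.relIndex K := by
  have a : Nat.card S * S.relIndex (S ⊔ K) = Nat.card (S ⊔ K : Subgroup L) := by
    rw [← relIndex_bot_left, ← relIndex_bot_left, relIndex_mul_relIndex _ _ _ bot_le le_sup_left]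
  have b : Nat.card K * K.relIndex (S ⊔ K) = Nat.card (S ⊔ K : Subgroup L) := by
    rw [← relIndex_bot_left, ← relIndex_bot_left, relIndex_mul_relIndex _ _ _ bot_le le_sup_right]
  have c : K.relIndex (S ⊔ K) = K.relIndex S := relIndex_sup_right S K
  have d : Nat.card (S ⊓ K : Subgroup L) * K.relIndex S = Nat.card S := by
    rw [← inf_relIndex_left, ← relIndex_bot_left, ← relIndex_bot_left,
      relIndex_mul_relIndex _ _ _ bot_le inf_le_left]
  have e : Nat.card (S ⊓ K : Subgroup L) * S.relIndex K = Nat.card K := by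
    rw [← inf_relIndex_right, ← relIndex_bot_left, ← relIndex_bot_left,
      relIndex_mul_relIndex _ _ _ bot_le inf_le_right]
  have hS : 0 < Nat.card S := Nat.card_pos
  have key : Nat.card S * S.relIndex (S ⊔ K) = Nat.card S * S.relIndex K := by
    rw [a, ← b, c, ← e, ← d]
    ring
  exact Nat.eq_of_mul_eq_mul_left hS key

/-- The same with a normalizer hypothesis in an ambient group. -/
theorem relIndex_sup_of_le_normalizer {L : Type*} [Group L] [Finite L] (S K : Subgroup L)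
    (h : S ≤ normalizer (K : Set L)) : S.relIndex (S ⊔ K) = S.relIndex K := by
  have hle : S ⊔ K ≤ normalizer (K : Set L) := sup_le h le_normalizer
  haveI : (K.subgroupOf (S ⊔ K)).Normal :=
    (normal_subgroupOf_iff_le_normalizer le_sup_right).mpr hle
  have h1 := relIndex_sup_of_normal (S.subgroupOf (S ⊔ K)) (K.subgroupOf (S ⊔ K))
  rw [← subgroupOf_sup le_sup_left le_sup_right, relIndex_subgroupOf le_rfl,
    relIndex_subgroupOf le_sup_right] at h1
  exact h1

section
variable {p : ℕ} {V : Type*} [AddCommGroup V] [Module (ZMod p) V]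

theorem card_orbit_eq (K : Subgroup (V ≃ₗ[ZMod p] V)) (v : V) :
    Nat.card {u : V | ∃ k ∈ K, k v = u} =
      (MulAction.stabilizer (V ≃ₗ[ZMod p] V) v).relIndex K := by
  have h1 : {u : V | ∃ k ∈ K, k v = u} = MulAction.orbit K v := by
    ext u
    constructor
    · rintro ⟨k, hk, rfl⟩
      exact ⟨⟨k, hk⟩, rfl⟩
    · rintro ⟨⟨k, hk⟩, rfl⟩
      exact ⟨k, hk, rfl⟩
  have key : (MulAction.stabilizer (V ≃ₗ[ZMod p] V) v).subgroupOf K = MulAction.stabilizer K v := by
    ext; rfl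
  rw [h1, Subgroup.relIndex, key, MulAction.index_stabilizer, Nat.card_coe_set_eq]

end

theorem result (p : ℕ) [Fact p.Prime] {V : Type*} [AddCommGroup V] [Module (ZMod p) V] [Finite V]
    (H : Subgroup (V ≃ₗ[ZMod p] V)) (hH : ∀ v : V, ¬ p ∣ Nat.card {u : V | ∃ h ∈ H, h v = u}) :
    (∀ K : Subgroup (V ≃ₗ[ZMod p] V), K ≤ H → H ≤ Subgroup.normalizer (K : Set (V ≃ₗ[ZMod p] V)) →
        ∀ v : V, ¬ p ∣ Nat.card {u : V | ∃ k ∈ K, k v = u}) ∧
    (∀ N : Subgroup (V ≃ₗ[ZMod p] V), ¬ p ∣ Nat.card N → H ≤ Subgroup.normalizer (N : Set (V ≃ₗ[ZMod p] V)) →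
        ∀ v : V, ¬ p ∣ Nat.card {u : V | ∃ x ∈ N ⊔ H, x v = u}) := by
  haveI : Finite (V ≃ₗ[ZMod p] V) := Finite.of_injective (fun f => (f : V → V)) DFunLike.coe_injective
  have hp : p.Prime := Fact.out
  constructor
  · intro K hKH hHK v hdiv
    apply hH v
    rw [card_orbit_eq] at hdiv ⊢
    set S := MulAction.stabilizer (V ≃ₗ[ZMod p] V) v with hS
    -- S.relIndex K = (S ⊓ H).relIndex K = (S ⊓ H).relIndex ((S ⊓ H) ⊔ K) ∣ (S ⊓ H).relIndex H = S.relIndex H
    have h1 : (S ⊓ H).relIndex K = S.relIndex K := by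
      rw [← inf_relIndex_right, ← inf_relIndex_right (H := S), inf_assoc, inf_of_le_right hKH]
    have h2 : (S ⊓ H).relIndex ((S ⊓ H) ⊔ K) = (S ⊓ H).relIndex K :=
      relIndex_sup_of_le_normalizer _ _ (inf_le_right.trans hHK)
    have h3 : (S ⊓ H).relIndex ((S ⊓ H) ⊔ K) * ((S ⊓ H) ⊔ K).relIndex H = (S ⊓ H).relIndex H :=
      relIndex_mul_relIndex _ _ _ le_sup_left (sup_le inf_le_right hKH)
    rw [← inf_relIndex_right, ← h3, h2, h1]
    exact Dvd.dvd.mul_right hdiv _
  · intro N hN hHN v hdiv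
    rw [card_orbit_eq] at hdiv
    set S := MulAction.stabilizer (V ≃ₗ[ZMod p] V) v with hS
    have h1 : S.relIndex (N ⊔ H) ∣ (S ⊓ H).relIndex (N ⊔ H) := relIndex_dvd_of_le_left _ inf_le_left
    have h2 : (S ⊓ H).relIndex H * H.relIndex (N ⊔ H) = (S ⊓ H).relIndex (N ⊔ H) :=
      relIndex_mul_relIndex _ _ _ inf_le_right le_sup_right
    have h3 : H.relIndex (H ⊔ N) = H.relIndex N := relIndex_sup_of_le_normalizer _ _ hHN
    rw [sup_comm] at h3
    have h4 : p ∣ (S ⊓ H).relIndex H * H.relIndex (N ⊔ H) := h2 ▸ hdiv.trans h1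
    rcases hp.dvd_mul.mp h4 with h5 | h5
    · apply hH v
      rw [card_orbit_eq, ← inf_relIndex_right]
      exact h5
    · rw [h3] at h5
      exact hN (h5.trans (relIndex_dvd_card _ _))

end Cfsg.Agent.S3514
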