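import Cfsg.Statements.S3515

set_option autoImplicit false
set_option linter.style.haveILetI false
open Cfsg

namespace Cfsg.Agent.S3515

section plane
variable {F : Type*} [Field F]

/-- the determinant of two plane vectors -/
def det2 (x y : Fin 2 → F) : F := x 0 * y 1 - x 1 * y 0

theorem exists_smul_of_det2_eq_zero (x y : Fin 2 → F) (h : det2 x y = 0) (hx : x ≠ 0) :
    ∃ c : F, y = c • x := by
  unfold det2 at h
  by_cases h0 : x 0 = 0
  · have h1 : x 1 ≠ 0 := by
      intro h1
      apply hx
      funext i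
      fin_cases i <;> simp [h0, h1]
    refine ⟨y 1 / x 1, ?_⟩
    funext i
    fin_cases i
    · simp only [Fin.zero_eta, Pi.smul_apply, smul_eq_mul, h0, mul_zero]
      rw [h0, zero_mul, zero_sub, neg_eq_zero] at h
      rcases mul_eq_zero.mp h with h | h
      · exact absurd h h1
      · exact h
    · simp only [Fin.mk_one, Pi.smul_apply, smul_eq_mul]
      field_simp
  · refine ⟨y 0 / x 0, ?_⟩
    funext i
    fin_cases i
    · simp only [Fin.zero_eta, Pi.smul_apply, smul_eq_mul]
      field_simp
    · simp only [Fin.mk_one, Pi.smul_apply, smul_eq_mul]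
      field_simp
      linear_combination h

theorem exists_comb_of_det2_ne_zero (x y z : Fin 2 → F) (h : det2 x y ≠ 0) :
    ∃ s t : F, z = s • x + t • y := by
  unfold det2 at h
  refine ⟨(z 0 * y 1 - z 1 * y 0) / (x 0 * y 1 - x 1 * y 0),
    (x 0 * z 1 - x 1 * z 0) / (x 0 * y 1 - x 1 * y 0), ?_⟩
  funext i
  fin_cases i
  · simp only [Fin.zero_eta, Pi.add_apply, Pi.smul_apply, smul_eq_mul]
    rw [div_mul_eq_mul_div, div_mul_eq_mul_div, ← add_div, eq_div_iff h]
    ring
  · simp only [Fin.mk_one, Pi.add_apply, Pi.smul_apply, smul_eq_mul]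
    rw [div_mul_eq_mul_div, div_mul_eq_mul_div, ← add_div, eq_div_iff h]
    ring

theorem det2_smul_right (x y : Fin 2 → F) (c : F) : det2 x (c • y) = c * det2 x y := by
  unfold det2; simp only [Pi.smul_apply, smul_eq_mul]; ring

theorem det2_self (x : Fin 2 → F) : det2 x x = 0 := by
  unfold det2; ring

theorem coeff_eq_zero_of_det2_ne_zero (x y : Fin 2 → F) (h : det2 x y ≠ 0) (a b : F)
    (hab : a • x + b • y = 0) : a = 0 ∧ b = 0 := by
  unfold det2 at h
  have h0 : a * x 0 + b * y 0 = 0 := by simpa using congrFun hab 0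
  have h1 : a * x 1 + b * y 1 = 0 := by simpa using congrFun hab 1
  constructor
  · have : a * (x 0 * y 1 - x 1 * y 0) = 0 := by linear_combination y 1 * h0 - y 0 * h1
    rcases mul_eq_zero.mp this with h' | h'
    · exact h'
    · exact absurd h' h
  · have : b * (x 0 * y 1 - x 1 * y 0) = 0 := by linear_combination x 0 * h1 - x 1 * h0
    rcases mul_eq_zero.mp this with h' | h'
    · exact h'
    · exact absurd h' h

/-- A map of the plane fixing `0`, injective, and affine along every line, is additive. -/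
theorem additive_of_affine_on_lines (τ : (Fin 2 → F) → (Fin 2 → F)) (h0 : τ 0 = 0)
    (hinj : Function.Injective τ)
    (hline : ∀ (a b : Fin 2 → F) (c : F), τ (a + c • (b - a)) = τ a + c • (τ b - τ a))
    (u v : Fin 2 → F) : τ (u + v) = τ u + τ v := by
  have hsmul : ∀ (c : F) (x : Fin 2 → F), τ (c • x) = c • τ x := by
    intro c x
    have := hline 0 x c
    simpa [h0] using this
  have hne : ∀ x : Fin 2 → F, x ≠ 0 → τ x ≠ 0 := fun x hx h => hx (hinj (h.trans h0.symm))
  by_cases hd : det2 u v = 0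
  · by_cases hu : u = 0
    · rw [hu, h0, zero_add, zero_add]
    · obtain ⟨c, rfl⟩ := exists_smul_of_det2_eq_zero u v hd hu
      have : u + c • u = (1 + c) • u := by rw [add_smul, one_smul]
      rw [this, hsmul, hsmul, add_smul, one_smul]
  · -- independent case
    have hu : u ≠ 0 := by
      rintro rfl
      apply hd
      unfold det2; simp
    have hv : v ≠ 0 := by
      rintro rfl
      apply hd
      unfold det2; simp
    have hdτ : det2 (τ u) (τ v) ≠ 0 := by
      intro h
      obtain ⟨c, hc⟩ := exists_smul_of_det2_eq_zero (τ u) (τ v) h (hne u hu)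
      rw [← hsmul] at hc
      have := hinj hc
      apply hd
      rw [this, det2_smul_right, det2_self, mul_zero]
    -- key claim
    have key : ∀ (x y : Fin 2 → F), det2 x y ≠ 0 → det2 (τ x) (τ (x + y) - τ y) = 0 := by
      intro x y hxy
      by_contra hne'
      obtain ⟨s, t', hst⟩ := exists_comb_of_det2_ne_zero (τ x) (τ (x + y) - τ y) (τ y) hne'
      have h1 := hline y (x + y) (-t')
      have e1 : x + y - y = x := by abel
      rw [e1] at h1
      have h2 : τ (y + -t' • x) = τ (s • x) := by
        rw [h1, hsmul]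
        calc τ y + -t' • (τ (x + y) - τ y)
            = (s • τ x + t' • (τ (x + y) - τ y)) + -t' • (τ (x + y) - τ y) := by rw [← hst]
          _ = s • τ x := by module
      have h3 := hinj h2
      have h4 : y = (s + t') • x := by
        rw [add_smul, ← h3]
        simp only [neg_smul]
        abel
      apply hxy
      rw [h4, det2_smul_right, det2_self, mul_zero]
    have hd' : det2 v u ≠ 0 := by
      intro h
      apply hd
      unfold det2 at h ⊢
      linear_combination -h
    obtain ⟨l, hl⟩ := exists_smul_of_det2_eq_zero _ _ (key u v hd) (hne u hu)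
    have k2 := key v u hd'
    rw [add_comm v u] at k2
    obtain ⟨m, hm⟩ := exists_smul_of_det2_eq_zero _ _ k2 (hne v hv)
    have hcomb : (l - 1) • τ u + (1 - m) • τ v = 0 := by
      rw [sub_smul, sub_smul, one_smul, one_smul, ← hl, ← hm]
      abel
    obtain ⟨hl1, -⟩ := coeff_eq_zero_of_det2_ne_zero _ _ hdτ _ _ hcomb
    have hl1' : l = 1 := by linear_combination hl1
    rw [hl1', one_smul] at hl
    rw [← hl]
    abel

end plane

theorem result (p : ℕ) [Fact p.Prime] (G : Subgroup (Equiv.Perm (Fin 2 → ZMod p)))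
    (haff : (G : Set (Equiv.Perm (Fin 2 → ZMod p))) ⊆ {τ : Equiv.Perm (Fin 2 → ZMod p) | ∃ (A : (Fin 2 → ZMod p) ≃ₗ[ZMod p] (Fin 2 → ZMod p)) (b : Fin 2 → ZMod p), ∀ x, τ x = A x + b})
    (htrans : ∀ b : Fin 2 → ZMod p, ∃ g ∈ G, ∀ x, g x = x + b) (hprim : MulAction.IsPreprimitive G (Fin 2 → ZMod p))
    (σ : Equiv.Perm (Fin 2 → ZMod p)) (hσ : (∀ t : Fin 3 → (Fin 2 → ZMod p), ∃ g ∈ G, ∀ i, σ (t i) = g (t i))) : σ ∈ G := by
  -- σ is affine along lines
  have hline : ∀ (a b : Fin 2 → ZMod p) (c : ZMod p),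
      σ (a + c • (b - a)) = σ a + c • (σ b - σ a) := by
    intro a b c
    obtain ⟨g, hg, hgt⟩ := hσ ![a, b, a + c • (b - a)]
    obtain ⟨A, b', hA⟩ := haff hg
    have e0 := hgt 0
    have e1 := hgt 1
    have e2 := hgt 2
    simp only [Matrix.cons_val_zero, Matrix.cons_val_one, Matrix.cons_val_two, Matrix.head_cons,
      Matrix.tail_cons] at e0 e1 e2
    rw [e2, e0, e1, hA, hA, hA, map_add, map_smul, map_sub]
    module
  -- τ = σ - σ 0
  have hτline : ∀ (a b : Fin 2 → ZMod p) (c : ZMod p),
      (fun x => σ x - σ 0) (a + c • (b - a)) = (fun x => σ x - σ 0) a +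
        c • ((fun x => σ x - σ 0) b - (fun x => σ x - σ 0) a) := by
    intro a b c
    simp only [hline a b c]
    module
  have hτinj : Function.Injective (fun x => σ x - σ 0) := by
    intro x y hxy
    exact σ.injective (sub_left_injective hxy)
  have hadd := additive_of_affine_on_lines (fun x => σ x - σ 0) (sub_self _) hτinj hτline
  have hsmul : ∀ (c : ZMod p) (x : Fin 2 → ZMod p), σ (c • x) - σ 0 = c • (σ x - σ 0) := by
    intro c x
    have := hτline 0 x c
    simpa using this
  -- the element g agreeing with σ on 0, e0, e1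
  obtain ⟨g, hg, hgt⟩ := hσ ![0, Pi.single 0 1, Pi.single 1 1]
  obtain ⟨A, b', hA⟩ := haff hg
  have e0 := hgt 0
  have e1 := hgt 1
  have e2 := hgt 2
  simp only [Matrix.cons_val_zero, Matrix.cons_val_one, Matrix.cons_val_two, Matrix.head_cons,
    Matrix.tail_cons] at e0 e1 e2
  rw [hA] at e0 e1 e2
  rw [A.map_zero, zero_add] at e0
  have hσg : σ = g := by
    ext1 x
    have hx : x = x 0 • (Pi.single 0 1 : Fin 2 → ZMod p) + x 1 • (Pi.single 1 1 : Fin 2 → ZMod p) := by
      funext i
      fin_cases i <;> simp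
    have h1 : σ x - σ 0 = x 0 • (σ (Pi.single 0 1) - σ 0) + x 1 • (σ (Pi.single 1 1) - σ 0) := by
      conv_lhs => rw [hx]
      have := hadd (x 0 • (Pi.single 0 1 : Fin 2 → ZMod p)) (x 1 • (Pi.single 1 1 : Fin 2 → ZMod p))
      rw [this, hsmul, hsmul]
    have h2 : A x = x 0 • A (Pi.single 0 1) + x 1 • A (Pi.single 1 1) := by
      conv_lhs => rw [hx]
      rw [map_add, map_smul, map_smul]
    rw [hA, h2]
    rw [e1, e2, e0] at h1
    rw [eq_add_of_sub_eq h1]
    module
  rw [hσg]
  exact hg

end Cfsg.Agent.S3515
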