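import Cfsg.Statements.S3516

set_option autoImplicit false
set_option linter.style.haveILetI false
open Cfsg

namespace Cfsg.Agent.S3516

open Module

/-- In a space of dimension at least 3, for two vectors `u1 u2` and a nonzero scalar `c` there is
a linear automorphism fixing `u1`, `u2` with determinant `c`. -/
theorem exists_dilation {K V : Type*} [Field K] [AddCommGroup V] [Module K V]
    [FiniteDimensional K V] (hdim : 3 ≤ finrank K V) (u1 u2 : V) (c : K) (hc : c ≠ 0) :
    ∃ D : V ≃ₗ[K] V, D u1 = u1 ∧ D u2 = u2 ∧ LinearMap.det (D : V →ₗ[K] V) = c := by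
  classical
  have hlt : Submodule.span K ({u1, u2} : Set V) < ⊤ := by
    rw [lt_top_iff_ne_top]
    intro htop
    have h1 : finrank K (Submodule.span K ((({u1, u2} : Finset V)) : Set V)) ≤ ({u1, u2} : Finset V).card :=
      finrank_span_finset_le_card _
    have h2 : ({u1, u2} : Finset V).card ≤ 2 := Finset.card_le_two
    have h3 : ((({u1, u2} : Finset V)) : Set V) = ({u1, u2} : Set V) := by simp
    rw [h3, htop, finrank_top] at h1
    omega
  obtain ⟨f, hf0, hfker⟩ := Submodule.exists_le_ker_of_lt_top _ hlt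
  have hf1 : f u1 = 0 := hfker (Submodule.subset_span (by simp))
  have hf2 : f u2 = 0 := hfker (Submodule.subset_span (by simp))
  obtain ⟨e, he⟩ : ∃ e, f e ≠ 0 := by
    by_contra h
    exact hf0 (LinearMap.ext fun x => by_contra fun hx => h ⟨x, hx⟩)
  have hunit : IsUnit (1 + f (((c - 1) / f e) • e)) := by
    rw [map_smul, smul_eq_mul, div_mul_cancel₀ _ he]
    simpa using hc
  refine ⟨LinearEquiv.dilatransvection hunit, ?_, ?_, ?_⟩
  · rw [LinearEquiv.dilatransvection.apply, hf1, zero_smul, add_zero]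
  · rw [LinearEquiv.dilatransvection.apply, hf2, zero_smul, add_zero]
  · rw [LinearEquiv.dilatransvection.coe_toLinearMap, LinearMap.transvection.det, map_smul,
      smul_eq_mul, div_mul_cancel₀ _ he]
    ring

theorem result (p : ℕ) [Fact p.Prime] (hp : p ≠ 2) (d : ℕ) (hd : 3 ≤ d) (G : Subgroup (Equiv.Perm (Fin d → ZMod p)))
    (haff : (G : Set (Equiv.Perm (Fin d → ZMod p))) ⊆ {τ : Equiv.Perm (Fin d → ZMod p) | ∃ (A : (Fin d → ZMod p) ≃ₗ[ZMod p] (Fin d → ZMod p)) (b : Fin d → ZMod p), ∀ x, τ x = A x + b})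
    (htrans : ∀ b : Fin d → ZMod p, ∃ g ∈ G, ∀ x, g x = x + b)
    (hsl : ∀ A : (Fin d → ZMod p) ≃ₗ[ZMod p] (Fin d → ZMod p), LinearMap.det (A : (Fin d → ZMod p) →ₗ[ZMod p] (Fin d → ZMod p)) = 1 → ∃ g ∈ G, ∀ x, g x = A x)
    (σ : Equiv.Perm (Fin d → ZMod p)) :
    (∀ t : Fin 3 → (Fin d → ZMod p), ∃ g ∈ G, ∀ i, σ (t i) = g (t i)) ↔ σ ∈ {τ : Equiv.Perm (Fin d → ZMod p) | ∃ (A : (Fin d → ZMod p) ≃ₗ[ZMod p] (Fin d → ZMod p)) (b : Fin d → ZMod p), ∀ x, τ x = A x + b} := by
  constructor
  · intro hσ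
    -- σ is affine along lines
    have hline : ∀ (a b : Fin d → ZMod p) (c : ZMod p),
        σ (a + c • (b - a)) = σ a + c • (σ b - σ a) := by
      intro a b c
      obtain ⟨g, hg, hgt⟩ := hσ ![a, b, a + c • (b - a)]
      obtain ⟨A, b', hA⟩ := haff hg
      have e0 := hgt 0
      have e1 := hgt 1
      have e2 := hgt 2
      simp only [Matrix.cons_val_zero, Matrix.cons_val_one, Matrix.cons_val_two, Matrix.head_cons,
        Matrix.tail_cons] at e0 e1 e2
      rw [e2, e0, e1, hA, hA, hA, map_add, map_smul, map_sub]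
      module
    have h2 : (2 : ZMod p) ≠ 0 := by
      intro h
      have h' : ((2 : ℕ) : ZMod p) = 0 := by exact_mod_cast h
      rw [ZMod.natCast_eq_zero_iff] at h'
      have hp' : p.Prime := Fact.out
      have := Nat.le_of_dvd (by norm_num) h'
      have := hp'.two_le
      omega
    have hsmul : ∀ (c : ZMod p) (x : Fin d → ZMod p), σ (c • x) - σ 0 = c • (σ x - σ 0) := by
      intro c x
      have := hline 0 x c
      simp only [sub_zero, zero_add] at this
      rw [this]; abel
    have hmid : ∀ a b : Fin d → ZMod p, σ (a + b) - σ 0 = (σ a - σ 0) + (σ b - σ 0) := by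
      intro a b
      have h1 := hline a b (2⁻¹ : ZMod p)
      have e : a + (2⁻¹ : ZMod p) • (b - a) = (2⁻¹ : ZMod p) • (a + b) := by
        have hh : (2⁻¹ : ZMod p) + 2⁻¹ = 1 := by rw [← two_mul, mul_inv_cancel₀ h2]
        calc a + (2⁻¹ : ZMod p) • (b - a) = (1 : ZMod p) • a + (2⁻¹ : ZMod p) • (b - a) := by
              rw [one_smul]
          _ = ((2⁻¹ : ZMod p) + 2⁻¹) • a + (2⁻¹ : ZMod p) • (b - a) := by rw [hh]
          _ = (2⁻¹ : ZMod p) • (a + b) := by module
      rw [e] at h1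
      have h3 := hsmul (2⁻¹ : ZMod p) (a + b)
      rw [h1] at h3
      have h4 : (2 : ZMod p) • (σ a + (2⁻¹ : ZMod p) • (σ b - σ a) - σ 0) =
          (2 : ZMod p) • ((2⁻¹ : ZMod p) • (σ (a + b) - σ 0)) := by rw [h3]
      rw [smul_smul, mul_inv_cancel₀ h2, one_smul] at h4
      rw [← h4]
      have : (2 : ZMod p) • (σ a + (2⁻¹ : ZMod p) • (σ b - σ a) - σ 0) =
          (2 : ZMod p) • σ a + ((2 : ZMod p) * 2⁻¹) • (σ b - σ a) - (2 : ZMod p) • σ 0 := by
        module
      rw [this, mul_inv_cancel₀ h2]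
      module
    refine ⟨{ toFun := fun x => σ x - σ 0
              map_add' := hmid
              map_smul' := fun c x => by simpa using hsmul c x
              invFun := fun y => σ.symm (y + σ 0)
              left_inv := fun x => by simp
              right_inv := fun y => by simp }, σ 0, fun x => ?_⟩
    simp
  · rintro ⟨A, b, hA⟩ t
    have hdet : LinearMap.det (A : (Fin d → ZMod p) →ₗ[ZMod p] (Fin d → ZMod p)) ≠ 0 :=
      A.isUnit_det'.ne_zero
    obtain ⟨D, hD1, hD2, hDdet⟩ := exists_dilation (K := ZMod p) (V := Fin d → ZMod p)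
      (by simpa using hd) (t 1 - t 0) (t 2 - t 0) _ (inv_ne_zero hdet)
    obtain ⟨g1, hg1, hg1x⟩ := hsl (D.trans A) (by
      rw [LinearEquiv.coe_trans, LinearMap.det_comp, hDdet, mul_inv_cancel₀ hdet])
    obtain ⟨g2, hg2, hg2x⟩ := htrans (A (t 0) + b - A (D (t 0)))
    refine ⟨g2 * g1, G.mul_mem hg2 hg1, fun i => ?_⟩
    rw [Equiv.Perm.mul_apply, hg2x, hg1x, hA, LinearEquiv.trans_apply]
    have key : ∀ x, D (x - t 0) = x - t 0 → A x + b = A (D x) + (A (t 0) + b - A (D (t 0))) := by
      intro x hx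
      rw [map_sub] at hx
      have : D x = x - t 0 + D (t 0) := by rw [← hx]; abel
      rw [this, map_add, map_sub]
      abel
    fin_cases i
    · exact key _ (by simp)
    · exact key _ hD1
    · exact key _ hD2

end Cfsg.Agent.S3516
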