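import Cfsg.Statements.S3517

set_option autoImplicit false
set_option linter.style.haveILetI false
open Cfsg

namespace Cfsg.Agent.S3517

open Module

/-- Two linearly independent families with the same index type in a finite-dimensional space are
related by a linear automorphism. -/
theorem exists_equiv_of_li {K V ι : Type*} [Field K] [AddCommGroup V] [Module K V]
    [FiniteDimensional K V] (u w : ι → V) (hu : LinearIndependent K u)
    (hw : LinearIndependent K w) : ∃ A : V ≃ₗ[K] V, ∀ i, A (u i) = w i := by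
  let f := (Basis.span hu).equiv (Basis.span hw) (Equiv.refl ι)
  obtain ⟨g, hg⟩ := Submodule.exists_linearEquiv_restrict_eq f
  refine ⟨g, fun i => ?_⟩
  have h1 := hg (Basis.span hu i)
  rw [Basis.equiv_apply, Basis.span_apply, Equiv.refl_apply, Basis.span_apply] at h1
  exact h1.symm

theorem zmod2_add_eq_zero {d : ℕ} (x y : Fin d → ZMod 2) (h : x + y = 0) : x = y := by
  funext i
  have h1 : x i + y i = 0 := congrFun h i
  revert h1
  generalize x i = a
  generalize y i = b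
  revert a b
  decide

theorem li_pair {d : ℕ} (x y : Fin d → ZMod 2) (hx : x ≠ 0) (hy : y ≠ 0) (hxy : x ≠ y) :
    LinearIndependent (ZMod 2) ![x, y] := by
  rw [LinearIndependent.pair_iff]
  intro s t hst
  have h01 : ∀ z : ZMod 2, z = 0 ∨ z = 1 := by decide
  have hs : s = 0 ∨ s = 1 := h01 s
  have ht : t = 0 ∨ t = 1 := h01 t
  rcases hs with rfl | rfl <;> rcases ht with rfl | rfl
  · exact ⟨rfl, rfl⟩
  · exfalso; apply hy; simpa using hst
  · exfalso; apply hx; simpa using hst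
  · exfalso; apply hxy; apply zmod2_add_eq_zero; simpa using hst

theorem exists_single {d : ℕ} (x y : Fin d → ZMod 2) (hx : x ≠ 0) (hy : y ≠ 0) :
    ∃ A : (Fin d → ZMod 2) ≃ₗ[ZMod 2] (Fin d → ZMod 2), A x = y := by
  obtain ⟨A, hA⟩ := exists_equiv_of_li (K := ZMod 2) (fun _ : Unit => x) (fun _ : Unit => y)
    (LinearIndependent.of_subsingleton () hx) (LinearIndependent.of_subsingleton () hy)
  exact ⟨A, hA ()⟩

theorem exists_pair {d : ℕ} (u1 u2 w1 w2 : Fin d → ZMod 2) (h1 : u1 = 0 ↔ w1 = 0)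
    (h2 : u2 = 0 ↔ w2 = 0) (h12 : u1 = u2 ↔ w1 = w2) :
    ∃ A : (Fin d → ZMod 2) ≃ₗ[ZMod 2] (Fin d → ZMod 2), A u1 = w1 ∧ A u2 = w2 := by
  by_cases hu1 : u1 = 0
  · have hw1 := h1.mp hu1
    by_cases hu2 : u2 = 0
    · have hw2 := h2.mp hu2
      exact ⟨LinearEquiv.refl _ _, by simp [hu1, hw1], by simp [hu2, hw2]⟩
    · have hw2 : w2 ≠ 0 := fun h => hu2 (h2.mpr h)
      obtain ⟨A, hA⟩ := exists_single u2 w2 hu2 hw2
      exact ⟨A, by simp [hu1, hw1], hA⟩
  · have hw1 : w1 ≠ 0 := fun h => hu1 (h1.mpr h)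
    by_cases hu2 : u2 = 0
    · have hw2 := h2.mp hu2
      obtain ⟨A, hA⟩ := exists_single u1 w1 hu1 hw1
      exact ⟨A, hA, by simp [hu2, hw2]⟩
    · have hw2 : w2 ≠ 0 := fun h => hu2 (h2.mpr h)
      by_cases hu12 : u1 = u2
      · have hw12 := h12.mp hu12
        obtain ⟨A, hA⟩ := exists_single u1 w1 hu1 hw1
        exact ⟨A, hA, by rw [← hu12, ← hw12]; exact hA⟩
      · have hw12 : w1 ≠ w2 := fun h => hu12 (h12.mpr h)
        obtain ⟨A, hA⟩ := exists_equiv_of_li (K := ZMod 2) ![u1, u2] ![w1, w2]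
          (li_pair u1 u2 hu1 hu2 hu12) (li_pair w1 w2 hw1 hw2 hw12)
        exact ⟨A, by simpa using hA 0, by simpa using hA 1⟩

theorem result (d : ℕ) (hd : 3 ≤ d) (σ : Equiv.Perm (Fin d → ZMod 2)) (t : Fin 3 → (Fin d → ZMod 2)) :
    ∃ (A : (Fin d → ZMod 2) ≃ₗ[ZMod 2] (Fin d → ZMod 2)) (b : Fin d → ZMod 2), ∀ i, σ (t i) = A (t i) + b := by
  obtain ⟨A, hA1, hA2⟩ := exists_pair (t 1 - t 0) (t 2 - t 0) (σ (t 1) - σ (t 0)) (σ (t 2) - σ (t 0))
    (by rw [sub_eq_zero, sub_eq_zero, σ.apply_eq_iff_eq])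
    (by rw [sub_eq_zero, sub_eq_zero, σ.apply_eq_iff_eq])
    (by rw [sub_left_inj, sub_left_inj, σ.apply_eq_iff_eq])
  refine ⟨A, σ (t 0) - A (t 0), fun i => ?_⟩
  rw [map_sub] at hA1 hA2
  fin_cases i
  · simp
  · have : σ (t 1) = A (t 1) - A (t 0) + σ (t 0) := by rw [hA1]; abel
    simpa [sub_add_eq_add_sub, add_sub_assoc] using this
  · have : σ (t 2) = A (t 2) - A (t 0) + σ (t 0) := by rw [hA2]; abel
    simpa [sub_add_eq_add_sub, add_sub_assoc] using this

end Cfsg.Agent.S3517
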