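import Cfsg.Statements.S3518

set_option autoImplicit false
set_option linter.style.haveILetI false
open Cfsg

namespace Cfsg.Agent.S3518

open Polynomial Finset

variable {p : ℕ} [Fact p.Prime]

/-- Sum of `(y + a)^j` over a multiplicative subgroup `A`, for `j < |A|`. -/
theorem sum_add_pow (A : Subgroup (ZMod p)ˣ) [Fintype A] (j : ℕ) (hj : j < Fintype.card A)
    (y : ZMod p) :
    ∑ a : A, (y + ((a : (ZMod p)ˣ) : ZMod p)) ^ j = (Fintype.card A : ZMod p) * y ^ j := by
  simp_rw [add_pow]
  rw [Finset.sum_comm]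
  rw [Finset.sum_eq_single j]
  · simp [mul_comm]
  · intro i hi hij
    have hi' : i < j + 1 := Finset.mem_range.mp hi
    rw [← Finset.sum_mul, ← Finset.mul_sum,
      FiniteField.sum_subgroup_pow_eq_zero (by omega) (by omega)]
    simp
  · intro h
    simp at h

/-- The values `σ (x + a)`, `a ∈ A`, are a rearrangement of `σ x + a`, `a ∈ A`. -/
theorem sum_comp_eq (A : Subgroup (ZMod p)ˣ) [Fintype A] (σ : ZMod p → ZMod p)
    (hσ : Function.Injective σ)
    (h : ∀ x y : ZMod p, ∃ a ∈ A, σ x - σ y = ((a : (ZMod p)ˣ) : ZMod p) * (x - y))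
    (f : ZMod p → ZMod p) (x : ZMod p) :
    ∑ a : A, f (σ (x + ((a : (ZMod p)ˣ) : ZMod p))) =
      ∑ a : A, f (σ x + ((a : (ZMod p)ˣ) : ZMod p)) := by
  have key : ∀ a : A, ∃ a' : A,
      σ (x + ((a : (ZMod p)ˣ) : ZMod p)) = σ x + ((a' : (ZMod p)ˣ) : ZMod p) := by
    intro a
    obtain ⟨a₁, ha₁, e⟩ := h (x + ((a : (ZMod p)ˣ) : ZMod p)) x
    refine ⟨⟨a₁, ha₁⟩ * a, ?_⟩
    rw [add_sub_cancel_left] at e
    rw [Subgroup.coe_mul, Units.val_mul, ← e]
    ring
  choose φ hφ using key
  have hinj : Function.Injective φ := by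
    intro a b hab
    have h1 := hφ a
    rw [hab, ← hφ b] at h1
    have h2 := hσ h1
    exact Subtype.ext (Units.ext (add_left_cancel h2))
  have hbij : Function.Bijective φ := Finite.injective_iff_bijective.mp hinj
  exact Fintype.sum_bijective φ hbij _ _ (fun a => by rw [hφ a])

/-- A binomial coefficient `r.choose n` with `r < p` is nonzero modulo `p`. -/
theorem choose_ne_zero (r n : ℕ) (hn : n ≤ r) (hr : r < p) : ((r.choose n : ℕ) : ZMod p) ≠ 0 := by
  intro h
  rw [ZMod.natCast_eq_zero_iff] at h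
  have hp : p.Prime := Fact.out
  have h1 : p ∣ r.factorial := by
    rw [← Nat.choose_mul_factorial_mul_factorial hn]
    exact Dvd.dvd.mul_right (Dvd.dvd.mul_right h _) _
  have := (Nat.Prime.dvd_factorial hp).mp h1
  omega

/-- A polynomial `R` with `|A| ≤ deg R < p` cannot satisfy `∑ R (x + a) = |A| R x` for all `x`. -/
theorem key_poly (A : Subgroup (ZMod p)ˣ) [Fintype A] (hAp : Fintype.card A < p)
    (R : (ZMod p)[X]) (h1 : Fintype.card A ≤ R.natDegree) (h2 : R.natDegree < p)
    (h : ∀ x : ZMod p, ∑ a : A, R.eval (x + ((a : (ZMod p)ˣ) : ZMod p)) =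
      (Fintype.card A : ZMod p) * R.eval x) : False := by
  have hmpos : 0 < Fintype.card A := Fintype.card_pos
  have hR0 : R ≠ 0 := by
    rintro rfl
    rw [natDegree_zero] at h1
    omega
  set Q : (ZMod p)[X] :=
    ∑ a : A, taylor ((a : (ZMod p)ˣ) : ZMod p) R - C (Fintype.card A : ZMod p) * R with hQ
  have hQeval : ∀ x, Q.eval x = 0 := by
    intro x
    simp only [hQ, eval_sub, eval_finsetSum, taylor_eval, eval_mul, eval_C]
    rw [h x, sub_self]
  have hQdeg : Q.degree < (Finset.univ : Finset (ZMod p)).card := by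
    rw [Finset.card_univ, ZMod.card]
    have hRd : R.degree < (p : WithBot ℕ) := by
      rw [degree_eq_natDegree hR0]
      exact_mod_cast h2
    refine lt_of_le_of_lt (degree_sub_le _ _) (max_lt ?_ ?_)
    · refine lt_of_le_of_lt (degree_sum_le _ _) ?_
      rw [Finset.sup_lt_iff (by exact WithBot.bot_lt_coe p)]
      intro a _
      rw [degree_taylor]
      exact hRd
    · rw [C_mul']
      exact lt_of_le_of_lt (degree_smul_le _ _) hRd
  have hQ0 : Q = 0 :=
    eq_zero_of_degree_lt_of_eval_finset_eq_zero Finset.univ hQdeg (fun x _ => hQeval x)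
  -- the coefficient of degree `natDegree R - |A|`
  have hcoeff : Q.coeff (R.natDegree - Fintype.card A) =
      ((R.natDegree.choose (R.natDegree - Fintype.card A) : ℕ) : ZMod p) * R.leadingCoeff *
        (Fintype.card A : ZMod p) := by
    set m := Fintype.card A with hm
    set r := R.natDegree with hr
    set n := r - m with hn
    have hnm : n + m = r := by omega
    rw [hQ, coeff_sub, finsetSum_coeff, coeff_C_mul]
    have hterm : ∀ a : A, (taylor ((a : (ZMod p)ˣ) : ZMod p) R).coeff n =
        ∑ i ∈ Finset.range (m + 1), (((i + n).choose n : ℕ) : ZMod p) * R.coeff (i + n) *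
          ((a : (ZMod p)ˣ) : ZMod p) ^ i := by
      intro a
      rw [taylor_coeff, eval_eq_sum_range' (n := m + 1)]
      · apply Finset.sum_congr rfl
        intro i _
        rw [hasseDeriv_coeff]
      · have := natDegree_hasseDeriv_le R n
        omega
    simp_rw [hterm]
    rw [Finset.sum_comm]
    simp_rw [← Finset.mul_sum]
    have hpowm : ∀ a : A, ((a : (ZMod p)ˣ) : ZMod p) ^ m = 1 := by
      intro a
      have : a ^ m = 1 := pow_card_eq_one
      have h3 := congrArg (fun z : A => ((z : (ZMod p)ˣ) : ZMod p)) this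
      simpa using h3
    rw [Finset.sum_range_succ]
    rw [Finset.sum_eq_single_of_mem 0 (Finset.mem_range.mpr hmpos) (fun i hi hi0 => by
      rw [FiniteField.sum_subgroup_pow_eq_zero hi0 (Finset.mem_range.mp hi), mul_zero])]
    simp only [hpowm, pow_zero, Finset.sum_const, Finset.card_univ, zero_add, Nat.choose_self,
      Nat.cast_one, one_mul, nsmul_eq_mul, mul_one]
    rw [add_comm m n, hnm, ← hm]
    have : R.coeff r = R.leadingCoeff := rfl
    rw [this]
    ring
  rw [hQ0, coeff_zero] at hcoeff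
  have hlead : R.leadingCoeff ≠ 0 := leadingCoeff_ne_zero.mpr hR0
  have hm0 : (Fintype.card A : ZMod p) ≠ 0 := by
    intro h0
    rw [ZMod.natCast_eq_zero_iff] at h0
    have := Nat.le_of_dvd hmpos h0
    omega
  have hch := choose_ne_zero (p := p) R.natDegree (R.natDegree - Fintype.card A) (by omega) h2
  exact mul_ne_zero (mul_ne_zero hch hlead) hm0 hcoeff.symm

/-- McConnel's theorem over a prime field. -/
theorem mcconnel (A : Subgroup (ZMod p)ˣ) [Fintype A] (hA : 2 * Fintype.card A ≤ p - 1)
    (σ : ZMod p → ZMod p) (hσ : Function.Injective σ)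
    (h : ∀ x y : ZMod p, ∃ a ∈ A, σ x - σ y = ((a : (ZMod p)ˣ) : ZMod p) * (x - y)) :
    ∃ c d : ZMod p, ∀ x, σ x = c * x + d := by
  have hp : p.Prime := Fact.out
  have hp2 := hp.two_le
  have hmpos : 0 < Fintype.card A := Fintype.card_pos
  by_cases hm1 : Fintype.card A = 1
  · -- `A` is trivial
    refine ⟨1, σ 0, fun x => ?_⟩
    obtain ⟨a, ha, e⟩ := h x 0
    have hsub : Subsingleton A := (Fintype.card_le_one_iff_subsingleton).mp (le_of_eq hm1)
    have ha1 : (⟨a, ha⟩ : A) = 1 := Subsingleton.elim _ _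
    have ha1' : a = 1 := congrArg Subtype.val ha1
    rw [ha1', Units.val_one, sub_zero] at e
    rw [← e]; ring
  have hm2 : 2 ≤ Fintype.card A := by omega
  set P : (ZMod p)[X] := Lagrange.interpolate Finset.univ id σ with hP
  have hPeval : ∀ x, P.eval x = σ x := by
    intro x
    have := Lagrange.eval_interpolate_at_node (s := Finset.univ) (v := id) σ
      (Set.injOn_id _) (Finset.mem_univ x)
    exact this
  have hPdeg : P.degree < (p : WithBot ℕ) := by
    have := Lagrange.degree_interpolate_lt (s := Finset.univ) (v := id) (r := σ) (Set.injOn_id _)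
    rwa [Finset.card_univ, ZMod.card] at this
  have hP0 : P ≠ 0 := by
    intro h0
    have e0 := hPeval 0
    have e1 := hPeval 1
    rw [h0, eval_zero] at e0 e1
    have := hσ (e0.symm.trans e1)
    exact zero_ne_one this
  have hPnat : P.natDegree < p := by
    rw [degree_eq_natDegree hP0] at hPdeg
    exact_mod_cast hPdeg
  have hpow : ∀ j, j < Fintype.card A → ∀ x,
      ∑ a : A, (P ^ j).eval (x + ((a : (ZMod p)ˣ) : ZMod p)) =
        (Fintype.card A : ZMod p) * (P ^ j).eval x := by
    intro j hj x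
    simp only [eval_pow, hPeval]
    rw [sum_comp_eq A σ hσ h (fun y => y ^ j) x, sum_add_pow A j hj]
  have hdeg : ∀ j, j < Fintype.card A →
      j * P.natDegree < Fintype.card A ∨ p ≤ j * P.natDegree := by
    intro j hj
    by_contra hcon
    push Not at hcon
    have hnd : (P ^ j).natDegree = j * P.natDegree := natDegree_pow P j
    exact key_poly A (by omega) (P ^ j) (by rw [hnd]; exact hcon.1) (by rw [hnd]; exact hcon.2)
      (hpow j hj)
  have hd1 : P.natDegree ≤ 1 := by
    by_contra hcon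
    push Not at hcon
    have h1 := hdeg 1 (by omega)
    have hd'm : P.natDegree < Fintype.card A := by omega
    have hj1 : (Fintype.card A - 1) / P.natDegree ≤ (Fintype.card A - 1) / 2 :=
      Nat.div_le_div_left hcon (by norm_num)
    have hjm : (Fintype.card A - 1) / P.natDegree + 1 < Fintype.card A := by omega
    have h2 := hdeg _ hjm
    have h3 : Fintype.card A - 1 < P.natDegree * ((Fintype.card A - 1) / P.natDegree + 1) :=
      Nat.lt_mul_div_succ _ (by omega)
    have h4 : P.natDegree * ((Fintype.card A - 1) / P.natDegree) ≤ Fintype.card A - 1 :=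
      Nat.mul_div_le _ _
    have h5 : ((Fintype.card A - 1) / P.natDegree + 1) * P.natDegree =
        P.natDegree * ((Fintype.card A - 1) / P.natDegree) + P.natDegree := by ring
    have h6 : P.natDegree * ((Fintype.card A - 1) / P.natDegree + 1) =
        P.natDegree * ((Fintype.card A - 1) / P.natDegree) + P.natDegree := by ring
    omega
  refine ⟨P.coeff 1, P.coeff 0, fun x => ?_⟩
  rw [← hPeval x]
  conv_lhs => rw [eq_X_add_C_of_natDegree_le_one hd1]
  simp

/-- The affine permutation `x ↦ a * x + b`. -/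
def affPerm (a : (ZMod p)ˣ) (b : ZMod p) : Equiv.Perm (ZMod p) where
  toFun x := (a : ZMod p) * x + b
  invFun x := ((a⁻¹ : (ZMod p)ˣ) : ZMod p) * (x - b)
  left_inv := by
    intro x
    show ((a⁻¹ : (ZMod p)ˣ) : ZMod p) * ((a : ZMod p) * x + b - b) = x
    rw [add_sub_cancel_right, ← mul_assoc, ← Units.val_mul, inv_mul_cancel, Units.val_one, one_mul]
  right_inv := by
    intro x
    show (a : ZMod p) * (((a⁻¹ : (ZMod p)ˣ) : ZMod p) * (x - b)) + b = x
    rw [← mul_assoc, ← Units.val_mul, mul_inv_cancel, Units.val_one, one_mul, sub_add_cancel]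

theorem affPerm_apply (a : (ZMod p)ˣ) (b x : ZMod p) : affPerm a b x = (a : ZMod p) * x + b := rfl

theorem affPerm_mem (a : (ZMod p)ˣ) (b : ZMod p) : affPerm a b ∈ Cfsg.affineGroup (ZMod p) :=
  ⟨a, b, fun _ => rfl⟩

/-- Closures of subgroups of the one-dimensional affine group. Let p be a prime and G a group of permutations of F_p lying in the affine group AGL₁(p) = {x ↦ ax + b, a ≠ 0} and containing all translations. (1) If G is a proper subgroup of AGL₁(p), then G is 2-closed: a permutation of F_p agreeing on every ordered pair of points with some element of G lies in G. (2) Every permutation of F_p agrees on every ordered pair with some element of AGL₁(p) (the 2-closure of AGL₁(p) is the symmetric group). (3) AGL₁(p) is 3-closed: a permutation agreeing on every ordered triple with some affine map is affine. -/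
theorem result (p : ℕ) [Fact p.Prime] (G : Subgroup (Equiv.Perm (ZMod p))) (hG : G ≤ Cfsg.affineGroup (ZMod p))
    (htrans : ∀ b : ZMod p, ∃ g ∈ G, ∀ x, g x = x + b) :
    (G ≠ Cfsg.affineGroup (ZMod p) → ∀ σ : Equiv.Perm (ZMod p), (∀ t : Fin 2 → ZMod p, ∃ g ∈ G, ∀ i, σ (t i) = g (t i)) → σ ∈ G) ∧
    (∀ σ : Equiv.Perm (ZMod p), (∀ t : Fin 2 → ZMod p, ∃ g ∈ Cfsg.affineGroup (ZMod p), ∀ i, σ (t i) = g (t i))) ∧
    (∀ σ : Equiv.Perm (ZMod p), (∀ t : Fin 3 → ZMod p, ∃ g ∈ Cfsg.affineGroup (ZMod p), ∀ i, σ (t i) = g (t i)) → σ ∈ Cfsg.affineGroup (ZMod p)) := by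
  have hp : p.Prime := Fact.out
  have hp2 := hp.two_le
  refine ⟨?_, ?_, ?_⟩
  · intro hne σ hσ
    let A : Subgroup (ZMod p)ˣ :=
      { carrier := {a | ∃ g ∈ G, ∀ x, g x = (a : ZMod p) * x}
        mul_mem' := by
          rintro a b ⟨g, hg, hga⟩ ⟨k, hk, hkb⟩
          exact ⟨g * k, G.mul_mem hg hk, fun x => by
            rw [Equiv.Perm.mul_apply, hkb, hga, Units.val_mul, mul_assoc]⟩
        one_mem' := ⟨1, G.one_mem, fun x => by simp⟩
        inv_mem' := by
          rintro a ⟨g, hg, hga⟩
          refine ⟨g⁻¹, G.inv_mem hg, fun x => ?_⟩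
          apply g.injective
          rw [Equiv.Perm.inv_def, Equiv.apply_symm_apply, hga, ← mul_assoc, ← Units.val_mul,
            mul_inv_cancel, Units.val_one, one_mul] }
    have hGA : ∀ g ∈ G, ∃ a ∈ A, ∃ b, ∀ x, g x = (a : ZMod p) * x + b := by
      intro g hg
      obtain ⟨a, b, hab⟩ := hG hg
      obtain ⟨t, ht, htb⟩ := htrans (-b)
      refine ⟨a, ⟨t * g, G.mul_mem ht hg, fun x => ?_⟩, b, hab⟩
      rw [Equiv.Perm.mul_apply, htb, hab]; ring
    have hAG : ∀ a ∈ A, ∀ b, ∀ τ : Equiv.Perm (ZMod p),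
        (∀ x, τ x = (a : ZMod p) * x + b) → τ ∈ G := by
      rintro a ⟨g, hg, hga⟩ b τ hτ
      obtain ⟨t, ht, htb⟩ := htrans b
      have : τ = t * g := by
        ext x; rw [Equiv.Perm.mul_apply, htb, hga, hτ]
      rw [this]; exact G.mul_mem ht hg
    have hAtop : A ≠ ⊤ := by
      intro htop
      apply hne
      apply le_antisymm hG
      rintro τ ⟨a, b, hτ⟩
      exact hAG a (by rw [htop]; exact Subgroup.mem_top a) b τ hτ
    haveI : Fintype A := Fintype.ofFinite A
    have hcard : 2 * Fintype.card A ≤ p - 1 := by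
      have hdvd : Nat.card A ∣ Nat.card (ZMod p)ˣ := Subgroup.card_subgroup_dvd_card A
      rw [Nat.card_eq_fintype_card, Nat.card_eq_fintype_card, ZMod.card_units p] at hdvd
      have hlt : Fintype.card A ≠ p - 1 := by
        intro heq
        apply hAtop
        apply Subgroup.eq_top_of_card_eq
        rw [Nat.card_eq_fintype_card, Nat.card_eq_fintype_card, ZMod.card_units p, heq]
      obtain ⟨k, hk⟩ := hdvd
      have hk2 : 2 ≤ k := by
        rcases k with _ | _ | k
        · omega
        · omega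
        · omega
      nlinarith
    have hσA : ∀ x y : ZMod p, ∃ a ∈ A, σ x - σ y = ((a : (ZMod p)ˣ) : ZMod p) * (x - y) := by
      intro x y
      obtain ⟨g, hg, hgt⟩ := hσ ![x, y]
      obtain ⟨a, ha, b, hab⟩ := hGA g hg
      refine ⟨a, ha, ?_⟩
      have h0 := hgt 0
      have h1 := hgt 1
      simp only [Matrix.cons_val_zero, Matrix.cons_val_one] at h0 h1
      rw [h0, h1, hab, hab]; ring
    obtain ⟨c, d, hcd⟩ := mcconnel A hcard σ σ.injective hσA
    obtain ⟨a, ha, e⟩ := hσA 1 0
    rw [hcd, hcd] at e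
    have hc : c = a := by simpa using e
    exact hAG a ha d σ (fun x => by rw [hcd, hc])
  · intro σ t
    by_cases h01 : t 0 = t 1
    · refine ⟨affPerm 1 (σ (t 0) - t 0), affPerm_mem _ _, ?_⟩
      intro i
      fin_cases i
      · simp [affPerm_apply]
      · simp [affPerm_apply, ← h01]
    · have hne : t 0 - t 1 ≠ 0 := sub_ne_zero.mpr h01
      have hne' : σ (t 0) - σ (t 1) ≠ 0 := sub_ne_zero.mpr (fun h => h01 (σ.injective h))
      refine ⟨affPerm (Units.mk0 ((σ (t 0) - σ (t 1)) / (t 0 - t 1)) (div_ne_zero hne' hne))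
        (σ (t 0) - (σ (t 0) - σ (t 1)) / (t 0 - t 1) * t 0), affPerm_mem _ _, ?_⟩
      intro i
      fin_cases i
      · simp [affPerm_apply]
      · simp only [affPerm_apply, Units.val_mk0, Fin.mk_one]
        field_simp
        ring
  · intro σ hσ
    have h10 : σ 1 - σ 0 ≠ 0 := sub_ne_zero.mpr (fun h => one_ne_zero (σ.injective h))
    refine ⟨Units.mk0 (σ 1 - σ 0) h10, σ 0, fun x => ?_⟩
    obtain ⟨g, ⟨a, b, hab⟩, hgt⟩ := hσ ![0, 1, x]
    have h0 := hgt 0
    have h1 := hgt 1
    have h2 := hgt 2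
    simp only [Matrix.cons_val_zero, Matrix.cons_val_one, Matrix.cons_val_two,
      Matrix.head_cons, Matrix.tail_cons] at h0 h1 h2
    rw [hab] at h0 h1 h2
    rw [h2, Units.val_mk0, h1, h0]
    ring

end Cfsg.Agent.S3518
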