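import Cfsg.Statements.S3520
import Cfsg.Agent.Lib.Helper58_PrimNormal
import Cfsg.Agent.Lib.Helper58_MinNormal
import Cfsg.Agent.Lib.Helper58_MinInv
import Cfsg.Agent.Lib.Helper58_MinInv2
import Cfsg.Agent.Lib.Helper58_Jordan
import Cfsg.Agent.Lib.Helper58_Affine

set_option autoImplicit false
set_option linter.style.haveILetI false
open Cfsg

namespace Cfsg.Agent.S3520

open MulAction
open scoped Pointwise
open Cfsg.Agent.Lib.Helper58_PrimNormal Cfsg.Agent.Lib.Helper58_MinInv
open Cfsg.Agent.Lib.Helper58_MinInv2 Cfsg.Agent.Lib.Helper58_Jordan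
open Cfsg.Agent.Lib.Helper58_Affine

section aux

variable {G : Type*} [Group G] {Ω : Type*} [MulAction G Ω]

/-- Among three derangements two are conjugate. -/
theorem three_der
    (hκ : Nat.card {c : ConjClasses G // ∃ g : G, ConjClasses.mk g = c ∧ ∀ ω : Ω, g • ω ≠ ω} = 2)
    (d₁ d₂ d₃ : G) (h₁ : ∀ ω : Ω, d₁ • ω ≠ ω) (h₂ : ∀ ω : Ω, d₂ • ω ≠ ω)
    (h₃ : ∀ ω : Ω, d₃ • ω ≠ ω) : IsConj d₁ d₂ ∨ IsConj d₁ d₃ ∨ IsConj d₂ d₃ := by
  obtain ⟨x, y, -, huniv⟩ := Nat.card_eq_two_iff.mp hκ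
  have key : ∀ d : G, (∀ ω : Ω, d • ω ≠ ω) → ConjClasses.mk d = x.1 ∨ ConjClasses.mk d = y.1 := by
    intro d hd
    have : (⟨ConjClasses.mk d, d, rfl, hd⟩ :
        {c : ConjClasses G // ∃ g : G, ConjClasses.mk g = c ∧ ∀ ω : Ω, g • ω ≠ ω}) ∈
        ({x, y} : Set _) := by rw [huniv]; exact Set.mem_univ _
    rcases this with h | h
    · left; exact congrArg Subtype.val h
    · right; exact congrArg Subtype.val h
  rcases key d₁ h₁ with e₁ | e₁ <;> rcases key d₂ h₂ with e₂ | e₂ <;>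
    rcases key d₃ h₃ with e₃ | e₃
  · left; exact ConjClasses.mk_eq_mk_iff_isConj.mp (e₁.trans e₂.symm)
  · left; exact ConjClasses.mk_eq_mk_iff_isConj.mp (e₁.trans e₂.symm)
  · right; left; exact ConjClasses.mk_eq_mk_iff_isConj.mp (e₁.trans e₃.symm)
  · right; right; exact ConjClasses.mk_eq_mk_iff_isConj.mp (e₂.trans e₃.symm)
  · right; right; exact ConjClasses.mk_eq_mk_iff_isConj.mp (e₂.trans e₃.symm)
  · right; left; exact ConjClasses.mk_eq_mk_iff_isConj.mp (e₁.trans e₃.symm)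
  · left; exact ConjClasses.mk_eq_mk_iff_isConj.mp (e₁.trans e₂.symm)
  · left; exact ConjClasses.mk_eq_mk_iff_isConj.mp (e₁.trans e₂.symm)

/-- There are two non-conjugate derangements. -/
theorem two_der
    (hκ : Nat.card {c : ConjClasses G // ∃ g : G, ConjClasses.mk g = c ∧ ∀ ω : Ω, g • ω ≠ ω} = 2) :
    ∃ d₁ d₂ : G, (∀ ω : Ω, d₁ • ω ≠ ω) ∧ (∀ ω : Ω, d₂ • ω ≠ ω) ∧ ¬ IsConj d₁ d₂ := by
  obtain ⟨x, y, hxy, -⟩ := Nat.card_eq_two_iff.mp hκ
  obtain ⟨g₁, hg₁, hd₁⟩ := x.2
  obtain ⟨g₂, hg₂, hd₂⟩ := y.2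
  refine ⟨g₁, g₂, hd₁, hd₂, fun hc => hxy ?_⟩
  apply Subtype.ext
  rw [← hg₁, ← hg₂]
  exact ConjClasses.mk_eq_mk_iff_isConj.mpr hc

theorem pow_eq_one_of_isConj {a b : G} (h : IsConj a b) (k : ℕ) (ha : a ^ k = 1) :
    b ^ k = 1 := by
  obtain ⟨c, rfl⟩ := isConj_iff.mp h
  rw [conj_pow, ha]; group

theorem isConj_pow {a b : G} (h : IsConj a b) (k : ℕ) : IsConj (a ^ k) (b ^ k) := by
  obtain ⟨c, rfl⟩ := isConj_iff.mp h
  exact isConj_iff.mpr ⟨c, (conj_pow).symm⟩

theorem pow_ne_one_of_prime_order {a : G} {p q : ℕ} (hp : p.Prime) (hq : q.Prime) (hpq : p ≠ q)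
    (ha : orderOf a = p) : a ^ q ≠ 1 := by
  intro h
  have := orderOf_dvd_of_pow_eq_one h
  rw [ha] at this
  exact hpq ((Nat.prime_dvd_prime_iff_eq hp hq).mp this)

theorem eq_one_of_pow_primes {a : G} {p q : ℕ} (hp : p.Prime) (hq : q.Prime) (hpq : p ≠ q)
    (h1 : a ^ p = 1) (h2 : a ^ q = 1) : a = 1 := by
  have d1 := orderOf_dvd_of_pow_eq_one h1
  have d2 := orderOf_dvd_of_pow_eq_one h2
  have : orderOf a ∣ Nat.gcd p q := Nat.dvd_gcd d1 d2
  rw [(Nat.coprime_primes hp hq).mpr hpq] at this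
  exact orderOf_eq_one_iff.mp (Nat.dvd_one.mp this)

/-- An element commuting with a subgroup that is transitive from `α`, and fixing `α`, is
trivial. -/
theorem eq_one_of_commute_fix [FaithfulSMul G Ω] {B : Subgroup G} (α : Ω) {a : G}
    (hc : ∀ b ∈ B, a * b = b * a) (hB : ∀ ω : Ω, ∃ b ∈ B, b • α = ω) (haα : a • α = α) :
    a = 1 := by
  apply FaithfulSMul.eq_of_smul_eq_smul (α := Ω)
  intro ω
  obtain ⟨b, hb, rfl⟩ := hB ω
  rw [one_smul, ← mul_smul, hc b hb, mul_smul, haα]

/-- The affine case. -/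
theorem abelian_case {G : Type*} [Group G] [Finite G] {Ω : Type*} [Fintype Ω] [MulAction G Ω]
    (hκ : Nat.card {c : ConjClasses G // ∃ g : G, ConjClasses.mk g = c ∧ ∀ ω : Ω, g • ω ≠ ω} = 2)
    (α : Ω) (N : Subgroup G) (hN : IsRegAb Ω N) :
    ((∀ g : G, g ≠ 1 → Nat.card (MulAction.fixedBy Ω g) ≤ 1) ∧ ¬ 2 ∣ Fintype.card Ω ∧
        2 * Nat.card (MulAction.stabilizer G α) = Fintype.card Ω - 1) ∨
    (MulAction.IsMultiplyPretransitive G Ω 2 ∧
      ∃ g : G, g ≠ 1 ∧ 2 ≤ Nat.card (MulAction.fixedBy Ω g)) := by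
  classical
  have hA := three_der hκ
  obtain ⟨x₁, x₂, hx₁, hx₂, hnc⟩ := two_der hκ
  have hNder : ∀ u ∈ N, u ≠ 1 → ∀ ω : Ω, u • ω ≠ ω :=
    fun u hu hu1 ω hω => hu1 (hN.semireg u hu ω hω)
  have hder1 : ∀ d : G, (∀ ω : Ω, d • ω ≠ ω) → d ≠ 1 := by
    intro d hd h
    exact hd α (by rw [h, one_smul])
  have hH : ∀ h : G, h • α = α → ∀ u : G, h • u • α = (h * u * h⁻¹) • α := by
    intro h hα u
    have hinv : h⁻¹ • α = α := by rw [inv_smul_eq_iff, hα]
    rw [mul_smul, mul_smul, hinv]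
  by_cases hall : ∀ d : G, (∀ ω : Ω, d • ω ≠ ω) → d ∈ N
  · left
    have h1fix : ∀ g : G, g ≠ 1 → ∀ ω₁ ω₂ : Ω, g • ω₁ = ω₁ → g • ω₂ = ω₂ → ω₁ = ω₂ := by
      intro g hg ω₁ ω₂ h₁ h₂
      by_contra hne
      obtain ⟨u, hu, rfl⟩ := hN.trans ω₁ ω₂
      have hu1 : u ≠ 1 := by
        intro h
        apply hne
        rw [h, one_smul]
      obtain ⟨m, hm, hmd⟩ := hN.exists_der_mul h₁ hu hu1 h₂
      have hmg := hall _ hmd
      have hgN : g ∈ N := by
        have := N.mul_mem (N.inv_mem hm) hmg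
        convert this using 1; group
      exact hg (hN.semireg g hgN ω₁ h₁)
    have hx₁N := hall x₁ hx₁
    have hx₂N := hall x₂ hx₂
    have hx₁1 := hder1 x₁ hx₁
    have hx₂1 := hder1 x₂ hx₂
    refine ⟨?_, ?_⟩
    · intro g hg
      haveI : Subsingleton (fixedBy Ω g) :=
        ⟨fun a b => Subtype.ext (h1fix g hg a b a.2 b.2)⟩
      exact Finite.card_le_one_iff_subsingleton.mpr inferInstance
    have hne : ∀ h : G, h • α = α → ∀ u ∈ N, u ≠ 1 → h • u • α ≠ α := by
      intro h hα u hu hu1 hh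
      have : u • α = α := by
        have h2 : h⁻¹ • (h • u • α) = h⁻¹ • α := by rw [hh]
        rw [inv_smul_smul] at h2
        rw [h2, inv_smul_eq_iff, hα]
      exact hu1 (hN.semireg u hu α this)
    have hinj : ∀ h k : G, h • α = α → k • α = α → ∀ u ∈ N, ∀ v ∈ N,
        h • u • α = k • v • α → (k⁻¹ * h) * u * (k⁻¹ * h)⁻¹ = v := by
      intro h k hh hk u hu v hv e
      rw [hH h hh, hH k hk] at e
      have := hN.eq_of_smul_eq (hN.conj_mem hu h) (hN.conj_mem hv k) α e
      calc (k⁻¹ * h) * u * (k⁻¹ * h)⁻¹ = k⁻¹ * (h * u * h⁻¹) * k := by group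
        _ = k⁻¹ * (k * v * k⁻¹) * k := by rw [this]
        _ = v := by group
    have hsame : ∀ h k : G, h • α = α → k • α = α → ∀ u ∈ N, u ≠ 1 →
        h • u • α = k • u • α → h = k := by
      intro h k hh hk u hu hu1 e
      have e1 := hinj h k hh hk u hu u hu e
      have hkh : (k⁻¹ * h) • α = α := by rw [mul_smul, hh, inv_smul_eq_iff, hk]
      have hc : (k⁻¹ * h) * u = u * (k⁻¹ * h) := by
        calc (k⁻¹ * h) * u = ((k⁻¹ * h) * u * (k⁻¹ * h)⁻¹) * (k⁻¹ * h) := by group
          _ = u * (k⁻¹ * h) := by rw [e1]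
      have hfix := (hN.fix_iff_commute hkh hu).mpr hc
      by_contra hne'
      have hkh1 : k⁻¹ * h ≠ 1 := by
        intro h1
        apply hne'
        calc h = k * (k⁻¹ * h) := by group
          _ = k := by rw [h1, mul_one]
      have := h1fix _ hkh1 _ _ hfix hkh
      exact hu1 (hN.semireg u hu α this)
    let F : (stabilizer G α) ⊕ (stabilizer G α) → {ω : Ω // ω ≠ α} :=
      Sum.elim (fun h => ⟨(h : G) • x₁ • α, hne h h.2 x₁ hx₁N hx₁1⟩)
        (fun h => ⟨(h : G) • x₂ • α, hne h h.2 x₂ hx₂N hx₂1⟩)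
    have hFinj : Function.Injective F := by
      rintro (h | h) (k | k) e
      · have e' : (h : G) • x₁ • α = (k : G) • x₁ • α := congrArg Subtype.val e
        exact congrArg Sum.inl (Subtype.ext (hsame h k h.2 k.2 x₁ hx₁N hx₁1 e'))
      · exfalso
        have e' : (h : G) • x₁ • α = (k : G) • x₂ • α := congrArg Subtype.val e
        exact hnc (isConj_iff.mpr ⟨_, hinj h k h.2 k.2 x₁ hx₁N x₂ hx₂N e'⟩)
      · exfalso
        have e' : (h : G) • x₂ • α = (k : G) • x₁ • α := congrArg Subtype.val e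
        exact hnc (isConj_iff.mpr ⟨_, hinj h k h.2 k.2 x₂ hx₂N x₁ hx₁N e'⟩).symm
      · have e' : (h : G) • x₂ • α = (k : G) • x₂ • α := congrArg Subtype.val e
        exact congrArg Sum.inr (Subtype.ext (hsame h k h.2 k.2 x₂ hx₂N hx₂1 e'))
    have hFsurj : Function.Surjective F := by
      rintro ⟨ω, hω⟩
      obtain ⟨u, hu, rfl⟩ := hN.trans α ω
      have hu1 : u ≠ 1 := by
        intro h
        apply hω
        rw [h, one_smul]
      have hud := hNder u hu hu1
      rcases hA x₁ x₂ u hx₁ hx₂ hud with h | h | h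
      · exact absurd h hnc
      · obtain ⟨g, hg⟩ := isConj_iff.mp h
        obtain ⟨m, hm, k, hk, rfl⟩ := hN.exists_decomp α g
        rw [hN.conj_eq k hm hx₁N] at hg
        refine ⟨Sum.inl ⟨k, hk⟩, Subtype.ext ?_⟩
        change k • x₁ • α = u • α
        rw [hH k hk, hg]
      · obtain ⟨g, hg⟩ := isConj_iff.mp h
        obtain ⟨m, hm, k, hk, rfl⟩ := hN.exists_decomp α g
        rw [hN.conj_eq k hm hx₂N] at hg
        refine ⟨Sum.inr ⟨k, hk⟩, Subtype.ext ?_⟩
        change k • x₂ • α = u • α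
        rw [hH k hk, hg]
    have hcard := Nat.card_congr (Equiv.ofBijective F ⟨hFinj, hFsurj⟩)
    rw [Nat.card_sum] at hcard
    have hsub : Nat.card {ω : Ω // ω ≠ α} = Fintype.card Ω - 1 := by
      rw [Nat.card_eq_fintype_card, Fintype.card_subtype_compl, Fintype.card_subtype_eq]
    have hpos : 1 ≤ Fintype.card Ω := Fintype.card_pos_iff.mpr ⟨α⟩
    rw [hsub] at hcard
    constructor
    · omega
    · omega
  · right
    push Not at hall
    obtain ⟨d, hd, hdN⟩ := hall
    have hconjN : ∀ u ∈ N, u ≠ 1 → ∀ v ∈ N, v ≠ 1 → ∃ h : G, h • α = α ∧ h * u * h⁻¹ = v := by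
      intro u hu hu1 v hv hv1
      have hnd : ∀ w ∈ N, ¬ IsConj w d := by
        intro w hw hc
        obtain ⟨c, hc⟩ := isConj_iff.mp hc
        apply hdN
        rw [← hc]
        exact hN.conj_mem hw c
      rcases hA u v d (hNder u hu hu1) (hNder v hv hv1) hd with h | h | h
      · obtain ⟨g, hg⟩ := isConj_iff.mp h
        obtain ⟨m, hm, k, hk, rfl⟩ := hN.exists_decomp α g
        rw [hN.conj_eq k hm hu] at hg
        exact ⟨k, hk, hg⟩
      · exact absurd h (hnd u hu)
      · exact absurd h (hnd v hv)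
    have hHt : ∀ ω ω' : Ω, ω ≠ α → ω' ≠ α → ∃ h : G, h • α = α ∧ h • ω = ω' := by
      intro ω ω' hω hω'
      obtain ⟨u, hu, rfl⟩ := hN.trans α ω
      obtain ⟨v, hv, rfl⟩ := hN.trans α ω'
      have hu1 : u ≠ 1 := by
        intro h
        apply hω
        rw [h, one_smul]
      have hv1 : v ≠ 1 := by
        intro h
        apply hω'
        rw [h, one_smul]
      obtain ⟨h, hh, huv⟩ := hconjN u hu hu1 v hv hv1
      refine ⟨h, hh, ?_⟩
      rw [hH h hh, huv]
    refine ⟨?_, ?_⟩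
    · rw [is_two_pretransitive_iff]
      intro a b c e hab hce
      obtain ⟨g₁, -, hg₁⟩ := hN.trans a α
      obtain ⟨g₂, -, hg₂⟩ := hN.trans c α
      have h1 : g₁ • b ≠ α := by
        intro h
        apply hab
        rw [← hg₁] at h
        exact (MulAction.injective g₁ h).symm
      have h2 : g₂ • e ≠ α := by
        intro h
        apply hce
        rw [← hg₂] at h
        exact (MulAction.injective g₂ h).symm
      obtain ⟨h, hh, hhb⟩ := hHt (g₁ • b) (g₂ • e) h1 h2
      refine ⟨g₂⁻¹ * h * g₁, ?_, ?_⟩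
      · rw [mul_smul, mul_smul, hg₁, hh, inv_smul_eq_iff, hg₂]
      · rw [mul_smul, mul_smul, hhb, inv_smul_smul]
    · by_contra hcon
      push Not at hcon
      obtain ⟨m, hm, h, hh, rfl⟩ := hN.exists_decomp α d
      have hh1 : h ≠ 1 := by
        intro h1
        apply hdN
        rw [h1, mul_one]
        exact hm
      have honly : ∀ ω : Ω, h • ω = ω → ω = α := by
        intro ω hω
        have hlt := hcon h hh1
        have hle : Nat.card (fixedBy Ω h) ≤ 1 := by omega
        haveI := Finite.card_le_one_iff_subsingleton.mp hle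
        have := Subsingleton.elim (⟨ω, hω⟩ : fixedBy Ω h) ⟨α, hh⟩
        exact congrArg Subtype.val this
      obtain ⟨ω, hω⟩ := hN.exists_fix_mul hh honly hm
      exact hd ω hω

/-- The case of a non-abelian minimal normal subgroup is impossible. -/
theorem nonabelian_case {G : Type*} [Group G] [Finite G] {Ω : Type*} [MulAction G Ω]
    [FaithfulSMul G Ω] [IsPreprimitive G Ω]
    (hnas : ¬ ∃ T : Subgroup G, T.Normal ∧ IsSimpleGroup T ∧ ¬ IsMulCommutative T ∧
      Subgroup.centralizer (T : Set G) = ⊥)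
    (hA : ∀ d₁ d₂ d₃ : G, (∀ ω : Ω, d₁ • ω ≠ ω) → (∀ ω : Ω, d₂ • ω ≠ ω) →
      (∀ ω : Ω, d₃ • ω ≠ ω) → IsConj d₁ d₂ ∨ IsConj d₁ d₃ ∨ IsConj d₂ d₃)
    (α : Ω) (N : Subgroup G) (hNn : N.Normal) (hN1 : N ≠ ⊥)
    (hNmin : ∀ B : Subgroup G, B.Normal → B ≤ N → B = ⊥ ∨ B = N)
    (hab : ¬ ∀ a ∈ N, ∀ b ∈ N, a * b = b * a) : False := by
  haveI := hNn
  have hNt : ∀ ω ω' : Ω, ∃ n ∈ N, n • ω = ω' := fun ω ω' => normal_transitive N hN1 ω ω'
  obtain ⟨T₁, hT⟩ := exists_isMinInv N hN1
  obtain ⟨p, q, hp, hq, hpq, ⟨a, haT, hao⟩, b, hbT, hbo⟩ := exists_two_primes hNmin hT hab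
  have ha1 : a ≠ 1 := by
    intro h
    rw [h, orderOf_one] at hao
    exact hp.one_lt.ne hao
  have hb1 : b ≠ 1 := by
    intro h
    rw [h, orderOf_one] at hbo
    exact hq.one_lt.ne hbo
  have hap : a ^ p = 1 := by rw [← hao]; exact pow_orderOf_eq_one a
  have hbq : b ^ q = 1 := by rw [← hbo]; exact pow_orderOf_eq_one b
  have haq : a ^ q ≠ 1 := pow_ne_one_of_prime_order hp hq hpq hao
  have hbp : b ^ p ≠ 1 := pow_ne_one_of_prime_order hq hp hpq.symm hbo
  have hnab : ¬ IsConj a b := fun h => hbp (pow_eq_one_of_isConj h p hap)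
  by_cases hg : ∃ g : G, MulAut.conj g • T₁ ≠ T₁
  · obtain ⟨g, hg⟩ := hg
    have hT₂ : IsMinInv N (MulAut.conj g • T₁) := hT.conj g
    have hcomm : ∀ a ∈ T₁, ∀ b ∈ MulAut.conj g • T₁, a * b = b * a :=
      hT.commute hT₂ (Ne.symm hg)
    have hdisj : T₁ ⊓ MulAut.conj g • T₁ = ⊥ := by
      by_contra h
      exact hg (hT.eq_of_inf_ne_bot hT₂ h).symm
    have ha'T : g * a * g⁻¹ ∈ MulAut.conj g • T₁ := conj_mem_conj_smul haT
    have hb'T : g * b * g⁻¹ ∈ MulAut.conj g • T₁ := conj_mem_conj_smul hbT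
    have ha'p : (g * a * g⁻¹) ^ p = 1 := by rw [conj_pow, hap]; group
    have hb'q : (g * b * g⁻¹) ^ q = 1 := by rw [conj_pow, hbq]; group
    have ha'q : (g * a * g⁻¹) ^ q ≠ 1 := by
      rw [conj_pow]
      intro h
      apply haq
      calc a ^ q = g⁻¹ * (g * a ^ q * g⁻¹) * g := by group
        _ = 1 := by rw [h]; group
    have hb'p : (g * b * g⁻¹) ^ p ≠ 1 := by
      rw [conj_pow]
      intro h
      apply hbp
      calc b ^ p = g⁻¹ * (g * b ^ p * g⁻¹) * g := by group
        _ = 1 := by rw [h]; group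
    by_cases hR₁ : T₁ ⊓ stabilizer G α = ⊥
    · have hsr := semiregular_of_inf_eq_bot hT hNt α hR₁
      have hda : ∀ ω : Ω, a • ω ≠ ω := fun ω hω => ha1 (hsr a haT ω hω)
      have hdb : ∀ ω : Ω, b • ω ≠ ω := fun ω hω => hb1 (hsr b hbT ω hω)
      have hc : Commute a (g * b * g⁻¹) := hcomm a haT _ hb'T
      have hpow_q : (a * (g * b * g⁻¹)) ^ q = a ^ q := by rw [hc.mul_pow, hb'q, mul_one]
      have hpow_p : (a * (g * b * g⁻¹)) ^ p = (g * b * g⁻¹) ^ p := by
        rw [hc.mul_pow, hap, one_mul]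
      have hdab : ∀ ω : Ω, (a * (g * b * g⁻¹)) • ω ≠ ω := by
        intro ω hω
        have : (a * (g * b * g⁻¹)) ^ q ∈ stabilizer G ω :=
          Subgroup.pow_mem _ (mem_stabilizer_iff.mpr hω) q
        rw [hpow_q, mem_stabilizer_iff] at this
        exact haq (hsr _ (T₁.pow_mem haT q) ω this)
      rcases hA a b (a * (g * b * g⁻¹)) hda hdb hdab with h | h | h
      · exact hnab h
      · have := pow_eq_one_of_isConj h p hap
        rw [hpow_p] at this
        exact hb'p this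
      · have := pow_eq_one_of_isConj h q hbq
        rw [hpow_q] at this
        exact haq this
    · obtain ⟨x₁, hx₁T, hx₁d⟩ := exists_local_derangement hT hNt α
      have hx₁1 : x₁ ≠ 1 := by
        intro h
        apply hx₁d 1 T₁.one_mem
        rw [h]
        simp
      have hder : ∀ c ∈ MulAut.conj g • T₁, ∀ ω : Ω, (x₁ * c) • ω ≠ ω := by
        intro c hc
        exact derangement_mul hN1 hNmin hab hT α hR₁ hx₁T hx₁d (hT₂.le hc)
          (fun s hs => (hcomm s hs c hc).symm)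
      have hd₁ : ∀ ω : Ω, x₁ • ω ≠ ω := by
        have := hder 1 (Subgroup.one_mem _)
        simpa using this
      have hd₂ := hder _ ha'T
      have hd₃ := hder _ hb'T
      have hZ := center_trivial hNmin hT hab
      have hprod : ∀ s ∈ T₁, ∀ t ∈ MulAut.conj g • T₁, ∀ g' : G,
          g'⁻¹ * (s * t) * g' ∈ T₁ → s = 1 ∨ t = 1 := by
        intro s hs t ht g' hg'
        have hT₃ : IsMinInv N (MulAut.conj g' • T₁) := hT.conj g'
        have hmem : s * t ∈ MulAut.conj g' • T₁ := mem_conj_smul.mpr hg'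
        by_cases h31 : MulAut.conj g' • T₁ = T₁
        · right
          rw [h31] at hmem
          have : t ∈ T₁ ⊓ MulAut.conj g • T₁ := by
            refine Subgroup.mem_inf.mpr ⟨?_, ht⟩
            have := T₁.mul_mem (T₁.inv_mem hs) hmem
            convert this using 1; group
          rw [hdisj] at this
          exact Subgroup.mem_bot.mp this
        · left
          by_cases h32 : MulAut.conj g' • T₁ = MulAut.conj g • T₁
          · rw [h32] at hmem
            have : s ∈ T₁ ⊓ MulAut.conj g • T₁ := by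
              refine Subgroup.mem_inf.mpr ⟨hs, ?_⟩
              have := Subgroup.mul_mem _ hmem (Subgroup.inv_mem _ ht)
              convert this using 1; group
            rw [hdisj] at this
            exact Subgroup.mem_bot.mp this
          · apply hZ s hs
            intro r hr
            have c1 : (s * t) * r = r * (s * t) := hT₃.commute hT h31 _ hmem r hr
            have c2 : r * t = t * r := hcomm r hr t ht
            calc r * s = r * (s * t) * t⁻¹ := by group
              _ = (s * t) * r * t⁻¹ := by rw [c1]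
              _ = s * (t * r) * t⁻¹ := by group
              _ = s * (r * t) * t⁻¹ := by rw [c2]
              _ = s * r := by group
      have hP : ∀ d d' : G, IsConj d d' → (∃ g' : G, g'⁻¹ * d * g' ∈ T₁) →
          ∃ g' : G, g'⁻¹ * d' * g' ∈ T₁ := by
        rintro d d' hc ⟨g', hg'⟩
        obtain ⟨c, rfl⟩ := isConj_iff.mp hc
        refine ⟨c * g', ?_⟩
        convert hg' using 1; group
      have hya1 : g * a * g⁻¹ ≠ 1 := by
        intro h
        apply ha'q
        rw [h, one_pow]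
      have hyb1 : g * b * g⁻¹ ≠ 1 := by
        intro h
        apply hb'p
        rw [h, one_pow]
      rcases hA x₁ (x₁ * (g * a * g⁻¹)) (x₁ * (g * b * g⁻¹)) hd₁ hd₂ hd₃ with h | h | h
      · obtain ⟨g', hg'⟩ := hP _ _ h ⟨1, by simpa using hx₁T⟩
        rcases hprod x₁ hx₁T _ ha'T g' hg' with h1 | h1
        · exact hx₁1 h1
        · exact hya1 h1
      · obtain ⟨g', hg'⟩ := hP _ _ h ⟨1, by simpa using hx₁T⟩
        rcases hprod x₁ hx₁T _ hb'T g' hg' with h1 | h1
        · exact hx₁1 h1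
        · exact hyb1 h1
      · have hc₂ : Commute x₁ (g * a * g⁻¹) := hcomm x₁ hx₁T _ ha'T
        have hc₃ : Commute x₁ (g * b * g⁻¹) := hcomm x₁ hx₁T _ hb'T
        have e2p : (x₁ * (g * a * g⁻¹)) ^ p = x₁ ^ p := by rw [hc₂.mul_pow, ha'p, mul_one]
        have e3q : (x₁ * (g * b * g⁻¹)) ^ q = x₁ ^ q := by rw [hc₃.mul_pow, hb'q, mul_one]
        have e2q : (x₁ * (g * a * g⁻¹)) ^ q = x₁ ^ q * (g * a * g⁻¹) ^ q := hc₂.mul_pow q
        have e3p : (x₁ * (g * b * g⁻¹)) ^ p = x₁ ^ p * (g * b * g⁻¹) ^ p := hc₃.mul_pow p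
        have hxp : x₁ ^ p = 1 := by
          obtain ⟨g', hg'⟩ := hP _ _ (isConj_pow h p)
            ⟨1, by rw [e2p]; simpa using T₁.pow_mem hx₁T p⟩
          rw [e3p] at hg'
          rcases hprod _ (T₁.pow_mem hx₁T p) _ (Subgroup.pow_mem _ hb'T p) g' hg' with h1 | h1
          · exact h1
          · exact absurd h1 hb'p
        have hxq : x₁ ^ q = 1 := by
          obtain ⟨g', hg'⟩ := hP _ _ (isConj_pow h.symm q)
            ⟨1, by rw [e3q]; simpa using T₁.pow_mem hx₁T q⟩
          rw [e2q] at hg'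
          rcases hprod _ (T₁.pow_mem hx₁T q) _ (Subgroup.pow_mem _ ha'T q) g' hg' with h1 | h1
          · exact h1
          · exact absurd h1 ha'q
        exact hx₁1 (eq_one_of_pow_primes hp hq hpq hxp hxq)
  · push Not at hg
    have hTn : T₁.Normal := ⟨fun t ht g => by rw [← hg g]; exact conj_mem_conj_smul ht⟩
    have hTN : T₁ = N := (hNmin T₁ hTn hT.le).resolve_left hT.ne_bot
    haveI : Nontrivial N := (Subgroup.nontrivial_iff_ne_bot N).mpr hN1
    have hsimp : IsSimpleGroup N := by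
      refine IsSimpleGroup.mk (fun B hB => ?_)
      have hle : B.map N.subtype ≤ T₁ := by rw [hTN]; exact Subgroup.map_subtype_le B
      have hinv : ∀ n ∈ N, ∀ x ∈ B.map N.subtype, n * x * n⁻¹ ∈ B.map N.subtype := by
        intro n hn x hx
        obtain ⟨y, hy, rfl⟩ := Subgroup.mem_map.mp hx
        exact Subgroup.mem_map.mpr ⟨⟨n, hn⟩ * y * ⟨n, hn⟩⁻¹, hB.conj_mem y hy ⟨n, hn⟩, rfl⟩
      rcases hT.min _ hle hinv with h | h
      · left
        exact (Subgroup.map_eq_bot_iff_of_injective B N.subtype_injective).mp h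
      · right
        rw [eq_top_iff]
        intro y _
        have : (y : G) ∈ B.map N.subtype := by rw [h, hTN]; exact y.2
        obtain ⟨z, hz, hzy⟩ := Subgroup.mem_map.mp this
        have : z = y := Subtype.ext hzy
        rw [← this]; exact hz
    by_cases hC : Subgroup.centralizer (N : Set G) = ⊥
    · exact hnas ⟨N, hNn, hsimp, fun hcomm => hab (fun a ha b hb =>
        congrArg Subtype.val (hcomm.is_comm.comm ⟨a, ha⟩ ⟨b, hb⟩)), hC⟩
    · haveI : (Subgroup.centralizer (N : Set G)).Normal := Subgroup.normal_centralizer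
      have hCt : ∀ ω ω' : Ω, ∃ c ∈ Subgroup.centralizer (N : Set G), c • ω = ω' :=
        fun ω ω' => normal_transitive (Subgroup.centralizer (N : Set G)) hC ω ω'
      have hNsr : ∀ t ∈ N, ∀ ω : Ω, t • ω = ω → t = 1 := by
        intro t ht ω hω
        apply eq_one_of_commute_fix (B := Subgroup.centralizer (N : Set G)) ω _
          (fun ω' => hCt ω ω') hω
        intro c hc
        exact Subgroup.mem_centralizer_iff.mp hc t ht
      have hCsr : ∀ c ∈ Subgroup.centralizer (N : Set G), ∀ ω : Ω, c • ω = ω → c = 1 := by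
        intro c hc ω hω
        apply eq_one_of_commute_fix (B := N) ω _ (fun ω' => hNt ω ω') hω
        intro n hn
        exact (Subgroup.mem_centralizer_iff.mp hc n hn).symm
      obtain ⟨c, hc, hc1⟩ : ∃ c ∈ Subgroup.centralizer (N : Set G), c ≠ 1 := by
        by_contra hcon
        push Not at hcon
        exact hC ((Subgroup.eq_bot_iff_forall _).mpr hcon)
      rw [hTN] at haT hbT
      have hda : ∀ ω : Ω, a • ω ≠ ω := fun ω hω => ha1 (hNsr a haT ω hω)
      have hdb : ∀ ω : Ω, b • ω ≠ ω := fun ω hω => hb1 (hNsr b hbT ω hω)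
      have hdc : ∀ ω : Ω, c • ω ≠ ω := fun ω hω => hc1 (hCsr c hc ω hω)
      have hcN : ∀ n ∈ N, ¬ IsConj n c := by
        intro n hn h
        obtain ⟨k, hk⟩ := isConj_iff.mp h
        have hcN : c ∈ N := by rw [← hk]; exact hNn.conj_mem n hn k
        have hZn : (N ⊓ Subgroup.centralizer (N : Set G)).Normal :=
          Subgroup.normal_inf_normal _ _
        rcases hNmin _ hZn inf_le_left with h0 | h0
        · have : c ∈ N ⊓ Subgroup.centralizer (N : Set G) := Subgroup.mem_inf.mpr ⟨hcN, hc⟩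
          rw [h0] at this
          exact hc1 (Subgroup.mem_bot.mp this)
        · apply hab
          intro x hx y hy
          have hy' : y ∈ N ⊓ Subgroup.centralizer (N : Set G) := by rw [h0]; exact hy
          exact Subgroup.mem_centralizer_iff.mp (Subgroup.mem_inf.mp hy').2 x hx
      rcases hA a b c hda hdb hdc with h | h | h
      · exact hnab h
      · exact hcN a haT h
      · exact hcN b hbT h

end aux


/-- Let a finite group G act faithfully and primitively on a finite set Ω with at least two points, suppose G is not almost simple (no non-abelian simple normal subgroup with trivial centralizer), and suppose the derangements of G form exactly two conjugacy classes. Then either Ω has 3 points and G has order 3; or G has a non-trivial abelian normal subgroup N acting regularly, every non-identity element of G fixes at most one point (so, when n > 3, G is a Frobenius group with kernel N), the number n of points is odd and a point stabilizer has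 order (n − 1)/2; or G is 2-transitive with a non-trivial abelian regular normal subgroup and some non-identity element fixes at least two points (a non-Frobenius 2-transitive affine group). -/
theorem result {G : Type*} [Group G] [Finite G] {Ω : Type*} [Fintype Ω] [MulAction G Ω] [FaithfulSMul G Ω] (hΩ : 2 ≤ Fintype.card Ω) (hprim : MulAction.IsPreprimitive G Ω) (hnas : ¬ ∃ T : Subgroup G, T.Normal ∧ IsSimpleGroup T ∧ ¬ IsMulCommutative T ∧ Subgroup.centralizer (T : Set G) = ⊥)
    (hκ : Nat.card {c : ConjClasses G // ∃ g : G, ConjClasses.mk g = c ∧ ∀ ω : Ω, g • ω ≠ ω} = 2) (α : Ω) :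
    (Fintype.card Ω = 3 ∧ Nat.card G = 3) ∨
    ((∃ N : Subgroup G, N.Normal ∧ N ≠ ⊥ ∧ IsMulCommutative N ∧ ∀ ω : Ω, MulAction.stabilizer N ω = ⊥) ∧ (∀ g : G, g ≠ 1 → Nat.card (MulAction.fixedBy Ω g) ≤ 1) ∧ ¬ 2 ∣ Fintype.card Ω ∧
        2 * Nat.card (MulAction.stabilizer G α) = Fintype.card Ω - 1) ∨
    ((∃ N : Subgroup G, N.Normal ∧ N ≠ ⊥ ∧ IsMulCommutative N ∧ ∀ ω : Ω, MulAction.stabilizer N ω = ⊥) ∧ MulAction.IsMultiplyPretransitive G Ω 2 ∧ ∃ g : G, g ≠ 1 ∧ 2 ≤ Nat.card (MulAction.fixedBy Ω g)) := by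
  classical
  haveI := hprim
  haveI : Nonempty Ω := ⟨α⟩
  have hGnt : Nontrivial G := by
    by_contra h
    rw [not_nontrivial_iff_subsingleton] at h
    have hsub : Subsingleton Ω := by
      refine ⟨fun a b => ?_⟩
      obtain ⟨g, hg⟩ := exists_smul_eq G a b
      rw [← hg, Subsingleton.elim g 1, one_smul]
    have := Fintype.card_le_one_iff_subsingleton.mpr hsub
    omega
  obtain ⟨N, hNn, hN1, hNmin⟩ : ∃ N : Subgroup G, N.Normal ∧ N ≠ ⊥ ∧
      ∀ B : Subgroup G, B.Normal → B ≤ N → B = ⊥ ∨ B = N := by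
    by_cases hs : IsSimpleGroup G
    · exact ⟨⊤, inferInstance, top_ne_bot, fun B hB _ => hB.eq_bot_or_eq_top⟩
    · obtain ⟨N, h1, h2, -, h4⟩ := Cfsg.Agent.Lib.Helper58_MinNormal.exists_minimal_normal hs
      exact ⟨N, h1, h2, h4⟩
  haveI := hNn
  by_cases hab : ∀ a ∈ N, ∀ b ∈ N, a * b = b * a
  · have hR : IsRegAb Ω N := ⟨hNn, hab, fun ω ω' => normal_transitive N hN1 ω ω',
      fun n hn ω h => abelian_semiregular N hN1 hab n hn ω h⟩
    have haff : ∃ N : Subgroup G, N.Normal ∧ N ≠ ⊥ ∧ IsMulCommutative N ∧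
        ∀ ω : Ω, MulAction.stabilizer N ω = ⊥ := by
      refine ⟨N, hNn, hN1, ⟨⟨fun a b => Subtype.ext (hab a a.2 b b.2)⟩⟩, fun ω => ?_⟩
      rw [eq_bot_iff]
      intro n hn
      rw [Subgroup.mem_bot]
      rw [mem_stabilizer_iff] at hn
      apply Subtype.ext
      exact abelian_semiregular N hN1 hab n.1 n.2 ω hn
    rcases abelian_case hκ α N hR with h | h
    · right; left; exact ⟨haff, h⟩
    · right; right; exact ⟨haff, h⟩
  · exact (nonabelian_case hnas (three_der hκ) α N hNn hN1 hNmin hab).elim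

end Cfsg.Agent.S3520
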