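import Cfsg.Statements.S3532
import Cfsg.Agent.Lib.Helper41_AffGroup
import Cfsg.Agent.S2475

set_option autoImplicit false
open Cfsg

namespace Cfsg.Agent.S3532

/-- In a finite field there are units of every order dividing `|K| - 1`. -/
theorem exists_unit_orderOf (K : Type*) [Field K] [Finite K] (m : ℕ) (hm : m ∣ Nat.card K - 1) :
    ∃ u : Kˣ, orderOf u = m := by
  have h := Cfsg.Agent.Lib.Helper41_AffGroup.range_orderOf_of_isCyclic (G := Kˣ)
  rw [Nat.card_units] at h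
  have : m ∈ Set.range (orderOf : Kˣ → ℕ) := by rw [h]; exact hm
  exact this

/-- Combinatorics of lcm's of divisors. -/
theorem lcm_sets (p m₂ m₃ : ℕ) :
    {n | ∃ a ∈ ({n | n ∣ p} ∪ {n | n ∣ m₂} : Set ℕ), ∃ b ∈ ({n | n ∣ p} ∪ {n | n ∣ m₃} : Set ℕ),
      n = Nat.lcm a b} =
    {n | ∃ a ∈ {m : ℕ | m ∣ p ∨ m ∣ m₂ ∨ m ∣ m₃}, ∃ b ∈ {m : ℕ | m ∣ p ∨ m ∣ m₂ ∨ m ∣ m₃},
      n = Nat.lcm a b} := by
  ext n
  constructor
  · rintro ⟨a, ha, b, hb, rfl⟩
    refine ⟨a, ?_, b, ?_, rfl⟩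
    · rcases ha with h | h
      · exact Or.inl h
      · exact Or.inr (Or.inl h)
    · rcases hb with h | h
      · exact Or.inl h
      · exact Or.inr (Or.inr h)
  · rintro ⟨a, ha, b, hb, rfl⟩
    rcases ha with h1 | h1 | h1 <;> rcases hb with h2 | h2 | h2
    · exact ⟨Nat.lcm a b, Or.inl (Nat.lcm_dvd h1 h2), 1, Or.inl (one_dvd _), (Nat.lcm_one_right _).symm⟩
    · exact ⟨b, Or.inr h2, a, Or.inl h1, Nat.lcm_comm a b⟩
    · exact ⟨a, Or.inl h1, b, Or.inr h2, rfl⟩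
    · exact ⟨a, Or.inr h1, b, Or.inl h2, rfl⟩
    · exact ⟨Nat.lcm a b, Or.inr (Nat.lcm_dvd h1 h2), 1, Or.inl (one_dvd _), (Nat.lcm_one_right _).symm⟩
    · exact ⟨a, Or.inr h1, b, Or.inr h2, rfl⟩
    · exact ⟨b, Or.inl h2, a, Or.inr h1, Nat.lcm_comm a b⟩
    · exact ⟨b, Or.inr h2, a, Or.inr h1, Nat.lcm_comm a b⟩
    · exact ⟨1, Or.inl (one_dvd _), Nat.lcm a b, Or.inr (Nat.lcm_dvd h1 h2), (Nat.lcm_one_left _).symm⟩

/-- Let q ≥ 4 be a prime power and L = PSL(2,q). There is a finite solvable group with the same set of element orders as L × L (so L × L is not determined by its spectrum). -/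
theorem result {F : Type*} [Field F] [Fintype F] (hF : 4 ≤ Fintype.card F) :
    ∃ (H : Type) (_ : Group H) (_ : Finite H), Group.IsSolvable H ∧
      Set.range (orderOf : H → ℕ) = Set.range (orderOf : Matrix.ProjectiveSpecialLinearGroup (Fin 2) F × Matrix.ProjectiveSpecialLinearGroup (Fin 2) F → ℕ) := by
  classical
  obtain ⟨p, hp⟩ := CharP.exists F
  have : Fact p.Prime := ⟨CharP.char_is_prime F p⟩
  obtain ⟨n, hpn, hq⟩ := FiniteField.card F p
  have hspec := Cfsg.Agent.S2475.result (F := F) p hF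
  set q := Fintype.card F with hqdef
  set d := Nat.gcd 2 (q - 1) with hd
  have hK₁ : Nat.card (GaloisField p n) = q := by rw [GaloisField.card p n n.ne_zero, hq]
  have hK₂ : Nat.card (GaloisField p (2 * n)) = q ^ 2 := by
    rw [GaloisField.card p (2 * n) (by have := n.pos; omega), hq, ← pow_mul, mul_comm]
  have hd1 : d ∣ q - 1 := Nat.gcd_dvd_right 2 (q - 1)
  have hd2 : d ∣ q + 1 := by
    have h2 : d ∣ 2 := Nat.gcd_dvd_left 2 (q - 1)
    have : q + 1 = (q - 1) + 2 := by omega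
    rw [this]
    exact dvd_add hd1 h2
  have hm₂ : (q - 1) / d ∣ Nat.card (GaloisField p n) - 1 := by
    rw [hK₁]; exact Nat.div_dvd_of_dvd hd1
  have hm₃ : (q + 1) / d ∣ Nat.card (GaloisField p (2 * n)) - 1 := by
    rw [hK₂]
    have h1 : q ^ 2 - 1 = (q + 1) * (q - 1) := by
      have := Nat.sq_sub_sq q 1
      simpa using this
    rw [h1]
    exact dvd_trans (Nat.div_dvd_of_dvd hd2) (dvd_mul_right _ _)
  obtain ⟨u₁, hu₁⟩ := exists_unit_orderOf (GaloisField p n) _ hm₂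
  obtain ⟨u₂, hu₂⟩ := exists_unit_orderOf (GaloisField p (2 * n)) _ hm₃
  refine ⟨Cfsg.Agent.Lib.Helper41_AffGroup.Aff (GaloisField p n) (Subgroup.zpowers u₁) ×
    Cfsg.Agent.Lib.Helper41_AffGroup.Aff (GaloisField p (2 * n)) (Subgroup.zpowers u₂),
    inferInstance, inferInstance, inferInstance, ?_⟩
  rw [Cfsg.Agent.Lib.Helper41_AffGroup.range_orderOf_prod,
    Cfsg.Agent.Lib.Helper41_AffGroup.range_orderOf_prod,
    Cfsg.Agent.Lib.Helper41_AffGroup.range_orderOf p,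
    Cfsg.Agent.Lib.Helper41_AffGroup.range_orderOf p,
    Cfsg.Agent.Lib.Helper41_AffGroup.range_orderOf_of_isCyclic,
    Cfsg.Agent.Lib.Helper41_AffGroup.range_orderOf_of_isCyclic,
    Nat.card_zpowers, Nat.card_zpowers, hu₁, hu₂, hspec]
  exact lcm_sets p _ _

end Cfsg.Agent.S3532
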