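import Cfsg.Statements.S3547
import Cfsg.Agent.Lib.Helper59_Derangements

set_option autoImplicit false
open Cfsg

namespace Cfsg.Agent.S3547

open MulAction Cfsg.Agent.Lib.Helper59_Derangements

/-- fixed points on pairs -/
theorem card_fixedBy_prod {G Ω : Type*} [Group G] [MulAction G Ω] (g : G) :
    Nat.card (fixedBy (Ω × Ω) g) = Nat.card (fixedBy Ω g) * Nat.card (fixedBy Ω g) := by
  rw [← Nat.card_prod]
  apply Nat.card_congr
  refine ⟨fun x => (⟨x.1.1, congrArg Prod.fst x.2⟩, ⟨x.1.2, congrArg Prod.snd x.2⟩),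
    fun y => ⟨(y.1.1, y.2.1), Prod.ext y.1.2 y.2.2⟩, fun x => rfl, fun y => rfl⟩

/-- Let G act faithfully and transitively on a finite set Ω, let D be the subgroup generated by the derangements, and let r_G and r_D be the numbers of orbits of G and of D on ordered pairs of points (the permutation ranks). Then r_D − 1 = (r_G − 1)·[G : D]. -/
theorem result {G Ω : Type*} [Group G] [Finite G] [MulAction G Ω] [FaithfulSMul G Ω] [Finite Ω]
    (htrans : MulAction.IsPretransitive G Ω) :
    Nat.card (MulAction.orbitRel.Quotient ↥(Subgroup.closure {g : G | ∀ ω : Ω, g • ω ≠ ω}) (Ω × Ω)) - 1 =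
      (Nat.card (MulAction.orbitRel.Quotient G (Ω × Ω)) - 1) * (Subgroup.closure {g : G | ∀ ω : Ω, g • ω ≠ ω}).index := by
  classical
  obtain ⟨h1, h2⟩ := main_count (G := G) (Ω := Ω)
  have : Fintype G := Fintype.ofFinite G
  set D := Subgroup.closure {g : G | ∀ ω : Ω, g • ω ≠ ω} with hD
  have hG := burnside (G := G) (Ω := Ω × Ω)
  have hDsum := burnside_subgroup (Ω := Ω × Ω) D
  have hsplit := Finset.sum_filter_add_sum_filter_not (Finset.univ : Finset G) (· ∈ D)
    (fun g => Nat.card (fixedBy (Ω × Ω) g))
  have hcardsplit := Finset.card_filter_add_card_filter_not (s := (Finset.univ : Finset G))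
    (· ∈ D)
  have hcD : (Finset.univ.filter (· ∈ D)).card = Nat.card D := by
    rw [Nat.card_eq_fintype_card, Fintype.card_subtype]
  have hcG : (Finset.univ : Finset G).card = Nat.card G := by
    rw [Finset.card_univ, Nat.card_eq_fintype_card]
  have hout : ∑ g ∈ Finset.univ.filter (fun g : G => ¬ g ∈ D), Nat.card (fixedBy (Ω × Ω) g) =
      (Finset.univ.filter (fun g : G => ¬ g ∈ D)).card := by
    rw [Finset.card_eq_sum_ones]
    apply Finset.sum_congr rfl
    intro g hg
    rw [card_fixedBy_prod, h2 g (Finset.mem_filter.1 hg).2]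
  have hidx : D.index * Nat.card D = Nat.card G := D.index_mul_card
  have hDpos : 0 < Nat.card D := Nat.card_pos
  rw [hDsum, hG, hout] at hsplit
  rw [hcD, hcG] at hcardsplit
  generalize Nat.card (orbitRel.Quotient D (Ω × Ω)) = rD at *
  generalize Nat.card (orbitRel.Quotient G (Ω × Ω)) = rG at *
  generalize D.index = k at *
  generalize Nat.card D = m at *
  generalize Nat.card G = N at *
  generalize (Finset.univ.filter (fun g : G => ¬ g ∈ D)).card = c at *
  -- rD * m + c = rG * N, m + c = N, k * m = N
  subst hidx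
  -- (rD + k) * m = (rG * k + 1) * m
  have h3 : (rD + k) * m = (rG * k + 1) * m := by
    have : c = k * m - m := by omega
    have hkm : m ≤ k * m := by
      rcases Nat.eq_zero_or_pos k with hk | hk
      · subst hk; omega
      · exact Nat.le_mul_of_pos_left m hk
    nlinarith
  have h4 : rD + k = rG * k + 1 := Nat.eq_of_mul_eq_mul_right hDpos h3
  rcases Nat.eq_zero_or_pos rG with h0 | hpos
  · subst h0
    simp at h4 ⊢
    omega
  · obtain ⟨r, rfl⟩ : ∃ r, rG = r + 1 := ⟨rG - 1, by omega⟩
    simp only [Nat.add_sub_cancel]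
    have : rD = r * k + 1 := by nlinarith
    omega

end Cfsg.Agent.S3547
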