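import Cfsg.Statements.S3549
import Cfsg.Agent.Lib.Helper59_Derangements2

set_option autoImplicit false
open Cfsg

namespace Cfsg.Agent.S3549

open scoped Pointwise
open MulAction Cfsg.Agent.Lib.Helper59_Derangements Cfsg.Agent.Lib.Helper59_Derangements2

/-- Let G act faithfully, transitively but imprimitively on a finite set with n points, and let D be the subgroup generated by the derangements. Then the index of D in G is at most √n − 1. -/
theorem result {G Ω : Type*} [Group G] [Finite G] [MulAction G Ω] [FaithfulSMul G Ω] [Finite Ω]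
    (htrans : MulAction.IsPretransitive G Ω) (himp : ¬ MulAction.IsPreprimitive G Ω) :
    ((Subgroup.closure {g : G | ∀ ω : Ω, g • ω ≠ ω}).index : ℝ) ≤ Real.sqrt (Nat.card Ω) - 1 := by
  classical
  have : Fintype Ω := Fintype.ofFinite Ω
  -- a nontrivial block
  obtain ⟨B, hB, hBt⟩ : ∃ B : Set Ω, IsBlock G B ∧ ¬ IsTrivialBlock B := by
    by_contra h
    push Not at h
    exact himp { toIsPretransitive := htrans, isTrivialBlock_of_isBlock := fun {B} hB => h B hB }
  unfold IsTrivialBlock at hBt
  push Not at hBt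
  obtain ⟨hBns, hBnu⟩ := hBt
  obtain ⟨a, haB⟩ := hBns.nonempty
  have hne : Nonempty Ω := ⟨a⟩
  set k := (derSubgroup G Ω).index with hk
  have hkn : k ∣ Nat.card Ω - 1 := index_dvd_card_sub_one (G := G) (Ω := Ω)
  have hkpos : 0 < k := Nat.pos_of_ne_zero (Subgroup.index_ne_zero_of_finite)
  -- sizes
  have hbm := hB.ncard_block_mul_ncard_orbit_eq ⟨a, haB⟩
  have hb2 : 2 ≤ B.ncard := (Set.one_lt_ncard_iff_nontrivial).2 hBns
  have hbn : B.ncard < Nat.card Ω := by
    have : B ⊂ Set.univ := by
      rw [Set.ssubset_univ_iff]; exact hBnu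
    have := Set.ncard_lt_ncard this
    rwa [Set.ncard_univ] at this
  -- k divides b - 1
  have hkb : k ∣ B.ncard - 1 := by
    have := index_dvd_card_of_invariant (G := G) a (B.toFinset.erase a) (by simp) (by
      intro h x hx
      rw [Finset.mem_erase, Set.mem_toFinset] at hx ⊢
      have h2 : (h : G) • a = a := h.2
      refine ⟨?_, ?_⟩
      · intro hh
        apply hx.1
        exact smul_left_cancel (h : G) (hh.trans h2.symm)
      · have hBB : (h : G) • B = B := hB.smul_eq_of_mem haB (by rw [h2]; exact haB)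
        have : (h : G) • x ∈ (h : G) • B := Set.smul_mem_smul_set hx.2
        rw [hBB] at this
        exact this)
    rw [Finset.card_erase_of_mem (by simpa using haB), ← Set.ncard_eq_toFinset_card'] at this
    exact this
  generalize hb : B.ncard = b at *
  generalize hm : (orbit G B).ncard = m at *
  generalize hn : Nat.card Ω = n at *
  have hm2 : 2 ≤ m := by
    by_contra h
    push Not at h
    have : m ≤ 1 := by omega
    have : b * m ≤ b * 1 := Nat.mul_le_mul_left b this
    omega
  -- k divides m - 1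
  have hkm : k ∣ m - 1 := by
    have h1 : n - 1 = m * (b - 1) + (m - 1) := by
      obtain ⟨b', rfl⟩ : ∃ b', b = b' + 1 := ⟨b - 1, by omega⟩
      obtain ⟨m', rfl⟩ : ∃ m', m = m' + 1 := ⟨m - 1, by omega⟩
      rw [← hbm]
      simp only [Nat.add_sub_cancel]
      ring_nf
      omega
    rw [h1] at hkn
    exact (Nat.dvd_add_right (Dvd.dvd.mul_left hkb m)).1 hkn
  have hkb' : k ≤ b - 1 := Nat.le_of_dvd (by omega) hkb
  have hkm' : k ≤ m - 1 := Nat.le_of_dvd (by omega) hkm
  have hsq : (k + 1) * (k + 1) ≤ n := by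
    rw [← hbm]
    exact Nat.mul_le_mul (by omega) (by omega)
  have hreal : ((k : ℝ) + 1) ≤ Real.sqrt (n : ℝ) := by
    rw [Real.le_sqrt (by positivity) (by positivity)]
    have : ((k + 1) * (k + 1) : ℕ) ≤ n := hsq
    have h2 : (((k + 1) * (k + 1) : ℕ) : ℝ) ≤ (n : ℝ) := by exact_mod_cast this
    push_cast at h2
    nlinarith
  change ((k : ℝ)) ≤ Real.sqrt (n : ℝ) - 1
  linarith

end Cfsg.Agent.S3549
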