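import Cfsg.Statements.S3554
-- import your own Cfsg.Agent.* helpers here

set_option autoImplicit false
open Cfsg

namespace Cfsg.Agent.S3554

/-- Let G act faithfully and transitively on a finite set and suppose G has a non-trivial cyclic normal subgroup. Then some element of G of prime order fixes no point. -/
theorem result {G Ω : Type*} [Group G] [Finite G] [MulAction G Ω] [FaithfulSMul G Ω] [Finite Ω]
    (htrans : MulAction.IsPretransitive G Ω) (C : Subgroup G) (hC : C.Normal) (hC1 : C ≠ ⊥) (hcyc : IsCyclic ↥C) :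
    ∃ g : G, (orderOf g).Prime ∧ ∀ ω : Ω, g • ω ≠ ω := by
  classical
  obtain ⟨z, hz⟩ := hcyc.exists_generator
  -- order of z
  have hzord : orderOf z = Nat.card C := orderOf_eq_card_of_forall_mem_zpowers hz
  have hcard : Nat.card C ≠ 1 := by
    intro h
    exact hC1 ((Subgroup.card_eq_one).1 h)
  obtain ⟨p, hp, hpd⟩ := Nat.exists_prime_and_dvd hcard
  set n := Nat.card C with hn
  have hnpos : 0 < n := Nat.card_pos
  set z' : G := (z : G) with hz'
  have hz'ord : orderOf z' = n := by
    rw [hz', Subgroup.orderOf_coe, hzord]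
  set g : G := z' ^ (n / p) with hg
  have hnp : n / p ≠ 0 := by
    have := Nat.div_pos (Nat.le_of_dvd hnpos hpd) hp.pos
    omega
  have hgord : orderOf g = p := by
    rw [hg, orderOf_pow_of_dvd hnp (by rw [hz'ord]; exact Nat.div_dvd_of_dvd hpd), hz'ord]
    exact Nat.div_div_self hpd hnpos.ne'
  refine ⟨g, by rw [hgord]; exact hp, ?_⟩
  -- conjugates of g are powers of g
  have hconj : ∀ h : G, ∃ k : ℤ, h⁻¹ * g * h = g ^ k := by
    intro h
    have hmem : h⁻¹ * z' * h ∈ C := by
      have := hC.conj_mem z' z.2 h⁻¹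
      simpa using this
    obtain ⟨k, hk⟩ := Subgroup.mem_zpowers_iff.1 (hz ⟨_, hmem⟩)
    have hk' : z' ^ k = h⁻¹ * z' * h := by
      have := congrArg (Subtype.val) hk
      simpa using this
    refine ⟨k, ?_⟩
    have : h⁻¹ * g * h = (h⁻¹ * z' * h) ^ (n / p) := by
      rw [hg]
      have := map_pow (MulAut.conj h⁻¹) z' (n / p)
      simp only [MulAut.conj_apply, inv_inv] at this
      exact this
    rw [this, ← hk', hg, ← zpow_natCast, ← zpow_natCast, ← zpow_mul, ← zpow_mul, mul_comm]
  intro ω hω
  -- g fixes every point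
  have hall : ∀ ω' : Ω, g • ω' = ω' := by
    intro ω'
    obtain ⟨h, rfl⟩ := MulAction.exists_smul_eq G ω ω'
    obtain ⟨k, hk⟩ := hconj h
    have h1 : g ^ k • ω = ω := by
      have : g ∈ MulAction.stabilizer G ω := hω
      exact (MulAction.stabilizer G ω).zpow_mem this k
    have h2 : (h⁻¹ * g * h) • ω = ω := by rw [hk]; exact h1
    calc g • h • ω = h • ((h⁻¹ * g * h) • ω) := by
          simp only [smul_smul]
          congr 1
          group
      _ = h • ω := by rw [h2]
  have hg1 : g = 1 := by
    apply FaithfulSMul.eq_of_smul_eq_smul (α := Ω)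
    intro a
    rw [hall a, one_smul]
  rw [hg1, orderOf_one] at hgord
  exact hp.one_lt.ne hgord

end Cfsg.Agent.S3554
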