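import Cfsg.Statements.S3555
import Cfsg.Agent.Lib.Helper59_Derangements

set_option autoImplicit false
open Cfsg

namespace Cfsg.Agent.S3555

open MulAction Cfsg.Agent.Lib.Helper59_Derangements

section Count

variable {G Ω : Type*} [Group G] [MulAction G Ω] [Fintype G] [Fintype Ω] [DecidableEq Ω]

/-- number of fixed points as a sum of indicators -/
theorem card_fixedBy_eq_sum (g : G) :
    Nat.card (fixedBy Ω g) = ∑ α : Ω, if g • α = α then 1 else 0 := by
  rw [← Finset.card_filter, Nat.card_eq_fintype_card]
  exact Fintype.card_subtype _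

/-- pairs swapped by `g` are at most as many as pairs fixed -/
theorem card_swap_le (α β : Ω) :
    (Finset.univ.filter (fun g : G => g • α = β ∧ g • β = α)).card ≤
      (Finset.univ.filter (fun g : G => g • α = α ∧ g • β = β)).card := by
  classical
  by_cases h : ∃ g₀ : G, g₀ • α = β ∧ g₀ • β = α
  · obtain ⟨g₀, h1, h2⟩ := h
    apply Finset.card_le_card_of_injOn (fun g => g₀⁻¹ * g)
    · intro g hg
      simp only [Finset.coe_filter, Finset.mem_univ, true_and, Set.mem_setOf_eq] at hg ⊢
      constructor
      · rw [mul_smul, hg.1, inv_smul_eq_iff, h1]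
      · rw [mul_smul, hg.2, inv_smul_eq_iff, h2]
    · intro g _ g' _ hgg'
      exact mul_left_cancel hgg'
  · have : (Finset.univ.filter (fun g : G => g • α = β ∧ g • β = α)) = ∅ := by
      rw [Finset.filter_eq_empty_iff]
      intro g _ hg
      exact h ⟨g, hg⟩
    rw [this]
    simp

theorem sq_count_le :
    ∑ g : G, Nat.card (fixedBy Ω (g * g)) ≤ ∑ g : G, (Nat.card (fixedBy Ω g)) ^ 2 := by
  classical
  have h1 : ∀ g : G, Nat.card (fixedBy Ω (g * g)) =
      ∑ α : Ω, ∑ β : Ω, if g • α = β ∧ g • β = α then 1 else 0 := by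
    intro g
    rw [card_fixedBy_eq_sum]
    apply Finset.sum_congr rfl
    intro α _
    have : ∀ β : Ω, (if g • α = β ∧ g • β = α then 1 else 0) =
        if g • α = β then (if g • g • α = α then 1 else 0) else 0 := by
      intro β
      by_cases hβ : g • α = β
      · subst hβ
        simp
      · simp [hβ]
    simp_rw [this]
    rw [Finset.sum_ite_eq Finset.univ (g • α) (fun _ => if g • g • α = α then 1 else 0)]
    simp [mul_smul]
  have h2 : ∀ g : G, (Nat.card (fixedBy Ω g)) ^ 2 =
      ∑ α : Ω, ∑ β : Ω, if g • α = α ∧ g • β = β then 1 else 0 := by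
    intro g
    rw [sq, card_fixedBy_eq_sum, Finset.sum_mul_sum]
    apply Finset.sum_congr rfl
    intro α _
    apply Finset.sum_congr rfl
    intro β _
    by_cases ha : g • α = α <;> by_cases hb : g • β = β <;> simp [ha, hb]
  simp_rw [h1, h2]
  rw [Finset.sum_comm]
  conv_rhs => rw [Finset.sum_comm]
  apply Finset.sum_le_sum
  intro α _
  rw [Finset.sum_comm]
  conv_rhs => rw [Finset.sum_comm]
  apply Finset.sum_le_sum
  intro β _
  rw [← Finset.card_filter, ← Finset.card_filter]
  exact card_swap_le α β

/-- Key lemma: if all derangements are involutions then every non-identity element has at most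
one fixed point. -/
theorem key [FaithfulSMul G Ω] [IsPretransitive G Ω] [Nonempty Ω]
    (hinv : ∀ g : G, (∀ ω : Ω, g • ω ≠ ω) → g * g = 1) :
    ∀ g : G, g ≠ 1 → Nat.card (fixedBy Ω g) ≤ 1 := by
  classical
  set n := Nat.card Ω with hn
  set N := Nat.card G with hN
  have hfin : Finite G := inferInstance
  -- a, b, c
  have ha_le : ∀ g : G, Nat.card (fixedBy Ω g) ≤ n := fun g =>
    Nat.card_le_card_of_injective _ Subtype.val_injective
  have hi : ∀ g : G, Nat.card (fixedBy Ω g) + (if Nat.card (fixedBy Ω g) = 0 then n else 0) ≤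
      Nat.card (fixedBy Ω (g * g)) := by
    intro g
    by_cases h0 : Nat.card (fixedBy Ω g) = 0
    · rw [if_pos h0, h0, zero_add]
      have hder : ∀ ω : Ω, g • ω ≠ ω := by
        intro ω hω
        have : Nonempty (fixedBy Ω g) := ⟨⟨ω, hω⟩⟩
        have := Nat.card_pos (α := fixedBy Ω g)
        omega
      rw [hinv g hder]
      have : fixedBy Ω (1 : G) = Set.univ := by
        ext ω; simp
      rw [this, Nat.card_coe_set_eq, Set.ncard_univ]
    · rw [if_neg h0, add_zero]
      apply Nat.card_mono (Set.toFinite _)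
      intro ω hω
      rw [mem_fixedBy] at hω ⊢
      rw [mul_smul, hω, hω]
  have hii : ∀ g : G, (Nat.card (fixedBy Ω g)) ^ 2 + n ≤
      (n + 1) * Nat.card (fixedBy Ω g) + (if Nat.card (fixedBy Ω g) = 0 then n else 0) := by
    intro g
    have := ha_le g
    by_cases h0 : Nat.card (fixedBy Ω g) = 0
    · rw [if_pos h0, h0]; simp
    · rw [if_neg h0, add_zero]
      generalize Nat.card (fixedBy Ω g) = a at *
      obtain ⟨a', rfl⟩ : ∃ a', a = a' + 1 := ⟨a - 1, by omega⟩
      obtain ⟨d, hd⟩ : ∃ d, n = a' + 1 + d := ⟨n - (a' + 1), by omega⟩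
      rw [hd]
      nlinarith
  have hsumA : ∑ g : G, Nat.card (fixedBy Ω g) = N := by
    rw [burnside, card_orbits_eq_one, one_mul]
  have hsumB := sq_count_le (G := G) (Ω := Ω)
  have hsum1 := Finset.sum_le_sum (fun g (_ : g ∈ (Finset.univ : Finset G)) => hi g)
  have hsum2 := Finset.sum_le_sum (fun g (_ : g ∈ (Finset.univ : Finset G)) => hii g)
  have hcardG : (Finset.univ : Finset G).card = N := by
    rw [Finset.card_univ, hN, Nat.card_eq_fintype_card]
  have heq : ∑ g : G, ((Nat.card (fixedBy Ω g)) ^ 2 + n) =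
      ∑ g : G, ((n + 1) * Nat.card (fixedBy Ω g) +
        (if Nat.card (fixedBy Ω g) = 0 then n else 0)) := by
    apply le_antisymm hsum2
    rw [Finset.sum_add_distrib, Finset.sum_add_distrib, ← Finset.mul_sum, hsumA,
      Finset.sum_const, hcardG, smul_eq_mul]
    rw [Finset.sum_add_distrib, hsumA] at hsum1
    nlinarith
  have hterm := (Finset.sum_eq_sum_iff_of_le (fun g _ => hii g)).1 heq
  intro g hg
  have h1 := hterm g (Finset.mem_univ _)
  have h2 := ha_le g
  by_contra hgt
  push Not at hgt
  have h0 : Nat.card (fixedBy Ω g) ≠ 0 := by omega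
  rw [if_neg h0, add_zero] at h1
  -- a = n
  have han : Nat.card (fixedBy Ω g) = n := by
    generalize Nat.card (fixedBy Ω g) = a at *
    by_contra hne
    obtain ⟨a', rfl⟩ : ∃ a', a = a' + 2 := ⟨a - 2, by omega⟩
    obtain ⟨d, hd⟩ : ∃ d, n = a' + 2 + d + 1 := ⟨n - (a' + 2) - 1, by omega⟩
    rw [hd] at h1
    nlinarith
  apply hg
  apply FaithfulSMul.eq_of_smul_eq_smul (α := Ω)
  intro ω
  rw [one_smul]
  have huniv : fixedBy Ω g = Set.univ := by
    apply Set.eq_of_subset_of_ncard_le (Set.subset_univ _)
    rw [Set.ncard_univ, ← Nat.card_coe_set_eq, han]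
  have : ω ∈ fixedBy Ω g := by rw [huniv]; exact Set.mem_univ _
  exact this

end Count

open scoped Pointwise in
theorem mem_conj_smul_iff {G : Type*} [Group G] (H : Subgroup G) (g x : G) :
    x ∈ MulAut.conj g • H ↔ g⁻¹ * x * g ∈ H := by
  rw [Subgroup.mem_pointwise_smul_iff_inv_smul_mem]
  simp [MulAut.smul_def]

/-- Let G act faithfully and transitively on a finite set and suppose every element of G fixing no point is an involution. Then either G is an elementary abelian 2-group, or G is a Frobenius group whose Frobenius kernel is an elementary abelian 2-group: G has a Frobenius complement H, and the elements lying in no conjugate of H, together with the identity, pairwise commute and square to the identity. -/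
theorem result {G Ω : Type*} [Group G] [Finite G] [MulAction G Ω] [FaithfulSMul G Ω] [Finite Ω]
    (htrans : MulAction.IsPretransitive G Ω) (hinv : ∀ g : G, (∀ ω : Ω, g • ω ≠ ω) → orderOf g = 2) :
    (IsMulCommutative G ∧ ∀ g : G, g ^ 2 = 1) ∨
    (∃ H : Subgroup G, Cfsg.IsFrobeniusComplement H ∧
      (∀ x ∈ Cfsg.frobeniusKernel H, x ^ 2 = 1) ∧
      ∀ x ∈ Cfsg.frobeniusKernel H, ∀ y ∈ Cfsg.frobeniusKernel H, x * y = y * x) := by
  classical
  have : Fintype G := Fintype.ofFinite G
  have : Fintype Ω := Fintype.ofFinite Ω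
  rcases isEmpty_or_nonempty Ω with hΩ | hΩ
  · -- trivial group
    have h1 : ∀ g : G, g = 1 := by
      intro g
      apply FaithfulSMul.eq_of_smul_eq_smul (α := Ω)
      intro ω
      exact (hΩ.false ω).elim
    left
    refine ⟨⟨⟨fun a b => by rw [h1 a, h1 b]⟩⟩, fun g => by rw [h1 g]; simp⟩
  obtain ⟨α⟩ := hΩ
  have : Nonempty Ω := ⟨α⟩
  have hsq : ∀ g : G, (∀ ω : Ω, g • ω ≠ ω) → g ^ 2 = 1 := by
    intro g hg
    rw [← hinv g hg]
    exact pow_orderOf_eq_one g
  have hinv' : ∀ g : G, (∀ ω : Ω, g • ω ≠ ω) → g * g = 1 := by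
    intro g hg
    rw [← sq]; exact hsq g hg
  have FPF := key (G := G) (Ω := Ω) hinv'
  have FPF2 : ∀ g : G, g ≠ 1 → ∀ β γ : Ω, g • β = β → g • γ = γ → β = γ := by
    intro g hg β γ hβ hγ
    have h1 := FPF g hg
    have : Subsingleton (fixedBy Ω g) := (Finite.card_le_one_iff_subsingleton).1 h1
    have := Subsingleton.elim (⟨β, hβ⟩ : fixedBy Ω g) ⟨γ, hγ⟩
    exact Subtype.ext_iff.1 this
  -- two derangements commute
  have hcomm : ∀ x y : G, (∀ ω : Ω, x • ω ≠ ω) → (∀ ω : Ω, y • ω ≠ ω) → x * y = y * x := by
    intro x y hx hy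
    have hx2 := hinv' x hx
    have hy2 := hinv' y hy
    by_cases hxy : (x * y) * (x * y) = 1
    · -- then they commute
      have hxinv : x⁻¹ = x := inv_eq_of_mul_eq_one_left hx2
      have hyinv : y⁻¹ = y := inv_eq_of_mul_eq_one_left hy2
      have : (x * y)⁻¹ = x * y := inv_eq_of_mul_eq_one_left hxy
      rw [mul_inv_rev, hxinv, hyinv] at this
      exact this.symm
    · exfalso
      -- x * y is not a derangement
      have hnd : ¬ ∀ ω : Ω, (x * y) • ω ≠ ω := fun h => hxy (hinv' _ h)
      push Not at hnd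
      obtain ⟨β, hβ⟩ := hnd
      have hne : y * x ≠ 1 := by
        intro h
        apply hxy
        have hxinv : x⁻¹ = x := inv_eq_of_mul_eq_one_left hx2
        have : y = x := by
          have := eq_inv_of_mul_eq_one_left h
          rw [this, hxinv]
        rw [this, hx2, one_mul]
      -- y * x fixes β and x • β
      have h1 : (y * x) • β = β := by
        have : (y * x) * (x * y) = 1 := by
          calc (y * x) * (x * y) = y * (x * x) * y := by group
            _ = 1 := by rw [hx2, mul_one, hy2]
        calc (y * x) • β = (y * x) • ((x * y) • β) := by rw [hβ]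
          _ = ((y * x) * (x * y)) • β := by rw [mul_smul (y * x) (x * y) β]
          _ = β := by rw [this, one_smul]
      have h2 : (y * x) • (x • β) = x • β := by
        calc (y * x) • (x • β) = (y * (x * x)) • β := by rw [← mul_smul, mul_assoc]
          _ = y • β := by rw [hx2, mul_one]
          _ = x • ((x * y) • β) := by rw [← mul_smul, ← mul_assoc, hx2, one_mul]
          _ = x • β := by rw [hβ]
      exact hx β (FPF2 _ hne β (x • β) h1 h2).symm
  set H := stabilizer G α with hH
  by_cases hHbot : H = ⊥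
  · left
    have hder : ∀ g : G, g ≠ 1 → ∀ ω : Ω, g • ω ≠ ω := by
      intro g hg ω hω
      obtain ⟨h, rfl⟩ := exists_smul_eq G α ω
      have : h⁻¹ * g * h ∈ H := by
        rw [hH, mem_stabilizer_iff, mul_smul, mul_smul, hω, inv_smul_smul]
      rw [hHbot, Subgroup.mem_bot] at this
      apply hg
      have h2 := congrArg (fun z => h * z * h⁻¹) this
      simp only [mul_one, mul_inv_cancel] at h2
      rw [← h2]; group
    refine ⟨⟨⟨fun a b => ?_⟩⟩, fun g => ?_⟩
    · by_cases ha : a = 1
      · rw [ha]; simp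
      by_cases hb : b = 1
      · rw [hb]; simp
      exact hcomm a b (hder a ha) (hder b hb)
    · by_cases hg : g = 1
      · rw [hg]; simp
      · exact hsq g (hder g hg)
  · right
    refine ⟨H, ⟨hHbot, ?_, ?_⟩, ?_, ?_⟩
    · intro hHtop
      apply hHbot
      rw [eq_bot_iff]
      intro g _
      rw [Subgroup.mem_bot]
      apply FaithfulSMul.eq_of_smul_eq_smul (α := Ω)
      intro ω
      rw [one_smul]
      obtain ⟨h, rfl⟩ := exists_smul_eq G α ω
      have h1 : h ∈ H := by rw [hHtop]; exact Subgroup.mem_top _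
      have h2 : g * h ∈ H := by rw [hHtop]; exact Subgroup.mem_top _
      rw [hH, mem_stabilizer_iff] at h1 h2
      rw [← mul_smul, h2, h1]
    · intro g hg
      rw [eq_bot_iff]
      intro x hx
      rw [Subgroup.mem_bot]
      obtain ⟨hx1, hx2⟩ := Subgroup.mem_inf.1 hx
      rw [mem_conj_smul_iff] at hx2
      by_contra hne
      have h1 : x • α = α := hx1
      have h2 : x • (g • α) = g • α := by
        have : (g⁻¹ * x * g) • α = α := hx2
        rw [mul_smul, mul_smul, inv_smul_eq_iff] at this
        exact this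
      have := FPF2 x hne α (g • α) h1 h2
      exact hg this.symm
    · intro x hx
      rcases hx with rfl | hx
      · simp
      · apply hsq
        intro ω hω
        obtain ⟨h, rfl⟩ := exists_smul_eq G α ω
        apply hx h
        rw [mem_conj_smul_iff, hH, mem_stabilizer_iff, mul_smul, mul_smul, hω, inv_smul_smul]
    · intro x hx y hy
      have hder : ∀ z ∈ Cfsg.frobeniusKernel H, z ≠ 1 → ∀ ω : Ω, z • ω ≠ ω := by
        intro z hz hz1 ω hω
        rcases hz with rfl | hz
        · exact hz1 rfl
        obtain ⟨h, rfl⟩ := exists_smul_eq G α ω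
        apply hz h
        rw [mem_conj_smul_iff, hH, mem_stabilizer_iff, mul_smul, mul_smul, hω, inv_smul_smul]
      by_cases hx1 : x = 1
      · rw [hx1]; simp
      by_cases hy1 : y = 1
      · rw [hy1]; simp
      exact hcomm x y (hder x hx hx1) (hder y hy hy1)


end Cfsg.Agent.S3555
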