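import Cfsg.Statements.S3556
import Cfsg.Agent.Lib.Helper58_PrimNormal
import Cfsg.Agent.Lib.Helper58_MinNormal
import Cfsg.Agent.Lib.Helper58_MinInv
import Cfsg.Agent.Lib.Helper58_Jordan

set_option autoImplicit false
set_option linter.style.haveILetI false
open Cfsg

namespace Cfsg.Agent.S3556

open MulAction
open scoped Pointwise
open Cfsg.Agent.Lib.Helper58_PrimNormal Cfsg.Agent.Lib.Helper58_MinInv
open Cfsg.Agent.Lib.Helper58_Jordan

variable {G Ω : Type*} [Group G] [MulAction G Ω]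

/-- An element commuting with a subgroup that is transitive from `α`, and fixing `α`, is
trivial. -/
theorem eq_one_of_commute_fix [FaithfulSMul G Ω] {B : Subgroup G} (α : Ω) {a : G}
    (hc : ∀ b ∈ B, a * b = b * a) (hB : ∀ ω : Ω, ∃ b ∈ B, b • α = ω) (haα : a • α = α) :
    a = 1 := by
  apply FaithfulSMul.eq_of_smul_eq_smul (α := Ω)
  intro ω
  obtain ⟨b, hb, rfl⟩ := hB ω
  rw [one_smul, ← mul_smul, hc b hb, mul_smul, haα]

/-- The affine alternative, from an abelian minimal normal subgroup. -/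
theorem affine_case [Finite G] [FaithfulSMul G Ω] [IsPreprimitive G Ω] (N : Subgroup G)
    (hNn : N.Normal) (hN1 : N ≠ ⊥)
    (hNmin : ∀ B : Subgroup G, B.Normal → B ≤ N → B = ⊥ ∨ B = N)
    (hc : ∀ a ∈ N, ∀ b ∈ N, a * b = b * a) :
    ∃ (N : Subgroup G) (r : ℕ), r.Prime ∧ N.Normal ∧ Cfsg.IsElementaryAbelian r N ∧
      MulAction.IsPretransitive N Ω ∧ ∀ a : Ω, MulAction.stabilizer N a = ⊥ := by
  haveI := hNn
  haveI : Nontrivial N := (Subgroup.nontrivial_iff_ne_bot N).mpr hN1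
  have hcard : Nat.card N ≠ 1 := by
    intro h
    exact hN1 (Subgroup.card_eq_one.mp h)
  obtain ⟨r, hr, hrd⟩ := Nat.exists_prime_and_dvd hcard
  haveI := Fact.mk hr
  obtain ⟨x, hxo⟩ := exists_prime_orderOf_dvd_card' r hrd
  -- the subgroup of elements of N of order dividing r
  let B : Subgroup G :=
    { carrier := {y | y ∈ N ∧ y ^ r = 1}
      one_mem' := ⟨N.one_mem, one_pow r⟩
      mul_mem' := by
        rintro a b ⟨ha, har⟩ ⟨hb, hbr⟩
        refine ⟨N.mul_mem ha hb, ?_⟩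
        have hcomm : Commute a b := hc a ha b hb
        rw [hcomm.mul_pow, har, hbr, one_mul]
      inv_mem' := by
        rintro a ⟨ha, har⟩
        exact ⟨N.inv_mem ha, by rw [inv_pow, har, inv_one]⟩ }
  have hBn : B.Normal := by
    refine ⟨fun y hy g => ?_⟩
    obtain ⟨hyN, hyr⟩ := hy
    refine ⟨hNn.conj_mem y hyN g, ?_⟩
    rw [conj_pow, hyr]; group
  have hBle : B ≤ N := fun y hy => hy.1
  have hBne : B ≠ ⊥ := by
    intro h
    have hxB : (x : G) ∈ B := by
      refine ⟨x.2, ?_⟩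
      have : x ^ r = 1 := by rw [← hxo]; exact pow_orderOf_eq_one x
      have := congrArg Subtype.val this
      simpa using this
    rw [h, Subgroup.mem_bot] at hxB
    have : x = 1 := Subtype.ext hxB
    rw [this, orderOf_one] at hxo
    exact hr.one_lt.ne hxo
  have hBN : B = N := (hNmin B hBn hBle).resolve_left hBne
  refine ⟨N, r, hr, hNn, ⟨⟨⟨fun a b => Subtype.ext (hc a a.2 b b.2)⟩⟩, fun a ha => ?_⟩, ?_, ?_⟩
  · have : a ∈ B := by rw [hBN]; exact ha
    exact this.2
  · refine ⟨fun δ δ' => ?_⟩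
    obtain ⟨n, hn, hnδ⟩ := normal_transitive N hN1 δ δ'
    exact ⟨⟨n, hn⟩, hnδ⟩
  · intro ω
    rw [eq_bot_iff]
    intro n hn
    rw [Subgroup.mem_bot]
    rw [mem_stabilizer_iff] at hn
    apply Subtype.ext
    exact abelian_semiregular N hN1 hc n.1 n.2 ω hn


/-- Let G act faithfully and primitively on a finite set with at least two points, and suppose that for some fixed prime p every element of G fixing no point has order a power of p. Then G is of affine type (it has a regular normal subgroup that is an elementary abelian r-group for some prime r) or almost simple (it has a non-abelian simple normal subgroup with trivial centralizer). -/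
theorem result {G Ω : Type*} [Group G] [Finite G] [MulAction G Ω] [FaithfulSMul G Ω] [Finite Ω]
    (hprim : MulAction.IsPreprimitive G Ω) (hΩ : 2 ≤ Nat.card Ω) (p : ℕ) (hp : p.Prime)
    (hder : ∀ g : G, (∀ ω : Ω, g • ω ≠ ω) → ∃ k : ℕ, orderOf g = p ^ k) :
    (∃ (N : Subgroup G) (r : ℕ), r.Prime ∧ N.Normal ∧ Cfsg.IsElementaryAbelian r N ∧
      MulAction.IsPretransitive N Ω ∧ ∀ a : Ω, MulAction.stabilizer N a = ⊥) ∨
    (∃ T : Subgroup G, T.Normal ∧ IsSimpleGroup ↥T ∧ ¬ IsMulCommutative ↥T ∧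
      Subgroup.centralizer (T : Set G) = ⊥) := by
  classical
  haveI := hprim
  haveI : Fact p.Prime := ⟨hp⟩
  haveI : Nonempty Ω := by
    rw [← Nat.card_pos_iff.trans ⟨fun h => h.1, fun h => ⟨h, inferInstance⟩⟩]
    omega
  obtain ⟨α⟩ := ‹Nonempty Ω›
  have hGnt : Nontrivial G := by
    by_contra h
    rw [not_nontrivial_iff_subsingleton] at h
    have hsub : Subsingleton Ω := by
      refine ⟨fun a b => ?_⟩
      obtain ⟨g, hg⟩ := exists_smul_eq G a b
      rw [← hg, Subsingleton.elim g 1, one_smul]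
    have := Finite.card_le_one_iff_subsingleton.mpr hsub
    omega
  obtain ⟨N, hNn, hN1, hNmin⟩ : ∃ N : Subgroup G, N.Normal ∧ N ≠ ⊥ ∧
      ∀ B : Subgroup G, B.Normal → B ≤ N → B = ⊥ ∨ B = N := by
    by_cases hs : IsSimpleGroup G
    · exact ⟨⊤, inferInstance, top_ne_bot, fun B hB _ => hB.eq_bot_or_eq_top⟩
    · obtain ⟨N, h1, h2, -, h4⟩ := Cfsg.Agent.Lib.Helper58_MinNormal.exists_minimal_normal hs
      exact ⟨N, h1, h2, h4⟩
  haveI := hNn
  by_cases hab : ∀ a ∈ N, ∀ b ∈ N, a * b = b * a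
  · left
    exact affine_case N hNn hN1 hNmin hab
  right
  have hNt : ∀ ω ω' : Ω, ∃ n ∈ N, n • ω = ω' := fun ω ω' => normal_transitive N hN1 ω ω'
  obtain ⟨T₁, hT⟩ := exists_isMinInv N hN1
  -- a minimal invariant subgroup cannot be a p-group
  have hpgroup_contra : ∀ X : Subgroup G, IsMinInv N X → IsPGroup p X → False := by
    intro X hX hXp
    have hXab := abelian_of_pgroup hX p hXp
    have hdecX := exists_decomp hNmin hX
    haveI : (Subgroup.centralizer (N : Set G)).Normal := Subgroup.normal_centralizer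
    have hZn : (N ⊓ Subgroup.centralizer (N : Set G)).Normal := Subgroup.normal_inf_normal _ _
    have hXZ : X ≤ N ⊓ Subgroup.centralizer (N : Set G) := by
      intro x hx
      refine Subgroup.mem_inf.mpr ⟨hX.le hx, ?_⟩
      rw [Subgroup.mem_centralizer_iff]
      intro n hn
      obtain ⟨t, ht, c, _, hcs, rfl⟩ := hdecX n hn
      rw [mul_assoc, hcs x hx, ← mul_assoc, hXab t ht x hx, mul_assoc]
    have hZne : N ⊓ Subgroup.centralizer (N : Set G) ≠ ⊥ := by
      intro h
      apply hX.ne_bot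
      rw [eq_bot_iff, ← h]
      exact hXZ
    have hZN := (hNmin _ hZn inf_le_left).resolve_left hZne
    apply hab
    intro a ha b hb
    have hb' : b ∈ N ⊓ Subgroup.centralizer (N : Set G) := by rw [hZN]; exact hb
    exact Subgroup.mem_centralizer_iff.mp (Subgroup.mem_inf.mp hb').2 a ha
  -- semiregular subgroups are p-groups
  have hsemi : ∀ X : Subgroup G, (∀ x ∈ X, ∀ ω : Ω, x • ω = ω → x = 1) → IsPGroup p X := by
    intro X hX
    rw [IsPGroup.iff_orderOf]
    intro x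
    by_cases hx1 : (x : G) = 1
    · refine ⟨0, ?_⟩
      have : x = 1 := Subtype.ext hx1
      rw [this, orderOf_one, pow_zero]
    · obtain ⟨k, hk⟩ := hder x (fun ω hω => hx1 (hX x x.2 ω hω))
      exact ⟨k, by rw [← hk, Subgroup.orderOf_coe]⟩
  by_cases hg : ∃ g : G, MulAut.conj g • T₁ ≠ T₁
  · -- at least two factors: impossible
    exfalso
    obtain ⟨g, hg⟩ := hg
    have hT₂ : IsMinInv N (MulAut.conj g • T₁) := hT.conj g
    have hcomm : ∀ a ∈ T₁, ∀ b ∈ MulAut.conj g • T₁, a * b = b * a :=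
      hT.commute hT₂ (Ne.symm hg)
    have hdisj : T₁ ⊓ MulAut.conj g • T₁ = ⊥ := by
      by_contra h
      exact hg (hT.eq_of_inf_ne_bot hT₂ h).symm
    have hdec := exists_decomp hNmin hT
    by_cases hR₁ : T₁ ⊓ stabilizer G α = ⊥
    · apply hpgroup_contra T₁ hT
      apply hsemi
      intro t ht ω hω
      obtain ⟨n, hn, rfl⟩ := hNt α ω
      have h1 : n⁻¹ * t * n⁻¹⁻¹ ∈ T₁ := hT.inv n⁻¹ (N.inv_mem hn) t ht
      have h2 : (n⁻¹ * t * n⁻¹⁻¹) • α = α := by
        rw [inv_inv, mul_smul, mul_smul, hω, inv_smul_smul]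
      have h3 : n⁻¹ * t * n⁻¹⁻¹ ∈ T₁ ⊓ stabilizer G α := Subgroup.mem_inf.mpr ⟨h1, h2⟩
      rw [hR₁, Subgroup.mem_bot] at h3
      calc t = n * (n⁻¹ * t * n⁻¹⁻¹) * n⁻¹ := by group
        _ = 1 := by rw [h3]; group
    · -- an element of prime order q ≠ p in T₂
      have hT₂np : ¬ IsPGroup p (MulAut.conj g • T₁ : Subgroup G) :=
        fun h => hpgroup_contra _ hT₂ h
      have hex : ∃ q : ℕ, q.Prime ∧ q ≠ p ∧
          q ∣ Nat.card (MulAut.conj g • T₁ : Subgroup G) := by
        by_contra hcon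
        push Not at hcon
        apply hT₂np
        rw [IsPGroup.iff_card]
        exact ⟨_, Nat.eq_prime_pow_of_unique_prime_dvd Nat.card_pos.ne' (fun {d} hd hdvd => by
          by_contra hne; exact hcon d hd hne hdvd)⟩
      obtain ⟨q, hq, hqp, hqd⟩ := hex
      haveI := Fact.mk hq
      obtain ⟨y', hy'o⟩ := exists_prime_orderOf_dvd_card' q hqd
      obtain ⟨y, hyT⟩ := y'
      have hyo : orderOf y = q := by
        rw [← hy'o]; exact (Subgroup.orderOf_mk y hyT).symm
      have hnotp : ∀ k : ℕ, y ^ p ^ k ≠ 1 := by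
        intro k h
        have hd := orderOf_dvd_of_pow_eq_one h
        rw [hyo] at hd
        exact hqp ((Nat.prime_dvd_prime_iff_eq hq hp).mp (hq.dvd_of_dvd_pow hd))
      -- y has a fixed point; conjugate it into the stabilizer of α
      have hyfix : ∃ ω : Ω, y • ω = ω := by
        by_contra hcon
        push Not at hcon
        obtain ⟨k, hk⟩ := hder y hcon
        exact hnotp k (by rw [← hk]; exact pow_orderOf_eq_one y)
      obtain ⟨ω₀, hω₀⟩ := hyfix
      obtain ⟨n₀, hn₀, rfl⟩ := hNt α ω₀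
      have hy₀T : n₀⁻¹ * y * n₀⁻¹⁻¹ ∈ MulAut.conj g • T₁ := hT₂.inv n₀⁻¹ (N.inv_mem hn₀) y hyT
      have hy₀α : (n₀⁻¹ * y * n₀⁻¹⁻¹) • α = α := by
        rw [inv_inv, mul_smul, mul_smul, hω₀, inv_smul_smul]
      have hy₀np : ∀ k : ℕ, (n₀⁻¹ * y * n₀⁻¹⁻¹) ^ p ^ k ≠ 1 := by
        intro k h
        rw [conj_pow] at h
        apply hnotp k
        calc y ^ p ^ k = n₀ * (n₀⁻¹ * y ^ p ^ k * n₀⁻¹⁻¹) * n₀⁻¹ := by group
          _ = 1 := by rw [h]; group
      set y₀ := n₀⁻¹ * y * n₀⁻¹⁻¹ with hy₀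
      -- the subgroup S₁ of T₁-components of elements of T₁T₂ fixing α
      let S₁ : Subgroup G :=
        { carrier := {a | a ∈ T₁ ∧ ∃ b ∈ MulAut.conj g • T₁, (a * b) • α = α}
          one_mem' := ⟨T₁.one_mem, 1, Subgroup.one_mem _, by simp⟩
          mul_mem' := by
            rintro a a' ⟨ha, b, hb, hab⟩ ⟨ha', b', hb', hab'⟩
            refine ⟨T₁.mul_mem ha ha', b * b', Subgroup.mul_mem _ hb hb', ?_⟩
            have e := hcomm a' ha' b hb
            have : a * a' * (b * b') = (a * b) * (a' * b') := by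
              calc a * a' * (b * b') = a * (a' * b) * b' := by group
                _ = a * (b * a') * b' := by rw [e]
                _ = (a * b) * (a' * b') := by group
            rw [this, mul_smul, hab', hab]
          inv_mem' := by
            rintro a ⟨ha, b, hb, hab⟩
            refine ⟨T₁.inv_mem ha, b⁻¹, Subgroup.inv_mem _ hb, ?_⟩
            have e := hcomm a⁻¹ (T₁.inv_mem ha) b⁻¹ (Subgroup.inv_mem _ hb)
            have : a⁻¹ * b⁻¹ = (a * b)⁻¹ := by rw [e]; group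
            rw [this, inv_smul_eq_iff, hab] }
      have hS₁le : S₁ ≤ T₁ := fun a ha => ha.1
      have hcover : ∀ x₁ ∈ T₁, ∃ t ∈ T₁, t⁻¹ * x₁ * t ∈ S₁ := by
        intro x₁ hx₁
        have hfix : ∃ ω : Ω, (x₁ * y₀) • ω = ω := by
          by_contra hcon
          push Not at hcon
          obtain ⟨k, hk⟩ := hder _ hcon
          have h1 : (x₁ * y₀) ^ p ^ k = 1 := by rw [← hk]; exact pow_orderOf_eq_one _
          have hc : Commute x₁ y₀ := hcomm x₁ hx₁ y₀ hy₀T
          rw [hc.mul_pow] at h1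
          have h2 : y₀ ^ p ^ k = (x₁ ^ p ^ k)⁻¹ := by
            calc y₀ ^ p ^ k = (x₁ ^ p ^ k)⁻¹ * (x₁ ^ p ^ k * y₀ ^ p ^ k) := by group
              _ = (x₁ ^ p ^ k)⁻¹ := by rw [h1, mul_one]
          have h3 : y₀ ^ p ^ k ∈ T₁ ⊓ MulAut.conj g • T₁ := by
            refine Subgroup.mem_inf.mpr ⟨?_, Subgroup.pow_mem _ hy₀T _⟩
            rw [h2]; exact T₁.inv_mem (T₁.pow_mem hx₁ _)
          rw [hdisj, Subgroup.mem_bot] at h3
          exact hy₀np k h3
        obtain ⟨ω, hω⟩ := hfix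
        obtain ⟨n, hn, rfl⟩ := hNt α ω
        obtain ⟨t, ht, c, hc, hcs, rfl⟩ := hdec n hn
        refine ⟨t, ht, T₁.mul_mem (T₁.mul_mem (T₁.inv_mem ht) hx₁) ht,
          (t * c)⁻¹ * y₀ * (t * c)⁻¹⁻¹, hT₂.inv _ (N.inv_mem hn) y₀ hy₀T, ?_⟩
        have e1 : c⁻¹ * (t⁻¹ * x₁ * t) = (t⁻¹ * x₁ * t) * c⁻¹ := by
          have := hcs (t⁻¹ * x₁ * t) (T₁.mul_mem (T₁.mul_mem (T₁.inv_mem ht) hx₁) ht)
          calc c⁻¹ * (t⁻¹ * x₁ * t) = c⁻¹ * ((t⁻¹ * x₁ * t) * c) * c⁻¹ := by group
            _ = c⁻¹ * (c * (t⁻¹ * x₁ * t)) * c⁻¹ := by rw [this]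
            _ = (t⁻¹ * x₁ * t) * c⁻¹ := by group
        have e2 : t⁻¹ * x₁ * t * ((t * c)⁻¹ * y₀ * (t * c)⁻¹⁻¹) =
            (t * c)⁻¹ * (x₁ * y₀) * (t * c) := by
          calc t⁻¹ * x₁ * t * ((t * c)⁻¹ * y₀ * (t * c)⁻¹⁻¹)
              = (t⁻¹ * x₁ * t) * c⁻¹ * t⁻¹ * y₀ * (t * c) := by group
            _ = c⁻¹ * (t⁻¹ * x₁ * t) * t⁻¹ * y₀ * (t * c) := by rw [← e1]
            _ = (t * c)⁻¹ * (x₁ * y₀) * (t * c) := by group
        rw [e2, mul_smul, mul_smul, hω, inv_smul_smul]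
      have hS₁ : S₁ = T₁ := eq_of_conj_cover T₁ S₁ hS₁le hcover
      -- R₁ is N-invariant
      have hRinv : ∀ n ∈ N, ∀ r ∈ T₁ ⊓ stabilizer G α, n * r * n⁻¹ ∈ T₁ ⊓ stabilizer G α := by
        intro n hn r hr
        obtain ⟨hrT, hrα⟩ := Subgroup.mem_inf.mp hr
        refine Subgroup.mem_inf.mpr ⟨hT.inv n hn r hrT, ?_⟩
        obtain ⟨t, ht, c, hc, hcs, rfl⟩ := hdec n hn
        have htS : t ∈ S₁ := by rw [hS₁]; exact ht
        obtain ⟨-, b, hb, htb⟩ := htS
        have e1 := hcs r hrT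
        have e2 := hcomm r hrT b hb
        have e : t * c * r * (t * c)⁻¹ = (t * b) * r * (t * b)⁻¹ := by
          calc t * c * r * (t * c)⁻¹ = t * (c * r) * c⁻¹ * t⁻¹ := by group
            _ = t * (r * c) * c⁻¹ * t⁻¹ := by rw [e1]
            _ = t * (r * b) * b⁻¹ * t⁻¹ := by group
            _ = t * (b * r) * b⁻¹ * t⁻¹ := by rw [e2]
            _ = (t * b) * r * (t * b)⁻¹ := by group
        rw [mem_stabilizer_iff, e, mul_smul, mul_smul, inv_smul_eq_iff.mpr htb.symm, hrα, htb]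
      rcases hT.min _ inf_le_left hRinv with h | h
      · exact hR₁ h
      · apply hT.ne_bot
        rw [eq_bot_iff]
        intro t ht
        rw [Subgroup.mem_bot]
        apply FaithfulSMul.eq_of_smul_eq_smul (α := Ω)
        intro ω
        obtain ⟨n, hn, rfl⟩ := hNt α ω
        have h1 : n⁻¹ * t * n⁻¹⁻¹ ∈ T₁ := hT.inv n⁻¹ (N.inv_mem hn) t ht
        rw [← h] at h1
        have h2 : (n⁻¹ * t * n⁻¹⁻¹) • α = α := (Subgroup.mem_inf.mp h1).2
        rw [one_smul]
        calc t • n • α = n • (n⁻¹ * t * n⁻¹⁻¹) • α := by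
              rw [← mul_smul, ← mul_smul]; congr 1; group
          _ = n • α := by rw [h2]
  · -- T₁ is normal in G, so T₁ = N is simple
    push Not at hg
    have hTn : T₁.Normal := ⟨fun t ht g => by rw [← hg g]; exact conj_mem_conj_smul ht⟩
    have hTN : T₁ = N := (hNmin T₁ hTn hT.le).resolve_left hT.ne_bot
    haveI : Nontrivial N := (Subgroup.nontrivial_iff_ne_bot N).mpr hN1
    have hsimp : IsSimpleGroup N := by
      refine IsSimpleGroup.mk (fun B hB => ?_)
      have hle : B.map N.subtype ≤ T₁ := by rw [hTN]; exact Subgroup.map_subtype_le B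
      have hinv : ∀ n ∈ N, ∀ x ∈ B.map N.subtype, n * x * n⁻¹ ∈ B.map N.subtype := by
        intro n hn x hx
        obtain ⟨y, hy, rfl⟩ := Subgroup.mem_map.mp hx
        exact Subgroup.mem_map.mpr ⟨⟨n, hn⟩ * y * ⟨n, hn⟩⁻¹, hB.conj_mem y hy ⟨n, hn⟩, rfl⟩
      rcases hT.min _ hle hinv with h | h
      · left
        exact (Subgroup.map_eq_bot_iff_of_injective B N.subtype_injective).mp h
      · right
        rw [eq_top_iff]
        intro y _
        have : (y : G) ∈ B.map N.subtype := by rw [h, hTN]; exact y.2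
        obtain ⟨z, hz, hzy⟩ := Subgroup.mem_map.mp this
        have : z = y := Subtype.ext hzy
        rw [← this]; exact hz
    refine ⟨N, hNn, hsimp, ?_, ?_⟩
    · intro hcomm
      apply hab
      intro a ha b hb
      exact congrArg Subtype.val (hcomm.is_comm.comm ⟨a, ha⟩ ⟨b, hb⟩)
    · by_contra hC
      haveI : (Subgroup.centralizer (N : Set G)).Normal := Subgroup.normal_centralizer
      apply hpgroup_contra T₁ hT
      apply hsemi
      intro t ht ω hω
      rw [hTN] at ht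
      apply eq_one_of_commute_fix (B := Subgroup.centralizer (N : Set G)) ω _
        (fun ω' => normal_transitive _ hC ω ω') hω
      intro b hb
      exact Subgroup.mem_centralizer_iff.mp hb t ht

end Cfsg.Agent.S3556
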