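import Cfsg.Statements.S3559
import Cfsg.Agent.Lib.Helper58_Schur

set_option autoImplicit false
set_option linter.style.haveILetI false
open Cfsg

namespace Cfsg.Agent.S3559

/-- Let G act faithfully and transitively on a finite set whose number of points n ≥ 2 is not a prime power, and suppose G has a cyclic subgroup acting regularly (transitively with trivial point stabilizers). Then G is imprimitive or doubly transitive. -/
theorem result {G Ω : Type*} [Group G] [Finite G] [MulAction G Ω] [FaithfulSMul G Ω] [Finite Ω]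
    (htrans : MulAction.IsPretransitive G Ω) (hn : 2 ≤ Nat.card Ω) (hnp : ¬ IsPrimePow (Nat.card Ω))
    (C : Subgroup G) (hcyc : IsCyclic ↥C) (hC : MulAction.IsPretransitive ↥C Ω ∧ ∀ a : Ω, MulAction.stabilizer ↥C a = ⊥) :
    ¬ MulAction.IsPreprimitive G Ω ∨ MulAction.IsMultiplyPretransitive G Ω 2 := by
  classical
  by_cases hprim : MulAction.IsPreprimitive G Ω
  · right
    haveI := hprim
    haveI := hcyc
    haveI : Nonempty Ω := by
      rw [← Nat.card_pos_iff.trans ⟨fun h => h.1, fun h => ⟨h, inferInstance⟩⟩]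
      omega
    obtain ⟨α⟩ := ‹Nonempty Ω›
    obtain ⟨hCt, hCs⟩ := hC
    have hreg : Cfsg.Agent.Lib.Helper58_Schur.IsRegSub Ω C := by
      refine ⟨fun a ha b hb => ?_, fun ω ω' => ?_, fun c hc ω hω => ?_⟩
      · have := (IsCyclic.isMulCommutative (α := C)).is_comm.comm ⟨a, ha⟩ ⟨b, hb⟩
        exact congrArg Subtype.val this
      · obtain ⟨c, hc⟩ := hCt.exists_smul_eq ω ω'
        exact ⟨c, c.2, hc⟩
      · have : (⟨c, hc⟩ : C) ∈ MulAction.stabilizer C ω := by
          rw [MulAction.mem_stabilizer_iff]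
          exact hω
        rw [hCs ω, Subgroup.mem_bot] at this
        exact congrArg Subtype.val this
    have hcard : Nat.card C = Nat.card Ω := by
      apply Nat.card_congr
      refine Equiv.ofBijective (fun c : C => (c : G) • α) ⟨fun c c' h => ?_, fun ω => ?_⟩
      · exact hreg.eq_of_smul_eq α h
      · obtain ⟨c, hc, hcω⟩ := hreg.trans α ω
        exact ⟨⟨c, hc⟩, hcω⟩
    obtain ⟨p, q, hp, hq, hpq, hpn, hqn⟩ : ∃ p q : ℕ, p.Prime ∧ q.Prime ∧ p ≠ q ∧
        p ∣ Nat.card Ω ∧ q ∣ Nat.card Ω := by
      have hn1 : Nat.card Ω ≠ 1 := by omega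
      have hn0 : Nat.card Ω ≠ 0 := by omega
      have hp := Nat.minFac_prime hn1
      by_contra hcon
      push Not at hcon
      apply hnp
      rw [isPrimePow_nat_iff]
      have hpow := Nat.eq_prime_pow_of_unique_prime_dvd hn0 (p := (Nat.card Ω).minFac)
        (fun {d} hd hdvd => by
          by_contra hne
          exact hcon _ d hp hd (Ne.symm hne) (Nat.minFac_dvd _) hdvd)
      refine ⟨_, _, hp, ?_, hpow.symm⟩
      rcases Nat.eq_zero_or_pos (Nat.card Ω).primeFactorsList.length with h0 | h0
      · rw [h0, pow_zero] at hpow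
        exact absurd hpow hn1
      · exact h0
    haveI := Fact.mk hp
    haveI := Fact.mk hq
    rw [← hcard] at hpn hqn
    exact Cfsg.Agent.Lib.Helper58_Schur.two_pretransitive_of_stabilizer α
      (Cfsg.Agent.Lib.Helper58_Schur.stabilizer_transitive hreg α p q hpq hpn hqn)
  · left
    exact hprim

end Cfsg.Agent.S3559
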