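import Cfsg.Statements.S3560
-- import your own Cfsg.Agent.* helpers here

set_option autoImplicit false
open Cfsg

namespace Cfsg.Agent.S3560

open MulAction
open scoped Pointwise

section Hamming

variable {ι : Type*} [Fintype ι] [DecidableEq ι] {A : Type*} [DecidableEq A]

/-- The isometry group of the Hamming space. -/
def isoGroup (ι A : Type*) [Fintype ι] [DecidableEq A] : Subgroup (Equiv.Perm (ι → A)) where
  carrier := {σ | ∀ x y, hammingDist (σ x) (σ y) = hammingDist x y}
  mul_mem' := by
    intro σ τ hσ hτ x y
    simp only [Equiv.Perm.mul_apply]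
    rw [hσ, hτ]
  one_mem' := by intro x y; rfl
  inv_mem' := by
    intro σ hσ x y
    have := hσ (σ⁻¹ x) (σ⁻¹ y)
    have h1 : σ (σ⁻¹ x) = x := by simp
    have h2 : σ (σ⁻¹ y) = y := by simp
    rw [h1, h2] at this
    exact this.symm

omit [DecidableEq ι] in
theorem mem_isoGroup (σ : Equiv.Perm (ι → A)) :
    σ ∈ isoGroup ι A ↔ ∀ x y, hammingDist (σ x) (σ y) = hammingDist x y := Iff.rfl

/-- coordinatewise permutation -/
def cw (τ : ι → Equiv.Perm A) : Equiv.Perm (ι → A) := Equiv.piCongrRight τ

omit [Fintype ι] [DecidableEq ι] [DecidableEq A] in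
@[simp] theorem cw_apply (τ : ι → Equiv.Perm A) (x : ι → A) (i : ι) : cw τ x i = τ i (x i) := rfl

omit [DecidableEq ι] in
theorem cw_mem (τ : ι → Equiv.Perm A) : cw τ ∈ isoGroup ι A := by
  intro x y
  exact hammingDist_comp (fun i => τ i) (fun i => (τ i).injective)

/-- coordinate permutation -/
def cp (π : Equiv.Perm ι) : Equiv.Perm (ι → A) := Equiv.arrowCongr π (Equiv.refl A)

omit [Fintype ι] [DecidableEq ι] [DecidableEq A] in
@[simp] theorem cp_apply (π : Equiv.Perm ι) (x : ι → A) (i : ι) : cp π x i = x (π.symm i) := rfl

omit [DecidableEq ι] in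
theorem cp_mem (π : Equiv.Perm ι) : cp (A := A) π ∈ isoGroup ι A := by
  intro x y
  unfold hammingDist
  rw [← Finset.card_map π.toEmbedding (s := Finset.univ.filter (fun i => x i ≠ y i))]
  congr 1
  ext i
  rw [Finset.mem_map, Finset.mem_filter]
  constructor
  · intro h
    refine ⟨π.symm i, ?_, by simp⟩
    rw [Finset.mem_filter]
    exact ⟨Finset.mem_univ _, h.2⟩
  · rintro ⟨j, hj, rfl⟩
    rw [Finset.mem_filter] at hj
    refine ⟨Finset.mem_univ _, ?_⟩
    simpa using hj.2

/-- elements of a subgroup of a permutation group preserving a block -/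
theorem block_closed {X : Type*} {G₀ : Subgroup (Equiv.Perm X)} {B : Set X} (hB : IsBlock G₀ B)
    (g : Equiv.Perm X) (hg : g ∈ G₀) (b : X) (hb : b ∈ B) (hgb : g b ∈ B) :
    ∀ x ∈ B, g x ∈ B := by
  have h := hB.smul_eq_of_mem (g := (⟨g, hg⟩ : G₀)) hb hgb
  intro x hx
  have : (⟨g, hg⟩ : G₀) • x ∈ (⟨g, hg⟩ : G₀) • B := Set.smul_mem_smul_set hx
  rw [h] at this
  exact this

omit [DecidableEq ι] in
theorem isoGroup_pretransitive : IsPretransitive (isoGroup ι A) (ι → A) := by
  constructor
  intro x y
  refine ⟨⟨cw (fun i => Equiv.swap (x i) (y i)), cw_mem _⟩, ?_⟩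
  funext i
  change Equiv.swap (x i) (y i) (x i) = y i
  simp

theorem isoGroup_preprimitive (a0 : A) (hA : ∀ u v : A, ∃ z, z ≠ u ∧ z ≠ v) :
    IsPreprimitive (isoGroup ι A) (ι → A) := by
  have := isoGroup_pretransitive (ι := ι) (A := A)
  set a : ι → A := fun _ => a0 with ha
  apply IsPreprimitive.of_isTrivialBlock_base a
  intro B haB hB
  by_cases hsub : ∀ y ∈ B, y = a
  · left
    intro x hx y hy
    rw [hsub x hx, hsub y hy]
  right
  push Not at hsub
  obtain ⟨y, hyB, hya⟩ := hsub
  -- Step 1
  obtain ⟨j, hj⟩ : ∃ j, y j ≠ a0 := by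
    by_contra h
    push Not at h
    exact hya (funext h)
  obtain ⟨z, hza, hzy⟩ := hA a0 (y j)
  have step1 : Function.update a j z ∈ B := by
    -- first move
    have h1 : Function.update y j z ∈ B := by
      have := block_closed hB (cw (Function.update (fun _ => (1 : Equiv.Perm A)) j
        (Equiv.swap (y j) z))) (cw_mem _) a haB (by
          convert haB using 1
          funext i
          rw [cw_apply]
          by_cases hi : i = j
          · subst hi
            rw [Function.update_self]
            exact Equiv.swap_apply_of_ne_of_ne (Ne.symm hj) (Ne.symm hza)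
          · rw [Function.update_of_ne hi]
            rfl) y hyB
      convert this using 1
      funext i
      rw [cw_apply]
      by_cases hi : i = j
      · subst hi
        rw [Function.update_self, Function.update_self, Equiv.swap_apply_left]
      · rw [Function.update_of_ne hi, Function.update_of_ne hi]
        rfl
    have := block_closed hB (cw (fun i => Equiv.swap (y i) a0)) (cw_mem _) y hyB (by
      convert haB using 1
      funext i
      rw [cw_apply, Equiv.swap_apply_left]) _ h1
    convert this using 1
    funext i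
    rw [cw_apply]
    by_cases hi : i = j
    · subst hi
      rw [Function.update_self, Function.update_self,
        Equiv.swap_apply_of_ne_of_ne hzy hza]
    · rw [Function.update_of_ne hi, Function.update_of_ne hi, Equiv.swap_apply_left]
  -- Step 2
  have step2 : ∀ (j' : ι) (z' : A), Function.update a j' z' ∈ B := by
    intro j' z'
    by_cases hz' : z' = a0
    · convert haB using 1
      rw [hz']
      exact Function.update_eq_self j' a
    have h1 : Function.update a j' z ∈ B := by
      have := block_closed hB (cp (Equiv.swap j j')) (cp_mem _) a haB (by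
        convert haB using 1
        funext i
        rfl) _ step1
      convert this using 1
      funext i
      rw [cp_apply, Equiv.symm_swap]
      by_cases hi : i = j'
      · subst hi
        rw [Function.update_self, Equiv.swap_apply_right, Function.update_self]
      · rw [Function.update_of_ne hi]
        by_cases hij : i = j
        · subst hij
          rw [Equiv.swap_apply_left, Function.update_of_ne (Ne.symm hi)]
        · rw [Equiv.swap_apply_of_ne_of_ne hij hi, Function.update_of_ne hij]
    have := block_closed hB (cw (Function.update (fun _ => (1 : Equiv.Perm A)) j'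
        (Equiv.swap z z'))) (cw_mem _) a haB (by
          convert haB using 1
          funext i
          rw [cw_apply]
          by_cases hi : i = j'
          · subst hi
            rw [Function.update_self]
            exact Equiv.swap_apply_of_ne_of_ne (Ne.symm hza) (Ne.symm hz')
          · rw [Function.update_of_ne hi]
            rfl) _ h1
    convert this using 1
    funext i
    rw [cw_apply]
    by_cases hi : i = j'
    · subst hi
      rw [Function.update_self, Function.update_self, Function.update_self,
        Equiv.swap_apply_left]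
    · rw [Function.update_of_ne hi, Function.update_of_ne hi, Function.update_of_ne hi]
      rfl
  -- Step 3
  have step3 : ∀ b ∈ B, ∀ (j' : ι) (z' : A), Function.update b j' z' ∈ B := by
    intro b hbB j' z'
    have hba : cw (fun i => Equiv.swap (b i) a0) b = a := by
      funext i
      rw [cw_apply, Equiv.swap_apply_left]
    have hab : cw (fun i => Equiv.swap (b i) a0) a = b := by
      funext i
      rw [cw_apply, Equiv.swap_apply_right]
    have h1 := block_closed hB (cw (fun i => Equiv.swap (b i) a0)) (cw_mem _) a haB (by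
      rw [hab]; exact hbB) _ (step2 j' (Equiv.swap (b j') a0 z'))
    convert h1 using 1
    funext i
    rw [cw_apply]
    by_cases hi : i = j'
    · subst hi
      rw [Function.update_self, Function.update_self, Equiv.swap_apply_self]
    · rw [Function.update_of_ne hi, Function.update_of_ne hi, Equiv.swap_apply_right]
  -- Step 4
  rw [Set.eq_univ_iff_forall]
  intro x
  have step4 : ∀ S : Finset ι, (fun i => if i ∈ S then x i else a0) ∈ B := by
    intro S
    induction S using Finset.induction_on with
    | empty =>
      convert haB using 1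
      funext i
      simp [ha]
    | insert j' S hj' ih =>
      have := step3 _ ih j' (x j')
      convert this using 1
      funext i
      by_cases hi : i = j'
      · subst hi
        rw [Function.update_self, if_pos (Finset.mem_insert_self _ _)]
      · rw [Function.update_of_ne hi]
        by_cases hiS : i ∈ S
        · rw [if_pos hiS, if_pos (Finset.mem_insert_of_mem hiS)]
        · rw [if_neg hiS, if_neg (by
            rw [Finset.mem_insert]; push Not; exact ⟨hi, hiS⟩)]
  have := step4 Finset.univ
  convert this using 1
  funext i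
  rw [if_pos (Finset.mem_univ _)]

theorem isoGroup_not_two (a0 a1 : A) (ha01 : a1 ≠ a0) (j j' : ι) (hjj' : j ≠ j') :
    ¬ IsMultiplyPretransitive (isoGroup ι A) (ι → A) 2 := by
  intro h
  rw [is_two_pretransitive_iff] at h
  set a : ι → A := fun _ => a0 with ha
  set u : ι → A := Function.update a j a1 with hu
  set w : ι → A := Function.update u j' a1 with hw
  have hau : a ≠ u := by
    intro h1
    have := congrFun h1 j
    rw [hu, Function.update_self] at this
    exact ha01 this.symm
  have haw : a ≠ w := by
    intro h1
    have := congrFun h1 j'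
    rw [hw, Function.update_self] at this
    exact ha01 this.symm
  obtain ⟨g, hg1, hg2⟩ := h hau haw
  have hd := g.2 a u
  have hg1' : (g : Equiv.Perm (ι → A)) a = a := hg1
  have hg2' : (g : Equiv.Perm (ι → A)) u = w := hg2
  rw [hg1', hg2'] at hd
  have h1 : hammingDist a u = 1 := by
    unfold hammingDist
    rw [Finset.card_eq_one]
    refine ⟨j, ?_⟩
    ext i
    rw [Finset.mem_filter, Finset.mem_singleton]
    constructor
    · rintro ⟨_, hi⟩
      by_contra hij
      apply hi
      rw [hu, Function.update_of_ne hij]
    · rintro rfl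
      refine ⟨Finset.mem_univ _, ?_⟩
      rw [hu, Function.update_self]
      exact ha01.symm
  have h2 : hammingDist a w = 2 := by
    unfold hammingDist
    rw [Finset.card_eq_two]
    refine ⟨j, j', hjj', ?_⟩
    ext i
    rw [Finset.mem_filter, Finset.mem_insert, Finset.mem_singleton]
    constructor
    · rintro ⟨_, hi⟩
      by_contra hij
      push Not at hij
      apply hi
      rw [hw, Function.update_of_ne hij.2, hu, Function.update_of_ne hij.1]
    · rintro (rfl | rfl)
      · refine ⟨Finset.mem_univ _, ?_⟩
        rw [hw, Function.update_of_ne hjj', hu, Function.update_self]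
        exact ha01.symm
      · refine ⟨Finset.mem_univ _, ?_⟩
        rw [hw, Function.update_self]
        exact ha01.symm
  omega

end Hamming

section Regular

variable {ι : Type*} [Fintype ι] {A : Type*} [DecidableEq A] {K : Type*} [Group K]
  (F : ι → Type*) [∀ i, Group (F i)] (β : ∀ i, F i ≃ A) (e : K ≃* (∀ i, F i))

/-- the regular action of `K` on the Hamming space -/
def rho : K →* Equiv.Perm (ι → A) where
  toFun k := cw (fun i => (β i).symm.trans ((Equiv.mulLeft (e k i)).trans (β i)))
  map_one' := by
    ext x i
    simp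
  map_mul' := by
    intro k k'
    ext x i
    simp

theorem rho_apply (k : K) (x : ι → A) (i : ι) :
    rho F β e k x i = β i (e k i * (β i).symm (x i)) := rfl

theorem rho_mem (k : K) : rho F β e k ∈ isoGroup ι A := cw_mem _

theorem rho_fixed (k : K) (x : ι → A) (h : rho F β e k x = x) : k = 1 := by
  apply e.injective
  rw [map_one]
  funext i
  have := congrFun h i
  rw [rho_apply] at this
  have h2 := congrArg (β i).symm this
  rw [Equiv.symm_apply_apply] at h2
  simpa using h2

theorem rho_injective [Nonempty A] : Function.Injective (rho F β e) := by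
  rw [injective_iff_map_eq_one]
  intro k hk
  apply rho_fixed F β e k (fun _ => Classical.arbitrary A)
  rw [hk]
  rfl

theorem rho_transitive (x y : ι → A) : ∃ k : K, rho F β e k x = y := by
  refine ⟨e.symm (fun i => (β i).symm (y i) * ((β i).symm (x i))⁻¹), ?_⟩
  funext i
  rw [rho_apply]
  simp

end Regular

section Transport

/-- transport a permutation group on a finite type to `Fin n` -/
theorem transport {X : Type*} [Fintype X] {K : Type*} [Group K]
    (G₀ R₀ : Subgroup (Equiv.Perm X)) (hle : R₀ ≤ G₀) (hiso : Nonempty (R₀ ≃* K))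
    (htr : IsPretransitive R₀ X) (hfree : ∀ a : X, ∀ g ∈ R₀, g a = a → g = 1)
    (hprim : IsPreprimitive G₀ X) (h2 : ¬ IsMultiplyPretransitive G₀ X 2) :
    ∃ (n : ℕ) (G R : Subgroup (Equiv.Perm (Fin n))), R ≤ G ∧ Nonempty (↥R ≃* K) ∧
      MulAction.IsPretransitive ↥R (Fin n) ∧ (∀ a : Fin n, MulAction.stabilizer ↥R a = ⊥) ∧
      MulAction.IsPreprimitive ↥G (Fin n) ∧ ¬ MulAction.IsMultiplyPretransitive ↥G (Fin n) 2 := by
  classical
  set n := Fintype.card X with hn
  let φ : X ≃ Fin n := Fintype.equivFin X
  let ψ : Equiv.Perm X ≃* Equiv.Perm (Fin n) := φ.permCongrHom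
  have hψ : ∀ (g : Equiv.Perm X) (x : X), ψ g (φ x) = φ (g x) := by
    intro g x
    change φ.permCongr g (φ x) = φ (g x)
    rw [Equiv.permCongr_apply, Equiv.symm_apply_apply]
  refine ⟨n, G₀.map (ψ : Equiv.Perm X →* Equiv.Perm (Fin n)),
    R₀.map (ψ : Equiv.Perm X →* Equiv.Perm (Fin n)), Subgroup.map_mono hle, ?_, ?_, ?_, ?_, ?_⟩
  · obtain ⟨f⟩ := hiso
    exact ⟨(ψ.subgroupMap R₀).symm.trans f⟩
  · -- transitivity
    let σR : R₀ → R₀.map (ψ : Equiv.Perm X →* Equiv.Perm (Fin n)) := ψ.subgroupMap R₀
    let fR : X →ₑ[σR] Fin n := ⟨φ, fun g x => by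
      change φ ((g : Equiv.Perm X) x) = (ψ (g : Equiv.Perm X)) (φ x)
      rw [hψ]⟩
    exact IsPretransitive.of_surjective_map (f := fR) φ.surjective htr
  · intro a
    rw [eq_bot_iff]
    intro g hg
    rw [Subgroup.mem_bot]
    obtain ⟨g', hg'R, hg'⟩ := g.2
    have hga : (g : Equiv.Perm (Fin n)) a = a := hg
    rw [← hg'] at hga
    have h1 : g' (φ.symm a) = φ.symm a := by
      have := hψ g' (φ.symm a)
      rw [Equiv.apply_symm_apply] at this
      have h3 : ψ g' a = a := hga
      rw [h3] at this
      apply φ.injective
      rw [← this, Equiv.apply_symm_apply]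
    have h2' := hfree _ g' hg'R h1
    apply Subtype.ext
    rw [← hg', h2']
    simp
  · let σG : G₀ → G₀.map (ψ : Equiv.Perm X →* Equiv.Perm (Fin n)) := ψ.subgroupMap G₀
    let fG : X →ₑ[σG] Fin n := ⟨φ, fun g x => by
      change φ ((g : Equiv.Perm X) x) = (ψ (g : Equiv.Perm X)) (φ x)
      rw [hψ]⟩
    exact IsPreprimitive.of_surjective (f := fG) φ.surjective
  · let σG : G₀ → G₀.map (ψ : Equiv.Perm X →* Equiv.Perm (Fin n)) := ψ.subgroupMap G₀
    let fG : X →ₑ[σG] Fin n := ⟨φ, fun g x => by
      change φ ((g : Equiv.Perm X) x) = (ψ (g : Equiv.Perm X)) (φ x)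
      rw [hψ]⟩
    intro h
    apply h2
    exact (IsPretransitive.of_embedding_congr (f := fG) (n := Fin 2)
      (ψ.subgroupMap G₀).surjective φ.bijective).2 h

end Transport

/-- Let K be a finite group isomorphic to a direct product of r ≥ 2 groups all of the same order m ≥ 3. Then K is not a B-group: there is a primitive but not doubly transitive permutation group (on some finite set) containing a regular subgroup isomorphic to K. -/
theorem result {K : Type*} [Group K] [Finite K] {ι : Type*} [Fintype ι] (F : ι → Type*) [∀ i, Group (F i)]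
    (hr : 2 ≤ Fintype.card ι) (m : ℕ) (hm : 3 ≤ m) (hcard : ∀ i, Nat.card (F i) = m) (e : K ≃* (∀ i, F i)) :
    ∃ (n : ℕ) (G R : Subgroup (Equiv.Perm (Fin n))), R ≤ G ∧ Nonempty (↥R ≃* K) ∧
      MulAction.IsPretransitive ↥R (Fin n) ∧ (∀ a : Fin n, MulAction.stabilizer ↥R a = ⊥) ∧
      MulAction.IsPreprimitive ↥G (Fin n) ∧ ¬ MulAction.IsMultiplyPretransitive ↥G (Fin n) 2 := by
  classical
  have hfin : ∀ i, Finite (F i) := fun i => Nat.finite_of_card_ne_zero (by rw [hcard]; omega)
  have β : ∀ i, F i ≃ Fin m := fun i => by
    have := hfin i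
    exact Finite.equivFinOfCardEq (hcard i)
  obtain ⟨j, j', hjj'⟩ := Fintype.exists_pair_of_one_lt_card (α := ι) (by omega)
  have : NeZero m := ⟨by omega⟩
  have : Nonempty (Fin m) := ⟨0⟩
  have hA : ∀ u v : Fin m, ∃ z, z ≠ u ∧ z ≠ v := by
    intro u v
    have hlt : ({u, v} : Finset (Fin m)).card < (Finset.univ : Finset (Fin m)).card := by
      have := Finset.card_le_two (a := u) (b := v)
      rw [Finset.card_univ, Fintype.card_fin]
      omega
    obtain ⟨z, _, hz⟩ := Finset.exists_mem_notMem_of_card_lt_card hlt
    rw [Finset.mem_insert, Finset.mem_singleton] at hz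
    push Not at hz
    exact ⟨z, hz.1, hz.2⟩
  have h01 : (1 : Fin m) ≠ 0 := by
    intro h
    have := congrArg Fin.val h
    rw [Fin.val_one', Fin.val_zero] at this
    rw [Nat.mod_eq_of_lt (by omega)] at this
    omega
  apply transport (K := K) (isoGroup ι (Fin m)) (rho F β e).range
  · rintro _ ⟨k, rfl⟩
    exact rho_mem F β e k
  · exact ⟨(MonoidHom.ofInjective (rho_injective F β e)).symm⟩
  · constructor
    intro x y
    obtain ⟨k, hk⟩ := rho_transitive F β e x y
    exact ⟨⟨_, k, rfl⟩, hk⟩
  · rintro a _ ⟨k, rfl⟩ h
    rw [rho_fixed F β e k a h, map_one]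
  · exact isoGroup_preprimitive (0 : Fin m) hA
  · exact isoGroup_not_two 0 1 h01 j j' hjj'

end Cfsg.Agent.S3560
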