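import Cfsg.Statements.S3573
-- import your own Cfsg.Agent.* helpers here

set_option autoImplicit false
open Cfsg

namespace Cfsg.Agent.S3573

open Equiv Equiv.Perm Finset

section Aux

/-- invariance reformulation -/
theorem image_eq_iff {α : Type*} [DecidableEq α] (σ : Perm α) (s : Finset α) :
    s.image σ = s ↔ ∀ y, σ y ∈ s ↔ y ∈ s := by
  constructor
  · intro h y
    constructor
    · intro hy
      rw [← h, Finset.mem_image] at hy
      obtain ⟨z, hz, hzy⟩ := hy
      rwa [← σ.injective hzy]
    · intro hy
      rw [← h]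
      exact Finset.mem_image_of_mem _ hy
  · intro h
    ext y
    rw [Finset.mem_image]
    constructor
    · rintro ⟨z, hz, rfl⟩
      exact (h z).2 hz
    · intro hy
      refine ⟨σ⁻¹ y, ?_, by simp⟩
      rw [← h]
      simpa using hy

theorem zpow_mem_iff {α : Type*} (σ : Perm α) (s : Finset α) (h : ∀ y, σ y ∈ s ↔ y ∈ s) (i : ℤ) (y : α) :
    (σ ^ i) y ∈ s ↔ y ∈ s := by
  induction i using Int.induction_on generalizing y with
  | zero => simp
  | succ i ih =>
    rw [zpow_add_one, Perm.mul_apply, ih, h]
  | pred i ih =>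
    rw [zpow_sub_one, Perm.mul_apply, ih, ← h (σ⁻¹ y)]
    simp

variable {α : Type*} [Fintype α] [DecidableEq α]

/-- Lemma A: invariant subsets of the support of size `r * a`. -/
theorem exists_invariant_subset_support (σ : Perm α) (r : ℕ) (hr : r.Prime) (hσ : orderOf σ = r)
    (a : ℕ) (ha : r * a ≤ σ.support.card) :
    ∃ s ⊆ σ.support, s.card = r * a ∧ ∀ y, σ y ∈ s ↔ y ∈ s := by
  induction a with
  | zero => exact ⟨∅, by simp, by simp, by simp⟩
  | succ a ih =>
    obtain ⟨s, hs1, hs2, hs3⟩ := ih (by nlinarith)
    have hlt : s.card < σ.support.card := by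
      rw [hs2]
      have := hr.pos
      nlinarith
    obtain ⟨x, hx, hxs⟩ := Finset.exists_mem_notMem_of_card_lt_card hlt
    have hx' : σ x ≠ x := Perm.mem_support.1 hx
    set O := (σ.cycleOf x).support with hO
    have hOcard : O.card = r := by
      rw [hO, ← (isCycle_cycleOf σ hx').orderOf]
      have hdvd := orderOf_cycleOf_dvd_orderOf σ x
      rw [hσ] at hdvd
      rcases (Nat.dvd_prime hr).1 hdvd with h1 | h1
      · rw [orderOf_eq_one_iff, cycleOf_eq_one_iff] at h1
        exact (hx' h1).elim
      · exact h1
    have hOsub : O ⊆ σ.support := support_cycleOf_le σ x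
    have hOinv : ∀ y, σ y ∈ O ↔ y ∈ O := by
      intro y
      rw [hO, mem_support_cycleOf_iff, mem_support_cycleOf_iff, sameCycle_apply_right]
    have hdisj : Disjoint s O := by
      rw [Finset.disjoint_left]
      intro y hys hyO
      rw [hO, mem_support_cycleOf_iff] at hyO
      obtain ⟨i, hi⟩ := hyO.1
      rw [← hi, zpow_mem_iff σ s hs3] at hys
      exact hxs hys
    refine ⟨s ∪ O, Finset.union_subset hs1 hOsub, ?_, ?_⟩
    · rw [Finset.card_union_of_disjoint hdisj, hs2, hOcard]
      ring
    · intro y
      rw [Finset.mem_union, Finset.mem_union, hs3, hOinv]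

/-- Lemma B -/
theorem exists_invariant (σ : Perm α) (r : ℕ) (hr : r.Prime) (hσ : orderOf σ = r)
    (a b : ℕ) (ha : r * a ≤ σ.support.card) (hb : b ≤ (σ.support)ᶜ.card) :
    ∃ s : Finset α, s.card = r * a + b ∧ s.image σ = s := by
  obtain ⟨s, hs1, hs2, hs3⟩ := exists_invariant_subset_support σ r hr hσ a ha
  obtain ⟨B, hB1, hB2⟩ := Finset.exists_subset_card_eq hb
  have hdisj : Disjoint s B := by
    rw [Finset.disjoint_left]
    intro y hys hyB
    have := hB1 hyB
    rw [Finset.mem_compl] at this
    exact this (hs1 hys)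
  have hBinv : ∀ y, σ y ∈ B ↔ y ∈ B := by
    intro y
    by_cases hy : σ y = y
    · rw [hy]
    · constructor
      · intro h
        have := hB1 h
        rw [Finset.mem_compl, Perm.mem_support] at this
        exfalso
        apply this
        intro h2
        exact hy (σ.injective h2)
      · intro h
        have := hB1 h
        rw [Finset.mem_compl, Perm.mem_support] at this
        exact (this hy).elim
  refine ⟨s ∪ B, ?_, ?_⟩
  · rw [Finset.card_union_of_disjoint hdisj, hs2, hB2]
  · rw [image_eq_iff]
    intro y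
    rw [Finset.mem_union, Finset.mem_union, hs3, hBinv]

/-- Lemma C: modular constraint -/
theorem card_invariant_mod (σ : Perm α) (r : ℕ) [Fact r.Prime] (hσ : σ ^ r = 1) (s : Finset α)
    (hs : ∀ y, σ y ∈ s ↔ y ∈ s) : ∃ b, b ≤ (σ.support)ᶜ.card ∧ s.card ≡ b [MOD r] := by
  set τ : Perm {x // x ∈ s} := σ.subtypePerm (fun x => hs x) with hτ
  have hτr : τ ^ r ^ 1 = 1 := by
    rw [pow_one, hτ]
    ext x
    simp [hσ]
  have h1 := card_compl_support_modEq hτr
  refine ⟨(τ.support)ᶜ.card, ?_, ?_⟩
  · apply Finset.card_le_card_of_injOn (s := (τ.support)ᶜ) (t := (σ.support)ᶜ)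
      (fun x => (x : α))
    · intro x hx
      simp only [Finset.coe_compl, Set.mem_compl_iff, Finset.mem_coe, Perm.mem_support,
        not_not] at hx ⊢
      have := congrArg Subtype.val hx
      simpa [hτ] using this
    · intro x _ y _ hxy
      exact Subtype.ext hxy
  · have : Fintype.card {x // x ∈ s} = s.card := Fintype.card_coe s
    rw [this] at h1
    exact h1.symm

end Aux

/-- The core equivalence for any prime. -/
theorem core (n k : ℕ) (hk : 1 ≤ k) (hkn : 2 * k < n) (r : ℕ) (hr : r.Prime)
    (hrd : r ∣ Nat.choose n k) :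
    (∀ σ : Equiv.Perm (Fin n), orderOf σ = r → ∃ s : Finset (Fin n), s.card = k ∧ s.image σ = s) ↔
      (r ≤ k ∧ k % r ≤ n % r) := by
  have : Fact r.Prime := ⟨hr⟩
  have hrpos := hr.pos
  constructor
  · intro h
    -- r ≤ n
    have hrn : r ≤ n := by
      have h1 : Nat.choose n k ∣ n.factorial := by
        have := Nat.choose_mul_factorial_mul_factorial (show k ≤ n by omega)
        exact ⟨k.factorial * (n - k).factorial, by rw [← this]; ring⟩
      exact (Nat.Prime.dvd_factorial hr).1 (hrd.trans h1)
    set j := n / r with hj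
    have hjpos : 1 ≤ j := Nat.div_pos hrn hrpos
    -- a permutation with j cycles of length r
    obtain ⟨σ, hσ⟩ := (Equiv.Perm.exists_with_cycleType_iff (α := Fin n)
      (m := Multiset.replicate j r)).2 (by
        constructor
        · rw [Multiset.sum_replicate, Fintype.card_fin, smul_eq_mul]
          exact Nat.div_mul_le_self n r
        · intro a ha
          rw [Multiset.eq_of_mem_replicate ha]
          exact hr.two_le)
    have hord : orderOf σ = r := by
      rw [← lcm_cycleType, hσ]
      obtain ⟨j', hj'⟩ : ∃ j', j = j' + 1 := ⟨j - 1, by omega⟩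
      rw [hj']
      have hgen : ∀ i : ℕ, (Multiset.replicate (i + 1) r).lcm = r := by
        intro i
        induction i with
        | zero => simp
        | succ i ih =>
          rw [Multiset.replicate_succ, Multiset.lcm_cons, ih]
          simp
      exact hgen j'
    have hsupp : σ.support.card = j * r := by
      rw [← sum_cycleType, hσ, Multiset.sum_replicate, smul_eq_mul]
    have hfix : (σ.support)ᶜ.card = n % r := by
      rw [Finset.card_compl, hsupp, Fintype.card_fin]
      have := Nat.div_add_mod n r
      rw [← hj] at this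
      have h2 : j * r = r * j := mul_comm _ _
      omega
    obtain ⟨s, hs1, hs2⟩ := h σ hord
    rw [image_eq_iff] at hs2
    have hσr : σ ^ r = 1 := by rw [← hord]; exact pow_orderOf_eq_one σ
    obtain ⟨b, hb1, hb2⟩ := card_invariant_mod σ r hσr s hs2
    rw [hfix] at hb1
    rw [hs1] at hb2
    have hnr : n % r < r := Nat.mod_lt n hrpos
    have hb3 : k % r = b := by
      have : k % r = b % r := hb2
      rw [this, Nat.mod_eq_of_lt (by omega)]
    have hk2 : k % r ≤ n % r := by omega
    refine ⟨?_, hk2⟩
    by_contra hlt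
    push Not at hlt
    have hkr : k % r = k := Nat.mod_eq_of_lt hlt
    have hkd : k / r = 0 := Nat.div_eq_of_lt hlt
    have hluc := Choose.choose_modEq_choose_mod_mul_choose_div_nat (n := n) (k := k) (p := r)
    rw [hkr, hkd, Nat.choose_zero_right, mul_one] at hluc
    have h3 : r ∣ Nat.choose (n % r) k := by
      rw [← Nat.modEq_zero_iff_dvd]
      exact hluc.symm.trans (Nat.modEq_zero_iff_dvd.2 hrd)
    have h4 : Nat.choose (n % r) k ∣ (n % r).factorial := by
      have := Nat.choose_mul_factorial_mul_factorial (show k ≤ n % r by omega)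
      exact ⟨k.factorial * (n % r - k).factorial, by rw [← this]; ring⟩
    have := (Nat.Prime.dvd_factorial hr).1 (h3.trans h4)
    omega
  · rintro ⟨hrk, hmod⟩ σ hσ
    have hσp : (orderOf σ).Prime := by rw [hσ]; exact hr
    obtain ⟨j, hj⟩ := cycleType_prime_order hσp
    rw [hσ] at hj
    have hsupp : σ.support.card = (j + 1) * r := by
      rw [← sum_cycleType, hj, Multiset.sum_replicate, smul_eq_mul]
    have hcompl : (σ.support)ᶜ.card = n - (j + 1) * r := by
      rw [Finset.card_compl, hsupp, Fintype.card_fin]
    have hle : (j + 1) * r ≤ n := by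
      have := Finset.card_le_univ σ.support
      rw [hsupp, Fintype.card_fin] at this
      exact this
    -- n % r = f % r ≤ f
    have hf : n % r ≤ n - (j + 1) * r := by
      have h1 : n = (n - (j + 1) * r) + r * (j + 1) := by
        have : (j + 1) * r = r * (j + 1) := mul_comm _ _
        omega
      have h2 : n % r = (n - (j + 1) * r) % r := by
        conv_lhs => rw [h1]
        exact Nat.add_mul_mod_self_left _ _ _
      rw [h2]
      exact Nat.mod_le _ _
    have hkdecomp := Nat.div_add_mod k r
    by_cases hcase : r * (k / r) ≤ (j + 1) * r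
    · obtain ⟨s, hs1, hs2⟩ := exists_invariant σ r hr hσ (k / r) (k % r)
        (by rw [hsupp]; exact hcase) (by rw [hcompl]; omega)
      exact ⟨s, by rw [hs1]; exact hkdecomp, hs2⟩
    · push Not at hcase
      obtain ⟨s, hs1, hs2⟩ := exists_invariant σ r hr hσ (j + 1) (k - (j + 1) * r)
        (by rw [hsupp, mul_comm]) (by rw [hcompl]; omega)
      refine ⟨s, ?_, hs2⟩
      rw [hs1]
      have : r * (j + 1) = (j + 1) * r := mul_comm _ _
      omega

/-- Let 1 ≤ k with 2k < n and consider the symmetric group of degree n acting on the k-subsets of an n-set. Let r be a prime dividing the number C(n,k) of k-subsets. If r is odd, then every permutation of order r fixes some k-subset if and only if r ≤ k and the remainder of k modulo r is at most the remainder of n modulo r. If r = 2, then every involution fixes some k-subset if and only if k is even or n is odd. -/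
theorem result (n k : ℕ) (hk : 1 ≤ k) (hkn : 2 * k < n) (r : ℕ) (hr : r.Prime) (hrd : r ∣ Nat.choose n k) :
    (r ≠ 2 → ((∀ σ : Equiv.Perm (Fin n), orderOf σ = r → ∃ s : Finset (Fin n), s.card = k ∧ s.image σ = s) ↔
      (r ≤ k ∧ k % r ≤ n % r))) ∧
    (r = 2 → ((∀ σ : Equiv.Perm (Fin n), orderOf σ = 2 → ∃ s : Finset (Fin n), s.card = k ∧ s.image σ = s) ↔
      (Even k ∨ Odd n))) := by
  refine ⟨fun _ => core n k hk hkn r hr hrd, ?_⟩
  rintro rfl
  rw [core n k hk hkn 2 hr hrd]
  rcases Nat.lt_or_ge k 2 with h1 | h2
  · have hk1 : k = 1 := by omega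
    subst hk1
    rw [Nat.choose_one_right] at hrd
    constructor
    · rintro ⟨h, _⟩; omega
    · rintro (h | h)
      · exact (by decide : ¬ Even 1) h |>.elim
      · rw [Nat.odd_iff] at h; omega
  · rw [Nat.even_iff, Nat.odd_iff]
    constructor
    · rintro ⟨_, h⟩; omega
    · intro h
      refine ⟨h2, ?_⟩
      omega

end Cfsg.Agent.S3573
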