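import Mathlib
import Cfsg.Statements.S3575

set_option autoImplicit false
open Cfsg

namespace Cfsg.Agent.S3575

open Equiv Finset

section perms

variable {α : Type*} [Fintype α] [DecidableEq α]

/-- a permutation killed by a prime power `r`: all cycles have length `r` -/
theorem cycleType_of_pow_eq_one {r : ℕ} (hr : r.Prime) (ρ : Perm α) (h : ρ ^ r = 1) :
    ρ.cycleType = Multiset.replicate (Multiset.card ρ.cycleType) r ∧
      ρ.support.card = r * Multiset.card ρ.cycleType := by
  have h1 : ∀ b ∈ ρ.cycleType, b = r := by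
    intro b hb
    have hb1 : b ∣ orderOf ρ := Equiv.Perm.dvd_of_mem_cycleType hb
    have hb2 : orderOf ρ ∣ r := orderOf_dvd_of_pow_eq_one h
    have hb3 : 2 ≤ b := Equiv.Perm.two_le_of_mem_cycleType hb
    rcases (Nat.dvd_prime hr).1 (hb1.trans hb2) with h | h
    · omega
    · exact h
  have h2 := Multiset.eq_replicate_card.2 h1
  refine ⟨h2, ?_⟩
  rw [← Equiv.Perm.sum_cycleType, h2, Multiset.sum_replicate, Multiset.card_replicate, smul_eq_mul,
    mul_comm]

theorem cycleType_eq_of_support {r c : ℕ} (hr : r.Prime) (ρ : Perm α) (h : ρ ^ r = 1)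
    (hs : ρ.support.card = r * c) : ρ.cycleType = Multiset.replicate c r := by
  obtain ⟨h1, h2⟩ := cycleType_of_pow_eq_one hr ρ h
  rw [hs] at h2
  have := Nat.eq_of_mul_eq_mul_left hr.pos h2
  rw [h1, ← this]

theorem exists_perm (r c : ℕ) (hr : r.Prime) (hc : 1 ≤ c) (hle : r * c ≤ Fintype.card α) :
    ∃ σ : Perm α, orderOf σ = r ∧ σ.support.card = r * c := by
  obtain ⟨σ, hσ⟩ := (Equiv.Perm.exists_with_cycleType_iff α (m := Multiset.replicate c r)).2
    ⟨by rw [Multiset.sum_replicate, smul_eq_mul, mul_comm]; exact hle, by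
      intro x hx
      rw [Multiset.eq_of_mem_replicate hx]
      exact hr.two_le⟩
  refine ⟨σ, ?_, ?_⟩
  · have h1 : orderOf σ ∣ r := by
      rw [← Equiv.Perm.lcm_cycleType, hσ]
      apply Multiset.lcm_dvd.2
      intro x hx
      rw [Multiset.eq_of_mem_replicate hx]
    rcases (Nat.dvd_prime hr).1 h1 with h | h
    · exfalso
      rw [orderOf_eq_one_iff] at h
      rw [h, Equiv.Perm.cycleType_one] at hσ
      have := congrArg Multiset.card hσ
      rw [Multiset.card_replicate, Multiset.card_zero] at this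
      omega
    · exact h
  · rw [← Equiv.Perm.sum_cycleType, hσ, Multiset.sum_replicate, smul_eq_mul, mul_comm]

theorem fiber_card {r : ℕ} (hr : r.Prime) (σ : Perm α) (hσ : σ ^ r = 1) (T : Finset α)
    (hT : ∀ x, σ x ∈ T ↔ x ∈ T) : ∃ k, (σ.support.filter (· ∈ T)).card = r * k := by
  set ρ : Perm T := σ.subtypePerm hT with hρ
  have h1 : ρ ^ r = 1 := by
    rw [hρ, Equiv.Perm.subtypePerm_pow]
    ext x
    simp [hσ]
  obtain ⟨-, h2⟩ := cycleType_of_pow_eq_one hr ρ h1
  refine ⟨Multiset.card ρ.cycleType, ?_⟩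
  rw [← h2, hρ, Equiv.Perm.support_subtypePerm]
  rw [← Finset.card_map (Function.Embedding.subtype _)]
  congr 1
  ext y
  simp only [mem_filter, Equiv.Perm.mem_support, mem_map, mem_univ, true_and,
    Function.Embedding.coe_subtype, Subtype.exists, exists_and_right, exists_eq_right]
  constructor
  · rintro ⟨h1, h2⟩
    exact ⟨h2, h1⟩
  · rintro ⟨h1, h2⟩
    exact ⟨h2, h1⟩

theorem necessity {β : Type*} [Fintype β] [DecidableEq β] {a r c : ℕ} (hr : r.Prime) (ha : 1 ≤ a)
    (σ : Perm α) (hσ : σ ^ r = 1) (hs : σ.support.card = r * c)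
    (f : α → β) (hS : ∀ j : β, (univ.filter (fun x => f x = j)).card = a)
    (π : Perm β) (hπ : ∀ x, f (σ x) = π (f x)) :
    ∃ u w : ℕ, Fintype.card β = r * u + w ∧ u * a ≤ c ∧ c ≤ u * a + w * (a / r) := by
  classical
  have hsurj : Function.Surjective f := by
    intro j
    have : 0 < (univ.filter (fun x => f x = j)).card := by rw [hS]; exact ha
    obtain ⟨x, hx⟩ := Finset.card_pos.1 this
    exact ⟨x, (mem_filter.1 hx).2⟩
  have hπk : ∀ (k : ℕ) x, f ((σ ^ k) x) = (π ^ k) (f x) := by
    intro k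
    induction k with
    | zero => intro x; simp
    | succ k ih => intro x; rw [pow_succ', pow_succ', Perm.mul_apply, Perm.mul_apply, hπ, ih]
  have hπr : π ^ r = 1 := by
    ext j
    obtain ⟨x, rfl⟩ := hsurj j
    rw [← hπk, hσ]; simp
  obtain ⟨-, hu⟩ := cycleType_of_pow_eq_one hr π hπr
  set u := Multiset.card π.cycleType with hudef
  have hub : r * u ≤ Fintype.card β := by
    rw [← hu]; simpa using Finset.card_le_univ π.support
  -- the counting
  have hcount := Finset.card_eq_sum_card_fiberwise (f := f) (s := σ.support) (t := univ)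
    (fun x _ => mem_univ _)
  have hin : ∀ j ∈ π.support, (σ.support.filter (fun x => f x = j)).card = a := by
    intro j hj
    rw [← hS j]
    congr 1
    ext x
    simp only [mem_filter, Equiv.Perm.mem_support, mem_univ, true_and, and_iff_right_iff_imp]
    intro hx hσx
    rw [Equiv.Perm.mem_support] at hj
    apply hj
    rw [← hx, ← hπ, hσx]
  have hout : ∀ j ∈ univ \ π.support,
      (σ.support.filter (fun x => f x = j)).card ≤ r * (a / r) := by
    intro j hj
    have hj' : π j = j := by
      simpa [Equiv.Perm.mem_support] using hj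
    have hT : ∀ x, σ x ∈ univ.filter (fun x => f x = j) ↔ x ∈ univ.filter (fun x => f x = j) := by
      intro x
      simp only [mem_filter, mem_univ, true_and]
      rw [hπ]
      constructor
      · intro h
        apply π.injective
        rw [h, hj']
      · intro h
        rw [h, hj']
    obtain ⟨k, hk⟩ := fiber_card hr σ hσ _ hT
    have heq : σ.support.filter (fun x => f x = j) =
        σ.support.filter (· ∈ univ.filter (fun x => f x = j)) := by
      apply Finset.filter_congr
      intro x _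
      simp
    rw [heq, hk]
    have hle : r * k ≤ a := by
      rw [← hk, ← hS j]
      apply Finset.card_le_card
      intro x hx
      exact (mem_filter.1 hx).2
    apply Nat.mul_le_mul_left
    rw [Nat.le_div_iff_mul_le hr.pos, mul_comm]
    exact hle
  have hsplit : ∑ j ∈ (univ : Finset β), (σ.support.filter (fun x => f x = j)).card =
      ∑ j ∈ π.support, (σ.support.filter (fun x => f x = j)).card +
      ∑ j ∈ univ \ π.support, (σ.support.filter (fun x => f x = j)).card := by
    rw [← Finset.sum_sdiff (Finset.subset_univ π.support), add_comm]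
  have h1 : ∑ j ∈ π.support, (σ.support.filter (fun x => f x = j)).card = r * u * a := by
    rw [Finset.sum_congr rfl hin, Finset.sum_const, smul_eq_mul, hu]
  have h2 : ∑ j ∈ univ \ π.support, (σ.support.filter (fun x => f x = j)).card ≤
      (Fintype.card β - r * u) * (r * (a / r)) := by
    calc _ ≤ ∑ j ∈ univ \ π.support, r * (a / r) := Finset.sum_le_sum hout
      _ = (Fintype.card β - r * u) * (r * (a / r)) := by
        rw [Finset.sum_const, smul_eq_mul, Finset.card_sdiff_of_subset (Finset.subset_univ _),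
          Finset.card_univ, hu]
  rw [hs, hsplit, h1] at hcount
  refine ⟨u, Fintype.card β - r * u, by omega, ?_, ?_⟩
  · have : r * (u * a) ≤ r * c := by
      rw [hcount, mul_assoc]; exact Nat.le_add_right _ _
    exact Nat.le_of_mul_le_mul_left this hr.pos
  · have : r * c ≤ r * (u * a + (Fintype.card β - r * u) * (a / r)) := by
      rw [hcount]
      have : r * (u * a + (Fintype.card β - r * u) * (a / r)) =
          r * u * a + (Fintype.card β - r * u) * (r * (a / r)) := by
        ring
      rw [this]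
      omega
    exact Nat.le_of_mul_le_mul_left this hr.pos

theorem exists_perm' (r c : ℕ) (hr : r.Prime) (hle : r * c ≤ Fintype.card α) :
    ∃ σ : Perm α, σ ^ r = 1 ∧ σ.support.card = r * c := by
  obtain ⟨σ, hσ⟩ := (Equiv.Perm.exists_with_cycleType_iff α (m := Multiset.replicate c r)).2
    ⟨by rw [Multiset.sum_replicate, smul_eq_mul, mul_comm]; exact hle, by
      intro x hx
      rw [Multiset.eq_of_mem_replicate hx]
      exact hr.two_le⟩
  refine ⟨σ, ?_, ?_⟩
  · have h1 : orderOf σ ∣ r := by
      rw [← Equiv.Perm.lcm_cycleType, hσ]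
      apply Multiset.lcm_dvd.2
      intro x hx
      rw [Multiset.eq_of_mem_replicate hx]
    exact orderOf_dvd_iff_pow_eq_one.1 h1
  · rw [← Equiv.Perm.sum_cycleType, hσ, Multiset.sum_replicate, smul_eq_mul, mul_comm]

theorem exists_bounded_sum {ι : Type*} [DecidableEq ι] (S : Finset ι) (q d : ℕ)
    (hd : d ≤ S.card * q) : ∃ i : ι → ℕ, (∀ j, i j ≤ q) ∧ ∑ j ∈ S, i j = d := by
  induction S using Finset.induction_on generalizing d with
  | empty =>
    refine ⟨fun _ => 0, fun _ => Nat.zero_le _, ?_⟩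
    simp at hd
    simp [hd]
  | insert s S hs ih =>
    rw [Finset.card_insert_of_notMem hs] at hd
    obtain ⟨i, hi1, hi2⟩ := ih (min d (S.card * q)) (min_le_right _ _)
    refine ⟨Function.update i s (d - min d (S.card * q)), ?_, ?_⟩
    · intro j
      by_cases hj : j = s
      · subst hj
        rw [Function.update_self]
        have : (S.card + 1) * q = S.card * q + q := by ring
        omega
      · rw [Function.update_of_ne hj]
        exact hi1 j
    · rw [Finset.sum_insert hs, Function.update_self,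
        Finset.sum_congr rfl (fun j hj => Function.update_of_ne (ne_of_mem_of_not_mem hj hs) _ _),
        hi2]
      omega

theorem shear_pow {β γ : Type*} (π : Perm β) (τ : β → Perm γ) (hτ : ∀ j, τ (π j) = τ j)
    (k : ℕ) (j : β) (x : γ) :
    ((Equiv.prodShear π τ : Perm (β × γ)) ^ k) (j, x) = ((π ^ k) j, ((τ j) ^ k) x) := by
  induction k with
  | zero => simp
  | succ k ih =>
    have hk : ∀ k : ℕ, τ ((π ^ k) j) = τ j := by
      intro k
      induction k with
      | zero => simp
      | succ k ih => rw [pow_succ', Perm.mul_apply, hτ, ih]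
    rw [pow_succ', Perm.mul_apply, ih, pow_succ', pow_succ', Perm.mul_apply, Perm.mul_apply]
    simp only [Equiv.prodShear_apply, hk]

theorem model {a b r c u w : ℕ} (hr : r.Prime) (hb : b = r * u + w) (h1 : u * a ≤ c)
    (h2 : c ≤ u * a + w * (a / r)) :
    ∃ (σ₀ : Perm (Fin b × Fin a)) (π₀ : Perm (Fin b)), σ₀ ^ r = 1 ∧ σ₀.support.card = r * c ∧
      ∀ p, (σ₀ p).1 = π₀ p.1 := by
  classical
  obtain ⟨π₀, hπ1, hπ2⟩ := exists_perm' (α := Fin b) r u hr (by rw [Fintype.card_fin]; omega)
  have hW : (univ \ π₀.support).card = w := by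
    rw [Finset.card_sdiff_of_subset (Finset.subset_univ _), Finset.card_univ, Fintype.card_fin, hπ2]
    omega
  obtain ⟨i, hi1, hi2⟩ := exists_bounded_sum (univ \ π₀.support) (a / r) (c - u * a)
    (by rw [hW]; omega)
  have hex : ∀ j : Fin b, ∃ t : Perm (Fin a), t ^ r = 1 ∧ t.support.card = r * i j := by
    intro j
    apply exists_perm' (α := Fin a) r (i j) hr
    rw [Fintype.card_fin]
    calc r * i j ≤ r * (a / r) := Nat.mul_le_mul_left _ (hi1 j)
      _ ≤ a := Nat.mul_div_le a r
  choose t ht1 ht2 using hex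
  set τ : Fin b → Perm (Fin a) := fun j => if j ∈ π₀.support then 1 else t j with hτdef
  have hτ : ∀ j, τ (π₀ j) = τ j := by
    intro j
    by_cases hj : j ∈ π₀.support
    · have : π₀ j ∈ π₀.support := Equiv.Perm.apply_mem_support.2 hj
      simp only [hτdef, if_pos hj, if_pos this]
    · have : π₀ j = j := by simpa [Equiv.Perm.mem_support] using hj
      rw [this]
  have hτr : ∀ j, τ j ^ r = 1 := by
    intro j
    by_cases hj : j ∈ π₀.support
    · simp only [hτdef, if_pos hj, one_pow]
    · simp only [hτdef, if_neg hj, ht1]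
  let σ₀ : Perm (Fin b × Fin a) := Equiv.prodShear π₀ τ
  have hσ₀ : ∀ p : Fin b × Fin a, σ₀ p = (π₀ p.1, τ p.1 p.2) := fun p => rfl
  refine ⟨σ₀, π₀, ?_, ?_, ?_⟩
  · ext ⟨j, x⟩ : 1
    rw [shear_pow π₀ τ hτ, hπ1, hτr]
    rfl
  · have hcount := Finset.card_eq_sum_card_fiberwise (f := Prod.fst)
      (s := σ₀.support) (t := univ) (fun x _ => mem_univ _)
    have hin : ∀ j ∈ π₀.support, (σ₀.support.filter (fun p => p.1 = j)).card = a := by
      intro j hj
      have : σ₀.support.filter (fun p => p.1 = j) =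
          ({j} : Finset (Fin b)) ×ˢ (univ : Finset (Fin a)) := by
        ext ⟨p1, p2⟩
        simp only [mem_filter, Equiv.Perm.mem_support, hσ₀, ne_eq,
          Prod.mk.injEq, not_and, mem_product, mem_singleton, mem_univ, and_true]
        constructor
        · rintro ⟨-, h⟩; exact h
        · rintro rfl
          refine ⟨fun h => ?_, rfl⟩
          rw [Equiv.Perm.mem_support] at hj
          exact absurd h hj
      rw [this, Finset.card_product, Finset.card_singleton, Finset.card_univ, Fintype.card_fin,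
        one_mul]
    have hout : ∀ j ∈ univ \ π₀.support,
        (σ₀.support.filter (fun p => p.1 = j)).card = r * i j := by
      intro j hj
      have hj' : j ∉ π₀.support := by simpa using hj
      have hj'' : π₀ j = j := by simpa [Equiv.Perm.mem_support] using hj'
      have : σ₀.support.filter (fun p => p.1 = j) =
          ({j} : Finset (Fin b)) ×ˢ (t j).support := by
        ext ⟨p1, p2⟩
        simp only [mem_filter, Equiv.Perm.mem_support, hσ₀, ne_eq,
          Prod.mk.injEq, not_and, mem_product, mem_singleton]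
        constructor
        · rintro ⟨h, rfl⟩
          refine ⟨rfl, ?_⟩
          have := h hj''
          simpa only [hτdef, if_neg hj'] using this
        · rintro ⟨rfl, h⟩
          refine ⟨fun _ => ?_, rfl⟩
          simpa only [hτdef, if_neg hj'] using h
      rw [this, Finset.card_product, Finset.card_singleton, one_mul, ht2]
    have hsplit : ∑ j ∈ (univ : Finset (Fin b)),
        (σ₀.support.filter (fun p => p.1 = j)).card =
        ∑ j ∈ π₀.support, (σ₀.support.filter (fun p => p.1 = j)).card +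
        ∑ j ∈ univ \ π₀.support, (σ₀.support.filter (fun p => p.1 = j)).card := by
      rw [← Finset.sum_sdiff (Finset.subset_univ π₀.support), add_comm]
    rw [hcount, hsplit, Finset.sum_congr rfl hin, Finset.sum_congr rfl hout, Finset.sum_const,
      smul_eq_mul, hπ2, ← Finset.mul_sum, hi2, mul_assoc, ← Nat.mul_add]
    congr 1
    omega
  · rintro ⟨j, x⟩
    rfl

theorem sufficiency {a b r c u w : ℕ} (hr : r.Prime) (hb : b = r * u + w) (h1 : u * a ≤ c)
    (h2 : c ≤ u * a + w * (a / r)) (σ : Perm (Fin (a * b))) (hσ : σ ^ r = 1)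
    (hs : σ.support.card = r * c) :
    ∃ f : Fin (a * b) → Fin b, (∀ j : Fin b, Nat.card {x : Fin (a * b) // f x = j} = a) ∧
      ∃ π : Equiv.Perm (Fin b), ∀ x : Fin (a * b), f (σ x) = π (f x) := by
  classical
  obtain ⟨σ₀, π₀, hσ₀, hs₀, hπ₀⟩ := model (a := a) hr hb h1 h2
  let e : Fin b × Fin a ≃ Fin (a * b) := finProdFinEquiv.trans (finCongr (mul_comm b a))
  let σ₁ : Perm (Fin (a * b)) := e.permCongrHom σ₀
  have hσ₁a : ∀ x, σ₁ x = e (σ₀ (e.symm x)) := fun x => rfl
  have hσ₁ : σ₁ ^ r = 1 := by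
    rw [← map_pow, hσ₀, map_one]
  have hs₁ : σ₁.support.card = r * c := by
    rw [← hs₀, ← Finset.card_map e.toEmbedding]
    congr 1
    ext x
    simp only [Equiv.Perm.mem_support, hσ₁a, mem_map_equiv, ne_eq]
    rw [not_iff_not]
    constructor
    · intro h
      have := congrArg e.symm h
      rwa [Equiv.symm_apply_apply] at this
    · intro h
      rw [h, Equiv.apply_symm_apply]
  have hconj : IsConj σ₁ σ := by
    rw [Equiv.Perm.isConj_iff_cycleType_eq, cycleType_eq_of_support hr σ₁ hσ₁ hs₁,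
      cycleType_eq_of_support hr σ hσ hs]
  obtain ⟨g, hg⟩ := isConj_iff.1 hconj
  let h : Fin b × Fin a ≃ Fin (a * b) := e.trans g
  have hh : ∀ x, σ x = h (σ₀ (h.symm x)) := by
    intro x
    rw [← hg]
    rfl
  refine ⟨fun x => (h.symm x).1, ?_, π₀, ?_⟩
  · intro j
    have e1 : {x : Fin (a * b) // (h.symm x).1 = j} ≃ {p : Fin b × Fin a // p.1 = j} :=
      h.symm.subtypeEquiv (fun x => Iff.rfl)
    rw [Nat.card_congr e1, Nat.card_eq_fintype_card, Fintype.card_subtype]
    have : (univ.filter (fun p : Fin b × Fin a => p.1 = j)) =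
        ({j} : Finset (Fin b)) ×ˢ (univ : Finset (Fin a)) := by
      ext ⟨p1, p2⟩
      simp only [mem_filter, mem_univ, true_and, mem_product, mem_singleton, and_true]
    rw [this, Finset.card_product, Finset.card_singleton, Finset.card_univ, Fintype.card_fin,
      one_mul]
  · intro x
    show (h.symm (σ x)).1 = π₀ (h.symm x).1
    rw [hh, Equiv.symm_apply_apply, hπ₀]

end perms

section arithmetic

theorem rhs_iff {a b r q ℓ m k : ℕ} (hr : 2 ≤ r) (hb : 2 ≤ b)
    (haq : a = r * q + ℓ) (hℓ : ℓ < r) (hbm : b = r * m + k) (hk : k < r) :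
    (1 ≤ q ∧ k * ℓ < r ∧ (m = 0 ∨ ℓ ≤ k * q + 1)) ↔
      (r ≤ a ∧ (ℓ = 0 ∨ (k = 0 ∧ ℓ = 1) ∨
        (ℓ ≠ 0 ∧ k ≠ 0 ∧ k * ℓ < r ∧ (b < r ∨ (k + r) * ℓ ≤ k * a + r)))) := by
  constructor
  · rintro ⟨h1, h2, h3⟩
    refine ⟨by nlinarith, ?_⟩
    by_cases hℓ0 : ℓ = 0
    · left; exact hℓ0
    right
    by_cases hk0 : k = 0
    · left
      refine ⟨hk0, ?_⟩
      subst hk0
      rcases h3 with h3 | h3
      · subst h3; omega
      · omega
    right
    refine ⟨hℓ0, hk0, h2, ?_⟩
    rcases h3 with h3 | h3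
    · left; subst h3; omega
    · right
      subst haq
      have : r * ℓ ≤ r * (k * q + 1) := Nat.mul_le_mul_left _ h3
      nlinarith
  · rintro ⟨h1, h2⟩
    have hq : 1 ≤ q := by
      by_contra h
      have : q = 0 := by omega
      subst this
      omega
    refine ⟨hq, ?_⟩
    rcases h2 with h2 | ⟨h2, h3⟩ | ⟨h2, h3, h4, h5⟩
    · subst h2
      exact ⟨by omega, Or.inr (Nat.zero_le _)⟩
    · subst h2 h3
      exact ⟨by omega, Or.inr (by omega)⟩
    · refine ⟨h4, ?_⟩
      rcases h5 with h5 | h5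
      · left
        by_contra h
        have : 1 ≤ m := by omega
        have : r * 1 ≤ r * m := Nat.mul_le_mul_left _ this
        omega
      · right
        subst haq
        have : r * ℓ ≤ r * (k * q + 1) := by nlinarith
        exact Nat.le_of_mul_le_mul_left this (by omega)

theorem arith_mp {a b r q ℓ m k : ℕ} (hr : 2 ≤ r) (ha : 2 ≤ a) (hb : 2 ≤ b) (hrab : r ≤ a * b)
    (haq : a = r * q + ℓ) (hbm : b = r * m + k) (hk : k < r)
    (P : ∀ c, 1 ≤ c → r * c ≤ a * b → ∃ u w, b = r * u + w ∧ u * a ≤ c ∧ c ≤ u * a + w * q) :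
    1 ≤ q ∧ k * ℓ < r ∧ (m = 0 ∨ ℓ ≤ k * q + 1) := by
  have hkw : ∀ u w, b = r * u + w → k ≤ w := by
    intro u w h
    have h1 : (r * u + w) % r = w % r := Nat.mul_add_mod _ _ _
    have h2 : (r * m + k) % r = k % r := Nat.mul_add_mod _ _ _
    rw [← h, hbm, h2, Nat.mod_eq_of_lt hk] at h1
    rw [h1]
    exact Nat.mod_le _ _
  have hum : ∀ u w, b = r * u + w → u ≤ m := by
    intro u w h
    have : r * u < r * (m + 1) := by rw [Nat.mul_add]; omega
    have := Nat.lt_of_mul_lt_mul_left this
    omega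
  have h1 : 1 ≤ q := by
    obtain ⟨u, w, h1, h2, h3⟩ := P 1 le_rfl (by omega)
    have hu : u = 0 := by
      by_contra h
      have : 1 ≤ u := by omega
      nlinarith
    subst hu
    by_contra h
    have : q = 0 := by omega
    subst this
    omega
  have hab : a * b = r * (q * b + ℓ * m) + ℓ * k := by
    subst haq hbm; ring
  have h2 : k * ℓ < r := by
    obtain ⟨u, w, h1, h2, h3⟩ := P (a * b / r) (by
      rw [Nat.le_div_iff_mul_le (by omega)]; omega) (Nat.mul_div_le _ _)
    have hid : a * b = r * (u * a + w * q) + ℓ * w := by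
      subst haq; rw [h1]; ring
    have h4 := Nat.div_add_mod (a * b) r
    have h5 : a * b % r < r := Nat.mod_lt _ (by omega)
    have h6 : r * (a * b / r) ≤ r * (u * a + w * q) := Nat.mul_le_mul_left _ h3
    have h7 : ℓ * w < r := by omega
    have h8 := hkw u w h1
    calc k * ℓ = ℓ * k := mul_comm _ _
      _ ≤ ℓ * w := Nat.mul_le_mul_left _ h8
      _ < r := h7
  refine ⟨h1, h2, ?_⟩
  by_cases hm : m = 0
  · left; exact hm
  right
  by_cases hℓ0 : ℓ = 0
  · omega
  obtain ⟨m', rfl⟩ : ∃ m', m = m' + 1 := ⟨m - 1, by omega⟩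
  have hℓ1 : 1 ≤ ℓ := by omega
  obtain ⟨u, w, h3, h4, h5⟩ := P (b * q + m' * ℓ + 1) (by omega) (by
    rw [hab]
    have : r * 1 ≤ r * ℓ := Nat.mul_le_mul_left _ hℓ1
    nlinarith)
  have hid : u * a + w * q = q * b + u * ℓ := by
    subst haq; rw [h3]; ring
  have h6 : m' * ℓ + 1 ≤ u * ℓ := by
    rw [hid] at h5; nlinarith
  have h7 : m' < u := by
    by_contra h
    have : u ≤ m' := by omega
    have : u * ℓ ≤ m' * ℓ := Nat.mul_le_mul_right _ this
    omega
  have h8 := hum u w h3
  have hu : u = m' + 1 := by omega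
  subst hu
  have hw : w = k := by omega
  subst hw
  subst haq
  rw [hbm] at h4
  nlinarith

theorem arith_mpr {a b r q ℓ m k : ℕ}
    (haq : a = r * q + ℓ) (hbm : b = r * m + k)
    (h2 : k * ℓ < r) (h3 : m = 0 ∨ ℓ ≤ k * q + 1)
    (c : ℕ) (hc : r * c ≤ a * b) :
    ∃ u w, b = r * u + w ∧ u * a ≤ c ∧ c ≤ u * a + w * q := by
  by_cases hcb : c ≤ b * q
  · exact ⟨0, b, by omega, by omega, by omega⟩
  have hab : a * b = r * (q * b + ℓ * m) + ℓ * k := by
    subst haq hbm; ring
  have hc2 : c ≤ q * b + ℓ * m := by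
    have : r * c < r * (q * b + ℓ * m + 1) := by
      rw [Nat.mul_add r _ 1]; nlinarith
    have := Nat.lt_of_mul_lt_mul_left this
    omega
  have hex : ∃ u, c - b * q ≤ u * ℓ := ⟨m, by
    rw [mul_comm m ℓ, mul_comm b q]; omega⟩
  classical
  obtain ⟨u, hu1, hmin⟩ : ∃ u, c - b * q ≤ u * ℓ ∧ ∀ v, c - b * q ≤ v * ℓ → u ≤ v :=
    ⟨Nat.find hex, Nat.find_spec hex, fun v hv => Nat.find_min' hex hv⟩
  have hu2 : u ≤ m := hmin m (by rw [mul_comm m ℓ, mul_comm b q]; omega)
  have hu0 : u ≠ 0 := by
    intro h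
    rw [h] at hu1
    omega
  obtain ⟨u', hu'⟩ : ∃ u', u = u' + 1 := ⟨u - 1, by omega⟩
  have hu3 : u' * ℓ < c - b * q := by
    by_contra h
    have := hmin u' (by omega)
    omega
  have hm0 : m ≠ 0 := by omega
  have hℓq : ℓ ≤ k * q + 1 := by
    rcases h3 with h3 | h3
    · exact absurd h3 hm0
    · exact h3
  obtain ⟨d, hd⟩ : ∃ d, m = u + d := ⟨m - u, by omega⟩
  refine ⟨u, r * d + k, by rw [hbm, hd]; ring, ?_, ?_⟩
  · -- u * a ≤ c
    have hc3 : b * q + u' * ℓ + 1 ≤ c := by omega
    refine le_trans ?_ hc3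
    have h0 : 0 ≤ r * d * q := Nat.zero_le _
    subst hu' hd haq hbm
    nlinarith
  · have : u * a + (r * d + k) * q = b * q + u * ℓ := by
      subst haq hbm hd; ring
    rw [this]
    omega

end arithmetic

/-- Let a, b ≥ 2 and consider the symmetric group of degree a·b acting on the partitions of an (a·b)-set into b parts of size a (encoded as maps onto a b-element set all of whose fibres have a elements; a permutation fixes such a partition when it permutes the fibres). Let r be a prime dividing the number (ab)!/((a!)^b·b!) of such partitions, and let ℓ and k be the remainders of a and b modulo r. Then every permutation of order r fixes some such partition if and only if r ≤ a and one of the following holds: ℓ = 0; or k = 0 and ℓ = 1; or ℓ and k are non-zero, k·ℓ < r, and either b < r or (k + r)·ℓ ≤ k·a + r. -/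
theorem result (a b : ℕ) (ha : 2 ≤ a) (hb : 2 ≤ b) (r : ℕ) (hr : r.Prime)
    (hrd : r ∣ (a * b).factorial / (a.factorial ^ b * b.factorial)) :
    (∀ σ : Equiv.Perm (Fin (a * b)), orderOf σ = r →
        ∃ f : Fin (a * b) → Fin b, (∀ j : Fin b, Nat.card {x : Fin (a * b) // f x = j} = a) ∧
          ∃ π : Equiv.Perm (Fin b), ∀ x : Fin (a * b), f (σ x) = π (f x)) ↔
      (r ≤ a ∧ (a % r = 0 ∨ (b % r = 0 ∧ a % r = 1) ∨
        (a % r ≠ 0 ∧ b % r ≠ 0 ∧ (b % r) * (a % r) < r ∧ (b < r ∨ (b % r + r) * (a % r) ≤ (b % r) * a + r)))) := by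
  have hdvd : a.factorial ^ b * b.factorial ∣ (a * b).factorial := by
    have := Nat.uniformBell_mul_eq b (n := a) (by omega)
    rw [mul_comm a b, ← this, mul_assoc]
    exact Dvd.intro_left _ rfl
  have hrab : r ≤ a * b := by
    have h1 : r ∣ (a * b).factorial := hrd.trans (Nat.div_dvd_of_dvd hdvd)
    exact (Nat.Prime.dvd_factorial hr).1 h1
  have haq : a = r * (a / r) + a % r := (Nat.div_add_mod a r).symm
  have hbm : b = r * (b / r) + b % r := (Nat.div_add_mod b r).symm
  have hℓ : a % r < r := Nat.mod_lt _ hr.pos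
  have hk : b % r < r := Nat.mod_lt _ hr.pos
  rw [← rhs_iff hr.two_le hb haq hℓ hbm hk]
  constructor
  · intro H
    apply arith_mp hr.two_le ha hb hrab haq hbm hk
    intro c hc1 hc2
    obtain ⟨σ, hσ1, hσ2⟩ := exists_perm (α := Fin (a * b)) r c hr hc1
      (by rw [Fintype.card_fin]; exact hc2)
    obtain ⟨f, hf, π, hπ⟩ := H σ hσ1
    have hσr : σ ^ r = 1 := by rw [← hσ1]; exact pow_orderOf_eq_one σ
    have hS : ∀ j : Fin b, (univ.filter (fun x => f x = j)).card = a := by
      intro j
      have := hf j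
      rw [Nat.card_eq_fintype_card, Fintype.card_subtype] at this
      exact this
    obtain ⟨u, w, h1, h2, h3⟩ := necessity hr (by omega) σ hσr hσ2 f hS π hπ
    rw [Fintype.card_fin] at h1
    exact ⟨u, w, h1, h2, h3⟩
  · rintro ⟨-, h2, h3⟩ σ hσ
    have hσr : σ ^ r = 1 := by rw [← hσ]; exact pow_orderOf_eq_one σ
    obtain ⟨-, hs⟩ := cycleType_of_pow_eq_one hr σ hσr
    have hle : r * Multiset.card σ.cycleType ≤ a * b := by
      rw [← hs]; simpa using Finset.card_le_univ σ.support
    obtain ⟨u, w, e1, e2, e3⟩ := arith_mpr haq hbm h2 h3 _ hle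
    exact sufficiency hr e1 e2 e3 σ hσr hs

end Cfsg.Agent.S3575
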