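import Cfsg.Statements.S3592
import Cfsg.Agent.S2490
import Cfsg.Agent.S0420
import Cfsg.Agent.S5620
import Cfsg.Agent.Lib.Helper60_M11NseMain

set_option autoImplicit false
open Cfsg

namespace Cfsg.Agent.S3592

/-- Let M be the Mathieu group M₁₁ (order 7920). If a finite group G has the same order as M and the same set of values of the function 'number of elements of order n' (taken over the element orders n that occur), then G is isomorphic to M. -/
theorem result {G : Type*} [Group G] [Finite G]
    (hcard : Nat.card G = Nat.card ↥Cfsg.Spor.M11)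
    (hnse : {c : ℕ | 0 < c ∧ ∃ n : ℕ, c = Nat.card {g : G // orderOf g = n}} =
      {c : ℕ | 0 < c ∧ ∃ n : ℕ, c = Nat.card {g : ↥Cfsg.Spor.M11 // orderOf g = n}}) :
    Nonempty (G ≃* ↥Cfsg.Spor.M11) := by
  exact Cfsg.Agent.Lib.Helper60_M11Nse.iso_of_nse
    (fun hord hdisc => Cfsg.Agent.S2490.result hord hdisc)
    (fun hG => Cfsg.Agent.S0420.result hG Spor.squareDodecad Cfsg.Agent.S5620.D_mem (some 0)
      Cfsg.Agent.S5620.zero_mem)
    hcard hnse

end Cfsg.Agent.S3592
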