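import Cfsg.Statements.S3599
import Cfsg.Agent.Lib.Helper60_Frobenius

set_option autoImplicit false
open Cfsg

namespace Cfsg.Agent.S3599

open Cfsg.Agent.Lib.Helper60_Frobenius

/-- which of the two primes is used -/
def sel (b : Bool) : Fin 2 := if b then 1 else 0

theorem sel_cases (b : Bool) : (sel b = 0 ∧ sel (!b) = 1) ∨ (sel b = 1 ∧ sel (!b) = 0) := by
  cases b <;> simp [sel]

/-- the kernel prime of the `j`-th factor of the `a`-th group -/
def PP {s : ℕ} (p : Fin s → Fin 2 → ℕ) (a : Fin (2 ^ s)) (j : Fin s) : ℕ :=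
  p j (sel (a.val.testBit j))

/-- the complement prime of the `j`-th factor of the `a`-th group -/
def QQ {s : ℕ} (p : Fin s → Fin 2 → ℕ) (a : Fin (2 ^ s)) (j : Fin s) : ℕ :=
  p j (sel (!a.val.testBit j))

theorem omega_eq {s : ℕ} (p : Fin s → Fin 2 → ℕ) (a : Fin (2 ^ s)) :
    {m : ℕ | ∃ c : Fin s → ℕ, (∀ j, c j = 1 ∨ c j = PP p a j ∨ c j = QQ p a j) ∧ m = ∏ j, c j} =
    {m : ℕ | ∃ c : Fin s → ℕ, (∀ j, c j = 1 ∨ c j = p j 0 ∨ c j = p j 1) ∧ m = ∏ j, c j} := by
  have key : ∀ (c : Fin s → ℕ) j, (c j = 1 ∨ c j = PP p a j ∨ c j = QQ p a j) ↔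
      (c j = 1 ∨ c j = p j 0 ∨ c j = p j 1) := by
    intro c j
    unfold PP QQ
    rcases sel_cases (a.val.testBit j) with ⟨h1, h2⟩ | ⟨h1, h2⟩
    · rw [h1, h2]
    · rw [h1, h2]; tauto
  ext m
  constructor
  · rintro ⟨c, hc, rfl⟩
    exact ⟨c, fun j => (key c j).mp (hc j), rfl⟩
  · rintro ⟨c, hc, rfl⟩
    exact ⟨c, fun j => (key c j).mpr (hc j), rfl⟩

theorem exists_bit_ne {s : ℕ} (a b : Fin (2 ^ s)) (hab : a ≠ b) :
    ∃ j : Fin s, a.val.testBit j ≠ b.val.testBit j := by
  by_contra hcon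
  push Not at hcon
  apply hab
  apply Fin.ext
  apply Nat.eq_of_testBit_eq
  intro i
  by_cases hi : i < s
  · exact hcon ⟨i, hi⟩
  · have h2 : (2 : ℕ) ^ s ≤ 2 ^ i := Nat.pow_le_pow_right (by norm_num) (by omega)
    rw [Nat.testBit_lt_two_pow (lt_of_lt_of_le a.isLt h2),
      Nat.testBit_lt_two_pow (lt_of_lt_of_le b.isLt h2)]

theorem ordMod_one_lt {A B : ℕ} (hA : A.Prime) (hB : B.Prime) (hAB : A ≠ B)
    (h : ordMod A B = 1) : B < A := by
  have h1 := (ordMod_spec hA hB hAB).2
  rw [h, pow_one] at h1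
  have h2 : 0 < A - 1 := by have := hA.two_le; omega
  have := Nat.le_of_dvd h2 h1
  omega

/-- A finite group is critical with respect to a set Ω of natural numbers when its set of element orders is Ω while no proper section H/N (H a subgroup, N normal in H, (H, N) ≠ (whole group, 1)) has Ω as its set of element orders. Let s ≥ 1 and let p(j,0), p(j,1) (j < s) be 2s pairwise distinct primes, and let Ω be the set of all products c(0)·…·c(s−1) with each c(j) ∈ {1, p(j,0), p(j,1)}. Then there are 2^s pairwise non-isomorphic finite groups critical with respect to Ω. -/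
theorem result (s : ℕ) (hs : 1 ≤ s) (p : Fin s → Fin 2 → ℕ)
    (hp : ∀ j i, (p j i).Prime) (hinj : ∀ j i j' i', p j i = p j' i' → j = j' ∧ i = i') :
    ∃ (G : Fin (2 ^ s) → Type) (_ : ∀ a, Group (G a)) (_ : ∀ a, Fintype (G a)),
      (∀ a b, a ≠ b → ¬ Nonempty (G a ≃* G b)) ∧
      ∀ a, Set.range (orderOf : (G a) → ℕ) = {m : ℕ | ∃ c : Fin s → ℕ, (∀ j, c j = 1 ∨ c j = p j 0 ∨ c j = p j 1) ∧ m = ∏ j, c j} ∧
      ∀ (H : Subgroup (G a)) (N : Subgroup ↥H) [N.Normal], (H ≠ ⊤ ∨ N ≠ ⊥) → Set.range (orderOf : (↥H ⧸ N) → ℕ) ≠ {m : ℕ | ∃ c : Fin s → ℕ, (∀ j, c j = 1 ∨ c j = p j 0 ∨ c j = p j 1) ∧ m = ∏ j, c j} := by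
  classical
  have hPf : ∀ a j, Fact (PP p a j).Prime := fun a j => ⟨hp j _⟩
  have hQ : ∀ a j, (QQ p a j).Prime := fun a j => hp j _
  have hPQ : ∀ a j, PP p a j ≠ QQ p a j := by
    intro a j h
    have := (hinj _ _ _ _ h).2
    rcases sel_cases (a.val.testBit j) with ⟨h1, h2⟩ | ⟨h1, h2⟩ <;> rw [h1, h2] at this <;>
      exact absurd this (by decide)
  have hdis : ∀ a i j, i ≠ j → PP p a i ≠ PP p a j ∧ PP p a i ≠ QQ p a j ∧
      QQ p a i ≠ PP p a j ∧ QQ p a i ≠ QQ p a j := by
    intro a i j hij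
    refine ⟨fun h => hij (hinj _ _ _ _ h).1, fun h => hij (hinj _ _ _ _ h).1,
      fun h => hij (hinj _ _ _ _ h).1, fun h => hij (hinj _ _ _ _ h).1⟩
  refine ⟨fun a => ∀ j, Frob (PP p a j) (QQ p a j), fun a => inferInstance,
    fun a => Fintype.ofFinite _, ?_, ?_⟩
  · -- pairwise non-isomorphic
    intro a b hab ⟨e⟩
    have hcard : Nat.card (∀ j, Frob (PP p a j) (QQ p a j)) =
        Nat.card (∀ j, Frob (PP p b j) (QQ p b j)) := Nat.card_congr e.toEquiv
    obtain ⟨j, hj⟩ := exists_bit_ne a b hab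
    have hPa := factorization_card_piFrob_P (PP p a) (QQ p a) (hQ a) (hPQ a) (hdis a) j
    have hQa := factorization_card_piFrob_Q (PP p a) (QQ p a) (hQ a) (hPQ a) (hdis a) j
    have hPb := factorization_card_piFrob_P (PP p b) (QQ p b) (hQ b) (hPQ b) (hdis b) j
    have hQb := factorization_card_piFrob_Q (PP p b) (QQ p b) (hQ b) (hPQ b) (hdis b) j
    -- the primes are swapped
    have hsw : PP p a j = QQ p b j ∧ QQ p a j = PP p b j := by
      unfold PP QQ
      have : a.val.testBit j = !b.val.testBit j := by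
        cases h1 : a.val.testBit j <;> cases h2 : b.val.testBit j <;> simp_all
      rw [this]; simp
    have hPa' : ordMod (PP p a j) (QQ p a j) = 1 := by
      rw [← hPa, hcard, hsw.1, hQb]
    have hPb' : ordMod (PP p b j) (QQ p b j) = 1 := by
      rw [← hPb, ← hcard, ← hsw.2, hQa]
    have h1 := ordMod_one_lt (hPf a j).out (hQ a j) (hPQ a j) hPa'
    have h2 := ordMod_one_lt (hPf b j).out (hQ b j) (hPQ b j) hPb'
    rw [← hsw.1, ← hsw.2] at h2
    omega
  · intro a
    refine ⟨?_, ?_⟩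
    · rw [← omega_eq p a]
      exact piFrob_spectrum (PP p a) (QQ p a) (hQ a) (hPQ a) (hdis a)
    · intro H N hN hne heq
      have hmem : ∀ j i, p j i ∈ Set.range (orderOf : (↥H ⧸ N) → ℕ) := by
        intro j i
        rw [heq]
        refine ⟨Function.update (fun _ => 1) j (p j i), ?_, ?_⟩
        · intro j'
          by_cases h : j' = j
          · subst h
            rw [Function.update_self]
            fin_cases i
            · right; left; rfl
            · right; right; rfl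
          · left; rw [Function.update_of_ne h]
        · rw [Fintype.prod_eq_single j]
          · rw [Function.update_self]
          · intro j' h; rw [Function.update_of_ne h]
      have := piFrob_critical (PP p a) (QQ p a) (hQ a) (hPQ a) (hdis a) H N
        (fun j => ⟨hmem j _, hmem j _⟩)
      rcases hne with h | h
      · exact h this.1
      · exact h this.2

end Cfsg.Agent.S3599
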