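import Cfsg.Statements.S3611
import Cfsg.Agent.Lib.Helper12_PrimeDeg
import Cfsg.Agent.Lib.Helper12_PrimeDeg2
import Cfsg.Agent.Lib.Helper12_PrimeDeg3
import Cfsg.Agent.Lib.Helper12_PrimeDeg4
import Cfsg.Agent.Lib.Helper12_PrimeDeg5
import Cfsg.Agent.S0677
import Mathlib

set_option autoImplicit false
open Cfsg

namespace Cfsg.Agent.S3611

open Cfsg.Agent.Lib.Helper12_PrimeDeg

/-- Let G be an insoluble group acting faithfully and transitively on a finite set of prime size p, and suppose the normalizer of a Sylow p-subgroup of G has order p(p-1)/2. If p ≡ 3 (mod 4), then G is triply transitive, or for any two distinct points the stabilizer of both has exactly four orbits on the set (the two fixed points and exactly two orbits on the remaining p - 2 points). -/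
theorem result {G Ω : Type*} [Group G] [Finite G] [MulAction G Ω] [FaithfulSMul G Ω] [Finite Ω]
    (p : ℕ) (hp : p.Prime) (hΩ : Nat.card Ω = p) (htrans : MulAction.IsPretransitive G Ω)
    (hins : ¬ Group.IsSolvable G) (P : Sylow p G)
    (hN : 2 * Nat.card ↥(Subgroup.normalizer ((P : Subgroup G) : Set G)) = p * (p - 1))
    (hp3 : p % 4 = 3) :
    MulAction.IsMultiplyPretransitive G Ω 3 ∨
    ∀ α β : Ω, α ≠ β →
      Nat.card (MulAction.orbitRel.Quotient ↥(MulAction.stabilizer G α ⊓ MulAction.stabilizer G β) Ω) = 4 := by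
  classical
  have : Fact p.Prime := ⟨hp⟩
  have : Fintype Ω := Fintype.ofFinite Ω
  have hα : Fintype.card Ω = p := by rw [← Nat.card_eq_fintype_card]; exact hΩ
  have hne : Nonempty Ω := by
    rw [← Fintype.card_pos_iff, hα]; exact hp.pos
  obtain ⟨a₀⟩ := hne
  -- the permutation representation
  let φ : G →* Equiv.Perm Ω := MulAction.toPermHom G Ω
  have hφinj : Function.Injective φ := MulAction.toPerm_injective
  have hφapp : ∀ (g : G) (ω : Ω), φ g ω = g • ω := fun g ω => rfl
  have hdvd : p ∣ Nat.card G := by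
    have h1 : (MulAction.stabilizer G a₀).index = Nat.card Ω :=
      MulAction.index_stabilizer_of_transitive G a₀
    rw [hΩ] at h1
    rw [← h1]
    exact Subgroup.index_dvd_card _
  have hGdvd : Nat.card G ∣ p.factorial := by
    have h1 : Nat.card G = Nat.card φ.range :=
      Nat.card_congr (MonoidHom.ofInjective hφinj).toEquiv
    have h2 := Subgroup.card_subgroup_dvd_card φ.range
    rwa [Nat.card_eq_fintype_card (α := Equiv.Perm Ω), Fintype.card_perm, hα, ← h1] at h2
  -- the Sylow subgroup has order `p`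
  have hPcard : Nat.card (P : Subgroup G) = p := by
    obtain ⟨k, hk⟩ := IsPGroup.iff_card.mp P.isPGroup'
    have hk1 : k ≠ 0 := by
      rintro rfl
      rw [pow_zero] at hk
      exact P.ne_bot_of_dvd_card hdvd ((P : Subgroup G).eq_bot_of_card_eq hk)
    have hk2 : k < 2 := by
      by_contra hk2
      have hk2 : 2 ≤ k := by omega
      apply Cfsg.Agent.S0677.not_sq_dvd_factorial hp
      refine Dvd.dvd.trans ?_ hGdvd
      refine Dvd.dvd.trans ?_ (Subgroup.card_subgroup_dvd_card (P : Subgroup G))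
      rw [hk, ← pow_two]
      exact pow_dvd_pow p hk2
    have : k = 1 := by omega
    rw [hk, this, pow_one]
  -- a generator of `P`
  obtain ⟨c, hc⟩ := exists_prime_orderOf_dvd_card' (G := (P : Subgroup G)) p
    (by rw [hPcard])
  have hc1 : c ≠ 1 := by
    rintro rfl
    rw [orderOf_one] at hc
    exact hp.one_lt.ne hc
  have hc' : orderOf (φ (c : G)) = p := by
    rw [orderOf_injective φ hφinj, Subgroup.orderOf_coe]; exact hc
  obtain ⟨e, he⟩ := exists_labelling_of_orderOf hα (φ (c : G)) hc'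
  let Φ : G →* Equiv.Perm (ZMod p) :=
    (e.permCongrHom : Equiv.Perm Ω →* Equiv.Perm (ZMod p)).comp φ
  have hΦinj : Function.Injective Φ := fun x y h => hφinj (e.permCongrHom.injective h)
  have hΦapp : ∀ (g : G) (ω : Ω), Φ g (e ω) = e (g • ω) := by
    intro g ω
    show e (φ g (e.symm (e ω))) = e (g • ω)
    rw [Equiv.symm_apply_apply, hφapp]
  have hΦc : Φ (c : G) = Equiv.addRight (1 : ZMod p) := he
  set G' : Subgroup (Equiv.Perm (ZMod p)) := Φ.range with hG'
  have hτ : Equiv.addRight (1 : ZMod p) ∈ G' := ⟨(c : G), hΦc⟩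
  -- `G'` is not affine
  have hnaff : ¬ G' ≤ Cfsg.affineGroup (ZMod p) := by
    intro haff
    apply hins
    have hsolv : Group.IsSolvable G' := isSolvable_of_le_affineGroup G' haff
    exact Group.isSolvable_of_isSolvable_injective (f := Φ.rangeRestrict)
      (by
        intro x y hxy
        have := congrArg Subtype.val hxy
        exact hΦinj this)
  -- the normaliser consists of affine maps
  have hNaff : ∀ g : G, g ∈ Subgroup.normalizer ((P : Subgroup G) : Set G) →
      Φ g ∈ Cfsg.affineGroup (ZMod p) := by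
    intro g hg
    have htc : (g * (c : G) * g⁻¹) ∈ (P : Subgroup G) :=
      (Subgroup.mem_normalizer_iff.mp hg (c : G)).mp c.2
    obtain ⟨k, hk⟩ : ∃ k : ℤ, c ^ k = ⟨g * (c : G) * g⁻¹, htc⟩ :=
      Subgroup.mem_zpowers_iff.mp (mem_zpowers_of_prime_card hPcard hc1)
    have hk' : (c : G) ^ k = g * (c : G) * g⁻¹ := by
      have := congrArg (fun x : (P : Subgroup G) => (x : G)) hk
      simpa using this
    have htn : Φ g * Equiv.addRight 1 * (Φ g)⁻¹ = Equiv.addRight (k • (1 : ZMod p)) := by
      rw [← Equiv.zsmul_addRight, ← hΦc, ← map_inv, ← map_mul, ← map_mul, ← map_zpow, hk']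
    have hshape := affine_of_normalizes (Φ g) _ htn
    have hm : (k • (1 : ZMod p)) ≠ 0 := by
      intro h0
      have h1 := hshape 0
      have h2 := hshape 1
      rw [h0, zero_mul, zero_add] at h1 h2
      have := (Φ g).injective (h2.trans h1.symm)
      exact one_ne_zero this
    exact ⟨Units.mk0 _ hm, Φ g 0, fun x => by rw [Units.val_mk0]; exact hshape x⟩
  have hA : p * (p - 1) ≤
      2 * Nat.card (G' ⊓ Cfsg.affineGroup (ZMod p) : Subgroup (Equiv.Perm (ZMod p))) := by
    rw [← hN]
    apply Nat.mul_le_mul_left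
    let f : Subgroup.normalizer ((P : Subgroup G) : Set G) →
        (G' ⊓ Cfsg.affineGroup (ZMod p) : Subgroup (Equiv.Perm (ZMod p))) :=
      fun g => ⟨Φ (g : G), ⟨⟨(g : G), rfl⟩, hNaff g g.2⟩⟩
    have hf : Function.Injective f := by
      intro x y hxy
      have := congrArg Subtype.val hxy
      exact Subtype.ext (hΦinj this)
    exact Nat.card_le_card_of_injective f hf
  have h2 : ∀ a b c d : ZMod p, a ≠ b → c ≠ d → ∃ g ∈ G', g a = c ∧ g b = d := by
    by_contra h
    exact hnaff (affine_of_not_two_transitive G' hτ h)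
  have h2Ω : ∀ a b c d : Ω, a ≠ b → c ≠ d → ∃ g : G, g • a = c ∧ g • b = d := by
    intro a b c d hab hcd
    obtain ⟨g', ⟨g, rfl⟩, h1, h2⟩ := h2 (e a) (e b) (e c) (e d)
      (fun h => hab (e.injective h)) (fun h => hcd (e.injective h))
    rw [hΦapp] at h1 h2
    exact ⟨g, e.injective h1, e.injective h2⟩
  by_cases h3 : MulAction.IsMultiplyPretransitive G Ω 3
  · exact Or.inl h3
  right
  intro α β hαβ
  -- two points in different orbits of the two point stabiliser
  obtain ⟨x, y, hxy⟩ : ∃ x y : Fin 3 ↪ Ω, ∀ g : G, g • x ≠ y := by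
    by_contra hcon
    push Not at hcon
    exact h3 ⟨hcon⟩
  have hx : ∀ i j : Fin 3, i ≠ j → x i ≠ x j := fun i j hij h => hij (x.injective h)
  have hy : ∀ i j : Fin 3, i ≠ j → y i ≠ y j := fun i j hij h => hij (y.injective h)
  obtain ⟨g₁, g₁0, g₁1⟩ := h2Ω (x 0) (x 1) α β (hx 0 1 (by decide)) hαβ
  obtain ⟨g₂, g₂0, g₂1⟩ := h2Ω (y 0) (y 1) α β (hy 0 1 (by decide)) hαβ
  set c₁ : Ω := g₁ • x 2 with hc₁
  set c₂ : Ω := g₂ • y 2 with hc₂
  have hc₁α : c₁ ≠ α := by
    rw [hc₁, ← g₁0]; exact fun h => hx 2 0 (by decide) (MulAction.injective g₁ h)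
  have hc₁β : c₁ ≠ β := by
    rw [hc₁, ← g₁1]; exact fun h => hx 2 1 (by decide) (MulAction.injective g₁ h)
  have hc₂α : c₂ ≠ α := by
    rw [hc₂, ← g₂0]; exact fun h => hy 2 0 (by decide) (MulAction.injective g₂ h)
  have hc₂β : c₂ ≠ β := by
    rw [hc₂, ← g₂1]; exact fun h => hy 2 1 (by decide) (MulAction.injective g₂ h)
  have hdiff : ∀ h : G, h • α = α → h • β = β → h • c₁ ≠ c₂ := by
    intro h hα' hβ' hc
    apply hxy (g₂⁻¹ * h * g₁)
    ext i
    rw [Function.Embedding.smul_apply, mul_smul, mul_smul]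
    fin_cases i
    · show g₂⁻¹ • h • g₁ • x 0 = y 0
      rw [g₁0, hα', ← g₂0, inv_smul_smul]
    · show g₂⁻¹ • h • g₁ • x 1 = y 1
      rw [g₁1, hβ', ← g₂1, inv_smul_smul]
    · show g₂⁻¹ • h • g₁ • x 2 = y 2
      rw [← hc₁, hc, hc₂, inv_smul_smul]
  -- every other point is in the orbit of `c₁` or `c₂`
  have hcover : ∀ z : Ω, z ≠ α → z ≠ β →
      ∃ h : G, h • α = α ∧ h • β = β ∧ (h • c₁ = z ∨ h • c₂ = z) := by
    intro z hzα hzβ
    have hcore := two_orbit_bound_of_card G' hτ hnaff hA hp3
      (a := e α) (b := e β) (fun h => hαβ (e.injective h)) ![e c₁, e c₂, e z]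
      (by
        intro i
        fin_cases i
        · exact fun h => hc₁α (e.injective h)
        · exact fun h => hc₂α (e.injective h)
        · exact fun h => hzα (e.injective h))
      (by
        intro i
        fin_cases i
        · exact fun h => hc₁β (e.injective h)
        · exact fun h => hc₂β (e.injective h)
        · exact fun h => hzβ (e.injective h))
    obtain ⟨i, j, hij, g', ⟨g, rfl⟩, ga, gb, gc⟩ := hcore
    rw [hΦapp] at ga gb
    have ga' : g • α = α := e.injective ga
    have gb' : g • β = β := e.injective gb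
    have gia : g⁻¹ • α = α := by rw [inv_smul_eq_iff, ga']
    have gib : g⁻¹ • β = β := by rw [inv_smul_eq_iff, gb']
    fin_cases i <;> fin_cases j
    · exact absurd rfl hij
    · exfalso
      have : Φ g (e c₁) = e c₂ := gc
      rw [hΦapp] at this
      exact hdiff g ga' gb' (e.injective this)
    · have : Φ g (e c₁) = e z := gc
      rw [hΦapp] at this
      exact ⟨g, ga', gb', Or.inl (e.injective this)⟩
    · exfalso
      have : Φ g (e c₂) = e c₁ := gc
      rw [hΦapp] at this
      have h1 : g • c₂ = c₁ := e.injective this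
      apply hdiff g⁻¹ gia gib
      rw [inv_smul_eq_iff, h1]
    · exact absurd rfl hij
    · have : Φ g (e c₂) = e z := gc
      rw [hΦapp] at this
      exact ⟨g, ga', gb', Or.inr (e.injective this)⟩
    · have : Φ g (e z) = e c₁ := gc
      rw [hΦapp] at this
      have h1 : g • z = c₁ := e.injective this
      refine ⟨g⁻¹, gia, gib, Or.inl ?_⟩
      rw [inv_smul_eq_iff, h1]
    · have : Φ g (e z) = e c₂ := gc
      rw [hΦapp] at this
      have h1 : g • z = c₂ := e.injective this
      refine ⟨g⁻¹, gia, gib, Or.inr ?_⟩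
      rw [inv_smul_eq_iff, h1]
    · exact absurd rfl hij
  -- counting the orbits
  set H : Subgroup G := MulAction.stabilizer G α ⊓ MulAction.stabilizer G β with hH
  have hHmem : ∀ h : G, h ∈ H ↔ h • α = α ∧ h • β = β := by
    intro h
    rw [hH, Subgroup.mem_inf, MulAction.mem_stabilizer_iff, MulAction.mem_stabilizer_iff]
  let q : Ω → MulAction.orbitRel.Quotient H Ω := Quotient.mk''
  have hq : ∀ ω ω' : Ω, q ω = q ω' ↔ ∃ h : G, h ∈ H ∧ h • ω' = ω := by
    intro ω ω'
    show (Quotient.mk'' ω : MulAction.orbitRel.Quotient H Ω) = Quotient.mk'' ω' ↔ _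
    rw [Quotient.eq'', MulAction.orbitRel_apply, MulAction.mem_orbit_iff]
    constructor
    · rintro ⟨h, hh⟩
      exact ⟨(h : G), h.2, hh⟩
    · rintro ⟨h, hh, hω⟩
      exact ⟨⟨h, hh⟩, hω⟩
  have hqα : ∀ ω, q α = q ω → ω = α := by
    intro ω h
    obtain ⟨g, hg, hgω⟩ := (hq α ω).mp h
    have := ((hHmem g).mp hg).1
    rw [← this] at hgω
    exact MulAction.injective g hgω
  have hqβ : ∀ ω, q β = q ω → ω = β := by
    intro ω h
    obtain ⟨g, hg, hgω⟩ := (hq β ω).mp h
    have := ((hHmem g).mp hg).2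
    rw [← this] at hgω
    exact MulAction.injective g hgω
  have h01 : q α ≠ q β := fun h => hαβ (hqα β h).symm
  have h02 : q α ≠ q c₁ := fun h => hc₁α (hqα c₁ h)
  have h03 : q α ≠ q c₂ := fun h => hc₂α (hqα c₂ h)
  have h12 : q β ≠ q c₁ := fun h => hc₁β (hqβ c₁ h)
  have h13 : q β ≠ q c₂ := fun h => hc₂β (hqβ c₂ h)
  have h23 : q c₁ ≠ q c₂ := by
    intro h
    obtain ⟨g, hg, hgω⟩ := (hq c₁ c₂).mp h
    have hg' := (hHmem g).mp hg
    apply hdiff g⁻¹ (by rw [inv_smul_eq_iff, hg'.1]) (by rw [inv_smul_eq_iff, hg'.2])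
    rw [inv_smul_eq_iff, hgω]
  let f : Fin 4 → MulAction.orbitRel.Quotient H Ω := ![q α, q β, q c₁, q c₂]
  have hfinj : Function.Injective f := by
    intro i j hij
    fin_cases i <;> fin_cases j
    · rfl
    · exact absurd hij h01
    · exact absurd hij h02
    · exact absurd hij h03
    · exact absurd hij.symm h01
    · rfl
    · exact absurd hij h12
    · exact absurd hij h13
    · exact absurd hij.symm h02
    · exact absurd hij.symm h12
    · rfl
    · exact absurd hij h23
    · exact absurd hij.symm h03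
    · exact absurd hij.symm h13
    · exact absurd hij.symm h23
    · rfl
  have hfsurj : Function.Surjective f := by
    intro Q
    induction Q using Quotient.inductionOn' with
    | h ω =>
      by_cases hωα : ω = α
      · exact ⟨0, by rw [hωα]; rfl⟩
      by_cases hωβ : ω = β
      · exact ⟨1, by rw [hωβ]; rfl⟩
      obtain ⟨h, hα', hβ', hz⟩ := hcover ω hωα hωβ
      have hhH : h ∈ H := (hHmem h).mpr ⟨hα', hβ'⟩
      rcases hz with hz | hz
      · refine ⟨2, ?_⟩
        show q c₁ = q ω
        exact ((hq ω c₁).mpr ⟨h, hhH, hz⟩).symm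
      · refine ⟨3, ?_⟩
        show q c₂ = q ω
        exact ((hq ω c₂).mpr ⟨h, hhH, hz⟩).symm
  have := Nat.card_eq_of_bijective f ⟨hfinj, hfsurj⟩
  rw [← this, Nat.card_fin]

end Cfsg.Agent.S3611
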