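import Cfsg.Statements.S3612
import Cfsg.Agent.Lib.Helper12_PrimeDeg
import Cfsg.Agent.Lib.Helper12_PrimeDeg2
import Cfsg.Agent.Lib.Helper12_PrimeDeg3
import Cfsg.Agent.Lib.Helper12_PrimeDeg4
import Cfsg.Agent.Lib.Helper12_PrimeDeg5
import Cfsg.Agent.Lib.Helper60_TwoPrim
import Cfsg.Agent.S0677
import Mathlib

set_option autoImplicit false
open Cfsg

namespace Cfsg.Agent.S3612

open Cfsg.Agent.Lib.Helper12_PrimeDeg
open scoped Pointwise

/-- Let G be an insoluble group acting faithfully and transitively on a finite set of prime size p, and suppose the normalizer of a Sylow p-subgroup of G has order p(p-1)/2. If p > 7, then the stabilizer of a point acts primitively on the remaining p - 1 points. -/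
theorem result {G Ω : Type*} [Group G] [Finite G] [MulAction G Ω] [FaithfulSMul G Ω] [Finite Ω]
    (p : ℕ) (hp : p.Prime) (hΩ : Nat.card Ω = p) (htrans : MulAction.IsPretransitive G Ω)
    (hins : ¬ Group.IsSolvable G) (P : Sylow p G)
    (hN : 2 * Nat.card ↥(Subgroup.normalizer ((P : Subgroup G) : Set G)) = p * (p - 1))
    (hp7 : 7 < p) (α : Ω) :
    MulAction.IsPreprimitive ↥(MulAction.stabilizer G α) ↥(SubMulAction.ofStabilizer G α) := by
  classical
  have : Fact p.Prime := ⟨hp⟩
  have : Fintype Ω := Fintype.ofFinite Ω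
  have hα : Fintype.card Ω = p := by rw [← Nat.card_eq_fintype_card]; exact hΩ
  have hne : Nonempty Ω := by
    rw [← Fintype.card_pos_iff, hα]; exact hp.pos
  obtain ⟨a₀⟩ := hne
  -- the permutation representation
  let φ : G →* Equiv.Perm Ω := MulAction.toPermHom G Ω
  have hφinj : Function.Injective φ := MulAction.toPerm_injective
  have hφapp : ∀ (g : G) (ω : Ω), φ g ω = g • ω := fun g ω => rfl
  have hdvd : p ∣ Nat.card G := by
    have h1 : (MulAction.stabilizer G a₀).index = Nat.card Ω :=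
      MulAction.index_stabilizer_of_transitive G a₀
    rw [hΩ] at h1
    rw [← h1]
    exact Subgroup.index_dvd_card _
  have hGdvd : Nat.card G ∣ p.factorial := by
    have h1 : Nat.card G = Nat.card φ.range :=
      Nat.card_congr (MonoidHom.ofInjective hφinj).toEquiv
    have h2 := Subgroup.card_subgroup_dvd_card φ.range
    rwa [Nat.card_eq_fintype_card (α := Equiv.Perm Ω), Fintype.card_perm, hα, ← h1] at h2
  -- the Sylow subgroup has order `p`
  have hPcard : Nat.card (P : Subgroup G) = p := by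
    obtain ⟨k, hk⟩ := IsPGroup.iff_card.mp P.isPGroup'
    have hk1 : k ≠ 0 := by
      rintro rfl
      rw [pow_zero] at hk
      exact P.ne_bot_of_dvd_card hdvd ((P : Subgroup G).eq_bot_of_card_eq hk)
    have hk2 : k < 2 := by
      by_contra hk2
      have hk2 : 2 ≤ k := by omega
      apply Cfsg.Agent.S0677.not_sq_dvd_factorial hp
      refine Dvd.dvd.trans ?_ hGdvd
      refine Dvd.dvd.trans ?_ (Subgroup.card_subgroup_dvd_card (P : Subgroup G))
      rw [hk, ← pow_two]
      exact pow_dvd_pow p hk2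
    have : k = 1 := by omega
    rw [hk, this, pow_one]
  -- a generator of `P`
  obtain ⟨c, hc⟩ := exists_prime_orderOf_dvd_card' (G := (P : Subgroup G)) p
    (by rw [hPcard])
  have hc1 : c ≠ 1 := by
    rintro rfl
    rw [orderOf_one] at hc
    exact hp.one_lt.ne hc
  have hc' : orderOf (φ (c : G)) = p := by
    rw [orderOf_injective φ hφinj, Subgroup.orderOf_coe]; exact hc
  obtain ⟨e, he⟩ := exists_labelling_of_orderOf hα (φ (c : G)) hc'
  let Φ : G →* Equiv.Perm (ZMod p) :=
    (e.permCongrHom : Equiv.Perm Ω →* Equiv.Perm (ZMod p)).comp φ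
  have hΦinj : Function.Injective Φ := fun x y h => hφinj (e.permCongrHom.injective h)
  have hΦapp : ∀ (g : G) (ω : Ω), Φ g (e ω) = e (g • ω) := by
    intro g ω
    show e (φ g (e.symm (e ω))) = e (g • ω)
    rw [Equiv.symm_apply_apply, hφapp]
  have hΦc : Φ (c : G) = Equiv.addRight (1 : ZMod p) := he
  set G' : Subgroup (Equiv.Perm (ZMod p)) := Φ.range with hG'
  have hτ : Equiv.addRight (1 : ZMod p) ∈ G' := ⟨(c : G), hΦc⟩
  -- `G'` is not affine
  have hnaff : ¬ G' ≤ Cfsg.affineGroup (ZMod p) := by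
    intro haff
    apply hins
    have hsolv : Group.IsSolvable G' := isSolvable_of_le_affineGroup G' haff
    exact Group.isSolvable_of_isSolvable_injective (f := Φ.rangeRestrict)
      (by
        intro x y hxy
        have := congrArg Subtype.val hxy
        exact hΦinj this)
  -- the normaliser consists of affine maps
  have hNaff : ∀ g : G, g ∈ Subgroup.normalizer ((P : Subgroup G) : Set G) →
      Φ g ∈ Cfsg.affineGroup (ZMod p) := by
    intro g hg
    have htc : (g * (c : G) * g⁻¹) ∈ (P : Subgroup G) :=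
      (Subgroup.mem_normalizer_iff.mp hg (c : G)).mp c.2
    obtain ⟨k, hk⟩ : ∃ k : ℤ, c ^ k = ⟨g * (c : G) * g⁻¹, htc⟩ :=
      Subgroup.mem_zpowers_iff.mp (mem_zpowers_of_prime_card hPcard hc1)
    have hk' : (c : G) ^ k = g * (c : G) * g⁻¹ := by
      have := congrArg (fun x : (P : Subgroup G) => (x : G)) hk
      simpa using this
    have htn : Φ g * Equiv.addRight 1 * (Φ g)⁻¹ = Equiv.addRight (k • (1 : ZMod p)) := by
      rw [← Equiv.zsmul_addRight, ← hΦc, ← map_inv, ← map_mul, ← map_mul, ← map_zpow, hk']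
    have hshape := affine_of_normalizes (Φ g) _ htn
    have hm : (k • (1 : ZMod p)) ≠ 0 := by
      intro h0
      have h1 := hshape 0
      have h2 := hshape 1
      rw [h0, zero_mul, zero_add] at h1 h2
      have := (Φ g).injective (h2.trans h1.symm)
      exact one_ne_zero this
    exact ⟨Units.mk0 _ hm, Φ g 0, fun x => by rw [Units.val_mk0]; exact hshape x⟩
  have hA : p * (p - 1) ≤
      2 * Nat.card (G' ⊓ Cfsg.affineGroup (ZMod p) : Subgroup (Equiv.Perm (ZMod p))) := by
    rw [← hN]
    apply Nat.mul_le_mul_left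
    let f : Subgroup.normalizer ((P : Subgroup G) : Set G) →
        (G' ⊓ Cfsg.affineGroup (ZMod p) : Subgroup (Equiv.Perm (ZMod p))) :=
      fun g => ⟨Φ (g : G), ⟨⟨(g : G), rfl⟩, hNaff g g.2⟩⟩
    have hf : Function.Injective f := by
      intro x y hxy
      have := congrArg Subtype.val hxy
      exact Subtype.ext (hΦinj this)
    exact Nat.card_le_card_of_injective f hf
  have h2 : ∀ a b c d : ZMod p, a ≠ b → c ≠ d → ∃ g ∈ G', g a = c ∧ g b = d := by
    by_contra h
    exact hnaff (affine_of_not_two_transitive G' hτ h)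
  have h2Ω : ∀ a b c d : Ω, a ≠ b → c ≠ d → ∃ g : G, g • a = c ∧ g • b = d := by
    intro a b c d hab hcd
    obtain ⟨g', ⟨g, rfl⟩, h1, h2⟩ := h2 (e a) (e b) (e c) (e d)
      (fun h => hab (e.injective h)) (fun h => hcd (e.injective h))
    rw [hΦapp] at h1 h2
    exact ⟨g, e.injective h1, e.injective h2⟩
  -- the triply transitive case
  by_cases h3 : MulAction.IsMultiplyPretransitive G Ω 3
  · have h2' : MulAction.IsMultiplyPretransitive ↥(MulAction.stabilizer G α)
        ↥(SubMulAction.ofStabilizer G α) 2 :=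
      (SubMulAction.ofStabilizer.isMultiplyPretransitive (G := G) (α := Ω) (n := 2)
        (a := α)).mp h3
    exact MulAction.isPreprimitive_of_is_two_pretransitive h2'
  -- `p ≡ 3 mod 4`, as otherwise there is a reflection
  have hp34 : p % 4 = 3 := by
    by_contra hne
    apply h3
    obtain ⟨y, hy⟩ : IsSquare (-1 : ZMod p) := ZMod.exists_sq_eq_neg_one_iff.mpr hne
    have hy0 : y ≠ 0 := by
      rintro rfl
      simp at hy
    obtain ⟨t, ht, b₀, htx⟩ := sq_multiplier_of_card G' hA y hy0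
    have htx' : ∀ x, t x = -x + b₀ := by
      intro x
      rw [htx, ← hy]
      ring
    have hcore := three_transitive_core G' hτ hnaff t ht b₀ htx'
    refine ⟨fun x y => ?_⟩
    have hx : ∀ i j : Fin 3, i ≠ j → e (x i) ≠ e (x j) :=
      fun i j hij h => hij (x.injective (e.injective h))
    have hy' : ∀ i j : Fin 3, i ≠ j → e (y i) ≠ e (y j) :=
      fun i j hij h => hij (y.injective (e.injective h))
    obtain ⟨g', ⟨g, rfl⟩, g0, g1, g2⟩ := hcore (e (x 0)) (e (x 1)) (e (x 2)) (e (y 0)) (e (y 1))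
      (e (y 2)) (hx 0 1 (by decide)) (hx 0 2 (by decide)) (hx 1 2 (by decide))
      (hy' 0 1 (by decide)) (hy' 0 2 (by decide)) (hy' 1 2 (by decide))
    rw [hΦapp] at g0 g1 g2
    refine ⟨g, ?_⟩
    ext i
    rw [Function.Embedding.smul_apply]
    fin_cases i
    · exact e.injective g0
    · exact e.injective g1
    · exact e.injective g2
  -- transitivity of the stabiliser
  have h2t : MulAction.IsMultiplyPretransitive G Ω 2 := by
    rw [MulAction.is_two_pretransitive_iff]
    intro a b c d hab hcd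
    exact h2Ω a b c d hab hcd
  have h1t : MulAction.IsMultiplyPretransitive ↥(MulAction.stabilizer G α)
      ↥(SubMulAction.ofStabilizer G α) 1 :=
    (SubMulAction.ofStabilizer.isMultiplyPretransitive (G := G) (α := Ω) (n := 1)
      (a := α)).mp h2t
  have hpt : MulAction.IsPretransitive ↥(MulAction.stabilizer G α)
      ↥(SubMulAction.ofStabilizer G α) := MulAction.is_one_pretransitive_iff.mp h1t
  refine { toIsPretransitive := hpt, isTrivialBlock_of_isBlock := ?_ }
  intro B hB
  by_contra htriv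
  rw [MulAction.IsTrivialBlock, not_or] at htriv
  obtain ⟨hns, hnt⟩ := htriv
  rw [Set.not_subsingleton_iff] at hns
  obtain ⟨ω₁, hω₁, ω₂, hω₂, hω₁₂⟩ := hns
  obtain ⟨ω₃, hω₃⟩ : ∃ ω₃, ω₃ ∉ B := by
    by_contra hcon
    push Not at hcon
    exact hnt (Set.eq_univ_of_forall hcon)
  have hneα : ∀ ω : ↥(SubMulAction.ofStabilizer G α), (ω : Ω) ≠ α := fun ω =>
    (SubMulAction.mem_ofStabilizer_iff (G := G) (a := α)).mp ω.2
  set B' : Set (ZMod p) := {z | ∃ ω : ↥(SubMulAction.ofStabilizer G α), ω ∈ B ∧ e (ω : Ω) = z}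
    with hB'
  refine Cfsg.Agent.Lib.Helper60_TwoPrim.block_false G' hτ hnaff hA hp34 hp7
    (a₀ := e α) (y₀ := e (ω₁ : Ω)) (w₀ := e (ω₂ : Ω)) (v₀ := e (ω₃ : Ω)) (B := B')
    ?_ ?_ ⟨ω₁, hω₁, rfl⟩ ⟨ω₂, hω₂, rfl⟩ ?_ ?_ ?_
  · -- the block property
    rintro g' ⟨g, rfl⟩ hgα x ⟨ξ, hξ, rfl⟩ ⟨ξ', hξ', hξe⟩ y ⟨η, hη, rfl⟩
    rw [hΦapp] at hgα hξe ⊢
    have hgs : g ∈ MulAction.stabilizer G α := e.injective hgα
    let γ : ↥(MulAction.stabilizer G α) := ⟨g, hgs⟩
    have h1 : γ • ξ = ξ' := by
      apply Subtype.ext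
      exact (e.injective hξe).symm
    have h2 : γ • B = B := by
      rw [MulAction.isBlock_iff_smul_eq_of_mem] at hB
      exact hB hξ (h1 ▸ hξ')
    refine ⟨γ • η, ?_, rfl⟩
    rw [← h2]
    exact Set.smul_mem_smul_set hη
  · rintro ⟨ω, _, hω⟩
    exact hneα ω (e.injective hω)
  · exact fun h => hω₁₂ (Subtype.ext (e.injective h))
  · rintro ⟨ω, hω, hωe⟩
    have : ω = ω₃ := Subtype.ext (e.injective hωe)
    exact hω₃ (this ▸ hω)
  · exact fun h => hneα ω₃ (e.injective h)

end Cfsg.Agent.S3612
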