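import Cfsg.Statements.S3619

set_option autoImplicit false
open Cfsg

namespace Cfsg.Agent.S3619

open MulAction SubMulAction Subgroup
open scoped Pointwise

/-- A quasiprimitive group with a primitive Jordan set is primitive. -/
theorem isPreprimitive_of_quasi {G Ω : Type*} [Group G] [MulAction G Ω]
    (hqp : ∀ N : Subgroup G, N.Normal → N ≠ ⊥ → MulAction.IsPretransitive ↥N Ω)
    (Γ : Set Ω) (hΓ1 : Γ.Nontrivial)
    (hJp : MulAction.IsPreprimitive ↥(fixingSubgroup G Γᶜ) ↥(SubMulAction.ofFixingSubgroup G Γᶜ)) :
    MulAction.IsPreprimitive G Ω := by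
  have hJ : MulAction.IsPretransitive ↥(fixingSubgroup G Γᶜ) ↥(SubMulAction.ofFixingSubgroup G Γᶜ) :=
    hJp.toIsPretransitive
  -- the Jordan group is non-trivial
  have hH : fixingSubgroup G Γᶜ ≠ ⊥ := by
    obtain ⟨a, ha, b, hb, hab⟩ := hΓ1
    have ha' : a ∈ SubMulAction.ofFixingSubgroup G Γᶜ := by
      rw [SubMulAction.mem_ofFixingSubgroup_iff]; simpa using ha
    have hb' : b ∈ SubMulAction.ofFixingSubgroup G Γᶜ := by
      rw [SubMulAction.mem_ofFixingSubgroup_iff]; simpa using hb
    obtain ⟨h, hh⟩ := hJ.exists_smul_eq ⟨a, ha'⟩ ⟨b, hb'⟩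
    intro hbot
    have h1 : h = 1 := by
      have : (h : G) ∈ (⊥ : Subgroup G) := hbot ▸ h.2
      exact Subtype.ext (by simpa using this)
    apply hab
    have := congrArg Subtype.val hh
    simpa [h1] using this
  have htop : (⊤ : Subgroup G) ≠ ⊥ := by
    intro h
    apply hH
    rw [eq_bot_iff, ← h]
    exact le_top
  have hGt : MulAction.IsPretransitive G Ω := by
    have := hqp ⊤ inferInstance htop
    constructor
    intro x y
    obtain ⟨g, hg⟩ := this.exists_smul_eq x y
    exact ⟨g.1, hg⟩
  refine { toIsPretransitive := hGt, isTrivialBlock_of_isBlock := ?_ }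
  intro B hB
  by_contra hBt
  have hBns : ¬ B.Subsingleton := fun h => hBt (Or.inl h)
  have hBne : B ≠ Set.univ := fun h => hBt (Or.inr h)
  -- every translate of `B` is stabilized by the Jordan group
  have key : ∀ g : G, fixingSubgroup G Γᶜ ≤ stabilizer G (g • B) := by
    intro g h hh
    have hgB : IsBlock G (g • B) := hB.translate g
    rw [mem_stabilizer_iff]
    by_cases hsub : g • B ⊆ Γ
    · -- the translate is contained in `Γ`: it is a block of the Jordan group there
      have hblk : IsBlock (fixingSubgroup G Γᶜ)
          (Subtype.val ⁻¹' (g • B) : Set (SubMulAction.ofFixingSubgroup G Γᶜ)) :=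
        (hgB.subgroup).subtype_val_preimage
      rcases hJp.isTrivialBlock_of_isBlock hblk with hss | huniv
      · exfalso
        apply hBns
        intro x hx y hy
        have hx' : g • x ∈ g • B := Set.smul_mem_smul_set hx
        have hy' : g • y ∈ g • B := Set.smul_mem_smul_set hy
        have hxm : g • x ∈ SubMulAction.ofFixingSubgroup G Γᶜ := by
          rw [SubMulAction.mem_ofFixingSubgroup_iff]; simpa using hsub hx'
        have hym : g • y ∈ SubMulAction.ofFixingSubgroup G Γᶜ := by
          rw [SubMulAction.mem_ofFixingSubgroup_iff]; simpa using hsub hy'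
        have := @hss ⟨g • x, hxm⟩ hx' ⟨g • y, hym⟩ hy'
        have := congrArg Subtype.val this
        exact MulAction.injective g this
      · -- the translate is all of `Γ`
        have hΓeq : g • B = Γ := by
          apply Set.Subset.antisymm hsub
          intro x hx
          have hxm : x ∈ SubMulAction.ofFixingSubgroup G Γᶜ := by
            rw [SubMulAction.mem_ofFixingSubgroup_iff]; simpa using hx
          have : (⟨x, hxm⟩ : SubMulAction.ofFixingSubgroup G Γᶜ) ∈
              (Subtype.val ⁻¹' (g • B) : Set (SubMulAction.ofFixingSubgroup G Γᶜ)) := by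
            rw [huniv]; trivial
          exact this
        rw [hΓeq]
        -- `h` fixes the complement of `Γ` pointwise, hence stabilizes `Γ`
        have hfix : ∀ x ∈ Γᶜ, h • x = x := by
          intro x hx
          exact (mem_fixingSubgroup_iff G).mp hh x hx
        have hfix' : ∀ x ∈ Γᶜ, h⁻¹ • x = x := by
          intro x hx
          rw [inv_smul_eq_iff, hfix x hx]
        ext x
        constructor
        · rintro ⟨y, hy, rfl⟩
          change h • y ∈ Γ
          by_contra hcon
          have : h⁻¹ • (h • y) = h • y := hfix' _ hcon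
          rw [inv_smul_smul] at this
          exact hcon (this ▸ hy)
        · intro hx
          refine ⟨h⁻¹ • x, ?_, by simp⟩
          by_contra hcon
          have : h • (h⁻¹ • x) = h⁻¹ • x := hfix _ hcon
          rw [smul_inv_smul] at this
          exact hcon (this ▸ hx)
    · -- the translate contains a point outside `Γ`, which `h` fixes
      obtain ⟨x, hx, hxΓ⟩ := Set.not_subset.mp hsub
      have hfx : h • x = x := (mem_fixingSubgroup_iff G).mp hh x hxΓ
      rcases hgB.smul_eq_or_disjoint h with heq | hdisj
      · exact heq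
      · exfalso
        have h1 : x ∈ h • g • B := by
          rw [← hfx]; exact Set.smul_mem_smul_set hx
        exact Set.disjoint_left.mp hdisj h1 hx
  -- so the Jordan group lies in the normal core of the stabilizer of `B`
  have hle : fixingSubgroup G Γᶜ ≤ (stabilizer G B).normalCore := by
    intro h hh b
    have := key b⁻¹ hh
    rw [mem_stabilizer_iff] at this ⊢
    rw [mul_smul, mul_smul, this, smul_inv_smul]
  have hNne : (stabilizer G B).normalCore ≠ ⊥ := by
    intro h
    apply hH
    rw [eq_bot_iff, ← h]
    exact hle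
  have hNt := hqp _ inferInstance hNne
  apply hBne
  obtain ⟨b, hb⟩ : B.Nonempty := by
    by_contra h
    rw [Set.not_nonempty_iff_eq_empty] at h
    exact hBns (h ▸ Set.subsingleton_empty)
  ext ω
  simp only [Set.mem_univ, iff_true]
  obtain ⟨n, hn⟩ := hNt.exists_smul_eq b ω
  have hnB : (n : G) • B = B := mem_stabilizer_iff.mp ((stabilizer G B).normalCore_le n.2)
  rw [← hnB, ← hn]
  exact Set.smul_mem_smul_set hb

/-- Let G act faithfully on a finite set in such a way that every non-trivial normal subgroup of G is transitive (G is quasiprimitive). Let Γ be a subset with more than one point and not the whole set, such that the pointwise stabilizer of the complement of Γ acts transitively on Γ (a Jordan set). If that pointwise stabilizer acts primitively on Γ, then G is k-fold transitive where k is one more than the number of points outside Γ (the Jordan set is a trivial one). -/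
theorem result {G Ω : Type*} [Group G] [Finite G] [MulAction G Ω] [FaithfulSMul G Ω] [Finite Ω]
    (hqp : ∀ N : Subgroup G, N.Normal → N ≠ ⊥ → MulAction.IsPretransitive ↥N Ω)
    (Γ : Set Ω) (hΓ1 : 1 < Γ.ncard) (hΓ2 : Γ.ncard < Nat.card Ω)
    (hJ : MulAction.IsPretransitive ↥(fixingSubgroup G Γᶜ) ↥(SubMulAction.ofFixingSubgroup G Γᶜ))
    (hJp : MulAction.IsPreprimitive ↥(fixingSubgroup G Γᶜ) ↥(SubMulAction.ofFixingSubgroup G Γᶜ)) :
    MulAction.IsMultiplyPretransitive G Ω (Nat.card Ω - Γ.ncard + 1) := by
  have hΓnt : Γ.Nontrivial := by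
    have := Γ.toFinite
    exact Set.one_lt_ncard_iff_nontrivial.mp hΓ1
  have hG : MulAction.IsPreprimitive G Ω := isPreprimitive_of_quasi hqp Γ hΓnt hJp
  have hcompl : Γ.ncard + Γᶜ.ncard = Nat.card Ω := Set.ncard_add_ncard_compl Γ
  have hsn : Γᶜ.ncard = (Nat.card Ω - Γ.ncard - 1) + 1 := by omega
  have hsn' : (Nat.card Ω - Γ.ncard - 1) + 2 < Nat.card Ω := by omega
  have h := hG.isMultiplyPreprimitive hsn hsn' hJp
  have h2 : Nat.card Ω - Γ.ncard + 1 = (Nat.card Ω - Γ.ncard - 1) + 2 := by omega
  rw [h2]
  exact MulAction.IsMultiplyPreprimitive.isMultiplyPretransitive G Ω _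

end Cfsg.Agent.S3619
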