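import Mathlib
import Cfsg.Statements.S3627
import Cfsg.Agent.Lib.Helper90_J1Spec
import Cfsg.Agent.Lib.Helper90_Spectrum

set_option autoImplicit false
open Cfsg

namespace Cfsg.Agent.S3627

open Cfsg.Agent.Lib.Helper90_Spectrum Cfsg.Agent.Lib.Helper90_J1Spec

/-- The element orders of `J₁ × J₁ × J₁ × J₁` and of
`Dih(C₃^k) × D₁₀ × D₁₄ × D₂₂ × D₃₈`: the 63 proper divisors of `43890`. -/
theorem spectra_eq :
    Finset.image₂ Nat.lcm ({1, 2, 3} : Finset ℕ) (Finset.image₂ Nat.lcm ({1, 2, 5} : Finset ℕ)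
      (Finset.image₂ Nat.lcm ({1, 2, 7} : Finset ℕ)
        (Finset.image₂ Nat.lcm ({1, 2, 11} : Finset ℕ) ({1, 2, 19} : Finset ℕ)))) =
    Finset.image₂ Nat.lcm S10 (Finset.image₂ Nat.lcm S10 (Finset.image₂ Nat.lcm S10 S10)) := by
  decide +kernel

/-- Let J be the first Janko group. Then there are finite groups of arbitrarily large order with exactly the same set of element orders as J × J × J × J. -/
theorem result (N : ℕ) : ∃ (H : Type) (_ : Group H) (_ : Fintype H), N < Fintype.card H ∧
      Set.range (orderOf : H → ℕ) = Set.range (orderOf : ↥Cfsg.Spor.J1 × ↥Cfsg.Spor.J1 × ↥Cfsg.Spor.J1 × ↥Cfsg.Spor.J1 → ℕ) := by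
  refine ⟨↥(GenDih3 (N + 1)) × DihedralGroup 5 × DihedralGroup 7 × DihedralGroup 11 ×
    DihedralGroup 19, inferInstance, Fintype.ofFinite _, ?_, ?_⟩
  · rw [Fintype.card_eq_nat_card, Nat.card_prod]
    have h1 := le_card_genDih3 (N + 1)
    have h2 : 0 < Nat.card (DihedralGroup 5 × DihedralGroup 7 × DihedralGroup 11 ×
      DihedralGroup 19) := Nat.card_pos
    calc N < N + 1 := Nat.lt_succ_self N
      _ ≤ Nat.card ↥(GenDih3 (N + 1)) := h1
      _ ≤ _ := Nat.le_mul_of_pos_right _ h2
  · have hJ := range_orderOf_J1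
    rw [range_orderOf_prod hJ (range_orderOf_prod hJ (range_orderOf_prod hJ hJ)),
      range_orderOf_prod (range_orderOf_genDih3 N)
        (range_orderOf_prod (range_orderOf_dihedral (by norm_num : Nat.Prime 5))
          (range_orderOf_prod (range_orderOf_dihedral (by norm_num : Nat.Prime 7))
            (range_orderOf_prod (range_orderOf_dihedral (by norm_num : Nat.Prime 11))
              (range_orderOf_dihedral (by norm_num : Nat.Prime 19))))), spectra_eq]

end Cfsg.Agent.S3627
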