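import Cfsg.Statements.S3633
import Cfsg.Agent.Lib.Helper60_ThreePrimes

set_option autoImplicit false
open Cfsg

namespace Cfsg.Agent.S3633

open Cfsg.Agent.Lib.Helper60_ThreePrimes

/-- Let G be a finite group and ρ a set of at least three prime divisors of the order of G that are pairwise non-adjacent in the prime graph (no element of order rs for distinct r, s ∈ ρ). Then at most one prime of ρ divides the order of any given solvable normal subgroup of G; in particular G is not solvable. -/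
theorem result {G : Type*} [Group G] [Finite G] (ρ : Finset ℕ) (hρ : 3 ≤ ρ.card) (hc : ((∀ r ∈ ρ, r.Prime ∧ r ∣ Nat.card G) ∧ (∀ r ∈ ρ, ∀ s ∈ ρ, r ≠ s → ¬ ∃ x : G, orderOf x = r * s)))
    (K : Subgroup G) [K.Normal] (hK : Group.IsSolvable ↥K) :
    (∀ r ∈ ρ, ∀ s ∈ ρ, r ∣ Nat.card ↥K → s ∣ Nat.card ↥K → r = s) ∧ ¬ Group.IsSolvable G := by
  obtain ⟨hprime, hnonadj⟩ := hc
  -- no solvable subgroup has order divisible by three distinct primes of `ρ`
  have key : ∀ (S : Subgroup G), Group.IsSolvable S → ∀ a ∈ ρ, ∀ b ∈ ρ, ∀ c ∈ ρ,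
      a ≠ b → a ≠ c → b ≠ c → a ∣ Nat.card S → b ∣ Nat.card S → c ∣ Nat.card S → False := by
    intro S hS a ha b hb c hc hab hac hbc haS hbS hcS
    rcases exists_mixed_order_of_solvable (G := S) (hprime a ha).1 (hprime b hb).1 (hprime c hc).1
      hab hac hbc haS hbS hcS with ⟨z, hz⟩ | ⟨z, hz⟩ | ⟨z, hz⟩
    · exact hnonadj a ha b hb hab ⟨(z : G), by rw [Subgroup.orderOf_coe, hz]⟩
    · exact hnonadj a ha c hc hac ⟨(z : G), by rw [Subgroup.orderOf_coe, hz]⟩
    · exact hnonadj b hb c hc hbc ⟨(z : G), by rw [Subgroup.orderOf_coe, hz]⟩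
  constructor
  · intro r hr s hs hrK hsK
    by_contra hrs
    -- a third prime of `ρ`
    obtain ⟨t, ht, htr, hts⟩ : ∃ t ∈ ρ, t ≠ r ∧ t ≠ s := by
      have hs' : s ∈ ρ.erase r := Finset.mem_erase.mpr ⟨fun h => hrs h.symm, hs⟩
      have h1 : 0 < ((ρ.erase r).erase s).card := by
        rw [Finset.card_erase_of_mem hs', Finset.card_erase_of_mem hr]; omega
      obtain ⟨t, ht⟩ := Finset.card_pos.mp h1
      rw [Finset.mem_erase, Finset.mem_erase] at ht
      exact ⟨t, ht.2.2, ht.2.1, ht.1⟩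
    have : Fact t.Prime := ⟨(hprime t ht).1⟩
    obtain ⟨x, hx⟩ := exists_prime_orderOf_dvd_card' t (hprime t ht).2
    have hnorm : Subgroup.zpowers x ≤ Subgroup.normalizer K := by
      rw [Subgroup.normalizer_eq_top]; exact le_top
    have hsolv : Group.IsSolvable ↥(K ⊔ Subgroup.zpowers x) := isSolvable_sup K (Subgroup.zpowers x) hnorm
    apply key (K ⊔ Subgroup.zpowers x) hsolv r hr s hs t ht hrs (Ne.symm htr) (Ne.symm hts)
    · exact hrK.trans (Subgroup.card_dvd_of_le le_sup_left)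
    · exact hsK.trans (Subgroup.card_dvd_of_le le_sup_left)
    · have h1 : Nat.card (Subgroup.zpowers x) ∣ Nat.card ↥(K ⊔ Subgroup.zpowers x) :=
        Subgroup.card_dvd_of_le le_sup_right
      rwa [Nat.card_zpowers, hx] at h1
  · intro hG
    obtain ⟨a, b, c, ha, hb, hc, hab, hac, hbc⟩ := Finset.two_lt_card_iff.mp (by omega : 2 < ρ.card)
    have hcard : Nat.card (⊤ : Subgroup G) = Nat.card G := Subgroup.card_top
    apply key ⊤ inferInstance a ha b hb c hc hab hac hbc
    · rw [hcard]; exact (hprime a ha).2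
    · rw [hcard]; exact (hprime b hb).2
    · rw [hcard]; exact (hprime c hc).2

end Cfsg.Agent.S3633
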