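import Cfsg.Statements.S3634
import Cfsg.Agent.Lib.Helper60_ThreePrimes

set_option autoImplicit false
open Cfsg

namespace Cfsg.Agent.S3634

open Cfsg.Agent.Lib.Helper60_ThreePrimes
open Subgroup
open scoped Pointwise

/-- Let G be a finite group with normal subgroups K ≤ M, and let p, q, r be distinct primes with p dividing the order of K, q dividing the order of M/K and r dividing the order of G/M. Then p, q, r are not pairwise non-adjacent in the prime graph of G: G has an element of order pq, pr or qr. -/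
theorem result {G : Type*} [Group G] [Finite G] (K M : Subgroup G) [K.Normal] [M.Normal] (hKM : K ≤ M)
    (p q r : ℕ) (hp : p.Prime) (hq : q.Prime) (hr : r.Prime) (hpq : p ≠ q) (hpr : p ≠ r) (hqr : q ≠ r)
    (hpK : p ∣ Nat.card ↥K) (hqM : q ∣ Nat.card ↥M / Nat.card ↥K) (hrG : r ∣ Nat.card G / Nat.card ↥M) :
    (∃ x : G, orderOf x = p * q) ∨ (∃ x : G, orderOf x = p * r) ∨ (∃ x : G, orderOf x = q * r) := by
  have : Fact p.Prime := ⟨hp⟩
  -- Step 1: a Sylow `p`-subgroup of `K` and the Frattini argument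
  obtain ⟨P⟩ : Nonempty (Sylow p K) := inferInstance
  set P₀ : Subgroup G := (P : Subgroup K).map K.subtype with hP₀
  have hfr : normalizer (P₀ : Set G) ⊔ K = ⊤ := Sylow.normalizer_sup_eq_top P
  have hP₀p : IsPGroup p P₀ := P.isPGroup'.map K.subtype
  have hpP₀ : p ∣ Nat.card P₀ := by
    rw [hP₀, Subgroup.card_subtype]; exact P.dvd_card_of_dvd_card hpK
  set N₁ : Subgroup G := normalizer (P₀ : Set G) with hN₁
  -- arithmetic: the two quotient orders as relative indices
  have hqrel : q ∣ K.relIndex M := by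
    have h1 : (K.subgroupOf M).index * Nat.card (K.subgroupOf M) = Nat.card M :=
      Subgroup.index_mul_card _
    have h2 : Nat.card (K.subgroupOf M) = Nat.card K :=
      Nat.card_congr (Subgroup.subgroupOfEquivOfLe hKM).toEquiv
    rw [h2] at h1
    have h3 : Nat.card M / Nat.card K = K.relIndex M := by
      rw [Subgroup.relIndex]
      exact Nat.div_eq_of_eq_mul_left Nat.card_pos h1.symm
    rwa [h3] at hqM
  have hrind : r ∣ M.index := by
    have h1 : M.index * Nat.card M = Nat.card G := Subgroup.index_mul_card M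
    have h3 : Nat.card G / Nat.card M = M.index :=
      Nat.div_eq_of_eq_mul_left Nat.card_pos h1.symm
    rwa [h3] at hrG
  -- Dedekind: `(M ⊓ N₁) ⊔ K = M`
  have hded : (M ⊓ N₁) ⊔ K = M := by
    apply le_antisymm (sup_le inf_le_left hKM)
    intro m hm
    have hm' : m ∈ ((N₁ ⊔ K : Subgroup G) : Set G) := by rw [hfr]; trivial
    rw [Subgroup.mul_normal] at hm'
    obtain ⟨n, hn, k, hk, rfl⟩ := hm'
    have hnM : n ∈ M := by
      have : n = n * k * k⁻¹ := by group
      rw [this]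
      exact M.mul_mem hm (M.inv_mem (hKM hk))
    exact Subgroup.mul_mem_sup (Subgroup.mem_inf.mpr ⟨hnM, hn⟩) hk
  -- Step 2: inside `N₁`
  have hqM' : q ∣ Nat.card (M.subgroupOf N₁) := by
    have h1 : K.relIndex ((M ⊓ N₁) ⊔ K) = K.relIndex (M ⊓ N₁) := Subgroup.relIndex_sup_right _ _
    rw [hded] at h1
    have h2 : K.relIndex (M ⊓ N₁) ∣ Nat.card ↥(M ⊓ N₁) := Subgroup.relIndex_dvd_card _ _
    have h3 : Nat.card (M.subgroupOf N₁) = Nat.card ↥(M ⊓ N₁) := by
      rw [← Subgroup.inf_subgroupOf_right M N₁]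
      exact Nat.card_congr (Subgroup.subgroupOfEquivOfLe inf_le_right).toEquiv
    rw [h3]
    exact (h1 ▸ hqrel).trans h2
  have hrM' : r ∣ (M.subgroupOf N₁).index := by
    have h1 : M.relIndex (N₁ ⊔ M) = M.relIndex N₁ := Subgroup.relIndex_sup_right _ _
    have h2 : N₁ ⊔ M = ⊤ := by
      rw [eq_top_iff, ← hfr]
      exact sup_le_sup_left hKM _
    rw [h2, Subgroup.relIndex_top_right] at h1
    change r ∣ M.relIndex N₁
    rw [← h1]; exact hrind
  obtain ⟨Q, x, hQq, hqQ, hx, hxQ⟩ := exists_pgroup_normalized (M.subgroupOf N₁) hq hr hqM' hrM'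
  -- Step 3: the solvable subgroup `P' (Q ⟨x⟩)` of `N₁`
  set P' : Subgroup N₁ := P₀.subgroupOf N₁ with hP'
  have hP'n : P'.Normal := Subgroup.normal_in_normalizer
  have hP'p : IsPGroup p P' := hP₀p.comap_subtype
  have hpP' : p ∣ Nat.card P' := by
    have : Nat.card P' = Nat.card P₀ :=
      Nat.card_congr (Subgroup.subgroupOfEquivOfLe Subgroup.le_normalizer).toEquiv
    rw [this]; exact hpP₀
  have hsolQ : Group.IsSolvable Q := isSolvable_of_isPGroup hq hQq
  have hsolP : Group.IsSolvable P' := isSolvable_of_isPGroup hp hP'p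
  have hsolx : Group.IsSolvable (zpowers x) := inferInstance
  have hS1 : Group.IsSolvable ↥(Q ⊔ zpowers x) :=
    isSolvable_sup Q (zpowers x) (Subgroup.zpowers_le.mpr hxQ)
  have hS : Group.IsSolvable ↥(P' ⊔ (Q ⊔ zpowers x)) :=
    isSolvable_sup P' (Q ⊔ zpowers x) (by rw [Subgroup.normalizer_eq_top]; exact le_top)
  have hpS : p ∣ Nat.card ↥(P' ⊔ (Q ⊔ zpowers x)) :=
    hpP'.trans (Subgroup.card_dvd_of_le le_sup_left)
  have hqS : q ∣ Nat.card ↥(P' ⊔ (Q ⊔ zpowers x)) :=
    hqQ.trans (Subgroup.card_dvd_of_le (le_sup_left.trans le_sup_right))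
  have hrS : r ∣ Nat.card ↥(P' ⊔ (Q ⊔ zpowers x)) := by
    have h1 : Nat.card (zpowers x) ∣ Nat.card ↥(P' ⊔ (Q ⊔ zpowers x)) :=
      Subgroup.card_dvd_of_le (le_sup_right.trans le_sup_right)
    rwa [Nat.card_zpowers, hx] at h1
  rcases exists_mixed_order_of_solvable (G := ↥(P' ⊔ (Q ⊔ zpowers x))) hp hq hr hpq hpr hqr
    hpS hqS hrS with ⟨z, hz⟩ | ⟨z, hz⟩ | ⟨z, hz⟩
  · exact Or.inl ⟨((z : N₁) : G), by rw [Subgroup.orderOf_coe, Subgroup.orderOf_coe, hz]⟩
  · exact Or.inr (Or.inl ⟨((z : N₁) : G), by rw [Subgroup.orderOf_coe, Subgroup.orderOf_coe, hz]⟩)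
  · exact Or.inr (Or.inr ⟨((z : N₁) : G), by rw [Subgroup.orderOf_coe, Subgroup.orderOf_coe, hz]⟩)

end Cfsg.Agent.S3634
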