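import Cfsg.Statements.S3639
import Cfsg.Agent.Lib.Helper6_SzAff
import Cfsg.Agent.Lib.Helper61_SL2
import Cfsg.Agent.Lib.Helper37_SzBridge

set_option autoImplicit false
open Cfsg

namespace Cfsg.Agent.S3639

/-- Let S be the Suzuki group over the field with q = 2^(2m+1) ≥ 8 elements. Then there are finite groups of arbitrarily large order with the same prime graph as S. -/
theorem result {F : Type*} [Field F] [Fintype F] {m : ℕ} (hm : 1 ≤ m) (hF : Fintype.card F = 2 ^ (2 * m + 1)) (N : ℕ) :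
    ∃ (H : Type) (_ : Group H) (_ : Fintype H), N < Fintype.card H ∧ ((∀ r : ℕ, r.Prime → (r ∣ Nat.card ↥(Cfsg.Lie.Sz F (2 ^ (m + 1))) ↔ r ∣ Nat.card H)) ∧
      (∀ r s : ℕ, r.Prime → s.Prime → r ≠ s → ((∃ x : ↥(Cfsg.Lie.Sz F (2 ^ (m + 1))), orderOf x = r * s) ↔ (∃ y : H, orderOf y = r * s)))) := by
  classical
  open Cfsg.Agent.Lib.Helper61_SL2 Cfsg.Agent.Lib.Helper6_SzAff in
  have h1 : SamePrimeGraph (↥(Cfsg.Lie.Sz F (2 ^ (m + 1)))) (Cfsg.Sz F m) :=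
    SamePrimeGraph.symm (SamePrimeGraph.of_mulEquiv (Cfsg.Agent.Helper37Sz.lieSzEquiv hm hF))
  have h2 : Cfsg.Agent.Lib.Helper61_SL2.SamePrimeGraph (Cfsg.Sz F m)
      (Cfsg.Agent.Lib.Helper6_SzAff.Aff4 F m (N + 1)) :=
    Cfsg.Agent.Lib.Helper6_SzAff.samePrimeGraph_aff4 hm hF (N + 1)
  obtain ⟨H, hG, hfin, ⟨e⟩⟩ :=
    Cfsg.Agent.Lib.Helper61_SL2.exists_small_copy (Cfsg.Agent.Lib.Helper6_SzAff.Aff4 F m (N + 1))
  have h3 : Cfsg.Agent.Lib.Helper61_SL2.SamePrimeGraph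
      (Cfsg.Agent.Lib.Helper6_SzAff.Aff4 F m (N + 1)) H :=
    Cfsg.Agent.Lib.Helper61_SL2.SamePrimeGraph.symm
      (Cfsg.Agent.Lib.Helper61_SL2.SamePrimeGraph.of_mulEquiv e)
  have h4 := Cfsg.Agent.Lib.Helper61_SL2.SamePrimeGraph.trans h1
    (Cfsg.Agent.Lib.Helper61_SL2.SamePrimeGraph.trans h2 h3)
  letI hft : Fintype H := Fintype.ofFinite H
  refine ⟨H, hG, hft, ?_, h4⟩
  rw [← Nat.card_eq_fintype_card, Nat.card_congr e.toEquiv]
  refine lt_of_lt_of_le ?_ (Cfsg.Agent.Lib.Helper6_SzAff.Aff4.card_ge (F := F) (m := m) (k := N + 1))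
  have hF2 : 2 ≤ Nat.card F := by
    rw [Nat.card_eq_fintype_card, hF]
    calc 2 = 2 ^ 1 := by norm_num
      _ ≤ 2 ^ (2 * m + 1) := Nat.pow_le_pow_right (by norm_num) (by omega)
  calc N < 2 ^ N := Nat.lt_two_pow_self
    _ ≤ 2 ^ (4 * (N + 1)) := Nat.pow_le_pow_right (by norm_num) (by omega)
    _ ≤ Nat.card F ^ (4 * (N + 1)) := Nat.pow_le_pow_left hF2 _

end Cfsg.Agent.S3639
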