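import Cfsg.Statements.S3660
import Cfsg.Agent.Lib.Helper61_SL2

set_option autoImplicit false
open Cfsg

namespace Cfsg.Agent.S3660

open Cfsg.Agent.Lib.Helper61_SL2

/-- The prime graph of a finite group has the prime divisors of its order as vertices, two distinct primes p, q being joined when the group has an element of order pq; two groups have the same prime graph when they have the same prime divisors and the same joined pairs. Let F be a finite field of characteristic 2 with at least 4 elements. Then there are finite groups of arbitrarily large order with the same prime graph as PSL(2,F); in particular PSL(2,F) is not determined by its prime graph. -/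
theorem result {F : Type*} [Field F] [Fintype F] [CharP F 2] (hF : 4 ≤ Fintype.card F) (N : ℕ) :
    ∃ (H : Type) (_ : Group H) (_ : Finite H), N < Nat.card H ∧
      ((∀ p : ℕ, p.Prime → (p ∣ Nat.card (Matrix.ProjectiveSpecialLinearGroup (Fin 2) F) ↔ p ∣ Nat.card H)) ∧
      (∀ p q : ℕ, p.Prime → q.Prime → p ≠ q → ((∃ g : (Matrix.ProjectiveSpecialLinearGroup (Fin 2) F), orderOf g = p * q) ↔ (∃ g : H, orderOf g = p * q)))) := by
  obtain ⟨H, hG, hFin, ⟨e⟩⟩ := exists_small_copy (Aff F N)
  refine ⟨H, hG, hFin, ?_, ?_⟩
  · rw [Nat.card_congr e.toEquiv]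
    have h1 := Aff.card_ge (F := F) (k := N)
    have h2 : N < Nat.card F ^ (2 * N) := by
      have h4 : 2 ≤ Nat.card F := by
        rw [Nat.card_eq_fintype_card]; omega
      calc N < 2 ^ N := Nat.lt_two_pow_self
        _ ≤ 2 ^ (2 * N) := Nat.pow_le_pow_right (by norm_num) (by omega)
        _ ≤ Nat.card F ^ (2 * N) := Nat.pow_le_pow_left h4 _
    omega
  · exact ((SamePrimeGraph.of_mulEquiv pslEquivSl).trans (samePrimeGraph_aff N)).trans
      (SamePrimeGraph.of_mulEquiv e.symm)

end Cfsg.Agent.S3660
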