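import Cfsg.Statements.S3662
import Cfsg.Agent.Lib.Helper34_PGraphSplit
import Cfsg.Agent.Lib.Helper34_G24Rep
import Cfsg.Agent.Lib.Helper18_ChevBasic
import Cfsg.Agent.Lib.helper19_G24

set_option autoImplicit false
open Cfsg

namespace Cfsg.Agent.S3662

open Cfsg.Lie
open Cfsg.Agent.Lib.Helper61_SL2 (SamePrimeGraph)
open Cfsg.Agent.Lib.helper19_G24M (F4 fintypeF4 card_F4)
open Cfsg.Agent.Lib.helper19_G24H (K1pres)
open Cfsg.Agent.Lib.helper19_G24 (k1_iso k1_card k1_finite)
open Cfsg.Agent.Lib.Helper34_PGraphSplit Cfsg.Agent.Lib.Helper34_G24Rep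

/-! ### change of the field (after `helper19_G24Z`) -/

/-- the isomorphism of general linear groups of an isomorphism of rings -/
def glEquiv' {n : Type*} [Fintype n] [DecidableEq n] {F K : Type*} [CommRing F] [CommRing K]
    (σ : F ≃+* K) : GL n F ≃* GL n K := Units.mapEquiv (RingEquiv.mapMatrix σ).toMulEquiv

theorem glEquiv'_coe {n : Type*} [Fintype n] [DecidableEq n] {F K : Type*} [CommRing F]
    [CommRing K] (σ : F ≃+* K) (g : GL n F) :
    ((glEquiv' σ g : GL n K) : Matrix n n K) = (g : Matrix n n F).map σ := rfl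

theorem glEquiv'_symm_coe {n : Type*} [Fintype n] [DecidableEq n] {F K : Type*} [CommRing F]
    [CommRing K] (σ : F ≃+* K) (g : GL n K) :
    (((glEquiv' σ).symm g : GL n F) : Matrix n n F) = (g : Matrix n n K).map σ.symm := rfl

theorem group_map_eq' (D : ChevalleyDatum) {F K : Type*} [Field F] [Field K] (σ : F ≃+* K) :
    (D.group F).map (glEquiv' σ).toMonoidHom = D.group K := by
  unfold ChevalleyDatum.group
  rw [MonoidHom.map_closure]
  congr 1
  ext g
  constructor
  · rintro ⟨g0, ⟨r, t, h⟩, rfl⟩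
    refine ⟨r, σ t, ?_⟩
    show ((glEquiv' σ g0 : GL D.Idx K) : Matrix D.Idx D.Idx K) = _
    rw [glEquiv'_coe, h]
    exact Cfsg.Agent.Lib.Helper18_ChevBasic.xMat_map D σ.toRingHom r t
  · rintro ⟨r, t, h⟩
    refine ⟨(glEquiv' σ).symm g, ⟨r, σ.symm t, ?_⟩, ?_⟩
    · rw [glEquiv'_symm_coe, h]
      exact Cfsg.Agent.Lib.Helper18_ChevBasic.xMat_map D σ.symm.toRingHom r t
    · exact (glEquiv' σ).apply_symm_apply g

/-- the Chevalley groups over isomorphic fields are isomorphic -/
theorem group_equiv' (D : ChevalleyDatum) {F K : Type*} [Field F] [Field K] (σ : F ≃+* K) :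
    Nonempty (D.group F ≃* D.group K) :=
  ⟨((glEquiv' σ).subgroupMap (D.group F)).trans (MulEquiv.subgroupCongr (group_map_eq' D σ))⟩

theorem exists_equiv_K1 {F : Type*} [Field F] [Fintype F] (hF : Fintype.card F = 4) :
    Nonempty (chevG2.group F ≃* K1pres) := by
  have σ : F ≃+* F4 :=
    @FiniteField.ringEquivOfCardEq F F4 _ _ _ fintypeF4 (hF.trans card_F4.symm)
  obtain ⟨e1⟩ := group_equiv' chevG2 σ
  obtain ⟨e2⟩ := k1_iso
  exact ⟨e1.trans e2.symm⟩

/-! ### the prime graph -/

theorem prime_dvd_card {q : ℕ} (hq : q.Prime) (h : q ∣ 251596800) :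
    q = 2 ∨ q = 3 ∨ q = 5 ∨ q = 7 ∨ q = 13 := by
  have h1 : (251596800 : ℕ) = 2 ^ 12 * 3 ^ 3 * 5 ^ 2 * 7 * 13 := by norm_num
  rw [h1] at h
  rcases (Nat.Prime.dvd_mul hq).1 h with h | h
  · rcases (Nat.Prime.dvd_mul hq).1 h with h | h
    · rcases (Nat.Prime.dvd_mul hq).1 h with h | h
      · rcases (Nat.Prime.dvd_mul hq).1 h with h | h
        · exact Or.inl ((Nat.prime_dvd_prime_iff_eq hq Nat.prime_two).1 (hq.dvd_of_dvd_pow h))
        · exact Or.inr (Or.inl ((Nat.prime_dvd_prime_iff_eq hq Nat.prime_three).1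
            (hq.dvd_of_dvd_pow h)))
      · exact Or.inr (Or.inr (Or.inl ((Nat.prime_dvd_prime_iff_eq hq Nat.prime_five).1
          (hq.dvd_of_dvd_pow h))))
    · exact Or.inr (Or.inr (Or.inr (Or.inl ((Nat.prime_dvd_prime_iff_eq hq (by norm_num)).1 h))))
  · exact Or.inr (Or.inr (Or.inr (Or.inr ((Nat.prime_dvd_prime_iff_eq hq (by norm_num)).1 h))))

theorem exists_big_K1 (N : ℕ) :
    ∃ (H : Type) (_ : Group H) (_ : Finite H), N < Nat.card H ∧ SamePrimeGraph K1pres H := by
  have hfin : Finite K1pres := k1_finite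
  refine exists_big_samePrimeGraph exists_ne_zero_V6 2 Nat.prime_two two_nsmul_V6
    (by rw [k1_card]; norm_num) ?_ N
  intro q hq hq2
  by_cases h3 : q = 3
  · subst h3
    exact Or.inl (exists_orderOf_eq_of_dvd (wordOf w6) (2 * 3) six_dvd)
  by_cases h5 : q = 5
  · subst h5
    exact Or.inl (exists_orderOf_eq_of_dvd (wordOf w10) (2 * 5) ten_dvd)
  right
  by_cases h7 : q = 7
  · subst h7
    exact fpf_of_sylow exists_ne_zero_V6 7 (by norm_num) (by rw [k1_card]; norm_num) (wordOf w7)
      pow_w7 fpf_w7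
  by_cases h13 : q = 13
  · subst h13
    exact fpf_of_sylow exists_ne_zero_V6 13 (by norm_num) (by rw [k1_card]; norm_num)
      (wordOf w13) pow_w13 fpf_w13
  intro s hs
  exfalso
  have hdvd : q ∣ Nat.card K1pres := by rw [← hs]; exact orderOf_dvd_natCard s
  rw [k1_card] at hdvd
  rcases prime_dvd_card hq hdvd with h | h | h | h | h
  · exact hq2 h
  · exact h3 h
  · exact h5 h
  · exact h7 h
  · exact h13 h

/-- The prime graph of a finite group has the prime divisors of its order as vertices, two distinct primes p, q being joined when the group has an element of order pq; two groups have the same prime graph when they have the same prime divisors and the same joined pairs. Let F be the field with 4 elements and L the Chevalley group of type G₂ over F. There are finite groups of arbitrarily large order with the same prime graph as L. -/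
theorem result {F : Type*} [Field F] [Fintype F] (hF : Fintype.card F = 4) (N : ℕ) :
    ∃ (H : Type) (_ : Group H) (_ : Finite H), N < Nat.card H ∧
      ((∀ p : ℕ, p.Prime → (p ∣ Nat.card ↥(Cfsg.Lie.chevG2.group F) ↔ p ∣ Nat.card H)) ∧
      (∀ p q : ℕ, p.Prime → q.Prime → p ≠ q → ((∃ g : ↥(Cfsg.Lie.chevG2.group F), orderOf g = p * q) ↔ (∃ g : H, orderOf g = p * q)))) := by
  obtain ⟨e⟩ := exists_equiv_K1 hF
  obtain ⟨H, hG, hfin, hN, hS⟩ := exists_big_K1 N
  exact ⟨H, hG, hfin, hN, (SamePrimeGraph.of_mulEquiv e).trans hS⟩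

end Cfsg.Agent.S3662
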