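import Cfsg.Statements.S3663
import Cfsg.Agent.Lib.Helper34_PG_Defs
import Cfsg.Agent.Lib.Helper61_SL2
import Cfsg.Agent.Lib.Helper34_PG_ORB
import Cfsg.Agent.Lib.Helper58_PG_NONTRIV
import Cfsg.Agent.Lib.Helper70_PG_GEN
import Cfsg.Agent.Lib.Helper70_PG_POW
import Cfsg.Agent.Lib.Helper70_PG_FIXaux
import Cfsg.Agent.Lib.Helper7_PG_BIG
import Cfsg.Agent.Lib.Helper7_PG_KER
import Cfsg.Agent.Lib.Helper7_PG_SUBGRP
import Cfsg.Agent.Lib.Helper84_PG_CARD
import Cfsg.Agent.Lib.Helper84_PG_ELTS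
import Cfsg.Agent.Lib.Helper89_PG_SYL
import Cfsg.Agent.Lib.Helper95_PG_STAB
import Cfsg.Agent.Lib.Helper95_PG_VSUB

set_option autoImplicit false
open Cfsg

namespace Cfsg.Agent.S3663

open Cfsg.Agent.Lib.Helper34_PG_F16 Cfsg.Agent.Lib.Helper34_PG_Defs
open Cfsg.Agent.Lib.Helper61_SL2 (SamePrimeGraph)
open Cfsg.Agent.Lib.Helper70_PG_GEN (samePrimeGraph_of_split_p)
open Cfsg.Agent.Lib.Helper84_PG_CARD (card_G16 exists_equiv)
open Cfsg.Agent.Lib.Helper84_PG_ELTS (orderOf_g13 orderOf_g10 orderOf_g15)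
open Cfsg.Agent.Lib.Helper89_PG_SYL (conj_of_sylow)
open Cfsg.Agent.Lib.Helper95_PG_STAB (smul_mem_Wset)
open Cfsg.Agent.Lib.Helper7_PG_SUBGRP (one_mem_Sset mul_mem_Sset inv_mem_Sset inr_mem_Sset)
open Cfsg.Agent.Lib.Helper34_PG_ORB (const_of_fixed_g13)
open Cfsg.Agent.Lib.Helper58_PG_NONTRIV (exists_ne_zero_Vset)
open Cfsg.Agent.Lib.Helper70_PG_POW (pow_eq_one_of_fpf)
open Cfsg.Agent.Lib.Helper7_PG_KER (pow_five_of_right_eq_one)
open Cfsg.Agent.Lib.Helper7_PG_BIG (five_pow_le_ncard)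

/-- elements of order `13` are fixed-point-free on `Vset` (package FIX, from the `aux` form of
helper70) -/
theorem fpf_Vset (g : G16) (hg : orderOf g = 13) (F : M2) (hF : F ∈ Vset) (hfix : g • F = F) :
    F = 0 := by
  have : Finite G16 := Nat.finite_of_card_ne_zero (by rw [card_G16]; norm_num)
  refine Cfsg.Agent.Lib.Helper70_PG_FIXaux.fpf_Vset_aux const_of_fixed_g13 ?_ smul_mem_Wset
    orderOf_g13 g hg F hF hfix
  intro a b ha hb
  exact conj_of_sylow 13 (by norm_num) (by rw [card_G16]; norm_num) a b ha hb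

/-- the subgroup `V^k ⋊ SU₃(4)` of `Hbig k` -/
def Ksub (k : ℕ) : Subgroup (Hbig k) where
  carrier := Sset k
  mul_mem' := mul_mem_Sset k
  one_mem' := one_mem_Sset k
  inv_mem' := inv_mem_Sset k

theorem prime_dvd_62400 {q : ℕ} (hq : q.Prime) (h : q ∣ 62400) : q = 2 ∨ q = 3 ∨ q = 5 ∨ q = 13 := by
  have h1 : (62400 : ℕ) = 2 ^ 6 * 3 * 5 ^ 2 * 13 := by norm_num
  rw [h1] at h
  rcases (Nat.Prime.dvd_mul hq).1 h with h | h
  · rcases (Nat.Prime.dvd_mul hq).1 h with h | h
    · rcases (Nat.Prime.dvd_mul hq).1 h with h | h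
      · exact Or.inl ((Nat.prime_dvd_prime_iff_eq hq Nat.prime_two).1 (hq.dvd_of_dvd_pow h))
      · exact Or.inr (Or.inl ((Nat.prime_dvd_prime_iff_eq hq Nat.prime_three).1 h))
    · exact Or.inr (Or.inr (Or.inl ((Nat.prime_dvd_prime_iff_eq hq Nat.prime_five).1
        (hq.dvd_of_dvd_pow h))))
  · exact Or.inr (Or.inr (Or.inr ((Nat.prime_dvd_prime_iff_eq hq (by norm_num)).1 h)))

theorem samePrimeGraph_Ksub (k : ℕ) : SamePrimeGraph G16 (Ksub k) := by
  classical
  have : Finite G16 := Nat.finite_of_card_ne_zero (by rw [card_G16]; norm_num)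
  let π : Ksub k →* G16 := (SemidirectProduct.rightHom).comp (Ksub k).subtype
  let ι : G16 →* Ksub k := (SemidirectProduct.inr).codRestrict (Ksub k) (inr_mem_Sset k)
  refine samePrimeGraph_of_split_p 5 (by norm_num) π ι (fun s => rfl) ?_ ?_ ?_
  · intro h h1
    apply Subtype.ext
    rw [Subgroup.coe_pow, Subgroup.coe_one]
    exact pow_five_of_right_eq_one k h.1 h1
  · rw [card_G16]; norm_num
  · intro q hq hq5
    by_cases h2 : q = 2
    · subst h2; exact Or.inl ⟨g10, orderOf_g10⟩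
    by_cases h3 : q = 3
    · subst h3; exact Or.inl ⟨g15, orderOf_g15⟩
    right
    intro h hh
    have hdvd : q ∣ Nat.card G16 := by rw [← hh]; exact orderOf_dvd_natCard _
    rw [card_G16] at hdvd
    have hq13 : q = 13 := by
      rcases prime_dvd_62400 hq hdvd with h' | h' | h' | h'
      · exact absurd h' h2
      · exact absurd h' h3
      · exact absurd h' hq5
      · exact h'
    subst hq13
    apply Subtype.ext
    rw [Subgroup.coe_pow, Subgroup.coe_one]
    exact pow_eq_one_of_fpf k h.1 h.2 13 hh (fun F hF hfix => fpf_Vset _ hh F hF hfix)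

/-- The prime graph of a finite group has the prime divisors of its order as vertices, two distinct primes p, q being joined when the group has an element of order pq; two groups have the same prime graph when they have the same prime divisors and the same joined pairs. Let F be the field with 16 elements and L = PSU(3,4) realised over F. There are finite groups of arbitrarily large order with the same prime graph as L. -/
theorem result {F : Type*} [Field F] [Fintype F] (hF : Fintype.card F = 16) (N : ℕ) :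
    ∃ (H : Type) (_ : Group H) (_ : Finite H), N < Nat.card H ∧
      ((∀ p : ℕ, p.Prime → (p ∣ Nat.card (Cfsg.PSU 3 F 4) ↔ p ∣ Nat.card H)) ∧
      (∀ p q : ℕ, p.Prime → q.Prime → p ≠ q → ((∃ g : (Cfsg.PSU 3 F 4), orderOf g = p * q) ↔ (∃ g : H, orderOf g = p * q)))) := by
  obtain ⟨e⟩ := exists_equiv hF
  refine ⟨Ksub N, inferInstance, inferInstance, ?_, ?_⟩
  · have h1 : 5 ^ N ≤ Nat.card (Ksub N) := by
      have := five_pow_le_ncard N exists_ne_zero_Vset
      rwa [← Nat.card_coe_set_eq] at this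
    exact lt_of_lt_of_le (Nat.lt_pow_self (by norm_num)) h1
  · exact (SamePrimeGraph.of_mulEquiv e).trans (samePrimeGraph_Ksub N)

end Cfsg.Agent.S3663
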