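import Cfsg.Statements.S3670
import Cfsg.Agent.Lib.Helper39_DegreeGraph
import Cfsg.Agent.Lib.Helper61_SU33Spec
import Cfsg.Agent.Lib.Helper34_DG_Defs
import Cfsg.Agent.Lib.Helper34_DG_Aff
import Cfsg.Agent.Lib.Helper34_DG_Core
import Cfsg.Agent.Lib.Helper84_DG_GR
import Cfsg.Agent.Lib.Helper84_DG_HP
import Cfsg.Agent.Lib.Helper47_DG_HC
import Cfsg.Agent.Lib.Helper73_DG_HG
import Cfsg.Agent.Lib.Helper73_DG_CARD
import Cfsg.Agent.Lib.Helper73_DG_CENT
import Cfsg.Agent.Lib.Helper64_DG_N7
import Cfsg.Agent.Lib.Helper64_DG_K14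

set_option autoImplicit false

namespace Cfsg.Agent.S3670

open Cfsg Cfsg.Agent.Lib.Helper61_F9 Cfsg.Agent.Lib.Helper61_SU33Spec
open Cfsg.Agent.Lib.Helper34_DG_Defs Cfsg.Agent.Lib.Helper34_DG_Aff
open Cfsg.Agent.Lib.Helper84_DG_GR (graph_of_degrees)
open Cfsg.Agent.Lib.Helper84_DG_HP (exists_primitive)
open Cfsg.Agent.Lib.Helper47_DG_HC (exists_irr_of_primitive)
open Cfsg.Agent.Lib.Helper73_DG_HG (H6048_facts)
open Cfsg.Agent.Lib.Helper73_DG_CARD (card_and_perfect)
open Cfsg.Agent.Lib.Helper73_DG_CENT (card_centralizer_g7 card_centralizer_g8 exists_three)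
open Cfsg.Agent.Lib.Helper64_DG_N7 (relIndex_g7)
open Cfsg.Agent.Lib.Helper64_DG_K14 (fourteen_le_card_conjClasses)

/-- the Sylow `7`-subgroup `<g7>` of `SU₃(3)` with its local data -/
theorem sylow_data [Fact (Nat.Prime 7)] (hcard : Nat.card G9 = 6048) :
    ∃ P : Sylow 7 G9, Nat.card P = 7 ∧
      Subgroup.centralizer ((P : Subgroup G9) : Set G9) = (P : Subgroup G9) ∧
      (Subgroup.centralizer ((P : Subgroup G9) : Set G9)).relIndex
        (Subgroup.normalizer ((P : Subgroup G9) : Set G9)) = 3 := by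
  classical
  have hz : Nat.card (Subgroup.zpowers g7) = 7 := by
    rw [Nat.card_zpowers, orderOf_g7]
  have hpg : IsPGroup 7 (Subgroup.zpowers g7) := IsPGroup.of_card (n := 1) (by rw [hz]; norm_num)
  obtain ⟨P, hle⟩ := hpg.exists_le_sylow
  have hPcard : Nat.card P = 7 := by
    obtain ⟨k, hk⟩ := (IsPGroup.iff_card.1 P.isPGroup')
    have hdvd : Nat.card P ∣ 6048 := by
      rw [← hcard]; exact Subgroup.card_subgroup_dvd_card (P : Subgroup G9)
    have h7 : 7 ≤ Nat.card P := by
      have := Subgroup.card_le_of_le hle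
      rw [hz] at this
      exact this
    rw [hk] at hdvd h7 ⊢
    have hk1 : k ≤ 1 := by
      by_contra hk2
      rw [not_le] at hk2
      have : 7 ^ 2 ∣ 6048 := dvd_trans (pow_dvd_pow 7 hk2) hdvd
      norm_num at this
    interval_cases k
    · norm_num at h7
    · norm_num
  have hPeq : (P : Subgroup G9) = Subgroup.zpowers g7 :=
    (Subgroup.eq_of_le_of_card_ge hle (by rw [hz, hPcard])).symm
  have hcent : Subgroup.centralizer ((Subgroup.zpowers g7 : Subgroup G9) : Set G9) =
      Subgroup.centralizer ({g7} : Set G9) := by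
    rw [Subgroup.zpowers_eq_closure, Subgroup.centralizer_closure]
  refine ⟨P, hPcard, ?_, ?_⟩
  · rw [hPeq, hcent]
    have hle' : Subgroup.zpowers g7 ≤ Subgroup.centralizer ({g7} : Set G9) := by
      rw [Subgroup.zpowers_le]
      rw [Subgroup.mem_centralizer_iff]
      intro h hh
      rw [Set.mem_singleton_iff.1 hh]
    exact (Subgroup.eq_of_le_of_card_ge hle' (by rw [hz]; exact card_centralizer_g7)).symm
  · rw [hPeq]
    exact relIndex_g7 card_centralizer_g7

/-- the isomorphism `PSU₃(3) ≃* SU 3 F9 3` -/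
theorem exists_equiv {F : Type*} [Field F] [Fintype F] (hF : Fintype.card F = 9) :
    Nonempty (Cfsg.PSU 3 F 3 ≃* G9) := by
  have e9 : F ≃+* F9 := ringEquivF9 hF
  have e1 : Cfsg.PSU 3 F 3 ≃* Cfsg.PSU 3 F9 3 := Cfsg.Agent.Lib.Helper61_SUTransfer.psuEquiv e9
  have e2 : Cfsg.PSU 3 F9 3 ≃* ↥(Cfsg.SU 3 F9 3) :=
    (QuotientGroup.quotientMulEquivOfEq center_SU).trans QuotientGroup.quotientBot
  exact ⟨e1.trans e2⟩

/-- The character degree graph of a finite group has as vertices the primes dividing some irreducible complex character degree, two distinct primes being joined when their product divides some irreducible character degree; two groups have the same character degree graph when they have the same vertices and the same joined pairs. Let F be the field with 9 elements and L = PSU(3,3) realised over F (order 6048). There is a finite solvable group of order 6048 with the same character degree graph as L; so L is not determined by its order together with its character degree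 graph. -/
theorem result {F : Type*} [Field F] [Fintype F] (hF : Fintype.card F = 9) :
    ∃ (H : Type) (_ : Group H) (_ : Fintype H), Group.IsSolvable H ∧ Nat.card H = 6048 ∧ Cfsg.degreePrimes H = Cfsg.degreePrimes (Cfsg.PSU 3 F 3) ∧ Cfsg.degreeGraph H = Cfsg.degreeGraph (Cfsg.PSU 3 F 3) := by
  classical
  haveI : Fact (Nat.Prime 7) := ⟨by norm_num⟩
  obtain ⟨e⟩ := exists_equiv hF
  have hdeg : Cfsg.charDegrees (Cfsg.PSU 3 F 3) = Cfsg.charDegrees G9 :=
    Cfsg.Agent.Lib.Helper39_DegreeGraph.charDegrees_congr e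
  -- the `SU₃(3)` side
  obtain ⟨hcard, hperf⟩ := card_and_perfect
  haveI : Fintype G9 := Fintype.ofFinite _
  obtain ⟨P, hP, hC, he⟩ := sylow_data hcard
  obtain ⟨x, hx, hCx⟩ := exists_three
  obtain ⟨h6, h14, h21⟩ := Cfsg.Agent.Lib.Helper34_DG_Core.core hcard hperf P hP hC he g8 orderOf_g8
    card_centralizer_g8 x hx hCx fourteen_le_card_conjClasses
  obtain ⟨hGp, hGa⟩ := graph_of_degrees hcard h6 h14 h21
  -- the solvable side
  obtain ⟨hsolv, hHcard, hunits⟩ := H6048_facts
  obtain ⟨ψ, hψ⟩ := exists_primitive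
  obtain ⟨χ, hχ⟩ := exists_irr_of_primitive ψ hψ
  have h42 : 42 ∣ Cfsg.charDegree (χ : H6048 → ℂ) := by rw [hχ, hunits]
  obtain ⟨hHp, hHa⟩ := graph_of_degrees hHcard ⟨χ, dvd_trans (by norm_num) h42⟩
    ⟨χ, dvd_trans (by norm_num) h42⟩ ⟨χ, dvd_trans (by norm_num) h42⟩
  have hprimes : Cfsg.degreePrimes (Cfsg.PSU 3 F 3) = Cfsg.degreePrimes G9 := by
    unfold Cfsg.degreePrimes
    rw [hdeg]
  have hadj : ∀ p q : ℕ, (Cfsg.degreeGraph (Cfsg.PSU 3 F 3)).Adj p q ↔
      (Cfsg.degreeGraph G9).Adj p q := by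
    intro p q
    unfold Cfsg.degreeGraph
    simp only [hdeg]
  refine ⟨H6048, inferInstance, inferInstance, hsolv, hHcard, ?_, ?_⟩
  · rw [hHp, hprimes, hGp]
  · ext p q
    rw [hHa, hadj, hGa]

end Cfsg.Agent.S3670
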