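import Cfsg.Statements.S3678
import Cfsg.Agent.Lib.Helper61_SL2
import Cfsg.Agent.Lib.Helper61_PSL27

set_option autoImplicit false
open Cfsg

namespace Cfsg.Agent.S3678

open Cfsg.Agent.Lib.Helper61_SL2 Cfsg.Agent.Lib.Helper61_PSL27

/-- The prime graph of a finite group has the prime divisors of its order as vertices, two distinct primes p, q being joined when the group has an element of order pq; two groups have the same prime graph when they have the same prime divisors and the same joined pairs. Let F be the field with 7 elements. There are finite groups of arbitrarily large order with the same prime graph as PSL(2,F) (the graph on {2, 3, 7} with no edges, which is also the prime graph of PSL(2,8)). -/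
theorem result {F : Type*} [Field F] [Fintype F] (hF : Fintype.card F = 7) (N : ℕ) :
    ∃ (H : Type) (_ : Group H) (_ : Finite H), N < Nat.card H ∧
      ((∀ p : ℕ, p.Prime → (p ∣ Nat.card (Matrix.ProjectiveSpecialLinearGroup (Fin 2) F) ↔ p ∣ Nat.card H)) ∧
      (∀ p q : ℕ, p.Prime → q.Prime → p ≠ q → ((∃ g : (Matrix.ProjectiveSpecialLinearGroup (Fin 2) F), orderOf g = p * q) ↔ (∃ g : H, orderOf g = p * q)))) := by
  have : Fact (Nat.Prime 2) := ⟨Nat.prime_two⟩
  let E : Type := GaloisField 2 3
  let _ : Fintype E := Fintype.ofFinite E
  have hE : Fintype.card E = 8 := by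
    rw [← Nat.card_eq_fintype_card, GaloisField.card 2 3 (by norm_num)]
    norm_num
  refine ⟨Aff E N, inferInstance, inferInstance, ?_, ?_⟩
  · have h1 := Aff.card_ge (F := E) (k := N)
    have h2 : N < Nat.card E ^ (2 * N) := by
      have h4 : 2 ≤ Nat.card E := by
        rw [Nat.card_eq_fintype_card, hE]; norm_num
      calc N < 2 ^ N := Nat.lt_two_pow_self
        _ ≤ 2 ^ (2 * N) := Nat.pow_le_pow_right (by norm_num) (by omega)
        _ ≤ Nat.card E ^ (2 * N) := Nat.pow_le_pow_left h4 _
    omega
  · exact (samePrimeGraph_psl27_sl28 hF hE).trans (samePrimeGraph_aff N)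

end Cfsg.Agent.S3678
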