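import Cfsg.Statements.S3681

set_option autoImplicit false
open Cfsg

namespace Cfsg.Agent.S3681

open Equiv

/-- The commutator of two permutations whose supports meet in exactly one point is a 3-cycle. -/
theorem isThreeCycle_commutator {Ω : Type*} [Fintype Ω] [DecidableEq Ω] (x y : Perm Ω) (a : Ω)
    (hxa : x a ≠ a) (hya : y a ≠ a) (h : ∀ ω, x ω ≠ ω → y ω ≠ ω → ω = a) :
    (x * y * x⁻¹ * y⁻¹).IsThreeCycle := by
  have hx' : ∀ ω, x ω ≠ ω → ω ≠ a → y ω = ω := by
    intro ω h1 h2
    by_contra h3
    exact h2 (h ω h1 h3)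
  have hy' : ∀ ω, y ω ≠ ω → ω ≠ a → x ω = ω := by
    intro ω h1 h2
    by_contra h3
    exact h2 (h ω h3 h1)
  have hxinv : ∀ ω, x ω = ω → x⁻¹ ω = ω := by
    intro ω h1
    rw [Perm.inv_eq_iff_eq]; exact h1.symm
  have hyinv : ∀ ω, y ω = ω → y⁻¹ ω = ω := by
    intro ω h1
    rw [Perm.inv_eq_iff_eq]; exact h1.symm
  have hxx : x (x a) ≠ x a := fun h1 => hxa (x.injective h1)
  have hyy : y (y a) ≠ y a := fun h1 => hya (y.injective h1)
  have hxy : x a ≠ y a := by
    intro h1
    have : x a = a := h (x a) hxx (by rw [h1]; exact hyy)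
    exact hxa this
  have hne : a ≠ y a := fun h1 => hya h1.symm
  have hne' : a ≠ x a := fun h1 => hxa h1.symm
  have key : x * y * x⁻¹ * y⁻¹ = swap a (y a) * swap a (x a) := by
    ext ω
    simp only [Perm.mul_apply]
    by_cases h1 : ω = a
    · subst h1
      -- ω = a
      have hb : y (y⁻¹ ω) = ω := (by simp : y (y⁻¹ ω) = ω)
      have hb1 : y⁻¹ ω ≠ ω := by
        intro h2
        rw [h2] at hb
        exact hya hb
      have hb2 : y (y⁻¹ ω) ≠ y⁻¹ ω := by
        rw [hb]; exact fun h2 => hb1 h2.symm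
      have hb3 : x (y⁻¹ ω) = y⁻¹ ω := hy' _ hb2 hb1
      rw [hxinv _ hb3, hb]
      rw [swap_apply_left, swap_apply_of_ne_of_ne hne'.symm hxy]
    · by_cases h2 : ω = x a
      · subst h2
        have e1 : y (x a) = x a := hx' _ hxx hxa
        rw [hyinv _ e1, show x⁻¹ (x a) = a by simp]
        have e2 : x (y a) = y a := hy' _ hyy hya
        rw [e2, swap_apply_right, swap_apply_left]
      · by_cases h3 : ω = y a
        · subst h3
          rw [show y⁻¹ (y a) = a by simp]
          have ha' : x (x⁻¹ a) = a := (by simp : x (x⁻¹ a) = a)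
          have ha1 : x⁻¹ a ≠ a := by
            intro h4
            rw [h4] at ha'
            exact hxa ha'
          have ha2 : x (x⁻¹ a) ≠ x⁻¹ a := by
            rw [ha']; exact fun h4 => ha1 h4.symm
          have ha3 : y (x⁻¹ a) = x⁻¹ a := hx' _ ha2 ha1
          rw [ha3, ha']
          rw [swap_apply_of_ne_of_ne hya hxy.symm, swap_apply_right]
        · rw [swap_apply_of_ne_of_ne h1 h2, swap_apply_of_ne_of_ne h1 h3]
          by_cases h4 : y ω = ω
          · rw [hyinv _ h4]
            by_cases h5 : x ω = ω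
            · rw [hxinv _ h5, h4, h5]
            · have hv : x (x⁻¹ ω) = ω := (by simp : x (x⁻¹ ω) = ω)
              have hv1 : x⁻¹ ω ≠ a := by
                intro h6
                rw [h6] at hv
                exact h2 hv.symm
              have hv2 : x (x⁻¹ ω) ≠ x⁻¹ ω := by
                rw [hv]
                intro h6
                rw [← h6] at hv
                exact h5 hv
              rw [hx' _ hv2 hv1, hv]
          · have hu : y (y⁻¹ ω) = ω := (by simp : y (y⁻¹ ω) = ω)
            have hu1 : y⁻¹ ω ≠ a := by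
              intro h6
              rw [h6] at hu
              exact h3 hu.symm
            have hu2 : y (y⁻¹ ω) ≠ y⁻¹ ω := by
              rw [hu]
              intro h6
              rw [← h6] at hu
              exact h4 hu
            have hu3 : x (y⁻¹ ω) = y⁻¹ ω := hy' _ hu2 hu1
            rw [hxinv _ hu3, hu]
            exact hy' _ h4 h1
  rw [key]
  exact Perm.isThreeCycle_swap_mul_swap_same hne hne' hxy.symm

/-- Bochert's bound for primitive groups. -/
theorem result {G Ω : Type*} [Group G] [Finite G] [MulAction G Ω] [FaithfulSMul G Ω] [Fintype Ω] [DecidableEq Ω]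
    (hprim : MulAction.IsPreprimitive G Ω) (hA : ¬ alternatingGroup Ω ≤ (MulAction.toPermHom G Ω).range) :
    Nat.card G * Nat.factorial ((Fintype.card Ω + 1) / 2) ≤ Nat.factorial (Fintype.card Ω) := by
  classical
  set P : Subgroup (Perm Ω) := (MulAction.toPermHom G Ω).range with hP
  -- P is primitive
  have hPprim : MulAction.IsPreprimitive P Ω := by
    let φ : G → P := fun g => ⟨MulAction.toPermHom G Ω g, ⟨g, rfl⟩⟩
    let f : Ω →ₑ[φ] Ω := { toFun := id, map_smul' := fun g ω => rfl }
    exact MulAction.IsPreprimitive.of_surjective (f := f) Function.surjective_id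
  have hcardGP : Nat.card G = Nat.card P := by
    have hinj : Function.Injective (MulAction.toPermHom G Ω) := MulAction.toPerm_injective
    exact Nat.card_congr (MonoidHom.ofInjective hinj).toEquiv
  -- bases
  let IsBase : Finset Ω → Prop := fun Δ => ∀ x ∈ P, (∀ δ ∈ Δ, x δ = δ) → x = 1
  have hex : ∃ m : ℕ, ∃ Δ : Finset Ω, Δ.card = m ∧ IsBase Δ := by
    refine ⟨_, Finset.univ, rfl, ?_⟩
    intro x _ hx
    ext ω
    simpa using hx ω (Finset.mem_univ ω)
  obtain ⟨Δ, hΔcard, hΔ⟩ := Nat.find_spec hex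
  have hmin : ∀ Δ' : Finset Ω, Δ'.card < Δ.card → ¬ IsBase Δ' := by
    intro Δ' hlt hb
    rw [hΔcard] at hlt
    exact Nat.find_min hex hlt ⟨Δ', rfl, hb⟩
  -- the minimal base has at most n/2 points
  have hhalf : 2 * Δ.card ≤ Fintype.card Ω := by
    by_contra hcon
    push Not at hcon
    have hcompl : Δᶜ.card < Δ.card := by
      rw [Finset.card_compl]
      have := Finset.card_le_univ Δ
      omega
    have h1 := hmin _ hcompl
    simp only [IsBase] at h1
    push Not at h1
    obtain ⟨y, hyP, hyfix, hy1⟩ := h1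
    -- y moves some point δ, necessarily in Δ
    have : ∃ δ, y δ ≠ δ := by
      by_contra hall
      push Not at hall
      exact hy1 (Perm.ext hall)
    obtain ⟨δ, hδ⟩ := this
    have hδΔ : δ ∈ Δ := by
      by_contra hn
      exact hδ (hyfix δ (Finset.mem_compl.mpr hn))
    have herase : (Δ.erase δ).card < Δ.card := Finset.card_erase_lt_of_mem hδΔ
    have h2 := hmin _ herase
    simp only [IsBase] at h2
    push Not at h2
    obtain ⟨x, hxP, hxfix, hx1⟩ := h2
    have hxδ : x δ ≠ δ := by
      intro hfix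
      apply hx1
      apply hΔ x hxP
      intro ε hε
      by_cases he : ε = δ
      · rw [he]; exact hfix
      · exact hxfix ε (Finset.mem_erase.mpr ⟨he, hε⟩)
    have hmeet : ∀ ω, x ω ≠ ω → y ω ≠ ω → ω = δ := by
      intro ω hxω hyω
      by_contra hne
      have hωΔ : ω ∈ Δ := by
        by_contra hn
        exact hyω (hyfix ω (Finset.mem_compl.mpr hn))
      exact hxω (hxfix ω (Finset.mem_erase.mpr ⟨hne, hωΔ⟩))
    have h3 := isThreeCycle_commutator x y δ hxδ hδ hmeet
    have hmem : x * y * x⁻¹ * y⁻¹ ∈ P :=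
      P.mul_mem (P.mul_mem (P.mul_mem hxP hyP) (P.inv_mem hxP)) (P.inv_mem hyP)
    exact hA (Perm.alternatingGroup_le_of_isPreprimitive_of_isThreeCycle_mem hPprim h3 hmem)
  -- counting
  let Γ := {ω : Ω // ω ∉ Δ}
  let Φ : P × Perm Γ → Perm Ω := fun z => (z.1 : Perm Ω) * Perm.ofSubtype z.2
  have hΦ : Function.Injective Φ := by
    rintro ⟨g, σ⟩ ⟨g', σ'⟩ hz
    simp only [Φ] at hz
    have e1 : ((g' : Perm Ω))⁻¹ * (g : Perm Ω) = Perm.ofSubtype σ' * (Perm.ofSubtype σ)⁻¹ := by
      rw [inv_mul_eq_iff_eq_mul, ← mul_assoc, ← hz, mul_assoc, mul_inv_cancel, mul_one]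
    have e2 : ((g' : Perm Ω))⁻¹ * (g : Perm Ω) = 1 := by
      apply hΔ _ (P.mul_mem (P.inv_mem g'.2) g.2)
      intro δ hδ
      rw [e1, ← map_inv, ← map_mul]
      exact Perm.ofSubtype_apply_of_not_mem _ (by simpa using hδ)
    have e3 : g = g' := by
      apply Subtype.ext
      rw [inv_mul_eq_one] at e2
      exact e2.symm
    have e4 : Perm.ofSubtype σ = Perm.ofSubtype σ' := by
      rw [e2] at e1
      have := e1.symm
      rw [mul_inv_eq_one] at this
      exact this.symm
    rw [e3, Perm.ofSubtype_injective e4]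
  have hle := Nat.card_le_card_of_injective Φ hΦ
  rw [Nat.card_prod, Nat.card_perm, Nat.card_perm, ← hcardGP] at hle
  have hΓ : Nat.card Γ = Fintype.card Ω - Δ.card := by
    rw [Nat.card_eq_fintype_card, Fintype.card_subtype_compl]
    simp
  rw [hΓ, Nat.card_eq_fintype_card (α := Ω)] at hle
  refine le_trans ?_ hle
  apply Nat.mul_le_mul_left
  apply Nat.factorial_le
  omega

end Cfsg.Agent.S3681
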