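import Cfsg.Statements.S3682
import Cfsg.Agent.S5752
import Cfsg.Agent.Lib.Helper47_Wielandt

set_option autoImplicit false
open Cfsg

namespace Cfsg.Agent.S3682

/-- The simultaneous core sequences of the Thompson–Wielandt theorem. -/
noncomputable def coreSeq {G : Type*} [Group G] (M₁ M₂ : Subgroup G) : ℕ → Subgroup G × Subgroup G
  | 0 => (M₁, M₂)
  | n + 1 => ((((coreSeq M₁ M₂ n).1 ⊓ (coreSeq M₁ M₂ n).2).subgroupOf M₁).normalCore.map M₁.subtype,
      (((coreSeq M₁ M₂ n).1 ⊓ (coreSeq M₁ M₂ n).2).subgroupOf M₂).normalCore.map M₂.subtype)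

/-- Wielandt's bound toward the Sims conjecture. Let a finite group G act faithfully and primitively on a set Ω, let a and b be points, and suppose the orbit of b under the stabilizer of a has length d ≥ 2. Then there are a prime p and a normal p-subgroup P of the stabilizer of a, all of whose elements fix b, such that the index of P in the stabilizer of a divides d! · ((d - 1)!)^d. -/
theorem result {G Ω : Type*} [Group G] [Finite G] [MulAction G Ω] [FaithfulSMul G Ω] [Finite Ω]
    (hprim : MulAction.IsPreprimitive G Ω) (a b : Ω) (d : ℕ) (hd : Nat.card (MulAction.orbit (MulAction.stabilizer G a) b) = d) (h2 : 2 ≤ d) :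
    ∃ p : ℕ, p.Prime ∧ ∃ P : Subgroup (MulAction.stabilizer G a), P.Normal ∧ IsPGroup p P ∧ (∀ g : P, ((g : MulAction.stabilizer G a) : G) • b = b) ∧
      P.index ∣ Nat.factorial d * (Nat.factorial (d - 1)) ^ d := by
  classical
  open Cfsg.Agent.Lib.Helper47_Wielandt in
  have hab : a ≠ b := by
    rintro rfl
    have h1 : MulAction.orbit (MulAction.stabilizer G a) a = {a} := by
      ext x
      constructor
      · rintro ⟨g, rfl⟩
        exact g.2
      · rintro rfl
        exact MulAction.mem_orbit_self _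
    rw [h1] at hd
    simp at hd
    omega
  have : Nontrivial Ω := ⟨⟨a, b, hab⟩⟩
  have : MulAction.IsPretransitive G Ω := hprim.toIsPretransitive
  set M₁ := MulAction.stabilizer G a with hM₁
  set M₂ := MulAction.stabilizer G b with hM₂
  obtain ⟨g, hg⟩ := MulAction.exists_smul_eq G a b
  have hconj : M₂ = M₁.map (MulAut.conj g).toMonoidHom := by
    rw [hM₂, ← hg]
    exact MulAction.stabilizer_smul_eq_stabilizer_map_conj g a
  have hmax : IsCoatom M₁ := MulAction.IsPreprimitive.isCoatom_stabilizer_of_isPreprimitive (G := G) a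
  have hcore : M₁.normalCore = ⊥ := by
    rw [eq_bot_iff]
    intro x hx
    rw [Subgroup.mem_bot]
    apply FaithfulSMul.eq_of_smul_eq_smul (α := Ω)
    intro ω
    obtain ⟨k, hk⟩ := MulAction.exists_smul_eq G a ω
    have h1 : k⁻¹ * x * k⁻¹⁻¹ ∈ M₁ := hx k⁻¹
    rw [hM₁, MulAction.mem_stabilizer_iff] at h1
    rw [one_smul, ← hk]
    have h2 : k • ((k⁻¹ * x * k⁻¹⁻¹) • a) = k • a := by rw [h1]
    rw [← mul_smul] at h2
    have h3 : k * (k⁻¹ * x * k⁻¹⁻¹) = x * k := by group
    rw [h3, mul_smul] at h2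
    exact h2
  have hcard : Nat.card M₁ = Nat.card M₂ := by
    rw [hconj]
    exact (Nat.card_congr ((MulAut.conj g).subgroupMap M₁).toEquiv)
  -- the suborbit length
  have hdrel : (M₁ ⊓ M₂).relIndex M₁ = d := by
    have h1 : (M₁ ⊓ M₂).subgroupOf M₁ = MulAction.stabilizer M₁ b := by
      ext x
      rw [Subgroup.mem_subgroupOf, MulAction.mem_stabilizer_iff]
      constructor
      · intro hx
        exact hx.2
      · intro hx
        exact ⟨x.2, hx⟩
    rw [Subgroup.relIndex, h1, MulAction.index_stabilizer, ← hd, Nat.card_coe_set_eq]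
  have hne : M₁ ≠ M₂ := by
    intro h
    rw [← h, inf_idem, Subgroup.relIndex_self] at hdrel
    omega
  set A : ℕ → Subgroup G := fun i => (coreSeq M₁ M₂ i).1 with hA
  set B : ℕ → Subgroup G := fun i => (coreSeq M₁ M₂ i).2 with hB
  have hA0 : A 0 = M₁ := rfl
  have hB0 : B 0 = M₂ := rfl
  have hA' : ∀ i, A (i + 1) = ((A i ⊓ B i).subgroupOf M₁).normalCore.map M₁.subtype := fun i => rfl
  have hB' : ∀ i, B (i + 1) = ((A i ⊓ B i).subgroupOf M₂).normalCore.map M₂.subtype := fun i => rfl
  have hA1 : A 1 = ((M₁ ⊓ M₂).subgroupOf M₁).normalCore.map M₁.subtype := rfl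
  have hB1 : B 1 = ((M₁ ⊓ M₂).subgroupOf M₂).normalCore.map M₂.subtype := rfl
  have hA2 : A 2 = ((A 1 ⊓ B 1).subgroupOf M₁).normalCore.map M₁.subtype := rfl
  have hB2 : B 2 = ((A 1 ⊓ B 1).subgroupOf M₂).normalCore.map M₂.subtype := rfl
  -- the two counting bounds
  have hP := index_second_core_dvd M₁ M₂ hcard
  have hQ := index_second_core_dvd M₂ M₁ hcard.symm
  rw [hdrel, ← hA1, ← hB1] at hP
  have hdrel' : (M₂ ⊓ M₁).relIndex M₂ = d := by
    have e1 := card_mul_relIndex (M₁ ⊓ M₂) M₁ inf_le_left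
    have e2 := card_mul_relIndex (M₂ ⊓ M₁) M₂ inf_le_left
    rw [inf_comm M₂ M₁] at e2 ⊢
    have hpos : 0 < Nat.card ↥(M₁ ⊓ M₂) := Nat.card_pos
    have : Nat.card ↥(M₁ ⊓ M₂) * (M₁ ⊓ M₂).relIndex M₂ = Nat.card ↥(M₁ ⊓ M₂) * (M₁ ⊓ M₂).relIndex M₁ := by
      rw [e1, e2, hcard]
    rw [Nat.eq_of_mul_eq_mul_left hpos this, hdrel]
  rw [hdrel', inf_comm M₂ M₁, ← hA1, ← hB1, inf_comm (B 1) (A 1)] at hQ
  -- elements of the second core fix b
  have hfix : ∀ x : M₁, x ∈ ((A 1 ⊓ B 1).subgroupOf M₁).normalCore → (x : G) • b = b := by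
    intro x hx
    have h1 := Subgroup.normalCore_le _ hx
    rw [Subgroup.mem_subgroupOf] at h1
    have h2 : (x : G) ∈ A 1 := h1.1
    rw [hA1] at h2
    obtain ⟨y, hy, hyx⟩ := h2
    have h3 := Subgroup.normalCore_le _ hy
    rw [Subgroup.mem_subgroupOf] at h3
    rw [← hyx]
    exact h3.2
  by_cases hbot : A 2 = ⊥ ∨ B 2 = ⊥
  · -- trivial case: the stabilizer itself has small order
    refine ⟨2, Nat.prime_two, ⊥, inferInstance, IsPGroup.of_bot, ?_, ?_⟩
    · rintro ⟨x, hx⟩
      rw [Subgroup.mem_bot] at hx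
      subst hx
      simp
    · rw [Subgroup.index_bot]
      rcases hbot with h | h
      · have h1 : ((A 1 ⊓ B 1).subgroupOf M₁).normalCore = ⊥ := by
          rw [hA2] at h
          exact (Subgroup.map_eq_bot_iff_of_injective _ (Subgroup.subtype_injective M₁)).mp h
        rw [h1, Subgroup.index_bot] at hP
        exact hP
      · have h1 : ((A 1 ⊓ B 1).subgroupOf M₂).normalCore = ⊥ := by
          rw [hB2] at h
          exact (Subgroup.map_eq_bot_iff_of_injective _ (Subgroup.subtype_injective M₂)).mp h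
        rw [h1, Subgroup.index_bot] at hQ
        rw [hcard]
        exact hQ
  · push Not at hbot
    obtain ⟨p, hp, hpg, -⟩ := Cfsg.Agent.S5752.result M₁ M₂ hmax g hconj hne hcore A B hA0 hB0 hA' hB'
      hbot.1 hbot.2
    refine ⟨p, hp, ((A 1 ⊓ B 1).subgroupOf M₁).normalCore, inferInstance, ?_, ?_, hP⟩
    · have h1 : IsPGroup p ↥(A 2) := hpg.to_le le_sup_left
      rw [hA2] at h1
      exact h1.of_injective (M₁.subtype.subgroupMap _) 
        (fun x y hxy => by
          have := congrArg Subtype.val hxy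
          exact Subtype.ext (Subtype.ext (by simpa using congrArg Subtype.val hxy)))
    · rintro ⟨x, hx⟩
      exact hfix x hx

end Cfsg.Agent.S3682
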