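import Cfsg.Statements.S3683

set_option autoImplicit false
open Cfsg

namespace Cfsg.Agent.S3683

/-- Let a finite group G act faithfully and primitively on a set Ω, and suppose the stabilizer of a point a fixes a second point b ≠ a (a suborbit of length 1 other than {a}). Then the stabilizer of a is trivial and G is cyclic of prime order. -/
theorem result {G Ω : Type*} [Group G] [Finite G] [MulAction G Ω] [FaithfulSMul G Ω] [Finite Ω]
    (hprim : MulAction.IsPreprimitive G Ω) (a b : Ω) (hab : a ≠ b) (hfix : ∀ g : G, g • a = a → g • b = b) :
    MulAction.stabilizer G a = ⊥ ∧ IsCyclic G ∧ (Nat.card G).Prime := by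
  classical
  have : Nontrivial Ω := ⟨⟨a, b, hab⟩⟩
  have hca : IsCoatom (MulAction.stabilizer G a) :=
    MulAction.IsPreprimitive.isCoatom_stabilizer_of_isPreprimitive G a
  have hcb : IsCoatom (MulAction.stabilizer G b) :=
    MulAction.IsPreprimitive.isCoatom_stabilizer_of_isPreprimitive G b
  have hle : MulAction.stabilizer G a ≤ MulAction.stabilizer G b := by
    intro g hg
    rw [MulAction.mem_stabilizer_iff] at hg ⊢
    exact hfix g hg
  have heq : MulAction.stabilizer G a = MulAction.stabilizer G b := by
    rcases eq_or_lt_of_le hle with h | h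
    · exact h
    · exact absurd (hca.2 _ h) hcb.1
  -- pick g with g • a = b
  obtain ⟨g, hg⟩ := MulAction.exists_smul_eq G a b
  -- g normalizes the stabilizer of a
  have hconj : ∀ x : G, x ∈ MulAction.stabilizer G a → g * x * g⁻¹ ∈ MulAction.stabilizer G a := by
    intro x hx
    rw [heq, MulAction.mem_stabilizer_iff]
    rw [MulAction.mem_stabilizer_iff] at hx
    rw [mul_smul, mul_smul, ← hg, inv_smul_smul, hx]
  have hgnot : g ∉ MulAction.stabilizer G a := by
    rw [MulAction.mem_stabilizer_iff, hg]
    exact fun h => hab h.symm
  -- the normalizer of the stabilizer is everything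
  have hnorm : Subgroup.normalizer (MulAction.stabilizer G a : Set G) = ⊤ := by
    have h1 : MulAction.stabilizer G a ≤ Subgroup.normalizer (MulAction.stabilizer G a : Set G) :=
      Subgroup.le_normalizer
    have hgN : g ∈ Subgroup.normalizer (MulAction.stabilizer G a : Set G) := by
      rw [Subgroup.mem_normalizer_iff]
      intro x
      constructor
      · intro hx
        exact hconj x hx
      · intro hx
        -- cardinality argument: conjugation by g is an injective self-map of a finite set
        have hinj : Function.Injective (fun x : MulAction.stabilizer G a =>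
            (⟨g * x * g⁻¹, hconj x x.2⟩ : MulAction.stabilizer G a)) := by
          intro x y hxy
          simp only [Subtype.mk.injEq] at hxy
          apply Subtype.ext
          have := mul_right_cancel hxy
          exact mul_left_cancel this
        have hsurj := Finite.surjective_of_injective hinj
        obtain ⟨y, hy⟩ := hsurj ⟨g * x * g⁻¹, hx⟩
        simp only [Subtype.mk.injEq] at hy
        have := mul_left_cancel (mul_right_cancel hy)
        rw [← this]
        exact y.2
    rcases eq_or_lt_of_le h1 with h | h
    · exact absurd (h ▸ hgN) hgnot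
    · exact hca.2 _ h
  have hnormal : (MulAction.stabilizer G a).Normal :=
    Subgroup.normalizer_eq_top_iff.mp hnorm
  -- normal stabilizer in a transitive faithful action is trivial
  have hbot : MulAction.stabilizer G a = ⊥ := by
    rw [eq_bot_iff]
    intro x hx
    rw [Subgroup.mem_bot]
    apply FaithfulSMul.eq_of_smul_eq_smul (α := Ω)
    intro c
    obtain ⟨k, hk⟩ := MulAction.exists_smul_eq G a c
    have : k⁻¹ * x * k ∈ MulAction.stabilizer G a := by
      have := hnormal.conj_mem x hx k⁻¹
      simpa using this
    rw [MulAction.mem_stabilizer_iff, mul_smul, mul_smul, hk] at this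
    rw [one_smul]
    have h2 := congrArg (fun y => k • y) this
    simp only [smul_inv_smul] at h2
    rw [h2, hk]
  refine ⟨hbot, ?_⟩
  rw [hbot] at hca
  -- G is nontrivial
  have hntG : Nontrivial G := by
    refine ⟨⟨g, 1, ?_⟩⟩
    intro h
    apply hab
    rw [← hg, h, one_smul]
  have hcard : 1 < Nat.card G := Finite.one_lt_card
  obtain ⟨p, hp, hpd⟩ := Nat.exists_prime_and_dvd (ne_of_gt hcard)
  have : Fact p.Prime := ⟨hp⟩
  obtain ⟨x, hx⟩ := exists_prime_orderOf_dvd_card' p hpd
  have hxne : Subgroup.zpowers x ≠ ⊥ := by
    intro h
    rw [Subgroup.zpowers_eq_bot] at h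
    rw [h, orderOf_one] at hx
    exact hp.one_lt.ne' hx.symm
  have htop : Subgroup.zpowers x = ⊤ := hca.2 _ (bot_lt_iff_ne_bot.mpr hxne)
  have hcardp : Nat.card G = p := by
    rw [← hx, ← Nat.card_zpowers, htop, Subgroup.card_top]
  refine ⟨?_, ?_⟩
  · exact isCyclic_of_prime_card hcardp
  · rw [hcardp]; exact hp

end Cfsg.Agent.S3683
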