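import Cfsg.Statements.S3684
import Cfsg.Agent.Lib.Helper4_DihedralIso

set_option autoImplicit false
open Cfsg

namespace Cfsg.Agent.S3684

open Cfsg.Agent.Lib.Helper4_DihedralIso

/-- A normal subgroup fixing a point of a transitive faithful action is trivial. -/
theorem eq_bot_of_normal_of_le_stabilizer {G Ω : Type*} [Group G] [MulAction G Ω]
    [FaithfulSMul G Ω] [MulAction.IsPretransitive G Ω] (K : Subgroup G) (hK : K.Normal) (a : Ω)
    (hKa : K ≤ MulAction.stabilizer G a) : K = ⊥ := by
  rw [eq_bot_iff]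
  intro x hx
  rw [Subgroup.mem_bot]
  apply FaithfulSMul.eq_of_smul_eq_smul (α := Ω)
  intro c
  obtain ⟨k, hk⟩ := MulAction.exists_smul_eq G a c
  have h1 : k⁻¹ * x * k ∈ K := by
    have := hK.conj_mem x hx k⁻¹
    simpa using this
  have h2 := hKa h1
  rw [MulAction.mem_stabilizer_iff, mul_smul, mul_smul, hk] at h2
  rw [one_smul]
  have h3 := congrArg (fun y => k • y) h2
  simp only [smul_inv_smul] at h3
  rw [h3, hk]

/-- Let a finite group G act faithfully and primitively on a set Ω, and suppose the stabilizer of a point a has an orbit of length 2. Then the stabilizer of a has order 2 and G is isomorphic to the dihedral group of order 2p for some prime p. -/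
theorem result {G Ω : Type*} [Group G] [Finite G] [MulAction G Ω] [FaithfulSMul G Ω] [Finite Ω]
    (hprim : MulAction.IsPreprimitive G Ω) (a b : Ω) (h2 : Nat.card (MulAction.orbit (MulAction.stabilizer G a) b) = 2) :
    Nat.card (MulAction.stabilizer G a) = 2 ∧ ∃ p : ℕ, p.Prime ∧ Nonempty (G ≃* DihedralGroup p) := by
  classical
  set Ga := MulAction.stabilizer G a with hGa
  set Gb := MulAction.stabilizer G b with hGb
  -- the relative index of G_b in G_a is 2
  have hrel : Gb.relIndex Ga = 2 := by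
    have key : Gb.subgroupOf Ga = MulAction.stabilizer Ga b := by
      ext; rfl
    rw [Subgroup.relIndex, key, MulAction.index_stabilizer, ← h2, Nat.card_coe_set_eq]
  -- a ≠ b
  have hab : a ≠ b := by
    intro h
    have : Gb.relIndex Ga = 1 := by
      rw [Subgroup.relIndex_eq_one, hGa, hGb, h]
    omega
  have : Nontrivial Ω := ⟨⟨a, b, hab⟩⟩
  have hca : IsCoatom Ga := MulAction.IsPreprimitive.isCoatom_stabilizer_of_isPreprimitive G a
  have hcb : IsCoatom Gb := MulAction.IsPreprimitive.isCoatom_stabilizer_of_isPreprimitive G b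
  have hia : Ga.index = Nat.card Ω := MulAction.index_stabilizer_of_transitive G a
  have hib : Gb.index = Nat.card Ω := MulAction.index_stabilizer_of_transitive G b
  have hΩpos : 0 < Nat.card Ω := Nat.card_pos
  set K := Ga ⊓ Gb with hK
  have hKa : K.relIndex Ga = 2 := by rw [hK, Subgroup.inf_relIndex_left, hrel]
  have hKb : K.relIndex Gb = 2 := by
    have e1 := Subgroup.relIndex_mul_index (inf_le_left : K ≤ Ga)
    have e2 := Subgroup.relIndex_mul_index (inf_le_right : K ≤ Gb)
    rw [hia, hKa] at e1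
    rw [hib, ← e1] at e2
    exact Nat.eq_of_mul_eq_mul_right hΩpos e2
  have hNa : Ga ≤ Subgroup.normalizer (K : Set G) := by
    rw [← Subgroup.normal_subgroupOf_iff_le_normalizer inf_le_left]
    exact Subgroup.normal_of_index_eq_two hKa
  have hNb : Gb ≤ Subgroup.normalizer (K : Set G) := by
    rw [← Subgroup.normal_subgroupOf_iff_le_normalizer inf_le_right]
    exact Subgroup.normal_of_index_eq_two hKb
  -- G_b is not contained in G_a
  have hnle : ¬ Gb ≤ Ga := by
    intro hle
    have : Gb.relIndex Ga = 1 := by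
      rcases eq_or_lt_of_le hle with h | h
      · rw [h, Subgroup.relIndex_self]
      · exact absurd (hcb.2 _ h) hca.1
    omega
  have hsup : Ga ⊔ Gb = ⊤ := by
    by_contra hne
    have hlt : Ga < Ga ⊔ Gb := by
      refine lt_of_le_of_ne le_sup_left ?_
      intro h
      apply hnle
      rw [h]; exact le_sup_right
    exact hne (hca.2 _ hlt)
  have hKnormal : K.Normal := by
    rw [← Subgroup.normalizer_eq_top_iff, eq_top_iff, ← hsup]
    exact sup_le hNa hNb
  have hKbot : K = ⊥ := eq_bot_of_normal_of_le_stabilizer K hKnormal a inf_le_left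
  have hcardGa : Nat.card Ga = 2 := by
    have := Subgroup.relIndex_bot_left (H := Ga)
    rw [← hKbot, hKa] at this
    exact this.symm
  refine ⟨hcardGa, ?_⟩
  -- the involution t generating G_a
  have h2dvd : 2 ∣ Nat.card Ga := by rw [hcardGa]
  have : Fact (Nat.Prime 2) := ⟨Nat.prime_two⟩
  obtain ⟨t', ht'⟩ := exists_prime_orderOf_dvd_card' (G := Ga) 2 h2dvd
  obtain ⟨t, ht⟩ : ∃ t : G, t = (t' : G) := ⟨_, rfl⟩
  have hto : orderOf t = 2 := by rw [ht, Subgroup.orderOf_coe, ht']
  have htGa : t ∈ Ga := by rw [ht]; exact t'.2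
  have ht1 : t ≠ 1 := by
    intro h; rw [h, orderOf_one] at hto; omega
  have htt : t * t = 1 := by
    rw [← pow_two, ← hto]; exact pow_orderOf_eq_one t
  -- G_a = zpowers t
  have hGaz : Ga = Subgroup.zpowers t := by
    symm
    apply Subgroup.eq_of_le_of_card_ge
    · rw [Subgroup.zpowers_le]; exact htGa
    · rw [Nat.card_zpowers, hto, hcardGa]
  -- a conjugate s of t in G_b
  obtain ⟨g, hg⟩ := MulAction.exists_smul_eq G a b
  obtain ⟨s, hs⟩ : ∃ s : G, s = g * t * g⁻¹ := ⟨_, rfl⟩
  have hss : s * s = 1 := by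
    rw [hs]
    calc g * t * g⁻¹ * (g * t * g⁻¹) = g * (t * t) * g⁻¹ := by group
      _ = 1 := by rw [htt]; group
  have hs1 : s ≠ 1 := by
    intro h
    apply ht1
    have : t = g⁻¹ * s * g := by rw [hs]; group
    rw [this, h]; group
  have hsGb : s ∈ Gb := by
    rw [hGb, MulAction.mem_stabilizer_iff, hs, mul_smul, mul_smul, ← hg, inv_smul_smul]
    have : t • a = a := htGa
    rw [this]
  have hsGa : s ∉ Ga := by
    intro h
    rw [hGaz, Subgroup.mem_zpowers_iff] at h
    obtain ⟨k, hk⟩ := h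
    -- s ∈ {1, t}
    have hst : s = t := by
      rcases Int.emod_two_eq_zero_or_one k with hk2 | hk2
      · exfalso
        apply hs1
        have : k = 2 * (k / 2) := by omega
        rw [← hk, this, zpow_mul, show (2 : ℤ) = ((2 : ℕ) : ℤ) by norm_num, zpow_natCast,
          pow_two, htt, one_zpow]
      · have : k = 2 * (k / 2) + 1 := by omega
        rw [← hk, this, zpow_add, zpow_mul, show (2 : ℤ) = ((2 : ℕ) : ℤ) by norm_num,
          zpow_natCast, pow_two, htt, one_zpow, one_mul, zpow_one]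
    -- then t fixes b, so G_a ≤ G_b
    apply hnle
    have hGale : Ga ≤ Gb := by
      rw [hGaz, Subgroup.zpowers_le, ← hst]; exact hsGb
    rcases eq_or_lt_of_le hGale with h | h
    · rw [h]
    · exact absurd (hca.2 _ h) hcb.1
  -- closure {t, s} = ⊤
  have hcl : Subgroup.closure ({t, s} : Set G) = ⊤ := by
    have hle : Ga ≤ Subgroup.closure ({t, s} : Set G) := by
      rw [hGaz, Subgroup.zpowers_le]
      exact Subgroup.subset_closure (by simp)
    have hsin : s ∈ Subgroup.closure ({t, s} : Set G) := Subgroup.subset_closure (by simp)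
    rcases eq_or_lt_of_le hle with h | h
    · exact absurd (h ▸ hsin) hsGa
    · exact hca.2 _ h
  set n := orderOf (t * s) with hn
  have e1 : DihedralGroup n ≃* ↥(Subgroup.closure ({t, s} : Set G)) :=
    dihedralEquiv htt hss ht1 hs1
  have e2 : ↥(Subgroup.closure ({t, s} : Set G)) ≃* G :=
    (MulEquiv.subgroupCongr hcl).trans Subgroup.topEquiv
  have e : G ≃* DihedralGroup n := (e1.trans e2).symm
  have hcardG : Nat.card G = 2 * n := by
    rw [Nat.card_congr e.toEquiv, DihedralGroup.nat_card]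
  have hΩn : Nat.card Ω = n := by
    have := Subgroup.card_mul_index Ga
    rw [hia, hcardGa, hcardG] at this
    omega
  -- n ≥ 2
  obtain ⟨r, hr⟩ : ∃ r : G, r = t * s := ⟨_, rfl⟩
  rw [← hr] at hn
  have hr1 : r ≠ 1 := by
    intro h
    apply hsGa
    have : s = t := by
      have h' : t * s = t * t := by rw [← hr, h, htt]
      exact (mul_left_cancel h').trans rfl
    rw [this]; exact htGa
  have hnpos : 0 < n := by rw [hn]; exact orderOf_pos r
  have hn1 : n ≠ 1 := by
    intro h
    rw [hn, orderOf_eq_one_iff] at h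
    exact hr1 h
  -- t and s invert r
  have hti : t⁻¹ = t := inv_eq_of_mul_eq_one_right htt
  have hsi : s⁻¹ = s := inv_eq_of_mul_eq_one_right hss
  have htr : t * r * t⁻¹ = r⁻¹ := by
    calc t * r * t⁻¹ = t * (t * s) * t := by rw [hr, hti]
      _ = (t * t) * s * t := by group
      _ = s * t := by rw [htt, one_mul]
      _ = s⁻¹ * t⁻¹ := by rw [hti, hsi]
      _ = r⁻¹ := by rw [hr, mul_inv_rev]
  have hsr : s * r * s⁻¹ = r⁻¹ := by
    calc s * r * s⁻¹ = s * (t * s) * s⁻¹ := by rw [hr]
      _ = s * t := by group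
      _ = s⁻¹ * t⁻¹ := by rw [hti, hsi]
      _ = r⁻¹ := by rw [hr, mul_inv_rev]
  -- pick a prime p dividing n
  obtain ⟨p, hp, hpn⟩ := Nat.exists_prime_and_dvd hn1
  refine ⟨n, ?_, ⟨e⟩⟩
  -- D = zpowers (r ^ (n / p)) is a normal subgroup of order p
  obtain ⟨d, hd⟩ : ∃ d : G, d = r ^ (n / p) := ⟨_, rfl⟩
  have hdp : d ^ p = 1 := by
    rw [hd, ← pow_mul, Nat.div_mul_cancel hpn, hn]; exact pow_orderOf_eq_one r
  have hd1 : d ≠ 1 := by
    rw [hd]
    apply pow_ne_one_of_lt_orderOf
    · exact (Nat.div_pos (Nat.le_of_dvd hnpos hpn) hp.pos).ne'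
    · rw [← hn]; exact Nat.div_lt_self hnpos hp.one_lt
  have : Fact p.Prime := ⟨hp⟩
  have hdo : orderOf d = p := orderOf_eq_prime hdp hd1
  set D := Subgroup.zpowers d with hD
  -- conjugation by t and s inverts d
  have hconj : ∀ x : G, x * r * x⁻¹ = r⁻¹ → x * d * x⁻¹ = d⁻¹ := by
    intro x hx
    rw [hd, ← inv_pow, ← hx, conj_pow]
  have hnormal_mem : ∀ x : G, x * d * x⁻¹ = d⁻¹ → x ∈ Subgroup.normalizer (D : Set G) := by
    intro x hx
    have hfwd : ∀ x y : G, x * y * x⁻¹ = y⁻¹ →
        ∀ z ∈ Subgroup.zpowers y, x * z * x⁻¹ ∈ Subgroup.zpowers y := by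
      intro x y hy z hz
      obtain ⟨k, rfl⟩ := Subgroup.mem_zpowers_iff.mp hz
      have : x * y ^ k * x⁻¹ = (y ^ k)⁻¹ := by
        rw [← inv_zpow, ← hy, conj_zpow]
      rw [this]
      exact Subgroup.inv_mem _ (Subgroup.zpow_mem_zpowers y k)
    rw [Subgroup.mem_normalizer_iff]
    intro z
    constructor
    · intro hz
      exact hfwd x d hx z hz
    · intro hz
      -- conjugation by x⁻¹ also inverts d
      have hx' : x⁻¹ * d * x⁻¹⁻¹ = d⁻¹ := by
        have : d = x⁻¹ * d⁻¹ * x := by rw [← hx]; group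
        rw [inv_inv]
        have h' : x⁻¹ * d * x = (x⁻¹ * d⁻¹ * x)⁻¹ := by group
        rw [h', ← this]
      have := hfwd x⁻¹ d hx' (x * z * x⁻¹) hz
      have e' : x⁻¹ * (x * z * x⁻¹) * x⁻¹⁻¹ = z := by group
      rwa [e'] at this
  have hDnormal : D.Normal := by
    rw [← Subgroup.normalizer_eq_top_iff, eq_top_iff, ← hcl, Subgroup.closure_le]
    intro x hx
    rcases hx with rfl | rfl
    · exact hnormal_mem _ (hconj _ htr)
    · exact hnormal_mem _ (hconj _ hsr)
  -- D is transitive on Ω
  have hDfix : MulAction.fixedPoints D Ω ≠ Set.univ := by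
    intro h
    apply hd1
    apply FaithfulSMul.eq_of_smul_eq_smul (α := Ω)
    intro c
    have hc : c ∈ MulAction.fixedPoints D Ω := by rw [h]; trivial
    rw [one_smul]
    exact hc ⟨d, Subgroup.mem_zpowers d⟩
  have hDtrans : MulAction.IsPretransitive D Ω :=
    MulAction.IsQuasiPreprimitive.isPretransitive_of_normal hDfix
  have hdiv : Nat.card Ω ∣ Nat.card D := by
    rw [← MulAction.index_stabilizer_of_transitive D a]
    exact Subgroup.index_dvd_card _
  rw [hΩn, hD, Nat.card_zpowers, hdo] at hdiv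
  rcases (Nat.dvd_prime hp).mp hdiv with h | h
  · exact absurd h hn1
  · rw [h]; exact hp

end Cfsg.Agent.S3684
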