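import Cfsg.Agent.Lib.Helper49_KnDefs2
import Cfsg.Agent.Lib.Helper49_Kn_BASIC
import Cfsg.Agent.Lib.Helper2_Kn_TWALT
import Cfsg.Agent.Lib.Helper2_Kn_STEP3A
import Cfsg.Agent.Lib.Helper50_Kn_STEP3B
import Cfsg.Agent.Lib.Helper89_Kn_STEP4
import Cfsg.Agent.Lib.Helper89_Kn_STEP5A
import Cfsg.Agent.Lib.Helper3_Kn_STEP5B
import Cfsg.Agent.Lib.Helper3_Kn_STEP5C
import Cfsg.Agent.Lib.Helper86_Kn_FINEMB
import Cfsg.Agent.Lib.Helper43_Kn_FINREL
import Cfsg.Agent.Lib.Helper58_Kn_BRCFG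
import Cfsg.Agent.Lib.Helper58_Kn_BRIDX
import Cfsg.Agent.Lib.Helper49_Kn_STEP6B
import Cfsg.Statements.S3687

set_option autoImplicit false
open Cfsg

namespace Cfsg.Agent.S3687

open Cfsg.Agent.Lib.Helper47_TW Cfsg.Agent.Lib.Helper49_KnDefs

universe u

variable {G : Type u} [Group G] [Finite G]

theorem fin_rel {d : ℕ} (hd : 6 ≤ d) {M T R : Subgroup G}
    (hT : AS d M T) (hR : AS (d - 1) M R) (hKC : relCore M R ⊓ relCore M T = ⊥)
    (hcard : Nat.card (relCore M R) = d * Nat.card (relCore M T)) :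
    (2 * Nat.card M = d.factorial * Nat.card (relCore M T) ∧
        Nonempty (↥M ≃* alternatingGroup (Fin d) × alternatingGroup (Fin (d - 1)))) ∨
      (Nat.card M = d.factorial * Nat.card (relCore M T) ∧
        (Nonempty (↥M ≃* Equiv.Perm (Fin d) × Equiv.Perm (Fin (d - 1))) ∨
          Nonempty (↥M ≃* EvenPairs d))) :=
  Cfsg.Agent.Lib.Helper43_Kn_FINREL.fin_rel_of hd
    (fun T' R' h1 h2 h3 h4 h5 h6 =>
      Cfsg.Agent.Lib.Helper86_Kn_FINEMB.fin_emb hd T' R' h1 h2 h3 h4 h5 h6) hT hR hKC hcard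

theorem step3 {d : ℕ} {M N : Subgroup G} {g : G} (h : Cfg d M N g) :
    ¬ altPart N (cj g (M ⊓ N)) ≤ (M ⊓ N) ⊔ cj g (c1 M N) := by
  intro hA
  rcases Cfsg.Agent.Lib.Helper2_Kn_TWALT.tw_alt h with hc | hc
  · exact Cfsg.Agent.Lib.Helper2_Kn_STEP3A.step3a h hA hc
  · exact Cfsg.Agent.Lib.Helper50_Kn_STEP3B.step3b h hA hc

theorem step5_aux {d : ℕ} {M N : Subgroup G} {g : G} (h : Sym d M N g) (hc : c2 M N = ⊥) :
    c1 M N ⊓ c1 N M = ⊥ := by
  have key : M ≤ Subgroup.normalizer ((c1 M N ⊓ c1 N M : Subgroup G) : Set G) := by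
    rcases Cfsg.Agent.Lib.Helper89_Kn_STEP5A.step5a h with h1 | h1
    · exact h1
    · obtain ⟨F, hF, hFT, hFc⟩ := Cfsg.Agent.Lib.Helper3_Kn_STEP5B.step5b h hc h1
      -- conjugate F back by g⁻¹
      have hFM : cj g⁻¹ F ≤ M := by
        have h2 : F ≤ N := hFT.trans inf_le_right
        rw [h.conj] at h2
        intro x hx
        obtain ⟨y, hy, rfl⟩ := hx
        obtain ⟨z, hz, hzy⟩ := h2 hy
        simp only [MulEquiv.coe_toMonoidHom, MulAut.conj_apply] at hzy ⊢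
        rw [← hzy]
        simp only [inv_inv]
        have : g⁻¹ * (g * z * g⁻¹) * g = z := by group
        rw [this]
        exact hz
      have hFne : cj g⁻¹ F ≠ ⊥ := by
        intro h0
        apply hF
        rw [eq_bot_iff]
        intro x hx
        have : (MulAut.conj g⁻¹) x ∈ cj g⁻¹ F := ⟨x, hx, rfl⟩
        rw [h0, Subgroup.mem_bot] at this
        rw [Subgroup.mem_bot]
        simp only [MulAut.conj_apply, inv_inv] at this
        have e : x = g * (g⁻¹ * x * g) * g⁻¹ := by group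
        rw [e, this]
        group
      have hFc' : cj g⁻¹ F ≤ Subgroup.centralizer (c1 M N : Set G) := by
        rintro x ⟨y, hy, rfl⟩
        rw [Subgroup.mem_centralizer_iff]
        intro k hk
        have hy' := hFc hy
        rw [Subgroup.mem_centralizer_iff] at hy'
        have hk' : g * k * g⁻¹ ∈ c1 N M := by
          rw [h.hK]
          exact ⟨k, hk, rfl⟩
        have h3 := hy' _ hk'
        simp only [MulEquiv.coe_toMonoidHom, MulAut.conj_apply, inv_inv]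
        have e1 : k * (g⁻¹ * y * g) = g⁻¹ * ((g * k * g⁻¹) * y) * g := by group
        have e2 : g⁻¹ * y * g * k = g⁻¹ * (y * (g * k * g⁻¹)) * g := by group
        rw [e1, e2, h3]
      exact Cfsg.Agent.Lib.Helper3_Kn_STEP5C.step5c h hc hFne hFM hFc'
  have h2 : c1 M N ⊓ c1 N M ≤ c2 M N := by
    unfold c2
    exact le_relCore (inf_le_left.trans (c1_le_left M N)) le_rfl key
  rw [hc] at h2
  exact eq_bot_iff.mpr h2

theorem step5 {d : ℕ} {M N : Subgroup G} {g : G} (h : Sym d M N g)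
    (hc : c2 M N = ⊥ ∨ c2 N M = ⊥) : c1 M N ⊓ c1 N M = ⊥ := by
  rcases hc with hc | hc
  · exact step5_aux h hc
  · rw [inf_comm]
    exact step5_aux (Cfsg.Agent.Lib.Helper49_Kn_BASIC.sym_symm h) hc

theorem main_abs {d : ℕ} {M N : Subgroup G} {g : G} (h : Cfg d M N g) :
    (2 * Nat.card M = d.factorial * Nat.card (c1 M N) ∧
        Nonempty (↥M ≃* alternatingGroup (Fin d) × alternatingGroup (Fin (d - 1)))) ∨
      (Nat.card M = d.factorial * Nat.card (c1 M N) ∧
        (Nonempty (↥M ≃* Equiv.Perm (Fin d) × Equiv.Perm (Fin (d - 1))) ∨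
          Nonempty (↥M ≃* EvenPairs d))) := by
  have hs : Sym d M N g := Cfsg.Agent.Lib.Helper89_Kn_STEP4.step4 h (step3 h)
  have hX : c1 M N ⊓ c1 N M = ⊥ := step5 hs (Cfsg.Agent.Lib.Helper2_Kn_TWALT.tw_alt h)
  obtain ⟨R, hR, hRK, hcard⟩ := Cfsg.Agent.Lib.Helper49_Kn_STEP6B.step6b hs hX
  exact fin_rel h.hd h.as hR hRK hcard

/-- S3687 -/
theorem result {G Ω : Type*} [Group G] [Finite G] [MulAction G Ω] [FaithfulSMul G Ω] [Finite Ω]
    (hprim : MulAction.IsPreprimitive G Ω) (a b : Ω) (d : ℕ) (hd : Nat.card (MulAction.orbit (MulAction.stabilizer G a) b) = d) (h6 : 6 ≤ d)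
    (halt : (MulAction.toPermHom (MulAction.stabilizer G a) (MulAction.orbit (MulAction.stabilizer G a) b)).range.index ≤ 2)
    (hunf : ¬ Function.Injective (MulAction.toPermHom (MulAction.stabilizer G a) (MulAction.orbit (MulAction.stabilizer G a) b))) :
    ((MulAction.toPermHom (MulAction.stabilizer G a) (MulAction.orbit (MulAction.stabilizer G a) b)).range.index = 2 ∧
      Nonempty (MulAction.stabilizer G a ≃* alternatingGroup (Fin d) × alternatingGroup (Fin (d - 1)))) ∨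
    ((MulAction.toPermHom (MulAction.stabilizer G a) (MulAction.orbit (MulAction.stabilizer G a) b)).range = ⊤ ∧
      (Nonempty (MulAction.stabilizer G a ≃* Equiv.Perm (Fin d) × Equiv.Perm (Fin (d - 1))) ∨
       Nonempty (MulAction.stabilizer G a ≃* Equiv.Perm (Fin d) × alternatingGroup (Fin (d - 1))) ∨
       Nonempty (MulAction.stabilizer G a ≃* ((Equiv.Perm.sign.comp (MonoidHom.fst (Equiv.Perm (Fin d)) (Equiv.Perm (Fin (d - 1))))) *
         (Equiv.Perm.sign.comp (MonoidHom.snd (Equiv.Perm (Fin d)) (Equiv.Perm (Fin (d - 1)))))).ker))) := by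
  obtain ⟨g, hcfg⟩ := Cfsg.Agent.Lib.Helper58_Kn_BRCFG.bridge_cfg hprim a b d hd h6 halt hunf
  obtain ⟨hi1, hi2⟩ := Cfsg.Agent.Lib.Helper58_Kn_BRIDX.bridge_index (G := G) a b d hd
  rcases main_abs hcfg with ⟨h1, h2⟩ | ⟨h1, h2⟩
  · exact Or.inl ⟨hi1 h1, h2⟩
  · refine Or.inr ⟨hi2 h1, ?_⟩
    rcases h2 with h2 | h2
    · exact Or.inl h2
    · exact Or.inr (Or.inr h2)

end Cfsg.Agent.S3687
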