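import Cfsg.Statements.S3696

set_option autoImplicit false
open Cfsg

namespace Cfsg.Agent.S3696

open Equiv


theorem two_term_real (x y : ℝ) (a b : ℕ) (hx : 0 ≤ x) (hy : 0 ≤ y) (ha : 0 < a) (hb : 0 < b) :
    x ^ a * y ^ b * ((a : ℝ) + b) ^ (a + b) ≤ (x + y) ^ (a + b) * ((a : ℝ) ^ a * (b : ℝ) ^ b) := by
  have hap : (0 : ℝ) < a := by exact_mod_cast ha
  have hbp : (0 : ℝ) < b := by exact_mod_cast hb
  have hab : (0 : ℝ) < (a : ℝ) + b := by positivity
  have h := Real.geom_mean_le_arith_mean2_weighted (w₁ := (a : ℝ) / (a + b)) (w₂ := (b : ℝ) / (a + b))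
    (p₁ := x / a) (p₂ := y / b) (by positivity) (by positivity) (by positivity) (by positivity)
    (by field_simp)
  have hrhs : (a : ℝ) / (a + b) * (x / a) + (b : ℝ) / (a + b) * (y / b) = (x + y) / (a + b) := by
    field_simp
  rw [hrhs] at h
  have h2 := pow_le_pow_left₀ (by positivity) h (a + b)
  have e1 : ((x / a) ^ ((a : ℝ) / (a + b))) ^ (a + b) = (x / a) ^ a := by
    rw [← Real.rpow_natCast, ← Real.rpow_mul (by positivity)]
    have : (a : ℝ) / (a + b) * ((a + b : ℕ) : ℝ) = a := by push_cast; field_simp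
    rw [this, Real.rpow_natCast]
  have e2 : ((y / b) ^ ((b : ℝ) / (a + b))) ^ (a + b) = (y / b) ^ b := by
    rw [← Real.rpow_natCast, ← Real.rpow_mul (by positivity)]
    have : (b : ℝ) / (a + b) * ((a + b : ℕ) : ℝ) = b := by push_cast; field_simp
    rw [this, Real.rpow_natCast]
  rw [mul_pow, e1, e2, div_pow, div_pow, div_pow] at h2
  have h3 : x ^ a * y ^ b / ((a : ℝ) ^ a * (b : ℝ) ^ b) ≤ (x + y) ^ (a + b) / ((a : ℝ) + b) ^ (a + b) := by
    calc x ^ a * y ^ b / ((a : ℝ) ^ a * (b : ℝ) ^ b) = x ^ a / (a : ℝ) ^ a * (y ^ b / (b : ℝ) ^ b) := by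
          field_simp
      _ ≤ _ := h2
  rw [div_le_div_iff₀ (by positivity) (by positivity)] at h3
  exact h3

theorem two_term (x y a b : ℕ) :
    x ^ a * y ^ b * (a + b) ^ (a + b) ≤ (x + y) ^ (a + b) * (a ^ a * b ^ b) := by
  rcases Nat.eq_zero_or_pos a with rfl | ha
  · simp only [pow_zero, one_mul, zero_add]
    have : y ^ b ≤ (x + y) ^ b := Nat.pow_le_pow_left (by omega) b
    exact Nat.mul_le_mul_right _ this
  rcases Nat.eq_zero_or_pos b with rfl | hb
  · simp only [pow_zero, mul_one, add_zero]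
    have : x ^ a ≤ (x + y) ^ a := Nat.pow_le_pow_left (by omega) a
    exact Nat.mul_le_mul_right _ this
  have h := two_term_real (x : ℝ) (y : ℝ) a b (by positivity) (by positivity) ha hb
  have : ((x ^ a * y ^ b * (a + b) ^ (a + b) : ℕ) : ℝ) ≤ (((x + y) ^ (a + b) * (a ^ a * b ^ b) : ℕ) : ℝ) := by
    push_cast
    exact h
  exact_mod_cast this

/-- numeric step -/
theorem num_step (M s n' k' d : ℕ) (hd : 1 ≤ d) (hs : 2 ^ d ≤ s) (hM : M * k' ^ k' ≤ n' ^ k') :
    M * s * (k' + d) ^ (k' + d) ≤ (n' + s) ^ (k' + d) := by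
  have hdd : d ^ d ≤ s ^ (d - 1) := by
    have h1 : d ≤ 2 ^ (d - 1) := by
      have := Nat.lt_two_pow_self (n := d - 1)
      omega
    calc d ^ d ≤ (2 ^ (d - 1)) ^ d := Nat.pow_le_pow_left h1 d
      _ = (2 ^ d) ^ (d - 1) := by rw [← pow_mul, ← pow_mul, mul_comm]
      _ ≤ s ^ (d - 1) := Nat.pow_le_pow_left hs _
  have hsd : s * d ^ d ≤ s ^ d := by
    calc s * d ^ d ≤ s * s ^ (d - 1) := Nat.mul_le_mul_left _ hdd
      _ = s ^ d := by rw [← pow_succ']; congr 1; omega
  have h2 := two_term n' s k' d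
  have hk'pos : 0 < k' ^ k' := by
    rcases Nat.eq_zero_or_pos k' with rfl | h
    · simp
    · positivity
  have hdpos : 0 < d ^ d := by positivity
  -- multiply target by k'^k' * d^d
  have key : M * s * (k' + d) ^ (k' + d) * (k' ^ k' * d ^ d) ≤ (n' + s) ^ (k' + d) * (k' ^ k' * d ^ d) := by
    calc M * s * (k' + d) ^ (k' + d) * (k' ^ k' * d ^ d)
        = (M * k' ^ k') * (s * d ^ d) * (k' + d) ^ (k' + d) := by ring
      _ ≤ n' ^ k' * s ^ d * (k' + d) ^ (k' + d) := by
          apply Nat.mul_le_mul_right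
          exact Nat.mul_le_mul hM hsd
      _ ≤ _ := h2
  exact Nat.le_of_mul_le_mul_right key (by positivity)



/-- elements of order dividing `p` in a commutative subgroup -/
def omegaSub {Ω : Type*} (p : ℕ) (B : Subgroup (Perm Ω)) (hc : ∀ a ∈ B, ∀ b ∈ B, a * b = b * a) :
    Subgroup (Perm Ω) where
  carrier := {x | x ∈ B ∧ x ^ p = 1}
  mul_mem' := by
    rintro x y ⟨hx, hx'⟩ ⟨hy, hy'⟩
    refine ⟨B.mul_mem hx hy, ?_⟩
    have : Commute x y := hc x hx y hy
    rw [this.mul_pow, hx', hy', one_mul]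
  one_mem' := ⟨B.one_mem, one_pow _⟩
  inv_mem' := by
    rintro x ⟨hx, hx'⟩
    exact ⟨B.inv_mem hx, by rw [inv_pow, hx', inv_one]⟩

theorem mem_omegaSub {Ω : Type*} {p : ℕ} {B : Subgroup (Perm Ω)}
    {hc : ∀ a ∈ B, ∀ b ∈ B, a * b = b * a}
    {x : Perm Ω} : x ∈ omegaSub p B hc ↔ x ∈ B ∧ x ^ p = 1 := Iff.rfl

theorem omegaSub_le {Ω : Type*} {p : ℕ} {B : Subgroup (Perm Ω)}
    {hc : ∀ a ∈ B, ∀ b ∈ B, a * b = b * a} :
    omegaSub p B hc ≤ B := fun _ hx => hx.1

theorem card_mul_relIndex {G : Type*} [Group G] {K B : Subgroup G} (h : K ≤ B) :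
    Nat.card K * K.relIndex B = Nat.card B := by
  have := Subgroup.relIndex_mul_relIndex (⊥ : Subgroup G) K B bot_le h
  rwa [Subgroup.relIndex_bot_left, Subgroup.relIndex_bot_left] at this

theorem main (p : ℕ) [hp : Fact p.Prime] {Ω : Type*} [Fintype Ω] [DecidableEq Ω] :
    ∀ (m : ℕ) (B : Subgroup (Perm Ω)) (U : Finset Ω), U.card = m → IsPGroup p B →
      ∀ (hc : ∀ a ∈ B, ∀ b ∈ B, a * b = b * a), (∀ b ∈ B, ∀ u ∈ U, b u ∈ U) →
      (∀ b ∈ B, (∀ u ∈ U, b u = u) → b = 1) →
      ∀ r, Nat.card (omegaSub p B hc) = p ^ r → Nat.card B * r ^ r ≤ m ^ r := by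
  intro m
  induction m using Nat.strong_induction_on with
  | _ m ih =>
  intro B U hU hB hc hinv hfaith r hr
  classical
  rcases U.eq_empty_or_nonempty with rfl | ⟨u, hu⟩
  · have hB1 : B = ⊥ := by
      rw [eq_bot_iff]; intro b hb; exact (Subgroup.mem_bot).2 (hfaith b hb (by simp))
    have hW : omegaSub p B hc = ⊥ := by
      rw [eq_bot_iff]; intro x hx; rw [← hB1]; exact hx.1
    rw [hW, Subgroup.card_bot] at hr
    have hr0 : r = 0 := by
      by_contra h
      have : 1 < p ^ r := Nat.one_lt_pow h hp.out.one_lt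
      omega
    subst hr0
    rw [hB1, Subgroup.card_bot]; simp
  -- nonempty case
  set O : Finset Ω := U.filter (fun w => ∃ b ∈ B, b u = w) with hO
  set U' : Finset Ω := U.filter (fun w => ¬ ∃ b ∈ B, b u = w) with hU'
  have huO : u ∈ O := by
    rw [hO, Finset.mem_filter]; exact ⟨hu, 1, B.one_mem, rfl⟩
  have hcard : O.card + U'.card = U.card := Finset.card_filter_add_card_filter_not _
  have hOpos : 0 < O.card := Finset.card_pos.2 ⟨u, huO⟩
  have hlt : U'.card < m := by omega
  -- invariance of U'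
  have hinv' : ∀ b ∈ B, ∀ w ∈ U', b w ∈ U' := by
    intro b hb w hw
    rw [hU', Finset.mem_filter] at hw ⊢
    refine ⟨hinv b hb w hw.1, ?_⟩
    rintro ⟨c, hc', hcw⟩
    apply hw.2
    refine ⟨b⁻¹ * c, B.mul_mem (B.inv_mem hb) hc', ?_⟩
    rw [Perm.mul_apply, hcw]; simp
  by_cases hcase : ∀ b ∈ B, (∀ w ∈ U', b w = w) → b = 1
  · -- faithful on the smaller set
    have := ih U'.card hlt B U' rfl hB hc hinv' hcase r hr
    exact this.trans (Nat.pow_le_pow_left hlt.le r)
  · push Not at hcase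
    obtain ⟨b₀, hb₀, hb₀fix, hb₀ne⟩ := hcase
    -- the stabilizer
    set K : Subgroup (Perm Ω) := B ⊓ MulAction.stabilizer (Perm Ω) u with hK
    have hKB : K ≤ B := inf_le_left
    have hKmem : ∀ x, x ∈ K ↔ x ∈ B ∧ x u = u := by
      intro x; rw [hK, Subgroup.mem_inf, MulAction.mem_stabilizer_iff, Perm.smul_def]
    have hcK : ∀ a ∈ K, ∀ b ∈ K, a * b = b * a := fun a ha b hb => hc a (hKB ha) b (hKB hb)
    have hKO : ∀ k ∈ K, ∀ w ∈ O, k w = w := by
      intro k hk w hw
      rw [hO, Finset.mem_filter] at hw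
      obtain ⟨-, b, hb, rfl⟩ := hw
      have h1 : k * b = b * k := hc k (hKB hk) b hb
      have : (k * b) u = (b * k) u := by rw [h1]
      rw [Perm.mul_apply, Perm.mul_apply, ((hKmem k).1 hk).2] at this
      exact this
    have hUsplit : ∀ w ∈ U, w ∈ O ∨ w ∈ U' := by
      intro w hw
      by_cases h : ∃ b ∈ B, b u = w
      · left; rw [hO, Finset.mem_filter]; exact ⟨hw, h⟩
      · right; rw [hU', Finset.mem_filter]; exact ⟨hw, h⟩
    have hKfaith : ∀ k ∈ K, (∀ w ∈ U', k w = w) → k = 1 := by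
      intro k hk hfix
      apply hfaith k (hKB hk)
      intro w hw
      rcases hUsplit w hw with h | h
      · exact hKO k hk w h
      · exact hfix w h
    have hKinv : ∀ k ∈ K, ∀ w ∈ U', k w ∈ U' := fun k hk => hinv' k (hKB hk)
    have hKp : IsPGroup p K := hB.to_le hKB
    -- cards
    have hWKp : IsPGroup p (omegaSub p K hcK) := hB.to_le (omegaSub_le.trans hKB)
    obtain ⟨rK, hrK⟩ := hWKp.exists_card_eq
    have ihK := ih U'.card hlt K U' rfl hKp hcK hKinv hKfaith rK hrK
    -- relIndex = orbit size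
    have hrel : K.relIndex B = O.card := by
      have h1 : K.subgroupOf B = MulAction.stabilizer B u := by
        ext ⟨x, hx⟩
        rw [Subgroup.mem_subgroupOf, MulAction.mem_stabilizer_iff]
        simp only [hKmem, hx, true_and]
        rfl
      rw [Subgroup.relIndex, h1, MulAction.index_stabilizer]
      have h2 : MulAction.orbit B u = (O : Set Ω) := by
        ext w
        rw [MulAction.mem_orbit_iff, Finset.mem_coe, hO, Finset.mem_filter]
        constructor
        · rintro ⟨⟨b, hb⟩, rfl⟩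
          exact ⟨hinv b hb u hu, b, hb, rfl⟩
        · rintro ⟨-, b, hb, rfl⟩
          exact ⟨⟨b, hb⟩, rfl⟩
      rw [h2, Set.ncard_coe_finset]
    have hcardB : Nat.card K * O.card = Nat.card B := by
      rw [← hrel]; exact card_mul_relIndex hKB
    -- omega
    have hWeq : omegaSub p K hcK = omegaSub p B hc ⊓ K := by
      ext x
      rw [Subgroup.mem_inf, mem_omegaSub, mem_omegaSub]
      constructor
      · rintro ⟨h1, h2⟩; exact ⟨⟨hKB h1, h2⟩, h1⟩
      · rintro ⟨⟨-, h2⟩, h1⟩; exact ⟨h1, h2⟩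
    have hWle : omegaSub p K hcK ≤ omegaSub p B hc := by rw [hWeq]; exact inf_le_left
    have hX := card_mul_relIndex hWle
    rw [hrK, hr] at hX
    have hXle : (omegaSub p K hcK).relIndex (omegaSub p B hc) ≤ O.card := by
      rw [hWeq, Subgroup.inf_relIndex_left, ← hrel]
      exact Subgroup.relIndex_le_of_le_right omegaSub_le (by rw [hrel]; omega)
    -- strictness
    have hXne : (omegaSub p K hcK).relIndex (omegaSub p B hc) ≠ 1 := by
      rw [Ne, Subgroup.relIndex_eq_one]
      intro hle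
      -- element of order p in <b₀>
      obtain ⟨j, hj⟩ := (IsPGroup.iff_orderOf.1 hB) ⟨b₀, hb₀⟩
      rw [Subgroup.orderOf_mk] at hj
      have hj0 : j ≠ 0 := by
        rintro rfl
        rw [pow_zero, orderOf_eq_one_iff] at hj
        exact hb₀ne hj
      obtain ⟨i, rfl⟩ : ∃ i, j = i + 1 := ⟨j - 1, by omega⟩
      set c := b₀ ^ (p ^ i) with hc_def
      have hcB : c ∈ B := B.pow_mem hb₀ _
      have hcp : c ^ p = 1 := by
        rw [hc_def, ← pow_mul, ← pow_succ, ← hj, pow_orderOf_eq_one]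
      have hcne : c ≠ 1 := by
        intro h
        have := orderOf_dvd_of_pow_eq_one h
        rw [hj] at this
        have := Nat.le_of_dvd (pow_pos hp.out.pos i) this
        have h2 : p ^ i < p ^ (i + 1) := Nat.pow_lt_pow_right hp.out.one_lt (by omega)
        omega
      have hcfix : ∀ w ∈ U', c w = w := by
        intro w hw
        have : ∀ n : ℕ, (b₀ ^ n) w = w := by
          intro n
          induction n with
          | zero => simp
          | succ n ihn => rw [pow_succ, Perm.mul_apply, hb₀fix w hw, ihn]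
        exact this _
      have hcW : c ∈ omegaSub p B hc := ⟨hcB, hcp⟩
      have hcK' : c ∈ K := (hle hcW).1
      exact hcne (hKfaith c hcK' hcfix)
    -- exponent arithmetic
    have hrKr : rK ≤ r := by
      have hdvd : p ^ rK ∣ p ^ r := Dvd.intro _ hX
      exact (Nat.pow_dvd_pow_iff_le_right hp.out.one_lt).1 hdvd
    obtain ⟨d, rfl⟩ := Nat.exists_eq_add_of_le hrKr
    have hXd : (omegaSub p K hcK).relIndex (omegaSub p B hc) = p ^ d := by
      rw [pow_add] at hX
      exact Nat.eq_of_mul_eq_mul_left (by have := hp.out.pos; positivity) hX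
    have hd1 : 1 ≤ d := by
      rcases Nat.eq_zero_or_pos d with rfl | h
      · exact absurd (by rw [hXd, pow_zero]) hXne
      · exact h
    have hs : 2 ^ d ≤ O.card := by
      calc 2 ^ d ≤ p ^ d := Nat.pow_le_pow_left hp.out.two_le d
        _ ≤ O.card := by rw [← hXd]; exact hXle
    have := num_step (Nat.card K) O.card U'.card rK d hd1 hs ihK
    rw [← hcardB]
    calc Nat.card K * O.card * (rK + d) ^ (rK + d) ≤ (U'.card + O.card) ^ (rK + d) := this
      _ = m ^ (rK + d) := by rw [← hU, ← hcard, add_comm]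

/-- Let p be a prime, Ω a finite set with n ≥ p elements, and A an abelian p-subgroup of the symmetric group on Ω whose elements of order dividing p number p^k (so k is the rank of A). Then |A| · k^k ≤ n^k, that is, |A| ≤ (n/k)^k. -/
theorem result {Ω : Type*} [Fintype Ω] [DecidableEq Ω]
    (p : ℕ) (hp : p.Prime) (hn : p ≤ Fintype.card Ω) (A : Subgroup (Equiv.Perm Ω)) (hA : IsPGroup p A) (hab : IsMulCommutative A)
    (k : ℕ) (hk : Nat.card {x : A // x ^ p = 1} = p ^ k) :
    Nat.card A * k ^ k ≤ Fintype.card Ω ^ k := by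
  haveI : Fact p.Prime := ⟨hp⟩
  have hc : ∀ a ∈ A, ∀ b ∈ A, a * b = b * a := by
    intro a ha b hb
    have := hab.is_comm.comm (⟨a, ha⟩ : A) ⟨b, hb⟩
    exact congrArg Subtype.val this
  have hcardW : Nat.card (omegaSub p A hc) = p ^ k := by
    rw [← hk]
    refine Nat.card_congr ?_
    exact
      { toFun := fun x => ⟨⟨x.1, x.2.1⟩, Subtype.ext x.2.2⟩
        invFun := fun x => ⟨x.1.1, x.1.2, congrArg Subtype.val x.2⟩
        left_inv := fun x => rfl
        right_inv := fun x => rfl }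
  have := main p (Fintype.card Ω) A Finset.univ Finset.card_univ hA hc
    (fun _ _ _ _ => Finset.mem_univ _)
    (fun b _ hfix => Equiv.ext fun w => hfix w (Finset.mem_univ w)) k hcardW
  exact this

end Cfsg.Agent.S3696
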