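import Cfsg.Statements.S3701
import Cfsg.Agent.Lib.Helper17_H27Defs
import Cfsg.Agent.Lib.Helper2_H27_LOC
import Cfsg.Agent.Lib.Helper43_H27_FUS27
import Cfsg.Agent.Lib.Helper60_H27_CENT27
import Cfsg.Agent.Lib.Helper26_H27_CNT27
import Cfsg.Agent.Lib.Helper26_H27_EQ27
import Cfsg.Agent.Lib.Helper33_H27_MULT1
import Cfsg.Agent.Lib.Helper51_H27_LAM
import Cfsg.Agent.Lib.Helper93_H27_PAIR
import Cfsg.Agent.Lib.Helper93_H27_FIN
import Cfsg.Agent.Lib.Helper82_H27_TI27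

set_option autoImplicit false
open Cfsg

namespace Cfsg.Agent.S3701

open Cfsg.Agent.Lib.Helper17_H27Defs

/-- Let H₀ ≤ Sym(9) be generated by the 3-cycles (1 2 3), (4 5 6), (7 8 9) and the involutions (1 2)(4 5), (1 2)(7 8) (a group of order 108, elementary abelian of order 27 extended by a four-group). Let G be a finite group with a subgroup H ≅ H₀, and T ≤ H of order 27 (a Sylow 3-subgroup of H) with N_G(T) = H and C_G(t) ≤ H for every t ≠ 1 in T. Then G = H. -/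
theorem result {G : Type*} [Group G] [Finite G] (H : Subgroup G)
    (hH : Nonempty (↥H ≃* ↥(Subgroup.closure ({Equiv.swap (0 : Fin 9) 1 * Equiv.swap 1 2, Equiv.swap (3 : Fin 9) 4 * Equiv.swap 4 5, Equiv.swap (6 : Fin 9) 7 * Equiv.swap 7 8,
        Equiv.swap (0 : Fin 9) 1 * Equiv.swap 3 4, Equiv.swap (0 : Fin 9) 1 * Equiv.swap 6 7} : Set (Equiv.Perm (Fin 9))))))
    (T : Subgroup G) (hTH : T ≤ H) (hT : Nat.card T = 27) (hN : Subgroup.normalizer (T : Set G) = H)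
    (hC : ∀ t ∈ T, t ≠ 1 → Subgroup.centralizer ({t} : Set G) ≤ H) : H = ⊤ := by
  obtain ⟨a, b, c, u, v, h⟩ :=
    Cfsg.Agent.Lib.Helper2_H27_LOC.exists_hyp H hH T hTH hT hN hC
  by_contra hne
  -- the lower bound `729 ≤ |G|` (TI27)
  have h1 := Cfsg.Agent.Lib.Helper82_H27_TI27.card_ge h (by rw [hN]; exact hne)
  -- fusion in `T` (FUS27) and `|C(z)| = 27` (CENT27)
  have hnc := Cfsg.Agent.Lib.Helper43_H27_FUS27.not_conj h
  have hreal := Cfsg.Agent.Lib.Helper43_H27_FUS27.real_of h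
  have hprod := Cfsg.Agent.Lib.Helper43_H27_FUS27.conj_of_prod h
  have hcent := Cfsg.Agent.Lib.Helper60_H27_CENT27.card_cent_z h
  -- the two class-multiplication counts (CNT27) and their character form (EQ27)
  have hcnt := Cfsg.Agent.Lib.Helper26_H27_CNT27.counts_of_fus h
    (fun {t} ht => Cfsg.Agent.Lib.Helper43_H27_FUS27.conj_z h ht)
    (fun {t} ht => Cfsg.Agent.Lib.Helper43_H27_FUS27.conj_zinv h ht) hnc
  have hceq := Cfsg.Agent.Lib.Helper26_H27_EQ27.class_eq_of_counts h hcnt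
  -- the multiplicity argument (MULT1, LAM) and the pair `θ, θ̄` (PAIR)
  have hlam : ∀ χ : IrrCharacter G, ∃ k : ℤ,
      ((χ : G → ℂ) (a * b * c) - (χ : G → ℂ) (a * b * c)⁻¹) ^ 2 = -27 * (k : ℂ) ^ 2 :=
    fun χ => Cfsg.Agent.Lib.Helper51_H27_LAM.lam_aux h χ
      (fun ζ hζ => Cfsg.Agent.Lib.Helper33_H27_MULT1.mult_nat h χ ζ hζ) hreal hprod
  have hpair := Cfsg.Agent.Lib.Helper93_H27_PAIR.pair_aux hlam hcent hnc
  -- the upper bound `|G| < 729` (FIN)
  have h2 := Cfsg.Agent.Lib.Helper93_H27_FIN.card_lt_aux h hreal hpair hceq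
  omega

end Cfsg.Agent.S3701
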