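import Mathlib
import Cfsg.Statements.S3703
import Cfsg.Agent.S0001
import Cfsg.Agent.Lib.Helper1_Transport
import Cfsg.Agent.Lib.Helper24_CoprimeAction

set_option autoImplicit false

namespace Cfsg.Agent.S3703

open scoped Pointwise IsMulCommutative commutatorElement

section norm

variable {G : Type*} [Group G]

/-- `(v g)^k = (∏_{i<k} g^i v g^{-i}) g^k` for `v` in an abelian normal subgroup. -/
theorem mul_pow_eq_norm (V : Subgroup G) [V.Normal] [IsMulCommutative V]
    (v : V) (g : G) (k : ℕ) :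
    ((v : G) * g) ^ k = ((∏ i ∈ Finset.range k, MulAut.conjNormal (g ^ i) v : V) : G) * g ^ k := by
  induction k with
  | zero => simp
  | succ k ih =>
    rw [pow_succ, ih, Finset.prod_range_succ, Subgroup.coe_mul, MulAut.conjNormal_apply, pow_succ]
    group

/-- If `(v g)^h = 1` and `g^h = 1` then the norm of `v` along `g` is trivial. -/
theorem norm_eq_one (V : Subgroup G) [V.Normal] [IsMulCommutative V]
    (v : V) (g : G) (h : ℕ) (h1 : ((v : G) * g) ^ h = 1) (h2 : g ^ h = 1) :
    (∏ i ∈ Finset.range h, MulAut.conjNormal (g ^ i) v : V) = 1 := by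
  have := mul_pow_eq_norm V v g h
  rw [h1, h2, mul_one] at this
  exact Subtype.ext this.symm

/-- The trace identity: if all elements `v a x` (`v ∈ V`, `a ∈ R`) have `h`-th power one and the
powers of `x` act without fixed points on `R`, then the `R`-trace on `V` is the `|R|`-th power. -/
theorem trace_eq_pow (V : Subgroup G) [V.Normal] [IsMulCommutative V] (R : Subgroup G) [Finite R]
    (x : G) (hx : x ∈ Subgroup.normalizer (R : Set G)) (h' : ℕ)
    (hpow : ∀ v : V, ∀ a ∈ R, ((v : G) * (a * x)) ^ (h' + 1) = 1)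
    (hfpf : ∀ i : ℕ, ¬ (h' + 1) ∣ i → ∀ a ∈ R, x ^ i * a = a * x ^ i → a = 1)
    [Fintype R] (v : V) :
    ∏ a : R, MulAut.conjNormal (a : G) v = v ^ Fintype.card R := by
  classical
  have hxh : x ^ (h' + 1) = 1 := by
    have := hpow 1 1 R.one_mem
    simpa using this
  have hxi : ∀ i : ℕ, x ^ i ∈ Subgroup.normalizer (R : Set G) := fun i =>
    (Subgroup.normalizer (R : Set G)).pow_mem hx i
  -- step 1
  have h1 : ∏ i ∈ Finset.range (h' + 1), ∏ a : R, MulAut.conjNormal ((a : G) * x ^ i) v = 1 := by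
    rw [Finset.prod_comm]
    apply Finset.prod_eq_one
    intro a _
    have : ∀ i, MulAut.conjNormal ((a : G) * x ^ i) v
        = MulAut.conjNormal (a : G) (MulAut.conjNormal (x ^ i) v) := by
      intro i; rw [map_mul, MulAut.mul_apply]
    simp_rw [this]
    rw [← map_prod, norm_eq_one V v x (h' + 1) ?_ hxh, map_one]
    have := hpow v 1 R.one_mem
    simpa using this
  -- step 2
  have h2 : ∀ i : ℕ, ¬ (h' + 1) ∣ i → ∏ a : R, MulAut.conjNormal ((a : G) * x ^ i) v
      = ∏ b : R, MulAut.conjNormal ((b : G) * x ^ i * (b : G)⁻¹) v := by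
    intro i hi
    have hmem : ∀ b : R, (b : G) * (x ^ i * (b : G)⁻¹ * (x ^ i)⁻¹) ∈ R := fun b =>
      R.mul_mem b.2 ((Subgroup.mem_normalizer_iff.mp (hxi i) _).mp (R.inv_mem b.2))
    let σ : R → R := fun b => ⟨(b : G) * (x ^ i * (b : G)⁻¹ * (x ^ i)⁻¹), hmem b⟩
    have hσinj : Function.Injective σ := by
      intro b b' hbb
      have e : (b : G) * (x ^ i * (b : G)⁻¹ * (x ^ i)⁻¹) = (b' : G) * (x ^ i * (b' : G)⁻¹ * (x ^ i)⁻¹) :=
        congrArg Subtype.val hbb
      have hc : x ^ i * ((b' : G)⁻¹ * b) = ((b' : G)⁻¹ * b) * x ^ i := by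
        have e2 : (b' : G)⁻¹ * ((b : G) * (x ^ i * (b : G)⁻¹ * (x ^ i)⁻¹)) * (x ^ i * b)
            = (b' : G)⁻¹ * b * x ^ i := by group
        have e3 : (b' : G)⁻¹ * ((b' : G) * (x ^ i * (b' : G)⁻¹ * (x ^ i)⁻¹)) * (x ^ i * b)
            = x ^ i * ((b' : G)⁻¹ * b) := by group
        rw [← e3, ← e, e2]
      have := hfpf i hi _ (R.mul_mem (R.inv_mem b'.2) b.2) hc
      apply Subtype.ext
      have h3 : (b : G) = b' * ((b' : G)⁻¹ * b) := by group
      rw [h3, this, mul_one]
    have hσbij : Function.Bijective σ := Finite.injective_iff_bijective.mp hσinj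
    rw [← Fintype.prod_bijective σ hσbij (fun b => MulAut.conjNormal ((σ b : G) * x ^ i) v)
      (fun a => MulAut.conjNormal ((a : G) * x ^ i) v) (fun _ => rfl)]
    apply Finset.prod_congr rfl
    intro b _
    congr 2
    show (b : G) * (x ^ i * (b : G)⁻¹ * (x ^ i)⁻¹) * x ^ i = _
    group
  -- step 3
  have h3 : ∏ i ∈ Finset.range h', ∏ a : R, MulAut.conjNormal ((a : G) * x ^ (i + 1)) v
      = (v⁻¹) ^ Fintype.card R := by
    have : ∀ i ∈ Finset.range h', ∏ a : R, MulAut.conjNormal ((a : G) * x ^ (i + 1)) v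
        = ∏ b : R, MulAut.conjNormal (((b : G) * x * (b : G)⁻¹) ^ (i + 1)) v := by
      intro i hi
      rw [h2 (i + 1) ?_]
      · apply Finset.prod_congr rfl
        intro b _
        rw [conj_pow]
      · intro hd
        have := Nat.le_of_dvd (Nat.succ_pos i) hd
        have := Finset.mem_range.mp hi
        omega
    rw [Finset.prod_congr rfl this, Finset.prod_comm]
    rw [← Finset.card_univ, ← Finset.prod_const]
    apply Finset.prod_congr rfl
    intro b _
    have hgb : ((b : G) * x * (b : G)⁻¹) ^ (h' + 1) = 1 := by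
      rw [conj_pow, hxh]; group
    have hmem : (b : G) * (x * (b : G)⁻¹ * x⁻¹) ∈ R :=
      R.mul_mem b.2 ((Subgroup.mem_normalizer_iff.mp hx _).mp (R.inv_mem b.2))
    have hvb : ((v : G) * ((b : G) * x * (b : G)⁻¹)) ^ (h' + 1) = 1 := by
      have := hpow v _ hmem
      have e : (b : G) * (x * (b : G)⁻¹ * x⁻¹) * x = (b : G) * x * (b : G)⁻¹ := by group
      rwa [e] at this
    have := norm_eq_one V v ((b : G) * x * (b : G)⁻¹) (h' + 1) hvb hgb
    rw [Finset.prod_range_succ'] at this
    rw [pow_zero, map_one, MulAut.one_apply] at this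
    exact eq_inv_of_mul_eq_one_left this
  -- step 4
  rw [Finset.prod_range_succ', h3] at h1
  simp only [pow_zero, mul_one] at h1
  rw [inv_pow] at h1
  exact (inv_mul_eq_one.mp h1).symm

/-- Under the hypotheses of `trace_eq_pow` and coprimality, `R` centralizes `V`. -/
theorem centralizes_abelian (V : Subgroup G) [V.Normal] [IsMulCommutative V] [Finite V]
    (R : Subgroup G) [Finite R]
    (x : G) (hx : x ∈ Subgroup.normalizer (R : Set G)) (h' : ℕ)
    (hpow : ∀ v : V, ∀ a ∈ R, ((v : G) * (a * x)) ^ (h' + 1) = 1)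
    (hfpf : ∀ i : ℕ, ¬ (h' + 1) ∣ i → ∀ a ∈ R, x ^ i * a = a * x ^ i → a = 1)
    (hcop : (Nat.card R).Coprime (Nat.card V)) :
    ∀ v ∈ V, ∀ b ∈ R, b * v = v * b := by
  classical
  have := Fintype.ofFinite R
  intro v hv b hb
  have hT := trace_eq_pow V R x hx h' hpow hfpf ⟨v, hv⟩
  have hfix : MulAut.conjNormal b (∏ a : R, MulAut.conjNormal (a : G) (⟨v, hv⟩ : V))
      = ∏ a : R, MulAut.conjNormal (a : G) (⟨v, hv⟩ : V) := by
    rw [map_prod]
    have : ∀ a : R, MulAut.conjNormal b (MulAut.conjNormal (a : G) (⟨v, hv⟩ : V))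
        = MulAut.conjNormal (((⟨b, hb⟩ * a : R) : R) : G) (⟨v, hv⟩ : V) := by
      intro a
      rw [Subgroup.coe_mul, map_mul, MulAut.mul_apply]
    simp_rw [this]
    exact Equiv.prod_comp (Equiv.mulLeft (⟨b, hb⟩ : R))
      (fun a : R => MulAut.conjNormal (a : G) (⟨v, hv⟩ : V))
  rw [hT, map_pow] at hfix
  set w : V := MulAut.conjNormal b (⟨v, hv⟩ : V) with hw
  have hu : (w * (⟨v, hv⟩ : V)⁻¹) ^ Fintype.card R = 1 := by
    rw [mul_pow, hfix, inv_pow, mul_inv_cancel]
  have h1 : orderOf (w * (⟨v, hv⟩ : V)⁻¹) ∣ Nat.card R := by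
    rw [Nat.card_eq_fintype_card]; exact orderOf_dvd_of_pow_eq_one hu
  have h2 : orderOf (w * (⟨v, hv⟩ : V)⁻¹) ∣ Nat.card V := orderOf_dvd_natCard _
  have h3 : orderOf (w * (⟨v, hv⟩ : V)⁻¹) ∣ 1 := by
    have := Nat.dvd_gcd h1 h2
    rwa [hcop] at this
  have h4 : w * (⟨v, hv⟩ : V)⁻¹ = 1 := orderOf_eq_one_iff.mp (Nat.dvd_one.mp h3)
  have h5 : w = ⟨v, hv⟩ := mul_inv_eq_one.mp h4
  have h6 := congrArg Subtype.val h5
  rw [hw, MulAut.conjNormal_apply] at h6
  simp only at h6
  calc b * v = (b * v * b⁻¹) * b := by group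
    _ = v * b := by rw [h6]

end norm

section pgroup

universe u

/-- The `p`-group case, by induction on the order via the quotient by the centre. -/
theorem pgroup_case (p : ℕ) [Fact p.Prime] : ∀ k : ℕ, ∀ (G : Type u) [Group G] [Finite G]
    (N R : Subgroup G) [N.Normal] (x : G) (h' : ℕ), Nat.card N = k → IsPGroup p N →
    (Nat.card R).Coprime (Nat.card N) → x ∈ Subgroup.normalizer (R : Set G) →
    (∀ i : ℕ, ¬ (h' + 1) ∣ i → ∀ a ∈ R, x ^ i * a * (x ^ i)⁻¹ * a⁻¹ ∈ N → a = 1) →
    (∀ n ∈ N, ∀ a ∈ R, (n * (a * x)) ^ (h' + 1) = 1) →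
    ∀ n ∈ N, ∀ a ∈ R, a * n = n * a := by
  intro k
  induction k using Nat.strong_induction_on with
  | _ k ih =>
  intro G _ _ N R _ x h' hk hN hcop hx hfpf hpow
  by_cases hN1 : N = ⊥
  · intro n hn a _
    rw [hN1, Subgroup.mem_bot] at hn
    rw [hn, mul_one, one_mul]
  -- the centre of `N`
  set V : Subgroup G := (Subgroup.center N).map N.subtype with hVdef
  have hVN : V ≤ N := Subgroup.map_subtype_le _
  have hVnormal : V.Normal := ConjAct.normal_of_characteristic_of_normal
  have hVcomm : ∀ u ∈ V, ∀ w ∈ V, u * w = w * u := by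
    rintro _ ⟨u, hu, rfl⟩ _ ⟨w, _, rfl⟩
    have := (Subgroup.mem_center_iff.mp hu w)
    have h2 := congrArg Subtype.val this
    simpa using h2.symm
  have : IsMulCommutative V := ⟨⟨fun a b => Subtype.ext (hVcomm a a.2 b b.2)⟩⟩
  have hVne : V ≠ ⊥ := by
    have : Nontrivial N := (Subgroup.nontrivial_iff_ne_bot N).mpr hN1
    have := hN.center_nontrivial
    intro hV
    rw [hVdef, Subgroup.map_eq_bot_iff_of_injective _ N.subtype_injective] at hV
    exact (Subgroup.nontrivial_iff_ne_bot _).mp inferInstance hV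
  -- `R` centralizes `V`
  have hRV : ∀ v ∈ V, ∀ b ∈ R, b * v = v * b := by
    apply centralizes_abelian V R x hx h'
    · intro v a ha
      exact hpow v (hVN v.2) a ha
    · intro i hi a ha hc
      apply hfpf i hi a ha
      have : x ^ i * a * (x ^ i)⁻¹ * a⁻¹ = 1 := by rw [hc]; group
      rw [this]; exact N.one_mem
    · exact Nat.Coprime.coprime_dvd_right (Subgroup.card_dvd_of_le hVN) hcop
  -- the quotient
  set π := QuotientGroup.mk' V with hπ
  have hπs : Function.Surjective π := QuotientGroup.mk'_surjective V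
  have : (N.map π).Normal := Subgroup.Normal.map inferInstance π hπs
  have hker : π.ker ≤ N := by rw [hπ, QuotientGroup.ker_mk']; exact hVN
  have hcard : Nat.card (N.map π) * Nat.card V = Nat.card N :=
    Cfsg.Agent.Lib.Helper1_Transport.card_map_mk'_of_le V N hVN
  have hlt : Nat.card (N.map π) < k := by
    rw [← hk, ← hcard]
    have h1 : 1 < Nat.card V := by
      rw [Subgroup.one_lt_card_iff_ne_bot]; exact hVne
    have h2 : 0 < Nat.card (N.map π) := Nat.card_pos
    nlinarith
  have hmemN : ∀ g : G, π g ∈ N.map π ↔ g ∈ N := by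
    intro g
    rw [← Subgroup.mem_comap, Subgroup.comap_map_eq_self hker]
  have hquot := ih (Nat.card (N.map π)) hlt (G ⧸ V) (N.map π) (R.map π) (π x) h' rfl
    (hN.map π)
    (Nat.Coprime.coprime_dvd_left (Subgroup.card_map_dvd R π)
      (Nat.Coprime.coprime_dvd_right (Subgroup.card_map_dvd N π) hcop))
    (Subgroup.le_normalizer_map π ⟨x, hx, rfl⟩)
    (by
      rintro i hi _ ⟨a, ha, rfl⟩ hmem
      have : π (x ^ i * a * (x ^ i)⁻¹ * a⁻¹) ∈ N.map π := by
        simpa using hmem
      rw [hmemN] at this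
      rw [hfpf i hi a ha this, map_one])
    (by
      rintro _ ⟨n, hn, rfl⟩ _ ⟨a, ha, rfl⟩
      rw [← map_mul, ← map_mul, ← map_pow, hpow n hn a ha, map_one])
  -- `[N, R] ≤ V`
  have hcomm : ⁅N, R⁆ ≤ V := by
    rw [Subgroup.commutator_le]
    intro n hn a ha
    have h1 := hquot (π n) ⟨n, hn, rfl⟩ (π a) ⟨a, ha, rfl⟩
    have h2 : π ⁅n, a⁆ = 1 := by
      rw [map_commutatorElement, commutatorElement_eq_one_iff_commute]
      exact h1.symm
    have h3 : ⁅n, a⁆ ∈ π.ker := h2
    rwa [hπ, QuotientGroup.ker_mk'] at h3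
  -- coprime decomposition
  have : Finite N := inferInstance
  have : Group.IsNilpotent N := hN.isNilpotent
  have hsolv : Group.IsSolvable N := inferInstance
  have hRN : R ≤ Subgroup.normalizer (N : Set G) := by
    rw [Subgroup.normalizer_eq_top]; exact le_top
  intro n hn a ha
  obtain ⟨d, hd, c, hc, rfl⟩ := Cfsg.Agent.Lib.Helper24_CoprimeAction.coprime_decomp R N hRN hcop
    (Or.inr hsolv) hn
  have hc2 := (Subgroup.mem_inf.mp hc).2
  rw [Subgroup.mem_centralizer_iff] at hc2
  have h1 := hRV d (hcomm hd) a ha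
  have h2 := hc2 a ha
  calc a * (d * c) = (a * d) * c := by group
    _ = d * (a * c) := by rw [h1]; group
    _ = d * c * a := by rw [h2]; group

end pgroup

section general

universe u

open Cfsg.Agent.Lib.Helper24_CoprimeAction Cfsg.Agent.S0001 in
/-- The general case: reduce to invariant Sylow subgroups of `N`. -/
theorem general_case {G : Type u} [Group G] [Finite G] (N R : Subgroup G) [N.Normal] (x : G)
    (h' : ℕ) (r : ℕ) [Fact r.Prime] (hR : IsPGroup r R)
    (hcop : (Nat.card R).Coprime (Nat.card N)) (hx : x ∈ Subgroup.normalizer (R : Set G))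
    (hfpf : ∀ i : ℕ, ¬ (h' + 1) ∣ i → ∀ a ∈ R, x ^ i * a * (x ^ i)⁻¹ * a⁻¹ ∈ N → a = 1)
    (hpow : ∀ n ∈ N, ∀ a ∈ R, (n * (a * x)) ^ (h' + 1) = 1) :
    ∀ n ∈ N, ∀ a ∈ R, a * n = n * a := by
  have hRnil : Group.IsNilpotent R := hR.isNilpotent
  have hRsolv : Group.IsSolvable R := inferInstance
  have hRN : R ≤ Subgroup.normalizer (N : Set G) := by
    rw [Subgroup.normalizer_eq_top]; exact le_top
  have hxN : x ∈ Subgroup.normalizer (N : Set G) := by
    rw [Subgroup.normalizer_eq_top]; trivial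
  have key : ∀ (p : ℕ) [Fact p.Prime], ∃ P : Sylow p N,
      sylowImage P ≤ Subgroup.centralizer (R : Set G) := by
    intro p _
    obtain ⟨P, hP⟩ := exists_invariant_sylow R N hRN hcop (Or.inl hRsolv) p
    set Q : Sylow p N := conjAut N x hxN • P with hQdef
    have hQimg : sylowImage Q = (sylowImage P).map (MulAut.conj x).toMonoidHom :=
      sylowImage_conjAut P x hxN
    have hQ : R ≤ Subgroup.normalizer ((sylowImage Q : Subgroup G) : Set G) := by
      intro a ha
      rw [mem_normalizer_iff_map_conj, hQimg, map_conj_mul]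
      have ha' : x⁻¹ * a * x ∈ R := (Subgroup.mem_normalizer_iff''.mp hx a).mp ha
      have h1 := hP ha'
      rw [mem_normalizer_iff_map_conj] at h1
      have e : a * x = x * (x⁻¹ * a * x) := by group
      rw [e, ← map_conj_mul, h1]
    obtain ⟨c, hcR, hcPQ⟩ := invariant_sylow_conj R N hRN hcop (Or.inl hRsolv) p P Q hP hQ
    refine ⟨P, ?_⟩
    have h1 : (sylowImage P).map (MulAut.conj (c : G)).toMonoidHom
        = (sylowImage P).map (MulAut.conj x).toMonoidHom := by
      rw [← sylowImage_smul, hcPQ, hQimg]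
    set P' : Subgroup G := sylowImage P with hP'def
    set T : Subgroup G := Subgroup.normalizer (P' : Set G) with hTdef
    set x' : G := (c : G)⁻¹ * x with hx'def
    have hP'T : P' ≤ T := Subgroup.le_normalizer
    have hP'N : P' ≤ N := Subgroup.map_subtype_le _
    have hx'T : x' ∈ T := by
      rw [hTdef, mem_normalizer_iff_map_conj, hx'def, ← map_conj_mul, ← h1, map_conj_mul,
        inv_mul_cancel]
      exact map_conj_of_mem _ (Subgroup.one_mem _)
    have hcR' : ∀ a ∈ R, a * (c : G) = (c : G) * a := Subgroup.mem_centralizer_iff.mp hcR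
    have hcRn : (c : G) ∈ Subgroup.normalizer (R : Set G) := by
      rw [Subgroup.mem_normalizer_iff]
      intro g
      constructor
      · intro hg
        have : (c : G) * g * (c : G)⁻¹ = g := by rw [← hcR' g hg]; group
        rwa [this]
      · intro hg
        have h2 := hcR' _ hg
        have h3 : g = (c : G)⁻¹ * ((c : G) * g * (c : G)⁻¹ * c) := by group
        rw [h2] at h3
        have h4 : (c : G)⁻¹ * ((c : G) * ((c : G) * g * (c : G)⁻¹)) = (c : G) * g * (c : G)⁻¹ := by
          group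
        rw [h4] at h3
        rw [h3]; exact hg
    have hx'R : x' ∈ Subgroup.normalizer (R : Set G) :=
      Subgroup.mul_mem _ (Subgroup.inv_mem _ hcRn) hx
    have : (P'.subgroupOf T).Normal := Subgroup.normal_in_normalizer
    have hPp : IsPGroup p (P'.subgroupOf T) := by
      have h2 : IsPGroup p P' := P.2.map N.subtype
      exact h2.comap_subtype
    have hcop' : (Nat.card (R.subgroupOf T)).Coprime (Nat.card (P'.subgroupOf T)) := by
      rw [card_subgroupOf_of_le hP, card_subgroupOf_of_le hP'T]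
      exact Nat.Coprime.coprime_dvd_right (Subgroup.card_dvd_of_le hP'N) hcop
    have hπ : (QuotientGroup.mk' N) x' = (QuotientGroup.mk' N) x := by
      have hc1 : (QuotientGroup.mk' N) (c : G) = 1 := (QuotientGroup.eq_one_iff _).mpr c.2
      rw [hx'def, map_mul, map_inv, hc1, inv_one, one_mul]
    have hres := pgroup_case p (Nat.card (P'.subgroupOf T)) T (P'.subgroupOf T) (R.subgroupOf T)
      ⟨x', hx'T⟩ h' rfl hPp hcop'
      (by
        rw [Subgroup.mem_normalizer_iff]
        intro g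
        simp only [Subgroup.mem_subgroupOf]
        exact Subgroup.mem_normalizer_iff.mp hx'R g)
      (by
        intro i hi a ha hmem
        rw [Subgroup.mem_subgroupOf] at ha hmem
        have hmem' : x' ^ i * (a : G) * (x' ^ i)⁻¹ * (a : G)⁻¹ ∈ N := hP'N (by simpa using hmem)
        have e : (QuotientGroup.mk' N) (x ^ i * (a : G) * (x ^ i)⁻¹ * (a : G)⁻¹)
            = (QuotientGroup.mk' N) (x' ^ i * (a : G) * (x' ^ i)⁻¹ * (a : G)⁻¹) := by
          simp only [map_mul, map_pow, map_inv, hπ]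
        have h3 : x ^ i * (a : G) * (x ^ i)⁻¹ * (a : G)⁻¹ ∈ N := by
          have h4 := (QuotientGroup.eq_one_iff (N := N) _).mpr hmem'
          rw [← QuotientGroup.eq_one_iff]
          exact e.trans h4
        exact Subtype.ext (hfpf i hi a ha h3))
      (by
        intro n hn a ha
        rw [Subgroup.mem_subgroupOf] at hn ha
        apply Subtype.ext
        have e : (n : G) * ((a : G) * ((c : G)⁻¹ * x)) = ((n : G) * (c : G)⁻¹) * ((a : G) * x) := by
          have h5 : (a : G) * (c : G)⁻¹ = (c : G)⁻¹ * a := by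
            have := hcR' a ha
            calc (a : G) * (c : G)⁻¹ = (c : G)⁻¹ * ((c : G) * a) * (c : G)⁻¹ := by group
              _ = (c : G)⁻¹ * (a * (c : G)) * (c : G)⁻¹ := by rw [this]
              _ = (c : G)⁻¹ * a := by group
          calc (n : G) * ((a : G) * ((c : G)⁻¹ * x)) = (n : G) * ((a : G) * (c : G)⁻¹) * x := by group
            _ = (n : G) * ((c : G)⁻¹ * a) * x := by rw [h5]
            _ = _ := by group
        have h6 := hpow _ (N.mul_mem (hP'N hn) (N.inv_mem c.2)) a ha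
        rw [← e] at h6
        simpa using h6)
    intro n hn
    rw [Subgroup.mem_centralizer_iff]
    intro a ha
    have := hres ⟨n, hP'T hn⟩ (by rw [Subgroup.mem_subgroupOf]; exact hn) ⟨a, hP ha⟩
      (by rw [Subgroup.mem_subgroupOf]; exact ha)
    exact congrArg Subtype.val this
  -- assemble
  set C : Subgroup G := N ⊓ Subgroup.centralizer (R : Set G) with hC
  have hdvd : Nat.card N ∣ Nat.card C := by
    rw [← Nat.factorization_prime_le_iff_dvd Nat.card_pos.ne' Nat.card_pos.ne']
    intro p hp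
    have : Fact p.Prime := ⟨hp⟩
    obtain ⟨P, hPc⟩ := key p
    have h1 : sylowImage P ≤ C := le_inf (Subgroup.map_subtype_le _) hPc
    have h2 : Nat.card (sylowImage P) = p ^ (Nat.card N).factorization p := by
      rw [Subgroup.card_map_of_injective N.subtype_injective]
      exact P.card_eq_multiplicity
    have h3 := Subgroup.card_dvd_of_le h1
    rw [h2] at h3
    exact (hp.pow_dvd_iff_le_factorization Nat.card_pos.ne').mp h3
  have hCN : C = N :=
    Subgroup.eq_of_le_of_card_ge inf_le_left (Nat.le_of_dvd Nat.card_pos hdvd)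
  intro n hn a ha
  have : n ∈ C := by rw [hCN]; exact hn
  exact Subgroup.mem_centralizer_iff.mp (Subgroup.mem_inf.mp this).2 a ha

end general

section frob

variable {Q : Type*} [Group Q] (Fb Hb : Subgroup Q)

theorem frob_disj (hker : Cfsg.frobeniusKernel Hb = (Fb : Set Q)) :
    ∀ z, z ∈ Fb → z ∈ Hb → z = 1 := by
  intro z hzF hzH
  have h1 : z ∈ Cfsg.frobeniusKernel Hb := by rw [hker]; exact hzF
  rcases h1 with h1 | h1
  · exact h1
  · exfalso
    apply h1 1
    rw [map_one, one_smul]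
    exact hzH

theorem frob_out (hker : Cfsg.frobeniusKernel Hb = (Fb : Set Q)) {g : Q} (hg : g ∉ Fb) :
    g ≠ 1 ∧ ∃ c : Q, ∃ z ∈ Hb, g = c * z * c⁻¹ := by
  have h1 : g ∉ Cfsg.frobeniusKernel Hb := by rw [hker]; exact hg
  have h2 : ¬ (g = 1 ∨ ∀ c : Q, g ∉ MulAut.conj c • Hb) := h1
  push Not at h2
  refine ⟨h2.1, ?_⟩
  obtain ⟨c, hc⟩ := h2.2
  rw [Subgroup.mem_smul_pointwise_iff_exists] at hc
  obtain ⟨z, hz, hzg⟩ := hc
  refine ⟨c, z, hz, ?_⟩
  rw [← hzg, MulAut.smul_def, MulAut.conj_apply]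

theorem frob_pow [Finite Q] (hker : Cfsg.frobeniusKernel Hb = (Fb : Set Q)) {g : Q} (hg : g ∉ Fb) :
    g ^ Nat.card Hb = 1 := by
  obtain ⟨_, c, z, hz, rfl⟩ := frob_out Fb Hb hker hg
  rw [conj_pow]
  have : (⟨z, hz⟩ : Hb) ^ Nat.card Hb = 1 := pow_card_eq_one'
  have h2 := congrArg Subtype.val this
  simp only [Subgroup.coe_pow, Subgroup.coe_one] at h2
  rw [h2]; group

theorem frob_fpf [Fb.Normal] (hHb : Cfsg.IsFrobeniusComplement Hb)
    (hker : Cfsg.frobeniusKernel Hb = (Fb : Set Q)) {g b : Q} (hg : g ∉ Fb) (hb : b ∈ Fb)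
    (hc : b * g = g * b) : b = 1 := by
  by_contra hb1
  obtain ⟨hg1, c, z, hz, rfl⟩ := frob_out Fb Hb hker hg
  set b' := c⁻¹ * b * c with hb'
  have hb'F : b' ∈ Fb := by
    have := (inferInstance : Fb.Normal).conj_mem b hb c⁻¹
    simpa [hb'] using this
  have hb'1 : b' ≠ 1 := by
    intro h
    apply hb1
    have : b = c * b' * c⁻¹ := by rw [hb']; group
    rw [this, h]; group
  have hb'H : b' ∉ Hb := fun h => hb'1 (frob_disj Fb Hb hker b' hb'F h)
  have hz2 : b' * z * b'⁻¹ = z := by
    have : b' * z * b'⁻¹ = c⁻¹ * (b * (c * z * c⁻¹)) * b⁻¹ * c := by rw [hb']; group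
    rw [this, hc]; group
  have hmem : z ∈ Hb ⊓ (MulAut.conj b' • Hb) := by
    refine Subgroup.mem_inf.mpr ⟨hz, ?_⟩
    rw [Subgroup.mem_smul_pointwise_iff_exists]
    exact ⟨z, hz, by rw [MulAut.smul_def, MulAut.conj_apply, hz2]⟩
  rw [hHb.2.2 b' hb'H, Subgroup.mem_bot] at hmem
  apply hg1
  rw [hmem]; group

theorem frob_coset [Fb.Normal] (hker : Cfsg.frobeniusKernel Hb = (Fb : Set Q)) (y0 : Q)
    (hy0 : y0 ∈ Hb) (hord : orderOf y0 = Nat.card Hb) {b : Q} (hb : b ∈ Fb) (i : ℕ)
    (hi : ¬ Nat.card Hb ∣ i) : (b * y0) ^ i ∉ Fb := by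
  intro hmem
  have h1 : (QuotientGroup.mk' Fb) ((b * y0) ^ i) = 1 := (QuotientGroup.eq_one_iff _).mpr hmem
  have hb1 : (QuotientGroup.mk' Fb) b = 1 := (QuotientGroup.eq_one_iff _).mpr hb
  rw [map_pow, map_mul, hb1, one_mul, ← map_pow] at h1
  have h2 : y0 ^ i ∈ Fb := (QuotientGroup.eq_one_iff _).mp h1
  have h3 := frob_disj Fb Hb hker _ h2 (Hb.pow_mem hy0 i)
  apply hi
  rw [← hord]
  exact orderOf_dvd_of_pow_eq_one h3

end frob

section main

open Cfsg

/-- Let N be a normal subgroup of the finite group G such that G/N is a Frobenius group with kernel F and cyclic complement H, where the order of F is coprime to that of N and F is not contained in the image of C_G(N) in G/N. Then G has an element of order p·#H for some prime p dividing the order of N. (A standard tool in recognising groups by their element orders.) -/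
theorem result {G : Type*} [Group G] [Finite G] (N : Subgroup G) [N.Normal]
    (Fb Hb : Subgroup (G ⧸ N)) [Fb.Normal] (hHb : Cfsg.IsFrobeniusComplement Hb) (hker : Cfsg.frobeniusKernel Hb = (Fb : Set (G ⧸ N)))
    (hcyc : IsCyclic Hb) (hcop : (Nat.card Fb).Coprime (Nat.card N))
    (hnot : ¬ Fb ≤ (Subgroup.centralizer (N : Set G)).map (QuotientGroup.mk' N)) :
    ∃ p : ℕ, p.Prime ∧ p ∣ Nat.card N ∧ ∃ g : G, orderOf g = p * Nat.card Hb := by
  by_contra hno
  push Not at hno
  apply hnot
  set π := QuotientGroup.mk' N with hπ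
  have hπs : Function.Surjective π := QuotientGroup.mk'_surjective N
  have hπ1 : ∀ n ∈ N, π n = 1 := fun n hn => (QuotientGroup.eq_one_iff n).mpr hn
  obtain ⟨h', hh'⟩ := Nat.exists_eq_succ_of_ne_zero (Nat.card_pos (α := Hb)).ne'
  have hh2 : 1 < Nat.card Hb := (Subgroup.one_lt_card_iff_ne_bot Hb).mpr hHb.1
  -- generator
  obtain ⟨y, hy⟩ := hcyc.exists_generator
  have hyord : orderOf (y : G ⧸ N) = Nat.card Hb := by
    rw [Subgroup.orderOf_coe]; exact orderOf_eq_card_of_forall_mem_zpowers hy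
  obtain ⟨x0, hx0⟩ := hπs (y : G ⧸ N)
  -- F
  set F : Subgroup G := Fb.comap π with hF
  have hFn : F.Normal := Subgroup.Normal.comap inferInstance π
  have hNF : N ≤ F := by
    intro n hn
    rw [hF, Subgroup.mem_comap, hπ1 n hn]
    exact Fb.one_mem
  -- main claim
  have claim : ∀ (r : ℕ) [Fact r.Prime], r ∣ Nat.card Fb → ∀ S : Sylow r F,
      ∀ n ∈ N, ∀ a ∈ (S : Subgroup F).map F.subtype, a * n = n * a := by
    intro r _ hrF S
    set R : Subgroup G := (S : Subgroup F).map F.subtype with hRdef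
    have hRF : R ≤ F := Subgroup.map_subtype_le _
    have hRp : IsPGroup r R := S.2.map F.subtype
    have hrN : ¬ r ∣ Nat.card N := by
      intro hrN
      have h1 := Nat.dvd_gcd hrF hrN
      rw [hcop] at h1
      exact (Fact.out : r.Prime).one_lt.ne' (Nat.dvd_one.mp h1)
    have hcopR : (Nat.card R).Coprime (Nat.card N) := by
      obtain ⟨k, hk⟩ := IsPGroup.iff_card.mp hRp
      rw [hk]
      exact Nat.Coprime.pow_left k ((Nat.Prime.coprime_iff_not_dvd Fact.out).mpr hrN)
    -- Frattini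
    have hfr := Sylow.normalizer_sup_eq_top S
    have hx0top : x0 ∈ (Subgroup.normalizer ((R : Subgroup G) : Set G)) ⊔ F := by
      rw [hRdef, hfr]; trivial
    obtain ⟨x, hx, f, hf, hxf⟩ := Subgroup.mem_sup_of_normal_right.mp hx0top
    obtain ⟨b, hb, hπx⟩ : ∃ b ∈ Fb, π x = b * (y : G ⧸ N) := by
      refine ⟨(y : G ⧸ N) * (π f)⁻¹ * (y : G ⧸ N)⁻¹, ?_, ?_⟩
      · exact (inferInstance : Fb.Normal).conj_mem _ (Fb.inv_mem hf) _
      · have h1 : π x = π x0 * (π f)⁻¹ := by rw [← hxf, map_mul]; group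
        rw [h1, hx0]; group
    apply general_case N R x h' r hRp hcopR hx
    · -- fpf
      intro i hi a ha hmem
      have hi' : ¬ Nat.card Hb ∣ i := by rw [hh']; exact hi
      have h1 : π (x ^ i * a * (x ^ i)⁻¹ * a⁻¹) = 1 := hπ1 _ hmem
      rw [map_mul, map_mul, map_mul, map_inv, map_inv, map_pow, hπx] at h1
      have hgo := frob_coset Fb Hb hker (y : G ⧸ N) y.2 hyord hb i hi'
      have haF : π a ∈ Fb := hRF ha
      have hc : π a * (b * (y : G ⧸ N)) ^ i = (b * (y : G ⧸ N)) ^ i * π a := by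
        have h2 := mul_inv_eq_one.mp h1
        calc π a * (b * (y : G ⧸ N)) ^ i
            = ((b * (y : G ⧸ N)) ^ i * π a * ((b * (y : G ⧸ N)) ^ i)⁻¹) * (b * (y : G ⧸ N)) ^ i := by
              rw [h2]
          _ = (b * (y : G ⧸ N)) ^ i * π a := by group
      have ha1 : π a = 1 := frob_fpf Fb Hb hHb hker hgo haF hc
      have haN : a ∈ N := (QuotientGroup.eq_one_iff a).mp ha1
      have h2 : orderOf a ∣ Nat.card R := Subgroup.orderOf_dvd_natCard R ha
      have h3 : orderOf a ∣ Nat.card N := Subgroup.orderOf_dvd_natCard N haN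
      have h4 := Nat.dvd_gcd h2 h3
      rw [hcopR] at h4
      exact orderOf_eq_one_iff.mp (Nat.dvd_one.mp h4)
    · -- pow
      intro n hn a ha
      by_contra hne
      set g := n * (a * x) with hg
      have hπg : π g = (π a * b) * (y : G ⧸ N) := by
        rw [hg, map_mul, map_mul, hπ1 n hn, one_mul, hπx, mul_assoc]
      have hab : π a * b ∈ Fb := Fb.mul_mem (hRF ha) hb
      have hgo : ∀ i, ¬ Nat.card Hb ∣ i → (π g) ^ i ∉ Fb := fun i hi => by
        rw [hπg]; exact frob_coset Fb Hb hker _ y.2 hyord hab i hi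
      have hg1 : π g ∉ Fb := by
        have h1 := hgo 1 (by intro hd; have := Nat.le_of_dvd one_pos hd; omega)
        simpa using h1
      have hgh : (π g) ^ Nat.card Hb = 1 := frob_pow Fb Hb hker hg1
      have hord : orderOf (π g) = Nat.card Hb := by
        apply Nat.dvd_antisymm (orderOf_dvd_of_pow_eq_one hgh)
        by_contra hnd
        apply hgo (orderOf (π g)) hnd
        rw [pow_orderOf_eq_one]; exact Fb.one_mem
      have hghN : g ^ Nat.card Hb ∈ N := by
        rw [← QuotientGroup.eq_one_iff]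
        have : π (g ^ Nat.card Hb) = 1 := by rw [map_pow, hgh]
        exact this
      set k := orderOf (g ^ Nat.card Hb) with hk
      have hk1 : k ≠ 1 := by
        rw [hk, Ne, orderOf_eq_one_iff, hh']
        exact hne
      obtain ⟨p, hp, hpk⟩ := Nat.exists_prime_and_dvd hk1
      have hkN : k ∣ Nat.card N := Subgroup.orderOf_dvd_natCard N hghN
      have hdvd : Nat.card Hb ∣ orderOf g := by rw [← hord]; exact orderOf_map_dvd π g
      obtain ⟨j, hj⟩ := hdvd
      have hjk : j = k := by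
        rw [hk, orderOf_pow_of_dvd Nat.card_pos.ne' ⟨j, hj⟩, hj,
          Nat.mul_div_cancel_left _ Nat.card_pos]
      obtain ⟨q, hq⟩ := hpk
      have hq0 : q ≠ 0 := by
        rintro rfl
        rw [mul_zero] at hq
        have := orderOf_pos (g ^ Nat.card Hb)
        omega
      have hfin : orderOf (g ^ q) = p * Nat.card Hb := by
        rw [orderOf_pow_of_dvd hq0 ⟨Nat.card Hb * p, by rw [hj, hjk, hq]; ring⟩, hj, hjk, hq]
        rw [show Nat.card Hb * (p * q) = (p * Nat.card Hb) * q by ring,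
          Nat.mul_div_cancel _ (Nat.pos_of_ne_zero hq0)]
      exact hno p hp (dvd_trans ⟨q, hq⟩ hkN) (g ^ q) hfin
  -- final assembly
  set C : Subgroup G := Subgroup.centralizer (N : Set G) ⊓ F with hC
  have hCF : C ≤ F := inf_le_right
  have hm : (C ⊔ N).relIndex F = 1 := by
    by_contra hm1
    obtain ⟨r, hr, hrm⟩ := Nat.exists_prime_and_dvd hm1
    have : Fact r.Prime := ⟨hr⟩
    have hNrel : N.relIndex F = Nat.card Fb := by
      have h1 := Cfsg.Agent.Lib.Helper1_Transport.card_comap_mk' N Fb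
      have h2 : N.relIndex F * Nat.card N = Nat.card F := by
        rw [Subgroup.relIndex, ← Cfsg.Agent.Lib.Helper1_Transport.card_subgroupOf hNF,
          Subgroup.index_mul_card]
      have h3 : N.relIndex F * Nat.card N = Nat.card Fb * Nat.card N := by rw [h2, ← h1]
      exact Nat.eq_of_mul_eq_mul_right Nat.card_pos h3
    have hrFb : r ∣ Nat.card Fb := by
      rw [← hNrel]; exact dvd_trans hrm (Subgroup.relIndex_dvd_of_le_left F le_sup_right)
    obtain S : Sylow r F := default
    have hS := claim r hrFb S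
    have hSC : (S : Subgroup F) ≤ C.subgroupOf F := by
      intro s hs
      rw [Subgroup.mem_subgroupOf]
      refine Subgroup.mem_inf.mpr ⟨?_, s.2⟩
      rw [Subgroup.mem_centralizer_iff]
      intro n hn
      exact (hS n hn s ⟨s, hs, rfl⟩).symm
    have h3 : ¬ r ∣ (C.subgroupOf F).index := fun hd =>
      S.not_dvd_index (dvd_trans hd (Subgroup.index_dvd_of_le hSC))
    exact h3 (dvd_trans hrm (Subgroup.relIndex_dvd_of_le_left F le_sup_left))
  have hFle : F ≤ C ⊔ N := Subgroup.relIndex_eq_one.mp hm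
  intro b hb
  obtain ⟨g, rfl⟩ := hπs b
  have hgF : g ∈ F := hb
  obtain ⟨c, hc, n, hn, rfl⟩ := Subgroup.mem_sup_of_normal_right.mp (hFle hgF)
  refine ⟨c, (Subgroup.mem_inf.mp hc).1, ?_⟩
  rw [map_mul, hπ1 n hn, mul_one]

end main

end Cfsg.Agent.S3703
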