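import Cfsg.Statements.S3704

set_option autoImplicit false
set_option linter.style.haveILetI false
set_option linter.unusedSectionVars false
open Cfsg

namespace Cfsg.Agent.S3704

open MulAction
open Classical

section core
variable {G Ω : Type*} [Group G] [MulAction G Ω] [Fintype Ω] (H : Subgroup G) [Fintype (G ⧸ H)]

/-- `ω` lies in the translate of `O` determined by the coset `δ` -/
def Inc (O : Set Ω) (ω : Ω) (δ : G ⧸ H) : Prop := ∃ g : G, (g : G ⧸ H) = δ ∧ g⁻¹ • ω ∈ O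

variable {H}

theorem inc_iff {O : Set Ω} (hO : ∀ h ∈ H, ∀ x ∈ O, h • x ∈ O) (ω : Ω) (g : G) :
    Inc H O ω (g : G ⧸ H) ↔ g⁻¹ • ω ∈ O := by
  constructor
  · rintro ⟨g', hg', h⟩
    have h1 : g⁻¹ * g' ∈ H := QuotientGroup.eq.mp hg'.symm
    have := hO _ h1 _ h
    rwa [mul_smul, smul_inv_smul] at this
  · intro h
    exact ⟨g, rfl, h⟩

theorem inc_smul {O : Set Ω} (k : G) {ω : Ω} {δ : G ⧸ H} (h : Inc H O ω δ) :
    Inc H O (k • ω) (k • δ) := by
  obtain ⟨g, rfl, hg⟩ := h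
  refine ⟨k * g, rfl, ?_⟩
  rwa [mul_inv_rev, mul_smul, inv_smul_smul]

theorem inc_smul_iff {O : Set Ω} (k : G) {ω : Ω} {δ : G ⧸ H} :
    Inc H O (k • ω) (k • δ) ↔ Inc H O ω δ := by
  constructor
  · intro h
    have := inc_smul k⁻¹ h
    rwa [inv_smul_smul, inv_smul_smul] at this
  · exact inc_smul k

/-- column count -/
theorem card_col {O : Set Ω} (hO : ∀ h ∈ H, ∀ x ∈ O, h • x ∈ O) (δ : G ⧸ H) :
    (Finset.univ.filter (fun ω => Inc H O ω δ)).card = (Finset.univ.filter (fun ω => ω ∈ O)).card := by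
  obtain ⟨g, rfl⟩ := QuotientGroup.mk_surjective δ
  have : Finset.univ.filter (fun ω => Inc H O ω (g : G ⧸ H))
      = (Finset.univ.filter (fun ω => ω ∈ O)).image (fun ω => g • ω) := by
    ext ω
    simp only [Finset.mem_filter, Finset.mem_univ, true_and, Finset.mem_image]
    rw [inc_iff hO]
    constructor
    · intro h
      exact ⟨g⁻¹ • ω, h, smul_inv_smul g ω⟩
    · rintro ⟨u, hu, rfl⟩
      rwa [inv_smul_smul]
  rw [this, Finset.card_image_of_injective _ (MulAction.injective g)]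

variable (htrans : ∀ x y : Ω, ∃ g : G, g • x = y) (hcard : Fintype.card (G ⧸ H) = Fintype.card Ω)
include htrans hcard

/-- row count -/
theorem card_row {O : Set Ω} (hO : ∀ h ∈ H, ∀ x ∈ O, h • x ∈ O) (ω : Ω) :
    (Finset.univ.filter (fun δ => Inc H O ω δ)).card = (Finset.univ.filter (fun ω => ω ∈ O)).card := by
  set a := (Finset.univ.filter (fun ω => ω ∈ O)).card with ha
  have hbip := Finset.sum_card_bipartiteAbove_eq_sum_card_bipartiteBelow
    (s := (Finset.univ : Finset Ω)) (t := (Finset.univ : Finset (G ⧸ H))) (fun ω δ => Inc H O ω δ)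
  simp only [Finset.bipartiteAbove, Finset.bipartiteBelow] at hbip
  have hR : ∀ δ ∈ (Finset.univ : Finset (G ⧸ H)),
      (Finset.univ.filter (fun ω => Inc H O ω δ)).card = a := fun δ _ => card_col hO δ
  have hL : ∀ ω' ∈ (Finset.univ : Finset Ω),
      (Finset.univ.filter (fun δ => Inc H O ω' δ)).card
        = (Finset.univ.filter (fun δ => Inc H O ω δ)).card := by
    intro ω' _
    obtain ⟨k, hk⟩ := htrans ω ω'
    have : Finset.univ.filter (fun δ => Inc H O ω' δ)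
        = (Finset.univ.filter (fun δ => Inc H O ω δ)).image (fun δ => k • δ) := by
      ext δ
      simp only [Finset.mem_filter, Finset.mem_univ, true_and, Finset.mem_image]
      constructor
      · intro h
        refine ⟨k⁻¹ • δ, ?_, smul_inv_smul k δ⟩
        have := inc_smul k⁻¹ h
        rwa [← hk, inv_smul_smul] at this
      · rintro ⟨δ', h, rfl⟩
        rw [← hk]
        exact inc_smul k h
    rw [this, Finset.card_image_of_injective _ (MulAction.injective k)]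
  rw [Finset.sum_congr rfl hL, Finset.sum_congr rfl hR, Finset.sum_const, Finset.sum_const,
    smul_eq_mul, smul_eq_mul, Finset.card_univ, Finset.card_univ, hcard] at hbip
  have hpos : 0 < Fintype.card Ω := Fintype.card_pos_iff.mpr ⟨ω⟩
  exact Nat.eq_of_mul_eq_mul_left hpos hbip

/-- pair count -/
noncomputable def pr (H : Subgroup G) [Fintype (G ⧸ H)] (O O' : Set Ω) (ω ω' : Ω) : ℕ :=
  (Finset.univ.filter (fun δ : G ⧸ H => Inc H O ω δ ∧ Inc H O' ω' δ)).card

omit htrans hcard in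
theorem pr_smul (O O' : Set Ω) (k : G) (ω ω' : Ω) :
    pr H O O' (k • ω) (k • ω') = pr H O O' ω ω' := by
  unfold pr
  have : Finset.univ.filter (fun δ : G ⧸ H => Inc H O (k • ω) δ ∧ Inc H O' (k • ω') δ)
      = (Finset.univ.filter (fun δ : G ⧸ H => Inc H O ω δ ∧ Inc H O' ω' δ)).image (fun δ => k • δ) := by
    ext δ
    simp only [Finset.mem_filter, Finset.mem_univ, true_and, Finset.mem_image]
    constructor
    · rintro ⟨h1, h2⟩
      refine ⟨k⁻¹ • δ, ⟨?_, ?_⟩, smul_inv_smul k δ⟩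
      · have := inc_smul k⁻¹ h1
        rwa [inv_smul_smul] at this
      · have := inc_smul k⁻¹ h2
        rwa [inv_smul_smul] at this
    · rintro ⟨δ', ⟨h1, h2⟩, rfl⟩
      exact ⟨inc_smul k h1, inc_smul k h2⟩
  rw [this, Finset.card_image_of_injective _ (MulAction.injective k)]

variable (h2 : ∀ x y x' y' : Ω, x ≠ y → x' ≠ y' → ∃ g : G, g • x = x' ∧ g • y = y')
include h2

/-- general pair-sum identity -/
theorem pr_mul {O O' : Set Ω} (hO : ∀ h ∈ H, ∀ x ∈ O, h • x ∈ O) (hO' : ∀ h ∈ H, ∀ x ∈ O', h • x ∈ O')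
    (c : ℕ) {ω ω' : Ω} (hne : ω ≠ ω')
    (hc : ∀ δ : G ⧸ H, Inc H O ω δ →
      ((Finset.univ.erase ω).filter (fun ω'' => Inc H O' ω'' δ)).card = c) :
    (Fintype.card Ω - 1) * pr H O O' ω ω' = (Finset.univ.filter (fun ω => ω ∈ O)).card * c := by
  set t : Finset (G ⧸ H) := Finset.univ.filter (fun δ => Inc H O ω δ) with ht
  set s : Finset Ω := Finset.univ.erase ω with hs
  have hbip := Finset.sum_card_bipartiteAbove_eq_sum_card_bipartiteBelow (s := s) (t := t)
    (fun ω'' δ => Inc H O' ω'' δ)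
  simp only [Finset.bipartiteAbove, Finset.bipartiteBelow] at hbip
  have hL : ∀ ω'' ∈ s, (t.filter (fun δ => Inc H O' ω'' δ)).card = pr H O O' ω ω' := by
    intro ω'' hω''
    have hne' : ω ≠ ω'' := by
      rw [hs, Finset.mem_erase] at hω''
      exact hω''.1.symm
    obtain ⟨k, hk1, hk2⟩ := h2 ω ω' ω ω'' hne hne'
    have h3 : pr H O O' ω ω'' = pr H O O' ω ω' := by
      rw [← pr_smul O O' k ω ω', hk1, hk2]
    rw [← h3]
    unfold pr
    congr 1
    ext δ
    simp [ht]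
  have hR : ∀ δ ∈ t, (s.filter (fun ω'' => Inc H O' ω'' δ)).card = c := by
    intro δ hδ
    rw [ht, Finset.mem_filter] at hδ
    exact hc δ hδ.2
  rw [Finset.sum_congr rfl hL, Finset.sum_congr rfl hR, Finset.sum_const, Finset.sum_const,
    smul_eq_mul, smul_eq_mul, hs, Finset.card_erase_of_mem (Finset.mem_univ ω), Finset.card_univ,
    ht, card_row htrans hcard hO ω] at hbip
  exact hbip

theorem pr_same {O : Set Ω} (hO : ∀ h ∈ H, ∀ x ∈ O, h • x ∈ O) {ω ω' : Ω} (hne : ω ≠ ω') :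
    (Fintype.card Ω - 1) * pr H O O ω ω' =
      (Finset.univ.filter (fun ω => ω ∈ O)).card * ((Finset.univ.filter (fun ω => ω ∈ O)).card - 1) := by
  apply pr_mul htrans hcard h2 hO hO _ hne
  intro δ hδ
  have : (Finset.univ.erase ω).filter (fun ω'' => Inc H O ω'' δ)
      = (Finset.univ.filter (fun ω'' => Inc H O ω'' δ)).erase ω := by
    ext x
    simp only [Finset.mem_filter, Finset.mem_erase, Finset.mem_univ, true_and, and_true]
  rw [this, Finset.card_erase_of_mem, card_col hO δ]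
  simp only [Finset.mem_filter, Finset.mem_univ, true_and]
  exact hδ

theorem pr_disj {O O' : Set Ω} (hO : ∀ h ∈ H, ∀ x ∈ O, h • x ∈ O) (hO' : ∀ h ∈ H, ∀ x ∈ O', h • x ∈ O')
    (hdisj : ∀ x, x ∈ O → x ∈ O' → False) {ω ω' : Ω} (hne : ω ≠ ω') :
    (Fintype.card Ω - 1) * pr H O O' ω ω' =
      (Finset.univ.filter (fun ω => ω ∈ O)).card * (Finset.univ.filter (fun ω => ω ∈ O')).card := by
  apply pr_mul htrans hcard h2 hO hO' _ hne
  intro δ hδ
  have : (Finset.univ.erase ω).filter (fun ω'' => Inc H O' ω'' δ)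
      = Finset.univ.filter (fun ω'' => Inc H O' ω'' δ) := by
    ext x
    simp only [Finset.mem_filter, Finset.mem_erase, Finset.mem_univ, true_and, and_true]
    constructor
    · exact fun h => h.2
    · intro h
      refine ⟨?_, h⟩
      rintro rfl
      obtain ⟨g, rfl⟩ := QuotientGroup.mk_surjective δ
      exact hdisj _ ((inc_iff hO _ g).mp hδ) ((inc_iff hO' _ g).mp h)
  rw [this, card_col hO' δ]

omit h2 htrans hcard in
theorem pr_diag_disj {O O' : Set Ω} (hO : ∀ h ∈ H, ∀ x ∈ O, h • x ∈ O) (hO' : ∀ h ∈ H, ∀ x ∈ O', h • x ∈ O')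
    (hdisj : ∀ x, x ∈ O → x ∈ O' → False) (ω : Ω) : pr H O O' ω ω = 0 := by
  unfold pr
  rw [Finset.card_eq_zero, Finset.filter_eq_empty_iff]
  rintro δ _ ⟨h1, h2'⟩
  obtain ⟨g, rfl⟩ := QuotientGroup.mk_surjective δ
  exact hdisj _ ((inc_iff hO _ g).mp h1) ((inc_iff hO' _ g).mp h2')

omit h2 in
theorem pr_diag_same {O : Set Ω} (hO : ∀ h ∈ H, ∀ x ∈ O, h • x ∈ O) (ω : Ω) :
    pr H O O ω ω = (Finset.univ.filter (fun ω => ω ∈ O)).card := by
  unfold pr
  rw [← card_row htrans hcard hO ω]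
  congr 1
  ext δ
  simp

/-- incidence matrix -/
noncomputable def A (H : Subgroup G) [Fintype (G ⧸ H)] (O : Set Ω) : Matrix Ω (G ⧸ H) ℚ :=
  Matrix.of fun ω δ => if Inc H O ω δ then 1 else 0

omit htrans hcard h2 in
theorem A_apply (O : Set Ω) (ω : Ω) (δ : G ⧸ H) : A H O ω δ = if Inc H O ω δ then 1 else 0 := rfl

omit htrans hcard h2 in
theorem sum_A_mul_A (O O' : Set Ω) (ω ω' : Ω) :
    ∑ δ, A H O ω δ * A H O' ω' δ = (pr H O O' ω ω' : ℚ) := by
  unfold pr
  rw [Finset.card_filter]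
  push_cast
  apply Finset.sum_congr rfl
  intro δ _
  rw [A_apply, A_apply]
  by_cases h1 : Inc H O ω δ <;> by_cases h2' : Inc H O' ω' δ <;> simp [h1, h2']

omit h2 in
theorem sum_A {O : Set Ω} (hO : ∀ h ∈ H, ∀ x ∈ O, h • x ∈ O) (ω : Ω) :
    ∑ δ, A H O ω δ = ((Finset.univ.filter (fun ω => ω ∈ O)).card : ℚ) := by
  rw [← card_row htrans hcard hO ω, Finset.card_filter]
  push_cast
  apply Finset.sum_congr rfl
  intro δ _
  rw [A_apply]

/-- two distinct `H`-orbits cover everything -/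
theorem cover {O₁ O₂ : Set Ω} (hO₁ : ∀ h ∈ H, ∀ x ∈ O₁, h • x ∈ O₁)
    (hO₂ : ∀ h ∈ H, ∀ x ∈ O₂, h • x ∈ O₂) (hdisj : ∀ x, x ∈ O₁ → x ∈ O₂ → False)
    (hne₁ : O₁.Nonempty) (hne₂ : O₂.Nonempty) (ω : Ω) (δ : G ⧸ H) (h1 : ¬ Inc H O₁ ω δ) :
    Inc H O₂ ω δ := by
  set a := (Finset.univ.filter (fun ω => ω ∈ O₁)).card with ha
  set b := (Finset.univ.filter (fun ω => ω ∈ O₂)).card with hb
  set n := Fintype.card Ω with hn
  have ha1 : 1 ≤ a := by
    obtain ⟨x, hx⟩ := hne₁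
    exact Finset.card_pos.mpr ⟨x, by simp [hx]⟩
  have hb1 : 1 ≤ b := by
    obtain ⟨x, hx⟩ := hne₂
    exact Finset.card_pos.mpr ⟨x, by simp [hx]⟩
  have hab : a + b ≤ n := by
    rw [ha, hb, hn, ← Finset.card_union_of_disjoint, ← Finset.card_univ]
    · exact Finset.card_le_card (Finset.subset_univ _)
    · rw [Finset.disjoint_filter]
      intro x _ hx1 hx2
      exact hdisj x hx1 hx2
  -- rational versions
  have hmpos : (0 : ℚ) < (n : ℚ) - 1 := by
    have : (2 : ℚ) ≤ n := by exact_mod_cast (by omega : 2 ≤ n)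
    linarith
  have hmcast : ((n - 1 : ℕ) : ℚ) = (n : ℚ) - 1 := by
    rw [Nat.cast_sub (by omega)]; simp
  obtain ⟨l11, hl11⟩ : ∃ l : ℚ, l * ((n : ℚ) - 1) = (a : ℚ) * ((a : ℚ) - 1) :=
    ⟨(a : ℚ) * ((a : ℚ) - 1) / ((n : ℚ) - 1), div_mul_cancel₀ _ hmpos.ne'⟩
  obtain ⟨l12, hl12⟩ : ∃ l : ℚ, l * ((n : ℚ) - 1) = (a : ℚ) * (b : ℚ) :=
    ⟨(a : ℚ) * (b : ℚ) / ((n : ℚ) - 1), div_mul_cancel₀ _ hmpos.ne'⟩
  have hpr11 : ∀ ω ω' : Ω, ω ≠ ω' → (pr H O₁ O₁ ω ω' : ℚ) = l11 := by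
    intro ω ω' hne
    have := pr_same htrans hcard h2 hO₁ hne
    have h3 : ((n - 1 : ℕ) : ℚ) * (pr H O₁ O₁ ω ω' : ℚ) = (a : ℚ) * ((a : ℚ) - 1) := by
      have h4 : ((a - 1 : ℕ) : ℚ) = (a : ℚ) - 1 := by rw [Nat.cast_sub ha1]; simp
      rw [← h4]
      exact_mod_cast this
    rw [hmcast] at h3
    have h5 : ((pr H O₁ O₁ ω ω' : ℚ) - l11) * ((n : ℚ) - 1) = 0 := by linear_combination h3 - hl11
    have h6 := (mul_eq_zero.mp h5).resolve_right hmpos.ne'
    linarith
  have hpr12 : ∀ ω ω' : Ω, ω ≠ ω' → (pr H O₁ O₂ ω ω' : ℚ) = l12 := by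
    intro ω ω' hne
    have := pr_disj htrans hcard h2 hO₁ hO₂ hdisj hne
    have h3 : ((n - 1 : ℕ) : ℚ) * (pr H O₁ O₂ ω ω' : ℚ) = (a : ℚ) * (b : ℚ) := by
      exact_mod_cast this
    rw [hmcast] at h3
    have h5 : ((pr H O₁ O₂ ω ω' : ℚ) - l12) * ((n : ℚ) - 1) = 0 := by linear_combination h3 - hl12
    have h6 := (mul_eq_zero.mp h5).resolve_right hmpos.ne'
    linarith
  have haq : (1 : ℚ) ≤ a := by exact_mod_cast ha1
  have hbq : (1 : ℚ) ≤ b := by exact_mod_cast hb1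
  have habq : (a : ℚ) + b ≤ n := by exact_mod_cast hab
  -- p' = a - l11 = a (n - a) / m > 0
  have hp'pos : 0 < (a : ℚ) - l11 := by
    have h3 : ((a : ℚ) - l11) * ((n : ℚ) - 1) = (a : ℚ) * ((n : ℚ) - a) := by
      linear_combination -hl11
    have h4 : 0 < (a : ℚ) * ((n : ℚ) - a) := mul_pos (by linarith) (by linarith)
    rw [← h3] at h4
    exact (mul_pos_iff_of_pos_right hmpos).mp h4
  have hden : (a : ℚ) ^ 2 * ((a : ℚ) - l11) ≠ 0 := by positivity
  obtain ⟨κ, hκ⟩ : ∃ κ : ℚ, κ * ((a : ℚ) ^ 2 * ((a : ℚ) - l11)) = 1 :=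
    ⟨1 / ((a : ℚ) ^ 2 * ((a : ℚ) - l11)), div_mul_cancel₀ _ hden⟩
  -- right inverse
  let R : Matrix (G ⧸ H) Ω ℚ := Matrix.of fun δ ω' => κ * ((a : ℚ) ^ 2 * A H O₁ ω' δ - l11 * a)
  have hAR : A H O₁ * R = 1 := by
    ext ω₁ ω₂
    rw [Matrix.mul_apply]
    have h3 : ∀ δ, A H O₁ ω₁ δ * R δ ω₂
        = κ * (a : ℚ) ^ 2 * (A H O₁ ω₁ δ * A H O₁ ω₂ δ) - κ * l11 * a * A H O₁ ω₁ δ := by
      intro δ
      simp only [R, Matrix.of_apply]
      ring
    rw [Finset.sum_congr rfl (fun δ _ => h3 δ), Finset.sum_sub_distrib, ← Finset.mul_sum,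
      ← Finset.mul_sum, sum_A_mul_A, sum_A htrans hcard hO₁]
    by_cases h12 : ω₁ = ω₂
    · subst h12
      rw [pr_diag_same htrans hcard hO₁, Matrix.one_apply_eq]
      linear_combination hκ
    · rw [hpr11 _ _ h12, Matrix.one_apply_ne h12]
      ring
  have hRA : R * A H O₁ = 1 := (Matrix.mul_eq_one_comm_of_card_eq Ω (G ⧸ H) ℚ hcard.symm).mp hAR
  -- the matrix Z
  let Z : Matrix (G ⧸ H) Ω ℚ := Matrix.of fun δ ω' =>
    ((n : ℚ) - a) * A H O₂ ω' δ + (b : ℚ) * A H O₁ ω' δ - b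
  have hAZ : A H O₁ * Z = 0 := by
    ext ω₁ ω₂
    rw [Matrix.mul_apply, Matrix.zero_apply]
    have h3 : ∀ δ, A H O₁ ω₁ δ * Z δ ω₂
        = ((n : ℚ) - a) * (A H O₁ ω₁ δ * A H O₂ ω₂ δ) + (b : ℚ) * (A H O₁ ω₁ δ * A H O₁ ω₂ δ)
          - b * A H O₁ ω₁ δ := by
      intro δ
      simp only [Z, Matrix.of_apply]
      ring
    rw [Finset.sum_congr rfl (fun δ _ => h3 δ), Finset.sum_sub_distrib, Finset.sum_add_distrib,
      ← Finset.mul_sum, ← Finset.mul_sum, ← Finset.mul_sum, sum_A_mul_A, sum_A_mul_A,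
      sum_A htrans hcard hO₁]
    by_cases h12 : ω₁ = ω₂
    · subst h12
      rw [pr_diag_same htrans hcard hO₁, pr_diag_disj hO₁ hO₂ hdisj, Nat.cast_zero]
      ring
    · rw [hpr11 _ _ h12, hpr12 _ _ h12]
      have h5 : (((n : ℚ) - a) * l12 + (b : ℚ) * l11 - (b : ℚ) * a) * ((n : ℚ) - 1) = 0 := by
        linear_combination ((n : ℚ) - a) * hl12 + (b : ℚ) * hl11
      exact (mul_eq_zero.mp h5).resolve_right hmpos.ne'
  have hZ : Z = 0 := by
    calc Z = (R * A H O₁) * Z := by rw [hRA, Matrix.one_mul]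
      _ = R * (A H O₁ * Z) := Matrix.mul_assoc _ _ _
      _ = 0 := by rw [hAZ, Matrix.mul_zero]
  have hz : Z δ ω = 0 := by rw [hZ]; rfl
  change ((n : ℚ) - a) * A H O₂ ω δ + (b : ℚ) * A H O₁ ω δ - b = 0 at hz
  by_contra h2'
  have e1 : A H O₁ ω δ = 0 := by rw [A_apply]; exact if_neg h1
  have e2 : A H O₂ ω δ = 0 := by rw [A_apply]; exact if_neg h2'
  rw [e1, e2] at hz
  have : (b : ℚ) = 0 := by linarith
  linarith

end core

/-- Let G be a finite group acting faithfully and 2-transitively on a finite set Ω of size n, and let H be a subgroup of index n in G which is not transitive on Ω and fixes no point of Ω. Then H has exactly two orbits on Ω. -/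
theorem result {G Ω : Type*} [Group G] [Finite G] [MulAction G Ω] [FaithfulSMul G Ω] [Finite Ω] (h2 : MulAction.IsMultiplyPretransitive G Ω 2) (H : Subgroup G) (hidx : H.index = Nat.card Ω) (hnt : ¬ MulAction.IsPretransitive H Ω) (hfix : ∀ a : Ω, ∃ h : H, h • a ≠ a) : Nat.card (MulAction.orbitRel.Quotient H Ω) = 2 := by
  haveI : Fintype Ω := Fintype.ofFinite Ω
  haveI : Fintype (G ⧸ H) := Fintype.ofFinite _
  have hcard : Fintype.card (G ⧸ H) = Fintype.card Ω := by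
    rw [← Nat.card_eq_fintype_card, ← Nat.card_eq_fintype_card, ← hidx, Subgroup.index_eq_card]
  have h2' : ∀ x y x' y' : Ω, x ≠ y → x' ≠ y' → ∃ g : G, g • x = x' ∧ g • y = y' := by
    intro x y x' y' hxy hxy'
    exact (MulAction.is_two_pretransitive_iff.mp h2) hxy hxy'
  have htrans : ∀ x y : Ω, ∃ g : G, g • x = y := by
    haveI := h2
    haveI : MulAction.IsPretransitive G Ω := MulAction.isPretransitive_of_is_two_pretransitive
    exact fun x y => MulAction.exists_smul_eq G x y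
  -- the orbits
  have hOinv : ∀ q : MulAction.orbitRel.Quotient H Ω, ∀ h ∈ H, ∀ x ∈ q.orbit, h • x ∈ q.orbit := by
    intro q h hh x hx
    rw [MulAction.orbitRel.Quotient.mem_orbit] at hx ⊢
    rw [← hx]
    apply Quotient.sound
    exact ⟨⟨h, hh⟩, rfl⟩
  have hOne : ∀ q : MulAction.orbitRel.Quotient H Ω, (q.orbit).Nonempty := by
    intro q
    induction q using Quotient.inductionOn' with
    | h x => exact ⟨x, MulAction.orbitRel.Quotient.mem_orbit.mpr rfl⟩
  -- two distinct orbit classes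
  have hns : ¬ Subsingleton (MulAction.orbitRel.Quotient H Ω) := by
    intro hs
    exact hnt ((MulAction.pretransitive_iff_subsingleton_quotient H Ω).mpr hs)
  rw [not_subsingleton_iff_nontrivial] at hns
  obtain ⟨q1, q2, hq⟩ := exists_pair_ne (MulAction.orbitRel.Quotient H Ω)
  have hdisj : ∀ x, x ∈ q1.orbit → x ∈ q2.orbit → False := by
    intro x hx1 hx2
    rw [MulAction.orbitRel.Quotient.mem_orbit] at hx1 hx2
    exact hq (hx1.symm.trans hx2)
  rw [Nat.card_eq_two_iff]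
  refine ⟨q1, q2, hq, ?_⟩
  rw [Set.eq_univ_iff_forall]
  intro q
  induction q using Quotient.inductionOn' with
  | h ω =>
    by_cases h1 : ω ∈ q1.orbit
    · left
      exact MulAction.orbitRel.Quotient.mem_orbit.mp h1
    · right
      have h1' : ¬ Inc H q1.orbit ω ((1 : G) : G ⧸ H) := by
        rw [inc_iff (hOinv q1)]
        simpa using h1
      have h3 := cover htrans hcard h2' (hOinv q1) (hOinv q2) hdisj (hOne q1) (hOne q2) ω _ h1'
      rw [inc_iff (hOinv q2)] at h3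
      rw [Set.mem_singleton_iff]
      have h4 : ω ∈ q2.orbit := by simpa using h3
      exact MulAction.orbitRel.Quotient.mem_orbit.mp h4

end Cfsg.Agent.S3704
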