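import Cfsg.Statements.S3733

set_option autoImplicit false
open Cfsg

namespace Cfsg.Agent.S3733

open scoped IsMulCommutative
open Classical

section
variable {G : Type*} [Group G] [Finite G] (V : Subgroup G)

/-- elements of the normalizer of `V` lying in `B`, as a finset -/
noncomputable def S (B : Subgroup G) : Finset ↥(Subgroup.normalizer (V : Set G)) :=
  haveI : Fintype ↥(Subgroup.normalizer (V : Set G)) := Fintype.ofFinite _
  Finset.univ.filter (fun x => (x : G) ∈ B)

theorem mem_S (B : Subgroup G) (x : ↥(Subgroup.normalizer (V : Set G))) : x ∈ S V B ↔ (x : G) ∈ B := by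
  unfold S
  simp

variable [hVab : IsMulCommutative V]

/-- the norm of `v` over `B` -/
noncomputable def nrm (B : Subgroup G) (v : V) : V := ∏ x ∈ S V B, x • v

theorem smul_nrm (B : Subgroup G) (v : V) (b : ↥(Subgroup.normalizer (V : Set G))) (hb : (b : G) ∈ B) :
    b • nrm V B v = nrm V B v := by
  unfold nrm
  rw [Finset.smul_prod']
  refine Finset.prod_bij (fun x _ => b * x) ?_ ?_ ?_ ?_
  · intro x hx
    rw [mem_S] at hx ⊢
    exact mul_mem hb hx
  · intro x _ y _ h
    exact mul_left_cancel h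
  · intro y hy
    refine ⟨b⁻¹ * y, ?_, by simp⟩
    rw [mem_S] at hy ⊢
    exact mul_mem (inv_mem hb) hy
  · intro x _
    rw [mul_smul]

theorem nrm_mem_centralizer (B : Subgroup G) (hB : B ≤ Subgroup.normalizer (V : Set G)) (v : V) :
    (nrm V B v : G) ∈ V ⊓ Subgroup.centralizer (B : Set G) := by
  refine Subgroup.mem_inf.mpr ⟨(nrm V B v).2, ?_⟩
  rw [Subgroup.mem_centralizer_iff]
  intro b hb
  have h := smul_nrm V B v ⟨b, hB hb⟩ hb
  have h2 : b * (nrm V B v : G) * b⁻¹ = (nrm V B v : G) := by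
    have h3 := congrArg (Subtype.val) h
    have h4 : (((⟨b, hB hb⟩ : ↥(Subgroup.normalizer (V : Set G))) • nrm V B v : V) : G)
        = b * (nrm V B v : G) * b⁻¹ := rfl
    rw [← h4]; exact h3
  calc b * (nrm V B v : G) = b * (nrm V B v : G) * b⁻¹ * b := by group
    _ = (nrm V B v : G) * b := by rw [h2]

end

/-- Let A and V be subgroups of a finite group with V abelian and nontrivial and A normalizing V. Suppose a nonempty finite family of proper subgroups of A partitions A: every non-identity element of A lies in exactly one member. If the number of members minus one is coprime to the order of V, then some member B of the family has a non-identity fixed point on V, that is V ∩ C(B) ≠ 1. -/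
theorem result {G : Type*} [Group G] [Finite G] (A V : Subgroup G) (hVab : IsMulCommutative V) (hV : V ≠ ⊥) (hAV : A ≤ Subgroup.normalizer (V : Set G)) (𝒜 : Finset (Subgroup G)) (hne : 𝒜.Nonempty) (hprop : ∀ B ∈ 𝒜, B < A) (hpart : ∀ a ∈ A, a ≠ 1 → ∃! B, B ∈ 𝒜 ∧ a ∈ B) (hk : (𝒜.card - 1).Coprime (Nat.card V)) : ∃ B ∈ 𝒜, V ⊓ Subgroup.centralizer (B : Set G) ≠ ⊥ := by
  by_contra hcon
  push Not at hcon
  apply hV
  rw [Subgroup.eq_bot_iff_forall]
  intro v0 hv0
  set v : V := ⟨v0, hv0⟩ with hv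
  -- norms are trivial
  have hB1 : ∀ B ∈ 𝒜, nrm V B v = 1 := by
    intro B hB
    have h1 := nrm_mem_centralizer V B ((hprop B hB).le.trans hAV) v
    rw [hcon B hB, Subgroup.mem_bot] at h1
    exact Subtype.ext h1
  obtain ⟨B0, hB0⟩ := hne
  have hA1 : nrm V A v = 1 := by
    have h1 := nrm_mem_centralizer V A hAV v
    have h2 : V ⊓ Subgroup.centralizer (A : Set G) ≤ V ⊓ Subgroup.centralizer (B0 : Set G) :=
      inf_le_inf_left _ (Subgroup.centralizer_le (hprop B0 hB0).le)
    have h3 := h2 h1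
    rw [hcon B0 hB0, Subgroup.mem_bot] at h3
    exact Subtype.ext h3
  -- decomposition
  let f : ↥(Subgroup.normalizer (V : Set G)) → V := fun x => x • v
  have hdecB : ∀ B : Subgroup G, nrm V B v = v * ∏ x ∈ (S V B).erase 1, f x := by
    intro B
    unfold nrm
    rw [← Finset.mul_prod_erase (S V B) f (a := 1)]
    · simp [f]
    · rw [mem_S]; exact one_mem B
  have hfilter : ∀ B ∈ 𝒜, ∏ x ∈ (S V B).erase 1, f x = ∏ x ∈ (S V A).erase 1, if (x : G) ∈ B then f x else 1 := by
    intro B hB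
    rw [← Finset.prod_filter]
    congr 1
    ext x
    simp only [Finset.mem_erase, Finset.mem_filter, mem_S]
    constructor
    · rintro ⟨h1, h2⟩
      exact ⟨⟨h1, (hprop B hB).le h2⟩, h2⟩
    · rintro ⟨⟨h1, _⟩, h2⟩
      exact ⟨h1, h2⟩
  have hswap : ∏ B ∈ 𝒜, ∏ x ∈ (S V B).erase 1, f x = ∏ x ∈ (S V A).erase 1, f x := by
    rw [Finset.prod_congr rfl hfilter, Finset.prod_comm]
    apply Finset.prod_congr rfl
    intro x hx
    simp only [Finset.mem_erase, mem_S] at hx
    have hx1 : (x : G) ≠ 1 := by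
      intro h
      apply hx.1
      exact Subtype.ext h
    obtain ⟨B1, ⟨hB1m, hxB1⟩, huniq⟩ := hpart (x : G) hx.2 hx1
    rw [Finset.prod_eq_single_of_mem B1 hB1m]
    · rw [if_pos hxB1]
    · intro B hB hne
      rw [if_neg]
      intro hxB
      exact hne (huniq B ⟨hB, hxB⟩)
  have hprod : ∏ B ∈ 𝒜, nrm V B v = v ^ 𝒜.card * ∏ x ∈ (S V A).erase 1, f x := by
    rw [Finset.prod_congr rfl (fun B _ => hdecB B), Finset.prod_mul_distrib, hswap]
    simp
  have hprodA : nrm V A v = v * ∏ x ∈ (S V A).erase 1, f x := hdecB A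
  rw [Finset.prod_congr rfl hB1, Finset.prod_const_one] at hprod
  rw [hA1] at hprodA
  have hcard : 1 ≤ 𝒜.card := Finset.card_pos.mpr ⟨B0, hB0⟩
  have hvk : v ^ (𝒜.card - 1) = 1 := by
    have h1 : ∏ x ∈ (S V A).erase 1, f x = v⁻¹ := by
      rw [eq_inv_iff_mul_eq_one, mul_comm]; exact hprodA.symm
    rw [h1] at hprod
    have h2 : v ^ 𝒜.card = v ^ (𝒜.card - 1) * v := by
      rw [← pow_succ, Nat.sub_add_cancel hcard]
    rw [h2, mul_assoc, mul_inv_cancel, mul_one] at hprod
    exact hprod.symm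
  have h1 : orderOf v ∣ 𝒜.card - 1 := orderOf_dvd_of_pow_eq_one hvk
  have h2 : orderOf v ∣ Nat.card V := orderOf_dvd_natCard v
  have h3 : orderOf v = 1 := Nat.eq_one_of_dvd_coprimes hk h1 h2
  have h4 : v = 1 := orderOf_eq_one_iff.mp h3
  have := congrArg Subtype.val h4
  simpa [hv] using this

end Cfsg.Agent.S3733
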