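import Mathlib
import Cfsg.Statements.S3734
import Cfsg.Agent.Lib.Helper38_AbelianGen
import Cfsg.Agent.S0026

set_option autoImplicit false
open Cfsg

namespace Cfsg.Agent.S3734

open scoped commutatorElement
open Cfsg.Agent.Lib.Helper38_AbelianGen Cfsg.Agent.Lib.Helper38_HyperplaneGen
  Cfsg.Agent.Lib.Helper24_CoprimeAction

/-- An element normalizing every member of a family normalizes its supremum. -/
theorem mem_normalizer_iSup {X : Type*} [Group X] {ι : Sort*} (S : ι → Subgroup X) (g : X)
    (h : ∀ i, g ∈ Subgroup.normalizer ((S i : Subgroup X) : Set X)) :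
    g ∈ Subgroup.normalizer (((⨆ i, S i : Subgroup X)) : Set X) := by
  rw [Subgroup.mem_normalizer_iff_map_conj_eq, Subgroup.map_iSup]
  congr 1
  funext i
  exact Subgroup.mem_normalizer_iff_map_conj_eq.mp (h i)

/-- The subgroup of elements `g` normalizing `R` with `⁅g, a⁆ ∈ R` for all `a ∈ A`. -/
def commSub {X : Type*} [Group X] (R A : Subgroup X) : Subgroup X where
  carrier := {g | g ∈ Subgroup.normalizer (R : Set X) ∧ ∀ a ∈ A, ⁅g, a⁆ ∈ R}
  one_mem' := ⟨Subgroup.one_mem _, fun a _ => by
    rw [commutatorElement_def]; simp⟩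
  mul_mem' := by
    rintro g h ⟨hgN, hg⟩ ⟨hhN, hh⟩
    refine ⟨Subgroup.mul_mem _ hgN hhN, fun a ha => ?_⟩
    have e : ⁅g * h, a⁆ = g * ⁅h, a⁆ * g⁻¹ * ⁅g, a⁆ := by
      simp only [commutatorElement_def]; group
    rw [e]
    exact R.mul_mem ((Subgroup.mem_normalizer_iff.mp hgN _).mp (hh a ha)) (hg a ha)
  inv_mem' := by
    rintro g ⟨hgN, hg⟩
    refine ⟨Subgroup.inv_mem _ hgN, fun a ha => ?_⟩
    have e : ⁅g⁻¹, a⁆ = g⁻¹ * (⁅g, a⁆)⁻¹ * g⁻¹⁻¹ := by
      simp only [commutatorElement_def]; group
    rw [e]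
    exact (Subgroup.mem_normalizer_iff.mp (Subgroup.inv_mem _ hgN) _).mp (R.inv_mem (hg a ha))

theorem commutator_le_of_le_commSub {X : Type*} [Group X] (R A K : Subgroup X)
    (h : K ≤ commSub R A) : ⁅K, A⁆ ≤ R := by
  rw [Subgroup.commutator_le]
  intro k hk a ha
  exact (h hk).2 a ha

/-- Let A and G be subgroups of a finite group with A abelian, A normalizing G and the orders of A and G coprime. Then G is generated by the fixed-point subgroups C_G(B) of those subgroups B of A for which A/B is cyclic (that is, A = ⟨B, a⟩ for some a), and [G, A] is generated by the commutator subgroups [C_G(B), A] over the same subgroups B. -/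
theorem result {X : Type*} [Group X] [Finite X] (A G : Subgroup X) (hAab : IsMulCommutative A) (hAG : A ≤ Subgroup.normalizer (G : Set X)) (hcop : (Nat.card A).Coprime (Nat.card G)) : (⨆ B ∈ {B : Subgroup X | B ≤ A ∧ ∃ a ∈ A, B ⊔ Subgroup.zpowers a = A}, G ⊓ Subgroup.centralizer (B : Set X)) = G ∧ (⨆ B ∈ {B : Subgroup X | B ≤ A ∧ ∃ a ∈ A, B ⊔ Subgroup.zpowers a = A}, ⁅G ⊓ Subgroup.centralizer (B : Set X), A⁆) = ⁅G, A⁆ := by
  have hcomm : ∀ u ∈ A, ∀ v ∈ A, u * v = v * u := by
    intro u hu v hv
    have := hAab.is_comm.comm ⟨u, hu⟩ ⟨v, hv⟩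
    exact congrArg Subtype.val this
  have hAsolv : Group.IsSolvable A :=
    Group.isSolvable_of_comm (fun x y : A => hAab.is_comm.comm x y)
  constructor
  · apply le_antisymm
    · exact iSup₂_le fun B _ => inf_le_left
    · refine le_of_cyclic_quotient_centralizers_le A G hAab hAG hcop _ ?_
      intro B hBA hB
      exact le_iSup₂_of_le (f := fun (B : Subgroup X)
        (_ : B ∈ {B : Subgroup X | B ≤ A ∧ ∃ a ∈ A, B ⊔ Subgroup.zpowers a = A}) =>
          G ⊓ Subgroup.centralizer (B : Set X)) B ⟨hBA, hB⟩ le_rfl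
  · apply le_antisymm
    · exact iSup₂_le fun B _ => Subgroup.commutator_mono inf_le_left le_rfl
    · set R := (⨆ B ∈ {B : Subgroup X | B ≤ A ∧ ∃ a ∈ A, B ⊔ Subgroup.zpowers a = A},
        ⁅G ⊓ Subgroup.centralizer (B : Set X), A⁆) with hR
      -- each generator of `R` is normalized by `A` and by `C_G(A)`
      have hgen : ∀ g : X, g ∈ Subgroup.normalizer (A : Set X) →
          (∀ B : Subgroup X, B ≤ A → g ∈ Subgroup.normalizer
            ((G ⊓ Subgroup.centralizer (B : Set X) : Subgroup X) : Set X)) →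
          g ∈ Subgroup.normalizer (R : Set X) := by
        intro g hgA hgB
        rw [hR]
        apply mem_normalizer_iSup
        intro B
        apply mem_normalizer_iSup
        intro hB
        exact mem_normalizer_commutator _ _ (hgB B hB.1) hgA
      have hAR : A ≤ Subgroup.normalizer (R : Set X) := by
        intro u hu
        exact hgen u (Subgroup.le_normalizer hu)
          (fun B hBA => mem_normalizer_inf_centralizer A G B hcomm hAG hBA u hu)
      have hCR : G ⊓ Subgroup.centralizer (A : Set X) ≤ Subgroup.normalizer (R : Set X) := by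
        intro c hc
        refine hgen c (Subgroup.centralizer_le_normalizer _ (Subgroup.mem_inf.mp hc).2) ?_
        intro B hBA
        apply Subgroup.le_normalizer
        exact Subgroup.mem_inf.mpr ⟨(Subgroup.mem_inf.mp hc).1,
          Subgroup.centralizer_le hBA (Subgroup.mem_inf.mp hc).2⟩
      -- `R` and `C_G(A)` lie in `commSub R A`
      have hR1 : R ≤ commSub R A := by
        intro r hr
        refine ⟨Subgroup.le_normalizer hr, fun a ha => ?_⟩
        have e : ⁅r, a⁆ = r * (a * r⁻¹ * a⁻¹) := by rw [commutatorElement_def]; group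
        rw [e]
        exact R.mul_mem hr ((Subgroup.mem_normalizer_iff.mp (hAR ha) _).mp (R.inv_mem hr))
      have hC1 : G ⊓ Subgroup.centralizer (A : Set X) ≤ commSub R A := by
        intro c hc
        refine ⟨hCR hc, fun a ha => ?_⟩
        have h1 : a * c = c * a := (Subgroup.mem_centralizer_iff.mp (Subgroup.mem_inf.mp hc).2) a ha
        have e : ⁅c, a⁆ = 1 := by
          rw [commutatorElement_def, ← h1]; group
        rw [e]
        exact R.one_mem
      -- `G ≤ R ⊔ C_G(A)`
      have hG : G ≤ R ⊔ (G ⊓ Subgroup.centralizer (A : Set X)) := by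
        refine le_of_cyclic_quotient_centralizers_le A G hAab hAG hcop _ ?_
        intro B hBA hB
        have hnorm : A ≤ Subgroup.normalizer
            ((G ⊓ Subgroup.centralizer (B : Set X) : Subgroup X) : Set X) :=
          fun u hu => mem_normalizer_inf_centralizer A G B hcomm hAG hBA u hu
        have hcop' : (Nat.card A).Coprime
            (Nat.card (G ⊓ Subgroup.centralizer (B : Set X) : Subgroup X)) :=
          Nat.Coprime.coprime_dvd_right (Subgroup.card_dvd_of_le inf_le_left) hcop
        have h26 := Cfsg.Agent.S0026.result A (G ⊓ Subgroup.centralizer (B : Set X)) hnorm hcop'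
          (Or.inl hAsolv)
        rw [← h26]
        refine sup_le_sup ?_ (inf_le_inf_right _ inf_le_left)
        rw [hR]
        exact le_iSup₂_of_le (f := fun (B : Subgroup X)
          (_ : B ∈ {B : Subgroup X | B ≤ A ∧ ∃ a ∈ A, B ⊔ Subgroup.zpowers a = A}) =>
            ⁅G ⊓ Subgroup.centralizer (B : Set X), A⁆) B ⟨hBA, hB⟩ le_rfl
      exact commutator_le_of_le_commSub R A G (hG.trans (sup_le hR1 hC1))

end Cfsg.Agent.S3734
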