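import Cfsg.Statements.S3735

set_option autoImplicit false
open Cfsg

namespace Cfsg.Agent.S3735

open scoped Pointwise
set_option linter.unusedSectionVars false

section abstract
variable {M : Type*} [CommGroup M] [Finite M] {Γ : Type*} [Group Γ] [MulDistribMulAction Γ M]

/-- `U` is invariant under the subgroup `X` of the acting group. -/
def Inv (X : Subgroup Γ) (U : Subgroup M) : Prop := ∀ x ∈ X, ∀ u ∈ U, x • u ∈ U

theorem inv_bot (X : Subgroup Γ) : Inv X (⊥ : Subgroup M) := by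
  intro x _ u hu
  rw [Subgroup.mem_bot] at hu ⊢
  rw [hu, smul_one]

theorem inv_sup (X : Subgroup Γ) {U W : Subgroup M} (hU : Inv X U) (hW : Inv X W) : Inv X (U ⊔ W) := by
  intro x hx v hv
  obtain ⟨u, hu, w, hw, rfl⟩ := Subgroup.mem_sup.mp hv
  rw [smul_mul']
  exact Subgroup.mem_sup.mpr ⟨x • u, hU x hx u hu, x • w, hW x hx w hw, rfl⟩

theorem inv_inf (X : Subgroup Γ) {U W : Subgroup M} (hU : Inv X U) (hW : Inv X W) : Inv X (U ⊓ W) := by
  intro x hx v hv
  exact ⟨hU x hx v hv.1, hW x hx v hv.2⟩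

theorem inv_mono {X Y : Subgroup Γ} (hYX : Y ≤ X) {U : Subgroup M} (hU : Inv X U) : Inv Y U :=
  fun y hy u hu => hU y (hYX hy) u hu

theorem inv_iff_smul_le (X : Subgroup Γ) (U : Subgroup M) : Inv X U ↔ ∀ x ∈ X, x • U ≤ U := by
  constructor
  · intro h x hx v hv
    obtain ⟨u, hu, rfl⟩ := (Subgroup.mem_smul_pointwise_iff_exists _ _ _).mp hv
    exact h x hx u hu
  · intro h x hx u hu
    exact h x hx (Subgroup.smul_mem_pointwise_smul u x U hu)

/-- translate of an invariant subgroup under an element normalizing `Y` -/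
theorem inv_smul {X Y : Subgroup Γ} (hn : ∀ x ∈ X, ∀ y ∈ Y, x⁻¹ * y * x ∈ Y) {U : Subgroup M}
    (hU : Inv Y U) (x : Γ) (hx : x ∈ X) : Inv Y (x • U) := by
  intro y hy v hv
  obtain ⟨u, hu, rfl⟩ := (Subgroup.mem_smul_pointwise_iff_exists _ _ _).mp hv
  have h1 : y • x • u = x • ((x⁻¹ * y * x) • u) := by
    simp [mul_smul]
  rw [h1]
  exact Subgroup.smul_mem_pointwise_smul _ x U (hU _ (hn x hx y hy) u hu)

/-- the predicate whose minimal elements are the minimal invariant subgroups -/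
def NT (Y : Subgroup Γ) (S : Subgroup M) : Prop := Inv Y S ∧ S ≠ ⊥

theorem minimal_smul {X Y : Subgroup Γ} (hn : ∀ x ∈ X, ∀ y ∈ Y, x⁻¹ * y * x ∈ Y) {S : Subgroup M}
    (hS : Minimal (NT Y) S) (x : Γ) (hx : x ∈ X) : Minimal (NT Y) (x • S) := by
  refine ⟨⟨inv_smul hn hS.1.1 x hx, ?_⟩, ?_⟩
  · intro h
    apply hS.1.2
    have : x⁻¹ • (x • S) = x⁻¹ • (⊥ : Subgroup M) := by rw [h]
    rw [inv_smul_smul] at this
    rw [this]
    exact Subgroup.smul_bot _
  · intro T hT hTS
    have hx' : x⁻¹ ∈ X := inv_mem hx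
    have hn' : ∀ x' ∈ X, ∀ y ∈ Y, x'⁻¹ * y * x' ∈ Y := hn
    have h1 : NT Y (x⁻¹ • T) := by
      refine ⟨inv_smul hn hT.1 x⁻¹ hx', ?_⟩
      intro h
      apply hT.2
      have : x • (x⁻¹ • T) = x • (⊥ : Subgroup M) := by rw [h]
      rw [smul_inv_smul] at this
      rw [this]
      exact Subgroup.smul_bot _
    have h2 : x⁻¹ • T ≤ S := Subgroup.pointwise_smul_subset_iff.mpr (by rwa [inv_inv])
    have h3 := hS.2 h1 h2
    exact Subgroup.pointwise_smul_subset_iff.mpr h3

/-- the join of all minimal `Y`-invariant subgroups -/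
def socle (Y : Subgroup Γ) : Subgroup M := sSup {S | Minimal (NT Y) S}

theorem socle_inv {X Y : Subgroup Γ} (hn : ∀ x ∈ X, ∀ y ∈ Y, x⁻¹ * y * x ∈ Y) :
    Inv X (socle (M := M) Y) := by
  rw [inv_iff_smul_le]
  intro x hx
  unfold socle
  rw [Subgroup.pointwise_smul_subset_iff]
  apply sSup_le
  intro S hS
  rw [← Subgroup.pointwise_smul_subset_iff]
  apply le_sSup
  exact minimal_smul hn hS x hx

theorem exists_minimal_le (Y : Subgroup Γ) {T : Subgroup M} (hT : Inv Y T) (hne : T ≠ ⊥) :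
    ∃ S, S ≤ T ∧ Minimal (NT Y) S :=
  Finite.exists_le_minimal (p := NT Y) ⟨hT, hne⟩

/-- if the socle is everything, invariant subgroups have invariant complements -/
theorem exists_compl_of_socle_eq_top (Y : Subgroup Γ) (hsoc : socle (M := M) Y = ⊤) (U : Subgroup M)
    (hU : Inv Y U) : ∃ W : Subgroup M, Inv Y W ∧ U ⊓ W = ⊥ ∧ U ⊔ W = ⊤ := by
  obtain ⟨W, -, hW⟩ := Finite.exists_le_maximal (p := fun W : Subgroup M => Inv Y W ∧ Disjoint U W)
    (a := ⊥) ⟨inv_bot Y, disjoint_bot_right⟩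
  refine ⟨W, hW.1.1, hW.1.2.eq_bot, ?_⟩
  rw [eq_top_iff, ← hsoc]
  unfold socle
  apply sSup_le
  intro S hS
  by_contra hcon
  have h1 : NT Y (S ⊓ (U ⊔ W)) → False := by
    intro h
    have := hS.2 h inf_le_left
    exact hcon (this.trans inf_le_right)
  have h2 : S ⊓ (U ⊔ W) = ⊥ := by
    by_contra h
    exact h1 ⟨inv_inf Y hS.1.1 (inv_sup Y hU hW.1.1), h⟩
  have h3 : Disjoint (U ⊔ W) S := by
    rw [disjoint_iff, inf_comm]; exact h2
  have h4 : Disjoint U (W ⊔ S) := hW.1.2.disjoint_sup_right_of_disjoint_sup_left h3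
  have h5 : W ⊔ S ≤ W := hW.2 ⟨inv_sup Y hW.1.1 hS.1.1, h4⟩ le_sup_left
  exact hcon ((le_sup_right.trans h5).trans le_sup_right)

/-- abstract Clifford: complete reducibility passes to normal subgroups -/
theorem clifford_abstract (X Y : Subgroup Γ) (hYX : Y ≤ X) (hn : ∀ x ∈ X, ∀ y ∈ Y, x⁻¹ * y * x ∈ Y)
    (hX : ∀ U : Subgroup M, Inv X U → ∃ W : Subgroup M, Inv X W ∧ U ⊓ W = ⊥ ∧ U ⊔ W = ⊤)
    (U : Subgroup M) (hU : Inv Y U) : ∃ W : Subgroup M, Inv Y W ∧ U ⊓ W = ⊥ ∧ U ⊔ W = ⊤ := by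
  apply exists_compl_of_socle_eq_top Y _ U hU
  obtain ⟨T', hT'inv, hdisj, hsup⟩ := hX (socle Y) (socle_inv hn)
  have hT' : T' = ⊥ := by
    by_contra hne
    obtain ⟨S, hST, hS⟩ := exists_minimal_le Y (inv_mono hYX hT'inv) hne
    have h1 : S ≤ socle Y := le_sSup hS
    have h2 : S ≤ socle Y ⊓ T' := le_inf h1 hST
    rw [hdisj] at h2
    exact hS.1.2 (le_bot_iff.mp h2)
  rw [hT', sup_bot_eq] at hsup
  exact hsup

end abstract

section concrete
open scoped IsMulCommutative
variable {G : Type*} [Group G]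

theorem le_normalizer_iff (K U : Subgroup G) :
    K ≤ Subgroup.normalizer (U : Set G) ↔ ∀ k ∈ K, ∀ u ∈ U, k * u * k⁻¹ ∈ U := by
  constructor
  · intro h k hk u hu
    exact (Subgroup.mem_normalizer_iff.mp (h hk) u).mp hu
  · intro h k hk
    rw [Subgroup.mem_normalizer_iff]
    intro g
    constructor
    · exact h k hk g
    · intro hg
      have := h k⁻¹ (inv_mem hk) _ hg
      simpa [mul_assoc] using this

theorem inv_subgroupOf_iff (V : Subgroup G) [IsMulCommutative V] (K U : Subgroup G)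
    (hKV : K ≤ Subgroup.normalizer (V : Set G)) (hUV : U ≤ V) :
    Inv (K.subgroupOf (Subgroup.normalizer (V : Set G))) (U.subgroupOf V) ↔
      K ≤ Subgroup.normalizer (U : Set G) := by
  rw [le_normalizer_iff]
  constructor
  · intro h k hk u hu
    have := h ⟨k, hKV hk⟩ (by rw [Subgroup.mem_subgroupOf]; exact hk) ⟨u, hUV hu⟩
      (by rw [Subgroup.mem_subgroupOf]; exact hu)
    rw [Subgroup.mem_subgroupOf] at this
    exact this
  · intro h x hx u hu
    rw [Subgroup.mem_subgroupOf] at hx hu ⊢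
    exact h x hx u hu

theorem inv_map_iff (V : Subgroup G) [IsMulCommutative V] (K : Subgroup G) (U' : Subgroup ↥V)
    (hKV : K ≤ Subgroup.normalizer (V : Set G)) :
    Inv (K.subgroupOf (Subgroup.normalizer (V : Set G))) U' ↔
      K ≤ Subgroup.normalizer ((U'.map V.subtype : Subgroup G) : Set G) := by
  rw [← inv_subgroupOf_iff V K (U'.map V.subtype) hKV (Subgroup.map_subtype_le U')]
  have : (U'.map V.subtype).subgroupOf V = U' :=
    Subgroup.comap_map_eq_self_of_injective V.subtype_injective U'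
  rw [this]

end concrete

/-- Clifford's Theorem for actions on finite abelian groups, first part. Let H and V be subgroups of a finite group with V abelian and H normalizing V, and let A be a normal subgroup of H. If every H-invariant subgroup of V has an H-invariant complement in V, then every A-invariant subgroup of V has an A-invariant complement in V. -/
theorem result {G : Type*} [Group G] [Finite G] (H A V : Subgroup G) (hVab : IsMulCommutative V) (hHV : H ≤ Subgroup.normalizer (V : Set G)) (hAH : A ≤ H) (hAn : H ≤ Subgroup.normalizer (A : Set G)) (hss : ∀ U : Subgroup G, U ≤ V → H ≤ Subgroup.normalizer (U : Set G) → ∃ W : Subgroup G, W ≤ V ∧ H ≤ Subgroup.normalizer (W : Set G) ∧ U ⊓ W = ⊥ ∧ U ⊔ W = V) (U : Subgroup G) (hUV : U ≤ V) (hAU : A ≤ Subgroup.normalizer (U : Set G)) : ∃ W : Subgroup G, W ≤ V ∧ A ≤ Subgroup.normalizer (W : Set G) ∧ U ⊓ W = ⊥ ∧ U ⊔ W = V := by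
  open scoped IsMulCommutative in
  haveI := hVab
  have hAV : A ≤ Subgroup.normalizer (V : Set G) := hAH.trans hHV
  set X := H.subgroupOf (Subgroup.normalizer (V : Set G)) with hX
  set Y := A.subgroupOf (Subgroup.normalizer (V : Set G)) with hY
  have hYX : Y ≤ X := by
    intro y hy
    rw [hY, Subgroup.mem_subgroupOf] at hy
    rw [hX, Subgroup.mem_subgroupOf]
    exact hAH hy
  have hn : ∀ x ∈ X, ∀ y ∈ Y, x⁻¹ * y * x ∈ Y := by
    intro x hx y hy
    rw [hY, Subgroup.mem_subgroupOf] at hy ⊢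
    rw [hX, Subgroup.mem_subgroupOf] at hx
    have h1 := (le_normalizer_iff H A).mp hAn (x : G)⁻¹ (inv_mem hx) (y : G) hy
    simpa using h1
  have hXc : ∀ U' : Subgroup ↥V, Inv X U' → ∃ W' : Subgroup ↥V, Inv X W' ∧ U' ⊓ W' = ⊥ ∧ U' ⊔ W' = ⊤ := by
    intro U' hU'
    have hU'n : H ≤ Subgroup.normalizer ((U'.map V.subtype : Subgroup G) : Set G) :=
      (inv_map_iff V H U' hHV).mp hU'
    obtain ⟨W, hWV, hWn, hdisj, hsup⟩ := hss (U'.map V.subtype) (Subgroup.map_subtype_le U') hU'n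
    have hU'eq : (U'.map V.subtype).subgroupOf V = U' :=
      Subgroup.comap_map_eq_self_of_injective V.subtype_injective U'
    refine ⟨W.subgroupOf V, (inv_subgroupOf_iff V H W hHV hWV).mpr hWn, ?_, ?_⟩
    · rw [← hU'eq]
      have : (U'.map V.subtype).subgroupOf V ⊓ W.subgroupOf V = (U'.map V.subtype ⊓ W).subgroupOf V := rfl
      rw [this, hdisj, Subgroup.bot_subgroupOf]
    · rw [← hU'eq, ← Subgroup.subgroupOf_sup (Subgroup.map_subtype_le U') hWV, hsup, Subgroup.subgroupOf_self]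
  obtain ⟨W', hW'inv, hdisj, hsup⟩ := clifford_abstract X Y hYX hn hXc (U.subgroupOf V)
    ((inv_subgroupOf_iff V A U hAV hUV).mpr hAU)
  refine ⟨W'.map V.subtype, Subgroup.map_subtype_le W', (inv_map_iff V A W' hAV).mp hW'inv, ?_, ?_⟩
  · have hU : U = (U.subgroupOf V).map V.subtype := (Subgroup.map_subgroupOf_eq_of_le hUV).symm
    rw [hU, ← Subgroup.map_inf _ _ _ V.subtype_injective, hdisj, Subgroup.map_bot]
  · have hU : U = (U.subgroupOf V).map V.subtype := (Subgroup.map_subgroupOf_eq_of_le hUV).symm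
    rw [hU, ← Subgroup.map_sup, hsup, ← MonoidHom.range_eq_map, Subgroup.range_subtype]

end Cfsg.Agent.S3735
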