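import Cfsg.Statements.S3737
import Cfsg.Agent.S3736

set_option autoImplicit false
set_option linter.style.haveILetI false
set_option linter.unusedSectionVars false
open Cfsg

namespace Cfsg.Agent.S3737

open Cfsg.Agent.Lib.Helper24_CoprimeAction Cfsg.Agent.Lib.Helper24_Coprime
  Cfsg.Agent.Lib.Helper1_Frattini
open scoped commutatorElement

section palindromes

variable {X : Type*} [Group X]

/-- the palindromic product `a₁ ⋯ aₙ aₙ ⋯ a₁` -/
def palin (L : List X) : X := L.prod * L.reverse.prod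

theorem palin_cons (a : X) (L : List X) : palin (a :: L) = a * palin L * a := by
  simp [palin, mul_assoc]

theorem palin_mem (G : Subgroup X) {L : List X} (hL : ∀ a ∈ L, a ∈ G) : palin L ∈ G :=
  G.mul_mem (G.list_prod_mem hL) (G.list_prod_mem (fun a ha => hL a (List.mem_reverse.mp ha)))

theorem palin_eq_one {L : List X} (hL : ∀ a ∈ L, a = 1) : palin L = 1 := by
  unfold palin
  rw [List.prod_eq_one hL, List.prod_eq_one (fun a ha => hL a (List.mem_reverse.mp ha)), one_mul]

/-- in a group of class at most two the palindromic product does not depend on the ordering -/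
theorem palin_perm (G : Subgroup X)
    (hcl : ∀ a ∈ G, ∀ b ∈ G, ∀ c ∈ G, (a * b * a⁻¹ * b⁻¹) * c = c * (a * b * a⁻¹ * b⁻¹))
    {L L' : List X} (h : L.Perm L') : (∀ a ∈ L, a ∈ G) → palin L = palin L' := by
  induction h with
  | nil => intro _; rfl
  | cons a _ ih =>
    intro hL
    rw [palin_cons, palin_cons, ih (fun b hb => hL b (List.mem_cons_of_mem _ hb))]
  | swap a b L =>
    intro hL
    rw [palin_cons, palin_cons, palin_cons, palin_cons]
    have ha : a ∈ G := hL a (by simp)
    have hb : b ∈ G := hL b (by simp)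
    have hW : palin L ∈ G := palin_mem G (fun c hc => hL c (by simp [hc]))
    generalize palin L = W at hW ⊢
    have hcz : ∀ z ∈ G, (a * b * a⁻¹ * b⁻¹) * z = z * (a * b * a⁻¹ * b⁻¹) := hcl a ha b hb
    generalize hc : a * b * a⁻¹ * b⁻¹ = c at hcz
    have h1 : a * b = c * (b * a) := by rw [← hc]; group
    have h2 : b * a = c⁻¹ * (a * b) := by rw [← hc]; group
    have h3 : c * (a * b * W) = (a * b * W) * c := hcz _ (G.mul_mem (G.mul_mem ha hb) hW)
    calc b * (a * W * a) * b = (b * a) * W * (a * b) := by simp only [mul_assoc]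
      _ = (c⁻¹ * (a * b)) * W * (c * (b * a)) := by rw [← h1, ← h2]
      _ = c⁻¹ * ((a * b * W) * c) * (b * a) := by simp only [mul_assoc]
      _ = c⁻¹ * (c * (a * b * W)) * (b * a) := by rw [h3]
      _ = a * (b * W * b) * a := by simp only [mul_assoc, inv_mul_cancel_left]
  | trans h₁ _ ih₁ ih₂ =>
    intro hL
    rw [ih₁ hL, ih₂ (fun a ha => hL a (h₁.mem_iff.mpr ha))]

theorem conj_palin (h : X) (M : List X) :
    h * palin M * h⁻¹ = palin (M.map (fun a => h * a * h⁻¹)) := by
  have key : ∀ N : List X, h * N.prod * h⁻¹ = (N.map (fun a => h * a * h⁻¹)).prod := by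
    intro N
    induction N with
    | nil => simp
    | cons a N ih =>
      simp only [List.prod_cons, List.map_cons]
      rw [← ih]
      group
  unfold palin
  rw [← List.map_reverse, ← key, ← key]
  group

/-- the symmetrised product of the conjugates of `g` under the list `L` -/
def rho (L : List X) (g : X) : X := palin (L.map (fun y => y * g * y⁻¹))

theorem rho_one (L : List X) : rho L 1 = 1 := by
  apply palin_eq_one
  intro a ha
  obtain ⟨y, -, rfl⟩ := List.mem_map.mp ha
  simp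

theorem rho_list_mem (G : Subgroup X) (L : List X)
    (hLG : ∀ y ∈ L, y ∈ Subgroup.normalizer (G : Set X)) {g : X} (hg : g ∈ G) :
    ∀ a ∈ L.map (fun y => y * g * y⁻¹), a ∈ G := by
  intro a ha
  obtain ⟨y, hy, rfl⟩ := List.mem_map.mp ha
  exact (Subgroup.mem_normalizer_iff.mp (hLG y hy) g).mp hg

theorem rho_mem (G : Subgroup X) (L : List X)
    (hLG : ∀ y ∈ L, y ∈ Subgroup.normalizer (G : Set X)) {g : X} (hg : g ∈ G) :
    rho L g ∈ G :=
  palin_mem G (rho_list_mem G L hLG hg)

theorem rho_conj (G : Subgroup X)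
    (hcl : ∀ a ∈ G, ∀ b ∈ G, ∀ c ∈ G, (a * b * a⁻¹ * b⁻¹) * c = c * (a * b * a⁻¹ * b⁻¹))
    (L : List X) (hLG : ∀ y ∈ L, y ∈ Subgroup.normalizer (G : Set X)) (h : X)
    (hperm : (L.map (fun y => h * y * h⁻¹)).Perm L) (hh : h ∈ Subgroup.normalizer (G : Set X))
    {g : X} (hg : g ∈ G) : h * rho L g * h⁻¹ = rho L (h * g * h⁻¹) := by
  unfold rho
  rw [conj_palin, List.map_map]
  have e : L.map ((fun a => h * a * h⁻¹) ∘ (fun y => y * g * y⁻¹)) =
      (L.map (fun y => h * y * h⁻¹)).map (fun y => y * (h * g * h⁻¹) * y⁻¹) := by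
    rw [List.map_map]
    apply List.map_congr_left
    intro y _
    simp only [Function.comp_apply]
    group
  rw [e]
  have hg' : h * g * h⁻¹ ∈ G := (Subgroup.mem_normalizer_iff.mp hh g).mp hg
  exact (palin_perm G hcl (hperm.map _).symm (rho_list_mem G L hLG hg')).symm

theorem rho_mul_right (G : Subgroup X)
    (hcl : ∀ a ∈ G, ∀ b ∈ G, ∀ c ∈ G, (a * b * a⁻¹ * b⁻¹) * c = c * (a * b * a⁻¹ * b⁻¹))
    (L : List X) (hLG : ∀ y ∈ L, y ∈ Subgroup.normalizer (G : Set X)) (y0 : X)
    (hperm : (L.map (fun y => y * y0)).Perm L)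
    {g : X} (hg : g ∈ G) : rho L (y0 * g * y0⁻¹) = rho L g := by
  unfold rho
  have e : L.map (fun y => y * (y0 * g * y0⁻¹) * y⁻¹) =
      (L.map (fun y => y * y0)).map (fun y => y * g * y⁻¹) := by
    rw [List.map_map]
    apply List.map_congr_left
    intro y _
    simp only [Function.comp_apply]
    group
  rw [e]
  exact (palin_perm G hcl (hperm.map _).symm (rho_list_mem G L hLG hg)).symm

theorem palin_map_mul_central (G : Subgroup X) (c : X) (hcG : ∀ z ∈ G, c * z = z * c)
    (M : List X) (hM : ∀ a ∈ M, a ∈ G) :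
    palin (M.map (fun a => a * c)) = palin M * c ^ (2 * M.length) := by
  induction M with
  | nil => simp [palin]
  | cons a M ih =>
    have ha : a ∈ G := hM a (by simp)
    have hM' : ∀ b ∈ M, b ∈ G := fun b hb => hM b (List.mem_cons_of_mem _ hb)
    have hW : palin M ∈ G := palin_mem G hM'
    rw [List.map_cons, palin_cons, palin_cons, ih hM']
    generalize palin M = W at hW ⊢
    have e4 : 2 * (a :: M).length = 2 * M.length + 1 + 1 := by
      simp only [List.length_cons]; ring
    rw [e4]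
    generalize 2 * M.length = n
    have e1 : c * W = W * c := hcG W hW
    have e3 : c * a = a * c := hcG a ha
    have e2 : c ^ n * a = a * c ^ n := ((Commute.pow_left (show Commute c a from e3) n)).eq
    calc a * c * (W * c ^ n) * (a * c) = a * (c * W) * (c ^ n * a) * c := by
          simp only [mul_assoc]
      _ = a * (W * c) * (a * c ^ n) * c := by rw [e1, e2]
      _ = a * W * (c * a) * c ^ n * c := by simp only [mul_assoc]
      _ = a * W * (a * c) * c ^ n * c := by rw [e3]
      _ = a * W * a * (c * c ^ n * c) := by simp only [mul_assoc]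
      _ = a * W * a * c ^ (n + 1 + 1) := by
          rw [← pow_succ', ← pow_succ]

theorem rho_mul_central (G : Subgroup X) (L : List X)
    (hLG : ∀ y ∈ L, y ∈ Subgroup.normalizer (G : Set X)) (c : X)
    (hcG : ∀ z ∈ G, c * z = z * c) (hcL : ∀ y ∈ L, y * c = c * y) {g : X} (hg : g ∈ G) :
    rho L (g * c) = rho L g * c ^ (2 * L.length) := by
  unfold rho
  have e : L.map (fun y => y * (g * c) * y⁻¹) =
      (L.map (fun y => y * g * y⁻¹)).map (fun a => a * c) := by
    rw [List.map_map]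
    apply List.map_congr_left
    intro y hy
    simp only [Function.comp_apply]
    have h1 : c * y⁻¹ = y⁻¹ * c := by
      have := hcL y hy
      calc c * y⁻¹ = y⁻¹ * (y * c) * y⁻¹ := by group
        _ = y⁻¹ * (c * y) * y⁻¹ := by rw [this]
        _ = y⁻¹ * c := by group
    calc y * (g * c) * y⁻¹ = y * g * (c * y⁻¹) := by simp only [mul_assoc]
      _ = y * g * (y⁻¹ * c) := by rw [h1]
      _ = y * g * y⁻¹ * c := by simp only [mul_assoc]
  rw [e, palin_map_mul_central G c hcG _ (rho_list_mem G L hLG hg), List.length_map]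

/-- conjugation action of a subgroup on an invariant subset -/
@[reducible] def conjSubAct (P : Subgroup X) (U : Set X) (hU : ∀ x ∈ P, ∀ g ∈ U, x * g * x⁻¹ ∈ U) :
    MulAction ↥P ↥U where
  smul x g := ⟨x.1 * g.1 * x.1⁻¹, hU x.1 x.2 g.1 g.2⟩
  one_smul g := Subtype.ext (by
    change (1 : X) * g.1 * (1 : X)⁻¹ = g.1
    simp)
  mul_smul x y g := Subtype.ext (by
    change (x.1 * y.1) * g.1 * (x.1 * y.1)⁻¹ = x.1 * (y.1 * g.1 * y.1⁻¹) * x.1⁻¹
    group)

end palindromes

section main

variable {X : Type*} [Group X] [Finite X]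

/-- a duplicate-free list enumerating a subgroup -/
theorem exists_list (Q : Subgroup X) :
    ∃ L : List X, L.Nodup ∧ (∀ y, y ∈ L ↔ y ∈ Q) ∧ L.length = Nat.card Q := by
  classical
  refine ⟨(Set.toFinite (Q : Set X)).toFinset.toList, Finset.nodup_toList _, ?_, ?_⟩
  · intro y
    simp
  · rw [Finset.length_toList, ← Set.ncard_eq_toFinset_card, ← Nat.card_coe_set_eq]
    rfl

theorem perm_conj {Q : Subgroup X} {L : List X} (hnd : L.Nodup) (hmem : ∀ y, y ∈ L ↔ y ∈ Q)
    {h : X} (hh : h ∈ Subgroup.normalizer (Q : Set X)) :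
    (L.map (fun y => h * y * h⁻¹)).Perm L := by
  rw [List.perm_ext_iff_of_nodup (hnd.map (fun a b hab => by simpa using hab)) hnd]
  intro a
  rw [hmem, List.mem_map]
  constructor
  · rintro ⟨y, hy, rfl⟩
    exact (Subgroup.mem_normalizer_iff.mp hh y).mp ((hmem y).mp hy)
  · intro ha
    refine ⟨h⁻¹ * a * h, (hmem _).mpr ?_, by group⟩
    rw [Subgroup.mem_normalizer_iff.mp hh]
    have : h * (h⁻¹ * a * h) * h⁻¹ = a := by group
    rwa [this]

theorem perm_mul {Q : Subgroup X} {L : List X} (hnd : L.Nodup) (hmem : ∀ y, y ∈ L ↔ y ∈ Q)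
    {y0 : X} (hy0 : y0 ∈ Q) :
    (L.map (fun y => y * y0)).Perm L := by
  rw [List.perm_ext_iff_of_nodup (hnd.map (fun a b hab => by simpa using hab)) hnd]
  intro a
  rw [hmem, List.mem_map]
  constructor
  · rintro ⟨y, hy, rfl⟩
    exact Q.mul_mem ((hmem y).mp hy) hy0
  · intro ha
    exact ⟨a * y0⁻¹, (hmem _).mpr (Q.mul_mem ha (Q.inv_mem hy0)), by group⟩

/-- key step: in class at most two, the symmetrised product yields a `P`-invariant transversal
of `C_G(Q)` in `G`, hence a `P`-fixed point outside `C_G(Q)` -/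
theorem key {p : ℕ} [Fact p.Prime] (hp : p ≠ 2) (P Q G : Subgroup X) (hP : IsPGroup p P)
    (hQ : (Nat.card Q).Coprime p) (hPQ : P ≤ Subgroup.normalizer (Q : Set X))
    (hG : IsPGroup p G) (hPG : P ≤ Subgroup.normalizer (G : Set X))
    (hQG : Q ≤ Subgroup.normalizer (G : Set X))
    (hC : G ⊓ Subgroup.centralizer (P : Set X) ≤ Subgroup.centralizer (Q : Set X))
    (hcl : ∀ a ∈ G, ∀ b ∈ G, ∀ c ∈ G, (a * b * a⁻¹ * b⁻¹) * c = c * (a * b * a⁻¹ * b⁻¹))
    (hCz : ∀ c ∈ G ⊓ Subgroup.centralizer (Q : Set X), ∀ z ∈ G, c * z = z * c) :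
    G ≤ Subgroup.centralizer (Q : Set X) := by
  classical
  by_contra hne
  obtain ⟨L, hnd, hmem, hlen⟩ := exists_list Q
  have hLG : ∀ y ∈ L, y ∈ Subgroup.normalizer (G : Set X) := fun y hy => hQG ((hmem y).mp hy)
  have hrhoG : ∀ g ∈ G, rho L g ∈ G := fun g hg => rho_mem G L hLG hg
  have hrhoP : ∀ x ∈ P, ∀ g ∈ G, x * rho L g * x⁻¹ = rho L (x * g * x⁻¹) := fun x hx g hg =>
    rho_conj G hcl L hLG x (perm_conj hnd hmem (hPQ hx)) (hPG hx) hg
  have hrhoC : ∀ g ∈ G, rho L g ∈ G ⊓ Subgroup.centralizer (Q : Set X) := by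
    intro g hg
    refine ⟨hrhoG g hg, ?_⟩
    change rho L g ∈ Subgroup.centralizer (Q : Set X)
    rw [Subgroup.mem_centralizer_iff]
    intro y hy
    have h1 := rho_conj G hcl L hLG y (perm_conj hnd hmem (Subgroup.le_normalizer hy)) (hQG hy) hg
    rw [rho_mul_right G hcl L hLG y (perm_mul hnd hmem hy) hg] at h1
    calc y * rho L g = (y * rho L g * y⁻¹) * y := by group
      _ = rho L g * y := by rw [h1]
  have hrhoc : ∀ g ∈ G, ∀ c ∈ G ⊓ Subgroup.centralizer (Q : Set X),
      rho L (g * c) = rho L g * c ^ (2 * L.length) := by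
    intro g hg c hc
    refine rho_mul_central G L hLG c (hCz c hc) ?_ hg
    intro y hy
    exact (Subgroup.mem_centralizer_iff.mp hc.2) y ((hmem y).mp hy)
  have hCp : IsPGroup p ↥(G ⊓ Subgroup.centralizer (Q : Set X)) := hG.to_le inf_le_left
  have hk : (Nat.card ↥(G ⊓ Subgroup.centralizer (Q : Set X))).Coprime (2 * L.length) := by
    obtain ⟨n, hn⟩ := IsPGroup.iff_card.mp hCp
    rw [hn, hlen]
    apply Nat.Coprime.pow_left
    have hpp : p.Prime := Fact.out
    apply Nat.Coprime.mul_right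
    · exact (Nat.coprime_primes hpp Nat.prime_two).mpr hp
    · exact hQ.symm
  -- abbreviations
  generalize hkdef : 2 * L.length = k at hrhoc hk
  generalize hCdef : G ⊓ Subgroup.centralizer (Q : Set X) = C at hrhoC hrhoc hCp hk hCz
  have hCG : C ≤ G := by rw [← hCdef]; exact inf_le_left
  have hCQ : C ≤ Subgroup.centralizer (Q : Set X) := by rw [← hCdef]; exact inf_le_right
  have hCne : C ≠ G := by
    intro h
    apply hne
    rw [← h]
    exact hCQ
  -- the transversal
  let U : Set X := {g | g ∈ G ∧ rho L g = 1}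
  have hU : ∀ x ∈ P, ∀ g ∈ U, x * g * x⁻¹ ∈ U := by
    intro x hx g hg
    refine ⟨(Subgroup.mem_normalizer_iff.mp (hPG hx) g).mp hg.1, ?_⟩
    rw [← hrhoP x hx g hg.1, hg.2]
    group
  have h1U : (1 : X) ∈ U := ⟨G.one_mem, rho_one L⟩
  -- the bijection `G ≃ U × C`
  have hroot : ∀ d : ↥C, ((powCoprime hk).symm d : ↥C) ^ k = d := fun d =>
    (powCoprime hk).apply_symm_apply d
  let e : ↥U × ↥C ≃ ↥G :=
    { toFun := fun uc => ⟨uc.1.1 * uc.2.1, G.mul_mem uc.1.2.1 (hCG uc.2.2)⟩
      invFun := fun g =>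
        (⟨g.1 * (((powCoprime hk).symm ⟨rho L g.1, hrhoC g.1 g.2⟩ : ↥C) : X)⁻¹, by
            set d : ↥C := (powCoprime hk).symm ⟨rho L g.1, hrhoC g.1 g.2⟩ with hd
            have hdk : (d : X) ^ k = rho L g.1 := by
              have := congrArg Subtype.val (hroot ⟨rho L g.1, hrhoC g.1 g.2⟩)
              rw [Subgroup.coe_pow] at this
              exact this
            refine ⟨G.mul_mem g.2 (G.inv_mem (hCG d.2)), ?_⟩
            rw [hrhoc g.1 g.2 _ (C.inv_mem d.2), inv_pow, hdk, mul_inv_cancel]⟩,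
          (powCoprime hk).symm ⟨rho L g.1, hrhoC g.1 g.2⟩)
      left_inv := by
        rintro ⟨⟨u, hu⟩, ⟨c, hc⟩⟩
        have h1 : rho L (u * c) = c ^ k := by rw [hrhoc u hu.1 c hc, hu.2, one_mul]
        have h2 : (powCoprime hk).symm ⟨rho L (u * c), hrhoC (u * c) (G.mul_mem hu.1 (hCG hc))⟩
            = (⟨c, hc⟩ : ↥C) := by
          rw [Equiv.symm_apply_eq]
          apply Subtype.ext
          simp [powCoprime, h1]
        apply Prod.ext
        · apply Subtype.ext
          simp only [h2]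
          group
        · exact h2
      right_inv := by
        rintro ⟨g, hg⟩
        apply Subtype.ext
        simp }
  have hcard : Nat.card ↥G = Nat.card ↥U * Nat.card ↥C := by
    rw [← Nat.card_congr e, Nat.card_prod]
  have hpU : p ∣ Nat.card ↥U := by
    obtain ⟨a, ha⟩ := IsPGroup.iff_card.mp hG
    have hdvd : Nat.card ↥U ∣ p ^ a := by rw [← ha, hcard]; exact dvd_mul_right _ _
    obtain ⟨c, -, hc⟩ := (Nat.dvd_prime_pow (Fact.out : p.Prime)).mp hdvd
    rcases Nat.eq_zero_or_pos c with h0 | h0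
    · exfalso
      apply hCne
      apply Subgroup.eq_of_le_of_card_ge hCG
      rw [hcard, hc, h0, pow_zero, one_mul]
    · rw [hc]
      exact dvd_pow_self p h0.ne'
  letI := conjSubAct P U hU
  have hfix1 : (⟨1, h1U⟩ : ↥U) ∈ MulAction.fixedPoints ↥P ↥U := by
    intro x
    apply Subtype.ext
    change x.1 * 1 * x.1⁻¹ = 1
    group
  obtain ⟨b, hb, hb1⟩ := hP.exists_fixed_point_of_prime_dvd_card_of_fixed_point ↥U hpU hfix1
  apply hb1
  apply Subtype.ext
  change (1 : X) = b.1
  have hbP : b.1 ∈ Subgroup.centralizer (P : Set X) := by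
    rw [Subgroup.mem_centralizer_iff]
    intro x hx
    have := congrArg Subtype.val (hb ⟨x, hx⟩)
    change x * b.1 * x⁻¹ = b.1 at this
    calc x * b.1 = (x * b.1 * x⁻¹) * x := by group
      _ = b.1 * x := by rw [this]
  have hbC : b.1 ∈ C := by
    rw [← hCdef]
    exact ⟨b.2.1, hC ⟨b.2.1, hbP⟩⟩
  have h2 : b.1 ^ k = 1 := by
    have := hrhoc 1 G.one_mem b.1 hbC
    rw [one_mul, rho_one, one_mul] at this
    rw [← this]
    exact b.2.2
  have h3 : (powCoprime hk) ⟨b.1, hbC⟩ = (powCoprime hk) 1 := by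
    apply Subtype.ext
    simp [powCoprime, h2]
  have := congrArg Subtype.val ((powCoprime hk).injective h3)
  exact this.symm

/-- class at most two in the minimal situation of the Hall--Higman reduction -/
theorem class_two {p : ℕ} [Fact p.Prime] (B A P : Subgroup X) (hP : IsPGroup p P)
    (hBP : B ≤ Subgroup.normalizer (P : Set X)) (hAB : A ≤ B)
    (hAn : B ≤ Subgroup.normalizer (A : Set X)) (hAp : (Nat.card A).Coprime p)
    (hnt : ⁅P, A⁆ ≠ ⊥)
    (hmin : ∀ U : Subgroup X, U < P → B ≤ Subgroup.normalizer (U : Set X) → ⁅U, A⁆ = ⊥) :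
    ⁅P, ⁅P, P⁆⁆ = ⊥ := by
  have hPne : P ≠ ⊥ := by
    rintro rfl
    exact hnt (Subgroup.commutator_bot_left A)
  haveI : Nontrivial ↥P := (Subgroup.nontrivial_iff_ne_bot P).mpr hPne
  have hP'eq : (commutator ↥P).map P.subtype = ⁅P, P⁆ := by
    rw [commutator_def, Subgroup.map_commutator, ← MonoidHom.range_eq_map, Subgroup.range_subtype]
  have hP'Φ : ⁅P, P⁆ ≤ (frattini ↥P).map P.subtype := by
    rw [← hP'eq]
    exact Subgroup.map_mono (commutator_le_frattini_of_isPGroup hP)
  have hΦP : (frattini ↥P).map P.subtype ≤ P := Subgroup.map_subtype_le _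
  have hΦne : (frattini ↥P).map P.subtype ≠ P := by
    intro h
    rcases eq_top_or_exists_le_coatom (⊥ : Subgroup ↥P) with h0 | ⟨M, hM, -⟩
    · exact bot_ne_top h0
    · have h1 : frattini ↥P ≤ M := frattini_le_coatom hM
      have h2 : frattini ↥P = ⊤ := by
        apply Subgroup.map_injective P.subtype_injective
        rw [h, ← MonoidHom.range_eq_map, Subgroup.range_subtype]
      rw [h2, top_le_iff] at h1
      exact hM.1 h1
  have hP'P : ⁅P, P⁆ ≤ P := Subgroup.commutator_le_self P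
  have hP'ne : ⁅P, P⁆ ≠ P := fun h => hΦne (le_antisymm hΦP ((le_of_eq h.symm).trans hP'Φ))
  have hBP' : B ≤ Subgroup.normalizer ((⁅P, P⁆ : Subgroup X) : Set X) :=
    fun b hb => mem_normalizer_commutator P P (hBP hb) (hBP hb)
  have hPP' : P ≤ Subgroup.normalizer ((⁅P, P⁆ : Subgroup X) : Set X) :=
    fun x hx => mem_normalizer_commutator P P (Subgroup.le_normalizer hx) (Subgroup.le_normalizer hx)
  exact Cfsg.Agent.S3736.central_of_proper B A P hP hBP hAB hAn hAp hnt hmin _
    (lt_of_le_of_ne hP'P hP'ne) hBP' hPP'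

end main

/-- Thompson's strengthening of the P × Q lemma for odd primes. Let p be an odd prime and let P, Q and G be subgroups of a finite group with P a p-group, Q of order prime to p and normalized by P, and G a p-group normalized by both P and Q. If every element of G centralized by P is centralized by Q, then Q centralizes G. -/
theorem result {X : Type*} [Group X] [Finite X] {p : ℕ} [Fact p.Prime] (hp : p ≠ 2) (P Q G : Subgroup X) (hP : IsPGroup p P) (hQ : (Nat.card Q).Coprime p) (hPQ : P ≤ Subgroup.normalizer (Q : Set X)) (hG : IsPGroup p G) (hPG : P ≤ Subgroup.normalizer (G : Set X)) (hQG : Q ≤ Subgroup.normalizer (G : Set X)) (hC : G ⊓ Subgroup.centralizer (P : Set X) ≤ Subgroup.centralizer (Q : Set X)) : Q ≤ Subgroup.centralizer (G : Set X) := by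
  classical
  induction' hn : Nat.card G using Nat.strong_induction_on with n ih generalizing G
  by_contra hcon
  have hmin : ∀ U : Subgroup X, U < G → (P ⊔ Q) ≤ Subgroup.normalizer (U : Set X) →
      ⁅U, Q⁆ = ⊥ := by
    intro U hU hBU
    rw [Subgroup.commutator_eq_bot_iff_le_centralizer, ← Subgroup.le_centralizer_iff]
    have hcard : Nat.card U < n := by
      rw [← hn]
      exact lt_of_not_ge (fun h => hU.ne (Subgroup.eq_of_le_of_card_ge hU.le h))
    exact ih _ hcard U (hG.to_le hU.le) (le_sup_left.trans hBU) (le_sup_right.trans hBU)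
      ((inf_le_inf_right _ hU.le).trans hC) rfl
  have hBG : (P ⊔ Q) ≤ Subgroup.normalizer (G : Set X) := sup_le hPG hQG
  have hAB : Q ≤ P ⊔ Q := le_sup_right
  have hAn : (P ⊔ Q) ≤ Subgroup.normalizer (Q : Set X) := sup_le hPQ Subgroup.le_normalizer
  have hnt : ⁅G, Q⁆ ≠ ⊥ := by
    intro h
    apply hcon
    rw [Subgroup.commutator_eq_bot_iff_le_centralizer] at h
    exact Subgroup.le_centralizer_iff.mp h
  have hPA : ⁅G, Q⁆ = G := Cfsg.Agent.S3736.comm_eq (P ⊔ Q) Q G hG hBG hAB hAn hQ hnt hmin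
  have hcop := Cfsg.Agent.S3736.hcop_aux Q G hG hQ
  have hCle : G ⊓ Subgroup.centralizer (Q : Set X) ≤ ⁅G, G⁆ :=
    Cfsg.Agent.S3736.centralizer_le_commutator G Q hQG hcop hPA.ge
  have hcl : ⁅G, ⁅G, G⁆⁆ = ⊥ := class_two (P ⊔ Q) Q G hG hBG hAB hAn hQ hnt hmin
  have hcl' : ∀ c ∈ ⁅G, G⁆, ∀ x ∈ G, c * x = x * c := by
    intro c hc x hx
    rw [Subgroup.commutator_eq_bot_iff_le_centralizer] at hcl
    exact ((Subgroup.mem_centralizer_iff.mp (hcl hx)) c hc)
  have hcl1 : ∀ a ∈ G, ∀ b ∈ G, ∀ c ∈ G,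
      (a * b * a⁻¹ * b⁻¹) * c = c * (a * b * a⁻¹ * b⁻¹) := by
    intro a ha b hb c hc
    have := Subgroup.commutator_mem_commutator ha hb
    rw [commutatorElement_def] at this
    exact hcl' _ this c hc
  have hCz : ∀ c ∈ G ⊓ Subgroup.centralizer (Q : Set X), ∀ z ∈ G, c * z = z * c :=
    fun c hc z hz => hcl' c (hCle hc) z hz
  have := key hp P Q G hP hQ hPQ hG hPG hQG hC hcl1 hCz
  exact hcon (Subgroup.le_centralizer_iff.mp this)


end Cfsg.Agent.S3737
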