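import Cfsg.Statements.S3738
import Cfsg.Agent.S3737
import Cfsg.Agent.Lib.Helper62_Count

set_option autoImplicit false
set_option linter.style.haveILetI false
set_option linter.unusedSectionVars false
open Cfsg

namespace Cfsg.Agent.S3738

open Cfsg.Agent.Lib.Helper24_CoprimeAction Cfsg.Agent.Lib.Helper24_Coprime
  Cfsg.Agent.Lib.Helper1_Frattini Cfsg.Agent.Lib.Helper62_Count
open scoped commutatorElement

section omega

variable {X : Type*} [Group X]

/-- `Ω₁(Z(P))` as a subgroup of the ambient group -/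
def omegaCenter (P : Subgroup X) : Subgroup X where
  carrier := {x | x ∈ P ∧ x ^ 2 = 1 ∧ ∀ y ∈ P, x * y = y * x}
  one_mem' := ⟨P.one_mem, one_pow 2, fun y _ => by simp⟩
  mul_mem' := by
    rintro a b ⟨ha, ha2, hac⟩ ⟨hb, hb2, hbc⟩
    refine ⟨P.mul_mem ha hb, ?_, ?_⟩
    · have : Commute a b := hac b hb
      rw [this.mul_pow, ha2, hb2, one_mul]
    · intro y hy
      rw [mul_assoc, hbc y hy, ← mul_assoc, hac y hy, mul_assoc]
  inv_mem' := by
    rintro a ⟨ha, ha2, hac⟩
    refine ⟨P.inv_mem ha, by rw [inv_pow, ha2, inv_one], ?_⟩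
    intro y hy
    have := hac y hy
    calc a⁻¹ * y = a⁻¹ * (y * a) * a⁻¹ := by group
      _ = a⁻¹ * (a * y) * a⁻¹ := by rw [this]
      _ = y * a⁻¹ := by group

theorem mem_omegaCenter {P : Subgroup X} {x : X} :
    x ∈ omegaCenter P ↔ x ∈ P ∧ x ^ 2 = 1 ∧ ∀ y ∈ P, x * y = y * x := Iff.rfl

theorem omegaCenter_le (P : Subgroup X) : omegaCenter P ≤ P := fun _ hx => hx.1

theorem omegaCenter_conj {P : Subgroup X} {d : X} (hd : d ∈ Subgroup.normalizer (P : Set X))
    {x : X} (hx : x ∈ omegaCenter P) : d * x * d⁻¹ ∈ omegaCenter P := by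
  obtain ⟨hxP, hx2, hxc⟩ := hx
  refine ⟨(Subgroup.mem_normalizer_iff.mp hd x).mp hxP, ?_, ?_⟩
  · rw [conj_pow, hx2]; group
  · intro y hy
    have hy' : d⁻¹ * y * d ∈ P := by
      rw [Subgroup.mem_normalizer_iff.mp hd]
      have : d * (d⁻¹ * y * d) * d⁻¹ = y := by group
      rwa [this]
    have := hxc _ hy'
    calc d * x * d⁻¹ * y = d * (x * (d⁻¹ * y * d)) * d⁻¹ := by group
      _ = d * ((d⁻¹ * y * d) * x) * d⁻¹ := by rw [this]
      _ = y * (d * x * d⁻¹) := by group

theorem omegaCenter_ne_bot [Finite X] {P : Subgroup X} (hP : IsPGroup 2 P) (hne : P ≠ ⊥) :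
    omegaCenter P ≠ ⊥ := by
  haveI : Fact (Nat.Prime 2) := ⟨Nat.prime_two⟩
  haveI : Nontrivial ↥P := (Subgroup.nontrivial_iff_ne_bot P).mpr hne
  haveI : Nontrivial ↥(Subgroup.center ↥P) := hP.center_nontrivial
  have hZ : IsPGroup 2 ↥(Subgroup.center ↥P) := hP.to_subgroup _
  obtain ⟨n, hn0, hn⟩ := hZ.nontrivial_iff_card.mp inferInstance
  have hdvd : 2 ∣ Nat.card ↥(Subgroup.center ↥P) := by rw [hn]; exact dvd_pow_self 2 hn0.ne'
  obtain ⟨z, hz⟩ := exists_prime_orderOf_dvd_card' 2 hdvd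
  intro hbot
  have hmem : ((z : ↥P) : X) ∈ omegaCenter P := by
    refine ⟨(z : ↥P).2, ?_, ?_⟩
    · have := pow_orderOf_eq_one z
      rw [hz] at this
      have h2 := congrArg (fun w : ↥(Subgroup.center ↥P) => ((w : ↥P) : X)) this
      simpa using h2
    · intro y hy
      have := (Subgroup.mem_center_iff.mp z.2) ⟨y, hy⟩
      exact (congrArg Subtype.val this).symm
  rw [hbot, Subgroup.mem_bot] at hmem
  have : z = 1 := Subtype.ext (Subtype.ext hmem)
  rw [this, orderOf_one] at hz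
  omega

end omega

section structureE

variable {X : Type*} [Group X] [Finite X]

/-- elements of `zpowers d` commute -/
theorem comm_zpowers {d x y : X} (hx : x ∈ Subgroup.zpowers d) (hy : y ∈ Subgroup.zpowers d) :
    x * y = y * x :=
  congrArg Subtype.val (mul_comm' (⟨x, hx⟩ : ↥(Subgroup.zpowers d)) ⟨y, hy⟩)

/-- `d³` centralises `Ω₁(Z(P))` when the latter has order at most four -/
theorem cube_centralizes (d : X) (n : ℕ) (hd : orderOf d = 3 ^ n) (P : Subgroup X)
    (hdP : d ∈ Subgroup.normalizer (P : Set X)) (hle : Nat.card (omegaCenter P) ≤ 4) :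
    ∀ e ∈ omegaCenter P, d ^ 3 * e * (d ^ 3)⁻¹ = e := by
  classical
  set S : Set X := {e | e ∈ omegaCenter P ∧ d ^ 3 * e * (d ^ 3)⁻¹ ≠ e} with hS
  have h9 : 9 ∣ Nat.card S := by
    apply nine_dvd_card d n hd S
    · rintro x ⟨hxE, hx⟩
      refine ⟨omegaCenter_conj hdP hxE, ?_⟩
      intro h
      apply hx
      have : d ^ 3 * (d * x * d⁻¹) * (d ^ 3)⁻¹ = d * (d ^ 3 * x * (d ^ 3)⁻¹) * d⁻¹ := by
        simp only [pow_succ, pow_zero, one_mul]; group
      rw [this] at h
      have h2 := congrArg (fun w => d⁻¹ * w * d) h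
      simpa [mul_assoc] using h2
    · rintro x ⟨-, hx⟩
      exact hx
  have hle' : Nat.card S ≤ 4 := by
    refine le_trans ?_ hle
    exact Nat.card_le_card_of_injective (fun s : S => (⟨s.1, s.2.1⟩ : omegaCenter P))
      (fun a b h => Subtype.ext (by
        have h' := congrArg (fun w : omegaCenter P => (w : X)) h
        exact h'))
  have h0 : Nat.card S = 0 := by
    obtain ⟨k, hk⟩ := h9
    omega
  intro e he
  by_contra hne
  have : IsEmpty S := by
    rcases Nat.card_eq_zero.mp h0 with h | h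
    · exact h
    · exact absurd (inferInstance : Finite S) (not_finite_iff_infinite.mpr h)
  exact this.false ⟨e, he, hne⟩

/-- the structure of `E = Ω₁(Z(P))`: for each non-identity `e₀` we have
`E = {1, e₀, e₀ᵈ, e₀ᵈᵈ}` with four distinct elements -/
theorem structure_E (d : X) (n : ℕ) (hd : orderOf d = 3 ^ n) (P : Subgroup X)
    (hdP : d ∈ Subgroup.normalizer (P : Set X))
    (hfpf : P ⊓ Subgroup.centralizer {d} = ⊥) (hle : Nat.card (omegaCenter P) ≤ 4)
    (e0 : X) (he0 : e0 ∈ omegaCenter P) (h0 : e0 ≠ 1) :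
    e0 ≠ d * e0 * d⁻¹ ∧ e0 ≠ d * (d * e0 * d⁻¹) * d⁻¹ ∧
    (∀ e, e ∈ omegaCenter P ↔ e = 1 ∨ e = e0 ∨ e = d * e0 * d⁻¹ ∨ e = d * (d * e0 * d⁻¹) * d⁻¹) ∧
    Nat.card (omegaCenter P) = 4 := by
  classical
  have hcube := cube_centralizes d n hd P hdP hle
  have hnofix : ∀ e ∈ omegaCenter P, d * e * d⁻¹ = e → e = 1 := by
    intro e he h
    have : e ∈ P ⊓ Subgroup.centralizer {d} := by
      refine ⟨he.1, ?_⟩
      change e ∈ Subgroup.centralizer {d}
      rw [Subgroup.mem_centralizer_iff]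
      intro x hx
      rw [Set.mem_singleton_iff] at hx
      subst hx
      calc x * e = (x * e * x⁻¹) * x := by group
        _ = e * x := by rw [h]
    rw [hfpf, Subgroup.mem_bot] at this
    exact this
  have h1 : e0 ≠ d * e0 * d⁻¹ := fun h => h0 (hnofix e0 he0 h.symm)
  have h2 : e0 ≠ d * (d * e0 * d⁻¹) * d⁻¹ := by
    intro h
    apply h1
    have h3 := hcube e0 he0
    -- `d e0 d⁻¹ = d³ (d⁻² e0 d²) d⁻³` and `d² e0 d⁻² = e0`
    have h4 : d⁻¹ * (d⁻¹ * e0 * d) * d = e0 := by
      have := congrArg (fun w => d⁻¹ * (d⁻¹ * w * d) * d) h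
      change d⁻¹ * (d⁻¹ * e0 * d) * d = d⁻¹ * (d⁻¹ * (d * (d * e0 * d⁻¹) * d⁻¹) * d) * d at this
      rw [this]; group
    calc e0 = d ^ 3 * e0 * (d ^ 3)⁻¹ := h3.symm
      _ = d * (d * (d * e0 * d⁻¹) * d⁻¹) * d⁻¹ := by
        simp only [pow_succ, pow_zero, one_mul]; group
      _ = d * e0 * d⁻¹ := by rw [← h]
  set e1 := d * e0 * d⁻¹ with he1
  set e2 := d * e1 * d⁻¹ with he2
  have he1E : e1 ∈ omegaCenter P := omegaCenter_conj hdP he0
  have he2E : e2 ∈ omegaCenter P := omegaCenter_conj hdP he1E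
  have conj_inj : ∀ a b : X, d * a * d⁻¹ = d * b * d⁻¹ → a = b := by
    intro a b h
    have := congrArg (fun w => d⁻¹ * w * d) h
    simpa [mul_assoc] using this
  have d1 : e1 ≠ 1 := by
    intro h
    apply h0
    apply conj_inj
    rw [← he1, h]; group
  have d2 : e2 ≠ 1 := by
    intro h
    apply d1
    apply conj_inj
    rw [← he2, h]; group
  have d12 : e1 ≠ e2 := fun h => h1 (conj_inj _ _ h)
  set T : Finset X := {1, e0, e1, e2} with hT
  have hTcard : T.card = 4 := by
    rw [hT, Finset.card_insert_of_notMem, Finset.card_insert_of_notMem, Finset.card_pair d12]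
    · simp [h1, h2]
    · simp [h0.symm, d1.symm, d2.symm]
  have hTE : (T : Set X) ⊆ (omegaCenter P : Set X) := by
    intro x hx
    rw [hT] at hx
    simp only [Finset.coe_insert, Finset.coe_singleton, Set.mem_insert_iff,
      Set.mem_singleton_iff] at hx
    rcases hx with rfl | rfl | rfl | rfl
    · exact (omegaCenter P).one_mem
    · exact he0
    · exact he1E
    · exact he2E
  have hEcard : ((omegaCenter P : Set X)).ncard = Nat.card (omegaCenter P) :=
    (Nat.card_coe_set_eq _).symm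
  have hEq : (T : Set X) = (omegaCenter P : Set X) := by
    apply Set.eq_of_subset_of_ncard_le hTE _ (Set.toFinite _)
    rw [Set.ncard_coe_finset, hTcard, hEcard]
    exact hle
  refine ⟨h1, h2, ?_, ?_⟩
  · intro e
    have : e ∈ (omegaCenter P : Set X) ↔ e ∈ (T : Set X) := by rw [hEq]
    rw [← SetLike.mem_coe, this, hT]
    simp
  · rw [← hEcard, ← hEq, Set.ncard_coe_finset, hTcard]

/-- the rank hypothesis bounds elementary abelian subgroups of `P` -/
theorem card_le_four (P : Subgroup X)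
    (hrank : ∀ V : Subgroup X, V ≤ P → IsMulCommutative V → Cfsg.PRankLE 2 2 V)
    (F : Subgroup X) (hFP : F ≤ P) (hcomm : ∀ x ∈ F, ∀ y ∈ F, x * y = y * x)
    (hsq : ∀ x ∈ F, x ^ 2 = 1) : Nat.card F ≤ 4 := by
  have hF : IsMulCommutative ↥F := ⟨⟨fun a b => Subtype.ext (hcomm a a.2 b b.2)⟩⟩
  have h := hrank F hFP hF (⊤ : Subgroup ↥F)
    ⟨⟨fun a b => Subtype.ext (Subtype.ext (hcomm a.1 a.1.2 b.1 b.1.2))⟩⟩
    (fun a _ => Subtype.ext (by
      have := hsq a a.2
      simpa using this))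
  rw [Subgroup.card_top] at h
  simpa using h

/-- all involutions of `P` lie in `Ω₁(Z(P))` once the latter has order four -/
theorem involution_mem (P : Subgroup X)
    (hrank : ∀ V : Subgroup X, V ≤ P → IsMulCommutative V → Cfsg.PRankLE 2 2 V)
    (hE4 : Nat.card (omegaCenter P) = 4) {t : X} (htP : t ∈ P) (ht2 : t ^ 2 = 1) :
    t ∈ omegaCenter P := by
  classical
  by_contra htE
  set S : Set X := (omegaCenter P : Set X) ∪ {t} with hS
  have hSP : S ⊆ (P : Set X) := by
    rintro x (hx | hx)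
    · exact hx.1
    · rw [Set.mem_singleton_iff] at hx; rw [hx]; exact htP
  have hScomm : ∀ x ∈ S, ∀ y ∈ S, x * y = y * x := by
    rintro x (hx | hx) y hy
    · exact hx.2.2 y (hSP hy)
    · rw [Set.mem_singleton_iff] at hx
      subst hx
      rcases hy with hy | hy
      · exact (hy.2.2 x htP).symm
      · rw [Set.mem_singleton_iff] at hy; rw [hy]
  set F := Subgroup.closure S with hF
  have hFP : F ≤ P := (Subgroup.closure_le P).mpr hSP
  have hFcomm : ∀ x ∈ F, ∀ y ∈ F, x * y = y * x := by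
    intro x hx y hy
    haveI := Subgroup.isMulCommutative_closure hScomm
    have := mul_comm' (⟨x, hx⟩ : ↥(Subgroup.closure S)) ⟨y, hy⟩
    exact congrArg Subtype.val this
  have hFsq : ∀ x ∈ F, x ^ 2 = 1 := by
    intro x hx
    induction hx using Subgroup.closure_induction with
    | mem x hx =>
      rcases hx with hx | hx
      · exact hx.2.1
      · rw [Set.mem_singleton_iff] at hx; rw [hx]; exact ht2
    | one => exact one_pow 2
    | mul x y hx hy ihx ihy =>
      have : Commute x y := hFcomm x hx y hy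
      rw [this.mul_pow, ihx, ihy, one_mul]
    | inv x hx ihx => rw [inv_pow, ihx, inv_one]
  have h4 := card_le_four P hrank F hFP hFcomm hFsq
  have hEF : omegaCenter P ≤ F := fun x hx => Subgroup.subset_closure (Or.inl hx)
  have htF : t ∈ F := Subgroup.subset_closure (Or.inr rfl)
  have : omegaCenter P = F := Subgroup.eq_of_le_of_card_ge hEF (by rw [hE4]; exact h4)
  exact htE (this ▸ htF)

theorem le_normalizer_omegaCenter (P : Subgroup X) :
    Subgroup.normalizer (P : Set X) ≤ Subgroup.normalizer ((omegaCenter P : Subgroup X) : Set X) := by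
  intro g hg
  rw [Subgroup.mem_normalizer_iff]
  intro h
  constructor
  · exact fun hh => omegaCenter_conj hg hh
  · intro hh
    have hg' : g⁻¹ ∈ Subgroup.normalizer (P : Set X) := Subgroup.inv_mem _ hg
    have := omegaCenter_conj hg' hh
    have e : g⁻¹ * (g * h * g⁻¹) * g⁻¹⁻¹ = h := by group
    rwa [e] at this

/-- the minimal configuration is impossible -/
theorem minimal_contra (d : X) (n : ℕ) (hd : orderOf d = 3 ^ n) (P : Subgroup X)
    (hP : IsPGroup 2 P) (hdP : d ∈ Subgroup.normalizer (P : Set X))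
    (hfpf : P ⊓ Subgroup.centralizer {d} = ⊥)
    (hrank : ∀ V : Subgroup X, V ≤ P → IsMulCommutative V → Cfsg.PRankLE 2 2 V)
    (hE4 : Nat.card (omegaCenter P) = 4)
    (R : Subgroup X) (hRP : R ≤ P) (hBR : Subgroup.zpowers d ≤ Subgroup.normalizer (R : Set X))
    (hne : ⁅R, Subgroup.zpowers (d ^ 3)⁆ ≠ ⊥)
    (hmin : ∀ U : Subgroup X, U < R → Subgroup.zpowers d ≤ Subgroup.normalizer (U : Set X) →
      ⁅U, Subgroup.zpowers (d ^ 3)⁆ = ⊥) : False := by
  classical
  haveI : Fact (Nat.Prime 2) := ⟨Nat.prime_two⟩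
  have hdB : d ∈ Subgroup.zpowers d := Subgroup.mem_zpowers d
  have hdR : d ∈ Subgroup.normalizer (R : Set X) := hBR hdB
  have hAB : Subgroup.zpowers (d ^ 3) ≤ Subgroup.zpowers d :=
    Subgroup.zpowers_le.mpr ((Subgroup.zpowers d).pow_mem hdB 3)
  have hAn : Subgroup.zpowers d ≤ Subgroup.normalizer ((Subgroup.zpowers (d ^ 3) : Subgroup X) : Set X) := by
    intro b hb
    rw [Subgroup.mem_normalizer_iff]
    intro h
    constructor
    · intro hh
      have : b * h * b⁻¹ = h := by rw [comm_zpowers hb (hAB hh)]; group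
      rwa [this]
    · intro hh
      have hc := comm_zpowers (d := d) ((Subgroup.zpowers d).inv_mem hb) (hAB hh)
      have : h = b * h * b⁻¹ := by
        calc h = b⁻¹ * (b * h * b⁻¹) * b := by group
          _ = (b * h * b⁻¹) * b⁻¹ * b := by rw [hc]
          _ = b * h * b⁻¹ := by group
      rw [this]; exact hh
  have hAp : (Nat.card (Subgroup.zpowers (d ^ 3))).Coprime 2 := by
    rw [Nat.card_zpowers]
    have h1 : orderOf (d ^ 3) ∣ 3 ^ n := hd ▸ orderOf_pow_dvd 3
    exact Nat.Coprime.coprime_dvd_left h1 (Nat.Coprime.pow_left n (by norm_num))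
  have hR2 : IsPGroup 2 R := hP.to_le hRP
  have hcomm : ⁅R, Subgroup.zpowers (d ^ 3)⁆ = R :=
    Cfsg.Agent.S3736.comm_eq _ _ R hR2 hBR hAB hAn hAp hne hmin
  have hcop := Cfsg.Agent.S3736.hcop_aux (Subgroup.zpowers (d ^ 3)) R hR2 hAp
  have hCle : R ⊓ Subgroup.centralizer ((Subgroup.zpowers (d ^ 3) : Subgroup X) : Set X) ≤ ⁅R, R⁆ :=
    Cfsg.Agent.S3736.centralizer_le_commutator R _ (hAB.trans hBR) hcop hcomm.ge
  have hcl : ⁅R, ⁅R, R⁆⁆ = ⊥ :=
    Cfsg.Agent.S3737.class_two _ _ R hR2 hBR hAB hAn hAp hne hmin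
  have hprop : ∀ U : Subgroup X, U ≤ R → U ≠ R →
      Subgroup.zpowers d ≤ Subgroup.normalizer (U : Set X) → U ≤ ⁅R, R⁆ := by
    intro U hUR hU hBU
    have h1 := hmin U (lt_of_le_of_ne hUR hU) hBU
    rw [Subgroup.commutator_eq_bot_iff_le_centralizer] at h1
    exact (le_inf hUR h1).trans hCle
  -- the Frattini subgroup
  have hRne : R ≠ ⊥ := by
    rintro rfl
    exact hne (Subgroup.commutator_bot_left _)
  haveI : Nontrivial ↥R := (Subgroup.nontrivial_iff_ne_bot R).mpr hRne
  have hΦR : (frattini ↥R).map R.subtype ≤ R := Subgroup.map_subtype_le _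
  have hΦne : (frattini ↥R).map R.subtype ≠ R := by
    intro h
    rcases eq_top_or_exists_le_coatom (⊥ : Subgroup ↥R) with h0 | ⟨M, hM, -⟩
    · exact bot_ne_top h0
    · have h1 : frattini ↥R ≤ M := frattini_le_coatom hM
      have h2 : frattini ↥R = ⊤ := by
        apply Subgroup.map_injective R.subtype_injective
        rw [h, ← MonoidHom.range_eq_map, Subgroup.range_subtype]
      rw [h2, top_le_iff] at h1
      exact hM.1 h1
  have hBΦ : Subgroup.zpowers d ≤
      Subgroup.normalizer (((frattini ↥R).map R.subtype : Subgroup X) : Set X) :=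
    hBR.trans (normalizer_le_normalizer_map_of_characteristic R (frattini ↥R))
  have hΦZ : (frattini ↥R).map R.subtype ≤ ⁅R, R⁆ := hprop _ hΦR hΦne hBΦ
  have hsqZ : ∀ x ∈ R, x ^ 2 ∈ ⁅R, R⁆ := by
    intro x hx
    apply hΦZ
    refine ⟨(⟨x, hx⟩ : ↥R) ^ 2, pow_mem_frattini_of_isPGroup hR2 _, rfl⟩
  have hZR : ⁅R, R⁆ ≤ R := Subgroup.commutator_le_self R
  have hZc : ∀ c ∈ ⁅R, R⁆, ∀ x ∈ R, c * x = x * c := by
    intro c hc x hx
    rw [Subgroup.commutator_eq_bot_iff_le_centralizer] at hcl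
    exact ((Subgroup.mem_centralizer_iff.mp (hcl hx)) c hc)
  -- the derived subgroup has exponent two
  have hgen : ∀ x ∈ R, ∀ y ∈ R, (⁅x, y⁆) ^ 2 = 1 := by
    intro x hx y hy
    have hcZ : ⁅x, y⁆ ∈ ⁅R, R⁆ := Subgroup.commutator_mem_commutator hx hy
    generalize hc : ⁅x, y⁆ = c at hcZ
    have e1 : x * y = c * (y * x) := by rw [← hc, commutatorElement_def]; group
    have hcx : c * x = x * c := hZc c hcZ x hx
    have hx2 : x ^ 2 * y = y * x ^ 2 := hZc _ (hsqZ x hx) y hy
    have e2 : x ^ 2 * y = c ^ 2 * (y * x ^ 2) := by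
      calc x ^ 2 * y = x * (x * y) := by rw [pow_two, mul_assoc]
        _ = x * (c * (y * x)) := by rw [e1]
        _ = (x * c) * (y * x) := by rw [mul_assoc]
        _ = (c * x) * (y * x) := by rw [hcx]
        _ = c * (x * y) * x := by simp only [mul_assoc]
        _ = c * (c * (y * x)) * x := by rw [e1]
        _ = c ^ 2 * (y * x ^ 2) := by simp only [pow_two, mul_assoc]
    rw [hx2] at e2
    have := mul_right_cancel (a := (1 : X)) (b := y * x ^ 2) (c := c ^ 2) (by rw [one_mul]; exact e2)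
    exact this.symm
  have hZ2 : ∀ z ∈ ⁅R, R⁆, z ^ 2 = 1 := by
    intro z hz
    rw [Subgroup.commutator_def] at hz
    induction hz using Subgroup.closure_induction with
    | mem z hz =>
      obtain ⟨x, hx, y, hy, rfl⟩ := hz
      exact hgen x hx y hy
    | one => exact one_pow 2
    | mul a b ha hb iha ihb =>
      rw [← Subgroup.commutator_def] at ha hb
      have : Commute a b := hZc a ha b (hZR hb)
      rw [this.mul_pow, iha, ihb, one_mul]
    | inv a _ iha => rw [inv_pow, iha, inv_one]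
  -- relations with `E = Ω₁(Z(P))`
  have hcubeE := cube_centralizes d n hd P hdP hE4.le
  have hEA : omegaCenter P ≤
      Subgroup.centralizer ((Subgroup.zpowers (d ^ 3) : Subgroup X) : Set X) := by
    intro e he
    rw [Subgroup.mem_centralizer_iff]
    intro h hh
    obtain ⟨k, rfl⟩ := Subgroup.mem_zpowers_iff.mp hh
    have h1 : d ^ 3 * e = e * d ^ 3 := by
      have := hcubeE e he
      calc d ^ 3 * e = (d ^ 3 * e * (d ^ 3)⁻¹) * d ^ 3 := by group
        _ = e * d ^ 3 := by rw [this]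
    exact ((show Commute (d ^ 3) e from h1).zpow_left k).eq
  have hREne : ¬ R ≤ omegaCenter P := by
    intro h
    apply hne
    rw [Subgroup.commutator_eq_bot_iff_le_centralizer]
    exact h.trans hEA
  have hBP : Subgroup.zpowers d ≤ Subgroup.normalizer (P : Set X) := Subgroup.zpowers_le.mpr hdP
  have hBE : Subgroup.zpowers d ≤ Subgroup.normalizer ((omegaCenter P : Subgroup X) : Set X) :=
    hBP.trans (le_normalizer_omegaCenter P)
  have hBER : Subgroup.zpowers d ≤
      Subgroup.normalizer ((omegaCenter P ⊓ R : Subgroup X) : Set X) := by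
    intro b hb
    rw [Subgroup.mem_normalizer_iff]
    intro h
    have h1 := Subgroup.mem_normalizer_iff.mp (hBE hb) h
    have h2 := Subgroup.mem_normalizer_iff.mp (hBR hb) h
    rw [Subgroup.mem_inf, Subgroup.mem_inf, h1, h2]
  have hERZ : omegaCenter P ⊓ R ≤ ⁅R, R⁆ :=
    hprop _ inf_le_right (fun h => hREne (h ▸ inf_le_left)) hBER
  have hinvR : ∀ x ∈ R, x ^ 2 = 1 → x ∈ ⁅R, R⁆ := fun x hx h =>
    hERZ ⟨involution_mem P hrank hE4 (hRP hx) h, hx⟩
  have hZE : ⁅R, R⁆ ≤ omegaCenter P := fun z hz =>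
    involution_mem P hrank hE4 (hRP (hZR hz)) (hZ2 z hz)
  have hZne : ⁅R, R⁆ ≠ ⊥ := by
    intro h
    apply hREne
    intro x hx
    have := hsqZ x hx
    rw [h, Subgroup.mem_bot] at this
    exact involution_mem P hrank hE4 (hRP hx) this
  obtain ⟨⟨e0, he0Z⟩, he01'⟩ := (Subgroup.ne_bot_iff_exists_ne_one).mp hZne
  have he01 : e0 ≠ 1 := fun h => he01' (Subtype.ext h)
  obtain ⟨h1, h2, hEmem, -⟩ := structure_E d n hd P hdP hfpf hE4.le e0 (hZE he0Z) he01
  have hBZ : Subgroup.zpowers d ≤ Subgroup.normalizer ((⁅R, R⁆ : Subgroup X) : Set X) :=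
    fun b hb => mem_normalizer_commutator R R (hBR hb) (hBR hb)
  have he1Z : d * e0 * d⁻¹ ∈ ⁅R, R⁆ := (Subgroup.mem_normalizer_iff.mp (hBZ hdB) e0).mp he0Z
  have he2Z : d * (d * e0 * d⁻¹) * d⁻¹ ∈ ⁅R, R⁆ :=
    (Subgroup.mem_normalizer_iff.mp (hBZ hdB) _).mp he1Z
  have hZmem : ∀ z, z ∈ ⁅R, R⁆ ↔
      z = 1 ∨ z = e0 ∨ z = d * e0 * d⁻¹ ∨ z = d * (d * e0 * d⁻¹) * d⁻¹ := by
    intro z
    constructor
    · intro hz
      exact (hEmem z).mp (hZE hz)
    · rintro (rfl | rfl | rfl | rfl)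
      · exact Subgroup.one_mem _
      · exact he0Z
      · exact he1Z
      · exact he2Z
  have hZeqE : ⁅R, R⁆ = omegaCenter P := by
    ext z
    rw [hZmem, hEmem]
  have hZcard : Nat.card ↥⁅R, R⁆ = 4 := by rw [hZeqE, hE4]
  -- the counting lemma
  have h64 : Nat.card ↥R ∣ 64 := by
    refine card_dvd_sixtyfour (Cfsg.Agent.Lib.Helper2_Coprime.conjAut R _ hBR ⟨d, hdB⟩)
      ((⁅R, R⁆ : Subgroup X).subgroupOf R) ⟨e0, hZR he0Z⟩ ?_ ?_ ?_ ?_ ?_ ?_ ?_
    · intro x
      rw [Subgroup.mem_subgroupOf]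
      exact hsqZ x.1 x.2
    · intro x hx
      rw [Subgroup.mem_subgroupOf]
      apply hinvR x.1 x.2
      have := congrArg Subtype.val hx
      simpa using this
    · intro e he
      rw [Subgroup.mem_subgroupOf] at he
      apply Subtype.ext
      have := hZ2 e.1 he
      simpa using this
    · intro e
      rw [Subgroup.mem_subgroupOf, hZmem]
      simp only [Subtype.ext_iff, Cfsg.Agent.Lib.Helper2_Coprime.conjAut_apply_coe]
      rfl
    · intro h
      exact he01 (congrArg Subtype.val h)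
    · intro h
      exact h1 (congrArg Subtype.val h)
    · intro h
      exact h2 (congrArg Subtype.val h)
  -- orbits of `d` on `R \ Z`
  set S : Set X := (R : Set X) \ ((⁅R, R⁆ : Subgroup X) : Set X) with hS
  have h9 : 9 ∣ Nat.card S := by
    apply nine_dvd_card d n hd S
    · rintro x ⟨hxR, hxZ⟩
      refine ⟨(Subgroup.mem_normalizer_iff.mp hdR x).mp hxR, ?_⟩
      intro h
      exact hxZ ((Subgroup.mem_normalizer_iff.mp (hBZ hdB) x).mpr h)
    · rintro x ⟨hxR, hxZ⟩ h
      apply hxZ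
      apply hCle
      refine ⟨hxR, ?_⟩
      change x ∈ Subgroup.centralizer ((Subgroup.zpowers (d ^ 3) : Subgroup X) : Set X)
      rw [Subgroup.mem_centralizer_iff]
      intro g hg
      obtain ⟨k, rfl⟩ := Subgroup.mem_zpowers_iff.mp hg
      have h1 : d ^ 3 * x = x * d ^ 3 := by
        calc d ^ 3 * x = (d ^ 3 * x * (d ^ 3)⁻¹) * d ^ 3 := by group
          _ = x * d ^ 3 := by rw [h]
      exact ((show Commute (d ^ 3) x from h1).zpow_left k).eq
  have hScard : Nat.card S = Nat.card ↥R - 4 := by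
    rw [Nat.card_coe_set_eq, hS, Set.ncard_sdiff (by exact_mod_cast hZR) (Set.toFinite _),
      ← Nat.card_coe_set_eq, ← Nat.card_coe_set_eq]
    change Nat.card ↥R - Nat.card ↥⁅R, R⁆ = _
    rw [hZcard]
  have hlt : 4 < Nat.card ↥R := by
    rw [← hZcard]
    apply lt_of_not_ge
    intro h
    have := Subgroup.eq_of_le_of_card_ge hZR h
    apply hREne
    rw [← this]
    exact hZE
  have h64' : Nat.card ↥R ∣ 2 ^ 6 := by norm_num; exact h64
  obtain ⟨k, hk6, hk⟩ := (Nat.dvd_prime_pow Nat.prime_two).mp h64'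
  rw [hScard, hk] at h9
  rw [hk] at hlt
  interval_cases k <;> omega

end structureE

/-- Let d be a non-identity 3-element of a finite group and P a 2-subgroup normalized by d on which ⟨d⟩ acts faithfully (no non-identity power of d centralizes P) and without non-identity fixed points (C_P(d) = 1). If every abelian subgroup of P has 2-rank at most 2, then d has order 3. -/
theorem result {X : Type*} [Group X] [Finite X] (d : X) (n : ℕ) (hn : 1 ≤ n) (hd : orderOf d = 3 ^ n) (P : Subgroup X) (hP : IsPGroup 2 P) (hdP : d ∈ Subgroup.normalizer (P : Set X)) (hfaith : Subgroup.zpowers d ⊓ Subgroup.centralizer (P : Set X) = ⊥) (hfpf : P ⊓ Subgroup.centralizer {d} = ⊥) (hrank : ∀ V : Subgroup X, V ≤ P → IsMulCommutative V → Cfsg.PRankLE 2 2 V) : orderOf d = 3 := by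
  classical
  haveI : Fact (Nat.Prime 2) := ⟨Nat.prime_two⟩
  by_cases hA : ⁅P, Subgroup.zpowers (d ^ 3)⁆ = ⊥
  · -- `d³` centralises `P`, hence is trivial
    rw [Subgroup.commutator_eq_bot_iff_le_centralizer, Subgroup.le_centralizer_iff] at hA
    have h1 : d ^ 3 ∈ Subgroup.zpowers d ⊓ Subgroup.centralizer (P : Set X) :=
      ⟨(Subgroup.zpowers d).pow_mem (Subgroup.mem_zpowers d) 3, hA (Subgroup.mem_zpowers _)⟩
    rw [hfaith, Subgroup.mem_bot] at h1
    have h2 : orderOf d ∣ 3 := orderOf_dvd_of_pow_eq_one h1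
    rw [hd] at h2 ⊢
    have hn1 : n ≤ 1 := by
      by_contra hlt
      have : 3 ^ 2 ∣ 3 ^ n := pow_dvd_pow 3 (by omega)
      have := Nat.le_of_dvd (by norm_num) (this.trans h2)
      omega
    have : n = 1 := le_antisymm hn1 hn
    rw [this, pow_one]
  · exfalso
    have hPne : P ≠ ⊥ := by
      rintro rfl
      exact hA (Subgroup.commutator_bot_left _)
    have hle4 : Nat.card (omegaCenter P) ≤ 4 := by
      apply card_le_four P hrank (omegaCenter P) (omegaCenter_le P)
      · intro x hx y hy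
        exact hx.2.2 y hy.1
      · intro x hx
        exact hx.2.1
    obtain ⟨⟨e0, he0⟩, he01'⟩ :=
      (Subgroup.ne_bot_iff_exists_ne_one).mp (omegaCenter_ne_bot hP hPne)
    have he01 : e0 ≠ 1 := fun h => he01' (Subtype.ext h)
    obtain ⟨-, -, -, hE4⟩ := structure_E d n hd P hdP hfpf hle4 e0 he0 he01
    have hBP : Subgroup.zpowers d ≤ Subgroup.normalizer (P : Set X) :=
      Subgroup.zpowers_le.mpr hdP
    have key : ∀ m : ℕ, ∀ U : Subgroup X, Nat.card U = m → U ≤ P →
        Subgroup.zpowers d ≤ Subgroup.normalizer (U : Set X) →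
        ⁅U, Subgroup.zpowers (d ^ 3)⁆ = ⊥ := by
      intro m
      induction m using Nat.strong_induction_on with
      | _ m ih =>
        intro U hUm hUP hBU
        by_contra hne
        refine minimal_contra d n hd P hP hdP hfpf hrank hE4 U hUP hBU hne ?_
        intro U' hU' hBU'
        have hcard : Nat.card U' < m := by
          rw [← hUm]
          exact lt_of_not_ge (fun h => hU'.ne (Subgroup.eq_of_le_of_card_ge hU'.le h))
        exact ih _ hcard U' rfl (hU'.le.trans hUP) hBU'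
    exact hA (key _ P rfl le_rfl hBP)

end Cfsg.Agent.S3738
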