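import Cfsg.Statements.S3739
import Cfsg.Agent.S3738
import Cfsg.Agent.S0058
import Cfsg.Agent.Lib.Helper1_Cores

set_option autoImplicit false
set_option linter.style.haveILetI false
set_option linter.unusedSectionVars false
open Cfsg

namespace Cfsg.Agent.S3739

open Cfsg.Agent.Lib.Helper62_Count Cfsg.Agent.Lib.Helper1_Cores Cfsg.Agent.S3738

section aux

variable {G : Type*} [Group G] [Finite G]

/-- adjoining a commuting involution to an elementary abelian `2`-subgroup -/
theorem exists_larger (F : Subgroup G) (hF : Cfsg.IsElementaryAbelian 2 F) (t : G)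
    (ht2 : t ^ 2 = 1) (htc : ∀ x ∈ F, t * x = x * t) (htF : t ∉ F) :
    ∃ F' : Subgroup G, Cfsg.IsElementaryAbelian 2 F' ∧ Nat.card F < Nat.card F' := by
  classical
  obtain ⟨hFc, hF2⟩ := hF
  set S : Set G := (F : Set G) ∪ {t} with hS
  have hScomm : ∀ x ∈ S, ∀ y ∈ S, x * y = y * x := by
    rintro x (hx | hx) y (hy | hy)
    · exact congrArg Subtype.val (mul_comm' (⟨x, hx⟩ : ↥F) ⟨y, hy⟩)
    · rw [Set.mem_singleton_iff] at hy; subst hy
      exact (htc x hx).symm
    · rw [Set.mem_singleton_iff] at hx; subst hx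
      exact htc y hy
    · rw [Set.mem_singleton_iff] at hx hy; rw [hx, hy]
  refine ⟨Subgroup.closure S, ⟨Subgroup.isMulCommutative_closure hScomm, ?_⟩, ?_⟩
  · haveI := Subgroup.isMulCommutative_closure hScomm
    intro x hx
    induction hx using Subgroup.closure_induction with
    | mem x hx =>
      rcases hx with hx | hx
      · exact hF2 x hx
      · rw [Set.mem_singleton_iff] at hx; rw [hx]; exact ht2
    | one => exact one_pow 2
    | mul x y hx hy ihx ihy =>
      have : Commute x y :=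
        congrArg Subtype.val (mul_comm' (⟨x, hx⟩ : ↥(Subgroup.closure S)) ⟨y, hy⟩)
      rw [this.mul_pow, ihx, ihy, one_mul]
    | inv x hx ihx => rw [inv_pow, ihx, inv_one]
  · have hle : F ≤ Subgroup.closure S := fun x hx => Subgroup.subset_closure (Or.inl hx)
    have htS : t ∈ Subgroup.closure S := Subgroup.subset_closure (Or.inr rfl)
    apply lt_of_not_ge
    intro h
    have := Subgroup.eq_of_le_of_card_ge hle h
    exact htF (this ▸ htS)

/-- a normalising element centralises a subgroup of order two -/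
theorem fixed_of_card_two {U : Subgroup G} (h2 : Nat.card U = 2) {d : G}
    (hd : d ∈ Subgroup.normalizer (U : Set G)) {w : G} (hw : w ∈ U) : d * w * d⁻¹ = w := by
  by_cases h1 : w = 1
  · rw [h1]; group
  · obtain ⟨y, -, hy⟩ := (Nat.card_eq_two_iff' (1 : ↥U)).mp h2
    have hw' : d * w * d⁻¹ ∈ U := (Subgroup.mem_normalizer_iff.mp hd w).mp hw
    have e1 : (⟨w, hw⟩ : ↥U) = y := hy _ (fun h => h1 (congrArg Subtype.val h))
    have e2 : (⟨d * w * d⁻¹, hw'⟩ : ↥U) = y := hy _ (fun h => h1 (by
      have := congrArg Subtype.val h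
      change d * w * d⁻¹ = 1 at this
      have h3 := congrArg (fun v => d⁻¹ * v * d) this
      simpa [mul_assoc] using h3))
    exact congrArg Subtype.val (e2.trans e1.symm)

/-- a `2`-group normalising a four-group fixes one of its involutions -/
theorem exists_fixed_involution (T Z : Subgroup G) (hT : IsPGroup 2 T)
    (hTZ : T ≤ Subgroup.normalizer (Z : Set G)) (hZ4 : Nat.card Z = 4) :
    ∃ z ∈ Z, z ≠ 1 ∧ ∀ t ∈ T, t * z * t⁻¹ = z := by
  classical
  haveI : Fact (Nat.Prime 2) := ⟨Nat.prime_two⟩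
  have hU : ∀ x ∈ T, ∀ g ∈ (Z : Set G), x * g * x⁻¹ ∈ (Z : Set G) := fun x hx g hg =>
    (Subgroup.mem_normalizer_iff.mp (hTZ hx) g).mp hg
  letI := conjSetAction T (Z : Set G) hU
  have hfix1 : (⟨1, Z.one_mem⟩ : ↥(Z : Set G)) ∈ MulAction.fixedPoints ↥T ↥(Z : Set G) := by
    intro x
    apply Subtype.ext
    change x.1 * 1 * x.1⁻¹ = 1
    group
  have hdvd : 2 ∣ Nat.card ↥(Z : Set G) := by
    change 2 ∣ Nat.card ↥Z
    rw [hZ4]; norm_num
  obtain ⟨b, hb, hb1⟩ := hT.exists_fixed_point_of_prime_dvd_card_of_fixed_point _ hdvd hfix1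
  refine ⟨b.1, b.2, fun h => hb1 (Subtype.ext h.symm), ?_⟩
  intro t ht
  exact congrArg Subtype.val (hb ⟨t, ht⟩)

/-- an element of order three normalising a four-group either centralises it or moves every
involution -/
theorem three_cases (c : G) (hc : orderOf c = 3) (Z : Subgroup G)
    (hcZ : c ∈ Subgroup.normalizer (Z : Set G)) (hZ4 : Nat.card Z = 4) :
    (∀ z ∈ Z, c * z * c⁻¹ = z) ∨ (∀ z ∈ Z, c * z * c⁻¹ = z → z = 1) := by
  classical
  haveI : Fact (Nat.Prime 3) := ⟨Nat.prime_three⟩
  set S : Set G := {z | z ∈ Z ∧ c * z * c⁻¹ ≠ z} with hS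
  have conj_inj : ∀ a b : G, c * a * c⁻¹ = c * b * c⁻¹ → a = b := by
    intro a b h
    have := congrArg (fun w => c⁻¹ * w * c) h
    simpa [mul_assoc] using this
  have hP : IsPGroup 3 ↥(Subgroup.zpowers c) :=
    IsPGroup.of_card (n := 1) (by rw [Nat.card_zpowers, hc, pow_one])
  have hfin : IsOfFinOrder c := by
    rw [← orderOf_pos_iff, hc]; norm_num
  have hU : ∀ y ∈ Subgroup.zpowers c, ∀ x ∈ S, y * x * y⁻¹ ∈ S := by
    intro y hy x hx
    rw [← hfin.mem_powers_iff_mem_zpowers] at hy
    obtain ⟨k, rfl⟩ := hy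
    induction k with
    | zero => simpa using hx
    | succ k ih =>
      have e : c ^ (k + 1) * x * (c ^ (k + 1))⁻¹ = c * (c ^ k * x * (c ^ k)⁻¹) * c⁻¹ := by
        rw [pow_succ']; group
      rw [e]
      obtain ⟨h1, h2⟩ := ih
      refine ⟨(Subgroup.mem_normalizer_iff.mp hcZ _).mp h1, ?_⟩
      intro h
      exact h2 (conj_inj _ _ h)
  letI := conjSetAction (Subgroup.zpowers c) S hU
  have hmod := hP.card_modEq_card_fixedPoints ↥S
  have hfixempty : IsEmpty ↥(MulAction.fixedPoints ↥(Subgroup.zpowers c) ↥S) := by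
    constructor
    rintro ⟨s, hs⟩
    have := congrArg Subtype.val (hs ⟨c, Subgroup.mem_zpowers c⟩)
    exact s.2.2 this
  have hf0 : Nat.card ↥(MulAction.fixedPoints ↥(Subgroup.zpowers c) ↥S) = 0 :=
    Nat.card_of_isEmpty
  rw [hf0] at hmod
  have h3 : 3 ∣ Nat.card ↥S := (Nat.modEq_zero_iff_dvd).mp hmod
  haveI := Fintype.ofFinite ↥S
  -- `S ⊆ Z \ {1}`
  have hle : Nat.card ↥S + 1 ≤ 4 := by
    rw [← hZ4]
    have hinj : Function.Injective (fun o : Option ↥S =>
        (match o with
          | none => (1 : ↥Z)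
          | some s => ⟨s.1, s.2.1⟩ : ↥Z)) := by
      intro a b h
      cases a with
      | none =>
        cases b with
        | none => rfl
        | some s =>
          exfalso
          have h' := congrArg Subtype.val h
          change (1 : G) = s.1 at h'
          apply s.2.2
          rw [← h']; group
      | some s =>
        cases b with
        | none =>
          exfalso
          have h' := congrArg Subtype.val h
          change s.1 = (1 : G) at h'
          apply s.2.2
          rw [h']; group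
        | some s' =>
          have h' := congrArg Subtype.val h
          change s.1 = s'.1 at h'
          rw [Subtype.ext h']
    have := Nat.card_le_card_of_injective _ hinj
    rwa [Nat.card_eq_fintype_card (α := Option ↥S), Fintype.card_option,
      ← Nat.card_eq_fintype_card] at this
  obtain ⟨k, hk⟩ := h3
  have hk01 : k = 0 ∨ k = 1 := by omega
  rcases hk01 with rfl | rfl
  · left
    intro z hz
    by_contra hne
    have : IsEmpty ↥S := by
      rcases Nat.card_eq_zero.mp (by rw [hk]) with h | h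
      · exact h
      · exact absurd (inferInstance : Finite ↥S) (not_finite_iff_infinite.mpr h)
    exact this.false ⟨z, hz, hne⟩
  · right
    -- `S` has three elements, so it is all of `Z \ {1}`
    intro z hz hfix
    by_contra hz1
    -- then `S ∪ {1, z}` would have five elements
    have hinj : Function.Injective (fun o : Option (Option ↥S) =>
        (match o with
          | none => (1 : ↥Z)
          | some none => ⟨z, hz⟩
          | some (some s) => ⟨s.1, s.2.1⟩ : ↥Z)) := by
      intro a b h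
      have h' := congrArg Subtype.val h
      rcases a with _ | _ | s <;> rcases b with _ | _ | s'
      · rfl
      · exact absurd h'.symm hz1
      · exfalso
        change (1 : G) = s'.1 at h'
        apply s'.2.2
        rw [← h']; group
      · exact absurd h' hz1
      · rfl
      · exfalso
        change z = s'.1 at h'
        apply s'.2.2
        rw [← h']; exact hfix
      · exfalso
        change s.1 = (1 : G) at h'
        apply s.2.2
        rw [h']; group
      · exfalso
        change s.1 = z at h'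
        apply s.2.2
        rw [h']; exact hfix
      · change s.1 = s'.1 at h'
        rw [Subtype.ext h']
    have := Nat.card_le_card_of_injective _ hinj
    rw [Nat.card_eq_fintype_card (α := Option (Option ↥S)), Fintype.card_option,
      Fintype.card_option, ← Nat.card_eq_fintype_card, hZ4] at this
    omega

/-- without an `E₈`, elementary abelian `2`-subgroups have order at most four -/
theorem small_of_no_E8 (hno : ¬ ∃ E : Subgroup G, Cfsg.IsElementaryAbelian 2 E ∧ Nat.card E = 8)
    (F : Subgroup G) (hF : Cfsg.IsElementaryAbelian 2 F) : Nat.card F ≤ 4 := by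
  classical
  haveI : Fact (Nat.Prime 2) := ⟨Nat.prime_two⟩
  obtain ⟨hFc, hF2⟩ := hF
  have hFp : IsPGroup 2 ↥F := by
    intro x
    refine ⟨1, ?_⟩
    apply Subtype.ext
    have := hF2 x.1 x.2
    simpa using this
  obtain ⟨k, hk⟩ := IsPGroup.iff_card.mp hFp
  by_contra hlt
  have hk3 : 3 ≤ k := by
    by_contra h
    have : k ≤ 2 := by omega
    have := Nat.pow_le_pow_right (show 0 < 2 by norm_num) this
    omega
  obtain ⟨K, hK⟩ := Sylow.exists_subgroup_card_pow_prime (G := ↥F) 2 (n := 3)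
    (by rw [hk]; exact pow_dvd_pow 2 hk3)
  apply hno
  refine ⟨K.map F.subtype, ⟨⟨⟨?_⟩⟩, ?_⟩, ?_⟩
  · rintro ⟨_, ⟨a, ha, rfl⟩⟩ ⟨_, ⟨b, hb, rfl⟩⟩
    apply Subtype.ext
    change (a : G) * (b : G) = (b : G) * (a : G)
    exact congrArg Subtype.val (mul_comm' a b)
  · rintro _ ⟨a, ha, rfl⟩
    exact hF2 a.1 a.2
  · rw [Subgroup.card_map_of_injective F.subtype_injective, hK]
    norm_num

theorem card_two_or_four (U : Subgroup G) (hU : IsPGroup 2 U) (hne : U ≠ ⊥)
    (hle : Nat.card U ≤ 4) : Nat.card U = 2 ∨ Nat.card U = 4 := by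
  haveI : Fact (Nat.Prime 2) := ⟨Nat.prime_two⟩
  obtain ⟨k, hk⟩ := IsPGroup.iff_card.mp hU
  have hk0 : k ≠ 0 := by
    rintro rfl
    rw [pow_zero] at hk
    exact hne (Subgroup.card_eq_one.mp hk)
  have hk2 : k ≤ 2 := by
    by_contra h
    have : 3 ≤ k := by omega
    have := Nat.pow_le_pow_right (show 0 < 2 by norm_num) this
    omega
  have : k = 1 ∨ k = 2 := by omega
  rcases this with rfl | rfl
  · left; rw [hk]; norm_num
  · right; rw [hk]; norm_num

theorem isPGroup_of_elementary {F : Subgroup G} (hF : Cfsg.IsElementaryAbelian 2 F) :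
    IsPGroup 2 ↥F := by
  intro x
  refine ⟨1, ?_⟩
  apply Subtype.ext
  have := hF.2 x.1 x.2
  simpa using this

theorem exists_involution (K : Subgroup G) (hK : IsPGroup 2 K) (hne : K ≠ ⊥) :
    ∃ t ∈ K, t ≠ 1 ∧ t ^ 2 = 1 := by
  haveI : Fact (Nat.Prime 2) := ⟨Nat.prime_two⟩
  haveI : Nontrivial ↥K := (Subgroup.nontrivial_iff_ne_bot K).mpr hne
  obtain ⟨n, hn0, hn⟩ := hK.nontrivial_iff_card.mp inferInstance
  have hdvd : 2 ∣ Nat.card ↥K := by rw [hn]; exact dvd_pow_self 2 hn0.ne'
  obtain ⟨z, hz⟩ := exists_prime_orderOf_dvd_card' 2 hdvd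
  refine ⟨z.1, z.2, ?_, ?_⟩
  · intro h
    have : z = 1 := Subtype.ext h
    rw [this, orderOf_one] at hz
    omega
  · have := pow_orderOf_eq_one z
    rw [hz] at this
    have h2 := congrArg Subtype.val this
    simpa using h2

theorem conj_eq_iff_comm {a x : G} : a * x * a⁻¹ = x ↔ a * x = x * a := by
  constructor
  · intro h
    calc a * x = (a * x * a⁻¹) * a := by group
      _ = x * a := by rw [h]
  · intro h
    rw [h]; group

/-- a `3`-element of a normal subgroup `C` commuting with a given `3`-element `d`: if `C`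
contains an element of order three then it contains one commuting with `d` -/
theorem exists_commuting_order_three (C : Subgroup G) [C.Normal] (c : G) (hcC : c ∈ C)
    (hc : orderOf c = 3) (d : G) (hd : IsPGroup 3 ↥(Subgroup.zpowers d)) :
    ∃ c' ∈ C, orderOf c' = 3 ∧ c' * d = d * c' := by
  classical
  haveI : Fact (Nat.Prime 3) := ⟨Nat.prime_three⟩
  obtain ⟨S, hdS⟩ := hd.exists_le_sylow
  have hcp : IsPGroup 3 ↥(Subgroup.zpowers c) :=
    IsPGroup.of_card (n := 1) (by rw [Nat.card_zpowers, hc, pow_one])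
  obtain ⟨S', hcS'⟩ := hcp.exists_le_sylow
  obtain ⟨y, hy⟩ := MulAction.exists_smul_eq G S' S
  have hc1S : y * c * y⁻¹ ∈ (S : Subgroup G) := by
    have h1 : c ∈ (S' : Subgroup G) := hcS' (Subgroup.mem_zpowers c)
    have h2 := Subgroup.smul_mem_pointwise_smul c (MulAut.conj y) (S' : Subgroup G) h1
    rw [← Sylow.coe_subgroup_smul, hy] at h2
    simpa [MulAut.smul_def, MulAut.conj_apply] using h2
  have hc1C : y * c * y⁻¹ ∈ C := ‹C.Normal›.conj_mem c hcC y
  have hc11 : y * c * y⁻¹ ≠ 1 := by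
    intro h
    have : c = 1 := by
      have h2 := congrArg (fun w => y⁻¹ * w * y) h
      simpa [mul_assoc] using h2
    rw [this, orderOf_one] at hc
    omega
  -- `T = S ∩ C`
  have hTp : IsPGroup 3 ↥((S : Subgroup G) ⊓ C) := S.isPGroup'.to_le inf_le_left
  have hTne : (S : Subgroup G) ⊓ C ≠ ⊥ := by
    intro h
    have : y * c * y⁻¹ ∈ (S : Subgroup G) ⊓ C := ⟨hc1S, hc1C⟩
    rw [h, Subgroup.mem_bot] at this
    exact hc11 this
  have hU : ∀ x ∈ (S : Subgroup G), ∀ t ∈ (((S : Subgroup G) ⊓ C : Subgroup G) : Set G),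
      x * t * x⁻¹ ∈ (((S : Subgroup G) ⊓ C : Subgroup G) : Set G) := by
    intro x hx t ht
    exact ⟨(S : Subgroup G).mul_mem ((S : Subgroup G).mul_mem hx ht.1) ((S : Subgroup G).inv_mem hx),
      ‹C.Normal›.conj_mem t ht.2 x⟩
  letI := conjSetAction (S : Subgroup G) (((S : Subgroup G) ⊓ C : Subgroup G) : Set G) hU
  have hfix1 : (⟨1, Subgroup.one_mem _⟩ : ↥(((S : Subgroup G) ⊓ C : Subgroup G) : Set G)) ∈
      MulAction.fixedPoints ↥(S : Subgroup G) ↥(((S : Subgroup G) ⊓ C : Subgroup G) : Set G) := by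
    intro x
    apply Subtype.ext
    change x.1 * 1 * x.1⁻¹ = 1
    group
  have hdvd : 3 ∣ Nat.card ↥(((S : Subgroup G) ⊓ C : Subgroup G) : Set G) := by
    change 3 ∣ Nat.card ↥((S : Subgroup G) ⊓ C)
    haveI : Nontrivial ↥((S : Subgroup G) ⊓ C) := (Subgroup.nontrivial_iff_ne_bot _).mpr hTne
    obtain ⟨n, hn0, hn⟩ := hTp.nontrivial_iff_card.mp inferInstance
    rw [hn]; exact dvd_pow_self 3 hn0.ne'
  obtain ⟨b, hb, hb1⟩ :=
    S.isPGroup'.exists_fixed_point_of_prime_dvd_card_of_fixed_point _ hdvd hfix1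
  have hbd : d * b.1 * d⁻¹ = b.1 :=
    congrArg Subtype.val (hb ⟨d, hdS (Subgroup.mem_zpowers d)⟩)
  have hb1' : b.1 ≠ 1 := fun h => hb1 (Subtype.ext h.symm)
  -- a power of order three
  have hbS : b.1 ∈ (S : Subgroup G) := b.2.1
  obtain ⟨m, hm⟩ := (IsPGroup.iff_orderOf.mp S.isPGroup') ⟨b.1, hbS⟩
  rw [Subgroup.orderOf_mk] at hm
  have hm0 : m ≠ 0 := by
    rintro rfl
    rw [pow_zero, orderOf_eq_one_iff] at hm
    exact hb1' hm
  have h3dvd : 3 ∣ orderOf b.1 := by rw [hm]; exact dvd_pow_self 3 hm0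
  have hord0 : orderOf b.1 ≠ 0 := by rw [hm]; positivity
  refine ⟨b.1 ^ (orderOf b.1 / 3), C.pow_mem b.2.2 _, orderOf_pow_orderOf_div hord0 h3dvd, ?_⟩
  have hcomm : Commute b.1 d := (conj_eq_iff_comm.mp hbd).symm
  exact (hcomm.pow_left _).eq

theorem mem_zpowers_of_order_three {x e : G} (hx : orderOf x = 3)
    (he : e ∈ Subgroup.zpowers x) (he1 : e ≠ 1) : x ∈ Subgroup.zpowers e := by
  haveI : Fact (Nat.Prime 3) := ⟨Nat.prime_three⟩
  have hcard : Nat.card ↥(Subgroup.zpowers x) = 3 := by rw [Nat.card_zpowers, hx]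
  have h1 : (⟨e, he⟩ : ↥(Subgroup.zpowers x)) ≠ 1 := fun h => he1 (congrArg Subtype.val h)
  have := mem_zpowers_of_prime_card hcard h1 (g' := ⟨x, Subgroup.mem_zpowers x⟩)
  obtain ⟨k, hk⟩ := Subgroup.mem_zpowers_iff.mp this
  rw [Subgroup.mem_zpowers_iff]
  refine ⟨k, ?_⟩
  have h2 := congrArg Subtype.val hk
  simpa using h2

/-- elements of `closure {c, d}` for commuting `c`, `d` -/
theorem mem_closure_pair_comm {c d : G} (hcd : c * d = d * c) {a : G}
    (ha : a ∈ Subgroup.closure ({c, d} : Set G)) : ∃ i j : ℤ, a = c ^ i * d ^ j := by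
  have hC : Commute c d := hcd
  induction ha using Subgroup.closure_induction with
  | mem x hx =>
    rcases hx with rfl | hx
    · exact ⟨1, 0, by simp⟩
    · rw [Set.mem_singleton_iff] at hx
      subst hx
      exact ⟨0, 1, by simp⟩
  | one => exact ⟨0, 0, by simp⟩
  | mul x y _ _ ihx ihy =>
    obtain ⟨i, j, rfl⟩ := ihx
    obtain ⟨k, l, rfl⟩ := ihy
    refine ⟨i + k, j + l, ?_⟩
    have h1 : d ^ j * c ^ k = c ^ k * d ^ j := ((hC.zpow_zpow k j).symm).eq
    calc c ^ i * d ^ j * (c ^ k * d ^ l) = c ^ i * (d ^ j * c ^ k) * d ^ l := by group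
      _ = c ^ i * (c ^ k * d ^ j) * d ^ l := by rw [h1]
      _ = c ^ (i + k) * d ^ (j + l) := by rw [zpow_add, zpow_add]; group
  | inv x _ ihx =>
    obtain ⟨i, j, rfl⟩ := ihx
    refine ⟨-i, -j, ?_⟩
    have h1 : d ^ (-j) * c ^ (-i) = c ^ (-i) * d ^ (-j) := ((hC.zpow_zpow (-i) (-j)).symm).eq
    rw [mul_inv_rev, ← zpow_neg, ← zpow_neg, h1]

end aux

/-- Let G be a finite group with C_G(O₂(G)) ≤ O₂(G) containing an element of order 6, and let d be a non-identity 3-element of G normalizing a nontrivial elementary abelian 2-subgroup W with C_W(d) = 1. Then G has an elementary abelian subgroup of order 8. -/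
theorem result {G : Type*} [Group G] [Finite G] (hchar : Subgroup.centralizer (Cfsg.pCore 2 G : Set G) ≤ Cfsg.pCore 2 G) (hsix : ∃ g : G, orderOf g = 6) (d : G) (hd1 : d ≠ 1) (hd : IsPGroup 3 ↥(Subgroup.zpowers d)) (W : Subgroup G) (hW : Cfsg.IsElementaryAbelian 2 W) (hW1 : W ≠ ⊥) (hdW : d ∈ Subgroup.normalizer (W : Set G)) (hfpf : W ⊓ Subgroup.centralizer {d} = ⊥) : ∃ E : Subgroup G, Cfsg.IsElementaryAbelian 2 E ∧ Nat.card E = 8 := by
  classical
  haveI : Fact (Nat.Prime 2) := ⟨Nat.prime_two⟩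
  haveI : Fact (Nat.Prime 3) := ⟨Nat.prime_three⟩
  by_contra hno
  have hsmall := small_of_no_E8 hno
  obtain ⟨g, hg⟩ := hsix
  -- `Q = O₂(G)`
  have hQn : (Cfsg.pCore 2 G).Normal := inferInstance
  have hQ2 : IsPGroup 2 ↥(Cfsg.pCore 2 G) := pCore_isPGroup 2
  have hNQ : ∀ x : G, x ∈ Subgroup.normalizer ((Cfsg.pCore 2 G : Subgroup G) : Set G) := by
    intro x
    rw [Subgroup.normalizer_eq_top]
    trivial
  have hQne : Cfsg.pCore 2 G ≠ ⊥ := by
    intro h
    have hg1 : g ∈ Subgroup.centralizer ((Cfsg.pCore 2 G : Subgroup G) : Set G) := by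
      rw [Subgroup.mem_centralizer_iff]
      intro x hx
      rw [h] at hx
      have : x = 1 := by simpa using hx
      rw [this]; group
    have := hchar hg1
    rw [h, Subgroup.mem_bot] at this
    rw [this, orderOf_one] at hg
    omega
  -- `Z₁ = Ω₁(Z(Q))`
  have hZ1ne : omegaCenter (Cfsg.pCore 2 G) ≠ ⊥ := omegaCenter_ne_bot hQ2 hQne
  have hNZ1 : ∀ x : G, x ∈ Subgroup.normalizer
      ((omegaCenter (Cfsg.pCore 2 G) : Subgroup G) : Set G) :=
    fun x => le_normalizer_omegaCenter _ (hNQ x)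
  have hZ1ea : Cfsg.IsElementaryAbelian 2 (omegaCenter (Cfsg.pCore 2 G)) :=
    ⟨⟨⟨fun a b => Subtype.ext (a.2.2.2 b b.2.1)⟩⟩, fun a ha => ha.2.1⟩
  have hZ1le : Nat.card (omegaCenter (Cfsg.pCore 2 G)) ≤ 4 := hsmall _ hZ1ea
  have hZ1p : IsPGroup 2 ↥(omegaCenter (Cfsg.pCore 2 G)) := isPGroup_of_elementary hZ1ea
  -- `W` is a four-group
  have hWp : IsPGroup 2 ↥W := isPGroup_of_elementary hW
  have hnofixW : ∀ w ∈ W, d * w * d⁻¹ = w → w = 1 := by
    intro w hw h
    have : w ∈ W ⊓ Subgroup.centralizer {d} := by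
      refine ⟨hw, ?_⟩
      change w ∈ Subgroup.centralizer {d}
      rw [Subgroup.mem_centralizer_singleton_iff]
      symm
      calc d * w = (d * w * d⁻¹) * d := by group
        _ = w * d := by rw [h]
    rw [hfpf, Subgroup.mem_bot] at this
    exact this
  have hW4 : Nat.card W = 4 := by
    rcases card_two_or_four W hWp hW1 (hsmall W hW) with h | h
    · exfalso
      obtain ⟨⟨w, hw⟩, hw1⟩ := (Subgroup.ne_bot_iff_exists_ne_one).mp hW1
      apply hw1
      apply Subtype.ext
      exact hnofixW w hw (fixed_of_card_two h hdW hw)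
    · exact h
  rcases card_two_or_four _ hZ1p hZ1ne hZ1le with hZ2 | hZ4
  · -- `|Z₁| = 2`: its involution is central in `G`
    obtain ⟨⟨z, hz⟩, hz1'⟩ := (Subgroup.ne_bot_iff_exists_ne_one).mp hZ1ne
    have hz1 : z ≠ 1 := fun h => hz1' (Subtype.ext h)
    have hzc : ∀ x : G, x * z * x⁻¹ = z := fun x => fixed_of_card_two hZ2 (hNZ1 x) hz
    by_cases hzW : z ∈ W
    · exact hz1 (hnofixW z hzW (hzc d))
    · obtain ⟨F', hF', hlt⟩ := exists_larger W hW z hz.2.1
        (fun x _ => (conj_eq_iff_comm.mp (hzc x)).symm) hzW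
      have := hsmall F' hF'
      omega
  · -- `|Z₁| = 4`
    have hinvC : ∀ t : G, t ^ 2 = 1 →
        (∀ z ∈ omegaCenter (Cfsg.pCore 2 G), t * z = z * t) →
        t ∈ omegaCenter (Cfsg.pCore 2 G) := by
      intro t ht2 htc
      by_contra htZ
      obtain ⟨F', hF', hlt⟩ := exists_larger _ hZ1ea t ht2 htc htZ
      have := hsmall F' hF'
      omega
    obtain ⟨z0, hz0Z, hz01, hz0W⟩ :=
      exists_fixed_involution W _ hWp (fun w _ => hNZ1 w) hZ4
    have hz0inW : z0 ∈ W := by
      by_contra hnot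
      obtain ⟨F', hF', hlt⟩ := exists_larger W hW z0 hz0Z.2.1
        (fun x hx => (conj_eq_iff_comm.mp (hz0W x hx)).symm) hnot
      have := hsmall F' hF'
      omega
    -- `W = Z₁`
    have hWZ : W = omegaCenter (Cfsg.pCore 2 G) := by
      have hUne : W ⊓ omegaCenter (Cfsg.pCore 2 G) ≠ ⊥ := by
        intro h
        have : z0 ∈ W ⊓ omegaCenter (Cfsg.pCore 2 G) := ⟨hz0inW, hz0Z⟩
        rw [h, Subgroup.mem_bot] at this
        exact hz01 this
      have hUle : Nat.card ↥(W ⊓ omegaCenter (Cfsg.pCore 2 G)) ≤ 4 := by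
        rw [← hW4]
        exact Subgroup.card_le_of_le inf_le_left
      have hdU : d ∈ Subgroup.normalizer
          ((W ⊓ omegaCenter (Cfsg.pCore 2 G) : Subgroup G) : Set G) := by
        rw [Subgroup.mem_normalizer_iff]
        intro h
        rw [Subgroup.mem_inf, Subgroup.mem_inf, Subgroup.mem_normalizer_iff.mp hdW h,
          Subgroup.mem_normalizer_iff.mp (hNZ1 d) h]
      rcases card_two_or_four _ (hWp.to_le inf_le_left) hUne hUle with h | h
      · exfalso
        have := fixed_of_card_two h hdU (⟨hz0inW, hz0Z⟩ : z0 ∈ W ⊓ omegaCenter (Cfsg.pCore 2 G))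
        exact hz01 (hnofixW z0 hz0inW this)
      · have e1 : W ⊓ omegaCenter (Cfsg.pCore 2 G) = W :=
          Subgroup.eq_of_le_of_card_ge inf_le_left (by rw [h, hW4])
        have e2 : W ⊓ omegaCenter (Cfsg.pCore 2 G) = omegaCenter (Cfsg.pCore 2 G) :=
          Subgroup.eq_of_le_of_card_ge inf_le_right (by rw [h, hZ4])
        rw [← e1, e2]
    have hnofixZ : ∀ z ∈ omegaCenter (Cfsg.pCore 2 G), d * z * d⁻¹ = z → z = 1 := by
      intro z hz
      rw [← hWZ] at hz
      exact hnofixW z hz
    -- `C_Q(d) = 1`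
    have hQfpf : Cfsg.pCore 2 G ⊓ Subgroup.centralizer {d} = ⊥ := by
      by_contra hne
      obtain ⟨t, ht, ht1, ht2⟩ := exists_involution _ (hQ2.to_le inf_le_left) hne
      have htZ : t ∈ omegaCenter (Cfsg.pCore 2 G) :=
        hinvC t ht2 (fun z hz => (hz.2.2 t ht.1).symm)
      have htd : t ∈ Subgroup.centralizer {d} := ht.2
      rw [Subgroup.mem_centralizer_singleton_iff] at htd
      exact ht1 (hnofixZ t htZ (conj_eq_iff_comm.mpr htd.symm))
    -- `d` has order three
    have hd3 : orderOf d = 3 := by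
      obtain ⟨n, hn⟩ := IsPGroup.iff_card.mp hd
      rw [Nat.card_zpowers] at hn
      have hn1 : 1 ≤ n := by
        by_contra h
        have : n = 0 := by omega
        rw [this, pow_zero, orderOf_eq_one_iff] at hn
        exact hd1 hn
      refine Cfsg.Agent.S3738.result d n hn1 hn (Cfsg.pCore 2 G) hQ2 (hNQ d) ?_ hQfpf ?_
      · have hdis := IsPGroup.disjoint_of_ne 3 2 (by norm_num) _ _ hd hQ2
        rw [disjoint_iff] at hdis
        rw [eq_bot_iff, ← hdis]
        exact inf_le_inf_left _ hchar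
      · intro V hVQ hVc A hAc hA2
        have hea : Cfsg.IsElementaryAbelian 2 (A.map V.subtype) := by
          refine ⟨⟨⟨?_⟩⟩, ?_⟩
          · rintro ⟨_, ⟨a, ha, rfl⟩⟩ ⟨_, ⟨b, hb, rfl⟩⟩
            apply Subtype.ext
            change (a : G) * (b : G) = (b : G) * (a : G)
            have := mul_comm' (⟨a, ha⟩ : ↥A) ⟨b, hb⟩
            exact congrArg (fun x : ↥A => ((x : ↥V) : G)) this
          · rintro _ ⟨a, ha, rfl⟩
            have := hA2 a ha
            have h2 := congrArg Subtype.val this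
            simpa using h2
        have := hsmall _ hea
        rw [Subgroup.card_map_of_injective V.subtype_injective] at this
        simpa using this
    -- the element of order six
    have hc3 : orderOf (g ^ 2) = 3 := by
      rw [orderOf_pow' g two_ne_zero, hg]; norm_num
    have hu2 : orderOf (g ^ 3) = 2 := by
      rw [orderOf_pow' g three_ne_zero, hg]; norm_num
    have hcu : g ^ 2 * g ^ 3 = g ^ 3 * g ^ 2 := by rw [← pow_add, ← pow_add]
    have hu1 : g ^ 3 ≠ 1 := by
      intro h
      rw [h, orderOf_one] at hu2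
      omega
    have husq : (g ^ 3) ^ 2 = 1 := by
      rw [← hu2]; exact pow_orderOf_eq_one _
    have hcZ : ∀ z ∈ omegaCenter (Cfsg.pCore 2 G), g ^ 2 * z * (g ^ 2)⁻¹ = z := by
      have hUp : IsPGroup 2 ↥(Subgroup.zpowers (g ^ 3)) :=
        IsPGroup.of_card (n := 1) (by rw [Nat.card_zpowers, hu2, pow_one])
      obtain ⟨z, hzZ, hz1, hzu⟩ :=
        exists_fixed_involution (Subgroup.zpowers (g ^ 3)) _ hUp (fun w _ => hNZ1 w) hZ4
      have hzu' : g ^ 3 * z * (g ^ 3)⁻¹ = z := hzu _ (Subgroup.mem_zpowers _)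
      -- the fixed points of `u` on `Z₁`
      have hFne : omegaCenter (Cfsg.pCore 2 G) ⊓ Subgroup.centralizer {g ^ 3} ≠ ⊥ := by
        intro h
        have : z ∈ omegaCenter (Cfsg.pCore 2 G) ⊓ Subgroup.centralizer {g ^ 3} := by
          refine ⟨hzZ, ?_⟩
          change z ∈ Subgroup.centralizer {g ^ 3}
          rw [Subgroup.mem_centralizer_singleton_iff]
          exact (conj_eq_iff_comm.mp hzu').symm
        rw [h, Subgroup.mem_bot] at this
        exact hz1 this
      have hFle : Nat.card ↥(omegaCenter (Cfsg.pCore 2 G) ⊓ Subgroup.centralizer {g ^ 3}) ≤ 4 := by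
        rw [← hZ4]
        exact Subgroup.card_le_of_le inf_le_left
      have hcF : g ^ 2 ∈ Subgroup.normalizer
          ((omegaCenter (Cfsg.pCore 2 G) ⊓ Subgroup.centralizer {g ^ 3} : Subgroup G) : Set G) := by
        rw [Subgroup.mem_normalizer_iff]
        intro h
        rw [Subgroup.mem_inf, Subgroup.mem_inf, Subgroup.mem_normalizer_iff.mp (hNZ1 (g ^ 2)) h,
          Subgroup.mem_centralizer_singleton_iff, Subgroup.mem_centralizer_singleton_iff]
        have e : g ^ 2 * h * (g ^ 2)⁻¹ * g ^ 3 = g ^ 3 * (g ^ 2 * h * (g ^ 2)⁻¹) ↔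
            h * g ^ 3 = g ^ 3 * h := by
          constructor
          · intro h1
            have h2 : (g ^ 2)⁻¹ * (g ^ 2 * h * (g ^ 2)⁻¹ * g ^ 3) * g ^ 2 =
                (g ^ 2)⁻¹ * (g ^ 3 * (g ^ 2 * h * (g ^ 2)⁻¹)) * g ^ 2 := by rw [h1]
            have e1 : (g ^ 2)⁻¹ * (g ^ 2 * h * (g ^ 2)⁻¹ * g ^ 3) * g ^ 2 =
                h * ((g ^ 2)⁻¹ * (g ^ 3 * g ^ 2)) := by group
            have e2 : (g ^ 2)⁻¹ * (g ^ 3 * (g ^ 2 * h * (g ^ 2)⁻¹)) * g ^ 2 =
                ((g ^ 2)⁻¹ * (g ^ 3 * g ^ 2)) * h := by group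
            rw [e1, e2, ← hcu] at h2
            simpa [mul_assoc] using h2
          · intro h1
            calc g ^ 2 * h * (g ^ 2)⁻¹ * g ^ 3 = g ^ 2 * h * ((g ^ 2)⁻¹ * (g ^ 3 * g ^ 2)) * (g ^ 2)⁻¹ := by
                  group
              _ = g ^ 2 * (h * g ^ 3) * (g ^ 2)⁻¹ := by rw [← hcu]; group
              _ = g ^ 2 * (g ^ 3 * h) * (g ^ 2)⁻¹ := by rw [h1]
              _ = (g ^ 2 * g ^ 3) * h * (g ^ 2)⁻¹ := by group
              _ = g ^ 3 * (g ^ 2 * h * (g ^ 2)⁻¹) := by rw [hcu]; group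
        rw [e]
      rcases card_two_or_four _ (hZ1p.to_le inf_le_left) hFne hFle with h | h
      · have hzF : z ∈ omegaCenter (Cfsg.pCore 2 G) ⊓ Subgroup.centralizer {g ^ 3} := by
          refine ⟨hzZ, ?_⟩
          change z ∈ Subgroup.centralizer {g ^ 3}
          rw [Subgroup.mem_centralizer_singleton_iff]
          exact (conj_eq_iff_comm.mp hzu').symm
        have hfix := fixed_of_card_two h hcF hzF
        rcases three_cases (g ^ 2) hc3 _ (hNZ1 _) hZ4 with h3 | h3
        · exact h3
        · exact absurd (h3 z hzZ hfix) hz1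
      · have e2 : omegaCenter (Cfsg.pCore 2 G) ⊓ Subgroup.centralizer {g ^ 3} =
            omegaCenter (Cfsg.pCore 2 G) :=
          Subgroup.eq_of_le_of_card_ge inf_le_left (by rw [h, hZ4])
        have huc : ∀ z ∈ omegaCenter (Cfsg.pCore 2 G), g ^ 3 * z = z * g ^ 3 := by
          intro z' hz'
          rw [← e2] at hz'
          have : z' ∈ Subgroup.centralizer {g ^ 3} := hz'.2
          rw [Subgroup.mem_centralizer_singleton_iff] at this
          exact this.symm
        have huZ : g ^ 3 ∈ omegaCenter (Cfsg.pCore 2 G) := hinvC _ husq huc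
        have hfix : g ^ 2 * g ^ 3 * (g ^ 2)⁻¹ = g ^ 3 := conj_eq_iff_comm.mpr hcu
        rcases three_cases (g ^ 2) hc3 _ (hNZ1 _) hZ4 with h3 | h3
        · exact h3
        · exact absurd (h3 _ huZ hfix) hu1
    -- an element `c'` of order three centralising `Z₁` and commuting with `d`
    haveI hZ1n : (omegaCenter (Cfsg.pCore 2 G)).Normal :=
      ⟨fun z hz x => (Subgroup.mem_normalizer_iff.mp (hNZ1 x) z).mp hz⟩
    have hcCz : g ^ 2 ∈
        Subgroup.centralizer ((omegaCenter (Cfsg.pCore 2 G) : Subgroup G) : Set G) := by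
      rw [Subgroup.mem_centralizer_iff]
      intro z hz
      exact (conj_eq_iff_comm.mp (hcZ z hz)).symm
    obtain ⟨c', hc'C, hc'3, hc'd⟩ := exists_commuting_order_three
      (Subgroup.centralizer ((omegaCenter (Cfsg.pCore 2 G) : Subgroup G) : Set G))
      (g ^ 2) hcCz hc3 d hd
    have hc'Z : ∀ z ∈ omegaCenter (Cfsg.pCore 2 G), c' * z = z * c' := fun z hz =>
      ((Subgroup.mem_centralizer_iff.mp hc'C) z hz).symm
    have hc'1 : c' ≠ 1 := by
      intro h
      rw [h, orderOf_one] at hc'3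
      omega
    have hc'cube : c' ^ 3 = 1 := by rw [← hc'3]; exact pow_orderOf_eq_one _
    have hdcube : d ^ 3 = 1 := by rw [← hd3]; exact pow_orderOf_eq_one _
    -- `d` does not centralise `Z₁`
    have hdnot : ¬ ∀ z ∈ omegaCenter (Cfsg.pCore 2 G), d * z = z * d := by
      intro h
      exact hz01 (hnofixZ z0 hz0Z (conj_eq_iff_comm.mpr (h z0 hz0Z)))
    -- the key claim about centralisers in `Q`
    have hkey : ∀ a ∈ Subgroup.closure ({c', d} : Set G), a ≠ 1 →
        Cfsg.pCore 2 G ⊓ Subgroup.centralizer {a} ≤ Subgroup.centralizer {c'} := by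
      intro a ha ha1
      obtain ⟨i, j, rfl⟩ := mem_closure_pair_comm hc'd ha
      by_cases hj : d ^ j = 1
      · -- `a` is a non-identity power of `c'`
        rw [hj, mul_one] at ha1 ⊢
        have hmem := mem_zpowers_of_order_three hc'3 (Subgroup.zpow_mem_zpowers c' i) ha1
        obtain ⟨k, hk⟩ := Subgroup.mem_zpowers_iff.mp hmem
        intro x hx
        have hx2 : x ∈ Subgroup.centralizer {c' ^ i} := hx.2
        rw [Subgroup.mem_centralizer_singleton_iff] at hx2 ⊢
        rw [← hk]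
        exact ((show Commute x (c' ^ i) from hx2).zpow_right k).eq
      · -- `a` moves every involution of `Z₁`
        have hmem := mem_zpowers_of_order_three hd3 (Subgroup.zpow_mem_zpowers d j) hj
        obtain ⟨k, hk⟩ := Subgroup.mem_zpowers_iff.mp hmem
        have hbot : Cfsg.pCore 2 G ⊓ Subgroup.centralizer {c' ^ i * d ^ j} = ⊥ := by
          by_contra hne
          obtain ⟨t, ht, ht1, ht2⟩ := exists_involution _ (hQ2.to_le inf_le_left) hne
          have htZ : t ∈ omegaCenter (Cfsg.pCore 2 G) :=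
            hinvC t ht2 (fun z hz => (hz.2.2 t ht.1).symm)
          have hta : t ∈ Subgroup.centralizer {c' ^ i * d ^ j} := ht.2
          rw [Subgroup.mem_centralizer_singleton_iff] at hta
          -- `c'ⁱ` commutes with `t`, hence so does `dʲ`
          have h1 : Commute (c' ^ i) t := (show Commute c' t from hc'Z t htZ).zpow_left i
          have h2 : Commute (d ^ j) t := by
            have e : d ^ j = (c' ^ i)⁻¹ * (c' ^ i * d ^ j) := by group
            rw [e]
            exact (h1.inv_left).mul_left (show Commute (c' ^ i * d ^ j) t from hta.symm)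
          have h3 : Commute d t := by
            rw [← hk]
            exact h2.zpow_left k
          exact ht1 (hnofixZ t htZ (conj_eq_iff_comm.mpr h3.eq))
        rw [hbot]
        exact bot_le
    -- the abelian group `A = ⟨c', d⟩`
    have hpair : ∀ x ∈ ({c', d} : Set G), ∀ y ∈ ({c', d} : Set G), x * y = y * x := by
      rintro x (rfl | hx) y (rfl | hy)
      · rfl
      · rw [Set.mem_singleton_iff] at hy; rw [hy]; exact hc'd
      · rw [Set.mem_singleton_iff] at hx; rw [hx]; exact hc'd.symm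
      · rw [Set.mem_singleton_iff] at hx hy; rw [hx, hy]
    haveI hAcomm : IsMulCommutative ↥(Subgroup.closure ({c', d} : Set G)) :=
      Subgroup.isMulCommutative_closure hpair
    have hc'A : c' ∈ Subgroup.closure ({c', d} : Set G) := Subgroup.subset_closure (Or.inl rfl)
    have hdA : d ∈ Subgroup.closure ({c', d} : Set G) := Subgroup.subset_closure (Or.inr rfl)
    have hAcube : ∀ a ∈ Subgroup.closure ({c', d} : Set G), a ^ 3 = 1 := by
      intro a ha
      obtain ⟨i, j, rfl⟩ := mem_closure_pair_comm hc'd ha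
      have hC : Commute (c' ^ i) (d ^ j) := (show Commute c' d from hc'd).zpow_zpow i j
      rw [hC.mul_pow, ← zpow_natCast, ← zpow_natCast, ← zpow_mul, ← zpow_mul, mul_comm i,
        mul_comm j, zpow_mul, zpow_mul, zpow_natCast, zpow_natCast, hc'cube, hdcube, one_zpow,
        one_zpow, one_mul]
    have hA3 : IsPGroup 3 ↥(Subgroup.closure ({c', d} : Set G)) := by
      intro a
      refine ⟨1, ?_⟩
      apply Subtype.ext
      have := hAcube a.1 a.2
      simpa using this
    have hAnc : ¬ IsCyclic ↥(Subgroup.closure ({c', d} : Set G)) := by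
      intro hcyc
      obtain ⟨γ, hγ⟩ := IsCyclic.exists_generator (α := ↥(Subgroup.closure ({c', d} : Set G)))
      -- then `d ∈ ⟨c'⟩`
      have hγ3 : orderOf γ ∣ 3 := by
        apply orderOf_dvd_of_pow_eq_one
        apply Subtype.ext
        have := hAcube γ.1 γ.2
        simpa using this
      have hcardA : Nat.card ↥(Subgroup.closure ({c', d} : Set G)) ∣ 3 := by
        rw [← orderOf_eq_card_of_forall_mem_zpowers hγ]; exact hγ3
      have hcardA3 : Nat.card ↥(Subgroup.closure ({c', d} : Set G)) = 3 := by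
        rcases (Nat.dvd_prime Nat.prime_three).mp hcardA with h | h
        · exfalso
          have := Subgroup.card_eq_one.mp h
          rw [this, Subgroup.mem_bot] at hc'A
          exact hc'1 hc'A
        · exact h
      have hc'A1 : (⟨c', hc'A⟩ : ↥(Subgroup.closure ({c', d} : Set G))) ≠ 1 :=
        fun h => hc'1 (congrArg Subtype.val h)
      have := mem_zpowers_of_prime_card hcardA3 hc'A1 (g' := ⟨d, hdA⟩)
      obtain ⟨k, hk⟩ := Subgroup.mem_zpowers_iff.mp this
      have hk' : c' ^ k = d := by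
        have h2 := congrArg Subtype.val hk
        simpa using h2
      apply hdnot
      intro z hz
      rw [← hk']
      exact ((show Commute c' z from hc'Z z hz).zpow_left k).eq
    have hAK : Subgroup.closure ({c', d} : Set G) ≤
        Subgroup.normalizer ((Cfsg.pCore 2 G : Subgroup G) : Set G) := fun x _ => hNQ x
    have hcop : (Nat.card ↥(Subgroup.closure ({c', d} : Set G))).Coprime
        (Nat.card ↥(Cfsg.pCore 2 G)) := by
      obtain ⟨k, hk⟩ := IsPGroup.iff_card.mp hA3
      obtain ⟨m, hm⟩ := IsPGroup.iff_card.mp hQ2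
      rw [hk, hm]
      exact Nat.Coprime.pow k m (by norm_num)
    have hgen := Cfsg.Agent.S0058.result (Subgroup.closure ({c', d} : Set G)) (Cfsg.pCore 2 G)
      hAnc hAK hcop
    have hQle : Cfsg.pCore 2 G ≤ Subgroup.centralizer {c'} := by
      rw [← hgen]
      apply iSup₂_le
      rintro a ⟨haA, ha1⟩
      exact hkey a haA ha1
    have hc'Q : c' ∈ Cfsg.pCore 2 G := by
      apply hchar
      rw [Subgroup.mem_centralizer_iff]
      intro x hx
      have := hQle hx
      rw [Subgroup.mem_centralizer_singleton_iff] at this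
      exact this
    obtain ⟨k, hk⟩ := (IsPGroup.iff_orderOf.mp hQ2) ⟨c', hc'Q⟩
    rw [Subgroup.orderOf_mk, hc'3] at hk
    rcases Nat.eq_zero_or_pos k with rfl | hk0
    · norm_num at hk
    · have : 2 ∣ 3 := by rw [hk]; exact dvd_pow_self 2 hk0.ne'
      omega

end Cfsg.Agent.S3739
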