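import Cfsg.Statements.S3740
import Cfsg.Agent.Lib.Helper41_SL2PPrime
import Cfsg.Agent.Lib.Helper41_Q8Act
import Cfsg.Agent.Lib.Helper41_SL2Order4
import Cfsg.Agent.Lib.Helper41_SL2Torus
import Cfsg.Agent.Lib.Helper35_CyclicMax
import Cfsg.Agent.Lib.Helper50_UniqueInv
import Cfsg.Agent.Lib.Helper50_UniqueInv2
import Cfsg.Agent.S2431

set_option autoImplicit false
open Cfsg

namespace Cfsg.Agent.S3740

open Cfsg.Agent.Lib.Helper41_SL2PPrime Cfsg.Agent.Lib.Helper41_Q8Act

/-- Let F be a finite field of odd characteristic p and let a be a p-element of SL₂(F) normalizing a subgroup R of order prime to p with [R, a] ≠ 1. Then p = 3, R is a quaternion group of order 8, and R⟨a⟩ is isomorphic to SL₂(3). -/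
theorem result (F : Type) [Field F] [Fintype F] {p : ℕ} [Fact p.Prime] [CharP F p] (hp : p ≠ 2) (a : Matrix.SpecialLinearGroup (Fin 2) F) (ha : IsPGroup p ↥(Subgroup.zpowers a)) (R : Subgroup (Matrix.SpecialLinearGroup (Fin 2) F)) (hR : (Nat.card R).Coprime p) (haR : a ∈ Subgroup.normalizer (R : Set (Matrix.SpecialLinearGroup (Fin 2) F))) (hnt : ⁅R, Subgroup.zpowers a⁆ ≠ ⊥) : p = 3 ∧ Nonempty (↥R ≃* QuaternionGroup 2) ∧ Nonempty (↥(R ⊔ Subgroup.zpowers a) ≃* Matrix.SpecialLinearGroup (Fin 2) (ZMod 3)) := by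
  classical
  have hpp : p.Prime := Fact.out
  have hodd := odd_card (F := F) p hp
  have h2F : (2 : F) ≠ 0 := Cfsg.Agent.Lib.Helper41_SL2Torus.two_ne_zero_of_odd hodd
  have : Fact (Nat.Prime 2) := ⟨Nat.prime_two⟩
  -- `a` is a `p`-element
  obtain ⟨k, hk⟩ := ha ⟨a, Subgroup.mem_zpowers a⟩
  have hak : a ^ (p ^ k) = 1 := by simpa using congrArg Subtype.val hk
  have hpkodd : Odd (p ^ k) := (hpp.odd_of_ne_two hp).pow
  -- `a` does not centralize `R`
  have hne : ∃ x ∈ R, a * x * a⁻¹ ≠ x := by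
    by_contra hcon
    push Not at hcon
    apply hnt
    rw [Subgroup.commutator_eq_bot_iff_le_centralizer]
    intro x hx
    rw [Subgroup.mem_centralizer_iff]
    intro y hy
    obtain ⟨n, rfl⟩ := Subgroup.mem_zpowers_iff.mp hy
    have h1 : Commute a x := by
      have := hcon x hx
      show a * x = x * a
      calc a * x = (a * x * a⁻¹) * a := by group
        _ = x * a := by rw [this]
    exact (h1.zpow_left n).eq
  have ha1 : a ≠ 1 := by
    rintro rfl
    obtain ⟨x, -, hx⟩ := hne
    apply hx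
    group
  have hcop : ∀ x ∈ R, (orderOf x).Coprime p := by
    intro x hx
    have h1 := orderOf_dvd_natCard (⟨x, hx⟩ : ↥R)
    rw [Subgroup.orderOf_mk] at h1
    exact Nat.Coprime.coprime_dvd_left h1 hR
  -- the key lemma
  have key : ∀ (b : Matrix.SpecialLinearGroup (Fin 2) F), b ^ (p ^ k) = 1 → ∀ x ∈ R,
      x ∉ Subgroup.center (Matrix.SpecialLinearGroup (Fin 2) F) →
      (b * x * b⁻¹) * x = x * (b * x * b⁻¹) → b = 1 := by
    intro b hb x hx hxc hcomm
    exact eq_one_of_conj_commute p hp b x k hb hxc (hcop x hx) hcomm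
  have hRfin : Finite ↥R := inferInstance
  -- `R` is a `2`-group
  have hprime : ∀ {r : ℕ}, r.Prime → r ∣ Nat.card ↥R → r = 2 := by
    intro r hr hrd
    by_contra hr2
    have : Fact r.Prime := ⟨hr⟩
    obtain ⟨P, hP⟩ := exists_sylow_invariant R a haR p r k hak hR
    have hPnt : Nontrivial ↥(P : Subgroup ↥R) := by
      rw [← Finite.one_lt_card_iff_nontrivial]
      have h1 : r ∣ Nat.card ↥(P : Subgroup ↥R) := P.dvd_card_of_dvd_card hrd
      exact lt_of_lt_of_le hr.one_lt (Nat.le_of_dvd Nat.card_pos h1)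
    have hcen := IsPGroup.center_nontrivial P.isPGroup'
    obtain ⟨z, hz1⟩ := exists_ne (1 : Subgroup.center ↥(P : Subgroup ↥R))
    set x : Matrix.SpecialLinearGroup (Fin 2) F := z.1.1.1 with hx
    have hxR : x ∈ R := z.1.1.2
    have hx1 : x ≠ 1 := by
      intro h
      apply hz1
      apply Subtype.ext
      apply Subtype.ext
      apply Subtype.ext
      exact h
    obtain ⟨j, hj⟩ := P.isPGroup' z.1
    have hxj : x ^ (r ^ j) = 1 := by
      have := congrArg (fun w : ↥(P : Subgroup ↥R) => w.1.1) hj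
      simpa using this
    have hxc : x ∉ Subgroup.center (Matrix.SpecialLinearGroup (Fin 2) F) := by
      intro hc
      have h1 := Cfsg.Agent.S2431.center_mul_self x hc
      rw [← sq] at h1
      have h2 : orderOf x ∣ Nat.gcd 2 (r ^ j) :=
        Nat.dvd_gcd (orderOf_dvd_of_pow_eq_one h1) (orderOf_dvd_of_pow_eq_one hxj)
      have h3 : Nat.gcd 2 (r ^ j) = 1 :=
        Nat.Coprime.pow_right j ((Nat.coprime_primes Nat.prime_two hr).mpr (Ne.symm hr2))
      rw [h3] at h2
      exact hx1 (orderOf_eq_one_iff.mp (Nat.dvd_one.mp h2))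
    apply ha1
    apply key a hak x hxR hxc
    have hyP := hP z.1.1 z.1.2
    have hz := Subgroup.mem_center_iff.mp z.2 ⟨_, hyP⟩
    have := congrArg (fun w : ↥(P : Subgroup ↥R) => w.1.1) hz
    exact this
  have hR2 : IsPGroup 2 ↥R :=
    IsPGroup.of_card (Nat.eq_prime_pow_of_unique_prime_dvd Nat.card_pos.ne' hprime)
  -- unique involution
  have huniq : Cfsg.Agent.Lib.Helper50_UniqueInv.UniqueInvolution ↥R := by
    have hinv : ∀ w : ↥R, w ^ 2 = 1 → w ≠ 1 →
        ((w : Matrix.SpecialLinearGroup (Fin 2) F) : Matrix (Fin 2) (Fin 2) F) = -1 := by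
      intro w hw hw1
      have hww : (w : Matrix.SpecialLinearGroup (Fin 2) F) * w = 1 := by
        rw [← sq, ← Subgroup.coe_pow, hw, Subgroup.coe_one]
      rcases Cfsg.Agent.Lib.Helper41_SL2Order4.coe_eq_one_or_neg_one_of_mul_self h2F _ hww
        with h | h
      · exfalso
        apply hw1
        apply Subtype.ext
        apply Subtype.ext
        rw [h]
        rfl
      · exact h
    intro u v hu hv hu1 hv1
    apply Subtype.ext
    apply Subtype.ext
    rw [hinv u hu hu1, hinv v hv hv1]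
  -- the automorphism induced by `a`
  set aN : Subgroup.normalizer (R : Set (Matrix.SpecialLinearGroup (Fin 2) F)) := ⟨a, haR⟩ with haN
  set α : MulAut ↥R := R.normalizerMonoidHom aN with hα
  have hα_apply : ∀ q : ↥R, ((α q : ↥R) : Matrix.SpecialLinearGroup (Fin 2) F) = a * q * a⁻¹ :=
    fun q => rfl
  have hαm : α ^ (p ^ k) = 1 := by
    rw [hα, ← map_pow]
    have : aN ^ (p ^ k) = 1 := Subtype.ext (by simp [haN, hak])
    rw [this, map_one]
  have hα1 : α ≠ 1 := by
    intro h1
    obtain ⟨x, hxR, hx⟩ := hne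
    apply hx
    have := hα_apply ⟨x, hxR⟩
    rw [h1] at this
    exact this.symm
  -- `R ≅ Q₈`
  have hQ8 : Nonempty (↥R ≃* QuaternionGroup 2) := by
    rcases Cfsg.Agent.Lib.Helper50_UniqueInv2.isCyclic_or_quaternion hR2 huniq with
      hcyc | ⟨n, hn, ⟨e⟩⟩
    · exfalso
      obtain ⟨x, hxR, hx⟩ := hne
      have hxc : x ∉ Subgroup.center (Matrix.SpecialLinearGroup (Fin 2) F) := by
        intro hc
        apply hx
        rw [Subgroup.mem_center_iff] at hc
        rw [hc a]
        group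
      apply ha1
      apply key a hak x hxR hxc
      have h1 := Cfsg.Agent.Lib.Helper50_UniqueInv.comm_of_isCyclic (α ⟨x, hxR⟩) ⟨x, hxR⟩
      exact congrArg Subtype.val h1
    · have hnz : NeZero (2 ^ n) := ⟨by positivity⟩
      have hcardR : Nat.card ↥R = 4 * 2 ^ n := by
        rw [Nat.card_congr e.toEquiv, Nat.card_eq_fintype_card, QuaternionGroup.card]
      set g : ↥R := e.symm (QuaternionGroup.a 1) with hg
      have hgo : orderOf g = 2 * 2 ^ n := by
        rw [hg, MulEquiv.orderOf_eq, QuaternionGroup.orderOf_a_one]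
      have hMi : (Subgroup.zpowers g).index = 2 := by
        have h1 := Subgroup.card_mul_index (Subgroup.zpowers g)
        rw [Nat.card_zpowers, hgo, hcardR] at h1
        have h2 : 0 < 2 * 2 ^ n := by positivity
        apply Nat.eq_of_mul_eq_mul_left h2
        rw [h1]
        ring
      rcases Cfsg.Agent.Lib.Helper35_CyclicMax.card_eq_four_or_quaternion hR2 α hpkodd hαm hα1
        (Subgroup.zpowers g) hMi with h4 | h8
      · exfalso
        rw [hcardR] at h4
        have : 2 ≤ 2 ^ n := by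
          calc 2 = 2 ^ 1 := by norm_num
            _ ≤ 2 ^ n := Nat.pow_le_pow_right (by norm_num) hn
        omega
      · exact h8
  obtain ⟨θ⟩ := hQ8
  -- `a ^ 3 = 1`
  have ha3 : a ^ 3 = 1 := by
    have hcent := pow_three_centralizes R θ a haR (p ^ k) hpkodd hak
    obtain ⟨x, hxR, hx⟩ := hne
    have hxc : x ∉ Subgroup.center (Matrix.SpecialLinearGroup (Fin 2) F) := by
      intro hc
      apply hx
      rw [Subgroup.mem_center_iff] at hc
      rw [hc a]
      group
    apply key (a ^ 3) _ x hxR hxc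
    · rw [hcent x hxR]
    · rw [← pow_mul, mul_comm, pow_mul, hak, one_pow]
  have hp3 : p = 3 := by
    have : Fact (Nat.Prime 3) := ⟨Nat.prime_three⟩
    have h3 : orderOf a = 3 := orderOf_eq_prime ha3 ha1
    have h4 : 3 ∣ p ^ k := by
      rw [← h3]
      exact orderOf_dvd_of_pow_eq_one hak
    exact ((Nat.prime_dvd_prime_iff_eq Nat.prime_three hpp).mp
      (Nat.prime_three.dvd_of_dvd_pow h4)).symm
  exact ⟨hp3, ⟨θ⟩, nonempty_mulEquiv_SL23_of_act R θ a haR ha3 hne⟩

end Cfsg.Agent.S3740
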