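import Cfsg.Statements.S3741

set_option autoImplicit false
open Cfsg

namespace Cfsg.Agent.S3741

open Classical
open scoped commutatorElement

section
variable {G : Type*} [Group G]

theorem card_eq_filter [Fintype G] (H : Subgroup G) :
    Nat.card H = (Finset.univ.filter (fun x => x ∈ H)).card := by
  rw [Nat.card_eq_fintype_card, Fintype.card_subtype]

/-- index of the centralizer of `a` in `B` is bounded by the order of the commutator subgroup -/
theorem relIndex_le [Finite G] (A B : Subgroup G) (a : G) (ha : a ∈ A) :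
    (B ⊓ Subgroup.centralizer ({a} : Set G)).relIndex B ≤ Nat.card ↥⁅A, B⁆ := by
  unfold Subgroup.relIndex Subgroup.index
  let D := (B ⊓ Subgroup.centralizer ({a} : Set G)).subgroupOf B
  let φ : ↥B → ↥⁅A, B⁆ := fun b => ⟨⁅a, (b : G)⁆, Subgroup.commutator_mem_commutator ha b.2⟩
  have hφ : ∀ b c : ↥B, φ b = φ c ↔ b⁻¹ * c ∈ D := by
    intro b c
    simp only [φ, D, Subtype.mk.injEq, Subgroup.mem_subgroupOf, Subgroup.mem_inf,
      Subgroup.mem_centralizer_iff, Set.mem_singleton_iff, forall_eq, commutatorElement_def]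
    constructor
    · intro h
      refine ⟨(b⁻¹ * c).2, ?_⟩
      have h1 : (b : G) * a⁻¹ * (b : G)⁻¹ = (c : G) * a⁻¹ * (c : G)⁻¹ := by
        have := congrArg (fun x => a⁻¹ * x) h
        simpa [mul_assoc] using this
      have h2 : (b : G) * a * (b : G)⁻¹ = (c : G) * a * (c : G)⁻¹ := by
        have := congrArg (fun x => x⁻¹) h1
        simpa [mul_assoc] using this
      have h3 : a * ((b : G)⁻¹ * (c : G)) = ((b : G)⁻¹ * (c : G)) * a := by
        calc a * ((b : G)⁻¹ * (c : G)) = (b : G)⁻¹ * ((b : G) * a * (b : G)⁻¹) * (c : G) := by group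
          _ = (b : G)⁻¹ * ((c : G) * a * (c : G)⁻¹) * (c : G) := by rw [h2]
          _ = ((b : G)⁻¹ * (c : G)) * a := by group
      simpa using h3
    · rintro ⟨_, h⟩
      have h3 : a * ((b : G)⁻¹ * (c : G)) = ((b : G)⁻¹ * (c : G)) * a := by simpa using h
      have h2 : (b : G) * a * (b : G)⁻¹ = (c : G) * a * (c : G)⁻¹ := by
        calc (b : G) * a * (b : G)⁻¹ = (b : G) * (a * ((b : G)⁻¹ * (c : G))) * (c : G)⁻¹ := by group
          _ = (b : G) * (((b : G)⁻¹ * (c : G)) * a) * (c : G)⁻¹ := by rw [h3]
          _ = (c : G) * a * (c : G)⁻¹ := by group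
      have h1 : (b : G) * a⁻¹ * (b : G)⁻¹ = (c : G) * a⁻¹ * (c : G)⁻¹ := by
        have := congrArg (fun x => x⁻¹) h2
        simpa [mul_assoc] using this
      calc a * (b : G) * a⁻¹ * (b : G)⁻¹ = a * ((b : G) * a⁻¹ * (b : G)⁻¹) := by group
        _ = a * ((c : G) * a⁻¹ * (c : G)⁻¹) := by rw [h1]
        _ = a * (c : G) * a⁻¹ * (c : G)⁻¹ := by group
  let ψ : (↥B ⧸ D) → ↥⁅A, B⁆ := fun q => Quotient.liftOn' q φ (by
    intro b c hbc
    rw [QuotientGroup.leftRel_apply] at hbc
    exact (hφ b c).mpr hbc)
  have hψ : Function.Injective ψ := by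
    intro q r
    refine Quotient.inductionOn₂' q r ?_
    intro b c h
    have h' : φ b = φ c := h
    exact QuotientGroup.eq.mpr ((hφ b c).mp h')
  exact Nat.card_le_card_of_injective ψ hψ

theorem card_centralizer_mul [Finite G] {p : ℕ} [Fact p.Prime] (hG : IsPGroup p G) (A B : Subgroup G)
    (hcard : Nat.card ↥⁅A, B⁆ ≤ p) (a : G) (ha : a ∈ A) (hna : a ∉ Subgroup.centralizer (B : Set G)) :
    Nat.card ↥(B ⊓ Subgroup.centralizer ({a} : Set G)) * p = Nat.card B := by
  set D := B ⊓ Subgroup.centralizer ({a} : Set G) with hD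
  have hle : D.relIndex B ≤ p := (relIndex_le A B a ha).trans hcard
  have hBp : IsPGroup p ↥B := hG.to_subgroup B
  obtain ⟨n, hn⟩ := hBp.index (D.subgroupOf B)
  have hn' : D.relIndex B = p ^ n := hn
  have hne1 : D.relIndex B ≠ 1 := by
    rw [Ne, Subgroup.relIndex_eq_one]
    intro hBD
    apply hna
    rw [Subgroup.mem_centralizer_iff]
    intro b hb
    have := (Subgroup.mem_inf.mp (hBD hb)).2
    rw [Subgroup.mem_centralizer_iff] at this
    exact (this a rfl).symm
  have hp := (Fact.out : p.Prime)
  have hn1 : n = 1 := by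
    rcases n with _ | n
    · rw [pow_zero] at hn'; exact absurd hn' hne1
    · rcases n with _ | n
      · rfl
      · exfalso
        rw [hn'] at hle
        have : p ^ 2 ≤ p ^ (n + 1 + 1) := Nat.pow_le_pow_right hp.pos (by omega)
        have h2 : p < p ^ 2 := by nlinarith [hp.two_le]
        omega
  rw [hn1, pow_one] at hn'
  have h1 : (⊥ : Subgroup G).relIndex D * D.relIndex B = (⊥ : Subgroup G).relIndex B :=
    Subgroup.relIndex_mul_relIndex _ _ _ bot_le inf_le_left
  rw [Subgroup.relIndex_bot_left, Subgroup.relIndex_bot_left, hn'] at h1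
  exact h1

theorem card_centralizer_of_mem [Finite G] (B : Subgroup G)
    (a : G) (hna : a ∈ Subgroup.centralizer (B : Set G)) :
    Nat.card ↥(B ⊓ Subgroup.centralizer ({a} : Set G)) = Nat.card B := by
  have : B ⊓ Subgroup.centralizer ({a} : Set G) = B := by
    apply inf_eq_left.mpr
    intro b hb
    rw [Subgroup.mem_centralizer_iff] at hna ⊢
    intro x hx
    rw [Set.mem_singleton_iff] at hx
    subst hx
    exact (hna b hb).symm
  rw [this]

/-- one half of the double count: `p * T = x n p + x' n` -/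
theorem count_half [Fintype G] {p : ℕ} [Fact p.Prime] (hG : IsPGroup p G) (A B : Subgroup G)
    (hcard : Nat.card ↥⁅A, B⁆ ≤ p) :
    (∑ a ∈ Finset.univ.filter (fun x => x ∈ A),
        ((Finset.univ.filter (fun x => x ∈ B)).filter (fun b => a * b = b * a)).card) * p
      = Nat.card ↥(A ⊓ Subgroup.centralizer (B : Set G)) * Nat.card B * p
        + (Nat.card A - Nat.card ↥(A ⊓ Subgroup.centralizer (B : Set G))) * Nat.card B := by
  have hterm : ∀ a ∈ Finset.univ.filter (fun x => x ∈ A),
      ((Finset.univ.filter (fun x => x ∈ B)).filter (fun b => a * b = b * a)).card * p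
        = if a ∈ Subgroup.centralizer (B : Set G) then Nat.card B * p else Nat.card B := by
    intro a ha
    have haA : a ∈ A := (Finset.mem_filter.mp ha).2
    have hc : ((Finset.univ.filter (fun x => x ∈ B)).filter (fun b => a * b = b * a)).card
        = Nat.card ↥(B ⊓ Subgroup.centralizer ({a} : Set G)) := by
      rw [card_eq_filter]
      congr 1
      ext b
      simp [Subgroup.mem_centralizer_iff]
    rw [hc]
    split_ifs with h
    · rw [card_centralizer_of_mem B a h]
    · exact card_centralizer_mul hG A B hcard a haA h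
  rw [Finset.sum_mul, Finset.sum_congr rfl hterm, Finset.sum_ite, Finset.sum_const, Finset.sum_const]
  have h1 : ((Finset.univ.filter (fun x => x ∈ A)).filter (fun a => a ∈ Subgroup.centralizer (B : Set G))).card
      = Nat.card ↥(A ⊓ Subgroup.centralizer (B : Set G)) := by
    rw [card_eq_filter]
    congr 1
    ext b
    simp
  have h2 : ((Finset.univ.filter (fun x => x ∈ A)).filter (fun a => ¬ a ∈ Subgroup.centralizer (B : Set G))).card
      = Nat.card A - Nat.card ↥(A ⊓ Subgroup.centralizer (B : Set G)) := by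
    have := Finset.card_filter_add_card_filter_not (s := Finset.univ.filter (fun x => x ∈ A))
      (fun a => a ∈ Subgroup.centralizer (B : Set G))
    rw [h1, ← card_eq_filter] at this
    omega
  rw [h1, h2]
  simp only [smul_eq_mul]
  ring

end

/-- Let A and B be subgroups of a finite p-group with [A, B] ≤ A ∩ B and [A, B] of order at most p. Then |A : C_A(B)| = |B : C_B(A)|. -/
theorem result {G : Type*} [Group G] [Finite G] {p : ℕ} [Fact p.Prime] (hG : IsPGroup p G) (A B : Subgroup G) (hAB : ⁅A, B⁆ ≤ A ⊓ B) (hcard : Nat.card ↥⁅A, B⁆ ≤ p) : (A ⊓ Subgroup.centralizer (B : Set G)).relIndex A = (B ⊓ Subgroup.centralizer (A : Set G)).relIndex B := by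
  letI : Fintype G := Fintype.ofFinite G
  have hp := (Fact.out : p.Prime)
  have hcard' : Nat.card ↥⁅B, A⁆ ≤ p := by rwa [Subgroup.commutator_comm]
  have e1 := count_half hG A B hcard
  have e2 := count_half hG B A hcard'
  have hswap : (∑ a ∈ Finset.univ.filter (fun x => x ∈ A),
        ((Finset.univ.filter (fun x => x ∈ B)).filter (fun b => a * b = b * a)).card)
      = (∑ b ∈ Finset.univ.filter (fun x => x ∈ B),
        ((Finset.univ.filter (fun x => x ∈ A)).filter (fun a => b * a = a * b)).card) := by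
    have := Finset.sum_card_bipartiteAbove_eq_sum_card_bipartiteBelow
      (s := Finset.univ.filter (fun x => x ∈ A)) (t := Finset.univ.filter (fun x => x ∈ B))
      (fun a b => a * b = b * a)
    simp only [Finset.bipartiteAbove, Finset.bipartiteBelow] at this
    rw [this]
    apply Finset.sum_congr rfl
    intro b _
    congr 1
    ext a
    simp only [Finset.mem_filter]
    constructor
    · rintro ⟨h1, h2⟩; exact ⟨h1, h2.symm⟩
    · rintro ⟨h1, h2⟩; exact ⟨h1, h2.symm⟩
  rw [hswap] at e1
  rw [e1] at e2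
  -- notation
  set x := Nat.card ↥(A ⊓ Subgroup.centralizer (B : Set G)) with hx
  set y := Nat.card ↥(B ⊓ Subgroup.centralizer (A : Set G)) with hy
  set m := Nat.card A with hm
  set n := Nat.card B with hn
  have hxm : x * (A ⊓ Subgroup.centralizer (B : Set G)).relIndex A = m := by
    have h1 : (⊥ : Subgroup G).relIndex (A ⊓ Subgroup.centralizer (B : Set G)) * (A ⊓ Subgroup.centralizer (B : Set G)).relIndex A = (⊥ : Subgroup G).relIndex A :=
      Subgroup.relIndex_mul_relIndex _ _ _ bot_le inf_le_left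
    rwa [Subgroup.relIndex_bot_left, Subgroup.relIndex_bot_left] at h1
  have hyn : y * (B ⊓ Subgroup.centralizer (A : Set G)).relIndex B = n := by
    have h1 : (⊥ : Subgroup G).relIndex (B ⊓ Subgroup.centralizer (A : Set G)) * (B ⊓ Subgroup.centralizer (A : Set G)).relIndex B = (⊥ : Subgroup G).relIndex B :=
      Subgroup.relIndex_mul_relIndex _ _ _ bot_le inf_le_left
    rwa [Subgroup.relIndex_bot_left, Subgroup.relIndex_bot_left] at h1
  set i := (A ⊓ Subgroup.centralizer (B : Set G)).relIndex A with hi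
  set j := (B ⊓ Subgroup.centralizer (A : Set G)).relIndex B with hj
  have hxpos : 0 < x := Nat.card_pos
  have hypos : 0 < y := Nat.card_pos
  have hxlem : x ≤ m := by rw [← hxm]; exact Nat.le_mul_of_pos_right _ (Nat.pos_of_ne_zero (by
    intro h0; rw [h0, mul_zero] at hxm; have : 0 < m := Nat.card_pos; omega))
  have hylen : y ≤ n := by rw [← hyn]; exact Nat.le_mul_of_pos_right _ (Nat.pos_of_ne_zero (by
    intro h0; rw [h0, mul_zero] at hyn; have : 0 < n := Nat.card_pos; omega))
  obtain ⟨x', hx'⟩ := Nat.exists_eq_add_of_le hxlem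
  obtain ⟨y', hy'⟩ := Nat.exists_eq_add_of_le hylen
  have hmx : m - x = x' := by omega
  have hny : n - y = y' := by omega
  rw [hmx, hny] at e2
  obtain ⟨q, hq⟩ : ∃ q, p = q + 1 := ⟨p - 1, by have := hp.pos; omega⟩
  have hqpos : 0 < q := by have := hp.two_le; omega
  have key : x * n = y * m := by
    have h3 : x * n * q = y * m * q := by
      rw [hq, hx', hy'] at e2
      rw [hx', hy']
      nlinarith [e2]
    exact Nat.eq_of_mul_eq_mul_right hqpos h3
  -- x * (y*j) = y * (x*i)
  rw [← hxm, ← hyn] at key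
  have : x * y * j = x * y * i := by nlinarith [key]
  have hxy : 0 < x * y := Nat.mul_pos hxpos hypos
  exact (Nat.eq_of_mul_eq_mul_left hxy this).symm

end Cfsg.Agent.S3741
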