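import Cfsg.Statements.S3743
import Cfsg.Agent.Lib.Helper1_Cores
import Cfsg.Agent.Lib.Helper23_Layer

set_option autoImplicit false
open Cfsg

namespace Cfsg.Agent.S3743

open Subgroup

universe u

section generic
variable (P : ∀ (Y : Type u) [Group Y], Prop)

/-- the `P`-radical: join of the normal `P`-subgroups -/
def rad (Y : Type u) [Group Y] : Subgroup Y := sSup {N : Subgroup Y | N.Normal ∧ P ↥N}

variable {P}
variable (hiso : ∀ (Y Y' : Type u) [Group Y] [Group Y'], (Y ≃* Y') → P Y → P Y')
include hiso

theorem rad_map_le (Y : Type u) [Group Y] (φ : Y ≃* Y) :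
    (rad P Y).map φ.toMonoidHom ≤ rad P Y := by
  unfold rad
  rw [(Subgroup.gc_map_comap φ.toMonoidHom).l_sSup]
  apply iSup₂_le
  intro N hN
  apply le_sSup
  refine ⟨hN.1.map _ φ.surjective, ?_⟩
  exact hiso _ _ (N.equivMapOfInjective φ.toMonoidHom φ.injective) hN.2

theorem rad_characteristic (Y : Type u) [Group Y] : (rad P Y).Characteristic :=
  characteristic_iff_map_le.mpr (fun φ => rad_map_le hiso Y φ)

variable (hjoin : ∀ (Y : Type u) [Group Y] [Finite Y], P ↥(rad P Y))
include hjoin

theorem le_rad_of_normal_in_subnormal {X : Type u} [Group X] [Finite X] {H : Subgroup X}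
    (hH : H.IsSubnormal) :
    ∀ N : Subgroup X, N ≤ H → (N.subgroupOf H).Normal → P ↥N → N ≤ rad P X := by
  induction hH with
  | top =>
    intro N _ hN hP
    have : N.Normal := by
      have h := (normal_subgroupOf_iff_le_normalizer (le_top : N ≤ ⊤)).mp hN
      exact normalizer_eq_top_iff.mp (top_le_iff.mp h)
    exact le_sSup ⟨this, hP⟩
  | step H K hle hKsub hHK ih =>
    intro N hNH hN hP
    set M : Subgroup X := (rad P ↥H).map H.subtype with hM
    have hNM : N ≤ M := by
      have h1 : N.subgroupOf H ≤ rad P ↥H := by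
        apply le_sSup
        exact ⟨hN, hiso _ _ (subgroupOfEquivOfLe hNH).symm hP⟩
      intro x hx
      exact ⟨⟨x, hNH hx⟩, h1 hx, rfl⟩
    have hMH : M ≤ H := map_subtype_le _
    have hMK : M ≤ K := hMH.trans hle
    have hKN : K ≤ normalizer (H : Set X) := (normal_subgroupOf_iff_le_normalizer hle).mp hHK
    have hMnorm : (M.subgroupOf K).Normal := by
      rw [normal_subgroupOf_iff_le_normalizer hMK]
      intro k hk
      rw [mem_normalizer_iff_map_conj_eq]
      let φ : MulAut ↥H := H.normalizerMonoidHom ⟨k, hKN hk⟩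
      have hchar : (rad P ↥H).map φ.toMonoidHom = rad P ↥H :=
        characteristic_iff_map_eq.mp (rad_characteristic hiso ↥H) φ
      ext y
      constructor
      · rintro ⟨m, ⟨m', hm', rfl⟩, rfl⟩
        refine ⟨φ m', ?_, rfl⟩
        rw [← hchar]
        exact ⟨m', hm', rfl⟩
      · rintro ⟨m', hm', rfl⟩
        rw [← hchar] at hm'
        obtain ⟨m'', hm'', rfl⟩ := hm'
        exact ⟨m'', ⟨m'', hm'', rfl⟩, rfl⟩
    have hMP : P ↥M :=
      hiso _ _ ((rad P ↥H).equivMapOfInjective H.subtype H.subtype_injective) (hjoin ↥H)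
    exact hNM.trans (ih M hMK hMnorm hMP)

theorem subnormal_le_rad {X : Type u} [Group X] [Finite X] {N : Subgroup X} (hN : N.IsSubnormal)
    (hP : P ↥N) : N ≤ rad P X :=
  le_rad_of_normal_in_subnormal hiso hjoin hN N le_rfl (by rw [subgroupOf_self]; infer_instance) hP

end generic

/-- the property of being a `π`-group -/
def IsPi (π : Set ℕ) (Y : Type u) [Group Y] : Prop := ∀ p : ℕ, p.Prime → p ∣ Nat.card Y → p ∈ π

/-- In a finite group G, every subnormal nilpotent subgroup lies in the Fitting subgroup F(G), and, for a set of primes π, every subnormal subgroup all of whose prime divisors lie in π lies in O_π(G). -/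
theorem result {G : Type*} [Group G] [Finite G] (A : Subgroup G) (hA : A.IsSubnormal) : (Group.IsNilpotent A → A ≤ Cfsg.fittingSubgroup G) ∧ ∀ π : Set ℕ, (∀ p : ℕ, p.Prime → p ∣ Nat.card A → p ∈ π) → A ≤ Cfsg.piCore π G := by
  constructor
  · intro hnil
    have h := subnormal_le_rad (P := fun Y _ => Group.IsNilpotent Y)
      (fun Y Y' _ _ e h => by
        have := h
        exact Group.nilpotent_of_mulEquiv e)
      (fun Y _ _ => Cfsg.Agent.Lib.Helper1_Cores.fittingSubgroup_isNilpotent (G := Y)) hA hnil
    exact h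
  · intro π hπ
    have h := subnormal_le_rad (P := fun Y _ => IsPi π Y)
      (fun Y Y' _ _ e h => by
        intro p hp hdvd
        rw [← Nat.card_congr e.toEquiv] at hdvd
        exact h p hp hdvd)
      (fun Y _ _ => (Cfsg.Agent.Lib.Helper23_Layer.piGroup_sSup π
          {N : Subgroup Y | N.Normal ∧ IsPi π ↥N} (fun N hN => hN)).2) hA hπ
    exact h

end Cfsg.Agent.S3743
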