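-- Statement S4602: in a p-solvable group, a Sylow p-subgroup normalizes a Sylow q-subgroup
-- iff q does not divide |G : O_{p'}(G)|.
import Cfsg.Statements.S4602
import Cfsg.Agent.Lib.Helper76_PSolvable

set_option autoImplicit false
open Cfsg

namespace Cfsg.Agent.S4602

open Cfsg.Agent.Lib.Helper76_PSolvable

/-- Let G be a finite p-solvable group and q a prime different from p. Some Sylow p-subgroup of G normalizes some Sylow q-subgroup of G if and only if q does not divide the order of G/O_{p'}(G), the quotient by the largest normal subgroup of order prime to p. -/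
theorem result {G : Type*} [Group G] [Finite G] (p q : ℕ) [Fact p.Prime] [Fact q.Prime] (hpq : p ≠ q) (hsolv : Cfsg.IsPSolvable p G) :
    (∃ (P : Sylow p G) (Q : Sylow q G), (P : Subgroup G) ≤ Subgroup.normalizer ((Q : Subgroup G) : Set G)) ↔ ¬ q ∣ (Cfsg.pPrimeCore p G).index := by
  have hp : p.Prime := Fact.out
  have hq : q.Prime := Fact.out
  set K := pPrimeCore p G with hK
  have hKn : K.Normal := Cfsg.pPrimeCore_normal p G
  constructor
  · rintro ⟨P, Q, hPQ⟩
    set π := QuotientGroup.mk' K with hπ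
    have hπs : Function.Surjective π := QuotientGroup.mk'_surjective K
    have hsolq : IsPSolvable p (G ⧸ K) := isPSolvable_quotient p K hsolv
    have hcoreq : pPrimeCore p (G ⧸ K) = ⊥ := pPrimeCore_quotient_pPrimeCore p
    have hHH := centralizer_pCore_le p hsolq hcoreq
    set R := pCore p (G ⧸ K) with hR
    have hRn : R.Normal := Cfsg.pCore_normal p (G ⧸ K)
    have hRp : IsPGroup p R := pCore_isPGroup p
    set Pbar : Sylow p (G ⧸ K) := P.mapSurjective hπs with hPbar
    have hPbar_coe : (Pbar : Subgroup (G ⧸ K)) = (P : Subgroup G).map π := rfl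
    set Qbar : Subgroup (G ⧸ K) := (Q : Subgroup G).map π with hQbar
    have hQbarq : IsPGroup q Qbar := Q.2.map π
    -- R ≤ Pbar
    have hRP : R ≤ (Pbar : Subgroup (G ⧸ K)) := by
      have h1 : IsPGroup p (R ⊔ (Pbar : Subgroup (G ⧸ K)) : Subgroup (G ⧸ K)) :=
        IsPGroup.to_sup_of_normal_left hRp Pbar.2
      have h2 := Pbar.3 h1 le_sup_right
      rw [← h2]
      exact le_sup_left
    -- Pbar normalizes Qbar
    have hPQbar : (Pbar : Subgroup (G ⧸ K)) ≤ Subgroup.normalizer (Qbar : Set (G ⧸ K)) := by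
      rw [hPbar_coe]
      exact (Subgroup.map_mono hPQ).trans (Subgroup.le_normalizer_map π)
    have hdisj : R ⊓ Qbar = ⊥ :=
      disjoint_iff.mp (IsPGroup.disjoint_of_ne p q hpq _ _ hRp hQbarq)
    have hcomm : ⁅R, Qbar⁆ = ⊥ := by
      rw [eq_bot_iff, ← hdisj]
      refine le_inf (Subgroup.commutator_le_left _ _) ?_
      rw [← Subgroup.le_normalizer_iff_commutator_le_right]
      exact hRP.trans hPQbar
    have hQR : Qbar ≤ R := by
      have h1 : R ≤ Subgroup.centralizer (Qbar : Set (G ⧸ K)) :=
        Subgroup.commutator_eq_bot_iff_le_centralizer.mp hcomm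
      exact (Subgroup.le_centralizer_iff.mp h1).trans hHH
    have hQbot : Qbar = ⊥ := by
      rw [eq_bot_iff, ← hdisj]
      exact le_inf hQR le_rfl
    have hQK : (Q : Subgroup G) ≤ K := by
      have := (Subgroup.map_eq_bot_iff _).mp hQbot
      rwa [hπ, QuotientGroup.ker_mk'] at this
    intro hdvd
    exact Q.not_dvd_index (hdvd.trans (Subgroup.index_dvd_of_le hQK))
  · intro hndvd
    obtain ⟨Q⟩ : Nonempty (Sylow q G) := Sylow.nonempty
    obtain ⟨P⟩ : Nonempty (Sylow p G) := Sylow.nonempty
    -- Q ≤ K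
    have hQK : (Q : Subgroup G) ≤ K := by
      have h1 : K.relIndex (Q : Subgroup G) ∣ K.index := Subgroup.relIndex_dvd_index_of_normal _ _
      have h2 : K.relIndex (Q : Subgroup G) ∣ Nat.card (Q : Subgroup G) :=
        Subgroup.relIndex_dvd_card _ _
      obtain ⟨a, ha⟩ := IsPGroup.iff_card.mp Q.2
      rw [ha] at h2
      obtain ⟨b, _, hb⟩ := (Nat.dvd_prime_pow hq).mp h2
      rcases Nat.eq_zero_or_pos b with hb0 | hb0
      · rw [hb0, pow_zero] at hb
        exact Subgroup.relIndex_eq_one.mp hb
      · exfalso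
        apply hndvd
        refine dvd_trans ?_ h1
        rw [hb]
        exact dvd_pow_self q hb0.ne'
    have hfrat : Subgroup.normalizer ((Q : Subgroup G) : Set G) ⊔ K = ⊤ :=
      Sylow.normalizer_sup_eq_top' Q hQK
    set N := Subgroup.normalizer ((Q : Subgroup G) : Set G) with hN
    have hNidx : N.index ∣ Nat.card K := by
      have h1 := card_sup_dvd N K
      rw [hfrat, Subgroup.card_top, ← Subgroup.card_mul_index N] at h1
      exact Nat.dvd_of_mul_dvd_mul_left Nat.card_pos h1
    have hcop : ¬ p ∣ Nat.card (Sylow q G) := by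
      rw [Sylow.card_eq_index_normalizer Q]
      intro h
      have h2 : p ∣ Nat.card K := h.trans hNidx
      have h3 : (Nat.card K).Coprime p := pPrimeCore_card_coprime p
      exact hp.one_lt.ne' (Nat.eq_one_of_dvd_coprimes h3 h2 dvd_rfl)
    obtain ⟨Q', hQ'⟩ := P.2.nonempty_fixed_point_of_prime_not_dvd_card (Sylow q G) hcop
    refine ⟨P, Q', ?_⟩
    intro g hg
    have := hQ' ⟨g, hg⟩
    rw [Subgroup.smul_def] at this
    exact Sylow.smul_eq_iff_mem_normalizer.mp this

end Cfsg.Agent.S4602
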