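-- Statement S4601: p-solvable or q-solvable, q-elements have p'-class sizes
-- ==> some Sylow p-subgroup normalizes some Sylow q-subgroup.
import Cfsg.Statements.S4601
import Cfsg.Agent.S4602
import Cfsg.Agent.Lib.Helper76_PSolvable
import Cfsg.Agent.Lib.Helper76_Coprime

set_option autoImplicit false
open Cfsg

namespace Cfsg.Agent.S4601

open Cfsg.Agent.Lib.Helper76_PSolvable Cfsg.Agent.Lib.Helper76_Coprime

variable {G : Type*} [Group G]

/-- A subgroup of index prime to `p` contains a Sylow `p`-subgroup. -/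
theorem exists_sylow_le_of_not_dvd_index [Finite G] (p : ℕ) [hp : Fact p.Prime] (H : Subgroup G)
    (h : ¬ p ∣ H.index) : ∃ P : Sylow p G, (P : Subgroup G) ≤ H := by
  obtain ⟨S⟩ : Nonempty (Sylow p H) := Sylow.nonempty
  have hS' : IsPGroup p ((S : Subgroup H).map H.subtype) := S.2.map _
  have hidx : ¬ p ∣ ((S : Subgroup H).map H.subtype).index := by
    rw [Subgroup.index_map_subtype]
    exact hp.out.not_dvd_mul S.not_dvd_index h
  refine ⟨hS'.toSylow hidx, ?_⟩
  rw [IsPGroup.toSylow_coe]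
  exact Subgroup.map_subtype_le _

/-- A normal `p`-subgroup lies in every Sylow `p`-subgroup. -/
theorem normal_le_sylow (p : ℕ) (R : Subgroup G) [R.Normal] (hR : IsPGroup p R) (P : Sylow p G) :
    R ≤ (P : Subgroup G) := by
  have h1 : IsPGroup p (R ⊔ (P : Subgroup G) : Subgroup G) :=
    IsPGroup.to_sup_of_normal_left hR P.2
  have h2 := P.3 h1 le_sup_right
  rw [← h2]
  exact le_sup_left

/-- `|A : H ∩ A|` divides `|G : H|` when `A` is normal. -/
theorem relIndex_dvd_index_of_normal_right [Finite G] (H A : Subgroup G) [A.Normal] :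
    H.relIndex A ∣ H.index := by
  have h1 : A.relIndex (H ⊔ A) = A.relIndex H := Subgroup.relIndex_sup_right H A
  have h2 : Nat.card A * A.relIndex (H ⊔ A) = Nat.card (H ⊔ A : Subgroup G) := by
    rw [← Subgroup.relIndex_bot_left, ← Subgroup.relIndex_bot_left,
      Subgroup.relIndex_mul_relIndex _ _ _ bot_le le_sup_right]
  have h3 : Nat.card (H ⊓ A : Subgroup G) * A.relIndex H = Nat.card H := by
    rw [← Subgroup.inf_relIndex_left, ← Subgroup.relIndex_bot_left, ← Subgroup.relIndex_bot_left,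
      Subgroup.relIndex_mul_relIndex _ _ _ bot_le inf_le_left]
  have h4 : Nat.card (H ⊓ A : Subgroup G) * H.relIndex A = Nat.card A := by
    rw [← Subgroup.inf_relIndex_right, ← Subgroup.relIndex_bot_left, ← Subgroup.relIndex_bot_left,
      Subgroup.relIndex_mul_relIndex _ _ _ bot_le inf_le_right]
  have h5 : Nat.card H * H.relIndex (H ⊔ A) = Nat.card (H ⊔ A : Subgroup G) := by
    rw [← Subgroup.relIndex_bot_left, ← Subgroup.relIndex_bot_left,
      Subgroup.relIndex_mul_relIndex _ _ _ bot_le le_sup_left]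
  have h6 : H.relIndex (H ⊔ A) = H.relIndex A := by
    have hpos : 0 < Nat.card H := Nat.card_pos
    have : Nat.card H * H.relIndex (H ⊔ A) = Nat.card H * H.relIndex A := by
      calc Nat.card H * H.relIndex (H ⊔ A) = Nat.card A * A.relIndex H := by rw [h5, ← h2, h1]
        _ = (Nat.card (H ⊓ A : Subgroup G) * H.relIndex A) * A.relIndex H := by rw [h4]
        _ = (Nat.card (H ⊓ A : Subgroup G) * A.relIndex H) * H.relIndex A := by ring
        _ = Nat.card H * H.relIndex A := by rw [h3]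
    exact Nat.eq_of_mul_eq_mul_left hpos this
  rw [← h6]
  exact Subgroup.relIndex_dvd_index_of_le le_sup_left

/-- Elements of a Sylow `q`-subgroup have `q`-power order. -/
theorem exists_orderOf_eq_pow_of_mem_sylow (q : ℕ) [Fact q.Prime] (Q : Sylow q G) {y : G}
    (hy : y ∈ (Q : Subgroup G)) : ∃ k : ℕ, orderOf y = q ^ k := by
  obtain ⟨k, hk⟩ := (IsPGroup.iff_orderOf.mp Q.2) ⟨y, hy⟩
  exact ⟨k, by rw [← hk, Subgroup.orderOf_mk]⟩

/-- The hypothesis "no `q`-element has class size divisible by `p`" passes to quotients. -/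
theorem hyp_quotient [Finite G] (p q : ℕ) [Fact p.Prime] [Fact q.Prime] (M : Subgroup G) [M.Normal]
    (h : ∀ y : G, (∃ k : ℕ, orderOf y = q ^ k) →
      ¬ p ∣ (Subgroup.centralizer ({y} : Set G)).index) :
    ∀ y : G ⧸ M, (∃ k : ℕ, orderOf y = q ^ k) →
      ¬ p ∣ (Subgroup.centralizer ({y} : Set (G ⧸ M))).index := by
  intro ybar ⟨k, hk⟩
  set π := QuotientGroup.mk' M with hπ
  have hπs : Function.Surjective π := QuotientGroup.mk'_surjective M
  -- ybar lies in a Sylow q-subgroup of the quotient, the image of a Sylow q-subgroup of G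
  have hz : IsPGroup q (Subgroup.zpowers ybar) := by
    apply IsPGroup.of_card (n := k)
    rw [Nat.card_zpowers, hk]
  obtain ⟨Qbar, hQbar⟩ := hz.exists_le_sylow
  obtain ⟨Q, hQ⟩ := Sylow.mapSurjective_surjective hπs q Qbar
  have hy : ybar ∈ (Q : Subgroup G).map π := by
    have : ybar ∈ (Qbar : Subgroup (G ⧸ M)) := hQbar (Subgroup.mem_zpowers ybar)
    rw [← hQ] at this
    exact this
  obtain ⟨y, hyQ, rfl⟩ := hy
  have hy' := h y (exists_orderOf_eq_pow_of_mem_sylow q Q hyQ)
  intro hdvd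
  apply hy'
  have h1 : (Subgroup.centralizer ({y} : Set G)).map π ≤ Subgroup.centralizer ({π y} : Set (G ⧸ M)) := by
    rintro _ ⟨g, hg, rfl⟩
    have hg' : g * y = y * g := Subgroup.mem_centralizer_singleton_iff.mp hg
    rw [Subgroup.mem_centralizer_singleton_iff, ← map_mul, ← map_mul, hg']
  exact (hdvd.trans (Subgroup.index_dvd_of_le h1)).trans (Subgroup.index_map_dvd _ hπs)

/-- If the image of `A` normalizes the image of `B` in `G ⧸ M`, then `A` normalizes `B ⊔ M`. -/
theorem le_normalizer_sup_of_map (M : Subgroup G) [M.Normal] (A B : Subgroup G)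
    (h : A.map (QuotientGroup.mk' M) ≤
      Subgroup.normalizer ((B.map (QuotientGroup.mk' M) : Subgroup (G ⧸ M)) : Set (G ⧸ M))) :
    A ≤ Subgroup.normalizer ((B ⊔ M : Subgroup G) : Set G) := by
  intro g hg
  have h1 : QuotientGroup.mk' M g ∈
      Subgroup.normalizer ((B.map (QuotientGroup.mk' M) : Subgroup (G ⧸ M)) : Set (G ⧸ M)) :=
    h ⟨g, hg, rfl⟩
  have h2 : g ∈ (Subgroup.normalizer ((B.map (QuotientGroup.mk' M) : Subgroup (G ⧸ M)) :
      Set (G ⧸ M))).comap (QuotientGroup.mk' M) := h1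
  rw [Subgroup.comap_normalizer_eq_of_surjective _ (QuotientGroup.mk'_surjective M),
    Subgroup.comap_map_eq, QuotientGroup.ker_mk'] at h2
  exact h2

/-- The `p`-solvable case. -/
theorem psolv_case [Finite G] (p q : ℕ) [Fact p.Prime] [Fact q.Prime] (hpq : p ≠ q)
    (hsolv : IsPSolvable p G)
    (h : ∀ y : G, (∃ k : ℕ, orderOf y = q ^ k) →
      ¬ p ∣ (Subgroup.centralizer ({y} : Set G)).index) :
    ∃ (P : Sylow p G) (Q : Sylow q G),
      (P : Subgroup G) ≤ Subgroup.normalizer ((Q : Subgroup G) : Set G) := by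
  apply (Cfsg.Agent.S4602.result p q hpq hsolv).mpr
  obtain ⟨Q⟩ : Nonempty (Sylow q G) := Sylow.nonempty
  set K := pPrimeCore p G with hK
  have hKn : K.Normal := Cfsg.pPrimeCore_normal p G
  suffices hQK : (Q : Subgroup G) ≤ K by
    intro hdvd
    exact Q.not_dvd_index (hdvd.trans (Subgroup.index_dvd_of_le hQK))
  intro y hy
  have hC := h y (exists_orderOf_eq_pow_of_mem_sylow q Q hy)
  obtain ⟨P, hPC⟩ := exists_sylow_le_of_not_dvd_index p _ hC
  set π := QuotientGroup.mk' K with hπ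
  have hπs : Function.Surjective π := QuotientGroup.mk'_surjective K
  have hsolq : IsPSolvable p (G ⧸ K) := isPSolvable_quotient p K hsolv
  have hcoreq : pPrimeCore p (G ⧸ K) = ⊥ := pPrimeCore_quotient_pPrimeCore p
  have hHH := centralizer_pCore_le p hsolq hcoreq
  set R := pCore p (G ⧸ K) with hR
  have hRn : R.Normal := Cfsg.pCore_normal p (G ⧸ K)
  have hRp : IsPGroup p R := pCore_isPGroup p
  have hRP : R ≤ (P : Subgroup G).map π :=
    normal_le_sylow p R hRp (P.mapSurjective hπs)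
  have hyc : π y ∈ Subgroup.centralizer (R : Set (G ⧸ K)) := by
    rw [Subgroup.mem_centralizer_iff]
    intro r hr
    obtain ⟨g, hg, rfl⟩ := hRP hr
    have hgy : g * y = y * g := Subgroup.mem_centralizer_singleton_iff.mp (hPC hg)
    rw [← map_mul, ← map_mul, hgy]
  have hyR : π y ∈ R := hHH hyc
  have hyQ : π y ∈ (Q : Subgroup G).map π := ⟨y, hy, rfl⟩
  have hdisj : R ⊓ (Q : Subgroup G).map π = ⊥ :=
    disjoint_iff.mp (IsPGroup.disjoint_of_ne p q hpq _ _ hRp (Q.2.map π))
  have h1 : π y ∈ R ⊓ (Q : Subgroup G).map π := Subgroup.mem_inf.mpr ⟨hyR, hyQ⟩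
  rw [hdisj, Subgroup.mem_bot, hπ, QuotientGroup.mk'_apply, QuotientGroup.eq_one_iff] at h1
  exact h1

/-- The Sylow `q`-subgroups contained in `Q ⊔ N` are the `N`-conjugates of `Q`. -/
theorem exists_smul_eq_of_le_sup [Finite G] (q : ℕ) [Fact q.Prime] (N : Subgroup G) [N.Normal]
    (Q Q' : Sylow q G) (h : (Q' : Subgroup G) ≤ (Q : Subgroup G) ⊔ N) :
    ∃ n ∈ N, n • Q = Q' := by
  have hQL : (Q : Subgroup G) ≤ (Q : Subgroup G) ⊔ N := le_sup_left
  obtain ⟨l, hl⟩ := MulAction.exists_smul_eq ((Q : Subgroup G) ⊔ N : Subgroup G)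
    (Q.subtype hQL) (Q'.subtype h)
  rw [Sylow.smul_subtype] at hl
  have hl' : l • Q = Q' := Sylow.subtype_injective hl
  have hlmem : (l : G) ∈ N ⊔ (Q : Subgroup G) := by
    rw [sup_comm]; exact l.2
  obtain ⟨n, hn, u, hu, hnu⟩ := Subgroup.mem_sup_of_normal_left.mp hlmem
  refine ⟨n, hn, ?_⟩
  rw [← hl', Subgroup.smul_def, ← hnu, mul_smul]
  congr 1
  exact (Sylow.smul_eq_iff_mem_normalizer.mpr (Subgroup.le_normalizer hu)).symm

/-- Conjugation by an element of the normalizer of `L` preserves containment in `L`. -/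
theorem smul_sylow_le_of_mem_normalizer (q : ℕ) (L : Subgroup G) (Q' : Sylow q G)
    (hQ' : (Q' : Subgroup G) ≤ L) {g : G} (hg : g ∈ Subgroup.normalizer (L : Set G)) :
    ((g • Q' : Sylow q G) : Subgroup G) ≤ L := by
  intro x hx
  obtain ⟨s, hs, rfl⟩ := (mem_conj_smul_sylow_iff g Q' x).mp hx
  exact (Subgroup.mem_normalizer_iff.mp hg s).mp (hQ' hs)

/-- Key step: if `P` normalizes `Q ⊔ N` with `N` a normal `q'`-subgroup, and every element of `Q`
is centralized by some Sylow `p`-subgroup, then `P` normalizes some Sylow `q`-subgroup. -/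
theorem key_step [Finite G] (p q : ℕ) [Fact p.Prime] [Fact q.Prime] (N : Subgroup G) [N.Normal]
    (hN : ¬ q ∣ Nat.card N) (P : Sylow p G) (Q : Sylow q G)
    (hPL : (P : Subgroup G) ≤ Subgroup.normalizer (((Q : Subgroup G) ⊔ N : Subgroup G) : Set G))
    (h : ∀ y ∈ (Q : Subgroup G), ∃ S : Sylow p G,
      (S : Subgroup G) ≤ Subgroup.centralizer ({y} : Set G)) :
    ∃ Q' : Sylow q G, (P : Subgroup G) ≤ Subgroup.normalizer ((Q' : Subgroup G) : Set G) := by
  classical
  -- the conjugation action of `Q` on `N`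
  let act : MulDistribMulAction (Q : Subgroup G) N :=
    MulDistribMulAction.compHom N ((MulAut.conjNormal (H := N)).comp (Q : Subgroup G).subtype)
  have hact : ∀ (u : (Q : Subgroup G)) (n : N), ((u • n : N) : G) = u * n * (u : G)⁻¹ := by
    intro u n
    exact MulAut.conjNormal_apply (u : G) n
  -- a Sylow `p`-subgroup of `N` centralized by `Q`
  have hCA : ∃ S₀ : Sylow p N, ∀ a : (Q : Subgroup G), ∀ s ∈ (S₀ : Subgroup N), a • s = s := by
    apply exists_sylow_fixed_pointwise q Q.2 hN p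
    rintro ⟨y, hy⟩
    obtain ⟨S, hS⟩ := h y hy
    have hT : IsPGroup p ((S : Subgroup G).subgroupOf N) := S.2.comap_subtype
    have hidx : ¬ p ∣ ((S : Subgroup G).subgroupOf N).index := by
      intro hdvd
      exact S.not_dvd_index (hdvd.trans (relIndex_dvd_index_of_normal_right (S : Subgroup G) N))
    refine ⟨hT.toSylow hidx, ?_⟩
    intro s hs
    rw [IsPGroup.toSylow_coe, Subgroup.mem_subgroupOf] at hs
    have hc : (s : G) * y = y * s := Subgroup.mem_centralizer_singleton_iff.mp (hS hs)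
    apply Subtype.ext
    rw [hact]
    show y * (s : G) * y⁻¹ = s
    rw [← hc, mul_inv_cancel_right]
  obtain ⟨S₀, hS₀⟩ := hCA
  -- `S₀` lies in the stabilizer of `Q` in `N`
  have hstab : (S₀ : Subgroup N) ≤ MulAction.stabilizer N Q := by
    intro s hs
    rw [MulAction.mem_stabilizer_iff, Subgroup.smul_def, Sylow.smul_eq_iff_mem_normalizer]
    show (s : G) ∈ Subgroup.normalizer (((Q : Subgroup G)) : Set G)
    rw [Subgroup.mem_normalizer_iff]
    intro u
    have hcomm : ∀ v ∈ (Q : Subgroup G), v * (s : G) = s * v := by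
      intro v hv
      have := congrArg Subtype.val (hS₀ ⟨v, hv⟩ s hs)
      rw [hact] at this
      exact mul_inv_eq_iff_eq_mul.mp this
    constructor
    · intro hu
      have := hcomm u hu
      rw [← this, mul_inv_cancel_right]
      exact hu
    · intro hu
      have h1 := hcomm _ hu
      have h2 : u = (s : G)⁻¹ * ((s : G) * u * (s : G)⁻¹) * s := by group
      have h3 : (s : G)⁻¹ * ((s : G) * u * (s : G)⁻¹) * s = (s : G) * u * (s : G)⁻¹ := by
        rw [mul_assoc, h1, inv_mul_cancel_left]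
      rw [h2, h3]
      exact hu
  have hidx : ¬ p ∣ (MulAction.orbit N Q).ncard := by
    rw [← MulAction.index_stabilizer]
    intro hdvd
    exact S₀.not_dvd_index (hdvd.trans (Subgroup.index_dvd_of_le hstab))
  -- the set of Sylow `q`-subgroups inside `Q ⊔ N`
  have horb : {Q' : Sylow q G | (Q' : Subgroup G) ≤ (Q : Subgroup G) ⊔ N} = MulAction.orbit N Q := by
    ext Q'
    constructor
    · intro hQ'
      obtain ⟨n, hn, hnQ⟩ := exists_smul_eq_of_le_sup q N Q Q' hQ'
      exact ⟨⟨n, hn⟩, hnQ⟩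
    · rintro ⟨n, rfl⟩
      show ((n • Q : Sylow q G) : Subgroup G) ≤ (Q : Subgroup G) ⊔ N
      rw [Subgroup.smul_def]
      apply smul_sylow_le_of_mem_normalizer q _ Q le_sup_left
      apply Subgroup.le_normalizer
      exact (le_sup_right : N ≤ (Q : Subgroup G) ⊔ N) n.2
  let Sig : SubMulAction (P : Subgroup G) (Sylow q G) :=
    { carrier := {Q' : Sylow q G | (Q' : Subgroup G) ≤ (Q : Subgroup G) ⊔ N}
      smul_mem' := by
        intro g Q' hQ'
        show ((g • Q' : Sylow q G) : Subgroup G) ≤ (Q : Subgroup G) ⊔ N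
        rw [Subgroup.smul_def]
        exact smul_sylow_le_of_mem_normalizer q _ Q' hQ' (hPL g.2) }
  have hcard : ¬ p ∣ Nat.card Sig := by
    have : Nat.card Sig = (MulAction.orbit N Q).ncard := by
      rw [← horb]
      rfl
    rw [this]
    exact hidx
  obtain ⟨⟨Q', hQ'mem⟩, hQ'⟩ := P.2.nonempty_fixed_point_of_prime_not_dvd_card Sig hcard
  refine ⟨Q', fun g hg => ?_⟩
  have := congrArg Subtype.val (MulAction.mem_fixedPoints.mp hQ' ⟨g, hg⟩)
  have h2 : g • Q' = Q' := this
  exact Sylow.smul_eq_iff_mem_normalizer.mp h2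

theorem card_quotient_lt [Finite G] (M : Subgroup G) [M.Normal] (hM : M ≠ ⊥) :
    Nat.card (G ⧸ M) < Nat.card G := by
  have h1 : Nat.card M * M.index = Nat.card G := Subgroup.card_mul_index M
  have h2 : 1 < Nat.card M := (Subgroup.one_lt_card_iff_ne_bot M).mpr hM
  have h3 : 0 < M.index := Nat.pos_of_ne_zero Subgroup.index_ne_zero_of_finite
  rw [← Subgroup.index_eq_card, ← h1]
  nlinarith

/-- Lifting a pair of Sylow subgroups from a quotient. -/
theorem exists_lift_pair [Finite G] (p q : ℕ) [Fact p.Prime] [Fact q.Prime] (M : Subgroup G)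
    [M.Normal]
    (hex : ∃ (Pb : Sylow p (G ⧸ M)) (Qb : Sylow q (G ⧸ M)),
      (Pb : Subgroup (G ⧸ M)) ≤ Subgroup.normalizer ((Qb : Subgroup (G ⧸ M)) : Set (G ⧸ M))) :
    ∃ (P : Sylow p G) (Q : Sylow q G),
      (P : Subgroup G) ≤ Subgroup.normalizer (((Q : Subgroup G) ⊔ M : Subgroup G) : Set G) := by
  obtain ⟨Pb, Qb, hPQ⟩ := hex
  have hπs : Function.Surjective (QuotientGroup.mk' M) := QuotientGroup.mk'_surjective M
  obtain ⟨P, hP⟩ := Sylow.mapSurjective_surjective hπs p Pb
  obtain ⟨Q, hQ⟩ := Sylow.mapSurjective_surjective hπs q Qb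
  refine ⟨P, Q, le_normalizer_sup_of_map M _ _ ?_⟩
  have hP' : (P : Subgroup G).map (QuotientGroup.mk' M) = (Pb : Subgroup (G ⧸ M)) := by
    rw [← hP]; rfl
  have hQ' : (Q : Subgroup G).map (QuotientGroup.mk' M) = (Qb : Subgroup (G ⧸ M)) := by
    rw [← hQ]; rfl
  rw [hP', hQ']
  exact hPQ

/-- The `q`-solvable case, by induction on the order. -/
theorem qsolv_case_aux (p q : ℕ) [Fact p.Prime] [Fact q.Prime] (n : ℕ) :
    ∀ (G : Type*) [Group G] [Finite G], Nat.card G = n → IsPSolvable q G →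
    (∀ y : G, (∃ k : ℕ, orderOf y = q ^ k) →
      ¬ p ∣ (Subgroup.centralizer ({y} : Set G)).index) →
    ∃ (P : Sylow p G) (Q : Sylow q G),
      (P : Subgroup G) ≤ Subgroup.normalizer ((Q : Subgroup G) : Set G) := by
  induction n using Nat.strong_induction_on with
  | _ n ih =>
  intro G _ _ hcard hsolv h
  have hcent : ∀ (Q : Sylow q G), ∀ y ∈ (Q : Subgroup G), ∃ S : Sylow p G,
      (S : Subgroup G) ≤ Subgroup.centralizer ({y} : Set G) := fun Q y hy =>
    exists_sylow_le_of_not_dvd_index p _ (h y (exists_orderOf_eq_pow_of_mem_sylow q Q hy))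
  have hNn : (pPrimeCore q G).Normal := Cfsg.pPrimeCore_normal q G
  by_cases hN : pPrimeCore q G = ⊥
  · have hRn : (pCore q G).Normal := Cfsg.pCore_normal q G
    by_cases hR : pCore q G = ⊥
    · -- then `G` is trivial
      have hHH := centralizer_pCore_le q hsolv hN
      rw [hR] at hHH
      obtain ⟨P⟩ : Nonempty (Sylow p G) := Sylow.nonempty
      obtain ⟨Q⟩ : Nonempty (Sylow q G) := Sylow.nonempty
      refine ⟨P, Q, fun g _ => ?_⟩
      have hg : g ∈ Subgroup.centralizer (((⊥ : Subgroup G)) : Set G) := by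
        rw [Subgroup.mem_centralizer_iff]
        intro r hr
        have : r = 1 := hr
        rw [this, mul_one, one_mul]
      have : g = 1 := hHH hg
      rw [this]
      exact one_mem _
    · -- pass to `G ⧸ O_q(G)`
      have hlt := card_quotient_lt (pCore q G) hR
      rw [hcard] at hlt
      have hex := ih _ hlt (G ⧸ pCore q G) rfl (isPSolvable_quotient q _ hsolv)
        (hyp_quotient p q _ h)
      obtain ⟨P, Q, hPQ⟩ := exists_lift_pair p q _ hex
      refine ⟨P, Q, ?_⟩
      have hle : pCore q G ≤ (Q : Subgroup G) := normal_le_sylow q _ (pCore_isPGroup q) Q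
      rwa [sup_eq_left.mpr hle] at hPQ
  · -- pass to `G ⧸ O_{q'}(G)`
    have hlt := card_quotient_lt (pPrimeCore q G) hN
    rw [hcard] at hlt
    have hex := ih _ hlt (G ⧸ pPrimeCore q G) rfl (isPSolvable_quotient q _ hsolv)
      (hyp_quotient p q _ h)
    obtain ⟨P, Q, hPQ⟩ := exists_lift_pair p q _ hex
    have hcop : ¬ q ∣ Nat.card (pPrimeCore q G) := by
      have := pPrimeCore_card_coprime (G := G) q
      intro hdvd
      have h1 : q ∣ Nat.gcd (Nat.card (pPrimeCore q G)) q := Nat.dvd_gcd hdvd dvd_rfl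
      rw [Nat.Coprime] at this
      rw [this] at h1
      exact (Fact.out : q.Prime).one_lt.ne' (Nat.dvd_one.mp h1)
    obtain ⟨Q', hQ'⟩ := key_step p q (pPrimeCore q G) hcop P Q hPQ (hcent Q)
    exact ⟨P, Q', hQ'⟩

/-- The frozen statement. -/
theorem result {G : Type*} [Group G] [Finite G] (p q : ℕ) [Fact p.Prime] [Fact q.Prime] (hsolv : Cfsg.IsPSolvable p G ∨ Cfsg.IsPSolvable q G)
    (h : ∀ y : G, (∃ k : ℕ, orderOf y = q ^ k) → ¬ p ∣ (Subgroup.centralizer ({y} : Set G)).index) :
    ∃ (P : Sylow p G) (Q : Sylow q G), (P : Subgroup G) ≤ Subgroup.normalizer ((Q : Subgroup G) : Set G) := by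
  by_cases hpq : p = q
  · subst hpq
    obtain ⟨P⟩ : Nonempty (Sylow p G) := Sylow.nonempty
    exact ⟨P, P, Subgroup.le_normalizer⟩
  · rcases hsolv with hs | hs
    · exact psolv_case p q hpq hs h
    · exact qsolv_case_aux p q _ G rfl hs h

end Cfsg.Agent.S4601
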