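-- Statement S3744: p-complements in p-soluble groups: existence, conjugacy, dominance.
import Cfsg.Statements.S3744
import Cfsg.Agent.S0001
import Cfsg.Agent.S4601
import Cfsg.Agent.Lib.Helper76_PSolvable

set_option autoImplicit false
open Cfsg

namespace Cfsg.Agent.S3744

open Cfsg.Agent.Lib.Helper76_PSolvable
open scoped Pointwise

universe u

variable {G : Type*} [Group G]

/-- `H` is a `p`-complement: order prime to `p`, index a power of `p`. -/
def IsPCompl (p : ℕ) (H : Subgroup G) : Prop :=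
  (Nat.card H).Coprime p ∧ ∃ n : ℕ, H.index = p ^ n

theorem coprime_pow_of_coprime {a p : ℕ} (h : a.Coprime p) (n : ℕ) : a.Coprime (p ^ n) :=
  Nat.Coprime.pow_right n h

/-- A `p'`-subgroup containing a `p`-complement equals it. -/
theorem le_of_isPCompl_of_le [Finite G] {p : ℕ} [Fact p.Prime] {H U : Subgroup G}
    (hH : IsPCompl p H) (hU : (Nat.card U).Coprime p) (hle : H ≤ U) : U ≤ H := by
  obtain ⟨_, n, hn⟩ := hH
  rw [← Subgroup.relIndex_eq_one]
  have h1 : H.relIndex U ∣ p ^ n := by
    rw [← hn]; exact Subgroup.relIndex_dvd_index_of_le hle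
  have h2 : H.relIndex U ∣ Nat.card U := by
    have := Subgroup.relIndex_mul_relIndex ⊥ H U bot_le hle
    rw [Subgroup.relIndex_bot_left, Subgroup.relIndex_bot_left] at this
    exact Dvd.intro_left _ this
  have h3 : (H.relIndex U).Coprime (H.relIndex U) :=
    Nat.Coprime.coprime_dvd_left h2 (Nat.Coprime.coprime_dvd_right h1 (coprime_pow_of_coprime hU n))
  exact (Nat.coprime_self _).mp h3

/-- A normal `p'`-subgroup lies in every `p`-complement. -/
theorem normal_le_of_isPCompl [Finite G] {p : ℕ} [Fact p.Prime] {H N : Subgroup G} [N.Normal]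
    (hH : IsPCompl p H) (hN : (Nat.card N).Coprime p) : N ≤ H := by
  have h1 : (Nat.card (H ⊔ N : Subgroup G)).Coprime p :=
    Nat.Coprime.coprime_dvd_left (card_sup_dvd H N) (Nat.Coprime.mul_left hH.1 hN)
  exact le_sup_right.trans (le_of_isPCompl_of_le hH h1 le_sup_left)

/-- Images of `p`-complements in quotients are `p`-complements. -/
theorem isPCompl_map [Finite G] {p : ℕ} [Fact p.Prime] {H : Subgroup G} (M : Subgroup G) [M.Normal]
    (hH : IsPCompl p H) : IsPCompl p (H.map (QuotientGroup.mk' M)) := by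
  obtain ⟨h1, n, hn⟩ := hH
  refine ⟨Nat.Coprime.coprime_dvd_left (Subgroup.card_map_dvd H _) h1, ?_⟩
  have h2 : (H.map (QuotientGroup.mk' M)).index ∣ p ^ n := by
    rw [← hn]; exact Subgroup.index_map_dvd H (QuotientGroup.mk'_surjective M)
  obtain ⟨k, _, hk⟩ := (Nat.dvd_prime_pow (Fact.out : p.Prime)).mp h2
  exact ⟨k, hk⟩

/-- The order of a `p`-complement is determined. -/
theorem card_eq_of_isPCompl [Finite G] {p : ℕ} [Fact p.Prime] {H₁ H₂ : Subgroup G}
    (h₁ : IsPCompl p H₁) (h₂ : IsPCompl p H₂) : Nat.card H₁ = Nat.card H₂ := by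
  obtain ⟨c1, n1, i1⟩ := h₁
  obtain ⟨c2, n2, i2⟩ := h₂
  have e1 := Subgroup.card_mul_index H₁
  have e2 := Subgroup.card_mul_index H₂
  rw [i1] at e1
  rw [i2] at e2
  apply Nat.dvd_antisymm
  · have : Nat.card H₁ ∣ Nat.card H₂ * p ^ n2 := by rw [e2, ← e1]; exact Dvd.intro _ rfl
    exact (coprime_pow_of_coprime c1 n2).dvd_of_dvd_mul_right this
  · have : Nat.card H₂ ∣ Nat.card H₁ * p ^ n1 := by rw [e1, ← e2]; exact Dvd.intro _ rfl
    exact (coprime_pow_of_coprime c2 n1).dvd_of_dvd_mul_right this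

/-- Lifting a `p`-complement through a normal `p'`-subgroup. -/
theorem isPCompl_comap [Finite G] {p : ℕ} [Fact p.Prime] (M : Subgroup G) [M.Normal]
    (hM : (Nat.card M).Coprime p) {Hb : Subgroup (G ⧸ M)} (hH : IsPCompl p Hb) :
    IsPCompl p (Hb.comap (QuotientGroup.mk' M)) := by
  obtain ⟨h1, n, hn⟩ := hH
  have hπs : Function.Surjective (QuotientGroup.mk' M) := QuotientGroup.mk'_surjective M
  constructor
  · have hle : M ≤ Hb.comap (QuotientGroup.mk' M) := by
      intro x hx
      rw [Subgroup.mem_comap, QuotientGroup.mk'_apply, (QuotientGroup.eq_one_iff x).mpr hx]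
      exact one_mem _
    have := card_mul_card_map_mk M (Hb.comap (QuotientGroup.mk' M)) hle
    rw [Subgroup.map_comap_eq_self_of_surjective hπs] at this
    rw [← this]
    exact Nat.Coprime.mul_left hM h1
  · exact ⟨n, by rw [Subgroup.index_comap_of_surjective _ hπs, hn]⟩

/-- Lifting a `p`-complement through a normal `p`-subgroup (Schur–Zassenhaus existence). -/
theorem exists_isPCompl_of_quotient [Finite G] {p : ℕ} [Fact p.Prime] (R : Subgroup G) [R.Normal]
    (hR : IsPGroup p R) {Hb : Subgroup (G ⧸ R)} (hH : IsPCompl p Hb) :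
    ∃ H : Subgroup G, IsPCompl p H := by
  obtain ⟨h1, n, hn⟩ := hH
  have hπs : Function.Surjective (QuotientGroup.mk' R) := QuotientGroup.mk'_surjective R
  set L := Hb.comap (QuotientGroup.mk' R) with hL
  have hle : R ≤ L := by
    intro x hx
    rw [hL, Subgroup.mem_comap, QuotientGroup.mk'_apply, (QuotientGroup.eq_one_iff x).mpr hx]
    exact one_mem _
  have hcardL : Nat.card R * Nat.card Hb = Nat.card L := by
    have := card_mul_card_map_mk R L hle
    rwa [hL, Subgroup.map_comap_eq_self_of_surjective hπs, ← hL] at this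
  have hidxL : L.index = p ^ n := by rw [hL, Subgroup.index_comap_of_surjective _ hπs, hn]
  obtain ⟨m, hm⟩ := IsPGroup.iff_card.mp hR
  -- the normal Sylow subgroup of `L`
  have hcardRL : Nat.card (R.subgroupOf L) = Nat.card R :=
    Nat.card_congr (Subgroup.subgroupOfEquivOfLe hle).toEquiv
  have hidxRL : (R.subgroupOf L).index = Nat.card Hb := by
    have h2 := Subgroup.card_mul_index (R.subgroupOf L)
    rw [hcardRL, ← hcardL] at h2
    exact Nat.eq_of_mul_eq_mul_left Nat.card_pos h2
  have hcop : (Nat.card (R.subgroupOf L)).Coprime (R.subgroupOf L).index := by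
    rw [hcardRL, hidxRL, hm]
    exact (coprime_pow_of_coprime h1 m).symm
  obtain ⟨H', hH'⟩ := Subgroup.exists_right_complement'_of_coprime hcop
  refine ⟨H'.map L.subtype, ?_, ?_⟩
  · rw [Subgroup.card_map_of_injective L.subtype_injective]
    have := hH'.index_eq_card
    -- card H' = index of R in L
    have h3 : Nat.card H' = Nat.card Hb := by
      have h4 := hH'.card_mul_card
      rw [hcardRL, ← hcardL] at h4
      exact Nat.eq_of_mul_eq_mul_left Nat.card_pos h4
    rw [h3]; exact h1
  · refine ⟨m + n, ?_⟩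
    have h3 : Nat.card H' = Nat.card Hb := by
      have h4 := hH'.card_mul_card
      rw [hcardRL, ← hcardL] at h4
      exact Nat.eq_of_mul_eq_mul_left Nat.card_pos h4
    have h5 := Subgroup.card_mul_index (H'.map L.subtype)
    rw [Subgroup.card_map_of_injective L.subtype_injective, h3] at h5
    have h6 := Subgroup.card_mul_index L
    rw [← hcardL, hidxL, hm] at h6
    have h7 : Nat.card Hb * (H'.map L.subtype).index = Nat.card Hb * (p ^ (m + n)) := by
      rw [h5, ← h6, pow_add]; ring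
    exact Nat.eq_of_mul_eq_mul_left Nat.card_pos h7

/-- Lifting a conjugacy-containment from a quotient. -/
theorem conj_le_sup_of_map (M : Subgroup G) [M.Normal] (H U : Subgroup G) (g : G)
    (h : (U.map (QuotientGroup.mk' M)).map (MulAut.conj (QuotientGroup.mk' M g)).toMonoidHom ≤
      H.map (QuotientGroup.mk' M)) :
    U.map (MulAut.conj g).toMonoidHom ≤ H ⊔ M := by
  rw [← Cfsg.Agent.S0001.map_map_conj, Subgroup.map_le_iff_le_comap, Subgroup.comap_map_eq,
    QuotientGroup.ker_mk'] at h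
  exact h

/-- Schur–Zassenhaus step: a `p'`-subgroup of `H R` (`R` a normal `p`-subgroup, `H` a `p'`-group)
is conjugate into `H`. -/
theorem exists_conj_le_of_le_sup [Finite G] {p : ℕ} [Fact p.Prime] (R : Subgroup G) [R.Normal]
    (hR : IsPGroup p R) (H U : Subgroup G) (hH : (Nat.card H).Coprime p)
    (hU : (Nat.card U).Coprime p) (hUL : U ≤ H ⊔ R) :
    ∃ g : G, U.map (MulAut.conj g).toMonoidHom ≤ H := by
  obtain ⟨m, hm⟩ := IsPGroup.iff_card.mp hR
  have hRX : ∀ X : Subgroup G, (Nat.card X).Coprime p → R ⊓ X = ⊥ := by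
    intro X hX
    apply disjoint_iff.mp
    apply Subgroup.disjoint_of_coprime_natCard
    rw [hm]
    exact (coprime_pow_of_coprime hX m).symm
  have hUM : U ≤ U ⊔ R := le_sup_left
  have hRM : R ≤ U ⊔ R := le_sup_right
  have hKM : (U ⊔ R) ⊓ H ≤ U ⊔ R := inf_le_left
  have hML : U ⊔ R ≤ H ⊔ R := sup_le hUL le_sup_right
  -- the two complements
  have hA : Subgroup.IsComplement' (R.subgroupOf (U ⊔ R)) (U.subgroupOf (U ⊔ R)) := by
    apply Subgroup.isComplement'_of_disjoint_and_mul_eq_univ
    · rw [disjoint_iff, eq_bot_iff]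
      intro x hx
      rw [Subgroup.mem_inf, Subgroup.mem_subgroupOf, Subgroup.mem_subgroupOf] at hx
      have : (x : G) ∈ R ⊓ U := hx
      rw [hRX U hU, Subgroup.mem_bot] at this
      rw [Subgroup.mem_bot]
      exact Subtype.ext this
    · rw [Set.eq_univ_iff_forall]
      intro x
      have hx : (x : G) ∈ R ⊔ U := by rw [sup_comm]; exact x.2
      obtain ⟨r, hr, u, hu, hru⟩ := Subgroup.mem_sup_of_normal_left.mp hx
      exact ⟨⟨r, hRM hr⟩, Subgroup.mem_subgroupOf.mpr hr, ⟨u, hUM hu⟩,
        Subgroup.mem_subgroupOf.mpr hu, Subtype.ext hru⟩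
  have hB : Subgroup.IsComplement' (R.subgroupOf (U ⊔ R)) (((U ⊔ R) ⊓ H).subgroupOf (U ⊔ R)) := by
    apply Subgroup.isComplement'_of_disjoint_and_mul_eq_univ
    · rw [disjoint_iff, eq_bot_iff]
      intro x hx
      rw [Subgroup.mem_inf, Subgroup.mem_subgroupOf, Subgroup.mem_subgroupOf] at hx
      have : (x : G) ∈ R ⊓ H := ⟨hx.1, hx.2.2⟩
      rw [hRX H hH, Subgroup.mem_bot] at this
      rw [Subgroup.mem_bot]
      exact Subtype.ext this
    · rw [Set.eq_univ_iff_forall]
      intro x
      have hx : (x : G) ∈ R ⊔ H := by rw [sup_comm]; exact hML x.2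
      obtain ⟨r, hr, h, hh, hrh⟩ := Subgroup.mem_sup_of_normal_left.mp hx
      have hhM : h ∈ U ⊔ R := by
        have : h = r⁻¹ * (x : G) := by rw [← hrh]; group
        rw [this]
        exact Subgroup.mul_mem _ (Subgroup.inv_mem _ (hRM hr)) x.2
      exact ⟨⟨r, hRM hr⟩, Subgroup.mem_subgroupOf.mpr hr, ⟨h, hhM⟩,
        Subgroup.mem_subgroupOf.mpr ⟨hhM, hh⟩, Subtype.ext hrh⟩
  have hcardN : Nat.card (R.subgroupOf (U ⊔ R)) = p ^ m := by
    rw [← hm]
    exact Nat.card_congr (Subgroup.subgroupOfEquivOfLe hRM).toEquiv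
  have hcardA : Nat.card (U.subgroupOf (U ⊔ R)) = Nat.card U :=
    Nat.card_congr (Subgroup.subgroupOfEquivOfLe hUM).toEquiv
  have hHall : (Nat.card (R.subgroupOf (U ⊔ R))).Coprime (R.subgroupOf (U ⊔ R)).index := by
    rw [hA.symm.index_eq_card, hcardN, hcardA]
    exact (coprime_pow_of_coprime hU m).symm
  have hsolv : Group.IsSolvable (R.subgroupOf (U ⊔ R)) := by
    have hp : IsPGroup p (R.subgroupOf (U ⊔ R)) := hR.comap_subtype
    have := hp.isNilpotent
    infer_instance
  obtain ⟨g, hg⟩ := Cfsg.Agent.S0001.result (R.subgroupOf (U ⊔ R)) hHall (Or.inl hsolv) _ _ hA hB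
  rw [Cfsg.Agent.S0001.conj_smul_eq_map] at hg
  have := Cfsg.Agent.S0001.conj_of_subgroupOf (U ⊔ R) U ((U ⊔ R) ⊓ H) hUM hKM g hg
  exact ⟨(g : G), by rw [this]; exact inf_le_right⟩

/-- Existence and (strong) dominance of `p`-complements, by induction on the order. -/
theorem main_aux (p : ℕ) [Fact p.Prime] (n : ℕ) :
    ∀ (G : Type u) [Group G] [Finite G], Nat.card G = n → IsPSolvable p G →
      (∃ H : Subgroup G, IsPCompl p H) ∧
      (∀ H U : Subgroup G, IsPCompl p H → (Nat.card U).Coprime p →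
        ∃ g : G, U.map (MulAut.conj g).toMonoidHom ≤ H) := by
  induction n using Nat.strong_induction_on with
  | _ n ih =>
  intro G _ _ hcard hsolv
  have hNn : (pPrimeCore p G).Normal := Cfsg.pPrimeCore_normal p G
  have hRn : (pCore p G).Normal := Cfsg.pCore_normal p G
  by_cases hN : pPrimeCore p G = ⊥
  · by_cases hR : pCore p G = ⊥
    · -- `G` is trivial
      have hHH := centralizer_pCore_le p hsolv hN
      rw [hR] at hHH
      have hone : ∀ g : G, g = 1 := by
        intro g
        have hg : g ∈ Subgroup.centralizer (((⊥ : Subgroup G)) : Set G) := by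
          rw [Subgroup.mem_centralizer_iff]
          intro r hr
          have : r = 1 := hr
          rw [this, mul_one, one_mul]
        exact hHH hg
      have hsub : Subsingleton G := ⟨fun a b => by rw [hone a, hone b]⟩
      constructor
      · refine ⟨⊤, ?_, 0, ?_⟩
        · rw [Nat.card_unique]; exact Nat.coprime_one_left p
        · rw [Subgroup.index_top, pow_zero]
      · intro H U _ _
        refine ⟨1, ?_⟩
        intro x _
        rw [hone x]; exact one_mem _
    · -- pass to `G ⧸ O_p(G)`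
      have hlt := Cfsg.Agent.S4601.card_quotient_lt (pCore p G) hR
      rw [hcard] at hlt
      have hIH := ih _ hlt (G ⧸ pCore p G) rfl (isPSolvable_quotient p _ hsolv)
      have hRp : IsPGroup p (pCore p G) := pCore_isPGroup p
      constructor
      · obtain ⟨Hb, hHb⟩ := hIH.1
        exact exists_isPCompl_of_quotient (pCore p G) hRp hHb
      · intro H U hH hU
        have hUb : (Nat.card (U.map (QuotientGroup.mk' (pCore p G)))).Coprime p :=
          Nat.Coprime.coprime_dvd_left (Subgroup.card_map_dvd U _) hU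
        obtain ⟨gb, hgb⟩ := hIH.2 _ _ (isPCompl_map (pCore p G) hH) hUb
        obtain ⟨g, rfl⟩ := QuotientGroup.mk'_surjective (pCore p G) gb
        have h1 := conj_le_sup_of_map (pCore p G) H U g hgb
        have hU' : (Nat.card (U.map (MulAut.conj g).toMonoidHom)).Coprime p := by
          rw [Cfsg.Agent.S0001.card_map_conj]; exact hU
        obtain ⟨g', hg'⟩ := exists_conj_le_of_le_sup (pCore p G) hRp H _ hH.1 hU' h1
        rw [Cfsg.Agent.S0001.map_conj_mul] at hg'
        exact ⟨g' * g, hg'⟩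
  · -- pass to `G ⧸ O_{p'}(G)`
    have hlt := Cfsg.Agent.S4601.card_quotient_lt (pPrimeCore p G) hN
    rw [hcard] at hlt
    have hIH := ih _ hlt (G ⧸ pPrimeCore p G) rfl (isPSolvable_quotient p _ hsolv)
    have hNcop : (Nat.card (pPrimeCore p G)).Coprime p := pPrimeCore_card_coprime p
    constructor
    · obtain ⟨Hb, hHb⟩ := hIH.1
      exact ⟨_, isPCompl_comap (pPrimeCore p G) hNcop hHb⟩
    · intro H U hH hU
      have hUb : (Nat.card (U.map (QuotientGroup.mk' (pPrimeCore p G)))).Coprime p :=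
        Nat.Coprime.coprime_dvd_left (Subgroup.card_map_dvd U _) hU
      obtain ⟨gb, hgb⟩ := hIH.2 _ _ (isPCompl_map (pPrimeCore p G) hH) hUb
      obtain ⟨g, rfl⟩ := QuotientGroup.mk'_surjective (pPrimeCore p G) gb
      have h1 := conj_le_sup_of_map (pPrimeCore p G) H U g hgb
      rw [sup_eq_left.mpr (normal_le_of_isPCompl hH hNcop)] at h1
      exact ⟨g, h1⟩

/-- A finite p-soluble group has a p-complement, all its p-complements are conjugate, and every subgroup of order prime to p lies in one of them. Here a p-complement is a subgroup of order prime to p whose index is a power of p. -/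
theorem result {G : Type*} [Group G] [Finite G] {p : ℕ} [Fact p.Prime] (hG : Cfsg.IsPSolvable p G) : (∃ H : Subgroup G, (Nat.card H).Coprime p ∧ ∃ n : ℕ, H.index = p ^ n) ∧ (∀ H₁ H₂ : Subgroup G, (Nat.card H₁).Coprime p → (∃ n : ℕ, H₁.index = p ^ n) → (Nat.card H₂).Coprime p → (∃ n : ℕ, H₂.index = p ^ n) → ∃ g : G, H₂ = H₁.map (MulAut.conj g).toMonoidHom) ∧ (∀ U : Subgroup G, (Nat.card U).Coprime p → ∃ H : Subgroup G, (Nat.card H).Coprime p ∧ (∃ n : ℕ, H.index = p ^ n) ∧ ∃ g : G, U.map (MulAut.conj g).toMonoidHom ≤ H) := by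
  obtain ⟨⟨H, hH⟩, hD⟩ := main_aux p _ G rfl hG
  refine ⟨⟨H, hH⟩, ?_, ?_⟩
  · intro H₁ H₂ c1 i1 c2 i2
    obtain ⟨g, hg⟩ := hD H₂ H₁ ⟨c2, i2⟩ c1
    refine ⟨g, ?_⟩
    symm
    apply Subgroup.eq_of_le_of_card_ge hg
    rw [Cfsg.Agent.S0001.card_map_conj]
    exact (card_eq_of_isPCompl (p := p) ⟨c1, i1⟩ ⟨c2, i2⟩).ge
  · intro U hU
    obtain ⟨g, hg⟩ := hD H U hH hU
    exact ⟨H, hH.1, hH.2, g, hg⟩

end Cfsg.Agent.S3744
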