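import Cfsg.Statements.S3746
import Cfsg.Agent.Lib.Helper21_Components

set_option autoImplicit false
set_option linter.style.haveILetI false
open Cfsg

namespace Cfsg.Agent.S3746

open Subgroup
open scoped commutatorElement

section lift
variable {X Q : Type*} [Group X] [Group Q]

/-- the commutator map `e ↦ [x, e]` as a homomorphism into the centre, when all values are central -/
def commHom (x : X) (h : ∀ e : X, x * e * x⁻¹ * e⁻¹ ∈ center X) : X →* ↥(center X) where
  toFun e := ⟨x * e * x⁻¹ * e⁻¹, h e⟩
  map_one' := by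
    apply Subtype.ext
    simp
  map_mul' e e' := by
    apply Subtype.ext
    have hc := (Subgroup.mem_center_iff.mp (h e')) e
    -- x e e' x⁻¹ e'⁻¹ e⁻¹ = (x e x⁻¹ e⁻¹) (x e' x⁻¹ e'⁻¹)
    show x * (e * e') * x⁻¹ * (e * e')⁻¹ = (x * e * x⁻¹ * e⁻¹) * (x * e' * x⁻¹ * e'⁻¹)
    calc x * (e * e') * x⁻¹ * (e * e')⁻¹
        = x * e * x⁻¹ * ((x * e' * x⁻¹ * e'⁻¹) * e⁻¹) := by group
      _ = x * e * x⁻¹ * (e⁻¹ * (x * e' * x⁻¹ * e'⁻¹)) := by
          congr 1
          have h2 := (Subgroup.mem_center_iff.mp (h e')) e⁻¹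
          exact h2.symm
      _ = (x * e * x⁻¹ * e⁻¹) * (x * e' * x⁻¹ * e'⁻¹) := by group

theorem ker_comp_eq_center (ρ : X →* Q) (hρ : Function.Surjective ρ) (hker : ρ.ker ≤ center X)
    (hperf : commutator Q = ⊤) :
    ((QuotientGroup.mk' (center Q)).comp ρ).ker = center X := by
  ext x
  rw [MonoidHom.mem_ker, MonoidHom.comp_apply, QuotientGroup.mk'_apply, QuotientGroup.eq_one_iff]
  constructor
  · intro hx
    -- all commutators [x, e] lie in the kernel of ρ, hence are central
    have hcent : ∀ e : X, x * e * x⁻¹ * e⁻¹ ∈ center X := by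
      intro e
      apply hker
      rw [MonoidHom.mem_ker]
      have := (Subgroup.mem_center_iff.mp hx) (ρ e)
      simp only [map_mul, map_inv]
      rw [← this]
      group
    let c := commHom x hcent
    have hcomm : commutator X ≤ c.ker := by
      rw [commutator_eq_closure, Subgroup.closure_le]
      rintro y ⟨p, q, rfl⟩
      rw [SetLike.mem_coe, MonoidHom.mem_ker, map_commutatorElement, commutatorElement_def]
      apply Subtype.ext
      have hpq := (Subgroup.mem_center_iff.mp (c q).2) (c p : X)
      show (c p : X) * (c q : X) * (c p : X)⁻¹ * (c q : X)⁻¹ = 1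
      rw [hpq]
      group
    -- X = X' * ker ρ
    rw [Subgroup.mem_center_iff]
    intro e
    have hmap : (commutator X).map ρ = ⊤ := by
      rw [_root_.commutator_def, Subgroup.map_commutator, ← MonoidHom.range_eq_map,
        MonoidHom.range_eq_top.mpr hρ, ← _root_.commutator_def, hperf]
    have he : ρ e ∈ (commutator X).map ρ := by rw [hmap]; exact Subgroup.mem_top _
    obtain ⟨d, hd, hde⟩ := he
    have hz : d⁻¹ * e ∈ ρ.ker := by
      rw [MonoidHom.mem_ker, map_mul, map_inv, hde, inv_mul_cancel]
    have hzc : d⁻¹ * e ∈ center X := hker hz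
    have hcd : c d = 1 := hcomm hd
    have hcd' : x * d * x⁻¹ * d⁻¹ = 1 := congrArg Subtype.val hcd
    have hxd : x * d = d * x := by
      have : x * d * x⁻¹ = d := by
        have := mul_inv_eq_one.mp hcd'
        exact this
      calc x * d = x * d * x⁻¹ * x := by group
        _ = d * x := by rw [this]
    have hxz : (d⁻¹ * e) * x = x * (d⁻¹ * e) := ((Subgroup.mem_center_iff.mp hzc) x).symm
    calc e * x = d * ((d⁻¹ * e) * x) := by group
      _ = d * (x * (d⁻¹ * e)) := by rw [hxz]
      _ = (d * x) * (d⁻¹ * e) := by group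
      _ = (x * d) * (d⁻¹ * e) := by rw [hxd]
      _ = x * e := by group
  · intro hx
    rw [Subgroup.mem_center_iff]
    intro q
    obtain ⟨e, rfl⟩ := hρ q
    rw [← map_mul, ← map_mul, (Subgroup.mem_center_iff.mp hx) e]

theorem simple_quotient_center (ρ : X →* Q) (hρ : Function.Surjective ρ) (hker : ρ.ker ≤ center X)
    (hQ : IsQuasisimple Q) :
    IsSimpleGroup (X ⧸ center X) ∧ ¬ IsMulCommutative (X ⧸ center X) := by
  have hperf : commutator Q = ⊤ := hQ.1.commutator_eq_top
  set f := (QuotientGroup.mk' (center Q)).comp ρ with hf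
  have hfs : Function.Surjective f := (QuotientGroup.mk'_surjective _).comp hρ
  have hk : f.ker = center X := ker_comp_eq_center ρ hρ hker hperf
  have e1 : X ⧸ f.ker ≃* Q ⧸ center Q := QuotientGroup.quotientKerEquivOfSurjective f hfs
  have e2 : X ⧸ center X ≃* X ⧸ f.ker := QuotientGroup.quotientMulEquivOfEq hk.symm
  have e : X ⧸ center X ≃* Q ⧸ center Q := e2.trans e1
  have hs : IsSimpleGroup (Q ⧸ center Q) := hQ.2
  refine ⟨e.isSimpleGroup, ?_⟩
  intro hcomm
  -- then Q / Z(Q) is commutative, so Q' ≤ Z(Q), so Q = Z(Q) and the quotient is trivial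
  have hcommQ : ∀ a b : Q ⧸ center Q, a * b = b * a := by
    intro a b
    have := mul_comm' (e.symm a) (e.symm b)
    have h2 := congrArg e this
    simpa using h2
  letI : CommGroup (Q ⧸ center Q) := { (inferInstance : Group (Q ⧸ center Q)) with mul_comm := hcommQ }
  have h1 : commutator Q ≤ (QuotientGroup.mk' (center Q)).ker :=
    Abelianization.commutator_subset_ker _
  rw [QuotientGroup.ker_mk', hperf, top_le_iff] at h1
  have : Subsingleton (Q ⧸ center Q) := by
    rw [h1]
    exact QuotientGroup.subsingleton_quotient_top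
  have hnt : Nontrivial (Q ⧸ center Q) := hs.toNontrivial
  exact not_subsingleton _ this

end lift

/-- Let Z ≤ Z(G) be a central subgroup of a finite group G and E a subgroup of G containing Z whose image E/Z is a component of G/Z (subnormal and quasisimple). Then the derived subgroup [E, E] is a component of G. -/
theorem result {G : Type*} [Group G] [Finite G] (Z : Subgroup G) (hZ : Z ≤ Subgroup.center G) [Z.Normal] (E : Subgroup G) (hZE : Z ≤ E) (hE : Cfsg.IsComponent (E.map (QuotientGroup.mk' Z))) : Cfsg.IsComponent ⁅E, E⁆ := by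
  obtain ⟨hsub, hq⟩ := hE
  -- E is subnormal
  have hEsub : E.IsSubnormal := by
    have := hsub.comap (QuotientGroup.mk' Z)
    rwa [Subgroup.comap_map_eq, QuotientGroup.ker_mk', sup_of_le_left hZE] at this
  have hle : ⁅E, E⁆ ≤ E := Subgroup.commutator_le_self E
  have hnorm : (⁅E, E⁆.subgroupOf E).Normal := by
    rw [normal_subgroupOf_iff_le_normalizer hle]
    intro e he
    rw [mem_normalizer_iff_map_conj_eq]
    have hEe : E.map (MulAut.conj e).toMonoidHom = E := by
      have h1 : e ∈ normalizer (E : Set G) := le_normalizer he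
      exact mem_normalizer_iff_map_conj_eq.mp h1
    have := Subgroup.map_commutator E E (MulAut.conj e).toMonoidHom
    rw [hEe] at this
    exact this
  refine ⟨IsSubnormal.step _ _ hle hEsub hnorm, ?_⟩
  -- quasisimplicity
  let ρ : ↥E →* ↥(E.map (QuotientGroup.mk' Z)) := (QuotientGroup.mk' Z).subgroupMap E
  have hρ : Function.Surjective ρ := (QuotientGroup.mk' Z).subgroupMap_surjective E
  have hker : ρ.ker ≤ center ↥E := by
    intro x hx
    rw [MonoidHom.mem_ker] at hx
    have h1 : (QuotientGroup.mk' Z) (x : G) = 1 := by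
      have := congrArg Subtype.val hx
      simpa [ρ] using this
    have h2 : (x : G) ∈ Z := by
      rw [← QuotientGroup.ker_mk' Z, MonoidHom.mem_ker]; exact h1
    rw [Subgroup.mem_center_iff]
    intro e
    apply Subtype.ext
    exact (Subgroup.mem_center_iff.mp (hZ h2)) (e : G)
  obtain ⟨hs, hna⟩ := simple_quotient_center ρ hρ hker hq
  have hqc : IsQuasisimple ↥(commutator ↥E) :=
    Cfsg.Agent.Lib.Helper21_Components.isQuasisimple_commutator hs hna
  have hmap : (commutator ↥E).map E.subtype = ⁅E, E⁆ := by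
    rw [_root_.commutator_def, Subgroup.map_commutator, ← MonoidHom.range_eq_map, Subgroup.range_subtype]
  have e : ↥(commutator ↥E) ≃* ↥⁅E, E⁆ :=
    ((commutator ↥E).equivMapOfInjective E.subtype E.subtype_injective).trans
      (MulEquiv.subgroupCongr hmap)
  exact Cfsg.Agent.Lib.Helper29_Local.isQuasisimple_of_mulEquiv e hqc

end Cfsg.Agent.S3746
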