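import Cfsg.Statements.S3748
import Cfsg.Agent.S3743
import Cfsg.Agent.Lib.Helper21_Components

set_option autoImplicit false
set_option linter.style.haveILetI false
open Cfsg

namespace Cfsg.Agent.S3748

open Subgroup
open scoped commutatorElement
set_option linter.unusedSectionVars false

section basics
variable {G : Type*} [Group G]

theorem le_normalizer_iff (K U : Subgroup G) :
    K ≤ Subgroup.normalizer (U : Set G) ↔ ∀ k ∈ K, ∀ u ∈ U, k * u * k⁻¹ ∈ U := by
  constructor
  · intro h k hk u hu
    exact (Subgroup.mem_normalizer_iff.mp (h hk) u).mp hu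
  · intro h k hk
    rw [Subgroup.mem_normalizer_iff]
    intro g
    constructor
    · exact h k hk g
    · intro hg
      have := h k⁻¹ (inv_mem hk) _ hg
      simpa [mul_assoc] using this

/-- a simple noncommutative group is quasisimple -/
theorem isQuasisimple_of_simple (X : Type*) [Group X] [hs : IsSimpleGroup X]
    (hna : ¬ IsMulCommutative X) : IsQuasisimple X := by
  have hcomm : commutator X = ⊤ := by
    rcases (inferInstance : (commutator X).Normal).eq_bot_or_eq_top with h | h
    · exfalso
      apply hna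
      constructor
      constructor
      intro a b
      have : ⁅a, b⁆ ∈ commutator X := by
        rw [_root_.commutator_def]
        exact Subgroup.commutator_mem_commutator (Subgroup.mem_top a) (Subgroup.mem_top b)
      rw [h, Subgroup.mem_bot, commutatorElement_def] at this
      calc a * b = a * b * a⁻¹ * b⁻¹ * (b * a) := by group
        _ = b * a := by rw [this, one_mul]
    · exact h
  have hcenter : center X = ⊥ := by
    rcases (inferInstance : (center X).Normal).eq_bot_or_eq_top with h | h
    · exact h
    · exfalso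
      apply hna
      constructor
      constructor
      intro a b
      have : a ∈ center X := by rw [h]; exact Subgroup.mem_top a
      exact ((Subgroup.mem_center_iff.mp this) b).symm
  refine ⟨⟨hcomm⟩, ?_⟩
  have e : X ⧸ center X ≃* X :=
    (QuotientGroup.quotientMulEquivOfEq hcenter).trans QuotientGroup.quotientBot
  exact e.isSimpleGroup

end basics

section main
universe u
variable {G : Type u} [Group G] [Finite G] (M : Subgroup G) (hM : M ≠ ⊤)
  (hprim : ∀ N : Subgroup G, N ≤ M → M ≤ Subgroup.normalizer (N : Set G) → N ≠ ⊥ →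
    Subgroup.normalizer (N : Set G) = M)
include hM hprim

/-- a nontrivial normal subgroup of `G` is not contained in `M` -/
theorem normal_not_le (N : Subgroup G) [hN : N.Normal] (hne : N ≠ ⊥) : ¬ N ≤ M := by
  intro hle
  have h1 : Subgroup.normalizer (N : Set G) = M :=
    hprim N hle (by rw [Subgroup.normalizer_eq_top]; exact le_top) hne
  rw [Subgroup.normalizer_eq_top] at h1
  exact hM h1.symm

theorem inf_fitting_eq_bot : M ⊓ Cfsg.fittingSubgroup G = ⊥ := by
  by_contra hne
  set F := Cfsg.fittingSubgroup G with hF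
  have hFn : F.Normal := Cfsg.Agent.Lib.Helper1_Cores.fittingSubgroup_normal
  set D := M ⊓ F with hD
  have hDM : D ≤ M := inf_le_left
  have hDF : D ≤ F := inf_le_right
  have hMD : M ≤ Subgroup.normalizer (D : Set G) := by
    rw [le_normalizer_iff]
    intro m hm d hd
    exact ⟨M.mul_mem (M.mul_mem hm hd.1) (M.inv_mem hm), hFn.conj_mem d hd.2 m⟩
  have hND : Subgroup.normalizer (D : Set G) = M := hprim D hDM hMD hne
  haveI : Group.IsNilpotent ↥F := Cfsg.Agent.Lib.Helper1_Cores.fittingSubgroup_isNilpotent
  have hnc : NormalizerCondition ↥F := Group.normalizerCondition_of_isNilpotent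
  have htop : D.subgroupOf F = ⊤ := by
    by_contra hlt
    have hlt' : D.subgroupOf F < ⊤ := lt_top_iff_ne_top.mpr hlt
    have h2 := hnc _ hlt'
    obtain ⟨x, hxN, hxD⟩ := SetLike.exists_of_lt h2
    apply hxD
    rw [Subgroup.mem_subgroupOf]
    refine Subgroup.mem_inf.mpr ⟨?_, x.2⟩
    rw [← hND, Subgroup.mem_normalizer_iff]
    intro h
    rw [Subgroup.mem_normalizer_iff] at hxN
    constructor
    · intro hh
      have := (hxN ⟨h, hDF hh⟩).mp (by rw [Subgroup.mem_subgroupOf]; exact hh)
      rw [Subgroup.mem_subgroupOf] at this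
      exact this
    · intro hh
      have hhF : h ∈ F := by
        have h3 : (x : G)⁻¹ * ((x : G) * h * (x : G)⁻¹) * (x : G) ∈ F :=
          F.mul_mem (F.mul_mem (F.inv_mem x.2) (hDF hh)) x.2
        have h4 : (x : G)⁻¹ * ((x : G) * h * (x : G)⁻¹) * (x : G) = h := by group
        rwa [h4] at h3
      have := (hxN ⟨h, hhF⟩).mpr (by rw [Subgroup.mem_subgroupOf]; exact hh)
      rw [Subgroup.mem_subgroupOf] at this
      exact this
  have hFD : F ≤ D := Subgroup.subgroupOf_eq_top.mp htop
  have hFne : F ≠ ⊥ := by
    intro h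
    apply hne
    rw [eq_bot_iff, ← h]
    exact hDF
  exact normal_not_le M hM hprim F hFne (hFD.trans hDM)

/-- every component of `G` lies in `M` as soon as one does -/
theorem no_component_le (K : Subgroup G) (hK : IsComponent K) : ¬ K ≤ M := by
  intro hKM
  set S : Set (Subgroup G) := {J | IsComponent J ∧ J ≤ M} with hS
  set N : Subgroup G := sSup S with hN
  have hNM : N ≤ M := sSup_le (fun J hJ => hJ.2)
  have hKN : K ≤ N := le_sSup ⟨hK, hKM⟩
  have hKne : K ≠ ⊥ := by
    intro h
    have := Cfsg.Agent.Lib.Helper29_Local.IsQuasisimple.nontrivial hK.2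
    rw [h] at this
    exact not_subsingleton _ (inferInstance : Subsingleton ↥(⊥ : Subgroup G))
  have hNne : N ≠ ⊥ := by
    intro h
    apply hKne
    rw [eq_bot_iff, ← h]
    exact hKN
  have hMN : M ≤ Subgroup.normalizer (N : Set G) := by
    -- conjugation by `m ∈ M` permutes `S`
    have key : ∀ m ∈ M, N.map (MulAut.conj m).toMonoidHom ≤ N := by
      intro m hm
      rw [hN, (Subgroup.gc_map_comap (MulAut.conj m).toMonoidHom).l_sSup]
      apply iSup₂_le
      intro J hJ
      apply le_sSup
      refine ⟨Cfsg.Agent.Lib.Helper29_Local.isComponent_map_mulEquiv (MulAut.conj m) hJ.1, ?_⟩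
      rintro _ ⟨j, hj, rfl⟩
      show m * j * m⁻¹ ∈ M
      exact M.mul_mem (M.mul_mem hm (hJ.2 hj)) (M.inv_mem hm)
    rw [le_normalizer_iff]
    intro m hm n hn
    exact key m hm ⟨n, hn, rfl⟩
  have hNN : Subgroup.normalizer (N : Set G) = M := hprim N hNM hMN hNne
  -- every component lies in M
  have hall : ∀ J : Subgroup G, IsComponent J → J ≤ M := by
    intro J hJ
    by_cases hex : ∃ J' ∈ S, J ≤ J'
    · obtain ⟨J', hJ', hle⟩ := hex
      exact hle.trans hJ'.2
    · push Not at hex
      have hcent : N ≤ Subgroup.centralizer (J : Set G) := by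
        apply sSup_le
        intro J' hJ'
        rcases Cfsg.Agent.Lib.Helper21_Components.IsComponent.le_or_commutator_eq_bot hJ hJ'.1.1
          with h | h
        · exact absurd h (hex J' hJ')
        · rw [Subgroup.commutator_comm] at h
          exact Subgroup.commutator_eq_bot_iff_le_centralizer.mp h
      have h2 : J ≤ Subgroup.centralizer (N : Set G) := Subgroup.le_centralizer_iff.mp hcent
      rw [← hNN]
      exact h2.trans (Subgroup.centralizer_le_normalizer _)
  -- the layer is normal, nontrivial and inside M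
  have hlayer : layer G ≤ M := sSup_le (fun J hJ => hall J hJ)
  have hlne : layer G ≠ ⊥ := by
    intro h
    apply hKne
    rw [eq_bot_iff, ← h]
    exact le_sSup hK
  exact normal_not_le M hM hprim (layer G) hlne hlayer

theorem no_subnormal (L : Subgroup G) (hL : L.IsSubnormal) (hLM : L ≤ M) : L = ⊥ := by
  by_contra hne
  obtain ⟨L0, hL0L, hmin⟩ := Finite.exists_le_minimal
    (p := fun L : Subgroup G => L.IsSubnormal ∧ L ≠ ⊥) ⟨hL, hne⟩
  obtain ⟨⟨hsub, hne0⟩, hmin'⟩ := hmin
  have hL0M : L0 ≤ M := hL0L.trans hLM
  -- L0 is simple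
  haveI hnt : Nontrivial ↥L0 := (Subgroup.nontrivial_iff_ne_bot L0).mpr hne0
  haveI hsimple : IsSimpleGroup ↥L0 := by
    refine ⟨?_⟩
    intro H hH
    by_cases hHb : H = ⊥
    · exact Or.inl hHb
    · right
      have h1 : (H.map L0.subtype).IsSubnormal := hH.isSubnormal.trans' hsub
      have h2 : H.map L0.subtype ≠ ⊥ := by
        intro h
        apply hHb
        rwa [Subgroup.map_eq_bot_iff_of_injective _ L0.subtype_injective] at h
      have h3 : L0 ≤ H.map L0.subtype := hmin' ⟨h1, h2⟩ (Subgroup.map_subtype_le H)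
      rw [eq_top_iff]
      intro x _
      obtain ⟨y, hy, hyx⟩ := h3 x.2
      have : y = x := Subtype.ext hyx
      rwa [← this]
  by_cases hab : IsMulCommutative ↥L0
  · have hnil : Group.IsNilpotent ↥L0 :=
      Cfsg.Agent.Lib.Helper29_Local.isNilpotent_of_isMulCommutative
    have h1 : L0 ≤ Cfsg.fittingSubgroup G := (Cfsg.Agent.S3743.result L0 hsub).1 hnil
    have h2 : L0 ≤ M ⊓ Cfsg.fittingSubgroup G := le_inf hL0M h1
    rw [inf_fitting_eq_bot M hM hprim] at h2
    exact hne0 (le_bot_iff.mp h2)
  · have hcomp : IsComponent L0 := ⟨hsub, isQuasisimple_of_simple ↥L0 hab⟩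
    exact no_component_le M hM hprim L0 hcomp hL0M

end main

/-- Call a proper subgroup M of G primitive when M = N_G(N) for every non-trivial normal subgroup N of M. If M is a primitive subgroup of the finite group G, then no non-trivial subnormal subgroup of G is contained in M; in particular M ∩ F(G) = 1. -/
theorem result {G : Type*} [Group G] [Finite G] (M : Subgroup G) (hM : M ≠ ⊤) (hprim : ∀ N : Subgroup G, N ≤ M → M ≤ Subgroup.normalizer (N : Set G) → N ≠ ⊥ → Subgroup.normalizer (N : Set G) = M) : (∀ L : Subgroup G, L.IsSubnormal → L ≤ M → L = ⊥) ∧ M ⊓ Cfsg.fittingSubgroup G = ⊥ :=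
  ⟨fun L hL hLM => no_subnormal M hM hprim L hL hLM, inf_fitting_eq_bot M hM hprim⟩

end Cfsg.Agent.S3748
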