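import Cfsg.Statements.S3747
import Cfsg.Agent.S3748

set_option autoImplicit false
set_option linter.style.haveILetI false
set_option linter.unusedSectionVars false
open Cfsg

namespace Cfsg.Agent.S3747

open Subgroup
open Classical

section zprod
variable {G : Type*} [Group G]

/-- a join of pairwise commuting subgroups with trivial centres has trivial centre -/
theorem zprod (s : Finset (Subgroup G)) :
    (∀ A ∈ s, A ⊓ centralizer (A : Set G) = ⊥) →
    (∀ A ∈ s, ∀ B ∈ s, A ≠ B → B ≤ centralizer (A : Set G)) →
    (s.sup id) ⊓ centralizer ((s.sup id : Subgroup G) : Set G) = ⊥ := by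
  induction s using Finset.induction_on with
  | empty =>
    intro _ _
    simp
  | insert A s' hA ih =>
    intro h1 h2
    rw [Finset.sup_insert, id]
    set T : Subgroup G := s'.sup id with hT
    have hTA : T ≤ centralizer (A : Set G) := by
      apply Finset.sup_le
      intro B hB
      apply h2 A (Finset.mem_insert_self A s') B (Finset.mem_insert_of_mem hB)
      intro h
      exact hA (h ▸ hB)
    have hAT : A ≤ centralizer (T : Set G) := Subgroup.le_centralizer_iff.mp hTA
    have ihT : T ⊓ centralizer (T : Set G) = ⊥ :=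
      ih (fun B hB => h1 B (Finset.mem_insert_of_mem hB))
        (fun B hB B' hB' hne => h2 B (Finset.mem_insert_of_mem hB) B' (Finset.mem_insert_of_mem hB') hne)
    rw [eq_bot_iff]
    intro z hz
    obtain ⟨hz1, hz2⟩ := Subgroup.mem_inf.mp hz
    have hcoe := Subgroup.coe_mul_of_left_le_normalizer_right A T
      (hAT.trans (Subgroup.centralizer_le_normalizer _))
    have hz1' : z ∈ ((A ⊔ T : Subgroup G) : Set G) := hz1
    rw [hcoe] at hz1'
    obtain ⟨a, ha, t, ht, rfl⟩ := Set.mem_mul.mp hz1'
    rw [Subgroup.mem_centralizer_iff] at hz2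
    have ha' : a ∈ A ⊓ centralizer (A : Set G) := by
      refine Subgroup.mem_inf.mpr ⟨ha, ?_⟩
      rw [Subgroup.mem_centralizer_iff]
      intro y hy
      have h3 := hz2 y (Subgroup.mem_sup_left hy)
      have h4 : y * t = t * y := by
        have := hTA ht
        rw [Subgroup.mem_centralizer_iff] at this
        exact this y hy
      -- y a t = a t y = a y t
      have h5 : y * a * t = a * y * t := by
        calc y * a * t = y * (a * t) := by group
          _ = a * t * y := h3
          _ = a * (t * y) := by group
          _ = a * (y * t) := by rw [h4]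
          _ = a * y * t := by group
      exact mul_right_cancel h5
    rw [h1 A (Finset.mem_insert_self A s'), Subgroup.mem_bot] at ha'
    subst ha'
    rw [one_mul]
    rw [one_mul] at hz2
    have ht' : t ∈ T ⊓ centralizer (T : Set G) := by
      refine Subgroup.mem_inf.mpr ⟨ht, ?_⟩
      rw [Subgroup.mem_centralizer_iff]
      intro y hy
      exact hz2 y (Subgroup.mem_sup_right hy)
    rw [ihT] at ht'
    exact ht'

end zprod

section main
universe u
variable {G : Type u} [Group G] [Finite G]

/-- conjugate of a subgroup -/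
abbrev cj (g : G) (K : Subgroup G) : Subgroup G := K.map (MulAut.conj g).toMonoidHom

theorem mem_cj {g x : G} {K : Subgroup G} : x ∈ cj g K ↔ g⁻¹ * x * g ∈ K := by
  constructor
  · rintro ⟨k, hk, rfl⟩
    simpa [mul_assoc] using hk
  · intro h
    exact ⟨g⁻¹ * x * g, h, by simp [mul_assoc]⟩

theorem partA (K : Subgroup G) (hK : IsComponent K) (hZ : center ↥K = ⊥) :
    normalClosure (K : Set G) ≠ ⊥ ∧ ∀ N : Subgroup G, N.Normal → N ≤ normalClosure (K : Set G) →
      N = ⊥ ∨ N = normalClosure (K : Set G) := by
  have hKne : K ≠ ⊥ := by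
    intro h
    have := Cfsg.Agent.Lib.Helper29_Local.IsQuasisimple.nontrivial hK.2
    rw [h] at this
    exact not_subsingleton _ (inferInstance : Subsingleton ↥(⊥ : Subgroup G))
  set C := normalClosure (K : Set G) with hC
  have hKC : K ≤ C := Subgroup.le_normalClosure
  refine ⟨fun h => hKne (le_bot_iff.mp (h ▸ hKC)), ?_⟩
  intro N hN hNC
  haveI := hN
  rcases Cfsg.Agent.Lib.Helper21_Components.IsComponent.le_or_commutator_eq_bot hK hN.isSubnormal
    with h | h
  · right
    exact le_antisymm hNC (Subgroup.normalClosure_le_normal h)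
  · left
    letI : Fintype G := Fintype.ofFinite G
    set s : Finset (Subgroup G) := Finset.univ.image (fun g : G => cj g K) with hs
    have hmem : ∀ A ∈ s, ∃ g : G, A = cj g K := by
      intro A hA
      obtain ⟨g, _, rfl⟩ := Finset.mem_image.mp hA
      exact ⟨g, rfl⟩
    have hK0 : K ⊓ centralizer (K : Set G) = ⊥ := by
      rw [eq_bot_iff]
      intro z hz
      obtain ⟨hz1, hz2⟩ := Subgroup.mem_inf.mp hz
      have : (⟨z, hz1⟩ : ↥K) ∈ center ↥K := by
        rw [Subgroup.mem_center_iff]
        intro y
        apply Subtype.ext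
        rw [Subgroup.mem_centralizer_iff] at hz2
        exact hz2 y y.2
      rw [hZ, Subgroup.mem_bot] at this
      rw [Subgroup.mem_bot]
      exact congrArg Subtype.val this
    have h1 : ∀ A ∈ s, A ⊓ centralizer (A : Set G) = ⊥ := by
      intro A hA
      obtain ⟨g, rfl⟩ := hmem A hA
      rw [eq_bot_iff]
      intro z hz
      obtain ⟨hz1, hz2⟩ := Subgroup.mem_inf.mp hz
      have h3 : g⁻¹ * z * g ∈ K ⊓ centralizer (K : Set G) := by
        refine Subgroup.mem_inf.mpr ⟨mem_cj.mp hz1, ?_⟩
        rw [Subgroup.mem_centralizer_iff] at hz2 ⊢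
        intro k hk
        have h4 := hz2 (g * k * g⁻¹) (mem_cj.mpr (by simpa [mul_assoc] using hk))
        calc k * (g⁻¹ * z * g) = g⁻¹ * ((g * k * g⁻¹) * z) * g := by group
          _ = g⁻¹ * (z * (g * k * g⁻¹)) * g := by rw [h4]
          _ = g⁻¹ * z * g * k := by group
      rw [hK0, Subgroup.mem_bot] at h3
      rw [Subgroup.mem_bot]
      have : z = g * (g⁻¹ * z * g) * g⁻¹ := by group
      rw [this, h3]; group
    have hcomp : ∀ g : G, IsComponent (cj g K) := fun g =>
      Cfsg.Agent.Lib.Helper29_Local.isComponent_map_mulEquiv (MulAut.conj g) hK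
    have hcard : ∀ g : G, Nat.card ↥(cj g K) = Nat.card ↥K := fun g =>
      Subgroup.card_map_of_injective (MulAut.conj g).injective
    have h2 : ∀ A ∈ s, ∀ B ∈ s, A ≠ B → B ≤ centralizer (A : Set G) := by
      intro A hA B hB hne
      obtain ⟨g, rfl⟩ := hmem A hA
      obtain ⟨g', rfl⟩ := hmem B hB
      rcases Cfsg.Agent.Lib.Helper21_Components.IsComponent.le_or_commutator_eq_bot (hcomp g)
        (hcomp g').1 with h3 | h3
      · exfalso
        apply hne
        apply Subgroup.eq_of_le_of_card_ge h3
        rw [hcard, hcard]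
      · exact Subgroup.le_centralizer_iff.mp (Subgroup.commutator_eq_bot_iff_le_centralizer.mp h3)
    have hz := zprod s h1 h2
    -- the join of the conjugates is the normal closure
    have hsupC : s.sup id = C := by
      apply le_antisymm
      · apply Finset.sup_le
        intro A hA
        obtain ⟨g, rfl⟩ := hmem A hA
        rintro _ ⟨k, hk, rfl⟩
        have hCn : C.Normal := Subgroup.normalClosure_normal
        exact hCn.conj_mem k (hKC hk) g
      · haveI : (s.sup id : Subgroup G).Normal := by
          constructor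
          intro n hn g
          -- conjugation by g maps the join into itself
          have hle : (s.sup id : Subgroup G) ≤ (s.sup id : Subgroup G).comap (MulAut.conj g).toMonoidHom := by
            apply Finset.sup_le
            intro A hA
            obtain ⟨g', rfl⟩ := hmem A hA
            rw [← Subgroup.map_le_iff_le_comap]
            show (cj g' K).map (MulAut.conj g).toMonoidHom ≤ s.sup id
            have : (cj g' K).map (MulAut.conj g).toMonoidHom = cj (g * g') K := by
              rw [Subgroup.map_map]
              congr 1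
              ext x
              simp [mul_assoc]
            rw [this]
            exact Finset.le_sup (f := id) (Finset.mem_image.mpr ⟨g * g', Finset.mem_univ _, rfl⟩)
          exact hle hn
        apply Subgroup.normalClosure_le_normal
        have hK1 : K = cj 1 K := by
          ext x
          rw [mem_cj]
          simp
        have : K ≤ s.sup id := by
          have h5 : cj 1 K ≤ s.sup id :=
            Finset.le_sup (f := id) (Finset.mem_image.mpr ⟨1, Finset.mem_univ _, rfl⟩)
          rwa [← hK1] at h5
        exact this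
    rw [hsupC] at hz
    -- N centralizes C
    have hNcent : N ≤ centralizer (C : Set G) := by
      rw [Subgroup.le_centralizer_iff, ← hsupC]
      apply Finset.sup_le
      intro A hA
      obtain ⟨g, rfl⟩ := hmem A hA
      have hKN : K ≤ centralizer (N : Set G) := Subgroup.commutator_eq_bot_iff_le_centralizer.mp h
      rintro _ ⟨k, hk, rfl⟩
      rw [Subgroup.mem_centralizer_iff]
      intro n hn
      have h6 := hKN hk
      rw [Subgroup.mem_centralizer_iff] at h6
      have h7 := h6 (g⁻¹ * n * g) (by
        have := hN.conj_mem n hn g⁻¹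
        simpa using this)
      show n * (g * k * g⁻¹) = (g * k * g⁻¹) * n
      calc n * (g * k * g⁻¹) = g * ((g⁻¹ * n * g) * k) * g⁻¹ := by group
        _ = g * (k * (g⁻¹ * n * g)) * g⁻¹ := by rw [h7]
        _ = (g * k * g⁻¹) * n := by group
    rw [eq_bot_iff, ← hz]
    exact le_inf hNC hNcent

/-- a minimal nontrivial subnormal subgroup is simple -/
theorem simple_of_minimal_subnormal (L0 : Subgroup G)
    (hmin : Minimal (fun L : Subgroup G => L.IsSubnormal ∧ L ≠ ⊥) L0) : IsSimpleGroup ↥L0 := by
  obtain ⟨⟨hsub, hne0⟩, hmin'⟩ := hmin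
  haveI hnt : Nontrivial ↥L0 := (Subgroup.nontrivial_iff_ne_bot L0).mpr hne0
  refine ⟨?_⟩
  intro H hH
  by_cases hHb : H = ⊥
  · exact Or.inl hHb
  · right
    have h1 : (H.map L0.subtype).IsSubnormal := hH.isSubnormal.trans' hsub
    have h2 : H.map L0.subtype ≠ ⊥ := by
      intro h
      apply hHb
      rwa [Subgroup.map_eq_bot_iff_of_injective _ L0.subtype_injective] at h
    have h3 : L0 ≤ H.map L0.subtype := hmin' ⟨h1, h2⟩ (Subgroup.map_subtype_le H)
    rw [eq_top_iff]
    intro x _
    obtain ⟨y, hy, hyx⟩ := h3 x.2
    have : y = x := Subtype.ext hyx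
    rwa [← this]

theorem partB (hF : Cfsg.fittingSubgroup G = ⊥) :
    sSup {N : Subgroup G | N ≠ ⊥ ∧ N.Normal ∧
      ∀ N' : Subgroup G, N'.Normal → N' ≤ N → N' = ⊥ ∨ N' = N} = Cfsg.layer G := by
  apply le_antisymm
  · apply sSup_le
    rintro N ⟨hNne, hNn, hNmin⟩
    haveI := hNn
    obtain ⟨L0, hL0N, hmin⟩ := Finite.exists_le_minimal
      (p := fun L : Subgroup G => L.IsSubnormal ∧ L ≠ ⊥) ⟨hNn.isSubnormal, hNne⟩
    haveI hsimple : IsSimpleGroup ↥L0 := simple_of_minimal_subnormal L0 hmin
    obtain ⟨⟨hsub, hne0⟩, -⟩ := hmin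
    have hL0layer : L0 ≤ Cfsg.layer G := by
      by_cases hab : IsMulCommutative ↥L0
      · exfalso
        have hnil : Group.IsNilpotent ↥L0 :=
          Cfsg.Agent.Lib.Helper29_Local.isNilpotent_of_isMulCommutative
        have h1 : L0 ≤ Cfsg.fittingSubgroup G := (Cfsg.Agent.S3743.result L0 hsub).1 hnil
        rw [hF] at h1
        exact hne0 (le_bot_iff.mp h1)
      · exact le_sSup ⟨hsub, Cfsg.Agent.S3748.isQuasisimple_of_simple ↥L0 hab⟩
    rcases hNmin (N ⊓ Cfsg.layer G) inferInstance inf_le_left with h | h
    · exfalso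
      apply hne0
      rw [eq_bot_iff, ← h]
      exact le_inf hL0N hL0layer
    · rw [← h]; exact inf_le_right
  · apply sSup_le
    intro K hK
    have hZ : center ↥K = ⊥ := by
      have hsub : ((center ↥K).map K.subtype).IsSubnormal :=
        (inferInstance : (center ↥K).Normal).isSubnormal.trans' hK.1
      have hnil : Group.IsNilpotent ↥((center ↥K).map K.subtype) := by
        haveI : Group.IsNilpotent ↥(center ↥K) :=
          Cfsg.Agent.Lib.Helper29_Local.isNilpotent_of_isMulCommutative
        exact Group.nilpotent_of_mulEquiv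
          ((center ↥K).equivMapOfInjective K.subtype K.subtype_injective)
      have h1 := (Cfsg.Agent.S3743.result _ hsub).1 hnil
      rw [hF, le_bot_iff, Subgroup.map_eq_bot_iff_of_injective _ K.subtype_injective] at h1
      exact h1
    obtain ⟨h1, h2⟩ := partA K hK hZ
    exact Subgroup.le_normalClosure.trans (le_sSup ⟨h1, Subgroup.normalClosure_normal, h2⟩)

end main

/-- Let G be a finite group. (a) If K is a component of G with trivial centre, then the normal closure of K in G is a minimal normal subgroup of G. (b) If the Fitting subgroup of G is trivial, then the layer E(G) is generated by the minimal normal subgroups of G. -/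
theorem result {G : Type*} [Group G] [Finite G] : (∀ K : Subgroup G, Cfsg.IsComponent K → Subgroup.center ↥K = ⊥ → (Subgroup.normalClosure (K : Set G) ≠ ⊥ ∧ ∀ N : Subgroup G, N.Normal → N ≤ Subgroup.normalClosure (K : Set G) → N = ⊥ ∨ N = Subgroup.normalClosure (K : Set G))) ∧ (Cfsg.fittingSubgroup G = ⊥ → sSup {N : Subgroup G | N ≠ ⊥ ∧ N.Normal ∧ ∀ N' : Subgroup G, N'.Normal → N' ≤ N → N' = ⊥ ∨ N' = N} = Cfsg.layer G) :=
  ⟨fun K hK hZ => partA K hK hZ, fun hF => partB hF⟩

end Cfsg.Agent.S3747
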