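import Cfsg.Statements.S3749
import Cfsg.Agent.Lib.Helper1_Cores
import Cfsg.Agent.S3748

set_option autoImplicit false
set_option linter.style.haveILetI false
set_option linter.unusedSectionVars false
open Cfsg

namespace Cfsg.Agent.S3749

open scoped Pointwise
open MulAction

section abs

variable {M N : Type*} [Group M] [Group N] [Finite N] [MulDistribMulAction M N]

/-- compatibility of the two actions on Sylow subgroups -/
theorem smul_conj_smul {q : ℕ} (u : M) (n : N) (Q : Sylow q N) :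
    u • (n • Q) = (u • n) • (u • Q) := by
  apply Sylow.ext
  ext x
  rw [Sylow.pointwise_smul_def, Sylow.coe_subgroup_smul, Sylow.coe_subgroup_smul,
    Sylow.pointwise_smul_def, Subgroup.mem_pointwise_smul_iff_inv_smul_mem,
    Subgroup.mem_pointwise_smul_iff_inv_smul_mem, Subgroup.mem_pointwise_smul_iff_inv_smul_mem,
    Subgroup.mem_pointwise_smul_iff_inv_smul_mem]
  have : (MulAut.conj n)⁻¹ • u⁻¹ • x = u⁻¹ • (MulAut.conj (u • n))⁻¹ • x := by
    simp only [MulAut.smul_def, MulAut.conj_inv_apply, smul_mul', smul_inv', inv_smul_smul]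
  rw [this]

variable (P : Subgroup M) {p : ℕ} [Fact p.Prime] (hP : IsPGroup p P)
  (hC : ∀ n : N, (∀ u ∈ P, u • n = n) → n = 1)

include hP hC in
theorem card_modEq_one : Nat.card N ≡ 1 [MOD p] := by
  have h1 := hP.card_modEq_card_fixedPoints N
  have h2 : fixedPoints ↥P N = {1} := by
    ext n
    rw [mem_fixedPoints, Set.mem_singleton_iff]
    constructor
    · intro h
      exact hC n (fun u hu => h ⟨u, hu⟩)
    · rintro rfl u
      exact smul_one u
  rw [h2] at h1
  simpa using h1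

include hP hC in
theorem not_dvd_card : ¬ p ∣ Nat.card N := by
  intro h
  have h1 := card_modEq_one P hP hC
  have h2 : Nat.card N ≡ 0 [MOD p] := (Nat.modEq_zero_iff_dvd).mpr h
  have h3 : (1 : ℕ) ≡ 0 [MOD p] := h1.symm.trans h2
  have h4 : p ∣ 1 := (Nat.modEq_zero_iff_dvd).mp h3
  exact (Fact.out : p.Prime).one_lt.ne' (Nat.dvd_one.mp h4)

include hP hC in
theorem exists_fixed (q : ℕ) [Fact q.Prime] : ∃ Q : Sylow q N, ∀ u ∈ P, u • Q = Q := by
  have hnd : ¬ p ∣ Nat.card (Sylow q N) := by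
    intro h
    obtain ⟨Q⟩ : Nonempty (Sylow q N) := inferInstance
    exact not_dvd_card P hP hC (h.trans ((Sylow.card_dvd_index Q).trans (Subgroup.index_dvd_card _)))
  obtain ⟨Q, hQ⟩ := hP.nonempty_fixed_point_of_prime_not_dvd_card (Sylow q N) hnd
  exact ⟨Q, fun u hu => hQ ⟨u, hu⟩⟩

include hP hC in
theorem unique_fixed (q : ℕ) [Fact q.Prime] (Q₁ Q₂ : Sylow q N) (h₁ : ∀ u ∈ P, u • Q₁ = Q₁)
    (h₂ : ∀ u ∈ P, u • Q₂ = Q₂) : Q₁ = Q₂ := by
  let X : SubMulAction ↥P N :=
    { carrier := {n | n • Q₁ = Q₂}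
      smul_mem' := by
        intro c n hn
        change (c • n) • Q₁ = Q₂
        have : (c • n) • Q₁ = ((c : M) • n) • ((c : M) • Q₁) := by
          rw [h₁ c c.2]; rfl
        rw [this, ← smul_conj_smul, hn, h₂ c c.2] }
  obtain ⟨n₀, hn₀⟩ := MulAction.exists_smul_eq N Q₁ Q₂
  have hcard : Nat.card ↥X = Nat.card (stabilizer N Q₁) := by
    symm
    refine Nat.card_eq_of_bijective
      (fun k => (⟨n₀ * k, by
        change (n₀ * (k : N)) • Q₁ = Q₂
        rw [mul_smul, k.2, hn₀]⟩ : ↥X)) ⟨?_, ?_⟩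
    · intro k k' h
      have h' := congrArg Subtype.val h
      simp only [mul_right_inj] at h'
      exact Subtype.ext h'
    · rintro ⟨x, hx⟩
      have hx' : x • Q₁ = Q₂ := hx
      refine ⟨⟨n₀⁻¹ * x, ?_⟩, ?_⟩
      · rw [mem_stabilizer_iff, mul_smul, hx', ← hn₀, inv_smul_smul]
      · apply Subtype.ext
        simp
  have hnd : ¬ p ∣ Nat.card ↥X := by
    intro h
    rw [hcard] at h
    exact not_dvd_card P hP hC (h.trans (Subgroup.card_subgroup_dvd_card _))
  obtain ⟨x, hx⟩ := hP.nonempty_fixed_point_of_prime_not_dvd_card ↥X hnd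
  have hx1 : (x : N) = 1 := by
    apply hC
    intro u hu
    have := hx ⟨u, hu⟩
    exact congrArg Subtype.val this
  have hx2 : (x : N) • Q₁ = Q₂ := x.2
  rw [hx1, one_smul] at hx2
  exact hx2

include hP hC in
theorem exists_unique_invariant [P.Normal] (q : ℕ) [Fact q.Prime] :
    ∃! Q : Sylow q N, ∀ m : M, m • Q = Q := by
  obtain ⟨Q₀, hQ₀⟩ := exists_fixed P hP hC q
  refine ⟨Q₀, ?_, ?_⟩
  · intro m
    apply unique_fixed P hP hC q _ _ _ hQ₀
    intro u hu
    have h1 : m⁻¹ * u * m ∈ P := by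
      have := ‹P.Normal›.conj_mem u hu m⁻¹
      simpa using this
    have h2 : u * m = m * (m⁻¹ * u * m) := by group
    rw [← mul_smul, h2, mul_smul, hQ₀ _ h1]
  · intro Q' hQ'
    exact unique_fixed P hP hC q _ _ (fun u _ => hQ' u) hQ₀

end abs

section conc

variable {G : Type*} [Group G]

/-- conjugation action of a subgroup `M` on a normal subgroup `N` -/
@[reducible] noncomputable def act (M N : Subgroup G) [N.Normal] : MulDistribMulAction ↥M ↥N :=
  MulDistribMulAction.compHom ↥N ((MulAut.conjNormal (H := N)).comp M.subtype)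

theorem act_coe (M N : Subgroup G) [N.Normal] (m : M) (n : N) :
    letI := act M N
    ((m • n : ↥N) : G) = m * n * (m : G)⁻¹ := rfl

theorem inv_iff (M N : Subgroup G) [N.Normal] {q : ℕ} (Q : Sylow q ↥N) :
    letI := act M N
    (∀ m : M, m • Q = Q) ↔
      M ≤ Subgroup.normalizer ((Q : Subgroup ↥N).map N.subtype : Set G) := by
  letI := act M N
  rw [Cfsg.Agent.S3748.le_normalizer_iff]
  constructor
  · intro h m hm u hu
    obtain ⟨y, hy, rfl⟩ := hu
    refine ⟨(⟨m, hm⟩ : M) • y, ?_, rfl⟩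
    have h1 := h ⟨m, hm⟩
    have h2 : (⟨m, hm⟩ : M) • y ∈ (⟨m, hm⟩ : M) • (Q : Subgroup ↥N) :=
      Subgroup.smul_mem_pointwise_smul y _ _ hy
    rw [← Sylow.pointwise_smul_def, h1] at h2
    exact h2
  · intro h m
    apply Sylow.ext
    ext y
    rw [Sylow.pointwise_smul_def, Subgroup.mem_pointwise_smul_iff_inv_smul_mem]
    constructor
    · intro hy
      obtain ⟨z, hz, hzeq⟩ := h m m.2 _ ⟨_, hy, rfl⟩
      have : z = y := by
        apply Subtype.ext
        have hzeq' : (z : G) = (m : G) * ((m⁻¹ • y : ↥N) : G) * (m : G)⁻¹ := hzeq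
        rw [hzeq', act_coe]
        simp [mul_assoc]
      rwa [← this]
    · intro hy
      obtain ⟨z, hz, hzeq⟩ := h (m : G)⁻¹ (inv_mem m.2) _ ⟨y, hy, rfl⟩
      have : z = m⁻¹ • y := by
        apply Subtype.ext
        have hzeq' : (z : G) = (m : G)⁻¹ * (y : G) * (m : G)⁻¹⁻¹ := hzeq
        rw [hzeq', act_coe]
        simp
      rwa [← this]

end conc

/-- Call a proper subgroup M of G primitive when M = N_G(N) for every non-trivial normal subgroup N of M. Let M be a primitive subgroup of the finite group G, p a prime with O_p(M) ≠ 1, and N a normal subgroup of G with M ∩ N = 1. Then p does not divide the order of N; for every prime q there is exactly one Sylow q-subgroup of N normalized by M; and if the order of N has at least two prime divisors then M is not a maximal subgroup of G. -/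
theorem result {G : Type*} [Group G] [Finite G] (M : Subgroup G) (hM : M ≠ ⊤) (hprim : ∀ N : Subgroup G, N ≤ M → M ≤ Subgroup.normalizer (N : Set G) → N ≠ ⊥ → Subgroup.normalizer (N : Set G) = M) {p : ℕ} [Fact p.Prime] (hOp : Cfsg.pCore p ↥M ≠ ⊥) (N : Subgroup G) [N.Normal] (hMN : M ⊓ N = ⊥) : ¬ p ∣ Nat.card N ∧ (∀ q : ℕ, [Fact q.Prime] → ∃! Q : Sylow q ↥N, M ≤ Subgroup.normalizer ((Q : Subgroup ↥N).map N.subtype : Set G)) ∧ ((∃ q r : ℕ, q.Prime ∧ r.Prime ∧ q ≠ r ∧ q ∣ Nat.card N ∧ r ∣ Nat.card N) → ¬ IsCoatom M) := by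
  classical
  set P : Subgroup ↥M := Cfsg.pCore p ↥M with hPdef
  haveI hPn : P.Normal := Cfsg.Agent.Lib.Helper1_Cores.pCore_normal p
  have hPp : IsPGroup p P := Cfsg.Agent.Lib.Helper1_Cores.pCore_isPGroup p
  set P' : Subgroup G := P.map M.subtype with hP'def
  have hP'M : P' ≤ M := by
    rintro _ ⟨x, _, rfl⟩
    exact x.2
  have hP'ne : P' ≠ ⊥ := by
    intro h
    apply hOp
    rwa [Subgroup.map_eq_bot_iff_of_injective _ M.subtype_injective] at h
  have hMP' : M ≤ Subgroup.normalizer (P' : Set G) := by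
    rw [Cfsg.Agent.S3748.le_normalizer_iff]
    intro m hm u hu
    obtain ⟨x, hx, rfl⟩ := hu
    exact ⟨⟨m, hm⟩ * x * ⟨m, hm⟩⁻¹, hPn.conj_mem x hx _, rfl⟩
  have hNP' : Subgroup.normalizer (P' : Set G) = M := hprim P' hP'M hMP' hP'ne
  letI := act M N
  have hC : ∀ n : ↥N, (∀ u ∈ P, u • n = n) → n = 1 := by
    intro n hn
    have hnM : (n : G) ∈ M := by
      rw [← hNP']
      apply Subgroup.centralizer_le_normalizer
      rw [Subgroup.mem_centralizer_iff]
      rintro _ ⟨x, hx, rfl⟩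
      have h1 := congrArg Subtype.val (hn x hx)
      rw [act_coe] at h1
      change (x : G) * n = n * (x : G)
      calc (x : G) * n = (x : G) * n * (x : G)⁻¹ * x := by group
        _ = n * x := by rw [h1]
    have h2 : (n : G) ∈ M ⊓ N := ⟨hnM, n.2⟩
    rw [hMN] at h2
    exact Subtype.ext (Subgroup.mem_bot.mp h2)
  have hU : ∀ q : ℕ, [Fact q.Prime] → ∃! Q : Sylow q ↥N,
      M ≤ Subgroup.normalizer ((Q : Subgroup ↥N).map N.subtype : Set G) := by
    intro q _
    exact (existsUnique_congr (fun Q => inv_iff M N Q)).mp (exists_unique_invariant P hPp hC q)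
  refine ⟨not_dvd_card P hPp hC, hU, ?_⟩
  rintro ⟨q, r, hq, hr, hqr, hqN, hrN⟩ hco
  haveI : Fact q.Prime := ⟨hq⟩
  obtain ⟨Q, hQ, -⟩ := hU q
  set Q' : Subgroup G := (Q : Subgroup ↥N).map N.subtype with hQ'def
  have hQ'N : Q' ≤ N := Subgroup.map_subtype_le _
  have hQne : (Q : Subgroup ↥N) ≠ ⊥ := Q.ne_bot_of_dvd_card hqN
  have hQ'ne : Q' ≠ ⊥ := by
    intro h
    apply hQne
    rwa [Subgroup.map_eq_bot_iff_of_injective _ N.subtype_injective] at h
  have hQ'M : ¬ Q' ≤ M := by
    intro h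
    apply hQ'ne
    rw [eq_bot_iff, ← hMN]
    exact le_inf h hQ'N
  have hlt : M < M ⊔ Q' := by
    rw [lt_iff_le_and_ne]
    refine ⟨le_sup_left, fun h => hQ'M ?_⟩
    rw [h]
    exact le_sup_right
  have htop : M ⊔ Q' = ⊤ := hco.2 _ hlt
  -- every element of N lies in Q'
  have hNQ : ∀ n : ↥N, n ∈ (Q : Subgroup ↥N) := by
    intro n
    have h1 : (n : G) ∈ ((M ⊔ Q' : Subgroup G) : Set G) := by
      rw [htop]
      trivial
    rw [Subgroup.coe_mul_of_left_le_normalizer_right M Q' hQ] at h1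
    obtain ⟨m, hm, x, hx, hmx⟩ := h1
    have hmx : m * x = n := hmx
    have hxN : x ∈ N := hQ'N hx
    have hmN : m ∈ N := by
      have : m = n * x⁻¹ := by rw [← hmx]; group
      rw [this]
      exact N.mul_mem n.2 (N.inv_mem hxN)
    have hm1 : m ∈ M ⊓ N := ⟨hm, hmN⟩
    rw [hMN, Subgroup.mem_bot] at hm1
    rw [hm1, one_mul] at hmx
    obtain ⟨y, hy, hyx⟩ := hx
    have : y = n := Subtype.ext (hyx.trans hmx)
    rwa [← this]
  have hQtop : (Q : Subgroup ↥N) = ⊤ := by
    rw [eq_top_iff]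
    intro n _
    exact hNQ n
  have hNq : IsPGroup q ↥N := by
    have := Q.isPGroup'
    rw [hQtop] at this
    exact this.of_equiv Subgroup.topEquiv
  obtain ⟨k, hk⟩ := IsPGroup.iff_card.mp hNq
  rw [hk] at hrN
  exact hqr ((Nat.prime_dvd_prime_iff_eq hr hq).mp (hr.dvd_of_dvd_pow hrN)).symm

end Cfsg.Agent.S3749
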