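import Cfsg.Statements.S3750
import Cfsg.Agent.S3748
import Cfsg.Agent.S1260

set_option autoImplicit false
set_option linter.style.haveILetI false
set_option linter.unusedSectionVars false
open Cfsg

namespace Cfsg.Agent.S3750

open Subgroup

section main
universe u
variable {G : Type u} [Group G] [Finite G]

/-- the layer centralizes the Fitting subgroup -/
theorem fitting_le_centralizer_layer : Cfsg.fittingSubgroup G ≤ centralizer (Cfsg.layer G : Set G) := by
  rw [Subgroup.le_centralizer_iff]
  apply sSup_le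
  intro K hK
  have hFn : (Cfsg.fittingSubgroup G).Normal := Cfsg.Agent.Lib.Helper1_Cores.fittingSubgroup_normal
  haveI : Group.IsNilpotent ↥(Cfsg.fittingSubgroup G) :=
    Cfsg.Agent.Lib.Helper1_Cores.fittingSubgroup_isNilpotent
  have hsolv : Group.IsSolvable ↥(Cfsg.fittingSubgroup G) := inferInstance
  have h := Cfsg.Agent.Lib.Helper21_Components.IsComponent.commutator_eq_bot_of_isSolvable hK hsolv
    (by rw [Subgroup.normalizer_eq_top]; exact le_top)
  exact Subgroup.commutator_eq_bot_iff_le_centralizer.mp h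

/-- the image in `G` of the layer of a normal subgroup lies in the layer of `G` -/
theorem map_layer_le (N : Subgroup G) [hN : N.Normal] :
    (Cfsg.layer ↥N).map N.subtype ≤ Cfsg.layer G := by
  unfold Cfsg.layer
  rw [(Subgroup.gc_map_comap N.subtype).l_sSup]
  apply iSup₂_le
  intro K hK
  apply le_sSup
  exact (Cfsg.Agent.S1260.result N hN.isSubnormal K).mp hK

/-- the image in `G` of the Fitting subgroup of a normal subgroup lies in `F(G)` -/
theorem map_fitting_le (N : Subgroup G) [hN : N.Normal] :
    (Cfsg.fittingSubgroup ↥N).map N.subtype ≤ Cfsg.fittingSubgroup G := by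
  have hFn : (Cfsg.fittingSubgroup ↥N).Normal := Cfsg.Agent.Lib.Helper1_Cores.fittingSubgroup_normal
  have hsub : ((Cfsg.fittingSubgroup ↥N).map N.subtype).IsSubnormal :=
    hFn.isSubnormal.trans' hN.isSubnormal
  have hnil : Group.IsNilpotent ↥((Cfsg.fittingSubgroup ↥N).map N.subtype) := by
    haveI : Group.IsNilpotent ↥(Cfsg.fittingSubgroup ↥N) :=
      Cfsg.Agent.Lib.Helper1_Cores.fittingSubgroup_isNilpotent
    exact Group.nilpotent_of_mulEquiv
      ((Cfsg.fittingSubgroup ↥N).equivMapOfInjective N.subtype N.subtype_injective)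
  exact (Cfsg.Agent.S3743.result _ hsub).1 hnil

variable (M : Subgroup G) (hM : M ≠ ⊤)
  (hprim : ∀ N : Subgroup G, N ≤ M → M ≤ Subgroup.normalizer (N : Set G) → N ≠ ⊥ →
    Subgroup.normalizer (N : Set G) = M)
  (N : Subgroup G) [hN : N.Normal]
  (hMF : M ⊓ (Cfsg.generalizedFittingSubgroup ↥N).map N.subtype ≠ ⊥)
include hM hprim hMF

theorem main :
    Cfsg.fittingSubgroup G = ⊥ ∧
    (Cfsg.generalizedFittingSubgroup ↥N).map N.subtype = Cfsg.generalizedFittingSubgroup G ∧
    Cfsg.generalizedFittingSubgroup G = Cfsg.layer G ∧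
    ∀ K : Subgroup G, K.Normal → K ≠ ⊥ →
      (∀ K' : Subgroup G, K'.Normal → K' ≤ K → K' = ⊥ ∨ K' = K) → K ≤ N := by
  set X : Subgroup G := (Cfsg.generalizedFittingSubgroup ↥N).map N.subtype with hX
  set EN : Subgroup G := (Cfsg.layer ↥N).map N.subtype with hEN
  set FN : Subgroup G := (Cfsg.fittingSubgroup ↥N).map N.subtype with hFN
  have hXeq : X = EN ⊔ FN := by
    rw [hX, hEN, hFN, ← Subgroup.map_sup]; rfl
  have hXN : X ≤ N := Subgroup.map_subtype_le _
  have hENle : EN ≤ Cfsg.layer G := map_layer_le N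
  have hFNle : FN ≤ Cfsg.fittingSubgroup G := map_fitting_le N
  -- X is normal in G
  haveI hXn : X.Normal := by
    haveI : (Cfsg.generalizedFittingSubgroup ↥N).Characteristic := by
      have h1 : (Cfsg.layer ↥N).Characteristic := inferInstance
      have h2 : (Cfsg.fittingSubgroup ↥N).Characteristic :=
        Cfsg.Agent.S3743.rad_characteristic (P := fun Y _ => Group.IsNilpotent Y)
          (fun Y Y' _ _ e h => by
            have := h
            exact Group.nilpotent_of_mulEquiv e) ↥N
      rw [characteristic_iff_map_le] at h1 h2 ⊢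
      intro φ
      unfold Cfsg.generalizedFittingSubgroup
      rw [Subgroup.map_sup]
      exact sup_le_sup (h1 φ) (h2 φ)
    exact ConjAct.normal_of_characteristic_of_normal
  set D : Subgroup G := M ⊓ X with hD
  have hDM : D ≤ M := inf_le_left
  have hDX : D ≤ X := inf_le_right
  have hMD : M ≤ Subgroup.normalizer (D : Set G) := by
    rw [Cfsg.Agent.S3748.le_normalizer_iff]
    intro m hm d hd
    exact ⟨M.mul_mem (M.mul_mem hm hd.1) (M.inv_mem hm), hXn.conj_mem d hd.2 m⟩
  have hND : Subgroup.normalizer (D : Set G) = M := hprim D hDM hMD hMF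
  have hcentD : ∀ Y : Subgroup G, Y ≤ centralizer (X : Set G) → Y ≤ M := by
    intro Y hY
    rw [← hND]
    exact (hY.trans (Subgroup.centralizer_le hDX)).trans (Subgroup.centralizer_le_normalizer _)
  have hMFit : M ⊓ Cfsg.fittingSubgroup G = ⊥ := Cfsg.Agent.S3748.inf_fitting_eq_bot M hM hprim
  -- Step 1: F(G) = 1
  have hF : Cfsg.fittingSubgroup G = ⊥ := by
    by_contra hne
    set F := Cfsg.fittingSubgroup G with hFdef
    haveI : Group.IsNilpotent ↥F := Cfsg.Agent.Lib.Helper1_Cores.fittingSubgroup_isNilpotent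
    haveI : Nontrivial ↥F := (Subgroup.nontrivial_iff_ne_bot F).mpr hne
    have hc : center ↥F ≠ ⊥ := Group.IsNilpotent.center_ne_bot ↥F
    obtain ⟨z, hz1⟩ := (Subgroup.ne_bot_iff_exists_ne_one).mp hc
    -- wait: `z : ↥(center F)`
    have hzc : ((z : ↥F) : G) ∈ centralizer (X : Set G) := by
      rw [hXeq, Subgroup.mem_centralizer_iff]
      intro x hx
      -- x ∈ EN ⊔ FN; centralizer of z contains EN and FN
      have hEN' : EN ≤ centralizer ({((z : ↥F) : G)} : Set G) := by
        intro e he
        have h1 : ((z : ↥F) : G) ∈ centralizer (Cfsg.layer G : Set G) :=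
          fitting_le_centralizer_layer (z : ↥F).2
        rw [Subgroup.mem_centralizer_iff] at h1 ⊢
        intro y hy
        rw [Set.mem_singleton_iff] at hy
        subst hy
        exact (h1 e (hENle he)).symm
      have hFN' : FN ≤ centralizer ({((z : ↥F) : G)} : Set G) := by
        intro f hf
        rw [Subgroup.mem_centralizer_iff]
        intro y hy
        rw [Set.mem_singleton_iff] at hy
        subst hy
        have h1 := (Subgroup.mem_center_iff.mp z.2) ⟨f, hFNle hf⟩
        have h2 := congrArg Subtype.val h1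
        simpa using h2.symm
      have hx' : x ∈ centralizer ({((z : ↥F) : G)} : Set G) := (sup_le hEN' hFN') hx
      rw [Subgroup.mem_centralizer_iff] at hx'
      exact (hx' _ rfl).symm
    have hzM : ((z : ↥F) : G) ∈ M := by
      have := hcentD (Subgroup.zpowers ((z : ↥F) : G))
        (by rw [Subgroup.zpowers_le]; exact hzc)
      exact this (Subgroup.mem_zpowers _)
    have hz0 : ((z : ↥F) : G) ∈ M ⊓ F := ⟨hzM, (z : ↥F).2⟩
    rw [hMFit, Subgroup.mem_bot] at hz0
    apply hz1
    apply Subtype.ext
    apply Subtype.ext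
    exact hz0
  have hFN0 : FN = ⊥ := by rw [eq_bot_iff, ← hF]; exact hFNle
  have hXEN : X = EN := by rw [hXeq, hFN0, sup_bot_eq]
  have hnosub := Cfsg.Agent.S3748.no_subnormal M hM hprim
  -- Step 3: every component of G lies in N
  have hcompN : ∀ K : Subgroup G, IsComponent K → K ≤ N := by
    intro K hK
    rcases Cfsg.Agent.Lib.Helper21_Components.IsComponent.le_or_commutator_eq_bot hK hN.isSubnormal
      with h | h
    · exact h
    · exfalso
      have h1 : K ≤ centralizer (N : Set G) := Subgroup.commutator_eq_bot_iff_le_centralizer.mp h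
      have h2 : K ≤ M := hcentD K (h1.trans (Subgroup.centralizer_le hXN))
      have h3 := hnosub K hK.1 h2
      have := Cfsg.Agent.Lib.Helper29_Local.IsQuasisimple.nontrivial hK.2
      rw [h3] at this
      exact not_subsingleton _ (inferInstance : Subsingleton ↥(⊥ : Subgroup G))
  -- Step 4: E(G) ≤ EN
  have hlayer : Cfsg.layer G ≤ EN := by
    apply sSup_le
    intro K hK
    have hKN : K ≤ N := hcompN K hK
    have h1 : IsComponent (K.subgroupOf N) := by
      rw [Cfsg.Agent.S1260.result N hN.isSubnormal (K.subgroupOf N),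
        Subgroup.map_subgroupOf_eq_of_le hKN]
      exact hK
    have h2 : K.subgroupOf N ≤ Cfsg.layer ↥N := le_sSup h1
    rw [hEN, ← Subgroup.map_subgroupOf_eq_of_le hKN]
    exact Subgroup.map_mono h2
  have hENeq : EN = Cfsg.layer G := le_antisymm hENle hlayer
  have hgen : Cfsg.generalizedFittingSubgroup G = Cfsg.layer G := by
    unfold Cfsg.generalizedFittingSubgroup
    rw [hF, sup_bot_eq]
  refine ⟨hF, ?_, hgen, ?_⟩
  · rw [hgen, ← hENeq, ← hXEN]
  · intro K hKn hKne hKmin
    haveI := hKn
    rcases hKmin (K ⊓ N) inferInstance inf_le_left with h | h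
    · exfalso
      have h1 : ⁅K, N⁆ = ⊥ := by
        rw [eq_bot_iff, ← h]
        exact Subgroup.commutator_le_inf K N
      have h2 : K ≤ centralizer (N : Set G) := Subgroup.commutator_eq_bot_iff_le_centralizer.mp h1
      have h3 : K ≤ M := hcentD K (h2.trans (Subgroup.centralizer_le hXN))
      exact hKne (hnosub K hKn.isSubnormal h3)
    · rw [← h]; exact inf_le_right

end main

/-- Call a proper subgroup M of G primitive when M = N_G(N) for every non-trivial normal subgroup N of M. Let M be a primitive subgroup of the finite group G and N a normal subgroup of G with M ∩ F*(N) ≠ 1. Then F(G) = 1 and F*(N) = F*(G) = E(G); in particular every minimal normal subgroup of G is contained in N. -/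
theorem result {G : Type*} [Group G] [Finite G] (M : Subgroup G) (hM : M ≠ ⊤) (hprim : ∀ N : Subgroup G, N ≤ M → M ≤ Subgroup.normalizer (N : Set G) → N ≠ ⊥ → Subgroup.normalizer (N : Set G) = M) (N : Subgroup G) [N.Normal] (hMF : M ⊓ (Cfsg.generalizedFittingSubgroup ↥N).map N.subtype ≠ ⊥) : Cfsg.fittingSubgroup G = ⊥ ∧ (Cfsg.generalizedFittingSubgroup ↥N).map N.subtype = Cfsg.generalizedFittingSubgroup G ∧ Cfsg.generalizedFittingSubgroup G = Cfsg.layer G ∧ ∀ K : Subgroup G, K.Normal → K ≠ ⊥ → (∀ K' : Subgroup G, K'.Normal → K' ≤ K → K' = ⊥ ∨ K' = K) → K ≤ N :=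
  main M hM hprim N hMF

end Cfsg.Agent.S3750
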