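import Cfsg.Statements.S3751
import Cfsg.Agent.Lib.Helper47_Conj

set_option autoImplicit false
set_option linter.style.haveILetI false
set_option linter.unusedSectionVars false
open Cfsg

namespace Cfsg.Agent.S3751

open Cfsg.Agent.Lib.Helper47_PLocal Cfsg.Agent.Lib.Helper47_SubAPI
  Cfsg.Agent.Lib.Helper47_PClosed Cfsg.Agent.Lib.Helper47_Conj

variable {G : Type*} [Group G] {p : ℕ}

/-- `M` is a `p`-local subgroup -/
def IsLoc (p : ℕ) (M : Subgroup G) : Prop :=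
  ∃ T : Subgroup G, IsPGroup p T ∧ T ≠ ⊥ ∧ M = Subgroup.normalizer (T : Set G)

/-- `M` is a maximal `p`-local subgroup -/
def IsMaxLoc (p : ℕ) (M : Subgroup G) : Prop :=
  IsLoc p M ∧ ∀ L : Subgroup G, IsLoc p L → M ≤ L → L = M

/-- conjugate subgroup -/
abbrev cjg (g : G) (K : Subgroup G) : Subgroup G := K.map (MulAut.conj g).toMonoidHom

theorem isLoc_normalizer {T : Subgroup G} (hT : IsPGroup p T) (hne : T ≠ ⊥) :
    IsLoc p (Subgroup.normalizer (T : Set G)) := ⟨T, hT, hne, rfl⟩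

theorem exists_maxLoc_ge [Finite G] {K : Subgroup G} (hK : IsLoc p K) :
    ∃ M : Subgroup G, IsMaxLoc p M ∧ K ≤ M := by
  have hwf : WellFounded ((· > ·) : Subgroup G → Subgroup G → Prop) := wellFounded_gt
  obtain ⟨M, ⟨hM1, hM2⟩, hmax⟩ := hwf.has_min {L : Subgroup G | IsLoc p L ∧ K ≤ L} ⟨K, hK, le_rfl⟩
  refine ⟨M, ⟨hM1, ?_⟩, hM2⟩
  intro L hL hML
  by_contra hne
  exact hmax L ⟨hL, hM2.trans hML⟩ (lt_of_le_of_ne hML (Ne.symm hne))

theorem IsLoc.conjg {M : Subgroup G} (h : IsLoc p M) (g : G) : IsLoc p (cjg g M) := by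
  obtain ⟨T, hT, hne, rfl⟩ := h
  refine ⟨cjg g T, hT.map _, ?_, ?_⟩
  · intro h0
    apply hne
    have := (map_conj_eq_iff g T ⊥).mp h0
    rw [this]
    simp
  · exact (normalizer_map_conj g T).symm

theorem IsMaxLoc.conjg {M : Subgroup G} (h : IsMaxLoc p M) (g : G) : IsMaxLoc p (cjg g M) := by
  refine ⟨h.1.conjg g, ?_⟩
  intro L hL hML
  have h1 : M ≤ cjg g⁻¹ L := (map_conj_le_iff g M L).mp hML
  have h2 := h.2 _ (hL.conjg g⁻¹) h1
  exact ((map_conj_eq_iff g M L).mpr h2.symm).symm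

section withp

variable [Fact p.Prime]

theorem IsLoc.pCoreOf_ne_bot {M : Subgroup G} (h : IsLoc p M) : Cfsg.pCoreOf p M ≠ ⊥ := by
  obtain ⟨T, hT, hne, rfl⟩ := h
  intro h0
  apply hne
  have : T ≤ Cfsg.pCoreOf p (Subgroup.normalizer (T : Set G)) :=
    le_pCoreOf Subgroup.le_normalizer le_rfl hT
  rw [h0] at this
  exact le_bot_iff.mp this

theorem IsMaxLoc.normalizer_pCoreOf {M : Subgroup G} (h : IsMaxLoc p M) :
    Subgroup.normalizer ((Cfsg.pCoreOf p M : Subgroup G) : Set G) = M :=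
  h.2 _ (isLoc_normalizer (isPGroup_pCoreOf M) h.1.pCoreOf_ne_bot) (le_normalizer_pCoreOf M)

theorem IsMaxLoc.normalizer_eq {M : Subgroup G} (h : IsMaxLoc p M) :
    Subgroup.normalizer (M : Set G) = M := by
  apply le_antisymm _ Subgroup.le_normalizer
  have := le_normalizer_pCoreOf_of_le_normalizer (p := p) (M := Subgroup.normalizer (M : Set G))
    (N := M) le_rfl
  rwa [h.normalizer_pCoreOf] at this

theorem IsMaxLoc.cjg_ne {M : Subgroup G} (h : IsMaxLoc p M) {g : G} (hg : g ∉ M) :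
    cjg g M ≠ M := by
  intro h0
  apply hg
  rw [← h.normalizer_eq]
  exact mem_normalizer_iff_map_conj_eq'.mpr h0

/-- the key property of maximal `p`-locals of characteristic `p` -/
theorem IsMaxLoc.normalizer_of_normal [Finite G] {M : Subgroup G} (h : IsMaxLoc p M)
    (hchar : M ⊓ Subgroup.centralizer ((Cfsg.pCoreOf p M : Subgroup G) : Set G) ≤ Cfsg.pCoreOf p M)
    {A : Subgroup G} (hA : A ≠ ⊥) (hAM : A ≤ M) (hMA : M ≤ Subgroup.normalizer (A : Set G)) :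
    Subgroup.normalizer (A : Set G) = M := by
  set Q := Cfsg.pCoreOf p M with hQ
  have hQM : Q ≤ M := pCoreOf_le M
  have hMQ : M ≤ Subgroup.normalizer (Q : Set G) := le_normalizer_pCoreOf M
  -- A ⊓ Q ≠ ⊥
  have hAQ : A ⊓ Q ≠ ⊥ := by
    intro h0
    have hcent : A ≤ Subgroup.centralizer (Q : Set G) := by
      intro a ha
      rw [Subgroup.mem_centralizer_iff]
      intro q hq
      have h1 : a * q * a⁻¹ ∈ Q := (Subgroup.mem_normalizer_iff.mp (hMQ (hAM ha)) q).mp hq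
      have h2 : q * a⁻¹ * q⁻¹ ∈ A :=
        (Subgroup.mem_normalizer_iff.mp (hMA (hQM hq)) a⁻¹).mp (A.inv_mem ha)
      have h3 : a * q * a⁻¹ * q⁻¹ ∈ A ⊓ Q := by
        refine ⟨?_, Q.mul_mem h1 (Q.inv_mem hq)⟩
        have : a * q * a⁻¹ * q⁻¹ = a * (q * a⁻¹ * q⁻¹) := by group
        rw [this]
        exact A.mul_mem ha h2
      rw [h0, Subgroup.mem_bot] at h3
      have : a * q = q * a := by
        calc a * q = (a * q * a⁻¹ * q⁻¹) * (q * a) := by group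
          _ = q * a := by rw [h3, one_mul]
      exact this.symm
    have hAleQ : A ≤ Q := fun a ha => hchar ⟨hAM ha, hcent ha⟩
    apply hA
    rw [← h0]
    exact (inf_eq_left.mpr hAleQ).symm
  set B := Cfsg.pCoreOf p A with hB
  have hAQB : A ⊓ Q ≤ B := by
    apply le_pCoreOf inf_le_left
    · refine le_trans ?_ (normalizer_inf_le_normalizer_inf A Q)
      exact le_inf Subgroup.le_normalizer (hAM.trans hMQ)
    · exact (isPGroup_pCoreOf M).to_le inf_le_right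
  have hBne : B ≠ ⊥ := by
    intro h0
    apply hAQ
    rw [h0] at hAQB
    exact le_bot_iff.mp hAQB
  have hNAB : Subgroup.normalizer (A : Set G) ≤ Subgroup.normalizer (B : Set G) :=
    le_normalizer_pCoreOf_of_le_normalizer le_rfl
  have hNB : Subgroup.normalizer (B : Set G) = M :=
    h.2 _ (isLoc_normalizer (isPGroup_pCoreOf A) hBne) (hMA.trans hNAB)
  exact le_antisymm (hNB ▸ hNAB) hMA

/-- `O_p(L)` lies in every maximal `p`-subgroup of `L` -/
theorem pCoreOf_le_of_maximal {L T : Subgroup G} (hT : IsPGroup p T) (hTL : T ≤ L)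
    (hmax : ∀ T' : Subgroup G, IsPGroup p T' → T ≤ T' → T' ≤ L → T' = T) :
    Cfsg.pCoreOf p L ≤ T := by
  have h1 : IsPGroup p (T ⊔ Cfsg.pCoreOf p L : Subgroup G) :=
    hT.to_sup_of_normal_right' (isPGroup_pCoreOf L) (hTL.trans (le_normalizer_pCoreOf L))
  have h2 := hmax _ h1 le_sup_left (sup_le hTL (pCoreOf_le L))
  rw [← h2]
  exact le_sup_right

end withp

section main

variable [Finite G] [Fact p.Prime]

/-- two distinct maximal `p`-locals together with a `p`-subgroup of their intersection -/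
def IsTriple (p : ℕ) (M L T : Subgroup G) : Prop :=
  IsMaxLoc p M ∧ IsMaxLoc p L ∧ M ≠ L ∧ T ≤ M ⊓ L ∧ IsPGroup p T

theorem IsTriple.symm {M L T : Subgroup G} (h : IsTriple p M L T) : IsTriple p L M T :=
  ⟨h.2.1, h.1, h.2.2.1.symm, by rw [inf_comm]; exact h.2.2.2.1, h.2.2.2.2⟩

/-- the pairs we are looking for -/
def IsGoodPair (p : ℕ) (L₁ L₂ : Subgroup G) : Prop :=
  IsMaxLoc p L₁ ∧ IsMaxLoc p L₂ ∧ L₁ ≠ L₂ ∧ Cfsg.pCoreOf p L₁ ≤ L₂ ∧ Cfsg.pCoreOf p L₂ ≤ L₁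

theorem sub_S {M L T : Subgroup G} (h : IsTriple p M L T) (hT : T ≠ ⊥)
    (hmax : ∀ M' L' T' : Subgroup G, IsTriple p M' L' T' → Nat.card T' ≤ Nat.card T)
    (hnot : ∃ T' : Subgroup G, IsPGroup p T' ∧ T < T' ∧ T' ≤ M) :
    ∃ T₁ : Subgroup G, IsPGroup p T₁ ∧ T < T₁ ∧ T₁ ≤ M ∧
      T₁ ≤ Subgroup.normalizer (T : Set G) ∧ Subgroup.normalizer (T : Set G) ≤ M := by
  obtain ⟨T', hT', hlt, hT'M⟩ := hnot
  obtain ⟨x, hxT', hxT, hxN⟩ := exists_mem_normalizer_not_mem hT' hlt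
  have hle' : T ⊔ Subgroup.zpowers x ≤ T' := sup_le hlt.le ((Subgroup.zpowers_le).mpr hxT')
  have hp₁ : IsPGroup p (T ⊔ Subgroup.zpowers x : Subgroup G) := hT'.to_le hle'
  have hlt₁ : T < T ⊔ Subgroup.zpowers x := by
    refine lt_of_le_of_ne le_sup_left ?_
    intro h0
    apply hxT
    rw [h0]
    exact (le_sup_right : Subgroup.zpowers x ≤ _) (Subgroup.mem_zpowers x)
  have hN₁ : T ⊔ Subgroup.zpowers x ≤ Subgroup.normalizer (T : Set G) :=
    sup_le Subgroup.le_normalizer ((Subgroup.zpowers_le).mpr hxN)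
  refine ⟨T ⊔ Subgroup.zpowers x, hp₁, hlt₁, hle'.trans hT'M, hN₁, ?_⟩
  obtain ⟨K, hK, hNK⟩ := exists_maxLoc_ge (isLoc_normalizer h.2.2.2.2 hT)
  by_cases hKM : K = M
  · rw [← hKM]; exact hNK
  · exfalso
    have htr : IsTriple p M K (T ⊔ Subgroup.zpowers x) :=
      ⟨h.1, hK, Ne.symm hKM, le_inf (hle'.trans hT'M) (hN₁.trans hNK), hp₁⟩
    have hc := hmax _ _ _ htr
    exact hlt₁.ne (Subgroup.eq_of_le_of_card_ge hlt₁.le hc)

theorem core {M L T : Subgroup G} (h : IsTriple p M L T) (hT : T ≠ ⊥)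
    (hmax : ∀ M' L' T' : Subgroup G, IsTriple p M' L' T' → Nat.card T' ≤ Nat.card T)
    (hnot : ∃ T' : Subgroup G, IsPGroup p T' ∧ T < T' ∧ T' ≤ M) :
    ∃ L₁ L₂ : Subgroup G, IsGoodPair p L₁ L₂ := by
  obtain ⟨T₁, hT₁p, hlt, hT₁M, hT₁N, hNM⟩ := sub_S h hT hmax hnot
  have hcard : ¬ Nat.card T₁ ≤ Nat.card T := fun hc =>
    hlt.ne (Subgroup.eq_of_le_of_card_ge hlt.le hc)
  have hTL : T ≤ L := h.2.2.2.1.trans inf_le_right
  have hTmaxL : ∀ T'' : Subgroup G, IsPGroup p T'' → T ≤ T'' → T'' ≤ L → T'' = T := by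
    intro T'' hp hle hL
    by_contra hne
    have hlt' : T < T'' := lt_of_le_of_ne hle (Ne.symm hne)
    obtain ⟨_, _, _, _, _, hNL⟩ := sub_S h.symm hT hmax ⟨T'', hp, hlt', hL⟩
    exact hcard (hmax M L T₁ ⟨h.1, h.2.1, h.2.2.1, le_inf hT₁M (hT₁N.trans hNL), hT₁p⟩)
  have hnle : ¬ T₁ ≤ L := fun hle =>
    hcard (hmax M L T₁ ⟨h.1, h.2.1, h.2.2.1, le_inf hT₁M hle, hT₁p⟩)
  obtain ⟨x, hxT₁, hxL⟩ := SetLike.not_le_iff_exists.mp hnle
  have hxN : x ∈ Subgroup.normalizer (T : Set G) := hT₁N hxT₁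
  have hTx : cjg x T = T := mem_normalizer_iff_map_conj_eq'.mp hxN
  have hTxL : T ≤ cjg x L := by
    rw [← hTx]
    exact Subgroup.map_mono hTL
  refine ⟨L, cjg x L, h.2.1, h.2.1.conjg x, (h.2.1.cjg_ne hxL).symm, ?_, ?_⟩
  · exact (pCoreOf_le_of_maximal h.2.2.2.2 hTL hTmaxL).trans hTxL
  · have hmaxx : ∀ T'' : Subgroup G, IsPGroup p T'' → T ≤ T'' → T'' ≤ cjg x L → T'' = T := by
      intro T'' hp hle hL
      have h3 : cjg x⁻¹ T'' ≤ L := by
        rw [map_conj_le_iff, inv_inv]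
        exact hL
      have hTx' : cjg x⁻¹ T = T := by
        have := map_conj_inv_map_conj x T
        change cjg x⁻¹ (cjg x T) = T at this
        rwa [hTx] at this
      have h4 : T ≤ cjg x⁻¹ T'' := by
        rw [← hTx']
        exact Subgroup.map_mono hle
      have h5 := hTmaxL _ (hp.map _) h4 h3
      have h6 := (map_conj_eq_iff x⁻¹ T'' T).mp h5
      rw [h6, inv_inv]
      exact hTx
    exact (pCoreOf_le_of_maximal h.2.2.2.2 hTxL hmaxx).trans hTL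

theorem exists_goodPair {M₀ : Subgroup G} (hM₀ : IsMaxLoc p M₀) {g : G} (hg : g ∉ M₀)
    (hdvd : p ∣ Nat.card ↥(M₀ ⊓ cjg g M₀)) : ∃ L₁ L₂ : Subgroup G, IsGoodPair p L₁ L₂ := by
  -- an initial triple
  obtain ⟨S₀⟩ : Nonempty (Sylow p ↥(M₀ ⊓ cjg g M₀)) := inferInstance
  set T₀ : Subgroup G := (S₀ : Subgroup ↥(M₀ ⊓ cjg g M₀)).map (M₀ ⊓ cjg g M₀).subtype with hT₀
  have hT₀p : IsPGroup p T₀ := S₀.isPGroup'.map _
  have hT₀ne : T₀ ≠ ⊥ := by
    intro h0
    apply S₀.ne_bot_of_dvd_card hdvd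
    rwa [Subgroup.map_eq_bot_iff_of_injective _ (Subgroup.subtype_injective _)] at h0
  have htr₀ : IsTriple p M₀ (cjg g M₀) T₀ :=
    ⟨hM₀, hM₀.conjg g, (hM₀.cjg_ne hg).symm, Subgroup.map_subtype_le _, hT₀p⟩
  -- choose a triple with `|T|` maximal
  set S : Set ℕ := {n | ∃ M L T : Subgroup G, IsTriple p M L T ∧ Nat.card T = n} with hS
  have hSne : S.Nonempty := ⟨_, M₀, cjg g M₀, T₀, htr₀, rfl⟩
  have hSbdd : BddAbove S := by
    refine ⟨Nat.card G, ?_⟩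
    rintro n ⟨M, L, T, -, rfl⟩
    exact Subgroup.card_le_card_group T
  obtain ⟨M, L, T, htr, hTn⟩ := Nat.sSup_mem hSne hSbdd
  have hmax : ∀ M' L' T' : Subgroup G, IsTriple p M' L' T' → Nat.card T' ≤ Nat.card T := by
    intro M' L' T' h'
    rw [hTn]
    exact le_csSup hSbdd ⟨M', L', T', h', rfl⟩
  have hTne : T ≠ ⊥ := by
    intro h0
    have h1 := hmax _ _ _ htr₀
    rw [h0, Subgroup.card_bot] at h1
    exact hT₀ne (Subgroup.eq_bot_of_card_le _ h1)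
  by_cases hM : ∃ T' : Subgroup G, IsPGroup p T' ∧ T < T' ∧ T' ≤ M
  · exact core htr hTne hmax hM
  by_cases hL : ∃ T' : Subgroup G, IsPGroup p T' ∧ T < T' ∧ T' ≤ L
  · exact core htr.symm hTne hmax hL
  have hTM : T ≤ M := htr.2.2.2.1.trans inf_le_left
  have hTL : T ≤ L := htr.2.2.2.1.trans inf_le_right
  have hmaxM : ∀ T' : Subgroup G, IsPGroup p T' → T ≤ T' → T' ≤ M → T' = T := by
    intro T' hp hle hT'M
    by_contra hne
    exact hM ⟨T', hp, lt_of_le_of_ne hle (Ne.symm hne), hT'M⟩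
  have hmaxL : ∀ T' : Subgroup G, IsPGroup p T' → T ≤ T' → T' ≤ L → T' = T := by
    intro T' hp hle hT'L
    by_contra hne
    exact hL ⟨T', hp, lt_of_le_of_ne hle (Ne.symm hne), hT'L⟩
  exact ⟨M, L, htr.1, htr.2.1, htr.2.2.1,
    (pCoreOf_le_of_maximal htr.2.2.2.2 hTM hmaxM).trans hTL,
    (pCoreOf_le_of_maximal htr.2.2.2.2 hTL hmaxL).trans hTM⟩

theorem IsLoc.charP (hloc : Cfsg.IsOfLocalCharacteristic p G) {M : Subgroup G} (h : IsLoc p M) :
    Subgroup.centralizer (Cfsg.pCore p ↥M : Set ↥M) ≤ Cfsg.pCore p ↥M := by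
  obtain ⟨T, hT, hne, rfl⟩ := h
  exact hloc.2 T hT hne

end main

/-- Two distinct subgroups M₁, M₂ of G form a primitive pair when, for {i, j} = {1, 2}, every non-trivial normal subgroup A of M_i contained in M₁ ∩ M₂ satisfies N_{M_j}(A) = M₁ ∩ M₂; the pair has characteristic p when moreover C_{M_i}(O_p(M_i)) ≤ O_p(M_i) for both i and O_p(M₁)O_p(M₂) ≤ M₁ ∩ M₂. Let G be a finite group, p a prime dividing its order, with O_p(G) = 1 and every p-local subgroup of characteristic p. Then either G has a primitive pair of characteristic p, or every maximal p-local subgroup M of G is strongly p-embedded in G: M is a proper subgroup, p divides its order, and for every g ∉ M the order of M ∩ gMg⁻¹ is prime to p. -/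
theorem result {G : Type*} [Group G] [Finite G] {p : ℕ} [Fact p.Prime] (hloc : Cfsg.IsOfLocalCharacteristic p G) (hOp : Cfsg.pCore p G = ⊥) : (∃ M₁ M₂ : Subgroup G, M₁ ≠ M₂ ∧ (∀ A : Subgroup G, A ≠ ⊥ → A ≤ M₁ ⊓ M₂ → (M₁ ≤ Subgroup.normalizer (A : Set G) → M₂ ⊓ Subgroup.normalizer (A : Set G) = M₁ ⊓ M₂) ∧ (M₂ ≤ Subgroup.normalizer (A : Set G) → M₁ ⊓ Subgroup.normalizer (A : Set G) = M₁ ⊓ M₂)) ∧ Subgroup.centralizer (Cfsg.pCore p ↥M₁ : Set ↥M₁) ≤ Cfsg.pCore p ↥M₁ ∧ Subgroup.centralizer (Cfsg.pCore p ↥M₂ : Set ↥M₂) ≤ Cfsg.pCore p ↥M₂ ∧ (Cfsg.pCore p ↥M₁).map M₁.subtype ⊔ (Cfsg.pCore p ↥M₂).map M₂.subtype ≤ M₁ ⊓ M₂) ∨ (∀ M : Subgroup G, (∃ T : Subgroup G, IsPGroup p T ∧ T ≠ ⊥ ∧ M = Subgroup.normalizer (T : Set G)) → (∀ L : Subgroup G, (∃ T : Subgroup G, IsPGroup p T ∧ T ≠ ⊥ ∧ L = Subgroup.normalizer (T : Set G)) → M ≤ L → L = M) → M ≠ ⊤ ∧ p ∣ Nat.card M ∧ ∀ g : G, g ∉ M → ¬ p ∣ Nat.card ↥(M ⊓ M.map (MulAut.conj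 g).toMonoidHom)) := by
  by_cases hpair : ∃ L₁ L₂ : Subgroup G, IsGoodPair p L₁ L₂
  · left
    obtain ⟨L₁, L₂, h1, h2, hne, h12, h21⟩ := hpair
    have hc1 := h1.1.charP hloc
    have hc2 := h2.1.charP hloc
    refine ⟨L₁, L₂, hne, ?_, hc1, hc2, ?_⟩
    · intro A hA hAle
      constructor
      · intro hLA
        rw [h1.normalizer_of_normal ((charP_iff L₁).mp hc1) hA (hAle.trans inf_le_left) hLA,
          inf_comm]
      · intro hLA
        rw [h2.normalizer_of_normal ((charP_iff L₂).mp hc2) hA (hAle.trans inf_le_right) hLA]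
    · exact sup_le (le_inf (pCoreOf_le L₁) h12) (le_inf h21 (pCoreOf_le L₂))
  · right
    intro M hMloc hMmax
    have hM : IsMaxLoc p M := ⟨hMloc, hMmax⟩
    obtain ⟨T, hT, hTne, hMT⟩ := hMloc
    refine ⟨?_, ?_, ?_⟩
    · intro htop
      apply hTne
      have hTn : T.Normal := by
        rw [← Subgroup.normalizer_eq_top_iff, ← hMT, htop]
      have : T ≤ Cfsg.pCore p G := le_pCore hTn hT
      rw [hOp] at this
      exact le_bot_iff.mp this
    · have hTM : T ≤ M := by rw [hMT]; exact Subgroup.le_normalizer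
      have h1 : p ∣ Nat.card T := by
        rcases hT.card_eq_or_dvd with h | h
        · exact absurd (Subgroup.card_eq_one.mp h) hTne
        · exact h
      exact h1.trans (Subgroup.card_dvd_of_le hTM)
    · intro g hg hdvd
      exact hpair (exists_goodPair hM hg hdvd)

end Cfsg.Agent.S3751
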