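import Cfsg.Statements.S3752
import Cfsg.Agent.Lib.Helper21_FStar
import Cfsg.Agent.Lib.Helper22_Layer
import Cfsg.Agent.Lib.Helper47_Conj
import Cfsg.Agent.S3748

set_option autoImplicit false
set_option linter.style.haveILetI false
set_option linter.unusedSectionVars false
open Cfsg

universe u

namespace Cfsg.Agent.S3752

open Cfsg.Agent.Lib.Helper47_PLocal Cfsg.Agent.Lib.Helper47_SubAPI
  Cfsg.Agent.Lib.Helper47_PClosed Cfsg.Agent.Lib.Helper47_Conj
open Cfsg.Agent.Lib.Helper21_FStar Cfsg.Agent.Lib.Helper22_Layer Cfsg.Agent.Lib.Helper29_Local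
  Cfsg.Agent.Lib.Helper21_Components
open scoped commutatorElement

section abs

variable {X : Type u} [Group X] [Finite X] {p : ℕ} [Fact p.Prime]

/-- a `p`-element of `C_X(F*(X))` lies in `O_p(X)` -/
theorem mem_pCore_of_mem_centF {z : X}
    (hz : z ∈ Subgroup.centralizer (generalizedFittingSubgroup X : Set X))
    (hzp : ∃ k, orderOf z = p ^ k) : z ∈ pCore p X := by
  set Z := Subgroup.centralizer (generalizedFittingSubgroup X : Set X) with hZ
  haveI : Z.Normal := Subgroup.normal_centralizer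
  have hZF : Z ≤ generalizedFittingSubgroup X := centralizer_generalizedFitting_le
  have hU : Subgroup.zpowers z ≤ Z := Subgroup.zpowers_le.mpr hz
  have hnorm : Z ≤ Subgroup.normalizer (Subgroup.zpowers z : Set X) := by
    intro w hw
    have hwz : Commute z w := (Subgroup.mem_centralizer_iff.mp hw) z (hZF hz)
    apply Subgroup.centralizer_le_normalizer
    rw [Subgroup.mem_centralizer_iff]
    intro u hu
    obtain ⟨k, rfl⟩ := Subgroup.mem_zpowers_iff.mp hu
    exact (hwz.zpow_left k).eq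
  have hUp : IsPGroup p (Subgroup.zpowers z) := by
    obtain ⟨k, hk⟩ := hzp
    exact IsPGroup.of_card (n := k) (by rw [Nat.card_zpowers, hk])
  have h1 : Subgroup.zpowers z ≤ Cfsg.pCoreOf p Z := le_pCoreOf hU hnorm hUp
  exact pCoreOf_le_pCore_of_normal Z (h1 (Subgroup.mem_zpowers z))

/-- an element commuting with the layer and all the `q`-cores centralizes `F*(X)` -/
theorem mem_centF_of {w : X} (h1 : ∀ e ∈ layer X, Commute e w)
    (h2 : ∀ q : ℕ, q.Prime → ∀ u ∈ pCore q X, Commute u w) :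
    w ∈ Subgroup.centralizer (generalizedFittingSubgroup X : Set X) := by
  have key : generalizedFittingSubgroup X ≤ Subgroup.centralizer ({w} : Set X) := by
    unfold generalizedFittingSubgroup
    rw [Cfsg.Agent.Lib.Helper1_Cores.fittingSubgroup_eq_iSup_pCore]
    refine sup_le ?_ (iSup_le ?_)
    · intro e he
      rw [Subgroup.mem_centralizer_iff]
      intro x hx
      rw [Set.mem_singleton_iff] at hx
      subst hx
      exact (h1 e he).eq.symm
    · intro q u hu
      rw [Subgroup.mem_centralizer_iff]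
      intro x hx
      rw [Set.mem_singleton_iff] at hx
      subst hx
      exact (h2 q q.2 u hu).eq.symm
  rw [Subgroup.mem_centralizer_iff]
  intro f hf
  have := Subgroup.mem_centralizer_iff.mp (key hf) w rfl
  exact this.symm

/-- a `p`-subgroup normalized by the layer centralizes it -/
theorem commute_layer {Y : Subgroup X} (hY : IsPGroup p Y)
    (hN : layer X ≤ Subgroup.normalizer (Y : Set X)) : ⁅layer X, Y⁆ = ⊥ := by
  set E := layer X with hE
  have hI : ⁅E, Y⁆ ≤ Y ⊓ E := by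
    rw [Subgroup.commutator_le]
    intro e he y hy
    refine ⟨?_, ?_⟩
    · have h1 : e * y * e⁻¹ ∈ Y := (Subgroup.mem_normalizer_iff.mp (hN he) y).mp hy
      rw [commutatorElement_def]
      exact Y.mul_mem h1 (Y.inv_mem hy)
    · have h2 : y * e⁻¹ * y⁻¹ ∈ E := (inferInstance : E.Normal).conj_mem _ (E.inv_mem he) y
      have : ⁅e, y⁆ = e * (y * e⁻¹ * y⁻¹) := by rw [commutatorElement_def]; group
      rw [this]
      exact E.mul_mem he h2
  -- `Y ⊓ E` is a subnormal nilpotent subgroup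
  have hIE : Y ⊓ E ≤ E := inf_le_right
  have hEN : E ≤ Subgroup.normalizer ((Y ⊓ E : Subgroup X) : Set X) :=
    le_trans (le_inf hN Subgroup.le_normalizer) (normalizer_inf_le_normalizer_inf Y E)
  have hsn : (Y ⊓ E).IsSubnormal :=
    Subgroup.IsSubnormal.step _ E hIE (inferInstance : E.Normal).isSubnormal
      ((Subgroup.normal_subgroupOf_iff_le_normalizer hIE).mpr hEN)
  have hnil : Group.IsNilpotent ↥(Y ⊓ E : Subgroup X) := (hY.to_le inf_le_left).isNilpotent
  have hIF : Y ⊓ E ≤ fittingSubgroup X := le_fittingSubgroup_of_isSubnormal hsn hnil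
  have h3 : ⁅E, Y ⊓ E⁆ = ⊥ := by
    rw [eq_bot_iff, ← layer_commutator_fitting (X := X)]
    exact Subgroup.commutator_mono le_rfl hIF
  have h4 : ⁅⁅E, Y⁆, E⁆ = ⊥ := by
    rw [eq_bot_iff, ← h3, Subgroup.commutator_comm E (Y ⊓ E)]
    exact Subgroup.commutator_mono hI le_rfl
  have h5 : ⁅⁅Y, E⁆, E⁆ = ⊥ := by rw [Subgroup.commutator_comm Y E]; exact h4
  have h6 : ⁅⁅E, E⁆, Y⁆ = ⊥ := Subgroup.commutator_commutator_eq_bot_of_rotate h4 h5
  rwa [layer_perfect] at h6

theorem commute_layer' {Y : Subgroup X} (hY : IsPGroup p Y)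
    (hN : layer X ≤ Subgroup.normalizer (Y : Set X)) : ∀ e ∈ layer X, ∀ y ∈ Y, Commute e y := by
  intro e he y hy
  have := commute_layer hY hN
  rw [Subgroup.commutator_eq_bot_iff_le_centralizer] at this
  exact ((Subgroup.mem_centralizer_iff.mp (this he)) y hy).symm

/-- a `p`-subgroup normalized by `O_q(X)`, `q ≠ p`, centralizes it -/
theorem commute_pCore_of_ne {Y : Subgroup X} (hY : IsPGroup p Y) {q : ℕ} (hq : q.Prime)
    (hqp : q ≠ p) (hN : pCore q X ≤ Subgroup.normalizer (Y : Set X)) :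
    ∀ u ∈ pCore q X, ∀ y ∈ Y, Commute u y := by
  haveI : Fact q.Prime := ⟨hq⟩
  intro u hu y hy
  have hQn : (pCore q X).Normal := Cfsg.Agent.Lib.Helper1_Cores.pCore_normal q
  have h1 : ⁅u, y⁆ ∈ Y := by
    have h1 : u * y * u⁻¹ ∈ Y := (Subgroup.mem_normalizer_iff.mp (hN hu) y).mp hy
    rw [commutatorElement_def]
    exact Y.mul_mem h1 (Y.inv_mem hy)
  have h2 : ⁅u, y⁆ ∈ pCore q X := by
    have h2 : y * u⁻¹ * y⁻¹ ∈ pCore q X := hQn.conj_mem _ ((pCore q X).inv_mem hu) y
    have : ⁅u, y⁆ = u * (y * u⁻¹ * y⁻¹) := by rw [commutatorElement_def]; group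
    rw [this]
    exact (pCore q X).mul_mem hu h2
  have hdis := IsPGroup.disjoint_of_ne p q hqp.symm Y (pCore q X) hY
    (Cfsg.Agent.Lib.Helper1_Cores.pCore_isPGroup q)
  have h3 : ⁅u, y⁆ = 1 := by
    have := (Subgroup.disjoint_def.mp hdis) h1 h2
    exact this
  exact (commutatorElement_eq_one_iff_commute.mp h3)

/-- **Lemma A**: `p'`-elements of `C_X(O_p(X))` centralize every `p`-subgroup normalized by `F*(X)` -/
theorem lemmaA {Y : Subgroup X} (hY : IsPGroup p Y)
    (hN : generalizedFittingSubgroup X ≤ Subgroup.normalizer (Y : Set X)) {c : X}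
    (hc : c ∈ Subgroup.centralizer (pCore p X : Set X)) (hcp : (orderOf c).Coprime p) :
    ∀ y ∈ Y, Commute c y := by
  have hEN : layer X ≤ Subgroup.normalizer (Y : Set X) :=
    (layer_le_generalizedFittingSubgroup X).trans hN
  have hQN : ∀ q : ℕ, q.Prime → pCore q X ≤ Subgroup.normalizer (Y : Set X) := by
    intro q hq
    haveI : Fact q.Prime := ⟨hq⟩
    exact ((Cfsg.Agent.Lib.Helper1_Cores.pCore_le_fittingSubgroup q).trans
      (fittingSubgroup_le_generalizedFittingSubgroup X)).trans hN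
  have hPn : (pCore p X).Normal := Cfsg.Agent.Lib.Helper1_Cores.pCore_normal p
  -- the commutators `[y, c]` centralize `F*(X)`
  have hw : ∀ y ∈ Y, ⁅y, c⁆ ∈ Subgroup.centralizer (generalizedFittingSubgroup X : Set X) := by
    intro y hy
    apply mem_centF_of
    · -- layer
      haveI : (Subgroup.centralizer (layer X : Set X)).Normal := Subgroup.normal_centralizer
      have hyC : y ∈ Subgroup.centralizer (layer X : Set X) := by
        rw [Subgroup.mem_centralizer_iff]
        intro e he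
        exact (commute_layer' hY hEN e he y hy).eq
      have h1 : ⁅y, c⁆ ∈ Subgroup.centralizer (layer X : Set X) := by
        have h2 : c * y⁻¹ * c⁻¹ ∈ Subgroup.centralizer (layer X : Set X) :=
          (inferInstance : (Subgroup.centralizer (layer X : Set X)).Normal).conj_mem _
            (Subgroup.inv_mem _ hyC) c
        have : ⁅y, c⁆ = y * (c * y⁻¹ * c⁻¹) := by rw [commutatorElement_def]; group
        rw [this]
        exact Subgroup.mul_mem _ hyC h2
      intro e he
      exact (Subgroup.mem_centralizer_iff.mp h1) e he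
    · intro q hq u hu
      haveI : Fact q.Prime := ⟨hq⟩
      haveI hQn : (pCore q X).Normal := Cfsg.Agent.Lib.Helper1_Cores.pCore_normal q
      haveI : (Subgroup.centralizer (pCore q X : Set X)).Normal := Subgroup.normal_centralizer
      have h1 : ⁅y, c⁆ ∈ Subgroup.centralizer (pCore q X : Set X) := by
        by_cases hqp : q = p
        · subst hqp
          have h2 : y * c * y⁻¹ ∈ Subgroup.centralizer (pCore q X : Set X) :=
            (inferInstance : (Subgroup.centralizer (pCore q X : Set X)).Normal).conj_mem _ hc y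
          rw [commutatorElement_def]
          exact Subgroup.mul_mem _ h2 (Subgroup.inv_mem _ hc)
        · have hyC : y ∈ Subgroup.centralizer (pCore q X : Set X) := by
            rw [Subgroup.mem_centralizer_iff]
            intro v hv
            exact (commute_pCore_of_ne hY hq hqp (hQN q hq) v hv y hy).eq
          have h2 : c * y⁻¹ * c⁻¹ ∈ Subgroup.centralizer (pCore q X : Set X) :=
            (inferInstance : (Subgroup.centralizer (pCore q X : Set X)).Normal).conj_mem _
              (Subgroup.inv_mem _ hyC) c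
          have : ⁅y, c⁆ = y * (c * y⁻¹ * c⁻¹) := by rw [commutatorElement_def]; group
          rw [this]
          exact Subgroup.mul_mem _ hyC h2
      exact (Subgroup.mem_centralizer_iff.mp h1) u hu
  -- they are `p`-elements
  have hwp : ∀ y ∈ Y, ⁅y, c⁆ ∈ pCore p X := by
    intro y hy
    apply mem_pCore_of_mem_centF (hw y hy)
    obtain ⟨t, ht⟩ : ∃ t, t = c * y⁻¹ * c⁻¹ := ⟨_, rfl⟩
    have htw : t = y⁻¹ * ⁅y, c⁆ := by rw [ht, commutatorElement_def]; group
    have htN : t ∈ Subgroup.normalizer (Y : Set X) := by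
      rw [htw]
      exact Subgroup.mul_mem _ (Subgroup.le_normalizer (Y.inv_mem hy))
        (hN (centralizer_generalizedFitting_le (hw y hy)))
    have htp : IsPGroup p (Subgroup.zpowers t) := by
      obtain ⟨k, hk⟩ := orderOf_eq_pow_of_mem hY (Y.inv_mem hy)
      have : orderOf t = p ^ k := by
        rw [← hk, ht]
        exact (MulAut.conj c).orderOf_eq y⁻¹
      exact IsPGroup.of_card (n := k) (by rw [Nat.card_zpowers, this])
    have hsup : IsPGroup p (Y ⊔ Subgroup.zpowers t : Subgroup X) :=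
      hY.to_sup_of_normal_left' htp (Subgroup.zpowers_le.mpr htN)
    have hmem : ⁅y, c⁆ ∈ (Y ⊔ Subgroup.zpowers t : Subgroup X) := by
      have : ⁅y, c⁆ = y * t := by rw [ht, commutatorElement_def]; group
      rw [this]
      exact Subgroup.mul_mem _ (Subgroup.mem_sup_left hy)
        (Subgroup.mem_sup_right (Subgroup.mem_zpowers t))
    exact orderOf_eq_pow_of_mem hsup hmem
  exact commute_of_coprime_of_commutator_mem Y (pCore p X) c hcp hwp
    (fun u hu => ((Subgroup.mem_centralizer_iff.mp hc) u hu).symm)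
    (fun u hu => orderOf_eq_pow_of_mem (Cfsg.Agent.Lib.Helper1_Cores.pCore_isPGroup p) hu)

/-- **Lemma A'**: if `O_p(X) = 1`, a `p`-subgroup normalized by `F*(X)` is trivial -/
theorem lemmaA' {Y : Subgroup X} (hY : IsPGroup p Y)
    (hN : generalizedFittingSubgroup X ≤ Subgroup.normalizer (Y : Set X)) (h0 : pCore p X = ⊥) :
    Y = ⊥ := by
  have hEN : layer X ≤ Subgroup.normalizer (Y : Set X) :=
    (layer_le_generalizedFittingSubgroup X).trans hN
  have hQN : ∀ q : ℕ, q.Prime → pCore q X ≤ Subgroup.normalizer (Y : Set X) := by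
    intro q hq
    haveI : Fact q.Prime := ⟨hq⟩
    exact ((Cfsg.Agent.Lib.Helper1_Cores.pCore_le_fittingSubgroup q).trans
      (fittingSubgroup_le_generalizedFittingSubgroup X)).trans hN
  rw [eq_bot_iff]
  intro y hy
  have hyZ : y ∈ Subgroup.centralizer (generalizedFittingSubgroup X : Set X) := by
    apply mem_centF_of
    · intro e he
      exact commute_layer' hY hEN e he y hy
    · intro q hq u hu
      by_cases hqp : q = p
      · subst hqp
        rw [h0, Subgroup.mem_bot] at hu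
        rw [hu]
        exact Commute.one_left y
      · exact commute_pCore_of_ne hY hq hqp (hQN q hq) u hu y hy
  have := mem_pCore_of_mem_centF hyZ (orderOf_eq_pow_of_mem hY hy)
  rwa [h0] at this

/-- **Lemma B**: components of a subgroup containing `F*(X)` lie in the layer of `X` -/
theorem comp_le_layer {H : Subgroup X} (hH : generalizedFittingSubgroup X ≤ H) {L : Subgroup ↥H}
    (hL : IsComponent L) : L.map H.subtype ≤ layer X := by
  have hEH : layer X ≤ H := (layer_le_generalizedFittingSubgroup X).trans hH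
  have hFH : fittingSubgroup X ≤ H := (fittingSubgroup_le_generalizedFittingSubgroup X).trans hH
  haveI hEn : ((layer X).subgroupOf H).Normal := (inferInstance : (layer X).Normal).subgroupOf H
  rcases IsComponent.le_or_commutator_eq_bot hL hEn.isSubnormal with h | h
  · have := Subgroup.map_mono (f := H.subtype) h
    rwa [Subgroup.map_subgroupOf_eq_of_le hEH] at this
  · exfalso
    haveI hFn : ((fittingSubgroup X).subgroupOf H).Normal :=
      (inferInstance : (fittingSubgroup X).Normal).subgroupOf H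
    haveI : Group.IsNilpotent ↥(fittingSubgroup X) :=
      Cfsg.Agent.Lib.Helper1_Cores.fittingSubgroup_isNilpotent
    have hsolv : Group.IsSolvable ↥((fittingSubgroup X).subgroupOf H) :=
      Group.isSolvable_of_isSolvable_injective
        (f := (Subgroup.subgroupOfEquivOfLe hFH).toMonoidHom)
        (Subgroup.subgroupOfEquivOfLe hFH).injective
    have h' := IsComponent.commutator_eq_bot_of_isSolvable hL hsolv
      (by rw [Subgroup.normalizer_eq_top]; exact le_top)
    rw [Subgroup.commutator_eq_bot_iff_le_centralizer] at h h'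
    have hZ : ∀ a ∈ L, (a : X) ∈ Subgroup.centralizer (generalizedFittingSubgroup X : Set X) := by
      intro a ha
      apply mem_centF_of
      · intro e he
        have h1 := Subgroup.mem_centralizer_iff.mp (h ha) ⟨e, hEH he⟩
          (Subgroup.mem_subgroupOf.mpr he)
        exact congrArg Subtype.val h1
      · intro q hq u hu
        haveI : Fact q.Prime := ⟨hq⟩
        have huF : u ∈ fittingSubgroup X := Cfsg.Agent.Lib.Helper1_Cores.pCore_le_fittingSubgroup q hu
        have h1 := Subgroup.mem_centralizer_iff.mp (h' ha) ⟨u, hFH huF⟩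
          (Subgroup.mem_subgroupOf.mpr huF)
        exact congrArg Subtype.val h1
    have hLL : ⁅L, L⁆ = ⊥ := by
      rw [Subgroup.commutator_eq_bot_iff_le_centralizer]
      intro a ha
      rw [Subgroup.mem_centralizer_iff]
      intro b hb
      have hbF : (b : X) ∈ generalizedFittingSubgroup X :=
        centralizer_generalizedFitting_le (hZ b hb)
      have := (Subgroup.mem_centralizer_iff.mp (hZ a ha)) b hbF
      exact Subtype.ext this
    have hself := IsComponent.commutator_self hL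
    rw [hLL] at hself
    haveI := IsQuasisimple.nontrivial hL.2
    exact (Subgroup.nontrivial_iff_ne_bot L).mp inferInstance hself.symm

end abs

section conc

variable {G : Type u} [Group G] [Finite G]

/-- `F*(M)`, in the ambient group -/
abbrev fstarOf (M : Subgroup G) : Subgroup G := (generalizedFittingSubgroup ↥M).map M.subtype

theorem fstarOf_le (M : Subgroup G) : fstarOf M ≤ M := Subgroup.map_subtype_le _

theorem pCoreOf_le_fstarOf (p : ℕ) [Fact p.Prime] (M : Subgroup G) :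
    Cfsg.pCoreOf p M ≤ fstarOf M :=
  Subgroup.map_mono ((Cfsg.Agent.Lib.Helper1_Cores.pCore_le_fittingSubgroup p).trans
    (fittingSubgroup_le_generalizedFittingSubgroup ↥M))

theorem mem_normalizer_subgroupOf {M K : Subgroup G} (g : ↥M)
    (hg : (g : G) ∈ Subgroup.normalizer (K : Set G)) :
    g ∈ Subgroup.normalizer ((K.subgroupOf M : Subgroup ↥M) : Set ↥M) := by
  rw [Subgroup.mem_normalizer_iff] at hg ⊢
  intro h
  rw [Subgroup.mem_subgroupOf, Subgroup.mem_subgroupOf]
  exact hg h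

theorem fstar_le_normalizer_subgroupOf {M K : Subgroup G}
    (h : fstarOf M ≤ Subgroup.normalizer (K : Set G)) :
    generalizedFittingSubgroup ↥M ≤ Subgroup.normalizer ((K.subgroupOf M : Subgroup ↥M) : Set ↥M) := by
  intro f hf
  exact mem_normalizer_subgroupOf f (h (Subgroup.mem_map_of_mem _ hf))

/-- one half of the symmetric argument -/
theorem side {p : ℕ} [Fact p.Prime] {M N : Subgroup G} (hFM : fstarOf M ≤ N)
    (hFN : fstarOf N ≤ M)
    (hprim : ∀ A : Subgroup G, A ≠ ⊥ → A ≤ M ⊓ N → N ≤ Subgroup.normalizer (A : Set G) →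
      M ⊓ Subgroup.normalizer (A : Set G) = M ⊓ N)
    (hne : Cfsg.pCoreOf p N ≠ ⊥) {c : G} (hcM : c ∈ M)
    (hc : c ∈ Subgroup.centralizer ((Cfsg.pCoreOf p M : Subgroup G) : Set G))
    (hcp : (orderOf c).Coprime p) :
    c ∈ N ∧ c ∈ Subgroup.centralizer ((Cfsg.pCoreOf p N : Subgroup G) : Set G) := by
  have hPN_M : Cfsg.pCoreOf p N ≤ M := (pCoreOf_le_fstarOf p N).trans hFN
  have hY : IsPGroup p ((Cfsg.pCoreOf p N).subgroupOf M) := (isPGroup_pCoreOf N).comap_subtype
  have hN' : generalizedFittingSubgroup ↥M ≤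
      Subgroup.normalizer (((Cfsg.pCoreOf p N).subgroupOf M : Subgroup ↥M) : Set ↥M) :=
    fstar_le_normalizer_subgroupOf (hFM.trans (le_normalizer_pCoreOf N))
  have hc' : (⟨c, hcM⟩ : ↥M) ∈ Subgroup.centralizer (pCore p ↥M : Set ↥M) := by
    rw [Subgroup.mem_centralizer_iff]
    intro u hu
    have := (Subgroup.mem_centralizer_iff.mp hc) (u : G) (Subgroup.mem_map_of_mem _ hu)
    exact Subtype.ext this
  have hcp' : (orderOf (⟨c, hcM⟩ : ↥M)).Coprime p := by
    rwa [Subgroup.orderOf_mk]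
  have hA := lemmaA hY hN' hc' hcp'
  have hcent : c ∈ Subgroup.centralizer ((Cfsg.pCoreOf p N : Subgroup G) : Set G) := by
    rw [Subgroup.mem_centralizer_iff]
    intro y hy
    have := hA ⟨y, hPN_M hy⟩ (Subgroup.mem_subgroupOf.mpr hy)
    exact (congrArg Subtype.val this.eq).symm
  refine ⟨?_, hcent⟩
  have h1 := hprim _ hne (le_inf hPN_M (pCoreOf_le N)) (le_normalizer_pCoreOf N)
  have h2 : c ∈ M ⊓ Subgroup.normalizer ((Cfsg.pCoreOf p N : Subgroup G) : Set G) :=
    ⟨hcM, Subgroup.centralizer_le_normalizer _ hcent⟩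
  rw [h1] at h2
  exact h2.2

/-- if `O_p(M) ≠ 1` then `O_p(N) ≠ 1` -/
theorem pCoreOf_ne_bot_of {p : ℕ} [Fact p.Prime] {M N : Subgroup G} (hFM : fstarOf M ≤ N)
    (hFN : fstarOf N ≤ M) (hne : Cfsg.pCoreOf p M ≠ ⊥) : Cfsg.pCoreOf p N ≠ ⊥ := by
  intro h0
  apply hne
  have hPM_N : Cfsg.pCoreOf p M ≤ N := (pCoreOf_le_fstarOf p M).trans hFM
  have hY : IsPGroup p ((Cfsg.pCoreOf p M).subgroupOf N) := (isPGroup_pCoreOf M).comap_subtype
  have hN' : generalizedFittingSubgroup ↥N ≤
      Subgroup.normalizer (((Cfsg.pCoreOf p M).subgroupOf N : Subgroup ↥N) : Set ↥N) :=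
    fstar_le_normalizer_subgroupOf (hFN.trans (le_normalizer_pCoreOf M))
  have h00 : pCore p ↥N = ⊥ := by
    have : (pCore p ↥N).map N.subtype = ⊥ := h0
    rwa [Subgroup.map_eq_bot_iff_of_injective _ N.subtype_injective] at this
  have h1 := lemmaA' hY hN' h00
  rw [Subgroup.subgroupOf_eq_bot] at h1
  rw [eq_bot_iff]
  intro x hx
  have : x ∈ Cfsg.pCoreOf p M ⊓ N := ⟨hx, hPM_N hx⟩
  rw [h1.eq_bot] at this
  exact this

/-- the closure of a conjugation-invariant set is normalized -/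
theorem le_normalizer_closure (M : Subgroup G) (S : Set G)
    (h : ∀ m ∈ M, ∀ s ∈ S, m * s * m⁻¹ ∈ S) :
    M ≤ Subgroup.normalizer ((Subgroup.closure S : Subgroup G) : Set G) := by
  rw [Cfsg.Agent.S3748.le_normalizer_iff]
  intro m hm u hu
  induction hu using Subgroup.closure_induction with
  | mem x hx => exact Subgroup.subset_closure (h m hm x hx)
  | one => simp
  | mul x y _ _ hx hy =>
    have : m * (x * y) * m⁻¹ = (m * x * m⁻¹) * (m * y * m⁻¹) := by group
    rw [this]
    exact Subgroup.mul_mem _ hx hy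
  | inv x _ hx =>
    have : m * x⁻¹ * m⁻¹ = (m * x * m⁻¹)⁻¹ := by group
    rw [this]
    exact Subgroup.inv_mem _ hx

/-- the set of `p'`-elements of `C_M(O_p(M))` -/
def pPrimeSet (p : ℕ) (M : Subgroup G) : Set G :=
  {c | c ∈ M ∧ c ∈ Subgroup.centralizer ((Cfsg.pCoreOf p M : Subgroup G) : Set G) ∧
    (orderOf c).Coprime p}

theorem pPrimeSet_conj {p : ℕ} (M : Subgroup G) :
    ∀ m ∈ M, ∀ s ∈ pPrimeSet p M, m * s * m⁻¹ ∈ pPrimeSet p M := by
  rintro m hm s ⟨hsM, hsc, hsp⟩
  refine ⟨M.mul_mem (M.mul_mem hm hsM) (M.inv_mem hm), ?_, ?_⟩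
  · have h1 : m ∈ Subgroup.normalizer
        ((Subgroup.centralizer ((Cfsg.pCoreOf p M : Subgroup G) : Set G) : Subgroup G) : Set G) :=
      normalizer_le_normalizer_centralizer _ (le_normalizer_pCoreOf M hm)
    exact (Subgroup.mem_normalizer_iff.mp h1 s).mp hsc
  · have : orderOf (m * s * m⁻¹) = orderOf s := (MulAut.conj m).orderOf_eq s
    rwa [this]

theorem charp_side {p : ℕ} [Fact p.Prime] (M : Subgroup G)
    (h : ∀ c ∈ pPrimeSet p M, c = 1) :
    M ⊓ Subgroup.centralizer ((Cfsg.pCoreOf p M : Subgroup G) : Set G) ≤ Cfsg.pCoreOf p M := by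
  have hp : IsPGroup p
      ↥(M ⊓ Subgroup.centralizer ((Cfsg.pCoreOf p M : Subgroup G) : Set G) : Subgroup G) :=
    isPGroup_of_forall_coprime_eq_one _ (fun x hx hcop => h x ⟨hx.1, hx.2, hcop⟩)
  apply le_pCoreOf inf_le_left _ hp
  refine le_trans (le_inf Subgroup.le_normalizer ?_) (normalizer_inf_le_normalizer_inf _ _)
  exact (le_normalizer_pCoreOf M).trans (normalizer_le_normalizer_centralizer _)

/-- the main step: a common prime gives characteristic `p` -/
theorem charp_of_common {p : ℕ} [Fact p.Prime] (M₁ M₂ : Subgroup G) (hne : M₁ ≠ M₂)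
    (hP : ∀ A : Subgroup G, A ≠ ⊥ → A ≤ M₁ ⊓ M₂ →
      (M₁ ≤ Subgroup.normalizer (A : Set G) → M₂ ⊓ Subgroup.normalizer (A : Set G) = M₁ ⊓ M₂) ∧
      (M₂ ≤ Subgroup.normalizer (A : Set G) → M₁ ⊓ Subgroup.normalizer (A : Set G) = M₁ ⊓ M₂))
    (h₁ : fstarOf M₁ ≤ M₂) (h₂ : fstarOf M₂ ≤ M₁)
    (hp1 : Cfsg.pCoreOf p M₁ ≠ ⊥) (hp2 : Cfsg.pCoreOf p M₂ ≠ ⊥) :
    M₁ ⊓ Subgroup.centralizer ((Cfsg.pCoreOf p M₁ : Subgroup G) : Set G) ≤ Cfsg.pCoreOf p M₁ ∧
    M₂ ⊓ Subgroup.centralizer ((Cfsg.pCoreOf p M₂ : Subgroup G) : Set G) ≤ Cfsg.pCoreOf p M₂ := by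
  have hS : pPrimeSet p M₁ = pPrimeSet p M₂ := by
    ext c
    constructor
    · rintro ⟨hM, hc, hcp⟩
      obtain ⟨a, b⟩ := side h₁ h₂ (fun A hA hAle hN => (hP A hA hAle).2 hN) hp2 hM hc hcp
      exact ⟨a, b, hcp⟩
    · rintro ⟨hM, hc, hcp⟩
      obtain ⟨a, b⟩ := side h₂ h₁ (fun A hA hAle hN => by
        have := (hP A hA (by rwa [inf_comm])).1 hN
        rw [inf_comm M₂ M₁]
        exact this) hp1 hM hc hcp
      exact ⟨a, b, hcp⟩
  have hX1 : M₁ ≤ Subgroup.normalizer ((Subgroup.closure (pPrimeSet p M₁) : Subgroup G) : Set G) :=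
    le_normalizer_closure M₁ _ (pPrimeSet_conj M₁)
  have hX2 : M₂ ≤ Subgroup.normalizer ((Subgroup.closure (pPrimeSet p M₁) : Subgroup G) : Set G) := by
    rw [hS]
    exact le_normalizer_closure M₂ _ (pPrimeSet_conj M₂)
  have hXle : Subgroup.closure (pPrimeSet p M₁) ≤ M₁ ⊓ M₂ := by
    rw [Subgroup.closure_le]
    intro c hc
    exact ⟨hc.1, (hS ▸ hc : c ∈ pPrimeSet p M₂).1⟩
  have hXbot : Subgroup.closure (pPrimeSet p M₁) = ⊥ := by
    by_contra hXne
    obtain ⟨ha, hb⟩ := hP _ hXne hXle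
    have e1 := ha hX1
    have e2 := hb hX2
    rw [inf_eq_left.mpr hX2] at e1
    rw [inf_eq_left.mpr hX1] at e2
    exact hne (e2.trans e1.symm)
  have hall1 : ∀ c ∈ pPrimeSet p M₁, c = 1 := by
    intro c hc
    have : c ∈ Subgroup.closure (pPrimeSet p M₁) := Subgroup.subset_closure hc
    rwa [hXbot, Subgroup.mem_bot] at this
  have hall2 : ∀ c ∈ pPrimeSet p M₂, c = 1 := by
    rw [← hS]
    exact hall1
  exact ⟨charp_side M₁ hall1, charp_side M₂ hall2⟩

/-- existence of a prime from a nontrivial Fitting subgroup -/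
theorem exists_pCore_ne_bot {X : Type u} [Group X] [Finite X] (h : fittingSubgroup X ≠ ⊥) :
    ∃ p : ℕ, p.Prime ∧ pCore p X ≠ ⊥ := by
  by_contra hno
  apply h
  rw [Cfsg.Agent.Lib.Helper1_Cores.fittingSubgroup_eq_iSup_pCore, eq_bot_iff]
  refine iSup_le (fun q => ?_)
  by_contra hq
  exact hno ⟨q, q.2, fun h0 => hq (h0 ▸ le_rfl)⟩

/-- the layer of `M` lies in the layer of `N` -/
theorem layer_map_le {M N : Subgroup G} (hFM : fstarOf M ≤ N) (hFN : fstarOf N ≤ M) :
    (layer ↥M).map M.subtype ≤ (layer ↥N).map N.subtype := by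
  have key : ∀ K : Subgroup ↥M, IsComponent K → K.map M.subtype ≤ (layer ↥N).map N.subtype := by
    intro K hK
    have hKD : K ≤ (M ⊓ N).subgroupOf M := by
      intro k hk
      rw [Subgroup.mem_subgroupOf]
      refine ⟨k.2, hFM ?_⟩
      exact Subgroup.map_mono (layer_le_generalizedFittingSubgroup ↥M)
        (Subgroup.mem_map_of_mem _ (IsComponent.le_layer hK hk))
    have hK₁ : IsComponent (K.subgroupOf ((M ⊓ N).subgroupOf M)) := IsComponent.subgroupOf' hK hKD
    let e₁ : ↥((M ⊓ N).subgroupOf M) ≃* ↥(M ⊓ N) := Subgroup.subgroupOfEquivOfLe inf_le_left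
    let e₂ : ↥((M ⊓ N).subgroupOf N) ≃* ↥(M ⊓ N) := Subgroup.subgroupOfEquivOfLe inf_le_right
    let e : ↥((M ⊓ N).subgroupOf M) ≃* ↥((M ⊓ N).subgroupOf N) := e₁.trans e₂.symm
    have hL := isComponent_map_mulEquiv e hK₁
    have hH : generalizedFittingSubgroup ↥N ≤ (M ⊓ N).subgroupOf N := by
      intro f hf
      rw [Subgroup.mem_subgroupOf]
      exact ⟨hFN (Subgroup.mem_map_of_mem _ hf), f.2⟩
    have hle := comp_le_layer hH hL
    rintro x ⟨k, hk, rfl⟩
    have hk₁ : (⟨k, hKD hk⟩ : ↥((M ⊓ N).subgroupOf M)) ∈ K.subgroupOf ((M ⊓ N).subgroupOf M) := by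
      rw [Subgroup.mem_subgroupOf]
      exact hk
    have h1 : ((M ⊓ N).subgroupOf N).subtype (e ⟨k, hKD hk⟩) ∈ layer ↥N :=
      hle (Subgroup.mem_map_of_mem _ (Subgroup.mem_map_of_mem _ hk₁))
    exact ⟨_, h1, rfl⟩
  change Subgroup.map M.subtype (sSup {K : Subgroup ↥M | IsComponent K}) ≤ _
  rw [(Subgroup.gc_map_comap M.subtype).l_sSup]
  exact iSup₂_le key

theorem eq_bot_of_fstar_eq_bot (M : Subgroup G) (h : generalizedFittingSubgroup ↥M = ⊥) :
    M = ⊥ := by
  have h1 := centralizer_generalizedFitting_le (G := ↥M)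
  rw [h] at h1
  rw [eq_bot_iff]
  intro g hg
  have h2 : (⟨g, hg⟩ : ↥M) ∈ Subgroup.centralizer (((⊥ : Subgroup ↥M) : Subgroup ↥M) : Set ↥M) := by
    rw [Subgroup.mem_centralizer_iff]
    intro x hx
    have hx' : x = 1 := Subgroup.mem_bot.mp hx
    rw [hx']
    simp
  have h3 := h1 h2
  rw [Subgroup.mem_bot] at h3
  rw [Subgroup.mem_bot]
  exact congrArg Subtype.val h3

end conc

/-- Bender's Theorem on primitive pairs. Two distinct subgroups M₁, M₂ of G form a primitive pair when, for {i, j} = {1, 2}, every non-trivial normal subgroup A of M_i contained in M₁ ∩ M₂ satisfies N_{M_j}(A) = M₁ ∩ M₂; the pair has characteristic p when moreover C_{M_i}(O_p(M_i)) ≤ O_p(M_i) for both i and O_p(M₁)O_p(M₂) ≤ M₁ ∩ M₂. If (M₁, M₂) is a primitive pair of the finite group G with F*(M₁) ≤ M₂ and F*(M₂) ≤ M₁, then for some prime p the pair has characteristic p. -/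
theorem result {G : Type*} [Group G] [Finite G] (M₁ M₂ : Subgroup G) (hne : M₁ ≠ M₂) (hP : ∀ A : Subgroup G, A ≠ ⊥ → A ≤ M₁ ⊓ M₂ → (M₁ ≤ Subgroup.normalizer (A : Set G) → M₂ ⊓ Subgroup.normalizer (A : Set G) = M₁ ⊓ M₂) ∧ (M₂ ≤ Subgroup.normalizer (A : Set G) → M₁ ⊓ Subgroup.normalizer (A : Set G) = M₁ ⊓ M₂)) (h₁ : (Cfsg.generalizedFittingSubgroup ↥M₁).map M₁.subtype ≤ M₂) (h₂ : (Cfsg.generalizedFittingSubgroup ↥M₂).map M₂.subtype ≤ M₁) : ∃ p : ℕ, p.Prime ∧ Subgroup.centralizer (Cfsg.pCore p ↥M₁ : Set ↥M₁) ≤ Cfsg.pCore p ↥M₁ ∧ Subgroup.centralizer (Cfsg.pCore p ↥M₂ : Set ↥M₂) ≤ Cfsg.pCore p ↥M₂ ∧ (Cfsg.pCore p ↥M₁).map M₁.subtype ⊔ (Cfsg.pCore p ↥M₂).map M₂.subtype ≤ M₁ ⊓ M₂ := by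
  have h₁' : fstarOf M₁ ≤ M₂ := h₁
  have h₂' : fstarOf M₂ ≤ M₁ := h₂
  have hex : ∃ p : ℕ, p.Prime ∧ Cfsg.pCoreOf p M₁ ≠ ⊥ ∧ Cfsg.pCoreOf p M₂ ≠ ⊥ := by
    by_cases hF1 : fittingSubgroup ↥M₁ = ⊥
    · by_cases hF2 : fittingSubgroup ↥M₂ = ⊥
      · exfalso
        have hE : (layer ↥M₁).map M₁.subtype = (layer ↥M₂).map M₂.subtype :=
          le_antisymm (layer_map_le h₁' h₂') (layer_map_le h₂' h₁')
        have hM1N : M₁ ≤ Subgroup.normalizer (((layer ↥M₁).map M₁.subtype : Subgroup G) : Set G) :=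
          (normal_iff_le_normalizer_map M₁ (layer ↥M₁)).mp inferInstance
        have hM2N : M₂ ≤ Subgroup.normalizer (((layer ↥M₁).map M₁.subtype : Subgroup G) : Set G) := by
          rw [hE]
          exact (normal_iff_le_normalizer_map M₂ (layer ↥M₂)).mp inferInstance
        by_cases hEb : (layer ↥M₁).map M₁.subtype = ⊥
        · have hl1 : layer ↥M₁ = ⊥ := by
            rwa [Subgroup.map_eq_bot_iff_of_injective _ M₁.subtype_injective] at hEb
          have hl2 : layer ↥M₂ = ⊥ := by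
            rw [hE] at hEb
            rwa [Subgroup.map_eq_bot_iff_of_injective _ M₂.subtype_injective] at hEb
          have hM1 : M₁ = ⊥ := eq_bot_of_fstar_eq_bot M₁ (by
            unfold generalizedFittingSubgroup
            rw [hl1, hF1, sup_bot_eq])
          have hM2 : M₂ = ⊥ := eq_bot_of_fstar_eq_bot M₂ (by
            unfold generalizedFittingSubgroup
            rw [hl2, hF2, sup_bot_eq])
          exact hne (hM1.trans hM2.symm)
        · have hEle : (layer ↥M₁).map M₁.subtype ≤ M₁ ⊓ M₂ := by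
            have h0 : (layer ↥M₁).map M₁.subtype ≤ fstarOf M₁ :=
              Subgroup.map_mono (layer_le_generalizedFittingSubgroup ↥M₁)
            exact le_inf (h0.trans (fstarOf_le M₁)) (h0.trans h₁')
          obtain ⟨ha, hb⟩ := hP _ hEb hEle
          have e1 := ha hM1N
          have e2 := hb hM2N
          rw [inf_eq_left.mpr hM2N] at e1
          rw [inf_eq_left.mpr hM1N] at e2
          exact hne (e2.trans e1.symm)
      · obtain ⟨q, hq, hqne⟩ := exists_pCore_ne_bot hF2
        haveI : Fact q.Prime := ⟨hq⟩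
        have hne2 : Cfsg.pCoreOf q M₂ ≠ ⊥ := by
          intro h0
          apply hqne
          have : (pCore q ↥M₂).map M₂.subtype = ⊥ := h0
          rwa [Subgroup.map_eq_bot_iff_of_injective _ M₂.subtype_injective] at this
        exact ⟨q, hq, pCoreOf_ne_bot_of h₂' h₁' hne2, hne2⟩
    · obtain ⟨q, hq, hqne⟩ := exists_pCore_ne_bot hF1
      haveI : Fact q.Prime := ⟨hq⟩
      have hne1 : Cfsg.pCoreOf q M₁ ≠ ⊥ := by
        intro h0
        apply hqne
        have : (pCore q ↥M₁).map M₁.subtype = ⊥ := h0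
        rwa [Subgroup.map_eq_bot_iff_of_injective _ M₁.subtype_injective] at this
      exact ⟨q, hq, hne1, pCoreOf_ne_bot_of h₁' h₂' hne1⟩
  obtain ⟨p, hp, hp1, hp2⟩ := hex
  haveI : Fact p.Prime := ⟨hp⟩
  obtain ⟨c1, c2⟩ := charp_of_common M₁ M₂ hne hP h₁' h₂' hp1 hp2
  refine ⟨p, hp, (charP_iff M₁).mpr c1, (charP_iff M₂).mpr c2, ?_⟩
  exact sup_le (le_inf (pCoreOf_le M₁) ((pCoreOf_le_fstarOf p M₁).trans h₁'))
    (le_inf ((pCoreOf_le_fstarOf p M₂).trans h₂') (pCoreOf_le M₂))

end Cfsg.Agent.S3752
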