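import Cfsg.Statements.S3753
import Cfsg.Agent.Lib.Helper1_KInfAny

set_option autoImplicit false
open Cfsg

namespace Cfsg.Agent.S3753

/-- Two distinct subgroups M₁, M₂ of G form a primitive pair when, for {i, j} = {1, 2}, every non-trivial normal subgroup A of M_i contained in M₁ ∩ M₂ satisfies N_{M_j}(A) = M₁ ∩ M₂; the pair has characteristic p when moreover C_{M_i}(O_p(M_i)) ≤ O_p(M_i) for both i and O_p(M₁)O_p(M₂) ≤ M₁ ∩ M₂. If the finite group G has a primitive pair (M₁, M₂) of characteristic p for some prime p, then M₁ or M₂ has non-abelian Sylow 2-subgroups. In particular no group of odd order has a primitive pair of characteristic p. -/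
theorem result {G : Type*} [Group G] [Finite G] {p : ℕ} [Fact p.Prime] (M₁ M₂ : Subgroup G) (hne : M₁ ≠ M₂) (hP : ∀ A : Subgroup G, A ≠ ⊥ → A ≤ M₁ ⊓ M₂ → (M₁ ≤ Subgroup.normalizer (A : Set G) → M₂ ⊓ Subgroup.normalizer (A : Set G) = M₁ ⊓ M₂) ∧ (M₂ ≤ Subgroup.normalizer (A : Set G) → M₁ ⊓ Subgroup.normalizer (A : Set G) = M₁ ⊓ M₂)) (hc₁ : Subgroup.centralizer (Cfsg.pCore p ↥M₁ : Set ↥M₁) ≤ Cfsg.pCore p ↥M₁) (hc₂ : Subgroup.centralizer (Cfsg.pCore p ↥M₂ : Set ↥M₂) ≤ Cfsg.pCore p ↥M₂) (hO : (Cfsg.pCore p ↥M₁).map M₁.subtype ⊔ (Cfsg.pCore p ↥M₂).map M₂.subtype ≤ M₁ ⊓ M₂) : (∃ S : Sylow 2 ↥M₁, ¬ IsMulCommutative (S : Subgroup ↥M₁)) ∨ (∃ S : Sylow 2 ↥M₂, ¬ IsMulCommutative (S : Subgroup ↥M₂)) := by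
  classical
  by_contra hcon
  rw [not_or] at hcon
  obtain ⟨hab₁', hab₂'⟩ := hcon
  have hab₁ : ∀ T : Sylow 2 ↥M₁, IsMulCommutative (T : Subgroup ↥M₁) := by
    intro T
    by_contra h
    exact hab₁' ⟨T, h⟩
  have hab₂ : ∀ T : Sylow 2 ↥M₂, IsMulCommutative (T : Subgroup ↥M₂) := by
    intro T
    by_contra h
    exact hab₂' ⟨T, h⟩
  -- a nontrivial subgroup of `M₁ ⊓ M₂` normalized by both is impossible
  have key : ∀ K : Subgroup G, K ≠ ⊥ → K ≤ M₁ ⊓ M₂ → M₁ ≤ Subgroup.normalizer (K : Set G) →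
      M₂ ≤ Subgroup.normalizer (K : Set G) → False := by
    intro K hK hKB h1 h2
    obtain ⟨e1, e2⟩ := hP K hK hKB
    have e1' := e1 h1
    have e2' := e2 h2
    rw [inf_eq_left.mpr h2] at e1'
    rw [inf_eq_left.mpr h1] at e2'
    apply hne
    apply le_antisymm
    · rw [e2']; exact inf_le_right
    · rw [e1']; exact inf_le_left
  set Q₁ : Subgroup G := (Cfsg.pCore p ↥M₁).map M₁.subtype with hQ₁
  set Q₂ : Subgroup G := (Cfsg.pCore p ↥M₂).map M₂.subtype with hQ₂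
  haveI hn₁ : (Cfsg.pCore p ↥M₁).Normal := Cfsg.Agent.Lib.Helper49_CharP.pCoreNormal p ↥M₁
  haveI hn₂ : (Cfsg.pCore p ↥M₂).Normal := Cfsg.Agent.Lib.Helper49_CharP.pCoreNormal p ↥M₂
  have hp₁ : IsPGroup p ↥(Cfsg.pCore p ↥M₁) := Cfsg.Agent.Lib.Helper49_CharP.pCore_isPGroup p ↥M₁
  have hp₂ : IsPGroup p ↥(Cfsg.pCore p ↥M₂) := Cfsg.Agent.Lib.Helper49_CharP.pCore_isPGroup p ↥M₂
  have hQ₁p : IsPGroup p ↥Q₁ := hp₁.map _
  have hQ₂p : IsPGroup p ↥Q₂ := hp₂.map _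
  have hN₁ : M₁ ≤ Subgroup.normalizer (Q₁ : Set G) :=
    Cfsg.Agent.Lib.Helper54_KInf.le_normalizer_map_subtype' _
  have hN₂ : M₂ ≤ Subgroup.normalizer (Q₂ : Set G) :=
    Cfsg.Agent.Lib.Helper54_KInf.le_normalizer_map_subtype' _
  have hQ₁B : Q₁ ≤ M₁ ⊓ M₂ := le_sup_left.trans hO
  have hQ₂B : Q₂ ≤ M₁ ⊓ M₂ := le_sup_right.trans hO
  -- `Q_i = ⊥` forces `M_i = ⊥`
  have hbot₁ : Q₁ = ⊥ → M₁ = ⊥ := by
    intro h
    have h1 : Cfsg.pCore p ↥M₁ = ⊥ := by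
      rw [← Subgroup.map_eq_bot_iff_of_injective _ M₁.subtype_injective]
      exact h
    rw [eq_bot_iff]
    intro x hx
    have h2 : (⟨x, hx⟩ : ↥M₁) ∈ Cfsg.pCore p ↥M₁ := by
      apply hc₁
      rw [h1, Subgroup.mem_centralizer_iff]
      intro y hy
      have hy1 : y = 1 := hy
      rw [hy1, one_mul, mul_one]
    rw [h1, Subgroup.mem_bot] at h2
    rw [Subgroup.mem_bot]
    exact congrArg Subtype.val h2
  have hbot₂ : Q₂ = ⊥ → M₂ = ⊥ := by
    intro h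
    have h1 : Cfsg.pCore p ↥M₂ = ⊥ := by
      rw [← Subgroup.map_eq_bot_iff_of_injective _ M₂.subtype_injective]
      exact h
    rw [eq_bot_iff]
    intro x hx
    have h2 : (⟨x, hx⟩ : ↥M₂) ∈ Cfsg.pCore p ↥M₂ := by
      apply hc₂
      rw [h1, Subgroup.mem_centralizer_iff]
      intro y hy
      have hy1 : y = 1 := hy
      rw [hy1, one_mul, mul_one]
    rw [h1, Subgroup.mem_bot] at h2
    rw [Subgroup.mem_bot]
    exact congrArg Subtype.val h2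
  set S : Subgroup G := Q₁ ⊔ Q₂ with hS
  have hSB : S ≤ M₁ ⊓ M₂ := hO
  have hSp : IsPGroup p ↥S :=
    IsPGroup.to_sup_of_normal_left' hQ₁p hQ₂p ((hQ₂B.trans inf_le_left).trans hN₁)
  have hSne : S ≠ ⊥ := by
    intro h
    have h1 : Q₁ = ⊥ := by
      rw [eq_bot_iff, ← h]; exact le_sup_left
    have h2 : Q₂ = ⊥ := by
      rw [eq_bot_iff, ← h]; exact le_sup_right
    apply hne
    rw [hbot₁ h1, hbot₂ h2]
  rcases eq_or_ne p 2 with hp2 | hp2
  · -- `p = 2`: `O_2(M_i)` is the Sylow `2`-subgroup of `M_i`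
    subst hp2
    have hle₁ : ∀ P : Subgroup ↥M₁, IsPGroup 2 ↥P → P ≤ Cfsg.pCore 2 ↥M₁ := by
      intro P hPp
      obtain ⟨T, hT⟩ := hPp.exists_le_sylow
      have hcore : Cfsg.pCore 2 ↥M₁ ≤ (T : Subgroup ↥M₁) :=
        Cfsg.Agent.Lib.Helper49_CharP.pCore_le_sylow T
      have hcomm := hab₁ T
      refine hT.trans (fun x hx => hc₁ ?_)
      rw [Subgroup.mem_centralizer_iff]
      intro y hy
      have h1 := hcomm.is_comm.comm (⟨y, hcore hy⟩ : ↥(T : Subgroup ↥M₁)) ⟨x, hx⟩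
      exact congrArg Subtype.val h1
    have hle₂ : ∀ P : Subgroup ↥M₂, IsPGroup 2 ↥P → P ≤ Cfsg.pCore 2 ↥M₂ := by
      intro P hPp
      obtain ⟨T, hT⟩ := hPp.exists_le_sylow
      have hcore : Cfsg.pCore 2 ↥M₂ ≤ (T : Subgroup ↥M₂) :=
        Cfsg.Agent.Lib.Helper49_CharP.pCore_le_sylow T
      have hcomm := hab₂ T
      refine hT.trans (fun x hx => hc₂ ?_)
      rw [Subgroup.mem_centralizer_iff]
      intro y hy
      have h1 := hcomm.is_comm.comm (⟨y, hcore hy⟩ : ↥(T : Subgroup ↥M₂)) ⟨x, hx⟩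
      exact congrArg Subtype.val h1
    have hS₁ : S ≤ Q₁ := by
      have h1 := hle₁ (S.subgroupOf M₁) hSp.comap_subtype
      have h2 := Subgroup.map_mono (f := M₁.subtype) h1
      rwa [Subgroup.map_subgroupOf_eq_of_le (hSB.trans inf_le_left)] at h2
    have hS₂ : S ≤ Q₂ := by
      have h1 := hle₂ (S.subgroupOf M₂) hSp.comap_subtype
      have h2 := Subgroup.map_mono (f := M₂.subtype) h1
      rwa [Subgroup.map_subgroupOf_eq_of_le (hSB.trans inf_le_right)] at h2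
    have e₁ : S = Q₁ := le_antisymm hS₁ le_sup_left
    have e₂ : S = Q₂ := le_antisymm hS₂ le_sup_right
    refine key S hSne hSB ?_ ?_
    · rw [e₁]; exact hN₁
    · rw [e₂]; exact hN₂
  · -- `p` odd: `K_∞(S)` is normal in both
    have hst₁ := Cfsg.Agent.Lib.Helper1_KInfAny.secStable_of_abelian_sylow_two (X := ↥M₁) hp2 hab₁
    have hst₂ := Cfsg.Agent.Lib.Helper1_KInfAny.secStable_of_abelian_sylow_two (X := ↥M₂) hp2 hab₂
    have hcore₁ : Cfsg.pCore p ↥M₁ ≤ S.subgroupOf M₁ := by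
      intro x hx
      rw [Subgroup.mem_subgroupOf]
      exact (le_sup_left : Q₁ ≤ S) ⟨x, hx, rfl⟩
    have hcore₂ : Cfsg.pCore p ↥M₂ ≤ S.subgroupOf M₂ := by
      intro x hx
      rw [Subgroup.mem_subgroupOf]
      exact (le_sup_right : Q₂ ≤ S) ⟨x, hx, rfl⟩
    have hSp₁ : IsPGroup p ↥(S.subgroupOf M₁) := hSp.comap_subtype
    have hSp₂ : IsPGroup p ↥(S.subgroupOf M₂) := hSp.comap_subtype
    have hnorm₁ := (Cfsg.Agent.Lib.Helper1_KInfAny.kInf_normal_of_le hst₁ hc₁ _ hSp₁ hcore₁).1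
    have hnorm₂ := (Cfsg.Agent.Lib.Helper1_KInfAny.kInf_normal_of_le hst₂ hc₂ _ hSp₂ hcore₂).1
    have hm₁ := Cfsg.Agent.Lib.Helper34_NPC.inducedFunctor_map
      (Cfsg.Agent.Lib.Helper54_KInf.isCharPFunctor_kInfLower p) M₁.subtype (S.subgroupOf M₁) hSp₁
      (fun x _ hx => M₁.subtype_injective (by rw [hx, map_one]))
    have hm₂ := Cfsg.Agent.Lib.Helper34_NPC.inducedFunctor_map
      (Cfsg.Agent.Lib.Helper54_KInf.isCharPFunctor_kInfLower p) M₂.subtype (S.subgroupOf M₂) hSp₂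
      (fun x _ hx => M₂.subtype_injective (by rw [hx, map_one]))
    rw [Subgroup.map_subgroupOf_eq_of_le (hSB.trans inf_le_left)] at hm₁
    rw [Subgroup.map_subgroupOf_eq_of_le (hSB.trans inf_le_right)] at hm₂
    refine key (Cfsg.inducedFunctor Cfsg.kInfLower S) ?_ ?_ ?_ ?_
    · exact Cfsg.Agent.Lib.Helper34_NPC.inducedFunctor_ne_bot
        (Cfsg.Agent.Lib.Helper54_KInf.isCharPFunctor_kInfLower p) hSp hSne
    · exact (Cfsg.Agent.Lib.Helper34_NPC.inducedFunctor_le _ S).trans hSB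
    · rw [hm₁]
      exact Cfsg.Agent.Lib.Helper54_KInf.le_normalizer_map_subtype' _
    · rw [hm₂]
      exact Cfsg.Agent.Lib.Helper54_KInf.le_normalizer_map_subtype' _

end Cfsg.Agent.S3753
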