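import Cfsg.Statements.S3755
import Cfsg.Agent.S3739
import Cfsg.Agent.S0028
import Cfsg.Agent.S0055
import Cfsg.Agent.S5299
import Cfsg.Agent.Lib.Helper48_Generation
import Cfsg.Agent.Lib.Helper47_SubAPI

set_option autoImplicit false
set_option linter.style.haveILetI false
set_option linter.unusedSectionVars false
open Cfsg

namespace Cfsg.Agent.S3755

open Cfsg.Agent.Lib.Helper62_Count Cfsg.Agent.Lib.Helper1_Cores Cfsg.Agent.S3739
  Cfsg.Agent.Lib.Helper24_CoprimeAction
open scoped commutatorElement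

section transvection

variable {X : Type*} [Group X] [Finite X]

/-- an element of odd order is a power of its square -/
theorem mem_zpowers_sq {k : X} (hk : (orderOf k).Coprime 2) : k ∈ Subgroup.zpowers (k ^ 2) := by
  have hodd : Odd (orderOf k) := by
    rw [Nat.odd_iff]
    have := Nat.Coprime.eq_one_of_dvd hk.symm
    by_contra h
    have h2 : 2 ∣ orderOf k := by omega
    have := Nat.Coprime.eq_one_of_dvd hk.symm h2
    omega
  obtain ⟨j, hj⟩ := hodd
  refine ⟨((j + 1 : ℕ) : ℤ), ?_⟩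
  change (k ^ 2) ^ ((j + 1 : ℕ) : ℤ) = k
  rw [zpow_natCast, ← pow_mul]
  have : 2 * (j + 1) = orderOf k + 1 := by omega
  rw [this, pow_succ, pow_orderOf_eq_one, one_mul]

theorem centralizer_zpowers_eq (k : X) :
    Subgroup.centralizer ((Subgroup.zpowers k : Subgroup X) : Set X) = Subgroup.centralizer {k} := by
  rw [Subgroup.zpowers_eq_closure, Subgroup.centralizer_closure]

/-- the four-group `W = [V₀, k]` produced by a transvection `a` inverting the odd-order element `k` -/
theorem four_group_of_transvection (V0 : Subgroup X)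
    (hV0c : ∀ x ∈ V0, ∀ y ∈ V0, x * y = y * x) (hV02 : IsPGroup 2 V0)
    (a k : X) (ha2 : a ^ 2 = 1) (hak : a * k * a⁻¹ = k⁻¹)
    (hkodd : (orderOf k).Coprime 2) (haV : a ∈ Subgroup.normalizer (V0 : Set X))
    (hkV : k ∈ Subgroup.normalizer (V0 : Set X))
    (hidx : (V0 ⊓ Subgroup.centralizer {a}).relIndex V0 ≤ 2)
    (hk : k ∉ Subgroup.centralizer (V0 : Set X)) :
    ∃ W : Subgroup X, Nat.card W = 4 ∧ a ∈ Subgroup.normalizer (W : Set X) ∧
      k ∈ Subgroup.normalizer (W : Set X) ∧ (∀ w ∈ W, k * w * k⁻¹ = w → w = 1) ∧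
      ¬ (∀ w ∈ W, a * w * a⁻¹ = w) := by
  classical
  haveI : Fact (Nat.Prime 2) := ⟨Nat.prime_two⟩
  have hainv : a⁻¹ = a := by
    rw [inv_eq_iff_mul_eq_one, ← pow_two, ha2]
  -- the conjugate transvection
  set f : X →* X := (MulAut.conj k).toMonoidHom with hf
  have hfinj : Function.Injective f := (MulAut.conj k).injective
  have hV0map : V0.map f = V0 := by
    have := (Subgroup.mem_normalizer_iff_map_conj_eq (H := V0)).mp hkV
    exact this
  have hUmap : (V0 ⊓ Subgroup.centralizer {a}).map f = V0 ⊓ Subgroup.centralizer {k * a * k⁻¹} := by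
    ext x
    constructor
    · rintro ⟨y, ⟨hyV, hya⟩, rfl⟩
      refine ⟨(Subgroup.mem_normalizer_iff.mp hkV y).mp hyV, ?_⟩
      change k * y * k⁻¹ ∈ Subgroup.centralizer {k * a * k⁻¹}
      have hya' : y ∈ Subgroup.centralizer {a} := hya
      rw [Subgroup.mem_centralizer_singleton_iff] at hya' ⊢
      calc k * y * k⁻¹ * (k * a * k⁻¹) = k * (y * a) * k⁻¹ := by group
        _ = k * (a * y) * k⁻¹ := by rw [hya']
        _ = k * a * k⁻¹ * (k * y * k⁻¹) := by group
    · rintro ⟨hxV, hxa⟩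
      have hxa' : x ∈ Subgroup.centralizer {k * a * k⁻¹} := hxa
      rw [Subgroup.mem_centralizer_singleton_iff] at hxa'
      refine ⟨k⁻¹ * x * k, ⟨?_, ?_⟩, ?_⟩
      · change k⁻¹ * x * k ∈ V0
        rw [Subgroup.mem_normalizer_iff.mp hkV]
        have : k * (k⁻¹ * x * k) * k⁻¹ = x := by group
        rwa [this]
      · change k⁻¹ * x * k ∈ Subgroup.centralizer {a}
        rw [Subgroup.mem_centralizer_singleton_iff]
        calc k⁻¹ * x * k * a = k⁻¹ * (x * (k * a * k⁻¹)) * k := by group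
          _ = k⁻¹ * ((k * a * k⁻¹) * x) * k := by rw [hxa']
          _ = a * (k⁻¹ * x * k) := by group
      · change k * (k⁻¹ * x * k) * k⁻¹ = x
        group
  have hidx' : (V0 ⊓ Subgroup.centralizer {k * a * k⁻¹}).relIndex V0 ≤ 2 := by
    have := Subgroup.relIndex_map_map_of_injective (V0 ⊓ Subgroup.centralizer {a}) V0 hfinj
    rw [hUmap, hV0map] at this
    rw [this]
    exact hidx
  -- `C_{V₀}(k)` has index at most four
  have hle : (V0 ⊓ Subgroup.centralizer {a}) ⊓ (V0 ⊓ Subgroup.centralizer {k * a * k⁻¹}) ≤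
      V0 ⊓ Subgroup.centralizer {k} := by
    rintro x ⟨⟨hxV, hxa⟩, ⟨-, hxa'⟩⟩
    refine ⟨hxV, ?_⟩
    have h1 : x ∈ Subgroup.centralizer {a} := hxa
    have h2 : x ∈ Subgroup.centralizer {k * a * k⁻¹} := hxa'
    rw [Subgroup.mem_centralizer_singleton_iff] at h1 h2
    -- `x` commutes with `a * (k a k⁻¹) = k⁻²`
    have e : a * (k * a * k⁻¹) = (k ^ 2)⁻¹ := by
      have h3 : a * k * a = k⁻¹ := by
        have := hak
        rw [hainv] at this
        exact this
      calc a * (k * a * k⁻¹) = (a * k * a) * k⁻¹ := by group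
        _ = k⁻¹ * k⁻¹ := by rw [h3]
        _ = (k ^ 2)⁻¹ := by group
    have h4 : Commute x ((k ^ 2)⁻¹) := by
      rw [← e]
      exact (show Commute x a from h1).mul_right (show Commute x (k * a * k⁻¹) from h2)
    have h5 : Commute x (k ^ 2) := by
      have := h4.inv_right
      rwa [inv_inv] at this
    obtain ⟨j, hj⟩ := Subgroup.mem_zpowers_iff.mp (mem_zpowers_sq hkodd)
    change x ∈ Subgroup.centralizer {k}
    rw [Subgroup.mem_centralizer_singleton_iff, ← hj]
    exact (h5.zpow_right j).eq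
  have hrel4 : (V0 ⊓ Subgroup.centralizer {k}).relIndex V0 ≤ 4 := by
    have h1 := Subgroup.relIndex_inf_le (H := V0 ⊓ Subgroup.centralizer {a})
      (K := V0 ⊓ Subgroup.centralizer {k * a * k⁻¹}) (L := V0)
    have h2 := Subgroup.relIndex_dvd_of_le_left V0 hle
    have hpos : 0 < ((V0 ⊓ Subgroup.centralizer {a}) ⊓
        (V0 ⊓ Subgroup.centralizer {k * a * k⁻¹})).relIndex V0 :=
      Nat.pos_of_dvd_of_pos (Subgroup.relIndex_dvd_card _ _) Nat.card_pos
    have h3 := Nat.le_of_dvd hpos h2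
    calc (V0 ⊓ Subgroup.centralizer {k}).relIndex V0 ≤ _ := h3
      _ ≤ _ := h1
      _ ≤ 2 * 2 := Nat.mul_le_mul hidx hidx'
  -- `W = [V₀, ⟨k⟩]`
  haveI hV0comm : IsMulCommutative ↥V0 := ⟨⟨fun x y => Subtype.ext (hV0c x x.2 y y.2)⟩⟩
  have hkN : Subgroup.zpowers k ≤ Subgroup.normalizer (V0 : Set X) := Subgroup.zpowers_le.mpr hkV
  have hcop : (Nat.card ↥(Subgroup.zpowers k)).Coprime (Nat.card ↥V0) := by
    obtain ⟨m, hm⟩ := IsPGroup.iff_card.mp hV02
    rw [Nat.card_zpowers, hm]
    exact Nat.Coprime.pow_right m hkodd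
  obtain ⟨hdisj, -⟩ := Cfsg.Agent.S0055.result (Subgroup.zpowers k) V0 hkN hcop
  rw [centralizer_zpowers_eq] at hdisj
  set W := ⁅V0, Subgroup.zpowers k⁆ with hW
  have hWV : W ≤ V0 := commutator_le_of_le_normalizer V0 _ hkN
  have hWne : W ≠ ⊥ := by
    intro h
    apply hk
    rw [hW, Subgroup.commutator_eq_bot_iff_le_centralizer, ← Subgroup.le_centralizer_iff] at h
    exact h (Subgroup.mem_zpowers k)
  have hW2 : IsPGroup 2 ↥W := hV02.to_le hWV
  -- `|W| ≤ 4`
  have hWle : Nat.card ↥W ≤ 4 := by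
    have hinj := Subgroup.mul_injective_of_disjoint (disjoint_iff.mpr hdisj)
    have h1 : Nat.card (↥(V0 ⊓ Subgroup.centralizer {k}) × ↥W) ≤ Nat.card ↥V0 := by
      refine Nat.card_le_card_of_injective
        (fun g : ↥(V0 ⊓ Subgroup.centralizer {k}) × ↥W =>
          (⟨(g.1 : X) * (g.2 : X), V0.mul_mem g.1.2.1 (hWV g.2.2)⟩ : ↥V0)) ?_
      intro g g' h
      exact hinj (congrArg Subtype.val h)
    rw [Nat.card_prod] at h1
    have h2 : (V0 ⊓ Subgroup.centralizer {k}).relIndex V0 * Nat.card ↥(V0 ⊓ Subgroup.centralizer {k})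
        = Nat.card ↥V0 := by
      have := Subgroup.relIndex_mul_relIndex ⊥ (V0 ⊓ Subgroup.centralizer {k}) V0 bot_le inf_le_left
      rw [Subgroup.relIndex_bot_left, Subgroup.relIndex_bot_left] at this
      rw [mul_comm]; exact this
    have hpos : 0 < Nat.card ↥(V0 ⊓ Subgroup.centralizer {k}) := Nat.card_pos
    have h3 : Nat.card ↥W ≤ (V0 ⊓ Subgroup.centralizer {k}).relIndex V0 := by
      rw [← h2, mul_comm] at h1
      exact Nat.le_of_mul_le_mul_right h1 hpos
    exact h3.trans hrel4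
  have hkW : k ∈ Subgroup.normalizer (W : Set X) :=
    mem_normalizer_commutator V0 _ hkV (Subgroup.le_normalizer (Subgroup.mem_zpowers k))
  have hnofix : ∀ w ∈ W, k * w * k⁻¹ = w → w = 1 := by
    intro w hw h
    have : w ∈ (V0 ⊓ Subgroup.centralizer {k}) ⊓ W := by
      refine ⟨⟨hWV hw, ?_⟩, hw⟩
      change w ∈ Subgroup.centralizer {k}
      rw [Subgroup.mem_centralizer_singleton_iff]
      exact (conj_eq_iff_comm.mp h).symm
    rw [hdisj, Subgroup.mem_bot] at this
    exact this
  have hW4 : Nat.card ↥W = 4 := by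
    rcases card_two_or_four W hW2 hWne hWle with h | h
    · exfalso
      obtain ⟨⟨w, hw⟩, hw1⟩ := (Subgroup.ne_bot_iff_exists_ne_one).mp hWne
      exact hw1 (Subtype.ext (hnofix w hw (fixed_of_card_two h hkW hw)))
    · exact h
  have haW : a ∈ Subgroup.normalizer (W : Set X) := by
    apply mem_normalizer_commutator V0 _ haV
    rw [Subgroup.mem_normalizer_iff]
    intro h
    constructor
    · intro hh
      obtain ⟨j, rfl⟩ := Subgroup.mem_zpowers_iff.mp hh
      rw [← conj_zpow, hak, inv_zpow, ← zpow_neg]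
      exact Subgroup.zpow_mem_zpowers k _
    · intro hh
      obtain ⟨j, hj⟩ := Subgroup.mem_zpowers_iff.mp hh
      have e : h = a * (a * h * a⁻¹) * a⁻¹ := by
        rw [hainv]
        have h1 : a * a = 1 := by rw [← pow_two, ha2]
        calc h = (a * a) * h * (a * a) := by rw [h1]; group
          _ = a * (a * h * a) * a := by group
      rw [e, ← hj, ← conj_zpow, hak, inv_zpow, ← zpow_neg]
      exact Subgroup.zpow_mem_zpowers k _
  refine ⟨W, hW4, haW, hkW, hnofix, ?_⟩
  intro hall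
  -- `a` centralises `W` and inverts `k`: then `k²` centralises `W`
  obtain ⟨⟨w, hw⟩, hw1⟩ := (Subgroup.ne_bot_iff_exists_ne_one).mp hWne
  apply hw1
  apply Subtype.ext
  apply hnofix w hw
  have hkw : k * w * k⁻¹ ∈ W := (Subgroup.mem_normalizer_iff.mp hkW w).mp hw
  have h1 := hall _ hkw
  have h2 := hall w hw
  -- `a (k w k⁻¹) a⁻¹ = k⁻¹ (a w a⁻¹) k`
  have h3 : a * (k * w * k⁻¹) * a⁻¹ = k⁻¹ * (a * w * a⁻¹) * k := by
    calc a * (k * w * k⁻¹) * a⁻¹ = (a * k * a⁻¹) * (a * w * a⁻¹) * (a * k * a⁻¹)⁻¹ := by group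
      _ = k⁻¹ * (a * w * a⁻¹) * k := by rw [hak, inv_inv]
  rw [h3, h2] at h1
  -- `k⁻¹ w k = k w k⁻¹` so `k²` commutes with `w`
  have h4 : Commute (k ^ 2) w := by
    have : k ^ 2 * w = w * k ^ 2 := by
      rw [pow_two]
      calc k * k * w = k * (k * w * k⁻¹) * k := by group
        _ = k * (k⁻¹ * w * k) * k := by rw [h1]
        _ = w * (k * k) := by group
    exact this
  obtain ⟨j, hj⟩ := Subgroup.mem_zpowers_iff.mp (mem_zpowers_sq hkodd)
  have h5 : Commute k w := by
    rw [← hj]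
    exact h4.zpow_left j
  exact conj_eq_iff_comm.mpr h5.eq

/-- an involution and an odd-order element acting suitably on a four-group give an `S₃` section -/
theorem involves_of_four_group (M W : Subgroup X) (hW4 : Nat.card W = 4)
    (a k : X) (haM : a ∈ M) (hkM : k ∈ M) (ha2 : a ^ 2 = 1) (hkodd : (orderOf k).Coprime 2)
    (haW : a ∈ Subgroup.normalizer (W : Set X)) (hkW : k ∈ Subgroup.normalizer (W : Set X))
    (hnofix : ∀ w ∈ W, k * w * k⁻¹ = w → w = 1)
    (hamove : ¬ ∀ w ∈ W, a * w * a⁻¹ = w) : Cfsg.Involves (Equiv.Perm (Fin 3)) ↥M := by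
  classical
  set D : Subgroup X := M ⊓ Subgroup.normalizer (W : Set X) with hD
  set S : Set X := {w | w ∈ W ∧ w ≠ 1} with hS
  have hU : ∀ x ∈ D, ∀ g ∈ S, x * g * x⁻¹ ∈ S := by
    rintro x ⟨-, hx⟩ g ⟨hgW, hg1⟩
    refine ⟨(Subgroup.mem_normalizer_iff.mp hx g).mp hgW, ?_⟩
    intro h
    apply hg1
    have h2 := congrArg (fun v => x⁻¹ * v * x) h
    simpa [mul_assoc] using h2
  letI := conjSetAction D S hU
  haveI : Fintype ↥S := Fintype.ofFinite _
  -- `|S| = 3`
  have hScard : Fintype.card ↥S = 3 := by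
    have hinj : Function.Injective (fun o : Option ↥S =>
        (match o with
          | none => (1 : ↥W)
          | some s => ⟨s.1, s.2.1⟩ : ↥W)) := by
      intro x y h
      have h' := congrArg Subtype.val h
      rcases x with _ | s <;> rcases y with _ | s'
      · rfl
      · exact absurd h'.symm s'.2.2
      · exact absurd h' s.2.2
      · change s.1 = s'.1 at h'
        rw [Subtype.ext h']
    have hsurj : Function.Surjective (fun o : Option ↥S =>
        (match o with
          | none => (1 : ↥W)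
          | some s => ⟨s.1, s.2.1⟩ : ↥W)) := by
      intro w
      by_cases hw : (w : X) = 1
      · exact ⟨none, Subtype.ext hw.symm⟩
      · exact ⟨some ⟨w.1, w.2, hw⟩, rfl⟩
    have := Nat.card_congr (Equiv.ofBijective _ ⟨hinj, hsurj⟩)
    rw [hW4, Nat.card_eq_fintype_card, Fintype.card_option] at this
    omega
  set φ : ↥D →* Equiv.Perm ↥S := MulAction.toPermHom ↥D ↥S with hφ
  have hcardP : Nat.card (Equiv.Perm ↥S) = 6 := by
    rw [Nat.card_eq_fintype_card, Fintype.card_perm, hScard]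
    rfl
  have haD : a ∈ D := ⟨haM, haW⟩
  have hkD : k ∈ D := ⟨hkM, hkW⟩
  -- the image of `a` has order two
  have hφa : orderOf (φ ⟨a, haD⟩) = 2 := by
    haveI : Fact (Nat.Prime 2) := ⟨Nat.prime_two⟩
    apply orderOf_eq_prime
    · rw [← map_pow]
      have : (⟨a, haD⟩ : ↥D) ^ 2 = 1 := Subtype.ext (by simpa using ha2)
      rw [this, map_one]
    · intro h
      apply hamove
      intro w hw
      by_cases hw1 : w = 1
      · rw [hw1]; group
      · have := congrArg (fun σ : Equiv.Perm ↥S => (σ ⟨w, hw, hw1⟩ : X)) h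
        exact this
  -- the image of `k` has order three
  have hφk : orderOf (φ ⟨k, hkD⟩) = 3 := by
    have h1 : orderOf (φ ⟨k, hkD⟩) ∣ orderOf k := by
      have := orderOf_map_dvd φ (⟨k, hkD⟩ : ↥D)
      rwa [Subgroup.orderOf_mk] at this
    have h2 : orderOf (φ ⟨k, hkD⟩) ∣ 6 := by
      rw [← hcardP]; exact orderOf_dvd_natCard _
    have h3 : orderOf (φ ⟨k, hkD⟩) ≠ 1 := by
      intro h
      rw [orderOf_eq_one_iff] at h
      have hne : Nonempty ↥S := by
        rw [← Fintype.card_pos_iff, hScard]; norm_num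
      obtain ⟨s⟩ := hne
      have := congrArg (fun σ : Equiv.Perm ↥S => (σ s : X)) h
      exact s.2.2 (hnofix s.1 s.2.1 this)
    have h4 : (orderOf (φ ⟨k, hkD⟩)).Coprime 2 := Nat.Coprime.coprime_dvd_left h1 hkodd
    have h5 : orderOf (φ ⟨k, hkD⟩) ∣ 3 := by
      have : orderOf (φ ⟨k, hkD⟩) ∣ 2 * 3 := h2
      exact (Nat.Coprime.dvd_mul_left h4).mp this
    rcases (Nat.dvd_prime Nat.prime_three).mp h5 with h | h
    · exact absurd h h3
    · exact h
  have hsurj : Function.Surjective φ := by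
    rw [← MonoidHom.range_eq_top]
    apply Subgroup.eq_top_of_card_eq
    have h2 : 2 ∣ Nat.card ↥φ.range := by
      rw [← hφa]; exact Subgroup.orderOf_dvd_natCard _ ⟨_, rfl⟩
    have h3 : 3 ∣ Nat.card ↥φ.range := by
      rw [← hφk]; exact Subgroup.orderOf_dvd_natCard _ ⟨_, rfl⟩
    have h6 : Nat.card ↥φ.range ∣ 6 := by
      rw [← hcardP]; exact Subgroup.card_subgroup_dvd_card _
    rw [hcardP]
    have h6' : 6 ∣ Nat.card ↥φ.range :=
      Nat.Coprime.mul_dvd_of_dvd_of_dvd (by norm_num) h2 h3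
    exact Nat.dvd_antisymm h6 h6'
  rw [Cfsg.Agent.S5299.involves_iff]
  refine ⟨D.subgroupOf M,
    ((Fintype.equivFinOfCardEq hScard).permCongrHom.toMonoidHom.comp φ).comp
      (Subgroup.subgroupOfEquivOfLe (inf_le_left : D ≤ M)).toMonoidHom, ?_⟩
  exact ((Fintype.equivFinOfCardEq hScard).permCongrHom.surjective.comp hsurj).comp
    (Subgroup.subgroupOfEquivOfLe (inf_le_left : D ≤ M)).surjective

theorem elementary_comm {A : Subgroup X} (hA : Cfsg.IsElementaryAbelian 2 A) {x y : X}
    (hx : x ∈ A) (hy : y ∈ A) : x * y = y * x := by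
  haveI := hA.1
  have h := mul_comm' (⟨x, hx⟩ : A) ⟨y, hy⟩
  exact congrArg Subtype.val h

/-- a subgroup of an elementary abelian subgroup is elementary abelian -/
theorem elementary_mono {A B : Subgroup X} (hA : Cfsg.IsElementaryAbelian 2 A) (hBA : B ≤ A) :
    Cfsg.IsElementaryAbelian 2 B := by
  refine ⟨⟨⟨fun x y => ?_⟩⟩, fun b hb => hA.2 b (hBA hb)⟩
  apply Subtype.ext
  exact elementary_comm hA (hBA x.2) (hBA y.2)

theorem elementary_le_centralizer {A B : Subgroup X} (hA : Cfsg.IsElementaryAbelian 2 A)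
    (hBA : B ≤ A) : A ≤ Subgroup.centralizer (B : Set X) := by
  intro x hx
  rw [Subgroup.mem_centralizer_iff]
  intro y hy
  exact elementary_comm hA (hBA hy) hx

/-- centralizing `B` and `c` means centralizing `B ⊔ ⟨c⟩` -/
theorem centralizer_sup_zpowers (B : Subgroup X) (c : X) :
    Subgroup.centralizer (B : Set X) ⊓ Subgroup.centralizer {c} ≤
      Subgroup.centralizer ((B ⊔ Subgroup.zpowers c : Subgroup X) : Set X) := by
  intro x hx
  have h1 : B ≤ Subgroup.centralizer {x} := by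
    intro b hb
    rw [Subgroup.mem_centralizer_singleton_iff]
    exact (Subgroup.mem_centralizer_iff.mp hx.1 b hb)
  have h2 : Subgroup.zpowers c ≤ Subgroup.centralizer {x} := by
    rw [Subgroup.zpowers_le, Subgroup.mem_centralizer_singleton_iff]
    exact (Subgroup.mem_centralizer_singleton_iff.mp hx.2).symm
  rw [Subgroup.mem_centralizer_iff]
  intro y hy
  have := (sup_le h1 h2) hy
  rw [Subgroup.mem_centralizer_singleton_iff] at this
  exact this

theorem relIndex_pos_of_finite (H L : Subgroup X) : 0 < H.relIndex L := by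
  have h1 := Subgroup.relIndex_dvd_card H L
  have h2 : 0 < Nat.card L := Nat.card_pos
  exact Nat.pos_of_dvd_of_pos h1 h2

/-- the inductive core of the argument -/
theorem key (M V K : Subgroup X) (hV : Cfsg.IsElementaryAbelian 2 V)
    (hMV : M ≤ Subgroup.normalizer (V : Set X))
    (hfaith : M ⊓ Subgroup.centralizer (V : Set X) = ⊥)
    (hKM : K ≤ M) (hMK : M ≤ Subgroup.normalizer (K : Set X))
    (hKodd : (Nat.card K).Coprime 2)
    (hKcon : M ⊓ Subgroup.centralizer (K : Set X) ≤ K) :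
    ∀ n : ℕ, ∀ A : Subgroup X, Nat.card A = n → A ≤ M → Cfsg.IsElementaryAbelian 2 A →
      (V ⊓ Subgroup.centralizer (A : Set X)).relIndex V < Nat.card A ^ 2 →
      Cfsg.Involves (Equiv.Perm (Fin 3)) ↥M := by
  classical
  haveI : Fact (Nat.Prime 2) := ⟨Nat.prime_two⟩
  intro n
  induction n using Nat.strong_induction_on with
  | _ n ih =>
  intro A hAn hAM hA hsmall
  -- `A` is nontrivial
  have hAbot : A ≠ ⊥ := by
    rintro rfl
    have : Subgroup.centralizer (((⊥ : Subgroup X) : Subgroup X) : Set X) = ⊤ := by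
      rw [Subgroup.coe_bot, Subgroup.centralizer_eq_top_iff_subset]
      simp
    rw [this, inf_top_eq, Subgroup.relIndex_self, Subgroup.card_bot] at hsmall
    omega
  -- `K` does not centralize `A`
  have hKA : ¬ K ≤ Subgroup.centralizer (A : Set X) := by
    intro h
    have h1 : A ≤ K := fun x hx => hKcon ⟨hAM hx, (Subgroup.le_centralizer_iff.mp h) hx⟩
    have h2 : Nat.card A ∣ Nat.card K := Subgroup.card_dvd_of_le h1
    rcases (isPGroup_of_elementary hA).card_eq_or_dvd with h3 | h3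
    · exact hAbot (Subgroup.card_eq_one.mp h3)
    · have := Nat.Coprime.eq_one_of_dvd hKodd.symm (dvd_trans h3 h2)
      omega
  -- choose `B ≤ A` of maximal order with `C_K(B) ≰ C(A)`
  set 𝔅 : Set (Subgroup X) :=
    {B | B ≤ A ∧ ¬ (K ⊓ Subgroup.centralizer (B : Set X) ≤ Subgroup.centralizer (A : Set X))}
    with h𝔅
  have hbot : (⊥ : Subgroup X) ∈ 𝔅 := by
    refine ⟨bot_le, ?_⟩
    have : Subgroup.centralizer (((⊥ : Subgroup X) : Subgroup X) : Set X) = ⊤ := by
      rw [Subgroup.coe_bot, Subgroup.centralizer_eq_top_iff_subset]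
      simp
    rw [this, inf_top_eq]
    exact hKA
  obtain ⟨B, ⟨hBA, hBnot⟩, hBmax⟩ :=
    Set.exists_max_image 𝔅 (fun B => Nat.card B) (Set.toFinite _) ⟨⊥, hbot⟩
  obtain ⟨a, haA, haB⟩ : ∃ a ∈ A, a ∉ B := by
    by_contra hcon
    push Not at hcon
    have : A = B := le_antisymm hcon hBA
    apply hBnot
    rw [← this]
    exact inf_le_right
  -- consequence of maximality
  have hmax : ∀ c ∈ A, c ∉ B →
      K ⊓ Subgroup.centralizer (B : Set X) ⊓ Subgroup.centralizer {c} ≤
        Subgroup.centralizer (A : Set X) := by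
    intro c hcA hcB
    have h1 : B ⊔ Subgroup.zpowers c ∉ 𝔅 := by
      intro h
      have h2 := hBmax _ h
      have h3 : B = B ⊔ Subgroup.zpowers c := Subgroup.eq_of_le_of_card_ge le_sup_left h2
      apply hcB
      rw [h3]
      exact (le_sup_right : Subgroup.zpowers c ≤ _) (Subgroup.mem_zpowers c)
    have h4 : B ⊔ Subgroup.zpowers c ≤ A := sup_le hBA (Subgroup.zpowers_le.mpr hcA)
    have h5 : K ⊓ Subgroup.centralizer ((B ⊔ Subgroup.zpowers c : Subgroup X) : Set X) ≤
        Subgroup.centralizer (A : Set X) := by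
      by_contra h
      exact h1 ⟨h4, h⟩
    refine le_trans ?_ h5
    rw [inf_assoc]
    exact inf_le_inf_left _ (centralizer_sup_zpowers B c)
  have hQodd : ¬ 2 ∣ Nat.card (K ⊓ Subgroup.centralizer (B : Set X) : Subgroup X) := by
    intro h
    have h2 : Nat.card (K ⊓ Subgroup.centralizer (B : Set X) : Subgroup X) ∣ Nat.card K :=
      Subgroup.card_dvd_of_le inf_le_left
    have := Nat.Coprime.eq_one_of_dvd hKodd.symm (dvd_trans h h2)
    omega
  have hACB : A ≤ Subgroup.centralizer (B : Set X) := elementary_le_centralizer hA hBA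
  have hnormQ : ∀ c ∈ A, c ∈ Subgroup.normalizer
      ((K ⊓ Subgroup.centralizer (B : Set X) : Subgroup X) : Set X) := by
    intro c hc
    apply Cfsg.Agent.Lib.Helper47_SubAPI.normalizer_inf_le_normalizer_inf
    exact ⟨hMK (hAM hc), Subgroup.le_normalizer (hACB hc)⟩
  -- every element of `A` lies in `B` or in `B a`
  have hdich : ∀ x ∈ A, x * a ∈ B ∨ x ∈ B := by
    intro x hxA
    by_contra hcon
    push Not at hcon
    obtain ⟨hxa, hxB⟩ := hcon
    have hx2 : x ^ 2 = 1 := hA.2 x hxA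
    have hax : a * x = x * a := elementary_comm hA haA hxA
    have hpow : ∀ i : ℕ, a * x ^ i ∈ A ∧ a * x ^ i ∉ B := by
      intro i
      rcases Nat.even_or_odd' i with ⟨j, rfl | rfl⟩
      · rw [pow_mul, hx2, one_pow, mul_one]
        exact ⟨haA, haB⟩
      · rw [pow_succ, pow_mul, hx2, one_pow, one_mul, hax]
        exact ⟨A.mul_mem hxA haA, hxa⟩
    apply hBnot
    exact Cfsg.Agent.Lib.Helper48_Generation.le_of_centralizers_le (p := 2)
      (K ⊓ Subgroup.centralizer (B : Set X)) hQodd a x (hnormQ a haA) (hnormQ x hxA)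
      (hA.2 a haA) hx2 hax (T := Subgroup.centralizer (A : Set X))
      (hmax x hxA hxB) (fun i => hmax _ (hpow i).1 (hpow i).2)
  have hidx2 : B.relIndex A = 2 := by
    rw [Subgroup.relIndex_eq_two_iff]
    refine ⟨a, haA, fun b hb => ?_⟩
    rcases hdich b hb with h | h
    · refine Or.inl ⟨h, fun hbB => haB ?_⟩
      have : a = b⁻¹ * (b * a) := by group
      rw [this]
      exact B.mul_mem (B.inv_mem hbB) h
    · refine Or.inr ⟨h, fun hbaB => haB ?_⟩
      have : a = b⁻¹ * (b * a) := by group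
      rw [this]
      exact B.mul_mem (B.inv_mem h) hbaB
  have hcardA : Nat.card A = 2 * Nat.card B := by
    have := Subgroup.relIndex_mul_relIndex (⊥ : Subgroup X) B A bot_le hBA
    rw [Subgroup.relIndex_bot_left, Subgroup.relIndex_bot_left, hidx2] at this
    omega
  have hCBa : Subgroup.centralizer (B : Set X) ⊓ Subgroup.centralizer {a} ≤
      Subgroup.centralizer (A : Set X) := by
    intro x hx
    rw [Subgroup.mem_centralizer_iff]
    intro y hy
    have hxa : x * a = a * x := Subgroup.mem_centralizer_singleton_iff.mp hx.2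
    rcases hdich y hy with h | h
    · have h1 := Subgroup.mem_centralizer_iff.mp hx.1 _ h
      have hxa' : x * a⁻¹ = a⁻¹ * x := by
        calc x * a⁻¹ = a⁻¹ * (a * x) * a⁻¹ := by group
          _ = a⁻¹ * (x * a) * a⁻¹ := by rw [hxa]
          _ = a⁻¹ * x := by group
      calc y * x = (y * a) * a⁻¹ * x := by group
        _ = (y * a) * (x * a⁻¹) := by rw [hxa']; group
        _ = ((y * a) * x) * a⁻¹ := by group
        _ = (x * (y * a)) * a⁻¹ := by rw [h1]
        _ = x * y := by group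
    · exact Subgroup.mem_centralizer_iff.mp hx.1 _ h
  have hQa : ¬ (K ⊓ Subgroup.centralizer (B : Set X) ≤ Subgroup.centralizer {a}) := by
    intro h
    apply hBnot
    exact le_trans (le_inf inf_le_right h) hCBa
  by_cases hBsmall : (V ⊓ Subgroup.centralizer (B : Set X)).relIndex V < Nat.card B ^ 2
  · have hBpos : 0 < Nat.card B := Nat.card_pos
    exact ih (Nat.card B) (by omega) B rfl (le_trans hBA hAM) (elementary_mono hA hBA) hBsmall
  push Not at hBsmall
  set V0 : Subgroup X := V ⊓ Subgroup.centralizer (B : Set X) with hV0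
  have hV0V : V0 ≤ V := inf_le_left
  have hVAV0 : V ⊓ Subgroup.centralizer (A : Set X) ≤ V0 :=
    inf_le_inf_left _ (Subgroup.centralizer_le hBA)
  have hVp : IsPGroup 2 V := isPGroup_of_elementary hV
  have hV0p : IsPGroup 2 V0 := hVp.to_le hV0V
  -- the index of `C_V(A)` in `V₀` is at most `2`
  have hr : (V ⊓ Subgroup.centralizer (A : Set X)).relIndex V0 ≤ 2 := by
    have h1 := Subgroup.relIndex_mul_relIndex _ _ _ hVAV0 hV0V
    have h2 : 0 < V0.relIndex V := relIndex_pos_of_finite _ _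
    have h3 : (V ⊓ Subgroup.centralizer (A : Set X)).relIndex V0 < 4 := by
      by_contra h
      push Not at h
      have : 4 * V0.relIndex V ≤ (V ⊓ Subgroup.centralizer (A : Set X)).relIndex V := by
        rw [← h1]
        exact Nat.mul_le_mul_right _ h
      rw [hcardA] at hsmall
      nlinarith
    obtain ⟨n0, hn0⟩ := hV0p.exists_card_eq
    have h4 : (V ⊓ Subgroup.centralizer (A : Set X)).relIndex V0 ∣ 2 ^ n0 := by
      rw [← hn0]
      exact Subgroup.relIndex_dvd_card _ _
    obtain ⟨m, -, hm⟩ := (Nat.dvd_prime_pow Nat.prime_two).mp h4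
    rw [hm] at h3 ⊢
    have : m < 2 := by
      by_contra h
      push Not at h
      have : 2 ^ 2 ≤ 2 ^ m := Nat.pow_le_pow_right (by norm_num) h
      omega
    interval_cases m <;> norm_num
  have hidx : (V0 ⊓ Subgroup.centralizer {a}).relIndex V0 ≤ 2 := by
    have h1 : V ⊓ Subgroup.centralizer (A : Set X) ≤ V0 ⊓ Subgroup.centralizer {a} := by
      refine le_inf hVAV0 (le_trans inf_le_right (Subgroup.centralizer_le ?_))
      simpa using haA
    have h2 := Subgroup.relIndex_dvd_of_le_left V0 h1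
    exact le_trans (Nat.le_of_dvd (relIndex_pos_of_finite _ _) h2) hr
  have ha2 : a ^ 2 = 1 := hA.2 a haA
  have hainv : a⁻¹ = a := by
    rw [inv_eq_iff_mul_eq_one, ← pow_two, ha2]
  have haM : a ∈ M := hAM haA
  have haCB : a ∈ Subgroup.centralizer (B : Set X) := hACB haA
  -- some commutator `[x, a]` with `x ∈ C_K(B)` acts nontrivially on `V₀`
  obtain ⟨x, hxQ, hxk⟩ : ∃ x ∈ K ⊓ Subgroup.centralizer (B : Set X),
      x * a * x⁻¹ * a⁻¹ ∉ Subgroup.centralizer (V0 : Set X) := by
    by_contra hcon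
    push Not at hcon
    apply hQa
    set Q : Subgroup X := K ⊓ Subgroup.centralizer (B : Set X) with hQ
    set L : Subgroup X := ⁅Q, Subgroup.zpowers a⁆ with hL
    have hza : ∀ g ∈ Subgroup.zpowers a, g = 1 ∨ g = a := by
      intro g hg
      obtain ⟨i, rfl⟩ := Subgroup.mem_zpowers_iff.mp hg
      rcases Int.even_or_odd' i with ⟨j, rfl | rfl⟩
      · left
        rw [zpow_mul, zpow_ofNat, ha2, one_zpow]
      · right
        rw [zpow_add, zpow_mul, zpow_ofNat, ha2, one_zpow, one_mul, zpow_one]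
    have hLgen : ∀ T : Subgroup X, (∀ g ∈ Q, g * a * g⁻¹ * a⁻¹ ∈ T) → L ≤ T := by
      intro T hT
      rw [hL, Subgroup.commutator_le]
      intro g₁ hg₁ g₂ hg₂
      rcases hza g₂ hg₂ with rfl | rfl
      · rw [commutatorElement_one_right]
        exact T.one_mem
      · rw [commutatorElement_def]
        exact hT g₁ hg₁
    have hLV0 : L ≤ Subgroup.centralizer (V0 : Set X) := hLgen _ hcon
    have hLK : L ≤ K := by
      apply hLgen
      intro g hg
      have h1 : a * g⁻¹ * a⁻¹ ∈ K :=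
        (Subgroup.mem_normalizer_iff.mp (hMK haM) g⁻¹).mp (K.inv_mem hg.1)
      have : g * a * g⁻¹ * a⁻¹ = g * (a * g⁻¹ * a⁻¹) := by group
      rw [this]
      exact K.mul_mem hg.1 h1
    have hLCB : L ≤ Subgroup.centralizer (B : Set X) := by
      apply hLgen
      intro g hg
      exact Subgroup.mul_mem _ (Subgroup.mul_mem _ (Subgroup.mul_mem _ hg.2 haCB)
        (Subgroup.inv_mem _ hg.2)) (Subgroup.inv_mem _ haCB)
    have hLodd : (Nat.card L).Coprime 2 :=
      Nat.Coprime.coprime_dvd_left (Subgroup.card_dvd_of_le hLK) hKodd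
    have hLV : L ≤ Subgroup.centralizer (V : Set X) :=
      Cfsg.Agent.S0028.result 2 B L V (isPGroup_of_elementary (elementary_mono hA hBA)) hLodd hVp
        (Subgroup.le_centralizer_iff.mp hLCB) (le_trans hBA (le_trans hAM hMV))
        (le_trans hLK (le_trans hKM hMV)) (Subgroup.le_centralizer_iff.mp hLV0)
    have hLbot : L = ⊥ := by
      rw [eq_bot_iff, ← hfaith]
      exact le_inf (le_trans hLK hKM) hLV
    intro g hg
    rw [Subgroup.mem_centralizer_singleton_iff]
    have h1 : ⁅g, a⁆ ∈ L := Subgroup.commutator_mem_commutator hg (Subgroup.mem_zpowers a)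
    rw [hLbot, Subgroup.mem_bot, commutatorElement_eq_one_iff_mul_comm] at h1
    exact h1
  set k : X := x * a * x⁻¹ * a⁻¹ with hk
  have hkK : k ∈ K := by
    have h1 : a * x⁻¹ * a⁻¹ ∈ K :=
      (Subgroup.mem_normalizer_iff.mp (hMK haM) x⁻¹).mp (K.inv_mem hxQ.1)
    have : k = x * (a * x⁻¹ * a⁻¹) := by rw [hk]; group
    rw [this]
    exact K.mul_mem hxQ.1 h1
  have hkCB : k ∈ Subgroup.centralizer (B : Set X) :=
    Subgroup.mul_mem _ (Subgroup.mul_mem _ (Subgroup.mul_mem _ hxQ.2 haCB)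
      (Subgroup.inv_mem _ hxQ.2)) (Subgroup.inv_mem _ haCB)
  have hkM : k ∈ M := hKM hkK
  have hak : a * k * a⁻¹ = k⁻¹ := by
    rw [hk]
    simp only [mul_inv_rev, inv_inv]
    rw [hainv]
    have haa : a * a = 1 := by rw [← pow_two, ha2]
    calc a * (x * a * x⁻¹ * a) * a = a * x * a * x⁻¹ * (a * a) := by group
      _ = a * x * a * x⁻¹ := by rw [haa, mul_one]
      _ = a * (x * (a * x⁻¹)) := by group
  have hkodd : (orderOf k).Coprime 2 :=
    Nat.Coprime.coprime_dvd_left (Subgroup.orderOf_dvd_natCard K hkK) hKodd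
  have hnormV0 : ∀ c ∈ M, c ∈ Subgroup.centralizer (B : Set X) →
      c ∈ Subgroup.normalizer (V0 : Set X) := by
    intro c hcM hcB
    apply Cfsg.Agent.Lib.Helper47_SubAPI.normalizer_inf_le_normalizer_inf
    exact ⟨hMV hcM, Subgroup.le_normalizer hcB⟩
  have hV0c : ∀ y ∈ V0, ∀ z ∈ V0, y * z = z * y := fun y hy z hz =>
    elementary_comm hV (hV0V hy) (hV0V hz)
  obtain ⟨W, hW4, haW, hkW, hnofix, hamove⟩ :=
    four_group_of_transvection V0 hV0c hV0p a k ha2 hak hkodd (hnormV0 a haM haCB)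
      (hnormV0 k hkM hkCB) hidx hxk
  exact involves_of_four_group M W hW4 a k haM hkM ha2 hkodd haW hkW hnofix hamove

end transvection

/-- Let M and V be subgroups of a finite group with V an elementary abelian 2-group, M normalizing V and acting faithfully on it (M ∩ C(V) = 1), and C_M(O_{2'}(M)) ≤ O_{2'}(M). If some elementary abelian 2-subgroup A of M satisfies |V : C_V(A)| < |A|², then M has a section isomorphic to the symmetric group of degree 3. -/
theorem result {X : Type*} [Group X] [Finite X] (M V : Subgroup X) (hV : Cfsg.IsElementaryAbelian 2 V) (hMV : M ≤ Subgroup.normalizer (V : Set X)) (hfaith : M ⊓ Subgroup.centralizer (V : Set X) = ⊥) (hcon : Subgroup.centralizer (Cfsg.pPrimeCore 2 ↥M : Set ↥M) ≤ Cfsg.pPrimeCore 2 ↥M) (A : Subgroup X) (hAM : A ≤ M) (hA : Cfsg.IsElementaryAbelian 2 A) (hsmall : (V ⊓ Subgroup.centralizer (A : Set X)).relIndex V < Nat.card A ^ 2) : Cfsg.Involves (Equiv.Perm (Fin 3)) ↥M := by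
  set K : Subgroup X := (Cfsg.pPrimeCore 2 ↥M).map M.subtype with hK
  have hKM : K ≤ M := Subgroup.map_subtype_le _
  have hMK : M ≤ Subgroup.normalizer (K : Set X) :=
    (Cfsg.Agent.Lib.Helper47_SubAPI.normal_iff_le_normalizer_map M _).mp inferInstance
  have hKodd : (Nat.card K).Coprime 2 := by
    rw [hK, Subgroup.card_map_of_injective M.subtype_injective]
    exact pPrimeCore_card_coprime 2
  have hKcon : M ⊓ Subgroup.centralizer (K : Set X) ≤ K := by
    rintro y ⟨hyM, hyC⟩
    have h1 : (⟨y, hyM⟩ : ↥M) ∈ Subgroup.centralizer (Cfsg.pPrimeCore 2 ↥M : Set ↥M) := by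
      rw [Subgroup.mem_centralizer_iff]
      intro z hz
      apply Subtype.ext
      have h2 : (z : X) ∈ K := ⟨z, hz, rfl⟩
      exact Subgroup.mem_centralizer_iff.mp hyC _ h2
    exact ⟨⟨y, hyM⟩, hcon h1, rfl⟩
  exact key M V K hV hMV hfaith hKM hMK hKodd hKcon _ A rfl hAM hA hsmall

end Cfsg.Agent.S3755
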