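import Cfsg.Statements.S3760

set_option autoImplicit false
open Cfsg

namespace Cfsg.Agent.S3760

theorem mem_normalizer_of_map_conj_eq {G : Type*} [Group G] (K : Subgroup G) (n : G)
    (h : K.map (MulAut.conj n).toMonoidHom = K) : n ∈ Subgroup.normalizer (K : Set G) := by
  rw [Subgroup.mem_normalizer_iff]
  intro k
  constructor
  · intro hk
    have : (MulAut.conj n).toMonoidHom k ∈ K.map (MulAut.conj n).toMonoidHom :=
      Subgroup.mem_map_of_mem _ hk
    rw [h] at this
    simpa using this
  · intro hk
    rw [← h] at hk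
    obtain ⟨k', hk', hkk'⟩ := Subgroup.mem_map.mp hk
    have : k' = k := by
      have h2 : n * k' * n⁻¹ = n * k * n⁻¹ := by simpa using hkk'
      have h3 := mul_right_cancel h2
      exact mul_left_cancel h3
    rwa [← this]

theorem map_conj_eq_of_mem_normalizer {G : Type*} [Group G] (K : Subgroup G) (n : G)
    (hn : n ∈ Subgroup.normalizer (K : Set G)) : K.map (MulAut.conj n).toMonoidHom = K := by
  rw [Subgroup.mem_normalizer_iff] at hn
  ext y
  constructor
  · intro hy
    obtain ⟨k, hk, rfl⟩ := Subgroup.mem_map.mp hy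
    have := (hn k).mp hk
    simpa using this
  · intro hy
    refine Subgroup.mem_map.mpr ⟨n⁻¹ * y * n, ?_, ?_⟩
    · rw [hn]
      simpa [mul_assoc] using hy
    · simp [mul_assoc]

/-- Let the group G act transitively on a set X, let x ∈ X with stabilizer H = G_x, and let K ≤ H. Then N_G(K) acts transitively on the set of fixed points of K if and only if every G-conjugate of K contained in H is already an H-conjugate of K. -/
theorem result {G : Type*} [Group G] {X : Type*} [MulAction G X] (htrans : ∀ a b : X, ∃ g : G, g • a = b) (x : X) (K : Subgroup G) (hK : K ≤ MulAction.stabilizer G x) : (∀ a b : X, (∀ k ∈ K, k • a = a) → (∀ k ∈ K, k • b = b) → ∃ g ∈ Subgroup.normalizer (K : Set G), g • a = b) ↔ ∀ g : G, K.map (MulAut.conj g).toMonoidHom ≤ MulAction.stabilizer G x → ∃ h ∈ MulAction.stabilizer G x, K.map (MulAut.conj g).toMonoidHom = K.map (MulAut.conj h).toMonoidHom := by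
  constructor
  · intro hN g hg
    have hx : ∀ k ∈ K, k • x = x := fun k hk => hK hk
    have hgx : ∀ k ∈ K, k • (g⁻¹ • x) = g⁻¹ • x := by
      intro k hk
      have h1 : (MulAut.conj g).toMonoidHom k ∈ MulAction.stabilizer G x :=
        hg (Subgroup.mem_map_of_mem _ hk)
      have h2 : (g * k * g⁻¹) • x = x := by simpa using h1
      calc k • (g⁻¹ • x) = g⁻¹ • ((g * k * g⁻¹) • x) := by
            simp [smul_smul, mul_assoc]
        _ = g⁻¹ • x := by rw [h2]
    obtain ⟨n, hn, hnx⟩ := hN x (g⁻¹ • x) hx hgx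
    refine ⟨g * n, ?_, ?_⟩
    · rw [MulAction.mem_stabilizer_iff, mul_smul, hnx, smul_inv_smul]
    · have := map_conj_eq_of_mem_normalizer K n hn
      conv_lhs => rw [← this]
      rw [Subgroup.map_map]
      congr 1
      ext y
      simp [mul_assoc]
  · intro hF
    have key : ∀ a : X, (∀ k ∈ K, k • a = a) → ∃ n ∈ Subgroup.normalizer (K : Set G), n • x = a := by
      intro a ha
      obtain ⟨g, hg⟩ := htrans a x
      have hle : K.map (MulAut.conj g).toMonoidHom ≤ MulAction.stabilizer G x := by
        intro y hy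
        obtain ⟨k, hk, rfl⟩ := Subgroup.mem_map.mp hy
        rw [MulAction.mem_stabilizer_iff]
        have : a = g⁻¹ • x := by rw [← hg, inv_smul_smul]
        simp only [MulEquiv.coe_toMonoidHom, MulAut.conj_apply]
        rw [mul_smul, mul_smul, ← this, ha k hk, hg]
      obtain ⟨h, hh, hgh⟩ := hF g hle
      have hn : h⁻¹ * g ∈ Subgroup.normalizer (K : Set G) := by
        apply mem_normalizer_of_map_conj_eq
        have : (MulAut.conj (h⁻¹ * g)).toMonoidHom = (MulAut.conj h⁻¹).toMonoidHom.comp (MulAut.conj g).toMonoidHom := by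
          ext y; simp [mul_assoc]
        rw [this, ← Subgroup.map_map, hgh, Subgroup.map_map]
        have : (MulAut.conj h⁻¹).toMonoidHom.comp (MulAut.conj h).toMonoidHom = MonoidHom.id G := by
          ext y; simp [mul_assoc]
        rw [this, Subgroup.map_id]
      refine ⟨(h⁻¹ * g)⁻¹, inv_mem hn, ?_⟩
      have hhx : h • x = x := hh
      rw [mul_inv_rev, inv_inv, mul_smul, hhx, ← hg, inv_smul_smul]
    intro a b ha hb
    obtain ⟨n, hn, hna⟩ := key a ha
    obtain ⟨m, hm, hmb⟩ := key b hb
    refine ⟨m * n⁻¹, mul_mem hm (inv_mem hn), ?_⟩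
    rw [mul_smul, ← hna, inv_smul_smul, hmb]

end Cfsg.Agent.S3760
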