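import Mathlib
import Cfsg.Statements.S3763
import Cfsg.Agent.S5396
import Cfsg.Agent.Lib.Helper89_ESClass
import Cfsg.Agent.Lib.Helper89_ESRank

set_option autoImplicit false
open Cfsg

namespace Cfsg.Agent.S3763

open Cfsg.Agent.S5396 Cfsg.Agent.Lib.Helper89_ESClass Cfsg.Agent.Lib.Helper89_ESRank

/-- the rank profile of the standard groups -/
theorem profile (m : ℕ) (hm : 1 ≤ m) (b : Bool) :
    (b = true → PRankLE 2 m (ES m (eStd m b)) ∧ ¬ PRankLE 2 (m - 1) (ES m (eStd m b))) ∧
      (b = false → PRankLE 2 (m + 1) (ES m (eStd m b)) ∧ ¬ PRankLE 2 m (ES m (eStd m b))) := by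
  constructor
  · intro hb
    subst hb
    rw [eStd_true m hm]
    exact ⟨prankLE_minus m hm, not_prankLE_minus m hm⟩
  · intro hb
    subst hb
    rw [eStd_false]
    exact ⟨prankLE_plus m, not_prankLE_plus m⟩

/-- Let E be an extraspecial 2-group of order 2^(2n+1). Then the largest elementary abelian subgroups of E have order 2^n or 2^(n+1); and two extraspecial 2-groups of the same order whose largest elementary abelian subgroups have the same order are isomorphic. -/
theorem result {E : Type*} [Group E] [Finite E] (hE : Cfsg.IsExtraspecial 2 E) (n : ℕ) (hn : Nat.card E = 2 ^ (2 * n + 1)) : ((Cfsg.PRankLE 2 n E ∧ ¬ Cfsg.PRankLE 2 (n - 1) E) ∨ (Cfsg.PRankLE 2 (n + 1) E ∧ ¬ Cfsg.PRankLE 2 n E)) ∧ ∀ (E' : Type*) [Group E'] [Finite E'], Cfsg.IsExtraspecial 2 E' → Nat.card E' = Nat.card E → (∀ k : ℕ, Cfsg.PRankLE 2 k E ↔ Cfsg.PRankLE 2 k E') → Nonempty (E ≃* E') := by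
  obtain ⟨m, b, ⟨Φ⟩⟩ := exists_iso_std hE
  have hm1 : 1 ≤ m := one_le_of_iso hE Φ
  have hmn : m = n := eq_of_card_eq (by rw [← card_eq_of_iso Φ, hn])
  subst hmn
  have hprof := profile m hm1 b
  constructor
  · cases b with
    | true =>
      obtain ⟨h1, h2⟩ := hprof.1 rfl
      exact Or.inl ⟨prankLE_congr Φ h1, fun h => h2 (prankLE_congr Φ.symm h)⟩
    | false =>
      obtain ⟨h1, h2⟩ := hprof.2 rfl
      exact Or.inr ⟨prankLE_congr Φ h1, fun h => h2 (prankLE_congr Φ.symm h)⟩
  · intro E' _ _ hE' hcard hiff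
    obtain ⟨m', b', ⟨Φ'⟩⟩ := exists_iso_std hE'
    have hm1' : 1 ≤ m' := one_le_of_iso hE' Φ'
    have hmm : m' = m := eq_of_card_eq (by rw [← card_eq_of_iso Φ', hcard, card_eq_of_iso Φ])
    subst hmm
    have hprof' := profile m' hm1 b'
    have hbb : b = b' := by
      cases b with
      | true =>
        cases b' with
        | true => rfl
        | false =>
          exfalso
          obtain ⟨h1, -⟩ := hprof.1 rfl
          obtain ⟨-, h2⟩ := hprof'.2 rfl
          exact h2 (prankLE_congr Φ'.symm ((hiff m').1 (prankLE_congr Φ h1)))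
      | false =>
        cases b' with
        | true =>
          exfalso
          obtain ⟨-, h2⟩ := hprof.2 rfl
          obtain ⟨h1, -⟩ := hprof'.1 rfl
          exact h2 (prankLE_congr Φ.symm ((hiff m').2 (prankLE_congr Φ' h1)))
        | false => rfl
    subst hbb
    exact ⟨Φ.symm.trans Φ'⟩

end Cfsg.Agent.S3763
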