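import Cfsg.Statements.S3764
import Cfsg.Agent.Lib.Helper71_ESFpf
import Cfsg.Agent.Lib.Helper63_Extraspecial

set_option autoImplicit false
open Cfsg
open scoped commutatorElement

namespace Cfsg.Agent.S3764

open Cfsg.Agent.Lib.Helper71_ESFpf Cfsg.Agent.Lib.Helper63_Extraspecial

/-- Let p, q, r be distinct primes and let X, Q, V be subgroups of a finite group with X of order r, Q an extraspecial q-group normalized by X with C_Q(X) = Z(Q), and V an elementary abelian p-group normalized by X and Q on which XQ acts faithfully ((X ⊔ Q) ∩ C(V) = 1). If C_V(X) = 1, then q = 2, r = 2^n + 1 for some n, and Q has order 2^(2n+1). -/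
theorem result {G : Type*} [Group G] [Finite G] {p q r : ℕ} (hp : p.Prime) (hq : q.Prime) (hr : r.Prime) (hpq : p ≠ q) (hpr : p ≠ r) (hqr : q ≠ r) (X Q V : Subgroup G) (hX : Nat.card X = r) (hQ : Cfsg.IsExtraspecial q ↥Q) (hXQ : X ≤ Subgroup.normalizer (Q : Set G)) (hCQ : Q ⊓ Subgroup.centralizer (X : Set G) = (Subgroup.center ↥Q).map Q.subtype) (hV : Cfsg.IsElementaryAbelian p V) (hXV : X ≤ Subgroup.normalizer (V : Set G)) (hQV : Q ≤ Subgroup.normalizer (V : Set G)) (hfaith : (X ⊔ Q) ⊓ Subgroup.centralizer (V : Set G) = ⊥) (hCV : V ⊓ Subgroup.centralizer (X : Set G) = ⊥) : q = 2 ∧ ∃ n : ℕ, r = 2 ^ n + 1 ∧ Nat.card Q = 2 ^ (2 * n + 1) := by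
  classical
  have := Fact.mk hp
  have := Fact.mk hq
  have := Fact.mk hr
  -- a generator of `X`
  have hXcyc : IsCyclic X := isCyclic_of_prime_card hX
  obtain ⟨⟨x, hxX⟩, hxgen⟩ := hXcyc.exists_generator
  have hXz : ∀ y ∈ X, y ∈ Subgroup.zpowers x := by
    intro y hy
    obtain ⟨k, hk⟩ := Subgroup.mem_zpowers_iff.1 (hxgen ⟨y, hy⟩)
    exact Subgroup.mem_zpowers_iff.2 ⟨k, by simpa using congrArg Subtype.val hk⟩
  have hxr : x ^ r = 1 := by
    have h1 : (⟨x, hxX⟩ : X) ^ Nat.card X = 1 := pow_card_eq_one'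
    rw [hX] at h1
    simpa using congrArg Subtype.val h1
  -- commuting with `x` means centralising `X`
  have hcentX : ∀ g : G, x * g = g * x → g ∈ Subgroup.centralizer (X : Set G) := by
    intro g hg
    rw [Subgroup.mem_centralizer_iff]
    intro y hy
    obtain ⟨k, rfl⟩ := Subgroup.mem_zpowers_iff.1 (hXz y hy)
    exact ((Commute.zpow_left (show Commute x g from hg) k).eq)
  -- the commutative group structure on `V`
  let _ : CommGroup V :=
    { (inferInstance : Group V) with mul_comm := fun a b => hV.1.is_comm.comm a b }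
  have hVp : ∀ v : V, v ^ p = 1 := fun v => Subtype.ext (by simpa using hV.2 v v.2)
  let φV := V.normalizerMonoidHom
  let ψ : Q →* MulAut V := φV.comp (Subgroup.inclusion hQV)
  let xV : Subgroup.normalizer (V : Set G) := ⟨x, hXV hxX⟩
  let τ : MulAut V := φV xV
  let σ : MulAut Q := Q.normalizerMonoidHom ⟨x, hXQ hxX⟩
  have hσapp : ∀ g : Q, ((σ g : Q) : G) = x * g * x⁻¹ := fun g => rfl
  have hτapp : ∀ v : V, ((τ v : V) : G) = x * v * x⁻¹ := fun v => rfl
  have hψapp : ∀ (g : Q) (v : V), ((ψ g v : V) : G) = g * v * (g : G)⁻¹ := fun g v => rfl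
  have hτr : τ ^ r = 1 := by
    show φV xV ^ r = 1
    rw [← map_pow]
    have : xV ^ r = 1 := Subtype.ext (by simpa using hxr)
    rw [this, map_one]
  have hτψ : ∀ g, τ * ψ g = ψ (σ g) * τ := by
    intro g
    ext v
    simp only [MulAut.mul_apply, hτapp, hψapp, hσapp]
    group
  let Z : Subgroup Q := Subgroup.center Q
  have hZcard : Nat.card Z = q := hQ.2
  have hcommZ : ∀ g h : Q, ⁅g, h⁆ ∈ Z := by
    intro g h
    have : ⁅g, h⁆ ∈ commutator Q := by
      rw [commutator_def]
      exact Subgroup.commutator_mem_commutator (Subgroup.mem_top g) (Subgroup.mem_top h)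
    rw [hQ.1.2.2] at this
    exact this
  have hmemZ : ∀ g : Q, g ∈ Z ↔ (g : G) ∈ Q ⊓ Subgroup.centralizer (X : Set G) := by
    intro g
    rw [hCQ]
    constructor
    · intro hg
      exact ⟨g, hg, rfl⟩
    · rintro ⟨g', hg', hgg'⟩
      have : g' = g := Subtype.ext hgg'
      rw [← this]; exact hg'
  have hσZ : ∀ z ∈ Z, σ z = z := by
    intro z hz
    have h1 := (Subgroup.mem_inf.1 ((hmemZ z).1 hz)).2
    rw [Subgroup.mem_centralizer_iff] at h1
    apply Subtype.ext
    rw [hσapp, h1 x hxX]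
    group
  have hσfix : ∀ g : Q, σ g = g → g ∈ Z := by
    intro g hg
    rw [hmemZ]
    refine Subgroup.mem_inf.2 ⟨g.2, hcentX g ?_⟩
    have := congrArg Subtype.val hg
    rw [hσapp] at this
    calc x * g = x * g * x⁻¹ * x := by group
      _ = g * x := by rw [this]
  have hQp : IsPGroup q Q := hQ.1.1
  have hsemi : ∀ g, σ g * g⁻¹ ∈ Z → g ∈ Z := by
    intro g hg
    apply hσfix
    set c := σ g * g⁻¹ with hc
    have hσg : σ g = c * g := by rw [hc]; group
    have hpow : ∀ k : ℕ, (σ ^ k) g = c ^ k * g := by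
      intro k
      induction k with
      | zero => simp
      | succ k ih =>
        rw [pow_succ', MulAut.mul_apply, ih, map_mul, map_pow, hσZ c hg, hσg, pow_succ]
        group
    have hσr : σ ^ r = 1 := by
      show Q.normalizerMonoidHom ⟨x, hXQ hxX⟩ ^ r = 1
      rw [← map_pow]
      have : (⟨x, hXQ hxX⟩ : Subgroup.normalizer (Q : Set G)) ^ r = 1 :=
        Subtype.ext (by simpa using hxr)
      rw [this, map_one]
    have h1 := hpow r
    rw [hσr, MulAut.one_apply] at h1
    have hcr : c ^ r = 1 := by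
      have : c ^ r * g = 1 * g := by rw [← h1, one_mul]
      exact mul_right_cancel this
    obtain ⟨k, hk⟩ := hQp c
    have hc1 : c = 1 := by
      have hcop : Nat.Coprime (q ^ k) r := by
        apply Nat.Coprime.pow_left
        exact (Nat.coprime_primes hq hr).2 hqr
      have h2 : orderOf c ∣ q ^ k := orderOf_dvd_of_pow_eq_one hk
      have h3 : orderOf c ∣ r := orderOf_dvd_of_pow_eq_one hcr
      have : orderOf c ∣ Nat.gcd (q ^ k) r := Nat.dvd_gcd h2 h3
      rw [hcop] at this
      exact orderOf_eq_one_iff.1 (Nat.dvd_one.1 this)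
    rw [hσg, hc1, one_mul]
  have hD : ∀ D : Subgroup Q, D ≤ Z → D ≠ Z → ∀ g, (∀ h, ⁅g, h⁆ ∈ D) → g ∈ Z := by
    intro D hDZ hDne g hg
    have hDbot : D = ⊥ := by
      have h1 : Nat.card D ∣ Nat.card Z := Subgroup.card_dvd_of_le hDZ
      rw [hZcard] at h1
      rcases (Nat.dvd_prime hq).1 h1 with h2 | h2
      · exact Subgroup.card_eq_one.1 h2 |> fun h => h
      · exfalso
        apply hDne
        exact Subgroup.eq_of_le_of_card_ge hDZ (by rw [hZcard, h2])
    rw [Subgroup.mem_center_iff]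
    intro h
    have := hg h
    rw [hDbot, Subgroup.mem_bot, commutatorElement_eq_one_iff_mul_comm] at this
    exact this.symm
  have hZact : ∃ z ∈ Z, ψ z ≠ 1 := by
    have hnt : Nontrivial Z := by
      rw [← Finite.one_lt_card_iff_nontrivial, hZcard]; exact hq.one_lt
    obtain ⟨z, hz⟩ := exists_ne (1 : Z)
    refine ⟨z, z.2, ?_⟩
    intro h
    apply hz
    have h1 : ((z : Q) : G) ∈ (X ⊔ Q) ⊓ Subgroup.centralizer (V : Set G) := by
      refine Subgroup.mem_inf.2 ⟨Subgroup.mem_sup_right (z : Q).2, ?_⟩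
      rw [Subgroup.mem_centralizer_iff]
      intro v hv
      have h2 := congrArg (fun f : MulAut V => ((f ⟨v, hv⟩ : V) : G)) h
      simp only [hψapp, MulAut.one_apply] at h2
      calc v * ((z : Q) : G) = ((z : Q) : G) * v * ((z : Q) : G)⁻¹ * ((z : Q) : G) := by rw [h2]
        _ = ((z : Q) : G) * v := by group
    rw [hfaith, Subgroup.mem_bot] at h1
    exact Subtype.ext (Subtype.ext h1)
  have hne : ∃ g, g ∉ Z := by
    by_contra hcon
    push Not at hcon
    apply not_comm_of_extraspecial hQ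
    constructor
    constructor
    intro a b
    exact (Subgroup.mem_center_iff.1 (hcon a) b).symm
  have hfix : ∀ v, τ v = v → v = 1 := by
    intro v hv
    have h1 : (v : G) ∈ V ⊓ Subgroup.centralizer (X : Set G) := by
      refine Subgroup.mem_inf.2 ⟨v.2, hcentX v ?_⟩
      have := congrArg Subtype.val hv
      rw [hτapp] at this
      calc x * v = x * v * x⁻¹ * x := by group
        _ = v * x := by rw [this]
    rw [hCV, Subgroup.mem_bot] at h1
    exact Subtype.ext h1
  have hpQ : ¬ p ∣ Nat.card Q := by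
    obtain ⟨k, hk⟩ := (IsPGroup.iff_card.1 hQp)
    rw [hk]
    intro h
    exact hpq ((Nat.prime_dvd_prime_iff_eq hp hq).1 (hp.dvd_of_dvd_pow h))
  have hmain := index_eq_of_fpf_action hr hpr hpQ hVp ψ τ σ hτr hτψ Z le_rfl hcommZ hσZ hsemi
    hD hZact hne hfix
  -- arithmetic
  obtain ⟨n, hn1, hn⟩ := card_of_extraspecial hQ
  have hidx : Z.index * Nat.card Z = Nat.card Q := Subgroup.index_mul_card Z
  rw [hZcard, hn, hmain] at hidx
  have h1 : (r - 1) ^ 2 = (q ^ n) ^ 2 := by
    have : (r - 1) ^ 2 * q = (q ^ n) ^ 2 * q := by rw [hidx]; ring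
    exact Nat.eq_of_mul_eq_mul_right hq.pos this
  have h2 : r - 1 = q ^ n := by
    exact Nat.pow_left_injective (by norm_num : 2 ≠ 0) h1
  have hr2 : 2 ≤ r := hr.two_le
  have hrq : r = q ^ n + 1 := by omega
  have hq2 : q = 2 := by
    by_contra hq2
    have hqodd : Odd q := hq.odd_of_ne_two hq2
    have : Even r := by
      rw [hrq]
      exact Odd.add_one (hqodd.pow)
    have hr2' : r = 2 := (Nat.Prime.even_iff hr).1 this
    have : q ^ n = 1 := by omega
    have hq1 : 1 < q := hq.one_lt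
    have : n = 0 := by
      by_contra hn0
      have : 1 < q ^ n := Nat.one_lt_pow hn0 hq1
      omega
    omega
  refine ⟨hq2, n, ?_, ?_⟩
  · rw [hrq, hq2]
  · rw [hn, hq2]

end Cfsg.Agent.S3764
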