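import Cfsg.Statements.S3767
import Cfsg.Agent.Lib.Helper95_SympBridge

set_option autoImplicit false
open Cfsg

namespace Cfsg.Agent.S3767

/-- Let P be an extraspecial p-group of order p^(2n+1) and H a cyclic group of order h prime to p acting on P (inside a common finite group: H normalizes P) so that C_P(x) = Z(P) for every non-identity x ∈ H. Then h divides p^n + 1 or h divides p^n − 1. -/
theorem result {G : Type*} [Group G] [Finite G] {p : ℕ} [Fact p.Prime] (P H : Subgroup G) (hP : Cfsg.IsExtraspecial p ↥P) (n : ℕ) (hn : Nat.card P = p ^ (2 * n + 1)) (hH : IsCyclic H) (hcop : (Nat.card H).Coprime p) (hHP : H ≤ Subgroup.normalizer (P : Set G)) (hfix : ∀ x ∈ H, x ≠ 1 → P ⊓ Subgroup.centralizer {x} = (Subgroup.center ↥P).map P.subtype) : Nat.card H ∣ p ^ n + 1 ∨ Nat.card H ∣ p ^ n - 1 := by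
  classical
  obtain ⟨x₀, hx₀⟩ := hH.exists_generator
  have hord : orderOf (x₀ : G) = Nat.card H := by
    rw [Subgroup.orderOf_coe]; exact orderOf_eq_card_of_forall_mem_zpowers hx₀
  set x : G := (x₀ : G) with hx
  have hxH : x ∈ H := x₀.2
  have hxN : x ∈ Subgroup.normalizer (P : Set G) := hHP hxH
  have hxN' : ∀ u : G, u ∈ P ↔ x * u * x⁻¹ ∈ P := Subgroup.mem_normalizer_iff.1 hxN
  have hmpos : 0 < Nat.card H := Nat.card_pos
  -- the automorphism
  let α : MulAut ↥P :=
    { toFun := fun u => ⟨x * u * x⁻¹, (hxN' u).1 u.2⟩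
      invFun := fun u => ⟨x⁻¹ * u * x, by
        have h1 := (hxN' (x⁻¹ * u * x)).2
        apply h1
        have h2 : x * (x⁻¹ * (u : G) * x) * x⁻¹ = u := by group
        rw [h2]; exact u.2⟩
      left_inv := fun u => by
        apply Subtype.ext
        show x⁻¹ * (x * (u : G) * x⁻¹) * x = u
        group
      right_inv := fun u => by
        apply Subtype.ext
        show x * (x⁻¹ * (u : G) * x) * x⁻¹ = u
        group
      map_mul' := fun u v => by
        apply Subtype.ext
        show x * ((u : G) * v) * x⁻¹ = (x * u * x⁻¹) * (x * v * x⁻¹)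
        group }
  have hα1 : ∀ u : ↥P, ((α u : ↥P) : G) = x * u * x⁻¹ := fun u => rfl
  have hαj : ∀ (j : ℕ) (u : ↥P), (((α ^ j) u : ↥P) : G) = x ^ j * u * (x ^ j)⁻¹ := by
    intro j
    induction j with
    | zero => intro u; simp
    | succ j ih =>
      intro u
      rw [pow_succ, MulAut.mul_apply, ih, hα1, pow_succ]
      group
  have hαm : α ^ (Nat.card H) = 1 := by
    ext u
    rw [hαj, ← hord, pow_orderOf_eq_one]
    simp
  have hxj : ∀ j, 0 < j → j < Nat.card H → x ^ j ≠ 1 := by
    intro j hj0 hjm hj1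
    have := orderOf_dvd_of_pow_eq_one hj1
    rw [hord] at this
    exact absurd (Nat.le_of_dvd hj0 this) (by omega)
  have hmemZ : ∀ (y : G), y ∈ H → y ≠ 1 → ∀ u : ↥P, y * u = u * y → u ∈ Subgroup.center ↥P := by
    intro y hy hy1 u hyu
    have h1 : (u : G) ∈ P ⊓ Subgroup.centralizer {y} :=
      Subgroup.mem_inf.2 ⟨u.2, Subgroup.mem_centralizer_singleton_iff.2 hyu.symm⟩
    rw [hfix y hy hy1] at h1
    obtain ⟨c, hc, hcu⟩ := h1
    have : c = u := Subtype.ext hcu
    rwa [← this]
  have hfix' : ∀ j, 0 < j → j < Nat.card H → ∀ u, (α ^ j) u = u → u ∈ Subgroup.center ↥P := by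
    intro j hj0 hjm u hu
    apply hmemZ (x ^ j) (H.pow_mem hxH j) (hxj j hj0 hjm) u
    have h1 := hαj j u
    rw [hu] at h1
    calc x ^ j * (u : G) = (x ^ j * u * (x ^ j)⁻¹) * x ^ j := by group
      _ = u * x ^ j := by rw [← h1]
  have hZ' : ∀ c ∈ Subgroup.center ↥P, α c = c := by
    intro c hc
    apply Subtype.ext
    rw [hα1]
    by_cases hx1 : x = 1
    · rw [hx1]; simp
    · have h1 : (c : G) ∈ (Subgroup.center ↥P).map P.subtype := ⟨c, hc, rfl⟩
      rw [← hfix x hxH hx1] at h1
      have h2 := Subgroup.mem_centralizer_singleton_iff.1 h1.2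
      rw [← h2, mul_inv_cancel_right]
  exact Cfsg.Agent.Helper95Symp.abs_main hP n hn α (Nat.card H) hmpos hαm hcop hfix' hZ'

end Cfsg.Agent.S3767
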