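import Mathlib
import Cfsg.Statements.S3768
import Cfsg.Agent.Lib.Helper63_Frobenius

set_option autoImplicit false
open Cfsg

namespace Cfsg.Agent.S3768

open Cfsg.Agent.Lib.Helper63_Frobenius
open scoped Pointwise

variable {G : Type*} [Group G]

/-- if `N ∩ R = 1`, every element `r m` (`1 ≠ r ∈ R`, `m ∈ N`) is `N`-conjugate to `r` -/
theorem exists_conj_eq [Finite G] {R : Subgroup G} (hR : IsFrobeniusComplement R) (N : Subgroup G)
    [hN : N.Normal] (hNR : N ⊓ R = ⊥) {r m : G} (hr : r ∈ R) (hr1 : r ≠ 1) (hm : m ∈ N) :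
    ∃ h ∈ N, r * m = h * r * h⁻¹ := by
  let ψ : N → N := fun h => ⟨r⁻¹ * h * r * (h : G)⁻¹, by
    have h1 : r⁻¹ * (h : G) * r⁻¹⁻¹ ∈ N := hN.conj_mem _ h.2 r⁻¹
    rw [inv_inv] at h1
    exact N.mul_mem h1 (N.inv_mem h.2)⟩
  have hinj : Function.Injective ψ := by
    intro a b hab
    have h1 : r⁻¹ * (a : G) * r * (a : G)⁻¹ = r⁻¹ * (b : G) * r * (b : G)⁻¹ :=
      congrArg Subtype.val hab
    have h2 : ((b : G)⁻¹ * a) * r = r * ((b : G)⁻¹ * a) := by
      have e1 : (a : G) * r * (a : G)⁻¹ = (b : G) * r * (b : G)⁻¹ := by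
        have := congrArg (fun t => r * t) h1
        simpa [mul_assoc] using this
      have e2 : ((b : G)⁻¹ * a) * r = (b : G)⁻¹ * ((a : G) * r * (a : G)⁻¹) * a := by group
      rw [e2, e1]; group
    have h3 : (b : G)⁻¹ * a ∈ R := mem_of_commute hR hr hr1 h2
    have h4 : (b : G)⁻¹ * a ∈ N ⊓ R := ⟨N.mul_mem (N.inv_mem b.2) a.2, h3⟩
    rw [hNR, Subgroup.mem_bot] at h4
    apply Subtype.ext
    have : (a : G) = b * ((b : G)⁻¹ * a) := by group
    rw [this, h4, mul_one]
  obtain ⟨h, hh⟩ := (Finite.injective_iff_surjective.1 hinj) ⟨m, hm⟩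
  refine ⟨h, h.2, ?_⟩
  have h1 : r⁻¹ * (h : G) * r * (h : G)⁻¹ = m := congrArg Subtype.val hh
  rw [← h1]; group

/-- if `N ∩ R = 1`, an element outside `N` whose image lies in the image of `R` is `N`-conjugate
into `R` -/
theorem exists_conj_mem [Finite G] {R : Subgroup G} (hR : IsFrobeniusComplement R) (N : Subgroup G)
    [hN : N.Normal] (hNR : N ⊓ R = ⊥) {x : G}
    (hx : (QuotientGroup.mk' N) x ∈ R.map (QuotientGroup.mk' N)) (hxN : x ∉ N) :
    ∃ h ∈ N, h⁻¹ * x * h ∈ R := by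
  obtain ⟨r, hr, hrx⟩ := hx
  have hm : r⁻¹ * x ∈ N := by
    rw [← QuotientGroup.eq_one_iff]
    have : ((r⁻¹ * x : G) : G ⧸ N) = ((QuotientGroup.mk' N) r)⁻¹ * (QuotientGroup.mk' N) x := by
      simp
    rw [this, hrx]; group
  have hr1 : r ≠ 1 := by
    rintro rfl
    apply hxN
    simpa using hm
  obtain ⟨h, hh, heq⟩ := exists_conj_eq hR N hNR hr hr1 hm
  refine ⟨h, hh, ?_⟩
  have : x = r * (r⁻¹ * x) := by group
  rw [this, heq]
  have : h⁻¹ * (h * r * h⁻¹) * h = r := by group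
  rw [this]; exact hr

theorem result {G : Type*} [Group G] [Finite G] (R : Subgroup G) (hR : Cfsg.IsFrobeniusComplement R) (N : Subgroup G) [N.Normal] (hKN : ¬ Cfsg.frobeniusKernel R ⊆ N) : Cfsg.IsFrobeniusComplement (R.map (QuotientGroup.mk' N)) ∧ Cfsg.frobeniusKernel (R.map (QuotientGroup.mk' N)) = QuotientGroup.mk' N '' Cfsg.frobeniusKernel R := by
  have hN : N.Normal := inferInstance
  have hNR : N ⊓ R = ⊥ := by
    by_contra h
    exact hKN (frobeniusKernel_subset_of_inf_ne_bot hR N h)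
  have hmk : ∀ x : G, (QuotientGroup.mk' N) x = 1 ↔ x ∈ N := fun x => QuotientGroup.eq_one_iff x
  -- an element of the kernel outside `N`
  obtain ⟨k, hkK, hkN⟩ := Set.not_subset.1 hKN
  have hk1 : k ≠ 1 := by
    rintro rfl
    exact hkN N.one_mem
  have hkconj : ∀ g : G, g⁻¹ * k * g ∉ R := by
    rcases mem_frobeniusKernel.1 hkK with h | h
    · exact absurd h hk1
    · exact h
  refine ⟨⟨?_, ?_, ?_⟩, ?_⟩
  · -- the image of `R` is nontrivial
    intro hbot
    obtain ⟨r, hr1⟩ := (Subgroup.ne_bot_iff_exists_ne_one.1 hR.1)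
    have h1 : (QuotientGroup.mk' N) r ∈ R.map (QuotientGroup.mk' N) :=
      Subgroup.mem_map_of_mem _ r.2
    rw [hbot, Subgroup.mem_bot, hmk] at h1
    have h2 : (r : G) ∈ N ⊓ R := ⟨h1, r.2⟩
    rw [hNR, Subgroup.mem_bot] at h2
    exact hr1 (Subtype.ext h2)
  · -- the image of `R` is proper
    intro htop
    have h1 : (QuotientGroup.mk' N) k ∈ R.map (QuotientGroup.mk' N) := by rw [htop]; trivial
    obtain ⟨h, _, hh⟩ := exists_conj_mem hR N hNR h1 hkN
    exact hkconj h hh
  · -- trivial intersections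
    intro gbar hgbar
    rw [eq_bot_iff]
    intro ybar hy
    rw [Subgroup.mem_bot]
    by_contra hy1
    obtain ⟨g, rfl⟩ := QuotientGroup.mk'_surjective N gbar
    obtain ⟨y, rfl⟩ := QuotientGroup.mk'_surjective N ybar
    have hyN : y ∉ N := fun h => hy1 ((hmk y).2 h)
    have hy1' : y ≠ 1 := by
      rintro rfl; exact hyN N.one_mem
    obtain ⟨hyR, hyg⟩ := hy
    have hyR : (QuotientGroup.mk' N) y ∈ R.map (QuotientGroup.mk' N) := hyR
    have hyg : (QuotientGroup.mk' N) y ∈
        MulAut.conj ((QuotientGroup.mk' N) g) • R.map (QuotientGroup.mk' N) := hyg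
    rw [mem_conj_smul] at hyg
    have hyg' : (QuotientGroup.mk' N) (g⁻¹ * y * g) ∈ R.map (QuotientGroup.mk' N) := by
      simpa using hyg
    have hygN : g⁻¹ * y * g ∉ N := by
      intro h
      apply hyN
      have := hN.conj_mem _ h g
      have e : g * (g⁻¹ * y * g) * g⁻¹ = y := by group
      rwa [e] at this
    obtain ⟨h, hh, hhR⟩ := exists_conj_mem hR N hNR hyR hyN
    obtain ⟨h', hh', hhR'⟩ := exists_conj_mem hR N hNR hyg' hygN
    have e : h'⁻¹ * (g⁻¹ * y * g) * h' = (g * h')⁻¹ * y * (g * h') := by group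
    rw [e] at hhR'
    have hmem := inv_mul_mem_of_conj_mem hR hy1' hhR hhR'
    apply hgbar
    refine ⟨h⁻¹ * (g * h'), hmem, ?_⟩
    have e1 : (QuotientGroup.mk' N) h = 1 := (hmk h).2 hh
    have e2 : (QuotientGroup.mk' N) h' = 1 := (hmk h').2 hh'
    rw [map_mul, map_mul, map_inv, e1, e2]; group
  · -- the kernel
    ext ybar
    rw [mem_frobeniusKernel]
    constructor
    · rintro (h | h)
      · exact ⟨1, one_mem_frobeniusKernel R, by rw [h, map_one]⟩
      · obtain ⟨y, rfl⟩ := QuotientGroup.mk'_surjective N ybar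
        refine ⟨y, mem_frobeniusKernel.2 (Or.inr ?_), rfl⟩
        intro g hg
        apply h ((QuotientGroup.mk' N) g)
        refine ⟨g⁻¹ * y * g, hg, ?_⟩
        simp
    · rintro ⟨x, hxK, rfl⟩
      by_cases hxN : x ∈ N
      · left; exact (hmk x).2 hxN
      · right
        intro gbar hg
        obtain ⟨g, rfl⟩ := QuotientGroup.mk'_surjective N gbar
        have hx1 : x ≠ 1 := by
          rintro rfl; exact hxN N.one_mem
        have hxconj : ∀ g : G, g⁻¹ * x * g ∉ R := by
          rcases mem_frobeniusKernel.1 hxK with h | h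
          · exact absurd h hx1
          · exact h
        have hg' : (QuotientGroup.mk' N) (g⁻¹ * x * g) ∈ R.map (QuotientGroup.mk' N) := by
          simpa using hg
        have hgN : g⁻¹ * x * g ∉ N := by
          intro h
          apply hxN
          have := hN.conj_mem _ h g
          have e : g * (g⁻¹ * x * g) * g⁻¹ = x := by group
          rwa [e] at this
        obtain ⟨h, _, hhR⟩ := exists_conj_mem hR N hNR hg' hgN
        have e : h⁻¹ * (g⁻¹ * x * g) * h = (g * h)⁻¹ * x * (g * h) := by group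
        rw [e] at hhR
        exact hxconj _ hhR

end Cfsg.Agent.S3768
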