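import Mathlib
import Cfsg.Statements.S3770
import Cfsg.Agent.Lib.Helper52_FrobAct
import Cfsg.Agent.Lib.Helper6_Frobenius
import Cfsg.Agent.Lib.Helper66_FrobK

set_option autoImplicit false
set_option linter.style.haveILetI false
open Cfsg

namespace Cfsg.Agent.S3770

open Cfsg.Agent.Lib.Helper52_FrobAct

theorem normalizer_bot_eq_top {X : Type*} [Group X] :
    Subgroup.normalizer (((⊥ : Subgroup X)) : Set X) = ⊤ := by
  rw [eq_top_iff]
  intro g _
  rw [Subgroup.mem_normalizer_iff]
  intro h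
  rw [Subgroup.mem_bot, Subgroup.mem_bot]
  constructor
  · intro hh
    rw [hh]
    group
  · intro hh
    have : h = g⁻¹ * (g * h * g⁻¹) * g := by group
    rw [this, hh]
    group

/-- Let G and V be subgroups of a finite group with G a Frobenius group with complement R of prime order and kernel K, G normalizing V, and V an elementary abelian ℓ-group for a prime ℓ not dividing the order of G. If C_V(R) has order ℓ, then the derived subgroup of K centralizes V. -/
theorem result {X : Type*} [Group X] [Finite X] (G : Subgroup X) (V : Subgroup X) {ℓ : ℕ} (hℓ : ℓ.Prime) (hV : Cfsg.IsElementaryAbelian ℓ V) (hℓG : ¬ ℓ ∣ Nat.card G) (hGV : G ≤ Subgroup.normalizer (V : Set X)) (R : Subgroup ↥G) (hR : Cfsg.IsFrobeniusComplement R) (hRp : (Nat.card R).Prime) (hCV : Nat.card ↥(V ⊓ Subgroup.centralizer ((R.map G.subtype : Subgroup X) : Set X)) = ℓ) : ⁅Subgroup.closure (Subtype.val '' Cfsg.frobeniusKernel R), Subgroup.closure (Subtype.val '' Cfsg.frobeniusKernel R)⁆ ≤ Subgroup.centralizer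 (V : Set X) := by
  haveI : Fact ℓ.Prime := ⟨hℓ⟩
  obtain ⟨K, hK, hKn, hKc⟩ := Cfsg.Agent.Lib.Helper6_Frobenius.exists_kernel R hR
  have hcl : Subgroup.closure (Subtype.val '' Cfsg.frobeniusKernel R) = K.map G.subtype := by
    rw [← hK]
    have h1 : (Subtype.val '' (K : Set ↥G)) = ((K.map G.subtype : Subgroup X) : Set X) := by
      rw [Subgroup.coe_map]
      rfl
    rw [h1, Subgroup.closure_eq]
  rw [hcl]
  have hfpf0 := @Cfsg.Agent.Lib.Helper66_FrobK.fpf _ _ K R hR hK.symm
  haveI := hKn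
  have hnil0 : Group.IsNilpotent K := Cfsg.Agent.Lib.Helper66_FrobK.isNilpotent_kernel K R hR hK.symm
  have hnil : Group.IsNilpotent (K.map G.subtype) := by
    haveI := hnil0
    exact Group.nilpotent_of_mulEquiv (K.equivMapOfInjective G.subtype G.subtype_injective)
  have hUn : ∀ e ∈ R.map G.subtype, ∀ u ∈ K.map G.subtype, e * u * e⁻¹ ∈ K.map G.subtype := by
    rintro _ ⟨e, he, rfl⟩ _ ⟨u, hu, rfl⟩
    exact ⟨e * u * e⁻¹, hKn.conj_mem u hu e, by simp⟩
  have hfpf : ∀ e ∈ R.map G.subtype, e ≠ 1 → ∀ u ∈ K.map G.subtype, e * u = u * e → u = 1 := by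
    rintro _ ⟨e, he, rfl⟩ he1 _ ⟨u, hu, rfl⟩ h
    have h1 : e ≠ 1 := by
      intro h2
      apply he1
      rw [h2]
      rfl
    have h3 : e * u = u * e := by
      apply Subtype.ext
      simpa using h
    have h4 := hfpf0 he h1 hu h3
    rw [h4]
    rfl
  have hsup : K.map G.subtype ⊔ R.map G.subtype = G := by
    rw [← Subgroup.map_sup, hKc.sup_eq_top, ← MonoidHom.range_eq_map, Subgroup.range_subtype]
  have hVcomm : ∀ a ∈ V, ∀ b ∈ V, a * b = b * a := by
    intro a ha b hb
    have h1 := hV.1.is_comm.comm (⟨a, ha⟩ : V) ⟨b, hb⟩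
    exact congrArg Subtype.val h1
  have hcommQ : ⁅V, V⁆ ≤ ⊥ := by
    rw [Subgroup.commutator_le]
    intro a ha b hb
    rw [Subgroup.mem_bot, commutatorElement_eq_one_iff_mul_comm]
    exact hVcomm a ha b hb
  have hVp : IsPGroup ℓ V := by
    intro v
    refine ⟨1, ?_⟩
    apply Subtype.ext
    rw [pow_one, Subgroup.coe_pow]
    exact hV.2 v v.2
  obtain ⟨n, hn⟩ := IsPGroup.iff_card.1 hVp
  have hcop : (Nat.card ↥(K.map G.subtype ⊔ R.map G.subtype)).Coprime (Nat.card V) := by
    rw [hsup, hn]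
    apply Nat.Coprime.pow_right
    exact ((Nat.Prime.coprime_iff_not_dvd hℓ).2 hℓG).symm
  have hsolv : Group.IsSolvable V := by
    letI : CommGroup V :=
      { (inferInstance : Group V) with
        mul_comm := fun a b => Subtype.ext (hVcomm a a.2 b b.2) }
    exact Group.isSolvable_of_comm (fun a b => mul_comm a b)
  have h1 : Nat.card ↥(V ⊓ Subgroup.centralizer ((R.map G.subtype : Subgroup X) : Set X)) =
      ℓ * Nat.card ↥((⊥ : Subgroup X) ⊓
        Subgroup.centralizer ((R.map G.subtype : Subgroup X) : Set X)) := by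
    rw [hCV, bot_inf_eq, Subgroup.card_bot, mul_one]
  have key := section_commute ℓ (K.map G.subtype) (R.map G.subtype) V ⊥ hUn hfpf hnil
    (by rw [hsup]; exact hGV) (by rw [normalizer_bot_eq_top]; exact le_top) bot_le
    (by rw [normalizer_bot_eq_top]; exact le_top) hcommQ
    (fun m hm => by rw [Subgroup.mem_bot]; exact hV.2 m hm)
    (by rw [hsup]; exact hℓG) hcop hsolv h1
  intro x hx
  rw [Subgroup.mem_centralizer_iff]
  intro m hm
  have h2 := key x hx m hm
  rw [Subgroup.mem_bot] at h2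
  calc m * x = (x * m * x⁻¹ * m⁻¹)⁻¹ * (x * m) := by group
    _ = x * m := by rw [h2, inv_one, one_mul]

end Cfsg.Agent.S3770
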