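import Mathlib
import Cfsg.Statements.S3771
import Cfsg.Agent.Lib.Helper63_PGroup

set_option autoImplicit false
open Cfsg

namespace Cfsg.Agent.S3771

open Cfsg.Agent.Lib.Helper63_PGroup
open scoped commutatorElement

/-- a power of `p` exceeding `p` is at least `p ^ 2` -/
theorem sq_le_of_lt_pow {p k : ℕ} (hp : p.Prime) (h : p < p ^ k) : p ^ 2 ≤ p ^ k := by
  apply Nat.pow_le_pow_right hp.pos
  by_contra hlt
  have hk : k ≤ 1 := by omega
  have : p ^ k ≤ p ^ 1 := Nat.pow_le_pow_right hp.pos hk
  rw [pow_one] at this
  omega

theorem result {R : Type*} [Group R] [Finite R] {p : ℕ} [Fact p.Prime] (hR : IsPGroup p R) (hrank : Cfsg.PRankLE p 2 R) (hexp : ∀ x : R, x ^ p = 1) : Nat.card R ≤ p ^ 3 := by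
  have hp : p.Prime := Fact.out
  by_contra hcon
  rw [not_le] at hcon
  -- every abelian subgroup has order at most `p ^ 2`
  have hab : ∀ A : Subgroup R, IsMulCommutative A → Nat.card A ≤ p ^ 2 :=
    fun A hA => hrank A hA (fun a _ => hexp a)
  have hp23 : p ^ 2 < p ^ 3 := Nat.pow_lt_pow_right hp.one_lt (by norm_num)
  -- `R` is not abelian
  have hZtop : Subgroup.center R ≠ ⊤ := by
    intro h
    have hcomm : IsMulCommutative (⊤ : Subgroup R) := by
      rw [← Subgroup.le_centralizer_iff_isMulCommutative, Subgroup.coe_top, Subgroup.centralizer_univ, h]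
    have := hab ⊤ hcomm
    rw [Subgroup.card_top] at this
    omega
  have hZcomm : IsMulCommutative (Subgroup.center R) := inferInstance
  -- the centre has order `p`
  have hnt : Nontrivial R := by
    rw [← Finite.one_lt_card_iff_nontrivial]
    have : 1 ≤ p ^ 3 := Nat.one_le_pow _ _ hp.pos
    omega
  obtain ⟨kZ, hkZ⟩ := IsPGroup.iff_card.1 (hR.to_subgroup (Subgroup.center R))
  have hZ1 : 1 < Nat.card (Subgroup.center R) := by
    have := hR.center_nontrivial
    exact Finite.one_lt_card_iff_nontrivial.2 this
  have hZp : Nat.card (Subgroup.center R) = p := by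
    -- otherwise adjoin a noncentral element to the centre
    by_contra hne
    have hge : p ^ 2 ≤ Nat.card (Subgroup.center R) := by
      rw [hkZ]
      apply sq_le_of_lt_pow hp
      rw [← hkZ]
      have hk0 : kZ ≠ 0 := by
        rintro rfl
        rw [pow_zero] at hkZ; omega
      have : p ≤ p ^ kZ := by
        calc p = p ^ 1 := (pow_one p).symm
          _ ≤ p ^ kZ := Nat.pow_le_pow_right hp.pos (by omega)
      rw [← hkZ] at this
      omega
    obtain ⟨x, hx⟩ : ∃ x : R, x ∉ Subgroup.center R := by
      by_contra hall
      push Not at hall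
      exact hZtop (eq_top_iff.2 fun x _ => hall x)
    have hcomm := isMulCommutative_sup_zpowers (Subgroup.center R) x
      (fun d hd => (Subgroup.mem_center_iff.1 hd x).symm)
    have h1 := card_lt_card_sup_zpowers (Subgroup.center R) x hx
    have h2 := hab _ hcomm
    omega
  -- an element of the second centre
  obtain ⟨b, hbZ, hb⟩ := exists_not_mem_center_commutator_mem_center hR hZtop
  set C := Subgroup.centralizer ({b} : Set R) with hC
  have hCidx : C.index ∣ p := by
    have := index_centralizer_dvd_card_center b hb
    rwa [hZp] at this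
  have hCcard : p ^ 2 < Nat.card C := by
    have h1 := Subgroup.card_mul_index C
    have h2 : C.index ≤ p := Nat.le_of_dvd hp.pos hCidx
    have h3 : Nat.card R ≤ Nat.card C * p := by
      rw [← h1]; exact Nat.mul_le_mul_left _ h2
    by_contra hle
    rw [not_lt] at hle
    have : Nat.card C * p ≤ p ^ 2 * p := Nat.mul_le_mul_right _ hle
    have e : p ^ 2 * p = p ^ 3 := by ring
    omega
  -- `D = Z ⊔ ⟨b⟩`
  set D := Subgroup.center R ⊔ Subgroup.zpowers b with hD
  have hDcomm : IsMulCommutative D := isMulCommutative_sup_zpowers (Subgroup.center R) b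
      (fun d hd => (Subgroup.mem_center_iff.1 hd b).symm)
  have hDcard : p ^ 2 ≤ Nat.card D := by
    have h1 := card_lt_card_sup_zpowers (Subgroup.center R) b hbZ
    obtain ⟨kD, hkD⟩ := IsPGroup.iff_card.1 (hR.to_subgroup D)
    rw [hkD]
    apply sq_le_of_lt_pow hp
    rw [← hkD, ← hZp]
    exact h1
  have hDC : D ≤ C := by
    apply sup_le
    · intro z hz
      rw [hC, Subgroup.mem_centralizer_iff]
      intro y hy
      rw [Set.mem_singleton_iff] at hy
      rw [hy]
      exact (Subgroup.mem_center_iff.1 hz b)
    · rw [Subgroup.zpowers_le, hC, Subgroup.mem_centralizer_iff]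
      intro y hy
      rw [Set.mem_singleton_iff] at hy
      rw [hy]
  by_cases hCD : C ≤ D
  · have : C = D := le_antisymm hCD hDC
    have := hab D hDcomm
    rw [← ‹C = D›] at this
    omega
  · obtain ⟨x, hxC, hxD⟩ := SetLike.not_le_iff_exists.1 hCD
    -- `x` commutes with `D`
    have hxcomm : ∀ d ∈ D, d * x = x * d := by
      intro d hd
      have hdc : d ∈ Subgroup.centralizer ({x} : Set R) := by
        have hle : D ≤ Subgroup.centralizer ({x} : Set R) := by
          apply sup_le
          · intro z hz
            rw [Subgroup.mem_centralizer_iff]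
            intro y hy
            rw [Set.mem_singleton_iff] at hy
            rw [hy]
            exact (Subgroup.mem_center_iff.1 hz x)
          · rw [Subgroup.zpowers_le, Subgroup.mem_centralizer_iff]
            intro y hy
            rw [Set.mem_singleton_iff] at hy
            rw [hy]
            rw [hC, Subgroup.mem_centralizer_iff] at hxC
            exact (hxC b rfl).symm
        exact hle hd
      rw [Subgroup.mem_centralizer_iff] at hdc
      exact (hdc x rfl).symm
    have hcomm := isMulCommutative_sup_zpowers D x hxcomm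
    have h1 := card_lt_card_sup_zpowers D x hxD
    have h2 := hab _ hcomm
    omega

end Cfsg.Agent.S3771
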