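import Mathlib
import Cfsg.Statements.S3772
import Cfsg.Agent.Lib.Helper63_PGroup2
import Cfsg.Agent.Lib.Helper1_Frattini

set_option autoImplicit false
open Cfsg

namespace Cfsg.Agent.S3772

open Cfsg.Agent.Lib.Helper63_PGroup Cfsg.Agent.Lib.Helper63_PGroup2
  Cfsg.Agent.Lib.Helper1_Frattini
open scoped commutatorElement

variable {G : Type*} [Group G]

/-- the sign character: `1 ↦ 1`, everything else `↦ -1` -/
noncomputable def chi (g : G) : ℤ := by
  classical exact if g = 1 then 1 else -1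

theorem chi_one : chi (1 : G) = 1 := by simp [chi]

theorem chi_of_ne {g : G} (h : g ≠ 1) : chi g = -1 := by simp [chi, h]

theorem chi_eq_one_iff {g : G} : chi g = 1 ↔ g = 1 := by
  constructor
  · intro h
    by_contra hne
    rw [chi_of_ne hne] at h
    omega
  · rintro rfl; exact chi_one

/-- in a subgroup of order two, two nonidentity elements coincide and square to one -/
theorem eq_of_ne_one {H : Subgroup G} (hH : Nat.card H = 2) {a b : G} (ha : a ∈ H) (hb : b ∈ H)
    (ha1 : a ≠ 1) (hb1 : b ≠ 1) : a = b := by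
  obtain ⟨y, _, hy⟩ := (Nat.card_eq_two_iff' (1 : H)).1 hH
  have h1 : (⟨a, ha⟩ : H) = y := hy _ (fun h => ha1 (congrArg Subtype.val h))
  have h2 : (⟨b, hb⟩ : H) = y := hy _ (fun h => hb1 (congrArg Subtype.val h))
  exact congrArg Subtype.val (h1.trans h2.symm)

theorem mul_self_of_mem {H : Subgroup G} (hH : Nat.card H = 2) {a : G} (ha : a ∈ H) :
    a * a = 1 := by
  by_cases ha1 : a = 1
  · rw [ha1, one_mul]
  · by_contra hne
    have := eq_of_ne_one hH (H.mul_mem ha ha) ha hne ha1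
    apply ha1
    have h : a * a = a * 1 := by rw [this, mul_one]
    exact mul_left_cancel h

/-- `chi` is multiplicative on a subgroup of order two -/
theorem chi_mul {H : Subgroup G} (hH : Nat.card H = 2) {a b : G} (ha : a ∈ H) (hb : b ∈ H) :
    chi (a * b) = chi a * chi b := by
  by_cases ha1 : a = 1
  · rw [ha1, one_mul, chi_one, one_mul]
  by_cases hb1 : b = 1
  · rw [hb1, mul_one, chi_one, mul_one]
  have hab : a = b := eq_of_ne_one hH ha hb ha1 hb1
  rw [chi_of_ne ha1, chi_of_ne hb1, hab, mul_self_of_mem hH hb, chi_one]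
  norm_num

/-- a multiplicative `ℤ`-valued function taking the value `-1` sums to zero -/
theorem sum_eq_zero_of_mul {K : Type*} [Group K] [Fintype K] (ψ : K → ℤ)
    (hmul : ∀ x y, ψ (x * y) = ψ x * ψ y) (x₀ : K) (h : ψ x₀ = -1) : ∑ x, ψ x = 0 := by
  have h1 : ∑ x, ψ x = ∑ x, ψ (x₀ * x) :=
    (Fintype.sum_equiv (Equiv.mulLeft x₀) _ _ (fun x => rfl)).symm
  simp only [hmul, h] at h1
  rw [← Finset.mul_sum] at h1
  omega

section Main

variable [Fintype G] (Φ : Subgroup G) (hΦ2 : Nat.card Φ = 2) (hΦc : Φ ≤ Subgroup.center G)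
  (hsq : ∀ x : G, x ^ 2 ∈ Φ) (hcomm : ∀ x y : G, ⁅x, y⁆ ∈ Φ)

include hΦ2 hΦc hsq hcomm

omit [Fintype G] in
theorem key1 (x u : G) :
    chi (x ^ 2) * chi ((x * u) ^ 2) = chi (u ^ 2) * chi ⁅u⁻¹, x⁻¹⁆ := by
  have hcΦ : ⁅u⁻¹, x⁻¹⁆ ∈ Φ := hcomm _ _
  have hc : ∀ g : G, g * ⁅u⁻¹, x⁻¹⁆ = ⁅u⁻¹, x⁻¹⁆ * g := Subgroup.mem_center_iff.1 (hΦc hcΦ)
  have e1 : (x * u) ^ 2 = x ^ 2 * (u ^ 2 * ⁅u⁻¹, x⁻¹⁆) := by
    have h1 : u * x = x * u * ⁅u⁻¹, x⁻¹⁆ := by
      rw [commutatorElement_def]; group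
    calc (x * u) ^ 2 = x * (u * x) * u := by rw [sq]; group
      _ = x * (x * u * ⁅u⁻¹, x⁻¹⁆) * u := by rw [h1]
      _ = x * x * u * (⁅u⁻¹, x⁻¹⁆ * u) := by group
      _ = x * x * u * (u * ⁅u⁻¹, x⁻¹⁆) := by rw [hc u]
      _ = x ^ 2 * (u ^ 2 * ⁅u⁻¹, x⁻¹⁆) := by rw [sq, sq]; group
  have hu2c : u ^ 2 * ⁅u⁻¹, x⁻¹⁆ ∈ Φ := Φ.mul_mem (hsq u) hcΦ
  rw [e1, ← chi_mul hΦ2 (hsq x) (Φ.mul_mem (hsq x) hu2c), ← mul_assoc,
    mul_self_of_mem hΦ2 (hsq x), one_mul, chi_mul hΦ2 (hsq u) hcΦ]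

theorem key2 : (∑ x : G, chi (x ^ 2)) * (∑ x : G, chi (x ^ 2)) =
    ∑ u : G, chi (u ^ 2) * ∑ x : G, chi ⁅u⁻¹, x⁻¹⁆ := by
  rw [Finset.sum_mul_sum]
  have h1 : ∀ x : G, ∑ y : G, chi (x ^ 2) * chi (y ^ 2) =
      ∑ u : G, chi (u ^ 2) * chi ⁅u⁻¹, x⁻¹⁆ := by
    intro x
    rw [← Fintype.sum_equiv (Equiv.mulLeft x) (fun u => chi (x ^ 2) * chi ((x * u) ^ 2))
      (fun y => chi (x ^ 2) * chi (y ^ 2)) (fun u => rfl)]
    exact Finset.sum_congr rfl (fun u _ => key1 Φ hΦ2 hΦc hsq hcomm x u)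
  rw [Finset.sum_congr rfl (fun x _ => h1 x), Finset.sum_comm]
  exact Finset.sum_congr rfl (fun u _ => (Finset.mul_sum _ _ _).symm)

open scoped Classical in
theorem key3 (u : G) : ∑ x : G, chi ⁅u⁻¹, x⁻¹⁆ =
    if u ∈ Subgroup.center G then (Fintype.card G : ℤ) else 0 := by
  split_ifs with hu
  · have : ∀ x : G, chi ⁅u⁻¹, x⁻¹⁆ = 1 := by
      intro x
      rw [chi_eq_one_iff, commutatorElement_eq_one_iff_mul_comm]
      exact (Subgroup.mem_center_iff.1 ((Subgroup.center G).inv_mem hu) x⁻¹).symm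
    simp [this]
  · -- some `x₀` does not commute with `u`
    have : ∃ g : G, g * u ≠ u * g := by
      by_contra hall
      push Not at hall
      exact hu (Subgroup.mem_center_iff.2 hall)
    obtain ⟨g, hg⟩ := this
    apply sum_eq_zero_of_mul (fun x => chi ⁅u⁻¹, x⁻¹⁆) ?_ g
    · apply chi_of_ne
      rw [Ne, commutatorElement_eq_one_iff_mul_comm]
      intro h
      apply hg
      have h3 : g⁻¹ * u⁻¹ = u⁻¹ * g⁻¹ := h.symm
      calc g * u = (u⁻¹ * g⁻¹)⁻¹ := by group
        _ = (g⁻¹ * u⁻¹)⁻¹ := by rw [h3]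
        _ = u * g := by group
    · intro x y
      have hcΦ : ⁅u⁻¹, x⁻¹⁆ ∈ Φ := hcomm _ _
      have hc : ∀ g : G, g * ⁅u⁻¹, x⁻¹⁆ = ⁅u⁻¹, x⁻¹⁆ * g := Subgroup.mem_center_iff.1 (hΦc hcΦ)
      have e : ⁅u⁻¹, (x * y)⁻¹⁆ = ⁅u⁻¹, x⁻¹⁆ * ⁅u⁻¹, y⁻¹⁆ := by
        have h1 : ⁅u⁻¹, (x * y)⁻¹⁆ = (u⁻¹ * y⁻¹ * u) * ⁅u⁻¹, x⁻¹⁆ * y := by
          simp only [commutatorElement_def]; group
        rw [h1, hc (u⁻¹ * y⁻¹ * u)]
        simp only [commutatorElement_def]; group
      show chi ⁅u⁻¹, (x * y)⁻¹⁆ = chi ⁅u⁻¹, x⁻¹⁆ * chi ⁅u⁻¹, y⁻¹⁆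
      rw [e, chi_mul hΦ2 hcΦ (hcomm _ _)]

open scoped Classical in
theorem key4 : (∑ x : G, chi (x ^ 2)) * (∑ x : G, chi (x ^ 2)) =
    if ∀ u ∈ Subgroup.center G, u ^ 2 = 1 then
      (Fintype.card G : ℤ) * (Nat.card (Subgroup.center G) : ℤ) else 0 := by
  classical
  rw [key2 Φ hΦ2 hΦc hsq hcomm]
  simp only [key3 Φ hΦ2 hΦc hsq hcomm]
  have h1 : ∑ u : G, chi (u ^ 2) * (if u ∈ Subgroup.center G then (Fintype.card G : ℤ) else 0) =
      (Fintype.card G : ℤ) * ∑ u : Subgroup.center G, chi ((u : G) ^ 2) := by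
    rw [Finset.mul_sum]
    rw [← Finset.sum_subtype (Finset.univ.filter (fun u : G => u ∈ Subgroup.center G))
      (by simp) (fun u => (Fintype.card G : ℤ) * chi (u ^ 2))]
    rw [Finset.sum_filter]
    apply Finset.sum_congr rfl
    intro u _
    split_ifs <;> ring
  rw [h1]
  split_ifs with hall
  · congr 1
    have : ∀ u : Subgroup.center G, chi ((u : G) ^ 2) = 1 := by
      intro u
      rw [chi_eq_one_iff]
      exact hall u u.2
    simp [this, Nat.card_eq_fintype_card]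
  · push Not at hall
    obtain ⟨u₀, hu₀, hu₀2⟩ := hall
    rw [sum_eq_zero_of_mul (fun u : Subgroup.center G => chi ((u : G) ^ 2)) ?_ ⟨u₀, hu₀⟩
      (chi_of_ne hu₀2), mul_zero]
    intro a b
    have e : (((a * b : Subgroup.center G) : G)) ^ 2 = (a : G) ^ 2 * (b : G) ^ 2 := by
      have hb := Subgroup.mem_center_iff.1 b.2 (a : G)
      rw [Subgroup.coe_mul, sq, sq, sq]
      calc (a : G) * b * (a * b) = a * (b * a) * b := by group
        _ = a * (a * b) * b := by rw [← hb]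
        _ = a * a * (b * b) := by group
    show chi ((((a * b : Subgroup.center G) : G)) ^ 2) = _
    rw [e, chi_mul hΦ2 (hsq _) (hsq _)]

end Main

open scoped Classical in
/-- relation between the character sum and the number of solutions of `x ^ 2 = 1` -/
theorem sum_chi_sq [Fintype G] :
    (∑ x : G, chi (x ^ 2)) + (Fintype.card G : ℤ) = 2 * (Nat.card {x : G // x ^ 2 = 1} : ℤ) := by
  have h1 : ∀ x : G, chi (x ^ 2) = if x ^ 2 = 1 then 1 else -1 := by
    intro x
    by_cases h : x ^ 2 = 1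
    · rw [h, chi_one, if_pos rfl]
    · rw [chi_of_ne h, if_neg h]
  simp only [h1]
  rw [Finset.sum_ite, Finset.sum_const, Finset.sum_const, Nat.card_eq_fintype_card,
    Fintype.card_subtype]
  have h2 : (Finset.univ.filter (fun x : G => x ^ 2 = 1)).card +
      (Finset.univ.filter (fun x : G => ¬ x ^ 2 = 1)).card = Fintype.card G := by
    rw [Finset.card_filter_add_card_filter_not, Finset.card_univ]
  simp only [nsmul_eq_mul, mul_one, mul_neg]
  rw [← h2]
  push_cast
  ring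

theorem sq_eq_two_pow {T : ℤ} {k : ℕ} (h : T * T = 2 ^ k) :
    ∃ m : ℕ, 2 * m = k ∧ (T = 2 ^ m ∨ T = -2 ^ m) := by
  have h1 : T.natAbs * T.natAbs = 2 ^ k := by
    have := congrArg Int.natAbs h
    rw [Int.natAbs_mul, Int.natAbs_pow] at this
    simpa using this
  have h2 : T.natAbs ∣ 2 ^ k := ⟨T.natAbs, h1.symm⟩
  obtain ⟨m, _, hm⟩ := (Nat.dvd_prime_pow Nat.prime_two).1 h2
  refine ⟨m, ?_, ?_⟩
  · rw [hm, ← pow_add] at h1
    have := Nat.pow_right_injective (le_refl 2) h1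
    omega
  · rcases Int.natAbs_eq T with h3 | h3
    · left; rw [h3, hm]; push_cast; rfl
    · right; rw [h3, hm]; push_cast; rfl

theorem result {G : Type*} [Group G] [Finite G] (hG : IsPGroup 2 G) (hΦ : Nat.card (frattini G) = 2) (d : ℕ) (hd : (frattini G).index = 2 ^ d) : (Nat.card {x : G // x ^ 2 = 1} = 2 ^ d ∨ ∃ r : ℕ, 1 ≤ r ∧ 2 * r ≤ d ∧ (Nat.card {x : G // x ^ 2 = 1} = 2 ^ d + 2 ^ (d - r) ∨ Nat.card {x : G // x ^ 2 = 1} + 2 ^ (d - r) = 2 ^ d)) ∧ (∀ r : ℕ, d = 2 * r → (Nat.card {x : G // x ^ 2 = 1} = 2 ^ d + 2 ^ r ∨ Nat.card {x : G // x ^ 2 = 1} + 2 ^ r = 2 ^ d) → Cfsg.IsExtraspecial 2 G) := by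
  classical
  have : Fintype G := Fintype.ofFinite G
  have hΦn : (frattini G).Normal := inferInstance
  have hΦc : frattini G ≤ Subgroup.center G := IsPGroup.le_center_of_normal_of_card_eq hG _ hΦ
  have hsq : ∀ x : G, x ^ 2 ∈ frattini G := pow_mem_frattini_of_isPGroup hG
  have hcomm : ∀ x y : G, ⁅x, y⁆ ∈ frattini G := by
    intro x y
    apply commutator_le_frattini_of_isPGroup hG
    rw [commutator_def]
    exact Subgroup.commutator_mem_commutator (Subgroup.mem_top _) (Subgroup.mem_top _)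
  have hN : Fintype.card G = 2 * 2 ^ d := by
    rw [← Nat.card_eq_fintype_card, ← Subgroup.card_mul_index (frattini G), hΦ, hd]
  set j := Nat.card {x : G // x ^ 2 = 1} with hj
  have hTj := sum_chi_sq (G := G)
  have hkey := key4 (frattini G) hΦ hΦc hsq hcomm
  set T := ∑ x : G, chi (x ^ 2) with hT
  rw [← hj] at hTj
  by_cases hall : ∀ u ∈ Subgroup.center G, u ^ 2 = 1
  · -- the nondegenerate-on-the-centre case
    rw [if_pos hall] at hkey
    -- the centre is proper
    have hZtop : Subgroup.center G ≠ ⊤ := by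
      intro htop
      have h1 : frattini G ≤ ⊥ := by
        apply frattini_le_of_elementary_quotient (p := 2) ⊥
        · rw [commutator_def, Subgroup.commutator_le]
          intro a _ b _
          rw [Subgroup.mem_bot, commutatorElement_eq_one_iff_mul_comm]
          have : a ∈ Subgroup.center G := by rw [htop]; trivial
          exact (Subgroup.mem_center_iff.1 this b).symm
        · intro x
          rw [Subgroup.mem_bot]
          exact hall x (by rw [htop]; trivial)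
      rw [le_bot_iff] at h1
      rw [h1, Subgroup.card_bot] at hΦ
      omega
    obtain ⟨e, he⟩ := IsPGroup.iff_card.1 (hG.to_subgroup (Subgroup.center G))
    have he1 : 1 ≤ e := by
      by_contra h0
      have : e = 0 := by omega
      rw [this, pow_zero] at he
      have h2 := Subgroup.card_le_of_le hΦc
      omega
    have hed : e ≤ d + 1 := by
      have h1 : Nat.card (Subgroup.center G) ∣ Nat.card G := Subgroup.card_subgroup_dvd_card _
      rw [he, Nat.card_eq_fintype_card, hN, ← pow_succ'] at h1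
      exact (Nat.pow_dvd_pow_iff_le_right (by norm_num)).1 h1
    have hed' : e ≠ d + 1 := by
      intro h
      apply hZtop
      apply Subgroup.eq_top_of_card_eq
      rw [he, h, Nat.card_eq_fintype_card, hN, pow_succ']
    have hTT : T * T = 2 ^ (d + 1 + e) := by
      rw [hkey, he, hN]
      push_cast
      ring
    obtain ⟨m, hm, hTm⟩ := sq_eq_two_pow hTT
    have hm1 : 1 ≤ m := by omega
    have hmd : m ≤ d := by omega
    obtain ⟨m', rfl⟩ : ∃ m', m = m' + 1 := ⟨m - 1, by omega⟩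
    -- `j = 2 ^ d ± 2 ^ m'`
    have hjval : j = 2 ^ d + 2 ^ m' ∨ j + 2 ^ m' = 2 ^ d := by
      rw [hN] at hTj
      rcases hTm with h | h
      · left
        rw [h] at hTj
        have : (2 : ℤ) * (j : ℤ) = 2 * ((2 ^ d + 2 ^ m' : ℕ) : ℤ) := by
          rw [← hTj]; push_cast; ring
        have := mul_left_cancel₀ (by norm_num : (2 : ℤ) ≠ 0) this
        exact_mod_cast this
      · right
        rw [h] at hTj
        have : (2 : ℤ) * ((j + 2 ^ m' : ℕ) : ℤ) = 2 * ((2 ^ d : ℕ) : ℤ) := by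
          push_cast at hTj ⊢
          rw [pow_succ] at hTj
          linarith
        have := mul_left_cancel₀ (by norm_num : (2 : ℤ) ≠ 0) this
        exact_mod_cast this
    have hdm : d - (d - m') = m' := by omega
    refine ⟨Or.inr ⟨d - m', by omega, by omega, ?_⟩, ?_⟩
    · rw [hdm]; exact hjval
    · intro r hdr hjr
      -- `2 ^ r = 2 ^ m'`
      have hpos1 : 0 < 2 ^ r := Nat.pow_pos (by norm_num)
      have hpos2 : 0 < 2 ^ m' := Nat.pow_pos (by norm_num)
      have hrm : 2 ^ r = 2 ^ m' := by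
        rcases hjval with h1 | h1 <;> rcases hjr with h2 | h2 <;> omega
      have hrm' : r = m' := Nat.pow_right_injective (le_refl 2) hrm
      have he1' : e = 1 := by omega
      rw [he1', pow_one] at he
      have hZΦ : frattini G = Subgroup.center G :=
        Subgroup.eq_of_le_of_card_ge hΦc (by rw [he, hΦ])
      have hcomm_le : commutator G ≤ frattini G := commutator_le_frattini_of_isPGroup hG
      have hcomm_ne : commutator G ≠ ⊥ := by
        intro hbot
        apply hZtop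
        rw [eq_top_iff]
        intro a _
        rw [Subgroup.mem_center_iff]
        intro b
        have : ⁅b, a⁆ ∈ commutator G := by
          rw [commutator_def]
          exact Subgroup.commutator_mem_commutator (Subgroup.mem_top _) (Subgroup.mem_top _)
        rw [hbot, Subgroup.mem_bot, commutatorElement_eq_one_iff_mul_comm] at this
        exact this
      have hcomm_card : Nat.card (commutator G) = 2 := by
        have h1 : Nat.card (commutator G) ∣ 2 := by
          rw [← hΦ]; exact Subgroup.card_dvd_of_le hcomm_le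
        rcases (Nat.dvd_prime Nat.prime_two).1 h1 with h | h
        · exact absurd (Subgroup.card_eq_one.1 h) hcomm_ne
        · exact h
      have hcommΦ : commutator G = frattini G :=
        Subgroup.eq_of_le_of_card_ge hcomm_le (by rw [hcomm_card, hΦ])
      exact ⟨⟨hG, hZΦ, hcommΦ.trans hZΦ⟩, he⟩
  · -- the degenerate case: `T = 0`
    rw [if_neg hall] at hkey
    have hT0 : T = 0 := by
      rcases mul_self_eq_zero.1 hkey with h
      exact h
    rw [hT0, zero_add, hN] at hTj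
    have hjd : j = 2 ^ d := by
      have : (2 : ℤ) * (j : ℤ) = 2 * ((2 ^ d : ℕ) : ℤ) := by
        rw [← hTj]; push_cast; ring
      have := mul_left_cancel₀ (by norm_num : (2 : ℤ) ≠ 0) this
      exact_mod_cast this
    refine ⟨Or.inl hjd, ?_⟩
    intro r _ hjr
    have hpos1 : 0 < 2 ^ r := Nat.pow_pos (by norm_num)
    omega

end Cfsg.Agent.S3772
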