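import Cfsg.Statements.S3773
import Cfsg.Agent.Lib.Helper63_GaussSum
import Cfsg.Agent.Lib.Helper1_Frattini

set_option autoImplicit false
open Cfsg

namespace Cfsg.Agent.S3773

open scoped commutatorElement
open Cfsg.Agent.Lib.Helper63_GaussSum Cfsg.Agent.Lib.Helper1_Frattini

variable {G : Type*} [Group G]

/-- `(x y)² = [y, x] x² y²` when `[y, x]` is central. -/
theorem mul_sq_eq (x y : G) (hc : ∀ g : G, ⁅y, x⁆ * g = g * ⁅y, x⁆) :
    (x * y) ^ 2 = ⁅y, x⁆ * x ^ 2 * y ^ 2 := by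
  calc (x * y) ^ 2 = x * (⁅y, x⁆ * x) * y * y := by
        simp only [commutatorElement_def, pow_two]; group
    _ = x * (x * ⁅y, x⁆) * y * y := by rw [hc x]
    _ = x * x * (⁅y, x⁆ * (y * y)) := by group
    _ = x * x * ((y * y) * ⁅y, x⁆) := by rw [hc (y * y)]
    _ = (x * x * (y * y)) * ⁅y, x⁆ := by group
    _ = ⁅y, x⁆ * (x * x * (y * y)) := (hc _).symm
    _ = ⁅y, x⁆ * x ^ 2 * y ^ 2 := by rw [pow_two, pow_two]; group

/-- `[x², y] = [x, y]²` when `[x, y]` is central. -/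
theorem comm_sq_left (x y : G) (hc : ∀ g : G, ⁅x, y⁆ * g = g * ⁅x, y⁆) :
    ⁅x ^ 2, y⁆ = ⁅x, y⁆ ^ 2 := by
  calc ⁅x ^ 2, y⁆ = x * ⁅x, y⁆ * x⁻¹ * ⁅x, y⁆ := by
        simp only [commutatorElement_def, pow_two]; group
    _ = ⁅x, y⁆ * x * x⁻¹ * ⁅x, y⁆ := by rw [← hc x]
    _ = ⁅x, y⁆ ^ 2 := by rw [pow_two]; group

/-- `Ω₁(Z(G))` as a subgroup of `G`. -/
def Om (G : Type*) [Group G] : Subgroup G where
  carrier := {u | u ∈ Subgroup.center G ∧ u ^ 2 = 1}
  one_mem' := ⟨Subgroup.one_mem _, one_pow 2⟩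
  mul_mem' := by
    rintro a b ⟨ha, ha2⟩ ⟨hb, hb2⟩
    refine ⟨Subgroup.mul_mem _ ha hb, ?_⟩
    have hab : Commute a b := (Subgroup.mem_center_iff.1 ha b).symm
    rw [hab.mul_pow, ha2, hb2, one_mul]
  inv_mem' := by
    rintro a ⟨ha, ha2⟩
    exact ⟨Subgroup.inv_mem _ ha, by rw [inv_pow, ha2, inv_one]⟩

theorem mem_Om {u : G} : u ∈ Om G ↔ u ∈ Subgroup.center G ∧ u ^ 2 = 1 := Iff.rfl

theorem Om_le_center : Om G ≤ Subgroup.center G := fun _ h => h.1

instance Om.commGroup : CommGroup (Om G) :=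
  { (inferInstance : Group (Om G)) with
    mul_comm := fun a b => Subtype.ext (Subgroup.mem_center_iff.1 b.2.1 a.1) }

section Facts

variable (hcl : (⊤ : Subgroup G).lowerCentralSeries 2 = ⊥) (hexp : ∀ x : G, x ^ 4 = 1)
  (hN : ∀ x y : G, x ^ 2 = 1 → y ^ 2 = 1 → (x * y) ^ 2 = 1)

include hcl in
theorem comm_central (x y : G) : ⁅x, y⁆ ∈ Subgroup.center G := by
  have h1 : ⁅commutator G, (⊤ : Subgroup G)⁆ = ⊥ := hcl
  rw [Subgroup.commutator_eq_bot_iff_le_centralizer, Subgroup.coe_top,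
    Subgroup.centralizer_univ] at h1
  exact h1 (Subgroup.commutator_mem_commutator (Subgroup.mem_top x) (Subgroup.mem_top y))

include hcl hexp hN in
theorem comm_sq (x y : G) : ⁅x, y⁆ ^ 2 = 1 := by
  have hc : ∀ g : G, ⁅x, y⁆ * g = g * ⁅x, y⁆ := fun g =>
    (Subgroup.mem_center_iff.1 (comm_central hcl x y) g).symm
  have h1 := mul_sq_eq y x hc
  have h4 : ∀ z : G, (z ^ 2) ^ 2 = 1 := fun z => by rw [← pow_mul]; exact hexp z
  have h4' : ∀ z : G, ((z ^ 2)⁻¹) ^ 2 = 1 := fun z => by rw [inv_pow, h4, inv_one]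
  have h2 : ⁅x, y⁆ = (y * x) ^ 2 * (x ^ 2)⁻¹ * (y ^ 2)⁻¹ := by
    rw [h1]; group
  rw [h2]
  exact hN _ _ (hN _ _ (h4 _) (h4' _)) (h4' _)

include hcl hexp hN in
theorem sq_central (x : G) : x ^ 2 ∈ Subgroup.center G := by
  rw [Subgroup.mem_center_iff]
  intro y
  have hc : ∀ g : G, ⁅x, y⁆ * g = g * ⁅x, y⁆ := fun g =>
    (Subgroup.mem_center_iff.1 (comm_central hcl x y) g).symm
  have h1 : ⁅x ^ 2, y⁆ = 1 := by rw [comm_sq_left x y hc, comm_sq hcl hexp hN]
  exact (commutatorElement_eq_one_iff_mul_comm.1 h1).symm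

include hcl hexp hN in
theorem sq_mem_Om (x : G) : x ^ 2 ∈ Om G :=
  ⟨sq_central hcl hexp hN x, by rw [← pow_mul]; exact hexp x⟩

include hcl hexp hN in
theorem comm_mem_Om (x y : G) : ⁅x, y⁆ ∈ Om G :=
  ⟨comm_central hcl x y, comm_sq hcl hexp hN x y⟩

end Facts

/-- Let G be a finite 2-group of nilpotency class at most 2 and exponent dividing 4 in which the elements x with x² = 1 form a subgroup N. Then |G| ≤ |N|³, and |G| < |N|³ unless G is special. -/
theorem result {G : Type*} [Group G] [Finite G] (hG : IsPGroup 2 G) (hcl : (⊤ : Subgroup G).lowerCentralSeries 2 = ⊥) (hexp : ∀ x : G, x ^ 4 = 1) (hN : ∀ x y : G, x ^ 2 = 1 → y ^ 2 = 1 → (x * y) ^ 2 = 1) : Nat.card G ≤ Nat.card {x : G // x ^ 2 = 1} ^ 3 ∧ (¬ Cfsg.IsSpecial 2 G → Nat.card G < Nat.card {x : G // x ^ 2 = 1} ^ 3) := by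
  have : Fact (Nat.Prime 2) := ⟨Nat.prime_two⟩
  have hsqA := sq_mem_Om hcl hexp hN
  have hcmA := comm_mem_Om hcl hexp hN
  -- the generic data
  have hA : ∀ a : Om G, a ^ 2 = 1 := fun a => Subtype.ext a.2.2
  have hc : ∀ (a : Om G) (g : G), (Om G).subtype a * g = g * (Om G).subtype a :=
    fun a g => (Subgroup.mem_center_iff.1 a.2.1 g).symm
  let sqr : G → Om G := fun x => ⟨x ^ 2, hsqA x⟩
  have hsq : ∀ x, (Om G).subtype (sqr x) = x ^ 2 := fun x => rfl
  let cm : G → G → Om G := fun x y => ⟨⁅x, y⁆, hcmA x y⟩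
  have hcm : ∀ x y, (Om G).subtype (cm x y) = ⁅x, y⁆ := fun x y => rfl
  have main := card_mul_card_center_le hA (Om G).subtype Subtype.coe_injective hc sqr hsq cm hcm hG
  have hAZ : Nat.card (Om G) ≤ Nat.card (Subgroup.center G) := Subgroup.card_le_of_le Om_le_center
  have hAN : Nat.card (Om G) ≤ Nat.card {x : G // x ^ 2 = 1} := by
    refine Nat.card_le_card_of_injective
      (fun a : Om G => (⟨a.1, a.2.2⟩ : {x : G // x ^ 2 = 1})) ?_
    intro a b hab
    exact Subtype.ext (congrArg (fun z : {x : G // x ^ 2 = 1} => (z : G)) hab)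
  have hz : 0 < Nat.card (Subgroup.center G) := Nat.card_pos
  have hg : 0 < Nat.card G := Nat.card_pos
  set g := Nat.card G with hg_def
  set z := Nat.card (Subgroup.center G) with hz_def
  set a := Nat.card (Om G) with ha_def
  set n := Nat.card {x : G // x ^ 2 = 1} with hn_def
  have hn : 0 < n := lt_of_lt_of_le Nat.card_pos hAN
  have key : g * z ≤ n ^ 2 * a * a := by
    calc g * z ≤ (n * a) ^ 2 := main
      _ = n ^ 2 * a * a := by ring
  have part1 : g ≤ n ^ 3 := by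
    have h1 : g * z ≤ n ^ 3 * z := by
      calc g * z ≤ n ^ 2 * a * a := key
        _ ≤ n ^ 2 * n * z := Nat.mul_le_mul (Nat.mul_le_mul_left _ hAN) hAZ
        _ = n ^ 3 * z := by ring
    exact Nat.le_of_mul_le_mul_right h1 hz
  refine ⟨part1, ?_⟩
  intro hns
  by_contra hlt
  push Not at hlt
  -- `Ω₁(Z(G)) = Z(G)`
  have hza : z ≤ a := by
    have h1 : n ^ 3 * z ≤ n ^ 3 * a := by
      calc n ^ 3 * z ≤ g * z := Nat.mul_le_mul_right _ hlt
        _ ≤ n ^ 2 * a * a := key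
        _ ≤ n ^ 2 * n * a := Nat.mul_le_mul_right _ (Nat.mul_le_mul_left _ hAN)
        _ = n ^ 3 * a := by ring
    exact Nat.le_of_mul_le_mul_left h1 (Nat.pow_pos hn)
  have hOmZ : Om G = Subgroup.center G := Subgroup.eq_of_le_of_card_ge Om_le_center hza
  -- `G' = Ω₁(Z(G))`
  have hcomm_le : commutator G ≤ Om G := by
    rw [commutator_def, Subgroup.commutator_le]
    intro x _ y _
    exact hcmA x y
  have hcomm_eq : commutator G = Om G := by
    by_contra hne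
    have hlt' : commutator G < Om G := lt_of_le_of_ne hcomm_le hne
    obtain ⟨a₀, ha₀, ha₀'⟩ := SetLike.exists_of_lt hlt'
    have := hasEnough_exponent (Om G) hA
    have hnot : (⟨a₀, ha₀⟩ : Om G) ∉ (commutator G).subgroupOf (Om G) := by
      rw [Subgroup.mem_subgroupOf]
      exact ha₀'
    rw [← CommGroup.forall_monoidHom_apply_eq_one_iff ℤ] at hnot
    push Not at hnot
    obtain ⟨φ, hφ, hφa⟩ := hnot
    have hφcm : ∀ x y, φ (cm x y) = 1 := by
      intro x y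
      apply hφ
      rw [Subgroup.mem_subgroupOf]
      exact Subgroup.commutator_mem_commutator (Subgroup.mem_top x) (Subgroup.mem_top y)
    have h2 := two_mul_card_le hA (Om G).subtype Subtype.coe_injective hc sqr hsq cm hcm hG φ
      hφcm _ hφa
    have h3 : n ^ 2 * a ≤ n ^ 3 := by
      calc n ^ 2 * a ≤ n ^ 2 * n := Nat.mul_le_mul_left _ hAN
        _ = n ^ 3 := by ring
    have h2' : 2 * g ≤ n ^ 2 * a := h2
    omega
  apply hns
  refine ⟨hG, ?_, hcomm_eq.trans hOmZ⟩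
  apply le_antisymm
  · rw [← hOmZ]
    exact frattini_le_of_elementary_quotient (p := 2) (Om G) hcomm_le hsqA
  · rw [← hOmZ, ← hcomm_eq]
    exact commutator_le_frattini_of_isPGroup hG

end Cfsg.Agent.S3773
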