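import Cfsg.Statements.S3774

set_option autoImplicit false
open Cfsg

namespace Cfsg.Agent.S3774

/-- `2 ^ k - 1 ∣ 2 ^ n - 1` implies `k ∣ n`. -/
theorem dvd_of_two_pow_sub_one_dvd {k n : ℕ} (h : 2 ^ k - 1 ∣ 2 ^ n - 1) : k ∣ n := by
  have h1 : Nat.gcd (2 ^ k - 1) (2 ^ n - 1) = 2 ^ k - 1 := Nat.gcd_eq_left h
  rw [Nat.pow_sub_one_gcd_pow_sub_one] at h1
  have h2 : 2 ^ Nat.gcd k n = 2 ^ k := by
    have := Nat.one_le_two_pow (n := Nat.gcd k n)
    have := Nat.one_le_two_pow (n := k)
    omega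
  have h3 : Nat.gcd k n = k := Nat.pow_right_injective (le_refl 2) h2
  rw [← h3]
  exact Nat.gcd_dvd_right k n

/-- The involution in the cyclic group generated by a nontrivial element of a `2`-group. -/
theorem orderOf_pow_half {G : Type*} [Group G] [Finite G] (hG : IsPGroup 2 G) {g : G}
    (hg : g ≠ 1) : orderOf (g ^ (orderOf g / 2)) = 2 := by
  obtain ⟨k, hk⟩ := hG g
  obtain ⟨e, -, he⟩ := (Nat.dvd_prime_pow Nat.prime_two).1 (orderOf_dvd_of_pow_eq_one hk)
  have he0 : e ≠ 0 := by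
    rintro rfl
    rw [pow_zero, orderOf_eq_one_iff] at he
    exact hg he
  apply orderOf_pow_orderOf_div (orderOf_pos g).ne'
  rw [he]
  exact dvd_pow_self 2 he0

theorem pow_half_ne_one {G : Type*} [Group G] [Finite G] (hG : IsPGroup 2 G) {g : G}
    (hg : g ≠ 1) : g ^ (orderOf g / 2) ≠ 1 := by
  intro h
  have := orderOf_pow_half hG hg
  rw [h, orderOf_one] at this
  omega

theorem pow_half_sq {G : Type*} [Group G] [Finite G] (hG : IsPGroup 2 G) {g : G}
    (hg : g ≠ 1) : (g ^ (orderOf g / 2)) ^ 2 = 1 := by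
  have h := pow_orderOf_eq_one (g ^ (orderOf g / 2))
  rwa [orderOf_pow_half hG hg] at h

theorem result {G : Type*} [Group G] [Finite G] [Nontrivial G] (hG : IsPGroup 2 G) (htrans : ∀ x y : G, x ≠ 1 → x ^ 2 = 1 → y ≠ 1 → y ^ 2 = 1 → ∃ a : MulAut G, a x = y) : (∀ x : G, x ^ 2 = 1 → x ∈ Subgroup.center G) ∧ ∃ m : ℕ, Nat.card G = Nat.card {z : G // z ^ 2 = 1} ^ m := by
  classical
  have : Fintype G := Fintype.ofFinite G
  -- a central involution
  obtain ⟨z₀, hz₀c, hz₀1, hz₀2⟩ : ∃ z : G, z ∈ Subgroup.center G ∧ z ≠ 1 ∧ z ^ 2 = 1 := by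
    have := hG.center_nontrivial
    obtain ⟨⟨z, hz⟩, hne⟩ := exists_ne (1 : Subgroup.center G)
    have hz1 : z ≠ 1 := fun h => hne (Subtype.ext h)
    exact ⟨z ^ (orderOf z / 2), Subgroup.pow_mem _ hz _, pow_half_ne_one hG hz1,
      pow_half_sq hG hz1⟩
  have part1 : ∀ x : G, x ^ 2 = 1 → x ∈ Subgroup.center G := by
    intro x hx
    by_cases hx1 : x = 1
    · rw [hx1]; exact Subgroup.one_mem _
    · obtain ⟨a, ha⟩ := htrans z₀ x hz₀1 hz₀2 hx1 hx
      rw [Subgroup.mem_center_iff] at hz₀c ⊢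
      intro g
      have := congrArg a (hz₀c (a.symm g))
      rw [map_mul, map_mul, ha, MulEquiv.apply_symm_apply] at this
      exact this
  refine ⟨part1, ?_⟩
  -- the subgroup of elements of order at most two
  let Ω : Subgroup G :=
    { carrier := {z | z ^ 2 = 1}
      one_mem' := one_pow 2
      mul_mem' := by
        intro x y hx hy
        have hxc := part1 x hx
        rw [Subgroup.mem_center_iff] at hxc
        show (x * y) ^ 2 = 1
        rw [pow_two, mul_assoc, ← mul_assoc y x y, hxc y, mul_assoc, ← mul_assoc, ← pow_two,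
          ← pow_two, hx, hy, one_mul]
      inv_mem' := by
        intro x hx
        show (x⁻¹) ^ 2 = 1
        rw [inv_pow, hx, inv_one] }
  have hΩcard : Nat.card {z : G // z ^ 2 = 1} = Nat.card Ω := rfl
  obtain ⟨k, hk⟩ := IsPGroup.iff_card.1 (hG.to_subgroup Ω)
  obtain ⟨n, hn⟩ := IsPGroup.iff_card.1 hG
  -- the counting
  let f : G → G := fun g => g ^ (orderOf g / 2)
  let S : Finset G := Finset.univ.filter (fun g => g ≠ 1)
  let T : Finset G := Finset.univ.filter (fun z => z ≠ 1 ∧ z ^ 2 = 1)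
  have hfST : ∀ g ∈ S, f g ∈ T := by
    intro g hg
    rw [Finset.mem_filter] at hg ⊢
    exact ⟨Finset.mem_univ _, pow_half_ne_one hG hg.2, pow_half_sq hG hg.2⟩
  have hfib : ∀ z ∈ T, (S.filter (fun g => f g = z)).card = (S.filter (fun g => f g = z₀)).card := by
    intro z hz
    rw [Finset.mem_filter] at hz
    obtain ⟨a, ha⟩ := htrans z₀ z hz₀1 hz₀2 hz.2.1 hz.2.2
    have hfa : ∀ g, f (a g) = a (f g) := by
      intro g
      show (a g) ^ (orderOf (a g) / 2) = a (g ^ (orderOf g / 2))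
      rw [MulEquiv.orderOf_eq, map_pow]
    symm
    apply Finset.card_bij (fun g _ => a g)
    · intro g hg
      rw [Finset.mem_filter, Finset.mem_filter] at hg ⊢
      refine ⟨⟨Finset.mem_univ _, ?_⟩, ?_⟩
      · intro h
        apply hg.1.2
        apply a.injective
        rw [h, map_one]
      · rw [hfa, hg.2, ha]
    · intro g₁ _ g₂ _ h
      exact a.injective h
    · intro g hg
      rw [Finset.mem_filter, Finset.mem_filter] at hg
      refine ⟨a.symm g, ?_, a.apply_symm_apply g⟩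
      rw [Finset.mem_filter, Finset.mem_filter]
      refine ⟨⟨Finset.mem_univ _, ?_⟩, ?_⟩
      · intro h
        apply hg.1.2
        rw [← a.apply_symm_apply g, h, map_one]
      · apply a.injective
        rw [← hfa, a.apply_symm_apply, hg.2, ha]
  have hcount : S.card = T.card * (S.filter (fun g => f g = z₀)).card := by
    rw [Finset.card_eq_sum_card_fiberwise hfST, Finset.sum_congr rfl hfib, Finset.sum_const,
      smul_eq_mul]
  have hS : S.card = 2 ^ n - 1 := by
    rw [← hn, Nat.card_eq_fintype_card, ← Finset.card_univ]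
    have : S = Finset.univ.erase 1 := by
      ext g; simp [S]
    rw [this, Finset.card_erase_of_mem (Finset.mem_univ _)]
  have hT : T.card = 2 ^ k - 1 := by
    have h1 : (Finset.univ.filter (fun z : G => z ^ 2 = 1)).card = 2 ^ k := by
      rw [← hk, Nat.card_eq_fintype_card, Fintype.card_subtype]
      rfl
    have h2 : T = (Finset.univ.filter (fun z : G => z ^ 2 = 1)).erase 1 := by
      ext g; simp [T]
    rw [h2, Finset.card_erase_of_mem (by simp), h1]
  rw [hS, hT] at hcount
  obtain ⟨m, rfl⟩ := dvd_of_two_pow_sub_one_dvd (Dvd.intro _ hcount.symm)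
  exact ⟨m, by rw [hn, hΩcard, hk, pow_mul]⟩

end Cfsg.Agent.S3774
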