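import Cfsg.Statements.S3775
import Cfsg.Agent.Lib.Helper63_Maschke

set_option autoImplicit false
open Cfsg

namespace Cfsg.Agent.S3775

open Cfsg.Agent.Lib.Helper63_Maschke

variable {A : Type*} [CommGroup A]

/-- `Ω_i(A)` -/
def Om (p i : ℕ) : Subgroup A := (powMonoidHom (p ^ i) : A →* A).ker

theorem mem_Om {p i : ℕ} {a : A} : a ∈ (Om p i : Subgroup A) ↔ a ^ p ^ i = 1 := by
  rw [Om, MonoidHom.mem_ker, powMonoidHom_apply]

theorem Om_mono {p i j : ℕ} (h : i ≤ j) : (Om p i : Subgroup A) ≤ Om p j := by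
  intro a ha
  rw [mem_Om] at ha ⊢
  obtain ⟨k, rfl⟩ := Nat.exists_eq_add_of_le h
  rw [pow_add, pow_mul, ha, one_pow]

theorem Om_zero {p : ℕ} : (Om p 0 : Subgroup A) = ⊥ := by
  ext a
  rw [mem_Om, pow_zero, pow_one, Subgroup.mem_bot]

section easy

variable {p : ℕ} (X : Subgroup (MulAut A))

/-- the main step of (iii) ⇒ (ii) -/
theorem main_arg
    (h3 : ∀ B : Subgroup A, Inv X B → (∀ b ∈ B, b ^ p = 1) → B = ⊥ ∨ ∀ a : A, a ∈ B ↔ a ^ p = 1)
    (k : ℕ) (B : Subgroup A) (hB : Inv X B) (hle : B ≤ Om p (k + 1)) (hnle : ¬ B ≤ Om p k)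
    (hsub : (Om p k : Subgroup A) ≤ B) : B = Om p (k + 1) := by
  apply le_antisymm hle
  set D := B.map (powMonoidHom (p ^ k)) with hD
  have hDinv : Inv X D := hB.map_powHom _
  have hDp : ∀ d ∈ D, d ^ p = 1 := by
    rintro _ ⟨b, hb, rfl⟩
    rw [powMonoidHom_apply, ← pow_mul, ← pow_succ]
    exact mem_Om.1 (hle hb)
  have hDne : D ≠ ⊥ := by
    intro h
    apply hnle
    intro b hb
    rw [mem_Om]
    have : b ^ p ^ k ∈ D := ⟨b, hb, rfl⟩
    rw [h, Subgroup.mem_bot] at this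
    exact this
  have hDS : ∀ a : A, a ∈ D ↔ a ^ p = 1 := (h3 D hDinv hDp).resolve_left hDne
  intro a ha
  rw [mem_Om] at ha
  have h1 : a ^ p ^ k ∈ D := by
    rw [hDS, ← pow_mul, ← pow_succ]
    exact ha
  obtain ⟨b, hb, hbk⟩ := h1
  rw [powMonoidHom_apply] at hbk
  have h2 : a / b ∈ (Om p k : Subgroup A) := by
    rw [mem_Om, div_pow, hbk, div_self']
  have : a = a / b * b := by rw [div_mul_cancel]
  rw [this]
  exact B.mul_mem (hsub h2) hb

theorem step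
    (h3 : ∀ B : Subgroup A, Inv X B → (∀ b ∈ B, b ^ p = 1) → B = ⊥ ∨ ∀ a : A, a ∈ B ↔ a ^ p = 1)
    (k : ℕ) : ∀ B : Subgroup A, Inv X B → B ≤ Om p (k + 1) → ¬ B ≤ Om p k → B = Om p (k + 1) := by
  induction k with
  | zero =>
    intro B hB hle hnle
    apply main_arg X h3 0 B hB hle hnle
    rw [Om_zero]
    exact bot_le
  | succ k ih =>
    intro B hB hle hnle
    apply main_arg X h3 (k + 1) B hB hle hnle
    have hB' : Inv X (B ⊓ Om p (k + 1)) := hB.inf (inv_ker_pow X _)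
    have h1 : ¬ B ⊓ Om p (k + 1) ≤ Om p k := by
      intro h
      apply hnle
      intro b hb
      rw [mem_Om]
      have hbp : b ^ p ∈ B ⊓ Om p (k + 1) := by
        refine Subgroup.mem_inf.2 ⟨B.pow_mem hb _, ?_⟩
        rw [mem_Om, ← pow_mul, ← pow_succ']
        exact mem_Om.1 (hle hb)
      have := mem_Om.1 (h hbp)
      rwa [← pow_mul, ← pow_succ'] at this
    have := ih (B ⊓ Om p (k + 1)) hB' inf_le_right h1
    rw [← this]
    exact inf_le_left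

end easy

section hard

variable [Finite A] {p : ℕ} [hp : Fact p.Prime] (hA : IsPGroup p A) (X : Subgroup (MulAut A))
  (hX : (Nat.card X).Coprime p)

include hA hX in
/-- a minimal invariant subgroup with prescribed image under the `p ^ E`-power map is pure -/
theorem exists_min_pure (E : ℕ) (hE : ∀ a : A, a ^ p ^ (E + 1) = 1) {V : Subgroup A}
    (hV : Inv X V) (hVT : V ≤ (powMonoidHom (p ^ E) : A →* A).range) :
    ∃ M : Subgroup A, Inv X M ∧ M.map (powMonoidHom (p ^ E)) = V ∧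
      ∀ m ∈ M, m ^ p ^ E = 1 → ∃ m' ∈ M, m' ^ p = m := by
  obtain ⟨M, -, hM⟩ := Finite.exists_le_minimal
    (p := fun M : Subgroup A => Inv X M ∧ M.map (powMonoidHom (p ^ E)) = V)
    (a := V.comap (powMonoidHom (p ^ E))) ⟨hV.comap_powHom _, Subgroup.map_comap_eq_self hVT⟩
  obtain ⟨hMinv, hMV⟩ := hM.prop
  refine ⟨M, hMinv, hMV, ?_⟩
  set Y := M.map (powMonoidHom p) with hY
  set N := M ⊓ (powMonoidHom (p ^ E) : A →* A).ker with hN
  have hYN : Y ≤ N := by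
    rintro _ ⟨m, hm, rfl⟩
    refine Subgroup.mem_inf.2 ⟨M.pow_mem hm _, ?_⟩
    rw [MonoidHom.mem_ker, powMonoidHom_apply, powMonoidHom_apply, ← pow_mul, ← pow_succ']
    exact hE m
  have hNM : N ≤ M := inf_le_left
  have hYinv : Inv X Y := hMinv.map_powHom p
  have hNinv : Inv X N := hMinv.inf (inv_ker_pow X _)
  obtain ⟨L₀, -, -, hL₀N, hsup⟩ := exists_rel_compl (N := N) hp.out (hYN.trans hNM)
    (fun m hm => ⟨m, hm, rfl⟩)
  obtain ⟨L, hLinv, -, hLM, hLN, hsupL⟩ :=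
    exists_inv_rel_compl hA X hX hYinv hNinv hMinv hYN hNM hL₀N hsup
  have hqL : L.map (powMonoidHom (p ^ E)) = V := by
    apply le_antisymm
    · rw [← hMV]; exact Subgroup.map_mono hLM
    · rw [← hMV]
      rintro _ ⟨m, hm, rfl⟩
      obtain ⟨l, hl, n, hn, rfl⟩ := Subgroup.mem_sup.1 (hsupL hm)
      refine ⟨l, hl, ?_⟩
      rw [map_mul, MonoidHom.mem_ker.1 hn.2, mul_one]
  have hLeq : M ≤ L := hM.le_of_le ⟨hLinv, hqL⟩ hLM
  intro m hm hmq
  have h1 : m ∈ L ⊓ N := ⟨hLeq hm, hm, MonoidHom.mem_ker.2 hmq⟩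
  obtain ⟨m', hm', rfl⟩ := hLN h1
  exact ⟨m', hm', rfl⟩

omit [Finite A] hp in
/-- the socle of a pure subgroup lies in its image under the `p ^ E`-power map -/
theorem socle_le (E : ℕ) {M V : Subgroup A} (hMV : M.map (powMonoidHom (p ^ E)) ≤ V)
    (hpure : ∀ m ∈ M, m ^ p ^ E = 1 → ∃ m' ∈ M, m' ^ p = m) :
    ∀ m ∈ M, m ^ p = 1 → m ∈ V := by
  intro m hm hmp
  have key : ∀ j, j ≤ E → ∃ mj ∈ M, mj ^ p ^ j = m := by
    intro j
    induction j with
    | zero => intro _; exact ⟨m, hm, by simp⟩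
    | succ j ih =>
      intro hj
      obtain ⟨mj, hmj, hmjp⟩ := ih (Nat.le_of_succ_le hj)
      have h1 : mj ^ p ^ E = 1 := by
        have : p ^ E = p ^ j * (p * p ^ (E - j - 1)) := by
          rw [← pow_succ', ← pow_add]; congr 1; omega
        rw [this, pow_mul, hmjp, pow_mul, hmp, one_pow]
      obtain ⟨m', hm', hm'p⟩ := hpure mj hmj h1
      refine ⟨m', hm', ?_⟩
      rw [pow_succ', pow_mul, hm'p, hmjp]
  obtain ⟨mE, hmE, hmEp⟩ := key E le_rfl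
  apply hMV
  exact ⟨mE, hmE, hmEp⟩

include hA hX in
/-- (i) ⇒ (iii) -/
theorem p3_of_p1
    (h1 : ¬ ∃ B C : Subgroup A, B ≠ ⊥ ∧ C ≠ ⊥ ∧ Inv X B ∧ Inv X C ∧ B ⊓ C = ⊥ ∧ B ⊔ C = ⊤)
    (B : Subgroup A) (hB : Inv X B) (hBp : ∀ b ∈ B, b ^ p = 1) (hBne : B ≠ ⊥) :
    ∀ a : A, a ^ p = 1 → a ∈ B := by
  by_contra hcon
  push Not at hcon
  obtain ⟨a₀, ha₀p, ha₀B⟩ := hcon
  obtain ⟨n, hn⟩ := IsPGroup.iff_card.1 hA
  have hexp : ∃ e, ∀ a : A, a ^ p ^ e = 1 := ⟨n, fun a => by rw [← hn]; exact pow_card_eq_one'⟩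
  classical
  have he : ∀ a : A, a ^ p ^ (Nat.find hexp) = 1 := Nat.find_spec hexp
  have he0 : Nat.find hexp ≠ 0 := by
    intro h0
    rw [h0] at he
    apply hBne
    rw [eq_bot_iff]
    intro b _
    rw [Subgroup.mem_bot]
    simpa using he b
  obtain ⟨E, hE⟩ := Nat.exists_eq_succ_of_ne_zero he0
  have hE' : ∀ a : A, a ^ p ^ (E + 1) = 1 := by
    rw [← Nat.succ_eq_add_one, ← hE]; exact he
  have hEmin : ¬ ∀ a : A, a ^ p ^ E = 1 := Nat.find_min hexp (by omega)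
  set q : A →* A := powMonoidHom (p ^ E) with hq
  have hqa : ∀ a, q a = a ^ p ^ E := fun a => rfl
  have hT : q.range ≠ ⊥ := by
    intro h
    apply hEmin
    intro a
    have : q a ∈ q.range := ⟨a, rfl⟩
    rw [h, Subgroup.mem_bot] at this
    exact this
  have hTinv : Inv X q.range := by
    rw [MonoidHom.range_eq_map]
    exact (inv_top X).map_powHom _
  -- Step 2: `A` is pure in itself
  obtain ⟨C₁, hC₁inv, hC₁T, hC₁pure⟩ := exists_min_pure hA X hX E hE' hTinv le_rfl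
  obtain ⟨K, hKC, hKC'⟩ := exists_compl_of_pure hp.out E hE' C₁ hC₁pure
  obtain ⟨K', hK'inv, -, -, hK'C, hK'sup⟩ :=
    exists_inv_rel_compl hA X hX (Y := ⊥) (N := C₁) (M := ⊤) (L₀ := K) (inv_bot X) hC₁inv
      (inv_top X) bot_le le_top hKC.le hKC'.ge
  have hC₁ne : C₁ ≠ ⊥ := by
    intro h
    rw [h, Subgroup.map_bot] at hC₁T
    exact hT hC₁T.symm
  have hK'bot : K' = ⊥ := by
    by_contra hne
    exact h1 ⟨K', C₁, hne, hC₁ne, hK'inv, hC₁inv, le_bot_iff.1 hK'C, top_le_iff.1 hK'sup⟩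
  have hC₁top : C₁ = ⊤ := by
    rw [hK'bot, bot_sup_eq] at hK'sup
    exact top_le_iff.1 hK'sup
  have hpureA : ∀ a : A, a ^ p ^ E = 1 → ∃ a', a' ^ p = a := by
    intro a ha
    obtain ⟨a', -, h⟩ := hC₁pure a (hC₁top ▸ Subgroup.mem_top a) ha
    exact ⟨a', h⟩
  -- Step 3: the socle lies in the image of `q`
  have hST : ∀ a : A, a ^ p = 1 → a ∈ q.range := by
    intro a ha
    refine socle_le (p := p) E (M := ⊤) (V := q.range) ?_ ?_ a (Subgroup.mem_top a) ha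
    · rw [← MonoidHom.range_eq_map]
    · intro m _ hm
      obtain ⟨m', h⟩ := hpureA m hm
      exact ⟨m', Subgroup.mem_top _, h⟩
  -- Step 4: an invariant complement of `B` in the socle
  set S : Subgroup A := (powMonoidHom p : A →* A).ker with hS
  have hmemS : ∀ a, a ∈ S ↔ a ^ p = 1 := fun a => by
    rw [hS, MonoidHom.mem_ker, powMonoidHom_apply]
  have hBS : B ≤ S := fun b hb => (hmemS b).2 (hBp b hb)
  obtain ⟨W₀, -, -, hW₀B, hW₀sup⟩ := exists_rel_compl (Y := ⊥) (N := B) (M := S) hp.out bot_le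
    (fun m hm => by rw [Subgroup.mem_bot]; exact (hmemS m).1 hm)
  obtain ⟨W, hWinv, -, hWS, hWB, hWsup⟩ :=
    exists_inv_rel_compl hA X hX (Y := ⊥) (N := B) (M := S) (L₀ := W₀) (inv_bot X) hB
      (inv_ker_pow X p) bot_le hBS hW₀B hW₀sup
  have hWne : W ≠ ⊥ := by
    intro h
    rw [h, bot_sup_eq] at hWsup
    exact ha₀B (hWsup ((hmemS a₀).2 ha₀p))
  -- Step 5
  have hBT : B ≤ q.range := fun b hb => hST b (hBp b hb)
  have hWT : W ≤ q.range := fun w hw => hST w ((hmemS w).1 (hWS hw))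
  obtain ⟨B₁, hB₁inv, hB₁q, hB₁pure⟩ := exists_min_pure hA X hX E hE' hB hBT
  obtain ⟨C₂, hC₂inv, hC₂q, hC₂pure⟩ := exists_min_pure hA X hX E hE' hWinv hWT
  have hB₁soc := socle_le (p := p) E hB₁q.le hB₁pure
  have hC₂soc := socle_le (p := p) E hC₂q.le hC₂pure
  -- Step 6
  have hinf : B₁ ⊓ C₂ = ⊥ := by
    rw [eq_bot_iff]
    intro m hm
    rw [Subgroup.mem_bot]
    by_contra hm1
    have hexm : ∃ k, m ^ p ^ k = 1 := ⟨E + 1, hE' m⟩
    have hk0 : Nat.find hexm ≠ 0 := by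
      intro h0
      have := Nat.find_spec hexm
      rw [h0, pow_zero, pow_one] at this
      exact hm1 this
    obtain ⟨k, hk⟩ := Nat.exists_eq_succ_of_ne_zero hk0
    have hmk : m ^ p ^ k ≠ 1 := Nat.find_min hexm (by omega)
    have hmk' : (m ^ p ^ k) ^ p = 1 := by
      rw [← pow_mul, ← pow_succ, ← Nat.succ_eq_add_one, ← hk]
      exact Nat.find_spec hexm
    have h2 : m ^ p ^ k ∈ W ⊓ B :=
      ⟨hC₂soc _ (C₂.pow_mem hm.2 _) hmk', hB₁soc _ (B₁.pow_mem hm.1 _) hmk'⟩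
    exact hmk ((Subgroup.mem_bot).1 (hWB h2))
  have hsup : B₁ ⊔ C₂ = ⊤ := by
    have step : ∀ a : A, ∃ h ∈ B₁ ⊔ C₂, ∃ a', a = h * a' ^ p := by
      intro a
      have hqaS : q a ∈ S := by
        rw [hmemS, hqa, ← pow_mul, ← pow_succ]
        exact hE' a
      obtain ⟨w, hw, b, hb, hwb⟩ := Subgroup.mem_sup.1 (hWsup hqaS)
      rw [← hB₁q] at hb
      rw [← hC₂q] at hw
      obtain ⟨b₁, hb₁, rfl⟩ := hb
      obtain ⟨c₂, hc₂, rfl⟩ := hw
      have h3 : (a / (c₂ * b₁)) ^ p ^ E = 1 := by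
        have : q (a / (c₂ * b₁)) = 1 := by
          rw [map_div, map_mul]
          rw [← hq] at hwb
          rw [hwb, div_self']
        exact this
      obtain ⟨a', ha'⟩ := hpureA _ h3
      refine ⟨c₂ * b₁, Subgroup.mem_sup.2 ⟨b₁, hb₁, c₂, hc₂, mul_comm _ _⟩, a', ?_⟩
      rw [ha', mul_div_cancel]
    have iter : ∀ k, ∀ a : A, ∃ h ∈ B₁ ⊔ C₂, ∃ a', a = h * a' ^ p ^ k := by
      intro k
      induction k with
      | zero => intro a; exact ⟨1, Subgroup.one_mem _, a, by simp⟩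
      | succ k ih =>
        intro a
        obtain ⟨h, hh, a', rfl⟩ := ih a
        obtain ⟨h', hh', a'', rfl⟩ := step a'
        refine ⟨h * h' ^ p ^ k, Subgroup.mul_mem _ hh (Subgroup.pow_mem _ hh' _), a'', ?_⟩
        rw [mul_pow, ← pow_mul, ← pow_succ', mul_assoc]
    rw [eq_top_iff]
    intro a _
    obtain ⟨h, hh, a', rfl⟩ := iter (E + 1) a
    rw [hE', mul_one]
    exact hh
  have hB₁ne : B₁ ≠ ⊥ := by
    intro h
    rw [h, Subgroup.map_bot] at hB₁q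
    exact hBne hB₁q.symm
  have hC₂ne : C₂ ≠ ⊥ := by
    intro h
    rw [h, Subgroup.map_bot] at hC₂q
    exact hWne hC₂q.symm
  exact h1 ⟨B₁, C₂, hB₁ne, hC₂ne, hB₁inv, hC₂inv, hinf, hsup⟩

end hard
/-- Let A be a finite abelian p-group and X a group of automorphisms of A of order prime to p. Call a subgroup of A invariant when every element of X maps it onto itself. Then the following are equivalent: (i) A is not the direct product of two nontrivial invariant subgroups; (ii) every invariant subgroup of A is one of the subgroups Ω_i(A) = {a : a^(p^i) = 1}; (iii) the subgroup Ω₁(A) of elements of order dividing p has no invariant subgroups other than 1 and itself. -/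
theorem result {A : Type*} [CommGroup A] [Finite A] {p : ℕ} [Fact p.Prime] (hA : IsPGroup p A) (X : Subgroup (MulAut A)) (hX : (Nat.card X).Coprime p) : ((¬ ∃ B C : Subgroup A, B ≠ ⊥ ∧ C ≠ ⊥ ∧ (∀ x ∈ X, B.map x.toMonoidHom = B) ∧ (∀ x ∈ X, C.map x.toMonoidHom = C) ∧ B ⊓ C = ⊥ ∧ B ⊔ C = ⊤) ↔ (∀ B : Subgroup A, (∀ x ∈ X, B.map x.toMonoidHom = B) → ∃ i : ℕ, ∀ a : A, a ∈ B ↔ a ^ p ^ i = 1)) ∧ ((∀ B : Subgroup A, (∀ x ∈ X, B.map x.toMonoidHom = B) → ∃ i : ℕ, ∀ a : A, a ∈ B ↔ a ^ p ^ i = 1) ↔ (∀ B : Subgroup A, (∀ x ∈ X, B.map x.toMonoidHom = B) → (∀ b ∈ B, b ^ p = 1) → B = ⊥ ∨ ∀ a : A, a ∈ B ↔ a ^ p = 1)) := by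
  simp only [← inv_iff_map]
  have h23 : (∀ B : Subgroup A, Inv X B → ∃ i : ℕ, ∀ a : A, a ∈ B ↔ a ^ p ^ i = 1) →
      (∀ B : Subgroup A, Inv X B → (∀ b ∈ B, b ^ p = 1) →
        B = ⊥ ∨ ∀ a : A, a ∈ B ↔ a ^ p = 1) := by
    intro h2 B hB hBp
    obtain ⟨i, hi⟩ := h2 B hB
    rcases i with _ | i
    · left
      ext a
      rw [hi, pow_zero, pow_one, Subgroup.mem_bot]
    · right
      intro a
      refine ⟨hBp a, fun ha => ?_⟩
      rw [hi, pow_succ', pow_mul, ha, one_pow]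
  have h32 : (∀ B : Subgroup A, Inv X B → (∀ b ∈ B, b ^ p = 1) →
        B = ⊥ ∨ ∀ a : A, a ∈ B ↔ a ^ p = 1) →
      (∀ B : Subgroup A, Inv X B → ∃ i : ℕ, ∀ a : A, a ∈ B ↔ a ^ p ^ i = 1) := by
    intro h3 B hB
    obtain ⟨n, hn⟩ := IsPGroup.iff_card.1 hA
    have hexp : ∃ i, B ≤ Om p i := ⟨n, fun b _ => by
      rw [mem_Om, ← hn]; exact pow_card_eq_one'⟩
    classical
    have hle : B ≤ Om p (Nat.find hexp) := Nat.find_spec hexp
    rcases hfind : Nat.find hexp with _ | k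
    · rw [hfind, Om_zero] at hle
      refine ⟨0, fun a => ?_⟩
      rw [pow_zero, pow_one]
      constructor
      · intro ha
        exact (Subgroup.mem_bot).1 (hle ha)
      · intro ha
        rw [ha]
        exact B.one_mem
    · rw [hfind] at hle
      have hnle : ¬ B ≤ Om p k := Nat.find_min hexp (by omega)
      have hBeq := step X h3 k B hB hle hnle
      refine ⟨k + 1, fun a => ?_⟩
      rw [hBeq, mem_Om]
  have h21 : (∀ B : Subgroup A, Inv X B → ∃ i : ℕ, ∀ a : A, a ∈ B ↔ a ^ p ^ i = 1) →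
      ¬ ∃ B C : Subgroup A, B ≠ ⊥ ∧ C ≠ ⊥ ∧ Inv X B ∧ Inv X C ∧ B ⊓ C = ⊥ ∧ B ⊔ C = ⊤ := by
    rintro h2 ⟨B, C, hBne, hCne, hB, hC, hinf, -⟩
    obtain ⟨i, hi⟩ := h2 B hB
    obtain ⟨j, hj⟩ := h2 C hC
    have hBOm : B = Om p i := by ext a; rw [hi, mem_Om]
    have hCOm : C = Om p j := by ext a; rw [hj, mem_Om]
    rcases le_total i j with hij | hij
    · have hBC : B ≤ C := by rw [hBOm, hCOm]; exact Om_mono hij
      apply hBne
      rw [← hinf]
      exact (inf_of_le_left hBC).symm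
    · have hCB : C ≤ B := by rw [hBOm, hCOm]; exact Om_mono hij
      apply hCne
      rw [← hinf]
      exact (inf_of_le_right hCB).symm
  have h13 : (¬ ∃ B C : Subgroup A, B ≠ ⊥ ∧ C ≠ ⊥ ∧ Inv X B ∧ Inv X C ∧ B ⊓ C = ⊥ ∧ B ⊔ C = ⊤) →
      (∀ B : Subgroup A, Inv X B → (∀ b ∈ B, b ^ p = 1) →
        B = ⊥ ∨ ∀ a : A, a ∈ B ↔ a ^ p = 1) := by
    intro h1 B hB hBp
    by_cases hBne : B = ⊥
    · exact Or.inl hBne
    · right
      intro a
      exact ⟨hBp a, p3_of_p1 hA X hX h1 B hB hBp hBne a⟩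
  exact ⟨⟨fun h => h32 (h13 h), h21⟩, ⟨h23, h32⟩⟩

end Cfsg.Agent.S3775
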