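import Mathlib
import Cfsg.Statements.S3778

set_option autoImplicit false
open Cfsg

namespace Cfsg.Agent.S3778

open scoped commutatorElement

section
variable {G : Type*} [Group G]

/-- the terms of the lower central series of the whole group -/
abbrev Lc (G : Type*) [Group G] (i : ℕ) : Subgroup G := (⊤ : Subgroup G).lowerCentralSeries i

theorem Lc_normal (i : ℕ) : (Lc G i).Normal := by
  unfold Lc; infer_instance

theorem Lc_succ (i : ℕ) : Lc G (i+1) = ⁅Lc G i, (⊤ : Subgroup G)⁆ := rfl

theorem comm_mem_Lc_succ {i : ℕ} {y : G} (hy : y ∈ Lc G i) (g : G) : ⁅y, g⁆ ∈ Lc G (i+1) :=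
  Subgroup.commutator_mem_commutator hy (Subgroup.mem_top g)

theorem comm_mem_Lc_succ' {i : ℕ} {y : G} (hy : y ∈ Lc G i) (g : G) : ⁅g, y⁆ ∈ Lc G (i+1) := by
  have := (Lc G (i+1)).inv_mem (comm_mem_Lc_succ hy g)
  rwa [commutatorElement_inv] at this

theorem Lc_le_succ (i : ℕ) : Lc G (i+1) ≤ Lc G i :=
  Subgroup.lowerCentralSeries_antitone _ (Nat.le_succ i)

theorem Lc_eq_of_eq {i : ℕ} (h : Lc G i = Lc G (i+1)) (k : ℕ) : Lc G (i + k) = Lc G i := by
  induction k with
  | zero => rfl
  | succ k ih =>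
    rw [← add_assoc, Lc_succ, ih, ← Lc_succ, ← h]

/-- the two-step centralizer of `L i / L (i+2)` -/
def twoStep (G : Type*) [Group G] (i : ℕ) : Subgroup G where
  carrier := {g | ∀ y ∈ Lc G i, ⁅g, y⁆ ∈ Lc G (i+2)}
  one_mem' := by
    intro y _
    simp [commutatorElement_def]
  mul_mem' := by
    intro g h hg hh y hy
    have h1 : ⁅g * h, y⁆ = g * ⁅h, y⁆ * g⁻¹ * ⁅g, y⁆ := by
      simp only [commutatorElement_def]; group
    rw [h1]
    exact (Lc G (i+2)).mul_mem ((Lc_normal (i+2)).conj_mem _ (hh y hy) g) (hg y hy)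
  inv_mem' := by
    intro g hg y hy
    have h1 : ⁅g⁻¹, y⁆ = g⁻¹ * ⁅g, y⁆⁻¹ * g⁻¹⁻¹ := by
      simp only [commutatorElement_def]; group
    rw [h1]
    exact (Lc_normal (i+2)).conj_mem _ ((Lc G (i+2)).inv_mem (hg y hy)) g⁻¹

theorem mem_twoStep {i : ℕ} {g : G} : g ∈ twoStep G i ↔ ∀ y ∈ Lc G i, ⁅g, y⁆ ∈ Lc G (i+2) := Iff.rfl

theorem twoStep_ne_top {i : ℕ} (h : Lc G (i+1) ≠ Lc G (i+2)) : twoStep G i ≠ ⊤ := by
  intro htop
  apply h
  apply le_antisymm
  · rw [Lc_succ, Subgroup.commutator_le]
    intro y hy g _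
    have hg : g ∈ twoStep G i := htop ▸ Subgroup.mem_top g
    have := (Lc G (i+2)).inv_mem (hg y hy)
    rwa [commutatorElement_inv] at this
  · exact Lc_le_succ (i+1)

theorem not_le_of_not_mem_twoStep {x : G} {i : ℕ} (hx : x ∉ twoStep G i) :
    ¬ (Subgroup.centralizer {x} ⊔ Lc G i ≤ Subgroup.centralizer {x} ⊔ Lc G (i+1)) := by
  intro hle
  apply hx
  intro y hy
  have hy' : y ∈ Subgroup.centralizer {x} ⊔ Lc G (i+1) := hle (Subgroup.mem_sup_right hy)
  have := Lc_normal (G := G) (i+1)
  rw [Subgroup.mem_sup_of_normal_right] at hy'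
  obtain ⟨a, ha, l, hl, rfl⟩ := hy'
  have hax : a * x = x * a := Subgroup.mem_centralizer_singleton_iff.1 ha
  have h1 : ⁅x, a * l⁆ = a * ⁅x, l⁆ * a⁻¹ := by
    simp only [commutatorElement_def, mul_inv_rev]
    rw [show x * (a * l) = a * (x * l) by rw [← mul_assoc, ← hax, mul_assoc]]
    group
  rw [h1]
  exact (Lc_normal (i+2)).conj_mem _ (comm_mem_Lc_succ' hl x) a

open scoped Classical in
theorem pow_card_filter_le_index [Finite G] {p : ℕ} [hp : Fact p.Prime] (hG : IsPGroup p G)
    (x : G) (j : ℕ) :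
    p ^ ((Finset.range j).filter (fun i => x ∉ twoStep G i)).card ≤
      (Subgroup.centralizer {x} ⊔ Lc G j).index := by
  induction j with
  | zero =>
    have : Subgroup.centralizer {x} ⊔ Lc G 0 = ⊤ := by
      show Subgroup.centralizer {x} ⊔ ⊤ = ⊤
      simp
    rw [this]; simp
  | succ j ih =>
    rw [Finset.range_add_one, Finset.filter_insert]
    have hle : Subgroup.centralizer {x} ⊔ Lc G (j+1) ≤ Subgroup.centralizer {x} ⊔ Lc G j :=
      sup_le_sup_left (Lc_le_succ j) _
    have hmul := Subgroup.relIndex_mul_index hle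
    have hpos : 0 < (Subgroup.centralizer {x} ⊔ Lc G (j+1)).index :=
      Nat.pos_of_ne_zero Subgroup.index_ne_zero_of_finite
    split_ifs with hx
    · exact ih.trans (Nat.le_of_dvd hpos (Subgroup.index_dvd_of_le hle))
    · rw [Finset.card_insert_of_notMem (by simp), pow_succ]
      have hne : (Subgroup.centralizer {x} ⊔ Lc G (j+1)).relIndex
          (Subgroup.centralizer {x} ⊔ Lc G j) ≠ 1 := by
        rw [Ne, Subgroup.relIndex_eq_one]; exact not_le_of_not_mem_twoStep hx
      obtain ⟨n, hn⟩ := IsPGroup.iff_card.1 hG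
      have hdvd : (Subgroup.centralizer {x} ⊔ Lc G (j+1)).relIndex
          (Subgroup.centralizer {x} ⊔ Lc G j) ∣ p ^ n := by
        rw [← hn]
        exact (Dvd.intro _ hmul).trans (Subgroup.index_dvd_card _)
      obtain ⟨m, _, hm⟩ := (Nat.dvd_prime_pow hp.out).1 hdvd
      have hm0 : m ≠ 0 := by
        rintro rfl; exact hne (by simpa using hm)
      have hple : p ≤ (Subgroup.centralizer {x} ⊔ Lc G (j+1)).relIndex
          (Subgroup.centralizer {x} ⊔ Lc G j) := by
        rw [hm]
        calc p = p ^ 1 := (pow_one p).symm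
          _ ≤ p ^ m := Nat.pow_le_pow_right hp.out.pos (Nat.one_le_iff_ne_zero.2 hm0)
      calc p ^ _ * p ≤ (Subgroup.centralizer {x} ⊔ Lc G j).index *
            (Subgroup.centralizer {x} ⊔ Lc G (j+1)).relIndex
              (Subgroup.centralizer {x} ⊔ Lc G j) := Nat.mul_le_mul ih hple
        _ = (Subgroup.centralizer {x} ⊔ Lc G (j+1)).index := by rw [← hmul, mul_comm]

open scoped Classical in
theorem exists_large [Finite G] {p : ℕ} [hp : Fact p.Prime] (hG : IsPGroup p G) (c : ℕ)
    (hc : 2 ≤ c) (hprop : ∀ i < c - 1, twoStep G i ≠ ⊤) :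
    ∃ x : G, (c-1)*(p-1) <
      ((Finset.range (c-1)).filter (fun i => x ∉ twoStep G i)).card * p := by
  haveI := Fintype.ofFinite G
  by_contra hcon
  push Not at hcon
  have hp2 := hp.out.two_le
  have hKpos : 0 < (c-1)*(p-1) := Nat.mul_pos (by omega) (by omega)
  have hn1 : ((Finset.range (c-1)).filter (fun i => (1:G) ∉ twoStep G i)).card = 0 := by
    rw [Finset.card_eq_zero, Finset.filter_eq_empty_iff]
    intro i _ h; exact h (twoStep G i).one_mem
  have hsum1 : ∑ x : G, ((Finset.range (c-1)).filter (fun i => x ∉ twoStep G i)).card * p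
      ≤ (Fintype.card G - 1) * ((c-1)*(p-1)) := by
    rw [← Finset.add_sum_erase Finset.univ _ (Finset.mem_univ (1:G)), hn1, zero_mul, zero_add]
    calc _ ≤ ∑ x ∈ Finset.univ.erase (1:G), (c-1)*(p-1) :=
          Finset.sum_le_sum (fun x _ => hcon x)
      _ = _ := by
          rw [Finset.sum_const, Finset.card_erase_of_mem (Finset.mem_univ _), Finset.card_univ,
            smul_eq_mul]
  have hcount : ∀ i < c - 1, (p-1) * Fintype.card G ≤
      p * (Finset.univ.filter (fun x : G => x ∉ twoStep G i)).card := by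
    intro i hi
    have h0 : (Finset.univ.filter (fun x : G => x ∈ twoStep G i)).card =
        Nat.card (twoStep G i) := by
      rw [Nat.card_eq_fintype_card, Fintype.card_subtype]
    have h1 : Nat.card (twoStep G i) +
        (Finset.univ.filter (fun x : G => x ∉ twoStep G i)).card = Fintype.card G := by
      rw [← h0, Finset.card_filter_add_card_filter_not, Finset.card_univ]
    have h2 : p * Nat.card (twoStep G i) ≤ Fintype.card G := by
      have hidx : (twoStep G i).index ≠ 1 := by
        rw [Ne, Subgroup.index_eq_one]; exact hprop i hi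
      obtain ⟨n, hn⟩ := IsPGroup.iff_card.1 hG
      have hdvd : (twoStep G i).index ∣ p ^ n := hn ▸ Subgroup.index_dvd_card _
      obtain ⟨m, _, hm⟩ := (Nat.dvd_prime_pow hp.out).1 hdvd
      have hm0 : m ≠ 0 := by
        rintro rfl; exact hidx (by simpa using hm)
      have hple : p ≤ (twoStep G i).index := by
        rw [hm]
        calc p = p ^ 1 := (pow_one p).symm
          _ ≤ p ^ m := Nat.pow_le_pow_right hp.out.pos (Nat.one_le_iff_ne_zero.2 hm0)
      have := Subgroup.card_mul_index (twoStep G i)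
      rw [← Nat.card_eq_fintype_card, ← this, mul_comm]
      exact Nat.mul_le_mul_left _ hple
    have h3 : (p - 1) * Fintype.card G + Fintype.card G = p * Fintype.card G := by
      obtain ⟨q, rfl⟩ : ∃ q, p = q + 1 := ⟨p - 1, by omega⟩
      simp only [Nat.add_sub_cancel]; ring
    have h4 : p * Nat.card (twoStep G i) +
        p * (Finset.univ.filter (fun x : G => x ∉ twoStep G i)).card = p * Fintype.card G := by
      rw [← mul_add, h1]
    omega
  have hsum2 : (c-1) * ((p-1) * Fintype.card G) ≤
      ∑ x : G, ((Finset.range (c-1)).filter (fun i => x ∉ twoStep G i)).card * p := by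
    have e1 : ∑ x : G, ((Finset.range (c-1)).filter (fun i => x ∉ twoStep G i)).card * p =
        ∑ i ∈ Finset.range (c-1), p * (Finset.univ.filter (fun x : G => x ∉ twoStep G i)).card := by
      simp only [Finset.card_filter, Finset.sum_mul, Finset.mul_sum]
      rw [Finset.sum_comm]
      refine Finset.sum_congr rfl (fun i _ => Finset.sum_congr rfl (fun x _ => ?_))
      rw [mul_comm]
    rw [e1]
    calc (c-1) * ((p-1) * Fintype.card G)
        = ∑ _i ∈ Finset.range (c-1), (p-1) * Fintype.card G := by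
          rw [Finset.sum_const, Finset.card_range, smul_eq_mul]
      _ ≤ _ := Finset.sum_le_sum (fun i hi => hcount i (Finset.mem_range.1 hi))
  have hcard : 0 < Fintype.card G := Fintype.card_pos
  have hfin : (Fintype.card G - 1) * ((c-1)*(p-1)) < (c-1) * ((p-1) * Fintype.card G) := by
    have : (c-1) * ((p-1) * Fintype.card G) = Fintype.card G * ((c-1)*(p-1)) := by ring
    rw [this]
    exact Nat.mul_lt_mul_of_pos_right (by omega) hKpos
  exact absurd (hsum2.trans hsum1) (not_le.2 hfin)

end

/-- If G is a finite p-group in which every conjugacy class has at most p^b elements (every element has centralizer of index at most p^b), then G is abelian when b = 0, and when b ≥ 1 its nilpotency class c satisfies (c − 1)(p − 1) < bp, that is c < bp/(p − 1) + 1, and hence c ≤ 2b. -/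
theorem result {G : Type*} [Group G] [Finite G] {p : ℕ} [Fact p.Prime] (hG : IsPGroup p G) (b : ℕ) (hb : ∀ x : G, (Subgroup.centralizer ({x} : Set G)).index ≤ p ^ b) : ∃ c : ℕ, (⊤ : Subgroup G).lowerCentralSeries c = ⊥ ∧ (b ≠ 0 → (c - 1) * (p - 1) < b * p ∧ c ≤ 2 * b) ∧ (b = 0 → c ≤ 1) := by
  classical
  have hnil : Group.IsNilpotent G := hG.isNilpotent
  have hex : ∃ n, (⊤ : Subgroup G).lowerCentralSeries n = ⊥ :=
    Subgroup.nilpotent_iff_lowerCentralSeries.1 hnil
  have hc : Lc G (Nat.find hex) = ⊥ := Nat.find_spec hex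
  have hmin : ∀ j < Nat.find hex, Lc G j ≠ ⊥ := fun j hj => Nat.find_min hex hj
  have hp2 := (Fact.out : p.Prime).two_le
  refine ⟨Nat.find hex, hc, ?_, ?_⟩
  · intro hb0
    generalize Nat.find hex = c at hc hmin
    by_cases hc2 : 2 ≤ c
    · have hprop : ∀ i < c - 1, twoStep G i ≠ ⊤ := by
        intro i hi
        apply twoStep_ne_top
        intro heq
        have h := Lc_eq_of_eq heq (c - (i+1))
        rw [show i + 1 + (c - (i+1)) = c by omega, hc] at h
        exact hmin (i+1) (by omega) h.symm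
      obtain ⟨x, hx⟩ := exists_large hG c hc2 hprop
      have h1 := pow_card_filter_le_index hG x (c-1)
      have h2 : (Subgroup.centralizer {x} ⊔ Lc G (c-1)).index ≤
          (Subgroup.centralizer {x}).index :=
        Nat.le_of_dvd (Nat.pos_of_ne_zero Subgroup.index_ne_zero_of_finite)
          (Subgroup.index_dvd_of_le le_sup_left)
      have h3 := (h1.trans h2).trans (hb x)
      have h4 := (Nat.pow_le_pow_iff_right hp2).1 h3
      have h5 : (c-1)*(p-1) < b * p := lt_of_lt_of_le hx (Nat.mul_le_mul_right p h4)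
      refine ⟨h5, ?_⟩
      by_contra hcon
      push Not at hcon
      have h6 : 2 * b * (p-1) ≤ (c-1)*(p-1) := Nat.mul_le_mul_right _ (by omega)
      have h7 : b * p ≤ 2 * b * (p-1) := by
        obtain ⟨q, rfl⟩ : ∃ q, p = q + 2 := ⟨p-2, by omega⟩
        simp only [Nat.add_sub_cancel, show q + 2 - 1 = q + 1 by omega]
        nlinarith
      omega
    · have h0 : c - 1 = 0 := by omega
      rw [h0, zero_mul]
      exact ⟨Nat.mul_pos (Nat.pos_of_ne_zero hb0) (by omega), by omega⟩
  · intro hb0
    subst hb0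
    apply Nat.find_le
    show ⁅(⊤ : Subgroup G), ⊤⁆ = ⊥
    rw [Subgroup.commutator_eq_bot_iff_le_centralizer]
    intro g _
    rw [Subgroup.mem_centralizer_iff]
    intro h _
    have h1 : (Subgroup.centralizer ({h} : Set G)).index = 1 := by
      have := hb h
      have hpos : 0 < (Subgroup.centralizer ({h} : Set G)).index :=
        Nat.pos_of_ne_zero Subgroup.index_ne_zero_of_finite
      simp only [pow_zero] at this
      omega
    rw [Subgroup.index_eq_one] at h1
    have hg : g ∈ Subgroup.centralizer ({h} : Set G) := h1 ▸ Subgroup.mem_top g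
    exact (Subgroup.mem_centralizer_singleton_iff.1 hg).symm

end Cfsg.Agent.S3778
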