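import Cfsg.Statements.S3780
import Cfsg.Agent.Lib.Helper1_Frattini
import Cfsg.Agent.Lib.Helper63_PGroup

set_option autoImplicit false
open Cfsg

namespace Cfsg.Agent.S3780

open Cfsg.Agent.Lib.Helper1_Frattini Cfsg.Agent.Lib.Helper63_PGroup

/-- Burnside basis theorem, in the form: a finite `p`-group with a subgroup `N ≤ Φ(G)` of index
`p ^ d` is generated by `d` elements. -/
theorem exists_generators_of_index {G : Type*} [Group G] [Finite G] {p : ℕ} [hp : Fact p.Prime]
    (hG : IsPGroup p G) (N : Subgroup G) (hN : N ≤ frattini G) (d : ℕ)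
    (hd : N.index = p ^ d) :
    ∃ S : Finset G, S.card ≤ d ∧ Subgroup.closure (S : Set G) = ⊤ := by
  classical
  have key : ∀ k : ℕ, ∃ S : Finset G, S.card ≤ k ∧
      (Subgroup.closure (S : Set G) ⊔ N = ⊤ ∨
        p ^ k * Nat.card N ≤ Nat.card (Subgroup.closure (S : Set G) ⊔ N : Subgroup G)) := by
    intro k
    induction k with
    | zero =>
      refine ⟨∅, le_refl _, Or.inr ?_⟩
      simp
    | succ k ih =>
      obtain ⟨S, hS, h⟩ := ih
      rcases h with h | h
      · exact ⟨S, by omega, Or.inl h⟩
      · by_cases htop : Subgroup.closure (S : Set G) ⊔ N = ⊤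
        · exact ⟨S, by omega, Or.inl htop⟩
        · obtain ⟨x, hx⟩ : ∃ x, x ∉ Subgroup.closure (S : Set G) ⊔ N := by
            by_contra hcon
            push Not at hcon
            exact htop (eq_top_iff.2 fun x _ => hcon x)
          refine ⟨insert x S, (Finset.card_insert_le _ _).trans (by omega), Or.inr ?_⟩
          set H := Subgroup.closure (S : Set G) ⊔ N with hH
          set H' := Subgroup.closure ((insert x S : Finset G) : Set G) ⊔ N with hH'
          have hle : H ≤ H' := by
            apply sup_le_sup_right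
            apply Subgroup.closure_mono
            intro y hy
            simp only [Finset.coe_insert]
            exact Set.mem_insert_of_mem _ hy
          have hxH' : x ∈ H' := by
            apply Subgroup.mem_sup_left
            apply Subgroup.subset_closure
            simp
          have hne : H ≠ H' := fun he => hx (he ▸ hxH')
          obtain ⟨a, ha⟩ := IsPGroup.iff_card.1 (hG.to_subgroup H)
          obtain ⟨b, hb⟩ := IsPGroup.iff_card.1 (hG.to_subgroup H')
          have hab : a < b := by
            by_contra hcon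
            push Not at hcon
            apply hne
            apply Subgroup.eq_of_le_of_card_ge hle
            rw [ha, hb]
            exact Nat.pow_le_pow_right hp.out.pos hcon
          calc p ^ (k + 1) * Nat.card N = p * (p ^ k * Nat.card N) := by ring
            _ ≤ p * Nat.card H := Nat.mul_le_mul_left _ h
            _ = p ^ (a + 1) := by rw [ha]; ring
            _ ≤ p ^ b := Nat.pow_le_pow_right hp.out.pos hab
            _ = Nat.card H' := hb.symm
  obtain ⟨S, hS, h⟩ := key d
  refine ⟨S, hS, ?_⟩
  have htop : Subgroup.closure (S : Set G) ⊔ N = ⊤ := by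
    rcases h with h | h
    · exact h
    · apply Subgroup.eq_top_of_le_card
      rw [← hd, mul_comm, Subgroup.card_mul_index] at h
      exact h
  apply frattini_nongenerating
  rw [eq_top_iff, ← htop]
  exact sup_le_sup_left hN _

/-- `(α - 1) ^ p` maps into the `p`-th powers, for an automorphism with `α ^ p = 1` of a commutative
group. -/
theorem iterate_eq_pow {V : Type*} [CommGroup V] {p : ℕ} [hp : Fact p.Prime] (α : MulAut V)
    (hα : α ^ p = 1) (v : V) :
    ∃ w : V, (fun x => α x / x)^[p] v = w ^ p := by
  let a : AddMonoid.End (Additive V) := MonoidHom.toAdditive α.toMonoidHom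
  have ha_apply : ∀ (k : ℕ) (x : V),
      (a ^ k) (Additive.ofMul x) = Additive.ofMul ((α ^ k) x) := by
    intro k
    induction k with
    | zero => intro x; simp
    | succ k ih =>
      intro x
      rw [pow_succ, pow_succ, AddMonoid.End.coe_mul, Function.comp_apply, MulAut.mul_apply, ← ih]
      rfl
  have hap : a ^ p = 1 := by
    apply AddMonoidHom.ext
    intro x
    have := ha_apply p (Additive.toMul x)
    rw [hα] at this
    exact this
  have hφ_apply : ∀ (k : ℕ) (x : V),
      ((a - 1) ^ k) (Additive.ofMul x) = Additive.ofMul ((fun x => α x / x)^[k] x) := by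
    intro k
    induction k with
    | zero => intro x; simp
    | succ k ih =>
      intro x
      rw [pow_succ, Function.iterate_succ_apply, AddMonoid.End.coe_mul, Function.comp_apply, ← ih]
      rfl
  obtain ⟨s, hs⟩ : ∃ s : AddMonoid.End (Additive V),
      (a - 1) ^ p + (p : AddMonoid.End (Additive V)) * s = 0 := by
    have hcomm : Commute (a - 1) 1 := Commute.one_right _
    obtain ⟨r, hr⟩ := hcomm.exists_add_pow_prime_eq hp.out
    rw [sub_add_cancel, hap, one_pow, mul_one] at hr
    refine ⟨(a - 1) * r, ?_⟩
    apply add_right_cancel (b := (1 : AddMonoid.End (Additive V)))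
    rw [zero_add, add_right_comm, ← mul_assoc]
    exact hr.symm
  refine ⟨(Additive.toMul (s (Additive.ofMul v)))⁻¹, ?_⟩
  have h1 := hφ_apply p v
  have h3 : ((a - 1) ^ p) (Additive.ofMul v) + p • s (Additive.ofMul v) = 0 :=
    DFunLike.congr_fun hs (Additive.ofMul v)
  rw [h1] at h3
  have h2 := congrArg Additive.toMul h3
  rw [toMul_add, toMul_nsmul, toMul_ofMul, toMul_zero] at h2
  rw [inv_pow]
  exact eq_inv_of_mul_eq_one_left h2

/-- A nilpotent endomorphism of index `k` on an invariant subgroup `U`: `|U| ≤ |ker ∩ U| ^ k`. -/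
theorem card_le_card_ker_pow {W : Type*} [Group W] [Finite W] (ψ : W →* W) :
    ∀ (k : ℕ) (U : Subgroup W), U.map ψ ≤ U → (∀ u ∈ U, ψ^[k] u = 1) →
      Nat.card U ≤ Nat.card (ψ.ker ⊓ U : Subgroup W) ^ k := by
  intro k
  induction k with
  | zero =>
    intro U _ h
    have : U = ⊥ := by
      rw [eq_bot_iff]
      intro u hu
      exact h u hu
    rw [this]
    simp
  | succ k ih =>
    intro U hU h
    have h1 : (U.map ψ).map ψ ≤ U.map ψ := Subgroup.map_mono hU
    have h2 : ∀ u ∈ U.map ψ, ψ^[k] u = 1 := by
      rintro _ ⟨u, hu, rfl⟩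
      rw [← Function.iterate_succ_apply]
      exact h u hu
    have h3 := ih (U.map ψ) h1 h2
    have h4 : Nat.card (ψ.ker ⊓ U.map ψ : Subgroup W) ≤ Nat.card (ψ.ker ⊓ U : Subgroup W) :=
      Subgroup.card_le_of_le (inf_le_inf_left _ hU)
    have h5 : Nat.card (ψ.ker ⊓ U : Subgroup W) * Nat.card (U.map ψ) = Nat.card U := by
      rw [← Subgroup.relIndex_ker, ← Subgroup.inf_relIndex_right]
      exact card_mul_relIndex inf_le_right
    rw [← h5, pow_succ']
    exact Nat.mul_le_mul_left _ (h3.trans (Nat.pow_le_pow_left h4 k))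

/-- Passing to a quotient by an invariant subgroup does not increase the number of fixed
points (the kernel of the induced endomorphism). -/
theorem card_ker_map_le {V : Type*} [Group V] [Finite V] (N : Subgroup V) [N.Normal]
    (φ : V →* V) (h : N ≤ N.comap φ) :
    Nat.card (QuotientGroup.map N N φ h).ker ≤ Nat.card φ.ker := by
  apply Nat.le_of_dvd Nat.card_pos
  rw [← Subgroup.index_range, ← Subgroup.index_range]
  have h1 : (φ.range.map (QuotientGroup.mk' N)) ≤ (QuotientGroup.map N N φ h).range := by
    rintro _ ⟨_, ⟨v, rfl⟩, rfl⟩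
    exact ⟨QuotientGroup.mk v, rfl⟩
  exact (Subgroup.index_dvd_of_le h1).trans
    (Subgroup.index_map_dvd _ (QuotientGroup.mk'_surjective N))

/-- The index of the subgroup of `p`-th powers is at most `|C_V(α)| ^ p`. -/
theorem index_pow_range_le {V : Type*} [CommGroup V] [Finite V] {p : ℕ} [hp : Fact p.Prime]
    (α : MulAut V) (hα : α ^ p = 1) :
    (powMonoidHom p : V →* V).range.index ≤ (Nat.card {v : V // α v = v}) ^ p := by
  set N : Subgroup V := (powMonoidHom p : V →* V).range with hN
  let φ : V →* V := α.toMonoidHom / MonoidHom.id V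
  have hφ : ∀ v, φ v = α v / v := fun v => rfl
  have hNφ : N ≤ N.comap φ := by
    rintro _ ⟨v, rfl⟩
    show φ (v ^ p) ∈ N
    rw [map_pow]
    exact ⟨φ v, rfl⟩
  let ψ := QuotientGroup.map N N φ hNφ
  have hψ : ∀ w, ψ^[p] w = 1 := by
    intro w
    obtain ⟨v, rfl⟩ := QuotientGroup.mk_surjective w
    have hit : ∀ k, ψ^[k] (QuotientGroup.mk v) = QuotientGroup.mk (φ^[k] v) := by
      intro k
      induction k with
      | zero => rfl
      | succ k ih =>
        rw [Function.iterate_succ_apply', Function.iterate_succ_apply', ih]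
        rfl
    rw [hit]
    obtain ⟨w, hw⟩ := iterate_eq_pow α hα v
    have hw' : φ^[p] v = w ^ p := hw
    rw [hw', QuotientGroup.eq_one_iff]
    exact ⟨w, rfl⟩
  have h1 := card_le_card_ker_pow ψ p ⊤ le_top (fun u _ => hψ u)
  rw [inf_top_eq] at h1
  have h2 := card_ker_map_le N φ hNφ
  have h3 : Nat.card φ.ker = Nat.card {v : V // α v = v} := by
    apply Nat.card_congr
    exact Equiv.subtypeEquivRight (fun v => by rw [MonoidHom.mem_ker, hφ, div_eq_one])
  rw [Subgroup.index_eq_card]
  calc Nat.card (V ⧸ N) = Nat.card (⊤ : Subgroup (V ⧸ N)) := (Subgroup.card_top).symm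
    _ ≤ Nat.card ψ.ker ^ p := h1
    _ ≤ _ := Nat.pow_le_pow_left (h2.trans h3.le) p

/-- Let V be a finite abelian p-group and α an automorphism of V of order p whose fixed-point subgroup has order p^n. Then V can be generated by pn elements: some subset of V with at most pn elements generates V. -/
theorem result {V : Type*} [CommGroup V] [Finite V] {p : ℕ} [Fact p.Prime] (hV : IsPGroup p V) (α : MulAut V) (hα : orderOf α = p) (n : ℕ) (hfix : Nat.card {v : V // α v = v} = p ^ n) : ∃ S : Finset V, S.card ≤ p * n ∧ Subgroup.closure (S : Set V) = ⊤ := by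
  have hp : p.Prime := Fact.out
  have hαp : α ^ p = 1 := by rw [← hα]; exact pow_orderOf_eq_one α
  set N : Subgroup V := (powMonoidHom p : V →* V).range with hN
  have hNΦ : N ≤ frattini V := by
    rintro _ ⟨v, rfl⟩
    exact pow_mem_frattini_of_isPGroup hV v
  obtain ⟨d, hd⟩ := hV.index N
  have hle := index_pow_range_le α hαp
  rw [← hN, hd, hfix, ← pow_mul] at hle
  have hdn : d ≤ n * p := (Nat.pow_le_pow_iff_right hp.one_lt).1 hle
  obtain ⟨S, hS, hcl⟩ := exists_generators_of_index hV N hNΦ d hd
  exact ⟨S, hS.trans (by rw [mul_comm]; exact hdn), hcl⟩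

end Cfsg.Agent.S3780
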