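import Cfsg.Statements.S3781
import Cfsg.Agent.S3766

set_option autoImplicit false
open Cfsg

namespace Cfsg.Agent.S3781

open scoped commutatorElement
open Cfsg.Agent.S3766

variable {G : Type*} [Group G]

/-- The three subgroups lemma modulo a normal subgroup. -/
theorem three_subgroups_le (L : Subgroup G) [L.Normal] (A B C : Subgroup G)
    (h1 : ⁅⁅B, C⁆, A⁆ ≤ L) (h2 : ⁅⁅C, A⁆, B⁆ ≤ L) : ⁅⁅A, B⁆, C⁆ ≤ L := by
  have key : ∀ X Y Z : Subgroup G, ⁅⁅X, Y⁆, Z⁆ ≤ L ↔
      ⁅⁅X.map (QuotientGroup.mk' L), Y.map (QuotientGroup.mk' L)⁆,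
        Z.map (QuotientGroup.mk' L)⁆ = ⊥ := by
    intro X Y Z
    rw [← Subgroup.map_commutator, ← Subgroup.map_commutator, Subgroup.map_eq_bot_iff,
      QuotientGroup.ker_mk']
  rw [key] at h1 h2 ⊢
  exact Subgroup.commutator_commutator_eq_bot_of_rotate h1 h2

theorem icomm_normal (H : Subgroup G) [H.Normal] (n : ℕ) : (icomm ⊤ H n).Normal := by
  induction n with
  | zero => exact ‹H.Normal›
  | succ n ih =>
    show (⁅icomm ⊤ H n, ⊤⁆ : Subgroup G).Normal
    infer_instance

theorem icomm_antitone (H : Subgroup G) [H.Normal] : Antitone (icomm ⊤ H) := by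
  apply antitone_nat_of_succ_le
  intro n
  have := icomm_normal H n
  exact Subgroup.commutator_le_left (H₁ := icomm ⊤ H n) (H₂ := ⊤)

/-- `[H, γ_{t+1}(G)] ≤ [H, G, …, G]` (`t + 1` factors `G`). -/
theorem commutator_lcs_le : ∀ (t : ℕ) (H : Subgroup G) [H.Normal],
    ⁅H, (⊤ : Subgroup G).lowerCentralSeries t⁆ ≤ icomm ⊤ H (t + 1) := by
  intro t
  induction t with
  | zero =>
    intro H _
    exact le_rfl
  | succ t ih =>
    intro H _
    have hLn := icomm_normal H (t + 2)
    rw [Subgroup.lowerCentralSeries_succ, Subgroup.commutator_comm]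
    apply three_subgroups_le
    · -- `[[⊤, H], γ] ≤ L`
      rw [Subgroup.commutator_comm ⊤ H]
      have h := ih ⁅H, ⊤⁆
      rwa [← icomm_succ'] at h
    · -- `[[H, γ], ⊤] ≤ L`
      exact Subgroup.commutator_mono (ih H) le_rfl

/-- In a finite nilpotent group, between normal subgroups `L < H` there is a normal `M` with
`L ≤ M < H` and `[H, G] ≤ M`. -/
theorem exists_central_step [Finite G] (hnil : ∃ m, (⊤ : Subgroup G).lowerCentralSeries m = ⊥)
    (L H : Subgroup G) (hH : H.Normal) (hL : L.Normal) (hLH : L < H) :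
    ∃ M : Subgroup G, M.Normal ∧ L ≤ M ∧ M < H ∧ ⁅H, ⊤⁆ ≤ M := by
  obtain ⟨M, hM⟩ := exists_maximal_of_wellFoundedGT
    (fun M : Subgroup G => M.Normal ∧ L ≤ M ∧ M < H) ⟨L, hL, le_rfl, hLH⟩
  have hchief : IsChief H M := ⟨hH, hM.1.1, hM.1.2.2, fun W hW hMW hWH => by
    by_cases h : W = H
    · exact Or.inr h
    · left
      exact le_antisymm (hM.2 ⟨hW, hM.1.2.1.trans hMW, lt_of_le_of_ne hWH h⟩ hMW) hMW⟩
  exact ⟨M, hM.1.1, hM.1.2.1, hM.1.2.2, chief_centralized (K := ⊤) hnil hchief⟩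

/-- A `G`-central chain of length at most `t` from `H` down to `L` when `|H : L| ≤ p ^ t`. -/
theorem icomm_le_of_relIndex_le [Finite G] {p : ℕ} [hp : Fact p.Prime] (hG : IsPGroup p G) :
    ∀ (t : ℕ) (H L : Subgroup G), H.Normal → L.Normal → L ≤ H → L.relIndex H ≤ p ^ t →
      icomm ⊤ H t ≤ L := by
  have hnil : ∃ m, (⊤ : Subgroup G).lowerCentralSeries m = ⊥ :=
    Subgroup.nilpotent_iff_lowerCentralSeries.1 hG.isNilpotent
  intro t
  induction t with
  | zero =>
    intro H L _ _ _ h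
    have h1 : L.relIndex H = 1 := by
      have : L.relIndex H ≠ 0 := Subgroup.index_ne_zero_of_finite
      rw [pow_zero] at h
      omega
    exact Subgroup.relIndex_eq_one.1 h1
  | succ t ih =>
    intro H L hH hL hLH h
    by_cases hEq : L = H
    · rw [hEq]
      exact icomm_antitone H (Nat.zero_le _)
    · obtain ⟨M, hMn, hLM, hMH, hHM⟩ :=
        exists_central_step hnil L H hH hL (lt_of_le_of_ne hLH hEq)
      have hmul := Subgroup.relIndex_mul_relIndex L M H hLM hMH.le
      obtain ⟨c, hc⟩ := (hG.to_subgroup H).index (M.subgroupOf H)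
      have hc' : M.relIndex H = p ^ c := hc
      have hc0 : c ≠ 0 := by
        rintro rfl
        rw [pow_zero, Subgroup.relIndex_eq_one] at hc'
        exact absurd hc' (not_le_of_gt hMH)
      have hpc : p ≤ M.relIndex H := by
        rw [hc']
        exact Nat.le_self_pow hc0 p
      have hLM' : L.relIndex M ≤ p ^ t := by
        have h2 : L.relIndex M * p ≤ p ^ t * p := by
          calc L.relIndex M * p ≤ L.relIndex M * M.relIndex H := Nat.mul_le_mul_left _ hpc
            _ = L.relIndex H := hmul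
            _ ≤ p ^ (t + 1) := h
            _ = p ^ t * p := pow_succ p t
        exact Nat.le_of_mul_le_mul_right h2 hp.out.pos
      have h3 := ih M L hMn hL hLM hLM'
      rw [icomm_succ']
      exact (icomm_mono ⊤ hHM t).trans h3

theorem result {G : Type*} [Group G] [Finite G] {p : ℕ} [Fact p.Prime] (hG : IsPGroup p G) (n : ℕ) (hn : 1 ≤ n) (N : Subgroup G) [N.Normal] (hN : N ≤ (⊤ : Subgroup G).lowerCentralSeries (n - 1)) (i : ℕ) (hi : 1 < i) (hne : N.lowerCentralSeries i ≠ ⊥) : p ^ n ≤ (N.lowerCentralSeries i).relIndex (N.lowerCentralSeries (i - 1)) := by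
  have hp : p.Prime := Fact.out
  have hnil : ∃ m, (⊤ : Subgroup G).lowerCentralSeries m = ⊥ :=
    Subgroup.nilpotent_iff_lowerCentralSeries.1 hG.isNilpotent
  obtain ⟨j, rfl⟩ : ∃ j, i = j + 1 := ⟨i - 1, by omega⟩
  rw [Nat.add_sub_cancel]
  set H := N.lowerCentralSeries j with hHdef
  set K := N.lowerCentralSeries (j + 1) with hKdef
  have hHn : H.Normal := lowerCentralSeries_normal N j
  have hKn : K.Normal := lowerCentralSeries_normal N (j + 1)
  have hKH : K ≤ H := Subgroup.lowerCentralSeries_antitone N (Nat.le_succ j)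
  have hKeq : K = ⁅H, N⁆ := Subgroup.lowerCentralSeries_succ N j
  by_contra hcon
  push Not at hcon
  -- `|H : K| = p ^ s` with `s < n`
  obtain ⟨s, hs⟩ := (hG.to_subgroup H).index (K.subgroupOf H)
  have hs' : K.relIndex H = p ^ s := hs
  have hsn : s < n := by
    rw [hs'] at hcon
    exact (Nat.pow_lt_pow_iff_right hp.one_lt).1 hcon
  -- a normal subgroup `K₁ < K` with `[K, G] ≤ K₁`
  obtain ⟨K₁, hK₁n, -, hK₁K, hKK₁⟩ :=
    exists_central_step hnil ⊥ K hKn inferInstance (bot_lt_iff_ne_bot.2 hne)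
  have h1 : icomm ⊤ H s ≤ K := icomm_le_of_relIndex_le hG s H K hHn hKn hKH hs'.le
  have h2 : icomm ⊤ H (s + 1) ≤ K₁ :=
    (Subgroup.commutator_mono h1 le_rfl).trans hKK₁
  have h3 : icomm ⊤ H n ≤ K₁ := (icomm_antitone H (by omega : s + 1 ≤ n)).trans h2
  have h4 : ⁅H, (⊤ : Subgroup G).lowerCentralSeries (n - 1)⁆ ≤ icomm ⊤ H n := by
    have := commutator_lcs_le (n - 1) H
    rwa [Nat.sub_add_cancel hn] at this
  have h5 : K ≤ K₁ := by
    rw [hKeq]
    exact (Subgroup.commutator_mono le_rfl hN).trans (h4.trans h3)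
  exact absurd h5 (not_le_of_gt hK₁K)

end Cfsg.Agent.S3781
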