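import Mathlib
import Cfsg.Statements.S3784

set_option autoImplicit false
open Cfsg

namespace Cfsg.Agent.S3784

/-- an odd divisor of a power of two is one -/
theorem odd_dvd_two_pow {s n : ℕ} (hs : Odd s) (h : s ∣ 2 ^ n) : s = 1 := by
  obtain ⟨k, _, rfl⟩ := (Nat.dvd_prime_pow Nat.prime_two).1 h
  rcases k with _ | k
  · simp
  · exfalso
    rw [pow_succ] at hs
    exact (Nat.not_odd_iff_even.2 (even_two.mul_left _)) hs

/-- for odd `n` and odd `q`, the cofactor of `q + 1` in `q ^ n + 1` is odd -/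
theorem cofactor_add (q n : ℕ) (hq : Odd q) (hn : Odd n) :
    ∃ s : ℕ, Odd s ∧ q ^ n + 1 = (q + 1) * s := by
  obtain ⟨s, hs⟩ : q + 1 ∣ q ^ n + 1 := by
    have := hn.nat_add_dvd_pow_add_pow q 1
    simpa using this
  refine ⟨s, ?_, hs⟩
  -- work in ℤ
  have h1 : (∑ i ∈ Finset.range n, (q : ℤ) ^ i * (-1) ^ (n - 1 - i)) * ((q : ℤ) - (-1)) =
      (q : ℤ) ^ n - (-1) ^ n := geom_sum₂_mul (q : ℤ) (-1) n
  rw [hn.neg_one_pow] at h1
  have h2 : ((s : ℤ)) * ((q : ℤ) - (-1)) = (q : ℤ) ^ n - (-1) := by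
    have : ((q ^ n + 1 : ℕ) : ℤ) = (((q + 1) * s : ℕ) : ℤ) := by rw [hs]
    push_cast at this
    linarith
  have hq1 : ((q : ℤ) - (-1)) ≠ 0 := by
    have : (0 : ℤ) ≤ q := Int.natCast_nonneg q
    linarith
  have h3 : (s : ℤ) = ∑ i ∈ Finset.range n, (q : ℤ) ^ i * (-1) ^ (n - 1 - i) :=
    mul_right_cancel₀ hq1 (h2.trans h1.symm)
  have h4 : ¬ (2 : ℤ) ∣ ∑ i ∈ Finset.range n, (q : ℤ) ^ i * (-1) ^ (n - 1 - i) := by
    have hdvd : (2 : ℤ) ∣ (q : ℤ) - (-1) := by
      obtain ⟨k, hk⟩ := hq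
      exact ⟨k + 1, by rw [hk]; push_cast; ring⟩
    rw [dvd_geom_sum₂_iff_of_dvd_sub hdvd]
    intro hcontra
    have hodd : Odd ((n : ℤ) * (-1) ^ (n - 1)) := by
      apply Odd.mul
      · exact_mod_cast hn
      · exact Odd.pow (by decide)
    exact (Int.not_even_iff_odd.2 hodd) (even_iff_two_dvd.2 hcontra)
  rw [← h3] at h4
  rw [← Nat.not_even_iff_odd, even_iff_two_dvd]
  intro h5
  exact h4 (by exact_mod_cast h5)

/-- for odd `n` and odd `p`, the cofactor of `p - 1` in `p ^ n - 1` is odd -/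
theorem cofactor_sub (p n : ℕ) (hp : Odd p) (hn : Odd n) :
    ∃ s : ℕ, Odd s ∧ p ^ n = (p - 1) * s + 1 := by
  have hp1 : 1 ≤ p := hp.pos
  refine ⟨∑ i ∈ Finset.range n, p ^ i, ?_, ?_⟩
  · rw [Finset.odd_sum_iff_odd_card_odd]
    have : (Finset.range n).filter (fun x => Odd (p ^ x)) = Finset.range n := by
      apply Finset.filter_true_of_mem
      intro x _
      exact hp.pow
    rw [this, Finset.card_range]
    exact hn
  · have := geom_sum_mul_add (p - 1) n
    rw [Nat.sub_add_cancel hp1] at this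
    rw [← this, mul_comm]

theorem result (p q a b : ℕ) (hp : p.Prime) (hq : q.Prime) (ha : 1 ≤ a) (hb : 1 ≤ b) (h : p ^ a = q ^ b + 1) : (p = 2 ∧ b = 1 ∧ a.Prime ∧ q + 1 = 2 ^ a) ∨ (q = 2 ∧ a = 1 ∧ (∃ m : ℕ, b = 2 ^ m) ∧ p = 2 ^ b + 1) ∨ (p ^ a = 9 ∧ q ^ b = 8) := by
  have ha0 : a ≠ 0 := by omega
  have hb0 : b ≠ 0 := by omega
  rcases hp.eq_two_or_odd' with hp2 | hpodd
  · -- p = 2
    subst hp2
    left
    have hqodd : Odd q := by
      rcases hq.eq_two_or_odd' with hq2 | hqodd
      · exfalso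
        subst hq2
        have h1 : Even (2 ^ a) := (Nat.even_pow' ha0).2 even_two
        have h2 : Even (2 ^ b) := (Nat.even_pow' hb0).2 even_two
        rw [h] at h1
        exact (Nat.not_even_iff_odd.2 (h2.add_one)) h1
      · exact hqodd
    have hb1 : b = 1 := by
      rcases Nat.even_or_odd b with hbe | hbo
      · exfalso
        obtain ⟨k, hk⟩ := hbe
        have hqk : Odd (q ^ k) := hqodd.pow
        have h4 : (q ^ k) ^ 2 % 4 = 1 := by
          obtain ⟨m, hm⟩ := hqk
          rw [hm]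
          ring_nf
          have : (1 + m * 4 + m ^ 2 * 4) = 1 + 4 * (m + m ^ 2) := by ring
          rw [this]
          omega
        have h5 : q ^ b = (q ^ k) ^ 2 := by rw [hk, ← pow_mul]; ring_nf
        have h6 : 2 ^ a % 4 = 2 := by rw [h, h5]; omega
        have ha1 : a = 1 := by
          by_contra hne
          have : 2 ≤ a := by omega
          obtain ⟨c, rfl⟩ := Nat.exists_eq_add_of_le this
          rw [pow_add] at h6
          omega
        subst ha1
        have : q ^ b = 1 := by omega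
        have hq1 : 1 < q := hq.one_lt
        have : 1 < q ^ b := Nat.one_lt_pow hb0 hq1
        omega
      · obtain ⟨s, hs, hs2⟩ := cofactor_add q b hqodd hbo
        have hs1 : s = 1 := odd_dvd_two_pow hs ⟨q + 1, by rw [h, hs2, mul_comm]⟩
        subst hs1
        have hqb : q ^ b = q := by omega
        have hq1 : 1 < q := hq.one_lt
        exact (Nat.pow_eq_self_iff hq1).1 hqb
    subst hb1
    rw [pow_one] at h
    have ha1 : a ≠ 1 := by
      rintro rfl
      have := hq.one_lt
      omega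
    have hq' : (2 ^ a - 1).Prime := by
      have : 2 ^ a - 1 = q := by omega
      rw [this]; exact hq
    exact ⟨rfl, rfl, (Nat.prime_of_pow_sub_one_prime ha1 hq').2, h.symm⟩
  · -- p odd, so q = 2
    right
    have hq2 : q = 2 := by
      rcases hq.eq_two_or_odd' with hq2 | hqodd
      · exact hq2
      · exfalso
        have h1 : Odd (p ^ a) := hpodd.pow
        have h2 : Odd (q ^ b) := hqodd.pow
        rw [h] at h1
        exact (Nat.not_odd_iff_even.2 h2.add_one) h1
    subst hq2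
    rcases Nat.even_or_odd a with hae | hao
    · -- a even: 9 = 8 + 1
      right
      obtain ⟨c, hc⟩ := hae
      have hc0 : c ≠ 0 := by omega
      set x := p ^ c with hx
      have hxodd : Odd x := hpodd.pow
      have hx2 : x ^ 2 = 2 ^ b + 1 := by rw [← h, hx, hc, ← pow_mul]; ring_nf
      obtain ⟨m, hm⟩ := hxodd
      have hprod : 4 * (m * (m + 1)) = 2 ^ b := by
        have : x ^ 2 = 4 * (m * (m + 1)) + 1 := by rw [hm]; ring
        omega
      have hm0 : m ≠ 0 := by
        rintro rfl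
        have : 1 ≤ 2 ^ b := Nat.one_le_two_pow
        omega
      have hmdvd : m ∣ 2 ^ b := ⟨4 * (m + 1), by rw [← hprod]; ring⟩
      have hm1dvd : m + 1 ∣ 2 ^ b := ⟨4 * m, by rw [← hprod]; ring⟩
      have hm1 : m = 1 := by
        rcases Nat.even_or_odd m with hme | hmo
        · have : m + 1 = 1 := odd_dvd_two_pow hme.add_one hm1dvd
          omega
        · exact odd_dvd_two_pow hmo hmdvd
      subst hm1
      have hx3 : x = 3 := by omega
      have h9 : p ^ a = 9 := by
        rw [hc, ← two_mul, mul_comm, pow_mul, ← hx, hx3]; norm_num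
      refine ⟨h9, ?_⟩
      omega
    · -- a odd
      left
      obtain ⟨s, hs, hs2⟩ := cofactor_sub p a hpodd hao
      have hs1 : s = 1 := odd_dvd_two_pow (n := b) hs ⟨p - 1, by rw [mul_comm]; omega⟩
      subst hs1
      have hp1 : 1 < p := hp.one_lt
      have hpa : p ^ a = p := by omega
      have ha1 : a = 1 := (Nat.pow_eq_self_iff hp1).1 hpa
      subst ha1
      rw [pow_one] at h
      have hP : (2 ^ b + 1).Prime := by rw [← h]; exact hp
      exact ⟨rfl, rfl, Nat.pow_of_pow_add_prime (by norm_num) hb0 hP, h⟩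

end Cfsg.Agent.S3784
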