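import Cfsg.Statements.S3785
import Cfsg.Agent.Lib.Helper24_Coprime
import Cfsg.Agent.Lib.Helper55_Fitting
import Cfsg.Agent.Lib.Helper71_Fitting

set_option autoImplicit false
open Cfsg

namespace Cfsg.Agent.S3785

open Cfsg.Agent.Lib.Helper71_Fitting Cfsg.Agent.Lib.Helper24_Coprime
  Cfsg.Agent.Lib.Helper55_Fitting

/-- The centralizer of a conjugation-invariant set is normal. -/
theorem centralizer_normal_of_conj_invariant {G : Type*} [Group G] (S : Set G)
    (hS : ∀ g : G, ∀ s ∈ S, g * s * g⁻¹ ∈ S) : (Subgroup.centralizer S).Normal := by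
  constructor
  intro c hc g
  rw [Subgroup.mem_centralizer_iff] at hc ⊢
  intro s hs
  have h := hc (g⁻¹ * s * g) (by simpa using hS g⁻¹ s hs)
  calc s * (g * c * g⁻¹) = g * ((g⁻¹ * s * g) * c) * g⁻¹ := by group
    _ = g * (c * (g⁻¹ * s * g)) * g⁻¹ := by rw [h]
    _ = g * c * g⁻¹ * s := by group

theorem orderOf_conj' {G : Type*} [Group G] (g s : G) : orderOf (g * s * g⁻¹) = orderOf s := by
  have := MulEquiv.orderOf_eq (MulAut.conj g) s
  rwa [MulAut.conj_apply] at this

theorem result {G : Type*} [Group G] [Finite G] (hG : Group.IsSolvable G) (hodd : Odd (Nat.card (Cfsg.fittingSubgroup G))) (g : G) (hg : ∀ x ∈ Cfsg.fittingSubgroup G, (orderOf x).Prime → g * x = x * g) : g ∈ Cfsg.fittingSubgroup G := by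
  classical
  set F := Cfsg.fittingSubgroup G with hF
  have hFn : F.Normal := fittingSubgroup_normal
  have hFnil : Group.IsNilpotent F := fittingSubgroup_isNilpotent
  -- an element centralizing the prime order elements of `F` centralizes `O_q(G)`, `q` coprime
  have hA : ∀ (a : G) (q : ℕ) [Fact q.Prime], (orderOf a).Coprime q →
      (∀ x ∈ F, (orderOf x).Prime → a * x = x * a) → ∀ z ∈ sylowCore q G, a * z = z * a := by
    intro a q hq hcop ha z hz
    by_cases hq2 : q = 2
    · -- `O_2(G)` is trivial
      subst hq2
      obtain ⟨j, hj⟩ := (sylowCore_isPGroup (G := G) 2) ⟨z, hz⟩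
      have hj' : z ^ 2 ^ j = 1 := by
        have := congrArg Subtype.val hj
        simpa using this
      have h1 : orderOf z ∣ 2 ^ j := orderOf_dvd_of_pow_eq_one hj'
      have hzF : z ∈ F := sylowCore_le_fitting 2 hz
      have h2 : orderOf z ∣ Nat.card F := by
        have := orderOf_dvd_natCard (⟨z, hzF⟩ : F)
        rwa [Subgroup.orderOf_mk] at this
      have h3 : Nat.Coprime (2 ^ j) (Nat.card F) :=
        Nat.Coprime.pow_left j (Nat.coprime_two_left.2 hodd)
      have h4 : orderOf z = 1 := Nat.eq_one_of_dvd_coprimes h3 h1 h2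
      rw [orderOf_eq_one_iff] at h4
      rw [h4, mul_one, one_mul]
    · apply centralizes_pgroup_of_centralizes_omega q hq2 a hcop (sylowCore q G)
        (sylowCore_isPGroup q) _ _ z hz
      · intro x hx
        have hn : (sylowCore q G).Normal := inferInstance
        exact hn.conj_mem x hx a
      · intro x hx hxq
        rcases (Nat.dvd_prime hq.out).1 (orderOf_dvd_of_pow_eq_one hxq) with h1 | h1
        · rw [orderOf_eq_one_iff] at h1
          rw [h1, mul_one, one_mul]
        · exact ha x (sylowCore_le_fitting q hx) (by rw [h1]; exact hq.out)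
  -- to commute with an element of `F` it suffices to commute with its primary parts
  have hB : ∀ (a f : G), f ∈ F →
      (∀ (q : ℕ) [Fact q.Prime], ∀ z ∈ sylowCore q G, z ∈ Subgroup.zpowers f → a * z = z * a) →
      a * f = f * a := by
    intro a f hf h
    have : f ∈ Subgroup.centralizer ({a} : Set G) := by
      apply mem_of_primePow_mem
      intro y hy p k hp hyo
      have : Fact p.Prime := ⟨hp⟩
      have hyF : y ∈ F := (Subgroup.zpowers_le.2 hf) hy
      have hyc : y ∈ sylowCore p G := mem_sylowCore_of_mem_normal_nilpotent F hFnil hyF hyo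
      rw [Subgroup.mem_centralizer_iff]
      intro b hb
      rw [Set.mem_singleton_iff] at hb
      rw [hb]
      exact h p y hyc hy
    rw [Subgroup.mem_centralizer_iff] at this
    exact this a rfl
  -- the main claim
  have hC : ∀ (r : ℕ) [Fact r.Prime] (x : G) (k : ℕ), orderOf x = r ^ k →
      (∀ y ∈ F, (orderOf y).Prime → x * y = y * x) → x ∈ F := by
    intro r hr x k hxo hx
    let S : Set G := {y | y ∈ F ∧ ((orderOf y).Prime ∨ (orderOf y).Coprime r)}
    have hSconj : ∀ g : G, ∀ s ∈ S, g * s * g⁻¹ ∈ S := by
      rintro g s ⟨hsF, hso⟩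
      refine ⟨hFn.conj_mem s hsF g, ?_⟩
      rwa [orderOf_conj']
    have hMn : (Subgroup.centralizer S).Normal := centralizer_normal_of_conj_invariant S hSconj
    -- a `q`-element for `q ≠ r` has order coprime to `r`
    have hcopq : ∀ (q : ℕ) [Fact q.Prime], q ≠ r → ∀ z ∈ sylowCore q G,
        (orderOf z).Coprime r := by
      intro q hq hqr z hz
      obtain ⟨j, hj⟩ := (sylowCore_isPGroup (G := G) q) ⟨z, hz⟩
      have hj' : z ^ q ^ j = 1 := by
        have := congrArg Subtype.val hj
        simpa using this
      have h1 : orderOf z ∣ q ^ j := orderOf_dvd_of_pow_eq_one hj'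
      exact Nat.Coprime.coprime_dvd_left h1
        (Nat.Coprime.pow_left j ((Nat.coprime_primes hq.out hr.out).2 hqr))
    have hxM : x ∈ Subgroup.centralizer S := by
      rw [Subgroup.mem_centralizer_iff]
      rintro y ⟨hyF, hyo⟩
      rcases hyo with hyo | hyo
      · exact (hx y hyF hyo).symm
      · symm
        apply hB x y hyF
        intro q hq z hz hzy
        by_cases hqr : q = r
        · subst hqr
          have h1 : orderOf z ∣ orderOf y := orderOf_dvd_of_mem_zpowers hzy
          obtain ⟨j, hj⟩ := (sylowCore_isPGroup (G := G) q) ⟨z, hz⟩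
          have hj' : z ^ q ^ j = 1 := by
            have := congrArg Subtype.val hj
            simpa using this
          have h2 : orderOf z ∣ q ^ j := orderOf_dvd_of_pow_eq_one hj'
          have h3 : Nat.Coprime (orderOf y) (q ^ j) := Nat.Coprime.pow_right j hyo
          have h4 : orderOf z = 1 := Nat.eq_one_of_dvd_coprimes h3 h1 h2
          rw [orderOf_eq_one_iff] at h4
          rw [h4, mul_one, one_mul]
        · apply hA x q _ hx z hz
          rw [hxo]
          exact Nat.Coprime.pow_left k ((Nat.coprime_primes hr.out hq.out).2 (Ne.symm hqr))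
    -- `r'`-elements of `M` are central in `M`
    have hcent : ∀ y ∈ Subgroup.centralizer S, (orderOf y).Coprime r →
        ∀ m ∈ Subgroup.centralizer S, m * y = y * m := by
      intro y hyM hyo m hmM
      have hyX : ∀ w ∈ F, (orderOf w).Prime → y * w = w * y := fun w hw hwo =>
        ((Subgroup.mem_centralizer_iff.1 hyM) w ⟨hw, Or.inl hwo⟩).symm
      have hyF : y ∈ Subgroup.centralizer (F : Set G) := by
        rw [Subgroup.mem_centralizer_iff]
        intro f hf
        symm
        apply hB y f hf
        intro q hq z hz hzf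
        by_cases hqr : q = r
        · subst hqr
          exact hA y q hyo hyX z hz
        · have hzS : z ∈ S := ⟨sylowCore_le_fitting q hz, Or.inr (hcopq q hqr z hz)⟩
          exact ((Subgroup.mem_centralizer_iff.1 hyM) z hzS).symm
      have hyFF : y ∈ F := by
        have := hG
        exact centralizer_fittingSubgroup_le hyF
      have hyS : y ∈ S := ⟨hyFF, Or.inr hyo⟩
      exact ((Subgroup.mem_centralizer_iff.1 hmM) y hyS).symm
    -- hence `M` is nilpotent
    have hMnil : Group.IsNilpotent (Subgroup.centralizer S) := by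
      apply Group.of_quotient_center_nilpotent
      have hq : IsPGroup r ((Subgroup.centralizer S) ⧸ Subgroup.center (Subgroup.centralizer S)) := by
        intro mbar
        obtain ⟨m, rfl⟩ := QuotientGroup.mk_surjective mbar
        obtain ⟨a, t, ht, hmt⟩ :=
          Nat.exists_eq_pow_mul_and_not_dvd (orderOf_pos (m : G)).ne' r hr.out.ne_one
        refine ⟨a, ?_⟩
        rw [← QuotientGroup.mk_pow, QuotientGroup.eq_one_iff, Subgroup.mem_center_iff]
        intro m'
        apply Subtype.ext
        have ho : orderOf ((m : G) ^ r ^ a) = t := by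
          rw [orderOf_pow' _ (pow_ne_zero a hr.out.ne_zero), hmt,
            Nat.gcd_eq_right (Dvd.intro _ rfl)]
          exact Nat.mul_div_cancel_left t (pow_pos hr.out.pos a)
        have hco : (orderOf ((m : G) ^ r ^ a)).Coprime r := by
          rw [ho]
          exact ((Nat.Prime.coprime_iff_not_dvd hr.out).2 ht).symm
        have := hcent ((m : G) ^ r ^ a) (Subgroup.pow_mem _ m.2 _) hco (m' : G) m'.2
        simpa using this
      exact hq.isNilpotent
    exact le_sSup (show Subgroup.centralizer S ∈ {N : Subgroup G | N.Normal ∧ Group.IsNilpotent N}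
      from ⟨hMn, hMnil⟩) hxM
  -- conclusion
  apply mem_of_primePow_mem F g
  intro y hy p k hp hyo
  have : Fact p.Prime := ⟨hp⟩
  apply hC p y k hyo
  intro w hw hwo
  obtain ⟨n, rfl⟩ := hy
  have hc : Commute g w := hg w hw hwo
  exact (hc.zpow_left n).eq

end Cfsg.Agent.S3785
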