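-- Statement S3787: p odd non-Fermat, C_p wr C_p not involved in a Sylow p-subgroup => p-length <= 1.
import Mathlib
import Cfsg.Statements.S3787
import Cfsg.Agent.Lib.Helper64_HHWrMain
import Cfsg.Agent.Lib.Helper64_HHPLength
import Cfsg.Agent.Lib.Helper32_Cores
import Cfsg.Agent.S0635

set_option autoImplicit false
open Cfsg

namespace Cfsg.Agent.S3787

open Cfsg.Agent.Lib.Helper76_PSolvable Cfsg.Agent.Lib.Helper64_HHWrMain
  Cfsg.Agent.Lib.Helper64_WrSection

/-- Let G be a finite p-soluble group, p an odd prime not of the form 2^k + 1, and suppose the wreath product C_p ≀ C_p (of order p^(p+1)) is not involved in a Sylow p-subgroup of G: no section of a Sylow p-subgroup is isomorphic to it. Then G has p-length at most 1. -/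
theorem result {G : Type*} [Group G] [Finite G] {p : ℕ} [Fact p.Prime] (hp2 : p ≠ 2) (hnf : (¬ ∃ k : ℕ, p = 2 ^ k + 1)) (hG : Cfsg.IsPSolvable p G) (P : Sylow p G) (hwr : ∀ (W : Type) [Group W] [Finite W], (∃ (B : Subgroup W) (t : W), B.Normal ∧ IsMulCommutative B ∧ (∀ b ∈ B, b ^ p = 1) ∧ Nat.card B = p ^ p ∧ orderOf t = p ∧ t ∉ B ∧ Nat.card W = p ^ (p + 1) ∧ Nat.card ↥(B ⊓ Subgroup.centralizer ({t} : Set W)) = p) → ¬ Cfsg.Involves W ↥(P : Subgroup G)) : Cfsg.PLengthLE p 1 G := by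
  classical
  have hp : p.Prime := Fact.out
  show (upperPSeries p G (2 * 1 + 1)).1 = ⊤
  -- the quotient by `O_{p'}(G)`
  have hXsol : IsPSolvable p (G ⧸ pPrimeCore p G) := isPSolvable_quotient p _ hG
  have hXcore : pPrimeCore p (G ⧸ pPrimeCore p G) = ⊥ :=
    Cfsg.Agent.Lib.Helper32_Cores.pPrimeCore_quotient_eq_bot (G := G) p
  have hRn : (pCore p (G ⧸ pPrimeCore p G)).Normal :=
    Cfsg.Agent.Lib.Helper76_PSolvable.pCore_normal p
  have hRp : IsPGroup p (pCore p (G ⧸ pPrimeCore p G)) := pCore_isPGroup p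
  -- every `p`-element of the quotient lies in its `p`-core
  have claimA : ∀ z : G ⧸ pPrimeCore p G, (∃ k, z ^ p ^ k = 1) →
      z ∈ pCore p (G ⧸ pPrimeCore p G) := by
    intro z hz
    by_contra hzR
    have hex : ∃ k : ℕ, z ^ p ^ k ∈ pCore p (G ⧸ pPrimeCore p G) := by
      obtain ⟨k, hk⟩ := hz
      exact ⟨k, by rw [hk]; exact one_mem _⟩
    have hk0 : Nat.find hex ≠ 0 := by
      intro h0
      have := Nat.find_spec hex
      rw [h0, pow_zero, pow_one] at this
      exact hzR this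
    obtain ⟨j, hj⟩ := Nat.exists_eq_succ_of_ne_zero hk0
    have hj1 : z ^ p ^ j ∉ pCore p (G ⧸ pPrimeCore p G) :=
      Nat.find_min hex (by rw [hj]; exact Nat.lt_succ_self j)
    have hj2 : (z ^ p ^ j) ^ p ∈ pCore p (G ⧸ pPrimeCore p G) := by
      have := Nat.find_spec hex
      rw [hj, pow_succ, pow_mul] at this
      exact this
    obtain ⟨W, instW, hWfin, hW, hinv⟩ := exists_wr_section hp2 hnf hXsol hXcore (z ^ p ^ j) hj1 hj2
    have hZp : IsPGroup p (Subgroup.zpowers (z ^ p ^ j)) := by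
      obtain ⟨k, hk⟩ := hz
      rintro ⟨g, hg⟩
      obtain ⟨i, rfl⟩ := Subgroup.mem_zpowers_iff.mp hg
      refine ⟨k, Subtype.ext ?_⟩
      show ((z ^ p ^ j) ^ i) ^ p ^ k = 1
      rw [← zpow_natCast, ← zpow_mul, mul_comm, zpow_mul, zpow_natCast, ← pow_mul, mul_comm,
        pow_mul, hk, one_pow, one_zpow]
    have hSp : IsPGroup p ↥(pCore p (G ⧸ pPrimeCore p G) ⊔ Subgroup.zpowers (z ^ p ^ j)) :=
      IsPGroup.to_sup_of_normal_left hRp hZp
    exact hwr W hW (involves_sylow_of_quotient (pPrimeCore p G) P _ hSp hinv)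
  -- the quotient by `O_{p',p}(G)` is a `p'`-group
  have hYexp : ∀ z : G ⧸ (upperPSeries p G 2).1, (∃ k, z ^ p ^ k = 1) → z = 1 := by
    intro z hz
    obtain ⟨g, rfl, hg⟩ :=
      Cfsg.Agent.Lib.Helper64_HHPLength.exists_pelement_lift (upperPSeries p G 2).1 z hz
    have hgX : ∃ k, (QuotientGroup.mk' (pPrimeCore p G) g) ^ p ^ k = 1 := by
      obtain ⟨k, hk⟩ := hg
      exact ⟨k, by rw [← map_pow, hk, map_one]⟩
    have hC := claimA _ hgX
    have hmem : g ∈ (upperPSeries p G 2).1 := by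
      rw [Cfsg.Agent.S0635.upperPSeries_two]
      exact hC
    rw [QuotientGroup.mk'_apply, QuotientGroup.eq_one_iff]
    exact hmem
  have hnd : ¬ p ∣ Nat.card (G ⧸ (upperPSeries p G 2).1) := by
    intro hdvd
    obtain ⟨g, hg⟩ := exists_prime_orderOf_dvd_card' p hdvd
    have hgp : g ^ p = 1 := by
      have := pow_orderOf_eq_one g
      rwa [hg] at this
    have h1 := hYexp g ⟨1, by rw [pow_one]; exact hgp⟩
    rw [h1, orderOf_one] at hg
    exact hp.one_lt.ne hg
  have htop : (⊤ : Subgroup (G ⧸ (upperPSeries p G 2).1)) ≤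
      pPrimeCore p (G ⧸ (upperPSeries p G 2).1) := by
    apply Cfsg.Agent.Lib.Helper32_Cores.le_pPrimeCore inferInstance
    rw [Subgroup.card_top]
    exact ((Nat.Prime.coprime_iff_not_dvd hp).mpr hnd).symm
  have h1 : (upperPSeries p (G ⧸ (upperPSeries p G 2).1) 1).1 = ⊤ := by
    rw [Cfsg.Agent.S0635.upperPSeries_one]
    exact top_le_iff.mp htop
  have h2 := Cfsg.Agent.S0635.upperPSeries_shift (G := G) p 1
  rw [h1, Subgroup.comap_top] at h2
  exact h2

end Cfsg.Agent.S3787
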