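import Cfsg.Statements.S3788
import Cfsg.Agent.Lib.Helper21_HHMain

set_option autoImplicit false
open Cfsg

namespace Cfsg.Agent.S3788

open Cfsg.Agent.Lib.Helper76_PSolvable in
/-- Let G be a finite p-soluble group, P a Sylow p-subgroup of G and A a cyclic normal subgroup of P. If p is odd, or if no section of G is isomorphic to the symmetric group of degree 4, then A ≤ O_{p',p}(G). -/
theorem result {G : Type*} [Group G] [Finite G] {p : ℕ} [Fact p.Prime] (hG : Cfsg.IsPSolvable p G) (P : Sylow p G) (A : Subgroup G) (hAP : A ≤ (P : Subgroup G)) (hAn : (P : Subgroup G) ≤ Subgroup.normalizer (A : Set G)) (hA : IsCyclic A) (h : p ≠ 2 ∨ ¬ Cfsg.Involves (Equiv.Perm (Fin 4)) G) : A ≤ Cfsg.pPrimePCore p G := by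
  have hKn : (pPrimeCore p G).Normal := Cfsg.Agent.Lib.Helper76_PSolvable.pPrimeCore_normal p
  have hπs : Function.Surjective (QuotientGroup.mk' (pPrimeCore p G)) :=
    QuotientGroup.mk'_surjective _
  have hsolX : IsPSolvable p (G ⧸ pPrimeCore p G) := isPSolvable_quotient p _ hG
  have hcoreX : pPrimeCore p (G ⧸ pPrimeCore p G) = ⊥ := pPrimeCore_quotient_pPrimeCore p
  have hX : p ≠ 2 ∨ ¬ Cfsg.Involves (Equiv.Perm (Fin 4)) (G ⧸ pPrimeCore p G) := by
    rcases h with h | h
    · exact Or.inl h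
    · exact Or.inr (fun h' => h
        (Cfsg.Agent.Lib.Helper21_S4Core.involves_of_surjective' _ hπs h'))
  obtain ⟨g, hg⟩ := hA.exists_generator
  have hgen : ∀ x ∈ A, x ∈ Subgroup.zpowers (g : G) := by
    intro x hx
    obtain ⟨k, hk⟩ := Subgroup.mem_zpowers_iff.1 (hg ⟨x, hx⟩)
    rw [Subgroup.mem_zpowers_iff]
    refine ⟨k, ?_⟩
    have := congrArg Subtype.val hk
    rw [Subgroup.coe_zpow] at this
    exact this
  have hgP : (g : G) ∈ (P : Subgroup G) := hAP g.2
  -- the image of the generator lies in `O_p(G / O_{p'}(G))`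
  have hmain : (QuotientGroup.mk' (pPrimeCore p G)) (g : G) ∈ pCore p (G ⧸ pPrimeCore p G) := by
    apply Cfsg.Agent.Lib.Helper21_HHMain.core_lemma hsolX hcoreX hX
    · obtain ⟨k, hk⟩ := P.2 ⟨(g : G), hgP⟩
      refine ⟨k, ?_⟩
      have hk' : (g : G) ^ p ^ k = 1 := by
        have := congrArg Subtype.val hk
        rw [Subgroup.coe_pow, Subgroup.coe_one] at this
        exact this
      rw [← map_pow, hk', map_one]
    · intro v hv
      have hVp : IsPGroup p (pCore p (G ⧸ pPrimeCore p G)) := pCore_isPGroup p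
      have hVn : (pCore p (G ⧸ pPrimeCore p G)).Normal :=
        Cfsg.Agent.Lib.Helper76_PSolvable.pCore_normal p
      have hle : pCore p (G ⧸ pPrimeCore p G) ≤ (P.mapSurjective hπs : Sylow p _) :=
        hVp.le_sylow_of_normal _
      have hv' : v ∈ (P : Subgroup G).map (QuotientGroup.mk' (pPrimeCore p G)) := by
        have := hle hv
        rwa [← Sylow.coe_mapSurjective hπs P]
      obtain ⟨u, hu, rfl⟩ := hv'
      have h1 : u * (g : G) * u⁻¹ ∈ A :=
        (Subgroup.mem_normalizer_iff.1 (hAn hu) (g : G)).1 g.2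
      obtain ⟨k, hk⟩ := Subgroup.mem_zpowers_iff.1 (hgen _ h1)
      rw [← map_inv, ← map_mul, ← map_mul, ← hk, map_zpow]
      exact Subgroup.zpow_mem_zpowers _ k
  intro x hx
  obtain ⟨k, hk⟩ := Subgroup.mem_zpowers_iff.1 (hgen x hx)
  show x ∈ (pCore p (G ⧸ pPrimeCore p G)).comap (QuotientGroup.mk' (pPrimeCore p G))
  rw [Subgroup.mem_comap, ← hk, map_zpow]
  exact Subgroup.zpow_mem _ hmain k

end Cfsg.Agent.S3788
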