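import Cfsg.Statements.S3789
-- import your own Cfsg.Agent.* helpers here
import Cfsg.Agent.Lib.Helper34_HHDerived
import Cfsg.Agent.S0635
-- import your own Cfsg.Agent.* helpers here

set_option autoImplicit false
open Cfsg

namespace Cfsg.Agent.S3789

open Cfsg.Agent.Lib.Helper34_HHDerived Cfsg.Agent.Lib.Helper21_Fitting
  Cfsg.Agent.Lib.Helper76_PSolvable

universe u

/-- induction on the derived length of the Sylow `p`-subgroups -/
theorem main {p : ℕ} [Fact p.Prime] (hp2 : p ≠ 2) (d : ℕ) :
    ∀ (G : Type u) [Group G] [Finite G], Cfsg.IsPSolvable p G →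
      (∀ P : Sylow p G, derivedSeries ↥(P : Subgroup G) d = ⊥) →
      (upperPSeries p G (2 * d + 1)).1 = ⊤ := by
  have hp : p.Prime := Fact.out
  induction d with
  | zero =>
    intro G _ _ _ hd
    have hnd : ¬ p ∣ Nat.card G := by
      intro hdvd
      obtain P : Sylow p G := default
      apply P.ne_bot_of_dvd_card hdvd
      have h1 := hd P
      rw [derivedSeries_zero] at h1
      rw [eq_bot_iff]
      intro x hx
      have h2 : (⟨x, hx⟩ : ↥(P : Subgroup G)) ∈ (⊥ : Subgroup ↥(P : Subgroup G)) := by
        rw [← h1]; exact Subgroup.mem_top _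
      rw [Subgroup.mem_bot] at h2
      rw [Subgroup.mem_bot]
      exact congrArg Subtype.val h2
    have htop : (⊤ : Subgroup G) ≤ pPrimeCore p G := by
      apply Cfsg.Agent.Lib.Helper32_Cores.le_pPrimeCore inferInstance
      rw [Subgroup.card_top]
      exact ((Nat.Prime.coprime_iff_not_dvd hp).mpr hnd).symm
    show (upperPSeries p G 1).1 = ⊤
    rw [Cfsg.Agent.S0635.upperPSeries_one]
    exact top_le_iff.mp htop
  | succ d ih =>
    intro G _ _ hsol hd
    have hUn : ((upperPSeries p G 2).1).Normal := (upperPSeries p G 2).2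
    have hsurj := QuotientGroup.mk'_surjective (upperPSeries p G 2).1
    have hY : ∀ Q : Sylow p (G ⧸ (upperPSeries p G 2).1),
        derivedSeries ↥(Q : Subgroup (G ⧸ (upperPSeries p G 2).1)) d = ⊥ := by
      intro Q
      obtain ⟨P, rfl⟩ := Sylow.mapSurjective_surjective hsurj p Q
      have hKL := dser_le_pPrimePCore hp2 hsol P d (hd P)
      rw [← Cfsg.Agent.S0635.upperPSeries_two] at hKL
      show derivedSeries ↥((P : Subgroup G).map (QuotientGroup.mk' (upperPSeries p G 2).1)) d = ⊥
      rw [← map_derivedSeries_eq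
        ((QuotientGroup.mk' (upperPSeries p G 2).1).subgroupMap_surjective (P : Subgroup G)) d]
      rw [eq_bot_iff]
      rintro _ ⟨x, hx, rfl⟩
      rw [Subgroup.mem_bot]
      apply Subtype.ext
      show QuotientGroup.mk' (upperPSeries p G 2).1 (x : G) = 1
      rw [QuotientGroup.mk'_apply, QuotientGroup.eq_one_iff]
      apply hKL
      rw [← map_derivedSeries_eq_dser]
      exact ⟨x, hx, rfl⟩
    have h1 := ih (G ⧸ (upperPSeries p G 2).1) (isPSolvable_quotient p _ hsol) hY
    have h2 := Cfsg.Agent.S0635.upperPSeries_shift (G := G) p (2 * d + 1)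
    rw [h1, Subgroup.comap_top] at h2
    have : 2 * (d + 1) + 1 = 2 * d + 1 + 2 := by ring
    rw [this]
    exact h2

/-- Let p be an odd prime and G a finite p-soluble group whose Sylow p-subgroups have derived length at most d. Then G has p-length at most d. -/
theorem result {G : Type*} [Group G] [Finite G] {p : ℕ} [Fact p.Prime] (hp : p ≠ 2) (hG : Cfsg.IsPSolvable p G) (d : ℕ) (hd : ∀ P : Sylow p G, derivedSeries ↥(P : Subgroup G) d = ⊥) : Cfsg.PLengthLE p d G :=
  main hp d G hG hd

end Cfsg.Agent.S3789
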