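import Mathlib
import Cfsg.Statements.S3790
import Cfsg.Agent.Lib.Helper52_PLength

set_option autoImplicit false
open Cfsg

namespace Cfsg.Agent.S3790

open Cfsg.Agent.Lib.Helper52_PLength

universe u

theorem card_quotient_subgroupOf {G : Type u} [Group G] (A B : Subgroup G)
    [(A.subgroupOf B).Normal] : Nat.card (↥B ⧸ A.subgroupOf B) = A.relIndex B := by
  rw [Subgroup.relIndex, Subgroup.index_eq_card]

theorem relIndex_dvd_card_of_finite {G : Type u} [Group G] [Finite G] (A B : Subgroup G) :
    A.relIndex B ∣ Nat.card G :=
  (Subgroup.relIndex_dvd_card A B).trans (Subgroup.card_subgroup_dvd_card B)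

theorem main (p : ℕ) [Fact p.Prime] : ∀ (r : ℕ) (G : Type u) [Group G] [Finite G] (q : Fin r → ℕ)
    (_ : ∀ i, (q i).Prime ∧ q i ≠ p)
    (_ : ∀ s : ℕ, s.Prime → s ∣ Nat.card G → s ≠ p → ∃ i, q i = s) (l : Fin r → ℕ)
    (_ : ∀ i, PLengthLE (q i) (l i) G),
    PLengthLE p (Finset.univ.prod fun i => 1 + l i) G := by
  have hp : p.Prime := Fact.out
  intro r
  induction r with
  | zero =>
    intro G _ _ q hq hcover l hl
    have hG : IsPGroup p G := by
      apply IsPGroup.of_card (n := (Nat.card G).primeFactorsList.length)
      apply Nat.eq_prime_pow_of_unique_prime_dvd Nat.card_pos.ne'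
      intro d hd hdvd
      by_contra hne
      obtain ⟨i, -⟩ := hcover d hd hdvd hne
      exact i.elim0
    have := plengthLE_one_of_isPGroup p hG
    simpa using this
  | succ r ih =>
    intro G _ _ q hq hcover l hl
    have hq0 : Fact (q 0).Prime := ⟨(hq 0).1⟩
    set M := Finset.univ.prod fun i : Fin r => 1 + l i.succ with hM
    have key : ∀ n : ℕ, PLengthLE p ((n + 1) / 2 * M) ↥(U (q 0) G n) := by
      intro n
      induction n with
      | zero =>
        have h1 : Nat.card ↥(U (q 0) G 0) = 1 := by
          rw [U_zero]; exact Subgroup.card_bot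
        have : (0 + 1) / 2 * M = 0 := by simp
        rw [this, plengthLE_zero_iff, h1]
        exact Nat.coprime_one_left p
      | succ n ihn =>
        have hAB : U (q 0) G n ≤ U (q 0) G (n + 1) := U_le_succ (q 0) n
        have hnorm : ((U (q 0) G n).subgroupOf (U (q 0) G (n + 1))).Normal :=
          Subgroup.Normal.subgroupOf inferInstance _
        have hA : PLengthLE p ((n + 1) / 2 * M) ↥((U (q 0) G n).subgroupOf (U (q 0) G (n + 1))) :=
          PLengthLE.of_equiv (Subgroup.subgroupOfEquivOfLe hAB).symm ihn
        have hstep := stepNum_U (G := G) (q 0) n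
        have hcardQ := card_quotient_subgroupOf (U (q 0) G n) (U (q 0) G (n + 1))
        by_cases hn : Even n
        · -- a step prime to `q 0`
          rw [stepNum_even hn] at hstep
          have hQ : PLengthLE p M
              (↥(U (q 0) G (n + 1)) ⧸ (U (q 0) G n).subgroupOf (U (q 0) G (n + 1))) := by
            apply ih _ (fun i => q i.succ) (fun i => hq i.succ) ?_ (fun i => l i.succ)
            · intro i
              have : Fact (q i.succ).Prime := ⟨(hq i.succ).1⟩
              exact PLengthLE.quotient _ (PLengthLE.subgroup _ (hl i.succ))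
            · intro s hs hdvd hsp
              rw [hcardQ] at hdvd
              obtain ⟨i, hi⟩ := hcover s hs (hdvd.trans (relIndex_dvd_card_of_finite _ _)) hsp
              rcases Fin.eq_zero_or_eq_succ i with h0 | ⟨j, rfl⟩
              · exfalso
                rw [h0] at hi
                rw [← hi] at hdvd hs
                have := Nat.Coprime.coprime_dvd_left hdvd hstep
                rw [Nat.coprime_self] at this
                exact hs.one_lt.ne' this
              · exact ⟨j, hi⟩
          have := PLengthLE.ext _ hA hQ
          have e : (n + 1) / 2 * M + M = (n + 1 + 1) / 2 * M := by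
            obtain ⟨k, rfl⟩ := hn
            have h1 : (k + k + 1) / 2 = k := by omega
            have h2 : (k + k + 1 + 1) / 2 = k + 1 := by omega
            rw [h1, h2]; ring
          rwa [e] at this
        · -- a `q 0`-step
          rw [stepNum_odd hn] at hstep
          obtain ⟨a, ha⟩ := hstep
          have hQ : PLengthLE p 0
              (↥(U (q 0) G (n + 1)) ⧸ (U (q 0) G n).subgroupOf (U (q 0) G (n + 1))) := by
            rw [plengthLE_zero_iff, hcardQ, ha]
            apply Nat.Coprime.pow_left
            exact (Nat.coprime_primes (hq 0).1 hp).mpr (hq 0).2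
          have := PLengthLE.ext _ hA hQ
          have e : (n + 1) / 2 * M + 0 = (n + 1 + 1) / 2 * M := by
            rw [Nat.not_even_iff_odd] at hn
            obtain ⟨k, rfl⟩ := hn
            have h1 : (2 * k + 1 + 1) / 2 = k + 1 := by omega
            have h2 : (2 * k + 1 + 1 + 1) / 2 = k + 1 := by omega
            rw [h1, h2]; ring
          rwa [e] at this
    have htop : U (q 0) G (2 * l 0 + 1) = ⊤ := hl 0
    have h1 := key (2 * l 0 + 1)
    have h2 : PLengthLE p ((2 * l 0 + 1 + 1) / 2 * M) G := by
      refine PLengthLE.of_surjective (U (q 0) G (2 * l 0 + 1)).subtype ?_ h1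
      intro x
      exact ⟨⟨x, by rw [htop]; exact Subgroup.mem_top x⟩, rfl⟩
    have e : (2 * l 0 + 1 + 1) / 2 = 1 + l 0 := by omega
    rw [e] at h2
    rw [Fin.prod_univ_succ]
    exact h2

/-- Let G be a finite solvable group and p a prime. Suppose p₁, …, p_r are distinct primes, all different from p, that include every prime dividing the order of G other than p, and that G has p_i-length at most l_i for each i. Then G has p-length at most the product of the numbers 1 + l_i. -/
theorem result {G : Type*} [Group G] [Finite G] (hG : Group.IsSolvable G) (p : ℕ) [Fact p.Prime] (r : ℕ) (q : Fin r → ℕ) (hq : ∀ i, (q i).Prime ∧ q i ≠ p) (hinj : Function.Injective q) (hcover : ∀ s : ℕ, s.Prime → s ∣ Nat.card G → s ≠ p → ∃ i, q i = s) (l : Fin r → ℕ) (hl : ∀ i, Cfsg.PLengthLE (q i) (l i) G) : Cfsg.PLengthLE p (Finset.univ.prod fun i => 1 + l i) G := by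
  exact main p r G q hq hcover l hl

end Cfsg.Agent.S3790
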