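import Mathlib
import Cfsg.Statements.S3791
import Cfsg.Agent.Lib.Helper52_PLength

set_option autoImplicit false
open Cfsg

namespace Cfsg.Agent.S3791

open Cfsg.Agent.Lib.Helper52_PLength
open Cfsg.Agent.Lib.Helper1_Cores

universe u

/-- derived length of an extension-like situation -/
theorem derivedSeries_add_le {H : Type u} [Group H] (A : Subgroup H) (a : ℕ)
    (hA : derivedSeries H a ≤ A) (b : ℕ) :
    derivedSeries H (a + b) ≤ (derivedSeries ↥A b).map A.subtype := by
  induction b with
  | zero =>
    rw [add_zero, derivedSeries_zero, ← MonoidHom.range_eq_map, Subgroup.range_subtype]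
    exact hA
  | succ b ih =>
    rw [← add_assoc, derivedSeries_succ, derivedSeries_succ, Subgroup.map_commutator]
    exact Subgroup.commutator_mono ih ih

theorem derivedSeries_add_eq_bot {H : Type u} [Group H] (A : Subgroup H) (a b : ℕ)
    (hA : derivedSeries H a ≤ A) (hb : derivedSeries ↥A b = ⊥) :
    derivedSeries H (a + b) = ⊥ := by
  have := derivedSeries_add_le A a hA b
  rw [hb, Subgroup.map_bot] at this
  exact le_bot_iff.mp this

theorem card_U_one_coprime {G : Type u} [Group G] [Finite G] (p : ℕ) [Fact p.Prime] :
    (Nat.card ↥(U p G 1)).Coprime p := by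
  have h := stepNum_U (G := G) p 0
  rw [U_zero, Subgroup.relIndex_bot_left, stepNum_even Even.zero] at h
  exact h

theorem main (r : ℕ) (q : Fin r → ℕ) (hq : ∀ i, (q i).Prime) (d : Fin r → ℕ) :
    ∀ (n : ℕ) (G : Type u) [Group G] [Finite G] (l : Fin r → ℕ), (∑ j, l j = n) →
    (∀ s : ℕ, s.Prime → s ∣ Nat.card G → ∃ i, q i = s) →
    (∀ i, ∃ S : Sylow (q i) G, derivedSeries ↥(S : Subgroup G) (d i) = ⊥) →
    (∀ i, PLengthLE (q i) (l i) G) →
    derivedSeries G (∑ i, d i * l i) = ⊥ := by
  intro n
  induction n using Nat.strong_induction_on with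
  | _ n ih =>
    intro G _ _ l hln hcover hd hl
    have hfact : ∀ i, Fact (q i).Prime := fun i => ⟨hq i⟩
    -- the derived term lies in every `O_{q_i'}(G)`
    have hle : ∀ i, derivedSeries G (∑ j, d j * l j) ≤ U (q i) G 1 := by
      intro i
      have := hfact i
      rcases Nat.eq_zero_or_eq_succ_pred (l i) with h0 | hk
      · have htop : U (q i) G (2 * l i + 1) = ⊤ := hl i
        rw [h0] at htop
        rw [show (1 : ℕ) = 2 * 0 + 1 by norm_num, htop]
        exact le_top
      · set k := (l i).pred with hkdef
        set l' := Function.update l i k with hl'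
        have hli : l i = k + 1 := hk
        have hsum_l : ∑ j, l j = ∑ j, l' j + 1 := by
          have : ∀ j, l j = l' j + (if j = i then 1 else 0) := by
            intro j
            by_cases hj : j = i
            · subst hj; simp [hl', hli]
            · simp [hl', hj]
          rw [Finset.sum_congr rfl (fun j _ => this j), Finset.sum_add_distrib]
          simp
        have hsum_d : ∑ j, d j * l j = ∑ j, d j * l' j + d i := by
          have : ∀ j, d j * l j = d j * l' j + (if j = i then d i else 0) := by
            intro j
            by_cases hj : j = i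
            · subst hj; simp [hl', hli]; ring
            · simp [hl', hj]
          rw [Finset.sum_congr rfl (fun j _ => this j), Finset.sum_add_distrib]
          simp
        -- the quotient by `O_{q_i', q_i}(G)`
        have hK : derivedSeries (G ⧸ U (q i) G 2) (∑ j, d j * l' j) = ⊥ := by
          apply ih (∑ j, l' j) (by omega) (G ⧸ U (q i) G 2) l' rfl
          · intro s hs hdvd
            apply hcover s hs
            exact hdvd.trans (Subgroup.card_quotient_dvd_card _)
          · intro j
            have := hfact j
            obtain ⟨S, hS⟩ := hd j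
            refine ⟨S.mapSurjective (QuotientGroup.mk'_surjective _), ?_⟩
            rw [Sylow.coe_mapSurjective]
            have hsurj : Function.Surjective
                ((QuotientGroup.mk' (U (q i) G 2)).subgroupMap (S : Subgroup G)) :=
              MonoidHom.subgroupMap_surjective _ _
            rw [← map_derivedSeries_eq hsurj, hS, Subgroup.map_bot]
          · intro j
            have := hfact j
            by_cases hj : j = i
            · subst hj
              have h1 : PLengthLE (q j) (k + 1) G := hli ▸ hl j
              have h2 := PLengthLE.quotient_U_two h1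
              simpa [hl'] using h2
            · have h2 := PLengthLE.quotient (U (q i) G 2) (hl j)
              simpa [hl', hj] using h2
        have hA : derivedSeries G (∑ j, d j * l' j) ≤ U (q i) G 2 := by
          have h1 := map_derivedSeries_le_derivedSeries (QuotientGroup.mk' (U (q i) G 2))
            (∑ j, d j * l' j)
          rw [hK, Subgroup.map_le_iff_le_comap, MonoidHom.comap_bot, QuotientGroup.ker_mk'] at h1
          exact h1
        -- now work in `G ⧸ O_{q_i'}(G)`
        obtain ⟨S, hS⟩ := hd i
        have hsurj1 := QuotientGroup.mk'_surjective (U (q i) G 1)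
        have hSbar : derivedSeries ↥((S.mapSurjective hsurj1 : Sylow (q i) (G ⧸ U (q i) G 1)) :
            Subgroup (G ⧸ U (q i) G 1)) (d i) = ⊥ := by
          rw [Sylow.coe_mapSurjective]
          have hsurj : Function.Surjective
              ((QuotientGroup.mk' (U (q i) G 1)).subgroupMap (S : Subgroup G)) :=
            MonoidHom.subgroupMap_surjective _ _
          rw [← map_derivedSeries_eq hsurj, hS, Subgroup.map_bot]
        have hXbar : derivedSeries (G ⧸ U (q i) G 1) (∑ j, d j * l' j) ≤
            ((S.mapSurjective hsurj1 : Sylow (q i) (G ⧸ U (q i) G 1)) :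
              Subgroup (G ⧸ U (q i) G 1)) := by
          rw [← map_derivedSeries_eq hsurj1]
          refine (Subgroup.map_mono hA).trans ?_
          have h2 : U (q i) G (1 + 1) = _ := U_succ_odd (q i) 1 (by decide)
          rw [show (2 : ℕ) = 1 + 1 by norm_num, h2,
            Subgroup.map_comap_eq_self_of_surjective hsurj1]
          exact pCore_le_sylow (q i) _
        have hbot := derivedSeries_add_eq_bot _ _ (d i) hXbar hSbar
        rw [← hsum_d] at hbot
        have h1 := map_derivedSeries_le_derivedSeries (QuotientGroup.mk' (U (q i) G 1))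
          (∑ j, d j * l j)
        rw [hbot, Subgroup.map_le_iff_le_comap, MonoidHom.comap_bot, QuotientGroup.ker_mk'] at h1
        exact h1
    rw [eq_bot_iff]
    intro x hx
    rw [Subgroup.mem_bot]
    by_contra hx1
    have hord : orderOf x ≠ 1 := fun h => hx1 (orderOf_eq_one_iff.mp h)
    obtain ⟨s, hs, hsdvd⟩ := Nat.exists_prime_and_dvd hord
    obtain ⟨i, hi⟩ := hcover s hs (hsdvd.trans (orderOf_dvd_natCard x))
    have := hfact i
    have hxU : x ∈ U (q i) G 1 := hle i hx
    have h1 : orderOf x ∣ Nat.card ↥(U (q i) G 1) := by
      have := orderOf_dvd_natCard (⟨x, hxU⟩ : ↥(U (q i) G 1))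
      rwa [Subgroup.orderOf_mk] at this
    have h2 := card_U_one_coprime (G := G) (q i)
    have h3 : s ∣ Nat.gcd (Nat.card ↥(U (q i) G 1)) (q i) :=
      Nat.dvd_gcd (hsdvd.trans h1) (hi ▸ dvd_rfl)
    rw [h2] at h3
    exact hs.one_lt.ne' (Nat.dvd_one.mp h3)

/-- The Hall–Higman bound on derived length: let G be a finite solvable group, let p₁, …, p_r be distinct primes that include every prime dividing the order of G, and suppose that for each i the Sylow p_i-subgroups of G have derived length at most d_i and G has p_i-length at most l_i. Then G has derived length at most Σ d_i l_i. -/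
theorem result {G : Type*} [Group G] [Finite G] (hG : Group.IsSolvable G) (r : ℕ) (q : Fin r → ℕ) (hq : ∀ i, (q i).Prime) (hinj : Function.Injective q) (hcover : ∀ s : ℕ, s.Prime → s ∣ Nat.card G → ∃ i, q i = s) (d l : Fin r → ℕ) (hd : ∀ i, ∀ P : Subgroup G, (haveI := Fact.mk (hq i); ∃ S : Sylow (q i) G, (S : Subgroup G) = P) → derivedSeries ↥P (d i) = ⊥) (hl : ∀ i, Cfsg.PLengthLE (q i) (l i) G) : derivedSeries G (Finset.univ.sum fun i => d i * l i) = ⊥ := by
  refine main r q hq d _ G l rfl hcover ?_ hl
  intro i
  have : Fact (q i).Prime := ⟨hq i⟩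
  obtain ⟨S⟩ : Nonempty (Sylow (q i) G) := inferInstance
  exact ⟨S, hd i S ⟨S, rfl⟩⟩

end Cfsg.Agent.S3791
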