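-- Statement S3794: fixed-point-free automorphism with `σ ^ 4 = 1` on a finite solvable group:
-- the derived subgroup is nilpotent (Gorenstein–Herstein).  Proof in Lib/Helper64_Fpf4.
import Mathlib
import Cfsg.Statements.S3794
import Cfsg.Agent.Lib.Helper64_Fpf4

set_option autoImplicit false
open Cfsg

namespace Cfsg.Agent.S3794

/-- Let G be a finite solvable group with an automorphism σ satisfying σ⁴ = 1 and fixing only the identity. Then the derived subgroup G' is nilpotent. -/
theorem result {G : Type*} [Group G] [Finite G] (hG : Group.IsSolvable G) (σ : MulAut G) (hσ : σ ^ 4 = 1) (hfpf : ∀ g : G, σ g = g → g = 1) : Group.IsNilpotent (commutator G) :=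
  Cfsg.Agent.Lib.Helper64_Fpf4.commutator_isNilpotent hG σ hσ hfpf

end Cfsg.Agent.S3794
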