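import Cfsg.Statements.S3798
import Mathlib
import Cfsg.Agent.Lib.Helper1_GaschutzYen
import Cfsg.Agent.Lib.Helper32_Cores
import Cfsg.Agent.S0635

set_option autoImplicit false
open Cfsg

namespace Cfsg.Agent.S3798

/-- The Gaschütz–Yen Theorem: let G be a finite p-soluble group, p an odd prime dividing its order, such that the automorphism group of G permutes the subgroups of G of order p transitively. Then G has p-length at most 1. -/
theorem result {G : Type*} [Group G] [Finite G] {p : ℕ} [Fact p.Prime] (hp : p ≠ 2) (hdvd : p ∣ Nat.card G) (hG : Cfsg.IsPSolvable p G) (htrans : ∀ U V : Subgroup G, Nat.card U = p → Nat.card V = p → ∃ a : MulAut G, U.map a.toMonoidHom = V) : Cfsg.PLengthLE p 1 G := by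
  classical
  have hpp : p.Prime := Fact.out
  show (upperPSeries p G (2 * 1 + 1)).1 = ⊤
  have hXsol : IsPSolvable p (G ⧸ pPrimeCore p G) :=
    Cfsg.Agent.Lib.Helper76_PSolvable.isPSolvable_quotient p _ hG
  have hXcore : pPrimeCore p (G ⧸ pPrimeCore p G) = ⊥ :=
    Cfsg.Agent.Lib.Helper32_Cores.pPrimeCore_quotient_eq_bot (G := G) p
  -- every `p`-element of the quotient lies in its `p`-core
  have claimA : ∀ z : G ⧸ pPrimeCore p G, (∃ k, z ^ p ^ k = 1) →
      z ∈ pCore p (G ⧸ pPrimeCore p G) :=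
    Cfsg.Agent.Lib.Helper1_GaschutzYen.pElement_mem_pCore hp hXsol hXcore
      (Cfsg.Agent.Lib.Helper1_GaschutzYen.htrans_quotient htrans)
  -- the quotient by `O_{p',p}(G)` is a `p'`-group
  have hYexp : ∀ z : G ⧸ (upperPSeries p G 2).1, (∃ k, z ^ p ^ k = 1) → z = 1 := by
    intro z hz
    obtain ⟨g, rfl, hg⟩ :=
      Cfsg.Agent.Lib.Helper64_HHPLength.exists_pelement_lift (upperPSeries p G 2).1 z hz
    have hgX : ∃ k, (QuotientGroup.mk' (pPrimeCore p G) g) ^ p ^ k = 1 := by
      obtain ⟨k, hk⟩ := hg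
      exact ⟨k, by rw [← map_pow, hk, map_one]⟩
    have hC := claimA _ hgX
    have hmem : g ∈ (upperPSeries p G 2).1 := by
      rw [Cfsg.Agent.S0635.upperPSeries_two]
      exact hC
    rw [QuotientGroup.mk'_apply, QuotientGroup.eq_one_iff]
    exact hmem
  have hnd : ¬ p ∣ Nat.card (G ⧸ (upperPSeries p G 2).1) := by
    intro hdvd'
    obtain ⟨g, hg⟩ := exists_prime_orderOf_dvd_card' p hdvd'
    have hgp : g ^ p = 1 := by
      have := pow_orderOf_eq_one g
      rwa [hg] at this
    have h1 := hYexp g ⟨1, by rw [pow_one]; exact hgp⟩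
    rw [h1, orderOf_one] at hg
    exact hpp.one_lt.ne hg
  have htop : (⊤ : Subgroup (G ⧸ (upperPSeries p G 2).1)) ≤
      pPrimeCore p (G ⧸ (upperPSeries p G 2).1) := by
    apply Cfsg.Agent.Lib.Helper32_Cores.le_pPrimeCore inferInstance
    rw [Subgroup.card_top]
    exact ((Nat.Prime.coprime_iff_not_dvd hpp).mpr hnd).symm
  have h1 : (upperPSeries p (G ⧸ (upperPSeries p G 2).1) 1).1 = ⊤ := by
    rw [Cfsg.Agent.S0635.upperPSeries_one]
    exact top_le_iff.mp htop
  have h2 := Cfsg.Agent.S0635.upperPSeries_shift (G := G) p 1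
  rw [h1, Subgroup.comap_top] at h2
  exact h2

end Cfsg.Agent.S3798
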