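import Mathlib
import Cfsg.Statements.S3800
import Cfsg.Agent.Lib.Helper63_PGroup
import Cfsg.Agent.Lib.Helper63_Conj

set_option autoImplicit false
open Cfsg

namespace Cfsg.Agent.S3800

open Cfsg.Agent.Lib.Helper63_PGroup Cfsg.Agent.Lib.Helper63_Conj

variable {G : Type*} [Group G]

theorem inf_eq_bot_of_pgroup_coprime [Finite G] {p : ℕ} [Fact p.Prime] (N P : Subgroup G)
    (hN : (Nat.card N).Coprime p) (hP : IsPGroup p P) : N ⊓ P = ⊥ := by
  apply disjoint_iff.1
  apply Subgroup.disjoint_of_coprime_natCard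
  obtain ⟨k, hk⟩ := IsPGroup.iff_card.1 hP
  rw [hk]
  exact Nat.Coprime.pow_right k hN

/-- the index of a `p`-subgroup `P` in `N ⊔ P` (with `N` a normal `p'`-subgroup) is `|N|` -/
theorem relIndex_sup_eq_card [Finite G] {p : ℕ} [Fact p.Prime] (N P : Subgroup G) [N.Normal]
    (hN : (Nat.card N).Coprime p) (hP : IsPGroup p P) : P.relIndex (N ⊔ P) = Nat.card N := by
  have h1 : N.relIndex (N ⊔ P) = N.relIndex P := Subgroup.relIndex_sup_left _ _
  have h2 : N.relIndex P = Nat.card P := by
    rw [← Subgroup.inf_relIndex_right, inf_eq_bot_of_pgroup_coprime N P hN hP,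
      Subgroup.relIndex_bot_left]
  have h3 := card_mul_relIndex (H := N) (K := N ⊔ P) le_sup_left
  have h4 := card_mul_relIndex (H := P) (K := N ⊔ P) le_sup_right
  rw [h1, h2] at h3
  rw [← h3, mul_comm] at h4
  exact Nat.eq_of_mul_eq_mul_right Nat.card_pos h4

theorem result {G : Type*} [Group G] [Finite G] {p : ℕ} [Fact p.Prime] (N : Subgroup G) [N.Normal] (hN : (Nat.card N).Coprime p) (P : Subgroup G) (hP : IsPGroup p P) : Subgroup.normalizer ((P.map (QuotientGroup.mk' N)) : Set (G ⧸ N)) = (Subgroup.normalizer (P : Set G)).map (QuotientGroup.mk' N) ∧ Subgroup.centralizer ((P.map (QuotientGroup.mk' N)) : Set (G ⧸ N)) = (Subgroup.centralizer (P : Set G)).map (QuotientGroup.mk' N) := by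
  have hp : p.Prime := Fact.out
  -- the normalizer statement
  have hnorm : Subgroup.normalizer ((P.map (QuotientGroup.mk' N)) : Set (G ⧸ N)) =
      (Subgroup.normalizer (P : Set G)).map (QuotientGroup.mk' N) := by
    apply le_antisymm
    · intro x hx
      obtain ⟨g, rfl⟩ := QuotientGroup.mk'_surjective N x
      have h1 := map_conj_eq_of_mem_normalizer hx
      rw [← map_map_conj] at h1
      have h2 := congrArg (Subgroup.comap (QuotientGroup.mk' N)) h1
      rw [QuotientGroup.comap_map_mk', QuotientGroup.comap_map_mk'] at h2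
      -- P^g ≤ N ⊔ P
      have hPg : P.map (MulAut.conj g).toMonoidHom ≤ N ⊔ P := by
        rw [← h2]; exact le_sup_right
      have hPgp : IsPGroup p (P.map (MulAut.conj g).toMonoidHom) := isPGroup_map_conj hP g
      have hi1 : ¬ p ∣ P.relIndex (N ⊔ P) := by
        rw [relIndex_sup_eq_card N P hN hP]
        exact fun h => hp.one_lt.ne' (Nat.eq_one_of_dvd_coprimes hN.symm (dvd_refl p) h)
      have hi2 : ¬ p ∣ (P.map (MulAut.conj g).toMonoidHom).relIndex (N ⊔ P) := by
        rw [← h2, relIndex_sup_eq_card N _ hN hPgp]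
        exact fun h => hp.one_lt.ne' (Nat.eq_one_of_dvd_coprimes hN.symm (dvd_refl p) h)
      obtain ⟨m, hm, hmeq⟩ := exists_mem_map_conj_eq (N ⊔ P) P _ le_sup_right hPg hP hPgp hi1 hi2
      rw [← SetLike.mem_coe, Subgroup.normal_mul] at hm
      obtain ⟨n, hn, u, hu, rfl⟩ := hm
      rw [map_conj_mul, map_conj_eq_of_mem hu] at hmeq
      -- n⁻¹ * g normalizes P
      have hnorm : n⁻¹ * g ∈ Subgroup.normalizer (P : Set G) := by
        apply mem_normalizer_of_map_conj_eq
        rw [map_conj_mul, hmeq, ← map_conj_mul, inv_mul_cancel, map_conj_one]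
      refine ⟨n⁻¹ * g, hnorm, ?_⟩
      rw [map_mul, map_inv]
      have : (QuotientGroup.mk' N) n = 1 := (QuotientGroup.eq_one_iff n).2 hn
      rw [this, inv_one, one_mul]
    · exact Subgroup.le_normalizer_map _
  refine ⟨hnorm, ?_⟩
  apply le_antisymm
  · intro x hx
    have hx' : x ∈ Subgroup.normalizer ((P.map (QuotientGroup.mk' N)) : Set (G ⧸ N)) :=
      Subgroup.centralizer_le_normalizer _ hx
    rw [hnorm] at hx'
    obtain ⟨h, hh, rfl⟩ := hx'
    refine ⟨h, ?_, rfl⟩
    show h ∈ Subgroup.centralizer (P : Set G)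
    have hh : h ∈ Subgroup.normalizer (P : Set G) := hh
    rw [Subgroup.mem_centralizer_iff]
    intro u hu
    have hu' : u ∈ P := hu
    -- commutator lies in N ⊓ P = ⊥
    have hc1 : h * u * h⁻¹ * u⁻¹ ∈ P := by
      have : h * u * h⁻¹ ∈ P := by
        have h3 := map_conj_eq_of_mem_normalizer hh
        rw [← h3, mem_map_conj]
        convert hu' using 1; group
      exact P.mul_mem this (P.inv_mem hu')
    have hc2 : h * u * h⁻¹ * u⁻¹ ∈ N := by
      rw [← QuotientGroup.eq_one_iff]
      have hcomm := (Subgroup.mem_centralizer_iff.1 hx) ((QuotientGroup.mk' N) u)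
        (Subgroup.mem_map_of_mem _ hu')
      have : ((h * u * h⁻¹ * u⁻¹ : G) : G ⧸ N) =
          (QuotientGroup.mk' N) h * (QuotientGroup.mk' N) u * ((QuotientGroup.mk' N) h)⁻¹ *
            ((QuotientGroup.mk' N) u)⁻¹ := by
        simp
      rw [this, ← hcomm]
      group
    have hbot : h * u * h⁻¹ * u⁻¹ ∈ N ⊓ P := ⟨hc2, hc1⟩
    rw [inf_eq_bot_of_pgroup_coprime N P hN hP, Subgroup.mem_bot] at hbot
    have : h * u = u * h := by
      have h5 : h * u * h⁻¹ * u⁻¹ * (u * h) = 1 * (u * h) := by rw [hbot]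
      rw [one_mul] at h5
      rw [← h5]; group
    exact this.symm
  · intro x hx
    obtain ⟨h, hh, rfl⟩ := hx
    rw [Subgroup.mem_centralizer_iff]
    rintro _ ⟨u, hu, rfl⟩
    rw [← map_mul, ← map_mul, (Subgroup.mem_centralizer_iff.1 hh) u hu]

end Cfsg.Agent.S3800
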