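import Mathlib
import Cfsg.Statements.S3802

set_option autoImplicit false
open Cfsg

namespace Cfsg.Agent.S3802

universe u

/-- `A` is a minimal normal subgroup of `G`. -/
def IsMinNormal {G : Type*} [Group G] (A : Subgroup G) : Prop :=
  A.Normal ∧ A ≠ ⊥ ∧ ∀ B : Subgroup G, B.Normal → B ≤ A → B = ⊥ ∨ B = A

/-- Inside a nontrivial normal subgroup of a finite group there is a minimal normal subgroup. -/
theorem exists_minNormal_le {G : Type*} [Group G] [Finite G] (A : Subgroup G) (hA : A.Normal)
    (hA1 : A ≠ ⊥) : ∃ B : Subgroup G, IsMinNormal B ∧ B ≤ A := by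
  obtain ⟨B, hB⟩ := exists_minimal_of_wellFoundedLT
    (fun B : Subgroup G => B.Normal ∧ B ≠ ⊥ ∧ B ≤ A) ⟨A, hA, hA1, le_rfl⟩
  refine ⟨B, ⟨hB.1.1, hB.1.2.1, ?_⟩, hB.1.2.2⟩
  intro C hC hCB
  by_cases hC1 : C = ⊥
  · exact Or.inl hC1
  · right
    exact le_antisymm hCB (hB.2 ⟨hC, hC1, hCB.trans hB.1.2.2⟩ hCB)

/-- Wielandt: a minimal normal subgroup normalizes every subnormal subgroup. -/
theorem minNormal_le_normalizer_aux : ∀ (n : ℕ) (G : Type u) [Group G] [Finite G],
    Nat.card G = n → ∀ (H A : Subgroup G), H.IsSubnormal → IsMinNormal A →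
      A ≤ Subgroup.normalizer (H : Set G) := by
  intro n
  induction n using Nat.strong_induction_on with
  | _ n ih =>
    intro G _ _ hn H A hH hA
    obtain ⟨hAn, hA1, hAmin⟩ := hA
    rcases hH.lt_normal with rfl | ⟨K, hKn, hHK, hKtop⟩
    · rw [Subgroup.normalizer_eq_top]; exact le_top
    · by_cases hAK : A ⊓ K = ⊥
      · -- `A` centralizes `K`
        intro a ha
        rw [Subgroup.mem_normalizer_iff]
        have hcomm : ∀ k ∈ K, a * k * a⁻¹ = k := by
          intro k hk
          have h1 : a * k * a⁻¹ * k⁻¹ ∈ A ⊓ K := by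
            constructor
            · have : k * a⁻¹ * k⁻¹ ∈ A := hAn.conj_mem _ (A.inv_mem ha) k
              have h2 := A.mul_mem ha this
              have e : a * k * a⁻¹ * k⁻¹ = a * (k * a⁻¹ * k⁻¹) := by group
              rw [e]; exact h2
            · have : a * k * a⁻¹ ∈ K := hKn.conj_mem _ hk a
              exact K.mul_mem this (K.inv_mem hk)
          rw [hAK, Subgroup.mem_bot] at h1
          have e : a * k * a⁻¹ = a * k * a⁻¹ * k⁻¹ * k := by group
          rw [e, h1, one_mul]
        intro h
        constructor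
        · intro hh
          rw [hcomm h (hHK hh)]; exact hh
        · intro hh
          have hk : h ∈ K := by
            have : a⁻¹ * (a * h * a⁻¹) * a⁻¹⁻¹ ∈ K := hKn.conj_mem _ (hHK hh) a⁻¹
            have e : a⁻¹ * (a * h * a⁻¹) * a⁻¹⁻¹ = h := by group
            rw [e] at this; exact this
          rw [hcomm h hk] at hh; exact hh
      · -- `A ≤ K`
        have hAleK : A ≤ K := by
          have hn' : (A ⊓ K).Normal := inferInstance
          rcases hAmin (A ⊓ K) hn' inf_le_left with h | h
          · exact absurd h hAK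
          · rw [← h]; exact inf_le_right
        -- minimal normal subgroup of `K` inside `A`
        have hA'n : (A.subgroupOf K).Normal := inferInstance
        have hA'1 : A.subgroupOf K ≠ ⊥ := by
          intro h
          rw [Subgroup.subgroupOf_eq_bot, disjoint_iff] at h
          exact hAK h
        obtain ⟨B', hB', hB'A⟩ := exists_minNormal_le (A.subgroupOf K) hA'n hA'1
        have hcardK : Nat.card K < n := by
          rw [← hn]
          have hne : K ≠ ⊤ := hKtop.ne
          have hlt : Nat.card K < Nat.card G := by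
            have h1 : Nat.card K ≤ Nat.card G := Subgroup.card_le_card_group K
            rcases h1.lt_or_eq with h | h
            · exact h
            · exact absurd (Subgroup.card_eq_iff_eq_top K |>.1 h) hne
          exact hlt
        -- `B'` normalizes `H₁ ⊓ K` for every subnormal `H₁`
        have key : ∀ H₁ : Subgroup G, H₁.IsSubnormal → H₁ ≤ K →
            B'.map K.subtype ≤ Subgroup.normalizer (H₁ : Set G) := by
          intro H₁ hH₁ hH₁K
          have h1 := ih (Nat.card K) hcardK K rfl (H₁.subgroupOf K) B' hH₁.subgroupOf hB'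
          have h2 := Subgroup.map_mono (f := K.subtype) h1
          refine h2.trans ?_
          refine (Subgroup.le_normalizer_map _).trans ?_
          rw [Subgroup.map_subgroupOf_eq_of_le hH₁K]
        set B := B'.map K.subtype with hB
        have hBA : B ≤ A := by
          have := Subgroup.map_mono (f := K.subtype) hB'A
          rwa [Subgroup.map_subgroupOf_eq_of_le hAleK] at this
        have hB1 : B ≠ ⊥ := by
          intro h
          apply hB'.2.1
          rw [hB] at h
          exact (Subgroup.map_eq_bot_iff_of_injective _ (Subgroup.subtype_injective K)).1 h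
        -- the normal closure of `B` is `A`
        have hncl : Subgroup.normalClosure (B : Set G) = A := by
          rcases hAmin (Subgroup.normalClosure (B : Set G)) inferInstance
            (Subgroup.normalClosure_le_normal hBA) with h | h
          · exfalso
            apply hB1
            have : B ≤ Subgroup.normalClosure (B : Set G) := Subgroup.le_normalClosure
            rw [h] at this
            exact le_bot_iff.1 this
          · exact h
        rw [← hncl, Subgroup.normalClosure, Subgroup.closure_le]
        intro x hx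
        rw [Group.mem_conjugatesOfSet_iff] at hx
        obtain ⟨b, hb, hbx⟩ := hx
        rw [isConj_iff] at hbx
        obtain ⟨g, rfl⟩ := hbx
        -- `b` normalizes `g⁻¹ H g`
        have hH₁ : (H.map (MulAut.conj g⁻¹).toMonoidHom).IsSubnormal :=
          hH.map (MulAut.conj g⁻¹).surjective
        have hH₁K : H.map (MulAut.conj g⁻¹).toMonoidHom ≤ K := by
          rintro _ ⟨h, hh, rfl⟩
          exact hKn.conj_mem _ (hHK hh) g⁻¹
        have hbn := key _ hH₁ hH₁K hb
        rw [Subgroup.mem_normalizer_iff] at hbn
        rw [SetLike.mem_coe, Subgroup.mem_normalizer_iff]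
        intro h
        have hmem : ∀ y : G, y ∈ H.map (MulAut.conj g⁻¹).toMonoidHom ↔ g * y * g⁻¹ ∈ H := by
          intro y
          constructor
          · rintro ⟨h, hh, rfl⟩
            simpa [MulAut.conj_apply, mul_assoc] using hh
          · intro hy
            exact ⟨g * y * g⁻¹, hy, by simp [mul_assoc]⟩
        have h1 := hbn (g⁻¹ * h * g)
        rw [hmem, hmem] at h1
        have e1 : g * (g⁻¹ * h * g) * g⁻¹ = h := by group
        have e2 : g * (b * (g⁻¹ * h * g) * b⁻¹) * g⁻¹ = g * b * g⁻¹ * h * (g * b * g⁻¹)⁻¹ := by group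
        rw [e1, e2] at h1
        exact h1

theorem minNormal_le_normalizer {G : Type u} [Group G] [Finite G] (H A : Subgroup G)
    (hH : H.IsSubnormal) (hA : IsMinNormal A) : A ≤ Subgroup.normalizer (H : Set G) :=
  minNormal_le_normalizer_aux _ G rfl H A hH hA

theorem result {G : Type*} [Group G] [Finite G] (M N : Subgroup G) (hM : IsCoatom M) (hN : N.IsSubnormal) (hNM : N ≤ M) :
    N ≤ Subgroup.normalCore M := by
  set C := Subgroup.normalCore M with hC
  have hCM : C ≤ M := Subgroup.normalCore_le M
  -- the quotient is nontrivial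
  have htop : (⊤ : Subgroup (G ⧸ C)) ≠ ⊥ := by
    intro h
    have h1 := congrArg (Subgroup.comap (QuotientGroup.mk' C)) h
    rw [Subgroup.comap_top, MonoidHom.comap_bot, QuotientGroup.ker_mk'] at h1
    apply hM.1
    rw [eq_top_iff, h1]; exact hCM
  obtain ⟨Abar, hAbar, -⟩ := exists_minNormal_le (⊤ : Subgroup (G ⧸ C)) inferInstance htop
  have hnorm := minNormal_le_normalizer (N.map (QuotientGroup.mk' C)) Abar hN.quotient hAbar
  have hAbarn : Abar.Normal := hAbar.1
  set A := Abar.comap (QuotientGroup.mk' C) with hA
  have hAn : A.Normal := inferInstance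
  have hAM : ¬ A ≤ M := by
    intro hle
    have hAC : A ≤ C := Subgroup.normal_le_normalCore.2 hle
    apply hAbar.2.1
    rw [eq_bot_iff]
    intro x hx
    obtain ⟨g, rfl⟩ := QuotientGroup.mk'_surjective C x
    have : g ∈ C := hAC hx
    rw [Subgroup.mem_bot]
    exact (QuotientGroup.eq_one_iff g).2 this
  have hMA : M ⊔ A = ⊤ := by
    apply hM.2
    apply lt_of_le_of_ne le_sup_left
    intro heq
    apply hAM
    rw [heq]; exact le_sup_right
  intro x hx g
  have hg : g ∈ M ⊔ A := by rw [hMA]; trivial
  rw [← SetLike.mem_coe, Subgroup.mul_normal] at hg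
  obtain ⟨m, hm, a, ha, rfl⟩ := hg
  -- `a x a⁻¹ ∈ C ⊔ N ≤ M`
  have ha' : (QuotientGroup.mk' C) a ∈ Abar := ha
  have h1 := hnorm ha'
  rw [Subgroup.mem_normalizer_iff] at h1
  have h2 := (h1 ((QuotientGroup.mk' C) x)).1 (Subgroup.mem_map_of_mem _ hx)
  rw [← map_inv, ← map_mul, ← map_mul, ← Subgroup.mem_comap, QuotientGroup.comap_map_mk'] at h2
  have h3 : a * x * a⁻¹ ∈ M := (sup_le hCM hNM) h2
  have := M.mul_mem (M.mul_mem hm h3) (M.inv_mem hm)
  have e : m * a * x * (m * a)⁻¹ = m * (a * x * a⁻¹) * m⁻¹ := by group
  show m * a * x * (m * a)⁻¹ ∈ M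
  rw [e]; exact this

end Cfsg.Agent.S3802
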