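import Mathlib
import Cfsg.Statements.S3804
import Cfsg.Agent.Lib.Helper63_Count

set_option autoImplicit false
open Cfsg

namespace Cfsg.Agent.S3804

open Cfsg.Agent.Lib.Helper63_Count

/-- abstract real-number core of the measuring argument -/
theorem core (α : ℝ) (hα : 0 < α) (a b i j cA cB cI cJ : ℕ)
    (ha : 0 < a) (hb : 0 < b) (hi : 0 < i) (hj : 0 < j)
    (hcA : 0 < cA) (hcB : 0 < cB) (hcI : 0 < cI) (hcJ : 0 < cJ)
    (h1 : a * b ≤ i * j) (h2 : cA * cB ≤ cJ * cI)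
    (μ : ℝ) (hμA : μ = (a : ℝ) ^ α * cA) (hμB : μ = (b : ℝ) ^ α * cB)
    (hI : (i : ℝ) ^ α * cI ≤ μ) (hJ : (j : ℝ) ^ α * cJ ≤ μ) :
    a * b = i * j ∧ cA * cB = cJ * cI ∧ (i : ℝ) ^ α * cI = μ ∧ (j : ℝ) ^ α * cJ = μ := by
  have ha' : (0 : ℝ) < a := by exact_mod_cast ha
  have hb' : (0 : ℝ) < b := by exact_mod_cast hb
  have hi' : (0 : ℝ) < i := by exact_mod_cast hi
  have hj' : (0 : ℝ) < j := by exact_mod_cast hj
  have hcA' : (0 : ℝ) < cA := by exact_mod_cast hcA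
  have hcB' : (0 : ℝ) < cB := by exact_mod_cast hcB
  have hcI' : (0 : ℝ) < cI := by exact_mod_cast hcI
  have hcJ' : (0 : ℝ) < cJ := by exact_mod_cast hcJ
  have hμpos : 0 < μ := by rw [hμA]; positivity
  have hIpos : 0 < (i : ℝ) ^ α * cI := by positivity
  have hJpos : 0 < (j : ℝ) ^ α * cJ := by positivity
  -- P = μ * μ
  have hP : μ * μ = ((a : ℝ) * b) ^ α * ((cA : ℝ) * cB) := by
    rw [Real.mul_rpow ha'.le hb'.le]
    nth_rewrite 1 [hμA]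
    rw [hμB]; ring
  have hQ : ((i : ℝ) ^ α * cI) * ((j : ℝ) ^ α * cJ) = ((i : ℝ) * j) ^ α * ((cJ : ℝ) * cI) := by
    rw [Real.mul_rpow hi'.le hj'.le]; ring
  have h1' : ((a : ℝ) * b) ≤ (i : ℝ) * j := by exact_mod_cast h1
  have h2' : ((cA : ℝ) * cB) ≤ (cJ : ℝ) * cI := by exact_mod_cast h2
  have hpow : ((a : ℝ) * b) ^ α ≤ ((i : ℝ) * j) ^ α :=
    Real.rpow_le_rpow (by positivity) h1' hα.le
  have hPQ : μ * μ ≤ ((i : ℝ) ^ α * cI) * ((j : ℝ) ^ α * cJ) := by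
    rw [hP, hQ]
    exact mul_le_mul hpow h2' (by positivity) (by positivity)
  have hQP : ((i : ℝ) ^ α * cI) * ((j : ℝ) ^ α * cJ) ≤ μ * μ :=
    mul_le_mul hI hJ hJpos.le hμpos.le
  have hEq : ((i : ℝ) ^ α * cI) * ((j : ℝ) ^ α * cJ) = μ * μ := le_antisymm hQP hPQ
  have hIeq : (i : ℝ) ^ α * cI = μ := by
    by_contra hne
    have hlt : (i : ℝ) ^ α * cI < μ := lt_of_le_of_ne hI hne
    have : ((i : ℝ) ^ α * cI) * ((j : ℝ) ^ α * cJ) < μ * μ :=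
      mul_lt_mul hlt hJ hJpos hμpos.le
    exact this.ne hEq
  have hJeq : (j : ℝ) ^ α * cJ = μ := by
    by_contra hne
    have hlt : (j : ℝ) ^ α * cJ < μ := lt_of_le_of_ne hJ hne
    have : ((i : ℝ) ^ α * cI) * ((j : ℝ) ^ α * cJ) < μ * μ :=
      mul_lt_mul' hI hlt hJpos.le hμpos
    exact this.ne hEq
  have hEq2 : ((a : ℝ) * b) ^ α * ((cA : ℝ) * cB) = ((i : ℝ) * j) ^ α * ((cJ : ℝ) * cI) := by
    rw [← hP, ← hQ, hEq]
  refine ⟨?_, ?_, hIeq, hJeq⟩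
  · by_contra hne
    have hlt : a * b < i * j := lt_of_le_of_ne h1 hne
    have hlt' : ((a : ℝ) * b) < (i : ℝ) * j := by exact_mod_cast hlt
    have hpowlt : ((a : ℝ) * b) ^ α < ((i : ℝ) * j) ^ α :=
      Real.rpow_lt_rpow (by positivity) hlt' hα
    have : ((a : ℝ) * b) ^ α * ((cA : ℝ) * cB) < ((i : ℝ) * j) ^ α * ((cJ : ℝ) * cI) :=
      mul_lt_mul hpowlt h2' (by positivity) (by positivity)
    exact this.ne hEq2
  · by_contra hne
    have hlt : cA * cB < cJ * cI := lt_of_le_of_ne h2 hne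
    have hlt' : ((cA : ℝ) * cB) < (cJ : ℝ) * cI := by exact_mod_cast hlt
    have : ((a : ℝ) * b) ^ α * ((cA : ℝ) * cB) < ((i : ℝ) * j) ^ α * ((cJ : ℝ) * cI) :=
      mul_lt_mul' hpow hlt' (by positivity) (by positivity)
    exact this.ne hEq2

theorem result {X : Type*} [Group X] [Finite X] (G H : Subgroup X) (hGH : G ≤ Subgroup.normalizer (H : Set X)) (α : ℝ) (hα : 0 < α)
    (A B : Subgroup X) (hA : A ≤ G) (hB : B ≤ G) (hA1 : A ≠ ⊥) (hB1 : B ≠ ⊥)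
    (hAmax : ∀ A' : Subgroup X, A' ≤ G → A' ≠ ⊥ → (fun A : Subgroup X => ((Nat.card A : ℝ) ^ α) * (Nat.card ↥(H ⊓ Subgroup.centralizer (A : Set X)) : ℝ)) A' ≤ (fun A : Subgroup X => ((Nat.card A : ℝ) ^ α) * (Nat.card ↥(H ⊓ Subgroup.centralizer (A : Set X)) : ℝ)) A)
    (hBmax : ∀ A' : Subgroup X, A' ≤ G → A' ≠ ⊥ → (fun A : Subgroup X => ((Nat.card A : ℝ) ^ α) * (Nat.card ↥(H ⊓ Subgroup.centralizer (A : Set X)) : ℝ)) A' ≤ (fun A : Subgroup X => ((Nat.card A : ℝ) ^ α) * (Nat.card ↥(H ⊓ Subgroup.centralizer (A : Set X)) : ℝ)) B)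
    (hcase : A ⊓ B ≠ ⊥ ∨ (Nat.card H : ℝ) ≤ (fun A : Subgroup X => ((Nat.card A : ℝ) ^ α) * (Nat.card ↥(H ⊓ Subgroup.centralizer (A : Set X)) : ℝ)) A) :
    (∀ a ∈ A, ∀ b ∈ B, ∃ b' ∈ B, ∃ a' ∈ A, a * b = b' * a') ∧
    (∀ A' : Subgroup X, A' ≤ G → A' ≠ ⊥ → (fun A : Subgroup X => ((Nat.card A : ℝ) ^ α) * (Nat.card ↥(H ⊓ Subgroup.centralizer (A : Set X)) : ℝ)) A' ≤ (fun A : Subgroup X => ((Nat.card A : ℝ) ^ α) * (Nat.card ↥(H ⊓ Subgroup.centralizer (A : Set X)) : ℝ)) (A ⊔ B)) ∧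
    (∀ h ∈ H ⊓ Subgroup.centralizer ((A ⊓ B : Subgroup X) : Set X), ∃ u ∈ H ⊓ Subgroup.centralizer (A : Set X), ∃ v ∈ H ⊓ Subgroup.centralizer (B : Set X), h = u * v) ∧
    (A ⊓ B ≠ ⊥ → ∀ A' : Subgroup X, A' ≤ G → A' ≠ ⊥ → (fun A : Subgroup X => ((Nat.card A : ℝ) ^ α) * (Nat.card ↥(H ⊓ Subgroup.centralizer (A : Set X)) : ℝ)) A' ≤ (fun A : Subgroup X => ((Nat.card A : ℝ) ^ α) * (Nat.card ↥(H ⊓ Subgroup.centralizer (A : Set X)) : ℝ)) (A ⊓ B)) := by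
  beta_reduce at hAmax hBmax hcase ⊢
  -- the relevant subgroups of `H`
  set U := H ⊓ Subgroup.centralizer (A : Set X) with hU
  set V := H ⊓ Subgroup.centralizer (B : Set X) with hV
  set W := H ⊓ Subgroup.centralizer ((A ⊓ B : Subgroup X) : Set X) with hW
  have hUW : U ≤ W := inf_le_inf_left _
    (Subgroup.centralizer_le (by exact_mod_cast (inf_le_left : A ⊓ B ≤ A)))
  have hVW : V ≤ W := inf_le_inf_left _
    (Subgroup.centralizer_le (by exact_mod_cast (inf_le_right : A ⊓ B ≤ B)))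
  have hUV : U ⊓ V = H ⊓ Subgroup.centralizer ((A ⊔ B : Subgroup X) : Set X) := by
    rw [centralizer_sup, hU, hV]
    ext x
    simp only [Subgroup.mem_inf]
    tauto
  have h1 : Nat.card A * Nat.card B ≤ Nat.card (A ⊓ B : Subgroup X) * Nat.card (A ⊔ B : Subgroup X) :=
    card_mul_card_le le_sup_left le_sup_right
  have h2 : Nat.card U * Nat.card V ≤ Nat.card (U ⊓ V : Subgroup X) * Nat.card W :=
    card_mul_card_le hUW hVW
  have hμB : (Nat.card A : ℝ) ^ α * (Nat.card U : ℝ) = (Nat.card B : ℝ) ^ α * (Nat.card V : ℝ) :=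
    le_antisymm (hBmax A hA hA1) (hAmax B hB hB1)
  have hJ : (Nat.card (A ⊔ B : Subgroup X) : ℝ) ^ α * (Nat.card (U ⊓ V : Subgroup X) : ℝ) ≤
      (Nat.card A : ℝ) ^ α * (Nat.card U : ℝ) := by
    rw [hUV]
    exact hAmax (A ⊔ B) (sup_le hA hB) (ne_bot_of_le_ne_bot hA1 le_sup_left)
  have hI : (Nat.card (A ⊓ B : Subgroup X) : ℝ) ^ α * (Nat.card W : ℝ) ≤
      (Nat.card A : ℝ) ^ α * (Nat.card U : ℝ) := by
    by_cases hbot : A ⊓ B = ⊥
    · rcases hcase with h | h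
      · exact absurd hbot h
      · have hWH : W = H := by
          rw [hW, hbot]
          simp only [Subgroup.coe_bot, inf_eq_left]
          intro x _
          rw [Subgroup.mem_centralizer_iff]
          intro y hy
          rw [Set.mem_singleton_iff] at hy
          rw [hy, one_mul, mul_one]
        rw [hWH, hbot]
        simpa using h
    · exact hAmax (A ⊓ B) (inf_le_left.trans hA) hbot
  obtain ⟨e1, e2, e3, e4⟩ := core α hα (Nat.card A) (Nat.card B) (Nat.card (A ⊓ B : Subgroup X))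
    (Nat.card (A ⊔ B : Subgroup X)) (Nat.card U) (Nat.card V) (Nat.card W)
    (Nat.card (U ⊓ V : Subgroup X)) Nat.card_pos Nat.card_pos Nat.card_pos Nat.card_pos
    Nat.card_pos Nat.card_pos Nat.card_pos Nat.card_pos h1 h2 _ rfl hμB hI hJ
  refine ⟨?_, ?_, ?_, ?_⟩
  · intro a ha b hb
    have hmem : (a * b)⁻¹ ∈ A ⊔ B :=
      Subgroup.inv_mem _ (Subgroup.mul_mem _ (Subgroup.mem_sup_left ha) (Subgroup.mem_sup_right hb))
    obtain ⟨u, hu, v, hv, huv⟩ :=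
      exists_mul_of_card_mul_card_eq (U := A) (V := B) le_sup_left le_sup_right e1 _ hmem
    refine ⟨v⁻¹, B.inv_mem hv, u⁻¹, A.inv_mem hu, ?_⟩
    rw [← mul_inv_rev, ← huv, inv_inv]
  · intro A' hA' hA'1
    rw [← hUV, e4]
    exact hAmax A' hA' hA'1
  · intro h hh
    exact exists_mul_of_card_mul_card_eq hUW hVW e2 h hh
  · intro _ A' hA' hA'1
    rw [e3]
    exact hAmax A' hA' hA'1

end Cfsg.Agent.S3804
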