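import Cfsg.Statements.S3806
import Cfsg.Agent.Lib.Helper20_MaxClassExp
import Cfsg.Agent.Lib.Helper4_SectRank
-- import your own Cfsg.Agent.* helpers here

set_option autoImplicit false
open Cfsg

namespace Cfsg.Agent.S3806

open Cfsg.Agent.Lib.Helper20_MaxClassExp Cfsg.Agent.Lib.Helper4_SectRank
open scoped commutatorElement

/-- Let p be a prime and S a finite p-group of order pⁿ (n ≥ 2) of maximal nilpotency class n − 1 whose sectional p-rank is exactly k (every section has p-rank at most k, and some section has p-rank k). If p ≥ k + 2 then the order of S is at most p^(2k). -/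
theorem result {S : Type*} [Group S] [Finite S] (p : ℕ) [Fact p.Prime] (hS : IsPGroup p S) [Group.IsNilpotent S]
    (n : ℕ) (hn : 2 ≤ n) (hcard : Nat.card S = p ^ n) (hmax : Group.nilpotencyClass S = n - 1)
    (k : ℕ) (hk : 1 ≤ k) (hsr : Cfsg.SectionalPRankLE p k S ∧ ¬ Cfsg.SectionalPRankLE p (k - 1) S)
    (hpk : k + 2 ≤ p) : Nat.card S ≤ p ^ (2 * k) := by
  by_contra hlt
  push Not at hlt
  have hpp : p.Prime := Fact.out
  rw [hcard] at hlt
  have hnk : 2 * k + 1 ≤ n := by
    have := (Nat.pow_lt_pow_iff_right hpp.one_lt).mp hlt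
    omega
  have hn3 : 3 ≤ n := by omega
  have hMC : MC p n S := MC.of_class hcard hmax hn3
  rcases Nat.lt_or_ge k 2 with hk1 | hk2
  · -- `k = 1`: the abelianization has rank two
    have hsec : IsEASection p (⊤ : Subgroup S) (lc S 1) := by
      refine ⟨le_top, ?_, ?_, ?_⟩
      · intro h _ m hm
        exact (lc_normal 1).conj_mem m hm h
      · intro a _ b _
        have : a * b * a⁻¹ * b⁻¹ = ⁅a, b⁆ := by rw [commutatorElement_def]
        rw [this]
        exact Subgroup.commutator_mem_commutator (Subgroup.mem_top a) (Subgroup.mem_top b)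
      · intro a _
        exact hMC.pow_mem_lc_one a
    have h1 := card_le_of_section hsr.1 hsec
    rw [Subgroup.card_top, hcard, hMC.card_lc_one] at h1
    have hk' : k = 1 := by omega
    rw [hk', ← pow_add] at h1
    have := (Nat.pow_le_pow_iff_right hpp.one_lt).mp h1
    omega
  · -- `k ≥ 2`
    have hQ : MC p (2 * k + 1) (S ⧸ lc S (2 * k)) := hMC.quotient (c := 2 * k) (by omega) (by omega)
    have hmem : ∀ a ∈ lc S (k - 1),
        (QuotientGroup.mk' (lc S (2 * k)) a) ∈ lc (S ⧸ lc S (2 * k)) (k - 1) := by
      intro a ha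
      rw [lc_quotient]
      exact Subgroup.mem_map_of_mem _ ha
    have hsec : IsEASection p (lc S (k - 1)) (lc S (2 * k)) := by
      refine ⟨lc_anti (by omega), ?_, ?_, ?_⟩
      · intro h _ m hm
        exact (lc_normal (2 * k)).conj_mem m hm h
      · intro a ha b hb
        have hc := hQ.commute_of_mem hk2 (hmem a ha) (hmem b hb)
        rw [← QuotientGroup.ker_mk' (lc S (2 * k)), MonoidHom.mem_ker]
        simp only [map_mul, map_inv]
        rw [hc.eq]
        group
      · intro a ha
        have hc := hQ.pow_eq_one_of_mem hk2 hpk (hmem a ha)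
        rw [← QuotientGroup.ker_mk' (lc S (2 * k)), MonoidHom.mem_ker, map_pow]
        exact hc
    have h1 := card_le_of_section hsr.1 hsec
    rw [hMC.card_lc (k - 1) (by omega) (by omega), hMC.card_lc (2 * k) (by omega) (by omega),
      ← pow_add] at h1
    have := (Nat.pow_le_pow_iff_right hpp.one_lt).mp h1
    omega

end Cfsg.Agent.S3806
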