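import Mathlib
import Cfsg.Statements.S3807
import Cfsg.Agent.Lib.Helper63_PGroup2

set_option autoImplicit false
open Cfsg

namespace Cfsg.Agent.S3807

open Cfsg.Agent.Lib.Helper63_PGroup Cfsg.Agent.Lib.Helper63_PGroup2
open scoped commutatorElement

variable {S : Type*} [Group S]

/-- if `⊤` is abelian as a subgroup then the centre is everything -/
theorem center_eq_top_of_top_comm (h : IsMulCommutative (⊤ : Subgroup S)) :
    Subgroup.center S = ⊤ := by
  rw [← Subgroup.le_centralizer_iff_isMulCommutative, Subgroup.coe_top,
    Subgroup.centralizer_univ] at h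
  exact eq_top_iff.2 h

/-- two subgroups of the same finite nonzero index, one inside the other, are equal -/
theorem eq_of_le_of_index_eq {H K : Subgroup S} (hle : H ≤ K) (hidx : H.index = K.index)
    (h0 : K.index ≠ 0) : H = K := by
  have h1 := Subgroup.relIndex_mul_index hle
  rw [hidx] at h1
  have h2 : H.relIndex K = 1 := by
    have : H.relIndex K * K.index = 1 * K.index := by rw [h1, one_mul]
    exact Nat.eq_of_mul_eq_mul_right (Nat.pos_of_ne_zero h0) this
  exact le_antisymm hle (Subgroup.relIndex_eq_one.1 h2)

/-- an abelian subgroup of prime index contains the centre of a nonabelian group -/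
theorem center_le_of_abelian_index_prime (hZtop : Subgroup.center S ≠ ⊤) (B : Subgroup S)
    (hB : IsMulCommutative B) (hBi : B.index.Prime) : Subgroup.center S ≤ B := by
  have hcoatom : IsCoatom B := isCoatom_of_index_prime B hBi
  by_contra hle
  obtain ⟨z, hz, hzB⟩ := SetLike.not_le_iff_exists.1 hle
  have hgen' : B ⊔ Subgroup.zpowers z = ⊤ := by
    apply hcoatom.2
    apply lt_of_le_of_ne le_sup_left
    intro heq
    apply hzB
    rw [heq]
    exact Subgroup.mem_sup_right (Subgroup.mem_zpowers z)
  have hcomm := isMulCommutative_sup_zpowers B z (fun d _ => (Subgroup.mem_center_iff.1 hz d))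
  rw [hgen'] at hcomm
  exact hZtop (center_eq_top_of_top_comm hcomm)

/-- if `|S : Z(S)| = p ^ 2` then `Z ⊔ ⟨y⟩` has index `p` for every noncentral `y` -/
theorem index_center_sup_zpowers [Finite S] {p : ℕ} (hp : p.Prime)
    (hZtop : Subgroup.center S ≠ ⊤) (hZidx : (Subgroup.center S).index = p ^ 2) (y : S)
    (hy : y ∉ Subgroup.center S) : (Subgroup.center S ⊔ Subgroup.zpowers y).index = p := by
  set M := Subgroup.center S ⊔ Subgroup.zpowers y with hM
  have hcomm : IsMulCommutative M := isMulCommutative_sup_zpowers (Subgroup.center S) y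
      (fun d hd => (Subgroup.mem_center_iff.1 hd y).symm)
  have hMtop : M ≠ ⊤ := by
    intro h
    rw [h] at hcomm
    exact hZtop (center_eq_top_of_top_comm hcomm)
  have h1 := Subgroup.relIndex_mul_index (le_sup_left : Subgroup.center S ≤ M)
  rw [hZidx] at h1
  have hdvd : M.index ∣ p ^ 2 := ⟨_, by rw [← h1, mul_comm]⟩
  obtain ⟨k, hk2, hk⟩ := (Nat.dvd_prime_pow hp).1 hdvd
  have hk0 : k ≠ 0 := by
    rintro rfl
    rw [pow_zero] at hk
    exact hMtop (Subgroup.index_eq_one.1 hk)
  have hk2' : k ≠ 2 := by
    rintro rfl
    rw [hk] at h1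
    have hpos : 0 < p ^ 2 := Nat.pow_pos hp.pos
    have : (Subgroup.center S).relIndex M = 1 := by
      have : (Subgroup.center S).relIndex M * p ^ 2 = 1 * p ^ 2 := by rw [h1, one_mul]
      exact Nat.eq_of_mul_eq_mul_right hpos this
    have hle := Subgroup.relIndex_eq_one.1 this
    apply hy
    apply hle
    exact Subgroup.mem_sup_right (Subgroup.mem_zpowers y)
  have : k = 1 := by omega
  rw [hk, this, pow_one]

/-- the number of abelian subgroups of index `p` when `|S : Z(S)| = p ^ 2` -/
theorem card_abelian_index_p [Finite S] {p : ℕ} (hp : p.Prime)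
    (hZtop : Subgroup.center S ≠ ⊤) (hZidx : (Subgroup.center S).index = p ^ 2) :
    Nat.card {B : Subgroup S // IsMulCommutative ↥B ∧ B.index = p} = p + 1 := by
  classical
  haveI : Fintype S := Fintype.ofFinite S
  haveI : Fintype (Subgroup S) := Fintype.ofFinite _
  set Z := Subgroup.center S with hZ
  let f : S → Subgroup S := fun y => Z ⊔ Subgroup.zpowers y
  let s : Finset S := Finset.univ.filter (fun y => y ∉ Z)
  let t : Finset (Subgroup S) := Finset.univ.filter (fun B => IsMulCommutative ↥B ∧ B.index = p)
  have hmaps : (s : Set S).MapsTo f t := by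
    intro y hy
    simp only [s, Finset.coe_filter, Finset.mem_univ, true_and, Set.mem_setOf_eq] at hy
    simp only [t, Finset.coe_filter, Finset.mem_univ, true_and, Set.mem_setOf_eq]
    refine ⟨isMulCommutative_sup_zpowers Z y (fun d hd => (Subgroup.mem_center_iff.1 hd y).symm),
      index_center_sup_zpowers hp hZtop hZidx y hy⟩
  have hcount := Finset.card_eq_sum_card_fiberwise hmaps
  -- cardinalities
  have hcardS : Nat.card S = p ^ 2 * Nat.card Z := by
    rw [← hZidx, mul_comm, Subgroup.card_mul_index]
  have hs : s.card = (p ^ 2 - 1) * Nat.card Z := by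
    have h1 : s = Finset.univ \ Finset.univ.filter (fun y => y ∈ Z) := by
      ext y; simp [s]
    rw [h1, Finset.card_sdiff_of_subset (Finset.filter_subset _ _), Finset.card_univ,
      ← Nat.card_eq_fintype_card, hcardS]
    have h2 : (Finset.univ.filter (fun y => y ∈ Z)).card = Nat.card Z := by
      rw [Nat.card_eq_fintype_card, Fintype.card_subtype]
    rw [h2, Nat.sub_mul, one_mul]
  have hfib : ∀ B ∈ t, (s.filter (fun a => f a = B)).card = (p - 1) * Nat.card Z := by
    intro B hB
    simp only [t, Finset.mem_filter, Finset.mem_univ, true_and] at hB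
    obtain ⟨hBc, hBi⟩ := hB
    have hZB : Z ≤ B := center_le_of_abelian_index_prime hZtop B hBc (hBi ▸ hp)
    have hcardB : Nat.card B * p = Nat.card S := by rw [← hBi, Subgroup.card_mul_index]
    have hcardB' : Nat.card B = p * Nat.card Z := by
      have : Nat.card B * p = (p * Nat.card Z) * p := by rw [hcardB, hcardS]; ring
      exact Nat.eq_of_mul_eq_mul_right hp.pos this
    have h1 : s.filter (fun a => f a = B) =
        Finset.univ.filter (fun y => y ∈ B) \ Finset.univ.filter (fun y => y ∈ Z) := by
      ext y
      simp only [s, Finset.mem_filter, Finset.mem_univ, true_and, Finset.mem_sdiff]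
      constructor
      · rintro ⟨hyZ, hfy⟩
        refine ⟨?_, hyZ⟩
        rw [← hfy]
        exact Subgroup.mem_sup_right (Subgroup.mem_zpowers y)
      · rintro ⟨hyB, hyZ⟩
        refine ⟨hyZ, ?_⟩
        apply eq_of_le_of_index_eq
        · exact sup_le hZB (by rw [Subgroup.zpowers_le]; exact hyB)
        · rw [hBi]; exact index_center_sup_zpowers hp hZtop hZidx y hyZ
        · rw [hBi]; exact hp.ne_zero
    have hsub : Finset.univ.filter (fun y => y ∈ Z) ⊆ Finset.univ.filter (fun y => y ∈ B) := by
      intro y hy
      simp only [Finset.mem_filter, Finset.mem_univ, true_and] at hy ⊢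
      exact hZB hy
    have h2 : (Finset.univ.filter (fun y => y ∈ Z)).card = Nat.card Z := by
      rw [Nat.card_eq_fintype_card, Fintype.card_subtype]
    have h3 : (Finset.univ.filter (fun y => y ∈ B)).card = Nat.card B := by
      rw [Nat.card_eq_fintype_card, Fintype.card_subtype]
    rw [h1, Finset.card_sdiff_of_subset hsub, h2, h3, hcardB', Nat.sub_mul, one_mul]
  rw [Finset.sum_congr rfl hfib, Finset.sum_const, smul_eq_mul, hs] at hcount
  have ht : Nat.card {B : Subgroup S // IsMulCommutative ↥B ∧ B.index = p} = t.card := by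
    rw [Nat.card_eq_fintype_card, Fintype.card_subtype]
  rw [ht]
  have hZpos : 0 < Nat.card Z := Nat.card_pos
  have hp1 : 0 < p - 1 := by have := hp.one_lt; omega
  have e : (p ^ 2 - 1) = (p + 1) * (p - 1) := by
    have h1 : 1 ≤ p := hp.pos
    zify [h1, Nat.one_le_pow 2 p hp.pos]
    ring
  rw [e, mul_assoc] at hcount
  exact (Nat.eq_of_mul_eq_mul_right (Nat.mul_pos hp1 hZpos) hcount).symm

theorem result {S : Type*} [Group S] [Finite S] (p : ℕ) [Fact p.Prime] (hS : IsPGroup p S) (hna : ¬ IsMulCommutative S)
    (A : Subgroup S) (hA : IsMulCommutative ↥A) (hAi : A.index = p) :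
    (Subgroup.center S).index = p * Nat.card (commutator S) ∧
      ((Nat.card (commutator S) = p ∧ Cfsg.IsElementaryAbelian p (⊤ : Subgroup (S ⧸ Subgroup.center S)) ∧
          Nat.card (S ⧸ Subgroup.center S) = p ^ 2 ∧
          Nat.card {B : Subgroup S // IsMulCommutative ↥B ∧ B.index = p} = p + 1) ∨
        (p ^ 2 ≤ Nat.card (commutator S) ∧ ∀ B : Subgroup S, IsMulCommutative ↥B → B.index = p → B = A)) := by
  have hp : p.Prime := Fact.out
  have hidx := index_center_eq_of_abelian_index_prime hS hna A hA hAi
  refine ⟨hidx, ?_⟩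
  have hZtop := center_ne_top_of_not_comm hna
  obtain ⟨k, hk⟩ := IsPGroup.iff_card.1 (hS.to_subgroup (commutator S))
  -- the derived subgroup is nontrivial
  have hk0 : k ≠ 0 := by
    rintro rfl
    rw [pow_zero] at hk
    rw [hk, mul_one] at hidx
    -- then `S / Z` is cyclic
    have hcyc : IsCyclic (S ⧸ Subgroup.center S) := by
      apply isCyclic_of_prime_card (p := p)
      rw [← Subgroup.index_eq_card]; exact hidx
    apply hna
    constructor
    constructor
    intro a b
    exact commutative_of_cyclic_center_quotient (QuotientGroup.mk' (Subgroup.center S))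
      (by rw [QuotientGroup.ker_mk']) a b
  by_cases hk1 : k = 1
  · left
    rw [hk1, pow_one] at hk
    rw [hk] at hidx
    have hZidx : (Subgroup.center S).index = p ^ 2 := by rw [hidx, sq]
    have hqcard : Nat.card (S ⧸ Subgroup.center S) = p ^ 2 := by
      rw [← Subgroup.index_eq_card]; exact hZidx
    refine ⟨hk, ⟨?_, ?_⟩, hqcard, card_abelian_index_p hp hZtop hZidx⟩
    · have := IsPGroup.isMulCommutative_of_card_eq_prime_sq hqcard
      constructor
      constructor
      intro a b
      apply Subtype.ext
      exact this.is_comm.comm a.1 b.1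
    · intro a _
      have hord : orderOf a ∣ p ^ 2 := by
        rw [← hqcard]; exact orderOf_dvd_natCard a
      obtain ⟨j, hj2, hj⟩ := (Nat.dvd_prime_pow hp).1 hord
      have hj2' : j ≠ 2 := by
        rintro rfl
        -- then the quotient is cyclic
        have hcyc : IsCyclic (S ⧸ Subgroup.center S) :=
          isCyclic_of_orderOf_eq_card a (by rw [hj, hqcard])
        apply hna
        constructor
        constructor
        intro x y
        exact commutative_of_cyclic_center_quotient (QuotientGroup.mk' (Subgroup.center S))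
          (by rw [QuotientGroup.ker_mk']) x y
      have hj1 : j ≤ 1 := by omega
      have hdvd : orderOf a ∣ p := by
        rw [hj]
        calc p ^ j ∣ p ^ 1 := Nat.pow_dvd_pow p hj1
          _ = p := pow_one p
      exact orderOf_dvd_iff_pow_eq_one.1 hdvd
  · right
    have hk2 : 2 ≤ k := by omega
    have hcomm2 : p ^ 2 ≤ Nat.card (commutator S) := by
      rw [hk]; exact Nat.pow_le_pow_right hp.pos hk2
    refine ⟨hcomm2, ?_⟩
    intro B hB hBi
    by_contra hne
    have hAn : A.Normal := normal_of_index_eq_prime hS A hAi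
    have hcoatomA : IsCoatom A := isCoatom_of_index_prime A (hAi ▸ hp)
    have hBA : ¬ B ≤ A := by
      intro hle
      exact hne (eq_of_le_of_index_eq hle (by rw [hBi, hAi]) (by rw [hAi]; exact hp.ne_zero))
    have htop : B ⊔ A = ⊤ := by
      rw [sup_comm]
      apply hcoatomA.2
      apply lt_of_le_of_ne le_sup_left
      intro heq
      apply hBA
      rw [heq]; exact le_sup_right
    -- `A ⊓ B` is central
    have hcent : A ⊓ B ≤ Subgroup.center S := by
      intro z hz
      rw [Subgroup.mem_center_iff]
      intro g
      have hle : B ⊔ A ≤ Subgroup.centralizer ({z} : Set S) := by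
        apply sup_le
        · intro b hb
          rw [mem_centralizer_singleton]
          exact comm_of_mem hB hz.2 hb
        · intro a ha
          rw [mem_centralizer_singleton]
          exact comm_of_mem hA hz.1 ha
      have hg : g ∈ B ⊔ A := by rw [htop]; trivial
      have := hle hg
      rw [mem_centralizer_singleton] at this
      exact this.symm
    -- index of `A ⊓ B` is `p ^ 2`
    have hrel : A.relIndex B = p := by
      have := Subgroup.relIndex_sup_right B A
      rw [htop, Subgroup.relIndex_top_right, hAi] at this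
      exact this.symm
    have hinfidx : (A ⊓ B).index = p ^ 2 := by
      have h1 := Subgroup.relIndex_mul_index (inf_le_right : A ⊓ B ≤ B)
      rw [Subgroup.inf_relIndex_right, hrel, hBi] at h1
      rw [← h1, sq]
    have h2 := Subgroup.relIndex_mul_index hcent
    rw [hinfidx, hidx] at h2
    -- so `p * |S'|` divides `p ^ 2`
    have h3 : p * Nat.card (commutator S) ∣ p ^ 2 := ⟨_, by rw [← h2, mul_comm]⟩
    have h4 : p * Nat.card (commutator S) ≤ p ^ 2 := Nat.le_of_dvd (Nat.pow_pos hp.pos) h3
    have h5 : p * p ^ 2 ≤ p * Nat.card (commutator S) := Nat.mul_le_mul_left _ hcomm2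
    have h6 : p ^ 2 < p * p ^ 2 := by
      have := hp.one_lt
      have hpos : 0 < p ^ 2 := Nat.pow_pos hp.pos
      nlinarith
    omega

end Cfsg.Agent.S3807
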