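import Mathlib
import Cfsg.Statements.S3808
import Cfsg.Agent.Lib.Helper63_PGroup

set_option autoImplicit false
open Cfsg

namespace Cfsg.Agent.S3808

open Cfsg.Agent.Lib.Helper63_PGroup

theorem result {S : Type*} [Group S] [Finite S] (p : ℕ) [Fact p.Prime] (hS : IsPGroup p S) (Q : Subgroup S) (hQ : Cfsg.IsExtraspecial p ↥Q) (hQi : Q.index = p) :
    Subgroup.center S = (Subgroup.center ↥Q).map Q.subtype ∨
      (Q ⊔ Subgroup.center S = ⊤ ∧ Nat.card (Subgroup.center S) = p ^ 2) := by
  have hp : p.Prime := Fact.out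
  have hQn : Q.Normal := normal_of_index_eq_prime hS Q hQi
  have hZQcard : Nat.card ((Subgroup.center ↥Q).map Q.subtype) = p := by
    rw [Subgroup.card_subtype]
    exact hQ.2
  have hZQn : ((Subgroup.center ↥Q).map Q.subtype).Normal := inferInstance
  have hZQle : (Subgroup.center ↥Q).map Q.subtype ≤ Subgroup.center S :=
    IsPGroup.le_center_of_normal_of_card_eq hS _ hZQcard
  have hinf : Subgroup.center S ⊓ Q ≤ (Subgroup.center ↥Q).map Q.subtype := by
    rintro z ⟨hz, hzQ⟩
    refine ⟨⟨z, hzQ⟩, ?_, rfl⟩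
    show (⟨z, hzQ⟩ : Q) ∈ Subgroup.center ↥Q
    rw [Subgroup.mem_center_iff]
    intro g
    apply Subtype.ext
    exact (Subgroup.mem_center_iff.1 hz) g
  by_cases hle : Subgroup.center S ≤ Q
  · left
    exact le_antisymm (fun z hz => hinf ⟨hz, hle hz⟩) hZQle
  · right
    have hcoatom : IsCoatom Q := isCoatom_of_index_prime Q (hQi ▸ hp)
    have htop : Q ⊔ Subgroup.center S = ⊤ := by
      apply hcoatom.2
      apply lt_of_le_of_ne le_sup_left
      intro heq
      apply hle
      rw [heq]
      exact le_sup_right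
    refine ⟨htop, ?_⟩
    have hinfeq : Q ⊓ Subgroup.center S = (Subgroup.center ↥Q).map Q.subtype := by
      apply le_antisymm
      · rw [inf_comm]; exact hinf
      · apply le_inf _ hZQle
        exact Subgroup.map_subtype_le _
    have h1 : Q.relIndex (Q ⊔ Subgroup.center S) = Q.relIndex (Subgroup.center S) :=
      Subgroup.relIndex_sup_left _ _
    rw [htop, Subgroup.relIndex_top_right, hQi, ← Subgroup.inf_relIndex_right, hinfeq] at h1
    have h2 := card_mul_relIndex (H := (Subgroup.center ↥Q).map Q.subtype) (K := Subgroup.center S) hZQle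
    rw [← h1, hZQcard] at h2
    rw [← h2, sq]

end Cfsg.Agent.S3808
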