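import Mathlib
import Cfsg.Statements.S3809
import Cfsg.Agent.Lib.Helper63_Extraspecial
import Cfsg.Agent.Lib.Helper1_Frattini

set_option autoImplicit false
open Cfsg

namespace Cfsg.Agent.S3809

open Cfsg.Agent.Lib.Helper63_PGroup Cfsg.Agent.Lib.Helper63_PGroup2
  Cfsg.Agent.Lib.Helper63_Extraspecial Cfsg.Agent.Lib.Helper1_Frattini

theorem result {S : Type*} [Group S] [Finite S] (p : ℕ) [Fact p.Prime] (hS : IsPGroup p S) (Q : Subgroup S) (hQ : Cfsg.IsExtraspecial p ↥Q) (hQi : Q.index = p) :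
    (∃ n : ℕ, 1 ≤ n ∧ Nat.card S = p ^ (2 + 2 * n)) ∧ derivedSeries S 3 = ⊥ ∧ ∀ x : S, x ^ (p ^ 3) = 1 := by
  have hp : p.Prime := Fact.out
  have hQn : Q.Normal := normal_of_index_eq_prime hS Q hQi
  have hcoatom : IsCoatom Q := isCoatom_of_index_prime Q (hQi ▸ hp)
  have hQp : IsPGroup p Q := hS.to_subgroup Q
  refine ⟨?_, ?_, ?_⟩
  · obtain ⟨n, hn1, hn⟩ := card_of_extraspecial hQ
    refine ⟨n, hn1, ?_⟩
    rw [← Subgroup.card_mul_index Q, hQi, hn]; ring
  · -- derived length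
    have h1 : derivedSeries S 1 ≤ Q := by
      rw [derivedSeries_one]
      exact (commutator_le_frattini_of_isPGroup hS).trans (frattini_le_coatom hcoatom)
    have hQQ : ⁅Q, Q⁆ = (Subgroup.center ↥Q).map Q.subtype := by
      rw [← hQ.1.2.2, commutator_def, Subgroup.map_commutator, ← MonoidHom.range_eq_map,
        Subgroup.range_subtype]
    have h2 : derivedSeries S 2 ≤ (Subgroup.center ↥Q).map Q.subtype := by
      rw [derivedSeries_succ, ← hQQ]
      exact Subgroup.commutator_mono h1 h1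
    have h3 : derivedSeries S 3 ≤ ⁅(Subgroup.center ↥Q).map Q.subtype,
        (Subgroup.center ↥Q).map Q.subtype⁆ := by
      rw [derivedSeries_succ]
      exact Subgroup.commutator_mono h2 h2
    rw [eq_bot_iff]
    refine h3.trans ?_
    rw [Subgroup.commutator_le]
    rintro _ ⟨a, ha, rfl⟩ _ ⟨b, hb, rfl⟩
    rw [Subgroup.mem_bot, commutatorElement_eq_one_iff_mul_comm]
    have := Subgroup.mem_center_iff.1 ha b
    exact (congrArg Subtype.val this).symm
  · intro x
    -- `x ^ p ∈ Q`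
    have h1 : x ^ p ∈ Q := frattini_le_coatom hcoatom (pow_mem_frattini_of_isPGroup hS x)
    -- `(x ^ p) ^ p ∈ Z(Q)`
    have h2 : (⟨x ^ p, h1⟩ : Q) ^ p ∈ Subgroup.center ↥Q := by
      rw [← hQ.1.2.1]
      exact pow_mem_frattini_of_isPGroup hQp _
    -- elements of `Z(Q)` have order dividing `p`
    have h3 : ((⟨x ^ p, h1⟩ : Q) ^ p) ^ p = 1 := by
      have hz : (⟨(⟨x ^ p, h1⟩ : Q) ^ p, h2⟩ : Subgroup.center ↥Q) ^ p = 1 := by
        have := pow_card_eq_one' (G := Subgroup.center ↥Q) (x := ⟨(⟨x ^ p, h1⟩ : Q) ^ p, h2⟩)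
        rwa [hQ.2] at this
      have := congrArg Subtype.val hz
      simpa using this
    have h4 := congrArg Subtype.val h3
    simp only [Subgroup.coe_pow, Subgroup.coe_one] at h4
    rw [← h4, ← pow_mul, ← pow_mul]
    congr 1
    ring

end Cfsg.Agent.S3809
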