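import Mathlib
import Cfsg.Statements.S3810
import Cfsg.Agent.Lib.Helper63_PGroup2

set_option autoImplicit false
open Cfsg

namespace Cfsg.Agent.S3810

open Cfsg.Agent.Lib.Helper63_PGroup Cfsg.Agent.Lib.Helper63_PGroup2

/-- a subgroup of an abelian subgroup is abelian -/
theorem isMulCommutative_of_le {G : Type*} [Group G] {A B : Subgroup G} (hA : IsMulCommutative A)
    (hBA : B ≤ A) : IsMulCommutative B := by
  constructor
  constructor
  intro a b
  apply Subtype.ext
  exact comm_of_mem hA (hBA a.2) (hBA b.2)

/-- an extraspecial group is not abelian -/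
theorem not_comm_of_extraspecial {Q : Type*} [Group Q] [Finite Q] {p : ℕ} [Fact p.Prime]
    (hQ : Cfsg.IsExtraspecial p Q) : ¬ IsMulCommutative Q := by
  intro hcomm
  have hp : p.Prime := Fact.out
  have h1 : commutator Q = ⊥ := by
    rw [commutator_def, Subgroup.commutator_eq_bot_iff_le_centralizer]
    intro a _
    rw [Subgroup.mem_centralizer_iff]
    intro b _
    exact hcomm.is_comm.comm b a
  have h2 : Nat.card (Subgroup.center Q) = p := hQ.2
  rw [← hQ.1.2.2, h1, Subgroup.card_bot] at h2
  exact hp.one_lt.ne h2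

theorem result {S : Type*} [Group S] [Finite S] (p : ℕ) [Fact p.Prime] (hS : IsPGroup p S) (Q : Subgroup S) (hQ : Cfsg.IsExtraspecial p ↥Q) (hQi : Q.index = p) :
    (∃ A : Subgroup S, IsMulCommutative ↥A ∧ A.index = p) ↔ Nat.card S = p ^ 4 := by
  have hp : p.Prime := Fact.out
  constructor
  · rintro ⟨A, hA, hAi⟩
    have hAn : A.Normal := normal_of_index_eq_prime hS A hAi
    have hcoatom : IsCoatom A := isCoatom_of_index_prime A (hAi ▸ hp)
    have hQna : ¬ IsMulCommutative Q := not_comm_of_extraspecial hQ
    have hQA : ¬ Q ≤ A := fun h => hQna (isMulCommutative_of_le hA h)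
    have htop : Q ⊔ A = ⊤ := by
      rw [sup_comm]
      apply hcoatom.2
      apply lt_of_le_of_ne le_sup_left
      intro heq
      apply hQA
      rw [heq]; exact le_sup_right
    have hrel : A.relIndex Q = p := by
      have := Subgroup.relIndex_sup_right Q A
      rw [htop, Subgroup.relIndex_top_right, hAi] at this
      exact this.symm
    -- the abelian subgroup `A ∩ Q` of index `p` in `Q`
    have hA'comm : IsMulCommutative (A.subgroupOf Q) := by
      constructor
      constructor
      intro a b
      apply Subtype.ext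
      apply Subtype.ext
      exact comm_of_mem hA a.2 b.2
    have hQp : IsPGroup p Q := hS.to_subgroup Q
    have h1 := index_center_eq_of_abelian_index_prime hQp hQna (A.subgroupOf Q) hA'comm hrel
    rw [hQ.1.2.2, hQ.2] at h1
    have h2 := Subgroup.card_mul_index (Subgroup.center Q)
    rw [h1, hQ.2] at h2
    have h3 := Subgroup.card_mul_index Q
    rw [hQi, ← h2] at h3
    rw [← h3]; ring
  · intro hcard
    have h34 : p ^ 3 < Nat.card S := by
      rw [hcard]; exact Nat.pow_lt_pow_right hp.one_lt (by norm_num)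
    obtain ⟨A, hA, hAcard⟩ := exists_abelian_card_gt_sq hS h34
    obtain ⟨k, hk⟩ := IsPGroup.iff_card.1 (hS.to_subgroup A)
    have h3 : p ^ 3 ≤ Nat.card A := by
      rw [hk] at hAcard ⊢
      exact pow_succ_le_of_lt_pow hp hAcard
    obtain ⟨H', hH'A, hH'card⟩ := Sylow.exists_subgroup_le_card_pow_prime_of_le_card hp hS h3
    refine ⟨H', isMulCommutative_of_le hA hH'A, ?_⟩
    have h4 := Subgroup.card_mul_index H'
    rw [hH'card, hcard] at h4
    have hpos : 0 < p ^ 3 := Nat.pow_pos hp.pos
    apply Nat.eq_of_mul_eq_mul_left hpos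
    rw [h4]; ring

end Cfsg.Agent.S3810
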