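import Cfsg.Statements.S3815

set_option autoImplicit false
open Cfsg

namespace Cfsg.Agent.S3815

/-- The submonoid of "good" elements. -/
def goodSubmonoid (G : Type*) [Group G] (p : ℕ) : Submonoid G where
  carrier := {d | (orderOf d).Coprime p ∧ ∀ g : G, (orderOf g).Coprime p → (orderOf (d * g)).Coprime p}
  one_mem' := by
    refine ⟨by simp, fun g hg => by simpa using hg⟩
  mul_mem' := by
    rintro a b ⟨ha, ha'⟩ ⟨hb, hb'⟩
    refine ⟨?_, fun g hg => ?_⟩
    · have := ha' b hb
      exact this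
    · rw [mul_assoc]
      exact ha' _ (hb' g hg)

/-- The subgroup of "good" elements (finite group). -/
def goodSubgroup (G : Type*) [Group G] [Finite G] (p : ℕ) : Subgroup G :=
  { goodSubmonoid G p with
    inv_mem' := by
      intro a ha
      have h1 : a⁻¹ = a ^ (orderOf a - 1) := by
        rw [eq_comm, ← mul_eq_one_iff_eq_inv, ← pow_succ, Nat.sub_add_cancel (orderOf_pos a),
          pow_orderOf_eq_one]
      show a⁻¹ ∈ goodSubmonoid G p
      rw [h1]
      exact pow_mem ha _ }

theorem mem_goodSubgroup {G : Type*} [Group G] [Finite G] {p : ℕ} {d : G} :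
    d ∈ goodSubgroup G p ↔
      (orderOf d).Coprime p ∧ ∀ g : G, (orderOf g).Coprime p → (orderOf (d * g)).Coprime p :=
  Iff.rfl

theorem orderOf_conj' {G : Type*} [Group G] (c x : G) : orderOf (c * x * c⁻¹) = orderOf x := by
  have : c * x * c⁻¹ = MulAut.conj c x := by simp [MulAut.conj_apply]
  rw [this]
  exact orderOf_injective (MulAut.conj c).toMonoidHom (MulAut.conj c).injective x

instance goodSubgroup_normal (G : Type*) [Group G] [Finite G] (p : ℕ) :
    (goodSubgroup G p).Normal := by
  constructor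
  intro d hd c
  rw [mem_goodSubgroup] at hd ⊢
  obtain ⟨hd1, hd2⟩ := hd
  refine ⟨by rw [orderOf_conj']; exact hd1, fun g hg => ?_⟩
  have h2 : c * d * c⁻¹ * g = c * (d * (c⁻¹ * g * c⁻¹⁻¹)) * c⁻¹ := by group
  rw [h2, orderOf_conj']
  apply hd2
  rw [orderOf_conj']
  exact hg

theorem result {G : Type*} [Group G] [Finite G] {p : ℕ} [Fact p.Prime]
    (d : G) (hd : (orderOf d).Coprime p)
    (h : ∀ g : G, (orderOf g).Coprime p → (orderOf (d * g)).Coprime p) :
    d ∈ Cfsg.pPrimeCore p G := by
  have hp : p.Prime := Fact.out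
  have hmem : d ∈ goodSubgroup G p := mem_goodSubgroup.2 ⟨hd, h⟩
  have hcop : (Nat.card (goodSubgroup G p)).Coprime p := by
    rw [Nat.coprime_comm, hp.coprime_iff_not_dvd]
    intro hdvd
    obtain ⟨x, hx⟩ := exists_prime_orderOf_dvd_card' p hdvd
    have hx' : orderOf (x : G) = p := by rw [Subgroup.orderOf_coe]; exact hx
    have := (mem_goodSubgroup.1 x.2).1
    rw [hx'] at this
    exact hp.one_lt.ne' (Nat.coprime_self p |>.1 this)
  have hle : goodSubgroup G p ≤ Cfsg.pPrimeCore p G :=
    le_sSup ⟨goodSubgroup_normal G p, hcop⟩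
  exact hle hmem

end Cfsg.Agent.S3815
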