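import Mathlib
import Cfsg.Statements.S3820

set_option autoImplicit false
open Cfsg

namespace Cfsg.Agent.S3820

variable {G : Type*} [Group G]

theorem mem_map_conj {H : Subgroup G} {g y : G} :
    y ∈ H.map (MulAut.conj g).toMonoidHom ↔ g⁻¹ * y * g ∈ H := by
  constructor
  · rintro ⟨h, hh, rfl⟩
    simpa [MulAut.conj_apply, mul_assoc] using hh
  · intro h
    exact ⟨g⁻¹ * y * g, h, by simp [MulAut.conj_apply, mul_assoc]⟩

theorem map_conj_mul (H : Subgroup G) (a b : G) :
    H.map (MulAut.conj (a * b)).toMonoidHom =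
      (H.map (MulAut.conj b).toMonoidHom).map (MulAut.conj a).toMonoidHom := by
  ext y
  simp only [mem_map_conj]
  constructor <;> intro h <;> convert h using 1 <;> group

theorem map_conj_one (H : Subgroup G) : H.map (MulAut.conj (1 : G)).toMonoidHom = H := by
  ext y
  simp

theorem map_conj_le {K J : Subgroup G} {x : G} (hx : x ∈ J) (hK : K ≤ J) :
    K.map (MulAut.conj x).toMonoidHom ≤ J := by
  intro y hy
  rw [mem_map_conj] at hy
  have := J.mul_mem (J.mul_mem hx (hK hy)) (J.inv_mem hx)
  convert this using 1; group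

theorem mem_normalizer_of_map_conj_eq {S : Subgroup G} {n : G}
    (h : S.map (MulAut.conj n).toMonoidHom = S) : n ∈ Subgroup.normalizer (S : Set G) := by
  rw [Subgroup.mem_normalizer_iff_map_conj_eq]
  exact h

theorem result {G : Type*} [Group G] [Finite G] (S H : Subgroup G) (hSH : S ≤ H)
    (hS : Cfsg.IsPronormal S) :
    Cfsg.IsPronormal H ↔
      ∀ g ∈ Subgroup.normalizer (S : Set G), ∃ w ∈ H ⊔ H.map (MulAut.conj g).toMonoidHom,
        H.map (MulAut.conj g).toMonoidHom = H.map (MulAut.conj w).toMonoidHom := by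
  constructor
  · intro hH g _
    exact hH g
  · intro h g
    obtain ⟨x, hx, hSx⟩ := hS g
    have hxJ : x ∈ H ⊔ H.map (MulAut.conj g).toMonoidHom :=
      (sup_le_sup hSH (Subgroup.map_mono hSH)) hx
    have hn : x⁻¹ * g ∈ Subgroup.normalizer (S : Set G) := by
      apply mem_normalizer_of_map_conj_eq
      rw [map_conj_mul, hSx, ← map_conj_mul, inv_mul_cancel, map_conj_one]
    obtain ⟨w, hw, hHw⟩ := h _ hn
    refine ⟨x * w, ?_, ?_⟩
    · apply Subgroup.mul_mem _ hxJ
      have hle : H ⊔ H.map (MulAut.conj (x⁻¹ * g)).toMonoidHom ≤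
          H ⊔ H.map (MulAut.conj g).toMonoidHom := by
        apply sup_le le_sup_left
        rw [map_conj_mul]
        exact map_conj_le (Subgroup.inv_mem _ hxJ) le_sup_right
      exact hle hw
    · rw [map_conj_mul H x w, ← hHw, ← map_conj_mul, mul_inv_cancel_left]

end Cfsg.Agent.S3820
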