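import Mathlib
import Cfsg.Statements.S3821
import Cfsg.Agent.S3820

set_option autoImplicit false
open Cfsg

namespace Cfsg.Agent.S3821

open Cfsg.Agent.S3820

variable {G : Type*} [Group G]

theorem map_conj_subtype (A : Subgroup G) (K : Subgroup A) (a : A) :
    (K.map (MulAut.conj a).toMonoidHom).map A.subtype =
      (K.map A.subtype).map (MulAut.conj (a : G)).toMonoidHom := by
  rw [Subgroup.map_map, Subgroup.map_map]
  congr 1

theorem map_subgroupOf_conj (A H : Subgroup G) (hHA : H ≤ A) (a : A) :
    ((H.subgroupOf A).map (MulAut.conj a).toMonoidHom).map A.subtype =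
      H.map (MulAut.conj (a : G)).toMonoidHom := by
  rw [map_conj_subtype, Subgroup.map_subgroupOf_eq_of_le hHA]

theorem map_conj_le_normal (A H : Subgroup G) [A.Normal] (hHA : H ≤ A) (g : G) :
    H.map (MulAut.conj g).toMonoidHom ≤ A := by
  intro y hy
  rw [mem_map_conj] at hy
  have := ‹A.Normal›.conj_mem _ (hHA hy) g
  convert this using 1; group

theorem result {G : Type*} [Group G] [Finite G] (A H : Subgroup G) [A.Normal] (hHA : H ≤ A) :
    Cfsg.IsPronormal H ↔ (Cfsg.IsPronormal (H.subgroupOf A) ∧ A ⊔ Subgroup.normalizer (H : Set G) = ⊤) := by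
  constructor
  · intro hH
    refine ⟨?_, ?_⟩
    · intro a
      obtain ⟨x, hx, hHx⟩ := hH (a : G)
      have hxA : x ∈ A := (sup_le hHA (map_conj_le_normal A H hHA _)) hx
      refine ⟨⟨x, hxA⟩, ?_, ?_⟩
      · rw [← Subgroup.mem_map_iff_mem (f := A.subtype) (Subgroup.subtype_injective A),
          Subgroup.map_sup, map_subgroupOf_conj A H hHA, Subgroup.map_subgroupOf_eq_of_le hHA]
        exact hx
      · apply Subgroup.map_injective (Subgroup.subtype_injective A)
        rw [map_subgroupOf_conj A H hHA, map_subgroupOf_conj A H hHA]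
        exact hHx
    · rw [eq_top_iff]
      intro g _
      obtain ⟨x, hx, hHx⟩ := hH g
      have hxA : x ∈ A := (sup_le hHA (map_conj_le_normal A H hHA _)) hx
      have hn : x⁻¹ * g ∈ Subgroup.normalizer (H : Set G) := by
        apply mem_normalizer_of_map_conj_eq
        rw [map_conj_mul, hHx, ← map_conj_mul, inv_mul_cancel, map_conj_one]
      have : g = x * (x⁻¹ * g) := by group
      rw [this]
      exact Subgroup.mul_mem _ (Subgroup.mem_sup_left hxA) (Subgroup.mem_sup_right hn)
  · rintro ⟨hHA', hAN⟩ g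
    have hg : g ∈ A ⊔ Subgroup.normalizer (H : Set G) := by rw [hAN]; trivial
    rw [← SetLike.mem_coe, Subgroup.normal_mul] at hg
    obtain ⟨a, ha, n, hn, rfl⟩ := hg
    have hHn : H.map (MulAut.conj n).toMonoidHom = H := by
      have := (Subgroup.mem_normalizer_iff_map_conj_eq).1 hn
      exact this
    have hHan : H.map (MulAut.conj (a * n)).toMonoidHom = H.map (MulAut.conj a).toMonoidHom := by
      rw [map_conj_mul, hHn]
    obtain ⟨x, hx, hHx⟩ := hHA' ⟨a, ha⟩
    refine ⟨(x : G), ?_, ?_⟩
    · rw [hHan]
      rw [← Subgroup.mem_map_iff_mem (f := A.subtype) (Subgroup.subtype_injective A),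
          Subgroup.map_sup, map_subgroupOf_conj A H hHA, Subgroup.map_subgroupOf_eq_of_le hHA] at hx
      exact hx
    · rw [hHan]
      have := congrArg (Subgroup.map A.subtype) hHx
      rw [map_subgroupOf_conj A H hHA, map_subgroupOf_conj A H hHA] at this
      exact this

end Cfsg.Agent.S3821
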