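import Cfsg.Statements.S3825
import Mathlib

set_option autoImplicit false
open Cfsg

namespace Cfsg.Agent.S3825

/-- A fixed-point-free involutory endomorphism of a finite group inverts every element. -/
lemma fpf_inv {Q : Type*} [Group Q] [Finite Q] (σ : Q →* Q) (h2 : ∀ q, σ (σ q) = q)
    (hfix : ∀ q, σ q = q → q = 1) : ∀ q, σ q = q⁻¹ := by
  have hinj : Function.Injective (fun a : Q => a⁻¹ * σ a) := by
    intro a b hab
    simp only at hab
    have h1 : σ (b * a⁻¹) = b * a⁻¹ := by
      rw [map_mul, map_inv]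
      have h3 : σ a = a * (b⁻¹ * σ b) := by rw [← hab]; group
      rw [h3]; group
    have h4 := hfix _ h1
    exact (mul_inv_eq_one.mp h4).symm
  have hsurj := Finite.surjective_of_injective hinj
  intro q
  obtain ⟨a, rfl⟩ := hsurj q
  simp only [map_mul, map_inv, h2]
  group

lemma comm_of_inv {Q : Type*} [Group Q] (σ : Q →* Q) (hinv : ∀ q, σ q = q⁻¹) (a b : Q) :
    a * b = b * a := by
  have h1 : σ (a * b) = σ a * σ b := map_mul σ a b
  rw [hinv, hinv, hinv] at h1
  have h2 : (a * b)⁻¹⁻¹ = (a⁻¹ * b⁻¹)⁻¹ := by rw [h1]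
  simpa using h2

lemma card_le_two_of_subset_pair {α : Type*} (S : Set α) (a b : α) (h : S ⊆ {a, b}) :
    Nat.card S ≤ 2 := by
  rw [Nat.card_coe_set_eq]
  calc S.ncard ≤ ({a, b} : Set α).ncard := Set.ncard_le_ncard h (Set.toFinite _)
    _ ≤ ({b} : Set α).ncard + 1 := Set.ncard_insert_le a {b}
    _ = 2 := by rw [Set.ncard_singleton]

theorem result {H : Type*} [Group H] [Finite H] (U : Subgroup H) (w : H) (hw : orderOf w = 2)
    (hwU : w ∈ Subgroup.normalizer (U : Set H)) (y : H) (hy : y ≠ 1) (hyU : y ∈ U)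
    (hfix : ∀ u ∈ U, w * u * w⁻¹ = u ↔ (u = 1 ∨ u = y))
    (V : Subgroup H) (hVU : V ≤ U) (hVn : (V.subgroupOf U).Normal) (hVw : ∀ v ∈ V, w * v * w⁻¹ ∈ V)
    (hVe : Cfsg.IsElementaryAbelian 2 V) (hVc : ¬ IsCyclic ↥V) (hyV : y ∈ V) :
    ¬ 2 ∣ V.relIndex U ∧ Nat.card ↥V = 4 ∧ ⁅U, U⁆ ≤ V := by
  classical
  obtain ⟨hVcomm, hVexp⟩ := hVe
  have hVc' : ∀ a ∈ V, ∀ b ∈ V, a * b = b * a := by
    intro a ha b hb
    have := mul_comm' (⟨a, ha⟩ : V) ⟨b, hb⟩
    exact congrArg Subtype.val this
  have hVinv : ∀ a ∈ V, a⁻¹ = a := by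
    intro a ha
    have := hVexp a ha
    rw [pow_two] at this
    exact inv_eq_of_mul_eq_one_left this
  have hw2 : w * w = 1 := by
    have := pow_orderOf_eq_one w
    rwa [hw, pow_two] at this
  have hwinv : w⁻¹ = w := inv_eq_of_mul_eq_one_left hw2
  -- conjugation by w
  have cmul : ∀ a b : H, w * (a * b) * w⁻¹ = (w * a * w⁻¹) * (w * b * w⁻¹) := by
    intro a b; group
  have cinv : ∀ a : H, w * a⁻¹ * w⁻¹ = (w * a * w⁻¹)⁻¹ := by
    intro a; group
  have cc : ∀ a : H, w * (w * a * w⁻¹) * w⁻¹ = a := by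
    intro a
    rw [hwinv]
    calc w * (w * a * w) * w = (w * w) * a * (w * w) := by group
      _ = a := by rw [hw2]; simp
  have cU : ∀ u ∈ U, w * u * w⁻¹ ∈ U := fun u hu => (Subgroup.mem_normalizer_iff.mp hwU u).mp hu
  -- fixed points of conjugation in V
  have hfixV : ∀ v ∈ V, w * v * w⁻¹ = v → v = 1 ∨ v = y := fun v hv h => (hfix v (hVU hv)).mp h
  have hyfix : w * y * w⁻¹ = y := (hfix y hyU).mpr (Or.inr rfl)
  -- the map v ↦ v * σ v lands in {1, y}
  have hfv : ∀ v ∈ V, v * (w * v * w⁻¹) = 1 ∨ v * (w * v * w⁻¹) = y := by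
    intro v hv
    apply hfixV _ (V.mul_mem hv (hVw v hv))
    rw [cmul, cc]
    exact (hVc' _ hv _ (hVw v hv)).symm
  -- Step 1 : card V = 4
  let f : V →* V :=
    { toFun := fun v => ⟨v * (w * v * w⁻¹), V.mul_mem v.2 (hVw v v.2)⟩
      map_one' := by apply Subtype.ext; simp
      map_mul' := by
        intro a b
        apply Subtype.ext
        simp only [Subgroup.coe_mul]
        rw [cmul]
        have := hVc' _ b.2 _ (hVw a a.2)
        calc (a : H) * b * (w * a * w⁻¹ * (w * b * w⁻¹))
            = a * (b * (w * a * w⁻¹)) * (w * b * w⁻¹) := by group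
          _ = a * ((w * a * w⁻¹) * b) * (w * b * w⁻¹) := by rw [this]
          _ = a * (w * a * w⁻¹) * (b * (w * b * w⁻¹)) := by group }
  have hf : ∀ v : V, ((f v : V) : H) = v * (w * v * w⁻¹) := fun v => rfl
  let y' : V := ⟨y, hyV⟩
  have hker : ((f.ker : Subgroup V) : Set V) ⊆ {1, y'} := by
    intro v hv
    have h1 : (v : H) * (w * v * w⁻¹) = 1 := by
      have := (MonoidHom.mem_ker).mp hv
      rw [← hf, this]; rfl
    have h2 : w * v * w⁻¹ = v := by
      have : w * v * w⁻¹ = (v : H)⁻¹ := (inv_eq_of_mul_eq_one_right h1).symm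
      rw [this, hVinv _ v.2]
    rcases hfixV _ v.2 h2 with h | h
    · left; exact Subtype.ext h
    · right; exact Subtype.ext h
  have hrange : ((f.range : Subgroup V) : Set V) ⊆ {1, y'} := by
    rintro _ ⟨v, rfl⟩
    rcases hfv _ v.2 with h | h
    · left; apply Subtype.ext; rw [hf, h]; rfl
    · right; apply Subtype.ext; rw [hf, h]
  have hcardV : Nat.card V = 4 := by
    have h1 : Nat.card f.ker * f.ker.index = Nat.card V := Subgroup.card_mul_index _
    rw [Subgroup.index_ker] at h1
    have h2 : Nat.card f.ker ≤ 2 := card_le_two_of_subset_pair _ _ _ hker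
    have h3 : Nat.card f.range ≤ 2 := card_le_two_of_subset_pair _ _ _ hrange
    have h4 : Nat.card V ≤ 4 := by
      rw [← h1]
      calc Nat.card f.ker * Nat.card f.range ≤ 2 * 2 := Nat.mul_le_mul h2 h3
        _ = 4 := rfl
    have h5 : 0 < Nat.card V := Nat.card_pos
    by_contra hne
    apply hVc
    have h6 : Nat.card V = 1 ∨ Nat.card V = 2 ∨ Nat.card V = 3 := by omega
    rcases h6 with h | h | h
    · have := (Nat.card_eq_one_iff_unique.mp h).1
      exact isCyclic_of_subsingleton
    · have : Fact (Nat.Prime 2) := ⟨Nat.prime_two⟩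
      exact isCyclic_of_prime_card h
    · have : Fact (Nat.Prime 3) := ⟨Nat.prime_three⟩
      exact isCyclic_of_prime_card h
  -- an element of V outside {1, y}
  have hexa : ∃ a ∈ V, a ≠ 1 ∧ a ≠ y := by
    by_contra hcon
    push Not at hcon
    have : (Set.univ : Set V) ⊆ {1, y'} := by
      intro v _
      by_cases h : (v : H) = 1
      · left; exact Subtype.ext h
      · right; exact Subtype.ext (hcon v v.2 h)
    have h2 := card_le_two_of_subset_pair _ _ _ this
    have h3 : Nat.card (Set.univ : Set V) = Nat.card V := Nat.card_congr (Equiv.Set.univ V)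
    rw [h3, hcardV] at h2
    omega
  obtain ⟨a, haV, ha1, hay⟩ := hexa
  have hca : w * a * w⁻¹ = a * y := by
    rcases hfv a haV with h | h
    · exfalso
      have h2 : w * a * w⁻¹ = a := by
        have : w * a * w⁻¹ = a⁻¹ := (inv_eq_of_mul_eq_one_right h).symm
        rw [this, hVinv a haV]
      rcases hfixV a haV h2 with h3 | h3
      · exact ha1 h3
      · exact hay h3
    · have : w * a * w⁻¹ = a⁻¹ * y := by rw [← h]; group
      rw [this, hVinv a haV]
  -- Step 2
  have step2 : ∀ u ∈ U, u⁻¹ * (w * u * w⁻¹) ∈ V → u ∈ V := by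
    intro u hu hv
    set v := u⁻¹ * (w * u * w⁻¹) with hvdef
    have hcu : w * u * w⁻¹ = u * v := by rw [hvdef]; group
    have hvfix : w * v * w⁻¹ = v := by
      have h1 : w * (w * u * w⁻¹) * w⁻¹ = u := cc u
      rw [hcu, cmul, hcu] at h1
      -- u * v * (w v w⁻¹) = u
      have h2 : v * (w * v * w⁻¹) = 1 := by
        have : u * (v * (w * v * w⁻¹)) = u * 1 := by rw [mul_one, ← mul_assoc]; exact h1
        exact mul_left_cancel this
      have : w * v * w⁻¹ = v⁻¹ := (inv_eq_of_mul_eq_one_right h2).symm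
      rw [this, hVinv v hv]
    rcases hfixV v hv hvfix with h | h
    · -- v = 1 : u is fixed
      rw [h, mul_one] at hcu
      rcases (hfix u hu).mp hcu with h' | h'
      · rw [h']; exact V.one_mem
      · rw [h']; exact hyV
    · -- v = y : u * a is fixed
      rw [h] at hcu
      have hua : w * (u * a) * w⁻¹ = u * a := by
        rw [cmul, hcu, hca]
        have hyy : y * y = 1 := by
          have := hVexp y hyV
          rwa [pow_two] at this
        have hya : y * a = a * y := hVc' y hyV a haV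
        calc u * y * (a * y) = u * (y * a) * y := by group
          _ = u * (a * y) * y := by rw [hya]
          _ = u * a * (y * y) := by group
          _ = u * a := by rw [hyy, mul_one]
      have huaU : u * a ∈ U := U.mul_mem hu (hVU haV)
      have huaV : u * a ∈ V := by
        rcases (hfix _ huaU).mp hua with h' | h'
        · rw [h']; exact V.one_mem
        · rw [h']; exact hyV
      have : u = (u * a) * a⁻¹ := by group
      rw [this]
      exact V.mul_mem huaV (V.inv_mem haV)
  -- the quotient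
  let V' : Subgroup U := V.subgroupOf U
  have : V'.Normal := hVn
  let σU : U →* U :=
    { toFun := fun u => ⟨w * u * w⁻¹, cU u u.2⟩
      map_one' := by apply Subtype.ext; simp
      map_mul' := by intro a b; apply Subtype.ext; exact cmul a b }
  have hσU : ∀ u : U, ((σU u : U) : H) = w * u * w⁻¹ := fun u => rfl
  have hV'σ : V' ≤ V'.comap σU := by
    intro u hu
    rw [Subgroup.mem_comap, Subgroup.mem_subgroupOf, hσU]
    exact hVw _ (Subgroup.mem_subgroupOf.mp hu)
  let σbar : (U ⧸ V') →* (U ⧸ V') := QuotientGroup.map V' V' σU hV'σ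
  have hσbar2 : ∀ q, σbar (σbar q) = q := by
    intro q
    induction q using QuotientGroup.induction_on with
    | H u =>
      change ((σU (σU u) : U) : U ⧸ V') = (u : U ⧸ V')
      congr 1
      apply Subtype.ext
      rw [hσU, hσU]
      exact cc u
  have hfixbar : ∀ q, σbar q = q → q = 1 := by
    intro q
    induction q using QuotientGroup.induction_on with
    | H u =>
      intro h
      change ((σU u : U) : U ⧸ V') = (u : U ⧸ V') at h
      rw [eq_comm, QuotientGroup.eq, Subgroup.mem_subgroupOf] at h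
      rw [QuotientGroup.eq_one_iff, Subgroup.mem_subgroupOf]
      apply step2 u u.2
      simpa [hσU] using h
  have hinv := fpf_inv σbar hσbar2 hfixbar
  have hcomm := comm_of_inv σbar hinv
  refine ⟨?_, hcardV, ?_⟩
  · intro h2
    have hidx : V.relIndex U = Nat.card (U ⧸ V') := rfl
    rw [hidx] at h2
    have : Fact (Nat.Prime 2) := ⟨Nat.prime_two⟩
    obtain ⟨q, hq⟩ := exists_prime_orderOf_dvd_card' (G := U ⧸ V') 2 h2
    have hq2 : q * q = 1 := by
      have := pow_orderOf_eq_one q
      rwa [hq, pow_two] at this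
    have hqinv : q⁻¹ = q := inv_eq_of_mul_eq_one_left hq2
    have hq1 : q = 1 := hfixbar q (by rw [hinv, hqinv])
    rw [hq1, orderOf_one] at hq
    omega
  · have hQc : IsMulCommutative (U ⧸ V') := ⟨⟨hcomm⟩⟩
    have hle : commutator U ≤ V' :=
      Subgroup.Normal.quotient_commutative_iff_commutator_le.mp hQc
    rw [← Subgroup.map_subtype_commutator]
    calc (commutator U).map U.subtype ≤ V'.map U.subtype := Subgroup.map_mono hle
      _ = V ⊓ U := Subgroup.subgroupOf_map_subtype V U
      _ ≤ V := inf_le_left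

end Cfsg.Agent.S3825
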