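import Mathlib
import Cfsg.Statements.S3835
import Cfsg.Agent.Lib.Helper46_Qd
import Cfsg.Agent.Lib.Helper5_SLGen
import Cfsg.Agent.S2231

set_option autoImplicit false
open Cfsg

namespace Cfsg.Agent.S3835

open Cfsg.Agent.Lib.Helper46_Qd Cfsg.Agent.S2231

/-! ### `p`-subgroups of `S_n`, `n < p²`, are commutative -/

theorem not_sq_dvd_factorial {p : ℕ} (hp : p.Prime) : ¬ p ^ 2 ∣ p.factorial := by
  intro h
  obtain ⟨q, hq⟩ : ∃ q, p = q + 1 := ⟨p - 1, by have := hp.pos; omega⟩
  rw [hq, Nat.factorial_succ, pow_two] at h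
  have h2 : (q + 1) ∣ q.factorial := (Nat.mul_dvd_mul_iff_left (Nat.succ_pos q)).mp h
  rw [← hq] at h2
  have := (hp.dvd_factorial).mp h2
  omega

theorem perm_comm_of_isPGroup {p n : ℕ} [Fact p.Prime] (hn : n < p ^ 2)
    (P : Subgroup (Equiv.Perm (Fin n))) (hP : IsPGroup p P) (x y : Equiv.Perm (Fin n))
    (hx : x ∈ P) (hy : y ∈ P) : x * y = y * x := by
  classical
  have hp : p.Prime := Fact.out
  refine Equiv.ext fun i => ?_
  -- the orbit of `i`
  let φ : P →* Equiv.Perm (MulAction.orbit P i) := MulAction.toPermHom P (MulAction.orbit P i)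
  have hR : IsPGroup p φ.range := hP.of_surjective φ.rangeRestrict φ.rangeRestrict_surjective
  obtain ⟨j, hj⟩ := hR.exists_card_eq
  obtain ⟨k, hk⟩ := hP.card_orbit i
  have hk' : Fintype.card (MulAction.orbit P i) ≤ n := by
    have := Fintype.card_subtype_le (fun a : Fin n => a ∈ MulAction.orbit P i)
    simpa using this
  have hk1 : k ≤ 1 := by
    by_contra hcon
    push Not at hcon
    have h2 : p ^ 2 ≤ p ^ k := Nat.pow_le_pow_right hp.pos hcon
    rw [← hk] at h2
    rw [Nat.card_eq_fintype_card] at h2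
    omega
  have hcardO : Nat.card (MulAction.orbit P i) ≤ p := by
    rw [hk]
    calc p ^ k ≤ p ^ 1 := Nat.pow_le_pow_right hp.pos hk1
      _ = p := pow_one p
  have hdvd : p ^ j ∣ p.factorial := by
    rw [← hj]
    have h1 : Nat.card φ.range ∣ Nat.card (Equiv.Perm (MulAction.orbit P i)) :=
      Subgroup.card_subgroup_dvd_card _
    rw [Nat.card_perm] at h1
    exact h1.trans (Nat.factorial_dvd_factorial hcardO)
  have hj1 : j ≤ 1 := by
    by_contra hcon
    push Not at hcon
    exact not_sq_dvd_factorial hp ((pow_dvd_pow p hcon).trans hdvd)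
  have hcyc : IsCyclic φ.range := by
    rcases Nat.lt_or_ge j 1 with h0 | h0
    · have : j = 0 := by omega
      rw [this, pow_zero] at hj
      have : Subsingleton φ.range := (Nat.card_eq_one_iff_unique.mp hj).1
      infer_instance
    · have : j = 1 := by omega
      rw [this, pow_one] at hj
      exact isCyclic_of_prime_card hj
  obtain ⟨g, hg⟩ := hcyc.exists_generator
  have hcomm : φ ⟨x, hx⟩ * φ ⟨y, hy⟩ = φ ⟨y, hy⟩ * φ ⟨x, hx⟩ := by
    obtain ⟨a, ha⟩ := Subgroup.mem_zpowers_iff.mp (hg ⟨φ ⟨x, hx⟩, ⟨_, rfl⟩⟩)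
    obtain ⟨b, hb⟩ := Subgroup.mem_zpowers_iff.mp (hg ⟨φ ⟨y, hy⟩, ⟨_, rfl⟩⟩)
    have ha' := congrArg Subtype.val ha
    have hb' := congrArg Subtype.val hb
    simp only [Subgroup.coe_zpow] at ha' hb'
    rw [← ha', ← hb', ← zpow_add, ← zpow_add, add_comm]
  have h1 := congrArg (fun σ => ((σ ⟨i, MulAction.mem_orbit_self i⟩ : MulAction.orbit P i) : Fin n))
    hcomm
  simpa [φ, MulAction.toPermHom_apply, Subgroup.smul_def] using h1

theorem sylAb_alternating {p n : ℕ} [Fact p.Prime] (hn : n < p ^ 2) :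
    SylAb p (alternatingGroup (Fin n)) := by
  intro P x hx y hy
  have hP : IsPGroup p ((P : Subgroup (alternatingGroup (Fin n))).map
      (alternatingGroup (Fin n)).subtype) := P.2.map _
  have h := perm_comm_of_isPGroup hn _ hP (x : Equiv.Perm (Fin n)) (y : Equiv.Perm (Fin n))
    ⟨x, hx, rfl⟩ ⟨y, hy, rfl⟩
  exact Subtype.ext h

/-! ### Homomorphisms from `Qd(p)` to `ℤˣ` are trivial -/

theorem units_eq_one_of_pow {m : ℕ} (hm : Odd m) (u : ℤˣ) (h : u ^ m = 1) : u = 1 := by
  rcases Int.units_eq_one_or u with h1 | h1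
  · exact h1
  · rw [h1, hm.neg_one_pow] at h
    exact absurd h (by decide)

theorem unip_pow {p : ℕ} [Fact p.Prime] (M : Matrix.SpecialLinearGroup (Fin 3) (ZMod p))
    (hN3 : (M.1 - 1) ^ 3 = 0) : M ^ (p ^ 2) = 1 := by
  apply Subtype.ext
  rw [Matrix.SpecialLinearGroup.coe_pow, Matrix.SpecialLinearGroup.coe_one]
  set N : Matrix (Fin 3) (Fin 3) (ZMod p) := M.1 - 1 with hN
  have hMN : M.1 = N + 1 := by rw [hN]; abel
  have hp2 : 3 ≤ p ^ 2 := by
    have := (Fact.out : p.Prime).two_le
    nlinarith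
  rw [hMN, add_pow_char_pow_of_commute p 2 (Commute.one_right N), one_pow]
  have : N ^ (p ^ 2) = 0 := by
    rw [← Nat.sub_add_cancel hp2, pow_add, hN3, mul_zero]
  rw [this, zero_add]

theorem mk_mul_mk {R : Type*} [CommRing R] (g h : Matrix.SpecialLinearGroup (Fin 2) R) (a b : R) :
    mk g a b * mk h 0 0 = mk (g * h) a b := by
  apply Subtype.ext
  apply Subtype.ext
  rw [Subgroup.coe_mul, Matrix.SpecialLinearGroup.coe_mul]
  ext i j
  fin_cases i <;> fin_cases j <;>
    simp [mk, Matrix.mul_apply, Fin.sum_univ_three, Fin.sum_univ_two,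
      Matrix.SpecialLinearGroup.coe_mul]

theorem hom_eq_one_of_unip {p : ℕ} [Fact p.Prime] (hp2 : p ≠ 2) (s : affineSub (ZMod p) →* ℤˣ)
    (x : affineSub (ZMod p))
    (hx : ((x : Matrix.SpecialLinearGroup (Fin 3) (ZMod p)).1 - 1) ^ 3 = 0) : s x = 1 := by
  have hp : p.Prime := Fact.out
  have hodd : Odd (p ^ 2) := (hp.odd_of_ne_two hp2).pow
  apply units_eq_one_of_pow hodd
  rw [← map_pow]
  have : x ^ (p ^ 2) = 1 := by
    apply Subtype.ext
    rw [Subgroup.coe_pow, Subgroup.coe_one]
    exact unip_pow _ hx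
  rw [this, map_one]

theorem hom_trivial {p : ℕ} [Fact p.Prime] (hp2 : p ≠ 2) (s : affineSub (ZMod p) →* ℤˣ)
    (M : affineSub (ZMod p)) : s M = 1 := by
  have key : ∀ A : Matrix.SpecialLinearGroup (Fin 2) (ZMod p), ∀ a b : ZMod p,
      s (mk A a b) = 1 := by
    intro A
    refine Cfsg.Agent.Lib.Helper5_SLGen.transvection_induction
      (fun A => ∀ a b : ZMod p, s (mk A a b) = 1) ?_ ?_ A
    · intro i j hij c a b
      have h1 : s (mk 1 a b) = 1 := by
        apply hom_eq_one_of_unip hp2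
        ext i j
        fin_cases i <;> fin_cases j <;>
          simp [mk, pow_succ, Matrix.mul_apply, Fin.sum_univ_three]
      have h2 : s (mk (Matrix.SpecialLinearGroup.transvection hij c) 0 0) = 1 := by
        apply hom_eq_one_of_unip hp2
        fin_cases i <;> fin_cases j
        · exact absurd rfl hij
        · ext i j
          fin_cases i <;> fin_cases j <;>
            simp [mk, pow_succ, Matrix.mul_apply, Fin.sum_univ_three,
              Matrix.SpecialLinearGroup.transvection_coe]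
        · ext i j
          fin_cases i <;> fin_cases j <;>
            simp [mk, pow_succ, Matrix.mul_apply, Fin.sum_univ_three,
              Matrix.SpecialLinearGroup.transvection_coe]
        · exact absurd rfl hij
      have h3 := mk_mul_mk (1 : Matrix.SpecialLinearGroup (Fin 2) (ZMod p))
        (Matrix.SpecialLinearGroup.transvection hij c) a b
      rw [one_mul] at h3
      rw [← h3, map_mul, h1, h2, one_mul]
    · intro A B hA hB a b
      rw [← mk_mul_mk, map_mul, hA, hB, one_mul]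
  rw [← mk_blockFun_transFun M]
  exact key _ _ _

/-! ### The embedding -/

theorem exists_embedding {p : ℕ} [Fact p.Prime] (hp2 : p ≠ 2) (n : ℕ) (hn : p ^ 2 ≤ n) :
    ∃ H : Subgroup (alternatingGroup (Fin n)), Nonempty (↥H ≃* ↥(Cfsg.qd p)) := by
  classical
  have hcard : Fintype.card (ZMod p × ZMod p) ≤ Fintype.card (Fin n) := by
    rw [Fintype.card_prod, ZMod.card, Fintype.card_fin, ← pow_two]
    exact hn
  obtain ⟨ι⟩ := Function.Embedding.nonempty_of_card_le hcard
  let ψ : affineSub (ZMod p) →* Equiv.Perm (Fin n) :=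
    (Equiv.Perm.viaEmbeddingHom ι).comp affinePermHom
  have hψ : Function.Injective ψ :=
    (Equiv.Perm.viaEmbeddingHom_injective ι).comp affinePermHom_injective
  have hsign : ∀ M, ψ M ∈ alternatingGroup (Fin n) := by
    intro M
    rw [Equiv.Perm.mem_alternatingGroup]
    exact hom_trivial hp2 (Equiv.Perm.sign.comp ψ) M
  let ψ' : affineSub (ZMod p) →* alternatingGroup (Fin n) := ψ.codRestrict _ hsign
  have hψ' : Function.Injective ψ' := by
    intro a b hab
    apply hψ
    exact congrArg Subtype.val hab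
  refine ⟨ψ'.range, ⟨?_⟩⟩
  exact ((MonoidHom.ofInjective hψ').symm).trans (MulEquiv.subgroupCongr (qd_eq p).symm)

/-- Let p be an odd prime and n a natural number. The alternating group of degree n has a subgroup isomorphic to Qd(p) (the natural semidirect product of an elementary abelian group of order p² by SL₂(p)) if and only if n ≥ p²; and if n < p² then Qd(p) is not even involved in it. -/
theorem result {p : ℕ} [Fact p.Prime] (hp : p ≠ 2) (n : ℕ) : ((∃ H : Subgroup (alternatingGroup (Fin n)), Nonempty (↥H ≃* ↥(Cfsg.qd p))) ↔ p ^ 2 ≤ n) ∧ (n < p ^ 2 → ¬ Cfsg.Involves ↥(Cfsg.qd p) ↥(alternatingGroup (Fin n))) := by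
  have part2 : n < p ^ 2 → ¬ Cfsg.Involves ↥(Cfsg.qd p) ↥(alternatingGroup (Fin n)) := by
    intro hn
    rintro ⟨H, R, hnorm, ⟨e⟩⟩
    have h1 : SylAb p (alternatingGroup (Fin n)) := sylAb_alternating hn
    have h2 : SylAb p H := sylAb_subgroup H h1
    have h3 : SylAb p (H ⧸ R.subgroupOf H) :=
      sylAb_of_surjective (QuotientGroup.mk' _) (QuotientGroup.mk'_surjective _) h2
    have h4 : SylAb p (Cfsg.qd p) :=
      sylAb_of_surjective e.toMonoidHom e.surjective h3
    exact not_sylAb_qd h4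
  refine ⟨⟨?_, exists_embedding hp n⟩, part2⟩
  rintro ⟨H, ⟨e⟩⟩
  by_contra hlt
  push Not at hlt
  apply part2 hlt
  have hnorm : ((⊥ : Subgroup (alternatingGroup (Fin n))).subgroupOf H).Normal := by
    rw [Subgroup.bot_subgroupOf]
    infer_instance
  refine ⟨H, ⊥, hnorm, ⟨?_⟩⟩
  have hbot : (⊥ : Subgroup (alternatingGroup (Fin n))).subgroupOf H = ⊥ :=
    Subgroup.bot_subgroupOf H
  exact (QuotientGroup.quotientMulEquivOfEq hbot).trans (QuotientGroup.quotientBot.trans e)

end Cfsg.Agent.S3835
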