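import Cfsg.Statements.S3838
import Cfsg.Agent.S3839
import Cfsg.Agent.Lib.Helper2_Coprime
import Mathlib

set_option autoImplicit false
set_option linter.unusedSectionVars false
open Cfsg

namespace Cfsg.Agent.S3838

open Cfsg.Agent.Lib.Helper35_FrobeniusNPC
open Cfsg.Agent.Lib.Helper33_Conj
open Cfsg.Agent.S3839 (PP frob_sub npc_iff)
open Subgroup
open scoped commutatorElement

variable {G : Type*} [Group G]

/-- `p`-part / `p'`-part exponents of an element -/
theorem exists_pow_parts [Finite G] {p : ℕ} [hp : Fact p.Prime] (x : G) :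
    ∃ a m : ℕ, (p ^ a).Coprime m ∧ (orderOf (x ^ (p ^ a))).Coprime p ∧ (x ^ m) ^ (p ^ a) = 1 := by
  have ho : orderOf x ≠ 0 := (orderOf_pos x).ne'
  obtain ⟨a, m, hm, hkm⟩ := Nat.exists_eq_pow_mul_and_not_dvd ho p hp.out.ne_one
  have hcop : m.Coprime p := ((Nat.Prime.coprime_iff_not_dvd hp.out).mpr hm).symm
  refine ⟨a, m, (Nat.Coprime.pow_left a hcop.symm), ?_, ?_⟩
  · have h1 : orderOf (x ^ (p ^ a)) = m := by
      rw [orderOf_pow, hkm, Nat.gcd_mul_right_left, Nat.mul_div_cancel_left _ (pow_pos hp.out.pos a)]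
    rw [h1]; exact hcop
  · rw [← pow_mul, mul_comm, ← hkm, pow_orderOf_eq_one]

/-- membership from two coprime powers -/
theorem mem_of_coprime_pows {H : Subgroup G} {g : G} {k l : ℕ} (hkl : k.Coprime l)
    (hk : g ^ k ∈ H) (hl : g ^ l ∈ H) : g ∈ H := by
  have h1 := Int.gcd_eq_gcd_ab (k : ℤ) (l : ℤ)
  have h2 : Int.gcd (k : ℤ) (l : ℤ) = 1 := by
    rw [Int.gcd_natCast_natCast]; exact hkl
  rw [h2] at h1
  have h3 : g = (g ^ k) ^ (Int.gcdA k l) * (g ^ l) ^ (Int.gcdB k l) := by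
    rw [← zpow_natCast, ← zpow_natCast, ← zpow_mul, ← zpow_mul, ← zpow_add, ← h1]
    simp
  rw [h3]
  exact H.mul_mem (H.zpow_mem hk _) (H.zpow_mem hl _)

/-- a `p`-element of the normalizer of a Sylow `p`-subgroup lies in it -/
theorem mem_sylow_of_mem_normalizer {p : ℕ} [Fact p.Prime] (P : Sylow p G) {y : G}
    (hy : y ∈ normalizer ((P : Subgroup G) : Set G)) {a : ℕ} (hya : y ^ (p ^ a) = 1) :
    y ∈ (P : Subgroup G) := by
  have h1 : IsPGroup p (zpowers y) := by
    intro ⟨z, hz⟩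
    obtain ⟨k, rfl⟩ := mem_zpowers_iff.mp hz
    refine ⟨a, Subtype.ext ?_⟩
    simp only [SubmonoidClass.mk_pow, OneMemClass.coe_one]
    rw [← zpow_natCast, ← zpow_mul, mul_comm, zpow_mul, zpow_natCast, hya, one_zpow]
  have h2 : zpowers y ≤ normalizer ((P : Subgroup G) : Set G) := (zpowers_le).mpr hy
  have h3 := IsPGroup.to_sup_of_normal_right' h1 P.2 h2
  have h4 := P.is_maximal' h3 le_sup_right
  rw [← h4]
  exact le_sup_left (a := zpowers y) (mem_zpowers y)

section Core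

variable [Finite G] {p : ℕ} [Fact p.Prime] (P : Sylow p G) (Q : Subgroup G) [Q.Normal]
  (hQP : Q ≤ (P : Subgroup G))
  (hcomm : ∀ y ∈ (P : Subgroup G), ∀ z ∈ (P : Subgroup G), y * z * y⁻¹ * z⁻¹ ∈ Q)
  (hc : PP p (normalizer ((P : Subgroup G) : Set G)) (centralizer ((P : Subgroup G) : Set G)))

include hQP hcomm hc

/-- the hypothesis of Burnside's transfer theorem holds in `G ⧸ Q` -/
theorem burnside_hyp :
    normalizer (((P.mapSurjective (QuotientGroup.mk'_surjective Q) : Sylow p (G ⧸ Q)) :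
      Subgroup (G ⧸ Q)) : Set (G ⧸ Q)) ≤
    centralizer (((P.mapSurjective (QuotientGroup.mk'_surjective Q) : Sylow p (G ⧸ Q)) :
      Subgroup (G ⧸ Q)) : Set (G ⧸ Q)) := by
  set π := QuotientGroup.mk' Q with hπ
  have hπ1 : ∀ y : G, π y = 1 ↔ y ∈ Q := fun y => QuotientGroup.eq_one_iff y
  rw [Sylow.coe_mapSurjective]
  intro xb hxb
  obtain ⟨x, rfl⟩ := QuotientGroup.mk'_surjective Q xb
  -- x normalizes P
  have hxN : x ∈ normalizer ((P : Subgroup G) : Set G) := by
    apply Cfsg.Agent.Lib.Helper34_Fusion.mem_normalizer_of_cj_le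
    intro y hy
    rw [mem_cj] at hy
    have h1 : π x * π (x⁻¹ * y * x) * (π x)⁻¹ ∈ (P : Subgroup G).map π :=
      (mem_normalizer_iff.mp hxb _).mp (mem_map_of_mem π hy)
    have h2 : π x * π (x⁻¹ * y * x) * (π x)⁻¹ = π y := by
      rw [← map_inv, ← map_mul, ← map_mul]
      congr 1
      group
    rw [h2] at h1
    obtain ⟨z, hz, hzy⟩ := h1
    have h3 : z⁻¹ * y ∈ Q := by
      rw [← hπ1, map_mul, map_inv, hzy, inv_mul_cancel]
    have : y = z * (z⁻¹ * y) := by group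
    rw [this]
    exact mul_mem hz (hQP h3)
  obtain ⟨a, m, hcop, hpa, hm⟩ := exists_pow_parts (p := p) x
  -- the p'-part centralizes P
  have h1 : π x ^ (p ^ a) ∈ centralizer (((P : Subgroup G).map π : Subgroup (G ⧸ Q)) : Set (G ⧸ Q)) := by
    have h2 : x ^ (p ^ a) ∈ centralizer ((P : Subgroup G) : Set G) :=
      hc _ (pow_mem hxN _) hpa
    rw [mem_centralizer_iff] at h2 ⊢
    rintro _ ⟨y, hy, rfl⟩
    rw [← map_pow, ← map_mul, ← map_mul, h2 y hy]
  -- the p-part lies in P, whose image is abelian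
  have h2 : π x ^ m ∈ centralizer (((P : Subgroup G).map π : Subgroup (G ⧸ Q)) : Set (G ⧸ Q)) := by
    have h3 : x ^ m ∈ (P : Subgroup G) := mem_sylow_of_mem_normalizer P (pow_mem hxN m) hm
    rw [mem_centralizer_iff]
    rintro _ ⟨y, hy, rfl⟩
    have h4 := hcomm y hy (x ^ m) h3
    rw [← hπ1] at h4
    rw [← map_pow, ← map_mul, ← map_mul]
    have e : y * x ^ m = (y * x ^ m * y⁻¹ * (x ^ m)⁻¹) * (x ^ m * y) := by group
    rw [e, map_mul, h4, one_mul]
  exact mem_of_coprime_pows hcop h1 h2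

/-- The core: `Q ⊴ G`, `P' ≤ Q ≤ Φ(P)` (in elementwise form), `p'`-elements of `N(P)`
centralize `P`: then `G` has a normal `p`-complement. -/
theorem core
    (hfrat : ∀ R : Subgroup G, R ≤ (P : Subgroup G) →
      (∀ y ∈ (P : Subgroup G), ∃ q ∈ Q, ∃ r ∈ R, y = q * r) → (P : Subgroup G) ≤ R) :
    Cfsg.HasNormalPComplement p G := by
  set π := QuotientGroup.mk' Q with hπ
  have hπ1 : ∀ y : G, π y = 1 ↔ y ∈ Q := fun y => QuotientGroup.eq_one_iff y
  set Pb : Sylow p (G ⧸ Q) := P.mapSurjective (QuotientGroup.mk'_surjective Q) with hPb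
  have hPbc : (Pb : Subgroup (G ⧸ Q)) = (P : Subgroup G).map π := Sylow.coe_mapSurjective _ _
  have hB := burnside_hyp P Q hQP hcomm hc
  have hK := MonoidHom.ker_transferSylow_isComplement' Pb hB
  set Kb : Subgroup (G ⧸ Q) := (MonoidHom.transferSylow Pb hB).ker with hKb
  set M : Subgroup G := Kb.comap π with hM
  have hMn : M.Normal := Subgroup.Normal.comap (MonoidHom.normal_ker _) π
  have hQM : Q ≤ M := by
    intro q hq
    rw [hM, mem_comap, (hπ1 q).mpr hq]
    exact one_mem _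
  have hMP : M ⊓ (P : Subgroup G) ≤ Q := by
    intro x hx
    rw [← hπ1]
    have h1 : π x ∈ Kb ⊓ (Pb : Subgroup (G ⧸ Q)) := by
      refine ⟨hx.1, ?_⟩
      rw [hPbc]
      exact mem_map_of_mem π hx.2
    rw [hK.disjoint.eq_bot] at h1
    exact h1
  have hsup : ∀ t : G, ∃ m ∈ M, ∃ y ∈ (P : Subgroup G), t = m * y := by
    intro t
    have h1 : π t ∈ Kb ⊔ (Pb : Subgroup (G ⧸ Q)) := by
      rw [hK.sup_eq_top]; exact mem_top _
    obtain ⟨k, hk, yb, hyb, hky⟩ := mem_sup_of_normal_left.mp h1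
    rw [hPbc] at hyb
    obtain ⟨y, hy, rfl⟩ := hyb
    refine ⟨t * y⁻¹, ?_, y, hy, by group⟩
    rw [hM, mem_comap, map_mul, map_inv, ← hky]
    simpa using hk
  have hPM : (P : Subgroup G) ⊓ M = Q :=
    le_antisymm (by rw [inf_comm]; exact hMP) (le_inf hQP hQM)
  have hidx : ¬ p ∣ Q.relIndex M := by
    have := Cfsg.Agent.Lib.Helper32_Sylow.not_dvd_relIndex_inf_normal P M
    rwa [hPM] at this
  have hQp : IsPGroup p Q := P.2.to_le hQP
  obtain ⟨k, hk⟩ := IsPGroup.iff_card.mp hQp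
  have hcop : Nat.Coprime (Nat.card Q) (Q.relIndex M) := by
    rw [hk]
    exact Nat.Coprime.pow_left k ((Nat.Prime.coprime_iff_not_dvd Fact.out).mpr hidx)
  have hMQ : M ≤ normalizer (Q : Set G) := by
    rw [normalizer_eq_top]; exact le_top
  obtain ⟨H, hHM, hQH, hQHM, hHcard⟩ :=
    Cfsg.Agent.Lib.Helper2_Coprime.exists_complement_of_le_normalizer Q M hQM hMQ hcop
  have hHQ : H ≤ normalizer (Q : Set G) := hHM.trans hMQ
  have hcop' : (Nat.card H).Coprime (Nat.card Q) := by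
    rw [hHcard]; exact hcop.symm
  have hQsolv : Group.IsSolvable Q := by
    have : Group.IsNilpotent Q := hQp.isNilpotent
    infer_instance
  -- Frattini argument
  have hfr : ∀ t : G, ∃ k ∈ Q, k⁻¹ * t ∈ normalizer (H : Set G) := by
    intro t
    have hB1 : cj t H ≤ Q ⊔ H := by
      rw [hQHM]
      intro y hy
      rw [mem_cj] at hy
      have : y = t * (t⁻¹ * y * t) * t⁻¹ := by group
      rw [this]
      exact hMn.conj_mem _ (hHM hy) t
    have hB2 : Nat.card (cj t H) = Nat.card H := Cfsg.Agent.Lib.Helper33_Alperin.card_cj t H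
    obtain ⟨k, hkQ, hkH⟩ := Cfsg.Agent.Lib.Helper24_CoprimeAction.sz_rel_conj H Q (cj t H) hHQ
      hcop' (Or.inr hQsolv) hB1 hB2
    refine ⟨k, hkQ, ?_⟩
    rw [mem_normalizer_iff_cj, cj_mul]
    rw [← hkH]
    exact cj_inv_cj k H
  -- P normalizes H
  have hPH : (P : Subgroup G) ≤ normalizer (H : Set G) := by
    have h1 := hfrat ((P : Subgroup G) ⊓ normalizer (H : Set G)) inf_le_left ?_
    · exact h1.trans inf_le_right
    · intro y hy
      obtain ⟨k, hkQ, hk⟩ := hfr y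
      exact ⟨k, hkQ, k⁻¹ * y, ⟨(P : Subgroup G).mul_mem ((P : Subgroup G).inv_mem (hQP hkQ)) hy, hk⟩, by group⟩
  -- H is normal
  have hHn : H.Normal := by
    rw [← normalizer_eq_top_iff, eq_top_iff]
    intro t _
    obtain ⟨m, hm, y, hy, rfl⟩ := hsup t
    rw [← hQHM] at hm
    obtain ⟨q, hq, h, hh, rfl⟩ := Cfsg.Agent.Lib.Helper24_CoprimeAction.exists_mul_of_mem_sup H Q hHQ hm
    exact mul_mem (mul_mem (hPH (hQP hq)) (le_normalizer hh)) (hPH hy)
  refine ⟨P, H, hHn, ?_⟩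
  apply isComplement'_of_disjoint_and_mul_eq_univ
  · apply disjoint_of_coprime_natCard
    obtain ⟨j, hj⟩ := IsPGroup.iff_card.mp P.2
    rw [hj, hHcard]
    exact Nat.Coprime.pow_right j ((Nat.Prime.coprime_iff_not_dvd Fact.out).mpr hidx).symm
  · rw [Set.eq_univ_iff_forall]
    intro t
    obtain ⟨m, hm, y, hy, rfl⟩ := hsup t
    rw [← hQHM] at hm
    obtain ⟨q, hq, h, hh, rfl⟩ := Cfsg.Agent.Lib.Helper24_CoprimeAction.exists_mul_of_mem_sup H Q hHQ hm
    -- q * h * y = (q h q⁻¹) * (q y)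
    have e : q * h * y = (q * h * q⁻¹) * (q * y) := by group
    rw [e]
    exact Set.mul_mem_mul (hHn.conj_mem h hh q) (mul_mem (hQP hq) hy)

end Core

/-- Frattini non-generators, elementwise, for a subgroup `Q ≤ Φ(P)`. -/
theorem nongen {p : ℕ} [Finite G] (P : Sylow p G) (Q : Subgroup G)
    (h2 : Q ≤ (frattini ↥(P : Subgroup G)).map (P : Subgroup G).subtype) (R : Subgroup G)
    (hR : R ≤ (P : Subgroup G))
    (h : ∀ y ∈ (P : Subgroup G), ∃ q ∈ Q, ∃ r ∈ R, y = q * r) : (P : Subgroup G) ≤ R := by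
  have h3 : R.subgroupOf (P : Subgroup G) ⊔ frattini ↥(P : Subgroup G) = ⊤ := by
    rw [eq_top_iff]
    rintro ⟨y, hy⟩ _
    obtain ⟨q, hq, r, hr, hqr⟩ := h y hy
    obtain ⟨q', hq', hqq'⟩ := h2 hq
    have e : (⟨y, hy⟩ : ↥(P : Subgroup G)) = q' * ⟨r, hR hr⟩ := by
      apply Subtype.ext
      simp only [coe_mul]
      rw [hqr, ← hqq']
      rfl
    rw [e]
    exact mul_mem (mem_sup_right hq') (mem_sup_left (mem_subgroupOf.mpr hr))
  have h4 := frattini_nongenerating h3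
  intro y hy
  have : (⟨y, hy⟩ : ↥(P : Subgroup G)) ∈ R.subgroupOf (P : Subgroup G) := by
    rw [h4]; exact mem_top _
  exact mem_subgroupOf.mp this

theorem result {G : Type*} [Group G] [Finite G] {p : ℕ} [Fact p.Prime] (P : Sylow p G) (hN : Cfsg.HasNormalPComplement p ↥(Subgroup.normalizer ((P : Subgroup G) : Set G))) (Q : Subgroup G) (h1 : (commutator ↥(P : Subgroup G)).map (P : Subgroup G).subtype ≤ Q) (h2 : Q ≤ (frattini ↥(P : Subgroup G)).map (P : Subgroup G).subtype) : Cfsg.HasNormalPComplement p ↥(Subgroup.normalizer (Q : Set G)) := by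
  have hQP : Q ≤ (P : Subgroup G) := h2.trans (map_subtype_le _)
  have hcommG : ∀ y ∈ (P : Subgroup G), ∀ z ∈ (P : Subgroup G), y * z * y⁻¹ * z⁻¹ ∈ Q := by
    intro y hy z hz
    apply h1
    refine ⟨⁅(⟨y, hy⟩ : ↥(P : Subgroup G)), ⟨z, hz⟩⁆, ?_, ?_⟩
    · rw [SetLike.mem_coe, _root_.commutator_def]
      exact commutator_mem_commutator (mem_top _) (mem_top _)
    · simp [commutatorElement_def]
  have hPT : (P : Subgroup G) ≤ normalizer (Q : Set G) := by
    intro y hy
    apply Cfsg.Agent.Lib.Helper34_Fusion.mem_normalizer_of_cj_le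
    intro z hz
    rw [mem_cj] at hz
    have e : z = (y * (y⁻¹ * z * y) * y⁻¹ * (y⁻¹ * z * y)⁻¹) * (y⁻¹ * z * y) := by group
    rw [e]
    exact mul_mem (hcommG y hy _ (hQP hz)) hz
  have hcG : PP p (normalizer ((P : Subgroup G) : Set G)) (centralizer ((P : Subgroup G) : Set G)) := by
    intro g hg hgo
    exact frob_sub (frobHyp_of_hasNPC (npc_iff.mp hN)) le_normalizer P.2 hg hg hgo
  have hQn : (Q.subgroupOf (normalizer (Q : Set G))).Normal := normal_in_normalizer
  have hP'c : ((P.subtype hPT : Sylow p ↥(normalizer (Q : Set G))) : Subgroup ↥(normalizer (Q : Set G))) =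
      (P : Subgroup G).subgroupOf (normalizer (Q : Set G)) := Sylow.coe_subtype P hPT
  apply core (P.subtype hPT) (Q.subgroupOf (normalizer (Q : Set G)))
  · rw [hP'c]
    intro x hx
    rw [mem_subgroupOf] at hx ⊢
    exact hQP hx
  · intro y hy z hz
    rw [hP'c, mem_subgroupOf] at hy hz
    rw [mem_subgroupOf]
    simpa using hcommG _ hy _ hz
  · intro x hx hxo
    rw [hP'c] at hx ⊢
    have hxN : (x : G) ∈ normalizer ((P : Subgroup G) : Set G) := by
      apply Cfsg.Agent.Lib.Helper34_Fusion.mem_normalizer_of_cj_le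
      intro y hy
      rw [mem_cj] at hy
      have h3 := (mem_normalizer_iff.mp hx ⟨(x : G)⁻¹ * y * (x : G), hPT hy⟩).mp
        (mem_subgroupOf.mpr hy)
      rw [mem_subgroupOf] at h3
      have e : ((x * ⟨(x : G)⁻¹ * y * (x : G), hPT hy⟩ * x⁻¹ : ↥(normalizer (Q : Set G))) : G) = y := by
        simp only [coe_mul, InvMemClass.coe_inv]
        group
      rwa [e] at h3
    have hxo' : (orderOf (x : G)).Coprime p := by
      rw [Subgroup.orderOf_coe]; exact hxo
    have h4 := hcG _ hxN hxo'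
    rw [mem_centralizer_iff] at h4 ⊢
    intro h hh
    apply Subtype.ext
    simp only [coe_mul]
    exact h4 _ (mem_subgroupOf.mp hh)
  · intro R' hR' hdec
    rw [hP'c] at hR' hdec ⊢
    have h5 := nongen P Q h2 (R'.map (normalizer (Q : Set G)).subtype) ?_ ?_
    · intro x hx
      obtain ⟨r, hr, hrx⟩ := h5 (mem_subgroupOf.mp hx)
      have : r = x := Subtype.ext hrx
      rw [← this]; exact hr
    · rintro _ ⟨r, hr, rfl⟩
      exact mem_subgroupOf.mp (hR' hr)
    · intro y hy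
      obtain ⟨q, hq, r, hr, hqr⟩ := hdec ⟨y, hPT hy⟩ (mem_subgroupOf.mpr hy)
      refine ⟨(q : G), mem_subgroupOf.mp hq, (r : G), ⟨r, hr, rfl⟩, ?_⟩
      have := congrArg Subtype.val hqr
      simpa using this

end Cfsg.Agent.S3838
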