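import Cfsg.Statements.S3857
import Cfsg.Agent.S4108
import Cfsg.Agent.S1886
import Cfsg.Agent.Lib.Helper1_FPF
import Cfsg.Agent.Lib.Helper1_Coprime
import Cfsg.Agent.Lib.Helper1_SZ
import Cfsg.Agent.Lib.Helper1_MinNormal
import Cfsg.Agent.Lib.Helper1_Transport
import Cfsg.Agent.Lib.Helper71_Frobenius
import Cfsg.Agent.Lib.Helper25_CNFrob

set_option autoImplicit false
set_option linter.style.haveILetI false
open Cfsg

namespace Cfsg.Agent.S3857

open scoped Pointwise

/-- No two commuting nonidentity elements, one an `A`-element and the other an `A'`-element. -/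
def NC (A : Set ℕ) (L : Type*) [Group L] : Prop :=
  ∀ x y : L, x * y = y * x → (∀ p : ℕ, p.Prime → p ∣ orderOf x → p ∈ A) →
    (∀ q : ℕ, q.Prime → q ∣ orderOf y → q ∉ A) → x = 1 ∨ y = 1

/-- `q`-subgroups (`q ∉ A`) have at most one subgroup of order `q`. -/
def Z1 (A : Set ℕ) (L : Type*) [Group L] : Prop :=
  ∀ (q : ℕ), q.Prime → q ∉ A → ∀ P B1 B2 : Subgroup L, IsPGroup q P → B1 ≤ P → B2 ≤ P →
    Nat.card B1 = q → Nat.card B2 = q → B1 = B2

/-- subgroups of order `p * q` (`p, q ∉ A`) are cyclic. -/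
def Z2 (A : Set ℕ) (L : Type*) [Group L] : Prop :=
  ∀ (D : Subgroup L) (p q : ℕ), p.Prime → q.Prime → p ∉ A → q ∉ A → Nat.card D = p * q →
    IsCyclic D

theorem nc_of_hyp {G : Type*} [Group G] [Finite G] (A : Set ℕ)
    (h : ∀ a ∈ A, ∀ b ∉ A, a.Prime → b.Prime → a ∣ Nat.card G → b ∣ Nat.card G →
      ¬ ∃ g : G, orderOf g = a * b) : NC A G := by
  intro x y hxy hx hy
  by_contra hcon
  push Not at hcon
  obtain ⟨hx1, hy1⟩ := hcon
  have hox : orderOf x ≠ 1 := fun h => hx1 (orderOf_eq_one_iff.mp h)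
  have hoy : orderOf y ≠ 1 := fun h => hy1 (orderOf_eq_one_iff.mp h)
  have hp : (orderOf x).minFac.Prime := Nat.minFac_prime hox
  have hq : (orderOf y).minFac.Prime := Nat.minFac_prime hoy
  obtain ⟨p, hpdef⟩ : ∃ p, p = (orderOf x).minFac := ⟨_, rfl⟩
  obtain ⟨q, hqdef⟩ : ∃ q, q = (orderOf y).minFac := ⟨_, rfl⟩
  rw [← hpdef] at hp
  rw [← hqdef] at hq
  have hpd : p ∣ orderOf x := hpdef ▸ Nat.minFac_dvd _
  have hqd : q ∣ orderOf y := hqdef ▸ Nat.minFac_dvd _
  have hpA : p ∈ A := hx p hp hpd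
  have hqA : q ∉ A := hy q hq hqd
  have hpq : p ≠ q := fun h => hqA (h ▸ hpA)
  have hx' : orderOf (x ^ (orderOf x / p)) = p :=
    orderOf_pow_orderOf_div (orderOf_pos x).ne' hpd
  have hy' : orderOf (y ^ (orderOf y / q)) = q :=
    orderOf_pow_orderOf_div (orderOf_pos y).ne' hqd
  have hcomm : Commute (x ^ (orderOf x / p)) (y ^ (orderOf y / q)) :=
    (Commute.pow_pow (show Commute x y from hxy) _ _)
  have hcop : (orderOf (x ^ (orderOf x / p))).Coprime (orderOf (y ^ (orderOf y / q))) := by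
    rw [hx', hy']
    exact (Nat.coprime_primes hp hq).mpr hpq
  have hmul := hcomm.orderOf_mul_eq_mul_orderOf_of_coprime hcop
  rw [hx', hy'] at hmul
  refine h p hpA q hqA hp hq ?_ ?_ ⟨_, hmul⟩
  · rw [← hx']; exact orderOf_dvd_natCard _
  · rw [← hy']; exact orderOf_dvd_natCard _

theorem NC.of_injective {A : Set ℕ} {X Y : Type*} [Group X] [Group Y] (f : X →* Y)
    (hf : Function.Injective f) (h : NC A Y) : NC A X := by
  intro x y hxy hx hy
  have h1 : f x * f y = f y * f x := by rw [← map_mul, ← map_mul, hxy]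
  rcases h (f x) (f y) h1 (by rwa [orderOf_injective f hf x])
    (by rwa [orderOf_injective f hf y]) with h2 | h2
  · left; exact hf (by rw [h2, map_one])
  · right; exact hf (by rw [h2, map_one])

theorem Z1.of_injective {A : Set ℕ} {X Y : Type*} [Group X] [Group Y] (f : X →* Y)
    (hf : Function.Injective f) (h : Z1 A Y) : Z1 A X := by
  intro q hq hqA P B1 B2 hP hB1 hB2 h1 h2
  have key := h q hq hqA (P.map f) (B1.map f) (B2.map f) (hP.map f) (Subgroup.map_mono hB1)
    (Subgroup.map_mono hB2) (by rw [Subgroup.card_map_of_injective hf]; exact h1)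
    (by rw [Subgroup.card_map_of_injective hf]; exact h2)
  exact Subgroup.map_injective hf key

theorem Z2.of_injective {A : Set ℕ} {X Y : Type*} [Group X] [Group Y] (f : X →* Y)
    (hf : Function.Injective f) (h : Z2 A Y) : Z2 A X := by
  intro D p q hp hq hpA hqA hD
  have key := h (D.map f) p q hp hq hpA hqA
    (by rw [Subgroup.card_map_of_injective hf]; exact hD)
  exact (D.equivMapOfInjective f hf).isCyclic.mpr key

/-- Counting: a group acting fixed-point-freely on a nontrivial finite group is smaller. -/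
theorem card_lt_of_fpf {L : Type*} [Group L] [Finite L] (S T : Subgroup L)
    (hST : S ≤ Subgroup.normalizer (T : Set L)) (hT : T ≠ ⊥)
    (h : ∀ s ∈ S, ∀ t ∈ T, s * t = t * s → s = 1 ∨ t = 1) : Nat.card S < Nat.card T := by
  obtain ⟨⟨t, ht⟩, ht1⟩ := (Subgroup.ne_bot_iff_exists_ne_one).mp hT
  have ht1' : t ≠ 1 := fun h => ht1 (Subtype.ext h)
  let f : S → T := fun s => ⟨s * t * (s : L)⁻¹, (Subgroup.mem_normalizer_iff.mp (hST s.2) t).mp ht⟩
  have hf : Function.Injective f := by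
    intro s1 s2 h12
    have h1 : (s1 : L) * t * (s1 : L)⁻¹ = s2 * t * (s2 : L)⁻¹ := congrArg Subtype.val h12
    have h2 : ((s2 : L)⁻¹ * s1) * t = t * ((s2 : L)⁻¹ * s1) := by
      calc ((s2 : L)⁻¹ * s1) * t = (s2 : L)⁻¹ * (s1 * t * (s1 : L)⁻¹) * s1 := by group
        _ = (s2 : L)⁻¹ * (s2 * t * (s2 : L)⁻¹) * s1 := by rw [h1]
        _ = t * ((s2 : L)⁻¹ * s1) := by group
    rcases h _ (S.mul_mem (S.inv_mem s2.2) s1.2) t ht h2 with h3 | h3
    · apply Subtype.ext
      have : (s1 : L) = s2 := by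
        calc (s1 : L) = s2 * ((s2 : L)⁻¹ * s1) := by group
          _ = s2 := by rw [h3, mul_one]
      exact this
    · exact absurd h3 ht1'
  have hmiss : (1 : T) ∉ Set.range f := by
    rintro ⟨s, hs⟩
    have h1 : (s : L) * t * (s : L)⁻¹ = 1 := congrArg Subtype.val hs
    apply ht1'
    calc t = (s : L)⁻¹ * (s * t * (s : L)⁻¹) * s := by group
      _ = 1 := by rw [h1]; group
  have := Fintype.ofFinite S
  have := Fintype.ofFinite T
  rw [Nat.card_eq_fintype_card, Nat.card_eq_fintype_card]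
  exact Fintype.card_lt_of_injective_of_notMem f hf hmiss


theorem pi_orderOf {L : Type*} [Group L] {S : Subgroup L} {s : L} (hs : s ∈ S) {Pr : ℕ → Prop}
    (h : ∀ r : ℕ, r.Prime → r ∣ Nat.card S → Pr r) : ∀ r : ℕ, r.Prime → r ∣ orderOf s → Pr r :=
  fun r hr hrd => h r hr (hrd.trans (S.orderOf_dvd_natCard hs))

theorem pi_of_card_pow {A : Set ℕ} {p j : ℕ} (hp : p.Prime) (hpA : p ∈ A) {n : ℕ} (hn : n = p ^ j) :
    ∀ r : ℕ, r.Prime → r ∣ n → r ∈ A := by
  intro r hr hrd
  rw [hn] at hrd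
  rw [(Nat.prime_dvd_prime_iff_eq hr hp).mp (hr.dvd_of_dvd_pow hrd)]
  exact hpA

theorem pi'_of_card_prime {A : Set ℕ} {q : ℕ} (hq : q.Prime) (hqA : q ∉ A) {n : ℕ} (hn : n = q) :
    ∀ r : ℕ, r.Prime → r ∣ n → r ∉ A := by
  intro r hr hrd
  rw [hn] at hrd
  rw [(Nat.prime_dvd_prime_iff_eq hr hq).mp hrd]
  exact hqA

/-- An element of prime order `r ∉ A` normalizing a subgroup of prime order `q ∉ A`, `q ≠ r`,
centralizes it. -/
theorem commute_of_normalizes' {A : Set ℕ} {L : Type*} [Group L] [Finite L] (hZ2 : Z2 A L)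
    (q r : ℕ) (hq : q.Prime) (hr : r.Prime) (hqA : q ∉ A) (hrA : r ∉ A)
    (hqr : q ≠ r) (x w : L) (hx : orderOf x = q) (hw : orderOf w = r)
    (hwx : w ∈ Subgroup.normalizer ((Subgroup.zpowers x : Subgroup L) : Set L)) :
    w * x = x * w := by
  obtain ⟨D, hD⟩ : ∃ D, D = Subgroup.zpowers w ⊔ Subgroup.zpowers x := ⟨_, rfl⟩
  have hcard : Nat.card D = r * q := by
    have h1 := Cfsg.Agent.Lib.Helper1_FPF.card_sup_of_le_normalizer (Subgroup.zpowers w)
      (Subgroup.zpowers x) (Subgroup.zpowers_le.mpr hwx) (by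
        apply disjoint_iff.mp
        apply Subgroup.disjoint_of_coprime_natCard
        rw [Nat.card_zpowers, Nat.card_zpowers, hx, hw]
        exact (Nat.coprime_primes hr hq).mpr hqr.symm)
    rw [hD, h1, Nat.card_zpowers, Nat.card_zpowers, hx, hw]
  haveI : IsCyclic D := hZ2 D r q hr hq hrA hqA hcard
  have hwD : w ∈ D := hD ▸ (le_sup_left : Subgroup.zpowers w ≤ _) (Subgroup.mem_zpowers w)
  have hxD : x ∈ D := hD ▸ (le_sup_right : Subgroup.zpowers x ≤ _) (Subgroup.mem_zpowers x)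
  have := (isMulCommutative_iff.mp (inferInstance : IsMulCommutative D)) ⟨w, hwD⟩ ⟨x, hxD⟩
  exact congrArg Subtype.val this

/-- Key lemma: in a solvable group with `NC`, `Z1`, `Z2`, the quotient by a maximal normal
`A'`-subgroup `E ≠ 1` is an `A`-group. -/
theorem index_isPi {X : Type*} [Group X] [Finite X] [hsol : Group.IsSolvable X] (A : Set ℕ)
    (hNC : NC A X) (hZ1 : Z1 A X) (hZ2 : Z2 A X)
    (E : Subgroup X) [hEn : E.Normal] (hE1 : E ≠ ⊥)
    (hEpi : ∀ q : ℕ, q.Prime → q ∣ Nat.card E → q ∉ A)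
    (hmax : ∀ R : Subgroup X, R.Normal → E ≤ R →
      (∀ q : ℕ, q.Prime → q ∣ Nat.card R → q ∉ A) → R = E) :
    ∀ q : ℕ, q.Prime → q ∣ E.index → q ∈ A := by
  classical
  intro q hq hqidx
  by_contra hqA
  haveI : Fact q.Prime := ⟨hq⟩
  have hidx1 : E.index ≠ 1 := fun h => hq.one_lt.ne' (Nat.dvd_one.mp (h ▸ hqidx))
  haveI : Nontrivial (X ⧸ E) := by
    rw [← Finite.one_lt_card_iff_nontrivial, ← Subgroup.index_eq_card]
    have := Nat.pos_of_ne_zero (E.index_ne_zero_of_finite)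
    omega
  obtain ⟨Mbar, p, hMn, hM1, hp, hMp⟩ :=
    Cfsg.Agent.Lib.Helper1_SZ.exists_normal_pSubgroup (Q := X ⧸ E) inferInstance
  haveI : Fact p.Prime := ⟨hp⟩
  obtain ⟨R, hRdef⟩ : ∃ R, R = Mbar.comap (QuotientGroup.mk' E) := ⟨_, rfl⟩
  haveI hRn : R.Normal := by rw [hRdef]; exact hMn.comap _
  have hER : E ≤ R := by rw [hRdef]; exact QuotientGroup.le_comap_mk' E Mbar
  have hRcard : Nat.card R = Nat.card Mbar * Nat.card E := by
    rw [hRdef]; exact Cfsg.Agent.Lib.Helper1_Transport.card_comap_mk' E Mbar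
  obtain ⟨k, hk⟩ := (IsPGroup.iff_card.mp hMp)
  have hEpos : 0 < Nat.card E := Nat.card_pos
  have hk0 : k ≠ 0 := by
    rintro rfl
    rw [pow_zero] at hk
    exact hM1 (Subgroup.card_eq_one.mp hk)
  -- `p ∈ A`
  have hpA : p ∈ A := by
    by_contra hpA
    have hRE : R = E := hmax R hRn hER (by
      intro r hr hrd
      rw [hRcard, hk] at hrd
      rcases (Nat.Prime.dvd_mul hr).mp hrd with h | h
      · rw [(Nat.prime_dvd_prime_iff_eq hr hp).mp (hr.dvd_of_dvd_pow h)]; exact hpA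
      · exact hEpi r hr h)
    have h2 : Nat.card R = Nat.card E := by rw [hRE]
    rw [hRcard, hk] at h2
    have h3 : p ^ k = 1 := by
      have : p ^ k * Nat.card E = 1 * Nat.card E := by rw [h2, one_mul]
      exact Nat.eq_of_mul_eq_mul_right hEpos this
    exact hk0 ((Nat.pow_eq_one.mp h3).resolve_left hp.one_lt.ne')
  have hpq : p ≠ q := fun h => hqA (h ▸ hpA)
  have hpE : ¬ p ∣ Nat.card E := fun h => hEpi p hp h hpA
  -- Sylow `p`-subgroup of `R`
  obtain ⟨P⟩ : Nonempty (Sylow p R) := inferInstance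
  obtain ⟨R1, hR1def⟩ : ∃ R1, R1 = (P : Subgroup R).map R.subtype := ⟨_, rfl⟩
  have hR1p : IsPGroup p R1 := by rw [hR1def]; exact P.2.map _
  have hpR : p ∣ Nat.card R := by
    rw [hRcard, hk]; exact Dvd.dvd.mul_right (dvd_pow_self p hk0) _
  have hR1ne : R1 ≠ ⊥ := by
    rw [hR1def]
    intro h
    exact P.ne_bot_of_dvd_card hpR
      ((Subgroup.map_eq_bot_iff_of_injective _ R.subtype_injective).mp h)
  have hfrat : Subgroup.normalizer (R1 : Set X) ⊔ R = ⊤ := by
    rw [hR1def]; exact Sylow.normalizer_sup_eq_top P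
  obtain ⟨j, hj⟩ := (IsPGroup.iff_card.mp hR1p)
  have hR1pi : ∀ r : ℕ, r.Prime → r ∣ Nat.card R1 → r ∈ A := pi_of_card_pow hp hpA hj
  -- an element `y` of order `q` normalizing `R1`
  have hqN : q ∣ Nat.card (Subgroup.normalizer (R1 : Set X)) := by
    have h1 : Nat.card (Subgroup.normalizer (R1 : Set X) ⊔ R : Subgroup X) ∣
        Nat.card R * Nat.card (Subgroup.normalizer (R1 : Set X)) :=
      Cfsg.Agent.S1886.card_sup_dvd _ R
    rw [hfrat, Subgroup.card_top, ← E.card_mul_index, hRcard, hk] at h1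
    have h2 : E.index ∣ p ^ k * Nat.card (Subgroup.normalizer (R1 : Set X)) := by
      apply Nat.dvd_of_mul_dvd_mul_left hEpos
      convert h1 using 1; ring
    have h3 : q ∣ p ^ k * Nat.card (Subgroup.normalizer (R1 : Set X)) := hqidx.trans h2
    rcases (Nat.Prime.dvd_mul hq).mp h3 with h | h
    · exact absurd ((Nat.prime_dvd_prime_iff_eq hq hp).mp (hq.dvd_of_dvd_pow h)) (Ne.symm hpq)
    · exact h
  obtain ⟨⟨y, hyN⟩, hyord⟩ := exists_prime_orderOf_dvd_card' q hqN
  have hyo : orderOf y = q := by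
    rw [← hyord]; exact (Subgroup.orderOf_mk y hyN).symm
  have hy1 : y ≠ 1 := by
    rintro rfl
    rw [orderOf_one] at hyo
    exact hq.one_lt.ne hyo
  have hypi : ∀ r : ℕ, r.Prime → r ∣ orderOf y → r ∉ A := pi'_of_card_prime hq hqA hyo
  have hzy : Nat.card (Subgroup.zpowers y) = q := by rw [Nat.card_zpowers, hyo]
  -- fixed-point-freeness
  have hfpf1 : ∀ s ∈ R1, ∀ t ∈ E, s * t = t * s → s = 1 ∨ t = 1 := by
    intro s hs t ht hst
    exact hNC s t hst (pi_orderOf hs hR1pi) (pi_orderOf ht hEpi)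
  have hfpf2 : ∀ s ∈ Subgroup.zpowers y, ∀ t ∈ R1, s * t = t * s → s = 1 ∨ t = 1 := by
    intro s hs t ht hst
    exact (hNC t s hst.symm (pi_orderOf ht hR1pi)
      (pi_orderOf hs (pi'_of_card_prime hq hqA hzy))).symm
  have hyR1 : Subgroup.zpowers y ≤ Subgroup.normalizer (R1 : Set X) :=
    Subgroup.zpowers_le.mpr hyN
  have hlt2 : q < Nat.card R1 := by
    have := card_lt_of_fpf (Subgroup.zpowers y) R1 hyR1 hR1ne hfpf2
    rwa [hzy] at this
  have hEsol : Group.IsSolvable E := inferInstance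
  have hEnorm : ∀ S : Subgroup X, S ≤ Subgroup.normalizer (E : Set X) := by
    intro S; rw [Subgroup.normalizer_eq_top]; exact le_top
  -- a general fact: inside an invariant Sylow subgroup, the subgroup of prime order is normalized
  have hinv : ∀ (q' : ℕ) (hq' : q'.Prime), q' ∉ A → ∀ (S : Subgroup X) (Q0 : Subgroup X),
      IsPGroup q' Q0 → S ≤ Subgroup.normalizer (Q0 : Set X) → ∀ ω ∈ Q0, orderOf ω = q' →
      S ≤ Subgroup.normalizer ((Subgroup.zpowers ω : Subgroup X) : Set X) := by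
    intro q' hq' hq'A S Q0 hQ0 hS ω hω hωo s hs
    apply Cfsg.Agent.Lib.Helper25_CNFrob.mem_normalizer_zpowers
    have h1 : s * ω * s⁻¹ ∈ Q0 := (Subgroup.mem_normalizer_iff.mp (hS hs) ω).mp hω
    have h2 : Subgroup.zpowers ω = Subgroup.zpowers (s * ω * s⁻¹) :=
      hZ1 q' hq' hq'A Q0 _ _ hQ0 (Subgroup.zpowers_le.mpr hω) (Subgroup.zpowers_le.mpr h1)
        (by rw [Nat.card_zpowers, hωo])
        (by rw [Nat.card_zpowers, Cfsg.Agent.Lib.Helper25_CNFrob.orderOf_conj, hωo])
    rw [h2]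
    exact Subgroup.mem_zpowers _
  by_cases hqE : q ∣ Nat.card E
  · -- first case
    have hcop : (Nat.card R1).Coprime (Nat.card E) := by
      rw [hj]; exact Nat.Coprime.pow_left _ ((Nat.Prime.coprime_iff_not_dvd hp).mpr hpE)
    obtain ⟨Q, hQ⟩ := Cfsg.Agent.Lib.Helper1_Coprime.exists_invariant_sylow R1 E (hEnorm R1) hcop
      (Or.inr hEsol) q
    obtain ⟨w, hw⟩ := exists_prime_orderOf_dvd_card' q (Q.dvd_card_of_dvd_card hqE)
    obtain ⟨ω, hωdef⟩ : ∃ ω : X, ω = ((w : E) : X) := ⟨_, rfl⟩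
    have hωo : orderOf ω = q := by
      rw [hωdef, Subgroup.orderOf_coe, Subgroup.orderOf_coe]; exact hw
    have hωQ : ω ∈ (Q : Subgroup E).map E.subtype := by
      rw [hωdef]; exact ⟨(w : E), w.2, rfl⟩
    have hωE : ω ∈ E := by rw [hωdef]; exact (w : E).2
    have hnorm := hinv q hq hqA R1 _ (Q.2.map _) hQ ω hωQ hωo
    have hzω : Nat.card (Subgroup.zpowers ω) = q := by rw [Nat.card_zpowers, hωo]
    have hzne : Subgroup.zpowers ω ≠ ⊥ := by
      intro h
      rw [h, Subgroup.card_bot] at hzω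
      exact hq.one_lt.ne hzω
    have hlt1 := card_lt_of_fpf R1 (Subgroup.zpowers ω) hnorm hzne (by
      intro s hs t ht hst
      exact hfpf1 s hs t (Subgroup.zpowers_le.mpr hωE ht) hst)
    rw [hzω] at hlt1
    omega
  · -- second case
    obtain ⟨q', hq'def⟩ : ∃ q', q' = (Nat.card E).minFac := ⟨_, rfl⟩
    have hEcard1 : Nat.card E ≠ 1 := fun h => hE1 (Subgroup.card_eq_one.mp h)
    have hq' : q'.Prime := hq'def ▸ Nat.minFac_prime hEcard1
    have hq'E : q' ∣ Nat.card E := hq'def ▸ Nat.minFac_dvd _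
    have hq'A : q' ∉ A := hEpi q' hq' hq'E
    have hq'q : q' ≠ q := fun h => hqE (h ▸ hq'E)
    haveI : Fact q'.Prime := ⟨hq'⟩
    obtain ⟨S, hSdef⟩ : ∃ S, S = Subgroup.zpowers y ⊔ R1 := ⟨_, rfl⟩
    have hdisj : Subgroup.zpowers y ⊓ R1 = ⊥ := by
      apply disjoint_iff.mp
      apply Subgroup.disjoint_of_coprime_natCard
      rw [hzy, hj]
      exact Nat.Coprime.pow_right _ ((Nat.coprime_primes hq hp).mpr hpq.symm)
    have hScard : Nat.card S = q * p ^ j := by
      rw [hSdef, Cfsg.Agent.Lib.Helper1_FPF.card_sup_of_le_normalizer _ _ hyR1 hdisj, hzy, hj]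
    have hScop : (Nat.card S).Coprime (Nat.card E) := by
      rw [hScard]
      exact Nat.Coprime.mul_left ((Nat.Prime.coprime_iff_not_dvd hq).mpr hqE)
        (Nat.Coprime.pow_left _ ((Nat.Prime.coprime_iff_not_dvd hp).mpr hpE))
    obtain ⟨Q, hQ⟩ := Cfsg.Agent.Lib.Helper1_Coprime.exists_invariant_sylow S E (hEnorm S) hScop
      (Or.inr hEsol) q'
    obtain ⟨w, hw⟩ := exists_prime_orderOf_dvd_card' q' (Q.dvd_card_of_dvd_card hq'E)
    obtain ⟨ω, hωdef⟩ : ∃ ω : X, ω = ((w : E) : X) := ⟨_, rfl⟩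
    have hωo : orderOf ω = q' := by
      rw [hωdef, Subgroup.orderOf_coe, Subgroup.orderOf_coe]; exact hw
    have hωQ : ω ∈ (Q : Subgroup E).map E.subtype := by
      rw [hωdef]; exact ⟨(w : E), w.2, rfl⟩
    have hωE : ω ∈ E := by rw [hωdef]; exact (w : E).2
    have hω1 : ω ≠ 1 := by
      rintro h
      rw [h, orderOf_one] at hωo
      exact hq'.one_lt.ne hωo
    have hnorm := hinv q' hq' hq'A S _ (Q.2.map _) hQ ω hωQ hωo
    have hyS : y ∈ S := hSdef ▸ (le_sup_left : Subgroup.zpowers y ≤ _) (Subgroup.mem_zpowers y)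
    have hR1S : R1 ≤ S := hSdef ▸ le_sup_right
    have hyω : y * ω = ω * y :=
      commute_of_normalizes' hZ2 q' q hq' hq hq'A hqA hq'q ω y hωo hyo (hnorm hyS)
    have hall : ∀ r ∈ R1, r * y = y * r := by
      intro r hr
      have hc : r * (y * r⁻¹ * y⁻¹) ∈ R1 :=
        R1.mul_mem hr ((Subgroup.mem_normalizer_iff.mp hyN r⁻¹).mp (R1.inv_mem hr))
      -- `u = r⁻¹ ω r ∈ ⟨ω⟩` commutes with `y`
      have hu : r⁻¹ * ω * r ∈ Subgroup.zpowers ω := by
        have := (Subgroup.mem_normalizer_iff.mp (hnorm (hR1S (R1.inv_mem hr))) ω).mp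
          (Subgroup.mem_zpowers ω)
        rwa [inv_inv] at this
      obtain ⟨i, hi⟩ := Subgroup.mem_zpowers_iff.mp hu
      have hyu : Commute y (r⁻¹ * ω * r) := by
        rw [← hi]; exact (show Commute y ω from hyω).zpow_right i
      have h1 : Commute (r * y * r⁻¹) ω := by
        have := hyu.conj r
        have h2 : r * (r⁻¹ * ω * r) * r⁻¹ = ω := by group
        rwa [h2] at this
      have h3 : Commute (r * y * r⁻¹ * y⁻¹) ω :=
        h1.mul_left (show Commute y ω from hyω).inv_left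
      have hcω : (r * (y * r⁻¹ * y⁻¹)) * ω = ω * (r * (y * r⁻¹ * y⁻¹)) := by
        have h4 : r * (y * r⁻¹ * y⁻¹) = r * y * r⁻¹ * y⁻¹ := by group
        rw [h4]; exact h3.eq
      rcases hfpf1 _ hc ω hωE hcω with h | h
      · calc r * y = (r * (y * r⁻¹ * y⁻¹)) * (y * r) := by group
          _ = y * r := by rw [h, one_mul]
      · exact absurd h hω1
    obtain ⟨⟨r, hr⟩, hr1⟩ := (Subgroup.ne_bot_iff_exists_ne_one).mp hR1ne
    rcases hNC r y (hall r hr) (pi_orderOf hr hR1pi) hypi with h | h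
    · exact hr1 (Subtype.ext h)
    · exact hy1 h


theorem coprime_of_pi {A : Set ℕ} {m n : ℕ} (hm : ∀ r : ℕ, r.Prime → r ∣ m → r ∈ A)
    (hn : ∀ r : ℕ, r.Prime → r ∣ n → r ∉ A) : m.Coprime n :=
  Nat.coprime_of_dvd (fun k hk hkm hkn => hn k hk hkn (hm k hk hkm))

/-- The conclusion of the statement. -/
def Concl (G : Type*) [Group G] : Prop :=
    (∃ C : Subgroup G, Cfsg.IsFrobeniusComplement C) ∨
    (∃ (H K : Subgroup G) (_ : H.Normal), K.Normal ∧ H < K ∧
      (∃ C : Subgroup ↥K, Cfsg.IsFrobeniusComplement C ∧ Cfsg.frobeniusKernel C = (H.subgroupOf K : Set ↥K)) ∧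
      (∃ C : Subgroup (G ⧸ H), Cfsg.IsFrobeniusComplement C ∧ Cfsg.frobeniusKernel C = (K.map (QuotientGroup.mk' H) : Set (G ⧸ H))))

theorem core {G : Type*} [Group G] [Finite G] [hsol : Group.IsSolvable G] (A : Set ℕ)
    (hNC : NC A G) (hH1 : piCore A G ≠ ⊥)
    (hb : ∃ b ∉ A, b.Prime ∧ b ∣ Nat.card G) : Concl G := by
  classical
  obtain ⟨H, hHdef⟩ : ∃ H, H = piCore A G := ⟨_, rfl⟩
  haveI hHn : H.Normal := by rw [hHdef]; infer_instance
  have hHpi : ∀ r : ℕ, r.Prime → r ∣ Nat.card H → r ∈ A := by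
    rw [hHdef]; exact Cfsg.Agent.S1886.piCore_isPi A
  have hHne : H ≠ ⊥ := hHdef ▸ hH1
  have hHmax : ∀ N : Subgroup G, N.Normal → (∀ r : ℕ, r.Prime → r ∣ Nat.card N → r ∈ A) →
      N ≤ H := by
    intro N hN hNpi; rw [hHdef]; exact Cfsg.Agent.S1886.le_piCore hN hNpi
  -- an abelian normal subgroup `V ≤ H`
  obtain ⟨V, hVn, hVH, hVne, hVab, -⟩ :=
    Cfsg.Agent.Lib.Helper1_MinNormal.exists_elementary_abelian_normal_le H inferInstance hHne
  have hVpi : ∀ r : ℕ, r.Prime → r ∣ Nat.card V → r ∈ A :=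
    fun r hr hrd => hHpi r hr (hrd.trans (Subgroup.card_dvd_of_le hVH))
  have hfpfV : ∀ D : Subgroup G, (∀ r : ℕ, r.Prime → r ∣ Nat.card D → r ∉ A) →
      ∀ d ∈ D, d ≠ 1 → V ⊓ Subgroup.centralizer {d} = ⊥ := by
    intro D hD d hd hd1
    rw [Subgroup.eq_bot_iff_forall]
    intro v hv0
    obtain ⟨hv, hvc⟩ := Subgroup.mem_inf.mp hv0
    rw [Subgroup.mem_centralizer_singleton_iff] at hvc
    rcases hNC v d hvc (pi_orderOf hv hVpi) (pi_orderOf hd hD) with h | h
    · exact h
    · exact absurd h hd1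
  have hVnorm : ∀ D : Subgroup G, D ≤ Subgroup.normalizer (V : Set G) := by
    intro D; rw [Subgroup.normalizer_eq_top]; exact le_top
  have hZ1 : Z1 A G := by
    intro q hq hqA P B1 B2 hP hB1 hB2 h1 h2
    haveI : Fact q.Prime := ⟨hq⟩
    have hPpi : ∀ r : ℕ, r.Prime → r ∣ Nat.card P → r ∉ A := by
      obtain ⟨j, hj⟩ := IsPGroup.iff_card.mp hP
      intro r hr hrd
      rw [hj] at hrd
      rw [(Nat.prime_dvd_prime_iff_eq hr hq).mp (hr.dvd_of_dvd_pow hrd)]; exact hqA
    exact Cfsg.Agent.Lib.Helper1_FPF.unique_subgroup_card_prime V P (hVnorm P) hVne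
      (hfpfV P hPpi) P le_rfl hP B1 B2 hB1 hB2 h1 h2
  have hZ2 : Z2 A G := by
    intro D p q hp hq hpA hqA hD
    have hDpi : ∀ r : ℕ, r.Prime → r ∣ Nat.card D → r ∉ A := by
      intro r hr hrd
      rw [hD] at hrd
      rcases (Nat.Prime.dvd_mul hr).mp hrd with h | h
      · rw [(Nat.prime_dvd_prime_iff_eq hr hp).mp h]; exact hpA
      · rw [(Nat.prime_dvd_prime_iff_eq hr hq).mp h]; exact hqA
    exact Cfsg.Agent.Lib.Helper1_FPF.isCyclic_of_fpf_of_card D V hVne (hVnorm D) (hfpfV D hDpi)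
      hp hq hD
  -- the second term `K` of the series
  obtain ⟨Ebar, hEbardef⟩ : ∃ Ebar, Ebar = piCore Aᶜ (G ⧸ H) := ⟨_, rfl⟩
  have hEbarn : Ebar.Normal := by rw [hEbardef]; infer_instance
  have hEbarpi : ∀ r : ℕ, r.Prime → r ∣ Nat.card Ebar → r ∉ A := by
    rw [hEbardef]; exact fun r hr hrd => Cfsg.Agent.S1886.piCore_isPi Aᶜ r hr hrd
  have hEbarmax : ∀ N : Subgroup (G ⧸ H), N.Normal →
      (∀ r : ℕ, r.Prime → r ∣ Nat.card N → r ∉ A) → N ≤ Ebar := by
    intro N hN hNpi; rw [hEbardef]; exact Cfsg.Agent.S1886.le_piCore hN hNpi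
  obtain ⟨K, hKdef⟩ : ∃ K, K = Ebar.comap (QuotientGroup.mk' H) := ⟨_, rfl⟩
  haveI hKn : K.Normal := by rw [hKdef]; exact hEbarn.comap _
  have hHK : H ≤ K := by rw [hKdef]; exact QuotientGroup.le_comap_mk' H Ebar
  have hKcard : Nat.card K = Nat.card Ebar * Nat.card H := by
    rw [hKdef]; exact Cfsg.Agent.Lib.Helper1_Transport.card_comap_mk' H Ebar
  have hEbarne : Ebar ≠ ⊥ := by
    obtain ⟨b, hbA, hbp, hbd⟩ := hb
    haveI : Nontrivial (G ⧸ H) := by
      rw [← Finite.one_lt_card_iff_nontrivial, ← Subgroup.index_eq_card]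
      have hidx : H.index ≠ 1 := by
        intro h
        have h1 : H = ⊤ := Subgroup.index_eq_one.mp h
        have h2 : b ∣ Nat.card H := by rw [h1, Subgroup.card_top]; exact hbd
        exact hbA (hHpi b hbp h2)
      have := Nat.pos_of_ne_zero (H.index_ne_zero_of_finite)
      omega
    obtain ⟨Mbar, p, hMn, hM1, hp, hMp⟩ :=
      Cfsg.Agent.Lib.Helper1_SZ.exists_normal_pSubgroup (Q := G ⧸ H) inferInstance
    haveI : Fact p.Prime := ⟨hp⟩
    obtain ⟨k, hk⟩ := IsPGroup.iff_card.mp hMp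
    by_cases hpA : p ∈ A
    · exfalso
      have hle : Mbar.comap (QuotientGroup.mk' H) ≤ H := hHmax _ (hMn.comap _) (by
        intro r hr hrd
        rw [Cfsg.Agent.Lib.Helper1_Transport.card_comap_mk', hk] at hrd
        rcases (Nat.Prime.dvd_mul hr).mp hrd with h | h
        · rw [(Nat.prime_dvd_prime_iff_eq hr hp).mp (hr.dvd_of_dvd_pow h)]; exact hpA
        · exact hHpi r hr h)
      apply hM1
      have := Subgroup.map_mono (f := QuotientGroup.mk' H) hle
      rw [Subgroup.map_comap_eq_self_of_surjective (QuotientGroup.mk'_surjective H),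
        QuotientGroup.map_mk'_self] at this
      exact le_bot_iff.mp this
    · intro hbot
      apply hM1
      have := hEbarmax Mbar hMn (by
        intro r hr hrd
        rw [hk] at hrd
        rw [(Nat.prime_dvd_prime_iff_eq hr hp).mp (hr.dvd_of_dvd_pow hrd)]; exact hpA)
      rw [hbot] at this
      exact le_bot_iff.mp this
  have hlt : H < K := by
    refine lt_of_le_of_ne hHK ?_
    intro h
    have h1 : Nat.card Ebar * Nat.card H = 1 * Nat.card H := by rw [← hKcard, ← h, one_mul]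
    have h2 := Nat.eq_of_mul_eq_mul_right Nat.card_pos h1
    exact hEbarne (Subgroup.card_eq_one.mp h2)
  have hcopHE : (Nat.card H).Coprime (Nat.card Ebar) := coprime_of_pi hHpi hEbarpi
  -- a complement of `H` in `K`
  obtain ⟨N, hNdef⟩ : ∃ N, N = H.subgroupOf K := ⟨_, rfl⟩
  haveI hNn : N.Normal := by rw [hNdef]; exact Subgroup.normal_subgroupOf
  have hNcard : Nat.card N = Nat.card H := by
    rw [hNdef]; exact Cfsg.Agent.Lib.Helper1_Transport.card_subgroupOf hHK
  have hNidx : N.index = Nat.card Ebar := by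
    have h1 := N.card_mul_index
    rw [hNcard, hKcard, mul_comm] at h1
    exact Nat.eq_of_mul_eq_mul_right Nat.card_pos h1
  have hNcop : (Nat.card N).Coprime N.index := by rw [hNcard, hNidx]; exact hcopHE
  obtain ⟨C, hC⟩ := Subgroup.exists_right_complement'_of_coprime hNcop
  have hCcard : Nat.card C = Nat.card Ebar := by
    rw [← hNidx]; exact Cfsg.Agent.Lib.Helper1_SZ.card_eq_index_of_isComplement' N C hC
  have hCne : C ≠ ⊥ := by
    intro h
    rw [h, Subgroup.card_bot] at hCcard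
    exact hEbarne (Subgroup.card_eq_one.mp hCcard.symm)
  have hNne : N ≠ ⊥ := by
    intro h
    rw [h, Subgroup.card_bot] at hNcard
    exact hHne (Subgroup.card_eq_one.mp hNcard.symm)
  have hNCK : NC A ↥K := hNC.of_injective K.subtype K.subtype_injective
  have hCpi : ∀ r : ℕ, r.Prime → r ∣ Nat.card C → r ∉ A := by rw [hCcard]; exact hEbarpi
  have hNpi : ∀ r : ℕ, r.Prime → r ∣ Nat.card N → r ∈ A := by rw [hNcard]; exact hHpi
  have hfrobK := Cfsg.Agent.S4108.frobenius_of_fpf N C hC.sup_eq_top hC.disjoint.eq_bot hNne hCne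
    (by
      intro h hh hh1 n hn hcomm
      rcases hNCK n h hcomm.symm (pi_orderOf hn hNpi) (pi_orderOf hh hCpi) with h2 | h2
      · exact h2
      · exact absurd h2 hh1)
  by_cases hKtop : K = ⊤
  · left
    let e : ↥K ≃* G := (MulEquiv.subgroupCongr hKtop).trans Subgroup.topEquiv
    exact ⟨C.map e.toMonoidHom,
      Cfsg.Agent.Lib.Helper71_Frobenius.isFrobeniusComplement_map_equiv e C hfrobK.1⟩
  · right
    refine ⟨H, K, hHn, hKn, hlt, ⟨C, hfrobK.1, by rw [hfrobK.2, hNdef]⟩, ?_⟩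
    obtain ⟨E0, hE0def⟩ : ∃ E0, E0 = C.map K.subtype := ⟨_, rfl⟩
    have hE0K : E0 ≤ K := by rw [hE0def]; exact Subgroup.map_subtype_le C
    have hE0card : Nat.card E0 = Nat.card Ebar := by
      rw [hE0def, Subgroup.card_map_of_injective K.subtype_injective, hCcard]
    have hE0pi : ∀ r : ℕ, r.Prime → r ∣ Nat.card E0 → r ∉ A := by rw [hE0card]; exact hEbarpi
    have hE0sub : E0.subgroupOf K = C := by
      rw [hE0def]; exact Subgroup.comap_map_eq_self_of_injective K.subtype_injective C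
    have hHE0 : H ⊓ E0 = ⊥ := disjoint_iff.mp
      (Subgroup.disjoint_of_coprime_natCard (by rw [hE0card]; exact hcopHE))
    have hHE0sup : H ⊔ E0 = K := by
      have h1 := congrArg (Subgroup.map K.subtype) hC.sup_eq_top
      rw [Subgroup.map_sup, hNdef, Subgroup.map_subgroupOf_eq_of_le hHK, ← hE0def,
        ← MonoidHom.range_eq_map, Subgroup.range_subtype] at h1
      exact h1
    have hE0ne : E0 ≠ ⊥ := by
      intro h
      rw [h, Subgroup.card_bot] at hE0card
      exact hEbarne (Subgroup.card_eq_one.mp hE0card.symm)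
    obtain ⟨X, hXdef⟩ : ∃ X, X = Subgroup.normalizer (E0 : Set G) := ⟨_, rfl⟩
    have hXle : X ≤ Subgroup.normalizer (E0 : Set G) := le_of_eq hXdef
    have hE0X : E0 ≤ X := by rw [hXdef]; exact Subgroup.le_normalizer
    -- `H ⊓ X = ⊥`
    have hHX : H ⊓ X = ⊥ := by
      rw [Subgroup.eq_bot_iff_forall]
      intro h hh0
      obtain ⟨hhH, hhX⟩ := Subgroup.mem_inf.mp hh0
      obtain ⟨⟨e, he⟩, he1⟩ := (Subgroup.ne_bot_iff_exists_ne_one).mp hE0ne
      have he1' : e ≠ 1 := fun h => he1 (Subtype.ext h)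
      have h1 : h * e * h⁻¹ ∈ E0 := (Subgroup.mem_normalizer_iff.mp (hXle hhX) e).mp he
      have h2 : h * e * h⁻¹ * e⁻¹ ∈ H ⊓ E0 := by
        refine Subgroup.mem_inf.mpr ⟨?_, E0.mul_mem h1 (E0.inv_mem he)⟩
        have : h * e * h⁻¹ * e⁻¹ = h * (e * h⁻¹ * e⁻¹) := by group
        rw [this]
        exact H.mul_mem hhH (hHn.conj_mem _ (H.inv_mem hhH) e)
      rw [hHE0, Subgroup.mem_bot] at h2
      have h3 : h * e = e * h := by
        calc h * e = (h * e * h⁻¹ * e⁻¹) * (e * h) := by group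
          _ = e * h := by rw [h2, one_mul]
      rcases hNC h e h3 (pi_orderOf hhH hHpi) (pi_orderOf he hE0pi) with h4 | h4
      · exact h4
      · exact absurd h4 he1'
    -- Frattini argument: `H ⊔ X = ⊤`
    have hHXsup : H ⊔ X = ⊤ := by
      rw [eq_top_iff]
      intro g _
      have hE1K : MulAut.conj g • E0 ≤ K := by
        intro x hx
        rw [Cfsg.Agent.Lib.Helper1_Transport.mem_conj_smul_iff] at hx
        have := hKn.conj_mem _ (hE0K hx) g
        have h2 : g * (g⁻¹ * x * g) * g⁻¹ = x := by group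
        rwa [h2] at this
      obtain ⟨k, hk⟩ := Cfsg.Agent.Lib.Helper1_SZ.sz_conj_card N hNcop (Or.inl inferInstance)
        (E0.subgroupOf K) ((MulAut.conj g • E0).subgroupOf K)
        (by rw [Cfsg.Agent.Lib.Helper1_Transport.card_subgroupOf hE0K, hE0card, hNidx])
        (by rw [Cfsg.Agent.Lib.Helper1_Transport.card_subgroupOf hE1K,
          Cfsg.Agent.Lib.Helper1_Transport.card_conj_smul, hE0card, hNidx])
      have hk' := Cfsg.Agent.Lib.Helper1_Transport.conj_of_subgroupOf hE0K hE1K k hk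
      have hmem : (k : G)⁻¹ * g ∈ X := by
        apply hXdef ▸ (Cfsg.Agent.Lib.Helper1_Glauberman.conj_smul_eq_self_iff _ E0).mp _
        rw [map_mul, mul_smul, ← hk', ← mul_smul, ← map_mul, inv_mul_cancel, map_one, one_smul]
      have hg : g = (k : G) * ((k : G)⁻¹ * g) := by group
      rw [hg]
      refine Subgroup.mul_mem _ ?_ (le_sup_right (a := H) hmem)
      have : (k : G) ∈ H ⊔ E0 := hHE0sup ▸ k.2
      exact sup_le_sup_left hE0X H this
    -- the complement `X ≅ G ⧸ H`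
    obtain ⟨E, hEdef⟩ : ∃ E, E = E0.subgroupOf X := ⟨_, rfl⟩
    haveI hEn : E.Normal := by
      rw [hEdef]; exact (Subgroup.normal_subgroupOf_iff_le_normalizer hE0X).mpr hXle
    have hEcard : Nat.card E = Nat.card E0 := by
      rw [hEdef]; exact Cfsg.Agent.Lib.Helper1_Transport.card_subgroupOf hE0X
    have hEne : E ≠ ⊥ := by
      intro h
      rw [h, Subgroup.card_bot] at hEcard
      exact hE0ne (Subgroup.card_eq_one.mp hEcard.symm)
    have hEpi : ∀ r : ℕ, r.Prime → r ∣ Nat.card E → r ∉ A := by rw [hEcard]; exact hE0pi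
    have hmax : ∀ R : Subgroup ↥X, R.Normal → E ≤ R →
        (∀ r : ℕ, r.Prime → r ∣ Nat.card R → r ∉ A) → R = E := by
      intro R hRn hER hRpi
      obtain ⟨R', hR'def⟩ : ∃ R', R' = R.map X.subtype := ⟨_, rfl⟩
      have hR'X : R' ≤ X := by rw [hR'def]; exact Subgroup.map_subtype_le R
      have hR'card : Nat.card R' = Nat.card R := by
        rw [hR'def]; exact Subgroup.card_map_of_injective X.subtype_injective
      have hR'sub : R'.subgroupOf X = R := by
        rw [hR'def]; exact Subgroup.comap_map_eq_self_of_injective X.subtype_injective R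
      have hE0R' : E0 ≤ R' := by
        rw [hR'def, ← Subgroup.map_subgroupOf_eq_of_le hE0X, ← hEdef]
        exact Subgroup.map_mono hER
      have hXR' : X ≤ Subgroup.normalizer (R' : Set G) := by
        rw [← Subgroup.normal_subgroupOf_iff_le_normalizer hR'X, hR'sub]; exact hRn
      obtain ⟨M, hMdef⟩ : ∃ M, M = H ⊔ R' := ⟨_, rfl⟩
      have hMn : M.Normal := by
        rw [← Subgroup.normalizer_eq_top_iff, eq_top_iff, ← hHXsup]
        apply sup_le
        · exact (hMdef ▸ le_sup_left : H ≤ M).trans Subgroup.le_normalizer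
        · intro x hx
          rw [← Cfsg.Agent.Lib.Helper1_Glauberman.conj_smul_eq_self_iff, hMdef, Subgroup.smul_sup,
            Subgroup.Normal.conj_smul_eq_self,
            (Cfsg.Agent.Lib.Helper1_Glauberman.conj_smul_eq_self_iff x R').mpr (hXR' hx)]
      have hMbar : M.map (QuotientGroup.mk' H) ≤ Ebar := by
        apply hEbarmax _ (hMn.map _ (QuotientGroup.mk'_surjective H))
        intro r hr hrd
        have h1 : M.map (QuotientGroup.mk' H) = R'.map (QuotientGroup.mk' H) := by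
          rw [hMdef, Subgroup.map_sup, QuotientGroup.map_mk'_self, bot_sup_eq]
        rw [h1] at hrd
        exact hRpi r hr (hR'card ▸ hrd.trans (Subgroup.card_map_dvd R' _))
      have hMK : M ≤ K := by rw [hKdef]; exact Subgroup.map_le_iff_le_comap.mp hMbar
      have hR'K : R' ≤ K := (hMdef ▸ le_sup_right : R' ≤ M).trans hMK
      have hR'H : R' ⊓ H = ⊥ := by
        rw [eq_bot_iff, ← hHX, inf_comm]; exact inf_le_inf_left H hR'X
      have h1 : Nat.card (R' ⊔ H : Subgroup G) = Nat.card R' * Nat.card H :=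
        Cfsg.Agent.Lib.Helper1_FPF.card_sup_of_le_normalizer R' H
          (by rw [Subgroup.normalizer_eq_top]; exact le_top) hR'H
      have h2 : Nat.card (R' ⊔ H : Subgroup G) ∣ Nat.card K :=
        Subgroup.card_dvd_of_le (sup_le hR'K hHK)
      rw [h1, hKcard] at h2
      have h3 : Nat.card R' ∣ Nat.card Ebar := Nat.dvd_of_mul_dvd_mul_right Nat.card_pos h2
      have h4 : E0 = R' := Subgroup.eq_of_le_of_card_ge hE0R'
        (by rw [hE0card]; exact Nat.le_of_dvd Nat.card_pos h3)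
      rw [hEdef, h4]; exact hR'sub.symm
    have hNCX : NC A ↥X := hNC.of_injective X.subtype X.subtype_injective
    have hidxpi := index_isPi (X := ↥X) A hNCX
      (hZ1.of_injective X.subtype X.subtype_injective)
      (hZ2.of_injective X.subtype X.subtype_injective) E hEne hEpi hmax
    obtain ⟨C', hC'⟩ := Subgroup.exists_right_complement'_of_coprime (N := E)
      (coprime_of_pi hidxpi hEpi).symm
    have hC'card : Nat.card C' = E.index :=
      Cfsg.Agent.Lib.Helper1_SZ.card_eq_index_of_isComplement' E C' hC'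
    have hC'pi : ∀ r : ℕ, r.Prime → r ∣ Nat.card C' → r ∈ A := by rw [hC'card]; exact hidxpi
    have hC'ne : C' ≠ ⊥ := by
      intro h
      rw [h, Subgroup.card_bot] at hC'card
      have hEtop : E = ⊤ := Subgroup.index_eq_one.mp hC'card.symm
      apply hKtop
      rw [eq_top_iff, ← hHXsup]
      apply sup_le hHK
      intro x hx
      have h1 : (⟨x, hx⟩ : ↥X) ∈ E := by rw [hEtop]; exact Subgroup.mem_top _
      rw [hEdef, Subgroup.mem_subgroupOf] at h1
      exact hE0K h1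
    have hfrobX := Cfsg.Agent.S4108.frobenius_of_fpf E C' hC'.sup_eq_top hC'.disjoint.eq_bot
      hEne hC'ne (by
        intro h hh hh1 n hn hcomm
        rcases hNCX h n hcomm (pi_orderOf hh hC'pi) (pi_orderOf hn hEpi) with h2 | h2
        · exact absurd h2 hh1
        · exact h2)
    -- the isomorphism `X ≃* G ⧸ H`
    let f : ↥X →* G ⧸ H := (QuotientGroup.mk' H).comp X.subtype
    have hfinj : Function.Injective f := by
      rw [injective_iff_map_eq_one]
      intro x hx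
      have h1 : (x : G) ∈ H := (QuotientGroup.eq_one_iff _).mp hx
      have h2 : (x : G) ∈ H ⊓ X := Subgroup.mem_inf.mpr ⟨h1, x.2⟩
      rw [hHX, Subgroup.mem_bot] at h2
      exact Subtype.ext h2
    have hfsurj : Function.Surjective f := by
      intro z
      obtain ⟨g, rfl⟩ := QuotientGroup.mk'_surjective H z
      have hg : g ∈ H ⊔ X := hHXsup ▸ Subgroup.mem_top g
      obtain ⟨h, hh, x, hx, rfl⟩ := Subgroup.mem_sup_of_normal_left.mp hg
      refine ⟨⟨x, hx⟩, ?_⟩
      change QuotientGroup.mk' H x = QuotientGroup.mk' H (h * x)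
      have h1 : QuotientGroup.mk' H h = 1 := (QuotientGroup.eq_one_iff h).mpr hh
      rw [map_mul, h1, one_mul]
    let e : ↥X ≃* G ⧸ H := MulEquiv.ofBijective f ⟨hfinj, hfsurj⟩
    refine ⟨C'.map e.toMonoidHom,
      Cfsg.Agent.Lib.Helper71_Frobenius.isFrobeniusComplement_map_equiv e C' hfrobX.1, ?_⟩
    rw [Cfsg.Agent.Lib.Helper71_Frobenius.frobeniusKernel_map_equiv e C', hfrobX.2]
    ext z
    constructor
    · rintro ⟨x, hx, rfl⟩
      rw [SetLike.mem_coe, hEdef, Subgroup.mem_subgroupOf] at hx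
      exact ⟨(x : G), hE0K hx, rfl⟩
    · rintro ⟨k, hk, rfl⟩
      rw [SetLike.mem_coe, ← hHE0sup] at hk
      obtain ⟨h, hh, e0, he0, rfl⟩ := Subgroup.mem_sup_of_normal_left.mp hk
      refine ⟨⟨e0, hE0X he0⟩, ?_, ?_⟩
      · rw [SetLike.mem_coe, hEdef, Subgroup.mem_subgroupOf]; exact he0
      · change QuotientGroup.mk' H e0 = QuotientGroup.mk' H (h * e0)
        have h1 : QuotientGroup.mk' H h = 1 := (QuotientGroup.eq_one_iff h).mpr hh
        rw [map_mul, h1, one_mul]


/-- A finite solvable group whose prime graph (prime divisors of the order, two distinct primes joined when there is an element of order their product) is disconnected is a Frobenius group or a 2-Frobenius group (it has normal subgroups H < K with K a Frobenius group with kernel H and G/H a Frobenius group with kernel K/H). -/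
theorem result {G : Type*} [Group G] [Finite G] (hsol : Group.IsSolvable G)
    (hdisc : (∃ A : Set ℕ, (∃ a ∈ A, a.Prime ∧ a ∣ Nat.card G) ∧ (∃ b ∉ A, b.Prime ∧ b ∣ Nat.card G) ∧
      ∀ a ∈ A, ∀ b ∉ A, a.Prime → b.Prime → a ∣ Nat.card G → b ∣ Nat.card G → ¬ ∃ g : G, orderOf g = a * b)) :
    (∃ C : Subgroup G, Cfsg.IsFrobeniusComplement C) ∨
    (∃ (H K : Subgroup G) (_ : H.Normal), K.Normal ∧ H < K ∧
      (∃ C : Subgroup ↥K, Cfsg.IsFrobeniusComplement C ∧ Cfsg.frobeniusKernel C = (H.subgroupOf K : Set ↥K)) ∧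
      (∃ C : Subgroup (G ⧸ H), Cfsg.IsFrobeniusComplement C ∧ Cfsg.frobeniusKernel C = (K.map (QuotientGroup.mk' H) : Set (G ⧸ H)))) := by
  obtain ⟨A, ha, hb, hAB⟩ := hdisc
  haveI := hsol
  haveI : Nontrivial G := by
    obtain ⟨a, -, hap, had⟩ := ha
    rw [← Finite.one_lt_card_iff_nontrivial]
    exact lt_of_lt_of_le hap.one_lt (Nat.le_of_dvd Nat.card_pos had)
  obtain ⟨M, p, hMn, hM1, hp, hMp⟩ :=
    Cfsg.Agent.Lib.Helper1_SZ.exists_normal_pSubgroup (Q := G) hsol
  haveI : Fact p.Prime := ⟨hp⟩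
  obtain ⟨k, hk⟩ := IsPGroup.iff_card.mp hMp
  by_cases hpA : p ∈ A
  · have h := core A (nc_of_hyp A hAB) (by
      intro h
      apply hM1
      have h1 : M ≤ piCore A G := Cfsg.Agent.S1886.le_piCore hMn (pi_of_card_pow hp hpA hk)
      rw [h] at h1
      exact le_bot_iff.mp h1) hb
    exact h
  · have hAB' : ∀ a ∈ Aᶜ, ∀ b ∉ Aᶜ, a.Prime → b.Prime → a ∣ Nat.card G → b ∣ Nat.card G →
        ¬ ∃ g : G, orderOf g = a * b := by
      intro a haA b hbA hap hbp had hbd
      rw [Set.notMem_compl_iff] at hbA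
      rw [mul_comm]
      exact hAB b hbA a haA hbp hap hbd had
    have h := core Aᶜ (nc_of_hyp Aᶜ hAB') (by
      intro h
      apply hM1
      have h1 : M ≤ piCore Aᶜ G :=
        Cfsg.Agent.S1886.le_piCore hMn (pi_of_card_pow (A := Aᶜ) hp hpA hk)
      rw [h] at h1
      exact le_bot_iff.mp h1) (by
      obtain ⟨a, haA, hap, had⟩ := ha
      exact ⟨a, Set.notMem_compl_iff.mpr haA, hap, had⟩)
    exact h

end Cfsg.Agent.S3857
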