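import Cfsg.Statements.S3858
import Mathlib

set_option autoImplicit false
open Cfsg
open scoped Pointwise

namespace Cfsg.Agent.S3858

variable {G : Type*} [Group G]

/-- conjugate of a subgroup, in the form used by the statement -/
def cj (g : G) (M : Subgroup G) : Subgroup G := M.map (MulAut.conj g).toMonoidHom

lemma mem_cj {g x : G} {M : Subgroup G} : x ∈ cj g M ↔ g⁻¹ * x * g ∈ M := by
  unfold cj
  rw [Subgroup.mem_map_equiv]
  simp [MulAut.conj_symm_apply]

lemma cj_mul (a b : G) (M : Subgroup G) : cj a (cj b M) = cj (a * b) M := by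
  ext x
  simp only [mem_cj, mul_inv_rev, mul_assoc]

lemma cj_mem {m : G} {M : Subgroup G} (h : m ∈ M) : cj m M = M := by
  ext x
  rw [mem_cj]
  constructor
  · intro hx
    have := M.mul_mem (M.mul_mem h hx) (M.inv_mem h)
    simpa [mul_assoc] using this
  · intro hx
    exact M.mul_mem (M.mul_mem (M.inv_mem h) hx) h

lemma cj_mono {g : G} {A B : Subgroup G} (h : A ≤ B) : cj g A ≤ cj g B :=
  Subgroup.map_mono h

lemma cj_inv_cj (g : G) (M : Subgroup G) : cj g⁻¹ (cj g M) = M := by
  rw [cj_mul]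
  ext x
  simp [mem_cj]

lemma isCoatom_cj {g : G} {M : Subgroup G} (h : IsCoatom M) : IsCoatom (cj g M) := by
  have : cj g M = (MulAut.conj g).mapSubgroup M := rfl
  rw [this, OrderIso.isCoatom_iff]
  exact h

lemma index_cj (g : G) (M : Subgroup G) : (cj g M).index = M.index :=
  Subgroup.index_map_equiv M (MulAut.conj g)

lemma sylow_smul_coe {r : ℕ} (g : G) (R : Sylow r G) :
    ((g • R : Sylow r G) : Subgroup G) = cj g (R : Subgroup G) := by
  rw [Sylow.coe_subgroup_smul, Subgroup.pointwise_smul_def]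
  rfl

/-- a subgroup of index prime to `r` contains a conjugate of every Sylow `r`-subgroup -/
lemma exists_le_cj [Finite G] {r : ℕ} [Fact r.Prime] (R : Sylow r G) (M : Subgroup G)
    (hM : ¬ r ∣ M.index) : ∃ g : G, (R : Subgroup G) ≤ cj g M := by
  obtain ⟨Q₀⟩ : Nonempty (Sylow r M) := inferInstance
  have hQp : IsPGroup r ((Q₀ : Subgroup M).map M.subtype) := Q₀.isPGroup'.map _
  have hQidx : ¬ r ∣ ((Q₀ : Subgroup M).map M.subtype).index := by
    have h1 : ((Q₀ : Subgroup M).map M.subtype).index = (Q₀ : Subgroup M).index * M.index := by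
      exact Subgroup.index_map_subtype _
    rw [h1]
    intro h
    rcases (Nat.Prime.dvd_mul Fact.out).mp h with h | h
    · exact Q₀.not_dvd_index h
    · exact hM h
  let Q : Sylow r G := hQp.toSylow hQidx
  obtain ⟨g, hg⟩ := MulAction.exists_smul_eq G Q R
  refine ⟨g, ?_⟩
  have h1 : (R : Subgroup G) = cj g (Q : Subgroup G) := by
    rw [← hg, sylow_smul_coe]
  rw [h1]
  apply cj_mono
  change (Q₀ : Subgroup M).map M.subtype ≤ M
  exact Subgroup.map_subtype_le _

lemma relIndex_sup_eq' [Finite G] (R T : Subgroup G) [T.Normal] :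
    R.relIndex (R ⊔ T) = R.relIndex T := by
  have e1 : Nat.card (R ⊓ T : Subgroup G) * T.relIndex R = Nat.card R := by
    rw [← Subgroup.inf_relIndex_left, ← Subgroup.relIndex_bot_left, ← Subgroup.relIndex_bot_left,
      inf_comm]
    exact Subgroup.relIndex_mul_relIndex _ _ _ bot_le inf_le_right
  have e2 : Nat.card (R ⊓ T : Subgroup G) * R.relIndex T = Nat.card T := by
    rw [← Subgroup.inf_relIndex_right, ← Subgroup.relIndex_bot_left, ← Subgroup.relIndex_bot_left]
    exact Subgroup.relIndex_mul_relIndex _ _ _ bot_le inf_le_right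
  have e3 : Nat.card T * T.relIndex R = Nat.card (R ⊔ T : Subgroup G) := by
    rw [← Subgroup.relIndex_sup_right, ← Subgroup.relIndex_bot_left, ← Subgroup.relIndex_bot_left]
    exact Subgroup.relIndex_mul_relIndex _ _ _ bot_le le_sup_right
  have e4 : Nat.card R * R.relIndex (R ⊔ T) = Nat.card (R ⊔ T : Subgroup G) := by
    rw [← Subgroup.relIndex_bot_left, ← Subgroup.relIndex_bot_left]
    exact Subgroup.relIndex_mul_relIndex _ _ _ bot_le le_sup_left
  have hpos : 0 < Nat.card (R ⊓ T : Subgroup G) * T.relIndex R := by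
    rw [e1]; exact Nat.card_pos
  have : Nat.card (R ⊓ T : Subgroup G) * T.relIndex R * R.relIndex (R ⊔ T) =
      Nat.card (R ⊓ T : Subgroup G) * T.relIndex R * R.relIndex T := by
    calc Nat.card (R ⊓ T : Subgroup G) * T.relIndex R * R.relIndex (R ⊔ T)
        = Nat.card R * R.relIndex (R ⊔ T) := by rw [e1]
      _ = Nat.card T * T.relIndex R := by rw [e4, e3]
      _ = Nat.card (R ⊓ T : Subgroup G) * R.relIndex T * T.relIndex R := by rw [e2]
      _ = _ := by ring
  exact Nat.eq_of_mul_eq_mul_left hpos this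

/-- a simple non-commutative group is not a `p`-group -/
lemma not_isPGroup_of_simple {T : Type*} [Group T] [Finite T] (hT : IsSimpleGroup T)
    (hna : ¬ IsMulCommutative T) (r : ℕ) [Fact r.Prime] : ¬ IsPGroup r T := by
  intro hp
  have : Nontrivial T := IsSimpleGroup.toNontrivial
  have hc : Nontrivial (Subgroup.center T) := hp.center_nontrivial
  have hne : Subgroup.center T ≠ ⊥ := by
    intro h
    rw [h] at hc
    exact not_nontrivial _ hc
  have htop : Subgroup.center T = ⊤ :=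
    (Subgroup.Normal.eq_bot_or_eq_top (inferInstance : (Subgroup.center T).Normal)).resolve_left hne
  apply hna
  refine ⟨⟨fun a b => ?_⟩⟩
  have hb : b ∈ Subgroup.center T := by rw [htop]; trivial
  exact (Subgroup.mem_center_iff.mp hb a)

lemma not_normal_inf [Finite G] (T : Subgroup G) [T.Normal]
    (hT : IsSimpleGroup T) (hna : ¬ IsMulCommutative T) {r : ℕ} [Fact r.Prime]
    (X : Subgroup G) (hX : IsPGroup r X) (hXT : X ⊓ T ≠ ⊥) : ¬ (X ⊓ T).Normal := by
  intro hn
  have hn' : ((X ⊓ T).subgroupOf T).Normal := Subgroup.Normal.subgroupOf hn T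
  rcases Subgroup.Normal.eq_bot_or_eq_top hn' with h | h
  · rw [Subgroup.subgroupOf_eq_bot] at h
    apply hXT
    rw [← inf_idem (a := T), ← inf_assoc]
    exact disjoint_iff.mp h
  · rw [Subgroup.subgroupOf_eq_top] at h
    have hTX : T ≤ X := h.trans inf_le_left
    have : IsPGroup r T := hX.to_le hTX
    exact not_isPGroup_of_simple hT hna r this

theorem result {G : Type*} [Group G] [Finite G] (T : Subgroup G) [T.Normal] (hT : IsSimpleGroup T) (hna : ¬ IsMulCommutative T)
    (hC : Subgroup.centralizer (T : Set G) = ⊥) {r : ℕ} [Fact r.Prime] (R : Sylow r G) (hR0 : (R : Subgroup G) ⊓ T ≠ ⊥) :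
    (∃! M : Subgroup G, IsCoatom M ∧ (R : Subgroup G) ≤ M) ↔
      ((∃ M : Subgroup G, IsCoatom M ∧ ¬ r ∣ M.index) ∧
        ∀ M₁ M₂ : Subgroup G, IsCoatom M₁ → ¬ r ∣ M₁.index → IsCoatom M₂ → ¬ r ∣ M₂.index → ∃ g : G, M₂ = M₁.map (MulAut.conj g).toMonoidHom) := by
  have hidx : ∀ M : Subgroup G, (R : Subgroup G) ≤ M → ¬ r ∣ M.index := by
    intro M hRM h
    exact R.not_dvd_index (h.trans (Subgroup.index_dvd_of_le hRM))
  constructor
  · rintro ⟨M, ⟨hMco, hRM⟩, hMuniq⟩
    refine ⟨⟨M, hMco, hidx M hRM⟩, ?_⟩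
    intro M₁ M₂ h1 h1' h2 h2'
    obtain ⟨g₁, hg₁⟩ := exists_le_cj R M₁ h1'
    obtain ⟨g₂, hg₂⟩ := exists_le_cj R M₂ h2'
    have e1 := hMuniq _ ⟨isCoatom_cj h1, hg₁⟩
    have e2 := hMuniq _ ⟨isCoatom_cj h2, hg₂⟩
    refine ⟨g₂⁻¹ * g₁, ?_⟩
    change M₂ = cj (g₂⁻¹ * g₁) M₁
    rw [← cj_mul, e1, ← e2, cj_inv_cj]
  · rintro ⟨⟨M₀, hM₀, hM₀'⟩, hconj⟩
    -- R is not normal
    have hRn : ¬ (R : Subgroup G).Normal := by
      intro hn
      have : ((R : Subgroup G) ⊓ T).Normal := by
        have := hn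
        infer_instance
      exact not_normal_inf T hT hna (R : Subgroup G) R.isPGroup' hR0 this
    have hNtop : Subgroup.normalizer ((R : Subgroup G) : Set G) ≠ ⊤ := by
      rw [Ne, Subgroup.normalizer_eq_top_iff]
      exact hRn
    obtain ⟨M, hM, hNM⟩ := (eq_top_or_exists_le_coatom _).resolve_left hNtop
    have hRM : (R : Subgroup G) ≤ M := Subgroup.le_normalizer.trans hNM
    refine ⟨M, ⟨hM, hRM⟩, ?_⟩
    rintro M' ⟨hM', hRM'⟩
    obtain ⟨g, hg⟩ := hconj M M' hM (hidx M hRM) hM' (hidx M' hRM')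
    change M' = cj g M at hg
    -- g • R ≤ M'
    have hgR : ((g • R : Sylow r G) : Subgroup G) ≤ M' := by
      rw [sylow_smul_coe, hg]
      exact cj_mono hRM
    obtain ⟨m, hm⟩ := MulAction.exists_smul_eq M' ((g • R).subtype hgR) (R.subtype hRM')
    rw [Sylow.smul_subtype] at hm
    have hm' : (m : G) • (g • R) = R := Sylow.subtype_injective hm
    rw [← mul_smul, Sylow.smul_eq_iff_mem_normalizer] at hm'
    have hmg : (m : G) * g ∈ M := hNM hm'
    calc M' = cj (m : G) M' := (cj_mem m.2).symm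
      _ = cj (m : G) (cj g M) := by rw [← hg]
      _ = cj ((m : G) * g) M := cj_mul _ _ _
      _ = M := cj_mem hmg

end Cfsg.Agent.S3858
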