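import Cfsg.Statements.S3859
import Mathlib

set_option autoImplicit false
open Cfsg

namespace Cfsg.Agent.S3859


lemma relIndex_sup_eq' {G : Type*} [Group G] [Finite G] (R T : Subgroup G) [T.Normal] :
    R.relIndex (R ⊔ T) = R.relIndex T := by
  have e1 : Nat.card (R ⊓ T : Subgroup G) * T.relIndex R = Nat.card R := by
    rw [← Subgroup.inf_relIndex_left, ← Subgroup.relIndex_bot_left, ← Subgroup.relIndex_bot_left,
      inf_comm]
    exact Subgroup.relIndex_mul_relIndex _ _ _ bot_le inf_le_right
  have e2 : Nat.card (R ⊓ T : Subgroup G) * R.relIndex T = Nat.card T := by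
    rw [← Subgroup.inf_relIndex_right, ← Subgroup.relIndex_bot_left, ← Subgroup.relIndex_bot_left]
    exact Subgroup.relIndex_mul_relIndex _ _ _ bot_le inf_le_right
  have e3 : Nat.card T * T.relIndex R = Nat.card (R ⊔ T : Subgroup G) := by
    rw [← Subgroup.relIndex_sup_right, ← Subgroup.relIndex_bot_left, ← Subgroup.relIndex_bot_left]
    exact Subgroup.relIndex_mul_relIndex _ _ _ bot_le le_sup_right
  have e4 : Nat.card R * R.relIndex (R ⊔ T) = Nat.card (R ⊔ T : Subgroup G) := by
    rw [← Subgroup.relIndex_bot_left, ← Subgroup.relIndex_bot_left]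
    exact Subgroup.relIndex_mul_relIndex _ _ _ bot_le le_sup_left
  have hpos : 0 < Nat.card (R ⊓ T : Subgroup G) * T.relIndex R := by
    rw [e1]; exact Nat.card_pos
  have : Nat.card (R ⊓ T : Subgroup G) * T.relIndex R * R.relIndex (R ⊔ T) =
      Nat.card (R ⊓ T : Subgroup G) * T.relIndex R * R.relIndex T := by
    calc Nat.card (R ⊓ T : Subgroup G) * T.relIndex R * R.relIndex (R ⊔ T)
        = Nat.card R * R.relIndex (R ⊔ T) := by rw [e1]
      _ = Nat.card T * T.relIndex R := by rw [e4, e3]
      _ = Nat.card (R ⊓ T : Subgroup G) * R.relIndex T * T.relIndex R := by rw [e2]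
      _ = _ := by ring
  exact Nat.eq_of_mul_eq_mul_left hpos this

/-- a simple non-commutative group is not a `p`-group -/
lemma not_isPGroup_of_simple {T : Type*} [Group T] [Finite T] (hT : IsSimpleGroup T)
    (hna : ¬ IsMulCommutative T) (r : ℕ) [Fact r.Prime] : ¬ IsPGroup r T := by
  intro hp
  have : Nontrivial T := IsSimpleGroup.toNontrivial
  have hc : Nontrivial (Subgroup.center T) := hp.center_nontrivial
  have hne : Subgroup.center T ≠ ⊥ := by
    intro h
    rw [h] at hc
    exact not_nontrivial _ hc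
  have htop : Subgroup.center T = ⊤ :=
    (Subgroup.Normal.eq_bot_or_eq_top (inferInstance : (Subgroup.center T).Normal)).resolve_left hne
  apply hna
  refine ⟨⟨fun a b => ?_⟩⟩
  have hb : b ∈ Subgroup.center T := by rw [htop]; trivial
  exact (Subgroup.mem_center_iff.mp hb a)

/-- In the almost simple setting, the intersection of an `r`-subgroup with the socle is never a
nontrivial normal subgroup. -/
lemma not_normal_inf {G : Type*} [Group G] [Finite G] (T : Subgroup G) [T.Normal]
    (hT : IsSimpleGroup T) (hna : ¬ IsMulCommutative T) {r : ℕ} [Fact r.Prime]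
    (X : Subgroup G) (hX : IsPGroup r X) (hXT : X ⊓ T ≠ ⊥) : ¬ (X ⊓ T).Normal := by
  intro hn
  have hn' : ((X ⊓ T).subgroupOf T).Normal := Subgroup.Normal.subgroupOf hn T
  rcases Subgroup.Normal.eq_bot_or_eq_top hn' with h | h
  · rw [Subgroup.subgroupOf_eq_bot] at h
    apply hXT
    rw [← inf_idem (a := T), ← inf_assoc]
    exact disjoint_iff.mp h
  · rw [Subgroup.subgroupOf_eq_top] at h
    have hTX : T ≤ X := h.trans inf_le_left
    have : IsPGroup r T := hX.to_le hTX
    exact not_isPGroup_of_simple hT hna r this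

theorem result {G : Type*} [Group G] [Finite G] (T : Subgroup G) [T.Normal] (hT : IsSimpleGroup T) (hna : ¬ IsMulCommutative T)
    (hC : Subgroup.centralizer (T : Set G) = ⊥) {r : ℕ} [Fact r.Prime] (R : Sylow r G) (hR0 : (R : Subgroup G) ⊓ T ≠ ⊥)
    (huniq : ∃! M : Subgroup G, IsCoatom M ∧ (R : Subgroup G) ≤ M) : IsPGroup r (G ⧸ T) := by
  obtain ⟨M, ⟨hMco, hRM⟩, hMuniq⟩ := huniq
  have hkey : ∀ H : Subgroup G, (R : Subgroup G) ≤ H → H ≠ ⊤ → H ≤ M := by
    intro H hRH hH
    obtain ⟨M', hM', hHM'⟩ := (eq_top_or_exists_le_coatom H).resolve_left hH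
    have := hMuniq M' ⟨hM', hRH.trans hHM'⟩
    rwa [this] at hHM'
  set D := (R : Subgroup G) ⊓ T with hD
  have hDp : IsPGroup r (D.subgroupOf T) := by
    have h1 : IsPGroup r D := R.isPGroup'.to_le inf_le_left
    exact h1.comap_of_injective (T.subtype) (Subgroup.subtype_injective T)
  have hDidx : ¬ r ∣ (D.subgroupOf T).index := by
    have h1 : (D.subgroupOf T).index = (R : Subgroup G).relIndex T := by
      change D.relIndex T = _
      rw [hD, Subgroup.inf_relIndex_right]
    rw [h1]
    intro h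
    -- relIndex R T ∣ index R
    have h2 : (R : Subgroup G).relIndex T ∣ (R : Subgroup G).index := by
      rw [← relIndex_sup_eq']
      exact Subgroup.relIndex_dvd_index_of_le le_sup_left
    exact R.not_dvd_index (h.trans h2)
  let P : Sylow r T := hDp.toSylow hDidx
  have hfr := Sylow.normalizer_sup_eq_top P
  have hPmap : (P : Subgroup T).map T.subtype = D := by
    change (D.subgroupOf T).map T.subtype = D
    rw [Subgroup.subgroupOf_map_subtype, hD, inf_assoc, inf_idem]
  rw [hPmap] at hfr
  have hRN : (R : Subgroup G) ≤ Subgroup.normalizer (D : Set G) := by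
    intro g hg
    rw [Subgroup.mem_normalizer_iff]
    intro h
    have h1 : h ∈ (R : Subgroup G) ↔ g * h * g⁻¹ ∈ (R : Subgroup G) :=
      (Subgroup.mem_normalizer_iff.mp (Subgroup.le_normalizer hg)) h
    have h2 : h ∈ T ↔ g * h * g⁻¹ ∈ T := by
      have hg' : g ∈ Subgroup.normalizer (T : Set G) := by
        rw [Subgroup.normalizer_eq_top]; trivial
      exact (Subgroup.mem_normalizer_iff.mp hg') h
    rw [hD, Subgroup.mem_inf, Subgroup.mem_inf, h1, h2]
  have hNtop : Subgroup.normalizer (D : Set G) ≠ ⊤ := by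
    rw [Ne, Subgroup.normalizer_eq_top_iff]
    exact not_normal_inf T hT hna (R : Subgroup G) R.isPGroup' hR0
  have hNM : Subgroup.normalizer (D : Set G) ≤ M := hkey _ hRN hNtop
  have hTM : ¬ T ≤ M := by
    intro h
    apply hMco.1
    rw [eq_top_iff, ← hfr]
    exact sup_le hNM h
  have hRT : (R : Subgroup G) ⊔ T = ⊤ := by
    by_contra h
    exact hTM (le_sup_right.trans (hkey _ le_sup_left h))
  intro q
  obtain ⟨g, rfl⟩ := QuotientGroup.mk_surjective q
  have hg : g ∈ (((R : Subgroup G) ⊔ T : Subgroup G) : Set G) := by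
    rw [hRT]; trivial
  rw [Subgroup.mul_normal] at hg
  obtain ⟨a, ha, t, ht, rfl⟩ := hg
  obtain ⟨k, hk⟩ := R.isPGroup' ⟨a, ha⟩
  refine ⟨k, ?_⟩
  have h1 : ((a * t : G) : G ⧸ T) = (a : G ⧸ T) := by
    rw [QuotientGroup.mk_mul, (QuotientGroup.eq_one_iff t).mpr ht, mul_one]
  rw [h1, ← QuotientGroup.mk_pow]
  have h2 : a ^ r ^ k = 1 := by
    have := congrArg Subtype.val hk
    simpa using this
  rw [h2]; rfl

end Cfsg.Agent.S3859
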