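import Cfsg.Statements.S3863
import Mathlib

set_option autoImplicit false
open Cfsg

namespace Cfsg.Agent.S3863

/-- an odd power of an inverting element inverts -/
lemma conj_pow_odd {G : Type*} [Group G] (x t : G) (ht : t * x * t⁻¹ = x⁻¹) (m : ℕ) (hm : Odd m) :
    t ^ m * x * (t ^ m)⁻¹ = x⁻¹ := by
  obtain ⟨k, rfl⟩ := hm
  have h2 : Commute (t ^ 2) x⁻¹ := by
    have : t ^ 2 * x * (t ^ 2)⁻¹ = x := by
      have h1 : t ^ 2 * x * (t ^ 2)⁻¹ = t * (t * x * t⁻¹) * t⁻¹ := by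
        simp [pow_two, mul_assoc]
      rw [h1, ht]
      have : t * x⁻¹ * t⁻¹ = (t * x * t⁻¹)⁻¹ := by simp [mul_assoc]
      rw [this, ht, inv_inv]
    have hc : Commute (t ^ 2) x := by
      unfold Commute SemiconjBy
      calc t ^ 2 * x = t ^ 2 * x * (t ^ 2)⁻¹ * t ^ 2 := by simp
        _ = x * t ^ 2 := by rw [this]
    exact hc.inv_right
  have h3 : Commute ((t ^ 2) ^ k) x⁻¹ := h2.pow_left k
  have e : t ^ (2 * k + 1) = (t ^ 2) ^ k * t := by
    rw [pow_succ, pow_mul]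
  rw [e]
  calc (t ^ 2) ^ k * t * x * ((t ^ 2) ^ k * t)⁻¹
      = (t ^ 2) ^ k * (t * x * t⁻¹) * ((t ^ 2) ^ k)⁻¹ := by simp [mul_assoc]
    _ = (t ^ 2) ^ k * x⁻¹ * ((t ^ 2) ^ k)⁻¹ := by rw [ht]
    _ = x⁻¹ := by rw [h3.eq]; simp

lemma exists_two_elt {G : Type*} [Group G] [Finite G] (x : G) (hx : IsConj x x⁻¹) :
    ∃ t : G, (∃ j : ℕ, orderOf t = 2 ^ j) ∧ t * x * t⁻¹ = x⁻¹ := by
  rw [isConj_iff] at hx
  obtain ⟨t, ht⟩ := hx
  have hpos : orderOf t ≠ 0 := (orderOf_pos t).ne'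
  obtain ⟨k, m, hm, hkm⟩ := Nat.exists_eq_two_pow_mul_odd hpos
  refine ⟨t ^ m, ⟨k, ?_⟩, conj_pow_odd x t ht m hm⟩
  rw [orderOf_pow, hkm, Nat.gcd_mul_left_left, Nat.mul_div_cancel _ hm.pos]

theorem result {G : Type*} [Group G] [Finite G] (x : G) (hx : IsConj x x⁻¹) : (∃ t : G, (∃ j : ℕ, orderOf t = 2 ^ j) ∧ t * x * t⁻¹ = x⁻¹) ∧ (Odd (Subgroup.centralizer ({x} : Set G)).index → x ^ 2 = 1) ∧ ∀ (N : Subgroup G) [N.Normal], Odd N.index → ∃ hxN : x ∈ N, IsConj (⟨x, hxN⟩ : N) (⟨x, hxN⟩ : N)⁻¹ := by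
  obtain ⟨t, ⟨j, hj⟩, ht⟩ := exists_two_elt x hx
  refine ⟨⟨t, ⟨j, hj⟩, ht⟩, ?_, ?_⟩
  · intro hodd
    by_contra hne
    have hxx : x ≠ x⁻¹ := by
      intro h
      apply hne
      rw [pow_two]
      nth_rewrite 2 [h]
      simp
    -- the extended centralizer
    let D : Subgroup G :=
      { carrier := {g | g * x * g⁻¹ = x ∨ g * x * g⁻¹ = x⁻¹}
        one_mem' := by simp
        mul_mem' := by
          intro a b ha hb
          have e : a * b * x * (a * b)⁻¹ = a * (b * x * b⁻¹) * a⁻¹ := by simp [mul_assoc]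
          have e' : ∀ a : G, a * x⁻¹ * a⁻¹ = (a * x * a⁻¹)⁻¹ := by intro a; simp [mul_assoc]
          simp only [Set.mem_ofPred_eq] at ha hb ⊢
          rw [e]
          rcases hb with hb | hb <;> rcases ha with ha | ha <;> rw [hb] <;> simp [e', ha]
        inv_mem' := by
          intro a ha
          simp only [Set.mem_ofPred_eq] at ha ⊢
          rcases ha with ha | ha
          · left
            calc a⁻¹ * x * a⁻¹⁻¹ = a⁻¹ * (a * x * a⁻¹) * a := by rw [ha]; simp
              _ = x := by simp [mul_assoc]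
          · right
            have : a * x⁻¹ * a⁻¹ = x := by
              have : a * x⁻¹ * a⁻¹ = (a * x * a⁻¹)⁻¹ := by simp [mul_assoc]
              rw [this, ha, inv_inv]
            calc a⁻¹ * x * a⁻¹⁻¹ = a⁻¹ * (a * x⁻¹ * a⁻¹) * a := by rw [this]; simp
              _ = x⁻¹ := by simp [mul_assoc] }
    have hCD : Subgroup.centralizer ({x} : Set G) ≤ D := by
      intro g hg
      rw [Subgroup.mem_centralizer_singleton_iff] at hg
      left
      rw [hg]; simp
    have hmemC : ∀ g : G, g ∈ Subgroup.centralizer ({x} : Set G) ↔ g * x * g⁻¹ = x := by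
      intro g
      rw [Subgroup.mem_centralizer_singleton_iff]
      constructor
      · intro h; rw [h]; simp
      · intro h
        calc g * x = g * x * g⁻¹ * g := by simp
          _ = x * g := by rw [h]
    have htD : t ∈ D := Or.inr ht
    have h2 : (Subgroup.centralizer ({x} : Set G)).relIndex D = 2 := by
      unfold Subgroup.relIndex
      rw [Subgroup.index_eq_two_iff]
      refine ⟨⟨t, htD⟩, ?_⟩
      rintro ⟨b, hb⟩
      simp only [Subgroup.mem_subgroupOf, Subgroup.coe_mul, hmemC]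
      have e : b * t * x * (b * t)⁻¹ = (b * x * b⁻¹)⁻¹ := by
        calc b * t * x * (b * t)⁻¹ = b * (t * x * t⁻¹) * b⁻¹ := by simp [mul_assoc]
          _ = (b * x * b⁻¹)⁻¹ := by rw [ht]; simp [mul_assoc]
      rw [e]
      rcases hb with hb | hb
      · right
        refine ⟨hb, ?_⟩
        rw [hb]; exact fun h => hxx h.symm
      · left
        refine ⟨?_, ?_⟩
        · rw [hb, inv_inv]
        · rw [hb]; exact fun h => hxx h.symm
    have := Subgroup.relIndex_mul_index hCD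
    rw [h2] at this
    rw [← this] at hodd
    exact (Nat.not_even_iff_odd.mpr hodd) (even_two_mul _)
  · intro N _ hodd
    have hcard : Nat.card (G ⧸ N) = N.index := rfl
    have key : ∀ g : G, (∃ j : ℕ, g ^ (2 ^ j) = 1) → g ∈ N := by
      rintro g ⟨j, hgj⟩
      rw [← QuotientGroup.eq_one_iff]
      have h1 : orderOf (g : G ⧸ N) ∣ 2 ^ j := by
        apply orderOf_dvd_of_pow_eq_one
        rw [← QuotientGroup.mk_pow, hgj]; rfl
      have h2 : orderOf (g : G ⧸ N) ∣ N.index := by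
        rw [← hcard]; exact orderOf_dvd_natCard _
      have h3 : orderOf (g : G ⧸ N) ∣ Nat.gcd (2 ^ j) N.index := Nat.dvd_gcd h1 h2
      have h4 : Nat.gcd (2 ^ j) N.index = 1 := by
        apply Nat.Coprime.pow_left
        rw [Nat.coprime_two_left]; exact hodd
      rw [h4, Nat.dvd_one, orderOf_eq_one_iff] at h3
      exact h3
    have htN : t ∈ N := key t ⟨j, by rw [← hj]; exact pow_orderOf_eq_one t⟩
    have hx2 : x ^ 2 ∈ N := by
      have : x ^ 2 = x * t * x⁻¹ * t⁻¹ := by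
        have : t * x⁻¹ * t⁻¹ = (t * x * t⁻¹)⁻¹ := by simp [mul_assoc]
        calc x ^ 2 = x * (t * x * t⁻¹)⁻¹ := by rw [ht, inv_inv, pow_two]
          _ = x * t * x⁻¹ * t⁻¹ := by simp [mul_assoc]
      rw [this]
      have h1 : x * t * x⁻¹ ∈ N := Subgroup.Normal.conj_mem inferInstance t htN x
      exact N.mul_mem h1 (N.inv_mem htN)
    have hxN : x ∈ N := by
      rw [← QuotientGroup.eq_one_iff]
      have h1 : orderOf (x : G ⧸ N) ∣ 2 := by
        apply orderOf_dvd_of_pow_eq_one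
        rw [← QuotientGroup.mk_pow]
        exact (QuotientGroup.eq_one_iff _).mpr hx2
      have h2 : orderOf (x : G ⧸ N) ∣ N.index := by
        rw [← hcard]; exact orderOf_dvd_natCard _
      have h3 : orderOf (x : G ⧸ N) ∣ Nat.gcd 2 N.index := Nat.dvd_gcd h1 h2
      have h4 : Nat.gcd 2 N.index = 1 := by
        rw [← Nat.Coprime, Nat.coprime_two_left]; exact hodd
      rw [h4, Nat.dvd_one, orderOf_eq_one_iff] at h3
      exact h3
    refine ⟨hxN, ?_⟩
    rw [isConj_iff]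
    refine ⟨⟨t, htN⟩, ?_⟩
    apply Subtype.ext
    simp [ht]

end Cfsg.Agent.S3863
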