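import Cfsg.Statements.S3861
import Cfsg.Agent.S0199
import Cfsg.Agent.S3863
import Cfsg.Agent.Lib.Helper24_CoprimeAction
import Mathlib

set_option autoImplicit false
open Cfsg

namespace Cfsg.Agent.S3861

universe u

/-- An element of odd order lying in a 2-group is trivial. -/
lemma eq_one_of_odd_of_mem {G : Type*} [Group G] {N : Subgroup G} (hN : IsPGroup 2 N) {y : G}
    (hy : y ∈ N) (hodd : Odd (orderOf y)) : y = 1 := by
  obtain ⟨k, hk⟩ := hN ⟨y, hy⟩
  have hk' : y ^ (2 ^ k) = 1 := by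
    have := congrArg Subtype.val hk
    simpa using this
  have hdvd : orderOf y ∣ 2 ^ k := orderOf_dvd_of_pow_eq_one hk'
  have hcop : Nat.Coprime (orderOf y) (2 ^ k) :=
    Nat.Coprime.pow_right k (Nat.coprime_two_right.mpr hodd)
  have : orderOf y = 1 := Nat.Coprime.eq_one_of_dvd hcop hdvd
  exact orderOf_eq_one_iff.mp this

/-- A cyclic group generated by an element killed by a power of two is a 2-group. -/
lemma isPGroup_zpowers {G : Type*} [Group G] {y : G} {k : ℕ} (h : y ^ (2 ^ k) = 1) :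
    IsPGroup 2 (Subgroup.zpowers y) := by
  have hdvd : orderOf y ∣ 2 ^ k := orderOf_dvd_of_pow_eq_one h
  obtain ⟨b, _, hb⟩ := (Nat.dvd_prime_pow Nat.prime_two).mp hdvd
  exact IsPGroup.of_card (n := b) (by rw [Nat.card_zpowers, hb])

/-- The easy direction. -/
lemma backward {G : Type*} [Group G] [Finite G] (P : Sylow 2 G) (hP : (P : Subgroup G).Normal)
    (x : G) (hx : x ≠ 1) (hodd : Odd (orderOf x)) : ¬ IsConj x x⁻¹ := by
  intro hc
  have : Fact (Nat.Prime 2) := ⟨Nat.prime_two⟩
  obtain ⟨t, ⟨j, hj⟩, ht⟩ := Cfsg.Agent.S3863.exists_two_elt x hc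
  have htP : t ∈ (P : Subgroup G) := by
    have h2 : IsPGroup 2 (Subgroup.zpowers t) :=
      isPGroup_zpowers (k := j) (by rw [← hj]; exact pow_orderOf_eq_one t)
    obtain ⟨Q, hQ⟩ := h2.exists_le_sylow
    have hsub : Subsingleton (Sylow 2 G) := by
      have := Sylow.unique_of_normal P hP
      infer_instance
    have : Q = P := Subsingleton.elim _ _
    rw [← this]
    exact hQ (Subgroup.mem_zpowers t)
  have hmem : (x⁻¹) ^ 2 ∈ (P : Subgroup G) := by
    have h1 : (x⁻¹) ^ 2 = t * (x * t⁻¹ * x⁻¹) := by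
      have : t * (x * t⁻¹ * x⁻¹) = (t * x * t⁻¹) * x⁻¹ := by simp [mul_assoc]
      rw [this, ht, pow_two]
    rw [h1]
    exact mul_mem htP (hP.conj_mem _ (inv_mem htP) x)
  have hodd2 : Odd (orderOf ((x⁻¹) ^ 2)) := by
    have h1 : orderOf ((x⁻¹) ^ 2) ∣ orderOf x := by
      apply orderOf_dvd_of_mem_zpowers
      exact pow_mem (inv_mem (Subgroup.mem_zpowers x)) 2
    exact Odd.of_dvd_nat hodd h1
  have h1 := eq_one_of_odd_of_mem P.2 hmem hodd2
  have h2 : x ^ 2 = 1 := by
    rw [inv_pow, inv_eq_one] at h1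
    exact h1
  have h3 : orderOf x ∣ 2 := orderOf_dvd_of_pow_eq_one h2
  have h4 : orderOf x = 1 := by
    rcases (Nat.dvd_prime Nat.prime_two).mp h3 with h | h
    · exact h
    · rw [h] at hodd; exact absurd hodd (by decide)
  exact hx (orderOf_eq_one_iff.mp h4)

/-- Under the hypothesis, every involution lies in a normal 2-subgroup (Baer–Suzuki). -/
lemma invol_mem {G : Type*} [Group G] [Finite G]
    (H : ∀ x : G, x ≠ 1 → Odd (orderOf x) → ¬ IsConj x x⁻¹) (s : G) (hs : s * s = 1) :
    ∃ N : Subgroup G, N.Normal ∧ IsPGroup 2 N ∧ s ∈ N := by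
  have : Fact (Nat.Prime 2) := ⟨Nat.prime_two⟩
  have hsinv : s⁻¹ = s := inv_eq_of_mul_eq_one_left hs
  have hX : IsPGroup 2 (Subgroup.zpowers s) :=
    isPGroup_zpowers (k := 1) (by rw [pow_one, pow_two]; exact hs)
  suffices hh : ∀ g : G, IsPGroup 2
      ↥(Subgroup.zpowers s ⊔ (Subgroup.zpowers s).map (MulAut.conj g).toMonoidHom) by
    obtain ⟨N, hN, hN2, hXN⟩ := Cfsg.Agent.S0199.result (p := 2) (Subgroup.zpowers s) hX hh
    exact ⟨N, hN, hN2, hXN (Subgroup.mem_zpowers s)⟩
  · intro g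
    set t := g * s * g⁻¹ with ht
    have htt : t * t = 1 := by
      rw [ht]
      have : g * s * g⁻¹ * (g * s * g⁻¹) = g * (s * s) * g⁻¹ := by simp [mul_assoc]
      rw [this, hs]; simp
    have htinv : t⁻¹ = t := inv_eq_of_mul_eq_one_left htt
    have hmap : (Subgroup.zpowers s).map (MulAut.conj g).toMonoidHom = Subgroup.zpowers t := by
      rw [MonoidHom.map_zpowers]; rfl
    rw [hmap]
    set w := s * t with hw
    have hsw : s * w * s⁻¹ = w⁻¹ := by
      rw [hw, mul_inv_rev, htinv, hsinv, ← mul_assoc, hs, one_mul]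
    obtain ⟨a, m, hm, ho⟩ := Nat.exists_eq_two_pow_mul_odd (orderOf_pos w).ne'
    have hv : w ^ (2 ^ a) = 1 := by
      by_contra hne
      apply H (w ^ 2 ^ a) hne
      · rw [orderOf_pow, ho, Nat.gcd_mul_right_left, Nat.mul_div_cancel_left _ (by positivity)]
        exact hm
      · rw [isConj_iff]
        exact ⟨s, by rw [← conj_pow, hsw, inv_pow]⟩
    have hW : IsPGroup 2 (Subgroup.zpowers w) := isPGroup_zpowers hv
    have hconj : ∀ h ∈ Subgroup.zpowers w, s * h * s⁻¹ ∈ Subgroup.zpowers w := by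
      intro h hh
      obtain ⟨k, rfl⟩ := Subgroup.mem_zpowers_iff.mp hh
      rw [← conj_zpow, hsw]
      exact zpow_mem (inv_mem (Subgroup.mem_zpowers w)) k
    have hnorm : Subgroup.zpowers s ≤ Subgroup.normalizer (Subgroup.zpowers w : Set G) := by
      rw [Subgroup.zpowers_le, Subgroup.mem_normalizer_iff]
      intro h
      constructor
      · exact hconj h
      · intro hh
        have := hconj _ hh
        rw [hsinv] at this
        have e : s * (s * h * s) * s = h := by
          calc s * (s * h * s) * s = (s * s) * h * (s * s) := by simp [mul_assoc]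
            _ = h := by rw [hs]; simp
        rwa [e] at this
    have hsup := IsPGroup.to_sup_of_normal_right' hX hW hnorm
    refine hsup.to_le ?_
    apply sup_le le_sup_left
    rw [Subgroup.zpowers_le]
    have e : t = s⁻¹ * w := by rw [hw]; simp
    rw [e]
    exact mul_mem (le_sup_left (a := Subgroup.zpowers s) (inv_mem (Subgroup.mem_zpowers s)))
      (le_sup_right (b := Subgroup.zpowers w) (Subgroup.mem_zpowers w))

/-- The hypothesis passes to the quotient by a normal 2-subgroup. -/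
lemma lift {G : Type*} [Group G] [Finite G] (N : Subgroup G) [N.Normal] (hN : IsPGroup 2 N)
    (H : ∀ x : G, x ≠ 1 → Odd (orderOf x) → ¬ IsConj x x⁻¹) :
    ∀ x : G ⧸ N, x ≠ 1 → Odd (orderOf x) → ¬ IsConj x x⁻¹ := by
  intro xb hxb hodd hc
  rw [isConj_iff] at hc
  obtain ⟨gb, hgb⟩ := hc
  obtain ⟨x₀, rfl⟩ := QuotientGroup.mk_surjective xb
  obtain ⟨g, rfl⟩ := QuotientGroup.mk_surjective gb
  set π := QuotientGroup.mk' N with hπ
  have hπ1 : ∀ y : G, π y = 1 ↔ y ∈ N := fun y => QuotientGroup.eq_one_iff y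
  change π g * π x₀ * (π g)⁻¹ = (π x₀)⁻¹ at hgb
  change π x₀ ≠ 1 at hxb
  change Odd (orderOf (π x₀)) at hodd
  set o := orderOf (π x₀) with ho
  have h1 : x₀ ^ o ∈ N := by
    rw [← hπ1, map_pow, ho, pow_orderOf_eq_one]
  obtain ⟨j, hj⟩ := hN ⟨x₀ ^ o, h1⟩
  have hj' : (x₀ ^ o) ^ (2 ^ j) = 1 := by simpa using congrArg Subtype.val hj
  set u := x₀ ^ (2 ^ j) with hu
  have huo : u ^ o = 1 := by rw [hu, ← pow_mul, mul_comm, pow_mul]; exact hj'
  have hu_odd : Odd (orderOf u) := Odd.of_dvd_nat hodd (orderOf_dvd_of_pow_eq_one huo)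
  have hcop : Nat.Coprime o (2 ^ j) := Nat.Coprime.pow_right j (Nat.coprime_two_right.mpr hodd)
  have hub : π u ≠ 1 := by
    intro h
    rw [hu, map_pow] at h
    have h2 : o ∣ 2 ^ j := orderOf_dvd_of_pow_eq_one h
    have h3 : o = 1 := Nat.Coprime.eq_one_of_dvd hcop h2
    exact hxb (orderOf_eq_one_iff.mp h3)
  have hu1 : u ≠ 1 := fun h => hub (by rw [h, map_one])
  have hinvb : π g * π u * (π g)⁻¹ = (π u)⁻¹ := by
    rw [hu, map_pow, ← conj_pow, hgb, inv_pow]
  -- the two cyclic subgroups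
  set A := Subgroup.zpowers u with hA
  set B := Subgroup.zpowers (g * u * g⁻¹) with hB
  have hAN : A ≤ Subgroup.normalizer (N : Set G) := by
    rw [Subgroup.normalizer_eq_top]; exact le_top
  have hcard : (Nat.card A).Coprime (Nat.card N) := by
    have : Fact (Nat.Prime 2) := ⟨Nat.prime_two⟩
    obtain ⟨k, hk⟩ := IsPGroup.iff_card.mp hN
    rw [hk, hA, Nat.card_zpowers]
    exact Nat.Coprime.pow_right k (Nat.coprime_two_right.mpr hu_odd)
  have hsolv : Group.IsSolvable A ∨ Group.IsSolvable N := by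
    left
    rw [hA]
    infer_instance
  have hBle : B ≤ N ⊔ A := by
    rw [hB, Subgroup.zpowers_le]
    have hmem : g * u * g⁻¹ * u ∈ N := by
      rw [← hπ1, map_mul, map_mul, map_mul, map_inv, hinvb, inv_mul_cancel]
    have e : g * u * g⁻¹ = (g * u * g⁻¹ * u) * u⁻¹ := by simp
    rw [e]
    exact mul_mem (le_sup_left (a := N) hmem)
      (le_sup_right (b := A) (inv_mem (Subgroup.mem_zpowers u)))
  have hBcard : Nat.card B = Nat.card A := by
    rw [hA, hB, Nat.card_zpowers, Nat.card_zpowers]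
    exact (MulAut.conj g).orderOf_eq u
  obtain ⟨k, hkN, hk⟩ := Cfsg.Agent.Lib.Helper24_CoprimeAction.sz_rel_conj A N B hAN hcard hsolv
    hBle hBcard
  have hkmem : k * u * k⁻¹ ∈ B := by
    rw [← hk]
    exact ⟨u, Subgroup.mem_zpowers u, rfl⟩
  obtain ⟨m, hm⟩ := Subgroup.mem_zpowers_iff.mp hkmem
  rw [conj_zpow] at hm
  -- reduce mod N
  have hπk : π k = 1 := (hπ1 k).mpr hkN
  have h5 : π u = (π u)⁻¹ ^ m := by
    have := congrArg π hm
    rw [map_mul, map_mul, map_inv, map_zpow, map_mul, map_mul, map_inv, hπk] at this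
    simp only [one_mul, inv_one, mul_one] at this
    calc π u = π g * π u ^ m * (π g)⁻¹ := this.symm
      _ = (π g * π u * (π g)⁻¹) ^ m := conj_zpow.symm
      _ = (π u)⁻¹ ^ m := by rw [hinvb]
  have h6 : u ^ (m + 1) ∈ N := by
    rw [← hπ1, map_zpow, zpow_add, zpow_one]
    nth_rewrite 2 [h5]
    rw [inv_zpow, mul_inv_cancel]
  have h7 : u ^ (m + 1) = 1 := by
    apply eq_one_of_odd_of_mem hN h6
    exact Odd.of_dvd_nat hu_odd
      (orderOf_dvd_of_mem_zpowers (zpow_mem (Subgroup.mem_zpowers u) _))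
  have h8 : u ^ m = u⁻¹ := by
    rw [zpow_add, zpow_one] at h7
    exact eq_inv_of_mul_eq_one_left h7
  rw [h8] at hm
  apply H u hu1 hu_odd
  rw [isConj_iff]
  refine ⟨g⁻¹ * k, ?_⟩
  have : g⁻¹ * k * u * (g⁻¹ * k)⁻¹ = g⁻¹ * (k * u * k⁻¹) * g := by simp [mul_assoc]
  rw [this, ← hm]
  simp [mul_assoc]

/-- The main induction for the forward direction. -/
lemma forward_aux (n : ℕ) : ∀ (G : Type u) [Group G] [Finite G], Nat.card G = n →
    (∀ x : G, x ≠ 1 → Odd (orderOf x) → ¬ IsConj x x⁻¹) →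
    ∀ P : Sylow 2 G, (P : Subgroup G).Normal := by
  induction n using Nat.strong_induction_on with
  | _ n ih =>
    intro G _ _ hn H P
    have : Fact (Nat.Prime 2) := ⟨Nat.prime_two⟩
    by_cases h2 : 2 ∣ Nat.card G
    · obtain ⟨s, hs⟩ := exists_prime_orderOf_dvd_card' (G := G) 2 h2
      have hss : s * s = 1 := by rw [← pow_two, ← hs, pow_orderOf_eq_one]
      have hs1 : s ≠ 1 := by
        intro h
        rw [h, orderOf_one] at hs
        omega
      obtain ⟨N, hNn, hN2, hsN⟩ := invol_mem H s hss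
      have hNP : N ≤ P := by
        have h := IsPGroup.to_sup_of_normal_left hN2 P.2
        have h' := P.is_maximal' h le_sup_right
        rw [← h']
        exact le_sup_left
      have hlt : Nat.card (G ⧸ N) < n := by
        rw [← hn, Subgroup.card_eq_card_quotient_mul_card_subgroup N]
        have hNcard : 1 < Nat.card N := by
          rw [Finite.one_lt_card_iff_nontrivial]
          exact ⟨⟨⟨s, hsN⟩, 1, fun h => hs1 (congrArg Subtype.val h)⟩⟩
        have hpos : 0 < Nat.card (G ⧸ N) := Nat.card_pos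
        nlinarith
      have HQ := lift N hN2 H
      have hQ := ih _ hlt (G ⧸ N) rfl HQ (P.mapSurjective (QuotientGroup.mk'_surjective N))
      have hQ' : ((P : Subgroup G).map (QuotientGroup.mk' N)).Normal := hQ
      have hcm : ((P : Subgroup G).map (QuotientGroup.mk' N)).comap (QuotientGroup.mk' N) = P := by
        rw [Subgroup.comap_map_eq, QuotientGroup.ker_mk', sup_eq_left.mpr hNP]
      rw [← hcm]
      exact Subgroup.Normal.comap hQ' _
    · have hbot : (P : Subgroup G) = ⊥ := by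
        apply Subgroup.eq_bot_of_card_eq
        obtain ⟨k, hk⟩ := IsPGroup.iff_card.mp P.2
        have hd : Nat.card (P : Subgroup G) ∣ Nat.card G := Subgroup.card_subgroup_dvd_card _
        rcases Nat.eq_zero_or_pos k with h0 | h0
        · rw [hk, h0, pow_zero]
        · exfalso
          apply h2
          refine dvd_trans ?_ hd
          rw [hk]
          exact dvd_pow_self 2 h0.ne'
      rw [hbot]
      infer_instance

theorem result {G : Type*} [Group G] [Finite G] (P : Sylow 2 G) : (∀ x : G, x ≠ 1 → Odd (orderOf x) → ¬ IsConj x x⁻¹) ↔ (P : Subgroup G).Normal := by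
  constructor
  · intro H
    exact forward_aux _ G rfl H P
  · intro hP x hx hodd
    exact backward P hP x hx hodd

end Cfsg.Agent.S3861
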