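import Cfsg.Statements.S3862
import Cfsg.Agent.Lib.Helper35_FrobeniusNPC
import Mathlib

set_option autoImplicit false
open Cfsg

namespace Cfsg.Agent.S3862

open Cfsg.Agent.Lib.Helper35_FrobeniusNPC

/-- If `g y² g⁻¹ = y²` then `d = y⁻¹ (g y g⁻¹)` is inverted by `y⁻¹`. -/
lemma inverted {G : Type*} [Group G] (g y : G) (h2 : g * y ^ 2 * g⁻¹ = y ^ 2) :
    y⁻¹ * (y⁻¹ * (g * y * g⁻¹)) * (y⁻¹)⁻¹ = (y⁻¹ * (g * y * g⁻¹))⁻¹ := by
  have h3 : (g * y * g⁻¹) * (g * y * g⁻¹) = y * y := by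
    rw [← pow_two, conj_pow, h2, pow_two]
  rw [inv_inv, mul_inv_rev, inv_inv]
  -- goal: y⁻¹ * (y⁻¹ * c) * y = c⁻¹ * y  with c * c = y * y
  have : y⁻¹ * (y⁻¹ * (g * y * g⁻¹)) = (g * y * g⁻¹)⁻¹ := by
    rw [← mul_assoc, ← mul_inv_rev, ← h3, mul_inv_rev, mul_assoc, inv_mul_cancel, mul_one]
  rw [this]

theorem frobHyp {G : Type*} [Group G] [Finite G] (h : ∀ x : G, (∃ j : ℕ, orderOf x = 2 ^ j) → IsConj x x⁻¹ → x ∈ Subgroup.center G) :
    FrobHyp 2 G := by
  intro Q hQ g hg hgo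
  have key : ∀ j : ℕ, ∀ y ∈ Q, y ^ (2 ^ j) = 1 → g * y * g⁻¹ = y := by
    intro j
    induction j with
    | zero =>
      intro y _ hy1
      rw [pow_zero, pow_one] at hy1
      rw [hy1]; simp
    | succ j ih =>
      intro y hy hyj
      have h2 : g * y ^ 2 * g⁻¹ = y ^ 2 := by
        apply ih _ (pow_mem hy 2)
        rw [← pow_mul, ← pow_succ']
        exact hyj
      set d := y⁻¹ * (g * y * g⁻¹) with hd
      have hdQ : d ∈ Q :=
        mul_mem (inv_mem hy) ((Subgroup.mem_normalizer_iff.mp hg y).mp hy)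
      have hyd : g * y * g⁻¹ = y * d := by rw [hd]; simp
      have hinv : y⁻¹ * d * (y⁻¹)⁻¹ = d⁻¹ := inverted g y h2
      obtain ⟨i, hi⟩ := hQ ⟨d, hdQ⟩
      have hi' : d ^ (2 ^ i) = 1 := by simpa using congrArg Subtype.val hi
      have hdo : ∃ j : ℕ, orderOf d = 2 ^ j := by
        obtain ⟨b, _, hb⟩ := (Nat.dvd_prime_pow Nat.prime_two).mp (orderOf_dvd_of_pow_eq_one hi')
        exact ⟨b, hb⟩
      have hdc : d ∈ Subgroup.center G := h d hdo (isConj_iff.mpr ⟨y⁻¹, hinv⟩)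
      have hk : ∀ k : ℕ, g ^ k * y * (g ^ k)⁻¹ = y * d ^ k := by
        intro k
        induction k with
        | zero => simp
        | succ k ihk =>
          have e : g ^ (k + 1) * y * (g ^ (k + 1))⁻¹ = g * (g ^ k * y * (g ^ k)⁻¹) * g⁻¹ := by
            rw [pow_succ']; simp [mul_assoc]
          rw [e, ihk]
          have hdk : d ^ k ∈ Subgroup.center G := pow_mem hdc k
          have e2 : g * (y * d ^ k) * g⁻¹ = (g * y * g⁻¹) * d ^ k := by
            have := (Subgroup.mem_center_iff.mp hdk) g⁻¹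
            -- g⁻¹ * d^k = d^k * g⁻¹
            rw [mul_assoc, mul_assoc, ← this]
            simp [mul_assoc]
          rw [e2, hyd, mul_assoc, ← pow_succ']
      have h5 := hk (orderOf g)
      rw [pow_orderOf_eq_one] at h5
      simp only [one_mul, inv_one, mul_one] at h5
      have h6 : d ^ orderOf g = 1 := by
        have := h5.symm
        exact mul_eq_left.mp this
      have h7 : orderOf d ∣ Nat.gcd (orderOf g) (2 ^ i) :=
        Nat.dvd_gcd (orderOf_dvd_of_pow_eq_one h6) (orderOf_dvd_of_pow_eq_one hi')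
      have h8 : Nat.gcd (orderOf g) (2 ^ i) = 1 := Nat.Coprime.pow_right i hgo
      rw [h8, Nat.dvd_one, orderOf_eq_one_iff] at h7
      rw [hyd, h7, mul_one]
  rw [Subgroup.mem_centralizer_iff]
  intro y hy
  obtain ⟨j, hj⟩ := hQ ⟨y, hy⟩
  have hj' : y ^ (2 ^ j) = 1 := by simpa using congrArg Subtype.val hj
  have := key j y hy hj'
  calc y * g = (g * y * g⁻¹) * g := by rw [this]
    _ = g * y := by simp

theorem result {G : Type*} [Group G] [Finite G] (h : ∀ x : G, (∃ j : ℕ, orderOf x = 2 ^ j) → IsConj x x⁻¹ → x ∈ Subgroup.center G) : Cfsg.HasNormalPComplement 2 G := by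
  have : Fact (Nat.Prime 2) := ⟨Nat.prime_two⟩
  obtain ⟨K, hKn, hKc, n, hKi⟩ := hasNPC_of_frobHyp (frobHyp h)
  obtain ⟨P⟩ : Nonempty (Sylow 2 G) := inferInstance
  exact ⟨P, K, hKn, isComplement'_of_npc hKc hKi P⟩

end Cfsg.Agent.S3862
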