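import Cfsg.Statements.S3869
import Cfsg.Agent.Lib.Helper64_IrredCp
import Cfsg.Agent.Lib.Helper34_Fusion
import Mathlib

set_option autoImplicit false
set_option linter.unusedSectionVars false
open Cfsg

namespace Cfsg.Agent.S3869

open Subgroup

theorem mem_normalizer_of_conj_mem {G : Type*} [Group G] [Finite G] {g : G} {H : Subgroup G}
    (h : ∀ y ∈ H, g * y * g⁻¹ ∈ H) : g ∈ normalizer (H : Set G) := by
  apply Cfsg.Agent.Lib.Helper34_Fusion.mem_normalizer_of_cj_le
  intro y hy
  rw [Cfsg.Agent.Lib.Helper34_Sylow.mem_cj] at hy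
  have := h _ hy
  have e : g * (g⁻¹ * y * g) * g⁻¹ = y := by group
  rwa [e] at this

section

variable {G : Type*} [Group G] [Finite G] {p q : ℕ} [hp : Fact p.Prime]
  (A : Subgroup G) [A.Normal] (hidx : A.index = p)

include hidx

/-- `A` is a maximal subgroup -/
theorem eq_top_of_not_le {K : Subgroup G} (hAK : A ≤ K) (hne : ¬ K ≤ A) : K = ⊤ := by
  have h1 := Subgroup.relIndex_mul_index hAK
  rw [hidx] at h1
  have h2 : K.index ∣ p := Dvd.intro_left _ h1
  rcases (Nat.dvd_prime hp.out).mp h2 with h | h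
  · exact Subgroup.index_eq_one.mp h
  · exfalso
    apply hne
    rw [h] at h1
    have h3 : A.relIndex K = 1 := by
      have hpos := hp.out.pos
      nlinarith
    exact Subgroup.relIndex_eq_one.mp h3

/-- commutators lie in `A` -/
theorem comm_mem (g h : G) : g * h * g⁻¹ * h⁻¹ ∈ A := by
  have hcard : Nat.card (G ⧸ A) = p := by rw [← Subgroup.index_eq_card, hidx]
  have hcyc : IsCyclic (G ⧸ A) := isCyclic_of_prime_card hcard
  rw [← QuotientGroup.eq_one_iff]
  have h1 : ((g * h * g⁻¹ * h⁻¹ : G) : G ⧸ A) = (g : G ⧸ A) * h * (g : G ⧸ A)⁻¹ * (h : G ⧸ A)⁻¹ := rfl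
  rw [h1, mul_comm' (g : G ⧸ A) h]
  group

variable (hA1 : ∀ a ∈ A, ∀ b ∈ A, a * b = b * a) (hna : ¬ IsMulCommutative G)

include hA1 hna

/-- `A` is self-centralizing -/
theorem centralizer_le : centralizer (A : Set G) ≤ A := by
  intro g hg
  by_contra hgA
  have hAC : A ≤ centralizer (A : Set G) := by
    intro a ha
    rw [mem_centralizer_iff]
    intro b hb
    exact hA1 b hb a ha
  have h1 : centralizer (A : Set G) = ⊤ := eq_top_of_not_le A hidx hAC (fun h => hgA (h hg))
  have hAZ : A ≤ center G := by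
    intro a ha
    rw [mem_center_iff]
    intro y
    have hy : y ∈ centralizer (A : Set G) := by rw [h1]; trivial
    exact (mem_centralizer_iff.mp hy a ha).symm
  have h2 : centralizer ({g} : Set G) = ⊤ := by
    apply eq_top_of_not_le A hidx
    · intro a ha
      rw [mem_centralizer_iff]
      intro y hy
      rw [Set.mem_singleton_iff] at hy
      rw [hy]
      exact mem_center_iff.mp (hAZ ha) g
    · intro h
      apply hgA
      apply h
      rw [mem_centralizer_iff]
      intro y hy
      rw [Set.mem_singleton_iff] at hy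
      rw [hy]
  have hgZ : g ∈ center G := by
    rw [mem_center_iff]
    intro y
    have hy : y ∈ centralizer ({g} : Set G) := by rw [h2]; trivial
    exact (mem_centralizer_iff.mp hy g rfl).symm
  have h3 : center G = ⊤ := eq_top_of_not_le A hidx hAZ (fun h => hgA (h hgZ))
  exact hna (center_eq_top_iff.mp h3)

end

theorem result {G : Type*} [Group G] [Finite G] {p q : ℕ} [Fact p.Prime] (hq : q.Prime) (hpq : q ≠ p)
    (hna : ¬ IsMulCommutative G) (A : Subgroup G) [A.Normal] (hA : Cfsg.IsElementaryAbelian q A) (hidx : A.index = p)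
    (hmin : ∀ B : Subgroup G, B.Normal → B ≤ A → B = ⊥ ∨ B = A) :
    Nat.card ↥A = q ^ orderOf (q : ZMod p) ∧ ¬ Cfsg.IsPClosed p G ∧ (∀ H : Subgroup G, H ≠ ⊤ → Cfsg.IsPClosed p ↥H) ∧
      ∀ (N : Subgroup G) [N.Normal], N ≠ ⊥ → Cfsg.IsPClosed p (G ⧸ N) := by
  have hp : p.Prime := Fact.out
  have hqF : Fact q.Prime := ⟨hq⟩
  have hA1 : ∀ a ∈ A, ∀ b ∈ A, a * b = b * a := by
    intro a ha b hb
    have := hA.1.is_comm.comm (⟨a, ha⟩ : A) ⟨b, hb⟩
    exact congrArg Subtype.val this
  have hCA := centralizer_le A hidx hA1 hna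
  have hmax := fun {K : Subgroup G} (h1 : A ≤ K) (h2 : ¬ K ≤ A) => eq_top_of_not_le A hidx h1 h2
  have hcomm := comm_mem A hidx
  -- an element of order p
  have hpG : p ∣ Nat.card G := by
    rw [← A.card_mul_index, hidx]
    exact dvd_mul_left p _
  obtain ⟨x, hx⟩ := exists_prime_orderOf_dvd_card' (G := G) p hpG
  have hxp : x ^ p = 1 := by rw [← hx]; exact pow_orderOf_eq_one x
  have hxA : x ∉ A := by
    intro h
    have h1 : x ^ q = 1 := hA.2 x h
    have h2 : p ∣ q := by rw [← hx]; exact orderOf_dvd_of_pow_eq_one h1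
    exact hpq ((Nat.prime_dvd_prime_iff_eq hp hq).mp h2).symm
  have hxC : x ∉ centralizer (A : Set G) := fun h => hxA (hCA h)
  -- normal subgroups from invariant ones
  have hnormal : ∀ B : Subgroup G, B ≤ A → (∀ b ∈ B, x * b * x⁻¹ ∈ B) → B.Normal := by
    intro B hBA hB
    rw [← normalizer_eq_top_iff]
    apply hmax
    · intro a ha
      apply mem_normalizer_of_conj_mem
      intro b hb
      have : a * b * a⁻¹ = b := by rw [hA1 a ha b (hBA hb)]; group
      rw [this]; exact hb
    · intro h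
      exact hxA (h (mem_normalizer_of_conj_mem hB))
  refine ⟨?_, ?_, ?_, ?_⟩
  · -- the order of A
    let _ : CommGroup ↥A := { (inferInstance : Group ↥A) with
      mul_comm := fun a b => hA.1.is_comm.comm a b }
    apply Cfsg.Agent.Lib.Helper64_IrredCp.card_of_irreducible q p hpq
      (fun a => Subtype.ext (hA.2 a a.2)) (MulAut.conjNormal x)
    · rw [← map_pow, hxp, map_one]
    · intro h
      apply hxC
      rw [mem_centralizer_iff]
      intro a ha
      have h1 := congrArg (fun σ : MulAut ↥A => ((σ ⟨a, ha⟩ : ↥A) : G)) h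
      simp only [MulAut.conjNormal_apply, MulAut.one_apply] at h1
      calc a * x = (x * a * x⁻¹) * x := by rw [h1]
        _ = x * a := by group
    · intro B hB
      have hBn : (B.map A.subtype).Normal := by
        apply hnormal _ (map_subtype_le B)
        rintro _ ⟨b, hb, rfl⟩
        refine ⟨MulAut.conjNormal x b, hB b hb, ?_⟩
        simp [MulAut.conjNormal_apply]
      rcases hmin _ hBn (map_subtype_le B) with h | h
      · left
        exact (map_eq_bot_iff_of_injective B A.subtype_injective).mp h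
      · right
        rw [eq_top_iff]
        intro a _
        have : (a : G) ∈ B.map A.subtype := by rw [h]; exact a.2
        obtain ⟨b, hb, hba⟩ := this
        have : b = a := Subtype.ext hba
        rw [← this]; exact hb
  · -- not p-closed
    intro hcl
    have hxP : IsPGroup p (zpowers x) := by
      apply IsPGroup.of_card (n := 1)
      rw [Nat.card_zpowers, hx, pow_one]
    obtain ⟨P, hP⟩ := hxP.exists_le_sylow
    have hPn := hcl P
    have hxP' : x ∈ (P : Subgroup G) := hP (mem_zpowers x)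
    apply hxC
    rw [mem_centralizer_iff]
    intro a ha
    have h1 : x * a * x⁻¹ * a⁻¹ ∈ (P : Subgroup G) := by
      have : x * a * x⁻¹ * a⁻¹ = x * (a * x⁻¹ * a⁻¹) := by group
      rw [this]
      exact mul_mem hxP' (hPn.conj_mem _ (inv_mem hxP') a)
    have h2 : x * a * x⁻¹ * a⁻¹ ∈ A :=
      mul_mem (Subgroup.Normal.conj_mem inferInstance a ha x) (inv_mem ha)
    have h3 : x * a * x⁻¹ * a⁻¹ = 1 := by
      obtain ⟨k, hk⟩ := P.2 ⟨_, h1⟩
      have hk' : (x * a * x⁻¹ * a⁻¹) ^ (p ^ k) = 1 := by simpa using congrArg Subtype.val hk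
      have h4 : (x * a * x⁻¹ * a⁻¹) ^ q = 1 := hA.2 _ h2
      have h5 : orderOf (x * a * x⁻¹ * a⁻¹) ∣ Nat.gcd (p ^ k) q :=
        Nat.dvd_gcd (orderOf_dvd_of_pow_eq_one hk') (orderOf_dvd_of_pow_eq_one h4)
      have h6 : Nat.gcd (p ^ k) q = 1 :=
        Nat.Coprime.pow_left k ((Nat.coprime_primes hp hq).mpr (Ne.symm hpq))
      rw [h6, Nat.dvd_one, orderOf_eq_one_iff] at h5
      exact h5
    calc a * x = (x * a * x⁻¹ * a⁻¹)⁻¹ * (x * a) := by group
      _ = x * a := by rw [h3]; group
  · -- proper subgroups are abelian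
    intro H hH
    have hab : ∀ h₁ ∈ H, ∀ h₂ ∈ H, h₁ * h₂ = h₂ * h₁ := by
      by_cases hHA : H ≤ A
      · intro h₁ hh₁ h₂ hh₂
        exact hA1 _ (hHA hh₁) _ (hHA hh₂)
      · have hsup : A ⊔ H = ⊤ := hmax le_sup_left (fun h => hHA (le_sup_right.trans h))
        have hBn : (H ⊓ A).Normal := by
          rw [← normalizer_eq_top_iff, eq_top_iff, ← hsup]
          apply sup_le
          · intro a ha
            apply mem_normalizer_of_conj_mem
            intro b hb
            have : a * b * a⁻¹ = b := by rw [hA1 a ha b hb.2]; group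
            rw [this]; exact hb
          · intro h hh
            apply mem_normalizer_of_conj_mem
            intro b hb
            exact ⟨H.mul_mem (H.mul_mem hh hb.1) (H.inv_mem hh),
              Subgroup.Normal.conj_mem inferInstance b hb.2 h⟩
        rcases hmin _ hBn inf_le_right with hb | hb
        · intro h₁ hh₁ h₂ hh₂
          have h1 : h₁ * h₂ * h₁⁻¹ * h₂⁻¹ ∈ H ⊓ A :=
            ⟨H.mul_mem (H.mul_mem (H.mul_mem hh₁ hh₂) (H.inv_mem hh₁)) (H.inv_mem hh₂), hcomm h₁ h₂⟩
          rw [hb, mem_bot] at h1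
          calc h₁ * h₂ = (h₁ * h₂ * h₁⁻¹ * h₂⁻¹) * (h₂ * h₁) := by group
            _ = h₂ * h₁ := by rw [h1, one_mul]
        · exfalso
          apply hH
          have hAH : A ≤ H := by rw [← hb]; exact inf_le_left
          rw [← hsup]
          exact (sup_eq_right.mpr hAH).symm
    intro P
    refine ⟨fun n hn g => ?_⟩
    have : g * n * g⁻¹ = n := by
      have h1 := hab g g.2 n n.2
      apply Subtype.ext
      simp only [coe_mul, InvMemClass.coe_inv]
      rw [h1]; group
    rw [this]; exact hn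
  · -- proper quotients are abelian
    intro N hN hN1
    have hNAn : (N ⊓ A).Normal := inferInstance
    rcases hmin _ hNAn inf_le_right with hb | hb
    · exfalso
      obtain ⟨n, hn1⟩ := (Subgroup.ne_bot_iff_exists_ne_one).mp hN1
      have hnA : (n : G) ∉ A := by
        intro h
        have : (n : G) ∈ N ⊓ A := ⟨n.2, h⟩
        rw [hb, mem_bot] at this
        exact hn1 (Subtype.ext this)
      apply hnA
      apply hCA
      rw [mem_centralizer_iff]
      intro a ha
      have h1 : (n : G) * a * (n : G)⁻¹ * a⁻¹ ∈ N ⊓ A := by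
        refine ⟨?_, A.mul_mem (Subgroup.Normal.conj_mem inferInstance a ha _) (A.inv_mem ha)⟩
        have : (n : G) * a * (n : G)⁻¹ * a⁻¹ = (n : G) * (a * (n : G)⁻¹ * a⁻¹) := by group
        rw [this]
        exact N.mul_mem n.2 (hN.conj_mem _ (N.inv_mem n.2) a)
      rw [hb, mem_bot] at h1
      calc a * (n : G) = ((n : G) * a * (n : G)⁻¹ * a⁻¹)⁻¹ * ((n : G) * a) := by group
        _ = (n : G) * a := by rw [h1]; group
    · have hAN : A ≤ N := by rw [← hb]; exact inf_le_left
      intro P
      refine ⟨fun n hn g => ?_⟩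
      have : g * n * g⁻¹ = n := by
        obtain ⟨g', rfl⟩ := QuotientGroup.mk_surjective g
        obtain ⟨n', rfl⟩ := QuotientGroup.mk_surjective n
        have h1 : g' * n' * g'⁻¹ * n'⁻¹ ∈ N := hAN (hcomm g' n')
        rw [← QuotientGroup.eq_one_iff] at h1
        have h2 : ((g' * n' * g'⁻¹ * n'⁻¹ : G) : G ⧸ N) =
            (g' : G ⧸ N) * n' * (g' : G ⧸ N)⁻¹ * (n' : G ⧸ N)⁻¹ := rfl
        rw [h2] at h1
        calc (g' : G ⧸ N) * n' * (g' : G ⧸ N)⁻¹ =
            ((g' : G ⧸ N) * n' * (g' : G ⧸ N)⁻¹ * (n' : G ⧸ N)⁻¹) * n' := by group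
          _ = n' := by rw [h1, one_mul]
      rw [this]; exact hn

end Cfsg.Agent.S3869
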