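import Cfsg.Statements.S4225
import Cfsg.Agent.Lib.Helper70_Regular

set_option autoImplicit false
open Cfsg

namespace Cfsg.Agent.S4225

/-- In a regular `p`-group, for every `k` the elements whose `p^k`-th power is `1` form a characteristic subgroup. -/
theorem result {G : Type*} [Group G] [Finite G] {p : ℕ} [Fact p.Prime] (hG : Cfsg.IsRegularPGroup p G) (k : ℕ) : ∃ H : Subgroup G, H.Characteristic ∧ (H : Set G) = {x : G | x ^ p ^ k = 1} := by
  let H : Subgroup G :=
    { carrier := {x : G | x ^ p ^ k = 1}
      one_mem' := by simp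
      inv_mem' := by
        intro x hx
        simp only [Set.mem_ofPred_eq] at hx ⊢
        rw [inv_pow, hx, inv_one]
      mul_mem' := by
        intro x y hx hy
        simp only [Set.mem_ofPred_eq] at hx hy ⊢
        have h := Cfsg.Agent.Lib.Helper70_Regular.pow_eq_pow_iff hG x⁻¹ y k
        rw [inv_inv, inv_pow, hx, hy, inv_one] at h
        exact h.mp rfl }
  refine ⟨H, ?_, rfl⟩
  rw [Subgroup.characteristic_iff_comap_le]
  intro ϕ x hx
  have h1 : (ϕ x) ^ p ^ k = 1 := hx
  show x ^ p ^ k = 1
  apply ϕ.injective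
  rw [map_pow, h1, map_one]

end Cfsg.Agent.S4225
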