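import Mathlib
import Cfsg.Statements.S3872
import Cfsg.Agent.S4209
import Cfsg.Agent.S4225
import Cfsg.Agent.Lib.Helper95_MaxClass

set_option autoImplicit false
open Cfsg

namespace Cfsg.Agent.S3872

/-- In a nilpotent group the lower central series is strictly decreasing until it reaches `⊥`. -/
theorem lcs_succ_lt {G : Type*} [Group G] [Group.IsNilpotent G] {i : ℕ}
    (h : (⊤ : Subgroup G).lowerCentralSeries i ≠ ⊥) :
    (⊤ : Subgroup G).lowerCentralSeries (i + 1) < (⊤ : Subgroup G).lowerCentralSeries i := by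
  refine lt_of_le_of_ne (Subgroup.lowerCentralSeries_antitone ⊤ (Nat.le_succ i)) ?_
  intro heq
  have hall : ∀ m, (⊤ : Subgroup G).lowerCentralSeries (i + m) =
      (⊤ : Subgroup G).lowerCentralSeries i := by
    intro m
    induction m with
    | zero => rfl
    | succ m ih =>
      rw [← Nat.add_assoc, Subgroup.lowerCentralSeries_succ, ih, ← Subgroup.lowerCentralSeries_succ,
        heq]
  obtain ⟨n, hn⟩ := Subgroup.nilpotent_iff_lowerCentralSeries.mp (inferInstance : Group.IsNilpotent G)
  apply h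
  rw [← hall n, eq_bot_iff, ← hn]
  exact Subgroup.lowerCentralSeries_antitone ⊤ (Nat.le_add_left n i)

/-- In a finite `p`-group a proper inclusion of subgroups gains a factor `p`. -/
theorem card_mul_le_of_lt {G : Type*} [Group G] [Finite G] {p : ℕ} [Fact p.Prime]
    (hG : IsPGroup p G) {H K : Subgroup G} (h : H < K) : Nat.card H * p ≤ Nat.card K := by
  have hp : p.Prime := Fact.out
  obtain ⟨a, ha⟩ := (hG.to_subgroup H).exists_card_eq
  obtain ⟨b, hb⟩ := (hG.to_subgroup K).exists_card_eq
  have hle : Nat.card H ≤ Nat.card K := Nat.le_of_dvd Nat.card_pos (Subgroup.card_dvd_of_le h.le)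
  have hne : Nat.card H ≠ Nat.card K := by
    intro he
    exact h.ne (Subgroup.eq_of_le_of_card_ge h.le he.ge)
  rw [ha, hb] at *
  have hab : a < b := by
    rcases Nat.lt_or_ge a b with h1 | h1
    · exact h1
    · exfalso
      have := Nat.pow_le_pow_right hp.pos h1
      exact hne (le_antisymm hle this)
  calc p ^ a * p = p ^ (a + 1) := (pow_succ p a).symm
    _ ≤ p ^ b := Nat.pow_le_pow_right hp.pos hab

theorem card_lcs_ge {G : Type*} [Group G] [Finite G] {p : ℕ} [Fact p.Prime]
    (hG : IsPGroup p G) {k : ℕ} (hk : (⊤ : Subgroup G).lowerCentralSeries k ≠ ⊥) :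
    ∀ j, j ≤ k → p ^ (k - j + 1) ≤ Nat.card ((⊤ : Subgroup G).lowerCentralSeries j) := by
  have hp : p.Prime := Fact.out
  have : Group.IsNilpotent G := hG.isNilpotent
  intro j hj
  obtain ⟨m, rfl⟩ : ∃ m, k = j + m := ⟨k - j, by omega⟩
  clear hj
  induction m generalizing j with
  | zero =>
    simp only [Nat.add_zero, Nat.sub_self, Nat.zero_add, pow_one]
    have hnt : Nontrivial ((⊤ : Subgroup G).lowerCentralSeries j) :=
      (Subgroup.nontrivial_iff_ne_bot _).mpr hk
    obtain ⟨a, ha⟩ := (hG.to_subgroup ((⊤ : Subgroup G).lowerCentralSeries j)).exists_card_eq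
    rw [ha]
    rcases Nat.eq_zero_or_pos a with h0 | h0
    · exfalso
      rw [h0, pow_zero] at ha
      have := (Nat.card_eq_one_iff_unique.mp ha).1
      exact not_subsingleton _ this
    · calc p = p ^ 1 := (pow_one p).symm
        _ ≤ p ^ a := Nat.pow_le_pow_right hp.pos h0
  | succ m ih =>
    have h1 := ih (j + 1) (by rwa [show j + 1 + m = j + (m + 1) by omega])
    have hne : (⊤ : Subgroup G).lowerCentralSeries j ≠ ⊥ := by
      intro h0
      apply hk
      rw [eq_bot_iff, ← h0]
      exact Subgroup.lowerCentralSeries_antitone ⊤ (Nat.le_add_right j (m + 1))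
    have h2 := card_mul_le_of_lt hG (lcs_succ_lt hne)
    have e1 : j + (m + 1) - j + 1 = (m + 1) + 1 := by omega
    have e2 : j + 1 + m - (j + 1) + 1 = m + 1 := by omega
    rw [e2] at h1
    rw [e1, pow_succ]
    exact (Nat.mul_le_mul_right p h1).trans h2

/-- A finite `p`-group whose `k`-th lower central term (`k ≥ 1`) is nontrivial has order at
least `p^(k+2)`. -/
theorem card_ge_of_lcs_ne_bot {G : Type*} [Group G] [Finite G] {p : ℕ} [Fact p.Prime]
    (hG : IsPGroup p G) {k : ℕ} (hk1 : 1 ≤ k)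
    (hk : (⊤ : Subgroup G).lowerCentralSeries k ≠ ⊥) : p ^ (k + 2) ≤ Nat.card G := by
  have hp : p.Prime := Fact.out
  have h1 := card_lcs_ge hG hk 1 hk1
  have hne : (⊤ : Subgroup G).lowerCentralSeries 1 ≠ ⊥ := by
    intro h0
    apply hk
    rw [eq_bot_iff, ← h0]
    exact Subgroup.lowerCentralSeries_antitone ⊤ hk1
  obtain ⟨e, he⟩ := hG.index ((⊤ : Subgroup G).lowerCentralSeries 1)
  have he2 := Cfsg.Agent.Lib.Helper95_MaxClass.two_le_of_index_lcs_one hG hne he
  have h2 := Subgroup.card_mul_index ((⊤ : Subgroup G).lowerCentralSeries 1)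
  rw [← h2, he]
  calc p ^ (k + 2) = p ^ (k - 1 + 1) * p ^ 2 := by rw [← pow_add]; congr 1; omega
    _ ≤ Nat.card ((⊤ : Subgroup G).lowerCentralSeries 1) * p ^ e :=
      Nat.mul_le_mul h1 (Nat.pow_le_pow_right hp.pos he2)

/-- A noncyclic abelian subgroup `Z` (here: the centre) of a finite `p`-group contains two
nontrivial cyclic subgroups with trivial intersection; we give the generators. -/
theorem exists_two_of_not_cyclic {G : Type*} [Group G] [Finite G] {p : ℕ} [Fact p.Prime]
    (hG : IsPGroup p G) (hZ : ¬ IsCyclic ↥(Subgroup.center G)) :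
    ∃ a c : G, a ∈ Subgroup.center G ∧ c ∈ Subgroup.center G ∧ a ≠ 1 ∧ c ≠ 1 ∧ c ^ p = 1 ∧
      c ∉ Subgroup.zpowers a := by
  have hp : p.Prime := Fact.out
  -- an element of maximal order in the centre
  obtain ⟨a₀, ha₀⟩ := Finite.exists_max (fun z : Subgroup.center G => orderOf z)
  set a : G := (a₀ : G) with hadef
  have haZ : a ∈ Subgroup.center G := a₀.2
  have hmax : ∀ b ∈ Subgroup.center G, orderOf b ≤ orderOf a := by
    intro b hb
    have := ha₀ ⟨b, hb⟩
    rwa [Subgroup.orderOf_mk, ← Subgroup.orderOf_coe a₀] at this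
  obtain ⟨e, he⟩ := IsPGroup.iff_orderOf.mp hG a
  -- orders of central elements divide the order of `a`
  have hdvd : ∀ b ∈ Subgroup.center G, orderOf b ∣ orderOf a := by
    intro b hb
    obtain ⟨f, hf⟩ := IsPGroup.iff_orderOf.mp hG b
    have hle := hmax b hb
    rw [hf, he] at hle ⊢
    exact pow_dvd_pow p ((Nat.pow_le_pow_iff_right hp.one_lt).mp hle)
  -- some central element is outside `⟨a⟩`
  have hex : ∃ b ∈ Subgroup.center G, b ∉ Subgroup.zpowers a := by
    by_contra hcon
    push Not at hcon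
    apply hZ
    refine ⟨⟨a₀, fun x => ?_⟩⟩
    obtain ⟨k, hk⟩ := Subgroup.mem_zpowers_iff.mp (hcon x x.2)
    refine Subgroup.mem_zpowers_iff.mpr ⟨k, ?_⟩
    apply Subtype.ext
    rw [Subgroup.coe_zpow]
    exact hk
  obtain ⟨b, hbZ, hb⟩ := hex
  have ha1 : a ≠ 1 := by
    intro h1
    apply hb
    have := hdvd b hbZ
    rw [h1, orderOf_one, Nat.dvd_one, orderOf_eq_one_iff] at this
    rw [this]
    exact Subgroup.one_mem _
  have he0 : e ≠ 0 := by
    intro h0
    rw [h0, pow_zero, orderOf_eq_one_iff] at he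
    exact ha1 he
  -- the least `i` with `b^(p^i) ∈ ⟨a⟩`
  obtain ⟨f, hf⟩ := IsPGroup.iff_orderOf.mp hG b
  have hfin : ∃ i, b ^ (p ^ i) ∈ Subgroup.zpowers a :=
    ⟨f, by rw [← hf, pow_orderOf_eq_one]; exact Subgroup.one_mem _⟩
  classical
  set i := Nat.find hfin with hi
  have hi_spec : b ^ (p ^ i) ∈ Subgroup.zpowers a := Nat.find_spec hfin
  have hi0 : i ≠ 0 := by
    intro h0
    rw [h0, pow_zero, pow_one] at hi_spec
    exact hb hi_spec
  obtain ⟨i', hi'⟩ := Nat.exists_eq_succ_of_ne_zero hi0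
  set b' : G := b ^ (p ^ i') with hb'def
  have hb'Z : b' ∈ Subgroup.center G := Subgroup.pow_mem _ hbZ _
  have hb'not : b' ∉ Subgroup.zpowers a := Nat.find_min hfin (by omega : i' < i)
  have hb'p : b' ^ p ∈ Subgroup.zpowers a := by
    rw [hb'def, ← pow_mul, ← pow_succ, ← Nat.succ_eq_add_one, ← hi']
    exact hi_spec
  obtain ⟨k, hk⟩ := Subgroup.mem_zpowers_iff.mp hb'p
  -- `p ∣ k`
  have hpk : (p : ℤ) ∣ k := by
    obtain ⟨e', he'⟩ := Nat.exists_eq_succ_of_ne_zero he0
    have h1 : b' ^ (p ^ e) = 1 := by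
      rw [← he]
      exact orderOf_dvd_iff_pow_eq_one.mp (hdvd b' hb'Z)
    have h2 : a ^ (k * (p ^ e' : ℕ)) = 1 := by
      rw [zpow_mul, hk, zpow_natCast, ← pow_mul, ← pow_succ', ← Nat.succ_eq_add_one, ← he']
      exact h1
    have h3 := (orderOf_dvd_iff_zpow_eq_one).mpr h2
    rw [he, he', Nat.succ_eq_add_one, pow_succ] at h3
    push_cast at h3
    have hpos : ((p : ℤ) ^ e') ≠ 0 := pow_ne_zero _ (by exact_mod_cast hp.ne_zero)
    rw [mul_comm k] at h3
    exact (mul_dvd_mul_iff_left hpos).mp h3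
  obtain ⟨k', hk'⟩ := hpk
  have hcomm : Commute b' (a ^ (-k')) := by
    have : ∀ g : G, Commute b' g := fun g => (Subgroup.mem_center_iff.mp hb'Z g).symm
    exact this _
  refine ⟨a, b' * a ^ (-k'), haZ, ?_, ha1, ?_, ?_, ?_⟩
  · exact Subgroup.mul_mem _ hb'Z (Subgroup.zpow_mem _ haZ _)
  · intro h1
    apply hb'not
    have : b' = a ^ k' := by
      have := eq_inv_of_mul_eq_one_left h1
      rw [this, zpow_neg, inv_inv]
    rw [this]
    exact Subgroup.zpow_mem_zpowers a k'
  · rw [hcomm.mul_pow, ← hk, ← zpow_natCast (a ^ (-k')) p, ← zpow_mul, ← zpow_add, hk']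
    have : (p : ℤ) * k' + -k' * (p : ℤ) = 0 := by ring
    rw [this, zpow_zero]
  · intro hmem
    apply hb'not
    have h2 := Subgroup.mul_mem _ hmem (Subgroup.zpow_mem_zpowers a k')
    rwa [mul_assoc, ← zpow_add, neg_add_cancel, zpow_zero, mul_one] at h2

/-- Say that a finite group is p-exponent closed when its elements of order dividing p form a subgroup. Let G be a finite p-group that is not p-exponent closed, but all of whose proper subgroups and proper quotients are. Then G is generated by two elements, has nilpotency class at least p, has exponent p², has cyclic center, and has order at least p^(p+1). -/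
theorem result {G : Type*} [Group G] [Finite G] {p : ℕ} [Fact p.Prime] (hG : IsPGroup p G)
    (hnc : ¬ (∃ H : Subgroup G, (H : Set G) = {g : G | g ^ p = 1})) (hsub : ∀ K : Subgroup G, K ≠ ⊤ → (∃ H : Subgroup ↥K, (H : Set ↥K) = {g : ↥K | g ^ p = 1}))
    (hquo : ∀ (N : Subgroup G) [N.Normal], N ≠ ⊥ → (∃ H : Subgroup (G ⧸ N), (H : Set (G ⧸ N)) = {g : (G ⧸ N) | g ^ p = 1})) :
    (∃ x y : G, Subgroup.closure ({x, y} : Set G) = ⊤) ∧ (⊤ : Subgroup G).lowerCentralSeries (p - 1) ≠ ⊥ ∧
      Monoid.exponent G = p ^ 2 ∧ IsCyclic ↥(Subgroup.center G) ∧ p ^ (p + 1) ≤ Nat.card G := by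
  have hp : p.Prime := Fact.out
  -- two elements of order dividing `p` whose product is not
  obtain ⟨x, y, hx, hy, hxy⟩ : ∃ x y : G, x ^ p = 1 ∧ y ^ p = 1 ∧ (x * y) ^ p ≠ 1 := by
    by_contra hcon
    push Not at hcon
    apply hnc
    exact ⟨{ carrier := {g : G | g ^ p = 1}
             one_mem' := one_pow p
             mul_mem' := fun {a b} ha hb => hcon a b ha hb
             inv_mem' := fun {a} ha => by
               show a⁻¹ ^ p = 1
               rw [inv_pow, show a ^ p = 1 from ha, inv_one] }, rfl⟩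
  -- generation
  have hgen : Subgroup.closure ({x, y} : Set G) = ⊤ := by
    by_contra hne
    obtain ⟨H, hH⟩ := hsub _ hne
    have hxK : x ∈ Subgroup.closure ({x, y} : Set G) := Subgroup.subset_closure (by simp)
    have hyK : y ∈ Subgroup.closure ({x, y} : Set G) := Subgroup.subset_closure (by simp)
    have hxH : (⟨x, hxK⟩ : Subgroup.closure ({x, y} : Set G)) ∈ H := by
      rw [← SetLike.mem_coe, hH]
      apply Subtype.ext
      simp [hx]
    have hyH : (⟨y, hyK⟩ : Subgroup.closure ({x, y} : Set G)) ∈ H := by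
      rw [← SetLike.mem_coe, hH]
      apply Subtype.ext
      simp [hy]
    have hm := H.mul_mem hxH hyH
    rw [← SetLike.mem_coe, hH] at hm
    have hm' : ((⟨x, hxK⟩ * ⟨y, hyK⟩ : Subgroup.closure ({x, y} : Set G)) ^ p) = 1 := hm
    apply hxy
    have := congrArg (Subtype.val) hm'
    simpa using this
  -- passing to a quotient by a nontrivial normal subgroup
  have hquot : ∀ (N : Subgroup G) [N.Normal], N ≠ ⊥ → ∀ g : G, g ^ p ∈ N := by
    intro N _ hN g
    obtain ⟨H, hH⟩ := hquo N hN
    have hxH : (QuotientGroup.mk' N x) ∈ H := by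
      rw [← SetLike.mem_coe, hH]
      show (QuotientGroup.mk' N x) ^ p = 1
      rw [← map_pow, hx, map_one]
    have hyH : (QuotientGroup.mk' N y) ∈ H := by
      rw [← SetLike.mem_coe, hH]
      show (QuotientGroup.mk' N y) ^ p = 1
      rw [← map_pow, hy, map_one]
    have htop : H = ⊤ := by
      rw [eq_top_iff, ← MonoidHom.range_eq_top.mpr (QuotientGroup.mk'_surjective N),
        MonoidHom.range_eq_map, ← hgen, MonoidHom.map_closure, Subgroup.closure_le]
      intro z hz
      rw [Set.image_pair] at hz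
      rcases hz with rfl | rfl
      · exact hxH
      · exact hyH
    have hg : (QuotientGroup.mk' N g) ∈ H := by rw [htop]; exact Subgroup.mem_top _
    rw [← SetLike.mem_coe, hH] at hg
    have hg' : (QuotientGroup.mk' N g) ^ p = 1 := hg
    rw [← map_pow] at hg'
    exact (QuotientGroup.eq_one_iff _).mp hg'
  have hcentral_normal : ∀ a : G, a ∈ Subgroup.center G → (Subgroup.zpowers a).Normal := by
    intro a ha
    refine ⟨fun n hn g => ?_⟩
    have hnZ : n ∈ Subgroup.center G := by
      obtain ⟨k, rfl⟩ := Subgroup.mem_zpowers_iff.mp hn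
      exact Subgroup.zpow_mem _ ha k
    have : g * n * g⁻¹ = n := by
      rw [Subgroup.mem_center_iff.mp hnZ g, mul_inv_cancel_right]
    rw [this]
    exact hn
  -- class at least p
  have hclass : (⊤ : Subgroup G).lowerCentralSeries (p - 1) ≠ ⊥ := by
    intro hcl
    have hreg := Cfsg.Agent.S4209.result hG hcl
    obtain ⟨H, -, hH⟩ := Cfsg.Agent.S4225.result hreg 1
    apply hnc
    refine ⟨H, ?_⟩
    rw [hH]
    simp
  -- cyclic centre
  have hcyc : IsCyclic ↥(Subgroup.center G) := by
    by_contra hZ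
    obtain ⟨a, c, haZ, hcZ, ha1, hc1, hcp, hca⟩ := exists_two_of_not_cyclic hG hZ
    have := hcentral_normal a haZ
    have := hcentral_normal c hcZ
    have h1 := hquot (Subgroup.zpowers a) (by
      rw [Ne, Subgroup.zpowers_eq_bot]; exact ha1) (x * y)
    have h2 := hquot (Subgroup.zpowers c) (by
      rw [Ne, Subgroup.zpowers_eq_bot]; exact hc1) (x * y)
    set w := (x * y) ^ p with hw
    -- `w` has order `p`, generates `⟨c⟩`
    have hoc : orderOf c = p := orderOf_eq_prime hcp hc1
    have hwp : w ^ p = 1 := by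
      obtain ⟨k, hk⟩ := Subgroup.mem_zpowers_iff.mp h2
      rw [← hk, ← zpow_natCast, ← zpow_mul, mul_comm, zpow_mul, zpow_natCast, hcp, one_zpow]
    have how : orderOf w = p := orderOf_eq_prime hwp hxy
    have hle : Subgroup.zpowers w ≤ Subgroup.zpowers c := by
      rw [Subgroup.zpowers_le]; exact h2
    have heq : Subgroup.zpowers w = Subgroup.zpowers c := by
      apply Subgroup.eq_of_le_of_card_ge hle
      rw [Nat.card_zpowers, Nat.card_zpowers, hoc, how]
    apply hca
    have : c ∈ Subgroup.zpowers w := by rw [heq]; exact Subgroup.mem_zpowers c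
    exact (Subgroup.zpowers_le.mpr h1) this
  -- exponent
  have hexp : Monoid.exponent G = p ^ 2 := by
    have : Nontrivial G := by
      refine ⟨⟨(x * y) ^ p, 1, hxy⟩⟩
    obtain ⟨z, hz⟩ := exists_prime_orderOf_dvd_card' (G := Subgroup.center G) p (by
      obtain ⟨n, hn0, hn⟩ := (hG.to_subgroup (Subgroup.center G)).nontrivial_iff_card.mp
        (hG.center_nontrivial)
      rw [hn]
      exact dvd_pow_self p hn0.ne')
    have hzZ : (z : G) ∈ Subgroup.center G := z.2
    have hoz : orderOf (z : G) = p := by rw [Subgroup.orderOf_coe]; exact hz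
    have := hcentral_normal (z : G) hzZ
    have hz1 : (z : G) ≠ 1 := by
      intro h1
      rw [h1, orderOf_one] at hoz
      exact hp.one_lt.ne hoz
    have hall : ∀ g : G, g ^ (p ^ 2) = 1 := by
      intro g
      have := hquot (Subgroup.zpowers (z : G)) (by
        rw [Ne, Subgroup.zpowers_eq_bot]; exact hz1) g
      obtain ⟨k, hk⟩ := Subgroup.mem_zpowers_iff.mp this
      rw [pow_two, pow_mul, ← hk, ← zpow_natCast, ← zpow_mul, mul_comm, zpow_mul, zpow_natCast,
        ← hoz, pow_orderOf_eq_one, one_zpow]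
    have hd : Monoid.exponent G ∣ p ^ 2 := Monoid.exponent_dvd_of_forall_pow_eq_one hall
    obtain ⟨m, hm2, hm⟩ := (Nat.dvd_prime_pow hp).mp hd
    have hm' : ¬ m ≤ 1 := by
      intro hle
      apply hxy
      have h1 : Monoid.exponent G ∣ p := by
        rw [hm]
        calc p ^ m ∣ p ^ 1 := pow_dvd_pow p hle
          _ = p := pow_one p
      obtain ⟨t, ht⟩ := h1
      rw [ht, pow_mul, Monoid.pow_exponent_eq_one, one_pow]
    have : m = 2 := by omega
    rw [hm, this]
  refine ⟨⟨x, y, hgen⟩, hclass, hexp, hcyc, ?_⟩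
  -- order
  have hp1 : 1 ≤ p - 1 := by have := hp.two_le; omega
  have := card_ge_of_lcs_ne_bot hG hp1 hclass
  rwa [show p - 1 + 2 = p + 1 by have := hp.two_le; omega] at this

end Cfsg.Agent.S3872
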