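import Cfsg.Statements.S3873
import Cfsg.Agent.S3868
import Mathlib

set_option autoImplicit false
set_option linter.unusedSectionVars false
open Cfsg

namespace Cfsg.Agent.S3873

open Subgroup
open Cfsg.Agent.S3869 (mem_normalizer_of_conj_mem)
open Cfsg.Agent.S3868 (exists_minimal_normal)
open Cfsg.Agent.Lib.Helper24_CoprimeAction (exists_mul_of_mem_sup)

variable {G : Type*} [Group G] [Finite G] {p : ℕ} [hp : Fact p.Prime]

/-- if the elements of order dividing `p` of `K` form a subgroup, it is a `p`-subgroup of `G`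
normalized by `K`. -/
theorem omega_sub (K : Subgroup G)
    (hK : ∃ H : Subgroup ↥K, (H : Set ↥K) = {g : ↥K | g ^ p = 1}) :
    ∃ S : Subgroup G, (∀ g : G, g ∈ S ↔ g ∈ K ∧ g ^ p = 1) ∧ IsPGroup p S ∧
      K ≤ normalizer (S : Set G) := by
  obtain ⟨H, hH⟩ := hK
  have hmemH : ∀ g : ↥K, g ∈ H ↔ g ^ p = 1 := by
    intro g
    rw [← SetLike.mem_coe, hH]
    rfl
  have hmem : ∀ g : G, g ∈ H.map K.subtype ↔ g ∈ K ∧ g ^ p = 1 := by
    intro g
    constructor
    · rintro ⟨h, hh, rfl⟩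
      refine ⟨h.2, ?_⟩
      have := (hmemH h).mp hh
      have h2 := congrArg Subtype.val this
      simpa using h2
    · rintro ⟨hgK, hgp⟩
      refine ⟨⟨g, hgK⟩, (hmemH _).mpr (Subtype.ext (by simpa using hgp)), rfl⟩
  refine ⟨H.map K.subtype, hmem, ?_, ?_⟩
  · intro ⟨g, hg⟩
    refine ⟨1, Subtype.ext ?_⟩
    simp only [pow_one, SubmonoidClass.mk_pow, OneMemClass.coe_one]
    exact ((hmem g).mp hg).2
  · intro k hk
    apply mem_normalizer_of_conj_mem
    intro y hy
    rw [hmem] at hy ⊢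
    refine ⟨K.mul_mem (K.mul_mem hk hy.1) (K.inv_mem hk), ?_⟩
    rw [conj_pow, hy.2, mul_one, mul_inv_cancel]

theorem result {G : Type*} [Group G] [Finite G] {p : ℕ} [Fact p.Prime]
    (hnc : ¬ (∃ H : Subgroup G, (H : Set G) = {g : G | g ^ p = 1})) (hsub : ∀ K : Subgroup G, K ≠ ⊤ → (∃ H : Subgroup ↥K, (H : Set ↥K) = {g : ↥K | g ^ p = 1}))
    (hquo : ∀ (N : Subgroup G) [N.Normal], N ≠ ⊥ → (∃ H : Subgroup (G ⧸ N), (H : Set (G ⧸ N)) = {g : (G ⧸ N) | g ^ p = 1}))
    (hns : ¬ IsSimpleGroup G) (hnp : ¬ IsPGroup p G) :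
    ∃ q : ℕ, q.Prime ∧ q ≠ p ∧ Nat.card G = p * q ^ orderOf (q : ZMod p) ∧
      ∃ A : Subgroup G, A.Normal ∧ Nat.card ↥A = q ^ orderOf (q : ZMod p) ∧ Cfsg.IsElementaryAbelian q A ∧
        ∀ B : Subgroup G, B.Normal → B ≤ A → B = ⊥ ∨ B = A := by
  have hpp : p.Prime := Fact.out
  -- two generators of order dividing p
  have hab : ∃ a b : G, a ^ p = 1 ∧ b ^ p = 1 ∧ (a * b) ^ p ≠ 1 := by
    by_contra hcon
    push Not at hcon
    apply hnc
    exact ⟨{ carrier := {g : G | g ^ p = 1}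
             one_mem' := one_pow p
             mul_mem' := fun {a b} ha hb => hcon a b ha hb
             inv_mem' := fun {a} ha => by
               change a⁻¹ ^ p = 1
               rw [inv_pow]
               change a ^ p = 1 at ha
               rw [ha, inv_one] }, rfl⟩
  obtain ⟨a, b, ha, hb, hab⟩ := hab
  have hgen : closure ({a, b} : Set G) = ⊤ := by
    by_contra hK
    obtain ⟨S, hS, -, -⟩ := omega_sub _ (hsub _ hK)
    have haS : a ∈ S := (hS a).mpr ⟨subset_closure (by simp), ha⟩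
    have hbS : b ∈ S := (hS b).mpr ⟨subset_closure (by simp), hb⟩
    exact hab ((hS _).mp (S.mul_mem haS hbS)).2
  have hGnp : ∃ g : G, g ≠ 1 := by
    by_contra hcon
    push Not at hcon
    apply hnp
    intro g
    exact ⟨0, by rw [hcon g]; simp⟩
  -- quotients have exponent p
  have hQ : ∀ (Z : Subgroup G) [Z.Normal], Z ≠ ⊥ → ∀ g : G, g ^ p ∈ Z := by
    intro Z hZn hZ1 g
    obtain ⟨H, hH⟩ := hquo Z hZ1
    have hmemH : ∀ x : G ⧸ Z, x ∈ H ↔ x ^ p = 1 := by
      intro x
      rw [← SetLike.mem_coe, hH]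
      rfl
    have haH : ((a : G) : G ⧸ Z) ∈ H := by
      rw [hmemH, ← QuotientGroup.mk_pow, ha]; rfl
    have hbH : ((b : G) : G ⧸ Z) ∈ H := by
      rw [hmemH, ← QuotientGroup.mk_pow, hb]; rfl
    have hle : closure ({a, b} : Set G) ≤ H.comap (QuotientGroup.mk' Z) := by
      rw [closure_le]
      intro x hx
      rcases hx with rfl | hx
      · exact haH
      · rw [Set.mem_singleton_iff] at hx
        rw [hx]
        exact hbH
    rw [hgen] at hle
    have hg : ((g : G) : G ⧸ Z) ∈ H := hle (mem_top g)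
    rw [hmemH, ← QuotientGroup.mk_pow] at hg
    exact (QuotientGroup.eq_one_iff _).mp hg
  -- a proper nontrivial normal subgroup
  have hex : ∃ H : Subgroup G, H.Normal ∧ H ≠ ⊥ ∧ H ≠ ⊤ := by
    by_contra hcon
    push Not at hcon
    apply hns
    have hnt : Nontrivial G := by
      obtain ⟨g, hg⟩ := hGnp
      exact ⟨⟨g, 1, hg⟩⟩
    exact ⟨fun H hH => by
      by_cases h : H = ⊥
      · exact Or.inl h
      · exact Or.inr (hcon H hH h)⟩
  obtain ⟨H, hHn, hH1, hHtop⟩ := hex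
  obtain ⟨N, hNn, hN1, hNH, hmin⟩ := exists_minimal_normal H hHn hH1
  have hNtop : N ≠ ⊤ := fun h => hHtop (eq_top_iff.mpr (h ▸ hNH))
  -- N has no element of order p
  obtain ⟨ΩN, hΩ, -, -⟩ := omega_sub N (hsub N hNtop)
  have hΩN : ΩN ≤ N := fun g hg => ((hΩ g).mp hg).1
  have hΩn : ΩN.Normal := by
    refine ⟨fun n hn g => ?_⟩
    rw [hΩ] at hn ⊢
    exact ⟨hNn.conj_mem n hn.1 g, by rw [conj_pow, hn.2, mul_one, mul_inv_cancel]⟩
  have hΩbot : ΩN = ⊥ := by
    rcases hmin ΩN hΩn hΩN with h | h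
    · exact h
    · exfalso
      apply hnp
      intro g
      refine ⟨2, ?_⟩
      have h1 : g ^ p ∈ ΩN := by rw [h]; exact hQ N hN1 g
      have h2 := ((hΩ _).mp h1).2
      rw [pow_two, pow_mul]
      exact h2
  have hNp : ∀ n ∈ N, n ^ p = 1 → n = 1 := by
    intro n hn hnp'
    have : n ∈ ΩN := (hΩ n).mpr ⟨hn, hnp'⟩
    rw [hΩbot, mem_bot] at this
    exact this
  have hpN : ¬ p ∣ Nat.card N := by
    intro h
    obtain ⟨n, hn⟩ := exists_prime_orderOf_dvd_card' (G := N) p h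
    have h1 : (n : G) ^ p = 1 := by
      have := pow_orderOf_eq_one n
      rw [hn] at this
      have h2 := congrArg Subtype.val this
      simpa using h2
    have h2 := hNp n n.2 h1
    have h3 : n = 1 := Subtype.ext h2
    rw [h3, orderOf_one] at hn
    exact hpp.one_lt.ne hn
  obtain ⟨P⟩ : Nonempty (Sylow p G) := inferInstance
  have hPN : (P : Subgroup G) ⊓ N = ⊥ :=
    Cfsg.Agent.Lib.Helper32_Sylow.inf_eq_bot_of_pgroup_of_coprime P.2
      ((Nat.Prime.coprime_iff_not_dvd hpp).mpr hpN).symm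
  have hsup : (P : Subgroup G) ⊔ N = ⊤ := by
    have hQp : IsPGroup p (G ⧸ N) := by
      intro x
      obtain ⟨g, rfl⟩ := QuotientGroup.mk_surjective x
      refine ⟨1, ?_⟩
      rw [pow_one, ← QuotientGroup.mk_pow]
      exact (QuotientGroup.eq_one_iff _).mpr (hQ N hN1 g)
    obtain ⟨k, hk⟩ := IsPGroup.iff_card.mp hQp
    have hidxN : N.index = p ^ k := by rw [Subgroup.index_eq_card, hk]
    have h1 : ((P : Subgroup G) ⊔ N).index ∣ p ^ k := by
      rw [← hidxN]; exact index_dvd_of_le le_sup_right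
    have h2 : ((P : Subgroup G) ⊔ N).index ∣ (P : Subgroup G).index := index_dvd_of_le le_sup_left
    obtain ⟨j, -, hj⟩ := (Nat.dvd_prime_pow hpp).mp h1
    rw [← index_eq_one, hj]
    rcases Nat.eq_zero_or_pos j with h0 | h0
    · rw [h0, pow_zero]
    · exfalso
      apply P.not_dvd_index
      refine dvd_trans ?_ h2
      rw [hj]
      exact dvd_pow_self p h0.ne'
  -- P has exponent p
  have hPexp : ∀ y ∈ (P : Subgroup G), y ^ p = 1 := by
    intro y hy
    have h1 : y ^ p ∈ (P : Subgroup G) ⊓ N := ⟨pow_mem hy p, hQ N hN1 y⟩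
    rw [hPN, mem_bot] at h1
    exact h1
  -- P is not normal
  have hPn : ¬ (P : Subgroup G).Normal := by
    intro hn
    apply hnp
    have hsubs : Subsingleton (Sylow p G) := by
      have := Sylow.unique_of_normal P hn
      infer_instance
    have hmemP : ∀ x : G, x ^ p = 1 → x ∈ (P : Subgroup G) := by
      intro x hx
      have h2 : IsPGroup p (zpowers x) := by
        apply IsPGroup.of_card (n := (if orderOf x = 1 then 0 else 1))
        rw [Nat.card_zpowers]
        rcases (Nat.dvd_prime hpp).mp (orderOf_dvd_of_pow_eq_one hx) with h | h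
        · simp [h]
        · rw [h]
          simp [hpp.one_lt.ne']
      obtain ⟨Q, hQ'⟩ := h2.exists_le_sylow
      have : Q = P := Subsingleton.elim _ _
      rw [← this]
      exact hQ' (mem_zpowers x)
    have htop : (⊤ : Subgroup G) ≤ (P : Subgroup G) := by
      rw [← hgen, closure_le]
      intro x hx
      rcases hx with rfl | hx
      · exact hmemP _ ha
      · rw [Set.mem_singleton_iff] at hx
        rw [hx]
        exact hmemP _ hb
    intro g
    obtain ⟨k, hk⟩ := P.2 ⟨g, htop (mem_top g)⟩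
    exact ⟨k, by simpa using congrArg Subtype.val hk⟩
  have hNcop : ∀ n ∈ N, ∀ k : ℕ, n ^ (p ^ k) = 1 → n = 1 := by
    intro n hn k hk
    have h1 : orderOf n ∣ p ^ k := orderOf_dvd_of_pow_eq_one hk
    have h2 : orderOf n ∣ Nat.card N := by
      have := orderOf_dvd_natCard (⟨n, hn⟩ : N)
      rwa [Subgroup.orderOf_mk] at this
    have h3 : orderOf n ∣ Nat.gcd (p ^ k) (Nat.card N) := Nat.dvd_gcd h1 h2
    have h4 : Nat.gcd (p ^ k) (Nat.card N) = 1 :=
      Nat.Coprime.pow_left k ((Nat.Prime.coprime_iff_not_dvd hpp).mpr hpN)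
    rw [h4, Nat.dvd_one, orderOf_eq_one_iff] at h3
    exact h3
  apply Cfsg.Agent.Lib.Helper64_MinNon.structure_thm P N hPN hsup hPn hmin
  · -- H1
    intro K hPK hK
    obtain ⟨S, hS, hSp, hKS⟩ := omega_sub K (hsub K hK)
    have hPS : (P : Subgroup G) ≤ S := fun y hy => (hS y).mpr ⟨hPK hy, hPexp y hy⟩
    have hEq : S = (P : Subgroup G) := P.is_maximal' hSp hPS
    rw [hEq] at hKS
    exact hKS
  · -- H2
    intro P₀ hP₀
    have hP₀N : P₀ ≤ normalizer (N : Set G) := by rw [normalizer_eq_top]; exact le_top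
    have hK : N ⊔ P₀ ≠ ⊤ := by
      intro hK
      apply hP₀.not_ge
      intro y hy
      have hy' : y ∈ N ⊔ P₀ := by rw [hK]; trivial
      obtain ⟨n, hn, y₀, hy₀, hny⟩ := exists_mul_of_mem_sup P₀ N hP₀N hy'
      have hnP : n ∈ (P : Subgroup G) ⊓ N := by
        refine ⟨?_, hn⟩
        have : n = y * y₀⁻¹ := by rw [hny]; group
        rw [this]
        exact (P : Subgroup G).mul_mem hy ((P : Subgroup G).inv_mem (hP₀.le hy₀))
      rw [hPN, mem_bot] at hnP
      rw [hny, hnP, one_mul]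
      exact hy₀
    obtain ⟨S, hS, hSp, hKS⟩ := omega_sub _ (hsub _ hK)
    have hP₀S : P₀ ≤ S := fun y hy => (hS y).mpr ⟨le_sup_right (a := N) hy, hPexp y (hP₀.le hy)⟩
    have hSP₀ : S ≤ P₀ := by
      intro s hs
      obtain ⟨n, hn, y₀, hy₀, hny⟩ := exists_mul_of_mem_sup P₀ N hP₀N ((hS s).mp hs).1
      have hnS : n ∈ S := by
        have : n = s * y₀⁻¹ := by rw [hny]; group
        rw [this]
        exact S.mul_mem hs (S.inv_mem (hP₀S hy₀))
      obtain ⟨k, hk⟩ := hSp ⟨n, hnS⟩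
      have hk' : n ^ (p ^ k) = 1 := by simpa using congrArg Subtype.val hk
      rw [hny, hNcop n hn k hk', one_mul]
      exact hy₀
    have hEq : S = P₀ := le_antisymm hSP₀ hP₀S
    rw [hEq] at hKS
    exact le_sup_left.trans hKS
  · -- H3
    intro Z hZn hZP
    by_contra hZ1
    apply hN1
    rw [eq_bot_iff]
    intro n hn
    rw [mem_bot]
    apply hNp n hn
    have h1 : n ^ p ∈ (P : Subgroup G) ⊓ N := ⟨hZP (hQ Z hZ1 n), pow_mem hn p⟩
    rw [hPN, mem_bot] at h1
    exact h1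

end Cfsg.Agent.S3873
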