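import Cfsg.Statements.S3881
import Cfsg.Agent.Lib.Helper64_Metacyclic
import Cfsg.Agent.S3879
import Mathlib

set_option autoImplicit false
set_option linter.unusedSectionVars false
set_option linter.style.haveILetI false
open Cfsg

namespace Cfsg.Agent.S3881

open Cfsg.Agent.Lib.Helper64_Metacyclic

/-- the preimage of the centre of `G ⧸ Ω`. -/
def T {G : Type*} [Group G] (Ω : Subgroup G) [Ω.Normal] : Subgroup G :=
  (Subgroup.center (G ⧸ Ω)).comap (QuotientGroup.mk' Ω)

theorem mem_T {G : Type*} [Group G] (Ω : Subgroup G) [Ω.Normal] (g : G) :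
    g ∈ T Ω ↔ ∀ h : G, h * g * h⁻¹ * g⁻¹ ∈ Ω := by
  unfold T
  rw [Subgroup.mem_comap, Subgroup.mem_center_iff]
  constructor
  · intro H h
    have h1 := H (h : G ⧸ Ω)
    rw [← QuotientGroup.eq_one_iff]
    have h2 : ((h * g * h⁻¹ * g⁻¹ : G) : G ⧸ Ω) =
        (h : G ⧸ Ω) * (QuotientGroup.mk' Ω g) * (h : G ⧸ Ω)⁻¹ * (QuotientGroup.mk' Ω g)⁻¹ := rfl
    rw [h2, h1]
    group
  · intro H q
    obtain ⟨h, rfl⟩ := QuotientGroup.mk_surjective q
    have h1 := (QuotientGroup.eq_one_iff _).mpr (H h)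
    have h2 : ((h * g * h⁻¹ * g⁻¹ : G) : G ⧸ Ω) =
        (h : G ⧸ Ω) * (QuotientGroup.mk' Ω g) * (h : G ⧸ Ω)⁻¹ * (QuotientGroup.mk' Ω g)⁻¹ := rfl
    rw [h2] at h1
    have h3 : (h : G ⧸ Ω) * (QuotientGroup.mk' Ω g) * (h : G ⧸ Ω)⁻¹ = QuotientGroup.mk' Ω g :=
      mul_inv_eq_one.mp h1
    calc (h : G ⧸ Ω) * (QuotientGroup.mk' Ω g)
        = ((h : G ⧸ Ω) * (QuotientGroup.mk' Ω g) * (h : G ⧸ Ω)⁻¹) * (h : G ⧸ Ω) := by group
      _ = QuotientGroup.mk' Ω g * (h : G ⧸ Ω) := by rw [h3]

/-- commutators with powers of `h`, when `h` acts on `A ∋ [h,g]` as the `R`-th power map. -/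
theorem comm_pow {G : Type*} [Group G] (A : Subgroup G) (h g : G) (R : ℕ)
    (hR : ∀ x ∈ A, h * x * h⁻¹ = x ^ R) (hz : h * g * h⁻¹ * g⁻¹ ∈ A) (k : ℕ) :
    h ^ k * g * (h ^ k)⁻¹ * g⁻¹ = (h * g * h⁻¹ * g⁻¹) ^ (∑ t ∈ Finset.range k, R ^ t) := by
  induction k with
  | zero => simp
  | succ k ih =>
    have e1 : h ^ (k + 1) * g * (h ^ (k + 1))⁻¹ * g⁻¹ =
        h * (h ^ k * g * (h ^ k)⁻¹ * g⁻¹) * h⁻¹ * (h * g * h⁻¹ * g⁻¹) := by
      rw [pow_succ']; group
    have e2 : ∑ t ∈ Finset.range (k + 1), R ^ t = (∑ t ∈ Finset.range k, R ^ t) * R + 1 := by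
      rw [Finset.sum_range_succ', pow_zero, Finset.sum_mul]
      congr 1
    rw [e1, ih, hR _ (A.pow_mem hz _), ← pow_mul, ← pow_succ, e2]

/-- Let p be an odd prime and G a finite metacyclic p-group (G has a cyclic normal subgroup with cyclic quotient). Suppose G is non-abelian with |G'| = p^n. Then for 1 ≤ i ≤ n the number of elements of G whose conjugacy class has exactly p^i elements is |Z(G)| · (p^(2i) − p^(2i−2)). -/
theorem result {G : Type*} [Group G] [Finite G] {p : ℕ} [Fact p.Prime] (hp : p ≠ 2) (hG : IsPGroup p G) (hmc : Cfsg.IsMetacyclic G) (n : ℕ) (hn : n ≠ 0) (hGn : Nat.card ↥(commutator G) = p ^ n) (i : ℕ) (hi : 1 ≤ i) (hin : i ≤ n) :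
    Nat.card {g : G // (Subgroup.centralizer ({g} : Set G)).index = p ^ i} =
      Nat.card ↥(Subgroup.center G) * (p ^ (2 * i) - p ^ (2 * i - 2)) := by
  classical
  have hpp : p.Prime := Fact.out
  have hmc' := hmc
  obtain ⟨A, hAn, hAc, hQc⟩ := hmc
  obtain ⟨⟨a, haA⟩, ha⟩ := hAc.exists_generator
  have hApow : ∀ x ∈ A, ∃ i : ℕ, a ^ i = x := by
    intro x hx
    have h1 := ha ⟨x, hx⟩
    rw [← mem_powers_iff_mem_zpowers, Submonoid.mem_powers_iff] at h1
    obtain ⟨i, hi⟩ := h1
    exact ⟨i, by simpa using congrArg Subtype.val hi⟩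
  obtain ⟨q, hq⟩ := hQc.exists_generator
  obtain ⟨b, rfl⟩ := QuotientGroup.mk_surjective q
  have hgen : A ⊔ Subgroup.zpowers b = ⊤ := by
    rw [eq_top_iff]
    intro g _
    obtain ⟨k, hk⟩ := Subgroup.mem_zpowers_iff.mp (hq (g : G ⧸ A))
    have h1 : (b ^ k)⁻¹ * g ∈ A := by
      rw [← QuotientGroup.eq]
      simpa using hk
    have h2 : g = b ^ k * ((b ^ k)⁻¹ * g) := by group
    rw [h2]
    exact Subgroup.mul_mem _ (Subgroup.mem_sup_right (Subgroup.zpow_mem_zpowers b k))
      (Subgroup.mem_sup_left h1)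
  have hψa : b * a * b⁻¹ * a⁻¹ ∈ A := A.mul_mem (hAn.conj_mem a haA b) (A.inv_mem haA)
  obtain ⟨w, hw⟩ := hApow _ hψa
  obtain ⟨m, hm⟩ : ∃ m, orderOf a = p ^ m := by
    obtain ⟨k, hk⟩ := hG a
    obtain ⟨m, -, hm⟩ := (Nat.dvd_prime_pow hpp).mp (orderOf_dvd_of_pow_eq_one hk)
    exact ⟨m, hm⟩
  -- the derived subgroup
  set c := a ^ w with hc
  have hcA : c ∈ A := A.pow_mem haA w
  have hcomm : commutator G = Subgroup.zpowers c := commutator_eq A a b w haA hApow hgen hw
  have hoc : orderOf c = p ^ n := by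
    rw [← Nat.card_zpowers, ← hcomm, hGn]
  have hm0 : m ≠ 0 := by
    rintro rfl
    rw [pow_zero, orderOf_eq_one_iff] at hm
    have : c = 1 := by rw [hc, hm, one_pow]
    rw [this, orderOf_one] at hoc
    have h1 : 1 < p ^ n := Nat.one_lt_pow hn hpp.one_lt
    omega
  have hpw : p ∣ w := dvd_w A a b w haA hApow hgen hw hG hm hm0
  have hcommA : commutator G ≤ A := by
    rw [hcomm, Subgroup.zpowers_le]; exact hcA
  have hcomm_mem : ∀ h g : G, h * g * h⁻¹ * g⁻¹ ∈ commutator G := by
    intro h g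
    rw [commutator_def]
    exact Subgroup.commutator_mem_commutator (Subgroup.mem_top h) (Subgroup.mem_top g)
  obtain ⟨N, hN⟩ := IsPGroup.iff_card.mp hG
  -- the subgroups Ω_j
  have main : ∀ j : ℕ, j ≤ n →
      ∃ Tj : Subgroup G, Nat.card Tj * p ^ (2 * (n - j)) = Nat.card G ∧
        ∀ g : G, (Subgroup.centralizer ({g} : Set G)).index ≤ p ^ j ↔ g ∈ Tj := by
    intro j hj
    set d := c ^ (p ^ (n - j)) with hd
    have hdA : d ∈ A := A.pow_mem hcA _
    haveI hΩn : (Subgroup.zpowers d).Normal := zpowers_normal A a b w haA hApow hgen hw hdA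
    have hod : orderOf d = p ^ j := by
      rw [hd, orderOf_pow, hoc, Nat.gcd_eq_right (pow_dvd_pow p (Nat.sub_le n j)),
        Nat.pow_div (Nat.sub_le n j) hpp.pos, Nat.sub_sub_self hj]
    have hcardΩ : Nat.card (Subgroup.zpowers d) = p ^ j := by rw [Nat.card_zpowers, hod]
    have hΩle : Subgroup.zpowers d ≤ commutator G := by
      rw [hcomm, Subgroup.zpowers_le, hd]
      exact Subgroup.pow_mem _ (Subgroup.mem_zpowers c) _
    have hΩA : Subgroup.zpowers d ≤ A := hΩle.trans hcommA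
    -- membership in Ω
    have hmemΩ : ∀ z ∈ commutator G, z ^ (p ^ j) = 1 → z ∈ Subgroup.zpowers d := by
      intro z hz hzp
      rw [hcomm, ← mem_powers_iff_mem_zpowers, Submonoid.mem_powers_iff] at hz
      obtain ⟨k, rfl⟩ := hz
      rw [← pow_mul] at hzp
      have h1 : p ^ n ∣ k * p ^ j := by
        rw [← hoc]; exact orderOf_dvd_of_pow_eq_one hzp
      have h2 : p ^ (n - j) * p ^ j ∣ k * p ^ j := by
        rwa [← pow_add, Nat.sub_add_cancel hj]
      obtain ⟨k', rfl⟩ := Nat.dvd_of_mul_dvd_mul_right (pow_pos hpp.pos j) h2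
      rw [pow_mul, ← hd]
      exact Subgroup.pow_mem _ (Subgroup.mem_zpowers d) k'
    refine ⟨T (Subgroup.zpowers d), ?_, ?_⟩
    · -- cardinality
      have hQG : IsPGroup p (G ⧸ Subgroup.zpowers d) := hG.to_quotient _
      have hQmc : Cfsg.IsMetacyclic (G ⧸ Subgroup.zpowers d) :=
        isMetacyclic_quotient A (Subgroup.zpowers d) hΩA
      have h1 := Cfsg.Agent.S3879.result hp hQG hQmc
      have hsurj : Function.Surjective (QuotientGroup.mk' (Subgroup.zpowers d)) :=
        QuotientGroup.mk'_surjective _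
      have h2 : commutator (G ⧸ Subgroup.zpowers d) =
          (commutator G).map (QuotientGroup.mk' (Subgroup.zpowers d)) := by
        rw [commutator_def, commutator_def, Subgroup.map_commutator,
          Subgroup.map_top_of_surjective _ hsurj]
      have h3 := card_map_mk_mul (Subgroup.zpowers d) (commutator G) hΩle
      rw [← h2, hcardΩ, hGn] at h3
      have h4 : Nat.card (commutator (G ⧸ Subgroup.zpowers d)) = p ^ (n - j) := by
        apply Nat.eq_of_mul_eq_mul_right (pow_pos hpp.pos j)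
        rw [h3, ← pow_add, Nat.sub_add_cancel hj]
      have h5 : (T (Subgroup.zpowers d)).index = (p ^ (n - j)) ^ 2 := by
        unfold T
        rw [Subgroup.index_comap_of_surjective _ hsurj, h1, h4]
      have h6 := Subgroup.card_mul_index (T (Subgroup.zpowers d))
      rw [h5, ← pow_mul, mul_comm (n - j) 2] at h6
      exact h6
    · intro g
      rw [mem_T]
      constructor
      · -- small class ⇒ all commutators in Ω
        intro hidx h
        set z := h * g * h⁻¹ * g⁻¹ with hz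
        have hzc : z ∈ commutator G := hcomm_mem h g
        have hzA : z ∈ A := hcommA hzc
        apply hmemΩ z hzc
        -- `h ^ (p^j)` centralizes `g`
        set Cg := Subgroup.centralizer ({g} : Set G) with hCg
        have hrel : Cg.relIndex (Subgroup.zpowers h) ≤ p ^ j := by
          have h1 : Cg.relIndex (Subgroup.zpowers h) ≤ Cg.relIndex ⊤ :=
            Subgroup.relIndex_le_of_le_right le_top
              (by rw [Subgroup.relIndex_top_right]; exact Subgroup.index_ne_zero_of_finite)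
          rw [Subgroup.relIndex_top_right] at h1
          exact h1.trans hidx
        have hreldvd : Cg.relIndex (Subgroup.zpowers h) ∣ p ^ j := by
          have h1 : Cg.relIndex (Subgroup.zpowers h) ∣ Nat.card (Subgroup.zpowers h) :=
            Subgroup.relIndex_dvd_card _ _
          obtain ⟨e, he⟩ := IsPGroup.iff_card.mp (hG.to_subgroup (Subgroup.zpowers h))
          rw [he] at h1
          obtain ⟨e', -, he'⟩ := (Nat.dvd_prime_pow hpp).mp h1
          rw [he'] at hrel ⊢
          exact pow_dvd_pow p ((Nat.pow_le_pow_iff_right hpp.one_lt).mp hrel)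
        have hpowmem : h ^ (p ^ j) ∈ Cg := by
          have hnorm : (Cg.subgroupOf (Subgroup.zpowers h)).Normal := inferInstance
          have h1 := Subgroup.pow_index_mem (Cg.subgroupOf (Subgroup.zpowers h))
            (⟨h, Subgroup.mem_zpowers h⟩ : Subgroup.zpowers h)
          rw [Subgroup.mem_subgroupOf] at h1
          obtain ⟨t, ht⟩ := hreldvd
          have h2 : h ^ (p ^ j) = (h ^ Cg.relIndex (Subgroup.zpowers h)) ^ t := by
            rw [← pow_mul, ← ht]
          rw [h2]
          exact Subgroup.pow_mem _ (by simpa [Subgroup.relIndex] using h1) t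
        obtain ⟨y, hy⟩ := exists_conj_pow A a b w haA hApow hgen hw h
        have hcp := comm_pow A h g ((1 + w) ^ y) hy hzA (p ^ j)
        have h1 : h ^ (p ^ j) * g * (h ^ (p ^ j))⁻¹ * g⁻¹ = 1 := by
          rw [hCg, Subgroup.mem_centralizer_singleton_iff] at hpowmem
          rw [hpowmem]; group
        rw [h1] at hcp
        -- order of z
        obtain ⟨e, he⟩ : ∃ e, orderOf z = p ^ e := by
          obtain ⟨k, hk⟩ := hG z
          obtain ⟨e, -, he⟩ := (Nat.dvd_prime_pow hpp).mp (orderOf_dvd_of_pow_eq_one hk)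
          exact ⟨e, he⟩
        have hdvd : p ^ e ∣ ∑ t ∈ Finset.range (p ^ j), ((1 + w) ^ y) ^ t := by
          rw [← he]; exact orderOf_dvd_of_pow_eq_one hcp.symm
        have hRmod : ((1 + w) ^ y) % p = 1 := by
          have h1 : (1 + w) % p = 1 := by
            obtain ⟨w', rfl⟩ := hpw
            rw [Nat.add_mul_mod_self_left]
            exact Nat.mod_eq_of_lt hpp.one_lt
          rw [Nat.pow_mod, h1, one_pow]
          exact Nat.mod_eq_of_lt hpp.one_lt
        have hej : e ≤ j := by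
          by_contra hcon
          push Not at hcon
          exact geom_not_dvd p hp _ hRmod j ((pow_dvd_pow p hcon).trans hdvd)
        rw [← orderOf_dvd_iff_pow_eq_one, he]
        exact pow_dvd_pow p hej
      · -- all commutators in Ω ⇒ small class
        intro H
        set Cg := Subgroup.centralizer ({g} : Set G) with hCg
        rw [Subgroup.index_eq_card, ← hcardΩ]
        let f : G ⧸ Cg → Subgroup.zpowers d := fun q =>
          Quotient.liftOn' q (fun h => (⟨h * g * h⁻¹ * g⁻¹, H h⟩ : Subgroup.zpowers d)) (by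
            intro h₁ h₂ h12
            rw [QuotientGroup.leftRel_apply, hCg, Subgroup.mem_centralizer_singleton_iff] at h12
            apply Subtype.ext
            show h₁ * g * h₁⁻¹ * g⁻¹ = h₂ * g * h₂⁻¹ * g⁻¹
            have e1 : h₂ = h₁ * (h₁⁻¹ * h₂) := by group
            rw [e1]
            have e2 : h₁ * (h₁⁻¹ * h₂) * g * (h₁ * (h₁⁻¹ * h₂))⁻¹ =
                h₁ * ((h₁⁻¹ * h₂) * g * (h₁⁻¹ * h₂)⁻¹) * h₁⁻¹ := by group
            rw [e2, h12]; group)
        apply Nat.card_le_card_of_injective f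
        intro q₁ q₂ h12
        obtain ⟨h₁, rfl⟩ := QuotientGroup.mk_surjective q₁
        obtain ⟨h₂, rfl⟩ := QuotientGroup.mk_surjective q₂
        have h3 : h₁ * g * h₁⁻¹ * g⁻¹ = h₂ * g * h₂⁻¹ * g⁻¹ := congrArg Subtype.val h12
        rw [QuotientGroup.eq, hCg, Subgroup.mem_centralizer_singleton_iff]
        have h4 : h₁ * g * h₁⁻¹ = h₂ * g * h₂⁻¹ := by
          have := congrArg (· * g) h3
          simpa using this
        calc h₁⁻¹ * h₂ * g = h₁⁻¹ * (h₂ * g * h₂⁻¹) * h₂ := by group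
          _ = h₁⁻¹ * (h₁ * g * h₁⁻¹) * h₂ := by rw [h4]
          _ = g * (h₁⁻¹ * h₂) := by group
  obtain ⟨Ti, hTi, hmemi⟩ := main i hin
  obtain ⟨Tj, hTj, hmemj⟩ := main (i - 1) (by omega)
  -- the centre
  have hZ : Nat.card (Subgroup.center G) * p ^ (2 * n) = Nat.card G := by
    have h1 := Cfsg.Agent.S3879.result hp hG hmc'
    have h2 := Subgroup.card_mul_index (Subgroup.center G)
    rw [h1, hGn, ← pow_mul, mul_comm n 2] at h2
    exact h2
  have hcardTi : Nat.card Ti = Nat.card (Subgroup.center G) * p ^ (2 * i) := by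
    apply Nat.eq_of_mul_eq_mul_right (pow_pos hpp.pos (2 * (n - i)))
    rw [hTi, mul_assoc, ← pow_add, ← hZ]
    congr 2
    omega
  have hcardTj : Nat.card Tj = Nat.card (Subgroup.center G) * p ^ (2 * i - 2) := by
    apply Nat.eq_of_mul_eq_mul_right (pow_pos hpp.pos (2 * (n - (i - 1))))
    rw [hTj, mul_assoc, ← pow_add, ← hZ]
    congr 2
    omega
  have hpowidx : ∀ g : G, ∃ e, (Subgroup.centralizer ({g} : Set G)).index = p ^ e := by
    intro g
    obtain ⟨e, -, he⟩ := (Nat.dvd_prime_pow hpp).mp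
      (hN ▸ Subgroup.index_dvd_card (Subgroup.centralizer ({g} : Set G)))
    exact ⟨e, he⟩
  have hset : {g : G | (Subgroup.centralizer ({g} : Set G)).index = p ^ i} =
      (Ti : Set G) \ (Tj : Set G) := by
    ext g
    simp only [Set.mem_ofPred_eq, Set.mem_sdiff, SetLike.mem_coe]
    rw [← hmemi g, ← hmemj g]
    obtain ⟨e, he⟩ := hpowidx g
    rw [he]
    constructor
    · intro h
      have : e = i := Nat.pow_right_injective hpp.two_le h
      subst this
      refine ⟨le_refl _, ?_⟩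
      intro hle
      have := (Nat.pow_le_pow_iff_right hpp.one_lt).mp hle
      omega
    · rintro ⟨h1, h2⟩
      have h3 := (Nat.pow_le_pow_iff_right hpp.one_lt).mp h1
      have h4 : ¬ e ≤ i - 1 := fun h => h2 (Nat.pow_le_pow_right hpp.pos h)
      have : e = i := by omega
      rw [this]
  have hsub : (Tj : Set G) ⊆ (Ti : Set G) := by
    intro g hg
    rw [SetLike.mem_coe, ← hmemj g] at hg
    rw [SetLike.mem_coe, ← hmemi g]
    exact hg.trans (Nat.pow_le_pow_right hpp.pos (Nat.sub_le i 1))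
  have hcount : Nat.card {g : G // (Subgroup.centralizer ({g} : Set G)).index = p ^ i} =
      Nat.card Ti - Nat.card Tj := by
    have h1 : Nat.card {g : G // (Subgroup.centralizer ({g} : Set G)).index = p ^ i} =
        ({g : G | (Subgroup.centralizer ({g} : Set G)).index = p ^ i} : Set G).ncard :=
      Nat.card_coe_set_eq _
    rw [h1, hset, Set.ncard_sdiff hsub (Set.toFinite _), ← Nat.card_coe_set_eq, ← Nat.card_coe_set_eq]
    rfl
  rw [hcount, hcardTi, hcardTj, Nat.mul_sub]

end Cfsg.Agent.S3881
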