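import Cfsg.Statements.S3883
import Cfsg.Agent.Lib.Helper65_Metacyclic2
import Cfsg.Agent.Lib.Helper65_Metacyclic6
import Cfsg.Agent.S3880

set_option autoImplicit false
open Cfsg

namespace Cfsg.Agent.S3883

/-- Let p be an odd prime and G a finite metacyclic p-group (G has a cyclic normal subgroup with cyclic quotient). Suppose G is non-abelian. Then an element g of G lies outside the Frattini subgroup if and only if its centralizer C_G(g) is abelian. -/
theorem result {G : Type*} [Group G] [Finite G] {p : ℕ} [Fact p.Prime] (hp : p ≠ 2) (hG : IsPGroup p G) (hmc : Cfsg.IsMetacyclic G) (hna : ¬ IsMulCommutative G) (g : G) :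
    g ∉ frattini G ↔ IsMulCommutative ↥(Subgroup.centralizer ({g} : Set G)) := by
  have hpp : p.Prime := Fact.out
  have h : Cfsg.Agent.Lib.Helper65_Metacyclic.MC p G := ⟨hp, hG, hmc⟩
  obtain ⟨n, hn⟩ := (hG.to_subgroup (commutator G)).exists_card_eq
  have hn1 : 1 ≤ n := by
    by_contra hcon
    have hn0 : n = 0 := by omega
    rw [hn0, pow_zero] at hn
    have hbot : commutator G = ⊥ := Subgroup.card_eq_one.mp hn
    apply hna
    refine ⟨⟨fun x y => ?_⟩⟩
    have hmem : x * y * x⁻¹ * y⁻¹ ∈ commutator G :=
      Subgroup.commutator_mem_commutator (Subgroup.mem_top x) (Subgroup.mem_top y)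
    rw [hbot, Subgroup.mem_bot] at hmem
    exact commutatorElement_eq_one_iff_mul_comm.mp hmem
  rw [h.not_mem_frattini_iff hn hn1, (Cfsg.Agent.S3880.result hp hG hmc _).1]
  have hle := h.index_centralizer_le hn g
  have e1 := Subgroup.card_mul_index (Subgroup.centralizer ({g} : Set G))
  have e2 := Subgroup.card_mul_index (commutator G)
  rw [hn] at e2
  have hpos : 0 < (commutator G).index := by
    rcases Nat.eq_zero_or_pos (commutator G).index with h0 | h0
    · rw [h0, mul_zero] at e2
      have : 0 < Nat.card G := Nat.card_pos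
      omega
    · exact h0
  have hCpos : 0 < Nat.card (Subgroup.centralizer ({g} : Set G)) := Nat.card_pos
  constructor
  · intro hidx
    rw [hidx, ← e2, mul_comm] at e1
    exact (Nat.eq_of_mul_eq_mul_left (pow_pos hpp.pos n) e1).le
  · intro hcard
    apply le_antisymm hle
    have h3 : p ^ n * (commutator G).index ≤
        (commutator G).index * (Subgroup.centralizer ({g} : Set G)).index := by
      rw [e2, ← e1]
      exact Nat.mul_le_mul_right _ hcard
    rw [mul_comm] at h3
    exact Nat.le_of_mul_le_mul_left h3 hpos

end Cfsg.Agent.S3883
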