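import Cfsg.Statements.S3886
import Cfsg.Agent.Lib.Helper65_Metacyclic2
import Cfsg.Agent.Lib.Helper65_Metacyclic7
import Cfsg.Agent.S3879
import Cfsg.Agent.S3880

set_option autoImplicit false
open Cfsg

namespace Cfsg.Agent.S3886

/-- Let p be an odd prime and G a finite metacyclic p-group (G has a cyclic normal subgroup with cyclic quotient). Then the largest value of |R| · |Z(R)| over subgroups R of G is |G : G'|², and the subgroups attaining it (the centrally large subgroups) are exactly the non-abelian subgroups together with the maximal abelian subgroups of G. -/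
theorem result {G : Type*} [Group G] [Finite G] {p : ℕ} [Fact p.Prime] (hp : p ≠ 2) (hG : IsPGroup p G) (hmc : Cfsg.IsMetacyclic G) : Cfsg.maxCentralProduct G = (commutator G).index ^ 2 ∧
    ∀ R : Subgroup G, Cfsg.IsCentrallyLarge R ↔ (¬ IsMulCommutative ↥R ∨ Maximal (fun K : Subgroup G => IsMulCommutative ↥K) R) := by
  have hpp : p.Prime := Fact.out
  have h : Cfsg.Agent.Lib.Helper65_Metacyclic.MC p G := ⟨hp, hG, hmc⟩
  -- the key dichotomy
  have key : ∀ R : Subgroup G,
      Nat.card R * Nat.card (Subgroup.center R) ≤ (commutator G).index ^ 2 ∧
      (Nat.card R * Nat.card (Subgroup.center R) = (commutator G).index ^ 2 ↔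
        (¬ IsMulCommutative R ∨ Maximal (fun K : Subgroup G => IsMulCommutative K) R)) := by
    intro R
    obtain ⟨S1, S2⟩ := Cfsg.Agent.S3880.result hp hG hmc R
    by_cases hR : IsMulCommutative R
    · have hcen : Subgroup.center R = ⊤ := by
        rw [eq_top_iff]
        intro x _
        rw [Subgroup.mem_center_iff]
        intro y
        exact mul_comm' y x
      rw [hcen, Subgroup.card_top]
      have hle := S1.mp hR
      constructor
      · rw [sq]; exact Nat.mul_le_mul hle hle
      · rw [S2]
        constructor
        · intro heq
          right
          rw [← sq] at heq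
          exact Nat.pow_left_injective (by norm_num : 2 ≠ 0) heq
        · rintro (hna | hmax)
          · exact absurd hR hna
          · rw [hmax, sq]
    · -- non-abelian case
      have hRp : IsPGroup p R := hG.to_subgroup R
      have hRmc : Cfsg.IsMetacyclic R := Cfsg.Agent.Lib.Helper65_Metacyclic.isMetacyclic_subgroup hmc R
      have e1 := Cfsg.Agent.S3879.result hp hRp hRmc
      have e2 := Subgroup.card_mul_index (Subgroup.center R)
      have e3 := Subgroup.card_mul_index (commutator R)
      rw [h.index_commutator_subgroup R hR] at e3
      rw [e1] at e2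
      have hcpos : 0 < Nat.card (commutator R) := Nat.card_pos
      have heq : Nat.card R * Nat.card (Subgroup.center R) = (commutator G).index ^ 2 := by
        have h4 : Nat.card (commutator R) ^ 2 * (Nat.card R * Nat.card (Subgroup.center R)) =
            Nat.card (commutator R) ^ 2 * (commutator G).index ^ 2 := by
          calc Nat.card (commutator R) ^ 2 * (Nat.card R * Nat.card (Subgroup.center R))
              = Nat.card R * (Nat.card (Subgroup.center R) * Nat.card (commutator R) ^ 2) := by ring
            _ = Nat.card R * Nat.card R := by rw [e2]
            _ = (Nat.card (commutator R) * (commutator G).index) *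
                (Nat.card (commutator R) * (commutator G).index) := by rw [e3]
            _ = _ := by ring
        exact Nat.eq_of_mul_eq_mul_left (pow_pos hcpos 2) h4
      exact ⟨heq.le, ⟨fun _ => Or.inl hR, fun _ => heq⟩⟩
  have hmax : Cfsg.maxCentralProduct G = (commutator G).index ^ 2 := by
    unfold Cfsg.maxCentralProduct
    apply IsGreatest.csSup_eq
    constructor
    · refine ⟨⊤, ?_⟩
      apply (key ⊤).2.mpr
      by_cases htop : IsMulCommutative (⊤ : Subgroup G)
      · right
        exact ⟨htop, fun K _ _ => le_top⟩
      · left; exact htop
    · rintro k ⟨R', rfl⟩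
      exact (key R').1
  refine ⟨hmax, fun R => ?_⟩
  unfold Cfsg.IsCentrallyLarge
  rw [hmax]
  exact (key R).2

end Cfsg.Agent.S3886
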