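import Cfsg.Statements.S3887
import Cfsg.Agent.Lib.Helper65_Metacyclic2

set_option autoImplicit false
open Cfsg

namespace Cfsg.Agent.S3887

/-- Let p be an odd prime and G a finite metacyclic p-group (G has a cyclic normal subgroup with cyclic quotient). Then a subgroup R of G maximizes |R| · |C_G(R)| over all subgroups of G if and only if R contains the center of G. -/
theorem result {G : Type*} [Group G] [Finite G] {p : ℕ} [Fact p.Prime] (hp : p ≠ 2) (hG : IsPGroup p G) (hmc : Cfsg.IsMetacyclic G) (R : Subgroup G) : Cfsg.IsCentralizerLarge R ↔ Subgroup.center G ≤ R := by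
  have h : Cfsg.Agent.Lib.Helper65_Metacyclic.MC p G := ⟨hp, hG, hmc⟩
  have hmax : Cfsg.maxCentralizerProduct G = Nat.card G * Nat.card (Subgroup.center G) := by
    unfold Cfsg.maxCentralizerProduct
    apply IsGreatest.csSup_eq
    constructor
    · refine ⟨⊤, ?_⟩
      rw [Subgroup.card_top, Subgroup.coe_top, Subgroup.centralizer_univ]
    · rintro k ⟨R', rfl⟩
      exact h.card_mul_card_centralizer_le R'
  unfold Cfsg.IsCentralizerLarge
  rw [hmax]
  constructor
  · intro hR
    by_contra hZ
    set R' := R ⊔ Subgroup.center G with hR'
    have hlt : R < R' := by
      apply lt_of_le_of_ne le_sup_left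
      intro hcon
      apply hZ
      rw [hcon]
      exact le_sup_right
    have hcent : Subgroup.centralizer (R' : Set G) = Subgroup.centralizer (R : Set G) := by
      apply le_antisymm
      · exact Subgroup.centralizer_le (by intro x hx; exact (le_sup_left : R ≤ R') hx)
      · intro x hx
        rw [Subgroup.mem_centralizer_iff] at hx ⊢
        intro y hy
        have hle : R' ≤ Subgroup.centralizer ({x} : Set G) := by
          apply sup_le
          · intro z hz
            rw [Subgroup.mem_centralizer_singleton_iff]
            exact hx z hz
          · exact Subgroup.center_le_centralizer _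
        have := hle hy
        rw [Subgroup.mem_centralizer_singleton_iff] at this
        exact this
    have hcard : Nat.card R < Nat.card R' := by
      by_contra hcon
      push Not at hcon
      exact hlt.ne (Subgroup.eq_of_le_of_card_ge hlt.le hcon)
    have hle := h.card_mul_card_centralizer_le R'
    rw [hcent] at hle
    have hpos : 0 < Nat.card (Subgroup.centralizer (R : Set G)) := Nat.card_pos
    have : Nat.card R * Nat.card (Subgroup.centralizer (R : Set G)) <
        Nat.card R' * Nat.card (Subgroup.centralizer (R : Set G)) :=
      Nat.mul_lt_mul_of_pos_right hcard hpos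
    omega
  · intro hZ
    exact h.card_mul_card_centralizer R hZ

end Cfsg.Agent.S3887
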