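import Cfsg.Statements.S3888
import Cfsg.Agent.Lib.Helper20_PGroupOdd
import Cfsg.Agent.Lib.Helper45_PCentral
import Cfsg.Agent.Lib.Helper45_Agemo
import Cfsg.Agent.Lib.Helper45_RankTwoSetup
import Cfsg.Agent.Lib.Helper45_RankTwoM
import Cfsg.Agent.Lib.Helper45_RankTwoPow
import Cfsg.Agent.Lib.Helper45_RankTwoB1
import Cfsg.Agent.Lib.Helper45_RankTwoFam
import Cfsg.Agent.Lib.Helper45_RankTwoFinal
import Cfsg.Agent.S1337

set_option autoImplicit false
open Cfsg

namespace Cfsg.Agent.S3888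

open Subgroup Cfsg.Agent.Lib.Helper20_PGroupOdd Cfsg.Agent.Lib.Helper45_PCentral
  Cfsg.Agent.Lib.Helper45_RankTwoSetup Cfsg.Agent.Lib.Helper45_RankTwoM
  Cfsg.Agent.Lib.Helper45_RankTwoPow Cfsg.Agent.Lib.Helper45_RankTwoB1
  Cfsg.Agent.Lib.Helper45_RankTwoFam Cfsg.Agent.Lib.Helper45_RankTwoFinal

/-- the rank hypothesis gives the `Ω`-condition of the context -/
theorem omega_of_rank {G : Type*} [Group G] [Finite G] {p : ℕ} [Fact p.Prime]
    (hrk : Cfsg.PRankLE p 2 G) {z y : G} (hg : Good p (⊤ : Subgroup G) z y) :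
    ∀ a : G, a ^ p = 1 → a * y = y * a → a ∈ zpowers z ⊔ zpowers y := by
  intro a hap hay
  have hN : Cfsg.IsElementaryAbelian p hg.B :=
    ⟨⟨⟨fun u v => Subtype.ext (hg.B_comm u u.2 v v.2)⟩⟩, hg.B_exp⟩
  have hA : Cfsg.IsElementaryAbelian p (zpowers a) := by
    refine ⟨inferInstance, ?_⟩
    intro b hb
    obtain ⟨i, rfl⟩ := mem_zpowers_iff.mp hb
    rw [← zpow_natCast, ← zpow_mul, mul_comm, zpow_mul, zpow_natCast, hap, one_zpow]
  have hcomm : ∀ u ∈ hg.B, ∀ v ∈ zpowers a, u * v = v * u := by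
    intro u hu v hv
    obtain ⟨i, rfl⟩ := mem_zpowers_iff.mp hv
    obtain ⟨c, hc, b, hb, rfl⟩ := hg.mem_B_iff.mp hu
    obtain ⟨j, rfl⟩ := mem_zpowers_iff.mp hb
    have hcc : c ∈ center G := (zpowers_le.mpr hg.2.2.1) hc
    have h1 : Commute (y ^ j) (a ^ i) := Commute.zpow_zpow (Commute.symm hay) j i
    rw [mul_assoc, h1.eq, ← mul_assoc, ← mul_assoc, mem_center_iff.mp hcc (a ^ i)]
  have hE := Cfsg.Agent.S1337.sup_elemAb p hg.B (zpowers a) hN hA hcomm
  have hcard := hrk _ hE.1 hE.2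
  have hle : hg.B ≤ hg.B ⊔ zpowers a := le_sup_left
  have heq := Subgroup.eq_of_le_of_card_ge hle (by rw [hg.card_B]; exact hcard)
  have : a ∈ hg.B := by
    rw [heq]
    exact mem_sup_right (mem_zpowers a)
  exact this

theorem isMetacyclic_of_isCyclic {G : Type*} [Group G] (hc : IsCyclic G) : Cfsg.IsMetacyclic G := by
  refine ⟨⊤, inferInstance, ?_, ?_⟩
  · exact isCyclic_of_surjective (Subgroup.topEquiv (G := G)).symm.toMonoidHom
      (Subgroup.topEquiv (G := G)).symm.surjective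
  · have : Subsingleton (G ⧸ (⊤ : Subgroup G)) := QuotientGroup.subsingleton_quotient_top
    exact isCyclic_of_subsingleton

/-- case A: `y` central -/
theorem caseA {G : Type*} [Group G] [Finite G] {p : ℕ} [Fact p.Prime] {z y : G}
    (h : Ctx p G z y) (hL : LL y = ⊤) : Cfsg.IsMetacyclic G := by
  have hmemL : ∀ g : G, g ∈ LL y := fun g => by rw [hL]; exact mem_top g
  have hc : PCentral p G := by
    intro a ha
    have haN : a ∈ NN z y := h.omega_L (hmemL a) ha
    rw [mem_center_iff]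
    intro g
    exact h.L_comm_N (hmemL g) haN
  have hcard : Nat.card (omegaC hc) ≤ p ^ 2 := by
    have h1 : omegaC hc ≤ NN z y := fun a ha => h.omega_L (hmemL a) ((mem_omegaC hc).mp ha)
    have h2 := Subgroup.card_le_of_le h1
    rwa [h.card_N] at h2
  exact Cfsg.Agent.Lib.Helper45_Agemo.isMetacyclic_of_pcentral h.hp2 h.pgroup hc hcard

/-- the small case: `|G| = p³` and an element of order `p²` -/
theorem case_small {G : Type*} [Group G] [Finite G] {p : ℕ} [Fact p.Prime] (hp : p ≠ 2)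
    (hPG : IsPGroup p G) (hG : Nat.card G = p ^ 3) {g : G} (hg : g ^ p ≠ 1) :
    Cfsg.IsMetacyclic G := by
  have hpP : p.Prime := Fact.out
  apply Cfsg.Agent.Lib.Helper45_Agemo.isMetacyclic_of_index_mho hp hPG
  have h1 : g ^ p ∈ mho p G := pow_mem_mho g
  have h2 : p ∣ Nat.card (mho p G) := by
    rcases (hPG.to_subgroup (mho p G)).card_eq_or_dvd with h3 | h3
    · exfalso
      apply hg
      have h4 := Subgroup.card_eq_one.mp h3
      rw [h4, mem_bot] at h1
      exact h1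
    · exact h3
  have h3 := Subgroup.card_mul_index (mho p G)
  rw [hG] at h3
  obtain ⟨k, hk⟩ := h2
  rw [hk] at h3
  have h4 : k * (mho p G).index = p ^ 2 := by
    have h5 : p * (k * (mho p G).index) = p * p ^ 2 := by
      rw [← mul_assoc, h3]
      ring
    exact Nat.eq_of_mul_eq_mul_left hpP.pos h5
  have hk0 : 0 < k := by
    rcases Nat.eq_zero_or_pos k with h0 | h0
    · rw [h0, zero_mul] at h4
      exact absurd h4.symm (pow_pos hpP.pos 2).ne'
    · exact h0
  calc (mho p G).index ≤ k * (mho p G).index := Nat.le_mul_of_pos_left _ hk0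
    _ = p ^ 2 := h4

/-- the tail: an element of order `p` outside `L` satisfying the Key Lemma gives the families -/
theorem tail {G : Type*} [Group G] [Finite G] {p : ℕ} [Fact p.Prime] {z y : G} (h : Ctx p G z y)
    (n : ℕ) (hG : Nat.card G = p ^ n) {x : G} (hx : x ∉ LL y) (hxp : x ^ p = 1)
    (hKL : ∀ v : G, cm v x ∈ h.WW → cm v x ∈ NN z y) :
    (3 ≤ n ∧ ∃ x y z : G, Subgroup.closure ({x, y, z} : Set G) = ⊤ ∧ x ^ p = 1 ∧ y ^ p = 1 ∧
        z ^ p ^ (n - 2) = 1 ∧ x * z = z * x ∧ y * z = z * y ∧ x⁻¹ * y * x = y * z ^ p ^ (n - 3)) ∨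
    (4 ≤ n ∧ ∃ (s : ℕ) (x y z : G), (s = 1 ∨ ¬ IsSquare (s : ZMod p)) ∧
        Subgroup.closure ({x, y, z} : Set G) = ⊤ ∧ x ^ p = 1 ∧ y ^ p = 1 ∧ z ^ p ^ (n - 2) = 1 ∧
        y * z = z * y ∧ x⁻¹ * y * x = y * z ^ (s * p ^ (n - 3)) ∧ x⁻¹ * z * x = y * z) := by
  have hpP : p.Prime := Fact.out
  obtain ⟨c, hc, m, hgen, hcardL, hc1, hc2⟩ := exists_gen h hx hKL
  have hLtop : LL y ≠ ⊤ := fun h0 => hx (by rw [h0]; exact mem_top x)
  have hn : n = m + 3 := by
    have h1 := h.card_eq_mul hLtop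
    rw [hG, hcardL, ← pow_succ'] at h1
    exact Nat.pow_right_injective hpP.two_le h1
  subst hn
  have hd : cm c x ∈ NN z y := cm_L_mem_N h hx hKL hc hgen hc
  have e1 : m + 3 - 2 = m + 1 := by omega
  have e2 : m + 3 - 3 = m := by omega
  rw [e1, e2]
  by_cases hdZ : cm c x ∈ zpowers z
  · left
    exact ⟨by omega, familyB h hx hxp hc hgen hc1 hc2 hdZ⟩
  · right
    obtain ⟨hm1, hfam⟩ := familyC h hx hxp hc hgen hc1 hc2 hd hdZ
    exact ⟨by omega, hfam⟩

/-- The classification of the p-groups of rank at most two for odd p. Let p be an odd prime and G a group of order p^n with no elementary abelian subgroup of order p³. Then one of the following holds: G is metacyclic; n ≥ 3 and G is generated by elements x, y, z with x^p = y^p = z^(p^(n−2)) = 1, z commuting with x and y, and x⁻¹yx = y z^(p^(n−3)); n ≥ 4 and G is generated by elements x, y, z with x^p = y^p = z^(p^(n−2)) = 1, yz = zy, x⁻¹yx = y z^(s p^(n−3)) and x⁻¹zx = yz, where s = 1 or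 s is a quadratic non-residue modulo p; or p = 3 and G has maximal class (nilpotency class n − 1). -/
theorem result {G : Type*} [Group G] [Finite G] {p : ℕ} [Fact p.Prime] (hp : p ≠ 2) (n : ℕ) (hG : Nat.card G = p ^ n)
    (hrk : Cfsg.PRankLE p 2 G) :
    Cfsg.IsMetacyclic G ∨
    (3 ≤ n ∧ ∃ x y z : G, Subgroup.closure ({x, y, z} : Set G) = ⊤ ∧ x ^ p = 1 ∧ y ^ p = 1 ∧ z ^ p ^ (n - 2) = 1 ∧
        x * z = z * x ∧ y * z = z * y ∧ x⁻¹ * y * x = y * z ^ p ^ (n - 3)) ∨
    (4 ≤ n ∧ ∃ (s : ℕ) (x y z : G), (s = 1 ∨ ¬ IsSquare (s : ZMod p)) ∧ Subgroup.closure ({x, y, z} : Set G) = ⊤ ∧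
        x ^ p = 1 ∧ y ^ p = 1 ∧ z ^ p ^ (n - 2) = 1 ∧ y * z = z * y ∧ x⁻¹ * y * x = y * z ^ (s * p ^ (n - 3)) ∧
        x⁻¹ * z * x = y * z) ∨
    (p = 3 ∧ 2 ≤ n ∧ (⊤ : Subgroup G).lowerCentralSeries (n - 2) ≠ ⊥) := by
  have hpP : p.Prime := Fact.out
  have hPG : IsPGroup p G := IsPGroup.of_card hG
  by_cases hcyc : IsCyclic G
  · left
    exact isMetacyclic_of_isCyclic hcyc
  have hnc : ¬ IsCyclic (⊤ : Subgroup G) := by
    intro hc
    apply hcyc
    exact isCyclic_of_surjective (Subgroup.topEquiv (G := G)).toMonoidHom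
      (Subgroup.topEquiv (G := G)).surjective
  obtain ⟨z, y, hgood⟩ := exists_good hp hPG ⊤ hnc
  have h : Ctx p G z y := ⟨hp, hPG, hgood, omega_of_rank hrk hgood⟩
  by_cases hLtop : LL y = ⊤
  · left
    exact caseA h hLtop
  have hn3 : 3 ≤ n := by
    have h1 := h.card_eq_mul hLtop
    have h2 := Subgroup.card_le_of_le h.N_le_L
    rw [h.card_N] at h2
    rw [hG] at h1
    by_contra hlt
    have h3 : p ^ n ≤ p ^ 2 := Nat.pow_le_pow_right hpP.pos (by omega)
    have h4 : p * p ^ 2 ≤ p * Nat.card (LL y) := Nat.mul_le_mul_left _ h2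
    have h5 : p ^ 2 < p * p ^ 2 := by nlinarith [hpP.two_le, pow_pos hpP.pos 2]
    omega
  obtain ⟨g₀, hg₀⟩ : ∃ g₀ : G, g₀ ∉ LL y := by
    by_contra hall
    push Not at hall
    exact hLtop (eq_top_iff.mpr fun g _ => hall g)
  by_cases hB1 : ∃ g : G, g ∉ LL y ∧ g ^ p ∈ zpowers z
  swap
  · left
    push Not at hB1
    apply theoremM (p := p)
    refine ⟨z, y, h, ⟨g₀, fun h0 => hg₀ (mem_LL.mpr h0)⟩, ?_⟩
    intro g hg
    exact hB1 g (fun h0 => hg (mem_LL.mp h0))
  obtain ⟨g, hgL, hgp⟩ := hB1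
  have hgy : g * y ≠ y * g := fun h0 => hgL (mem_LL.mpr h0)
  by_cases hLN : LL y ≤ NN z y
  · by_cases hg1 : g ^ p = 1
    · right
      have hKL : ∀ v : G, cm v g ∈ h.WW → cm v g ∈ NN z y := fun v hv => hLN hv.1
      rcases tail h n hG hgL hg1 hKL with h1 | h1
      · left
        exact h1
      · right
        left
        exact h1
    · left
      have hcard : Nat.card G = p ^ 3 := by
        have h1 := h.card_eq_mul hLtop
        have h2 : LL y = NN z y := le_antisymm hLN h.N_le_L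
        rw [h2, h.card_N] at h1
        rw [h1]
        ring
      exact case_small hp hPG hcard hg1
  · obtain ⟨w, hw, hwN⟩ := exists_W_not_N h hLN hgy
    by_cases hτ : tau p g w = 1
    · right
      right
      right
      obtain ⟨hp3, hclass⟩ := maxclass h hG hgL hgp hw hwN hτ
      refine ⟨hp3, by omega, ?_⟩
      intro h0
      have : Group.IsNilpotent G := hPG.isNilpotent
      rw [Subgroup.lowerCentralSeries_eq_bot_iff_nilpotencyClass_le] at h0
      omega
    · right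
      obtain ⟨x, hx, hxp, hKL⟩ := exists_order_p h hgL hgp hw hwN hτ
      rcases tail h n hG hx hxp hKL with h1 | h1
      · left
        exact h1
      · right
        left
        exact h1

end Cfsg.Agent.S3888
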