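import Cfsg.Statements.S3890
import Cfsg.Agent.Lib.Helper20_NilCover
-- import your own Cfsg.Agent.* helpers here

set_option autoImplicit false
open Cfsg

namespace Cfsg.Agent.S3890

open Cfsg.Agent.Lib.Helper20_NilCover

/-- A cover of a group is a finite set of proper subgroups whose union is the whole group; it is minimal when no cover has fewer members, and nilpotent when all its members are nilpotent. Let G be a finite group with trivial center admitting a nilpotent minimal cover 𝓐, and let P be an abelian Sylow p-subgroup of G that is not normal. Then either P is elementary abelian of order greater than p, or P is a Sylow p-subgroup of some member A of 𝓐, the normalizer N of P is a maximal subgroup of G, N meets each of its conjugates by elements outside N in a subgroup of order prime to p, and the centralizer of P equals A. -/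
theorem result {G : Type*} [Group G] [Finite G] (hZ : Subgroup.center G = ⊥) (𝓐 : Finset (Subgroup G))
    (h𝓐 : ((∀ A ∈ 𝓐, A ≠ ⊤) ∧ (∀ g : G, ∃ A ∈ 𝓐, g ∈ A)) ∧ (∀ 𝓑 : Finset (Subgroup G), (∀ A ∈ 𝓑, A ≠ ⊤) ∧ (∀ g : G, ∃ A ∈ 𝓑, g ∈ A) → 𝓐.card ≤ 𝓑.card) ∧ (∀ A ∈ 𝓐, Group.IsNilpotent ↥A)) {p : ℕ} [Fact p.Prime] (P : Sylow p G) (hab : IsMulCommutative ↥(P : Subgroup G))
    (hnn : ¬ (P : Subgroup G).Normal) :
    (Cfsg.IsElementaryAbelian p (P : Subgroup G) ∧ p < Nat.card ↥(P : Subgroup G)) ∨
    (∃ A ∈ 𝓐, (P : Subgroup G) ≤ A ∧ ¬ p ∣ ((P : Subgroup G).subgroupOf A).index ∧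
      IsCoatom (Subgroup.normalizer ((P : Subgroup G) : Set G)) ∧
      (∀ g : G, g ∉ Subgroup.normalizer ((P : Subgroup G) : Set G) →
        ¬ p ∣ Nat.card ↥(Subgroup.normalizer ((P : Subgroup G) : Set G) ⊓
          (Subgroup.normalizer ((P : Subgroup G) : Set G)).map (MulAut.conj g).toMonoidHom)) ∧
      Subgroup.centralizer ((P : Subgroup G) : Set G) = A) := by
  obtain ⟨⟨hprop, hcov⟩, hmin, hnil⟩ := h𝓐
  have hab' : ∀ a ∈ (P : Subgroup G), ∀ b ∈ (P : Subgroup G), a * b = b * a := by
    intro a ha b hb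
    have := hab.is_comm.comm (⟨a, ha⟩ : ↥(P : Subgroup G)) ⟨b, hb⟩
    exact congrArg Subtype.val this
  have hNC : NilCover 𝓐 P :=
    { proper := hprop, cover := hcov, minimal := hmin, nil := hnil, center := hZ, comm := hab' }
  have hP1 : (P : Subgroup G) ≠ ⊥ := by
    intro e
    apply hnn
    rw [e]; infer_instance
  rcases hNC.exists_le_or hP1 with ⟨A, hA, hPA⟩ | ⟨hexp, hlt⟩
  · right
    refine ⟨A, hA, hPA, ?_, (hNC.isCoatom_normalizer hA hPA hnn).1, ?_,
      hNC.centralizer_eq hA hPA hP1⟩
    · intro hd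
      apply P.not_dvd_index
      have h1 : ((P : Subgroup G).subgroupOf A).index = (P : Subgroup G).relIndex A := rfl
      rw [h1] at hd
      rw [← Subgroup.relIndex_mul_index hPA]
      exact dvd_mul_of_dvd_left hd _
    · intro g hg hd
      apply hg
      obtain ⟨x, hx⟩ := exists_prime_orderOf_dvd_card' (G := ↥(Subgroup.normalizer
        ((P : Subgroup G) : Set G) ⊓ (Subgroup.normalizer
        ((P : Subgroup G) : Set G)).map (MulAut.conj g).toMonoidHom)) p hd
      have hxp : (x : G) ^ (p ^ 1) = 1 := by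
        have := pow_orderOf_eq_one x
        rw [hx] at this
        rw [pow_one]
        exact_mod_cast congrArg Subtype.val this
      have hx1 : (x : G) ≠ 1 := by
        intro e
        have : x = 1 := Subtype.ext e
        rw [this, orderOf_one] at hx
        exact (Fact.out : p.Prime).one_lt.ne hx
      obtain ⟨hxN, n, hn, hnx⟩ := Subgroup.mem_inf.mp x.2
      have hnx' : g * n * g⁻¹ = (x : G) := hnx
      have hxP : (x : G) ∈ (P : Subgroup G) := mem_sylow_of_mem_normalizer P hxN hxp
      have hnp : n ^ (p ^ 1) = 1 := by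
        have : n = g⁻¹ * (x : G) * g⁻¹⁻¹ := by rw [← hnx']; group
        rw [this, conj_pow, hxp]; group
      have hnP : n ∈ (P : Subgroup G) := mem_sylow_of_mem_normalizer P hn hnp
      have hn1 : n ≠ 1 := by
        rintro rfl
        apply hx1
        rw [← hnx']; group
      exact hNC.mem_normalizer hA hPA hnP hn1 (by rw [hnx']; exact hxP)
  · left
    exact ⟨⟨hab, hexp⟩, hlt⟩

end Cfsg.Agent.S3890
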