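import Cfsg.Statements.S3891
import Cfsg.Agent.Lib.Helper20_NilCover
-- import your own Cfsg.Agent.* helpers here

set_option autoImplicit false
open Cfsg

namespace Cfsg.Agent.S3891

open Cfsg.Agent.Lib.Helper20_NilCover

/-- A cover of a group is a finite set of proper subgroups whose union is the whole group; it is minimal when no cover has fewer members, and nilpotent when all its members are nilpotent. Let G be a finite group with trivial center admitting a nilpotent minimal cover, and let P be a non-normal Sylow p-subgroup of G that is cyclic, or abelian but not elementary abelian. Then the centralizer of P is nilpotent and the normalizer of P is the unique maximal subgroup of G containing the centralizer of P. -/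
theorem result {G : Type*} [Group G] [Finite G] (hZ : Subgroup.center G = ⊥) (𝓐 : Finset (Subgroup G))
    (h𝓐 : ((∀ A ∈ 𝓐, A ≠ ⊤) ∧ (∀ g : G, ∃ A ∈ 𝓐, g ∈ A)) ∧ (∀ 𝓑 : Finset (Subgroup G), (∀ A ∈ 𝓑, A ≠ ⊤) ∧ (∀ g : G, ∃ A ∈ 𝓑, g ∈ A) → 𝓐.card ≤ 𝓑.card) ∧ (∀ A ∈ 𝓐, Group.IsNilpotent ↥A)) {p : ℕ} [Fact p.Prime] (P : Sylow p G)
    (hP : IsCyclic ↥(P : Subgroup G) ∨ (IsMulCommutative ↥(P : Subgroup G) ∧ ¬ Cfsg.IsElementaryAbelian p (P : Subgroup G)))
    (hnn : ¬ (P : Subgroup G).Normal) :
    Group.IsNilpotent ↥(Subgroup.centralizer ((P : Subgroup G) : Set G)) ∧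
      IsCoatom (Subgroup.normalizer ((P : Subgroup G) : Set G)) ∧
      ∀ M : Subgroup G, IsCoatom M → Subgroup.centralizer ((P : Subgroup G) : Set G) ≤ M →
        M = Subgroup.normalizer ((P : Subgroup G) : Set G) := by
  obtain ⟨⟨hprop, hcov⟩, hmin, hnil⟩ := h𝓐
  have hab : IsMulCommutative ↥(P : Subgroup G) := by
    rcases hP with hc | ⟨h1, -⟩
    · exact IsCyclic.isMulCommutative
    · exact h1
  have hab' : ∀ a ∈ (P : Subgroup G), ∀ b ∈ (P : Subgroup G), a * b = b * a := by
    intro a ha b hb
    have := hab.is_comm.comm (⟨a, ha⟩ : ↥(P : Subgroup G)) ⟨b, hb⟩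
    exact congrArg Subtype.val this
  have hNC : NilCover 𝓐 P :=
    { proper := hprop, cover := hcov, minimal := hmin, nil := hnil, center := hZ, comm := hab' }
  have hP1 : (P : Subgroup G) ≠ ⊥ := by
    intro e
    apply hnn
    rw [e]; infer_instance
  have hex : ∃ A ∈ 𝓐, (P : Subgroup G) ≤ A := by
    rcases hNC.exists_le_or hP1 with h | ⟨hexp, hlt⟩
    · exact h
    · exfalso
      rcases hP with hc | ⟨-, h2⟩
      · -- cyclic of exponent `p` has order `p`
        have h1 : Monoid.exponent ↥(P : Subgroup G) = Nat.card ↥(P : Subgroup G) :=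
          IsCyclic.exponent_eq_card
        have h2 : Monoid.exponent ↥(P : Subgroup G) ∣ p := by
          apply Monoid.exponent_dvd_of_forall_pow_eq_one
          intro a
          exact Subtype.ext (by simpa using hexp a a.2)
        rw [h1] at h2
        have := Nat.le_of_dvd (Fact.out : p.Prime).pos h2
        omega
      · exact h2 ⟨hab, hexp⟩
  obtain ⟨A, hA, hPA⟩ := hex
  have hcent := hNC.centralizer_eq hA hPA hP1
  obtain ⟨hco, huniq⟩ := hNC.isCoatom_normalizer hA hPA hnn
  refine ⟨?_, hco, ?_⟩
  · rw [hcent]; exact hnil A hA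
  · intro M hM hCM
    rw [hcent] at hCM
    exact huniq M hM hCM

end Cfsg.Agent.S3891
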