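import Cfsg.Statements.S3892
import Mathlib
import Cfsg.Agent.Lib.Helper37_Cover2

set_option autoImplicit false
open Cfsg

open Cfsg.Agent.Lib.Helper37_Cover2 Equiv Equiv.Perm

namespace Cfsg.Agent.S3892


theorem exists_prime (n : ℕ) (hn : 6 ≤ n) : ∃ p, p.Prime ∧ 5 ≤ p ∧ p < n ∧ n < 2 * p := by
  obtain ⟨p, hp, h1, h2⟩ := Nat.exists_prime_lt_and_le_two_mul (n / 2) (by omega)
  have h5 : 5 ≤ p := by
    have h4 : 4 ≤ p := by omega
    rcases Nat.lt_or_ge 4 p with h | h
    · exact h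
    · have : p = 4 := by omega
      subst this
      exact absurd hp (by norm_num)
  refine ⟨p, hp, h5, ?_, by omega⟩
  rcases Nat.even_or_odd' n with ⟨k, hk | hk⟩
  · have : p ≠ n := by
      intro h
      rw [h, hk] at hp
      have := (Nat.prime_mul_iff.1 hp)
      rcases this with ⟨_, h⟩ | ⟨_, h⟩ <;> omega
    omega
  · omega

theorem not_sq_dvd_factorial (p n : ℕ) (hp : p.Prime) (h1 : p ≤ n) (h2 : n < 2 * p) (h3 : 3 ≤ p) :
    ¬ p ^ 2 ∣ n.factorial := by
  have hlog : Nat.log p n < 2 := by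
    apply Nat.log_lt_of_lt_pow (by omega)
    nlinarith
  rw [hp.pow_dvd_factorial_iff hlog]
  have : n / p = 1 := by
    apply Nat.div_eq_of_lt_le <;> omega
  simp [this]

theorem apply_inv {α : Type*} (g : Perm α) (j : α) : g (g⁻¹ j) = j := by simp

theorem inv_apply {α : Type*} (g : Perm α) (j : α) : g⁻¹ (g j) = j := by simp

/-- the set-wise stabiliser of `{0, …, p-1}` -/
def stab (n p : ℕ) : Subgroup (Perm (Fin n)) where
  carrier := {g | ∀ j : Fin n, (g j).val < p ↔ j.val < p}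
  mul_mem' := by
    intro g h hg hh j
    rw [Perm.mul_apply, hg, hh]
  one_mem' := by intro j; rfl
  inv_mem' := by
    intro g hg j
    have := hg (g⁻¹ j)
    rw [apply_inv] at this
    exact this.symm

theorem mem_stab {n p : ℕ} (g : Perm (Fin n)) :
    g ∈ stab n p ↔ ∀ j : Fin n, (g j).val < p ↔ j.val < p :=
  Iff.rfl

/-- a permutation commuting with `x` preserves the set of points moved by `x` -/
theorem mem_stab_of_commute {n p : ℕ} (x g : Perm (Fin n))
    (hx : ∀ j : Fin n, x j ≠ j ↔ j.val < p) (h : g * x = x * g) : g ∈ stab n p := by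
  intro j
  rw [← hx, ← hx]
  have : x (g j) = g (x j) := by
    have := congrArg (fun f => f j) h
    simpa using this.symm
  rw [this]
  exact g.injective.ne_iff

/-- the `p`-cycle `(0 1 … p-1)` -/
def cyc (n p : ℕ) (hpn : p < n) : Perm (Fin n) := Fin.cycleRange ⟨p - 1, by omega⟩

theorem cyc_apply_lt (n p : ℕ) (hpn : p < n) (j : Fin n) (hj : j.val < p - 1) :
    (cyc n p hpn j).val = j.val + 1 := by
  unfold cyc
  rw [Fin.coe_cycleRange_of_lt]
  exact Fin.lt_def.2 hj

theorem cyc_apply_eq (n p : ℕ) (hpn : p < n) (j : Fin n) (hj : j.val = p - 1) :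
    (cyc n p hpn j).val = 0 := by
  unfold cyc
  rw [Fin.coe_cycleRange_of_le (le_of_eq (Fin.ext hj)), if_pos (Fin.ext hj)]

theorem cyc_apply_gt (n p : ℕ) (hpn : p < n) (j : Fin n) (hj : p - 1 < j.val) :
    cyc n p hpn j = j := by
  unfold cyc
  rw [Fin.cycleRange_of_gt]
  exact Fin.lt_def.2 hj

theorem cyc_moves (n p : ℕ) (hp5 : 5 ≤ p) (hpn : p < n) (j : Fin n) :
    cyc n p hpn j ≠ j ↔ j.val < p := by
  rcases lt_trichotomy j.val (p - 1) with h | h | h
  · have := cyc_apply_lt n p hpn j h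
    constructor
    · intro _; omega
    · intro _ h'
      rw [h'] at this
      omega
  · have := cyc_apply_eq n p hpn j h
    constructor
    · intro _; omega
    · intro _ h'
      rw [h'] at this
      omega
  · have := cyc_apply_gt n p hpn j h
    constructor
    · intro h'; exact absurd this h'
    · intro h'; omega

theorem orderOf_cyc (n p : ℕ) (hp5 : 5 ≤ p) (hpn : p < n) : orderOf (cyc n p hpn) = p := by
  have : NeZero n := ⟨by omega⟩
  rw [← Equiv.Perm.lcm_cycleType]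
  unfold cyc
  rw [Fin.cycleType_cycleRange]
  · simp only [Multiset.lcm_singleton, normalize_eq]
    omega
  · intro h
    have := congrArg Fin.val h
    simp at this
    omega

theorem sign_cyc (n p : ℕ) (hpn : p < n) (hodd : Odd p) : Perm.sign (cyc n p hpn) = 1 := by
  unfold cyc
  rw [Fin.sign_cycleRange]
  obtain ⟨k, hk⟩ := hodd
  have : p - 1 = 2 * k := by omega
  simp [this, pow_mul]

/-- the transposition `(0 1)` -/
def tau (n p : ℕ) (hp5 : 5 ≤ p) (hpn : p < n) : Perm (Fin n) :=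
  swap ⟨0, by omega⟩ ⟨1, by omega⟩

/-- the second `p`-cycle -/
def cyc' (n p : ℕ) (hp5 : 5 ≤ p) (hpn : p < n) : Perm (Fin n) :=
  tau n p hp5 hpn * cyc n p hpn * (tau n p hp5 hpn)⁻¹

theorem tau_mem (n p : ℕ) (hp5 : 5 ≤ p) (hpn : p < n) : tau n p hp5 hpn ∈ stab n p := by
  intro j
  unfold tau
  rw [Equiv.swap_apply_def]
  split_ifs with h1 h2
  · rw [h1]; simp; omega
  · rw [h2]; simp; omega
  · rfl

theorem cyc'_moves (n p : ℕ) (hp5 : 5 ≤ p) (hpn : p < n) (j : Fin n) :
    cyc' n p hp5 hpn j ≠ j ↔ j.val < p := by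
  unfold cyc'
  rw [Perm.mul_apply, Perm.mul_apply]
  have h1 := cyc_moves n p hp5 hpn ((tau n p hp5 hpn)⁻¹ j)
  have h2 := (stab n p).inv_mem (tau_mem n p hp5 hpn) j
  rw [← h2, ← h1]
  constructor
  · intro h h'
    apply h
    rw [h', apply_inv]
  · intro h h'
    apply h
    have := congrArg (fun z => (tau n p hp5 hpn)⁻¹ z) h'
    simp only [inv_apply] at this
    exact this

theorem orderOf_cyc' (n p : ℕ) (hp5 : 5 ≤ p) (hpn : p < n) :
    orderOf (cyc' n p hp5 hpn) = p := by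
  have : cyc' n p hp5 hpn = MulAut.conj (tau n p hp5 hpn) (cyc n p hpn) := by
    simp [MulAut.conj_apply, cyc']
  rw [this, MulEquiv.orderOf_eq, orderOf_cyc n p hp5 hpn]

theorem sign_cyc' (n p : ℕ) (hp5 : 5 ≤ p) (hpn : p < n) (hodd : Odd p) :
    Perm.sign (cyc' n p hp5 hpn) = 1 := by
  unfold cyc'
  rw [Perm.sign_mul, Perm.sign_mul, Perm.sign_inv, sign_cyc n p hpn hodd, mul_one,
    Int.units_mul_self]

theorem tau_apply_of_ge (n p : ℕ) (hp5 : 5 ≤ p) (hpn : p < n) (j : Fin n) (hj : 2 ≤ j.val) :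
    tau n p hp5 hpn j = j := by
  unfold tau
  apply Equiv.swap_apply_of_ne_of_ne
  · intro h; have := congrArg Fin.val h; simp at this; omega
  · intro h; have := congrArg Fin.val h; simp at this; omega

theorem tau_inv (n p : ℕ) (hp5 : 5 ≤ p) (hpn : p < n) :
    (tau n p hp5 hpn)⁻¹ = tau n p hp5 hpn := by
  unfold tau
  rw [Equiv.swap_inv]

theorem not_commute (n p : ℕ) (hp5 : 5 ≤ p) (hpn : p < n) :
    cyc n p hpn * cyc' n p hp5 hpn ≠ cyc' n p hp5 hpn * cyc n p hpn := by
  intro h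
  have h1 := congrArg (fun f => (f ⟨1, by omega⟩ : Fin n).val) h
  simp only [Perm.mul_apply] at h1
  -- left side
  have e0 : tau n p hp5 hpn ⟨1, by omega⟩ = ⟨0, by omega⟩ := by
    unfold tau; exact Equiv.swap_apply_right _ _
  have e0' : tau n p hp5 hpn ⟨0, by omega⟩ = ⟨1, by omega⟩ := by
    unfold tau; exact Equiv.swap_apply_left _ _
  have c0 : cyc n p hpn ⟨0, by omega⟩ = ⟨1, by omega⟩ := by
    apply Fin.ext
    rw [cyc_apply_lt n p hpn _ (by simp; omega)]
  have c1 : cyc n p hpn ⟨1, by omega⟩ = ⟨2, by omega⟩ := by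
    apply Fin.ext
    rw [cyc_apply_lt n p hpn _ (by simp; omega)]
  have c2 : cyc n p hpn ⟨2, by omega⟩ = ⟨3, by omega⟩ := by
    apply Fin.ext
    rw [cyc_apply_lt n p hpn _ (by simp; omega)]
  have l : cyc' n p hp5 hpn ⟨1, by omega⟩ = ⟨0, by omega⟩ := by
    unfold cyc'
    rw [Perm.mul_apply, Perm.mul_apply, tau_inv, e0, c0, e0]
  have r : cyc' n p hp5 hpn ⟨2, by omega⟩ = ⟨3, by omega⟩ := by
    unfold cyc'
    have t2 : tau n p hp5 hpn ⟨2, by omega⟩ = ⟨2, by omega⟩ :=
      tau_apply_of_ge n p hp5 hpn ⟨2, by omega⟩ (le_refl 2)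
    have t3 : tau n p hp5 hpn ⟨3, by omega⟩ = ⟨3, by omega⟩ :=
      tau_apply_of_ge n p hp5 hpn ⟨3, by omega⟩ (by norm_num)
    rw [Perm.mul_apply, Perm.mul_apply, tau_inv, t2, c2, t3]
  rw [l, c0, c1, r] at h1
  simp at h1



set_option maxRecDepth 100000 in
theorem s4 : ¬ HasNilMinCover (Perm (Fin 4)) := by
  have : Fact (Nat.Prime 3) := ⟨by norm_num⟩
  refine no_cover_of_prime (p := 3) ?_ (c[(0 : Fin 4), 1, 2]) (c[(0 : Fin 4), 1, 3]) ?_ ?_ ?_
    (alternatingGroup (Fin 4)) ?_ ?_ ?_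
  · rw [Nat.card_eq_fintype_card, Fintype.card_perm, Fintype.card_fin]; decide
  · rw [orderOf_eq_iff (by norm_num)]; decide
  · rw [orderOf_eq_iff (by norm_num)]; decide
  · decide
  · intro h
    have : (swap (0 : Fin 4) 1) ∈ alternatingGroup (Fin 4) := by rw [h]; trivial
    rw [mem_alternatingGroup] at this
    revert this; decide
  · simp only [mem_alternatingGroup]; decide
  · simp only [mem_alternatingGroup]; decide

set_option maxRecDepth 100000 in
theorem s5 : ¬ HasNilMinCover (Perm (Fin 5)) := by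
  have : Fact (Nat.Prime 5) := ⟨by norm_num⟩
  refine no_cover_of_prime (p := 5) ?_ (c[(0 : Fin 5), 1, 2, 3, 4]) (c[(0 : Fin 5), 1, 2, 4, 3]) ?_ ?_ ?_
    (alternatingGroup (Fin 5)) ?_ ?_ ?_
  · rw [Nat.card_eq_fintype_card, Fintype.card_perm, Fintype.card_fin]; decide
  · rw [orderOf_eq_iff (by norm_num)]; decide
  · rw [orderOf_eq_iff (by norm_num)]; decide
  · decide
  · intro h
    have : (swap (0 : Fin 5) 1) ∈ alternatingGroup (Fin 5) := by rw [h]; trivial
    rw [mem_alternatingGroup] at this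
    revert this; decide
  · simp only [mem_alternatingGroup]; decide
  · simp only [mem_alternatingGroup]; decide


set_option maxRecDepth 100000 in
theorem a5 : ¬ HasNilMinCover (alternatingGroup (Fin 5)) := by
  have : Fact (Nat.Prime 3) := ⟨by norm_num⟩
  have h1 : (c[(0 : Fin 5), 1, 2] : Perm (Fin 5)) ∈ alternatingGroup (Fin 5) := by
    rw [mem_alternatingGroup]; decide
  have h2 : (c[(0 : Fin 5), 1, 3] : Perm (Fin 5)) ∈ alternatingGroup (Fin 5) := by
    rw [mem_alternatingGroup]; decide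
  refine no_cover_of_prime (p := 3) ?_ ⟨_, h1⟩ ⟨_, h2⟩ ?_ ?_ ?_
    ((MulAction.stabilizer (Perm (Fin 5)) (4 : Fin 5)).comap (alternatingGroup (Fin 5)).subtype)
    ?_ ?_ ?_
  · intro h
    have h3 := h.trans (Subgroup.card_subgroup_dvd_card (alternatingGroup (Fin 5)))
    rw [Nat.card_eq_fintype_card, Fintype.card_perm, Fintype.card_fin] at h3
    revert h3; decide
  · rw [Subgroup.orderOf_mk, orderOf_eq_iff (by norm_num)]; decide
  · rw [Subgroup.orderOf_mk, orderOf_eq_iff (by norm_num)]; decide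
  · intro h
    have := congrArg Subtype.val h
    revert this
    simp only [Subgroup.coe_mul]
    decide
  · intro h
    have h3 : (c[(0 : Fin 5), 1, 4] : Perm (Fin 5)) ∈ alternatingGroup (Fin 5) := by
      rw [mem_alternatingGroup]; decide
    have : (⟨_, h3⟩ : alternatingGroup (Fin 5)) ∈
      ((MulAction.stabilizer (Perm (Fin 5)) (4 : Fin 5)).comap (alternatingGroup (Fin 5)).subtype) := by
      rw [h]; trivial
    rw [Subgroup.mem_comap, MulAction.mem_stabilizer_iff] at this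
    revert this
    simp only [Subgroup.coe_subtype, Perm.smul_def]
    decide
  · rintro ⟨g, hg⟩ h
    rw [Subgroup.mem_comap, MulAction.mem_stabilizer_iff]
    simp only [Subgroup.coe_subtype, Perm.smul_def]
    have h' : g * c[(0 : Fin 5), 1, 2] = c[(0 : Fin 5), 1, 2] * g := congrArg Subtype.val h
    have hg' := mem_alternatingGroup.1 hg
    clear h hg
    revert g
    decide
  · rintro ⟨g, hg⟩ h
    rw [Subgroup.mem_comap, MulAction.mem_stabilizer_iff]
    simp only [Subgroup.coe_subtype, Perm.smul_def]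
    have h' : g * c[(0 : Fin 5), 1, 3] = c[(0 : Fin 5), 1, 3] * g := congrArg Subtype.val h
    have hg' := mem_alternatingGroup.1 hg
    clear h hg
    revert g
    decide

theorem card_perm_fin (n : ℕ) : Nat.card (Perm (Fin n)) = n.factorial := by
  rw [Nat.card_eq_fintype_card, Fintype.card_perm, Fintype.card_fin]

theorem sym_ge6 (n : ℕ) (hn : 6 ≤ n) : ¬ HasNilMinCover (Perm (Fin n)) := by
  obtain ⟨p, hp, hp5, hpn, hn2⟩ := exists_prime n hn
  have : Fact p.Prime := ⟨hp⟩
  refine no_cover_of_prime (p := p) ?_ (cyc n p hpn) (cyc' n p hp5 hpn) (orderOf_cyc n p hp5 hpn)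
    (orderOf_cyc' n p hp5 hpn) (not_commute n p hp5 hpn) (stab n p) ?_ ?_ ?_
  · rw [card_perm_fin]
    exact not_sq_dvd_factorial p n hp hpn.le hn2 (by omega)
  · intro h
    have : swap (⟨0, by omega⟩ : Fin n) ⟨p, hpn⟩ ∈ stab n p := by rw [h]; trivial
    have h2 := (this ⟨0, by omega⟩)
    rw [Equiv.swap_apply_left] at h2
    simp at h2
    omega
  · intro g hg
    exact mem_stab_of_commute _ g (cyc_moves n p hp5 hpn) hg
  · intro g hg
    exact mem_stab_of_commute _ g (cyc'_moves n p hp5 hpn) hg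

theorem alt_ge6 (n : ℕ) (hn : 6 ≤ n) : ¬ HasNilMinCover (alternatingGroup (Fin n)) := by
  obtain ⟨p, hp, hp5, hpn, hn2⟩ := exists_prime n hn
  have : Fact p.Prime := ⟨hp⟩
  have hodd : Odd p := hp.odd_of_ne_two (by omega)
  have m1 : cyc n p hpn ∈ alternatingGroup (Fin n) :=
    mem_alternatingGroup.2 (sign_cyc n p hpn hodd)
  have m2 : cyc' n p hp5 hpn ∈ alternatingGroup (Fin n) :=
    mem_alternatingGroup.2 (sign_cyc' n p hp5 hpn hodd)
  refine no_cover_of_prime (p := p) ?_ ⟨_, m1⟩ ⟨_, m2⟩ ?_ ?_ ?_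
    ((stab n p).comap (alternatingGroup (Fin n)).subtype) ?_ ?_ ?_
  · intro h
    have h3 := h.trans (Subgroup.card_subgroup_dvd_card (alternatingGroup (Fin n)))
    rw [card_perm_fin] at h3
    exact not_sq_dvd_factorial p n hp hpn.le hn2 (by omega) h3
  · rw [Subgroup.orderOf_mk]; exact orderOf_cyc n p hp5 hpn
  · rw [Subgroup.orderOf_mk]; exact orderOf_cyc' n p hp5 hpn
  · intro h
    exact not_commute n p hp5 hpn (congrArg Subtype.val h)
  · intro h
    have hne1 : (⟨0, by omega⟩ : Fin n) ≠ ⟨p, hpn⟩ := by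
      intro h; have := congrArg Fin.val h; simp at this; omega
    have hne2 : (⟨0, by omega⟩ : Fin n) ≠ ⟨1, by omega⟩ := by
      intro h; have := congrArg Fin.val h; simp at this
    have h3 : swap (⟨0, by omega⟩ : Fin n) ⟨p, hpn⟩ * swap (⟨0, by omega⟩ : Fin n) ⟨1, by omega⟩ ∈
        alternatingGroup (Fin n) := by
      rw [mem_alternatingGroup, Perm.sign_mul, Perm.sign_swap hne1, Perm.sign_swap hne2]
      rfl
    have : (⟨_, h3⟩ : alternatingGroup (Fin n)) ∈
        (stab n p).comap (alternatingGroup (Fin n)).subtype := by rw [h]; trivial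
    rw [Subgroup.mem_comap] at this
    have h2 := (this ⟨1, by omega⟩)
    simp only [Subgroup.coe_subtype, Perm.mul_apply] at h2
    rw [Equiv.swap_apply_right, Equiv.swap_apply_left] at h2
    simp at h2
    omega
  · rintro ⟨g, hg⟩ h
    rw [Subgroup.mem_comap]
    exact mem_stab_of_commute _ g (cyc_moves n p hp5 hpn) (congrArg Subtype.val h)
  · rintro ⟨g, hg⟩ h
    rw [Subgroup.mem_comap]
    exact mem_stab_of_commute _ g (cyc'_moves n p hp5 hpn) (congrArg Subtype.val h)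


/-- A cover of a group is a finite set of proper subgroups whose union is the whole group; it is minimal when no cover has fewer members, and nilpotent when all its members are nilpotent. The alternating groups of degree at least 5 and the symmetric groups of degree at least 4 have no nilpotent minimal cover. -/
theorem result (n : ℕ) :
    (5 ≤ n → ¬ ∃ 𝓐 : Finset (Subgroup ↥(alternatingGroup (Fin n))), ((∀ A ∈ 𝓐, A ≠ ⊤) ∧ (∀ g : ↥(alternatingGroup (Fin n)), ∃ A ∈ 𝓐, g ∈ A)) ∧ (∀ 𝓑 : Finset (Subgroup ↥(alternatingGroup (Fin n))), (∀ A ∈ 𝓑, A ≠ ⊤) ∧ (∀ g : ↥(alternatingGroup (Fin n)), ∃ A ∈ 𝓑, g ∈ A) → 𝓐.card ≤ 𝓑.card) ∧ (∀ A ∈ 𝓐, Group.IsNilpotent ↥A)) ∧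
    (4 ≤ n → ¬ ∃ 𝓐 : Finset (Subgroup (Equiv.Perm (Fin n))), ((∀ A ∈ 𝓐, A ≠ ⊤) ∧ (∀ g : (Equiv.Perm (Fin n)), ∃ A ∈ 𝓐, g ∈ A)) ∧ (∀ 𝓑 : Finset (Subgroup (Equiv.Perm (Fin n))), (∀ A ∈ 𝓑, A ≠ ⊤) ∧ (∀ g : (Equiv.Perm (Fin n)), ∃ A ∈ 𝓑, g ∈ A) → 𝓐.card ≤ 𝓑.card) ∧ (∀ A ∈ 𝓐, Group.IsNilpotent ↥A)) := by
  constructor
  · intro hn
    rcases Nat.lt_or_ge n 6 with h | h
    · have : n = 5 := by omega
      subst this
      exact a5
    · exact alt_ge6 n h
  · intro hn
    rcases Nat.lt_or_ge n 6 with h | h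
    · have : n = 4 ∨ n = 5 := by omega
      rcases this with rfl | rfl
      · exact s4
      · exact s5
    · exact sym_ge6 n h

end Cfsg.Agent.S3892
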