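import Cfsg.Statements.S3893
import Cfsg.Agent.Lib.Helper37_Cover
import Cfsg.Agent.Lib.Helper37_SzBridge
import Cfsg.Agent.Lib.Helper6_SzPartition
import Cfsg.Agent.S0326

set_option autoImplicit false
open Cfsg

namespace Cfsg.Agent.S3893

open Cfsg.Agent.Helper37Sz Cfsg.Agent.Lib.Helper37_Cover Cfsg.Agent.Lib.Helper6_SzPartition

section Aux

variable {F : Type*} [Field F] [Fintype F] {m : ℕ}

/-- a generator of a two-point stabiliser -/
theorem exists_gen_twoPt (hm : 1 ≤ m) (hF : Fintype.card F = 2 ^ (2 * m + 1))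
    {a b : Cfsg.suzukiOvoid F m} (hab : a ≠ b) :
    ∃ x : Cfsg.Sz F m, x ∈ twoPt a b ∧ x ≠ 1 ∧ ∀ y ∈ twoPt a b, y ∈ Subgroup.zpowers x := by
  have hcyc := isCyclic_twoPt hm hF hab
  obtain ⟨g, hg⟩ := hcyc.exists_generator
  refine ⟨g, g.2, ?_, ?_⟩
  · intro h1
    have hcard := card_twoPt hm hF hab
    have htriv : ∀ y : twoPt a b, y = 1 := by
      intro y
      obtain ⟨k, hk⟩ := Subgroup.mem_zpowers_iff.1 (hg y)
      have hg1 : g = 1 := Subtype.ext h1
      rw [← hk, hg1, one_zpow]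
    have : Nat.card (twoPt a b) = 1 := by
      have : Subsingleton (twoPt a b) := ⟨fun y y' => by rw [htriv y, htriv y']⟩
      exact Nat.card_unique
    rw [this] at hcard
    have : 2 ^ (2 * m + 1) ≥ 2 ^ 3 := Nat.pow_le_pow_right (by norm_num) (by omega)
    omega
  · intro y hy
    obtain ⟨k, hk⟩ := Subgroup.mem_zpowers_iff.1 (hg ⟨y, hy⟩)
    refine Subgroup.mem_zpowers_iff.2 ⟨k, ?_⟩
    have := congrArg Subtype.val hk
    simpa using this

/-- a two-point stabiliser determines its two points -/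
theorem twoPt_eq (hm : 1 ≤ m) (hF : Fintype.card F = 2 ^ (2 * m + 1))
    {a b c d : Cfsg.suzukiOvoid F m} (hab : a ≠ b) (hcd : c ≠ d)
    (h : twoPt c d = twoPt a b) : (c = a ∧ d = b) ∨ (c = b ∧ d = a) := by
  have h2 : (2 : F) = 0 := two_eq_zero_of_card hF
  have hSdef : ∀ z, sgHom F m h2 z = z ^ 2 ^ (m + 1) := fun z => sgHom_apply m h2 z
  have hS : ∀ z, sgHom F m h2 (sgHom F m h2 z) = z ^ 2 := fun z => sgHom_sgHom hF h2 z
  obtain ⟨x, hx, hx1, -⟩ := exists_gen_twoPt hm hF hab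
  have hx' : x ∈ twoPt c d := by rw [h]; exact hx
  obtain ⟨hxa, hxb⟩ := mem_twoPt.1 hx
  obtain ⟨hxc, hxd⟩ := mem_twoPt.1 hx'
  have key : ∀ p : Cfsg.suzukiOvoid F m, x • p = p → p = a ∨ p = b := by
    intro p hp
    by_contra hcon
    push Not at hcon
    exact hx1 (three_pt_trivial hm hF h2 hS hSdef x hab (Ne.symm hcon.2) (Ne.symm hcon.1)
      hxa hxb hp)
  rcases key c hxc with hc | hc <;> rcases key d hxd with hd | hd
  · exact absurd (hc.trans hd.symm) hcd
  · exact Or.inl ⟨hc, hd⟩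
  · exact Or.inr ⟨hc, hd⟩
  · exact absurd (hc.trans hd.symm) hcd

/-- point stabilisers are proper -/
theorem stabilizer_ne_top (hF : Fintype.card F = 2 ^ (2 * m + 1))
    (a : Cfsg.suzukiOvoid F m) : MulAction.stabilizer (Cfsg.Sz F m) a ≠ ⊤ := by
  have h2 : (2 : F) = 0 := two_eq_zero_of_card hF
  have hSdef : ∀ z, sgHom F m h2 z = z ^ 2 ^ (m + 1) := fun z => sgHom_apply m h2 z
  have hS : ∀ z, sgHom F m h2 (sgHom F m h2 z) = z ^ 2 := fun z => sgHom_sgHom hF h2 z
  intro htop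
  have hfix : ∀ g : Cfsg.Sz F m, g • a = a := fun g => by
    have : g ∈ MulAction.stabilizer (Cfsg.Sz F m) a := by rw [htop]; trivial
    exact this
  obtain ⟨b, hb⟩ : ∃ b : Cfsg.suzukiOvoid F m, a ≠ b := by
    by_cases h : a = ptInf F m
    · exact ⟨ptAff hSdef 0 0, by rw [h]; exact (ptAff_ne_ptInf hSdef 0 0).symm⟩
    · exact ⟨ptInf F m, h⟩
  obtain ⟨k, hka, -⟩ := exists_smul_pair h2 hS hSdef hb
  obtain ⟨k', -, hka'⟩ := exists_smul_pair h2 hS hSdef hb.symm
  rw [hfix] at hka hka'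
  exact ptAff_ne_ptInf hSdef 0 0 (hka'.symm.trans hka)

end Aux

/-- A cover of a group is a finite set of proper subgroups whose union is the whole group; it is minimal when no cover has fewer members, and nilpotent when all its members are nilpotent. The Suzuki groups Sz(q), q = 2^(2m+1) with m ≥ 1, have no nilpotent minimal cover. -/
theorem result {F : Type*} [Field F] [Fintype F] (m : ℕ) (hm : 1 ≤ m) (hF : Fintype.card F = 2 ^ (2 * m + 1)) :
    ¬ ∃ 𝓐 : Finset (Subgroup ↥(Cfsg.Lie.Sz F (2 ^ (m + 1)))), ((∀ A ∈ 𝓐, A ≠ ⊤) ∧ (∀ g : ↥(Cfsg.Lie.Sz F (2 ^ (m + 1))), ∃ A ∈ 𝓐, g ∈ A)) ∧ (∀ 𝓑 : Finset (Subgroup ↥(Cfsg.Lie.Sz F (2 ^ (m + 1)))), (∀ A ∈ 𝓑, A ≠ ⊤) ∧ (∀ g : ↥(Cfsg.Lie.Sz F (2 ^ (m + 1))), ∃ A ∈ 𝓑, g ∈ A) → 𝓐.card ≤ 𝓑.card) ∧ (∀ A ∈ 𝓐, Group.IsNilpotent ↥A) := by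
  classical
  have hcardΩ : Nat.card (Cfsg.suzukiOvoid F m) = Fintype.card F ^ 2 + 1 := Cfsg.Agent.S0326.result m
  have hfinΩ : Finite (Cfsg.suzukiOvoid F m) := Nat.finite_of_card_ne_zero (by rw [hcardΩ]; omega)
  have := Fintype.ofFinite (Cfsg.suzukiOvoid F m)
  set e := lieSzEquiv hm hF with he
  -- the two families
  let f : Cfsg.suzukiOvoid F m × Cfsg.suzukiOvoid F m → Subgroup ↥(Cfsg.Lie.Sz F (2 ^ (m + 1))) :=
    fun p => (twoPt p.1 p.2).map e.toMonoidHom
  let P : Finset (Cfsg.suzukiOvoid F m × Cfsg.suzukiOvoid F m) :=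
    (Finset.univ : Finset (Cfsg.suzukiOvoid F m)).offDiag
  let 𝒯 : Finset (Subgroup ↥(Cfsg.Lie.Sz F (2 ^ (m + 1)))) := P.image f
  let ℬ : Finset (Subgroup ↥(Cfsg.Lie.Sz F (2 ^ (m + 1)))) :=
    (Finset.univ : Finset (Cfsg.suzukiOvoid F m)).image
      (fun a => (MulAction.stabilizer (Cfsg.Sz F m) a).map e.toMonoidHom)
  have hmapinj : Function.Injective (Subgroup.map e.toMonoidHom) :=
    Subgroup.map_injective e.injective
  apply no_nilpotent_minimal_cover 𝒯 ℬ
  · -- the key property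
    intro T hT
    obtain ⟨⟨a, b⟩, hp, rfl⟩ := Finset.mem_image.1 hT
    have hab : a ≠ b := (Finset.mem_offDiag.1 hp).2.2
    obtain ⟨x, hx, hx1, hgen⟩ := exists_gen_twoPt hm hF hab
    refine ⟨e x, fun A hA hxA => ?_⟩
    apply eq_of_nilpotent_of_mem _ (e x) (Subgroup.mem_map_of_mem _ hx) _ _ _ A hA hxA
    · intro h
      apply hx1
      apply e.injective
      rw [h, map_one]
    · rintro y ⟨y0, hy0, rfl⟩
      obtain ⟨k, hk⟩ := Subgroup.mem_zpowers_iff.1 (hgen y0 hy0)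
      refine Subgroup.mem_zpowers_iff.2 ⟨k, ?_⟩
      rw [← hk]
      exact (map_zpow e x k).symm
    · rintro g ⟨g0, hg0, rfl⟩ hg1 c hc
      have hg01 : g0 ≠ 1 := by
        rintro rfl
        exact hg1 (map_one _)
      have hc0 : e.symm c * g0 = g0 * e.symm c := by
        apply e.injective
        rw [map_mul, map_mul, MulEquiv.apply_symm_apply]
        exact hc
      have := centralizer_le_twoPt hm hF hab hg0 hg01 hc0
      exact ⟨e.symm c, this, MulEquiv.apply_symm_apply e c⟩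
  · -- each two-point stabiliser lies in a point stabiliser
    intro T hT
    obtain ⟨⟨a, b⟩, hp, rfl⟩ := Finset.mem_image.1 hT
    refine ⟨(MulAction.stabilizer (Cfsg.Sz F m) a).map e.toMonoidHom,
      Finset.mem_image.2 ⟨a, Finset.mem_univ a, rfl⟩, ?_⟩
    exact Subgroup.map_mono inf_le_left
  · -- point stabilisers are proper
    intro B hB
    obtain ⟨a, -, rfl⟩ := Finset.mem_image.1 hB
    intro htop
    apply stabilizer_ne_top hF a
    apply hmapinj
    rw [htop]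
    exact (Subgroup.map_top_of_surjective _ e.surjective).symm
  · -- counting
    have hℬ : ℬ.card ≤ Fintype.card (Cfsg.suzukiOvoid F m) := by
      refine Finset.card_image_le.trans ?_
      rw [Finset.card_univ]
    have hP : P.card = Fintype.card (Cfsg.suzukiOvoid F m) * Fintype.card (Cfsg.suzukiOvoid F m)
        - Fintype.card (Cfsg.suzukiOvoid F m) := by
      rw [Finset.offDiag_card, Finset.card_univ]
    have hfib : P.card ≤ 2 * 𝒯.card := by
      apply Finset.card_le_mul_card_image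
      intro T hT
      obtain ⟨⟨a, b⟩, hp, rfl⟩ := Finset.mem_image.1 hT
      have hab : a ≠ b := (Finset.mem_offDiag.1 hp).2.2
      have hsub : (P.filter fun q => f q = f (a, b)) ⊆ {(a, b), (b, a)} := by
        rintro ⟨c, d⟩ hq
        obtain ⟨hq1, hq2⟩ := Finset.mem_filter.1 hq
        have hcd : c ≠ d := (Finset.mem_offDiag.1 hq1).2.2
        have heq : twoPt c d = twoPt a b := hmapinj hq2
        rcases twoPt_eq hm hF hab hcd heq with ⟨rfl, rfl⟩ | ⟨rfl, rfl⟩
        · simp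
        · simp
      exact (Finset.card_le_card hsub).trans Finset.card_le_two
    have hn : Fintype.card (Cfsg.suzukiOvoid F m) = Fintype.card F ^ 2 + 1 := by
      rw [← Nat.card_eq_fintype_card, hcardΩ]
    have hq : 8 ≤ Fintype.card F := by
      rw [hF]
      calc 8 = 2 ^ 3 := by norm_num
        _ ≤ 2 ^ (2 * m + 1) := Nat.pow_le_pow_right (by norm_num) (by omega)
    set n := Fintype.card (Cfsg.suzukiOvoid F m) with hndef
    have hn4 : 65 ≤ n := by
      rw [hn]
      nlinarith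
    have hP' : P.card + n = n * n := by
      rw [hP]
      have : n ≤ n * n := Nat.le_mul_self n
      omega
    have : n * n ≥ 65 * n := Nat.mul_le_mul_right n hn4
    omega

end Cfsg.Agent.S3893
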