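import Mathlib
import Cfsg.Statements.S3904
import Cfsg.Agent.S0556
import Cfsg.Agent.Lib.Helper24_MaxCent
import Cfsg.Agent.Lib.Helper6_Frobenius
import Cfsg.Agent.Lib.Helper71_Frobenius

set_option autoImplicit false
open Cfsg

namespace Cfsg.Agent.S3904

open Subgroup Cfsg.Agent.Lib.Helper24_MaxCent
open scoped commutatorElement

variable {G : Type*} [Group G]

/-! ### Class two identities -/

theorem pow_mul_eq_of_comm_central {x g : G} (hc : ⁅x, g⁆ ∈ center G) (k : ℕ) :
    x ^ k * g = ⁅x, g⁆ ^ k * g * x ^ k := by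
  have hz : ∀ t : G, t * ⁅x, g⁆ = ⁅x, g⁆ * t := mem_center_iff.mp hc
  have hzk : ∀ (j : ℕ) (t : G), t * ⁅x, g⁆ ^ j = ⁅x, g⁆ ^ j * t := fun j =>
    mem_center_iff.mp (Subgroup.pow_mem _ hc j)
  have h1 : x * g = ⁅x, g⁆ * g * x := by
    rw [commutatorElement_def]; group
  induction k with
  | zero => simp
  | succ k ih =>
    calc x ^ (k + 1) * g = x * (x ^ k * g) := by rw [pow_succ']; group
      _ = x * (⁅x, g⁆ ^ k * g * x ^ k) := by rw [ih]
      _ = (x * ⁅x, g⁆ ^ k) * g * x ^ k := by group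
      _ = ⁅x, g⁆ ^ k * (x * g) * x ^ k := by rw [hzk k x]; group
      _ = ⁅x, g⁆ ^ k * (⁅x, g⁆ * g * x) * x ^ k := by rw [← h1]
      _ = ⁅x, g⁆ ^ (k + 1) * g * x ^ (k + 1) := by rw [pow_succ, pow_succ']; group

theorem comm_pow_left {x g : G} (hc : ⁅x, g⁆ ∈ center G) (k : ℕ) :
    ⁅x ^ k, g⁆ = ⁅x, g⁆ ^ k := by
  rw [commutatorElement_def (x ^ k) g, pow_mul_eq_of_comm_central hc k]
  group

theorem comm_pow_right {x g : G} (hc : ⁅g, x⁆ ∈ center G) (k : ℕ) :
    ⁅x, g ^ k⁆ = ⁅x, g⁆ ^ k := by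
  rw [← commutatorElement_inv (g ^ k) x, comm_pow_left hc k, ← inv_pow, commutatorElement_inv]

theorem mem_cent_iff_comm {x g : G} : g ∈ centralizer ({x} : Set G) ↔ ⁅x, g⁆ = 1 := by
  rw [mem_cent, commutatorElement_eq_one_iff_commute]
  exact ⟨fun h => h.symm, fun h => h.symm⟩

theorem mem_center_iff_comm {x : G} : x ∈ center G ↔ ∀ g : G, ⁅x, g⁆ = 1 := by
  rw [mem_center_iff]
  constructor
  · intro h g
    rw [commutatorElement_eq_one_iff_commute]
    exact (h g).symm
  · intro h g
    exact ((commutatorElement_eq_one_iff_commute.mp (h g))).symm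

/-- If `G/Z(G)` is abelian, every non-central element has prime order modulo the centre. -/
theorem ord_prime_of_comm_central [Finite G] (h : Hyp G)
    (hc : ∀ a b : G, ⁅a, b⁆ ∈ center G) {x : G} (hx : x ∉ center G) : (ord x).Prime := by
  have hn1 : ord x ≠ 1 := fun h1 => hx ((ord_eq_one_iff x).mp h1)
  have hp : (ord x).minFac.Prime := Nat.minFac_prime hn1
  have hpn : (ord x).minFac ∣ ord x := Nat.minFac_dvd _
  suffices hxp : x ^ (ord x).minFac ∈ center G by
    have hd : ord x ∣ (ord x).minFac := (pow_mem_center_iff x _).mp hxp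
    have : ord x = (ord x).minFac := Nat.dvd_antisymm hd hpn
    rw [this]; exact hp
  by_contra hxp
  set p := (ord x).minFac with hpdef
  have hcent : centralizer ({x ^ p} : Set G) = centralizer ({x} : Set G) := cent_pow h hxp
  have hstar : ∀ g : G, g ^ p ∈ centralizer ({x} : Set G) → g ∈ centralizer ({x} : Set G) := by
    intro g hg
    rw [mem_cent_iff_comm, comm_pow_right (hc g x)] at hg
    rw [← hcent, mem_cent_iff_comm, comm_pow_left (hc x g)]
    exact hg
  obtain ⟨m, hm⟩ := hpn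
  have hxn : x ^ ord x ∈ center G := (pow_mem_center_iff x _).mpr dvd_rfl
  have hgm : ∀ g : G, g ^ m ∈ centralizer ({x} : Set G) := by
    intro g
    apply hstar
    rw [← pow_mul, mul_comm, ← hm, mem_cent_iff_comm, comm_pow_right (hc g x),
      ← comm_pow_left (hc x g)]
    exact mem_center_iff_comm.mp hxn g
  have hxm : x ^ m ∈ center G := by
    rw [mem_center_iff_comm]
    intro g
    rw [comm_pow_left (hc x g), ← comm_pow_right (hc g x), ← mem_cent_iff_comm]
    exact hgm g
  have hd : ord x ∣ m := (pow_mem_center_iff x _).mp hxm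
  have hmpos : 0 < m := by
    rcases Nat.eq_zero_or_pos m with h0 | h0
    · rw [h0, mul_zero] at hm
      exact absurd hm (ord_pos x).ne'
    · exact h0
  have hle : ord x ≤ m := Nat.le_of_dvd hmpos hd
  have : p * m ≤ m := hm ▸ hle
  have hp2 : 2 ≤ p := hp.two_le
  nlinarith

/-- **Lemma Q**: if `G/Z(G)` is abelian, it is an elementary abelian `p`-group. -/
theorem elemAb_of_comm_central [Finite G] (h : Hyp G)
    (hc : ∀ a b : G, ⁅a, b⁆ ∈ center G) (hna : ∃ x : G, x ∉ center G) :
    ∃ p : ℕ, p.Prime ∧ Cfsg.IsElementaryAbelian p (⊤ : Subgroup (G ⧸ center G)) := by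
  obtain ⟨x₀, hx₀⟩ := hna
  have hcomm : ∀ a b : G ⧸ center G, a * b = b * a := by
    intro a b
    obtain ⟨a, rfl⟩ := QuotientGroup.mk_surjective a
    obtain ⟨b, rfl⟩ := QuotientGroup.mk_surjective b
    rw [← QuotientGroup.mk_mul, ← QuotientGroup.mk_mul, QuotientGroup.eq]
    have := hc a⁻¹ b⁻¹
    have e : (a * b)⁻¹ * (b * a) = ⁅b⁻¹, a⁻¹⁆ := by
      rw [commutatorElement_def]; group
    rw [e]
    exact hc _ _
  have hp := ord_prime_of_comm_central h hc hx₀
  have hall : ∀ y : G, y ∉ center G → ord y = ord x₀ := by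
    intro y hy
    by_contra hne
    have hr := ord_prime_of_comm_central h hc hy
    have hcop : Nat.Coprime (ord x₀) (ord y) := by
      rw [Nat.coprime_primes hp hr]
      exact fun e => hne e.symm
    have hmul : ord (x₀ * y) = ord x₀ * ord y := by
      unfold ord
      rw [QuotientGroup.mk_mul]
      exact (show Commute (QuotientGroup.mk x₀ : G ⧸ center G) (QuotientGroup.mk y) from
        hcomm _ _).orderOf_mul_eq_mul_orderOf_of_coprime hcop
    have hxy : x₀ * y ∉ center G := by
      intro hmem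
      have h1 := (ord_eq_one_iff (x₀ * y)).mpr hmem
      rw [hmul] at h1
      have := hp.two_le
      have := hr.two_le
      nlinarith
    have hq := ord_prime_of_comm_central h hc hxy
    rw [hmul] at hq
    exact Nat.not_prime_mul hp.one_lt.ne' hr.one_lt.ne' hq
  refine ⟨ord x₀, hp, ⟨⟨fun a b => Subtype.ext (hcomm a b)⟩⟩, ?_⟩
  intro a _
  obtain ⟨y, rfl⟩ := QuotientGroup.mk_surjective a
  by_cases hy : y ∈ center G
  · rw [(QuotientGroup.eq_one_iff y).mpr hy, one_pow]
  · rw [← hall y hy]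
    exact pow_orderOf_eq_one _

/-- **Lemma R**: if `G/Z(G)` is a `p`-group then it is abelian. -/
theorem comm_central_of_isPGroup [Finite G] (h : Hyp G) {p : ℕ} [Fact p.Prime]
    (hpg : IsPGroup p (G ⧸ center G)) : ∀ a b : G, ⁅a, b⁆ ∈ center G := by
  have hnil : Group.IsNilpotent (G ⧸ center G) := hpg.isNilpotent
  have hG : Group.IsNilpotent G := Group.of_quotient_center_nilpotent hnil
  have hnc : NormalizerCondition G := Group.normalizerCondition_of_isNilpotent
  intro a b
  rw [mem_center_iff]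
  intro x
  by_cases hx : x ∈ center G
  · exact (mem_center_iff.mp hx _).symm
  · have hn : (centralizer ({x} : Set G)).Normal := NormalizerCondition.normal_of_coatom _ hnc (h x hx)
    have hle := Cfsg.Agent.S0556.commutator_le_of_normal_isCoatom (centralizer ({x} : Set G)) (h x hx)
    have hmem : ⁅a, b⁆ ∈ centralizer ({x} : Set G) := by
      apply hle
      rw [_root_.commutator_def]
      exact Subgroup.commutator_mem_commutator (Subgroup.mem_top a) (Subgroup.mem_top b)
    exact (mem_cent.mp hmem).symm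

/-! ### The structure lemma -/

theorem isComplement'_of_normal_coatom {H : Type*} [Group H] (M K : Subgroup H) [M.Normal]
    (hM : IsCoatom M) (hdisj : M ⊓ K = ⊥) (hK : K ≠ ⊥) : IsComplement' M K := by
  have hnot : ¬ K ≤ M := by
    intro hle
    apply hK
    rw [eq_bot_iff, ← hdisj]
    exact le_inf hle le_rfl
  have hlt : M < M ⊔ K := by
    refine lt_of_le_of_ne le_sup_left ?_
    intro he
    apply hnot
    exact he ▸ le_sup_right
  have htop := hM.2 _ hlt
  apply isComplement'_of_disjoint_and_mul_eq_univ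
  · rw [disjoint_iff]; exact hdisj
  · rw [← Subgroup.normal_mul, htop]; rfl

/-- **Lemma S**: the structure of `G/Z(G)` when some `C(x₁)` is abelian and normal and `G/Z(G)` is
not abelian. -/
theorem structure_of_normal_abelian_cent [Finite G] (h : Hyp G) {x₁ : G} (hx₁ : x₁ ∉ center G)
    (hab : ∀ a ∈ centralizer ({x₁} : Set G), ∀ b ∈ centralizer ({x₁} : Set G), a * b = b * a)
    (hnorm : (centralizer ({x₁} : Set G)).Normal)
    (hnc : ¬ ∀ a b : G, ⁅a, b⁆ ∈ center G) :
    (¬ IsMulCommutative (G ⧸ center G) ∧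
      (∀ H : Subgroup (G ⧸ center G), H ≠ ⊤ → IsMulCommutative ↥H) ∧
      ∃ p q a : ℕ, p.Prime ∧ q.Prime ∧ p ≠ q ∧ Nat.card (G ⧸ center G) = p ^ a * q ∧
        ∀ P : Subgroup (G ⧸ center G), Nat.card ↥P = p ^ a → P.Normal) := by
  classical
  set π := QuotientGroup.mk' (center G) with hπ
  have hπs : Function.Surjective π := QuotientGroup.mk'_surjective _
  set M := centralizer ({x₁} : Set G) with hMdef
  have hZM : center G ≤ M := center_le_cent x₁
  have hπ1 : ∀ g : G, π g = 1 ↔ g ∈ center G := fun g => QuotientGroup.eq_one_iff g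
  have hπeq : ∀ a b : G, π a = π b ↔ a⁻¹ * b ∈ center G := fun a b => QuotientGroup.eq
  -- (d) the quotient is not commutative
  have hnotcomm : ¬ IsMulCommutative (G ⧸ center G) := by
    intro hc
    apply hnc
    intro a b
    rw [← hπ1, map_commutatorElement, commutatorElement_eq_one_iff_commute]
    exact mul_comm' _ _
  refine ⟨hnotcomm, ?_⟩
  -- the image of `M`
  set Mb := M.map π with hMbdef
  have hMb_co : IsCoatom Mb := isCoatom_map_mk (h x₁ hx₁) hZM
  have hMb_n : Mb.Normal := hnorm.map π hπs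
  have hMb_comm : ∀ a ∈ Mb, ∀ b ∈ Mb, a * b = b * a := by
    rintro _ ⟨a, ha, rfl⟩ _ ⟨b, hb, rfl⟩
    rw [← map_mul, ← map_mul, hab a ha b hb]
  have hmemMb : ∀ g : G, π g ∈ Mb ↔ g ∈ M := by
    intro g
    constructor
    · rintro ⟨m, hm, hmg⟩
      have := (hπeq m g).mp hmg
      have h2 : g = m * (m⁻¹ * g) := by group
      rw [h2]
      exact M.mul_mem hm (hZM this)
    · intro hg
      exact ⟨g, hg, rfl⟩
  have hcommMb : commutator (G ⧸ center G) ≤ Mb :=
    Cfsg.Agent.S0556.commutator_le_of_normal_isCoatom Mb hMb_co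
  -- (e) an element outside `M`
  obtain ⟨y, hy⟩ : ∃ y : G, y ∉ M := by
    by_contra hcon
    push Not at hcon
    exact (h x₁ hx₁).1 (eq_top_iff.mpr fun g _ => hcon g)
  have hyZ : y ∉ center G := fun hc => hy (hZM hc)
  set Y := centralizer ({y} : Set G) with hYdef
  have hZY : center G ≤ Y := center_le_cent y
  -- (f)
  have hYM : ∀ m : G, m ∈ Y → m ∈ M → m ∈ center G := by
    intro m hmY hmM
    by_contra hmZ
    have hle : M ≤ centralizer ({m} : Set G) := by
      intro m' hm'
      rw [mem_cent]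
      exact hab m' hm' m hmM
    have heq := cent_eq_of_le h hx₁ hmZ hle
    apply hy
    rw [hMdef, heq, mem_cent]
    exact (mem_cent.mp hmY).symm
  set Yb := Y.map π with hYbdef
  have hYb_co : IsCoatom Yb := isCoatom_map_mk (h y hyZ) hZY
  -- (g)
  have hdisj : Mb ⊓ Yb = ⊥ := by
    rw [eq_bot_iff]
    rintro g ⟨hgM, hgY⟩
    obtain ⟨c, hc, rfl⟩ := hgY
    have hcM : c ∈ M := (hmemMb c).mp hgM
    rw [Subgroup.mem_bot, hπ1]
    exact hYM c hc hcM
  have hybar : π y ∈ Yb := ⟨y, self_mem_cent y, rfl⟩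
  have hYb_ne : Yb ≠ ⊥ := by
    intro he
    have : π y ∈ (⊥ : Subgroup (G ⧸ center G)) := he ▸ hybar
    rw [Subgroup.mem_bot, hπ1] at this
    exact hyZ this
  have hcompl : IsComplement' Mb Yb := isComplement'_of_normal_coatom Mb Yb hMb_co hdisj hYb_ne
  have hcard : Nat.card Mb * Nat.card Yb = Nat.card (G ⧸ center G) := hcompl.card_mul_card
  -- (i) `|Yb|` is prime
  have hYb1 : Nat.card Yb ≠ 1 := by
    intro h1
    exact hYb_ne ((Subgroup.card_eq_one).mp h1)
  obtain ⟨q, hq, hqY⟩ : ∃ q : ℕ, q.Prime ∧ Nat.card Yb = q := by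
    have hq := Nat.minFac_prime hYb1
    have : Fact (Nat.card Yb).minFac.Prime := ⟨hq⟩
    obtain ⟨u, hu⟩ := exists_prime_orderOf_dvd_card' (G := Yb) (Nat.card Yb).minFac
      (Nat.minFac_dvd _)
    refine ⟨_, hq, ?_⟩
    set U : Subgroup (G ⧸ center G) := Subgroup.zpowers (u : G ⧸ center G) with hU
    have hUY : U ≤ Yb := by
      rw [hU, Subgroup.zpowers_le]; exact u.2
    have hUcard : Nat.card U = (Nat.card Yb).minFac := by
      rw [hU, Nat.card_zpowers, Subgroup.orderOf_coe, hu]
    have hU_ne : U ≠ ⊥ := by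
      intro he
      rw [he, Subgroup.card_bot] at hUcard
      exact hq.one_lt.ne hUcard
    have hdisjU : Mb ⊓ U = ⊥ := by
      rw [eq_bot_iff, ← hdisj]
      exact inf_le_inf_left _ hUY
    have hcU := (isComplement'_of_normal_coatom Mb U hMb_co hdisjU hU_ne).card_mul_card
    rw [← hcard, hUcard] at hcU
    have hpos : 0 < Nat.card Mb := Nat.card_pos
    exact (Nat.eq_of_mul_eq_mul_left hpos hcU).symm
  have : Fact q.Prime := ⟨hq⟩
  -- (j) `q` does not divide `|Mb|`
  have hqM : ¬ q ∣ Nat.card Mb := by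
    intro hdvd
    have hq2 : q ^ 2 ∣ Nat.card (G ⧸ center G) := by
      rw [← hcard, hqY, pow_two]
      exact Nat.mul_dvd_mul_right hdvd q
    have hYp : IsPGroup q Yb := IsPGroup.of_card (n := 1) (by rw [hqY, pow_one])
    obtain ⟨Q, hQ⟩ := hYp.exists_le_sylow
    have hQ2 : q ^ 2 ∣ Nat.card Q := Q.pow_dvd_card_of_pow_dvd_card hq2
    have hne : Yb ≠ (Q : Subgroup (G ⧸ center G)) := by
      intro he
      have : Nat.card Yb = Nat.card Q := by rw [he]
      rw [← this, hqY] at hQ2
      have := Nat.le_of_dvd hq.pos hQ2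
      have := hq.two_le
      nlinarith
    have htop := hYb_co.2 _ (lt_of_le_of_ne hQ hne)
    have hpg : IsPGroup q (G ⧸ center G) := by
      intro g
      have hg : g ∈ (Q : Subgroup (G ⧸ center G)) := htop ▸ Subgroup.mem_top g
      obtain ⟨k, hk⟩ := Q.isPGroup' ⟨g, hg⟩
      exact ⟨k, congrArg Subtype.val hk⟩
    exact hnc (comm_central_of_isPGroup h hpg)
  -- (k) minimality of `Mb`
  have hmin : ∀ L : Subgroup (G ⧸ center G), L ≤ Mb → L.Normal → L ≠ ⊥ → L = Mb := by
    intro L hLM hLn hL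
    have hnot : ¬ L ≤ Yb := by
      intro hle
      apply hL
      rw [eq_bot_iff, ← hdisj]
      exact le_inf hLM hle
    have hlt : Yb < L ⊔ Yb := by
      refine lt_of_le_of_ne le_sup_right ?_
      intro he
      apply hnot
      exact he ▸ le_sup_left
    have htop := hYb_co.2 _ hlt
    apply le_antisymm hLM
    intro m hm
    have hmem : m ∈ ((L ⊔ Yb : Subgroup (G ⧸ center G)) : Set (G ⧸ center G)) := by
      rw [htop]; exact Set.mem_univ m
    rw [Subgroup.normal_mul] at hmem
    obtain ⟨l, hl, u, hu, hlu⟩ := hmem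
    have hlu' : l * u = m := hlu
    have huM : u ∈ Mb := by
      have : u = l⁻¹ * m := by rw [← hlu']; group
      rw [this]
      exact Mb.mul_mem (Mb.inv_mem (hLM hl)) hm
    have hu1 : u ∈ (⊥ : Subgroup (G ⧸ center G)) := hdisj ▸ Subgroup.mem_inf.mpr ⟨huM, hu⟩
    rw [Subgroup.mem_bot] at hu1
    rw [← hlu', hu1, mul_one]
    exact hl
  -- (m0) proper subgroups are inside `Mb` or meet it trivially
  have hdich : ∀ H : Subgroup (G ⧸ center G), H ≠ ⊤ → H ≤ Mb ∨ H ⊓ Mb = ⊥ := by
    intro H hH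
    by_cases hHM : H ≤ Mb
    · exact Or.inl hHM
    right
    have hlt : Mb < H ⊔ Mb := by
      refine lt_of_le_of_ne le_sup_right ?_
      intro he
      apply hHM
      exact he ▸ le_sup_left
    have htop := hMb_co.2 _ hlt
    have hLn : (H ⊓ Mb).Normal := by
      constructor
      intro n hn g
      have hmem : g ∈ ((H ⊔ Mb : Subgroup (G ⧸ center G)) : Set (G ⧸ center G)) := by
        rw [htop]; exact Set.mem_univ g
      rw [Subgroup.mul_normal] at hmem
      obtain ⟨a, ha, m, hm, ham⟩ := hmem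
      have ham' : a * m = g := ham
      rw [← ham']
      obtain ⟨hnH, hnM⟩ := Subgroup.mem_inf.mp hn
      have e : a * m * n * (a * m)⁻¹ = a * n * a⁻¹ := by
        have : m * n = n * m := hMb_comm m hm n hnM
        calc a * m * n * (a * m)⁻¹ = a * (m * n) * m⁻¹ * a⁻¹ := by group
          _ = a * (n * m) * m⁻¹ * a⁻¹ := by rw [this]
          _ = a * n * a⁻¹ := by group
      rw [e]
      exact Subgroup.mem_inf.mpr ⟨H.mul_mem (H.mul_mem ha hnH) (H.inv_mem ha),
        hMb_n.conj_mem n hnM a⟩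
    by_contra hne
    have := hmin (H ⊓ Mb) inf_le_right hLn hne
    have hMH : Mb ≤ H := this ▸ inf_le_left
    have hlt2 : Mb < H := lt_of_le_of_ne hMH (fun he => hHM (he ▸ le_rfl))
    exact hH (hMb_co.2 _ hlt2)
  refine ⟨?_, ?_⟩
  · -- (m) proper subgroups are abelian
    intro H hH
    rcases hdich H hH with hHM | hHM
    · exact ⟨⟨fun a b => Subtype.ext (hMb_comm a (hHM a.2) b (hHM b.2))⟩⟩
    · refine ⟨⟨fun a b => Subtype.ext ?_⟩⟩
      have h1 : ⁅(a : G ⧸ center G), (b : G ⧸ center G)⁆ ∈ Mb := by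
        apply hcommMb
        rw [_root_.commutator_def]
        exact Subgroup.commutator_mem_commutator (Subgroup.mem_top _) (Subgroup.mem_top _)
      have h2 : ⁅(a : G ⧸ center G), (b : G ⧸ center G)⁆ ∈ H := by
        rw [commutatorElement_def]
        exact H.mul_mem (H.mul_mem (H.mul_mem a.2 b.2) (H.inv_mem a.2)) (H.inv_mem b.2)
      have h3 : ⁅(a : G ⧸ center G), (b : G ⧸ center G)⁆ ∈ (⊥ : Subgroup (G ⧸ center G)) :=
        hHM ▸ Subgroup.mem_inf.mpr ⟨h2, h1⟩
      rw [Subgroup.mem_bot, commutatorElement_eq_one_iff_commute] at h3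
      exact h3
  · -- the order
    have hMb_ne : Mb ≠ ⊥ := by
      intro he
      have : π x₁ ∈ (⊥ : Subgroup (G ⧸ center G)) := he ▸ (hmemMb x₁).mpr (self_mem_cent x₁)
      rw [Subgroup.mem_bot, hπ1] at this
      exact hx₁ this
    have hMb1 : Nat.card Mb ≠ 1 := fun h1 => hMb_ne ((Subgroup.card_eq_one).mp h1)
    have hp := Nat.minFac_prime hMb1
    set p := (Nat.card Mb).minFac with hpdef
    have : Fact p.Prime := ⟨hp⟩
    have hpM : p ∣ Nat.card Mb := Nat.minFac_dvd _
    have hpq : p ≠ q := by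
      intro he
      exact hqM (he ▸ hpM)
    -- `Ω₁(Mb)`
    let Ω : Subgroup (G ⧸ center G) :=
      { carrier := {m | m ∈ Mb ∧ m ^ p = 1}
        one_mem' := ⟨Mb.one_mem, one_pow _⟩
        mul_mem' := by
          rintro a b ⟨ha, ha'⟩ ⟨hb, hb'⟩
          refine ⟨Mb.mul_mem ha hb, ?_⟩
          rw [(show Commute a b from hMb_comm a ha b hb).mul_pow, ha', hb', one_mul]
        inv_mem' := by
          rintro a ⟨ha, ha'⟩
          exact ⟨Mb.inv_mem ha, by rw [inv_pow, ha', inv_one]⟩ }
    have hΩM : Ω ≤ Mb := fun m hm => hm.1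
    have hΩn : Ω.Normal := by
      constructor
      rintro n ⟨hn, hn'⟩ g
      exact ⟨hMb_n.conj_mem n hn g, by rw [conj_pow, hn', mul_one, mul_inv_cancel]⟩
    have hΩne : Ω ≠ ⊥ := by
      obtain ⟨u, hu⟩ := exists_prime_orderOf_dvd_card' (G := Mb) p hpM
      intro he
      have hmem : (u : G ⧸ center G) ∈ Ω := by
        refine ⟨u.2, ?_⟩
        rw [← Subgroup.orderOf_coe] at hu
        rw [← hu]; exact pow_orderOf_eq_one _
      rw [he, Subgroup.mem_bot] at hmem
      have : u = 1 := Subtype.ext hmem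
      rw [this, orderOf_one] at hu
      exact hp.one_lt.ne hu
    have hΩeq := hmin Ω hΩM hΩn hΩne
    have hMbp : IsPGroup p Mb := by
      rintro ⟨m, hm⟩
      have hmΩ : m ∈ Ω := hΩeq ▸ hm
      exact ⟨1, Subtype.ext (by rw [pow_one]; exact hmΩ.2)⟩
    obtain ⟨a, ha⟩ := IsPGroup.iff_card.mp hMbp
    have ha1 : a ≠ 0 := by
      intro h0
      rw [h0, pow_zero] at ha
      exact hMb1 ha
    refine ⟨p, q, a, hp, hq, hpq, ?_, ?_⟩
    · rw [← hcard, ha, hqY]
    · intro P hP
      have hPtop : P ≠ ⊤ := by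
        intro he
        rw [he, Subgroup.card_top, ← hcard, ha, hqY] at hP
        have hpos : 0 < p ^ a := pow_pos hp.pos a
        have : q = 1 := by
          have h5 : p ^ a * q = p ^ a * 1 := by rw [mul_one]; exact hP
          exact Nat.eq_of_mul_eq_mul_left hpos h5
        exact hq.one_lt.ne' this
      rcases hdich P hPtop with hPM | hPM
      · have : P = Mb := by
          apply Subgroup.eq_of_le_of_card_ge hPM
          rw [hP, ha]
        rw [this]; exact hMb_n
      · exfalso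
        -- `P` embeds in the quotient by `Mb`, of order `q`
        have hinj : Function.Injective ((QuotientGroup.mk' Mb).comp P.subtype) := by
          rw [injective_iff_map_eq_one]
          rintro ⟨g, hg⟩ hg1
          rw [MonoidHom.comp_apply, QuotientGroup.mk'_apply, Subgroup.subtype_apply,
            QuotientGroup.eq_one_iff] at hg1
          have : g ∈ (⊥ : Subgroup (G ⧸ center G)) := hPM ▸ Subgroup.mem_inf.mpr ⟨hg, hg1⟩
          exact Subtype.ext (Subgroup.mem_bot.mp this)
        have hdvd := Subgroup.card_dvd_of_injective _ hinj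
        have hidx : Nat.card ((G ⧸ center G) ⧸ Mb) = q := by
          rw [← Subgroup.index_eq_card, ← hqY]
          have := hcompl.symm.index_eq_card
          exact this
        rw [hP, hidx] at hdvd
        have hpd : p ∣ q := dvd_trans (dvd_pow_self p ha1) hdvd
        exact hpq ((Nat.prime_dvd_prime_iff_eq hp hq).mp hpd)

/-! ### The Frobenius case -/

open scoped Pointwise in
/-- Case I-b: a non-normal abelian centralizer yields a normal abelian centralizer. -/
theorem exists_normal_abelian_cent [Finite G] (h : Hyp G) {x₀ : G} (hx₀ : x₀ ∉ center G)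
    (hab : ∀ a ∈ centralizer ({x₀} : Set G), ∀ b ∈ centralizer ({x₀} : Set G), a * b = b * a)
    (hnn : ¬ (centralizer ({x₀} : Set G)).Normal) :
    ∃ x₁ : G, x₁ ∉ center G ∧
      (∀ a ∈ centralizer ({x₁} : Set G), ∀ b ∈ centralizer ({x₁} : Set G), a * b = b * a) ∧
      (centralizer ({x₁} : Set G)).Normal := by
  classical
  set π := QuotientGroup.mk' (center G) with hπ
  have hπs : Function.Surjective π := QuotientGroup.mk'_surjective _
  set M := centralizer ({x₀} : Set G) with hMdef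
  have hZM : center G ≤ M := center_le_cent x₀
  have hπ1 : ∀ g : G, π g = 1 ↔ g ∈ center G := fun g => QuotientGroup.eq_one_iff g
  have hπeq : ∀ a b : G, π a = π b ↔ a⁻¹ * b ∈ center G := fun a b => QuotientGroup.eq
  have hMco : IsCoatom M := h x₀ hx₀
  -- self-normalizing
  have hNM : ∀ g : G, g ∈ normalizer (M : Set G) → g ∈ M := by
    intro g hg
    by_contra hgM
    have hlt : M < normalizer (M : Set G) :=
      lt_of_le_of_ne le_normalizer (fun he => hgM (he ▸ hg))
    exact hnn (normalizer_eq_top_iff.mp (hMco.2 _ hlt))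
  -- TI
  have hTI : ∀ g : G, g ∉ M → ∀ w ∈ M, g⁻¹ * w * g ∈ M → w ∈ center G := by
    intro g hg w hw hwg
    by_contra hwZ
    have hle : M ≤ centralizer ({w} : Set G) := fun m hm => mem_cent.mpr (hab m hm w hw)
    have heq : M = centralizer ({w} : Set G) := cent_eq_of_le h hx₀ hwZ hle
    have hconj : ∀ m ∈ M, g * m * g⁻¹ ∈ M := by
      intro m hm
      have hcm := hab m hm _ hwg
      have : g * m * g⁻¹ ∈ centralizer ({w} : Set G) := by
        rw [mem_cent]
        calc g * m * g⁻¹ * w = g * (m * (g⁻¹ * w * g)) * g⁻¹ := by group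
          _ = g * ((g⁻¹ * w * g) * m) * g⁻¹ := by rw [hcm]
          _ = w * (g * m * g⁻¹) := by group
      exact heq ▸ this
    apply hg
    apply hNM
    refine Cfsg.Agent.S0556.mem_normalizer_of_map_conj_le M g ?_
    rintro _ ⟨m, hm, rfl⟩
    exact hconj m hm
  set Mb := M.map π with hMbdef
  have hmemMb : ∀ g : G, π g ∈ Mb ↔ g ∈ M := by
    intro g
    constructor
    · rintro ⟨m, hm, hmg⟩
      have := (hπeq m g).mp hmg
      have h2 : g = m * (m⁻¹ * g) := by group
      rw [h2]
      exact M.mul_mem hm (hZM this)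
    · intro hg
      exact ⟨g, hg, rfl⟩
  have hx₀b : π x₀ ∈ Mb := (hmemMb x₀).mpr (self_mem_cent x₀)
  have hx₀1 : π x₀ ≠ 1 := fun he => hx₀ ((hπ1 x₀).mp he)
  have hFrob : IsFrobeniusComplement Mb := by
    refine ⟨?_, (isCoatom_map_mk hMco hZM).1, ?_⟩
    · intro he
      have : π x₀ ∈ (⊥ : Subgroup (G ⧸ center G)) := he ▸ hx₀b
      exact hx₀1 (Subgroup.mem_bot.mp this)
    · intro gb hgb
      obtain ⟨g, rfl⟩ := hπs gb
      have hg : g ∉ M := fun hc => hgb ((hmemMb g).mpr hc)
      rw [eq_bot_iff]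
      intro ub hub
      obtain ⟨hu1, hu2⟩ := Subgroup.mem_inf.mp hub
      rw [Cfsg.Agent.Lib.Helper71_Frobenius.mem_conj_smul] at hu2
      obtain ⟨w, rfl⟩ := hπs ub
      have hw : w ∈ M := (hmemMb w).mp hu1
      have hw2 : g⁻¹ * w * g ∈ M := by
        rw [← hmemMb, map_mul, map_mul, map_inv]
        exact hu2
      rw [Subgroup.mem_bot, hπ1]
      exact hTI g hg w hw hw2
  obtain ⟨N, hNK, hNn, hNM'⟩ := Cfsg.Agent.Lib.Helper6_Frobenius.exists_kernel Mb hFrob
  have hdisj : N ⊓ Mb = ⊥ := hNM'.disjoint.eq_bot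
  set K := N.comap π with hKdef
  have hKn : K.Normal := hNn.comap π
  -- the key claim
  have hkey : ∀ k : G, π k ∈ N → k ∉ center G → centralizer ({k} : Set G) ≤ K := by
    intro k hk hkZ c hc
    show π c ∈ N
    by_contra hcN
    have hcK : π c ∉ frobeniusKernel Mb := by
      rw [← hNK]; exact hcN
    have hcK' : ¬ (π c = 1 ∨ ∀ g : G ⧸ center G, π c ∉ MulAut.conj g • Mb) := hcK
    push Not at hcK'
    obtain ⟨hc1, gb, hgb⟩ := hcK'
    rw [Cfsg.Agent.Lib.Helper71_Frobenius.mem_conj_smul] at hgb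
    have hn' : gb⁻¹ * π k * gb ∈ N := by
      have := hNn.conj_mem (π k) hk gb⁻¹
      rwa [inv_inv] at this
    have hcomm : π c * π k = π k * π c := by
      rw [← map_mul, ← map_mul, mem_cent.mp hc]
    have hn'M : gb⁻¹ * π k * gb ∈ Mb := by
      by_contra hnot
      have hbot := hFrob.2.2 _ hnot
      have hmem : gb⁻¹ * π c * gb ∈ Mb ⊓ MulAut.conj (gb⁻¹ * π k * gb) • Mb := by
        refine Subgroup.mem_inf.mpr ⟨hgb, ?_⟩
        rw [Cfsg.Agent.Lib.Helper71_Frobenius.mem_conj_smul]
        have e : (gb⁻¹ * π k * gb)⁻¹ * (gb⁻¹ * π c * gb) * (gb⁻¹ * π k * gb) =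
            gb⁻¹ * π c * gb := by
          calc (gb⁻¹ * π k * gb)⁻¹ * (gb⁻¹ * π c * gb) * (gb⁻¹ * π k * gb)
              = gb⁻¹ * (π k)⁻¹ * (π c * π k) * gb := by group
            _ = gb⁻¹ * (π k)⁻¹ * (π k * π c) * gb := by rw [hcomm]
            _ = gb⁻¹ * π c * gb := by group
        rw [e]
        exact hgb
      rw [hbot, Subgroup.mem_bot] at hmem
      apply hc1
      have : π c = gb * (gb⁻¹ * π c * gb) * gb⁻¹ := by group
      rw [this, hmem]; group
    have hbot : gb⁻¹ * π k * gb ∈ (⊥ : Subgroup (G ⧸ center G)) :=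
      hdisj ▸ Subgroup.mem_inf.mpr ⟨hn', hn'M⟩
    rw [Subgroup.mem_bot] at hbot
    apply hkZ
    rw [← hπ1]
    have : π k = gb * (gb⁻¹ * π k * gb) * gb⁻¹ := by group
    rw [this, hbot]; group
  have hx₀K : x₀ ∉ K := by
    intro hmem
    have : π x₀ ∈ (⊥ : Subgroup (G ⧸ center G)) :=
      hdisj ▸ Subgroup.mem_inf.mpr ⟨hmem, hx₀b⟩
    exact hx₀1 (Subgroup.mem_bot.mp this)
  have hKtop : K ≠ ⊤ := fun he => hx₀K (he ▸ Subgroup.mem_top x₀)
  have hcentK : ∀ k : G, k ∈ K → k ∉ center G → centralizer ({k} : Set G) = K := by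
    intro k hk hkZ
    have hle := hkey k hk hkZ
    by_contra hne
    exact hKtop ((h k hkZ).2 _ (lt_of_le_of_ne hle hne))
  -- `N ≠ ⊥`
  have hNne : N ≠ ⊥ := by
    intro he
    have hc := hNM'.card_mul_card
    rw [he, Subgroup.card_bot, one_mul] at hc
    exact hFrob.2.1 ((Subgroup.card_eq_iff_eq_top Mb).mp hc)
  obtain ⟨⟨n, hnN⟩, hn1⟩ := (Subgroup.ne_bot_iff_exists_ne_one).mp hNne
  obtain ⟨k, rfl⟩ := hπs n
  have hkZ : k ∉ center G := by
    intro hc
    apply hn1
    exact Subtype.ext ((hπ1 k).mpr hc)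
  have hkK : k ∈ K := hnN
  refine ⟨k, hkZ, ?_, ?_⟩
  · intro a ha b hb
    rw [hcentK k hkK hkZ] at ha hb
    by_cases haZ : a ∈ center G
    · exact ((mem_center_iff.mp haZ) b).symm
    · have : b ∈ centralizer ({a} : Set G) := by rw [hcentK a ha haZ]; exact hb
      exact (mem_cent.mp this).symm
  · rw [hcentK k hkK hkZ]; exact hKn

/-- Let G be a non-abelian finite group in which the centralizer of every non-central element is a maximal subgroup. Then G/Z(G) is either an elementary abelian p-group for some prime p, or a minimal non-abelian group (non-abelian with all proper subgroups abelian) of order p^a · q for distinct primes p, q with a normal Sylow p-subgroup. -/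
theorem result {G : Type*} [Group G] [Finite G] (hna : ¬ IsMulCommutative G)
    (h : ∀ x : G, x ∉ Subgroup.center G → IsCoatom (Subgroup.centralizer ({x} : Set G))) :
    (∃ p : ℕ, p.Prime ∧ Cfsg.IsElementaryAbelian p (⊤ : Subgroup (G ⧸ Subgroup.center G))) ∨
    (¬ IsMulCommutative (G ⧸ Subgroup.center G) ∧ (∀ H : Subgroup (G ⧸ Subgroup.center G), H ≠ ⊤ → IsMulCommutative ↥H) ∧
      ∃ p q a : ℕ, p.Prime ∧ q.Prime ∧ p ≠ q ∧ Nat.card (G ⧸ Subgroup.center G) = p ^ a * q ∧
        ∀ P : Subgroup (G ⧸ Subgroup.center G), Nat.card ↥P = p ^ a → P.Normal) := by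
  have hH : Hyp G := h
  have hnaZ : ∃ x : G, x ∉ center G := by
    by_contra hcon
    push Not at hcon
    apply hna
    exact ⟨⟨fun a b => (mem_center_iff.mp (hcon b) a)⟩⟩
  by_cases hc : ∀ a b : G, ⁅a, b⁆ ∈ center G
  · left
    exact elemAb_of_comm_central hH hc hnaZ
  right
  by_cases hI : ∃ x : G, x ∉ center G ∧
      ∀ a ∈ centralizer ({x} : Set G), ∀ b ∈ centralizer ({x} : Set G), a * b = b * a
  · obtain ⟨x₀, hx₀, hab⟩ := hI
    by_cases hn : (centralizer ({x₀} : Set G)).Normal
    · exact structure_of_normal_abelian_cent hH hx₀ hab hn hc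
    · obtain ⟨x₁, hx₁, hab₁, hn₁⟩ := exists_normal_abelian_cent hH hx₀ hab hn
      exact structure_of_normal_abelian_cent hH hx₁ hab₁ hn₁ hc
  · exfalso
    have hII : ∀ x : G, x ∉ center G →
        ∃ a ∈ centralizer ({x} : Set G), ∃ b ∈ centralizer ({x} : Set G), a * b ≠ b * a := by
      intro x hx
      by_contra hcon
      apply hI
      refine ⟨x, hx, ?_⟩
      intro a ha b hb
      by_contra hne
      exact hcon ⟨a, ha, b, hb, hne⟩
    refine false_of_nonabelian_cent hH hII ?_ hnaZ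
    intro x hx hpg
    have hp := (ord_eq_of_mem_cent hH hx (hII x hx)).1
    have : Fact (ord x).Prime := ⟨hp⟩
    exact hc (comm_central_of_isPGroup hH hpg)

end Cfsg.Agent.S3904
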