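import Cfsg.Statements.S3905
import Cfsg.Agent.Lib.Helper51_CMDefs
import Cfsg.Agent.Lib.Helper51_CMRho
import Cfsg.Agent.Lib.Helper51_CMAsm
import Cfsg.Agent.Lib.Helper63_CM_P0_A3aux
import Cfsg.Agent.Lib.Helper55_CM_P0_A1
import Cfsg.Agent.Lib.Helper51_CM_P0_HYP

set_option autoImplicit false
open Cfsg Cfsg.Agent.Lib.Helper51_CMDefs Cfsg.Agent.Lib.Helper51_CMRho

namespace Cfsg.Agent.S3905

/-- Let N be a normal subgroup of the finite group G such that for every element x of N outside the center of N the centralizer C_G(x) is a maximal subgroup of G. Then N/Z(N) is either an elementary abelian p-group for some prime p, or a Frobenius group whose kernel is an elementary abelian normal subgroup and whose complement has prime order. -/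
theorem result {G : Type*} [Group G] [Finite G] (N : Subgroup G) [N.Normal]
    (h : ∀ x : G, x ∈ N → x ∉ Subgroup.centralizer (N : Set G) → IsCoatom (Subgroup.centralizer ({x} : Set G))) :
    (∃ p : ℕ, p.Prime ∧ Cfsg.IsElementaryAbelian p (⊤ : Subgroup (↥N ⧸ Subgroup.center ↥N))) ∨
    (∃ (Q K : Subgroup (↥N ⧸ Subgroup.center ↥N)) (p : ℕ), p.Prime ∧ Cfsg.IsFrobeniusComplement Q ∧ (Nat.card ↥Q).Prime ∧
      K.Normal ∧ (K : Set (↥N ⧸ Subgroup.center ↥N)) = Cfsg.frobeniusKernel Q ∧ Cfsg.IsElementaryAbelian p K) := by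
  by_cases hB : ∃ x₀ : ↥N, St (rho N) (QuotientGroup.mk x₀) ≠ ⊤
  · right
    have hH := Cfsg.Agent.Lib.Helper51_CM_P0_HYP.hyp_of_caseB N h hB
    obtain ⟨x₀, hx₀⟩ := hB
    have : Nontrivial (↥N ⧸ Subgroup.center ↥N) := by
      refine ⟨⟨QuotientGroup.mk x₀, 1, fun h1 => hx₀ ?_⟩⟩
      rw [h1, eq_top_iff]
      intro g _
      rw [mem_St]
      exact map_one _
    exact Cfsg.Agent.Lib.Helper51_CMAsm.main hH
  · left
    push Not at hB
    have hA : ∀ (g : G) (y : ↥N ⧸ Subgroup.center ↥N), rho N g y = y := by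
      intro g y
      obtain ⟨n, rfl⟩ := QuotientGroup.mk_surjective y
      have : g ∈ St (rho N) (QuotientGroup.mk n) := by rw [hB n]; exact Subgroup.mem_top g
      exact this
    exact Cfsg.Agent.Lib.Helper63_CM_P0_A3aux.caseA_aux N
      (fun x hx => Cfsg.Agent.Lib.Helper55_CM_P0_A1.pow_mem_of_caseA N h hA x hx) hA

end Cfsg.Agent.S3905
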