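import Cfsg.Statements.S3919
import Cfsg.Agent.S0112
import Cfsg.Agent.S4403
import Cfsg.Agent.Lib.Helper2_MaxClass
import Cfsg.Agent.Lib.Helper2_TwoMaxClass
import Cfsg.Agent.Lib.Helper2_TwoMaxClassStruct
import Cfsg.Agent.Lib.Helper50_UniqueInv
import Cfsg.Agent.Lib.Helper50_UniqueInv2
import Cfsg.Agent.Lib.Helper53_Klein

set_option autoImplicit false
open Cfsg

namespace Cfsg.Agent.S3919

open Subgroup

universe u

/-! ### Generalized quaternion groups have maximal class -/

section Quaternion

open QuaternionGroup

lemma two_mul_eq_zero {N : ℕ} [NeZero N] (j : ZMod (2 * N)) (h : 2 * j = 0) :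
    j = 0 ∨ j = (N : ZMod (2 * N)) := by
  have hN : 0 < N := Nat.pos_of_ne_zero (NeZero.ne N)
  have hv : j.val < 2 * N := ZMod.val_lt j
  have hj : ((j.val : ℕ) : ZMod (2 * N)) = j := ZMod.natCast_zmod_val j
  have h2 : (((2 * j.val : ℕ)) : ZMod (2 * N)) = 0 := by
    push_cast
    rw [hj]; exact h
  rw [ZMod.natCast_eq_zero_iff] at h2
  have h3 : N ∣ j.val := by
    obtain ⟨t, ht⟩ := h2
    exact ⟨t, by nlinarith⟩
  obtain ⟨t, ht⟩ := h3
  have ht2 : t < 2 := by nlinarith
  interval_cases t
  · left
    rw [← hj, ht]; simp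
  · right
    rw [← hj, ht]; simp

variable {n : ℕ} [NeZero n]

lemma centralizer_xa (i : ZMod (2 * n)) :
    Subgroup.centralizer ({xa i} : Set (QuaternionGroup n)) = Subgroup.zpowers (xa i) := by
  apply le_antisymm
  · intro x hx
    rw [Subgroup.mem_centralizer_singleton_iff] at hx
    cases x with
    | a j =>
      simp only [xa_mul_a, a_mul_xa, xa.injEq] at hx
      have h2 : 2 * j = 0 := by
        have := congrArg (fun t => t - i + j) hx
        simp only [add_sub_cancel_left, sub_sub_cancel_left, neg_add_cancel] at this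
        linear_combination (-1 : ZMod (2 * n)) * this
      rcases two_mul_eq_zero j h2 with rfl | rfl
      · rw [a_zero]; exact Subgroup.one_mem _
      · rw [← xa_sq i]; exact Subgroup.pow_mem _ (Subgroup.mem_zpowers _) 2
    | xa j =>
      simp only [xa_mul_xa, a.injEq] at hx
      have h2 : 2 * (j - i) = 0 := by
        have := congrArg (fun t => t - (n : ZMod (2 * n)) - (i - j)) hx
        ring_nf at this
        linear_combination (-1 : ZMod (2 * n)) * this
      rcases two_mul_eq_zero (j - i) h2 with h | h
      · have : j = i := sub_eq_zero.1 h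
        rw [this]; exact Subgroup.mem_zpowers _
      · have : j = i + n := by rw [← h]; ring
        rw [this]
        have e : (xa (i + n) : QuaternionGroup n) = xa i ^ 3 := by
          rw [pow_succ, xa_sq, a_mul_xa]
          congr 1
          have : ((n : ZMod (2 * n)) + n) = 0 := by
            have := ZMod.natCast_self (2 * n)
            push_cast at this
            linear_combination this
          linear_combination this
        rw [e]; exact Subgroup.pow_mem _ (Subgroup.mem_zpowers _) 3
  · rw [Subgroup.zpowers_le, Subgroup.mem_centralizer_singleton_iff]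

end Quaternion

/-- the centralizer of a cyclic subgroup is the centralizer of its generator -/
lemma centralizer_zpowers {G : Type*} [Group G] (g : G) :
    Subgroup.centralizer ((zpowers g : Subgroup G) : Set G) = Subgroup.centralizer {g} := by
  apply le_antisymm
  · exact Subgroup.centralizer_le (Set.singleton_subset_iff.mpr (mem_zpowers g))
  · intro x hx
    rw [Subgroup.mem_centralizer_singleton_iff] at hx
    rw [Subgroup.mem_centralizer_iff]
    intro y hy
    obtain ⟨k, rfl⟩ := mem_zpowers_iff.mp hy
    exact ((Commute.zpow_right (show Commute x g from hx) k).eq).symm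

theorem quaternion_class (k : ℕ) :
    Group.nilpotencyClass (QuaternionGroup (2 ^ k)) = k + 2 - 1 := by
  have : Fact (Nat.Prime 2) := ⟨Nat.prime_two⟩
  have hcard : Nat.card (QuaternionGroup (2 ^ k)) = 2 ^ (k + 2) := by
    rw [Nat.card_eq_fintype_card, QuaternionGroup.card]; ring
  apply Cfsg.Agent.S0112.result (p := 2) (k + 2) hcard (zpowers (QuaternionGroup.xa 0))
  · rw [Nat.card_zpowers, QuaternionGroup.orderOf_xa]; norm_num
  · rw [centralizer_zpowers, centralizer_xa]

/-- nonabelian groups of order `2 ^ n` have `3 ≤ n` -/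
theorem three_le {G : Type*} [Group G] [Finite G] (hna : ¬ IsMulCommutative G) (n : ℕ)
    (hG : Nat.card G = 2 ^ n) : 3 ≤ n := by
  have : Fact (Nat.Prime 2) := ⟨Nat.prime_two⟩
  by_contra hlt
  push Not at hlt
  apply hna
  interval_cases n
  · have : Subsingleton G := (Nat.card_eq_one_iff_unique.mp (by simpa using hG)).1
    exact ⟨⟨fun a b => Subsingleton.elim _ _⟩⟩
  · have hc : IsCyclic G := isCyclic_of_prime_card (p := 2) (by simpa using hG)
    exact IsCyclic.isMulCommutative
  · exact IsPGroup.isMulCommutative_of_card_eq_prime_sq hG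

/-- **(⇒)**: self-centralizing non-cyclic subgroups force maximal class -/
theorem class_of_selfcent {G : Type u} [Group G] [Finite G] (hna : ¬ IsMulCommutative G) (n : ℕ)
    (hG : Nat.card G = 2 ^ n)
    (h : ∀ H : Subgroup G, ¬ IsCyclic ↥H → Subgroup.centralizer (H : Set G) ≤ H) :
    Group.nilpotencyClass G = n - 1 := by
  have : Fact (Nat.Prime 2) := ⟨Nat.prime_two⟩
  have hP : IsPGroup 2 G := IsPGroup.of_card hG
  by_cases huniq : Cfsg.Agent.Lib.Helper50_UniqueInv.UniqueInvolution G
  · rcases Cfsg.Agent.Lib.Helper50_UniqueInv2.isCyclic_or_quaternion hP huniq with hc | ⟨k, -, ⟨e⟩⟩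
    · exact absurd IsCyclic.isMulCommutative hna
    · have hcard : Nat.card G = 2 ^ (k + 2) := by
        rw [Nat.card_congr e.toEquiv, Nat.card_eq_fintype_card, QuaternionGroup.card]; ring
      have hn : n = k + 2 := Nat.pow_right_injective (le_refl 2) (hG.symm.trans hcard)
      have hnil : Group.IsNilpotent G := hP.isNilpotent
      have hnilQ : Group.IsNilpotent (QuaternionGroup (2 ^ k)) :=
        (IsPGroup.of_card (p := 2) (n := k + 2) (by
          rw [Nat.card_eq_fintype_card, QuaternionGroup.card]; ring)).isNilpotent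
      have h1 := Group.nilpotencyClass_le_of_surjective e.toMonoidHom e.surjective
      have h2 := Group.nilpotencyClass_le_of_surjective e.symm.toMonoidHom e.symm.surjective
      rw [hn, ← quaternion_class k]
      exact le_antisymm h2 h1
  · unfold Cfsg.Agent.Lib.Helper50_UniqueInv.UniqueInvolution at huniq
    push Not at huniq
    obtain ⟨u, v, hu, hv, hu1, hv1, huv⟩ := huniq
    -- a central involution
    have hnt : Nontrivial G := by
      rw [← Finite.one_lt_card_iff_nontrivial, hG]
      exact Nat.one_lt_two_pow (by have := three_le hna n hG; omega)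
    have hcn : Nontrivial (center G) := hP.center_nontrivial
    have hpd : 2 ∣ Nat.card (center G) := by
      rcases (hP.to_subgroup (center G)).card_eq_or_dvd with h1 | h1
      · exfalso
        have := Finite.one_lt_card_iff_nontrivial.mpr hcn
        omega
      · exact h1
    obtain ⟨z', hz'⟩ := exists_prime_orderOf_dvd_card' (G := center G) 2 hpd
    have hzc : (z' : G) ∈ center G := z'.2
    have hzo : orderOf (z' : G) = 2 := by rw [Subgroup.orderOf_coe, hz']
    have hz1 : (z' : G) ≠ 1 := by
      intro h0
      rw [h0, orderOf_one] at hzo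
      omega
    have hzz : (z' : G) * (z' : G) = 1 := by
      rw [← pow_two, ← hzo]; exact pow_orderOf_eq_one _
    -- an involution different from `z`
    obtain ⟨t, ht, ht1, htz⟩ : ∃ t : G, t * t = 1 ∧ t ≠ 1 ∧ (z' : G) ≠ t := by
      by_cases h0 : (z' : G) = u
      · exact ⟨v, by rw [← pow_two]; exact hv, hv1, fun h1 => huv (h0.symm.trans h1)⟩
      · exact ⟨u, by rw [← pow_two]; exact hu, hu1, h0⟩
    have hzt : (z' : G) * t = t * (z' : G) := (Subgroup.mem_center_iff.mp hzc t).symm
    have hK := Cfsg.Agent.Lib.Helper53_Klein.isKleinFour_four (ha := hzz) (hb := ht) (hab := hzt)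
      hz1 ht1 htz
    have hnc : ¬ IsCyclic ↥(Cfsg.Agent.Lib.Helper53_Klein.four (z' : G) t hzz ht hzt) :=
      IsKleinFour.not_isCyclic
    have hle := h _ hnc
    have hge : Cfsg.Agent.Lib.Helper53_Klein.four (z' : G) t hzz ht hzt ≤
        Subgroup.centralizer
          ((Cfsg.Agent.Lib.Helper53_Klein.four (z' : G) t hzz ht hzt : Subgroup G) : Set G) := by
      intro y hy
      rw [Subgroup.mem_centralizer_iff]
      intro x hx
      have hyz : y * (z' : G) = (z' : G) * y := Subgroup.mem_center_iff.mp hzc y
      have hyt : y * t = t * y := by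
        rcases Cfsg.Agent.Lib.Helper53_Klein.mem_four.mp hy with rfl | rfl | rfl | rfl
        · simp
        · exact hzt
        · rfl
        · rw [mul_assoc, ht, mul_one, ← mul_assoc, ← hzt, mul_assoc, ht, mul_one]
      exact (Cfsg.Agent.Lib.Helper53_Klein.commute_four hyz hyt hx).symm
    exact Cfsg.Agent.S0112.result (p := 2) n hG _ (by rw [hK.card_four]; norm_num)
      (le_antisymm hle hge)

/-- **(⇐)**: in a 2-group of maximal class non-cyclic subgroups are self-centralizing -/
theorem selfcent_of_class {G : Type u} [Group G] [Finite G] (n : ℕ) (hn : 3 ≤ n)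
    (hG : Nat.card G = 2 ^ n) (hc : Group.nilpotencyClass G = n - 1) (H : Subgroup G)
    (hH : ¬ IsCyclic ↥H) : Subgroup.centralizer (H : Set G) ≤ H := by
  have : Fact (Nat.Prime 2) := ⟨Nat.prime_two⟩
  have hP : IsPGroup 2 G := IsPGroup.of_card hG
  obtain ⟨a, b, hoa, hidx, hb, hZle, hbb, hbab⟩ :=
    Cfsg.Agent.Lib.Helper2_TwoMaxClass.maxClass_structure n hn hG hc
  obtain ⟨hZ, -, -⟩ := Cfsg.Agent.Lib.Helper2_MaxClass.maxClass_center hG hn hc
  -- the central involution
  have hcn : Nontrivial (center G) := by
    rw [← Finite.one_lt_card_iff_nontrivial, hZ]; norm_num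
  obtain ⟨z', hz'⟩ := exists_ne (1 : center G)
  have hzc : (z' : G) ∈ center G := z'.2
  have hz1 : (z' : G) ≠ 1 := fun h0 => hz' (Subtype.ext h0)
  have hcen : ∀ c ∈ center G, c = 1 ∨ c = (z' : G) := by
    intro c hc'
    have h1 := Cfsg.Agent.Lib.Helper2_TwoMaxClass.eq_zpowers_of_card_two (center G) hZ (z' : G)
      hzc hz1
    rw [h1] at hc'
    obtain ⟨k, rfl⟩ := mem_zpowers_iff.mp hc'
    have hz2 : (z' : G) ^ (2 : ℤ) = 1 := by
      have := pow_card_eq_one' (G := center G) (x := z')
      rw [hZ] at this
      have h2 := congrArg Subtype.val this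
      simpa using h2
    rcases Int.even_or_odd' k with ⟨j, rfl | rfl⟩
    · left; rw [zpow_mul, hz2, one_zpow]
    · right; rw [zpow_add_one, zpow_mul, hz2, one_zpow, one_mul]
  have hzo : orderOf (z' : G) = 2 := by
    apply orderOf_eq_prime
    · have := pow_card_eq_one' (G := center G) (x := z')
      rw [hZ] at this
      simpa using congrArg Subtype.val this
    · exact hz1
  -- `H` is not inside `⟨a⟩`
  have hHA : ¬ H ≤ zpowers a := fun hle => hH (Subgroup.isCyclic_of_le hle)
  obtain ⟨g, hgH, hgA⟩ := SetLike.not_le_iff_exists.mp hHA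
  -- `z ∈ H`
  have hAcyc : IsCyclic ↥(zpowers a) := inferInstance
  have hzH : (z' : G) ∈ H := by
    by_contra hzH
    have hinf : H ⊓ zpowers a = ⊥ := by
      by_contra hne
      exact hzH (Cfsg.Agent.S4403.mem_of_ne_bot (zpowers a) (hP.to_subgroup _) hAcyc (z' : G)
        (hZle hzc) hzo (H ⊓ zpowers a) inf_le_right hne).1
    apply hH
    have hle : H ≤ zpowers g := by
      intro x hx
      by_cases hxA : x ∈ zpowers a
      · have : x ∈ H ⊓ zpowers a := ⟨hx, hxA⟩
        rw [hinf, mem_bot] at this
        rw [this]; exact one_mem _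
      · have h1 : g⁻¹ * x ∈ zpowers a := by
          rw [mul_mem_iff_of_index_two hidx, inv_mem_iff]
          exact ⟨fun h0 => absurd h0 hgA, fun h0 => absurd h0 hxA⟩
        have : g⁻¹ * x ∈ H ⊓ zpowers a := ⟨H.mul_mem (H.inv_mem hgH) hx, h1⟩
        rw [hinf, mem_bot] at this
        have hxg : x = g := by
          rw [← mul_one g, ← this, mul_inv_cancel_left]
        rw [hxg]; exact mem_zpowers g
    exact Subgroup.isCyclic_of_le hle
  -- the centralizer of `g`
  intro c hcH
  rw [Subgroup.mem_centralizer_iff] at hcH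
  have hcg : Commute c g := (hcH g hgH).symm
  by_cases hcA : c ∈ zpowers a
  · have hca : Commute c a := by
      obtain ⟨k, rfl⟩ := mem_zpowers_iff.mp hcA
      exact (Commute.refl a).zpow_left k
    have := Cfsg.Agent.Lib.Helper2_TwoMaxClass.central_of_commute hidx hgA hca hcg
    rcases hcen c this with rfl | rfl
    · exact one_mem _
    · exact hzH
  · have h1 : c * g⁻¹ ∈ zpowers a := by
      rw [mul_mem_iff_of_index_two hidx, inv_mem_iff]
      exact ⟨fun h0 => absurd h0 hcA, fun h0 => absurd h0 hgA⟩
    have hca : Commute (c * g⁻¹) a := by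
      obtain ⟨k, hk⟩ := mem_zpowers_iff.mp h1
      rw [← hk]
      exact (Commute.refl a).zpow_left k
    have hcg' : Commute (c * g⁻¹) g := hcg.mul_left (Commute.refl g).inv_left
    have := Cfsg.Agent.Lib.Helper2_TwoMaxClass.central_of_commute hidx hgA hca hcg'
    rcases hcen _ this with h2 | h2
    · have : c = g := by rw [← one_mul g, ← h2, inv_mul_cancel_right]
      rw [this]; exact hgH
    · have : c = (z' : G) * g := by rw [← h2, inv_mul_cancel_right]
      rw [this]; exact H.mul_mem hzH hgH

/-- Say that a group has self-centralizing non-cyclic subgroups when every non-cyclic subgroup H satisfies C_G(H) ≤ H. A finite non-abelian 2-group G of order 2^n has self-centralizing non-cyclic subgroups if and only if G has nilpotency class n − 1 (that is, G is dihedral, semidihedral or generalized quaternion). -/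
theorem result {G : Type*} [Group G] [Finite G] (hna : ¬ IsMulCommutative G) (n : ℕ) (hG : Nat.card G = 2 ^ n) :
    (∀ H : Subgroup G, ¬ IsCyclic ↥H → Subgroup.centralizer (H : Set G) ≤ H) ↔ (⊤ : Subgroup G).lowerCentralSeries (n - 2) ≠ ⊥ := by
  have : Fact (Nat.Prime 2) := ⟨Nat.prime_two⟩
  have hn := three_le hna n hG
  have hP : IsPGroup 2 G := IsPGroup.of_card hG
  have hnil : Group.IsNilpotent G := hP.isNilpotent
  have hle := Cfsg.Agent.Lib.Helper2_MaxClass.class_le 2 n G hG (by omega)
  have hiff : (⊤ : Subgroup G).lowerCentralSeries (n - 2) ≠ ⊥ ↔ Group.nilpotencyClass G = n - 1 := by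
    rw [Ne, Subgroup.lowerCentralSeries_eq_bot_iff_nilpotencyClass_le]
    omega
  rw [hiff]
  constructor
  · intro h
    exact class_of_selfcent hna n hG h
  · intro hc H hH
    exact selfcent_of_class n hn hG hc H hH

end Cfsg.Agent.S3919
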