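import Cfsg.Statements.S3941

set_option autoImplicit false
open Cfsg

namespace Cfsg.Agent.S3941

open Equiv Equiv.Perm

/-- Two even permutations of order `p` fixing a common point have a product of `p`-power order,
under the hypothesis that proper subgroups of order divisible by `p` are `p`-closed. -/
theorem core (n p : ℕ) [hp : Fact p.Prime]
    (h : ∀ H : Subgroup ↥(alternatingGroup (Fin n)), H ≠ ⊤ → p ∣ Nat.card ↥H → Cfsg.IsPClosed p ↥H)
    (a b c : Fin n) (hab : a ≠ b) (hac : a ≠ c) (hbc : b ≠ c)
    (x y : Perm (Fin n)) (hx : x ∈ alternatingGroup (Fin n)) (hy : y ∈ alternatingGroup (Fin n))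
    (hxa : x a = a) (hya : y a = a) (hxo : orderOf x = p) (hyo : orderOf y = p) :
    ∃ k, orderOf (x * y) = p ^ k := by
  set H : Subgroup ↥(alternatingGroup (Fin n)) :=
    (MulAction.stabilizer (Perm (Fin n)) a).subgroupOf (alternatingGroup (Fin n)) with hH
  have hmem : ∀ g : ↥(alternatingGroup (Fin n)), g ∈ H ↔ (g : Perm (Fin n)) a = a := by
    intro g
    rw [hH, Subgroup.mem_subgroupOf, MulAction.mem_stabilizer_iff, Perm.smul_def]
  -- H is proper
  have hne : H ≠ ⊤ := by
    intro htop
    have h3 : (swap a b * swap a c).IsThreeCycle := isThreeCycle_swap_mul_swap_same hab hac hbc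
    have hm : (⟨swap a b * swap a c, h3.mem_alternatingGroup⟩ : ↥(alternatingGroup (Fin n))) ∈ H := by
      rw [htop]; trivial
    rw [hmem] at hm
    simp only [Perm.coe_mul, Function.comp_apply, swap_apply_left] at hm
    rw [swap_apply_of_ne_of_ne (Ne.symm hac) (Ne.symm hbc)] at hm
    exact hac hm.symm
  set xH : ↥H := ⟨⟨x, hx⟩, (hmem _).mpr hxa⟩ with hxH
  set yH : ↥H := ⟨⟨y, hy⟩, (hmem _).mpr hya⟩ with hyH
  have hxHo : orderOf xH = p := by
    rw [← Subgroup.orderOf_coe, ← Subgroup.orderOf_coe]; exact hxo
  have hyHo : orderOf yH = p := by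
    rw [← Subgroup.orderOf_coe, ← Subgroup.orderOf_coe]; exact hyo
  have hdiv : p ∣ Nat.card ↥H := by
    rw [← hxHo]; exact orderOf_dvd_natCard xH
  have hcl := h H hne hdiv
  let P : Sylow p ↥H := default
  have hPn : (P : Subgroup ↥H).Normal := hcl P
  have hall : ∀ g : ↥H, orderOf g = p → g ∈ (P : Subgroup ↥H) := by
    intro g hg
    have hpg : IsPGroup p (Subgroup.zpowers g) :=
      IsPGroup.of_card (n := 1) (by rw [Nat.card_zpowers, hg, pow_one])
    obtain ⟨Q, hQ⟩ := hpg.exists_le_sylow
    obtain ⟨k, hk⟩ := MulAction.exists_smul_eq ↥H P Q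
    rw [Sylow.smul_eq_of_normal] at hk
    rw [hk]
    exact hQ (Subgroup.mem_zpowers g)
  have hxy : xH * yH ∈ (P : Subgroup ↥H) :=
    (P : Subgroup ↥H).mul_mem (hall xH hxHo) (hall yH hyHo)
  obtain ⟨k, hk⟩ := (IsPGroup.iff_orderOf.mp P.isPGroup') ⟨xH * yH, hxy⟩
  rw [Subgroup.orderOf_mk] at hk
  refine ⟨k, ?_⟩
  rw [← hk, ← Subgroup.orderOf_coe, ← Subgroup.orderOf_coe]
  rfl

theorem sign_eq_one_of_odd_order {α : Type*} [Fintype α] [DecidableEq α] (x : Perm α)
    (hodd : Odd (orderOf x)) : sign x = 1 := by
  have h1 : sign x ^ orderOf x = 1 := by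
    rw [← map_pow, pow_orderOf_eq_one, map_one]
  rcases Int.units_eq_one_or (sign x) with h | h
  · exact h
  · rw [h, hodd.neg_one_pow] at h1
    exact absurd h1 (by decide)

/-- Let n ≥ 5 and p an odd prime with p ≤ n, and suppose that every proper subgroup of the alternating group of degree n whose order is divisible by p has a normal Sylow p-subgroup. Then n = p. -/
theorem result (n p : ℕ) (hn : 5 ≤ n) [Fact p.Prime] (hp : p ≠ 2) (hpn : p ≤ n)
    (h : ∀ H : Subgroup ↥(alternatingGroup (Fin n)), H ≠ ⊤ → p ∣ Nat.card ↥H → Cfsg.IsPClosed p ↥H) : n = p := by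
  have hpp : p.Prime := Fact.out
  by_contra hnp
  have hlt : p ≤ n - 1 := by omega
  by_cases hp3 : p = 3
  · -- the case p = 3
    subst hp3
    let a : Fin n := ⟨0, by omega⟩
    let b : Fin n := ⟨1, by omega⟩
    let c : Fin n := ⟨2, by omega⟩
    let d : Fin n := ⟨3, by omega⟩
    let e : Fin n := ⟨4, by omega⟩
    have hab : a ≠ b := by simp [a, b, Fin.ext_iff]
    have hac : a ≠ c := by simp [a, c, Fin.ext_iff]
    have had : a ≠ d := by simp [a, d, Fin.ext_iff]
    have hae : a ≠ e := by simp [a, e, Fin.ext_iff]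
    have hbc : b ≠ c := by simp [b, c, Fin.ext_iff]
    have hbd : b ≠ d := by simp [b, d, Fin.ext_iff]
    have hbe : b ≠ e := by simp [b, e, Fin.ext_iff]
    have hcd : c ≠ d := by simp [c, d, Fin.ext_iff]
    have hce : c ≠ e := by simp [c, e, Fin.ext_iff]
    have hde : d ≠ e := by simp [d, e, Fin.ext_iff]
    have hx3 : (swap a b * swap a c).IsThreeCycle := isThreeCycle_swap_mul_swap_same hab hac hbc
    have hy3 : (swap a b * swap a d).IsThreeCycle := isThreeCycle_swap_mul_swap_same hab had hbd
    have hxe : (swap a b * swap a c) e = e := by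
      simp only [Perm.coe_mul, Function.comp_apply]
      rw [swap_apply_of_ne_of_ne (Ne.symm hae) (Ne.symm hce),
        swap_apply_of_ne_of_ne (Ne.symm hae) (Ne.symm hbe)]
    have hye : (swap a b * swap a d) e = e := by
      simp only [Perm.coe_mul, Function.comp_apply]
      rw [swap_apply_of_ne_of_ne (Ne.symm hae) (Ne.symm hde),
        swap_apply_of_ne_of_ne (Ne.symm hae) (Ne.symm hbe)]
    obtain ⟨k, hk⟩ := core n 3 h e a b (Ne.symm hae) (Ne.symm hbe) hab _ _
      hx3.mem_alternatingGroup hy3.mem_alternatingGroup hxe hye hx3.orderOf hy3.orderOf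
    -- compute the product
    have hprod : swap a b * swap a c * (swap a b * swap a d) = swap b c * swap a d := by
      have h1 : swap a b * swap a c * swap a b = swap b c := by
        have := swap_mul_swap_mul_swap (x := c) (y := a) (z := b) (Ne.symm hac) (Ne.symm hbc)
        rw [swap_comm c a] at this
        exact this
      calc swap a b * swap a c * (swap a b * swap a d)
          = (swap a b * swap a c * swap a b) * swap a d := by group
        _ = swap b c * swap a d := by rw [h1]
    rw [hprod] at hk
    have hdisj : (swap b c).Disjoint (swap a d) :=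
      disjoint_swap_swap (by simp [hbc, Ne.symm hab, hbd, Ne.symm hac, hcd, had])
    have hsq : (swap b c * swap a d) ^ 2 = 1 := by
      rw [hdisj.commute.mul_pow, sq, sq, swap_mul_self, swap_mul_self, mul_one]
    have hne1 : swap b c * swap a d ≠ 1 := by
      intro h1
      have := congrArg (fun f : Perm (Fin n) => f a) h1
      simp only [Perm.coe_mul, Function.comp_apply, swap_apply_left, Perm.coe_one, id_eq] at this
      rw [swap_apply_of_ne_of_ne (Ne.symm hbd) (Ne.symm hcd)] at this
      exact had this.symm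
    have h2 : orderOf (swap b c * swap a d) = 2 := orderOf_eq_prime hsq hne1
    rw [h2] at hk
    rcases k with _ | k
    · simp at hk
    · have : (3 : ℕ) ∣ 2 := by rw [hk]; exact dvd_pow_self 3 (Nat.succ_ne_zero k)
      omega
  · -- the case p ≥ 5
    let a : Fin n := ⟨n - 1, by omega⟩
    let b : Fin n := ⟨0, by omega⟩
    let c : Fin n := ⟨1, by omega⟩
    have hab : a ≠ b := by simp [a, b, Fin.ext_iff]; omega
    have hac : a ≠ c := by simp [a, c, Fin.ext_iff]; omega
    have hbc : b ≠ c := by simp [b, c, Fin.ext_iff]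
    -- an element of order p in the permutations of the complement of a
    have hcard : Fintype.card {i : Fin n // i ≠ a} = n - 1 := by
      rw [Fintype.card_subtype_compl, Fintype.card_fin, Fintype.card_subtype_eq]
    have hdvd : p ∣ Nat.card (Perm {i : Fin n // i ≠ a}) := by
      rw [Nat.card_eq_fintype_card, Fintype.card_perm, hcard]
      exact (hpp.dvd_factorial).mpr hlt
    obtain ⟨x', hx'⟩ := exists_prime_orderOf_dvd_card' p hdvd
    set x : Perm (Fin n) := ofSubtype x' with hxdef
    have hxo : orderOf x = p := by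
      rw [hxdef, orderOf_injective _ ofSubtype_injective, hx']
    have hxa : x a = a := ofSubtype_apply_of_not_mem x' (by simp)
    have hpodd : Odd p := hpp.odd_of_ne_two hp
    have hxs : sign x = 1 := sign_eq_one_of_odd_order x (by rw [hxo]; exact hpodd)
    have hx1 : x ≠ 1 := by
      intro h1
      rw [h1, orderOf_one] at hxo
      exact hpp.one_lt.ne hxo
    obtain ⟨s, hs⟩ : ∃ s, x s ≠ s := by
      by_contra hc
      push Not at hc
      exact hx1 (Equiv.ext hc)
    set t := x s with ht
    have hts : t ≠ s := hs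
    have hxt : x t ≠ t := fun h' => hs (x.injective h')
    have hxts : x t ≠ s := by
      intro h'
      have h2 : (x ^ 2) s = s := by
        rw [sq, Perm.mul_apply]; exact h'
      obtain ⟨m, hm⟩ := hpodd
      have h3 := pow_apply_eq_self_of_apply_eq_self h2 (m + 1)
      rw [← pow_mul] at h3
      have h4 : x ^ (2 * (m + 1)) = x := by
        have : 2 * (m + 1) = p + 1 := by omega
        rw [this, pow_succ, ← hxo, pow_orderOf_eq_one, one_mul]
      rw [h4] at h3
      exact hs h3
    have has : a ≠ s := by
      intro h'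
      apply hs
      show x s = s
      rw [← h']; exact hxa
    have hat : a ≠ t := by
      intro h'; rw [← h'] at hxt; exact hxt hxa
    set σ : Perm (Fin n) := swap s t with hσ
    set y : Perm (Fin n) := σ * x⁻¹ * σ⁻¹ with hy
    have hσa : σ a = a := swap_apply_of_ne_of_ne has hat
    have hσinv : σ⁻¹ = σ := swap_inv s t
    have hya : y a = a := by
      rw [hy, hσinv]
      simp only [Perm.coe_mul, Function.comp_apply]
      rw [hσa, Perm.inv_eq_iff_eq.mpr hxa.symm, hσa]
    have hyo : orderOf y = p := by
      have : y = MulAut.conj σ x⁻¹ := by rw [MulAut.conj_apply]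
      rw [this, MulEquiv.orderOf_eq, orderOf_inv, hxo]
    have hys : sign y = 1 := by
      rw [hy, map_mul, map_mul, map_inv, map_inv, hxs]
      simp
    have hxy : x * y = swap t (x t) * swap t s := by
      rw [hy, hσinv, hσ]
      have h1 : x * swap s t = swap (x s) (x t) * x := mul_swap_eq_swap_mul x s t
      calc x * (swap s t * x⁻¹ * swap s t) = (x * swap s t) * x⁻¹ * swap s t := by group
        _ = swap (x s) (x t) * x * x⁻¹ * swap s t := by rw [h1]
        _ = swap t (x t) * swap t s := by
          rw [mul_inv_cancel_right, swap_comm s t]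
    have h3c : (x * y).IsThreeCycle := by
      rw [hxy]
      exact isThreeCycle_swap_mul_swap_same (Ne.symm hxt) hts hxts
    obtain ⟨k, hk⟩ := core n p h a b c hab hac hbc x y
      (mem_alternatingGroup.mpr hxs) (mem_alternatingGroup.mpr hys) hxa hya hxo hyo
    rw [h3c.orderOf] at hk
    rcases k with _ | k
    · simp at hk
    · have h3 : p ∣ 3 := by rw [hk]; exact dvd_pow_self p (Nat.succ_ne_zero k)
      have := (Nat.prime_dvd_prime_iff_eq hpp Nat.prime_three).mp h3
      exact hp3 this

end Cfsg.Agent.S3941
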