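import Mathlib
import Cfsg.Statements.S3946
import Cfsg.Agent.S0108
import Cfsg.Agent.S0072
import Cfsg.Agent.Lib.Helper34_NPC
import Cfsg.Agent.Lib.Helper35_FrobeniusNPC

set_option autoImplicit false
open Cfsg

namespace Cfsg.Agent.S3946

open Cfsg.Agent.Lib.Helper35_FrobeniusNPC

/-- in a finite nilpotent group, elements of coprime orders commute -/
theorem commute_of_coprime_orderOf (G : Type*) [Group G] [Group.IsNilpotent G] :
    Finite G → ∀ x y : G, (orderOf x).Coprime (orderOf y) → Commute x y := by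
  refine Group.nilpotent_center_quotient_ind
    (P := fun G _ _ => Finite G → ∀ x y : G, (orderOf x).Coprime (orderOf y) → Commute x y) G ?_ ?_
  · intro G _ _ _ x y _
    exact Subsingleton.elim _ _
  · intro G _ _ ih hfin x y hxy
    have hq : Finite (G ⧸ Subgroup.center G) := inferInstance
    have h1 : (orderOf (x : G ⧸ Subgroup.center G)).Coprime (orderOf (y : G ⧸ Subgroup.center G)) := by
      have hx : orderOf (x : G ⧸ Subgroup.center G) ∣ orderOf x :=
        orderOf_map_dvd (QuotientGroup.mk' (Subgroup.center G)) x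
      have hy : orderOf (y : G ⧸ Subgroup.center G) ∣ orderOf y :=
        orderOf_map_dvd (QuotientGroup.mk' (Subgroup.center G)) y
      exact Nat.Coprime.of_dvd hx hy hxy
    have h2 := ih hq (x : G ⧸ Subgroup.center G) (y : G ⧸ Subgroup.center G) h1
    -- z = x y x⁻¹ y⁻¹ is central
    have hz : x * y * x⁻¹ * y⁻¹ ∈ Subgroup.center G := by
      rw [← QuotientGroup.eq_one_iff]
      have h3 : ((x : G ⧸ Subgroup.center G)) * (y : G ⧸ Subgroup.center G) =
          (y : G ⧸ Subgroup.center G) * (x : G ⧸ Subgroup.center G) := h2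
      simp only [QuotientGroup.mk_mul, QuotientGroup.mk_inv]
      rw [h3]
      group
    set z := x * y * x⁻¹ * y⁻¹ with hzdef
    have hzc : ∀ g : G, g * z = z * g := fun g => (Subgroup.mem_center_iff.mp hz g)
    -- x y x⁻¹ = z y
    have e1 : x * y * x⁻¹ = z * y := by rw [hzdef]; group
    have e1n : ∀ n : ℕ, (x * y * x⁻¹) ^ n = z ^ n * y ^ n := by
      intro n
      rw [e1]
      exact (Commute.mul_pow (hzc y).symm n)
    have hzy : z ^ orderOf y = 1 := by
      have := e1n (orderOf y)
      rw [pow_orderOf_eq_one, mul_one] at this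
      rw [← this]
      have : (x * y * x⁻¹) ^ orderOf y = x * y ^ orderOf y * x⁻¹ := by
        rw [← conj_pow]
      rw [this, pow_orderOf_eq_one]; group
    -- y x⁻¹ y⁻¹ = x⁻¹ z
    have e2 : y * x⁻¹ * y⁻¹ = x⁻¹ * z := by rw [hzdef]; group
    have e2n : ∀ n : ℕ, (y * x⁻¹ * y⁻¹) ^ n = (x⁻¹) ^ n * z ^ n := by
      intro n
      rw [e2]
      exact (Commute.mul_pow (hzc x⁻¹) n)
    have hzx : z ^ orderOf x = 1 := by
      have := e2n (orderOf x)
      rw [inv_pow, pow_orderOf_eq_one, inv_one, one_mul] at this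
      rw [← this]
      have : (y * x⁻¹ * y⁻¹) ^ orderOf x = y * (x⁻¹) ^ orderOf x * y⁻¹ := by
        rw [← conj_pow]
      rw [this, inv_pow, pow_orderOf_eq_one]; group
    have hz1 : z = 1 := by
      have h5 : orderOf z ∣ Nat.gcd (orderOf x) (orderOf y) :=
        Nat.dvd_gcd (orderOf_dvd_of_pow_eq_one hzx) (orderOf_dvd_of_pow_eq_one hzy)
      rw [hxy, Nat.dvd_one, orderOf_eq_one_iff] at h5
      exact h5
    show x * y = y * x
    have : x * y = z * (y * x) := by rw [hzdef]; group
    rw [this, hz1, one_mul]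

/-- a finite nilpotent group has a normal `p`-complement -/
theorem hasNPC_of_isNilpotent {G : Type*} [Group G] [Finite G] [Group.IsNilpotent G] (p : ℕ)
    [Fact p.Prime] : HasNPC p G := by
  apply hasNPC_of_frobHyp
  intro Q hQ g _ hg
  rw [Subgroup.mem_centralizer_iff]
  intro x hx
  obtain ⟨k, hk⟩ := hQ ⟨x, hx⟩
  have hk' : x ^ (p ^ k) = 1 := by
    have := congrArg Subtype.val hk
    simpa using this
  have hox : orderOf x ∣ p ^ k := orderOf_dvd_of_pow_eq_one hk'
  have hcop : (orderOf x).Coprime (orderOf g) :=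
    Nat.Coprime.coprime_dvd_left hox (Nat.Coprime.pow_left k hg.symm)
  exact (commute_of_coprime_orderOf G inferInstance x g hcop)

theorem isNilpotent_of_injective {A B : Type*} [Group A] [Group B] (f : A →* B)
    (hf : Function.Injective f) [Group.IsNilpotent B] : Group.IsNilpotent A :=
  (Group.isNilpotent_congr (MonoidHom.ofInjective hf)).mpr inferInstance

theorem isNilpotent_of_le {E : Type*} [Group E] {A B : Subgroup E} (h : A ≤ B)
    [Group.IsNilpotent B] : Group.IsNilpotent A :=
  isNilpotent_of_injective (Subgroup.inclusion h) (Subgroup.inclusion_injective h)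

open Finset
open scoped IsMulCommutative

section key

variable {E : Type*} [Group E]

/-- `(v b)^n = (∏_{i<n} b^i v b^{-i}) b^n`, with the product taken in a commutative normal subgroup -/
theorem pow_mul_eq_prod (N : Subgroup E) [N.Normal] [IsMulCommutative N]
    (b : E) (v : N) (n : ℕ) :
    ((v : E) * b) ^ n = ((∏ i ∈ range n, (MulAut.conjNormal (b ^ i) : MulAut N) v : N) : E) * b ^ n := by
  induction n with
  | zero => simp
  | succ n ih =>
    rw [pow_succ, ih, prod_range_succ, Subgroup.coe_mul, MulAut.conjNormal_apply, pow_succ]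
    group

/-- if `b^p = 1` and `(v b)^p = 1` then the norm of `v` under `b` is trivial -/
theorem prod_conj_eq_one (N : Subgroup E) [N.Normal] [IsMulCommutative N]
    (b : E) (p : ℕ) (hb : b ^ p = 1) (v : N) (hv : ((v : E) * b) ^ p = 1) :
    ∏ i ∈ range p, (MulAut.conjNormal (b ^ i) : MulAut N) v = 1 := by
  have h := pow_mul_eq_prod N b v p
  rw [hv, hb, mul_one] at h
  exact Subtype.ext h.symm

theorem eq_of_pow_eq_of_coprime {b b' : E} {p i : ℕ} (hp1 : 1 < p) (hb : b ^ p = 1) (hb' : b' ^ p = 1)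
    (hi : Nat.Coprime i p) (h : b ^ i = b' ^ i) : b = b' := by
  obtain ⟨m, -, hm⟩ := Nat.exists_mul_mod_eq_one_of_coprime hi hp1
  have h1 : b = (b ^ i) ^ m := by
    rw [← pow_mul, pow_eq_pow_mod (i * m) hb, hm, pow_one]
  have h2 : b' = (b' ^ i) ^ m := by
    rw [← pow_mul, pow_eq_pow_mod (i * m) hb', hm, pow_one]
  rw [h1, h2, h]

/-- **Averaging lemma.** If every element of the coset `N Q a` has `p`-th power `1`, `N` is an
abelian normal subgroup, `a` normalizes `Q` and `|Q|` is prime to `|N|`, then `Q` centralizes `N`. -/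
theorem key_lemma [Finite E] (N : Subgroup E) [N.Normal] [IsMulCommutative N] (Q : Subgroup E) (a : E)
    (ha : a ∈ Subgroup.normalizer (Q : Set E)) (p : ℕ) (hp : p.Prime)
    (hyp : ∀ v ∈ N, ∀ x ∈ Q, (v * x * a) ^ p = 1)
    (hcop : (Nat.card Q).Coprime (Nat.card N)) :
    ∀ x ∈ Q, ∀ v ∈ N, x * v = v * x := by
  classical
  have : Fintype Q := Fintype.ofFinite Q
  set φ : E →* MulAut N := MulAut.conjNormal with hφ
  have hb : ∀ x : Q, ((x : E) * a) ^ p = 1 := by
    intro x
    have := hyp 1 N.one_mem x x.2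
    simpa using this
  have hvb : ∀ x : Q, ∀ v : N, ((v : E) * ((x : E) * a)) ^ p = 1 := by
    intro x v
    have := hyp v v.2 x x.2
    rwa [mul_assoc] at this
  have h1 : ∀ x : Q, ∀ v : N, ∏ i ∈ range p, φ (((x : E) * a) ^ i) v = 1 := fun x v =>
    prod_conj_eq_one N _ p (hb x) v (hvb x v)
  have hai : ∀ i : ℕ, a ^ i ∈ Subgroup.normalizer (Q : Set E) := fun i => Subgroup.pow_mem _ ha i
  have hmemQ : ∀ x : Q, ∀ i : ℕ, ((x : E) * a) ^ i * (a ^ i)⁻¹ ∈ Q := by
    intro x i
    induction i with
    | zero => simp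
    | succ i ih =>
      have h2 : a ^ i * (x : E) * (a ^ i)⁻¹ ∈ Q := (Subgroup.mem_normalizer_iff.mp (hai i) x).mp x.2
      have h3 : ((x : E) * a) ^ (i + 1) * (a ^ (i + 1))⁻¹ =
          (((x : E) * a) ^ i * (a ^ i)⁻¹) * (a ^ i * (x : E) * (a ^ i)⁻¹) := by
        rw [pow_succ, pow_succ]; group
      rw [h3]
      exact Q.mul_mem ih h2
  let e : ℕ → Q → Q := fun i x => ⟨((x : E) * a) ^ i * (a ^ i)⁻¹, hmemQ x i⟩
  have he : ∀ i x, ((e i x : Q) : E) * a ^ i = ((x : E) * a) ^ i := by
    intro i x
    show ((x : E) * a) ^ i * (a ^ i)⁻¹ * a ^ i = _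
    group
  have hinj : ∀ i, 0 < i → i < p → Function.Injective (e i) := by
    intro i hi0 hip x x' hxx
    have h2 : ((x : E) * a) ^ i = ((x' : E) * a) ^ i := by
      rw [← he i x, ← he i x', hxx]
    have hcop' : Nat.Coprime i p := by
      rw [Nat.coprime_comm]
      exact (Nat.Prime.coprime_iff_not_dvd hp).mpr (Nat.not_dvd_of_pos_of_lt hi0 hip)
    have h3 := eq_of_pow_eq_of_coprime hp.one_lt (hb x) (hb x') hcop' h2
    exact Subtype.ext (mul_right_cancel h3)
  let τ : N → N := fun w => ∏ y : Q, φ (y : E) w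
  have hτfix : ∀ x : Q, ∀ w : N, φ (x : E) (τ w) = τ w := by
    intro x w
    show φ (x : E) (∏ y : Q, φ (y : E) w) = ∏ y : Q, φ (y : E) w
    rw [map_prod]
    refine Fintype.prod_equiv (Equiv.mulLeft x) _ _ ?_
    intro y
    show φ (x : E) (φ (y : E) w) = φ ((x * y : Q) : E) w
    rw [Subgroup.coe_mul, map_mul, MulAut.mul_apply]
  have hF : ∀ i, 0 < i → i < p → ∀ v : N, ∏ x : Q, φ (((x : E) * a) ^ i) v = τ (φ (a ^ i) v) := by
    intro i hi0 hip v
    have hbij : Function.Bijective (e i) := Finite.injective_iff_bijective.mp (hinj i hi0 hip)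
    show _ = ∏ y : Q, φ (y : E) (φ (a ^ i) v)
    refine Fintype.prod_bijective (e i) hbij _ _ ?_
    intro x
    rw [← he i x, map_mul, MulAut.mul_apply]
  intro x hx v hv
  -- the double product
  have hdouble : ∏ i ∈ range p, ∏ y : Q, φ (((y : E) * a) ^ i) ⟨v, hv⟩ = 1 := by
    rw [Finset.prod_comm]
    exact Finset.prod_eq_one (fun y _ => h1 y ⟨v, hv⟩)
  obtain ⟨p', rfl⟩ : ∃ p', p = p' + 1 := ⟨p - 1, by have := hp.pos; omega⟩
  rw [prod_range_succ'] at hdouble
  have h0 : ∏ y : Q, φ (((y : E) * a) ^ 0) ⟨v, hv⟩ = (⟨v, hv⟩ : N) ^ Fintype.card Q := by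
    simp [Finset.prod_const, Finset.card_univ]
  have hrest : ∏ i ∈ range p', ∏ y : Q, φ (((y : E) * a) ^ (i + 1)) ⟨v, hv⟩ =
      ∏ i ∈ range p', τ (φ (a ^ (i + 1)) ⟨v, hv⟩) := by
    refine Finset.prod_congr rfl ?_
    intro i hi
    rw [Finset.mem_range] at hi
    exact hF (i + 1) (Nat.succ_pos i) (by omega) _
  rw [h0, hrest] at hdouble
  set T : N := ∏ i ∈ range p', τ (φ (a ^ (i + 1)) ⟨v, hv⟩) with hT
  have hTfix : φ x T = T := by
    rw [hT, map_prod]
    exact Finset.prod_congr rfl (fun i _ => hτfix ⟨x, hx⟩ _)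
  have hvpow : (⟨v, hv⟩ : N) ^ Fintype.card Q = T⁻¹ := eq_inv_of_mul_eq_one_right hdouble
  have hvfix : φ x ((⟨v, hv⟩ : N) ^ Fintype.card Q) = (⟨v, hv⟩ : N) ^ Fintype.card Q := by
    rw [hvpow, map_inv, hTfix]
  set u : N := φ x ⟨v, hv⟩ * (⟨v, hv⟩ : N)⁻¹ with hu
  have hupow : u ^ Fintype.card Q = 1 := by
    rw [hu, mul_pow, inv_pow, ← map_pow, hvfix, mul_inv_cancel]
  have hu1 : u = 1 := by
    have h5 : orderOf u ∣ Nat.gcd (Nat.card Q) (Nat.card N) := by
      apply Nat.dvd_gcd
      · rw [Nat.card_eq_fintype_card]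
        exact orderOf_dvd_of_pow_eq_one hupow
      · exact orderOf_dvd_natCard u
    rw [hcop, Nat.dvd_one, orderOf_eq_one_iff] at h5
    exact h5
  have h6 : φ x ⟨v, hv⟩ = ⟨v, hv⟩ := by
    rw [hu, mul_inv_eq_one] at hu1
    exact hu1
  have h7 := congrArg Subtype.val h6
  rw [hφ, MulAut.conjNormal_apply] at h7
  simp only at h7
  -- h7 : x * v * x⁻¹ = v
  calc x * v = x * v * x⁻¹ * x := by group
    _ = v * x := by rw [h7]

end key

universe u

/-- the induction statement at a given order -/
def KegelAt (m : ℕ) : Prop :=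
  ∀ (E' : Type u) [Group E'] [Finite E'], Nat.card E' = m → ∀ (G' : Subgroup E') [G'.Normal] (p : ℕ),
    p.Prime → G'.index = p → (∀ x : E', x ∉ G' → x ^ p = 1) → Group.IsNilpotent G'

section setup

variable {E : Type u} [Group E] [Finite E] (G : Subgroup E) [G.Normal] (p : ℕ)

theorem ih_sub (IH : ∀ m < Nat.card E, KegelAt.{u} m) (hp : p.Prime) (hidx : G.index = p)
    (hout : ∀ x : E, x ∉ G → x ^ p = 1) (H : Subgroup E) (hH : H ≠ ⊤) (hHG : ¬ H ≤ G) :
    Group.IsNilpotent ↥(H ⊓ G) := by
  have hlt : Nat.card H < Nat.card E := by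
    have h1 : Nat.card H ≤ Nat.card E := Subgroup.card_le_card_group H
    have h2 : Nat.card H ≠ Nat.card E := fun h => hH ((Subgroup.card_eq_iff_eq_top H).mp h)
    omega
  have hnorm : (G.subgroupOf H).Normal := Subgroup.normal_subgroupOf
  have hidx' : (G.subgroupOf H).index = p := by
    show G.relIndex H = p
    have h1 : G.relIndex H ∣ G.index := Subgroup.relIndex_dvd_index_of_normal G H
    rw [hidx] at h1
    rcases (Nat.dvd_prime hp).mp h1 with h | h
    · exact absurd (Subgroup.relIndex_eq_one.mp h) hHG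
    · exact h
  have hout' : ∀ x : H, x ∉ G.subgroupOf H → x ^ p = 1 := by
    intro x hx
    have : (x : E) ∉ G := fun h => hx (Subgroup.mem_subgroupOf.mpr h)
    exact Subtype.ext (by simpa using hout x this)
  have hnil : Group.IsNilpotent ↥(G.subgroupOf H) :=
    IH (Nat.card H) hlt H rfl (G.subgroupOf H) p hp hidx' hout'
  have e : ↥(G.subgroupOf H) ≃* ↥(H ⊓ G) := by
    have h1 : G.subgroupOf H = (H ⊓ G).subgroupOf H := by
      rw [Subgroup.inf_subgroupOf_left]
    rw [h1]
    exact Subgroup.subgroupOfEquivOfLe inf_le_left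
  exact (Group.isNilpotent_congr e).mp hnil

theorem ih_quot (IH : ∀ m < Nat.card E, KegelAt.{u} m) (hp : p.Prime) (hidx : G.index = p)
    (hout : ∀ x : E, x ∉ G → x ^ p = 1) (N : Subgroup E) [N.Normal] (hNG : N ≤ G) (hN : N ≠ ⊥) :
    Group.IsNilpotent ↥(G.map (QuotientGroup.mk' N)) := by
  have hlt : Nat.card (E ⧸ N) < Nat.card E := by
    have h1 := Subgroup.card_eq_card_quotient_mul_card_subgroup N
    have h2 : 1 < Nat.card N := by
      rw [Subgroup.one_lt_card_iff_ne_bot]; exact hN
    have h3 : 0 < Nat.card (E ⧸ N) := Nat.card_pos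
    nlinarith
  have hsurj : Function.Surjective (QuotientGroup.mk' N) := QuotientGroup.mk'_surjective N
  have hnorm : (G.map (QuotientGroup.mk' N)).Normal := Subgroup.Normal.map inferInstance _ hsurj
  have hidx' : (G.map (QuotientGroup.mk' N)).index = p := by
    rw [Subgroup.index_map_eq G hsurj (by rw [QuotientGroup.ker_mk']; exact hNG), hidx]
  have hout' : ∀ x : E ⧸ N, x ∉ G.map (QuotientGroup.mk' N) → x ^ p = 1 := by
    intro x hx
    obtain ⟨y, rfl⟩ := hsurj x
    have : y ∉ G := fun h => hx (Subgroup.mem_map_of_mem _ h)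
    rw [← map_pow, hout y this, map_one]
  exact IH (Nat.card (E ⧸ N)) hlt (E ⧸ N) rfl (G.map (QuotientGroup.mk' N)) p hp hidx' hout'

theorem exists_normalizer_not_mem (hp : p.Prime) (hidx : G.index = p) (q : ℕ) [Fact q.Prime]
    (Q : Sylow q G) :
    ∃ a : E, a ∉ G ∧ a ∈ Subgroup.normalizer (((Q : Subgroup G).map G.subtype : Subgroup E) : Set E) := by
  by_contra hcon
  push Not at hcon
  have h1 : Subgroup.normalizer (((Q : Subgroup G).map G.subtype : Subgroup E) : Set E) ≤ G := by
    intro a ha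
    by_contra haG
    exact hcon a haG ha
  have h2 := Sylow.normalizer_sup_eq_top Q
  rw [sup_eq_right.mpr h1] at h2
  rw [h2, Subgroup.index_top] at hidx
  exact hp.one_lt.ne hidx

theorem sylow_centralizes (hp : p.Prime) (hidx : G.index = p) (hout : ∀ x : E, x ∉ G → x ^ p = 1)
    (N : Subgroup E) [N.Normal] [IsMulCommutative N] (hNG : N ≤ G) (q : ℕ) [Fact q.Prime]
    (hq : ¬ q ∣ Nat.card N) (Q : Sylow q G) :
    ∀ x ∈ ((Q : Subgroup G).map G.subtype : Subgroup E), ∀ v ∈ N, x * v = v * x := by
  obtain ⟨a, haG, haN⟩ := exists_normalizer_not_mem G p hp hidx q Q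
  have hQG : ((Q : Subgroup G).map G.subtype : Subgroup E) ≤ G := by
    rintro _ ⟨y, _, rfl⟩
    exact y.2
  refine key_lemma N _ a haN p hp ?_ ?_
  · intro v hv x hx
    apply hout
    intro h
    apply haG
    have h1 : v * x ∈ G := G.mul_mem (hNG hv) (hQG hx)
    have h2 : a = (v * x)⁻¹ * (v * x * a) := by group
    rw [h2]
    exact G.mul_mem (G.inv_mem h1) h
  · have h1 : Nat.card ((Q : Subgroup G).map G.subtype : Subgroup E) = Nat.card (Q : Subgroup G) :=
      Subgroup.card_map_of_injective G.subtype_injective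
    obtain ⟨k, hk⟩ := (IsPGroup.iff_card.mp Q.2)
    rw [h1, hk]
    apply Nat.Coprime.pow_left
    exact (Nat.Prime.coprime_iff_not_dvd Fact.out).mpr hq

/-- the elements of order dividing `r` in a commutative subgroup -/
def omegaSub (N : Subgroup E) (hNc : ∀ x ∈ N, ∀ y ∈ N, x * y = y * x) (r : ℕ) : Subgroup E where
  carrier := {v | v ∈ N ∧ v ^ r = 1}
  mul_mem' := by
    rintro a b ⟨ha, ha'⟩ ⟨hb, hb'⟩
    refine ⟨N.mul_mem ha hb, ?_⟩
    rw [(show Commute a b from hNc a ha b hb).mul_pow, ha', hb', one_mul]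
  one_mem' := ⟨N.one_mem, one_pow r⟩
  inv_mem' := by
    rintro a ⟨ha, ha'⟩
    exact ⟨N.inv_mem ha, by rw [inv_pow, ha', inv_one]⟩

omit [Finite E] in
theorem mem_omegaSub {N : Subgroup E} {hNc : ∀ x ∈ N, ∀ y ∈ N, x * y = y * x} {r : ℕ} {v : E} :
    v ∈ omegaSub N hNc r ↔ v ∈ N ∧ v ^ r = 1 := Iff.rfl

instance omegaSub_normal (N : Subgroup E) [N.Normal] (hNc : ∀ x ∈ N, ∀ y ∈ N, x * y = y * x) (r : ℕ) :
    (omegaSub N hNc r).Normal := by
  constructor
  rintro v ⟨hv, hv'⟩ g
  refine ⟨Subgroup.Normal.conj_mem inferInstance v hv g, ?_⟩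
  rw [conj_pow, hv', mul_one, mul_inv_cancel]

theorem nilpotent_of_abelian_normal (IH : ∀ m < Nat.card E, KegelAt.{u} m) (hp : p.Prime)
    (hidx : G.index = p) (hout : ∀ x : E, x ∉ G → x ^ p = 1)
    (N : Subgroup E) [N.Normal] (hNc : ∀ x ∈ N, ∀ y ∈ N, x * y = y * x) (hNG : N ≤ G) (hN : N ≠ ⊥) :
    Group.IsNilpotent G := by
  classical
  -- a prime `r` dividing `|N|`
  have hN1 : Nat.card N ≠ 1 := by
    intro h
    exact hN ((Subgroup.card_eq_one).mp h)
  obtain ⟨r, hr, hrN⟩ := Nat.exists_prime_and_dvd hN1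
  have : Fact r.Prime := ⟨hr⟩
  set V := omegaSub N hNc r with hV
  have hVN : V ≤ N := fun v hv => hv.1
  have hVG : V ≤ G := hVN.trans hNG
  have : IsMulCommutative V := ⟨⟨fun a b => Subtype.ext (hNc a a.2.1 b b.2.1)⟩⟩
  -- `V ≠ ⊥`
  obtain ⟨x, hx⟩ := exists_prime_orderOf_dvd_card' (G := N) r hrN
  have hxV : (x : E) ∈ V := by
    refine ⟨x.2, ?_⟩
    have := pow_orderOf_eq_one x
    rw [hx] at this
    simpa using congrArg Subtype.val this
  have hx1 : (x : E) ≠ 1 := by
    intro h
    have : x = 1 := Subtype.ext h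
    rw [this, orderOf_one] at hx
    exact hr.one_lt.ne hx
  have hVp : IsPGroup r V := by
    intro v
    refine ⟨1, ?_⟩
    rw [pow_one]
    exact Subtype.ext (by simpa using v.2.2)
  obtain ⟨m, hm⟩ := IsPGroup.iff_card.mp hVp
  have hm0 : m ≠ 0 := by
    rintro rfl
    rw [pow_zero] at hm
    have h1 : V = ⊥ := Subgroup.card_eq_one.mp hm
    rw [h1, Subgroup.mem_bot] at hxV
    exact hx1 hxV
  have hrV : r ∣ Nat.card V := by rw [hm]; exact dvd_pow_self r hm0
  -- a fixed point of a Sylow `r`-subgroup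
  obtain ⟨R⟩ : Nonempty (Sylow r G) := inferInstance
  let ψ : ↥(R : Subgroup G) →* MulAut V :=
    (MulAut.conjNormal (H := V)).comp (G.subtype.comp (R : Subgroup G).subtype)
  let : MulAction ↥(R : Subgroup G) V := MulAction.compHom V ψ
  have h1fix : (1 : V) ∈ MulAction.fixedPoints ↥(R : Subgroup G) V := by
    intro g
    show ψ g 1 = 1
    exact map_one _
  obtain ⟨b, hbfix, hb1⟩ :=
    IsPGroup.exists_fixed_point_of_prime_dvd_card_of_fixed_point R.2 V hrV h1fix
  set v : E := (b : E) with hv
  have hvV : v ∈ V := b.2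
  have hv1 : v ≠ 1 := by
    intro h
    apply hb1
    exact (Subtype.ext h).symm
  have hRv : ∀ g : G, g ∈ (R : Subgroup G) → (g : E) * v = v * (g : E) := by
    intro g hg
    have h2 : ψ ⟨g, hg⟩ b = b := hbfix ⟨g, hg⟩
    have h3 := congrArg Subtype.val h2
    have h4 : (g : E) * v * (g : E)⁻¹ = v := h3
    calc (g : E) * v = (g : E) * v * (g : E)⁻¹ * (g : E) := by group
      _ = v * (g : E) := by rw [h4]
  -- the centralizer of `v` in `G` is everything
  set H : Subgroup G := (Subgroup.centralizer ({v} : Set E)).subgroupOf G with hH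
  have hHmem : ∀ g : G, g ∈ H ↔ (g : E) * v = v * (g : E) := by
    intro g
    rw [hH, Subgroup.mem_subgroupOf, Subgroup.mem_centralizer_iff]
    constructor
    · intro h; exact (h v rfl).symm
    · intro h w hw
      rw [Set.mem_singleton_iff] at hw
      rw [hw]; exact h.symm
  have hHtop : H = ⊤ := by
    rw [← Subgroup.index_eq_one, Nat.eq_one_iff_not_exists_prime_dvd]
    intro q hq hqH
    have : Fact q.Prime := ⟨hq⟩
    by_cases hqr : q = r
    · subst hqr
      have hRH : (R : Subgroup G) ≤ H := fun g hg => (hHmem g).mpr (hRv g hg)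
      exact Sylow.not_dvd_index R (hqH.trans (Subgroup.index_dvd_of_le hRH))
    · obtain ⟨Q⟩ : Nonempty (Sylow q G) := inferInstance
      have hqV : ¬ q ∣ Nat.card V := by
        rw [hm]
        intro h
        exact hqr ((Nat.prime_dvd_prime_iff_eq hq hr).mp (hq.dvd_of_dvd_pow h))
      have hcent := sylow_centralizes G p hp hidx hout V hVG q hqV Q
      have hQH : (Q : Subgroup G) ≤ H := by
        intro g hg
        rw [hHmem]
        exact hcent (g : E) ⟨g, hg, rfl⟩ v hvV
      exact Sylow.not_dvd_index Q (hqH.trans (Subgroup.index_dvd_of_le hQH))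
  have hGv : ∀ g ∈ G, g * v = v * g := by
    intro g hg
    have : (⟨g, hg⟩ : G) ∈ H := by rw [hHtop]; exact Subgroup.mem_top _
    exact (hHmem _).mp this
  -- the central normal subgroup
  set Z1 : Subgroup E := V ⊓ Subgroup.centralizer (G : Set E) with hZ1
  have : (Subgroup.centralizer (G : Set E)).Normal := Subgroup.normal_centralizer
  have : Z1.Normal := Subgroup.normal_inf_normal _ _
  have hZ1G : Z1 ≤ G := inf_le_left.trans hVG
  have hZ1 : Z1 ≠ ⊥ := by
    intro h
    have : v ∈ Z1 := by
      refine Subgroup.mem_inf.mpr ⟨hvV, ?_⟩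
      rw [Subgroup.mem_centralizer_iff]
      intro g hg
      exact hGv g hg
    rw [h, Subgroup.mem_bot] at this
    exact hv1 this
  have := ih_quot G p IH hp hidx hout Z1 hZ1G hZ1
  let f : ↥G →* ↥(G.map (QuotientGroup.mk' Z1)) := (QuotientGroup.mk' Z1).subgroupMap G
  apply Subgroup.isNilpotent_of_ker_le_center f
  intro x hx
  rw [MonoidHom.mem_ker] at hx
  have h1 : (QuotientGroup.mk' Z1) (x : E) = 1 := by
    have := congrArg Subtype.val hx
    simpa [f] using this
  have h2 : (x : E) ∈ Z1 := by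
    rwa [QuotientGroup.mk'_apply, QuotientGroup.eq_one_iff] at h1
  rw [Subgroup.mem_center_iff]
  intro g
  have h3 := Subgroup.mem_centralizer_iff.mp (Subgroup.mem_inf.mp h2).2 (g : E) g.2
  exact Subtype.ext h3

theorem nilpotent_of_nilpotent_normal (IH : ∀ m < Nat.card E, KegelAt.{u} m) (hp : p.Prime)
    (hidx : G.index = p) (hout : ∀ x : E, x ∉ G → x ^ p = 1)
    (X : Subgroup E) [X.Normal] [Group.IsNilpotent X] (hXG : X ≤ G) (hX : X ≠ ⊥) :
    Group.IsNilpotent G := by
  set N : Subgroup E := X ⊓ Subgroup.centralizer (X : Set E) with hN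
  have : (Subgroup.centralizer (X : Set E)).Normal := Subgroup.normal_centralizer
  have : N.Normal := Subgroup.normal_inf_normal _ _
  have hNc : ∀ x ∈ N, ∀ y ∈ N, x * y = y * x := by
    intro x hx y hy
    have h1 := (Subgroup.mem_inf.mp hx).2
    have h2 := (Subgroup.mem_inf.mp hy).1
    exact (Subgroup.mem_centralizer_iff.mp h1 y h2).symm
  have hNG : N ≤ G := inf_le_left.trans hXG
  have hNne : N ≠ ⊥ := by
    have : Nontrivial X := (Subgroup.nontrivial_iff_ne_bot X).mpr hX
    have hc := Group.IsNilpotent.center_ne_bot X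
    obtain ⟨⟨z, hz⟩, hz1⟩ := Subgroup.ne_bot_iff_exists_ne_one.mp hc
    intro hbot
    have hzN : (z : E) ∈ N := by
      refine Subgroup.mem_inf.mpr ⟨z.2, ?_⟩
      rw [Subgroup.mem_centralizer_iff]
      intro h hh
      have := Subgroup.mem_center_iff.mp hz ⟨h, hh⟩
      exact congrArg Subtype.val this
    rw [hbot, Subgroup.mem_bot] at hzN
    apply hz1
    exact Subtype.ext (Subtype.ext hzN)
  exact nilpotent_of_abelian_normal G p IH hp hidx hout N hNc hNG hNne

open Cfsg.Agent.Lib.Helper34_NPC Cfsg.Agent.Lib.Helper35_FrobeniusNPC in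
/-- for a characteristic `q`-functor `W` and a Sylow `q`-subgroup `Q` of `G`: either `G` is nilpotent
or the normalizer in `G` of `W(Q)` has a normal `q`-complement -/
theorem thompson_step (IH : ∀ m < Nat.card E, KegelAt.{u} m) (hp : p.Prime)
    (hidx : G.index = p) (hout : ∀ x : E, x ∉ G → x ^ p = 1) (q : ℕ) [Fact q.Prime]
    (Q : Sylow q G) (hQ : (Q : Subgroup G) ≠ ⊥) {W : ∀ (R : Type u) [Group R], Subgroup R}
    (hW : Cfsg.IsCharPFunctor.{u} q W) :
    Group.IsNilpotent G ∨
      HasNPC q ↥(Subgroup.normalizer ((Cfsg.inducedFunctor W (Q : Subgroup G) : Subgroup G) : Set G)) := by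
  set Q' : Subgroup E := (Q : Subgroup G).map G.subtype with hQ'
  have hQ'p : IsPGroup q Q' := Q.2.map _
  have hQ'ne : Q' ≠ ⊥ := by
    intro h
    exact hQ ((Subgroup.map_eq_bot_iff_of_injective _ G.subtype_injective).mp h)
  have hQ'G : Q' ≤ G := by
    rintro _ ⟨y, _, rfl⟩
    exact y.2
  set J : Subgroup G := Cfsg.inducedFunctor W (Q : Subgroup G) with hJ
  set J' : Subgroup E := Cfsg.inducedFunctor W Q' with hJ'
  have hJJ' : J' = J.map G.subtype :=
    inducedFunctor_map hW G.subtype (Q : Subgroup G) Q.2 (fun x _ hx => by simpa using hx)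
  have hJ'Q' : J' ≤ Q' := inducedFunctor_le W Q'
  have hJ'ne : J' ≠ ⊥ := inducedFunctor_ne_bot hW hQ'p hQ'ne
  have hnorm : Subgroup.normalizer (Q' : Set E) ≤ Subgroup.normalizer (J' : Set E) :=
    normalizer_le_normalizer_inducedFunctor hW Q' hQ'p
  by_cases htop : Subgroup.normalizer (J' : Set E) = ⊤
  · left
    have : J'.Normal := Subgroup.normalizer_eq_top_iff.mp htop
    have hJ'p : IsPGroup q J' := hQ'p.to_le hJ'Q'
    have : Group.IsNilpotent J' := hJ'p.isNilpotent
    exact nilpotent_of_nilpotent_normal G p IH hp hidx hout J' (hJ'Q'.trans hQ'G) hJ'ne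
  · right
    obtain ⟨a, haG, haN⟩ := exists_normalizer_not_mem G p hp hidx q Q
    have hnotle : ¬ Subgroup.normalizer (J' : Set E) ≤ G := fun h => haG (h (hnorm haN))
    have hnil := ih_sub G p IH hp hidx hout _ htop hnotle
    have hle : (Subgroup.normalizer (J : Set G)).map G.subtype ≤
        Subgroup.normalizer (J' : Set E) ⊓ G := by
      apply le_inf
      · rw [hJJ']
        exact Subgroup.le_normalizer_map G.subtype
      · rintro _ ⟨y, _, rfl⟩
        exact y.2
    have h1 : Group.IsNilpotent ↥((Subgroup.normalizer (J : Set G)).map G.subtype) :=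
      isNilpotent_of_le hle
    have h2 : Group.IsNilpotent ↥(Subgroup.normalizer (J : Set G)) :=
      (Group.isNilpotent_congr
        ((Subgroup.normalizer (J : Set G)).equivMapOfInjective G.subtype G.subtype_injective)).mpr h1
    exact hasNPC_of_isNilpotent q

end setup

open Cfsg.Agent.Lib.Helper34_NPC Cfsg.Agent.Lib.Helper35_FrobeniusNPC in
open scoped Pointwise in
theorem main : ∀ n, KegelAt.{u} n := by
  intro n
  induction n using Nat.strong_induction_on with
  | _ n IH =>
  intro E _ _ hcard G _ p hp hidx hout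
  subst hcard
  by_cases hodd : ∃ q, q.Prime ∧ q ≠ 2 ∧ q ∣ Nat.card G
  · obtain ⟨q, hq, hq2, hqG⟩ := hodd
    have : Fact q.Prime := ⟨hq⟩
    obtain ⟨Q⟩ : Nonempty (Sylow q G) := inferInstance
    have hQ : (Q : Subgroup G) ≠ ⊥ := Sylow.ne_bot_of_dvd_card Q hqG
    rcases thompson_step G p IH hp hidx hout q Q hQ
      (Cfsg.Agent.S0108.isCharPFunctor_JF (p := q)) with h | hJ
    · exact h
    rcases thompson_step G p IH hp hidx hout q Q hQ
      (Cfsg.Agent.S0108.isCharPFunctor_ZF (p := q)) with h | hZ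
    · exact h
    have hT : Cfsg.HasNormalPComplement q G := by
      rw [Cfsg.Agent.S0108.result hq2 Q]
      constructor
      · rw [Cfsg.Agent.S0072.hasNPC_iff]
        exact hJ
      · rw [Cfsg.Agent.S0072.hasNPC_iff]
        rw [Cfsg.Agent.S0108.inducedFunctor_ZF] at hZ
        exact hasNPC_of_le (Subgroup.centralizer_le_normalizer _) hZ
    rw [Cfsg.Agent.S0072.hasNPC_iff] at hT
    obtain ⟨K, hKn, hKc, k, hKi⟩ := hT
    by_cases hK : K = ⊥
    · -- `G` is a `q`-group
      rw [hK, Subgroup.index_bot] at hKi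
      have : IsPGroup q G := IsPGroup.of_card hKi
      exact this.isNilpotent
    · set K' : Subgroup E := K.map G.subtype with hK'
      have hK'G : K' ≤ G := by
        rintro _ ⟨y, _, rfl⟩
        exact y.2
      have hK'ne : K' ≠ ⊥ := by
        intro h
        exact hK ((Subgroup.map_eq_bot_iff_of_injective _ G.subtype_injective).mp h)
      have hK'n : K'.Normal := by
        constructor
        rintro _ ⟨y, hy, rfl⟩ e
        have hmem : e * (y : E) * e⁻¹ ∈ G := Subgroup.Normal.conj_mem inferInstance _ y.2 e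
        refine ⟨⟨_, hmem⟩, ?_, rfl⟩
        apply mem_of_coprime_order K hKi
        have hy1 : (y : E) ^ Nat.card K = 1 := by
          have h0 : (⟨y, hy⟩ : K) ^ Nat.card K = 1 := pow_card_eq_one'
          have h00 : ((((⟨y, hy⟩ : K) ^ Nat.card K : K) : G) : E) = 1 := by rw [h0]; rfl
          rw [Subgroup.coe_pow, Subgroup.coe_pow] at h00
          exact h00
        have h1 : (⟨e * (y : E) * e⁻¹, hmem⟩ : G) ^ Nat.card K = 1 := by
          apply Subtype.ext
          simp only [Subgroup.coe_pow, Subgroup.coe_one]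
          rw [conj_pow, hy1]; group
        exact Nat.Coprime.coprime_dvd_left (orderOf_dvd_of_pow_eq_one h1) hKc
      -- an element outside `G`
      obtain ⟨a₀, ha₀⟩ : ∃ a₀ : E, a₀ ∉ G := by
        by_contra hcon
        push Not at hcon
        have : G = ⊤ := by
          rw [eq_top_iff]; intro x _; exact hcon x
        rw [this, Subgroup.index_top] at hidx
        exact hp.one_lt.ne hidx
      have ha₀p : a₀ ^ p = 1 := hout a₀ ha₀
      set H : Subgroup E := K' ⊔ Subgroup.zpowers a₀ with hH
      have ha₀H : a₀ ∈ H := (le_sup_right : Subgroup.zpowers a₀ ≤ H) (Subgroup.mem_zpowers a₀)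
      have hHG : ¬ H ≤ G := fun h => ha₀ (h ha₀H)
      have hHtop : H ≠ ⊤ := by
        intro htop
        -- then `G ≤ K'`
        have hGK : G ≤ K' := by
          intro g hg
          have hgH : g ∈ H := by rw [htop]; exact Subgroup.mem_top g
          have hset : (H : Set E) = (K' : Set E) * (Subgroup.zpowers a₀ : Set E) := by
            rw [hH]; exact Subgroup.normal_mul K' (Subgroup.zpowers a₀)
          have hg' : g ∈ (K' : Set E) * (Subgroup.zpowers a₀ : Set E) := by
            rw [← hset]; exact hgH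
          obtain ⟨k', hk', z, hz, hkz⟩ := Set.mem_mul.mp hg'
          have hzG : z ∈ G := by
            have : z = k'⁻¹ * g := by rw [← hkz]; group
            rw [this]
            exact G.mul_mem (G.inv_mem (hK'G hk')) hg
          -- `z ∈ zpowers a₀ ⊓ G`, which is trivial
          have hz1 : z = 1 := by
            have : Fact p.Prime := ⟨hp⟩
            have hord : orderOf a₀ = p := by
              apply orderOf_eq_prime ha₀p
              intro h1
              apply ha₀
              rw [h1]; exact G.one_mem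
            have hcardZ : Nat.card (Subgroup.zpowers a₀) = p := by
              rw [Nat.card_zpowers, hord]
            have : Fact (Nat.card (Subgroup.zpowers a₀)).Prime := ⟨by rw [hcardZ]; exact hp⟩
            rcases Subgroup.eq_bot_or_eq_top_of_prime_card (G.subgroupOf (Subgroup.zpowers a₀))
              with h | h
            · have : (⟨z, hz⟩ : Subgroup.zpowers a₀) ∈ G.subgroupOf (Subgroup.zpowers a₀) :=
                Subgroup.mem_subgroupOf.mpr hzG
              rw [h, Subgroup.mem_bot] at this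
              exact congrArg Subtype.val this
            · exfalso
              apply ha₀
              have : (⟨a₀, Subgroup.mem_zpowers a₀⟩ : Subgroup.zpowers a₀) ∈
                  G.subgroupOf (Subgroup.zpowers a₀) := by
                rw [h]; exact Subgroup.mem_top _
              exact Subgroup.mem_subgroupOf.mp this
          rw [hz1, mul_one] at hkz
          rw [← hkz]; exact hk'
        have hKtop : K = ⊤ := by
          rw [eq_top_iff]
          intro g _
          obtain ⟨y, hy, hyg⟩ := hGK g.2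
          have : y = g := Subtype.ext hyg
          rw [← this]; exact hy
        rw [hKtop] at hKc
        rw [Subgroup.card_top] at hKc
        exact (Nat.Prime.coprime_iff_not_dvd hq).mp hKc.symm hqG
      have hnil := ih_sub G p IH hp hidx hout H hHtop hHG
      have hK'H : K' ≤ H ⊓ G := le_inf le_sup_left hK'G
      have : Group.IsNilpotent K' := isNilpotent_of_le hK'H
      exact nilpotent_of_nilpotent_normal G p IH hp hidx hout K' hK'G hK'ne
  · push Not at hodd
    have hne : Nat.card G ≠ 0 := Nat.card_pos.ne'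
    have h2 := Nat.eq_prime_pow_of_unique_prime_dvd hne (p := 2)
      (fun {d} hd hdvd => by
        by_contra h
        exact hodd d hd h hdvd)
    have : Fact (Nat.Prime 2) := ⟨Nat.prime_two⟩
    have : IsPGroup 2 G := IsPGroup.of_card h2
    exact this.isNilpotent

section final

variable {G : Type*} [Group G]

/-- power formula in a semidirect product by a group of automorphisms -/
theorem sdp_pow (A : Subgroup (MulAut G)) (a : A) (g : G) (n : ℕ) :
    ((SemidirectProduct.inl g : G ⋊[A.subtype] A) * SemidirectProduct.inr a) ^ n =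
      SemidirectProduct.inl (((List.range n).map (fun i : ℕ => ((a : MulAut G) ^ i) g)).prod) *
        SemidirectProduct.inr (a ^ n) := by
  induction n with
  | zero => simp
  | succ n ih =>
    rw [pow_succ, ih, List.range_succ, List.map_append, List.prod_append, List.map_singleton,
      List.prod_singleton, map_mul, pow_succ, map_mul]
    have h1 : (SemidirectProduct.inl (((a : MulAut G) ^ n) g) : G ⋊[A.subtype] A) =
        SemidirectProduct.inr (a ^ n) * SemidirectProduct.inl g * SemidirectProduct.inr (a ^ n)⁻¹ := by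
      rw [← SemidirectProduct.inl_aut]
      simp
    rw [h1, map_inv]
    group

/-- Call an automorphism α of order n of a group G splitting when x · α(x) · α²(x) ⋯ α^(n−1)(x) = 1 for every x ∈ G. A finite group admitting a splitting automorphism of prime order is nilpotent (this contains the case of a fixed-point-free automorphism of prime order). -/
theorem result {G : Type*} [Group G] [Finite G] (α : MulAut G) (hp : (orderOf α).Prime)
    (hsplit : ∀ x : G, (((List.range (orderOf α)).map (fun i : ℕ => (α ^ i) x)).prod = 1)) : Group.IsNilpotent G := by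
  classical
  set p := orderOf α with hpdef
  set A : Subgroup (MulAut G) := Subgroup.zpowers α with hA
  have hcardA : Nat.card A = p := Nat.card_zpowers α
  have hfinA : Finite A := Nat.finite_of_card_ne_zero (by rw [hcardA]; exact hp.ne_zero)
  have hfinE : Finite (G ⋊[A.subtype] A) :=
    Finite.of_equiv (G × A) SemidirectProduct.equivProd.symm
  let a₁ : A := ⟨α, Subgroup.mem_zpowers α⟩
  have ha₁p : a₁ ^ p = 1 := by
    apply Subtype.ext
    show α ^ p = 1
    exact pow_orderOf_eq_one α
  have ha₁ne : a₁ ≠ 1 := by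
    intro h
    have h1 : α = 1 := congrArg Subtype.val h
    rw [hpdef, h1, orderOf_one] at hp
    exact Nat.not_prime_one hp
  set G₀ : Subgroup (G ⋊[A.subtype] A) :=
    (SemidirectProduct.rightHom : G ⋊[A.subtype] A →* A).ker with hG₀
  have hidx : G₀.index = p := by
    rw [hG₀, Subgroup.index_ker,
      MonoidHom.range_eq_top.mpr SemidirectProduct.rightHom_surjective, Subgroup.card_top, hcardA]
  have hcoset : ∀ y : G ⋊[A.subtype] A, SemidirectProduct.rightHom y = a₁ → y ^ p = 1 := by
    intro y hy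
    have h1 : y = SemidirectProduct.inl y.left * SemidirectProduct.inr a₁ := by
      rw [← hy]
      exact (SemidirectProduct.inl_left_mul_inr_right y).symm
    rw [h1, sdp_pow, ha₁p, map_one, mul_one]
    have h2 := hsplit y.left
    show SemidirectProduct.inl ((List.map (fun i : ℕ => (α ^ i) y.left) (List.range p)).prod) = 1
    rw [h2, map_one]
  have hout : ∀ x : G ⋊[A.subtype] A, x ∉ G₀ → x ^ p = 1 := by
    intro x hx
    set β : A := SemidirectProduct.rightHom x with hβ
    have hβ1 : β ≠ 1 := fun h => hx (MonoidHom.mem_ker.mpr h)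
    have : Fact p.Prime := ⟨hp⟩
    have hgen : Subgroup.zpowers β = ⊤ := zpowers_eq_top_of_prime_card hcardA hβ1
    have hmem : a₁ ∈ Subgroup.zpowers β := by rw [hgen]; exact Subgroup.mem_top _
    obtain ⟨m, hm⟩ : ∃ m : ℕ, β ^ m = a₁ := by
      rw [← mem_powers_iff_mem_zpowers] at hmem
      exact hmem
    have hβp : β ^ p = 1 := by rw [← hcardA]; exact pow_card_eq_one'
    have h1 : (x ^ m) ^ p = 1 := hcoset _ (by rw [map_pow, ← hβ, hm])
    have h2 : (x ^ (m + p)) ^ p = 1 := hcoset _ (by rw [map_pow, ← hβ, pow_add, hm, hβp, mul_one])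
    have h3 : (x ^ p) ^ m = 1 := by rw [← pow_mul, mul_comm, pow_mul]; exact h1
    have h4 : (x ^ p) ^ (m + p) = 1 := by rw [← pow_mul, mul_comm, pow_mul]; exact h2
    have h5 : orderOf (x ^ p) ∣ p :=
      (Nat.dvd_add_right (orderOf_dvd_of_pow_eq_one h3)).mp (orderOf_dvd_of_pow_eq_one h4)
    have h6 : ¬ p ∣ m := by
      intro hpm
      obtain ⟨c, rfl⟩ := hpm
      rw [pow_mul, hβp, one_pow] at hm
      exact ha₁ne hm.symm
    have h7 : Nat.Coprime p m := (Nat.Prime.coprime_iff_not_dvd hp).mpr h6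
    have h8 : orderOf (x ^ p) ∣ Nat.gcd p m := Nat.dvd_gcd h5 (orderOf_dvd_of_pow_eq_one h3)
    rw [h7, Nat.dvd_one, orderOf_eq_one_iff] at h8
    exact h8
  have hnil : Group.IsNilpotent G₀ :=
    main (Nat.card (G ⋊[A.subtype] A)) (G ⋊[A.subtype] A) rfl G₀ p hp hidx hout
  let f : G →* G₀ := (SemidirectProduct.inl : G →* G ⋊[A.subtype] A).codRestrict G₀
    (fun g => by
      rw [hG₀, MonoidHom.mem_ker]
      exact SemidirectProduct.rightHom_inl g)
  have hf : Function.Injective f := by
    intro g g' h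
    have := congrArg Subtype.val h
    exact SemidirectProduct.inl_injective this
  exact isNilpotent_of_injective f hf

end final

end Cfsg.Agent.S3946
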