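import Cfsg.Statements.S3949
import Mathlib

set_option autoImplicit false
open Cfsg

namespace Cfsg.Agent.S3949

/-- iterating the map on an inverted element is taking `2^k`-th powers -/
theorem iter_inverted {G : Type*} [Group G] (α : MulAut G) (k : ℕ) :
    ∀ g : G, α g = g⁻¹ → ((fun c : G => c * (α c)⁻¹)^[k]) g = g ^ (2 ^ k) := by
  induction k with
  | zero => intro g _; simp
  | succ k ih =>
    intro g hg
    rw [Function.iterate_succ_apply]
    have h1 : g * (α g)⁻¹ = g ^ 2 := by rw [hg, inv_inv, pow_two]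
    rw [h1]
    have h2 : α (g ^ 2) = (g ^ 2)⁻¹ := by rw [map_pow, hg, inv_pow]
    rw [ih (g ^ 2) h2, ← pow_mul, pow_succ']

/-- Let G be a finite group and α an automorphism of G of order 2 such that the elements g·α(g)⁻¹ generate G. Let j be a positive integer such that 2^j divides the order of no element inverted by α. Then the set of values of the j-th iterate of the map c ↦ c·α(c)⁻¹ is exactly the set of elements of odd order inverted by α. -/
theorem result {G : Type*} [Group G] [Finite G] (α : MulAut G) (hα : orderOf α = 2) (hG : Subgroup.closure (Set.range (fun c : G => c * (α c)⁻¹)) = ⊤)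
    (j : ℕ) (hj : ∀ g : G, α g = g⁻¹ → ¬ 2 ^ j ∣ orderOf g) :
    Set.range ((fun c : G => c * (α c)⁻¹)^[j]) = {g : G | Odd (orderOf g) ∧ α g = g⁻¹} := by
  have hα2 : ∀ c : G, α (α c) = c := by
    intro c
    have h := pow_orderOf_eq_one α
    rw [hα] at h
    have h2 : (α ^ 2) c = c := by rw [h]; rfl
    simpa [pow_two] using h2
  have hinv : ∀ c : G, α (c * (α c)⁻¹) = (c * (α c)⁻¹)⁻¹ := by
    intro c
    rw [map_mul, map_inv, hα2, mul_inv_rev, inv_inv]
  have hj0 : j ≠ 0 := by
    intro h0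
    apply hj 1 (by simp)
    simp [h0]
  obtain ⟨i, rfl⟩ := Nat.exists_eq_succ_of_ne_zero hj0
  ext g
  simp only [Set.mem_range, Set.mem_ofPred_eq]
  constructor
  · rintro ⟨c, rfl⟩
    rw [Function.iterate_succ_apply]
    set d := c * (α c)⁻¹ with hd
    have hdinv : α d = d⁻¹ := hinv c
    rw [iter_inverted α i d hdinv]
    refine ⟨?_, by rw [map_pow, hdinv, inv_pow]⟩
    -- order of d is 2^k * m with m odd and k ≤ i
    have hn0 : orderOf d ≠ 0 := (orderOf_pos d).ne'
    obtain ⟨k, m, hm, hkm⟩ := Nat.exists_eq_two_pow_mul_odd hn0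
    have hki : k ≤ i := by
      by_contra hlt
      replace hlt := not_le.mp hlt
      apply hj d hdinv
      rw [hkm]
      exact Dvd.dvd.mul_right (pow_dvd_pow 2 hlt) m
    have h2 : d ^ (2 ^ i) = (d ^ (2 ^ k)) ^ (2 ^ (i - k)) := by
      rw [← pow_mul, ← pow_add, Nat.add_sub_cancel' hki]
    have h3 : orderOf (d ^ (2 ^ k)) = m := by
      rw [orderOf_pow_of_dvd (by positivity) (by rw [hkm]; exact Dvd.intro _ rfl), hkm]
      exact Nat.mul_div_cancel_left m (by positivity)
    rw [h2]
    have h4 := orderOf_pow_dvd (x := d ^ (2 ^ k)) (2 ^ (i - k))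
    rw [h3] at h4
    exact Odd.of_dvd_nat hm h4
  · rintro ⟨hodd, hg⟩
    have hcop : Nat.Coprime (2 ^ (i + 1)) (orderOf g) := by
      apply Nat.Coprime.pow_left
      exact (Nat.coprime_two_left.mpr hodd)
    obtain ⟨m, hm⟩ := exists_pow_eq_self_of_coprime hcop
    refine ⟨g ^ m, ?_⟩
    have hc : α (g ^ m) = (g ^ m)⁻¹ := by rw [map_pow, hg, inv_pow]
    rw [iter_inverted α (i + 1) (g ^ m) hc, ← pow_mul, mul_comm, pow_mul, hm]
end Cfsg.Agent.S3949
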