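import Cfsg.Statements.S3950
import Cfsg.Agent.S3979
import Cfsg.Agent.Lib.Helper66_BiMulExt
import Mathlib

set_option autoImplicit false
open Cfsg

namespace Cfsg.Agent.S3950

open Cfsg.Agent.Lib.Helper66_BiMulExt
open scoped Function

/-- a product of cyclic groups of pairwise coprime orders is cyclic -/
theorem isCyclic_pi_of_pairwise_coprime {ι : Type} [Fintype ι] (n : ι → ℕ)
    (hn : Pairwise (Nat.Coprime on n)) : IsCyclic ((i : ι) → Multiplicative (ZMod (n i))) := by
  have e1 : Multiplicative (ZMod (∏ i, n i)) ≃* Multiplicative ((i : ι) → ZMod (n i)) :=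
    AddEquiv.toMultiplicative (ZMod.prodEquivPi n hn).toAddEquiv
  have e2 := MulEquiv.piMultiplicative (fun i => ZMod (n i))
  exact (e1.trans e2).isCyclic.mp inferInstance

/-- the pairing on a product of cyclic groups attached to two coordinates -/
noncomputable def pairing {G : Type*} [CommGroup G] {ι : Type} (n : ι → ℕ)
    (e : G ≃* ((i : ι) → Multiplicative (ZMod (n i)))) (i j : ι) (p : ℕ) (hi : p ∣ n i)
    (hj : p ∣ n j) : BiMul G p where
  toFun := fun g h => ZMod.castHom hi (ZMod p) (Multiplicative.toAdd (e g i)) *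
    ZMod.castHom hj (ZMod p) (Multiplicative.toAdd (e h j))
  map_mul_left := by
    intro g g' h
    rw [map_mul, Pi.mul_apply, toAdd_mul, map_add, add_mul]
  map_mul_right := by
    intro g h h'
    rw [map_mul, Pi.mul_apply, toAdd_mul, map_add, mul_add]

/-- A finite abelian group has trivial Schur multiplier if and only if it is cyclic. -/
theorem result {G : Type*} [CommGroup G] [Finite G] : Cfsg.HasCyclicSchurMultiplier G 1 ↔ IsCyclic G := by
  constructor
  · intro h
    by_contra hnc
    obtain ⟨ι, _, n, hn1, ⟨e⟩⟩ := CommGroup.equiv_prod_multiplicative_zmod_of_finite G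
    classical
    have hnp : ¬ Pairwise (Nat.Coprime on n) := by
      intro hp
      apply hnc
      exact e.isCyclic.mpr (isCyclic_pi_of_pairwise_coprime n hp)
    rw [Pairwise] at hnp
    push Not at hnp
    obtain ⟨i, j, hij, hcop⟩ := hnp
    obtain ⟨p, hp, hpi, hpj⟩ := Nat.Prime.not_coprime_iff_dvd.mp hcop
    have : Fact p.Prime := ⟨hp⟩
    have : NeZero p := ⟨hp.ne_zero⟩
    set β := pairing n e i j p hpi hpj with hβ
    have hstem : IsStemExtension (Ext.proj β) := by
      apply Ext.isStemExtension_proj β (e.symm (Pi.mulSingle i (Multiplicative.ofAdd 1)))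
        (e.symm (Pi.mulSingle j (Multiplicative.ofAdd 1))) (mul_comm _ _)
      show ZMod.castHom hpi (ZMod p) (Multiplicative.toAdd (e (e.symm (Pi.mulSingle i (Multiplicative.ofAdd 1))) i)) *
          ZMod.castHom hpj (ZMod p) (Multiplicative.toAdd (e (e.symm (Pi.mulSingle j (Multiplicative.ofAdd 1))) j)) -
        ZMod.castHom hpi (ZMod p) (Multiplicative.toAdd (e (e.symm (Pi.mulSingle j (Multiplicative.ofAdd 1))) i)) *
          ZMod.castHom hpj (ZMod p) (Multiplicative.toAdd (e (e.symm (Pi.mulSingle i (Multiplicative.ofAdd 1))) j)) = 1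
      rw [MulEquiv.apply_symm_apply, MulEquiv.apply_symm_apply, Pi.mulSingle_eq_same,
        Pi.mulSingle_eq_same, Pi.mulSingle_eq_of_ne hij]
      simp only [toAdd_ofAdd, toAdd_one, map_one, map_zero]
      ring
    obtain ⟨π, hπ⟩ := h.2 (Ext β) (Ext.proj β) hstem
    have hmem : Ext.mk β 1 1 ∈ (Ext.proj β).ker := (Ext.mem_ker_iff β _).mpr ⟨1, rfl⟩
    obtain ⟨s, hs⟩ := hπ ⟨Ext.mk β 1 1, hmem⟩
    have hs1 : s = 1 := Subsingleton.elim _ _
    rw [hs1, map_one] at hs
    have h2 : (1 : Ext β) = Ext.mk β 1 1 := congrArg Subtype.val hs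
    rw [← Ext.mk_one_zero] at h2
    have h3 := (Ext.mk_injective β h2).2
    exact zero_ne_one h3
  · intro h
    exact Cfsg.Agent.S3979.result
end Cfsg.Agent.S3950
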