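import Cfsg.Statements.S3951
import Cfsg.Agent.Lib.Helper66_Stem
import Cfsg.Agent.Lib.Helper66_Stem2
import Cfsg.Agent.Lib.Helper66_BiMulExt
import Mathlib

set_option autoImplicit false
open Cfsg

namespace Cfsg.Agent.S3951

open Cfsg.Agent.Lib.Helper66_Stem Cfsg.Agent.Lib.Helper66_Stem2 Cfsg.Agent.Lib.Helper66_BiMulExt

/-- the bimultiplicative map on `ZMod m × ZMod n` -/
noncomputable def pairing (m n : ℕ) (hnm : n ∣ m) : BiMul (Multiplicative (ZMod m × ZMod n)) n where
  toFun := fun x y => ZMod.castHom hnm (ZMod n) (Multiplicative.toAdd x).1 * (Multiplicative.toAdd y).2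
  map_mul_left := by
    intro g g' h
    rw [toAdd_mul, Prod.fst_add, map_add, add_mul]
  map_mul_right := by
    intro g h h'
    rw [toAdd_mul, Prod.snd_add, mul_add]

/-- For positive integers `m` and `n` with `n` dividing `m`, the Schur multiplier of the abelian group `ZMod m × ZMod n` (written multiplicatively) is cyclic of order `n`. In particular the elementary abelian group of order `p ^ 2` has multiplier of order `p`. -/
theorem result (m n : ℕ) [NeZero m] [NeZero n] (hnm : n ∣ m) : Cfsg.HasCyclicSchurMultiplier (Multiplicative (ZMod m × ZMod n)) n := by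
  refine ⟨?_, ?_⟩
  · refine ⟨Ext (pairing m n hnm), inferInstance, inferInstance, Ext.proj (pairing m n hnm), ?_,
      ⟨Ext.kerEquiv (pairing m n hnm)⟩⟩
    apply Ext.isStemExtension_proj (pairing m n hnm) (Multiplicative.ofAdd (1, 0))
      (Multiplicative.ofAdd (0, 1)) (mul_comm _ _)
    show ZMod.castHom hnm (ZMod n) 1 * 1 - ZMod.castHom hnm (ZMod n) 0 * 0 = 1
    rw [map_one, map_zero]; ring
  · intro Γ _ _ σ hσ
    have hgen : Subgroup.closure ({Multiplicative.ofAdd ((1 : ZMod m), (0 : ZMod n)),
        Multiplicative.ofAdd ((0 : ZMod m), (1 : ZMod n))} : Set (Multiplicative (ZMod m × ZMod n))) = ⊤ := by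
      rw [eq_top_iff]
      intro g _
      obtain ⟨⟨i, j⟩, rfl⟩ : ∃ p, g = Multiplicative.ofAdd p := ⟨Multiplicative.toAdd g, rfl⟩
      have h1 : Multiplicative.ofAdd (i, j) = (Multiplicative.ofAdd ((1 : ZMod m), (0 : ZMod n))) ^ i.val *
          (Multiplicative.ofAdd ((0 : ZMod m), (1 : ZMod n))) ^ j.val := by
        rw [← ofAdd_nsmul, ← ofAdd_nsmul, ← ofAdd_add]
        congr 1
        ext <;> simp
      rw [h1]
      apply Subgroup.mul_mem
      · exact Subgroup.pow_mem _ (Subgroup.subset_closure (by simp)) _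
      · exact Subgroup.pow_mem _ (Subgroup.subset_closure (by simp)) _
    have hb : (Multiplicative.ofAdd ((0 : ZMod m), (1 : ZMod n))) ^ n = 1 := by
      rw [← ofAdd_nsmul]
      simp
    obtain ⟨w, hw, hgen', hwn⟩ := abelian_two_generator_stem σ hσ _ _ hgen n hb
    exact exists_surjective_of_zpowers σ.ker n w hw hgen' hwn
end Cfsg.Agent.S3951
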