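import Mathlib
import Cfsg.Statements.S3952
import Cfsg.Agent.Lib.Helper81_CharOrth2
import Cfsg.Agent.Lib.Helper3_CharCenter
import Cfsg.Agent.Lib.Helper80_CharBasic
-- import your own Cfsg.Agent.* helpers here

set_option autoImplicit false
set_option linter.style.haveILetI false
open Cfsg

namespace Cfsg.Agent.S3952

/-- A central element acts on an irreducible character through a scalar, which is a `χ(1)`-th root
of unity when the element lies in the commutator subgroup. -/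
theorem central_scalar {Γ : Type*} [Group Γ] [Finite Γ] (χ : IrrCharacter Γ) (z : Γ)
    (hz : z ∈ Subgroup.center Γ) :
    ∃ (c : ℂ) (d : ℕ), 0 < d ∧ χ.1 1 = d ∧ (∀ g, χ.1 (z * g) = c * χ.1 g) ∧
      (z ∈ commutator Γ → c ^ d = 1) := by
  classical
  haveI := Fintype.ofFinite Γ
  obtain ⟨n, ρ, hirr, hρ⟩ := χ.2
  haveI := hirr
  obtain ⟨c, hc⟩ := Cfsg.Agent.Lib.Helper3_CharCenter.exists_scalar_of_mem_center ρ hz
  have hfin : Module.finrank ℂ (Fin n → ℂ) = n := Module.finrank_fin_fun ℂ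
  refine ⟨c, n, Cfsg.Agent.Lib.Helper80_CharBasic.irr_dim_pos ρ hirr, ?_, ?_, ?_⟩
  · rw [← hρ, Representation.char_one, hfin]
  · intro g
    rw [← hρ]
    simp only [Representation.character]
    rw [map_mul, hc, smul_mul_assoc, map_smul, smul_eq_mul]
    congr 2
  · intro hzc
    -- determinant is a homomorphism to a commutative group
    let f : Γ →* ℂˣ := MonoidHom.toHomUnits ((LinearMap.det : _ →* ℂ).comp ρ)
    have hker : z ∈ f.ker := Abelianization.commutator_subset_ker f hzc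
    rw [MonoidHom.mem_ker] at hker
    have h1 : ((f z : ℂˣ) : ℂ) = 1 := by rw [hker]; rfl
    have h2 : ((f z : ℂˣ) : ℂ) = LinearMap.det (ρ z) := rfl
    rw [h2, hc, LinearMap.det_smul, hfin] at h1
    simpa using h1


theorem sum_twisted_eq_zero {Γ : Type*} [Group Γ] [Finite Γ] (N : Subgroup Γ)
    (hN : N ≤ Subgroup.center Γ) [Fintype N] (lam : N →* ℂˣ) (χ : IrrCharacter Γ)
    (b : N) (hb : χ.1 b ≠ (lam b : ℂ) * χ.1 1) :
    ∑ n : N, ((lam n)⁻¹ : ℂˣ) * χ.1 n = 0 := by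
  obtain ⟨c, d, hd, hχ1, hc, -⟩ := central_scalar χ (b : Γ) (hN b.2)
  have hcb : c ≠ (lam b : ℂ) := by
    intro h
    apply hb
    have := hc 1
    rw [mul_one] at this
    rw [this, h]
  set S := ∑ n : N, (((lam n)⁻¹ : ℂˣ) : ℂ) * χ.1 n with hS
  have h1 : S = (((lam b)⁻¹ : ℂˣ) : ℂ) * c * S := by
    conv_lhs => rw [hS, ← Equiv.sum_comp (Equiv.mulLeft b)]
    rw [hS, Finset.mul_sum]
    refine Finset.sum_congr rfl fun n _ => ?_
    simp only [Equiv.coe_mulLeft, map_mul, mul_inv, Units.val_mul, Subgroup.coe_mul]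
    rw [hc]
    ring
  have h2 : (((lam b)⁻¹ : ℂˣ) : ℂ) * c ≠ 1 := by
    intro h
    apply hcb
    have : ((lam b : ℂˣ) : ℂ) * ((((lam b)⁻¹ : ℂˣ) : ℂ) * c) = (lam b : ℂ) := by rw [h, mul_one]
    rw [← mul_assoc, ← Units.val_mul, mul_inv_cancel, Units.val_one, one_mul] at this
    exact this
  have h3 : (1 - (((lam b)⁻¹ : ℂˣ) : ℂ) * c) * S = 0 := by
    rw [sub_mul, one_mul, ← h1, sub_self]
  rcases mul_eq_zero.mp h3 with h | h
  · exact absurd (sub_eq_zero.mp h).symm h2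
  · exact h

theorem sum_sq_lying_over {Γ : Type*} [Group Γ] [Fintype Γ] [Fintype (IrrCharacter Γ)]
    (N : Subgroup Γ) (hN : N ≤ Subgroup.center Γ) [Fintype N] (lam : N →* ℂˣ)
    [DecidablePred fun χ : IrrCharacter Γ => ∀ n : N, χ.1 n = (lam n : ℂ) * χ.1 1] :
    (Nat.card N : ℂ) * ∑ χ ∈ Finset.univ.filter
        (fun χ : IrrCharacter Γ => ∀ n : N, χ.1 n = (lam n : ℂ) * χ.1 1), χ.1 1 * χ.1 1 =
      (Nat.card Γ : ℂ) := by
  classical
  -- the double sum
  have h1 : ∑ n : N, (((lam n)⁻¹ : ℂˣ) : ℂ) * ∑ χ : IrrCharacter Γ, χ.1 n * χ.1 1 =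
      (Nat.card Γ : ℂ) := by
    have : ∀ n : N, (((lam n)⁻¹ : ℂˣ) : ℂ) * ∑ χ : IrrCharacter Γ, χ.1 n * χ.1 1 =
        if n = 1 then (Nat.card Γ : ℂ) else 0 := by
      intro n
      have h := Cfsg.Agent.Lib.Helper81_CharOrth2.second_orthogonality (G := Γ) (n : Γ) 1
      rw [inv_one] at h
      rw [h]
      split_ifs with hn
      · subst hn
        have : Nat.card {c : Γ // c * ((1 : N) : Γ) * c⁻¹ = 1} = Nat.card Γ := by
          refine Nat.card_congr (Equiv.subtypeUnivEquiv fun c => ?_)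
          simp
        rw [this]
        simp
      · haveI : IsEmpty {c : Γ // c * (n : Γ) * c⁻¹ = 1} := by
          refine ⟨fun c => hn ?_⟩
          have h2 := c.2
          have h3 : (n : Γ) = 1 := by
            calc (n : Γ) = c.1⁻¹ * (c.1 * (n : Γ) * c.1⁻¹) * c.1 := by group
              _ = 1 := by rw [h2]; group
          exact Subtype.ext h3
        rw [Nat.card_of_isEmpty]
        simp
    simp_rw [this]
    simp
  have h2 : ∑ n : N, (((lam n)⁻¹ : ℂˣ) : ℂ) * ∑ χ : IrrCharacter Γ, χ.1 n * χ.1 1 =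
      ∑ χ : IrrCharacter Γ, χ.1 1 * ∑ n : N, (((lam n)⁻¹ : ℂˣ) : ℂ) * χ.1 n := by
    simp_rw [Finset.mul_sum]
    rw [Finset.sum_comm]
    refine Finset.sum_congr rfl fun χ _ => Finset.sum_congr rfl fun n _ => ?_
    ring
  have h3 : ∀ χ : IrrCharacter Γ, χ.1 1 * ∑ n : N, (((lam n)⁻¹ : ℂˣ) : ℂ) * χ.1 n =
      if (∀ n : N, χ.1 n = (lam n : ℂ) * χ.1 1) then (Nat.card N : ℂ) * (χ.1 1 * χ.1 1) else 0 := by
    intro χ
    split_ifs with h
    · have : ∀ n : N, (((lam n)⁻¹ : ℂˣ) : ℂ) * χ.1 n = χ.1 1 := by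
        intro n
        rw [h n, ← mul_assoc, ← Units.val_mul, inv_mul_cancel, Units.val_one, one_mul]
      simp_rw [this]
      rw [Finset.sum_const, Finset.card_univ, nsmul_eq_mul, Nat.card_eq_fintype_card]
      ring
    · push Not at h
      obtain ⟨b, hb⟩ := h
      rw [sum_twisted_eq_zero N hN lam χ b hb, mul_zero]
  rw [← h1, h2]
  simp_rw [h3]
  rw [Finset.sum_ite, Finset.sum_const_zero, add_zero, Finset.mul_sum]


theorem prime_pow_sq_dvd_index {Γ : Type*} [Group Γ] [Finite Γ] (N : Subgroup Γ)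
    (hNc : N ≤ Subgroup.center Γ) (hNd : N ≤ commutator Γ) (p k : ℕ) (hp : p.Prime) (a : N)
    (ha : orderOf a = p ^ k) : p ^ (2 * k) ∣ N.index := by
  classical
  haveI := Fintype.ofFinite Γ
  haveI : Fintype (IrrCharacter Γ) := Fintype.ofFinite _
  haveI : Fintype N := Fintype.ofFinite _
  haveI : Fact p.Prime := ⟨hp⟩
  rcases Nat.eq_zero_or_pos k with rfl | hk
  · simp
  obtain ⟨k', rfl⟩ : ∃ k', k = k' + 1 := ⟨k - 1, by omega⟩
  letI : CommGroup N :=
    { (inferInstance : Group N) with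
      mul_comm := fun x y => Subtype.ext (by
        have := hNc x.2
        rw [Subgroup.mem_center_iff] at this
        exact (this y).symm) }
  have hb : a ^ p ^ k' ≠ 1 := by
    intro h
    have h1 := orderOf_dvd_of_pow_eq_one h
    rw [ha] at h1
    have h2 := Nat.le_of_dvd (pow_pos hp.pos _) h1
    exact absurd h2 (not_le.mpr (Nat.pow_lt_pow_right hp.one_lt (by omega)))
  haveI : NeZero ((Monoid.exponent N : ℕ) : ℂ) :=
    ⟨by exact_mod_cast Monoid.exponent_ne_zero_of_finite⟩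
  obtain ⟨lam, hlam⟩ := CommGroup.exists_apply_ne_one_of_hasEnoughRootsOfUnity N ℂ hb
  have hord : orderOf (lam a) = p ^ (k' + 1) := by
    apply orderOf_eq_prime_pow
    · rw [← map_pow]; exact hlam
    · rw [← map_pow, ← ha, pow_orderOf_eq_one, map_one]
  -- degrees
  have hdeg : ∀ χ : IrrCharacter Γ, ∃ d : ℕ, χ.1 1 = d ∧
      ((∀ n : N, χ.1 n = (lam n : ℂ) * χ.1 1) → p ^ (k' + 1) ∣ d) := by
    intro χ
    obtain ⟨c, d, hd, hχ1, hc, hcd⟩ := central_scalar χ (a : Γ) (hNc a.2)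
    refine ⟨d, hχ1, fun hF => ?_⟩
    have h1 := hc 1
    rw [mul_one, hF a] at h1
    have hd0 : χ.1 1 ≠ 0 := by rw [hχ1]; exact_mod_cast hd.ne'
    have h2 : (lam a : ℂ) = c := mul_right_cancel₀ hd0 h1
    have h3 := hcd (hNd a.2)
    rw [← h2] at h3
    have h4 : (lam a) ^ d = 1 := by
      apply Units.ext
      rw [Units.val_pow_eq_pow_val, h3, Units.val_one]
    rw [← hord]
    exact orderOf_dvd_of_pow_eq_one h4
  choose d hd1 hd2 using hdeg
  have hsum := sum_sq_lying_over N hNc lam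
  have h5 : (Nat.card N : ℂ) * ∑ χ ∈ Finset.univ.filter
        (fun χ : IrrCharacter Γ => ∀ n : N, χ.1 n = (lam n : ℂ) * χ.1 1), χ.1 1 * χ.1 1 =
      ((Nat.card N * ∑ χ ∈ Finset.univ.filter
        (fun χ : IrrCharacter Γ => ∀ n : N, χ.1 n = (lam n : ℂ) * χ.1 1), d χ * d χ : ℕ) : ℂ) := by
    push_cast
    congr 1
    refine Finset.sum_congr rfl fun χ _ => ?_
    rw [hd1 χ]
  rw [h5] at hsum
  have h6 : Nat.card N * ∑ χ ∈ Finset.univ.filter
        (fun χ : IrrCharacter Γ => ∀ n : N, χ.1 n = (lam n : ℂ) * χ.1 1), d χ * d χ =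
      Nat.card Γ := by exact_mod_cast hsum
  have h7 : Nat.card Γ = Nat.card N * N.index := (Subgroup.card_mul_index N).symm
  rw [h7] at h6
  have h8 : ∑ χ ∈ Finset.univ.filter
        (fun χ : IrrCharacter Γ => ∀ n : N, χ.1 n = (lam n : ℂ) * χ.1 1), d χ * d χ = N.index :=
    Nat.eq_of_mul_eq_mul_left Nat.card_pos h6
  rw [← h8]
  refine Finset.dvd_sum fun χ hχ => ?_
  have h9 := hd2 χ (Finset.mem_filter.mp hχ).2
  have : p ^ (2 * (k' + 1)) = p ^ (k' + 1) * p ^ (k' + 1) := by rw [← pow_add]; congr 1; ring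
  rw [this]
  exact Nat.mul_dvd_mul h9 h9


/-- If `A` is the Schur multiplier of the finite group `Q`, then the square of the exponent of `A` divides the order of `Q`. -/
theorem result {Q : Type*} [Group Q] [Finite Q] {A : Type*} [CommGroup A] (hA : Cfsg.HasSchurMultiplier Q A) : Monoid.exponent A ^ 2 ∣ Nat.card Q := by
  obtain ⟨⟨Γ, hGrp, hFin, σ, ⟨hsurj, hcen, hcomm⟩, ⟨e⟩⟩, -⟩ := hA
  haveI : Finite A := Finite.of_equiv _ e.toEquiv
  have hidx : σ.ker.index = Nat.card Q := by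
    rw [Subgroup.index_ker, MonoidHom.range_eq_top.mpr hsurj]
    exact Nat.card_congr (Subgroup.topEquiv).toEquiv
  obtain ⟨g, hg⟩ := Monoid.exists_orderOf_eq_exponent (Monoid.ExponentExists.of_finite (G := A))
  have hE : Monoid.exponent A ≠ 0 := Monoid.exponent_ne_zero_of_finite
  have hQ : Nat.card Q ≠ 0 := Nat.card_pos.ne'
  have hEsq : Monoid.exponent A ^ 2 ≠ 0 := pow_ne_zero 2 hE
  rw [← Nat.factorization_le_iff_dvd hEsq hQ]
  intro p
  rw [Nat.factorization_pow, Finsupp.smul_apply, smul_eq_mul]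
  by_cases hp : p.Prime
  · set k := (Monoid.exponent A).factorization p with hk
    have hdvd : p ^ k ∣ Monoid.exponent A := Nat.ordProj_dvd _ _
    have hpk : p ^ k ≠ 0 := pow_ne_zero _ hp.pos.ne'
    have hquot : Monoid.exponent A / p ^ k ≠ 0 := by
      intro h
      have := Nat.div_mul_cancel hdvd
      rw [h, zero_mul] at this
      exact hE this.symm
    have hord : orderOf (g ^ (Monoid.exponent A / p ^ k)) = p ^ k := by
      rw [orderOf_pow_of_dvd hquot (by rw [hg]; exact Nat.div_dvd_of_dvd hdvd), hg,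
        Nat.div_div_self hdvd hE]
    have hord2 : orderOf (e.symm (g ^ (Monoid.exponent A / p ^ k))) = p ^ k := by
      rw [MulEquiv.orderOf_eq, hord]
    have := prime_pow_sq_dvd_index σ.ker hcen hcomm p k hp _ hord2
    rw [hidx] at this
    exact (hp.pow_dvd_iff_le_factorization hQ).mp this
  · rw [Nat.factorization_eq_zero_of_not_prime _ hp, mul_zero]
    exact Nat.zero_le _

end Cfsg.Agent.S3952
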