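import Cfsg.Statements.S3953
import Cfsg.Agent.Lib.Helper66_Stem
import Cfsg.Agent.Lib.Helper66_SchurCore
import Cfsg.Agent.Lib.Helper66_SchurMain
import Cfsg.Agent.Lib.Helper66_SchurTransfer

set_option autoImplicit false
open Cfsg

namespace Cfsg.Agent.S3953

open Cfsg.Agent.Lib.Helper66_SchurCore Cfsg.Agent.Lib.Helper66_SchurMain
  Cfsg.Agent.Lib.Helper66_SchurTransfer

/-- the group `T π` of a presentation of a finite `p`-group is a `p`-group -/
theorem isPGroup_T {Y : Type*} {P : Type*} [Group P] [Finite P] (p : ℕ) [Fact p.Prime]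
    (hP : IsPGroup p P) (π : FreeGroup Y →* P) (hπ : Function.Surjective π) : IsPGroup p (T π) := by
  obtain ⟨n, hn⟩ := IsPGroup.iff_card.mp hP
  have hfi : (ρ π).ker.FiniteIndex := ker_ρ_finiteIndex π
  have hcomm : IsMulCommutative (ρ π).ker := ⟨⟨fun a b => mul_comm a b⟩⟩
  have hidx : (ρ π).ker.index = p ^ n := by
    rw [Subgroup.index_ker, MonoidHom.range_eq_top_of_surjective _ (ρ_surjective π hπ),
      Subgroup.card_top, hn]
  intro z
  refine ⟨n, Subtype.ext ?_⟩
  have h1 := Cfsg.Agent.Lib.Helper66_Stem.pow_index_eq_one_of_mem_commutator (ρ π).ker (z : E π)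
    (T_le_center π z.2) (T_le_commutator π z.2)
  rw [hidx] at h1
  rw [Subgroup.coe_pow, h1]
  rfl

/-- Let `P` be a Sylow `p`-subgroup of the finite group `G`, let `A` be the Schur multiplier of `G` and `B` that of `P`. Then the `p`-primary component of `A` is isomorphic to a direct factor of `B`: there are subgroups `C` and `D` of `B` meeting trivially and generating `B`, with `C` isomorphic to the `p`-primary component of `A`. -/
theorem result {G : Type*} [Group G] [Finite G] (p : ℕ) [Fact p.Prime] (P : Sylow p G) {A B : Type*} [CommGroup A] [CommGroup B] (hA : Cfsg.HasSchurMultiplier G A) (hB : Cfsg.HasSchurMultiplier P B) : ∃ C D : Subgroup B, C ⊓ D = ⊥ ∧ C ⊔ D = ⊤ ∧ Nonempty (CommGroup.primaryComponent A p ≃* C) := by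
  classical
  have hπ := stdπ_surjective G
  have hVfi : ((P : Subgroup G).comap (stdπ G)).FiniteIndex := ⟨by
    rw [Subgroup.index_comap_of_surjective _ hπ]
    exact Subgroup.index_ne_zero_of_finite⟩
  obtain ⟨Y, hY, ⟨ι⟩⟩ := exists_free_basis ((P : Subgroup G).comap (stdπ G))
  have hfinq : Finite (FreeGroup G ⧸ (P : Subgroup G).comap (stdπ G)) :=
    Subgroup.finite_quotient_of_finiteIndex
  let _ : Fintype (FreeGroup G ⧸ (P : Subgroup G).comap (stdπ G)) := Fintype.ofFinite _
  obtain ⟨g, hg⟩ := exists_tr (stdπ G) (P : Subgroup G) ι hπ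
  have hπU := πU_surjective (stdπ G) (P : Subgroup G) ι hπ
  obtain ⟨eA⟩ := mulEquiv_T_of_hasSchurMultiplier (stdπ G) hπ hA
  obtain ⟨eB⟩ := mulEquiv_T_of_hasSchurMultiplier (πU (stdπ G) (P : Subgroup G) ι) hπU hB
  have hAfin : Finite A := finite_multiplier hA
  have hTp : IsPGroup p (T (πU (stdπ G) (P : Subgroup G) ι)) :=
    isPGroup_T p P.isPGroup' _ hπU
  have hBp : IsPGroup p B := hTp.of_equiv eB
  -- the corestriction on `T`
  let f₀ : T (πU (stdπ G) (P : Subgroup G) ι) →* T (stdπ G) :=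
    ((cor (stdπ G) (P : Subgroup G) ι).comp (T (πU (stdπ G) (P : Subgroup G) ι)).subtype).codRestrict _
      (fun z => cor_mem_T (stdπ G) (P : Subgroup G) ι z.2)
  have hf₀ : ∀ z : T (stdπ G), f₀ (g z) = z ^ (P : Subgroup G).index := by
    intro z
    apply Subtype.ext
    rw [Subgroup.coe_pow]
    exact hg z
  have hidx : ¬ p ∣ (P : Subgroup G).index := P.not_dvd_index
  apply exists_direct_factor p (P : Subgroup G).index hidx hBp
    ((eA.toMonoidHom.comp f₀).comp eB.symm.toMonoidHom)
    ((eB.toMonoidHom.comp g).comp eA.symm.toMonoidHom)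
  intro a
  show eA (f₀ (eB.symm (eB (g (eA.symm a))))) = a ^ (P : Subgroup G).index
  rw [eB.symm_apply_apply, hf₀, map_pow, eA.apply_symm_apply]

end Cfsg.Agent.S3953
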