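import Cfsg.Statements.S3954
import Cfsg.Agent.Lib.Helper66_SchurMain
import Cfsg.Agent.Lib.Helper66_SchurSub

set_option autoImplicit false
open Cfsg

namespace Cfsg.Agent.S3954

open Cfsg.Agent.Lib.Helper66_SchurMain Cfsg.Agent.Lib.Helper66_SchurCore
  Cfsg.Agent.Lib.Helper66_SchurSub

/-- the ranges of the power maps correspond under an isomorphism -/
theorem powRangeEquiv {A A' : Type*} [CommGroup A] [CommGroup A'] (e : A ≃* A') (m : ℕ) :
    Nonempty ((powMonoidHom m : A →* A).range ≃* (powMonoidHom m : A' →* A').range) := by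
  have h : (powMonoidHom m : A →* A).range.map e.toMonoidHom = (powMonoidHom m : A' →* A').range := by
    ext x
    constructor
    · rintro ⟨_, ⟨a, rfl⟩, rfl⟩
      exact ⟨e a, by simp⟩
    · rintro ⟨a', rfl⟩
      exact ⟨e.symm a' ^ m, ⟨e.symm a', rfl⟩, by simp⟩
  exact ⟨((powMonoidHom m : A →* A).range.equivMapOfInjective e.toMonoidHom e.injective).trans
    (MulEquiv.subgroupCongr h)⟩

/-- Let `U` be a subgroup of index `m` in the finite group `G`, let `A` be the Schur multiplier of `G` and `B` that of `U`. Then the subgroup of `m`-th powers of `A` is isomorphic to a subgroup of `B`. -/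
theorem result {G : Type*} [Group G] [Finite G] (U : Subgroup G) {A B : Type*} [CommGroup A] [CommGroup B] (hA : Cfsg.HasSchurMultiplier G A) (hB : Cfsg.HasSchurMultiplier U B) : ∃ C : Subgroup B, Nonempty ((powMonoidHom U.index : A →* A).range ≃* C) := by
  classical
  obtain ⟨eA⟩ := mulEquiv_T_of_hasSchurMultiplier (stdπ G) (stdπ_surjective G) hA
  obtain ⟨eB⟩ := mulEquiv_T_of_hasSchurMultiplier (stdπ U) (stdπ_surjective U) hB
  have hBfin : Finite B := finite_multiplier hB
  have hρs := ρ_surjective (stdπ G) (stdπ_surjective G)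
  -- the preimage of `U` in `E`
  set V : Subgroup (E (stdπ G)) := U.comap (ρ (stdπ G)) with hV
  have hVi : V.index = U.index := Subgroup.index_comap_of_surjective U hρs
  have hVfi : V.FiniteIndex := ⟨by rw [hVi]; exact Subgroup.index_ne_zero_of_finite⟩
  let p : V →* U := ((ρ (stdπ G)).comp V.subtype).codRestrict U (fun v => v.2)
  have hp_apply : ∀ v : V, ((p v : U) : G) = ρ (stdπ G) v := fun v => rfl
  have hps : Function.Surjective p := by
    rintro ⟨u, hu⟩
    obtain ⟨e, rfl⟩ := hρs u
    exact ⟨⟨e, hu⟩, rfl⟩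
  have hpk : ∀ v : V, v ∈ p.ker ↔ (v : E (stdπ G)) ∈ (ρ (stdπ G)).ker := by
    intro v
    rw [MonoidHom.mem_ker, MonoidHom.mem_ker, ← hp_apply, Subtype.ext_iff]
    rfl
  have hpc : p.ker ≤ Subgroup.center V := by
    intro v hv
    have h1 := Subgroup.mem_center_iff.mp (ρ_ker_le_center (stdπ G) ((hpk v).mp hv))
    rw [Subgroup.mem_center_iff]
    intro y
    exact Subtype.ext (h1 y)
  obtain ⟨βU, hβU⟩ := exists_lift (stdπ U) p hps hpc
  have hmap := map_ker_inf_commutator (ρ (stdπ U)) (ρ_surjective (stdπ U) (stdπ_surjective U)) p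
    hpc βU hβU
  -- the target group `D`
  obtain ⟨D, hD⟩ : ∃ D : Subgroup V, D = p.ker ⊓ commutator V := ⟨_, rfl⟩
  rw [← hD] at hmap
  have hDc : D ≤ Subgroup.center V := by rw [hD]; exact inf_le_left.trans hpc
  let _ : CommGroup D :=
    { (inferInstance : Group D) with
      mul_comm := fun a b => Subtype.ext (by
        have := Subgroup.mem_center_iff.mp (hDc a.2) b
        exact this.symm) }
  -- `B` maps onto `D`
  let f0 : T (stdπ U) →* D := (βU.comp (T (stdπ U)).subtype).codRestrict D (fun t => by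
    rw [← hmap]
    exact Subgroup.mem_map_of_mem βU t.2)
  have hf0 : Function.Surjective f0 := by
    rintro ⟨d, hd⟩
    have hd' := hd
    rw [← hmap] at hd'
    obtain ⟨t, ht, rfl⟩ := hd'
    exact ⟨⟨t, ht⟩, rfl⟩
  let f : B →* D := f0.comp eB.symm.toMonoidHom
  have hf : Function.Surjective f := hf0.comp eB.symm.surjective
  -- the `m`-th powers of `T_G` lie in `D`
  have hmem : ∀ x : (powMonoidHom U.index : T (stdπ G) →* T (stdπ G)).range,
      ∃ hv : ((x : T (stdπ G)) : E (stdπ G)) ∈ V, (⟨_, hv⟩ : V) ∈ D := by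
    rintro ⟨x, t, rfl⟩
    have h1 : ((powMonoidHom U.index t : T (stdπ G)) : E (stdπ G)) = (t : E (stdπ G)) ^ V.index := by
      rw [hVi]; rfl
    have h2 := pow_index_mem_commutator V (t : E (stdπ G)) (T_le_center _ t.2)
      (T_le_commutator _ t.2)
    rw [← Subgroup.map_subtype_commutator] at h2
    obtain ⟨y, hy, hy'⟩ := h2
    have hy'' : (y : E (stdπ G)) = ((powMonoidHom U.index t : T (stdπ G)) : E (stdπ G)) :=
      hy'.trans h1.symm
    have h3 : ((powMonoidHom U.index t : T (stdπ G)) : E (stdπ G)) ∈ V := hy'' ▸ y.2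
    refine ⟨h3, ?_⟩
    have hyeq : y = ⟨_, h3⟩ := Subtype.ext hy''
    rw [hD]
    refine Subgroup.mem_inf.mpr ⟨?_, ?_⟩
    · rw [hpk]
      exact T_le_ker _ (powMonoidHom U.index t).2
    · rw [← hyeq]
      exact hy
  let J : (powMonoidHom U.index : T (stdπ G) →* T (stdπ G)).range →* D :=
    { toFun := fun x => ⟨⟨_, (hmem x).1⟩, (hmem x).2⟩
      map_one' := rfl
      map_mul' := fun _ _ => rfl }
  have hJ : Function.Injective J := by
    intro a b hab
    have := congrArg (fun d : D => ((d : V) : E (stdπ G))) hab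
    exact Subtype.ext (Subtype.ext this)
  obtain ⟨C, ⟨eC⟩⟩ := exists_subgroup_equiv f hf J.range
  obtain ⟨e1⟩ := powRangeEquiv eA.symm U.index
  exact ⟨C, ⟨(e1.trans (MonoidHom.ofInjective hJ)).trans eC⟩⟩

end Cfsg.Agent.S3954
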