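import Cfsg.Statements.S3955
import Cfsg.Agent.Lib.Helper66_SchurMain
import Cfsg.Agent.Lib.Helper66_SchurPullback
import Cfsg.Agent.Lib.Helper66_ProjRepB

set_option autoImplicit false
open Cfsg

namespace Cfsg.Agent.S3955

open Cfsg.Agent.Lib.Helper66_SchurMain Cfsg.Agent.Lib.Helper66_SchurCore
  Cfsg.Agent.Lib.Helper66_SchurPullback Cfsg.Agent.Lib.Helper66_ProjRepB

open scoped IsMulCommutative in
/-- Let `Q` be a finite group with Schur multiplier `A`, and let `σ : Γ →* Q` be a finite stem extension whose kernel is isomorphic to `A` (a Schur covering group of `Q`). Then every homomorphism `γ` from `Q` to the quotient of `GL n ℂ` by its centre lifts along `σ`: there is a homomorphism `ρ : Γ →* GL n ℂ` which, followed by the quotient map, equals `γ ∘ σ`. -/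
theorem result {Q : Type*} [Group Q] [Finite Q] {A : Type*} [CommGroup A] (hA : Cfsg.HasSchurMultiplier Q A) {Γ : Type*} [Group Γ] [Finite Γ] (σ : Γ →* Q) (hσ : Cfsg.IsStemExtension σ) (hk : Nonempty (σ.ker ≃* A)) (n : ℕ) (γ : Q →* (GL (Fin n) ℂ ⧸ Subgroup.center (GL (Fin n) ℂ))) : ∃ ρ : Γ →* GL (Fin n) ℂ, (QuotientGroup.mk' (Subgroup.center (GL (Fin n) ℂ))).comp ρ = γ.comp σ := by
  set mk := QuotientGroup.mk' (Subgroup.center (GL (Fin n) ℂ)) with hmk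
  have hmks : Function.Surjective mk := QuotientGroup.mk'_surjective _
  have hmkk : mk.ker = Subgroup.center (GL (Fin n) ℂ) := QuotientGroup.ker_mk' _
  -- the central extension of `Q` by the scalars
  have hp₁s : Function.Surjective (p₁ γ mk) := p₁_surjective γ mk hmks
  have hp₁c : (p₁ γ mk).ker ≤ Subgroup.center (PB γ mk) := ker_p₁_le_center γ mk (hmkk.le)
  obtain ⟨β, hβ⟩ := exists_lift (stdπ Q) (p₁ γ mk) hp₁s hp₁c
  obtain ⟨βΓ, hβΓ⟩ := exists_lift (stdπ Q) σ hσ.1 hσ.2.1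
  have hρs := ρ_surjective (stdπ Q) (stdπ_surjective Q)
  have hβΓs : Function.Surjective βΓ := surjective_of_stem (ρ (stdπ Q)) hρs σ hσ βΓ hβΓ
  -- `βΓ` is injective on `T`
  obtain ⟨f, hfs, hf⟩ := exists_surjective_of_stem (ρ (stdπ Q)) hρs σ hσ βΓ hβΓ
  obtain ⟨eT⟩ := mulEquiv_T_of_hasSchurMultiplier (stdπ Q) (stdπ_surjective Q) hA
  obtain ⟨ek⟩ := hk
  have hfb : Function.Bijective f :=
    mulEquiv_of_surjective_of_surjective (A := T (stdπ Q)) f hfs (eT.trans ek.symm).symm.toMonoidHom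
      (eT.trans ek.symm).symm.surjective
  -- the kernel of `βΓ` meets `E'` trivially
  have hN : βΓ.ker ⊓ commutator (E (stdπ Q)) = ⊥ := by
    rw [eq_bot_iff]
    intro e he
    obtain ⟨he1, he2⟩ := Subgroup.mem_inf.mp he
    have he3 : e ∈ (ρ (stdπ Q)).ker := by
      rw [MonoidHom.mem_ker, ← hβΓ, MonoidHom.comp_apply, MonoidHom.mem_ker.mp he1, map_one]
    have heT : e ∈ (ρ (stdπ Q)).ker ⊓ commutator (E (stdπ Q)) := Subgroup.mem_inf.mpr ⟨he3, he2⟩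
    have h1 : f ⟨e, heT⟩ = 1 := Subtype.ext (by rw [hf]; exact he1)
    have h2 : (⟨e, heT⟩ : ↥((ρ (stdπ Q)).ker ⊓ commutator (E (stdπ Q)))) = 1 :=
      hfb.1 (h1.trans (map_one f).symm)
    rw [Subgroup.mem_bot]
    exact congrArg Subtype.val h2
  -- the character to be cancelled
  have hcen : ∀ x : βΓ.ker, p₂ γ mk (β x) ∈ Subgroup.center (GL (Fin n) ℂ) := by
    intro x
    have h : p₂ γ mk (β x) ∈ mk.ker := by
      have h3 : p₁ γ mk (β x) = 1 := by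
        rw [← MonoidHom.comp_apply, hβ, ← hβΓ, MonoidHom.comp_apply, MonoidHom.mem_ker.mp x.2,
          map_one]
      rw [MonoidHom.mem_ker, ← comm γ mk, h3, map_one]
    exact hmkk.le h
  let lam0 : βΓ.ker →* Subgroup.center (GL (Fin n) ℂ) :=
    (((p₂ γ mk).comp β).comp βΓ.ker.subtype).codRestrict _ hcen
  obtain ⟨χ, hχ⟩ := exists_extension_of_rootable βΓ.ker hN (center_GL_rootable n) lam0⁻¹
  -- the corrected lift
  let β' : E (stdπ Q) →* GL (Fin n) ℂ := MonoidHom.mk' (fun e => p₂ γ mk (β e) * (χ e : GL (Fin n) ℂ)) (by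
    intro a b
    have hc := Subgroup.mem_center_iff.mp (χ a).2
    rw [map_mul, map_mul, map_mul, Subgroup.coe_mul]
    calc p₂ γ mk (β a) * p₂ γ mk (β b) * ((χ a : GL (Fin n) ℂ) * (χ b : GL (Fin n) ℂ))
        = p₂ γ mk (β a) * (p₂ γ mk (β b) * (χ a : GL (Fin n) ℂ)) * (χ b : GL (Fin n) ℂ) := by group
      _ = p₂ γ mk (β a) * ((χ a : GL (Fin n) ℂ) * p₂ γ mk (β b)) * (χ b : GL (Fin n) ℂ) := by rw [hc]
      _ = p₂ γ mk (β a) * (χ a : GL (Fin n) ℂ) * (p₂ γ mk (β b) * (χ b : GL (Fin n) ℂ)) := by group)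
  have hβ'k : βΓ.ker ≤ β'.ker := by
    intro x hx
    rw [MonoidHom.mem_ker]
    change p₂ γ mk (β x) * (χ x : GL (Fin n) ℂ) = 1
    have h1 := hχ ⟨x, hx⟩
    have h2 : ((lam0⁻¹ ⟨x, hx⟩ : Subgroup.center (GL (Fin n) ℂ)) : GL (Fin n) ℂ) = (p₂ γ mk (β x))⁻¹ := rfl
    rw [h1, h2, mul_inv_cancel]
  let ρ' : Γ →* GL (Fin n) ℂ := βΓ.liftOfRightInverse (Function.surjInv hβΓs)
    (Function.rightInverse_surjInv hβΓs) ⟨β', hβ'k⟩
  have hρ' : ∀ e, ρ' (βΓ e) = β' e := fun e =>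
    MonoidHom.liftOfRightInverse_comp_apply _ _ (Function.rightInverse_surjInv hβΓs) ⟨β', hβ'k⟩ e
  refine ⟨ρ', ?_⟩
  ext g
  obtain ⟨e, rfl⟩ := hβΓs g
  rw [MonoidHom.comp_apply, MonoidHom.comp_apply, hρ']
  change mk (p₂ γ mk (β e) * (χ e : GL (Fin n) ℂ)) = γ (σ (βΓ e))
  have h1 : mk (χ e : GL (Fin n) ℂ) = 1 := MonoidHom.mem_ker.mp (hmkk.ge (χ e).2)
  have h4 : p₁ γ mk (β e) = σ (βΓ e) := by
    rw [← MonoidHom.comp_apply, hβ, ← hβΓ, MonoidHom.comp_apply]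
  rw [map_mul, h1, mul_one, ← comm γ mk, h4]

end Cfsg.Agent.S3955
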