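import Cfsg.Statements.S3956
import Cfsg.Agent.Lib.Helper66_SchurPullback
import Cfsg.Agent.Lib.Helper66_ProjRepA

set_option autoImplicit false
universe u v
open Cfsg

namespace Cfsg.Agent.S3956

open Cfsg.Agent.Lib.Helper66_SchurPullback Cfsg.Agent.Lib.Helper66_ProjRepA

/-- Let `σ : Γ →* Q` be a finite stem extension of the finite group `Q` such that every homomorphism from `Q` to the quotient of `GL n ℂ` by its centre, for every `n`, lifts along `σ` to a homomorphism `Γ →* GL n ℂ`. Then `σ` is a Schur covering group of `Q`: for every finite stem extension `τ : Δ →* Q` with `Δ` in the same universe as `Q`, the kernel of `τ` is a homomorphic image of the kernel of `σ`. -/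
theorem result {Q : Type u} [Group Q] [Finite Q] {Γ : Type v} [Group Γ] [Finite Γ] (σ : Γ →* Q) (hσ : Cfsg.IsStemExtension σ) (hlift : ∀ (n : ℕ) (γ : Q →* (GL (Fin n) ℂ ⧸ Subgroup.center (GL (Fin n) ℂ))), ∃ ρ : Γ →* GL (Fin n) ℂ, (QuotientGroup.mk' (Subgroup.center (GL (Fin n) ℂ))).comp ρ = γ.comp σ) (Δ : Type u) [Group Δ] [Finite Δ] (τ : Δ →* Q) (hτ : Cfsg.IsStemExtension τ) : ∃ π : σ.ker →* τ.ker, Function.Surjective π := by
  apply exists_surjective_ker σ τ hσ hτ
  rw [eq_bot_iff]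
  intro k₀ hk₀
  rw [Subgroup.mem_bot]
  by_contra hne
  obtain ⟨hk1, hk2⟩ := Subgroup.mem_inf.mp hk₀
  -- the central subgroup `KP = ker (P → Q)`
  set KP : Subgroup (PB σ τ) := (σ.comp (p₁ σ τ)).ker with hKP
  have hKPc : KP ≤ Subgroup.center (PB σ τ) := ker_comp_le_center σ τ hσ.2.1 hτ.2.1
  have hk₀KP : k₀ ∈ KP := by
    rw [hKP, MonoidHom.mem_ker, MonoidHom.comp_apply, MonoidHom.mem_ker.mp hk1, map_one]
  have hfinP : Finite (PB σ τ) := inferInstance
  have hfi : KP.FiniteIndex := inferInstance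
  let _ : CommGroup KP :=
    { (inferInstance : Group KP) with
      mul_comm := fun a b => Subtype.ext (by
        have := Subgroup.mem_center_iff.mp (hKPc a.2) b
        exact this.symm) }
  have hne' : (⟨k₀, hk₀KP⟩ : KP) ≠ 1 := fun h => hne (congrArg Subtype.val h)
  obtain ⟨lam, hlam⟩ : ∃ φ : KP →* ℂˣ, φ ⟨k₀, hk₀KP⟩ ≠ 1 := by
    have h0 : Monoid.exponent KP ≠ 0 := Monoid.exponent_ne_zero_of_finite
    have : NeZero ((Monoid.exponent KP : ℕ) : ℂ) := ⟨by exact_mod_cast h0⟩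
    exact CommGroup.exists_apply_ne_one_of_hasEnoughRootsOfUnity KP ℂ hne'
  obtain ⟨ρ, hρ⟩ := exists_rep_of_central_character KP hKPc lam
  have hm0' : 0 < KP.index := Nat.pos_of_ne_zero Subgroup.FiniteIndex.index_ne_zero
  generalize hm : KP.index = m at ρ hρ hm0'
  have hm0 : 0 < m := hm0'
  -- the induced projective representation of `Q`
  have hsurj : Function.Surjective (σ.comp (p₁ σ τ)) := hσ.1.comp (p₁_surjective σ τ hτ.1)
  have hker : (σ.comp (p₁ σ τ)).ker ≤
      ((QuotientGroup.mk' (Subgroup.center (GL (Fin m) ℂ))).comp ρ).ker := by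
    intro x hx
    rw [MonoidHom.mem_ker, MonoidHom.comp_apply, hρ ⟨x, hx⟩]
    exact mk_scalar_eq_one m _
  let γ : Q →* (GL (Fin m) ℂ ⧸ Subgroup.center (GL (Fin m) ℂ)) :=
    (σ.comp (p₁ σ τ)).liftOfRightInverse (Function.surjInv hsurj)
      (Function.rightInverse_surjInv hsurj)
      ⟨(QuotientGroup.mk' (Subgroup.center (GL (Fin m) ℂ))).comp ρ, hker⟩
  have hγ : γ.comp (σ.comp (p₁ σ τ)) = (QuotientGroup.mk' (Subgroup.center (GL (Fin m) ℂ))).comp ρ := by
    ext x
    exact MonoidHom.liftOfRightInverse_comp_apply _ _ (Function.rightInverse_surjInv hsurj)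
      ⟨(QuotientGroup.mk' (Subgroup.center (GL (Fin m) ℂ))).comp ρ, hker⟩ x
  obtain ⟨ρ', hρ'⟩ := hlift m γ
  have heq : (QuotientGroup.mk' (Subgroup.center (GL (Fin m) ℂ))).comp ρ =
      (QuotientGroup.mk' (Subgroup.center (GL (Fin m) ℂ))).comp (ρ'.comp (p₁ σ τ)) := by
    rw [← MonoidHom.comp_assoc, hρ', ← hγ, MonoidHom.comp_assoc]
  have h1 := eq_on_commutator_of_proj_eq m ρ (ρ'.comp (p₁ σ τ)) heq hk2
  rw [MonoidHom.comp_apply, MonoidHom.mem_ker.mp hk1, map_one, hρ ⟨k₀, hk₀KP⟩] at h1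
  have h2 : lam ⟨k₀, hk₀KP⟩ = 1 := by
    apply scalar_injective m hm0
    rw [h1, map_one]
  exact hlam h2

end Cfsg.Agent.S3956
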