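import Cfsg.Statements.S3959
import Cfsg.Agent.Lib.Helper66_SchurCore
import Cfsg.Agent.Lib.Helper66_SchurMain
import Cfsg.Agent.Lib.Helper66_BiMulExtG
import Cfsg.Agent.Lib.Helper66_SchurProdCover
import Cfsg.Agent.Lib.Helper66_SchurProdUpper

set_option autoImplicit false
universe u v w
open Cfsg

namespace Cfsg.Agent.S3959

open Cfsg.Agent.Lib.Helper66_SchurCore Cfsg.Agent.Lib.Helper66_SchurMain
  Cfsg.Agent.Lib.Helper66_BiMulExtG Cfsg.Agent.Lib.Helper66_SchurProdCover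
  Cfsg.Agent.Lib.Helper66_SchurProdUpper

/-- Let `Q₁` and `Q₂` be finite groups with Schur multipliers `A` and `B`. Then the Schur multiplier of `Q₁ × Q₂` is isomorphic to `A × B × (Q₁ᵃᵇ ⊗ Q₂ᵃᵇ)`, the last factor being the tensor product over the integers of the commutator quotients, written multiplicatively. -/
theorem result {Q₁ : Type u} {Q₂ : Type v} [Group Q₁] [Group Q₂] [Finite Q₁] [Finite Q₂] {A B : Type w} [CommGroup A] [CommGroup B] (hA : Cfsg.HasSchurMultiplier Q₁ A) (hB : Cfsg.HasSchurMultiplier Q₂ B) : Cfsg.HasSchurMultiplier (Q₁ × Q₂) (A × B × Multiplicative (TensorProduct ℤ (Additive (Abelianization Q₁)) (Additive (Abelianization Q₂)))) := by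
  constructor
  · obtain ⟨G₁, _, _, τ₁, hτ₁, ⟨k₁⟩⟩ := hA.1
    obtain ⟨G₂, _, _, τ₂, hτ₂, ⟨k₂⟩⟩ := hB.1
    refine ⟨Cov τ₁ τ₂, inferInstance, inferInstance, cov τ₁ τ₂, isStemExtension_cov τ₁ τ₂ hτ₁ hτ₂,
      ⟨(kerCovEquiv τ₁ τ₂).trans (MulEquiv.prodCongr k₁ (MulEquiv.prodCongr k₂ (MulEquiv.refl _)))⟩⟩
  · intro Γ _ _ σ hσ
    obtain ⟨e₁⟩ := mulEquiv_T_of_hasSchurMultiplier (stdπ Q₁) (stdπ_surjective Q₁) hA
    obtain ⟨e₂⟩ := mulEquiv_T_of_hasSchurMultiplier (stdπ Q₂) (stdπ_surjective Q₂) hB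
    obtain ⟨F, hF⟩ := exists_surjective_ker_prod σ hσ (stdπ Q₁) (stdπ_surjective Q₁) (stdπ Q₂)
      (stdπ_surjective Q₂)
    let E := (MulEquiv.prodCongr e₁ (MulEquiv.prodCongr e₂ (MulEquiv.refl (Multiplicative
      (TensorProduct ℤ (Additive (Abelianization Q₁)) (Additive (Abelianization Q₂))))))).symm
    exact ⟨F.comp E.toMonoidHom, hF.comp E.surjective⟩

end Cfsg.Agent.S3959
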