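import Cfsg.Statements.S3961
import Cfsg.Agent.Lib.Helper66_SchurPerfect

set_option autoImplicit false
universe u v
open Cfsg

namespace Cfsg.Agent.S3961

open Cfsg.Agent.Lib.Helper66_SchurMain Cfsg.Agent.Lib.Helper66_SchurCore
  Cfsg.Agent.Lib.Helper66_SchurPerfect Cfsg.Agent.Lib.Helper66_SchurTriv

/-- Let `π : G →* Q` be a surjective homomorphism with central kernel from a finite perfect group `G` (a perfect cover of `Q`). Then `π` is universal, in the sense that every surjective homomorphism `ξ : X →* Q` with central kernel from a group `X` in the universe of `G` admits a homomorphism `η : G →* X` with `ξ ∘ η = π`, if and only if `G` has trivial Schur multiplier. -/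
theorem result {G : Type u} {Q : Type v} [Group G] [Group Q] [Finite G] (hG : Group.IsPerfect G) (π : G →* Q) (hπ : Function.Surjective π) (hker : π.ker ≤ Subgroup.center G) : (∀ (X : Type u) [Group X] (ξ : X →* Q), Function.Surjective ξ → ξ.ker ≤ Subgroup.center X → ∃ η : G →* X, ξ.comp η = π) ↔ Cfsg.HasCyclicSchurMultiplier G 1 := by
  constructor
  · intro huniv
    have hperf := isPerfect_commutator_E (stdπ G) hG (stdπ_surjective G)
    have hσs := ρ'_surjective (stdπ G) hG (stdπ_surjective G)
    have hσc := ρ'_ker_le_center (stdπ G)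
    set σ := ρ' (stdπ G) with hσdef
    have hc : (π.comp σ).ker ≤ Subgroup.center (commutator (E (stdπ G))) :=
      ker_comp_le_center hperf σ hσs hσc π hker
    obtain ⟨η, hη⟩ := huniv (commutator (E (stdπ G))) (π.comp σ) (hπ.comp hσs) hc
    have h1 : σ.comp η = MonoidHom.id G := by
      apply hom_eq_of_perfect hG π hker
      rw [← MonoidHom.comp_assoc, hη, MonoidHom.comp_id]
    have h2 : η.comp σ = MonoidHom.id _ := by
      apply hom_eq_of_perfect hperf σ hσc
      rw [← MonoidHom.comp_assoc, h1, MonoidHom.id_comp, MonoidHom.comp_id]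
    apply hasCyclicSchurMultiplier_one_of_T_eq_bot (stdπ G) (stdπ_surjective G)
    rw [eq_bot_iff]
    intro t ht
    have ht' : (⟨t, T_le_commutator _ ht⟩ : commutator (E (stdπ G))) ∈ σ.ker :=
      (mem_ρ'_ker_iff (stdπ G) _).mpr ht
    have h3 := DFunLike.congr_fun h2 ⟨t, T_le_commutator _ ht⟩
    rw [MonoidHom.comp_apply, MonoidHom.mem_ker.mp ht', map_one, MonoidHom.id_apply] at h3
    rw [Subgroup.mem_bot]
    exact (congrArg Subtype.val h3).symm
  · intro hM X _ ξ hξ hξc
    -- the pullback
    let P : Subgroup (G × X) := (π.comp (MonoidHom.fst G X)).eqLocus (ξ.comp (MonoidHom.snd G X))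
    let p₁ : P →* G := (MonoidHom.fst G X).comp P.subtype
    let p₂ : P →* X := (MonoidHom.snd G X).comp P.subtype
    have hP : ∀ x : P, π (p₁ x) = ξ (p₂ x) := fun x => x.2
    have hp₁ : Function.Surjective p₁ := by
      intro g
      obtain ⟨d, hd⟩ := hξ (π g)
      exact ⟨⟨(g, d), hd.symm⟩, rfl⟩
    have hc₁ : p₁.ker ≤ Subgroup.center P := by
      intro x hx
      have h1 : p₁ x = 1 := hx
      have h2 : p₂ x ∈ ξ.ker := by
        rw [MonoidHom.mem_ker, ← hP, h1, map_one]
      have h3 := Subgroup.mem_center_iff.mp (hξc h2)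
      rw [Subgroup.mem_center_iff]
      intro y
      apply Subtype.ext
      apply Prod.ext
      · change p₁ y * p₁ x = p₁ x * p₁ y
        rw [h1, mul_one, one_mul]
      · exact h3 (p₂ y)
    have htriv : p₁.ker ⊓ commutator P = ⊥ := ker_inf_commutator_eq_bot hM p₁ hp₁ hc₁
    have hm₁ : (commutator P).map p₁ = ⊤ := by
      rw [commutator_def, Subgroup.map_commutator, ← MonoidHom.range_eq_map,
        MonoidHom.range_eq_top_of_surjective _ hp₁, ← commutator_def]
      exact Group.isPerfect_def.mp hG
    let f : commutator P →* G := p₁.comp (commutator P).subtype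
    have hfi : Function.Injective f := by
      rw [injective_iff_map_eq_one]
      intro w hw
      have h2 : (w : P) ∈ p₁.ker ⊓ commutator P := Subgroup.mem_inf.mpr ⟨hw, w.2⟩
      rw [htriv, Subgroup.mem_bot] at h2
      exact Subtype.ext h2
    have hfs : Function.Surjective f := by
      intro g
      have h1 : g ∈ (commutator P).map p₁ := hm₁ ▸ Subgroup.mem_top g
      obtain ⟨y, hy, rfl⟩ := h1
      exact ⟨⟨y, hy⟩, rfl⟩
    let e := MulEquiv.ofBijective f ⟨hfi, hfs⟩
    refine ⟨(p₂.comp (commutator P).subtype).comp e.symm.toMonoidHom, ?_⟩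
    ext g
    have h1 : f (e.symm g) = g := e.apply_symm_apply g
    change ξ (p₂ (e.symm g : P)) = π g
    rw [← hP]
    exact congrArg π h1

end Cfsg.Agent.S3961
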