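import Cfsg.Statements.S3963
import Cfsg.Agent.Lib.Helper66_Stem
import Cfsg.Agent.Lib.Helper66_QuaternionStem
import Mathlib

set_option autoImplicit false
open Cfsg

namespace Cfsg.Agent.S3963

open Cfsg.Agent.Lib.Helper66_Stem Cfsg.Agent.Lib.Helper66_QuaternionStem

/-- For every `n ≥ 1` the dicyclic (generalized quaternion) group of order `4 n` has trivial Schur multiplier. -/
theorem result (n : ℕ) [NeZero n] : Cfsg.HasCyclicSchurMultiplier (QuaternionGroup n) 1 := by
  apply hasCyclicSchurMultiplier_one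
  intro Γ _ _ σ hσ
  obtain ⟨c, hc, hcn, hσc⟩ := quaternion_stem σ hσ
  rw [eq_bot_iff]
  intro z hz
  rw [Subgroup.mem_bot]
  obtain ⟨j, rfl⟩ := hc z hz
  have h1 : σ (c ^ j) = 1 := MonoidHom.mem_ker.mp hz
  -- `σ c ^ j = a (-2 j)`
  have hpow : ∀ (i : ZMod (2 * n)) (k : ℤ), (QuaternionGroup.a i : QuaternionGroup n) ^ k = QuaternionGroup.a (i * (k : ZMod (2 * n))) := by
    intro i k
    induction k using Int.induction_on with
    | zero => simp
    | succ k ih =>
      rw [zpow_add_one, ih, QuaternionGroup.a_mul_a]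
      congr 1; push_cast; ring
    | pred k ih =>
      rw [zpow_sub_one, ih, inv_a, QuaternionGroup.a_mul_a]
      congr 1; push_cast; ring
  rw [map_zpow, hσc, hpow, QuaternionGroup.one_def] at h1
  have h2 : (-2 : ZMod (2 * n)) * (j : ZMod (2 * n)) = 0 := by injection h1
  have h3 : ((-2 * j : ℤ) : ZMod (2 * n)) = 0 := by push_cast; exact h2
  rw [ZMod.intCast_zmod_eq_zero_iff_dvd] at h3
  have h4 : (n : ℤ) ∣ j := by
    obtain ⟨t, ht⟩ := h3
    refine ⟨-t, ?_⟩
    push_cast at ht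
    linarith
  obtain ⟨i, rfl⟩ := h4
  rw [zpow_mul, zpow_natCast, hcn, one_zpow]
end Cfsg.Agent.S3963
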