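import Cfsg.Statements.S3964
import Cfsg.Agent.Lib.Helper59_Stem

set_option autoImplicit false
open Cfsg

namespace Cfsg.Agent.S3964

open Cfsg.Agent.Lib.Helper59_Stem

/-- For odd `n` the dihedral group of order `2 n` has trivial Schur multiplier. -/
theorem result (n : ℕ) (hn : Odd n) : Cfsg.HasCyclicSchurMultiplier (DihedralGroup n) 1 := by
  have hn0 : n ≠ 0 := by
    rintro rfl
    exact (by decide : ¬ Odd 0) hn
  have : NeZero n := ⟨hn0⟩
  have hcard : Nat.card (DihedralGroup n) = 2 * n := DihedralGroup.nat_card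
  -- the rotation subgroup and a reflection subgroup
  set L₁ := Subgroup.zpowers (DihedralGroup.r 1 : DihedralGroup n) with hL₁
  set L₂ := Subgroup.zpowers (DihedralGroup.sr 0 : DihedralGroup n) with hL₂
  have hc1 : Nat.card L₁ = n := by
    rw [hL₁, Nat.card_zpowers, DihedralGroup.orderOf_r_one]
  have hc2 : Nat.card L₂ = 2 := by
    rw [hL₂, Nat.card_zpowers, DihedralGroup.orderOf_sr]
  have hi1 : L₁.index = 2 := by
    have := L₁.index_mul_card
    rw [hc1, hcard] at this
    have hpos : 0 < n := Nat.pos_of_ne_zero hn0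
    exact Nat.eq_of_mul_eq_mul_right hpos this
  have hi2 : L₂.index = n := by
    have := L₂.index_mul_card
    rw [hc2, hcard] at this
    omega
  apply hasCyclicSchurMultiplier_one_of_coprime L₁ L₂
  rw [hi1, hi2]
  exact (Nat.coprime_two_left).2 hn

end Cfsg.Agent.S3964
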