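import Cfsg.Statements.S3966
import Mathlib

set_option autoImplicit false
open Cfsg

namespace Cfsg.Agent.S3966

open QuaternionGroup DihedralGroup
open scoped commutatorElement

/-- reduction `ZMod (2 n) → ZMod n` -/
noncomputable def red (n : ℕ) : ZMod (2 * n) →+* ZMod n :=
  ZMod.castHom (Dvd.intro_left 2 rfl) (ZMod n)

theorem red_n (n : ℕ) : red n (n : ZMod (2 * n)) = 0 := by
  simp [red]

/-- the underlying function of the covering map -/
noncomputable def covFun (n : ℕ) : QuaternionGroup n → DihedralGroup n
  | QuaternionGroup.a i => DihedralGroup.r (red n i)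
  | QuaternionGroup.xa i => DihedralGroup.sr (red n i)

/-- the covering map `QuaternionGroup n →* DihedralGroup n` -/
noncomputable def cov (n : ℕ) : QuaternionGroup n →* DihedralGroup n where
  toFun := covFun n
  map_one' := by
    rw [QuaternionGroup.one_def]
    show DihedralGroup.r (red n 0) = 1
    rw [map_zero, DihedralGroup.r_zero]
  map_mul' := by
    rintro (i | i) (j | j)
    · simp [covFun, QuaternionGroup.a_mul_a, DihedralGroup.r_mul_r]
    · simp [covFun, QuaternionGroup.a_mul_xa, DihedralGroup.r_mul_sr]
    · simp [covFun, QuaternionGroup.xa_mul_a, DihedralGroup.sr_mul_r]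
    · simp only [covFun, QuaternionGroup.xa_mul_xa, DihedralGroup.sr_mul_sr, map_add, map_sub,
        red_n, zero_add]

theorem cov_surjective (n : ℕ) : Function.Surjective (cov n) := by
  have hs : Function.Surjective (red n) := ZMod.ringHom_surjective _
  rintro (i | i)
  · obtain ⟨k, rfl⟩ := hs i
    exact ⟨QuaternionGroup.a k, rfl⟩
  · obtain ⟨k, rfl⟩ := hs i
    exact ⟨QuaternionGroup.xa k, rfl⟩

theorem red_eq_zero {n : ℕ} [NeZero n] (i : ZMod (2 * n)) (h : red n i = 0) :
    i = 0 ∨ i = (n : ZMod (2 * n)) := by
  have : NeZero (2 * n) := ⟨by have := NeZero.ne n; omega⟩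
  have h1 : ((i.val : ℕ) : ZMod n) = 0 := by
    have h0 : red n ((i.val : ℕ) : ZMod (2 * n)) = 0 := by rw [ZMod.natCast_zmod_val]; exact h
    rwa [map_natCast] at h0
  rw [ZMod.natCast_eq_zero_iff] at h1
  have h2 : i.val < 2 * n := ZMod.val_lt i
  obtain ⟨c, hc⟩ := h1
  have hc2 : c = 0 ∨ c = 1 := by
    have hn : 0 < n := Nat.pos_of_ne_zero (NeZero.ne n)
    have : c < 2 := by
      by_contra hcc
      replace hcc := not_lt.mp hcc
      have : 2 * n ≤ n * c := by nlinarith
      omega
    omega
  rcases hc2 with rfl | rfl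
  · left
    have : i.val = 0 := by simpa using hc
    exact (ZMod.val_eq_zero i).mp this
  · right
    have : i.val = n := by simpa using hc
    rw [← ZMod.natCast_zmod_val i, this]

theorem mem_ker_iff {n : ℕ} [NeZero n] (x : QuaternionGroup n) :
    x ∈ (cov n).ker ↔ x = 1 ∨ x = QuaternionGroup.a (n : ZMod (2 * n)) := by
  rw [MonoidHom.mem_ker]
  constructor
  · intro h
    rcases x with i | i
    · have h1 : DihedralGroup.r (red n i) = 1 := h
      rw [DihedralGroup.one_def] at h1
      have h2 : red n i = 0 := by injection h1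
      rcases red_eq_zero i h2 with rfl | rfl
      · left; exact QuaternionGroup.a_zero
      · right; rfl
    · have h1 : DihedralGroup.sr (red n i) = 1 := h
      rw [DihedralGroup.one_def] at h1
      cases h1
  · rintro (rfl | rfl)
    · exact map_one _
    · show DihedralGroup.r (red n (n : ZMod (2 * n))) = 1
      rw [red_n, DihedralGroup.r_zero]

theorem two_n_zero (n : ℕ) : (n : ZMod (2 * n)) + n = 0 := by
  have : ((2 * n : ℕ) : ZMod (2 * n)) = 0 := ZMod.natCast_self (2 * n)
  rw [← this]
  push_cast
  ring

theorem a_n_central (n : ℕ) : QuaternionGroup.a (n : ZMod (2 * n)) ∈ Subgroup.center (QuaternionGroup n) := by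
  rw [Subgroup.mem_center_iff]
  have h2 := two_n_zero n
  rintro (j | j)
  · rw [QuaternionGroup.a_mul_a, QuaternionGroup.a_mul_a, add_comm]
  · rw [QuaternionGroup.a_mul_xa, QuaternionGroup.xa_mul_a]
    congr 1
    have : (n : ZMod (2 * n)) = -(n : ZMod (2 * n)) := eq_neg_of_add_eq_zero_left h2
    rw [sub_eq_add_neg, ← this]

theorem a_n_mem_commutator (n : ℕ) (hn : Even n) :
    QuaternionGroup.a (n : ZMod (2 * n)) ∈ commutator (QuaternionGroup n) := by
  obtain ⟨m, hm⟩ := hn
  have h2 := two_n_zero n
  have key : ⁅(QuaternionGroup.xa 0 : QuaternionGroup n), QuaternionGroup.a (-(m : ZMod (2 * n)))⁆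
      = QuaternionGroup.a (n : ZMod (2 * n)) := by
    rw [commutatorElement_def]
    have hinv1 : (QuaternionGroup.xa 0 : QuaternionGroup n)⁻¹ = QuaternionGroup.xa (n : ZMod (2 * n)) := by
      rw [inv_eq_iff_mul_eq_one, QuaternionGroup.xa_mul_xa, QuaternionGroup.one_def]
      congr 1
      rw [sub_zero]; exact h2
    have hinv2 : (QuaternionGroup.a (-(m : ZMod (2 * n))) : QuaternionGroup n)⁻¹ = QuaternionGroup.a (m : ZMod (2 * n)) := by
      rw [inv_eq_iff_mul_eq_one, QuaternionGroup.a_mul_a, QuaternionGroup.one_def]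
      congr 1
      ring
    rw [hinv1, hinv2, QuaternionGroup.xa_mul_a, QuaternionGroup.xa_mul_xa, QuaternionGroup.a_mul_a]
    congr 1
    have hnm : (n : ZMod (2 * n)) = (m : ZMod (2 * n)) + m := by rw [hm]; push_cast; ring
    calc (n : ZMod (2 * n)) + n - (0 + -(m : ZMod (2 * n))) + m
        = ((n : ZMod (2 * n)) + n) + (m + m) := by ring
      _ = n := by rw [h2, ← hnm, zero_add]
  rw [← key]
  exact Subgroup.commutator_mem_commutator (Subgroup.mem_top _) (Subgroup.mem_top _)

/-- For even `n ≥ 2` the dicyclic group of order `4 n` is a stem extension of the dihedral group of order `2 n` with kernel of order `2`: there is a surjective homomorphism `QuaternionGroup n →* DihedralGroup n` whose kernel is central, lies in the commutator subgroup and has two elements. Together with the order of the multiplier this exhibits the dicyclic group as a Schur covering group of the dihedral group. -/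
theorem result (n : ℕ) [NeZero n] (hn : Even n) : ∃ σ : QuaternionGroup n →* DihedralGroup n, Cfsg.IsStemExtension σ ∧ Nat.card σ.ker = 2 := by
  refine ⟨cov n, ⟨cov_surjective n, ?_, ?_⟩, ?_⟩
  · intro x hx
    rcases (mem_ker_iff x).mp hx with rfl | rfl
    · exact Subgroup.one_mem _
    · exact a_n_central n
  · intro x hx
    rcases (mem_ker_iff x).mp hx with rfl | rfl
    · exact Subgroup.one_mem _
    · exact a_n_mem_commutator n hn
  · have h1 : Nat.card (QuaternionGroup n) = Nat.card (QuaternionGroup n ⧸ (cov n).ker) * Nat.card (cov n).ker :=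
      Subgroup.card_eq_card_quotient_mul_card_subgroup _
    have h2 : Nat.card (QuaternionGroup n ⧸ (cov n).ker) = Nat.card (DihedralGroup n) :=
      Nat.card_congr (QuotientGroup.quotientKerEquivOfSurjective (cov n) (cov_surjective n)).toEquiv
    rw [h2, DihedralGroup.nat_card, Nat.card_eq_fintype_card, QuaternionGroup.card] at h1
    have hn0 : 0 < n := Nat.pos_of_ne_zero (NeZero.ne n)
    have : 2 * n * 2 = 2 * n * Nat.card (cov n).ker := by rw [← h1]; ring
    exact (Nat.eq_of_mul_eq_mul_left (by positivity) this).symm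
end Cfsg.Agent.S3966
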