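import Cfsg.Statements.S3965
import Cfsg.Agent.S3966
import Cfsg.Agent.Lib.Helper66_Stem
import Cfsg.Agent.Lib.Helper66_DihedralStem
import Mathlib

set_option autoImplicit false
open Cfsg

namespace Cfsg.Agent.S3965

open Cfsg.Agent.Lib.Helper66_Stem Cfsg.Agent.Lib.Helper66_DihedralStem

/-- For even `n ≥ 2` the dihedral group of order `2 n` has Schur multiplier cyclic of order `2`. -/
theorem result (n : ℕ) [NeZero n] (hn : Even n) : Cfsg.HasCyclicSchurMultiplier (DihedralGroup n) 2 := by
  apply hasCyclicSchurMultiplier_of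
  · obtain ⟨σ, hσ, hcard⟩ := Cfsg.Agent.S3966.result n hn
    refine ⟨QuaternionGroup n, inferInstance, inferInstance, σ, hσ, ?_, hcard⟩
    have : Fact (Nat.Prime 2) := ⟨Nat.prime_two⟩
    exact isCyclic_of_prime_card hcard
  · intro Γ _ _ σ hσ
    obtain ⟨c, hc, hcn, hσc⟩ := dihedral_stem σ hσ
    obtain ⟨m, hm⟩ := hn
    have hmn : ((m : ℕ) : ZMod n) + m = 0 := by
      have : ((n : ℕ) : ZMod n) = 0 := ZMod.natCast_self n
      rw [hm] at this
      push_cast at this
      rw [← hm] at this
      exact this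
    refine ⟨c ^ m, ?_, ?_, ?_⟩
    · rw [MonoidHom.mem_ker, map_pow, hσc, DihedralGroup.r_pow, DihedralGroup.one_def]
      congr 1
      linear_combination (-1 : ZMod n) * hmn
    · intro z hz
      obtain ⟨j, rfl⟩ := hc z hz
      have h1 : σ (c ^ j) = 1 := MonoidHom.mem_ker.mp hz
      rw [map_zpow, hσc, DihedralGroup.r_zpow, DihedralGroup.one_def] at h1
      have h2 : (-2 : ZMod n) * (j : ZMod n) = 0 := by injection h1
      have h3 : ((-2 * j : ℤ) : ZMod n) = 0 := by push_cast; exact h2
      rw [ZMod.intCast_zmod_eq_zero_iff_dvd] at h3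
      have h4 : (m : ℤ) ∣ j := by
        obtain ⟨t, ht⟩ := h3
        refine ⟨-t, ?_⟩
        have : (n : ℤ) = m + m := by exact_mod_cast hm
        rw [this] at ht
        linarith
      obtain ⟨i, rfl⟩ := h4
      rw [zpow_mul, zpow_natCast]
      exact Subgroup.zpow_mem_zpowers _ i
    · rw [← pow_mul, show m * 2 = n by omega]
      exact hcn
end Cfsg.Agent.S3965
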