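import Cfsg.Statements.S3967
import Cfsg.Agent.Lib.Helper66_MetaModel
import Cfsg.Agent.Lib.Helper66_MetaUpper
import Cfsg.Agent.Lib.Helper66_MetaLift
import Cfsg.Agent.Lib.Helper66_MetaArith
import Cfsg.Agent.Lib.Helper66_SchurMain

set_option autoImplicit false
open Cfsg
open scoped commutatorElement

namespace Cfsg.Agent.S3967

open Cfsg.Agent.Lib Helper66_SchurCore Helper66_SchurMain Helper66_MetaArith Helper66_MetaModel
  Helper66_MetaUpper Helper66_MetaLift

variable (m n r l : ℕ)

/-- the relators -/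
def rels : Set (FreeGroup Bool) :=
  {FreeGroup.of true ^ m, (FreeGroup.of false) ^ n * (FreeGroup.of true ^ (tt m r l))⁻¹,
    FreeGroup.of false * FreeGroup.of true * (FreeGroup.of false)⁻¹ * (FreeGroup.of true ^ r)⁻¹}

/-- the assignment of generators -/
def gen {Y : Type*} (A B : Y) : Bool → Y := fun b => if b then A else B

theorem lift_rels {Y : Type*} [Group Y] (A B : Y) (P : Y → Prop) (h1 : P (A ^ m))
    (h2 : P (B ^ n * (A ^ (tt m r l))⁻¹)) (h3 : P (B * A * B⁻¹ * (A ^ r)⁻¹)) :
    ∀ x ∈ rels m n r l, P (FreeGroup.lift (gen A B) x) := by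
  intro x hx
  rcases hx with rfl | rfl | rfl
  · simpa [gen] using h1
  · simpa [gen] using h2
  · simpa [gen] using h3

section Model

variable {m n r l}
variable (hm : 0 < m) (hn : 0 < n) (hr : 0 < r) (hrn : r ^ n ≡ 1 [MOD m])
variable (e' k : ℕ) (he' : e' ∣ ee m n r l)

/-- relators go to central elements of the model -/
theorem cen : ∀ x ∈ rels m n r l,
    FreeGroup.lift (gen (al (vv hm hn hr hrn e' k he')) (be (vv hm hn hr hrn e' k he'))) x ∈
      Subgroup.center (Δ (MM m e') (vv hm hn hr hrn e' k he')) := by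
  apply lift_rels
  · exact al_pow_mem_center _ m (vv_mul_m hm hn hr hrn e' k he')
  · exact rel2_mem_center _ n (tt m r l) (vv_pow hm hn hr hrn e' k he')
      (vv_mul_t hm hn hr hrn e' k he')
  · rw [rel3_eq]
    exact inl_mem_center _ _ (vv_mul_sub hm hn hr hrn e' k he')

/-- the homomorphism from `F / [F, R]` to the model -/
noncomputable def toModel :
    E (PresentedGroup.mk (rels m n r l)) →* Δ (MM m e') (vv hm hn hr hrn e' k he') :=
  liftE (rels m n r l) _ (cen hm hn hr hrn e' k he')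

theorem toModel_c :
    toModel hm hn hr hrn e' k he'
      ((QuotientGroup.mk (FreeGroup.of false) : E (PresentedGroup.mk (rels m n r l))) *
        QuotientGroup.mk (FreeGroup.of true) * (QuotientGroup.mk (FreeGroup.of false))⁻¹ *
        (QuotientGroup.mk (FreeGroup.of true))⁻¹) =
    be (vv hm hn hr hrn e' k he') * al (vv hm hn hr hrn e' k he') *
      (be (vv hm hn hr hrn e' k he'))⁻¹ * (al (vv hm hn hr hrn e' k he'))⁻¹ := by
  simp only [map_mul, map_inv, toModel, liftE_mk, FreeGroup.lift_apply_of, gen]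
  simp

end Model

section Main

variable {m n r l}
variable (hm : 0 < m) (hn : 0 < n) (hr : 0 < r) (hrn : r ^ n ≡ 1 [MOD m])

include hm hn hrn in
theorem finite_G : Finite (PresentedGroup (rels m n r l)) := by
  have hone : ∀ x ∈ rels m n r l, PresentedGroup.mk (rels m n r l) x = 1 :=
    fun x hx => PresentedGroup.one_of_mem hx
  apply finite_of_metacyclic m n r (tt m r l) (PresentedGroup.of (rels := rels m n r l) true)
    (PresentedGroup.of (rels := rels m n r l) false) hm hn
  · rw [← PresentedGroup.closure_range_of (rels m n r l), Bool.range_eq, Set.pair_comm]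
  · have := hone _ (Set.mem_insert _ _)
    rwa [map_pow] at this
  · have := hone _ (Set.mem_insert_of_mem _ (Set.mem_insert _ _))
    rw [map_mul, map_inv, map_pow, map_pow, mul_inv_eq_one] at this
    exact this
  · have := hone _ (Set.mem_insert_of_mem _ (Set.mem_insert_of_mem _ (Set.mem_singleton _)))
    rw [map_mul, map_mul, map_mul, map_inv, map_inv, map_pow, mul_inv_eq_one] at this
    exact this
  · exact coprime_r_m hn hrn

include hm hn hr hrn in
theorem main : HasCyclicSchurMultiplier (PresentedGroup (rels m n r l)) (ee m n r l) := by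
  have hfin : Finite (PresentedGroup (rels m n r l)) := finite_G hm hn hrn
  set π : FreeGroup Bool →* PresentedGroup (rels m n r l) := PresentedGroup.mk (rels m n r l)
    with hπdef
  have hπ : Function.Surjective π := PresentedGroup.mk_surjective _
  set α : E π := QuotientGroup.mk (FreeGroup.of true) with hα
  set β : E π := QuotientGroup.mk (FreeGroup.of false) with hβ
  -- relators are in the kernel of `ρ`
  have hker : ∀ x ∈ rels m n r l, (QuotientGroup.mk x : E π) ∈ (ρ π).ker := by
    intro x hx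
    rw [MonoidHom.mem_ker, ρ_mk]
    exact PresentedGroup.one_of_mem hx
  have hk1 : α ^ m ∈ (ρ π).ker := hker _ (Set.mem_insert _ _)
  have hk2 : β ^ n * (α ^ (tt m r l))⁻¹ ∈ (ρ π).ker :=
    hker _ (Set.mem_insert_of_mem _ (Set.mem_insert _ _))
  have hk3 : β * α * β⁻¹ * (α ^ r)⁻¹ ∈ (ρ π).ker :=
    hker _ (Set.mem_insert_of_mem _ (Set.mem_insert_of_mem _ (Set.mem_singleton _)))
  have hz1 := ρ_ker_le_center π hk1
  have hz2 := ρ_ker_le_center π hk2
  have hz3 := ρ_ker_le_center π hk3
  -- generation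
  have hgen0 : Subgroup.closure ({α, β} : Set (E π)) = ⊤ := by
    have h1 : ({α, β} : Set (E π)) = (QuotientGroup.mk' (C π)) '' (Set.range FreeGroup.of) := by
      rw [Bool.range_eq, Set.image_pair, Set.pair_comm]
      rfl
    rw [h1, ← MonoidHom.map_closure, FreeGroup.closure_range_of, ← MonoidHom.range_eq_map]
    exact MonoidHom.range_eq_top.2 (QuotientGroup.mk'_surjective _)
  have hgen : Subgroup.closure (({α, β} : Set (E π)) ∪ ((ρ π).ker : Set (E π))) = ⊤ := by
    rw [eq_top_iff, ← hgen0]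
    exact Subgroup.closure_mono Set.subset_union_left
  set c : E π := β * α * β⁻¹ * α⁻¹ with hc
  have hcm : c ^ m = 1 := c_pow_m α β m r hz1 hz3
  have hct : c ^ (tt m r l) = 1 := c_pow_t α β n r (tt m r l) hz2 hz3
  have hcS : c ^ (SS n r) = 1 := c_pow_sum α β n r (tt m r l) hz2 hz3
  have hcomm : commutator (E π) ≤ Subgroup.zpowers c :=
    commutator_le_zpowers α β m r (ρ π).ker (ρ_ker_le_center π) hgen hz1 hz3 (coprime_r_m hn hrn)
  have hcg : c ^ (gg m n r) = 1 := by
    rw [← orderOf_dvd_iff_pow_eq_one]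
    exact Nat.dvd_gcd (orderOf_dvd_of_pow_eq_one hcm) (orderOf_dvd_of_pow_eq_one hcS)
  set w : E π := c ^ (m / dd m r) with hw
  -- `w` lies in `T`
  have hcmem : c ∈ commutator (E π) := by
    rw [commutator_def]
    have : c = ⁅β, α⁆ := by rw [commutatorElement_def]
    rw [this]
    exact Subgroup.commutator_mem_commutator (Subgroup.mem_top _) (Subgroup.mem_top _)
  have hρc : ρ π c = (PresentedGroup.of true : PresentedGroup (rels m n r l)) ^ (r - 1) := by
    have h3 : ρ π (β * α * β⁻¹ * (α ^ r)⁻¹) = 1 := hk3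
    have h4 : ρ π (β * α * β⁻¹) = (ρ π α) ^ r := by
      rw [map_mul _ _ ((α ^ r)⁻¹), map_inv, map_pow, mul_inv_eq_one] at h3
      exact h3
    have h5 : ρ π α = PresentedGroup.of true := rfl
    rw [hc, map_mul _ _ α⁻¹, h4, map_inv, h5, ← pow_sub_one_mul hr.ne', mul_inv_cancel_right]
  have hwT : w ∈ T π := by
    refine Subgroup.mem_inf.mpr ⟨?_, Subgroup.pow_mem _ hcmem _⟩
    rw [MonoidHom.mem_ker, hw, map_pow, hρc, ← pow_mul]
    have h2 : dd m r * ((r - 1) / dd m r) = r - 1 := Nat.mul_div_cancel' dd_dvd_r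
    have h3 : dd m r * (m / dd m r) = m := Nat.mul_div_cancel' dd_dvd_m
    have h4 : (r - 1) * (m / dd m r) = m * ((r - 1) / dd m r) := by
      calc (r - 1) * (m / dd m r) = (dd m r * ((r - 1) / dd m r)) * (m / dd m r) := by rw [h2]
        _ = (dd m r * (m / dd m r)) * ((r - 1) / dd m r) := by ring
        _ = m * ((r - 1) / dd m r) := by rw [h3]
    rw [h4, pow_mul]
    have h5 : (PresentedGroup.of true : PresentedGroup (rels m n r l)) ^ m = 1 := by
      have : ρ π (α ^ m) = 1 := hk1
      rwa [map_pow] at this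
    rw [h5, one_pow]
  -- `w ^ e = 1`
  have hwl : w ^ l = 1 := by
    rw [hw, ← pow_mul, ← tt_eq]
    exact hct
  have hwh : w ^ (hh m n r) = 1 := by
    rw [hw, ← pow_mul, md_mul_hh hm hr hrn]
    exact hcg
  have hwe : w ^ (ee m n r l) = 1 := by
    rw [← orderOf_dvd_iff_pow_eq_one]
    exact Nat.dvd_gcd (orderOf_dvd_of_pow_eq_one hwl) (orderOf_dvd_of_pow_eq_one hwh)
  -- lower bound
  have hlow : ∀ p : ℕ, p.Prime → p ∣ ee m n r l → w ^ (ee m n r l / p) ≠ 1 := by
    intro p hp hpe hone
    obtain ⟨k, hk⟩ := exists_k (r := r) hm p hp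
    have h1 := congrArg (toModel hm hn hr hrn (ee m n r l) k (dvd_refl _)) hone
    rw [map_one, hw, ← pow_mul, map_pow, toModel_c, c_pow, inl_eq_one_iff] at h1
    exact lower_ne hm hn hr hrn (ee m n r l) k (dvd_refl _) p hp hpe (ee_pos l hm hr hrn) hk h1
  have hord : orderOf w = ee m n r l :=
    orderOf_eq_of_pow_and_pow_div_prime (ee_pos l hm hr hrn) hwe hlow
  -- `T ≤ ⟨w⟩`
  have hTle : T π ≤ Subgroup.zpowers w := by
    intro x hx
    obtain ⟨hx1, hx2⟩ := Subgroup.mem_inf.mp hx
    obtain ⟨kk, rfl⟩ := Subgroup.mem_zpowers_iff.mp (hcomm hx2)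
    set v0 := vv hm hn hr hrn 1 0 (one_dvd (ee m n r l)) with hv0
    have hK : (Subgroup.zpowers (be v0 ^ n * (al v0 ^ (tt m r l))⁻¹)).Normal := by
      apply normal_of_le_center
      rw [Subgroup.zpowers_le]
      exact rel2_mem_center _ n (tt m r l) (vv_pow hm hn hr hrn 1 0 _)
        (vv_mul_t hm hn hr hrn 1 0 _)
    have hK0 : ∀ x ∈ rels m n r l, FreeGroup.lift (gen (al v0) (be v0)) x ∈
        Subgroup.zpowers (be v0 ^ n * (al v0 ^ (tt m r l))⁻¹) := by
      apply lift_rels
      · have h0 : al v0 ^ m = 1 := by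
          rw [al_pow, inl_eq_one_iff, ZMod.natCast_eq_zero_iff, MM, mul_one]
        rw [h0]
        exact Subgroup.one_mem _
      · exact Subgroup.mem_zpowers _
      · rw [rel3_eq, vv_sub_r]
        simp only [Nat.cast_zero, mul_zero]
        exact Subgroup.one_mem _
    have h1 := liftE_mem_of_mem_ker (rels m n r l) _ (cen hm hn hr hrn 1 0 (one_dvd _))
      (Subgroup.zpowers (be v0 ^ n * (al v0 ^ (tt m r l))⁻¹)) hK0 _ hx1
    have h2 : liftE (rels m n r l) _ (cen hm hn hr hrn 1 0 (one_dvd _)) (c ^ kk) =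
        SemidirectProduct.inl (Multiplicative.ofAdd ((kk : ZMod (MM m 1)) * ((v0 : ZMod (MM m 1)) - 1))) := by
      rw [map_zpow]
      have := toModel_c hm hn hr hrn 1 0 (one_dvd (ee m n r l))
      rw [toModel] at this
      rw [hc, this, c_zpow]
    rw [h2] at h1
    have h3 := eq_zero_of_inl_mem_zpowers v0 n (tt m r l) hn _ h1
    obtain ⟨q, hq⟩ := order_cond hm hn hr hrn kk h3
    rw [hq, zpow_mul, zpow_natCast]
    exact Subgroup.zpow_mem _ (Subgroup.mem_zpowers _) _
  -- conclusion
  have hcyc : IsCyclic (T π) := by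
    refine ⟨⟨⟨w, hwT⟩, fun x => ?_⟩⟩
    obtain ⟨i, hi⟩ := Subgroup.mem_zpowers_iff.mp (hTle x.2)
    exact ⟨i, Subtype.ext (by simpa using hi)⟩
  have hcard : Nat.card (T π) = ee m n r l := by
    have hT : T π = Subgroup.zpowers w :=
      le_antisymm hTle (by rw [Subgroup.zpowers_le]; exact hwT)
    rw [hT, Nat.card_zpowers, hord]
  have e := zmodCyclicMulEquiv hcyc
  rw [hcard] at e
  exact (hasSchurMultiplier_iff π hπ).2 ⟨e.symm⟩

end Main

/-- Let `m, n ≥ 1`, `r ≥ 1` with `r ^ n ≡ 1 (mod m)`, and `l` a natural number; put `d = gcd(m, r - 1)`, `t = m l / d` and `h = d · gcd(m, 1 + r + ⋯ + r^(n-1)) / m`. The group presented by generators `a, b` and relations `a ^ m = 1`, `b ^ n = a ^ t`, `b a b⁻¹ = a ^ r` (a metacyclic group of order `m n`) has Schur multiplier cyclic of order `gcd(l, h)`. -/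
theorem result (m n r l : ℕ) (hm : 0 < m) (hn : 0 < n) (hr : 0 < r) (hrn : r ^ n ≡ 1 [MOD m]) : Cfsg.HasCyclicSchurMultiplier (PresentedGroup ({FreeGroup.of true ^ m, (FreeGroup.of false) ^ n * (FreeGroup.of true ^ (m * l / Nat.gcd m (r - 1)))⁻¹, FreeGroup.of false * FreeGroup.of true * (FreeGroup.of false)⁻¹ * (FreeGroup.of true ^ r)⁻¹} : Set (FreeGroup Bool))) (Nat.gcd l (Nat.gcd m (r - 1) * Nat.gcd m (∑ i ∈ Finset.range n, r ^ i) / m)) := by
  exact main hm hn hr hrn

end Cfsg.Agent.S3967
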