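import Cfsg.Statements.S3968
import Cfsg.Agent.Lib.Helper3_CharBurnside
import Cfsg.Agent.Lib.Helper80_CharInd
import Cfsg.Agent.Lib.Helper79_CharVals
import Cfsg.Agent.Lib.Helper79_Linear
import Cfsg.Agent.S0184
import Cfsg.Agent.S0135

set_option autoImplicit false
open Cfsg

namespace Cfsg.Agent.S3968

open Cfsg.Agent.Lib.Helper3_CharBurnside Cfsg.Agent.Lib.Helper3_CharEigen
  Cfsg.Agent.Lib.Helper80_CharInd Cfsg.Agent.Lib.Helper80_CharBasic
  Cfsg.Agent.Lib.Helper79_CharVals Cfsg.Agent.Lib.Helper79_Linear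

open scoped ComplexConjugate commutatorElement

section Faithful

variable {G : Type*} [Group G] [Finite G] {n : ℕ} (ρ : Representation ℂ G (Fin n → ℂ))

/-- A representation whose character takes the value `χ 1` only at `1` is injective. -/
theorem injective_of_faithful (hfaith : ∀ g : G, ρ.character g = ρ.character 1 → g = 1) :
    Function.Injective ρ := by
  intro a b hab
  have h1 : ρ (a * b⁻¹) = 1 := by
    rw [map_mul, hab, ← map_mul, mul_inv_cancel, map_one]
  have h2 : ρ.character (a * b⁻¹) = ρ.character 1 := by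
    unfold Representation.character
    rw [h1, map_one ρ]
  have h3 := hfaith _ h2
  exact mul_inv_eq_one.1 h3

/-- An element at which a faithful character has absolute value `χ 1` is central. -/
theorem mem_center_of_norm_eq (hfaith : ∀ g : G, ρ.character g = ρ.character 1 → g = 1)
    (z : G) (hz : ‖ρ.character z‖ = (n : ℝ)) : z ∈ Subgroup.center G := by
  have hfr : Module.finrank ℂ (Fin n → ℂ) = n := by simp
  obtain ⟨ω, hω⟩ := rho_eq_smul_id_of_norm_char_eq ρ z (by rw [hfr]; exact hz)
  rw [Subgroup.mem_center_iff]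
  intro g
  apply injective_of_faithful ρ hfaith
  rw [map_mul, map_mul, hω]
  ext v i
  simp

end Faithful


section PGroup

variable {P : Type*} [Group P] [Finite P]

/-- A central element has character value of absolute value the degree, for an irreducible
character. -/
theorem norm_irr_central (θ : IrrCharacter P) (z : P) (hz : z ∈ Subgroup.center P) (m : ℕ)
    (hm : (θ : P → ℂ) 1 = m) : ‖(θ : P → ℂ) z‖ = m := by
  obtain ⟨k, σ, hirr, hσ⟩ := θ.2
  haveI := hirr
  obtain ⟨c, hc⟩ := Cfsg.Agent.S0184.exists_scalar σ z hz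
  have hk : (k : ℂ) = m := by
    rw [← hm, ← hσ, Representation.char_one]; simp
  have hpow : c ^ orderOf z = 1 := by
    have h1 : σ (z ^ orderOf z) = (c ^ orderOf z) • (1 : Module.End ℂ (Fin k → ℂ)) := by
      rw [map_pow, hc, smul_pow, one_pow]
    rw [pow_orderOf_eq_one, map_one] at h1
    have h2 : (1 : ℂ) • (1 : Module.End ℂ (Fin k → ℂ)) =
        (c ^ orderOf z) • (1 : Module.End ℂ (Fin k → ℂ)) := by rw [one_smul]; exact h1
    exact (smul_left_injective ℂ (Cfsg.Agent.S0184.one_ne_zero_end σ) h2).symm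
  have hnc : ‖c‖ = 1 := Complex.norm_eq_one_of_pow_eq_one hpow (orderOf_pos z).ne'
  have hval : (θ : P → ℂ) z = c * m := by
    rw [← hσ]
    unfold Representation.character
    rw [hc, map_smul, LinearMap.trace_one, smul_eq_mul, ← hk]
    simp
  rw [hval, norm_mul, hnc, one_mul, Complex.norm_natCast]

/-- A character of prime degree `p` of a non-abelian `p`-group that takes its degree as a value
only at `1` is irreducible. -/
theorem restrict_irr (p : ℕ) [Fact p.Prime] (hP : IsPGroup p P) (ψ : P → ℂ)
    (hψ : IsCharacter P ψ) (hdeg : ψ 1 = p) (hfaith : ∀ x : P, ψ x = ψ 1 → x = 1)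
    (hna : ¬ ∀ a b : P, a * b = b * a) : IsIrrCharacter P ψ := by
  classical
  haveI := Fintype.ofFinite P
  haveI := Fintype.ofFinite (IrrCharacter P)
  have hp : p.Prime := Fact.out
  obtain ⟨b, hb, hexp⟩ := char_decomp ψ hψ
  by_cases h : ∃ θ : IrrCharacter P, b θ ≠ 0 ∧ (θ : P → ℂ) 1 ≠ 1
  · obtain ⟨θ, hbθ, hθ1⟩ := h
    obtain ⟨k, σ, hirr, hσ⟩ := θ.2
    haveI := hirr
    have hk : (θ : P → ℂ) 1 = k := by rw [← hσ, Representation.char_one]; simp
    have hdvd : k ∣ Nat.card P := by
      have := Cfsg.Agent.S0135.result σ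
      rwa [Module.finrank_fin_fun] at this
    obtain ⟨e, he⟩ := IsPGroup.iff_card.1 hP
    rw [he] at hdvd
    obtain ⟨j, _, hj⟩ := (Nat.dvd_prime_pow hp).1 hdvd
    have hj0 : j ≠ 0 := by
      intro h0
      rw [h0, pow_zero] at hj
      apply hθ1
      rw [hk, hj]; simp
    have hle : p ≤ k := by
      rw [hj]
      calc p = p ^ 1 := (pow_one p).symm
        _ ≤ p ^ j := Nat.pow_le_pow_right hp.pos (Nat.one_le_iff_ne_zero.2 hj0)
    have hne : classInner ψ (θ : P → ℂ) ≠ 0 := by
      rw [hb θ]; exact_mod_cast hbθ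
    have := eq_of_constituent_of_degree_le ψ hψ θ hne p k hdeg hk hle
    rw [this]
    exact θ.2
  · exfalso
    push Not at h
    apply hna
    have hcomm : ∀ x ∈ commutator P, x = 1 := by
      intro x hx
      apply hfaith
      rw [hexp]
      simp only [Finset.sum_apply, Pi.smul_apply, smul_eq_mul]
      refine Finset.sum_congr rfl (fun θ _ => ?_)
      by_cases hbθ : b θ = 0
      · rw [hbθ]; simp
      · have h1 := h θ hbθ
        rw [linear_commutator ⟨θ, h1⟩ hx, h1]
    intro a b'
    have h1 : ⁅a, b'⁆ ∈ commutator P :=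
      Subgroup.commutator_mem_commutator (Subgroup.mem_top a) (Subgroup.mem_top b')
    exact commutatorElement_eq_one_iff_mul_comm.1 (hcomm _ h1)

end PGroup

/-- Let `p` be a prime and `G` a finite group with a faithful irreducible complex character of degree `p` (so `G` is an irreducible linear group in `p` variables). If `p ^ 2` divides the order of `G`, then the centre of `G` is nontrivial. -/
theorem result {G : Type*} [Group G] [Finite G] (p : ℕ) (hp : p.Prime) (χ : Cfsg.IrrCharacter G) (hdeg : χ.1 1 = p) (hfaith : ∀ g : G, χ.1 g = χ.1 1 → g = 1) (hdiv : p ^ 2 ∣ Nat.card G) : Subgroup.center G ≠ ⊥ := by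
  classical
  intro hZ
  haveI : Fact p.Prime := ⟨hp⟩
  haveI := Fintype.ofFinite G
  obtain ⟨n, ρ, hirr, hρ⟩ := χ.2
  haveI := hirr
  have hn : n = p := by
    have h1 : ρ.character 1 = (n : ℂ) := by rw [Representation.char_one]; simp
    rw [hρ, hdeg] at h1
    exact_mod_cast h1.symm
  have hfaith' : ∀ g, ρ.character g = ρ.character 1 → g = 1 := by rw [hρ]; exact hfaith
  let P : Sylow p G := default
  have hPcard : p ^ 2 ∣ Nat.card P := P.pow_dvd_card_of_pow_dvd_card hdiv
  haveI : Nontrivial P := by
    rw [← Finite.one_lt_card_iff_nontrivial]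
    have h0 : 0 < Nat.card P := Nat.card_pos
    have h1 := Nat.le_of_dvd h0 hPcard
    nlinarith [hp.two_le]
  have hvanish : ∀ z : P, z ∈ Subgroup.center P → z ≠ 1 → χ.1 (z : G) = 0 := by
    intro z hz hz1
    have hle : (P : Subgroup G) ≤ Subgroup.centralizer ({(z : G)} : Set G) := by
      intro t ht
      rw [Subgroup.mem_centralizer_singleton_iff]
      have h1 := Subgroup.mem_center_iff.1 hz ⟨t, ht⟩
      exact congrArg Subtype.val h1
    have hcop : Nat.Coprime (Module.finrank ℂ (Fin n → ℂ))
        (Subgroup.centralizer ({(z : G)} : Set G)).index := by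
      rw [Module.finrank_fin_fun, hn, Nat.Prime.coprime_iff_not_dvd hp]
      intro hdvd
      exact P.not_dvd_index (dvd_trans hdvd (Subgroup.index_dvd_of_le hle))
    rcases char_eq_zero_or_norm_eq_of_coprime ρ (z : G) hcop with h0 | h1
    · rw [← hρ]; exact h0
    · exfalso
      rw [Module.finrank_fin_fun] at h1
      have h2 := mem_center_of_norm_eq ρ hfaith' z h1
      rw [hZ, Subgroup.mem_bot] at h2
      exact hz1 (Subtype.ext h2)
  have hχchar : IsCharacter G χ.1 := ⟨n, ρ, hρ⟩
  have hψchar : IsCharacter P (fun t : P => χ.1 (t : G)) :=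
    ⟨n, ρ.comp (P : Subgroup G).subtype, by rw [← hρ]; rfl⟩
  by_cases hab : ∀ a b : P, a * b = b * a
  · obtain ⟨d, hd⟩ := sum_subgroup_char hχchar (P : Subgroup G)
    have hsum : ∑ t : P, χ.1 (t : G) = p := by
      refine (Fintype.sum_eq_single (1 : P) ?_).trans ?_
      · intro t ht
        exact hvanish t (Subgroup.mem_center_iff.2 (fun g => hab g t)) ht
      · simpa using hdeg
    rw [hsum] at hd
    have h1 : p = Nat.card P * d := by exact_mod_cast hd
    obtain ⟨e, he⟩ := hPcard
    rw [he] at h1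
    have h2 : p * 1 = p * (p * e * d) := by rw [mul_one]; nth_rewrite 1 [h1]; ring
    have h3 := Nat.eq_of_mul_eq_mul_left hp.pos h2
    have h4 : p ∣ 1 := ⟨e * d, by rw [h3]; ring⟩
    exact hp.one_lt.ne' (Nat.dvd_one.mp h4)
  · have hψ : IsIrrCharacter P (fun t : P => χ.1 (t : G)) := by
      refine restrict_irr p P.isPGroup' _ hψchar (by simpa using hdeg) ?_ hab
      intro x hx
      have h1 := hfaith (x : G) (by simpa using hx)
      exact Subtype.ext h1
    haveI : Nontrivial (Subgroup.center P) := P.isPGroup'.center_nontrivial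
    obtain ⟨z, hz⟩ := exists_ne (1 : Subgroup.center P)
    have h0 := hvanish z.1 z.2 (fun h => hz (Subtype.ext h))
    have hnorm := norm_irr_central ⟨_, hψ⟩ z.1 z.2 p (by simpa using hdeg)
    simp only [h0, norm_zero] at hnorm
    have h5 : p = 0 := by exact_mod_cast hnorm.symm
    exact hp.ne_zero h5

end Cfsg.Agent.S3968
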