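import Mathlib
import Cfsg.Statements.S3969

set_option autoImplicit false
open Cfsg

namespace Cfsg.Agent.S3969

section PartA
variable {P : Type*} [CommGroup P]

/-- the subgroup of `p^j`-th powers -/
def R (p j : ℕ) : Subgroup P := (powMonoidHom (p ^ j) : P →* P).range

theorem mem_R {p j : ℕ} {x : P} : x ∈ R p j ↔ ∃ y : P, y ^ (p ^ j) = x := by
  rw [R, MonoidHom.mem_range]; rfl

theorem R_anti {p i j : ℕ} (h : i ≤ j) : (R p j : Subgroup P) ≤ R p i := by
  intro x hx
  obtain ⟨y, rfl⟩ := mem_R.mp hx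
  rw [mem_R]
  refine ⟨y ^ (p ^ (j - i)), ?_⟩
  rw [← pow_mul, ← pow_add, Nat.sub_add_cancel h]

theorem pow_mem_R {p j : ℕ} {x : P} (hx : x ∈ R p j) : x ^ p ∈ R p (j + 1) := by
  obtain ⟨y, rfl⟩ := mem_R.mp hx
  rw [mem_R]
  exact ⟨y, by rw [← pow_mul, pow_succ]⟩

/-- `D p j β` : `β` is trivial modulo `p^j`-th powers -/
def D (p j : ℕ) (β : MulAut P) : Prop := ∀ x : P, β x * x⁻¹ ∈ R p j

theorem D_pow {p j : ℕ} {β : MulAut P} (h : D p j β) (i : ℕ) : D p j (β ^ i) := by
  induction i with
  | zero => intro x; simp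
  | succ i ih =>
    intro x
    have e : (β ^ (i + 1)) x * x⁻¹ = (β ((β ^ i) x) * ((β ^ i) x)⁻¹) * ((β ^ i) x * x⁻¹) := by
      rw [pow_succ']
      simp [MulAut.mul_apply]
    rw [e]
    exact Subgroup.mul_mem _ (h _) (ih x)

theorem D_on_R {p j j' : ℕ} {β : MulAut P} (h : D p j β) {y : P} (hy : y ∈ R p j') :
    β y * y⁻¹ ∈ R p (j + j') := by
  obtain ⟨w, rfl⟩ := mem_R.mp hy
  obtain ⟨u, hu⟩ := mem_R.mp (h w)
  rw [mem_R]
  refine ⟨u, ?_⟩
  rw [map_pow, ← inv_pow, ← mul_pow, ← hu, ← pow_mul, pow_add]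

theorem telescope (β : MulAut P) (x : P) (n : ℕ) :
    (β ^ n) x * x⁻¹ = ∏ i ∈ Finset.range n, (β ^ i) (β x * x⁻¹) := by
  induction n with
  | zero => simp
  | succ n ih =>
    rw [Finset.prod_range_succ, ← ih]
    have : (β ^ (n + 1)) x = (β ^ n) (β x) := by
      rw [pow_succ]; simp [MulAut.mul_apply]
    rw [this, map_mul, map_inv]
    generalize (β ^ n) (β x) = a
    generalize (β ^ n) x = b
    rw [mul_comm a b⁻¹, mul_mul_mul_comm, mul_inv_cancel, one_mul, mul_comm]

theorem D_step {p j : ℕ} (hj : 1 ≤ j) {β : MulAut P} (h : D p j β) : D p (j + 1) (β ^ p) := by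
  intro x
  rw [telescope]
  set y := β x * x⁻¹ with hy
  have hyR : y ∈ R p j := h x
  have e : ∏ i ∈ Finset.range p, (β ^ i) y = y ^ p * ∏ i ∈ Finset.range p, ((β ^ i) y * y⁻¹) := by
    rw [Finset.prod_mul_distrib, Finset.prod_const, Finset.card_range]
    simp [mul_comm, mul_left_comm]
  rw [e]
  apply Subgroup.mul_mem _ (pow_mem_R hyR)
  apply Subgroup.prod_mem
  intro i _
  have := D_on_R (D_pow h i) hyR
  exact R_anti (by omega) this

theorem D_iter {p : ℕ} {α : MulAut P} (h : D p 1 α) (k : ℕ) : D p (k + 1) (α ^ (p ^ k)) := by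
  induction k with
  | zero => simpa using h
  | succ k ih =>
    have := D_step (by omega) ih
    rwa [← pow_mul, ← pow_succ] at this

/-- an automorphism of a finite abelian `p`-group trivial modulo `p`-th powers has `p`-power order -/
theorem lemmaA [Finite P] {p : ℕ} [Fact p.Prime] (hP : IsPGroup p P) (α : MulAut P)
    (h : ∀ x : P, ∃ y : P, α x * x⁻¹ = y ^ p) : ∃ e : ℕ, α ^ (p ^ e) = 1 := by
  obtain ⟨e, he⟩ := IsPGroup.iff_card.mp hP
  refine ⟨e, ?_⟩
  have hD : D p 1 α := by
    intro x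
    obtain ⟨y, hy⟩ := h x
    rw [mem_R]
    exact ⟨y, by rw [pow_one, hy]⟩
  ext x
  have h1 := R_anti (Nat.le_succ e) (D_iter hD e x)
  obtain ⟨w, hw⟩ := mem_R.mp h1
  have : w ^ (p ^ e) = 1 := by rw [← he]; exact pow_card_eq_one'
  rw [this] at hw
  have h2 : (α ^ p ^ e) x = x := by
    have := mul_inv_eq_one.mp hw.symm
    exact this
  simpa using h2

end PartA

section PartB
open Module

theorem end_pow_card {p : ℕ} [Fact p.Prime] {W : Type*} [AddCommGroup W] [Module (ZMod p) W] [Finite W]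
    (f g : Module.End (ZMod p) W) (hfg : f * g = 1) (hgf : g * f = 1) :
    f ^ (∏ i : Fin (finrank (ZMod p) W), (p ^ (finrank (ZMod p) W) - p ^ (i : ℕ))) = 1 := by
  classical
  set n := finrank (ZMod p) W with hn
  let b : Basis (Fin n) (ZMod p) W := Module.finBasis (ZMod p) W
  let e : Module.End (ZMod p) W ≃ₐ[ZMod p] Matrix (Fin n) (Fin n) (ZMod p) := LinearMap.toMatrixAlgEquiv b
  let u : (Module.End (ZMod p) W)ˣ := ⟨f, g, hfg, hgf⟩
  let E : (Module.End (ZMod p) W)ˣ ≃* GL (Fin n) (ZMod p) := Units.mapEquiv e.toMulEquiv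
  have hcard : Nat.card (Module.End (ZMod p) W)ˣ = ∏ i : Fin n, (p ^ n - p ^ (i : ℕ)) := by
    rw [Nat.card_congr E.toEquiv, Matrix.card_GL_field, ZMod.card]
  have hfin : Finite (Module.End (ZMod p) W)ˣ := Finite.of_equiv _ E.symm.toEquiv
  have h1 : u ^ Nat.card (Module.End (ZMod p) W)ˣ = 1 := pow_card_eq_one'
  rw [hcard] at h1
  have h2 := congrArg Units.val h1
  simpa [u] using h2

/-- An automorphism of an elementary abelian `p`-group generated by `S` has order dividing
`|GL_k(p)|` for some `k ≤ |S|`. -/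
theorem lemmaB {p : ℕ} [Fact p.Prime] {V : Type*} [CommGroup V] [Finite V] (hV : ∀ v : V, v ^ p = 1)
    (S : Finset V) (hS : Subgroup.closure (S : Set V) = ⊤) (β : MulAut V) :
    ∃ k ≤ S.card, β ^ (∏ i ∈ Finset.range k, (p ^ k - p ^ i)) = 1 := by
  classical
  have hp : ∀ x : Additive V, p • x = 0 := fun x => by
    show Additive.ofMul ((Additive.toMul x) ^ p) = 0
    rw [hV]; rfl
  haveI : Module (ZMod p) (Additive V) := AddCommGroup.zmodModule hp
  let f : Module.End (ZMod p) (Additive V) :=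
    (MonoidHom.toAdditive β.toMonoidHom).toZModLinearMap p
  let g : Module.End (ZMod p) (Additive V) :=
    (MonoidHom.toAdditive (β⁻¹ : MulAut V).toMonoidHom).toZModLinearMap p
  have hf : ∀ w : Additive V, f w = Additive.ofMul (β (Additive.toMul w)) := fun _ => rfl
  have hg : ∀ w : Additive V, g w = Additive.ofMul ((β⁻¹ : MulAut V) (Additive.toMul w)) := fun _ => rfl
  have hfg : f * g = 1 := by
    ext w
    rw [Module.End.mul_apply, hf, hg]
    simp
  have hgf : g * f = 1 := by
    ext w
    rw [Module.End.mul_apply, hf, hg]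
    simp
  have hpow : ∀ (N : ℕ) (w : Additive V), (f ^ N) w = Additive.ofMul ((β ^ N) (Additive.toMul w)) := by
    intro N
    induction N with
    | zero => intro w; simp
    | succ N ih =>
      intro w
      rw [pow_succ, Module.End.mul_apply, ih, hf, pow_succ, MulAut.mul_apply]
      simp
  refine ⟨finrank (ZMod p) (Additive V), ?_, ?_⟩
  · have hspan : Submodule.span (ZMod p) ((S.image Additive.ofMul : Finset (Additive V)) : Set (Additive V)) = ⊤ := by
      rw [eq_top_iff]
      intro w _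
      have hw : Additive.toMul w ∈ Subgroup.closure (S : Set V) := by rw [hS]; trivial
      have key : ∀ v ∈ Subgroup.closure (S : Set V), Additive.ofMul v ∈
          Submodule.span (ZMod p) ((S.image Additive.ofMul : Finset (Additive V)) : Set (Additive V)) := by
        intro v hv
        induction hv using Subgroup.closure_induction with
        | mem x hx =>
          apply Submodule.subset_span
          simp only [Finset.coe_image, Set.mem_image, Finset.mem_coe]
          exact ⟨x, hx, rfl⟩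
        | one => exact Submodule.zero_mem _
        | mul x y _ _ hx hy => exact Submodule.add_mem _ hx hy
        | inv x _ hx => exact Submodule.neg_mem _ hx
      exact key _ hw
    calc finrank (ZMod p) (Additive V)
        = finrank (ZMod p) (⊤ : Submodule (ZMod p) (Additive V)) := (finrank_top (ZMod p) (Additive V)).symm
      _ = finrank (ZMod p) (Submodule.span (ZMod p) ((S.image Additive.ofMul : Finset (Additive V)) : Set (Additive V))) := by rw [hspan]
      _ ≤ (S.image Additive.ofMul).card := finrank_span_finset_le_card _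
      _ ≤ S.card := Finset.card_image_le
  · have h1 := end_pow_card f g hfg hgf
    rw [Fin.prod_univ_eq_prod_range (fun i => p ^ (finrank (ZMod p) (Additive V)) - p ^ i)] at h1
    ext v
    have h3 := congrArg (fun F : Module.End (ZMod p) (Additive V) => F (Additive.ofMul v)) h1
    simp only [hpow] at h3
    simpa using h3

end PartB

theorem coprime_GL {p m d k : ℕ} (hmp : Nat.Coprime m p)
    (hm : Nat.Coprime m (∏ i ∈ Finset.Icc 1 d, (p ^ i - 1))) (hk : k ≤ d) :
    Nat.Coprime m (∏ i ∈ Finset.range k, (p ^ k - p ^ i)) := by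
  apply Nat.Coprime.prod_right
  intro i hi
  rw [Finset.mem_range] at hi
  have e : p ^ k - p ^ i = p ^ i * (p ^ (k - i) - 1) := by
    rw [Nat.mul_sub, mul_one, ← pow_add]
    congr 2
    omega
  rw [e]
  apply Nat.Coprime.mul_right
  · exact Nat.Coprime.pow_right i hmp
  · apply Nat.Coprime.coprime_dvd_right _ hm
    exact Finset.dvd_prod_of_mem (fun i => p ^ i - 1) (Finset.mem_Icc.mpr ⟨by omega, by omega⟩)

/-- core: a `p'`-automorphism of a finite abelian `p`-group generated by `d` elements, of order prime to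
`∏_{i ≤ d} (p^i - 1)`, is trivial. -/
theorem core {P : Type*} [CommGroup P] [Finite P] {p : ℕ} [Fact p.Prime] (hP : IsPGroup p P)
    (α : MulAut P) (m : ℕ) (hm : α ^ m = 1) (hmp : Nat.Coprime m p)
    (S : Finset P) (hS : Subgroup.closure (S : Set P) = ⊤)
    (hcop : Nat.Coprime m (∏ i ∈ Finset.Icc 1 S.card, (p ^ i - 1))) : α = 1 := by
  classical
  set N : Subgroup P := R p 1 with hN
  have hNα : N.map (α : P ≃* P).toMonoidHom = N := by
    ext x
    constructor
    · rintro ⟨y, hy, rfl⟩
      obtain ⟨w, rfl⟩ := mem_R.mp hy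
      rw [hN, mem_R]
      exact ⟨α w, by simp⟩
    · intro hx
      obtain ⟨w, rfl⟩ := mem_R.mp hx
      refine ⟨(α⁻¹ : MulAut P) (w ^ p ^ 1), ?_, by simp⟩
      show (α⁻¹ : MulAut P) (w ^ p ^ 1) ∈ R p 1
      rw [mem_R]
      exact ⟨(α⁻¹ : MulAut P) w, by simp⟩
  let ᾱ : MulAut (P ⧸ N) := QuotientGroup.congr N N α hNα
  have hᾱ : ∀ x : P, ᾱ (QuotientGroup.mk x) = QuotientGroup.mk (α x) := fun x => rfl
  have hᾱpow : ∀ (n : ℕ) (x : P), (ᾱ ^ n) (QuotientGroup.mk x) = QuotientGroup.mk ((α ^ n) x) := by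
    intro n
    induction n with
    | zero => intro x; simp
    | succ n ih =>
      intro x
      rw [pow_succ, MulAut.mul_apply, hᾱ, ih, pow_succ, MulAut.mul_apply]
  have hᾱm : ᾱ ^ m = 1 := by
    ext v
    obtain ⟨x, rfl⟩ := QuotientGroup.mk_surjective v
    rw [hᾱpow, hm]
    simp
  have hV : ∀ v : P ⧸ N, v ^ p = 1 := by
    intro v
    obtain ⟨x, rfl⟩ := QuotientGroup.mk_surjective v
    rw [← QuotientGroup.mk_pow, QuotientGroup.eq_one_iff, hN, mem_R]
    exact ⟨x, by rw [pow_one]⟩
  have hS' : Subgroup.closure ((S.image (QuotientGroup.mk : P → P ⧸ N) : Finset (P ⧸ N)) : Set (P ⧸ N)) = ⊤ := by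
    rw [Finset.coe_image]
    have := MonoidHom.map_closure (QuotientGroup.mk' N) (S : Set P)
    rw [hS, Subgroup.map_top_of_surjective _ (QuotientGroup.mk'_surjective N)] at this
    exact this.symm
  obtain ⟨k, hk, hᾱk⟩ := lemmaB hV _ hS' ᾱ
  have hk' : k ≤ S.card := hk.trans Finset.card_image_le
  have hcop2 := coprime_GL hmp hcop hk'
  have hᾱ1 : ᾱ = 1 := by
    have := pow_gcd_eq_one.mpr ⟨hᾱm, hᾱk⟩
    rwa [hcop2.gcd_eq_one, pow_one] at this
  have htriv : ∀ x : P, ∃ y : P, α x * x⁻¹ = y ^ p := by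
    intro x
    have h1 : (QuotientGroup.mk (α x) : P ⧸ N) = QuotientGroup.mk x := by
      rw [← hᾱ, hᾱ1]; rfl
    rw [QuotientGroup.eq] at h1
    have h2 : α x * x⁻¹ ∈ N := by
      have := N.inv_mem h1
      rw [mul_inv_rev, inv_inv, mul_comm] at this
      exact this
    obtain ⟨y, hy⟩ := mem_R.mp h2
    exact ⟨y, by rw [← hy, pow_one]⟩
  obtain ⟨e, he⟩ := lemmaA hP α htriv
  have := pow_gcd_eq_one.mpr ⟨hm, he⟩
  rwa [(Nat.Coprime.pow_right e hmp).gcd_eq_one, pow_one] at this

section Assembly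
variable {G : Type*} [Group G]

/-- conjugation by a normalizing element as an automorphism of the subgroup -/
def conjAut (T : Subgroup G) (g : G)
    (hg : g ∈ Subgroup.normalizer (T : Set G)) : ↥T ≃* ↥T where
  toFun t := ⟨g * t * g⁻¹, (Subgroup.mem_normalizer_iff.mp hg t).1 t.2⟩
  invFun t := ⟨g⁻¹ * t * g, (Subgroup.mem_normalizer_iff''.mp hg t).1 t.2⟩
  left_inv t := by ext; simp [mul_assoc]
  right_inv t := by ext; simp [mul_assoc]
  map_mul' a b := by ext; simp [mul_assoc]

/-- the conjugation action of the normalizer on the subgroup -/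
def conjHom (T : Subgroup G) : ↥(Subgroup.normalizer (T : Set G)) →* MulAut ↥T where
  toFun g := conjAut T g g.2
  map_one' := by ext x; simp [conjAut]
  map_mul' a b := by ext x; simp [conjAut, mul_assoc]

theorem conjHom_apply (T : Subgroup G) (g : ↥(Subgroup.normalizer (T : Set G))) (x : ↥T) :
    ((conjHom T g x : ↥T) : G) = g * x * (g : G)⁻¹ := rfl

end Assembly

open scoped IsMulCommutative in
/-- Let `P` be an abelian Sylow `p`-subgroup of the finite group `G`, generated by `d` elements (`d` its minimal number of generators). If the order of `G` is coprime to `(p - 1)(p ^ 2 - 1) ⋯ (p ^ d - 1)`, then `G` has a normal `p`-complement. (The classical statement needs only the largest number of cyclic factors of `P` of equal order in place of `d`; the form here follows from it.) -/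
theorem result {G : Type*} [Group G] [Finite G] (p : ℕ) [Fact p.Prime] (P : Sylow p G) (hab : IsMulCommutative (P : Subgroup G)) (hcop : Nat.Coprime (Nat.card G) (∏ i ∈ Finset.Icc 1 (Group.rank (P : Subgroup G)), (p ^ i - 1))) : Cfsg.HasNormalPComplement p G := by
  have hNC : Subgroup.normalizer ((P : Subgroup G) : Set G) ≤ Subgroup.centralizer ((P : Subgroup G) : Set G) := by
    intro g hg
    set m := (P : Subgroup G).index with hm
    have hcard : Nat.card ↥(P : Subgroup G) * m = Nat.card G := (P : Subgroup G).card_mul_index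
    have hm_dvd : m ∣ Nat.card G := Dvd.intro_left _ hcard
    have hmp : Nat.Coprime m p := by
      rw [Nat.coprime_comm, Nat.Prime.coprime_iff_not_dvd (Fact.out)]
      exact P.not_dvd_index
    -- g ^ m ∈ P
    have hgm : g ^ m ∈ (P : Subgroup G) := by
      have hQ : IsPGroup p ↥(Subgroup.zpowers (g ^ m)) := by
        obtain ⟨k, hk⟩ := IsPGroup.iff_card.mp P.isPGroup'
        intro q
        refine ⟨k, ?_⟩
        obtain ⟨z, hz⟩ := Subgroup.mem_zpowers_iff.mp q.2
        apply Subtype.ext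
        rw [Subgroup.coe_pow, ← hz, Subgroup.coe_one, ← zpow_natCast, ← zpow_mul, mul_comm, zpow_mul,
          zpow_natCast, ← pow_mul, ← hk, mul_comm, hcard, pow_card_eq_one', one_zpow]
      have h1 := hQ.inf_normalizer_sylow P
      have h2 : g ^ m ∈ Subgroup.zpowers (g ^ m) ⊓ Subgroup.normalizer (P : Set G) :=
        ⟨Subgroup.mem_zpowers _, Subgroup.pow_mem _ hg m⟩
      rw [h1] at h2
      exact h2.2
    set α : MulAut ↥(P : Subgroup G) := conjHom (P : Subgroup G) ⟨g, hg⟩ with hα
    have hαm : α ^ m = 1 := by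
      rw [hα, ← map_pow]
      ext x
      rw [conjHom_apply]
      have hc := hab.is_comm.comm (⟨g ^ m, hgm⟩ : ↥(P : Subgroup G)) x
      have hc' : g ^ m * (x : G) = (x : G) * g ^ m := congrArg Subtype.val hc
      simp only [Subgroup.coe_pow, MulAut.one_apply]
      rw [hc']
      group
    obtain ⟨S, hS1, hS2⟩ := Group.rank_spec ↥(P : Subgroup G)
    have hcop' : Nat.Coprime m (∏ i ∈ Finset.Icc 1 S.card, (p ^ i - 1)) := by
      rw [hS1]
      exact Nat.Coprime.coprime_dvd_left hm_dvd hcop
    have hα1 : α = 1 := core P.isPGroup' α m hαm hmp S hS2 hcop'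
    rw [Subgroup.mem_centralizer_iff]
    intro x hx
    have h3 := congrArg (fun φ : MulAut ↥(P : Subgroup G) => ((φ ⟨x, hx⟩ : ↥(P : Subgroup G)) : G)) hα1
    simp only [hα, conjHom_apply, MulAut.one_apply] at h3
    -- g * x * g⁻¹ = x
    calc x * g = g * x * g⁻¹ * g := by rw [h3]
      _ = g * x := by group
  exact ⟨P, _, inferInstance, MonoidHom.ker_transferSylow_isComplement' P hNC⟩

end Cfsg.Agent.S3969
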