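import Cfsg.Statements.S3970
import Cfsg.Agent.S3969
import Mathlib

set_option autoImplicit false
open Cfsg

namespace Cfsg.Agent.S3970

universe u

/-- the hypothesis on Sylow subgroups -/
def Hyp (G : Type u) [Group G] [Finite G] : Prop :=
  ∀ p : ℕ, p.Prime → p ∣ Nat.card G → (∃ q : ℕ, q.Prime ∧ q ∣ Nat.card G ∧ p < q) →
    ∀ P : Sylow p G, IsMulCommutative (P : Subgroup G) ∧ Group.rank (P : Subgroup G) ≤ 2

/-- a prime `r > p` does not divide `p ^ i - 1` for `i ≤ 2` unless `p = 2, r = 3` -/
theorem not_dvd_pow_sub_one {p r i : ℕ} (hp : p.Prime) (hr : r.Prime) (hpr : p < r)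
    (hi1 : 1 ≤ i) (hi2 : i ≤ 2) (hexc : ¬ (p = 2 ∧ r = 3)) : ¬ r ∣ p ^ i - 1 := by
  have hp2 : 2 ≤ p := hp.two_le
  intro hdvd
  have h1 : ¬ r ∣ p - 1 := by
    intro h
    have := Nat.le_of_dvd (by omega) h
    omega
  interval_cases i
  · rw [pow_one] at hdvd
    exact h1 hdvd
  · have e : p ^ 2 - 1 = (p - 1) * (p + 1) := by
      have : p ^ 2 = (p - 1) * (p + 1) + 1 := by
        obtain ⟨k, rfl⟩ : ∃ k, p = k + 1 := ⟨p - 1, by omega⟩
        simp only [Nat.add_sub_cancel]
        ring
      omega
    rw [e] at hdvd
    rcases (Nat.Prime.dvd_mul hr).mp hdvd with h | h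
    · exact h1 h
    · have hle := Nat.le_of_dvd (by omega) h
      have hrp : r = p + 1 := by omega
      -- consecutive primes
      rcases Nat.Prime.eq_two_or_odd' hp with h2 | hodd
      · exact hexc ⟨h2, by omega⟩
      · rcases Nat.Prime.eq_two_or_odd' hr with h2' | hodd'
        · omega
        · rw [hrp] at hodd'
          exact (Nat.not_even_iff_odd.mpr hodd') (Odd.add_one hodd)

open scoped IsMulCommutative in
/-- the main induction -/
theorem main : ∀ (n : ℕ) (G : Type u) [Group G] [Finite G], Nat.card G = n → Hyp G →
    ¬ 12 ∣ Nat.card G → Group.IsSolvable G := by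
  intro n
  induction n using Nat.strong_induction_on with
  | _ n ih =>
    intro G _ _ hn h h12
    by_cases h1 : Nat.card G = 1
    · have : Subsingleton G := (Nat.card_eq_one_iff_unique.mp h1).1
      infer_instance
    set p := (Nat.card G).minFac with hpdef
    have hp : p.Prime := Nat.minFac_prime h1
    have hpG : p ∣ Nat.card G := Nat.minFac_dvd _
    have : Fact p.Prime := ⟨hp⟩
    by_cases hq : ∃ q : ℕ, q.Prime ∧ q ∣ Nat.card G ∧ p < q
    swap
    · -- `G` is a `p`-group
      have hcard : Nat.card G = p ^ (Nat.card G).primeFactorsList.length := by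
        apply Nat.eq_prime_pow_of_unique_prime_dvd Nat.card_pos.ne'
        intro d hd hdG
        by_contra hne
        apply hq
        refine ⟨d, hd, hdG, ?_⟩
        have := Nat.minFac_le_of_dvd hd.two_le hdG
        omega
      have hPG : IsPGroup p G := IsPGroup.of_card hcard
      have := hPG.isNilpotent
      infer_instance
    · obtain ⟨P⟩ : Nonempty (Sylow p G) := inferInstance
      obtain ⟨hab, hrank⟩ := h p hp hpG hq P
      set m := (P : Subgroup G).index with hm
      have hcardPm : Nat.card ↥(P : Subgroup G) * m = Nat.card G := (P : Subgroup G).card_mul_index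
      have hm_dvd : m ∣ Nat.card G := Dvd.intro_left _ hcardPm
      have hmp : Nat.Coprime m p := by
        rw [Nat.coprime_comm, Nat.Prime.coprime_iff_not_dvd hp]
        exact P.not_dvd_index
      -- primes dividing `m` exceed `p`
      have hprime_m : ∀ r : ℕ, r.Prime → r ∣ m → p < r := by
        intro r hr hrm
        have h1 := Nat.minFac_le_of_dvd hr.two_le (hrm.trans hm_dvd)
        have h2 : r ≠ p := by
          rintro rfl
          exact (Nat.Prime.coprime_iff_not_dvd hr).mp hmp.symm hrm
        omega
      -- a generating set of `P` adapted to the exceptional case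
      have hgenS : ∃ S : Finset ↥(P : Subgroup G), Subgroup.closure (S : Set ↥(P : Subgroup G)) = ⊤ ∧
          Nat.Coprime m (∏ i ∈ Finset.Icc 1 S.card, (p ^ i - 1)) := by
        by_cases hexc : p = 2 ∧ 3 ∣ m
        · -- `|P| = 2`
          obtain ⟨hp2, h3m⟩ := hexc
          obtain ⟨k, hk⟩ := IsPGroup.iff_card.mp P.isPGroup'
          have hk1 : k = 1 := by
            have hk0 : k ≠ 0 := by
              rintro rfl
              rw [pow_zero] at hk
              have hdvd := P.dvd_card_of_dvd_card hpG
              rw [hk] at hdvd
              exact hp.one_lt.ne' (Nat.dvd_one.mp hdvd)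
            by_contra hk1
            have hk2 : 2 ≤ k := by omega
            apply h12
            rw [← hcardPm, hk, hp2]
            have h4 : 4 ∣ 2 ^ k := by
              have : (2 : ℕ) ^ 2 ∣ 2 ^ k := pow_dvd_pow 2 hk2
              simpa using this
            have : 4 * 3 ∣ 2 ^ k * m := Nat.mul_dvd_mul h4 h3m
            simpa using this
          rw [hk1, pow_one] at hk
          have hcyc : IsCyclic ↥(P : Subgroup G) := isCyclic_of_prime_card hk
          obtain ⟨g₀, hg₀⟩ := hcyc.exists_generator
          refine ⟨{g₀}, ?_, ?_⟩
          · rw [eq_top_iff]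
            intro x _
            have := hg₀ x
            rw [Finset.coe_singleton, ← Subgroup.zpowers_eq_closure]
            exact this
          · rw [Finset.card_singleton, hp2]
            simp
        · obtain ⟨S, hS1, hS2⟩ := Group.rank_spec ↥(P : Subgroup G)
          refine ⟨S, hS2, ?_⟩
          apply Nat.Coprime.prod_right
          intro i hi
          rw [Finset.mem_Icc] at hi
          apply Nat.coprime_of_dvd
          intro r hr hrm
          apply not_dvd_pow_sub_one hp hr (hprime_m r hr hrm) hi.1 (by omega)
          rintro ⟨h2, h3⟩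
          exact hexc ⟨h2, h3 ▸ hrm⟩
      obtain ⟨S, hS2, hcop'⟩ := hgenS
      -- `N(P) ≤ C(P)`
      have hNC : Subgroup.normalizer ((P : Subgroup G) : Set G) ≤ Subgroup.centralizer ((P : Subgroup G) : Set G) := by
        intro g hg
        have hgm : g ^ m ∈ (P : Subgroup G) := by
          have hQ : IsPGroup p ↥(Subgroup.zpowers (g ^ m)) := by
            obtain ⟨k, hk⟩ := IsPGroup.iff_card.mp P.isPGroup'
            intro q
            refine ⟨k, ?_⟩
            obtain ⟨z, hz⟩ := Subgroup.mem_zpowers_iff.mp q.2
            apply Subtype.ext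
            rw [Subgroup.coe_pow, ← hz, Subgroup.coe_one, ← zpow_natCast, ← zpow_mul, mul_comm, zpow_mul,
              zpow_natCast, ← pow_mul, ← hk, mul_comm, hcardPm, pow_card_eq_one', one_zpow]
          have h1 := hQ.inf_normalizer_sylow P
          have h2 : g ^ m ∈ Subgroup.zpowers (g ^ m) ⊓ Subgroup.normalizer (P : Set G) :=
            ⟨Subgroup.mem_zpowers _, Subgroup.pow_mem _ hg m⟩
          rw [h1] at h2
          exact h2.2
        set α : MulAut ↥(P : Subgroup G) := Cfsg.Agent.S3969.conjHom (P : Subgroup G) ⟨g, hg⟩ with hα
        have hαm : α ^ m = 1 := by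
          rw [hα, ← map_pow]
          ext x
          rw [Cfsg.Agent.S3969.conjHom_apply]
          have hc := hab.is_comm.comm (⟨g ^ m, hgm⟩ : ↥(P : Subgroup G)) x
          have hc' : g ^ m * (x : G) = (x : G) * g ^ m := congrArg Subtype.val hc
          simp only [Subgroup.coe_pow, MulAut.one_apply]
          rw [hc']
          group
        have hα1 : α = 1 := Cfsg.Agent.S3969.core P.isPGroup' α m hαm hmp S hS2 hcop'
        rw [Subgroup.mem_centralizer_iff]
        intro x hx
        have h3 := congrArg (fun φ : MulAut ↥(P : Subgroup G) => ((φ ⟨x, hx⟩ : ↥(P : Subgroup G)) : G)) hα1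
        simp only [hα, Cfsg.Agent.S3969.conjHom_apply, MulAut.one_apply] at h3
        calc x * g = g * x * g⁻¹ * g := by rw [h3]
          _ = g * x := by group
      -- Burnside's transfer theorem
      set K := (MonoidHom.transferSylow P hNC).ker with hK
      have hcompl : Subgroup.IsComplement' K (P : Subgroup G) := MonoidHom.ker_transferSylow_isComplement' P hNC
      have hcardK : Nat.card K * Nat.card (P : Subgroup G) = Nat.card G := hcompl.card_mul_card
      have hKm : Nat.card K = m := by
        have hpos : 0 < Nat.card (P : Subgroup G) := Nat.card_pos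
        have : Nat.card K * Nat.card (P : Subgroup G) = m * Nat.card (P : Subgroup G) := by
          rw [hcardK, ← hcardPm, mul_comm]
        exact Nat.eq_of_mul_eq_mul_right hpos this
      have hPgt : 1 < Nat.card (P : Subgroup G) := by
        have hdvd := P.dvd_card_of_dvd_card hpG
        exact lt_of_lt_of_le hp.one_lt (Nat.le_of_dvd Nat.card_pos hdvd)
      have hKlt : Nat.card K < n := by
        rw [← hn, ← hcardK]
        have hKpos : 0 < Nat.card K := Nat.card_pos
        nlinarith
      -- the hypothesis passes to `K`
      have hHypK : Hyp K := by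
        intro r hr hrK hq' R
        obtain ⟨q, hqp, hqK, hrq⟩ := hq'
        have hKG : Nat.card K ∣ Nat.card G := Dvd.intro _ hcardK
        have hrG : r ∣ Nat.card G := hrK.trans hKG
        have : Fact r.Prime := ⟨hr⟩
        have hrp : r ≠ p := by
          rintro rfl
          rw [hKm] at hrK
          exact (Nat.Prime.coprime_iff_not_dvd hr).mp hmp.symm hrK
        -- the image of `R` in `G` is a Sylow subgroup of `G`
        have hR' : IsPGroup r ((R : Subgroup K).map K.subtype) := R.isPGroup'.map _
        obtain ⟨Q, hQ⟩ := hR'.exists_le_sylow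
        have hcardR : Nat.card ((R : Subgroup K).map K.subtype) = Nat.card (R : Subgroup K) :=
          Nat.card_congr ((R : Subgroup K).equivMapOfInjective K.subtype K.subtype_injective).symm.toEquiv
        have hfact : (Nat.card G).factorization r = (Nat.card K).factorization r := by
          obtain ⟨k, hk⟩ := IsPGroup.iff_card.mp P.isPGroup'
          rw [← hcardK, hk, Nat.factorization_mul Nat.card_pos.ne' (pow_ne_zero k hp.ne_zero)]
          simp only [Finsupp.coe_add, Pi.add_apply, Nat.factorization_pow, Finsupp.coe_smul,
            Pi.smul_apply, smul_eq_mul]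
          rw [Nat.Prime.factorization hp, Finsupp.single_apply, if_neg (fun h => hrp h.symm)]
          simp
        have heq : (R : Subgroup K).map K.subtype = (Q : Subgroup G) := by
          apply Subgroup.eq_of_le_of_card_ge hQ
          rw [hcardR, Q.card_eq_multiplicity, R.card_eq_multiplicity, hfact]
        obtain ⟨habQ, hrankQ⟩ := h r hr hrG ⟨q, hqp, hqK.trans hKG, hrq⟩ Q
        let e : (R : Subgroup K) ≃* (Q : Subgroup G) :=
          ((R : Subgroup K).equivMapOfInjective K.subtype K.subtype_injective).trans
            (MulEquiv.subgroupCongr heq)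
        constructor
        · constructor; constructor
          intro a b
          apply e.injective
          rw [map_mul, map_mul]
          exact habQ.is_comm.comm _ _
        · rw [Group.rank_congr e]
          exact hrankQ
      have h12K : ¬ 12 ∣ Nat.card K := fun h => h12 (h.trans (Dvd.intro _ hcardK))
      have hsolvK : Group.IsSolvable K := ih _ hKlt K rfl hHypK h12K
      exact Group.isSolvable_of_ker_le_range K.subtype (MonoidHom.transferSylow P hNC)
        (by rw [Subgroup.range_subtype])

/-- Let `G` be a finite group such that for every prime `p` dividing its order, other than the largest such prime, the Sylow `p`-subgroups are abelian and generated by at most two elements, and suppose `12` does not divide the order of `G`. Then `G` is solvable. In particular a group of cube-free order not divisible by `12` is solvable. -/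
theorem result {G : Type*} [Group G] [Finite G] (h : ∀ p : ℕ, p.Prime → p ∣ Nat.card G → (∃ q : ℕ, q.Prime ∧ q ∣ Nat.card G ∧ p < q) → ∀ P : Sylow p G, IsMulCommutative (P : Subgroup G) ∧ Group.rank (P : Subgroup G) ≤ 2) (h12 : ¬ 12 ∣ Nat.card G) : Group.IsSolvable G :=
  main _ G rfl h h12
end Cfsg.Agent.S3970
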