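-- Statement S3971: Sylow 2-subgroup with a cyclic subgroup of index ≤ 2 and 3 ∤ |G| ⇒ normal 2-complement.
import Cfsg.Statements.S3971
import Cfsg.Agent.Lib.Helper35_PGroupAut

set_option autoImplicit false
open Cfsg

namespace Cfsg.Agent.S3971

open Cfsg.Agent.Lib.Helper35_FrobeniusNPC Cfsg.Agent.Lib.Helper35_FrobeniusCor
  Cfsg.Agent.Lib.Helper35_PGroupAut Subgroup

section aux

variable {G : Type*} [Group G] [Finite G]

omit [Finite G] in
theorem orderOf_le_two_mul_orderOf_sq (x : G) : orderOf x ≤ 2 * orderOf (x ^ 2) := by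
  rw [orderOf_pow' x two_ne_zero]
  have hd : Nat.gcd (orderOf x) 2 ∣ orderOf x := Nat.gcd_dvd_left _ _
  have hle : Nat.gcd (orderOf x) 2 ≤ 2 := Nat.le_of_dvd two_pos (Nat.gcd_dvd_right _ _)
  calc orderOf x = Nat.gcd (orderOf x) 2 * (orderOf x / Nat.gcd (orderOf x) 2) :=
        (Nat.mul_div_cancel' hd).symm
    _ ≤ 2 * (orderOf x / Nat.gcd (orderOf x) 2) := Nat.mul_le_mul_right _ hle

/-- an element of prime power order `r ^ k`, `r ≥ 5`, normalizing a `2`-group with a cyclic subgroup of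
index at most `2` centralizes it -/
theorem key {g : G} {r k : ℕ} (hr : r.Prime) (hr5 : 5 ≤ r) (hgo : orderOf g = r ^ k) :
    ∀ (m : ℕ) (Q : Subgroup G), Nat.card ↥Q = m → IsPGroup 2 Q →
      (∃ x ∈ Q, Nat.card ↥Q ≤ 2 * orderOf x) → g ∈ normalizer (Q : Set G) →
      g ∈ centralizer (Q : Set G) := by
  have : Fact (Nat.Prime 2) := ⟨Nat.prime_two⟩
  have : Fact r.Prime := ⟨hr⟩
  have hr2 : r ≠ 2 := by omega
  have hcop2 : Nat.Coprime r 2 := (Nat.coprime_primes hr Nat.prime_two).mpr hr2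
  intro m
  induction m using Nat.strong_induction_on with
  | _ m ih =>
  intro Q hcard hQ ⟨x, hxQ, hxo⟩ hN
  by_cases hne : Q = ⊥
  · rw [Subgroup.mem_centralizer_iff]
    intro y hy
    rw [hne, SetLike.mem_coe, Subgroup.mem_bot] at hy
    rw [hy, one_mul, mul_one]
  set Z : Subgroup G := Subgroup.zpowers g with hZdef
  have hgZ : g ∈ Z := Subgroup.mem_zpowers g
  have hZN : Z ≤ normalizer (Q : Set G) := by rw [hZdef, Subgroup.zpowers_le]; exact hN
  have hZcard : Nat.card Z = r ^ k := by rw [hZdef, Nat.card_zpowers, hgo]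
  have hZr : IsPGroup r Z := IsPGroup.of_card hZcard
  obtain ⟨M, hMQ, hMne, hZM, hpow, -⟩ := exists_invariant_lt hQ hne hZN
  have hltM : Nat.card ↥M < m := hcard ▸ card_lt_of_le_of_ne hMQ hMne
  have hx2M : x ^ 2 ∈ M := hpow x hxQ
  -- cardinalities
  obtain ⟨b, hb⟩ := (IsPGroup.iff_card (p := 2)).mp hQ
  obtain ⟨c, hc⟩ := (IsPGroup.iff_card (p := 2)).mp (hQ.to_le hMQ)
  have hMdvd : Nat.card ↥M ∣ Nat.card ↥Q := Subgroup.card_dvd_of_le hMQ
  have hcb : c < b := by
    have h1 : Nat.card ↥M < Nat.card ↥Q := card_lt_of_le_of_ne hMQ hMne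
    rw [hb, hc] at h1
    exact (Nat.pow_lt_pow_iff_right (by norm_num)).mp h1
  have hox2 : orderOf (x ^ 2) ≤ Nat.card ↥M := by
    have := orderOf_dvd_natCard (⟨x ^ 2, hx2M⟩ : ↥M)
    rw [Subgroup.orderOf_mk] at this
    exact Nat.le_of_dvd Nat.card_pos this
  have hox := orderOf_le_two_mul_orderOf_sq x
  have hbc : b ≤ c + 2 := by
    have h1 : 2 ^ b ≤ 2 ^ (c + 2) := by
      rw [pow_add, ← hb, ← hc]
      omega
    exact (Nat.pow_le_pow_iff_right (by norm_num)).mp h1
  -- `g` centralizes `M`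
  have hgM : g ∈ centralizer (M : Set G) := by
    apply ih _ hltM M rfl (hQ.to_le hMQ) ⟨x ^ 2, hx2M, ?_⟩ (hZM hgZ)
    have h2 : 2 * Nat.card ↥M ≤ Nat.card ↥Q := by
      rw [hb, hc, ← pow_succ']
      exact Nat.pow_le_pow_right (by norm_num) hcb
    omega
  -- counting fixed points
  have hmod := card_modEq_card_inf_centralizer Q Z hZr hZN
  set F : Subgroup G := Q ⊓ centralizer (Z : Set G) with hF
  have hFQ : F ≤ Q := inf_le_left
  have hMF : M ≤ F := by
    refine le_inf hMQ ?_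
    intro y hy
    rw [Subgroup.mem_centralizer_iff]
    intro z hz
    obtain ⟨i, rfl⟩ := Subgroup.mem_zpowers_iff.mp hz
    have : Commute g y := ((Subgroup.mem_centralizer_iff.mp hgM) y hy).symm
    exact (this.zpow_left i).eq
  obtain ⟨f, hf⟩ := (IsPGroup.iff_card (p := 2)).mp (hQ.to_le hFQ)
  have hcf : c ≤ f := by
    have h1 : Nat.card ↥M ∣ Nat.card ↥F := Subgroup.card_dvd_of_le hMF
    rw [hc, hf] at h1
    exact (Nat.pow_dvd_pow_iff_le_right (by norm_num)).mp h1
  have hfb : f ≤ b := by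
    have h1 : Nat.card ↥F ∣ Nat.card ↥Q := Subgroup.card_dvd_of_le hFQ
    rw [hb, hf] at h1
    exact (Nat.pow_dvd_pow_iff_le_right (by norm_num)).mp h1
  have hfeq : f = b := by
    rw [hb, hf] at hmod
    have hdvd : r ∣ 2 ^ b - 2 ^ f :=
      (Nat.modEq_iff_dvd' (Nat.pow_le_pow_right (by norm_num) hfb)).mp hmod.symm
    obtain ⟨d, rfl⟩ : ∃ d, b = f + d := ⟨b - f, by omega⟩
    have hd2 : d ≤ 2 := by omega
    have e : 2 ^ (f + d) - 2 ^ f = 2 ^ f * (2 ^ d - 1) := by
      rw [pow_add, Nat.mul_sub, mul_one]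
    rw [e] at hdvd
    have h1 : r ∣ 2 ^ d - 1 :=
      (Nat.Coprime.dvd_mul_left (Nat.Coprime.pow_right f hcop2)).mp hdvd
    interval_cases d
    · rfl
    · norm_num at h1; omega
    · norm_num at h1
      have := Nat.le_of_dvd (by norm_num) h1
      omega
  have hFeq : F = Q := by
    apply Subgroup.eq_of_le_of_card_ge hFQ
    rw [hb, hf, hfeq]
  have hQZ : Q ≤ centralizer (Z : Set G) := by
    rw [← hFeq]; exact inf_le_right
  rw [Subgroup.mem_centralizer_iff]
  intro y hy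
  exact ((Subgroup.mem_centralizer_iff.mp (hQZ hy)) g hgZ).symm

omit [Finite G] in
theorem relIndex_mul_card {H K : Subgroup G} (h : H ≤ K) :
    H.relIndex K * Nat.card ↥H = Nat.card ↥K := by
  rw [Subgroup.relIndex, ← Nat.card_congr (Subgroup.subgroupOfEquivOfLe h).toEquiv]
  exact Subgroup.index_mul_card _

/-- equality of odd parts -/
theorem odd_part_eq {k n i a : ℕ} (hk : Nat.Coprime k 2) (hn : Nat.Coprime n 2)
    (h : k * 2 ^ i = 2 ^ a * n) : k = n := by
  apply Nat.dvd_antisymm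
  · have h1 : k ∣ 2 ^ a * n := ⟨2 ^ i, h.symm⟩
    exact (Nat.Coprime.dvd_mul_left (Nat.Coprime.pow_right a hk)).mp h1
  · have h1 : n ∣ k * 2 ^ i := ⟨2 ^ a, by rw [h]; ring⟩
    exact (Nat.Coprime.dvd_mul_right (Nat.Coprime.pow_right i hn)).mp h1

end aux

/-- Let `G` be a finite group of order `2 ^ a * n` with `n` odd and not divisible by `3`, and suppose `G` has an element of order `2 ^ (a - 1)` (so a Sylow `2`-subgroup has a cyclic subgroup of index at most `2`). Then `G` has a normal subgroup of order `n`. -/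
theorem result {G : Type*} [Group G] [Finite G] (a n : ℕ) (hG : Nat.card G = 2 ^ a * n) (hn : Odd n) (h3 : ¬ 3 ∣ n) (hx : ∃ x : G, orderOf x = 2 ^ (a - 1)) : ∃ N : Subgroup G, N.Normal ∧ Nat.card N = n := by
  classical
  have : Fact (Nat.Prime 2) := ⟨Nat.prime_two⟩
  have hn2 : Nat.Coprime n 2 := Nat.Coprime.symm (Nat.coprime_two_left.mpr hn)
  obtain ⟨x, hxo⟩ := hx
  set C : Subgroup G := Subgroup.zpowers x with hC
  have hCcard : Nat.card ↥C = 2 ^ (a - 1) := by rw [hC, Nat.card_zpowers, hxo]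
  have hCp : IsPGroup 2 C := IsPGroup.of_card hCcard
  obtain ⟨P, hCP⟩ := hCp.exists_le_sylow
  -- the order of `P`
  obtain ⟨j, hj⟩ := (IsPGroup.iff_card (p := 2)).mp P.2
  have hPidx : Nat.Coprime (P : Subgroup G).index 2 :=
    Nat.Coprime.symm ((Nat.Prime.coprime_iff_not_dvd Nat.prime_two).mpr P.not_dvd_index)
  have hja : j = a := by
    have h1 : (P : Subgroup G).index * 2 ^ j = 2 ^ a * n := by
      rw [← hj, ← hG]; exact Subgroup.index_mul_card _
    have h2 : 2 ^ j ∣ 2 ^ a := by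
      have : 2 ^ j ∣ 2 ^ a * n := ⟨(P : Subgroup G).index, by rw [← h1]; ring⟩
      exact (Nat.Coprime.dvd_mul_right (Nat.Coprime.pow_left j hn2.symm)).mp this
    have h3' : 2 ^ a ∣ 2 ^ j := by
      have : 2 ^ a ∣ (P : Subgroup G).index * 2 ^ j := ⟨n, h1⟩
      exact (Nat.Coprime.dvd_mul_left (Nat.Coprime.pow_left a hPidx.symm)).mp this
    exact le_antisymm ((Nat.pow_dvd_pow_iff_le_right (by norm_num)).mp h2)
      ((Nat.pow_dvd_pow_iff_le_right (by norm_num)).mp h3')
  have hPcard : Nat.card ↥(P : Subgroup G) = 2 ^ a := by rw [hj, hja]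
  have hCrel : C.relIndex (P : Subgroup G) ≤ 2 := by
    have h1 := relIndex_mul_card hCP
    rw [hCcard, hPcard] at h1
    have h2 : 2 ^ a ≤ 2 * 2 ^ (a - 1) := by
      rw [← pow_succ']
      exact Nat.pow_le_pow_right (by norm_num) (by omega)
    have h4 : 0 < 2 ^ (a - 1) := by positivity
    nlinarith
  have h3G : ¬ 3 ∣ Nat.card G := by
    rw [hG]
    intro hd
    rcases (Nat.Prime.dvd_mul Nat.prime_three).mp hd with h | h
    · have := Nat.Prime.dvd_of_dvd_pow Nat.prime_three h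
      omega
    · exact h3 h
  -- Frobenius
  have hF : FrobHyp 2 G := by
    apply frobHyp_of_le_sylow P
    intro Q hQP g hgN hgo
    by_contra hgC
    have hQ : IsPGroup 2 Q := P.2.to_le hQP
    obtain ⟨r, k, h, hr, hoh, hhN, hhc, hhC⟩ :=
      Cfsg.Agent.S0536.exists_prime_pow_order 2 Q _ g rfl hgN hgo hgC
    have hk0 : k ≠ 0 := by
      intro h0
      rw [h0, pow_zero, orderOf_eq_one_iff] at hoh
      exact hhC (hoh ▸ one_mem _)
    have hrG : r ∣ Nat.card G := (dvd_pow_self r hk0).trans (hoh ▸ orderOf_dvd_natCard h)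
    have hr2 : r ≠ 2 := by
      intro hEq
      rw [hoh, hEq] at hhc
      have : 2 ∣ Nat.gcd (2 ^ k) 2 := Nat.dvd_gcd (dvd_pow_self 2 hk0) dvd_rfl
      rw [hhc] at this
      omega
    have hr3 : r ≠ 3 := fun hEq => h3G (hEq ▸ hrG)
    have hr5 : 5 ≤ r := by
      have h2 := hr.two_le
      by_contra hlt
      have : r = 4 := by omega
      rw [this] at hr
      exact absurd hr (by norm_num)
    apply hhC
    apply key hr hr5 hoh _ Q rfl hQ _ hhN
    -- the cyclic subgroup of index at most two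
    have hcyc : IsCyclic ↥(Q ⊓ C) := Subgroup.isCyclic_of_le (inf_le_right : Q ⊓ C ≤ C)
    obtain ⟨y, hy⟩ := (Subgroup.isCyclic_iff_exists_zpowers_eq_top _).mp hcyc
    have hyQ : y ∈ Q := by
      have : y ∈ Q ⊓ C := hy ▸ Subgroup.mem_zpowers y
      exact this.1
    refine ⟨y, hyQ, ?_⟩
    have hyo : orderOf y = Nat.card ↥(Q ⊓ C) := by rw [← hy, Nat.card_zpowers]
    have h1 := relIndex_mul_card (inf_le_left : Q ⊓ C ≤ Q)
    rw [Subgroup.inf_relIndex_left] at h1
    have h2 : C.relIndex Q ≤ C.relIndex (P : Subgroup G) :=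
      Subgroup.relIndex_le_of_le_right hQP (by
        intro h0
        have := relIndex_mul_card hCP
        rw [h0, zero_mul] at this
        exact Nat.card_pos.ne' this.symm)
    rw [hyo, ← h1]
    exact Nat.mul_le_mul_right _ (h2.trans hCrel)
  obtain ⟨K, hKn, hKc, i, hKi⟩ := hasNPC_of_frobHyp hF
  refine ⟨K, hKn, ?_⟩
  have h1 : Nat.card ↥K * 2 ^ i = 2 ^ a * n := by
    rw [← hKi, ← hG, mul_comm]; exact Subgroup.index_mul_card _
  exact odd_part_eq hKc hn2 h1

end Cfsg.Agent.S3971
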