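import Cfsg.Statements.S3972
import Mathlib
import Cfsg.Agent.Lib.Helper58_Schur
import Cfsg.Agent.Lib.Helper58_Schur2

set_option autoImplicit false
set_option linter.style.haveILetI false
set_option linter.unusedVariables false
open Cfsg

namespace Cfsg.Agent.S3972


open Cfsg.Agent.Lib.Helper58_Schur Cfsg.Agent.Lib.Helper58_Schur2 in
/-- A permutation of order `p ^ m` on `p ^ m` points generates a regular subgroup. -/
theorem isRegSub_zpowers {Ω : Type*} [Fintype Ω] [DecidableEq Ω] (p m : ℕ) (hp : p.Prime)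
    (hm : 1 ≤ m) (hΩ : Fintype.card Ω = p ^ m) (G : Subgroup (Equiv.Perm Ω)) (g : G)
    (hg : orderOf g = p ^ m) : IsRegSub Ω (Subgroup.zpowers g) := by
  -- a point with full period
  have hex : ∃ ω₀ : Ω, MulAction.period g ω₀ = p ^ m := by
    by_contra hno
    push Not at hno
    have hall : ∀ ω : Ω, g ^ (p ^ (m - 1)) • ω = ω := by
      intro ω
      rw [MulAction.pow_smul_eq_iff_period_dvd]
      have h1 : MulAction.period g ω ∣ p ^ m := hg ▸ MulAction.period_dvd_orderOf g ω
      obtain ⟨j, hj, hj'⟩ := (Nat.dvd_prime_pow hp).mp h1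
      rw [hj']
      apply pow_dvd_pow
      have : j ≠ m := fun h => hno ω (by rw [hj', h])
      omega
    have h1 : g ^ (p ^ (m - 1)) = 1 := by
      apply Subtype.ext
      apply Equiv.ext
      intro ω
      exact hall ω
    have h2 := orderOf_dvd_of_pow_eq_one h1
    rw [hg] at h2
    have h3 := (Nat.pow_dvd_pow_iff_le_right hp.one_lt).mp h2
    omega
  obtain ⟨ω₀, hω₀⟩ := hex
  have hfix : ∀ k : ℤ, g ^ k • ω₀ = ω₀ → g ^ k = 1 := by
    intro k hk
    rw [MulAction.zpow_smul_eq_iff_period_dvd, hω₀, ← hg] at hk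
    exact orderOf_dvd_iff_zpow_eq_one.mp hk
  have hpos : 0 < p ^ m := pow_pos hp.pos m
  -- the orbit map is bijective
  have hinj : Function.Injective (fun i : Fin (p ^ m) => g ^ (i : ℕ) • ω₀) := by
    intro i j hij
    change g ^ (i : ℕ) • ω₀ = g ^ (j : ℕ) • ω₀ at hij
    have h1 : g ^ (-((i : ℕ) : ℤ) + ((j : ℕ) : ℤ)) • ω₀ = ω₀ := by
      rw [zpow_add, mul_smul, zpow_natCast g j, ← hij, zpow_neg, zpow_natCast, inv_smul_smul]
    rw [MulAction.zpow_smul_eq_iff_period_dvd, hω₀] at h1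
    have h2 : |(-((i : ℕ) : ℤ) + ((j : ℕ) : ℤ))| < ((p ^ m : ℕ) : ℤ) := by
      have hi := i.2
      have hj := j.2
      rw [abs_lt]
      constructor <;> omega
    have h3 := Int.eq_zero_of_abs_lt_dvd h1 h2
    apply Fin.ext
    omega
  have hbij : Function.Bijective (fun i : Fin (p ^ m) => g ^ (i : ℕ) • ω₀) := by
    rw [Fintype.bijective_iff_injective_and_card]
    exact ⟨hinj, by rw [Fintype.card_fin, hΩ]⟩
  have hsurj : ∀ ω : Ω, ∃ i : ℕ, g ^ i • ω₀ = ω := by
    intro ω
    obtain ⟨i, hi⟩ := hbij.2 ω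
    exact ⟨i, hi⟩
  refine ⟨?_, ?_, ?_⟩
  · rintro a ⟨i, rfl⟩ b ⟨j, rfl⟩
    exact zpow_mul_comm g i j
  · intro ω ω'
    obtain ⟨i, rfl⟩ := hsurj ω
    obtain ⟨j, rfl⟩ := hsurj ω'
    refine ⟨g ^ ((j : ℤ) - (i : ℤ)), ⟨_, rfl⟩, ?_⟩
    rw [← zpow_natCast, ← zpow_natCast, ← mul_smul, ← zpow_add, sub_add_cancel]
  · rintro c ⟨k, rfl⟩ ω hω
    obtain ⟨i, rfl⟩ := hsurj ω
    apply hfix
    have : g ^ k • g ^ i • ω₀ = g ^ i • g ^ k • ω₀ := by
      rw [← mul_smul, ← mul_smul, ← zpow_natCast, zpow_mul_comm]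
    change g ^ k • g ^ i • ω₀ = g ^ i • ω₀ at hω
    rw [this] at hω
    exact MulAction.injective (g ^ i) hω

/-- Let `p` be a prime, `m ≥ 2`, and `G` a transitive but not doubly transitive permutation group on `p ^ m` points containing a permutation of order `p ^ m` (necessarily a full cycle). Then `G` is imprimitive, and the normal closure in `G` of the `p ^ (m - 1)`-th power of that permutation is an intransitive normal subgroup. -/
theorem result {Ω : Type*} [Fintype Ω] [DecidableEq Ω] (p m : ℕ) (hp : p.Prime) (hm : 2 ≤ m) (hΩ : Fintype.card Ω = p ^ m) (G : Subgroup (Equiv.Perm Ω)) (htr : MulAction.IsPretransitive G Ω) (h2 : ¬ MulAction.IsMultiplyPretransitive G Ω 2) (g : G) (hg : orderOf g = p ^ m) : ¬ MulAction.IsPreprimitive G Ω ∧ ¬ MulAction.IsPretransitive (Subgroup.normalClosure ({g ^ (p ^ (m - 1))} : Set G)) Ω := by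
  classical
  haveI : Fact p.Prime := ⟨hp⟩
  have hC := isRegSub_zpowers p m hp (by omega) hΩ G g hg
  have hcard : Nat.card (Subgroup.zpowers g) = p ^ m := by rw [Nat.card_zpowers, hg]
  have hpC : p ∣ Nat.card (Subgroup.zpowers g) := by
    rw [hcard]
    exact dvd_pow_self p (by omega)
  have hne : Nat.card (Subgroup.zpowers g) ≠ p := by
    rw [hcard]
    intro h
    have h1 : p ^ m = p ^ 1 := by rw [h, pow_one]
    have := Nat.pow_right_injective hp.two_le h1
    omega
  haveI : Nonempty Ω := by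
    rw [← Fintype.card_pos_iff, hΩ]
    exact pow_pos hp.pos m
  obtain ⟨α⟩ := ‹Nonempty Ω›
  -- there is a proper nontrivial invariant subgroup
  have hK : ∃ K : Subgroup (Subgroup.zpowers g),
      Cfsg.Agent.Lib.Helper58_Schur.IsInv hC α (K : Set (Subgroup.zpowers g)) ∧ K ≠ ⊥ ∧ K ≠ ⊤ := by
    by_contra hno
    apply h2
    apply Cfsg.Agent.Lib.Helper58_Schur2.two_pretransitive_of_hprim hC α p hpC hne
    intro K hKinv
    by_contra hcon
    push Not at hcon
    exact hno ⟨K, hKinv, hcon.1, hcon.2⟩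
  obtain ⟨K, hKinv, hKbot, hKtop⟩ := hK
  constructor
  · intro hprim
    rcases Cfsg.Agent.Lib.Helper58_Schur.inv_subgroup_trivial hC α K hKinv with h | h
    · exact hKbot h
    · exact hKtop h
  · -- the element of order `p` lies in `K`
    set z' : Subgroup.zpowers g := ⟨g ^ (p ^ (m - 1)), Subgroup.pow_mem _ (Subgroup.mem_zpowers g) _⟩
      with hz'
    have hz'p : z' ^ p = 1 := by
      apply Subtype.ext
      change (g ^ (p ^ (m - 1))) ^ p = 1
      rw [← pow_mul, ← pow_succ, Nat.sub_add_cancel (by omega), ← hg]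
      exact pow_orderOf_eq_one g
    have hz'K : z' ∈ K := by
      rcases K.bot_or_exists_ne_one with h | ⟨k, hk, hk1⟩
      · exact absurd h hKbot
      have h1 : orderOf k ∣ p ^ m := by rw [← hcard]; exact orderOf_dvd_natCard k
      obtain ⟨j, hj, hj'⟩ := (Nat.dvd_prime_pow hp).mp h1
      have hj1 : j ≠ 0 := by
        rintro rfl
        rw [pow_zero, orderOf_eq_one_iff] at hj'
        exact hk1 hj'
      have hk'K : k ^ (p ^ (j - 1)) ∈ K := K.pow_mem hk _
      have hk'p : (k ^ (p ^ (j - 1))) ^ p = 1 := by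
        rw [← pow_mul, ← pow_succ, Nat.sub_add_cancel (by omega), ← hj']
        exact pow_orderOf_eq_one k
      have hk'1 : k ^ (p ^ (j - 1)) ≠ 1 := by
        intro h
        have h2 := orderOf_dvd_of_pow_eq_one h
        rw [hj'] at h2
        have h3 := (Nat.pow_dvd_pow_iff_le_right hp.one_lt).mp h2
        omega
      obtain ⟨i, hi⟩ :=
        Cfsg.Agent.Lib.Helper58_Schur2.exists_pow_eq_of_pow_prime_eq_one p hk'p hk'1 hz'p
      rw [hi]
      exact K.pow_mem hk'K i
    exact Cfsg.Agent.Lib.Helper58_Schur2.not_pretransitive_normalClosure hC α K hKinv hKtop z' hz'K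

end Cfsg.Agent.S3972
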