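import Cfsg.Statements.S3973
import Cfsg.Agent.Lib.Helper66_SchurMain
import Cfsg.Agent.Lib.Helper66_SchurRank

set_option autoImplicit false
open Cfsg

namespace Cfsg.Agent.S3973

open Cfsg.Agent.Lib.Helper66_SchurMain Cfsg.Agent.Lib.Helper66_SchurCore
  Cfsg.Agent.Lib.Helper66_SchurRank

/-- the abelianization of a free group of rank `n` is a free `ℤ`-module of rank `n` -/
theorem abelianization_free (n : ℕ) :
    ∃ _ : Additive (Abelianization (FreeGroup (Fin n))) ≃ₗ[ℤ] (Fin n →₀ ℤ), True := by
  have e : Additive (Abelianization (FreeGroup (Fin n))) ≃+ (Fin n →₀ ℤ) :=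
    FreeAbelianGroup.equivFinsupp (Fin n)
  exact ⟨e.toIntLinearEquiv, trivial⟩

/-- the rank bound for `T π` -/
theorem rank_T_le (n : ℕ) (rels : Finset (FreeGroup (Fin n)))
    [Finite (PresentedGroup (rels : Set (FreeGroup (Fin n))))] :
    Group.rank (T (PresentedGroup.mk (rels : Set (FreeGroup (Fin n))))) ≤ rels.card - n := by
  classical
  set π := PresentedGroup.mk (rels : Set (FreeGroup (Fin n))) with hπdef
  have hπ : Function.Surjective π := PresentedGroup.mk_surjective _
  have hker : ∀ f, f ∈ π.ker ↔ f ∈ Subgroup.normalClosure (rels : Set (FreeGroup (Fin n))) := by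
    intro f
    rw [MonoidHom.mem_ker]
    exact QuotientGroup.eq_one_iff f
  -- the central subgroup `Z`
  obtain ⟨Z, hZdef⟩ : ∃ Z : Subgroup (E π), Z = (ρ π).ker := ⟨_, rfl⟩
  have hZc : Z ≤ Subgroup.center (E π) := hZdef ▸ ρ_ker_le_center π
  let _ : CommGroup Z :=
    { (inferInstance : Group Z) with
      mul_comm := fun a b => Subtype.ext (by
        have := Subgroup.mem_center_iff.mp (hZc a.2) b
        exact this.symm) }
  -- module structure on the abelianization
  obtain ⟨eB, _⟩ := abelianization_free n
  have hBfree : Module.Free ℤ (Additive (Abelianization (FreeGroup (Fin n)))) :=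
    Module.Free.of_equiv eB.symm
  have hBfin : Module.Finite ℤ (Additive (Abelianization (FreeGroup (Fin n)))) :=
    Module.Finite.equiv eB.symm
  have hBrank : Module.finrank ℤ (Additive (Abelianization (FreeGroup (Fin n)))) = n := by
    rw [LinearEquiv.finrank_eq eB, Module.finrank_finsupp_self, Fintype.card_fin]
  -- the map `Z → Fᵃᵇ`
  let ψ₀ : Z →* Abelianization (FreeGroup (Fin n)) := (ab π).comp Z.subtype
  let ψ : Additive Z →ₗ[ℤ] Additive (Abelianization (FreeGroup (Fin n))) :=
    (MonoidHom.toAdditive ψ₀).toIntLinearMap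
  have hψ_apply : ∀ m : Additive Z, ψ m = Additive.ofMul (ab π ((Additive.toMul m : Z) : E π)) :=
    fun m => rfl
  have hψker : ∀ m : Additive Z, m ∈ LinearMap.ker ψ ↔ ((Additive.toMul m : Z) : E π) ∈ T π := by
    intro m
    rw [LinearMap.mem_ker, hψ_apply]
    constructor
    · intro h
      have h1 : ab π ((Additive.toMul m : Z) : E π) = 1 := congrArg Additive.toMul h
      have h2 : ((Additive.toMul m : Z) : E π) ∈ (ab π).ker := h1
      rw [ab_ker] at h2
      exact Subgroup.mem_inf.mpr ⟨hZdef ▸ (Additive.toMul m : Z).2, h2⟩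
    · intro h
      have h2 : ((Additive.toMul m : Z) : E π) ∈ (ab π).ker := by
        rw [ab_ker]
        exact T_le_commutator π h
      have h1 : ab π ((Additive.toMul m : Z) : E π) = 1 := h2
      rw [h1]
      rfl
  -- torsion cokernel
  have htors : ∀ b : Additive (Abelianization (FreeGroup (Fin n))),
      ∃ a : ℤ, a ≠ 0 ∧ a • b ∈ LinearMap.range ψ := by
    intro b
    obtain ⟨f, hf⟩ : ∃ f : FreeGroup (Fin n), Abelianization.of f = Additive.toMul b :=
      QuotientGroup.mk_surjective (Additive.toMul b)
    have hQ : Nat.card (PresentedGroup (rels : Set (FreeGroup (Fin n)))) ≠ 0 := Nat.card_pos.ne'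
    refine ⟨(Nat.card (PresentedGroup (rels : Set (FreeGroup (Fin n)))) : ℤ),
      by exact_mod_cast hQ, ?_⟩
    have hmem : (QuotientGroup.mk f : E π) ^ Nat.card (PresentedGroup (rels : Set (FreeGroup (Fin n)))) ∈ Z := by
      rw [hZdef, MonoidHom.mem_ker, map_pow, pow_card_eq_one']
    refine ⟨Additive.ofMul ⟨_, hmem⟩, ?_⟩
    rw [hψ_apply]
    change Additive.ofMul (ab π ((QuotientGroup.mk f : E π) ^ _)) = _
    rw [map_pow, ab_mk, natCast_zsmul]
    have : b = Additive.ofMul (Abelianization.of f) := by rw [hf]; rfl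
    rw [this]
    rfl
  -- generators of `Z`
  have hrelZ : ∀ w : rels, (QuotientGroup.mk (w : FreeGroup (Fin n)) : E π) ∈ Z := by
    intro w
    rw [hZdef, MonoidHom.mem_ker, ρ_mk, ← MonoidHom.mem_ker, hker]
    exact Subgroup.subset_normalClosure w.2
  let z : rels → Additive Z := fun w => Additive.ofMul ⟨_, hrelZ w⟩
  have hz : Submodule.span ℤ (Set.range z) = ⊤ := by
    rw [eq_top_iff]
    intro m _
    -- the subgroup of `E` generated by the images of the relators
    set H : Subgroup (E π) := Subgroup.closure (Set.range fun w : rels => (QuotientGroup.mk (w : FreeGroup (Fin n)) : E π)) with hH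
    have hHZ : H ≤ Z := by
      rw [hH, Subgroup.closure_le]
      rintro _ ⟨w, rfl⟩
      exact hrelZ w
    have hHn : H.Normal := normal_of_le_center (hHZ.trans hZc)
    have hcomap : Subgroup.normalClosure (rels : Set (FreeGroup (Fin n))) ≤
        H.comap (QuotientGroup.mk' (C π)) := by
      apply Subgroup.normalClosure_le_normal
      intro w hw
      exact Subgroup.subset_closure ⟨⟨w, hw⟩, rfl⟩
    have hZH : Z ≤ H := by
      intro x hx
      obtain ⟨f, rfl⟩ := QuotientGroup.mk_surjective x
      rw [hZdef, MonoidHom.mem_ker, ρ_mk, ← MonoidHom.mem_ker, hker] at hx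
      exact hcomap hx
    have hm : ((Additive.toMul m : Z) : E π) ∈ H := hZH (Additive.toMul m : Z).2
    -- pull back the closure to `Z`
    have hmap : (Subgroup.closure (Set.range fun w : rels => (⟨_, hrelZ w⟩ : Z))).map Z.subtype = H := by
      rw [MonoidHom.map_closure, hH]
      congr 1
      ext x
      constructor
      · rintro ⟨_, ⟨w, rfl⟩, rfl⟩
        exact ⟨w, rfl⟩
      · rintro ⟨w, rfl⟩
        exact ⟨_, ⟨w, rfl⟩, rfl⟩
    rw [← hmap] at hm
    obtain ⟨y, hy, hy'⟩ := hm
    have hy'' : y = Additive.toMul m := Subtype.ext hy'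
    have h1 := mem_span_of_mem_closure _ y hy
    rw [hy''] at h1
    have hmm : m = Additive.ofMul (Additive.toMul m) := rfl
    rw [hmm]
    convert h1 using 2
    ext x
    constructor
    · rintro ⟨w, rfl⟩
      exact ⟨_, ⟨w, rfl⟩, rfl⟩
    · rintro ⟨_, ⟨w, rfl⟩, rfl⟩
      exact ⟨w, rfl⟩
  obtain ⟨k, s, hk, hsker, hsspan⟩ := exists_generators_ker ψ htors z hz
  rw [hBrank, Fintype.card_coe] at hk
  -- the generators of `T`
  have hsT : ∀ i, ((Additive.toMul (s i) : Z) : E π) ∈ T π := fun i => (hψker _).mp (hsker i)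
  let t : Fin k → T π := fun i => ⟨_, hsT i⟩
  have hgen : Subgroup.closure ((Finset.univ.image t : Finset (T π)) : Set (T π)) = ⊤ := by
    rw [eq_top_iff]
    intro x _
    have hxZ : (x : E π) ∈ Z := hZdef ▸ T_le_ker π x.2
    have h1 : Additive.ofMul (⟨x, hxZ⟩ : Z) ∈ LinearMap.ker ψ := (hψker _).mpr x.2
    have h2 := hsspan h1
    have h3 : Set.range s = Additive.ofMul '' (Set.range fun i => (Additive.toMul (s i) : Z)) := by
      ext m
      constructor
      · rintro ⟨i, rfl⟩
        exact ⟨_, ⟨i, rfl⟩, rfl⟩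
      · rintro ⟨_, ⟨i, rfl⟩, rfl⟩
        exact ⟨i, rfl⟩
    rw [h3] at h2
    have h4 := mem_closure_of_mem_span _ _ h2
    -- transport along the inclusion `T → Z`
    have hTZ : T π ≤ Z := hZdef ▸ T_le_ker π
    let j : T π →* Z := Subgroup.inclusion hTZ
    have hj : Function.Injective j := Subgroup.inclusion_injective hTZ
    have h5 : (Subgroup.closure ((Finset.univ.image t : Finset (T π)) : Set (T π))).map j =
        Subgroup.closure (Set.range fun i => (Additive.toMul (s i) : Z)) := by
      rw [MonoidHom.map_closure]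
      congr 1
      ext y
      simp only [Finset.coe_image, Finset.coe_univ, Set.image_univ, Set.mem_image, Set.mem_range]
      constructor
      · rintro ⟨_, ⟨i, rfl⟩, rfl⟩
        exact ⟨i, rfl⟩
      · rintro ⟨i, rfl⟩
        exact ⟨_, ⟨i, rfl⟩, rfl⟩
    rw [← h5] at h4
    obtain ⟨y, hy, hy'⟩ := h4
    have : y = x := hj (hy'.trans (Subtype.ext rfl))
    rw [← this]
    exact hy
  have h1 := Group.rank_le hgen
  have h2 : (Finset.univ.image t).card ≤ k := by
    have := Finset.card_image_le (s := (Finset.univ : Finset (Fin k))) (f := t)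
    simpa using this
  omega

/-- If a finite group is presented by `n` generators and a finite set of `r` relators, then its Schur multiplier can be generated by `r - n` elements. In particular a finite group with a presentation having as many relators as generators has trivial Schur multiplier. -/
theorem result (n : ℕ) (rels : Finset (FreeGroup (Fin n))) [Finite (PresentedGroup (rels : Set (FreeGroup (Fin n))))] {A : Type*} [CommGroup A] [Finite A] (hA : Cfsg.HasSchurMultiplier (PresentedGroup (rels : Set (FreeGroup (Fin n)))) A) : Group.rank A ≤ rels.card - n := by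
  obtain ⟨eA⟩ := mulEquiv_T_of_hasSchurMultiplier (PresentedGroup.mk (rels : Set (FreeGroup (Fin n))))
    (PresentedGroup.mk_surjective _) hA
  rw [← Group.rank_congr eA]
  exact rank_T_le n rels

end Cfsg.Agent.S3973
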