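import Cfsg.Statements.S3975
import Mathlib
-- import your own Cfsg.Agent.* helpers here

set_option autoImplicit false
open Cfsg

namespace Cfsg.Agent.S3975

open Pointwise

theorem choose_pred_modEq (p : ℕ) (hp : p.Prime) (m : ℕ) (hm : 0 < m) :
    ∀ β : ℕ, Nat.choose (p ^ β * m - 1) (p ^ β - 1) ≡ 1 [MOD p] := by
  have : Fact p.Prime := ⟨hp⟩
  intro β
  induction β with
  | zero => simp [Nat.ModEq]
  | succ β ih =>
    have hp0 : 0 < p := hp.pos
    have hpos : 0 < p ^ β * m := Nat.mul_pos (pow_pos hp0 _) hm
    have hpos' : 0 < p ^ β := pow_pos hp0 _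
    have h1 : p ^ (β+1) * m - 1 = (p - 1) + p * (p ^ β * m - 1) := by
      obtain ⟨a, ha⟩ : ∃ a, p ^ β * m = a + 1 := ⟨p ^ β * m - 1, by omega⟩
      obtain ⟨b, hb⟩ : ∃ b, p = b + 1 := ⟨p - 1, by omega⟩
      rw [pow_succ, mul_comm (p ^ β) p, mul_assoc, ha]
      subst hb
      simp only [Nat.add_sub_cancel]
      ring_nf
      omega
    have h2 : p ^ (β+1) - 1 = (p - 1) + p * (p ^ β - 1) := by
      obtain ⟨a, ha⟩ : ∃ a, p ^ β = a + 1 := ⟨p ^ β - 1, by omega⟩
      obtain ⟨b, hb⟩ : ∃ b, p = b + 1 := ⟨p - 1, by omega⟩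
      rw [pow_succ, mul_comm (p ^ β) p, ha]
      subst hb
      simp only [Nat.add_sub_cancel]
      ring_nf
      omega
    have hlt : p - 1 < p := by omega
    have e1 : ∀ x, (p - 1 + p * x) % p = p - 1 := fun x => by
      rw [Nat.add_mul_mod_self_left, Nat.mod_eq_of_lt hlt]
    have e2 : ∀ x, (p - 1 + p * x) / p = x := fun x => by
      rw [Nat.add_mul_div_left _ _ hp0, Nat.div_eq_of_lt hlt, zero_add]
    have key := @Choose.choose_modEq_choose_mod_mul_choose_div_nat (p ^ (β+1) * m - 1) (p ^ (β+1) - 1) p _
    rw [h1, h2, e1, e1, e2, e2, Nat.choose_self, one_mul] at key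
    rw [h1, h2]
    exact key.trans ih


section Helpers

variable {G : Type*} [Group G] [DecidableEq G]

theorem stab_mul_mem (S : Finset G) (h : G) (hh : h ∈ MulAction.stabilizer G S) {s : G}
    (hs : s ∈ S) : h * s ∈ S := by
  have h1 : h • S = S := MulAction.mem_stabilizer_iff.1 hh
  have h2 : h • s ∈ h • S := Finset.smul_mem_smul_finset hs
  rw [h1] at h2
  exact h2

/-- the stabiliser of a finite set acts freely on it -/
@[reducible] def stabAct (S : Finset G) : MulAction (MulAction.stabilizer G S) S where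
  smul h s := ⟨h.1 * s.1, stab_mul_mem S h.1 h.2 s.2⟩
  one_smul _ := Subtype.ext (one_mul _)
  mul_smul _ _ _ := Subtype.ext (mul_assoc _ _ _)

theorem card_stab_dvd [Finite G] (S : Finset G) :
    Nat.card (MulAction.stabilizer G S) ∣ S.card := by
  let _ := stabAct S
  have hfree : ∀ b : S, MulAction.stabilizer (MulAction.stabilizer G S) b = ⊥ := by
    intro b
    rw [eq_bot_iff]
    intro h hh
    rw [MulAction.mem_stabilizer_iff] at hh
    have : h.1 * b.1 = b.1 := congrArg Subtype.val hh
    rw [Subgroup.mem_bot]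
    exact Subtype.ext (by simpa using this)
  have e := MulAction.selfEquivOrbitsQuotientProd hfree
  have := Nat.card_congr e
  rw [Nat.card_prod, Nat.card_eq_fintype_card, Fintype.card_coe] at this
  rw [this]
  exact Dvd.intro_left _ rfl

variable [Fintype G]

/-- the right coset `H s` as a finset -/
noncomputable def rcoset (H : Subgroup G) (s : G) : Finset G :=
  haveI : DecidablePred (fun x => x * s⁻¹ ∈ H) := Classical.decPred _
  Finset.univ.filter (fun x => x * s⁻¹ ∈ H)

theorem mem_rcoset (H : Subgroup G) (s x : G) : x ∈ rcoset H s ↔ x * s⁻¹ ∈ H := by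
  simp [rcoset]

theorem self_mem_rcoset (H : Subgroup G) (s : G) : s ∈ rcoset H s := by
  simp [mem_rcoset, H.one_mem]

theorem card_rcoset (H : Subgroup G) (s : G) : (rcoset H s).card = Nat.card H := by
  classical
  rw [Nat.card_eq_fintype_card]
  symm
  rw [← Fintype.card_coe]
  refine Fintype.card_congr ⟨fun h => ⟨h.1 * s, by simp [mem_rcoset]⟩,
    fun x => ⟨x.1 * s⁻¹, (mem_rcoset H s x.1).1 x.2⟩, fun h => by simp, fun x => by simp⟩

theorem le_stab_rcoset (H : Subgroup G) (s : G) : H ≤ MulAction.stabilizer G (rcoset H s) := by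
  intro h hh
  rw [MulAction.mem_stabilizer_iff]
  ext x
  rw [← Finset.inv_smul_mem_iff, mem_rcoset, mem_rcoset, smul_eq_mul, mul_assoc]
  exact Subgroup.mul_mem_cancel_left H (H.inv_mem hh)

theorem stab_rcoset (H : Subgroup G) (s : G) : MulAction.stabilizer G (rcoset H s) = H := by
  symm
  apply Subgroup.eq_of_le_of_card_ge (le_stab_rcoset H s)
  have := card_stab_dvd (rcoset H s)
  rw [card_rcoset] at this
  exact Nat.le_of_dvd Nat.card_pos this

theorem rcoset_stab (S : Finset G) (s : G) (hs : s ∈ S)
    (hcard : Nat.card (MulAction.stabilizer G S) = S.card) :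
    rcoset (MulAction.stabilizer G S) s = S := by
  apply Finset.eq_of_subset_of_card_le
  · intro x hx
    rw [mem_rcoset] at hx
    have := stab_mul_mem S _ hx hs
    simpa using this
  · rw [card_rcoset, hcard]


/-- `q`-subsets whose stabiliser does not have order `q`, as a sub-`G`-set of `Finset G` -/
def X2 (G : Type*) [Group G] [DecidableEq G] (q : ℕ) : SubMulAction G (Finset G) where
  carrier := {S | S.card = q ∧ Nat.card (MulAction.stabilizer G S) ≠ q}
  smul_mem' g S hS := by
    refine ⟨by rw [Finset.card_smul_finset]; exact hS.1, ?_⟩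
    rw [MulAction.stabilizer_smul_eq_stabilizer_map_conj,
      Subgroup.card_map_of_injective (MulAut.conj g).injective]
    exact hS.2

theorem mem_X2 (q : ℕ) (S : Finset G) :
    S ∈ X2 G q ↔ S.card = q ∧ Nat.card (MulAction.stabilizer G S) ≠ q := Iff.rfl

/-- every orbit on `X2` has length divisible by `p * m` -/
theorem dvd_card_X2 (p β m : ℕ) (hp : p.Prime) (hn : Nat.card G = p ^ β * m) :
    p * m ∣ Nat.card (X2 G (p ^ β)) := by
  classical
  rw [Nat.card_eq_fintype_card,
    MulAction.card_eq_sum_card_group_div_card_stabilizer G (X2 G (p ^ β))]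
  apply Finset.dvd_sum
  intro ω _
  set S : X2 G (p ^ β) := Quotient.out ω with hS
  have hmem := (mem_X2 (p ^ β) S.1).1 S.2
  have hstab : MulAction.stabilizer G S = MulAction.stabilizer G (S : Finset G) :=
    SubMulAction.stabilizer_of_subMul S
  have hd := card_stab_dvd (S : Finset G)
  rw [hmem.1] at hd
  obtain ⟨j, hj, hjc⟩ := (Nat.dvd_prime_pow hp).1 hd
  have hjlt : j < β := by
    rcases Nat.lt_or_ge j β with h | h
    · exact h
    · exfalso
      apply hmem.2
      rw [hjc, le_antisymm hj h]
  rw [← Nat.card_eq_fintype_card, ← Nat.card_eq_fintype_card, hstab, hjc, hn]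
  obtain ⟨k, rfl⟩ : ∃ k, β = j + 1 + k := ⟨β - (j+1), by omega⟩
  have : p ^ (j + 1 + k) * m = p ^ j * (p * m * p ^ k) := by ring
  rw [this, Nat.mul_div_cancel_left _ (pow_pos hp.pos _)]
  exact Dvd.intro _ rfl


/-- double counting: the `q`-subsets with stabiliser of order `q` are the right cosets of the
subgroups of order `q` -/
theorem card_X1 (q : ℕ) :
    Nat.card {S : Finset G // S.card = q ∧ Nat.card (MulAction.stabilizer G S) = q} * q
      = Nat.card G * Nat.card {H : Subgroup G // Nat.card H = q} := by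
  classical
  set A : Finset (Finset G) := Finset.univ.filter
    (fun S => S.card = q ∧ Nat.card (MulAction.stabilizer G S) = q) with hA
  have hAmem : ∀ S, S ∈ A ↔ S.card = q ∧ Nat.card (MulAction.stabilizer G S) = q := by
    intro S; simp [hA]
  have hcardA : Nat.card {S : Finset G // S.card = q ∧
      Nat.card (MulAction.stabilizer G S) = q} = A.card := by
    rw [Nat.card_eq_fintype_card]
    exact Fintype.card_of_subtype A hAmem
  have hdc := Finset.sum_card_bipartiteAbove_eq_sum_card_bipartiteBelow
    (s := A) (t := (Finset.univ : Finset G)) (fun S x => x ∈ S)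
  have hL : ∑ S ∈ A, (Finset.bipartiteAbove (fun S x => x ∈ S) (Finset.univ : Finset G) S).card
      = A.card * q := by
    apply Finset.sum_const_nat
    intro S hS
    have : Finset.bipartiteAbove (fun S x => x ∈ S) (Finset.univ : Finset G) S = S := by
      ext x; simp [Finset.mem_bipartiteAbove]
    rw [this]
    exact ((hAmem S).1 hS).1
  have hR : ∑ x ∈ (Finset.univ : Finset G),
      (Finset.bipartiteBelow (fun S x => x ∈ S) A x).card
      = Fintype.card G * Nat.card {H : Subgroup G // Nat.card H = q} := by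
    rw [← Finset.card_univ]
    apply Finset.sum_const_nat
    intro x _
    rw [Nat.card_eq_fintype_card, ← Fintype.card_coe]
    refine Fintype.card_congr ⟨fun S => ⟨MulAction.stabilizer G S.1, ?_⟩,
      fun H => ⟨rcoset H.1 x, ?_⟩, fun S => ?_, fun H => ?_⟩
    · have := S.2
      rw [Finset.mem_bipartiteBelow, hAmem] at this
      exact this.1.2
    · rw [Finset.mem_bipartiteBelow, hAmem, card_rcoset, stab_rcoset]
      exact ⟨⟨H.2, H.2⟩, self_mem_rcoset H.1 x⟩
    · have := S.2
      rw [Finset.mem_bipartiteBelow, hAmem] at this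
      apply Subtype.ext
      exact rcoset_stab S.1 x this.2 (by rw [this.1.1, this.1.2])
    · apply Subtype.ext
      exact stab_rcoset H.1 x
  rw [hcardA, ← hL, hdc, hR, Nat.card_eq_fintype_card (α := G)]


theorem card_split (q : ℕ) :
    Nat.card {S : Finset G // S.card = q} =
      Nat.card {S : Finset G // S.card = q ∧ Nat.card (MulAction.stabilizer G S) = q}
        + Nat.card (X2 G q) := by
  classical
  set A : Finset (Finset G) := Finset.univ.filter (fun S => S.card = q) with hA
  have h0 : Nat.card {S : Finset G // S.card = q} = A.card := by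
    rw [Nat.card_eq_fintype_card]
    exact Fintype.card_of_subtype A (by simp [hA])
  have h1 : Nat.card {S : Finset G // S.card = q ∧ Nat.card (MulAction.stabilizer G S) = q}
      = (A.filter (fun S => Nat.card (MulAction.stabilizer G S) = q)).card := by
    rw [Nat.card_eq_fintype_card]
    exact Fintype.card_of_subtype _ (by simp [hA])
  have h2 : Nat.card (X2 G q)
      = (A.filter (fun S => ¬ Nat.card (MulAction.stabilizer G S) = q)).card := by
    rw [Nat.card_eq_fintype_card]
    exact Fintype.card_of_subtype _ (by simp [hA, mem_X2])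
  rw [h0, h1, h2, Finset.card_filter_add_card_filter_not]


end Helpers

/-- Let `p` be a prime and `G` a finite group whose order is divisible by `p ^ β`. Then the number of subgroups of `G` of order `p ^ β` is congruent to `1` modulo `p`. (When `p ^ β` is the full power of `p` dividing the order, these are the Sylow `p`-subgroups and this is the usual Sylow count.) -/
theorem result {G : Type*} [Group G] [Finite G] (p β : ℕ) (hp : p.Prime) (hdiv : p ^ β ∣ Nat.card G) : Nat.card {H : Subgroup G // Nat.card H = p ^ β} ≡ 1 [MOD p] := by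
  classical
  have := Fintype.ofFinite G
  obtain ⟨m, hm⟩ := hdiv
  have hqpos : 0 < p ^ β := pow_pos hp.pos _
  have hmpos : 0 < m := by
    have := Nat.card_pos (α := G)
    rw [hm] at this
    exact Nat.pos_of_mul_pos_left this
  have htot : Nat.card {S : Finset G // S.card = p ^ β} = (p ^ β * m).choose (p ^ β) := by
    rw [Nat.card_eq_fintype_card, Fintype.card_finset_len, ← Nat.card_eq_fintype_card, hm]
  have hsplit := card_split (G := G) (p ^ β)
  have hX1 := card_X1 (G := G) (p ^ β)
  obtain ⟨t, ht⟩ := dvd_card_X2 (G := G) p β m hp hm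
  have hluc := choose_pred_modEq p hp m hmpos β
  have hch := Nat.add_one_mul_choose_eq (p ^ β * m - 1) (p ^ β - 1)
  have e1 : p ^ β * m - 1 + 1 = p ^ β * m := Nat.sub_add_cancel (Nat.mul_pos hqpos hmpos)
  have e2 : p ^ β - 1 + 1 = p ^ β := Nat.sub_add_cancel hqpos
  rw [e1, e2] at hch
  set C' := (p ^ β * m - 1).choose (p ^ β - 1) with hC'
  set N := Nat.card {H : Subgroup G // Nat.card H = p ^ β} with hN
  set A1 := Nat.card {S : Finset G // S.card = p ^ β ∧
    Nat.card (MulAction.stabilizer G S) = p ^ β} with hA1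
  -- `C(n,q) = m * C'`
  have h1 : (p ^ β * m).choose (p ^ β) = m * C' := by
    apply Nat.eq_of_mul_eq_mul_right hqpos
    rw [← hch]; ring
  -- `A1 = m * N`
  have h2 : A1 = m * N := by
    apply Nat.eq_of_mul_eq_mul_right hqpos
    rw [hX1, hm]; ring
  have h3 : m * C' = m * (N + p * t) := by
    rw [← h1, ← htot, hsplit, ht, h2]; ring
  have h4 : C' = N + p * t := Nat.eq_of_mul_eq_mul_left hmpos h3
  have h5 : N ≡ C' [MOD p] := by
    rw [h4]
    unfold Nat.ModEq
    rw [Nat.add_mul_mod_self_left]
  exact h5.trans hluc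

end Cfsg.Agent.S3975
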