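import Cfsg.Statements.S3976
import Cfsg.Agent.S3975
-- import your own Cfsg.Agent.* helpers here

set_option autoImplicit false
open Cfsg

namespace Cfsg.Agent.S3976

open Pointwise

/-- subgroups of order `q`, as a sub-`G`-set of `Subgroup G` under conjugation -/
def Y (G : Type*) [Group G] (q : ℕ) : SubMulAction (ConjAct G) (Subgroup G) where
  carrier := {H | Nat.card H = q}
  smul_mem' g H hH := by
    show Nat.card (g • H : Subgroup G) = q
    rw [← Nat.card_congr (Subgroup.equivSMul g H).toEquiv]
    exact hH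

theorem mem_Y {G : Type*} [Group G] (q : ℕ) (H : Subgroup G) : H ∈ Y G q ↔ Nat.card H = q :=
  Iff.rfl

/-- Let `p` be a prime and `G` a group of order `p ^ m`. For every `s ≤ m` the number of normal subgroups of `G` of order `p ^ s` is congruent to `1` modulo `p`. -/
theorem result {G : Type*} [Group G] [Finite G] (p m s : ℕ) (hp : p.Prime) (hG : Nat.card G = p ^ m) (hs : s ≤ m) : Nat.card {H : Subgroup G // H.Normal ∧ Nat.card H = p ^ s} ≡ 1 [MOD p] := by
  classical
  have : Fact p.Prime := ⟨hp⟩
  have hPG : IsPGroup p G := IsPGroup.of_card hG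
  have hPG' : IsPGroup p (ConjAct G) := hPG.of_equiv ConjAct.toConjAct
  have h1 := hPG'.card_modEq_card_fixedPoints (Y G (p ^ s))
  have h2 : Nat.card (Y G (p ^ s)) ≡ 1 [MOD p] :=
    Cfsg.Agent.S3975.result p s hp (by rw [hG]; exact pow_dvd_pow p hs)
  have h3 : Nat.card (MulAction.fixedPoints (ConjAct G) (Y G (p ^ s)))
      = Nat.card {H : Subgroup G // H.Normal ∧ Nat.card H = p ^ s} := by
    refine Nat.card_congr ⟨fun y => ⟨y.1.1, ?_, y.1.2⟩, fun H => ⟨⟨H.1, H.2.2⟩, ?_⟩,
      fun y => rfl, fun H => rfl⟩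
    · apply Subgroup.Normal.of_conjugate_fixed
      intro g
      have := y.2 (ConjAct.toConjAct g)
      exact congrArg Subtype.val this
    · intro g
      apply Subtype.ext
      exact Subgroup.Normal.conjAct H.2.1 g
  rw [← h3]
  exact h1.symm.trans h2

end Cfsg.Agent.S3976
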