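import Cfsg.Statements.S3977
import Cfsg.Agent.S0016
-- import your own Cfsg.Agent.* helpers here

set_option autoImplicit false
open Cfsg

namespace Cfsg.Agent.S3977



/-- Let `p` be a prime and `G` a group of order `p ^ m` which has exactly one subgroup of order `p ^ s`, where `1 ≤ s < m`, and where `s ≥ 2` if `p = 2`. Then `G` is cyclic. (For `p = 2` and `s = 1` the generalized quaternion groups also occur; that case is the classical criterion for a unique involution.) -/
theorem result {G : Type*} [Group G] [Finite G] (p m s : ℕ) (hp : p.Prime) (hG : Nat.card G = p ^ m) (hs : 1 ≤ s) (hsm : s < m) (h2 : p ≠ 2 ∨ 2 ≤ s) (huniq : ∀ H K : Subgroup G, Nat.card H = p ^ s → Nat.card K = p ^ s → H = K) : IsCyclic G := by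
  classical
  have : Fact p.Prime := ⟨hp⟩
  have hPG : IsPGroup p G := IsPGroup.of_card hG
  -- the unique subgroup of order `p ^ s`
  have hdvd : p ^ s ∣ Nat.card G := by rw [hG]; exact pow_dvd_pow p hsm.le
  obtain ⟨H, hH⟩ := Sylow.exists_subgroup_card_pow_prime p hdvd
  -- every element of order dividing `p ^ s` lies in `H`
  have hmem : ∀ x : G, x ^ (p ^ s) = 1 → x ∈ H := by
    intro x hx
    obtain ⟨t, ht⟩ := (Nat.dvd_prime_pow hp).mp (orderOf_dvd_of_pow_eq_one hx)
    have hcz : Nat.card (Subgroup.zpowers x) = p ^ t := by rw [Nat.card_zpowers, ht.2]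
    obtain ⟨K, hK, hle⟩ := Sylow.exists_subgroup_card_pow_prime_le p hdvd _ hcz ht.1
    rw [huniq H K hH hK]
    exact hle (Subgroup.mem_zpowers x)
  -- `H` is cyclic
  have hHcyc : IsCyclic H := by
    have hlt : H ≠ ⊤ := by
      intro h
      rw [h, Subgroup.card_top, hG] at hH
      have := Nat.pow_right_injective hp.two_le hH
      omega
    obtain ⟨g, hg⟩ : ∃ g : G, g ∉ H := by
      by_contra hcon
      push Not at hcon
      exact hlt (eq_top_iff.mpr (fun x _ => hcon x))
    obtain ⟨t, ht⟩ := (Nat.dvd_prime_pow hp).mp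
      (by rw [← hG]; exact orderOf_dvd_natCard g : orderOf g ∣ p ^ m)
    have hst : s ≤ t := by
      by_contra hcon
      push Not at hcon
      apply hg
      apply hmem
      rw [← Nat.sub_add_cancel hcon.le, pow_add, pow_mul', ← ht.2, pow_orderOf_eq_one, one_pow]
    have hcz : Nat.card (Subgroup.zpowers g) = p ^ t := by rw [Nat.card_zpowers, ht.2]
    have hdvd' : p ^ s ∣ Nat.card (Subgroup.zpowers g) := by rw [hcz]; exact pow_dvd_pow p hst
    obtain ⟨K', hK'⟩ := Sylow.exists_subgroup_card_pow_prime p hdvd'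
    have hK : Nat.card (K'.map (Subgroup.zpowers g).subtype) = p ^ s := by
      rw [← hK']
      exact (Nat.card_congr (K'.equivMapOfInjective _ (Subgroup.subtype_injective _)).toEquiv).symm
    rw [huniq H _ hH hK]
    have : IsCyclic K' := inferInstance
    exact (MulEquiv.isCyclic (K'.equivMapOfInjective _ (Subgroup.subtype_injective _))).mp this
  -- unique subgroup of order `p`
  have huniq1 : ∀ Z₁ Z₂ : Subgroup G, Nat.card Z₁ = p → Nat.card Z₂ = p → Z₁ = Z₂ := by
    have key : ∀ Z₁ Z₂ : Subgroup G, Nat.card Z₁ = p → Nat.card Z₂ = p → Z₁ ≤ Z₂ := by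
      intro Z₁ Z₂ h₁ h₂
      have hle : ∀ Z : Subgroup G, Nat.card Z = p → Z ≤ H := by
        intro Z hZ z hz
        apply hmem
        have : (⟨z, hz⟩ : Z) ^ Nat.card Z = 1 := pow_card_eq_one'
        have h1 : z ^ p = 1 := by rw [← hZ]; exact congrArg Subtype.val this
        rw [← Nat.sub_add_cancel hs, pow_succ, pow_mul', h1, one_pow]
      intro z hz
      have hzH : z ∈ H := hle Z₁ h₁ hz
      have hcard2 : Nat.card (Z₂.subgroupOf H) = p := by
        rw [Nat.card_congr (Subgroup.subgroupOfEquivOfLe (hle Z₂ h₂)).toEquiv, h₂]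
      have hzp : z ^ p = 1 := by
        have : (⟨z, hz⟩ : Z₁) ^ Nat.card Z₁ = 1 := pow_card_eq_one'
        rw [← h₁]; exact congrArg Subtype.val this
      have : (⟨z, hzH⟩ : H) ∈ Z₂.subgroupOf H := by
        apply Cfsg.Agent.Lib.Helper50_UniqueInv.mem_of_pow_card_eq_one
        rw [hcard2]
        exact Subtype.ext hzp
      exact this
    intro Z₁ Z₂ h₁ h₂
    exact le_antisymm (key Z₁ Z₂ h₁ h₂) (key Z₂ Z₁ h₂ h₁)
  rcases Cfsg.Agent.S0016.result p hPG huniq1 with hc | ⟨hp2, n, ⟨φ⟩⟩
  · exact hc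
  · -- the generalized quaternion case is impossible for `n ≥ 1`
    subst hp2
    have hs2 : 2 ≤ s := by
      rcases h2 with h | h
      · exact absurd rfl h
      · exact h
    rcases Nat.eq_zero_or_pos n with hn0 | hnpos
    · subst hn0
      have hc1 : IsCyclic (QuaternionGroup (2 ^ 0)) := by
        rw [pow_zero]; exact QuaternionGroup.quaternionGroup_one_isCyclic
      exact (MulEquiv.isCyclic φ).mpr hc1
    · exfalso
      have h4 : ∀ u : QuaternionGroup (2 ^ n), u ^ 4 = 1 → φ.symm u ∈ H := by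
        intro u hu
        apply hmem
        rw [← map_pow, ← Nat.sub_add_cancel hs2, pow_add, pow_mul']
        rw [show (2 : ℕ) ^ 2 = 4 by norm_num, hu, one_pow, map_one]
      have hx0 := h4 (QuaternionGroup.xa 0) (QuaternionGroup.xa_pow_four 0)
      have hx1 := h4 (QuaternionGroup.xa 1) (QuaternionGroup.xa_pow_four 1)
      have hcomm : (⟨_, hx0⟩ : H) * ⟨_, hx1⟩ = ⟨_, hx1⟩ * ⟨_, hx0⟩ :=
        Cfsg.Agent.Lib.Helper50_UniqueInv.comm_of_isCyclic _ _
      have h5 : φ.symm (QuaternionGroup.xa 0) * φ.symm (QuaternionGroup.xa 1) =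
          φ.symm (QuaternionGroup.xa 1) * φ.symm (QuaternionGroup.xa 0) :=
        congrArg Subtype.val hcomm
      rw [← map_mul, ← map_mul] at h5
      have h6 := φ.symm.injective h5
      rw [QuaternionGroup.xa_mul_xa, QuaternionGroup.xa_mul_xa] at h6
      injection h6 with h7
      have h8 : ((2 : ℕ) : ZMod (2 * 2 ^ n)) = 0 := by
        push_cast
        linear_combination h7
      rw [ZMod.natCast_eq_zero_iff] at h8
      have h9 : 2 ≤ 2 ^ n := by
        calc 2 = 2 ^ 1 := by norm_num
          _ ≤ 2 ^ n := Nat.pow_le_pow_right (by norm_num) hnpos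
      have := Nat.le_of_dvd (by norm_num) h8
      omega

end Cfsg.Agent.S3977
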