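import Cfsg.Statements.S3978
import Cfsg.Agent.S3955
import Cfsg.Agent.S3956
import Cfsg.Agent.Lib.Helper66_Stem
import Cfsg.Agent.Lib.Helper66_SchurMain

set_option autoImplicit false
open Cfsg

namespace Cfsg.Agent.S3978

open Cfsg.Agent.Lib.Helper66_SchurMain

/-- A finite group `Q` has trivial Schur multiplier if and only if, for every `n`, every homomorphism from `Q` to the projective general linear group (the quotient of `GL n ℂ` by its centre) lifts to a homomorphism into `GL n ℂ`. -/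
theorem result {Q : Type*} [Group Q] [Finite Q] : Cfsg.HasCyclicSchurMultiplier Q 1 ↔ ∀ (n : ℕ) (γ : Q →* (GL (Fin n) ℂ ⧸ Subgroup.center (GL (Fin n) ℂ))), ∃ ρ : Q →* GL (Fin n) ℂ, (QuotientGroup.mk' (Subgroup.center (GL (Fin n) ℂ))).comp ρ = γ := by
  have hker : ∀ x : (MonoidHom.id Q).ker, x = 1 := fun x => Subtype.ext (by
    have := x.2
    rwa [MonoidHom.mem_ker, MonoidHom.id_apply] at this)
  constructor
  · intro hM n γ
    have hk : Nonempty ((MonoidHom.id Q).ker ≃* Multiplicative (ZMod 1)) :=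
      ⟨{ toFun := fun _ => 1
         invFun := fun _ => 1
         left_inv := fun x => (hker x).symm
         right_inv := fun _ => Subsingleton.elim _ _
         map_mul' := fun _ _ => Subsingleton.elim _ _ }⟩
    obtain ⟨ρ, hρ⟩ := Cfsg.Agent.S3955.result hM (MonoidHom.id Q) (isStemExtension_id Q) hk n γ
    exact ⟨ρ, by rw [hρ, MonoidHom.comp_id]⟩
  · intro h
    apply Cfsg.Agent.Lib.Helper66_Stem.hasCyclicSchurMultiplier_one
    intro Γ _ _ τ hτ
    obtain ⟨π, hπ⟩ := Cfsg.Agent.S3956.result (MonoidHom.id Q) (isStemExtension_id Q)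
      (fun n γ => by
        obtain ⟨ρ, hρ⟩ := h n γ
        exact ⟨ρ, by rw [hρ, MonoidHom.comp_id]⟩) Γ τ hτ
    rw [eq_bot_iff]
    intro x hx
    obtain ⟨y, hy⟩ := hπ ⟨x, hx⟩
    rw [hker y, map_one] at hy
    rw [Subgroup.mem_bot]
    exact (congrArg Subtype.val hy).symm

end Cfsg.Agent.S3978
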