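import Cfsg.Statements.S3980
import Cfsg.Agent.Lib.Helper66_SchurProd

set_option autoImplicit false
universe u v w
open Cfsg

namespace Cfsg.Agent.S3980

open Cfsg.Agent.Lib.Helper66_SchurMain Cfsg.Agent.Lib.Helper66_SchurCore
  Cfsg.Agent.Lib.Helper66_SchurProd

/-- Let `Q₁` and `Q₂` be finite groups whose commutator quotients have coprime orders, with Schur multipliers `A` and `B`. Then the Schur multiplier of `Q₁ × Q₂` is isomorphic to `A × B`. -/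
theorem result {Q₁ : Type u} {Q₂ : Type v} [Group Q₁] [Group Q₂] [Finite Q₁] [Finite Q₂] {A B : Type w} [CommGroup A] [CommGroup B] (hA : Cfsg.HasSchurMultiplier Q₁ A) (hB : Cfsg.HasSchurMultiplier Q₂ B) (hcop : Nat.Coprime (Nat.card (Abelianization Q₁)) (Nat.card (Abelianization Q₂))) : Cfsg.HasSchurMultiplier (Q₁ × Q₂) (A × B) := by
  constructor
  · obtain ⟨G₁, _, _, τ₁, hτ₁, ⟨e₁⟩⟩ := hA.1
    obtain ⟨G₂, _, _, τ₂, hτ₂, ⟨e₂⟩⟩ := hB.1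
    exact ⟨G₁ × G₂, inferInstance, inferInstance, MonoidHom.prodMap τ₁ τ₂,
      isStemExtension_prodMap τ₁ τ₂ hτ₁ hτ₂, ⟨(kerProdMapEquiv τ₁ τ₂).trans (e₁.prodCongr e₂)⟩⟩
  · intro Γ _ _ σ hσ
    obtain ⟨eA⟩ := mulEquiv_T_of_hasSchurMultiplier (stdπ Q₁) (stdπ_surjective Q₁) hA
    obtain ⟨eB⟩ := mulEquiv_T_of_hasSchurMultiplier (stdπ Q₂) (stdπ_surjective Q₂) hB
    obtain ⟨f₁, hf₁, hf₁'⟩ := exists_hom_T₁ σ (stdπ Q₁) (stdπ_surjective Q₁) hσ.1 hσ.2.1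
    obtain ⟨f₂, hf₂, hf₂'⟩ := exists_hom_T₂ σ (stdπ Q₂) (stdπ_surjective Q₂) hσ.1 hσ.2.1
    have hbot := commutator_Γ₁_Γ₂_eq_bot σ hσ.1 hσ.2.1 hcop
    let φ : T (stdπ Q₁) × T (stdπ Q₂) →* Γ := MonoidHom.noncommCoprod f₁ f₂ (fun a b =>
      (Subgroup.mem_center_iff.mp (hσ.2.1 (hf₁ a)) (f₂ b)).symm)
    have hφa : ∀ x, φ x = f₁ x.1 * f₂ x.2 := fun x => rfl
    have hφ : ∀ x, φ x ∈ σ.ker := fun x => by
      rw [hφa]
      exact mul_mem (hf₁ _) (hf₂ _)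
    let ψ : T (stdπ Q₁) × T (stdπ Q₂) →* σ.ker := φ.codRestrict σ.ker hφ
    have hψ : Function.Surjective ψ := by
      rintro ⟨k, hk⟩
      obtain ⟨a, ha, b, hb, c, hc, rfl⟩ := ker_decomp σ hσ hk
      rw [hbot, Subgroup.mem_bot] at hc
      subst hc
      obtain ⟨t₁, rfl⟩ := hf₁' a ha
      obtain ⟨t₂, rfl⟩ := hf₂' b hb
      refine ⟨(t₁, t₂), Subtype.ext ?_⟩
      change φ (t₁, t₂) = f₁ t₁ * f₂ t₂ * 1
      rw [hφa, mul_one]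
    exact ⟨ψ.comp (eA.symm.prodCongr eB.symm).toMonoidHom,
      hψ.comp (eA.symm.prodCongr eB.symm).surjective⟩

end Cfsg.Agent.S3980
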