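import Cfsg.Statements.S3981
import Mathlib.GroupTheory.Nilpotent

set_option autoImplicit false
open Cfsg

namespace Cfsg.Agent.S3981

/-- In a subgroup `T ≤ N_G(Q)` that is a `p`-group and properly contains `Q`, there is an element
`z ∈ T \ Q` with `z ^ p ∈ Q` which is central modulo `Q`; moreover `p`-th powers of products of
elements of `T` behave well modulo `Q` against `z`. -/
theorem exists_central_mod {G : Type*} [Group G] [Finite G] (p : ℕ) [Fact p.Prime]
    (Q T : Subgroup G) (hQT : Q ≤ T) (hTN : T ≤ Subgroup.normalizer (Q : Set G))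
    (hT : IsPGroup p T) (t₀ : G) (ht₀ : t₀ ∈ T) (ht₀Q : t₀ ∉ Q) :
    ∃ z ∈ T, z ∉ Q ∧ z ^ p ∈ Q ∧
      ∀ e ∈ T, e ^ p ∈ Q → (z * e) ^ p ∈ Q ∧ e * z * e⁻¹ * z⁻¹ ∈ Q := by
  haveI hn : (Q.subgroupOf T).Normal := (Subgroup.normal_subgroupOf_iff_le_normalizer hQT).mpr hTN
  have hp : p.Prime := Fact.out
  have hTq : IsPGroup p (T ⧸ Q.subgroupOf T) := hT.to_quotient _
  haveI : Nontrivial (T ⧸ Q.subgroupOf T) := by
    refine ⟨⟨((⟨t₀, ht₀⟩ : T) : T ⧸ Q.subgroupOf T), 1, ?_⟩⟩
    rw [Ne, QuotientGroup.eq_one_iff, Subgroup.mem_subgroupOf]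
    exact ht₀Q
  haveI : Nontrivial (Subgroup.center (T ⧸ Q.subgroupOf T)) := hTq.center_nontrivial
  obtain ⟨⟨c, hc⟩, hc1⟩ := exists_ne (1 : Subgroup.center (T ⧸ Q.subgroupOf T))
  have hc1' : c ≠ 1 := fun h => hc1 (Subtype.ext h)
  obtain ⟨k, hk⟩ := (IsPGroup.iff_orderOf.mp hTq) c
  have hk0 : k ≠ 0 := by
    rintro rfl
    rw [pow_zero, orderOf_eq_one_iff] at hk
    exact hc1' hk
  obtain ⟨j, rfl⟩ := Nat.exists_eq_succ_of_ne_zero hk0
  set c' := c ^ (p ^ j) with hc'
  have hc'ord : orderOf c' = p := by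
    rw [hc', orderOf_pow_of_dvd (pow_ne_zero _ hp.ne_zero) (hk ▸ pow_dvd_pow p (Nat.le_succ j)), hk,
      pow_succ, Nat.mul_div_cancel_left _ (pow_pos hp.pos j)]
  have hc'cen : c' ∈ Subgroup.center (T ⧸ Q.subgroupOf T) := Subgroup.pow_mem _ hc _
  obtain ⟨⟨z, hzT⟩, hz⟩ := QuotientGroup.mk_surjective c'
  refine ⟨z, hzT, ?_, ?_, ?_⟩
  · intro hzQ
    have : c' = 1 := by
      rw [← hz, QuotientGroup.eq_one_iff, Subgroup.mem_subgroupOf]
      exact hzQ
    rw [this, orderOf_one] at hc'ord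
    exact hp.one_lt.ne hc'ord
  · have h1 : c' ^ p = 1 := by rw [← hc'ord]; exact pow_orderOf_eq_one c'
    rw [← hz, ← QuotientGroup.mk_pow, QuotientGroup.eq_one_iff, Subgroup.mem_subgroupOf] at h1
    exact h1
  · intro e heT hep
    have he1 : ((⟨e, heT⟩ : T) : T ⧸ Q.subgroupOf T) ^ p = 1 := by
      rw [← QuotientGroup.mk_pow, QuotientGroup.eq_one_iff, Subgroup.mem_subgroupOf]
      exact hep
    have hcomm : Commute c' ((⟨e, heT⟩ : T) : T ⧸ Q.subgroupOf T) :=
      (Subgroup.mem_center_iff.mp hc'cen _).symm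
    constructor
    · have h1 : (c' * ((⟨e, heT⟩ : T) : T ⧸ Q.subgroupOf T)) ^ p = 1 := by
        rw [hcomm.mul_pow, he1, ← hc'ord, pow_orderOf_eq_one, one_mul]
      rw [← hz, ← QuotientGroup.mk_mul, ← QuotientGroup.mk_pow, QuotientGroup.eq_one_iff,
        Subgroup.mem_subgroupOf] at h1
      exact h1
    · have h1 : ((⟨e, heT⟩ : T) : T ⧸ Q.subgroupOf T) * c' *
          ((⟨e, heT⟩ : T) : T ⧸ Q.subgroupOf T)⁻¹ * c'⁻¹ = 1 := by
        rw [← hcomm.eq]
        group
      rw [← hz, ← QuotientGroup.mk_mul, ← QuotientGroup.mk_inv, ← QuotientGroup.mk_mul,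
        ← QuotientGroup.mk_inv, ← QuotientGroup.mk_mul, QuotientGroup.eq_one_iff,
        Subgroup.mem_subgroupOf] at h1
      exact h1

theorem result {G : Type*} [Group G] [Finite G] (p : ℕ) [Fact p.Prime] (hp2 : p ≠ 2) (Q : Subgroup G) (hQ : IsPGroup p ↥Q) (y : G) (hy : orderOf y = 2) (hyQ : y ∈ Subgroup.normalizer (Q : Set G)) : (∀ R : Subgroup G, IsPGroup p ↥R → Q ≤ R → y ∈ Subgroup.normalizer (R : Set G) → R = Q) ↔ ∀ x : G, x ∈ Subgroup.normalizer (Q : Set G) → x ∉ Q → x ^ p ∈ Q → (y * x * y⁻¹ * x ∉ Q ∧ y * x * y⁻¹ * x⁻¹ ∉ Q) := by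
  have hy2 : y * y = 1 := by
    have := pow_orderOf_eq_one y
    rwa [hy, pow_two] at this
  have hyinv : y⁻¹ = y := inv_eq_of_mul_eq_one_left hy2
  constructor
  · -- maximal → no centralized/inverted element of order p mod Q
    intro hmax x hxN hxQ hxp
    -- the subgroup generated by Q and x
    have hxpg : IsPGroup p (Subgroup.zpowers x) := by
      rw [IsPGroup]
      rintro ⟨g, hg⟩
      obtain ⟨i, rfl⟩ := Subgroup.mem_zpowers_iff.mp hg
      obtain ⟨k, hk⟩ := hQ ⟨x ^ p, hxp⟩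
      refine ⟨k + 1, Subtype.ext ?_⟩
      have hk' : (x ^ p) ^ p ^ k = 1 := by simpa using congrArg Subtype.val hk
      change (x ^ i) ^ p ^ (k + 1) = 1
      rw [← zpow_natCast, ← zpow_mul, mul_comm, zpow_mul, zpow_natCast, pow_succ, mul_comm, pow_mul, hk',
        one_zpow]
    have hxnorm : Subgroup.zpowers x ≤ Subgroup.normalizer (Q : Set G) :=
      Subgroup.zpowers_le.mpr hxN
    have hRp : IsPGroup p ((Subgroup.zpowers x ⊔ Q : Subgroup G)) :=
      hxpg.to_sup_of_normal_right' hQ hxnorm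
    have key : y * x * y⁻¹ ∈ (Subgroup.zpowers x ⊔ Q : Subgroup G) →
        y ∈ Subgroup.normalizer ((Subgroup.zpowers x ⊔ Q : Subgroup G) : Set G) := by
      intro hmem
      have hle : (Subgroup.zpowers x ⊔ Q).map (MulAut.conj y).toMonoidHom ≤ Subgroup.zpowers x ⊔ Q := by
        rw [Subgroup.map_sup, sup_le_iff]
        constructor
        · rw [Subgroup.map_le_iff_le_comap, Subgroup.zpowers_le, Subgroup.mem_comap]
          exact hmem
        · have := (Subgroup.mem_normalizer_iff_map_conj_eq.mp hyQ)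
          exact (le_of_eq this).trans le_sup_right
      rw [Subgroup.mem_normalizer_iff_map_conj_eq]
      refine Subgroup.eq_of_le_of_card_ge hle ?_
      exact le_of_eq (Subgroup.card_map_of_injective (MulAut.conj y).injective).symm
    have hne : (Subgroup.zpowers x ⊔ Q : Subgroup G) ≠ Q := by
      intro h
      apply hxQ
      rw [← h]
      exact Subgroup.mem_sup_left (Subgroup.mem_zpowers x)
    constructor
    · intro h
      apply hne
      apply hmax _ hRp le_sup_right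
      apply key
      have : y * x * y⁻¹ = (y * x * y⁻¹ * x) * x⁻¹ := by group
      rw [this]
      exact Subgroup.mul_mem _ (Subgroup.mem_sup_right h)
        (Subgroup.inv_mem _ (Subgroup.mem_sup_left (Subgroup.mem_zpowers x)))
    · intro h
      apply hne
      apply hmax _ hRp le_sup_right
      apply key
      have : y * x * y⁻¹ = (y * x * y⁻¹ * x⁻¹) * x := by group
      rw [this]
      exact Subgroup.mul_mem _ (Subgroup.mem_sup_right h)
        (Subgroup.mem_sup_left (Subgroup.mem_zpowers x))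
  · intro hx R hRp hQR hyR
    by_contra hne
    -- normalizers grow
    haveI : Group.IsNilpotent R := hRp.isNilpotent
    have hnc : NormalizerCondition R := Group.normalizerCondition_of_isNilpotent
    have hlt : Q.subgroupOf R < ⊤ := by
      rw [lt_top_iff_ne_top, Ne, Subgroup.subgroupOf_eq_top]
      intro h
      exact hne (le_antisymm h hQR)
    have hlt' := hnc _ hlt
    rw [← Subgroup.subgroupOf_normalizer_eq hQR] at hlt'
    obtain ⟨⟨t₀, ht₀R⟩, ht₀N, ht₀Q⟩ := SetLike.exists_of_lt hlt'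
    rw [Subgroup.mem_subgroupOf] at ht₀N ht₀Q
    set T : Subgroup G := R ⊓ Subgroup.normalizer (Q : Set G) with hT
    have hQT : Q ≤ T := le_inf hQR Subgroup.le_normalizer
    have hTN : T ≤ Subgroup.normalizer (Q : Set G) := inf_le_right
    have hTp : IsPGroup p T := hRp.to_le inf_le_left
    obtain ⟨z, hzT, hzQ, hzp, hz⟩ := exists_central_mod p Q T hQT hTN hTp t₀ ⟨ht₀R, ht₀N⟩ ht₀Q
    -- conjugation by y preserves T and Q
    have hyT : ∀ t ∈ T, y * t * y⁻¹ ∈ T := by
      intro t ht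
      refine ⟨?_, ?_⟩
      · exact (Subgroup.mem_normalizer_iff.mp hyR t).mp ht.1
      · exact Subgroup.mul_mem _ (Subgroup.mul_mem _ hyQ ht.2) (Subgroup.inv_mem _ hyQ)
    have hyQ' : ∀ q ∈ Q, y * q * y⁻¹ ∈ Q := fun q hq => (Subgroup.mem_normalizer_iff.mp hyQ q).mp hq
    have he'T : y * z * y⁻¹ ∈ T := hyT z hzT
    have he'p : (y * z * y⁻¹) ^ p ∈ Q := by
      rw [conj_pow]
      exact hyQ' _ hzp
    obtain ⟨h1, h2⟩ := hz _ he'T he'p
    by_cases hx₁ : z * (y * z * y⁻¹) ∈ Q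
    · -- z is inverted mod Q
      have hzN : z ∈ Subgroup.normalizer (Q : Set G) := hTN hzT
      have h3 : y * z * y⁻¹ * z ∈ Q := by
        have := (Subgroup.mem_normalizer_iff.mp (Subgroup.inv_mem _ hzN) _).mp hx₁
        convert this using 1
        group
      exact (hx z hzN hzQ hzp).1 h3
    · -- x₁ is centralized mod Q
      have hx₁T : z * (y * z * y⁻¹) ∈ T := T.mul_mem hzT he'T
      have h3 : y * (z * (y * z * y⁻¹)) * y⁻¹ * (z * (y * z * y⁻¹))⁻¹ ∈ Q := by
        have : y * (z * (y * z * y⁻¹)) * y⁻¹ * (z * (y * z * y⁻¹))⁻¹ =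
            (y * z * y⁻¹) * z * (y * z * y⁻¹)⁻¹ * z⁻¹ := by
          rw [hyinv]
          have hyy : ∀ a : G, y * (y * a) = a := fun a => by rw [← mul_assoc, hy2, one_mul]
          simp only [mul_assoc, mul_inv_rev, hyinv, hyy]
        rw [this]
        exact h2
      exact (hx _ (hTN hx₁T) hx₁ h1).2 h3

end Cfsg.Agent.S3981
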