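import Cfsg.Statements.S3982
import Cfsg.Agent.Lib.Helper84_RelSylow
import Cfsg.Agent.Lib.Helper66_TI
import Mathlib

set_option autoImplicit false
open Cfsg

namespace Cfsg.Agent.S3982

open scoped Pointwise
open Cfsg.Agent.Lib.Helper84_RelSylow Cfsg.Agent.Lib.Helper66_TI

/-- an element conjugating a finite subgroup into itself normalizes it -/
theorem mem_normalizer_of_conj_le {G : Type*} [Group G] (T : Subgroup G) [Finite T] (u : G)
    (h : ∀ y ∈ T, u * y * u⁻¹ ∈ T) : u ∈ Subgroup.normalizer (T : Set G) := by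
  rw [Subgroup.mem_normalizer_iff]
  intro y
  refine ⟨h y, fun hy => ?_⟩
  let f : T → T := fun y => ⟨u * y * u⁻¹, h y y.2⟩
  have hinj : Function.Injective f := by
    intro a b hab
    have h1 : u * a * u⁻¹ = u * b * u⁻¹ := congrArg Subtype.val hab
    apply Subtype.ext
    simpa using h1
  have hsurj : Function.Surjective f := Finite.surjective_of_injective hinj
  obtain ⟨a, ha⟩ := hsurj ⟨u * y * u⁻¹, hy⟩
  have h1 : u * a * u⁻¹ = u * y * u⁻¹ := congrArg Subtype.val ha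
  have h2 : (a : G) = y := by simpa using h1
  rw [← h2]; exact a.2

/-- an involution normalizing an odd order subgroup `C` yields an element of even order in the
normalizer of any Sylow subgroup of `C` -/
theorem exists_even_mem_normalizer {G : Type*} [Group G] [Finite G] (p : ℕ) [Fact p.Prime]
    (C : Subgroup G) (hC : Odd (Nat.card C)) (t : G) (ht : orderOf t = 2)
    (htC : t ∈ Subgroup.normalizer (C : Set G)) (T : Subgroup G) (hT : IsSylowIn p T C) :
    ∃ u ∈ Subgroup.normalizer (T : Set G), Even (orderOf u) := by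
  have ht2 : t * t = 1 := by rw [← pow_two, ← ht, pow_orderOf_eq_one]
  have htinv : t⁻¹ = t := inv_eq_of_mul_eq_one_left ht2
  -- the conjugate of `T` by `t` is again a Sylow subgroup of `C`
  have hmapC : C.map (MulAut.conj t).toMonoidHom = C := by
    ext x
    constructor
    · rintro ⟨y, hy, rfl⟩
      exact (Subgroup.mem_normalizer_iff.mp htC y).mp hy
    · intro hx
      refine ⟨t⁻¹ * x * t, ?_, ?_⟩
      · have := (Subgroup.mem_normalizer_iff''.mp htC x).mp hx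
        exact this
      · simp [MulAut.conj_apply, mul_assoc]
  have hT' := hT.conj t
  rw [hmapC] at hT'
  obtain ⟨g, hgC, hg⟩ := hT.exists_conj_le hT'.le hT'.isPGroup
  have hfin : Finite T := inferInstance
  have hu : g * t ∈ Subgroup.normalizer (T : Set G) := by
    apply mem_normalizer_of_conj_le
    intro y hy
    have := hg (t * y * t⁻¹) ⟨y, hy, rfl⟩
    have e : g * t * y * (g * t)⁻¹ = g * (t * y * t⁻¹) * g⁻¹ := by group
    rw [e]; exact this
  refine ⟨g * t, hu, ?_⟩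
  -- `(g t)^2 ∈ C` but `g t ∉ C`
  have hsq : (g * t) ^ 2 ∈ C := by
    have e : (g * t) ^ 2 = g * (t * g * t⁻¹) := by
      have e0 : (g * t) ^ 2 = g * (t * g * t⁻¹) * (t * t) := by rw [pow_two]; group
      rw [e0, ht2, mul_one]
    rw [e]
    exact C.mul_mem hgC ((Subgroup.mem_normalizer_iff.mp htC g).mp hgC)
  have htnC : t ∉ C := by
    intro h
    have h1 : orderOf (⟨t, h⟩ : C) ∣ Nat.card C := orderOf_dvd_natCard _
    rw [Subgroup.orderOf_mk, ht] at h1
    exact (Nat.not_even_iff_odd.mpr hC) (even_iff_two_dvd.mpr h1)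
  by_contra hodd
  rw [Nat.not_even_iff_odd] at hodd
  obtain ⟨k, hk⟩ := hodd
  have h1 : g * t = ((g * t) ^ 2) ^ (k + 1) := by
    rw [← pow_mul, show 2 * (k + 1) = orderOf (g * t) + 1 by omega, pow_succ, pow_orderOf_eq_one,
      one_mul]
  have h2 : g * t ∈ C := by rw [h1]; exact C.pow_mem hsq _
  apply htnC
  have : t = g⁻¹ * (g * t) := by group
  rw [this]
  exact C.mul_mem (C.inv_mem hgC) h2

/-- an involution normalizing a `p`-subgroup `Q` inverts every element `z` of `Q` that commutes with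
its `t`-conjugate, provided centralizers of nontrivial `p`-elements have odd order -/
theorem inverts_of_commute {G : Type*} [Group G] [Finite G] (p : ℕ) [Fact p.Prime]
    (hCen : ∀ g : G, g ≠ 1 → (∃ k : ℕ, orderOf g = p ^ k) → Odd (Nat.card ↥(Subgroup.centralizer ({g} : Set G))))
    (Q : Subgroup G) (hQ : IsPGroup p Q) (t : G) (ht : orderOf t = 2)
    (z : G) (hz : z ∈ Q) (hz' : t * z * t⁻¹ ∈ Q) (hcomm : z * (t * z * t⁻¹) = (t * z * t⁻¹) * z) :
    t * z * t⁻¹ = z⁻¹ := by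
  have ht2 : t * t = 1 := by rw [← pow_two, ← ht, pow_orderOf_eq_one]
  have htinv : t⁻¹ = t := inv_eq_of_mul_eq_one_left ht2
  set w := z * (t * z * t⁻¹) with hw
  have hwQ : w ∈ Q := Q.mul_mem hz hz'
  have htw : t * w = w * t := by
    have e1 : t * w * t⁻¹ = (t * z * t⁻¹) * (t * (t * z * t⁻¹) * t⁻¹) := by rw [hw]; group
    have e2 : t * (t * z * t⁻¹) * t⁻¹ = z := by
      rw [htinv]
      calc t * (t * z * t) * t = (t * t) * z * (t * t) := by group
        _ = z := by rw [ht2]; group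
    rw [e2, ← hcomm] at e1
    have := congrArg (· * t) e1
    simpa using this
  by_cases hw1 : w = 1
  · have : z * (t * z * t⁻¹) = 1 := hw1
    exact (eq_inv_of_mul_eq_one_right this)
  · exfalso
    obtain ⟨k, hk⟩ := (IsPGroup.iff_orderOf.mp hQ) ⟨w, hwQ⟩
    rw [Subgroup.orderOf_mk] at hk
    have hodd := hCen w hw1 ⟨k, hk⟩
    have htc : t ∈ Subgroup.centralizer ({w} : Set G) := by
      rw [Subgroup.mem_centralizer_iff]
      intro y hy
      rw [Set.mem_singleton_iff] at hy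
      rw [hy]; exact htw.symm
    have h1 : orderOf (⟨t, htc⟩ : Subgroup.centralizer ({w} : Set G)) ∣ Nat.card (Subgroup.centralizer ({w} : Set G)) :=
      orderOf_dvd_natCard _
    rw [Subgroup.orderOf_mk, ht] at h1
    exact (Nat.not_even_iff_odd.mpr hodd) (even_iff_two_dvd.mpr h1)

/-- an involution inverting `z` normalizes the centralizer of `z` -/
theorem mem_normalizer_centralizer_of_inverts {G : Type*} [Group G] (t z : G)
    (h : t * z * t⁻¹ = z⁻¹) : t ∈ Subgroup.normalizer ((Subgroup.centralizer ({z} : Set G) : Subgroup G) : Set G) := by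
  have key : ∀ (s x : G), s * z * s⁻¹ = z⁻¹ → x * z = z * x → (s * x * s⁻¹) * z = z * (s * x * s⁻¹) := by
    intro s x hs hx
    have hz : s * z⁻¹ * s⁻¹ = z := by
      rw [show s * z⁻¹ * s⁻¹ = (s * z * s⁻¹)⁻¹ by group, hs, inv_inv]
    have hx' : x * z⁻¹ = z⁻¹ * x := (Commute.inv_right (show Commute x z from hx)).eq
    calc s * x * s⁻¹ * z = s * x * s⁻¹ * (s * z⁻¹ * s⁻¹) := by rw [hz]
      _ = s * (x * z⁻¹) * s⁻¹ := by group
      _ = s * (z⁻¹ * x) * s⁻¹ := by rw [hx']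
      _ = (s * z⁻¹ * s⁻¹) * (s * x * s⁻¹) := by group
      _ = z * (s * x * s⁻¹) := by rw [hz]
  have h' : t⁻¹ * z * t⁻¹⁻¹ = z⁻¹ := by
    have hz : t * z⁻¹ * t⁻¹ = z := by
      rw [show t * z⁻¹ * t⁻¹ = (t * z * t⁻¹)⁻¹ by group, h, inv_inv]
    calc t⁻¹ * z * t⁻¹⁻¹ = t⁻¹ * (t * z⁻¹ * t⁻¹) * t⁻¹⁻¹ := by rw [hz]
      _ = z⁻¹ := by group
  rw [Subgroup.mem_normalizer_iff]
  intro x
  constructor
  · intro hx
    rw [Subgroup.mem_centralizer_iff] at hx ⊢
    intro y hy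
    rw [Set.mem_singleton_iff] at hy
    rw [hy]
    exact (key t x h (hx z rfl).symm).symm
  · intro hx
    rw [Subgroup.mem_centralizer_iff] at hx ⊢
    intro y hy
    rw [Set.mem_singleton_iff] at hy
    rw [hy]
    have := key t⁻¹ (t * x * t⁻¹) h' (hx z rfl).symm
    rw [show t⁻¹ * (t * x * t⁻¹) * t⁻¹⁻¹ = x by group] at this
    exact this.symm

/-- Let p be an odd prime and G a finite group of even order divisible by p in which the centralizer of every non-identity p-element has odd order. If some nontrivial p-subgroup of G has a normalizer of even order, then the normalizer of every Sylow p-subgroup of G has even order. -/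
theorem result {G : Type*} [Group G] [Finite G] (p : ℕ) [Fact p.Prime] (hp2 : p ≠ 2) (hpG : p ∣ Nat.card G) (h2G : 2 ∣ Nat.card G) (hC : ∀ g : G, g ≠ 1 → (∃ k : ℕ, orderOf g = p ^ k) → Odd (Nat.card ↥(Subgroup.centralizer ({g} : Set G)))) (Q : Subgroup G) (hQ : IsPGroup p ↥Q) (hQ1 : Q ≠ ⊥) (hev : Even (Nat.card ↥(Subgroup.normalizer (Q : Set G)))) (P : Sylow p G) : Even (Nat.card ↥(Subgroup.normalizer ((P : Subgroup G) : Set G))) := by
  have : Fact (Nat.Prime 2) := ⟨Nat.prime_two⟩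
  -- Step 1: an involution normalizing `Q`
  obtain ⟨⟨t₀, ht₀N⟩, ht₀⟩ := exists_prime_orderOf_dvd_card' (G := ↥(Subgroup.normalizer (Q : Set G))) 2
    (even_iff_two_dvd.mp hev)
  rw [Subgroup.orderOf_mk] at ht₀
  -- Step 2: a nontrivial central element of `Q`, inverted by `t₀`
  have : Nontrivial Q := (Subgroup.nontrivial_iff_ne_bot Q).mpr hQ1
  have := hQ.center_nontrivial
  obtain ⟨⟨⟨z₀, hz₀Q⟩, hz₀c⟩, hz₀1⟩ := exists_ne (1 : Subgroup.center Q)
  have hz₀ne : z₀ ≠ 1 := by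
    intro h
    apply hz₀1
    apply Subtype.ext; apply Subtype.ext
    exact h
  have hz₀comm : ∀ y ∈ Q, y * z₀ = z₀ * y := by
    intro y hy
    have := Subgroup.mem_center_iff.mp hz₀c ⟨y, hy⟩
    exact congrArg Subtype.val this
  have hz₀' : t₀ * z₀ * t₀⁻¹ ∈ Q := (Subgroup.mem_normalizer_iff.mp ht₀N z₀).mp hz₀Q
  have hinv₀ : t₀ * z₀ * t₀⁻¹ = z₀⁻¹ :=
    inverts_of_commute p hC Q hQ t₀ ht₀ z₀ hz₀Q hz₀' (hz₀comm _ hz₀').symm
  obtain ⟨k₀, hk₀⟩ := (IsPGroup.iff_orderOf.mp hQ) ⟨z₀, hz₀Q⟩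
  rw [Subgroup.orderOf_mk] at hk₀
  -- Step 3: a `t`-invariant Sylow subgroup `T₀` of `C(z₀)` containing `z₀`
  have hzp : IsPGroup p (Subgroup.zpowers z₀) := by
    apply IsPGroup.of_card (n := k₀)
    rw [Nat.card_zpowers, hk₀]
  have hzle : Subgroup.zpowers z₀ ≤ Subgroup.centralizer ({z₀} : Set G) := by
    rw [Subgroup.zpowers_le, Subgroup.mem_centralizer_iff]
    intro y hy
    rw [Set.mem_singleton_iff] at hy
    rw [hy]
  obtain ⟨T₀, hzT₀, hT₀⟩ := exists_isSylowIn_ge (p := p) hzle hzp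
  obtain ⟨u₁, hu₁N, hu₁⟩ := exists_even_mem_normalizer p _ (hC z₀ hz₀ne ⟨k₀, hk₀⟩) t₀ ht₀
    (mem_normalizer_centralizer_of_inverts t₀ z₀ hinv₀) T₀ hT₀
  -- an involution in `N(T₀)`
  have hev₁ : 2 ∣ Nat.card ↥(Subgroup.normalizer (T₀ : Set G)) := by
    have h1 : orderOf (⟨u₁, hu₁N⟩ : Subgroup.normalizer (T₀ : Set G)) ∣ Nat.card _ := orderOf_dvd_natCard _
    rw [Subgroup.orderOf_mk] at h1
    exact (even_iff_two_dvd.mp hu₁).trans h1
  obtain ⟨⟨t₁, ht₁N⟩, ht₁⟩ := exists_prime_orderOf_dvd_card' (G := ↥(Subgroup.normalizer (T₀ : Set G))) 2 hev₁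
  rw [Subgroup.orderOf_mk] at ht₁
  -- Step 4: a Sylow subgroup `P₀ ≥ T₀`, with `Z(P₀) ≤ T₀`
  obtain ⟨P₀, hP₀⟩ := hT₀.isPGroup.exists_le_sylow
  have hz₀T₀ : z₀ ∈ T₀ := hzT₀ (Subgroup.mem_zpowers z₀)
  have hinf : (P₀ : Subgroup G) ⊓ Subgroup.centralizer ({z₀} : Set G) = T₀ := by
    apply hT₀.eq_of_le (le_inf hP₀ hT₀.le) inf_le_right
    exact P₀.isPGroup'.to_le inf_le_left
  have : Nontrivial (P₀ : Subgroup G) := by
    rw [Subgroup.nontrivial_iff_ne_bot]
    intro h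
    have h1 : z₀ ∈ (P₀ : Subgroup G) := hP₀ hz₀T₀
    rw [h] at h1
    exact hz₀ne (Subgroup.mem_bot.mp h1)
  have := P₀.isPGroup'.center_nontrivial
  obtain ⟨⟨⟨z₁, hz₁P⟩, hz₁c⟩, hz₁1⟩ := exists_ne (1 : Subgroup.center (P₀ : Subgroup G))
  have hz₁ne : z₁ ≠ 1 := by
    intro h
    apply hz₁1
    apply Subtype.ext; apply Subtype.ext
    exact h
  have hz₁comm : ∀ y ∈ (P₀ : Subgroup G), y * z₁ = z₁ * y := by
    intro y hy
    have := Subgroup.mem_center_iff.mp hz₁c ⟨y, hy⟩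
    exact congrArg Subtype.val this
  have hz₁T₀ : z₁ ∈ T₀ := by
    rw [← hinf]
    refine Subgroup.mem_inf.mpr ⟨hz₁P, ?_⟩
    rw [Subgroup.mem_centralizer_iff]
    intro y hy
    rw [Set.mem_singleton_iff] at hy
    rw [hy]
    exact hz₁comm z₀ (hP₀ hz₀T₀)
  -- Step 5: `t₁` inverts `z₁`
  have hz₁' : t₁ * z₁ * t₁⁻¹ ∈ T₀ := (Subgroup.mem_normalizer_iff.mp ht₁N z₁).mp hz₁T₀
  have hinv₁ : t₁ * z₁ * t₁⁻¹ = z₁⁻¹ :=
    inverts_of_commute p hC T₀ hT₀.isPGroup t₁ ht₁ z₁ hz₁T₀ hz₁' (hz₁comm _ (hP₀ hz₁')).symm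
  obtain ⟨k₁, hk₁⟩ := (IsPGroup.iff_orderOf.mp P₀.isPGroup') ⟨z₁, hz₁P⟩
  rw [Subgroup.orderOf_mk] at hk₁
  -- Step 6: `P₀` is a Sylow subgroup of `C(z₁)`
  have hP₀C : (P₀ : Subgroup G) ≤ Subgroup.centralizer ({z₁} : Set G) := by
    intro y hy
    rw [Subgroup.mem_centralizer_iff]
    intro w hw
    rw [Set.mem_singleton_iff] at hw
    rw [hw]
    exact (hz₁comm y hy).symm
  obtain ⟨u₂, hu₂N, hu₂⟩ := exists_even_mem_normalizer p _ (hC z₁ hz₁ne ⟨k₁, hk₁⟩) t₁ ht₁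
    (mem_normalizer_centralizer_of_inverts t₁ z₁ hinv₁) (P₀ : Subgroup G)
    (isSylowIn_of_sylow_le P₀ hP₀C)
  -- Step 7: transfer to `P`
  obtain ⟨g, hg⟩ := MulAction.exists_smul_eq G P₀ P
  have hmem : g * u₂ * g⁻¹ ∈ Subgroup.normalizer ((P : Subgroup G) : Set G) := by
    rw [← hg, Sylow.coe_subgroup_smul, mem_normalizer_conj_smul]
    have : g⁻¹ * (g * u₂ * g⁻¹) * g = u₂ := by group
    rw [this]; exact hu₂N
  have hord : orderOf (g * u₂ * g⁻¹) = orderOf u₂ := by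
    have := orderOf_injective (MulAut.conj g).toMonoidHom (MulAut.conj g).injective u₂
    simpa using this
  have h1 : orderOf (⟨g * u₂ * g⁻¹, hmem⟩ : Subgroup.normalizer ((P : Subgroup G) : Set G)) ∣ Nat.card _ :=
    orderOf_dvd_natCard _
  rw [Subgroup.orderOf_mk, hord] at h1
  exact even_iff_two_dvd.mpr ((even_iff_two_dvd.mp hu₂).trans h1)
end Cfsg.Agent.S3982
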