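import Cfsg.Statements.S3983
import Cfsg.Agent.Lib.Helper66_TI
import Mathlib

set_option autoImplicit false
open Cfsg

namespace Cfsg.Agent.S3983

open scoped Pointwise
open Cfsg.Agent.Lib.Helper66_TI

/-- Let P be a Sylow p-subgroup of the finite group G that meets each conjugate g P g⁻¹ with g outside N_G(P) trivially, and let U be a subgroup of G of order divisible by p. Then a Sylow p-subgroup Q of U has the same property inside U: Q meets each conjugate u Q u⁻¹ with u ∈ U outside N_U(Q) trivially. -/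
theorem result {G : Type*} [Group G] [Finite G] (p : ℕ) [Fact p.Prime] (P : Sylow p G) (hTI : ∀ g : G, g ∉ Subgroup.normalizer ((P : Subgroup G) : Set G) → (P : Subgroup G) ⊓ (MulAut.conj g • (P : Subgroup G)) = ⊥) (U : Subgroup G) (hU : p ∣ Nat.card ↥U) (Q : Sylow p ↥U) : ∀ u : ↥U, u ∉ Subgroup.normalizer ((Q : Subgroup ↥U) : Set ↥U) → (Q : Subgroup ↥U) ⊓ (MulAut.conj u • (Q : Subgroup ↥U)) = ⊥ := by
  rw [isTI_iff] at hTI ⊢
  -- the image of `Q` in `G` lies in a Sylow subgroup `P'`, conjugate to `P`
  have hQ' : IsPGroup p ((Q : Subgroup U).map U.subtype) := Q.isPGroup'.map _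
  obtain ⟨P', hP'⟩ := hQ'.exists_le_sylow
  obtain ⟨h, hh⟩ := MulAction.exists_smul_eq G P P'
  have hTI' : IsTI (P' : Subgroup G) := by
    rw [← hh, Sylow.coe_subgroup_smul]
    exact hTI.conj h
  -- `Q` is the intersection of `P'` with `U`
  have hmem : ∀ x : U, x ∈ (Q : Subgroup U) ↔ (x : G) ∈ (P' : Subgroup G) := by
    have hle : (Q : Subgroup U) ≤ (P' : Subgroup G).subgroupOf U := by
      intro x hx
      rw [Subgroup.mem_subgroupOf]
      exact hP' ⟨x, hx, rfl⟩
    have hp' : IsPGroup p ((P' : Subgroup G).subgroupOf U) :=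
      P'.isPGroup'.comap_of_injective _ (Subgroup.subtype_injective U)
    have heq := Q.is_maximal' hp' hle
    intro x
    rw [← heq, Subgroup.mem_subgroupOf]
  intro u x hx hux hx1
  have h1 : (u : G) ∈ Subgroup.normalizer ((P' : Subgroup G) : Set G) := by
    apply hTI' (u : G) (x : G) ((hmem x).mp hx)
    · have := (hmem _).mp hux
      simpa using this
    · intro h1
      apply hx1
      exact Subtype.ext h1
  rw [Subgroup.mem_normalizer_iff] at h1 ⊢
  intro y
  rw [hmem, hmem]
  have := h1 (y : G)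
  simpa using this
end Cfsg.Agent.S3983
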