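import Cfsg.Statements.S3984
import Mathlib

set_option autoImplicit false
open scoped Pointwise
open Cfsg

namespace Cfsg.Agent.S3984

open scoped Pointwise

theorem mem_conj_smul {G : Type*} [Group G] (g z : G) (S : Subgroup G) :
    z ∈ MulAut.conj g • S ↔ ∃ s ∈ S, z = g * s * g⁻¹ := by
  rw [Subgroup.mem_smul_pointwise_iff_exists]
  constructor
  · rintro ⟨s, hs, rfl⟩
    exact ⟨s, hs, by simp [MulAut.smul_def]⟩
  · rintro ⟨s, hs, rfl⟩
    exact ⟨s, hs, by simp [MulAut.smul_def]⟩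

/-- elementwise TI property -/
def ETI {G : Type*} [Group G] (S : Subgroup G) : Prop :=
  ∀ g u : G, u ∈ S → g * u * g⁻¹ ∈ S → u ≠ 1 → g ∈ Subgroup.normalizer (S : Set G)

theorem eti_of_ti {G : Type*} [Group G] (S : Subgroup G)
    (h : ∀ g : G, g ∉ Subgroup.normalizer (S : Set G) → S ⊓ (MulAut.conj g • S) = ⊥) : ETI S := by
  intro g u hu hgu hne
  by_contra hg
  have h1 := h g hg
  have h2 : g * u * g⁻¹ ∈ S ⊓ (MulAut.conj g • S) :=
    ⟨hgu, (mem_conj_smul g _ S).2 ⟨u, hu, rfl⟩⟩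
  rw [h1, Subgroup.mem_bot] at h2
  apply hne
  have h3 := congrArg (fun z => g⁻¹ * z * g) h2
  simpa [mul_assoc] using h3

theorem ti_of_eti {G : Type*} [Group G] (S : Subgroup G) (h : ETI S) :
    ∀ g : G, g ∉ Subgroup.normalizer (S : Set G) → S ⊓ (MulAut.conj g • S) = ⊥ := by
  intro g hg
  rw [eq_bot_iff]
  rintro z ⟨hz1, hz2⟩
  rw [Subgroup.mem_bot]
  obtain ⟨u, hu, rfl⟩ := (mem_conj_smul g z S).1 hz2
  by_contra hne
  apply hg
  apply h g u hu hz1
  rintro rfl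
  apply hne
  simp

theorem eti_conj {G : Type*} [Group G] (S : Subgroup G) (h : ETI S) (y : G) :
    ETI (MulAut.conj y • S) := by
  intro g u hu hgu hne
  obtain ⟨u', hu', rfl⟩ := (mem_conj_smul y u S).1 hu
  obtain ⟨w, hw, hwe⟩ := (mem_conj_smul y _ S).1 hgu
  have h1 : (y⁻¹ * g * y) * u' * (y⁻¹ * g * y)⁻¹ = w := by
    have := congrArg (fun z => y⁻¹ * z * y) hwe
    rw [show y⁻¹ * (y * w * y⁻¹) * y = w by group] at this
    rw [← this]; group
  have h2 : y⁻¹ * g * y ∈ Subgroup.normalizer (S : Set G) := by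
    apply h _ u' hu' (h1 ▸ hw)
    rintro rfl
    apply hne; simp
  rw [Subgroup.mem_normalizer_iff] at h2 ⊢
  intro z
  rw [mem_conj_smul, mem_conj_smul]
  constructor
  · rintro ⟨s, hs, rfl⟩
    refine ⟨(y⁻¹ * g * y) * s * (y⁻¹ * g * y)⁻¹, (h2 s).1 hs, by group⟩
  · rintro ⟨s, hs, hse⟩
    refine ⟨(y⁻¹ * g * y)⁻¹ * s * (y⁻¹ * g * y), ?_, ?_⟩
    · rw [h2]
      have : y⁻¹ * g * y * ((y⁻¹ * g * y)⁻¹ * s * (y⁻¹ * g * y)) * (y⁻¹ * g * y)⁻¹ = s := by group
      rw [this]; exact hs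
    · have := congrArg (fun t => g⁻¹ * t * g) hse
      rw [show g⁻¹ * (g * z * g⁻¹) * g = z by group] at this
      rw [this]; group



theorem core {G : Type*} [Group G] [Finite G] (p : ℕ) [Fact p.Prime] (P : Sylow p G)
    (hE : ETI (P : Subgroup G)) (N : Subgroup G) [N.Normal] :
    ETI ((P : Subgroup G).map (QuotientGroup.mk' N)) := by
  intro xb zb hzb hxz hne
  obtain ⟨x, rfl⟩ := QuotientGroup.mk'_surjective N xb
  obtain ⟨v, hv, rfl⟩ := hzb
  obtain ⟨u, hu, hue⟩ := hxz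
  -- v, u ∈ P, mk u = mk x * mk v * (mk x)⁻¹
  have hv1 : v ≠ 1 := by
    rintro rfl
    exact hne (map_one _)
  have hmem : (x * v * x⁻¹)⁻¹ * u ∈ N := by
    rw [← QuotientGroup.eq]
    simpa using hue.symm
  -- the subgroup H = N ⊔ x P x⁻¹
  set P'' : Sylow p G := x • P with hP''
  have hP''coe : (P'' : Subgroup G) = MulAut.conj x • (P : Subgroup G) := Sylow.coe_subgroup_smul
  set H : Subgroup G := N ⊔ (P'' : Subgroup G) with hH
  have hle : (P'' : Subgroup G) ≤ H := le_sup_right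
  have huH : u ∈ H := by
    have h1 : x * v * x⁻¹ ∈ (P'' : Subgroup G) := by
      rw [hP''coe, mem_conj_smul]; exact ⟨v, hv, rfl⟩
    have h2 : u = (x * v * x⁻¹) * ((x * v * x⁻¹)⁻¹ * u) := by group
    rw [h2]
    exact H.mul_mem (hle h1) (le_sup_left (a := N) hmem)
  -- zpowers of u in H is a p-group
  have hup : IsPGroup p (Subgroup.zpowers (⟨u, huH⟩ : H)) := by
    obtain ⟨k, hk⟩ := P.isPGroup' ⟨u, hu⟩
    have hk' : u ^ p ^ k = 1 := by
      have := congrArg Subtype.val hk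
      simpa using this
    rintro ⟨g, hg⟩
    obtain ⟨j, rfl⟩ := Subgroup.mem_zpowers_iff.1 hg
    refine ⟨k, ?_⟩
    apply Subtype.ext
    apply Subtype.ext
    simp only [Subgroup.coe_pow, Subgroup.coe_zpow, Subgroup.coe_one]
    rw [← zpow_natCast, ← zpow_mul, mul_comm, zpow_mul, zpow_natCast, hk', one_zpow]
  obtain ⟨R, hR⟩ := hup.exists_le_sylow
  obtain ⟨a, ha⟩ := MulAction.exists_smul_eq H R (P''.subtype hle)
  have huR : (⟨u, huH⟩ : H) ∈ (R : Subgroup H) := hR (Subgroup.mem_zpowers _)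
  have h3 : a * ⟨u, huH⟩ * a⁻¹ ∈ ((P''.subtype hle : Sylow p H) : Subgroup H) := by
    rw [← ha, Sylow.coe_subgroup_smul, mem_conj_smul]
    exact ⟨_, huR, rfl⟩
  rw [Sylow.coe_subtype, Subgroup.mem_subgroupOf] at h3
  have h3' : (a : G) * u * (a : G)⁻¹ ∈ (P'' : Subgroup G) := by simpa using h3
  -- decompose a⁻¹ = n' * w
  have hainv : ((a⁻¹ : H) : G) ∈ ((N ⊔ (P'' : Subgroup G) : Subgroup G) : Set G) := (a⁻¹).2
  rw [Subgroup.normal_mul, Set.mem_mul] at hainv
  obtain ⟨n', hn', w, hw, hnw⟩ := hainv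
  -- u = (n' x) v' (n' x)⁻¹
  have hws : w * ((a : G) * u * (a : G)⁻¹) * w⁻¹ ∈ (P'' : Subgroup G) :=
    (P'' : Subgroup G).mul_mem ((P'' : Subgroup G).mul_mem hw h3') ((P'' : Subgroup G).inv_mem hw)
  rw [hP''coe, mem_conj_smul] at hws
  obtain ⟨v', hv', hv'e⟩ := hws
  have hainv' : (a : G)⁻¹ = n' * w := by
    rw [hnw]; simp
  have hu_eq : u = (n' * x) * v' * (n' * x)⁻¹ := by
    have e1 : u = (n' * w) * ((a : G) * u * (a : G)⁻¹) * (n' * w)⁻¹ := by
      rw [← hainv']; group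
    rw [e1]
    have e2 : n' * w * ((a : G) * u * (a : G)⁻¹) * (n' * w)⁻¹
        = n' * (w * ((a : G) * u * (a : G)⁻¹) * w⁻¹) * n'⁻¹ := by group
    rw [e2, hv'e]; group
  have hv'1 : v' ≠ 1 := by
    rintro rfl
    apply hne
    have hu1 : u = 1 := by rw [hu_eq]; group
    have h := hue
    rw [hu1, map_one] at h
    have h' := congrArg (fun t => ((QuotientGroup.mk' N) x)⁻¹ * t * (QuotientGroup.mk' N) x) h.symm
    simpa [mul_assoc] using h'
  have hnorm : n' * x ∈ Subgroup.normalizer ((P : Subgroup G) : Set G) :=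
    hE (n' * x) v' hv' (hu_eq ▸ hu) hv'1
  -- so mk x normalizes the image
  have hmk : (QuotientGroup.mk' N) (n' * x) = (QuotientGroup.mk' N) x := by
    rw [map_mul]
    have : (QuotientGroup.mk' N) n' = 1 := (QuotientGroup.eq_one_iff n').2 hn'
    rw [this, one_mul]
  rw [← hmk]
  rw [Subgroup.mem_normalizer_iff] at hnorm ⊢
  intro q
  constructor
  · rintro ⟨s, hs, rfl⟩
    exact ⟨(n' * x) * s * (n' * x)⁻¹, (hnorm s).1 hs, by simp⟩
  · rintro ⟨s, hs, hse⟩
    refine ⟨(n' * x)⁻¹ * s * (n' * x), ?_, ?_⟩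
    · rw [SetLike.mem_coe, hnorm]
      have : n' * x * ((n' * x)⁻¹ * s * (n' * x)) * (n' * x)⁻¹ = s := by group
      rw [this]; exact hs
    · have := congrArg (fun t => ((QuotientGroup.mk' N) (n' * x))⁻¹ * t * (QuotientGroup.mk' N) (n' * x)) hse
      simp only [map_mul, map_inv] at this ⊢
      rw [this]; group

/-- Let P be a Sylow p-subgroup of the finite group G that meets each conjugate g P g⁻¹ with g outside N_G(P) trivially, and let N be a normal subgroup of G of order prime to p. Then every Sylow p-subgroup Q of G ⧸ N meets each conjugate x Q x⁻¹ with x outside its normalizer trivially. -/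
theorem result {G : Type*} [Group G] [Finite G] (p : ℕ) [Fact p.Prime] (P : Sylow p G) (hTI : ∀ g : G, g ∉ Subgroup.normalizer ((P : Subgroup G) : Set G) → (P : Subgroup G) ⊓ (MulAut.conj g • (P : Subgroup G)) = ⊥) (N : Subgroup G) [N.Normal] (hN : (Nat.card ↥N).Coprime p) (Q : Sylow p (G ⧸ N)) : ∀ x : G ⧸ N, x ∉ Subgroup.normalizer ((Q : Subgroup (G ⧸ N)) : Set (G ⧸ N)) → (Q : Subgroup (G ⧸ N)) ⊓ (MulAut.conj x • (Q : Subgroup (G ⧸ N))) = ⊥ := by
  classical
  have hE : ETI (P : Subgroup G) := eti_of_ti _ hTI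
  obtain ⟨P', hP'⟩ := Sylow.mapSurjective_surjective (QuotientGroup.mk'_surjective N) p Q
  obtain ⟨y, hy⟩ := MulAction.exists_smul_eq G P P'
  have hE' : ETI (P' : Subgroup G) := by
    rw [← hy, Sylow.coe_subgroup_smul]
    exact eti_conj _ hE y
  have hQ : (Q : Subgroup (G ⧸ N)) = (P' : Subgroup G).map (QuotientGroup.mk' N) := by
    rw [← hP']; rfl
  rw [hQ]
  exact ti_of_eti _ (core p P' hE' N)

end Cfsg.Agent.S3984
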