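import Cfsg.Statements.S3985
import Cfsg.Agent.Lib.Helper66_TI
import Cfsg.Agent.Lib.Helper66_Basic
import Mathlib

set_option autoImplicit false
open Cfsg

namespace Cfsg.Agent.S3985

open scoped Pointwise
open Cfsg.Agent.Lib.Helper66_TI Cfsg.Agent.Lib.Helper66_Basic

/-- iterated conjugation acts on a "power-conjugated" element by powers of the exponent -/
theorem conj_pow_of_conj {G : Type*} [Group G] (c u : G) (k : ℕ) (h : c * u * c⁻¹ = u ^ k) (j : ℕ) :
    c ^ j * u * (c ^ j)⁻¹ = u ^ (k ^ j) := by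
  induction j with
  | zero => simp
  | succ j ih =>
    have h1 : c ^ (j + 1) * u * (c ^ (j + 1))⁻¹ = c * (c ^ j * u * (c ^ j)⁻¹) * c⁻¹ := by
      rw [pow_succ']; group
    rw [h1, ih]
    have h2 : c * u ^ (k ^ j) * c⁻¹ = (c * u * c⁻¹) ^ (k ^ j) := by
      rw [conj_pow]
    rw [h2, h, ← pow_mul, pow_succ']

/-- an element normalizing a cyclic Sylow subgroup and centralizing a nontrivial element of it
centralizes the whole Sylow subgroup -/
theorem centralizes_of_normalizes {G : Type*} [Group G] [Finite G] (p : ℕ) [hp : Fact p.Prime]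
    (P : Sylow p G) (hcyc : IsCyclic ↥(P : Subgroup G)) (c x : G)
    (hc : c ∈ Subgroup.normalizer ((P : Subgroup G) : Set G)) (hx : x ∈ (P : Subgroup G))
    (hx1 : x ≠ 1) (hcx : x * c = c * x) : c ∈ Subgroup.centralizer ((P : Subgroup G) : Set G) := by
  -- a generator
  obtain ⟨⟨u, hu⟩, hgen⟩ := hcyc.exists_generator
  have hpow : ∀ y ∈ (P : Subgroup G), ∃ i : ℕ, u ^ i = y := by
    intro y hy
    have h1 := hgen ⟨y, hy⟩
    rw [← mem_powers_iff_mem_zpowers] at h1
    obtain ⟨i, hi⟩ := h1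
    refine ⟨i, ?_⟩
    have := congrArg Subtype.val hi
    simpa using this
  have hord : orderOf u = Nat.card (P : Subgroup G) := by
    rw [← orderOf_eq_card_of_forall_mem_zpowers hgen, Subgroup.orderOf_mk]
  obtain ⟨n, hn⟩ := (IsPGroup.iff_card.mp P.isPGroup')
  rw [hn] at hord
  -- `P` is abelian
  have hab : ∀ y ∈ (P : Subgroup G), ∀ z ∈ (P : Subgroup G), y * z = z * y := by
    intro y hy z hz
    obtain ⟨i, rfl⟩ := hpow y hy
    obtain ⟨j, rfl⟩ := hpow z hz
    rw [← pow_add, ← pow_add, add_comm]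
  -- `n ≥ 1`
  have hn1 : 1 ≤ n := by
    by_contra h0
    have h0' : n = 0 := by omega
    rw [h0', pow_zero] at hord
    have hu1 : u = 1 := orderOf_eq_one_iff.mp hord
    obtain ⟨i, rfl⟩ := hpow x hx
    apply hx1
    rw [hu1, one_pow]
  -- the action of `c` on `u`
  have hcu : c * u * c⁻¹ ∈ (P : Subgroup G) := (Subgroup.mem_normalizer_iff.mp hc u).mp hu
  obtain ⟨k, hk⟩ := hpow _ hcu
  obtain ⟨m, hm⟩ := hpow x hx
  -- `k * m ≡ m`
  have h1 : u ^ (k * m) = u ^ m := by
    rw [pow_mul, hk, conj_pow, hm]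
    rw [← hcx]; group
  rw [pow_eq_pow_iff_modEq, hord] at h1
  -- `p ∣ k - 1`
  have hpk : (p : ℤ) ∣ (k : ℤ) - 1 := by
    by_contra hnot
    have hcop : IsCoprime ((p : ℤ) ^ n) ((k : ℤ) - 1) := by
      apply IsCoprime.pow_left
      exact (Prime.coprime_iff_not_dvd (Nat.prime_iff_prime_int.mp hp.out)).mpr hnot
    have h2 : ((p : ℤ) ^ n) ∣ ((k : ℤ) - 1) * m := by
      have := (Nat.modEq_iff_dvd.mp h1.symm)
      have e : ((k * m : ℕ) : ℤ) - (m : ℕ) = ((k : ℤ) - 1) * m := by push_cast; ring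
      rw [e] at this
      exact_mod_cast this
    have h3 : ((p : ℤ) ^ n) ∣ (m : ℤ) := hcop.dvd_of_dvd_mul_left h2
    have h4 : p ^ n ∣ m := by exact_mod_cast h3
    apply hx1
    rw [← hm]
    rw [← hord] at h4
    exact orderOf_dvd_iff_pow_eq_one.mp h4
  -- `k ^ (p ^ (n-1)) ≡ 1`
  have hkp : k ^ (p ^ (n - 1)) ≡ 1 [MOD p ^ n] := by
    have h2 := dvd_sub_pow_of_dvd_sub hpk (n - 1)
    rw [Nat.sub_add_cancel hn1, one_pow] at h2
    apply (Nat.modEq_iff_dvd.mpr _).symm
    push_cast
    exact h2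
  -- `c ^ (p ^ (n-1))` centralizes `u`
  have hcent1 : c ^ (p ^ (n - 1)) ∈ Subgroup.centralizer ((P : Subgroup G) : Set G) := by
    have h2 := conj_pow_of_conj c u k hk.symm (p ^ (n - 1))
    have h3 : u ^ (k ^ (p ^ (n - 1))) = u ^ 1 := by
      rw [pow_eq_pow_iff_modEq, hord]; exact hkp
    rw [h3, pow_one] at h2
    rw [Subgroup.mem_centralizer_iff]
    intro y hy
    obtain ⟨i, rfl⟩ := hpow y hy
    have h4 : c ^ (p ^ (n - 1)) * u = u * c ^ (p ^ (n - 1)) := by
      have := congrArg (· * c ^ (p ^ (n - 1))) h2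
      simpa using this
    exact ((Commute.pow_right (show Commute (c ^ (p ^ (n - 1))) u from h4) i).eq).symm
  -- the `p`-part of `c` lies in `P`
  obtain ⟨m', a, hcop, hma⟩ := exists_coprime_pow_pElement p c
  have hcent2 : c ^ m' ∈ Subgroup.centralizer ((P : Subgroup G) : Set G) := by
    have h2 : c ^ m' ∈ (P : Subgroup G) :=
      mem_sylow_of_normalizer P (Subgroup.pow_mem _ hc m') hma
    rw [Subgroup.mem_centralizer_iff]
    intro y hy
    exact hab y hy _ h2
  exact mem_of_pow_mem_of_coprime (Nat.Coprime.pow_right _ hcop) hcent2 hcent1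

/-- Let P be a cyclic Sylow p-subgroup of the finite group G. Then P meets each conjugate g P g⁻¹ with g outside N_G(P) trivially if and only if P is weakly self-centralizing: C_G(x) = C_G(P) for every non-identity x ∈ P. -/
theorem result {G : Type*} [Group G] [Finite G] (p : ℕ) [Fact p.Prime] (P : Sylow p G) (hcyc : IsCyclic ↥(P : Subgroup G)) : (∀ g : G, g ∉ Subgroup.normalizer ((P : Subgroup G) : Set G) → (P : Subgroup G) ⊓ (MulAut.conj g • (P : Subgroup G)) = ⊥) ↔ ∀ x : G, x ∈ (P : Subgroup G) → x ≠ 1 → Subgroup.centralizer ({x} : Set G) = Subgroup.centralizer ((P : Subgroup G) : Set G) := by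
  rw [isTI_iff]
  constructor
  · intro hTI x hx hx1
    apply le_antisymm
    · intro c hc
      have hcx : x * c = c * x := Subgroup.mem_centralizer_iff.mp hc x rfl
      have hcn : c ∈ Subgroup.normalizer ((P : Subgroup G) : Set G) := by
        apply hTI c x hx _ hx1
        have : c⁻¹ * x * c = x := by rw [mul_assoc, hcx]; group
        rw [this]; exact hx
      exact centralizes_of_normalizes p P hcyc c x hcn hx hx1 hcx
    · apply Subgroup.centralizer_le
      intro y hy
      rw [Set.mem_singleton_iff] at hy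
      rw [hy]; exact hx
  · intro hW g x hx hgx hx1
    -- `P` is abelian
    have hab : ∀ y ∈ (P : Subgroup G), ∀ z ∈ (P : Subgroup G), y * z = z * y := by
      intro y hy z hz
      have := (hcyc.isMulCommutative.is_comm.comm ⟨y, hy⟩ ⟨z, hz⟩)
      exact congrArg Subtype.val this
    have hy1 : g⁻¹ * x * g ≠ 1 := by
      intro h
      apply hx1
      have : x = g * (g⁻¹ * x * g) * g⁻¹ := by group
      rw [this, h]; group
    have hCy := hW _ hgx hy1
    -- the conjugate Sylow subgroup lies in the centralizer of `P`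
    have hR : ((g⁻¹ • P : Sylow p G) : Subgroup G) ≤ Subgroup.centralizer ((P : Subgroup G) : Set G) := by
      intro w hw
      rw [Sylow.coe_subgroup_smul, mem_conj_smul, inv_inv] at hw
      rw [← hCy, Subgroup.mem_centralizer_iff]
      intro y hy
      rw [Set.mem_singleton_iff] at hy
      rw [hy]
      have h2 := hab _ hw x hx
      calc g⁻¹ * x * g * w = g⁻¹ * (x * (g * w * g⁻¹)) * g := by group
        _ = g⁻¹ * ((g * w * g⁻¹) * x) * g := by rw [h2]
        _ = w * (g⁻¹ * x * g) := by group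
    have hRn : ((g⁻¹ • P : Sylow p G) : Subgroup G) ≤ Subgroup.normalizer ((P : Subgroup G) : Set G) :=
      hR.trans (Subgroup.centralizer_le_normalizer _)
    have hsup : IsPGroup p (((g⁻¹ • P : Sylow p G) : Subgroup G) ⊔ (P : Subgroup G) : Subgroup G) :=
      (g⁻¹ • P : Sylow p G).isPGroup'.to_sup_of_normal_right' P.isPGroup' hRn
    have e1 := P.is_maximal' hsup le_sup_right
    have e2 := (g⁻¹ • P : Sylow p G).is_maximal' hsup le_sup_left
    have e3 : (g⁻¹ • P : Sylow p G) = P := Sylow.ext (e2.symm.trans e1)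
    have := Sylow.smul_eq_iff_mem_normalizer.mp e3
    exact (Subgroup.inv_mem_iff _).mp this
end Cfsg.Agent.S3985
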