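import Cfsg.Statements.S3986
import Cfsg.Agent.Lib.Helper66_Basic
import Mathlib

set_option autoImplicit false
open Cfsg

namespace Cfsg.Agent.S3986

open scoped Pointwise
open Cfsg.Agent.Lib.Helper66_Basic

/-- if `x` commutes with all elements of prime power order for primes other than `p`, then it
commutes with every element of order prime to `p` -/
theorem commute_of_coprime_order {G : Type*} [Group G] [Finite G] (p : ℕ) (x : G)
    (h : ∀ y : G, (∃ q b : ℕ, q.Prime ∧ q ≠ p ∧ orderOf y = q ^ b) → x * y = y * x) :
    ∀ (n : ℕ) (k : G), orderOf k = n → Nat.Coprime n p → k ∈ Subgroup.centralizer ({x} : Set G) := by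
  intro n
  induction n using Nat.strong_induction_on with
  | _ n ih =>
    intro k hk hcop
    by_cases hn1 : n = 1
    · rw [hn1] at hk
      rw [orderOf_eq_one_iff.mp hk]
      exact Subgroup.one_mem _
    · obtain ⟨q, hq, hqn⟩ := Nat.exists_prime_and_dvd hn1
      have hqp : q ≠ p := by
        rintro rfl
        have := Nat.Coprime.eq_one_of_dvd hcop.symm hqn
        exact hq.one_lt.ne' this
      have : Fact q.Prime := ⟨hq⟩
      obtain ⟨m, a, hmq, hma⟩ := exists_coprime_pow_pElement q k
      have h1 : k ^ m ∈ Subgroup.centralizer ({x} : Set G) := by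
        rw [Subgroup.mem_centralizer_iff]
        intro z hz
        rw [Set.mem_singleton_iff] at hz
        rw [hz]
        exact h (k ^ m) ⟨q, a, hq, hqp, hma⟩
      have h2 : k ^ (q ^ a) ∈ Subgroup.centralizer ({x} : Set G) := by
        have hdvd : orderOf (k ^ (q ^ a)) ∣ n := hk ▸ orderOf_pow_dvd (q ^ a)
        have hdvdm : orderOf (k ^ (q ^ a)) ∣ m := by
          rw [orderOf_dvd_iff_pow_eq_one, ← pow_mul, mul_comm, pow_mul, ← hma]
          exact pow_orderOf_eq_one _
        have hn0 : 0 < n := hk ▸ orderOf_pos k
        have hlt : orderOf (k ^ (q ^ a)) < n := by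
          apply lt_of_le_of_ne (Nat.le_of_dvd hn0 hdvd)
          intro heq
          rw [heq] at hdvdm
          have : q ∣ m := hqn.trans hdvdm
          have := Nat.Coprime.eq_one_of_dvd hmq.symm this
          exact hq.one_lt.ne' this
        exact ih _ hlt (k ^ (q ^ a)) rfl (Nat.Coprime.coprime_dvd_left hdvd hcop)
      exact mem_of_pow_mem_of_coprime (Nat.Coprime.pow_right a hmq) h1 h2

/-- Let p be a prime and G a finite group. Then some Sylow p-subgroup of G is a direct factor of G (it is normal and has a normal complement) if and only if every element of p-power order commutes with every element whose order is a power of a prime other than p. -/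
theorem result {G : Type*} [Group G] [Finite G] (p : ℕ) [Fact p.Prime] : (∃ (P : Sylow p G) (K : Subgroup G), (P : Subgroup G).Normal ∧ K.Normal ∧ (P : Subgroup G) ⊓ K = ⊥ ∧ (P : Subgroup G) ⊔ K = ⊤) ↔ ∀ x y : G, (∃ a : ℕ, orderOf x = p ^ a) → (∃ q b : ℕ, q.Prime ∧ q ≠ p ∧ orderOf y = q ^ b) → x * y = y * x := by
  have hp : p.Prime := Fact.out
  constructor
  · rintro ⟨P, K, hPn, hKn, hinf, hsup⟩ x y ⟨a, ha⟩ ⟨q, b, hq, hqp, hb⟩
    have hdis : Disjoint (P : Subgroup G) K := disjoint_iff.mpr hinf
    have hcompl : Subgroup.IsComplement' (P : Subgroup G) K := by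
      apply Subgroup.isComplement'_of_disjoint_and_mul_eq_univ hdis
      rw [← Subgroup.mul_normal, hsup]; rfl
    have hidx : K.index = Nat.card (P : Subgroup G) := hcompl.index_eq_card
    obtain ⟨n, hn⟩ := (IsPGroup.iff_card.mp P.isPGroup')
    have hxP : x ∈ (P : Subgroup G) := by
      apply mem_sylow_of_normalizer P _ ha
      rw [Subgroup.normalizer_eq_top]; exact Subgroup.mem_top x
    have hyK : y ∈ K := by
      have h1 : y ^ (p ^ n) ∈ K := by
        rw [← hn, ← hidx]; exact K.pow_index_mem y
      have h2 : y ^ (q ^ b) ∈ K := by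
        rw [← hb, pow_orderOf_eq_one]; exact K.one_mem
      have hcop : Nat.Coprime (p ^ n) (q ^ b) :=
        Nat.Coprime.pow n b ((Nat.coprime_primes hp hq).mpr hqp.symm)
      exact mem_of_pow_mem_of_coprime hcop h1 h2
    exact (Subgroup.commute_of_normal_of_disjoint _ _ hPn hKn hdis x y hxP hyK).eq
  · intro h
    obtain ⟨P⟩ : Nonempty (Sylow p G) := inferInstance
    -- every element of `P` commutes with every element of order prime to `p`
    have hcomm : ∀ x ∈ (P : Subgroup G), ∀ k : G, Nat.Coprime (orderOf k) p → x * k = k * x := by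
      intro x hx k hk
      obtain ⟨a, ha⟩ := (IsPGroup.iff_orderOf.mp P.isPGroup') ⟨x, hx⟩
      rw [Subgroup.orderOf_mk] at ha
      have := commute_of_coprime_order p x (fun y hy => h x y ⟨a, ha⟩ hy) _ k rfl hk
      exact Subgroup.mem_centralizer_iff.mp this x rfl
    -- `P` is normal: its normalizer contains a Sylow subgroup for every prime
    have hidx : (Subgroup.normalizer ((P : Subgroup G) : Set G)).index = 1 := by
      rw [Nat.eq_one_iff_not_exists_prime_dvd]
      intro r hr hdvd
      have : Fact r.Prime := ⟨hr⟩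
      by_cases hrp : r = p
      · subst hrp
        exact P.not_dvd_index (hdvd.trans (Subgroup.index_dvd_of_le Subgroup.le_normalizer))
      · obtain ⟨Q⟩ : Nonempty (Sylow r G) := inferInstance
        have hQ : (Q : Subgroup G) ≤ Subgroup.normalizer ((P : Subgroup G) : Set G) := by
          refine le_trans ?_ (Subgroup.centralizer_le_normalizer _)
          intro y hy
          rw [Subgroup.mem_centralizer_iff]
          intro x hx
          obtain ⟨b, hb⟩ := (IsPGroup.iff_orderOf.mp Q.isPGroup') ⟨y, hy⟩
          rw [Subgroup.orderOf_mk] at hb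
          apply hcomm x hx y
          rw [hb]
          exact Nat.Coprime.pow_left b ((Nat.coprime_primes hr hp).mpr hrp)
        exact Q.not_dvd_index (hdvd.trans (Subgroup.index_dvd_of_le hQ))
    have hPn : (P : Subgroup G).Normal := by
      rw [← Subgroup.normalizer_eq_top_iff]
      exact Subgroup.index_eq_one.mp hidx
    -- Schur-Zassenhaus gives a complement
    have hcop : Nat.Coprime (Nat.card (P : Subgroup G)) (P : Subgroup G).index := by
      obtain ⟨n, hn⟩ := (IsPGroup.iff_card.mp P.isPGroup')
      rw [hn]
      exact Nat.Coprime.pow_left n ((Nat.Prime.coprime_iff_not_dvd hp).mpr P.not_dvd_index)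
    obtain ⟨K, hK⟩ := Subgroup.exists_right_complement'_of_coprime hcop
    have hKcard : Nat.card K = (P : Subgroup G).index := hK.symm.index_eq_card.symm
    -- `K` centralizes `P`
    have hKc : ∀ x ∈ (P : Subgroup G), ∀ k ∈ K, x * k = k * x := by
      intro x hx k hk
      apply hcomm x hx k
      have h1 : orderOf k ∣ Nat.card K := by
        have := orderOf_dvd_natCard (⟨k, hk⟩ : K)
        rwa [Subgroup.orderOf_mk] at this
      rw [hKcard] at h1
      exact Nat.Coprime.coprime_dvd_left h1
        ((Nat.Prime.coprime_iff_not_dvd hp).mpr P.not_dvd_index).symm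
    have hKn : K.Normal := by
      constructor
      intro n hn g
      obtain ⟨⟨⟨x, hx⟩, ⟨k, hk⟩⟩, hg⟩ := (hK.existsUnique g).exists
      simp only at hg
      rw [← hg]
      have h1 : k * n * k⁻¹ ∈ K := K.mul_mem (K.mul_mem hk hn) (K.inv_mem hk)
      have h2 := hKc x hx _ h1
      have h3 : x * k * n * (x * k)⁻¹ = x * (k * n * k⁻¹) * x⁻¹ := by group
      rw [h3, h2]
      simpa using h1
    exact ⟨P, K, hPn, hKn, disjoint_iff.mp hK.disjoint, hK.sup_eq_top⟩
end Cfsg.Agent.S3986
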