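import Cfsg.Statements.S3987
import Cfsg.Agent.S3986
import Cfsg.Agent.Lib.Helper66_Basic
import Mathlib

set_option autoImplicit false
open Cfsg

namespace Cfsg.Agent.S3987

open scoped Pointwise
open Cfsg.Agent.Lib.Helper66_Basic

/-- the index of the centralizer is the size of the conjugacy class -/
theorem index_centralizer_eq_ncard {G : Type*} [Group G] (z : G) :
    (Subgroup.centralizer ({z} : Set G)).index = (MulAction.orbit (ConjAct G) z).ncard := by
  rw [← MulAction.index_stabilizer, Subgroup.centralizer_eq_comap_stabilizer]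
  exact Subgroup.index_comap_of_surjective _ (ConjAct.toConjAct (G := G)).surjective

/-- if the class of `x * y` is as large as the product of the classes of `x` and of `y`, then
`x` and `y` commute -/
theorem commute_of_index_eq {G : Type*} [Group G] [Finite G] (x y : G)
    (h : (Subgroup.centralizer ({x * y} : Set G)).index =
      (Subgroup.centralizer ({x} : Set G)).index * (Subgroup.centralizer ({y} : Set G)).index) :
    x * y = y * x := by
  rw [index_centralizer_eq_ncard, index_centralizer_eq_ncard, index_centralizer_eq_ncard] at h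
  set A := MulAction.orbit (ConjAct G) x with hA
  set B := MulAction.orbit (ConjAct G) y with hB
  set f : G × G → G := fun u => u.1 * u.2 with hf
  have hsub : MulAction.orbit (ConjAct G) (x * y) ⊆ f '' (A ×ˢ B) := by
    intro z hz
    rw [ConjAct.mem_orbit_conjAct, isConj_comm, isConj_iff] at hz
    obtain ⟨c, rfl⟩ := hz
    refine ⟨(c * x * c⁻¹, c * y * c⁻¹), ⟨?_, ?_⟩, ?_⟩
    · rw [hA, ConjAct.mem_orbit_conjAct, isConj_comm, isConj_iff]; exact ⟨c, rfl⟩
    · rw [hB, ConjAct.mem_orbit_conjAct, isConj_comm, isConj_iff]; exact ⟨c, rfl⟩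
    · simp only [hf]; group
  have hfin : (A ×ˢ B).Finite := Set.toFinite _
  have h1 : (MulAction.orbit (ConjAct G) (x * y)).ncard ≤ (f '' (A ×ˢ B)).ncard :=
    Set.ncard_le_ncard hsub (Set.toFinite _)
  have h2 : (f '' (A ×ˢ B)).ncard ≤ (A ×ˢ B).ncard := Set.ncard_image_le hfin
  have h3 : (A ×ˢ B).ncard = A.ncard * B.ncard := Set.ncard_prod
  have h4 : (f '' (A ×ˢ B)).ncard = (A ×ˢ B).ncard := by omega
  have hinj : Set.InjOn f (A ×ˢ B) := (Set.ncard_image_iff hfin).mp h4
  have hxA : x ∈ A := MulAction.mem_orbit_self x
  have hyB : y ∈ B := MulAction.mem_orbit_self y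
  have hxA' : (x * y) * x * (x * y)⁻¹ ∈ A := by
    rw [hA, ConjAct.mem_orbit_conjAct, isConj_comm, isConj_iff]; exact ⟨x * y, rfl⟩
  have hyB' : (x * y) * y * (x * y)⁻¹ ∈ B := by
    rw [hB, ConjAct.mem_orbit_conjAct, isConj_comm, isConj_iff]; exact ⟨x * y, rfl⟩
  have h5 : f ((x * y) * x * (x * y)⁻¹, (x * y) * y * (x * y)⁻¹) = f (x, y) := by
    simp only [hf]; group
  have h6 := hinj (Set.mk_mem_prod hxA' hyB') (Set.mk_mem_prod hxA hyB) h5
  have h7 : (x * y) * x * (x * y)⁻¹ = x := congrArg Prod.fst h6
  have h8 : x * y * x = x * (x * y) := by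
    have := congrArg (· * (x * y)) h7
    simpa [mul_assoc] using this
  have h9 : y * x = x * y := by
    have := congrArg (x⁻¹ * ·) h8
    simpa [mul_assoc] using this
  exact h9.symm

/-- for commuting elements of coprime orders the centralizer of the product is the intersection of
the centralizers -/
theorem centralizer_mul_of_coprime {G : Type*} [Group G] (x y : G) (hxy : x * y = y * x)
    (hcop : Nat.Coprime (orderOf x) (orderOf y)) :
    Subgroup.centralizer ({x * y} : Set G) =
      Subgroup.centralizer ({x} : Set G) ⊓ Subgroup.centralizer ({y} : Set G) := by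
  have hc : Commute x y := hxy
  apply le_antisymm
  · intro c hc'
    have hcc : Commute (x * y) c := by
      have := Subgroup.mem_centralizer_iff.mp hc' (x * y) rfl
      exact this
    refine Subgroup.mem_inf.mpr ⟨?_, ?_⟩
    · obtain ⟨m, hm⟩ := exists_pow_eq_self_of_coprime hcop.symm
      rw [Subgroup.mem_centralizer_iff]
      intro z hz
      rw [Set.mem_singleton_iff] at hz
      rw [hz]
      have h1 : ((x * y) ^ orderOf y) ^ m = x := by
        rw [hc.mul_pow, pow_orderOf_eq_one, mul_one, hm]
      have : Commute (((x * y) ^ orderOf y) ^ m) c := (hcc.pow_left _).pow_left _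
      rw [h1] at this
      exact this.eq
    · obtain ⟨m, hm⟩ := exists_pow_eq_self_of_coprime hcop
      rw [Subgroup.mem_centralizer_iff]
      intro z hz
      rw [Set.mem_singleton_iff] at hz
      rw [hz]
      have h1 : ((x * y) ^ orderOf x) ^ m = y := by
        rw [hc.mul_pow, pow_orderOf_eq_one, one_mul, hm]
      have : Commute (((x * y) ^ orderOf x) ^ m) c := (hcc.pow_left _).pow_left _
      rw [h1] at this
      exact this.eq
  · intro c hc0
    obtain ⟨h1, h2⟩ := Subgroup.mem_inf.mp hc0
    rw [Subgroup.mem_centralizer_iff] at h1 h2 ⊢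
    intro z hz
    rw [Set.mem_singleton_iff] at hz
    rw [hz]
    have e1 : Commute x c := h1 x rfl
    have e2 : Commute y c := h2 y rfl
    exact (e1.mul_left e2).eq

/-- Let p be a prime and G a finite group. Then some Sylow p-subgroup of G is a direct factor of G (normal with a normal complement) if and only if for every element x of p-power order and every element y whose order is a power of a prime other than p, the conjugacy class of x y has as many elements as the product of the sizes of the classes of x and of y. -/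
theorem result {G : Type*} [Group G] [Finite G] (p : ℕ) [Fact p.Prime] : (∃ (P : Sylow p G) (K : Subgroup G), (P : Subgroup G).Normal ∧ K.Normal ∧ (P : Subgroup G) ⊓ K = ⊥ ∧ (P : Subgroup G) ⊔ K = ⊤) ↔ ∀ x y : G, (∃ a : ℕ, orderOf x = p ^ a) → (∃ q b : ℕ, q.Prime ∧ q ≠ p ∧ orderOf y = q ^ b) → (Subgroup.centralizer ({x * y} : Set G)).index = (Subgroup.centralizer ({x} : Set G)).index * (Subgroup.centralizer ({y} : Set G)).index := by
  have hp : p.Prime := Fact.out
  constructor
  · intro hdf x y hx hy
    have hxy : x * y = y * x := (Cfsg.Agent.S3986.result p).mp hdf x y hx hy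
    obtain ⟨P, K, hPn, hKn, hinf, hsup⟩ := hdf
    obtain ⟨a, ha⟩ := hx
    obtain ⟨q, b, hq, hqp, hb⟩ := hy
    have hcop : Nat.Coprime (orderOf x) (orderOf y) := by
      rw [ha, hb]
      exact Nat.Coprime.pow a b ((Nat.coprime_primes hp hq).mpr hqp.symm)
    rw [centralizer_mul_of_coprime x y hxy hcop]
    have hdis : Disjoint (P : Subgroup G) K := disjoint_iff.mpr hinf
    have hcompl : Subgroup.IsComplement' (P : Subgroup G) K := by
      apply Subgroup.isComplement'_of_disjoint_and_mul_eq_univ hdis
      rw [← Subgroup.mul_normal, hsup]; rfl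
    have hidxK : K.index = Nat.card (P : Subgroup G) := hcompl.index_eq_card
    obtain ⟨n, hn⟩ := (IsPGroup.iff_card.mp P.isPGroup')
    have hxP : x ∈ (P : Subgroup G) := by
      apply mem_sylow_of_normalizer P _ ha
      rw [Subgroup.normalizer_eq_top]; exact Subgroup.mem_top x
    have hyK : y ∈ K := by
      have h1 : y ^ (p ^ n) ∈ K := by
        rw [← hn, ← hidxK]; exact K.pow_index_mem y
      have h2 : y ^ (q ^ b) ∈ K := by
        rw [← hb, pow_orderOf_eq_one]; exact K.one_mem
      have hcop : Nat.Coprime (p ^ n) (q ^ b) :=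
        Nat.Coprime.pow n b ((Nat.coprime_primes hp hq).mpr hqp.symm)
      exact mem_of_pow_mem_of_coprime hcop h1 h2
    -- `K ≤ C(x)` and `P ≤ C(y)`
    have hK : K ≤ Subgroup.centralizer ({x} : Set G) := by
      intro k hk
      rw [Subgroup.mem_centralizer_iff]
      intro z hz
      rw [Set.mem_singleton_iff] at hz
      rw [hz]
      exact (Subgroup.commute_of_normal_of_disjoint _ _ hPn hKn hdis x k hxP hk).eq
    have hP : (P : Subgroup G) ≤ Subgroup.centralizer ({y} : Set G) := by
      intro z hz
      rw [Subgroup.mem_centralizer_iff]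
      intro w hw
      rw [Set.mem_singleton_iff] at hw
      rw [hw]
      exact ((Subgroup.commute_of_normal_of_disjoint _ _ hPn hKn hdis z y hz hyK).eq).symm
    have hd1 : (Subgroup.centralizer ({x} : Set G)).index ∣ p ^ n := by
      rw [← hn, ← hidxK]; exact Subgroup.index_dvd_of_le hK
    have hd2 : (Subgroup.centralizer ({y} : Set G)).index ∣ (P : Subgroup G).index :=
      Subgroup.index_dvd_of_le hP
    have hcopI : Nat.Coprime (Subgroup.centralizer ({x} : Set G)).index
        (Subgroup.centralizer ({y} : Set G)).index := by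
      apply Nat.Coprime.coprime_dvd_left hd1
      apply Nat.Coprime.coprime_dvd_right hd2
      exact Nat.Coprime.pow_left n ((Nat.Prime.coprime_iff_not_dvd hp).mpr P.not_dvd_index)
    apply le_antisymm Subgroup.index_inf_le
    apply Nat.le_of_dvd
    · exact Nat.pos_of_ne_zero Subgroup.index_ne_zero_of_finite
    · exact Nat.Coprime.mul_dvd_of_dvd_of_dvd hcopI (Subgroup.index_dvd_of_le inf_le_left)
        (Subgroup.index_dvd_of_le inf_le_right)
  · intro h
    apply (Cfsg.Agent.S3986.result p).mpr
    intro x y hx hy
    exact commute_of_index_eq x y (h x y hx hy)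
end Cfsg.Agent.S3987
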