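import Cfsg.Statements.S3992
import Cfsg.Agent.Lib.Helper71_CPGroup

set_option autoImplicit false
open Cfsg

namespace Cfsg.Agent.S3992

open Cfsg.Agent.Lib.Helper71_CPGroup

/-- Let G be a finite non-solvable group in which every element has prime-power order, and let R be its largest solvable normal subgroup. Then R is a p-group for some prime p; G/R has a non-abelian simple normal subgroup contained in every nontrivial normal subgroup of G/R (its unique minimal normal subgroup); and the order of every solvable subgroup of G has at most two prime divisors. -/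
theorem result {G : Type*} [Group G] [Finite G] (hns : ¬ Group.IsSolvable G) (hpp : ∀ g : G, g ≠ 1 → IsPrimePow (orderOf g))
    (R : Subgroup G) [R.Normal] (hRs : Group.IsSolvable ↥R) (hRmax : ∀ N : Subgroup G, N.Normal → Group.IsSolvable ↥N → N ≤ R) :
    (∃ p : ℕ, p.Prime ∧ IsPGroup p ↥R) ∧
      (∃ M : Subgroup (G ⧸ R), M.Normal ∧ IsSimpleGroup ↥M ∧ ¬ IsMulCommutative ↥M ∧
        ∀ N : Subgroup (G ⧸ R), N.Normal → N ≠ ⊥ → M ≤ N) ∧
      ∀ H : Subgroup G, Group.IsSolvable ↥H → (Nat.card ↥H).primeFactors.card ≤ 2 := by
  have hcp : CP G := hpp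
  refine ⟨hcp.radical_isPGroup hns R hRs hRmax, ?_, ?_⟩
  · have hQcp : CP (G ⧸ R) :=
      hcp.of_surjective (QuotientGroup.mk' R) (QuotientGroup.mk'_surjective R)
    have hQnt : Nontrivial (G ⧸ R) := by
      by_contra h
      rw [not_nontrivial_iff_subsingleton] at h
      apply hns
      have hall : ∀ x : G, x ∈ R := fun x =>
        (QuotientGroup.eq_one_iff x).mp (Subsingleton.elim _ _)
      exact Group.isSolvable_of_isSolvable_injective
        (f := (MonoidHom.id G).codRestrict R hall)
        (fun a b hab => by simpa using congrArg Subtype.val hab)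
    have hrad : ∀ N : Subgroup (G ⧸ R), N.Normal → Group.IsSolvable N → N = ⊥ := by
      intro N hN hNs
      have hKs : Group.IsSolvable (N.comap (QuotientGroup.mk' R)) := by
        have hRK : R ≤ N.comap (QuotientGroup.mk' R) := by
          intro x hx
          rw [Subgroup.mem_comap]
          have : QuotientGroup.mk' R x = 1 := (QuotientGroup.eq_one_iff x).mpr hx
          rw [this]
          exact N.one_mem
        refine Group.isSolvable_of_ker_le_range (Subgroup.inclusion hRK)
          ((QuotientGroup.mk' R).subgroupComap N) ?_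
        rintro ⟨x, hx⟩ hker
        rw [MonoidHom.mem_ker] at hker
        have h1 : QuotientGroup.mk' R x = 1 := congrArg Subtype.val hker
        have h2 : x ∈ R := (QuotientGroup.eq_one_iff x).mp h1
        exact ⟨⟨x, h2⟩, rfl⟩
      have hK : N.comap (QuotientGroup.mk' R) ≤ R :=
        hRmax _ (Subgroup.Normal.comap hN _) hKs
      rw [eq_bot_iff]
      intro n hn
      obtain ⟨x, rfl⟩ := QuotientGroup.mk'_surjective R n
      rw [Subgroup.mem_bot]
      exact (QuotientGroup.eq_one_iff x).mpr (hK hn)
    exact hQcp.exists_minimal hrad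
  · intro H hH
    exact (hcp.subgroup H).card_primeFactors_le_two hH

end Cfsg.Agent.S3992
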