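import Cfsg.Statements.S3994
import Cfsg.Agent.Lib.Helper71_FrobSolutions

set_option autoImplicit false
open Cfsg

namespace Cfsg.Agent.S3994

open Cfsg.Agent.Lib.Helper71_FrobSolutions Finset

/-- the largest divisor of `N` prime to `n` really is prime to `n`. -/
lemma coprime_div_gcd_pow (N n : ℕ) (hN : N ≠ 0) (hn : 0 < n) :
    Nat.Coprime (N / Nat.gcd N (n ^ N)) n := by
  apply Nat.coprime_of_dvd
  intro q hq hqd hqn
  have hg : Nat.gcd N (n ^ N) ∣ N := Nat.gcd_dvd_left _ _
  have hnN : n ^ N ≠ 0 := pow_ne_zero _ hn.ne'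
  have hgne : Nat.gcd N (n ^ N) ≠ 0 := fun h => hN (Nat.eq_zero_of_gcd_eq_zero_left h)
  have hdne : N / Nat.gcd N (n ^ N) ≠ 0 := by
    intro h
    have := Nat.div_mul_cancel hg
    rw [h, zero_mul] at this
    exact hN this.symm
  have h1 : (N / Nat.gcd N (n ^ N)).factorization q =
      N.factorization q - (Nat.gcd N (n ^ N)).factorization q := by
    rw [Nat.factorization_div hg]; rfl
  have h2 : (Nat.gcd N (n ^ N)).factorization q = N.factorization q := by
    rw [Nat.factorization_gcd hN hnN, Nat.factorization_pow]
    simp only [Finsupp.inf_apply, Finsupp.smul_apply, smul_eq_mul]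
    apply min_eq_left
    have h3 : 1 ≤ n.factorization q := hq.factorization_pos_of_dvd hn.ne' hqn
    have h4 := Nat.factorization_lt q hN
    nlinarith
  have h5 : 0 < (N / Nat.gcd N (n ^ N)).factorization q :=
    hq.factorization_pos_of_dvd hdne hqd
  omega

/-- Let G be a finite group and n a positive integer. The number of elements of G whose order is divisible by n is either 0 or divisible by the largest divisor of the order of G that is coprime to n. -/
theorem result {G : Type*} [Group G] [Finite G] (n : ℕ) (hn : 0 < n) :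
    Nat.card {g : G // n ∣ orderOf g} = 0 ∨
      (Nat.card G / Nat.gcd (Nat.card G) (n ^ Nat.card G)) ∣ Nat.card {g : G // n ∣ orderOf g} := by
  classical
  right
  have := Fintype.ofFinite G
  have hN : Nat.card G ≠ 0 := Nat.card_pos.ne'
  set d := Nat.card G / Nat.gcd (Nat.card G) (n ^ Nat.card G) with hd
  have hdN : d ∣ Nat.card G := Nat.div_dvd_of_dvd (Nat.gcd_dvd_left _ _)
  have hcop : Nat.Coprime d n := coprime_div_gcd_pow _ n hN hn
  -- `n ∣ orderOf x ↔ n ∣ orderOf (x ^ d)`
  have key : ∀ x : G, n ∣ orderOf (x ^ d) ↔ n ∣ orderOf x := by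
    intro x
    constructor
    · intro h
      exact dvd_trans h (orderOf_pow_dvd d)
    · intro h
      rw [orderOf_pow]
      have h1 : Nat.gcd (orderOf x) d ∣ orderOf x := Nat.gcd_dvd_left _ _
      have h2 : Nat.Coprime n (Nat.gcd (orderOf x) d) :=
        Nat.Coprime.coprime_dvd_right (Nat.gcd_dvd_right _ _) hcop.symm
      obtain ⟨t, ht⟩ := h1
      have h3 : orderOf x / Nat.gcd (orderOf x) d = t := by
        have hpos : 0 < Nat.gcd (orderOf x) d := Nat.gcd_pos_of_pos_left _ (orderOf_pos x)
        exact Nat.div_eq_of_eq_mul_right hpos ht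
      rw [h3]
      rw [ht] at h
      exact h2.dvd_of_dvd_mul_left h
  -- count
  have hcount : Nat.card {g : G // n ∣ orderOf g} =
      ∑ y ∈ univ.filter (fun y : G => n ∣ orderOf y), nsol d y := by
    rw [Nat.card_eq_fintype_card, Fintype.card_subtype]
    rw [Finset.card_eq_sum_card_fiberwise (f := fun x : G => x ^ d)
      (t := univ.filter (fun y : G => n ∣ orderOf y))]
    · refine Finset.sum_congr rfl ?_
      intro y hy
      rw [nsol_eq_card]
      congr 1
      ext x
      simp only [mem_filter, mem_univ, true_and, and_iff_right_iff_imp]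
      intro hx
      rw [← key, hx]
      exact (mem_filter.mp hy).2
    · intro x hx
      simp only [coe_filter, mem_univ, true_and, Set.mem_ofPred_eq] at hx ⊢
      exact (key x).mpr hx
  rw [hcount]
  apply dvd_sum_of_dvd_class
  · intro y hy g
    simp only [mem_filter, mem_univ, true_and] at hy ⊢
    have : orderOf (g * y * g⁻¹) = orderOf y := by
      have := orderOf_injective (MulAut.conj g).toMonoidHom (MulAut.conj g).injective y
      simpa using this
    rwa [this]
  · intro y g; exact nsol_conj d y g
  · intro y _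
    refine dvd_trans ?_ (gcd_dvd_csize_mul_nsol' y d)
    exact Nat.dvd_gcd (Dvd.intro _ rfl) hdN

end Cfsg.Agent.S3994
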