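import Cfsg.Statements.S3995
import Cfsg.Agent.Lib.Helper71_FrobSolutions
import Cfsg.Agent.Lib.Helper50_UniqueInv2

set_option autoImplicit false
open Cfsg

namespace Cfsg.Agent.S3995

/-! ### sums over divisors -/

theorem sum_divisors_mul_prime (f : ℕ → ℕ) {m q : ℕ} (hq : q.Prime) (hm : ¬ q ∣ m) :
    ∑ d ∈ (m * q).divisors, f d = ∑ d ∈ m.divisors, f d + ∑ d ∈ m.divisors, f (d * q) := by
  classical
  have h1 : (m * q).divisors = m.divisors ∪ m.divisors.image (· * q) := by
    rw [Nat.divisors_mul, hq.divisors]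
    ext d
    simp only [Finset.mem_mul, Finset.mem_insert, Finset.mem_singleton, Finset.mem_union,
      Finset.mem_image]
    constructor
    · rintro ⟨a, ha, b, (rfl | rfl), rfl⟩
      · left; simpa using ha
      · right; exact ⟨a, ha, rfl⟩
    · rintro (h | ⟨a, ha, rfl⟩)
      · exact ⟨d, h, 1, Or.inl rfl, by simp⟩
      · exact ⟨a, ha, q, Or.inr rfl, rfl⟩
  have hdisj : Disjoint m.divisors (m.divisors.image (· * q)) := by
    rw [Finset.disjoint_left]
    intro d hd hd'
    obtain ⟨a, _, rfl⟩ := Finset.mem_image.mp hd'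
    exact hm (dvd_trans (dvd_mul_left q a) (Nat.dvd_of_mem_divisors hd))
  rw [h1, Finset.sum_union hdisj, Finset.sum_image]
  intro a _ b _ hab
  exact Nat.eq_of_mul_eq_mul_right hq.pos hab

theorem sum_divisors_prime (f : ℕ → ℕ) {p : ℕ} (hp : p.Prime) :
    ∑ d ∈ p.divisors, f d = f 1 + f p := by
  have := Nat.sum_divisors_prime_pow (f := f) (k := 1) hp
  rw [pow_one] at this
  rw [this, Finset.sum_range_succ, Finset.sum_range_succ, Finset.sum_range_zero, pow_zero, pow_one,
    zero_add]

theorem sum_divisors_prime_sq (f : ℕ → ℕ) {p : ℕ} (hp : p.Prime) :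
    ∑ d ∈ (p ^ 2).divisors, f d = f 1 + f p + f (p ^ 2) := by
  rw [Nat.sum_divisors_prime_pow hp, Finset.sum_range_succ, Finset.sum_range_succ,
    Finset.sum_range_succ, Finset.sum_range_zero, pow_zero, pow_one, zero_add]

theorem sum_divisors_four (f : ℕ → ℕ) : ∑ d ∈ (4 : ℕ).divisors, f d = f 1 + f 2 + f 4 := by
  have := sum_divisors_prime_sq f Nat.prime_two
  norm_num at this
  exact this

theorem sum_divisors_eight (f : ℕ → ℕ) :
    ∑ d ∈ (8 : ℕ).divisors, f d = f 1 + f 2 + f 4 + f 8 := by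
  have := Nat.sum_divisors_prime_pow (f := f) (k := 3) Nat.prime_two
  rw [Finset.sum_range_succ, Finset.sum_range_succ,
    Finset.sum_range_succ, Finset.sum_range_succ, Finset.sum_range_zero, pow_zero, pow_one,
    zero_add] at this
  norm_num at this
  exact this

theorem sum_divisors_pq (f : ℕ → ℕ) {p q : ℕ} (hp : p.Prime) (hq : q.Prime) (hpq : p ≠ q) :
    ∑ d ∈ (p * q).divisors, f d = f 1 + f p + f q + f (p * q) := by
  have hnd : ¬ q ∣ p := by
    intro h
    exact hpq ((Nat.prime_dvd_prime_iff_eq hq hp).mp h).symm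
  rw [sum_divisors_mul_prime f hq hnd, sum_divisors_prime f hp, sum_divisors_prime _ hp, one_mul]
  ring

theorem sum_divisors_four_mul (f : ℕ → ℕ) {p : ℕ} (hp : p.Prime) (hp2 : p ≠ 2) :
    ∑ d ∈ (4 * p).divisors, f d = f 1 + f 2 + f 4 + f p + f (2 * p) + f (4 * p) := by
  have hnd : ¬ p ∣ 4 := by
    intro h
    have h4 : (4 : ℕ) = 2 ^ 2 := by norm_num
    rw [h4] at h
    exact hp2 ((Nat.prime_dvd_prime_iff_eq hp Nat.prime_two).mp (hp.dvd_of_dvd_pow h))
  rw [sum_divisors_mul_prime f hp hnd, sum_divisors_four f, sum_divisors_four, one_mul]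
  ring

/-! ### counting elements of a given order -/

section Count

variable (G : Type*) [Group G] [Fintype G]

/-- the number of elements of order `m` -/
noncomputable def s (m : ℕ) : ℕ := (Finset.univ.filter fun x : G => orderOf x = m).card

variable {G}

theorem s_one : s G 1 = 1 := by
  unfold s
  rw [Finset.card_eq_one]
  refine ⟨1, ?_⟩
  ext x
  simp [orderOf_eq_one_iff]

theorem s_ne_zero_iff {m : ℕ} : s G m ≠ 0 ↔ ∃ g : G, orderOf g = m := by
  unfold s
  rw [Finset.card_ne_zero, Finset.filter_nonempty_iff]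
  simp

theorem s_orderOf_ne_zero (g : G) : s G (orderOf g) ≠ 0 := s_ne_zero_iff.mpr ⟨g, rfl⟩

theorem two_le_s {m : ℕ} (hm : 3 ≤ m) (h : s G m ≠ 0) : 2 ≤ s G m := by
  classical
  obtain ⟨g, hg⟩ := s_ne_zero_iff.mp h
  have hne : g ≠ g⁻¹ := by
    intro h'
    have h2 : g ^ 2 = 1 := by
      rw [pow_two]
      nth_rewrite 2 [h']
      exact mul_inv_cancel g
    have := orderOf_le_of_pow_eq_one (by norm_num) h2
    omega
  unfold s
  have hsub : ({g, g⁻¹} : Finset G) ⊆ Finset.univ.filter fun x : G => orderOf x = m := by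
    intro x hx
    simp only [Finset.mem_insert, Finset.mem_singleton] at hx
    simp only [Finset.mem_filter, Finset.mem_univ, true_and]
    rcases hx with rfl | rfl
    · exact hg
    · rw [orderOf_inv]; exact hg
  calc 2 = ({g, g⁻¹} : Finset G).card := (Finset.card_pair hne).symm
    _ ≤ _ := Finset.card_le_card hsub

/-- **Frobenius** -/
theorem frob {d : ℕ} (hd : d ∣ Fintype.card G) : d ∣ ∑ m ∈ d.divisors, s G m := by
  classical
  have hd0 : d ≠ 0 := by
    rintro rfl
    rw [zero_dvd_iff] at hd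
    exact Fintype.card_ne_zero hd
  have h1 := Cfsg.Agent.Lib.Helper71_FrobSolutions.dvd_card_pow_eq_one (G := G) d
    (by rwa [Nat.card_eq_fintype_card])
  rw [Nat.card_eq_fintype_card, Fintype.card_subtype] at h1
  have h2 := sum_card_orderOf_eq_card_pow_eq_one (G := G) hd0
  unfold s
  rw [h2]
  exact h1

theorem cauchy {p : ℕ} (hp : p.Prime) (hpG : p ∣ Fintype.card G) : s G p ≠ 0 := by
  have : Fact p.Prime := ⟨hp⟩
  obtain ⟨g, hg⟩ := exists_prime_orderOf_dvd_card p hpG
  exact s_ne_zero_iff.mpr ⟨g, hg⟩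

theorem dvd_card_of_s_ne_zero {m : ℕ} (h : s G m ≠ 0) : m ∣ Fintype.card G := by
  obtain ⟨g, rfl⟩ := s_ne_zero_iff.mp h
  exact orderOf_dvd_card

end Count

/-! ### the arithmetic of the hypothesis -/

section Main

/-- the hypothesis, in terms of `s` -/
structure Hyp (G : Type*) [Group G] [Fintype G] (n : ℕ) : Prop where
  val : ∀ g : G, s G (orderOf g) = 1 ∨ s G (orderOf g) = n
  att : ∃ g : G, s G (orderOf g) = n
  ne : n ≠ 1

variable {G : Type*} [Group G] [Fintype G] {n : ℕ}

theorem Hyp.cases (h : Hyp G n) (m : ℕ) : s G m = 0 ∨ s G m = 1 ∨ s G m = n := by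
  by_cases h0 : s G m = 0
  · left; exact h0
  · right
    obtain ⟨g, rfl⟩ := s_ne_zero_iff.mp h0
    exact h.val g

theorem Hyp.cases3 (h : Hyp G n) {m : ℕ} (hm : 3 ≤ m) : s G m = 0 ∨ s G m = n := by
  rcases h.cases m with h0 | h1 | hn
  · left; exact h0
  · exfalso
    have := two_le_s hm (by rw [h1]; norm_num)
    omega
  · right; exact hn

theorem Hyp.odd_prime (h : Hyp G n) {p : ℕ} (hp : p.Prime) (hp2 : p ≠ 2)
    (hpG : p ∣ Fintype.card G) : s G p = n ∧ p ∣ 1 + n := by
  have hp3 : 3 ≤ p := by have := hp.two_le; omega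
  have hsp : s G p = n := by
    rcases h.cases3 hp3 with h0 | hn
    · exact absurd h0 (cauchy hp hpG)
    · exact hn
  refine ⟨hsp, ?_⟩
  have := frob (G := G) hpG
  rw [sum_divisors_prime _ hp, s_one, hsp] at this
  exact this

theorem not_dvd_one_of_three_le {p : ℕ} (hp3 : 3 ≤ p) (h : p ∣ 1) : False := by
  have := Nat.le_of_dvd one_pos h; omega

theorem not_dvd_two_of_three_le {p : ℕ} (hp3 : 3 ≤ p) (h : p ∣ 2) : False := by
  have := Nat.le_of_dvd two_pos h; omega

theorem Hyp.two_primes (h : Hyp G n) {p q : ℕ} (hp : p.Prime) (hq : q.Prime) (hpq : p ≠ q)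
    (hp2 : p ≠ 2) (hpG : p ∣ Fintype.card G) (hqG : q ∣ Fintype.card G) (hsq : s G q = n) :
    False := by
  obtain ⟨hsp, hp1⟩ := h.odd_prime hp hp2 hpG
  have hp3 : 3 ≤ p := by have := hp.two_le; omega
  have hcop : p.Coprime q := (Nat.coprime_primes hp hq).mpr hpq
  have hpqG : p * q ∣ Fintype.card G := hcop.mul_dvd_of_dvd_of_dvd hpG hqG
  have h1 := frob (G := G) hpqG
  rw [sum_divisors_pq _ hp hq hpq, s_one, hsp, hsq] at h1
  have h2 : p ∣ 1 + n + n + s G (p * q) := dvd_trans (dvd_mul_right p q) h1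
  have hpq3 : 3 ≤ p * q := by have := hq.one_lt; nlinarith
  rcases h.cases3 hpq3 with h0 | hn
  · rw [h0] at h2
    apply not_dvd_one_of_three_le hp3
    have h3 : p ∣ 2 * (1 + n) := Dvd.dvd.mul_left hp1 2
    have h4 : 2 * (1 + n) = (1 + n + n + 0) + 1 := by ring
    rw [h4] at h3
    exact (Nat.dvd_add_right h2).mp h3
  · rw [hn] at h2
    apply not_dvd_two_of_three_le hp3
    have h3 : p ∣ 3 * (1 + n) := Dvd.dvd.mul_left hp1 3
    have h4 : 3 * (1 + n) = (1 + n + n + n) + 2 := by ring
    rw [h4] at h3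
    exact (Nat.dvd_add_right h2).mp h3

theorem Hyp.no_sq (h : Hyp G n) {p : ℕ} (hp : p.Prime) (hp2 : p ≠ 2) : s G (p ^ 2) = 0 := by
  by_contra hne
  have hdvd := dvd_card_of_s_ne_zero hne
  have hpG : p ∣ Fintype.card G := dvd_trans (dvd_pow_self p two_ne_zero) hdvd
  obtain ⟨hsp, hp1⟩ := h.odd_prime hp hp2 hpG
  have hp3 : 3 ≤ p := by have := hp.two_le; omega
  have hpp3 : 3 ≤ p ^ 2 := by nlinarith
  have hs : s G (p ^ 2) = n := by
    rcases h.cases3 hpp3 with h0 | hn
    · exact absurd h0 hne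
    · exact hn
  have h1 := frob (G := G) hdvd
  rw [sum_divisors_prime_sq _ hp, s_one, hsp, hs] at h1
  have h2 : p ∣ 1 + n + n := dvd_trans (dvd_pow_self p two_ne_zero) h1
  apply not_dvd_one_of_three_le hp3
  have h3 : p ∣ 2 * (1 + n) := Dvd.dvd.mul_left hp1 2
  have h4 : 2 * (1 + n) = (1 + n + n) + 1 := by ring
  rw [h4] at h3
  exact (Nat.dvd_add_right h2).mp h3

theorem Hyp.no_four (h : Hyp G n) (h2 : s G 2 = n) : s G 4 = 0 := by
  by_contra hne
  have h4G := dvd_card_of_s_ne_zero hne
  have h2G : 2 ∣ Fintype.card G := dvd_trans (by norm_num) h4G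
  have hs4 : s G 4 = n := by
    rcases h.cases3 (by norm_num : 3 ≤ 4) with h0 | hn
    · exact absurd h0 hne
    · exact hn
  have h1 := frob (G := G) h2G
  rw [sum_divisors_prime _ Nat.prime_two, s_one, h2] at h1
  have h3 := frob (G := G) h4G
  rw [sum_divisors_four, s_one, h2, hs4] at h3
  omega

theorem Hyp.four_odd (h : Hyp G n) {p : ℕ} (hp : p.Prime) (hp2 : p ≠ 2)
    (hpG : p ∣ Fintype.card G) (h4G : 4 ∣ Fintype.card G) (h2 : s G 2 = 1) : False := by
  obtain ⟨hsp, hp1⟩ := h.odd_prime hp hp2 hpG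
  have hp3 : 3 ≤ p := by have := hp.two_le; omega
  have h4 := frob (G := G) h4G
  rw [sum_divisors_four, s_one, h2] at h4
  have hs4 : s G 4 = n := by
    rcases h.cases3 (by norm_num : 3 ≤ 4) with h0 | hn
    · rw [h0] at h4; omega
    · exact hn
  have hcop2 : Nat.Coprime 2 p := (Nat.coprime_primes Nat.prime_two hp).mpr (Ne.symm hp2)
  have h2G : 2 ∣ Fintype.card G := dvd_trans (by norm_num) h4G
  have h2pG : 2 * p ∣ Fintype.card G := hcop2.mul_dvd_of_dvd_of_dvd h2G hpG
  have h5 := frob (G := G) h2pG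
  rw [sum_divisors_pq _ Nat.prime_two hp (Ne.symm hp2), s_one, h2, hsp] at h5
  have h6 : p ∣ 1 + 1 + n + s G (2 * p) := dvd_trans (dvd_mul_left p 2) h5
  have hs2p : s G (2 * p) = n := by
    rcases h.cases3 (by omega : 3 ≤ 2 * p) with h0 | hn
    · exfalso
      rw [h0] at h6
      apply not_dvd_one_of_three_le hp3
      have h4' : 1 + 1 + n + 0 = (1 + n) + 1 := by ring
      rw [h4'] at h6
      exact (Nat.dvd_add_right hp1).mp h6
    · exact hn
  have hcop4 : Nat.Coprime 4 p := by
    have : (4 : ℕ) = 2 ^ 2 := by norm_num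
    rw [this]; exact Nat.Coprime.pow_left 2 hcop2
  have h4pG : 4 * p ∣ Fintype.card G := hcop4.mul_dvd_of_dvd_of_dvd h4G hpG
  have h7 := frob (G := G) h4pG
  rw [sum_divisors_four_mul _ hp hp2, s_one, h2, hs4, hsp, hs2p] at h7
  have h8 : p ∣ 1 + 1 + n + n + n + s G (4 * p) := dvd_trans (dvd_mul_left p 4) h7
  rcases h.cases3 (by omega : 3 ≤ 4 * p) with h0 | hn
  · rw [h0] at h8
    apply not_dvd_one_of_three_le hp3
    have h3 : p ∣ 3 * (1 + n) := Dvd.dvd.mul_left hp1 3
    have h4' : 3 * (1 + n) = (1 + 1 + n + n + n + 0) + 1 := by ring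
    rw [h4'] at h3
    exact (Nat.dvd_add_right h8).mp h3
  · rw [hn] at h8
    apply not_dvd_two_of_three_le hp3
    have h3 : p ∣ 4 * (1 + n) := Dvd.dvd.mul_left hp1 4
    have h4' : 4 * (1 + n) = (1 + 1 + n + n + n + n) + 2 := by ring
    rw [h4'] at h3
    exact (Nat.dvd_add_right h8).mp h3

theorem Hyp.no_eight (h : Hyp G n) (h2 : s G 2 = 1) : s G 8 = 0 := by
  by_contra hne
  have h8G := dvd_card_of_s_ne_zero hne
  have h4G : 4 ∣ Fintype.card G := dvd_trans (by norm_num) h8G
  have h4 := frob (G := G) h4G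
  rw [sum_divisors_four, s_one, h2] at h4
  have hs4 : s G 4 = n := by
    rcases h.cases3 (by norm_num : 3 ≤ 4) with h0 | hn
    · rw [h0] at h4; omega
    · exact hn
  have hs8 : s G 8 = n := by
    rcases h.cases3 (by norm_num : 3 ≤ 8) with h0 | hn
    · exact absurd h0 hne
    · exact hn
  have h8 := frob (G := G) h8G
  rw [sum_divisors_eight, s_one, h2, hs4, hs8] at h8
  rw [hs4] at h4
  omega

end Main

/-! ### structure -/

section Structure

theorem exponent_eq_of_no_sq {X : Type*} [Group X] [Nontrivial X] {p : ℕ} (hp : p.Prime)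
    (hX : IsPGroup p X) (h : ∀ x : X, orderOf x ≠ p ^ 2) : Monoid.exponent X = p := by
  rw [Monoid.exponent_eq_prime_iff hp]
  intro g hg1
  obtain ⟨k, hk⟩ := hX g
  obtain ⟨j, _, hjo⟩ := (Nat.dvd_prime_pow hp).mp (orderOf_dvd_of_pow_eq_one hk)
  rcases j with _ | _ | j
  · exfalso; apply hg1; rwa [pow_zero, orderOf_eq_one_iff] at hjo
  · rw [hjo]; simp
  · exfalso
    apply h (g ^ (p ^ j))
    rw [orderOf_pow_of_dvd (pow_ne_zero _ hp.ne_zero)
      (by rw [hjo]; exact pow_dvd_pow p (by omega)), hjo, Nat.pow_div (by omega) hp.pos]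
    congr 1; omega

theorem isPGroup_of_unique_prime {X : Type*} [Group X] [Finite X] {p : ℕ}
    (h : ∀ q : ℕ, q.Prime → q ∣ Nat.card X → q = p) : IsPGroup p X := by
  have := Nat.eq_prime_pow_of_unique_prime_dvd (n := Nat.card X) (p := p) Nat.card_pos.ne'
    (fun {d} hd hdvd => h d hd hdvd)
  exact IsPGroup.of_card this

theorem exists_orderOf_eq_of_isCyclic {X : Type*} [Group X] [Finite X] [IsCyclic X] (d : ℕ)
    (hd : d ∣ Nat.card X) : ∃ g : X, orderOf g = d := by
  obtain ⟨g, hg⟩ := IsCyclic.exists_ofOrder_eq_natCard (α := X)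
  refine ⟨g ^ (orderOf g / d), ?_⟩
  exact orderOf_pow_orderOf_div (orderOf_pos g).ne' (by rw [hg]; exact hd)

variable {G : Type*} [Group G] [Fintype G] {n : ℕ}

theorem three_le_card_of_s_two (h2 : 2 ≤ s G 2) : 3 ≤ Fintype.card G := by
  classical
  have hdisj : Disjoint (Finset.univ.filter fun x : G => orderOf x = 1)
      (Finset.univ.filter fun x : G => orderOf x = 2) := by
    rw [Finset.disjoint_left]
    intro x hx hx'
    simp only [Finset.mem_filter, Finset.mem_univ, true_and] at hx hx'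
    omega
  have h1 := Finset.card_le_univ ((Finset.univ.filter fun x : G => orderOf x = 1) ∪
      (Finset.univ.filter fun x : G => orderOf x = 2))
  rw [Finset.card_union_of_disjoint hdisj] at h1
  have h3 : s G 1 = 1 := s_one
  unfold s at h2 h3
  omega

/-- the case of a unique involution and `4 ∤ |G|` -/
theorem case_two_odd (h : Hyp G n) (h2G : 2 ∣ Fintype.card G) (h4G : ¬ 4 ∣ Fintype.card G)
    (h1 : s G 2 = 1) :
    ∃ (p : ℕ) (P : Type) (_ : Group P) (_ : Finite P), p.Prime ∧ p ≠ 2 ∧ IsPGroup p P ∧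
      Monoid.exponent P = p ∧ Nonempty (G ≃* Multiplicative (ZMod 2) × P) := by
  classical
  have hcard : Nat.card G = Fintype.card G := Nat.card_eq_fintype_card
  obtain ⟨M, hM⟩ := h2G
  have hModd : ¬ 2 ∣ M := by
    rintro ⟨c, rfl⟩
    exact h4G ⟨c, by rw [hM]; ring⟩
  -- `M ≠ 1`
  obtain ⟨g₀, hg₀⟩ := h.att
  have hM1 : M ≠ 1 := by
    rintro rfl
    have hd : orderOf g₀ ∣ 2 := by
      have := orderOf_dvd_card (x := g₀)
      rwa [hM, mul_one] at this
    rcases (Nat.dvd_prime Nat.prime_two).mp hd with h' | h'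
    · rw [h', s_one] at hg₀
      exact h.ne hg₀.symm
    · rw [h', h1] at hg₀
      exact h.ne hg₀.symm
  set p := M.minFac with hpdef
  have hp : p.Prime := Nat.minFac_prime hM1
  have hpM : p ∣ M := Nat.minFac_dvd M
  have hp2 : p ≠ 2 := by
    intro h'
    rw [h'] at hpM
    exact hModd hpM
  have hpG : p ∣ Fintype.card G := by rw [hM]; exact dvd_mul_of_dvd_right hpM 2
  -- the involution
  obtain ⟨z, hz⟩ := s_ne_zero_iff.mp (by rw [h1]; norm_num : s G 2 ≠ 0)
  have huniq : ∀ u : G, orderOf u = 2 → u = z := by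
    intro u hu
    have h1' := h1
    unfold s at h1'
    obtain ⟨a, ha⟩ := Finset.card_eq_one.mp h1'
    have hu' : u ∈ Finset.univ.filter fun x : G => orderOf x = 2 := by simp [hu]
    have hz' : z ∈ Finset.univ.filter fun x : G => orderOf x = 2 := by simp [hz]
    rw [ha, Finset.mem_singleton] at hu' hz'
    rw [hu', hz']
  have hzc : ∀ g : G, g * z = z * g := by
    intro g
    have h3 : orderOf (g * z * g⁻¹) = 2 := by
      have := MulEquiv.orderOf_eq (MulAut.conj g) z
      rw [MulAut.conj_apply] at this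
      rw [this, hz]
    have h4 := huniq _ h3
    calc g * z = (g * z * g⁻¹) * g := by group
      _ = z * g := by rw [h4]
  have hZn : (Subgroup.zpowers z).Normal := by
    constructor
    intro x hx g
    obtain ⟨k, rfl⟩ := Subgroup.mem_zpowers_iff.mp hx
    have hc : Commute g z := hzc g
    have : g * z ^ k * g⁻¹ = z ^ k := by
      rw [(hc.zpow_right k).eq]; group
    rw [this]
    exact Subgroup.zpow_mem _ (Subgroup.mem_zpowers z) k
  have hZcard : Nat.card (Subgroup.zpowers z) = 2 := by rw [Nat.card_zpowers, hz]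
  have hZidx : (Subgroup.zpowers z).index = M := by
    have := (Subgroup.zpowers z).card_mul_index
    rw [hZcard, hcard, hM] at this
    omega
  have hcop : Nat.Coprime (Nat.card (Subgroup.zpowers z)) (Subgroup.zpowers z).index := by
    rw [hZcard, hZidx]
    exact (Nat.Prime.coprime_iff_not_dvd Nat.prime_two).mpr hModd
  obtain ⟨K, hK⟩ := Subgroup.exists_right_complement'_of_coprime hcop
  have hKcard : Nat.card K = M := by
    have := hK.card_mul_card
    rw [hZcard, hcard, hM] at this
    omega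
  have hPK : IsPGroup p K := by
    apply isPGroup_of_unique_prime
    intro q hq hqK
    rw [hKcard] at hqK
    by_contra hqp
    have hq2 : q ≠ 2 := by
      intro h'
      rw [h'] at hqK
      exact hModd hqK
    have hqG : q ∣ Fintype.card G := by rw [hM]; exact dvd_mul_of_dvd_right hqK 2
    exact h.two_primes hp hq (Ne.symm hqp) hp2 hpG hqG (h.odd_prime hq hq2 hqG).1
  have hKnt : Nontrivial K := by
    rw [← Finite.one_lt_card_iff_nontrivial, hKcard]
    have := hp.two_le
    have hM0 : 0 < M := by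
      rcases Nat.eq_zero_or_pos M with h' | h'
      · exfalso
        rw [h', mul_zero] at hM
        exact Fintype.card_ne_zero hM
      · exact h'
    have := Nat.le_of_dvd hM0 hpM
    omega
  -- the isomorphism
  let φ : ↥(Subgroup.zpowers z) × ↥K →* G :=
    MonoidHom.noncommCoprod (Subgroup.zpowers z).subtype K.subtype (by
      intro a b
      obtain ⟨k, hk⟩ := Subgroup.mem_zpowers_iff.mp a.2
      show Commute (a : G) (b : G)
      rw [← hk]
      have hc : Commute z (b : G) := (hzc b).symm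
      exact hc.zpow_left k)
  have hφ : Function.Bijective φ := hK
  let eZK : ↥(Subgroup.zpowers z) × ↥K ≃* G := MulEquiv.ofBijective φ hφ
  let eZ : Multiplicative (ZMod 2) ≃* ↥(Subgroup.zpowers z) :=
    (AddEquiv.toMultiplicative (ZMod.ringEquivCongr hZcard.symm).toAddEquiv).trans
      (zmodCyclicMulEquiv (inferInstance : IsCyclic ↥(Subgroup.zpowers z)))
  let eK : Shrink.{0} ↥K ≃* ↥K := Shrink.mulEquiv
  have hPS : IsPGroup p (Shrink.{0} ↥K) := hPK.of_equiv eK.symm
  have hSnt : Nontrivial (Shrink.{0} ↥K) := eK.toEquiv.nontrivial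
  refine ⟨p, Shrink.{0} ↥K, inferInstance, Finite.of_equiv _ eK.symm.toEquiv, hp, hp2, hPS, ?_, ?_⟩
  · apply exponent_eq_of_no_sq hp hPS
    intro x hx
    have h5 : orderOf (((eK x : ↥K) : G)) = p ^ 2 := by
      rw [Subgroup.orderOf_coe, MulEquiv.orderOf_eq]; exact hx
    exact (s_ne_zero_iff.mpr ⟨_, h5⟩) (h.no_sq hp hp2)
  · exact ⟨eZK.symm.trans (MulEquiv.prodCongr eZ.symm eK.symm)⟩

end Structure

section Final

variable {G : Type*} [Group G] [Fintype G] {n : ℕ}

theorem eq_of_orderOf_two (h1 : s G 2 = 1) (u v : G) (hu : orderOf u = 2) (hv : orderOf v = 2) :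
    u = v := by
  unfold s at h1
  obtain ⟨a, ha⟩ := Finset.card_eq_one.mp h1
  have hu' : u ∈ Finset.univ.filter fun x : G => orderOf x = 2 := by simp [hu]
  have hv' : v ∈ Finset.univ.filter fun x : G => orderOf x = 2 := by simp [hv]
  rw [ha, Finset.mem_singleton] at hu' hv'
  rw [hu', hv']

theorem main (h : Hyp G n) :
    (∃ p : ℕ, p.Prime ∧ IsPGroup p G ∧ 3 ≤ Nat.card G ∧ Monoid.exponent G = p) ∨
      Nonempty (G ≃* QuaternionGroup 2) ∨ (IsCyclic G ∧ Nat.card G = 4) ∨
      (∃ (p : ℕ) (P : Type) (_ : Group P) (_ : Finite P), p.Prime ∧ p ≠ 2 ∧ IsPGroup p P ∧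
        Monoid.exponent P = p ∧ Nonempty (G ≃* Multiplicative (ZMod 2) × P)) := by
  classical
  have hcard : Nat.card G = Fintype.card G := Nat.card_eq_fintype_card
  obtain ⟨g₀, hg₀⟩ := h.att
  have hg₀1 : g₀ ≠ 1 := by
    rintro rfl
    rw [orderOf_one, s_one] at hg₀
    exact h.ne hg₀.symm
  have hnt : Nontrivial G := ⟨⟨g₀, 1, hg₀1⟩⟩
  have hc1 : Fintype.card G ≠ 1 := by
    intro h'
    have := Fintype.one_lt_card (α := G)
    omega
  by_cases h2G : 2 ∣ Fintype.card G
  · have hs2 : s G 2 ≠ 0 := cauchy Nat.prime_two h2G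
    rcases h.cases 2 with h0 | h1 | hn
    · exact absurd h0 hs2
    · -- a unique involution
      by_cases h4G : 4 ∣ Fintype.card G
      · have hP : IsPGroup 2 G := by
          apply isPGroup_of_unique_prime
          intro q hq hqG
          by_contra hq2
          rw [hcard] at hqG
          exact h.four_odd hq hq2 hqG h4G h1
        have huniq : Cfsg.Agent.Lib.Helper50_UniqueInv.UniqueInvolution G := by
          intro u v hu hv hu1 hv1
          exact eq_of_orderOf_two h1 u v (orderOf_eq_prime hu hu1) (orderOf_eq_prime hv hv1)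
        rcases Cfsg.Agent.Lib.Helper50_UniqueInv2.isCyclic_or_quaternion hP huniq with
          hcyc | ⟨k, hk1, ⟨e⟩⟩
        · right; right; left
          refine ⟨hcyc, ?_⟩
          by_contra hne4
          obtain ⟨j, hj⟩ := IsPGroup.iff_card.mp hP
          rw [hcard] at hj hne4
          have hj3 : 3 ≤ j := by
            by_contra hj'
            have hj2 : j ≤ 2 := by omega
            interval_cases j
            · rw [hj] at h4G; norm_num at h4G
            · rw [hj] at h4G; norm_num at h4G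
            · exact hne4 (by rw [hj]; norm_num)
          have h8G : 8 ∣ Nat.card G := by
            rw [hcard, hj]
            have : (8 : ℕ) = 2 ^ 3 := by norm_num
            rw [this]
            exact pow_dvd_pow 2 hj3
          obtain ⟨x, hx⟩ := exists_orderOf_eq_of_isCyclic (X := G) 8 h8G
          exact (s_ne_zero_iff.mpr ⟨x, hx⟩) (h.no_eight h1)
        · right; left
          have hk : k = 1 := by
            by_contra hk'
            have hk2 : 2 ≤ k := by omega
            have ho : orderOf (QuaternionGroup.a 1 : QuaternionGroup (2 ^ k)) = 2 * 2 ^ k :=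
              QuaternionGroup.orderOf_a_one
            have h8 : 8 ∣ orderOf (QuaternionGroup.a 1 : QuaternionGroup (2 ^ k)) := by
              rw [ho]
              obtain ⟨c, rfl⟩ : ∃ c, k = c + 2 := ⟨k - 2, by omega⟩
              exact ⟨2 ^ c, by ring⟩
            have hx := orderOf_pow_orderOf_div
              (x := (QuaternionGroup.a 1 : QuaternionGroup (2 ^ k))) (by rw [ho]; positivity) h8
            have h9 : orderOf (e.symm ((QuaternionGroup.a 1 : QuaternionGroup (2 ^ k)) ^
                (orderOf (QuaternionGroup.a 1 : QuaternionGroup (2 ^ k)) / 8))) = 8 := by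
              rw [MulEquiv.orderOf_eq]; exact hx
            exact (s_ne_zero_iff.mpr ⟨_, h9⟩) (h.no_eight h1)
          subst hk
          exact ⟨e⟩
      · right; right; right
        exact case_two_odd h h2G h4G h1
    · -- `s 2 = n`
      have hP : IsPGroup 2 G := by
        apply isPGroup_of_unique_prime
        intro q hq hqG
        by_contra hq2
        rw [hcard] at hqG
        exact h.two_primes hq Nat.prime_two hq2 hq2 hqG h2G hn
      left
      refine ⟨2, Nat.prime_two, hP, ?_, ?_⟩
      · rw [hcard]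
        apply three_le_card_of_s_two
        rw [hn]
        have : n ≠ 0 := by rw [← hn]; exact hs2
        have := h.ne
        omega
      · apply exponent_eq_of_no_sq Nat.prime_two hP
        intro x hx
        have h4 : (2 : ℕ) ^ 2 = 4 := by norm_num
        rw [h4] at hx
        exact (s_ne_zero_iff.mpr ⟨x, hx⟩) (h.no_four hn)
  · -- odd order
    set p := (Fintype.card G).minFac with hpdef
    have hp : p.Prime := Nat.minFac_prime hc1
    have hpG : p ∣ Fintype.card G := Nat.minFac_dvd _
    have hp2 : p ≠ 2 := by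
      intro h'
      rw [h'] at hpG
      exact h2G hpG
    have hP : IsPGroup p G := by
      apply isPGroup_of_unique_prime
      intro q hq hqG
      by_contra hqp
      rw [hcard] at hqG
      have hq2 : q ≠ 2 := by
        intro h'
        rw [h'] at hqG
        exact h2G hqG
      exact h.two_primes hp hq (Ne.symm hqp) hp2 hpG hqG (h.odd_prime hq hq2 hqG).1
    left
    refine ⟨p, hp, hP, ?_, ?_⟩
    · rw [hcard]
      have := Nat.le_of_dvd Fintype.card_pos hpG
      have := hp.two_le
      omega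
    · apply exponent_eq_of_no_sq hp hP
      intro x hx
      exact (s_ne_zero_iff.mpr ⟨x, hx⟩) (h.no_sq hp hp2)

end Final

/-- Let G be a finite group such that the numbers of elements of each order that occurs in G (the numbers #{g : o(g) = m}, m ranging over the element orders of G) take exactly two values, 1 and some n ≠ 1. Then either G is a p-group of exponent p and order at least 3 for some prime p, or G is the quaternion group of order 8, or G is cyclic of order 4, or G ≅ Z₂ × P for a p-group P of exponent p with p an odd prime. -/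
theorem result {G : Type*} [Group G] [Finite G] (n : ℕ) (hn : n ≠ 1) (h : ((fun m : ℕ => Nat.card {g : G // orderOf g = m}) '' Set.range (orderOf : G → ℕ)) = {1, n}) :
    (∃ p : ℕ, p.Prime ∧ IsPGroup p G ∧ 3 ≤ Nat.card G ∧ Monoid.exponent G = p) ∨
      Nonempty (G ≃* QuaternionGroup 2) ∨ (IsCyclic G ∧ Nat.card G = 4) ∨
      (∃ (p : ℕ) (P : Type) (_ : Group P) (_ : Finite P), p.Prime ∧ p ≠ 2 ∧ IsPGroup p P ∧ Monoid.exponent P = p ∧
        Nonempty (G ≃* Multiplicative (ZMod 2) × P)) := by
  classical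
  have := Fintype.ofFinite G
  have hs : ∀ m : ℕ, Nat.card {g : G // orderOf g = m} = s G m := by
    intro m
    rw [Nat.card_eq_fintype_card, Fintype.card_subtype]
    rfl
  apply main (n := n)
  refine ⟨?_, ?_, hn⟩
  · intro g
    have hmem : s G (orderOf g) ∈ ((fun m : ℕ => Nat.card {g : G // orderOf g = m}) ''
        Set.range (orderOf : G → ℕ)) := ⟨orderOf g, ⟨g, rfl⟩, hs _⟩
    rw [h] at hmem
    exact hmem
  · have hmem : n ∈ ((fun m : ℕ => Nat.card {g : G // orderOf g = m}) ''
        Set.range (orderOf : G → ℕ)) := by rw [h]; simp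
    obtain ⟨m, ⟨g, rfl⟩, hm⟩ := hmem
    exact ⟨g, by rw [← hs]; exact hm⟩

end Cfsg.Agent.S3995
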