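import Cfsg.Statements.S3999
import Cfsg.Agent.Lib.Helper66_FrobOrder

set_option autoImplicit false
open Cfsg

namespace Cfsg.Agent.S3999

/-- Let F be a finite Frobenius group (it has a Frobenius complement) and G a finite group with the same order type as F (for every m the same number of elements of order m). Then G is a Frobenius group; moreover G is solvable if and only if F is. -/
theorem result {F G : Type*} [Group F] [Finite F] [Group G] [Finite G] (hF : (∃ C : Subgroup F, Cfsg.IsFrobeniusComplement C)) (hT : (∀ m : ℕ, Nat.card {g : F // orderOf g = m} = Nat.card {h : G // orderOf h = m})) :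
    (∃ C : Subgroup G, Cfsg.IsFrobeniusComplement C) ∧ (Group.IsSolvable G ↔ Group.IsSolvable F) := by
  obtain ⟨C, hC⟩ := hF
  obtain ⟨K, hK⟩ := Cfsg.Agent.Lib.Helper66_FrobOrder.exists_frobData C hC
  obtain ⟨e, he⟩ := Cfsg.Agent.Lib.Helper66_OrderType.exists_order_equiv hT
  obtain ⟨D, hD, hDcard⟩ := Cfsg.Agent.Lib.Helper66_FrobOrder.exists_frobenius_of_equiv K C hK e he
  obtain ⟨N, hN⟩ := Cfsg.Agent.Lib.Helper66_FrobOrder.exists_frobData D hD
  have hn : Nat.card K = Nat.card N := by
    have h1 := hK.compl.card_mul_card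
    have h2 := hN.compl.card_mul_card
    have h3 : Nat.card F = Nat.card G := Nat.card_congr e
    rw [hDcard] at h2
    exact Nat.eq_of_mul_eq_mul_right (Nat.card_pos (α := C)) (by rw [h1, h2, h3])
  have he' : ∀ g : G, orderOf (e.symm g) = orderOf g := by
    intro g
    have := he (e.symm g)
    rw [Equiv.apply_symm_apply] at this
    exact this.symm
  refine ⟨⟨D, hD⟩, ?_⟩
  rw [hN.isSolvable_iff, hK.isSolvable_iff]
  constructor
  · intro h
    exact Cfsg.Agent.Lib.Helper66_FrobOrder.isSolvable_complement_of_equiv hK hN hn e he h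
  · intro h
    exact Cfsg.Agent.Lib.Helper66_FrobOrder.isSolvable_complement_of_equiv hN hK hn.symm e.symm he' h

end Cfsg.Agent.S3999
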