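import Cfsg.Statements.S4001
import Cfsg.Agent.S0042
import Cfsg.Agent.S1476
import Cfsg.Agent.S3910
import Cfsg.Agent.Lib.Helper63_Frobenius
import Cfsg.Agent.Lib.Helper71_FrobCount
import Cfsg.Agent.Lib.Helper71_QuatFrob
import Cfsg.Agent.Lib.Helper60_ThreePrimes
import Cfsg.Agent.Lib.Helper1_FPF
import Cfsg.Agent.Lib.Helper25_CNSolv

set_option autoImplicit false
set_option linter.style.haveILetI false
open Cfsg

namespace Cfsg.Agent.S4001


open scoped Pointwise

/-- Basic facts about a Frobenius complement `R` whose kernel is the subgroup `N`. -/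
theorem frob_facts {L : Type*} [Group L] [Finite L] (R N : Subgroup L)
    (hR : Cfsg.IsFrobeniusComplement R) (hN : Cfsg.frobeniusKernel R = (N : Set L)) :
    N.Normal ∧ Subgroup.IsComplement' N R ∧ Group.IsNilpotent N ∧
      (Nat.card R).Coprime (Nat.card N) ∧ N ≠ ⊥ ∧
      (∀ r ∈ R, r ≠ 1 → ∀ n ∈ N, r * n = n * r → n = 1) := by
  obtain ⟨N₁, hN₁, hn₁, hnil⟩ := Cfsg.Agent.S0042.result R hR
  obtain ⟨N₂, hN₂, hn₂, hcompl⟩ := Cfsg.Agent.Lib.Helper6_Frobenius.exists_kernel R hR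
  have e1 : N₁ = N := SetLike.coe_injective (hN₁.trans hN)
  have e2 : N₂ = N := SetLike.coe_injective (hN₂.trans hN)
  rw [e1] at hn₁ hnil
  rw [e2] at hcompl
  have hidx : R.index = Nat.card N := hcompl.index_eq_card
  have hmod := Cfsg.Agent.Lib.Helper71_FrobCount.index_mod_card R hR
  rw [hidx] at hmod
  have hcop : (Nat.card R).Coprime (Nat.card N) := by
    have h1 : Nat.gcd (Nat.card N) (Nat.card R) = Nat.gcd 1 (Nat.card R) := Nat.ModEq.gcd_eq hmod
    rw [Nat.Coprime, Nat.gcd_comm, h1, Nat.gcd_one_left]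
  have hbot : N ≠ ⊥ := by
    intro h
    have h2 := hcompl.card_mul_card
    rw [h, Subgroup.card_bot, one_mul] at h2
    exact hR.2.1 ((Subgroup.card_eq_iff_eq_top R).mp h2)
  refine ⟨hn₁, hcompl, hnil, hcop, hbot, ?_⟩
  intro r hr hr1 n hn hrn
  exact Cfsg.Agent.Lib.Helper71_QuatFrob.fpf_of_isFrobeniusComplement R hR r hr hr1 n
    (by rw [hN]; exact hn) hrn

open Cfsg.Agent.Lib.Helper25_CNFrob in
/-- In a finite nilpotent group with property (C) there is at most one involution. -/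
theorem unique_involution {E : Type*} [Group E] [Finite E] (hC : PropC E)
    (hnil : Group.IsNilpotent E) (s t : E) (hs : orderOf s = 2) (ht : orderOf t = 2) : s = t := by
  classical
  haveI : Fact (Nat.Prime 2) := ⟨Nat.prime_two⟩
  haveI := hnil
  have hps : IsPGroup 2 (Subgroup.zpowers s) :=
    IsPGroup.of_card (n := 1) (by rw [Nat.card_zpowers, hs, pow_one])
  have hpt : IsPGroup 2 (Subgroup.zpowers t) :=
    IsPGroup.of_card (n := 1) (by rw [Nat.card_zpowers, ht, pow_one])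
  obtain ⟨P, hP⟩ := hps.exists_le_sylow
  obtain ⟨Q, hQ⟩ := hpt.exists_le_sylow
  have hPn : (P : Subgroup E).Normal := inferInstance
  haveI := Sylow.unique_of_normal P hPn
  have hQP : Q = P := Subsingleton.elim _ _
  rw [hQP] at hQ
  have key := hC.uniq 2 P (Subgroup.zpowers s) (Subgroup.zpowers t) P.2 hP hQ
    (by rw [Nat.card_zpowers, hs]) (by rw [Nat.card_zpowers, ht])
  have hmem : t ∈ Subgroup.zpowers s := key ▸ Subgroup.mem_zpowers t
  rw [mem_zpowers_iff_mem_range_orderOf, hs] at hmem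
  simp only [Finset.mem_image, Finset.mem_range] at hmem
  obtain ⟨k, hk, rfl⟩ := hmem
  interval_cases k
  · exfalso
    rw [pow_zero, orderOf_one] at ht
    omega
  · rw [pow_one]

open Cfsg.Agent.Lib.Helper25_CNFrob in
/-- If the kernel `B` of a Frobenius complement `D` is an isomorphic image of a group `E` with
property (C), then `E` is cyclic of odd order and `D` is cyclic. -/
theorem compl_cyclic {X E : Type*} [Group X] [Finite X] [Group E] [Finite E] (B D : Subgroup X)
    (hD : Cfsg.IsFrobeniusComplement D) (hB : Cfsg.frobeniusKernel D = (B : Set X))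
    (hE : PropC E) (φ : E →* X) (hφ : Function.Injective φ) (hrange : φ.range = B) :
    IsCyclic E ∧ Odd (Nat.card E) ∧ IsCyclic D := by
  obtain ⟨hBn, hcompl, hnil, hcop, hBbot, hfpf⟩ := frob_facts D B hD hB
  have hmemB : ∀ e : E, φ e ∈ B := fun e => hrange ▸ ⟨e, rfl⟩
  have hEnil : Group.IsNilpotent E := by
    have h1 : Group.IsNilpotent φ.range := by rw [hrange]; exact hnil
    exact (Group.isNilpotent_congr (MonoidHom.ofInjective hφ)).mpr h1
  have hodd : Odd (Nat.card E) := by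
    by_contra hne
    rw [Nat.not_odd_iff_even] at hne
    haveI : Fact (Nat.Prime 2) := ⟨Nat.prime_two⟩
    obtain ⟨t, ht⟩ := exists_prime_orderOf_dvd_card' 2 hne.two_dvd
    obtain ⟨⟨d, hdD⟩, hd1⟩ := (Subgroup.ne_bot_iff_exists_ne_one).mp hD.1
    have hd1' : d ≠ 1 := fun h => hd1 (Subtype.ext h)
    have hmem : d * φ t * d⁻¹ ∈ φ.range := by
      rw [hrange]; exact hBn.conj_mem _ (hmemB t) d
    obtain ⟨s, hs⟩ := hmem
    have hs2 : orderOf s = 2 := by
      rw [← orderOf_injective φ hφ s, hs, orderOf_conj, orderOf_injective φ hφ t, ht]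
    have hst := unique_involution hE hEnil s t hs2 ht
    rw [hst] at hs
    have hcomm : d * φ t = φ t * d := by
      calc d * φ t = (d * φ t * d⁻¹) * d := by group
        _ = φ t * d := by rw [← hs]
    have h1 := hfpf d hdD hd1' (φ t) (hmemB t) hcomm
    have ht1 : t = 1 := hφ (by rw [h1, map_one])
    rw [ht1, orderOf_one] at ht
    omega
  have hEcyc : IsCyclic E := Cfsg.Agent.Lib.Helper25_CNSolv.isCyclic_of_odd hE hEnil hodd
  refine ⟨hEcyc, hodd, ?_⟩
  obtain ⟨g, hg⟩ := hEcyc.exists_generator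
  have hgen : ∀ b ∈ B, ∃ i : ℤ, b = (φ g) ^ i := by
    intro b hb
    rw [← hrange] at hb
    obtain ⟨e, rfl⟩ := hb
    obtain ⟨i, rfl⟩ := Subgroup.mem_zpowers_iff.mp (hg e)
    exact ⟨i, by rw [map_zpow]⟩
  have hg1 : φ g ≠ 1 := by
    intro h
    apply hBbot
    rw [Subgroup.eq_bot_iff_forall]
    intro b hb
    obtain ⟨i, rfl⟩ := hgen b hb
    rw [h, one_zpow]
  have hgB : φ g ∈ B := hmemB g
  haveI : IsMulCommutative D := by
    refine ⟨⟨?_⟩⟩
    rintro ⟨d₁, h₁⟩ ⟨d₂, h₂⟩
    apply Subtype.ext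
    change d₁ * d₂ = d₂ * d₁
    obtain ⟨i, hi⟩ := hgen (d₁ * φ g * d₁⁻¹) (hBn.conj_mem _ hgB d₁)
    obtain ⟨j, hj⟩ := hgen (d₂ * φ g * d₂⁻¹) (hBn.conj_mem _ hgB d₂)
    have h12 : (d₁ * d₂) * φ g * (d₁ * d₂)⁻¹ = φ g ^ (j * i) := by
      calc (d₁ * d₂) * φ g * (d₁ * d₂)⁻¹ = d₁ * (d₂ * φ g * d₂⁻¹) * d₁⁻¹ := by group
        _ = d₁ * (φ g ^ j) * d₁⁻¹ := by rw [hj]
        _ = (d₁ * φ g * d₁⁻¹) ^ j := by rw [conj_zpow]
        _ = (φ g ^ i) ^ j := by rw [hi]
        _ = φ g ^ (j * i) := by rw [← zpow_mul, mul_comm]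
    have h21 : (d₂ * d₁) * φ g * (d₂ * d₁)⁻¹ = φ g ^ (j * i) := by
      calc (d₂ * d₁) * φ g * (d₂ * d₁)⁻¹ = d₂ * (d₁ * φ g * d₁⁻¹) * d₂⁻¹ := by group
        _ = d₂ * (φ g ^ i) * d₂⁻¹ := by rw [hi]
        _ = (d₂ * φ g * d₂⁻¹) ^ i := by rw [conj_zpow]
        _ = (φ g ^ j) ^ i := by rw [hj]
        _ = φ g ^ (j * i) := by rw [← zpow_mul]
    by_contra hne
    have hc1 : (d₂ * d₁)⁻¹ * (d₁ * d₂) ≠ 1 := by
      intro h
      apply hne
      exact (inv_mul_eq_one.mp h).symm
    have hcD : (d₂ * d₁)⁻¹ * (d₁ * d₂) ∈ D :=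
      D.mul_mem (D.inv_mem (D.mul_mem h₂ h₁)) (D.mul_mem h₁ h₂)
    have hcomm : (d₂ * d₁)⁻¹ * (d₁ * d₂) * φ g = φ g * ((d₂ * d₁)⁻¹ * (d₁ * d₂)) := by
      have h3 : (d₁ * d₂) * φ g * (d₁ * d₂)⁻¹ = (d₂ * d₁) * φ g * (d₂ * d₁)⁻¹ := h12.trans h21.symm
      calc (d₂ * d₁)⁻¹ * (d₁ * d₂) * φ g
          = (d₂ * d₁)⁻¹ * ((d₁ * d₂) * φ g * (d₁ * d₂)⁻¹) * (d₁ * d₂) := by group
        _ = (d₂ * d₁)⁻¹ * ((d₂ * d₁) * φ g * (d₂ * d₁)⁻¹) * (d₁ * d₂) := by rw [h3]
        _ = φ g * ((d₂ * d₁)⁻¹ * (d₁ * d₂)) := by group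
    exact hg1 (hfpf _ hcD hc1 (φ g) hgB hcomm)
  refine Cfsg.Agent.Lib.Helper1_FPF.isCyclic_of_fpf_of_comm D B hBbot
    (by rw [Subgroup.normalizer_eq_top]; exact le_top) ?_
  intro a ha ha1
  rw [Subgroup.eq_bot_iff_forall]
  intro x hx
  obtain ⟨hxB, hxa⟩ := Subgroup.mem_inf.mp hx
  rw [Subgroup.mem_centralizer_singleton_iff] at hxa
  exact hfpf a ha ha1 x hxB hxa.symm

/-- Membership in `K` can be tested in the quotient by `H ≤ K`. -/
theorem mem_of_mk_mem {G : Type*} [Group G] (H K : Subgroup G) [H.Normal] (hle : H ≤ K) (a : G)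
    (ha : QuotientGroup.mk' H a ∈ K.map (QuotientGroup.mk' H)) : a ∈ K := by
  obtain ⟨k, hk, hka⟩ := Subgroup.mem_map.mp ha
  have h1 : k⁻¹ * a ∈ H := by
    have := QuotientGroup.eq.mp hka
    exact this
  have h2 : a = k * (k⁻¹ * a) := by group
  rw [h2]
  exact K.mul_mem hk (hle h1)

/-- No element of order `p * q` when `p` divides `|K/H|` and `q` does not. -/
theorem no_pq {G : Type*} [Group G] [Finite G] (H K : Subgroup G) [H.Normal] [K.Normal]
    (hle : H ≤ K) (C : Subgroup ↥K) (hC : Cfsg.IsFrobeniusComplement C)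
    (hCk : Cfsg.frobeniusKernel C = (H.subgroupOf K : Set ↥K))
    (D : Subgroup (G ⧸ H)) (hD : Cfsg.IsFrobeniusComplement D)
    (hDk : Cfsg.frobeniusKernel D = (K.map (QuotientGroup.mk' H) : Set (G ⧸ H)))
    (p q : ℕ) (hp : p.Prime) (hq : q.Prime) (hpH : ¬ p ∣ Nat.card H) (hpD : ¬ p ∣ Nat.card D)
    (hqC : ¬ q ∣ Nat.card C) (g : G) (hg : orderOf g = p * q) : False := by
  obtain ⟨hBn, -, -, -, -, hfpfD⟩ := frob_facts D _ hD hDk
  have hg0 : orderOf g ≠ 0 := by rw [hg]; exact (Nat.mul_pos hp.pos hq.pos).ne'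
  have ha : orderOf (g ^ q) = p := by
    have := orderOf_pow_orderOf_div (x := g) (n := p) hg0 (by rw [hg]; exact dvd_mul_right p q)
    rwa [hg, Nat.mul_div_cancel_left q hp.pos] at this
  have hb : orderOf (g ^ p) = q := by
    have := orderOf_pow_orderOf_div (x := g) (n := q) hg0 (by rw [hg]; exact dvd_mul_left q p)
    rwa [hg, Nat.mul_div_cancel p hq.pos] at this
  have hab : g ^ q * g ^ p = g ^ p * g ^ q := by rw [← pow_add, ← pow_add, add_comm]
  set a := g ^ q with hadef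
  set b := g ^ p with hbdef
  -- the image of `a` is a nontrivial element of the kernel
  have ha1 : QuotientGroup.mk' H a ≠ 1 := by
    intro h
    have haH : a ∈ H := (QuotientGroup.eq_one_iff a).mp h
    have h1 : orderOf (⟨a, haH⟩ : H) = p := by rw [Subgroup.orderOf_mk]; exact ha
    exact hpH (h1 ▸ orderOf_dvd_natCard _)
  have haK : QuotientGroup.mk' H a ∈ K.map (QuotientGroup.mk' H) := by
    have h0 : QuotientGroup.mk' H a ∈ Cfsg.frobeniusKernel D := by
      rw [Cfsg.Agent.Lib.Helper63_Frobenius.mem_frobeniusKernel]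
      right
      intro x hx
      have h1 : orderOf (x⁻¹ * QuotientGroup.mk' H a * x) = p := by
        have h2 : orderOf (QuotientGroup.mk' H a) ∣ p := ha ▸ orderOf_map_dvd _ a
        have h3 : orderOf (QuotientGroup.mk' H a) = p := by
          rcases (Nat.dvd_prime hp).mp h2 with h | h
          · exact absurd (orderOf_eq_one_iff.mp h) ha1
          · exact h
        rw [← h3]
        have := Cfsg.Agent.Lib.Helper25_CNFrob.orderOf_conj' x (QuotientGroup.mk' H a)
        exact this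
      have h4 : orderOf (⟨_, hx⟩ : D) = p := by rw [Subgroup.orderOf_mk]; exact h1
      exact hpD (h4 ▸ orderOf_dvd_natCard _)
    rw [hDk] at h0
    exact h0
  have hbK : QuotientGroup.mk' H b ∈ K.map (QuotientGroup.mk' H) := by
    by_contra hnot
    have h0 : QuotientGroup.mk' H b ∉ Cfsg.frobeniusKernel D := by rw [hDk]; exact hnot
    rw [Cfsg.Agent.Lib.Helper63_Frobenius.mem_frobeniusKernel] at h0
    push Not at h0
    obtain ⟨hb1, x, hx⟩ := h0
    have hr1 : x⁻¹ * QuotientGroup.mk' H b * x ≠ 1 := by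
      intro h
      apply hb1
      calc QuotientGroup.mk' H b = x * (x⁻¹ * QuotientGroup.mk' H b * x) * x⁻¹ := by group
        _ = 1 := by rw [h]; group
    have hn : x⁻¹ * QuotientGroup.mk' H a * x ∈ K.map (QuotientGroup.mk' H) := by
      have := hBn.conj_mem _ haK x⁻¹
      simpa using this
    have hcomm : (x⁻¹ * QuotientGroup.mk' H b * x) * (x⁻¹ * QuotientGroup.mk' H a * x) =
        (x⁻¹ * QuotientGroup.mk' H a * x) * (x⁻¹ * QuotientGroup.mk' H b * x) := by
      have h5 : QuotientGroup.mk' H b * QuotientGroup.mk' H a =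
          QuotientGroup.mk' H a * QuotientGroup.mk' H b := by
        rw [← map_mul, ← map_mul, hab]
      calc (x⁻¹ * QuotientGroup.mk' H b * x) * (x⁻¹ * QuotientGroup.mk' H a * x)
          = x⁻¹ * (QuotientGroup.mk' H b * QuotientGroup.mk' H a) * x := by group
        _ = x⁻¹ * (QuotientGroup.mk' H a * QuotientGroup.mk' H b) * x := by rw [h5]
        _ = _ := by group
    have h6 := hfpfD _ hx hr1 _ hn hcomm
    apply ha1
    calc QuotientGroup.mk' H a = x * (x⁻¹ * QuotientGroup.mk' H a * x) * x⁻¹ := by group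
      _ = 1 := by rw [h6]; group
  have haK' : a ∈ K := mem_of_mk_mem H K hle a haK
  have hbK' : b ∈ K := mem_of_mk_mem H K hle b hbK
  -- now work inside `K`
  have h7 : (⟨a, haK'⟩ : K) ∉ Cfsg.frobeniusKernel C := by
    rw [hCk]
    intro h
    have haH : a ∈ H := Subgroup.mem_subgroupOf.mp h
    exact ha1 ((QuotientGroup.eq_one_iff a).mpr haH)
  rw [Cfsg.Agent.Lib.Helper63_Frobenius.mem_frobeniusKernel] at h7
  push Not at h7
  obtain ⟨ha1', x, hx⟩ := h7
  have hx1 : x⁻¹ * (⟨a, haK'⟩ : K) * x ≠ 1 := by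
    intro h
    apply ha1'
    calc (⟨a, haK'⟩ : K) = x * (x⁻¹ * (⟨a, haK'⟩ : K) * x) * x⁻¹ := by group
      _ = 1 := by rw [h]; group
  have hab' : (⟨b, hbK'⟩ : K) * (⟨a, haK'⟩ : K) = (⟨a, haK'⟩ : K) * (⟨b, hbK'⟩ : K) :=
    Subtype.ext hab.symm
  have hcomm : (x⁻¹ * (⟨b, hbK'⟩ : K) * x) * (x⁻¹ * (⟨a, haK'⟩ : K) * x) =
      (x⁻¹ * (⟨a, haK'⟩ : K) * x) * (x⁻¹ * (⟨b, hbK'⟩ : K) * x) := by
    calc (x⁻¹ * (⟨b, hbK'⟩ : K) * x) * (x⁻¹ * (⟨a, haK'⟩ : K) * x)
        = x⁻¹ * ((⟨b, hbK'⟩ : K) * (⟨a, haK'⟩ : K)) * x := by group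
      _ = x⁻¹ * ((⟨a, haK'⟩ : K) * (⟨b, hbK'⟩ : K)) * x := by rw [hab']
      _ = _ := by group
  have hbC := Cfsg.Agent.Lib.Helper63_Frobenius.mem_of_commute hC hx hx1 hcomm
  have h8 : orderOf (⟨_, hbC⟩ : C) = q := by
    rw [Subgroup.orderOf_mk, Cfsg.Agent.Lib.Helper25_CNFrob.orderOf_conj', Subgroup.orderOf_mk]
    exact hb
  exact hqC (h8 ▸ orderOf_dvd_natCard _)

/-- The elements of order dividing `p` in the centre of `H`, as a subgroup of `G`. -/
def omegaZ {G : Type*} [Group G] (H : Subgroup G) (p : ℕ) : Subgroup G where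
  carrier := {v | v ∈ H ∧ (∀ h ∈ H, h * v = v * h) ∧ v ^ p = 1}
  one_mem' := ⟨H.one_mem, fun h _ => by rw [mul_one, one_mul], one_pow p⟩
  mul_mem' := by
    rintro v w ⟨hv, hvc, hvp⟩ ⟨hw, hwc, hwp⟩
    refine ⟨H.mul_mem hv hw, fun h hh => ?_, ?_⟩
    · rw [← mul_assoc, hvc h hh, mul_assoc, hwc h hh, mul_assoc]
    · have hc : Commute v w := (hwc v hv)
      rw [hc.mul_pow, hvp, hwp, one_mul]
  inv_mem' := by
    rintro v ⟨hv, hvc, hvp⟩
    refine ⟨H.inv_mem hv, fun h hh => ?_, by rw [inv_pow, hvp, inv_one]⟩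
    have := hvc h hh
    calc h * v⁻¹ = v⁻¹ * (v * h) * v⁻¹ := by group
      _ = v⁻¹ * (h * v) * v⁻¹ := by rw [this]
      _ = v⁻¹ * h := by group

theorem mem_omegaZ {G : Type*} [Group G] (H : Subgroup G) (p : ℕ) (v : G) :
    v ∈ omegaZ H p ↔ v ∈ H ∧ (∀ h ∈ H, h * v = v * h) ∧ v ^ p = 1 := Iff.rfl

instance omegaZ_normal {G : Type*} [Group G] (H : Subgroup G) [hH : H.Normal] (p : ℕ) :
    (omegaZ H p).Normal := by
  constructor
  rintro v ⟨hv, hvc, hvp⟩ g
  refine ⟨hH.conj_mem v hv g, fun h hh => ?_, ?_⟩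
  · have h1 : g⁻¹ * h * g ∈ H := by
      have := hH.conj_mem h hh g⁻¹
      simpa using this
    have h2 := hvc _ h1
    calc h * (g * v * g⁻¹) = g * ((g⁻¹ * h * g) * v) * g⁻¹ := by group
      _ = g * (v * (g⁻¹ * h * g)) * g⁻¹ := by rw [h2]
      _ = g * v * g⁻¹ * h := by group
  · rw [conj_pow, hvp]; group

/-- An element of order `p * q` when `p` divides `|H|`, `q` divides `|D|` and `p` does not divide
`|K/H|`. -/
theorem exists_pq_mixed {G : Type*} [Group G] [Finite G] (H K : Subgroup G) [H.Normal] [K.Normal]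
    (hle : H ≤ K) (C : Subgroup ↥K) (hC : Cfsg.IsFrobeniusComplement C)
    (hCk : Cfsg.frobeniusKernel C = (H.subgroupOf K : Set ↥K))
    (D : Subgroup (G ⧸ H)) (hD : Cfsg.IsFrobeniusComplement D)
    (hDk : Cfsg.frobeniusKernel D = (K.map (QuotientGroup.mk' H) : Set (G ⧸ H)))
    (hHnil : Group.IsNilpotent ↥H)
    (p q : ℕ) (hp : p.Prime) (hq : q.Prime) (hpq : p ≠ q) (hpH : p ∣ Nat.card H)
    (hqD : q ∣ Nat.card D) (hpm : ¬ p ∣ Nat.card (K.map (QuotientGroup.mk' H))) :
    ∃ g : G, orderOf g = p * q := by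
  classical
  obtain ⟨hBn, -, -, -, -, hfpfD⟩ := frob_facts D _ hD hDk
  obtain ⟨-, -, -, -, -, hfpfC⟩ := frob_facts C _ hC hCk
  haveI : Fact p.Prime := ⟨hp⟩
  haveI : Fact q.Prime := ⟨hq⟩
  haveI := hHnil
  obtain ⟨z, hzc, hzp⟩ := Cfsg.Agent.S3910.exists_central_order_p (G := ↥H) p hpH
  set V : Subgroup G := omegaZ H p with hV
  have hzV : (z : G) ∈ V := by
    refine ⟨z.2, fun h hh => ?_, ?_⟩
    · have := Subgroup.mem_center_iff.mp hzc ⟨h, hh⟩
      exact congrArg Subtype.val this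
    · have h1 : z ^ p = 1 := by rw [← hzp]; exact pow_orderOf_eq_one z
      have := congrArg Subtype.val h1
      simpa using this
  letI : CommGroup ↥V :=
    { (inferInstance : Group ↥V) with
      mul_comm := fun a b => Subtype.ext (a.2.2.1 b b.2.1).symm }
  let f : G ⧸ H →* MulAut ↥V := QuotientGroup.lift H (MulAut.conjNormal (H := V)) (by
    intro h hh
    rw [MonoidHom.mem_ker]
    ext v
    rw [MulAut.conjNormal_apply, MulAut.one_apply]
    have := v.2.2.1 h hh
    rw [this]; group)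
  have hf : ∀ (g : G) (v : ↥V), ((f (QuotientGroup.mk' H g) v : ↥V) : G) = g * v * g⁻¹ := by
    intro g v
    change ((QuotientGroup.lift H (MulAut.conjNormal (H := V)) _ (QuotientGroup.mk g) v : ↥V) : G) = _
    rw [QuotientGroup.lift_mk, MulAut.conjNormal_apply]
  haveI : Finite ↥(K.map (QuotientGroup.mk' H)) := inferInstance
  have key : ¬ (∀ v : ↥V, (∀ y ∈ D, f y v = v) → v = 1) := by
    intro hCY
    have h := Cfsg.Agent.Lib.Helper60_ThreePrimes.frobenius_action f (K.map (QuotientGroup.mk' H)) D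
      (fun y _ b hb => hBn.conj_mem b hb y) (fun y hy hy1 b hb hyb => by
        refine hfpfD y hy hy1 b hb ?_
        calc y * b = (y * b * y⁻¹) * y := by group
          _ = b * y := by rw [hyb]) (by
        intro v hv
        obtain ⟨⟨c, hcC⟩, hc1⟩ := (Subgroup.ne_bot_iff_exists_ne_one).mp hC.1
        have hc1' : c ≠ 1 := fun h => hc1 (Subtype.ext h)
        have h1 := hv (QuotientGroup.mk' H (c : G)) (Subgroup.mem_map_of_mem _ c.2)
        have h2 : (c : G) * v * (c : G)⁻¹ = v := by rw [← hf, h1]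
        have hvK : (v : G) ∈ K := hle v.2.1
        have h3 : (⟨v, hvK⟩ : K) ∈ H.subgroupOf K := Subgroup.mem_subgroupOf.mpr v.2.1
        have h4 : c * (⟨v, hvK⟩ : K) = (⟨v, hvK⟩ : K) * c := by
          apply Subtype.ext
          change (c : G) * v = v * c
          calc (c : G) * v = ((c : G) * v * (c : G)⁻¹) * c := by group
            _ = v * c := by rw [h2]
        have h5 := hfpfC c hcC hc1' _ h3 h4
        have h6 : (v : G) = 1 := congrArg (fun k : ↥K => (k : G)) h5
        exact Subtype.ext h6) hCY ⟨z, hzV⟩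
    have h1 : (z : G) ^ Nat.card (K.map (QuotientGroup.mk' H)) = 1 := by
      have := congrArg Subtype.val h
      simpa using this
    have h2 : orderOf (z : G) = p := by rw [Subgroup.orderOf_coe]; exact hzp
    exact hpm (h2 ▸ orderOf_dvd_of_pow_eq_one h1)
  push Not at key
  obtain ⟨v, hv, hv1⟩ := key
  obtain ⟨ybar, hybar⟩ := exists_prime_orderOf_dvd_card' (G := ↥D) q hqD
  obtain ⟨y, hy⟩ := QuotientGroup.mk'_surjective H (ybar : G ⧸ H)
  have h1 := hv _ ybar.2
  rw [← hy] at h1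
  have h2 : y * v * y⁻¹ = v := by rw [← hf, h1]
  have hcomm : Commute (v : G) y := by
    change (v : G) * y = y * v
    calc (v : G) * y = (y * v * y⁻¹) * y := by rw [h2]
      _ = y * v := by group
  have hv1' : (v : G) ≠ 1 := fun h => hv1 (Subtype.ext h)
  have hvp : orderOf (v : G) = p := orderOf_eq_prime v.2.2.2 hv1'
  have hqy : q ∣ orderOf y := by
    have h3 : orderOf (QuotientGroup.mk' H y) = q := by
      rw [hy, Subgroup.orderOf_coe]; exact hybar
    rw [← h3]; exact orderOf_map_dvd _ y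
  exact Cfsg.Agent.Lib.Helper60_ThreePrimes.exists_orderOf_eq_mul_of_commute hcomm hp hq hpq
    (by rw [hvp]; exact hp.ne_zero) (orderOf_pos y).ne' (by rw [hvp]) hqy

/-- Let G be a 2-Frobenius group: it has normal subgroups H < K with K a Frobenius group with kernel H and G/H a Frobenius group with kernel K/H. Then G is solvable; K/H has odd order coprime to the order of H and to the order of G/K (it is the image of an odd-order Hall subgroup); G/K is cyclic; and the prime graph of G has exactly two connected components, both complete: for distinct primes p, q dividing the order of G, G has an element of order pq exactly when p and q either both divide the order of K/H or both do not. -/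
theorem result {G : Type*} [Group G] [Finite G] (H K : Subgroup G) [H.Normal] [K.Normal] (hlt : H < K)
    (hK : ∃ C : Subgroup ↥K, Cfsg.IsFrobeniusComplement C ∧ Cfsg.frobeniusKernel C = (H.subgroupOf K : Set ↥K))
    (hGH : ∃ C : Subgroup (G ⧸ H), Cfsg.IsFrobeniusComplement C ∧ Cfsg.frobeniusKernel C = (K.map (QuotientGroup.mk' H) : Set (G ⧸ H))) :
    Group.IsSolvable G ∧ Odd (Nat.card (↥K ⧸ H.subgroupOf K)) ∧
      Nat.Coprime (Nat.card (↥K ⧸ H.subgroupOf K)) (Nat.card ↥H * Nat.card (G ⧸ K)) ∧ IsCyclic (G ⧸ K) ∧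
      ∀ p q : ℕ, p.Prime → q.Prime → p ≠ q → p ∣ Nat.card G → q ∣ Nat.card G →
        ((∃ g : G, orderOf g = p * q) ↔ (p ∣ Nat.card (↥K ⧸ H.subgroupOf K) ↔ q ∣ Nat.card (↥K ⧸ H.subgroupOf K))) := by
  classical
  obtain ⟨C, hC, hCk⟩ := hK
  obtain ⟨D, hD, hDk⟩ := hGH
  have hle : H ≤ K := hlt.le
  obtain ⟨hHKn, hcomplC, hHKnil, hcopC, hHKbot, hfpfC⟩ := frob_facts C _ hC hCk
  obtain ⟨hBn, hcomplD, hBnil, hcopD, hBbot, hfpfD⟩ := frob_facts D _ hD hDk
  have hHnil : Group.IsNilpotent ↥H :=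
    (Group.isNilpotent_congr (Subgroup.subgroupOfEquivOfLe hle)).mp hHKnil
  have hcardHK : Nat.card (H.subgroupOf K) = Nat.card H :=
    Nat.card_congr (Subgroup.subgroupOfEquivOfLe hle).toEquiv
  have hPropC : Cfsg.Agent.Lib.Helper25_CNFrob.PropC ↥C :=
    Cfsg.Agent.S1476.propC_of_fpf_nilpotent (H.subgroupOf K) C hHKnil hHKbot (by
      intro e he he1
      rw [Subgroup.eq_bot_iff_forall]
      intro x hx
      obtain ⟨hxN, hxe⟩ := Subgroup.mem_inf.mp hx
      rw [Subgroup.mem_centralizer_singleton_iff] at hxe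
      exact hfpfC e he he1 x hxN hxe.symm)
  let φ : ↥C →* G ⧸ H := (QuotientGroup.mk' H).comp (K.subtype.comp C.subtype)
  have hφ : Function.Injective φ := by
    rw [injective_iff_map_eq_one]
    intro c hc
    have h0 : ((c : K) : G) ∈ H := (QuotientGroup.eq_one_iff _).mp hc
    have h1 : (c : K) ∈ H.subgroupOf K := Subgroup.mem_subgroupOf.mpr h0
    have h2 : (c : K) ∈ (H.subgroupOf K) ⊓ C := Subgroup.mem_inf.mpr ⟨h1, c.2⟩
    rw [hcomplC.disjoint.eq_bot] at h2
    exact Subtype.ext (Subgroup.mem_bot.mp h2)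
  have hrange : φ.range = K.map (QuotientGroup.mk' H) := by
    apply le_antisymm
    · rintro _ ⟨c, rfl⟩
      exact Subgroup.mem_map_of_mem _ (c : K).2
    · rintro _ ⟨k, hk, rfl⟩
      obtain ⟨⟨n, c⟩, hnc⟩ := hcomplC.2 ⟨k, hk⟩
      refine ⟨c, ?_⟩
      have hk' : k = ((n : K) : G) * ((c : K) : G) := by
        have := congrArg (fun k : ↥K => (k : G)) hnc
        simpa using this.symm
      have hn : ((n : K) : G) ∈ H := Subgroup.mem_subgroupOf.mp n.2
      have hn1 : QuotientGroup.mk' H ((n : K) : G) = 1 := (QuotientGroup.eq_one_iff _).mpr hn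
      change QuotientGroup.mk' H ((c : K) : G) = QuotientGroup.mk' H k
      rw [hk', map_mul, hn1, one_mul]
  obtain ⟨hCcyc, hCodd, hDcyc⟩ := compl_cyclic _ D hD hDk hPropC φ hφ hrange
  have e₁ : ↥K ⧸ H.subgroupOf K ≃* ↥C := hcomplC.symm.QuotientMulEquiv
  have hm : Nat.card (↥K ⧸ H.subgroupOf K) = Nat.card C := Nat.card_congr e₁.toEquiv
  have e₂ : G ⧸ K ≃* ↥D :=
    (QuotientGroup.quotientQuotientEquivQuotient H K hle).symm.trans hcomplD.symm.QuotientMulEquiv
  have hd : Nat.card (G ⧸ K) = Nat.card D := Nat.card_congr e₂.toEquiv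
  have hKbar : Nat.card (K.map (QuotientGroup.mk' H)) = Nat.card C := by
    rw [← hrange]
    exact (Nat.card_congr (MonoidHom.ofInjective hφ).toEquiv).symm
  rw [hm, hd]
  have hcop1 : (Nat.card C).Coprime (Nat.card H) := hcardHK ▸ hcopC
  have hcop2 : (Nat.card C).Coprime (Nat.card D) := by rw [← hKbar]; exact hcopD.symm
  have hcardG : Nat.card G = Nat.card H * (Nat.card C * Nat.card D) := by
    rw [← hKbar, hcomplD.card_mul_card, mul_comm]
    exact Subgroup.card_eq_card_quotient_mul_card_subgroup H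
  have hnot : ∀ r : ℕ, r.Prime → r ∣ Nat.card C → ¬ r ∣ Nat.card H ∧ ¬ r ∣ Nat.card D := by
    intro r hr hrC
    exact ⟨fun h => hr.one_lt.ne' (Nat.eq_one_of_dvd_coprimes hcop1 hrC h),
      fun h => hr.one_lt.ne' (Nat.eq_one_of_dvd_coprimes hcop2 hrC h)⟩
  refine ⟨?_, hCodd, Nat.Coprime.mul_right hcop1 hcop2, (MulEquiv.isCyclic e₂).mpr hDcyc, ?_⟩
  · haveI : Group.IsSolvable ↥(H.subgroupOf K) := by
      haveI := hHKnil
      infer_instance
    haveI : Group.IsSolvable ↥C :=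
      Group.isSolvable_of_comm (fun a b => (IsCyclic.isMulCommutative (α := ↥C)).is_comm.comm a b)
    haveI : Group.IsSolvable (↥K ⧸ H.subgroupOf K) :=
      Group.isSolvable_of_isSolvable_injective (f := e₁.toMonoidHom) e₁.injective
    haveI : Group.IsSolvable ↥K :=
      Group.isSolvable_of_ker_le_range (H.subgroupOf K).subtype (QuotientGroup.mk' (H.subgroupOf K))
        (by rw [QuotientGroup.ker_mk', Subgroup.range_subtype])
    haveI : Group.IsSolvable ↥D :=
      Group.isSolvable_of_comm (fun a b => (IsCyclic.isMulCommutative (α := ↥D)).is_comm.comm a b)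
    haveI : Group.IsSolvable (G ⧸ K) :=
      Group.isSolvable_of_isSolvable_injective (f := e₂.toMonoidHom) e₂.injective
    exact Group.isSolvable_of_ker_le_range K.subtype (QuotientGroup.mk' K)
      (by rw [QuotientGroup.ker_mk', Subgroup.range_subtype])
  · intro p q hp hq hpq hpG hqG
    rw [hcardG] at hpG hqG
    constructor
    · rintro ⟨g, hg⟩
      constructor
      · intro hpC
        by_contra hqC
        exact no_pq H K hle C hC hCk D hD hDk p q hp hq (hnot p hp hpC).1 (hnot p hp hpC).2 hqC g hg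
      · intro hqC
        by_contra hpC
        exact no_pq H K hle C hC hCk D hD hDk q p hq hp (hnot q hq hqC).1 (hnot q hq hqC).2 hpC g
          (by rw [hg, mul_comm])
    · intro hiff
      have hcopq : p.Coprime q := (Nat.coprime_primes hp hq).mpr hpq
      by_cases hpC : p ∣ Nat.card C
      · have hqC := hiff.mp hpC
        have hpqC : p * q ∣ Nat.card C := Nat.Coprime.mul_dvd_of_dvd_of_dvd hcopq hpC hqC
        obtain ⟨c, hc⟩ := IsCyclic.exists_ofOrder_eq_natCard (α := ↥C)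
        refine ⟨(((c ^ (orderOf c / (p * q)) : C) : K) : G), ?_⟩
        rw [Subgroup.orderOf_coe, Subgroup.orderOf_coe]
        exact orderOf_pow_orderOf_div (orderOf_pos c).ne' (hc ▸ hpqC)
      · have hqC : ¬ q ∣ Nat.card C := fun h => hpC (hiff.mpr h)
        have hp' : p ∣ Nat.card H ∨ p ∣ Nat.card D := by
          rcases (Nat.Prime.dvd_mul hp).mp hpG with h | h
          · exact Or.inl h
          · rcases (Nat.Prime.dvd_mul hp).mp h with h | h
            · exact absurd h hpC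
            · exact Or.inr h
        have hq' : q ∣ Nat.card H ∨ q ∣ Nat.card D := by
          rcases (Nat.Prime.dvd_mul hq).mp hqG with h | h
          · exact Or.inl h
          · rcases (Nat.Prime.dvd_mul hq).mp h with h | h
            · exact absurd h hqC
            · exact Or.inr h
        rcases hp' with hpH | hpD <;> rcases hq' with hqH | hqD
        · haveI : Fact p.Prime := ⟨hp⟩
          haveI : Fact q.Prime := ⟨hq⟩
          haveI := hHnil
          obtain ⟨z, hzc, hzp⟩ := Cfsg.Agent.S3910.exists_central_order_p (G := ↥H) p hpH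
          obtain ⟨w, hw⟩ := exists_prime_orderOf_dvd_card' (G := ↥H) q hqH
          have hcomm : Commute z w := (Subgroup.mem_center_iff.mp hzc w).symm
          obtain ⟨x, hx⟩ := Cfsg.Agent.Lib.Helper60_ThreePrimes.exists_orderOf_eq_mul_of_commute hcomm
            hp hq hpq (by rw [hzp]; exact hp.ne_zero) (by rw [hw]; exact hq.ne_zero)
            (by rw [hzp]) (by rw [hw])
          exact ⟨(x : G), by rw [Subgroup.orderOf_coe]; exact hx⟩
        · exact exists_pq_mixed H K hle C hC hCk D hD hDk hHnil p q hp hq hpq hpH hqD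
            (by rw [hKbar]; exact hpC)
        · obtain ⟨g, hg⟩ := exists_pq_mixed H K hle C hC hCk D hD hDk hHnil q p hq hp hpq.symm hqH hpD
            (by rw [hKbar]; exact hqC)
          exact ⟨g, by rw [hg, mul_comm]⟩
        · have hpqD : p * q ∣ Nat.card D := Nat.Coprime.mul_dvd_of_dvd_of_dvd hcopq hpD hqD
          obtain ⟨d, hd'⟩ := IsCyclic.exists_ofOrder_eq_natCard (α := ↥D)
          apply Cfsg.Agent.Lib.Helper60_ThreePrimes.exists_orderOf_eq_of_surjective
            (QuotientGroup.mk' H) (QuotientGroup.mk'_surjective H)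
          refine ⟨((d ^ (orderOf d / (p * q)) : D) : G ⧸ H), ?_⟩
          rw [Subgroup.orderOf_coe]
          exact orderOf_pow_orderOf_div (orderOf_pos d).ne' (hd' ▸ hpqD)

end Cfsg.Agent.S4001
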