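import Cfsg.Statements.S4002
import Cfsg.Agent.Lib.Helper60_ThreePrimes

set_option autoImplicit false
open Cfsg

namespace Cfsg.Agent.S4002

open Cfsg.Agent.Lib.Helper60_ThreePrimes

/-- Three primes up to `n` whose pairwise products exceed `n`. -/
theorem exists_three_primes (n : ℕ) (hn : 7 ≤ n) :
    ∃ p q r : ℕ, p.Prime ∧ q.Prime ∧ r.Prime ∧ p < q ∧ q < r ∧ r ≤ n ∧ n < p * q := by
  by_cases h1 : n ≤ 14
  · exact ⟨3, 5, 7, by norm_num, by norm_num, by norm_num, by norm_num, by norm_num, hn, by omega⟩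
  by_cases h2 : n ≤ 34
  · exact ⟨5, 7, 11, by norm_num, by norm_num, by norm_num, by norm_num, by norm_num, by omega,
      by omega⟩
  -- Bertrand three times
  obtain ⟨r, hr, hr1, hr2⟩ := Nat.exists_prime_lt_and_le_two_mul (n / 2) (by omega)
  obtain ⟨q, hq, hq1, hq2⟩ := Nat.exists_prime_lt_and_le_two_mul (n / 2 / 2) (by omega)
  obtain ⟨p, hp, hp1, hp2⟩ := Nat.exists_prime_lt_and_le_two_mul (n / 2 / 2 / 2) (by omega)
  refine ⟨p, q, r, hp, hq, hr, by omega, by omega, by omega, ?_⟩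
  have h3 : n + 1 ≤ 8 * p := by omega
  have h4 : n + 1 ≤ 4 * q := by omega
  nlinarith

/-- If the set of element orders of a finite group G is {1, 2, …, n} with n ≥ 7, then G is not solvable. -/
theorem result {G : Type*} [Group G] [Finite G] (n : ℕ) (hn : 7 ≤ n) (h : Set.range (orderOf : G → ℕ) = {k : ℕ | 1 ≤ k ∧ k ≤ n}) : ¬ Group.IsSolvable G := by
  intro hsolv
  obtain ⟨p, q, r, hp, hq, hr, hpq, hqr, hrn, hnpq⟩ := exists_three_primes n hn
  have hdvd : ∀ ℓ : ℕ, 1 ≤ ℓ → ℓ ≤ n → ℓ ∣ Nat.card G := by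
    intro ℓ h1 h2
    have : ℓ ∈ Set.range (orderOf : G → ℕ) := by rw [h]; exact ⟨h1, h2⟩
    obtain ⟨g, rfl⟩ := this
    exact orderOf_dvd_natCard g
  have hle : ∀ z : G, orderOf z ≤ n := by
    intro z
    have : orderOf z ∈ Set.range (orderOf : G → ℕ) := ⟨z, rfl⟩
    rw [h] at this
    exact this.2
  have hp1 := hp.one_lt
  rcases exists_mixed_order_of_solvable hp hq hr (by omega) (by omega) (by omega)
    (hdvd p (by omega) (by omega)) (hdvd q (by omega) (by omega)) (hdvd r (by omega) hrn)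
    with ⟨z, hz⟩ | ⟨z, hz⟩ | ⟨z, hz⟩
  · have := hle z; rw [hz] at this; omega
  · have := hle z; rw [hz] at this
    have : p * q < p * r := Nat.mul_lt_mul_of_pos_left hqr (by omega)
    omega
  · have := hle z; rw [hz] at this
    have h5 : p * q < q * q := Nat.mul_lt_mul_of_pos_right hpq (by omega)
    have h6 : q * q < q * r := Nat.mul_lt_mul_of_pos_left hqr (by omega)
    omega

end Cfsg.Agent.S4002
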