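import Cfsg.Statements.S4003
import Cfsg.Agent.Lib.Helper63_Miller

set_option autoImplicit false
open Cfsg

namespace Cfsg.Agent.S4003

open Subgroup Cfsg.Agent.Lib.Helper63_Miller

section
variable {G : Type*} [Group G]

/-- the pairs `(y, D)`: `y` of order `m`, `D` a cyclic subgroup of order `n` centralizing `y` -/
def pairsW (m n : ℕ) : Set (G × Subgroup G) :=
  {w | orderOf w.1 = m ∧ w.2 ≤ centralizer {w.1} ∧ IsCyclic w.2 ∧ Nat.card w.2 = n}

/-- the pairs `(y, D)`: `y` of order `m` centralizing `P`, `D ≤ P` cyclic of order `n` -/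
def pairsS (P : Subgroup G) (m n : ℕ) : Set (G × Subgroup G) :=
  {w | (orderOf w.1 = m ∧ ∀ g ∈ P, g * w.1 * g⁻¹ = w.1) ∧
    (w.2 ≤ P ∧ IsCyclic w.2 ∧ Nat.card w.2 = n)}

theorem conjPair_props (g : G) (w : G × Subgroup G) :
    orderOf (conjPair g w).1 = orderOf w.1 ∧ (IsCyclic w.2 → IsCyclic (conjPair g w).2) ∧
      Nat.card (conjPair g w).2 = Nat.card w.2 := by
  refine ⟨?_, ?_, ?_⟩
  · exact (MulAut.conj g).orderOf_eq w.1
  · intro h
    exact ((w.2.equivMapOfInjective (MulAut.conj g).toMonoidHom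
      (MulAut.conj g).injective).isCyclic).1 h
  · exact Subgroup.card_map_of_injective (MulAut.conj g).injective

theorem pairsW_invariant (m n : ℕ) (g : G) (w : G × Subgroup G) (hw : w ∈ pairsW m n) :
    conjPair g w ∈ pairsW m n := by
  obtain ⟨h1, h2, h3, h4⟩ := hw
  obtain ⟨e1, e2, e3⟩ := conjPair_props g w
  refine ⟨e1.trans h1, ?_, e2 h3, e3.trans h4⟩
  intro x hx
  rw [mem_conjPair_snd] at hx
  have := mem_centralizer_singleton_iff.1 (h2 hx)
  rw [mem_centralizer_singleton_iff]
  show x * (g * w.1 * g⁻¹) = g * w.1 * g⁻¹ * x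
  have h5 : g * (g⁻¹ * x * g * w.1) * g⁻¹ = g * (w.1 * (g⁻¹ * x * g)) * g⁻¹ := by rw [this]
  simpa [mul_assoc] using h5

theorem pairsS_invariant (P : Subgroup G) (m n : ℕ) (g : G) (hg : g ∈ P) (w : G × Subgroup G)
    (hw : w ∈ pairsS P m n) : conjPair g w ∈ pairsS P m n := by
  obtain ⟨⟨h1, h2⟩, h3, h4, h5⟩ := hw
  obtain ⟨e1, e2, e3⟩ := conjPair_props g w
  have hfix : (conjPair g w).1 = w.1 := h2 g hg
  refine ⟨⟨e1.trans h1, ?_⟩, ?_, e2 h4, e3.trans h5⟩
  · rw [hfix]
    exact h2
  · intro x hx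
    rw [mem_conjPair_snd] at hx
    have := P.mul_mem (P.mul_mem hg (h3 hx)) (P.inv_mem hg)
    simpa [mul_assoc] using this

end

/-- Let G be a finite group, p an odd prime dividing the order of G whose Sylow p-subgroups are not cyclic, and n = p^s·m with s > 1 and m coprime to p. Then the number of elements of G of order n is a multiple of p^s. -/
theorem result {G : Type*} [Group G] [Finite G] (p : ℕ) [Fact p.Prime] (hodd : p ≠ 2) (hpG : p ∣ Nat.card G)
    (P : Sylow p G) (hP : ¬ IsCyclic ↥(P : Subgroup G)) (s m : ℕ) (hs : 1 < s) (hm : Nat.Coprime p m) :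
    p ^ s ∣ Nat.card {g : G // orderOf g = p ^ s * m} := by
  classical
  have hpp : p.Prime := Fact.out
  have hm0 : m ≠ 0 := by
    rintro rfl
    rw [Nat.coprime_zero_right] at hm
    exact hpp.one_lt.ne' hm
  let _ : Fintype G := Fintype.ofFinite G
  -- Step 1: `|W| = φ(p^s) |W'|`
  have step1 : Nat.card {g : G // orderOf g = p ^ s * m} =
      Nat.totient (p ^ s) * Nat.card (pairsW (G := G) m (p ^ s)) := by
    rw [card_orderOf_mul (G := G) (Nat.Coprime.pow_left s hm) (pow_ne_zero s hpp.ne_zero) hm0,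
      Nat.card_congr (Equiv.subtypeProdEquivSigmaSubtype
        (fun y x : G => orderOf y = m ∧ x ∈ centralizer {y} ∧ orderOf x = p ^ s)),
      Nat.card_sigma]
    have e2 : Nat.card (pairsW (G := G) m (p ^ s)) = Nat.card (Σ y : G, {D : Subgroup G //
        orderOf y = m ∧ D ≤ centralizer {y} ∧ IsCyclic D ∧ Nat.card D = p ^ s}) :=
      Nat.card_congr (Equiv.subtypeProdEquivSigmaSubtype
        (fun (y : G) (D : Subgroup G) =>
          orderOf y = m ∧ D ≤ centralizer {y} ∧ IsCyclic D ∧ Nat.card D = p ^ s))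
    rw [e2, Nat.card_sigma, Finset.mul_sum]
    apply Finset.sum_congr rfl
    intro y _
    by_cases hy : orderOf y = m
    · simp only [hy, true_and]
      exact card_orderOf_eq_totient_mul (centralizer {y}) (p ^ s)
    · simp only [hy, false_and]
      rw [Nat.card_of_isEmpty, Nat.card_of_isEmpty, mul_zero]
  -- Step 2: `p ∣ |𝒞(P)|`
  have step2 : p ∣ Nat.card {D : Subgroup G // D ≤ (P : Subgroup G) ∧ IsCyclic D ∧
      Nat.card D = p ^ s} := by
    have h1 := card_orderOf_eq_totient_mul (P : Subgroup G) (p ^ s)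
    have h2 : p ^ s ∣ Nat.card {x : G // x ∈ (P : Subgroup G) ∧ orderOf x = p ^ s} := by
      have h3 := miller (R := ↥(P : Subgroup G)) hodd P.2 hP (s := s) hs
      have e : {x : ↥(P : Subgroup G) // orderOf x = p ^ s} ≃
          {x : G // x ∈ (P : Subgroup G) ∧ orderOf x = p ^ s} :=
        (Equiv.subtypeEquivRight (fun x : ↥(P : Subgroup G) => by
          rw [Subgroup.orderOf_coe])).trans
          (Equiv.subtypeSubtypeEquivSubtypeInter (fun x : G => x ∈ (P : Subgroup G))
            (fun x : G => orderOf x = p ^ s))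
      rwa [Nat.card_congr e] at h3
    rw [h1, Nat.totient_prime_pow hpp (by omega : 0 < s)] at h2
    obtain ⟨r, rfl⟩ : ∃ r, s = r + 1 := ⟨s - 1, by omega⟩
    rw [Nat.add_sub_cancel, pow_succ, mul_assoc] at h2
    have h4 := Nat.dvd_of_mul_dvd_mul_left (Nat.pow_pos hpp.pos) h2
    have hcop : Nat.Coprime p (p - 1) :=
      Nat.coprime_of_lt_prime (by have := hpp.two_le; omega) (by have := hpp.two_le; omega) hpp
    exact hcop.dvd_of_dvd_mul_left h4
  -- Step 3: `p ∣ |W'|`
  have step3 : p ∣ Nat.card (pairsW (G := G) m (p ^ s)) := by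
    have hW := card_pairs_modEq (P : Subgroup G) P.2 (pairsW m (p ^ s))
      (fun g _ w hw => pairsW_invariant m (p ^ s) g w hw)
    have hS := card_pairs_modEq (P : Subgroup G) P.2 (pairsS (P : Subgroup G) m (p ^ s))
      (fun g hg w hw => pairsS_invariant (P : Subgroup G) m (p ^ s) g hg w hw)
    have hfix : {w : G × Subgroup G // w ∈ pairsW m (p ^ s) ∧
          ∀ g ∈ (P : Subgroup G), conjPair g w = w} ≃
        {w : G × Subgroup G // w ∈ pairsS (P : Subgroup G) m (p ^ s) ∧
          ∀ g ∈ (P : Subgroup G), conjPair g w = w} := by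
      refine Equiv.subtypeEquivRight (fun w => ?_)
      constructor
      · rintro ⟨⟨h1, h2, h3, h4⟩, hfix⟩
        refine ⟨⟨⟨h1, fun g hg => congrArg Prod.fst (hfix g hg)⟩, ?_, h3, h4⟩, hfix⟩
        have hPle : (P : Subgroup G) ≤ normalizer (w.2 : Set G) := by
          intro g hg
          rw [mem_normalizer_iff]
          intro x
          have h5 : (conjPair g w).2 = w.2 := congrArg Prod.snd (hfix g hg)
          have h6 := mem_conjPair_snd (g := g) (w := w) (x := g * x * g⁻¹)
          rw [h5] at h6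
          rw [h6]
          have : g⁻¹ * (g * x * g⁻¹) * g = x := by group
          rw [this]
        have hsup : IsPGroup p ↥((P : Subgroup G) ⊔ w.2) :=
          IsPGroup.to_sup_of_normal_right' P.2 (IsPGroup.of_card h4) hPle
        have := P.is_maximal' hsup le_sup_left
        rw [← this]
        exact le_sup_right
      · rintro ⟨⟨⟨h1, h2⟩, h3, h4, h5⟩, hfix⟩
        refine ⟨⟨h1, ?_, h4, h5⟩, hfix⟩
        intro x hx
        rw [mem_centralizer_singleton_iff]
        have := h2 x (h3 hx)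
        rw [mul_inv_eq_iff_eq_mul] at this
        exact this
    rw [Nat.card_congr hfix] at hW
    have hWS := hW.trans hS.symm
    have hcard : Nat.card (pairsS (P : Subgroup G) m (p ^ s)) =
        Nat.card {y : G // orderOf y = m ∧ ∀ g ∈ (P : Subgroup G), g * y * g⁻¹ = y} *
        Nat.card {D : Subgroup G // D ≤ (P : Subgroup G) ∧ IsCyclic D ∧ Nat.card D = p ^ s} := by
      rw [← Nat.card_prod]
      exact Nat.card_congr (Equiv.subtypeProdEquivProd
        (p := fun y : G => orderOf y = m ∧ ∀ g ∈ (P : Subgroup G), g * y * g⁻¹ = y)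
        (q := fun D : Subgroup G => D ≤ (P : Subgroup G) ∧ IsCyclic D ∧ Nat.card D = p ^ s))
    have h0 : Nat.card (pairsS (P : Subgroup G) m (p ^ s)) ≡ 0 [MOD p] := by
      rw [Nat.modEq_zero_iff_dvd, hcard]
      exact Dvd.dvd.mul_left step2 _
    exact (Nat.modEq_zero_iff_dvd).1 (hWS.trans h0)
  rw [step1, Nat.totient_prime_pow hpp (by omega : 0 < s)]
  obtain ⟨k, hk⟩ := step3
  obtain ⟨r, rfl⟩ : ∃ r, s = r + 1 := ⟨s - 1, by omega⟩
  rw [hk, Nat.add_sub_cancel]
  exact ⟨(p - 1) * k, by ring⟩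

end Cfsg.Agent.S4003
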