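import Cfsg.Statements.S4005
import Cfsg.Agent.Lib.Helper67_Basic

set_option autoImplicit false
open Cfsg

namespace Cfsg.Agent.S4005

open Cfsg.Agent.Lib.Helper67_Basic

section words

variable {G : Type*} [Group G]

/-- Two involutions whose product has order dividing 3 satisfy the braid relation. -/
theorem braid {u v : G} (hu : u * u = 1) (hv : v * v = 1) (h : (u * v) ^ 3 = 1) :
    u * v * u = v * u * v := by
  have huinv : u⁻¹ = u := inv_eq_of_mul_eq_one_right hu
  have hvinv : v⁻¹ = v := inv_eq_of_mul_eq_one_right hv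
  have h1 : (u * v * u) * (v * u * v) = 1 := by
    rw [← h, pow_succ, pow_succ, pow_one]; simp only [mul_assoc]
  have h2 : u * v * u = (v * u * v)⁻¹ := eq_inv_of_mul_eq_one_left h1
  rw [h2, mul_inv_rev, mul_inv_rev, huinv, hvinv, mul_assoc]

theorem step {s a b : G} (hs : s * s = 1) (ha : a * a = 1) (hb : b * b = 1)
    (e1 : s * a * s = a * s * a) (e2 : s * b * s = b * s * b)
    (e3 : s * (a * b) * s = (a * b) * s * (a * b)) : s * a * b * s = b * s * a := by
  have X : a * s * a * (b * s * b) = a * b * s * (a * b) := by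
    rw [← e1, ← e2, ← e3]
    calc s * a * s * (s * b * s) = s * a * (s * s) * b * s := by group
      _ = s * (a * b) * s := by rw [hs]; group
  calc s * a * b * s = (a * a) * (s * a * b * s) * (b * b) := by rw [ha, hb, one_mul, mul_one]
    _ = a * ((a * s * a) * (b * s * b)) * b := by group
    _ = a * (a * b * s * (a * b)) * b := by rw [X]
    _ = (a * a) * b * s * a * (b * b) := by group
    _ = b * s * a := by rw [ha, hb, one_mul, mul_one]

/-- The Coxeter-type computation: an involution `s` with `(s a)^3 = (s b)^3 = (s a b)^3 = 1`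
for commuting involutions `a, b` commutes with `a b`. -/
theorem coxeter_comm {s a b : G} (hs : s * s = 1) (ha : a * a = 1) (hb : b * b = 1)
    (hab : a * b = b * a) (h1 : (s * a) ^ 3 = 1) (h2 : (s * b) ^ 3 = 1)
    (h3 : (s * (a * b)) ^ 3 = 1) : s * (a * b) = (a * b) * s := by
  have hc : (a * b) * (a * b) = 1 := by
    calc a * b * (a * b) = a * (b * a) * b := by group
      _ = a * (a * b) * b := by rw [hab]
      _ = (a * a) * (b * b) := by group
      _ = 1 := by rw [ha, hb, one_mul]
  have e1 := braid hs ha h1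
  have e2 := braid hs hb h2
  have e3 := braid hs hc h3
  have E1 := step hs ha hb e1 e2 e3
  have e3' : s * (b * a) * s = (b * a) * s * (b * a) := by rw [← hab]; exact e3
  have E2 := step hs hb ha e2 e1 e3'
  have E3 : b * s * a = a * s * b := by
    rw [← E1, ← E2]
    calc s * a * b * s = s * (a * b) * s := by group
      _ = s * (b * a) * s := by rw [hab]
      _ = s * b * a * s := by group
  calc s * (a * b) = s * (b * a) := by rw [hab]
    _ = (a * a) * s * b * a := by rw [ha]; group
    _ = a * (a * s * b) * a := by group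
    _ = a * (b * s * a) * a := by rw [E3]
    _ = a * b * s * (a * a) := by group
    _ = a * b * s := by rw [ha, mul_one]

end words

/-- The counting identity in a commutative group behind "`Z₃ × Z₃` has no fixed-point-free
action": with `x, y` commuting automorphisms of order 3 such that the norm maps of
`x, y, xy, xy²` are all trivial, every element has trivial cube. -/
theorem cube_eq_one {M : Type*} [Group M] (hcomm : ∀ a b : M, a * b = b * a)
    (x y : M ≃* M) (hxy : x * y = y * x)
    (hx3 : x ^ 3 = 1)
    (hy3 : y ^ 3 = 1)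
    (Nx : ∀ v : M, v * x v * x (x v) = 1)
    (Ny : ∀ v : M, v * y v * y (y v) = 1)
    (Nxy : ∀ v : M, v * (x * y) v * (x * y) ((x * y) v) = 1)
    (Nxy2 : ∀ v : M, v * (x * y * y) v * (x * y * y) ((x * y * y) v) = 1) (v : M) :
    v ^ 3 = 1 := by
  haveI : Std.Commutative (α := M) (· * ·) := ⟨hcomm⟩
  have hyx : ∀ w : M, y (x w) = x (y w) := by
    intro w
    have := congrArg (fun f : M ≃* M => f w) hxy
    simpa [MulAut.mul_apply] using this.symm
  have hx3' : ∀ w : M, x (x (x w)) = w := by
    intro w
    have := congrArg (fun f : M ≃* M => f w) hx3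
    simpa [pow_succ, MulAut.mul_apply] using this
  have hy3' : ∀ w : M, y (y (y w)) = w := by
    intro w
    have := congrArg (fun f : M ≃* M => f w) hy3
    simpa [pow_succ, MulAut.mul_apply] using this
  have a1 := Nx v
  have a2 := Ny v
  have a3 := Nxy v
  have a4 := Nxy2 v
  have b1 := Nx (y v)
  have b2 := Nx (y (y v))
  simp only [MulAut.mul_apply] at a3 a4
  -- rewrite everything in the normal form x^i (y^j v)
  simp only [hyx] at a3 a4
  -- a3 : v * x (y v) * x (x (y (y v))) = 1
  -- a4 : v * x (y (y v)) * x (x (y (y (y (y v))))) = 1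
  rw [hy3'] at a4
  have key : (v * x v * x (x v)) * (v * y v * y (y v)) * (v * x (y v) * x (x (y (y v)))) *
      (v * x (y (y v)) * x (x (y v))) =
      v ^ 3 * (v * x v * x (x v)) * (y v * x (y v) * x (x (y v))) *
        (y (y v) * x (y (y v)) * x (x (y (y v)))) := by
    rw [pow_succ, pow_succ, pow_one]
    ac_rfl
  rw [a1, a2, a3, a4, b1, b2] at key
  simpa using key.symm

/-- A finite group whose set of element orders is exactly {1, 2, 3} has either a normal elementary abelian 3-subgroup of index 2 or a normal elementary abelian 2-subgroup of index 3. -/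
theorem result {G : Type*} [Group G] [Finite G] (h : Set.range (orderOf : G → ℕ) = {k : ℕ | 1 ≤ k ∧ k ≤ 3}) :
    (∃ N : Subgroup G, N.Normal ∧ Cfsg.IsElementaryAbelian 3 N ∧ N.index = 2) ∨
      (∃ N : Subgroup G, N.Normal ∧ Cfsg.IsElementaryAbelian 2 N ∧ N.index = 3) := by
  classical
  haveI : Fact (Nat.Prime 2) := ⟨Nat.prime_two⟩
  haveI : Fact (Nat.Prime 3) := ⟨Nat.prime_three⟩
  have hord : ∀ g : G, orderOf g = 1 ∨ orderOf g = 2 ∨ orderOf g = 3 := by
    intro g
    have hg : orderOf g ∈ Set.range (orderOf : G → ℕ) := ⟨g, rfl⟩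
    rw [h] at hg
    obtain ⟨h1, h3⟩ := hg
    omega
  obtain ⟨t₀, ht₀⟩ : ∃ t : G, orderOf t = 2 := by
    have h2 : (2 : ℕ) ∈ {k : ℕ | 1 ≤ k ∧ k ≤ 3} := ⟨by norm_num, by norm_num⟩
    rw [← h] at h2; exact h2
  obtain ⟨x₀, hx₀⟩ : ∃ x : G, orderOf x = 3 := by
    have h3 : (3 : ℕ) ∈ {k : ℕ | 1 ≤ k ∧ k ≤ 3} := ⟨by norm_num, by norm_num⟩
    rw [← h] at h3; exact h3
  have hno6 : ∀ t x : G, orderOf t = 2 → orderOf x = 3 → t * x ≠ x * t := by
    intro t x ht hx hcomm
    have hc : Commute t x := hcomm
    have h6 := hc.orderOf_mul_eq_mul_orderOf_of_coprime (by rw [ht, hx]; norm_num)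
    rw [ht, hx] at h6
    have := hord (t * x); omega
  have hinv_of_sq : ∀ g : G, g * g = 1 → g ≠ 1 → orderOf g = 2 :=
    fun g hg hg1 => orderOf_eq_prime (by rwa [pow_two]) hg1
  have hsq_of_inv : ∀ g : G, orderOf g = 2 → g * g = 1 :=
    fun g hg => by rw [← pow_two, ← hg, pow_orderOf_eq_one]
  let T : Sylow 2 G := default
  -- T has exponent 2
  have hT2 : ∀ v ∈ (T : Subgroup G), v * v = 1 := by
    intro v hv
    obtain ⟨k, hk⟩ := T.2 ⟨v, hv⟩
    have hk' : v ^ (2 ^ k) = 1 := by
      have := congrArg (fun z : (T : Subgroup G) => (z : G)) hk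
      simpa using this
    have hdvd : orderOf v ∣ 2 ^ k := orderOf_dvd_of_pow_eq_one hk'
    rcases hord v with h1 | h2 | h3
    · rw [orderOf_eq_one_iff.1 h1, one_mul]
    · exact hsq_of_inv v h2
    · exfalso
      rw [h3] at hdvd
      have : 3 ∣ 2 := Nat.Prime.dvd_of_dvd_pow Nat.prime_three hdvd
      omega
  have hTcomm : ∀ u ∈ (T : Subgroup G), ∀ v ∈ (T : Subgroup G), u * v = v * u := by
    intro u hu v hv
    have huv := hT2 (u * v) (Subgroup.mul_mem _ hu hv)
    have huinv : u⁻¹ = u := inv_eq_of_mul_eq_one_right (hT2 u hu)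
    have hvinv : v⁻¹ = v := inv_eq_of_mul_eq_one_right (hT2 v hv)
    have e : u * v = (u * v)⁻¹ := (inv_eq_of_mul_eq_one_right huv).symm
    rw [mul_inv_rev, huinv, hvinv] at e
    exact e
  -- centralizers of involutions of T
  have hcent : ∀ t ∈ (T : Subgroup G), t ≠ 1 → ∀ g : G, g * t = t * g → g ∈ (T : Subgroup G) := by
    intro t ht ht1 g hg
    have hto : orderOf t = 2 := hinv_of_sq t (hT2 t ht) ht1
    have hCp : IsPGroup 2 (Subgroup.centralizer ({t} : Set G)) := by
      intro c
      refine ⟨1, ?_⟩
      rw [pow_one]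
      apply Subtype.ext
      rw [Subgroup.coe_pow, Subgroup.coe_one, pow_two]
      rcases hord (c : G) with h1 | h2 | h3
      · rw [orderOf_eq_one_iff.1 h1, one_mul]
      · exact hsq_of_inv _ h2
      · exfalso
        have hc : (c : G) * t = t * (c : G) := Subgroup.mem_centralizer_singleton_iff.1 c.2
        exact hno6 t c hto h3 hc.symm
    have hTC : (T : Subgroup G) ≤ Subgroup.centralizer ({t} : Set G) := by
      intro v hv
      rw [Subgroup.mem_centralizer_singleton_iff]
      exact hTcomm v hv t ht
    have hCT : Subgroup.centralizer ({t} : Set G) = (T : Subgroup G) := T.is_maximal' hCp hTC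
    rw [← hCT, Subgroup.mem_centralizer_singleton_iff]
    exact hg
  -- an involution in T
  obtain ⟨t, htT, hto⟩ : ∃ t ∈ (T : Subgroup G), orderOf t = 2 := by
    have hZ : IsPGroup 2 (Subgroup.zpowers t₀) :=
      IsPGroup.of_card (n := 1) (by rw [Nat.card_zpowers, ht₀, pow_one])
    obtain ⟨c, hc⟩ := exists_conj_mem_sylow T hZ
    exact ⟨c * t₀ * c⁻¹, hc t₀ (Subgroup.mem_zpowers t₀), by rw [orderOf_conj_eq, ht₀]⟩
  have ht1 : t ≠ 1 := by
    intro h1; rw [h1, orderOf_one] at hto; omega
  have ht2 : t * t = 1 := hT2 t htT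
  by_cases hcase : ∃ a ∈ (T : Subgroup G), a ≠ 1 ∧ a ≠ t
  · ---------------- the Sylow 2-subgroup has order at least 4
    right
    obtain ⟨a, haT, ha1, hat⟩ := hcase
    have hab : a * t = t * a := hTcomm a haT t htT
    have ha2 := hT2 a haT
    have hcT : a * t ∈ (T : Subgroup G) := Subgroup.mul_mem _ haT htT
    have hc1 : a * t ≠ 1 := by
      intro hc
      apply hat
      have : a = t⁻¹ := eq_inv_of_mul_eq_one_left hc
      rw [this, inv_eq_of_mul_eq_one_right ht2]
    -- all involutions lie in T
    have hinvT : ∀ s : G, orderOf s = 2 → s ∈ (T : Subgroup G) := by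
      intro s hs
      by_contra hsT
      have hs2 := hsq_of_inv s hs
      have hcube : ∀ u ∈ (T : Subgroup G), u ≠ 1 → (s * u) ^ 3 = 1 := by
        intro u hu hu1
        have hu2 := hT2 u hu
        rcases hord (s * u) with h1 | h2 | h3
        · exfalso
          have e : s * u = 1 := orderOf_eq_one_iff.1 h1
          have e' : s = u⁻¹ := eq_inv_of_mul_eq_one_left e
          apply hsT
          rw [e']
          exact Subgroup.inv_mem _ hu
        · exfalso
          have hsu2 : (s * u) * (s * u) = 1 := hsq_of_inv _ h2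
          have e : s * u = (s * u)⁻¹ := (inv_eq_of_mul_eq_one_right hsu2).symm
          rw [mul_inv_rev, inv_eq_of_mul_eq_one_right hs2, inv_eq_of_mul_eq_one_right hu2] at e
          exact hsT (hcent u hu hu1 s e)
        · rw [← h3]; exact pow_orderOf_eq_one _
      have hcomm := coxeter_comm hs2 ha2 ht2 hab (hcube a haT ha1) (hcube t htT ht1)
        (hcube (a * t) hcT hc1)
      exact hsT (hcent (a * t) hcT hc1 s hcomm)
    have hTn : (T : Subgroup G).Normal := by
      constructor
      intro v hv g
      by_cases hv1 : v = 1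
      · rw [hv1, mul_one, mul_inv_cancel]; exact Subgroup.one_mem _
      · apply hinvT
        rw [orderOf_conj_eq]
        exact hinv_of_sq v (hT2 v hv) hv1
    haveI := hTn
    refine ⟨(T : Subgroup G), hTn, ⟨isMulCommutative_iff.2 (fun u v => Subtype.ext (hTcomm u u.2 v v.2)),
      fun v hv => by rw [pow_two]; exact hT2 v hv⟩, ?_⟩
    -- norm maps are trivial
    have hTsubcomm : ∀ u v : (T : Subgroup G), u * v = v * u :=
      fun u v => Subtype.ext (hTcomm u u.2 v v.2)
    have hnorm : ∀ g : G, orderOf g = 3 → ∀ v : (T : Subgroup G),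
        v * (MulAut.conjNormal g) v * (MulAut.conjNormal g) ((MulAut.conjNormal g) v) = 1 := by
      intro g hg v
      set X : (T : Subgroup G) ≃* (T : Subgroup G) := MulAut.conjNormal g with hX
      have hX3 : ∀ w, X (X (X w)) = w := by
        intro w
        have h3 : (MulAut.conjNormal (g ^ 3) : (T : Subgroup G) ≃* (T : Subgroup G)) = 1 := by
          rw [← hg, pow_orderOf_eq_one, map_one]
        rw [map_pow] at h3
        have := congrArg (fun f : (T : Subgroup G) ≃* (T : Subgroup G) => f w) h3
        simpa [pow_succ, MulAut.mul_apply] using this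
      set w := v * X v * X (X v) with hw
      have hfix : X w = w := by
        rw [hw, map_mul, map_mul, hX3]
        rw [hTsubcomm (X v * X (X v)) v, mul_assoc]
      by_contra hw1
      have hwG : (w : G) ≠ 1 := fun hh => hw1 (Subtype.ext hh)
      have hwo : orderOf (w : G) = 2 := hinv_of_sq _ (hT2 _ w.2) hwG
      have hfix' : g * (w : G) * g⁻¹ = w := by
        have := congrArg (fun z : (T : Subgroup G) => (z : G)) hfix
        simpa [hX, MulAut.conjNormal_apply] using this
      apply hno6 (w : G) g hwo hg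
      calc (w : G) * g = (g * (w : G) * g⁻¹) * g := by rw [hfix']
        _ = g * w := by group
    -- the index
    have hidx2 : ¬ 2 ∣ (T : Subgroup G).index := T.not_dvd_index
    have hprimes : ∀ {q : ℕ}, q.Prime → q ∣ (T : Subgroup G).index → q = 3 := by
      intro q hq hqi
      haveI : Fact q.Prime := ⟨hq⟩
      have hqG : q ∣ Nat.card G := hqi.trans (Subgroup.index_dvd_card _)
      obtain ⟨z, hz⟩ := exists_prime_orderOf_dvd_card' q hqG
      rcases hord z with h1 | h2 | h3
      · rw [h1] at hz; exact absurd hz.symm hq.one_lt.ne'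
      · exfalso; rw [h2] at hz; rw [← hz] at hqi; exact hidx2 hqi
      · rw [← hz, h3]
    have hidxpos : (T : Subgroup G).index ≠ 0 := Subgroup.index_ne_zero_of_finite
    have hidx := Nat.eq_prime_pow_of_unique_prime_dvd hidxpos (fun {d} hd hdd => hprimes hd hdd)
    set k := ((T : Subgroup G).index).primeFactorsList.length with hk
    -- k ≥ 1
    have hk1 : k ≠ 0 := by
      intro hk0
      rw [hk0, pow_zero, Subgroup.index_eq_one] at hidx
      have hx₀T : x₀ ∈ (T : Subgroup G) := by rw [hidx]; exact Subgroup.mem_top _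
      have := hT2 x₀ hx₀T
      have hdvd : orderOf x₀ ∣ 2 := orderOf_dvd_of_pow_eq_one (by rw [pow_two]; exact this)
      rw [hx₀] at hdvd
      omega
    -- k < 2
    have hk2 : k < 2 := by
      by_contra hk2
      push Not at hk2
      have h9 : 3 ^ 2 ∣ Nat.card G := by
        refine Dvd.dvd.trans ?_ (Subgroup.index_dvd_card (T : Subgroup G))
        rw [hidx]
        exact pow_dvd_pow 3 hk2
      obtain ⟨Q, hQ⟩ := Sylow.exists_subgroup_card_pow_prime 3 h9
      have hQcomm : IsMulCommutative Q := IsPGroup.isMulCommutative_of_card_eq_prime_sq hQ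
      have hQord : ∀ q ∈ Q, q ≠ 1 → orderOf q = 3 := by
        intro q hq hq1
        have hdvd : orderOf q ∣ 3 ^ 2 := by
          rw [← hQ]
          have := orderOf_dvd_natCard (⟨q, hq⟩ : Q)
          rwa [Subgroup.orderOf_mk] at this
        rcases hord q with h1 | h2 | h3
        · exact absurd (orderOf_eq_one_iff.1 h1) hq1
        · exfalso; rw [h2] at hdvd
          have : 2 ∣ 3 := Nat.Prime.dvd_of_dvd_pow Nat.prime_two hdvd
          omega
        · exact h3
      -- choose x, y
      have hQnt : Nontrivial Q := by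
        rw [← Finite.one_lt_card_iff_nontrivial, hQ]; norm_num
      obtain ⟨x', hx'⟩ := exists_ne (1 : Q)
      have hx1 : (x' : G) ≠ 1 := fun hh => hx' (Subtype.ext hh)
      have hxo : orderOf (x' : G) = 3 := hQord _ x'.2 hx1
      have hy : ∃ y' : Q, y' ∉ Subgroup.zpowers x' := by
        by_contra hall
        push Not at hall
        have htop : Subgroup.zpowers x' = ⊤ := by
          rw [eq_top_iff]; intro z _; exact hall z
        have hc : Nat.card (Subgroup.zpowers x') = 3 := by
          rw [Nat.card_zpowers, Subgroup.orderOf_coe] at *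
          · exact hxo
        rw [htop, Subgroup.card_top, hQ] at hc
        norm_num at hc
      obtain ⟨y', hy'⟩ := hy
      have hy1 : (y' : G) ≠ 1 := by
        intro hh
        apply hy'
        have : y' = 1 := Subtype.ext hh
        rw [this]; exact Subgroup.one_mem _
      have hyo : orderOf (y' : G) = 3 := hQord _ y'.2 hy1
      have hxyc : (x' : G) * y' = y' * x' := by
        have := hQcomm.is_comm.comm x' y'
        exact congrArg (fun z : Q => (z : G)) this
      have hxy1 : (x' : G) * y' ≠ 1 := by
        intro hh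
        apply hy'
        have : y' = x'⁻¹ := by
          apply Subtype.ext
          rw [Subgroup.coe_inv]
          exact (eq_inv_of_mul_eq_one_right hh)
        rw [this]
        exact Subgroup.inv_mem _ (Subgroup.mem_zpowers x')
      have hy3 : (y' : G) ^ 3 = 1 := by rw [← hyo]; exact pow_orderOf_eq_one _
      have hxyy1 : (x' : G) * y' * y' ≠ 1 := by
        intro hh
        apply hy'
        have e1 : (y' : G) * y' = (x' : G)⁻¹ := by
          have : (x' : G) * ((y' : G) * y') = 1 := by rw [← mul_assoc]; exact hh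
          exact (eq_inv_of_mul_eq_one_right this)
        have e2 : (y' : G) = ((x' : G)⁻¹) ^ 2 := by
          rw [← e1, pow_two]
          calc (y' : G) = (y' : G) ^ 3 * y' := by rw [hy3, one_mul]
            _ = y' * y' * (y' * y') := by rw [pow_succ, pow_succ, pow_one]; group
        have : y' = (x'⁻¹) ^ 2 := by
          apply Subtype.ext
          rw [Subgroup.coe_pow, Subgroup.coe_inv]
          exact e2
        rw [this]
        exact Subgroup.pow_mem _ (Subgroup.inv_mem _ (Subgroup.mem_zpowers x')) _
      have hxyo : orderOf ((x' : G) * y') = 3 :=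
        hQord _ (Subgroup.mul_mem _ x'.2 y'.2) hxy1
      have hxyyo : orderOf ((x' : G) * y' * y') = 3 :=
        hQord _ (Subgroup.mul_mem _ (Subgroup.mul_mem _ x'.2 y'.2) y'.2) hxyy1
      -- apply the counting identity
      set X : (T : Subgroup G) ≃* (T : Subgroup G) := MulAut.conjNormal (x' : G) with hX
      set Y : (T : Subgroup G) ≃* (T : Subgroup G) := MulAut.conjNormal (y' : G) with hY
      have hXY : X * Y = Y * X := by
        rw [hX, hY, ← map_mul, ← map_mul, hxyc]
      have hX3 : X ^ 3 = 1 := by
        rw [hX, ← map_pow, ← hxo, pow_orderOf_eq_one, map_one]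
      have hY3 : Y ^ 3 = 1 := by
        rw [hY, ← map_pow, hy3, map_one]
      have hNxy : ∀ v : (T : Subgroup G), v * (X * Y) v * (X * Y) ((X * Y) v) = 1 := by
        intro v
        have := hnorm _ hxyo v
        rwa [map_mul] at this
      have hNxyy : ∀ v : (T : Subgroup G),
          v * (X * Y * Y) v * (X * Y * Y) ((X * Y * Y) v) = 1 := by
        intro v
        have := hnorm _ hxyyo v
        rwa [map_mul, map_mul] at this
      have hcube := cube_eq_one hTsubcomm X Y hXY hX3 hY3 (hnorm _ hxo) (hnorm _ hyo) hNxy hNxyy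
        ⟨t, htT⟩
      have ht3 : t ^ 3 = 1 := by
        have := congrArg (fun z : (T : Subgroup G) => (z : G)) hcube
        simpa using this
      apply ht1
      calc t = t ^ 3 * (t * t)⁻¹ := by rw [pow_succ, pow_succ, pow_one]; group
        _ = 1 := by rw [ht3, ht2, inv_one, mul_one]
    have hk_eq : k = 1 := by omega
    rw [hidx, hk_eq, pow_one]
  · ---------------- the Sylow 2-subgroup has order 2
    left
    push Not at hcase
    -- hcase : ∀ a ∈ T, a ≠ 1 → a = t
    have hNC : Subgroup.normalizer ((T : Subgroup G) : Set G) ≤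
        Subgroup.centralizer ((T : Subgroup G) : Set G) := by
      intro g hg
      rw [Subgroup.mem_centralizer_iff]
      intro v hv
      by_cases hv1 : v = 1
      · rw [hv1, one_mul, mul_one]
      · have hvt : v = t := hcase v hv hv1
        rw [hvt]
        have hgt : g * t * g⁻¹ ∈ (T : Subgroup G) := (Subgroup.mem_normalizer_iff.1 hg t).1 htT
        have hgt1 : g * t * g⁻¹ ≠ 1 := by
          intro hh
          apply ht1
          have : t = g⁻¹ * (g * t * g⁻¹) * g := by group
          rw [this, hh]; group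
        have := hcase _ hgt hgt1
        calc t * g = (g * t * g⁻¹) * g := by rw [this]
          _ = g * t := by group
    set K := (MonoidHom.transferSylow T hNC).ker with hK
    have hKc : Subgroup.IsComplement' K (T : Subgroup G) :=
      MonoidHom.ker_transferSylow_isComplement' T hNC
    have hKn : K.Normal := MonoidHom.normal_ker _
    have hTeq : (T : Subgroup G) = Subgroup.zpowers t := by
      apply le_antisymm
      · intro v hv
        by_cases hv1 : v = 1
        · rw [hv1]; exact Subgroup.one_mem _
        · rw [hcase v hv hv1]; exact Subgroup.mem_zpowers t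
      · rw [Subgroup.zpowers_le]; exact htT
    have hTcard : Nat.card (T : Subgroup G) = 2 := by
      rw [hTeq, Nat.card_zpowers, hto]
    have hKidx : K.index = 2 := by rw [hKc.symm.index_eq_card, hTcard]
    have hK2 : ¬ 2 ∣ Nat.card K := MonoidHom.not_dvd_card_ker_transferSylow T hNC
    -- elements of K have order 1 or 3
    have hK3 : ∀ a ∈ K, a ≠ 1 → orderOf a = 3 := by
      intro a ha ha1
      rcases hord a with h1 | h2 | h3
      · exact absurd (orderOf_eq_one_iff.1 h1) ha1
      · exfalso
        apply hK2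
        have := orderOf_dvd_natCard (⟨a, ha⟩ : K)
        rwa [Subgroup.orderOf_mk, h2] at this
      · exact h3
    have hKcube : ∀ a ∈ K, a ^ 3 = 1 := by
      intro a ha
      by_cases ha1 : a = 1
      · rw [ha1, one_pow]
      · rw [← hK3 a ha ha1]; exact pow_orderOf_eq_one a
    have htinv : t⁻¹ = t := inv_eq_of_mul_eq_one_right ht2
    -- t acts without fixed points on K
    have hfpf : ∀ a ∈ K, t * a * t⁻¹ = a → a = 1 := by
      intro a ha hfix
      by_contra ha1
      apply hno6 t a hto (hK3 a ha ha1)
      calc t * a = (t * a * t⁻¹) * t := by group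
        _ = a * t := by rw [hfix]
    -- the map a ↦ a⁻¹ * (t a t⁻¹) on K
    let φ : K → K := fun a => ⟨(a : G)⁻¹ * (t * a * t⁻¹),
      K.mul_mem (K.inv_mem a.2) (hKn.conj_mem a a.2 t)⟩
    have hφinj : Function.Injective φ := by
      intro a b hab
      have hab' : (a : G)⁻¹ * (t * a * t⁻¹) = (b : G)⁻¹ * (t * b * t⁻¹) :=
        congrArg (fun z : K => (z : G)) hab
      have hfix : t * ((b : G) * (a : G)⁻¹) * t⁻¹ = (b : G) * (a : G)⁻¹ := by
        calc t * ((b : G) * (a : G)⁻¹) * t⁻¹
            = (t * b * t⁻¹) * (t * a * t⁻¹)⁻¹ := by group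
          _ = b * ((b : G)⁻¹ * (t * b * t⁻¹)) * (t * a * t⁻¹)⁻¹ := by group
          _ = b * ((a : G)⁻¹ * (t * a * t⁻¹)) * (t * a * t⁻¹)⁻¹ := by rw [hab']
          _ = b * (a : G)⁻¹ := by group
      have h1 := hfpf _ (K.mul_mem b.2 (K.inv_mem a.2)) hfix
      apply Subtype.ext
      have : (b : G) = a := by
        have := mul_inv_eq_one.1 h1
        exact this
      exact this.symm
    have hφsurj : Function.Surjective φ := Finite.surjective_of_injective hφinj
    -- t inverts K
    have hinvK : ∀ c ∈ K, t * c * t⁻¹ = c⁻¹ := by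
      intro c hc
      obtain ⟨a, ha⟩ := hφsurj ⟨c, hc⟩
      have hca : c = (a : G)⁻¹ * (t * a * t⁻¹) := (congrArg (fun z : K => (z : G)) ha).symm
      rw [hca]
      calc t * ((a : G)⁻¹ * (t * a * t⁻¹)) * t⁻¹
          = (t * a * t⁻¹)⁻¹ * ((t * t) * a * (t * t)⁻¹) := by group
        _ = (t * a * t⁻¹)⁻¹ * a := by rw [ht2]; group
        _ = ((a : G)⁻¹ * (t * a * t⁻¹))⁻¹ := by group
    have hKcomm : ∀ a ∈ K, ∀ b ∈ K, a * b = b * a := by
      intro a ha b hb
      have h1 := hinvK (a * b) (K.mul_mem ha hb)
      have h2 : t * (a * b) * t⁻¹ = (t * a * t⁻¹) * (t * b * t⁻¹) := by group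
      rw [h2, hinvK a ha, hinvK b hb, mul_inv_rev] at h1
      -- h1 : a⁻¹ * b⁻¹ = b⁻¹ * a⁻¹
      have h3 := congrArg (fun z => z⁻¹) h1
      simp only [mul_inv_rev, inv_inv] at h3
      exact h3.symm
    exact ⟨K, hKn, ⟨isMulCommutative_iff.2 (fun u v => Subtype.ext (hKcomm u u.2 v v.2)),
      hKcube⟩, hKidx⟩

end Cfsg.Agent.S4005
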