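import Cfsg.Statements.S4006
import Cfsg.Agent.Lib.Helper68_O4A
import Cfsg.Agent.Lib.Helper68_O4B
import Cfsg.Agent.Lib.Helper61_AffineSpec

set_option autoImplicit false
open Cfsg

namespace Cfsg.Agent.S4006

open Cfsg.Agent.Lib.Helper68_O4

theorem primeFactors_twelve : (12 : ℕ).primeFactors ⊆ {2, 3} := by
  intro r hr
  have hrp : r.Prime := Nat.prime_of_mem_primeFactors hr
  have hrd : r ∣ 12 := Nat.dvd_of_mem_primeFactors hr
  have h12 : (12 : ℕ) = 2 ^ 2 * 3 := by norm_num
  rw [h12] at hrd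
  simp only [Finset.mem_insert, Finset.mem_singleton]
  rcases (Nat.Prime.dvd_mul hrp).1 hrd with h | h
  · left
    exact (Nat.prime_dvd_prime_iff_eq hrp Nat.prime_two).1 (hrp.dvd_of_dvd_pow h)
  · right
    exact (Nat.prime_dvd_prime_iff_eq hrp Nat.prime_three).1 h

/-- A finite group whose set of element orders is exactly {1, 2, 3, 4} has a normal subgroup N such that either N is a 2-group of exponent 4 and nilpotency class at most 2 with G/N of order 3, or N is an elementary abelian 2-group with G/N isomorphic to the symmetric group of degree 3, or N is an elementary abelian 3-group with G/N cyclic of order 4 or quaternion of order 8. -/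
theorem result {G : Type*} [Group G] [Finite G] (h : Set.range (orderOf : G → ℕ) = {k : ℕ | 1 ≤ k ∧ k ≤ 4}) :
    ∃ (N : Subgroup G) (_ : N.Normal),
      (IsPGroup 2 ↥N ∧ Monoid.exponent ↥N = 4 ∧ Group.nilpotencyClass ↥N ≤ 2 ∧ N.index = 3) ∨
      (Cfsg.IsElementaryAbelian 2 N ∧ Nonempty (G ⧸ N ≃* Equiv.Perm (Fin 3))) ∨
      (Cfsg.IsElementaryAbelian 3 N ∧ ((IsCyclic (G ⧸ N) ∧ N.index = 4) ∨ Nonempty (G ⧸ N ≃* QuaternionGroup 2))) := by
  classical
  have hall : ∀ g : G, 1 ≤ orderOf g ∧ orderOf g ≤ 4 := by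
    intro g
    have : orderOf g ∈ Set.range (orderOf : G → ℕ) := Set.mem_range_self g
    rw [h] at this
    exact this
  have hO4 : O4 G := by
    intro g
    obtain ⟨h1, h4⟩ := hall g
    have hpow := pow_orderOf_eq_one g
    interval_cases hk : orderOf g
    · right
      rw [pow_one] at hpow
      rw [hpow, one_pow]
    · right
      rw [show 4 = 2 * 2 by norm_num, pow_mul, hpow, one_pow]
    · left; exact hpow
    · right; exact hpow
  have hex : ∀ k : ℕ, 1 ≤ k → k ≤ 4 → ∃ g : G, orderOf g = k := by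
    intro k hk1 hk4
    have : k ∈ {k : ℕ | 1 ≤ k ∧ k ≤ 4} := ⟨hk1, hk4⟩
    rw [← h] at this
    exact this
  obtain ⟨j, hj⟩ := hex 2 (by norm_num) (by norm_num)
  obtain ⟨s, hs⟩ := hex 3 (by norm_num) (by norm_num)
  obtain ⟨g4, hg4⟩ := hex 4 (by norm_num) (by norm_num)
  have hsolv : Group.IsSolvable G := by
    apply Cfsg.Agent.Lib.Helper61_AffineSpec.isSolvable_of_forall_pow_eq_one 12 (by norm_num)
      primeFactors_twelve
    intro g
    rcases hO4 g with h3 | h4
    · rw [show 12 = 3 * 4 by norm_num, pow_mul, h3, one_pow]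
    · rw [show 12 = 4 * 3 by norm_num, pow_mul, h4, one_pow]
  have hp2 : Fact (Nat.Prime 2) := ⟨Nat.prime_two⟩
  have hp3 : Fact (Nat.Prime 3) := ⟨Nat.prime_three⟩
  by_cases hA : Cfsg.pPrimeCore 2 G = ⊥
  · -- `O_3(G) = 1`
    have hCQ := Cfsg.Agent.Lib.Helper55_Fitting.centralizer_pCore_le 2 hA
    have hQn : (Cfsg.pCore 2 G).Normal := Cfsg.Agent.Lib.Helper1_Cores.pCore_normal 2
    have hQ : IsPGroup 2 (Cfsg.pCore 2 G) := Cfsg.Agent.Lib.Helper1_Cores.pCore_isPGroup 2
    have hmax : ∀ N : Subgroup G, N.Normal → IsPGroup 2 N → N ≤ Cfsg.pCore 2 G :=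
      fun N hN hNp => Cfsg.Agent.Lib.Helper1_Cores.le_pCore hN hNp
    refine ⟨Cfsg.pCore 2 G, hQn, ?_⟩
    rcases two_core_case hO4 (Cfsg.pCore 2 G) hQ hmax hCQ hs hg4 with h1 | h2
    · exact Or.inl h1
    · exact Or.inr (Or.inl h2)
  · -- `O_2(G) = 1`
    have hB : Cfsg.pPrimeCore 3 G = ⊥ := by
      by_contra hB
      have hAn : (Cfsg.pPrimeCore 2 G).Normal := Cfsg.Agent.Lib.Helper1_Cores.pPrimeCore_normal 2
      have hBn : (Cfsg.pPrimeCore 3 G).Normal := Cfsg.Agent.Lib.Helper1_Cores.pPrimeCore_normal 3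
      have hAc := Cfsg.Agent.Lib.Helper1_Cores.pPrimeCore_card_coprime (G := G) 2
      have hBc := Cfsg.Agent.Lib.Helper1_Cores.pPrimeCore_card_coprime (G := G) 3
      have hA3 : ∀ a ∈ Cfsg.pPrimeCore 2 G, a ^ 3 = 1 := by
        intro a ha
        rcases hO4 a with h3 | h4
        · exact h3
        · have h1 : orderOf a ∣ 4 := orderOf_dvd_of_pow_eq_one h4
          have h2 : orderOf a ∣ Nat.card (Cfsg.pPrimeCore 2 G) := by
            have := orderOf_dvd_natCard (⟨a, ha⟩ : Cfsg.pPrimeCore 2 G)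
            rwa [Subgroup.orderOf_mk] at this
          have hcop : Nat.Coprime 4 (Nat.card (Cfsg.pPrimeCore 2 G)) := by
            have : Nat.Coprime (2 ^ 2) (Nat.card (Cfsg.pPrimeCore 2 G)) :=
              Nat.Coprime.pow_left 2 hAc.symm
            simpa using this
          have : orderOf a = 1 := Nat.eq_one_of_dvd_coprimes hcop h1 h2
          rw [orderOf_eq_one_iff] at this
          rw [this, one_pow]
      have hB4 : ∀ b ∈ Cfsg.pPrimeCore 3 G, b ^ 4 = 1 := by
        intro b hb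
        rcases hO4 b with h3 | h4
        · have h1 : orderOf b ∣ 3 := orderOf_dvd_of_pow_eq_one h3
          have h2 : orderOf b ∣ Nat.card (Cfsg.pPrimeCore 3 G) := by
            have := orderOf_dvd_natCard (⟨b, hb⟩ : Cfsg.pPrimeCore 3 G)
            rwa [Subgroup.orderOf_mk] at this
          have : orderOf b = 1 := Nat.eq_one_of_dvd_coprimes hBc.symm h1 h2
          rw [orderOf_eq_one_iff] at this
          rw [this, one_pow]
        · exact h4
      have hdis : Disjoint (Cfsg.pPrimeCore 2 G) (Cfsg.pPrimeCore 3 G) := by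
        rw [Subgroup.disjoint_def]
        intro x hx1 hx2
        exact eq_one_of_pow_three_of_pow_four (hA3 x hx1) (hB4 x hx2)
      obtain ⟨a, ha1⟩ := (Subgroup.ne_bot_iff_exists_ne_one).1 hA
      obtain ⟨b, hb1⟩ := (Subgroup.ne_bot_iff_exists_ne_one).1 hB
      have hcomm := Subgroup.commute_of_normal_of_disjoint _ _ hAn hBn hdis a.1 b.1 a.2 b.2
      rcases hO4.eq_one_of_commute (hA3 _ a.2) (hB4 _ b.2) hcomm.eq with h1 | h1
      · exact ha1 (Subtype.ext h1)
      · exact hb1 (Subtype.ext h1)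
    have hCP := Cfsg.Agent.Lib.Helper55_Fitting.centralizer_pCore_le 3 hB
    have hPn : (Cfsg.pCore 3 G).Normal := Cfsg.Agent.Lib.Helper1_Cores.pCore_normal 3
    have hP : IsPGroup 3 (Cfsg.pCore 3 G) := Cfsg.Agent.Lib.Helper1_Cores.pCore_isPGroup 3
    refine ⟨Cfsg.pCore 3 G, hPn, Or.inr (Or.inr ?_)⟩
    exact three_core_case hO4 (Cfsg.pCore 3 G) hP hCP hj hg4

end Cfsg.Agent.S4006
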