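import Cfsg.Statements.S4013

set_option autoImplicit false
open Cfsg

namespace Cfsg.Agent.S4013

/-- Let G be a finite p-group (p prime) and N < M normal subgroups of G such that for some g ∈ M ∖ N the conjugacy class of g is exactly M ∖ N. Then p = 2 and N has index 2 in M. -/
theorem result {G : Type*} [Group G] [Finite G] (p : ℕ) [Fact p.Prime] (hG : IsPGroup p G) (N M : Subgroup G) [N.Normal] [M.Normal] (hNM : N < M) (g : G) (hgM : g ∈ M) (hgN : g ∉ N) (hcl : {h : G | IsConj g h} = (M : Set G) \ (N : Set G)) : p = 2 ∧ N.relIndex M = 2 := by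
  classical
  have hp : p.Prime := Fact.out
  -- the class is an orbit of the conjugation action, so its size is a power of p
  have horb : {h : G | IsConj g h} = MulAction.orbit (ConjAct G) g := by
    ext h
    rw [ConjAct.mem_orbit_conjAct, isConj_comm]
    rfl
  have hGc : IsPGroup p (ConjAct G) := hG
  obtain ⟨a, ha⟩ := hGc.card_orbit (α := G) g
  have hcard : Nat.card ((M : Set G) \ (N : Set G) : Set G) = p ^ a := by
    rw [← hcl, horb]; exact ha
  -- sizes
  have hNle : N ≤ M := le_of_lt hNM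
  obtain ⟨b, hb⟩ := (hG.to_subgroup N).exists_card_eq
  have hrel : N.relIndex M ∣ Nat.card G := (Subgroup.relIndex_dvd_card N M).trans (Subgroup.card_subgroup_dvd_card M)
  obtain ⟨c, hc⟩ := hG.exists_card_eq
  obtain ⟨j, hj, hj'⟩ := (Nat.dvd_prime_pow hp).1 (hc ▸ hrel)
  have hMcard : Nat.card M = Nat.card N * N.relIndex M := by
    have := Subgroup.relIndex_mul_relIndex (⊥ : Subgroup G) N M bot_le hNle
    simpa [Subgroup.relIndex_bot_left] using this.symm
  have hdiff : Nat.card ((M : Set G) \ (N : Set G) : Set G) = Nat.card M - Nat.card N := by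
    rw [Nat.card_coe_set_eq, Set.ncard_sdiff (by exact_mod_cast hNle) (Set.toFinite _)]
    rfl
  have hj1 : 1 ≤ j := by
    rcases Nat.eq_zero_or_pos j with h0 | h0
    · exfalso
      rw [h0, pow_zero] at hj'
      exact (not_le_of_gt hNM) (Subgroup.relIndex_eq_one.1 hj')
    · exact h0
  -- the arithmetic
  have hkey : p ^ a = p ^ b * (p ^ j - 1) := by
    rw [← hcard, hdiff, hMcard, hb, hj', Nat.mul_sub, mul_one]
  have hdvd : p ^ j - 1 ∣ p ^ a := ⟨p ^ b, by rw [hkey, mul_comm]⟩
  obtain ⟨e, he, he'⟩ := (Nat.dvd_prime_pow hp).1 hdvd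
  have hpj : 2 ≤ p ^ j := by
    calc 2 ≤ p := hp.two_le
      _ = p ^ 1 := (pow_one p).symm
      _ ≤ p ^ j := Nat.pow_le_pow_right hp.pos hj1
  have he0 : e = 0 := by
    by_contra hne
    have h1 : p ∣ p ^ e := dvd_pow_self p hne
    have h2 : p ∣ p ^ j := dvd_pow_self p (by omega)
    have h3 : p ^ j = p ^ e + 1 := by omega
    rw [h3] at h2
    have h4 : p ∣ 1 := (Nat.dvd_add_right h1).1 h2
    exact hp.one_lt.ne' (Nat.dvd_one.1 h4)
  rw [he0, pow_zero] at he'
  have hpj2 : p ^ j = 2 := by omega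
  have hp2 : p = 2 := by
    have : p ∣ 2 := hpj2 ▸ dvd_pow_self p (by omega)
    exact (Nat.prime_dvd_prime_iff_eq hp Nat.prime_two).1 this
  exact ⟨hp2, by rw [hj', hpj2]⟩

end Cfsg.Agent.S4013
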