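import Cfsg.Statements.S4015
import Cfsg.Agent.Lib.Helper24_LinearLogP
import Cfsg.Agent.Lib.Helper24_WreathLinear

set_option autoImplicit false
open Cfsg

namespace Cfsg.Agent.S4015

/-- Let p be an odd prime, F a finite field with q elements where p does not divide q, and e the multiplicative order of q modulo p. Let n ≥ e and write w = ⌊n/e⌋ and k = ⌊log_p w⌋. Then a Sylow p-subgroup of GL(n, F) has derived length exactly k + 1: its (k+1)-st derived subgroup is trivial and its k-th is not. -/
theorem result (p : ℕ) [Fact p.Prime] (hp : p ≠ 2) (F : Type*) [Field F] [Fintype F] (q : ℕ) (hq : Fintype.card F = q) (hpq : ¬ p ∣ q) (n : ℕ) (hn : orderOf (q : ZMod p) ≤ n) (P : Sylow p (Matrix.GeneralLinearGroup (Fin n) F)) : derivedSeries ↥(P : Subgroup (Matrix.GeneralLinearGroup (Fin n) F)) (Nat.log p (n / orderOf (q : ZMod p)) + 1) = ⊥ ∧ derivedSeries ↥(P : Subgroup (Matrix.GeneralLinearGroup (Fin n) F)) (Nat.log p (n / orderOf (q : ZMod p))) ≠ ⊥ := by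
  have hq0 : (q : ZMod p) ≠ 0 := fun h => hpq ((ZMod.natCast_eq_zero_iff q p).mp h)
  have he1 : 1 ≤ orderOf (q : ZMod p) := by
    have : IsOfFinOrder (q : ZMod p) := by
      rw [isOfFinOrder_iff_pow_eq_one]
      exact ⟨p - 1, Nat.sub_pos_of_lt (Fact.out : p.Prime).one_lt, ZMod.pow_card_sub_one_eq_one hq0⟩
    exact orderOf_pos_iff.mpr this
  constructor
  · let f : ↥(P : Subgroup (Matrix.GeneralLinearGroup (Fin n) F)) →* Matrix (Fin n) (Fin n) F :=
      (Units.coeHom _).comp (P : Subgroup (Matrix.GeneralLinearGroup (Fin n) F)).subtype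
    have hf : Function.Injective f := fun a b h => Subtype.ext (Units.ext h)
    exact Cfsg.Agent.Lib.Helper24_LinearLogP.derivedSeries_eq_bot_of_finite_field_p q hq p hpq n
      (orderOf (q : ZMod p)) rfl hn P.2 f hf
  · set e := orderOf (q : ZMod p) with he
    set k := Nat.log p (n / e) with hk
    have hw : n / e ≠ 0 := by
      have : 1 ≤ n / e := (Nat.one_le_div_iff (by omega)).mpr hn
      omega
    have hpk : p ^ k ≤ n / e := Nat.pow_log_le_self p hw
    have hle : p ^ k * e ≤ n := by
      calc p ^ k * e ≤ (n / e) * e := Nat.mul_le_mul_right e hpk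
        _ ≤ n := Nat.div_mul_le_self n e
    have hdvd : p ∣ Fintype.card F ^ e - 1 := by
      rw [hq, ← ZMod.natCast_eq_zero_iff, Nat.cast_sub (Nat.one_le_pow _ _ (by
        rcases Nat.eq_zero_or_pos q with h | h
        · exfalso; apply hpq; rw [h]; exact dvd_zero p
        · exact h))]
      push_cast
      rw [he, pow_orderOf_eq_one, sub_self]
    have h0 := Cfsg.Agent.Lib.Helper24_WreathLinear.hasLinearPGroup_base (F := F) p e he1 hdvd
    have h1 := h0.iterate k
    have h2 := h1.pad (n - p ^ k * e)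
    rw [zero_add, Nat.add_sub_cancel' hle] at h2
    exact Cfsg.Agent.Lib.Helper24_WreathLinear.sylow_derivedSeries_ne_bot p h2 P

end Cfsg.Agent.S4015
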