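import Mathlib
import Cfsg.Statements.S4480
import Cfsg.Agent.S0925
import Cfsg.Agent.S4479
import Cfsg.Agent.Lib.Helper30_SectionNorm
import Cfsg.Agent.Lib.Helper30_KleinFour
import Cfsg.Agent.Lib.Helper74_FS
import Cfsg.Agent.Lib.Helper74_FS2
import Cfsg.Agent.Lib.Helper74_FS3
import Cfsg.Agent.Lib.Helper75_CharProd
import Cfsg.Agent.Lib.Helper80_CharBasic
import Cfsg.Agent.Lib.Helper78_LocalRing

set_option autoImplicit false
open Cfsg

namespace Cfsg.Agent.S4480

open scoped ComplexConjugate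
open Subgroup

universe u

/-! ### number theory -/

theorem number_theory (G0 cJ cP u q g0 o c0 : ℕ) (hG : G0 = 4 * g0)
    (hcJ : cJ = 4 * o) (hcP : cP = 4 * c0) (hc0o : c0 ∣ o)
    (hog0 : o ∣ g0) (hu : 0 < u) (hq : q = 2 * u + 1) (hcP0 : 0 < cP) (hcJ0 : 0 < cJ)
    (hres : (G0 : ℚ) = 8 * (((u : ℚ) * u * q) / (((u : ℚ) + 1) * ((u : ℚ) + 1) *
      ((q : ℚ) + ((-1 : ℤ) : ℚ)))) * (cJ : ℚ) ^ 3 / (cP : ℚ) ^ 2) :
    ∃ m : ℕ, 4 * cJ = m * cP * (q + 1) ∧ 8 * G0 = m ^ 3 * cP * (q ^ 3 - q) := by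
  obtain ⟨A, hA⟩ := hc0o
  obtain ⟨I, hI⟩ := hog0
  have hc0pos : 0 < c0 := by
    rcases Nat.eq_zero_or_pos c0 with h | h
    · rw [h] at hcP; omega
    · exact h
  have hApos : 0 < A := by
    rcases Nat.eq_zero_or_pos A with h | h
    · rw [h, mul_zero] at hA; rw [hA] at hcJ; omega
    · exact h
  have hc0q : (c0 : ℚ) ≠ 0 := by exact_mod_cast hc0pos.ne'
  have hAq : (A : ℚ) ≠ 0 := by exact_mod_cast hApos.ne'
  have huq : (u : ℚ) ≠ 0 := by exact_mod_cast hu.ne'
  have hu1q : (u : ℚ) + 1 ≠ 0 := by positivity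
  have hq1 : (q : ℚ) + ((-1 : ℤ) : ℚ) = 2 * u := by
    rw [hq]; push_cast; ring
  have h1 : (G0 : ℚ) * (((u : ℚ) + 1) * ((u : ℚ) + 1) * (2 * u)) * (cP : ℚ) ^ 2 =
      8 * ((u : ℚ) * u * q) * (cJ : ℚ) ^ 3 := by
    rw [hres, hq1]
    have hcPq : (cP : ℚ) ≠ 0 := by exact_mod_cast hcP0.ne'
    field_simp
  have hE2q : (I : ℚ) * ((u : ℚ) + 1) ^ 2 = 4 * u * q * (A : ℚ) ^ 2 := by
    have h2 : (G0 : ℚ) = 4 * ((c0 : ℚ) * A * I) := by
      rw [hG, hI, hA]; push_cast; ring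
    have h3 : (cJ : ℚ) = 4 * ((c0 : ℚ) * A) := by
      rw [hcJ, hA]; push_cast; ring
    have h4 : (cP : ℚ) = 4 * c0 := by
      rw [hcP]; push_cast; ring
    rw [h2, h3, h4] at h1
    have h5 : (128 * (c0 : ℚ) ^ 3 * A * u) ≠ 0 := by positivity
    apply mul_left_cancel₀ h5
    linear_combination h1
  have hE2 : I * (u + 1) ^ 2 = 4 * u * q * A ^ 2 := by exact_mod_cast hE2q
  have hcop1 : Nat.Coprime (u + 1) u := by simp
  have hcop2 : Nat.Coprime (u + 1) q := by
    rw [hq]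
    have : 2 * u + 1 = u + (u + 1) := by ring
    rw [this]
    simp
  have hdvd : (u + 1) ^ 2 ∣ (2 * A) ^ 2 := by
    have h6 : (u + 1) ^ 2 ∣ u * (q * (2 * A) ^ 2) := by
      refine ⟨I, ?_⟩
      rw [mul_comm ((u + 1) ^ 2) I, hE2]
      ring
    have h7 : (u + 1) ^ 2 ∣ q * (2 * A) ^ 2 :=
      (Nat.Coprime.pow_left 2 hcop1).dvd_of_dvd_mul_left h6
    exact (Nat.Coprime.pow_left 2 hcop2).dvd_of_dvd_mul_left h7
  have hdvd' : (u + 1) ∣ 2 * A := (Nat.pow_dvd_pow_iff (by norm_num)).1 hdvd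
  obtain ⟨m, hm⟩ := hdvd'
  have hIval : I = u * q * m ^ 2 := by
    have h8 : I * (u + 1) ^ 2 = (u * q * m ^ 2) * (u + 1) ^ 2 := by
      rw [hE2]
      have : 4 * u * q * A ^ 2 = u * q * (2 * A) ^ 2 := by ring
      rw [this, hm]
      ring
    exact Nat.eq_of_mul_eq_mul_right (by positivity) h8
  refine ⟨m, ?_, ?_⟩
  · rw [hcJ, hcP, hA, hq]
    have : 4 * (4 * (c0 * A)) = 8 * c0 * (2 * A) := by ring
    rw [this, hm]
    ring
  · have hq3 : q ^ 3 - q = q * (2 * u) * (2 * u + 2) := by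
      apply Nat.sub_eq_of_eq_add
      rw [hq]
      ring
    rw [hq3, hG, hI, hA, hIval, hcP]
    have : 8 * (4 * (c0 * A * (u * q * m ^ 2))) = 16 * c0 * u * q * m ^ 2 * (2 * A) := by ring
    rw [this, hm]
    ring

/-! ### Frobenius–Schur indicators -/

open Cfsg.Agent.Lib.Helper74_FS

/-- the value of a character at an involution has the parity of the degree -/
theorem char_involution {G : Type u} [Group G] {n : ℕ} (ρ : Representation ℂ G (Fin n → ℂ))
    {J : G} (hJ : J * J = 1) : ∃ r : ℕ, ρ.character J = 2 * (r : ℂ) - n := by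
  obtain ⟨f, hf⟩ : ∃ f : Module.End ℂ (Fin n → ℂ), f = ρ J := ⟨_, rfl⟩
  have hff : f * f = 1 := by rw [hf, ← map_mul, hJ, map_one]
  obtain ⟨P, hP⟩ : ∃ P : Module.End ℂ (Fin n → ℂ), P = (2 : ℂ)⁻¹ • (1 + f) := ⟨_, rfl⟩
  have hidem : IsIdempotentElem P := by
    unfold IsIdempotentElem
    rw [hP, smul_mul_smul_comm]
    have h1 : (1 + f) * (1 + f) = (2 : ℂ) • (1 + f) := by
      rw [mul_add, add_mul, add_mul, one_mul, mul_one, one_mul, hff, two_smul]
      abel
    rw [h1, smul_smul]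
    congr 1
    norm_num
  have htr := (LinearMap.IsIdempotentElem.isProj_range P hidem).trace
  refine ⟨Module.finrank ℂ (LinearMap.range P), ?_⟩
  have h1 : LinearMap.trace ℂ _ P = (2 : ℂ)⁻¹ * ((n : ℂ) + ρ.character J) := by
    rw [hP, map_smul, map_add, LinearMap.trace_one, smul_eq_mul, hf]
    simp [Representation.character]
  rw [h1] at htr
  linear_combination 2 * htr

/-- a real-valued irreducible character with value `±1` at an involution has indicator `1` -/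
theorem fsInd_eq_one_of_real {G : Type u} [Group G] [Fintype G] {χ : G → ℂ}
    (hχ : IsIrrCharacter G χ) (hreal : ∀ g, (χ g).im = 0) {J : G} (hJ : J * J = 1)
    (hJv : χ J = 1 ∨ χ J = -1) : fsInd χ = 1 := by
  obtain ⟨n, ρ, hirr, rfl⟩ := hχ
  have := hirr
  obtain ⟨r, hr⟩ := char_involution ρ hJ
  have hodd : Odd n := by
    rcases hJv with h | h
    · rw [h] at hr
      have h2 : ((n : ℤ) : ℂ) = ((2 * (r : ℤ) - 1 : ℤ) : ℂ) := by
        push_cast
        linear_combination hr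
      have h3 : (n : ℤ) = 2 * (r : ℤ) - 1 := by exact_mod_cast h2
      have h4 : Odd (n : ℤ) := by
        rw [h3]
        exact ⟨(r : ℤ) - 1, by ring⟩
      exact_mod_cast h4
    · rw [h] at hr
      have h2 : ((n : ℤ) : ℂ) = ((2 * (r : ℤ) + 1 : ℤ) : ℂ) := by
        push_cast
        linear_combination hr
      have h3 : (n : ℤ) = 2 * (r : ℤ) + 1 := by exact_mod_cast h2
      have h4 : Odd (n : ℤ) := by
        rw [h3]
        exact ⟨(r : ℤ), by ring⟩
      exact_mod_cast h4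
  have hfr := finrank_invariants_formRep_of_real ρ hreal
  have hne : (formRep ρ).invariants ≠ ⊥ := by
    intro h
    rw [h, finrank_bot] at hfr
    omega
  rcases fsInd_trichotomy ρ with ⟨-, hbot⟩ | ⟨-, h1 | h1⟩
  · exact absurd hbot hne
  · exact h1
  · exfalso
    obtain ⟨M, hM, hM0⟩ := (Submodule.ne_bot_iff _).mp hne
    have hu := isUnit_of_invariant ρ M hM hM0
    have hT := transpose_eq_fsInd_smul ρ hreal M hM
    rw [h1] at hT
    have hdet : M.det = (-1) ^ n * M.det := by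
      calc M.det = (Matrix.transpose M).det := (Matrix.det_transpose M).symm
        _ = ((-1 : ℂ) • M).det := by rw [hT]
        _ = (-1) ^ n * M.det := by rw [Matrix.det_smul, Fintype.card_fin]
    have hdet0 : M.det ≠ 0 := ((Matrix.isUnit_iff_isUnit_det M).mp hu).ne_zero
    rw [Odd.neg_one_pow hodd] at hdet
    apply hdet0
    linear_combination (1 / 2 : ℂ) * hdet

/-- the complex conjugate character -/
noncomputable def conjIrrChar {G : Type u} [Group G] [Fintype G] (χ : IrrCharacter G) :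
    IrrCharacter G :=
  ⟨fun g => conj ((χ : G → ℂ) g), Cfsg.Agent.Lib.Helper75_CharProd.isIrrCharacter_conj χ.2⟩

theorem conjIrrChar_apply {G : Type u} [Group G] [Fintype G] (χ : IrrCharacter G) (g : G) :
    (conjIrrChar χ : G → ℂ) g = conj ((χ : G → ℂ) g) := rfl

theorem conjIrrChar_conjIrrChar {G : Type u} [Group G] [Fintype G] (χ : IrrCharacter G) :
    conjIrrChar (conjIrrChar χ) = χ := by
  apply Subtype.ext
  funext g
  rw [conjIrrChar_apply, conjIrrChar_apply, Complex.conj_conj]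

/-- the principal block is stable under complex conjugation -/
theorem conj_mem_principalBlock {G : Type u} [Group G] [Fintype G] (M : Ideal AlgInt)
    (χ : IrrCharacter G) (hχ : χ ∈ principalBlock M G) : conjIrrChar χ ∈ principalBlock M G := by
  show SameBlock M _ _
  intro g
  have h : MemLocalIdeal M (centralChar (fun _ : G => (1 : ℂ)) g⁻¹ -
      centralChar (χ : G → ℂ) g⁻¹) := hχ g⁻¹
  have hc : centralizer ({g⁻¹} : Set G) = centralizer ({g} : Set G) := by
    ext x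
    rw [Subgroup.mem_centralizer_singleton_iff, Subgroup.mem_centralizer_singleton_iff]
    constructor
    · intro h1
      calc x * g = g * (g⁻¹ * x) * g := by group
        _ = g * (x * g⁻¹) * g := by rw [h1]
        _ = g * x := by group
    · intro h1
      calc x * g⁻¹ = g⁻¹ * (g * x) * g⁻¹ := by group
        _ = g⁻¹ * (x * g) * g⁻¹ := by rw [h1]
        _ = g⁻¹ * x := by group
  have e1 : centralChar (fun _ : G => (1 : ℂ)) g = centralChar (fun _ : G => (1 : ℂ)) g⁻¹ := by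
    unfold centralChar
    rw [hc]
  have e2 : centralChar (conjIrrChar χ : G → ℂ) g = centralChar (χ : G → ℂ) g⁻¹ := by
    unfold centralChar
    rw [hc, conjIrrChar_apply, conjIrrChar_apply,
      ← Cfsg.Agent.Lib.Helper80_CharBasic.irr_inv χ g,
      ← Cfsg.Agent.Lib.Helper80_CharBasic.irr_inv χ 1, inv_one]
  rw [e1, e2]
  exact h

/-- no element of the `2`-section of an involution is a square, when the Sylow `2`-subgroups
have exponent two -/
theorem sqrtCount_eq_zero {G : Type u} [Group G] [Fintype G] (P : Sylow 2 G)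
    (hP : ∀ x ∈ (P : Subgroup G), x * x = 1) {w z : G} (hw : IsPPart 2 w z)
    (hz : orderOf z = 2) : sqrtCount w = 0 := by
  classical
  unfold sqrtCount
  rw [Nat.cast_eq_zero, Finset.card_eq_zero, Finset.filter_eq_empty_iff]
  intro s _ hs
  obtain ⟨y, hzy, hcomm, -, hy⟩ := hw
  have hodd : Odd (orderOf y) := by
    rw [Nat.odd_iff]
    omega
  obtain ⟨k, hk⟩ := hodd
  have hzz := Cfsg.Agent.Lib.Helper30_KleinFour.mul_self_of_order_two hz
  obtain ⟨t, ht0⟩ : ∃ t, t = s ^ (orderOf y) := ⟨_, rfl⟩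
  have ht : t * t = z := by
    calc t * t = (s * s) ^ orderOf y := by
          rw [ht0, ← pow_two, ← pow_mul, mul_comm, pow_mul, pow_two]
      _ = (z * y) ^ orderOf y := by rw [hs, hzy]
      _ = z ^ orderOf y * y ^ orderOf y := hcomm.mul_pow _
      _ = z := by
          rw [pow_orderOf_eq_one, mul_one, hk, pow_succ, pow_mul, pow_two, hzz, one_pow, one_mul]
  have ht4 : t ^ 4 = 1 := by
    calc t ^ 4 = (t * t) * (t * t) := by
          rw [show (4 : ℕ) = 2 + 2 from rfl, pow_add, pow_two]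
      _ = 1 := by rw [ht, hzz]
  have hord : orderOf t ∣ 2 ^ 2 := by
    norm_num
    exact orderOf_dvd_of_pow_eq_one ht4
  obtain ⟨j, -, hj⟩ := (Nat.dvd_prime_pow Nat.prime_two).1 hord
  have hp : IsPGroup 2 (zpowers t) := IsPGroup.of_card (n := j) (by rw [Nat.card_zpowers, hj])
  obtain ⟨P', hP'⟩ := hp.exists_le_sylow
  obtain ⟨c, hc⟩ := MulAction.exists_smul_eq G P P'
  have htP' : t ∈ (P' : Subgroup G) := hP' (Subgroup.mem_zpowers t)
  have hmem : c⁻¹ * t * c ∈ (P : Subgroup G) := by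
    rw [← hc, Sylow.coe_subgroup_smul, Cfsg.Agent.Lib.Helper35_FrobeniusNPC.mem_conj_smul] at htP'
    exact htP'
  have h1 := hP _ hmem
  have h2 : t * t = 1 := by
    calc t * t = c * ((c⁻¹ * t * c) * (c⁻¹ * t * c)) * c⁻¹ := by group
      _ = 1 := by rw [h1]; group
  rw [ht] at h2
  exact Cfsg.Agent.Lib.Helper30_KleinFour.ne_one_of_order_two hz h2

theorem classInner_sqrtCount {G : Type u} [Group G] [Fintype G] (χ : IrrCharacter G) :
    classInner sqrtCount (χ : G → ℂ) = fsInd (χ : G → ℂ) := by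
  unfold classInner
  rw [sum_sqrtCount_mul (fun g => conj ((χ : G → ℂ) g)), ← fsInd_irr_conj χ.2]
  unfold fsInd
  rw [map_mul, map_inv₀, Complex.conj_natCast, map_sum]

/-- Same setting as the Klein-four order formula: G of order 4·g₀ (g₀ odd) with no normal 2-complement, P a Sylow 2-subgroup, J an involution of P, M over 2, principal 2-block {1, χ₁, χ₂, χ₃} with χ_i(J) = ε_i = ±1. Suppose ε₁ε₂ε₃ = −1 and ε₃ = −1, and put q = x₃ = χ₃(1). Then there is a natural number m with 4·c(J) = m·c(P)·(q + 1), and the order of G equals (m³·c(P)/4)·(q³ − q)/2, that is 8·#G = m³·c(P)·(q³ − q). -/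
theorem result {G : Type*} [Group G] [Finite G] (M : Ideal Cfsg.AlgInt) (hM : Cfsg.IsPModular 2 M) (g₀ : ℕ) (hg₀ : Odd g₀) (hG : Nat.card G = 4 * g₀) (hnc : ¬ ∃ N : Subgroup G, N.Normal ∧ Nat.card N = g₀) (P : Sylow 2 G) (J : G) (hJ : J ∈ (P : Subgroup G)) (hJ2 : orderOf J = 2) (χ₁ χ₂ χ₃ : Cfsg.IrrCharacter G) (ε₁ ε₂ ε₃ : ℤ) (hB : Cfsg.principalBlock M G = {χ : Cfsg.IrrCharacter G | (χ : G → ℂ) = (fun _ => 1) ∨ χ = χ₁ ∨ χ = χ₂ ∨ χ = χ₃}) (hdist : (χ₁ : G → ℂ) ≠ (fun _ => 1) ∧ (χ₂ : G → ℂ) ≠ (fun _ => 1) ∧ (χ₃ : G → ℂ) ≠ (fun _ => 1) ∧ χ₁ ≠ χ₂ ∧ χ₁ ≠ χ₃ ∧ χ₂ ≠ χ₃) (hε : (ε₁ = 1 ∨ ε₁ = -1) ∧ (ε₂ = 1 ∨ ε₂ = -1) ∧ (ε₃ = 1 ∨ ε₃ = -1)) (hval : (χ₁ : G → ℂ) J = ε₁ ∧ (χ₂ : G → ℂ) J = ε₂ ∧ (χ₃ : G → ℂ) J = ε₃) (hprod : ε₁ * ε₂ * ε₃ = -1) (hε₃ : ε₃ = -1) : ∃ m : ℕ, 4 * Nat.card (Subgroup.centralizer ({J} : Set G)) = m * Nat.card (Subgroup.centralizer ((P : Subgroup G) : Set G)) * (Cfsg.charDegree (χ₃ : G → ℂ) + 1) ∧ 8 * Nat.card G = m ^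 3 * Nat.card (Subgroup.centralizer ((P : Subgroup G) : Set G)) * (Cfsg.charDegree (χ₃ : G → ℂ) ^ 3 - Cfsg.charDegree (χ₃ : G → ℂ)) := by
  classical
  have : Fact (Nat.Prime 2) := ⟨Nat.prime_two⟩
  have := Fintype.ofFinite G
  -- group theory
  obtain ⟨m, a, haP, hao, haJ, hmJ, hma, hcomm, hall⟩ :=
    Cfsg.Agent.Lib.Helper30_KleinFour.klein_structure hG hg₀ hnc P hJ hJ2
  obtain ⟨O, hOn, hOodd, hCO⟩ := Cfsg.Agent.Lib.Helper30_KleinFour.centralizer_npc hG hg₀ P hJ hJ2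
  have hJinv := Cfsg.Agent.Lib.Helper30_KleinFour.inv_eq_self_of_order_two hJ2
  have hJJ := Cfsg.Agent.Lib.Helper30_KleinFour.mul_self_of_order_two hJ2
  have haa := Cfsg.Agent.Lib.Helper30_KleinFour.mul_self_of_order_two hao
  have hPsq : ∀ x ∈ (P : Subgroup G), x * x = 1 := by
    intro x hx
    rcases hall x hx with h | h | h | h
    · rw [h, one_mul]
    · rw [h]; exact hJJ
    · rw [h]; exact haa
    · rw [h]
      calc J * a * (J * a) = J * (a * J) * a := by group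
        _ = J * (J * a) * a := by rw [← hcomm]
        _ = (J * J) * (a * a) := by group
        _ = 1 := by rw [hJJ, haa, one_mul]
  -- the principal block
  obtain ⟨o1, ho1⟩ : ∃ o1 : IrrCharacter G, o1 = Cfsg.Agent.Lib.Helper80_CharBasic.oneIrr G :=
    ⟨_, rfl⟩
  have ho1v : ∀ g : G, (o1 : G → ℂ) g = 1 := fun g => by rw [ho1]; rfl
  have hiff : ∀ χ : IrrCharacter G, (χ : G → ℂ) = (fun _ => 1) ↔ χ = o1 := by
    intro χ
    rw [ho1]
    constructor
    · intro h
      exact Subtype.ext h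
    · intro h
      rw [h]
      rfl
  have hB' : principalBlock M G = {χ : IrrCharacter G | χ = o1 ∨ χ = χ₁ ∨ χ = χ₂ ∨ χ = χ₃} := by
    rw [hB]
    ext χ
    simp only [Set.mem_ofPred_eq, hiff]
  have hres := Cfsg.Agent.S4479.result M hM g₀ hg₀ hG hnc P J hJ hJ2 χ₁ χ₂ χ₃ ε₁ ε₂ ε₃ hB hdist hε
    hval
  obtain ⟨hd1', hd2', hd3', h12, h13, h23⟩ := hdist
  have hne1 : o1 ≠ χ₁ := fun h => hd1' ((hiff χ₁).2 h.symm)
  have hne2 : o1 ≠ χ₂ := fun h => hd2' ((hiff χ₂).2 h.symm)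
  have hne3 : o1 ≠ χ₃ := fun h => hd3' ((hiff χ₃).2 h.symm)
  obtain ⟨hv1, hv2, hv3⟩ := hval
  have hmemB : ∀ χ : IrrCharacter G, χ ∈ principalBlock M G ↔
      (χ = o1 ∨ χ = χ₁ ∨ χ = χ₂ ∨ χ = χ₃) := by
    intro χ
    rw [hB']
    rfl
  -- (O): orthogonality
  have hy1 : ∃ k : ℕ, orderOf (1 : G) = 2 ^ k := ⟨0, by rw [orderOf_one, pow_zero]⟩
  have hyJ : ∃ k : ℕ, orderOf J = 2 ^ k := ⟨1, by rw [hJ2, pow_one]⟩
  have hnot : ¬ IsConj (1 : G) J := by
    rw [isConj_one_right]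
    exact Cfsg.Agent.Lib.Helper30_KleinFour.ne_one_of_order_two hJ2
  have hPB := Cfsg.Agent.Lib.Helper30_SectionNorm.isPBlock_principalBlock (M := M) G
  have horth := (Cfsg.Agent.S0925.result 2 M hM).2 1 J 1 J
    (Cfsg.Agent.Lib.Helper30_SectionNorm.isPPart_self hy1)
    (Cfsg.Agent.Lib.Helper30_SectionNorm.isPPart_self hyJ) hnot (principalBlock M G) hPB
  rw [hJinv, hB', Cfsg.Agent.S4479.finsum_four hne1 hne2 hne3 h12 h13 h23, ho1v, ho1v, hv1, hv2,
    hv3, Cfsg.Agent.S4479.irr_one_eq_charDegree χ₁, Cfsg.Agent.S4479.irr_one_eq_charDegree χ₂,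
    Cfsg.Agent.S4479.irr_one_eq_charDegree χ₃] at horth
  have hOz : (1 : ℤ) + (charDegree (χ₁ : G → ℂ) : ℤ) * ε₁ + (charDegree (χ₂ : G → ℂ) : ℤ) * ε₂ +
      (charDegree (χ₃ : G → ℂ) : ℤ) * ε₃ = 0 := by
    have h : ((1 : ℂ) * 1 + (charDegree (χ₁ : G → ℂ) : ℂ) * ε₁ +
      (charDegree (χ₂ : G → ℂ) : ℂ) * ε₂ + (charDegree (χ₃ : G → ℂ) : ℂ) * ε₃) = 0 := horth
    rw [mul_one] at h
    apply Int.cast_injective (α := ℂ)
    push_cast
    exact h
  have hx1 := Cfsg.Agent.S4479.charDegree_pos χ₁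
  have hx2 := Cfsg.Agent.S4479.charDegree_pos χ₂
  have hx3 := Cfsg.Agent.S4479.charDegree_pos χ₃
  -- the signs
  have hε12 : ε₁ = 1 ∧ ε₂ = 1 := by
    rw [hε₃] at hprod hOz
    rcases hε.1 with h1 | h1 <;> rcases hε.2.1 with h2 | h2
    · exact ⟨h1, h2⟩
    · rw [h1, h2] at hprod; norm_num at hprod
    · rw [h1, h2] at hprod; norm_num at hprod
    · rw [h1, h2] at hOz
      exfalso
      have h1' : (0 : ℤ) < charDegree (χ₁ : G → ℂ) := by exact_mod_cast hx1
      have h2' : (0 : ℤ) < charDegree (χ₂ : G → ℂ) := by exact_mod_cast hx2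
      have h3' : (0 : ℤ) < charDegree (χ₃ : G → ℂ) := by exact_mod_cast hx3
      linarith
  obtain ⟨he1, he2⟩ := hε12
  rw [he1, he2, hε₃] at hOz
  have hq : charDegree (χ₃ : G → ℂ) = charDegree (χ₁ : G → ℂ) + charDegree (χ₂ : G → ℂ) + 1 := by
    have : (charDegree (χ₃ : G → ℂ) : ℤ) =
        (charDegree (χ₁ : G → ℂ) : ℤ) + (charDegree (χ₂ : G → ℂ) : ℤ) + 1 := by linarith
    exact_mod_cast this
  rw [he1] at hv1
  rw [he2] at hv2
  rw [hε₃] at hv3
  -- equality of the degrees of χ₁ and χ₂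
  have hconj_mem : ∀ χ : IrrCharacter G, χ ∈ principalBlock M G →
      (conjIrrChar χ = o1 ∨ conjIrrChar χ = χ₁ ∨ conjIrrChar χ = χ₂ ∨ conjIrrChar χ = χ₃) :=
    fun χ hχ => (hmemB _).1 (conj_mem_principalBlock M χ hχ)
  have hconj_o1 : ∀ χ : IrrCharacter G, conjIrrChar χ = o1 → χ = o1 := by
    intro χ h
    have h2 : conjIrrChar (conjIrrChar χ) = conjIrrChar o1 := by rw [h]
    rw [conjIrrChar_conjIrrChar] at h2
    rw [h2]
    apply Subtype.ext
    funext g
    rw [conjIrrChar_apply, ho1v, map_one]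
  have hreal_of : ∀ χ : IrrCharacter G, conjIrrChar χ = χ → ∀ g, ((χ : G → ℂ) g).im = 0 := by
    intro χ h g
    have h2 : (conjIrrChar χ : G → ℂ) g = (χ : G → ℂ) g := by rw [h]
    rw [conjIrrChar_apply] at h2
    exact Complex.conj_eq_iff_im.1 h2
  have hm1 : χ₁ ∈ principalBlock M G := (hmemB _).2 (Or.inr (Or.inl rfl))
  have hm2 : χ₂ ∈ principalBlock M G := (hmemB _).2 (Or.inr (Or.inr (Or.inl rfl)))
  have hm3 : χ₃ ∈ principalBlock M G := (hmemB _).2 (Or.inr (Or.inr (Or.inr rfl)))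
  have hvJ : ∀ χ ψ : IrrCharacter G, conjIrrChar χ = ψ →
      (ψ : G → ℂ) J = conj ((χ : G → ℂ) J) := by
    intro χ ψ h
    rw [← h, conjIrrChar_apply]
  have hneg : ((-1 : ℤ) : ℂ) ≠ ((1 : ℤ) : ℂ) := by norm_num
  have hdeg : charDegree (χ₁ : G → ℂ) = charDegree (χ₂ : G → ℂ) := by
    -- the conjugate of χ₁
    have hc1 : conjIrrChar χ₁ = χ₁ ∨ conjIrrChar χ₁ = χ₂ := by
      rcases hconj_mem χ₁ hm1 with h | h | h | h
      · exact absurd (hconj_o1 χ₁ h).symm hne1
      · exact Or.inl h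
      · exact Or.inr h
      · exfalso
        have := hvJ χ₁ χ₃ h
        rw [hv1, hv3] at this
        simp at this
        norm_num at this
    rcases hc1 with hc1 | hc1
    · -- χ₁ is real
      have hc2 : conjIrrChar χ₂ = χ₂ := by
        rcases hconj_mem χ₂ hm2 with h | h | h | h
        · exact absurd (hconj_o1 χ₂ h).symm hne2
        · exfalso
          have h2 : conjIrrChar (conjIrrChar χ₂) = conjIrrChar χ₁ := by rw [h]
          rw [conjIrrChar_conjIrrChar, hc1] at h2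
          exact h12 h2.symm
        · exact h
        · exfalso
          have := hvJ χ₂ χ₃ h
          rw [hv2, hv3] at this
          simp at this
          norm_num at this
      have hc3 : conjIrrChar χ₃ = χ₃ := by
        rcases hconj_mem χ₃ hm3 with h | h | h | h
        · exact absurd (hconj_o1 χ₃ h).symm hne3
        · exfalso
          have h2 : conjIrrChar (conjIrrChar χ₃) = conjIrrChar χ₁ := by rw [h]
          rw [conjIrrChar_conjIrrChar, hc1] at h2
          exact h13 h2.symm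
        · exfalso
          have h2 : conjIrrChar (conjIrrChar χ₃) = conjIrrChar χ₂ := by rw [h]
          rw [conjIrrChar_conjIrrChar, hc2] at h2
          exact h23 h2.symm
        · exact h
      exfalso
      -- all four characters are real, with indicator one
      have hf0 : fsInd (o1 : G → ℂ) = 1 := by
        apply fsInd_eq_one_of_real o1.2 _ hJJ (Or.inl (ho1v J))
        intro g
        rw [ho1v]
        simp
      have hf1 : fsInd (χ₁ : G → ℂ) = 1 :=
        fsInd_eq_one_of_real χ₁.2 (hreal_of χ₁ hc1) hJJ (Or.inl (by rw [hv1]; norm_num))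
      have hf2 : fsInd (χ₂ : G → ℂ) = 1 :=
        fsInd_eq_one_of_real χ₂.2 (hreal_of χ₂ hc2) hJJ (Or.inl (by rw [hv2]; norm_num))
      have hf3 : fsInd (χ₃ : G → ℂ) = 1 :=
        fsInd_eq_one_of_real χ₃.2 (hreal_of χ₃ hc3) hJJ (Or.inr (by rw [hv3]; norm_num))
      have hvan := (Cfsg.Agent.S0925.result 2 M hM).1 sqrtCount sqrtCount_isClassFunction J hyJ
        (fun w z hw hz => sqrtCount_eq_zero P hPsq hw (by
          obtain ⟨c, hc⟩ := isConj_iff.1 hz
          rw [← hc, Cfsg.Agent.Lib.Helper30_KleinFour.orderOf_conj_eq]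
          exact hJ2))
        (principalBlock M G) hPB J J (Cfsg.Agent.Lib.Helper30_SectionNorm.isPPart_self hyJ)
        (IsConj.refl J)
      unfold blockPart at hvan
      have hinst : Fintype.ofFinite G = this := Subsingleton.elim _ _
      rw [hinst] at hvan
      simp only [classInner_sqrtCount] at hvan
      rw [hB', Cfsg.Agent.S4479.finsum_four hne1 hne2 hne3 h12 h13 h23, hf0, hf1, hf2, hf3, ho1v,
        hv1, hv2, hv3] at hvan
      norm_num at hvan
    · -- χ₂ is the conjugate of χ₁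
      have h2 : (χ₂ : G → ℂ) 1 = conj ((χ₁ : G → ℂ) 1) := by
        rw [← hc1]
        rfl
      rw [Cfsg.Agent.S4479.irr_one_eq_charDegree χ₁, Cfsg.Agent.S4479.irr_one_eq_charDegree χ₂,
        Complex.conj_natCast] at h2
      exact_mod_cast h2.symm
  -- the arithmetic
  have hPC : (P : Subgroup G) ≤ centralizer ((P : Subgroup G) : Set G) := by
    intro x hx
    rw [Subgroup.mem_centralizer_iff]
    intro y hy
    exact Cfsg.Agent.Lib.Helper30_KleinFour.commute_of_mem_sylow hG hg₀ P hy hx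
  have hCPJ : centralizer ((P : Subgroup G) : Set G) ≤ centralizer ({J} : Set G) := by
    apply Subgroup.centralizer_le
    intro x hx
    rw [Set.mem_singleton_iff] at hx
    rw [hx]
    exact hJ
  have h4 : 4 ∣ Nat.card (centralizer ((P : Subgroup G) : Set G)) := by
    rw [← Cfsg.Agent.Lib.Helper30_KleinFour.card_sylow hG hg₀ P]
    exact Subgroup.card_dvd_of_le hPC
  obtain ⟨c0, hc0⟩ := h4
  have hc0o : c0 ∣ Nat.card O := by
    have h5 := Subgroup.card_dvd_of_le hCPJ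
    rw [hc0, hCO] at h5
    exact Nat.dvd_of_mul_dvd_mul_left (by norm_num) h5
  have hog0 : Nat.card O ∣ g₀ := by
    have h5 := Subgroup.card_subgroup_dvd_card (centralizer ({J} : Set G))
    rw [hCO, hG] at h5
    exact Nat.dvd_of_mul_dvd_mul_left (by norm_num) h5
  rw [he1, he2, hε₃, ← hdeg, Int.cast_one] at hres
  have hq' : charDegree (χ₃ : G → ℂ) = 2 * charDegree (χ₁ : G → ℂ) + 1 := by
    rw [hq, ← hdeg]
    ring
  exact number_theory (Nat.card G) (Nat.card (centralizer ({J} : Set G)))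
    (Nat.card (centralizer ((P : Subgroup G) : Set G))) (charDegree (χ₁ : G → ℂ))
    (charDegree (χ₃ : G → ℂ)) g₀ (Nat.card O) c0 hG hCO hc0 hc0o hog0 hx1 hq' Nat.card_pos
    Nat.card_pos hres

end Cfsg.Agent.S4480
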