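import Cfsg.Statements.S4018
import Mathlib
import Cfsg.Agent.Lib.Helper17_KleinTI
import Cfsg.Agent.Lib.Helper17_ExcApply
import Cfsg.Agent.Lib.Helper77_BlockBasics
import Cfsg.Agent.Lib.Helper80_CharBasic
import Cfsg.Agent.S0165
import Cfsg.Agent.S0948
import Cfsg.Agent.S4479
import Cfsg.Agent.S4480

set_option autoImplicit false
open Cfsg

namespace Cfsg.Agent.S4018

open Cfsg.Agent.Lib.Helper17_KleinTI Cfsg.Agent.Lib.Helper80_CharBasic

/-- Arithmetic for the sign pattern `(1, -1, -1)`. -/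
theorem arith_neg (g n a b c : ℚ) (hn : 1 ≤ n) (hb : 3 ≤ b) (hc : 3 ≤ c) (habc : a + 1 = b + c)
    (hg : g ≤ 4 * n * (2 * n * (2 * n - 1) + 1))
    (hform : g = 8 * ((a * b * c) / ((a + 1) * (b + (-1)) * (c + (-1)))) * (4 * n) ^ 3 / 4 ^ 2) :
    False := by
  have ha : a = b + c - 1 := by linarith
  have hD : 0 < (a + 1) * (b + (-1)) * (c + (-1)) := by
    have h1 : 0 < a + 1 := by linarith
    have h2 : 0 < b + (-1) := by linarith
    have h3 : 0 < c + (-1) := by linarith
    positivity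
  have hND : (a + 1) * (b + (-1)) * (c + (-1)) < a * b * c := by
    subst ha
    nlinarith [mul_pos (by linarith : (0 : ℚ) < b - 1) (by linarith : (0 : ℚ) < c - 1),
      mul_pos (by linarith : (0 : ℚ) < b) (by linarith : (0 : ℚ) < c)]
  have h1 : 1 < (a * b * c) / ((a + 1) * (b + (-1)) * (c + (-1))) := by
    rw [one_lt_div hD]
    exact hND
  have hn3 : 0 < n ^ 3 := by positivity
  have h2 : 32 * n ^ 3 < g := by
    rw [hform]
    have : 8 * ((a * b * c) / ((a + 1) * (b + (-1)) * (c + (-1)))) * (4 * n) ^ 3 / 4 ^ 2 =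
        32 * n ^ 3 * ((a * b * c) / ((a + 1) * (b + (-1)) * (c + (-1)))) := by ring
    rw [this]
    nlinarith
  nlinarith [mul_pos (by linarith : (0 : ℚ) < n) (by linarith : (0 : ℚ) < n)]

/-- Arithmetic for the sign pattern `(1, 1, -1)`. -/
theorem arith_pos (n m q k I : ℤ) (hn : 1 ≤ n) (hm : 0 ≤ m) (hk : 3 ≤ k) (hq : q + 1 = 4 * k)
    (h1 : 4 * n = m * (q + 1)) (h2 : 8 * (4 * n * I) = 4 * m ^ 3 * (q ^ 3 - q))
    (hI : I ≤ 2 * n * (2 * n - 1) + 1) : False := by
  have hnk : n = m * k := by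
    rw [hq] at h1
    linarith
  have hm1 : 1 ≤ m := by
    by_contra hlt
    have : m = 0 := by omega
    rw [this] at hnk
    omega
  have h3 : 3 * m ≤ n := by
    rw [hnk]
    nlinarith
  have hq' : q = 4 * k - 1 := by linarith
  have h4 : 2 * I = m ^ 2 * q * (q - 1) := by
    have e : 4 * m ^ 3 * (q ^ 3 - q) = 16 * n * (m ^ 2 * q * (q - 1)) := by
      have : q ^ 3 - q = q * (q - 1) * (q + 1) := by ring
      rw [this]
      have : 4 * m ^ 3 * (q * (q - 1) * (q + 1)) = 4 * (m * (q + 1)) * (m ^ 2 * q * (q - 1)) := by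
        ring
      rw [this, ← h1]
      ring
    rw [e] at h2
    have hn0 : (16 * n) ≠ 0 := by omega
    have : 16 * n * (2 * I) = 16 * n * (m ^ 2 * q * (q - 1)) := by linarith
    exact mul_left_cancel₀ hn0 this
  have h5 : m * q = 4 * n - m := by linarith
  have h6 : m ^ 2 * q * (q - 1) = (4 * n - m) * (4 * n - 2 * m) := by
    have : m ^ 2 * q * (q - 1) = (m * q) * (m * q - m) := by ring
    rw [this, h5]
    ring
  rw [h6] at h4
  nlinarith

/-- Let G be a finite group with an abelian Sylow 3-subgroup P such that the normalizer of P has order 4·#P, the centralizer C of P has order 2·#P, C meets each of its conjugates by elements outside its normalizer trivially, and every proper subgroup of G of even order has order dividing 4·#P. Then G is not simple. -/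
theorem result {G : Type*} [Group G] [Finite G]
    (P : Sylow 3 G) (hab : IsMulCommutative P)
    (hN : Nat.card (Subgroup.normalizer ((P : Subgroup G) : Set G)) = 4 * Nat.card P)
    (hC : Nat.card (Subgroup.centralizer (P : Set G)) = 2 * Nat.card P)
    (hTI : Cfsg.IsTISubset (Subgroup.centralizer (P : Set G) : Set G))
    (heven : ∀ H : Subgroup G, H ≠ ⊤ → 2 ∣ Nat.card H → Nat.card H ∣ 4 * Nat.card P) :
    ¬ IsSimpleGroup G := by
  intro hs
  have h : Hyp P :=
    { hab := fun a ha b hb => congrArg Subtype.val (hab.is_comm.comm ⟨a, ha⟩ ⟨b, hb⟩)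
      hN := hN
      hC := hC
      hTI := hTI
      heven := heven }
  have h2p : Fact (Nat.Prime 2) := ⟨Nat.prime_two⟩
  obtain ⟨z, hzC, hz⟩ := exists_invol h
  -- a Sylow 2-subgroup through z
  have hpz : IsPGroup 2 (Subgroup.zpowers z) := by
    apply IsPGroup.of_card (n := 1)
    rw [Nat.card_zpowers, hz, pow_one]
  obtain ⟨S, hS⟩ := hpz.exists_le_sylow
  have hzS : z ∈ (S : Subgroup G) := hS (Subgroup.mem_zpowers z)
  have hK := isKleinFour_sylow h S
  have hone := one_class h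
  have hcJ : Nat.card (Subgroup.centralizer ({z} : Set G)) = 4 * Nat.card (P : Subgroup G) := by
    rw [centralizer_z_eq h hzC hz, h.hN]
  have hcS := card_centralizer_sylow2 h hzC hz S hzS
  have hGI := card_eq_mul_card_invol h
  have hIle := card_invol_le h
  have hn1 : 1 ≤ Nat.card (P : Subgroup G) := card_P_pos P
  set n := Nat.card (P : Subgroup G) with hn
  set I := Nat.card {t : G // orderOf t = 2} with hI
  -- the order is four times an odd number
  have hG4 : Nat.card G = 4 * (n * I) := by rw [hGI]; ring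
  have hodd : Odd (n * I) := by
    by_contra hno
    rw [Nat.not_odd_iff_even] at hno
    obtain ⟨k, hk⟩ := hno
    apply not_eight_dvd h
    rw [hG4, hk]
    exact ⟨k, by ring⟩
  have hI1 : 1 ≤ I := by
    rcases Nat.eq_zero_or_pos I with h0 | h0
    · rw [h0, mul_zero] at hodd
      exact absurd hodd (by decide)
    · exact h0
  have hnc : ¬ ∃ K : Subgroup G, K.Normal ∧ Nat.card K = n * I := by
    rintro ⟨K, hKn, hKc⟩
    rcases hKn.eq_bot_or_eq_top with hb | ht
    · rw [hb, Subgroup.card_bot] at hKc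
      have h1 : n = 1 := Nat.eq_one_of_mul_eq_one_right hKc.symm
      obtain ⟨a, ha⟩ := card_P_eq_pow P
      have hc4 : Nat.card (Subgroup.normalizer ((P : Subgroup G) : Set G)) ≤ Nat.card G :=
        Subgroup.card_le_card_group _
      rw [h.hN, ← hn, hG4, ← hKc] at hc4
      -- |G| = 4, |N| = 4, |C| = 2: then G is abelian
      apply not_isMulCommutative h
      have hG4' : Nat.card G = 2 ^ 2 := by rw [hG4, ← hKc]; norm_num
      have : IsPGroup 2 G := IsPGroup.of_card hG4'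
      exact Cfsg.Agent.S0992.isMulCommutative_of_isPGroup this
    · rw [ht, Subgroup.card_top, hG4] at hKc
      have : 0 < n * I := Nat.mul_pos hn1 hI1
      omega
  obtain ⟨M, hM⟩ := Cfsg.Agent.S0165.exists_isPModular 2 Nat.prime_two
  obtain ⟨ζ₂, ζ₃, ζ₄, ε, hε, h21, h31, h23, h24, h34, hB, hval, hd2, hd3, hd4, hrel⟩ :=
    Cfsg.Agent.S0948.result M hM S hK hone
  obtain ⟨hv2, hv3, hv4⟩ := hval z hz
  have h41 : (ζ₄ : G → ℂ) ≠ (fun _ => 1) := by
    intro h1
    rw [h1] at hv4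
    norm_num at hv4
  -- the degree relation
  have hrel1 := hrel 1 (by rw [orderOf_one]; exact odd_one)
  rw [Cfsg.Agent.Lib.Helper77_BlockBasics.apply_one_eq_charDegree,
    Cfsg.Agent.Lib.Helper77_BlockBasics.apply_one_eq_charDegree,
    Cfsg.Agent.Lib.Helper77_BlockBasics.apply_one_eq_charDegree] at hrel1
  set a := Cfsg.charDegree (ζ₂ : G → ℂ) with ha
  set b := Cfsg.charDegree (ζ₃ : G → ℂ) with hb
  set c := Cfsg.charDegree (ζ₄ : G → ℂ) with hc
  have hrelZ : (1 : ℤ) + a + ε * b - c = 0 := by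
    have : (((1 : ℤ) + a + ε * b - c : ℤ) : ℂ) = 0 := by
      push_cast
      exact hrel1
    exact_mod_cast this
  have ha0 : 0 < a := Cfsg.Agent.Lib.Helper77_BlockBasics.charDegree_pos ζ₂
  have hb0 : 0 < b := Cfsg.Agent.Lib.Helper77_BlockBasics.charDegree_pos ζ₃
  have hc0 : 0 < c := Cfsg.Agent.Lib.Helper77_BlockBasics.charDegree_pos ζ₄
  have hGle : Nat.card G ≤ 4 * n * (2 * n * (2 * n - 1) + 1) := by
    rw [hGI]
    exact Nat.mul_le_mul_left _ hIle
  rcases hε with hε1 | hε1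
  · -- signs (1, 1, -1)
    subst hε1
    obtain ⟨m, hm1, hm2⟩ := Cfsg.Agent.S4480.result M hM (n * I) hodd hG4 hnc S z hzS hz ζ₂ ζ₃ ζ₄
      1 1 (-1) hB ⟨h21, h31, h41, h23, h24, h34⟩
      ⟨Or.inl rfl, Or.inl rfl, Or.inr rfl⟩
      ⟨by simp [hv2], by simp [hv3], by simp [hv4]⟩ (by norm_num) rfl
    rw [hcJ, hcS] at hm1
    rw [hcS, hG4] at hm2
    -- degrees at least two
    have hnotc := not_isMulCommutative h
    have ha2 : 2 ≤ a := Cfsg.Agent.Lib.Helper17_ExcApply.two_le_deg_of_simple hnotc ζ₂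
      (fun heq => h21 (by rw [heq]; rfl))
    have hb2 : 2 ≤ b := Cfsg.Agent.Lib.Helper17_ExcApply.two_le_deg_of_simple hnotc ζ₃
      (fun heq => h31 (by rw [heq]; rfl))
    obtain ⟨ja, hja⟩ := hd2
    obtain ⟨jb, hjb⟩ := hd3
    obtain ⟨jc, hjc⟩ := hd4
    have hk3 : 3 ≤ jc := by omega
    have hcq : c ≤ c ^ 3 := by
      calc c = c ^ 1 := (pow_one c).symm
        _ ≤ c ^ 3 := Nat.pow_le_pow_right hc0 (by norm_num)
    apply arith_pos (n : ℤ) (m : ℤ) (c : ℤ) jc (I : ℤ) (by exact_mod_cast hn1) (by positivity) hk3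
      (by linarith)
    · have : ((4 * (4 * n) : ℕ) : ℤ) = ((m * 4 * (c + 1) : ℕ) : ℤ) := by rw [hm1]
      push_cast at this
      linarith
    · have : ((8 * (4 * (n * I)) : ℕ) : ℤ) = ((m ^ 3 * 4 * (c ^ 3 - c) : ℕ) : ℤ) := by rw [hm2]
      rw [Nat.cast_mul, Nat.cast_mul (m ^ 3 * 4), Nat.cast_sub hcq] at this
      push_cast at this
      linarith
    · have : ((I : ℕ) : ℤ) ≤ ((2 * n * (2 * n - 1) + 1 : ℕ) : ℤ) := by exact_mod_cast hIle
      have h2n : 1 ≤ 2 * n := by omega
      rw [Nat.cast_add, Nat.cast_mul, Nat.cast_sub h2n] at this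
      push_cast at this
      linarith
  · -- signs (1, -1, -1)
    subst hε1
    have hform := Cfsg.Agent.S4479.result M hM (n * I) hodd hG4 hnc S z hzS hz ζ₂ ζ₃ ζ₄
      1 (-1) (-1) hB ⟨h21, h31, h41, h23, h24, h34⟩
      ⟨Or.inl rfl, Or.inr rfl, Or.inr rfl⟩
      ⟨by simp [hv2], by simp [hv3], by simp [hv4]⟩
    rw [hcJ, hcS] at hform
    obtain ⟨jb, hjb⟩ := hd3
    obtain ⟨jc, hjc⟩ := hd4
    have hb3 : 3 ≤ b := by omega
    have hc3 : 3 ≤ c := by omega
    apply arith_neg (Nat.card G : ℚ) (n : ℚ) (a : ℚ) (b : ℚ) (c : ℚ) (by exact_mod_cast hn1)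
      (by exact_mod_cast hb3) (by exact_mod_cast hc3)
    · have : ((a : ℤ) : ℚ) + 1 = ((b : ℤ) : ℚ) + ((c : ℤ) : ℚ) := by
        have h1 : (a : ℤ) + 1 = (b : ℤ) + (c : ℤ) := by linarith
        exact_mod_cast h1
      exact_mod_cast this
    · have : ((Nat.card G : ℕ) : ℚ) ≤ ((4 * n * (2 * n * (2 * n - 1) + 1) : ℕ) : ℚ) := by
        exact_mod_cast hGle
      have h2n : 1 ≤ 2 * n := by omega
      rw [Nat.cast_mul, Nat.cast_add, Nat.cast_mul (2 * n), Nat.cast_sub h2n] at this
      push_cast at this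
      linarith
    · rw [hform]
      push_cast
      ring

end Cfsg.Agent.S4018
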