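import Cfsg.Statements.S4022
import Cfsg.Agent.Lib.Helper67_Basic
import Cfsg.Agent.Lib.Helper1_SZ
import Cfsg.Agent.Lib.Helper1_Cores
import Cfsg.Agent.Lib.Helper24_CoprimeAction
-- import your own Cfsg.Agent.* helpers here

set_option autoImplicit false
open Cfsg

namespace Cfsg.Agent.S4022

universe u

section Basics

variable {G : Type*} [Group G]

/-- The conjugate `g H g⁻¹`. -/
abbrev cj (g : G) (H : Subgroup G) : Subgroup G := H.map (MulAut.conj g).toMonoidHom

theorem mem_cj {g x : G} {H : Subgroup G} : x ∈ cj g H ↔ g⁻¹ * x * g ∈ H := by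
  constructor
  · rintro ⟨y, hy, rfl⟩
    simp only [MulEquiv.coe_toMonoidHom, MulAut.conj_apply]
    have : g⁻¹ * (g * y * g⁻¹) * g = y := by group
    rw [this]; exact hy
  · intro h
    refine ⟨g⁻¹ * x * g, h, ?_⟩
    simp only [MulEquiv.coe_toMonoidHom, MulAut.conj_apply]
    group

theorem cj_cj (g h : G) (H : Subgroup G) : cj g (cj h H) = cj (g * h) H := by
  ext x
  rw [mem_cj, mem_cj, mem_cj]
  have : h⁻¹ * (g⁻¹ * x * g) * h = (g * h)⁻¹ * x * (g * h) := by group
  rw [this]

theorem cj_one (H : Subgroup G) : cj 1 H = H := by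
  ext x
  rw [mem_cj]; simp

theorem card_cj (g : G) (H : Subgroup G) : Nat.card (cj g H) = Nat.card H :=
  Subgroup.card_map_of_injective (MulAut.conj g).injective

theorem cj_normal (g : G) (N : Subgroup G) [hN : N.Normal] : cj g N = N := by
  ext x
  rw [mem_cj]
  constructor
  · intro h
    have := hN.conj_mem _ h g
    have e : g * (g⁻¹ * x * g) * g⁻¹ = x := by group
    rwa [e] at this
  · intro h
    have := hN.conj_mem _ h g⁻¹
    rwa [inv_inv] at this

theorem cj_mono (g : G) {H K : Subgroup G} (h : H ≤ K) : cj g H ≤ cj g K := Subgroup.map_mono h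

theorem cj_sup (g : G) (H K : Subgroup G) : cj g (H ⊔ K) = cj g H ⊔ cj g K :=
  Subgroup.map_sup H K _

theorem cj_inf (g : G) (H K : Subgroup G) : cj g (H ⊓ K) = cj g H ⊓ cj g K :=
  Subgroup.map_inf H K _ (MulAut.conj g).injective

theorem cj_of_mem_normalizer {g : G} {D : Subgroup G}
    (hg : g ∈ Subgroup.normalizer (D : Set G)) : cj g D = D :=
  Subgroup.mem_normalizer_iff_map_conj_eq.1 hg

theorem isPGroup_cj {p : ℕ} (g : G) {H : Subgroup G} (h : IsPGroup p H) : IsPGroup p (cj g H) :=
  h.map _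

/-- In a finite cyclic group, subgroups of equal order coincide. -/
theorem eq_of_card_eq_of_isCyclic {C : Type*} [Group C] [Finite C] [IsCyclic C]
    (H K : Subgroup C) (h : Nat.card H = Nat.card K) : H = K := by
  classical
  have : Fintype C := Fintype.ofFinite C
  set d := Nat.card H with hd
  have hdpos : 0 < d := Nat.card_pos
  have key : ∀ L : Subgroup C, Nat.card L = d →
      (L : Set C) = {a : C | a ^ d = 1} := by
    intro L hL
    apply Set.eq_of_subset_of_ncard_le
    · intro x hx
      have : (⟨x, hx⟩ : L) ^ Nat.card L = 1 := pow_card_eq_one'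
      rw [hL] at this
      exact congrArg Subtype.val this
    · have h1 : ({a : C | a ^ d = 1} : Set C).ncard =
          (Finset.univ.filter (fun a : C => a ^ d = 1)).card := by
        rw [← Set.ncard_coe_finset]
        congr 1
        ext a; simp
      rw [h1]
      have h2 : (L : Set C).ncard = d := by
        rw [← hL]; exact (Nat.card_coe_set_eq (L : Set C))
      rw [h2]
      exact IsCyclic.card_pow_eq_one_le hdpos
    · exact Set.toFinite _
  exact SetLike.coe_injective ((key H rfl).trans (key K h.symm).symm)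

/-- Subgroups of equal order inside a cyclic subgroup coincide. -/
theorem eq_of_card_eq_of_le_cyclic [Finite G] {P U N : Subgroup G} (hP : IsCyclic P)
    (hU : U ≤ P) (hN : N ≤ P) (h : Nat.card U = Nat.card N) : U = N := by
  have h1 : U.subgroupOf P = N.subgroupOf P := by
    apply eq_of_card_eq_of_isCyclic
    rw [Nat.card_congr (Subgroup.subgroupOfEquivOfLe hU).toEquiv,
      Nat.card_congr (Subgroup.subgroupOfEquivOfLe hN).toEquiv, h]
  have h2 := congrArg (Subgroup.map P.subtype) h1
  rwa [Subgroup.subgroupOf_map_subtype, Subgroup.subgroupOf_map_subtype,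
    inf_of_le_left hU, inf_of_le_left hN] at h2

end Basics

section Hyps

variable {G : Type*} [Group G]

/-- All `p`-subgroups, `p ≠ r`, are cyclic. -/
def CycHyp (r : ℕ) (G : Type*) [Group G] : Prop :=
  ∀ p : ℕ, p.Prime → p ≠ r → ∀ P : Subgroup G, IsPGroup p P → IsCyclic P

/-- `p`-subgroups of equal order are conjugate. -/
def ConjHyp (G : Type*) [Group G] : Prop :=
  ∀ p : ℕ, p.Prime → ∀ H K : Subgroup G, IsPGroup p H → IsPGroup p K →
    Nat.card H = Nat.card K → ∃ g : G, K = cj g H

theorem cycHyp_subgroup {r : ℕ} (h : CycHyp r G) (L : Subgroup G) : CycHyp r L := by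
  intro p hp hpr P hP
  have h1 : IsCyclic (P.map L.subtype) := h p hp hpr _ (hP.map _)
  have e : P ≃* P.map L.subtype := P.equivMapOfInjective L.subtype (Subgroup.subtype_injective L)
  exact isCyclic_of_surjective e.symm e.symm.surjective

theorem cycHyp_quotient [Finite G] {r : ℕ} (h : CycHyp r G) (N : Subgroup G) [N.Normal] :
    CycHyp r (G ⧸ N) := by
  intro p hp hpr P hP
  have : Fact p.Prime := ⟨hp⟩
  obtain ⟨Q, hQ⟩ := hP.exists_le_sylow
  obtain ⟨Q₀, rfl⟩ := Sylow.mapSurjective_surjective (QuotientGroup.mk'_surjective N) p Q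
  have h1 : IsCyclic (Q₀ : Subgroup G) := h p hp hpr _ Q₀.isPGroup'
  have h2 : IsCyclic ((Q₀ : Subgroup G).map (QuotientGroup.mk' N)) :=
    isCyclic_of_surjective ((QuotientGroup.mk' N).subgroupMap (Q₀ : Subgroup G))
      ((QuotientGroup.mk' N).subgroupMap_surjective _)
  rw [Sylow.coe_mapSurjective] at hQ
  exact Subgroup.isCyclic_of_le hQ

/-- A `p`-subgroup of a quotient is the image of a Sylow `p`-subgroup of its preimage. -/
theorem exists_sylow_map_eq [Finite G] (N : Subgroup G) [N.Normal] {p : ℕ} [Fact p.Prime]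
    (Pb : Subgroup (G ⧸ N)) (hPb : IsPGroup p Pb) :
    ∃ A : Subgroup G, IsPGroup p A ∧ A.map (QuotientGroup.mk' N) = Pb ∧
      Nat.card A = p ^ (Nat.card N * Nat.card Pb).factorization p := by
  set X : Subgroup G := Pb.comap (QuotientGroup.mk' N) with hX
  obtain A₀ : Sylow p X := default
  have hXcard : Nat.card X = Nat.card N * Nat.card Pb :=
    Cfsg.Agent.Lib.Helper67_Basic.card_comap_mk' N Pb
  refine ⟨(A₀ : Subgroup X).map X.subtype, A₀.isPGroup'.map _, ?_, ?_⟩
  · apply le_antisymm
    · rintro _ ⟨a, ⟨a', -, rfl⟩, rfl⟩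
      exact a'.2
    · intro y hy
      set f := (QuotientGroup.mk' N).subgroupComap Pb with hf
      have hfs : Function.Surjective f :=
        (QuotientGroup.mk' N).subgroupComap_surjective_of_surjective Pb
          (QuotientGroup.mk'_surjective N)
      have htop : ((A₀.mapSurjective hfs : Sylow p Pb) : Subgroup Pb) = ⊤ := by
        have h1 : IsPGroup p (⊤ : Subgroup Pb) := hPb.to_subgroup _
        exact ((A₀.mapSurjective hfs).is_maximal' h1 le_top).symm
      have hy' : (⟨y, hy⟩ : Pb) ∈ ((A₀.mapSurjective hfs : Sylow p Pb) : Subgroup Pb) := by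
        rw [htop]; exact Subgroup.mem_top _
      rw [Sylow.coe_mapSurjective] at hy'
      obtain ⟨a, ha, hay⟩ := hy'
      refine ⟨(a : G), ⟨a, ha, rfl⟩, ?_⟩
      exact congrArg Subtype.val hay
  · rw [Subgroup.card_map_of_injective (Subgroup.subtype_injective X), A₀.card_eq_multiplicity,
      hXcard]

theorem conjHyp_quotient [Finite G] (h : ConjHyp G) (N : Subgroup G) [N.Normal] :
    ConjHyp (G ⧸ N) := by
  intro p hp Pb Qb hPb hQb hcard
  have : Fact p.Prime := ⟨hp⟩
  obtain ⟨A, hA, hAmap, hAcard⟩ := exists_sylow_map_eq N Pb hPb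
  obtain ⟨B, hB, hBmap, hBcard⟩ := exists_sylow_map_eq N Qb hQb
  obtain ⟨g, hg⟩ := h p hp A B hA hB (by rw [hAcard, hBcard, hcard])
  refine ⟨QuotientGroup.mk' N g, ?_⟩
  rw [← hBmap, ← hAmap, hg]
  ext y
  constructor
  · rintro ⟨b, ⟨a, ha, rfl⟩, rfl⟩
    refine ⟨QuotientGroup.mk' N a, ⟨a, ha, rfl⟩, ?_⟩
    simp
  · rintro ⟨b, ⟨a, ha, rfl⟩, rfl⟩
    refine ⟨g * a * g⁻¹, ⟨a, ha, by simp⟩, ?_⟩
    simp

end Hyps

section Coprime

variable {G : Type*} [Group G]

/-- A nontrivial cyclic normal `q`-subgroup contains a normal subgroup of order `q`. -/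
theorem exists_normal_prime_of_cyclic [Finite G] {q : ℕ} (hq : q.Prime) (N₀ : Subgroup G)
    (hN₀N : N₀.Normal) (hN₀bot : N₀ ≠ ⊥) (hN₀q : IsPGroup q N₀) (hN₀c : IsCyclic N₀) :
    ∃ N : Subgroup G, N.Normal ∧ Nat.card N = q ∧ N ≤ N₀ := by
  have : Fact q.Prime := ⟨hq⟩
  have hnt : Nontrivial N₀ := (Subgroup.nontrivial_iff_ne_bot N₀).2 hN₀bot
  obtain ⟨k, hk0, hk⟩ := (hN₀q.nontrivial_iff_card).1 hnt
  have hdvd : q ∣ Nat.card N₀ := by rw [hk]; exact dvd_pow_self q hk0.ne'
  obtain ⟨x, hx⟩ := exists_prime_orderOf_dvd_card' (G := N₀) q hdvd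
  have hx' : orderOf (x : G) = q := by rw [Subgroup.orderOf_coe]; exact hx
  refine ⟨Subgroup.zpowers (x : G), ⟨?_⟩, by rw [Nat.card_zpowers, hx'],
    Subgroup.zpowers_le.2 x.2⟩
  intro n hn g
  have h1 : cj g (Subgroup.zpowers (x : G)) = Subgroup.zpowers (x : G) := by
    apply eq_of_card_eq_of_le_cyclic hN₀c
    · calc cj g (Subgroup.zpowers (x : G)) ≤ cj g N₀ := cj_mono g (Subgroup.zpowers_le.2 x.2)
        _ = N₀ := cj_normal g N₀
    · exact Subgroup.zpowers_le.2 x.2
    · exact card_cj g _
  rw [← h1]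
  exact ⟨n, hn, rfl⟩

/-- Order of the image in the quotient when `N ≤ A`. -/
theorem card_map_mk_of_le [Finite G] (N : Subgroup G) [N.Normal] {A : Subgroup G} (h : N ≤ A) :
    Nat.card N * Nat.card (A.map (QuotientGroup.mk' N)) = Nat.card A := by
  rw [← Cfsg.Agent.Lib.Helper67_Basic.card_comap_mk', QuotientGroup.comap_map_mk',
    sup_of_le_right h]

/-- Order of the image in the quotient when the orders are coprime. -/
theorem card_map_mk_of_coprime [Finite G] (N : Subgroup G) [N.Normal] {A : Subgroup G}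
    (h : (Nat.card A).Coprime (Nat.card N)) :
    Nat.card (A.map (QuotientGroup.mk' N)) = Nat.card A := by
  have h1 : A ⊓ N = ⊥ := (Subgroup.disjoint_of_coprime_natCard h).eq_bot
  have h2 : Function.Injective ((QuotientGroup.mk' N).subgroupMap A) := by
    rw [← MonoidHom.ker_eq_bot_iff, eq_bot_iff]
    intro a ha
    rw [MonoidHom.mem_ker] at ha
    have h3 : QuotientGroup.mk' N (a : G) = 1 := congrArg Subtype.val ha
    have h4 : (a : G) ∈ N := (QuotientGroup.eq_one_iff _).1 h3
    have h5 : (a : G) ∈ A ⊓ N := ⟨a.2, h4⟩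
    rw [h1, Subgroup.mem_bot] at h5
    rw [Subgroup.mem_bot]
    exact Subtype.ext h5
  have h3 := Nat.card_congr (Equiv.ofBijective _
    ⟨h2, (QuotientGroup.mk' N).subgroupMap_surjective A⟩)
  exact h3.symm

/-- Conjugation commutes with taking preimages in a quotient. -/
theorem comap_cj (N : Subgroup G) [N.Normal] (g : G) (Ab : Subgroup (G ⧸ N)) :
    (cj (QuotientGroup.mk' N g) Ab).comap (QuotientGroup.mk' N) =
      cj g (Ab.comap (QuotientGroup.mk' N)) := by
  ext x
  rw [Subgroup.mem_comap, mem_cj, mem_cj, Subgroup.mem_comap, map_mul, map_mul, map_inv]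

/-- If the images of `A` and `B` are conjugate in the quotient then `B ⊔ N` is conjugate to
`A ⊔ N`. -/
theorem sup_eq_of_map_eq (N : Subgroup G) [N.Normal] (g : G) (A B : Subgroup G)
    (h : B.map (QuotientGroup.mk' N) = cj (QuotientGroup.mk' N g) (A.map (QuotientGroup.mk' N))) :
    N ⊔ B = N ⊔ cj g A := by
  have h1 := congrArg (Subgroup.comap (QuotientGroup.mk' N)) h
  rw [comap_cj, QuotientGroup.comap_map_mk', QuotientGroup.comap_map_mk', cj_sup,
    cj_normal] at h1
  exact h1

/-- The key step: conclude conjugacy from conjugacy modulo a normal subgroup `N` which either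
is contained in both subgroups or has order prime to theirs. -/
theorem conj_of_conj_quotient [Finite G] [Group.IsSolvable G] (N : Subgroup G) [N.Normal]
    (A B : Subgroup G) (hAB : Nat.card A = Nat.card B)
    (hcase : (N ≤ A ∧ N ≤ B) ∨ (Nat.card A).Coprime (Nat.card N)) (g : G)
    (h : B.map (QuotientGroup.mk' N) = cj (QuotientGroup.mk' N g) (A.map (QuotientGroup.mk' N))) :
    ∃ x : G, B = cj x A := by
  have hsup := sup_eq_of_map_eq N g A B h
  rcases hcase with ⟨hNA, hNB⟩ | hcop
  · refine ⟨g, ?_⟩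
    have h1 : N ≤ cj g A := by
      calc N = cj g N := (cj_normal g N).symm
        _ ≤ cj g A := cj_mono g hNA
    rw [sup_of_le_right hNB, sup_of_le_right h1] at hsup
    exact hsup
  · have hcop' : (Nat.card (cj g A)).Coprime (Nat.card N) := by rw [card_cj]; exact hcop
    have hsolv : Group.IsSolvable (cj g A) ∨ Group.IsSolvable N := Or.inr inferInstance
    have hnorm : cj g A ≤ Subgroup.normalizer (N : Set G) := by
      rw [Subgroup.normalizer_eq_top]; exact le_top
    have hB : B ≤ N ⊔ cj g A := by rw [← hsup]; exact le_sup_right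
    obtain ⟨k, -, hk⟩ := Cfsg.Agent.Lib.Helper24_CoprimeAction.sz_rel_conj (cj g A) N B hnorm
      hcop' hsolv hB (by rw [card_cj, hAB])
    refine ⟨k * g, ?_⟩
    rw [← cj_cj]
    exact hk.symm

/-- A normal `q`-subgroup of prime order in a group whose Sylow `q`-subgroups are cyclic is the
unique subgroup of order `q`. -/
theorem unique_of_normal_prime [Finite G] {q : ℕ} (hq : q.Prime)
    (hcyc : ∀ P : Subgroup G, IsPGroup q P → IsCyclic P) (N : Subgroup G) [hN : N.Normal]
    (hNq : Nat.card N = q) (U : Subgroup G) (hU : Nat.card U = q) : U = N := by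
  have : Fact q.Prime := ⟨hq⟩
  have hUq : IsPGroup q U := IsPGroup.of_card (n := 1) (by rw [hU, pow_one])
  have hNq' : IsPGroup q N := IsPGroup.of_card (n := 1) (by rw [hNq, pow_one])
  obtain ⟨P, hP⟩ := hUq.exists_le_sylow
  have hNP : N ≤ P := (Cfsg.Agent.Lib.Helper1_Cores.le_pCore hN hNq').trans
    (Cfsg.Agent.Lib.Helper1_Cores.pCore_le_sylow q P)
  exact eq_of_card_eq_of_le_cyclic (hcyc _ P.isPGroup') hP hNP (by rw [hU, hNq])

/-- **Coprime case**: in a solvable group all of whose `p`-subgroups, `p ≠ r`, are cyclic, two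
subgroups of the same order prime to `r` are conjugate. -/
theorem conj_of_coprime_aux (r : ℕ) : ∀ n : ℕ, ∀ (G : Type u) [Group G] [Finite G]
    [Group.IsSolvable G], Nat.card G = n → CycHyp r G →
    ∀ A B : Subgroup G, Nat.card A = Nat.card B → (Nat.card A).Coprime r →
      ∃ g : G, B = cj g A := by
  intro n
  induction n using Nat.strong_induction_on with
  | _ n ih =>
    intro G _ _ _ hn hcyc A B hAB hcop
    by_cases hnt : Nontrivial G
    · obtain ⟨N₀, q, hN₀N, hN₀bot, hq, hN₀q⟩ :=
        Cfsg.Agent.Lib.Helper1_SZ.exists_normal_pSubgroup (Q := G) inferInstance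
      -- choose the normal subgroup `N`
      obtain ⟨N, hNN, hNbot, hNcase⟩ : ∃ N : Subgroup G, N.Normal ∧ N ≠ ⊥ ∧
          ((N ≤ A ∧ N ≤ B) ∨ (Nat.card A).Coprime (Nat.card N)) := by
        by_cases hqr : q = r
        · refine ⟨N₀, hN₀N, hN₀bot, Or.inr ?_⟩
          have : Fact q.Prime := ⟨hq⟩
          obtain ⟨k, hk⟩ := IsPGroup.iff_card.1 hN₀q
          rw [hk, hqr]
          exact Nat.Coprime.pow_right k hcop
        · obtain ⟨N, hNN, hNq, -⟩ := exists_normal_prime_of_cyclic hq N₀ hN₀N hN₀bot hN₀q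
            (hcyc q hq hqr N₀ hN₀q)
          have hNbot : N ≠ ⊥ := by
            intro h0
            rw [h0, Subgroup.card_bot] at hNq
            exact hq.one_lt.ne hNq
          refine ⟨N, hNN, hNbot, ?_⟩
          have : Fact q.Prime := ⟨hq⟩
          have huniq := unique_of_normal_prime hq (hcyc q hq hqr) N (hN := hNN) hNq
          by_cases hqA : q ∣ Nat.card A
          · left
            have key : ∀ C : Subgroup G, q ∣ Nat.card C → N ≤ C := by
              intro C hC
              obtain ⟨c, hc⟩ := exists_prime_orderOf_dvd_card' (G := C) q hC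
              have hc' : orderOf (c : G) = q := by rw [Subgroup.orderOf_coe]; exact hc
              have h1 : Subgroup.zpowers (c : G) = N :=
                huniq _ (by rw [Nat.card_zpowers, hc'])
              rw [← h1]
              exact Subgroup.zpowers_le.2 c.2
            exact ⟨key A hqA, key B (hAB ▸ hqA)⟩
          · right
            rw [hNq]
            exact (Nat.coprime_comm).1 ((Nat.Prime.coprime_iff_not_dvd hq).2 hqA)
      -- induction in the quotient
      have hlt : Nat.card (G ⧸ N) < n := by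
        rw [← hn, ← Subgroup.index_eq_card, ← Subgroup.card_mul_index N]
        have h1 : 1 < Nat.card N := (Subgroup.one_lt_card_iff_ne_bot N).2 hNbot
        have h2 : 0 < N.index := Nat.pos_of_ne_zero Subgroup.index_ne_zero_of_finite
        nlinarith
      have hcardq : Nat.card (A.map (QuotientGroup.mk' N)) =
          Nat.card (B.map (QuotientGroup.mk' N)) := by
        rcases hNcase with ⟨hNA, hNB⟩ | hc
        · have h1 := card_map_mk_of_le N hNA
          have h2 := card_map_mk_of_le N hNB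
          rw [← hAB, ← h1] at h2
          exact (Nat.eq_of_mul_eq_mul_left Nat.card_pos h2).symm
        · rw [card_map_mk_of_coprime N hc, card_map_mk_of_coprime N (hAB ▸ hc), hAB]
      have hcopq : (Nat.card (A.map (QuotientGroup.mk' N))).Coprime r :=
        Nat.Coprime.coprime_dvd_left (Subgroup.card_map_dvd _ _) hcop
      obtain ⟨gb, hgb⟩ := ih _ hlt (G ⧸ N) rfl (cycHyp_quotient hcyc N) _ _ hcardq hcopq
      obtain ⟨g, rfl⟩ := QuotientGroup.mk'_surjective N gb
      exact conj_of_conj_quotient N A B hAB hNcase g hgb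
    · rw [not_nontrivial_iff_subsingleton] at hnt
      exact ⟨1, by rw [cj_one]; exact Subsingleton.elim _ _⟩

theorem conj_of_coprime {G : Type u} [Group G] [Finite G] [Group.IsSolvable G] {r : ℕ}
    (hcyc : CycHyp r G) (A B : Subgroup G) (hAB : Nat.card A = Nat.card B)
    (hcop : (Nat.card A).Coprime r) : ∃ g : G, B = cj g A :=
  conj_of_coprime_aux r _ G rfl hcyc A B hAB hcop

end Coprime

section NormalSylow

variable {G : Type u} [Group G]

/-- The intersection with a normal Sylow `r`-subgroup has the order of a Sylow `r`-subgroup. -/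
theorem card_inf_normal_sylow [Finite G] {r : ℕ} [hr : Fact r.Prime] (R : Sylow r G)
    (hRN : (R : Subgroup G).Normal) (X : Subgroup G) :
    Nat.card (X ⊓ R : Subgroup G) = r ^ (Nat.card X).factorization r := by
  have hpg : IsPGroup r (X ⊓ R : Subgroup G) := R.isPGroup'.to_le inf_le_right
  obtain ⟨a, ha⟩ := IsPGroup.iff_card.1 hpg
  have h1 : Nat.card ((R : Subgroup G).subgroupOf X) = Nat.card (X ⊓ R : Subgroup G) := by
    rw [← Subgroup.inf_subgroupOf_left]
    exact Nat.card_congr (Subgroup.subgroupOfEquivOfLe inf_le_left).toEquiv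
  have h2 := Subgroup.card_mul_index ((R : Subgroup G).subgroupOf X)
  rw [h1, ha] at h2
  have h3 : ¬ r ∣ ((R : Subgroup G).subgroupOf X).index := by
    intro h
    have h4 : (R : Subgroup G).relIndex X ∣ (R : Subgroup G).index :=
      Subgroup.relIndex_dvd_index_of_normal (R : Subgroup G) X
    exact R.not_dvd_index (h.trans h4)
  rw [ha, ← h2, Nat.factorization_mul (pow_pos hr.out.pos a).ne'
    (Nat.pos_of_ne_zero Subgroup.index_ne_zero_of_finite).ne', Nat.Prime.factorization_pow hr.out]
  simp [Nat.factorization_eq_zero_of_not_dvd h3]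

/-- A complement in `X` to the intersection with a normal Sylow `r`-subgroup. -/
theorem exists_compl_of_normal_sylow [Finite G] {r : ℕ} [hr : Fact r.Prime] (R : Sylow r G)
    (hRN : (R : Subgroup G).Normal) (X : Subgroup G) :
    ∃ Q : Subgroup G, Q ≤ X ∧ (X ⊓ R) ⊔ Q = X ∧ (Nat.card Q).Coprime r ∧
      Nat.card (X ⊓ R : Subgroup G) * Nat.card Q = Nat.card X := by
  set N' := (R : Subgroup G).subgroupOf X with hN'
  have hN'N : N'.Normal := hRN.subgroupOf X
  have hpg : IsPGroup r N' := by
    have : IsPGroup r (R : Subgroup G) := R.isPGroup'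
    exact this.comap_subtype
  obtain ⟨a, ha⟩ := IsPGroup.iff_card.1 hpg
  have h3 : ¬ r ∣ N'.index := by
    intro h
    have h4 : (R : Subgroup G).relIndex X ∣ (R : Subgroup G).index :=
      Subgroup.relIndex_dvd_index_of_normal (R : Subgroup G) X
    exact R.not_dvd_index (h.trans h4)
  have hcop : (Nat.card N').Coprime N'.index := by
    rw [ha]
    exact Nat.Coprime.pow_left a ((Nat.Prime.coprime_iff_not_dvd hr.out).2 h3)
  obtain ⟨H', hH'⟩ := Subgroup.exists_right_complement'_of_coprime hcop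
  have hN'map : N'.map X.subtype = X ⊓ R := by
    rw [hN', Subgroup.subgroupOf_map_subtype, inf_comm]
  have h1 : Nat.card N' = Nat.card (X ⊓ R : Subgroup G) := by
    rw [← hN'map]
    exact (Subgroup.card_map_of_injective (Subgroup.subtype_injective X)).symm
  refine ⟨H'.map X.subtype, Subgroup.map_subtype_le _, ?_, ?_, ?_⟩
  · rw [← hN'map, ← Subgroup.map_sup, hH'.sup_eq_top, ← MonoidHom.range_eq_map,
      Subgroup.range_subtype]
  · rw [Subgroup.card_map_of_injective (Subgroup.subtype_injective X), ← hH'.symm.index_eq_card]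
    exact (Nat.coprime_comm).1 ((Nat.Prime.coprime_iff_not_dvd hr.out).2 h3)
  · rw [Subgroup.card_map_of_injective (Subgroup.subtype_injective X), ← h1]
    exact hH'.card_mul_card

/-- Conjugation in a subgroup versus the ambient group. -/
theorem map_subtype_cj (L : Subgroup G) (l : L) (A : Subgroup L) :
    (cj l A).map L.subtype = cj (l : G) (A.map L.subtype) := by
  have h : L.subtype.comp (MulAut.conj l).toMonoidHom =
      (MulAut.conj (l : G)).toMonoidHom.comp L.subtype := by
    ext x
    simp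
  change (A.map (MulAut.conj l).toMonoidHom).map L.subtype =
    (A.map L.subtype).map (MulAut.conj (l : G)).toMonoidHom
  rw [Subgroup.map_map, Subgroup.map_map, h]

/-- The case of a normal Sylow `r`-subgroup. -/
theorem conj_of_normal_sylow [Finite G] [Group.IsSolvable G] {r : ℕ} [hr : Fact r.Prime]
    (hconj : ConjHyp G) (hcyc : CycHyp r G) (R : Sylow r G) (hRN : (R : Subgroup G).Normal)
    (H K : Subgroup G) (hHK : Nat.card H = Nat.card K) : ∃ g : G, K = cj g H := by
  have hcard : Nat.card (H ⊓ R : Subgroup G) = Nat.card (K ⊓ R : Subgroup G) := by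
    rw [card_inf_normal_sylow R hRN, card_inf_normal_sylow R hRN, hHK]
  obtain ⟨g, hg⟩ := hconj r hr.out (H ⊓ R) (K ⊓ R) (R.isPGroup'.to_le inf_le_right)
    (R.isPGroup'.to_le inf_le_right) hcard
  set H' := cj g H with hH'
  have hH'K : Nat.card H' = Nat.card K := by rw [hH', card_cj, hHK]
  have hD : H' ⊓ R = K ⊓ R := by
    rw [hg, cj_inf, cj_normal g (R : Subgroup G) (hN := hRN)]
  suffices ∃ l : G, K = cj l H' by
    obtain ⟨l, hl⟩ := this
    exact ⟨l * g, by rw [hl, hH', cj_cj]⟩
  set D := K ⊓ R with hDdef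
  obtain ⟨Q₁, hQ₁le, hQ₁sup, hQ₁cop, hQ₁card⟩ := exists_compl_of_normal_sylow R hRN H'
  obtain ⟨Q₂, hQ₂le, hQ₂sup, hQ₂cop, hQ₂card⟩ := exists_compl_of_normal_sylow R hRN K
  rw [hD] at hQ₁sup hQ₁card
  have hQcard : Nat.card Q₁ = Nat.card Q₂ := by
    rw [← hH'K, ← hQ₁card] at hQ₂card
    exact (Nat.eq_of_mul_eq_mul_left Nat.card_pos hQ₂card).symm
  set L := Subgroup.normalizer (D : Set G) with hL
  have hnorm : ∀ X : Subgroup G, X ⊓ R = D → X ≤ L := by
    intro X hX x hx
    rw [hL, Subgroup.mem_normalizer_iff_map_conj_eq]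
    change cj x D = D
    rw [← hX, cj_inf, cj_normal x (R : Subgroup G) (hN := hRN)]
    congr 1
    exact Cfsg.Agent.Lib.Helper24_CoprimeAction.map_conj_of_mem X hx
  have hQ₁L : Q₁ ≤ L := hQ₁le.trans (hnorm H' hD)
  have hQ₂L : Q₂ ≤ L := hQ₂le.trans (hnorm K rfl)
  have hcardL : Nat.card (Q₁.subgroupOf L) = Nat.card (Q₂.subgroupOf L) := by
    rw [Nat.card_congr (Subgroup.subgroupOfEquivOfLe hQ₁L).toEquiv,
      Nat.card_congr (Subgroup.subgroupOfEquivOfLe hQ₂L).toEquiv, hQcard]
  have hcopL : (Nat.card (Q₁.subgroupOf L)).Coprime r := by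
    rw [Nat.card_congr (Subgroup.subgroupOfEquivOfLe hQ₁L).toEquiv]; exact hQ₁cop
  obtain ⟨l, hl⟩ := conj_of_coprime (cycHyp_subgroup hcyc L) (Q₁.subgroupOf L)
    (Q₂.subgroupOf L) hcardL hcopL
  have hl' := congrArg (Subgroup.map L.subtype) hl
  rw [map_subtype_cj, Subgroup.subgroupOf_map_subtype, Subgroup.subgroupOf_map_subtype,
    inf_of_le_left hQ₁L, inf_of_le_left hQ₂L] at hl'
  refine ⟨(l : G), ?_⟩
  rw [← hQ₁sup, cj_sup, ← hl', cj_of_mem_normalizer l.2, hQ₂sup]

end NormalSylow

section Main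

/-- A normal `r`-subgroup, properly contained in a Sylow `r`-subgroup, which is the unique
subgroup of its order is cyclic. -/
theorem isCyclic_of_unique_of_lt {G : Type u} [Group G] [Finite G] {r : ℕ} [hr : Fact r.Prime]
    (R : Sylow r G) (N₀ : Subgroup G) (hle : N₀ ≤ R) (hne : N₀ ≠ R)
    (huniq : ∀ U : Subgroup G, Nat.card U = Nat.card N₀ → U = N₀) : IsCyclic N₀ := by
  have hN₀q : IsPGroup r N₀ := R.isPGroup'.to_le hle
  obtain ⟨k, hk⟩ := IsPGroup.iff_card.1 hN₀q
  obtain ⟨m, hm⟩ := IsPGroup.iff_card.1 R.isPGroup'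
  have hlt : N₀ < (R : Subgroup G) := lt_of_le_of_ne hle hne
  have hcardlt : Nat.card N₀ < Nat.card (R : Subgroup G) := by
    by_contra hnot
    push Not at hnot
    exact hne (Subgroup.eq_of_le_of_card_ge hle hnot)
  rw [hk, hm] at hcardlt
  have hkm : k < m := (Nat.pow_lt_pow_iff_right hr.out.one_lt).1 hcardlt
  have hdvdR : Nat.card (R : Subgroup G) ∣ Nat.card G := Subgroup.card_subgroup_dvd_card _
  have hdvd1 : r ^ (k + 1) ∣ Nat.card G := by
    rw [hm] at hdvdR
    exact (pow_dvd_pow r hkm).trans hdvdR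
  have hdvd0 : r ^ k ∣ Nat.card G := (pow_dvd_pow r (Nat.le_succ k)).trans hdvd1
  obtain ⟨T, hTcard, hN₀T⟩ := Sylow.exists_subgroup_card_pow_prime_le r hdvd1 N₀ hk
    (Nat.le_succ k)
  have hN₀ltT : N₀ < T := by
    refine lt_of_le_of_ne hN₀T ?_
    intro h
    rw [← h, hk] at hTcard
    have := Nat.pow_right_injective hr.out.two_le hTcard
    omega
  obtain ⟨x, hxT, hxN₀⟩ := SetLike.exists_of_lt hN₀ltT
  have hxo : orderOf x ∣ r ^ (k + 1) := by
    rw [← hTcard]; exact Subgroup.orderOf_dvd_natCard _ hxT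
  obtain ⟨j, hj, hxj⟩ := (Nat.dvd_prime_pow hr.out).1 hxo
  have hzT : Subgroup.zpowers x = T := by
    by_cases hjk : j ≤ k
    · exfalso
      obtain ⟨M, hMcard, hxM⟩ := Sylow.exists_subgroup_card_pow_prime_le r hdvd0
        (Subgroup.zpowers x) (by rw [Nat.card_zpowers, hxj]) hjk
      have hMN : M = N₀ := huniq M (by rw [hMcard, hk])
      exact hxN₀ (hMN ▸ hxM (Subgroup.mem_zpowers x))
    · have hj' : j = k + 1 := by omega
      apply Subgroup.eq_of_le_of_card_ge (Subgroup.zpowers_le.2 hxT)
      rw [Nat.card_zpowers, hxj, hj', hTcard]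
  have hTc : IsCyclic T := by
    rw [← hzT]; infer_instance
  exact Subgroup.isCyclic_of_le hN₀T

theorem main_aux (r : ℕ) [hr : Fact r.Prime] : ∀ n : ℕ, ∀ (G : Type u) [Group G] [Finite G]
    [Group.IsSolvable G], Nat.card G = n → ConjHyp G → CycHyp r G →
    ∀ H K : Subgroup G, Nat.card H = Nat.card K → ∃ g : G, K = cj g H := by
  intro n
  induction n using Nat.strong_induction_on with
  | _ n ih =>
    intro G _ _ _ hn hconj hcyc H K hHK
    obtain R : Sylow r G := default
    by_cases hRN : (R : Subgroup G).Normal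
    · exact conj_of_normal_sylow hconj hcyc R hRN H K hHK
    have hnt : Nontrivial G := by
      by_contra hnt
      rw [not_nontrivial_iff_subsingleton] at hnt
      apply hRN
      have : (R : Subgroup G) = ⊥ := Subsingleton.elim _ _
      rw [this]; infer_instance
    obtain ⟨N₀, q, hN₀N, hN₀bot, hq, hN₀q⟩ :=
      Cfsg.Agent.Lib.Helper1_SZ.exists_normal_pSubgroup (Q := G) inferInstance
    have hqf : Fact q.Prime := ⟨hq⟩
    have hN₀c : IsCyclic N₀ := by
      by_cases hqr : q = r
      · subst hqr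
        have hle : N₀ ≤ R := (Cfsg.Agent.Lib.Helper1_Cores.le_pCore hN₀N hN₀q).trans
          (Cfsg.Agent.Lib.Helper1_Cores.pCore_le_sylow q R)
        have hne : N₀ ≠ R := by
          intro h
          exact hRN (h ▸ hN₀N)
        apply isCyclic_of_unique_of_lt R N₀ hle hne
        intro U hU
        obtain ⟨k, hk⟩ := IsPGroup.iff_card.1 hN₀q
        have hUq : IsPGroup q U := IsPGroup.of_card (n := k) (by rw [hU, hk])
        obtain ⟨g, hg⟩ := hconj q hq N₀ U hN₀q hUq hU.symm
        rw [hg, cj_normal g N₀]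
      · exact hcyc q hq hqr N₀ hN₀q
    obtain ⟨N, hNN, hNq, -⟩ := exists_normal_prime_of_cyclic hq N₀ hN₀N hN₀bot hN₀q hN₀c
    have hNbot : N ≠ ⊥ := by
      intro h0
      rw [h0, Subgroup.card_bot] at hNq
      exact hq.one_lt.ne hNq
    have hNpg : IsPGroup q N := IsPGroup.of_card (n := 1) (by rw [hNq, pow_one])
    have huniq : ∀ U : Subgroup G, Nat.card U = q → U = N := by
      intro U hU
      have hUq : IsPGroup q U := IsPGroup.of_card (n := 1) (by rw [hU, pow_one])
      obtain ⟨g, hg⟩ := hconj q hq N U hNpg hUq (by rw [hNq, hU])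
      rw [hg, cj_normal g N]
    have hNcase : (N ≤ H ∧ N ≤ K) ∨ (Nat.card H).Coprime (Nat.card N) := by
      by_cases hqH : q ∣ Nat.card H
      · left
        have key : ∀ C : Subgroup G, q ∣ Nat.card C → N ≤ C := by
          intro C hC
          obtain ⟨c, hc⟩ := exists_prime_orderOf_dvd_card' (G := C) q hC
          have hc' : orderOf (c : G) = q := by rw [Subgroup.orderOf_coe]; exact hc
          have h1 : Subgroup.zpowers (c : G) = N :=
            huniq _ (by rw [Nat.card_zpowers, hc'])
          rw [← h1]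
          exact Subgroup.zpowers_le.2 c.2
        exact ⟨key H hqH, key K (hHK ▸ hqH)⟩
      · right
        rw [hNq]
        exact (Nat.coprime_comm).1 ((Nat.Prime.coprime_iff_not_dvd hq).2 hqH)
    have hlt : Nat.card (G ⧸ N) < n := by
      rw [← hn, ← Subgroup.index_eq_card, ← Subgroup.card_mul_index N]
      have h1 : 1 < Nat.card N := (Subgroup.one_lt_card_iff_ne_bot N).2 hNbot
      have h2 : 0 < N.index := Nat.pos_of_ne_zero Subgroup.index_ne_zero_of_finite
      nlinarith
    have hcardq : Nat.card (H.map (QuotientGroup.mk' N)) =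
        Nat.card (K.map (QuotientGroup.mk' N)) := by
      rcases hNcase with ⟨hNA, hNB⟩ | hc
      · have h1 := card_map_mk_of_le N hNA
        have h2 := card_map_mk_of_le N hNB
        rw [← hHK, ← h1] at h2
        exact (Nat.eq_of_mul_eq_mul_left Nat.card_pos h2).symm
      · rw [card_map_mk_of_coprime N hc, card_map_mk_of_coprime N (hHK ▸ hc), hHK]
    obtain ⟨gb, hgb⟩ := ih _ hlt (G ⧸ N) rfl (conjHyp_quotient hconj N) (cycHyp_quotient hcyc N)
      _ _ hcardq
    obtain ⟨g, rfl⟩ := QuotientGroup.mk'_surjective N gb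
    exact conj_of_conj_quotient N H K hHK hNcase g hgb

end Main

/-- Let G be a finite solvable group in which, for every prime p, any two p-subgroups of the same order are conjugate, and suppose the Sylow p-subgroups of G are cyclic for all primes p with at most one exception. Then any two subgroups of G of the same order are conjugate. -/
theorem result {G : Type*} [Group G] [Finite G]
    [Group.IsSolvable G] (hD : ∀ p : ℕ, p.Prime → ∀ H K : Subgroup G, IsPGroup p H → IsPGroup p K → Nat.card H = Nat.card K →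
      ∃ g : G, K = H.map (MulAut.conj g).toMonoidHom)
    (r : ℕ) (hcyc : ∀ p : ℕ, p.Prime → p ≠ r → ∀ P : Sylow p G, IsCyclic P) :
    ∀ H K : Subgroup G, Nat.card H = Nat.card K → ∃ g : G, K = H.map (MulAut.conj g).toMonoidHom := by
  have hcyc' : CycHyp r G := by
    intro p hp hpr P hP
    have : Fact p.Prime := ⟨hp⟩
    obtain ⟨Q, hQ⟩ := hP.exists_le_sylow
    have := hcyc p hp hpr Q
    exact Subgroup.isCyclic_of_le hQ
  intro H K hHK
  by_cases hr : r.Prime
  · have : Fact r.Prime := ⟨hr⟩
    exact main_aux r _ G rfl hD hcyc' H K hHK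
  · have hcyc1 : CycHyp 1 G := by
      intro p hp _ P hP
      exact hcyc' p hp (fun h => hr (h ▸ hp)) P hP
    exact conj_of_coprime hcyc1 H K hHK (Nat.coprime_one_right _)

end Cfsg.Agent.S4022
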