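import Cfsg.Statements.S4023
import Cfsg.Agent.S0016
import Cfsg.Agent.Lib.Helper63_PGroup2

set_option autoImplicit false
open Cfsg

namespace Cfsg.Agent.S4023

open Cfsg.Agent.Lib.Helper63_PGroup2 Cfsg.Agent.Lib.Helper63_PGroup
open scoped commutatorElement

/-- the property: subgroups of equal order are isomorphic -/
def EqCardIso (Q : Type*) [Group Q] : Prop :=
  ∀ A B : Subgroup Q, Nat.card A = Nat.card B → Nonempty (A ≃* B)

theorem EqCardIso.congr {Q Q' : Type*} [Group Q] [Group Q'] (e : Q ≃* Q') (h : EqCardIso Q) :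
    EqCardIso Q' := by
  intro A B hAB
  have eA : A ≃* A.map e.symm.toMonoidHom := e.symm.subgroupMap A
  have eB : B ≃* B.map e.symm.toMonoidHom := e.symm.subgroupMap B
  have hc : Nat.card (A.map e.symm.toMonoidHom) = Nat.card (B.map e.symm.toMonoidHom) := by
    rw [← Nat.card_congr eA.toEquiv, ← Nat.card_congr eB.toEquiv, hAB]
  obtain ⟨f⟩ := h _ _ hc
  exact ⟨eA.trans (f.trans eB.symm)⟩

/-- in a generalized quaternion group, `xa 0` is not a square -/
theorem xa_ne_sq {n : ℕ} (s : QuaternionGroup n) : s * s ≠ QuaternionGroup.xa 0 := by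
  cases s with
  | a i => simp [QuaternionGroup.a_mul_a]
  | xa i => simp [QuaternionGroup.xa_mul_xa]

/-- in a cyclic group of order 8 an element of order 4 is a square -/
theorem exists_sq_of_orderOf_four {K : Type*} [Group K] [IsCyclic K] (hK : Nat.card K = 8)
    (v : K) (hv : orderOf v = 4) : ∃ s : K, s * s = v := by
  obtain ⟨w, hw⟩ := IsCyclic.exists_generator (α := K)
  have hfin : Finite K := Nat.finite_of_card_ne_zero (by omega)
  have how : orderOf w = 8 := by
    rw [orderOf_eq_card_of_forall_mem_zpowers hw, hK]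
  obtain ⟨j, hj⟩ := (mem_powers_iff_mem_zpowers).2 (hw v)
  replace hj : w ^ j = v := hj
  have h1 : orderOf (w ^ j) = 8 / Nat.gcd 8 j := by
    rw [orderOf_pow' , how]
    rintro rfl
    simp at hj
    rw [← hj] at hv
    simp at hv
  rw [hj, hv] at h1
  have h2 : 2 ∣ j := by
    have h3 : Nat.gcd 8 j = 2 := by
      have hd : Nat.gcd 8 j ∣ 8 := Nat.gcd_dvd_left 8 j
      have h4 := Nat.div_mul_cancel hd
      rw [← h1] at h4
      omega
    rw [← h3]
    exact Nat.gcd_dvd_right 8 j
  obtain ⟨k, rfl⟩ := h2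
  refine ⟨w ^ k, ?_⟩
  rw [← hj, ← pow_add]
  congr 1
  omega


theorem not_eqCardIso_quaternion (m : ℕ) (hm : 2 ≤ m) : ¬ EqCardIso (QuaternionGroup (2 ^ m)) := by
  intro h
  obtain ⟨k, rfl⟩ : ∃ k, m = k + 2 := ⟨m - 2, by omega⟩
  have hne : NeZero (2 ^ (k + 2)) := ⟨by positivity⟩
  have hcard : Nat.card (QuaternionGroup (2 ^ (k + 2))) = 2 ^ (k + 4) := by
    rw [Nat.card_eq_fintype_card, QuaternionGroup.card]
    ring
  -- the cyclic subgroup of order 8
  have hc : orderOf ((QuaternionGroup.a 1 : QuaternionGroup (2 ^ (k + 2))) ^ (2 ^ k)) = 8 := by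
    rw [orderOf_pow_of_dvd (by positivity), QuaternionGroup.orderOf_a_one]
    · have : 2 * 2 ^ (k + 2) = 8 * 2 ^ k := by ring
      rw [this, Nat.mul_div_cancel _ (by positivity)]
    · rw [QuaternionGroup.orderOf_a_one]
      exact ⟨8, by ring⟩
  set c := (QuaternionGroup.a 1 : QuaternionGroup (2 ^ (k + 2))) ^ (2 ^ k) with hcdef
  have hC : Nat.card (Subgroup.zpowers c) = 8 := by rw [Nat.card_zpowers, hc]
  -- the subgroup generated by xa 0
  set v : QuaternionGroup (2 ^ (k + 2)) := QuaternionGroup.xa 0 with hvdef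
  have hv : orderOf v = 4 := QuaternionGroup.orderOf_xa 0
  have hV : Nat.card (Subgroup.zpowers v) = 2 ^ 2 := by rw [Nat.card_zpowers, hv]; norm_num
  have : Fact (Nat.Prime 2) := ⟨Nat.prime_two⟩
  obtain ⟨K, hK, hVK⟩ := Sylow.exists_subgroup_card_pow_prime_le 2
    (show 2 ^ 3 ∣ Nat.card (QuaternionGroup (2 ^ (k + 2))) by
      rw [hcard]; exact pow_dvd_pow 2 (by omega)) (Subgroup.zpowers v) hV (by norm_num)
  obtain ⟨e⟩ := h (Subgroup.zpowers c) K (by rw [hC, hK]; norm_num)
  have : IsCyclic K := isCyclic_of_surjective e e.surjective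
  have hvK : v ∈ K := hVK (Subgroup.mem_zpowers v)
  obtain ⟨s, hs⟩ := exists_sq_of_orderOf_four (K := K) (by rw [hK]; norm_num) ⟨v, hvK⟩
    (by rw [Subgroup.orderOf_mk]; exact hv)
  apply xa_ne_sq (s : QuaternionGroup (2 ^ (k + 2)))
  have := congrArg Subtype.val hs
  simpa using this


variable {Q : Type*} [Group Q]

theorem exists_orderOf_eq_sq {p : ℕ} [hp : Fact p.Prime] (hQ : IsPGroup p Q) (g : Q)
    (hg : g ^ p ≠ 1) : ∃ x : Q, orderOf x = p ^ 2 := by
  obtain ⟨k, hk⟩ := hQ g
  obtain ⟨j, hjk, hj⟩ := (Nat.dvd_prime_pow hp.out).1 (orderOf_dvd_of_pow_eq_one hk)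
  have hj2 : 2 ≤ j := by
    by_contra hlt
    apply hg
    have : j = 0 ∨ j = 1 := by omega
    rcases this with rfl | rfl
    · rw [pow_zero, orderOf_eq_one_iff] at hj
      rw [hj, one_pow]
    · rw [pow_one] at hj
      rw [← hj, pow_orderOf_eq_one]
  refine ⟨g ^ (p ^ (j - 2)), ?_⟩
  rw [orderOf_pow_of_dvd (pow_ne_zero _ hp.out.ne_zero), hj]
  · rw [Nat.pow_div (by omega) hp.out.pos]
    congr 1
    omega
  · rw [hj]
    exact pow_dvd_pow p (by omega)

/-- the join of a central subgroup of exponent p and a cyclic group of order p has exponent p -/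
theorem pow_eq_one_of_mem_sup {p : ℕ} {z h : Q} (hz : z ∈ Subgroup.center Q)
    (hzp : z ^ p = 1) (hhp : h ^ p = 1) {e : Q} (he : e ∈ Subgroup.zpowers z ⊔ Subgroup.zpowers h) :
    e ^ p = 1 := by
  have hN : (Subgroup.zpowers z).Normal := by
    constructor
    intro n hn g
    have : n ∈ Subgroup.center Q := (Subgroup.zpowers_le.2 hz) hn
    rw [Subgroup.mem_center_iff] at this
    rw [this g, mul_inv_cancel_right]
    exact hn
  have hmem : e ∈ ((Subgroup.zpowers z ⊔ Subgroup.zpowers h : Subgroup Q) : Set Q) := he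
  rw [Subgroup.normal_mul] at hmem
  obtain ⟨a, ha, b, hb, rfl⟩ := hmem
  have hac : a ∈ Subgroup.center Q := (Subgroup.zpowers_le.2 hz) ha
  have hcomm : Commute a b := (Subgroup.mem_center_iff.1 hac b).symm
  rw [hcomm.mul_pow]
  obtain ⟨i, rfl⟩ := Subgroup.mem_zpowers_iff.1 ha
  obtain ⟨j, rfl⟩ := Subgroup.mem_zpowers_iff.1 hb
  rw [← zpow_natCast, ← zpow_natCast, ← zpow_mul, ← zpow_mul, mul_comm i, mul_comm j, zpow_mul, zpow_mul,
    zpow_natCast, zpow_natCast, hzp, hhp, one_zpow, one_zpow, one_mul]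

theorem card_sup_le {A B : Subgroup Q} [Finite Q] (hB : B ≤ Subgroup.normalizer (A : Set Q)) :
    Nat.card (A ⊔ B : Subgroup Q) ≤ Nat.card A * Nat.card B := by
  have h1 : Nat.card (A ⊔ B : Subgroup Q) = Nat.card (((A ⊔ B : Subgroup Q)) : Set Q) := rfl
  rw [h1, Subgroup.coe_mul_of_right_le_normalizer_left A B hB]
  exact Set.natCard_mul_le


theorem normal_zpowers_of_mem_center {z : Q} (hz : z ∈ Subgroup.center Q) :
    (Subgroup.zpowers z).Normal := by
  constructor
  intro n hn g
  have : n ∈ Subgroup.center Q := (Subgroup.zpowers_le.2 hz) hn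
  rw [Subgroup.mem_center_iff] at this
  rw [this g, mul_inv_cancel_right]
  exact hn

/-- a subgroup of prime order is generated by any of its nontrivial elements -/
theorem exists_zpowers_eq_of_card_prime [Finite Q] {p : ℕ} [hp : Fact p.Prime] (H : Subgroup Q)
    (hH : Nat.card H = p) : ∃ h : Q, orderOf h = p ∧ Subgroup.zpowers h = H := by
  have h1 : 1 < Nat.card H := by rw [hH]; exact hp.out.one_lt
  rw [Finite.one_lt_card_iff_nontrivial] at h1
  obtain ⟨⟨h, hh⟩, hne⟩ := exists_ne (1 : H)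
  have hord : orderOf h = p := by
    have hd : orderOf (⟨h, hh⟩ : H) ∣ p := hH ▸ orderOf_dvd_natCard _
    rw [Subgroup.orderOf_mk] at hd
    rcases (Nat.dvd_prime hp.out).1 hd with h0 | h0
    · exfalso
      apply hne
      rw [orderOf_eq_one_iff] at h0
      exact Subtype.ext h0
    · exact h0
  refine ⟨h, hord, ?_⟩
  apply Subgroup.eq_of_le_of_card_ge (Subgroup.zpowers_le.2 hh)
  rw [Nat.card_zpowers, hord, hH]

theorem unique_subgroup_of_card_prime [Finite Q] {p : ℕ} [hp : Fact p.Prime] (hQ : IsPGroup p Q)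
    (hiso : EqCardIso Q) (x : Q) (hx : orderOf x = p ^ 2) :
    ∀ H K : Subgroup Q, Nat.card H = p → Nat.card K = p → H = K := by
  have hp1 := hp.out.one_lt
  have hnt : Nontrivial Q := by
    refine ⟨⟨x, 1, ?_⟩⟩
    rintro rfl
    rw [orderOf_one] at hx
    have : 1 < p ^ 2 := Nat.one_lt_pow (by norm_num) hp1
    omega
  have hcn : Nontrivial (Subgroup.center Q) := hQ.center_nontrivial
  have hdvd : p ∣ Nat.card (Subgroup.center Q) := by
    rcases (hQ.to_subgroup (Subgroup.center Q)).card_eq_or_dvd with h | h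
    · exfalso
      have := Finite.one_lt_card_iff_nontrivial.2 hcn
      omega
    · exact h
  obtain ⟨⟨z, hzc⟩, hz⟩ := exists_prime_orderOf_dvd_card' p hdvd
  rw [Subgroup.orderOf_mk] at hz
  have hzp : z ^ p = 1 := by rw [← hz, pow_orderOf_eq_one]
  have hN : (Subgroup.zpowers z).Normal := normal_zpowers_of_mem_center hzc
  have key : ∀ H : Subgroup Q, Nat.card H = p → H = Subgroup.zpowers z := by
    intro H hH
    by_contra hne
    obtain ⟨h, hord, rfl⟩ := exists_zpowers_eq_of_card_prime H hH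
    have hhp : h ^ p = 1 := by rw [← hord, pow_orderOf_eq_one]
    have hnot : h ∉ Subgroup.zpowers z := by
      intro hmem
      apply hne
      apply Subgroup.eq_of_le_of_card_ge (Subgroup.zpowers_le.2 hmem)
      rw [Nat.card_zpowers, Nat.card_zpowers, hord, hz]
    -- E has order p ^ 2
    obtain ⟨j, hj⟩ := IsPGroup.iff_card.1 (hQ.to_subgroup (Subgroup.zpowers z ⊔ Subgroup.zpowers h))
    have hlt : Nat.card (Subgroup.zpowers z) < Nat.card ↥(Subgroup.zpowers z ⊔ Subgroup.zpowers h) := by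
      have hle : Subgroup.zpowers z ≤ Subgroup.zpowers z ⊔ Subgroup.zpowers h := le_sup_left
      have h1 := Subgroup.card_le_of_le hle
      rcases h1.lt_or_eq with h2 | h2
      · exact h2
      · exfalso
        apply hnot
        rw [Subgroup.eq_of_le_of_card_ge hle h2.ge]
        exact Subgroup.mem_sup_right (Subgroup.mem_zpowers h)
    rw [Nat.card_zpowers, hz, hj] at hlt
    have hge : p ^ 2 ≤ p ^ j := sq_le_of_lt_pow hp.out hlt
    have hle : p ^ j ≤ p * p := by
      rw [← hj]
      have := card_sup_le (A := Subgroup.zpowers z) (B := Subgroup.zpowers h)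
        (Subgroup.le_normalizer_of_normal)
      rwa [Nat.card_zpowers, Nat.card_zpowers, hz, hord] at this
    have hE : Nat.card ↥(Subgroup.zpowers z ⊔ Subgroup.zpowers h) = p ^ 2 := by
      rw [hj]
      rw [← sq] at hle
      omega
    obtain ⟨e⟩ := hiso (Subgroup.zpowers x) (Subgroup.zpowers z ⊔ Subgroup.zpowers h)
      (by rw [hE, Nat.card_zpowers, hx])
    have h1 : (e ⟨x, Subgroup.mem_zpowers x⟩ : Q) ^ p = 1 :=
      pow_eq_one_of_mem_sup hzc hzp hhp (e ⟨x, Subgroup.mem_zpowers x⟩).2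
    have h2 : (e ⟨x, Subgroup.mem_zpowers x⟩) ^ p = 1 := Subtype.ext (by simpa using h1)
    rw [← map_pow, e.map_eq_one_iff] at h2
    have h3 : x ^ p = 1 := by
      have := congrArg Subtype.val h2
      simpa using this
    have h4 := orderOf_dvd_of_pow_eq_one h3
    rw [hx] at h4
    have h5 := Nat.le_of_dvd hp.out.pos h4
    have : p < p ^ 2 := by
      calc p = p ^ 1 := (pow_one p).symm
        _ < p ^ 2 := Nat.pow_lt_pow_right hp1 (by norm_num)
    omega
  intro H K hH hK
  rw [key H hH, key K hK]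


theorem card_zpowers_le_of_pow_eq_one [Finite Q] {p : ℕ} (hp : 0 < p) {g : Q} (hg : g ^ p = 1) :
    Nat.card (Subgroup.zpowers g) ≤ p := by
  rw [Nat.card_zpowers]
  exact Nat.le_of_dvd hp (orderOf_dvd_of_pow_eq_one hg)

theorem card_le_cube_of_exponent_p [Finite Q] {p : ℕ} [hp : Fact p.Prime] (hQ : IsPGroup p Q)
    (hiso : EqCardIso Q) (hexp : ∀ g : Q, g ^ p = 1) (hnc : ¬ IsMulCommutative Q) :
    Nat.card Q ≤ p ^ 3 := by
  by_contra hcon
  rw [not_le] at hcon
  obtain ⟨n, hn⟩ := IsPGroup.iff_card.1 hQ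
  obtain ⟨A, hA, hAcard⟩ := exists_abelian_card_gt_sq hQ hcon
  obtain ⟨j, hj⟩ := IsPGroup.iff_card.1 (hQ.to_subgroup A)
  have hA3 : p ^ 3 ≤ Nat.card A := by
    rw [hj] at hAcard ⊢
    exact pow_succ_le_of_lt_pow hp.out hAcard
  obtain ⟨A', hA'A, hA'⟩ := Sylow.exists_subgroup_le_card_pow_prime_of_le_card hp.out hQ hA3
  -- all subgroups of order p^3 are commutative
  have hcomm3 : ∀ B : Subgroup Q, Nat.card B = p ^ 3 → ∀ a ∈ B, ∀ b ∈ B, a * b = b * a := by
    intro B hB a ha b hb
    obtain ⟨e⟩ := hiso B A' (by rw [hB, hA'])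
    have h1 : (e ⟨a, ha⟩ : Q) * (e ⟨b, hb⟩ : Q) = (e ⟨b, hb⟩ : Q) * (e ⟨a, ha⟩ : Q) :=
      comm_of_mem hA (hA'A (e ⟨a, ha⟩).2) (hA'A (e ⟨b, hb⟩).2)
    have h2 : e (⟨a, ha⟩ * ⟨b, hb⟩) = e (⟨b, hb⟩ * ⟨a, ha⟩) := by
      rw [map_mul, map_mul]
      exact Subtype.ext h1
    have h3 := e.injective h2
    exact congrArg Subtype.val h3
  have hdvd3 : p ^ 3 ∣ Nat.card Q := by
    rw [hn] at hcon ⊢
    apply pow_dvd_pow
    by_contra hlt
    have : p ^ n ≤ p ^ 3 := Nat.pow_le_pow_right hp.out.pos (by omega)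
    omega
  have hcomm_le : ∀ B : Subgroup Q, Nat.card B ≤ p ^ 3 → ∀ a ∈ B, ∀ b ∈ B, a * b = b * a := by
    intro B hB a ha b hb
    obtain ⟨i, hi⟩ := IsPGroup.iff_card.1 (hQ.to_subgroup B)
    have hi3 : i ≤ 3 := by
      rw [hi] at hB
      exact (Nat.pow_le_pow_iff_right hp.out.one_lt).1 hB
    obtain ⟨K, hK, hBK⟩ := Sylow.exists_subgroup_card_pow_prime_le p hdvd3 B hi hi3
    exact hcomm3 K hK a (hBK ha) b (hBK hb)
  have hna := center_ne_top_of_not_comm hnc
  obtain ⟨b, hbc, hb⟩ := exists_not_mem_center_commutator_mem_center hQ hna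
  have : ∃ y : Q, y * b ≠ b * y := by
    by_contra hall
    push Not at hall
    exact hbc (Subgroup.mem_center_iff.2 hall)
  obtain ⟨y, hy⟩ := this
  have hzc := hb y
  have hzcomm := Subgroup.mem_center_iff.1 hzc
  have hN : (Subgroup.zpowers ⁅b, y⁆).Normal := normal_zpowers_of_mem_center hzc
  have h1 : Nat.card ↥(Subgroup.zpowers ⁅b, y⁆ ⊔ Subgroup.zpowers b) ≤ p * p := by
    refine (card_sup_le Subgroup.le_normalizer_of_normal).trans ?_
    exact Nat.mul_le_mul (card_zpowers_le_of_pow_eq_one hp.out.pos (hexp _))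
      (card_zpowers_le_of_pow_eq_one hp.out.pos (hexp _))
  have hnorm : Subgroup.zpowers y ≤
      Subgroup.normalizer ((Subgroup.zpowers ⁅b, y⁆ ⊔ Subgroup.zpowers b : Subgroup Q) : Set Q) := by
    rw [Subgroup.zpowers_le]
    apply Subgroup.mem_normalizer_fintype
    have hle : Subgroup.zpowers ⁅b, y⁆ ⊔ Subgroup.zpowers b ≤
        (Subgroup.zpowers ⁅b, y⁆ ⊔ Subgroup.zpowers b).comap (MulAut.conj y).toMonoidHom := by
      apply sup_le
      · rw [Subgroup.zpowers_le, Subgroup.mem_comap]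
        have : (MulAut.conj y).toMonoidHom ⁅b, y⁆ = ⁅b, y⁆ := by
          show y * ⁅b, y⁆ * y⁻¹ = ⁅b, y⁆
          rw [hzcomm y, mul_inv_cancel_right]
        rw [this]
        exact Subgroup.mem_sup_left (Subgroup.mem_zpowers _)
      · rw [Subgroup.zpowers_le, Subgroup.mem_comap]
        have : (MulAut.conj y).toMonoidHom b = ⁅b, y⁆⁻¹ * b := by
          show y * b * y⁻¹ = ⁅b, y⁆⁻¹ * b
          rw [commutatorElement_def]
          group
        rw [this]
        exact mul_mem (inv_mem (Subgroup.mem_sup_left (Subgroup.mem_zpowers _)))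
          (Subgroup.mem_sup_right (Subgroup.mem_zpowers _))
    intro n hn
    exact hle hn
  have h2 : Nat.card ↥((Subgroup.zpowers ⁅b, y⁆ ⊔ Subgroup.zpowers b) ⊔ Subgroup.zpowers y) ≤ p ^ 3 := by
    refine (card_sup_le hnorm).trans ?_
    calc _ ≤ (p * p) * p := Nat.mul_le_mul h1 (card_zpowers_le_of_pow_eq_one hp.out.pos (hexp _))
      _ = p ^ 3 := by ring
  apply hy
  exact hcomm_le _ h2 y (Subgroup.mem_sup_right (Subgroup.mem_zpowers _)) b
    (Subgroup.mem_sup_left (Subgroup.mem_sup_right (Subgroup.mem_zpowers _)))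

/-- the abstract classification for a finite `p`-group whose subgroups of equal order are
isomorphic -/
theorem main [Finite Q] {p : ℕ} [hp : Fact p.Prime] (hQ : IsPGroup p Q) (hiso : EqCardIso Q) :
    IsCyclic Q ∨ (IsMulCommutative Q ∧ ∀ a : Q, a ^ p = 1) ∨
      (p = 2 ∧ Nonempty (Q ≃* QuaternionGroup 2)) ∨
      (p ≠ 2 ∧ ¬ IsMulCommutative Q ∧ Nat.card Q = p ^ 3 ∧ Monoid.exponent Q = p) := by
  by_cases hex : ∀ g : Q, g ^ p = 1
  · by_cases hc : IsMulCommutative Q
    · exact Or.inr (Or.inl ⟨hc, hex⟩)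
    · refine Or.inr (Or.inr (Or.inr ⟨?_, hc, ?_, ?_⟩))
      · rintro rfl
        apply hc
        refine ⟨⟨fun a b => ?_⟩⟩
        have h1 := hex (a * b)
        have h2 := hex a
        have h3 := hex b
        rw [sq] at h1 h2 h3
        calc a * b = a * (a * b * (a * b)) * b := by rw [h1, mul_one]
          _ = (a * a) * b * a * (b * b) := by group
          _ = b * a := by rw [h2, h3, one_mul, mul_one]
      · obtain ⟨n, hn⟩ := IsPGroup.iff_card.1 hQ
        have hle := card_le_cube_of_exponent_p hQ hiso hex hc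
        have hn3 : n ≤ 3 := by
          rw [hn] at hle
          exact (Nat.pow_le_pow_iff_right hp.out.one_lt).1 hle
        have hn2 : ¬ n ≤ 2 := by
          intro hn2
          apply hc
          have : n = 0 ∨ n = 1 ∨ n = 2 := by omega
          rcases this with rfl | rfl | rfl
          · rw [pow_zero] at hn
            have : Subsingleton Q := (Nat.card_eq_one_iff_unique.1 hn).1
            exact ⟨⟨fun a b => Subsingleton.elim _ _⟩⟩
          · rw [pow_one] at hn
            have : IsCyclic Q := isCyclic_of_prime_card hn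
            exact ⟨⟨fun a b => IsCyclic.commGroup.mul_comm a b⟩⟩
          · exact ⟨⟨fun a b => (IsPGroup.commGroupOfCardEqPrimeSq hn).mul_comm a b⟩⟩
        have : n = 3 := by omega
        rw [hn, this]
      · have hd : Monoid.exponent Q ∣ p := Monoid.exponent_dvd_of_forall_pow_eq_one hex
        rcases (Nat.dvd_prime hp.out).1 hd with h1 | h1
        · exfalso
          apply hc
          have : Subsingleton Q := Monoid.exp_eq_one_iff.1 h1
          exact ⟨⟨fun a b => Subsingleton.elim _ _⟩⟩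
        · exact h1
  · push Not at hex
    obtain ⟨g, hg⟩ := hex
    obtain ⟨x, hx⟩ := exists_orderOf_eq_sq hQ g hg
    have huniq := unique_subgroup_of_card_prime hQ hiso x hx
    rcases Cfsg.Agent.S0016.result p hQ huniq with h | ⟨hp2, n, ⟨e⟩⟩
    · exact Or.inl h
    · have : n = 0 ∨ n = 1 ∨ 2 ≤ n := by omega
      rcases this with rfl | rfl | hn
      · left
        have h1 : (2 : ℕ) ^ 0 = 1 := by norm_num
        rw [h1] at e
        have := QuaternionGroup.quaternionGroup_one_isCyclic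
        exact isCyclic_of_surjective e.symm e.symm.surjective
      · right; right; left
        have h1 : (2 : ℕ) ^ 1 = 2 := by norm_num
        rw [h1] at e
        exact ⟨hp2, ⟨e⟩⟩
      · exact absurd (EqCardIso.congr e hiso) (not_eqCardIso_quaternion n hn)

/-- transport of the conjugacy hypothesis to a `p`-subgroup -/
theorem eqCardIso_of_conj {G : Type*} [Group G] {p : ℕ}
    (hC : ∀ H K : Subgroup G, IsPGroup p H → IsPGroup p K → Nat.card H = Nat.card K →
      ∃ g : G, K = H.map (MulAut.conj g).toMonoidHom) (P : Subgroup G) (hP : IsPGroup p P) :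
    EqCardIso P := by
  intro A B hAB
  have eA : A ≃* A.map P.subtype := A.equivMapOfInjective P.subtype P.subtype_injective
  have eB : B ≃* B.map P.subtype := B.equivMapOfInjective P.subtype P.subtype_injective
  have hA : IsPGroup p (A.map P.subtype) := (hP.to_subgroup A).of_equiv eA
  have hB : IsPGroup p (B.map P.subtype) := (hP.to_subgroup B).of_equiv eB
  have hcard : Nat.card (A.map P.subtype) = Nat.card (B.map P.subtype) := by
    rw [← Nat.card_congr eA.toEquiv, ← Nat.card_congr eB.toEquiv, hAB]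
  obtain ⟨g, hg⟩ := hC _ _ hA hB hcard
  have e2 : A.map P.subtype ≃* (A.map P.subtype).map (MulAut.conj g).toMonoidHom :=
    (A.map P.subtype).equivMapOfInjective _ (MulAut.conj g).injective
  exact ⟨eA.trans (e2.trans ((MulEquiv.subgroupCongr hg.symm).trans eB.symm))⟩

/-- Let p be a prime and G a finite group in which any two p-subgroups of the same order are conjugate, with Sylow p-subgroup P. Then P is cyclic, or elementary abelian, or p = 2 and P is a quaternion group of order 8, or p is odd and P is non-abelian of order p³ and exponent p. -/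
theorem result {G : Type*} [Group G] [Finite G]
    {p : ℕ} [Fact p.Prime] (hC : ∀ H K : Subgroup G, IsPGroup p H → IsPGroup p K → Nat.card H = Nat.card K →
      ∃ g : G, K = H.map (MulAut.conj g).toMonoidHom) (P : Sylow p G) :
    IsCyclic P ∨ Cfsg.IsElementaryAbelian p (P : Subgroup G) ∨
      (p = 2 ∧ Nonempty ((P : Subgroup G) ≃* QuaternionGroup 2)) ∨
      (p ≠ 2 ∧ ¬ IsMulCommutative P ∧ Nat.card P = p ^ 3 ∧ Monoid.exponent P = p) := by
  have hiso := eqCardIso_of_conj hC (P : Subgroup G) P.isPGroup'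
  rcases main (Q := ↥(P : Subgroup G)) P.isPGroup' hiso with h | ⟨h1, h2⟩ | h | h
  · exact Or.inl h
  · refine Or.inr (Or.inl ⟨h1, ?_⟩)
    intro a ha
    have := h2 ⟨a, ha⟩
    exact congrArg Subtype.val this
  · exact Or.inr (Or.inr (Or.inl h))
  · exact Or.inr (Or.inr (Or.inr h))

end Cfsg.Agent.S4023
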