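import Cfsg.Statements.S4024
import Cfsg.Agent.S4023
import Cfsg.Agent.Lib.Helper63_PGroup
import Cfsg.Agent.Lib.Helper1_Cores
import Cfsg.Agent.Lib.Helper32_Cores
import Cfsg.Agent.Lib.Helper32_PSolvable

set_option autoImplicit false
open Cfsg

namespace Cfsg.Agent.S4024

open Cfsg.Agent.Lib.Helper63_PGroup Cfsg.Agent.Lib.Helper1_Cores

section fusion

variable {G : Type*} [Group G]

/-- elements of order dividing `p` lie in every normal subgroup of order divisible by `p` -/
theorem mem_of_pow_eq_one [Finite G] {p : ℕ} [hp : Fact p.Prime]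
    (hC : ∀ H K : Subgroup G, IsPGroup p H → IsPGroup p K → Nat.card H = Nat.card K →
      ∃ g : G, K = H.map (MulAut.conj g).toMonoidHom)
    (L : Subgroup G) [hLn : L.Normal] (hL : p ∣ Nat.card L) (x : G) (hx : x ^ p = 1) : x ∈ L := by
  by_cases hx1 : x = 1
  · rw [hx1]; exact one_mem L
  have hox : orderOf x = p := by
    rcases (Nat.dvd_prime hp.out).1 (orderOf_dvd_of_pow_eq_one hx) with h | h
    · exact absurd (orderOf_eq_one_iff.1 h) hx1
    · exact h
  obtain ⟨⟨y, hyL⟩, hy⟩ := exists_prime_orderOf_dvd_card' p hL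
  rw [Subgroup.orderOf_mk] at hy
  have h1 : IsPGroup p (Subgroup.zpowers y) :=
    IsPGroup.of_card (n := 1) (by rw [Nat.card_zpowers, hy, pow_one])
  have h2 : IsPGroup p (Subgroup.zpowers x) :=
    IsPGroup.of_card (n := 1) (by rw [Nat.card_zpowers, hox, pow_one])
  obtain ⟨g, hg⟩ := hC _ _ h1 h2 (by rw [Nat.card_zpowers, Nat.card_zpowers, hy, hox])
  have hxm : x ∈ (Subgroup.zpowers y).map (MulAut.conj g).toMonoidHom := by
    rw [← hg]; exact Subgroup.mem_zpowers x
  obtain ⟨w, hw, rfl⟩ := Subgroup.mem_map.1 hxm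
  have hwL : w ∈ L := (Subgroup.zpowers_le.2 hyL) hw
  exact hLn.conj_mem w hwL g

/-- a normal subgroup with a normal `p`-complement is the product of the complement with any
Sylow subgroup it contains -/
theorem sup_sylow_eq [Finite G] {p : ℕ} [hp : Fact p.Prime] (P : Sylow p G)
    (K L : Subgroup G) [K.Normal] (hKL : K ≤ L) (hPL : (P : Subgroup G) ≤ L)
    (hK : (Nat.card K).Coprime p) (hLK : ∀ x ∈ L, ∃ k : ℕ, x ^ (p ^ k) ∈ K) :
    K ⊔ (P : Subgroup G) = L := by
  have hle : K ⊔ (P : Subgroup G) ≤ L := sup_le hKL hPL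
  apply Subgroup.eq_of_le_of_card_ge hle
  -- the relative index is a power of p
  have hpq : IsPGroup p (L ⧸ K.subgroupOf L) := by
    intro xbar
    obtain ⟨⟨x, hx⟩, rfl⟩ := QuotientGroup.mk_surjective xbar
    obtain ⟨k, hk⟩ := hLK x hx
    refine ⟨k, ?_⟩
    rw [← QuotientGroup.mk_pow, QuotientGroup.eq_one_iff, Subgroup.mem_subgroupOf]
    simpa using hk
  obtain ⟨m, hm⟩ := IsPGroup.iff_card.1 hpq
  have hrel : K.relIndex L = p ^ m := by
    rw [Subgroup.relIndex, Subgroup.index_eq_card, hm]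
  have hcardL : Nat.card L = Nat.card K * p ^ m := by
    rw [← hrel, card_mul_relIndex hKL]
  have hpm : p ^ m ∣ Nat.card (P : Subgroup G) := by
    apply P.pow_dvd_card_of_pow_dvd_card
    refine dvd_trans ?_ (Subgroup.card_subgroup_dvd_card L)
    rw [hcardL]
    exact dvd_mul_left _ _
  have hcop : (Nat.card K).Coprime (Nat.card (P : Subgroup G)) := by
    obtain ⟨n, hn⟩ := IsPGroup.iff_card.1 P.isPGroup'
    rw [hn]
    exact Nat.Coprime.pow_right n hK
  have hdvd : Nat.card K * Nat.card (P : Subgroup G) ∣ Nat.card ↥(K ⊔ (P : Subgroup G)) :=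
    hcop.mul_dvd_of_dvd_of_dvd (Subgroup.card_dvd_of_le le_sup_left)
      (Subgroup.card_dvd_of_le le_sup_right)
  rw [hcardL]
  exact Nat.le_of_dvd Nat.card_pos ((Nat.mul_dvd_mul_left _ hpm).trans hdvd)


/-- the fusion argument: if a normal subgroup `L` of order divisible by `p` has a normal
`p`-complement `K` and the Sylow subgroup `P` has exponent `p`, then `P` is abelian. -/
theorem comm_of_section [Finite G] {p : ℕ} [hp : Fact p.Prime]
    (hC : ∀ H K : Subgroup G, IsPGroup p H → IsPGroup p K → Nat.card H = Nat.card K →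
      ∃ g : G, K = H.map (MulAut.conj g).toMonoidHom) (P : Sylow p G)
    (K L : Subgroup G) [hKn : K.Normal] [L.Normal] (hKL : K ≤ L)
    (hK : (Nat.card K).Coprime p) (hLK : ∀ x ∈ L, ∃ k : ℕ, x ^ (p ^ k) ∈ K) (hL : p ∣ Nat.card L)
    (hexp : ∀ a ∈ (P : Subgroup G), a ^ p = 1) :
    ∀ a ∈ (P : Subgroup G), ∀ b ∈ (P : Subgroup G), a * b = b * a := by
  have hPL : (P : Subgroup G) ≤ L := fun a ha => mem_of_pow_eq_one hC L hL a (hexp a ha)
  have hsup := sup_sylow_eq P K L hKL hPL hK hLK
  have hfrat : Subgroup.normalizer ((P : Subgroup G) : Set G) ⊔ L = ⊤ :=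
    Sylow.normalizer_sup_eq_top' P hPL
  have hdisj : ∀ x : G, x ∈ K → x ∈ (P : Subgroup G) → x = 1 := by
    intro x hxK hxP
    have hcop : (Nat.card K).Coprime (Nat.card (P : Subgroup G)) := by
      obtain ⟨n, hn⟩ := IsPGroup.iff_card.1 P.isPGroup'
      rw [hn]
      exact Nat.Coprime.pow_right n hK
    have := Subgroup.disjoint_of_coprime_natCard hcop
    rw [Subgroup.disjoint_def] at this
    exact this hxK hxP
  intro a ha b hb
  by_cases ha1 : a = 1
  · rw [ha1, one_mul, mul_one]
  have hoa : orderOf a = p := by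
    rcases (Nat.dvd_prime hp.out).1 (orderOf_dvd_of_pow_eq_one (hexp a ha)) with h | h
    · exact absurd (orderOf_eq_one_iff.1 h) ha1
    · exact h
  -- a central element of order p
  have hnt : Nontrivial (P : Subgroup G) :=
    ⟨⟨⟨a, ha⟩, 1, fun h => ha1 (congrArg Subtype.val h)⟩⟩
  have hcn : Nontrivial (Subgroup.center (P : Subgroup G)) := P.isPGroup'.center_nontrivial
  have hdvd : p ∣ Nat.card (Subgroup.center (P : Subgroup G)) := by
    rcases (P.isPGroup'.to_subgroup (Subgroup.center (P : Subgroup G))).card_eq_or_dvd with h | h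
    · exfalso
      have := Finite.one_lt_card_iff_nontrivial.2 hcn
      omega
    · exact h
  obtain ⟨⟨⟨z, hzP⟩, hzc⟩, hz⟩ := exists_prime_orderOf_dvd_card' p hdvd
  rw [Subgroup.orderOf_mk, Subgroup.orderOf_mk] at hz
  have hzcent : z ∈ Subgroup.centralizer ((P : Subgroup G) : Set G) := by
    rw [Subgroup.mem_centralizer_iff]
    intro c hc
    have := Subgroup.mem_center_iff.1 hzc ⟨c, hc⟩
    exact congrArg Subtype.val this
  have h1 : IsPGroup p (Subgroup.zpowers z) :=
    IsPGroup.of_card (n := 1) (by rw [Nat.card_zpowers, hz, pow_one])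
  have h2 : IsPGroup p (Subgroup.zpowers a) :=
    IsPGroup.of_card (n := 1) (by rw [Nat.card_zpowers, hoa, pow_one])
  obtain ⟨g, hg⟩ := hC _ _ h1 h2 (by rw [Nat.card_zpowers, Nat.card_zpowers, hz, hoa])
  have ham : a ∈ (Subgroup.zpowers z).map (MulAut.conj g).toMonoidHom := by
    rw [← hg]; exact Subgroup.mem_zpowers a
  obtain ⟨w, hw, hwa⟩ := Subgroup.mem_map.1 ham
  have hwP : w ∈ (P : Subgroup G) := (Subgroup.zpowers_le.2 hzP) hw
  have hwc : w ∈ Subgroup.centralizer ((P : Subgroup G) : Set G) := (Subgroup.zpowers_le.2 hzcent) hw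
  rw [Subgroup.mem_centralizer_iff] at hwc
  replace hwa : g * w * g⁻¹ = a := hwa
  -- decompose g
  have hgtop : g ∈ ((Subgroup.normalizer ((P : Subgroup G) : Set G) ⊔ L : Subgroup G) : Set G) := by
    rw [hfrat]; trivial
  rw [Subgroup.mul_normal] at hgtop
  obtain ⟨n, hn, l, hl, hgeq⟩ := hgtop
  replace hgeq : n * l = g := hgeq
  have hl' : l ∈ ((K ⊔ (P : Subgroup G) : Subgroup G) : Set G) := by rw [hsup]; exact hl
  rw [Subgroup.normal_mul] at hl'
  obtain ⟨k, hk, c, hc, hleq⟩ := hl'
  replace hleq : k * c = l := hleq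
  subst hleq
  subst hgeq
  replace hn : n ∈ Subgroup.normalizer ((P : Subgroup G) : Set G) := hn
  replace hk : k ∈ K := hk
  replace hc : c ∈ (P : Subgroup G) := hc
  have hcw : c * w * c⁻¹ = w := by rw [hwc c hc, mul_inv_cancel_right]
  have ha' : a = n * (k * w * k⁻¹) * n⁻¹ := by
    rw [← hwa]
    calc n * (k * c) * w * (n * (k * c))⁻¹ = n * (k * (c * w * c⁻¹) * k⁻¹) * n⁻¹ := by group
      _ = n * (k * w * k⁻¹) * n⁻¹ := by rw [hcw]
  have huP : k * w * k⁻¹ ∈ (P : Subgroup G) := by
    rw [Subgroup.mem_normalizer_iff.1 hn (k * w * k⁻¹), ← ha']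
    exact ha
  have hu : k * w * k⁻¹ = w := by
    have h3 : k * w * k⁻¹ * w⁻¹ = 1 := by
      apply hdisj
      · have : k * w * k⁻¹ * w⁻¹ = k * (w * k⁻¹ * w⁻¹) := by group
        rw [this]
        exact K.mul_mem hk (hKn.conj_mem _ (K.inv_mem hk) w)
      · exact (P : Subgroup G).mul_mem huP ((P : Subgroup G).inv_mem hwP)
    exact mul_inv_eq_one.1 h3
  rw [hu] at ha'
  -- now a = n w n⁻¹ is central in P
  have hb' : n⁻¹ * b * n ∈ (P : Subgroup G) := by
    have hn' := (Subgroup.normalizer ((P : Subgroup G) : Set G)).inv_mem hn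
    have := (Subgroup.mem_normalizer_iff.1 hn' b).1 hb
    simpa using this
  have hcomm := hwc _ hb'
  rw [ha']
  calc n * w * n⁻¹ * b = n * (w * (n⁻¹ * b * n)) * n⁻¹ := by group
    _ = n * ((n⁻¹ * b * n) * w) * n⁻¹ := by rw [hcomm]
    _ = b * (n * w * n⁻¹) := by group


end fusion

theorem pPrimePCore_characteristic (p : ℕ) [Fact p.Prime] (X : Type*) [Group X] [Finite X] :
    (pPrimePCore p X).Characteristic := by
  rw [Subgroup.characteristic_iff_le_comap]
  intro φ x hx
  rw [Subgroup.mem_comap]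
  unfold pPrimePCore at hx ⊢
  rw [Subgroup.mem_comap] at hx ⊢
  have hmap : (pPrimeCore p X).map φ.toMonoidHom = pPrimeCore p X :=
    Subgroup.characteristic_iff_map_eq.1 inferInstance φ
  have h1 : QuotientGroup.mk' (pPrimeCore p X) (φ x) =
      QuotientGroup.congr (pPrimeCore p X) (pPrimeCore p X) φ hmap
        (QuotientGroup.mk' (pPrimeCore p X) x) := rfl
  have hO : (pCore p (X ⧸ pPrimeCore p X)).Characteristic := inferInstance
  have h2 := Subgroup.characteristic_iff_le_comap.1 hO
    (QuotientGroup.congr (pPrimeCore p X) (pPrimeCore p X) φ hmap) hx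
  rw [Subgroup.mem_comap] at h2
  exact h2

theorem section_props (p : ℕ) [hp : Fact p.Prime] (X : Type*) [Group X] [Finite X]
    (hs : IsPSolvable p X) (hdiv : p ∣ Nat.card X) :
    (Nat.card (pPrimeCore p X)).Coprime p ∧ pPrimeCore p X ≤ pPrimePCore p X ∧
      (∀ x ∈ pPrimePCore p X, ∃ k : ℕ, x ^ (p ^ k) ∈ pPrimeCore p X) ∧
      p ∣ Nat.card (pPrimePCore p X) := by
  have hcop : (Nat.card (pPrimeCore p X)).Coprime p := pPrimeCore_card_coprime p
  refine ⟨hcop, ?_, ?_, ?_⟩
  · intro x hx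
    unfold pPrimePCore
    rw [Subgroup.mem_comap]
    have : QuotientGroup.mk' (pPrimeCore p X) x = 1 := (QuotientGroup.eq_one_iff x).2 hx
    rw [this]
    exact one_mem _
  · intro x hx
    unfold pPrimePCore at hx
    rw [Subgroup.mem_comap] at hx
    obtain ⟨k, hk⟩ := (pCore_isPGroup (G := X ⧸ pPrimeCore p X) p) ⟨_, hx⟩
    refine ⟨k, ?_⟩
    have h1 := congrArg Subtype.val hk
    simp only [Subgroup.coe_pow, Subgroup.coe_one] at h1
    rw [← map_pow] at h1
    exact (QuotientGroup.eq_one_iff _).1 h1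
  · have hne : pPrimeCore p X ≠ ⊤ := by
      intro h
      rw [h, Subgroup.card_top] at hcop
      have := Nat.Coprime.eq_one_of_dvd hcop.symm hdiv
      exact hp.out.one_lt.ne' this
    have hnt : Nontrivial (X ⧸ pPrimeCore p X) := by
      rw [← not_subsingleton_iff_nontrivial, QuotientGroup.subsingleton_iff]
      exact hne
    have hq := Cfsg.Agent.Lib.Helper32_PSolvable.isPSolvable_quotient (pPrimeCore p X) hs
    have hcore : pCore p (X ⧸ pPrimeCore p X) ≠ ⊥ := by
      rcases Cfsg.Agent.Lib.Helper32_PSolvable.exists_core_ne_bot hq with h | h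
      · exact absurd (Cfsg.Agent.Lib.Helper32_Cores.pPrimeCore_quotient_eq_bot p) h
      · exact h
    have hmap : (pPrimePCore p X).map (QuotientGroup.mk' (pPrimeCore p X)) =
        pCore p (X ⧸ pPrimeCore p X) := by
      unfold pPrimePCore
      exact Subgroup.map_comap_eq_self_of_surjective (QuotientGroup.mk'_surjective _) _
    have h1 : p ∣ Nat.card (pCore p (X ⧸ pPrimeCore p X)) := by
      rcases (pCore_isPGroup (G := X ⧸ pPrimeCore p X) p).card_eq_or_dvd with h | h
      · exfalso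
        apply hcore
        exact (Subgroup.card_eq_one).1 h
      · exact h
    rw [← hmap] at h1
    exact h1.trans (Subgroup.card_map_dvd _ _)


/-- Let p be an odd prime and G a finite group in which any two p-subgroups of the same order are conjugate, with Sylow p-subgroup P. If H is a normal p-solvable subgroup of G whose order is divisible by p, then P is abelian, and either P ≤ H or P is cyclic. -/
theorem result {G : Type*} [Group G] [Finite G]
    {p : ℕ} [Fact p.Prime] (hp : p ≠ 2) (hC : ∀ H K : Subgroup G, IsPGroup p H → IsPGroup p K → Nat.card H = Nat.card K →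
      ∃ g : G, K = H.map (MulAut.conj g).toMonoidHom) (P : Sylow p G)
    (H : Subgroup G) [H.Normal] (hsolv : Cfsg.IsPSolvable p H) (hdiv : p ∣ Nat.card H) :
    IsMulCommutative P ∧ ((P : Subgroup G) ≤ H ∨ IsCyclic P) := by
  rcases Cfsg.Agent.S4023.result hC P with h | h | h | h
  · refine ⟨?_, Or.inr h⟩
    exact ⟨⟨fun a b => IsCyclic.commGroup.mul_comm a b⟩⟩
  · refine ⟨h.1, Or.inl ?_⟩
    intro a ha
    exact mem_of_pow_eq_one hC H hdiv a (h.2 a ha)
  · exact absurd h.1 hp
  · exfalso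
    obtain ⟨-, hnc, -, hexp⟩ := h
    apply hnc
    have hexp' : ∀ a ∈ (P : Subgroup G), a ^ p = 1 := by
      intro a ha
      have h1 : (⟨a, ha⟩ : (P : Subgroup G)) ^ p = 1 := by
        have := Monoid.pow_exponent_eq_one (⟨a, ha⟩ : (P : Subgroup G))
        rwa [hexp] at this
      exact congrArg Subtype.val h1
    obtain ⟨hcop, hKL, hLK, hL⟩ := section_props p ↥H hsolv hdiv
    have hchar := pPrimePCore_characteristic p ↥H
    have hKn : ((pPrimeCore p ↥H).map H.subtype).Normal := inferInstance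
    have hLn : ((pPrimePCore p ↥H).map H.subtype).Normal := inferInstance
    have hcomm := comm_of_section hC P ((pPrimeCore p ↥H).map H.subtype)
      ((pPrimePCore p ↥H).map H.subtype) (Subgroup.map_mono hKL)
      (by rw [Subgroup.card_map_of_injective H.subtype_injective]; exact hcop)
      (by
        rintro x ⟨y, hy, rfl⟩
        obtain ⟨k, hk⟩ := hLK y hy
        exact ⟨k, ⟨y ^ (p ^ k), hk, by simp⟩⟩)
      (by rw [Subgroup.card_map_of_injective H.subtype_injective]; exact hL)
      hexp'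
    exact ⟨⟨fun a b => Subtype.ext (hcomm a a.2 b b.2)⟩⟩

end Cfsg.Agent.S4024
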