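import Cfsg.Statements.S4028
import Cfsg.Agent.Lib.Helper67_Basic

set_option autoImplicit false
open Cfsg

namespace Cfsg.Agent.S4028

open Cfsg.Agent.Lib.Helper67_Basic

/-- Let G be a finite group with Sylow 2-subgroup P. Then N_G(⟨x⟩) = C_G(x) holds for every 2-element x of G if and only if N_P(⟨y⟩) = C_P(y) holds for every y ∈ P (computed inside P). -/
theorem result {G : Type*} [Group G] [Finite G] (P : Sylow 2 G) :
    (∀ x : G, (∀ r : ℕ, r.Prime → r ∣ orderOf x → r = 2) →
      Subgroup.normalizer ((Subgroup.zpowers x : Subgroup G) : Set G) ≤ Subgroup.centralizer {x}) ↔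
    (∀ y : ↥(P : Subgroup G), Subgroup.normalizer ((Subgroup.zpowers y : Subgroup ↥(P : Subgroup G)) : Set ↥(P : Subgroup G)) ≤
        Subgroup.centralizer {y}) := by
  have : Fact (Nat.Prime 2) := ⟨Nat.prime_two⟩
  constructor
  · intro h y g hg
    rw [mem_normalizer_zpowers_iff] at hg
    obtain ⟨j, hj⟩ := Subgroup.mem_zpowers_iff.1 hg
    have hy2 : ∀ r : ℕ, r.Prime → r ∣ orderOf (y : G) → r = 2 := by
      intro r hr hdvd
      obtain ⟨n, hn⟩ := (P.2 y)
      have h1 : orderOf y ∣ 2 ^ n := orderOf_dvd_of_pow_eq_one hn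
      rw [Subgroup.orderOf_coe] at hdvd
      have h2 : r ∣ 2 ^ n := hdvd.trans h1
      exact (Nat.prime_dvd_prime_iff_eq hr Nat.prime_two).1 (hr.dvd_of_dvd_pow h2)
    have hgG : (g : G) ∈ Subgroup.normalizer ((Subgroup.zpowers (y : G) : Subgroup G) : Set G) := by
      rw [mem_normalizer_zpowers_iff]
      refine Subgroup.mem_zpowers_iff.2 ⟨j, ?_⟩
      have := congrArg (fun z : (P : Subgroup G) => (z : G)) hj
      simpa using this
    have hc := h (y : G) hy2 hgG
    rw [Subgroup.mem_centralizer_singleton_iff] at hc ⊢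
    exact Subtype.ext hc
  · intro h x hx g hg
    -- order of x is a power of 2
    have hxord : orderOf x = 2 ^ (orderOf x).primeFactorsList.length :=
      Nat.eq_prime_pow_of_unique_prime_dvd (orderOf_pos x).ne' (fun {d} hd hdvd => hx d hd hdvd)
    set k := (orderOf x).primeFactorsList.length with hk
    set H := Subgroup.zpowers x with hH
    have hHcard : Nat.card H = 2 ^ k := by rw [Nat.card_zpowers, ← hxord]
    have hHcyc : IsCyclic H := by rw [hH]; infer_instance
    have hHp : IsPGroup 2 H := IsPGroup.of_card hHcard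
    -- decomposition of g
    have hpos : orderOf g ≠ 0 := (orderOf_pos g).ne'
    obtain ⟨a, m, hm, ham⟩ := Nat.exists_eq_two_pow_mul_odd hpos
    have hcop : Nat.Coprime m (2 ^ a) := Nat.Coprime.pow_right _ hm.coprime_two_right
    have hdecomp := eq_zpow_mul_zpow_of_coprime g hcop
    -- the odd part centralizes
    have hodd_part : g ^ (2 ^ a) ∈ Subgroup.centralizer (H : Set G) := by
      apply mem_centralizer_of_odd_of_mem_normalizer hHcyc hHcard
      · exact Subgroup.pow_mem _ hg _
      · rw [orderOf_pow, ham, Nat.gcd_eq_right (Dvd.intro _ rfl),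
          Nat.mul_div_cancel_left _ (pow_pos (by norm_num) a)]
        exact hm
    -- the 2-part centralizes
    have htwo_part : g ^ m ∈ Subgroup.centralizer ({x} : Set G) := by
      set g₂ := g ^ m with hg₂
      have hg₂N : g₂ ∈ Subgroup.normalizer (H : Set G) := Subgroup.pow_mem _ hg _
      have hg₂ord : orderOf g₂ = 2 ^ a := by
        rw [hg₂, orderOf_pow, ham, Nat.gcd_eq_right (Dvd.intro_left _ rfl), Nat.mul_div_cancel _ hm.pos]
      have hZp : IsPGroup 2 (Subgroup.zpowers g₂) := by
        apply IsPGroup.of_card (n := a)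
        rw [Nat.card_zpowers, hg₂ord]
      have hle : Subgroup.zpowers g₂ ≤ Subgroup.normalizer (H : Set G) := by
        rw [Subgroup.zpowers_le]; exact hg₂N
      have hK : IsPGroup 2 (Subgroup.zpowers g₂ ⊔ H : Subgroup G) :=
        IsPGroup.to_sup_of_normal_right' hZp hHp hle
      obtain ⟨c, hc⟩ := exists_conj_mem_sylow P hK
      have hxK : x ∈ (Subgroup.zpowers g₂ ⊔ H : Subgroup G) :=
        (le_sup_right : H ≤ _) (Subgroup.mem_zpowers x)
      have hgK : g₂ ∈ (Subgroup.zpowers g₂ ⊔ H : Subgroup G) :=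
        (le_sup_left : Subgroup.zpowers g₂ ≤ _) (Subgroup.mem_zpowers g₂)
      let y : (P : Subgroup G) := ⟨c * x * c⁻¹, hc x hxK⟩
      let u : (P : Subgroup G) := ⟨c * g₂ * c⁻¹, hc g₂ hgK⟩
      have hg₂x : g₂ * x * g₂⁻¹ ∈ H := (mem_normalizer_zpowers_iff.1 hg₂N)
      obtain ⟨j, hj⟩ := Subgroup.mem_zpowers_iff.1 hg₂x
      have huN : u ∈ Subgroup.normalizer ((Subgroup.zpowers y : Subgroup (P : Subgroup G)) : Set (P : Subgroup G)) := by
        rw [mem_normalizer_zpowers_iff]
        refine Subgroup.mem_zpowers_iff.2 ⟨j, ?_⟩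
        apply Subtype.ext
        simp only [Subgroup.coe_zpow, Subgroup.coe_mul, Subgroup.coe_inv, y, u]
        rw [conj_zpow, hj]; group
      have hcomm := h y huN
      rw [Subgroup.mem_centralizer_singleton_iff] at hcomm
      have hcomm' : (c * g₂ * c⁻¹) * (c * x * c⁻¹) = (c * x * c⁻¹) * (c * g₂ * c⁻¹) :=
        congrArg (fun z : (P : Subgroup G) => (z : G)) hcomm
      have hgx : g₂ * x = x * g₂ := by
        have e1 : g₂ * x = c⁻¹ * ((c * g₂ * c⁻¹) * (c * x * c⁻¹)) * c := by group
        rw [e1, hcomm']; group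
      exact Subgroup.mem_centralizer_singleton_iff.2 hgx
    have hodd_part' : g ^ (2 ^ a) ∈ Subgroup.centralizer ({x} : Set G) := by
      refine Subgroup.centralizer_le ?_ hodd_part
      intro z hz
      rw [Set.mem_singleton_iff] at hz
      rw [hz]
      exact Subgroup.mem_zpowers x
    rw [hdecomp]
    exact Subgroup.mul_mem _ (Subgroup.zpow_mem _ htwo_part _) (Subgroup.zpow_mem _ hodd_part' _)

end Cfsg.Agent.S4028
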