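import Mathlib
import Cfsg.Statements.S4058
import Cfsg.Agent.Lib.Helper81_FrobSchur
import Cfsg.Agent.Lib.Helper79_FrobSchur
import Cfsg.Agent.Lib.Helper79_Linear
import Cfsg.Agent.Lib.Helper81_Twist
import Cfsg.Agent.Lib.Helper3_CharDegree
import Cfsg.Agent.Lib.Helper3_CharEigen
import Cfsg.Agent.Lib.Helper80_CharBasic
import Cfsg.Agent.Lib.Helper1_Frattini
-- import your own Cfsg.Agent.* helpers here

set_option autoImplicit false
set_option linter.style.haveILetI false
open Cfsg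

namespace Cfsg.Agent.S4058

theorem sum_hom_units {H : Type*} [Group H] [Fintype H] (φ : H →* ℤˣ) :
    ∑ h : H, ((φ h : ℤˣ) : ℤ) = if φ = 1 then (Fintype.card H : ℤ) else 0 := by
  split_ifs with h
  · subst h; simp
  · obtain ⟨a, ha⟩ : ∃ a, φ a ≠ 1 := by
      by_contra hcon
      push Not at hcon
      exact h (MonoidHom.ext hcon)
    have ha' : φ a = -1 := (Int.units_eq_one_or (φ a)).resolve_left ha
    have h2 : ∑ h : H, ((φ h : ℤˣ) : ℤ) = - ∑ h : H, ((φ h : ℤˣ) : ℤ) := by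
      conv_lhs => rw [← Equiv.sum_comp (Equiv.mulLeft a)]
      simp [ha', Finset.sum_neg_distrib]
    linarith

/-- The common kernel of a subgroup of sign characters. -/
def kerSet {G : Type*} [Group G] (B : Subgroup (G →* ℤˣ)) : Set G := {g | ∀ α ∈ B, α g = 1}

theorem card_mul_card_kerSet {G : Type*} [Group G] [Finite G] (B : Subgroup (G →* ℤˣ)) :
    Nat.card B * Nat.card (kerSet B) = Nat.card G := by
  classical
  haveI := Fintype.ofFinite G
  haveI : Finite (G →* ℤˣ) := Finite.of_injective _ DFunLike.coe_injective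
  haveI := Fintype.ofFinite B
  have h1 : ∑ g : G, ∑ α : B, (((α : G →* ℤˣ) g : ℤˣ) : ℤ) =
      (Nat.card B : ℤ) * (Nat.card (kerSet B) : ℤ) := by
    have : ∀ g : G, ∑ α : B, (((α : G →* ℤˣ) g : ℤˣ) : ℤ) =
        if g ∈ kerSet B then (Nat.card B : ℤ) else 0 := by
      intro g
      have := sum_hom_units ((MonoidHom.eval g).comp B.subtype)
      simp only [MonoidHom.coe_comp, Function.comp_apply, Subgroup.coe_subtype,
        MonoidHom.eval_apply_apply] at this
      rw [this, Nat.card_eq_fintype_card]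
      congr 1
      apply propext
      constructor
      · intro h α hα
        have := DFunLike.congr_fun h ⟨α, hα⟩
        simpa using this
      · intro h
        ext α
        simpa using h α.1 α.2
    simp_rw [this]
    rw [Finset.sum_ite, Finset.sum_const_zero, add_zero, Finset.sum_const, nsmul_eq_mul]
    rw [mul_comm]
    congr 1
    rw [Nat.card_eq_fintype_card, Fintype.card_subtype]
  have h2 : ∑ g : G, ∑ α : B, (((α : G →* ℤˣ) g : ℤˣ) : ℤ) = (Nat.card G : ℤ) := by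
    rw [Finset.sum_comm]
    have : ∀ α : B, ∑ g : G, (((α : G →* ℤˣ) g : ℤˣ) : ℤ) =
        if α = 1 then (Nat.card G : ℤ) else 0 := by
      intro α
      rw [sum_hom_units, Nat.card_eq_fintype_card]
      congr 1
      apply propext
      constructor
      · intro h; exact Subtype.ext h
      · intro h; rw [h]; rfl
    simp_rw [this]
    simp
  have := h1.symm.trans h2
  exact_mod_cast this


/-- The sign character whose kernel is a given subgroup of index two. -/
noncomputable def signOf {G : Type*} [Group G] (M : Subgroup G) (h : M.index = 2) : G →* ℤˣ where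
  toFun g := by classical exact if g ∈ M then 1 else -1
  map_one' := by simp [M.one_mem]
  map_mul' a b := by
    have := Subgroup.mul_mem_iff_of_index_two h (a := a) (b := b)
    by_cases ha : a ∈ M <;> by_cases hb : b ∈ M <;> simp_all

theorem signOf_eq_one_iff {G : Type*} [Group G] (M : Subgroup G) (h : M.index = 2) (g : G) :
    signOf M h g = 1 ↔ g ∈ M := by
  classical
  change (if g ∈ M then (1 : ℤˣ) else -1) = 1 ↔ g ∈ M
  by_cases hg : g ∈ M
  · simp [hg]
  · simp [hg]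

theorem kerSet_top_subset_frattini {G : Type*} [Group G] [Finite G] (hG : IsPGroup 2 G) :
    kerSet (⊤ : Subgroup (G →* ℤˣ)) ⊆ (frattini G : Set G) := by
  haveI : Fact (Nat.Prime 2) := ⟨Nat.prime_two⟩
  intro g hg
  rw [SetLike.mem_coe, Cfsg.Agent.Lib.Helper1_Frattini.mem_frattini_iff]
  intro M hM
  have hidx := Cfsg.Agent.Lib.Helper1_Frattini.index_of_isCoatom_of_isPGroup hG hM
  have := hg (signOf M hidx) (Subgroup.mem_top _)
  exact (signOf_eq_one_iff M hidx g).mp this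

theorem card_signs_ge {G : Type*} [Group G] [Finite G] (hG : IsPGroup 2 G) (k : ℕ)
    (hgen : 2 ^ (2 * k + 1) ≤ Nat.card (G ⧸ frattini G)) :
    2 ^ (2 * k + 1) ≤ Nat.card (G →* ℤˣ) := by
  haveI : Finite (G →* ℤˣ) := Finite.of_injective _ DFunLike.coe_injective
  have h1 := card_mul_card_kerSet (⊤ : Subgroup (G →* ℤˣ))
  have h2 : Nat.card (kerSet (⊤ : Subgroup (G →* ℤˣ))) ≤ Nat.card (frattini G) :=
    Nat.card_mono (Set.toFinite _) (kerSet_top_subset_frattini hG)
  have h3 : Nat.card G = Nat.card (G ⧸ frattini G) * Nat.card (frattini G) :=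
    Subgroup.card_eq_card_quotient_mul_card_subgroup _
  have h4 : Nat.card (⊤ : Subgroup (G →* ℤˣ)) = Nat.card (G →* ℤˣ) :=
    Nat.card_congr (Subgroup.topEquiv).toEquiv
  have hKpos : 0 < Nat.card (kerSet (⊤ : Subgroup (G →* ℤˣ))) := by
    haveI : Nonempty (kerSet (⊤ : Subgroup (G →* ℤˣ))) := ⟨⟨1, fun α _ => map_one α⟩⟩
    exact Nat.card_pos
  rw [h4] at h1
  by_contra hlt
  push Not at hlt
  have : Nat.card (G →* ℤˣ) * Nat.card (kerSet (⊤ : Subgroup (G →* ℤˣ))) <
      2 ^ (2 * k + 1) * Nat.card (kerSet (⊤ : Subgroup (G →* ℤˣ))) :=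
    Nat.mul_lt_mul_of_pos_right hlt hKpos
  have h5 : 2 ^ (2 * k + 1) * Nat.card (kerSet (⊤ : Subgroup (G →* ℤˣ))) ≤
      Nat.card (G ⧸ frattini G) * Nat.card (frattini G) := Nat.mul_le_mul hgen h2
  omega

/-- A sign character as a complex valued function. -/
noncomputable def sgn {G : Type*} [Group G] (α : G →* ℤˣ) : G → ℂ :=
  fun g => (((α g : ℤˣ) : ℤ) : ℂ)

theorem sgn_isIrr {G : Type*} [Group G] (α : G →* ℤˣ) : IsIrrCharacter G (sgn α) := by
  have := Cfsg.Agent.Lib.Helper79_Linear.isIrrCharacter_of_hom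
    ((Units.map (Int.castRingHom ℂ).toMonoidHom).comp α)
  exact this

theorem sgn_one {G : Type*} [Group G] (α : G →* ℤˣ) : sgn α 1 = 1 := by
  simp [sgn]

theorem sgn_one_hom {G : Type*} [Group G] (g : G) : sgn (1 : G →* ℤˣ) g = 1 := by
  simp [sgn]

theorem sgn_mul {G : Type*} [Group G] (α β : G →* ℤˣ) (g : G) :
    sgn (α * β) g = sgn α g * sgn β g := by
  simp [sgn]

theorem sgn_cases {G : Type*} [Group G] (α : G →* ℤˣ) (g : G) :
    (α g = 1 ∧ sgn α g = 1) ∨ (α g = -1 ∧ sgn α g = -1) := by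
  rcases Int.units_eq_one_or (α g) with h | h
  · left; simp [sgn, h]
  · right; simp [sgn, h]

theorem sgn_sq {G : Type*} [Group G] (α : G →* ℤˣ) (g : G) : sgn α (g * g) = 1 := by
  rw [sgn, map_mul, Int.units_mul_self]
  simp

/-- Twisting irreducible characters by sign characters. -/
noncomputable instance twistAction {G : Type*} [Group G] [Finite G] :
    MulAction (G →* ℤˣ) (IrrCharacter G) where
  smul α χ := ⟨sgn α * χ.1,
    Cfsg.Agent.Lib.Helper81_Twist.isIrrCharacter_linear_mul (sgn_isIrr α) (sgn_one α) χ.2⟩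
  one_smul χ := by
    apply Subtype.ext
    funext g
    change sgn 1 g * χ.1 g = χ.1 g
    rw [sgn_one_hom, one_mul]
  mul_smul α β χ := by
    apply Subtype.ext
    funext g
    change sgn (α * β) g * χ.1 g = sgn α g * (sgn β g * χ.1 g)
    rw [sgn_mul, mul_assoc]

theorem smul_apply {G : Type*} [Group G] [Finite G] (α : G →* ℤˣ) (χ : IrrCharacter G) (g : G) :
    (α • χ).1 g = sgn α g * χ.1 g := rfl


/-- The Frobenius–Schur indicator. -/
noncomputable def fsInd {G : Type*} [Group G] [Fintype G] (χ : IrrCharacter G) : ℂ :=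
  (Nat.card G : ℂ)⁻¹ * ∑ u : G, χ.1 (u * u)

theorem fsInd_smul {G : Type*} [Group G] [Fintype G] (α : G →* ℤˣ) (χ : IrrCharacter G) :
    fsInd (α • χ) = fsInd χ := by
  unfold fsInd
  congr 1
  refine Finset.sum_congr rfl fun u _ => ?_
  rw [smul_apply, sgn_sq, one_mul]

theorem smul_one_apply {G : Type*} [Group G] [Finite G] (α : G →* ℤˣ) (χ : IrrCharacter G) :
    (α • χ).1 1 = χ.1 1 := by
  rw [smul_apply, sgn_one, one_mul]

theorem irr_data {G : Type*} [Group G] [Fintype G] (hG : IsPGroup 2 G) (χ : IrrCharacter G) :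
    ∃ a : ℕ, χ.1 1 = ((2 ^ a : ℕ) : ℂ) ∧
      (∀ g, Complex.normSq (χ.1 g) ≤ ((2 ^ a : ℕ) : ℝ) ^ 2) ∧
      (fsInd χ = 0 ∨ fsInd χ = 1 ∨ fsInd χ = -1) := by
  obtain ⟨n, ρ, hirr, hρ⟩ := χ.2
  haveI := hirr
  have hfin : Module.finrank ℂ (Fin n → ℂ) = n := Module.finrank_fin_fun ℂ
  have hdvd := Cfsg.Agent.Lib.Helper3_CharDegree.finrank_dvd_card ρ
  rw [hfin] at hdvd
  obtain ⟨N, hN⟩ := IsPGroup.iff_card.mp hG
  rw [hN] at hdvd
  obtain ⟨a, -, ha⟩ := (Nat.dvd_prime_pow Nat.prime_two).mp hdvd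
  subst ha
  refine ⟨a, ?_, ?_, ?_⟩
  · rw [← hρ, Representation.char_one, hfin]
  · intro g
    have h := Cfsg.Agent.Lib.Helper3_CharEigen.norm_char_le ρ g
    rw [hfin] at h
    rw [← hρ, Complex.normSq_eq_norm_sq]
    exact pow_le_pow_left₀ (norm_nonneg _) h 2
  · have := Cfsg.Agent.Lib.Helper79_FrobSchur.indicator_trichotomy ρ
    unfold fsInd
    rw [← hρ]
    exact this

theorem sum_normSq_irr {G : Type*} [Group G] [Fintype G] (χ : IrrCharacter G) :
    ∑ g : G, Complex.normSq (χ.1 g) = (Nat.card G : ℝ) := by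
  have h := Cfsg.Agent.Lib.Helper80_CharBasic.irr_norm χ
  have h2 : ∀ g : G, χ.1 g * χ.1 g⁻¹ = ((Complex.normSq (χ.1 g) : ℝ) : ℂ) := by
    intro g
    rw [Cfsg.Agent.Lib.Helper80_CharBasic.irr_inv, Complex.mul_conj]
  simp_rw [h2] at h
  apply Complex.ofReal_injective
  rw [Complex.ofReal_sum, h]
  simp

theorem vanish_off_kerSet {G : Type*} [Group G] [Finite G] (χ : IrrCharacter G) (g : G)
    (hg : g ∉ kerSet (MulAction.stabilizer (G →* ℤˣ) χ)) : χ.1 g = 0 := by
  unfold kerSet at hg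
  simp only [Set.mem_ofPred_eq, not_forall] at hg
  obtain ⟨α, hα, hne⟩ := hg
  have h1 : (α • χ).1 g = χ.1 g := by rw [MulAction.mem_stabilizer_iff.mp hα]
  rw [smul_apply] at h1
  rcases sgn_cases α g with ⟨h, _⟩ | ⟨_, h⟩
  · exact absurd h hne
  · rw [h] at h1
    have : (2 : ℂ) * χ.1 g = 0 := by linear_combination -h1
    simpa using this

theorem card_stabilizer_le {G : Type*} [Group G] [Fintype G] (χ : IrrCharacter G) (a : ℕ)
    (hbound : ∀ g, Complex.normSq (χ.1 g) ≤ ((2 ^ a : ℕ) : ℝ) ^ 2) :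
    Nat.card (MulAction.stabilizer (G →* ℤˣ) χ) ≤ (2 ^ a) ^ 2 := by
  classical
  set B := MulAction.stabilizer (G →* ℤˣ) χ with hB
  have h1 := card_mul_card_kerSet B
  have h2 := sum_normSq_irr χ
  have h3 : ∑ g : G, Complex.normSq (χ.1 g) ≤
      ∑ g : G, if g ∈ kerSet B then ((2 ^ a : ℕ) : ℝ) ^ 2 else 0 := by
    refine Finset.sum_le_sum fun g _ => ?_
    split_ifs with hg
    · exact hbound g
    · rw [vanish_off_kerSet χ g hg]; simp
  rw [Finset.sum_ite, Finset.sum_const_zero, add_zero, Finset.sum_const, nsmul_eq_mul] at h3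
  have h4 : (Finset.univ.filter fun g => g ∈ kerSet B).card = Nat.card (kerSet B) := by
    rw [Nat.card_eq_fintype_card, Fintype.card_subtype]
  rw [h4, h2] at h3
  have hKpos : 0 < Nat.card (kerSet B) := by
    haveI : Nonempty (kerSet B) := ⟨⟨1, fun α _ => map_one α⟩⟩
    exact Nat.card_pos
  have h5 : (Nat.card G : ℝ) ≤ ((Nat.card (kerSet B) * (2 ^ a) ^ 2 : ℕ) : ℝ) := by
    push_cast
    push_cast at h3
    exact h3
  have h6 : Nat.card G ≤ Nat.card (kerSet B) * (2 ^ a) ^ 2 := by exact_mod_cast h5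
  rw [← h1] at h6
  rw [mul_comm] at h6
  exact Nat.le_of_mul_le_mul_left h6 hKpos


theorem dvd_sum_of_orbits {A X : Type*} [Group A] [MulAction A X] [Fintype X] (f : X → ℤ) (m : ℤ)
    (hinv : ∀ (a : A) (x : X), f (a • x) = f x)
    (hdvd : ∀ x : X, m ∣ (Nat.card (MulAction.orbit A x) : ℤ) * f x) : m ∣ ∑ x, f x := by
  classical
  let q : X → MulAction.orbitRel.Quotient A X := Quotient.mk''
  haveI : Fintype (MulAction.orbitRel.Quotient A X) := Fintype.ofFinite _
  rw [← Finset.sum_fiberwise (s := Finset.univ) (g := q) (f := f)]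
  refine Finset.dvd_sum fun ω _ => ?_
  obtain ⟨x0, rfl⟩ := Quotient.exists_rep ω
  have hmem : ∀ x : X, q x = q x0 ↔ x ∈ MulAction.orbit A x0 := by
    intro x
    change (Quotient.mk'' x : MulAction.orbitRel.Quotient A X) = Quotient.mk'' x0 ↔ _
    rw [Quotient.eq'']
    exact MulAction.orbitRel_apply
  have hconst : ∀ x ∈ Finset.univ.filter (fun x => q x = q x0), f x = f x0 := by
    intro x hx
    have hx' := (hmem x).mp (Finset.mem_filter.mp hx).2
    obtain ⟨a, rfl⟩ := hx'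
    exact hinv a x0
  change m ∣ ∑ x ∈ Finset.univ.filter (fun x => q x = q x0), f x
  rw [Finset.sum_congr rfl hconst, Finset.sum_const, nsmul_eq_mul]
  have hcard : (Finset.univ.filter (fun x => q x = q x0)).card =
      Nat.card (MulAction.orbit A x0) := by
    rw [Nat.card_eq_fintype_card, Fintype.card_subtype]
    congr 1
    ext x
    simp only [Finset.mem_filter, Finset.mem_univ, true_and]
    exact hmem x
  rw [hcard]
  exact hdvd x0


/-- Let G be a finite 2-group with #(G/Φ(G)) ≥ 2^(2k+1). Then the number of elements x of G with x² = 1 is divisible by 2^(k+1). -/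
theorem result {G : Type*} [Group G] [Finite G] (hG : IsPGroup 2 G) (k : ℕ)
    (hgen : 2 ^ (2 * k + 1) ≤ Nat.card (G ⧸ frattini G)) :
    2 ^ (k + 1) ∣ Nat.card {x : G // x ^ 2 = 1} := by
  classical
  haveI : Fintype G := Fintype.ofFinite G
  haveI : Fintype (IrrCharacter G) := Fintype.ofFinite _
  haveI : Finite (G →* ℤˣ) := Finite.of_injective _ DFunLike.coe_injective
  have hA := card_signs_ge hG k hgen
  have hA2 : IsPGroup 2 (G →* ℤˣ) := by
    intro α
    refine ⟨1, ?_⟩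
    ext g
    simp [Int.units_sq]
  obtain ⟨d, hd⟩ := IsPGroup.iff_card.mp hA2
  rw [hd] at hA
  have hkd : 2 * k + 1 ≤ d := (Nat.pow_le_pow_iff_right (by norm_num)).mp hA
  have key : ∀ χ : IrrCharacter G, ∃ z : ℤ, fsInd χ * χ.1 1 = (z : ℂ) ∧
      ((2 ^ (k + 1) : ℕ) : ℤ) ∣ (Nat.card (MulAction.orbit (G →* ℤˣ) χ) : ℤ) * z := by
    intro χ
    obtain ⟨a, h1, hb, htri⟩ := irr_data hG χ
    have hst := card_stabilizer_le χ a hb
    have hos : Nat.card (MulAction.orbit (G →* ℤˣ) χ) *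
        Nat.card (MulAction.stabilizer (G →* ℤˣ) χ) = 2 ^ d := by
      rw [← hd, ← Nat.card_prod]
      exact Nat.card_congr (MulAction.orbitProdStabilizerEquivGroup (G →* ℤˣ) χ)
    obtain ⟨i, -, hi⟩ := (Nat.dvd_prime_pow Nat.prime_two).mp (Dvd.intro _ hos)
    obtain ⟨s, -, hs⟩ := (Nat.dvd_prime_pow Nat.prime_two).mp (Dvd.intro_left _ hos)
    rw [hi, hs, ← pow_add] at hos
    have his : i + s = d := Nat.pow_right_injective (le_refl 2) hos
    rw [hs, ← pow_mul] at hst
    have hsa : s ≤ a * 2 := (Nat.pow_le_pow_iff_right (by norm_num)).mp hst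
    have hexp : k + 1 ≤ i + a := by omega
    have hdv : ((2 ^ (k + 1) : ℕ) : ℤ) ∣ ((2 ^ i : ℕ) : ℤ) * ((2 ^ a : ℕ) : ℤ) := by
      rw [← Nat.cast_mul, ← pow_add]
      exact Int.natCast_dvd_natCast.mpr (pow_dvd_pow 2 hexp)
    rw [hi]
    rcases htri with h0 | h0 | h0
    · exact ⟨0, by rw [h0]; simp, by simp⟩
    · refine ⟨((2 ^ a : ℕ) : ℤ), by rw [h0, h1]; push_cast; ring, hdv⟩
    · refine ⟨-((2 ^ a : ℕ) : ℤ), by rw [h0, h1]; push_cast; ring, ?_⟩
      rw [mul_neg]
      exact (dvd_neg).mpr hdv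
  choose z hz1 hz2 using key
  have hinv : ∀ (α : G →* ℤˣ) (χ : IrrCharacter G), z (α • χ) = z χ := by
    intro α χ
    have : ((z (α • χ) : ℤ) : ℂ) = ((z χ : ℤ) : ℂ) := by
      rw [← hz1, ← hz1, fsInd_smul, smul_one_apply]
    exact_mod_cast this
  have hsum := dvd_sum_of_orbits (A := G →* ℤˣ) z ((2 ^ (k + 1) : ℕ) : ℤ) hinv hz2
  have hcount : ((Nat.card {x : G // x ^ 2 = 1} : ℕ) : ℂ) = ((∑ χ : IrrCharacter G, z χ : ℤ) : ℂ) := by
    have h1 := Cfsg.Agent.Lib.Helper81_FrobSchur.sqrtCount_eq (G := G) 1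
    unfold Cfsg.Agent.Lib.Helper81_FrobSchur.sqrtCount at h1
    have h2 : Nat.card {x : G // x ^ 2 = 1} = Nat.card {u : G // u * u = 1} :=
      Nat.card_congr (Equiv.subtypeEquivRight (fun x => by rw [sq]))
    rw [h2, h1, Int.cast_sum]
    refine Finset.sum_congr rfl fun χ _ => ?_
    rw [← hz1]
    rfl
  have hcount' : ((Nat.card {x : G // x ^ 2 = 1} : ℕ) : ℤ) = ∑ χ : IrrCharacter G, z χ := by
    have : (((Nat.card {x : G // x ^ 2 = 1} : ℕ) : ℤ) : ℂ) = ((∑ χ : IrrCharacter G, z χ : ℤ) : ℂ) := by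
      rw [← hcount]; simp
    exact_mod_cast this
  rw [← hcount'] at hsum
  exact Int.natCast_dvd_natCast.mp hsum

end Cfsg.Agent.S4058
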