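import Mathlib
import Cfsg.Statements.S4029
import Cfsg.Agent.S4058
import Cfsg.Agent.Lib.Helper81_CharOrth2
import Cfsg.Agent.Lib.Helper3_CharDegree
import Cfsg.Agent.Lib.Helper3_CharColumn
import Cfsg.Agent.Lib.Helper80_CharBasic
-- import your own Cfsg.Agent.* helpers here

set_option autoImplicit false
set_option linter.style.haveILetI false
open Cfsg
open scoped ComplexConjugate

namespace Cfsg.Agent.S4029

open Cfsg.Agent.S4058

/-- The Frattini quotient of a `2`-group is no larger than its group of sign characters. -/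
theorem card_frattini_quotient_le {G : Type*} [Group G] [Finite G] (hG : IsPGroup 2 G) :
    Nat.card (G ⧸ frattini G) ≤ Nat.card (G →* ℤˣ) := by
  haveI : Finite (G →* ℤˣ) := Finite.of_injective _ DFunLike.coe_injective
  have h1 := card_mul_card_kerSet (⊤ : Subgroup (G →* ℤˣ))
  have h2 : Nat.card (kerSet (⊤ : Subgroup (G →* ℤˣ))) ≤ Nat.card (frattini G) :=
    Nat.card_mono (Set.toFinite _) (kerSet_top_subset_frattini hG)
  have h3 : Nat.card G = Nat.card (G ⧸ frattini G) * Nat.card (frattini G) :=
    Subgroup.card_eq_card_quotient_mul_card_subgroup _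
  have h4 : Nat.card (⊤ : Subgroup (G →* ℤˣ)) = Nat.card (G →* ℤˣ) :=
    Nat.card_congr (Subgroup.topEquiv).toEquiv
  have hpos : 0 < Nat.card (frattini G) := Nat.card_pos
  rw [h4] at h1
  have h5 : Nat.card (G ⧸ frattini G) * Nat.card (frattini G) ≤
      Nat.card (G →* ℤˣ) * Nat.card (frattini G) := by
    rw [← h3, ← h1]
    exact Nat.mul_le_mul_left _ h2
  exact Nat.le_of_mul_le_mul_right h5 hpos

/-- The complex conjugate of an irreducible character. -/
noncomputable def conjIrr {G : Type*} [Group G] [Finite G] (χ : IrrCharacter G) : IrrCharacter G :=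
  ⟨fun g => conj (χ.1 g), Cfsg.Agent.Lib.Helper81_CharOrth2.isIrrCharacter_conj χ.2⟩

theorem sum_sq_irr {G : Type*} [Group G] [Fintype G] (χ : IrrCharacter G) :
    ∑ g : G, χ.1 g * χ.1 g = if conjIrr χ = χ then (Nat.card G : ℂ) else 0 := by
  have h1 : ∀ g : G, χ.1 g = (conjIrr χ).1 g⁻¹ := by
    intro g
    rw [Cfsg.Agent.Lib.Helper80_CharBasic.irr_inv]
    change χ.1 g = conj (conj (χ.1 g))
    simp
  split_ifs with h
  · have := Cfsg.Agent.Lib.Helper80_CharBasic.irr_norm χ
    rw [← this]
    refine Finset.sum_congr rfl fun g _ => ?_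
    congr 1
    rw [h1 g, h]
  · have := Cfsg.Agent.Lib.Helper80_CharBasic.irr_orthogonal χ (conjIrr χ) (Ne.symm h)
    rw [← this]
    refine Finset.sum_congr rfl fun g _ => ?_
    congr 1
    exact h1 g

/-- The sign character as an irreducible character. -/
noncomputable def sgnIrr {G : Type*} [Group G] (α : G →* ℤˣ) : IrrCharacter G :=
  ⟨sgn α, sgn_isIrr α⟩

theorem sgnIrr_injective {G : Type*} [Group G] : Function.Injective (sgnIrr (G := G)) := by
  intro α β h
  ext g
  have h1 : sgn α g = sgn β g := congrFun (congrArg Subtype.val h) g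
  unfold sgn at h1
  have h2 : ((α g : ℤˣ) : ℤ) = ((β g : ℤˣ) : ℤ) := by exact_mod_cast h1
  exact congrArg _ (Units.ext h2) 

theorem conjIrr_sgnIrr {G : Type*} [Group G] [Finite G] (α : G →* ℤˣ) :
    conjIrr (sgnIrr α) = sgnIrr α := by
  apply Subtype.ext
  funext g
  change conj (sgn α g) = sgn α g
  unfold sgn
  simp


theorem sq_eq_one_of_inverting {P : Type*} [Group P]
    (hirr : ∀ y : P, Subgroup.normalizer ((Subgroup.zpowers y : Subgroup P) : Set P) ≤
      Subgroup.centralizer {y}) (g c : P) (h : c * g * c⁻¹ = g⁻¹) : g * g = 1 := by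
  have hc : c ∈ Subgroup.normalizer ((Subgroup.zpowers g : Subgroup P) : Set P) := by
    rw [Subgroup.mem_normalizer_iff]
    intro x
    have hpow : ∀ k : ℤ, c * g ^ k * c⁻¹ = (g ^ k)⁻¹ := by
      intro k
      have : c * g ^ k * c⁻¹ = (c * g * c⁻¹) ^ k := by
        rw [conj_zpow]
      rw [this, h, inv_zpow]
    constructor
    · rintro ⟨k, rfl⟩
      change c * g ^ k * c⁻¹ ∈ Subgroup.zpowers g
      rw [hpow]
      exact (Subgroup.zpowers g).inv_mem ⟨k, rfl⟩
    · intro hx
      change c * x * c⁻¹ ∈ Subgroup.zpowers g at hx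
      obtain ⟨k, hk⟩ := hx
      have hx2 : x = c⁻¹ * g ^ k * c := by
        have : g ^ k = c * x * c⁻¹ := hk
        rw [this]; group
      have h3 : c⁻¹ * g ^ k * c = (g ^ k)⁻¹ := by
        have := hpow (-k)
        rw [zpow_neg, inv_inv] at this
        calc c⁻¹ * g ^ k * c = c⁻¹ * (c * (g ^ k)⁻¹ * c⁻¹) * c := by rw [this]
          _ = (g ^ k)⁻¹ := by group
      rw [hx2, h3]
      exact (Subgroup.zpowers g).inv_mem ⟨k, rfl⟩
  have hc2 := hirr g hc
  rw [Subgroup.mem_centralizer_iff] at hc2
  have h4 : g * c = c * g := hc2 g (Set.mem_singleton g)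
  have h5 : c * g * c⁻¹ = g := by rw [← h4]; group
  rw [h5] at h
  calc g * g = g * g⁻¹ := by rw [← h]
    _ = 1 := mul_inv_cancel g


open scoped Classical in
/-- The number of elements conjugating `g` to `g⁻¹`, in a group where inverting forces `g² = 1`. -/
theorem card_inverting {P : Type*} [Group P] [Finite P]
    (hinv : ∀ g c : P, c * g * c⁻¹ = g⁻¹ → g * g = 1) (g : P) :
    Nat.card {c : P // c * g * c⁻¹ = g⁻¹} =
      if g * g = 1 then Nat.card (Subgroup.centralizer ({g} : Set P)) else 0 := by
  split_ifs with h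
  · refine Nat.card_congr (Equiv.subtypeEquivRight fun c => ?_)
    rw [Subgroup.mem_centralizer_iff]
    have hg : g⁻¹ = g := by
      calc g⁻¹ = g⁻¹ * (g * g) := by rw [h, mul_one]
        _ = g := by group
    constructor
    · intro hc x hx
      rw [Set.mem_singleton_iff] at hx
      subst hx
      rw [hg] at hc
      calc x * c = (c * x * c⁻¹) * c := by rw [hc]
        _ = c * x := by group
    · intro hc
      have := hc g (Set.mem_singleton g)
      rw [hg]
      calc c * g * c⁻¹ = (g * c) * c⁻¹ := by rw [this]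
        _ = g := by group
  · haveI : IsEmpty {c : P // c * g * c⁻¹ = g⁻¹} := ⟨fun c => h (hinv g c.1 c.2)⟩
    exact Nat.card_of_isEmpty

theorem card_real_irr_le {P : Type*} [Group P] [Fintype P]
    (hinv : ∀ g c : P, c * g * c⁻¹ = g⁻¹ → g * g = 1) :
    Nat.card {χ : IrrCharacter P // conjIrr χ = χ} ≤
      Nat.card {C : ConjClasses P // Quotient.out C * Quotient.out C = 1} := by
  classical
  haveI : Fintype (IrrCharacter P) := Fintype.ofFinite _
  -- the double sum
  have h1 : ∑ χ : IrrCharacter P, ∑ g : P, χ.1 g * χ.1 g =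
      (Nat.card P : ℂ) * (Nat.card {χ : IrrCharacter P // conjIrr χ = χ} : ℂ) := by
    simp_rw [sum_sq_irr]
    rw [Finset.sum_ite, Finset.sum_const_zero, add_zero, Finset.sum_const, nsmul_eq_mul, mul_comm]
    congr 2
    rw [Nat.card_eq_fintype_card, Fintype.card_subtype]
  have h2 : ∑ χ : IrrCharacter P, ∑ g : P, χ.1 g * χ.1 g =
      ∑ g : P, ((if g * g = 1 then Nat.card (Subgroup.centralizer ({g} : Set P)) else 0 : ℕ) : ℂ) := by
    rw [Finset.sum_comm]
    refine Finset.sum_congr rfl fun g _ => ?_
    have := Cfsg.Agent.Lib.Helper81_CharOrth2.second_orthogonality (G := P) g g⁻¹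
    rw [inv_inv] at this
    rw [this, card_inverting hinv g]
  -- the class function
  let f : P → ℂ := fun g =>
    ((if g * g = 1 then Nat.card (Subgroup.centralizer ({g} : Set P)) else 0 : ℕ) : ℂ)
  have hf : IsClassFunction P f := by
    intro g h
    have e1 : (h * g * h⁻¹) * (h * g * h⁻¹) = 1 ↔ g * g = 1 := by
      constructor
      · intro hh
        have : h * (g * g) * h⁻¹ = 1 := by rw [← hh]; group
        calc g * g = h⁻¹ * (h * (g * g) * h⁻¹) * h := by group
          _ = 1 := by rw [this]; group
      · intro hh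
        calc (h * g * h⁻¹) * (h * g * h⁻¹) = h * (g * g) * h⁻¹ := by group
          _ = 1 := by rw [hh]; group
    have e2 : Nat.card (Subgroup.centralizer ({h * g * h⁻¹} : Set P)) =
        Nat.card (Subgroup.centralizer ({g} : Set P)) :=
      Cfsg.Agent.Lib.Helper3_CharColumn.card_centralizer_eq_of_isConj
        (isConj_iff.mpr ⟨h⁻¹, by group⟩)
    change ((if (h * g * h⁻¹) * (h * g * h⁻¹) = 1 then
      Nat.card (Subgroup.centralizer ({h * g * h⁻¹} : Set P)) else 0 : ℕ) : ℂ) =
      ((if g * g = 1 then Nat.card (Subgroup.centralizer ({g} : Set P)) else 0 : ℕ) : ℂ)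
    simp only [e1, e2]
  have h3 : ∑ g : P, f g = (Nat.card P : ℂ) *
      (Nat.card {C : ConjClasses P // Quotient.out C * Quotient.out C = 1} : ℂ) := by
    rw [Cfsg.Agent.Lib.Helper3_CharDegree.sum_eq_sum_conjClasses f hf]
    have : ∀ C : ConjClasses P,
        ((Cfsg.Agent.Lib.Helper3_CharColumn.conjFinset (Quotient.out C)).card : ℂ) *
          f (Quotient.out C) =
        if Quotient.out C * Quotient.out C = 1 then (Nat.card P : ℂ) else 0 := by
      intro C
      change ((Cfsg.Agent.Lib.Helper3_CharColumn.conjFinset (Quotient.out C)).card : ℂ) *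
        ((if Quotient.out C * Quotient.out C = 1 then
          Nat.card (Subgroup.centralizer ({Quotient.out C} : Set P)) else 0 : ℕ) : ℂ) = _
      split_ifs with hC
      · rw [← Nat.cast_mul,
          Cfsg.Agent.Lib.Helper3_CharColumn.card_conjFinset_mul_card_centralizer]
      · simp
    simp_rw [this]
    rw [Finset.sum_ite, Finset.sum_const_zero, add_zero, Finset.sum_const, nsmul_eq_mul, mul_comm]
    congr 2
    rw [Nat.card_eq_fintype_card, Fintype.card_subtype]
  have h4 : (Nat.card P : ℂ) * (Nat.card {χ : IrrCharacter P // conjIrr χ = χ} : ℂ) =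
      (Nat.card P : ℂ) *
        (Nat.card {C : ConjClasses P // Quotient.out C * Quotient.out C = 1} : ℂ) := by
    rw [← h1, h2, ← h3]
  have hP : (Nat.card P : ℂ) ≠ 0 := by exact_mod_cast Nat.card_pos.ne'
  have h5 := mul_left_cancel₀ hP h4
  have h6 : Nat.card {χ : IrrCharacter P // conjIrr χ = χ} =
      Nat.card {C : ConjClasses P // Quotient.out C * Quotient.out C = 1} := by
    exact_mod_cast h5
  exact h6.le


theorem eq_one_of_sq_of_orderOf_ne {P : Type*} [Group P] {x : P} (h : x * x = 1)
    (h2 : orderOf x ≠ 2) : x = 1 := by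
  have h3 : orderOf x ∣ 2 := orderOf_dvd_of_pow_eq_one (by rw [pow_two]; exact h)
  have h4 : orderOf x = 1 ∨ orderOf x = 2 := (Nat.dvd_prime Nat.prime_two).mp h3
  rcases h4 with h4 | h4
  · exact orderOf_eq_one_iff.mp h4
  · exact absurd h4 h2


/-- Let P be a finite 2-group in which N_P(⟨y⟩) = C_P(y) for every y ∈ P. If s is the number of conjugacy classes of involutions of P, then #(P/Φ(P)) ≤ s + 1; in particular the subgroup generated by the involutions of P has order at least #(P/Φ(P)). -/
theorem result {P : Type*} [Group P] [Finite P] (hP : IsPGroup 2 P)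
    (hirr : ∀ y : P, Subgroup.normalizer ((Subgroup.zpowers y : Subgroup P) : Set P) ≤ Subgroup.centralizer {y}) :
    Nat.card (P ⧸ frattini P) ≤ Nat.card {c : ConjClasses P // ∃ y : P, ConjClasses.mk y = c ∧ orderOf y = 2} + 1 ∧
    Nat.card (P ⧸ frattini P) ≤ Nat.card (Subgroup.closure {y : P | orderOf y = 2}) := by
  classical
  haveI := Fintype.ofFinite P
  haveI : Finite (P →* ℤˣ) := Finite.of_injective _ DFunLike.coe_injective
  have hinv := sq_eq_one_of_inverting hirr
  have h1 : Nat.card (P ⧸ frattini P) ≤ Nat.card (P →* ℤˣ) := card_frattini_quotient_le hP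
  have h2 : Nat.card (P →* ℤˣ) ≤ Nat.card {χ : IrrCharacter P // conjIrr χ = χ} :=
    Nat.card_le_card_of_injective (fun α => ⟨sgnIrr α, conjIrr_sgnIrr α⟩)
      (fun α β h => sgnIrr_injective (congrArg Subtype.val h))
  have h3 := card_real_irr_le hinv
  have h4 : Nat.card {C : ConjClasses P // Quotient.out C * Quotient.out C = 1} ≤
      Nat.card (Option {c : ConjClasses P // ∃ y : P, ConjClasses.mk y = c ∧ orderOf y = 2}) := by
    refine Nat.card_le_card_of_injective
      (fun C => if h : orderOf (Quotient.out C.1) = 2 then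
        some ⟨C.1, Quotient.out C.1, Quotient.out_eq C.1, h⟩ else none) ?_
    intro C D hCD
    by_cases hC : orderOf (Quotient.out C.1) = 2 <;> by_cases hD : orderOf (Quotient.out D.1) = 2
    · simp only [hC, hD, dite_true, Option.some.injEq, Subtype.mk.injEq] at hCD
      exact Subtype.ext hCD
    · simp [hC, hD] at hCD
    · simp [hC, hD] at hCD
    · have e1 := eq_one_of_sq_of_orderOf_ne C.2 hC
      have e2 := eq_one_of_sq_of_orderOf_ne D.2 hD
      apply Subtype.ext
      rw [← Quotient.out_eq C.1, ← Quotient.out_eq D.1, e1, e2]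
  have h5 : Nat.card (Option {c : ConjClasses P // ∃ y : P, ConjClasses.mk y = c ∧ orderOf y = 2}) =
      Nat.card {c : ConjClasses P // ∃ y : P, ConjClasses.mk y = c ∧ orderOf y = 2} + 1 :=
    Finite.card_option
  constructor
  · omega
  · have h6 : Nat.card (Option {c : ConjClasses P // ∃ y : P, ConjClasses.mk y = c ∧ orderOf y = 2}) ≤
        Nat.card (Subgroup.closure {y : P | orderOf y = 2}) := by
      refine Nat.card_le_card_of_injective
        (fun o => match o with
          | none => (1 : Subgroup.closure {y : P | orderOf y = 2})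
          | some c => ⟨c.2.choose, Subgroup.subset_closure c.2.choose_spec.2⟩) ?_
      intro a b hab
      match a, b with
      | none, none => rfl
      | none, some c =>
        exfalso
        have := congrArg Subtype.val hab
        simp only [Subgroup.coe_one] at this
        have h2 := c.2.choose_spec.2
        rw [← this, orderOf_one] at h2
        exact absurd h2 (by norm_num)
      | some c, none =>
        exfalso
        have := congrArg Subtype.val hab
        simp only [Subgroup.coe_one] at this
        have h2 := c.2.choose_spec.2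
        rw [this, orderOf_one] at h2
        exact absurd h2 (by norm_num)
      | some c, some d =>
        have := congrArg Subtype.val hab
        simp only at this
        congr 1
        apply Subtype.ext
        rw [← c.2.choose_spec.1, ← d.2.choose_spec.1, this]
    omega

end Cfsg.Agent.S4029
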