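import Cfsg.Statements.S4032
import Cfsg.Agent.Lib.Helper67_Basic

set_option autoImplicit false
open Cfsg

namespace Cfsg.Agent.S4032

open Cfsg.Agent.Lib.Helper67_Basic

/-- Let π be a set of primes and G a finite group in which N_G(⟨x⟩) = C_G(x) for every π-element x. If N is a normal subgroup of G whose order is divisible by no prime of π, then G/N has the same property: N_{G/N}(⟨y⟩) = C_{G/N}(y) for every π-element y of G/N. -/
theorem result {G : Type*} [Group G] [Finite G] (π : Set ℕ)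
    (hirr : ∀ x : G, (∀ r : ℕ, r.Prime → r ∣ orderOf x → r ∈ π) →
      Subgroup.normalizer ((Subgroup.zpowers x : Subgroup G) : Set G) ≤ Subgroup.centralizer {x})
    (N : Subgroup G) [N.Normal] (hN : ∀ r : ℕ, r.Prime → r ∣ Nat.card N → r ∉ π) :
    ∀ y : G ⧸ N, (∀ r : ℕ, r.Prime → r ∣ orderOf y → r ∈ π) →
      Subgroup.normalizer ((Subgroup.zpowers y : Subgroup (G ⧸ N)) : Set (G ⧸ N)) ≤ Subgroup.centralizer {y} := by
  intro y hy gbar hgbar
  rw [Subgroup.mem_centralizer_singleton_iff]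
  have hgy : gbar * y * gbar⁻¹ ∈ Subgroup.zpowers y := mem_normalizer_zpowers_iff.1 hgbar
  obtain ⟨j, hj⟩ := Subgroup.mem_zpowers_iff.1 hgy
  have key : y ∈ Subgroup.centralizer ({gbar} : Set (G ⧸ N)) := by
    apply mem_of_primePow_mem
    intro z hz r a hr hza
    rw [Subgroup.mem_centralizer_singleton_iff]
    haveI : Fact r.Prime := ⟨hr⟩
    by_cases ha : a = 0
    · rw [ha, pow_zero, orderOf_eq_one_iff] at hza
      rw [hza, mul_one, one_mul]
    obtain ⟨i, hi⟩ := Subgroup.mem_zpowers_iff.1 hz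
    have hrπ : r ∈ π := by
      apply hy r hr
      have h1 : r ∣ orderOf z := by rw [hza]; exact dvd_pow_self r ha
      have h2 : orderOf z ∣ orderOf y := orderOf_dvd_of_mem_zpowers hz
      exact h1.trans h2
    have hrN : ¬ r ∣ Nat.card N := fun h => hN r hr h hrπ
    -- gbar normalizes ⟨z⟩
    have hgz : gbar * z * gbar⁻¹ = z ^ j := by
      rw [← hi, ← conj_zpow, ← hj, ← zpow_mul, ← zpow_mul, mul_comm]
    -- lift z to an r-element x
    obtain ⟨z₀, hz₀⟩ := QuotientGroup.mk'_surjective N z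
    obtain ⟨b, m, hm, hbm⟩ := Nat.exists_eq_pow_mul_and_not_dvd (orderOf_pos z₀).ne' r hr.ne_one
    have hcop : Nat.Coprime m (r ^ a) :=
      Nat.Coprime.pow_right _ ((Nat.Prime.coprime_iff_not_dvd hr).2 hm).symm
    have hzdec := eq_zpow_mul_zpow_of_coprime z hcop
    have hzra : z ^ (r ^ a) = 1 := by rw [← hza]; exact pow_orderOf_eq_one z
    rw [hzra, one_zpow, mul_one] at hzdec
    set α := Nat.gcdA m (r ^ a) with hα
    set x := (z₀ ^ m) ^ α with hxdef
    have hxz : QuotientGroup.mk' N x = z := by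
      rw [hxdef, map_zpow, map_pow, hz₀, ← hzdec]
    have hxord : orderOf x ∣ r ^ b := by
      have h1 : orderOf x ∣ orderOf (z₀ ^ m) :=
        orderOf_dvd_of_mem_zpowers (Subgroup.zpow_mem _ (Subgroup.mem_zpowers _) _)
      have h2 : orderOf (z₀ ^ m) = r ^ b := by
        rw [orderOf_pow, hbm, Nat.gcd_eq_right (Dvd.intro_left _ rfl)]
        have hmpos : 0 < m := Nat.pos_of_ne_zero (fun h0 => hm (h0 ▸ dvd_zero r))
        exact Nat.mul_div_cancel _ hmpos
      rwa [h2] at h1
    obtain ⟨c, -, hc⟩ := (Nat.dvd_prime_pow hr).1 hxord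
    have hxπ : ∀ q : ℕ, q.Prime → q ∣ orderOf x → q ∈ π := by
      intro q hq hqx
      rw [hc] at hqx
      have := (Nat.prime_dvd_prime_iff_eq hq hr).1 (hq.dvd_of_dvd_pow hqx)
      rw [this]; exact hrπ
    obtain ⟨g, hg⟩ := QuotientGroup.mk'_surjective N gbar
    have hgN : QuotientGroup.mk' N g ∈ Subgroup.normalizer
        ((Subgroup.zpowers (QuotientGroup.mk' N x) : Subgroup (G ⧸ N)) : Set (G ⧸ N)) := by
      rw [mem_normalizer_zpowers_iff, hg, hxz, hgz]
      exact Subgroup.zpow_mem _ (Subgroup.mem_zpowers z) j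
    obtain ⟨l, hl, hlg⟩ := exists_mul_mem_normalizer_zpowers N hrN hc hgN
    have hcent := hirr x hxπ hlg
    rw [Subgroup.mem_centralizer_singleton_iff] at hcent
    have hcent' := congrArg (QuotientGroup.mk' N) hcent
    rw [map_mul, map_mul, map_mul, map_mul, hg, hxz] at hcent'
    rw [hxz] at hl
    obtain ⟨i', hi'⟩ := Subgroup.mem_zpowers_iff.1 hl
    rw [← hi'] at hcent'
    -- z^i' * gbar * z = z * (z^i' * gbar)
    have h3 : z ^ i' * (gbar * z) = z ^ i' * (z * gbar) := by
      calc z ^ i' * (gbar * z) = z ^ i' * gbar * z := by group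
        _ = z * (z ^ i' * gbar) := hcent'
        _ = z ^ i' * (z * gbar) := by group
    exact (mul_left_cancel h3).symm
  rw [Subgroup.mem_centralizer_singleton_iff] at key
  exact key.symm

end Cfsg.Agent.S4032
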