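import Cfsg.Statements.S4034
import Cfsg.Agent.Lib.Helper3_CharBurnside
import Cfsg.Agent.Lib.Helper67_Basic
import Cfsg.Agent.Lib.Helper1_Hall
import Cfsg.Agent.Lib.Helper1_Cores
import Cfsg.Agent.Lib.Helper55_Fitting

set_option autoImplicit false
open Cfsg

namespace Cfsg.Agent.S4034

universe u

/-- Hypothesis: every `p`-regular element has centralizer of `p`-power index. -/
def HypA (p : ℕ) (G : Type*) [Group G] : Prop :=
  ∀ x : G, (orderOf x).Coprime p → ∃ k : ℕ, (Subgroup.centralizer ({x} : Set G)).index = p ^ k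

/-- For `N` normal, `|N : C ∩ N|` divides `|G : C|`. -/
theorem relIndex_dvd_index_of_normal' {G : Type*} [Group G] [Finite G] (C N : Subgroup G)
    [N.Normal] : C.relIndex N ∣ C.index := by
  have h1 : C.relIndex (C ⊔ N) ∣ C.index := Subgroup.relIndex_dvd_index_of_le le_sup_left
  have h2 : C.relIndex (C ⊔ N) = C.relIndex N := by
    have hsup := Cfsg.Agent.Lib.Helper1_Cores.card_sup_eq C N
    -- |C ⊔ N| = |N| * |C : C ∩ N|
    have hC : C.relIndex (C ⊔ N) * Nat.card C = Nat.card (C ⊔ N : Subgroup G) := by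
      have := Subgroup.relIndex_mul_relIndex ⊥ C (C ⊔ N) bot_le le_sup_left
      rw [Subgroup.relIndex_bot_left, Subgroup.relIndex_bot_left] at this
      rw [mul_comm]; exact this
    have hN : C.relIndex N * Nat.card (C ⊓ N : Subgroup G) = Nat.card N := by
      have := Subgroup.relIndex_mul_relIndex ⊥ (C ⊓ N) N bot_le inf_le_right
      rw [Subgroup.relIndex_bot_left, Subgroup.relIndex_bot_left, Subgroup.inf_relIndex_right] at this
      rw [mul_comm]; exact this
    have hC' : N.relIndex C * Nat.card (C ⊓ N : Subgroup G) = Nat.card C := by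
      have := Subgroup.relIndex_mul_relIndex ⊥ (C ⊓ N) C bot_le inf_le_left
      rw [Subgroup.relIndex_bot_left, Subgroup.relIndex_bot_left, Subgroup.inf_relIndex_left] at this
      rw [mul_comm]; exact this
    have hpos : 0 < Nat.card (C ⊓ N : Subgroup G) := Nat.card_pos
    have hposC : 0 < Nat.card C := Nat.card_pos
    have : C.relIndex (C ⊔ N) * Nat.card C = C.relIndex N * Nat.card C := by
      rw [hC, hsup, ← hN, ← hC']
      ring
    exact Nat.eq_of_mul_eq_mul_right hposC this
  rw [← h2]; exact h1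

theorem centralizer_subgroupOf {G : Type*} [Group G] (N : Subgroup G) (x : N) :
    Subgroup.centralizer ({x} : Set N) =
      (Subgroup.centralizer ({(x : G)} : Set G)).subgroupOf N := by
  ext y
  rw [Subgroup.mem_subgroupOf, Subgroup.mem_centralizer_singleton_iff,
    Subgroup.mem_centralizer_singleton_iff]
  constructor
  · intro h
    have := congrArg Subtype.val h
    simpa using this
  · intro h
    apply Subtype.ext
    simpa using h

theorem HypA.subgroup {p : ℕ} (hp : p.Prime) {G : Type*} [Group G] [Finite G] (h : HypA p G)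
    (N : Subgroup G) [N.Normal] : HypA p N := by
  intro x hx
  rw [← Subgroup.orderOf_coe] at hx
  obtain ⟨k, hk⟩ := h (x : G) hx
  have hdvd : (Subgroup.centralizer ({x} : Set N)).index ∣ p ^ k := by
    rw [centralizer_subgroupOf, ← hk]
    exact relIndex_dvd_index_of_normal' _ N
  obtain ⟨j, -, hj⟩ := (Nat.dvd_prime_pow hp).mp hdvd
  exact ⟨j, hj⟩

theorem exists_lift_coprime {p : ℕ} (hp : p.Prime) {G Q : Type*} [Group G] [Finite G] [Group Q]
    (f : G →* Q) (hf : Function.Surjective f) (y : Q) (hy : (orderOf y).Coprime p) :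
    ∃ x : G, f x = y ∧ (orderOf x).Coprime p := by
  obtain ⟨g, rfl⟩ := hf y
  obtain ⟨e, m, hm, hn⟩ := Nat.exists_eq_pow_mul_and_not_dvd (n := orderOf g)
    (orderOf_pos g).ne' p hp.one_lt.ne'
  have hmcop : m.Coprime p := ((Nat.Prime.coprime_iff_not_dvd hp).mpr hm).symm
  by_cases h1 : orderOf (f g) = 1
  · refine ⟨1, ?_, by simp⟩
    rw [orderOf_eq_one_iff] at h1
    rw [h1, map_one]
  · have hlt : 1 < orderOf (f g) := by
      have : orderOf (f g) ≠ 0 := by
        intro h0
        rw [h0] at hy
        simp at hy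
        exact hp.one_lt.ne' hy
      omega
    have hcop : (p ^ e).Coprime (orderOf (f g)) := (Nat.Coprime.pow_right e hy).symm
    obtain ⟨t, -, ht⟩ := Nat.exists_mul_mod_eq_one_of_coprime hcop hlt
    refine ⟨g ^ (p ^ e * t), ?_, ?_⟩
    · rw [map_pow, ← pow_mod_orderOf, ht, pow_one]
    · apply Nat.Coprime.coprime_dvd_left _ hmcop
      rw [orderOf_dvd_iff_pow_eq_one, ← pow_mul]
      have : p ^ e * t * m = orderOf g * t := by rw [hn]; ring
      rw [this, pow_mul, pow_orderOf_eq_one, one_pow]

theorem HypA.map {p : ℕ} (hp : p.Prime) {G Q : Type*} [Group G] [Finite G] [Group Q]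
    (h : HypA p G) (f : G →* Q) (hf : Function.Surjective f) : HypA p Q := by
  intro y hy
  obtain ⟨x, rfl, hx⟩ := exists_lift_coprime hp f hf y hy
  obtain ⟨k, hk⟩ := h x hx
  have hle : (Subgroup.centralizer ({x} : Set G)).map f ≤ Subgroup.centralizer ({f x} : Set Q) := by
    rintro _ ⟨c, hc, rfl⟩
    rw [SetLike.mem_coe, Subgroup.mem_centralizer_singleton_iff] at hc
    rw [Subgroup.mem_centralizer_singleton_iff, ← map_mul, ← map_mul, hc]
  have hdvd : (Subgroup.centralizer ({f x} : Set Q)).index ∣ p ^ k := by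
    rw [← hk]
    exact (Subgroup.index_dvd_of_le hle).trans (Subgroup.index_map_dvd _ hf)
  obtain ⟨j, -, hj⟩ := (Nat.dvd_prime_pow hp).mp hdvd
  exact ⟨j, hj⟩

/-- Generic induction: a property inherited by normal subgroups and quotients, and forcing
solvability of simple groups, forces solvability. -/
theorem isSolvable_of_hereditary (P : ∀ (G : Type u) [Group G], Prop)
    (hsub : ∀ (G : Type u) [Group G] [Finite G], P G → ∀ (N : Subgroup G) [N.Normal], P N)
    (hquot : ∀ (G : Type u) [Group G] [Finite G], P G →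
      ∀ (N : Subgroup G) [N.Normal], P (G ⧸ N))
    (hsimple : ∀ (G : Type u) [Group G] [Finite G], P G → IsSimpleGroup G →
      Group.IsSolvable G) :
    ∀ (n : ℕ) (G : Type u) [Group G] [Finite G], Nat.card G = n → P G →
      Group.IsSolvable G := by
  intro n
  induction n using Nat.strong_induction_on with
  | _ n ih =>
    intro G _ _ hn hA
    by_cases hsimp : IsSimpleGroup G
    · exact hsimple G hA hsimp
    · by_cases htriv : Subsingleton G
      · infer_instance
      · have hnt : Nontrivial G := not_subsingleton_iff_nontrivial.mp htriv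
        have hex : ∃ N : Subgroup G, N.Normal ∧ N ≠ ⊥ ∧ N ≠ ⊤ := by
          by_contra hcon
          push Not at hcon
          refine hsimp ⟨fun H hH => ?_⟩
          by_cases h : H = ⊥
          · exact Or.inl h
          · exact Or.inr (hcon H hH h)
        obtain ⟨N, hNn, hNbot, hNtop⟩ := hex
        have hcardN : Nat.card N < n := by
          rw [← hn]
          refine lt_of_le_of_ne (Subgroup.card_le_card_group N) ?_
          intro h
          exact hNtop (Subgroup.eq_top_of_card_eq N h)
        have hcardQ : Nat.card (G ⧸ N) < n := by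
          rw [← hn, Subgroup.card_eq_card_quotient_mul_card_subgroup N]
          have h1 : 1 < Nat.card N := (Subgroup.one_lt_card_iff_ne_bot N).mpr hNbot
          have h2 : 0 < Nat.card (G ⧸ N) := Nat.card_pos
          nlinarith
        have hsN : Group.IsSolvable N := ih _ hcardN N rfl (hsub G hA N)
        have hsQ : Group.IsSolvable (G ⧸ N) := ih _ hcardQ (G ⧸ N) rfl (hquot G hA N)
        exact Group.isSolvable_of_ker_le_range N.subtype (QuotientGroup.mk' N) (by simp)

/-- A finite simple group with a non-identity element whose centralizer has prime power index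
is solvable (Burnside). -/
theorem isSolvable_of_simple_of_prime_power_index {G : Type u} [Group G] [Finite G]
    (hs : IsSimpleGroup G) {p : ℕ} (hp : p.Prime) (x : G) (hx1 : x ≠ 1) (k : ℕ)
    (hk : (Subgroup.centralizer ({x} : Set G)).index = p ^ k) : Group.IsSolvable G := by
  have : Fintype G := Fintype.ofFinite G
  have hprime := Cfsg.Agent.Lib.Helper3_CharBurnside.prime_card_of_simple_of_prime_power_class
    p k hp x hx1 hk
  have : Fact (Nat.card G).Prime := ⟨hprime⟩
  have hcyc : IsCyclic G := isCyclic_of_prime_card (α := G) rfl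
  have := hcyc.isMulCommutative
  let _ : CommGroup G := { ‹Group G› with mul_comm := fun a b => (mul_comm' a b) }
  infer_instance

theorem isSolvable_of_hypA {p : ℕ} (hp : p.Prime) (G : Type u) [Group G] [Finite G]
    (hA : HypA p G) : Group.IsSolvable G := by
  refine isSolvable_of_hereditary (fun G _ => HypA p G) ?_ ?_ ?_ _ G rfl hA
  · intro G _ _ hA N _
    exact hA.subgroup hp N
  · intro G _ _ hA N _
    exact hA.map hp (QuotientGroup.mk' N) (QuotientGroup.mk'_surjective N)
  · intro G _ _ hA hsimple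
    by_cases hpg : IsPGroup p G
    · have : Fact p.Prime := ⟨hp⟩
      have := hpg.isNilpotent
      infer_instance
    · have hex : ∃ q : ℕ, q.Prime ∧ q ∣ Nat.card G ∧ q ≠ p := by
        by_contra hcon
        push Not at hcon
        apply hpg
        have hcard := Nat.eq_prime_pow_of_unique_prime_dvd (n := Nat.card G) (p := p)
          Nat.card_pos.ne' (fun {d} hd hdvd => hcon d hd hdvd)
        have : Fact p.Prime := ⟨hp⟩
        exact IsPGroup.of_card hcard
      obtain ⟨q, hq, hqdvd, hqp⟩ := hex
      have : Fact q.Prime := ⟨hq⟩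
      obtain ⟨x, hx⟩ := exists_prime_orderOf_dvd_card' q hqdvd
      have hxcop : (orderOf x).Coprime p := by
        rw [hx]; exact (Nat.coprime_primes hq hp).mpr hqp
      obtain ⟨k, hk⟩ := hA x hxcop
      have hx1 : x ≠ 1 := by
        rintro rfl
        rw [orderOf_one] at hx
        exact hq.one_lt.ne' hx.symm
      exact isSolvable_of_simple_of_prime_power_index hsimple hp x hx1 k hk

theorem normal_pgroup_le_of_not_dvd_index {G : Type*} [Group G] [Finite G] {q : ℕ} [Fact q.Prime]
    (N K : Subgroup G) [N.Normal] (hN : IsPGroup q N) (hK : ¬ q ∣ K.index) : N ≤ K := by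
  have hcard : ¬ q ∣ Nat.card (G ⧸ K) := hK
  obtain ⟨a, ha⟩ := hN.nonempty_fixed_point_of_prime_not_dvd_card (G ⧸ K) hcard
  induction a using QuotientGroup.induction_on with
  | H g =>
    intro n hn
    have hn' : g * n * g⁻¹ ∈ N := ‹N.Normal›.conj_mem n hn g
    have := ha ⟨g * n * g⁻¹, hn'⟩
    have h2 : ((g * n * g⁻¹ * g : G) : G ⧸ K) = (g : G ⧸ K) := this
    rw [QuotientGroup.eq] at h2
    have h3 : (g * n * g⁻¹ * g)⁻¹ * g = n⁻¹ := by group
    rw [h3] at h2
    simpa using K.inv_mem h2

theorem comm_of_hypA {p : ℕ} (hp : p.Prime) :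
    ∀ (n : ℕ) (G : Type u) [Group G] [Finite G], Nat.card G = n → Group.IsSolvable G →
      HypA p G → ∀ H : Subgroup G, (Nat.card H).Coprime p →
        ∀ x ∈ H, ∀ y ∈ H, x * y = y * x := by
  intro n
  induction n using Nat.strong_induction_on with
  | _ n ih =>
    intro G _ _ hn hsol hA H hH x hx y hy
    have : Fact p.Prime := ⟨hp⟩
    by_cases hR : Cfsg.pCore p G = ⊥
    · have key : ∀ z : G, (orderOf z).Coprime p →
          z ∈ Subgroup.centralizer (Cfsg.fittingSubgroup G : Set G) := by
        intro z hz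
        obtain ⟨k, hk⟩ := hA z hz
        have hle : Cfsg.fittingSubgroup G ≤ Subgroup.centralizer ({z} : Set G) := by
          rw [Cfsg.Agent.Lib.Helper1_Cores.fittingSubgroup_eq_iSup_pCore]
          apply iSup_le
          intro q
          by_cases hqp : (q : ℕ) = p
          · rw [hqp, hR]; exact bot_le
          · have : Fact (q : ℕ).Prime := ⟨q.2⟩
            apply normal_pgroup_le_of_not_dvd_index _ _
              (Cfsg.Agent.Lib.Helper1_Cores.pCore_isPGroup (q : ℕ))
            rw [hk]
            intro hdvd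
            exact hqp ((Nat.prime_dvd_prime_iff_eq q.2 hp).mp (q.2.dvd_of_dvd_pow hdvd))
        rw [Subgroup.mem_centralizer_iff]
        intro f hf
        have := hle hf
        rw [Subgroup.mem_centralizer_singleton_iff] at this
        exact this
      have hxo : (orderOf x).Coprime p :=
        Nat.Coprime.coprime_dvd_left (Subgroup.orderOf_dvd_natCard H hx) hH
      have hyo : (orderOf y).Coprime p :=
        Nat.Coprime.coprime_dvd_left (Subgroup.orderOf_dvd_natCard H hy) hH
      have hyF : y ∈ Cfsg.fittingSubgroup G :=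
        Cfsg.Agent.Lib.Helper55_Fitting.centralizer_fittingSubgroup_le (key y hyo)
      have hxC := key x hxo
      rw [Subgroup.mem_centralizer_iff] at hxC
      exact (hxC y hyF).symm
    · set R := Cfsg.pCore p G with hRdef
      have hcardQ : Nat.card (G ⧸ R) < n := by
        rw [← hn, Subgroup.card_eq_card_quotient_mul_card_subgroup R]
        have h1 : 1 < Nat.card R := (Subgroup.one_lt_card_iff_ne_bot R).mpr hR
        have h2 : 0 < Nat.card (G ⧸ R) := Nat.card_pos
        nlinarith
      have hHmap : (Nat.card (H.map (QuotientGroup.mk' R))).Coprime p :=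
        Nat.Coprime.coprime_dvd_left (Subgroup.card_map_dvd _ _) hH
      have hcomm := ih _ hcardQ (G ⧸ R) rfl inferInstance
        (hA.map hp (QuotientGroup.mk' R) (QuotientGroup.mk'_surjective R))
        (H.map (QuotientGroup.mk' R)) hHmap
        (QuotientGroup.mk' R x) (Subgroup.mem_map_of_mem _ hx)
        (QuotientGroup.mk' R y) (Subgroup.mem_map_of_mem _ hy)
      rw [← map_mul, ← map_mul] at hcomm
      have hc : (y * x)⁻¹ * (x * y) ∈ R := by
        have := QuotientGroup.eq.mp hcomm.symm
        exact this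
      have hcH : (y * x)⁻¹ * (x * y) ∈ H := H.mul_mem (H.inv_mem (H.mul_mem hy hx)) (H.mul_mem hx hy)
      set c := (y * x)⁻¹ * (x * y) with hcdef
      have ho1 : (orderOf c).Coprime p :=
        Nat.Coprime.coprime_dvd_left (Subgroup.orderOf_dvd_natCard H hcH) hH
      obtain ⟨k, hk⟩ := (Cfsg.Agent.Lib.Helper1_Cores.pCore_isPGroup (G := G) p) ⟨c, hc⟩
      have hk' : c ^ p ^ k = 1 := by
        have := congrArg Subtype.val hk
        simpa using this
      have ho2 : orderOf c ∣ p ^ k := orderOf_dvd_of_pow_eq_one hk'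
      have ho3 : orderOf c = 1 := Nat.Coprime.eq_one_of_dvd (Nat.Coprime.pow_right k ho1) ho2
      rw [orderOf_eq_one_iff] at ho3
      have : y * x * c = x * y := by rw [hcdef]; group
      rw [← this, ho3, mul_one]

/-- Hypothesis: there is an abelian `p`-complement. -/
def HypB (p : ℕ) (G : Type*) [Group G] : Prop :=
  ∃ H : Subgroup G, (∀ a ∈ H, ∀ b ∈ H, a * b = b * a) ∧ ¬ p ∣ Nat.card H ∧
    ∃ k : ℕ, H.index = p ^ k

theorem card_subgroupOf_dvd {G : Type*} [Group G] [Finite G] (H N : Subgroup G) :
    Nat.card (H.subgroupOf N) ∣ Nat.card H := by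
  have h1 : (H.subgroupOf N).map N.subtype = H ⊓ N := Subgroup.subgroupOf_map_subtype H N
  have h2 : Nat.card ((H.subgroupOf N).map N.subtype) = Nat.card (H.subgroupOf N) :=
    Subgroup.card_map_of_injective N.subtype_injective
  rw [← h2, h1]
  exact Subgroup.card_dvd_of_le inf_le_left

theorem HypB.subgroup {p : ℕ} (hp : p.Prime) {G : Type*} [Group G] [Finite G] (h : HypB p G)
    (N : Subgroup G) [N.Normal] : HypB p N := by
  obtain ⟨H, hcomm, hpH, k, hk⟩ := h
  refine ⟨H.subgroupOf N, ?_, ?_, ?_⟩
  · intro a ha b hb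
    rw [Subgroup.mem_subgroupOf] at ha hb
    apply Subtype.ext
    simpa using hcomm _ ha _ hb
  · intro hdvd
    exact hpH (hdvd.trans (card_subgroupOf_dvd H N))
  · have hdvd : (H.subgroupOf N).index ∣ p ^ k := by
      rw [← hk]
      exact relIndex_dvd_index_of_normal' H N
    obtain ⟨j, -, hj⟩ := (Nat.dvd_prime_pow hp).mp hdvd
    exact ⟨j, hj⟩

theorem HypB.map {p : ℕ} (hp : p.Prime) {G Q : Type*} [Group G] [Finite G] [Group Q]
    (h : HypB p G) (f : G →* Q) (hf : Function.Surjective f) : HypB p Q := by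
  obtain ⟨H, hcomm, hpH, k, hk⟩ := h
  refine ⟨H.map f, ?_, ?_, ?_⟩
  · rintro _ ⟨a, ha, rfl⟩ _ ⟨b, hb, rfl⟩
    rw [← map_mul, ← map_mul, hcomm a ha b hb]
  · intro hdvd
    exact hpH (hdvd.trans (Subgroup.card_map_dvd _ _))
  · have hdvd : (H.map f).index ∣ p ^ k := by
      rw [← hk]
      exact Subgroup.index_map_dvd _ hf
    obtain ⟨j, -, hj⟩ := (Nat.dvd_prime_pow hp).mp hdvd
    exact ⟨j, hj⟩

theorem isSolvable_of_hypB {p : ℕ} (hp : p.Prime) (G : Type u) [Group G] [Finite G]
    (hB : HypB p G) : Group.IsSolvable G := by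
  refine isSolvable_of_hereditary (fun G _ => HypB p G) ?_ ?_ ?_ _ G rfl hB
  · intro G _ _ hB N _
    exact hB.subgroup hp N
  · intro G _ _ hB N _
    exact hB.map hp (QuotientGroup.mk' N) (QuotientGroup.mk'_surjective N)
  · intro G _ _ hB hsimple
    obtain ⟨H, hcomm, hpH, k, hk⟩ := hB
    by_cases hbot : H = ⊥
    · have : Fact p.Prime := ⟨hp⟩
      have hcard : Nat.card G = p ^ k := by
        rw [← Subgroup.index_mul_card H, hk, hbot, Subgroup.card_bot, mul_one]
      have := (IsPGroup.of_card hcard).isNilpotent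
      infer_instance
    · obtain ⟨x, hxH, hx1⟩ : ∃ x : G, x ∈ H ∧ x ≠ 1 := by
        by_contra hcon
        push Not at hcon
        exact hbot ((Subgroup.eq_bot_iff_forall H).mpr hcon)
      have hle : H ≤ Subgroup.centralizer ({x} : Set G) := by
        intro a ha
        rw [Subgroup.mem_centralizer_singleton_iff]
        exact hcomm a ha x hxH
      have hdvd : (Subgroup.centralizer ({x} : Set G)).index ∣ p ^ k := by
        rw [← hk]
        exact Subgroup.index_dvd_of_le hle
      obtain ⟨j, -, hj⟩ := (Nat.dvd_prime_pow hp).mp hdvd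
      exact isSolvable_of_simple_of_prime_power_index hsimple hp x hx1 j hj

/-- Let G be a finite group and p a prime. Every conjugacy class of p-regular elements of G (elements of order prime to p) has p-power size if and only if G has an abelian p-complement, i.e. an abelian subgroup of order prime to p and p-power index. -/
theorem result {G : Type*} [Group G] [Finite G] {p : ℕ} (hp : p.Prime) :
    (∀ x : G, (orderOf x).Coprime p → ∃ k : ℕ, (ConjClasses.mk x).carrier.ncard = p ^ k) ↔
    (∃ H : Subgroup G, IsMulCommutative H ∧ ¬ p ∣ Nat.card H ∧ ∃ k : ℕ, H.index = p ^ k) := by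
  constructor
  · intro h
    have hA : HypA p G := by
      intro x hx
      obtain ⟨k, hk⟩ := h x hx
      rw [Cfsg.Agent.Lib.Helper67_Basic.ncard_carrier_eq_index] at hk
      exact ⟨k, hk⟩
    have hsol : Group.IsSolvable G := isSolvable_of_hypA hp G hA
    obtain ⟨e, m, hm, hn⟩ := Nat.exists_eq_pow_mul_and_not_dvd (n := Nat.card G)
      Nat.card_pos.ne' p hp.one_lt.ne'
    have hmcop : m.Coprime p := ((Nat.Prime.coprime_iff_not_dvd hp).mpr hm).symm
    obtain ⟨H, hH⟩ := Cfsg.Agent.Lib.Helper1_Hall.hall_exists (G := G) m (p ^ e)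
      (by rw [hn, mul_comm]) (Nat.Coprime.pow_right e hmcop)
    refine ⟨H, ?_, by rw [hH]; exact hm, e, ?_⟩
    · have hc := comm_of_hypA hp _ G rfl hsol hA H (by rw [hH]; exact hmcop)
      exact ⟨⟨fun a b => Subtype.ext (hc a a.2 b b.2)⟩⟩
    · have h1 := Subgroup.index_mul_card H
      rw [hH, hn] at h1
      have hmpos : 0 < m := Nat.pos_of_ne_zero (by rintro rfl; exact hm (dvd_zero p))
      exact Nat.eq_of_mul_eq_mul_right hmpos h1
  · rintro ⟨H, hHc, hpH, k, hk⟩ x hx
    have hcomm : ∀ a ∈ H, ∀ b ∈ H, a * b = b * a := by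
      intro a ha b hb
      have := mul_comm' (⟨a, ha⟩ : H) ⟨b, hb⟩
      exact congrArg Subtype.val this
    have hB : HypB p G := ⟨H, hcomm, hpH, k, hk⟩
    have hsol : Group.IsSolvable G := isSolvable_of_hypB hp G hB
    set m := Nat.card H with hm
    have hmcop : m.Coprime p := ((Nat.Prime.coprime_iff_not_dvd hp).mpr hpH).symm
    have hcard : Nat.card G = m * p ^ k := by
      rw [← Subgroup.index_mul_card H, hk, mul_comm]
    have hxz : (Nat.card (Subgroup.zpowers x)).Coprime (p ^ k) := by
      rw [Nat.card_zpowers]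
      exact Nat.Coprime.pow_right k hx
    obtain ⟨H', hH', hxH'⟩ := Cfsg.Agent.Lib.Helper1_Hall.hall_dominance (G := G) m (p ^ k)
      hcard (Nat.Coprime.pow_right k hmcop) (Subgroup.zpowers x) hxz
    obtain ⟨g, hg⟩ := Cfsg.Agent.Lib.Helper1_Hall.hall_conj (G := G) m (p ^ k)
      hcard (Nat.Coprime.pow_right k hmcop) H H' rfl hH'
    have hcomm' : ∀ a ∈ H', ∀ b ∈ H', a * b = b * a := by
      intro a ha b hb
      rw [← hg, Subgroup.mem_pointwise_smul_iff_inv_smul_mem] at ha hb
      have := hcomm _ ha _ hb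
      simp only [MulAut.smul_def, MulAut.inv_apply, MulAut.conj_symm_apply] at this
      have h2 : g * (g⁻¹ * a * g * (g⁻¹ * b * g)) * g⁻¹ = g * (g⁻¹ * b * g * (g⁻¹ * a * g)) * g⁻¹ := by
        rw [this]
      simpa [mul_assoc] using h2
    have hxmem : x ∈ H' := hxH' (Subgroup.mem_zpowers x)
    have hle : H' ≤ Subgroup.centralizer ({x} : Set G) := by
      intro a ha
      rw [Subgroup.mem_centralizer_singleton_iff]
      exact hcomm' a ha x hxmem
    have hidx : H'.index = p ^ k := by
      have h1 := Subgroup.index_mul_card H'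
      rw [hH', hcard, mul_comm m] at h1
      have hmpos : 0 < m := Nat.card_pos
      exact Nat.eq_of_mul_eq_mul_right hmpos h1
    have hdvd : (Subgroup.centralizer ({x} : Set G)).index ∣ p ^ k := by
      rw [← hidx]
      exact Subgroup.index_dvd_of_le hle
    obtain ⟨j, -, hj⟩ := (Nat.dvd_prime_pow hp).mp hdvd
    refine ⟨j, ?_⟩
    rw [Cfsg.Agent.Lib.Helper67_Basic.ncard_carrier_eq_index]
    exact hj

end Cfsg.Agent.S4034
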