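import Cfsg.Statements.S4035
import Cfsg.Agent.Lib.Helper67_Basic
import Cfsg.Agent.S4387

set_option autoImplicit false
open Cfsg

namespace Cfsg.Agent.S4035

open Cfsg.Agent.Lib.Helper67_Basic
open scoped Pointwise

/-- Let G be a finite group and p a prime such that p divides the size of no conjugacy class of p-regular elements (elements of order prime to p). Then G is the internal direct product of a Sylow p-subgroup P and a normal subgroup H of order prime to p: P is normal, P ⊓ H = 1 and PH = G. -/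
theorem result {G : Type*} [Group G] [Finite G] {p : ℕ} [Fact p.Prime]
    (h : ∀ x : G, (orderOf x).Coprime p → ¬ p ∣ (ConjClasses.mk x).carrier.ncard) (P : Sylow p G) :
    (P : Subgroup G).Normal ∧ ∃ H : Subgroup G, H.Normal ∧ ¬ p ∣ Nat.card H ∧
      (P : Subgroup G) ⊓ H = ⊥ ∧ (P : Subgroup G) ⊔ H = ⊤ := by
  have hp : p.Prime := Fact.out
  -- Step 1: every p'-element is conjugate to an element centralizing P
  have step1 : ∀ x : G, (orderOf x).Coprime p →
      ∃ g : G, g * x * g⁻¹ ∈ Subgroup.centralizer ((P : Subgroup G) : Set G) := by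
    intro x hx
    have hidx : ¬ p ∣ (Subgroup.centralizer ({x} : Set G)).index := by
      rw [← ncard_carrier_eq_index]; exact h x hx
    set C := Subgroup.centralizer ({x} : Set G) with hC
    obtain ⟨Q⟩ : Nonempty (Sylow p C) := inferInstance
    have hQ' : IsPGroup p ((Q : Subgroup C).map C.subtype) := Q.2.map _
    have hidx' : ¬ p ∣ ((Q : Subgroup C).map C.subtype).index := by
      rw [Subgroup.index_map_subtype]
      exact Nat.Prime.not_dvd_mul hp Q.not_dvd_index hidx
    obtain ⟨g, hg⟩ := MulAction.exists_smul_eq G (hQ'.toSylow hidx') P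
    refine ⟨g, ?_⟩
    rw [Subgroup.mem_centralizer_iff]
    intro u hu
    have hu' : u ∈ ((g • (hQ'.toSylow hidx') : Sylow p G) : Subgroup G) := by rw [hg]; exact hu
    rw [Sylow.coe_subgroup_smul, Subgroup.mem_pointwise_smul_iff_inv_smul_mem] at hu'
    have hu'' : g⁻¹ * u * g ∈ (Q : Subgroup C).map C.subtype := by
      simpa [MulAut.smul_def, MulAut.conj_apply] using hu'
    obtain ⟨c, -, hc⟩ := hu''
    have hcC : g⁻¹ * u * g ∈ C := by rw [← hc]; exact c.2
    rw [hC, Subgroup.mem_centralizer_singleton_iff] at hcC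
    -- hcC : g⁻¹ * u * g * x = x * (g⁻¹ * u * g)
    calc u * (g * x * g⁻¹) = g * (g⁻¹ * u * g * x) * g⁻¹ := by group
      _ = g * (x * (g⁻¹ * u * g)) * g⁻¹ := by rw [hcC]
      _ = g * x * g⁻¹ * u := by group
  -- the subgroup M = P C_G(P)
  set CP := Subgroup.centralizer ((P : Subgroup G) : Set G) with hCP
  set M := (P : Subgroup G) ⊔ CP with hM
  -- Step 2: every element of G is conjugate into M
  have step2 : ∀ w : G, ∃ g : G, g * w * g⁻¹ ∈ M := by
    intro w
    obtain ⟨k, m, hm, hkm⟩ := Nat.exists_eq_pow_mul_and_not_dvd (orderOf_pos w).ne' p hp.ne_one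
    have hmpos : 0 < m := Nat.pos_of_ne_zero (fun h0 => hm (h0 ▸ dvd_zero p))
    have hcop : Nat.Coprime (p ^ k) m :=
      Nat.Coprime.pow_left _ ((Nat.Prime.coprime_iff_not_dvd hp).2 hm)
    -- the p'-part of w
    have hxord : orderOf (w ^ (p ^ k)) = m := by
      rw [orderOf_pow, hkm, Nat.gcd_eq_right (Dvd.intro _ rfl),
        Nat.mul_div_cancel_left _ (pow_pos hp.pos k)]
    have hxcop : (orderOf (w ^ (p ^ k))).Coprime p := by
      rw [hxord]; exact ((Nat.Prime.coprime_iff_not_dvd hp).2 hm).symm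
    obtain ⟨g, hg⟩ := step1 (w ^ (p ^ k)) hxcop
    -- replace w by its conjugate
    set w' := g * w * g⁻¹ with hw'
    have hw'ord : orderOf w' = p ^ k * m := by rw [hw', orderOf_conj_eq, hkm]
    have hx' : w' ^ (p ^ k) ∈ CP := by rw [hw', conj_pow]; exact hg
    set x' := w' ^ (p ^ k) with hx'def
    set u' := w' ^ m with hu'def
    have hu'ord : orderOf u' = p ^ k := by
      rw [hu'def, orderOf_pow, hw'ord, Nat.gcd_eq_right (Dvd.intro_left _ rfl),
        Nat.mul_div_cancel _ hmpos]
    -- P ≤ C_G(x')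
    set C := Subgroup.centralizer ({x'} : Set G) with hC
    have hPC : (P : Subgroup G) ≤ C := by
      intro s hs
      rw [hC, Subgroup.mem_centralizer_singleton_iff]
      exact ((Subgroup.mem_centralizer_iff.1 hx') s hs)
    have hu'C : u' ∈ C := by
      rw [hC, Subgroup.mem_centralizer_singleton_iff, hu'def, hx'def, ← pow_add, ← pow_add, add_comm]
    -- Sylow in C
    let PC : Sylow p C := P.subtype hPC
    have hZp : IsPGroup p (Subgroup.zpowers (⟨u', hu'C⟩ : C)) := by
      apply IsPGroup.of_card (n := k)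
      rw [Nat.card_zpowers, Subgroup.orderOf_mk, hu'ord]
    obtain ⟨c, hc⟩ := exists_conj_mem_sylow PC hZp
    have hcu := hc ⟨u', hu'C⟩ (Subgroup.mem_zpowers _)
    have hcu' : (c : G) * u' * (c : G)⁻¹ ∈ (P : Subgroup G) := by
      have : (c * ⟨u', hu'C⟩ * c⁻¹ : C) ∈ (P : Subgroup G).subgroupOf C := hcu
      rw [Subgroup.mem_subgroupOf] at this
      simpa using this
    have hcx : (c : G) * x' * (c : G)⁻¹ = x' := by
      have : (c : G) * x' = x' * (c : G) := Subgroup.mem_centralizer_singleton_iff.1 c.2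
      rw [this]; group
    refine ⟨(c : G) * g, ?_⟩
    have hdec := eq_zpow_mul_zpow_of_coprime w' hcop.symm
    have e1 : (c : G) * g * w * ((c : G) * g)⁻¹ = (c : G) * w' * (c : G)⁻¹ := by rw [hw']; group
    rw [e1, hdec]
    have e2 : (c : G) * (u' ^ (Nat.gcdA m (p ^ k)) * x' ^ (Nat.gcdB m (p ^ k))) * (c : G)⁻¹
        = ((c : G) * u' * (c : G)⁻¹) ^ (Nat.gcdA m (p ^ k)) * ((c : G) * x' * (c : G)⁻¹) ^ (Nat.gcdB m (p ^ k)) := by
      rw [conj_zpow, conj_zpow]; group
    rw [e2, hcx]
    exact Subgroup.mul_mem _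
      ((le_sup_left : (P : Subgroup G) ≤ M) (Subgroup.zpow_mem _ hcu' _))
      ((le_sup_right : CP ≤ M) (Subgroup.zpow_mem _ hx' _))
  -- Step 3: M = ⊤
  have hMtop : M = ⊤ := by
    by_contra hne
    obtain ⟨g, hg⟩ := Cfsg.Agent.S4387.exists_not_mem_conj M hne
    obtain ⟨c, hc⟩ := step2 g
    apply hg c⁻¹
    rw [Subgroup.mem_pointwise_smul_iff_inv_smul_mem]
    simpa [MulAut.smul_def, MulAut.conj_apply] using hc
  -- Step 4: P is normal
  have hPnormal : (P : Subgroup G).Normal := by
    rw [← Subgroup.normalizer_eq_top_iff, eq_top_iff, ← hMtop]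
    exact sup_le Subgroup.le_normalizer (Subgroup.centralizer_le_normalizer _)
  refine ⟨hPnormal, ?_⟩
  haveI := hPnormal
  -- Step 5: complement
  have hcopP : Nat.Coprime (Nat.card (P : Subgroup G)) (P : Subgroup G).index := by
    obtain ⟨k, hk⟩ := P.2.exists_card_eq
    rw [hk]
    exact Nat.Coprime.pow_left _ ((Nat.Prime.coprime_iff_not_dvd hp).2 P.not_dvd_index)
  obtain ⟨H, hH⟩ := Subgroup.exists_right_complement'_of_coprime hcopP
  have hHcard : Nat.card H = (P : Subgroup G).index := hH.symm.index_eq_card.symm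
  have hpH : ¬ p ∣ Nat.card H := by rw [hHcard]; exact P.not_dvd_index
  have hHcent : H ≤ CP := by
    intro y hy
    have hycop : (orderOf y).Coprime p := by
      have h1 : orderOf y ∣ Nat.card H := by
        have := orderOf_dvd_natCard (⟨y, hy⟩ : H)
        rwa [Subgroup.orderOf_mk] at this
      exact Nat.Coprime.coprime_dvd_left h1 ((Nat.Prime.coprime_iff_not_dvd hp).2 hpH).symm
    obtain ⟨g, hg⟩ := step1 y hycop
    rw [hCP, Subgroup.mem_centralizer_iff] at hg ⊢
    intro s hs
    have hs' : g * s * g⁻¹ ∈ (P : Subgroup G) := hPnormal.conj_mem s hs g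
    have := hg _ hs'
    -- g s g⁻¹ * (g y g⁻¹) = g y g⁻¹ * (g s g⁻¹)
    have e : g * (s * y) * g⁻¹ = g * (y * s) * g⁻¹ := by
      calc g * (s * y) * g⁻¹ = g * s * g⁻¹ * (g * y * g⁻¹) := by group
        _ = g * y * g⁻¹ * (g * s * g⁻¹) := this
        _ = g * (y * s) * g⁻¹ := by group
    exact mul_left_cancel (mul_right_cancel e)
  have hHnormal : H.Normal := by
    rw [← Subgroup.normalizer_eq_top_iff, eq_top_iff, ← hH.sup_eq_top]
    refine sup_le ?_ Subgroup.le_normalizer
    intro s hs
    rw [Subgroup.mem_normalizer_iff]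
    intro y
    have key : ∀ y ∈ H, s * y * s⁻¹ = y := by
      intro y hy
      have := (Subgroup.mem_centralizer_iff.1 (hHcent hy)) s hs
      rw [this]; group
    constructor
    · intro hy; rw [key y hy]; exact hy
    · intro hy
      have := key _ hy
      have e : y = s⁻¹ * (s * y * s⁻¹) * s := by group
      have e2 : s * (s * y * s⁻¹) * s⁻¹ = s * y * s⁻¹ := this
      have e3 : s * y * s⁻¹ = y := by
        have := congrArg (fun t => s⁻¹ * t * s) e2
        simpa [mul_assoc] using this
      rw [← e3]; exact hy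
  exact ⟨H, hHnormal, hpH, hH.disjoint.eq_bot, hH.sup_eq_top⟩

end Cfsg.Agent.S4035
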