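import Cfsg.Statements.S4036

set_option autoImplicit false
open Cfsg

namespace Cfsg.Agent.S4036

/-- Let P be a finite abelian p-group and K a group of automorphisms of P (a subgroup of Aut P) whose order is divisible by p. If all non-identity elements of K have the same fixed-point subgroup on P, then K has no non-trivial normal subgroup of order prime to p. -/
theorem result {P : Type*} [CommGroup P] [Finite P] {p : ℕ}
    [Fact p.Prime] (hP : IsPGroup p P) (K : Subgroup (MulAut P)) (hK : p ∣ Nat.card K)
    (hfix : ∀ x y : MulAut P, x ∈ K → y ∈ K → x ≠ 1 → y ≠ 1 → ∀ v : P, x v = v ↔ y v = v) :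
    ∀ N : Subgroup ↥K, N.Normal → ¬ p ∣ Nat.card N → N = ⊥ := by
  classical
  intro N hN hpN
  by_contra hne
  have hp : p.Prime := Fact.out
  have : Fintype P := Fintype.ofFinite P
  have : Fintype N := Fintype.ofFinite N
  -- a nonidentity element of N
  obtain ⟨n₀, hn₀⟩ := (Subgroup.ne_bot_iff_exists_ne_one).1 hne
  -- an element of order p in K
  obtain ⟨u, hu⟩ := exists_prime_orderOf_dvd_card' p hK
  have hu1 : u ≠ 1 := by
    intro h
    rw [h, orderOf_one] at hu
    exact hp.one_lt.ne hu
  have hu1' : (u : MulAut P) ≠ 1 := fun h => hu1 (Subtype.ext h)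
  -- the averaging endomorphism
  let θ : P →* P :=
    { toFun := fun v => ∏ n : N, ((n : K) : MulAut P) v
      map_one' := by simp
      map_mul' := fun a b => by simp [Finset.prod_mul_distrib] }
  have hθ : ∀ v, θ v = ∏ n : N, ((n : K) : MulAut P) v := fun v => rfl
  -- equivariance under K
  have hequiv : ∀ (k : K) (v : P), θ ((k : MulAut P) v) = (k : MulAut P) (θ v) := by
    intro k v
    rw [hθ, hθ, map_prod]
    rw [← Equiv.prod_comp (MulAut.conjNormal k : N ≃* N).toEquiv]
    refine Finset.prod_congr rfl fun n _ => ?_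
    have h1 : (((MulAut.conjNormal k : N ≃* N) n : N) : K) = k * n * k⁻¹ := MulAut.conjNormal_apply k n
    have h2 : ((((MulAut.conjNormal k : N ≃* N).toEquiv n : N) : K) : MulAut P)
        = (k : MulAut P) * ((n : K) : MulAut P) * (k : MulAut P)⁻¹ := by
      change ((((MulAut.conjNormal k : N ≃* N) n : N) : K) : MulAut P) = _
      rw [h1]; rfl
    rw [h2]
    simp [MulAut.mul_apply]
  -- invariance under N
  have hinv : ∀ (m : N) (v : P), ((m : K) : MulAut P) (θ v) = θ v := by
    intro m v
    rw [hθ, map_prod]
    rw [← Equiv.prod_comp (Equiv.mulLeft m) (fun n : N => ((n : K) : MulAut P) v)]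
    refine Finset.prod_congr rfl fun n _ => ?_
    simp [MulAut.mul_apply]
  -- every element of the image of θ is fixed by all of K
  have hfixθ : ∀ (k : MulAut P), k ∈ K → ∀ v, k (θ v) = θ v := by
    intro k hk v
    by_cases hk1 : k = 1
    · rw [hk1]; rfl
    · have hn₀' : ((n₀ : K) : MulAut P) ≠ 1 := by
        intro h
        apply hn₀
        have : (n₀ : K) = 1 := Subtype.ext h
        exact Subtype.ext this
      exact (hfix _ _ (n₀ : K).2 hk hn₀' hk1 (θ v)).1 (hinv n₀ v)
  -- the kernel of θ
  let W : Subgroup P := θ.ker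
  have hWinv : ∀ (k : K) (w : P), w ∈ W → (k : MulAut P) w ∈ W := by
    intro k w hw
    rw [MonoidHom.mem_ker] at hw ⊢
    rw [hequiv, hw, map_one]
  -- a point of W fixed by u is trivial
  have hWfix : ∀ w : P, w ∈ W → (u : MulAut P) w = w → w = 1 := by
    intro w hw huw
    have hall : ∀ n : N, ((n : K) : MulAut P) w = w := by
      intro n
      by_cases hn1 : ((n : K) : MulAut P) = 1
      · rw [hn1]; rfl
      · exact (hfix _ _ u.2 (n : K).2 hu1' hn1 w).1 huw
    have h1 : θ w = w ^ Fintype.card N := by
      rw [hθ, Finset.prod_congr rfl fun n _ => hall n, Finset.prod_const, Finset.card_univ]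
    have h2 : w ^ Fintype.card N = 1 := by
      rw [← h1]; exact hw
    obtain ⟨j, hj⟩ := hP w
    have hcop : Nat.Coprime (Fintype.card N) (p ^ j) := by
      apply Nat.Coprime.pow_right
      rw [Nat.coprime_comm]
      apply (Nat.Prime.coprime_iff_not_dvd hp).2
      rwa [Nat.card_eq_fintype_card] at hpN
    have h3 : orderOf w ∣ Fintype.card N := orderOf_dvd_of_pow_eq_one h2
    have h4 : orderOf w ∣ p ^ j := orderOf_dvd_of_pow_eq_one hj
    have h5 : orderOf w = 1 := Nat.eq_one_of_dvd_coprimes hcop h3 h4
    exact orderOf_eq_one_iff.1 h5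
  -- the permutation induced by u on W
  let σ : Equiv.Perm W :=
    { toFun := fun w => ⟨(u : MulAut P) w, hWinv u w w.2⟩
      invFun := fun w => ⟨((u⁻¹ : K) : MulAut P) w, hWinv u⁻¹ w w.2⟩
      left_inv := fun w => by
        apply Subtype.ext
        simp
      right_inv := fun w => by
        apply Subtype.ext
        simp }
  have hσpow : ∀ (j : ℕ) (w : W), (((σ ^ j) w : W) : P) = ((u : MulAut P) ^ j) w := by
    intro j
    induction j with
    | zero => intro w; simp
    | succ j ih =>
      intro w
      rw [pow_succ', pow_succ', Equiv.Perm.mul_apply, MulAut.mul_apply, ← ih w]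
      rfl
  have hσ : σ ^ p ^ 1 = 1 := by
    ext w
    rw [pow_one, hσpow]
    have : (u : MulAut P) ^ p = 1 := by
      have h := pow_orderOf_eq_one u
      rw [hu] at h
      have := congrArg (fun k : K => (k : MulAut P)) h
      simpa using this
    rw [this]; rfl
  -- W is trivial
  have hWbot : W = ⊥ := by
    by_contra hWne
    have hWp : IsPGroup p W := hP.to_subgroup W
    obtain ⟨j, hj⟩ := hWp.exists_card_eq
    have hj0 : j ≠ 0 := by
      intro h0
      rw [h0, pow_zero] at hj
      exact hWne (Subgroup.card_eq_one.1 hj)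
    have hdvd : p ∣ Fintype.card W := by
      rw [← Nat.card_eq_fintype_card, hj]
      exact dvd_pow_self p hj0
    have h1fix : σ 1 = 1 := by
      apply Subtype.ext
      change (u : MulAut P) 1 = 1
      simp
    obtain ⟨b, hb, hb1⟩ := Equiv.Perm.exists_fixed_point_of_prime' hdvd hσ h1fix
    apply hb1
    apply Subtype.ext
    have : (u : MulAut P) (b : P) = b := congrArg Subtype.val hb
    exact hWfix b b.2 this
  -- so θ is injective, hence surjective, so everything is fixed by n₀
  have hinj : Function.Injective θ := (MonoidHom.ker_eq_bot_iff θ).1 hWbot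
  have hsurj : Function.Surjective θ := Finite.surjective_of_injective hinj
  apply hn₀
  have : (n₀ : K) = 1 := by
    apply Subtype.ext
    apply MulEquiv.ext
    intro v
    obtain ⟨w, rfl⟩ := hsurj v
    exact hinv n₀ w
  exact Subtype.ext this

end Cfsg.Agent.S4036
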