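import Cfsg.Statements.S4037
import Mathlib
import Cfsg.Agent.Lib.Helper3_CharBurnside
import Cfsg.Agent.Lib.Helper16_BlockOrth
import Cfsg.Agent.Lib.Helper78_LocalRing
import Cfsg.Agent.Lib.Helper23_ZStarB
import Cfsg.Agent.Lib.Helper63_Frobenius
import Cfsg.Agent.Lib.Helper60_ThreePrimes

set_option autoImplicit false
open Cfsg

namespace Cfsg.Agent.S4037

open Representation
open scoped ComplexConjugate
open Cfsg.Agent.Lib.Helper3_CharBridge Cfsg.Agent.Lib.Helper3_CharEigen
  Cfsg.Agent.Lib.Helper3_CharOrtho Cfsg.Agent.Lib.Helper3_CharComplete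
  Cfsg.Agent.Lib.Helper3_CharColumn Cfsg.Agent.Lib.Helper3_CharDegree
  Cfsg.Agent.Lib.Helper3_CharBurnside Cfsg.Agent.Lib.Helper78_LocalRing

section chars

variable {G : Type*} [Group G] [Fintype G]

/-- Key character-theoretic step: if the class of `x` has `p`-power size and `r ≠ p` is a prime
dividing `|G|`, then some non-principal irreducible representation in the principal `r`-block
maps `x` to a scalar congruent to `1`. -/
theorem exists_scalar_rep (x : G) {p k r : ℕ} (hp : p.Prime) (hr : r.Prime) (hpr : p ≠ r)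
    (hclass : (Subgroup.centralizer ({x} : Set G)).index = p ^ k) (hrG : r ∣ Nat.card G)
    {M : Ideal AlgInt} (hM : IsPModular r M) :
    ∃ (n : ℕ) (ρ : Representation ℂ G (Fin n → ℂ)) (ω : ℂ), ρ.IsIrreducible ∧
      ρ.character ≠ (fun _ => 1) ∧ ρ x = ω • (LinearMap.id : (Fin n → ℂ) →ₗ[ℂ] (Fin n → ℂ)) ∧
      MemLocalIdeal M (ω - 1) := by
  classical
  by_contra hcon
  push Not at hcon
  have hMp : M.IsPrime := isPrime_of_isPModular hM
  set χ₀ : Cfsg.IrrCharacter G := ⟨fun _ => 1, Cfsg.Agent.Lib.Helper80_CharBasic.isIrrCharacter_one G⟩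
    with hχ₀
  set B : Set (Cfsg.IrrCharacter G) := blockOf M (χ₀ : G → ℂ) with hBdef
  have hB : IsPBlock M B := ⟨χ₀, rfl⟩
  have hpC : (p : ℂ) ≠ 0 := by exact_mod_cast hp.ne_zero
  have : Fact r.Prime := ⟨hr⟩
  obtain ⟨y, hy⟩ := exists_prime_orderOf_dvd_card' r hrG
  have hy1 : y ≠ 1 := by
    intro h
    rw [h, orderOf_one] at hy
    exact hr.one_lt.ne hy
  have hPy : IsPPart r y y := ⟨1, mul_one y, Commute.one_right y, ⟨1, by rw [hy, pow_one]⟩, by
    rw [orderOf_one]; exact hr.not_dvd_one⟩
  have hP1 : IsPPart r (1 : G) 1 := ⟨1, mul_one 1, Commute.one_right 1, ⟨0, by simp⟩, by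
    rw [orderOf_one]; exact hr.not_dvd_one⟩
  have hnc : ¬ IsConj y 1 := fun h => hy1 (isConj_one_left.mp h)
  have horth := Cfsg.Agent.Lib.Helper16_BlockOrth.block_orthogonality_inv hM hB hPy hP1 hnc
  rw [inv_one] at horth
  -- term-by-term analysis
  have hterm : ∀ χ : Cfsg.IrrCharacter G, ∃ t : ℂ, IsIntegral ℤ t ∧
      (if χ ∈ B then (χ : G → ℂ) y * (χ : G → ℂ) 1 else 0) =
        (if χ = χ₀ then 1 else 0) + (p : ℂ) * t := by
    intro χ
    by_cases hχ : χ = χ₀
    · refine ⟨0, isIntegral_zero, ?_⟩
      have hmem : χ₀ ∈ B := mem_blockOf_self hMp χ₀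
      rw [if_pos hχ, hχ, if_pos hmem]
      simp [hχ₀]
    simp only [if_neg hχ, zero_add]
    by_cases hχB : χ ∈ B
    swap
    · exact ⟨0, isIntegral_zero, by rw [if_neg hχB, mul_zero]⟩
    rw [if_pos hχB]
    obtain ⟨n, ρ, hirr, hρ⟩ := χ.2
    have := hirr
    have hd1 : (χ : G → ℂ) 1 = (Module.finrank ℂ (Fin n → ℂ) : ℂ) := by
      rw [← hρ, char_one]
    have hd0 : Module.finrank ℂ (Fin n → ℂ) ≠ 0 := finrank_ne_zero_of_irr ρ
    have hd0C : (Module.finrank ℂ (Fin n → ℂ) : ℂ) ≠ 0 := by exact_mod_cast hd0
    rw [hd1]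
    by_cases hpd : p ∣ Module.finrank ℂ (Fin n → ℂ)
    · obtain ⟨m, hm⟩ := hpd
      refine ⟨(χ : G → ℂ) y * (m : ℂ), ?_, ?_⟩
      · refine IsIntegral.mul ?_ (isIntegral_algebraMap (R := ℤ) (x := (m : ℤ)) |>
          (by simpa using ·))
        rw [← hρ]
        exact isIntegral_char ρ y
      · rw [hm]
        push_cast
        ring
    · exfalso
      have hcop : Nat.Coprime (Module.finrank ℂ (Fin n → ℂ))
          (Subgroup.centralizer ({x} : Set G)).index := by
        rw [hclass]
        exact Nat.Coprime.pow_right k ((Nat.Prime.coprime_iff_not_dvd hp).mpr hpd).symm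
      -- block membership at `x`
      have hsb : SameBlock M (χ₀ : G → ℂ) (χ : G → ℂ) := mem_blockOf_iff.mp hχB
      have hx := hsb x
      have hc0 : centralChar (χ₀ : G → ℂ) x = (p : ℂ) ^ k := by
        rw [hχ₀]
        simp only [centralChar]
        rw [hclass]
        push_cast
        simp
      rw [hc0] at hx
      have hpk : ¬ MemLocalIdeal M ((p : ℂ) ^ k) := by
        intro h
        have h1 : MemLocalIdeal M (((p ^ k : ℕ)) : ℂ) := by push_cast; exact h
        rw [memLocalIdeal_natCast_iff hM] at h1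
        have h2 := hr.dvd_of_dvd_pow h1
        exact hpr ((Nat.prime_dvd_prime_iff_eq hr hp).mp h2).symm
      have hpkR : MemLocalRing M ((p : ℂ) ^ k) := by
        have := memLocalRing_natCast hMp (p ^ k)
        push_cast at this
        exact this
      rcases char_eq_zero_or_norm_eq_of_coprime ρ x hcop with h0 | h1
      · have hcx : centralChar (χ : G → ℂ) x = 0 := by
          simp only [centralChar]
          rw [← hρ, h0]
          simp
        rw [hcx, sub_zero] at hx
        exact hpk hx
      · obtain ⟨ω, hω⟩ := (norm_char_eq_iff ρ x).mp h1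
        have hchx : (χ : G → ℂ) x = ω * (Module.finrank ℂ (Fin n → ℂ) : ℂ) := by
          rw [← hρ, Representation.character, hω]
          simp
        have hcx : centralChar (χ : G → ℂ) x = (p : ℂ) ^ k * ω := by
          simp only [centralChar]
          rw [hclass, hchx, hd1]
          push_cast
          field_simp
        rw [hcx] at hx
        have hnt : ρ.character ≠ fun _ => 1 := by
          intro h
          apply hχ
          apply Subtype.ext
          rw [← hρ, h]
        have hnot := hcon n ρ ω hirr hnt hω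
        have hinv : MemLocalRing M ((p : ℂ) ^ k)⁻¹ := memLocalRing_inv hMp hpkR hpk
        have h4 : MemLocalIdeal M (((p : ℂ) ^ k)⁻¹ * ((p : ℂ) ^ k - (p : ℂ) ^ k * ω)) :=
          memLocalIdeal_mul_left hMp hinv hx
        have hpk0 : (p : ℂ) ^ k ≠ 0 := pow_ne_zero k hpC
        have h3 : ((p : ℂ) ^ k)⁻¹ * ((p : ℂ) ^ k - (p : ℂ) ^ k * ω) = -(ω - 1) := by
          field_simp
          ring
        rw [h3] at h4
        have h5 := memLocalIdeal_neg h4
        rw [neg_neg] at h5
        exact hnot h5
  choose t ht1 ht2 using hterm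
  rw [finsum_eq_sum_of_fintype] at horth
  simp_rw [finsum_eq_if] at horth
  simp_rw [ht2] at horth
  rw [Finset.sum_add_distrib, Finset.sum_ite_eq' Finset.univ χ₀, if_pos (Finset.mem_univ _),
    ← Finset.mul_sum] at horth
  have hβ : IsIntegral ℤ (∑ χ : Cfsg.IrrCharacter G, t χ) := IsIntegral.sum _ (fun χ _ => ht1 χ)
  have h1 : ((1 : ℕ) : ℂ) / (p : ℂ) = -(∑ χ : Cfsg.IrrCharacter G, t χ) := by
    field_simp
    push_cast
    linear_combination horth
  have h2 : IsIntegral ℤ (((1 : ℕ) : ℂ) / (p : ℂ)) := by
    rw [h1]; exact hβ.neg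
  have h3 := dvd_of_isIntegral_div hp.ne_zero h2
  exact hp.one_lt.ne' (Nat.dvd_one.mp h3)

end chars

section top

universe u
variable {G : Type u} [Group G] [Finite G]

/-- The case where the class of `x` generates the whole group. -/
theorem isSolvable_of_normalClosure_eq_top (x : G) {p k q b : ℕ} (hp : p.Prime) (hq : q.Prime)
    (hclass : (Subgroup.centralizer ({x} : Set G)).index = p ^ k) (hord : orderOf x = q ^ b)
    (hN : Subgroup.normalClosure ({x} : Set G) = ⊤) : Group.IsSolvable G := by
  classical
  have := Fintype.ofFinite G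
  by_contra hns
  obtain ⟨r, hr, hrG, hrp, hrq⟩ : ∃ r : ℕ, r.Prime ∧ r ∣ Nat.card G ∧ r ≠ p ∧ r ≠ q := by
    by_contra h
    push Not at h
    apply hns
    refine isSolvable_of_two_primes p q hp hq _ G rfl ?_
    intro r hr hdvd
    by_cases h1 : r = p
    · exact Or.inl h1
    · exact Or.inr (h r hr hdvd h1)
  obtain ⟨M, hM⟩ := Cfsg.Agent.Lib.Helper23_ZStarB.exists_pModular r hr
  have hMp : M.IsPrime := isPrime_of_isPModular hM
  obtain ⟨n, ρ, ω, hirr, hnt, hsc, hω⟩ := exists_scalar_rep x hp hr (Ne.symm hrp) hclass hrG hM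
  have := hirr
  have hd0 : Module.finrank ℂ (Fin n → ℂ) ≠ 0 := finrank_ne_zero_of_irr ρ
  have hd : (Module.finrank ℂ (Fin n → ℂ) : ℂ) ≠ 0 := by exact_mod_cast hd0
  -- ω ≠ 1
  have hω1 : ω ≠ 1 := by
    intro h1
    rw [h1, one_smul] at hsc
    have hker : Subgroup.normalClosure ({x} : Set G) ≤ MonoidHom.ker ρ := by
      apply Subgroup.normalClosure_le_normal
      intro z hz
      rw [Set.mem_singleton_iff] at hz
      rw [hz]
      exact MonoidHom.mem_ker.mpr hsc
    rw [hN] at hker
    have htriv : ∀ g : G, ρ g = 1 := fun g => MonoidHom.mem_ker.mp (hker (Subgroup.mem_top g))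
    have hchar : ρ.character = fun _ => (Module.finrank ℂ (Fin n → ℂ) : ℂ) := by
      funext g
      rw [Representation.character, htriv g]
      exact LinearMap.trace_one ℂ _
    have h1 := classInner_of_isIrrCharacter_of_ne (isIrrCharacter_of_rep ρ)
      (Cfsg.Agent.Lib.Helper80_CharBasic.isIrrCharacter_one G) hnt
    rw [hchar, Cfsg.classInner] at h1
    simp only [map_one, mul_one, Finset.sum_const, Finset.card_univ, nsmul_eq_mul] at h1
    have hG : (Nat.card G : ℂ) ≠ 0 := card_ne_zero_complex
    have hG' : (Fintype.card G : ℂ) ≠ 0 := by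
      rw [Fintype.card_eq_nat_card]; exact hG
    rcases mul_eq_zero.mp h1 with h2 | h2
    · exact hG (inv_eq_zero.mp h2)
    · rcases mul_eq_zero.mp h2 with h3 | h3
      · exact hG' h3
      · exact hd h3
  -- ω ^ (q ^ b) = 1
  have hωm : ω ^ (q ^ b) = 1 := by
    have h1 : ρ (x ^ (q ^ b)) = 1 := by rw [← hord, pow_orderOf_eq_one, map_one]
    rw [map_pow, hsc] at h1
    have h2 : (ω • (LinearMap.id : (Fin n → ℂ) →ₗ[ℂ] (Fin n → ℂ))) ^ (q ^ b) =
        (ω ^ (q ^ b)) • (1 : Module.End ℂ (Fin n → ℂ)) := by
      have : (LinearMap.id : (Fin n → ℂ) →ₗ[ℂ] (Fin n → ℂ)) = (1 : Module.End ℂ (Fin n → ℂ)) := rfl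
      rw [this, smul_pow, one_pow]
    rw [h2] at h1
    have h3 := congrArg (LinearMap.trace ℂ (Fin n → ℂ)) h1
    rw [map_smul, LinearMap.trace_one, smul_eq_mul] at h3
    have h4 : (ω ^ (q ^ b) - 1) * (Module.finrank ℂ (Fin n → ℂ) : ℂ) = 0 := by
      linear_combination h3
    rcases mul_eq_zero.mp h4 with h5 | h5
    · exact sub_eq_zero.mp h5
    · exact absurd h5 hd
  -- contradiction
  have hωR : MemLocalRing M ω := by
    have h1 : ω = (ω - 1) + 1 := by ring
    rw [h1]
    exact memLocalRing_add hMp (memLocalRing_of_memLocalIdeal hω) (memLocalRing_one hMp)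
  have hgeom : ∑ j ∈ Finset.range (q ^ b), ω ^ j = 0 := by
    have h := geom_sum_mul ω (q ^ b)
    rw [hωm, sub_self] at h
    rcases mul_eq_zero.mp h with h | h
    · exact h
    · exact absurd (sub_eq_zero.mp h) hω1
  have hsum : MemLocalIdeal M (∑ j ∈ Finset.range (q ^ b), (ω ^ j - 1)) := by
    apply memLocalIdeal_sum hMp
    intro j _
    rw [← geom_sum_mul]
    exact memLocalIdeal_mul_left hMp
      (memLocalRing_sum hMp _ _ (fun i _ => memLocalRing_pow hMp hωR i)) hω
  rw [Finset.sum_sub_distrib, hgeom] at hsum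
  simp only [Finset.sum_const, Finset.card_range, nsmul_eq_mul, mul_one, zero_sub] at hsum
  have h6 := memLocalIdeal_neg hsum
  rw [neg_neg, memLocalIdeal_natCast_iff hM] at h6
  have h7 := hr.dvd_of_dvd_pow h6
  exact hrq ((Nat.prime_dvd_prime_iff_eq hr hq).mp h7)

end top

section radical

variable {H : Type*} [Group H] [Finite H]

/-- A finite group has a largest solvable normal subgroup. -/
theorem exists_radical : ∃ R : Subgroup H, R.Normal ∧ Group.IsSolvable R ∧
    ∀ K : Subgroup H, K.Normal → Group.IsSolvable K → K ≤ R := by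
  classical
  let S : Set (Subgroup H) := {K | K.Normal ∧ Group.IsSolvable K}
  have hS : S.Finite := Set.toFinite S
  have key : (hS.toFinset.sup id).Normal ∧ Group.IsSolvable ↥(hS.toFinset.sup id) := by
    refine Finset.sup_induction (p := fun K : Subgroup H => K.Normal ∧ Group.IsSolvable K) ?_ ?_ ?_
    · exact ⟨inferInstance, inferInstance⟩
    · rintro K₁ ⟨h1n, h1s⟩ K₂ ⟨h2n, h2s⟩
      refine ⟨inferInstance, ?_⟩
      exact Cfsg.Agent.Lib.Helper60_ThreePrimes.isSolvable_sup K₁ K₂
        (by rw [Subgroup.normalizer_eq_top]; exact le_top)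
    · intro K hK
      exact (Set.Finite.mem_toFinset hS).mp hK
  refine ⟨_, key.1, key.2, ?_⟩
  intro K hKn hKs
  exact Finset.le_sup (f := id) ((Set.Finite.mem_toFinset hS).mpr ⟨hKn, hKs⟩)

end radical

section main

universe u

theorem main : ∀ (n : ℕ) (G : Type u) [Group G] [Finite G], Nat.card G = n →
    ∀ (x : G) (p k : ℕ), p.Prime → (Subgroup.centralizer ({x} : Set G)).index = p ^ k →
      Group.IsSolvable ↥(Subgroup.normalClosure ({x} : Set G)) := by
  intro n
  induction n using Nat.strong_induction_on with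
  | _ n ih =>
  intro G _ _ hn
  obtain ⟨RG, hRGn, hRGs, hRGmax⟩ := exists_radical (H := G)
  have inner : ∀ (m : ℕ) (x : G), orderOf x = m → ∀ (p k : ℕ), p.Prime →
      (Subgroup.centralizer ({x} : Set G)).index = p ^ k →
      Group.IsSolvable ↥(Subgroup.normalClosure ({x} : Set G)) := by
    intro m
    induction m using Nat.strong_induction_on with
    | _ m ihm =>
    intro x hxm p k hp hclass
    by_cases hpp : ∃ q b : ℕ, q.Prime ∧ orderOf x = q ^ b
    · obtain ⟨q, b, hq, hord⟩ := hpp
      by_cases htop : Subgroup.normalClosure ({x} : Set G) = ⊤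
      · have := isSolvable_of_normalClosure_eq_top x hp hq hclass hord htop
        exact inferInstance
      · set N := Subgroup.normalClosure ({x} : Set G) with hNdef
        have hNcard : Nat.card N < n := by
          rw [← hn]
          refine lt_of_le_of_ne (Nat.le_of_dvd Nat.card_pos (Subgroup.card_subgroup_dvd_card N)) ?_
          intro h
          exact htop (Subgroup.card_eq_iff_eq_top N |>.mp h)
        have hxN : x ∈ N := Subgroup.subset_normalClosure (Set.mem_singleton x)
        set x' : N := ⟨x, hxN⟩ with hx'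
        have hidx : (Subgroup.centralizer ({x'} : Set N)).index ∣ p ^ k := by
          have h1 : Subgroup.centralizer ({x'} : Set N) =
              (Subgroup.centralizer ({x} : Set G)).subgroupOf N := by
            ext z
            simp only [Subgroup.mem_centralizer_singleton_iff, Subgroup.mem_subgroupOf,
              Subtype.ext_iff, Subgroup.coe_mul, hx']
          rw [h1, ← hclass]
          exact Cfsg.Agent.Lib.Helper63_Frobenius.relIndex_dvd_index_of_normal' _ N
        obtain ⟨j, _, hidx'⟩ := (Nat.dvd_prime_pow hp).mp hidx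
        have hL := ih _ hNcard N rfl x' p j hp hidx'
        obtain ⟨R, hRn, hRs, hRmax⟩ := exists_radical (H := N)
        have hLR : Subgroup.normalClosure ({x'} : Set N) ≤ R := hRmax _ inferInstance hL
        have hTn : (R.map N.subtype).Normal := by
          constructor
          intro t ht g
          obtain ⟨u, hu, rfl⟩ := ht
          let φ : N ≃* N := MulAut.conjNormal g
          have h1 : R.map φ.toMonoidHom ≤ R := by
            refine hRmax _ (hRn.map _ φ.surjective) ?_
            exact Group.isSolvable_of_surjective (f := φ.toMonoidHom.subgroupMap R)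
              (MonoidHom.subgroupMap_surjective _ _)
          refine ⟨φ u, h1 (Subgroup.mem_map_of_mem _ hu), ?_⟩
          simp [φ]
        have hxT : x ∈ R.map N.subtype :=
          ⟨x', hLR (Subgroup.subset_normalClosure (Set.mem_singleton x')), rfl⟩
        have hNT : N ≤ R.map N.subtype := by
          apply Subgroup.normalClosure_le_normal
          intro z hz
          rw [Set.mem_singleton_iff] at hz
          rw [hz]
          exact hxT
        have hRtop : R = ⊤ := by
          rw [eq_top_iff]
          intro z _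
          obtain ⟨u, hu, huz⟩ := hNT z.2
          have : u = z := Subtype.ext huz
          rwa [← this]
        rw [hRtop] at hRs
        exact Group.isSolvable_of_surjective
          (f := (Subgroup.topEquiv : (⊤ : Subgroup N) ≃* N).toMonoidHom)
          (Subgroup.topEquiv.surjective)
    · -- composite order
      have hm0 : 0 < m := by rw [← hxm]; exact orderOf_pos x
      have hm1 : m ≠ 1 := by
        intro h
        exact hpp ⟨2, 0, Nat.prime_two, by rw [hxm, h, pow_zero]⟩
      have hqp : (m.minFac).Prime := Nat.minFac_prime hm1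
      obtain ⟨e, m', hm', hmm⟩ := Nat.exists_eq_pow_mul_and_not_dvd hm0.ne' m.minFac hqp.ne_one
      have he : e ≠ 0 := by
        intro h
        rw [h, pow_zero, one_mul] at hmm
        exact hm' (hmm ▸ Nat.minFac_dvd m)
      have hm'1 : m' ≠ 1 := by
        intro h
        rw [h, mul_one] at hmm
        exact hpp ⟨m.minFac, e, hqp, by rw [hxm]; exact hmm⟩
      have hcop : Nat.Coprime (m.minFac ^ e) m' :=
        Nat.Coprime.pow_left e ((Nat.Prime.coprime_iff_not_dvd hqp).mpr hm')
      have ha1 : 1 < m.minFac ^ e := Nat.one_lt_pow he hqp.one_lt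
      have hm'0 : 0 < m' := by
        rcases Nat.eq_zero_or_pos m' with h | h
        · rw [h, mul_zero] at hmm; omega
        · exact h
      have hb1 : 1 < m' := by omega
      have hoa : orderOf (x ^ (m.minFac ^ e)) = m' := by
        rw [orderOf_pow_of_dvd (by omega) (by rw [hxm]; exact ⟨m', hmm⟩), hxm]
        exact Nat.div_eq_of_eq_mul_left (by omega) (by rw [mul_comm]; exact hmm)
      have hob : orderOf (x ^ m') = m.minFac ^ e := by
        rw [orderOf_pow_of_dvd (by omega) (by rw [hxm]; exact ⟨m.minFac ^ e, by rw [mul_comm]; exact hmm⟩), hxm]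
        exact Nat.div_eq_of_eq_mul_left hm'0 hmm
      have hlt1 : m' < m := by
        calc m' = 1 * m' := (one_mul _).symm
          _ < m.minFac ^ e * m' := Nat.mul_lt_mul_of_pos_right ha1 hm'0
          _ = m := hmm.symm
      have hlt2 : m.minFac ^ e < m := by
        calc m.minFac ^ e = m.minFac ^ e * 1 := (mul_one _).symm
          _ < m.minFac ^ e * m' := Nat.mul_lt_mul_of_pos_left hb1 (by omega)
          _ = m := hmm.symm
      have hcent : ∀ i : ℕ, ∃ j, (Subgroup.centralizer ({x ^ i} : Set G)).index = p ^ j := by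
        intro i
        have hle : Subgroup.centralizer ({x} : Set G) ≤ Subgroup.centralizer ({x ^ i} : Set G) := by
          intro z hz
          rw [Subgroup.mem_centralizer_singleton_iff] at hz ⊢
          have hc : Commute z x := hz
          exact (hc.pow_right i).eq
        have h1 := Subgroup.index_dvd_of_le hle
        rw [hclass] at h1
        obtain ⟨j, _, hj⟩ := (Nat.dvd_prime_pow hp).mp h1
        exact ⟨j, hj⟩
      obtain ⟨j1, hj1⟩ := hcent (m.minFac ^ e)
      obtain ⟨j2, hj2⟩ := hcent m'
      have hs1 := ihm m' hlt1 (x ^ (m.minFac ^ e)) hoa p j1 hp hj1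
      have hs2 := ihm (m.minFac ^ e) hlt2 (x ^ m') hob p j2 hp hj2
      have h1R : x ^ (m.minFac ^ e) ∈ RG :=
        hRGmax _ inferInstance hs1 (Subgroup.subset_normalClosure (Set.mem_singleton _))
      have h2R : x ^ m' ∈ RG :=
        hRGmax _ inferInstance hs2 (Subgroup.subset_normalClosure (Set.mem_singleton _))
      have hxR : x ∈ RG := by
        have hb := Nat.gcd_eq_gcd_ab (m.minFac ^ e) m'
        rw [hcop] at hb
        have h3 : x = (x ^ (m.minFac ^ e)) ^ (Nat.gcdA (m.minFac ^ e) m') *
            (x ^ m') ^ (Nat.gcdB (m.minFac ^ e) m') := by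
          rw [← zpow_natCast x (m.minFac ^ e), ← zpow_natCast x m', ← zpow_mul, ← zpow_mul,
            ← zpow_add, ← hb]
          simp
        rw [h3]
        exact RG.mul_mem (RG.zpow_mem h1R _) (RG.zpow_mem h2R _)
      have hle : Subgroup.normalClosure ({x} : Set G) ≤ RG := by
        apply Subgroup.normalClosure_le_normal
        intro z hz
        rw [Set.mem_singleton_iff] at hz
        rw [hz]
        exact hxR
      exact Group.isSolvable_of_isSolvable_injective (f := Subgroup.inclusion hle)
        (Subgroup.inclusion_injective hle)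
  intro x p k hp hclass
  exact inner _ x rfl p k hp hclass

end main

theorem ncard_carrier_eq_index {G : Type*} [Group G] (x : G) :
    (ConjClasses.mk x).carrier.ncard = (Subgroup.centralizer ({x} : Set G)).index := by
  have h1 : (Subgroup.centralizer ({x} : Set G)).index =
      (MulAction.stabilizer (ConjAct G) x).index := by
    rw [Subgroup.centralizer_eq_comap_stabilizer]
    exact Subgroup.index_comap_of_surjective _ (MulEquiv.surjective _)
  rw [h1, MulAction.index_stabilizer, ConjAct.orbit_eq_carrier_conjClasses]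

/-- If an element x of a finite group G has a conjugacy class of prime-power size, then the normal closure of x in G (the subgroup generated by the conjugacy class of x) is solvable. -/
theorem result {G : Type*} [Group G] [Finite G]
    (x : G) {p : ℕ} (hp : p.Prime) (k : ℕ) (hx : (ConjClasses.mk x).carrier.ncard = p ^ k) :
    Group.IsSolvable ↥(Subgroup.normalClosure ({x} : Set G)) := by
  rw [ncard_carrier_eq_index] at hx
  exact main _ G rfl x p k hp hx

end Cfsg.Agent.S4037
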