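import Cfsg.Statements.S4039
import Cfsg.Agent.S1946
import Cfsg.Agent.Lib.Helper32_Nilpotent
import Cfsg.Agent.Lib.Helper1_Coprime
import Cfsg.Agent.Lib.Helper1_Transport
import Cfsg.Agent.Lib.Helper33_Alperin

set_option autoImplicit false
open Cfsg

namespace Cfsg.Agent.S4039

open Cfsg.Agent.Lib.Helper35_FrobeniusNPC

universe u

/-- in a group of class at most two, commutators are central -/
theorem class2 {M : Type*} [Group M] [Group.IsNilpotent M] (hcl : Group.nilpotencyClass M ≤ 2)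
    (a b c : M) : (a * b * a⁻¹ * b⁻¹) * c = c * (a * b * a⁻¹ * b⁻¹) := by
  have h2 : Subgroup.upperCentralSeries M 2 = ⊤ :=
    Subgroup.upperCentralSeries_eq_top_iff_nilpotencyClass_le.mpr hcl
  have ha : a ∈ Subgroup.upperCentralSeries M (1 + 1) := by rw [h2]; trivial
  rw [Subgroup.mem_upperCentralSeries_succ_iff] at ha
  have := ha b
  rw [Subgroup.upperCentralSeries_one, Subgroup.mem_center_iff, commutatorElement_def] at this
  exact (this c).symm

/-- In the core-free case the Sylow `p`-subgroup of `M` is a Sylow `p`-subgroup of `G`, with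
normalizer `M`. -/
theorem coreFree_sylow {G : Type u} [Group G] [Finite G] (M : Subgroup G) (hmax : IsCoatom M)
    (hnil : Group.IsNilpotent M) (hcore : ∀ N : Subgroup G, N.Normal → N ≤ M → N = ⊥)
    (p : ℕ) [hp : Fact p.Prime] (hpM : p ∣ Nat.card M) :
    ∃ S : Sylow p G, (S : Subgroup G) ≤ M ∧ (S : Subgroup G) ≠ ⊥ ∧
      Subgroup.normalizer ((S : Subgroup G) : Set G) = M ∧
      (∀ C : Subgroup G, C ≤ S → C ≠ ⊥ → M ≤ Subgroup.normalizer (C : Set G) →
        Subgroup.normalizer (C : Set G) = M) ∧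
      (Nat.card G).factorization p = (Nat.card M).factorization p ∧
      (∀ x ∈ M, (∃ k : ℕ, x ^ p ^ k = 1) → x ∈ (S : Subgroup G)) := by
  obtain ⟨PM⟩ : Nonempty (Sylow p M) := inferInstance
  have hPMn : (PM : Subgroup M).Normal := inferInstance
  set P : Subgroup G := (PM : Subgroup M).map M.subtype with hP
  have hPM : P ≤ M := Subgroup.map_subtype_le _
  have hPp : IsPGroup p P := PM.2.map _
  have hPne : P ≠ ⊥ := by
    intro h
    have h1 : (PM : Subgroup M) ≠ ⊥ := PM.ne_bot_of_dvd_card hpM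
    exact h1 ((Subgroup.map_eq_bot_iff_of_injective _ M.subtype_injective).mp h)
  -- `M` normalizes `P`
  have hMNP : M ≤ Subgroup.normalizer (P : Set G) := by
    intro m hm
    have h1 : (⟨m, hm⟩ : M) ∈ Subgroup.normalizer ((PM : Subgroup M) : Set M) := by
      rw [Subgroup.normalizer_eq_top_iff.mpr hPMn]; trivial
    exact Subgroup.le_normalizer_map M.subtype ⟨⟨m, hm⟩, h1, rfl⟩
  -- normalizers of nontrivial subgroups of `P` normalized by `M` equal `M`
  have hnorm : ∀ C : Subgroup G, C ≤ P → C ≠ ⊥ → M ≤ Subgroup.normalizer (C : Set G) →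
      Subgroup.normalizer (C : Set G) = M := by
    intro C hCP hCne hMC
    rcases eq_or_lt_of_le hMC with h | h
    · exact h.symm
    · exfalso
      have htop := hmax.2 _ h
      have hCn : C.Normal := Subgroup.normalizer_eq_top_iff.mp htop
      exact hCne (hcore C hCn (hCP.trans hPM))
  have hNP : Subgroup.normalizer (P : Set G) = M := hnorm P le_rfl hPne hMNP
  -- `P` is a Sylow subgroup of `G`
  obtain ⟨S, hS⟩ := hPp.exists_le_sylow
  have hSP : (S : Subgroup G) = P := by
    rcases eq_or_lt_of_le hS with h | h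
    · exact h.symm
    · exfalso
      have h1 := Cfsg.Agent.Lib.Helper33_Alperin.lt_inf_normalizer S.2 h
      rw [hNP] at h1
      -- `S ⊓ M` is a `p`-subgroup of `M` containing `P`
      set Q : Subgroup M := ((S : Subgroup G) ⊓ M).subgroupOf M with hQ
      have hQp : IsPGroup p Q := (S.2.to_le inf_le_left).comap_subtype
      have hPQ : (PM : Subgroup M) ≤ Q := by
        intro x hx
        rw [hQ, Subgroup.mem_subgroupOf]
        exact h1.le ⟨x, hx, rfl⟩
      have hEq : Q = (PM : Subgroup M) := PM.is_maximal' hQp hPQ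
      apply h1.ne
      apply le_antisymm h1.le
      intro x hx
      have hxM : x ∈ M := hx.2
      have : (⟨x, hxM⟩ : M) ∈ Q := by
        rw [hQ, Subgroup.mem_subgroupOf]; exact hx
      rw [hEq] at this
      exact ⟨⟨x, hxM⟩, this, rfl⟩
  refine ⟨S, hSP ▸ hPM, hSP ▸ hPne, hSP ▸ hNP, ?_, ?_, ?_⟩
  · intro C hC
    exact hnorm C (hSP ▸ hC)
  · have h1 : Nat.card (S : Subgroup G) = p ^ (Nat.card G).factorization p :=
      S.card_eq_multiplicity
    have h2 : Nat.card (PM : Subgroup M) = p ^ (Nat.card M).factorization p :=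
      PM.card_eq_multiplicity
    have h3 : Nat.card P = Nat.card (PM : Subgroup M) :=
      Subgroup.card_map_of_injective M.subtype_injective
    rw [hSP, h3, h2] at h1
    exact (Nat.pow_right_injective hp.out.two_le h1).symm
  · rintro x hxM ⟨k, hk⟩
    rw [hSP]
    have hpg : IsPGroup p (Subgroup.zpowers (⟨x, hxM⟩ : M)) := by
      have hx1 : (⟨x, hxM⟩ : M) ^ p ^ k = 1 := Subtype.ext (by simpa using hk)
      rintro ⟨y, hy⟩
      obtain ⟨n, rfl⟩ := Subgroup.mem_zpowers_iff.mp hy
      refine ⟨k, Subtype.ext ?_⟩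
      show ((⟨x, hxM⟩ : M) ^ n) ^ p ^ k = 1
      rw [← zpow_natCast, ← zpow_mul, mul_comm, zpow_mul, zpow_natCast, hx1, one_zpow]
    obtain ⟨Q, hQ⟩ := hpg.exists_le_sylow
    obtain ⟨u, hu⟩ := MulAction.exists_smul_eq M PM Q
    rw [Sylow.smul_eq_of_normal] at hu
    exact ⟨⟨x, hxM⟩, hu ▸ hQ (Subgroup.mem_zpowers _), rfl⟩

/-- Bezout decomposition of an element into its `p`-part and its `p'`-part. -/
theorem exists_decomp {G : Type u} [Group G] [Finite G] (p : ℕ) [hp : Fact p.Prime] (m : G) :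
    ∃ (u c : G) (k t : ℕ), u ∈ Subgroup.zpowers m ∧ c ∈ Subgroup.zpowers m ∧ m = u * c ∧
      u ^ p ^ k = 1 ∧ c ^ t = 1 ∧ t.Coprime p := by
  obtain ⟨k, t, hpt, hn⟩ :=
    Nat.exists_eq_pow_mul_and_not_dvd (orderOf_pos m).ne' p hp.out.ne_one
  have hcop : (p ^ k).Coprime t :=
    Nat.Coprime.pow_left k ((Nat.Prime.coprime_iff_not_dvd hp.out).mpr hpt)
  have hbez := Int.gcd_eq_gcd_ab ((p ^ k : ℕ) : ℤ) (t : ℤ)
  rw [Int.gcd_natCast_natCast, hcop] at hbez
  set A := Int.gcdA ((p ^ k : ℕ) : ℤ) (t : ℤ) with hA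
  set B := Int.gcdB ((p ^ k : ℕ) : ℤ) (t : ℤ) with hB
  have hmn : m ^ (p ^ k * t) = 1 := by rw [← hn]; exact pow_orderOf_eq_one m
  refine ⟨m ^ ((t : ℤ) * B), m ^ (((p ^ k : ℕ) : ℤ) * A), k, t, ⟨_, rfl⟩, ⟨_, rfl⟩, ?_, ?_, ?_,
    (Nat.Coprime.symm ((Nat.Prime.coprime_iff_not_dvd hp.out).mpr hpt))⟩
  · rw [← zpow_add, add_comm, ← hbez]; simp
  · rw [← zpow_natCast, ← zpow_mul]
    have : (t : ℤ) * B * ((p ^ k : ℕ) : ℤ) = ((p ^ k * t : ℕ) : ℤ) * B := by push_cast; ring
    rw [this, zpow_mul, zpow_natCast, hmn, one_zpow]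
  · rw [← zpow_natCast, ← zpow_mul]
    have : ((p ^ k : ℕ) : ℤ) * A * (t : ℤ) = ((p ^ k * t : ℕ) : ℤ) * A := by push_cast; ring
    rw [this, zpow_mul, zpow_natCast, hmn, one_zpow]

/-- In the core-free case, `G` has a normal `p`-complement for every prime `p` dividing `#M`,
and the Sylow `p`-subgroups of `M` are Sylow in `G`. -/
theorem hasNPC_of_coreFree {G : Type u} [Group G] [Finite G] (M : Subgroup G) (hmax : IsCoatom M)
    (hnil : Group.IsNilpotent M) (hcl : Group.nilpotencyClass ↥M ≤ 2)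
    (hcore : ∀ N : Subgroup G, N.Normal → N ≤ M → N = ⊥)
    (p : ℕ) [hp : Fact p.Prime] (hpM : p ∣ Nat.card M) :
    HasNPC p G ∧ (Nat.card G).factorization p = (Nat.card M).factorization p := by
  obtain ⟨S, hSM, hSne, hNS, hnorm, hfac, hpel⟩ := coreFree_sylow M hmax hnil hcore p hpM
  refine ⟨?_, hfac⟩
  -- class two inside `S`
  have hcl2 : ∀ u ∈ (S : Subgroup G), ∀ v ∈ (S : Subgroup G), ∀ w ∈ (S : Subgroup G),
      (u * v * u⁻¹ * v⁻¹) * w = w * (u * v * u⁻¹ * v⁻¹) := by
    intro u hu v hv w hw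
    have := class2 hcl ⟨u, hSM hu⟩ ⟨v, hSM hv⟩ ⟨w, hSM hw⟩
    simpa using congrArg Subtype.val this
  set Z : Subgroup G := (S : Subgroup G) ⊓ Subgroup.centralizer ((S : Subgroup G) : Set G) with hZ
  have hZS : Z ≤ S := inf_le_left
  have hZc : ∀ z ∈ Z, ∀ s ∈ (S : Subgroup G), s * z = z * s := fun z hz s hs =>
    Subgroup.mem_centralizer_iff.mp hz.2 s hs
  have hcomm_mem : ∀ u ∈ (S : Subgroup G), ∀ v ∈ (S : Subgroup G), u * v * u⁻¹ * v⁻¹ ∈ Z := by
    intro u hu v hv
    refine Subgroup.mem_inf.mpr ⟨(S : Subgroup G).mul_mem ((S : Subgroup G).mul_mem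
      ((S : Subgroup G).mul_mem hu hv) ((S : Subgroup G).inv_mem hu)) ((S : Subgroup G).inv_mem hv), ?_⟩
    rw [Subgroup.mem_centralizer_iff]
    intro w hw
    exact (hcl2 u hu v hv w hw).symm
  have hZne : Z ≠ ⊥ := by
    have : Nontrivial (S : Subgroup G) := by
      rw [Subgroup.nontrivial_iff_ne_bot]; exact hSne
    have := IsPGroup.center_nontrivial (S.2)
    obtain ⟨z, hz⟩ := exists_ne (1 : Subgroup.center (S : Subgroup G))
    intro hbot
    apply hz
    have hzZ : ((z : (S : Subgroup G)) : G) ∈ Z := by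
      refine Subgroup.mem_inf.mpr ⟨(z : (S : Subgroup G)).2, ?_⟩
      rw [Subgroup.mem_centralizer_iff]
      intro w hw
      have := Subgroup.mem_center_iff.mp z.2 ⟨w, hw⟩
      simpa using congrArg Subtype.val this
    rw [hbot, Subgroup.mem_bot] at hzZ
    apply Subtype.ext
    apply Subtype.ext
    simpa using hzZ
  -- every element of `M` is a product of an element of `S` and an element centralizing `S`
  have hdec : ∀ m ∈ M, ∃ u ∈ (S : Subgroup G), ∃ c ∈ Subgroup.centralizer ((S : Subgroup G) : Set G),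
      m = u * c := by
    intro m hm
    obtain ⟨u, c, k, t, hu, hc, hmuc, huk, hct, hcop⟩ := exists_decomp p m
    have hzM : Subgroup.zpowers m ≤ M := by
      rw [Subgroup.zpowers_le]; exact hm
    refine ⟨u, hpel u (hzM hu) ⟨k, huk⟩, c, ?_, hmuc⟩
    rw [Subgroup.mem_centralizer_iff]
    intro s hs
    obtain ⟨e, he⟩ := S.2 ⟨s, hs⟩
    have he' : s ^ p ^ e = 1 := by simpa using congrArg Subtype.val he
    have h1 : (⟨s, hSM hs⟩ : M) ^ p ^ e = 1 := Subtype.ext (by simpa using he')
    have h2 : (⟨c, hzM hc⟩ : M) ^ t = 1 := Subtype.ext (by simpa using hct)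
    have h3 := Cfsg.Agent.Lib.Helper32_Nilpotent.commute_of_coprime_pow_eq_one M
      ⟨s, hSM hs⟩ ⟨c, hzM hc⟩ (p ^ e) t h1 h2 (Nat.Coprime.pow_left e hcop.symm)
    simpa using congrArg Subtype.val h3.eq
  -- `M` normalizes every subgroup between `Z` and `S`
  have hMF : ∀ F : Subgroup G, F ≤ S → Z ≤ F → M ≤ Subgroup.normalizer (F : Set G) := by
    intro F hFS hZF m hm
    obtain ⟨u, hu, c, hc, rfl⟩ := hdec m hm
    apply Subgroup.mem_normalizer_fintype
    intro f hf
    have h1 : c * f = f * c := (Subgroup.mem_centralizer_iff.mp hc f (hFS hf)).symm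
    have h2 : (u * c) * f * (u * c)⁻¹ = (u * f * u⁻¹ * f⁻¹) * f := by
      calc (u * c) * f * (u * c)⁻¹ = u * (c * f) * c⁻¹ * u⁻¹ := by group
        _ = u * (f * c) * c⁻¹ * u⁻¹ := by rw [h1]
        _ = (u * f * u⁻¹ * f⁻¹) * f := by group
    rw [h2]
    exact F.mul_mem (hZF (hcomm_mem u hu f (hFS hf))) hf
  have hNZ : Subgroup.normalizer (Z : Set G) = M := hnorm Z hZS hZne (hMF Z hZS le_rfl)
  have hppow : ∀ s ∈ (S : Subgroup G), ∀ g : G, ∃ k : ℕ, (g * s * g⁻¹) ^ p ^ k = 1 := by
    intro s hs g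
    obtain ⟨k, hk⟩ := S.2 ⟨s, hs⟩
    have hk' : s ^ p ^ k = 1 := by simpa using congrArg Subtype.val hk
    exact ⟨k, by rw [conj_pow, hk']; group⟩
  -- a Sylow subgroup containing `Z` is `S`
  have key : ∀ g : G, (∀ z ∈ Z, g⁻¹ * z * g ∈ (S : Subgroup G)) → g ∈ M := by
    intro g hg
    set Z1 : Subgroup G := Z.map (MulAut.conj g).toMonoidHom with hZ1
    have hZ1mem : ∀ z ∈ Z, g * z * g⁻¹ ∈ Z1 := fun z hz => ⟨z, hz, by simp [MulAut.conj_apply]⟩
    have hZ1M : Z1 ≤ M := by
      rw [← hNZ]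
      refine le_trans ?_ (Subgroup.centralizer_le_normalizer _)
      rintro _ ⟨z, hz, rfl⟩
      rw [Subgroup.mem_centralizer_iff]
      intro z' hz'
      have h := hZc z hz (g⁻¹ * z' * g) (hg z' hz')
      simp only [MulEquiv.coe_toMonoidHom, MulAut.conj_apply]
      calc z' * (g * z * g⁻¹) = g * ((g⁻¹ * z' * g) * z) * g⁻¹ := by group
        _ = g * (z * (g⁻¹ * z' * g)) * g⁻¹ := by rw [h]
        _ = g * z * g⁻¹ * z' := by group
    have hZ1S : Z1 ≤ S := by
      intro x hx
      have hxM := hZ1M hx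
      obtain ⟨z, hz, rfl⟩ := hx
      apply hpel _ hxM
      simp only [MulEquiv.coe_toMonoidHom, MulAut.conj_apply]
      exact hppow z (hZS hz) g
    set F : Subgroup G := Z ⊔ Z1 with hF
    have hFS : F ≤ S := sup_le hZS hZ1S
    have hFne : F ≠ ⊥ := by
      intro h
      apply hZne
      rw [eq_bot_iff, ← h]
      exact le_sup_left
    have hNF : Subgroup.normalizer (F : Set G) = M := hnorm F hFS hFne (hMF F hFS le_sup_left)
    have hconjN : ∀ s ∈ (S : Subgroup G), g * s * g⁻¹ ∈ Subgroup.normalizer (F : Set G) := by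
      intro s hs
      apply Subgroup.mem_normalizer_fintype
      have hmap : F.map (MulAut.conj (g * s * g⁻¹)).toMonoidHom ≤ F := by
        rw [hF, Subgroup.map_sup]
        apply sup_le
        · rintro _ ⟨z, hz, rfl⟩
          simp only [MulEquiv.coe_toMonoidHom, MulAut.conj_apply]
          have hz' := hg z hz
          have h1 : (g * s * g⁻¹) * z * (g * s * g⁻¹)⁻¹ =
              (g * (s * (g⁻¹ * z * g) * s⁻¹ * (g⁻¹ * z * g)⁻¹) * g⁻¹) * z := by group
          rw [h1]
          exact (Z ⊔ Z1).mul_mem (Subgroup.mem_sup_right (hZ1mem _ (hcomm_mem s hs _ hz')))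
            (Subgroup.mem_sup_left hz)
        · rintro _ ⟨_, ⟨z, hz, rfl⟩, rfl⟩
          simp only [MulEquiv.coe_toMonoidHom, MulAut.conj_apply]
          have h1 : (g * s * g⁻¹) * (g * z * g⁻¹) * (g * s * g⁻¹)⁻¹ = g * (s * z * s⁻¹) * g⁻¹ := by
            group
          have h2 : s * z * s⁻¹ = z := by rw [hZc z hz s hs]; group
          rw [h1, h2]
          exact Subgroup.mem_sup_right (hZ1mem z hz)
      intro f hf
      exact hmap ⟨f, hf, by simp only [MulEquiv.coe_toMonoidHom, MulAut.conj_apply]⟩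
    have hconjS : ∀ s ∈ (S : Subgroup G), g * s * g⁻¹ ∈ (S : Subgroup G) := by
      intro s hs
      have hM : g * s * g⁻¹ ∈ M := hNF ▸ hconjN s hs
      exact hpel _ hM (hppow s hs g)
    rw [← hNS]
    exact Subgroup.mem_normalizer_fintype hconjS
  -- control of fusion
  rw [← Cfsg.Agent.S0072.hasNPC_iff, Cfsg.Agent.S1946.result S]
  intro a ha _ g hga
  set y := g * a * g⁻¹ with hy
  set C : Subgroup G := Subgroup.centralizer ({y} : Set G) with hC
  have hZC : Z ≤ C := by
    intro z hz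
    rw [Subgroup.mem_centralizer_iff]
    intro w hw
    rw [Set.mem_singleton_iff] at hw
    subst hw
    exact hZc z hz _ hga
  have hZ1C : Z.map (MulAut.conj g).toMonoidHom ≤ C := by
    rintro _ ⟨z, hz, rfl⟩
    rw [Subgroup.mem_centralizer_iff]
    intro w hw
    rw [Set.mem_singleton_iff] at hw
    subst hw
    simp only [MulEquiv.coe_toMonoidHom, MulAut.conj_apply]
    have h := hZc z hz a ha
    calc g * a * g⁻¹ * (g * z * g⁻¹) = g * (a * z) * g⁻¹ := by group
      _ = g * (z * a) * g⁻¹ := by rw [h]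
      _ = g * z * g⁻¹ * (g * a * g⁻¹) := by group
  have hZp : IsPGroup p Z := S.2.to_le hZS
  obtain ⟨R, hR⟩ := (hZp.comap_subtype (K := C)).exists_le_sylow
  have hZ1p : IsPGroup p (Z.map (MulAut.conj g).toMonoidHom) := hZp.map _
  obtain ⟨R', hR'⟩ := (hZ1p.comap_subtype (K := C)).exists_le_sylow
  obtain ⟨c, hc⟩ := MulAction.exists_smul_eq C R R'
  -- `R`, as a subgroup of `G`, lies in `S`
  have hRS : (R : Subgroup C).map C.subtype ≤ S := by
    have hRp : IsPGroup p ((R : Subgroup C).map C.subtype) := R.2.map _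
    obtain ⟨T, hT⟩ := hRp.exists_le_sylow
    obtain ⟨h, hh⟩ := MulAction.exists_smul_eq G S T
    have hhM : h ∈ M := by
      apply key
      intro z hz
      have hzR : z ∈ (R : Subgroup C).map C.subtype :=
        ⟨⟨z, hZC hz⟩, hR (Subgroup.mem_subgroupOf.mpr hz), rfl⟩
      have hzT : z ∈ (T : Subgroup G) := hT hzR
      rw [← hh, Sylow.coe_subgroup_smul, mem_conj_smul] at hzT
      exact hzT
    have hST : T = S := by
      rw [← hh, Sylow.smul_eq_iff_mem_normalizer]
      show h ∈ Subgroup.normalizer ((S : Subgroup G) : Set G)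
      rw [hNS]
      exact hhM
    rw [← hST]
    exact hT
  have hg' : ∀ z ∈ Z, ((c : G)⁻¹ * g) * z * ((c : G)⁻¹ * g)⁻¹ ∈ (S : Subgroup G) := by
    intro z hz
    have hmemC : g * z * g⁻¹ ∈ C := hZ1C ⟨z, hz, by simp [MulAut.conj_apply]⟩
    have h1 : (⟨g * z * g⁻¹, hmemC⟩ : C) ∈ (R' : Subgroup C) := by
      apply hR'
      rw [Subgroup.mem_comap]
      exact ⟨z, hz, by simp [MulAut.conj_apply]⟩
    rw [← hc, Sylow.coe_subgroup_smul, mem_conj_smul] at h1
    have h2 := hRS ⟨_, h1, rfl⟩
    have h3 : ((c : G)⁻¹ * g) * z * ((c : G)⁻¹ * g)⁻¹ = (c : G)⁻¹ * (g * z * g⁻¹) * c := by group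
    rw [h3]
    simpa using h2
  have hm : (c : G)⁻¹ * g ∈ M := by
    have := key ((c : G)⁻¹ * g)⁻¹ (by
      intro z hz
      simpa using hg' z hz)
    exact (M.inv_mem_iff).mp this
  obtain ⟨u, hu, c', hc', hmuc⟩ := hdec _ hm
  refine ⟨u, hu, ?_⟩
  have hcy : y * (c : G) = c * y := by
    have : (c : G) ∈ Subgroup.centralizer ({y} : Set G) := c.2
    rw [Subgroup.mem_centralizer_iff] at this
    exact this y rfl
  have h3 : y = ((c : G)⁻¹ * g) * a * ((c : G)⁻¹ * g)⁻¹ := by
    calc y = (c : G)⁻¹ * (c * y) := by group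
      _ = (c : G)⁻¹ * (y * c) := by rw [hcy]
      _ = ((c : G)⁻¹ * g) * a * ((c : G)⁻¹ * g)⁻¹ := by rw [hy]; group
  have h4 : c' * a = a * c' := (Subgroup.mem_centralizer_iff.mp hc' a ha).symm
  rw [h3, hmuc]
  calc (u * c') * a * (u * c')⁻¹ = u * (c' * a) * c'⁻¹ * u⁻¹ := by group
    _ = u * (a * c') * c'⁻¹ * u⁻¹ := by rw [h4]
    _ = u * a * u⁻¹ := by group

/-- the induction (assembly adapted from helper72's S4040) -/
theorem main : ∀ n : ℕ, ∀ (G : Type u) [Group G] [Finite G], Nat.card G = n →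
    ∀ M : Subgroup G, IsCoatom M → Group.IsNilpotent M → Group.nilpotencyClass ↥M ≤ 2 →
    Group.IsSolvable G := by
  intro n
  induction n using Nat.strong_induction_on with
  | _ n ih =>
  intro G _ _ hcard M hmax hnil hcl
  have hMsolv : Group.IsSolvable M := inferInstance
  by_cases hcore : ∀ N : Subgroup G, N.Normal → N ≤ M → N = ⊥
  swap
  · -- a nontrivial normal subgroup inside `M`
    push Not at hcore
    obtain ⟨N, hNn, hNM, hNne⟩ := hcore
    have hπ : Function.Surjective (QuotientGroup.mk' N) := QuotientGroup.mk'_surjective N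
    have hcardq : Nat.card (G ⧸ N) < Nat.card G := by
      have h1 := Cfsg.Agent.Lib.Helper1_Transport.card_quotient_mul_card N
      have h2 : 1 < Nat.card N := by
        rcases Nat.lt_or_ge 1 (Nat.card N) with h | h
        · exact h
        · exfalso
          apply hNne
          apply Subgroup.card_eq_one.mp
          have : 0 < Nat.card N := Nat.card_pos
          omega
      have h3 : 0 < Nat.card (G ⧸ N) := Nat.card_pos
      nlinarith
    set Mbar := M.map (QuotientGroup.mk' N) with hMbar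
    have hcomap : Mbar.comap (QuotientGroup.mk' N) = M := by
      rw [hMbar, Subgroup.comap_map_eq, QuotientGroup.ker_mk', sup_eq_left.mpr hNM]
    have hMbarco : IsCoatom Mbar := by
      constructor
      · intro h
        apply hmax.1
        rw [← hcomap, h, Subgroup.comap_top]
      · intro B hB
        have h1 : M < B.comap (QuotientGroup.mk' N) := by
          rw [← hcomap]
          refine lt_of_le_of_ne (Subgroup.comap_mono hB.le) ?_
          intro h
          apply hB.ne
          rw [← Subgroup.map_comap_eq_self_of_surjective hπ Mbar,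
            ← Subgroup.map_comap_eq_self_of_surjective hπ B, h]
        have h2 := hmax.2 _ h1
        rw [← Subgroup.map_comap_eq_self_of_surjective hπ B, h2,
          Subgroup.map_top_of_surjective _ hπ]
    have hMbarnil : Group.IsNilpotent Mbar :=
      Group.nilpotent_of_surjective ((QuotientGroup.mk' N).subgroupMap M)
        ((QuotientGroup.mk' N).subgroupMap_surjective M)
    have hMbarcl : Group.nilpotencyClass ↥Mbar ≤ 2 :=
      le_trans (Group.nilpotencyClass_le_of_surjective ((QuotientGroup.mk' N).subgroupMap M)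
        ((QuotientGroup.mk' N).subgroupMap_surjective M)) hcl
    have hq : Group.IsSolvable (G ⧸ N) :=
      ih _ (hcard ▸ hcardq) (G ⧸ N) rfl Mbar hMbarco hMbarnil hMbarcl
    have hNs : Group.IsSolvable N := Cfsg.Agent.Lib.Helper1_Coprime.isSolvable_of_le hNM hMsolv
    exact Group.isSolvable_of_ker_le_range N.subtype (QuotientGroup.mk' N) (by simp)
  -- core-free case
  by_cases hMbot : M = ⊥
  · -- `G` is cyclic
    apply Group.isSolvable_of_comm
    have hcyc : ∀ g : G, g ≠ 1 → Subgroup.zpowers g = ⊤ := by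
      intro g hg
      apply hmax.2
      rw [hMbot, bot_lt_iff_ne_bot]
      intro h
      exact hg (Subgroup.zpowers_eq_bot.mp h)
    intro a b
    by_cases ha : a = 1
    · rw [ha, one_mul, mul_one]
    · have hb : b ∈ Subgroup.zpowers a := by rw [hcyc a ha]; trivial
      obtain ⟨k, rfl⟩ := Subgroup.mem_zpowers_iff.mp hb
      exact (Commute.zpow_right (Commute.refl a) k).eq
  -- the primes of `M`
  set π := (Nat.card M).primeFactors with hπdef
  have hnpc : ∀ p ∈ π, ∃ Kp : Subgroup G, Kp.Normal ∧ (Nat.card Kp).Coprime p ∧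
      Kp.index = p ^ (Nat.card M).factorization p := by
    intro p hp
    have hpp : p.Prime := Nat.prime_of_mem_primeFactors hp
    have hpd : p ∣ Nat.card M := Nat.dvd_of_mem_primeFactors hp
    have : Fact p.Prime := ⟨hpp⟩
    obtain ⟨⟨Kp, hKn, hKc, m, hKi⟩, hfac⟩ := hasNPC_of_coreFree M hmax hnil hcl hcore p hpd
    refine ⟨Kp, hKn, hKc, ?_⟩
    rw [hKi, ← hfac]
    congr 1
    -- `m = v_p(#G)`
    have h1 : Nat.card G = Nat.card Kp * p ^ m := by
      rw [← hKi, Subgroup.card_mul_index]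
    rw [h1, Nat.factorization_mul Nat.card_pos.ne' (pow_ne_zero _ hpp.ne_zero)]
    simp only [Finsupp.coe_add, Pi.add_apply]
    rw [Nat.factorization_eq_zero_of_not_dvd, hpp.factorization_pow]
    · simp
    · intro hd
      have := Nat.dvd_gcd hd dvd_rfl
      rw [hKc] at this
      exact hpp.one_lt.ne' (Nat.dvd_one.mp this)
  choose Kf hKf using hnpc
  set K : Subgroup G := ⨅ p : π, Kf p.1 p.2 with hK
  have hKn : K.Normal := Subgroup.normal_iInf_normal (fun p => (hKf p.1 p.2).1)
  have hKle : ∀ p (hp : p ∈ π), K ≤ Kf p hp := fun p hp => iInf_le (fun q : π => Kf q.1 q.2) ⟨p, hp⟩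
  have hKcop : (Nat.card K).Coprime (Nat.card M) := by
    apply Nat.Coprime.symm
    apply Nat.coprime_of_dvd
    intro k hk hkM hkK
    have hkπ : k ∈ π := Nat.mem_primeFactors.mpr ⟨hk, hkM, Nat.card_pos.ne'⟩
    have h1 : k ∣ Nat.card (Kf k hkπ) := hkK.trans (Subgroup.card_dvd_of_le (hKle k hkπ))
    have h2 := Nat.dvd_gcd h1 dvd_rfl
    rw [(hKf k hkπ).2.1] at h2
    exact hk.one_lt.ne' (Nat.dvd_one.mp h2)
  have hKM : K ⊓ M = ⊥ := (Subgroup.disjoint_of_coprime_natCard hKcop).eq_bot
  have hKidx : K.index ≤ Nat.card M := by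
    have h1 := Subgroup.index_iInf_le (fun p : π => Kf p.1 p.2)
    have h2 : ∏ p : π, (Kf p.1 p.2).index = ∏ p : π, (p : ℕ) ^ (Nat.card M).factorization p := by
      apply Finset.prod_congr rfl
      intro p _
      exact (hKf p.1 p.2).2.2
    rw [h2, Finset.prod_coe_sort π (fun p => p ^ (Nat.card M).factorization p)] at h1
    have h3 : ∏ p ∈ π, p ^ (Nat.card M).factorization p = Nat.card M := by
      have := Nat.prod_factorization_pow_eq_self (n := Nat.card M) Nat.card_pos.ne'
      rw [Finsupp.prod, Nat.support_factorization] at this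
      exact this
    rw [h3] at h1
    exact h1
  have hKne : K ≠ ⊥ := by
    intro h
    rw [h, Subgroup.index_bot] at hKidx
    exact hmax.1 (Subgroup.eq_top_of_le_card M hKidx)
  have hMK : M ⊔ K = ⊤ := by
    apply hmax.2
    refine lt_of_le_of_ne le_sup_left ?_
    intro h
    have h1 : K ≤ M := by rw [h]; exact le_sup_right
    have h2 : K ≤ K ⊓ M := le_inf le_rfl h1
    rw [hKM] at h2
    exact hKne (le_bot_iff.mp h2)
  -- `K` is a `q`-group
  have hKs : Group.IsSolvable K := by
    have hcardK : Nat.card K ≠ 1 := fun h => hKne (Subgroup.card_eq_one.mp h)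
    obtain ⟨q, hq, hqd⟩ := Nat.exists_prime_and_dvd hcardK
    have : Fact q.Prime := ⟨hq⟩
    have hMNK : M ≤ Subgroup.normalizer (K : Set G) := by
      rw [Subgroup.normalizer_eq_top_iff.mpr hKn]; exact le_top
    obtain ⟨Q, hQ⟩ := Cfsg.Agent.Lib.Helper1_Coprime.exists_invariant_sylow M K hMNK hKcop.symm
      (Or.inl hMsolv) q
    set Q' : Subgroup G := (Q : Subgroup K).map K.subtype with hQ'
    have hQ'K : Q' ≤ K := Subgroup.map_subtype_le _
    have hQ'ne : Q' ≠ ⊥ := by
      intro h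
      have h1 : (Q : Subgroup K) ≠ ⊥ := Q.ne_bot_of_dvd_card hqd
      exact h1 ((Subgroup.map_eq_bot_iff_of_injective _ K.subtype_injective).mp h)
    have hMQ : M ⊔ Q' = ⊤ := by
      apply hmax.2
      refine lt_of_le_of_ne le_sup_left ?_
      intro h
      have h1 : Q' ≤ M := by rw [h]; exact le_sup_right
      have h2 : Q' ≤ K ⊓ M := le_inf hQ'K h1
      rw [hKM] at h2
      exact hQ'ne (le_bot_iff.mp h2)
    have hQ'n : Q'.Normal := by
      rw [← Subgroup.normalizer_eq_top_iff, eq_top_iff, ← hMQ]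
      exact sup_le hQ Subgroup.le_normalizer
    have hKQ : K ≤ Q' := by
      intro k hk
      have hk' : k ∈ (M ⊔ Q' : Subgroup G) := by rw [hMQ]; trivial
      rw [← SetLike.mem_coe, Subgroup.mul_normal] at hk'
      obtain ⟨m, hm, x, hx, rfl⟩ := hk'
      have hmK : m ∈ K := by
        have := K.mul_mem hk (K.inv_mem (hQ'K hx))
        simpa using this
      have : m ∈ K ⊓ M := ⟨hmK, hm⟩
      rw [hKM, Subgroup.mem_bot] at this
      show m * x ∈ Q'
      rw [this, one_mul]
      exact hx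
    have hKq : IsPGroup q K := (Q.2.map K.subtype).to_le hKQ
    have : Group.IsNilpotent K := hKq.isNilpotent
    infer_instance
  have hqs : Group.IsSolvable (G ⧸ K) := by
    let f : M →* G ⧸ K := (QuotientGroup.mk' K).comp M.subtype
    have hf : Function.Surjective f := by
      intro y
      obtain ⟨g, rfl⟩ := QuotientGroup.mk'_surjective K y
      have hg : g ∈ (M ⊔ K : Subgroup G) := by rw [hMK]; trivial
      rw [← SetLike.mem_coe, Subgroup.mul_normal] at hg
      obtain ⟨m, hm, k, hk, rfl⟩ := hg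
      refine ⟨⟨m, hm⟩, ?_⟩
      show QuotientGroup.mk' K m = QuotientGroup.mk' K (m * k)
      rw [map_mul]
      have : QuotientGroup.mk' K k = 1 := by
        rw [← MonoidHom.mem_ker, QuotientGroup.ker_mk']; exact hk
      rw [this, mul_one]
    exact Group.isSolvable_of_surjective hf
  exact Group.isSolvable_of_ker_le_range K.subtype (QuotientGroup.mk' K) (by simp)

/-- A finite group possessing a maximal subgroup that is nilpotent of class at most 2 is solvable. -/
theorem result {G : Type*} [Group G] [Finite G]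
    (M : Subgroup G) (hmax : IsCoatom M) (hnil : Group.IsNilpotent M) (hcl : Group.nilpotencyClass ↥M ≤ 2) :
    Group.IsSolvable G := by
  exact main _ G rfl M hmax hnil hcl

end Cfsg.Agent.S4039
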