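import Cfsg.Statements.S4040
import Cfsg.Agent.S0108
import Cfsg.Agent.S1947
import Cfsg.Agent.Lib.Helper1_Coprime

set_option autoImplicit false
open Cfsg

namespace Cfsg.Agent.S4040

open Cfsg.Agent.Lib.Helper34_NPC Cfsg.Agent.Lib.Helper35_FrobeniusNPC
  Cfsg.Agent.Lib.Helper33_Alperin

universe u

/-- a nilpotent finite group has a normal `p`-complement -/
theorem hasNPC_of_isNilpotent {M : Type*} [Group M] [Finite M] (hM : Group.IsNilpotent M)
    (p : ℕ) [Fact p.Prime] : HasNPC p M := by
  obtain ⟨n, hn⟩ := hM.nilpotent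
  rw [← Cfsg.Agent.S0072.hasNPC_iff]
  apply Cfsg.Agent.S1947.result n
  intro a _
  rw [hn]
  exact Subgroup.mem_top a

/-- In the core-free case, `G` has a normal `p`-complement for every prime `p` dividing `#M`,
and the Sylow `p`-subgroups of `M` are Sylow in `G`. -/
theorem hasNPC_of_coreFree {G : Type u} [Group G] [Finite G] (M : Subgroup G) (hmax : IsCoatom M)
    (hnil : Group.IsNilpotent M) (hodd : Odd (Nat.card M))
    (hcore : ∀ N : Subgroup G, N.Normal → N ≤ M → N = ⊥)
    (p : ℕ) [hp : Fact p.Prime] (hpM : p ∣ Nat.card M) :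
    HasNPC p G ∧ (Nat.card G).factorization p = (Nat.card M).factorization p := by
  have hp2 : p ≠ 2 := by
    rintro rfl
    exact (Nat.not_even_iff_odd.mpr hodd) (even_iff_two_dvd.mpr hpM)
  obtain ⟨PM⟩ : Nonempty (Sylow p M) := inferInstance
  have hPMn : (PM : Subgroup M).Normal := inferInstance
  set P : Subgroup G := (PM : Subgroup M).map M.subtype with hP
  have hPM : P ≤ M := Subgroup.map_subtype_le _
  have hPp : IsPGroup p P := PM.2.map _
  have hPne : P ≠ ⊥ := by
    intro h
    have h1 : (PM : Subgroup M) ≠ ⊥ := PM.ne_bot_of_dvd_card hpM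
    exact h1 ((Subgroup.map_eq_bot_iff_of_injective _ M.subtype_injective).mp h)
  -- `M` normalizes `P`
  have hMNP : M ≤ Subgroup.normalizer (P : Set G) := by
    intro m hm
    have h1 : (⟨m, hm⟩ : M) ∈ Subgroup.normalizer ((PM : Subgroup M) : Set M) := by
      rw [Subgroup.normalizer_eq_top_iff.mpr hPMn]; trivial
    exact Subgroup.le_normalizer_map M.subtype ⟨⟨m, hm⟩, h1, rfl⟩
  -- normalizers of nontrivial subgroups of `P` normalized by `M` equal `M`
  have hnorm : ∀ C : Subgroup G, C ≤ P → C ≠ ⊥ → M ≤ Subgroup.normalizer (C : Set G) →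
      Subgroup.normalizer (C : Set G) = M := by
    intro C hCP hCne hMC
    rcases eq_or_lt_of_le hMC with h | h
    · exact h.symm
    · exfalso
      have htop := hmax.2 _ h
      have hCn : C.Normal := Subgroup.normalizer_eq_top_iff.mp htop
      exact hCne (hcore C hCn (hCP.trans hPM))
  have hNP : Subgroup.normalizer (P : Set G) = M := hnorm P le_rfl hPne hMNP
  -- `P` is a Sylow subgroup of `G`
  obtain ⟨S, hS⟩ := hPp.exists_le_sylow
  have hSP : (S : Subgroup G) = P := by
    rcases eq_or_lt_of_le hS with h | h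
    · exact h.symm
    · exfalso
      have h1 := lt_inf_normalizer S.2 h
      rw [hNP] at h1
      -- `S ⊓ M` is a `p`-subgroup of `M` containing `P`
      set Q : Subgroup M := ((S : Subgroup G) ⊓ M).subgroupOf M with hQ
      have hQp : IsPGroup p Q := (S.2.to_le inf_le_left).comap_subtype
      have hPQ : (PM : Subgroup M) ≤ Q := by
        intro x hx
        rw [hQ, Subgroup.mem_subgroupOf]
        exact h1.le ⟨x, hx, rfl⟩
      have hEq : Q = (PM : Subgroup M) := PM.is_maximal' hQp hPQ
      apply h1.ne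
      apply le_antisymm h1.le
      intro x hx
      have hxM : x ∈ M := hx.2
      have : (⟨x, hxM⟩ : M) ∈ Q := by
        rw [hQ, Subgroup.mem_subgroupOf]; exact hx
      rw [hEq] at this
      exact ⟨⟨x, hxM⟩, this, rfl⟩
  have hMnpc : HasNPC p M := hasNPC_of_isNilpotent hnil p
  -- `N(J(S)) = M`
  have hJ : HasNPC p ↥(Subgroup.normalizer ((Cfsg.thompsonSubgroupOf p (S : Subgroup G) :
      Subgroup G) : Set G)) := by
    have h1 := normalizer_le_normalizer_inducedFunctor
      (Cfsg.Agent.S0108.isCharPFunctor_JF (p := p)) (S : Subgroup G) S.2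
    rw [Cfsg.Agent.S0108.inducedFunctor_JF, hSP, hNP] at h1
    have hSne : (S : Subgroup G) ≠ ⊥ := hSP ▸ hPne
    have h2 : Cfsg.thompsonSubgroupOf p (S : Subgroup G) ≠ ⊥ :=
      inducedFunctor_ne_bot (Cfsg.Agent.S0108.isCharPFunctor_JF (p := p)) S.2 hSne
    have h3 : Cfsg.thompsonSubgroupOf p (S : Subgroup G) ≤ P := by
      rw [← hSP]; exact inducedFunctor_le _ _
    rw [hSP] at h2 h3 ⊢
    have h4 := hnorm _ h3 h2 h1
    exact hasNPC_of_eq h4.symm hMnpc
  have hZ : HasNPC p ↥(Subgroup.centralizer ((((S : Subgroup G) ⊓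
      Subgroup.centralizer ((S : Subgroup G) : Set G)) : Subgroup G) : Set G)) := by
    have h1 := normalizer_le_normalizer_inducedFunctor
      (Cfsg.Agent.S0108.isCharPFunctor_ZF (p := p)) (S : Subgroup G) S.2
    rw [Cfsg.Agent.S0108.inducedFunctor_ZF, hSP, hNP] at h1
    have hSne : (S : Subgroup G) ≠ ⊥ := hSP ▸ hPne
    have h2 : Cfsg.inducedFunctor Cfsg.Agent.S0108.ZF (S : Subgroup G) ≠ ⊥ :=
      inducedFunctor_ne_bot (Cfsg.Agent.S0108.isCharPFunctor_ZF (p := p)) S.2 hSne
    rw [Cfsg.Agent.S0108.inducedFunctor_ZF] at h2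
    have h3 : (S : Subgroup G) ⊓ Subgroup.centralizer ((S : Subgroup G) : Set G) ≤ P := by
      rw [← hSP]; exact inf_le_left
    rw [hSP] at h2 h3 ⊢
    have h4 := hnorm _ h3 h2 h1
    have h5 : HasNPC p ↥(Subgroup.normalizer ((P ⊓ Subgroup.centralizer (P : Set G) :
        Subgroup G) : Set G)) := hasNPC_of_eq h4.symm hMnpc
    exact hasNPC_of_le (Subgroup.centralizer_le_normalizer _) h5
  have hG : HasNPC p G := by
    rw [← Cfsg.Agent.S0072.hasNPC_iff, Cfsg.Agent.S0108.result hp2 S,
      Cfsg.Agent.S0072.hasNPC_iff, Cfsg.Agent.S0072.hasNPC_iff]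
    exact ⟨hJ, hZ⟩
  refine ⟨hG, ?_⟩
  have h1 : Nat.card (S : Subgroup G) = p ^ (Nat.card G).factorization p := S.card_eq_multiplicity
  have h2 : Nat.card (PM : Subgroup M) = p ^ (Nat.card M).factorization p :=
    PM.card_eq_multiplicity
  have h3 : Nat.card P = Nat.card (PM : Subgroup M) :=
    Subgroup.card_map_of_injective M.subtype_injective
  rw [hSP, h3, h2] at h1
  exact (Nat.pow_right_injective hp.out.two_le h1).symm

theorem main : ∀ n : ℕ, ∀ (G : Type u) [Group G] [Finite G], Nat.card G = n →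
    ∀ M : Subgroup G, IsCoatom M → Group.IsNilpotent M → Odd (Nat.card M) →
    Group.IsSolvable G := by
  intro n
  induction n using Nat.strong_induction_on with
  | _ n ih =>
  intro G _ _ hcard M hmax hnil hodd
  have hMsolv : Group.IsSolvable M := inferInstance
  by_cases hcore : ∀ N : Subgroup G, N.Normal → N ≤ M → N = ⊥
  swap
  · -- a nontrivial normal subgroup inside `M`
    push Not at hcore
    obtain ⟨N, hNn, hNM, hNne⟩ := hcore
    have hπ : Function.Surjective (QuotientGroup.mk' N) := QuotientGroup.mk'_surjective N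
    have hcardq : Nat.card (G ⧸ N) < Nat.card G := by
      have h1 := Cfsg.Agent.Lib.Helper1_Transport.card_quotient_mul_card N
      have h2 : 1 < Nat.card N := by
        rcases Nat.lt_or_ge 1 (Nat.card N) with h | h
        · exact h
        · exfalso
          apply hNne
          apply Subgroup.card_eq_one.mp
          have : 0 < Nat.card N := Nat.card_pos
          omega
      have h3 : 0 < Nat.card (G ⧸ N) := Nat.card_pos
      nlinarith
    set Mbar := M.map (QuotientGroup.mk' N) with hMbar
    have hcomap : Mbar.comap (QuotientGroup.mk' N) = M := by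
      rw [hMbar, Subgroup.comap_map_eq, QuotientGroup.ker_mk', sup_eq_left.mpr hNM]
    have hMbarco : IsCoatom Mbar := by
      constructor
      · intro h
        apply hmax.1
        rw [← hcomap, h, Subgroup.comap_top]
      · intro B hB
        have h1 : M < B.comap (QuotientGroup.mk' N) := by
          rw [← hcomap]
          refine lt_of_le_of_ne (Subgroup.comap_mono hB.le) ?_
          intro h
          apply hB.ne
          rw [← Subgroup.map_comap_eq_self_of_surjective hπ Mbar,
            ← Subgroup.map_comap_eq_self_of_surjective hπ B, h]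
        have h2 := hmax.2 _ h1
        rw [← Subgroup.map_comap_eq_self_of_surjective hπ B, h2,
          Subgroup.map_top_of_surjective _ hπ]
    have hMbarnil : Group.IsNilpotent Mbar :=
      Group.nilpotent_of_surjective ((QuotientGroup.mk' N).subgroupMap M)
        ((QuotientGroup.mk' N).subgroupMap_surjective M)
    have hMbarodd : Odd (Nat.card Mbar) :=
      Odd.of_dvd_nat hodd (Subgroup.card_map_dvd M (QuotientGroup.mk' N))
    have hq : Group.IsSolvable (G ⧸ N) :=
      ih _ (hcard ▸ hcardq) (G ⧸ N) rfl Mbar hMbarco hMbarnil hMbarodd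
    have hNs : Group.IsSolvable N := Cfsg.Agent.Lib.Helper1_Coprime.isSolvable_of_le hNM hMsolv
    exact Group.isSolvable_of_ker_le_range N.subtype (QuotientGroup.mk' N) (by simp)
  -- core-free case
  by_cases hMbot : M = ⊥
  · -- `G` is cyclic
    apply Group.isSolvable_of_comm
    have hcyc : ∀ g : G, g ≠ 1 → Subgroup.zpowers g = ⊤ := by
      intro g hg
      apply hmax.2
      rw [hMbot, bot_lt_iff_ne_bot]
      intro h
      exact hg (Subgroup.zpowers_eq_bot.mp h)
    intro a b
    by_cases ha : a = 1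
    · rw [ha, one_mul, mul_one]
    · have hb : b ∈ Subgroup.zpowers a := by rw [hcyc a ha]; trivial
      obtain ⟨k, rfl⟩ := Subgroup.mem_zpowers_iff.mp hb
      exact (Commute.zpow_right (Commute.refl a) k).eq
  -- the primes of `M`
  set π := (Nat.card M).primeFactors with hπdef
  have hnpc : ∀ p ∈ π, ∃ Kp : Subgroup G, Kp.Normal ∧ (Nat.card Kp).Coprime p ∧
      Kp.index = p ^ (Nat.card M).factorization p := by
    intro p hp
    have hpp : p.Prime := Nat.prime_of_mem_primeFactors hp
    have hpd : p ∣ Nat.card M := Nat.dvd_of_mem_primeFactors hp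
    have : Fact p.Prime := ⟨hpp⟩
    obtain ⟨⟨Kp, hKn, hKc, m, hKi⟩, hfac⟩ := hasNPC_of_coreFree M hmax hnil hodd hcore p hpd
    refine ⟨Kp, hKn, hKc, ?_⟩
    rw [hKi, ← hfac]
    congr 1
    -- `m = v_p(#G)`
    have h1 : Nat.card G = Nat.card Kp * p ^ m := by
      rw [← hKi, Subgroup.card_mul_index]
    rw [h1, Nat.factorization_mul Nat.card_pos.ne' (pow_ne_zero _ hpp.ne_zero)]
    simp only [Finsupp.coe_add, Pi.add_apply]
    rw [Nat.factorization_eq_zero_of_not_dvd, hpp.factorization_pow]
    · simp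
    · intro hd
      have := Nat.dvd_gcd hd dvd_rfl
      rw [hKc] at this
      exact hpp.one_lt.ne' (Nat.dvd_one.mp this)
  choose Kf hKf using hnpc
  set K : Subgroup G := ⨅ p : π, Kf p.1 p.2 with hK
  have hKn : K.Normal := Subgroup.normal_iInf_normal (fun p => (hKf p.1 p.2).1)
  have hKle : ∀ p (hp : p ∈ π), K ≤ Kf p hp := fun p hp => iInf_le (fun q : π => Kf q.1 q.2) ⟨p, hp⟩
  have hKcop : (Nat.card K).Coprime (Nat.card M) := by
    apply Nat.Coprime.symm
    apply Nat.coprime_of_dvd
    intro k hk hkM hkK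
    have hkπ : k ∈ π := Nat.mem_primeFactors.mpr ⟨hk, hkM, Nat.card_pos.ne'⟩
    have h1 : k ∣ Nat.card (Kf k hkπ) := hkK.trans (Subgroup.card_dvd_of_le (hKle k hkπ))
    have h2 := Nat.dvd_gcd h1 dvd_rfl
    rw [(hKf k hkπ).2.1] at h2
    exact hk.one_lt.ne' (Nat.dvd_one.mp h2)
  have hKM : K ⊓ M = ⊥ := (Subgroup.disjoint_of_coprime_natCard hKcop).eq_bot
  have hKidx : K.index ≤ Nat.card M := by
    have h1 := Subgroup.index_iInf_le (fun p : π => Kf p.1 p.2)
    have h2 : ∏ p : π, (Kf p.1 p.2).index = ∏ p : π, (p : ℕ) ^ (Nat.card M).factorization p := by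
      apply Finset.prod_congr rfl
      intro p _
      exact (hKf p.1 p.2).2.2
    rw [h2, Finset.prod_coe_sort π (fun p => p ^ (Nat.card M).factorization p)] at h1
    have h3 : ∏ p ∈ π, p ^ (Nat.card M).factorization p = Nat.card M := by
      have := Nat.prod_factorization_pow_eq_self (n := Nat.card M) Nat.card_pos.ne'
      rw [Finsupp.prod, Nat.support_factorization] at this
      exact this
    rw [h3] at h1
    exact h1
  have hKne : K ≠ ⊥ := by
    intro h
    rw [h, Subgroup.index_bot] at hKidx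
    exact hmax.1 (Subgroup.eq_top_of_le_card M hKidx)
  have hMK : M ⊔ K = ⊤ := by
    apply hmax.2
    refine lt_of_le_of_ne le_sup_left ?_
    intro h
    have h1 : K ≤ M := by rw [h]; exact le_sup_right
    have h2 : K ≤ K ⊓ M := le_inf le_rfl h1
    rw [hKM] at h2
    exact hKne (le_bot_iff.mp h2)
  -- `K` is a `q`-group
  have hKs : Group.IsSolvable K := by
    have hcardK : Nat.card K ≠ 1 := fun h => hKne (Subgroup.card_eq_one.mp h)
    obtain ⟨q, hq, hqd⟩ := Nat.exists_prime_and_dvd hcardK
    have : Fact q.Prime := ⟨hq⟩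
    have hMNK : M ≤ Subgroup.normalizer (K : Set G) := by
      rw [Subgroup.normalizer_eq_top_iff.mpr hKn]; exact le_top
    obtain ⟨Q, hQ⟩ := Cfsg.Agent.Lib.Helper1_Coprime.exists_invariant_sylow M K hMNK hKcop.symm
      (Or.inl hMsolv) q
    set Q' : Subgroup G := (Q : Subgroup K).map K.subtype with hQ'
    have hQ'K : Q' ≤ K := Subgroup.map_subtype_le _
    have hQ'ne : Q' ≠ ⊥ := by
      intro h
      have h1 : (Q : Subgroup K) ≠ ⊥ := Q.ne_bot_of_dvd_card hqd
      exact h1 ((Subgroup.map_eq_bot_iff_of_injective _ K.subtype_injective).mp h)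
    have hMQ : M ⊔ Q' = ⊤ := by
      apply hmax.2
      refine lt_of_le_of_ne le_sup_left ?_
      intro h
      have h1 : Q' ≤ M := by rw [h]; exact le_sup_right
      have h2 : Q' ≤ K ⊓ M := le_inf hQ'K h1
      rw [hKM] at h2
      exact hQ'ne (le_bot_iff.mp h2)
    have hQ'n : Q'.Normal := by
      rw [← Subgroup.normalizer_eq_top_iff, eq_top_iff, ← hMQ]
      exact sup_le hQ Subgroup.le_normalizer
    have hKQ : K ≤ Q' := by
      intro k hk
      have hk' : k ∈ (M ⊔ Q' : Subgroup G) := by rw [hMQ]; trivial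
      rw [← SetLike.mem_coe, Subgroup.mul_normal] at hk'
      obtain ⟨m, hm, x, hx, rfl⟩ := hk'
      have hmK : m ∈ K := by
        have := K.mul_mem hk (K.inv_mem (hQ'K hx))
        simpa using this
      have : m ∈ K ⊓ M := ⟨hmK, hm⟩
      rw [hKM, Subgroup.mem_bot] at this
      show m * x ∈ Q'
      rw [this, one_mul]
      exact hx
    have hKq : IsPGroup q K := (Q.2.map K.subtype).to_le hKQ
    have : Group.IsNilpotent K := hKq.isNilpotent
    infer_instance
  have hqs : Group.IsSolvable (G ⧸ K) := by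
    let f : M →* G ⧸ K := (QuotientGroup.mk' K).comp M.subtype
    have hf : Function.Surjective f := by
      intro y
      obtain ⟨g, rfl⟩ := QuotientGroup.mk'_surjective K y
      have hg : g ∈ (M ⊔ K : Subgroup G) := by rw [hMK]; trivial
      rw [← SetLike.mem_coe, Subgroup.mul_normal] at hg
      obtain ⟨m, hm, k, hk, rfl⟩ := hg
      refine ⟨⟨m, hm⟩, ?_⟩
      show QuotientGroup.mk' K m = QuotientGroup.mk' K (m * k)
      rw [map_mul]
      have : QuotientGroup.mk' K k = 1 := by
        rw [← MonoidHom.mem_ker, QuotientGroup.ker_mk']; exact hk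
      rw [this, mul_one]
    exact Group.isSolvable_of_surjective hf
  exact Group.isSolvable_of_ker_le_range K.subtype (QuotientGroup.mk' K) (by simp)

/-- A finite group possessing a maximal subgroup that is nilpotent of odd order is solvable. -/
theorem result {G : Type*} [Group G] [Finite G]
    (M : Subgroup G) (hmax : IsCoatom M) (hnil : Group.IsNilpotent M) (hodd : Odd (Nat.card M)) :
    Group.IsSolvable G := by
  exact main _ G rfl M hmax hnil hodd

end Cfsg.Agent.S4040
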