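import Cfsg.Statements.S4043
import Cfsg.Agent.Lib.Helper1_Glauberman
import Cfsg.Agent.Lib.Helper25_Dade
import Cfsg.Agent.Lib.Helper33_Conj

set_option autoImplicit false
open Cfsg

namespace Cfsg.Agent.S4043

open Cfsg.Agent.Lib.Helper33_Conj
open scoped Pointwise

universe u

/-- `N K'` is normal in `G = A N` when `K ⊴ A`. -/
theorem sup_map_normal {G : Type u} [Group G] (N : Subgroup G) [hNn : N.Normal] (A : Subgroup G)
    (hA : A.IsComplement' N) (K : Subgroup A) [hK : K.Normal] :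
    (N ⊔ K.map A.subtype).Normal := by
  have hAconj : ∀ a ∈ A, ∀ l ∈ N ⊔ K.map A.subtype, a * l * a⁻¹ ∈ N ⊔ K.map A.subtype := by
    intro a ha l hl
    have h1 : (N ⊔ K.map A.subtype).map (MulAut.conj a).toMonoidHom ≤ N ⊔ K.map A.subtype := by
      rw [Subgroup.map_sup]
      apply sup_le_sup
      · rintro _ ⟨x, hx, rfl⟩
        exact hNn.conj_mem x hx a
      · rintro _ ⟨_, ⟨k, hk, rfl⟩, rfl⟩
        exact ⟨⟨a, ha⟩ * k * ⟨a, ha⟩⁻¹, hK.conj_mem k hk ⟨a, ha⟩, rfl⟩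
    exact h1 ⟨l, hl, rfl⟩
  constructor
  intro l hl g
  obtain ⟨⟨a, n⟩, hg⟩ := (hA.existsUnique g).exists
  simp only at hg
  rw [← hg]
  have hn : (n : G) ∈ N ⊔ K.map A.subtype := Subgroup.mem_sup_left n.2
  have h2 : (n : G) * l * (n : G)⁻¹ ∈ N ⊔ K.map A.subtype :=
    Subgroup.mul_mem _ (Subgroup.mul_mem _ hn hl) (Subgroup.inv_mem _ hn)
  have h3 := hAconj a a.2 _ h2
  have h4 : (a : G) * n * l * ((a : G) * n)⁻¹ = (a : G) * ((n : G) * l * (n : G)⁻¹) * (a : G)⁻¹ := by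
    group
  rw [h4]
  exact h3

/-- Elements of order prime to `p` lie in `N K'`. -/
theorem mem_sup_of_coprime_order {G : Type u} [Group G] {p : ℕ} (N : Subgroup G) [N.Normal]
    (A : Subgroup G) (hA : A.IsComplement' N) (K P : Subgroup A) [K.Normal]
    (hKP : K.IsComplement' P) (hP : IsPGroup p P) (x : G) (m : ℕ) (hm : m.Coprime p)
    (hx : x ^ m = 1) : x ∈ N ⊔ K.map A.subtype := by
  have hL : (N ⊔ K.map A.subtype).Normal := sup_map_normal N A hA K
  obtain ⟨⟨a, n⟩, hg⟩ := (hA.existsUnique x).exists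
  obtain ⟨⟨k, u⟩, hku⟩ := (hKP.existsUnique a).exists
  simp only at hg hku
  have hn : (QuotientGroup.mk' (N ⊔ K.map A.subtype)) (n : G) = 1 := by
    rw [QuotientGroup.mk'_apply, QuotientGroup.eq_one_iff]
    exact Subgroup.mem_sup_left n.2
  have hk : (QuotientGroup.mk' (N ⊔ K.map A.subtype)) ((k : A) : G) = 1 := by
    rw [QuotientGroup.mk'_apply, QuotientGroup.eq_one_iff]
    exact Subgroup.mem_sup_right ⟨k, k.2, rfl⟩
  have hxu : (QuotientGroup.mk' (N ⊔ K.map A.subtype)) x =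
      (QuotientGroup.mk' (N ⊔ K.map A.subtype)) ((u : A) : G) := by
    rw [← hg, ← hku, Subgroup.coe_mul, map_mul, map_mul, hn, hk, one_mul, mul_one]
  obtain ⟨j, hj⟩ := hP u
  have hj' : (((u : A) : G)) ^ (p ^ j) = 1 := by
    have := congrArg (fun t : P => ((t : A) : G)) hj
    simpa using this
  have h1 : (QuotientGroup.mk' (N ⊔ K.map A.subtype)) x ^ (p ^ j) = 1 := by
    rw [hxu, ← map_pow, hj', map_one]
  have h2 : (QuotientGroup.mk' (N ⊔ K.map A.subtype)) x ^ m = 1 := by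
    rw [← map_pow, hx, map_one]
  have h3 := pow_gcd_eq_one.2 ⟨h2, h1⟩
  have h4 : Nat.gcd m (p ^ j) = 1 := Nat.Coprime.pow_right j hm
  rw [h4, pow_one, QuotientGroup.mk'_apply, QuotientGroup.eq_one_iff] at h3
  exact h3

/-- The normal `p`-complement of another complement lies in `N K'`. -/
theorem map_le_sup {G : Type u} [Group G] [Finite G] {p : ℕ} (N : Subgroup G) [N.Normal]
    (A A₁ : Subgroup G) (hA : A.IsComplement' N) (K P : Subgroup A) [K.Normal]
    (hKP : K.IsComplement' P) (hP : IsPGroup p P) (K₁ : Subgroup A₁)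
    (hK₁ : (Nat.card K₁).Coprime p) : K₁.map A₁.subtype ≤ N ⊔ K.map A.subtype := by
  rintro _ ⟨k, hk, rfl⟩
  apply mem_sup_of_coprime_order N A hA K P hKP hP _ (Nat.card K₁) hK₁
  have h1 : (⟨k, hk⟩ : K₁) ^ Nat.card K₁ = 1 := pow_card_eq_one'
  calc A₁.subtype k ^ Nat.card K₁ = ((((⟨k, hk⟩ : K₁) ^ Nat.card K₁ : K₁) : A₁) : G) := rfl
    _ = 1 := by rw [h1]; rfl

/-- Membership in a conjugate (pointwise action form). -/
theorem mem_conj_smul' {L : Type*} [Group L] (n x : L) (H : Subgroup L) :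
    x ∈ MulAut.conj n • H ↔ n⁻¹ * x * n ∈ H := by
  rw [Subgroup.mem_pointwise_smul_iff_inv_smul_mem]
  simp [MulAut.smul_def]

/-- Schur–Zassenhaus step: the two `p'`-complements of `N` in `N K' = N K₁'` are conjugate under `N`. -/
theorem exists_cj_eq {G : Type u} [Group G] [Finite G] {p : ℕ} [Fact p.Prime] (N : Subgroup G)
    [N.Normal] (hN : IsPGroup p N) (K' K₁' : Subgroup G) (hK' : (Nat.card K').Coprime p)
    (hK₁' : (Nat.card K₁').Coprime p) (h12 : N ⊔ K' = N ⊔ K₁') :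
    ∃ n ∈ N, cj n K' = K₁' := by
  have hNL : N ≤ N ⊔ K' := le_sup_left
  have hKL : K' ≤ N ⊔ K' := le_sup_right
  have hK₁L : K₁' ≤ N ⊔ K' := by rw [h12]; exact le_sup_right
  obtain ⟨k, hk⟩ := IsPGroup.iff_card.1 hN
  have hd : N ⊓ K' = ⊥ := Disjoint.eq_bot (Subgroup.disjoint_of_coprime_natCard (by
    rw [hk]; exact Nat.Coprime.pow_left k hK'.symm))
  have hd₁ : N ⊓ K₁' = ⊥ := Disjoint.eq_bot (Subgroup.disjoint_of_coprime_natCard (by
    rw [hk]; exact Nat.Coprime.pow_left k hK₁'.symm))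
  have hnorm : N ⊔ K' ≤ Subgroup.normalizer (N : Set G) := by
    rw [Subgroup.normalizer_eq_top]; exact le_top
  have hc := Cfsg.Agent.Lib.Helper25_Dade.card_mul_card_of_semidirect (N ⊔ K') N K' hNL hKL hnorm
    hd rfl
  have hc₁ := Cfsg.Agent.Lib.Helper25_Dade.card_mul_card_of_semidirect (N ⊔ K') N K₁' hNL hK₁L
    hnorm hd₁ h12.symm
  have hcardN : Nat.card (N.subgroupOf (N ⊔ K')) = Nat.card N :=
    Nat.card_congr (Subgroup.subgroupOfEquivOfLe hNL).toEquiv
  have hcardK : Nat.card (K'.subgroupOf (N ⊔ K')) = Nat.card K' :=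
    Nat.card_congr (Subgroup.subgroupOfEquivOfLe hKL).toEquiv
  have hidx : (N.subgroupOf (N ⊔ K')).index = Nat.card (K'.subgroupOf (N ⊔ K')) :=
    hc.symm.index_eq_card
  have hidx₁ : (N.subgroupOf (N ⊔ K')).index = Nat.card (K₁'.subgroupOf (N ⊔ K')) :=
    hc₁.symm.index_eq_card
  have hcop : (Nat.card (N.subgroupOf (N ⊔ K'))).Coprime (N.subgroupOf (N ⊔ K')).index := by
    rw [hidx, hcardN, hcardK, hk]; exact Nat.Coprime.pow_left k hK'.symm
  have hsolv : Group.IsSolvable (N.subgroupOf (N ⊔ K')) := by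
    have h1 : IsPGroup p (N.subgroupOf (N ⊔ K')) := hN.comap_subtype
    have h2 := h1.isNilpotent
    infer_instance
  obtain ⟨n, hn, hconj⟩ := Cfsg.Agent.Lib.Helper1_Glauberman.sz_conj_card_mem
    (N.subgroupOf (N ⊔ K')) hcop (Or.inl hsolv) (K'.subgroupOf (N ⊔ K'))
    (K₁'.subgroupOf (N ⊔ K')) hidx.symm hidx₁.symm
  refine ⟨n, Subgroup.mem_subgroupOf.1 hn, ?_⟩
  ext x
  rw [mem_cj]
  constructor
  · intro hx
    have hxL : x ∈ N ⊔ K' := by
      have : x = n * ((n : G)⁻¹ * x * n) * (n : G)⁻¹ := by group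
      rw [this]
      exact Subgroup.mul_mem _ (Subgroup.mul_mem _ n.2 (hKL hx)) (Subgroup.inv_mem _ n.2)
    have h1 : (⟨x, hxL⟩ : (N ⊔ K' : Subgroup G)) ∈ MulAut.conj n • (K'.subgroupOf (N ⊔ K')) := by
      rw [mem_conj_smul', Subgroup.mem_subgroupOf]
      exact hx
    rw [hconj] at h1
    exact Subgroup.mem_subgroupOf.1 h1
  · intro hx
    have hxL : x ∈ N ⊔ K' := hK₁L hx
    have h1 : (⟨x, hxL⟩ : (N ⊔ K' : Subgroup G)) ∈ MulAut.conj n • (K'.subgroupOf (N ⊔ K')) := by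
      rw [hconj]; exact Subgroup.mem_subgroupOf.2 hx
    rw [mem_conj_smul', Subgroup.mem_subgroupOf] at h1
    exact h1

/-- Conjugation action of a subgroup `Q` on a subgroup `C` it normalizes (elementwise form). -/
@[reducible] def conjActOn {G : Type*} [Group G] (Q C : Subgroup G)
    (h : ∀ u ∈ Q, ∀ c ∈ C, u * c * u⁻¹ ∈ C) : MulAction Q C where
  smul u c := ⟨(u : G) * c * (u : G)⁻¹, h u u.2 c c.2⟩
  one_smul c := by
    apply Subtype.ext
    change ((1 : Q) : G) * c * ((1 : Q) : G)⁻¹ = c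
    simp
  mul_smul u v c := by
    apply Subtype.ext
    change ((u * v : Q) : G) * c * ((u * v : Q) : G)⁻¹ =
      (u : G) * ((v : G) * c * (v : G)⁻¹) * (u : G)⁻¹
    simp only [Subgroup.coe_mul]
    group

/-- `C_N(K₁') = 1` under the fixed-point hypothesis. -/
theorem inf_centralizer_eq_bot {G : Type u} [Group G] [Finite G] {p : ℕ} [Fact p.Prime]
    (N : Subgroup G) [hNn : N.Normal] (hN : IsPGroup p N) (A₁ : Subgroup G)
    (K₁ P₁ : Subgroup A₁) [hK₁n : K₁.Normal] (hKP₁ : K₁.IsComplement' P₁) (hP₁ : IsPGroup p P₁)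
    (hC₁ : ∀ n : G, n ∈ N → (∀ a : G, a ∈ A₁ → a * n * a⁻¹ = n) → n = 1) :
    N ⊓ Subgroup.centralizer ((K₁.map A₁.subtype : Subgroup G) : Set G) = ⊥ := by
  by_contra hne
  set C := N ⊓ Subgroup.centralizer ((K₁.map A₁.subtype : Subgroup G) : Set G) with hCdef
  have hCp : IsPGroup p C := hN.to_le inf_le_left
  have hnormA : ∀ u ∈ A₁, ∀ c ∈ C, u * c * u⁻¹ ∈ C := by
    intro u hu c hc
    refine Subgroup.mem_inf.2 ⟨hNn.conj_mem c hc.1 u, ?_⟩
    rw [Subgroup.mem_centralizer_iff]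
    rintro _ ⟨k, hk, rfl⟩
    have hk' : A₁.subtype ((⟨u, hu⟩ : A₁)⁻¹ * k * (⟨u, hu⟩ : A₁)) ∈
        ((K₁.map A₁.subtype : Subgroup G) : Set G) := by
      refine ⟨_, ?_, rfl⟩
      have := hK₁n.conj_mem k hk (⟨u, hu⟩ : A₁)⁻¹
      simpa using this
    have hcomm := (Subgroup.mem_centralizer_iff.1 hc.2) _ hk'
    simp only [Subgroup.subtype_apply, Subgroup.coe_mul, Subgroup.coe_inv] at hcomm
    calc A₁.subtype k * (u * c * u⁻¹) = u * ((u⁻¹ * (k : G) * u) * c) * u⁻¹ := by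
          simp only [Subgroup.subtype_apply]; group
      _ = u * (c * (u⁻¹ * (k : G) * u)) * u⁻¹ := by rw [hcomm]
      _ = u * c * u⁻¹ * A₁.subtype k := by simp only [Subgroup.subtype_apply]; group
  have hQ : IsPGroup p (P₁.map A₁.subtype) := hP₁.map _
  let _ : MulAction (P₁.map A₁.subtype) C := conjActOn (P₁.map A₁.subtype) C (by
    rintro _ ⟨u, _, rfl⟩ c hc
    exact hnormA _ u.2 c hc)
  have hdvd : p ∣ Nat.card C := by
    obtain ⟨k, hk⟩ := IsPGroup.iff_card.1 hCp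
    rcases Nat.eq_zero_or_pos k with h0 | h0
    · exfalso
      rw [h0, pow_zero] at hk
      exact hne (Subgroup.eq_bot_of_card_eq C hk)
    · rw [hk]; exact dvd_pow_self p h0.ne'
  have hfix1 : (1 : C) ∈ MulAction.fixedPoints (P₁.map A₁.subtype) C := by
    intro u
    apply Subtype.ext
    change (u : G) * ((1 : C) : G) * (u : G)⁻¹ = ((1 : C) : G)
    simp
  obtain ⟨b, hb, hb1⟩ := hQ.exists_fixed_point_of_prime_dvd_card_of_fixed_point C hdvd hfix1
  apply hb1
  apply Subtype.ext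
  symm
  apply hC₁ b b.2.1
  intro a ha
  obtain ⟨⟨k, u⟩, hku⟩ := (hKP₁.existsUnique ⟨a, ha⟩).exists
  simp only at hku
  have ha' : a = ((k : A₁) : G) * ((u : A₁) : G) := by
    have := congrArg Subtype.val hku
    simpa using this.symm
  have hub : ((u : A₁) : G) * b * ((u : A₁) : G)⁻¹ = b := by
    have := hb ⟨((u : A₁) : G), ⟨u, u.2, rfl⟩⟩
    exact congrArg Subtype.val this
  have hkb : ((k : A₁) : G) * b = b * ((k : A₁) : G) :=
    (Subgroup.mem_centralizer_iff.1 b.2.2) _ ⟨k, k.2, rfl⟩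
  rw [ha']
  calc ((k : A₁) : G) * ((u : A₁) : G) * b * (((k : A₁) : G) * ((u : A₁) : G))⁻¹
      = ((k : A₁) : G) * (((u : A₁) : G) * b * ((u : A₁) : G)⁻¹) * ((k : A₁) : G)⁻¹ := by group
    _ = ((k : A₁) : G) * b * ((k : A₁) : G)⁻¹ := by rw [hub]
    _ = b := by rw [hkb]; group

/-- `N_G(K₁') ≤ A₁`. -/
theorem normalizer_le {G : Type u} [Group G] [Finite G] {p : ℕ} [Fact p.Prime]
    (N : Subgroup G) [hNn : N.Normal] (hN : IsPGroup p N) (A₁ : Subgroup G)
    (hA₁ : A₁.IsComplement' N)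
    (K₁ P₁ : Subgroup A₁) [hK₁n : K₁.Normal] (hKP₁ : K₁.IsComplement' P₁) (hP₁ : IsPGroup p P₁)
    (hcop : (Nat.card K₁).Coprime p)
    (hC₁ : ∀ n : G, n ∈ N → (∀ a : G, a ∈ A₁ → a * n * a⁻¹ = n) → n = 1) :
    Subgroup.normalizer ((K₁.map A₁.subtype : Subgroup G) : Set G) ≤ A₁ := by
  intro m hm
  have hA₁norm : A₁ ≤ Subgroup.normalizer ((K₁.map A₁.subtype : Subgroup G) : Set G) := by
    have h1 := Subgroup.le_normalizer_map (H := K₁) A₁.subtype
    rw [Subgroup.normalizer_eq_top, ← MonoidHom.range_eq_map, Subgroup.range_subtype] at h1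
    exact h1
  obtain ⟨⟨a, x⟩, hax⟩ := (hA₁.existsUnique m).exists
  simp only at hax
  have hx : (x : G) ∈ Subgroup.normalizer ((K₁.map A₁.subtype : Subgroup G) : Set G) := by
    have : (x : G) = (a : G)⁻¹ * m := by rw [← hax]; group
    rw [this]
    exact Subgroup.mul_mem _ (Subgroup.inv_mem _ (hA₁norm a.2)) hm
  obtain ⟨k, hk⟩ := IsPGroup.iff_card.1 hN
  have hcardK : Nat.card (K₁.map A₁.subtype) = Nat.card K₁ :=
    Subgroup.card_map_of_injective A₁.subtype_injective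
  have hd : N ⊓ K₁.map A₁.subtype = ⊥ := Disjoint.eq_bot (Subgroup.disjoint_of_coprime_natCard (by
    rw [hk, hcardK]; exact Nat.Coprime.pow_left k hcop.symm))
  have hxc : (x : G) ∈ N ⊓ Subgroup.centralizer ((K₁.map A₁.subtype : Subgroup G) : Set G) := by
    refine Subgroup.mem_inf.2 ⟨x.2, ?_⟩
    rw [Subgroup.mem_centralizer_iff]
    intro y hy
    have h1 : (x : G) * y * (x : G)⁻¹ ∈ K₁.map A₁.subtype :=
      (Subgroup.mem_normalizer_iff.1 hx y).1 hy
    have h2 : (x : G) * y * (x : G)⁻¹ * y⁻¹ ∈ N ⊓ K₁.map A₁.subtype := by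
      refine ⟨?_, Subgroup.mul_mem _ h1 (Subgroup.inv_mem _ hy)⟩
      have h3 : y * (x : G)⁻¹ * y⁻¹ ∈ N := hNn.conj_mem _ (N.inv_mem x.2) y
      have h4 : (x : G) * y * (x : G)⁻¹ * y⁻¹ = (x : G) * (y * (x : G)⁻¹ * y⁻¹) := by group
      rw [h4]
      exact N.mul_mem x.2 h3
    rw [hd, Subgroup.mem_bot] at h2
    have h5 : (x : G) * y = y * x := by
      have := congrArg (fun t => t * y * x) h2
      simpa [mul_assoc] using this
    exact h5.symm
  rw [inf_centralizer_eq_bot N hN A₁ K₁ P₁ hKP₁ hP₁ hC₁, Subgroup.mem_bot] at hxc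
  rw [← hax, hxc, mul_one]
  exact a.2

/-- Let G be a finite group that is the semidirect product of a normal p-subgroup N by a subgroup A, and also of N by a subgroup A₁, where p is a prime and A and A₁ both have normal p-complements. If C_N(A) = C_N(A₁) = 1, then A₁ is conjugate to A by an element of N. -/
theorem result {G : Type*} [Group G] [Finite G] {p : ℕ}
    [Fact p.Prime] (N : Subgroup G) [N.Normal] (hN : IsPGroup p N) (A A₁ : Subgroup G)
    (hA : A.IsComplement' N) (hA₁ : A₁.IsComplement' N)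
    (hAp : Cfsg.HasNormalPComplement p A) (hA₁p : Cfsg.HasNormalPComplement p A₁)
    (hC : ∀ n : G, n ∈ N → (∀ a : G, a ∈ A → a * n * a⁻¹ = n) → n = 1)
    (hC₁ : ∀ n : G, n ∈ N → (∀ a : G, a ∈ A₁ → a * n * a⁻¹ = n) → n = 1) :
    ∃ n : G, n ∈ N ∧ A₁ = A.map (MulAut.conj n).toMonoidHom := by
  have hp : p.Prime := Fact.out
  obtain ⟨P, K, hKn, hKP⟩ := hAp
  obtain ⟨P₁, K₁, hK₁n, hKP₁⟩ := hA₁p
  have hKcop : (Nat.card K).Coprime p := by
    have h1 : (P : Subgroup A).index = Nat.card K := hKP.index_eq_card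
    rw [← h1]
    exact ((Nat.Prime.coprime_iff_not_dvd hp).2 P.not_dvd_index).symm
  have hK₁cop : (Nat.card K₁).Coprime p := by
    have h1 : (P₁ : Subgroup A₁).index = Nat.card K₁ := hKP₁.index_eq_card
    rw [← h1]
    exact ((Nat.Prime.coprime_iff_not_dvd hp).2 P₁.not_dvd_index).symm
  have hcardK : Nat.card (K.map A.subtype) = Nat.card K :=
    Subgroup.card_map_of_injective A.subtype_injective
  have hcardK₁ : Nat.card (K₁.map A₁.subtype) = Nat.card K₁ :=
    Subgroup.card_map_of_injective A₁.subtype_injective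
  have h12 : N ⊔ K.map A.subtype = N ⊔ K₁.map A₁.subtype :=
    le_antisymm
      (sup_le le_sup_left (map_le_sup N A₁ A hA₁ K₁ P₁ hKP₁ P₁.isPGroup' K hKcop))
      (sup_le le_sup_left (map_le_sup N A A₁ hA K P hKP P.isPGroup' K₁ hK₁cop))
  obtain ⟨n, hn, hnK⟩ := exists_cj_eq N hN (K.map A.subtype) (K₁.map A₁.subtype)
    (by rw [hcardK]; exact hKcop) (by rw [hcardK₁]; exact hK₁cop) h12
  refine ⟨n, hn, ?_⟩
  symm
  apply Subgroup.eq_of_le_of_card_ge
  · -- `cj n A` normalizes `K₁'`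
    have hAnorm : A ≤ Subgroup.normalizer ((K.map A.subtype : Subgroup G) : Set G) := by
      have h1 := Subgroup.le_normalizer_map (H := K) A.subtype
      rw [Subgroup.normalizer_eq_top, ← MonoidHom.range_eq_map, Subgroup.range_subtype] at h1
      exact h1
    have h2 : cj n A ≤ Subgroup.normalizer ((K₁.map A₁.subtype : Subgroup G) : Set G) := by
      rw [← hnK, ← cj_normalizer]
      exact cj_mono hAnorm
    exact h2.trans (normalizer_le N hN A₁ hA₁ K₁ P₁ hKP₁ P₁.isPGroup' hK₁cop hC₁)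
  · have h1 : Nat.card (A.map (MulAut.conj n).toMonoidHom) = Nat.card A :=
      Subgroup.card_map_of_injective (MulAut.conj n).injective
    rw [h1]
    have h2 : N.index = Nat.card A := hA.index_eq_card
    have h3 : N.index = Nat.card A₁ := hA₁.index_eq_card
    rw [← h2, ← h3]

end Cfsg.Agent.S4043
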