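import Cfsg.Statements.S4049
import Cfsg.Agent.Lib.Helper95_InvertOdd

set_option autoImplicit false
open Cfsg

namespace Cfsg.Agent.S4049

open Cfsg.Agent.Lib.Helper95_InvertOdd

/-- Let G be a finite group such that N_G(H)/C_G(H) has odd order for every nontrivial subgroup H of odd order. Then the Sylow 2-subgroups of G are normal. -/
theorem result {G : Type*} [Group G] [Finite G]
    (hhom : ∀ H : Subgroup G, H ≠ ⊥ → ¬ 2 ∣ Nat.card ↥H →
        ¬ 2 ∣ (Subgroup.centralizer (H : Set G)).relIndex (Subgroup.normalizer (H : Set G))) (P : Sylow 2 G) :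
    (P : Subgroup G).Normal := by
  by_contra hP
  obtain ⟨u, huP, x, hodd, hx1, hux⟩ := exists_invert_odd P hP
  have hH : Subgroup.zpowers x ≠ ⊥ := by
    rw [Ne, Subgroup.zpowers_eq_bot]; exact hx1
  have hHc : ¬ 2 ∣ Nat.card ↥(Subgroup.zpowers x) := by
    rw [Nat.card_zpowers]; exact hodd.not_two_dvd_nat
  have hrel := hhom (Subgroup.zpowers x) hH hHc
  obtain ⟨k, hk⟩ := P.isPGroup' ⟨u, huP⟩
  have hk' : u ^ 2 ^ k = 1 := by
    have := congrArg Subtype.val hk
    simpa using this
  have huc := mem_centralizer_of_odd_relIndex hk' (mem_normalizer_zpowers_of_invert hux) hrel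
  rw [Subgroup.mem_centralizer_iff] at huc
  have hcomm : x * u = u * x := huc x (Subgroup.mem_zpowers x)
  have hxx : x = x⁻¹ := by
    rw [← hux, ← hcomm]; group
  exact hx1 (eq_one_of_odd_of_eq_inv hodd hxx)

end Cfsg.Agent.S4049
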