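import Cfsg.Statements.S4050

set_option autoImplicit false
open Cfsg
open scoped Pointwise

namespace Cfsg.Agent.S4050

universe u



def IsPiElt (π : Set ℕ) {G : Type*} [Group G] (x : G) : Prop :=
  ∀ p : ℕ, p.Prime → p ∣ orderOf x → p ∈ π

def PiSep (π : Set ℕ) (G : Type*) [Group G] : Prop :=
  ∃ (n : ℕ) (H : Fin (n + 1) → Subgroup G), H 0 = ⊥ ∧ H (Fin.last n) = ⊤ ∧ Monotone H ∧
    (∀ i, (H i).Normal) ∧
      ∀ i : Fin n, (∀ q : ℕ, q.Prime → q ∣ (H i.castSucc).relIndex (H i.succ) → q ∈ π) ∨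
        (∀ q : ℕ, q.Prime → q ∣ (H i.castSucc).relIndex (H i.succ) → q ∉ π)

def Hom (π : Set ℕ) (G : Type*) [Group G] : Prop :=
  ∀ q : ℕ, q.Prime → q ∉ π → ∀ Q : Subgroup G, IsPGroup q Q → Q ≠ ⊥ →
    ∀ r : ℕ, r.Prime → r ∈ π → ∀ g ∈ Subgroup.normalizer (Q : Set G), (∃ k, orderOf g = r ^ k) →
      g ∈ Subgroup.centralizer (Q : Set G)

theorem relIndex_map_dvd {G : Type*} [Group G] (N A B : Subgroup G) [N.Normal] [A.Normal]
    (hAB : A ≤ B) :
    (A.map (QuotientGroup.mk' N)).relIndex (B.map (QuotientGroup.mk' N)) ∣ A.relIndex B := by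
  rw [Subgroup.relIndex_map_map, QuotientGroup.ker_mk']
  have h1 : B ⊔ N = B ⊔ (A ⊔ N) := by
    rw [← sup_assoc, sup_eq_left.mpr hAB]
  rw [h1, Subgroup.relIndex_sup_right]
  exact Subgroup.relIndex_dvd_of_le_left B le_sup_left

theorem piSep_quotient {π : Set ℕ} {G : Type u} [Group G] (N : Subgroup G) [N.Normal]
    (h : PiSep π G) : PiSep π (G ⧸ N) := by
  obtain ⟨n, H, h0, hl, hm, hn, hf⟩ := h
  refine ⟨n, fun i => (H i).map (QuotientGroup.mk' N), ?_, ?_, ?_, ?_, ?_⟩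
  · simp [h0]
  · simp only [hl]
    exact Subgroup.map_top_of_surjective _ (QuotientGroup.mk'_surjective N)
  · intro i j hij
    exact Subgroup.map_mono (hm hij)
  · intro i
    have := hn i
    exact Subgroup.Normal.map (hn i) _ (QuotientGroup.mk'_surjective N)
  · intro i
    have := hn i.castSucc
    have hd := relIndex_map_dvd N (H i.castSucc) (H i.succ) (hm (Fin.castSucc_le_succ i))
    rcases hf i with h | h
    · left
      intro q hq hqd
      exact h q hq (hqd.trans hd)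
    · right
      intro q hq hqd
      exact h q hq (hqd.trans hd)

theorem exists_first {π : Set ℕ} {G : Type u} [Group G] [Nontrivial G] (h : PiSep π G) :
    ∃ N : Subgroup G, N.Normal ∧ N ≠ ⊥ ∧
      ((∀ q : ℕ, q.Prime → q ∣ Nat.card N → q ∈ π) ∨ (∀ q : ℕ, q.Prime → q ∣ Nat.card N → q ∉ π)) := by
  obtain ⟨n, H, h0, hl, hm, hn, hf⟩ := h
  -- least index with H i ≠ ⊥
  have hex : ∃ k : ℕ, ∃ hk : k < n + 1, H ⟨k, hk⟩ ≠ ⊥ := by
    refine ⟨n, Nat.lt_succ_self n, ?_⟩
    have : (⟨n, Nat.lt_succ_self n⟩ : Fin (n + 1)) = Fin.last n := rfl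
    rw [this, hl]
    exact top_ne_bot
  classical
  let k := Nat.find hex
  obtain ⟨hk, hkne⟩ := Nat.find_spec hex
  have hk0 : k ≠ 0 := by
    intro hk0
    apply hkne
    have : (⟨Nat.find hex, hk⟩ : Fin (n + 1)) = 0 := by
      apply Fin.ext
      exact hk0
    rw [this, h0]
  obtain ⟨j, hj⟩ : ∃ j, k = j + 1 := Nat.exists_eq_succ_of_ne_zero hk0
  have hjn : j < n := by omega
  have hprev : H (⟨j, hjn⟩ : Fin n).castSucc = ⊥ := by
    by_contra hne
    have : k ≤ j := Nat.find_min' hex ⟨by omega, hne⟩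
    omega
  have hsucc : H (⟨j, hjn⟩ : Fin n).succ = H ⟨k, hk⟩ := by
    congr 1
    apply Fin.ext
    simp [hj]
  refine ⟨H ⟨k, hk⟩, hn _, hkne, ?_⟩
  have := hf ⟨j, hjn⟩
  rw [hprev, hsucc, Subgroup.relIndex_bot_left] at this
  exact this



theorem isPiElt_pow {π : Set ℕ} {G : Type*} [Group G] {x : G} (hx : IsPiElt π x) (k : ℕ) :
    IsPiElt π (x ^ k) := fun p hp hd => hx p hp (hd.trans (orderOf_pow_dvd k))

theorem mem_of_primary {π : Set ℕ} {G : Type*} [Group G] [Finite G] (S : Subgroup G)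
    (h : ∀ r : ℕ, r.Prime → r ∈ π → ∀ a : G, (∃ k, orderOf a = r ^ k) → a ∈ S) :
    ∀ x : G, IsPiElt π x → x ∈ S := by
  intro x
  induction' hn : orderOf x using Nat.strong_induction_on with n ih generalizing x
  intro hx
  by_cases h1 : n = 1
  · have : x = 1 := orderOf_eq_one_iff.mp (hn.trans h1)
    rw [this]; exact S.one_mem
  · obtain ⟨r, hr, hrn⟩ := Nat.exists_prime_and_dvd h1
    have hn0 : n ≠ 0 := by rw [← hn]; exact (orderOf_pos x).ne'
    obtain ⟨a, m, hm, hnm⟩ := Nat.exists_eq_pow_mul_and_not_dvd hn0 r hr.ne_one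
    have hcop : Nat.Coprime (r ^ a) m :=
      Nat.Coprime.pow_left a ((Nat.Prime.coprime_iff_not_dvd hr).mpr hm)
    have hrπ : r ∈ π := hx r hr (hn ▸ hrn)
    have hm0 : m ≠ 0 := by rintro rfl; simp at hnm; exact hn0 hnm
    have ha0 : a ≠ 0 := by
      rintro rfl
      rw [pow_zero, one_mul] at hnm
      exact hm (hnm ▸ hrn)
    have hra0 : r ^ a ≠ 0 := pow_ne_zero _ hr.ne_zero
    have h2 : x ^ m ∈ S := by
      refine h r hr hrπ (x ^ m) ⟨a, ?_⟩
      rw [orderOf_pow_of_dvd hm0 (by rw [hn, hnm]; exact dvd_mul_left _ _), hn, hnm,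
        Nat.mul_div_cancel _ (Nat.pos_of_ne_zero hm0)]
    have h3 : x ^ (r ^ a) ∈ S := by
      have hord : orderOf (x ^ (r ^ a)) = m := by
        rw [orderOf_pow_of_dvd hra0 (by rw [hn, hnm]; exact dvd_mul_right _ _), hn, hnm,
          Nat.mul_div_cancel_left _ (Nat.pos_of_ne_zero hra0)]
      refine ih m ?_ (x ^ (r ^ a)) hord (isPiElt_pow hx _)
      rw [hnm]
      have : 2 ≤ r ^ a := by
        calc 2 ≤ r := hr.two_le
          _ = r ^ 1 := (pow_one r).symm
          _ ≤ r ^ a := Nat.pow_le_pow_right hr.pos (Nat.pos_of_ne_zero ha0)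
      nlinarith [Nat.pos_of_ne_zero hm0]
    have hb := Nat.gcd_eq_gcd_ab (r ^ a) m
    rw [hcop.gcd_eq_one] at hb
    have hx1 : x = (x ^ (r ^ a)) ^ (Nat.gcdA (r ^ a) m) * (x ^ m) ^ (Nat.gcdB (r ^ a) m) := by
      rw [← zpow_natCast, ← zpow_natCast, ← zpow_mul, ← zpow_mul, ← zpow_add, ← hb]
      simp
    rw [hx1]
    exact S.mul_mem (S.zpow_mem h3 _) (S.zpow_mem h2 _)



/-- an `r`-element normalizing a normal subgroup `N` of order prime to `r` normalizes a Sylow
`q`-subgroup of `N`. -/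
theorem exists_sylow_normalized {G : Type u} [Group G] [Finite G] (N : Subgroup G) [N.Normal]
    (r : ℕ) (hr : r.Prime) (hrN : ¬ r ∣ Nat.card N) (a : G) (ha : ∃ k, orderOf a = r ^ k)
    (q : ℕ) [Fact q.Prime] :
    ∃ Q₀ : Sylow q N, a ∈ Subgroup.normalizer (((Q₀ : Subgroup N).map N.subtype : Subgroup G) : Set G) := by
  have : Fact r.Prime := ⟨hr⟩
  let φ : ↥(Subgroup.zpowers a) →* MulAut N := (MulAut.conjNormal).comp (Subgroup.zpowers a).subtype
  let _ : MulAction (↥(Subgroup.zpowers a)) (Sylow q N) := MulAction.compHom (Sylow q N) φ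
  have hpg : IsPGroup r (↥(Subgroup.zpowers a)) := by
    obtain ⟨k, hk⟩ := ha
    apply IsPGroup.of_card (n := k)
    rw [Nat.card_zpowers, hk]
  have hcard : ¬ r ∣ Nat.card (Sylow q N) := by
    intro hd
    obtain ⟨P⟩ : Nonempty (Sylow q N) := inferInstance
    exact hrN ((hd.trans (Sylow.card_dvd_index P)).trans (Subgroup.index_dvd_card _))
  obtain ⟨Q₀, hQ₀⟩ := hpg.nonempty_fixed_point_of_prime_not_dvd_card (Sylow q N) hcard
  refine ⟨Q₀, ?_⟩
  have hfix : (MulAut.conjNormal a : MulAut N) • Q₀ = Q₀ := hQ₀ ⟨a, Subgroup.mem_zpowers a⟩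
  rw [Subgroup.mem_normalizer_iff_map_conj_eq]
  have h2 : (MulAut.conjNormal a : MulAut N) • (Q₀ : Subgroup N) = (Q₀ : Subgroup N) := by
    conv_rhs => rw [← hfix]
    rfl
  ext x
  constructor
  · rintro ⟨y, ⟨z, hz, rfl⟩, rfl⟩
    have h3 : (MulAut.conjNormal a : MulAut N) • z ∈ (Q₀ : Subgroup N) := by
      rw [← h2]
      exact Subgroup.smul_mem_pointwise_smul z _ _ hz
    exact ⟨_, h3, by simp [MulAut.conjNormal_apply]⟩
  · rintro ⟨y, hy, rfl⟩
    have hy' : y ∈ (Q₀ : Subgroup N) := hy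
    rw [← h2] at hy'
    obtain ⟨z, hz, hzy⟩ := hy'
    refine ⟨z, ⟨z, hz, rfl⟩, ?_⟩
    rw [← hzy]
    simp [MulAut.conjNormal_apply]

theorem centralizes_of_hom {π : Set ℕ} {G : Type u} [Group G] [Finite G] (hH : Hom π G)
    (N : Subgroup G) [N.Normal] (hN : ∀ q : ℕ, q.Prime → q ∣ Nat.card N → q ∉ π)
    (r : ℕ) (hr : r.Prime) (hrπ : r ∈ π) (a : G) (ha : ∃ k, orderOf a = r ^ k) :
    a ∈ Subgroup.centralizer (N : Set G) := by
  have hrN : ¬ r ∣ Nat.card N := fun hd => hN r hr hd hrπ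
  obtain ⟨D, hD⟩ : ∃ D : Subgroup G, D = N ⊓ Subgroup.centralizer {a} := ⟨_, rfl⟩
  have hDN : D.relIndex N = 1 := by
    by_contra hne
    obtain ⟨q, hq, hqd⟩ := Nat.exists_prime_and_dvd hne
    have : Fact q.Prime := ⟨hq⟩
    obtain ⟨Q₀, hQ₀⟩ := exists_sylow_normalized N r hr hrN a ha q
    obtain ⟨Q, hQdef⟩ : ∃ Q : Subgroup G, Q = (Q₀ : Subgroup N).map N.subtype := ⟨_, rfl⟩
    rw [← hQdef] at hQ₀
    have hQN : Q ≤ N := hQdef ▸ Subgroup.map_subtype_le _
    have hpQ : IsPGroup q Q := hQdef ▸ Q₀.2.map _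
    have hQD : Q ≤ D := by
      rw [hD]
      refine le_inf hQN ?_
      by_cases hb : Q = ⊥
      · rw [hb]; exact bot_le
      · have hqN : q ∣ Nat.card N := by
          obtain ⟨n, hn⟩ := IsPGroup.iff_card.mp hpQ
          have hn0 : n ≠ 0 := by
            rintro rfl
            rw [pow_zero] at hn
            exact hb (Subgroup.card_eq_one.mp hn)
          have h1 : q ∣ Nat.card Q := by rw [hn]; exact dvd_pow_self q hn0
          exact h1.trans (Subgroup.card_dvd_of_le hQN)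
        have hc := hH q hq (hN q hq hqN) Q hpQ hb r hr hrπ a hQ₀ ha
        intro x hx
        rw [Subgroup.mem_centralizer_iff]
        intro h hh
        rw [Set.mem_singleton_iff] at hh
        subst hh
        exact ((Subgroup.mem_centralizer_iff.mp hc) x hx).symm
    have h1 : D.relIndex N ∣ Q.relIndex N := Subgroup.relIndex_dvd_of_le_left N hQD
    have h2 : Q.relIndex N = (Q₀ : Subgroup N).index := by
      rw [Subgroup.relIndex, hQdef, Subgroup.subgroupOf,
        Subgroup.comap_map_eq_self_of_injective N.subtype_injective]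
    exact Q₀.not_dvd_index (h2 ▸ hqd.trans h1)
  rw [Subgroup.relIndex_eq_one] at hDN
  rw [Subgroup.mem_centralizer_iff]
  intro h hh
  have h3 : h ∈ Subgroup.centralizer {a} := (hD ▸ hDN hh : h ∈ N ⊓ Subgroup.centralizer {a}).2
  rw [Subgroup.mem_centralizer_iff] at h3
  exact (h3 a rfl).symm



/-- Frattini-type step inside a subgroup `X`: if `g` conjugates the Sylow `q`-subgroup `Q` of `X`
into `X`, then `g Q g⁻¹ = x Q x⁻¹` for some `x ∈ X`. -/
theorem exists_conj_eq {G : Type u} [Group G] [Finite G] (X : Subgroup G) (q : ℕ) [Fact q.Prime]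
    (Q₀ : Sylow q X) (Q : Subgroup G) (hQ : Q = (Q₀ : Subgroup X).map X.subtype) (g : G)
    (hg : MulAut.conj g • Q ≤ X) :
    ∃ x ∈ X, MulAut.conj g • Q = MulAut.conj x • Q := by
  have hQX : Q ≤ X := hQ ▸ Subgroup.map_subtype_le _
  have hQ₀ : (Q₀ : Subgroup X) = Q.subgroupOf X := by
    rw [hQ, Subgroup.subgroupOf, Subgroup.comap_map_eq_self_of_injective X.subtype_injective]
  have hpQ : IsPGroup q Q := hQ ▸ Q₀.2.map _
  have hpQ' : IsPGroup q (MulAut.conj g • Q : Subgroup G) := by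
    rw [Subgroup.pointwise_smul_def]
    exact hpQ.map _
  have hP' : IsPGroup q ((MulAut.conj g • Q : Subgroup G).subgroupOf X) := hpQ'.comap_subtype
  obtain ⟨Q₂, hQ₂⟩ := hP'.exists_le_sylow
  obtain ⟨x, hx⟩ := MulAction.exists_smul_eq X Q₀ Q₂
  have hc1 : Nat.card (Q₂ : Subgroup X) = Nat.card (Q₀ : Subgroup X) := by
    rw [Sylow.card_eq_multiplicity, Sylow.card_eq_multiplicity]
  have hc2 : Nat.card ((MulAut.conj g • Q : Subgroup G).subgroupOf X) = Nat.card (Q₀ : Subgroup X) := by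
    rw [Nat.card_congr (Subgroup.subgroupOfEquivOfLe hg).toEquiv, hQ₀,
      Nat.card_congr (Subgroup.subgroupOfEquivOfLe hQX).toEquiv, Subgroup.pointwise_smul_def]
    exact Subgroup.card_map_of_injective (MulAut.conj g).injective
  have heq : (MulAut.conj g • Q : Subgroup G).subgroupOf X = (Q₂ : Subgroup X) :=
    Subgroup.eq_of_le_of_card_ge hQ₂ (by rw [hc1, hc2])
  refine ⟨x.1, x.2, ?_⟩
  rw [← hx, Sylow.coe_subgroup_smul, hQ₀, Subgroup.conj_smul_subgroupOf hQX] at heq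
  have h1 := congrArg (Subgroup.map X.subtype) heq
  rw [Subgroup.map_subgroupOf_eq_of_le hg,
    Subgroup.map_subgroupOf_eq_of_le (Subgroup.conj_smul_le_of_le hQX x)] at h1
  exact h1

theorem hom_quotient {π : Set ℕ} {G : Type u} [Group G] [Finite G] (hH : Hom π G)
    (N : Subgroup G) [N.Normal] : Hom π (G ⧸ N) := by
  intro q hq hqπ Qb hQb hQbne r hr hrπ gb hgb hgbo
  have : Fact q.Prime := ⟨hq⟩
  obtain ⟨f, hfdef⟩ : ∃ f : G →* G ⧸ N, f = QuotientGroup.mk' N := ⟨_, rfl⟩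
  have hf : Function.Surjective f := hfdef ▸ QuotientGroup.mk'_surjective N
  have hker : ∀ x : G, f x = 1 ↔ x ∈ N := by
    intro x
    rw [hfdef]
    exact QuotientGroup.eq_one_iff x
  obtain ⟨Q₀⟩ : Nonempty (Sylow q (Qb.comap f)) := inferInstance
  obtain ⟨Q, hQ⟩ : ∃ Q : Subgroup G, Q = (Q₀ : Subgroup (Qb.comap f)).map (Qb.comap f).subtype :=
    ⟨_, rfl⟩
  have hQX : Q ≤ Qb.comap f := hQ ▸ Subgroup.map_subtype_le _
  have hpQ : IsPGroup q Q := hQ ▸ Q₀.2.map _
  -- Step 1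
  have hmap : Q.map f = Qb := by
    apply le_antisymm (Subgroup.map_le_iff_le_comap.mpr hQX)
    have hf' : Function.Surjective (f.subgroupComap Qb) :=
      MonoidHom.subgroupComap_surjective_of_surjective f Qb hf
    have hidx : ((Q₀ : Subgroup (Qb.comap f)).map (f.subgroupComap Qb)).index = 1 := by
      have h1 := Subgroup.index_map_dvd (Q₀ : Subgroup (Qb.comap f)) hf'
      obtain ⟨n, hn⟩ := hQb.index ((Q₀ : Subgroup (Qb.comap f)).map (f.subgroupComap Qb))
      rw [hn] at h1 ⊢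
      rcases Nat.eq_zero_or_pos n with rfl | hn0
      · rfl
      · exact absurd ((dvd_pow_self q hn0.ne').trans h1) Q₀.not_dvd_index
    rw [Subgroup.index_eq_one] at hidx
    intro yb hyb
    have : (⟨yb, hyb⟩ : Qb) ∈ (Q₀ : Subgroup (Qb.comap f)).map (f.subgroupComap Qb) := by
      rw [hidx]; trivial
    obtain ⟨y, hy, hyy⟩ := this
    refine ⟨y.1, ?_, ?_⟩
    · rw [hQ]; exact ⟨y, hy, rfl⟩
    · exact congrArg Subtype.val hyy
  have hQne : Q ≠ ⊥ := by
    rintro rfl
    rw [Subgroup.map_bot] at hmap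
    exact hQbne hmap.symm
  -- Step 2
  obtain ⟨g, rfl⟩ := hf gb
  have hgX : MulAut.conj g • Q ≤ Qb.comap f := by
    rintro - ⟨u, hu, rfl⟩
    rw [Subgroup.mem_comap]
    have hu' : f u ∈ Qb := hQX hu
    have := (Subgroup.mem_normalizer_iff.mp hgb (f u)).mp hu'
    simpa using this
  obtain ⟨x, hxX, hx⟩ := exists_conj_eq (Qb.comap f) q Q₀ Q hQ g hgX
  obtain ⟨u, huQ, hux⟩ : ∃ u ∈ Q, f u = f x := by
    have : f x ∈ Q.map f := by rw [hmap]; exact hxX
    obtain ⟨u, hu, huu⟩ := this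
    exact ⟨u, hu, huu⟩
  obtain ⟨n, hn⟩ : ∃ n : G, n = x * u⁻¹ := ⟨_, rfl⟩
  have hnN : n ∈ N := by
    rw [← hker, hn, map_mul, map_inv, hux, mul_inv_cancel]
  have hxn : x = n * u := by rw [hn]; group
  have hng : n⁻¹ * g ∈ Subgroup.normalizer (Q : Set G) := by
    rw [Subgroup.mem_normalizer_iff_map_conj_eq]
    have : MulAut.conj (n⁻¹ * g) • Q = Q := by
      rw [map_mul, mul_smul, hx, hxn, map_mul, mul_smul, Subgroup.conj_smul_eq_self_of_mem huQ,
        ← mul_smul, ← map_mul, inv_mul_cancel, map_one, one_smul]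
    exact this
  -- Step 3
  obtain ⟨g', hg'⟩ : ∃ g' : G, g' = n⁻¹ * g := ⟨_, rfl⟩
  rw [← hg'] at hng
  have hfg' : f g' = f g := by
    rw [hg', map_mul, map_inv, (hker n).mpr hnN, inv_one, one_mul]
  obtain ⟨k, hk⟩ := hgbo
  obtain ⟨a, m', hm', hmm⟩ :=
    Nat.exists_eq_pow_mul_and_not_dvd (orderOf_pos g').ne' r hr.ne_one
  have hcop : Nat.Coprime m' (orderOf (f g)) := by
    rw [hk]
    exact Nat.Coprime.pow_right k ((Nat.Prime.coprime_iff_not_dvd hr).mpr hm').symm
  obtain ⟨j, hj⟩ := exists_pow_eq_self_of_coprime hcop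
  obtain ⟨h, hh⟩ : ∃ h : G, h = (g' ^ m') ^ j := ⟨_, rfl⟩
  have hh_norm : h ∈ Subgroup.normalizer (Q : Set G) := by
    rw [hh]; exact Subgroup.pow_mem _ (Subgroup.pow_mem _ hng _) _
  have hh_ord : ∃ b, orderOf h = r ^ b := by
    have h1 : h ^ (r ^ a) = 1 := by
      rw [hh, ← pow_mul, ← pow_mul]
      have : m' * (j * r ^ a) = orderOf g' * j := by rw [hmm]; ring
      rw [this, pow_mul, pow_orderOf_eq_one, one_pow]
    obtain ⟨b, _, hb⟩ := (Nat.dvd_prime_pow hr).mp (orderOf_dvd_of_pow_eq_one h1)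
    exact ⟨b, hb⟩
  have hc := hH q hq hqπ Q hpQ hQne r hr hrπ h hh_norm hh_ord
  have hfh : f h = f g := by
    rw [hh, map_pow, map_pow, hfg', hj]
  rw [Subgroup.mem_centralizer_iff]
  intro yb hyb
  rw [← hmap] at hyb
  obtain ⟨y, hy, rfl⟩ := hyb
  rw [← hfh, ← map_mul, ← map_mul]
  congr 1
  exact Subgroup.mem_centralizer_iff.mp hc y hy



theorem eq_one_of_isPiElt {π : Set ℕ} {G : Type*} [Group G] {x : G} (hx : IsPiElt π x)
    (hx' : ∀ p : ℕ, p.Prime → p ∣ orderOf x → p ∉ π) : x = 1 := by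
  rw [← orderOf_eq_one_iff]
  by_contra hne
  obtain ⟨p, hp, hpd⟩ := Nat.exists_prime_and_dvd hne
  exact hx' p hp hpd (hx p hp hpd)

theorem pi_case {π : Set ℕ} {G : Type u} [Group G] [Finite G] (N : Subgroup G) [N.Normal]
    (hN : ∀ q : ℕ, q.Prime → q ∣ Nat.card N → q ∈ π) (Kb : Subgroup (G ⧸ N))
    (hKb : ∀ x : G ⧸ N, x ∈ Kb ↔ IsPiElt π x) :
    ∃ K : Subgroup G, ∀ x : G, x ∈ K ↔ IsPiElt π x := by
  refine ⟨Kb.comap (QuotientGroup.mk' N), fun x => ?_⟩
  rw [Subgroup.mem_comap, hKb]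
  constructor
  · intro hx p hp hpd
    have h1 : x ^ (orderOf (QuotientGroup.mk' N x)) ∈ N := by
      rw [← QuotientGroup.eq_one_iff, QuotientGroup.mk_pow]
      exact pow_orderOf_eq_one _
    have h2 : orderOf x ∣ orderOf (QuotientGroup.mk' N x) * Nat.card N := by
      apply orderOf_dvd_of_pow_eq_one
      rw [pow_mul]
      have := pow_card_eq_one' (G := N) (x := ⟨_, h1⟩)
      exact congrArg Subtype.val this
    rcases (Nat.Prime.dvd_mul hp).mp (hpd.trans h2) with h | h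
    · exact hx p hp h
    · exact hN p hp h
  · intro hx p hp hpd
    exact hx p hp (hpd.trans (orderOf_map_dvd _ x))

theorem pi'_case {π : Set ℕ} {G : Type u} [Group G] [Finite G] (N : Subgroup G) [N.Normal]
    (hN : ∀ q : ℕ, q.Prime → q ∣ Nat.card N → q ∉ π)
    (hcent : ∀ x : G, IsPiElt π x → x ∈ Subgroup.centralizer (N : Set G))
    (Kb : Subgroup (G ⧸ N))
    (hKb : ∀ x : G ⧸ N, x ∈ Kb ↔ IsPiElt π x) :
    ∃ K : Subgroup G, ∀ x : G, x ∈ K ↔ IsPiElt π x := by
  obtain ⟨C, hC⟩ : ∃ C : Subgroup G,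
      C = Kb.comap (QuotientGroup.mk' N) ⊓ Subgroup.centralizer (N : Set G) := ⟨_, rfl⟩
  have hCK : ∀ c : C, IsPiElt π (QuotientGroup.mk' N (c : G)) := by
    intro c
    have : (c : G) ∈ Kb.comap (QuotientGroup.mk' N) ⊓ Subgroup.centralizer (N : Set G) := hC ▸ c.2
    exact (hKb _).mp this.1
  have hCc : ∀ c : C, ∀ z ∈ N, z * (c : G) = (c : G) * z := by
    intro c z hz
    have : (c : G) ∈ Kb.comap (QuotientGroup.mk' N) ⊓ Subgroup.centralizer (N : Set G) := hC ▸ c.2
    exact Subgroup.mem_centralizer_iff.mp this.2 z hz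
  have hmemC : ∀ x : G, IsPiElt π x → x ∈ C := by
    intro x hx
    rw [hC]
    refine Subgroup.mem_inf.mpr ⟨?_, hcent x hx⟩
    rw [Subgroup.mem_comap, hKb]
    intro p hp hpd
    exact hx p hp (hpd.trans (orderOf_map_dvd _ x))
  obtain ⟨Z, hZ⟩ : ∃ Z : Subgroup C, Z = N.subgroupOf C := ⟨_, rfl⟩
  have hZn : Z.Normal := hZ ▸ inferInstance
  have hZcard : ∀ p : ℕ, p.Prime → p ∣ Nat.card Z → p ∉ π := by
    intro p hp hpd
    apply hN p hp
    refine hpd.trans ?_
    rw [hZ]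
    have : Nat.card (N.subgroupOf C) = Nat.card (N ⊓ C : Subgroup G) := by
      rw [← Subgroup.subgroupOf_map_subtype, Subgroup.card_map_of_injective C.subtype_injective]
    rw [this]
    exact Subgroup.card_dvd_of_le inf_le_left
  have hZidx : ∀ p : ℕ, p.Prime → p ∣ Z.index → p ∈ π := by
    intro p hp hpd
    have : Fact p.Prime := ⟨hp⟩
    rw [Subgroup.index_eq_card] at hpd
    obtain ⟨cb, hcb⟩ := exists_prime_orderOf_dvd_card' p hpd
    obtain ⟨c, rfl⟩ := QuotientGroup.mk_surjective cb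
    have h1 : (c : G) ^ (orderOf (QuotientGroup.mk' N (c : G))) ∈ N := by
      rw [← QuotientGroup.eq_one_iff, QuotientGroup.mk_pow]
      exact pow_orderOf_eq_one _
    have h2 : c ^ (orderOf (QuotientGroup.mk' N (c : G))) ∈ Z := by
      rw [hZ, Subgroup.mem_subgroupOf]
      exact h1
    have h3 : (QuotientGroup.mk c : C ⧸ Z) ^ (orderOf (QuotientGroup.mk' N (c : G))) = 1 := by
      rw [← QuotientGroup.mk_pow]
      exact (QuotientGroup.eq_one_iff _).mpr h2
    have h4 := orderOf_dvd_of_pow_eq_one h3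
    rw [hcb] at h4
    exact hCK c p hp h4
  have hcop : Nat.Coprime (Nat.card Z) Z.index :=
    Nat.coprime_of_dvd fun p hp h1 h2 => hZcard p hp h1 (hZidx p hp h2)
  obtain ⟨L, hL⟩ := Subgroup.exists_left_complement'_of_coprime hcop
  have hLcard : Nat.card L = Z.index := hL.index_eq_card.symm
  have hZcentral : ∀ z ∈ Z, ∀ c : C, z * c = c * z := by
    intro z hz c
    rw [hZ, Subgroup.mem_subgroupOf] at hz
    exact Subtype.ext (hCc c z hz)
  refine ⟨L.map C.subtype, fun x => ⟨?_, fun hx => ?_⟩⟩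
  · rintro ⟨l, hl, rfl⟩ p hp hpd
    apply hZidx p hp
    rw [← hLcard]
    refine hpd.trans ?_
    rw [Subgroup.subtype_apply, Subgroup.orderOf_coe]
    have := orderOf_dvd_natCard (⟨l, hl⟩ : L)
    rwa [Subgroup.orderOf_mk] at this
  · obtain ⟨c, hc⟩ : ∃ c : C, (c : G) = x := ⟨⟨x, hmemC x hx⟩, rfl⟩
    have hcπ : IsPiElt π c := by
      intro p hp hpd
      rw [← Subgroup.orderOf_coe, hc] at hpd
      exact hx p hp hpd
    obtain ⟨⟨⟨l, hl⟩, ⟨z, hz⟩⟩, hlz, -⟩ := (Subgroup.isComplement'_def.mp hL).existsUnique c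
    simp only at hlz
    have hcomm : Commute l z := (hZcentral z hz l).symm
    have hlm : l ^ Nat.card L = 1 := by
      have := pow_card_eq_one' (G := L) (x := ⟨l, hl⟩)
      exact congrArg Subtype.val this
    have hzm : c ^ Nat.card L = z ^ Nat.card L := by
      rw [← hlz, hcomm.mul_pow, hlm, one_mul]
    have hzπ' : ∀ k : ℕ, ∀ p : ℕ, p.Prime → p ∣ orderOf (z ^ k) → p ∉ π := by
      intro k p hp hpd
      apply hZcard p hp
      refine (hpd.trans (orderOf_pow_dvd k)).trans ?_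
      have := orderOf_dvd_natCard (⟨z, hz⟩ : Z)
      rwa [Subgroup.orderOf_mk] at this
    have hz1 : z ^ Nat.card L = 1 := by
      apply eq_one_of_isPiElt (π := π) _ (hzπ' _)
      rw [← hzm]
      exact isPiElt_pow hcπ _
    have hz2 : z = 1 := by
      apply eq_one_of_isPiElt (π := π) _ (by simpa using hzπ' 1)
      intro p hp hpd
      apply hZidx p hp
      rw [← hLcard]
      exact hpd.trans (orderOf_dvd_of_pow_eq_one hz1)
    rw [hz2, mul_one] at hlz
    refine ⟨l, hl, ?_⟩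
    rw [hlz]
    exact hc


theorem main (π : Set ℕ) : ∀ (n : ℕ) (G : Type u) [Group G] [Finite G], Nat.card G = n →
    PiSep π G → Hom π G → ∃ K : Subgroup G, ∀ x : G, x ∈ K ↔ IsPiElt π x := by
  intro n
  induction n using Nat.strong_induction_on with
  | _ n ih =>
  intro G _ _ hn hsep hhom
  by_cases htriv : Subsingleton G
  · refine ⟨⊤, fun x => ⟨fun _ p hp hd => ?_, fun _ => trivial⟩⟩
    have : x = 1 := Subsingleton.elim _ _
    rw [this, orderOf_one] at hd
    exact absurd (Nat.dvd_one.mp hd) hp.ne_one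
  · have : Nontrivial G := not_subsingleton_iff_nontrivial.mp htriv
    obtain ⟨N, hNn, hNne, hN⟩ := exists_first hsep
    have hsepq := piSep_quotient N hsep
    have hhomq := hom_quotient hhom N
    have hlt : Nat.card (G ⧸ N) < n := by
      rw [← hn, ← Subgroup.index_eq_card, ← Subgroup.card_mul_index N]
      have h1 : 1 < Nat.card N := by
        rw [Nat.one_lt_iff_ne_zero_and_ne_one]
        exact ⟨Nat.card_pos.ne', fun h => hNne (Subgroup.card_eq_one.mp h)⟩
      have h2 : 0 < N.index := Nat.pos_of_ne_zero Subgroup.index_ne_zero_of_finite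
      nlinarith
    obtain ⟨Kb, hKb⟩ := ih _ hlt (G ⧸ N) rfl hsepq hhomq
    rcases hN with hN | hN
    · exact pi_case N hN Kb hKb
    · refine pi'_case N hN ?_ Kb hKb
      exact mem_of_primary (Subgroup.centralizer (N : Set G))
        (fun r hr hrπ a ha => centralizes_of_hom hhom N hN r hr hrπ a ha)




theorem hom_of_star {π : Set ℕ} {G : Type u} [Group G] [Finite G]
    (h : ∀ H : Subgroup G, H ≠ ⊥ → (∀ p : ℕ, p.Prime → p ∣ Nat.card ↥H → p ∉ π) →
        ∀ p : ℕ, p.Prime → p ∣ (Subgroup.centralizer (H : Set G)).relIndex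
          (Subgroup.normalizer (H : Set G)) → p ∉ π) : Hom π G := by
  intro q hq hqπ Q hpQ hQne r hr hrπ g hgN ⟨k, hk⟩
  have : Fact q.Prime := ⟨hq⟩
  have hQπ : ∀ p : ℕ, p.Prime → p ∣ Nat.card Q → p ∉ π := by
    intro p hp hpd
    obtain ⟨n, hn⟩ := IsPGroup.iff_card.mp hpQ
    rw [hn] at hpd
    rw [(Nat.prime_dvd_prime_iff_eq hp hq).mp (hp.dvd_of_dvd_pow hpd)]
    exact hqπ
  have hr' : ¬ r ∣ (Subgroup.centralizer (Q : Set G)).relIndex (Subgroup.normalizer (Q : Set G)) :=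
    fun hd => h Q hQne hQπ r hr hd hrπ
  rw [Subgroup.relIndex] at hr'
  have h1 : (QuotientGroup.mk (⟨g, hgN⟩ : Subgroup.normalizer (Q : Set G)) :
      Subgroup.normalizer (Q : Set G) ⧸
        (Subgroup.centralizer (Q : Set G)).subgroupOf (Subgroup.normalizer (Q : Set G))) ^
        ((Subgroup.centralizer (Q : Set G)).subgroupOf (Subgroup.normalizer (Q : Set G))).index = 1 := by
    rw [Subgroup.index_eq_card]
    exact pow_card_eq_one'
  have h2 : (QuotientGroup.mk (⟨g, hgN⟩ : Subgroup.normalizer (Q : Set G)) :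
      Subgroup.normalizer (Q : Set G) ⧸
        (Subgroup.centralizer (Q : Set G)).subgroupOf (Subgroup.normalizer (Q : Set G))) ^
        (r ^ k) = 1 := by
    rw [← QuotientGroup.mk_pow, ← hk]
    have : (⟨g, hgN⟩ : Subgroup.normalizer (Q : Set G)) ^ orderOf g = 1 := by
      apply Subtype.ext
      simp [pow_orderOf_eq_one]
    rw [this]
    rfl
  have h3 := pow_gcd_eq_one.mpr ⟨h1, h2⟩
  have hcop : Nat.Coprime
      ((Subgroup.centralizer (Q : Set G)).subgroupOf (Subgroup.normalizer (Q : Set G))).index (r ^ k) :=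
    Nat.Coprime.pow_right k ((Nat.Prime.coprime_iff_not_dvd hr).mpr hr').symm
  rw [hcop.gcd_eq_one, pow_one, QuotientGroup.eq_one_iff, Subgroup.mem_subgroupOf] at h3
  exact h3

theorem forward {G : Type u} [Group G] [Finite G] (π : Set ℕ)
    (K : Subgroup G) (hK : ∀ x : G, x ∈ K ↔ IsPiElt π x) :
    PiSep π G ∧
     (∀ H : Subgroup G, H ≠ ⊥ → (∀ p : ℕ, p.Prime → p ∣ Nat.card ↥H → p ∉ π) →
        ∀ p : ℕ, p.Prime → p ∣ (Subgroup.centralizer (H : Set G)).relIndex
          (Subgroup.normalizer (H : Set G)) → p ∉ π) := by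
  have hKn : K.Normal := by
    refine ⟨fun n hn g => ?_⟩
    rw [hK] at hn ⊢
    intro p hp hpd
    apply hn p hp
    have : orderOf (g * n * g⁻¹) = orderOf n := by
      have := orderOf_injective (MulAut.conj g).toMonoidHom (MulAut.conj g).injective n
      simpa using this
    rwa [this] at hpd
  have hpK : ∀ p : ℕ, p.Prime → p ∈ π → ∀ x : G, (∃ k, orderOf x = p ^ k) → x ∈ K := by
    intro p hp hpπ x ⟨k, hk⟩
    rw [hK]
    intro p' hp' hpd
    rw [hk] at hpd
    rw [(Nat.prime_dvd_prime_iff_eq hp' hp).mp (hp'.dvd_of_dvd_pow hpd)]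
    exact hpπ
  have hKcard : ∀ p : ℕ, p.Prime → p ∣ Nat.card K → p ∈ π := by
    intro p hp hpd
    have : Fact p.Prime := ⟨hp⟩
    obtain ⟨x, hx⟩ := exists_prime_orderOf_dvd_card' p hpd
    have := (hK x).mp x.2 p hp
    rw [Subgroup.orderOf_coe, hx] at this
    exact this dvd_rfl
  have hKidx : ∀ p : ℕ, p.Prime → p ∣ K.index → p ∉ π := by
    intro p hp hpd hpπ
    have : Fact p.Prime := ⟨hp⟩
    obtain ⟨P⟩ : Nonempty (Sylow p G) := inferInstance
    have hPK : (P : Subgroup G) ≤ K := by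
      intro x hx
      apply hpK p hp hpπ
      obtain ⟨k, hk⟩ := P.2 ⟨x, hx⟩
      have h1 : x ^ p ^ k = 1 := congrArg Subtype.val hk
      obtain ⟨b, _, hb⟩ := (Nat.dvd_prime_pow hp).mp (orderOf_dvd_of_pow_eq_one h1)
      exact ⟨b, hb⟩
    exact P.not_dvd_index (hpd.trans (Subgroup.index_dvd_of_le hPK))
  refine ⟨?_, ?_⟩
  · refine ⟨2, ![⊥, K, ⊤], rfl, rfl, ?_, ?_, ?_⟩
    · rw [Fin.monotone_iff_le_succ]
      intro i
      fin_cases i
      · exact bot_le
      · exact le_top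
    · intro i
      fin_cases i
      · exact Subgroup.normal_bot
      · exact hKn
      · exact Subgroup.normal_top
    · intro i
      fin_cases i
      · left
        intro q hq hqd
        simp only [Fin.zero_eta, Fin.castSucc_zero, Matrix.cons_val_zero, Fin.succ_zero_eq_one,
          Matrix.cons_val_one, Subgroup.relIndex_bot_left] at hqd
        exact hKcard q hq hqd
      · right
        intro q hq hqd
        have : (K.relIndex ⊤) = K.index := Subgroup.relIndex_top_right K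
        exact hKidx q hq (this ▸ hqd)
  · intro H hHne hHπ p hp hpd hpπ
    have : Fact p.Prime := ⟨hp⟩
    rw [Subgroup.relIndex] at hpd
    obtain ⟨P⟩ : Nonempty (Sylow p (Subgroup.normalizer (H : Set G))) := inferInstance
    have hKH : ∀ y : G, y ∈ K → y ∈ H → y = 1 := by
      intro y hyK hyH
      apply eq_one_of_isPiElt ((hK y).mp hyK)
      intro p' hp' hpd'
      apply hHπ p' hp'
      refine hpd'.trans ?_
      have := orderOf_dvd_natCard (⟨y, hyH⟩ : H)
      rwa [Subgroup.orderOf_mk] at this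
    have hPC : (P : Subgroup (Subgroup.normalizer (H : Set G))) ≤
        (Subgroup.centralizer (H : Set G)).subgroupOf (Subgroup.normalizer (H : Set G)) := by
      intro x hx
      rw [Subgroup.mem_subgroupOf, Subgroup.mem_centralizer_iff]
      intro h hh
      have hxK : (x : G) ∈ K := by
        apply hpK p hp hpπ
        obtain ⟨k, hk⟩ := P.2 ⟨x, hx⟩
        have h1 : (x : G) ^ p ^ k = 1 := by
          have := congrArg Subtype.val hk
          simpa using congrArg Subtype.val this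
        obtain ⟨b, _, hb⟩ := (Nat.dvd_prime_pow hp).mp (orderOf_dvd_of_pow_eq_one h1)
        exact ⟨b, hb⟩
      have h1 : (x : G) * h * (x : G)⁻¹ ∈ H := (Subgroup.mem_normalizer_iff.mp x.2 h).mp hh
      have h2 : (x : G) * h * (x : G)⁻¹ * h⁻¹ ∈ H := H.mul_mem h1 (H.inv_mem hh)
      have h3 : (x : G) * h * (x : G)⁻¹ * h⁻¹ ∈ K := by
        have : (x : G) * h * (x : G)⁻¹ * h⁻¹ = (x : G) * (h * (x : G)⁻¹ * h⁻¹) := by group
        rw [this]
        exact K.mul_mem hxK (hKn.conj_mem _ (K.inv_mem hxK) h)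
      have h4 := hKH _ h3 h2
      have : (x : G) * h = h * (x : G) := by
        calc (x : G) * h = ((x : G) * h * (x : G)⁻¹ * h⁻¹) * (h * x) := by group
          _ = h * x := by rw [h4, one_mul]
      exact this.symm
    exact P.not_dvd_index (hpd.trans (Subgroup.index_dvd_of_le hPC))


/-- Let π be a set of primes and G a finite group. The π-elements of G (elements whose order is divisible only by primes of π) form a subgroup if and only if G is π-separable (it has a chain of normal subgroups from 1 to G with each successive index divisible only by primes in π or only by primes outside π) and N_G(H)/C_G(H) is a π'-group for every nontrivial π'-subgroup H of G. -/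
theorem result {G : Type*} [Group G] [Finite G] (π : Set ℕ)
    (hπ : ∀ p ∈ π, p.Prime) :
    (∃ K : Subgroup G, ∀ x : G, x ∈ K ↔ ∀ p : ℕ, p.Prime → p ∣ orderOf x → p ∈ π) ↔
    ((∃ (n : ℕ) (H : Fin (n + 1) → Subgroup G), H 0 = ⊥ ∧ H (Fin.last n) = ⊤ ∧ Monotone H ∧ (∀ i, (H i).Normal) ∧
      ∀ i : Fin n, (∀ q : ℕ, q.Prime → q ∣ (H i.castSucc).relIndex (H i.succ) → q ∈ π) ∨
        (∀ q : ℕ, q.Prime → q ∣ (H i.castSucc).relIndex (H i.succ) → q ∉ π)) ∧
     (∀ H : Subgroup G, H ≠ ⊥ → (∀ p : ℕ, p.Prime → p ∣ Nat.card ↥H → p ∉ π) →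
        ∀ p : ℕ, p.Prime → p ∣ (Subgroup.centralizer (H : Set G)).relIndex (Subgroup.normalizer (H : Set G)) → p ∉ π)) := by
  constructor
  · rintro ⟨K, hK⟩
    exact forward π K hK
  · rintro ⟨hsep, hstar⟩
    exact main π _ G rfl hsep (hom_of_star hstar)

end Cfsg.Agent.S4050
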