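import Cfsg.Statements.S4056
import Cfsg.Agent.Lib.Helper24_Coprime
import Cfsg.Agent.Lib.Helper1_Frattini

set_option autoImplicit false
open Cfsg

namespace Cfsg.Agent.S4056

open scoped commutatorElement

/-- In a finite 2-group of nilpotency class at most 2 and exponent dividing 4, the Frattini subgroup lies in the centre and is elementary abelian. -/
theorem result {P : Type*} [Group P] [Finite P] (hP : IsPGroup 2 P)
    (hcl : Group.nilpotencyClass P ≤ 2) (hexp : Monoid.exponent P ∣ 4) :
    frattini P ≤ Subgroup.center P ∧ Cfsg.IsElementaryAbelian 2 (frattini P) := by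
  haveI : Fact (Nat.Prime 2) := ⟨Nat.prime_two⟩
  haveI : Group.IsNilpotent P := hP.isNilpotent
  -- commutators are central
  have hcent : ∀ a b : P, ⁅a, b⁆ ∈ Subgroup.center P := by
    intro a b
    have h2 : Subgroup.upperCentralSeries P 2 = ⊤ :=
      Subgroup.upperCentralSeries_eq_top_iff_nilpotencyClass_le.2 hcl
    have ha : a ∈ Subgroup.upperCentralSeries P (1 + 1) := by rw [h2]; exact Subgroup.mem_top a
    have := (Subgroup.mem_upperCentralSeries_succ_iff.1 ha) b
    rwa [Subgroup.upperCentralSeries_one] at this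
  have h4 : ∀ x : P, x ^ 4 = 1 := fun x =>
    (Monoid.exponent_dvd_iff_forall_pow_eq_one.1 hexp) x
  -- the commutator `v u v⁻¹ u⁻¹` commutes with everything
  have hcomm : ∀ u v z : P, (v * u * v⁻¹ * u⁻¹) * z = z * (v * u * v⁻¹ * u⁻¹) := by
    intro u v z
    have := hcent v u
    rw [commutatorElement_def, Subgroup.mem_center_iff] at this
    exact (this z).symm
  -- commutators have order at most 2
  have hc2 : ∀ u v : P, (v * u * v⁻¹ * u⁻¹) ^ 2 = 1 := by
    intro u v
    set c := v * u * v⁻¹ * u⁻¹ with hc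
    have e1 := Cfsg.Agent.Lib.Helper24_Coprime.pow_mul_comm_of_central u v (hcomm u v v) 4
    rw [h4 v, one_mul, mul_one] at e1
    have hc4 : c ^ 4 = 1 := by
      have : 1 * u = c ^ 4 * u := by rw [one_mul]; exact e1
      exact (mul_right_cancel this).symm
    have e2 := Cfsg.Agent.Lib.Helper24_Coprime.mul_pow_of_central u v (hcomm u v u) (hcomm u v v) 4
    rw [h4, h4, h4, one_mul, one_mul] at e2
    have hc6 : c ^ 6 = 1 := by
      have : Nat.choose 4 2 = 6 := by decide
      rw [this] at e2
      exact e2.symm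
    have : c ^ 6 = c ^ 4 * c ^ 2 := by rw [← pow_add]
    rw [this, hc4, one_mul] at hc6
    exact hc6
  -- squares are central
  have hsq : ∀ v : P, v ^ 2 ∈ Subgroup.center P := by
    intro v
    rw [Subgroup.mem_center_iff]
    intro u
    have e1 := Cfsg.Agent.Lib.Helper24_Coprime.pow_mul_comm_of_central u v (hcomm u v v) 2
    rw [hc2 u v, one_mul] at e1
    exact e1.symm
  -- the subgroup generated by squares
  set D : Subgroup P := Subgroup.closure {z : P | ∃ x : P, z = x ^ 2} with hD
  have hDcent : D ≤ Subgroup.center P := by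
    rw [hD, Subgroup.closure_le]
    rintro z ⟨x, rfl⟩
    exact hsq x
  have hDsq : ∀ x : P, x ^ 2 ∈ D := fun x => Subgroup.subset_closure ⟨x, rfl⟩
  have hDcomm : commutator P ≤ D := by
    rw [commutator_eq_closure, Subgroup.closure_le]
    rintro _ ⟨a, b, rfl⟩
    have : ⁅a, b⁆ = a ^ 2 * (a⁻¹ * b) ^ 2 * (b⁻¹) ^ 2 := by
      rw [commutatorElement_def, pow_two, pow_two, pow_two]; group
    rw [this]
    exact D.mul_mem (D.mul_mem (hDsq a) (hDsq _)) (hDsq _)
  have hfr : frattini P ≤ D :=
    Cfsg.Agent.Lib.Helper1_Frattini.frattini_le_of_elementary_quotient (p := 2) D hDcomm hDsq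
  -- elements of D have order at most 2
  have hDexp : ∀ a ∈ D, a ^ 2 = 1 := by
    intro a ha
    have : a ∈ Subgroup.center P ∧ a ^ 2 = 1 := by
      rw [hD] at ha
      induction ha using Subgroup.closure_induction with
      | mem z hz =>
        obtain ⟨x, rfl⟩ := hz
        refine ⟨hsq x, ?_⟩
        rw [← pow_mul]; exact h4 x
      | one => exact ⟨Subgroup.one_mem _, one_pow 2⟩
      | mul a b _ _ iha ihb =>
        refine ⟨Subgroup.mul_mem _ iha.1 ihb.1, ?_⟩
        have hab : Commute a b := by
          exact Subgroup.mem_center_iff.1 ihb.1 a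
        rw [hab.mul_pow, iha.2, ihb.2, one_mul]
      | inv a _ iha =>
        refine ⟨Subgroup.inv_mem _ iha.1, ?_⟩
        rw [inv_pow, iha.2, inv_one]
    exact this.2
  refine ⟨hfr.trans hDcent, ?_, ?_⟩
  · rw [isMulCommutative_iff]
    intro a b
    apply Subtype.ext
    exact Subgroup.mem_center_iff.1 (hDcent (hfr b.2)) (a : P)
  · intro a ha
    exact hDexp a (hfr ha)

end Cfsg.Agent.S4056
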