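import Cfsg.Statements.S4059
import Cfsg.Agent.Lib.Helper67_Basic

set_option autoImplicit false
open Cfsg

namespace Cfsg.Agent.S4059

open Cfsg.Agent.Lib.Helper67_Basic
open scoped commutatorElement

/-- Let G be a finite group in which every element is conjugate to its inverse. Then: every non-identity element commuting with all elements of some Sylow 2-subgroup is an involution; the centre of G is an elementary abelian 2-group; the commutator quotient G/G' is an elementary abelian 2-group; and G is generated by its 2-elements. -/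
theorem result {G : Type*} [Group G] [Finite G] (hamb : ∀ x : G, IsConj x x⁻¹) :
    (∀ (S : Sylow 2 G) (x : G), x ∈ Subgroup.centralizer ((S : Subgroup G) : Set G) → x ≠ 1 → orderOf x = 2) ∧
    (∀ z : G, z ∈ Subgroup.center G → z ^ 2 = 1) ∧
    (∀ x : G, x ^ 2 ∈ commutator G) ∧
    Subgroup.closure {x : G | ∃ k : ℕ, orderOf x = 2 ^ k} = ⊤ := by
  have : Fact (Nat.Prime 2) := ⟨Nat.prime_two⟩
  refine ⟨?_, ?_, ?_, ?_⟩
  · intro S x hx hx1
    have h2 := sq_eq_one_of_isConj_inv_of_mem_centralizer_sylow (hamb x) S hx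
    exact orderOf_eq_prime h2 hx1
  · intro z hz
    obtain ⟨c, hc⟩ := isConj_iff.1 (hamb z)
    have h1 : c * z * c⁻¹ = z := by
      rw [Subgroup.mem_center_iff] at hz
      rw [hz c]; group
    have h2 : z = z⁻¹ := h1.symm.trans hc
    rw [pow_two]
    nth_rewrite 1 [h2]
    exact inv_mul_cancel z
  · intro x
    obtain ⟨g, hg⟩ := isConj_iff.1 (hamb x)
    have h1 : x ^ 2 = ⁅x, g⁆ := by
      rw [commutatorElement_def, pow_two]
      have : g * x⁻¹ * g⁻¹ = x := by
        calc g * x⁻¹ * g⁻¹ = (g * x * g⁻¹)⁻¹ := by group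
          _ = (x⁻¹)⁻¹ := by rw [hg]
          _ = x := inv_inv x
      calc x * x = x * (g * x⁻¹ * g⁻¹) := by rw [this]
        _ = x * g * x⁻¹ * g⁻¹ := by group
    rw [h1, commutator_def]
    exact Subgroup.commutator_mem_commutator (Subgroup.mem_top x) (Subgroup.mem_top g)
  · rw [eq_top_iff]
    intro x _
    set T := Subgroup.closure {x : G | ∃ k : ℕ, orderOf x = 2 ^ k} with hT
    have hpos : orderOf x ≠ 0 := (orderOf_pos x).ne'
    obtain ⟨k, m, hm, hkm⟩ := Nat.exists_eq_two_pow_mul_odd hpos
    -- the 2-part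
    have h2part : x ^ m ∈ T := by
      apply Subgroup.subset_closure
      refine ⟨k, ?_⟩
      rw [orderOf_pow, hkm, Nat.gcd_eq_right (Dvd.intro_left _ rfl), Nat.mul_div_cancel _ hm.pos]
    -- the odd part
    have hoddpart : x ^ (2 ^ k) ∈ T := by
      set y := x ^ (2 ^ k) with hy
      have hyord : orderOf y = m := by
        rw [hy, orderOf_pow, hkm, Nat.gcd_eq_right (Dvd.intro _ rfl),
          Nat.mul_div_cancel_left _ (pow_pos (by norm_num) k)]
      obtain ⟨g, j, hgj, hg⟩ := exists_two_pow_conj_inv (hamb y)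
      have hy2 : y ^ 2 = (y * g * y⁻¹) * g⁻¹ := by
        have : g * y⁻¹ * g⁻¹ = y := by
          calc g * y⁻¹ * g⁻¹ = (g * y * g⁻¹)⁻¹ := by group
            _ = (y⁻¹)⁻¹ := by rw [hg]
            _ = y := inv_inv y
        rw [pow_two]
        calc y * y = y * (g * y⁻¹ * g⁻¹) := by rw [this]
          _ = y * g * y⁻¹ * g⁻¹ := by group
      have hmem2 : y ^ 2 ∈ T := by
        rw [hy2]
        apply T.mul_mem
        · apply Subgroup.subset_closure
          refine ⟨j, ?_⟩
          rw [← hgj]
          exact orderOf_conj_eq y g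
        · apply T.inv_mem
          exact Subgroup.subset_closure ⟨j, hgj⟩
      obtain ⟨i, hi⟩ := hm
      have : y = (y ^ 2) ^ (i + 1) := by
        rw [← pow_mul, show 2 * (i + 1) = m + 1 by omega, pow_succ, ← hyord, pow_orderOf_eq_one, one_mul]
      rw [this]
      exact T.pow_mem hmem2 _
    -- Bezout
    have hcop : Nat.Coprime m (2 ^ k) := by
      apply Nat.Coprime.pow_right
      exact hm.coprime_two_right
    have hbez := Nat.gcd_eq_gcd_ab m (2 ^ k)
    rw [hcop] at hbez
    have hx : x = (x ^ m) ^ (Nat.gcdA m (2 ^ k)) * (x ^ (2 ^ k)) ^ (Nat.gcdB m (2 ^ k)) := by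
      rw [← zpow_natCast x m, ← zpow_natCast x (2 ^ k), ← zpow_mul, ← zpow_mul, ← zpow_add, ← hbez]
      simp
    rw [hx]
    exact T.mul_mem (T.zpow_mem h2part _) (T.zpow_mem hoddpart _)

end Cfsg.Agent.S4059
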