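import Cfsg.Statements.S4060
import Cfsg.Agent.Lib.Helper67_Basic
import Cfsg.Agent.Lib.Helper24_Coprime

set_option autoImplicit false
open Cfsg

namespace Cfsg.Agent.S4060

open Cfsg.Agent.Lib.Helper67_Basic

universe u

theorem aux : ∀ (n : ℕ) (G : Type u) [Group G] [Finite G] [Group.IsSolvable G], Nat.card G = n →
    ∀ (S : Sylow 2 G) (x : G), Odd (orderOf x) →
      x ∈ Subgroup.normalizer ((S : Subgroup G) : Set G) → IsConj x x⁻¹ → x = 1 := by
  intro n
  induction n using Nat.strong_induction_on with
  | _ n ih =>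
    intro G _ _ _ hn S x hodd hnorm hreal
    haveI : Fact (Nat.Prime 2) := ⟨Nat.prime_two⟩
    rcases subsingleton_or_nontrivial G with hsub | hnt
    · exact Subsingleton.elim _ _
    obtain ⟨A, hAn, hAne, hAab⟩ := exists_normal_abelian_ne_bot (G := G)
    haveI := hAn
    -- pass to the quotient
    have hlt : Nat.card (G ⧸ A) < n := by
      have h1 := Subgroup.card_eq_card_quotient_mul_card_subgroup A
      have h2 : 1 < Nat.card A := (Subgroup.one_lt_card_iff_ne_bot A).2 hAne
      have h3 : 0 < Nat.card (G ⧸ A) := Nat.card_pos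
      rw [← hn, h1]
      nlinarith
    have hsurj : Function.Surjective (QuotientGroup.mk' A) := QuotientGroup.mk'_surjective A
    have hxbar : QuotientGroup.mk' A x = 1 := by
      apply ih (Nat.card (G ⧸ A)) hlt (G ⧸ A) rfl (S.mapSurjective hsurj)
      · exact Odd.of_dvd_nat hodd (orderOf_map_dvd _ x)
      · rw [Sylow.coe_mapSurjective]
        exact Subgroup.le_normalizer_map _ (Subgroup.mem_map_of_mem _ hnorm)
      · obtain ⟨c, hc⟩ := isConj_iff.1 hreal
        refine isConj_iff.2 ⟨QuotientGroup.mk' A c, ?_⟩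
        rw [← map_inv, ← map_inv, ← map_mul, ← map_mul, hc]
    have hxA : x ∈ A := by
      have := (QuotientGroup.eq_one_iff (N := A) x).1 hxbar
      exact this
    -- x centralizes S
    have hcent : x ∈ Subgroup.centralizer ((S : Subgroup G) : Set G) := by
      rw [Subgroup.mem_centralizer_iff]
      intro s hs
      have hs' : s ∈ (S : Subgroup G) := hs
      set z := x * s * x⁻¹ * s⁻¹ with hz
      have hzS : z ∈ (S : Subgroup G) := by
        have h1 : x * s * x⁻¹ ∈ (S : Subgroup G) :=
          (Subgroup.mem_normalizer_iff.1 hnorm s).1 hs'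
        exact Subgroup.mul_mem _ h1 (Subgroup.inv_mem _ hs')
      have hzA : z ∈ A := by
        have h1 : s * x⁻¹ * s⁻¹ ∈ A := hAn.conj_mem _ (A.inv_mem hxA) s
        have : z = x * (s * x⁻¹ * s⁻¹) := by rw [hz]; group
        rw [this]
        exact A.mul_mem hxA h1
      obtain ⟨k, hk⟩ := S.2 ⟨z, hzS⟩
      have hzk : z ^ (2 ^ k) = 1 := by
        have := congrArg (fun w : (S : Subgroup G) => (w : G)) hk
        simpa using this
      have hcop : (orderOf x).Coprime (2 ^ k) := Nat.Coprime.pow_right _ hodd.coprime_two_right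
      have hxs : x * s * x⁻¹ = z * s := by rw [hz]; group
      have := Cfsg.Agent.Lib.Helper24_Coprime.commute_of_coprime_step x s z (hAab x hxA z hzA) hxs
        (2 ^ k) hzk hcop
      exact this.symm
    have h2 := sq_eq_one_of_isConj_inv_of_mem_centralizer_sylow hreal S hcent
    exact eq_one_of_sq_eq_one_of_odd_orderOf hodd h2

/-- Let G be a finite solvable group with Sylow 2-subgroup S, and let x ≠ 1 be an element of odd order normalizing S. Then x is not conjugate to its inverse in G. -/
theorem result {G : Type*} [Group G] [Finite G] [Group.IsSolvable G]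
    (S : Sylow 2 G) (x : G) (hx : x ≠ 1) (hodd : Odd (orderOf x))
    (hnorm : x ∈ Subgroup.normalizer ((S : Subgroup G) : Set G)) : ¬ IsConj x x⁻¹ := by
  intro h
  exact hx (aux _ G rfl S x hodd hnorm h)

end Cfsg.Agent.S4060
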