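import Cfsg.Statements.S4066

set_option autoImplicit false
open Cfsg
open scoped Pointwise

namespace Cfsg.Agent.S4066

theorem mem_conj_smul {M : Type*} [Group M] (H : Subgroup M) (g x : M) :
    x ∈ MulAut.conj g • H ↔ g⁻¹ * x * g ∈ H := by
  rw [Subgroup.mem_pointwise_smul_iff_inv_smul_mem]
  simp [MulAut.smul_def]

theorem normalizer_inf_le_normalizer_sup {G : Type*} [Group G] (A B : Subgroup G) :
    Subgroup.normalizer (A : Set G) ⊓ Subgroup.normalizer (B : Set G) ≤
      Subgroup.normalizer ((A ⊔ B : Subgroup G) : Set G) := by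
  rintro n ⟨hA, hB⟩
  replace hA : n ∈ Subgroup.normalizer (A : Set G) := hA
  replace hB : n ∈ Subgroup.normalizer (B : Set G) := hB
  rw [Subgroup.mem_normalizer_iff_map_conj_eq] at hA hB ⊢
  rw [Subgroup.map_sup, hA, hB]

/-- If every element of a Sylow subgroup `P ≤ N` commutes with all of its `N`-conjugates, then
`N` normalizes `P`. -/
theorem le_normalizer_of_commuting_conjugates {G : Type*} [Group G] [Finite G] {p : ℕ}
    [Fact p.Prime] (P : Sylow p G) (N : Subgroup G) (hPN : (P : Subgroup G) ≤ N)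
    (hcomm : ∀ x ∈ P, ∀ n ∈ N, Commute (n * x * n⁻¹) x) :
    N ≤ Subgroup.normalizer ((P : Subgroup G) : Set G) := by
  -- a maximal `N`-invariant `p`-subgroup
  obtain ⟨O, ⟨hOp, hON⟩, hOmax⟩ := Set.exists_max_image
    {O : Subgroup G | IsPGroup p O ∧ N ≤ Subgroup.normalizer (O : Set G)}
    (fun O => Nat.card O) (Set.toFinite _)
    ⟨⊥, IsPGroup.of_bot, by
      rw [Subgroup.normalizer_eq_top_iff.mpr Subgroup.normal_bot]
      exact le_top⟩
  have hPO : (P : Subgroup G) ≤ O := by
    intro x hx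
    set S : Set G := {y | ∃ n ∈ N, y = n * x * n⁻¹} with hS
    -- generators commute pairwise
    have hSc : ∀ a ∈ S, ∀ b ∈ S, Commute a b := by
      rintro a ⟨n, hn, rfl⟩ b ⟨m, hm, rfl⟩
      have h1 := hcomm x hx (n⁻¹ * m) (N.mul_mem (N.inv_mem hn) hm)
      have h2 : n * (n⁻¹ * m * x * (n⁻¹ * m)⁻¹) * n⁻¹ = m * x * m⁻¹ := by group
      have h3 : Commute (n * (n⁻¹ * m * x * (n⁻¹ * m)⁻¹) * n⁻¹) (n * x * n⁻¹) := by
        have := h1.eq
        unfold Commute SemiconjBy
        calc n * (n⁻¹ * m * x * (n⁻¹ * m)⁻¹) * n⁻¹ * (n * x * n⁻¹)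
            = n * ((n⁻¹ * m * x * (n⁻¹ * m)⁻¹) * x) * n⁻¹ := by group
          _ = n * (x * (n⁻¹ * m * x * (n⁻¹ * m)⁻¹)) * n⁻¹ := by rw [this]
          _ = n * x * n⁻¹ * (n * (n⁻¹ * m * x * (n⁻¹ * m)⁻¹) * n⁻¹) := by group
      rw [h2] at h3
      exact h3.symm
    have hAc : ∀ a ∈ Subgroup.closure S, ∀ b ∈ Subgroup.closure S, Commute a b := by
      intro a ha b hb
      induction ha, hb using Subgroup.closure_induction₂ with
      | mem a b ha hb => exact hSc a ha b hb
      | one_left b _ => exact Commute.one_left b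
      | one_right a _ => exact Commute.one_right a
      | mul_left a b c _ _ _ h1 h2 => exact h1.mul_left h2
      | mul_right b c a _ _ _ h1 h2 => exact h1.mul_right h2
      | inv_left a b _ _ h => exact h.inv_left
      | inv_right a b _ _ h => exact h.inv_right
    -- the closure is a p-group
    obtain ⟨kx, hkx⟩ : ∃ k : ℕ, x ^ p ^ k = 1 := by
      obtain ⟨k, hk⟩ := P.isPGroup' ⟨x, hx⟩
      exact ⟨k, by simpa using congrArg Subtype.val hk⟩
    have hAp' : ∀ a ∈ Subgroup.closure S, ∃ k : ℕ, a ^ p ^ k = 1 := by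
      intro a ha
      induction ha using Subgroup.closure_induction with
      | mem a ha =>
        obtain ⟨n, -, rfl⟩ := ha
        exact ⟨kx, by rw [conj_pow, hkx]; group⟩
      | one => exact ⟨0, by simp⟩
      | mul a b ha hb iha ihb =>
        obtain ⟨k, hk⟩ := iha
        obtain ⟨l, hl⟩ := ihb
        refine ⟨k + l, ?_⟩
        rw [(hAc a ha b hb).mul_pow, pow_add, pow_mul, hk, one_pow, one_mul, mul_comm (p ^ k),
          pow_mul, hl, one_pow]
      | inv a _ iha =>
        obtain ⟨k, hk⟩ := iha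
        exact ⟨k, by rw [inv_pow, hk, inv_one]⟩
    have hAp : IsPGroup p (Subgroup.closure S) := by
      intro a
      obtain ⟨k, hk⟩ := hAp' a a.2
      exact ⟨k, Subtype.ext (by simpa using hk)⟩
    -- N normalizes the closure
    have hAN : N ≤ Subgroup.normalizer ((Subgroup.closure S : Subgroup G) : Set G) := by
      refine le_trans ?_ (Subgroup.normalizer_le_normalizer_closure S)
      intro n hn
      rw [Subgroup.mem_set_normalizer_iff]
      intro h
      constructor
      · rintro ⟨m, hm, rfl⟩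
        exact ⟨n * m, N.mul_mem hn hm, by group⟩
      · rintro ⟨m, hm, hmm⟩
        refine ⟨n⁻¹ * m, N.mul_mem (N.inv_mem hn) hm, ?_⟩
        calc h = n⁻¹ * (n * h * n⁻¹) * n := by group
          _ = n⁻¹ * (m * x * m⁻¹) * n := by rw [hmm]
          _ = n⁻¹ * m * x * (n⁻¹ * m)⁻¹ := by group
    have hAleN : Subgroup.closure S ≤ N := by
      rw [Subgroup.closure_le]
      rintro _ ⟨n, hn, rfl⟩
      exact N.mul_mem (N.mul_mem hn (hPN hx)) (N.inv_mem hn)
    have hO'p : IsPGroup p ((Subgroup.closure S ⊔ O : Subgroup G)) :=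
      hAp.to_sup_of_normal_right' hOp (hAleN.trans hON)
    have hO'N : N ≤ Subgroup.normalizer ((Subgroup.closure S ⊔ O : Subgroup G) : Set G) :=
      (le_inf hAN hON).trans (normalizer_inf_le_normalizer_sup _ _)
    have hle := hOmax _ ⟨hO'p, hO'N⟩
    have hOO' : O = Subgroup.closure S ⊔ O := Subgroup.eq_of_le_of_card_ge le_sup_right hle
    rw [hOO']
    apply Subgroup.mem_sup_left
    apply Subgroup.subset_closure
    exact ⟨1, N.one_mem, by group⟩
  have hOP : O = P := P.is_maximal' hOp hPO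
  rw [← hOP]
  exact hON

theorem result {G : Type*} [Group G] [Finite G] (hTI : ∀ x : G, Cfsg.IsTISubset (Subgroup.centralizer ({x} : Set G) : Set G))
    {p : ℕ} [Fact p.Prime] (P Q : Sylow p G) (hPQ : P ≠ Q) : (P : Subgroup G) ⊓ (Q : Subgroup G) = ⊥ := by
  rw [Subgroup.eq_bot_iff_forall]
  rintro y ⟨hyP, hyQ⟩
  replace hyP : y ∈ (P : Subgroup G) := hyP
  replace hyQ : y ∈ (Q : Subgroup G) := hyQ
  by_contra hy1
  apply hPQ
  -- TI in usable form
  have ti : ∀ x g u : G, u * x = x * u → (g * u * g⁻¹) * x = x * (g * u * g⁻¹) → u ≠ 1 →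
      g ∈ Subgroup.normalizer ((Subgroup.centralizer ({x} : Set G) : Subgroup G) : Set G) := by
    intro x g u hu hgu hu1
    by_contra hg
    exact hu1 (hTI x g hg u (Subgroup.mem_centralizer_singleton_iff.mpr hu)
      (Subgroup.mem_centralizer_singleton_iff.mpr hgu))
  have norm_mem : ∀ x g u : G,
      g ∈ Subgroup.normalizer ((Subgroup.centralizer ({x} : Set G) : Subgroup G) : Set G) →
      u * x = x * u → (g * u * g⁻¹) * x = x * (g * u * g⁻¹) := by
    intro x g u hg hu
    have := (Subgroup.mem_normalizer_iff.mp hg u).mp (Subgroup.mem_centralizer_singleton_iff.mpr hu)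
    exact Subgroup.mem_centralizer_singleton_iff.mp this
  -- a central element of P
  haveI : Nontrivial (P : Subgroup G) := ⟨⟨⟨y, hyP⟩, 1, fun h => hy1 (congrArg Subtype.val h)⟩⟩
  haveI : Nontrivial (Subgroup.center (P : Subgroup G)) := P.isPGroup'.center_nontrivial
  obtain ⟨⟨z', hz'⟩, hz'1⟩ := exists_ne (1 : Subgroup.center (P : Subgroup G))
  obtain ⟨z, hzP⟩ := z'
  have hz1 : z ≠ 1 := by
    intro h
    apply hz'1
    apply Subtype.ext
    apply Subtype.ext
    exact h
  have hzc : ∀ u ∈ (P : Subgroup G), u * z = z * u := by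
    intro u hu
    have := Subgroup.mem_center_iff.mp hz' ⟨u, hu⟩
    exact congrArg Subtype.val this
  -- Q is a conjugate of P
  obtain ⟨g, rfl⟩ := MulAction.exists_smul_eq G P Q
  have hQmem : ∀ u : G, u ∈ ((g • P : Sylow p G) : Subgroup G) ↔ g⁻¹ * u * g ∈ (P : Subgroup G) := by
    intro u
    rw [Sylow.coe_subgroup_smul, mem_conj_smul]
  -- Claim A
  have hy0 : g⁻¹ * y * g ∈ (P : Subgroup G) := (hQmem y).mp hyQ
  have hy01 : g⁻¹ * y * g ≠ 1 := by
    intro h
    apply hy1
    calc y = g * (g⁻¹ * y * g) * g⁻¹ := by group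
      _ = 1 := by rw [h]; group
  have hgz : g ∈ Subgroup.normalizer ((Subgroup.centralizer ({z} : Set G) : Subgroup G) : Set G) := by
    apply ti z g (g⁻¹ * y * g) (hzc _ hy0) _ hy01
    have : g * (g⁻¹ * y * g) * g⁻¹ = y := by group
    rw [this]
    exact hzc y hyP
  have hzQc : ∀ u ∈ ((g • P : Sylow p G) : Subgroup G), u * z = z * u := by
    intro u hu
    have h1 := norm_mem z g (g⁻¹ * u * g) hgz (hzc _ ((hQmem u).mp hu))
    have : g * (g⁻¹ * u * g) * g⁻¹ = u := by group
    rwa [this] at h1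
  have hzQ : z ∈ ((g • P : Sylow p G) : Subgroup G) := by
    have hzp : IsPGroup p (Subgroup.zpowers z) :=
      P.isPGroup'.to_le (Subgroup.zpowers_le.mpr hzP)
    have hnorm : Subgroup.zpowers z ≤
        Subgroup.normalizer (((g • P : Sylow p G) : Subgroup G) : Set G) := by
      rw [Subgroup.zpowers_le, Subgroup.mem_normalizer_iff]
      intro u
      have key : ∀ v ∈ ((g • P : Sylow p G) : Subgroup G), z * v * z⁻¹ = v := by
        intro v hv
        rw [← hzQc v hv]
        group
      constructor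
      · intro hu
        rw [key u hu]
        exact hu
      · intro hu
        have := key _ hu
        have h2 : z * u * z⁻¹ = u := by
          have h3 : z * (z * u * z⁻¹) * z⁻¹ = z * u * z⁻¹ := this
          calc z * u * z⁻¹ = z⁻¹ * (z * (z * u * z⁻¹) * z⁻¹) * z := by group
            _ = z⁻¹ * (z * u * z⁻¹) * z := by rw [h3]
            _ = u := by group
        rw [← h2]
        exact hu
    have hsup := hzp.to_sup_of_normal_right' (g • P : Sylow p G).isPGroup' hnorm
    have := (g • P : Sylow p G).is_maximal' hsup le_sup_right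
    rw [← this]
    exact Subgroup.mem_sup_left (Subgroup.mem_zpowers z)
  -- the subgroup N
  set N : Subgroup G := ⨅ (x : G) (_ : x ∈ (P : Subgroup G) ∧ x ≠ 1),
    Subgroup.normalizer ((Subgroup.centralizer ({x} : Set G) : Subgroup G) : Set G) with hN
  have hNmem : ∀ n : G, n ∈ N ↔ ∀ x : G, x ∈ (P : Subgroup G) → x ≠ 1 →
      n ∈ Subgroup.normalizer ((Subgroup.centralizer ({x} : Set G) : Subgroup G) : Set G) := by
    intro n
    simp only [hN, Subgroup.mem_iInf, and_imp]
  -- Claim B: g ∈ N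
  have hgN : g ∈ N := by
    rw [hNmem]
    intro x hx hx1
    have hz0P : g⁻¹ * z * g ∈ (P : Subgroup G) := (hQmem z).mp hzQ
    have hz0c : ∀ u ∈ (P : Subgroup G), u * (g⁻¹ * z * g) = (g⁻¹ * z * g) * u := by
      intro u hu
      have hgu : g * u * g⁻¹ ∈ ((g • P : Sylow p G) : Subgroup G) := by
        rw [hQmem]
        have : g⁻¹ * (g * u * g⁻¹) * g = u := by group
        rw [this]
        exact hu
      have := hzQc _ hgu
      calc u * (g⁻¹ * z * g) = g⁻¹ * ((g * u * g⁻¹) * z) * g := by group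
        _ = g⁻¹ * (z * (g * u * g⁻¹)) * g := by rw [this]
        _ = (g⁻¹ * z * g) * u := by group
    have hz01 : g⁻¹ * z * g ≠ 1 := by
      intro h
      apply hz1
      calc z = g * (g⁻¹ * z * g) * g⁻¹ := by group
        _ = 1 := by rw [h]; group
    apply ti x g (g⁻¹ * z * g) (hz0c x hx).symm _ hz01
    have : g * (g⁻¹ * z * g) * g⁻¹ = z := by group
    rw [this]
    exact (hzc x hx).symm
  -- Claim C: P ≤ N
  have hPN : (P : Subgroup G) ≤ N := by
    intro u hu
    rw [hNmem]
    intro x hx hx1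
    apply ti x u z (hzc x hx).symm _ hz1
    have : u * z * u⁻¹ = z := by
      rw [hzc u hu]
      group
    rw [this]
    exact (hzc x hx).symm
  -- Claim D
  have hcomm : ∀ x ∈ (P : Subgroup G), ∀ n ∈ N, Commute (n * x * n⁻¹) x := by
    intro x hx n hn
    by_cases hx1 : x = 1
    · subst hx1
      exact Commute.one_right _
    · exact norm_mem x n x ((hNmem n).mp hn x hx hx1) rfl
  have hNP := le_normalizer_of_commuting_conjugates P N hPN hcomm
  exact (Sylow.smul_eq_iff_mem_normalizer.mpr (hNP hgN)).symm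

end Cfsg.Agent.S4066
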