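import Mathlib
import Cfsg.Statements.S4067
import Cfsg.Agent.Lib.Helper53_AutOrb1
import Cfsg.Agent.Lib.Helper53_AutOrb5

namespace Cfsg.Agent.S4067

open Cfsg.Agent.Lib.Helper53_AutOrb
open scoped commutatorElement

set_option autoImplicit false

/-- Let G be a finite non-abelian group and p the least prime dividing its order. Then the automorphism group of G has at most #G/p orbits on G. -/
theorem result {G : Type*} [Group G] [Finite G] (hna : ¬ IsMulCommutative G) :
    Nat.card (MulAction.orbitRel.Quotient (MulAut G) G) ≤ Nat.card G / (Nat.card G).minFac := by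
  have hd1 : Nat.card (commutator G) ≠ 1 := by
    intro h1
    apply hna
    have hbot : commutator G = ⊥ := Subgroup.card_eq_one.1 h1
    refine ⟨⟨fun a b => ?_⟩⟩
    have hab : ⁅a, b⁆ ∈ commutator G :=
      Subgroup.commutator_mem_commutator (Subgroup.mem_top a) (Subgroup.mem_top b)
    rw [hbot, Subgroup.mem_bot, commutatorElement_eq_one_iff_commute] at hab
    exact hab.eq
  have hG1 : Nat.card G ≠ 1 := by
    intro h
    apply hd1
    have h2 : Nat.card (commutator G) ∣ 1 := h ▸ Subgroup.card_subgroup_dvd_card _
    exact Nat.dvd_one.1 h2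
  have hp : (Nat.card G).minFac.Prime := Nat.minFac_prime hG1
  rw [Nat.le_div_iff_mul_le hp.pos]
  by_cases hc : Nat.card (commutator G) = (Nat.card G).minFac
  · exact card_orbits_mul_le_of_card_comm hc hp
  · exact (Nat.mul_le_mul_right _ card_orbits_le_card_conjClasses).trans
      (card_conjClasses_mul_le hd1 hc)

end Cfsg.Agent.S4067
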