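import Cfsg.Statements.S4071
-- import your own Cfsg.Agent.* helpers here

set_option autoImplicit false
open Cfsg

namespace Cfsg.Agent.S4071

section psi

variable {G : Type*} [Group G]

/-- `ψ_y(a) = y⁻¹ a⁻¹ y a` is multiplicative on an abelian normal subgroup. -/
theorem psi_mul (A : Subgroup G) [hAn : A.Normal] (hA : ∀ a ∈ A, ∀ b ∈ A, a * b = b * a)
    (y : G) {a b : G} (ha : a ∈ A) (hb : b ∈ A) :
    y⁻¹ * (a * b)⁻¹ * y * (a * b) = (y⁻¹ * a⁻¹ * y * a) * (y⁻¹ * b⁻¹ * y * b) := by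
  have ha' : y⁻¹ * a⁻¹ * y ∈ A := by
    have := hAn.conj_mem a⁻¹ (A.inv_mem ha) y⁻¹
    simpa using this
  have hb' : y⁻¹ * b⁻¹ * y ∈ A := by
    have := hAn.conj_mem b⁻¹ (A.inv_mem hb) y⁻¹
    simpa using this
  have h1 : y⁻¹ * (a * b)⁻¹ * y * (a * b) = (y⁻¹ * b⁻¹ * y) * ((y⁻¹ * a⁻¹ * y) * a) * b := by
    group
  rw [h1, hA _ hb' _ (A.mul_mem ha' ha)]
  group

/-- `ψ_y` is injective on `A` when `y` acts fixed-point-freely. -/
theorem psi_inj (A : Subgroup G) [hAn : A.Normal] (hA : ∀ a ∈ A, ∀ b ∈ A, a * b = b * a)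
    (y : G) (hfpf : ∀ a ∈ A, a ≠ 1 → y * a * y⁻¹ ≠ a) {a b : G} (ha : a ∈ A) (hb : b ∈ A)
    (h : y⁻¹ * a⁻¹ * y * a = y⁻¹ * b⁻¹ * y * b) : a = b := by
  have h1 := psi_mul A hA y ha (A.inv_mem hb)
  have h2 := psi_mul A hA y hb (A.inv_mem hb)
  rw [mul_inv_cancel] at h2
  have h3 : y⁻¹ * (a * b⁻¹)⁻¹ * y * (a * b⁻¹) = 1 := by
    rw [h1, h, ← h2]; group
  by_contra hne
  have hab : a * b⁻¹ ∈ A := A.mul_mem ha (A.inv_mem hb)
  have hab1 : a * b⁻¹ ≠ 1 := fun h' => hne (by rw [mul_inv_eq_one] at h'; exact h')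
  apply hfpf _ hab hab1
  have h4 : (a * b⁻¹)⁻¹ * y * (a * b⁻¹) = y := by
    calc (a * b⁻¹)⁻¹ * y * (a * b⁻¹) = y * (y⁻¹ * (a * b⁻¹)⁻¹ * y * (a * b⁻¹)) := by group
      _ = y := by rw [h3, mul_one]
  calc y * (a * b⁻¹) * y⁻¹ = (a * b⁻¹) * ((a * b⁻¹)⁻¹ * y * (a * b⁻¹)) * y⁻¹ := by group
    _ = a * b⁻¹ := by rw [h4]; group

/-- `ψ_y` maps any `ψ_y`-stable subgroup of `A` onto itself. -/
theorem psi_surj [Finite G] (A : Subgroup G) [hAn : A.Normal]
    (hA : ∀ a ∈ A, ∀ b ∈ A, a * b = b * a)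
    (y : G) (hfpf : ∀ a ∈ A, a ≠ 1 → y * a * y⁻¹ ≠ a) (B : Subgroup G) (hBA : B ≤ A)
    (hB : ∀ b ∈ B, y⁻¹ * b⁻¹ * y * b ∈ B) {c : G} (hc : c ∈ B) :
    ∃ b ∈ B, y⁻¹ * b⁻¹ * y * b = c := by
  let f : B → B := fun b => ⟨y⁻¹ * (b : G)⁻¹ * y * b, hB b b.2⟩
  have hf : Function.Injective f := by
    intro b b' h
    apply Subtype.ext
    exact psi_inj A hA y hfpf (hBA b.2) (hBA b'.2) (congrArg Subtype.val h)
  obtain ⟨b, hb⟩ := (Finite.injective_iff_surjective.mp hf) ⟨c, hc⟩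
  exact ⟨b, b.2, congrArg Subtype.val hb⟩

end psi

section backward

variable {G : Type*} [Group G] [Finite G]

/-- Key step: if `x ∈ H`, `G = ⟨x⟩ A` and `x` acts fixed-point-freely on the abelian normal
subgroup `A`, then `H` is self-normalizing. -/
theorem normalizer_eq_of_mem (A : Subgroup G) [hAn : A.Normal]
    (hA : ∀ a ∈ A, ∀ b ∈ A, a * b = b * a) (x : G)
    (hfpf : ∀ a ∈ A, a ≠ 1 → x * a * x⁻¹ ≠ a)
    (hgen : ∀ g : G, ∃ (i : ℤ) (a : G), a ∈ A ∧ g = x ^ i * a)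
    (H : Subgroup G) (hxH : x ∈ H) : Subgroup.normalizer (H : Set G) = H := by
  apply le_antisymm _ Subgroup.le_normalizer
  intro g hg
  obtain ⟨i, a, ha, rfl⟩ := hgen g
  have hxi : x ^ i ∈ H := H.zpow_mem hxH i
  have haN : a ∈ Subgroup.normalizer (H : Set G) := by
    have : a = (x ^ i)⁻¹ * (x ^ i * a) := by group
    rw [this]
    exact Subgroup.mul_mem _ (Subgroup.inv_mem _ (Subgroup.le_normalizer hxi)) hg
  -- `ψ_x(a) ∈ H ⊓ A`
  have h1 : a⁻¹ * x * a ∈ H := by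
    have := (Subgroup.mem_normalizer_iff.mp (Subgroup.inv_mem _ haN) x).mp hxH
    simpa using this
  have h2 : x⁻¹ * a⁻¹ * x * a ∈ H ⊓ A := by
    refine ⟨?_, ?_⟩
    · have : x⁻¹ * a⁻¹ * x * a = x⁻¹ * (a⁻¹ * x * a) := by group
      rw [this]; exact H.mul_mem (H.inv_mem hxH) h1
    · have h3 : x⁻¹ * a⁻¹ * x ∈ A := by
        have := hAn.conj_mem a⁻¹ (A.inv_mem ha) x⁻¹
        simpa using this
      exact A.mul_mem h3 ha
  have hstab : ∀ b ∈ H ⊓ A, x⁻¹ * b⁻¹ * x * b ∈ H ⊓ A := by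
    intro b hb
    refine ⟨H.mul_mem (H.mul_mem (H.mul_mem (H.inv_mem hxH) (H.inv_mem hb.1)) hxH) hb.1, ?_⟩
    have h3 : x⁻¹ * b⁻¹ * x ∈ A := by
      have := hAn.conj_mem b⁻¹ (A.inv_mem hb.2) x⁻¹
      simpa using this
    exact A.mul_mem h3 hb.2
  obtain ⟨b, hb, hbe⟩ := psi_surj A hA x hfpf (H ⊓ A) inf_le_right hstab h2
  have hab : b = a := psi_inj A hA x hfpf hb.2 ha hbe
  rw [← hab]
  exact H.mul_mem hxi hb.1

theorem backward (x : G) (A : Subgroup G) (p : ℕ) (hp : p.Prime) (hAn : A.Normal)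
    (hAc : IsMulCommutative A) (hk : ∃ k : ℕ, orderOf x = p ^ k)
    (hcompl : (Subgroup.zpowers x).IsComplement' A) (hxp : x ^ p ∈ Subgroup.center G)
    (hfpf : ∀ a : G, a ∈ A → a ≠ 1 → x * a * x⁻¹ ≠ a)
    (H : Subgroup G) (hH : ¬ IsMulCommutative H) : Subgroup.normalizer (H : Set G) = H := by
  have hA : ∀ a ∈ A, ∀ b ∈ A, a * b = b * a := by
    intro a ha b hb
    have := hAc.is_comm.comm (⟨a, ha⟩ : A) ⟨b, hb⟩
    exact congrArg Subtype.val this
  obtain ⟨k, hk⟩ := hk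
  -- every element is `x ^ i * a`
  have hgen : ∀ g : G, ∃ (i : ℤ) (a : G), a ∈ A ∧ g = x ^ i * a := by
    intro g
    obtain ⟨⟨⟨z, hz⟩, ⟨a, ha⟩⟩, hza⟩ := hcompl.2 g
    obtain ⟨i, rfl⟩ := Subgroup.mem_zpowers_iff.mp hz
    exact ⟨i, a, ha, hza.symm⟩
  -- some element of `H` is `x ^ i * a` with `p ∤ i`
  have hex : ∃ h ∈ H, ∃ (i : ℤ) (a : G), a ∈ A ∧ h = x ^ i * a ∧ ¬ (p : ℤ) ∣ i := by
    by_contra hcon
    push Not at hcon
    apply hH
    refine ⟨⟨?_⟩⟩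
    rintro ⟨h1, hh1⟩ ⟨h2, hh2⟩
    apply Subtype.ext
    show h1 * h2 = h2 * h1
    obtain ⟨i1, a1, ha1, rfl⟩ := hgen h1
    obtain ⟨i2, a2, ha2, rfl⟩ := hgen h2
    obtain ⟨j1, rfl⟩ := hcon _ hh1 i1 a1 ha1 rfl
    obtain ⟨j2, rfl⟩ := hcon _ hh2 i2 a2 ha2 rfl
    have hc : ∀ (j : ℤ) (g : G), x ^ ((p : ℤ) * j) * g = g * x ^ ((p : ℤ) * j) := by
      intro j g
      rw [zpow_mul, zpow_natCast]
      exact ((Subgroup.mem_center_iff.mp (Subgroup.zpow_mem _ hxp j)) g).symm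
    calc x ^ ((p : ℤ) * j1) * a1 * (x ^ ((p : ℤ) * j2) * a2)
        = x ^ ((p : ℤ) * j1) * (a1 * x ^ ((p : ℤ) * j2)) * a2 := by group
      _ = x ^ ((p : ℤ) * j1) * (x ^ ((p : ℤ) * j2) * a1) * a2 := by rw [hc j2 a1]
      _ = x ^ ((p : ℤ) * j1) * x ^ ((p : ℤ) * j2) * (a1 * a2) := by group
      _ = x ^ ((p : ℤ) * j1) * x ^ ((p : ℤ) * j2) * (a2 * a1) := by rw [hA a1 ha1 a2 ha2]
      _ = x ^ ((p : ℤ) * j2) * x ^ ((p : ℤ) * j1) * (a2 * a1) := by
          rw [← zpow_add, ← zpow_add, add_comm]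
      _ = x ^ ((p : ℤ) * j2) * (x ^ ((p : ℤ) * j1) * a2) * a1 := by group
      _ = x ^ ((p : ℤ) * j2) * (a2 * x ^ ((p : ℤ) * j1)) * a1 := by rw [hc j1 a2]
      _ = x ^ ((p : ℤ) * j2) * a2 * (x ^ ((p : ℤ) * j1) * a1) := by group
  obtain ⟨h, hhH, i, a, ha, rfl, hpi⟩ := hex
  set y := x ^ i with hy
  -- `x` is a power of `y`
  have hcop : IsCoprime i ((p : ℤ) ^ k) := by
    apply IsCoprime.pow_right
    rw [Int.isCoprime_iff_gcd_eq_one]
    have hp' : Prime (p : ℤ) := Nat.prime_iff_prime_int.mp hp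
    have := (Int.isCoprime_iff_gcd_eq_one).mp
      ((Prime.coprime_iff_not_dvd hp').mpr hpi).symm
    exact this
  obtain ⟨u, v, huv⟩ := hcop
  have hxy : x = y ^ u := by
    have h1 : x ^ ((p : ℤ) ^ k) = 1 := by
      have : ((p : ℤ) ^ k) = ((p ^ k : ℕ) : ℤ) := by push_cast; rfl
      rw [this, zpow_natCast, ← hk, pow_orderOf_eq_one]
    calc x = x ^ (u * i + v * (p : ℤ) ^ k) := by rw [huv, zpow_one]
      _ = (x ^ i) ^ u * (x ^ ((p : ℤ) ^ k)) ^ v := by
          rw [zpow_add, mul_comm u i, mul_comm v, zpow_mul, zpow_mul]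
      _ = y ^ u := by rw [h1, one_zpow, mul_one]
  -- `y` acts fixed-point-freely
  have hyfpf : ∀ a ∈ A, a ≠ 1 → y * a * y⁻¹ ≠ a := by
    intro a ha ha1 hya
    apply hfpf a ha ha1
    have hcomm : Commute y a := by
      show y * a = a * y
      calc y * a = (y * a * y⁻¹) * y := by group
        _ = a * y := by rw [hya]
    have : Commute x a := by rw [hxy]; exact hcomm.zpow_left u
    calc x * a * x⁻¹ = a * x * x⁻¹ := by rw [this.eq]
      _ = a := by group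
  -- conjugate `y` to `y * a`
  obtain ⟨b, hbA, hb⟩ := psi_surj A hA y hyfpf A le_rfl (by
    intro b hb
    have h3 : y⁻¹ * b⁻¹ * y ∈ A := by
      have := hAn.conj_mem b⁻¹ (A.inv_mem hb) y⁻¹
      simpa using this
    exact A.mul_mem h3 hb) ha
  have hyb : b⁻¹ * y * b = y * a := by
    rw [← hb]; group
  -- `x' = b⁻¹ x b ∈ H`
  set x' := b⁻¹ * x * b with hx'
  have hx'H : x' ∈ H := by
    have : x' = (b⁻¹ * y * b) ^ u := by
      rw [hx', hxy]
      have := map_zpow (MulAut.conj b⁻¹) y u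
      simp only [MulAut.conj_apply, inv_inv] at this
      exact this
    rw [this, hyb]
    exact H.zpow_mem hhH u
  have hx'fpf : ∀ a ∈ A, a ≠ 1 → x' * a * x'⁻¹ ≠ a := by
    intro c hc hc1 hxc
    apply hfpf c hc hc1
    have hbc : b * c = c * b := hA b hbA c hc
    have hbc' : b⁻¹ * c = c * b⁻¹ := hA _ (A.inv_mem hbA) c hc
    have : x * c * x⁻¹ = b * (x' * c * x'⁻¹) * b⁻¹ := by
      rw [hx']
      calc x * c * x⁻¹ = x * (b * c * b⁻¹) * x⁻¹ := by rw [hbc]; group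
        _ = b * (b⁻¹ * x * b * c * (b⁻¹ * x * b)⁻¹) * b⁻¹ := by group
    rw [this, hxc, hbc]; group
  have hgen' : ∀ g : G, ∃ (i : ℤ) (a : G), a ∈ A ∧ g = x' ^ i * a := by
    intro g
    obtain ⟨j, c, hc, rfl⟩ := hgen g
    have hx'j : x' ^ j = b⁻¹ * x ^ j * b := by
      have := map_zpow (MulAut.conj b⁻¹) x j
      simp only [MulAut.conj_apply, inv_inv] at this
      exact this.symm
    refine ⟨j, (x' ^ j)⁻¹ * x ^ j * c, ?_, by group⟩
    apply A.mul_mem _ hc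
    rw [hx'j]
    have : (b⁻¹ * x ^ j * b)⁻¹ * x ^ j = b⁻¹ * ((x ^ j)⁻¹ * b * x ^ j) := by group
    rw [this]
    apply A.mul_mem (A.inv_mem hbA)
    have := hAn.conj_mem b hbA (x ^ j)⁻¹
    simpa using this
  exact normalizer_eq_of_mem A hA x' hx'fpf hgen' H hx'H

end backward

section forward

variable {G : Type*} [Group G]

/-- A finite nontrivial solvable group has a normal subgroup of prime index. -/
theorem exists_normal_prime_index [Finite G] [Group.IsSolvable G] [Nontrivial G] :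
    ∃ M : Subgroup G, M.Normal ∧ M.index.Prime := by
  classical
  let S : Set (Subgroup G) := {M | M.Normal ∧ M ≠ ⊤}
  have hSfin : S.Finite := Set.toFinite S
  have hSne : hSfin.toFinset.Nonempty := by
    refine ⟨⊥, ?_⟩
    rw [Set.Finite.mem_toFinset]
    exact ⟨inferInstance, bot_ne_top⟩
  obtain ⟨M, hMS, hMmax⟩ := hSfin.toFinset.exists_max_image (fun M => Nat.card M) hSne
  rw [Set.Finite.mem_toFinset] at hMS
  obtain ⟨hMn, hMtop⟩ := hMS
  refine ⟨M, hMn, ?_⟩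
  have hsimple : IsSimpleGroup (G ⧸ M) := by
    have hnt : Nontrivial (G ⧸ M) := by
      obtain ⟨g, hg⟩ : ∃ g : G, g ∉ M := by
        by_contra hcon
        push Not at hcon
        exact hMtop ((Subgroup.eq_top_iff' M).mpr hcon)
      exact ⟨⟨(g : G ⧸ M), 1, fun h => hg ((QuotientGroup.eq_one_iff g).mp h)⟩⟩
    refine { exists_pair_ne := hnt.exists_pair_ne, eq_bot_or_eq_top_of_normal := ?_ }
    intro K hK
    by_cases hKtop : K.comap (QuotientGroup.mk' M) = ⊤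
    · right
      rw [← Subgroup.map_comap_eq_self_of_surjective (QuotientGroup.mk'_surjective M) K, hKtop,
        ← MonoidHom.range_eq_map, MonoidHom.range_eq_top.mpr (QuotientGroup.mk'_surjective M)]
    · left
      have hKn : (K.comap (QuotientGroup.mk' M)).Normal := hK.comap _
      have hle : M ≤ K.comap (QuotientGroup.mk' M) := by
        intro m hm
        rw [Subgroup.mem_comap, QuotientGroup.mk'_apply, (QuotientGroup.eq_one_iff m).mpr hm]
        exact K.one_mem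
      have hcard := hMmax (K.comap (QuotientGroup.mk' M))
        (by rw [Set.Finite.mem_toFinset]; exact ⟨hKn, hKtop⟩)
      have heq : M = K.comap (QuotientGroup.mk' M) := Subgroup.eq_of_le_of_card_ge hle hcard
      rw [← Subgroup.map_comap_eq_self_of_surjective (QuotientGroup.mk'_surjective M) K, ← heq]
      exact (Subgroup.map_eq_bot_iff _).mpr (by rw [QuotientGroup.ker_mk'])
  have hcomm : ∀ a b : G ⧸ M, a * b = b * a := IsSimpleGroup.comm_iff_isSolvable.mpr inferInstance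
  let _ : CommGroup (G ⧸ M) := { (inferInstance : Group (G ⧸ M)) with mul_comm := hcomm }
  have := IsSimpleGroup.prime_card (α := G ⧸ M)
  rwa [Subgroup.index_eq_card]

/-- Decomposition of an element of finite order into its `p`-part and `p'`-part. -/
theorem exists_parts [Finite G] (p : ℕ) (hp : p.Prime) (m : G) :
    ∃ (s t : ℤ) (e : ℕ), m = m ^ s * m ^ t ∧ (m ^ s) ^ p ^ e = 1 ∧ (orderOf (m ^ t)).Coprime p := by
  obtain ⟨e, n', hn', hn⟩ := Nat.exists_eq_pow_mul_and_not_dvd (orderOf_pos m).ne' p hp.ne_one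
  have hcop : IsCoprime ((p : ℤ) ^ e) (n' : ℤ) := by
    apply IsCoprime.pow_left
    rw [Int.isCoprime_iff_gcd_eq_one]
    have : Nat.Coprime p n' := (Nat.Prime.coprime_iff_not_dvd hp).mpr hn'
    simpa [Int.gcd_natCast_natCast] using this
  obtain ⟨u, v, huv⟩ := hcop
  refine ⟨v * n', u * (p : ℤ) ^ e, e, ?_, ?_, ?_⟩
  · rw [← zpow_add, add_comm, huv, zpow_one]
  · have : (m ^ (v * (n' : ℤ))) ^ p ^ e = m ^ (v * ((p ^ e * n' : ℕ) : ℤ)) := by
      rw [← zpow_natCast, ← zpow_mul]; push_cast; ring_nf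
    rw [this, ← hn, zpow_mul', zpow_natCast, pow_orderOf_eq_one, one_zpow]
  · have h1 : (m ^ (u * (p : ℤ) ^ e)) ^ n' = 1 := by
      have : (m ^ (u * (p : ℤ) ^ e)) ^ n' = m ^ (u * ((p ^ e * n' : ℕ) : ℤ)) := by
        rw [← zpow_natCast, ← zpow_mul]; push_cast; ring_nf
      rw [this, ← hn, zpow_mul', zpow_natCast, pow_orderOf_eq_one, one_zpow]
    exact Nat.Coprime.coprime_dvd_left (orderOf_dvd_of_pow_eq_one h1)
      ((Nat.Prime.coprime_iff_not_dvd hp).mpr hn').symm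

/-- The `p'`-part of a commutative subgroup. -/
def pPrimePart (p : ℕ) (M : Subgroup G) (hM : ∀ a ∈ M, ∀ b ∈ M, a * b = b * a) : Subgroup G where
  carrier := {m | m ∈ M ∧ (orderOf m).Coprime p}
  one_mem' := ⟨M.one_mem, by simp⟩
  mul_mem' := by
    rintro a b ⟨ha, hac⟩ ⟨hb, hbc⟩
    refine ⟨M.mul_mem ha hb, ?_⟩
    have hcomm : Commute a b := hM a ha b hb
    exact Nat.Coprime.coprime_dvd_left (hcomm.orderOf_mul_dvd_lcm.trans (Nat.lcm_dvd_mul _ _))
      (Nat.Coprime.mul_left hac hbc)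
  inv_mem' := by
    rintro a ⟨ha, hac⟩
    exact ⟨M.inv_mem ha, by rwa [orderOf_inv]⟩

theorem mem_pPrimePart {p : ℕ} {M : Subgroup G} {hM : ∀ a ∈ M, ∀ b ∈ M, a * b = b * a} {m : G} :
    m ∈ pPrimePart p M hM ↔ m ∈ M ∧ (orderOf m).Coprime p := Iff.rfl

end forward

section forward2

variable {G : Type*} [Group G]

theorem pow_eq_of_parts {m : G} {s t : ℤ} {N : ℕ} (hst : m = m ^ s * m ^ t)
    (hs : (m ^ s) ^ N = 1) : m ^ N = (m ^ t) ^ N := by
  have hc : Commute (m ^ s) (m ^ t) := Commute.zpow_zpow_self m s t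
  calc m ^ N = (m ^ s * m ^ t) ^ N := congrArg (· ^ N) hst
    _ = (m ^ s) ^ N * (m ^ t) ^ N := hc.mul_pow N
    _ = (m ^ t) ^ N := by rw [hs, one_mul]

theorem pPrimePart_le {p : ℕ} {M : Subgroup G} {hM : ∀ a ∈ M, ∀ b ∈ M, a * b = b * a} :
    pPrimePart p M hM ≤ M := fun _ ha => ha.1

theorem pPrimePart_normal {p : ℕ} {M : Subgroup G} [hMn : M.Normal]
    {hM : ∀ a ∈ M, ∀ b ∈ M, a * b = b * a} : (pPrimePart p M hM).Normal := by
  constructor
  intro a ha g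
  refine ⟨hMn.conj_mem a ha.1 g, ?_⟩
  have h : orderOf (g * a * g⁻¹) = orderOf a := by
    have := orderOf_injective (MulAut.conj g).toMonoidHom (MulAut.conj g).injective a
    simpa using this
  rw [h]; exact ha.2

theorem eq_one_of_mem_pPrimePart_of_pow {p : ℕ} {M : Subgroup G}
    {hM : ∀ a ∈ M, ∀ b ∈ M, a * b = b * a} {a : G} (ha : a ∈ pPrimePart p M hM) {e : ℕ}
    (h : a ^ p ^ e = 1) : a = 1 := by
  have h1 : orderOf a ∣ p ^ e := orderOf_dvd_of_pow_eq_one h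
  have h2 : (orderOf a).Coprime (p ^ e) := Nat.Coprime.pow_right e ha.2
  exact orderOf_eq_one_iff.mp (Nat.Coprime.eq_one_of_dvd h2 h1)

theorem not_dvd_card_pPrimePart [Finite G] {p : ℕ} (hp : p.Prime) {M : Subgroup G}
    {hM : ∀ a ∈ M, ∀ b ∈ M, a * b = b * a} : ¬ p ∣ Nat.card (pPrimePart p M hM) := by
  intro hdvd
  haveI : Fact p.Prime := ⟨hp⟩
  obtain ⟨a, ha⟩ := exists_prime_orderOf_dvd_card' p hdvd
  have h1 : orderOf (a : G) = p := by rw [Subgroup.orderOf_coe]; exact ha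
  have h2 : (orderOf (a : G)).Coprime p := a.2.2
  rw [h1] at h2
  exact hp.one_lt.ne' ((Nat.coprime_self p).mp h2)

theorem mem_pPrimePart_parts [Finite G] {p : ℕ} (hp : p.Prime) {M : Subgroup G}
    {hM : ∀ a ∈ M, ∀ b ∈ M, a * b = b * a} {m : G} (hm : m ∈ M) :
    ∃ (u a : G) (e : ℕ), u ∈ M ∧ u ^ p ^ e = 1 ∧ a ∈ pPrimePart p M hM ∧ m = u * a ∧
      m ^ p ^ e = a ^ p ^ e := by
  obtain ⟨s, t, e, hst, hs, ht⟩ := exists_parts p hp m
  exact ⟨m ^ s, m ^ t, e, M.zpow_mem hm s, hs, ⟨M.zpow_mem hm t, ht⟩, hst, pow_eq_of_parts hst hs⟩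

theorem isPGroup_zpowers {p : ℕ} {x : G} {e : ℕ} (hx : x ^ p ^ e = 1) :
    IsPGroup p (Subgroup.zpowers x) := by
  intro z
  obtain ⟨i, hi⟩ := Subgroup.mem_zpowers_iff.mp z.2
  refine ⟨e, Subtype.ext ?_⟩
  simp only [Subgroup.coe_pow, Subgroup.coe_one]
  rw [← hi, ← zpow_natCast, ← zpow_mul, mul_comm, zpow_mul, zpow_natCast, hx, one_zpow]

theorem not_isMulCommutative_of_ne {H : Subgroup G} {a b : G} (ha : a ∈ H) (hb : b ∈ H)
    (h : a * b ≠ b * a) : ¬ IsMulCommutative H := by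
  intro hc
  apply h
  exact congrArg Subtype.val (hc.is_comm.comm (⟨a, ha⟩ : H) ⟨b, hb⟩)

theorem comm_of_isMulCommutative {H : Subgroup G} (hc : IsMulCommutative H) :
    ∀ a ∈ H, ∀ b ∈ H, a * b = b * a := by
  intro a ha b hb
  exact congrArg Subtype.val (hc.is_comm.comm (⟨a, ha⟩ : H) ⟨b, hb⟩)

theorem isMulCommutative_of_comm {H : Subgroup G} (h : ∀ a ∈ H, ∀ b ∈ H, a * b = b * a) :
    IsMulCommutative H :=
  ⟨⟨fun a b => Subtype.ext (h a a.2 b b.2)⟩⟩

theorem mem_normalizer_of_centralizes {H : Subgroup G} {c : G} (hc : ∀ h ∈ H, c * h = h * c) :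
    c ∈ Subgroup.normalizer (H : Set G) := by
  apply Subgroup.centralizer_le_normalizer
  rw [Subgroup.mem_centralizer_iff]
  intro h hh
  exact (hc h hh).symm

theorem mem_normalizer_sup (A Z : Subgroup G) [hAn : A.Normal] {y : G}
    (hy : y ∈ Subgroup.normalizer (Z : Set G)) :
    y ∈ Subgroup.normalizer ((A ⊔ Z : Subgroup G) : Set G) := by
  have key : ∀ w ∈ Subgroup.normalizer (Z : Set G), ∀ h ∈ A ⊔ Z, w * h * w⁻¹ ∈ A ⊔ Z := by
    intro w hw h hh
    rw [← SetLike.mem_coe, Subgroup.normal_mul] at hh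
    obtain ⟨a, ha, z, hz, rfl⟩ := Set.mem_mul.mp hh
    have : w * (a * z) * w⁻¹ = (w * a * w⁻¹) * (w * z * w⁻¹) := by group
    rw [this]
    exact Subgroup.mul_mem _ (Subgroup.mem_sup_left (hAn.conj_mem a ha w))
      (Subgroup.mem_sup_right ((Subgroup.mem_normalizer_iff.mp hw z).mp hz))
  rw [Subgroup.mem_normalizer_iff]
  intro h
  constructor
  · exact key y hy h
  · intro hh
    have := key y⁻¹ (Subgroup.inv_mem _ hy) _ hh
    have h2 : y⁻¹ * (y * h * y⁻¹) * y⁻¹⁻¹ = h := by group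
    rwa [h2] at this

/-- normalizers grow in `p`-groups -/
theorem exists_mem_normalizer_not_mem' [Finite G] {p : ℕ} [Fact p.Prime] {P D : Subgroup G}
    (hP : IsPGroup p P) (hDP : D ≤ P) (hne : D ≠ P) :
    ∃ x ∈ P, x ∈ Subgroup.normalizer (D : Set G) ∧ x ∉ D := by
  have : Group.IsNilpotent P := hP.isNilpotent
  have hlt : D.subgroupOf P < ⊤ := by
    rw [lt_top_iff_ne_top, Ne, Subgroup.subgroupOf_eq_top]
    intro h
    exact hne (le_antisymm hDP h)
  have h := Group.normalizerCondition_of_isNilpotent (G := P) _ hlt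
  obtain ⟨x, hxN, hxD⟩ := SetLike.exists_of_lt h
  refine ⟨x, x.2, ?_, fun hx => hxD (Subgroup.mem_subgroupOf.mpr hx)⟩
  rw [Subgroup.mem_normalizer_iff] at hxN ⊢
  intro h
  constructor
  · intro hh
    have := (hxN ⟨h, hDP hh⟩).mp (Subgroup.mem_subgroupOf.mpr hh)
    exact Subgroup.mem_subgroupOf.mp this
  · intro hh
    have hhP : h ∈ P := by
      have : h = (x : G)⁻¹ * ((x : G) * h * (x : G)⁻¹) * (x : G) := by group
      rw [this]
      exact P.mul_mem (P.mul_mem (P.inv_mem x.2) (hDP hh)) x.2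
    have := (hxN ⟨h, hhP⟩).mpr (Subgroup.mem_subgroupOf.mpr hh)
    exact Subgroup.mem_subgroupOf.mp this

theorem exists_zpow_mul_of_prime_index [Finite G] (M : Subgroup G) [hMn : M.Normal] {p : ℕ}
    (hp : p.Prime) (hidx : M.index = p) {x : G} (hx : x ∉ M) (g : G) :
    ∃ (j : ℤ) (m : G), m ∈ M ∧ g = x ^ j * m := by
  haveI : Fact p.Prime := ⟨hp⟩
  have hcard : Nat.card (G ⧸ M) = p := by rw [← Subgroup.index_eq_card, hidx]
  have hx1 : (QuotientGroup.mk' M x) ≠ 1 := fun h => hx ((QuotientGroup.eq_one_iff x).mp h)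
  have htop := zpowers_eq_top_of_prime_card hcard hx1
  have hg : QuotientGroup.mk' M g ∈ Subgroup.zpowers (QuotientGroup.mk' M x) := by
    rw [htop]; trivial
  obtain ⟨j, hj⟩ := Subgroup.mem_zpowers_iff.mp hg
  refine ⟨j, (x ^ j)⁻¹ * g, ?_, by group⟩
  rw [← QuotientGroup.eq_one_iff, ← QuotientGroup.mk'_apply, map_mul, map_inv, map_zpow, hj]
  group

theorem pow_mem_of_prime_index [Finite G] (M : Subgroup G) [hMn : M.Normal] {p : ℕ}
    (hidx : M.index = p) (g : G) : g ^ p ∈ M := by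
  have hcard : Nat.card (G ⧸ M) = p := by rw [← Subgroup.index_eq_card, hidx]
  rw [← QuotientGroup.eq_one_iff, ← QuotientGroup.mk'_apply, map_pow, ← hcard]
  exact pow_card_eq_one'

theorem psi_fixed_eq_one (A : Subgroup G) [hAn : A.Normal]
    (x : G) (n : ℕ) (hxn : x ^ n = 1) (hcop : ∀ a ∈ A, a ^ n = 1 → a = 1) {a : G} (ha : a ∈ A)
    (hcomm : x * (x⁻¹ * a⁻¹ * x * a) = (x⁻¹ * a⁻¹ * x * a) * x) : x⁻¹ * a⁻¹ * x * a = 1 := by
  have hcA : x⁻¹ * a⁻¹ * x * a ∈ A := by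
    have h3 : x⁻¹ * a⁻¹ * x ∈ A := by
      have := hAn.conj_mem a⁻¹ (A.inv_mem ha) x⁻¹
      simpa using this
    exact A.mul_mem h3 ha
  generalize hc : x⁻¹ * a⁻¹ * x * a = c at hcomm hcA
  have h1 : x⁻¹ * a * x = a * c⁻¹ := by
    rw [← hc]; group
  have hcx : Commute x c := hcomm
  have h2 : ∀ j : ℕ, (x ^ j)⁻¹ * a * x ^ j = a * (c ^ j)⁻¹ := by
    intro j
    induction j with
    | zero => simp
    | succ j ih =>
      have hcj : x⁻¹ * (c ^ j)⁻¹ * x = (c ^ j)⁻¹ := by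
        have h4 : Commute x (c ^ j)⁻¹ := (hcx.pow_right j).inv_right
        calc x⁻¹ * (c ^ j)⁻¹ * x = x⁻¹ * ((c ^ j)⁻¹ * x) := by group
          _ = x⁻¹ * (x * (c ^ j)⁻¹) := by rw [h4.eq]
          _ = (c ^ j)⁻¹ := by group
      calc (x ^ (j + 1))⁻¹ * a * x ^ (j + 1) = x⁻¹ * ((x ^ j)⁻¹ * a * x ^ j) * x := by
            rw [pow_succ]; group
        _ = x⁻¹ * (a * (c ^ j)⁻¹) * x := by rw [ih]
        _ = (x⁻¹ * a * x) * (x⁻¹ * (c ^ j)⁻¹ * x) := by group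
        _ = a * c⁻¹ * (c ^ j)⁻¹ := by rw [h1, hcj]
        _ = a * (c ^ (j + 1))⁻¹ := by rw [pow_succ, mul_inv_rev, mul_assoc]
  have h3 := h2 n
  rw [hxn] at h3
  have h4 : a * 1 = a * (c ^ n)⁻¹ := by simpa using h3
  have h5 : c ^ n = 1 := by
    have := mul_left_cancel h4
    exact inv_eq_one.mp this.symm
  exact hcop c hcA h5

end forward2

section forward3

variable {G : Type*} [Group G] [Finite G]

theorem fpf_of_selfnormalizing (A : Subgroup G) [hAn : A.Normal]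
    (hA : ∀ a ∈ A, ∀ b ∈ A, a * b = b * a) (x : G) (n : ℕ) (hxn : x ^ n = 1)
    (hcop : ∀ a ∈ A, a ^ n = 1 → a = 1)
    (hgen : ∀ g : G, ∃ (i : ℤ) (a : G), a ∈ A ∧ g = x ^ i * a)
    (hdisj : ∀ z ∈ Subgroup.zpowers x, z ∈ A → z = 1)
    (hnc : ∃ a0 ∈ A, x * a0 ≠ a0 * x)
    (hSN : ∀ H : Subgroup G, ¬ IsMulCommutative H → Subgroup.normalizer (H : Set G) = H) :
    ∀ a : G, a ∈ A → a ≠ 1 → x * a * x⁻¹ ≠ a := by
  intro c0 hc0 hc01 hfix
  have hcomm0 : x * c0 = c0 * x := by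
    calc x * c0 = (x * c0 * x⁻¹) * x := by group
      _ = c0 * x := by rw [hfix]
  let ψ : A →* G :=
    { toFun := fun a => x⁻¹ * (a : G)⁻¹ * x * a
      map_one' := by simp
      map_mul' := fun a b => psi_mul A hA x a.2 b.2 }
  have hψ : ∀ a : A, ψ a = x⁻¹ * (a : G)⁻¹ * x * a := fun _ => rfl
  have hconjA : ∀ (w : G) (a : G), a ∈ A → w * a * w⁻¹ ∈ A := fun w a ha => hAn.conj_mem a ha w
  have hBA : ψ.range ≤ A := by
    rintro b ⟨a, rfl⟩
    rw [hψ]
    have h3 : x⁻¹ * (a : G)⁻¹ * x ∈ A := by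
      have := hAn.conj_mem (a : G)⁻¹ (A.inv_mem a.2) x⁻¹
      simpa using this
    exact A.mul_mem h3 a.2
  -- `x` normalizes `B`
  have hxB : x ∈ Subgroup.normalizer (ψ.range : Set G) := by
    rw [Subgroup.mem_normalizer_iff]
    intro h
    constructor
    · rintro ⟨a, rfl⟩
      refine ⟨⟨x * a * x⁻¹, hconjA x a a.2⟩, ?_⟩
      rw [hψ, hψ]
      show x⁻¹ * (x * (a : G) * x⁻¹)⁻¹ * x * (x * (a : G) * x⁻¹) = _
      group
    · rintro ⟨a, ha⟩
      refine ⟨⟨x⁻¹ * a * x, by simpa using hconjA x⁻¹ a a.2⟩, ?_⟩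
      rw [hψ] at ha ⊢
      show x⁻¹ * (x⁻¹ * (a : G) * x)⁻¹ * x * (x⁻¹ * (a : G) * x) = _
      have : h = x⁻¹ * (x * h * x⁻¹) * x := by group
      rw [this, ← ha]
      group
  haveI hBn : (ψ.range).Normal := by
    rw [← Subgroup.normalizer_eq_top_iff, eq_top_iff]
    intro g _
    obtain ⟨i, a, ha, rfl⟩ := hgen g
    apply Subgroup.mul_mem _ (Subgroup.zpow_mem _ hxB i)
    apply mem_normalizer_of_centralizes
    intro b hb
    exact hA a ha b (hBA hb)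
  -- `B ⊔ ⟨x⟩` is nonabelian
  obtain ⟨a0, ha0, ha0x⟩ := hnc
  have hb0 : x * ψ ⟨a0, ha0⟩ ≠ ψ ⟨a0, ha0⟩ * x := by
    intro hcon
    rw [hψ] at hcon
    have := psi_fixed_eq_one A x n hxn hcop ha0 hcon
    apply ha0x
    have h2 : x * a0 = a0 * x * (x⁻¹ * a0⁻¹ * x * a0) := by group
    rw [h2, this, mul_one]
  have hH2 : ¬ IsMulCommutative (ψ.range ⊔ Subgroup.zpowers x : Subgroup G) :=
    not_isMulCommutative_of_ne (Subgroup.mem_sup_right (Subgroup.mem_zpowers x))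
      (Subgroup.mem_sup_left ⟨⟨a0, ha0⟩, rfl⟩) hb0
  have hN := hSN _ hH2
  have hc0N : c0 ∈ Subgroup.normalizer ((ψ.range ⊔ Subgroup.zpowers x : Subgroup G) : Set G) := by
    apply mem_normalizer_of_centralizes
    intro h hh
    rw [← SetLike.mem_coe, Subgroup.normal_mul] at hh
    obtain ⟨b, hb, z, hz, rfl⟩ := Set.mem_mul.mp hh
    obtain ⟨i, rfl⟩ := Subgroup.mem_zpowers_iff.mp hz
    have h1 : Commute c0 b := hA c0 hc0 b (hBA hb)
    have h2 : Commute c0 (x ^ i) := (Commute.zpow_right hcomm0.symm i)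
    exact (h1.mul_right h2).eq
  rw [hN, ← SetLike.mem_coe, Subgroup.normal_mul] at hc0N
  obtain ⟨b, hb, z, hz, hbz⟩ := Set.mem_mul.mp hc0N
  have hzA : z ∈ A := by
    have : z = b⁻¹ * c0 := by rw [← hbz]; group
    rw [this]
    exact A.mul_mem (A.inv_mem (hBA hb)) hc0
  have hz1 := hdisj z hz hzA
  rw [hz1, mul_one] at hbz
  obtain ⟨a, ha⟩ := hb
  rw [← hbz, ← ha, hψ] at hcomm0 hc01
  exact hc01 (psi_fixed_eq_one A x n hxn hcop a.2 hcomm0)

end forward3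

section forward4

variable {G : Type*} [Group G] [Finite G]

theorem forward [Group.IsSolvable G] (hnn : ¬ Group.IsNilpotent G)
    (hSN : ∀ H : Subgroup G, ¬ IsMulCommutative H → Subgroup.normalizer (H : Set G) = H) :
    ∃ (x : G) (A : Subgroup G) (p : ℕ), p.Prime ∧ A.Normal ∧ IsMulCommutative A ∧
      (∃ k : ℕ, orderOf x = p ^ k) ∧
      ¬ p ∣ Nat.card A ∧ (Subgroup.zpowers x).IsComplement' A ∧ x ^ p ∈ Subgroup.center G ∧
      ∀ a : G, a ∈ A → a ≠ 1 → x * a * x⁻¹ ≠ a := by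
  classical
  haveI : Nontrivial G := by
    by_contra h
    rw [not_nontrivial_iff_subsingleton] at h
    exact hnn Group.isNilpotent_of_subsingleton
  obtain ⟨M, hMn, hMp⟩ := exists_normal_prime_index (G := G)
  obtain ⟨p, hidx⟩ : ∃ p, M.index = p := ⟨_, rfl⟩
  rw [hidx] at hMp
  have hp : p.Prime := hMp
  haveI : Fact p.Prime := ⟨hp⟩
  -- `M` is abelian
  have hM : ∀ a ∈ M, ∀ b ∈ M, a * b = b * a := by
    by_contra hcon
    have hnc : ¬ IsMulCommutative M := fun hc => hcon (comm_of_isMulCommutative hc)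
    have h1 := hSN M hnc
    rw [Subgroup.normalizer_eq_top] at h1
    have : M.index = 1 := by rw [← h1]; exact Subgroup.index_top
    rw [hidx] at this
    exact hp.one_lt.ne' this
  obtain ⟨A, hAdef⟩ : ∃ A, A = pPrimePart p M hM := ⟨_, rfl⟩
  haveI hAn : A.Normal := by rw [hAdef]; exact pPrimePart_normal
  have hAM : A ≤ M := by rw [hAdef]; exact pPrimePart_le
  have hA : ∀ a ∈ A, ∀ b ∈ A, a * b = b * a := fun a ha b hb => hM a (hAM ha) b (hAM hb)
  have hAp : ∀ a ∈ A, ∀ e : ℕ, a ^ p ^ e = 1 → a = 1 := by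
    intro a ha e h
    rw [hAdef] at ha
    exact eq_one_of_mem_pPrimePart_of_pow ha h
  -- a `p`-element outside `M`
  obtain ⟨g, hg⟩ : ∃ g : G, g ∉ M := by
    by_contra hcon
    push Not at hcon
    have : M = ⊤ := (Subgroup.eq_top_iff' M).mpr hcon
    rw [this, Subgroup.index_top] at hidx
    rw [← hidx] at hp
    exact Nat.not_prime_one hp
  obtain ⟨s, t, e, hst, hs, ht⟩ := exists_parts p hp g
  have hcard : Nat.card (G ⧸ M) = p := by rw [← Subgroup.index_eq_card, hidx]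
  have hgtM : g ^ t ∈ M := by
    have h1 : orderOf (QuotientGroup.mk' M (g ^ t)) ∣ p := by
      rw [← hcard]; exact orderOf_dvd_natCard _
    have h2 : orderOf (QuotientGroup.mk' M (g ^ t)) ∣ orderOf (g ^ t) := orderOf_map_dvd _ _
    have h3 : orderOf (QuotientGroup.mk' M (g ^ t)) = 1 := Nat.eq_one_of_dvd_coprimes ht h2 h1
    rw [orderOf_eq_one_iff, QuotientGroup.mk'_apply, QuotientGroup.eq_one_iff] at h3
    exact h3
  obtain ⟨x, hxdef⟩ : ∃ x, x = g ^ s := ⟨_, rfl⟩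
  rw [← hxdef] at hs hst
  have hx : x ∉ M := by
    intro hxM
    apply hg
    rw [hst]
    exact M.mul_mem hxM hgtM
  have hGM := exists_zpow_mul_of_prime_index M hp hidx hx
  have hxpM : x ^ p ∈ M := pow_mem_of_prime_index M hidx x
  -- `x` does not centralize `A`
  have hnc : ∃ a0 ∈ A, x * a0 ≠ a0 * x := by
    by_contra hcon
    push Not at hcon
    apply hnn
    have hAc : A ≤ Subgroup.center G := by
      intro a ha
      rw [Subgroup.mem_center_iff]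
      intro g'
      obtain ⟨j, m, hm, rfl⟩ := hGM g'
      have h1 : Commute x a := hcon a ha
      have h2 : Commute (x ^ j) a := h1.zpow_left j
      have h3 : Commute m a := hM m hm a (hAM ha)
      exact (h2.mul_left h3).eq
    have hQ : IsPGroup p (G ⧸ A) := by
      intro q
      obtain ⟨g', rfl⟩ := QuotientGroup.mk'_surjective A q
      have hgp : g' ^ p ∈ M := pow_mem_of_prime_index M hidx g'
      obtain ⟨u, a, e', _, _, ha, _, hpow⟩ := mem_pPrimePart_parts (hM := hM) hp hgp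
      refine ⟨e' + 1, ?_⟩
      rw [← map_pow, QuotientGroup.mk'_apply, QuotientGroup.eq_one_iff, pow_succ', pow_mul, hpow,
        hAdef]
      exact Subgroup.pow_mem _ ha _
    haveI : Group.IsNilpotent (G ⧸ A) := hQ.isNilpotent
    exact Subgroup.isNilpotent_of_ker_le_center (QuotientGroup.mk' A)
      (by rw [QuotientGroup.ker_mk']; exact hAc)
  -- the Sylow `p`-subgroup is `⟨x⟩`
  have hZp : IsPGroup p (Subgroup.zpowers x) := isPGroup_zpowers hs
  obtain ⟨P, hZP⟩ := hZp.exists_le_sylow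
  have hPZ : (P : Subgroup G) = Subgroup.zpowers x := by
    by_contra hne
    obtain ⟨y, hyP, hyN, hyZ⟩ := exists_mem_normalizer_not_mem' P.2 hZP (fun h => hne h.symm)
    obtain ⟨a0, ha0, ha0x⟩ := hnc
    have hH1 : ¬ IsMulCommutative (A ⊔ Subgroup.zpowers x : Subgroup G) :=
      not_isMulCommutative_of_ne (Subgroup.mem_sup_right (Subgroup.mem_zpowers x))
        (Subgroup.mem_sup_left ha0) ha0x
    have hN := hSN _ hH1
    have hyH1 := mem_normalizer_sup A (Subgroup.zpowers x) hyN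
    rw [hN, ← SetLike.mem_coe, Subgroup.normal_mul] at hyH1
    obtain ⟨a, ha, z, hz, haz⟩ := Set.mem_mul.mp hyH1
    have haP : a ∈ (P : Subgroup G) := by
      have : a = y * z⁻¹ := by rw [← haz]; group
      rw [this]
      exact Subgroup.mul_mem _ hyP (Subgroup.inv_mem _ (hZP hz))
    obtain ⟨k, hk⟩ := P.2 ⟨a, haP⟩
    have hk' : a ^ p ^ k = 1 := congrArg Subtype.val hk
    have ha1 := hAp a ha k hk'
    rw [ha1, one_mul] at haz
    exact hyZ (haz ▸ hz)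
  -- `p`-elements of `M` lie in `⟨x⟩`
  have hu : ∀ u ∈ M, ∀ e' : ℕ, u ^ p ^ e' = 1 → u ∈ Subgroup.zpowers x := by
    intro u huM e' hue
    have hUp : IsPGroup p (Subgroup.zpowers u) := isPGroup_zpowers hue
    obtain ⟨Q, hUQ⟩ := hUp.exists_le_sylow
    obtain ⟨c, hc⟩ := MulAction.exists_smul_eq G P Q
    have huQ : u ∈ (Q : Subgroup G) := hUQ (Subgroup.mem_zpowers u)
    rw [← hc, Sylow.coe_subgroup_smul, Subgroup.mem_pointwise_smul_iff_inv_smul_mem, hPZ] at huQ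
    have hw : c⁻¹ * u * c ∈ Subgroup.zpowers x := by
      simpa [MulAut.smul_def] using huQ
    obtain ⟨i, hi⟩ := Subgroup.mem_zpowers_iff.mp hw
    have hwM : x ^ i ∈ M := by
      rw [hi]
      have := hMn.conj_mem u huM c⁻¹
      simpa using this
    obtain ⟨j, m, hm, hcjm⟩ := hGM c
    have hu_eq : u = x ^ i := by
      have h1 : u = c * (x ^ i) * c⁻¹ := by rw [hi]; group
      rw [h1, hcjm]
      have h2 : m * x ^ i = x ^ i * m := hM m hm _ hwM
      calc x ^ j * m * x ^ i * (x ^ j * m)⁻¹ = x ^ j * (m * x ^ i) * m⁻¹ * (x ^ j)⁻¹ := by group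
        _ = x ^ j * (x ^ i * m) * m⁻¹ * (x ^ j)⁻¹ := by rw [h2]
        _ = x ^ j * x ^ i * (x ^ j)⁻¹ := by group
        _ = x ^ i := by rw [← zpow_add, add_comm, zpow_add]; group
    rw [hu_eq]
    exact Subgroup.zpow_mem _ (Subgroup.mem_zpowers x) i
  -- `G = ⟨x⟩ A`
  have hgen : ∀ g : G, ∃ (i : ℤ) (a : G), a ∈ A ∧ g = x ^ i * a := by
    intro g'
    obtain ⟨j, m, hm, rfl⟩ := hGM g'
    obtain ⟨u, a, e', huM, hue, ha, hmua, _⟩ := mem_pPrimePart_parts (hM := hM) hp hm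
    obtain ⟨i, hi⟩ := Subgroup.mem_zpowers_iff.mp (hu u huM e' hue)
    refine ⟨j + i, a, by rw [hAdef]; exact ha, ?_⟩
    rw [hmua, ← hi, zpow_add, mul_assoc]
  have hdisj : ∀ z ∈ Subgroup.zpowers x, z ∈ A → z = 1 := by
    intro z hz hzA
    obtain ⟨k, hk⟩ := hZp ⟨z, hz⟩
    exact hAp z hzA k (congrArg Subtype.val hk)
  refine ⟨x, A, p, hp, hAn, isMulCommutative_of_comm hA, ?_, ?_, ?_, ?_, ?_⟩
  · obtain ⟨k, _, hk⟩ := (Nat.dvd_prime_pow hp).mp (orderOf_dvd_of_pow_eq_one hs)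
    exact ⟨k, hk⟩
  · rw [hAdef]; exact not_dvd_card_pPrimePart hp
  · apply Subgroup.isComplement'_of_disjoint_and_mul_eq_univ
    · rw [Subgroup.disjoint_def]
      intro z hz hzA
      exact hdisj z hz hzA
    · rw [Set.eq_univ_iff_forall]
      intro g'
      obtain ⟨i, a, ha, rfl⟩ := hgen g'
      exact Set.mem_mul.mpr ⟨x ^ i, Subgroup.zpow_mem _ (Subgroup.mem_zpowers x) i, a, ha, rfl⟩
  · rw [Subgroup.mem_center_iff]
    intro g'
    obtain ⟨i, a, ha, rfl⟩ := hgen g'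
    have h1 : Commute a (x ^ p) := hM a (hAM ha) _ hxpM
    have h2 : Commute (x ^ i) (x ^ p) := by
      have := Commute.zpow_zpow_self x i (p : ℤ)
      rwa [zpow_natCast] at this
    exact (h2.mul_left h1).eq
  · exact fpf_of_selfnormalizing A hA x (p ^ e) hs (fun a ha h => hAp a ha e h) hgen hdisj hnc hSN

end forward4

/-- Let G be a finite solvable non-nilpotent group. Every non-abelian subgroup of G is self-normalizing if and only if G is a semidirect product ⟨x⟩ ⋉ A in which ⟨x⟩ is a p-group for some prime p, A is a normal abelian subgroup of order prime to p, x^p is central in G, and x acts fixed-point-freely on A (no non-identity element of A commutes with x). -/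
theorem result {G : Type*} [Group G] [Finite G]
    [Group.IsSolvable G] (hnn : ¬ Group.IsNilpotent G) :
    (∀ H : Subgroup G, ¬ IsMulCommutative H → Subgroup.normalizer (H : Set G) = H) ↔
    ∃ (x : G) (A : Subgroup G) (p : ℕ), p.Prime ∧ A.Normal ∧ IsMulCommutative A ∧ (∃ k : ℕ, orderOf x = p ^ k) ∧
      ¬ p ∣ Nat.card A ∧ (Subgroup.zpowers x).IsComplement' A ∧ x ^ p ∈ Subgroup.center G ∧
      ∀ a : G, a ∈ A → a ≠ 1 → x * a * x⁻¹ ≠ a := by
  constructor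
  · intro hSN
    exact forward hnn hSN
  · rintro ⟨x, A, p, hp, hAn, hAc, hk, _, hcompl, hxp, hfpf⟩ H hH
    exact backward x A p hp hAn hAc hk hcompl hxp hfpf H hH

end Cfsg.Agent.S4071
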