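import Cfsg.Statements.S4072
import Cfsg.Agent.Lib.Helper63_PGroup
import Cfsg.Agent.Lib.Helper63_PGroup2

set_option autoImplicit false
open Cfsg

namespace Cfsg.Agent.S4072

open Subgroup Cfsg.Agent.Lib.Helper63_PGroup Cfsg.Agent.Lib.Helper63_PGroup2
open scoped commutatorElement

universe u

/-- the hypothesis: every non-abelian subgroup is self-normalizing -/
def Hyp (G : Type*) [Group G] : Prop :=
  ∀ H : Subgroup G, ¬ IsMulCommutative H → Subgroup.normalizer (H : Set G) = H

section Basic
variable {G : Type*} [Group G]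

theorem quot_selfnorm (N : Subgroup G) [N.Normal] (K : Subgroup (G ⧸ N))
    (h : normalizer ((K.comap (QuotientGroup.mk' N) : Subgroup G) : Set G) =
      K.comap (QuotientGroup.mk' N)) :
    normalizer (K : Set (G ⧸ N)) = K := by
  have h1 := comap_normalizer_eq_of_surjective K (QuotientGroup.mk'_surjective N)
  rw [h] at h1
  exact comap_injective (QuotientGroup.mk'_surjective N) h1

theorem Hyp.quotient (h : Hyp G) (N : Subgroup G) [N.Normal] : Hyp (G ⧸ N) := by
  intro K hK
  apply quot_selfnorm
  apply h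
  intro hc
  apply hK
  refine ⟨⟨fun a b => ?_⟩⟩
  obtain ⟨a', ha'⟩ := QuotientGroup.mk'_surjective N a.1
  obtain ⟨b', hb'⟩ := QuotientGroup.mk'_surjective N b.1
  have ha'' : a' ∈ K.comap (QuotientGroup.mk' N) := by
    rw [mem_comap, ha']; exact a.2
  have hb'' : b' ∈ K.comap (QuotientGroup.mk' N) := by
    rw [mem_comap, hb']; exact b.2
  have := comm_of_mem hc ha'' hb''
  apply Subtype.ext
  show a.1 * b.1 = b.1 * a.1
  rw [← ha', ← hb', ← map_mul, ← map_mul, this]

theorem isSolvable_of_quotient_of_comm (N : Subgroup G) [N.Normal] (hN : IsMulCommutative N)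
    (hq : Group.IsSolvable (G ⧸ N)) : Group.IsSolvable G := by
  have h1 : Group.IsSolvable N :=
    Group.isSolvable_of_comm (fun a b => hN.is_comm.comm a b)
  refine Group.isSolvable_of_ker_le_range N.subtype (QuotientGroup.mk' N) ?_
  rw [QuotientGroup.ker_mk', range_subtype]

end Basic

section PGroup
variable {R : Type*} [Group R] [Finite R] {p : ℕ} [hpf : Fact p.Prime]

/-- a non-abelian finite `p`-group all of whose proper subgroups are abelian has derived subgroup
of order at most `p`. -/
theorem card_commutator_le_of_minimal_nonabelian (hR : IsPGroup p R) (hna : ¬ IsMulCommutative R)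
    (hmin : ∀ Q : Subgroup R, Q ≠ ⊤ → IsMulCommutative Q) : Nat.card (commutator R) ≤ p := by
  have hpp : p.Prime := hpf.out
  obtain ⟨n, hn⟩ := hR.exists_card_eq
  have hn1 : n ≠ 0 := by
    rintro rfl
    rw [pow_zero] at hn
    have : Subsingleton R := (Nat.card_eq_one_iff_unique.1 hn).1
    exact hna ⟨⟨fun a b => Subsingleton.elim _ _⟩⟩
  obtain ⟨k, rfl⟩ : ∃ k, n = k + 1 := ⟨n - 1, by omega⟩
  have hdvd : p ^ k ∣ Nat.card R := by rw [hn]; exact pow_dvd_pow p (by omega)
  have hidx : ∀ A : Subgroup R, Nat.card A = p ^ k → A.index = p := by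
    intro A hA
    have h1 := A.card_mul_index
    rw [hA, hn, pow_succ] at h1
    exact Nat.eq_of_mul_eq_mul_left (Nat.pow_pos hpp.pos) h1
  have hne_top : ∀ A : Subgroup R, A.index = p → A ≠ ⊤ := by
    rintro A hA rfl
    rw [index_top] at hA
    exact hpp.one_lt.ne hA
  obtain ⟨A, hAcard⟩ := Sylow.exists_subgroup_card_pow_prime p hdvd
  have hAi := hidx A hAcard
  have hAtop := hne_top A hAi
  have hAc := hmin A hAtop
  obtain ⟨x, hxA⟩ : ∃ x : R, x ∉ A := by
    by_contra hall
    push Not at hall
    exact hAtop (eq_top_iff.2 fun x _ => hall x)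
  have hzx : zpowers x ≠ ⊤ := by
    intro htop
    apply hna
    refine ⟨⟨fun a b => ?_⟩⟩
    have ha : a ∈ zpowers x := htop ▸ mem_top a
    have hb : b ∈ zpowers x := htop ▸ mem_top b
    obtain ⟨i, rfl⟩ := mem_zpowers_iff.1 ha
    obtain ⟨j, rfl⟩ := mem_zpowers_iff.1 hb
    exact (Commute.zpow_zpow_self x i j).eq
  obtain ⟨j, hj⟩ := (hR.to_subgroup (zpowers x)).exists_card_eq
  have hjk : j ≤ k := by
    have h1 : p ^ j ∣ p ^ (k + 1) := by
      rw [← hj, ← hn]; exact Subgroup.card_subgroup_dvd_card _
    have h2 := (Nat.pow_dvd_pow_iff_le_right hpp.one_lt).1 h1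
    by_contra hlt
    have hjeq : j = k + 1 := by omega
    apply hzx
    apply Subgroup.eq_top_of_card_eq
    rw [hj, hjeq, hn]
  obtain ⟨M, hMcard, hxM⟩ := Sylow.exists_subgroup_card_pow_prime_le p hdvd (zpowers x) hj hjk
  have hMi := hidx M hMcard
  have hMtop := hne_top M hMi
  have hMc := hmin M hMtop
  have hxM' : x ∈ M := hxM (mem_zpowers x)
  have hcoatom : IsCoatom A := isCoatom_of_index_prime A (hAi ▸ hpp)
  have hsup : A ⊔ M = ⊤ := by
    apply hcoatom.2
    apply lt_of_le_of_ne le_sup_left
    intro heq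
    apply hxA
    rw [heq]
    exact mem_sup_right hxM'
  have hD : A ⊓ M ≤ center R := by
    intro d hd
    have h1 : d ∈ centralizer ((A ⊔ M : Subgroup R) : Set R) := by
      rw [centralizer_sup']
      refine mem_inf.2 ⟨?_, ?_⟩
      · rw [mem_centralizer_iff]
        intro a ha
        exact comm_of_mem hAc ha (mem_inf.1 hd).1
      · rw [mem_centralizer_iff]
        intro a ha
        exact comm_of_mem hMc ha (mem_inf.1 hd).2
    rw [hsup, coe_top, centralizer_univ] at h1
    exact h1
  have h1 : (center R).index ≤ p * p := by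
    have h2 : (center R).index ∣ (A ⊓ M).index := index_dvd_of_le hD
    have h3 : (A ⊓ M).index ≤ A.index * M.index := index_inf_le
    rw [hAi, hMi] at h3
    exact (Nat.le_of_dvd (Nat.pos_of_ne_zero (index_ne_zero_of_finite)) h2).trans h3
  rw [index_center_eq_of_abelian_index_prime hR hna A hAc hAi] at h1
  exact Nat.le_of_mul_le_mul_left h1 hpp.pos

end PGroup

section Main

/-- Burnside step: in a simple group, a nontrivial Sylow `p`-subgroup with `N(P) ≤ C(P)` is
everything, so the group is abelian. -/
theorem comm_of_simple_of_burnside {Q : Type*} [Group Q] [Finite Q] [IsSimpleGroup Q] {p : ℕ}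
    [Fact p.Prime] (P : Sylow p Q) (hP : normalizer ((P : Subgroup Q) : Set Q) ≤
      centralizer ((P : Subgroup Q) : Set Q)) (hne : (P : Subgroup Q) ≠ ⊥) :
    ∀ a b : Q, a * b = b * a := by
  have hc := MonoidHom.ker_transferSylow_isComplement' P hP
  rcases (MonoidHom.normal_ker (MonoidHom.transferSylow P hP)).eq_bot_or_eq_top with h | h
  · rw [h, isComplement'_bot_left] at hc
    intro a b
    have ha : a ∈ (P : Subgroup Q) := hc ▸ mem_top a
    have hb : b ∈ (P : Subgroup Q) := hc ▸ mem_top b
    have := hP (le_normalizer ha) b hb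
    exact this.symm
  · rw [h, isComplement'_top_left] at hc
    exact absurd hc hne

theorem main : ∀ (n : ℕ) (G : Type u) [Group G] [Finite G], Nat.card G = n → Hyp G →
    Group.IsSolvable G ∨ IsSimpleGroup G := by
  intro n
  induction n using Nat.strong_induction_on with
  | _ n ih =>
  intro G _ _ hcard hH
  by_contra hcon
  push Not at hcon
  obtain ⟨hns, hnsimple⟩ := hcon
  have hnt : Nontrivial G := by
    by_contra hnt
    rw [not_nontrivial_iff_subsingleton] at hnt
    exact hns (Group.isSolvable_of_comm fun a b => Subsingleton.elim _ _)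
  -- Step 1: a proper nontrivial normal subgroup
  obtain ⟨N, hNn, hNbot, hNtop⟩ : ∃ N : Subgroup G, N.Normal ∧ N ≠ ⊥ ∧ N ≠ ⊤ := by
    by_contra hno
    push Not at hno
    apply hnsimple
    refine ⟨fun H hHn => ?_⟩
    by_contra h
    push Not at h
    exact h.2 (hno H hHn h.1)
  -- Step 2: proper normal subgroups are abelian
  have habel : ∀ K : Subgroup G, K.Normal → K ≠ ⊤ → IsMulCommutative K := by
    intro K hKn hKtop
    by_contra hc
    have := hH K hc
    rw [normalizer_eq_top] at this
    exact hKtop this.symm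
  -- Step 3: quotients by proper nontrivial normal subgroups are simple and not solvable
  have hquot : ∀ (K : Subgroup G) [K.Normal], K ≠ ⊥ → K ≠ ⊤ →
      ¬ Group.IsSolvable (G ⧸ K) ∧ IsSimpleGroup (G ⧸ K) := by
    intro K hKn hKbot hKtop
    have h1 : ¬ Group.IsSolvable (G ⧸ K) := fun hq =>
      hns (isSolvable_of_quotient_of_comm K (habel K hKn hKtop) hq)
    refine ⟨h1, ?_⟩
    have hlt : Nat.card (G ⧸ K) < n := by
      rw [← hcard, K.card_eq_card_quotient_mul_card_subgroup]
      have h2 : 1 < Nat.card K := (one_lt_card_iff_ne_bot K).2 hKbot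
      have h3 : 0 < Nat.card (G ⧸ K) := Nat.card_pos
      nlinarith
    rcases ih _ hlt (G ⧸ K) rfl (hH.quotient K) with h | h
    · exact absurd h h1
    · exact h
  have hmax : ∀ (K L : Subgroup G) [K.Normal] [L.Normal], K ≠ ⊥ → K ≠ ⊤ → K ≤ L → L ≠ ⊤ →
      L = K := by
    intro K L hKn hLn hKbot hKtop hKL hLtop
    obtain ⟨_, hsimple⟩ := hquot K hKbot hKtop
    have hLmap : (L.map (QuotientGroup.mk' K)).Normal :=
      hLn.map _ (QuotientGroup.mk'_surjective K)
    rcases hLmap.eq_bot_or_eq_top with h | h
    · apply le_antisymm _ hKL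
      rw [Subgroup.map_eq_bot_iff, QuotientGroup.ker_mk'] at h
      exact h
    · exfalso
      apply hLtop
      have h2 := congrArg (Subgroup.comap (QuotientGroup.mk' K)) h
      rw [comap_map_eq, QuotientGroup.ker_mk', comap_top, sup_eq_left.2 hKL] at h2
      exact h2
  have hNab := habel N hNn hNtop
  have hNC : N ≤ centralizer (N : Set G) := by
    intro a ha
    rw [mem_centralizer_iff]
    intro b hb
    exact comm_of_mem hNab hb ha
  by_cases hC : centralizer (N : Set G) = ⊤
  · -- Case B: `N` central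
    have hNZ : ∀ a ∈ N, ∀ g : G, g * a = a * g := by
      intro a ha g
      have hg : g ∈ centralizer (N : Set G) := hC ▸ mem_top g
      exact (mem_centralizer_iff.1 hg a ha).symm
    have hperf : commutator G = ⊤ := by
      by_contra hne
      have hcn : (commutator G).Normal := inferInstance
      have hab := habel (commutator G) hcn hne
      apply hns
      have h1 : Group.IsSolvable ↥(commutator G) :=
        Group.isSolvable_of_comm (fun a b => hab.is_comm.comm a b)
      refine Group.isSolvable_of_ker_le_range (commutator G).subtype (Abelianization.of) ?_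
      rw [Abelianization.ker_of, range_subtype]
    have hcardN : Nat.card N ≠ 1 := fun h1 => hNbot (card_eq_one.1 h1)
    obtain ⟨p, hp, hpdvd⟩ := Nat.exists_prime_and_dvd hcardN
    have : Fact p.Prime := ⟨hp⟩
    obtain ⟨z', hz'⟩ := exists_prime_orderOf_dvd_card' p hpdvd
    set z : G := (z' : G) with hz
    have hzo : orderOf z = p := by rw [hz, Subgroup.orderOf_coe, hz']
    have hzN : z ∈ N := z'.2
    have hzc : ∀ g : G, g * z = z * g := hNZ z hzN
    have hz1 : z ≠ 1 := by
      intro h
      rw [h, orderOf_one] at hzo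
      exact hp.one_lt.ne hzo
    have hzp : IsPGroup p (zpowers z) :=
      IsPGroup.of_card (n := 1) (by rw [Nat.card_zpowers, hzo, pow_one])
    obtain ⟨P, hzP'⟩ := hzp.exists_le_sylow
    have hzP : z ∈ (P : Subgroup G) := hzP' (mem_zpowers z)
    have hT : (⟨z, hzP⟩ : ↥(P : Subgroup G)) ∈ commutator ↥(P : Subgroup G) := by
      have key : ∀ (k : ℕ) (g₀ : G), g₀⁻¹ * z ^ k * g₀ ∈ (P : Subgroup G) →
          g₀⁻¹ * z ^ k * g₀ = z ^ k := by
        intro k g₀ _
        have hc1 : Commute g₀ z := hzc g₀
        rw [mul_assoc, ← (hc1.pow_right k).eq, inv_mul_cancel_left]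
      have h1 := MonoidHom.transfer_eq_pow
        (Abelianization.of : ↥(P : Subgroup G) →* Abelianization ↥(P : Subgroup G)) z key
      have h2 : (MonoidHom.transfer
          (Abelianization.of : ↥(P : Subgroup G) →* Abelianization ↥(P : Subgroup G))) z = 1 := by
        have : z ∈ (MonoidHom.transfer
            (Abelianization.of : ↥(P : Subgroup G) →* Abelianization ↥(P : Subgroup G))).ker :=
          Abelianization.commutator_subset_ker _ (hperf ▸ mem_top z)
        exact this
      rw [h2] at h1
      have h3 : (⟨z ^ (P : Subgroup G).index, MonoidHom.transfer_eq_pow_aux z key⟩ :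
          ↥(P : Subgroup G)) ∈ commutator ↥(P : Subgroup G) := by
        rw [← Abelianization.ker_of, MonoidHom.mem_ker]
        exact h1.symm
      have hcop : Nat.Coprime (P : Subgroup G).index p :=
        ((Nat.Prime.coprime_iff_not_dvd hp).2 P.not_dvd_index).symm
      obtain ⟨m, -, hm⟩ := Nat.exists_mul_mod_eq_one_of_coprime hcop hp.one_lt
      have h4 : (z ^ (P : Subgroup G).index) ^ m = z := by
        rw [← pow_mul, ← pow_mod_orderOf, hzo, hm, pow_one]
      have h5 : (⟨z, hzP⟩ : ↥(P : Subgroup G)) =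
          (⟨z ^ (P : Subgroup G).index, MonoidHom.transfer_eq_pow_aux z key⟩ :
            ↥(P : Subgroup G)) ^ m := Subtype.ext (by simp [h4])
      rw [h5]
      exact pow_mem h3 m
    have hPna : ¬ IsMulCommutative ↥(P : Subgroup G) := by
      intro hc
      have h1 : commutator ↥(P : Subgroup G) ≤ ⊥ := by
        rw [commutator_def, Subgroup.commutator_le]
        intro a _ b _
        rw [mem_bot, commutatorElement_eq_one_iff_mul_comm]
        exact hc.is_comm.comm a b
      have h2 := h1 hT
      rw [mem_bot] at h2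
      exact hz1 (congrArg Subtype.val h2)
    have hPself : normalizer ((P : Subgroup G) : Set G) = P := hH P hPna
    have hPmin : ∀ Q : Subgroup ↥(P : Subgroup G), Q ≠ ⊤ → IsMulCommutative Q := by
      intro Q hQ
      by_contra hQna
      have hQ' : ¬ IsMulCommutative (Q.map (P : Subgroup G).subtype) := by
        intro hc
        apply hQna
        refine ⟨⟨fun a b => ?_⟩⟩
        have h1 := comm_of_mem hc (mem_map_of_mem (P : Subgroup G).subtype a.2)
          (mem_map_of_mem (P : Subgroup G).subtype b.2)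
        apply Subtype.ext
        apply Subtype.ext
        exact h1
      have hself := hH _ hQ'
      have hnil : Group.IsNilpotent ↥(P : Subgroup G) := P.2.isNilpotent
      have hnc := Group.normalizerCondition_of_isNilpotent (G := ↥(P : Subgroup G))
      have hlt := hnc Q (lt_top_iff_ne_top.2 hQ)
      obtain ⟨y, hyN, hyQ⟩ := SetLike.exists_of_lt hlt
      have hy : (y : G) ∈ normalizer ((Q.map (P : Subgroup G).subtype : Subgroup G) : Set G) := by
        rw [mem_normalizer_iff]
        intro h
        constructor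
        · rintro ⟨h', hh', rfl⟩
          exact ⟨y * h' * y⁻¹, (mem_normalizer_iff.1 hyN h').1 hh', rfl⟩
        · rintro ⟨w, hw, hweq⟩
          have hh : h = (((y⁻¹ * w * y : ↥(P : Subgroup G))) : G) := by
            have : (w : G) = (y : G) * h * (y : G)⁻¹ := hweq
            simp only [Subgroup.coe_mul, Subgroup.coe_inv, this]
            group
          rw [hh]
          refine ⟨y⁻¹ * w * y, ?_, rfl⟩
          apply (mem_normalizer_iff.1 hyN (y⁻¹ * w * y)).2
          have : y * (y⁻¹ * w * y) * y⁻¹ = w := by group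
          rw [this]
          exact hw
      rw [hself] at hy
      obtain ⟨y', hy', hyy⟩ := hy
      have : y' = y := Subtype.ext hyy
      exact hyQ (this ▸ hy')
    have hcardc := card_commutator_le_of_minimal_nonabelian P.2 hPna hPmin
    have hcomm_eq : commutator ↥(P : Subgroup G) = zpowers (⟨z, hzP⟩ : ↥(P : Subgroup G)) := by
      symm
      apply eq_of_le_of_card_ge (zpowers_le.2 hT)
      rw [Nat.card_zpowers, Subgroup.orderOf_mk, hzo]
      exact hcardc
    have hZn : (zpowers z).Normal := by
      refine ⟨fun a ha g => ?_⟩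
      obtain ⟨i, rfl⟩ := mem_zpowers_iff.1 ha
      have hc1 : Commute g z := hzc g
      rw [(hc1.zpow_right i).eq, mul_inv_cancel_right]
      exact ha
    have hZbot : zpowers z ≠ ⊥ := by
      intro h
      exact hz1 ((zpowers_eq_bot).1 h)
    have hZtop : zpowers z ≠ ⊤ := by
      intro h
      apply hNtop
      rw [eq_top_iff, ← h]
      exact zpowers_le.2 hzN
    obtain ⟨hQns, hQsimple⟩ := hquot (zpowers z) hZbot hZtop
    have hf : Function.Surjective (QuotientGroup.mk' (zpowers z)) :=
      QuotientGroup.mk'_surjective _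
    have hPq : ((P.mapSurjective hf : Sylow p (G ⧸ zpowers z)) : Subgroup (G ⧸ zpowers z)) =
        (P : Subgroup G).map (QuotientGroup.mk' (zpowers z)) := Sylow.coe_mapSurjective hf P
    have hPqne : ((P.mapSurjective hf : Sylow p (G ⧸ zpowers z)) : Subgroup (G ⧸ zpowers z)) ≠ ⊥ := by
      rw [hPq]
      intro h
      rw [Subgroup.map_eq_bot_iff, QuotientGroup.ker_mk'] at h
      apply hPna
      refine ⟨⟨fun a b => Subtype.ext ?_⟩⟩
      obtain ⟨i, hi⟩ := mem_zpowers_iff.1 (h a.2)
      obtain ⟨j, hj⟩ := mem_zpowers_iff.1 (h b.2)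
      show (a : G) * (b : G) = (b : G) * (a : G)
      rw [← hi, ← hj]
      exact (Commute.zpow_zpow_self z i j).eq
    have hPqself : normalizer (((P.mapSurjective hf : Sylow p (G ⧸ zpowers z)) :
        Subgroup (G ⧸ zpowers z)) : Set (G ⧸ zpowers z)) = (P.mapSurjective hf : Sylow p (G ⧸ zpowers z)) := by
      apply quot_selfnorm
      rw [hPq, comap_map_eq, QuotientGroup.ker_mk', sup_eq_left.2 hzP']
      exact hPself
    have hPqc : ∀ a ∈ ((P.mapSurjective hf : Sylow p (G ⧸ zpowers z)) : Subgroup (G ⧸ zpowers z)),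
        ∀ b ∈ ((P.mapSurjective hf : Sylow p (G ⧸ zpowers z)) : Subgroup (G ⧸ zpowers z)),
        a * b = b * a := by
      rw [hPq]
      rintro _ ⟨a, ha, rfl⟩ _ ⟨b, hb, rfl⟩
      have h1 : ⁅(⟨a, ha⟩ : ↥(P : Subgroup G)), ⟨b, hb⟩⁆ ∈ commutator ↥(P : Subgroup G) := by
        rw [_root_.commutator_def]
        exact Subgroup.commutator_mem_commutator (mem_top _) (mem_top _)
      rw [hcomm_eq] at h1
      obtain ⟨i, hi⟩ := mem_zpowers_iff.1 h1
      have h2 : ⁅a, b⁆ = z ^ i := by
        have := congrArg Subtype.val hi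
        simpa [commutatorElement_def] using this.symm
      have h3 : QuotientGroup.mk' (zpowers z) ⁅a, b⁆ = 1 :=
        (QuotientGroup.eq_one_iff _).2 (h2 ▸ zpow_mem (mem_zpowers z) i)
      rw [map_commutatorElement, commutatorElement_eq_one_iff_mul_comm] at h3
      exact h3
    have hPqN : normalizer (((P.mapSurjective hf : Sylow p (G ⧸ zpowers z)) :
        Subgroup (G ⧸ zpowers z)) : Set (G ⧸ zpowers z)) ≤
        centralizer (((P.mapSurjective hf : Sylow p (G ⧸ zpowers z)) :
        Subgroup (G ⧸ zpowers z)) : Set (G ⧸ zpowers z)) := by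
      rw [hPqself]
      intro a ha
      rw [mem_centralizer_iff]
      intro b hb
      exact hPqc b hb a ha
    exact hQns (Group.isSolvable_of_comm
      (comm_of_simple_of_burnside (P.mapSurjective hf) hPqN hPqne))
  · -- Case A: `C_G(N) = N`
    have hCN : centralizer (N : Set G) = N :=
      hmax N (centralizer (N : Set G)) hNbot hNtop hNC hC
    obtain ⟨hQns, hQsimple⟩ := hquot N hNbot hNtop
    have hcardQ : Nat.card (G ⧸ N) ≠ 1 := by
      intro h1
      have : Subsingleton (G ⧸ N) := (Nat.card_eq_one_iff_unique.1 h1).1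
      exact hQns (Group.isSolvable_of_comm fun a b => Subsingleton.elim _ _)
    obtain ⟨p, hp, hpdvd⟩ := Nat.exists_prime_and_dvd hcardQ
    haveI : Fact p.Prime := ⟨hp⟩
    obtain ⟨P⟩ : Nonempty (Sylow p (G ⧸ N)) := inferInstance
    have hPne : (P : Subgroup (G ⧸ N)) ≠ ⊥ := P.ne_bot_of_dvd_card hpdvd
    have hPnt : Nontrivial ↥(P : Subgroup (G ⧸ N)) := (nontrivial_iff_ne_bot _).2 hPne
    have hcn : Nontrivial (center ↥(P : Subgroup (G ⧸ N))) := P.2.center_nontrivial
    have hpc : p ∣ Nat.card (center ↥(P : Subgroup (G ⧸ N))) := by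
      obtain ⟨m, hm0, hm⟩ := (P.2.to_subgroup (center _)).nontrivial_iff_card.1 hcn
      rw [hm]; exact dvd_pow_self p hm0.ne'
    obtain ⟨c, hc⟩ := exists_prime_orderOf_dvd_card' p hpc
    set xq : G ⧸ N := ((c : ↥(P : Subgroup (G ⧸ N))) : G ⧸ N) with hxq
    have hxqo : orderOf xq = p := by
      rw [hxq, Subgroup.orderOf_coe, Subgroup.orderOf_coe, hc]
    have hxqP : xq ∈ (P : Subgroup (G ⧸ N)) := (c : ↥(P : Subgroup (G ⧸ N))).2
    have hxqc : ∀ g ∈ (P : Subgroup (G ⧸ N)), g * xq = xq * g := by
      intro g hg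
      have := mem_center_iff.1 c.2 ⟨g, hg⟩
      exact congrArg Subtype.val this
    obtain ⟨x, hx⟩ := QuotientGroup.mk'_surjective N xq
    have hK : ¬ IsMulCommutative ((zpowers xq).comap (QuotientGroup.mk' N) : Subgroup G) := by
      intro hc'
      have hxK : x ∈ (zpowers xq).comap (QuotientGroup.mk' N) := by
        rw [mem_comap, hx]; exact mem_zpowers _
      have hNK : N ≤ (zpowers xq).comap (QuotientGroup.mk' N) := by
        intro a ha
        rw [mem_comap]
        have : QuotientGroup.mk' N a = 1 := (QuotientGroup.eq_one_iff a).2 ha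
        rw [this]; exact one_mem _
      have hxC : x ∈ centralizer (N : Set G) := by
        rw [mem_centralizer_iff]
        intro a ha
        exact comm_of_mem hc' (hNK ha) hxK
      rw [hCN] at hxC
      have : xq = 1 := by rw [← hx]; exact (QuotientGroup.eq_one_iff x).2 hxC
      rw [this, orderOf_one] at hxqo
      exact hp.one_lt.ne hxqo
    have hnorm : normalizer ((zpowers xq : Subgroup (G ⧸ N)) : Set (G ⧸ N)) = zpowers xq :=
      quot_selfnorm N _ (hH _ hK)
    have hPle : (P : Subgroup (G ⧸ N)) ≤ zpowers xq := by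
      rw [← hnorm]
      intro g hg
      rw [mem_normalizer_iff]
      intro h
      have h1 : Commute g xq := hxqc g hg
      constructor
      · intro hh
        obtain ⟨i, rfl⟩ := mem_zpowers_iff.1 hh
        have : g * xq ^ i * g⁻¹ = xq ^ i := by
          rw [(h1.zpow_right i).eq, mul_inv_cancel_right]
        rw [this]; exact hh
      · intro hh
        obtain ⟨i, hi⟩ := mem_zpowers_iff.1 hh
        have h2 : h = g⁻¹ * (g * h * g⁻¹) * g := by group
        have h3 : g⁻¹ * xq ^ i * g = xq ^ i := by
          rw [mul_assoc, ← (h1.zpow_right i).eq, inv_mul_cancel_left]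
        rw [h2, ← hi, h3]
        exact zpow_mem (mem_zpowers _) _
    have hPeq : (P : Subgroup (G ⧸ N)) = zpowers xq := le_antisymm hPle (zpowers_le.2 hxqP)
    have hPN : normalizer ((P : Subgroup (G ⧸ N)) : Set (G ⧸ N)) ≤
        centralizer ((P : Subgroup (G ⧸ N)) : Set (G ⧸ N)) := by
      rw [hPeq, hnorm]
      intro a ha
      rw [mem_centralizer_iff]
      intro b hb
      obtain ⟨i, rfl⟩ := mem_zpowers_iff.1 ha
      obtain ⟨j, rfl⟩ := mem_zpowers_iff.1 hb
      exact (Commute.zpow_zpow_self xq j i).eq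
    exact hQns (Group.isSolvable_of_comm (comm_of_simple_of_burnside P hPN hPne))

end Main

/-- A finite group in which every non-abelian subgroup is self-normalizing is solvable or simple. -/
theorem result {G : Type*} [Group G] [Finite G] (hS : ∀ H : Subgroup G, ¬ IsMulCommutative H → Subgroup.normalizer (H : Set G) = H) :
    Group.IsSolvable G ∨ IsSimpleGroup G :=
  main (Nat.card G) G rfl hS

end Cfsg.Agent.S4072
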