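import Cfsg.Statements.S4074

set_option autoImplicit false
open Cfsg

namespace Cfsg.Agent.S4074

open DihedralGroup

/-- Two non-commuting elements of the dihedral group of order 8 generate it: every element is
one of sixteen explicit words. -/
theorem d4_words : ∀ a b g : DihedralGroup 4, a * b ≠ b * a →
    (g = 1 ∨ g = a ∨ g = b ∨ g = a * b ∨ g = b * a ∨ g = a * b * a * b ∨ g = a * b * a ∨
     g = b * a * b ∨ g = a * a ∨ g = a * a * a ∨ g = a * a * b ∨ g = a * a * a * b ∨
     g = b * b ∨ g = b * b * b ∨ g = b * b * a ∨ g = b * b * b * a) := by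
  decide

theorem exists_noncomm {G : Type*} [Group G] (H : Subgroup G) (h : ¬ IsMulCommutative H) :
    ∃ a ∈ H, ∃ b ∈ H, a * b ≠ b * a := by
  by_contra hcon
  apply h
  refine ⟨⟨fun a b => Subtype.ext ?_⟩⟩
  by_contra hne
  exact hcon ⟨a, a.2, b, b.2, hne⟩

theorem exists_sr_mem {n : ℕ} (H : Subgroup (DihedralGroup n)) (h : ¬ IsMulCommutative H) :
    ∃ j : ZMod n, sr j ∈ H := by
  obtain ⟨a, ha, b, hb, hab⟩ := exists_noncomm H h
  rcases a with i | i
  · rcases b with j | j
    · exfalso
      apply hab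
      simp [add_comm]
    · exact ⟨j, hb⟩
  · exact ⟨i, ha⟩

/-- In an odd dihedral group, a rotation normalizing a subgroup that contains a reflection lies
in the subgroup. -/
theorem r_mem_of_normalizer {n : ℕ} (hodd : Odd n) (H : Subgroup (DihedralGroup n)) (j : ZMod n)
    (hj : sr j ∈ H) (k : ZMod n)
    (hk : r k ∈ Subgroup.normalizer (H : Set (DihedralGroup n))) : r k ∈ H := by
  have h1 : r k * sr j * (r k)⁻¹ ∈ H := (Subgroup.mem_normalizer_iff.mp hk (sr j)).mp hj
  have h2 : sr j * (r k * sr j * (r k)⁻¹) ∈ H := H.mul_mem hj h1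
  have h3 : (sr j * (r k * sr j * (r k)⁻¹))⁻¹ ∈ H := H.inv_mem h2
  obtain ⟨t, ht⟩ := hodd
  have h4 := H.pow_mem h3 (t + 1)
  have h5 : (sr j * (r k * sr j * (r k)⁻¹))⁻¹ ^ (t + 1) = r k := by
    simp only [inv_r, r_mul_sr, sr_mul_r, sr_mul_sr, r_pow]
    congr 1
    have hn : ((2 * t + 1 : ℕ) : ZMod n) = 0 := by rw [← ht]; exact ZMod.natCast_self n
    push_cast at hn
    push_cast
    linear_combination k * hn
  rwa [h5] at h4

theorem odd_case {n : ℕ} (hodd : Odd n) (H : Subgroup (DihedralGroup n))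
    (h : ¬ IsMulCommutative H) : Subgroup.normalizer (H : Set (DihedralGroup n)) = H := by
  apply le_antisymm _ Subgroup.le_normalizer
  obtain ⟨j, hj⟩ := exists_sr_mem H h
  intro g hg
  rcases g with k | k
  · exact r_mem_of_normalizer hodd H j hj k hg
  · have hjn : sr j ∈ Subgroup.normalizer (H : Set (DihedralGroup n)) := Subgroup.le_normalizer hj
    have h1 : sr k * sr j ∈ Subgroup.normalizer (H : Set (DihedralGroup n)) :=
      Subgroup.mul_mem _ hg hjn
    rw [sr_mul_sr] at h1
    have h2 := r_mem_of_normalizer hodd H j hj _ h1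
    have h3 : r (j - k) * sr j ∈ H := H.mul_mem h2 hj
    have h4 : r (j - k) * sr j = sr k := by
      simp
    rwa [h4] at h3

theorem four_case (H : Subgroup (DihedralGroup 4))
    (h : ¬ IsMulCommutative H) : Subgroup.normalizer (H : Set (DihedralGroup 4)) = H := by
  obtain ⟨a, ha, b, hb, hab⟩ := exists_noncomm H h
  have htop : H = ⊤ := by
    rw [Subgroup.eq_top_iff']
    intro g
    have := d4_words a b g hab
    rcases this with rfl | rfl | rfl | rfl | rfl | rfl | rfl | rfl | rfl | rfl | rfl | rfl | rfl |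
      rfl | rfl | rfl
    · exact H.one_mem
    · exact ha
    · exact hb
    · exact H.mul_mem ha hb
    · exact H.mul_mem hb ha
    · exact H.mul_mem (H.mul_mem (H.mul_mem ha hb) ha) hb
    · exact H.mul_mem (H.mul_mem ha hb) ha
    · exact H.mul_mem (H.mul_mem hb ha) hb
    · exact H.mul_mem ha ha
    · exact H.mul_mem (H.mul_mem ha ha) ha
    · exact H.mul_mem (H.mul_mem ha ha) hb
    · exact H.mul_mem (H.mul_mem (H.mul_mem ha ha) ha) hb
    · exact H.mul_mem hb hb
    · exact H.mul_mem (H.mul_mem hb hb) hb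
    · exact H.mul_mem (H.mul_mem hb hb) ha
    · exact H.mul_mem (H.mul_mem (H.mul_mem hb hb) hb) ha
  subst htop
  exact Subgroup.normalizer_eq_top_iff.mpr inferInstance

/-- The parity homomorphism on an even dihedral group. -/
def parity {n : ℕ} (h2 : 2 ∣ n) : DihedralGroup n →* Multiplicative (ZMod 2) :=
  MonoidHom.mk' (fun g => match g with
    | r i => Multiplicative.ofAdd (ZMod.castHom h2 (ZMod 2) i)
    | sr i => Multiplicative.ofAdd (ZMod.castHom h2 (ZMod 2) i)) (by
    have key : ∀ x : ZMod 2, -x = x := by decide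
    rintro (i | i) (j | j)
    · simp only [r_mul_r, map_add, ofAdd_add]
    · simp only [r_mul_sr]
      rw [map_sub, sub_eq_add_neg, key, add_comm, ofAdd_add]
    · simp only [sr_mul_r, map_add, ofAdd_add]
    · simp only [sr_mul_sr]
      rw [map_sub, sub_eq_add_neg, key, add_comm, ofAdd_add])

theorem even_case {n : ℕ} (hn : 2 < n) (h4 : n ≠ 4) (heven : Even n) :
    ∃ H : Subgroup (DihedralGroup n), ¬ IsMulCommutative H ∧
      Subgroup.normalizer (H : Set (DihedralGroup n)) ≠ H := by
  have h2 : 2 ∣ n := heven.two_dvd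
  refine ⟨(parity h2).ker, ?_, ?_⟩
  · intro hc
    have hr : (r 2 : DihedralGroup n) ∈ (parity h2).ker := by
      rw [MonoidHom.mem_ker]
      change Multiplicative.ofAdd (ZMod.castHom h2 (ZMod 2) 2) = 1
      rw [map_ofNat]
      rfl
    have hs : (sr 0 : DihedralGroup n) ∈ (parity h2).ker := by
      rw [MonoidHom.mem_ker]
      change Multiplicative.ofAdd (ZMod.castHom h2 (ZMod 2) 0) = 1
      rw [map_zero]
      rfl
    have hcomm : (⟨r 2, hr⟩ : (parity h2).ker) * ⟨sr 0, hs⟩ = ⟨sr 0, hs⟩ * ⟨r 2, hr⟩ :=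
      mul_comm' _ _
    have hcomm' : (r 2 : DihedralGroup n) * sr 0 = sr 0 * r 2 := congrArg Subtype.val hcomm
    simp only [r_mul_sr, sr_mul_r, sr.injEq, zero_sub, zero_add] at hcomm'
    have h40 : ((4 : ℕ) : ZMod n) = 0 := by
      push_cast
      linear_combination -hcomm'
    rw [ZMod.natCast_eq_zero_iff] at h40
    have := Nat.le_of_dvd (by norm_num) h40
    interval_cases n
    · omega
    · exact h4 rfl
  · rw [Subgroup.normalizer_eq_top]
    intro htop
    have hr1 : (r 1 : DihedralGroup n) ∈ (parity h2).ker := htop ▸ Subgroup.mem_top _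
    rw [MonoidHom.mem_ker] at hr1
    change Multiplicative.ofAdd (ZMod.castHom h2 (ZMod 2) 1) = 1 at hr1
    rw [map_one] at hr1
    exact absurd hr1 (by decide)

theorem result (n : ℕ) (hn : 2 < n) :
    (∀ H : Subgroup (DihedralGroup n), ¬ IsMulCommutative H → Subgroup.normalizer (H : Set (DihedralGroup n)) = H) ↔
    (n = 4 ∨ Odd n) := by
  constructor
  · intro h
    by_contra hcon
    rw [not_or] at hcon
    obtain ⟨h4, hno⟩ := hcon
    obtain ⟨H, hH1, hH2⟩ := even_case hn h4 (Nat.not_odd_iff_even.mp hno)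
    exact hH2 (h H hH1)
  · rintro (rfl | hodd) H hH
    · exact four_case H hH
    · exact odd_case hodd H hH

end Cfsg.Agent.S4074
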