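import Cfsg.Statements.S4075

set_option autoImplicit false
open Cfsg

namespace Cfsg.Agent.S4075

/-- If every Sylow subgroup of a finite nilpotent group is commutative, the group is commutative. -/
theorem comm_of_sylow_comm {G : Type*} [Group G] [Finite G] [Group.IsNilpotent G]
    (h : ∀ (p : ℕ) [Fact p.Prime] (P : Sylow p G), ∀ a b : (P : Subgroup G), a * b = b * a) :
    ∀ a b : G, a * b = b * a := by
  have hnil : Group.IsNilpotent G := inferInstance
  obtain ⟨e⟩ := ((Group.isNilpotent_of_finite_tfae (G := G)).out 0 4 rfl rfl).mp hnil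
  intro a b
  obtain ⟨a', rfl⟩ := e.surjective a
  obtain ⟨b', rfl⟩ := e.surjective b
  rw [← map_mul, ← map_mul]
  congr 1
  funext p P
  have : Fact (p : ℕ).Prime := ⟨Nat.prime_of_mem_primeFactors p.2⟩
  exact h p P (a' p P) (b' p P)

theorem result {G : Type*} [Group G] [Finite G]
    [Group.IsNilpotent G] :
    (∀ H : Subgroup G, ¬ IsMulCommutative H → Subgroup.normalizer (H : Set G) = H) ↔
    (IsMulCommutative G ∨ (IsPrimePow (Nat.card G) ∧ ¬ IsMulCommutative G ∧ ∀ H : Subgroup G, H ≠ ⊤ → IsMulCommutative H)) := by
  constructor
  · intro hS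
    by_cases hc : IsMulCommutative G
    · exact Or.inl hc
    · right
      have hnc : NormalizerCondition G := Group.normalizerCondition_of_isNilpotent
      rw [normalizerCondition_iff_only_full_group_self_normalizing] at hnc
      have hprop : ∀ H : Subgroup G, H ≠ ⊤ → IsMulCommutative H := by
        intro H hH
        by_contra hHc
        exact hH (hnc H (hS H hHc))
      refine ⟨?_, hc, hprop⟩
      -- the order is a prime power
      rw [isPrimePow_iff_unique_prime_dvd]
      have hcard : Nat.card G ≠ 1 := by
        intro h1
        apply hc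
        have : Subsingleton G := (Nat.card_eq_one_iff_unique.mp h1).1
        exact ⟨⟨fun a b => Subsingleton.elim _ _⟩⟩
      obtain ⟨p, hp, hpd⟩ := Nat.exists_prime_and_dvd hcard
      refine ⟨p, ⟨hp, hpd⟩, ?_⟩
      rintro q ⟨hq, hqd⟩
      by_contra hqp
      -- every Sylow subgroup is proper, hence commutative
      apply hc
      refine ⟨⟨fun a b => ?_⟩⟩
      refine comm_of_sylow_comm (G := G) ?_ a b
      intro r _ P x y
      have hPtop : (P : Subgroup G) ≠ ⊤ := by
        intro htop
        -- then G is an r-group, so both p and q equal r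
        have hPG : IsPGroup r G := by
          have := P.isPGroup'
          rw [htop] at this
          exact this.of_equiv Subgroup.topEquiv
        obtain ⟨n, hn⟩ := IsPGroup.iff_card.mp hPG
        have hr : r.Prime := Fact.out
        rw [hn] at hpd hqd
        have h1 := (Nat.prime_dvd_prime_iff_eq hp hr).mp (hp.dvd_of_dvd_pow hpd)
        have h2 := (Nat.prime_dvd_prime_iff_eq hq hr).mp (hq.dvd_of_dvd_pow hqd)
        exact hqp (h2.trans h1.symm)
      have := hprop _ hPtop
      exact mul_comm' x y
  · rintro (hc | ⟨-, -, hprop⟩) H hH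
    · exfalso
      apply hH
      exact ⟨⟨fun a b => Subtype.ext (mul_comm' (a : G) (b : G))⟩⟩
    · have : H = ⊤ := by
        by_contra hne
        exact hH (hprop H hne)
      subst this
      exact Subgroup.normalizer_eq_top_iff.mpr inferInstance

end Cfsg.Agent.S4075
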