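import Mathlib
import Cfsg.Statements.S4080

set_option autoImplicit false
open Cfsg

namespace Cfsg.Agent.S4080

open Matrix

/-- Cayley–Hamilton for `2 × 2` matrices. -/
theorem sq_eq {K : Type*} [CommRing K] (B : Matrix (Fin 2) (Fin 2) K) :
    B ^ 2 = B.trace • B - B.det • (1 : Matrix (Fin 2) (Fin 2) K) := by
  ext i j
  fin_cases i <;> fin_cases j <;>
    simp [pow_two, Matrix.mul_apply, Fin.sum_univ_two, Matrix.trace_fin_two, Matrix.det_fin_two] <;>
    ring

/-- A nilpotent `2 × 2` matrix over a field squares to zero. -/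
theorem sq_eq_zero_of_pow {K : Type*} [Field K] (B : Matrix (Fin 2) (Fin 2) K) (n : ℕ)
    (h : B ^ n = 0) : B ^ 2 = 0 := by
  have hd : B.det = 0 := by
    have : B.det ^ n = 0 := by rw [← Matrix.det_pow, h, Matrix.det_zero]
    exact pow_eq_zero_iff (n := n) (by
      rintro rfl
      rw [pow_zero] at this
      exact one_ne_zero this) |>.mp this
  have h2 : B ^ 2 = B.trace • B := by rw [sq_eq, hd, zero_smul, sub_zero]
  by_cases ht : B.trace = 0
  · rw [h2, ht, zero_smul]
  · have hk : ∀ k : ℕ, B ^ (k + 1) = B.trace ^ k • B := by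
      intro k
      induction k with
      | zero => simp
      | succ k ih =>
        rw [pow_succ, ih, smul_mul_assoc, ← pow_two, h2, smul_smul, ← pow_succ]
    cases n with
    | zero =>
      rw [pow_zero] at h
      have := congrFun (congrFun h 0) 0
      simp at this
    | succ n =>
      rw [hk n] at h
      have hB : B = 0 := by
        rcases smul_eq_zero.mp h with h' | h'
        · exact absurd (pow_eq_zero_iff (n := n) (by
            rintro rfl
            rw [pow_zero] at h'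
            exact one_ne_zero h') |>.mp h') ht
        · exact h'
      rw [hB]; simp


/-- an element of `ZMod (p^2)` killed by the reduction to `ZMod p` is a multiple of `p` -/
theorem exists_mul_of_cast_eq_zero {p : ℕ} [Fact p.Prime] (u : ZMod (p ^ 2))
    (h : ZMod.castHom (dvd_pow_self p two_ne_zero) (ZMod p) u = 0) :
    ∃ m : ZMod (p ^ 2), u = (p : ZMod (p ^ 2)) * m := by
  have hp0 : p ≠ 0 := (Fact.out : p.Prime).ne_zero
  haveI : NeZero (p ^ 2) := ⟨pow_ne_zero 2 hp0⟩
  have h1 : u = ((u.val : ℕ) : ZMod (p ^ 2)) := (ZMod.natCast_zmod_val u).symm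
  rw [h1, map_natCast, ZMod.natCast_eq_zero_iff] at h
  obtain ⟨m, hm⟩ := h
  refine ⟨(m : ZMod (p ^ 2)), ?_⟩
  rw [h1, hm, Nat.cast_mul]

/-- an element of `ZMod (p^2)` killed by `p` is a multiple of `p` -/
theorem exists_mul_of_mul_eq_zero {p : ℕ} [Fact p.Prime] (u : ZMod (p ^ 2))
    (h : (p : ZMod (p ^ 2)) * u = 0) : ∃ m : ZMod (p ^ 2), u = (p : ZMod (p ^ 2)) * m := by
  have hp0 : p ≠ 0 := (Fact.out : p.Prime).ne_zero
  haveI : NeZero (p ^ 2) := ⟨pow_ne_zero 2 hp0⟩
  have h1 : u = ((u.val : ℕ) : ZMod (p ^ 2)) := (ZMod.natCast_zmod_val u).symm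
  rw [h1, ← Nat.cast_mul, ZMod.natCast_eq_zero_iff] at h
  have h2 : p ∣ u.val := by
    have h' : p * p ∣ p * u.val := by
      have e : p * p = p ^ 2 := (pow_two p).symm
      rw [e]; exact h
    exact Nat.dvd_of_mul_dvd_mul_left (Nat.pos_of_ne_zero hp0) h'
  obtain ⟨m, hm⟩ := h2
  refine ⟨(m : ZMod (p ^ 2)), ?_⟩
  rw [h1, hm, Nat.cast_mul]

theorem p_mul_p {p : ℕ} : (p : ZMod (p ^ 2)) * (p : ZMod (p ^ 2)) = 0 := by
  rw [← Nat.cast_mul, ← pow_two]
  exact ZMod.natCast_self _

/-- The matrix lemma: `A ^ p = 1` in `M₂(ℤ/p²)`, `p > 3`, forces `p (A - 1) = 0`. -/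
theorem matrix_lemma {p : ℕ} [Fact p.Prime] (hp : 3 < p)
    (A : Matrix (Fin 2) (Fin 2) (ZMod (p ^ 2))) (hA : A ^ p = 1) :
    (p : ZMod (p ^ 2)) • (A - 1) = 0 := by
  set P : ZMod (p ^ 2) := (p : ZMod (p ^ 2)) with hP
  have hPP : P * P = 0 := p_mul_p
  set N : Matrix (Fin 2) (Fin 2) (ZMod (p ^ 2)) := A - 1 with hN
  -- reduction mod p
  let φ : Matrix (Fin 2) (Fin 2) (ZMod (p ^ 2)) →+* Matrix (Fin 2) (Fin 2) (ZMod p) :=
    (ZMod.castHom (dvd_pow_self p two_ne_zero) (ZMod p)).mapMatrix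
  have hφA : (φ A) ^ p = 1 := by rw [← map_pow, hA, map_one]
  have hφN : (φ N) ^ p = 0 := by
    rw [hN, map_sub, map_one, sub_pow_char_of_commute p (Commute.one_right _), hφA, one_pow,
      sub_self]
  have hφN2 : φ (N ^ 2) = 0 := by
    rw [map_pow]
    exact sq_eq_zero_of_pow _ p hφN
  -- `N ^ 2 = P • M`
  have hex : ∀ i j, ∃ m : ZMod (p ^ 2), (N ^ 2) i j = P * m := by
    intro i j
    apply exists_mul_of_cast_eq_zero
    have := congrFun (congrFun hφN2 i) j
    simpa [φ] using this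
  choose Mf hMf using hex
  set M : Matrix (Fin 2) (Fin 2) (ZMod (p ^ 2)) := Matrix.of Mf with hM
  have hN2 : N ^ 2 = P • M := by
    ext i j
    rw [hMf i j]
    simp [hM]
  -- binomial expansion
  have hcomm : Commute N 1 := Commute.one_right N
  have hAN : A = N + 1 := by rw [hN]; abel
  have hexp := hcomm.add_pow p
  rw [← hAN, hA] at hexp
  have hterm : ∀ m ∈ Finset.Ico 2 (p + 1), N ^ m * 1 ^ (p - m) * ((p.choose m : ℕ) : Matrix (Fin 2) (Fin 2) (ZMod (p ^ 2))) = 0 := by
    intro m hm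
    rw [Finset.mem_Ico] at hm
    rw [one_pow, mul_one]
    have hNm : N ^ m = P • (M * N ^ (m - 2)) := by
      have : N ^ m = N ^ 2 * N ^ (m - 2) := by
        rw [← pow_add]; congr 1; omega
      rw [this, hN2, smul_mul_assoc]
    by_cases hmp : m < p
    · have hdvd : p ∣ p.choose m := (Fact.out : p.Prime).dvd_choose_self (by omega) hmp
      obtain ⟨c, hc⟩ := hdvd
      rw [hc, Nat.cast_mul, hNm, ← mul_assoc]
      have : P • (M * N ^ (m - 2)) * ((p : ℕ) : Matrix (Fin 2) (Fin 2) (ZMod (p ^ 2))) = 0 := by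
        rw [← nsmul_eq_mul', ← Nat.cast_smul_eq_nsmul (ZMod (p ^ 2)), smul_smul, ← hP, hPP, zero_smul]
      rw [this, zero_mul]
    · have hmp' : m = p := by omega
      have h4 : N ^ m = N ^ 2 * N ^ 2 * N ^ (m - 4) := by
        rw [← pow_add, ← pow_add]
        congr 1
        omega
      rw [h4, hN2, smul_mul_smul_comm, hPP, zero_smul, zero_mul, zero_mul]
  rw [← Finset.sum_range_add_sum_Ico _ (show 2 ≤ p + 1 by omega), Finset.sum_eq_zero hterm,
    add_zero, Finset.sum_range_succ, Finset.sum_range_one] at hexp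
  simp only [pow_zero, Nat.sub_zero, one_pow, mul_one, Nat.choose_zero_right, Nat.cast_one, pow_one,
    Nat.choose_one_right] at hexp
  -- `1 = 1 + N * p`
  have h0 : N * ((p : ℕ) : Matrix (Fin 2) (Fin 2) (ZMod (p ^ 2))) = 0 := by
    have := hexp
    have h' : (1 : Matrix (Fin 2) (Fin 2) (ZMod (p ^ 2))) + 0 = 1 + N * ((p : ℕ) : Matrix (Fin 2) (Fin 2) (ZMod (p ^ 2))) := by
      rw [add_zero]; exact this
    exact (add_left_cancel h').symm
  rw [← nsmul_eq_mul', ← Nat.cast_smul_eq_nsmul (ZMod (p ^ 2))] at h0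
  exact h0


section act
variable {K : Type*} [CommRing K]

/-- action of a `2 × 2` matrix on `K × K` -/
def act (A : Matrix (Fin 2) (Fin 2) K) (w : K × K) : K × K :=
  (A 0 0 * w.1 + A 0 1 * w.2, A 1 0 * w.1 + A 1 1 * w.2)

theorem act_mul (A B : Matrix (Fin 2) (Fin 2) K) (w : K × K) : act (A * B) w = act A (act B w) := by
  unfold act
  ext <;> simp [Matrix.mul_apply, Fin.sum_univ_two] <;> ring

theorem act_one (w : K × K) : act (1 : Matrix (Fin 2) (Fin 2) K) w = w := by
  unfold act
  ext <;> simp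

theorem act_pow (A : Matrix (Fin 2) (Fin 2) K) (k : ℕ) (w : K × K) :
    act (A ^ k) w = (act A)^[k] w := by
  induction k generalizing w with
  | zero => simp [act_one]
  | succ k ih =>
    rw [pow_succ, act_mul, ih, Function.iterate_succ_apply]

theorem act_sub (A B : Matrix (Fin 2) (Fin 2) K) (w : K × K) :
    act (A - B) w = act A w - act B w := by
  unfold act
  ext <;> simp <;> ring

theorem act_smul (c : K) (A : Matrix (Fin 2) (Fin 2) K) (w : K × K) :
    act (c • A) w = c • act A w := by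
  unfold act
  ext <;> simp <;> ring

theorem act_zero (w : K × K) : act (0 : Matrix (Fin 2) (Fin 2) K) w = 0 := by
  unfold act
  ext <;> simp

theorem act_injective {A B : Matrix (Fin 2) (Fin 2) K} (h : ∀ w, act A w = act B w) : A = B := by
  have h1 := h (1, 0)
  have h2 := h (0, 1)
  unfold act at h1 h2
  simp only [mul_one, mul_zero, add_zero, zero_add, Prod.mk.injEq] at h1 h2
  ext i j
  fin_cases i <;> fin_cases j
  · exact h1.1
  · exact h2.1
  · exact h1.2
  · exact h2.2

end act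

theorem result {p : ℕ} [Fact p.Prime] (hp : 3 < p)
    (a : MulAut (Multiplicative (ZMod (p ^ 2) × ZMod (p ^ 2)))) (ha : orderOf a = p)
    (x : Multiplicative (ZMod (p ^ 2) × ZMod (p ^ 2))) (hx : orderOf x = p) : a x = x := by
  -- the additive map
  let g : ZMod (p ^ 2) × ZMod (p ^ 2) →+ ZMod (p ^ 2) × ZMod (p ^ 2) :=
    AddMonoidHom.mk' (fun w => Multiplicative.toAdd (a (Multiplicative.ofAdd w))) (by
      intro w w'
      rw [ofAdd_add, map_mul, toAdd_mul])
  have hg : ∀ w, g w = Multiplicative.toAdd (a (Multiplicative.ofAdd w)) := fun _ => rfl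
  have hgpow : ∀ k : ℕ, ∀ w, (g)^[k] w = Multiplicative.toAdd ((a ^ k) (Multiplicative.ofAdd w)) := by
    intro k
    induction k with
    | zero => intro w; simp
    | succ k ih =>
      intro w
      rw [Function.iterate_succ_apply', ih, hg, pow_succ' a k, MulAut.mul_apply]
      rfl
  -- the matrix
  set A : Matrix (Fin 2) (Fin 2) (ZMod (p ^ 2)) :=
    Matrix.of ![![(g (1, 0)).1, (g (0, 1)).1], ![(g (1, 0)).2, (g (0, 1)).2]] with hA
  have hgA : ∀ w, g w = act A w := by
    intro w
    have hw : w = w.1 • ((1, 0) : ZMod (p ^ 2) × ZMod (p ^ 2)) + w.2 • ((0, 1) : ZMod (p ^ 2) × ZMod (p ^ 2)) := by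
      ext <;> simp
    conv_lhs => rw [hw]
    rw [map_add, ZMod.map_smul, ZMod.map_smul]
    unfold act
    ext <;> simp [hA] <;> ring
  have hiter : ∀ k : ℕ, ∀ w, (g)^[k] w = (act A)^[k] w := by
    intro k
    induction k with
    | zero => intro w; rfl
    | succ k ih =>
      intro w
      rw [Function.iterate_succ_apply', Function.iterate_succ_apply', ih, hgA]
  have hap : a ^ p = 1 := by
    have := pow_orderOf_eq_one a
    rwa [ha] at this
  have hAp : A ^ p = 1 := by
    apply act_injective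
    intro w
    rw [act_pow, ← hiter, hgpow, hap, act_one]
    rfl
  have hML := matrix_lemma hp A hAp
  -- `x = ofAdd w` with `p • w = 0`
  set w : ZMod (p ^ 2) × ZMod (p ^ 2) := Multiplicative.toAdd x with hw
  have hxp : x ^ p = 1 := by
    have := pow_orderOf_eq_one x
    rwa [hx] at this
  have hpw : (p : ZMod (p ^ 2)) • w = 0 := by
    have : Multiplicative.toAdd (x ^ p) = 0 := by rw [hxp]; rfl
    rw [toAdd_pow] at this
    rw [Nat.cast_smul_eq_nsmul]
    exact this
  obtain ⟨m1, hm1⟩ := exists_mul_of_mul_eq_zero w.1 (by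
    have := congrArg Prod.fst hpw
    simpa using this)
  obtain ⟨m2, hm2⟩ := exists_mul_of_mul_eq_zero w.2 (by
    have := congrArg Prod.snd hpw
    simpa using this)
  have hw' : w = (p : ZMod (p ^ 2)) • ((m1, m2) : ZMod (p ^ 2) × ZMod (p ^ 2)) := by
    ext
    · simpa using hm1
    · simpa using hm2
  have hgw : g w = w := by
    rw [hw', ZMod.map_smul, hgA]
    have : act A (m1, m2) = (m1, m2) + act (A - 1) (m1, m2) := by
      rw [act_sub, act_one]
      abel
    rw [this, smul_add, ← act_smul, hML, act_zero, add_zero]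
  have : a x = Multiplicative.ofAdd (g w) := by
    rw [hg]
    rfl
  rw [this, hgw]
  rfl

end Cfsg.Agent.S4080
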