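import Cfsg.Statements.S4083
import Mathlib
import Cfsg.Agent.Lib.Helper65_TwoByCyclic
import Cfsg.Agent.Lib.Helper65_CommPair

set_option autoImplicit false
open Cfsg

namespace Cfsg.Agent.S4083

open Cfsg.Agent.Lib.Helper65_TwoByCyclic

section pgroup

variable {T : Type*} [Group T]

theorem sylow_eq_top_of_isPGroup (hT : IsPGroup 2 T) (S : Sylow 2 T) : (S : Subgroup T) = ⊤ := by
  have h1 : IsPGroup 2 (⊤ : Subgroup T) := hT.to_subgroup ⊤
  exact (S.is_maximal' h1 le_top).symm

theorem sylow_normal_of_isPGroup (hT : IsPGroup 2 T) (S : Sylow 2 T) : (S : Subgroup T).Normal := by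
  rw [sylow_eq_top_of_isPGroup hT S]; infer_instance

theorem quotient_cyclic_of_isPGroup (hT : IsPGroup 2 T) (S : Sylow 2 T) [(S : Subgroup T).Normal] :
    IsCyclic (T ⧸ (S : Subgroup T)) := by
  have h1 : Nat.card (T ⧸ (S : Subgroup T)) = 1 := by
    rw [← Subgroup.index_eq_card, Subgroup.index_eq_one]
    exact sylow_eq_top_of_isPGroup hT S
  have : Subsingleton (T ⧸ (S : Subgroup T)) := (Nat.card_eq_one_iff_unique.mp h1).1
  exact isCyclic_of_subsingleton

end pgroup

section abelian

variable {G : Type*} [Group G]

/-- exponent 2 implies commutative -/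
theorem comm_of_sq_eq_one (K : Subgroup G) (hK : ∀ k ∈ K, k ^ 2 = 1) (a b : G) (ha : a ∈ K)
    (hb : b ∈ K) : a * b = b * a := by
  have h1 := hK a ha
  have h2 := hK b hb
  have h3 := hK (a * b) (K.mul_mem ha hb)
  rw [pow_two] at h1 h2 h3
  have ha' : a⁻¹ = a := inv_eq_of_mul_eq_one_left h1
  have hb' : b⁻¹ = b := inv_eq_of_mul_eq_one_left h2
  have : a * b = (a * b)⁻¹ := (inv_eq_of_mul_eq_one_left h3).symm
  rw [this, mul_inv_rev, ha', hb']

end abelian

/-- Let G be a finite group with Sylow 2-subgroup P. Every subgroup H of G whose Sylow 2-subgroup is normal in H with cyclic quotient is cyclic, dihedral of 2-power order, or isomorphic to the alternating group of degree 4, if and only if either P is cyclic, or P is dihedral (of order at least 4) and every elementary abelian subgroup K of order 4 of P satisfies C_G(K) = K. -/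
theorem result {G : Type*} [Group G] [Finite G] (P : Sylow 2 G) :
    (∀ H : Subgroup G, (∀ S : Sylow 2 ↥H, (S : Subgroup ↥H).Normal) →
        (∀ (S : Sylow 2 ↥H) [(S : Subgroup ↥H).Normal], IsCyclic (↥H ⧸ (S : Subgroup ↥H))) →
        IsCyclic H ∨ (∃ n : ℕ, Nonempty (H ≃* DihedralGroup (2 ^ n))) ∨ Nonempty (H ≃* alternatingGroup (Fin 4))) ↔
    (IsCyclic P ∨
      ((∃ n : ℕ, 1 ≤ n ∧ Nonempty ((P : Subgroup G) ≃* DihedralGroup (2 ^ n))) ∧
        ∀ K : Subgroup G, K ≤ P → Nat.card K = 4 → (∀ k ∈ K, k ^ 2 = 1) → Subgroup.centralizer (K : Set G) = K)) := by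
  classical
  constructor
  · -- (⇒)
    intro hR
    have hP2 : IsPGroup 2 (P : Subgroup G) := P.isPGroup'
    -- the self-centralizing condition
    have hKcond : ∀ K : Subgroup G, K ≤ P → Nat.card K = 4 → (∀ k ∈ K, k ^ 2 = 1) →
        Subgroup.centralizer (K : Set G) = K := by
      intro K hKP hK4 hK2
      apply le_antisymm
      · intro x hx
        rw [Subgroup.mem_centralizer_iff] at hx
        have hxk : ∀ k ∈ K, k * x = x * k := fun k hk => hx k hk
        -- the subgroup K⟨x⟩
        set H₂ : Subgroup G := K ⊔ Subgroup.zpowers x with hH₂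
        have hc : ∀ a ∈ K, ∀ b ∈ Subgroup.zpowers x, a * b = b * a := by
          intro a ha b hb
          obtain ⟨i, rfl⟩ := Subgroup.mem_zpowers_iff.mp hb
          have : Commute a x := hxk a ha
          exact (this.zpow_right i).eq
        have hcomm : ∀ u v : ↥H₂, u * v = v * u := by
          rintro ⟨u, hu⟩ ⟨v, hv⟩
          apply Subtype.ext
          obtain ⟨a, ha, b, hb, rfl⟩ :=
            Cfsg.Agent.Lib.Helper65_CommPair.exists_mul_of_mem_sup K _ hc u hu
          obtain ⟨a', ha', b', hb', rfl⟩ :=
            Cfsg.Agent.Lib.Helper65_CommPair.exists_mul_of_mem_sup K _ hc v hv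
          have e1 : a * a' = a' * a := comm_of_sq_eq_one K hK2 a a' ha ha'
          have e2 : b * b' = b' * b := by
            obtain ⟨i, rfl⟩ := Subgroup.mem_zpowers_iff.mp hb
            obtain ⟨j, rfl⟩ := Subgroup.mem_zpowers_iff.mp hb'
            rw [← zpow_add, ← zpow_add, add_comm]
          have e3 : b * a' = a' * b := (hc a' ha' b hb).symm
          have e4 : b' * a = a * b' := (hc a ha b' hb').symm
          show a * b * (a' * b') = a' * b' * (a * b)
          calc a * b * (a' * b') = a * (b * a') * b' := by group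
            _ = a * (a' * b) * b' := by rw [e3]
            _ = (a * a') * (b * b') := by group
            _ = (a' * a) * (b' * b) := by rw [e1, e2]
            _ = a' * (a * b') * b := by group
            _ = a' * (b' * a) * b := by rw [e4]
            _ = a' * b' * (a * b) := by group
        have hn : ∀ S : Sylow 2 ↥H₂, (S : Subgroup ↥H₂).Normal := by
          intro S
          refine ⟨fun n hn g => ?_⟩
          rw [hcomm g n, mul_inv_cancel_right]
          exact hn
        have hq : ∀ (S : Sylow 2 ↥H₂) [(S : Subgroup ↥H₂).Normal],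
            IsCyclic (↥H₂ ⧸ (S : Subgroup ↥H₂)) := by
          intro S _
          have hxH : x ∈ H₂ := Subgroup.mem_sup_right (Subgroup.mem_zpowers x)
          refine ⟨⟨QuotientGroup.mk ⟨x, hxH⟩, fun q => ?_⟩⟩
          obtain ⟨⟨u, hu⟩, rfl⟩ := QuotientGroup.mk_surjective q
          obtain ⟨a, ha, b, hb, rfl⟩ :=
            Cfsg.Agent.Lib.Helper65_CommPair.exists_mul_of_mem_sup K _ hc u hu
          obtain ⟨i, rfl⟩ := Subgroup.mem_zpowers_iff.mp hb
          have haH : a ∈ H₂ := Subgroup.mem_sup_left ha
          have haS : (⟨a, haH⟩ : ↥H₂) ∈ (S : Subgroup ↥H₂) := by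
            apply mem_normal_sylow S _ 1
            apply Subtype.ext
            simp only [pow_one, Subgroup.coe_pow, Subgroup.coe_one]
            exact hK2 a ha
          refine Subgroup.mem_zpowers_iff.mpr ⟨i, ?_⟩
          have e1 : (⟨a * x ^ i, hu⟩ : ↥H₂) = ⟨a, haH⟩ * (⟨x, hxH⟩ : ↥H₂) ^ i := by
            apply Subtype.ext
            simp
          rw [e1, QuotientGroup.mk_mul, QuotientGroup.mk_zpow,
            (QuotientGroup.eq_one_iff _).mpr haS, one_mul]
        have hKH : K ≤ H₂ := le_sup_left
        rcases hR H₂ hn hq with hcyc | ⟨n, ⟨e⟩⟩ | he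
        · -- cyclic: too many solutions of a^2 = 1
          exfalso
          have : Fintype ↥H₂ := Fintype.ofFinite _
          have : Fintype ↥K := Fintype.ofFinite _
          have h1 := IsCyclic.card_pow_eq_one_le (α := ↥H₂) (n := 2) (by norm_num)
          have h2 : Fintype.card ↥K ≤ (Finset.univ.filter fun a : ↥H₂ => a ^ 2 = 1).card := by
            rw [← Finset.card_univ]
            apply Finset.card_le_card_of_injOn (fun k : ↥K => (⟨k.1, hKH k.2⟩ : ↥H₂))
            · intro k _
              simp only [Finset.coe_filter, Finset.mem_univ, true_and, Set.mem_ofPred_eq]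
              apply Subtype.ext
              simp only [Subgroup.coe_pow, Subgroup.coe_one]
              exact hK2 k.1 k.2
            · intro k _ k' _ hkk
              apply Subtype.ext
              exact congrArg (fun y : ↥H₂ => (y : G)) hkk
          rw [← Nat.card_eq_fintype_card, hK4] at h2
          omega
        · -- dihedral and commutative: order at most 4
          have hDc : IsMulCommutative (DihedralGroup (2 ^ n)) := by
            refine ⟨⟨fun a b => ?_⟩⟩
            have := hcomm (e.symm a) (e.symm b)
            rw [← map_mul, ← map_mul] at this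
            exact e.symm.injective this
          rw [DihedralGroup.commutative_iff] at hDc
          have hcard : Nat.card ↥H₂ ≤ 4 := by
            rw [Nat.card_congr e.toEquiv, DihedralGroup.nat_card]
            rcases hDc with h | h <;> rw [h] <;> norm_num
          have heq : K = H₂ := Subgroup.eq_of_le_of_card_ge hKH (by rw [hK4]; exact hcard)
          rw [heq]
          exact Subgroup.mem_sup_right (Subgroup.mem_zpowers x)
        · -- A₄ is not commutative
          exfalso
          obtain ⟨e⟩ := he
          have hAc : IsMulCommutative (alternatingGroup (Fin 4)) := by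
            refine ⟨⟨fun a b => ?_⟩⟩
            have := hcomm (e.symm a) (e.symm b)
            rw [← map_mul, ← map_mul] at this
            exact e.symm.injective this
          rw [alternatingGroup.isMulCommutative_iff_card_le_three] at hAc
          simp at hAc
      · intro k hk
        rw [Subgroup.mem_centralizer_iff]
        intro h hh
        exact comm_of_sq_eq_one K hK2 h k hh hk
    -- the structure of P
    have hPn : ∀ S : Sylow 2 ↥(P : Subgroup G), (S : Subgroup ↥(P : Subgroup G)).Normal :=
      fun S => sylow_normal_of_isPGroup hP2 S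
    have hPq : ∀ (S : Sylow 2 ↥(P : Subgroup G)) [(S : Subgroup ↥(P : Subgroup G)).Normal],
        IsCyclic (↥(P : Subgroup G) ⧸ (S : Subgroup ↥(P : Subgroup G))) :=
      fun S _ => quotient_cyclic_of_isPGroup hP2 S
    rcases hR (P : Subgroup G) hPn hPq with hcyc | ⟨n, ⟨e⟩⟩ | he
    · left; exact hcyc
    · rcases Nat.eq_zero_or_pos n with h0 | h0
      · left
        have hcard : Nat.card ↥(P : Subgroup G) = 2 := by
          rw [Nat.card_congr e.toEquiv, DihedralGroup.nat_card, h0]; norm_num
        have : Fact (Nat.Prime 2) := ⟨Nat.prime_two⟩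
        exact isCyclic_of_prime_card hcard
      · right
        exact ⟨⟨n, h0, ⟨e⟩⟩, hKcond⟩
    · exfalso
      obtain ⟨e⟩ := he
      obtain ⟨k, hk⟩ := IsPGroup.iff_card.mp hP2
      have hcard : Nat.card ↥(P : Subgroup G) = 12 := by
        rw [Nat.card_congr e.toEquiv, nat_card_alternatingGroup]
        simp [Nat.factorial]
      rw [hcard] at hk
      have h3 : 3 ∣ 2 ^ k := by rw [← hk]; norm_num
      have := (Nat.Prime.dvd_of_dvd_pow Nat.prime_three h3)
      omega
  · -- (⇐)
    intro hR H h1 h2
    obtain ⟨S⟩ := (inferInstance : Nonempty (Sylow 2 ↥H))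
    have hSn := h1 S
    have hq := h2 S
    -- embed S into a conjugate of P
    have hS'2 : IsPGroup 2 ((S : Subgroup ↥H).map H.subtype) := S.isPGroup'.map _
    obtain ⟨Q, hQ⟩ := hS'2.exists_le_sylow
    obtain ⟨g, hg⟩ := MulAction.exists_smul_eq G Q P
    have hconj : ∀ y ∈ (Q : Subgroup G), g * y * g⁻¹ ∈ (P : Subgroup G) := by
      intro y hy
      rw [← hg, Sylow.smul_def, Sylow.pointwise_smul_def]
      have := Subgroup.smul_mem_pointwise_smul y (MulAut.conj g) (Q : Subgroup G) hy
      rwa [MulAut.smul_def, MulAut.conj_apply] at this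
    have hSQ : ∀ y : ↥(S : Subgroup ↥H), ((y : ↥H) : G) ∈ (Q : Subgroup G) := by
      intro y
      apply hQ
      exact Subgroup.mem_map.mpr ⟨(y : ↥H), y.2, rfl⟩
    let ψ : ↥(S : Subgroup ↥H) →* ↥(P : Subgroup G) :=
      { toFun := fun y => ⟨g * ((y : ↥H) : G) * g⁻¹, hconj _ (hSQ y)⟩
        map_one' := by
          apply Subtype.ext
          simp
        map_mul' := by
          intro a b
          apply Subtype.ext
          simp only [Subgroup.coe_mul]
          group }
    have hψ : Function.Injective ψ := by
      intro a b hab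
      have h3 : g * ((a : ↥H) : G) * g⁻¹ = g * ((b : ↥H) : G) * g⁻¹ :=
        congrArg (fun y : ↥(P : Subgroup G) => (y : G)) hab
      have h4 : ((a : ↥H) : G) = ((b : ↥H) : G) := mul_left_cancel (mul_right_cancel h3)
      exact Subtype.ext (Subtype.ext h4)
    rcases hR with hcyc | ⟨⟨n, hn, ⟨e⟩⟩, hKc⟩
    · left
      have := hcyc
      exact main_cyclic S (isCyclic_of_injective ψ hψ) hq
    · -- dihedral case
      have hφ : Function.Injective (e.toMonoidHom.comp ψ) := by
        intro a b hab
        apply hψ
        exact e.injective hab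
      apply main_dihedral S hq n (e.toMonoidHom.comp ψ) hφ
      intro K hKS hK4 hK2 x hx
      -- transport K into P
      set K' : Subgroup G := (K.map H.subtype).map (MulAut.conj g).toMonoidHom with hK'
      have hmemK' : ∀ y : G, y ∈ K' ↔ ∃ k : ↥H, k ∈ K ∧ g * (k : G) * g⁻¹ = y := by
        intro y
        rw [hK', Subgroup.mem_map]
        constructor
        · rintro ⟨w, hw, rfl⟩
          obtain ⟨k, hk, rfl⟩ := Subgroup.mem_map.mp hw
          exact ⟨k, hk, by simp [MulAut.conj_apply]⟩
        · rintro ⟨k, hk, rfl⟩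
          exact ⟨(k : G), Subgroup.mem_map.mpr ⟨k, hk, rfl⟩, by simp [MulAut.conj_apply]⟩
      have hK'P : K' ≤ P := by
        intro y hy
        obtain ⟨k, hk, rfl⟩ := (hmemK' y).mp hy
        exact hconj _ (hSQ ⟨k, hKS hk⟩)
      have hK'4 : Nat.card K' = 4 := by
        rw [hK', Subgroup.card_map_of_injective (MulAut.conj g).injective,
          Subgroup.card_map_of_injective H.subtype_injective, hK4]
      have hK'2 : ∀ y ∈ K', y ^ 2 = 1 := by
        intro y hy
        obtain ⟨k, hk, rfl⟩ := (hmemK' y).mp hy
        have h5 := hK2 k hk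
        have h6 : (k : G) ^ 2 = 1 := by
          have := congrArg (fun z : ↥H => (z : G)) h5
          simpa using this
        rw [conj_pow, h6]; group
      have hcent := hKc K' hK'P hK'4 hK'2
      have hx' : g * (x : G) * g⁻¹ ∈ Subgroup.centralizer (K' : Set G) := by
        rw [Subgroup.mem_centralizer_iff]
        intro y hy
        obtain ⟨k, hk, rfl⟩ := (hmemK' y).mp hy
        have h5 := hx k hk
        have h6 : (x : G) * (k : G) = (k : G) * (x : G) := by
          have := congrArg (fun z : ↥H => (z : G)) h5
          simpa using this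
        calc g * (k : G) * g⁻¹ * (g * (x : G) * g⁻¹) = g * ((k : G) * (x : G)) * g⁻¹ := by group
          _ = g * ((x : G) * (k : G)) * g⁻¹ := by rw [h6]
          _ = g * (x : G) * g⁻¹ * (g * (k : G) * g⁻¹) := by group
      rw [hcent] at hx'
      obtain ⟨k, hk, hkx⟩ := (hmemK' _).mp hx'
      have h7 : (k : G) = (x : G) := mul_left_cancel (mul_right_cancel hkx)
      have h8 : k = x := Subtype.ext h7
      rw [← h8]; exact hk

end Cfsg.Agent.S4083
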