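import Cfsg.Statements.S4084
import Mathlib.GroupTheory.Subgroup.Centralizer
import Mathlib.GroupTheory.Perm.Cycle.Type

set_option autoImplicit false
open Cfsg

namespace Cfsg.Agent.S4084

/-- The double centralizer `Z(C(g))`, described using only the commuting relation. -/
def dc {G : Type*} [Group G] (g : G) : Subgroup G :=
  Subgroup.centralizer ({g} : Set G) ⊓ Subgroup.centralizer (Subgroup.centralizer ({g} : Set G) : Set G)

theorem mem_dc {G : Type*} [Group G] (g y : G) :
    y ∈ dc g ↔ Commute g y ∧ ∀ w : G, Commute g w → Commute w y := by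
  unfold dc
  rw [Subgroup.mem_inf, Subgroup.mem_centralizer_singleton_iff, Subgroup.mem_centralizer_iff]
  constructor
  · rintro ⟨h1, h2⟩
    refine ⟨h1.symm, fun w hw => ?_⟩
    exact h2 w (Subgroup.mem_centralizer_singleton_iff.mpr hw.eq.symm)
  · rintro ⟨h1, h2⟩
    refine ⟨h1.eq.symm, fun w hw => ?_⟩
    exact (h2 w (Subgroup.mem_centralizer_singleton_iff.mp hw).symm).eq

theorem aux {G H : Type*} [Group G] [Finite G] [Group H] [Finite H] (e : G ≃ H)
    (he : ∀ x y : G, Commute x y ↔ Commute (e x) (e y))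
    {p q : ℕ} (hp : p.Prime) (hq : q.Prime) (hpq : p ≠ q) (g : G) (hg : orderOf g = p * q) :
    ∃ h : H, orderOf h = p * q := by
  have hmem : ∀ y : G, y ∈ dc g ↔ e y ∈ dc (e g) := by
    intro y
    rw [mem_dc, mem_dc, he g y]
    constructor
    · rintro ⟨h1, h2⟩
      refine ⟨h1, fun w hw => ?_⟩
      obtain ⟨w, rfl⟩ := e.surjective w
      exact (he w y).mp (h2 w ((he g w).mpr hw))
    · rintro ⟨h1, h2⟩
      refine ⟨h1, fun w hw => ?_⟩
      exact (he w y).mpr (h2 (e w) ((he g w).mp hw))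
  have hcard : Nat.card (dc g) = Nat.card (dc (e g)) :=
    Nat.card_congr (e.subtypeEquiv hmem)
  have hgmem : g ∈ dc g := (mem_dc g g).mpr ⟨Commute.refl g, fun w hw => hw.symm⟩
  have hdvd : p * q ∣ Nat.card (dc (e g)) := by
    rw [← hcard, ← hg]
    have := orderOf_dvd_natCard (⟨g, hgmem⟩ : dc g)
    rwa [← Subgroup.orderOf_coe] at this
  have : Fact p.Prime := ⟨hp⟩
  have : Fact q.Prime := ⟨hq⟩
  obtain ⟨u, hu⟩ := exists_prime_orderOf_dvd_card' p ((dvd_mul_right p q).trans hdvd)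
  obtain ⟨v, hv⟩ := exists_prime_orderOf_dvd_card' q ((dvd_mul_left q p).trans hdvd)
  refine ⟨(u : H) * (v : H), ?_⟩
  have hcomm : Commute (u : H) (v : H) := by
    have hu' := (mem_dc (e g) u).mp u.2
    have hv' := (mem_dc (e g) v).mp v.2
    exact hv'.2 _ hu'.1
  have hcop : Nat.Coprime (orderOf (u : H)) (orderOf (v : H)) := by
    rw [Subgroup.orderOf_coe, Subgroup.orderOf_coe, hu, hv]
    exact (Nat.coprime_primes hp hq).mpr hpq
  rw [hcomm.orderOf_mul_eq_mul_orderOf_of_coprime hcop, Subgroup.orderOf_coe, Subgroup.orderOf_coe,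
    hu, hv]

theorem result {G H : Type*} [Group G] [Finite G] [Group H] [Finite H] (e : G ≃ H)
    (he : ∀ x y : G, Commute x y ↔ Commute (e x) (e y))
    {p q : ℕ} (hp : p.Prime) (hq : q.Prime) (hpq : p ≠ q) :
    (∃ g : G, orderOf g = p * q) ↔ (∃ h : H, orderOf h = p * q) := by
  constructor
  · rintro ⟨g, hg⟩
    exact aux e he hp hq hpq g hg
  · rintro ⟨h, hh⟩
    refine aux e.symm ?_ hp hq hpq h hh
    intro x y
    rw [he (e.symm x) (e.symm y), Equiv.apply_symm_apply, Equiv.apply_symm_apply]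

end Cfsg.Agent.S4084
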