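import Cfsg.Statements.S4085
import Cfsg.Agent.Lib.Helper56_PGDefs
import Cfsg.Agent.Lib.Helper89_PG_INV
import Cfsg.Agent.Lib.Helper89_PG_CYC
import Cfsg.Agent.Lib.Helper10_PG_DOMCASE
import Cfsg.Agent.Lib.Helper9_PG_ODDF
import Cfsg.Agent.Lib.Helper9_PG_ODDB
import Cfsg.Agent.Lib.Helper56_PG_TWOF
import Cfsg.Agent.Lib.Helper8_PG_TWOB

set_option autoImplicit false
open Cfsg

namespace Cfsg.Agent.S4085
open Cfsg.Agent.Lib.Helper56_PGDefs
open Cfsg.Agent.Lib.Helper89_PG_INV Cfsg.Agent.Lib.Helper89_PG_CYC Cfsg.Agent.Lib.Helper10_PG_DOMCASE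
open Cfsg.Agent.Lib.Helper9_PG_ODDF Cfsg.Agent.Lib.Helper9_PG_ODDB
open Cfsg.Agent.Lib.Helper56_PG_TWOF Cfsg.Agent.Lib.Helper8_PG_TWOB

/-- Let G and H be finite groups whose power graphs are isomorphic: there is a bijection e : G → H such that, for all x, y, one of x, y is a power of the other exactly when one of e(x), e(y) is a power of the other. Then G and H have the same prime graph: for distinct primes p, q, G has an element of order pq if and only if H does. -/
theorem result {G H : Type*} [Group G] [Finite G] [Group H] [Finite H] (e : G ≃ H)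
    (he : ∀ x y : G, (x ∈ Subgroup.zpowers y ∨ y ∈ Subgroup.zpowers x) ↔
      (e x ∈ Subgroup.zpowers (e y) ∨ e y ∈ Subgroup.zpowers (e x)))
    {p q : ℕ} (hp : p.Prime) (hq : q.Prime) (hpq : p ≠ q) :
    (∃ g : G, orderOf g = p * q) ↔ (∃ h : H, orderOf h = p * q) := by
  have he' : ∀ x y : G, Cmp x y ↔ Cmp (e x) (e y) := he
  by_cases hA : ∃ x : G, Dom (Cmp (G := G)) x ∧ x ≠ 1
  · -- a nontrivial dominating vertex on both sides
    obtain ⟨x, hx, hx1⟩ := hA
    have hdx : Dom (Cmp (G := H)) (e x) := (dom_congr e _ _ he' x).1 hx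
    have hd1 : Dom (Cmp (G := H)) (e 1) := (dom_congr e _ _ he' 1).1 (fun z => cmp_one z)
    have hne : e x ≠ e 1 := fun h => hx1 (e.injective h)
    obtain ⟨y, hy, hy1⟩ : ∃ y : H, Dom (Cmp (G := H)) y ∧ y ≠ 1 := by
      by_cases h1 : e x = 1
      · exact ⟨e 1, hd1, fun h => hne (h1.trans h.symm)⟩
      · exact ⟨e x, hdx, h1⟩
    rw [domcase x hx hx1 hp hq hpq, domcase y hy hy1 hp hq hpq, Nat.card_congr e]
  · -- the identity is the only dominating vertex on both sides
    have hSG : ∀ x : G, Dom (Cmp (G := G)) x → x = 1 := by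
      intro x hx
      by_contra h1
      exact hA ⟨x, hx, h1⟩
    have he1 : e 1 = 1 := by
      have h1 : Dom (Cmp (G := G)) (e.symm 1) := by
        rw [dom_congr e _ _ he' (e.symm 1), Equiv.apply_symm_apply]
        exact fun z => cmp_one (G := H) z
      have := hSG _ h1
      rw [← this]; simp
    have hSH : ∀ y : H, Dom (Cmp (G := H)) y → y = 1 := by
      intro y hy
      have h1 : Dom (Cmp (G := G)) (e.symm y) := by
        rw [dom_congr e _ _ he' (e.symm y), Equiv.apply_symm_apply]
        exact hy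
      have := hSG _ h1
      have h2 : y = e 1 := by rw [← this]; simp
      rw [h2, he1]
    by_cases hp2 : p = 2
    · subst hp2
      have hq2 : q ≠ 2 := fun h => hpq h.symm
      constructor
      · rintro ⟨g, hg⟩
        exact orderOf_of_phiTwo hSH hq hq2
          ((phiTwo_congr e _ _ he' q).1 (phiTwo_of_orderOf hSG hq hq2 hg))
      · rintro ⟨g, hg⟩
        exact orderOf_of_phiTwo hSG hq hq2
          ((phiTwo_congr e _ _ he' q).2 (phiTwo_of_orderOf hSH hq hq2 hg))
    · by_cases hq2 : q = 2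
      · subst hq2
        rw [mul_comm]
        constructor
        · rintro ⟨g, hg⟩
          exact orderOf_of_phiTwo hSH hp hp2
            ((phiTwo_congr e _ _ he' p).1 (phiTwo_of_orderOf hSG hp hp2 hg))
        · rintro ⟨g, hg⟩
          exact orderOf_of_phiTwo hSG hp hp2
            ((phiTwo_congr e _ _ he' p).2 (phiTwo_of_orderOf hSH hp hp2 hg))
      · constructor
        · rintro ⟨g, hg⟩
          exact orderOf_of_phiOdd hSH hp hq hpq hp2 hq2
            ((phiOdd_congr e _ _ he' (p * q)).1 (phiOdd_of_orderOf hSG hp hq hpq hp2 hq2 hg))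
        · rintro ⟨g, hg⟩
          exact orderOf_of_phiOdd hSG hp hq hpq hp2 hq2
            ((phiOdd_congr e _ _ he' (p * q)).2 (phiOdd_of_orderOf hSH hp hq hpq hp2 hq2 hg))

end Cfsg.Agent.S4085
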