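import Cfsg.Statements.S4086
import Mathlib.Data.Nat.Factorization.PrimePow

set_option autoImplicit false
open Cfsg

namespace Cfsg.Agent.S4086

theorem pow_gcd_mem {G : Type*} [Group G] (c : G) (i : ℕ) :
    c ^ (Nat.gcd i (orderOf c)) ∈ Subgroup.zpowers (c ^ i) := by
  rw [Subgroup.mem_zpowers_iff]
  refine ⟨Nat.gcdA i (orderOf c), ?_⟩
  have h := Nat.gcd_eq_gcd_ab i (orderOf c)
  rw [← zpow_natCast c (Nat.gcd _ _), h, zpow_add, zpow_mul, zpow_mul, zpow_natCast, zpow_natCast,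
    pow_orderOf_eq_one, one_zpow, mul_one]

theorem chain_aux {G : Type*} [Group G] (c : G) (p : ℕ)
    (i j a b : ℕ) (ha : Nat.gcd i (orderOf c) = p ^ a) (hb : Nat.gcd j (orderOf c) = p ^ b)
    (hab : a ≤ b) : c ^ j ∈ Subgroup.zpowers (c ^ i) := by
  have h1 : c ^ (p ^ a) ∈ Subgroup.zpowers (c ^ i) := ha ▸ pow_gcd_mem c i
  have h2 : p ^ a ∣ j := (pow_dvd_pow p hab).trans (hb ▸ Nat.gcd_dvd_left j (orderOf c))
  obtain ⟨m, rfl⟩ := h2
  rw [pow_mul]
  exact Subgroup.pow_mem _ h1 m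

theorem chain {G : Type*} [Group G] (c : G) (p k : ℕ) (hp : p.Prime) (hc : orderOf c = p ^ k)
    (i j : ℕ) : c ^ i ∈ Subgroup.zpowers (c ^ j) ∨ c ^ j ∈ Subgroup.zpowers (c ^ i) := by
  obtain ⟨a, -, ha⟩ := (Nat.dvd_prime_pow hp).mp (hc ▸ Nat.gcd_dvd_right i (orderOf c))
  obtain ⟨b, -, hb⟩ := (Nat.dvd_prime_pow hp).mp (hc ▸ Nat.gcd_dvd_right j (orderOf c))
  rcases le_total a b with hab | hab
  · exact Or.inr (chain_aux c p i j a b (hc ▸ ha) (hc ▸ hb) hab)
  · exact Or.inl (chain_aux c p j i b a (hc ▸ hb) (hc ▸ ha) hab)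

theorem result {G : Type*} [Group G] [Finite G] :
    (∀ g : G, g ≠ 1 → IsPrimePow (orderOf g)) ↔
    (∀ x y : G, IsCyclic ↥(Subgroup.closure ({x, y} : Set G)) → (x ∈ Subgroup.zpowers y ∨ y ∈ Subgroup.zpowers x)) := by
  constructor
  · intro h x y hcyc
    obtain ⟨c, hc⟩ := hcyc.exists_generator
    have hx : x ∈ Subgroup.closure ({x, y} : Set G) := Subgroup.subset_closure (by simp)
    have hy : y ∈ Subgroup.closure ({x, y} : Set G) := Subgroup.subset_closure (by simp)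
    have hfin : IsOfFinOrder (c : G) := isOfFinOrder_of_finite _
    have hx' : x ∈ Submonoid.powers (c : G) := by
      rw [hfin.mem_powers_iff_mem_zpowers]
      obtain ⟨i, hi⟩ := Subgroup.mem_zpowers_iff.mp (hc ⟨x, hx⟩)
      exact Subgroup.mem_zpowers_iff.mpr ⟨i, by simpa using congrArg Subtype.val hi⟩
    have hy' : y ∈ Submonoid.powers (c : G) := by
      rw [hfin.mem_powers_iff_mem_zpowers]
      obtain ⟨i, hi⟩ := Subgroup.mem_zpowers_iff.mp (hc ⟨y, hy⟩)
      exact Subgroup.mem_zpowers_iff.mpr ⟨i, by simpa using congrArg Subtype.val hi⟩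
    obtain ⟨i, hi⟩ := (Submonoid.mem_powers_iff _ _).mp hx'
    obtain ⟨j, hj⟩ := (Submonoid.mem_powers_iff _ _).mp hy'
    generalize (c : G) = d at hi hj
    clear hx' hy' hfin hc hx hy c hcyc
    subst hi hj
    by_cases hc1 : d = 1
    · left
      rw [hc1, one_pow, one_pow]
      exact Subgroup.one_mem (Subgroup.zpowers (1 : G))
    · obtain ⟨p, k, hp, -, hpk⟩ := h _ hc1
      exact chain d p k (Nat.prime_iff.mpr hp) hpk.symm i j
  · intro h g hg
    have hn0 : orderOf g ≠ 0 := (orderOf_pos g).ne'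
    have hn1 : orderOf g ≠ 1 := fun h1 => hg (orderOf_eq_one_iff.mp h1)
    rw [isPrimePow_iff_unique_prime_dvd]
    obtain ⟨p, hp, hpd⟩ := Nat.exists_prime_and_dvd hn1
    refine ⟨p, ⟨hp, hpd⟩, ?_⟩
    rintro q ⟨hq, hqd⟩
    have key : ∀ p q : ℕ, p.Prime → q.Prime → p ∣ orderOf g → q ∣ orderOf g →
        g ^ (orderOf g / p) ∈ Subgroup.zpowers (g ^ (orderOf g / q)) → p = q := by
      intro p q hp hq hpd hqd hmem
      have h1 : orderOf (g ^ (orderOf g / p)) = p := orderOf_pow_orderOf_div hn0 hpd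
      have h2 : orderOf (g ^ (orderOf g / q)) = q := orderOf_pow_orderOf_div hn0 hqd
      have := orderOf_dvd_of_mem_zpowers hmem
      rw [h1, h2] at this
      exact (Nat.prime_dvd_prime_iff_eq hp hq).mp this
    have hle : Subgroup.closure ({g ^ (orderOf g / p), g ^ (orderOf g / q)} : Set G) ≤
        Subgroup.zpowers g := by
      rw [Subgroup.closure_le]
      rintro z (rfl | rfl)
      · exact Subgroup.pow_mem _ (Subgroup.mem_zpowers g) _
      · exact Subgroup.pow_mem _ (Subgroup.mem_zpowers g) _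
    have hcyc : IsCyclic ↥(Subgroup.closure ({g ^ (orderOf g / p), g ^ (orderOf g / q)} : Set G)) :=
      Subgroup.isCyclic_of_le hle
    rcases h _ _ hcyc with h1 | h1
    · exact (key p q hp hq hpd hqd h1).symm
    · exact key q p hq hp hqd hpd h1

end Cfsg.Agent.S4086
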