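import Mathlib
import Cfsg.Statements.S4088
import Cfsg.Agent.S4089
import Cfsg.Agent.Lib.Helper68_Casolo

set_option autoImplicit false
open Cfsg

namespace Cfsg.Agent.S4088

open Cfsg.Agent.Lib

theorem card_eq_mul_of_fibers {E B : Type*} [Finite E] [Finite B] (f : E → B) (c : ℕ)
    (h : ∀ b, Nat.card {x // f x = b} = c) : Nat.card E = Nat.card B * c := by
  have := Fintype.ofFinite B
  rw [← Nat.card_congr (Equiv.sigmaFiberEquiv f), Nat.card_sigma]
  simp [h, Finset.card_univ, Nat.card_eq_fintype_card]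

variable {G : Type*} [Group G]

theorem map_conj_mul (H : Subgroup G) (a b : G) :
    H.map (MulAut.conj (a * b)).toMonoidHom
      = (H.map (MulAut.conj b).toMonoidHom).map (MulAut.conj a).toMonoidHom := by
  rw [Subgroup.map_map]
  congr 1
  ext x
  simp [mul_assoc]

theorem map_conj_eq_self_iff (H : Subgroup G) (n : G) :
    H.map (MulAut.conj n).toMonoidHom = H ↔ n ∈ Subgroup.normalizer (H : Set G) :=
  Subgroup.mem_normalizer_iff_map_conj_eq.symm

theorem map_conj_inv_map_conj (H : Subgroup G) (r : G) :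
    (H.map (MulAut.conj r).toMonoidHom).map (MulAut.conj r⁻¹).toMonoidHom = H := by
  rw [← map_conj_mul, inv_mul_cancel]
  ext x
  simp

theorem mem_inv_smul_iff (p : ℕ) (g x : G) (P : Sylow p G) :
    x ∈ ((g⁻¹ • P : Sylow p G) : Subgroup G) ↔ g * x * g⁻¹ ∈ (P : Subgroup G) := by
  rw [Sylow.coe_subgroup_smul, Subgroup.mem_pointwise_smul_iff_inv_smul_mem]
  simp only [MulAut.smul_def, MulAut.conj_inv_apply, inv_inv]

theorem map_conj_le_iff (p : ℕ) (H : Subgroup G) (g : G) (P : Sylow p G) :
    H.map (MulAut.conj g).toMonoidHom ≤ (P : Subgroup G)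
      ↔ H ≤ ((g⁻¹ • P : Sylow p G) : Subgroup G) := by
  constructor
  · intro h x hx
    rw [mem_inv_smul_iff]
    exact h ⟨x, hx, by simp⟩
  · rintro h _ ⟨x, hx, rfl⟩
    have := h hx
    rw [mem_inv_smul_iff] at this
    simpa using this

/-- count 1: fibres over the conjugates of `H` inside `P` -/
theorem card_E_conj [Finite G] (p : ℕ) (H : Subgroup G) (P : Sylow p G) :
    Nat.card {g : G // H.map (MulAut.conj g).toMonoidHom ≤ (P : Subgroup G)}
      = Nat.card {K : Subgroup G // K ≤ (P : Subgroup G) ∧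
          ∃ g : G, K = H.map (MulAut.conj g).toMonoidHom} *
        Nat.card (Subgroup.normalizer (H : Set G)) := by
  apply card_eq_mul_of_fibers
    (fun g : {g : G // H.map (MulAut.conj g).toMonoidHom ≤ (P : Subgroup G)} =>
      (⟨H.map (MulAut.conj g.1).toMonoidHom, g.2, g.1, rfl⟩ :
        {K : Subgroup G // K ≤ (P : Subgroup G) ∧
          ∃ g : G, K = H.map (MulAut.conj g).toMonoidHom}))
  intro K
  obtain ⟨r, hr⟩ := K.2.2
  apply Nat.card_congr
  refine ⟨fun x => ⟨r⁻¹ * x.1.1, ?_⟩, fun n => ⟨⟨r * n.1, ?_⟩, ?_⟩, ?_, ?_⟩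
  · have hx : H.map (MulAut.conj x.1.1).toMonoidHom = K.1 := congrArg Subtype.val x.2
    rw [← map_conj_eq_self_iff, map_conj_mul, hx, hr, map_conj_inv_map_conj]
  · rw [map_conj_mul, (map_conj_eq_self_iff H n.1).mpr n.2, ← hr]
    exact K.2.1
  · apply Subtype.ext
    show H.map (MulAut.conj (r * n.1)).toMonoidHom = K.1
    rw [map_conj_mul, (map_conj_eq_self_iff H n.1).mpr n.2, ← hr]
  · intro x
    apply Subtype.ext
    apply Subtype.ext
    show r * (r⁻¹ * x.1.1) = x.1.1
    group
  · intro n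
    apply Subtype.ext
    show r⁻¹ * (r * n.1) = n.1
    group

/-- count 2: fibres over the Sylow subgroups containing `H` -/
theorem card_E_sylow [Finite G] (p : ℕ) [Fact p.Prime] (H : Subgroup G) (P : Sylow p G) :
    Nat.card {g : G // H.map (MulAut.conj g).toMonoidHom ≤ (P : Subgroup G)}
      = Nat.card {Q : Sylow p G // H ≤ (Q : Subgroup G)} *
        Nat.card (Subgroup.normalizer ((P : Subgroup G) : Set G)) := by
  apply card_eq_mul_of_fibers
    (fun g : {g : G // H.map (MulAut.conj g).toMonoidHom ≤ (P : Subgroup G)} =>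
      (⟨g.1⁻¹ • P, (map_conj_le_iff p H g.1 P).mp g.2⟩ :
        {Q : Sylow p G // H ≤ (Q : Subgroup G)}))
  intro Q
  obtain ⟨r, hr⟩ := MulAction.exists_smul_eq G P Q.1
  apply Nat.card_congr
  refine ⟨fun x => ⟨x.1.1 * r, ?_⟩, fun n => ⟨⟨n.1 * r⁻¹, ?_⟩, ?_⟩, ?_, ?_⟩
  · have hx : x.1.1⁻¹ • P = Q.1 := congrArg Subtype.val x.2
    have h1 : (x.1.1 * r) • P = P := by
      rw [mul_smul, hr, ← hx, smul_inv_smul]
    exact Sylow.smul_eq_iff_mem_normalizer.mp h1
  · rw [map_conj_le_iff]
    have h1 : (n.1 * r⁻¹)⁻¹ • P = Q.1 := by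
      rw [mul_inv_rev, inv_inv, mul_smul, Sylow.smul_eq_iff_mem_normalizer.mpr (inv_mem n.2), hr]
    rw [h1]
    exact Q.2
  · apply Subtype.ext
    show (n.1 * r⁻¹)⁻¹ • P = Q.1
    rw [mul_inv_rev, inv_inv, mul_smul, Sylow.smul_eq_iff_mem_normalizer.mpr (inv_mem n.2), hr]
  · intro x
    apply Subtype.ext
    apply Subtype.ext
    show x.1.1 * r * r⁻¹ = x.1.1
    group
  · intro n
    apply Subtype.ext
    show n.1 * r⁻¹ * r = n.1
    group

/-- Let G be a finite group, p a prime dividing the order of G, H a p-subgroup of G and P a Sylow p-subgroup of G. Call the subnormalizer of H the set of elements g of G such that H is subnormal in the subgroup generated by H and g. Then the number of elements of the subnormalizer of H equals the number of Sylow p-subgroups of G containing H times the order of N_G(P), and also equals the number of conjugates of H contained in P times the order of N_G(H). -/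
theorem result {G : Type*} [Group G] [Finite G] (p : ℕ) [Fact p.Prime]
    (hp : p ∣ Nat.card G) (H : Subgroup G) (hH : IsPGroup p H) (P : Sylow p G) :
    Nat.card {g : G // ((H).subgroupOf (H ⊔ Subgroup.zpowers g)).IsSubnormal} =
        Nat.card {Q : Sylow p G // H ≤ (Q : Subgroup G)} * Nat.card (Subgroup.normalizer ((P : Subgroup G) : Set G)) ∧
    Nat.card {g : G // ((H).subgroupOf (H ⊔ Subgroup.zpowers g)).IsSubnormal} =
        Nat.card {K : Subgroup G // K ≤ (P : Subgroup G) ∧ ∃ g : G, K = H.map (MulAut.conj g).toMonoidHom} *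
          Nat.card (Subgroup.normalizer (H : Set G)) := by
  have h1 : Nat.card {g : G // ((H).subgroupOf (H ⊔ Subgroup.zpowers g)).IsSubnormal}
      = Nat.card {g : G // ∃ R : Subgroup G, H ≤ R ∧ IsPGroup p R ∧
        g ∈ Subgroup.normalizer (R : Set G)} :=
    Nat.card_congr (Equiv.subtypeEquivRight (fun g => Cfsg.Agent.S4089.sn_iff p H hH g))
  have h2 := Helper68_Casolo.casolo p H P
  have h3 := card_E_conj p H P
  have h4 := card_E_sylow p H P
  refine ⟨h1.trans h2, ?_⟩
  rw [h1, h2, ← h4, h3]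

end Cfsg.Agent.S4088
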