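import Mathlib
import Cfsg.Statements.S4091
import Cfsg.Agent.Lib.Helper68_GheriFac

set_option autoImplicit false
open Cfsg

namespace Cfsg.Agent.S4091

open Cfsg.Agent.Lib
open Cfsg.Agent.Lib.Helper68_Casolo
open Cfsg.Agent.Lib.Helper47_Casolo
open Cfsg.Agent.Lib.Helper68_Gheri
open Cfsg.Agent.Lib.Helper68_GheriFac
open Cfsg.Agent.Lib.Helper68_FixedPointIneq

universe u

variable {G : Type u} [Group G]

/-- the factor of the trivial subgroup for a `p'`-section is the index -/
theorem fac_bot_left [Finite G] (p : ℕ) (A B : Subgroup G) (hAB : A ≤ B)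
    (hcop : (A.relIndex B).Coprime p) : fac p ⊥ A B = A.relIndex B := by
  unfold fac
  rw [if_pos hcop]
  have h1 : Nat.card {u : G // u ∈ B ∧ ∀ h ∈ (⊥ : Subgroup G), h * u * h⁻¹ * u⁻¹ ∈ A}
      = Nat.card B := by
    apply Nat.card_congr
    apply Equiv.subtypeEquivRight
    intro u
    constructor
    · exact fun h => h.1
    · intro h
      refine ⟨h, fun x hx => ?_⟩
      rw [Subgroup.mem_bot] at hx
      subst hx
      simp
  have h2 := relIndex_mul_card_inf A B
  rw [inf_eq_right.mpr hAB] at h2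
  rw [h1, ← h2]
  exact Nat.mul_div_cancel _ Nat.card_pos

theorem fac_of_not_coprime (p : ℕ) (H A B : Subgroup G) (h : ¬ (A.relIndex B).Coprime p) :
    fac p H A B = 1 := by
  unfold fac
  rw [if_neg h]

/-- Casolo + the chain formula -/
theorem sylow_count_chain [Finite G] (p : ℕ) [Fact p.Prime] (H : Subgroup G) (hH : IsPGroup p H)
    (P : Sylow p G) (n : ℕ) (M : Fin (n + 1) → Subgroup G) (h0 : M 0 = ⊥)
    (hn : M (Fin.last n) = ⊤) (hmono : Monotone M) (hnormal : ∀ i, (M i).Normal)
    (hfac : ∀ i : Fin n, (∃ m : ℕ, (M i.castSucc).relIndex (M i.succ) = p ^ m) ∨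
      ((M i.castSucc).relIndex (M i.succ)).Coprime p) :
    Nat.card {Q : Sylow p G // H ≤ (Q : Subgroup G)} *
        Nat.card (Subgroup.normalizer ((P : Subgroup G) : Set G))
      = Nat.card (P : Subgroup G) * ∏ i : Fin n, fac p H (M i.castSucc) (M i.succ) := by
  rw [← Helper68_Casolo.casolo p H P]
  exact card_snSet_chain p n G H hH P M h0 hn hmono hnormal hfac


/-- Let G be a finite p-solvable group, P a Sylow p-subgroup of G, u the number of p-elements of G (elements of p-power order, the identity included) and n the number of Sylow p-subgroups of G. Then u/#P ≥ n^((p−1)/p), stated as u^p ≥ #P^p · n^(p−1). -/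
theorem result {G : Type*} [Group G] [Finite G] (p : ℕ) [Fact p.Prime]
    (hG : Cfsg.IsPSolvable p G) (P : Sylow p G) :
    Nat.card (P : Subgroup G) ^ p * Nat.card (Sylow p G) ^ (p - 1) ≤ Nat.card {g : G // ∃ k : ℕ, orderOf g = p ^ k} ^ p := by
  have hp : p.Prime := Fact.out
  obtain ⟨n, M, h0, hn, hmono, hnormal, hfac⟩ := hG
  apply gheri_reduction p P
  set a := Nat.card (P : Subgroup G) with ha
  set NP := Nat.card (Subgroup.normalizer ((P : Subgroup G) : Set G)) with hNP
  set np := Nat.card (Sylow p G) with hnp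
  have hNPpos : 0 < NP := Nat.card_pos
  have hchain := fun (H : Subgroup G) (hH : IsPGroup p H) =>
    sylow_count_chain p H hH P n M h0 hn hmono hnormal hfac
  -- the three special cases
  have hE_P : NP = a * ∏ i : Fin n, fac p (P : Subgroup G) (M i.castSucc) (M i.succ) := by
    have h1 := hchain P P.isPGroup'
    have h2 : Nat.card {Q : Sylow p G // (P : Subgroup G) ≤ (Q : Subgroup G)} = 1 := by
      rw [Nat.card_eq_one_iff_unique]
      refine ⟨⟨?_⟩, ⟨⟨P, le_rfl⟩⟩⟩
      intro Q1 Q2
      have e1 : (Q1.1 : Subgroup G) = P := (P.is_maximal' Q1.1.isPGroup' Q1.2).symm ▸ rfl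
      have e2 : (Q2.1 : Subgroup G) = P := (P.is_maximal' Q2.1.isPGroup' Q2.2).symm ▸ rfl
      exact Subtype.ext (Sylow.ext (e1.trans e2.symm))
    rw [h2, one_mul] at h1
    exact h1
  have hE_bot : np * NP = a * ∏ i : Fin n, fac p (⊥ : Subgroup G) (M i.castSucc) (M i.succ) := by
    have h1 := hchain ⊥ IsPGroup.of_bot
    have h2 : Nat.card {Q : Sylow p G // (⊥ : Subgroup G) ≤ (Q : Subgroup G)} = np := by
      rw [hnp]
      apply Nat.card_congr
      exact Equiv.subtypeUnivEquiv (fun Q => bot_le)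
    rw [h2] at h1
    exact h1
  have hE_x : ∀ x ∈ elts (P : Subgroup G), lam p x * NP
      = a * ∏ i : Fin n, fac p (Subgroup.zpowers x) (M i.castSucc) (M i.succ) := by
    intro x hx
    rw [mem_elts] at hx
    have hz : IsPGroup p (Subgroup.zpowers x) := P.isPGroup'.to_le (Subgroup.zpowers_le.mpr hx)
    have h1 := hchain (Subgroup.zpowers x) hz
    have h2 : Nat.card {Q : Sylow p G // Subgroup.zpowers x ≤ (Q : Subgroup G)} = lam p x := by
      unfold lam
      apply Nat.card_congr
      apply Equiv.subtypeEquivRight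
      intro Q
      exact Subgroup.zpowers_le
    rw [h2] at h1
    exact h1
  -- per-factor inequality
  set X := ∏ i : Fin n, fac p (P : Subgroup G) (M i.castSucc) (M i.succ) with hX
  set Y := ∏ i : Fin n, fac p (⊥ : Subgroup G) (M i.castSucc) (M i.succ) with hY
  set Z : Fin n → ℕ := fun i => ∏ x ∈ elts (P : Subgroup G),
    fac p (Subgroup.zpowers x) (M i.castSucc) (M i.succ) with hZ
  have hZi : ∀ i : Fin n, (Z i) ^ p ≤ (fac p (⊥ : Subgroup G) (M i.castSucc) (M i.succ)) ^ a *
      (fac p (P : Subgroup G) (M i.castSucc) (M i.succ)) ^ (a * (p - 1)) := by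
    intro i
    by_cases hc : ((M i.castSucc).relIndex (M i.succ)).Coprime p
    · have hAB : M i.castSucc ≤ M i.succ := hmono (Fin.castSucc_lt_succ).le
      have := hnormal i.castSucc
      have := hnormal i.succ
      rw [fac_bot_left p _ _ hAB hc]
      exact fac_ineq p (M i.castSucc) (M i.succ) hAB hc P P.isPGroup'
    · simp only [hZ, fac_of_not_coprime p _ _ _ hc, Finset.prod_const_one, one_pow, mul_one, le_refl]
  have hprodZ : (∏ i : Fin n, Z i) ^ p ≤ Y ^ a * X ^ (a * (p - 1)) := by
    rw [← Finset.prod_pow, hY, hX, ← Finset.prod_pow, ← Finset.prod_pow, ← Finset.prod_mul_distrib]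
    exact Finset.prod_le_prod' (fun i _ => hZi i)
  -- the product formula
  set Λ := ∏ x ∈ elts (P : Subgroup G), lam p x with hΛ
  have hΛeq : Λ * NP ^ a = a ^ a * ∏ i : Fin n, Z i := by
    have h1 : ∏ x ∈ elts (P : Subgroup G), (lam p x * NP)
        = ∏ x ∈ elts (P : Subgroup G),
          (a * ∏ i : Fin n, fac p (Subgroup.zpowers x) (M i.castSucc) (M i.succ)) :=
      Finset.prod_congr rfl hE_x
    rw [Finset.prod_mul_distrib, Finset.prod_mul_distrib, Finset.prod_const, Finset.prod_const,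
      card_elts, Finset.prod_comm] at h1
    exact h1
  -- conclude
  obtain ⟨q, hq⟩ : ∃ q, p = q + 1 := ⟨p - 1, by have := hp.one_lt; omega⟩
  have hq' : p - 1 = q := by omega
  rw [hq'] at hprodZ
  have hfinal : Λ ^ p * NP ^ (a * p) ≤ np ^ a * NP ^ (a * p) := by
    calc Λ ^ p * NP ^ (a * p) = (Λ * NP ^ a) ^ p := by rw [mul_pow, ← pow_mul]
      _ = (a ^ a) ^ p * (∏ i : Fin n, Z i) ^ p := by rw [hΛeq, mul_pow]
      _ ≤ (a ^ a) ^ p * (Y ^ a * X ^ (a * q)) := Nat.mul_le_mul_left _ hprodZ
      _ = (a * Y) ^ a * (a * X) ^ (a * q) := by rw [hq]; ring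
      _ = (np * NP) ^ a * NP ^ (a * q) := by rw [← hE_bot, ← hE_P]
      _ = np ^ a * NP ^ (a * p) := by rw [hq]; ring
  exact Nat.le_of_mul_le_mul_right hfinal (pow_pos hNPpos _)

end Cfsg.Agent.S4091
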