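import Cfsg.Statements.S4092
import Cfsg.Agent.Lib.Helper71_FrobSolutions

set_option autoImplicit false
open Cfsg

namespace Cfsg.Agent.S4092

open Cfsg.Agent.Lib.Helper71_FrobSolutions Finset

section count

variable {G : Type*} [Group G] [Fintype G] [DecidableEq G]

omit [DecidableEq G] in
/-- the number of generators of a cyclic subgroup. -/
lemma card_zpowers_eq (g₀ : G) [DecidablePred fun g : G => Subgroup.zpowers g = Subgroup.zpowers g₀] :
    (univ.filter (fun g : G => Subgroup.zpowers g = Subgroup.zpowers g₀)).card =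
      Nat.totient (orderOf g₀) := by
  classical
  have hcard : Fintype.card (Subgroup.zpowers g₀) = orderOf g₀ := Fintype.card_zpowers
  have h := IsCyclic.card_orderOf_eq_totient (α := Subgroup.zpowers g₀) (d := orderOf g₀)
    (by rw [hcard])
  rw [← h]
  symm
  apply Finset.card_bij (fun (a : Subgroup.zpowers g₀) _ => (a : G))
  · intro a ha
    simp only [mem_filter, mem_univ, true_and] at ha ⊢
    apply Subgroup.eq_of_le_of_card_ge
    · rw [Subgroup.zpowers_le]; exact a.2
    · rw [Nat.card_zpowers, Nat.card_zpowers, Subgroup.orderOf_coe, ha]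
  · intro a _ b _ hab
    exact Subtype.ext hab
  · intro g hg
    simp only [mem_filter, mem_univ, true_and] at hg
    have hmem : g ∈ Subgroup.zpowers g₀ := hg ▸ Subgroup.mem_zpowers g
    refine ⟨⟨g, hmem⟩, ?_, rfl⟩
    simp only [mem_filter, mem_univ, true_and]
    rw [← Subgroup.orderOf_coe]
    simp only
    rw [← Nat.card_zpowers, hg, Nat.card_zpowers]

/-- the number of non-identity `p`-elements is divisible by `p - 1`. -/
lemma sub_one_dvd_card_pElements (p : ℕ) (hp : p.Prime) :
    (p - 1) ∣ Nat.card {g : G // g ≠ 1 ∧ ∃ k : ℕ, orderOf g = p ^ k} := by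
  classical
  rw [Nat.card_eq_fintype_card, Fintype.card_subtype]
  rw [Finset.card_eq_sum_card_fiberwise (f := fun x : G => Subgroup.zpowers x)
    (t := (univ.filter (fun g : G => g ≠ 1 ∧ ∃ k : ℕ, orderOf g = p ^ k)).image
      (fun x => Subgroup.zpowers x))
    (fun x hx => Finset.mem_image_of_mem _ hx)]
  apply Finset.dvd_sum
  intro H hH
  obtain ⟨g₀, hg₀, rfl⟩ := Finset.mem_image.mp hH
  obtain ⟨hne, k, hk⟩ := (mem_filter.mp hg₀).2
  have hk0 : 0 < k := by
    rcases Nat.eq_zero_or_pos k with h | h
    · exfalso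
      rw [h, pow_zero, orderOf_eq_one_iff] at hk
      exact hne hk
    · exact h
  have hfil : (univ.filter (fun g : G => g ≠ 1 ∧ ∃ k : ℕ, orderOf g = p ^ k)).filter
      (fun x => Subgroup.zpowers x = Subgroup.zpowers g₀) =
      univ.filter (fun g : G => Subgroup.zpowers g = Subgroup.zpowers g₀) := by
    ext g
    simp only [mem_filter, mem_univ, true_and, and_iff_right_iff_imp]
    intro hg
    have ho : orderOf g = orderOf g₀ := by
      rw [← Nat.card_zpowers, hg, Nat.card_zpowers]
    refine ⟨?_, k, ho.trans hk⟩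
    intro h1
    rw [h1, orderOf_one] at ho
    rw [← ho] at hk
    have := Nat.one_lt_pow hk0.ne' hp.one_lt
    omega
  rw [hfil, card_zpowers_eq, hk, Nat.totient_prime_pow hp hk0]
  exact Dvd.intro_left _ rfl

end count

/-- Let G be a finite group, p a prime and P a Sylow p-subgroup of G that is not normal in G. Then G has at least p·#P elements of p-power order (the identity included). -/
theorem result {G : Type*} [Group G] [Finite G] (p : ℕ) [Fact p.Prime]
    (P : Sylow p G) (hP : ¬ (P : Subgroup G).Normal) :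
    p * Nat.card (P : Subgroup G) ≤ Nat.card {g : G // ∃ k : ℕ, orderOf g = p ^ k} := by
  classical
  have := Fintype.ofFinite G
  have hp : p.Prime := Fact.out
  have hG0 : Nat.card G ≠ 0 := Nat.card_pos.ne'
  set a := (Nat.card G).factorization p with ha
  have hPa : Nat.card (P : Subgroup G) = p ^ a := P.card_eq_multiplicity
  -- the p-elements are the solutions of `x ^ (p ^ a) = 1`
  have hT : ∀ g : G, (∃ k : ℕ, orderOf g = p ^ k) ↔ g ^ (p ^ a) = 1 := by
    intro g
    constructor
    · rintro ⟨k, hk⟩
      have h1 : p ^ k ∣ Nat.card G := hk ▸ orderOf_dvd_natCard g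
      have h2 : k ≤ a := (hp.pow_dvd_iff_le_factorization hG0).mp h1
      rw [← orderOf_dvd_iff_pow_eq_one, hk]
      exact pow_dvd_pow p h2
    · intro h
      rw [← orderOf_dvd_iff_pow_eq_one] at h
      obtain ⟨k, _, hk⟩ := (Nat.dvd_prime_pow hp).mp h
      exact ⟨k, hk⟩
  have hcardT : Nat.card {g : G // ∃ k : ℕ, orderOf g = p ^ k} =
      Nat.card {g : G // g ^ (p ^ a) = 1} :=
    Nat.card_congr (Equiv.subtypeEquivRight hT)
  -- Frobenius
  have hdvd : p ^ a ∣ Nat.card {g : G // g ^ (p ^ a) = 1} :=
    dvd_card_pow_eq_one (p ^ a) (Nat.ordProj_dvd _ _)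
  obtain ⟨t, ht⟩ := hdvd
  -- `P` lies in the set of solutions; if equality of cardinalities then `P` is normal
  have ht1 : t ≠ 1 := by
    intro h1
    apply hP
    rw [h1, mul_one] at ht
    let ι : ↥(P : Subgroup G) → {g : G // g ^ (p ^ a) = 1} := fun x => ⟨x.1, by
      have := pow_card_eq_one' (G := ↥(P : Subgroup G)) (x := x)
      rw [hPa] at this
      have := congrArg Subtype.val this
      simpa using this⟩
    have hinj : Function.Injective ι := by
      intro x y hxy
      have := congrArg Subtype.val hxy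
      exact Subtype.ext this
    have hbij : Function.Bijective ι :=
      hinj.bijective_of_nat_card_le (by rw [ht, hPa])
    constructor
    intro n hn g
    have hpow : (g * n * g⁻¹) ^ (p ^ a) = 1 := by
      rw [conj_pow]
      have := (ι ⟨n, hn⟩).2
      simp only [ι] at this
      rw [this]; group
    obtain ⟨x, hx⟩ := hbij.2 ⟨g * n * g⁻¹, hpow⟩
    have := congrArg Subtype.val hx
    simp only [ι] at this
    rw [← this]
    exact x.2
  have ht0 : t ≠ 0 := by
    intro h0
    rw [h0, mul_zero] at ht
    have : Nonempty {g : G // g ^ (p ^ a) = 1} := ⟨⟨1, one_pow _⟩⟩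
    exact Nat.card_pos.ne' ht
  -- congruence mod `p - 1`
  have hmod : Nat.card {g : G // g ^ (p ^ a) = 1} ≡ 1 [MOD (p - 1)] := by
    rw [← hcardT]
    have hsplit : Nat.card {g : G // ∃ k : ℕ, orderOf g = p ^ k} =
        Nat.card {g : G // g ≠ 1 ∧ ∃ k : ℕ, orderOf g = p ^ k} + 1 := by
      rw [Nat.card_eq_fintype_card, Nat.card_eq_fintype_card, Fintype.card_subtype,
        Fintype.card_subtype]
      have h1 : univ.filter (fun g : G => ∃ k : ℕ, orderOf g = p ^ k) =
          insert 1 (univ.filter (fun g : G => g ≠ 1 ∧ ∃ k : ℕ, orderOf g = p ^ k)) := by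
        ext g
        simp only [mem_filter, mem_univ, true_and, mem_insert]
        constructor
        · intro h
          by_cases hg : g = 1
          · exact Or.inl hg
          · exact Or.inr ⟨hg, h⟩
        · rintro (h | h)
          · exact ⟨0, by rw [h, orderOf_one, pow_zero]⟩
          · exact h.2
      rw [h1, Finset.card_insert_of_notMem]
      simp
    rw [hsplit]
    obtain ⟨s, hs⟩ := sub_one_dvd_card_pElements (G := G) p hp
    rw [hs]
    calc (p - 1) * s + 1 ≡ 0 * s + 1 [MOD (p - 1)] :=
          Nat.ModEq.add_right _ (Nat.ModEq.mul_right _ (by simp [Nat.ModEq]))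
      _ = 1 := by simp
  have hpa : p ^ a ≡ 1 [MOD (p - 1)] := by
    have h1 : p ≡ 1 [MOD (p - 1)] := by
      have : p = (p - 1) + 1 := by have := hp.one_lt; omega
      conv_lhs => rw [this]
      simp [Nat.ModEq]
    simpa using h1.pow a
  have htmod : t ≡ 1 [MOD (p - 1)] := by
    have h1 : p ^ a * t ≡ 1 * t [MOD (p - 1)] := hpa.mul_right t
    rw [one_mul, ← ht] at h1
    exact h1.symm.trans hmod
  have ht2 : 2 ≤ t := by omega
  have htp : p ≤ t := by
    have h1 : (p - 1) ∣ t - 1 := (Nat.modEq_iff_dvd' (by omega)).mp htmod.symm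
    have h2 := Nat.le_of_dvd (by omega) h1
    have := hp.one_lt
    omega
  rw [hcardT, ht, hPa, mul_comm]
  exact Nat.mul_le_mul_left _ htp

end Cfsg.Agent.S4092
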