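import Cfsg.Statements.S4093

set_option autoImplicit false
open Cfsg
open scoped Pointwise

namespace Cfsg.Agent.S4093

theorem mem_conj_smul {M : Type*} [Group M] (H : Subgroup M) (g x : M) :
    x ∈ MulAut.conj g • H ↔ g⁻¹ * x * g ∈ H := by
  rw [Subgroup.mem_pointwise_smul_iff_inv_smul_mem]
  simp [MulAut.smul_def]

/-- The conjugation action of a subgroup on the ambient group. -/
@[reducible] def conjAction {G : Type*} [Group G] (N : Subgroup G) : MulAction N G :=
  MulAction.compHom G ((MulAut.conj : G →* MulAut G).comp N.subtype)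

theorem card_orbit {G : Type*} [Group G] [Finite G] (N : Subgroup G) (x : G) :
    letI := conjAction N
    Nat.card (MulAction.orbit N x) =
      Nat.card N / Nat.card ↥(N ⊓ Subgroup.centralizer ({x} : Set G)) := by
  letI := conjAction N
  have hsmul : ∀ (n : N) (g : G), n • g = (n : G) * g * (n : G)⁻¹ := fun n g => rfl
  have h1 : (MulAction.stabilizer N x).index = Nat.card (MulAction.orbit N x) := by
    rw [MulAction.index_stabilizer, Nat.card_coe_set_eq]
  have h2 : MulAction.stabilizer N x = (N ⊓ Subgroup.centralizer ({x} : Set G)).subgroupOf N := by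
    ext n
    rw [MulAction.mem_stabilizer_iff, hsmul, Subgroup.mem_subgroupOf, Subgroup.mem_inf,
      Subgroup.mem_centralizer_singleton_iff]
    constructor
    · intro h
      refine ⟨n.2, ?_⟩
      calc (n : G) * x = ((n : G) * x * (n : G)⁻¹) * (n : G) := by group
        _ = x * (n : G) := by rw [h]
    · rintro ⟨-, h⟩
      rw [h]
      group
  have h3 : Nat.card (MulAction.stabilizer N x) =
      Nat.card ↥(N ⊓ Subgroup.centralizer ({x} : Set G)) := by
    rw [h2]
    exact Nat.card_congr (Subgroup.subgroupOfEquivOfLe inf_le_left).toEquiv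
  rw [← h1, ← h3]
  have h4 := (MulAction.stabilizer N x).index_mul_card
  rw [← h4]
  exact (Nat.mul_div_cancel _ Nat.card_pos).symm

theorem result {G : Type*} [Group G] [Finite G] (p : ℕ) [Fact p.Prime]
    (P : Sylow p G) (N : Subgroup G) [N.Normal] (hNP : N.IsComplement' (P : Subgroup G)) :
    Nat.card {g : G // ∃ k : ℕ, orderOf g = p ^ k} =
      ∑ᶠ x : (P : Subgroup G), Nat.card N / Nat.card ↥(N ⊓ Subgroup.centralizer ({(x : G)} : Set G)) := by
  classical
  letI := conjAction N
  haveI := Fintype.ofFinite (P : Subgroup G)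
  have hNn : N.Normal := inferInstance
  have hsmul : ∀ (n : N) (g : G), n • g = (n : G) * g * (n : G)⁻¹ := fun n g => rfl
  have hdisj : ∀ u : G, u ∈ N → u ∈ (P : Subgroup G) → u = 1 := by
    intro u h1 h2
    have := hNP.disjoint
    rw [Subgroup.disjoint_def] at this
    exact this h1 h2
  have hdecomp : ∀ g : G, ∃ n ∈ N, ∃ y ∈ (P : Subgroup G), n * y = g := by
    intro g
    have hg : g ∈ ((N ⊔ (P : Subgroup G) : Subgroup G) : Set G) := by
      rw [hNP.sup_eq_top]; exact Set.mem_univ g
    rw [Subgroup.normal_mul] at hg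
    exact Set.mem_mul.mp hg
  rw [finsum_eq_sum_of_fintype]
  have hcard : ∀ x : (P : Subgroup G), Nat.card N / Nat.card ↥(N ⊓ Subgroup.centralizer ({(x : G)} : Set G))
      = Nat.card (MulAction.orbit N (x : G)) := fun x => (card_orbit N (x : G)).symm
  rw [Finset.sum_congr rfl (fun x _ => hcard x), ← Nat.card_sigma]
  symm
  -- the bijection
  have hmemN : ∀ (x : G) (g : G), g ∈ MulAction.orbit N x → g * x⁻¹ ∈ N := by
    rintro x g ⟨n, rfl⟩
    change (n • x) * x⁻¹ ∈ N
    rw [hsmul]
    have h1 : x * (n : G)⁻¹ * x⁻¹ ∈ N := hNn.conj_mem _ (N.inv_mem n.2) x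
    have := N.mul_mem n.2 h1
    convert this using 1
    group
  have hpel : ∀ (x : (P : Subgroup G)) (g : G), g ∈ MulAction.orbit N (x : G) →
      ∃ k : ℕ, orderOf g = p ^ k := by
    rintro x g ⟨n, rfl⟩
    obtain ⟨k, hk⟩ := (IsPGroup.iff_orderOf.mp P.isPGroup') x
    refine ⟨k, ?_⟩
    change orderOf (n • (x : G)) = p ^ k
    rw [hsmul, ← hk, ← Subgroup.orderOf_coe x]
    have := MulEquiv.orderOf_eq (MulAut.conj (n : G)) (x : G)
    simpa [MulAut.conj_apply] using this
  let f : (Σ x : (P : Subgroup G), MulAction.orbit N (x : G)) → {g : G // ∃ k : ℕ, orderOf g = p ^ k} :=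
    fun a => ⟨(a.2 : G), hpel a.1 a.2 a.2.2⟩
  apply Nat.card_congr
  apply Equiv.ofBijective f
  constructor
  · rintro ⟨x, g, hg⟩ ⟨x', g', hg'⟩ h
    have hgg : g = g' := congrArg Subtype.val h
    subst hgg
    have h1 := hmemN _ _ hg
    have h2 := hmemN _ _ hg'
    have h3 : (x' : G) * (x : G)⁻¹ ∈ N := by
      have := N.mul_mem (N.inv_mem h2) h1
      convert this using 1
      group
    have h4 : (x' : G) * (x : G)⁻¹ ∈ (P : Subgroup G) :=
      (P : Subgroup G).mul_mem x'.2 ((P : Subgroup G).inv_mem x.2)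
    have h5 := hdisj _ h3 h4
    have h6 : x' = x := by
      apply Subtype.ext
      exact mul_inv_eq_one.mp h5
    subst h6
    rfl
  · rintro ⟨g, k, hk⟩
    have hgp : IsPGroup p (Subgroup.zpowers g) := by
      apply IsPGroup.of_card (n := k)
      rw [Nat.card_zpowers, hk]
    obtain ⟨P', hP'⟩ := hgp.exists_le_sylow
    obtain ⟨h, rfl⟩ := MulAction.exists_smul_eq G P P'
    have hg : g ∈ ((h • P : Sylow p G) : Subgroup G) := hP' (Subgroup.mem_zpowers g)
    rw [Sylow.coe_subgroup_smul, mem_conj_smul] at hg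
    obtain ⟨n, hn, y, hy, rfl⟩ := hdecomp h
    have hx : n⁻¹ * g * n ∈ (P : Subgroup G) := by
      have := (P : Subgroup G).mul_mem ((P : Subgroup G).mul_mem hy hg) ((P : Subgroup G).inv_mem hy)
      convert this using 1
      group
    refine ⟨⟨⟨n⁻¹ * g * n, hx⟩, ⟨g, ⟨⟨n, hn⟩, ?_⟩⟩⟩, rfl⟩
    change (⟨n, hn⟩ : N) • (n⁻¹ * g * n) = g
    rw [hsmul]
    group

end Cfsg.Agent.S4093
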