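import Mathlib
import Cfsg.Statements.S4097
import Cfsg.Agent.Lib.Helper6_Frobenius
import Cfsg.Agent.Lib.Helper71_Frobenius
import Cfsg.Agent.Lib.Helper71_FrobCount
import Cfsg.Agent.Lib.Helper22_Basic
import Cfsg.Agent.Lib.Helper24_CoprimeAction
import Cfsg.Agent.S0001

set_option autoImplicit false
open Cfsg

namespace Cfsg.Agent.S4097

universe u

open scoped Pointwise

/-- The hypothesis of the statement: `A` is central in every solvable overgroup. -/
def Hyp {G : Type*} [Group G] (A : Subgroup G) : Prop :=
  ∀ S : Subgroup G, A ≤ S → Group.IsSolvable S → ∀ a ∈ A, ∀ s ∈ S, a * s = s * a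

/-- If `A` lies in a solvable normal subgroup, then `A` is central. -/
theorem central_of_le_normal_solvable {G : Type*} [Group G] (A B : Subgroup G) (hc : Hyp A)
    (hBn : B.Normal) (hB : Group.IsSolvable B) (hAB : A ≤ B) : A ≤ Subgroup.center G := by
  intro a ha
  rw [Subgroup.mem_center_iff]
  intro g
  have hn : Subgroup.zpowers g ≤ Subgroup.normalizer (B : Set G) := by
    rw [Subgroup.normalizer_eq_top]; exact le_top
  have hz : Group.IsSolvable ↥(Subgroup.zpowers g) :=
    Group.isSolvable_of_comm (fun a b => mul_comm' a b)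
  have hS : Group.IsSolvable ↥(B ⊔ Subgroup.zpowers g) :=
    Cfsg.Agent.Lib.Helper22_Basic.isSolvable_sup_of_le_normalizer B (Subgroup.zpowers g) hn hB hz
  exact (hc (B ⊔ Subgroup.zpowers g) (le_trans hAB le_sup_left) hS a ha g
    (Subgroup.mem_sup_right (Subgroup.mem_zpowers g))).symm

/-- Preimages of solvable subgroups under `G → G/Z(G)` are solvable. -/
theorem isSolvable_comap_mk_center {G : Type*} [Group G]
    (T : Subgroup (G ⧸ Subgroup.center G)) (hT : Group.IsSolvable T) :
    Group.IsSolvable ↥(T.comap (QuotientGroup.mk' (Subgroup.center G))) := by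
  have hle : Subgroup.center G ≤ T.comap (QuotientGroup.mk' (Subgroup.center G)) := by
    intro z hz
    rw [Subgroup.mem_comap]
    have : QuotientGroup.mk' (Subgroup.center G) z = 1 := by
      rw [QuotientGroup.mk'_apply, QuotientGroup.eq_one_iff]; exact hz
    rw [this]; exact T.one_mem
  have hz : Group.IsSolvable ↥(Subgroup.center G) :=
    Group.isSolvable_of_comm (fun a b => mul_comm' a b)
  refine Group.isSolvable_of_ker_le_range (Subgroup.inclusion hle)
    ((QuotientGroup.mk' (Subgroup.center G)).subgroupComap T) ?_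
  intro x hx
  rw [MonoidHom.mem_ker] at hx
  have h1 : QuotientGroup.mk' (Subgroup.center G) (x : G) = 1 := congrArg Subtype.val hx
  rw [QuotientGroup.mk'_apply, QuotientGroup.eq_one_iff] at h1
  exact ⟨⟨x, h1⟩, Subtype.ext rfl⟩


/-- Transfer of the hypothesis to a subgroup containing `A`. -/
theorem hyp_subgroupOf {G : Type*} [Group G] (A H : Subgroup G) (hc : Hyp A) (hAH : A ≤ H) :
    Hyp (A.subgroupOf H) := by
  intro S' hAS' hS' a' ha' s' hs'
  have hsolv : Group.IsSolvable ↥(S'.map H.subtype) :=
    Group.isSolvable_of_surjective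
      (f := (S'.equivMapOfInjective H.subtype H.subtype_injective).toMonoidHom)
      (S'.equivMapOfInjective H.subtype H.subtype_injective).surjective
  have hAS : A ≤ S'.map H.subtype := by
    intro a ha
    exact ⟨⟨a, hAH ha⟩, hAS' (Subgroup.mem_subgroupOf.mpr ha), rfl⟩
  have := hc (S'.map H.subtype) hAS hsolv (a' : G) (Subgroup.mem_subgroupOf.mp ha') (s' : G)
    ⟨s', hs', rfl⟩
  exact Subtype.ext this

/-- Transfer of the hypothesis to the quotient by the centre. -/
theorem hyp_map_mk_center {G : Type*} [Group G] (A : Subgroup G) (hc : Hyp A) :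
    Hyp (A.map (QuotientGroup.mk' (Subgroup.center G))) := by
  intro T hAT hT a' ha' s' hs'
  obtain ⟨a, ha, rfl⟩ := ha'
  obtain ⟨s, rfl⟩ := QuotientGroup.mk'_surjective (Subgroup.center G) s'
  have hsolv := isSolvable_comap_mk_center T hT
  have hAS : A ≤ T.comap (QuotientGroup.mk' (Subgroup.center G)) := by
    intro b hb
    exact hAT ⟨b, hb, rfl⟩
  have := hc _ hAS hsolv a ha s hs'
  rw [← map_mul, ← map_mul, this]

theorem main : ∀ (n : ℕ) (G : Type u) [Group G] [Finite G], Nat.card G = n →
    ∀ A : Subgroup G, Group.IsSolvable A → Hyp A → A ≤ Subgroup.center G := by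
  intro n
  induction n using Nat.strong_induction_on with
  | _ n ih =>
  intro G _ _ hn A hA hc
  by_contra hcon
  -- `A` is abelian
  have hAab : ∀ a ∈ A, ∀ b ∈ A, a * b = b * a := fun a ha b hb => hc A le_rfl hA a ha b hb
  set M : Subgroup G := Subgroup.centralizer (A : Set G) with hM
  have hAM : A ≤ M := fun a ha => Subgroup.mem_centralizer_iff.mpr (fun b hb => hAab b hb a ha)
  have hMtop : M ≠ ⊤ := by
    intro h
    apply hcon
    intro a ha
    rw [Subgroup.mem_center_iff]
    intro g
    have hg : g ∈ M := h ▸ Subgroup.mem_top g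
    exact (Subgroup.mem_centralizer_iff.mp hg a ha).symm
  -- proper overgroups of `A` centralize `A`
  have hsub : ∀ H : Subgroup G, A ≤ H → H ≠ ⊤ → H ≤ M := by
    intro H hAH hH
    have hcard : Nat.card H < n := by
      rw [← hn]
      exact lt_of_le_of_ne (Subgroup.card_le_card_group H)
        (fun h => hH ((Subgroup.card_eq_iff_eq_top H).mp h))
    have hAH' : Group.IsSolvable ↥(A.subgroupOf H) :=
      Group.isSolvable_of_isSolvable_injective (f := (Subgroup.subgroupOfEquivOfLe hAH).toMonoidHom)
        (Subgroup.subgroupOfEquivOfLe hAH).injective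
    have h1 := ih _ hcard H rfl (A.subgroupOf H) hAH' (hyp_subgroupOf A H hc hAH)
    intro h hh
    rw [Subgroup.mem_centralizer_iff]
    intro a ha
    have h2 : (⟨a, hAH ha⟩ : H) ∈ Subgroup.center H := h1 (Subgroup.mem_subgroupOf.mpr ha)
    rw [Subgroup.mem_center_iff] at h2
    have h3 := h2 ⟨h, hh⟩
    exact (congrArg Subtype.val h3).symm
  -- the centre of `G` is trivial
  have hZ : Subgroup.center G = ⊥ := by
    by_contra hZ
    have hcard : Nat.card (G ⧸ Subgroup.center G) < n := by
      rw [← hn, Subgroup.card_eq_card_quotient_mul_card_subgroup (Subgroup.center G)]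
      have h1 : 1 < Nat.card (Subgroup.center G) := (Subgroup.one_lt_card_iff_ne_bot _).mpr hZ
      have h0 : 0 < Nat.card (G ⧸ Subgroup.center G) := Nat.card_pos
      nlinarith
    have hA' : Group.IsSolvable ↥(A.map (QuotientGroup.mk' (Subgroup.center G))) :=
      Group.isSolvable_of_surjective
        (f := (QuotientGroup.mk' (Subgroup.center G)).subgroupMap A)
        ((QuotientGroup.mk' (Subgroup.center G)).subgroupMap_surjective A)
    have h1 := ih _ hcard (G ⧸ Subgroup.center G) rfl _ hA' (hyp_map_mk_center A hc)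
    have hnorm : (A.map (QuotientGroup.mk' (Subgroup.center G))).Normal := by
      refine ⟨fun x hx g => ?_⟩
      have h2 := Subgroup.mem_center_iff.mp (h1 hx) g
      rw [h2, mul_inv_cancel_right]
      exact hx
    apply hcon
    refine central_of_le_normal_solvable A
      ((A.map (QuotientGroup.mk' (Subgroup.center G))).comap (QuotientGroup.mk' (Subgroup.center G)))
      hc (hnorm.comap _) (isSolvable_comap_mk_center _ hA') (Subgroup.le_comap_map _ _)
  -- `M` is not normal
  have hMnn : ¬ M.Normal := by
    intro hMn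
    have hCn : (Subgroup.centralizer (M : Set G)).Normal := Subgroup.normal_centralizer
    apply hcon
    refine central_of_le_normal_solvable A (M ⊓ Subgroup.centralizer (M : Set G)) hc
      inferInstance ?_ ?_
    · refine Group.isSolvable_of_comm ?_
      rintro ⟨x, hx⟩ ⟨y, hy⟩
      apply Subtype.ext
      exact (Subgroup.mem_centralizer_iff.mp hy.2 x hx.1)
    · intro a ha
      refine ⟨hAM ha, Subgroup.mem_centralizer_iff.mpr ?_⟩
      intro m hm
      exact (Subgroup.mem_centralizer_iff.mp hm a ha).symm
  -- the normalizer of `M` is `M`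
  have hNM : Subgroup.normalizer (M : Set G) ≤ M := by
    apply hsub _ (le_trans hAM Subgroup.le_normalizer)
    intro h
    exact hMnn (Subgroup.normalizer_eq_top_iff.mp h)
  -- G1
  have hG1 : ∀ x : G, (∀ a ∈ A, x * a * x⁻¹ ∈ M) → x ∈ M := by
    intro x hx
    -- `H' = x⁻¹ M x` contains `A` and is proper
    have hle : M.map (MulAut.conj x⁻¹).toMonoidHom ≤ M := by
      apply hsub
      · intro a ha
        refine ⟨x * a * x⁻¹, hx a ha, ?_⟩
        simp [mul_assoc]
      · intro h
        apply hMtop
        have h1 : Nat.card ↥(M.map (MulAut.conj x⁻¹).toMonoidHom) = Nat.card M :=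
          Subgroup.card_map_of_injective (MulAut.conj x⁻¹).injective
        rw [h, Subgroup.card_top] at h1
        exact (Subgroup.card_eq_iff_eq_top M).mp h1.symm
    have heq : M.map (MulAut.conj x⁻¹).toMonoidHom = M := by
      apply Subgroup.eq_of_le_of_card_ge hle
      rw [Subgroup.card_map_of_injective (MulAut.conj x⁻¹).injective]
    have h2 : x⁻¹ ∈ Subgroup.normalizer (M : Set G) :=
      Cfsg.Agent.Lib.Helper24_CoprimeAction.mem_normalizer_iff_map_conj.mpr heq
    have h3 := hNM h2
    simpa using M.inv_mem h3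
  -- `M` is a Frobenius complement
  have hFrob : IsFrobeniusComplement M := by
    refine ⟨?_, hMtop, ?_⟩
    · intro h
      apply hcon
      intro a ha
      have : a ∈ (⊥ : Subgroup G) := h ▸ hAM ha
      rw [Subgroup.mem_bot] at this
      rw [this]; exact Subgroup.one_mem _
    · intro x hx
      rw [eq_bot_iff]
      intro y hy
      rw [Subgroup.mem_bot]
      by_contra hy1
      obtain ⟨hyM, hyx⟩ := Subgroup.mem_inf.mp hy
      rw [Cfsg.Agent.Lib.Helper71_Frobenius.mem_conj_smul] at hyx
      have hCtop : Subgroup.centralizer ({y} : Set G) ≠ ⊤ := by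
        intro h
        apply hy1
        have : y ∈ Subgroup.center G := by
          rw [Subgroup.mem_center_iff]
          intro g
          have hg : g ∈ Subgroup.centralizer ({y} : Set G) := h ▸ Subgroup.mem_top g
          exact (Subgroup.mem_centralizer_iff.mp hg y rfl).symm
        rw [hZ, Subgroup.mem_bot] at this
        exact this
      have hAC : A ≤ Subgroup.centralizer ({y} : Set G) := by
        intro a ha
        rw [Subgroup.mem_centralizer_iff]
        intro y' hy'
        rw [Set.mem_singleton_iff] at hy'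
        rw [hy']
        exact (Subgroup.mem_centralizer_iff.mp hyM a ha).symm
      have hCM := hsub _ hAC hCtop
      apply hx
      apply hG1
      intro a ha
      apply hCM
      rw [Subgroup.mem_centralizer_iff]
      intro y' hy'
      rw [Set.mem_singleton_iff] at hy'
      rw [hy']
      have h1 := Subgroup.mem_centralizer_iff.mp hyx a ha
      -- a * (x⁻¹ y x) = (x⁻¹ y x) * a
      calc y * (x * a * x⁻¹) = x * ((x⁻¹ * y * x) * a) * x⁻¹ := by group
        _ = x * (a * (x⁻¹ * y * x)) * x⁻¹ := by rw [h1]
        _ = x * a * x⁻¹ * y := by group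
  obtain ⟨N, hNK, hNn, hNM'⟩ := Cfsg.Agent.Lib.Helper6_Frobenius.exists_kernel M hFrob
  have hmod := Cfsg.Agent.Lib.Helper71_FrobCount.index_mod_card M hFrob
  have hidx : M.index = Nat.card N := hNM'.index_eq_card
  have hcopMN : (Nat.card M).Coprime (Nat.card N) := by
    rw [← hidx]
    have h1 : Nat.gcd M.index (Nat.card M) = Nat.gcd 1 (Nat.card M) := Nat.ModEq.gcd_eq hmod
    rw [Nat.gcd_one_left] at h1
    exact (Nat.coprime_comm.mp h1)
  have hN1 : Nat.card N ≠ 1 := by
    rw [← hidx]
    intro h
    exact hMtop (Subgroup.index_eq_one.mp h)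
  have hp : (Nat.card N).minFac.Prime := Nat.minFac_prime hN1
  have : Fact (Nat.card N).minFac.Prime := ⟨hp⟩
  have hAN : A ≤ Subgroup.normalizer (N : Set G) := by
    rw [Subgroup.normalizer_eq_top]; exact le_top
  have hcopAN : (Nat.card A).Coprime (Nat.card N) :=
    Nat.Coprime.coprime_dvd_left (Subgroup.card_dvd_of_le hAM) hcopMN
  obtain ⟨P, hP⟩ := Cfsg.Agent.Lib.Helper24_CoprimeAction.exists_invariant_sylow A N hAN hcopAN
    (Or.inl hA) (Nat.card N).minFac
  set Q : Subgroup G := Cfsg.Agent.Lib.Helper24_CoprimeAction.sylowImage P with hQ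
  have hQp : IsPGroup (Nat.card N).minFac Q := P.isPGroup'.map N.subtype
  have hQnil : Group.IsNilpotent Q := hQp.isNilpotent
  have hQsolv : Group.IsSolvable Q := inferInstance
  have hS : Group.IsSolvable ↥(Q ⊔ A) :=
    Cfsg.Agent.Lib.Helper22_Basic.isSolvable_sup_of_le_normalizer Q A hP hQsolv hA
  have hQM : Q ≤ M := by
    intro q hq
    rw [Subgroup.mem_centralizer_iff]
    intro a ha
    exact hc (Q ⊔ A) le_sup_right hS a ha q (Subgroup.mem_sup_left hq)
  have hQN : Q ≤ N := by
    rintro _ ⟨q, -, rfl⟩
    exact q.2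
  have hdisj : N ⊓ M = ⊥ := hNM'.disjoint.eq_bot
  have hQbot : Q = ⊥ := by
    rw [eq_bot_iff, ← hdisj]
    exact le_inf hQN hQM
  have hPbot : (P : Subgroup N) = ⊥ :=
    (Subgroup.map_eq_bot_iff_of_injective _ N.subtype_injective).mp hQbot
  exact P.ne_bot_of_dvd_card (Nat.minFac_dvd _) hPbot

/-- Let A be a solvable subgroup of a finite group G such that A lies in the centre of every solvable subgroup of G containing A. Then A lies in the centre of G. -/
theorem result {G : Type*} [Group G] [Finite G]
    (A : Subgroup G) (hA : Group.IsSolvable A)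
    (hc : ∀ S : Subgroup G, A ≤ S → Group.IsSolvable S → ∀ a ∈ A, ∀ s ∈ S, a * s = s * a) : A ≤ Subgroup.center G :=
  main (Nat.card G) G rfl A hA hc

end Cfsg.Agent.S4097
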