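import Cfsg.Statements.S4107
import Cfsg.Agent.Lib.Helper1_Cores

set_option autoImplicit false
open Cfsg

namespace Cfsg.Agent.S4107

open Cfsg.Agent.Lib.Helper1_Cores in
/-- If a normal `p`-subgroup is not contained in `N`, then `N` is a `p`-group. -/
theorem isPGroup_of_not_le {G : Type*} [Group G] (N : Subgroup G)
    (heq : ∀ x : G, x ∉ N → ∀ n ∈ N, orderOf (x * n) = orderOf x)
    {p : ℕ} (P0 : Subgroup G) [P0.Normal] (hP0 : IsPGroup p P0) (hle : ¬ P0 ≤ N) :
    IsPGroup p N := by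
  obtain ⟨x, hxP, hxN⟩ := SetLike.not_le_iff_exists.mp hle
  obtain ⟨k, hk⟩ := hP0 ⟨x, hxP⟩
  have hk' : x ^ (p ^ k) = 1 := by simpa using congrArg Subtype.val hk
  intro ⟨n, hn⟩
  have h1 : (x * n) ^ (p ^ k) = 1 := by
    rw [← orderOf_dvd_iff_pow_eq_one, heq x hxN n hn, orderOf_dvd_iff_pow_eq_one]
    exact hk'
  have h2 : n ^ (p ^ k) ∈ P0 := by
    rw [← QuotientGroup.eq_one_iff, QuotientGroup.mk_pow]
    have h3 : ((x * n : G) : G ⧸ P0) = (n : G ⧸ P0) := by
      rw [QuotientGroup.mk_mul, (QuotientGroup.eq_one_iff x).mpr hxP, one_mul]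
    rw [← h3, ← QuotientGroup.mk_pow, h1, QuotientGroup.mk_one]
  obtain ⟨j, hj⟩ := hP0 ⟨n ^ (p ^ k), h2⟩
  have hj' : (n ^ (p ^ k)) ^ (p ^ j) = 1 := by simpa using congrArg Subtype.val hj
  refine ⟨k + j, Subtype.ext ?_⟩
  rw [pow_add, pow_mul]
  simpa using hj'

/-- Let G be a finite group and N a proper non-trivial normal subgroup such that for every x outside N all elements of the coset xN have the same order as x. Then N ≤ F(G) or F(G) ≤ N, where F(G) is the Fitting subgroup; and if N is properly contained in F(G) then F(G) has prime-power order. -/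
theorem result {G : Type*} [Group G] [Finite G] (N : Subgroup G) [N.Normal] (hN1 : N ≠ ⊥) (hN2 : N ≠ ⊤)
    (heq : ∀ x : G, x ∉ N → ∀ n ∈ N, orderOf (x * n) = orderOf x) :
    (N ≤ Cfsg.fittingSubgroup G ∨ Cfsg.fittingSubgroup G ≤ N) ∧
    (N < Cfsg.fittingSubgroup G → IsPrimePow (Nat.card (Cfsg.fittingSubgroup G))) := by
  have hF := Cfsg.Agent.Lib.Helper1_Cores.fittingSubgroup_eq_iSup_pCore (G := G)
  -- if `F ≰ N` then some `p`-core is not in `N`, so `N` is a `p`-group
  have key : ¬ Cfsg.fittingSubgroup G ≤ N → ∃ p : Nat.Primes, ¬ Cfsg.pCore (p : ℕ) G ≤ N ∧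
      IsPGroup (p : ℕ) N := by
    intro h
    rw [hF] at h
    have : ∃ p : Nat.Primes, ¬ Cfsg.pCore (p : ℕ) G ≤ N := by
      by_contra hcon
      push Not at hcon
      exact h (iSup_le hcon)
    obtain ⟨p, hp⟩ := this
    have : Fact (p : ℕ).Prime := ⟨p.2⟩
    exact ⟨p, hp, isPGroup_of_not_le N heq (Cfsg.pCore (p : ℕ) G)
      (Cfsg.Agent.Lib.Helper1_Cores.pCore_isPGroup _) hp⟩
  constructor
  · by_contra hcon
    push Not at hcon
    obtain ⟨p, hp, hNp⟩ := key hcon.2
    have : Fact (p : ℕ).Prime := ⟨p.2⟩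
    exact hcon.1 ((Cfsg.Agent.Lib.Helper1_Cores.le_pCore inferInstance hNp).trans
      (Cfsg.Agent.Lib.Helper1_Cores.pCore_le_fittingSubgroup _))
  · intro hlt
    obtain ⟨p, hp, hNp⟩ := key (not_le_of_gt hlt)
    have : Fact (p : ℕ).Prime := ⟨p.2⟩
    -- all other cores are trivial
    have hq : ∀ q : Nat.Primes, Cfsg.pCore (q : ℕ) G ≤ Cfsg.pCore (p : ℕ) G := by
      intro q
      have : Fact (q : ℕ).Prime := ⟨q.2⟩
      by_cases hqp : q = p
      · rw [hqp]
      · have hqN : Cfsg.pCore (q : ℕ) G ≤ N := by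
          by_contra hqN
          have hNq := isPGroup_of_not_le N heq (Cfsg.pCore (q : ℕ) G)
            (Cfsg.Agent.Lib.Helper1_Cores.pCore_isPGroup _) hqN
          apply hN1
          rw [Subgroup.eq_bot_iff_forall]
          intro n hn
          obtain ⟨a, ha⟩ := hNp ⟨n, hn⟩
          obtain ⟨b, hb⟩ := hNq ⟨n, hn⟩
          have ha' : n ^ ((p : ℕ) ^ a) = 1 := by simpa using congrArg Subtype.val ha
          have hb' : n ^ ((q : ℕ) ^ b) = 1 := by simpa using congrArg Subtype.val hb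
          have hcop : ((p : ℕ) ^ a).Coprime ((q : ℕ) ^ b) :=
            Nat.Coprime.pow _ _ ((Nat.coprime_primes p.2 q.2).mpr
              (fun h => hqp (Subtype.ext h.symm)))
          have := Nat.eq_one_of_dvd_coprimes hcop (orderOf_dvd_of_pow_eq_one ha')
            (orderOf_dvd_of_pow_eq_one hb')
          exact orderOf_eq_one_iff.mp this
        have : Cfsg.pCore (q : ℕ) G = ⊥ := by
          rw [Subgroup.eq_bot_iff_forall]
          intro n hn
          obtain ⟨a, ha⟩ := hNp ⟨n, hqN hn⟩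
          obtain ⟨b, hb⟩ := Cfsg.Agent.Lib.Helper1_Cores.pCore_isPGroup (G := G) (q : ℕ) ⟨n, hn⟩
          have ha' : n ^ ((p : ℕ) ^ a) = 1 := by simpa using congrArg Subtype.val ha
          have hb' : n ^ ((q : ℕ) ^ b) = 1 := by simpa using congrArg Subtype.val hb
          have hcop : ((p : ℕ) ^ a).Coprime ((q : ℕ) ^ b) :=
            Nat.Coprime.pow _ _ ((Nat.coprime_primes p.2 q.2).mpr
              (fun h => hqp (Subtype.ext h.symm)))
          have := Nat.eq_one_of_dvd_coprimes hcop (orderOf_dvd_of_pow_eq_one ha')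
            (orderOf_dvd_of_pow_eq_one hb')
          exact orderOf_eq_one_iff.mp this
        rw [this]; exact bot_le
    have hFp : Cfsg.fittingSubgroup G = Cfsg.pCore (p : ℕ) G := by
      apply le_antisymm
      · rw [hF]; exact iSup_le hq
      · exact Cfsg.Agent.Lib.Helper1_Cores.pCore_le_fittingSubgroup _
    have hpg : IsPGroup (p : ℕ) (Cfsg.fittingSubgroup G) := by
      rw [hFp]; exact Cfsg.Agent.Lib.Helper1_Cores.pCore_isPGroup _
    obtain ⟨k, hk⟩ := IsPGroup.iff_card.mp hpg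
    have hk0 : k ≠ 0 := by
      rintro rfl
      rw [pow_zero, Subgroup.card_eq_one] at hk
      rw [hk] at hlt
      exact not_lt_bot hlt
    rw [hk]
    exact ⟨p, k, Nat.prime_iff.mp p.2, Nat.pos_of_ne_zero hk0, rfl⟩

end Cfsg.Agent.S4107
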