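import Cfsg.Statements.S4112

set_option autoImplicit false
open Cfsg

namespace Cfsg.Agent.S4112

/-- Bezout for membership of powers. -/
theorem mem_of_pow_mem_of_coprime {G : Type*} [Group G] (N : Subgroup G) (g : G) (a b : ℕ)
    (hab : a.Coprime b) (ha : g ^ a ∈ N) (hb : g ^ b ∈ N) : g ∈ N := by
  have hbez := Nat.gcd_eq_gcd_ab a b
  rw [hab] at hbez
  have : g = (g ^ a) ^ (Nat.gcdA a b) * (g ^ b) ^ (Nat.gcdB a b) := by
    calc g = g ^ (1 : ℤ) := (zpow_one g).symm
      _ = g ^ ((a : ℤ) * Nat.gcdA a b + (b : ℤ) * Nat.gcdB a b) := by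
          rw [← hbez]; norm_num
      _ = (g ^ a) ^ (Nat.gcdA a b) * (g ^ b) ^ (Nat.gcdB a b) := by
          rw [zpow_add, zpow_mul, zpow_mul, zpow_natCast, zpow_natCast]
  rw [this]
  exact N.mul_mem (N.zpow_mem ha _) (N.zpow_mem hb _)

/-- If the centralizers of the non-identity elements of the normal subgroup `M` lie in `N`, then
every Sylow `r`-subgroup, for `r` dividing `|M|`, lies in `N`. -/
theorem sylow_le_of_centralizers {G : Type*} [Group G] [Finite G] (N M : Subgroup G) [M.Normal]
    (hC : ∀ x ∈ M, x ≠ 1 → Subgroup.centralizer ({x} : Set G) ≤ N)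
    (r : ℕ) [Fact r.Prime] (hr : r ∣ Nat.card M) (R : Sylow r G) : (R : Subgroup G) ≤ N := by
  letI : MulAction (R : Subgroup G) M :=
    MulAction.compHom M ((MulAut.conjNormal (H := M)).comp (R : Subgroup G).subtype)
  have hsmul : ∀ (u : (R : Subgroup G)) (m : M), ((u • m : M) : G) = (u : G) * m * (u : G)⁻¹ :=
    fun u m => rfl
  have h1 : (1 : M) ∈ MulAction.fixedPoints (R : Subgroup G) M := by
    intro u
    apply Subtype.ext
    rw [hsmul]
    simp
  obtain ⟨m, hm, hne⟩ := R.isPGroup'.exists_fixed_point_of_prime_dvd_card_of_fixed_point M hr h1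
  have hm1 : (m : G) ≠ 1 := by
    intro h
    apply hne
    apply Subtype.ext
    exact h.symm
  refine le_trans ?_ (hC (m : G) m.2 hm1)
  intro u hu
  rw [Subgroup.mem_centralizer_singleton_iff]
  have := congrArg Subtype.val (hm ⟨u, hu⟩)
  rw [hsmul] at this
  calc u * (m : G) = (u * (m : G) * u⁻¹) * u := by group
    _ = (m : G) * u := by rw [this]

theorem not_dvd_index_of_centralizers {G : Type*} [Group G] [Finite G] (N M : Subgroup G)
    [M.Normal] (hC : ∀ x ∈ M, x ≠ 1 → Subgroup.centralizer ({x} : Set G) ≤ N)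
    (r : ℕ) (hrp : r.Prime) (hr : r ∣ Nat.card M) : ¬ r ∣ N.index := by
  haveI : Fact r.Prime := ⟨hrp⟩
  have R : Sylow r G := default
  have hRN := sylow_le_of_centralizers N M hC r hr R
  intro hdvd
  exact R.not_dvd_index (hdvd.trans (Subgroup.index_dvd_of_le hRN))

/-- A normal subgroup whose order is divisible by `p` and whose index is not has a proper
supplement. -/
theorem exists_proper_supplement {H' : Type*} [Group H'] [Finite H'] (N' : Subgroup H')
    [N'.Normal] (p : ℕ) [Fact p.Prime] (hp1 : p ∣ Nat.card N') (hp2 : ¬ p ∣ N'.index) :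
    ∃ Q : Subgroup H', Q ≠ ⊤ ∧ Q ⊔ N' = ⊤ := by
  have P' : Sylow p N' := default
  have hF := Sylow.normalizer_sup_eq_top P'
  by_cases hn : Subgroup.normalizer (((P' : Subgroup N').map N'.subtype : Subgroup H') : Set H') = ⊤
  · haveI : ((P' : Subgroup N').map N'.subtype).Normal := Subgroup.normalizer_eq_top_iff.mp hn
    have hcard : Nat.card ((P' : Subgroup N').map N'.subtype) = Nat.card (P' : Subgroup N') :=
      Subgroup.card_map_of_injective N'.subtype_injective
    have hidx : ((P' : Subgroup N').map N'.subtype).index = (P' : Subgroup N').index * N'.index :=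
      Subgroup.index_map_subtype _
    have hpP : ¬ p ∣ (P' : Subgroup N').index := P'.not_dvd_index
    have hpidx : ¬ p ∣ ((P' : Subgroup N').map N'.subtype).index := by
      rw [hidx]
      intro h
      rcases (Nat.Prime.dvd_mul Fact.out).mp h with h | h
      · exact hpP h
      · exact hp2 h
    have hcop : Nat.Coprime (Nat.card ((P' : Subgroup N').map N'.subtype))
        ((P' : Subgroup N').map N'.subtype).index := by
      rw [hcard]
      obtain ⟨k, hk⟩ := IsPGroup.iff_card.mp P'.isPGroup'
      rw [hk]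
      exact Nat.Coprime.pow_left k ((Nat.Prime.coprime_iff_not_dvd Fact.out).mpr hpidx)
    obtain ⟨Q, hQ⟩ := Subgroup.exists_right_complement'_of_coprime hcop
    refine ⟨Q, ?_, ?_⟩
    · rintro rfl
      have hbot := Subgroup.isComplement'_top_right.mp hQ
      rw [(Subgroup.map_eq_bot_iff_of_injective _ N'.subtype_injective)] at hbot
      exact P'.ne_bot_of_dvd_card hp1 hbot
    · have h1 := hQ.sup_eq_top
      have h2 : (P' : Subgroup N').map N'.subtype ≤ N' := Subgroup.map_subtype_le _
      rw [eq_top_iff, ← h1]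
      exact sup_le (h2.trans le_sup_right) le_sup_left
  · exact ⟨_, hn, hF⟩

theorem result {G : Type*} [Group G] [Finite G] (N M : Subgroup G) [N.Normal] [M.Normal] (hMN : M ≤ N) (hM1 : M ≠ ⊥) (hN2 : N ≠ ⊤)
    (hcam : ∀ g : G, g ∉ N → ∀ m ∈ M, ∃ x : G, x * g * x⁻¹ = g * m) :
    ((∀ x ∈ M, x ≠ 1 → Subgroup.centralizer ({x} : Set G) ≤ N) ↔ N.index.Coprime (Nat.card M)) ∧
    ((∀ x ∈ M, x ≠ 1 → Subgroup.centralizer ({x} : Set G) ≤ N) → ∃ H : Subgroup G, H ⊔ N = ⊤ ∧ H ⊓ M = ⊥) := by
  have hNn : N.Normal := inferInstance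
  -- (1) → (2)
  have h12 : (∀ x ∈ M, x ≠ 1 → Subgroup.centralizer ({x} : Set G) ≤ N) →
      N.index.Coprime (Nat.card M) := by
    intro hC
    apply Nat.coprime_of_dvd
    intro r hr h1 h2
    exact not_dvd_index_of_centralizers N M hC r hr h2 h1
  -- (2) → (1)
  have h21 : N.index.Coprime (Nat.card M) →
      (∀ x ∈ M, x ≠ 1 → Subgroup.centralizer ({x} : Set G) ≤ N) := by
    intro hcop x hx hx1
    have hord1 : orderOf x ≠ 1 := fun h => hx1 (orderOf_eq_one_iff.mp h)
    have hord0 : orderOf x ≠ 0 := (orderOf_pos x).ne'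
    set r := (orderOf x).minFac with hr
    have hrp : r.Prime := Nat.minFac_prime hord1
    have hrd : r ∣ orderOf x := Nat.minFac_dvd _
    set x' := x ^ (orderOf x / r) with hx'
    have hx'ord : orderOf x' = r := orderOf_pow_orderOf_div hord0 hrd
    have hx'M : x' ∈ M := M.pow_mem hx _
    have hrM : r ∣ Nat.card M := by
      rw [← hx'ord]
      have := orderOf_dvd_natCard (⟨x', hx'M⟩ : M)
      rwa [Subgroup.orderOf_mk] at this
    have hrcop : r.Coprime N.index := by
      rw [Nat.Prime.coprime_iff_not_dvd hrp]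
      intro h
      have := Nat.dvd_gcd h hrM
      rw [hcop] at this
      exact hrp.one_lt.ne' (Nat.dvd_one.mp this)
    -- strong induction on the order of g
    have key : ∀ n : ℕ, ∀ g : G, orderOf g = n → g * x' = x' * g → g ∈ N := by
      intro n
      induction n using Nat.strong_induction_on with
      | _ n ih =>
        intro g hgn hgx
        by_contra hgN
        obtain ⟨a, ha⟩ := hcam g hgN x' hx'M
        have hord : orderOf (g * x') = n := by
          rw [← ha, ← hgn]
          have := MulEquiv.orderOf_eq (MulAut.conj a) g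
          simpa [MulAut.conj_apply] using this
        have hpow : x' ^ n = 1 := by
          have h1 : (g * x') ^ n = 1 := by rw [← hord]; exact pow_orderOf_eq_one _
          rw [(show Commute g x' from hgx).mul_pow, ← hgn, pow_orderOf_eq_one, one_mul, hgn] at h1
          exact h1
        have hrn : r ∣ n := by
          rw [← hx'ord]
          exact orderOf_dvd_of_pow_eq_one hpow
        have hn0 : n ≠ 0 := by
          rw [← hgn]; exact (orderOf_pos g).ne'
        have hlt : n / r < n := Nat.div_lt_self (Nat.pos_of_ne_zero hn0) hrp.one_lt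
        have hordr : orderOf (g ^ r) = n / r := by
          rw [← hgn]
          exact orderOf_pow_of_dvd hrp.ne_zero (hgn ▸ hrn)
        have hcomm : g ^ r * x' = x' * g ^ r := ((show Commute g x' from hgx).pow_left r).eq
        have hgr : g ^ r ∈ N := ih (n / r) hlt (g ^ r) hordr hcomm
        have hgi : g ^ N.index ∈ N := N.pow_index_mem g
        exact hgN (mem_of_pow_mem_of_coprime N g r N.index hrcop hgr hgi)
    intro g hg
    rw [Subgroup.mem_centralizer_singleton_iff] at hg
    apply key (orderOf g) g rfl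
    exact ((show Commute g x from hg).pow_right _).eq
  -- (2) → (3)
  have h23 : N.index.Coprime (Nat.card M) → ∃ H : Subgroup G, H ⊔ N = ⊤ ∧ H ⊓ M = ⊥ := by
    intro hcop
    obtain ⟨H, hHN, hHmin⟩ := Set.exists_min_image {H : Subgroup G | H ⊔ N = ⊤}
      (fun H => Nat.card H) (Set.toFinite _) ⟨⊤, top_sup_eq _⟩
    refine ⟨H, hHN, ?_⟩
    by_contra hK
    have hK1 : Nat.card (H ⊓ M : Subgroup G) ≠ 1 := fun h => hK (Subgroup.card_eq_one.mp h)
    obtain ⟨p, hp, hpK⟩ := Nat.exists_prime_and_dvd hK1
    haveI : Fact p.Prime := ⟨hp⟩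
    have hpM : p ∣ Nat.card M := hpK.trans (Subgroup.card_dvd_of_le inf_le_right)
    have hpidx : ¬ p ∣ N.index := by
      intro h
      have := Nat.dvd_gcd h hpM
      rw [hcop] at this
      exact hp.one_lt.ne' (Nat.dvd_one.mp this)
    have hpN' : p ∣ Nat.card (N.subgroupOf H) := by
      have h1 : Nat.card (N.subgroupOf H) = Nat.card (N ⊓ H : Subgroup G) := by
        rw [← Subgroup.inf_subgroupOf_right N H]
        exact Nat.card_congr (Subgroup.subgroupOfEquivOfLe inf_le_right).toEquiv
      rw [h1]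
      refine hpK.trans (Subgroup.card_dvd_of_le ?_)
      exact le_inf (inf_le_right.trans hMN) inf_le_left
    have hidx' : (N.subgroupOf H).index = N.index := by
      change N.relIndex H = N.index
      rw [← Subgroup.relIndex_sup_right, hHN, Subgroup.relIndex_top_right]
    haveI : (N.subgroupOf H).Normal := Subgroup.normal_subgroupOf
    obtain ⟨Q, hQ1, hQ2⟩ := exists_proper_supplement (N.subgroupOf H) p hpN' (hidx' ▸ hpidx)
    have hQle : Q.map H.subtype ≤ H := Subgroup.map_subtype_le _
    have hsup : Q.map H.subtype ⊔ N = ⊤ := by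
      have h1 : (Q ⊔ N.subgroupOf H).map H.subtype = H := by
        rw [hQ2, ← MonoidHom.range_eq_map, Subgroup.range_subtype]
      rw [Subgroup.map_sup, Subgroup.subgroupOf_map_subtype] at h1
      rw [eq_top_iff, ← hHN]
      refine sup_le ?_ le_sup_right
      calc H = Q.map H.subtype ⊔ N ⊓ H := h1.symm
        _ ≤ Q.map H.subtype ⊔ N := sup_le le_sup_left (inf_le_left.trans le_sup_right)
    have hcard := hHmin _ hsup
    have heq : Q.map H.subtype = H := Subgroup.eq_of_le_of_card_ge hQle hcard
    apply hQ1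
    apply Subgroup.map_injective H.subtype_injective
    rw [heq, ← MonoidHom.range_eq_map, Subgroup.range_subtype]
  exact ⟨⟨h12, h21⟩, fun hC => h23 (h12 hC)⟩

end Cfsg.Agent.S4112
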