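import Cfsg.Statements.S4113

set_option autoImplicit false
open Cfsg

namespace Cfsg.Agent.S4113

theorem mem_map_conj {G : Type*} [Group G] (H : Subgroup G) (g y : G) :
    y ∈ H.map (MulAut.conj g).toMonoidHom ↔ ∃ z ∈ H, g * z * g⁻¹ = y := by
  rw [Subgroup.mem_map]
  rfl

theorem result {G : Type*} [Group G] [Finite G] (N M : Subgroup G) [N.Normal] [M.Normal] (hMN : M ≤ N) (hM1 : M ≠ ⊥) (hN2 : N ≠ ⊤)
    (H : Subgroup G) (hHM : H ⊔ M = ⊤) (hHM' : H ⊓ M = ⊥) :
    (∀ x ∈ M, x ≠ 1 → Subgroup.centralizer ({x} : Set G) ≤ N) ↔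
      (H ≠ ⊥ ∧ H ≠ ⊤ ∧ H ⊓ N < H ∧ ∀ g : G, g ∉ H → H ⊓ H.map (MulAut.conj g).toMonoidHom ≤ N) := by
  have hdecomp : ∀ g : G, ∃ h ∈ H, ∃ m ∈ M, h * m = g := by
    intro g
    have hg : g ∈ ((H ⊔ M : Subgroup G) : Set G) := by rw [hHM]; exact Set.mem_univ g
    rw [Subgroup.mul_normal] at hg
    exact Set.mem_mul.mp hg
  have hHMe : ∀ x : G, x ∈ H → x ∈ M → x = 1 := by
    intro x hxH hxM
    have : x ∈ H ⊓ M := ⟨hxH, hxM⟩
    rw [hHM'] at this
    exact Subgroup.mem_bot.mp this
  have hMn : M.Normal := inferInstance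
  have hNn : N.Normal := inferInstance
  constructor
  · intro hC
    refine ⟨?_, ?_, ?_, ?_⟩
    · rintro rfl
      rw [bot_sup_eq] at hHM
      apply hN2
      rw [eq_top_iff, ← hHM]
      exact hMN
    · rintro rfl
      rw [top_inf_eq] at hHM'
      exact hM1 hHM'
    · refine lt_of_le_of_ne inf_le_left ?_
      intro heq
      have hHN : H ≤ N := by
        rw [← heq]
        exact inf_le_right
      apply hN2
      rw [eq_top_iff, ← hHM]
      exact sup_le hHN hMN
    · intro g hg y hy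
      obtain ⟨hy1, hy2⟩ := hy
      replace hy1 : y ∈ H := hy1
      replace hy2 : y ∈ H.map (MulAut.conj g).toMonoidHom := hy2
      rw [mem_map_conj] at hy2
      obtain ⟨z, hz, rfl⟩ := hy2
      obtain ⟨h, hh, m, hm, rfl⟩ := hdecomp g
      have hm1 : m ≠ 1 := by
        rintro rfl
        apply hg
        simpa using hh
      -- y₁ = h⁻¹ y h = m z m⁻¹ ∈ H
      have hy₁ : m * z * m⁻¹ ∈ H := by
        have := H.mul_mem (H.mul_mem (H.inv_mem hh) hy1) hh
        convert this using 1
        group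
      have hcM : m * z * m⁻¹ * z⁻¹ ∈ M := by
        have h1 : z * m⁻¹ * z⁻¹ ∈ M := hMn.conj_mem _ (M.inv_mem hm) z
        have := M.mul_mem hm h1
        convert this using 1
        group
      have hc1 : m * z * m⁻¹ * z⁻¹ = 1 := hHMe _ (H.mul_mem hy₁ (H.inv_mem hz)) hcM
      have hzm : z * m = m * z := by
        have h2 : m * z * m⁻¹ = z := by
          rw [mul_inv_eq_one] at hc1
          exact hc1
        calc z * m = (m * z * m⁻¹) * m := by rw [h2]
          _ = m * z := by group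
      have hzN : z ∈ N := hC m hm hm1 (Subgroup.mem_centralizer_singleton_iff.mpr hzm)
      exact hNn.conj_mem z hzN (h * m)
  · rintro ⟨-, -, -, hFW⟩
    -- step 1
    have step1 : ∀ m ∈ M, m ≠ 1 → ∀ y ∈ H, y * m = m * y → y ∈ N := by
      intro m hm hm1 y hy hcomm
      have hmH : m ∉ H := fun hmH => hm1 (hHMe m hmH hm)
      apply hFW m hmH
      refine ⟨hy, ?_⟩
      change y ∈ H.map (MulAut.conj m).toMonoidHom
      rw [mem_map_conj]
      refine ⟨y, hy, ?_⟩
      rw [← hcomm]
      group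
    intro x hx hx1 g hg
    rw [Subgroup.mem_centralizer_singleton_iff] at hg
    by_contra hgN
    obtain ⟨h, hh, m, hm, rfl⟩ := hdecomp g
    have hhN : h ∉ N := by
      intro hhN
      exact hgN (N.mul_mem hhN (hMN hm))
    let φ : M → M := fun a => ⟨h⁻¹ * (a : G) * h * (a : G)⁻¹, by
      have h1 : h⁻¹ * (a : G) * h ∈ M := by
        have := hMn.conj_mem _ a.2 h⁻¹
        simpa using this
      exact M.mul_mem h1 (M.inv_mem a.2)⟩
    have hφinj : Function.Injective φ := by
      intro a b hab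
      have h1 : h⁻¹ * (a : G) * h * (a : G)⁻¹ = h⁻¹ * (b : G) * h * (b : G)⁻¹ :=
        congrArg Subtype.val hab
      have h2 : h * ((b : G)⁻¹ * (a : G)) = ((b : G)⁻¹ * (a : G)) * h := by
        have h3 : (a : G) * h * (a : G)⁻¹ = (b : G) * h * (b : G)⁻¹ := by
          have := congrArg (fun t => h * t) h1
          simpa [mul_assoc] using this
        calc h * ((b : G)⁻¹ * (a : G))
            = (b : G)⁻¹ * ((b : G) * h * (b : G)⁻¹) * (a : G) := by group
          _ = (b : G)⁻¹ * ((a : G) * h * (a : G)⁻¹) * (a : G) := by rw [h3]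
          _ = ((b : G)⁻¹ * (a : G)) * h := by group
      by_contra hne
      have hc1 : (b : G)⁻¹ * (a : G) ≠ 1 := by
        intro hc
        apply hne
        apply Subtype.ext
        calc (a : G) = (b : G) * ((b : G)⁻¹ * (a : G)) := by group
          _ = (b : G) := by rw [hc, mul_one]
      exact hhN (step1 _ (M.mul_mem (M.inv_mem b.2) a.2) hc1 h hh h2)
    have hφsurj : Function.Surjective φ := Finite.injective_iff_surjective.mp hφinj
    obtain ⟨a, ha⟩ := hφsurj ⟨m, hm⟩
    have ha' : h⁻¹ * (a : G) * h * (a : G)⁻¹ = m := congrArg Subtype.val ha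
    have hg' : h * m = (a : G) * h * (a : G)⁻¹ := by
      rw [← ha']
      group
    -- h commutes with a⁻¹ x a
    have hx' : (a : G)⁻¹ * x * (a : G) ∈ M := by
      have := hMn.conj_mem x hx (a : G)⁻¹
      simpa using this
    have hx'1 : (a : G)⁻¹ * x * (a : G) ≠ 1 := by
      intro hc
      apply hx1
      calc x = (a : G) * ((a : G)⁻¹ * x * (a : G)) * (a : G)⁻¹ := by group
        _ = 1 := by rw [hc]; group
    have hcomm : h * ((a : G)⁻¹ * x * (a : G)) = ((a : G)⁻¹ * x * (a : G)) * h := by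
      rw [hg'] at hg
      calc h * ((a : G)⁻¹ * x * (a : G))
          = (a : G)⁻¹ * (((a : G) * h * (a : G)⁻¹) * x) * (a : G) := by group
        _ = (a : G)⁻¹ * (x * ((a : G) * h * (a : G)⁻¹)) * (a : G) := by rw [hg]
        _ = ((a : G)⁻¹ * x * (a : G)) * h := by group
    exact hhN (step1 _ hx' hx'1 h hh hcomm)

end Cfsg.Agent.S4113
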