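-- Statement S4126: p-power class sizes for elements of order p (and 4) ⇒ normal p-complement.
import Cfsg.Statements.S4126
import Cfsg.Agent.Lib.Helper35_PGroupAut
import Cfsg.Agent.S0072

set_option autoImplicit false
open Cfsg

namespace Cfsg.Agent.S4126

open Cfsg.Agent.Lib.Helper35_FrobeniusNPC Cfsg.Agent.Lib.Helper35_PGroupAut Subgroup

/-- Let G be a finite group and p a prime. Suppose every element of order p, and when p = 2 also every element of order 4, has a conjugacy class of p-power size. Then G has a normal p-complement. -/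
theorem result {G : Type*} [Group G] [Finite G] (p : ℕ) [Fact p.Prime]
    (h : ∀ x : G, (orderOf x = p ∨ (p = 2 ∧ orderOf x = 4)) → ∃ a : ℕ, (Subgroup.centralizer ({x} : Set G)).index = p ^ a) :
    Cfsg.HasNormalPComplement p G := by
  have hp : p.Prime := Fact.out
  rw [Cfsg.Agent.S0072.hasNPC_iff]
  apply hasNPC_of_frobHyp
  obtain ⟨P⟩ : Nonempty (Sylow p G) := inferInstance
  apply frobHyp_of_le_sylow P
  intro Q hQP g hgN hgo
  -- the exponent `e`
  obtain ⟨e, hpe, hpe2, hcond⟩ : ∃ e : ℕ, p ∣ e ∧ p ∣ e.choose 2 ∧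
      ∀ x : G, x ^ e = 1 → x ≠ 1 → (orderOf x = p ∨ (p = 2 ∧ orderOf x = 4)) := by
    by_cases hp2 : p = 2
    · subst hp2
      refine ⟨4, by norm_num, by decide, fun x hx hx1 => ?_⟩
      have hd : orderOf x ∣ 2 ^ 2 := orderOf_dvd_of_pow_eq_one (by norm_num; exact hx)
      obtain ⟨j, hj, hoj⟩ := (Nat.dvd_prime_pow Nat.prime_two).mp hd
      have hj0 : j ≠ 0 := by
        intro h0
        rw [h0, pow_zero, orderOf_eq_one_iff] at hoj
        exact hx1 hoj
      interval_cases j
      · exact absurd rfl hj0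
      · left; rw [hoj]; norm_num
      · right; exact ⟨rfl, by rw [hoj]; norm_num⟩
    · have h2 : 2 < p := lt_of_le_of_ne hp.two_le (Ne.symm hp2)
      exact ⟨p, dvd_rfl, hp.dvd_choose_self (by norm_num) h2,
        fun x hx hx1 => Or.inl (orderOf_eq_prime hx hx1)⟩
  have key : ∀ (n : ℕ) (Q : Subgroup G), Q ≤ (P : Subgroup G) → Nat.card ↥Q = n →
      g ∈ normalizer (Q : Set G) → g ∈ centralizer (Q : Set G) := by
    intro n
    induction n using Nat.strong_induction_on with
    | _ n ih =>
    intro Q hQP hcard hgN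
    have hQ : IsPGroup p Q := P.2.to_le hQP
    rcases mem_centralizer_or_exponent hpe hpe2 hgo Q hQ hgN
      (fun R hRQ hRne hNR =>
        ih _ (hcard ▸ card_lt_of_le_of_ne hRQ hRne) R (hRQ.trans hQP) rfl hNR) with hc | hexp
    · exact hc
    · apply mem_centralizer_of_control P hQP hgN hgo
      intro x hx
      by_cases hx1 : x = 1
      · exact ⟨1, one_mem _, by rw [hx1]; group⟩
      · obtain ⟨a, ha⟩ := h x (hcond x (hexp x hx) hx1)
        exact exists_sylow_conj_of_index_pow P ha g
  exact key _ Q hQP rfl hgN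

end Cfsg.Agent.S4126
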