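import Cfsg.Statements.S4127
import Cfsg.Agent.Lib.Helper35_FrobeniusNPC
import Cfsg.Agent.S4387

set_option autoImplicit false
open Cfsg

namespace Cfsg.Agent.S4127

open scoped Pointwise
open Cfsg.Agent.Lib.Helper35_FrobeniusNPC

section
variable {X : Type*} [Group X] [Finite X] {p : ℕ} [hp : Fact p.Prime]

omit [Finite X] in
/-- decomposition of an element of finite order into commuting `p`- and `p'`-parts -/
theorem exists_decomp (g : X) (hg : IsOfFinOrder g) : ∃ u y : X, g = u * y ∧ u * y = y * u ∧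
    (∃ k : ℕ, u ^ (p ^ k) = 1) ∧ (orderOf y).Coprime p := by
  have hpp : p.Prime := hp.out
  have hn : orderOf g ≠ 0 := (orderOf_pos_iff.mpr hg).ne'
  obtain ⟨k, m, hm, hnm⟩ := Nat.exists_eq_pow_mul_and_not_dvd hn p hpp.ne_one
  have hcop : Nat.Coprime (p ^ k) m := Nat.Coprime.pow_left _ ((Nat.Prime.coprime_iff_not_dvd hpp).mpr hm)
  -- Bezout
  have hb : (Nat.gcd (p ^ k) m : ℤ) = (p ^ k : ℕ) * Nat.gcdA (p ^ k) m + m * Nat.gcdB (p ^ k) m :=
    Nat.gcd_eq_gcd_ab _ _
  rw [hcop] at hb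
  set s := Nat.gcdA (p ^ k) m
  set t := Nat.gcdB (p ^ k) m
  refine ⟨g ^ ((m : ℤ) * t), g ^ (((p ^ k : ℕ) : ℤ) * s), ?_, ?_, ⟨k, ?_⟩, ?_⟩
  · rw [← zpow_add, add_comm, ← hb]; simp
  · rw [← zpow_add, ← zpow_add, add_comm]
  · rw [← zpow_natCast, ← zpow_mul]
    have : (m : ℤ) * t * ((p ^ k : ℕ) : ℤ) = ((orderOf g : ℕ) : ℤ) * t := by
      rw [hnm]; push_cast; ring
    rw [this, zpow_mul, zpow_natCast, pow_orderOf_eq_one, one_zpow]
  · have h1 : (g ^ (((p ^ k : ℕ) : ℤ) * s)) ^ m = 1 := by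
      rw [← zpow_natCast, ← zpow_mul]
      have : ((p ^ k : ℕ) : ℤ) * s * (m : ℤ) = ((orderOf g : ℕ) : ℤ) * s := by
        rw [hnm]; push_cast; ring
      rw [this, zpow_mul, zpow_natCast, pow_orderOf_eq_one, one_zpow]
    have h2 : orderOf (g ^ (((p ^ k : ℕ) : ℤ) * s)) ∣ m := orderOf_dvd_of_pow_eq_one h1
    exact Nat.Coprime.coprime_dvd_left h2 ((Nat.Prime.coprime_iff_not_dvd hpp).mpr hm).symm

/-- a subgroup of `p'`-index contains a Sylow `p`-subgroup -/
theorem exists_sylow_le (D : Subgroup X) (hD : ¬ p ∣ D.index) :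
    ∃ S₁ : Sylow p X, (S₁ : Subgroup X) ≤ D := by
  have hpp : p.Prime := hp.out
  obtain ⟨T⟩ : Nonempty (Sylow p D) := inferInstance
  have hcard : Nat.card ((T : Subgroup D).map D.subtype) = p ^ (Nat.card X).factorization p := by
    rw [Subgroup.card_map_of_injective D.subtype_injective, Sylow.card_eq_multiplicity,
      ← D.card_mul_index, Nat.factorization_mul Nat.card_pos.ne' Subgroup.index_ne_zero_of_finite]
    simp [Nat.factorization_eq_zero_of_not_dvd hD]
  exact ⟨Sylow.ofCard _ hcard, Subgroup.map_subtype_le _⟩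

end



section
variable {X : Type*} [Group X] [Finite X] {p : ℕ} [hp : Fact p.Prime]

omit [Finite X] hp in
theorem mem_smul_sylow (c x : X) (S : Sylow p X) :
    x ∈ ((c • S : Sylow p X) : Subgroup X) ↔ c⁻¹ * x * c ∈ (S : Subgroup X) := by
  rw [Sylow.coe_subgroup_smul, mem_conj_smul]

/-- every element is conjugate into `S · C(S)` -/
theorem exists_conj_mem
    (h : ∀ y : X, (orderOf y).Coprime p → ¬ p ∣ (Subgroup.centralizer ({y} : Set X)).index)
    (S : Sylow p X) (g : X) :
    ∃ z : X, z⁻¹ * g * z ∈ (S : Subgroup X) ⊔ Subgroup.centralizer ((S : Subgroup X) : Set X) := by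
  obtain ⟨u, y, hguy, hcomm, ⟨k, hk⟩, hy⟩ := exists_decomp (p := p) g (isOfFinOrder_of_finite g)
  obtain ⟨S₁, hS₁⟩ := exists_sylow_le _ (h y hy)
  set D := Subgroup.centralizer ({y} : Set X) with hD
  have huD : u ∈ D := by
    rw [hD, Subgroup.mem_centralizer_iff]
    intro z hz
    rw [Set.mem_singleton_iff] at hz
    subst hz
    exact hcomm.symm
  -- move `u` into `S₁` by an element of `D`
  have hup : IsPGroup p (Subgroup.zpowers (⟨u, huD⟩ : D)) := by
    rw [IsPGroup.iff_orderOf]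
    rintro ⟨w, hw⟩
    obtain ⟨j, rfl⟩ := Subgroup.mem_zpowers_iff.mp hw
    have h1 : ((⟨u, huD⟩ : D) ^ j) ^ (p ^ k) = 1 := by
      rw [← zpow_natCast, ← zpow_mul, mul_comm, zpow_mul, zpow_natCast]
      have : (⟨u, huD⟩ : D) ^ (p ^ k) = 1 := Subtype.ext (by simpa using hk)
      rw [this, one_zpow]
    have h2 : orderOf (⟨(⟨u, huD⟩ : D) ^ j, hw⟩ : Subgroup.zpowers (⟨u, huD⟩ : D)) ∣ p ^ k := by
      apply orderOf_dvd_of_pow_eq_one
      exact Subtype.ext h1
    obtain ⟨i, -, hi⟩ := (Nat.dvd_prime_pow hp.out).mp h2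
    exact ⟨i, hi⟩
  obtain ⟨T, hT⟩ := hup.exists_le_sylow
  obtain ⟨d, hd⟩ := MulAction.exists_smul_eq D (S₁.subtype hS₁) T
  have hu1 : (⟨u, huD⟩ : D) ∈ ((d • S₁.subtype hS₁ : Sylow p D) : Subgroup D) := by
    rw [hd]; exact hT (Subgroup.mem_zpowers _)
  rw [mem_smul_sylow, Sylow.coe_subtype, Subgroup.mem_subgroupOf] at hu1
  obtain ⟨c, hc⟩ := MulAction.exists_smul_eq X S S₁
  have hu2 : c⁻¹ * ((d : X)⁻¹ * u * d) * c ∈ (S : Subgroup X) := by
    rw [← mem_smul_sylow, hc]
    simpa using hu1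
  have hdy : (d : X)⁻¹ * y * d = y := by
    have := (Subgroup.mem_centralizer_iff.mp d.2) y rfl
    rw [mul_assoc, this, ← mul_assoc, inv_mul_cancel, one_mul]
  have hy2 : c⁻¹ * y * c ∈ Subgroup.centralizer ((S : Subgroup X) : Set X) := by
    rw [Subgroup.mem_centralizer_iff]
    intro s hs
    have hs1 : c * s * c⁻¹ ∈ (S₁ : Subgroup X) := by
      rw [← hc, mem_smul_sylow]
      have : c⁻¹ * (c * s * c⁻¹) * c = s := by group
      rw [this]; exact hs
    have hs2 := (Subgroup.mem_centralizer_iff.mp (hS₁ hs1)) y rfl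
    -- y * (c s c⁻¹) = (c s c⁻¹) * y
    have e1 : s * (c⁻¹ * y * c) = c⁻¹ * ((c * s * c⁻¹) * y) * c := by group
    have e2 : c⁻¹ * y * c * s = c⁻¹ * (y * (c * s * c⁻¹)) * c := by group
    rw [e1, e2, hs2]
  refine ⟨(d : X) * c, ?_⟩
  have e : ((d : X) * c)⁻¹ * g * ((d : X) * c) =
      (c⁻¹ * ((d : X)⁻¹ * u * d) * c) * (c⁻¹ * ((d : X)⁻¹ * y * d) * c) := by
    rw [hguy]; group
  rw [e, hdy]
  exact Subgroup.mul_mem_sup hu2 hy2

/-- Lemma D: if all `p'`-elements have class size prime to `p`, there is a normal `p`-complement. -/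
theorem hasNPC_of_coprime_class
    (h : ∀ y : X, (orderOf y).Coprime p → ¬ p ∣ (Subgroup.centralizer ({y} : Set X)).index) :
    HasNPC p X := by
  obtain ⟨S⟩ : Nonempty (Sylow p X) := inferInstance
  have hL : (S : Subgroup X) ⊔ Subgroup.centralizer ((S : Subgroup X) : Set X) = ⊤ := by
    by_contra hne
    obtain ⟨g, hg⟩ := Cfsg.Agent.S4387.exists_not_mem_conj _ hne
    obtain ⟨z, hz⟩ := exists_conj_mem h S g
    exact hg z (mem_conj_smul.mpr hz)
  have hSn : (S : Subgroup X).Normal := by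
    rw [← Subgroup.normalizer_eq_top_iff, eq_top_iff, ← hL]
    exact sup_le Subgroup.le_normalizer (Subgroup.centralizer_le_normalizer _)
  apply hasNPC_of_frobHyp
  intro Q hQ g _ hgcop
  obtain ⟨S₁, hS₁⟩ := exists_sylow_le _ (h g hgcop)
  obtain ⟨c, hc⟩ := MulAction.exists_smul_eq X S S₁
  have hS₁S : (S₁ : Subgroup X) = S := by
    rw [← hc, Sylow.smul_eq_of_normal]
  obtain ⟨S₂, hS₂⟩ := hQ.exists_le_sylow
  obtain ⟨c₂, hc₂⟩ := MulAction.exists_smul_eq X S S₂
  have hS₂S : (S₂ : Subgroup X) = S := by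
    rw [← hc₂, Sylow.smul_eq_of_normal]
  rw [Subgroup.mem_centralizer_iff]
  intro q hq
  have hqS : q ∈ (S₁ : Subgroup X) := by rw [hS₁S, ← hS₂S]; exact hS₂ hq
  exact ((Subgroup.mem_centralizer_iff.mp (hS₁ hqS)) g rfl).symm

end




theorem mem_normalizer_of_conj_le {G : Type*} [Group G] [Finite G] (H : Subgroup G) (g : G)
    (h : ∀ y ∈ H, g⁻¹ * y * g ∈ H) : g ∈ Subgroup.normalizer (H : Set G) := by
  have hmap : H.map (MulAut.conj g⁻¹).toMonoidHom = H := by
    apply Subgroup.eq_of_le_of_card_ge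
    · rintro _ ⟨y, hy, rfl⟩
      have := h y hy
      simpa [MulAut.conj_apply] using this
    · rw [Subgroup.card_map_of_injective (MulAut.conj g⁻¹).injective]
  rw [Subgroup.mem_normalizer_iff]
  intro y
  constructor
  · intro hy
    rw [← hmap] at hy
    obtain ⟨y', hy', rfl⟩ := hy
    have : g * (MulAut.conj g⁻¹).toMonoidHom y' * g⁻¹ = y' := by
      simp; group
    rw [this]; exact hy'
  · intro hy
    have := h _ hy
    have e : g⁻¹ * (g * y * g⁻¹) * g = y := by group
    rwa [e] at this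





/-- Let G be a finite group, p a prime and p^a the largest power of p dividing the size of any conjugacy class of G. If some element of p-power order has a conjugacy class of size exactly p^a, then G has a normal p-complement. -/
theorem result {G : Type*} [Group G] [Finite G] (p : ℕ) [Fact p.Prime]
    (a : ℕ) (hmax : ∀ y : G, ¬ p ^ (a + 1) ∣ (Subgroup.centralizer ({y} : Set G)).index)
    (hx : ∃ x : G, (∃ k : ℕ, orderOf x = p ^ k) ∧ (Subgroup.centralizer ({x} : Set G)).index = p ^ a) :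
    Cfsg.HasNormalPComplement p G := by
  classical
  have hpp : p.Prime := Fact.out
  obtain ⟨x, ⟨k, hk⟩, hxa⟩ := hx
  set C := Subgroup.centralizer ({x} : Set G) with hC
  have hmemC : ∀ g : G, g ∈ C ↔ x * g = g * x := by
    intro g
    rw [hC, Subgroup.mem_centralizer_iff]
    constructor
    · intro h; exact h x rfl
    · intro h z hz
      rw [Set.mem_singleton_iff] at hz
      rw [hz]; exact h
  have hxC : x ∈ C := (hmemC x).mpr rfl
  -- Step A
  have hA : ∀ y : C, (orderOf y).Coprime p →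
      ¬ p ∣ (Subgroup.centralizer ({y} : Set C)).index := by
    intro y hy hdvd
    have hyx : Commute x (y : G) := (hmemC y).mp y.2
    have hordy : orderOf (y : G) = orderOf y := Subgroup.orderOf_coe y
    obtain ⟨t, ht⟩ := exists_pow_eq_self_of_coprime (x := x) (n := orderOf (y : G))
      (by rw [hk, hordy]; exact Nat.Coprime.pow_right _ hy)
    have hxpow : (x * (y : G)) ^ (orderOf (y : G) * t) = x := by
      rw [hyx.mul_pow, pow_mul, ht, pow_mul, pow_orderOf_eq_one, one_pow, mul_one]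
    have hcent : Subgroup.centralizer ({x * (y : G)} : Set G) =
        C ⊓ Subgroup.centralizer ({(y : G)} : Set G) := by
      ext g
      rw [Subgroup.mem_inf, hmemC]
      simp only [Subgroup.mem_centralizer_iff, Set.mem_singleton_iff, forall_eq]
      constructor
      · intro hg
        have h0 : Commute (x * (y : G)) g := hg
        have h1 : Commute x g := by
          have := h0.pow_left (orderOf (y : G) * t)
          rwa [hxpow] at this
        refine ⟨h1, ?_⟩
        have h2 : Commute (x⁻¹ * (x * (y : G))) g := h1.inv_left.mul_left h0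
        rwa [inv_mul_cancel_left] at h2
      · rintro ⟨h1, h2⟩
        exact (Commute.mul_left (show Commute x g from h1) (show Commute (y : G) g from h2))
    have hsub : Subgroup.centralizer ({y} : Set C) =
        (Subgroup.centralizer ({(y : G)} : Set G)).subgroupOf C := by
      ext g
      simp only [Subgroup.mem_subgroupOf, Subgroup.mem_centralizer_iff, Set.mem_singleton_iff,
        forall_eq]
      constructor
      · intro h; exact congrArg Subtype.val h
      · intro h; exact Subtype.ext h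
    have hidx : (Subgroup.centralizer ({x * (y : G)} : Set G)).index =
        (Subgroup.centralizer ({y} : Set C)).index * p ^ a := by
      rw [hcent, ← Subgroup.relIndex_mul_index (inf_le_left : C ⊓ _ ≤ C), Subgroup.inf_relIndex_left,
        hxa, hsub]
      rfl
    apply hmax (x * (y : G))
    rw [hidx, pow_succ, mul_comm]
    exact Nat.mul_dvd_mul_right hdvd _
  obtain ⟨H₀, hH₀n, hH₀c, n, hH₀i⟩ := hasNPC_of_coprime_class hA
  set H := H₀.map C.subtype with hH
  have hHcard : (Nat.card H).Coprime p := by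
    rw [hH, Subgroup.card_map_of_injective C.subtype_injective]; exact hH₀c
  have hHidx : H.index = p ^ (n + a) := by
    rw [hH, Subgroup.index_map_subtype, hH₀i, hxa, pow_add]
  have hHC : H ≤ C := Subgroup.map_subtype_le _
  have hU : ∀ y ∈ C, (orderOf y).Coprime p → y ∈ H := by
    intro y hy hcop
    have h1 : (⟨y, hy⟩ : C) ∈ H₀ := by
      apply mem_of_coprime_order H₀ hH₀i
      rw [Subgroup.orderOf_mk]; exact hcop
    exact ⟨⟨y, hy⟩, h1, rfl⟩
  have hordH : ∀ y ∈ H, (orderOf y).Coprime p := by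
    intro y hy
    have h1 : orderOf y ∣ Nat.card H := by
      have := orderOf_dvd_natCard (⟨y, hy⟩ : H)
      rwa [Subgroup.orderOf_mk] at this
    exact Nat.Coprime.coprime_dvd_left h1 hHcard
  -- a Sylow subgroup containing `x`
  have hxp : IsPGroup p (Subgroup.zpowers x) := IsPGroup.of_card (n := k) (by rw [Nat.card_zpowers, hk])
  obtain ⟨P, hP⟩ := hxp.exists_le_sylow
  have hxP : x ∈ (P : Subgroup G) := hP (Subgroup.mem_zpowers x)
  have hcompl : H.IsComplement' (P : Subgroup G) := isComplement'_of_npc hHcard hHidx P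
  -- all conjugates of `x` lie in `P`
  have hconjP : ∀ g : G, g * x * g⁻¹ ∈ (P : Subgroup G) := by
    intro g
    obtain ⟨⟨u, h⟩, huh, -⟩ := hcompl.symm.existsUnique g
    have huh' : (u : G) * (h : G) = g := huh
    have hhx : x * (h : G) = (h : G) * x := (hmemC _).mp (hHC h.2)
    have e : g * x * g⁻¹ = (u : G) * x * (u : G)⁻¹ := by
      rw [← huh', mul_inv_rev, mul_assoc (u : G), ← hhx]
      group
    rw [e]
    exact (P : Subgroup G).mul_mem ((P : Subgroup G).mul_mem u.2 hxP) ((P : Subgroup G).inv_mem u.2)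
  -- `C` normalizes `H`
  have hCN : C ≤ Subgroup.normalizer (H : Set G) := by
    intro c hc
    apply mem_normalizer_of_conj_le
    rintro _ ⟨y₀, hy₀, rfl⟩
    refine ⟨(⟨c, hc⟩ : C)⁻¹ * y₀ * ⟨c, hc⟩, ?_, rfl⟩
    have := hH₀n.conj_mem y₀ hy₀ (⟨c, hc⟩ : C)⁻¹
    simpa using this
  -- Step 6
  have hstep6 : ∀ g : G, g * x * g⁻¹ ∈ Subgroup.normalizer (H : Set G) →
      g ∈ Subgroup.normalizer (H : Set G) := by
    intro g hw
    apply mem_normalizer_of_conj_le
    intro y hy
    set w := g * x * g⁻¹ with hwdef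
    -- the commutator lies in `H ∩ P`
    have hcH : y * w * y⁻¹ * w⁻¹ ∈ H := by
      have h1 : w * y⁻¹ * w⁻¹ ∈ H := (Subgroup.mem_normalizer_iff.mp hw y⁻¹).mp (H.inv_mem hy)
      have e : y * w * y⁻¹ * w⁻¹ = y * (w * y⁻¹ * w⁻¹) := by group
      rw [e]; exact H.mul_mem hy h1
    have hcP : y * w * y⁻¹ * w⁻¹ ∈ (P : Subgroup G) := by
      have h1 : y * w * y⁻¹ ∈ (P : Subgroup G) := by
        have e : y * w * y⁻¹ = (y * g) * x * (y * g)⁻¹ := by rw [hwdef]; group
        rw [e]; exact hconjP _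
      exact (P : Subgroup G).mul_mem h1 ((P : Subgroup G).inv_mem (hconjP g))
    have hc1 : y * w * y⁻¹ * w⁻¹ = 1 := by
      have h1 := hordH _ hcH
      obtain ⟨j, hj⟩ := IsPGroup.iff_orderOf.mp P.2 ⟨_, hcP⟩
      rw [Subgroup.orderOf_mk] at hj
      rw [hj] at h1
      have h2 : orderOf (y * w * y⁻¹ * w⁻¹) = 1 := by
        rw [hj]
        rcases Nat.eq_zero_or_pos j with h0 | hpos
        · rw [h0, pow_zero]
        · exfalso
          have : p ∣ p ^ j := dvd_pow_self p hpos.ne'
          have h3 : (p ^ j).Coprime p := h1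
          have h4 := Nat.Coprime.eq_one_of_dvd h3.symm this
          exact hpp.one_lt.ne' h4
      exact orderOf_eq_one_iff.mp h2
    have hyw : y * w = w * y := by
      have e : y * w = (y * w * y⁻¹ * w⁻¹) * (w * y) := by group
      rw [e, hc1, one_mul]
    -- `g⁻¹ y g` commutes with `x`
    apply hU
    · rw [hmemC]
      have e1 : x * (g⁻¹ * y * g) = g⁻¹ * (w * y) * g := by rw [hwdef]; group
      have e2 : g⁻¹ * y * g * x = g⁻¹ * (y * w) * g := by rw [hwdef]; group
      rw [e1, e2, hyw]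
    · have e : g⁻¹ * y * g = (MulAut.conj g⁻¹) y := by simp
      rw [e, MulEquiv.orderOf_eq]
      exact hordH y hy
  -- Step 7
  have hPN : (P : Subgroup G) ≤ Subgroup.normalizer (H : Set G) := by
    by_contra hnot
    have hne : Subgroup.normalizer (H : Set G) ⊓ (P : Subgroup G) ≠ (P : Subgroup G) := by
      intro h
      exact hnot (h ▸ inf_le_left)
    obtain ⟨g, hgP, hgN, hgD⟩ := exists_mem_normalizer_not_mem P.2 inf_le_right hne
    have hxD : x ∈ Subgroup.normalizer (H : Set G) ⊓ (P : Subgroup G) := ⟨hCN hxC, hxP⟩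
    have h1 : g * x * g⁻¹ ∈ Subgroup.normalizer (H : Set G) ⊓ (P : Subgroup G) :=
      (Subgroup.mem_normalizer_iff.mp hgN x).mp hxD
    exact hgD ⟨hstep6 g h1.1, hgP⟩
  -- Step 8
  have hHn : H.Normal := by
    rw [← Subgroup.normalizer_eq_top_iff, eq_top_iff, ← hcompl.sup_eq_top]
    exact sup_le Subgroup.le_normalizer hPN
  exact ⟨P, H, hHn, hcompl⟩

end Cfsg.Agent.S4127
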