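import Cfsg.Statements.S4134
import Cfsg.Agent.Lib.Helper21_Ito

set_option autoImplicit false
open Cfsg

namespace Cfsg.Agent.S4134

open Cfsg.Agent.Lib.Helper21_Ito

/-- If all conjugates of `u` lie in `u Z(G)`, conjugation preserves the centralizer of `u`. -/
theorem conj_mem_centralizer {G : Type*} [Group G] {u g d : G}
    (hz : u⁻¹ * (g⁻¹ * u * g) ∈ Subgroup.center G)
    (hd : d ∈ Subgroup.centralizer ({u} : Set G)) :
    g * d * g⁻¹ ∈ Subgroup.centralizer ({u} : Set G) := by
  set z := u⁻¹ * (g⁻¹ * u * g) with hzdef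
  have hw : g⁻¹ * u * g = u * z := by rw [hzdef]; group
  have hdu : d * u = u * d := Subgroup.mem_centralizer_singleton_iff.mp hd
  have hdz : d * z = z * d := Subgroup.mem_center_iff.mp hz d
  have hdw : d * (g⁻¹ * u * g) = (g⁻¹ * u * g) * d := by
    rw [hw]
    calc d * (u * z) = (d * u) * z := (mul_assoc _ _ _).symm
      _ = (u * d) * z := by rw [hdu]
      _ = u * (d * z) := mul_assoc _ _ _
      _ = u * (z * d) := by rw [hdz]
      _ = u * z * d := (mul_assoc _ _ _).symm
  rw [Subgroup.mem_centralizer_singleton_iff]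
  calc g * d * g⁻¹ * u = g * (d * (g⁻¹ * u * g)) * g⁻¹ := by group
    _ = g * ((g⁻¹ * u * g) * d) * g⁻¹ := by rw [hdw]
    _ = u * (g * d * g⁻¹) := by group

/-- In a group with two class sizes whose central quotient is a non-trivial `p`-group, there
is an abelian normal subgroup containing all `p`-th powers. -/
theorem exists_abelian_normal {G : Type*} [Group G] [Finite G] {n p : ℕ} [hp : Fact p.Prime]
    (hT : TwoSizes G n) (hQ : IsPGroup p (G ⧸ Subgroup.center G))
    (hnt : ∃ x : G, x ∉ Subgroup.center G) :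
    ∃ A : Subgroup G, A.Normal ∧ (∀ a ∈ A, ∀ b ∈ A, a * b = b * a) ∧ ∀ g : G, g ^ p ∈ A := by
  classical
  -- an element `w` of order `p` modulo the centre, central modulo the centre
  have hntQ : Nontrivial (G ⧸ Subgroup.center G) := by
    obtain ⟨x, hx⟩ := hnt
    refine ⟨⟨QuotientGroup.mk x, 1, ?_⟩⟩
    intro h1
    rw [QuotientGroup.eq_one_iff] at h1
    exact hx h1
  have hcnt := hQ.center_nontrivial
  have hZp : IsPGroup p (Subgroup.center (G ⧸ Subgroup.center G)) := hQ.to_subgroup _
  have hdvd : p ∣ Nat.card (Subgroup.center (G ⧸ Subgroup.center G)) := by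
    rcases hZp.card_eq_or_dvd with h1 | h1
    · exfalso
      have := (Nat.card_eq_one_iff_unique.mp h1).1
      exact not_subsingleton _ this
    · exact h1
  obtain ⟨wb, hwb⟩ := exists_prime_orderOf_dvd_card' p hdvd
  obtain ⟨w, hw⟩ := QuotientGroup.mk_surjective (wb : G ⧸ Subgroup.center G)
  have hwZ : w ∉ Subgroup.center G := by
    intro hc
    have h1 : (QuotientGroup.mk w : G ⧸ Subgroup.center G) = 1 := by
      rw [QuotientGroup.eq_one_iff]; exact hc
    rw [hw] at h1
    have h2 : wb = 1 := Subtype.ext h1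
    rw [h2, orderOf_one] at hwb
    exact hp.out.ne_one hwb.symm
  have hwp : w ^ p ∈ Subgroup.center G := by
    have h1 : (QuotientGroup.mk (w ^ p) : G ⧸ Subgroup.center G) = 1 := by
      rw [QuotientGroup.mk_pow, hw]
      have h2 : wb ^ p = 1 := by rw [← hwb]; exact pow_orderOf_eq_one _
      have h3 := congrArg Subtype.val h2
      simpa using h3
    rwa [QuotientGroup.eq_one_iff] at h1
  have hwc : ∀ g : G, w⁻¹ * (g * w * g⁻¹) ∈ Subgroup.center G := by
    intro g
    have hcomm := Subgroup.mem_center_iff.mp wb.2 (QuotientGroup.mk g)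
    rw [← hw] at hcomm
    have h1 : (QuotientGroup.mk (w⁻¹ * (g * w * g⁻¹)) : G ⧸ Subgroup.center G) = 1 := by
      rw [QuotientGroup.mk_mul, QuotientGroup.mk_mul, QuotientGroup.mk_mul,
        QuotientGroup.mk_inv, QuotientGroup.mk_inv, hcomm]
      group
    rwa [QuotientGroup.eq_one_iff] at h1
  set D := Subgroup.centralizer ({w} : Set G) with hD
  have hZD : Subgroup.center G ≤ D := Subgroup.center_le_centralizer _
  have hDnorm : ∀ g : G, ∀ d ∈ D, g * d * g⁻¹ ∈ D := by
    intro g d hd
    have := hwc g⁻¹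
    rw [inv_inv] at this
    exact conj_mem_centralizer this hd
  let A : Subgroup G := D ⊓ Subgroup.centralizer (D : Set G)
  have hAnormal : A.Normal := by
    refine ⟨fun a ha g => ⟨hDnorm g a ha.1, ?_⟩⟩
    change g * a * g⁻¹ ∈ Subgroup.centralizer (D : Set G)
    rw [Subgroup.mem_centralizer_iff]
    intro d hd
    have hd' : g⁻¹ * d * g ∈ D := by
      have := hDnorm g⁻¹ d hd
      rwa [inv_inv] at this
    have h1 := (Subgroup.mem_centralizer_iff.mp ha.2) _ hd'
    -- h1 : g⁻¹ * d * g * a = a * (g⁻¹ * d * g)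
    calc d * (g * a * g⁻¹) = g * ((g⁻¹ * d * g) * a) * g⁻¹ := by group
      _ = g * (a * (g⁻¹ * d * g)) * g⁻¹ := by rw [h1]
      _ = g * a * g⁻¹ * d := by group
  have hAcomm : ∀ a ∈ A, ∀ b ∈ A, a * b = b * a := by
    intro a ha b hb
    exact ((Subgroup.mem_centralizer_iff.mp ha.2) b hb.1).symm
  refine ⟨A, hAnormal, hAcomm, ?_⟩
  intro g
  by_cases hgp : g ^ p ∈ Subgroup.center G
  · refine ⟨hZD hgp, ?_⟩
    change g ^ p ∈ Subgroup.centralizer (D : Set G)
    rw [Subgroup.mem_centralizer_iff]
    intro d _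
    exact Subgroup.mem_center_iff.mp hgp d
  · have hgZ : g ∉ Subgroup.center G := fun hc => hgp (Subgroup.pow_mem _ hc p)
    -- (1) C(g) = C(g^p)
    have h1 : Subgroup.centralizer ({g} : Set G) = Subgroup.centralizer ({g ^ p} : Set G) :=
      hT.eq_of_le hgZ hgp (centralizer_le_of_mem_zpowers ⟨(p : ℤ), by simp⟩)
    -- (2) w commutes with g
    set z := w⁻¹ * (g * w * g⁻¹) with hz
    have hzZ : z ∈ Subgroup.center G := hwc g
    have hgw : g * w * g⁻¹ = w * z := by rw [hz]; group
    have hzp : z ^ p = 1 := by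
      have hwz : Commute w z := Subgroup.mem_center_iff.mp hzZ w
      have e1 : (w * z) ^ p = w ^ p * z ^ p := hwz.mul_pow p
      have e2 : (g * w * g⁻¹) ^ p = w ^ p := by
        rw [conj_pow]
        have := Subgroup.mem_center_iff.mp hwp g
        rw [this]; group
      rw [hgw, e1] at e2
      exact mul_left_cancel (e2.trans (mul_one _).symm)
    have hwg : w ∈ Subgroup.centralizer ({g} : Set G) := by
      rw [h1, Subgroup.mem_centralizer_singleton_iff]
      have e := conj_pow_of_central hzZ hgw p
      rw [hzp, mul_one] at e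
      calc w * g ^ p = (g ^ p * w * (g ^ p)⁻¹) * g ^ p := by rw [e]
        _ = g ^ p * w := by group
    have hcomm : Commute g w := by
      rw [Subgroup.mem_centralizer_singleton_iff] at hwg
      exact hwg.symm
    -- (3) C(g w) = C(g) ≤ C(w)
    have hgwp : (g * w) ^ p = g ^ p * w ^ p := hcomm.mul_pow p
    have hgwpZ : (g * w) ^ p ∉ Subgroup.center G := by
      intro hc
      rw [hgwp] at hc
      have : g ^ p = (g ^ p * w ^ p) * (w ^ p)⁻¹ := by group
      rw [this] at hgp
      exact hgp (Subgroup.mul_mem _ hc (Subgroup.inv_mem _ hwp))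
    have hgwZ : g * w ∉ Subgroup.center G := fun hc => hgwpZ (Subgroup.pow_mem _ hc p)
    have h2 : Subgroup.centralizer ({g * w} : Set G) ≤ Subgroup.centralizer ({g} : Set G) := by
      intro a ha
      have ha' : a ∈ Subgroup.centralizer ({(g * w) ^ p} : Set G) :=
        centralizer_le_of_mem_zpowers ⟨(p : ℤ), by simp⟩ ha
      rw [h1]
      rw [Subgroup.mem_centralizer_singleton_iff] at ha' ⊢
      rw [hgwp] at ha'
      have hc := Subgroup.mem_center_iff.mp hwp a
      -- a * (g^p * w^p) = g^p * w^p * a, and a * w^p = w^p * a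
      have : a * g ^ p * w ^ p = g ^ p * a * w ^ p := by
        calc a * g ^ p * w ^ p = a * (g ^ p * w ^ p) := mul_assoc _ _ _
          _ = g ^ p * w ^ p * a := ha'
          _ = g ^ p * (w ^ p * a) := mul_assoc _ _ _
          _ = g ^ p * (a * w ^ p) := by rw [hc]
          _ = g ^ p * a * w ^ p := (mul_assoc _ _ _).symm
      exact mul_right_cancel this
    have h3 := hT.eq_of_le hgwZ hgZ h2
    have h4 : Subgroup.centralizer ({g} : Set G) ≤ D := by
      intro a ha
      have ha2 : a ∈ Subgroup.centralizer ({g * w} : Set G) := h3 ▸ ha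
      rw [hD]
      rw [Subgroup.mem_centralizer_singleton_iff] at ha ha2 ⊢
      have : g * (a * w) = g * (w * a) :=
        calc g * (a * w) = (a * g) * w := by rw [ha, mul_assoc]
          _ = a * (g * w) := mul_assoc _ _ _
          _ = g * w * a := ha2
          _ = g * (w * a) := mul_assoc _ _ _
      exact mul_left_cancel this
    have h5 : Subgroup.centralizer ({g} : Set G) = D := hT.eq_of_le hgZ hwZ h4
    have hgD : g ∈ D := by
      rw [← h5, Subgroup.mem_centralizer_singleton_iff]
    have hgA : g ∈ A := by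
      refine ⟨hgD, ?_⟩
      change g ∈ Subgroup.centralizer (D : Set G)
      rw [Subgroup.mem_centralizer_iff]
      intro d hd
      have hd' : d ∈ Subgroup.centralizer ({g} : Set G) := by rw [h5]; exact hd
      rw [Subgroup.mem_centralizer_singleton_iff] at hd'
      exact hd'
    exact Subgroup.pow_mem _ hgA p

/-- Let G be a finite group whose conjugacy classes have exactly two sizes, 1 and n > 1. Then n is a power of a prime p and G is the direct product of a p-group and an abelian group of order prime to p: its Sylow p-subgroup P is normal with an abelian normal complement centralizing it; moreover P has an abelian normal subgroup A with P/A of exponent dividing p. -/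
theorem result {G : Type*} [Group G] [Finite G] (n : ℕ) (hn : 1 < n)
    (h : ∀ x : G, (Subgroup.centralizer ({x} : Set G)).index = 1 ∨ (Subgroup.centralizer ({x} : Set G)).index = n) (hex : ∃ x : G, (Subgroup.centralizer ({x} : Set G)).index = n) :
    ∃ (p : ℕ) (_ : Fact p.Prime) (a : ℕ), n = p ^ a ∧ ∀ P : Sylow p G, (P : Subgroup G).Normal ∧
      (∃ N : Subgroup G, N.Normal ∧ N.IsComplement' (P : Subgroup G) ∧ IsMulCommutative N ∧
        ∀ x ∈ N, ∀ y ∈ (P : Subgroup G), x * y = y * x) ∧
      ∃ A : Subgroup (P : Subgroup G), A.Normal ∧ IsMulCommutative A ∧ ∀ y : (P : Subgroup G), y ^ p ∈ A := by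
  classical
  have hT : TwoSizes G n := ⟨hn, h⟩
  obtain ⟨x, hx⟩ := hex
  have hxZ : x ∉ Subgroup.center G := by
    intro hc
    have h1 : Subgroup.centralizer ({x} : Set G) = ⊤ := by
      rw [Subgroup.centralizer_eq_top_iff_subset]
      intro y hy
      rw [Set.mem_singleton_iff.mp hy]; exact hc
    rw [h1, Subgroup.index_top] at hx
    omega
  obtain ⟨p, hpp, k, hk⟩ := hT.exists_index_center_eq_prime_pow
  haveI hpF : Fact p.Prime := ⟨hpp⟩
  have hdvd : n ∣ p ^ k := by
    rw [← hk, ← hx]
    exact Subgroup.index_dvd_of_le (Subgroup.center_le_centralizer _)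
  obtain ⟨a, -, ha⟩ := (Nat.dvd_prime_pow hpp).mp hdvd
  refine ⟨p, hpF, a, ha, ?_⟩
  intro P
  have hQ : IsPGroup p (G ⧸ Subgroup.center G) :=
    IsPGroup.of_card (by rw [← Subgroup.index_eq_card]; exact hk)
  -- P is normal
  have hPn : (P : Subgroup G).Normal := by
    have hKidx : ((P : Subgroup G) ⊔ Subgroup.center G).index = 1 := by
      have d1 : ((P : Subgroup G) ⊔ Subgroup.center G).index ∣ (P : Subgroup G).index :=
        Subgroup.index_dvd_of_le le_sup_left
      have d2 : ((P : Subgroup G) ⊔ Subgroup.center G).index ∣ p ^ k := by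
        rw [← hk]; exact Subgroup.index_dvd_of_le le_sup_right
      obtain ⟨j, -, hj⟩ := (Nat.dvd_prime_pow hpp).mp d2
      rcases Nat.eq_zero_or_pos j with rfl | hjpos
      · simpa using hj
      · exfalso
        have : p ∣ ((P : Subgroup G) ⊔ Subgroup.center G).index := by
          rw [hj]; exact dvd_pow_self p hjpos.ne'
        exact P.not_dvd_index (this.trans d1)
    rw [Subgroup.index_eq_one] at hKidx
    rw [← Subgroup.normalizer_eq_top_iff, eq_top_iff, ← hKidx]
    exact sup_le Subgroup.le_normalizer (Subgroup.center_le_normalizer _)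
  refine ⟨hPn, ?_, ?_⟩
  · -- the complement
    haveI := hPn
    obtain ⟨H, hH⟩ := Subgroup.exists_left_complement'_of_coprime (N := (P : Subgroup G))
      P.card_coprime_index
    have hHcard : Nat.card H = (P : Subgroup G).index := hH.index_eq_card.symm
    have hcop : ((P : Subgroup G).index).Coprime p :=
      ((Nat.Prime.coprime_iff_not_dvd hpp).mpr P.not_dvd_index).symm
    have hHZ : H ≤ Subgroup.center G := by
      intro g hg
      have d1 : orderOf g ∣ (P : Subgroup G).index := by
        rw [← hHcard]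
        have := orderOf_dvd_natCard (⟨g, hg⟩ : H)
        rwa [Subgroup.orderOf_mk] at this
      obtain ⟨j, hj⟩ := hQ (QuotientGroup.mk g)
      have d2 : orderOf (QuotientGroup.mk g : G ⧸ Subgroup.center G) ∣ p ^ j :=
        orderOf_dvd_of_pow_eq_one hj
      have d3 : orderOf (QuotientGroup.mk g : G ⧸ Subgroup.center G) ∣ orderOf g :=
        orderOf_map_dvd (QuotientGroup.mk' (Subgroup.center G)) g
      have h1 : orderOf (QuotientGroup.mk g : G ⧸ Subgroup.center G) = 1 :=
        Nat.eq_one_of_dvd_coprimes (Nat.Coprime.pow_right j hcop) (d3.trans d1) d2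
      rw [orderOf_eq_one_iff, QuotientGroup.eq_one_iff] at h1
      exact h1
    refine ⟨H, ⟨fun a ha g => ?_⟩, hH, ⟨⟨fun a b => Subtype.ext ?_⟩⟩, ?_⟩
    · have := Subgroup.mem_center_iff.mp (hHZ ha) g
      rw [this, mul_inv_cancel_right]; exact ha
    · exact Subgroup.mem_center_iff.mp (hHZ b.2) a
    · intro x hx y _
      exact (Subgroup.mem_center_iff.mp (hHZ hx) y).symm
  · obtain ⟨A, hAn, hAc, hAp⟩ := exists_abelian_normal hT hQ ⟨x, hxZ⟩
    haveI := hAn
    refine ⟨A.subgroupOf (P : Subgroup G), inferInstance, ⟨⟨fun a b => Subtype.ext (Subtype.ext ?_)⟩⟩, ?_⟩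
    · exact hAc _ a.2 _ b.2
    · intro y
      rw [Subgroup.mem_subgroupOf]
      simpa using hAp (y : G)

end Cfsg.Agent.S4134
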