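import Cfsg.Statements.S4138
import Cfsg.Agent.Lib.Helper66_BGC

set_option autoImplicit false
open Cfsg

namespace Cfsg.Agent.S4138

open Subgroup Cfsg.Agent.Lib.Helper66_ClassSize Cfsg.Agent.Lib.Helper66_BGC
open scoped Pointwise

/-- Let G be a finite group whose two largest conjugacy class sizes m > n > 1 are coprime, and let x, y ∈ G have classes of sizes n and m respectively. Then C_G(x) and C_G(y) are abelian, and G/Z(G) is a Frobenius group with kernel C_G(x)/Z(G) and complement C_G(y)/Z(G). -/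
theorem result {G : Type*} [Group G] [Finite G] (m n : ℕ) (hmn : n < m) (hn : 1 < n)
    (hcop : m.Coprime n) (htop : ∀ z : G, (Subgroup.centralizer ({z} : Set G)).index ≤ m) (hsecond : ∀ z : G, (Subgroup.centralizer ({z} : Set G)).index < m → (Subgroup.centralizer ({z} : Set G)).index ≤ n)
    (x y : G) (hx : (Subgroup.centralizer ({x} : Set G)).index = n) (hy : (Subgroup.centralizer ({y} : Set G)).index = m) :
    IsMulCommutative (Subgroup.centralizer ({x} : Set G)) ∧ IsMulCommutative (Subgroup.centralizer ({y} : Set G)) ∧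
    Cfsg.IsFrobeniusComplement ((Subgroup.centralizer ({y} : Set G)).map (QuotientGroup.mk' (Subgroup.center G))) ∧
    Cfsg.frobeniusKernel ((Subgroup.centralizer ({y} : Set G)).map (QuotientGroup.mk' (Subgroup.center G))) =
      ((Subgroup.centralizer ({x} : Set G)).map (QuotientGroup.mk' (Subgroup.center G)) : Set (G ⧸ Subgroup.center G)) := by
  have H : Hyp G m n := ⟨hmn, hn, hcop, htop, hsecond⟩
  have hx' : cs x = n := hx
  have hy' : cs y = m := hy
  have hCx : C x = ZN G m := H.C_eq_ZN x y hx' hy'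
  set π := QuotientGroup.mk' (center G) with hπ
  have hπ1 : ∀ g : G, π g = 1 ↔ g ∈ center G := fun g => QuotientGroup.eq_one_iff g
  have hπeq : ∀ a b : G, π a = π b → ∃ z ∈ center G, b = a * z := by
    intro a b hab
    exact ⟨a⁻¹ * b, QuotientGroup.eq.1 hab, by group⟩
  have hsurj : Function.Surjective π := QuotientGroup.mk'_surjective _
  have hyz : y ∉ center G := by
    intro h1
    have h2 : cs y = 1 := cs_eq_one_iff.2 h1
    omega
  refine ⟨⟨⟨fun a b => Subtype.ext ?_⟩⟩, ⟨⟨fun a b => Subtype.ext ?_⟩⟩, ⟨?_, ?_, ?_⟩, ?_⟩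
  · exact ZN_comm (H.C_le_ZN x y hx' hy' a.2) (H.C_le_ZN x y hx' hy' b.2)
  · exact H.comm_C x y hx' hy' a.2 b.2
  · -- nontrivial
    intro h1
    have h2 : π y ∈ (C y).map π := mem_map_of_mem _ (self_mem_C y)
    rw [h1, mem_bot, hπ1] at h2
    exact hyz h2
  · -- proper
    intro h1
    have h2 : π x ∈ (C y).map π := by rw [h1]; exact mem_top _
    obtain ⟨h', hh', hh'x⟩ := mem_map.1 h2
    obtain ⟨z, hz, hzeq⟩ := hπeq _ _ hh'x
    have h3 : x ∈ C y := by rw [hzeq]; exact mul_mem hh' (center_le_C y hz)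
    exact H.not_commute x y hx' hy' hy' (show Commute x y from mem_C.1 h3)
  · -- trivial intersections
    intro g' hg'
    obtain ⟨g, rfl⟩ := hsurj g'
    have hg : g ∉ C y := fun h => hg' (mem_map_of_mem _ h)
    rw [eq_bot_iff]
    intro q hq
    obtain ⟨hq1, hq2⟩ := mem_inf.1 hq
    obtain ⟨h, hh, rfl⟩ := mem_map.1 hq1
    rw [mem_smul_pointwise_iff_exists] at hq2
    obtain ⟨s, hs, hsq⟩ := hq2
    obtain ⟨h', hh', rfl⟩ := mem_map.1 hs
    rw [MulAut.smul_def, MulAut.conj_apply, ← map_inv, ← map_mul, ← map_mul] at hsq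
    obtain ⟨z, hz, hzeq⟩ := hπeq _ _ hsq
    have h1 : h * z⁻¹ = g * h' * g⁻¹ := by rw [hzeq]; group
    have h2 : h * z⁻¹ ∈ C y := mul_mem hh (inv_mem (center_le_C y hz))
    have h3 : h * z⁻¹ ∈ center G := H.mem_center_of_conj x y hx' hy' hg h2 hh' h1
    have h4 : h ∈ center G := by
      have : h = h * z⁻¹ * z := by group
      rw [this]
      exact mul_mem h3 hz
    rw [mem_bot]
    exact (hπ1 h).2 h4
  · -- the kernel
    ext q
    constructor
    · intro hq
      obtain ⟨g, rfl⟩ := hsurj q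
      rcases hq with h1 | h2
      · exact mem_map_of_mem _ (center_le_C x ((hπ1 g).1 h1))
      · by_cases hgZN : g ∈ ZN G m
        · rw [← hCx] at hgZN
          exact mem_map_of_mem _ hgZN
        · exfalso
          obtain ⟨μ, h, hh, rfl⟩ := H.exists_conj x y hx' hy' g hgZN
          apply h2 (π μ)
          rw [mem_smul_pointwise_iff_exists]
          refine ⟨π h, mem_map_of_mem _ hh, ?_⟩
          rw [MulAut.smul_def, MulAut.conj_apply, ← map_inv, ← map_mul, ← map_mul]
    · rintro ⟨l, hl, rfl⟩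
      have hl' : l ∈ C x := hl
      by_cases hlz : l ∈ center G
      · exact Or.inl ((hπ1 l).2 hlz)
      · refine Or.inr ?_
        intro g' hmem
        obtain ⟨g, rfl⟩ := hsurj g'
        rw [mem_smul_pointwise_iff_exists] at hmem
        obtain ⟨s, hs, hsq⟩ := hmem
        obtain ⟨h, hh, rfl⟩ := mem_map.1 hs
        rw [MulAut.smul_def, MulAut.conj_apply, ← map_inv, ← map_mul, ← map_mul] at hsq
        obtain ⟨z, hz, hzeq⟩ := hπeq _ _ hsq
        -- `l = g h g⁻¹ z`
        have h1 : h = g⁻¹ * (l * z⁻¹) * g := by rw [hzeq]; group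
        have h2 : l * z⁻¹ ∈ ZN G m := by
          rw [← hCx]
          exact mul_mem hl' (inv_mem (center_le_C x hz))
        have h3 : h ∈ ZN G m := by
          rw [h1]
          have := (ZN_normal (G := G) m).conj_mem _ h2 g⁻¹
          rwa [inv_inv] at this
        have h4 : h ∈ center G := H.ZN_inf_C x y hx' hy' (mem_inf.2 ⟨h3, hh⟩)
        apply hlz
        rw [hzeq]
        exact mul_mem ((inferInstance : (center G).Normal).conj_mem h h4 g) hz

end Cfsg.Agent.S4138
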