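import Mathlib
import Cfsg.Statements.S4139

set_option autoImplicit false
open Cfsg

namespace Cfsg.Agent.S4139

open Subgroup

/-- elements whose conjugacy class has `p`-power size -/
def Tp (p : ℕ) (G : Type*) [Group G] : Set G :=
  {x | ∃ k : ℕ, Nat.card (ConjClasses.mk x).carrier = p ^ k}

theorem card_carrier_eq_index {G : Type*} [Group G] (x : G) :
    Nat.card (ConjClasses.mk x).carrier = (Subgroup.centralizer {x}).index := by
  have h1 : (Subgroup.centralizer {x}).index = (MulAction.stabilizer (ConjAct G) x).index := by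
    rw [Subgroup.centralizer_eq_comap_stabilizer]
    exact Subgroup.index_comap_of_surjective _ (MulEquiv.surjective _)
  rw [h1, MulAction.index_stabilizer, ConjAct.orbit_eq_carrier_conjClasses]
  exact (Nat.card_coe_set_eq _)

theorem mem_Tp_iff {p : ℕ} {G : Type*} [Group G] {x : G} :
    x ∈ Tp p G ↔ ∃ k : ℕ, (Subgroup.centralizer {x}).index = p ^ k := by
  unfold Tp
  simp only [Set.mem_ofPred_eq, card_carrier_eq_index]

theorem conj_mem_Tp {p : ℕ} {G : Type*} [Group G] {x : G} (g : G) (hx : x ∈ Tp p G) :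
    g * x * g⁻¹ ∈ Tp p G := by
  obtain ⟨k, hk⟩ := hx
  refine ⟨k, ?_⟩
  have : ConjClasses.mk (g * x * g⁻¹) = ConjClasses.mk x := by
    rw [ConjClasses.mk_eq_mk_iff_isConj]
    exact (isConj_iff.mpr ⟨g, rfl⟩).symm
  rw [this]; exact hk

theorem center_subset_Tp {p : ℕ} {G : Type*} [Group G] {x : G} (hx : x ∈ Subgroup.center G) :
    x ∈ Tp p G := by
  rw [mem_Tp_iff]
  refine ⟨0, ?_⟩
  rw [pow_zero, Subgroup.index_eq_one, eq_top_iff]
  intro g _
  rw [Subgroup.mem_centralizer_iff]
  intro y hy
  rw [Set.mem_singleton_iff] at hy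
  subst hy
  exact ((Subgroup.mem_center_iff.mp hx) g).symm

theorem mem_center_of_fixed {p : ℕ} [hp : Fact p.Prime] {G : Type*} [Group G] [Finite G]
    (P : Sylow p G) {x : G} (hx : x ∈ Tp p G) (hfix : ∀ u ∈ P, u * x * u⁻¹ = x) :
    x ∈ Subgroup.center G := by
  obtain ⟨k, hk⟩ := mem_Tp_iff.mp hx
  have hle : (P : Subgroup G) ≤ Subgroup.centralizer {x} := by
    intro u hu
    rw [Subgroup.mem_centralizer_iff]
    intro y hy
    rw [Set.mem_singleton_iff] at hy
    subst hy
    have h1 := hfix u hu
    calc y * u = (u * y * u⁻¹) * u := by rw [h1]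
      _ = u * y := by group
  have hdvd : (Subgroup.centralizer {x}).index ∣ (P : Subgroup G).index :=
    Subgroup.index_dvd_of_le hle
  have hnd : ¬ p ∣ (P : Subgroup G).index := P.not_dvd_index
  have hk0 : k = 0 := by
    by_contra hne
    apply hnd
    exact dvd_trans (by rw [hk]; exact dvd_pow_self p hne) hdvd
  subst hk0
  rw [pow_zero, Subgroup.index_eq_one] at hk
  rw [Subgroup.mem_center_iff]
  intro g
  have hg : g ∈ Subgroup.centralizer {x} := hk ▸ Subgroup.mem_top g
  exact (Subgroup.mem_centralizer_iff.mp hg x rfl).symm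

/-- the class equation mod `p` on `Tp`. -/
theorem card_Tp_modEq {p : ℕ} [hp : Fact p.Prime] {G : Type*} [Group G] [Finite G]
    (P : Sylow p G) :
    Nat.card (Tp p G) ≡ Nat.card (Subgroup.center G) [MOD p] := by
  let act : MulAction (↥(P : Subgroup G)) (↥(Tp p G)) :=
    { smul := fun u x => ⟨(u : G) * x * (u : G)⁻¹, conj_mem_Tp (u : G) x.2⟩
      one_smul := fun x => Subtype.ext (by
        show ((1 : ↥(P : Subgroup G)) : G) * x * ((1 : ↥(P : Subgroup G)) : G)⁻¹ = x
        simp)
      mul_smul := fun u v x => Subtype.ext (by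
        show ((u * v : ↥(P : Subgroup G)) : G) * x * ((u * v : ↥(P : Subgroup G)) : G)⁻¹
          = (u : G) * ((v : G) * x * (v : G)⁻¹) * (u : G)⁻¹
        simp [mul_assoc]) }
  have h1 := P.2.card_modEq_card_fixedPoints (↥(Tp p G))
  refine h1.trans ?_
  have e : MulAction.fixedPoints (↥(P : Subgroup G)) (↥(Tp p G)) ≃ ↥(Subgroup.center G) :=
    { toFun := fun x => ⟨x.1.1, mem_center_of_fixed P x.1.2 (fun u hu => by
        have := x.2 ⟨u, hu⟩
        exact congrArg Subtype.val this)⟩
      invFun := fun z => ⟨⟨z.1, center_subset_Tp z.2⟩, fun u => Subtype.ext (by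
        show (u : G) * z.1 * (u : G)⁻¹ = z.1
        rw [(Subgroup.mem_center_iff.mp z.2) (u : G)]
        group)⟩
      left_inv := fun x => by ext; rfl
      right_inv := fun z => by ext; rfl }
  rw [Nat.card_congr e]

/-- For `N` central of order `p`: membership in `Tp` passes to and from the quotient. -/
theorem mk_mem_Tp_iff {p : ℕ} [hp : Fact p.Prime] {G : Type*} [Group G] [Finite G]
    (N : Subgroup G) [N.Normal] (hNc : N ≤ Subgroup.center G) (hN : Nat.card N = p) (x : G) :
    (QuotientGroup.mk x : G ⧸ N) ∈ Tp p (G ⧸ N) ↔ x ∈ Tp p G := by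
  rw [mem_Tp_iff, mem_Tp_iff]
  set C := Subgroup.centralizer {x} with hC
  set C' := (Subgroup.centralizer {(QuotientGroup.mk x : G ⧸ N)}).comap (QuotientGroup.mk' N)
    with hC'
  have hidx : C'.index = (Subgroup.centralizer {(QuotientGroup.mk x : G ⧸ N)}).index :=
    Subgroup.index_comap_of_surjective _ (QuotientGroup.mk'_surjective N)
  have hmemC' : ∀ g : G, g ∈ C' ↔ g * x * g⁻¹ * x⁻¹ ∈ N := by
    intro g
    rw [hC', Subgroup.mem_comap, Subgroup.mem_centralizer_iff]
    constructor
    · intro hg
      have h1 := hg (QuotientGroup.mk x) rfl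
      rw [← QuotientGroup.eq_one_iff]
      simp only [QuotientGroup.mk_mul, QuotientGroup.mk_inv]
      simp only [QuotientGroup.mk'_apply] at h1
      rw [← h1]; group
    · intro hg y hy
      rw [Set.mem_singleton_iff] at hy
      subst hy
      rw [← QuotientGroup.eq_one_iff] at hg
      simp only [QuotientGroup.mk_mul, QuotientGroup.mk_inv] at hg
      simp only [QuotientGroup.mk'_apply]
      have h2 : (QuotientGroup.mk g : G ⧸ N) * QuotientGroup.mk x
          = (QuotientGroup.mk g * QuotientGroup.mk x * (QuotientGroup.mk g)⁻¹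
            * (QuotientGroup.mk x)⁻¹) * (QuotientGroup.mk x * QuotientGroup.mk g) := by group
      rw [h2, hg, one_mul]
  have hle : C ≤ C' := by
    intro g hg
    rw [hmemC']
    have h1 := (Subgroup.mem_centralizer_iff.mp hg) x rfl
    have : g * x * g⁻¹ * x⁻¹ = 1 := by
      rw [← h1]; group
    rw [this]; exact N.one_mem
  have hmul : C.relIndex C' * C'.index = C.index := Subgroup.relIndex_mul_index hle
  have hrel : C.relIndex C' ∣ p := by
    let φ : ↥C' →* G := MonoidHom.mk' (fun g => (g : G) * x * (g : G)⁻¹ * x⁻¹) (by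
      intro a b
      have hb := hNc ((hmemC' b).mp b.2)
      have hb' : ∀ g : G, g * ((b : G) * x * (b : G)⁻¹ * x⁻¹)
          = ((b : G) * x * (b : G)⁻¹ * x⁻¹) * g := Subgroup.mem_center_iff.mp hb
      show ((a * b : ↥C') : G) * x * ((a * b : ↥C') : G)⁻¹ * x⁻¹ = _
      simp only [Subgroup.coe_mul, mul_inv_rev]
      calc (a : G) * (b : G) * x * ((b : G)⁻¹ * (a : G)⁻¹) * x⁻¹
          = ((a : G) * ((b : G) * x * (b : G)⁻¹ * x⁻¹)) * (x * (a : G)⁻¹ * x⁻¹) := by group
        _ = (((b : G) * x * (b : G)⁻¹ * x⁻¹) * (a : G)) * (x * (a : G)⁻¹ * x⁻¹) := by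
            rw [hb' (a : G)]
        _ = ((b : G) * x * (b : G)⁻¹ * x⁻¹) * ((a : G) * x * (a : G)⁻¹ * x⁻¹) := by group
        _ = ((a : G) * x * (a : G)⁻¹ * x⁻¹) * ((b : G) * x * (b : G)⁻¹ * x⁻¹) := by
            rw [hb' ((a : G) * x * (a : G)⁻¹ * x⁻¹)])
    have hker : φ.ker = C.subgroupOf C' := by
      ext g
      rw [MonoidHom.mem_ker, Subgroup.mem_subgroupOf, hC, Subgroup.mem_centralizer_iff]
      show (g : G) * x * (g : G)⁻¹ * x⁻¹ = 1 ↔ _
      constructor
      · intro h y hy
        rw [Set.mem_singleton_iff] at hy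
        subst hy
        have : (g : G) * y = ((g : G) * y * (g : G)⁻¹ * y⁻¹) * (y * (g : G)) := by group
        rw [this, h, one_mul]
      · intro h
        have h1 := h x rfl
        rw [← h1]; group
    have hrange : φ.range ≤ N := by
      rintro _ ⟨g, rfl⟩
      exact (hmemC' g).mp g.2
    have h3 : C.relIndex C' = Nat.card φ.range := by
      rw [← Subgroup.index_ker, hker]; rfl
    rw [h3, ← hN]
    exact Subgroup.card_dvd_of_le hrange
  rw [hidx] at hmul
  constructor
  · rintro ⟨k, hk⟩
    rw [hk] at hmul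
    rcases (Nat.dvd_prime hp.out).mp hrel with h1 | h1
    · exact ⟨k, by rw [← hmul, h1, one_mul]⟩
    · exact ⟨k + 1, by rw [← hmul, h1, pow_succ, mul_comm]⟩
  · rintro ⟨k, hk⟩
    rw [hk] at hmul
    have : (Subgroup.centralizer {(QuotientGroup.mk x : G ⧸ N)}).index ∣ p ^ k :=
      Dvd.intro_left _ hmul
    obtain ⟨j, _, hj⟩ := (Nat.dvd_prime_pow hp.out).mp this
    exact ⟨j, hj⟩

theorem card_Tp_quotient {p : ℕ} [hp : Fact p.Prime] {G : Type*} [Group G] [Finite G]
    (N : Subgroup G) [N.Normal] (hNc : N ≤ Subgroup.center G) (hN : Nat.card N = p) :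
    Nat.card (Tp p G) = p * Nat.card (Tp p (G ⧸ N)) := by
  have hset : Tp p G = QuotientGroup.mk ⁻¹' (Tp p (G ⧸ N)) := by
    ext x
    rw [Set.mem_preimage]
    exact (mk_mem_Tp_iff N hNc hN x).symm
  rw [hset, Nat.card_congr (QuotientGroup.preimageMkEquivSubgroupProdSet N _), Nat.card_prod, hN]

theorem normal_of_le_center' {G : Type*} [Group G] {N : Subgroup G}
    (hNc : N ≤ Subgroup.center G) : N.Normal :=
  ⟨fun n hn g => by
    have h1 := Subgroup.mem_center_iff.mp (hNc hn) g
    have : g * n * g⁻¹ = n := by rw [h1]; group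
    rw [this]; exact hn⟩

universe u

/-- **Key lemma**: if the full `p`-part of `|G|` divides the number of elements of `p`-power
class size, then the Sylow `p`-subgroup of `G` is normal. -/
theorem sylow_normal_of_dvd {p : ℕ} [hp : Fact p.Prime] :
    ∀ (n : ℕ) (G : Type u) [Group G] [Finite G], Nat.card G = n →
      p ^ (Nat.card G).factorization p ∣ Nat.card (Tp p G) →
      ∀ P : Sylow p G, (P : Subgroup G).Normal := by
  intro n
  induction n using Nat.strong_induction_on with
  | _ n ih =>
    intro G _ _ hn hdvd P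
    by_cases hv : (Nat.card G).factorization p = 0
    · have hcard : Nat.card (P : Subgroup G) = 1 := by
        rw [P.card_eq_multiplicity, hv, pow_zero]
      have hbot : (P : Subgroup G) = ⊥ := Subgroup.eq_bot_of_card_eq _ hcard
      rw [hbot]; infer_instance
    · have hpd : p ∣ Nat.card (Tp p G) := dvd_trans (dvd_pow_self p hv) hdvd
      have hmod := card_Tp_modEq P
      have hpz : p ∣ Nat.card (Subgroup.center G) :=
        (Nat.modEq_zero_iff_dvd.mp (hmod.symm.trans (Nat.modEq_zero_iff_dvd.mpr hpd)))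
      obtain ⟨c, hc⟩ := exists_prime_orderOf_dvd_card' (G := ↥(Subgroup.center G)) p hpz
      let N : Subgroup G := Subgroup.zpowers (c : G)
      have hNc : N ≤ Subgroup.center G := by
        rw [Subgroup.zpowers_le]; exact c.2
      have : N.Normal := normal_of_le_center' hNc
      have hN : Nat.card N = p := by
        rw [Nat.card_zpowers, Subgroup.orderOf_coe, hc]
      have hcardQ : Nat.card G = Nat.card (G ⧸ N) * p := by
        rw [Subgroup.card_eq_card_quotient_mul_card_subgroup N, hN]
      have hposQ : 0 < Nat.card (G ⧸ N) := Nat.card_pos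
      have hlt : Nat.card (G ⧸ N) < n := by
        rw [← hn, hcardQ]
        have := hp.out.one_lt
        nlinarith
      have hfac : (Nat.card G).factorization p = (Nat.card (G ⧸ N)).factorization p + 1 := by
        rw [hcardQ, Nat.factorization_mul hposQ.ne' hp.out.ne_zero]
        simp [hp.out.factorization_self]
      have hT := card_Tp_quotient N hNc hN
      have hdvd' : p ^ (Nat.card (G ⧸ N)).factorization p ∣ Nat.card (Tp p (G ⧸ N)) := by
        rw [hfac, hT, pow_succ'] at hdvd
        exact Nat.dvd_of_mul_dvd_mul_left hp.out.pos hdvd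
      have hQ := ih _ hlt (G ⧸ N) rfl hdvd'
      have hNP : N ≤ P :=
        IsPGroup.le_sylow_of_normal (IsPGroup.of_card (n := 1) (by rw [hN, pow_one])) P
      have hmapn : ((P.mapSurjective (QuotientGroup.mk'_surjective N)) :
          Subgroup (G ⧸ N)).Normal := hQ _
      have hPeq : (P : Subgroup G)
          = ((P : Subgroup G).map (QuotientGroup.mk' N)).comap (QuotientGroup.mk' N) := by
        rw [Subgroup.comap_map_eq, QuotientGroup.ker_mk', sup_of_le_left hNP]
      rw [hPeq]
      rw [Sylow.coe_mapSurjective] at hmapn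
      exact hmapn.comap _

/-- In a group where Sylow `r`-subgroups are normal, a subgroup of index prime to `r` contains
the Sylow `r`-subgroup. -/
theorem sylow_le_of_index {r : ℕ} [hr : Fact r.Prime] {H : Type*} [Group H] [Finite H]
    (R : Sylow r H) [(R : Subgroup H).Normal] (C : Subgroup H) (hC : ¬ r ∣ C.index) :
    (R : Subgroup H) ≤ C := by
  let Q : Sylow r ↥C := Sylow.nonempty.some
  set S : Subgroup H := (Q : Subgroup ↥C).map C.subtype with hS
  have hSp : IsPGroup r S := Q.2.map C.subtype
  have hidx : S.index = (Q : Subgroup ↥C).index * C.index := Subgroup.index_map_subtype _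
  have hnd : ¬ r ∣ S.index := by
    rw [hidx]
    intro h
    rcases (Nat.Prime.dvd_mul hr.out).mp h with h1 | h1
    · exact Q.not_dvd_index h1
    · exact hC h1
  have h1 : (R : Subgroup H) ≤ hSp.toSylow hnd := IsPGroup.le_sylow_of_normal R.2 _
  intro g hg
  have h2 : g ∈ S := (IsPGroup.mem_toSylow hSp hnd).mp (h1 hg)
  exact (Subgroup.map_subtype_le _) h2

theorem mul_mem_Tp_of_nilpotent {p : ℕ} [hp : Fact p.Prime] {H : Type*} [Group H] [Finite H]
    [hH : Group.IsNilpotent H] (P : Sylow p H) {y u : H} (hy : y ∈ Tp p H) (hu : u ∈ P) :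
    y * u ∈ Tp p H := by
  rw [mem_Tp_iff] at hy ⊢
  obtain ⟨k, hk⟩ := hy
  have hm0 : (Subgroup.centralizer {y * u}).index ≠ 0 := Subgroup.index_ne_zero_of_finite
  have hprime : ∀ {r : ℕ}, r.Prime → r ∣ (Subgroup.centralizer {y * u}).index → r = p := by
    intro r hr hrm
    by_contra hne
    have : Fact r.Prime := ⟨hr⟩
    let R : Sylow r H := Sylow.nonempty.some
    have hRy : (R : Subgroup H) ≤ Subgroup.centralizer {y} := by
      apply sylow_le_of_index R
      rw [hk]
      intro h
      exact hne ((Nat.prime_dvd_prime_iff_eq hr hp.out).mp (hr.dvd_of_dvd_pow h))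
    have hdis : Disjoint (R : Subgroup H) (P : Subgroup H) :=
      IsPGroup.disjoint_of_ne r p hne _ _ R.2 P.2
    have hcomm : ∀ g ∈ R, g * u = u * g := fun g hg =>
      Subgroup.commute_of_normal_of_disjoint _ _ inferInstance inferInstance hdis g u hg hu
    have hRyu : (R : Subgroup H) ≤ Subgroup.centralizer {y * u} := by
      intro g hg
      rw [Subgroup.mem_centralizer_iff]
      intro z hz
      rw [Set.mem_singleton_iff] at hz
      subst hz
      have h1 := (Subgroup.mem_centralizer_iff.mp (hRy hg)) y rfl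
      have h2 := hcomm g hg
      calc y * u * g = y * (u * g) := by group
        _ = y * (g * u) := by rw [h2]
        _ = (y * g) * u := by group
        _ = (g * y) * u := by rw [h1]
        _ = g * (y * u) := by group
    have hdv : (Subgroup.centralizer {y * u}).index ∣ (R : Subgroup H).index :=
      Subgroup.index_dvd_of_le hRyu
    exact R.not_dvd_index (dvd_trans hrm hdv)
  exact ⟨_, Nat.eq_prime_pow_of_unique_prime_dvd hm0 hprime⟩

theorem dvd_card_Tp_of_nilpotent {p : ℕ} [hp : Fact p.Prime] {H : Type*} [Group H] [Finite H]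
    [hH : Group.IsNilpotent H] :
    p ^ (Nat.card H).factorization p ∣ Nat.card (Tp p H) := by
  let P : Sylow p H := Sylow.nonempty.some
  have hsat : Tp p H = QuotientGroup.mk ⁻¹'
      ((QuotientGroup.mk : H → H ⧸ (P : Subgroup H)) '' Tp p H) := by
    ext x
    constructor
    · intro hx; exact ⟨x, hx, rfl⟩
    · rintro ⟨y, hy, hxy⟩
      have hu : y⁻¹ * x ∈ (P : Subgroup H) := QuotientGroup.eq.mp hxy
      have hx : x = y * (y⁻¹ * x) := by group
      rw [hx]
      exact mul_mem_Tp_of_nilpotent P hy hu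
  rw [hsat, Nat.card_congr (QuotientGroup.preimageMkEquivSubgroupProdSet _ _), Nat.card_prod,
    P.card_eq_multiplicity]
  exact dvd_mul_right _ _

/-- two finite types of the same cardinality are equivalent -/
theorem nonempty_equiv_of_card_eq {α : Type*} {β : Type*} [Finite α] [Finite β]
    (h : Nat.card α = Nat.card β) : Nonempty (α ≃ β) := by
  have := Fintype.ofFinite α
  have := Fintype.ofFinite β
  rw [Nat.card_eq_fintype_card, Nat.card_eq_fintype_card] at h
  exact Fintype.card_eq.mp h

/-- the number of elements whose class has size `k` -/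
theorem card_fiber {G : Type*} [Group G] [Finite G] (k : ℕ) :
    Nat.card {x : G // Nat.card (ConjClasses.mk x).carrier = k}
      = Nat.card {C : ConjClasses G // Nat.card C.carrier = k} * k := by
  classical
  let F : (Σ C : {C : ConjClasses G // Nat.card C.carrier = k}, ↥(C.1.carrier)) →
      {x : G // Nat.card (ConjClasses.mk x).carrier = k} := fun Cy =>
    ⟨Cy.2.1, by
      have h1 : ConjClasses.mk (Cy.2.1) = Cy.1.1 := ConjClasses.mem_carrier_iff_mk_eq.mp Cy.2.2
      rw [h1]; exact Cy.1.2⟩
  have hF : Function.Bijective F := by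
    constructor
    · rintro ⟨⟨C, hC⟩, ⟨y, hy⟩⟩ ⟨⟨C', hC'⟩, ⟨y', hy'⟩⟩ hyy
      have h0 : y = y' := congrArg Subtype.val hyy
      subst h0
      have e1 : ConjClasses.mk y = C := ConjClasses.mem_carrier_iff_mk_eq.mp hy
      have e2 : ConjClasses.mk y = C' := ConjClasses.mem_carrier_iff_mk_eq.mp hy'
      have h1 : C = C' := e1.symm.trans e2
      subst h1
      rfl
    · rintro ⟨x, hx⟩
      exact ⟨⟨⟨ConjClasses.mk x, hx⟩, ⟨x, ConjClasses.mem_carrier_mk⟩⟩, rfl⟩
  rw [← Nat.card_congr (Equiv.ofBijective F hF)]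
  have : Fintype {C : ConjClasses G // Nat.card C.carrier = k} := Fintype.ofFinite _
  rw [Nat.card_sigma]
  rw [Finset.sum_congr rfl (fun C _ => C.2)]
  rw [Finset.sum_const, Finset.card_univ, Nat.card_eq_fintype_card, smul_eq_mul]

/-- a bijection `G ≃ H` preserving class sizes -/
theorem exists_equiv {G : Type*} {H : Type*} [Group G] [Finite G] [Group H] [Finite H]
    (h : ∀ k : ℕ, Nat.card {C : ConjClasses G // Nat.card C.carrier = k}
      = Nat.card {C : ConjClasses H // Nat.card C.carrier = k}) :
    ∃ Φ : G ≃ H, ∀ x : G,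
      Nat.card (ConjClasses.mk (Φ x)).carrier = Nat.card (ConjClasses.mk x).carrier := by
  have he : ∀ k : ℕ, Nonempty ({x : G // Nat.card (ConjClasses.mk x).carrier = k}
      ≃ {y : H // Nat.card (ConjClasses.mk y).carrier = k}) := fun k =>
    nonempty_equiv_of_card_eq (by rw [card_fiber, card_fiber, h k])
  let e := fun k => (he k).some
  refine ⟨(Equiv.sigmaFiberEquiv (fun x : G => Nat.card (ConjClasses.mk x).carrier)).symm.trans
    ((Equiv.sigmaCongrRight e).trans
      (Equiv.sigmaFiberEquiv (fun y : H => Nat.card (ConjClasses.mk y).carrier))), ?_⟩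
  intro x
  exact (e (Nat.card (ConjClasses.mk x).carrier) ⟨x, rfl⟩).2

/-- Let G and H be finite groups such that for every natural number k, G and H have the same number of conjugacy classes of size k. If H is nilpotent then G is nilpotent. -/
theorem result {G H : Type*} [Group G] [Finite G] [Group H] [Finite H]
    (hH : Group.IsNilpotent H)
    (h : ∀ k : ℕ, Nat.card {C : ConjClasses G // Nat.card C.carrier = k} = Nat.card {C : ConjClasses H // Nat.card C.carrier = k}) :
    Group.IsNilpotent G := by
  obtain ⟨Φ, hΦ⟩ := exists_equiv h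
  have hcard : Nat.card G = Nat.card H := Nat.card_congr Φ
  refine ((Group.isNilpotent_of_finite_tfae (G := G)).out 0 3 rfl rfl).mpr ?_
  intro p hp P
  have := hp
  have hT : Nat.card (Tp p G) = Nat.card (Tp p H) :=
    Nat.card_congr (Φ.subtypeEquiv (fun x => by
      show (∃ k : ℕ, Nat.card (ConjClasses.mk x).carrier = p ^ k)
        ↔ (∃ k : ℕ, Nat.card (ConjClasses.mk (Φ x)).carrier = p ^ k)
      rw [hΦ x]))
  have hd := dvd_card_Tp_of_nilpotent (p := p) (H := H)
  rw [← hcard, ← hT] at hd
  exact sylow_normal_of_dvd _ G rfl hd P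

end Cfsg.Agent.S4139
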