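import Cfsg.Statements.S4140
import Cfsg.Agent.Lib.Helper24_Camina
import Cfsg.Agent.Lib.Helper24_CaminaMain
import Mathlib

set_option autoImplicit false
open Cfsg

namespace Cfsg.Agent.S4140

open Cfsg.Agent.Lib.Helper24_Camina

/-- a non-prime-power `n` divisible by the prime `p` has another prime divisor. -/
theorem exists_prime_ne_dvd {n p : ℕ} (hn : n ≠ 0) (hp : p.Prime) (hpn : p ∣ n)
    (h : ¬ IsPrimePow n) : ∃ q, q.Prime ∧ q ≠ p ∧ q ∣ n := by
  by_contra hcon
  push Not at hcon
  apply h
  have h1 : n = p ^ n.primeFactorsList.length :=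
    Nat.eq_prime_pow_of_unique_prime_dvd hn (fun {d} hd hdn => by
      by_contra hne
      exact hcon d hd hne hdn)
  rw [h1]
  refine ⟨p, n.primeFactorsList.length, hp.prime, ?_, rfl⟩
  rcases Nat.eq_zero_or_pos n.primeFactorsList.length with h0 | h0
  · rw [h0, pow_zero] at h1
    rw [h1] at hpn
    exact absurd (Nat.dvd_one.mp hpn) hp.one_lt.ne'
  · exact h0

/-- Let G be a finite group and N a proper non-trivial normal subgroup such that for every g outside N the conjugacy class of g is a union of cosets of N (equivalently gn is conjugate to g for every n ∈ N). Then either every element of G outside N acts fixed-point-freely on N (C_G(x) ≤ N for all x ∈ N, x ≠ 1, so G is a Frobenius group with kernel N), or N has prime-power order, or G/N has prime-power order. -/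
theorem result {G : Type*} [Group G] [Finite G] (N : Subgroup G) [N.Normal] (hN1 : N ≠ ⊥) (hN2 : N ≠ ⊤)
    (hcam : ∀ g : G, g ∉ N → ∀ n ∈ N, ∃ x : G, x * g * x⁻¹ = g * n) :
    (∀ x ∈ N, x ≠ 1 → Subgroup.centralizer ({x} : Set G) ≤ N) ∨ IsPrimePow (Nat.card N) ∨ IsPrimePow N.index := by
  have h : Cam N := hcam
  by_cases hcop : Nat.Coprime (Nat.card N) N.index
  · left
    exact h.frobenius hcop
  · right
    by_contra hcon
    push Not at hcon
    obtain ⟨hcN, hcI⟩ := hcon
    obtain ⟨p, hp, hpN, hpI⟩ := Nat.Prime.not_coprime_iff_dvd.mp hcop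
    obtain ⟨q, hq, hqp, hqN⟩ := exists_prime_ne_dvd Nat.card_pos.ne' hp hpN hcN
    obtain ⟨r, hr, hrp, hrI⟩ :=
      exists_prime_ne_dvd Subgroup.index_ne_zero_of_finite hp hpI hcI
    have : Fact p.Prime := ⟨hp⟩
    have : Fact q.Prime := ⟨hq⟩
    have : Fact r.Prime := ⟨hr⟩
    exact h.final hpN hpI hqp hqN hrp hrI

end Cfsg.Agent.S4140
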