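import Cfsg.Statements.S4142
import Mathlib

set_option autoImplicit false
open Cfsg

namespace Cfsg.Agent.S4142

/-- The preimage in `G` of the centralizer of `gN` in `G/N`. -/
def preCent {G : Type*} [Group G] (N : Subgroup G) [N.Normal] (g : G) : Subgroup G :=
  (Subgroup.centralizer ({(QuotientGroup.mk g : G ⧸ N)} : Set (G ⧸ N))).comap (QuotientGroup.mk' N)

theorem mem_preCent {G : Type*} [Group G] (N : Subgroup G) [N.Normal] (g y : G) :
    y ∈ preCent N g ↔ g⁻¹ * (y * g * y⁻¹) ∈ N := by
  unfold preCent
  rw [Subgroup.mem_comap, Subgroup.mem_centralizer_singleton_iff]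
  simp only [QuotientGroup.mk'_apply]
  rw [← QuotientGroup.mk_mul, ← QuotientGroup.mk_mul, eq_comm, QuotientGroup.eq]
  constructor
  · intro h
    have h3 : g⁻¹ * (y * g * y⁻¹) = y * ((g * y)⁻¹ * (y * g)) * y⁻¹ := by group
    rw [h3]
    exact (inferInstance : N.Normal).conj_mem _ h y
  · intro h
    have h3 : (g * y)⁻¹ * (y * g) = y⁻¹ * (g⁻¹ * (y * g * y⁻¹)) * y⁻¹⁻¹ := by group
    rw [h3]
    exact (inferInstance : N.Normal).conj_mem _ h y⁻¹

theorem card_preCent {G : Type*} [Group G] [Finite G] (N : Subgroup G) [N.Normal] (g : G) :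
    Nat.card (preCent N g) =
      Nat.card (Subgroup.centralizer ({(QuotientGroup.mk g : G ⧸ N)} : Set (G ⧸ N))) * Nat.card N := by
  classical
  set Cb := Subgroup.centralizer ({(QuotientGroup.mk g : G ⧸ N)} : Set (G ⧸ N)) with hCb
  have hidx : (preCent N g).index = Cb.index :=
    Subgroup.index_comap_of_surjective Cb (QuotientGroup.mk'_surjective N)
  have h1 : Nat.card (preCent N g) * (preCent N g).index = Nat.card G := Subgroup.card_mul_index _
  have h2 : Nat.card Cb * Cb.index = Nat.card (G ⧸ N) := Subgroup.card_mul_index _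
  have h3 : Nat.card G = Nat.card (G ⧸ N) * Nat.card N :=
    Subgroup.card_eq_card_quotient_mul_card_subgroup N
  have hpos : 0 < Cb.index := Nat.pos_of_ne_zero Subgroup.index_ne_zero_of_finite
  rw [hidx] at h1
  have : Nat.card (preCent N g) * Cb.index = Nat.card Cb * Nat.card N * Cb.index := by
    rw [h1, h3, ← h2]; ring
  exact Nat.eq_of_mul_eq_mul_right hpos this

/-- The set of `n ∈ N` such that `g n` is conjugate to `g`. -/
def twistSet {G : Type*} [Group G] (g : G) : Set G :=
  {n | ∃ y : G, y * g * y⁻¹ = g * n}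

theorem card_twistSet_inter {G : Type*} [Group G] [Finite G] (N : Subgroup G) [N.Normal] (g : G) :
    Nat.card ↥(twistSet g ∩ (N : Set G)) * Nat.card (Subgroup.centralizer ({g} : Set G)) =
      Nat.card (preCent N g) := by
  classical
  set C := Subgroup.centralizer ({g} : Set G) with hC
  set D := preCent N g with hD
  have hCD : C ≤ D := by
    intro y hy
    rw [hD, mem_preCent]
    have : y * g = g * y := (Subgroup.mem_centralizer_singleton_iff.mp hy)
    rw [this]
    simp
  let f : D ⧸ (C.subgroupOf D) → G := Quotient.lift (fun y : D => g⁻¹ * ((y : G) * g * (y : G)⁻¹)) (by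
    intro a b hab
    have hab' : a⁻¹ * b ∈ C.subgroupOf D := QuotientGroup.leftRel_apply.mp hab
    rw [Subgroup.mem_subgroupOf] at hab'
    have h1 : ((a⁻¹ * b : D) : G) * g = g * ((a⁻¹ * b : D) : G) :=
      (Subgroup.mem_centralizer_singleton_iff.mp hab')
    simp only [Subgroup.coe_mul, Subgroup.coe_inv] at h1
    show g⁻¹ * ((a : G) * g * (a : G)⁻¹) = g⁻¹ * ((b : G) * g * (b : G)⁻¹)
    congr 1
    have h2 : (b : G) * g * (b : G)⁻¹ = (a : G) * (((a : G)⁻¹ * (b : G)) * g) * (b : G)⁻¹ := by group
    rw [h2, h1]; group)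
  have hf_inj : Function.Injective f := by
    intro q₁ q₂
    refine Quotient.inductionOn₂ q₁ q₂ ?_
    intro a b hab
    have hab' : g⁻¹ * ((a : G) * g * (a : G)⁻¹) = g⁻¹ * ((b : G) * g * (b : G)⁻¹) := hab
    apply Quotient.sound
    apply QuotientGroup.leftRel_apply.mpr
    rw [Subgroup.mem_subgroupOf]
    apply Subgroup.mem_centralizer_singleton_iff.mpr
    simp only [Subgroup.coe_mul, Subgroup.coe_inv]
    have h3 : (a : G) * g * (a : G)⁻¹ = (b : G) * g * (b : G)⁻¹ := mul_left_cancel hab'
    have h4 : (a : G)⁻¹ * (b : G) * g = (a : G)⁻¹ * ((b : G) * g * (b : G)⁻¹) * (b : G) := by group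
    rw [h4, ← h3]; group
  have hrange : Set.range f = twistSet g ∩ (N : Set G) := by
    ext n
    constructor
    · rintro ⟨q, rfl⟩
      refine Quotient.inductionOn q ?_
      intro a
      refine ⟨⟨(a : G), ?_⟩, ?_⟩
      · show (a : G) * g * (a : G)⁻¹ = g * (g⁻¹ * ((a : G) * g * (a : G)⁻¹))
        group
      · exact (mem_preCent N g a).mp a.2
    · rintro ⟨⟨y, hy⟩, hn⟩
      have hyD : y ∈ D := by
        rw [hD, mem_preCent, hy]
        simpa using hn
      refine ⟨QuotientGroup.mk ⟨y, hyD⟩, ?_⟩
      show g⁻¹ * (y * g * y⁻¹) = n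
      rw [hy]; group
  have h5 : Nat.card ↥(twistSet g ∩ (N : Set G)) = (C.subgroupOf D).index := by
    rw [← hrange, Nat.card_range_of_injective hf_inj]
    rfl
  have h6 : Nat.card (C.subgroupOf D) = Nat.card C :=
    Nat.card_congr (Subgroup.subgroupOfEquivOfLe hCD).toEquiv
  rw [h5, ← h6, mul_comm]
  exact Subgroup.card_mul_index _

/-- Let G be a finite group and N a normal subgroup. Then the conjugacy class of every element g outside N is a union of cosets of N (gn is conjugate to g for all n ∈ N) if and only if for every g outside N the centralizer of g in G has the same order as the centralizer of gN in G/N. -/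
theorem result {G : Type*} [Group G] [Finite G] (N : Subgroup G) [N.Normal] :
    (∀ g : G, g ∉ N → ∀ n ∈ N, ∃ x : G, x * g * x⁻¹ = g * n) ↔
      ∀ g : G, g ∉ N → Nat.card (Subgroup.centralizer ({g} : Set G)) =
        Nat.card (Subgroup.centralizer ({(QuotientGroup.mk g : G ⧸ N)} : Set (G ⧸ N))) := by
  classical
  have key : ∀ g : G, (∀ n ∈ N, ∃ x : G, x * g * x⁻¹ = g * n) ↔
      Nat.card (Subgroup.centralizer ({g} : Set G)) =
        Nat.card (Subgroup.centralizer ({(QuotientGroup.mk g : G ⧸ N)} : Set (G ⧸ N))) := by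
    intro g
    have h1 := card_twistSet_inter N g
    rw [card_preCent N g] at h1
    have hNpos : 0 < Nat.card N := Nat.card_pos
    have hCpos : 0 < Nat.card (Subgroup.centralizer ({g} : Set G)) := Nat.card_pos
    constructor
    · intro hcam
      have hS : twistSet g ∩ (N : Set G) = (N : Set G) := by
        apply Set.inter_eq_right.mpr
        intro n hn
        exact hcam n hn
      rw [hS] at h1
      have h2 : Nat.card ↥(N : Set G) = Nat.card N := rfl
      rw [h2, mul_comm] at h1
      exact Nat.eq_of_mul_eq_mul_right hNpos h1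
    · intro hcard n hn
      rw [← hcard, mul_comm] at h1
      have h2 : Nat.card ↥(twistSet g ∩ (N : Set G)) = Nat.card ↥(N : Set G) :=
        Nat.eq_of_mul_eq_mul_left hCpos h1
      have hsub : twistSet g ∩ (N : Set G) ⊆ (N : Set G) := Set.inter_subset_right
      have hfin : (N : Set G).Finite := Set.toFinite _
      have heq : twistSet g ∩ (N : Set G) = (N : Set G) := by
        apply Set.eq_of_subset_of_ncard_le hsub _ hfin
        rw [← Nat.card_coe_set_eq, ← Nat.card_coe_set_eq, h2]
      have : n ∈ twistSet g ∩ (N : Set G) := by rw [heq]; exact hn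
      exact this.1
  constructor
  · intro h g hg
    exact (key g).mp (h g hg)
  · intro h g hg
    exact (key g).mpr (h g hg)

end Cfsg.Agent.S4142
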