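import Cfsg.Statements.S4143
import Cfsg.Agent.Lib.Helper20_Suzuki
-- import your own Cfsg.Agent.* helpers here

set_option autoImplicit false
open Cfsg

namespace Cfsg.Agent.S4143

open Cfsg.Agent.Lib.Helper20_RankTwoOmega Cfsg.Agent.Lib.Helper20_Suzuki

/-- Let X be a finite p-group of order p^n containing a non-abelian subgroup B of order p³ with C_X(B) ≤ B. Then X has nilpotency class n − 1 (maximal class). -/
theorem result {X : Type*} [Group X] [Finite X] {p : ℕ} [Fact p.Prime] (n : ℕ) (hX : Nat.card X = p ^ n)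
    (B : Subgroup X) (hB : Nat.card B = p ^ 3) (hBna : ¬ IsMulCommutative B) (hC : Subgroup.centralizer (B : Set X) ≤ B) :
    Group.nilpotencyClass X = n - 1 := by
  have hpP : p.Prime := Fact.out
  have hG : IsPGroup p X := IsPGroup.of_card hX
  have hnil : Group.IsNilpotent X := hG.isNilpotent
  have hn3 : 3 ≤ n := by
    have h1 := Subgroup.card_le_card_group B
    rw [hB, hX] at h1
    exact (Nat.pow_le_pow_iff_right hpP.one_lt).mp h1
  have hnt : Nontrivial X := by
    rw [← Finite.one_lt_card_iff_nontrivial, hX]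
    exact Nat.one_lt_pow (by omega) hpP.one_lt
  -- non-commuting elements of `B`
  obtain ⟨u, hu, v, hv, huv⟩ : ∃ u ∈ B, ∃ v ∈ B, u * v ≠ v * u := by
    by_contra hall
    push Not at hall
    apply hBna
    exact ⟨⟨fun a b => Subtype.ext (hall a.1 a.2 b.1 b.2)⟩⟩
  -- subgroups of `B` containing `u`, `v` are all of `B`
  have hK : ∀ K : Subgroup X, K ≤ B → u ∈ K → v ∈ K → K = B := by
    intro K hKB huK hvK
    apply Subgroup.eq_of_le_of_card_ge hKB
    have h1 : Nat.card K ∣ p ^ 3 := hB ▸ Subgroup.card_dvd_of_le hKB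
    obtain ⟨j, hj3, hj⟩ := (Nat.dvd_prime_pow hpP).mp h1
    have hj3' : j = 3 := by
      by_contra hne
      have hj2 : j ≤ 2 := by omega
      have hKp : IsPGroup p K := hG.to_subgroup K
      have hKnil : Group.IsNilpotent K := hKp.isNilpotent
      have hcl : Group.nilpotencyClass K ≤ 1 := by
        apply nilpotencyClass_le_of_card_le p 0 K hKp
        rw [hj]
        exact Nat.pow_le_pow_right hpP.pos hj2
      have hKc : IsMulCommutative K := Group.IsNilpotent.nilpotencyClass_le_one_iff.mp hcl
      apply huv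
      have := hKc.is_comm.comm ⟨u, huK⟩ ⟨v, hvK⟩
      exact congrArg Subtype.val this
    rw [hB, hj, hj3']
  set C := Subgroup.centralizer (B : Set X) with hCdef
  set Z := Subgroup.center X with hZdef
  have hZC : Z ≤ C := Subgroup.center_le_centralizer _
  have huC : u ∉ C := by
    intro h
    apply huv
    exact ((Subgroup.mem_centralizer_iff.mp h) v hv).symm
  have hZge : p ≤ Nat.card Z := card_center_ge hG
  have hCcard : Nat.card C = p := by
    have h1 : Nat.card C ∣ p ^ 3 := hB ▸ Subgroup.card_dvd_of_le hC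
    obtain ⟨j, hj3, hj⟩ := (Nat.dvd_prime_pow hpP).mp h1
    have hj0 : j ≠ 0 := by
      intro h0
      have h2 := Subgroup.card_le_of_le hZC
      rw [hj, h0, pow_zero] at h2
      have := hpP.one_lt
      omega
    have hj3' : j ≠ 3 := by
      intro h3
      apply huC
      have : C = B := Subgroup.eq_of_le_of_card_ge hC (by rw [hB, hj, h3])
      rw [this]
      exact hu
    have hj2 : j ≠ 2 := by
      intro h2
      set K := C ⊔ Subgroup.zpowers u with hKdef
      have hKB : K ≤ B := sup_le hC (Subgroup.zpowers_le.mpr hu)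
      have hKcen : K ≤ Subgroup.centralizer ({u} : Set X) := by
        apply sup_le
        · intro c hc
          rw [Subgroup.mem_centralizer_iff]
          intro h hh
          rw [Set.mem_singleton_iff] at hh
          rw [hh]
          exact (Subgroup.mem_centralizer_iff.mp hc) u hu
        · rw [Subgroup.zpowers_le]
          rw [Subgroup.mem_centralizer_iff]
          intro h hh
          rw [Set.mem_singleton_iff] at hh
          rw [hh]
      have hKeq : K = B := by
        apply Subgroup.eq_of_le_of_card_ge hKB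
        have h3 : Nat.card K ∣ p ^ 3 := hB ▸ Subgroup.card_dvd_of_le hKB
        obtain ⟨i, hi3, hi⟩ := (Nat.dvd_prime_pow hpP).mp h3
        have h4 : Nat.card C ∣ Nat.card K := Subgroup.card_dvd_of_le le_sup_left
        rw [hj, h2, hi] at h4
        have hi2 : 2 ≤ i := (Nat.pow_dvd_pow_iff_le_right hpP.one_lt).mp h4
        have hi2' : i ≠ 2 := by
          intro hi2'
          apply huC
          have h5 : C = K := by
            apply Subgroup.eq_of_le_of_card_ge le_sup_left
            rw [hj, h2, hi, hi2']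
          rw [h5]
          exact Subgroup.mem_sup_right (Subgroup.mem_zpowers u)
        have hi3' : i = 3 := by omega
        rw [hB, hi, hi3']
      have hvK : v ∈ K := by rw [hKeq]; exact hv
      have := (Subgroup.mem_centralizer_iff.mp (hKcen hvK)) u rfl
      exact huv this
    have hj1 : j = 1 := by omega
    rw [hj, hj1, pow_one]
  have hZeq : Z = C := Subgroup.eq_of_le_of_card_ge hZC (by rw [hCcard]; exact hZge)
  have hZcard : Nat.card Z = p := by rw [hZeq, hCcard]
  have hZB : Z ≤ B := hZC.trans hC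
  have hQcard : Nat.card (X ⧸ Z) = p ^ (n - 1) := by
    have h1 := Subgroup.card_eq_card_quotient_mul_card_subgroup Z
    have h2 : p ^ n = p ^ (n - 1) * p := by
      rw [← pow_succ]; congr 1; omega
    rw [hX, hZcard, h2] at h1
    exact (Nat.eq_of_mul_eq_mul_right hpP.pos h1).symm
  set π := QuotientGroup.mk' Z with hπ
  set Bbar : Subgroup (X ⧸ Z) := B.map π with hBbar
  have hcomap : Bbar.comap π = B := by
    rw [hBbar]
    apply Subgroup.comap_map_eq_self
    rw [hπ, QuotientGroup.ker_mk']
    exact hZB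
  have hBbar_card : Nat.card Bbar = p ^ 2 := by
    have h1 := card_comap_mk' Z Bbar
    rw [← hπ, hcomap, hB, hZcard] at h1
    have h2 : p ^ 3 = p ^ 2 * p := by ring
    rw [h2] at h1
    exact (Nat.eq_of_mul_eq_mul_right hpP.pos h1).symm
  have hBbar_comm : IsMulCommutative Bbar :=
    IsPGroup.isMulCommutative_of_card_eq_prime_sq hBbar_card
  set Dbar : Subgroup (X ⧸ Z) := Subgroup.centralizer (Bbar : Set (X ⧸ Z)) with hDbar
  have hBD : Bbar ≤ Dbar := by
    intro y hy
    rw [hDbar, Subgroup.mem_centralizer_iff]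
    intro h hh
    have := hBbar_comm.is_comm.comm ⟨h, hh⟩ ⟨y, hy⟩
    exact congrArg Subtype.val this
  set D : Subgroup X := Dbar.comap π with hD
  have hDmem : ∀ x : X, x ∈ D ↔ ∀ b ∈ B, x * b * x⁻¹ * b⁻¹ ∈ Z :=
    fun x => mem_comap_centralizer_map Z B x
  have hBleD : B ≤ D := by
    rw [← hcomap]
    exact Subgroup.comap_mono hBD
  set φu := commHomSub D Z le_rfl u (fun x hx => (hDmem x).mp hx u hu) with hφu
  set φv := commHomSub D Z le_rfl v (fun x hx => (hDmem x).mp hx v hv) with hφv
  set Φ := φu.prod φv with hΦ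
  have hker : Φ.ker.map D.subtype ≤ C := by
    rintro _ ⟨x, hx', rfl⟩
    have hx : x ∈ Φ.ker := hx'
    rw [MonoidHom.mem_ker, hΦ, MonoidHom.prod_apply, Prod.mk_eq_one] at hx
    have hxu : (x : X) * u = u * (x : X) :=
      (mem_commHomSub_ker D Z le_rfl u _ x).mp (MonoidHom.mem_ker.mpr hx.1)
    have hxv : (x : X) * v = v * (x : X) :=
      (mem_commHomSub_ker D Z le_rfl v _ x).mp (MonoidHom.mem_ker.mpr hx.2)
    -- `B ⊓ C(x)` contains `u`, `v`
    have hcs : ∀ a b : X, a * b = b * a → b ∈ Subgroup.centralizer ({a} : Set X) := by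
      intro a b hab
      rw [Subgroup.mem_centralizer_iff]
      intro h hh
      rw [Set.mem_singleton_iff] at hh
      rw [hh]; exact hab
    have h1 : B ⊓ Subgroup.centralizer ({(x : X)} : Set X) = B := by
      apply hK _ inf_le_left
      · exact Subgroup.mem_inf.mpr ⟨hu, hcs _ _ hxu⟩
      · exact Subgroup.mem_inf.mpr ⟨hv, hcs _ _ hxv⟩
    show (x : X) ∈ C
    rw [hCdef, Subgroup.mem_centralizer_iff]
    intro b hb
    have hb' : b ∈ B ⊓ Subgroup.centralizer ({(x : X)} : Set X) := by rw [h1]; exact hb
    exact ((Subgroup.mem_centralizer_iff.mp hb'.2) (x : X) rfl).symm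
  have hDle : Nat.card D ≤ p * (p * p) := by
    have h1 := Subgroup.card_mul_index Φ.ker
    rw [Subgroup.index_ker] at h1
    rw [← h1]
    apply Nat.mul_le_mul
    · rw [← Subgroup.card_subtype D Φ.ker, ← hCcard]
      exact Subgroup.card_le_of_le hker
    · have h2 := Subgroup.card_le_card_group Φ.range
      rwa [Nat.card_prod, hZcard] at h2
  have hDeq : B = D := by
    apply Subgroup.eq_of_le_of_card_ge hBleD
    rw [hB]
    calc Nat.card D ≤ p * (p * p) := hDle
      _ = p ^ 3 := by ring
  have hCD : Subgroup.centralizer (Bbar : Set (X ⧸ Z)) ≤ Bbar := by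
    intro y hy
    obtain ⟨x, rfl⟩ := QuotientGroup.mk'_surjective Z y
    have hxD : x ∈ D := hy
    rw [← hDeq] at hxD
    exact Subgroup.mem_map_of_mem _ hxD
  have h1 := suzuki hQcard Bbar hBbar_card hCD
  rw [Group.nilpotencyClass_eq_quotient_center_plus_one, h1]
  omega

end Cfsg.Agent.S4143
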