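import Cfsg.Statements.S4153
import Mathlib

set_option autoImplicit false
open Cfsg

namespace Cfsg.Agent.S4153

/-- If every fibre of `f` has at least `m` elements then `|β| * m ≤ |α|`. -/
theorem card_mul_le_of_fibers {α β : Type*} [Finite α] [Finite β] (f : α → β) (m : ℕ)
    (h : ∀ b, m ≤ Nat.card {a // f a = b}) : Nat.card β * m ≤ Nat.card α := by
  classical
  have : Fintype β := Fintype.ofFinite β
  rw [Nat.card_congr (Equiv.sigmaFiberEquiv f).symm, Nat.card_sigma, Nat.card_eq_fintype_card,
    ← Finset.card_univ, ← smul_eq_mul]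
  exact Finset.card_nsmul_le_sum _ _ _ (fun b _ => h b)

/-- If every fibre of `f` has at most `m` elements then `|α| ≤ |β| * m`. -/
theorem card_le_mul_of_fibers {α β : Type*} [Finite α] [Finite β] (f : α → β) (m : ℕ)
    (h : ∀ b, Nat.card {a // f a = b} ≤ m) : Nat.card α ≤ Nat.card β * m := by
  classical
  have : Fintype β := Fintype.ofFinite β
  rw [Nat.card_congr (Equiv.sigmaFiberEquiv f).symm, Nat.card_sigma, Nat.card_eq_fintype_card,
    ← Finset.card_univ, ← smul_eq_mul]
  exact Finset.sum_le_card_nsmul _ _ _ (fun b _ => h b)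

variable {G : Type*} [Group G]

theorem card_le_card_mul {H K : Subgroup G} (h : H ≤ K) : Nat.card H * H.relIndex K = Nat.card K := by
  have := Subgroup.relIndex_mul_relIndex ⊥ H K bot_le h
  rwa [Subgroup.relIndex_bot_left, Subgroup.relIndex_bot_left] at this

theorem card_inf_mul_card_map [Finite G] (N : Subgroup G) [N.Normal] (S : Subgroup G) :
    Nat.card ↥(N ⊓ S) * Nat.card (S.map (QuotientGroup.mk' N)) = Nat.card S := by
  have h1 : (QuotientGroup.mk' N).ker.relIndex S = Nat.card (S.map (QuotientGroup.mk' N)) :=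
    Subgroup.relIndex_ker (K := S) (QuotientGroup.mk' N)
  rw [QuotientGroup.ker_mk'] at h1
  rw [← h1, ← Subgroup.inf_relIndex_right]
  exact card_le_card_mul inf_le_right

theorem card_inf_sylow [Finite G] (p : ℕ) [Fact p.Prime] (N : Subgroup G) [N.Normal]
    (S : Sylow p G) (Pbar : Sylow p (G ⧸ N)) :
    Nat.card ↥(N ⊓ (S : Subgroup G)) * Nat.card (Pbar : Subgroup (G ⧸ N)) =
      Nat.card (S : Subgroup G) := by
  have h := card_inf_mul_card_map N (S : Subgroup G)
  have h2 : Nat.card ((S : Subgroup G).map (QuotientGroup.mk' N)) =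
      Nat.card (Pbar : Subgroup (G ⧸ N)) := by
    have h3 := (S.mapSurjective (QuotientGroup.mk'_surjective N)).card_eq_multiplicity
    rw [Pbar.card_eq_multiplicity]
    exact h3
  rw [← h2]; exact h

theorem isPElt_of_mem_sylow (p : ℕ) [Fact p.Prime] (S : Sylow p G) (s : G) (hs : s ∈ S) :
    ∃ k : ℕ, orderOf s = p ^ k := by
  obtain ⟨k, hk⟩ := IsPGroup.iff_orderOf.mp S.isPGroup' ⟨s, hs⟩
  exact ⟨k, by rw [← hk]; exact (Subgroup.orderOf_mk s hs).symm⟩

theorem isPElt_map (p : ℕ) [Fact p.Prime] {H : Type*} [Group H] (f : G →* H) (g : G)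
    (hg : ∃ k : ℕ, orderOf g = p ^ k) : ∃ k : ℕ, orderOf (f g) = p ^ k := by
  obtain ⟨k, hk⟩ := hg
  have : orderOf (f g) ∣ p ^ k := by rw [← hk]; exact orderOf_map_dvd f g
  obtain ⟨j, -, hj⟩ := (Nat.dvd_prime_pow (Fact.out : p.Prime)).mp this
  exact ⟨j, hj⟩

theorem exists_sylow_lift [Finite G] (p : ℕ) [Fact p.Prime] (N : Subgroup G) [N.Normal]
    (q : G ⧸ N) (hq : ∃ k : ℕ, orderOf q = p ^ k) :
    ∃ (S : Sylow p G) (s : G), s ∈ S ∧ (QuotientGroup.mk s : G ⧸ N) = q := by
  obtain ⟨k, hk⟩ := hq
  have h1 : IsPGroup p (Subgroup.zpowers q) := by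
    apply IsPGroup.of_card (n := k)
    rw [Nat.card_zpowers, hk]
  obtain ⟨Q, hQ⟩ := h1.exists_le_sylow
  obtain ⟨S, hS⟩ := Sylow.mapSurjective_surjective (QuotientGroup.mk'_surjective N) p Q
  have h2 : q ∈ (S : Subgroup G).map (QuotientGroup.mk' N) := by
    have : q ∈ (Q : Subgroup (G ⧸ N)) := hQ (Subgroup.mem_zpowers q)
    rw [← hS] at this
    exact this
  obtain ⟨s, hs, hsq⟩ := h2
  exact ⟨S, s, hs, hsq⟩

/-- Let G be a finite group, p a prime, N a normal subgroup, P a Sylow p-subgroup of G and P̄ a Sylow p-subgroup of G/N. Count the elements of p-power order, the identity included. Then (number of such elements of G/N)/#P̄ ≤ (number of such elements of G)/#P, stated as a cross-multiplied inequality, with equality when N is central. -/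
theorem result {G : Type*} [Group G] [Finite G] (p : ℕ) [Fact p.Prime] (N : Subgroup G) [N.Normal]
    (P : Sylow p G) (Pbar : Sylow p (G ⧸ N)) :
    Nat.card {g : (G ⧸ N) // ∃ k : ℕ, orderOf g = p ^ k} * Nat.card (P : Subgroup G) ≤ Nat.card {g : G // ∃ k : ℕ, orderOf g = p ^ k} * Nat.card (Pbar : Subgroup (G ⧸ N)) ∧
    (N ≤ Subgroup.center G → Nat.card {g : (G ⧸ N) // ∃ k : ℕ, orderOf g = p ^ k} * Nat.card (P : Subgroup G) = Nat.card {g : G // ∃ k : ℕ, orderOf g = p ^ k} * Nat.card (Pbar : Subgroup (G ⧸ N))) := by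
  classical
  set m := Nat.card ↥(N ⊓ (P : Subgroup G)) with hm
  have hmP : m * Nat.card (Pbar : Subgroup (G ⧸ N)) = Nat.card (P : Subgroup G) :=
    card_inf_sylow p N P Pbar
  have hPbar_pos : 0 < Nat.card (Pbar : Subgroup (G ⧸ N)) := Nat.card_pos
  have hmS : ∀ S : Sylow p G, Nat.card ↥(N ⊓ (S : Subgroup G)) = m := by
    intro S
    have h1 := card_inf_sylow p N S Pbar
    have h2 : Nat.card (S : Subgroup G) = Nat.card (P : Subgroup G) := by
      rw [S.card_eq_multiplicity, P.card_eq_multiplicity]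
    rw [h2, ← hmP] at h1
    exact Nat.eq_of_mul_eq_mul_right hPbar_pos h1
  -- the map on `p`-elements
  let f : {g : G // ∃ k : ℕ, orderOf g = p ^ k} → {g : (G ⧸ N) // ∃ k : ℕ, orderOf g = p ^ k} :=
    fun g => ⟨QuotientGroup.mk' N g.1, isPElt_map p (QuotientGroup.mk' N) g.1 g.2⟩
  -- lower bound on the fibres
  have hlow : ∀ q, m ≤ Nat.card {a // f a = q} := by
    intro q
    obtain ⟨S, s, hs, hsq⟩ := exists_sylow_lift p N q.1 q.2
    rw [← hmS S]
    let φ : ↥(N ⊓ (S : Subgroup G)) → {a // f a = q} := fun t =>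
      ⟨⟨s * t.1, isPElt_of_mem_sylow p S _ (S.mul_mem hs t.2.2)⟩, by
        apply Subtype.ext
        show (QuotientGroup.mk (s * t.1) : G ⧸ N) = q.1
        rw [QuotientGroup.mk_mul, (QuotientGroup.eq_one_iff t.1).mpr t.2.1, mul_one, hsq]⟩
    have hφ : Function.Injective φ := by
      intro t t' htt'
      have h1 := congrArg (fun a : {a // f a = q} => (a.1.1 : G)) htt'
      simp only [φ] at h1
      exact Subtype.ext (mul_left_cancel h1)
    exact Nat.card_le_card_of_injective φ hφ
  have hineq : Nat.card {g : (G ⧸ N) // ∃ k : ℕ, orderOf g = p ^ k} * m ≤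
      Nat.card {g : G // ∃ k : ℕ, orderOf g = p ^ k} := card_mul_le_of_fibers f m hlow
  constructor
  · rw [← hmP, ← mul_assoc]
    exact Nat.mul_le_mul_right _ hineq
  · intro hcen
    have hup : ∀ q, Nat.card {a // f a = q} ≤ m := by
      intro q
      obtain ⟨S, s, hs, hsq⟩ := exists_sylow_lift p N q.1 q.2
      rw [← hmS S]
      have hmem : ∀ a : {a // f a = q}, s⁻¹ * a.1.1 ∈ N ⊓ (S : Subgroup G) := by
        intro a
        have ha : (QuotientGroup.mk a.1.1 : G ⧸ N) = q.1 := congrArg Subtype.val a.2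
        have hn : s⁻¹ * a.1.1 ∈ N := by
          rw [← QuotientGroup.eq, hsq, ha]
        refine ⟨hn, ?_⟩
        -- `n = s⁻¹ a` is a central `p`-element, so it lies in every Sylow subgroup
        set n := s⁻¹ * a.1.1 with hn_def
        have hncen : n ∈ Subgroup.center G := hcen hn
        have hcomm : Commute s⁻¹ a.1.1 := by
          have h1 : a.1.1 = s * n := by rw [hn_def]; group
          have h2 : Commute s n := (Subgroup.mem_center_iff.mp hncen s)
          rw [h1]
          exact (Commute.mul_right (Commute.refl s) h2).inv_left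
        obtain ⟨k1, hk1⟩ := isPElt_of_mem_sylow p S s hs
        obtain ⟨k2, hk2⟩ := a.1.2
        have hdvd : orderOf n ∣ p ^ (max k1 k2) := by
          refine (hcomm.orderOf_mul_dvd_lcm).trans ?_
          rw [orderOf_inv, hk1, hk2]
          apply Nat.lcm_dvd
          · exact pow_dvd_pow p (le_max_left _ _)
          · exact pow_dvd_pow p (le_max_right _ _)
        have hnorm : (Subgroup.zpowers n).Normal := by
          constructor
          intro x hx g
          have hxc : x ∈ Subgroup.center G := by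
            obtain ⟨j, rfl⟩ := hx
            exact Subgroup.zpow_mem _ hncen j
          have : g * x * g⁻¹ = x := by
            rw [Subgroup.mem_center_iff.mp hxc g]; group
          rw [this]; exact hx
        have hpg : IsPGroup p (Subgroup.zpowers n) := by
          obtain ⟨j, -, hj⟩ := (Nat.dvd_prime_pow (Fact.out : p.Prime)).mp hdvd
          apply IsPGroup.of_card (n := j)
          rw [Nat.card_zpowers, hj]
        exact (hpg.le_sylow_of_normal S) (Subgroup.mem_zpowers n)
      let φ : {a // f a = q} → ↥(N ⊓ (S : Subgroup G)) := fun a => ⟨s⁻¹ * a.1.1, hmem a⟩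
      have hφ : Function.Injective φ := by
        intro a a' haa'
        have h1 := congrArg (fun t : ↥(N ⊓ (S : Subgroup G)) => (t : G)) haa'
        simp only [φ] at h1
        exact Subtype.ext (Subtype.ext (mul_left_cancel h1))
      exact Nat.card_le_card_of_injective φ hφ
    have hineq2 := card_le_mul_of_fibers f m hup
    have heq : Nat.card {g : (G ⧸ N) // ∃ k : ℕ, orderOf g = p ^ k} * m =
        Nat.card {g : G // ∃ k : ℕ, orderOf g = p ^ k} := le_antisymm hineq hineq2
    rw [← hmP, ← mul_assoc, heq]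

end Cfsg.Agent.S4153
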