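import Cfsg.Statements.S4154
import Mathlib

set_option autoImplicit false
open Cfsg

namespace Cfsg.Agent.S4154

/-- The fixed-point subgroup of an automorphism. -/
def fixedSubgroup {G : Type*} [Group G] (α : MulAut G) : Subgroup G where
  carrier := {c | α c = c}
  one_mem' := by simp
  mul_mem' := by
    intro a b ha hb
    simp only [Set.mem_ofPred_eq] at *
    rw [map_mul, ha, hb]
  inv_mem' := by
    intro a ha
    simp only [Set.mem_ofPred_eq] at *
    rw [map_inv, ha]

theorem mem_fixedSubgroup {G : Type*} [Group G] (α : MulAut G) (c : G) :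
    c ∈ fixedSubgroup α ↔ α c = c := Iff.rfl

/-- The number of "commutators" `g⁻¹ α(g)` is the index of the fixed subgroup. -/
theorem card_range_kappa {G : Type*} [Group G] [Finite G] (α : MulAut G) :
    Nat.card (Set.range fun g : G => g⁻¹ * α g) = (fixedSubgroup α).index := by
  classical
  let C := fixedSubgroup α
  let f : G ⧸ C → G := Quotient.lift (fun g : G => g * α g⁻¹) (by
    intro a b hab
    have hab' : a⁻¹ * b ∈ C := QuotientGroup.leftRel_apply.mp hab
    have h1 : α (a⁻¹ * b) = a⁻¹ * b := hab'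
    have hb : b = a * (a⁻¹ * b) := by group
    show a * α a⁻¹ = b * α b⁻¹
    have h2 : α b⁻¹ = (a⁻¹ * b)⁻¹ * α a⁻¹ := by
      have : b⁻¹ = (a⁻¹ * b)⁻¹ * a⁻¹ := by group
      conv_lhs => rw [this]
      rw [map_mul, map_inv, h1]
    rw [h2]; group)
  have hf_inj : Function.Injective f := by
    intro q₁ q₂
    refine Quotient.inductionOn₂ q₁ q₂ ?_
    intro a b hab
    have hab' : a * α a⁻¹ = b * α b⁻¹ := hab
    apply Quotient.sound
    apply QuotientGroup.leftRel_apply.mpr
    show α (a⁻¹ * b) = a⁻¹ * b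
    rw [map_mul]
    have h3 : α a⁻¹ = a⁻¹ * b * α b⁻¹ := by
      rw [mul_assoc, ← hab']; group
    rw [h3, mul_assoc, ← map_mul, inv_mul_cancel, map_one, mul_one]
  have hrange : Set.range f = Set.range fun g : G => g⁻¹ * α g := by
    ext y
    constructor
    · rintro ⟨q, rfl⟩
      refine Quotient.inductionOn q ?_
      intro a
      exact ⟨a⁻¹, by simp [f]⟩
    · rintro ⟨g, rfl⟩
      exact ⟨QuotientGroup.mk g⁻¹, by simp [f]⟩
  rw [← hrange, Nat.card_range_of_injective hf_inj]
  rfl

/-- Key lemma: if `G = C_G(α) · {g⁻¹ α(g)}` then a fixed "commutator" is trivial. -/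
theorem fixed_kappa_eq_one {G : Type*} [Group G] [Finite G] (α : MulAut G)
    (hccp : ∀ x : G, ∃ c g : G, α c = c ∧ x = c * (g⁻¹ * α g))
    (g : G) (hfix : α (g⁻¹ * α g) = g⁻¹ * α g) : g⁻¹ * α g = 1 := by
  classical
  let C := fixedSubgroup α
  let K := Set.range fun g : G => g⁻¹ * α g
  let m : C × K → G := fun ck => (ck.1 : G) * (ck.2 : G)
  have hm_surj : Function.Surjective m := by
    intro x
    obtain ⟨c, g, hc, hx⟩ := hccp x
    exact ⟨(⟨c, hc⟩, ⟨g⁻¹ * α g, ⟨g, rfl⟩⟩), hx.symm⟩
  have hcard : Nat.card (C × K) ≤ Nat.card G := by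
    rw [Nat.card_prod, card_range_kappa α, Subgroup.card_mul_index]
  have hm_bij := hm_surj.bijective_of_nat_card_le hcard
  have h1 : m (⟨g⁻¹ * α g, hfix⟩, ⟨1, ⟨1, by simp⟩⟩) = m (1, ⟨g⁻¹ * α g, ⟨g, rfl⟩⟩) := by
    simp [m]
  have h2 := hm_bij.1 h1
  have h3 := congrArg (fun ck : C × K => (ck.1 : G)) h2
  simpa using h3

/-- Let G be a finite group and α an automorphism of G such that every element of G is the product of an element fixed by α and an element of the form g⁻¹α(g). If N is a normal α-invariant subgroup, then the automorphism ᾱ induced on G/N has the same property, and every coset fixed by ᾱ contains an element fixed by α (so the fixed points of ᾱ are the images of the fixed points of α). -/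
theorem result {G : Type*} [Group G] [Finite G] (α : MulAut G)
    (hccp : ∀ x : G, ∃ c g : G, α c = c ∧ x = c * (g⁻¹ * α g))
    (N : Subgroup G) [N.Normal] (hN : ∀ n ∈ N, α n ∈ N) :
    (∀ x : G, ∃ c g : G, c⁻¹ * α c ∈ N ∧ x⁻¹ * (c * (g⁻¹ * α g)) ∈ N) ∧
    (∀ x : G, x⁻¹ * α x ∈ N → ∃ c : G, α c = c ∧ c⁻¹ * x ∈ N) := by
  classical
  constructor
  · intro x
    obtain ⟨c, g, hc, hx⟩ := hccp x
    refine ⟨c, g, ?_, ?_⟩
    · rw [hc, inv_mul_cancel]; exact N.one_mem
    · rw [← hx, inv_mul_cancel]; exact N.one_mem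
  · intro x hx
    -- the induced automorphism on the quotient
    have hmap : N.map (α : G →* G) = N := by
      have hle : N.map (α : G →* G) ≤ N := by
        rintro y ⟨n, hn, rfl⟩
        exact hN n hn
      apply Subgroup.eq_of_le_of_card_ge hle
      rw [Subgroup.card_map_of_injective]
      exact α.injective
    let β : MulAut (G ⧸ N) := QuotientGroup.congr N N α hmap
    have hβ : ∀ y : G, β (QuotientGroup.mk y) = QuotientGroup.mk (α y) := fun y =>
      QuotientGroup.congr_mk N N α hmap y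
    have hccp' : ∀ y : G ⧸ N, ∃ c g : G ⧸ N, β c = c ∧ y = c * (g⁻¹ * β g) := by
      intro y
      refine QuotientGroup.induction_on y ?_
      intro z
      obtain ⟨c, g, hc, hz⟩ := hccp z
      refine ⟨QuotientGroup.mk c, QuotientGroup.mk g, ?_, ?_⟩
      · rw [hβ, hc]
      · rw [hβ, hz]; rfl
    obtain ⟨c, g, hc, hxc⟩ := hccp x
    refine ⟨c, hc, ?_⟩
    have hkey := fixed_kappa_eq_one β hccp' (QuotientGroup.mk g) ?_
    · rw [hβ] at hkey
      have h4 : ((g⁻¹ * α g : G) : G ⧸ N) = 1 := hkey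
      rw [QuotientGroup.eq_one_iff] at h4
      have : c⁻¹ * x = g⁻¹ * α g := by rw [hxc]; group
      rw [this]; exact h4
    · -- the image of `g⁻¹ α g = c⁻¹ x` is fixed by β
      rw [hβ]
      have e1 : ((QuotientGroup.mk g : G ⧸ N))⁻¹ * QuotientGroup.mk (α g) =
          QuotientGroup.mk (c⁻¹ * x) := by
        have : c⁻¹ * x = g⁻¹ * α g := by rw [hxc]; group
        rw [this]; rfl
      rw [e1, hβ, map_mul, map_inv, hc]
      rw [QuotientGroup.eq]
      have : (c⁻¹ * α x)⁻¹ * (c⁻¹ * x) = (x⁻¹ * α x)⁻¹ := by group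
      rw [this]
      exact N.inv_mem hx

end Cfsg.Agent.S4154
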