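import Cfsg.Statements.S4155
import Cfsg.Agent.Lib.Helper1_Cores
import Cfsg.Agent.Lib.Helper48_Generation
import Cfsg.Agent.S0016
import Cfsg.Agent.S3057
import Cfsg.Agent.S4107

set_option autoImplicit false
open Cfsg

namespace Cfsg.Agent.S4155

open Cfsg.Agent.Lib.Helper1_Cores

/-- The image in `G` of a Sylow subgroup of a normal nilpotent subgroup `N` lies in
`O_s(G) ⊓ N`. -/
theorem sylow_map_le {G : Type*} [Group G] [Finite G] (N : Subgroup G) [N.Normal]
    (hnil : Group.IsNilpotent N) (s : ℕ) [Fact s.Prime] (S : Sylow s N) :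
    (S : Subgroup N).map N.subtype ≤ Cfsg.pCore s G ⊓ N := by
  have : (S : Subgroup N).Normal := inferInstance
  have : (S : Subgroup N).Characteristic := S.characteristic_of_normal inferInstance
  have hnorm : ((S : Subgroup N).map N.subtype).Normal := inferInstance
  exact le_inf (le_pCore hnorm (S.isPGroup'.map _)) (Subgroup.map_subtype_le _)

/-- `O_r(G) ⊓ N ≠ ⊥` when `r` divides `|N|`. -/
theorem pCore_inf_ne_bot {G : Type*} [Group G] [Finite G] (N : Subgroup G) [N.Normal]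
    (hnil : Group.IsNilpotent N) (r : ℕ) [Fact r.Prime] (hr : r ∣ Nat.card N) :
    Cfsg.pCore r G ⊓ N ≠ ⊥ := by
  obtain ⟨S⟩ : Nonempty (Sylow r N) := inferInstance
  have h1 : (S : Subgroup N) ≠ ⊥ := S.ne_bot_of_dvd_card hr
  intro h
  apply h1
  have h2 := sylow_map_le N hnil r S
  rw [h, le_bot_iff] at h2
  exact (Subgroup.map_eq_bot_iff_of_injective _ N.subtype_injective).mp h2

/-- Every `q`-element of `N` lies in `O_q(G) ⊓ N`. -/
theorem mem_pCore_inf {G : Type*} [Group G] [Finite G] (N : Subgroup G) [N.Normal]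
    (hnil : Group.IsNilpotent N) (q : ℕ) [Fact q.Prime] {t : G} (htN : t ∈ N) {k : ℕ}
    (ht : t ^ q ^ k = 1) : t ∈ Cfsg.pCore q G ⊓ N := by
  have hZ : IsPGroup q (Subgroup.zpowers (⟨t, htN⟩ : N)) := by
    apply IsPGroup.of_card_dvd_pow (n := k)
    rw [Nat.card_zpowers]
    apply orderOf_dvd_of_pow_eq_one
    exact Subtype.ext (by simpa using ht)
  obtain ⟨S, hS⟩ := hZ.exists_le_sylow
  apply sylow_map_le N hnil q S
  exact ⟨⟨t, htN⟩, hS (Subgroup.mem_zpowers _), rfl⟩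

/-- Fixed-point-freeness modulo `M = O_q(G) ⊓ N`: a `q`-element `t ∉ N` whose image in `G ⧸ M`
commutes with the image of `u ∈ O_r(G) ⊓ N` forces `u = 1`. -/
theorem eq_one_of_commute_mk {G : Type*} [Group G] [Finite G] (N : Subgroup G) [N.Normal]
    (heq : ∀ x : G, x ∉ N → ∀ n ∈ N, orderOf (x * n) = orderOf x)
    (q r : ℕ) [Fact q.Prime] [Fact r.Prime] (hqr : q ≠ r) {t u : G} {k : ℕ}
    (ht : t ^ q ^ k = 1) (htN : t ∉ N) (hu : u ∈ Cfsg.pCore r G ⊓ N)
    (hcomm : ((t : G) : G ⧸ (Cfsg.pCore q G ⊓ N)) * (u : G) = (u : G) * (t : G)) : u = 1 := by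
  set M := Cfsg.pCore q G ⊓ N with hM
  set R := Cfsg.pCore r G ⊓ N with hR
  have hMq : IsPGroup q M := (pCore_isPGroup q).to_le inf_le_left
  have hRr : IsPGroup r R := (pCore_isPGroup r).to_le inf_le_left
  have hRn : R.Normal := inferInstance
  have hc1 : t * u * t⁻¹ * u⁻¹ ∈ M := by
    rw [← QuotientGroup.eq_one_iff]
    simp only [QuotientGroup.mk_mul, QuotientGroup.mk_inv]
    rw [hcomm, mul_assoc (u : G ⧸ M), mul_inv_cancel, mul_one, mul_inv_cancel]
  have hc2 : t * u * t⁻¹ * u⁻¹ ∈ R := R.mul_mem (hRn.conj_mem u hu t) (R.inv_mem hu)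
  have hdisj : Disjoint M R := IsPGroup.disjoint_of_ne q r hqr M R hMq hRr
  have hc : t * u * t⁻¹ * u⁻¹ = 1 := by
    have := (Subgroup.disjoint_def.mp hdisj) hc1 hc2
    exact this
  have htu : Commute t u := by
    show t * u = u * t
    calc t * u = (t * u * t⁻¹ * u⁻¹) * (u * t) := by group
      _ = u * t := by rw [hc, one_mul]
  have h1 : orderOf (t * u) = orderOf t := heq t htN u hu.2
  have h2 : (t * u) ^ orderOf t = 1 := by rw [← h1]; exact pow_orderOf_eq_one _
  rw [htu.mul_pow, pow_orderOf_eq_one, one_mul] at h2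
  have h3 : orderOf u ∣ q ^ k :=
    (orderOf_dvd_of_pow_eq_one h2).trans (orderOf_dvd_of_pow_eq_one ht)
  obtain ⟨j, hj⟩ := hRr ⟨u, hu⟩
  have hj' : u ^ r ^ j = 1 := by simpa using congrArg Subtype.val hj
  have h4 : orderOf u ∣ r ^ j := orderOf_dvd_of_pow_eq_one hj'
  have hcop : (q ^ k).Coprime (r ^ j) :=
    Nat.Coprime.pow _ _ ((Nat.coprime_primes Fact.out Fact.out).mpr hqr)
  exact orderOf_eq_one_iff.mp (Nat.eq_one_of_dvd_coprimes hcop h3 h4)

/-- A `q`-group with two different subgroups of order `q` contains commuting elements `a`, `b` of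
order `q` with `a ∉ ⟨b⟩`. -/
theorem exists_pair_of_not_U {G' : Type*} [Group G'] [Finite G'] (q : ℕ) [hq : Fact q.Prime]
    (S : Subgroup G') (hS : IsPGroup q S) (h : ¬ Cfsg.Agent.S3057.U q S) :
    ∃ a b : G', a ∈ S ∧ b ∈ S ∧ orderOf a = q ∧ orderOf b = q ∧ a * b = b * a ∧
      a ∉ Subgroup.zpowers b := by
  unfold Cfsg.Agent.S3057.U at h
  push Not at h
  obtain ⟨X, Y, hXS, hYS, hXc, hYc, hXY⟩ := h
  have hS1 : S ≠ ⊥ := by
    rintro rfl
    have : X = ⊥ := le_bot_iff.mp hXS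
    rw [this, Subgroup.card_bot] at hXc
    exact hq.out.one_lt.ne hXc
  have hSnt : Nontrivial ↥S := (Subgroup.nontrivial_iff_ne_bot _).mpr hS1
  have hcnt : Nontrivial (Subgroup.center ↥S) := hS.center_nontrivial
  have hcp : IsPGroup q (Subgroup.center ↥S) := hS.to_subgroup _
  have hpc : q ∣ Nat.card (Subgroup.center ↥S) := by
    obtain ⟨k, hk⟩ := IsPGroup.iff_card.mp hcp
    rw [hk]
    rcases k with _ | k
    · exfalso
      rw [pow_zero] at hk
      have := (Nat.card_eq_one_iff_unique.mp hk).1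
      exact not_subsingleton _ this
    · exact dvd_pow_self q (Nat.succ_ne_zero k)
  obtain ⟨z, hz⟩ := exists_prime_orderOf_dvd_card' (G := ↥(Subgroup.center ↥S)) q hpc
  set b : G' := ((z : ↥S) : G') with hb
  have hbS : b ∈ S := (z : ↥S).2
  have hbo : orderOf b = q := by
    rw [hb, Subgroup.orderOf_coe, Subgroup.orderOf_coe]; exact hz
  have hbcomm : ∀ s ∈ S, s * b = b * s := by
    intro s hs
    have := Subgroup.mem_center_iff.mp z.2 ⟨s, hs⟩
    exact congrArg Subtype.val this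
  have hexa : ∃ W : Subgroup G', W ≤ S ∧ Nat.card W = q ∧ W ≠ Subgroup.zpowers b := by
    by_cases hXb : X = Subgroup.zpowers b
    · exact ⟨Y, hYS, hYc, fun h => hXY (hXb.trans h.symm)⟩
    · exact ⟨X, hXS, hXc, hXb⟩
  obtain ⟨W, hWS, hWc, hWb⟩ := hexa
  obtain ⟨a, haW, ha1⟩ := Cfsg.Agent.S3057.exists_ne_one_of_card_prime hWc
  obtain ⟨hWa, hao⟩ := Cfsg.Agent.S3057.eq_zpowers_of_card_prime hWc haW ha1
  have haS : a ∈ S := hWS haW
  have hanb : a ∉ Subgroup.zpowers b := by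
    intro h
    apply hWb
    rw [hWa]
    apply Subgroup.eq_of_le_of_card_ge (Subgroup.zpowers_le.mpr h)
    rw [Nat.card_zpowers, Nat.card_zpowers, hao, hbo]
  exact ⟨a, b, haS, hbS, hao, hbo, hbcomm a haS, hanb⟩

/-- The image of a Sylow `q`-subgroup of `G` in `G ⧸ N` has at most one subgroup of order `q`. -/
theorem U_map {G : Type*} [Group G] [Finite G] (N : Subgroup G) [N.Normal]
    (heq : ∀ x : G, x ∉ N → ∀ n ∈ N, orderOf (x * n) = orderOf x)
    (hnil : Group.IsNilpotent N) (q r : ℕ) [hq : Fact q.Prime] [hr' : Fact r.Prime] (hqr : q ≠ r)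
    (hr : r ∣ Nat.card N) (T : Sylow q G) :
    Cfsg.Agent.S3057.U q ((T : Subgroup G).map (QuotientGroup.mk' N)) := by
  by_contra hU
  obtain ⟨a, b, haS, hbS, hao, hbo, hab, hanb⟩ :=
    exists_pair_of_not_U q _ (T.isPGroup'.map _) hU
  obtain ⟨ta, htaT, rfl⟩ := haS
  obtain ⟨tb, htbT, rfl⟩ := hbS
  simp only [QuotientGroup.mk'_apply] at hao hbo hab hanb
  set M := Cfsg.pCore q G ⊓ N with hM
  set R := Cfsg.pCore r G ⊓ N with hR
  have hTq : ∀ t ∈ (T : Subgroup G), ∃ k : ℕ, t ^ q ^ k = 1 := by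
    intro t ht
    obtain ⟨k, hk⟩ := T.isPGroup' ⟨t, ht⟩
    exact ⟨k, by simpa using congrArg Subtype.val hk⟩
  have hTM : ∀ t ∈ (T : Subgroup G), t ∈ N → t ∈ M := by
    intro t ht htN
    obtain ⟨k, hk⟩ := hTq t ht
    exact mem_pCore_inf N hnil q htN hk
  have hq1 : (1 : ℕ) ≠ q := hq.out.one_lt.ne
  have htbN : tb ∉ N := by
    intro h
    rw [(QuotientGroup.eq_one_iff tb).mpr h, orderOf_one] at hbo
    exact hq1 hbo
  -- images in `G ⧸ M`
  have ha1 : ((ta : G) : G ⧸ M) ^ q = 1 := by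
    rw [← QuotientGroup.mk_pow, QuotientGroup.eq_one_iff]
    apply hTM _ ((T : Subgroup G).pow_mem htaT q)
    rw [← QuotientGroup.eq_one_iff, QuotientGroup.mk_pow, ← hao, pow_orderOf_eq_one]
  have hb1 : ((tb : G) : G ⧸ M) ^ q = 1 := by
    rw [← QuotientGroup.mk_pow, QuotientGroup.eq_one_iff]
    apply hTM _ ((T : Subgroup G).pow_mem htbT q)
    rw [← QuotientGroup.eq_one_iff, QuotientGroup.mk_pow, ← hbo, pow_orderOf_eq_one]
  have hab1 : ((ta : G) : G ⧸ M) * (tb : G) = (tb : G) * (ta : G) := by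
    have hc : ta * tb * ta⁻¹ * tb⁻¹ ∈ M := by
      apply hTM _ ((T : Subgroup G).mul_mem ((T : Subgroup G).mul_mem
        ((T : Subgroup G).mul_mem htaT htbT) ((T : Subgroup G).inv_mem htaT))
        ((T : Subgroup G).inv_mem htbT))
      rw [← QuotientGroup.eq_one_iff]
      simp only [QuotientGroup.mk_mul, QuotientGroup.mk_inv]
      rw [hab, mul_assoc (tb : G ⧸ N), mul_inv_cancel, mul_one, mul_inv_cancel]
    have hc' := (QuotientGroup.eq_one_iff (N := M) _).mpr hc
    simp only [QuotientGroup.mk_mul, QuotientGroup.mk_inv] at hc'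
    calc ((ta : G) : G ⧸ M) * (tb : G)
        = ((ta : G) * (tb : G) * (ta : G ⧸ M)⁻¹ * (tb : G ⧸ M)⁻¹) * ((tb : G) * (ta : G)) := by
          group
      _ = (tb : G) * (ta : G) := by rw [hc', one_mul]
  set K1 : Subgroup (G ⧸ M) := R.map (QuotientGroup.mk' M) with hK1
  have hRr : IsPGroup r R := (pCore_isPGroup r).to_le inf_le_left
  have hMq : IsPGroup q M := (pCore_isPGroup q).to_le inf_le_left
  have hK1n : K1.Normal :=
    (inferInstance : R.Normal).map (QuotientGroup.mk' M) (QuotientGroup.mk'_surjective M)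
  have hnorm : ∀ g : G ⧸ M, g ∈ Subgroup.normalizer (K1 : Set (G ⧸ M)) := by
    intro g
    rw [Subgroup.normalizer_eq_top_iff.mpr hK1n]
    exact Subgroup.mem_top g
  have hcop : ¬ q ∣ Nat.card K1 := by
    obtain ⟨j, hj⟩ := IsPGroup.iff_card.mp (hRr.map (QuotientGroup.mk' M))
    rw [hK1, hj]
    intro h
    exact hqr ((Nat.prime_dvd_prime_iff_eq hq.out hr'.out).mp (hq.out.dvd_of_dvd_pow h))
  have hfpf : ∀ t ∈ (T : Subgroup G), t ∉ N →
      K1 ⊓ Subgroup.centralizer ({((t : G) : G ⧸ M)} : Set (G ⧸ M)) ≤ ⊥ := by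
    intro t htT htN x hx
    obtain ⟨⟨u, huR, rfl⟩, hxc⟩ := hx
    replace hxc : (QuotientGroup.mk' M) u ∈
      Subgroup.centralizer ({((t : G) : G ⧸ M)} : Set (G ⧸ M)) := hxc
    rw [Subgroup.mem_centralizer_singleton_iff] at hxc
    obtain ⟨k, hk⟩ := hTq t htT
    have := eq_one_of_commute_mk N heq q r hqr hk htN huR hxc.symm
    rw [this, map_one]
    exact Subgroup.mem_bot.mpr rfl
  have hle := Cfsg.Agent.Lib.Helper48_Generation.le_of_centralizers_le (p := q) K1 hcop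
    ((ta : G) : G ⧸ M) ((tb : G) : G ⧸ M) (hnorm _) (hnorm _) ha1 hb1 hab1 ⊥
    (hfpf tb htbT htbN) (fun i => by
      rw [← QuotientGroup.mk_pow, ← QuotientGroup.mk_mul]
      apply hfpf _ ((T : Subgroup G).mul_mem htaT ((T : Subgroup G).pow_mem htbT i))
      intro h
      apply hanb
      have h1 := (QuotientGroup.eq_one_iff (N := N) _).mpr h
      rw [QuotientGroup.mk_mul, QuotientGroup.mk_pow] at h1
      rw [eq_inv_of_mul_eq_one_left h1]
      exact Subgroup.inv_mem _ (Subgroup.pow_mem _ (Subgroup.mem_zpowers _) i))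
  -- but `K1 ≠ ⊥`
  have hRne := pCore_inf_ne_bot N hnil r hr
  obtain ⟨⟨u, huR⟩, hu1⟩ := (Subgroup.ne_bot_iff_exists_ne_one.mp hRne)
  apply hu1
  apply Subtype.ext
  show u = 1
  have h1 : (QuotientGroup.mk' M) u ∈ K1 := Subgroup.mem_map_of_mem _ huR
  have h2 := Subgroup.mem_bot.mp (hle h1)
  have h3 : u ∈ M := (QuotientGroup.eq_one_iff u).mp h2
  have hdisj : Disjoint M R := IsPGroup.disjoint_of_ne q r hqr M R hMq hRr
  exact (Subgroup.disjoint_def.mp hdisj) h3 huR

/-- Let G be a finite group and N a proper non-trivial normal nilpotent subgroup whose order is not a prime power, such that for every x outside N all elements of the coset xN have the same order as x. Then N is the Fitting subgroup of G, and for every prime q every Sylow q-subgroup of G/N is cyclic or generalized quaternion. -/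
theorem result {G : Type*} [Group G] [Finite G] (N : Subgroup G) [N.Normal] (hN1 : N ≠ ⊥) (hN2 : N ≠ ⊤)
    (heq : ∀ x : G, x ∉ N → ∀ n ∈ N, orderOf (x * n) = orderOf x)
    (hnil : Group.IsNilpotent N) (hnpp : ¬ IsPrimePow (Nat.card N)) :
    N = Cfsg.fittingSubgroup G ∧
    ∀ (q : ℕ) [Fact q.Prime] (Q : Sylow q (G ⧸ N)), IsCyclic (Q : Subgroup (G ⧸ N)) ∨ ∃ n : ℕ, Nonempty ((Q : Subgroup (G ⧸ N)) ≃* QuaternionGroup (2 ^ n)) := by
  have hFN : N ≤ Cfsg.fittingSubgroup G := le_fittingSubgroup inferInstance hnil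
  obtain ⟨-, h2⟩ := Cfsg.Agent.S4107.result N hN1 hN2 heq
  have hcard1 : Nat.card N ≠ 1 := by
    rw [Ne, Subgroup.card_eq_one]; exact hN1
  constructor
  · by_contra hne
    have hlt : N < Cfsg.fittingSubgroup G := lt_of_le_of_ne hFN hne
    obtain ⟨p, k, hp, hk, hpk⟩ := h2 hlt
    apply hnpp
    have hdvd : Nat.card N ∣ p ^ k := by rw [hpk]; exact Subgroup.card_dvd_of_le hFN
    obtain ⟨j, hj, hNj⟩ := (Nat.dvd_prime_pow (Nat.prime_iff.mpr hp)).mp hdvd
    refine ⟨p, j, hp, Nat.pos_of_ne_zero ?_, hNj.symm⟩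
    rintro rfl
    exact hcard1 (by rw [hNj, pow_zero])
  · intro q _ Q
    obtain ⟨r, hr, hrN, hrq⟩ : ∃ r : ℕ, r.Prime ∧ r ∣ Nat.card N ∧ r ≠ q := by
      by_contra hcon
      push Not at hcon
      apply hnpp
      have hpow := Nat.eq_prime_pow_of_unique_prime_dvd (n := Nat.card N) (p := q)
        Nat.card_pos.ne' (fun {d} hd hdn => hcon d hd hdn)
      rw [hpow]
      refine ⟨q, _, Nat.prime_iff.mp Fact.out, Nat.pos_of_ne_zero ?_, rfl⟩
      intro h0
      rw [h0, pow_zero] at hpow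
      exact hcard1 hpow
    have : Fact r.Prime := ⟨hr⟩
    obtain ⟨T⟩ : Nonempty (Sylow q G) := inferInstance
    have hU := U_map N heq hnil q r hrq.symm hrN T
    have hU' : Cfsg.Agent.S3057.U q
        ((T.mapSurjective (QuotientGroup.mk'_surjective N) : Sylow q (G ⧸ N)) :
          Subgroup (G ⧸ N)) := hU
    have hUQ := Cfsg.Agent.S3057.U_all _ hU' Q
    rcases Cfsg.Agent.S0016.result q Q.isPGroup'
      ((Cfsg.Agent.S3057.U_iff q (Q : Subgroup (G ⧸ N))).mp hUQ) with h | ⟨-, h⟩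
    · exact Or.inl h
    · exact Or.inr h

end Cfsg.Agent.S4155
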