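import Cfsg.Statements.S4156
import Mathlib

set_option autoImplicit false
open Cfsg

namespace Cfsg.Agent.S4156

open Equiv

section

variable (n : ℕ) (F : Type*) [Field F]

/-- embedding of `Fⁿ` onto the sum-zero subspace of `Fⁿ⁺¹` -/
def emb : (Fin n → F) →ₗ[F] (Fin (n + 1) → F) where
  toFun v := Fin.snoc v (-(∑ i, v i))
  map_add' v w := by
    ext i
    refine Fin.lastCases ?_ (fun j => ?_) i
    · simp [Finset.sum_add_distrib]; ring
    · simp
  map_smul' r v := by
    ext i
    refine Fin.lastCases ?_ (fun j => ?_) i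
    · simp [Finset.mul_sum]
    · simp

/-- restriction to the first `n` coordinates -/
def res : (Fin (n + 1) → F) →ₗ[F] (Fin n → F) := LinearMap.funLeft F F Fin.castSucc

/-- permutation action -/
def perm (σ : Perm (Fin (n + 1))) : (Fin (n + 1) → F) →ₗ[F] (Fin (n + 1) → F) :=
  LinearMap.funLeft F F (σ⁻¹ : Perm (Fin (n + 1)))

theorem res_emb (v : Fin n → F) : res n F (emb n F v) = v := by
  ext i
  simp [res, emb, LinearMap.funLeft_apply]

theorem sum_emb (v : Fin n → F) : ∑ i, emb n F v i = 0 := by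
  rw [Fin.sum_univ_castSucc]
  simp [emb]

theorem emb_res (w : Fin (n + 1) → F) (hw : ∑ i, w i = 0) : emb n F (res n F w) = w := by
  ext i
  rw [Fin.sum_univ_castSucc] at hw
  refine Fin.lastCases ?_ (fun j => ?_) i
  · simp only [emb, res, LinearMap.coe_mk, AddHom.coe_mk, Fin.snoc_last, LinearMap.funLeft_apply]
    linear_combination -hw
  · simp [emb, res, LinearMap.funLeft_apply]

theorem sum_perm (σ : Perm (Fin (n + 1))) (w : Fin (n + 1) → F) :
    ∑ i, perm n F σ w i = ∑ i, w i := by
  simp only [perm, LinearMap.funLeft_apply]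
  exact Equiv.sum_comp (σ⁻¹ : Perm (Fin (n + 1))) w

theorem perm_mul (σ τ : Perm (Fin (n + 1))) (w : Fin (n + 1) → F) :
    perm n F (σ * τ) w = perm n F σ (perm n F τ w) := by
  ext i
  simp [perm, LinearMap.funLeft_apply, mul_inv_rev]

theorem perm_one (w : Fin (n + 1) → F) : perm n F 1 w = w := by
  ext i
  simp [perm, LinearMap.funLeft_apply]

/-- the deleted permutation representation -/
def T : Perm (Fin (n + 1)) →* Module.End F (Fin n → F) where
  toFun σ := (res n F) ∘ₗ (perm n F σ) ∘ₗ (emb n F)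
  map_one' := by
    apply LinearMap.ext
    intro v
    show res n F (perm n F 1 (emb n F v)) = v
    rw [perm_one, res_emb]
  map_mul' σ τ := by
    apply LinearMap.ext
    intro v
    show res n F (perm n F (σ * τ) (emb n F v)) =
      res n F (perm n F σ (emb n F (res n F (perm n F τ (emb n F v)))))
    rw [emb_res n F (perm n F τ (emb n F v)) (by rw [sum_perm, sum_emb]), perm_mul]

theorem T_apply (σ : Perm (Fin (n + 1))) (v : Fin n → F) (j : Fin n) :
    T n F σ v j = emb n F v ((σ⁻¹ : Perm (Fin (n + 1))) j.castSucc) := by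
  simp [T, res, perm, LinearMap.funLeft_apply]

/-- matrices -/
noncomputable def M : Perm (Fin (n + 1)) →* Matrix (Fin n) (Fin n) F :=
  (LinearMap.toMatrixAlgEquiv' (R := F) (n := Fin n) : _ →* _).comp (T n F)


/-- the determinant is trivial on the alternating group -/
theorem det_M_eq_one (hn : 5 ≤ n) (σ : Perm (Fin (n + 1)))
    (hσ : σ ∈ alternatingGroup (Fin (n + 1))) : (M n F σ).det = 1 := by
  let d : Perm (Fin (n + 1)) →* F := Matrix.detMonoidHom.comp (M n F)
  have h5 : 5 ≤ Nat.card (Fin (n + 1)) := by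
    rw [Nat.card_eq_fintype_card, Fintype.card_fin]; omega
  have hker : commutator (Perm (Fin (n + 1))) ≤ d.ker := by
    rw [commutator_eq_closure, Subgroup.closure_le]
    rintro x ⟨a, b, rfl⟩
    rw [SetLike.mem_coe, MonoidHom.mem_ker, commutatorElement_def, map_mul, map_mul, map_mul]
    have ha : d a * d a⁻¹ = 1 := by rw [← map_mul, mul_inv_cancel, map_one]
    have hb : d b * d b⁻¹ = 1 := by rw [← map_mul, mul_inv_cancel, map_one]
    calc d a * d b * d a⁻¹ * d b⁻¹ = (d a * d a⁻¹) * (d b * d b⁻¹) := by ring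
      _ = 1 := by rw [ha, hb, one_mul]
  rw [alternatingGroup.commutator_perm_eq h5] at hker
  exact hker hσ

/-- the homomorphism into `SL` -/
noncomputable def f₀ (hn : 5 ≤ n) :
    alternatingGroup (Fin (n + 1)) →* Matrix.SpecialLinearGroup (Fin n) F where
  toFun σ := ⟨M n F σ.1, det_M_eq_one n F hn σ.1 σ.2⟩
  map_one' := by
    apply Subtype.ext
    show M n F ((1 : alternatingGroup (Fin (n + 1))) : Perm (Fin (n + 1))) = 1
    rw [Subgroup.coe_one, map_one]
  map_mul' a b := by
    apply Subtype.ext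
    show M n F ((a * b : alternatingGroup (Fin (n + 1))) : Perm (Fin (n + 1))) =
      M n F a.1 * M n F b.1
    rw [Subgroup.coe_mul, map_mul]

theorem M_entry (σ : Perm (Fin (n + 1))) (i j : Fin n) :
    M n F σ i j = emb n F (Pi.single j 1) ((σ⁻¹ : Perm (Fin (n + 1))) i.castSucc) := by
  have : M n F σ i j = T n F σ (Pi.single j 1) i := by
    simp [M, LinearMap.toMatrixAlgEquiv', LinearMap.toMatrix'_apply]
  rw [this, T_apply]


end

/-- Let n ≥ 5 and F a finite field. Then the projective special linear group PSL_n(F) contains a subgroup isomorphic to the alternating group of degree n + 1. -/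
theorem result (n : ℕ) (hn : 5 ≤ n) (F : Type*) [Field F] [Finite F] :
    ∃ f : alternatingGroup (Fin (n + 1)) →* Matrix.ProjectiveSpecialLinearGroup (Fin n) F, Function.Injective f := by
  classical
  let f : alternatingGroup (Fin (n + 1)) →* Matrix.ProjectiveSpecialLinearGroup (Fin n) F :=
    (QuotientGroup.mk' (Subgroup.center (Matrix.SpecialLinearGroup (Fin n) F))).comp (f₀ n F hn)
  refine ⟨f, ?_⟩
  have h5 : 5 ≤ Nat.card (Fin (n + 1)) := by
    rw [Nat.card_eq_fintype_card, Fintype.card_fin]; omega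
  have hs : IsSimpleGroup (alternatingGroup (Fin (n + 1))) := alternatingGroup.isSimpleGroup h5
  rw [← MonoidHom.ker_eq_bot_iff]
  rcases (MonoidHom.normal_ker f).eq_bot_or_eq_top with h | h
  · exact h
  · exfalso
    -- a three-cycle
    let j0 : Fin n := ⟨0, by omega⟩
    let j1 : Fin n := ⟨1, by omega⟩
    let j2 : Fin n := ⟨2, by omega⟩
    let i0 : Fin (n + 1) := j0.castSucc
    let i1 : Fin (n + 1) := j1.castSucc
    let i2 : Fin (n + 1) := j2.castSucc
    have h01 : i0 ≠ i1 := by
      intro h; have := congrArg Fin.val h; simp [i0, i1, j0, j1] at this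
    have h12 : i1 ≠ i2 := by
      intro h; have := congrArg Fin.val h; simp [i1, i2, j1, j2] at this
    have h02 : i0 ≠ i2 := by
      intro h; have := congrArg Fin.val h; simp [i0, i2, j0, j2] at this
    let c : Perm (Fin (n + 1)) := swap i0 i1 * swap i1 i2
    have hcA : c ∈ alternatingGroup (Fin (n + 1)) := by
      rw [Equiv.Perm.mem_alternatingGroup, Equiv.Perm.sign_mul, Equiv.Perm.sign_swap h01,
        Equiv.Perm.sign_swap h12]
      rfl
    have hc0 : c i0 = i1 := by
      show swap i0 i1 (swap i1 i2 i0) = i1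
      rw [Equiv.swap_apply_of_ne_of_ne h01 h02, Equiv.swap_apply_left]
    have hcinv : (c⁻¹ : Perm (Fin (n + 1))) i1 = i0 := by
      rw [Equiv.Perm.inv_eq_iff_eq, hc0]
    have hker : (⟨c, hcA⟩ : alternatingGroup (Fin (n + 1))) ∈ f.ker := by rw [h]; trivial
    rw [MonoidHom.mem_ker] at hker
    have hcen : f₀ n F hn ⟨c, hcA⟩ ∈ Subgroup.center (Matrix.SpecialLinearGroup (Fin n) F) := by
      have : (QuotientGroup.mk (f₀ n F hn ⟨c, hcA⟩) :
          Matrix.SpecialLinearGroup (Fin n) F ⧸ Subgroup.center _) = 1 := hker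
      exact (QuotientGroup.eq_one_iff _).mp this
    obtain ⟨r, -, hr⟩ := Matrix.SpecialLinearGroup.mem_center_iff.mp hcen
    have hentry : (Matrix.scalar (Fin n) r) j1 j0 = M n F c j1 j0 := by
      rw [hr]; rfl
    have hj10 : j1 ≠ j0 := by
      intro h; have := congrArg Fin.val h; simp [j0, j1] at this
    rw [M_entry] at hentry
    have h1 : (c⁻¹ : Perm (Fin (n + 1))) j1.castSucc = j0.castSucc := hcinv
    rw [h1] at hentry
    simp [emb, hj10] at hentry

end Cfsg.Agent.S4156
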