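import Mathlib
import Cfsg.Statements.S4157
import Cfsg.Agent.Lib.Helper63_Miller
import Cfsg.Agent.Lib.Helper70_Wielandt
import Cfsg.Agent.Lib.Helper70_TwoGroupCount

set_option autoImplicit false
open Cfsg

namespace Cfsg.Agent.S4157

open Cfsg.Agent.Lib.Helper63_Miller Cfsg.Agent.Lib.Helper70_Wielandt
  Cfsg.Agent.Lib.Helper70_TwoGroupCount

/-- the counting core: Miller's divisibility for elements of order `p ^ (k+1)` gives Kulakoff's
congruence for subgroups of order `p ^ k`. -/
theorem core {G : Type*} [Group G] [Finite G] {p : ℕ} [Fact p.Prime] (m : ℕ)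
    (hG : Nat.card G = p ^ m) (k : ℕ) (hk2 : k < m)
    (hmil : p ^ (k + 1) ∣ Nat.card {x : G // orderOf x = p ^ (k + 1)}) :
    Nat.card {H : Subgroup G // Nat.card H = p ^ k} ≡ 1 + p [MOD p ^ 2] := by
  have hp := (Fact.out : p.Prime)
  have hG' : Nat.card G = p ^ (k + 1) * p ^ (m - k - 1) := by
    rw [hG, ← pow_add]; congr 1; omega
  have W := card_subgroups_modEq (G := G) (p := p) k (p ^ (m - k - 1)) hG'
  have F := card_subgroups_modEq_one (G := G) (p := p) (k + 1) ⟨_, hG'⟩
  rw [card_split (fun L : Subgroup G => Nat.card L = p ^ (k + 1)) (fun L => IsCyclic L)] at F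
  -- p divides the number of cyclic subgroups of order p^(k+1)
  have hc : p ∣ Nat.card {L : Subgroup G // Nat.card L = p ^ (k + 1) ∧ IsCyclic L} := by
    have h1 := card_orderOf_eq_totient_mul (⊤ : Subgroup G) (p ^ (k + 1))
    have e1 : Nat.card {x : G // x ∈ (⊤ : Subgroup G) ∧ orderOf x = p ^ (k + 1)} =
        Nat.card {x : G // orderOf x = p ^ (k + 1)} :=
      Nat.card_congr (Equiv.subtypeEquivRight (fun x => by simp))
    have e2 : Nat.card {D : Subgroup G // D ≤ ⊤ ∧ IsCyclic D ∧ Nat.card D = p ^ (k + 1)} =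
        Nat.card {L : Subgroup G // Nat.card L = p ^ (k + 1) ∧ IsCyclic L} :=
      Nat.card_congr (Equiv.subtypeEquivRight (fun D => by
        constructor
        · rintro ⟨_, h1, h2⟩; exact ⟨h2, h1⟩
        · rintro ⟨h1, h2⟩; exact ⟨le_top, h2, h1⟩))
    rw [e1, e2, Nat.totient_prime_pow_succ hp] at h1
    rw [h1, pow_succ, mul_assoc] at hmil
    have h3 : p ∣ (p - 1) *
        Nat.card {L : Subgroup G // Nat.card L = p ^ (k + 1) ∧ IsCyclic L} :=
      Nat.dvd_of_mul_dvd_mul_left (pow_pos hp.pos k) hmil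
    rcases (Nat.Prime.dvd_mul hp).1 h3 with h | h
    · exfalso
      have h5 := hp.two_le
      have := Nat.le_of_dvd (by omega) h
      omega
    · exact h
  -- hence the number of non-cyclic ones is 1 mod p
  have hnc1 : Nat.card {L : Subgroup G // Nat.card L = p ^ (k + 1) ∧ ¬ IsCyclic L} ≡ 1 [MOD p] := by
    have h5 : Nat.card {L : Subgroup G // Nat.card L = p ^ (k + 1) ∧ IsCyclic L} +
        Nat.card {L : Subgroup G // Nat.card L = p ^ (k + 1) ∧ ¬ IsCyclic L} ≡
        0 + Nat.card {L : Subgroup G // Nat.card L = p ^ (k + 1) ∧ ¬ IsCyclic L} [MOD p] :=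
      Nat.ModEq.add_right _ ((Nat.modEq_zero_iff_dvd).2 hc)
    rw [zero_add] at h5
    exact h5.symm.trans F
  refine W.trans ?_
  apply Nat.ModEq.add_left
  have h6 := Nat.ModEq.mul_left' p hnc1
  rw [mul_one, ← pow_two] at h6
  exact h6

/-- Let G be a finite p-group of order p^m that is not cyclic and, when p = 2, not of maximal class (nilpotency class m − 1). Then for every 1 ≤ k < m the number of subgroups of G of order p^k is congruent to 1 + p modulo p². -/
theorem result {G : Type*} [Group G] [Finite G] {p : ℕ} [Fact p.Prime] (m : ℕ)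
    (hG : Nat.card G = p ^ m) (hnc : ¬ IsCyclic G) (h2 : p = 2 → Group.nilpotencyClass G ≠ m - 1)
    (k : ℕ) (hk1 : 1 ≤ k) (hk2 : k < m) :
    Nat.card {H : Subgroup G // Nat.card H = p ^ k} ≡ 1 + p [MOD p ^ 2] := by
  have hp := (Fact.out : p.Prime)
  have hR : IsPGroup p G := IsPGroup.of_card hG
  by_cases hp2 : p = 2
  · subst hp2
    have hclass := h2 rfl
    have hN := hasNormalFour_of_not_maxClass hR hG hnc hclass
    by_cases hk : 2 ≤ k
    · exact core m hG k hk2 (miller_two_of_hasNormalFour hR hN (by omega))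
    · have hk' : k = 1 := by omega
      subst hk'
      have h4 := four_dvd_card_sq_eq_one hR hG hN hclass
      rw [card_split (fun x : G => x ^ 2 = 1) (fun x => x = 1)] at h4
      have e0 : Nat.card {x : G // x ^ 2 = 1 ∧ x = 1} = 1 := by
        have : Unique {x : G // x ^ 2 = 1 ∧ x = 1} :=
          ⟨⟨⟨1, one_pow 2, rfl⟩⟩, fun x => Subtype.ext x.2.2⟩
        exact Nat.card_unique
      have e1 : Nat.card {x : G // x ^ 2 = 1 ∧ ¬ x = 1} =
          Nat.card {x : G // x ∈ (⊤ : Subgroup G) ∧ orderOf x = 2} :=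
        Nat.card_congr (Equiv.subtypeEquivRight (fun x => by
          rw [orderOf_eq_prime_iff]; simp))
      have h1 := card_orderOf_eq_totient_mul (⊤ : Subgroup G) 2
      have e2 : Nat.card {D : Subgroup G // D ≤ ⊤ ∧ IsCyclic D ∧ Nat.card D = 2} =
          Nat.card {H : Subgroup G // Nat.card H = 2 ^ 1} :=
        Nat.card_congr (Equiv.subtypeEquivRight (fun D => by
          constructor
          · rintro ⟨_, _, h⟩; rw [pow_one]; exact h
          · intro h
            rw [pow_one] at h
            exact ⟨le_top, isCyclic_of_prime_card h, h⟩))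
      rw [e0, e1, h1, Nat.totient_two, one_mul, e2] at h4
      show _ ≡ 1 + 2 [MOD 2 ^ 2]
      unfold Nat.ModEq
      omega
  · exact core m hG k hk2 (miller hp2 hR hnc (by omega))

end Cfsg.Agent.S4157
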