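import Cfsg.Statements.S4160
import Cfsg.Agent.Lib.Helper2_Transfer

set_option autoImplicit false
open Cfsg

namespace Cfsg.Agent.S4160

variable {G : Type*} [Group G] [Finite G]

/-- If `p` does not divide the class size of `x`, some conjugate of `x` centralizes the Sylow `p`-subgroup `P`. -/
theorem exists_conj_mem_centralizer {p : ℕ} [Fact p.Prime] (P : Sylow p G) (x : G)
    (hx : ¬ p ∣ (Subgroup.centralizer ({x} : Set G)).index) :
    ∃ g : G, g⁻¹ * x * g ∈ Subgroup.centralizer ((P : Subgroup G) : Set G) := by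
  set H := Subgroup.centralizer ({x} : Set G) with hH
  let R : Sylow p H := default
  set R' : Subgroup G := (R : Subgroup H).map H.subtype with hR'
  have hcardR' : Nat.card R' = Nat.card (R : Subgroup H) :=
    Subgroup.card_map_of_injective H.subtype_injective
  have hfac : (Nat.card G).factorization p = (Nat.card H).factorization p := by
    rw [← Subgroup.card_mul_index H, Nat.factorization_mul Nat.card_pos.ne'
      (Subgroup.index_ne_zero_of_finite), Finsupp.add_apply,
      Nat.factorization_eq_zero_of_not_dvd hx, add_zero]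
  have hcard : Nat.card R' = p ^ (Nat.card G).factorization p := by
    rw [hcardR', hfac]; exact R.card_eq_multiplicity
  obtain ⟨g, hg⟩ := MulAction.exists_smul_eq G P (Sylow.ofCard R' hcard)
  refine ⟨g, ?_⟩
  rw [Subgroup.mem_centralizer_iff]
  intro y hy
  have h1 : g * y * g⁻¹ ∈ R' := by
    have : g * y * g⁻¹ ∈ ((g • P : Sylow p G) : Subgroup G) := by
      rw [Sylow.coe_subgroup_smul]
      exact Subgroup.smul_mem_pointwise_smul _ _ _ hy
    rw [hg] at this
    simpa using this
  have h2 : g * y * g⁻¹ ∈ H := by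
    rw [hR'] at h1
    obtain ⟨z, _, hz⟩ := h1
    rw [← hz]; exact z.2
  rw [hH, Subgroup.mem_centralizer_iff] at h2
  have h3 := h2 x rfl
  -- h3 : x * (g * y * g⁻¹) = g * y * g⁻¹ * x
  calc y * (g⁻¹ * x * g) = g⁻¹ * ((g * y * g⁻¹) * x) * g := by group
    _ = g⁻¹ * (x * (g * y * g⁻¹)) * g := by rw [h3]
    _ = g⁻¹ * x * g * y := by group

/-- The nonidentity elements of the union of the conjugates of `C` number at most
`[G : N_G(C)] (|C| - 1)`. -/
theorem ncard_conjUnion_le (C : Subgroup G) :
    ({x : G | x ≠ 1 ∧ ∃ g : G, g⁻¹ * x * g ∈ C} : Set G).ncard ≤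
      (Subgroup.normalizer (C : Set G)).index * (Nat.card C - 1) := by
  classical
  set N := Subgroup.normalizer (C : Set G) with hN
  let f : (G ⧸ N) × {c : C // c ≠ 1} → G := fun t => t.1.out * (t.2.1 : G) * (t.1.out)⁻¹
  have hsub : ({x : G | x ≠ 1 ∧ ∃ g : G, g⁻¹ * x * g ∈ C} : Set G) ⊆ Set.range f := by
    rintro x ⟨hx1, g, hg⟩
    have hq : (QuotientGroup.mk ((QuotientGroup.mk g : G ⧸ N).out) : G ⧸ N) = QuotientGroup.mk g :=
      Quotient.out_eq' _
    rw [QuotientGroup.eq] at hq
    -- hq : out⁻¹ * g ∈ N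
    set o := (QuotientGroup.mk g : G ⧸ N).out with ho
    set n := o⁻¹ * g with hn
    have hnN : n ∈ N := hq
    have hc : n * (g⁻¹ * x * g) * n⁻¹ ∈ C := by
      rw [hN, Subgroup.mem_normalizer_iff] at hnN
      exact (hnN _).mp hg
    have hc1 : (⟨n * (g⁻¹ * x * g) * n⁻¹, hc⟩ : C) ≠ 1 := by
      intro h
      have h' : n * (g⁻¹ * x * g) * n⁻¹ = 1 := congrArg Subtype.val h
      apply hx1
      have : g⁻¹ * x * g = 1 := by
        have := congrArg (fun t => n⁻¹ * t * n) h'
        simpa [mul_assoc] using this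
      have := congrArg (fun t => g * t * g⁻¹) this
      simpa [mul_assoc] using this
    refine ⟨(QuotientGroup.mk g, ⟨⟨_, hc⟩, hc1⟩), ?_⟩
    show o * (n * (g⁻¹ * x * g) * n⁻¹) * o⁻¹ = x
    rw [hn]; group
  calc ({x : G | x ≠ 1 ∧ ∃ g : G, g⁻¹ * x * g ∈ C} : Set G).ncard
      ≤ (Set.range f).ncard := Set.ncard_le_ncard hsub (Set.toFinite _)
    _ ≤ Nat.card ((G ⧸ N) × {c : C // c ≠ 1}) := by
        rw [← Set.image_univ, ← Set.ncard_univ]
        exact Set.ncard_image_le (Set.toFinite _)
    _ = N.index * (Nat.card C - 1) := by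
        rw [Nat.card_prod, Subgroup.index_eq_card]
        congr 1
        have : Nat.card {c : C // c ≠ 1} + 1 = Nat.card C := by
          rw [← Finite.card_option]
          exact Nat.card_congr (Equiv.optionSubtypeNe (1 : C))
        omega

/-- A subgroup properly contained in its normalizer has at most half its order. -/
theorem two_mul_le_of_normalizer_ne (C : Subgroup G)
    (h : Subgroup.normalizer (C : Set G) ≠ C) :
    (Subgroup.normalizer (C : Set G)).index * (2 * Nat.card C) ≤ Nat.card G := by
  set N := Subgroup.normalizer (C : Set G) with hN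
  have hle : C ≤ N := Subgroup.le_normalizer
  have h1 : Nat.card C * C.relIndex N = Nat.card N := by
    have := Subgroup.relIndex_mul_relIndex ⊥ C N bot_le hle
    rwa [Subgroup.relIndex_bot_left, Subgroup.relIndex_bot_left] at this
  have h2 : C.relIndex N ≠ 1 := by
    intro h1'
    apply h
    exact le_antisymm (Subgroup.relIndex_eq_one.mp h1') hle
  have h3 : C.relIndex N ≠ 0 := by
    unfold Subgroup.relIndex; exact Subgroup.index_ne_zero_of_finite
  have h4 : 2 ≤ C.relIndex N := by omega
  have h5 : 2 * Nat.card C ≤ Nat.card N := by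
    rw [← h1]; nlinarith [Nat.card_pos (α := C)]
  calc N.index * (2 * Nat.card C) ≤ N.index * Nat.card N := Nat.mul_le_mul_left _ h5
    _ = Nat.card G := by rw [mul_comm]; exact Subgroup.card_mul_index N

omit [Finite G] in
theorem normalizer_le_normalizer_centralizer (P : Subgroup G) :
    Subgroup.normalizer (P : Set G) ≤
      Subgroup.normalizer ((Subgroup.centralizer (P : Set G) : Subgroup G) : Set G) := by
  intro n hn
  rw [Subgroup.mem_normalizer_iff] at hn ⊢
  have key : ∀ m : G, (∀ y, y ∈ P ↔ m * y * m⁻¹ ∈ P) → ∀ c, c ∈ Subgroup.centralizer (P : Set G) →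
      m * c * m⁻¹ ∈ Subgroup.centralizer (P : Set G) := by
    intro m hm c hc
    rw [Subgroup.mem_centralizer_iff] at hc ⊢
    intro y hy
    have hy' : m⁻¹ * y * m ∈ P := by
      rw [hm]; simpa [mul_assoc] using hy
    have := hc _ hy'
    calc y * (m * c * m⁻¹) = m * ((m⁻¹ * y * m) * c) * m⁻¹ := by group
      _ = m * (c * (m⁻¹ * y * m)) * m⁻¹ := by rw [this]
      _ = m * c * m⁻¹ * y := by group
  intro c
  constructor
  · exact key n hn c
  · intro h
    have hn' : ∀ y, y ∈ P ↔ n⁻¹ * y * n⁻¹⁻¹ ∈ P := by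
      intro y
      rw [hn (n⁻¹ * y * n⁻¹⁻¹)]
      simp [mul_assoc]
    have := key n⁻¹ hn' _ h
    simpa [mul_assoc] using this

/-- Let G be a finite group and p ≠ q primes each dividing the size of some conjugacy class of G, such that no conjugacy class size is divisible by pq. Then G has a normal p-complement or a normal q-complement. -/
theorem result {G : Type*} [Group G] [Finite G] (p q : ℕ) (hp : p.Prime) (hq : q.Prime) (hpq : p ≠ q)
    (hp' : ∃ x : G, p ∣ (Subgroup.centralizer ({x} : Set G)).index) (hq' : ∃ x : G, q ∣ (Subgroup.centralizer ({x} : Set G)).index) (h : ∀ x : G, ¬ p * q ∣ (Subgroup.centralizer ({x} : Set G)).index) :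
    Cfsg.HasNormalPComplement p G ∨ Cfsg.HasNormalPComplement q G := by
  classical
  have : Fact p.Prime := ⟨hp⟩
  have : Fact q.Prime := ⟨hq⟩
  let P : Sylow p G := default
  let Q : Sylow q G := default
  set Cp := Subgroup.centralizer ((P : Subgroup G) : Set G) with hCp
  set Cq := Subgroup.centralizer ((Q : Subgroup G) : Set G) with hCq
  have hcop : Nat.Coprime p q := (Nat.coprime_primes hp hq).mpr hpq
  -- every element is conjugate into `Cp` or `Cq`
  have hcover : ∀ x : G, (∃ g : G, g⁻¹ * x * g ∈ Cp) ∨ (∃ g : G, g⁻¹ * x * g ∈ Cq) := by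
    intro x
    by_cases h1 : p ∣ (Subgroup.centralizer ({x} : Set G)).index
    · right
      have h2 : ¬ q ∣ (Subgroup.centralizer ({x} : Set G)).index := fun h2 =>
        h x (hcop.mul_dvd_of_dvd_of_dvd h1 h2)
      exact exists_conj_mem_centralizer Q x h2
    · left
      exact exists_conj_mem_centralizer P x h1
  -- one of the two centralizers is self-normalizing
  have hself : Subgroup.normalizer (Cp : Set G) = Cp ∨ Subgroup.normalizer (Cq : Set G) = Cq := by
    by_contra hcon
    push Not at hcon
    obtain ⟨hnp, hnq⟩ := hcon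
    have e1 := two_mul_le_of_normalizer_ne Cp hnp
    have e2 := two_mul_le_of_normalizer_ne Cq hnq
    have c1 := ncard_conjUnion_le Cp
    have c2 := ncard_conjUnion_le Cq
    set A : Set G := {x : G | x ≠ 1 ∧ ∃ g : G, g⁻¹ * x * g ∈ Cp} with hA
    set B : Set G := {x : G | x ≠ 1 ∧ ∃ g : G, g⁻¹ * x * g ∈ Cq} with hB
    have hunion : ({1}ᶜ : Set G) ⊆ A ∪ B := by
      intro x hx
      rcases hcover x with h1 | h1
      · exact Or.inl ⟨hx, h1⟩
      · exact Or.inr ⟨hx, h1⟩
    have hcount : Nat.card G - 1 ≤ A.ncard + B.ncard := by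
      have h1 : ({1}ᶜ : Set G).ncard = Nat.card G - 1 := by
        rw [Set.ncard_compl ({1} : Set G) (Set.toFinite _) (Set.toFinite _), Set.ncard_singleton]
      rw [← h1]
      exact (Set.ncard_le_ncard hunion (Set.toFinite _)).trans (Set.ncard_union_le _ _)
    set i := (Subgroup.normalizer (Cp : Set G)).index with hi
    set j := (Subgroup.normalizer (Cq : Set G)).index with hj
    have hi1 : 1 ≤ i := Nat.one_le_iff_ne_zero.mpr Subgroup.index_ne_zero_of_finite
    have hj1 : 1 ≤ j := Nat.one_le_iff_ne_zero.mpr Subgroup.index_ne_zero_of_finite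
    have ha1 : 1 ≤ Nat.card Cp := Nat.card_pos
    have hb1 : 1 ≤ Nat.card Cq := Nat.card_pos
    have hn1 : 1 ≤ Nat.card G := Nat.card_pos
    have u1 : i * (Nat.card Cp - 1) + i = i * Nat.card Cp := by
      have : Nat.card Cp - 1 + 1 = Nat.card Cp := Nat.sub_add_cancel ha1
      calc i * (Nat.card Cp - 1) + i = i * (Nat.card Cp - 1 + 1) := by ring
        _ = i * Nat.card Cp := by rw [this]
    have u2 : j * (Nat.card Cq - 1) + j = j * Nat.card Cq := by
      have : Nat.card Cq - 1 + 1 = Nat.card Cq := Nat.sub_add_cancel hb1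
      calc j * (Nat.card Cq - 1) + j = j * (Nat.card Cq - 1 + 1) := by ring
        _ = j * Nat.card Cq := by rw [this]
    have e1' : 2 * (i * Nat.card Cp) ≤ Nat.card G := by
      calc 2 * (i * Nat.card Cp) = i * (2 * Nat.card Cp) := by ring
        _ ≤ _ := e1
    have e2' : 2 * (j * Nat.card Cq) ≤ Nat.card G := by
      calc 2 * (j * Nat.card Cq) = j * (2 * Nat.card Cq) := by ring
        _ ≤ _ := e2
    omega
  rcases hself with hs | hs
  · left
    apply Cfsg.Agent.Lib.Helper2_Transfer.hasNormalPComplement_of_normalizer_le_centralizer P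
    calc Subgroup.normalizer ((P : Subgroup G) : Set G)
        ≤ Subgroup.normalizer (Cp : Set G) := normalizer_le_normalizer_centralizer _
      _ = Cp := hs
  · right
    apply Cfsg.Agent.Lib.Helper2_Transfer.hasNormalPComplement_of_normalizer_le_centralizer Q
    calc Subgroup.normalizer ((Q : Subgroup G) : Set G)
        ≤ Subgroup.normalizer (Cq : Set G) := normalizer_le_normalizer_centralizer _
      _ = Cq := hs

end Cfsg.Agent.S4160
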