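import Cfsg.Statements.S4168

set_option autoImplicit false
open Cfsg

namespace Cfsg.Agent.S4168

/-- Let L be a finite quasisimple group (perfect with L/Z(L) simple). Then every prime dividing the order of the centre Z(L) also divides the order of L/Z(L). -/
theorem result {L : Type*} [Group L] [Finite L] (hL : Cfsg.IsQuasisimple L)
    (p : ℕ) (hp : p.Prime) (hdiv : p ∣ Nat.card (Subgroup.center L)) : p ∣ (Subgroup.center L).index := by
  classical
  have : Fact p.Prime := ⟨hp⟩
  obtain ⟨hperf, -⟩ := hL
  -- the transfer into the centre is trivial since `L` is perfect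
  have htriv : ∀ g : L, g ^ (Subgroup.center L).index = 1 := by
    intro g
    have hker : commutator L ≤ (MonoidHom.transferCenterPow L).ker := by
      rw [commutator_eq_closure, Subgroup.closure_le]
      rintro x ⟨a, b, rfl⟩
      rw [SetLike.mem_coe, MonoidHom.mem_ker, commutatorElement_def, map_mul, map_mul, map_inv,
        map_inv, map_mul]
      have hc : ∀ u v : Subgroup.center L, u * v = v * u := fun u v => by
        apply Subtype.ext
        exact (v.2.comm u.1).symm
      rw [hc ((MonoidHom.transferCenterPow L) a), mul_assoc, mul_assoc, mul_inv_cancel_left,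
        mul_inv_cancel]
    have hg : g ∈ commutator L := by
      rw [hperf.commutator_eq_top]; trivial
    have := hker hg
    rw [MonoidHom.mem_ker] at this
    have h2 := congrArg Subtype.val this
    rw [MonoidHom.transferCenterPow_apply] at h2
    exact h2
  obtain ⟨z, hz⟩ := exists_prime_orderOf_dvd_card' p hdiv
  have hz' : orderOf (z : L) = p := by
    rw [Subgroup.orderOf_coe]; exact hz
  have := orderOf_dvd_of_pow_eq_one (htriv (z : L))
  rwa [hz'] at this

end Cfsg.Agent.S4168
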