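import Cfsg.Statements.S4169
import Cfsg.Agent.Lib.Helper21_SmallClass
import Cfsg.Agent.Lib.Helper4_NormalFour

set_option autoImplicit false
open Cfsg

namespace Cfsg.Agent.S4169

open scoped commutatorElement

/-- Let P be a finite p-group whose conjugacy classes have exactly two sizes (1 and one other value). Then P has nilpotency class at most 3. -/
theorem result {P : Type*} [Group P] [Finite P] {p : ℕ} [Fact p.Prime] (hP : IsPGroup p P)
    (m : ℕ) (hm : 1 < m) (h : ∀ x : P, (Subgroup.centralizer ({x} : Set P)).index = 1 ∨ (Subgroup.centralizer ({x} : Set P)).index = m) :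
    upperCentralSeries P 3 = ⊤ := by
  obtain ⟨A, hAn, hAc, hCA⟩ :=
    Cfsg.Agent.Lib.Helper4_NormalFour.exists_normal_abelian_self_centralizing hP
  have hmin : ∀ x : P, 1 < (Subgroup.centralizer ({x} : Set P)).index →
      m ≤ (Subgroup.centralizer ({x} : Set P)).index := by
    intro x hx
    rcases h x with h1 | h1
    · omega
    · omega
  have htop : (⊤ : Subgroup P) = Subgroup.closure {x : P |
      (Subgroup.centralizer ({x} : Set P)).index = 1 ∨
      (Subgroup.centralizer ({x} : Set P)).index = m} := by
    symm
    rw [eq_top_iff]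
    intro x _
    exact Subgroup.subset_closure (h x)
  have hcen := Cfsg.Agent.Lib.Helper21_SmallClass.commutator_closure_eq_bot A hAc hCA m hmin ⊤ htop
  rw [eq_top_iff]
  intro u _
  change u ∈ Subgroup.upperCentralSeries P 3
  rw [Subgroup.mem_upperCentralSeries_succ_iff]
  intro v
  rw [Subgroup.mem_upperCentralSeries_succ_iff]
  intro w
  rw [Subgroup.mem_upperCentralSeries_succ_iff]
  intro s
  rw [Subgroup.upperCentralSeries_zero, Subgroup.mem_bot]
  have h1 : ⁅⁅u, v⁆, w⁆ ∈ Subgroup.center P :=
    hcen (Subgroup.commutator_mem_commutator (Subgroup.commutator_mem_commutator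
      (Subgroup.mem_top u) (Subgroup.mem_top v)) (Subgroup.mem_top w))
  rw [commutatorElement_eq_one_iff_commute]
  exact (Subgroup.mem_center_iff.mp h1 s).symm

end Cfsg.Agent.S4169
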