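import Cfsg.Statements.S4176
import Cfsg.Agent.Lib.Helper69_Orbits
import Cfsg.Agent.Lib.Helper69_PComplement

set_option autoImplicit false
open Cfsg

namespace Cfsg.Agent.S4176

open Cfsg.Agent.Lib.Helper69_Orbits Cfsg.Agent.Lib.Helper69_PComplement

/-- Let k be a field of prime characteristic p, H a finite p-soluble group and ρ a k-linear representation of H on V. Let a be a vector that is fixed by some Sylow p-subgroup of H and whose H-orbit spans V. Then the space of H-fixed vectors has dimension at most 1, and every vector b whose H-orbit has size coprime to the size of the orbit of a is fixed by H. -/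
theorem result {k V H : Type*} [Field k] (p : ℕ) [Fact p.Prime] [CharP k p] [AddCommGroup V] [Module k V]
    [Group H] [Finite H] (hsol : Cfsg.IsPSolvable p H) (ρ : Representation k H V) (a : V)
    (hfix : ∃ P : Sylow p H, ∀ x : H, x ∈ (P : Subgroup H) → ρ x a = a)
    (hspan : Submodule.span k {u : V | ∃ h : H, ρ h a = u} = ⊤) :
    Module.finrank k ρ.invariants ≤ 1 ∧
    ∀ b : V, (Nat.card {u : V | ∃ h : H, ρ h a = u}).Coprime (Nat.card {u : V | ∃ h : H, ρ h b = u}) → ∀ h : H, ρ h b = b := by
  classical
  have hpp : p.Prime := Fact.out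
  -- orders prime to `p` are invertible in `k`
  have hinv : ∀ n : ℕ, n.Coprime p → (n : k) ≠ 0 := by
    intro n hn h0
    have hdvd : p ∣ n := (CharP.cast_eq_zero_iff k p n).mp h0
    have : p ∣ 1 := by
      have := Nat.dvd_gcd hdvd (dvd_refl p)
      rwa [hn] at this
    exact hpp.one_lt.ne' (Nat.dvd_one.mp this)
  -- the orbit of `a` has size prime to `p`
  have horb : ¬ p ∣ Nat.card {u : V | ∃ h : H, ρ h a = u} := by
    obtain ⟨P, hP⟩ := hfix
    let _ := repAction ρ
    rw [← index_stabilizer_eq ρ a]
    intro hdvd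
    have hle : (P : Subgroup H) ≤ MulAction.stabilizer H a := by
      intro x hx
      exact MulAction.mem_stabilizer_iff.mpr (hP x hx)
    exact P.not_dvd_index (hdvd.trans (Subgroup.index_dvd_of_le hle))
  have horbc : ∀ m : ℕ, (p ^ m).Coprime (Nat.card {u : V | ∃ h : H, ρ h a = u}) := by
    intro m
    exact Nat.Coprime.pow_left _ ((Nat.Prime.coprime_iff_not_dvd hpp).mpr horb)
  constructor
  · obtain ⟨K, hK1, m, hK2⟩ := exists_pComplement p hsol
    obtain ⟨e, -, he⟩ := exists_fixed_spanning ρ a hspan K (hinv _ hK1)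
      (fun h => exists_mem_eq_of_coprime ρ a K (by rw [hK2]; exact horbc m) h)
    exact finrank_invariants_le_one ρ e (fun b hb => he b (fun d _ => hb d))
  · intro b hcop h
    let _ := repAction ρ
    set D : Subgroup H := MulAction.stabilizer H b with hD
    have hDidx : D.index = Nat.card {u : V | ∃ h : H, ρ h b = u} := index_stabilizer_eq ρ b
    have hcop' : (D.index).Coprime (Nat.card {u : V | ∃ h : H, ρ h a = u}) := by
      rw [hDidx]; exact hcop.symm
    have hDtrans : ∀ h : H, ∃ d ∈ D, ρ d a = ρ h a :=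
      fun h => exists_mem_eq_of_coprime ρ a D hcop' h
    -- a `p`-complement of `D`
    obtain ⟨KD, hKD1, m, hKD2⟩ := exists_pComplement p (isPSolvable_subgroup p hsol D)
    let ρD : Representation k D V := ρ.comp D.subtype
    have hρD : ∀ (d : D) (v : V), ρD d v = ρ (d : H) v := fun _ _ => rfl
    have horbD : {u : V | ∃ d : D, ρD d a = u} = {u : V | ∃ h : H, ρ h a = u} := by
      ext u
      constructor
      · rintro ⟨d, rfl⟩
        exact ⟨(d : H), rfl⟩
      · rintro ⟨h, rfl⟩
        obtain ⟨d, hd, hda⟩ := hDtrans h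
        exact ⟨⟨d, hd⟩, hda⟩
    have hKDtrans : ∀ d : D, ∃ x ∈ KD, ρD x a = ρD d a := by
      intro d
      apply exists_mem_eq_of_coprime ρD a KD
      rw [hKD2, horbD]
      exact horbc m
    set K : Subgroup H := KD.map D.subtype with hK
    have hKcard : (Nat.card K).Coprime p := by
      rw [hK, Subgroup.card_map_of_injective D.subtype_injective]
      exact hKD1
    have hKle : K ≤ D := Subgroup.map_subtype_le KD
    have hKtrans : ∀ h : H, ∃ x ∈ K, ρ x a = ρ h a := by
      intro h
      obtain ⟨d, hd, hda⟩ := hDtrans h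
      obtain ⟨x, hx, hxa⟩ := hKDtrans ⟨d, hd⟩
      refine ⟨(x : H), Subgroup.mem_map_of_mem _ hx, ?_⟩
      rw [← hda]
      exact hxa
    obtain ⟨e, he1, he2⟩ := exists_fixed_spanning ρ a hspan K (hinv _ hKcard) hKtrans
    obtain ⟨c, rfl⟩ := he2 b (fun d hd => MulAction.mem_stabilizer_iff.mp (hKle hd))
    rw [map_smul, he1]

end Cfsg.Agent.S4176
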