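import Cfsg.Statements.S4177
import Cfsg.Agent.Lib.Helper69_Orbits

set_option autoImplicit false
open Cfsg

namespace Cfsg.Agent.S4177

open Cfsg.Agent.Lib.Helper69_Orbits

/-- Let k be a field whose characteristic does not divide the order of the finite group H (for instance a field of characteristic zero), and ρ a k-linear representation of H on V. Let a be a vector whose H-orbit spans V. Then the space of H-fixed vectors has dimension at most 1, and every vector b whose H-orbit has size coprime to the size of the orbit of a is fixed by H. -/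
theorem result {k V H : Type*} [Field k] [AddCommGroup V] [Module k V] [Group H] [Finite H]
    (hchar : ¬ ringChar k ∣ Nat.card H) (ρ : Representation k H V) (a : V)
    (hspan : Submodule.span k {u : V | ∃ h : H, ρ h a = u} = ⊤) :
    Module.finrank k ρ.invariants ≤ 1 ∧
    ∀ b : V, (Nat.card {u : V | ∃ h : H, ρ h a = u}).Coprime (Nat.card {u : V | ∃ h : H, ρ h b = u}) → ∀ h : H, ρ h b = b := by
  classical
  have hH : (Nat.card H : k) ≠ 0 := by
    intro h0
    exact hchar ((ringChar.spec k (Nat.card H)).mp h0)
  have hsub : ∀ D : Subgroup H, (Nat.card D : k) ≠ 0 := by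
    intro D h0
    obtain ⟨m, hm⟩ := Subgroup.card_subgroup_dvd_card D
    apply hH
    rw [hm, Nat.cast_mul, h0, zero_mul]
  constructor
  · obtain ⟨e, -, he⟩ := exists_fixed_spanning ρ a hspan ⊤ (hsub ⊤)
      (fun h => ⟨h, Subgroup.mem_top h, rfl⟩)
    exact finrank_invariants_le_one ρ e (fun b hb => he b (fun d _ => hb d))
  · intro b hcop h
    let _ := repAction ρ
    set D : Subgroup H := MulAction.stabilizer H b with hD
    have hDidx : D.index = Nat.card {u : V | ∃ h : H, ρ h b = u} := index_stabilizer_eq ρ b
    have hcop' : (D.index).Coprime (Nat.card {u : V | ∃ h : H, ρ h a = u}) := by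
      rw [hDidx]; exact hcop.symm
    obtain ⟨e, he1, he2⟩ := exists_fixed_spanning ρ a hspan D (hsub D)
      (fun h => exists_mem_eq_of_coprime ρ a D hcop' h)
    obtain ⟨c, rfl⟩ := he2 b (fun d hd => MulAction.mem_stabilizer_iff.mp hd)
    rw [map_smul, he1]

end Cfsg.Agent.S4177
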