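import Cfsg.Statements.S4178
import Mathlib

set_option autoImplicit false
open Cfsg

namespace Cfsg.Agent.S4178

/-- A subgroup `T` such that `G/T` injects into a finite type `X` has index at most `|X|`. -/
theorem index_le_of_map {G : Type*} [Group G] (T : Subgroup G) {X : Type*} [Finite X]
    (φ : G → X) (hφ : ∀ a b, φ a = φ b → a⁻¹ * b ∈ T) : T.index ≤ Nat.card X := by
  let ψ : G ⧸ T → X := fun q => φ q.out
  have hψ : Function.Injective ψ := by
    intro q q' hqq'
    have h1 : q.out⁻¹ * q'.out ∈ T := hφ _ _ hqq'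
    rw [← QuotientGroup.eq, QuotientGroup.out_eq', QuotientGroup.out_eq'] at h1
    exact h1
  exact Nat.card_le_card_of_injective ψ hψ

theorem card_ne_zero_subtype {M : Type*} [Finite M] [Zero M] :
    Nat.card {x : M // x ≠ 0} = Nat.card M - 1 := by
  classical
  have : Fintype M := Fintype.ofFinite M
  rw [Nat.card_eq_fintype_card, Nat.card_eq_fintype_card, Fintype.card_subtype_compl,
    Fintype.card_subtype_eq]

section

variable {F V : Type*} [Field F] [Fintype F] [AddCommGroup V] [Module F V] [FiniteDimensional F V]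

/-- the subgroup generated by elements with eigenvalue one -/
def fixGen (H : Subgroup (V ≃ₗ[F] V)) : Subgroup ↥H :=
  Subgroup.closure {h : ↥H | ∃ v : V, v ≠ 0 ∧ (h : V ≃ₗ[F] V) v = v}

theorem index_fixGen_le_of_le (H : Subgroup (V ≃ₗ[F] V)) (T : Subgroup ↥H)
    (hT : ∀ h ∈ T, ∃ v : V, v ≠ 0 ∧ (h : V ≃ₗ[F] V) v = v) : (fixGen H).index ≤ T.index := by
  have : Finite V := Module.finite_of_finite F
  have : Finite (V ≃ₗ[F] V) := DFunLike.finite (V ≃ₗ[F] V)
  have hle : T ≤ fixGen H := by
    intro h hh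
    exact Subgroup.subset_closure (hT h hh)
  exact Nat.le_of_dvd (Nat.pos_of_ne_zero Subgroup.index_ne_zero_of_finite)
    (Subgroup.index_dvd_of_le hle)

/-- Orbit of a nonzero vector in an invariant subspace. -/
theorem index_le_sub (H : Subgroup (V ≃ₗ[F] V)) (W : Submodule F V)
    (hW : ∀ h ∈ H, ∀ w ∈ W, h w ∈ W) (v : V) (hvW : v ∈ W) (hv : v ≠ 0) :
    (fixGen H).index ≤ Fintype.card F ^ Module.finrank F W - 1 := by
  have : Finite V := Module.finite_of_finite F
  let T : Subgroup ↥H :=
    { carrier := {h | (h : V ≃ₗ[F] V) v = v}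
      one_mem' := by simp
      mul_mem' := by
        intro a b ha hb
        simp only [Set.mem_ofPred_eq] at ha hb ⊢
        rw [Subgroup.coe_mul, LinearEquiv.mul_apply, hb, ha]
      inv_mem' := by
        intro a ha
        simp only [Set.mem_ofPred_eq] at ha ⊢
        rw [Subgroup.coe_inv]
        conv_lhs => rw [← ha]
        exact (a : V ≃ₗ[F] V).symm_apply_apply v }
  have h1 : (fixGen H).index ≤ T.index :=
    index_fixGen_le_of_le H T (fun h hh => ⟨v, hv, hh⟩)
  let φ : ↥H → {x : W // x ≠ 0} := fun h =>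
    ⟨⟨(h : V ≃ₗ[F] V) v, hW h h.2 v hvW⟩, by
      intro h0
      have h00 : (h : V ≃ₗ[F] V) v = 0 := congrArg Subtype.val h0
      exact hv ((LinearEquiv.map_eq_zero_iff _).mp h00)⟩
  have h2 : T.index ≤ Nat.card {x : W // x ≠ 0} := by
    apply index_le_of_map T φ
    intro a b hab
    have h3 : (a : V ≃ₗ[F] V) v = (b : V ≃ₗ[F] V) v := by
      have := congrArg (fun x : {x : W // x ≠ 0} => ((x : W) : V)) hab
      exact this
    show ((a⁻¹ * b : ↥H) : V ≃ₗ[F] V) v = v
    rw [Subgroup.coe_mul, Subgroup.coe_inv, LinearEquiv.mul_apply, ← h3]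
    exact (a : V ≃ₗ[F] V).symm_apply_apply v
  rw [card_ne_zero_subtype, Module.natCard_eq_pow_finrank (K := F), Nat.card_eq_fintype_card] at h2
  exact h1.trans h2

/-- Orbit of a nonzero vector in the quotient by an invariant subspace. -/
theorem index_le_quot (H : Subgroup (V ≃ₗ[F] V)) (W : Submodule F V)
    (hW : ∀ h ∈ H, ∀ w ∈ W, h w ∈ W) (v : V) (hvW : v ∉ W) :
    (fixGen H).index ≤ Fintype.card F ^ Module.finrank F (V ⧸ W) - 1 := by
  have : Finite V := Module.finite_of_finite F
  have : Finite (V ⧸ W) := Module.finite_of_finite F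
  let T : Subgroup ↥H :=
    { carrier := {h | (h : V ≃ₗ[F] V) v - v ∈ W}
      one_mem' := by simp
      mul_mem' := by
        intro a b ha hb
        simp only [Set.mem_ofPred_eq] at ha hb ⊢
        rw [Subgroup.coe_mul, LinearEquiv.mul_apply]
        have h1 : (a : V ≃ₗ[F] V) ((b : V ≃ₗ[F] V) v) - v =
            (a : V ≃ₗ[F] V) ((b : V ≃ₗ[F] V) v - v) + ((a : V ≃ₗ[F] V) v - v) := by
          rw [map_sub]; abel
        rw [h1]
        exact W.add_mem (hW a a.2 _ hb) ha
      inv_mem' := by
        intro a ha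
        simp only [Set.mem_ofPred_eq] at ha ⊢
        have h1 : ((a⁻¹ : ↥H) : V ≃ₗ[F] V) v - v =
            -(((a⁻¹ : ↥H) : V ≃ₗ[F] V) ((a : V ≃ₗ[F] V) v - v)) := by
          rw [map_sub, Subgroup.coe_inv]
          have : ((a : V ≃ₗ[F] V)⁻¹) ((a : V ≃ₗ[F] V) v) = v :=
            (a : V ≃ₗ[F] V).symm_apply_apply v
          rw [this]; abel
        rw [h1]
        exact W.neg_mem (hW _ (a⁻¹).2 _ ha) }
  -- elements of `T` have eigenvalue one
  have hT : ∀ h ∈ T, ∃ u : V, u ≠ 0 ∧ (h : V ≃ₗ[F] V) u = u := by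
    intro h hh
    by_contra hcon
    simp only [not_exists, not_and] at hcon
    -- `h - 1` is injective
    let D : V →ₗ[F] V := ((h : V ≃ₗ[F] V) : V →ₗ[F] V) - LinearMap.id
    have hDapp : ∀ x, D x = (h : V ≃ₗ[F] V) x - x := fun x => by simp [D]
    have hDinj : Function.Injective D := by
      rw [← LinearMap.ker_eq_bot, LinearMap.ker_eq_bot']
      intro x hx
      by_contra hx0
      apply hcon x hx0
      rw [hDapp] at hx
      exact sub_eq_zero.mp hx
    -- restricted to `W` it is injective, hence surjective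
    have hDW : ∀ w ∈ W, D w ∈ W := by
      intro w hw
      rw [hDapp]
      exact W.sub_mem (hW h h.2 w hw) hw
    let DW : W →ₗ[F] W := D.restrict hDW
    have hDWinj : Function.Injective DW := by
      intro a b hab
      have h1 : D a = D b := by
        have := congrArg Subtype.val hab
        simpa [DW, LinearMap.restrict_apply] using this
      exact Subtype.ext (hDinj h1)
    have hDWsurj : Function.Surjective DW := LinearMap.injective_iff_surjective.mp hDWinj
    have hDv : D v ∈ W := by rw [hDapp]; exact hh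
    obtain ⟨w, hw⟩ := hDWsurj ⟨D v, hDv⟩
    have h2 : D w = D v := by
      have := congrArg Subtype.val hw
      simpa [DW, LinearMap.restrict_apply] using this
    have h3 : (w : V) = v := hDinj h2
    apply hvW
    rw [← h3]; exact w.2
  have h1 : (fixGen H).index ≤ T.index := index_fixGen_le_of_le H T hT
  let φ : ↥H → {x : V ⧸ W // x ≠ 0} := fun h =>
    ⟨Submodule.Quotient.mk ((h : V ≃ₗ[F] V) v), by
      intro h0
      rw [Submodule.Quotient.mk_eq_zero] at h0
      apply hvW
      have := hW _ (h⁻¹).2 _ h0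
      rw [Subgroup.coe_inv] at this
      have h2 : ((h : V ≃ₗ[F] V)⁻¹) ((h : V ≃ₗ[F] V) v) = v :=
        (h : V ≃ₗ[F] V).symm_apply_apply v
      rwa [h2] at this⟩
  have h2 : T.index ≤ Nat.card {x : V ⧸ W // x ≠ 0} := by
    apply index_le_of_map T φ
    intro a b hab
    have h3 : (Submodule.Quotient.mk ((a : V ≃ₗ[F] V) v) : V ⧸ W) =
        Submodule.Quotient.mk ((b : V ≃ₗ[F] V) v) := congrArg Subtype.val hab
    rw [Submodule.Quotient.eq] at h3
    show ((a⁻¹ * b : ↥H) : V ≃ₗ[F] V) v - v ∈ W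
    have h4 : ((a⁻¹ * b : ↥H) : V ≃ₗ[F] V) v - v =
        -(((a⁻¹ : ↥H) : V ≃ₗ[F] V) ((a : V ≃ₗ[F] V) v - (b : V ≃ₗ[F] V) v)) := by
      rw [Subgroup.coe_mul, LinearEquiv.mul_apply, map_sub, Subgroup.coe_inv]
      have : ((a : V ≃ₗ[F] V)⁻¹) ((a : V ≃ₗ[F] V) v) = v := (a : V ≃ₗ[F] V).symm_apply_apply v
      rw [this]; abel
    rw [h4]
    exact W.neg_mem (hW _ (a⁻¹).2 _ h3)
  rw [card_ne_zero_subtype, Module.natCard_eq_pow_finrank (K := F), Nat.card_eq_fintype_card] at h2
  exact h1.trans h2

end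

/-- Let F be a finite field with q elements, V a non-zero finite-dimensional F-space of dimension d, H a group of invertible linear maps of V, and R the subgroup of H generated by the elements of H that fix some non-zero vector (have eigenvalue 1). Then the index of R in H is at most q^d − 1; and if H leaves invariant some proper non-zero subspace, the index is at most q^(d/2) − 1. -/
theorem result {F V : Type*} [Field F] [Fintype F] [AddCommGroup V] [Module F V] [FiniteDimensional F V] [Nontrivial V]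
    (H : Subgroup (V ≃ₗ[F] V)) :
    (Subgroup.closure {h : ↥H | ∃ v : V, v ≠ 0 ∧ (h : V ≃ₗ[F] V) v = v}).index ≤ Fintype.card F ^ Module.finrank F V - 1 ∧
    ((∃ W : Submodule F V, W ≠ ⊥ ∧ W ≠ ⊤ ∧ ∀ h ∈ H, ∀ w ∈ W, h w ∈ W) →
      ((Subgroup.closure {h : ↥H | ∃ v : V, v ≠ 0 ∧ (h : V ≃ₗ[F] V) v = v}).index : ℝ) ≤ Real.sqrt ((Fintype.card F : ℝ) ^ Module.finrank F V) - 1) := by
  classical
  change (fixGen H).index ≤ _ ∧ (_ → ((fixGen H).index : ℝ) ≤ _)
  constructor
  · obtain ⟨v, hv⟩ := exists_ne (0 : V)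
    have := index_le_sub H ⊤ (fun _ _ _ _ => Submodule.mem_top) v Submodule.mem_top hv
    rwa [finrank_top] at this
  · rintro ⟨W, hWbot, hWtop, hW⟩
    set q := Fintype.card F with hq
    set d := Module.finrank F V with hd
    have hq1 : 1 ≤ q := Fintype.card_pos
    have hsum : Module.finrank F (V ⧸ W) + Module.finrank F W = d :=
      Submodule.finrank_quotient_add_finrank W
    -- a bound `q ^ e - 1` with `2 e ≤ d`
    have hex : ∃ e : ℕ, 2 * e ≤ d ∧ (fixGen H).index ≤ q ^ e - 1 := by
      by_cases hcase : Module.finrank F W ≤ Module.finrank F (V ⧸ W)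
      · obtain ⟨v, hvW, hv⟩ := (Submodule.ne_bot_iff W).mp hWbot
        exact ⟨Module.finrank F W, by omega, index_le_sub H W hW v hvW hv⟩
      · have : ∃ v : V, v ∉ W := by
          by_contra hcon
          simp only [not_exists, not_not] at hcon
          exact hWtop (eq_top_iff.mpr (fun v _ => hcon v))
        obtain ⟨v, hvW⟩ := this
        exact ⟨Module.finrank F (V ⧸ W), by omega, index_le_quot H W hW v hvW⟩
    obtain ⟨e, he, hidx⟩ := hex
    have hqe : 1 ≤ q ^ e := Nat.one_le_pow _ _ hq1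
    have h1 : ((fixGen H).index : ℝ) ≤ (q : ℝ) ^ e - 1 := by
      have : ((fixGen H).index : ℝ) ≤ ((q ^ e - 1 : ℕ) : ℝ) := by exact_mod_cast hidx
      rw [Nat.cast_sub hqe] at this
      simpa using this
    have h2 : (q : ℝ) ^ e ≤ Real.sqrt ((q : ℝ) ^ d) := by
      apply Real.le_sqrt_of_sq_le
      rw [← pow_mul]
      apply pow_le_pow_right₀
      · exact_mod_cast hq1
      · omega
    linarith

end Cfsg.Agent.S4178
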