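import Cfsg.Statements.S4182
import Mathlib

set_option autoImplicit false
open Cfsg

open scoped Pointwise

namespace Cfsg.Agent.S4182

/-- A finite `p`-group is not the union of at most `p` proper subgroups. -/
theorem pgroup_cover {P : Type*} [Group P] [Finite P] {p : ℕ} [Fact p.Prime] (hP : IsPGroup p P)
    {J : Type*} [Fintype J] (L : J → Subgroup P) (hJ : Fintype.card J ≤ p)
    (hcov : ∀ g : P, ∃ j, g ∈ L j) : ∃ j, L j = ⊤ := by
  classical
  by_contra hne
  simp only [not_exists] at hne
  have : Fintype P := Fintype.ofFinite P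
  have hp2 : 2 ≤ p := (Fact.out : p.Prime).two_le
  set c := Nat.card P with hc
  -- each `L j` has `card * p ≤ card P`
  have hsmall : ∀ j, Nat.card (L j) * p ≤ c := by
    intro j
    obtain ⟨n, hn⟩ := hP.index (L j)
    have hn0 : n ≠ 0 := by
      rintro rfl
      rw [pow_zero, Subgroup.index_eq_one] at hn
      exact hne j hn
    have hdvd : p ∣ (L j).index := by rw [hn]; exact dvd_pow_self p hn0
    obtain ⟨m, hm⟩ := hdvd
    have h1 := Subgroup.card_mul_index (L j)
    rw [hm] at h1
    have hm0 : 0 < m := by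
      rcases Nat.eq_zero_or_pos m with h | h
      · rw [h, mul_zero, mul_zero] at h1
        have : 0 < Nat.card P := Nat.card_pos
        omega
      · exact h
    calc Nat.card (L j) * p ≤ Nat.card (L j) * p * m := Nat.le_mul_of_pos_right _ hm0
      _ = c := by rw [hc, ← h1]; ring
  obtain ⟨j₀, -⟩ := hcov 1
  have hcp : p ≤ c := by
    have h1 := hsmall j₀
    have h2 : 0 < Nat.card (L j₀) := Nat.card_pos
    nlinarith
  -- union bound
  set A : Finset P := Finset.univ.erase (1 : P) with hA
  have hAcard : A.card = c - 1 := by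
    rw [hA, Finset.card_erase_of_mem (Finset.mem_univ _), Finset.card_univ, hc,
      Nat.card_eq_fintype_card]
  let B : J → Finset P := fun j => ((L j : Set P).toFinset).erase 1
  have hBcard : ∀ j, (B j).card = Nat.card (L j) - 1 := by
    intro j
    have h1 : (1 : P) ∈ (L j : Set P).toFinset := by simp
    rw [Finset.card_erase_of_mem h1, Set.toFinset_card, Nat.card_eq_fintype_card]
    rfl
  have hsub : A ⊆ Finset.univ.biUnion B := by
    intro g hg
    rw [hA, Finset.mem_erase] at hg
    obtain ⟨j, hj⟩ := hcov g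
    rw [Finset.mem_biUnion]
    exact ⟨j, Finset.mem_univ _, by simp [B, hg.1, hj]⟩
  have h1 : c - 1 ≤ ∑ j : J, (B j).card := by
    rw [← hAcard]
    exact (Finset.card_le_card hsub).trans Finset.card_biUnion_le
  have h2 : ∑ j : J, (B j).card ≤ ∑ _j : J, (c / p - 1) := by
    apply Finset.sum_le_sum
    intro j _
    rw [hBcard]
    have := hsmall j
    have h3 : Nat.card (L j) ≤ c / p := by
      rw [Nat.le_div_iff_mul_le (by omega)]
      exact this
    omega
  rw [Finset.sum_const, Finset.card_univ, smul_eq_mul] at h2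
  have h3 : Fintype.card J * (c / p - 1) ≤ p * (c / p - 1) := Nat.mul_le_mul_right _ hJ
  have h4 : p * (c / p) ≤ c := Nat.mul_div_le c p
  have h5 : 1 ≤ c / p := by
    rw [Nat.le_div_iff_mul_le (by omega)]; omega
  have h6 : p * (c / p - 1) = p * (c / p) - p := by
    rw [Nat.mul_sub, mul_one]
  omega

universe u v

/-- `M` is generated by its `p`-elements. -/
def PGen (p : ℕ) {G : Type*} [Group G] (M : Subgroup G) : Prop :=
  Subgroup.closure {g : G | g ∈ M ∧ ∃ k : ℕ, orderOf g = p ^ k} = M

theorem PGen_closure_le (p : ℕ) {G : Type*} [Group G] (M : Subgroup G) :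
    Subgroup.closure {g : G | g ∈ M ∧ ∃ k : ℕ, orderOf g = p ^ k} ≤ M := by
  rw [Subgroup.closure_le]
  intro g hg
  exact hg.1

theorem PGen_zpowers (p : ℕ) {G : Type*} [Group G] (x : G) (hx : ∃ k : ℕ, orderOf x = p ^ k) :
    PGen p (Subgroup.zpowers x) := by
  apply le_antisymm (PGen_closure_le p _)
  rw [Subgroup.zpowers_le]
  exact Subgroup.subset_closure ⟨Subgroup.mem_zpowers x, hx⟩

theorem PGen_sup (p : ℕ) {G : Type*} [Group G] (M M' : Subgroup G) (h : PGen p M)
    (h' : PGen p M') : PGen p (M ⊔ M') := by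
  apply le_antisymm (PGen_closure_le p _)
  apply sup_le
  · conv_lhs => rw [← h]
    apply Subgroup.closure_mono
    intro g hg
    exact ⟨(le_sup_left : M ≤ M ⊔ M') hg.1, hg.2⟩
  · conv_lhs => rw [← h']
    apply Subgroup.closure_mono
    intro g hg
    exact ⟨(le_sup_right : M' ≤ M ⊔ M') hg.1, hg.2⟩

theorem PGen_smul (p : ℕ) {G : Type*} [Group G] (M : Subgroup G) (h : PGen p M) (c : MulAut G) :
    PGen p (c • M) := by
  apply le_antisymm (PGen_closure_le p _)
  conv_lhs => rw [← h]
  rw [Subgroup.smul_closure]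
  apply Subgroup.closure_mono
  rintro _ ⟨g, ⟨hgM, k, hk⟩, rfl⟩
  refine ⟨Subgroup.smul_mem_pointwise_smul g c M hgM, k, ?_⟩
  show orderOf (c g) = p ^ k
  rw [MulEquiv.orderOf_eq]
  exact hk

theorem PGen_top_subtype (p : ℕ) {G : Type*} [Group G] (M : Subgroup G) (h : PGen p M) :
    Subgroup.closure {g : M | ∃ k : ℕ, orderOf g = p ^ k} = ⊤ := by
  have h1 : (Subgroup.closure {g : M | ∃ k : ℕ, orderOf g = p ^ k}).map M.subtype = M := by
    rw [MonoidHom.map_closure]
    conv_rhs => rw [← h]
    congr 1
    ext g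
    constructor
    · rintro ⟨g', ⟨k, hk⟩, rfl⟩
      exact ⟨g'.2, k, by rw [← hk]; exact Subgroup.orderOf_coe g'⟩
    · rintro ⟨hgM, k, hk⟩
      exact ⟨⟨g, hgM⟩, ⟨k, by rw [← hk]; exact (Subgroup.orderOf_coe (⟨g, hgM⟩ : M)).symm⟩, rfl⟩
  apply (Subgroup.map_injective M.subtype_injective)
  rw [h1, ← MonoidHom.range_eq_map, Subgroup.range_subtype]

/-- if `c ^ m` and `c ^ n` fix `M` with `m, n` coprime then `c` fixes `M` -/
theorem smul_eq_of_coprime {G : Type*} [Group G] (M : Subgroup G) (c : MulAut G) (m n : ℕ)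
    (hmn : Nat.Coprime m n) (hm : c ^ m • M = M) (hn : c ^ n • M = M) : c • M = M := by
  have h1 : c ^ m ∈ MulAction.stabilizer (MulAut G) M := hm
  have h2 : c ^ n ∈ MulAction.stabilizer (MulAut G) M := hn
  have h3 : (1 : ℤ) = (m : ℤ) * Nat.gcdA m n + (n : ℤ) * Nat.gcdB m n := by
    rw [← Nat.gcd_eq_gcd_ab, hmn]; simp
  have h4 : c = (c ^ m) ^ (Nat.gcdA m n) * (c ^ n) ^ (Nat.gcdB m n) := by
    rw [← zpow_natCast, ← zpow_natCast, ← zpow_mul, ← zpow_mul, ← zpow_add, ← h3, zpow_one]
  have h5 : c ∈ MulAction.stabilizer (MulAut G) M := by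
    rw [h4]
    exact Subgroup.mul_mem _ (Subgroup.zpow_mem _ h1 _) (Subgroup.zpow_mem _ h2 _)
  exact h5


/-- The main induction. -/
theorem main (p : ℕ) [Fact p.Prime] {ι : Type v} [Fintype ι] (hι : Fintype.card ι ≤ p) :
    ∀ n : ℕ, ∀ (G : Type u) [Group G] [Finite G], Nat.card G = n →
      Subgroup.closure {g : G | ∃ k : ℕ, orderOf g = p ^ k} = ⊤ →
      ∀ K : ι → Subgroup G, (∀ g : G, (∃ k : ℕ, orderOf g = p ^ k) → ∃ i, g ∈ K i) →
        ∃ i, K i = ⊤ := by
  intro n
  induction n using Nat.strong_induction_on with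
  | _ n ih =>
  intro G _ _ hn hgen K hcov
  classical
  by_cases hPG : IsPGroup p G
  · exact pgroup_cover hPG K hι (fun g => hcov g (IsPGroup.iff_orderOf.mp hPG g))
  by_contra hne
  simp only [not_exists] at hne
  -- (a) every proper p-generated subgroup lies in some `K i`
  have ha : ∀ M : Subgroup G, PGen p M → M ≠ ⊤ → ∃ i, M ≤ K i := by
    intro M hM hMtop
    have hlt : Nat.card M < n := by
      rw [← hn]
      apply lt_of_le_of_ne (Subgroup.card_le_card_group M)
      intro h
      exact hMtop ((Subgroup.card_eq_iff_eq_top M).mp h)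
    obtain ⟨i, hi⟩ := ih (Nat.card M) hlt M rfl (PGen_top_subtype p M hM)
      (fun i => (K i).subgroupOf M) (by
        rintro g ⟨k, hk⟩
        obtain ⟨i, hi⟩ := hcov (g : G) ⟨k, by rw [← hk]; exact Subgroup.orderOf_coe g⟩
        exact ⟨i, Subgroup.mem_subgroupOf.mpr hi⟩)
    exact ⟨i, Subgroup.subgroupOf_eq_top.mp hi⟩
  -- the proper p-generated subgroups and the maximal ones among them
  let PP : Subgroup G → Prop := fun M => M ≠ ⊤ ∧ PGen p M
  -- (c) two maximal ones inside the same `K i` coincide
  have hc : ∀ M M' : Subgroup G, Maximal PP M → Maximal PP M' → ∀ i, M ≤ K i → M' ≤ K i →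
      M = M' := by
    intro M M' hM hM' i hMi hM'i
    have h1 : PP (M ⊔ M') := by
      refine ⟨?_, PGen_sup p M M' hM.1.2 hM'.1.2⟩
      intro htop
      apply hne i
      rw [eq_top_iff, ← htop]
      exact sup_le hMi hM'i
    have h2 : M ⊔ M' ≤ M := hM.2 h1 le_sup_left
    have h3 : M ⊔ M' ≤ M' := hM'.2 h1 le_sup_right
    exact le_antisymm (le_sup_left.trans h3) (le_sup_right.trans h2)
  -- (d) every p-element lies in a maximal one
  have hd : ∀ x : G, (∃ k : ℕ, orderOf x = p ^ k) → ∃ M, Maximal PP M ∧ x ∈ M := by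
    intro x hx
    have h1 : PP (Subgroup.zpowers x) := by
      refine ⟨?_, PGen_zpowers p x hx⟩
      intro htop
      apply hPG
      rw [IsPGroup.iff_orderOf]
      intro g
      have hg : g ∈ Subgroup.zpowers x := by rw [htop]; trivial
      obtain ⟨k, hk⟩ := hx
      have : orderOf g ∣ p ^ k := by
        rw [← hk]
        exact orderOf_dvd_of_mem_zpowers hg
      obtain ⟨j, -, hj⟩ := (Nat.dvd_prime_pow (Fact.out : p.Prime)).mp this
      exact ⟨j, hj⟩
    obtain ⟨M, hle, hM⟩ := Finite.exists_le_maximal (p := PP) h1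
    exact ⟨M, hM, hle (Subgroup.mem_zpowers x)⟩
  -- conjugates of maximal ones are maximal
  have hconj : ∀ (M : Subgroup G) (c : MulAut G), Maximal PP M → Maximal PP (c • M) := by
    intro M c hM
    have hP : ∀ (N : Subgroup G) (d : MulAut G), PP N → PP (d • N) := by
      intro N d hN
      refine ⟨?_, PGen_smul p N hN.2 d⟩
      intro htop
      apply hN.1
      rw [eq_top_iff]
      intro g _
      have hg : d • g ∈ d • N := by rw [htop]; trivial
      exact (Subgroup.smul_mem_pointwise_smul_iff).mp hg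
    refine ⟨hP M c hM.1, ?_⟩
    intro N hN hle
    have h1 : M ≤ c⁻¹ • N := by
      rw [← Subgroup.pointwise_smul_le_pointwise_smul_iff (a := c), smul_inv_smul]
      exact hle
    have h2 : c⁻¹ • N ≤ M := hM.2 (hP N c⁻¹ hN) h1
    rw [← Subgroup.pointwise_smul_le_pointwise_smul_iff (a := c), smul_inv_smul] at h2
    exact h2
  -- (e) every p-element normalizes every maximal one
  have he : ∀ (x : G), (∃ k : ℕ, orderOf x = p ^ k) → ∀ M : Subgroup G, Maximal PP M →
      MulAut.conj x • M = M := by
    intro x hx M hM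
    by_contra hxM
    obtain ⟨M₁, hM₁, hxM₁⟩ := hd x hx
    set c : MulAut G := MulAut.conj x with hcdef
    have hcM₁ : ∀ t : ℕ, c ^ t • M₁ = M₁ := by
      intro t
      rw [hcdef, ← map_pow]
      exact Subgroup.conj_smul_eq_self_of_mem (Subgroup.pow_mem _ hxM₁ t)
    obtain ⟨k, hk⟩ := hx
    have hck : c ^ (p ^ k) • M = M := by
      rw [hcdef, ← map_pow, ← hk, pow_orderOf_eq_one, map_one, one_smul]
    let ψ : Option (Fin p) → Subgroup G := fun o =>
      match o with
      | none => M₁
      | some t => c ^ (t : ℕ) • M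
    have hψmax : ∀ o, Maximal PP (ψ o) := by
      intro o
      cases o with
      | none => exact hM₁
      | some t => exact hconj M _ hM
    have hkey : ∀ s t : ℕ, s < t → t < p → c ^ s • M ≠ c ^ t • M := by
      intro s t hst htp heq
      apply hxM
      have h1 : c ^ (t - s) • M = M := by
        have h2 : c ^ t = c ^ s * c ^ (t - s) := by
          rw [← pow_add]; congr 1; omega
        rw [h2, mul_smul] at heq
        exact (smul_left_cancel _ heq).symm
      have hcop : Nat.Coprime (t - s) (p ^ k) := by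
        apply Nat.Coprime.pow_right
        rw [Nat.coprime_comm, Nat.Prime.coprime_iff_not_dvd (Fact.out : p.Prime)]
        intro hdvd
        have := Nat.le_of_dvd (by omega) hdvd
        omega
      exact smul_eq_of_coprime M c (t - s) (p ^ k) hcop h1 hck
    have hψinj : Function.Injective ψ := by
      intro o o' hoo'
      cases o with
      | none =>
        cases o' with
        | none => rfl
        | some t =>
          exfalso
          apply hxM
          have h1 : M₁ = c ^ (t : ℕ) • M := hoo'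
          have h2 : M = M₁ := by
            have h3 : (c ^ (t : ℕ))⁻¹ • M₁ = M := by rw [h1, inv_smul_smul]
            have h4 : (c ^ (t : ℕ))⁻¹ • M₁ = M₁ := by
              rw [inv_smul_eq_iff]; exact (hcM₁ _).symm
            rw [← h3, h4]
          rw [h2]
          have := hcM₁ 1
          rwa [pow_one] at this
      | some s =>
        cases o' with
        | none =>
          exfalso
          apply hxM
          have h1 : c ^ (s : ℕ) • M = M₁ := hoo'
          have h2 : M = M₁ := by
            have h3 : (c ^ (s : ℕ))⁻¹ • M₁ = M := by rw [← h1, inv_smul_smul]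
            have h4 : (c ^ (s : ℕ))⁻¹ • M₁ = M₁ := by
              rw [inv_smul_eq_iff]; exact (hcM₁ _).symm
            rw [← h3, h4]
          rw [h2]
          have := hcM₁ 1
          rwa [pow_one] at this
        | some t =>
          have h1 : c ^ (s : ℕ) • M = c ^ (t : ℕ) • M := hoo'
          rcases lt_trichotomy (s : ℕ) (t : ℕ) with hlt | heq | hgt
          · exact absurd h1 (hkey _ _ hlt t.2)
          · congr 1; exact Fin.ext heq
          · exact absurd h1.symm (hkey _ _ hgt s.2)
    choose f hf using fun o => ha (ψ o) (hψmax o).1.2 (hψmax o).1.1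
    have hfinj : Function.Injective f := by
      intro o o' hoo'
      apply hψinj
      exact hc _ _ (hψmax o) (hψmax o') (f o) (hf o) (hoo' ▸ hf o')
    have := Fintype.card_le_of_injective f hfinj
    rw [Fintype.card_option, Fintype.card_fin] at this
    omega
  -- (f) final contradiction via a Sylow subgroup
  let J := {M : Subgroup G // Maximal PP M}
  have : Fintype J := Fintype.ofFinite J
  choose f hf using fun M : J => ha M.1 M.2.1.2 M.2.1.1
  have hfinj : Function.Injective f := by
    intro M M' hMM'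
    apply Subtype.ext
    exact hc _ _ M.2 M'.2 (f M) (hf M) (hMM' ▸ hf M')
  have hJ : Fintype.card J ≤ p := (Fintype.card_le_of_injective f hfinj).trans hι
  obtain ⟨P⟩ : Nonempty (Sylow p G) := inferInstance
  obtain ⟨M, hM⟩ := pgroup_cover (P := (P : Subgroup G)) P.isPGroup'
    (fun M : J => (M.1).subgroupOf (P : Subgroup G)) hJ (by
      intro g
      obtain ⟨k, hk⟩ := IsPGroup.iff_orderOf.mp P.isPGroup' g
      obtain ⟨M, hM, hgM⟩ := hd (g : G) ⟨k, by rw [← hk]; exact Subgroup.orderOf_coe g⟩
      exact ⟨⟨M, hM⟩, Subgroup.mem_subgroupOf.mpr hgM⟩)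
  have hPM : (P : Subgroup G) ≤ M.1 := Subgroup.subgroupOf_eq_top.mp hM
  -- `M` is normalized by everything
  have hnorm : ∀ g : G, MulAut.conj g • M.1 = M.1 := by
    let S : Subgroup G := (MulAction.stabilizer (MulAut G) M.1).comap MulAut.conj
    have hS : S = ⊤ := by
      rw [eq_top_iff, ← hgen, Subgroup.closure_le]
      intro x hx
      exact he x hx M.1 M.2
    intro g
    have : g ∈ S := by rw [hS]; trivial
    exact this
  apply M.2.1.1
  rw [eq_top_iff, ← hgen, Subgroup.closure_le]
  intro y hy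
  have hy' : IsPGroup p (Subgroup.zpowers y) := by
    rw [IsPGroup.iff_orderOf]
    intro g
    obtain ⟨k, hk⟩ := hy
    have : orderOf g ∣ p ^ k := by
      rw [← hk, ← Subgroup.orderOf_coe]
      exact orderOf_dvd_of_mem_zpowers g.2
    obtain ⟨j, -, hj⟩ := (Nat.dvd_prime_pow (Fact.out : p.Prime)).mp this
    exact ⟨j, hj⟩
  obtain ⟨Q, hQ⟩ := hy'.exists_le_sylow
  obtain ⟨g, hg⟩ := MulAction.exists_smul_eq G P Q
  have h1 : (Q : Subgroup G) = MulAut.conj g • (P : Subgroup G) := by
    rw [← hg]; rfl
  have h2 : (Q : Subgroup G) ≤ M.1 := by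
    rw [h1, ← hnorm g]
    exact Subgroup.pointwise_smul_le_pointwise_smul_iff.mpr hPM
  exact h2 (hQ (Subgroup.mem_zpowers y))

/-- Let p be a prime and G a finite group generated by its p-elements. If a finite family of proper subgroups of G covers the set of p-elements of G (every element of p-power order lies in one of them), then the family has at least p + 1 members. -/
theorem result {G : Type*} [Group G] [Finite G] (p : ℕ) [Fact p.Prime] (hgen : Subgroup.closure {g : G | ∃ k : ℕ, orderOf g = p ^ k} = ⊤)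
    {ι : Type*} [Fintype ι] (K : ι → Subgroup G) (hK : ∀ i, K i ≠ ⊤)
    (hcov : ∀ g : G, (∃ k : ℕ, orderOf g = p ^ k) → ∃ i, g ∈ K i) :
    p + 1 ≤ Fintype.card ι := by
  by_contra h
  have hι : Fintype.card ι ≤ p := by omega
  obtain ⟨i, hi⟩ := main p hι (Nat.card G) G rfl hgen K hcov
  exact hK i hi

end Cfsg.Agent.S4182
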