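import Mathlib
import Cfsg.Statements.S4184
-- import your own Cfsg.Agent.* helpers here

set_option autoImplicit false
set_option linter.unusedSectionVars false
set_option linter.style.haveILetI false
set_option linter.unusedVariables false
open Cfsg

namespace Cfsg.Agent.S4184

section general
variable {G : Type*} [Group G]

/-- class size of `g` -/
noncomputable abbrev cs (g : G) : ℕ := (Subgroup.centralizer ({g} : Set G)).index

theorem mem_cent {g x : G} : x ∈ Subgroup.centralizer ({g} : Set G) ↔ g * x = x * g := by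
  simp [Subgroup.mem_centralizer_iff]

variable [Finite G]

theorem cs_dvd_card (g : G) : cs g ∣ Nat.card G := Subgroup.index_dvd_card _

theorem cs_ne_zero (g : G) : cs g ≠ 0 := Subgroup.index_ne_zero_of_finite

theorem card_cent_mul_cs (g : G) :
    Nat.card (Subgroup.centralizer ({g} : Set G)) * cs g = Nat.card G := Subgroup.card_mul_index _

theorem fact_card (g : G) (r : ℕ) : (Nat.card G).factorization r =
    (Nat.card (Subgroup.centralizer ({g} : Set G))).factorization r + (cs g).factorization r := by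
  rw [← card_cent_mul_cs g, Nat.factorization_mul Nat.card_pos.ne' (cs_ne_zero g)]
  rfl

theorem cs_eq_one_iff (g : G) : cs g = 1 ↔ g ∈ Subgroup.center G := by
  rw [cs, Subgroup.index_eq_one]
  constructor
  · intro h
    rw [Subgroup.mem_center_iff]
    intro x
    have : x ∈ Subgroup.centralizer ({g} : Set G) := h ▸ Subgroup.mem_top x
    exact (mem_cent.mp this).symm
  · intro h
    rw [eq_top_iff]
    intro x _
    rw [mem_cent]
    exact ((Subgroup.mem_center_iff.mp h) x).symm

theorem cent_mul_le_left {x y : G} (hc : Commute x y) (hco : (orderOf x).Coprime (orderOf y)) :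
    Subgroup.centralizer ({x * y} : Set G) ≤ Subgroup.centralizer ({x} : Set G) := by
  intro g hg
  rw [mem_cent] at hg ⊢
  obtain ⟨k, hk⟩ := exists_pow_eq_self_of_coprime (x := x) (n := orderOf y) hco.symm
  have h1 : (x * y) ^ (orderOf y) = x ^ (orderOf y) := by
    rw [hc.mul_pow, pow_orderOf_eq_one, mul_one]
  have h2 : Commute (x * y) g := hg
  have h3 : Commute (((x * y) ^ (orderOf y)) ^ k) g := (h2.pow_left _).pow_left _
  rw [h1, hk] at h3
  exact h3

theorem cs_dvd_mul_left {x y : G} (hc : Commute x y) (hco : (orderOf x).Coprime (orderOf y)) :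
    cs x ∣ cs (x * y) := Subgroup.index_dvd_of_le (cent_mul_le_left hc hco)

theorem cs_dvd_mul_right {x y : G} (hc : Commute x y) (hco : (orderOf x).Coprime (orderOf y)) :
    cs y ∣ cs (x * y) := by
  have := cs_dvd_mul_left hc.symm hco.symm
  rwa [hc.symm.eq] at this

theorem cs_conj (g z : G) : cs (g * z * g⁻¹) = cs z := by
  have : Subgroup.centralizer ({g * z * g⁻¹} : Set G) =
      (Subgroup.centralizer ({z} : Set G)).map ((MulAut.conj g : G ≃* G) : G →* G) := by
    ext x
    rw [mem_cent, Subgroup.mem_map]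
    constructor
    · intro hx
      refine ⟨g⁻¹ * x * g, ?_, by simp [mul_assoc]⟩
      rw [mem_cent]
      have : g⁻¹ * (g * z * g⁻¹ * x) * g = g⁻¹ * (x * (g * z * g⁻¹)) * g := by rw [hx]
      simpa [mul_assoc] using this
    · rintro ⟨u, hu, rfl⟩
      rw [mem_cent] at hu
      simp only [MonoidHom.coe_coe, MulAut.conj_apply]
      calc g * z * g⁻¹ * (g * u * g⁻¹) = g * (z * u) * g⁻¹ := by group
        _ = g * (u * z) * g⁻¹ := by rw [hu]
        _ = g * u * g⁻¹ * (g * z * g⁻¹) := by group
  rw [cs, this]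
  exact Subgroup.index_map_equiv _ (MulAut.conj g)


/-- `s` carries the full `A`-part of `m`. -/
def TB (A : Set ℕ) (m s : ℕ) : Prop :=
  ∀ a, a.Prime → a ∈ A → s.factorization a = m.factorization a

theorem TB.mono {A : Set ℕ} {m s s' : ℕ} (h : TB A m s) (h1 : s ∣ s') (h2 : s' ∣ m) (hm : m ≠ 0) :
    TB A m s' := by
  intro a ha haA
  have hs' : s' ≠ 0 := ne_zero_of_dvd_ne_zero hm h2
  have hs : s ≠ 0 := ne_zero_of_dvd_ne_zero hs' h1
  have e1 := (Nat.factorization_le_iff_dvd hs hs').mpr h1 a
  have e2 := (Nat.factorization_le_iff_dvd hs' hm).mpr h2 a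
  have := h a ha haA
  omega

theorem eq_of_TB_both {A : Set ℕ} {m s : ℕ} (h1 : TB A m s) (h2 : TB Aᶜ m s) (hs : s ≠ 0)
    (hm : m ≠ 0) : s = m := by
  apply Nat.eq_of_factorization_eq hs hm
  intro p
  by_cases hp : p.Prime
  · by_cases hpA : p ∈ A
    · exact h1 p hp hpA
    · exact h2 p hp hpA
  · simp [Nat.factorization_eq_zero_of_not_prime _ hp]

/-- The hypotheses on the `G` side. -/
structure Hyp (G : Type*) [Group G] (A : Set ℕ) (m : ℕ) : Prop where
  hm : m ≠ 0
  dvd : ∀ g : G, cs g ∣ m
  ne : ∀ g : G, cs g ≠ m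
  typ : ∀ g : G, g ≠ 1 → TB A m (cs g) ∨ TB Aᶜ m (cs g)
  le : m ∣ Nat.card G

theorem Hyp.symm {A : Set ℕ} {m : ℕ} (h : Hyp G A m) : Hyp G Aᶜ m where
  hm := h.hm
  dvd := h.dvd
  ne := h.ne
  typ := fun g hg => by
    rw [compl_compl]
    exact (h.typ g hg).symm
  le := h.le

theorem same_type {A : Set ℕ} {m : ℕ} (h : Hyp G A m) {x y : G} (hy : y ≠ 1)
    (hc : Commute x y) (hco : (orderOf x).Coprime (orderOf y)) (hx : TB A m (cs x)) :
    TB A m (cs y) := by
  have hxy : TB A m (cs (x * y)) := hx.mono (cs_dvd_mul_left hc hco) (h.dvd _) h.hm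
  rcases h.typ y hy with h1 | h1
  · exact h1
  · exfalso
    have hxy' : TB Aᶜ m (cs (x * y)) := h1.mono (cs_dvd_mul_right hc hco) (h.dvd _) h.hm
    exact h.ne _ (eq_of_TB_both hxy hxy' (cs_ne_zero _) h.hm)

theorem exists_sylow_central {q : ℕ} [hq : Fact q.Prime] (hqn : q ∣ Nat.card G) (Q : Sylow q G) :
    ∃ z ∈ (Q : Subgroup G), z ≠ 1 ∧ (∀ u ∈ (Q : Subgroup G), u * z = z * u) ∧
      ∃ k, orderOf z = q ^ k := by
  have hcard : Nat.card Q = q ^ (Nat.card G).factorization q := Q.card_eq_multiplicity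
  have hpos : 0 < (Nat.card G).factorization q :=
    hq.out.factorization_pos_of_dvd Nat.card_pos.ne' hqn
  haveI : Nontrivial (Q : Subgroup G) := by
    rw [← Finite.one_lt_card_iff_nontrivial, hcard]
    exact Nat.one_lt_pow hpos.ne' hq.out.one_lt
  haveI := Q.isPGroup'.center_nontrivial
  obtain ⟨z0, hz0⟩ := exists_ne (1 : Subgroup.center (Q : Subgroup G))
  refine ⟨((z0 : (Q : Subgroup G)) : G), (z0 : (Q : Subgroup G)).2, ?_, ?_, ?_⟩
  · intro h
    apply hz0
    ext
    exact h
  · intro u hu
    have := Subgroup.mem_center_iff.mp z0.2 ⟨u, hu⟩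
    exact congrArg Subtype.val this
  · obtain ⟨k, hk⟩ := (IsPGroup.iff_orderOf.mp Q.isPGroup') (z0 : (Q : Subgroup G))
    exact ⟨k, by rw [← hk, Subgroup.orderOf_coe]⟩

theorem cs_fact_eq_zero_of_central {q : ℕ} [hq : Fact q.Prime] (Q : Sylow q G) {z : G}
    (hz : ∀ u ∈ (Q : Subgroup G), u * z = z * u) : (cs z).factorization q = 0 := by
  have hle : (Q : Subgroup G) ≤ Subgroup.centralizer ({z} : Set G) := by
    intro u hu
    rw [mem_cent]
    exact (hz u hu).symm
  have hcard : Nat.card Q = q ^ (Nat.card G).factorization q := Q.card_eq_multiplicity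
  have hdvd : q ^ (Nat.card G).factorization q ∣ Nat.card (Subgroup.centralizer ({z} : Set G)) := by
    rw [← hcard]
    exact Subgroup.card_dvd_of_le hle
  have h1 := (hq.out.pow_dvd_iff_le_factorization Nat.card_pos.ne').mp hdvd
  have h2 := fact_card z q
  omega


theorem key_sylow {m r : ℕ} [hr : Fact r.Prime]
    (hlt : m.factorization r < (Nat.card G).factorization r)
    (w : G) (hw : (cs w).factorization r = m.factorization r)
    (hy : ∀ y : G, y ≠ 1 → Commute y w → (∃ j, orderOf y = r ^ j) →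
      (cs y).factorization r = m.factorization r) :
    ∃ R : Sylow r G, ∀ z ∈ (R : Subgroup G), (∀ u ∈ (R : Subgroup G), u * z = z * u) →
      Commute z w := by
  have hn := fact_card w r
  set H := Subgroup.centralizer ({w} : Set G) with hH
  set e := (Nat.card H).factorization r with he
  have he_pos : 0 < e := by omega
  have hdvd : r ^ e ∣ Nat.card H := Nat.ordProj_dvd _ _
  obtain ⟨K, hK⟩ := Sylow.exists_subgroup_card_pow_prime r hdvd
  set R1 : Subgroup G := K.map H.subtype with hR1
  have hR1card : Nat.card R1 = r ^ e := by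
    rw [hR1, Subgroup.card_map_of_injective H.subtype_injective, hK]
  have hR1H : R1 ≤ H := Subgroup.map_subtype_le K
  have hR1p : IsPGroup r R1 := IsPGroup.of_card hR1card
  obtain ⟨R, hR⟩ := hR1p.exists_le_sylow
  refine ⟨R, ?_⟩
  have : Nontrivial R1 := by
    rw [← Finite.one_lt_card_iff_nontrivial, hR1card]
    exact Nat.one_lt_pow he_pos.ne' hr.out.one_lt
  have := hR1p.center_nontrivial
  obtain ⟨y0, hy0⟩ := exists_ne (1 : Subgroup.center R1)
  set y : G := ((y0 : R1) : G) with hydef
  have hyR1 : y ∈ R1 := (y0 : R1).2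
  have hy1 : y ≠ 1 := by
    intro h
    apply hy0
    ext
    exact h
  have hycen : ∀ u ∈ R1, u * y = y * u := by
    intro u hu
    have := Subgroup.mem_center_iff.mp y0.2 ⟨u, hu⟩
    exact congrArg Subtype.val this
  have hyord : ∃ j, orderOf y = r ^ j := by
    obtain ⟨k, hk⟩ := (IsPGroup.iff_orderOf.mp hR1p) (y0 : R1)
    exact ⟨k, by rw [← hk, hydef, Subgroup.orderOf_coe]⟩
  have hyw : Commute y w := by
    have := hR1H hyR1
    rw [hH, mem_cent] at this
    exact this.symm
  have hycs := hy y hy1 hyw hyord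
  have hny := fact_card y r
  -- the centraliser of `y` in `R`
  set CR : Subgroup G := (R : Subgroup G) ⊓ Subgroup.centralizer ({y} : Set G) with hCR
  have hR1CR : R1 ≤ CR := by
    refine le_inf hR ?_
    intro u hu
    rw [mem_cent]
    exact (hycen u hu).symm
  have hCRp : IsPGroup r CR := R.isPGroup'.to_le inf_le_left
  obtain ⟨k, hk⟩ := IsPGroup.iff_card.mp hCRp
  have hkdvd : r ^ k ∣ Nat.card (Subgroup.centralizer ({y} : Set G)) := by
    rw [← hk]
    exact Subgroup.card_dvd_of_le inf_le_right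
  have hkle := (hr.out.pow_dvd_iff_le_factorization Nat.card_pos.ne').mp hkdvd
  have hke : k ≤ e := by omega
  have hcardle : Nat.card CR ≤ Nat.card R1 := by
    rw [hk, hR1card]
    exact Nat.pow_le_pow_right hr.out.pos hke
  have hEq : R1 = CR := Subgroup.eq_of_le_of_card_ge hR1CR hcardle
  intro z hzR hzc
  have hzCR : z ∈ CR := by
    refine Subgroup.mem_inf.mpr ⟨hzR, ?_⟩
    rw [mem_cent]
    exact hzc y (hR hyR1)
  rw [← hEq] at hzCR
  have := hR1H hzCR
  rw [hH, mem_cent] at this
  exact this.symm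


theorem pow_coprime_pow {a b : ℕ} (ha : a.Prime) (hb : b.Prime) (hab : a ≠ b) (i j : ℕ) :
    (a ^ i).Coprime (b ^ j) :=
  Nat.Coprime.pow _ _ ((Nat.coprime_primes ha hb).mpr hab)

theorem main_le {A : Set ℕ} {m : ℕ} (hyp : Hyp G A m)
    (hfA : ∃ a ∈ A, a.Prime ∧ a ∣ m) (hfB : ∃ b ∉ A, b.Prime ∧ b ∣ m)
    (r : ℕ) (hr : r.Prime) (hrA : r ∈ A) :
    (Nat.card G).factorization r ≤ m.factorization r := by
  by_contra hlt
  push Not at hlt
  haveI : Fact r.Prime := ⟨hr⟩
  obtain ⟨b, hbA, hb, hbm⟩ := hfB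
  haveI : Fact b.Prime := ⟨hb⟩
  have hbr : b ≠ r := fun h => hbA (h ▸ hrA)
  have hbn : b ∣ Nat.card G := hbm.trans hyp.le
  obtain ⟨w, hwQ, hw1, hwc, kw, hkw⟩ := exists_sylow_central hbn (default : Sylow b G)
  have hw0 := cs_fact_eq_zero_of_central _ hwc
  have hbpos : 0 < m.factorization b := hb.factorization_pos_of_dvd hyp.hm hbm
  have hwB : TB A m (cs w) := by
    rcases hyp.typ w hw1 with h1 | h1
    · exact h1
    · exfalso
      have := h1 b hb hbA
      omega
  obtain ⟨R, hR⟩ := key_sylow hlt w (hwB r hr hrA) (by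
    intro y hy1 hyw ⟨j, hj⟩
    have hco : (orderOf w).Coprime (orderOf y) := by
      rw [hkw, hj]
      exact pow_coprime_pow hb hr hbr _ _
    exact same_type hyp hy1 hyw.symm hco hwB r hr hrA)
  have hrn : r ∣ Nat.card G := by
    apply Nat.dvd_of_factorization_pos
    omega
  obtain ⟨z, hzR, hz1, hzc, kz, hkz⟩ := exists_sylow_central hrn R
  have hzw : Commute z w := hR z hzR hzc
  have hzB : TB A m (cs z) := by
    refine same_type hyp hz1 hzw.symm ?_ hwB
    rw [hkw, hkz]
    exact pow_coprime_pow hb hr hbr _ _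
  have hz0 := cs_fact_eq_zero_of_central _ hzc
  have hrm : m.factorization r = 0 := by
    rw [← hzB r hr hrA]
    exact hz0
  -- now `r ∤ m`; use an element of the other type
  obtain ⟨a, haA, ha, ham⟩ := hfA
  haveI : Fact a.Prime := ⟨ha⟩
  have hapos : 0 < m.factorization a := ha.factorization_pos_of_dvd hyp.hm ham
  have har : a ≠ r := by
    intro h
    rw [h] at hapos
    omega
  have han : a ∣ Nat.card G := ham.trans hyp.le
  obtain ⟨x, hxP, hx1, hxc, kx, hkx⟩ := exists_sylow_central han (default : Sylow a G)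
  have hx0 := cs_fact_eq_zero_of_central _ hxc
  have hxA : TB Aᶜ m (cs x) := by
    rcases hyp.typ x hx1 with h1 | h1
    · exfalso
      have := h1 a ha haA
      omega
    · exact h1
  have hzero : ∀ g : G, (cs g).factorization r = m.factorization r := by
    intro g
    have := (Nat.factorization_le_iff_dvd (cs_ne_zero g) hyp.hm).mpr (hyp.dvd g) r
    omega
  obtain ⟨R', hR'⟩ := key_sylow hlt x (hzero x) (fun y _ _ _ => hzero y)
  obtain ⟨g, hg⟩ := MulAction.exists_smul_eq G R R'
  have hmem : ∀ u : G, u ∈ (R' : Subgroup G) ↔ g⁻¹ * u * g ∈ (R : Subgroup G) := by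
    intro u
    rw [← hg, Sylow.coe_subgroup_smul, Subgroup.mem_pointwise_smul_iff_inv_smul_mem]
    simp [MulAut.smul_def]
  set z' := g * z * g⁻¹ with hz'
  have hz'R : z' ∈ (R' : Subgroup G) := by
    rw [hmem, hz']
    simpa [mul_assoc] using hzR
  have hz'c : ∀ u ∈ (R' : Subgroup G), u * z' = z' * u := by
    intro u hu
    have h1 := hzc _ ((hmem u).mp hu)
    have : g * (g⁻¹ * u * g * z) * g⁻¹ = g * (z * (g⁻¹ * u * g)) * g⁻¹ := by rw [h1]
    rw [hz']
    simpa [mul_assoc] using this
  have hz'1 : z' ≠ 1 := by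
    intro h
    apply hz1
    have : g⁻¹ * z' * g = g⁻¹ * 1 * g := by rw [h]
    simpa [hz', mul_assoc] using this
  have hz'x : Commute z' x := hR' z' hz'R hz'c
  have hz'ord : orderOf z' = r ^ kz := by
    rw [← hkz]
    have hsc : SemiconjBy g z z' := by
      simp [SemiconjBy, hz']
    exact (hsc.orderOf_eq g).symm
  have hz'A : TB Aᶜ m (cs z') := by
    refine same_type hyp.symm hz'1 hz'x.symm ?_ hxA
    rw [hkx, hz'ord]
    exact pow_coprime_pow ha hr har _ _
  rw [hz', cs_conj] at hz'A
  exact hyp.ne z (eq_of_TB_both hzB hz'A (cs_ne_zero _) hyp.hm)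


/-- an element of order `r * b` from `r ∣ orderOf x` and `b ∣ |C(x)|` -/
theorem exists_orderOf_mul (x : G) {r b : ℕ} (hr : r.Prime) (hb : b.Prime) (hrb : r ≠ b)
    (hrx : r ∣ orderOf x) (hbC : b ∣ Nat.card (Subgroup.centralizer ({x} : Set G))) :
    ∃ u : G, orderOf u = r * b := by
  haveI : Fact b.Prime := ⟨hb⟩
  obtain ⟨v0, hv0⟩ := exists_prime_orderOf_dvd_card' b hbC
  set v : G := (v0 : G) with hv
  have hvord : orderOf v = b := by rw [hv, Subgroup.orderOf_coe, hv0]
  have hxv : Commute x v := by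
    have := v0.2
    rw [mem_cent] at this
    exact this
  have hx0 : orderOf x ≠ 0 := (orderOf_pos x).ne'
  have hx'ord : orderOf (x ^ (orderOf x / r)) = r := orderOf_pow_orderOf_div hx0 hrx
  have hc : Commute (x ^ (orderOf x / r)) v := hxv.pow_left _
  refine ⟨x ^ (orderOf x / r) * v, ?_⟩
  rw [hc.orderOf_mul_eq_mul_orderOf_of_coprime, hx'ord, hvord]
  rw [hx'ord, hvord]
  exact (Nat.coprime_primes hr hb).mpr hrb

theorem type_M (A : Set ℕ)
    (hd : ∀ a ∈ A, ∀ b ∉ A, a.Prime → b.Prime → a ∣ Nat.card G → b ∣ Nat.card G →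
      ¬ ∃ x : G, orderOf x = a * b)
    (x : G) (hx : x ≠ 1) : TB A (Nat.card G) (cs x) ∨ TB Aᶜ (Nat.card G) (cs x) := by
  have hx1 : orderOf x ≠ 1 := by
    rw [Ne, orderOf_eq_one_iff]
    exact hx
  obtain ⟨r, hr, hrx⟩ := Nat.exists_prime_and_dvd hx1
  have hrm : r ∣ Nat.card G := hrx.trans (orderOf_dvd_natCard x)
  have hCm : Nat.card (Subgroup.centralizer ({x} : Set G)) ∣ Nat.card G :=
    Subgroup.card_subgroup_dvd_card _
  by_cases hrA : r ∈ A
  · right
    intro b hb hbA
    have hnd : ¬ b ∣ Nat.card (Subgroup.centralizer ({x} : Set G)) := by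
      intro hbC
      have hrb : r ≠ b := fun h => hbA (h ▸ hrA)
      exact hd r hrA b hbA hr hb hrm (hbC.trans hCm) (exists_orderOf_mul x hr hb hrb hrx hbC)
    rw [fact_card x b, Nat.factorization_eq_zero_of_not_dvd hnd, zero_add]
  · left
    intro a ha haA
    have hnd : ¬ a ∣ Nat.card (Subgroup.centralizer ({x} : Set G)) := by
      intro haC
      have hra : r ≠ a := fun h => hrA (h ▸ haA)
      obtain ⟨u, hu⟩ := exists_orderOf_mul x hr ha hra hrx haC
      exact hd a haA r hrA ha hr (haC.trans hCm) hrm ⟨u, by rw [hu, mul_comm]⟩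
    rw [fact_card x a, Nat.factorization_eq_zero_of_not_dvd hnd, zero_add]

theorem cs_ne_card (h1 : 1 < Nat.card G) (x : G) : cs x ≠ Nat.card G := by
  intro h
  have h2 := card_cent_mul_cs x
  rw [h] at h2
  have h3 : Nat.card (Subgroup.centralizer ({x} : Set G)) = 1 := by
    have hpos : 0 < Nat.card G := Nat.card_pos
    exact Nat.eq_of_mul_eq_mul_right hpos (by rw [h2, one_mul])
  have h4 : Subgroup.centralizer ({x} : Set G) = ⊥ := Subgroup.card_eq_one.mp h3
  have hx : x = 1 := by
    have : x ∈ Subgroup.centralizer ({x} : Set G) := mem_cent.mpr rfl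
    rw [h4] at this
    exact Subgroup.mem_bot.mp this
  subst hx
  have h5 : ∀ y : G, y = 1 := by
    intro y
    have : y ∈ Subgroup.centralizer ({1} : Set G) := mem_cent.mpr (by simp)
    rw [h4] at this
    exact Subgroup.mem_bot.mp this
  have : Subsingleton G := ⟨fun a b => by rw [h5 a, h5 b]⟩
  have := Nat.card_eq_one_iff_unique.mpr ⟨this, ⟨1⟩⟩
  omega

/-- an element of prime order `b` is not of type "full `b`-part". -/
theorem fact_cs_lt_of_orderOf {b : ℕ} (hb : b.Prime) (x : G) (hx : orderOf x = b) :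
    (cs x).factorization b < (Nat.card G).factorization b := by
  have hdvd : b ∣ Nat.card (Subgroup.centralizer ({x} : Set G)) := by
    have h1 : orderOf (⟨x, mem_cent.mpr rfl⟩ : Subgroup.centralizer ({x} : Set G)) = b := by
      rw [Subgroup.orderOf_mk, hx]
    rw [← h1]
    exact orderOf_dvd_natCard _
  have hpos := hb.factorization_pos_of_dvd Nat.card_pos.ne' hdvd
  have := fact_card x b
  omega

end general


/-- Let G and M be finite groups with trivial centres and the same set of conjugacy class sizes, and suppose the prime graph of M is disconnected: the prime divisors of #M split into two non-empty parts such that M has no element of order pq with p in one part and q in the other. Then #G = #M. -/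
theorem result {G M : Type*}
    [Group G] [Finite G] [Group M] [Finite M] (hZG : Subgroup.center G = ⊥) (hZM : Subgroup.center M = ⊥)
    (h : Set.range (fun g : G => (Subgroup.centralizer ({g} : Set G)).index) = Set.range (fun g : M => (Subgroup.centralizer ({g} : Set M)).index))
    (hdisc : ∃ A : Set ℕ, (∃ a ∈ A, a.Prime ∧ a ∣ Nat.card M) ∧ (∃ b ∉ A, b.Prime ∧ b ∣ Nat.card M) ∧
      ∀ a ∈ A, ∀ b ∉ A, a.Prime → b.Prime → a ∣ Nat.card M → b ∣ Nat.card M → ¬ ∃ x : M, orderOf x = a * b) :
    Nat.card G = Nat.card M := by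
  obtain ⟨A, ⟨a, haA, ha, ham⟩, ⟨b, hbA, hb, hbm⟩, hd⟩ := hdisc
  have hm : Nat.card M ≠ 0 := Nat.card_pos.ne'
  have hn : Nat.card G ≠ 0 := Nat.card_pos.ne'
  have h1m : 1 < Nat.card M := lt_of_lt_of_le ha.one_lt (Nat.le_of_dvd Nat.card_pos ham)
  have hGM : ∀ g : G, ∃ x : M, cs x = cs g := by
    intro g
    have : cs g ∈ Set.range (fun g : G => (Subgroup.centralizer ({g} : Set G)).index) := ⟨g, rfl⟩
    rw [h] at this
    exact this
  have hMG : ∀ x : M, ∃ g : G, cs g = cs x := by
    intro x
    have : cs x ∈ Set.range (fun g : M => (Subgroup.centralizer ({g} : Set M)).index) := ⟨x, rfl⟩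
    rw [← h] at this
    exact this
  -- `|M|` divides `|G|`
  have hle : Nat.card M ∣ Nat.card G := by
    rw [← Nat.factorization_le_iff_dvd hm hn]
    intro p
    by_cases hp : p.Prime
    · by_cases hpA : p ∈ A
      · haveI : Fact b.Prime := ⟨hb⟩
        obtain ⟨xb, hxb⟩ := exists_prime_orderOf_dvd_card' b hbm
        have hxb1 : xb ≠ 1 := by
          intro h1
          rw [h1, orderOf_one] at hxb
          exact hb.one_lt.ne hxb
        have hlt := fact_cs_lt_of_orderOf hb xb hxb
        have hT : TB A (Nat.card M) (cs xb) := by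
          rcases type_M A hd xb hxb1 with h1 | h1
          · exact h1
          · exfalso
            have := h1 b hb hbA
            omega
        obtain ⟨g, hg⟩ := hMG xb
        rw [← hT p hp hpA, ← hg]
        exact (Nat.factorization_le_iff_dvd (cs_ne_zero g) hn).mpr (cs_dvd_card g) p
      · haveI : Fact a.Prime := ⟨ha⟩
        obtain ⟨xa, hxa⟩ := exists_prime_orderOf_dvd_card' a ham
        have hxa1 : xa ≠ 1 := by
          intro h1
          rw [h1, orderOf_one] at hxa
          exact ha.one_lt.ne hxa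
        have hlt := fact_cs_lt_of_orderOf ha xa hxa
        have hT : TB Aᶜ (Nat.card M) (cs xa) := by
          rcases type_M A hd xa hxa1 with h1 | h1
          · exfalso
            have := h1 a ha haA
            omega
          · exact h1
        obtain ⟨g, hg⟩ := hMG xa
        rw [← hT p hp hpA, ← hg]
        exact (Nat.factorization_le_iff_dvd (cs_ne_zero g) hn).mpr (cs_dvd_card g) p
    · simp [Nat.factorization_eq_zero_of_not_prime _ hp]
  have hyp : Hyp G A (Nat.card M) :=
    { hm := hm
      dvd := fun g => by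
        obtain ⟨x, hx⟩ := hGM g
        rw [← hx]
        exact cs_dvd_card x
      ne := fun g => by
        obtain ⟨x, hx⟩ := hGM g
        rw [← hx]
        exact cs_ne_card h1m x
      typ := fun g hg => by
        obtain ⟨x, hx⟩ := hGM g
        rw [← hx]
        apply type_M A hd x
        intro hx1
        apply hg
        have h1 : cs g = 1 := by
          rw [← hx, hx1]
          exact (cs_eq_one_iff 1).mpr (one_mem _)
        have h2 := (cs_eq_one_iff g).mp h1
        rw [hZG] at h2
        exact Subgroup.mem_bot.mp h2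
      le := hle }
  apply Nat.dvd_antisymm _ hle
  rw [← Nat.factorization_le_iff_dvd hn hm]
  intro p
  by_cases hp : p.Prime
  · by_cases hpA : p ∈ A
    · exact main_le hyp ⟨a, haA, ha, ham⟩ ⟨b, hbA, hb, hbm⟩ p hp hpA
    · exact main_le hyp.symm ⟨b, hbA, hb, hbm⟩ ⟨a, fun h => h haA, ha, ham⟩ p hp hpA
  · simp [Nat.factorization_eq_zero_of_not_prime _ hp]

end Cfsg.Agent.S4184
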