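-- Statement S4188 (row 4188): Cfsg.fg11_two_group_on_odd_abelian_unique_minimal_normal_frattini_index_bound.
-- Proof by helper13: the 2-group P acts faithfully on N by conjugation; the general bound for
-- faithful actions of 2-groups on abelian groups of odd order is in Lib/Helper13_TwoGroupAct.
import Cfsg.Statements.S4188
import Cfsg.Agent.Lib.Helper13_TwoGroupAct

set_option autoImplicit false
open Cfsg

namespace Cfsg.Agent.S4188

open Cfsg.Agent.Lib.Helper13_TwoGroupAct

/-- Let G be a finite group that is the semidirect product of a normal abelian subgroup N of odd order by a 2-subgroup P, and suppose N is the unique minimal normal subgroup of G. Then the index of the Frattini subgroup of P in P is at most #N − 1. -/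
theorem result {G : Type*} [Group G] [Finite G] (N P : Subgroup G) (hN : N.Normal) (hNab : IsMulCommutative ↥N) (hNodd : Odd (Nat.card ↥N)) (hP : IsPGroup 2 ↥P) (hdisj : N ⊓ P = ⊥) (hprod : N ⊔ P = ⊤) (hmin : N ≠ ⊥ ∧ ∀ M : Subgroup G, M.Normal → M ≠ ⊥ → N ≤ M) : (frattini ↥P).index ≤ Nat.card ↥N - 1 := by
  obtain ⟨hNne, hmin⟩ := hmin
  -- the centralizer of `N` in `P`
  set C : Subgroup G := P ⊓ Subgroup.centralizer (N : Set G) with hC
  have hCmem : ∀ c : G, c ∈ C ↔ c ∈ P ∧ ∀ m ∈ N, m * c = c * m := by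
    intro c
    rw [hC, Subgroup.mem_inf, Subgroup.mem_centralizer_iff]
    rfl
  have hCn : C.Normal := by
    constructor
    intro c hc g
    have hg : g ∈ ((N ⊔ P : Subgroup G) : Set G) := by
      rw [hprod]
      exact Set.mem_univ g
    rw [Subgroup.normal_mul, Set.mem_mul] at hg
    obtain ⟨n, hn, p, hp, rfl⟩ := hg
    obtain ⟨hcP, hcN⟩ := (hCmem c).mp hc
    have h1 : p * c * p⁻¹ ∈ C := by
      rw [hCmem]
      refine ⟨P.mul_mem (P.mul_mem hp hcP) (P.inv_mem hp), ?_⟩
      intro m hm
      have hm' : p⁻¹ * m * p ∈ N := by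
        have := hN.conj_mem m hm p⁻¹
        simpa using this
      have h2 := hcN _ hm'
      calc m * (p * c * p⁻¹) = p * ((p⁻¹ * m * p) * c) * p⁻¹ := by group
        _ = p * (c * (p⁻¹ * m * p)) * p⁻¹ := by rw [h2]
        _ = p * c * p⁻¹ * m := by group
    obtain ⟨_, h1N⟩ := (hCmem _).mp h1
    have h3 : n * p * c * (n * p)⁻¹ = p * c * p⁻¹ := by
      have h4 := h1N n hn
      calc n * p * c * (n * p)⁻¹ = (n * (p * c * p⁻¹)) * n⁻¹ := by group
        _ = (p * c * p⁻¹ * n) * n⁻¹ := by rw [h4]
        _ = p * c * p⁻¹ := by group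
    rw [h3]
    exact h1
  have hCbot : C = ⊥ := by
    by_contra hne
    have h1 : N ≤ C := hmin C hCn hne
    have h2 : N ≤ N ⊓ P := le_inf le_rfl (h1.trans inf_le_left)
    rw [hdisj] at h2
    exact hNne (le_bot_iff.mp h2)
  -- the conjugation action of `P` on `N`
  have hN' : N.Normal := hN
  set φ : ↥P →* MulAut ↥N := (MulAut.conjNormal (H := N)).comp P.subtype with hφ
  have hφinj : Function.Injective φ := by
    rw [injective_iff_map_eq_one]
    intro p hp
    have hpC : (p : G) ∈ C := by
      rw [hCmem]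
      refine ⟨p.2, fun m hm => ?_⟩
      have h := congrArg (fun f : MulAut ↥N => ((f ⟨m, hm⟩ : ↥N) : G)) hp
      simp only [hφ, MonoidHom.comp_apply, Subgroup.subtype_apply, MulAut.conjNormal_apply,
        MulAut.one_apply] at h
      rw [mul_inv_eq_iff_eq_mul] at h
      exact h.symm
    rw [hCbot, Subgroup.mem_bot] at hpC
    exact Subtype.ext hpC
  have hcomm : ∀ a b : ↥N, a * b = b * a := fun a b => hNab.is_comm.comm a b
  have hb := frattini_index_le_of_faithful hcomm hP hNodd φ hφinj
  have h3 : 3 ≤ Nat.card ↥N := by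
    have h1 : 1 < Nat.card ↥N := (Subgroup.one_lt_card_iff_ne_bot N).mpr hNne
    obtain ⟨i, hi⟩ := hNodd
    omega
  exact hb.trans (gam_le h3)

end Cfsg.Agent.S4188
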