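import Cfsg.Statements.S4194
import Cfsg.Agent.Lib.Helper24_TwoCentral

set_option autoImplicit false
open Cfsg

namespace Cfsg.Agent.S4194

/-- A finite group G has commutative Sylow 2-subgroups if and only if every 2-element of G (element of order a power of 2) is 2-central, that is, its centralizer contains a Sylow 2-subgroup of G. -/
theorem result {G : Type*} [Group G] [Finite G] (P : Sylow 2 G) :
    IsMulCommutative (P : Subgroup G) ↔ ∀ x : G, (∃ k : ℕ, orderOf x = 2 ^ k) → (∃ Q : Sylow 2 G, (Q : Subgroup G) ≤ Subgroup.centralizer ({x} : Set G)) := by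
  constructor
  · intro hP x hx
    obtain ⟨k, hk⟩ := hx
    -- `x` lies in a Sylow 2-subgroup `Q`, a conjugate of the abelian `P`
    obtain ⟨Q, hQ⟩ := (Cfsg.Agent.Lib.Helper24_TwoCentral.isPGroup_zpowers hk).exists_le_sylow
    have hxQ : x ∈ Q := hQ (Subgroup.mem_zpowers x)
    obtain ⟨g, hg⟩ := Cfsg.Agent.Lib.Helper2_Sylow.exists_conj_sylow P Q
    refine ⟨Q, fun y hy => ?_⟩
    rw [Subgroup.mem_centralizer_iff]
    intro h hh
    rw [Set.mem_singleton_iff] at hh
    subst hh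
    have h1 : g⁻¹ * h * g ∈ P := (hg h).mp hxQ
    have h2 : g⁻¹ * y * g ∈ P := (hg y).mp hy
    have hc : (g⁻¹ * h * g) * (g⁻¹ * y * g) = (g⁻¹ * y * g) * (g⁻¹ * h * g) := by
      have := hP.is_comm.comm (⟨_, h1⟩ : ↥(P : Subgroup G)) ⟨_, h2⟩
      exact congrArg Subtype.val this
    have e1 : h * y = g * ((g⁻¹ * h * g) * (g⁻¹ * y * g)) * g⁻¹ := by group
    have e2 : y * h = g * ((g⁻¹ * y * g) * (g⁻¹ * h * g)) * g⁻¹ := by group
    rw [e1, e2, hc]
  · intro hH
    have := Cfsg.Agent.Lib.Helper24_TwoCentral.main (Nat.card G) G rfl hH P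
    exact ⟨⟨fun a b => Subtype.ext (this a.1 a.2 b.1 b.2)⟩⟩

end Cfsg.Agent.S4194
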