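import Cfsg.Statements.S4195

set_option autoImplicit false
open Cfsg

namespace Cfsg.Agent.S4195

/-- If `g` inverts `x` and `x ≠ x⁻¹`, the index of the centralizer of `x` is even. -/
theorem two_dvd_index_centralizer {G : Type*} [Group G] [Finite G] (x g : G)
    (hg : g * x * g⁻¹ = x⁻¹) (hx : x⁻¹ ≠ x) :
    2 ∣ (Subgroup.centralizer ({x} : Set G)).index := by
  classical
  set C := Subgroup.centralizer ({x} : Set G) with hC
  have memC : ∀ h : G, h ∈ C ↔ Commute h x := by
    intro h
    rw [hC, Subgroup.mem_centralizer_singleton_iff]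
    exact Iff.rfl
  have key : ∀ h : G, Commute (g * h * g⁻¹) x ↔ Commute h x := by
    intro h
    have h1 : Commute (g * h * g⁻¹) (g * x * g⁻¹) ↔ Commute h x := Commute.conj_iff g
    rw [hg, Commute.inv_right_iff] at h1
    exact h1
  have hgC : g ∉ C := by
    rw [memC]
    intro hh
    apply hx
    have : g * x * g⁻¹ = x := by
      rw [hh.eq]; simp
    rw [← hg, this]
  have hg2 : g ^ 2 ∈ C := by
    rw [memC]
    have h2 : g ^ 2 * x * (g ^ 2)⁻¹ = x := by
      calc g ^ 2 * x * (g ^ 2)⁻¹ = g * (g * x * g⁻¹) * g⁻¹ := by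
            simp [pow_two, mul_assoc]
        _ = g * x⁻¹ * g⁻¹ := by rw [hg]
        _ = (g * x * g⁻¹)⁻¹ := by simp [mul_assoc]
        _ = x := by rw [hg]; simp
    have := congrArg (fun z => z * g ^ 2) h2
    show g ^ 2 * x = x * g ^ 2
    simpa using this
  have hgN : g ∈ Subgroup.normalizer (C : Set G) := by
    rw [Subgroup.mem_normalizer_iff]
    intro h
    rw [memC, memC, key]
  have : (C.subgroupOf (Subgroup.normalizer (C : Set G))).Normal := Subgroup.normal_in_normalizer
  set q : Subgroup.normalizer (C : Set G) ⧸ C.subgroupOf (Subgroup.normalizer (C : Set G)) := QuotientGroup.mk ⟨g, hgN⟩ with hq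
  have hq1 : q ≠ 1 := by
    rw [hq, Ne, QuotientGroup.eq_one_iff, Subgroup.mem_subgroupOf]
    exact hgC
  have hq2 : q ^ 2 = 1 := by
    rw [hq, ← QuotientGroup.mk_pow, QuotientGroup.eq_one_iff, Subgroup.mem_subgroupOf]
    simpa using hg2
  have : Fact (Nat.Prime 2) := ⟨Nat.prime_two⟩
  have hord : orderOf q = 2 := orderOf_eq_prime hq2 hq1
  have hdvd : 2 ∣ Nat.card (Subgroup.normalizer (C : Set G) ⧸ C.subgroupOf (Subgroup.normalizer (C : Set G))) := by
    rw [← hord]; exact orderOf_dvd_natCard q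
  have hrel : 2 ∣ C.relIndex (Subgroup.normalizer (C : Set G)) := by
    rw [Subgroup.relIndex, Subgroup.index_eq_card]; exact hdvd
  exact hrel.trans (Subgroup.relIndex_dvd_index_of_le Subgroup.le_normalizer)

theorem result {G : Type*} [Group G] [Finite G] (x : G) (hx : x ≠ 1) (P : Sylow 2 G) (hP : (P : Subgroup G) ≤ Subgroup.centralizer ({x} : Set G)) (hreal : IsConj x x⁻¹) : orderOf x = 2 := by
  have : Fact (Nat.Prime 2) := ⟨Nat.prime_two⟩
  have hxx : x⁻¹ = x := by
    by_contra hne
    obtain ⟨g, hg⟩ := isConj_iff.mp hreal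
    have h2 := two_dvd_index_centralizer x g hg hne
    have h3 : 2 ∣ (P : Subgroup G).index := h2.trans (Subgroup.index_dvd_of_le hP)
    exact P.not_dvd_index h3
  apply orderOf_eq_prime _ hx
  rw [pow_two]
  nth_rewrite 1 [← hxx]
  simp

end Cfsg.Agent.S4195
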