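import Cfsg.Statements.S4196
import Cfsg.Agent.S4195

set_option autoImplicit false
open Cfsg

namespace Cfsg.Agent.S4196

/-- A finite group G has elementary abelian Sylow 2-subgroups (commutative with every element squaring to the identity) if and only if every 2-element of G has a Sylow 2-subgroup in its centralizer and is conjugate to its inverse. -/
theorem result {G : Type*} [Group G] [Finite G] (P : Sylow 2 G) :
    (IsMulCommutative (P : Subgroup G) ∧ ∀ x ∈ (P : Subgroup G), x ^ 2 = 1) ↔
      ∀ x : G, (∃ k : ℕ, orderOf x = 2 ^ k) → (∃ Q : Sylow 2 G, (Q : Subgroup G) ≤ Subgroup.centralizer ({x} : Set G)) ∧ IsConj x x⁻¹ := by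
  have : Fact (Nat.Prime 2) := ⟨Nat.prime_two⟩
  constructor
  · rintro ⟨hcomm, hexp⟩ x ⟨k, hk⟩
    -- x lies in some Sylow 2-subgroup Q
    have hpg : IsPGroup 2 (Subgroup.zpowers x) := by
      rw [IsPGroup.iff_card, Nat.card_zpowers]
      exact ⟨k, hk⟩
    obtain ⟨Q, hQ⟩ := hpg.exists_le_sylow
    have hxQ : x ∈ (Q : Subgroup G) := hQ (Subgroup.mem_zpowers x)
    let e : (P : Subgroup G) ≃* (Q : Subgroup G) := Sylow.equiv P Q
    have hQcomm : ∀ a b : (Q : Subgroup G), a * b = b * a := by
      intro a b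
      have h1 : e.symm a * e.symm b = e.symm b * e.symm a := by
        have := hcomm
        exact mul_comm' _ _
      have := congrArg e h1
      simpa using this
    have hQexp : ∀ a : (Q : Subgroup G), a ^ 2 = 1 := by
      intro a
      have h1 : (e.symm a) ^ 2 = 1 := by
        have := hexp (e.symm a : G) (e.symm a).2
        exact Subtype.ext (by simpa using this)
      have := congrArg e h1
      simpa using this
    refine ⟨⟨Q, ?_⟩, ?_⟩
    · intro y hy
      rw [Subgroup.mem_centralizer_singleton_iff]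
      have := hQcomm ⟨y, hy⟩ ⟨x, hxQ⟩
      exact congrArg Subtype.val this
    · have h2 : x ^ 2 = 1 := by
        have := hQexp ⟨x, hxQ⟩
        exact congrArg Subtype.val this
      have : x⁻¹ = x := by
        rw [inv_eq_iff_mul_eq_one, ← pow_two, h2]
      rw [this]
  · intro h
    have hexp : ∀ x ∈ (P : Subgroup G), x ^ 2 = 1 := by
      intro x hx
      by_cases hx1 : x = 1
      · rw [hx1]; simp
      · obtain ⟨k, hk⟩ := (IsPGroup.iff_orderOf.mp P.isPGroup') ⟨x, hx⟩
        have hk' : orderOf x = 2 ^ k := by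
          rw [← hk]; exact (Subgroup.orderOf_mk x hx).symm
        obtain ⟨⟨Q, hQ⟩, hreal⟩ := h x ⟨k, hk'⟩
        have := Cfsg.Agent.S4195.result x hx1 Q hQ hreal
        rw [← this]; exact pow_orderOf_eq_one x
    refine ⟨?_, hexp⟩
    refine ⟨⟨fun a b => ?_⟩⟩
    have ha : (a : G) ^ 2 = 1 := hexp a a.2
    have hb : (b : G) ^ 2 = 1 := hexp b b.2
    have hab : ((a : G) * b) ^ 2 = 1 := hexp _ (mul_mem a.2 b.2)
    apply Subtype.ext
    show (a : G) * b = b * a
    have h1 : (a : G)⁻¹ = a := by rw [inv_eq_iff_mul_eq_one, ← pow_two, ha]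
    have h2 : (b : G)⁻¹ = b := by rw [inv_eq_iff_mul_eq_one, ← pow_two, hb]
    have h3 : ((a : G) * b)⁻¹ = a * b := by rw [inv_eq_iff_mul_eq_one, ← pow_two, hab]
    rw [← h3, mul_inv_rev, h1, h2]

end Cfsg.Agent.S4196
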