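import Mathlib
import Cfsg.Statements.S4198

set_option autoImplicit false
open Cfsg

namespace Cfsg.Agent.S4198
open Equiv

/-- For a partition of `n+2` without part `1`: a chosen part. -/
theorem exists_part {n : ℕ} (p : Nat.Partition (n + 2)) : ∃ a, a ∈ p.parts := by
  by_contra h
  push Not at h
  have h0 : p.parts = 0 := Multiset.eq_zero_of_forall_notMem h
  have := p.parts_sum
  rw [h0, Multiset.sum_zero] at this
  omega

/-- The injection from partitions of `n+2` without part `1` to partitions of `n`: replace a
part `a` by `a-2` ones. -/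
noncomputable def shrink {n : ℕ} (p : {p : Nat.Partition (n + 2) // 1 ∉ p.parts}) :
    Nat.Partition n :=
  let a := Classical.choose (exists_part p.1)
  have ha : a ∈ p.1.parts := Classical.choose_spec (exists_part p.1)
  { parts := p.1.parts.erase a + Multiset.replicate (a - 2) 1
    parts_pos := by
      intro i hi
      rcases Multiset.mem_add.mp hi with h | h
      · exact p.1.parts_pos (Multiset.erase_subset a _ h)
      · rw [Multiset.eq_of_mem_replicate h]; exact one_pos
    parts_sum := by
      have h1 : a + (p.1.parts.erase a).sum = n + 2 := by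
        rw [Multiset.sum_erase ha]; exact p.1.parts_sum
      have h2 : 0 < a := p.1.parts_pos ha
      have h3 : a ≠ 1 := fun h => p.2 (by have h' := ha; rwa [h] at h')
      rw [Multiset.sum_add, Multiset.sum_replicate, smul_eq_mul, mul_one]
      omega }

theorem shrink_injective (n : ℕ) : Function.Injective (shrink (n := n)) := by
  intro p q hpq
  set a := Classical.choose (exists_part p.1) with ha_def
  have ha : a ∈ p.1.parts := Classical.choose_spec (exists_part p.1)
  set b := Classical.choose (exists_part q.1) with hb_def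
  have hb : b ∈ q.1.parts := Classical.choose_spec (exists_part q.1)
  have hparts : p.1.parts.erase a + Multiset.replicate (a - 2) 1 =
      q.1.parts.erase b + Multiset.replicate (b - 2) 1 := congrArg Nat.Partition.parts hpq
  have ha2 : 2 ≤ a := by
    have h2 : 0 < a := p.1.parts_pos ha
    have h3 : a ≠ 1 := fun h => p.2 (by have h' := ha; rwa [h] at h')
    omega
  have hb2 : 2 ≤ b := by
    have h2 : 0 < b := q.1.parts_pos hb
    have h3 : b ≠ 1 := fun h => q.2 (by have h' := hb; rwa [h] at h')
    omega
  have hcount := congrArg (Multiset.count 1) hparts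
  rw [Multiset.count_add, Multiset.count_add, Multiset.count_replicate_self,
    Multiset.count_replicate_self] at hcount
  have h1p : Multiset.count 1 (p.1.parts.erase a) = 0 :=
    Multiset.count_eq_zero_of_notMem (fun h => p.2 (Multiset.erase_subset a _ h))
  have h1q : Multiset.count 1 (q.1.parts.erase b) = 0 :=
    Multiset.count_eq_zero_of_notMem (fun h => q.2 (Multiset.erase_subset b _ h))
  rw [h1p, h1q] at hcount
  have hab : a = b := by omega
  rw [← hab] at hparts hb
  have herase : p.1.parts.erase a = q.1.parts.erase a := add_right_cancel hparts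
  apply Subtype.ext
  apply Nat.Partition.ext
  rw [← Multiset.cons_erase ha, ← Multiset.cons_erase hb, herase]

theorem card_partition_le (n : ℕ) :
    Fintype.card (Nat.Partition (n + 2)) ≤
      Fintype.card (Nat.Partition (n + 1)) + Fintype.card (Nat.Partition n) := by
  classical
  rw [← Fintype.card_congr (Equiv.sumCompl (fun p : Nat.Partition (n + 2) => 1 ∈ p.parts)),
    Fintype.card_sum]
  apply Nat.add_le_add
  · exact (Fintype.card_congr (Nat.Partition.partitionWithPartEquiv (n := n + 2) (a := 1) le_rfl
      (by omega))).le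
  · exact Fintype.card_le_of_injective _ (shrink_injective n)
  
theorem card_partition_le_fib (n : ℕ) : Fintype.card (Nat.Partition n) ≤ Nat.fib (n + 1) := by
  induction n using Nat.strong_induction_on with
  | _ n ih =>
    match n, ih with
    | 0, _ => simp
    | 1, _ => simp
    | n + 2, ih =>
      calc Fintype.card (Nat.Partition (n + 2))
          ≤ Fintype.card (Nat.Partition (n + 1)) + Fintype.card (Nat.Partition n) :=
            card_partition_le n
        _ ≤ Nat.fib (n + 2) + Nat.fib (n + 1) :=
            Nat.add_le_add (ih (n + 1) (by omega)) (ih n (by omega))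
        _ = Nat.fib (n + 3) := by
            rw [Nat.fib_add_two (n := n + 1), add_comm]

theorem fib_le_pow (k : ℕ) : Nat.fib (k + 6) ≤ 2 ^ (k + 3) ∧ Nat.fib (k + 7) ≤ 2 ^ (k + 4) := by
  induction k with
  | zero => constructor <;> decide
  | succ k ih =>
    refine ⟨ih.2, ?_⟩
    have h1 : Nat.fib (k + 1 + 7) = Nat.fib (k + 6) + Nat.fib (k + 7) := Nat.fib_add_two
    rw [h1]
    have h2 : 2 ^ (k + 1 + 4) = 2 ^ (k + 3) * 4 := by ring
    have h3 : 2 ^ (k + 4) = 2 ^ (k + 3) * 2 := by ring
    have := ih.1
    have := ih.2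
    omega

theorem card_perm_le (n : ℕ) (hn : 5 ≤ n) :
    Nat.card (ConjClasses (Perm (Fin n))) ≤ 2 ^ (n - 2) := by
  classical
  rw [Nat.card_eq_fintype_card]
  have h1 : Fintype.card (ConjClasses (Perm (Fin n))) ≤
      Fintype.card (Nat.Partition (Fintype.card (Fin n))) := by
    apply Fintype.card_le_of_injective (fun C => (Quotient.out C).partition)
    intro C D h
    have h' : IsConj (Quotient.out C) (Quotient.out D) := Perm.partition_eq_of_isConj.mpr h
    rw [← Quotient.out_eq C, ← Quotient.out_eq D]
    exact ConjClasses.mk_eq_mk_iff_isConj.mpr h'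
  rw [Fintype.card_fin] at h1
  obtain ⟨k, rfl⟩ : ∃ k, n = k + 5 := ⟨n - 5, by omega⟩
  calc _ ≤ _ := h1
    _ ≤ Nat.fib (k + 5 + 1) := card_partition_le_fib _
    _ ≤ 2 ^ (k + 3) := (fib_le_pow k).1
    _ = 2 ^ (k + 5 - 2) := by congr 1

variable {n : ℕ}

/-- a class of `S_n` consisting of even permutations -/
def IsEvenClass (C : ConjClasses (Perm (Fin n))) : Prop :=
  ∃ x : Perm (Fin n), ConjClasses.mk x = C ∧ x ∈ alternatingGroup (Fin n)

/-- a class of `S_n` of even permutations whose centralizers are contained in `A_n` -/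
def IsSplitClass (C : ConjClasses (Perm (Fin n))) : Prop :=
  ∃ x : Perm (Fin n), ConjClasses.mk x = C ∧ x ∈ alternatingGroup (Fin n) ∧
    Subgroup.centralizer {x} ≤ alternatingGroup (Fin n)

theorem mul_mem_of_not_mem {g t : Perm (Fin n)} (hg : g ∉ alternatingGroup (Fin n))
    (ht : t ∉ alternatingGroup (Fin n)) : g * t ∈ alternatingGroup (Fin n) := by
  rw [Perm.mem_alternatingGroup] at hg ht ⊢
  rw [Perm.sign_mul]
  rcases Int.units_eq_one_or (Perm.sign g) with h | h
  · exact absurd h hg
  · rcases Int.units_eq_one_or (Perm.sign t) with h' | h'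
    · exact absurd h' ht
    · rw [h, h']; rfl

theorem inv_not_mem {t : Perm (Fin n)} (ht : t ∉ alternatingGroup (Fin n)) :
    t⁻¹ ∉ alternatingGroup (Fin n) := fun h => ht (by simpa using Subgroup.inv_mem _ h)

/-- conjugate in `S_n` by an even permutation implies conjugate in `A_n` -/
theorem mk_eq_of_conj (x y : alternatingGroup (Fin n)) (g : Perm (Fin n))
    (hg : g ∈ alternatingGroup (Fin n)) (h : g * (x : Perm (Fin n)) * g⁻¹ = y) :
    ConjClasses.mk x = ConjClasses.mk y := by
  rw [ConjClasses.mk_eq_mk_iff_isConj, isConj_iff]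
  exact ⟨⟨g, hg⟩, Subtype.ext (by simpa using h)⟩

theorem fiber_card_le (hn : 2 ≤ n) (C : ConjClasses (Perm (Fin n))) [DecidablePred (@IsEvenClass n)]
    [DecidablePred (@IsSplitClass n)]
    [Fintype {D : ConjClasses (alternatingGroup (Fin n)) //
      ConjClasses.map (alternatingGroup (Fin n)).subtype D = C}] :
    Fintype.card {D : ConjClasses (alternatingGroup (Fin n)) //
      ConjClasses.map (alternatingGroup (Fin n)).subtype D = C} ≤
      (if IsEvenClass C then 1 else 0) + (if IsSplitClass C then 1 else 0) := by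
  classical
  by_cases hF : IsEmpty {D : ConjClasses (alternatingGroup (Fin n)) //
      ConjClasses.map (alternatingGroup (Fin n)).subtype D = C}
  · rw [Fintype.card_eq_zero]; exact Nat.zero_le _
  rw [not_isEmpty_iff] at hF
  obtain ⟨⟨D0, hD0⟩⟩ := hF
  obtain ⟨x0, rfl⟩ := ConjClasses.mk_surjective D0
  have hC : ConjClasses.mk (x0 : Perm (Fin n)) = C := hD0
  have heven : IsEvenClass C := ⟨x0, hC, x0.2⟩
  rw [if_pos heven]
  -- a fixed odd permutation
  have h01 : (⟨0, by omega⟩ : Fin n) ≠ ⟨1, by omega⟩ := by
    intro h; simpa using congrArg Fin.val h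
  set t0 : Perm (Fin n) := swap ⟨0, by omega⟩ ⟨1, by omega⟩ with ht0
  have ht0N : t0 ∉ alternatingGroup (Fin n) := by
    rw [Perm.mem_alternatingGroup, ht0, Perm.sign_swap h01]; decide
  have hx1 : t0 * (x0 : Perm (Fin n)) * t0⁻¹ ∈ alternatingGroup (Fin n) :=
    (inferInstance : (alternatingGroup (Fin n)).Normal).conj_mem _ x0.2 _
  set D1 : ConjClasses (alternatingGroup (Fin n)) := ConjClasses.mk ⟨_, hx1⟩ with hD1
  -- every element of the fibre is `mk x0` or `D1`
  have hcases : ∀ D : ConjClasses (alternatingGroup (Fin n)),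
      ConjClasses.map (alternatingGroup (Fin n)).subtype D = C → D = ConjClasses.mk x0 ∨ D = D1 := by
    intro D hD
    obtain ⟨x, rfl⟩ := ConjClasses.mk_surjective D
    have h1 : ConjClasses.mk (x0 : Perm (Fin n)) = ConjClasses.mk (x : Perm (Fin n)) := by
      rw [hC]; exact hD.symm
    rw [ConjClasses.mk_eq_mk_iff_isConj, isConj_iff] at h1
    obtain ⟨g, hg⟩ := h1
    by_cases hgN : g ∈ alternatingGroup (Fin n)
    · left
      exact (mk_eq_of_conj x0 x g hgN hg).symm
    · right
      rw [hD1]
      symm
      apply mk_eq_of_conj ⟨_, hx1⟩ x (g * t0⁻¹) (mul_mem_of_not_mem hgN (inv_not_mem ht0N))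
      rw [← hg]
      simp only [mul_inv_rev, inv_inv]
      group
  by_cases hsplit : IsSplitClass C
  · rw [if_pos hsplit]
    -- at most two classes
    have : Fintype.card {D : ConjClasses (alternatingGroup (Fin n)) //
        ConjClasses.map (alternatingGroup (Fin n)).subtype D = C} ≤ Fintype.card Bool := by
      apply Fintype.card_le_of_injective (fun D => decide (D.1 = ConjClasses.mk x0))
      intro D D' hDD'
      apply Subtype.ext
      rcases hcases D.1 D.2 with h | h <;> rcases hcases D'.1 D'.2 with h' | h'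
      · rw [h, h']
      · by_cases hh : D'.1 = ConjClasses.mk x0
        · rw [h, hh]
        · simp only [h, hh, decide_true, decide_false] at hDD'
          exact absurd hDD' (by decide)
      · by_cases hh : D.1 = ConjClasses.mk x0
        · rw [h', hh]
        · simp only [h', hh, decide_true, decide_false] at hDD'
          exact absurd hDD' (by decide)
      · rw [h, h']
    simpa using this
  · rw [if_neg hsplit, add_zero]
    -- exactly one class
    have hnot : ¬ Subgroup.centralizer {(x0 : Perm (Fin n))} ≤ alternatingGroup (Fin n) :=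
      fun h => hsplit ⟨x0, hC, x0.2, h⟩
    rw [SetLike.not_le_iff_exists] at hnot
    obtain ⟨t, htc, htN⟩ := hnot
    have hD10 : D1 = ConjClasses.mk x0 := by
      rw [hD1]
      symm
      apply mk_eq_of_conj x0 ⟨_, hx1⟩ (t0 * t⁻¹) (mul_mem_of_not_mem ht0N (inv_not_mem htN))
      have htx : t * (x0 : Perm (Fin n)) = (x0 : Perm (Fin n)) * t :=
        (Subgroup.mem_centralizer_singleton_iff.mp htc)
      have htx' : t⁻¹ * (x0 : Perm (Fin n)) * t = x0 := by
        rw [mul_assoc, ← htx]; group
      show t0 * t⁻¹ * (x0 : Perm (Fin n)) * (t0 * t⁻¹)⁻¹ = t0 * (x0 : Perm (Fin n)) * t0⁻¹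
      calc t0 * t⁻¹ * (x0 : Perm (Fin n)) * (t0 * t⁻¹)⁻¹
          = t0 * (t⁻¹ * (x0 : Perm (Fin n)) * t) * t0⁻¹ := by group
        _ = t0 * (x0 : Perm (Fin n)) * t0⁻¹ := by rw [htx']
    rw [Fintype.card_le_one_iff_subsingleton]
    constructor
    intro D D'
    apply Subtype.ext
    rcases hcases D.1 D.2 with h | h <;> rcases hcases D'.1 D'.2 with h' | h'
    · rw [h, h']
    · rw [h, h', hD10]
    · rw [h, h', hD10]
    · rw [h, h']

/-- cycle type of a class -/
noncomputable def ctype (C : ConjClasses (Perm (Fin n))) : Multiset ℕ := (Quotient.out C).cycleType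

theorem ctype_mk (x : Perm (Fin n)) : ctype (ConjClasses.mk x) = x.cycleType := by
  unfold ctype
  have h : IsConj (Quotient.out (ConjClasses.mk x)) x := Quotient.mk_out (s := IsConj.setoid _) x
  exact Perm.isConj_iff_cycleType_eq.mp h

theorem ctype_injective : Function.Injective (ctype (n := n)) := by
  intro C D h
  obtain ⟨x, rfl⟩ := ConjClasses.mk_surjective C
  obtain ⟨y, rfl⟩ := ConjClasses.mk_surjective D
  rw [ctype_mk, ctype_mk] at h
  exact ConjClasses.mk_eq_mk_iff_isConj.mpr (Perm.isConj_iff_cycleType_eq.mpr h)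

theorem not_even_of_not_mem (x : Perm (Fin n)) (hx : x ∉ alternatingGroup (Fin n)) :
    ¬ IsEvenClass (ConjClasses.mk x) := by
  rintro ⟨y, hy, hyN⟩
  apply hx
  rw [ConjClasses.mk_eq_mk_iff_isConj, isConj_iff] at hy
  obtain ⟨g, rfl⟩ := hy
  exact (inferInstance : (alternatingGroup (Fin n)).Normal).conj_mem _ hyN _

/-- properties of the cycle type of a split class -/
theorem split_ctype (hn : 5 ≤ n) (C : ConjClasses (Perm (Fin n))) (h : IsSplitClass C) :
    (∀ c ∈ ctype C, Odd c ∧ 3 ≤ c) ∧ n ≤ (ctype C).sum + 1 ∧ (ctype C).sum ≤ n ∧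
      ∃ a, a ∈ ctype C := by
  obtain ⟨x, rfl, hxN, hcent⟩ := h
  rw [ctype_mk]
  have h1 := Perm.centralizer_le_alternating_iff.mp hcent
  rw [Fintype.card_fin] at h1
  have hsum : x.cycleType.sum ≤ n := by
    have := Perm.sum_cycleType_le x
    rwa [Fintype.card_fin] at this
  refine ⟨fun c hc => ⟨h1.1 c hc, ?_⟩, h1.2.1, hsum, ?_⟩
  · have h2 := Perm.two_le_of_mem_cycleType hc
    obtain ⟨k, hk⟩ := h1.1 c hc
    omega
  · by_contra hne
    push Not at hne
    have h0 : x.cycleType = 0 := Multiset.eq_zero_of_forall_notMem hne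
    have := h1.2.1
    rw [h0, Multiset.sum_zero] at this
    omega

open Classical in
/-- the modified cycle type -/
noncomputable def newType (C : ConjClasses (Perm (Fin n))) : Multiset ℕ :=
  if h : ∃ a, a ∈ ctype C then
    (ctype C).erase (Classical.choose h) + {Classical.choose h - 1}
  else 0

theorem newType_spec (hn : 5 ≤ n) (C : ConjClasses (Perm (Fin n))) (h : IsSplitClass C) :
    ∃ L, L ∈ ctype C ∧ Odd L ∧ 3 ≤ L ∧ newType C = (ctype C).erase L + {L - 1} := by
  obtain ⟨h1, h2, h3, h4⟩ := split_ctype hn C h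
  refine ⟨Classical.choose h4, Classical.choose_spec h4, (h1 _ (Classical.choose_spec h4)).1,
    (h1 _ (Classical.choose_spec h4)).2, ?_⟩
  unfold newType
  rw [dif_pos h4]

theorem exists_perm_newType (hn : 5 ≤ n) (C : ConjClasses (Perm (Fin n))) (h : IsSplitClass C) :
    ∃ y : Perm (Fin n), y.cycleType = newType C ∧ y ∉ alternatingGroup (Fin n) := by
  obtain ⟨L, hL, hLodd, hL3, hnew⟩ := newType_spec hn C h
  obtain ⟨h1, h2, h3, h4⟩ := split_ctype hn C h
  have hsumL : L + ((ctype C).erase L).sum = (ctype C).sum := Multiset.sum_erase hL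
  have hcardL : ((ctype C).erase L).card + 1 = (ctype C).card := Multiset.card_erase_add_one hL
  have hex : ∃ y : Perm (Fin n), y.cycleType = newType C := by
    rw [Perm.exists_with_cycleType_iff (Fin n), Fintype.card_fin, hnew]
    constructor
    · rw [Multiset.sum_add, Multiset.sum_singleton]; omega
    · intro a ha
      rcases Multiset.mem_add.mp ha with ha | ha
      · have := (h1 a (Multiset.erase_subset L _ ha)).2; omega
      · rw [Multiset.mem_singleton] at ha; omega
  obtain ⟨y, hy⟩ := hex
  refine ⟨y, hy, ?_⟩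
  rw [Perm.mem_alternatingGroup, Perm.sign_of_cycleType, hy, hnew]
  -- parity
  have hpar : Even ((ctype C).sum + (ctype C).card) := by
    have : ∀ m : Multiset ℕ, (∀ c ∈ m, Odd c) → Even (m.sum + m.card) := by
      intro m
      induction m using Multiset.induction_on with
      | empty => intro _; simp
      | cons a s ih =>
        intro hs
        rw [Multiset.sum_cons, Multiset.card_cons]
        have h1 := ih (fun c hc => hs c (Multiset.mem_cons_of_mem hc))
        have h2 : Odd a := hs a (Multiset.mem_cons_self a s)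
        have : a + s.sum + (s.card + 1) = (s.sum + s.card) + (a + 1) := by ring
        rw [this]
        exact h1.add (h2.add_one)
    exact this _ (fun c hc => (h1 c hc).1)
  rw [Multiset.sum_add, Multiset.sum_singleton, Multiset.card_add, Multiset.card_singleton]
  have hodd : Odd (((ctype C).erase L).sum + (L - 1) + (((ctype C).erase L).card + 1)) := by
    have : ((ctype C).erase L).sum + (L - 1) + (((ctype C).erase L).card + 1) + 1 =
        (ctype C).sum + (ctype C).card := by omega
    rcases hpar with ⟨k, hk⟩
    rw [hk] at this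
    exact ⟨k - 1, by omega⟩
  rw [hodd.neg_one_pow]
  decide

theorem newType_injective (hn : 5 ≤ n) (C D : ConjClasses (Perm (Fin n))) (hC : IsSplitClass C)
    (hD : IsSplitClass D) (h : newType C = newType D) : C = D := by
  obtain ⟨L, hL, hLodd, hL3, hnew⟩ := newType_spec hn C hC
  obtain ⟨L', hL', hLodd', hL3', hnew'⟩ := newType_spec hn D hD
  obtain ⟨h1, -, -, -⟩ := split_ctype hn C hC
  obtain ⟨h1', -, -, -⟩ := split_ctype hn D hD
  rw [hnew, hnew'] at h
  have hmem : L - 1 ∈ (ctype D).erase L' + {L' - 1} := by
    rw [← h]; simp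
  have hLL' : L = L' := by
    rcases Multiset.mem_add.mp hmem with hm | hm
    · exfalso
      have := (h1' _ (Multiset.erase_subset L' _ hm)).1
      obtain ⟨k, hk⟩ := hLodd
      obtain ⟨j, hj⟩ := this
      omega
    · rw [Multiset.mem_singleton] at hm; omega
  rw [← hLL'] at h hL'
  have herase : (ctype C).erase L = (ctype D).erase L := add_right_cancel h
  apply ctype_injective
  rw [← Multiset.cons_erase hL, ← Multiset.cons_erase hL', herase]

theorem newType_ne_swap (hn : 5 ≤ n) (C : ConjClasses (Perm (Fin n))) (hC : IsSplitClass C) :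
    newType C ≠ {2} := by
  intro h
  obtain ⟨L, hL, hLodd, hL3, hnew⟩ := newType_spec hn C hC
  obtain ⟨h1, h2, h3, h4⟩ := split_ctype hn C hC
  rw [hnew] at h
  have hcard := congrArg Multiset.card h
  rw [Multiset.card_add, Multiset.card_singleton, Multiset.card_singleton] at hcard
  have h0 : (ctype C).erase L = 0 := Multiset.card_eq_zero.mp (by omega)
  rw [h0, zero_add, Multiset.singleton_inj] at h
  have hsum : L + ((ctype C).erase L).sum = (ctype C).sum := Multiset.sum_erase hL
  rw [h0, Multiset.sum_zero] at hsum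
  omega

theorem card_split_lt (hn : 5 ≤ n) [DecidablePred (@IsEvenClass n)]
    [DecidablePred (@IsSplitClass n)] :
    Fintype.card {C : ConjClasses (Perm (Fin n)) // IsSplitClass C} <
      Fintype.card {C : ConjClasses (Perm (Fin n)) // ¬ IsEvenClass C} := by
  classical
  let ψ : {C : ConjClasses (Perm (Fin n)) // IsSplitClass C} →
      {C : ConjClasses (Perm (Fin n)) // ¬ IsEvenClass C} := fun C =>
    ⟨ConjClasses.mk (Classical.choose (exists_perm_newType hn C.1 C.2)),
      not_even_of_not_mem _ (Classical.choose_spec (exists_perm_newType hn C.1 C.2)).2⟩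
  have hψ : ∀ C, ctype (ψ C).1 = newType C.1 := by
    intro C
    show ctype (ConjClasses.mk (Classical.choose (exists_perm_newType hn C.1 C.2))) = _
    rw [ctype_mk]
    exact (Classical.choose_spec (exists_perm_newType hn C.1 C.2)).1
  have hinj : Function.Injective ψ := by
    intro C D h
    apply Subtype.ext
    apply newType_injective hn C.1 D.1 C.2 D.2
    rw [← hψ, ← hψ, h]
  have h01 : (⟨0, by omega⟩ : Fin n) ≠ ⟨1, by omega⟩ := by
    intro h; simpa using congrArg Fin.val h
  have hswapN : swap (⟨0, by omega⟩ : Fin n) ⟨1, by omega⟩ ∉ alternatingGroup (Fin n) := by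
    rw [Perm.mem_alternatingGroup, Perm.sign_swap h01]; decide
  apply Fintype.card_lt_of_injective_of_notMem ψ hinj
    (b := ⟨ConjClasses.mk (swap (⟨0, by omega⟩ : Fin n) ⟨1, by omega⟩),
      not_even_of_not_mem _ hswapN⟩)
  rintro ⟨C, hC⟩
  have h1 := congrArg (fun D => ctype D.1) hC
  simp only at h1
  rw [hψ, ctype_mk, Perm.isSwap_iff_cycleType.mp ⟨_, _, h01, rfl⟩] at h1
  exact newType_ne_swap hn C.1 C.2 h1

theorem card_alt_lt (hn : 5 ≤ n) :
    Nat.card (ConjClasses (alternatingGroup (Fin n))) < Nat.card (ConjClasses (Perm (Fin n))) := by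
  classical
  rw [Nat.card_eq_fintype_card, Nat.card_eq_fintype_card]
  set φ := ConjClasses.map (alternatingGroup (Fin n)).subtype with hφ
  have h1 : Fintype.card (ConjClasses (alternatingGroup (Fin n))) =
      ∑ C : ConjClasses (Perm (Fin n)), Fintype.card {D // φ D = C} := by
    rw [← Fintype.card_sigma]
    exact Fintype.card_congr (Equiv.sigmaFiberEquiv φ).symm
  have h2 : ∑ C : ConjClasses (Perm (Fin n)), Fintype.card {D // φ D = C} ≤
      ∑ C : ConjClasses (Perm (Fin n)),
        ((if IsEvenClass C then 1 else 0) + (if IsSplitClass C then 1 else 0)) :=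
    Finset.sum_le_sum (fun C _ => fiber_card_le (by omega) C)
  have h3 : ∑ C : ConjClasses (Perm (Fin n)),
        ((if IsEvenClass C then 1 else 0) + (if IsSplitClass C then 1 else 0)) =
      Fintype.card {C : ConjClasses (Perm (Fin n)) // IsEvenClass C} +
        Fintype.card {C : ConjClasses (Perm (Fin n)) // IsSplitClass C} := by
    rw [Finset.sum_add_distrib, Fintype.card_subtype, Fintype.card_subtype,
      Finset.card_filter, Finset.card_filter]
  have h4 : Fintype.card (ConjClasses (Perm (Fin n))) =
      Fintype.card {C : ConjClasses (Perm (Fin n)) // IsEvenClass C} +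
        Fintype.card {C : ConjClasses (Perm (Fin n)) // ¬ IsEvenClass C} := by
    rw [← Fintype.card_sum]
    exact Fintype.card_congr (Equiv.sumCompl (fun C : ConjClasses (Perm (Fin n)) => IsEvenClass C)).symm
  rw [h1, h4]
  calc _ ≤ _ := h2
    _ = _ := h3
    _ < _ := Nat.add_lt_add_left (card_split_lt hn) _


/-- For n ≥ 5 the alternating group of degree n has strictly fewer conjugacy classes than the symmetric group of degree n, and the symmetric group of degree n (whose classes correspond to the partitions of n) has at most 2^(n−2) conjugacy classes. -/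
theorem result (n : ℕ) (hn : 5 ≤ n) : Nat.card (ConjClasses (alternatingGroup (Fin n))) < Nat.card (ConjClasses (Equiv.Perm (Fin n))) ∧ Nat.card (ConjClasses (Equiv.Perm (Fin n))) ≤ 2 ^ (n - 2) := by
  exact ⟨card_alt_lt hn, card_perm_le n hn⟩

end Cfsg.Agent.S4198
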