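import Cfsg.Statements.S4200
import Cfsg.Agent.Lib.Helper70_CommPairs

set_option autoImplicit false
open Cfsg

namespace Cfsg.Agent.S4200

open Cfsg.Agent.Lib.Helper70_CommPairs

theorem main_le {X : Type*} [Group X] [Fintype X] (Y : Subgroup X) :
    cp (Finset.univ : Finset X) Finset.univ ≤ Y.index * (Y.index * cp (sub Y) (sub Y)) := by
  calc cp (Finset.univ : Finset X) Finset.univ ≤ Y.index * cp Finset.univ (sub Y) :=
        cp_le_of_forall (fun a _ => card_cent_univ_le Y a)
    _ = Y.index * cp (sub Y) Finset.univ := by rw [cp_comm]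
    _ ≤ Y.index * (Y.index * cp (sub Y) (sub Y)) :=
        Nat.mul_le_mul_left _ (cp_le_of_forall (fun a _ => card_cent_univ_le Y a))

theorem main_lt {X : Type*} [Group X] [Fintype X] (Y : Subgroup X) (hY : ¬ Y.Normal) :
    cp (Finset.univ : Finset X) Finset.univ < Y.index * (Y.index * cp (sub Y) (sub Y)) := by
  have hpos : 0 < Y.index := Nat.pos_of_ne_zero Subgroup.index_ne_zero_of_finite
  calc cp (Finset.univ : Finset X) Finset.univ ≤ Y.index * cp Finset.univ (sub Y) :=
        cp_le_of_forall (fun a _ => card_cent_univ_le Y a)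
    _ = Y.index * cp (sub Y) Finset.univ := by rw [cp_comm]
    _ < Y.index * (Y.index * cp (sub Y) (sub Y)) := by
        apply Nat.mul_lt_mul_of_pos_left _ hpos
        apply cp_lt_of_forall (fun a _ => card_cent_univ_le Y a)
        -- find y ∈ Y, g with g y g⁻¹ ∉ Y
        by_contra hcon
        push Not at hcon
        apply hY
        constructor
        intro y hy g
        by_contra hg
        have := hcon y (mem_sub.mpr hy)
        exact absurd (card_cent_univ_lt Y y hy g hg) (not_lt.mpr this)

/-- Let Y be a subgroup of the finite group X, of index m. Then the numbers of conjugacy classes satisfy k(Y) ≤ m·k(X) and k(X) ≤ m·k(Y), and the second inequality is strict unless Y is normal in X. -/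
theorem result {X : Type*} [Group X] [Finite X] (Y : Subgroup X) : Nat.card (ConjClasses Y) ≤ Y.index * Nat.card (ConjClasses X) ∧ Nat.card (ConjClasses X) ≤ Y.index * Nat.card (ConjClasses Y) ∧ (¬ Y.Normal → Nat.card (ConjClasses X) < Y.index * Nat.card (ConjClasses Y)) := by
  classical
  have : Fintype X := Fintype.ofFinite X
  have hXY : Y.index * Nat.card Y = Nat.card X := Y.index_mul_card
  have hYpos : 0 < Nat.card Y := Nat.card_pos
  have hXpos : 0 < Nat.card X := Nat.card_pos
  have hm : 0 < Y.index := Nat.pos_of_ne_zero Subgroup.index_ne_zero_of_finite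
  have e1 : cp (Finset.univ : Finset X) Finset.univ = Nat.card (ConjClasses X) * Nat.card X := cp_univ
  have e2 : cp (sub Y) (sub Y) = Nat.card (ConjClasses Y) * Nat.card Y := cp_sub Y
  refine ⟨?_, ?_, ?_⟩
  · have h := cp_mono (Finset.subset_univ (sub Y)) (Finset.subset_univ (sub Y))
    rw [e1, e2, ← hXY] at h
    -- k(Y) * |Y| ≤ k(X) * (m * |Y|)
    have h' : Nat.card (ConjClasses Y) * Nat.card Y ≤ (Y.index * Nat.card (ConjClasses X)) * Nat.card Y := by
      calc Nat.card (ConjClasses Y) * Nat.card Y ≤ Nat.card (ConjClasses X) * (Y.index * Nat.card Y) := h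
        _ = (Y.index * Nat.card (ConjClasses X)) * Nat.card Y := by ring
    exact Nat.le_of_mul_le_mul_right h' hYpos
  · have h := main_le Y
    rw [e1, e2, ← hXY] at h
    have h' : Nat.card (ConjClasses X) * (Y.index * Nat.card Y) ≤ (Y.index * Nat.card (ConjClasses Y)) * (Y.index * Nat.card Y) := by
      calc Nat.card (ConjClasses X) * (Y.index * Nat.card Y) ≤ Y.index * (Y.index * (Nat.card (ConjClasses Y) * Nat.card Y)) := h
        _ = (Y.index * Nat.card (ConjClasses Y)) * (Y.index * Nat.card Y) := by ring
    exact Nat.le_of_mul_le_mul_right h' (Nat.mul_pos hm hYpos)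
  · intro hY
    have h := main_lt Y hY
    rw [e1, e2, ← hXY] at h
    have h' : Nat.card (ConjClasses X) * (Y.index * Nat.card Y) < (Y.index * Nat.card (ConjClasses Y)) * (Y.index * Nat.card Y) := by
      calc Nat.card (ConjClasses X) * (Y.index * Nat.card Y) < Y.index * (Y.index * (Nat.card (ConjClasses Y) * Nat.card Y)) := h
        _ = (Y.index * Nat.card (ConjClasses Y)) * (Y.index * Nat.card Y) := by ring
    exact Nat.lt_of_mul_lt_mul_right h'

end Cfsg.Agent.S4200
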