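import Cfsg.Statements.S4201
import Cfsg.Agent.Lib.Helper70_CommPairs

set_option autoImplicit false
open Cfsg

namespace Cfsg.Agent.S4201

open Cfsg.Agent.Lib.Helper70_CommPairs

section

variable {X : Type*} [Group X] [Fintype X] [DecidableEq X] (N : Subgroup X) [N.Normal] [Fintype (X ⧸ N)]

open Classical in
/-- the coset of `N` over `q`, as a finset -/
noncomputable def fib (q : X ⧸ N) : Finset X :=
  Finset.univ.filter (fun x : X => (QuotientGroup.mk x : X ⧸ N) = q)

omit [DecidableEq X] [N.Normal] [Fintype (X ⧸ N)] in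
theorem mem_fib {q : X ⧸ N} {x : X} : x ∈ fib N q ↔ (QuotientGroup.mk x : X ⧸ N) = q := by
  classical
  unfold fib
  simp

theorem cp_fiber_left (A B : Finset X) :
    cp A B = ∑ q : X ⧸ N, cp (A ∩ fib N q) B := by
  classical
  unfold cp
  rw [← Finset.sum_fiberwise A (fun x : X => (QuotientGroup.mk x : X ⧸ N))]
  refine Finset.sum_congr rfl (fun q _ => ?_)
  apply Finset.sum_congr _ (fun _ _ => rfl)
  ext x
  simp [mem_fib]

theorem cp_fiber_right (A B : Finset X) :
    cp A B = ∑ q : X ⧸ N, cp A (B ∩ fib N q) := by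
  rw [cp_comm, cp_fiber_left N]
  exact Finset.sum_congr rfl (fun q _ => cp_comm _ _)

theorem cp_univ_decomp :
    cp (Finset.univ : Finset X) Finset.univ =
      ∑ q1 : X ⧸ N, ∑ q2 : X ⧸ N, cp (fib N q1) (fib N q2) := by
  rw [cp_fiber_left N]
  refine Finset.sum_congr rfl (fun q1 _ => ?_)
  rw [cp_fiber_right N]
  refine Finset.sum_congr rfl (fun q2 _ => ?_)
  simp

theorem cp_fib_eq_zero (q1 q2 : X ⧸ N) (h : q1 * q2 ≠ q2 * q1) :
    cp (fib N q1) (fib N q2) = 0 := by
  unfold cp
  apply Finset.sum_eq_zero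
  intro a ha
  rw [Finset.card_eq_zero, Finset.eq_empty_iff_forall_notMem]
  intro b hb
  rw [mem_cent] at hb
  rw [mem_fib] at ha
  have hb1 := (mem_fib N).mp hb.1
  apply h
  rw [← ha, ← hb1, ← QuotientGroup.mk_mul, ← QuotientGroup.mk_mul, hb.2]

omit [Fintype X] [DecidableEq X] in
theorem cp_le_one {A B C : Finset X}
    (h : ∀ a ∈ A, (cent a B).card ≤ (cent a C).card) : cp A B ≤ cp A C := by
  have := cp_le_of_forall (m := 1) (A := A) (B := B) (C := C) (by simpa using h)
  simpa using this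

theorem cp_fib_le (q1 q2 : X ⧸ N) :
    cp (fib N q1) (fib N q2) ≤ cp (sub N) (sub N) := by
  have hcoset : ∀ q : X ⧸ N, ∀ x ∈ fib N q, ∀ y ∈ fib N q, x⁻¹ * y ∈ N := by
    intro q x hx y hy
    rw [mem_fib] at hx hy
    rw [← QuotientGroup.eq, hx, hy]
  calc cp (fib N q1) (fib N q2) ≤ cp (fib N q1) (sub N) :=
        cp_le_one (fun a _ => card_cent_coset_le N (sub N) (fib N q2)
          (fun x hx => mem_sub.mpr hx) a (hcoset q2))
    _ = cp (sub N) (fib N q1) := cp_comm _ _
    _ ≤ cp (sub N) (sub N) :=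
        cp_le_one (fun a _ => card_cent_coset_le N (sub N) (fib N q1)
          (fun x hx => mem_sub.mpr hx) a (hcoset q1))

theorem main_le :
    cp (Finset.univ : Finset X) Finset.univ ≤
      cp (Finset.univ : Finset (X ⧸ N)) Finset.univ * cp (sub N) (sub N) := by
  classical
  rw [cp_univ_decomp N]
  have : cp (Finset.univ : Finset (X ⧸ N)) Finset.univ * cp (sub N) (sub N) =
      ∑ q1 : X ⧸ N, ∑ q2 : X ⧸ N, if q1 * q2 = q2 * q1 then cp (sub N) (sub N) else 0 := by
    unfold cp cent
    rw [Finset.sum_mul]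
    refine Finset.sum_congr rfl (fun q1 _ => ?_)
    rw [Finset.card_filter, Finset.sum_mul]
    refine Finset.sum_congr rfl (fun q2 _ => ?_)
    split_ifs <;> simp
  rw [this]
  refine Finset.sum_le_sum (fun q1 _ => Finset.sum_le_sum (fun q2 _ => ?_))
  split_ifs with h
  · exact cp_fib_le N q1 q2
  · rw [cp_fib_eq_zero N q1 q2 h]

end

/-- If N is a normal subgroup of the finite group X then k(X) ≤ k(N)·k(X ⧸ N), where k denotes the number of conjugacy classes. -/
theorem result {X : Type*} [Group X] [Finite X] (N : Subgroup X) [N.Normal] : Nat.card (ConjClasses X) ≤ Nat.card (ConjClasses N) * Nat.card (ConjClasses (X ⧸ N)) := by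
  classical
  have : Fintype X := Fintype.ofFinite X
  have : Fintype (X ⧸ N) := Fintype.ofFinite _
  have h := main_le N
  rw [cp_univ, cp_univ, cp_sub] at h
  have hX : Nat.card X = Nat.card (X ⧸ N) * Nat.card N := by
    rw [← Subgroup.index_eq_card, Subgroup.index_mul_card]
  rw [hX] at h
  have hpos : 0 < Nat.card (X ⧸ N) * Nat.card N := Nat.mul_pos Nat.card_pos Nat.card_pos
  have h' : Nat.card (ConjClasses X) * (Nat.card (X ⧸ N) * Nat.card N) ≤
      (Nat.card (ConjClasses N) * Nat.card (ConjClasses (X ⧸ N))) * (Nat.card (X ⧸ N) * Nat.card N) := by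
    calc Nat.card (ConjClasses X) * (Nat.card (X ⧸ N) * Nat.card N)
        ≤ Nat.card (ConjClasses (X ⧸ N)) * Nat.card (X ⧸ N) * (Nat.card (ConjClasses N) * Nat.card N) := h
      _ = _ := by ring
  exact Nat.le_of_mul_le_mul_right h' hpos

end Cfsg.Agent.S4201
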