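import Cfsg.Statements.S4203

set_option autoImplicit false
open Cfsg

namespace Cfsg.Agent.S4203

universe u

theorem alt_solvable_of_card_four {α : Type*} [Fintype α] [DecidableEq α] (h : Nat.card α = 4) :
    Group.IsSolvable (alternatingGroup α) := by
  rw [Group.isSolvable_def]
  refine ⟨2, ?_⟩
  have h1 : derivedSeries (alternatingGroup α) 1 = alternatingGroup.kleinFour α := by
    rw [derivedSeries_one, alternatingGroup.kleinFour_eq_commutator h]
  have h2 : derivedSeries (alternatingGroup α) 2 =
      ⁅derivedSeries (alternatingGroup α) 1, derivedSeries (alternatingGroup α) 1⁆ := rfl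
  rw [h2, h1, Subgroup.commutator_self_eq_bot_iff]
  have := alternatingGroup.kleinFour_isKleinFour h
  exact IsKleinFour.isMulCommutative

theorem perm_solvable_of_card_four {α : Type*} [Fintype α] [DecidableEq α] (h : Nat.card α = 4) :
    Group.IsSolvable (Equiv.Perm α) := by
  have := alt_solvable_of_card_four h
  apply Group.isSolvable_of_ker_le_range (alternatingGroup α).subtype (Equiv.Perm.sign (α := α))
  intro x hx
  rw [MonoidHom.mem_ker] at hx
  exact ⟨⟨x, Equiv.Perm.mem_alternatingGroup.mpr hx⟩, rfl⟩

/-- If `H` contains the normalizer of a Sylow `p`-subgroup then `|G : H| ≡ 1 mod p`. -/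
theorem index_modEq_one_of_normalizer_le {G : Type*} [Group G] [Finite G] {p : ℕ} [Fact p.Prime]
    (P : Sylow p G) (H : Subgroup G) (hH : Subgroup.normalizer ((P : Subgroup G) : Set G) ≤ H) :
    H.index ≡ 1 [MOD p] := by
  have hPH : (P : Subgroup G) ≤ H := Subgroup.le_normalizer.trans hH
  have h1 : Nat.card (Sylow p G) = (Subgroup.normalizer ((P : Subgroup G) : Set G)).index :=
    P.card_eq_index_normalizer
  have h2 : Nat.card (Sylow p H) =
      (Subgroup.normalizer ((P : Subgroup G) : Set G)).relIndex H := by
    rw [(P.subtype hPH).card_eq_index_normalizer]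
    change (Subgroup.normalizer (((P.subtype hPH : Sylow p H) : Subgroup H) : Set H)).index = _
    rw [Sylow.coe_subtype, ← Subgroup.subgroupOf_normalizer_eq hPH]
    rfl
  have h3 := Subgroup.relIndex_mul_index hH
  have m1 : Nat.card (Sylow p G) ≡ 1 [MOD p] := card_sylow_modEq_one p G
  have m2 : Nat.card (Sylow p H) ≡ 1 [MOD p] := card_sylow_modEq_one p H
  rw [h1, ← h3, ← h2] at m1
  have m3 : Nat.card (Sylow p H) * H.index ≡ 1 * H.index [MOD p] := Nat.ModEq.mul_right _ m2
  rw [one_mul] at m3
  exact m3.symm.trans m1

/-- For a normal subgroup `N` with `M ⊔ N = ⊤`, `|N : N ∩ M| = |G : M|`. -/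
theorem relIndex_eq_index_of_sup_eq_top {G : Type*} [Group G] [Finite G] (N M : Subgroup G)
    [N.Normal] (h : N ⊔ M = ⊤) : M.relIndex N = M.index := by
  have h1 : (N ⊓ M).relIndex N * N.relIndex (N ⊔ M) = (N ⊓ M).relIndex (N ⊔ M) :=
    Subgroup.relIndex_mul_relIndex _ _ _ inf_le_left le_sup_left
  have h2 : (N ⊓ M).relIndex M * M.relIndex (N ⊔ M) = (N ⊓ M).relIndex (N ⊔ M) :=
    Subgroup.relIndex_mul_relIndex _ _ _ inf_le_right le_sup_right
  rw [Subgroup.inf_relIndex_left, Subgroup.relIndex_sup_left] at h1
  rw [Subgroup.inf_relIndex_right] at h2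
  have hne : 0 < N.relIndex M := by
    rw [Nat.pos_iff_ne_zero, Subgroup.relIndex]
    exact Subgroup.index_ne_zero_of_finite
  have : M.relIndex N = M.relIndex (N ⊔ M) := by
    apply Nat.eq_of_mul_eq_mul_right hne
    rw [h1, mul_comm, h2]
  rw [this, h, Subgroup.relIndex_top_right]

theorem arith (p q m : ℕ) (hp : p.Prime) (hq : q.Prime) (hqp : q ≤ p)
    (hm : m = q ∨ m = q ^ 2) (hmod : m ≡ 1 [MOD p]) : m = 4 := by
  have hp2 := hp.two_le
  have hq2 := hq.two_le
  rcases hm with rfl | rfl
  · exfalso
    rcases Nat.lt_or_ge m p with hlt | hge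
    · have h1 : m % p = m := Nat.mod_eq_of_lt hlt
      have h2 : 1 % p = 1 := Nat.mod_eq_of_lt (by omega)
      unfold Nat.ModEq at hmod
      rw [h1, h2] at hmod
      omega
    · have : m = p := le_antisymm hqp hge
      subst this
      unfold Nat.ModEq at hmod
      rw [Nat.mod_self, Nat.mod_eq_of_lt (by omega : 1 < m)] at hmod
      omega
  · have h1 : p ∣ q ^ 2 - 1 := (Nat.modEq_iff_dvd' (by nlinarith)).mp hmod.symm
    have h2 : q ^ 2 - 1 = (q - 1) * (q + 1) := by
      obtain ⟨k, rfl⟩ : ∃ k, q = k + 1 := ⟨q - 1, by omega⟩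
      simp only [Nat.add_sub_cancel]
      have : (k + 1) ^ 2 = k * (k + 1 + 1) + 1 := by ring
      rw [this]; simp
    rw [h2] at h1
    rcases (Nat.Prime.dvd_mul hp).mp h1 with h | h
    · exfalso
      have := Nat.le_of_dvd (by omega) h
      omega
    · have h3 := Nat.le_of_dvd (by omega) h
      have hne : q ≠ p := by
        rintro rfl
        have : q ∣ 1 := (Nat.dvd_add_right (dvd_refl q)).mp h
        have := Nat.le_of_dvd (by omega) this
        omega
      have hpq : p = q + 1 := by omega
      rcases hq.eq_two_or_odd with h2 | hodd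
      · subst h2; norm_num
      · exfalso
        rcases hp.eq_two_or_odd with h2 | hodd'
        · omega
        · omega

/-- the main induction -/
theorem main : ∀ n : ℕ, ∀ (G : Type u) [Group G] [Finite G], Nat.card G = n →
    (∀ M : Subgroup G, IsCoatom M → ∃ p : ℕ, p.Prime ∧ (M.index = p ∨ M.index = p ^ 2)) →
    Group.IsSolvable G := by
  intro n
  induction n using Nat.strong_induction_on with
  | _ n ih =>
  intro G _ _ hn h
  classical
  by_cases htriv : Subsingleton G
  · infer_instance
  rw [not_subsingleton_iff_nontrivial] at htriv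
  -- choose a minimal normal subgroup
  let S : Set (Subgroup G) := {N | N.Normal ∧ N ≠ ⊥}
  have hS : S.Nonempty := ⟨⊤, Subgroup.normal_top, top_ne_bot⟩
  obtain ⟨N, ⟨hNn, hN0⟩, hmin⟩ := WellFounded.has_min
    (wellFounded_lt : WellFounded ((· < ·) : Subgroup G → Subgroup G → Prop)) S hS
  have := hNn
  have hmin' : ∀ N' : Subgroup G, N'.Normal → N' ≤ N → N' = ⊥ ∨ N' = N := by
    intro N' hN' hle
    by_cases h0 : N' = ⊥
    · exact Or.inl h0
    · right
      by_contra hne
      exact hmin N' ⟨hN', h0⟩ (lt_of_le_of_ne hle hne)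
  -- the quotient is solvable
  have hQ : Group.IsSolvable (G ⧸ N) := by
    have hcard : Nat.card (G ⧸ N) < n := by
      have h1 := Subgroup.card_eq_card_quotient_mul_card_subgroup N
      have h2 : 1 < Nat.card N := (Subgroup.one_lt_card_iff_ne_bot (H := N)).mpr hN0
      have h3 : 0 < Nat.card (G ⧸ N) := Nat.card_pos
      rw [← hn, h1]
      nlinarith
    apply ih _ hcard (G ⧸ N) rfl
    intro M' hM'
    have hco := Subgroup.isCoatom_comap_of_surjective (QuotientGroup.mk'_surjective N) hM'
    obtain ⟨p, hp, hidx⟩ := h _ hco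
    rw [Subgroup.index_comap_of_surjective _ (QuotientGroup.mk'_surjective N)] at hidx
    exact ⟨p, hp, hidx⟩
  -- N is solvable
  have hNs : Group.IsSolvable N := by
    have hcardN : 1 < Nat.card N := (Subgroup.one_lt_card_iff_ne_bot (H := N)).mpr hN0
    -- the largest prime divisor of |N|
    have hne : (Nat.card N).primeFactors.Nonempty := by
      rw [Nat.nonempty_primeFactors]; exact hcardN
    set p := (Nat.card N).primeFactors.max' hne with hp_def
    have hp_mem : p ∈ (Nat.card N).primeFactors := Finset.max'_mem _ hne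
    have hp : p.Prime := Nat.prime_of_mem_primeFactors hp_mem
    have hpdvd : p ∣ Nat.card N := Nat.dvd_of_mem_primeFactors hp_mem
    have hpmax : ∀ q : ℕ, q.Prime → q ∣ Nat.card N → q ≤ p := by
      intro q hq hqd
      apply Finset.le_max'
      exact Nat.mem_primeFactors.mpr ⟨hq, hqd, by omega⟩
    have : Fact p.Prime := ⟨hp⟩
    let P : Sylow p N := default
    set P' : Subgroup G := (P : Subgroup N).map N.subtype with hP'
    have hP'le : P' ≤ N := Subgroup.map_subtype_le _
    by_cases hnorm : P'.Normal
    · -- P' = N, so N is a p-group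
      have hPne : (P : Subgroup N) ≠ ⊥ := P.ne_bot_of_dvd_card hpdvd
      have hP'ne : P' ≠ ⊥ := by
        rw [hP', Ne, Subgroup.map_eq_bot_iff_of_injective _ N.subtype_injective]
        exact hPne
      rcases hmin' P' hnorm hP'le with h0 | h1
      · exact absurd h0 hP'ne
      · have hPtop : (P : Subgroup N) = ⊤ := by
          apply Subgroup.eq_top_of_card_eq
          have := Subgroup.card_subtype N (P : Subgroup N)
          rw [← hP', h1] at this
          exact this.symm
        have hpg : IsPGroup p N := by
          have := P.isPGroup'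
          rw [hPtop] at this
          exact IsPGroup.of_equiv this Subgroup.topEquiv
        have := hpg.isNilpotent
        infer_instance
    · -- Frattini argument
      have hnt : Subgroup.normalizer (P' : Set G) ≠ ⊤ := by
        rw [Ne, Subgroup.normalizer_eq_top_iff]; exact hnorm
      obtain ⟨M, hM, hle⟩ := (eq_top_or_exists_le_coatom (Subgroup.normalizer (P' : Set G))).resolve_left hnt
      have hfr : Subgroup.normalizer (P' : Set G) ⊔ N = ⊤ := Sylow.normalizer_sup_eq_top P
      have hsup : N ⊔ M = ⊤ := by
        rw [eq_top_iff, ← hfr, sup_comm]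
        exact sup_le_sup_left hle N
      have hNM : ¬ N ≤ M := by
        intro hle'
        apply hM.1
        rw [eq_top_iff, ← hsup]
        exact sup_le hle' le_rfl
      have hidx : M.relIndex N = M.index := relIndex_eq_index_of_sup_eq_top N M hsup
      have hmod : M.index ≡ 1 [MOD p] := by
        rw [← hidx]
        apply index_modEq_one_of_normalizer_le P (M.subgroupOf N)
        intro n hnmem
        rw [Subgroup.mem_subgroupOf]
        apply hle
        have := Subgroup.le_normalizer_map N.subtype (H := (P : Subgroup N))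
        exact this (Subgroup.mem_map_of_mem _ hnmem)
      obtain ⟨q, hq, hidxq⟩ := h M hM
      have hqN : q ∣ Nat.card N := by
        have h1 : M.index ∣ Nat.card N := by
          rw [← hidx]; exact Subgroup.relIndex_dvd_card _ _
        refine dvd_trans ?_ h1
        rcases hidxq with h2 | h2
        · rw [h2]
        · rw [h2]; exact dvd_pow_self q (by norm_num)
      have hqp : q ≤ p := hpmax q hq hqN
      have h4 : M.index = 4 := arith p q M.index hp hq hqp hidxq hmod
      -- action on cosets of M
      let φ : G →* Equiv.Perm (G ⧸ M) := MulAction.toPermHom G (G ⧸ M)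
      have hker : φ.ker ≤ M := by
        intro g hg
        rw [MonoidHom.mem_ker] at hg
        have h1 : φ g ((1 : G) : G ⧸ M) = ((1 : G) : G ⧸ M) := by rw [hg]; rfl
        have h2 : φ g ((1 : G) : G ⧸ M) = ((g * 1 : G) : G ⧸ M) := rfl
        rw [h2, mul_one] at h1
        have := QuotientGroup.eq.mp h1
        simpa using this
      have hNK : N ⊓ φ.ker = ⊥ := by
        rcases hmin' (N ⊓ φ.ker) inferInstance inf_le_left with h0 | h1
        · exact h0
        · exfalso
          apply hNM
          have : N ≤ φ.ker := by rw [← h1]; exact inf_le_right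
          exact this.trans hker
      have hinj : Function.Injective (φ.comp N.subtype) := by
        rw [← MonoidHom.ker_eq_bot_iff, eq_bot_iff]
        intro x hx
        rw [MonoidHom.mem_ker] at hx
        have hx' : (x : G) ∈ N ⊓ φ.ker := ⟨x.2, hx⟩
        rw [hNK, Subgroup.mem_bot] at hx'
        rw [Subgroup.mem_bot]
        exact Subtype.ext hx'
      have : Fintype (G ⧸ M) := Fintype.ofFinite _
      have hc4 : Nat.card (G ⧸ M) = 4 := by rw [← Subgroup.index_eq_card]; exact h4
      have := perm_solvable_of_card_four hc4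
      exact Group.isSolvable_of_isSolvable_injective hinj
  exact (Group.isSolvable_iff_subgroup_quotient N).mpr ⟨hNs, hQ⟩

/-- A finite group in which every maximal subgroup has index a prime or the square of a prime is solvable. -/
theorem result {G : Type*} [Group G] [Finite G] (h : ∀ M : Subgroup G, IsCoatom M → ∃ p : ℕ, p.Prime ∧ (M.index = p ∨ M.index = p ^ 2)) : Group.IsSolvable G :=
  main (Nat.card G) G rfl h

end Cfsg.Agent.S4203
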