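import Cfsg.Statements.S4204

set_option autoImplicit false
open Cfsg

namespace Cfsg.Agent.S4204

variable {G : Type*} [Group G]

theorem normal_iSup' {ι : Sort*} (N : ι → Subgroup G) (h : ∀ i, (N i).Normal) :
    (⨆ i, N i).Normal := by
  rw [Subgroup.normal_iff_map_conj_eq]
  intro g
  rw [Subgroup.map_iSup]
  congr 1
  funext i
  exact (Subgroup.normal_iff_map_conj_eq.mp (h i)) g

theorem commutator_le_iff_map (N : Subgroup G) [N.Normal] (X Z : Subgroup G) :
    ⁅X, Z⁆ ≤ N ↔ X.map (QuotientGroup.mk' N) ≤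
      Subgroup.centralizer (Z.map (QuotientGroup.mk' N) : Set (G ⧸ N)) := by
  rw [← Subgroup.commutator_eq_bot_iff_le_centralizer, ← Subgroup.map_commutator,
    Subgroup.map_eq_bot_iff, QuotientGroup.ker_mk']

theorem commutator_iSup_le {ι : Sort*} (X : ι → Subgroup G) (Z N : Subgroup G) [N.Normal]
    (h : ∀ i, ⁅X i, Z⁆ ≤ N) : ⁅⨆ i, X i, Z⁆ ≤ N := by
  rw [commutator_le_iff_map, Subgroup.map_iSup]
  apply iSup_le
  intro i
  rw [← commutator_le_iff_map]
  exact h i

theorem commutator_sup_le (X Y Z N : Subgroup G) [N.Normal]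
    (h1 : ⁅X, Z⁆ ≤ N) (h2 : ⁅Y, Z⁆ ≤ N) : ⁅X ⊔ Y, Z⁆ ≤ N := by
  rw [commutator_le_iff_map, Subgroup.map_sup]
  apply sup_le
  · rw [← commutator_le_iff_map]; exact h1
  · rw [← commutator_le_iff_map]; exact h2

theorem lcs_normal (H : Subgroup G) [H.Normal] (n : ℕ) : (H.lowerCentralSeries n).Normal := by
  induction n with
  | zero => rw [Subgroup.lowerCentralSeries_zero]; infer_instance
  | succ n ih =>
    rw [Subgroup.lowerCentralSeries_succ]
    have := ih
    infer_instance

/-- `A H 0 = ⊤`, `A H (i+1) = γ_{i+1}(H)` (standard indexing). -/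
def A (H : Subgroup G) : ℕ → Subgroup G
  | 0 => ⊤
  | i + 1 => H.lowerCentralSeries i

theorem A_normal (H : Subgroup G) [H.Normal] (i : ℕ) : (A H i).Normal := by
  cases i with
  | zero => exact Subgroup.normal_top
  | succ i => exact lcs_normal H i

theorem A_comm (H : Subgroup G) [H.Normal] (i : ℕ) : ⁅A H i, H⁆ ≤ A H (i + 1) := by
  cases i with
  | zero =>
    show ⁅(⊤ : Subgroup G), H⁆ ≤ H.lowerCentralSeries 0
    rw [Subgroup.lowerCentralSeries_zero]
    exact Subgroup.commutator_le_right _ _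
  | succ i =>
    show ⁅H.lowerCentralSeries i, H⁆ ≤ H.lowerCentralSeries (i + 1)
    rw [Subgroup.lowerCentralSeries_succ]

/-- The mixed term of weight `n`. -/
def M (H K : Subgroup G) (n : ℕ) : Subgroup G :=
  ⨆ p : {p : ℕ × ℕ // p.1 + p.2 = n}, A H p.1.1 ⊓ A K p.1.2

theorem M_normal (H K : Subgroup G) [H.Normal] [K.Normal] (n : ℕ) : (M H K n).Normal := by
  apply normal_iSup'
  intro p
  have := A_normal H p.1.1
  have := A_normal K p.1.2
  infer_instance

theorem le_M (H K : Subgroup G) (i j n : ℕ) (h : i + j = n) : A H i ⊓ A K j ≤ M H K n :=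
  le_iSup (fun p : {p : ℕ × ℕ // p.1 + p.2 = n} => A H p.1.1 ⊓ A K p.1.2) ⟨(i, j), h⟩

theorem M_step (H K : Subgroup G) [H.Normal] [K.Normal] (n : ℕ) :
    ⁅M H K n, H ⊔ K⁆ ≤ M H K (n + 1) := by
  have := M_normal H K (n + 1)
  apply commutator_iSup_le
  rintro ⟨⟨i, j⟩, hij⟩
  simp only at hij ⊢
  have := A_normal H i
  have := A_normal K j
  rw [Subgroup.commutator_comm]
  apply commutator_sup_le
  · rw [Subgroup.commutator_comm]
    refine le_trans ?_ (le_M H K (i + 1) j (n + 1) (by omega))
    apply le_inf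
    · exact (Subgroup.commutator_mono inf_le_left le_rfl).trans (A_comm H i)
    · exact (Subgroup.commutator_mono inf_le_right le_rfl).trans (Subgroup.commutator_le_left _ _)
  · rw [Subgroup.commutator_comm]
    refine le_trans ?_ (le_M H K i (j + 1) (n + 1) (by omega))
    apply le_inf
    · exact (Subgroup.commutator_mono inf_le_left le_rfl).trans (Subgroup.commutator_le_left _ _)
    · exact (Subgroup.commutator_mono inf_le_right le_rfl).trans (A_comm K j)

theorem lcs_le_M (H K : Subgroup G) [H.Normal] [K.Normal] (n : ℕ) :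
    (H ⊔ K).lowerCentralSeries n ≤ M H K (n + 1) := by
  induction n with
  | zero =>
    rw [Subgroup.lowerCentralSeries_zero]
    apply sup_le
    · refine le_trans ?_ (le_M H K 1 0 1 rfl)
      show H ≤ H.lowerCentralSeries 0 ⊓ ⊤
      simp
    · refine le_trans ?_ (le_M H K 0 1 1 rfl)
      show K ≤ ⊤ ⊓ K.lowerCentralSeries 0
      simp
  | succ n ih =>
    rw [Subgroup.lowerCentralSeries_succ]
    exact (Subgroup.commutator_mono ih le_rfl).trans (M_step H K (n + 1))

/-- If `H` and `K` are normal subgroups of a finite group with `H` nilpotent of class at most `c` and `K` nilpotent of class at most `d` (the terms with index `c`, respectively `d`, of their lower central series are trivial, indices starting at `0`), then `HK` is nilpotent of class at most `c + d`. -/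
theorem result {G : Type*} [Group G] [Finite G] (H K : Subgroup G) [H.Normal] [K.Normal] (c d : ℕ) (hH : H.lowerCentralSeries c = ⊥) (hK : K.lowerCentralSeries d = ⊥) : (H ⊔ K).lowerCentralSeries (c + d) = ⊥ := by
  rw [eq_bot_iff]
  refine (lcs_le_M H K (c + d)).trans ?_
  unfold M
  apply iSup_le
  rintro ⟨⟨i, j⟩, hij⟩
  simp only at hij ⊢
  by_cases hi : c + 1 ≤ i
  · obtain ⟨i', rfl⟩ : ∃ i', i = i' + 1 := ⟨i - 1, by omega⟩
    refine inf_le_left.trans ?_
    show H.lowerCentralSeries i' ≤ ⊥
    rw [← hH]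
    exact H.lowerCentralSeries_antitone (by omega)
  · obtain ⟨j', rfl⟩ : ∃ j', j = j' + 1 := ⟨j - 1, by omega⟩
    refine inf_le_right.trans ?_
    show K.lowerCentralSeries j' ≤ ⊥
    rw [← hK]
    exact K.lowerCentralSeries_antitone (by omega)

end Cfsg.Agent.S4204
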