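import Cfsg.Statements.S4208
import Cfsg.Agent.S4207
import Cfsg.Agent.Lib.Helper1_Frattini

set_option autoImplicit false
open Cfsg
open scoped commutatorElement

namespace Cfsg.Agent.S4208

/-- The order of a group acting freely on a type divides the size of the type. -/
theorem card_dvd_of_free {G X : Type*} [Group G] [MulAction G X]
    (hfree : ∀ (g : G) (x : X), g • x = x → g = 1) : Nat.card G ∣ Nat.card X := by
  classical
  have h : ∀ x : X, MulAction.stabilizer G x = ⊥ := fun x => by
    rw [eq_bot_iff]; intro g hg; exact Subgroup.mem_bot.mpr (hfree g x hg)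
  have e := MulAction.selfEquivOrbitsQuotientProd h
  rw [Nat.card_congr e, Nat.card_prod]
  exact dvd_mul_left _ _

/-- The automorphism group of an elementary abelian group of order `p^r` has order dividing
`(p^r - 1)(p^r - p) ⋯ (p^r - p^(r-1))`: it acts freely on the set of bases. -/
theorem card_mulAut_dvd_comm {E : Type*} [CommGroup E] [Finite E] {p r : ℕ} [Fact p.Prime]
    (hexp : ∀ a : E, a ^ p = 1) (hE : Nat.card E = p ^ r) :
    Nat.card (MulAut E) ∣ ∏ i ∈ Finset.range r, (p ^ r - p ^ i) := by
  classical
  have hp : p.Prime := Fact.out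
  have hh : ∀ (x : Additive E), p • x = 0 := fun x => by
    show Additive.ofMul (x.toMul ^ p) = 0
    rw [hexp]; rfl
  let _ : Module (ZMod p) (Additive E) := AddCommGroup.zmodModule (n := p) (G := Additive E) hh
  have hfin : Module.finrank (ZMod p) (Additive E) = r := by
    have h1 : Nat.card (Additive E) = Nat.card (ZMod p) ^ Module.finrank (ZMod p) (Additive E) :=
      Module.natCard_eq_pow_finrank
    rw [Nat.card_zmod] at h1
    have h2 : Nat.card (Additive E) = p ^ r := hE
    rw [h2] at h1
    exact (Nat.pow_right_injective hp.two_le h1).symm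
  -- the linear map attached to an automorphism
  let L : MulAut E → (Additive E →ₗ[ZMod p] Additive E) := fun α =>
    AddMonoidHom.toZModLinearMap p (MonoidHom.toAdditive α.toMonoidHom)
  have hL : ∀ (α : MulAut E) (x : Additive E), L α x = Additive.ofMul (α x.toMul) :=
    fun α x => rfl
  have hLinj : ∀ α, Function.Injective (L α) := by
    intro α x y hxy
    rw [hL, hL] at hxy
    have := α.injective (Additive.ofMul.injective hxy)
    exact Additive.toMul.injective this
  let X := {s : Fin r → Additive E // LinearIndependent (ZMod p) s}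
  let _ : MulAction (MulAut E) X :=
    { smul := fun α s =>
        ⟨fun i => L α (s.1 i), s.2.map' (L α) (LinearMap.ker_eq_bot.mpr (hLinj α))⟩
      one_smul := fun s => Subtype.ext (funext fun i => rfl)
      mul_smul := fun α β s => Subtype.ext (funext fun i => rfl) }
  have hfree : ∀ (α : MulAut E) (s : X), α • s = s → α = 1 := by
    intro α s hs
    have h1 : ∀ i, L α (s.1 i) = s.1 i := fun i => congrFun (congrArg Subtype.val hs) i
    have hspan : Submodule.span (ZMod p) (Set.range s.1) = ⊤ := by
      apply s.2.span_eq_top_of_card_eq_finrank'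
      rw [Fintype.card_fin, hfin]
    have h2 : L α = LinearMap.id := by
      apply LinearMap.ext_on hspan
      rintro _ ⟨i, rfl⟩
      exact h1 i
    apply MulEquiv.ext
    intro x
    have := LinearMap.congr_fun h2 (Additive.ofMul x)
    exact Additive.ofMul.injective this
  have hX : Nat.card X = ∏ i ∈ Finset.range r, (p ^ r - p ^ i) := by
    have := card_linearIndependent (K := ZMod p) (V := Additive E) (k := r) (by rw [hfin])
    rw [this, hfin, ZMod.card, Finset.prod_range]
  rw [← hX]
  exact card_dvd_of_free hfree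

/-- Let `P` be a group of order `p^n` whose Frattini subgroup has index `p^r`. Then the order of the automorphism group of `P` divides `p^(r(n-r)) · (p^r - 1)(p^r - p) ⋯ (p^r - p^(r-1))`. -/
theorem result {P : Type*} [Group P] [Finite P] {p n r : ℕ} [Fact p.Prime] (hP : Nat.card P = p ^ n) (hr : (frattini P).index = p ^ r) : Nat.card (MulAut P) ∣ p ^ (r * (n - r)) * ∏ i ∈ Finset.range r, (p ^ r - p ^ i) := by
  classical
  have hp : p.Prime := Fact.out
  have hPG : IsPGroup p P := IsPGroup.of_card hP
  set Φ := frattini P with hΦ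
  have hchar : Φ.Characteristic := frattini_characteristic
  have hmap : ∀ α : MulAut P, Φ.map α.toMonoidHom = Φ := fun α =>
    Subgroup.characteristic_iff_map_eq.mp hchar α
  let ψ : MulAut P →* MulAut (P ⧸ Φ) :=
    { toFun := fun α => QuotientGroup.congr Φ Φ α (hmap α)
      map_one' := by
        ext x
        induction x using QuotientGroup.induction_on
        rfl
      map_mul' := fun α β => by
        ext x
        induction x using QuotientGroup.induction_on
        rfl }
  have hψ : ∀ (α : MulAut P) (x : P), ψ α (x : P ⧸ Φ) = ((α x : P) : P ⧸ Φ) := fun α x => rfl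
  have hker : Nat.card ψ.ker ∣ p ^ (r * (n - r)) := by
    apply Cfsg.Agent.S4207.result hP hr ψ.ker
    intro α hα x
    have h1 : ψ α (x : P ⧸ Φ) = (x : P ⧸ Φ) := by rw [MonoidHom.mem_ker.mp hα]; rfl
    rw [hψ] at h1
    rw [← QuotientGroup.eq_one_iff, QuotientGroup.mk_mul, QuotientGroup.mk_inv, h1,
      mul_inv_cancel]
  -- the Frattini quotient is elementary abelian
  have hcomm : ∀ a b : P ⧸ Φ, a * b = b * a := by
    intro a b
    induction a using QuotientGroup.induction_on with | H a => ?_
    induction b using QuotientGroup.induction_on with | H b => ?_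
    have h1 : ⁅a, b⁆ ∈ Φ := Cfsg.Agent.Lib.Helper1_Frattini.commutator_le_frattini_of_isPGroup hPG
      (Subgroup.commutator_mem_commutator (Subgroup.mem_top a) (Subgroup.mem_top b))
    rw [← QuotientGroup.eq_one_iff] at h1
    rw [commutatorElement_def] at h1
    simp only [QuotientGroup.mk_mul, QuotientGroup.mk_inv] at h1
    calc (a : P ⧸ Φ) * b = ((a : P ⧸ Φ) * b * (a : P ⧸ Φ)⁻¹ * (b : P ⧸ Φ)⁻¹) * (b * a) := by group
      _ = b * a := by rw [h1, one_mul]
  have hexp : ∀ a : P ⧸ Φ, a ^ p = 1 := by
    intro a
    induction a using QuotientGroup.induction_on with | H a => ?_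
    rw [← QuotientGroup.mk_pow, QuotientGroup.eq_one_iff]
    exact Cfsg.Agent.Lib.Helper1_Frattini.pow_mem_frattini_of_isPGroup hPG a
  have hE : Nat.card (P ⧸ Φ) = p ^ r := by rw [← Subgroup.index_eq_card]; exact hr
  let cI : CommGroup (P ⧸ Φ) := { (inferInstance : Group (P ⧸ Φ)) with mul_comm := hcomm }
  have hAutE : Nat.card (MulAut (P ⧸ Φ)) ∣ ∏ i ∈ Finset.range r, (p ^ r - p ^ i) :=
    @card_mulAut_dvd_comm (P ⧸ Φ) cI _ p r _ hexp hE
  have hrange : Nat.card ψ.range ∣ ∏ i ∈ Finset.range r, (p ^ r - p ^ i) :=
    (Subgroup.card_subgroup_dvd_card _).trans hAutE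
  have hcard : Nat.card (MulAut P) = Nat.card ψ.ker * Nat.card ψ.range := by
    rw [← Subgroup.index_ker, Subgroup.card_mul_index]
  rw [hcard]
  exact Nat.mul_dvd_mul hker hrange

end Cfsg.Agent.S4208
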