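import Cfsg.Statements.S4213
import Cfsg.Agent.Lib.Helper71_FrobSolutions
import Cfsg.Agent.Lib.Helper1_MinNormal

set_option autoImplicit false
open Cfsg

namespace Cfsg.Agent.S4213

open Cfsg.Agent.Lib.Helper71_FrobSolutions

universe u

/-- counting a full preimage under `G → G ⧸ K`. -/
lemma card_preimage {G : Type*} [Group G] (K : Subgroup G) [K.Normal] (P : G ⧸ K → Prop) :
    Nat.card {x : G // P (x : G ⧸ K)} = Nat.card {q : G ⧸ K // P q} * Nat.card K := by
  rw [← Nat.card_prod]
  refine Nat.card_congr ⟨fun x => (⟨(x.1 : G ⧸ K), x.2⟩,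
    ⟨(Quotient.out (x.1 : G ⧸ K))⁻¹ * x.1, ?_⟩),
    fun y => ⟨Quotient.out y.1.1 * y.2.1, ?_⟩, ?_, ?_⟩
  · rw [← QuotientGroup.eq]
    exact QuotientGroup.out_eq' _
  · have : ((Quotient.out y.1.1 * y.2.1 : G) : G ⧸ K) = y.1.1 := by
      rw [QuotientGroup.mk_mul, (QuotientGroup.eq_one_iff _).mpr y.2.2, mul_one]
      exact QuotientGroup.out_eq' _
    rw [this]
    exact y.1.2
  · intro x
    ext
    simp
  · rintro ⟨⟨q, hq⟩, ⟨k, hk⟩⟩
    have : ((Quotient.out q * k : G) : G ⧸ K) = q := by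
      rw [QuotientGroup.mk_mul, (QuotientGroup.eq_one_iff _).mpr hk, mul_one]
      exact QuotientGroup.out_eq' _
    ext
    · simp only
      exact this
    · simp only
      rw [this]
      group

/-- two sets of the same finite size, one inside the other, are equal. -/
lemma set_eq_of_subset_of_card {α : Type*} [Finite α] (A B : Set α) (h : A ⊆ B)
    (hc : Nat.card B ≤ Nat.card A) : A = B := by
  apply Set.eq_of_subset_of_ncard_le h
  rwa [← Nat.card_coe_set_eq, ← Nat.card_coe_set_eq]

/-- a subgroup of order `n` inside the `n` solutions of `x ^ n = 1` is normal and equals them. -/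
lemma done_of_subgroup {G : Type*} [Group G] [Finite G] (n : ℕ)
    (hcount : Nat.card {x : G // x ^ n = 1} = n) (R : Subgroup G)
    (hR : ∀ x ∈ R, x ^ n = 1) (hRn : Nat.card R = n) :
    ∃ H : Subgroup G, H.Normal ∧ (H : Set G) = {x : G | x ^ n = 1} := by
  have heq : (R : Set G) = {x : G | x ^ n = 1} := by
    apply set_eq_of_subset_of_card
    · intro x hx; exact hR x hx
    · change Nat.card {x : G // x ^ n = 1} ≤ Nat.card R
      rw [hcount, hRn]
  refine ⟨R, ⟨fun r hr g => ?_⟩, heq⟩
  have h1 : r ^ n = 1 := hR r hr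
  have h2 : (g * r * g⁻¹) ^ n = 1 := by rw [conj_pow, h1]; group
  have : g * r * g⁻¹ ∈ (R : Set G) := by rw [heq]; exact h2
  exact this

lemma pow_eq_one_of_quot {G : Type*} [Group G] (K : Subgroup G) [K.Normal] (p : ℕ)
    (hKp : ∀ k ∈ K, k ^ p = 1) (m n : ℕ) (hmn : m * p ∣ n) (x : G)
    (hx : (x : G ⧸ K) ^ m = 1) : x ^ n = 1 := by
  rw [← QuotientGroup.mk_pow, QuotientGroup.eq_one_iff] at hx
  have := hKp _ hx
  rw [← pow_mul] at this
  obtain ⟨c, rfl⟩ := hmn
  rw [pow_mul, this, one_pow]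

/-- the bound: the preimage of the solutions of `q ^ m = 1` consists of solutions of `x ^ n = 1`. -/
lemma card_quot_sol_le {G : Type*} [Group G] [Finite G] (K : Subgroup G) [K.Normal] (p : ℕ)
    (hKp : ∀ k ∈ K, k ^ p = 1) (m n : ℕ) (hmn : m * p ∣ n)
    (hcount : Nat.card {x : G // x ^ n = 1} = n) :
    Nat.card {q : G ⧸ K // q ^ m = 1} * Nat.card K ≤ n := by
  rw [← card_preimage K (fun q => q ^ m = 1)]
  conv_rhs => rw [← hcount]
  apply Nat.card_le_card_of_injective
    (fun x : {x : G // (x : G ⧸ K) ^ m = 1} =>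
      (⟨x.1, pow_eq_one_of_quot K p hKp m n hmn x.1 x.2⟩ : {x : G // x ^ n = 1}))
  intro x y hxy
  have := congrArg Subtype.val hxy
  exact Subtype.ext this

/-- the conclusion when the solutions in the quotient form a subgroup of the right size. -/
lemma done_of_quot {G : Type*} [Group G] [Finite G] (K : Subgroup G) [K.Normal] (p : ℕ)
    (hKp : ∀ k ∈ K, k ^ p = 1) (m n : ℕ) (hmn : m * p ∣ n)
    (hcount : Nat.card {x : G // x ^ n = 1} = n)
    (Hbar : Subgroup (G ⧸ K)) (hHbar : (Hbar : Set (G ⧸ K)) = {q : G ⧸ K | q ^ m = 1})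
    (hcard : Nat.card {q : G ⧸ K // q ^ m = 1} * Nat.card K = n) :
    ∃ H : Subgroup G, H.Normal ∧ (H : Set G) = {x : G | x ^ n = 1} := by
  apply done_of_subgroup n hcount (Hbar.comap (QuotientGroup.mk' K))
  · intro x hx
    rw [Subgroup.mem_comap] at hx
    have : (QuotientGroup.mk' K x) ∈ (Hbar : Set (G ⧸ K)) := hx
    rw [hHbar] at this
    exact pow_eq_one_of_quot K p hKp m n hmn x this
  · rw [← hcard, ← card_preimage K (fun q => q ^ m = 1)]
    apply Nat.card_congr
    apply Equiv.subtypeEquivRight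
    intro x
    rw [Subgroup.mem_comap]
    change (QuotientGroup.mk' K x) ∈ (Hbar : Set (G ⧸ K)) ↔ _
    rw [hHbar]
    rfl

/-- lifting solutions when `n` is prime to `p`. -/
lemma exists_lift {G : Type*} [Group G] [Finite G] (K : Subgroup G) [K.Normal] (p : ℕ)
    (hKp : ∀ k ∈ K, k ^ p = 1) (n : ℕ) (hcop : n.Coprime p) (q : G ⧸ K) (hq : q ^ n = 1) :
    ∃ y : G, (y : G ⧸ K) = q ∧ y ^ n = 1 := by
  obtain ⟨x, rfl⟩ := QuotientGroup.mk_surjective q
  have hx1 : x ^ (n * p) = 1 := pow_eq_one_of_quot K p hKp n (n * p) (dvd_refl _) x hq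
  obtain ⟨e, he1, he0⟩ := Nat.chineseRemainder hcop 1 0
  refine ⟨x ^ e, ?_, ?_⟩
  · rw [QuotientGroup.mk_pow]
    have hord : orderOf (x : G ⧸ K) ∣ n := orderOf_dvd_of_pow_eq_one hq
    have := (pow_eq_pow_iff_modEq (x := (x : G ⧸ K))).mpr (he1.of_dvd hord)
    rw [this, pow_one]
  · obtain ⟨c, hc⟩ := (Nat.modEq_zero_iff_dvd).mp he0
    rw [← pow_mul, hc, mul_comm p c, mul_assoc, mul_comm p n, mul_comm c, pow_mul, hx1, one_pow]

/-- the case `p ∤ n`: Schur–Zassenhaus. -/
lemma done_of_coprime {G : Type*} [Group G] [Finite G] (K : Subgroup G) [K.Normal] (p i : ℕ)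
    (hKcard : Nat.card K = p ^ i) (n : ℕ) (hcop : n.Coprime p)
    (hcount : Nat.card {x : G // x ^ n = 1} = n)
    (Hbar : Subgroup (G ⧸ K)) (hHbar : (Hbar : Set (G ⧸ K)) = {q : G ⧸ K | q ^ n = 1})
    (hcard : Nat.card {q : G ⧸ K // q ^ n = 1} = n) :
    ∃ H : Subgroup G, H.Normal ∧ (H : Set G) = {x : G | x ^ n = 1} := by
  have hn0 : 0 < n := by
    rw [← hcount]
    have : Nonempty {x : G // x ^ n = 1} := ⟨⟨1, one_pow _⟩⟩
    exact Nat.card_pos
  set H := Hbar.comap (QuotientGroup.mk' K) with hH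
  have hKH : K ≤ H := by
    intro k hk
    rw [hH, Subgroup.mem_comap]
    have : QuotientGroup.mk' K k = 1 := (QuotientGroup.eq_one_iff k).mpr hk
    rw [this]
    exact Hbar.one_mem
  have hHcard : Nat.card H = n * p ^ i := by
    rw [← hKcard]
    conv_rhs => rw [← hcard]
    rw [← card_preimage K (fun q => q ^ n = 1)]
    apply Nat.card_congr
    apply Equiv.subtypeEquivRight
    intro x
    rw [hH, Subgroup.mem_comap]
    change (QuotientGroup.mk' K x) ∈ (Hbar : Set (G ⧸ K)) ↔ _
    rw [hHbar]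
    rfl
  have hNcard : Nat.card (K.subgroupOf H) = p ^ i := by
    rw [← hKcard]
    exact Nat.card_congr (Subgroup.subgroupOfEquivOfLe hKH).toEquiv
  have hNindex : (K.subgroupOf H).index = n := by
    have h1 := Subgroup.card_mul_index (K.subgroupOf H)
    rw [hNcard, hHcard, mul_comm] at h1
    have hpos : 0 < p ^ i := by
      rw [← hKcard]; exact Nat.card_pos
    exact Nat.eq_of_mul_eq_mul_right hpos h1
  have hcop' : Nat.Coprime (Nat.card (K.subgroupOf H)) (K.subgroupOf H).index := by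
    rw [hNcard, hNindex]
    exact Nat.Coprime.pow_left _ hcop.symm
  obtain ⟨C, hC⟩ := Subgroup.exists_right_complement'_of_coprime hcop'
  have hCcard : Nat.card C = n := by
    have h1 := hC.card_mul_card
    rw [hNcard, hHcard, mul_comm] at h1
    have hpos : 0 < p ^ i := by
      rw [← hKcard]; exact Nat.card_pos
    exact Nat.eq_of_mul_eq_mul_right hpos h1
  apply done_of_subgroup n hcount (C.map H.subtype)
  · rintro _ ⟨c, hc, rfl⟩
    have h1 : (⟨c, hc⟩ : C) ^ Nat.card C = 1 := pow_card_eq_one'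
    rw [hCcard] at h1
    have h2 := congrArg (fun z : C => ((z : H) : G)) h1
    simpa using h2
  · rw [Subgroup.card_map_of_injective H.subtype_injective, hCcard]

theorem main : ∀ k : ℕ, ∀ (G : Type u) [Group G] [Finite G] [Group.IsSolvable G],
    Nat.card G = k → ∀ n : ℕ, n ∣ Nat.card G → Nat.card {x : G // x ^ n = 1} = n →
    ∃ H : Subgroup G, H.Normal ∧ (H : Set G) = {x : G | x ^ n = 1} := by
  intro k
  induction k using Nat.strong_induction_on with
  | _ k IH =>
  intro G _ _ _ hk n hn hcount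
  have hG0 : 0 < Nat.card G := Nat.card_pos
  have hn0 : 0 < n := Nat.pos_of_dvd_of_pos hn hG0
  by_cases htriv : Subsingleton G
  · refine ⟨⊤, inferInstance, ?_⟩
    ext x
    simp [Subsingleton.elim x 1]
  rw [not_subsingleton_iff_nontrivial] at htriv
  have htop : (⊤ : Subgroup G) ≠ ⊥ := top_ne_bot
  obtain ⟨K, hKn, -, hK1, -, p, hp, hKp⟩ :=
    Cfsg.Agent.Lib.Helper1_MinNormal.exists_elementary_abelian_normal_le (⊤ : Subgroup G)
      inferInstance htop
  have := hKn
  have : Fact p.Prime := ⟨hp⟩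
  have hKpg : IsPGroup p K := fun g => ⟨1, by
    rw [pow_one]
    exact Subtype.ext (by simpa using hKp g.1 g.2)⟩
  obtain ⟨i, hi⟩ := IsPGroup.iff_card.mp hKpg
  have hi0 : 0 < i := by
    rcases Nat.eq_zero_or_pos i with h | h
    · exfalso
      rw [h, pow_zero] at hi
      exact hK1 (Subgroup.card_eq_one.mp hi)
    · exact h
  have hpi2 : 2 ≤ p ^ i := by
    calc 2 ≤ p := hp.two_le
      _ = p ^ 1 := (pow_one p).symm
      _ ≤ p ^ i := Nat.pow_le_pow_right hp.pos hi0
  have hGQK : Nat.card G = Nat.card (G ⧸ K) * Nat.card K :=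
    Subgroup.card_eq_card_quotient_mul_card_subgroup K
  have hQpos : 0 < Nat.card (G ⧸ K) := Nat.card_pos
  have hQlt : Nat.card (G ⧸ K) < k := by
    rw [← hk, hGQK, hi]
    nlinarith
  have frob : ∀ m, m ∣ Nat.card (G ⧸ K) → m ∣ Nat.card {q : G ⧸ K // q ^ m = 1} :=
    fun m hm => dvd_card_pow_eq_one m hm
  have pos : ∀ m, 0 < Nat.card {q : G ⧸ K // q ^ m = 1} := fun m => by
    have : Nonempty {q : G ⧸ K // q ^ m = 1} := ⟨⟨1, one_pow m⟩⟩
    exact Nat.card_pos
  by_cases hpn : p ∣ n
  · by_cases hpin : p ^ i ∣ n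
    · -- Case 1
      obtain ⟨m, hm⟩ := hpin
      have hmp : m * p ∣ n := by
        rw [hm]
        obtain ⟨j, rfl⟩ : ∃ j, i = j + 1 := ⟨i - 1, by omega⟩
        exact ⟨p ^ j, by ring⟩
      have hmQ : m ∣ Nat.card (G ⧸ K) := by
        rw [hGQK, hi, hm, mul_comm] at hn
        exact Nat.dvd_of_mul_dvd_mul_right (pow_pos hp.pos i) hn
      have hle := card_quot_sol_le K p hKp m n hmp hcount
      have hm0 : 0 < m := by
        rcases Nat.eq_zero_or_pos m with h | h
        · rw [h, mul_zero] at hm; omega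
        · exact h
      have hQm : Nat.card {q : G ⧸ K // q ^ m = 1} = m := by
        obtain ⟨t, ht⟩ := frob m hmQ
        have hpos := pos m
        rw [ht] at hle hpos ⊢
        rw [hi, hm] at hle
        have ht0 : 0 < t := by
          rcases Nat.eq_zero_or_pos t with h | h
          · rw [h, mul_zero] at hpos; omega
          · exact h
        have : t ≤ 1 := by
          by_contra hcon
          rw [not_le] at hcon
          have h2 : 2 ≤ t := hcon
          have h3 : 0 < m * p ^ i := Nat.mul_pos hm0 (pow_pos hp.pos i)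
          nlinarith
        have : t = 1 := by omega
        rw [this, mul_one]
      obtain ⟨Hbar, -, hHbar⟩ := IH (Nat.card (G ⧸ K)) hQlt (G ⧸ K) rfl m hmQ hQm
      exact done_of_quot K p hKp m n hmp hcount Hbar hHbar (by rw [hQm, hi, hm, mul_comm])
    · -- Case 2a: impossible
      exfalso
      have he1 : 1 ≤ n.factorization p := hp.factorization_pos_of_dvd hn0.ne' hpn
      have hei : n.factorization p < i := by
        by_contra h
        rw [not_lt] at h
        exact hpin (dvd_trans (pow_dvd_pow p h) (Nat.ordProj_dvd n p))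
      have hnm : p ^ n.factorization p * (n / p ^ n.factorization p) = n :=
        Nat.ordProj_mul_ordCompl_eq_self n p
      have hmcop : (n / p ^ n.factorization p).Coprime p :=
        (Nat.coprime_ordCompl hp hn0.ne').symm
      generalize hmdef : n / p ^ n.factorization p = m at hnm hmcop
      generalize hedef : n.factorization p = e at hnm he1 hei
      have hmp : m * p ∣ n := by
        rw [← hnm]
        obtain ⟨j, rfl⟩ : ∃ j, e = j + 1 := ⟨e - 1, by omega⟩
        exact ⟨p ^ j, by ring⟩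
      have hmQ : m ∣ Nat.card (G ⧸ K) := by
        have h1 : m ∣ Nat.card (G ⧸ K) * p ^ i := by
          rw [← hi, ← hGQK]
          exact dvd_trans (Dvd.intro_left _ hnm) hn
        exact Nat.Coprime.dvd_of_dvd_mul_right (Nat.Coprime.pow_right i hmcop) h1
      have hle := card_quot_sol_le K p hKp m n hmp hcount
      have hge : m ≤ Nat.card {q : G ⧸ K // q ^ m = 1} := Nat.le_of_dvd (pos m) (frob m hmQ)
      have hm0 : 0 < m := by
        rcases Nat.eq_zero_or_pos m with h | h
        · rw [h, mul_zero] at hnm; omega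
        · exact h
      rw [hi, ← hnm] at hle
      have h1 : m * p ^ i ≤ p ^ e * m :=
        le_trans (Nat.mul_le_mul_right _ hge) hle
      have h2 : p ^ i ≤ p ^ e := by
        rw [mul_comm] at h1
        exact Nat.le_of_mul_le_mul_right h1 hm0
      exact absurd (Nat.pow_lt_pow_right hp.one_lt hei) (not_lt.mpr h2)
  · -- Case 2b
    have hcop : n.Coprime p := ((Nat.Prime.coprime_iff_not_dvd hp).mpr hpn).symm
    have hnQ : n ∣ Nat.card (G ⧸ K) := by
      have h1 : n ∣ Nat.card (G ⧸ K) * p ^ i := by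
        rw [← hi, ← hGQK]; exact hn
      exact Nat.Coprime.dvd_of_dvd_mul_right (Nat.Coprime.pow_right i hcop) h1
    have hle : Nat.card {q : G ⧸ K // q ^ n = 1} ≤ n := by
      conv_rhs => rw [← hcount]
      apply Nat.card_le_card_of_surjective
        (fun x : {x : G // x ^ n = 1} =>
          (⟨(x.1 : G ⧸ K), by rw [← QuotientGroup.mk_pow, x.2]; rfl⟩ :
            {q : G ⧸ K // q ^ n = 1}))
      rintro ⟨q, hq⟩
      obtain ⟨y, hy1, hy2⟩ := exists_lift K p hKp n hcop q hq
      exact ⟨⟨y, hy2⟩, Subtype.ext hy1⟩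
    have hQn : Nat.card {q : G ⧸ K // q ^ n = 1} = n :=
      le_antisymm hle (Nat.le_of_dvd (pos n) (frob n hnQ))
    obtain ⟨Hbar, -, hHbar⟩ := IH (Nat.card (G ⧸ K)) hQlt (G ⧸ K) rfl n hnQ hQn
    exact done_of_coprime K p i hi n hcop hcount Hbar hHbar hQn

/-- If `G` is a finite solvable group and `n` divides the order of `G` and exactly `n` elements `x` of `G` satisfy `x^n = 1`, then these elements form a normal subgroup. -/
theorem result {G : Type*} [Group G] [Finite G] [Group.IsSolvable G] (n : ℕ) (hn : n ∣ Nat.card G) (hcount : Nat.card {x : G // x ^ n = 1} = n) : ∃ H : Subgroup G, H.Normal ∧ (H : Set G) = {x : G | x ^ n = 1} := by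
  exact main _ G rfl n hn hcount

end Cfsg.Agent.S4213
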