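import Mathlib
import Cfsg.Statements.S4214
import Cfsg.Agent.Lib.Helper1_Hall
import Cfsg.Agent.Lib.Helper1_Glauberman

set_option autoImplicit false
open Cfsg

namespace Cfsg.Agent.S4214

open Subgroup
open scoped Pointwise
open Cfsg.Agent.Lib.Helper1_Transport Cfsg.Agent.Lib.Helper1_Hall

universe u

/-- number of subgroups of order `m` -/
noncomputable def hcount (G : Type*) [Group G] (m : ℕ) : ℕ :=
  Nat.card {H : Subgroup G // Nat.card H = m}

section product

variable {G : Type u} [Group G]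

/-- subgroups of order `m` below `L` correspond to subgroups of order `m` of the group `L` -/
theorem card_le_eq_hcount (L : Subgroup G) (m : ℕ) :
    Nat.card {H : Subgroup G // Nat.card H = m ∧ H ≤ L} = hcount L m := by
  unfold hcount
  apply Nat.card_congr
  refine ⟨fun H => ⟨H.1.subgroupOf L, by rw [card_subgroupOf H.2.2]; exact H.2.1⟩,
    fun H' => ⟨H'.1.map L.subtype, by
      rw [card_map_of_injective (subtype_injective L)]; exact H'.2, map_subtype_le _⟩, ?_, ?_⟩
  · intro H
    apply Subtype.ext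
    exact map_subgroupOf_eq_of_le H.2.2
  · intro H'
    apply Subtype.ext
    exact comap_map_eq_self_of_injective (subtype_injective L) H'.1

/-- the product formula -/
theorem hcount_mul [Finite G] [hsol : Group.IsSolvable G] (m n : ℕ) (hG : Nat.card G = m * n)
    (hmn : m.Coprime n) (M : Subgroup G) [M.Normal] (hM : m.Coprime (Nat.card M))
    (H0 : Subgroup G) (hH0 : Nat.card H0 = m) :
    hcount G m = hcount (G ⧸ M) m * hcount ↥(H0 ⊔ M) m := by
  classical
  -- order of the quotient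
  have hMn : Nat.card M ∣ n := by
    have h1 : Nat.card M ∣ m * n := hG ▸ Subgroup.card_subgroup_dvd_card M
    exact (Nat.Coprime.dvd_of_dvd_mul_left hM.symm h1)
  obtain ⟨n', hn'⟩ := hMn
  have hMpos : 0 < Nat.card M := Nat.card_pos
  have hQ : Nat.card (G ⧸ M) = m * n' := by
    have h1 := card_quotient_mul_card M
    rw [hG, hn'] at h1
    have h2 : Nat.card (G ⧸ M) * Nat.card M = (m * n') * Nat.card M := by rw [h1]; ring
    exact Nat.eq_of_mul_eq_mul_right hMpos h2
  have hmn' : m.Coprime n' := Nat.Coprime.coprime_dvd_right ⟨Nat.card M, by rw [hn']; ring⟩ hmn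
  have hsolQ : Group.IsSolvable (G ⧸ M) := inferInstance
  -- the map on subgroups of order `m`
  have hcardmap : ∀ H : Subgroup G, Nat.card H = m →
      Nat.card (H.map (QuotientGroup.mk' M)) = m := by
    intro H hH
    rw [card_map_mk'_of_coprime M H (by rw [hH]; exact hM), hH]
  let Φ : {H : Subgroup G // Nat.card H = m} → {K : Subgroup (G ⧸ M) // Nat.card K = m} :=
    fun H => ⟨H.1.map (QuotientGroup.mk' M), hcardmap H.1 H.2⟩
  have hfin : Finite {K : Subgroup (G ⧸ M) // Nat.card K = m} := inferInstance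
  have : Fintype {K : Subgroup (G ⧸ M) // Nat.card K = m} := Fintype.ofFinite _
  have h1 : hcount G m = ∑ K : {K : Subgroup (G ⧸ M) // Nat.card K = m},
      Nat.card {H : {H : Subgroup G // Nat.card H = m} // Φ H = K} := by
    unfold hcount
    rw [← Nat.card_sigma]
    exact Nat.card_congr (Equiv.sigmaFiberEquiv Φ).symm
  -- all fibres have the same size
  set K0 : {K : Subgroup (G ⧸ M) // Nat.card K = m} := Φ ⟨H0, hH0⟩ with hK0
  have hfib : ∀ K : {K : Subgroup (G ⧸ M) // Nat.card K = m},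
      Nat.card {H : {H : Subgroup G // Nat.card H = m} // Φ H = K} =
      Nat.card {H : {H : Subgroup G // Nat.card H = m} // Φ H = K0} := by
    intro K
    obtain ⟨gbar, hg⟩ := hall_conj m n' hQ hmn' K0.1 K.1 K0.2 K.2
    obtain ⟨g, rfl⟩ := QuotientGroup.mk'_surjective M gbar
    symm
    apply Nat.card_congr
    refine ⟨fun H => ⟨⟨MulAut.conj g • H.1.1, by rw [card_conj_smul]; exact H.1.2⟩, ?_⟩,
      fun H => ⟨⟨MulAut.conj g⁻¹ • H.1.1, by rw [card_conj_smul]; exact H.1.2⟩, ?_⟩, ?_, ?_⟩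
    · apply Subtype.ext
      show (MulAut.conj g • H.1.1).map (QuotientGroup.mk' M) = K.1
      rw [map_conj_smul, ← hg]
      congr 1
      exact congrArg Subtype.val H.2
    · apply Subtype.ext
      show (MulAut.conj g⁻¹ • H.1.1).map (QuotientGroup.mk' M) = K0.1
      rw [map_conj_smul]
      have : H.1.1.map (QuotientGroup.mk' M) = K.1 := congrArg Subtype.val H.2
      rw [this, ← hg, map_inv, map_inv, inv_smul_smul]
    · intro H
      apply Subtype.ext
      apply Subtype.ext
      show MulAut.conj g⁻¹ • MulAut.conj g • H.1.1 = H.1.1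
      rw [map_inv, inv_smul_smul]
    · intro H
      apply Subtype.ext
      apply Subtype.ext
      show MulAut.conj g • MulAut.conj g⁻¹ • H.1.1 = H.1.1
      rw [map_inv, smul_inv_smul]
  -- the fibre over `K0`
  have hfib0 : Nat.card {H : {H : Subgroup G // Nat.card H = m} // Φ H = K0} =
      hcount ↥(H0 ⊔ M) m := by
    rw [← card_le_eq_hcount]
    apply Nat.card_congr
    have key : ∀ H : Subgroup G, Nat.card H = m →
        (H.map (QuotientGroup.mk' M) = H0.map (QuotientGroup.mk' M) ↔ H ≤ H0 ⊔ M) := by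
      intro H hH
      constructor
      · intro h
        have h2 : H ≤ (H.map (QuotientGroup.mk' M)).comap (QuotientGroup.mk' M) :=
          Subgroup.le_comap_map _ _
        rw [h, comap_map_eq, QuotientGroup.ker_mk'] at h2
        exact h2
      · intro h
        have h2 : H.map (QuotientGroup.mk' M) ≤ (H0 ⊔ M).map (QuotientGroup.mk' M) :=
          Subgroup.map_mono h
        have h3 : (H0 ⊔ M).map (QuotientGroup.mk' M) = H0.map (QuotientGroup.mk' M) := by
          rw [Subgroup.map_sup]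
          rw [QuotientGroup.map_mk'_self, sup_bot_eq]
        rw [h3] at h2
        apply Subgroup.eq_of_le_of_card_ge h2
        rw [hcardmap H hH, hcardmap H0 hH0]
    refine ⟨fun H => ⟨H.1.1, H.1.2, (key H.1.1 H.1.2).mp (congrArg Subtype.val H.2)⟩,
      fun H => ⟨⟨H.1, H.2.1⟩, Subtype.ext ((key H.1 H.2.1).mpr H.2.2)⟩, ?_, ?_⟩
    · intro H; rfl
    · intro H; rfl
  rw [h1, Finset.sum_congr rfl (fun K _ => hfib K), Finset.sum_const, Finset.card_univ,
    smul_eq_mul, hfib0]
  congr 1
  unfold hcount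
  rw [Nat.card_eq_fintype_card]

/-- normal subgroups of order dividing `m` lie in every subgroup of order `m` -/
theorem le_of_card_dvd [Finite G] (m n : ℕ) (hG : Nat.card G = m * n) (hmn : m.Coprime n)
    (M : Subgroup G) [M.Normal] (hMm : Nat.card M ∣ m) (H : Subgroup G) (hH : Nat.card H = m) :
    M ≤ H := by
  have h1 : Nat.card (H ⊔ M : Subgroup G) ∣ Nat.card H * Nat.card M :=
    Cfsg.Agent.Lib.Helper1_Cores.card_sup_dvd H M
  have h2 : (Nat.card H * Nat.card M).Coprime n := by
    rw [hH]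
    exact Nat.Coprime.mul_left hmn (Nat.Coprime.coprime_dvd_left hMm hmn)
  have h3 : (Nat.card (H ⊔ M : Subgroup G)).Coprime n := Nat.Coprime.coprime_dvd_left h1 h2
  have h4 : Nat.card (H ⊔ M : Subgroup G) ∣ m * n := hG ▸ Subgroup.card_subgroup_dvd_card _
  have h5 : Nat.card (H ⊔ M : Subgroup G) ∣ m := Nat.Coprime.dvd_of_dvd_mul_right h3 h4
  have hmpos : 0 < m := by
    rcases Nat.eq_zero_or_pos m with h | h
    · rw [h, zero_mul] at hG
      exact absurd hG Nat.card_pos.ne'
    · exact h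
  have h6 : H = H ⊔ M := by
    apply Subgroup.eq_of_le_of_card_ge le_sup_left
    rw [hH]
    exact Nat.le_of_dvd hmpos h5
  rw [h6]
  exact le_sup_right

theorem hcount_quot [Finite G] (m n : ℕ) (hG : Nat.card G = m * n) (hmn : m.Coprime n)
    (M : Subgroup G) [M.Normal] (hMm : Nat.card M ∣ m) :
    hcount G m = hcount (G ⧸ M) (m / Nat.card M) := by
  unfold hcount
  apply Nat.card_congr
  have hMpos : 0 < Nat.card M := Nat.card_pos
  refine ⟨fun H => ⟨H.1.map (QuotientGroup.mk' M), ?_⟩,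
    fun K => ⟨K.1.comap (QuotientGroup.mk' M), ?_⟩, ?_, ?_⟩
  · have hle := le_of_card_dvd m n hG hmn M hMm H.1 H.2
    have h1 := card_map_mk'_of_le M H.1 hle
    rw [H.2] at h1
    exact (Nat.div_eq_of_eq_mul_left hMpos h1.symm).symm
  · rw [card_comap_mk', K.2, Nat.div_mul_cancel hMm]
  · intro H
    apply Subtype.ext
    show (H.1.map (QuotientGroup.mk' M)).comap (QuotientGroup.mk' M) = H.1
    rw [comap_map_eq, QuotientGroup.ker_mk']
    exact sup_eq_left.mpr (le_of_card_dvd m n hG hmn M hMm H.1 H.2)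
  · intro K
    apply Subtype.ext
    exact Subgroup.map_comap_eq_self_of_surjective (QuotientGroup.mk'_surjective M) K.1

end product

section minimal

variable {L : Type u} [Group L]

theorem exists_prime_modEq [Finite L] (M1 H0 : Subgroup L) [hM1n : M1.Normal]
    [hH0sol : Group.IsSolvable H0] (hM1 : M1 ≠ ⊥)
    (hfix : ∀ v ∈ M1, (∀ h ∈ H0, h * v * h⁻¹ = v) → v = 1)
    (hmin : ∀ K : Subgroup L, K ≤ M1 → (∀ h ∈ H0, ∀ k ∈ K, h * k * h⁻¹ ∈ K) → K = ⊥ ∨ K = M1) :
    ∃ r : ℕ, r.Prime ∧ r ∣ Nat.card H0 ∧ Nat.card M1 ≡ 1 [MOD r] := by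
  classical
  let φ : H0 →* MulAut M1 := (MulAut.conjNormal (H := M1)).comp H0.subtype
  have hφ : ∀ (h : H0) (v : M1), ((φ h v : M1) : L) = h * v * (h : L)⁻¹ := fun h v =>
    MulAut.conjNormal_apply (h : L) v
  -- the image is nontrivial
  have hnt : Nontrivial φ.range := by
    by_contra hcon
    rw [not_nontrivial_iff_subsingleton] at hcon
    apply hM1
    rw [eq_bot_iff]
    intro v hv
    rw [Subgroup.mem_bot]
    apply hfix v hv
    intro h hh
    have h1 : (⟨φ ⟨h, hh⟩, ⟨_, rfl⟩⟩ : φ.range) = 1 := Subsingleton.elim _ _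
    have h2 : φ ⟨h, hh⟩ = 1 := congrArg Subtype.val h1
    have h3 := hφ ⟨h, hh⟩ ⟨v, hv⟩
    rw [h2] at h3
    exact h3.symm
  have hsol : Group.IsSolvable φ.range := Group.isSolvable_of_surjective φ.rangeRestrict_surjective
  obtain ⟨R', r, hR'n, hR'ne, -, hr, hR'p⟩ := exists_normal_abelian_pSubgroup (Q := φ.range) hsol
  have : Fact r.Prime := ⟨hr⟩
  set R : Subgroup (MulAut M1) := R'.map φ.range.subtype with hR
  have hRp : IsPGroup r R := hR'p.map _
  have hRne : R ≠ ⊥ := by
    intro h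
    apply hR'ne
    rw [hR, Subgroup.map_eq_bot_iff_of_injective _ (subtype_injective _)] at h
    exact h
  have hRnorm : ∀ h : H0, ∀ ρ ∈ R, φ h * ρ * (φ h)⁻¹ ∈ R := by
    rintro h _ ⟨ρ', hρ', rfl⟩
    exact ⟨_, hR'n.conj_mem ρ' hρ' ⟨φ h, ⟨h, rfl⟩⟩, rfl⟩
  -- the fixed points of `R`
  let K : Subgroup L :=
    { carrier := {x | ∃ hx : x ∈ M1, ∀ ρ ∈ R, ρ ⟨x, hx⟩ = ⟨x, hx⟩}
      one_mem' := ⟨M1.one_mem, fun ρ _ => map_one ρ⟩
      mul_mem' := by
        rintro a b ⟨ha, ha'⟩ ⟨hb, hb'⟩
        refine ⟨M1.mul_mem ha hb, fun ρ hρ => ?_⟩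
        have : (⟨a * b, M1.mul_mem ha hb⟩ : M1) = ⟨a, ha⟩ * ⟨b, hb⟩ := rfl
        rw [this, map_mul, ha' ρ hρ, hb' ρ hρ]
      inv_mem' := by
        rintro a ⟨ha, ha'⟩
        refine ⟨M1.inv_mem ha, fun ρ hρ => ?_⟩
        have : (⟨a⁻¹, M1.inv_mem ha⟩ : M1) = (⟨a, ha⟩ : M1)⁻¹ := rfl
        rw [this, map_inv, ha' ρ hρ] }
  have hKle : K ≤ M1 := fun x hx => hx.1
  have hKinv : ∀ h ∈ H0, ∀ k ∈ K, h * k * h⁻¹ ∈ K := by
    rintro h hh k ⟨hk, hk'⟩
    have hmem : h * k * h⁻¹ ∈ M1 := hM1n.conj_mem k hk h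
    refine ⟨hmem, fun ρ hρ => ?_⟩
    have e1 : (⟨h * k * h⁻¹, hmem⟩ : M1) = φ ⟨h, hh⟩ ⟨k, hk⟩ := Subtype.ext (hφ ⟨h, hh⟩ ⟨k, hk⟩).symm
    have h1 : φ ⟨h, hh⟩⁻¹ * ρ * (φ ⟨h, hh⟩⁻¹)⁻¹ ∈ R := hRnorm _ ρ hρ
    have h2 := hk' _ h1
    rw [e1]
    have e2 : ρ (φ ⟨h, hh⟩ ⟨k, hk⟩) =
        φ ⟨h, hh⟩ ((φ ⟨h, hh⟩⁻¹ * ρ * (φ ⟨h, hh⟩⁻¹)⁻¹) ⟨k, hk⟩) := by
      rw [map_inv, inv_inv]
      simp only [MulAut.mul_apply, MulAut.apply_inv_self]
    rw [e2, h2]
  rcases hmin K hKle hKinv with hK | hK
  · refine ⟨r, hr, ?_, ?_⟩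
    · -- `r` divides the order of `H0`
      obtain ⟨k, hk⟩ := hRp.exists_card_eq
      have hk0 : k ≠ 0 := by
        rintro rfl
        rw [pow_zero] at hk
        exact hRne (Subgroup.card_eq_one.mp hk)
      have h1 : r ∣ Nat.card R := by rw [hk]; exact dvd_pow_self r hk0
      have h2 : Nat.card R = Nat.card R' := by
        rw [hR, card_map_of_injective (subtype_injective _)]
      have h3 : Nat.card R' ∣ Nat.card φ.range := Subgroup.card_subgroup_dvd_card R'
      have h4 : Nat.card φ.range ∣ Nat.card H0 := Subgroup.card_range_dvd φ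
      exact h1.trans (h2 ▸ h3.trans h4)
    · have h1 := hRp.card_modEq_card_fixedPoints M1
      have h2 : Nat.card (MulAction.fixedPoints R M1) = 1 := by
        rw [Nat.card_eq_one_iff_unique]
        refine ⟨⟨?_⟩, ⟨⟨1, ?_⟩⟩⟩
        · rintro ⟨a, ha⟩ ⟨b, hb⟩
          apply Subtype.ext
          have hK' : ∀ v : M1, v ∈ MulAction.fixedPoints R M1 → v = 1 := by
            intro v hv
            have : (v : L) ∈ K := by
              refine ⟨v.2, fun ρ hρ => ?_⟩
              exact hv ⟨ρ, hρ⟩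
            rw [hK, Subgroup.mem_bot] at this
            exact Subtype.ext this
          exact (hK' a ha).trans (hK' b hb).symm
        · intro ρ
          exact smul_one _
      rw [h2] at h1
      exact h1
  · exfalso
    apply hRne
    rw [eq_bot_iff]
    intro ρ hρ
    rw [Subgroup.mem_bot]
    ext v
    have hv : (v : L) ∈ K := by rw [hK]; exact v.2
    obtain ⟨hx, hx'⟩ := hv
    have := hx' ρ hρ
    simpa using congrArg Subtype.val this

theorem card_sup_of_coprime [Finite L] (K M : Subgroup L) [M.Normal]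
    (h : (Nat.card K).Coprime (Nat.card M)) :
    Nat.card (K ⊔ M : Subgroup L) = Nat.card K * Nat.card M := by
  have h1 := card_map_mk'_of_le M (K ⊔ M) le_sup_right
  rw [Subgroup.map_sup, QuotientGroup.map_mk'_self, sup_bot_eq,
    card_map_mk'_of_coprime M K h] at h1
  exact h1.symm

theorem lemmaB [Finite L] [Group.IsSolvable L] (q : ℕ) [Fact q.Prime] (m : ℕ) (M1 H0 : Subgroup L)
    [hM1n : M1.Normal] (hMc : ∀ a ∈ M1, ∀ b ∈ M1, a * b = b * a) (hMq : IsPGroup q M1)
    (hM1 : M1 ≠ ⊥) (hH0 : Nat.card H0 = m) (hcop : m.Coprime q) (htop : H0 ⊔ M1 = ⊤)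
    (hmin : ∀ K : Subgroup L, K ≤ M1 → (∀ h ∈ H0, ∀ k ∈ K, h * k * h⁻¹ ∈ K) → K = ⊥ ∨ K = M1) :
    hcount L m = 1 ∨
      (hcount L m = Nat.card M1 ∧ ∃ r : ℕ, r.Prime ∧ r ∣ m ∧ Nat.card M1 ≡ 1 [MOD r]) := by
  classical
  have hcopM : m.Coprime (Nat.card M1) := by
    obtain ⟨k, hk⟩ := hMq.exists_card_eq
    rw [hk]
    exact Nat.Coprime.pow_right k hcop
  have : IsMulCommutative M1 := ⟨⟨fun a b => Subtype.ext (hMc a a.2 b b.2)⟩⟩
  have hcardL : Nat.card L = m * Nat.card M1 := by
    have h1 := card_sup_of_coprime H0 M1 (by rw [hH0]; exact hcopM)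
    rw [htop, Subgroup.card_top, hH0] at h1
    exact h1
  have hconj : ∀ K : Subgroup L, Nat.card K = m → ∃ a ∈ M1, MulAut.conj a • H0 = K := by
    intro K hK
    have h1 := card_sup_of_coprime K M1 (by rw [hK]; exact hcopM)
    rw [hK, ← hcardL] at h1
    have h2 : K ⊔ M1 = ⊤ := Subgroup.eq_top_of_card_eq _ h1
    exact conj_of_sup_eq M1 H0 K (hH0.trans hK.symm) (by rw [hK]; exact hcopM)
      (htop.trans h2.symm)
  set C0 : Subgroup L := M1 ⊓ normalizer (H0 : Set L) with hC0
  have hC0inv : ∀ h ∈ H0, ∀ k ∈ C0, h * k * h⁻¹ ∈ C0 := by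
    rintro h hh k ⟨hk1, hk2⟩
    refine ⟨hM1n.conj_mem k hk1 h, ?_⟩
    have hn : h ∈ normalizer (H0 : Set L) := le_normalizer hh
    exact Subgroup.mul_mem _ (Subgroup.mul_mem _ hn hk2) (Subgroup.inv_mem _ hn)
  rcases hmin C0 inf_le_left hC0inv with h0 | h0
  · right
    have hinj : ∀ a ∈ M1, ∀ b ∈ M1, MulAut.conj a • H0 = MulAut.conj b • H0 → a = b := by
      intro a ha b hb hab
      have h1 : MulAut.conj (a⁻¹ * b) • H0 = H0 := by
        rw [map_mul, mul_smul, ← hab, map_inv, inv_smul_smul]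
      have h2 : a⁻¹ * b ∈ C0 :=
        ⟨M1.mul_mem (M1.inv_mem ha) hb,
          (Cfsg.Agent.Lib.Helper1_Glauberman.conj_smul_eq_self_iff _ _).mp h1⟩
      rw [h0, Subgroup.mem_bot] at h2
      exact (inv_mul_eq_one.mp h2)
    have hcount_eq : hcount L m = Nat.card M1 := by
      unfold hcount
      symm
      apply Nat.card_congr
      refine Equiv.ofBijective
        (fun a : M1 => (⟨MulAut.conj (a : L) • H0, by rw [card_conj_smul]; exact hH0⟩ :
          {H : Subgroup L // Nat.card H = m})) ⟨?_, ?_⟩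
      · intro a b hab
        apply Subtype.ext
        exact hinj a a.2 b b.2 (congrArg Subtype.val hab)
      · rintro ⟨K, hK⟩
        obtain ⟨a, ha, hak⟩ := hconj K hK
        exact ⟨⟨a, ha⟩, Subtype.ext hak⟩
    refine ⟨hcount_eq, ?_⟩
    have hfix : ∀ v ∈ M1, (∀ h ∈ H0, h * v * h⁻¹ = v) → v = 1 := by
      intro v hv hvfix
      have h1 : v ∈ C0 := by
        refine ⟨hv, ?_⟩
        show v ∈ normalizer (H0 : Set L)
        rw [mem_normalizer_iff]
        intro h
        constructor
        · intro hh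
          have e := hvfix h hh
          have : v * h * v⁻¹ = h := by
            have e2 : h * v = v * h := by
              calc h * v = h * v * h⁻¹ * h := by group
                _ = v * h := by rw [e]
            calc v * h * v⁻¹ = h * v * v⁻¹ := by rw [e2]
              _ = h := by group
          rw [this]; exact hh
        · intro hh
          have e := hvfix _ hh
          have e2 : v * h * v⁻¹ * v = v * (v * h * v⁻¹) := by
            calc v * h * v⁻¹ * v = (v * h * v⁻¹) * v * (v * h * v⁻¹)⁻¹ * (v * h * v⁻¹) := by group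
              _ = v * (v * h * v⁻¹) := by rw [e]
          have e3 : h = v * h * v⁻¹ := by
            have : v * h = v * (v * h * v⁻¹) := by
              calc v * h = v * h * v⁻¹ * v := by group
                _ = v * (v * h * v⁻¹) := e2
            exact mul_left_cancel this
          rw [e3]; exact hh
      rw [h0, Subgroup.mem_bot] at h1
      exact h1
    obtain ⟨r, hr, hrd, hrm⟩ := exists_prime_modEq M1 H0 hM1 hfix hmin
    exact ⟨r, hr, hH0 ▸ hrd, hrm⟩
  · left
    have hle : M1 ≤ normalizer (H0 : Set L) := by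
      have : C0 ≤ normalizer (H0 : Set L) := inf_le_right
      rwa [h0] at this
    unfold hcount
    rw [Nat.card_eq_one_iff_unique]
    refine ⟨⟨?_⟩, ⟨⟨H0, hH0⟩⟩⟩
    have huniq : ∀ K : Subgroup L, Nat.card K = m → K = H0 := by
      intro K hK
      obtain ⟨a, ha, hak⟩ := hconj K hK
      rw [← hak]
      exact (Cfsg.Agent.Lib.Helper1_Glauberman.conj_smul_eq_self_iff _ _).mpr (hle ha)
    rintro ⟨K1, hK1⟩ ⟨K2, hK2⟩
    apply Subtype.ext
    exact (huniq K1 hK1).trans (huniq K2 hK2).symm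

end minimal

section lemmaA

theorem exists_minimal_normal_le {L : Type u} [Group L] [Finite L] (M : Subgroup L) [hMn : M.Normal]
    (hM : M ≠ ⊥) :
    ∃ M1 : Subgroup L, M1.Normal ∧ M1 ≤ M ∧ M1 ≠ ⊥ ∧
      ∀ K : Subgroup L, K.Normal → K ≤ M1 → K = ⊥ ∨ K = M1 := by
  have hwf : WellFounded ((· < ·) : Subgroup L → Subgroup L → Prop) := wellFounded_lt
  obtain ⟨M1, ⟨h1, h2, h3⟩, hmin⟩ := hwf.has_min {K : Subgroup L | K.Normal ∧ K ≤ M ∧ K ≠ ⊥}
    ⟨M, hMn, le_rfl, hM⟩
  refine ⟨M1, h1, h2, h3, ?_⟩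
  intro K hKn hK
  by_cases hKb : K = ⊥
  · left; exact hKb
  · right
    by_contra hne
    exact hmin K ⟨hKn, hK.trans h2, hKb⟩ (lt_of_le_of_ne hK hne)

theorem lemmaA (q : ℕ) [Fact q.Prime] : ∀ (N : ℕ) (L : Type u) [Group L] [Finite L]
    [Group.IsSolvable L] (M : Subgroup L) [M.Normal], (∀ a ∈ M, ∀ b ∈ M, a * b = b * a) →
    IsPGroup q M → ∀ m : ℕ, Nat.card L = m * Nat.card M → m.Coprime q → Nat.card M = N →
    ∃ l : List ℕ, hcount L m = l.prod ∧
      ∀ t ∈ l, (∃ e : ℕ, t = q ^ e) ∧ t ∣ Nat.card M ∧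
        ∃ r : ℕ, r.Prime ∧ r ∣ m ∧ t ≡ 1 [MOD r] := by
  intro N
  induction N using Nat.strong_induction_on with
  | _ N ih =>
  intro L _ _ _ M hMn hMc hMq m hL hcop hN
  have hcopM : m.Coprime (Nat.card M) := by
    obtain ⟨k, hk⟩ := hMq.exists_card_eq
    rw [hk]
    exact Nat.Coprime.pow_right k hcop
  by_cases hM : M = ⊥
  · refine ⟨[], ?_, by simp⟩
    rw [List.prod_nil]
    have hcard : Nat.card L = m := by
      rw [hL, hM, Subgroup.card_bot, mul_one]
    unfold hcount
    rw [Nat.card_eq_one_iff_unique]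
    refine ⟨⟨?_⟩, ⟨⟨⊤, by rw [Subgroup.card_top, hcard]⟩⟩⟩
    rintro ⟨K1, hK1⟩ ⟨K2, hK2⟩
    apply Subtype.ext
    exact (Subgroup.eq_top_of_card_eq K1 (hK1.trans hcard.symm)).trans
      (Subgroup.eq_top_of_card_eq K2 (hK2.trans hcard.symm)).symm
  · obtain ⟨M1, hM1n, hM1le, hM1ne, hM1min⟩ := exists_minimal_normal_le M hM
    obtain ⟨H0, hH0⟩ := hall_exists m (Nat.card M) hL hcopM
    have hcopM1 : m.Coprime (Nat.card M1) :=
      Nat.Coprime.coprime_dvd_right (Subgroup.card_dvd_of_le hM1le) hcopM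
    have hprod := hcount_mul m (Nat.card M) hL hcopM M1 hcopM1 H0 hH0
    -- the whole group is `H0 ⊔ M`
    have htopL : H0 ⊔ M = ⊤ := by
      apply Subgroup.eq_top_of_card_eq
      rw [card_sup_of_coprime H0 M (by rw [hH0]; exact hcopM), hH0, hL]
    -- the quotient
    have hM1pos : 0 < Nat.card M1 := Nat.card_pos
    have hMbar : Nat.card (M.map (QuotientGroup.mk' M1)) * Nat.card M1 = Nat.card M :=
      card_map_mk'_of_le M1 M hM1le
    have hLbar : Nat.card (L ⧸ M1) = m * Nat.card (M.map (QuotientGroup.mk' M1)) := by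
      have h1 := card_quotient_mul_card M1
      rw [hL, ← hMbar, ← mul_assoc] at h1
      exact Nat.eq_of_mul_eq_mul_right hM1pos h1
    have hlt : Nat.card (M.map (QuotientGroup.mk' M1)) < N := by
      rw [← hN, ← hMbar]
      have h1 : 1 < Nat.card M1 := by
        rcases Nat.lt_or_ge 1 (Nat.card M1) with h | h
        · exact h
        · exfalso
          apply hM1ne
          exact Subgroup.card_eq_one.mp (le_antisymm h hM1pos)
      have h2 : 0 < Nat.card (M.map (QuotientGroup.mk' M1)) := Nat.card_pos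
      nlinarith
    have hMbarn : (M.map (QuotientGroup.mk' M1)).Normal :=
      hMn.map _ (QuotientGroup.mk'_surjective M1)
    obtain ⟨l1, hl1, hl1'⟩ := ih _ hlt (L ⧸ M1) (M.map (QuotientGroup.mk' M1))
      (by
        rintro _ ⟨a, ha, rfl⟩ _ ⟨b, hb, rfl⟩
        rw [← map_mul, ← map_mul, hMc a ha b hb])
      (hMq.map _) m hLbar hcop rfl
    have hl1M : ∀ t ∈ l1, t ∣ Nat.card M := fun t ht =>
      (hl1' t ht).2.1.trans ⟨Nat.card M1, hMbar.symm⟩
    -- the minimal piece
    have hM1sub : (M1.subgroupOf (H0 ⊔ M1)).Normal := hM1n.subgroupOf _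
    have hcardM1 : Nat.card (M1.subgroupOf (H0 ⊔ M1)) = Nat.card M1 :=
      card_subgroupOf le_sup_right
    have hB := lemmaB (L := ↥(H0 ⊔ M1)) q m (M1.subgroupOf (H0 ⊔ M1)) (H0.subgroupOf (H0 ⊔ M1))
      (by
        intro a ha b hb
        apply Subtype.ext
        exact hMc _ (hM1le ha) _ (hM1le hb))
      ((hMq.to_le hM1le).comap_subtype)
      (by
        rw [Ne, Subgroup.subgroupOf_eq_bot, disjoint_iff, inf_eq_left.mpr le_sup_right]
        exact hM1ne)
      (by rw [card_subgroupOf le_sup_left, hH0]) hcop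
      (codisjoint_iff.mp (codisjoint_subgroupOf_sup H0 M1))
      (by
        intro K' hK'le hK'inv
        -- push forward to `L`
        have hKle : K'.map (H0 ⊔ M1).subtype ≤ M1 := by
          rintro _ ⟨x, hx, rfl⟩
          exact hK'le hx
        have hKn : (K'.map (H0 ⊔ M1).subtype).Normal := by
          have hnorm : normalizer ((K'.map (H0 ⊔ M1).subtype : Subgroup L) : Set L) = ⊤ := by
            rw [eq_top_iff, ← htopL]
            apply sup_le
            · intro h hh
              rw [mem_normalizer_iff]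
              intro x
              constructor
              · rintro ⟨k, hk, rfl⟩
                exact ⟨_, hK'inv ⟨h, le_sup_left (a := H0) (b := M1) hh⟩ hh k hk, rfl⟩
              · intro hx
                have hh' : h⁻¹ ∈ H0 := H0.inv_mem hh
                obtain ⟨k, hk, hkx⟩ := hx
                have := hK'inv ⟨h⁻¹, le_sup_left (a := H0) (b := M1) hh'⟩ hh' k hk
                refine ⟨_, this, ?_⟩
                have hkx' : (k : L) = h * x * h⁻¹ := hkx
                show h⁻¹ * (k : L) * (h⁻¹)⁻¹ = x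
                rw [hkx']; group
            · intro a ha
              rw [mem_normalizer_iff]
              intro x
              have hcomm : ∀ y ∈ K'.map (H0 ⊔ M1).subtype, a * y * a⁻¹ = y := by
                intro y hy
                have hyM : y ∈ M := hM1le (hKle hy)
                rw [hMc a ha y hyM]; group
              constructor
              · intro hx
                rw [hcomm x hx]; exact hx
              · intro hx
                have h2 := hcomm _ hx
                have h3 : a * x * a⁻¹ = x := by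
                  have : a * (a * x * a⁻¹) * a⁻¹ = a * x * a⁻¹ := h2
                  have e : a * x * a⁻¹ = a⁻¹ * (a * (a * x * a⁻¹) * a⁻¹) * a := by group
                  rw [this] at e
                  rw [e]; group
                rw [← h3]; exact hx
          exact normalizer_eq_top_iff.mp hnorm
        rcases hM1min _ hKn hKle with h | h
        · left
          rwa [Subgroup.map_eq_bot_iff_of_injective _ (subtype_injective _)] at h
        · right
          calc K' = (K'.map (H0 ⊔ M1).subtype).comap (H0 ⊔ M1).subtype :=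
                (comap_map_eq_self_of_injective (subtype_injective _) K').symm
            _ = M1.comap (H0 ⊔ M1).subtype := by rw [h])
    rcases hB with hB | ⟨hB, r, hr, hrm, hrc⟩
    · refine ⟨l1, ?_, ?_⟩
      · rw [hprod, hl1, hB, mul_one]
      · intro t ht
        exact ⟨(hl1' t ht).1, hl1M t ht, (hl1' t ht).2.2⟩
    · refine ⟨Nat.card M1 :: l1, ?_, ?_⟩
      · rw [hprod, hl1, hB, hcardM1, List.prod_cons, mul_comm]
      · intro t ht
        rw [List.mem_cons] at ht
        rcases ht with rfl | ht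
        · refine ⟨(hMq.to_le hM1le).exists_card_eq, Subgroup.card_dvd_of_le hM1le, r, hr, hrm, ?_⟩
          rw [← hcardM1]; exact hrc
        · exact ⟨(hl1' t ht).1, hl1M t ht, (hl1' t ht).2.2⟩

end lemmaA

section main

/-- the three conditions on a factor -/
def Good (G : Type*) [Group G] (m t : ℕ) : Prop :=
  (∃ q e : ℕ, q.Prime ∧ t = q ^ e) ∧
  (∃ K L : Subgroup G, K.Normal ∧ L.Normal ∧ K < L ∧
    (∀ M : Subgroup G, M.Normal → K ≤ M → M ≤ L → M = K ∨ M = L) ∧ t ∣ K.relIndex L) ∧
  (∃ q : ℕ, q.Prime ∧ q ∣ m ∧ t ≡ 1 [MOD q])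

theorem good_of_quotient {G : Type u} [Group G] (M : Subgroup G) [M.Normal] (m m' t : ℕ)
    (hm : m' ∣ m) (h : Good (G ⧸ M) m' t) : Good G m t := by
  obtain ⟨h1, ⟨K, L, hKn, hLn, hKL, hchief, hdvd⟩, ⟨q, hq, hqm, hqt⟩⟩ := h
  refine ⟨h1, ?_, ⟨q, hq, hqm.trans hm, hqt⟩⟩
  have hsurj := QuotientGroup.mk'_surjective M
  refine ⟨K.comap (QuotientGroup.mk' M), L.comap (QuotientGroup.mk' M), hKn.comap _, hLn.comap _,
    (comap_lt_comap_of_surjective hsurj).mpr hKL, ?_, ?_⟩
  · intro N hNn hKN hNL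
    have hMN : M ≤ N := by
      refine le_trans ?_ hKN
      conv_lhs => rw [← QuotientGroup.ker_mk' M]
      exact ker_le_comap _ _
    have hN : (N.map (QuotientGroup.mk' M)).comap (QuotientGroup.mk' M) = N := by
      rw [comap_map_eq, QuotientGroup.ker_mk']
      exact sup_eq_left.mpr hMN
    have h2 : K ≤ N.map (QuotientGroup.mk' M) := by
      rw [← map_comap_eq_self_of_surjective hsurj K]
      exact map_mono hKN
    have h3 : N.map (QuotientGroup.mk' M) ≤ L := by
      rw [← map_comap_eq_self_of_surjective hsurj L]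
      exact map_mono hNL
    rcases hchief _ (hNn.map _ hsurj) h2 h3 with h | h
    · left; rw [← hN, h]
    · right; rw [← hN, h]
  · rw [relIndex_comap, map_comap_eq_self_of_surjective hsurj]
    exact hdvd

theorem main : ∀ (N : ℕ) (G : Type u) [Group G] [Finite G] [Group.IsSolvable G], Nat.card G = N →
    ∀ m n : ℕ, Nat.card G = m * n → m.Coprime n →
    ∃ l : List ℕ, hcount G m = l.prod ∧ ∀ t ∈ l, Good G m t := by
  intro N
  induction N using Nat.strong_induction_on with
  | _ N ih =>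
  intro G _ _ hsol hN m n hG hmn
  by_cases htriv : Subsingleton G
  · refine ⟨[], ?_, by simp⟩
    rw [List.prod_nil]
    have hcard : Nat.card G = 1 := Nat.card_eq_one_iff_unique.mpr ⟨htriv, ⟨1⟩⟩
    have hm1 : m = 1 := by
      rw [hcard] at hG
      exact Nat.eq_one_of_mul_eq_one_right hG.symm
    unfold hcount
    rw [Nat.card_eq_one_iff_unique]
    refine ⟨⟨?_⟩, ⟨⟨⊥, by rw [Subgroup.card_bot, hm1]⟩⟩⟩
    rintro ⟨K1, hK1⟩ ⟨K2, hK2⟩
    apply Subtype.ext
    ext x
    have : x = 1 := Subsingleton.elim _ _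
    rw [this]
    exact ⟨fun _ => K2.one_mem, fun _ => K1.one_mem⟩
  · rw [not_subsingleton_iff_nontrivial] at htriv
    obtain ⟨M0, q, hM0n, hM0ne, hM0c, hq, hM0q⟩ := exists_normal_abelian_pSubgroup (Q := G) hsol
    have : Fact q.Prime := ⟨hq⟩
    obtain ⟨M, hMn, hMle, hMne, hMmin⟩ := exists_minimal_normal_le M0 hM0ne
    have hMc : ∀ a ∈ M, ∀ b ∈ M, a * b = b * a := by
      intro a ha b hb
      have := mul_comm' (⟨a, hMle ha⟩ : M0) ⟨b, hMle hb⟩
      exact congrArg Subtype.val this
    have hMq : IsPGroup q M := hM0q.to_le hMle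
    obtain ⟨k, hk⟩ := hMq.exists_card_eq
    have hk0 : k ≠ 0 := by
      rintro rfl
      rw [pow_zero] at hk
      exact hMne (Subgroup.card_eq_one.mp hk)
    have hMpos : 0 < Nat.card M := Nat.card_pos
    have hlt : Nat.card (G ⧸ M) < N := by
      have h1 := card_quotient_mul_card M
      have h2 : 1 < Nat.card M := by
        rw [hk]
        exact Nat.one_lt_pow hk0 hq.one_lt
      have h3 : 0 < Nat.card (G ⧸ M) := Nat.card_pos
      rw [← hN, ← h1]
      nlinarith
    have hMdvd : Nat.card M ∣ m * n := hG ▸ Subgroup.card_subgroup_dvd_card M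
    by_cases hqm : q ∣ m
    · -- Case A
      have hqn : Nat.Coprime (Nat.card M) n := by
        rw [hk]
        apply Nat.Coprime.pow_left
        rw [Nat.Prime.coprime_iff_not_dvd hq]
        intro hqn
        have := Nat.dvd_gcd hqm hqn
        rw [hmn] at this
        exact hq.one_lt.ne' (Nat.dvd_one.mp this)
      have hMm : Nat.card M ∣ m := Nat.Coprime.dvd_of_dvd_mul_right hqn hMdvd
      have hquot := hcount_quot m n hG hmn M hMm
      have hQcard : Nat.card (G ⧸ M) = (m / Nat.card M) * n := by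
        have h1 := card_quotient_mul_card M
        have h2 : (m / Nat.card M) * n * Nat.card M = m * n := by
          obtain ⟨c, hc⟩ := hMm
          rw [hc, Nat.mul_div_cancel_left _ hMpos]; ring
        rw [hG, ← h2] at h1
        exact Nat.eq_of_mul_eq_mul_right hMpos h1
      have hdiv : m / Nat.card M ∣ m := Nat.div_dvd_of_dvd hMm
      obtain ⟨l, hl, hl'⟩ := ih _ hlt (G ⧸ M) rfl (m / Nat.card M) n hQcard
        (Nat.Coprime.coprime_dvd_left hdiv hmn)
      refine ⟨l, hquot.trans hl, fun t ht => good_of_quotient M m _ t hdiv (hl' t ht)⟩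
    · -- Case B
      have hcop : m.Coprime q := ((Nat.Prime.coprime_iff_not_dvd hq).mpr hqm).symm
      have hcopM : m.Coprime (Nat.card M) := by
        rw [hk]; exact Nat.Coprime.pow_right k hcop
      obtain ⟨H0, hH0⟩ := hall_exists m n hG hmn
      have hprod := hcount_mul m n hG hmn M hcopM H0 hH0
      have hMn' : Nat.card M ∣ n := Nat.Coprime.dvd_of_dvd_mul_left hcopM.symm hMdvd
      obtain ⟨n', hn'⟩ := hMn'
      have hQcard : Nat.card (G ⧸ M) = m * n' := by
        have h1 := card_quotient_mul_card M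
        rw [hG, hn'] at h1
        have h2 : Nat.card (G ⧸ M) * Nat.card M = (m * n') * Nat.card M := by rw [h1]; ring
        exact Nat.eq_of_mul_eq_mul_right hMpos h2
      have hmn' : m.Coprime n' :=
        Nat.Coprime.coprime_dvd_right ⟨Nat.card M, by rw [hn']; ring⟩ hmn
      obtain ⟨l1, hl1, hl1'⟩ := ih _ hlt (G ⧸ M) rfl m n' hQcard hmn'
      -- the second factor
      have hMsub : (M.subgroupOf (H0 ⊔ M)).Normal := hMn.subgroupOf _
      have hcardM : Nat.card (M.subgroupOf (H0 ⊔ M)) = Nat.card M := card_subgroupOf le_sup_right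
      obtain ⟨l2, hl2, hl2'⟩ := lemmaA q _ ↥(H0 ⊔ M) (M.subgroupOf (H0 ⊔ M))
        (by
          intro a ha b hb
          apply Subtype.ext
          exact hMc _ ha _ hb)
        hMq.comap_subtype m
        (by rw [hcardM, card_sup_of_coprime H0 M (by rw [hH0]; exact hcopM), hH0])
        hcop rfl
      refine ⟨l1 ++ l2, ?_, ?_⟩
      · rw [hprod, hl1, hl2, List.prod_append]
      · intro t ht
        rw [List.mem_append] at ht
        rcases ht with ht | ht
        · exact good_of_quotient M m m t dvd_rfl (hl1' t ht)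
        · obtain ⟨⟨e, he⟩, hdvd, r, hr, hrm, hrt⟩ := hl2' t ht
          refine ⟨⟨q, e, hq, he⟩, ⟨⊥, M, inferInstance, hMn, bot_lt_iff_ne_bot.mpr hMne, ?_, ?_⟩,
            ⟨r, hr, hrm, hrt⟩⟩
          · intro K hKn _ hKM
            exact hMmin K hKn hKM
          · rw [relIndex_bot_left, ← hcardM]
            exact hdvd

end main

/-- Let `G` be a finite solvable group of order `mn` with `gcd(m, n) = 1`. Then the number of subgroups of order `m` is a product of natural numbers each of which is a power of a prime, divides the order of some chief factor of `G` (a quotient `L/K` of normal subgroups `K < L` of `G` with no normal subgroup of `G` strictly between them), and is congruent to `1` modulo some prime divisor of `m`. -/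
theorem result {G : Type*} [Group G] [Finite G] [Group.IsSolvable G] (m n : ℕ) (hG : Nat.card G = m * n) (hmn : Nat.Coprime m n) : ∃ (k : ℕ) (f : Fin k → ℕ), Nat.card {H : Subgroup G // Nat.card H = m} = ∏ i, f i ∧ ∀ i, (∃ q e : ℕ, q.Prime ∧ f i = q ^ e) ∧ (∃ K L : Subgroup G, K.Normal ∧ L.Normal ∧ K < L ∧ (∀ M : Subgroup G, M.Normal → K ≤ M → M ≤ L → M = K ∨ M = L) ∧ f i ∣ K.relIndex L) ∧ (∃ q : ℕ, q.Prime ∧ q ∣ m ∧ f i ≡ 1 [MOD q]) := by
  obtain ⟨l, hl, hl'⟩ := main _ G rfl m n hG hmn
  refine ⟨l.length, l.get, ?_, ?_⟩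
  · rw [← List.prod_ofFn, List.ofFn_get]
    exact hl
  · intro i
    exact hl' _ (List.get_mem l i)

end Cfsg.Agent.S4214
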