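import Cfsg.Statements.S4215
import Cfsg.Agent.Lib.Helper54_HallWielandt
import Cfsg.Agent.Lib.Helper54_Tate
import Cfsg.Agent.Lib.Helper2_PResidual
import Mathlib.GroupTheory.Abelianization.Defs

set_option autoImplicit false
open Cfsg

namespace Cfsg.Agent.S4215

/-- Let `P` be a Sylow `p`-subgroup of the finite group `G`, `Q` a subgroup of `P` weakly closed in `P` with respect to `G`, and `H` the normalizer of `Q`. Suppose that for all `u ∈ P` and `z ∈ Q` the iterated commutator `[u, z, …, z]` with `p - 1` entries `z` is trivial, where `[x, z] = x⁻¹z⁻¹xz` and `[x, z, z] = [[x, z], z]`. Then `O^p(H) = O^p(G) ∩ H`, where `O^p` denotes the subgroup generated by the elements of order prime to `p`; so the largest `p`-factor groups of `G` and of `H` are isomorphic. -/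
theorem result {G : Type*} [Group G] [Finite G] {p : ℕ} [Fact p.Prime] (P : Sylow p G) (Q : Subgroup G) (hQ : Cfsg.IsWeaklyClosed Q (P : Subgroup G)) (h : ∀ u ∈ (P : Subgroup G), ∀ z ∈ Q, (fun y : G => y⁻¹ * z⁻¹ * y * z)^[p - 1] u = 1) : Cfsg.pResidualOf p (Subgroup.normalizer (Q : Set G)) = Cfsg.pResidual p G ⊓ Subgroup.normalizer (Q : Set G) := by
  classical
  have hp : p.Prime := Fact.out
  set N : Subgroup G := Subgroup.normalizer (Q : Set G) with hN
  -- `P ≤ N`
  have hfocal := fun (u : G) (hu : u ∈ (P : Subgroup G)) (huG : u ∈ commutator G) =>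
    Cfsg.Agent.Lib.Helper54_HallWielandt.kills_focal P Q hQ h
      (Abelianization.of : N →* Abelianization N) u hu huG
  have hPN : (P : Subgroup G) ≤ N := by
    obtain ⟨hQP, hwc⟩ := hQ
    intro g hg
    apply Cfsg.Agent.Lib.Helper54_HallWielandt.mem_normalizer_of_map_conj_eq
    apply hwc
    rintro _ ⟨w, hw, rfl⟩
    simp only [MulEquiv.coe_toMonoidHom, MulAut.conj_apply]
    exact Subgroup.mul_mem _ (Subgroup.mul_mem _ hg (hQP hw)) (Subgroup.inv_mem _ hg)
  have hmaple : (Cfsg.pResidual p N).map N.subtype ≤ Cfsg.pResidual p G := by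
    rw [Subgroup.map_le_iff_le_comap]
    have h0 : Cfsg.pResidual p N = Subgroup.closure {g : N | Nat.Coprime (orderOf g) p} := rfl
    rw [h0, Subgroup.closure_le]
    intro v hv
    have hv' : (orderOf v).Coprime p := hv
    apply Cfsg.Agent.Lib.Helper2_PResidual.mem_pResidual_of_coprime
    show (orderOf (v : G)).Coprime p
    rw [Subgroup.orderOf_coe]
    exact hv'
  have hidx : ¬ p ∣ N.index := by
    intro hdvd
    exact P.not_dvd_index (hdvd.trans (Subgroup.index_dvd_of_le hPN))
  have hKn : (Cfsg.pResidual p N).Normal := Cfsg.Agent.Lib.Helper2_PResidual.pResidual_normal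
  have hhyp : N ⊓ Cfsg.pResidual p G ≤ ⁅N, N⁆ ⊔ (Cfsg.pResidual p N).map N.subtype := by
    rintro x ⟨hxN, hxK⟩
    have htop := Cfsg.Agent.Lib.Helper2_PResidual.sylow_sup_pResidual (P.subtype hPN)
    have hx : (⟨x, hxN⟩ : N) ∈ ((P.subtype hPN : Sylow p N) : Subgroup N) ⊔ Cfsg.pResidual p N := by
      rw [htop]; trivial
    obtain ⟨a, ha, b, hb, hab⟩ := Subgroup.mem_sup_of_normal_right.mp hx
    have haP : (a : G) ∈ (P : Subgroup G) := by
      have := ha
      rw [Sylow.coe_subtype] at this
      exact Subgroup.mem_subgroupOf.mp this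
    have hbK : (b : G) ∈ (Cfsg.pResidual p N).map N.subtype := ⟨b, hb, rfl⟩
    have hxab : x = (a : G) * (b : G) := by
      have := congrArg Subtype.val hab
      simpa using this.symm
    have haK : (a : G) ∈ Cfsg.pResidual p G := by
      have h1 : (a : G) = x * (b : G)⁻¹ := by rw [hxab]; group
      rw [h1]
      exact Subgroup.mul_mem _ hxK (Subgroup.inv_mem _ (hmaple hbK))
    have haG : (a : G) ∈ commutator G :=
      Cfsg.Agent.Lib.Helper2_PResidual.inf_pResidual_le_commutator (P : Subgroup G) P.2 ⟨haP, haK⟩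
    obtain ⟨haN, hkill⟩ := hfocal a haP haG
    have haC : (⟨(a : G), haN⟩ : N) ∈ commutator N := by
      rw [← Abelianization.ker_of N, MonoidHom.mem_ker]
      exact hkill
    have haNN : (a : G) ∈ ⁅N, N⁆ := by
      rw [← Subgroup.map_subtype_commutator]
      exact ⟨⟨(a : G), haN⟩, haC, rfl⟩
    rw [hxab]
    exact Subgroup.mul_mem _ (Subgroup.mem_sup_left haNN) (Subgroup.mem_sup_right hbK)
  have htate := Cfsg.Agent.Lib.Helper54_Tate.tate N hidx hhyp
  apply le_antisymm
  · unfold Cfsg.pResidualOf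
    exact le_inf hmaple (Subgroup.map_subtype_le _)
  · unfold Cfsg.pResidualOf
    rw [inf_comm]
    exact htate

end Cfsg.Agent.S4215
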