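-- Statement S4216: Grün's first theorem.
import Cfsg.Statements.S4216
-- import your own Cfsg.Agent.* helpers here

set_option autoImplicit false
set_option linter.unusedSectionVars false
set_option linter.style.haveILetI false
open Cfsg

namespace Cfsg.Agent.S4216

open Subgroup MulAction
open scoped commutatorElement

section setup

variable {G : Type*} [Group G] [Finite G] {p : ℕ} [Fact p.Prime] (P : Sylow p G)

/-- the Grün subgroup -/
def grun : Subgroup G :=
  ((P : Subgroup G) ⊓ ⁅Subgroup.normalizer ((P : Subgroup G) : Set G), Subgroup.normalizer ((P : Subgroup G) : Set G)⁆) ⊔ ⨆ z : G, (P : Subgroup G) ⊓ (⁅(P : Subgroup G), (P : Subgroup G)⁆).map (MulAut.conj z).toMonoidHom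

theorem grun_le : grun P ≤ (P : Subgroup G) :=
  sup_le inf_le_left (iSup_le fun _ => inf_le_left)

theorem grun_le_commutator : grun P ≤ commutator G := by
  refine sup_le (inf_le_right.trans ?_) (iSup_le fun z => inf_le_right.trans ?_)
  · rw [commutator_def]
    exact Subgroup.commutator_mono le_top le_top
  · rw [Subgroup.map_le_iff_le_comap]
    intro x hx
    rw [Subgroup.mem_comap]
    have h1 : x ∈ commutator G := by
      rw [commutator_def]
      exact Subgroup.commutator_mono le_top le_top hx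
    exact (inferInstance : (commutator G).Normal).conj_mem x h1 z

theorem mem_grun_of_normalizer {x : G} (hx : x ∈ (P : Subgroup G))
    (hx2 : x ∈ ⁅Subgroup.normalizer ((P : Subgroup G) : Set G), Subgroup.normalizer ((P : Subgroup G) : Set G)⁆) :
    x ∈ grun P :=
  (le_sup_left : _ ≤ grun P) ⟨hx, hx2⟩

theorem mem_grun_of_conj {x : G} (hx : x ∈ (P : Subgroup G)) (z : G)
    (hx2 : x ∈ (⁅(P : Subgroup G), (P : Subgroup G)⁆).map (MulAut.conj z).toMonoidHom) :
    x ∈ grun P := by
  refine (le_sup_right : _ ≤ grun P) ?_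
  exact (le_iSup (fun z : G => (P : Subgroup G) ⊓ (⁅(P : Subgroup G), (P : Subgroup G)⁆).map (MulAut.conj z).toMonoidHom) z) ⟨hx, hx2⟩

theorem commutator_self_le (H : Subgroup G) : ⁅H, H⁆ ≤ H := by
  rw [Subgroup.commutator_le]
  intro a ha b hb
  exact H.mul_mem (H.mul_mem (H.mul_mem ha hb) (H.inv_mem ha)) (H.inv_mem hb)

theorem commutator_le_grun : ⁅(P : Subgroup G), (P : Subgroup G)⁆ ≤ grun P := by
  intro x hx
  refine mem_grun_of_conj P (commutator_self_le _ hx) 1 ?_
  simpa using hx

/-- `D ∩ P` as a subgroup of `P` -/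
def grunP : Subgroup (P : Subgroup G) := (grun P).subgroupOf P

/-- the abelian group `P / D` -/
abbrev Tgt := Abelianization (P : Subgroup G) ⧸ (grunP P).map Abelianization.of

/-- the projection `P → P / D` -/
def phi : (P : Subgroup G) →* Tgt P := (QuotientGroup.mk' _).comp Abelianization.of

theorem coe_mem_of_mem_commutator {x : (P : Subgroup G)} (hx : x ∈ commutator (P : Subgroup G)) :
    (x : G) ∈ ⁅(P : Subgroup G), (P : Subgroup G)⁆ := by
  have h1 : (commutator (P : Subgroup G)).map (P : Subgroup G).subtype = ⁅(P : Subgroup G), (P : Subgroup G)⁆ := by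
    rw [commutator_def, Subgroup.map_commutator, ← MonoidHom.range_eq_map, Subgroup.range_subtype]
  rw [← h1]
  exact ⟨x, hx, rfl⟩

theorem phi_eq_one_iff (x : (P : Subgroup G)) : phi P x = 1 ↔ (x : G) ∈ grun P := by
  unfold phi
  rw [MonoidHom.comp_apply, QuotientGroup.mk'_apply, QuotientGroup.eq_one_iff]
  constructor
  · rintro ⟨y, hy, hyx⟩
    have h1 : y⁻¹ * x ∈ commutator (P : Subgroup G) := by
      have := QuotientGroup.eq.mp hyx
      exact this
    have h2 : ((y⁻¹ * x : (P : Subgroup G)) : G) ∈ grun P :=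
      commutator_le_grun P (coe_mem_of_mem_commutator P h1)
    have h3 : (y : G) ∈ grun P := hy
    have h4 : (x : G) = (y : G) * ((y⁻¹ * x : (P : Subgroup G)) : G) := by
      simp
    rw [h4]
    exact (grun P).mul_mem h3 h2
  · intro hx
    exact ⟨x, hx, rfl⟩

/-- `phi` extended by `1` outside `P` -/
noncomputable def val (x : G) : Tgt P := by
  classical
  exact if h : x ∈ (P : Subgroup G) then phi P ⟨x, h⟩ else 1

theorem val_of_mem {x : G} (h : x ∈ (P : Subgroup G)) : val P x = phi P ⟨x, h⟩ := by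
  unfold val
  simp [h]

theorem val_mul {x y : G} (hx : x ∈ (P : Subgroup G)) (hy : y ∈ (P : Subgroup G)) :
    val P (x * y) = val P x * val P y := by
  rw [val_of_mem P hx, val_of_mem P hy, val_of_mem P ((P : Subgroup G).mul_mem hx hy), ← map_mul]
  rfl

theorem val_eq_one_iff {x : G} (hx : x ∈ (P : Subgroup G)) : val P x = 1 ↔ x ∈ grun P := by
  rw [val_of_mem P hx, phi_eq_one_iff]

theorem val_pow {x : G} (hx : x ∈ (P : Subgroup G)) (n : ℕ) : val P (x ^ n) = val P x ^ n := by
  rw [val_of_mem P hx, val_of_mem P ((P : Subgroup G).pow_mem hx n), ← map_pow]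
  rfl

/-- `val` is invariant under conjugation inside `P` -/
theorem val_conj {x t : G} (hx : x ∈ (P : Subgroup G)) (ht : t ∈ (P : Subgroup G)) :
    val P (t⁻¹ * x * t) = val P x := by
  have ht' := (P : Subgroup G).inv_mem ht
  rw [val_mul P ((P : Subgroup G).mul_mem ht' hx) ht, val_mul P ht' hx, mul_comm (val P t⁻¹), mul_assoc,
    ← val_mul P ht' ht, inv_mul_cancel]
  rw [val_of_mem P (P : Subgroup G).one_mem]
  have : (⟨1, (P : Subgroup G).one_mem⟩ : (P : Subgroup G)) = 1 := rfl
  rw [this, map_one, mul_one]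

/-- elements of `P` congruent modulo `D` have the same value -/
theorem val_eq_of_mem_grun {x y : G} (hx : x ∈ (P : Subgroup G)) (hy : y ∈ (P : Subgroup G))
    (h : x⁻¹ * y ∈ grun P) : val P x = val P y := by
  have h1 : y = x * (x⁻¹ * y) := by group
  have h2 : x⁻¹ * y ∈ (P : Subgroup G) := (P : Subgroup G).mul_mem ((P : Subgroup G).inv_mem hx) hy
  rw [h1, val_mul P hx h2, (val_eq_one_iff P h2).mpr h, mul_one]

end setup


section transfer

variable {G : Type*} [Group G] [Finite G] {p : ℕ} [Fact p.Prime] (P : Sylow p G)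

/-- the contribution of a coset fixed by `u` -/
noncomputable def hval (u : G) (c : G ⧸ (P : Subgroup G)) : Tgt P := by
  classical
  exact if u • c = c then val P (c.out⁻¹ * u * c.out) else 1

theorem hval_of_fixed {u : G} {c : G ⧸ (P : Subgroup G)} (h : u • c = c) :
    hval P u c = val P (c.out⁻¹ * u * c.out) := by
  unfold hval; simp [h]

theorem hval_of_not_fixed {u : G} {c : G ⧸ (P : Subgroup G)} (h : u • c ≠ c) :
    hval P u c = 1 := by
  unfold hval; simp [h]

theorem transfer_eq_prod_val (u : G)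
    [Fintype (Quotient (orbitRel (zpowers u) (G ⧸ (P : Subgroup G))))] :
    MonoidHom.transfer (phi P) u =
      ∏ q : Quotient (orbitRel (zpowers u) (G ⧸ (P : Subgroup G))),
        val P (q.out.out⁻¹ * u ^ Function.minimalPeriod (u • ·) q.out * q.out.out) := by
  rw [MonoidHom.transfer_eq_prod_quotient_orbitRel_zpowers_quot]
  refine Finset.prod_congr rfl fun q _ => ?_
  rw [val_of_mem]

/-- a fixed point of `u` in the orbit of `c` under `⟨u⟩` is `c` itself and `c` is fixed -/
theorem fixed_of_rel {u : G} {c d : G ⧸ (P : Subgroup G)}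
    (h : (orbitRel (zpowers u) (G ⧸ (P : Subgroup G))) c d) (hd : u • d = d) : c = d := by
  rw [orbitRel_apply] at h
  obtain ⟨⟨z, hz⟩, rfl⟩ := h
  obtain ⟨k, rfl⟩ := Subgroup.mem_zpowers_iff.mp hz
  show (u ^ k) • d = d
  have : ∀ n : ℕ, (u ^ n) • d = d := by
    intro n
    induction n with
    | zero => simp
    | succ n ih => rw [pow_succ, mul_smul, hd, ih]
  cases k with
  | ofNat n => simpa using this n
  | negSucc n =>
    rw [zpow_negSucc, inv_smul_eq_iff, this]

theorem prod_val_eq_prod_hval (u : G) (huc : u ∈ commutator G)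
    (hIH : ∀ v ∈ (P : Subgroup G) ⊓ commutator G, orderOf v < orderOf u → v ∈ grun P)
    [Fintype (Quotient (orbitRel (zpowers u) (G ⧸ (P : Subgroup G))))]
    [Fintype (G ⧸ (P : Subgroup G))] :
    ∏ q : Quotient (orbitRel (zpowers u) (G ⧸ (P : Subgroup G))),
        val P (q.out.out⁻¹ * u ^ Function.minimalPeriod (u • ·) q.out * q.out.out) =
    ∏ c : G ⧸ (P : Subgroup G), hval P u c := by
  classical
  rw [← Finset.prod_fiberwise Finset.univ
    (fun c => (Quotient.mk'' c : Quotient (orbitRel (zpowers u) (G ⧸ (P : Subgroup G))))) (hval P u)]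
  refine Finset.prod_congr rfl fun q _ => ?_
  by_cases h1 : u • q.out = q.out
  · have hmp : Function.minimalPeriod (u • ·) q.out = 1 :=
      Function.minimalPeriod_eq_one_iff_isFixedPt.mpr h1
    rw [hmp, pow_one, Finset.prod_eq_single q.out]
    · exact (hval_of_fixed P h1).symm
    · intro c hc hne
      exfalso
      apply hne
      have hc' : (Quotient.mk'' c : Quotient (orbitRel (zpowers u) (G ⧸ (P : Subgroup G)))) = q := by
        simpa using hc
      have hrel : (orbitRel (zpowers u) (G ⧸ (P : Subgroup G))) c q.out := by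
        apply Quotient.exact
        rw [Quotient.out_eq]
        exact hc'
      exact fixed_of_rel P hrel h1
    · intro hnot
      exfalso
      apply hnot
      simp
  · rw [Finset.prod_eq_one]
    · -- the term of a long orbit is trivial by the induction hypothesis
      set n := Function.minimalPeriod (u • ·) q.out with hn
      set k := q.out.out with hk
      have hwP : k⁻¹ * u ^ n * k ∈ (P : Subgroup G) :=
        QuotientGroup.out_conj_pow_minimalPeriod_mem (P : Subgroup G) u q.out
      have hdvd : n ∣ orderOf u := by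
        rw [hn, ← MulAction.pow_smul_eq_iff_minimalPeriod_dvd, pow_orderOf_eq_one, one_smul]
      have hn1 : n ≠ 1 := by
        intro h
        exact h1 (Function.minimalPeriod_eq_one_iff_isFixedPt.mp h)
      have hpos : 0 < orderOf u := orderOf_pos u
      have hn0 : n ≠ 0 := by
        rintro h
        rw [h, zero_dvd_iff] at hdvd
        omega
      have hwc : k⁻¹ * u ^ n * k ∈ commutator G := by
        have := (inferInstance : (commutator G).Normal).conj_mem _ ((commutator G).pow_mem huc n) k⁻¹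
        simpa using this
      have hord : orderOf (k⁻¹ * u ^ n * k) = orderOf (u ^ n) := by
        have := orderOf_injective (MulAut.conj k⁻¹).toMonoidHom (MulAut.conj k⁻¹).injective (u ^ n)
        simpa [MulAut.conj_apply] using this
      have hlt : orderOf (k⁻¹ * u ^ n * k) < orderOf u := by
        rw [hord, orderOf_pow_of_dvd hn0 hdvd]
        exact Nat.div_lt_self hpos (by omega)
      exact (val_eq_one_iff P hwP).mpr (hIH _ ⟨hwP, hwc⟩ hlt)
    · intro c hc
      apply hval_of_not_fixed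
      intro hfix
      apply h1
      have hc' : (Quotient.mk'' c : Quotient (orbitRel (zpowers u) (G ⧸ (P : Subgroup G)))) = q := by
        simpa using hc
      have hrel : (orbitRel (zpowers u) (G ⧸ (P : Subgroup G))) q.out c := by
        apply Quotient.exact
        rw [Quotient.out_eq]
        exact hc'.symm
      rw [fixed_of_rel P hrel hfix]
      exact hfix

theorem zpow_smul_of_smul {u : G} {d : G ⧸ (P : Subgroup G)} (hd : u • d = d) (k : ℤ) :
    (u ^ k) • d = d := by
  have : ∀ n : ℕ, (u ^ n) • d = d := by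
    intro n
    induction n with
    | zero => simp
    | succ n ih => rw [pow_succ, mul_smul, hd, ih]
  cases k with
  | ofNat n => simpa using this n
  | negSucc n =>
    rw [zpow_negSucc, inv_smul_eq_iff, this]

/-- cosets in the normalizer contribute `val u` -/
theorem hval_of_mem_fixedPoints {u : G} (hu : u ∈ (P : Subgroup G)) {c : G ⧸ (P : Subgroup G)}
    (hc : c ∈ fixedPoints (P : Subgroup G) (G ⧸ (P : Subgroup G))) : hval P u c = val P u := by
  have hfix : u • c = c := hc ⟨u, hu⟩
  rw [hval_of_fixed P hfix]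
  have hk : c.out ∈ normalizer ((P : Subgroup G) : Set G) := by
    rw [← Sylow.mem_fixedPoints_mul_left_cosets_iff_mem_normalizer, QuotientGroup.out_eq']
    exact hc
  set k := c.out with hkdef
  have hk' : k⁻¹ ∈ normalizer ((P : Subgroup G) : Set G) := Subgroup.inv_mem _ hk
  have hw : k⁻¹ * u * k ∈ (P : Subgroup G) := by
    have := (Subgroup.mem_normalizer_iff.mp hk' u).mp hu
    simpa using this
  symm
  refine val_eq_of_mem_grun P hu hw ?_
  have hN : u ∈ normalizer ((P : Subgroup G) : Set G) := Subgroup.le_normalizer hu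
  have h1 : u⁻¹ * (k⁻¹ * u * k) = ⁅u⁻¹, k⁻¹⁆ := by
    rw [commutatorElement_def]; group
  rw [h1]
  refine mem_grun_of_normalizer P ?_ (Subgroup.commutator_mem_commutator (Subgroup.inv_mem _ hN) hk')
  rw [← h1]
  exact (P : Subgroup G).mul_mem ((P : Subgroup G).inv_mem hu) hw

/-- two `u`-fixed cosets in the same `P`-orbit contribute the same value -/
theorem hval_eq_of_orbit {u : G} (hu : u ∈ (P : Subgroup G)) {c₁ c₂ : G ⧸ (P : Subgroup G)}
    (h₁ : u • c₁ = c₁) (h₂ : u • c₂ = c₂) (h : c₂ ∈ orbit (P : Subgroup G) c₁) :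
    hval P u c₁ = hval P u c₂ := by
  rw [hval_of_fixed P h₁, hval_of_fixed P h₂]
  obtain ⟨⟨t, ht⟩, htc⟩ := h
  set k₁ := c₁.out with hk₁
  set k₂ := c₂.out with hk₂
  -- `k₂ = t k₁ s` with `s ∈ P`
  have hs : (t * k₁)⁻¹ * k₂ ∈ (P : Subgroup G) := by
    rw [← QuotientGroup.eq]
    have h3 : ((t * k₁ : G) : G ⧸ (P : Subgroup G)) = t • (k₁ : G ⧸ (P : Subgroup G)) := rfl
    rw [h3, hk₁, hk₂, QuotientGroup.out_eq', QuotientGroup.out_eq']
    exact htc
  set s := (t * k₁)⁻¹ * k₂ with hsdef
  have hk₂' : k₂ = t * k₁ * s := by rw [hsdef]; group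
  have hw₁ : k₁⁻¹ * u * k₁ ∈ (P : Subgroup G) := by
    have := QuotientGroup.out_conj_pow_minimalPeriod_mem (P : Subgroup G) u c₁
    rw [Function.minimalPeriod_eq_one_iff_isFixedPt.mpr h₁, pow_one] at this
    exact this
  have hw₂ : k₂⁻¹ * u * k₂ ∈ (P : Subgroup G) := by
    have := QuotientGroup.out_conj_pow_minimalPeriod_mem (P : Subgroup G) u c₂
    rw [Function.minimalPeriod_eq_one_iff_isFixedPt.mpr h₂, pow_one] at this
    exact this
  -- `w₂' = s w₂ s⁻¹`
  have hw₂' : k₁⁻¹ * (t⁻¹ * u * t) * k₁ ∈ (P : Subgroup G) := by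
    have h4 : k₁⁻¹ * (t⁻¹ * u * t) * k₁ = s * (k₂⁻¹ * u * k₂) * s⁻¹ := by
      rw [hk₂']; group
    rw [h4]
    exact (P : Subgroup G).mul_mem ((P : Subgroup G).mul_mem hs hw₂) ((P : Subgroup G).inv_mem hs)
  have h5 : val P (k₂⁻¹ * u * k₂) = val P (k₁⁻¹ * (t⁻¹ * u * t) * k₁) := by
    have h6 : k₂⁻¹ * u * k₂ = s⁻¹ * (k₁⁻¹ * (t⁻¹ * u * t) * k₁) * s := by
      rw [hk₂']; group
    rw [h6, val_conj P hw₂' hs]
  rw [h5]
  refine val_eq_of_mem_grun P hw₁ hw₂' ?_
  have h7 : (k₁⁻¹ * u * k₁)⁻¹ * (k₁⁻¹ * (t⁻¹ * u * t) * k₁) = k₁⁻¹ * ⁅u⁻¹, t⁻¹⁆ * k₁ := by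
    rw [commutatorElement_def]; group
  refine mem_grun_of_conj P ((P : Subgroup G).mul_mem ((P : Subgroup G).inv_mem hw₁) hw₂') k₁⁻¹ ?_
  rw [h7]
  refine ⟨⁅u⁻¹, t⁻¹⁆, Subgroup.commutator_mem_commutator ((P : Subgroup G).inv_mem hu) ((P : Subgroup G).inv_mem ht), ?_⟩
  show k₁⁻¹ * ⁅u⁻¹, t⁻¹⁆ * k₁⁻¹⁻¹ = _
  rw [inv_inv]

theorem hval_pow_eq_one {u : G} (hu : u ∈ (P : Subgroup G)) (huc : u ∈ commutator G) (hu1 : u ≠ 1)
    (hIH : ∀ v ∈ (P : Subgroup G) ⊓ commutator G, orderOf v < orderOf u → v ∈ grun P)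
    (c : G ⧸ (P : Subgroup G)) : hval P u c ^ p = 1 := by
  by_cases hfix : u • c = c
  · rw [hval_of_fixed P hfix]
    set k := c.out with hk
    have hw : k⁻¹ * u * k ∈ (P : Subgroup G) := by
      have := QuotientGroup.out_conj_pow_minimalPeriod_mem (P : Subgroup G) u c
      rw [Function.minimalPeriod_eq_one_iff_isFixedPt.mpr hfix, pow_one] at this
      exact this
    rw [← val_pow P hw]
    have hwp : (k⁻¹ * u * k) ^ p = k⁻¹ * u ^ p * k := by
      have := conj_pow (a := k⁻¹) (b := u) (i := p)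
      simpa using this
    have hwpP : k⁻¹ * u ^ p * k ∈ (P : Subgroup G) := hwp ▸ (P : Subgroup G).pow_mem hw p
    rw [hwp, val_eq_one_iff P hwpP]
    refine hIH _ ⟨hwpP, ?_⟩ ?_
    · have := (inferInstance : (commutator G).Normal).conj_mem _ ((commutator G).pow_mem huc p) k⁻¹
      simpa using this
    · have hord : orderOf (k⁻¹ * u ^ p * k) = orderOf (u ^ p) := by
        have := orderOf_injective (MulAut.conj k⁻¹).toMonoidHom (MulAut.conj k⁻¹).injective (u ^ p)
        simpa [MulAut.conj_apply] using this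
      obtain ⟨j, hj⟩ := (IsPGroup.iff_orderOf.mp P.isPGroup') ⟨u, hu⟩
      have hj' : orderOf u = p ^ j := by
        rw [← hj]; exact Subgroup.orderOf_coe (⟨u, hu⟩ : (P : Subgroup G))
      have hp : p.Prime := Fact.out
      have hj0 : j ≠ 0 := by
        rintro rfl
        rw [pow_zero, orderOf_eq_one_iff] at hj'
        exact hu1 hj'
      have hdvd : p ∣ orderOf u := by rw [hj']; exact dvd_pow_self p hj0
      rw [hord, orderOf_pow_of_dvd hp.ne_zero hdvd]
      exact Nat.div_lt_self (orderOf_pos u) hp.one_lt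
  · rw [hval_of_not_fixed P hfix, one_pow]

/-- in a `P`-orbit that is not a fixed point the number of cosets fixed by `u ∈ P` is divisible
by `p` -/
theorem dvd_card_fixed_in_orbit {u : G} (hu : u ∈ (P : Subgroup G)) (c₀ : G ⧸ (P : Subgroup G))
    (hc₀ : c₀ ∉ fixedPoints (P : Subgroup G) (G ⧸ (P : Subgroup G)))
    [Fintype (G ⧸ (P : Subgroup G))] [DecidableEq (G ⧸ (P : Subgroup G))]
    [DecidablePred fun c : G ⧸ (P : Subgroup G) => c ∈ orbit (P : Subgroup G) c₀ ∧ u • c = c] :
    p ∣ (Finset.univ.filter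
      (fun c : G ⧸ (P : Subgroup G) => c ∈ orbit (P : Subgroup G) c₀ ∧ u • c = c)).card := by
  classical
  let u' : (P : Subgroup G) := ⟨u, hu⟩
  let Z : Subgroup (P : Subgroup G) := zpowers u'
  have hZ : IsPGroup p Z := P.isPGroup'.to_subgroup Z
  have h1 := hZ.card_modEq_card_fixedPoints (orbit (P : Subgroup G) c₀)
  have h2 : p ∣ Nat.card (orbit (P : Subgroup G) c₀) := by
    obtain ⟨n, hn⟩ := P.isPGroup'.card_orbit c₀
    rw [hn]
    refine dvd_pow_self p ?_
    rintro rfl
    rw [pow_zero] at hn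
    apply hc₀
    intro t
    have hsub : Subsingleton (orbit (P : Subgroup G) c₀) :=
      (Nat.card_eq_one_iff_unique.mp hn).1
    have := hsub.elim ⟨t • c₀, mem_orbit c₀ t⟩ ⟨c₀, mem_orbit_self c₀⟩
    exact congrArg Subtype.val this
  have h3 : Nat.card (fixedPoints Z (orbit (P : Subgroup G) c₀)) =
      (Finset.univ.filter
        (fun c : G ⧸ (P : Subgroup G) => c ∈ orbit (P : Subgroup G) c₀ ∧ u • c = c)).card := by
    rw [← Fintype.card_subtype, ← Nat.card_eq_fintype_card]
    refine Nat.card_congr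
      { toFun := fun x => ⟨x.1.1, x.1.2, ?_⟩
        invFun := fun c => ⟨⟨c.1, c.2.1⟩, ?_⟩
        left_inv := fun x => rfl
        right_inv := fun c => rfl }
    · have := x.2 ⟨u', mem_zpowers u'⟩
      exact congrArg Subtype.val this
    · rintro ⟨z, hz⟩
      obtain ⟨k, rfl⟩ := Subgroup.mem_zpowers_iff.mp hz
      apply Subtype.ext
      show ((u' ^ k : (P : Subgroup G)) : G) • c.1 = c.1
      rw [Subgroup.coe_zpow]
      exact zpow_smul_of_smul P c.2.2 k
  rw [← h3]
  exact (Nat.modEq_zero_iff_dvd.mp (h1.symm.trans (Nat.modEq_zero_iff_dvd.mpr h2)))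

theorem prod_orbit_eq_one {u : G} (hu : u ∈ (P : Subgroup G)) (huc : u ∈ commutator G) (hu1 : u ≠ 1)
    (hIH : ∀ v ∈ (P : Subgroup G) ⊓ commutator G, orderOf v < orderOf u → v ∈ grun P)
    (c₀ : G ⧸ (P : Subgroup G))
    (hc₀ : c₀ ∉ fixedPoints (P : Subgroup G) (G ⧸ (P : Subgroup G)))
    [Fintype (G ⧸ (P : Subgroup G))] [DecidableEq (G ⧸ (P : Subgroup G))]
    [DecidablePred fun c : G ⧸ (P : Subgroup G) => c ∈ orbit (P : Subgroup G) c₀] :
    ∏ c ∈ Finset.univ.filter (fun c : G ⧸ (P : Subgroup G) => c ∈ orbit (P : Subgroup G) c₀),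
      hval P u c = 1 := by
  classical
  rw [← Finset.prod_filter_of_ne (p := fun c => u • c = c)]
  · rw [Finset.filter_filter]
    rcases (Finset.univ.filter
      (fun c : G ⧸ (P : Subgroup G) => c ∈ orbit (P : Subgroup G) c₀ ∧ u • c = c)).eq_empty_or_nonempty
      with h | ⟨c₁, hc₁⟩
    · rw [h, Finset.prod_empty]
    · have hc₁' := (Finset.mem_filter.mp hc₁).2
      have hconst : ∀ c ∈ Finset.univ.filter
          (fun c : G ⧸ (P : Subgroup G) => c ∈ orbit (P : Subgroup G) c₀ ∧ u • c = c),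
          hval P u c = hval P u c₁ := by
        intro c hc
        have hc' := (Finset.mem_filter.mp hc).2
        symm
        refine hval_eq_of_orbit P hu hc₁'.2 hc'.2 ?_
        rw [MulAction.orbit_eq_iff.mpr hc₁'.1]
        exact hc'.1
      rw [Finset.prod_eq_pow_card hconst]
      obtain ⟨m, hm⟩ := dvd_card_fixed_in_orbit P hu c₀ hc₀
      rw [hm, pow_mul, hval_pow_eq_one P hu huc hu1 hIH, one_pow]
  · intro c _ hne
    by_contra hfix
    exact hne (hval_of_not_fixed P hfix)

theorem prod_hval_eq_pow {u : G} (hu : u ∈ (P : Subgroup G)) (huc : u ∈ commutator G) (hu1 : u ≠ 1)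
    (hIH : ∀ v ∈ (P : Subgroup G) ⊓ commutator G, orderOf v < orderOf u → v ∈ grun P)
    [Fintype (G ⧸ (P : Subgroup G))]
    [DecidablePred fun c : G ⧸ (P : Subgroup G) => c ∈ fixedPoints (P : Subgroup G) (G ⧸ (P : Subgroup G))] :
    ∏ c : G ⧸ (P : Subgroup G), hval P u c = val P u ^ (Finset.univ.filter
      (fun c : G ⧸ (P : Subgroup G) => c ∈ fixedPoints (P : Subgroup G) (G ⧸ (P : Subgroup G)))).card := by
  classical
  rw [← Finset.prod_filter_mul_prod_filter_not Finset.univ
    (fun c : G ⧸ (P : Subgroup G) => c ∈ fixedPoints (P : Subgroup G) (G ⧸ (P : Subgroup G)))]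
  have h1 : ∏ c ∈ Finset.univ.filter
      (fun c : G ⧸ (P : Subgroup G) => c ∈ fixedPoints (P : Subgroup G) (G ⧸ (P : Subgroup G))),
      hval P u c = val P u ^ (Finset.univ.filter
      (fun c : G ⧸ (P : Subgroup G) => c ∈ fixedPoints (P : Subgroup G) (G ⧸ (P : Subgroup G)))).card := by
    rw [Finset.prod_eq_pow_card]
    intro c hc
    exact hval_of_mem_fixedPoints P hu (Finset.mem_filter.mp hc).2
  have h2 : ∏ c ∈ Finset.univ.filter
      (fun c : G ⧸ (P : Subgroup G) => ¬ c ∈ fixedPoints (P : Subgroup G) (G ⧸ (P : Subgroup G))),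
      hval P u c = 1 := by
    rw [← Finset.prod_fiberwise _
      (fun c => (Quotient.mk'' c : orbitRel.Quotient (P : Subgroup G) (G ⧸ (P : Subgroup G)))) (hval P u)]
    refine Finset.prod_eq_one fun ω _ => ?_
    rcases (Finset.filter (fun c => (Quotient.mk'' c : orbitRel.Quotient (P : Subgroup G) (G ⧸ (P : Subgroup G))) = ω)
      (Finset.univ.filter
      (fun c : G ⧸ (P : Subgroup G) => ¬ c ∈ fixedPoints (P : Subgroup G) (G ⧸ (P : Subgroup G))))).eq_empty_or_nonempty
      with h | ⟨c₀, hc₀⟩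
    · rw [h, Finset.prod_empty]
    · have hc₀1 : c₀ ∉ fixedPoints (P : Subgroup G) (G ⧸ (P : Subgroup G)) :=
        (Finset.mem_filter.mp (Finset.mem_filter.mp hc₀).1).2
      have hc₀2 : (Quotient.mk'' c₀ : orbitRel.Quotient (P : Subgroup G) (G ⧸ (P : Subgroup G))) = ω :=
        (Finset.mem_filter.mp hc₀).2
      have hset : Finset.filter (fun c => (Quotient.mk'' c : orbitRel.Quotient (P : Subgroup G) (G ⧸ (P : Subgroup G))) = ω)
          (Finset.univ.filter
          (fun c : G ⧸ (P : Subgroup G) => ¬ c ∈ fixedPoints (P : Subgroup G) (G ⧸ (P : Subgroup G)))) =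
          Finset.univ.filter (fun c : G ⧸ (P : Subgroup G) => c ∈ orbit (P : Subgroup G) c₀) := by
        ext c
        simp only [Finset.mem_filter, Finset.mem_univ, true_and]
        constructor
        · rintro ⟨_, hc⟩
          rw [← hc₀2] at hc
          exact (orbitRel_apply).mp (Quotient.exact hc)
        · intro hc
          refine ⟨?_, ?_⟩
          · intro hcf
            apply hc₀1
            have h3 : c₀ ∈ orbit (P : Subgroup G) c := by
              rw [MulAction.orbit_eq_iff.mpr hc]; exact mem_orbit_self c₀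
            obtain ⟨t, ht⟩ := h3
            have h4 : c₀ = c := by rw [← ht]; exact hcf t
            rw [h4]; exact hcf
          · rw [← hc₀2]
            exact Quotient.sound ((orbitRel_apply).mpr hc)
      rw [hset]
      exact prod_orbit_eq_one P hu huc hu1 hIH c₀ hc₀1
  rw [h1, h2, mul_one]

theorem mem_grun_of_mem : ∀ n : ℕ, ∀ u ∈ (P : Subgroup G) ⊓ commutator G, orderOf u = n → u ∈ grun P := by
  intro n
  induction n using Nat.strong_induction_on with
  | _ n ih =>
  intro u hu hn
  by_cases hu1 : u = 1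
  · rw [hu1]; exact (grun P).one_mem
  classical
  letI : Fintype (G ⧸ (P : Subgroup G)) := Fintype.ofFinite _
  letI : Fintype (Quotient (orbitRel (zpowers u) (G ⧸ (P : Subgroup G)))) := Fintype.ofFinite _
  have hIH : ∀ v ∈ (P : Subgroup G) ⊓ commutator G, orderOf v < orderOf u → v ∈ grun P := by
    intro v hv hlt
    exact ih (orderOf v) (hn ▸ hlt) v hv rfl
  -- the transfer of `u` is trivial
  have hV1 : MonoidHom.transfer (phi P) u = 1 := by
    have := Abelianization.commutator_subset_ker (MonoidHom.transfer (phi P)) hu.2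
    exact this
  rw [transfer_eq_prod_val, prod_val_eq_prod_hval P u hu.2 hIH,
    prod_hval_eq_pow P hu.1 hu.2 hu1 hIH] at hV1
  set m := (Finset.univ.filter
      (fun c : G ⧸ (P : Subgroup G) => c ∈ fixedPoints (P : Subgroup G) (G ⧸ (P : Subgroup G)))).card with hm
  -- `m` is prime to `p`
  have hp : p.Prime := Fact.out
  have hmp : ¬ p ∣ m := by
    have h1 := P.isPGroup'.card_modEq_card_fixedPoints (G ⧸ (P : Subgroup G))
    have h2 : Nat.card (fixedPoints (P : Subgroup G) (G ⧸ (P : Subgroup G))) = m := by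
      rw [hm, ← Fintype.card_subtype, ← Nat.card_eq_fintype_card]
    rw [h2] at h1
    intro hdvd
    have h3 : p ∣ Nat.card (G ⧸ (P : Subgroup G)) :=
      (Nat.modEq_zero_iff_dvd.mp (h1.trans (Nat.modEq_zero_iff_dvd.mpr hdvd)))
    exact P.not_dvd_index (by rwa [Subgroup.index_eq_card])
  -- `val u` has `p`-power order
  obtain ⟨j, hj⟩ := (IsPGroup.iff_orderOf.mp P.isPGroup') ⟨u, hu.1⟩
  have hj' : orderOf u = p ^ j := by
    rw [← hj]; exact Subgroup.orderOf_coe (⟨u, hu.1⟩ : (P : Subgroup G))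
  have hpj : val P u ^ (p ^ j) = 1 := by
    rw [← val_pow P hu.1, ← hj', pow_orderOf_eq_one, (val_eq_one_iff P (P : Subgroup G).one_mem)]
    exact (grun P).one_mem
  have h1 : orderOf (val P u) ∣ m := orderOf_dvd_of_pow_eq_one hV1
  have h2 : orderOf (val P u) ∣ p ^ j := orderOf_dvd_of_pow_eq_one hpj
  have hcop : Nat.Coprime m (p ^ j) :=
    Nat.Coprime.pow_right _ ((Nat.Prime.coprime_iff_not_dvd hp).mpr hmp).symm
  have h3 : orderOf (val P u) = 1 := Nat.eq_one_of_dvd_coprimes hcop h1 h2
  exact (val_eq_one_iff P hu.1).mp (orderOf_eq_one_iff.mp h3)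

end transfer

/-- Grün's first Theorem: if `P` is a Sylow `p`-subgroup of the finite group `G`, then `P ∩ G'` is the subgroup generated by `P ∩ N_G(P)'` together with the subgroups `P ∩ z P' z⁻¹` for all `z ∈ G`, where `'` denotes the derived subgroup and `N_G(P)` the normalizer of `P`. -/
theorem result {G : Type*} [Group G] [Finite G] {p : ℕ} [Fact p.Prime] (P : Sylow p G) : (P : Subgroup G) ⊓ commutator G = ((P : Subgroup G) ⊓ ⁅Subgroup.normalizer ((P : Subgroup G) : Set G), Subgroup.normalizer ((P : Subgroup G) : Set G)⁆) ⊔ ⨆ z : G, (P : Subgroup G) ⊓ (⁅(P : Subgroup G), (P : Subgroup G)⁆).map (MulAut.conj z).toMonoidHom := by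
  refine le_antisymm (fun x hx => ?_) (le_inf (grun_le P) (grun_le_commutator P))
  exact mem_grun_of_mem P (orderOf x) x hx rfl

end Cfsg.Agent.S4216
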