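import Cfsg.Statements.S4217
import Cfsg.Agent.Lib.Helper29_Gaschutz

set_option autoImplicit false
open Cfsg

namespace Cfsg.Agent.S4217

open scoped IsMulCommutative
open Cfsg.Agent.Lib.Helper29_Gaschutz

/-- A weighted product of derivations into an abelian normal subgroup is a derivation. -/
theorem isDeriv_prod_pow {G : Type*} [Group G] (A : Subgroup G) [A.Normal] [IsMulCommutative A]
    (s : Finset ℕ) (D : ℕ → G → A) (c : ℕ → ℕ) (hD : ∀ p ∈ s, IsDeriv A (D p)) :
    IsDeriv A (fun g => ∏ p ∈ s, D p g ^ c p) := by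
  intro g h
  show (∏ p ∈ s, D p (g * h) ^ c p) =
    (∏ p ∈ s, D p g ^ c p) * MulAut.conjNormal g (∏ p ∈ s, D p h ^ c p)
  rw [map_prod, ← Finset.prod_mul_distrib]
  apply Finset.prod_congr rfl
  intro p hp
  rw [hD p hp g h, mul_pow, map_pow]

/-- The arithmetic: a combination `∑ c_p n_p` prime to `N`. -/
theorem coprime_sum (N : ℕ) (hN : N ≠ 0) (n : ℕ → ℕ) (hn : ∀ p ∈ N.primeFactors, ¬ p ∣ n p) :
    N.Coprime (∑ p ∈ N.primeFactors, (N / p ^ N.factorization p) * n p) := by
  apply Nat.coprime_of_dvd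
  intro q hq hqN hqs
  have hqmem : q ∈ N.primeFactors := Nat.mem_primeFactors.mpr ⟨hq, hqN, hN⟩
  rw [← Finset.add_sum_erase _ _ hqmem] at hqs
  have hrest : q ∣ ∑ p ∈ N.primeFactors.erase q, (N / p ^ N.factorization p) * n p := by
    apply Finset.dvd_sum
    intro p hp
    obtain ⟨hpq, hpmem⟩ := Finset.mem_erase.mp hp
    have hpp : p.Prime := Nat.prime_of_mem_primeFactors hpmem
    apply Dvd.dvd.mul_right
    -- `q ∣ N / p ^ v_p(N)`
    have h1 : p ^ N.factorization p * (N / p ^ N.factorization p) = N :=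
      Nat.ordProj_mul_ordCompl_eq_self N p
    have h2 : q ∣ p ^ N.factorization p * (N / p ^ N.factorization p) := by rw [h1]; exact hqN
    rcases (Nat.Prime.dvd_mul hq).mp h2 with h | h
    · exact absurd ((Nat.prime_dvd_prime_iff_eq hq hpp).mp (hq.dvd_of_dvd_pow h)) (Ne.symm hpq)
    · exact h
  have hfirst : q ∣ (N / q ^ N.factorization q) * n q := (Nat.dvd_add_left hrest).mp hqs
  rcases (Nat.Prime.dvd_mul hq).mp hfirst with h | h
  · exact Nat.not_dvd_ordCompl hq hN h
  · exact hn q hqmem h

/-- Let `A` be an abelian normal subgroup of the finite group `G`. Then `A` has a complement in `G` if and only if, for every prime `p` dividing the index of `A`, there are a Sylow `p`-subgroup `S` of `G/A` and a subgroup `K` of `G` with `K ∩ A = 1` and `KA` equal to the preimage of `S` (that is, `A` has a complement in the preimage of a Sylow `p`-subgroup of `G/A`). -/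
theorem result {G : Type*} [Group G] [Finite G] (A : Subgroup G) [A.Normal] (hA : IsMulCommutative A) : (∃ K : Subgroup G, K.IsComplement' A) ↔ ∀ p : ℕ, p.Prime → p ∣ A.index → ∃ (S : Sylow p (G ⧸ A)) (K : Subgroup G), K ⊓ A = ⊥ ∧ K ⊔ A = (S : Subgroup (G ⧸ A)).comap (QuotientGroup.mk' A) := by
  constructor
  · rintro ⟨K, hK⟩ p hp _
    have : Fact p.Prime := ⟨hp⟩
    obtain ⟨S⟩ : Nonempty (Sylow p (G ⧸ A)) := inferInstance
    refine ⟨S, K ⊓ (S : Subgroup (G ⧸ A)).comap (QuotientGroup.mk' A), ?_, ?_⟩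
    · rw [eq_bot_iff]
      intro x hx
      have : x ∈ K ⊓ A := ⟨hx.1.1, hx.2⟩
      rwa [hK.disjoint.eq_bot] at this
    · apply le_antisymm
      · apply sup_le inf_le_right
        intro a ha
        rw [Subgroup.mem_comap]
        have : QuotientGroup.mk' A a = 1 := (QuotientGroup.eq_one_iff a).mpr ha
        rw [this]
        exact Subgroup.one_mem _
      · intro g hg
        obtain ⟨⟨k, a⟩, hka⟩ := hK.2 g
        have hka' : (k : G) * (a : G) = g := hka
        have hk : (k : G) ∈ (S : Subgroup (G ⧸ A)).comap (QuotientGroup.mk' A) := by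
          rw [Subgroup.mem_comap] at hg ⊢
          have : QuotientGroup.mk' A (k : G) = QuotientGroup.mk' A g := by
            rw [← hka', map_mul]
            have : QuotientGroup.mk' A (a : G) = 1 := (QuotientGroup.eq_one_iff _).mpr a.2
            rw [this, mul_one]
          rw [this]
          exact hg
        rw [← hka']
        exact Subgroup.mul_mem _ (Subgroup.mem_sup_left ⟨k.2, hk⟩) (Subgroup.mem_sup_right a.2)
  · intro h
    classical
    set N := Nat.card A with hN
    have hN0 : N ≠ 0 := Nat.card_pos.ne'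
    -- a derivation for each prime divisor of `|A|`
    have hex : ∀ p ∈ N.primeFactors, ∃ D : G → A, IsDeriv A D ∧ ∃ n : ℕ, ¬ p ∣ n ∧
        ∀ a : A, D (a : G) = a ^ n := by
      intro p hp
      have hpp : p.Prime := Nat.prime_of_mem_primeFactors hp
      have : Fact p.Prime := ⟨hpp⟩
      by_cases hpi : p ∣ A.index
      · obtain ⟨S, K, hKA, hsup⟩ := h p hpp hpi
        obtain ⟨D, hD, hDA⟩ := exists_deriv A K hKA
        refine ⟨D, hD, (K ⊔ A).index, ?_, hDA⟩
        rw [hsup, Subgroup.index_comap_of_surjective _ (QuotientGroup.mk'_surjective A)]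
        exact S.not_dvd_index
      · obtain ⟨D, hD, hDA⟩ := exists_deriv A ⊥ (bot_inf_eq A)
        refine ⟨D, hD, (⊥ ⊔ A).index, ?_, hDA⟩
        rw [bot_sup_eq]
        exact hpi
    choose! D hD n hn hDn using hex
    set c : ℕ → ℕ := fun p => N / p ^ N.factorization p with hc
    set m := ∑ p ∈ N.primeFactors, c p * n p with hm
    have hcop : N.Coprime m := coprime_sum N hN0 n hn
    have hDtot : IsDeriv A (fun g => ∏ p ∈ N.primeFactors, D p g ^ c p) :=
      isDeriv_prod_pow A N.primeFactors D c hD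
    have hDA : ∀ a : A, (fun g => ∏ p ∈ N.primeFactors, D p g ^ c p) (a : G) = a ^ m := by
      intro a
      show (∏ p ∈ N.primeFactors, D p (a : G) ^ c p) = a ^ m
      rw [hm, ← Finset.prod_pow_eq_pow_sum]
      apply Finset.prod_congr rfl
      intro p hp
      rw [hDn p hp a, ← pow_mul, mul_comm]
    exact ⟨hDtot.ker, (hDtot.isComplement' m hcop hDA).symm⟩

end Cfsg.Agent.S4217
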