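import Cfsg.Statements.S4219

set_option autoImplicit false
open Cfsg

namespace Cfsg.Agent.S4219

open scoped Pointwise

theorem exists_conj_of_card {G : Type*} [Group G] [Finite G] {p : ℕ} [Fact p.Prime]
    (H Q R : Subgroup G) (hQ : Q ≤ H) (hR : R ≤ H)
    (cQ : Nat.card Q = p ^ (Nat.card H).factorization p)
    (cR : Nat.card R = p ^ (Nat.card H).factorization p) :
    ∃ c ∈ H, ∀ y, y ∈ Q ↔ c⁻¹ * y * c ∈ R := by
  have cQ' : Nat.card (Q.subgroupOf H) = p ^ (Nat.card H).factorization p := by
    rw [← cQ]; exact Nat.card_congr (Subgroup.subgroupOfEquivOfLe hQ).toEquiv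
  have cR' : Nat.card (R.subgroupOf H) = p ^ (Nat.card H).factorization p := by
    rw [← cR]; exact Nat.card_congr (Subgroup.subgroupOfEquivOfLe hR).toEquiv
  let S1 : Sylow p H := Sylow.ofCard (Q.subgroupOf H) cQ'
  let S2 : Sylow p H := Sylow.ofCard (R.subgroupOf H) cR'
  obtain ⟨c, hc⟩ := MulAction.exists_smul_eq H S2 S1
  refine ⟨c, c.2, fun y => ?_⟩
  by_cases hy : y ∈ H
  · have h1 : y ∈ Q ↔ (⟨y, hy⟩ : H) ∈ (S1 : Subgroup H) := by
      rw [Sylow.coe_ofCard, Subgroup.mem_subgroupOf]
    rw [h1, ← hc, Sylow.coe_subgroup_smul, Subgroup.mem_pointwise_smul_iff_inv_smul_mem]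
    rw [Sylow.coe_ofCard, Subgroup.mem_subgroupOf]
    simp [MulAut.smul_def, mul_assoc]
  · constructor
    · intro h; exact absurd (hQ h) hy
    · intro h
      exfalso; apply hy
      have := H.mul_mem (H.mul_mem c.2 (hR h)) (H.inv_mem c.2)
      simpa [mul_assoc] using this

/-- Let a finite group `G` act `t`-fold transitively on a finite set, let `H` be the stabilizer of `t` distinct points and `P` a Sylow `p`-subgroup of `H`. Then the normalizer of `P` in `G` is `t`-fold transitive on the fixed points of `P`: any `t` distinct fixed points of `P` can be carried to any other `t` distinct fixed points of `P` by an element normalizing `P`. -/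
theorem result {G : Type*} [Group G] [Finite G] {α : Type*} [Fintype α] [MulAction G α] {t : ℕ} (hG : MulAction.IsMultiplyPretransitive G α t) (x : Fin t ↪ α) {p : ℕ} [Fact p.Prime] (P : Sylow p (MulAction.stabilizer G x)) (a b : Fin t ↪ α) (ha : ∀ i, a i ∈ MulAction.fixedPoints ((P : Subgroup (MulAction.stabilizer G x)).map (MulAction.stabilizer G x).subtype) α) (hb : ∀ i, b i ∈ MulAction.fixedPoints ((P : Subgroup (MulAction.stabilizer G x)).map (MulAction.stabilizer G x).subtype) α) : ∃ g ∈ Subgroup.normalizer ((((P : Subgroup (MulAction.stabilizer G x)).map (MulAction.stabilizer G x).subtype) : Subgroup G) : Set G), g • a = b := by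
  classical
  set Q : Subgroup G := (P : Subgroup (MulAction.stabilizer G x)).map (MulAction.stabilizer G x).subtype with hQ
  -- all stabilizers of embeddings have the same cardinality
  have hcard : ∀ y : Fin t ↪ α, Nat.card (MulAction.stabilizer G y) = Nat.card (MulAction.stabilizer G x) := by
    intro y
    obtain ⟨h, hh⟩ := MulAction.exists_smul_eq G x y
    rw [← hh, MulAction.stabilizer_smul_eq_stabilizer_map_conj]
    exact Subgroup.card_map_of_injective (MulAut.conj h).injective
  have hQcard : Nat.card Q = p ^ (Nat.card (MulAction.stabilizer G x)).factorization p := by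
    rw [hQ, Subgroup.card_subtype]
    exact P.card_eq_multiplicity
  have hQfix : ∀ y : Fin t ↪ α, (∀ i, y i ∈ MulAction.fixedPoints Q α) → Q ≤ MulAction.stabilizer G y := by
    intro y hy g hg
    rw [MulAction.mem_stabilizer_iff]
    ext i
    rw [Function.Embedding.smul_apply]
    exact hy i ⟨g, hg⟩
  have hQa := hQfix a ha
  have hQb := hQfix b hb
  obtain ⟨g0, hg0⟩ := MulAction.exists_smul_eq G a b
  -- R = g0 Q g0⁻¹ ≤ stabilizer of b
  set R : Subgroup G := Q.map (MulAut.conj g0).toMonoidHom with hR
  have hRb : R ≤ MulAction.stabilizer G b := by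
    rw [← hg0, MulAction.stabilizer_smul_eq_stabilizer_map_conj]
    exact Subgroup.map_mono hQa
  have hRcard : Nat.card R = p ^ (Nat.card (MulAction.stabilizer G b)).factorization p := by
    rw [hR, Subgroup.card_map_of_injective (MulAut.conj g0).injective, hQcard, hcard b]
  have hQcard' : Nat.card Q = p ^ (Nat.card (MulAction.stabilizer G b)).factorization p := by
    rw [hQcard, hcard b]
  obtain ⟨c, hcb, hc⟩ := exists_conj_of_card (MulAction.stabilizer G b) Q R hQb hRb hQcard' hRcard
  refine ⟨c * g0, ?_, ?_⟩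
  · rw [Subgroup.mem_normalizer_iff]
    intro h
    -- h ∈ Q ↔ (c g0) h (c g0)⁻¹ ∈ Q
    rw [hc (c * g0 * h * (c * g0)⁻¹)]
    have : c⁻¹ * (c * g0 * h * (c * g0)⁻¹) * c = g0 * h * g0⁻¹ := by group
    rw [this, hR]
    constructor
    · intro hh
      exact Subgroup.mem_map.mpr ⟨h, hh, by simp⟩
    · intro hh
      obtain ⟨h', hh', he⟩ := Subgroup.mem_map.mp hh
      have : h' = h := by
        have he' : g0 * h' * g0⁻¹ = g0 * h * g0⁻¹ := by simpa using he
        have := congrArg (fun z => g0⁻¹ * z * g0) he'
        simpa [mul_assoc] using this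
      rwa [← this]
  · rw [mul_smul, hg0]
    exact MulAction.mem_stabilizer_iff.mp hcb

end Cfsg.Agent.S4219
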