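import Cfsg.Statements.S4220
import Mathlib
import Cfsg.Agent.Lib.Helper38_PermTools
import Cfsg.Agent.Lib.Helper38_W1310A1
import Cfsg.Agent.Lib.Helper38_W1310A2
import Cfsg.Agent.Lib.Helper38_W1310B2

set_option autoImplicit false
open Cfsg

namespace Cfsg.Agent.S4220

open Equiv MulAction
open Cfsg.Agent.Lib.Helper38_PermTools Cfsg.Agent.Lib.Helper38_W1310A1
open Cfsg.Agent.Lib.Helper38_W1310A2 Cfsg.Agent.Lib.Helper38_W1310B2

universe u

/-- Wielandt 13.10 by induction on `k` (the degree varies). -/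
theorem main (p r : ℕ) (hp : p.Prime) (hr3 : 3 ≤ r) : ∀ (k : ℕ), 1 ≤ k → k < p → k < r →
    ∀ (α : Type u) [Fintype α] [DecidableEq α] (G : Subgroup (Perm α)),
      Fintype.card α = k * p + r → IsMultiplyPretransitive G α (r + 1) →
      alternatingGroup α ≤ G := by
  intro k
  induction k using Nat.strong_induction_on with
  | _ k ih =>
    intro hk hpk hrk α _ _ G hn hG
    have : Fact p.Prime := ⟨hp⟩
    rcases Nat.lt_or_ge k 2 with h | hk2
    · have hk1 : k = 1 := by omega
      subst hk1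
      exact case_one G hp (by rw [hn]; ring) hr3 hG
    by_cases hsp : p = 3 ∧ r ≤ 4
    · obtain ⟨rfl, hr4⟩ := hsp
      have hk2' : k = 2 := by omega
      subst hk2'
      have hr : r = 3 ∨ r = 4 := by omega
      rcases hr with rfl | rfl
      · exact deg9 G (by rw [hn]) hG
      · exact deg10 G (by rw [hn]) hG
    have hsp' : p = 3 → 5 ≤ r := by
      intro h
      by_contra hc
      exact hsp ⟨h, by omega⟩
    have hkp : k ≤ k * p := Nat.le_mul_of_pos_right k hp.pos
    obtain ⟨Γ, hΓ⟩ := exists_finset_card (α := α) r (by omega)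
    obtain ⟨ψ₀, hψ₀⟩ := exists_notMem_of_card_lt Γ (by omega)
    by_cases hdiv : p ∣ Nat.card (fixG G (insert ψ₀ Γ))
    · exact case_A G hn hk2 hpk hrk hr3 hG
        (fun k' hk'k hk'1 β _ _ H hcard hH =>
          ih k' hk'k hk'1 (by omega) (by omega) β H hcard hH) Γ hΓ ψ₀ hψ₀ hdiv
    · exact case_B G hn hk2 hpk hrk hr3 hsp' hG Γ hΓ ψ₀ hψ₀ hdiv

/-- Let `n = kp + r` with `p` prime, `1 ≤ k < p` and `r > k`, excluding the case `k = 1, r = 2`. Then a permutation group of degree `n` that is `(r + 1)`-fold transitive contains the alternating group. -/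
theorem result {α : Type*} [Fintype α] [DecidableEq α] (G : Subgroup (Equiv.Perm α)) {k p r : ℕ} (hp : p.Prime) (hn : Fintype.card α = k * p + r) (hk : 1 ≤ k) (hpk : k < p) (hrk : k < r) (hex : ¬ (k = 1 ∧ r = 2)) (hG : MulAction.IsMultiplyPretransitive G α (r + 1)) : alternatingGroup α ≤ G := by
  have hr3 : 3 ≤ r := by
    by_contra h
    exact hex ⟨by omega, by omega⟩
  exact main p r hp hr3 k hk hpk hrk α G hn hG

end Cfsg.Agent.S4220
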