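import Cfsg.Statements.S4226
import Cfsg.Agent.S4215

set_option autoImplicit false
open Cfsg
open scoped commutatorElement

namespace Cfsg.Agent.S4226

/-- Let `P` be a Sylow `p`-subgroup of the finite group `G` with nilpotency class less than `p` (the term of index `p - 1` of the lower central series of `P`, indexed from `0`, is trivial), and let `N` be its normalizer. Then `O^p(N) = O^p(G) ∩ N`, where `O^p` denotes the subgroup generated by the elements of order prime to `p`; so the largest `p`-factor groups of `G` and of `N` are isomorphic. -/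
theorem result {G : Type*} [Group G] [Finite G] {p : ℕ} [Fact p.Prime] (P : Sylow p G) (hcl : (P : Subgroup G).lowerCentralSeries (p - 1) = ⊥) : Cfsg.pResidualOf p (Subgroup.normalizer ((P : Subgroup G) : Set G)) = Cfsg.pResidual p G ⊓ Subgroup.normalizer ((P : Subgroup G) : Set G) := by
  have hwc : Cfsg.IsWeaklyClosed (P : Subgroup G) (P : Subgroup G) := by
    refine ⟨le_rfl, ?_⟩
    intro g hg
    apply le_antisymm hg
    -- equal cardinalities
    intro x hx
    have hcard : Nat.card ((P : Subgroup G).map (MulAut.conj g).toMonoidHom) = Nat.card (P : Subgroup G) :=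
      Subgroup.card_map_of_injective (MulAut.conj g).injective
    have heq : (P : Subgroup G).map (MulAut.conj g).toMonoidHom = (P : Subgroup G) :=
      Subgroup.eq_of_le_of_card_ge hg (le_of_eq hcard.symm)
    rw [heq]; exact hx
  have hlcs : ∀ z ∈ (P : Subgroup G), ∀ k : ℕ, ∀ u ∈ (P : Subgroup G),
      (fun y : G => y⁻¹ * z⁻¹ * y * z)^[k] u ∈ (P : Subgroup G).lowerCentralSeries k := by
    intro z hz k
    induction k with
    | zero =>
      intro u hu
      simpa using hu
    | succ k ih =>
      intro u hu
      rw [Function.iterate_succ_apply']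
      have h1 := ih u hu
      set c := (fun y : G => y⁻¹ * z⁻¹ * y * z)^[k] u with hc
      have h2 : c⁻¹ * z⁻¹ * c * z = ⁅c⁻¹, z⁻¹⁆ := by
        rw [commutatorElement_def]; group
      show c⁻¹ * z⁻¹ * c * z ∈ (P : Subgroup G).lowerCentralSeries (k + 1)
      rw [h2]
      exact Subgroup.commutator_mem_commutator (Subgroup.inv_mem _ h1) (Subgroup.inv_mem _ hz)
  have hE : ∀ u ∈ (P : Subgroup G), ∀ z ∈ (P : Subgroup G),
      (fun y : G => y⁻¹ * z⁻¹ * y * z)^[p - 1] u = 1 := by
    intro u hu z hz
    have h1 := hlcs z hz (p - 1) u hu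
    rw [hcl, Subgroup.mem_bot] at h1
    exact h1
  exact Cfsg.Agent.S4215.result P (P : Subgroup G) hwc hE

end Cfsg.Agent.S4226
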