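import Cfsg.Statements.S4230

set_option autoImplicit false
open Cfsg

namespace Cfsg.Agent.S4230

/-- Let p be an odd prime, q a natural number not divisible by p, and e the multiplicative order of q modulo p. For a natural number f, p divides the value at q of the f-th cyclotomic polynomial if and only if f = e·p^j for some j ≥ 0. -/
theorem result (p q f : ℕ) (hp : p.Prime) (hp2 : p ≠ 2) (hpq : ¬ p ∣ q) :
    ((p : ℤ) ∣ (Polynomial.cyclotomic f ℤ).eval (q : ℤ)) ↔ ∃ j : ℕ, f = orderOf (q : ZMod p) * p ^ j := by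
  have : Fact p.Prime := ⟨hp⟩
  -- step 1: reduce to ZMod p
  have h1 : ((p : ℤ) ∣ (Polynomial.cyclotomic f ℤ).eval (q : ℤ)) ↔
      (Polynomial.cyclotomic f (ZMod p)).IsRoot (q : ZMod p) := by
    rw [← ZMod.intCast_zmod_eq_zero_iff_dvd, Polynomial.IsRoot.def,
      ← Polynomial.map_cyclotomic_int f (ZMod p)]
    have := Polynomial.eval_intCast_map (Int.castRingHom (ZMod p)) (Polynomial.cyclotomic f ℤ) (q : ℤ)
    rw [Int.cast_natCast] at this
    rw [this]
    rfl
  have hq0 : (q : ZMod p) ≠ 0 := by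
    rwa [Ne, ZMod.natCast_eq_zero_iff]
  set e := orderOf (q : ZMod p) with he
  have he_dvd : e ∣ p - 1 := ZMod.orderOf_dvd_card_sub_one hq0
  have hp1 : 0 < p - 1 := by have := hp.two_le; omega
  have he_pos : 0 < e := Nat.pos_of_dvd_of_pos he_dvd hp1
  have he_cop : ¬ p ∣ e := by
    intro h
    have := Nat.le_of_dvd hp1 (h.trans he_dvd)
    omega
  rw [h1]
  by_cases hf0 : f = 0
  · subst hf0
    simp only [Polynomial.cyclotomic_zero, Polynomial.IsRoot.def, Polynomial.eval_one, one_ne_zero,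
      false_iff, not_exists]
    intro j hj
    have : 0 < e * p ^ j := Nat.mul_pos he_pos (pow_pos hp.pos j)
    omega
  obtain ⟨k, m, hm, hf⟩ := Nat.exists_eq_pow_mul_and_not_dvd hf0 p hp.ne_one
  have : NeZero ((m : ℕ) : ZMod p) := ⟨by rwa [Ne, ZMod.natCast_eq_zero_iff]⟩
  rw [hf, Polynomial.isRoot_cyclotomic_prime_pow_mul_iff_of_charP]
  constructor
  · intro h
    exact ⟨k, by rw [he, ← h.eq_orderOf]; ring⟩
  · rintro ⟨j, hj⟩
    have hcop_e : Nat.Coprime (p ^ k) e := Nat.Coprime.pow_left k ((Nat.Prime.coprime_iff_not_dvd hp).mpr he_cop)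
    have hcop_m : Nat.Coprime (p ^ j) m := Nat.Coprime.pow_left j ((Nat.Prime.coprime_iff_not_dvd hp).mpr hm)
    have h_kj : k ≤ j := by
      have h2 : p ^ k ∣ e * p ^ j := ⟨m, hj.symm⟩
      have h3 : p ^ k ∣ p ^ j := hcop_e.dvd_of_dvd_mul_left h2
      exact (Nat.pow_dvd_pow_iff_le_right hp.one_lt).mp h3
    have h_jk : j ≤ k := by
      have h2 : p ^ j ∣ p ^ k * m := ⟨e, by rw [hj]; ring⟩
      have h3 : p ^ j ∣ p ^ k := hcop_m.dvd_of_dvd_mul_right h2
      exact (Nat.pow_dvd_pow_iff_le_right hp.one_lt).mp h3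
    have hkj : k = j := le_antisymm h_kj h_jk
    subst hkj
    have hme : m = e := by
      have : p ^ k * m = p ^ k * e := by rw [hj]; ring
      exact Nat.eq_of_mul_eq_mul_left (pow_pos hp.pos k) this
    rw [hme]
    exact IsPrimitiveRoot.orderOf _

end Cfsg.Agent.S4230
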