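import Mathlib
import Cfsg.Statements.S4231
import Cfsg.Agent.S2119

set_option autoImplicit false
open Cfsg

namespace Cfsg.Agent.S4231
open Equiv

/-- A `p`-subgroup of the symmetric group of degree `n < p^2` is abelian. -/
theorem pgroup_perm_comm {n r : ℕ} [hr : Fact r.Prime] (Q : Subgroup (Perm (Fin n)))
    (hQ : IsPGroup r Q) (hn : n < r ^ 2) (a b : Perm (Fin n)) (ha : a ∈ Q) (hb : b ∈ Q) :
    a * b = b * a := by
  classical
  ext i
  congr 1
  -- the orbit of i
  let O := MulAction.orbit Q i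
  have hOcard : Nat.card O = 1 ∨ Nat.card O = r := by
    obtain ⟨k, hk⟩ := hQ.card_orbit i
    have hle : Nat.card O ≤ n := by
      have := Nat.card_le_card_of_injective (fun x : O => (x : Fin n)) Subtype.val_injective
      simpa using this
    rcases k with _ | _ | k
    · left; simpa using hk
    · right; simpa using hk
    · exfalso
      have h1 : r ^ 2 ≤ r ^ (k + 1 + 1) := Nat.pow_le_pow_right hr.out.pos (by omega)
      have : Nat.card O = r ^ (k + 1 + 1) := hk
      omega
  let φ : Q →* Perm O := MulAction.toPermHom Q O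
  have hR : IsPGroup r φ.range := hQ.of_surjective φ.rangeRestrict φ.rangeRestrict_surjective
  -- the range has order 1 or r
  have hRcard : Nat.card φ.range = 1 ∨ Nat.card φ.range = r := by
    obtain ⟨j, hj⟩ := IsPGroup.iff_card.mp hR
    have hdvd : Nat.card φ.range ∣ Nat.card (Perm O) := Subgroup.card_subgroup_dvd_card _
    rw [Nat.card_perm] at hdvd
    rcases j with _ | _ | j
    · left; simpa using hj
    · right; simpa using hj
    · exfalso
      rw [hj] at hdvd
      have h2 : r ^ 2 ∣ (Nat.card O).factorial := (pow_dvd_pow r (by omega)).trans hdvd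
      rcases hOcard with h | h
      · rw [h, Nat.factorial_one] at h2
        have := Nat.le_of_dvd one_pos h2
        have := hr.out.two_le
        nlinarith
      · rw [h] at h2
        have hrpos := hr.out.pos
        obtain ⟨s, hs⟩ : ∃ s, r = s + 1 := ⟨r - 1, by omega⟩
        rw [hs, Nat.factorial_succ, ← hs, sq] at h2
        have h3 : r ∣ s.factorial := Nat.dvd_of_mul_dvd_mul_left hrpos h2
        have h4 := (hr.out.dvd_factorial).mp h3
        omega
  have hcomm : ∀ u v : φ.range, u * v = v * u := by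
    rcases hRcard with h | h
    · have : Subsingleton φ.range := (Nat.card_eq_one_iff_unique.mp h).1
      intro u v; exact Subsingleton.elim _ _
    · have hc : IsCyclic φ.range := isCyclic_of_prime_card h
      intro u v
      exact (IsCyclic.commGroup (α := φ.range)).mul_comm u v
  have h1 := hcomm ⟨φ ⟨a, ha⟩, ⟨_, rfl⟩⟩ ⟨φ ⟨b, hb⟩, ⟨_, rfl⟩⟩
  have h2 : φ ⟨a, ha⟩ * φ ⟨b, hb⟩ = φ ⟨b, hb⟩ * φ ⟨a, ha⟩ := congrArg Subtype.val h1
  have hφ : ∀ (g : Q) (x : O), ((φ g x : O) : Fin n) = (g : Perm (Fin n)) (x : Fin n) :=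
    fun g x => rfl
  have h3 := congrArg (fun f : Perm O => ((f ⟨i, MulAction.mem_orbit_self i⟩ : O) : Fin n)) h2
  simp only [Perm.mul_apply, hφ] at h3
  exact h3

/-- An element of order `p q` in the alternating group of degree `n ≥ q^2` (`p < q` primes). -/
theorem exists_orderOf_mul {n p q : ℕ} (hp : p.Prime) (hq : q.Prime) (hpq : p < q)
    (hn : q ^ 2 ≤ n) : ∃ x : alternatingGroup (Fin n), orderOf x = p * q := by
  classical
  have hq3 : 3 ≤ q := by have := hp.two_le; omega
  have hqodd : Odd q := hq.odd_of_ne_two (by omega)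
  have hqq : q * 3 ≤ q ^ 2 := by rw [sq]; exact Nat.mul_le_mul_left q hq3
  by_cases hp2 : p = 2
  · subst hp2
    have hex : ∃ g : Perm (Fin n), g.cycleType = {2, 2, q} := by
      rw [Perm.exists_with_cycleType_iff (Fin n), Fintype.card_fin]
      constructor
      · simp only [Multiset.insert_eq_cons, Multiset.sum_cons, Multiset.sum_singleton]
        omega
      · intro a ha
        simp only [Multiset.insert_eq_cons, Multiset.mem_cons, Multiset.mem_singleton] at ha
        rcases ha with h | h | h <;> omega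
    obtain ⟨g, hg⟩ := hex
    have hgA : g ∈ alternatingGroup (Fin n) := by
      rw [Perm.mem_alternatingGroup, Perm.sign_of_cycleType, hg]
      simp only [Multiset.insert_eq_cons, Multiset.sum_cons, Multiset.sum_singleton,
        Multiset.card_cons, Multiset.card_singleton]
      apply Even.neg_one_pow
      obtain ⟨k, hk⟩ := hqodd
      exact ⟨k + 4, by omega⟩
    refine ⟨⟨g, hgA⟩, ?_⟩
    rw [Subgroup.orderOf_mk, ← Perm.lcm_cycleType, hg]
    simp only [Multiset.insert_eq_cons, Multiset.lcm_cons, Multiset.lcm_singleton, normalize_eq]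
    have hcop : Nat.Coprime 2 q := (Nat.coprime_primes hp hq).mpr (by omega)
    have h1 : lcm 2 q = 2 * q := hcop.lcm_eq_mul
    rw [h1]
    have h2 : lcm 2 (2 * q) = 2 * q := by
      apply Nat.dvd_antisymm
      · exact Nat.lcm_dvd (Dvd.intro _ rfl) dvd_rfl
      · exact Nat.dvd_lcm_right 2 (2 * q)
    exact h2
  · have hp3 : 3 ≤ p := by have := hp.two_le; omega
    have hpodd : Odd p := hp.odd_of_ne_two hp2
    have hex : ∃ g : Perm (Fin n), g.cycleType = {p, q} := by
      rw [Perm.exists_with_cycleType_iff (Fin n), Fintype.card_fin]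
      constructor
      · simp only [Multiset.insert_eq_cons, Multiset.sum_cons, Multiset.sum_singleton]
        omega
      · intro a ha
        simp only [Multiset.insert_eq_cons, Multiset.mem_cons, Multiset.mem_singleton] at ha
        rcases ha with h | h <;> omega
    obtain ⟨g, hg⟩ := hex
    have hgA : g ∈ alternatingGroup (Fin n) := by
      rw [Perm.mem_alternatingGroup, Perm.sign_of_cycleType, hg]
      simp only [Multiset.insert_eq_cons, Multiset.sum_cons, Multiset.sum_singleton,
        Multiset.card_cons, Multiset.card_singleton]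
      apply Even.neg_one_pow
      obtain ⟨k, hk⟩ := hqodd
      obtain ⟨j, hj⟩ := hpodd
      exact ⟨k + j + 2, by omega⟩
    refine ⟨⟨g, hgA⟩, ?_⟩
    rw [Subgroup.orderOf_mk, ← Perm.lcm_cycleType, hg]
    simp only [Multiset.insert_eq_cons, Multiset.lcm_cons, Multiset.lcm_singleton, normalize_eq]
    have hcop : Nat.Coprime p q := (Nat.coprime_primes hp hq).mpr (by omega)
    exact hcop.lcm_eq_mul

theorem mul_mem_of_not_mem {n : ℕ} {g t : Perm (Fin n)} (hg : g ∉ alternatingGroup (Fin n))
    (ht : t ∉ alternatingGroup (Fin n)) : g * t ∈ alternatingGroup (Fin n) := by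
  rw [Perm.mem_alternatingGroup] at hg ht ⊢
  rw [Perm.sign_mul]
  rcases Int.units_eq_one_or (Perm.sign g) with h | h
  · exact absurd h hg
  · rcases Int.units_eq_one_or (Perm.sign t) with h' | h'
    · exact absurd h' ht
    · rw [h, h']; rfl

/-- Elements of `A_n` with the same cycle type, whose centralizer is not contained in `A_n`, are
conjugate in `A_n`. -/
theorem isConj_of_cycleType_eq {n : ℕ} (x y : alternatingGroup (Fin n))
    (h : (x : Perm (Fin n)).cycleType = (y : Perm (Fin n)).cycleType)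
    (hc : ¬ Subgroup.centralizer {(x : Perm (Fin n))} ≤ alternatingGroup (Fin n)) :
    IsConj x y := by
  have h1 : IsConj (x : Perm (Fin n)) (y : Perm (Fin n)) := Perm.isConj_iff_cycleType_eq.mpr h
  rw [isConj_iff] at h1
  obtain ⟨g, hg⟩ := h1
  rw [SetLike.not_le_iff_exists] at hc
  obtain ⟨t, htc, htN⟩ := hc
  have htx : t * (x : Perm (Fin n)) = (x : Perm (Fin n)) * t :=
    (Subgroup.mem_centralizer_singleton_iff.mp htc)
  rw [isConj_iff]
  by_cases hgN : g ∈ alternatingGroup (Fin n)
  · exact ⟨⟨g, hgN⟩, Subtype.ext (by simpa using hg)⟩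
  · refine ⟨⟨g * t, mul_mem_of_not_mem hgN htN⟩, Subtype.ext ?_⟩
    show g * t * (x : Perm (Fin n)) * (g * t)⁻¹ = y
    rw [← hg]
    calc g * t * (x : Perm (Fin n)) * (g * t)⁻¹ = g * (t * (x : Perm (Fin n))) * t⁻¹ * g⁻¹ := by group
      _ = g * ((x : Perm (Fin n)) * t) * t⁻¹ * g⁻¹ := by rw [htx]
      _ = g * (x : Perm (Fin n)) * g⁻¹ := by group

/-- elements of order 3 in `S_6` -/
theorem cycleType_of_orderOf_three (σ : Perm (Fin 6)) (h : orderOf σ = 3) :
    σ.cycleType = {3} ∨ σ.cycleType = {3, 3} := by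
  obtain ⟨k, hk⟩ := Perm.cycleType_prime_order (σ := σ) (by rw [h]; exact Nat.prime_three)
  rw [h] at hk
  have hsum := Perm.sum_cycleType_le σ
  rw [hk, Multiset.sum_replicate, Fintype.card_fin, smul_eq_mul] at hsum
  have hk1 : k = 0 ∨ k = 1 := by omega
  rcases hk1 with rfl | rfl
  · left; rw [hk]; rfl
  · right; rw [hk]; rfl

/-- the two kinds of elements of order 3 in `A_6` -/
def T3 (g : alternatingGroup (Fin 6)) : Prop := (g : Perm (Fin 6)).cycleType = {3}
def T33 (g : alternatingGroup (Fin 6)) : Prop := (g : Perm (Fin 6)).cycleType = {3, 3}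

theorem T3_or_T33 (g : alternatingGroup (Fin 6)) (h : orderOf g = 3) : T3 g ∨ T33 g := by
  apply cycleType_of_orderOf_three
  rw [Subgroup.orderOf_coe]; exact h

theorem not_T3_T33 (g : alternatingGroup (Fin 6)) (h : T3 g) (h' : T33 g) : False := by
  unfold T3 at h; unfold T33 at h'
  rw [h] at h'
  have := congrArg Multiset.card h'
  simp at this

theorem orderOf_T3 (g : alternatingGroup (Fin 6)) (h : T3 g) : orderOf g = 3 := by
  rw [← Subgroup.orderOf_coe, ← Perm.lcm_cycleType, h]; rfl

theorem orderOf_T33 (g : alternatingGroup (Fin 6)) (h : T33 g) : orderOf g = 3 := by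
  rw [← Subgroup.orderOf_coe, ← Perm.lcm_cycleType, h]; rfl

theorem T3_conj (g h : alternatingGroup (Fin 6)) (hg : T3 g) (hh : T3 h) : IsConj g h := by
  apply alternatingGroup.isThreeCycle_isConj (by simp) hg hh

theorem T33_conj (g h : alternatingGroup (Fin 6)) (hg : T33 g) (hh : T33 h) : IsConj g h := by
  apply isConj_of_cycleType_eq g h (by rw [hg, hh])
  rw [Perm.centralizer_le_alternating_iff]
  intro hcon
  have := hcon.2.2 3
  rw [hg] at this
  simp at this

theorem cycleType_of_isConj {g h : alternatingGroup (Fin 6)} (hc : IsConj g h) :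
    (g : Perm (Fin 6)).cycleType = (h : Perm (Fin 6)).cycleType := by
  rw [isConj_iff] at hc
  obtain ⟨c, rfl⟩ := hc
  simp [Perm.cycleType_conj]

theorem exists_T3 : ∃ t : alternatingGroup (Fin 6), T3 t := by
  obtain ⟨g, hg⟩ := (Perm.exists_with_cycleType_iff (Fin 6) (m := {3})).mpr
    ⟨by simp, by simp⟩
  exact ⟨⟨g, Perm.IsThreeCycle.mem_alternatingGroup hg⟩, hg⟩

theorem dich3 (f : MulAut (alternatingGroup (Fin 6))) :
    (∀ t, T3 t → T3 (f t)) ∨ (∀ t, T3 t → T33 (f t)) := by
  obtain ⟨t0, ht0⟩ := exists_T3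
  have ho : orderOf (f t0) = 3 := by rw [MulEquiv.orderOf_eq]; exact orderOf_T3 t0 ht0
  have key : ∀ t, T3 t → ((f t : alternatingGroup (Fin 6)) : Perm (Fin 6)).cycleType =
      ((f t0 : alternatingGroup (Fin 6)) : Perm (Fin 6)).cycleType := by
    intro t ht
    apply cycleType_of_isConj
    exact (MulEquiv.toMonoidHom f).map_isConj (T3_conj t t0 ht ht0)
  rcases T3_or_T33 (f t0) ho with h | h
  · left; intro t ht; unfold T3; rw [key t ht]; exact h
  · right; intro t ht; unfold T33; rw [key t ht]; exact h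

theorem dich33 (f : MulAut (alternatingGroup (Fin 6))) (s0 : alternatingGroup (Fin 6))
    (hs0 : T33 s0) :
    (∀ s, T33 s → T33 (f s)) ∨ (∀ s, T33 s → T3 (f s)) := by
  have ho : orderOf (f s0) = 3 := by rw [MulEquiv.orderOf_eq]; exact orderOf_T33 s0 hs0
  have key : ∀ s, T33 s → ((f s : alternatingGroup (Fin 6)) : Perm (Fin 6)).cycleType =
      ((f s0 : alternatingGroup (Fin 6)) : Perm (Fin 6)).cycleType := by
    intro s hs
    apply cycleType_of_isConj
    exact (MulEquiv.toMonoidHom f).map_isConj (T33_conj s s0 hs hs0)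
  rcases T3_or_T33 (f s0) ho with h | h
  · right; intro s hs; unfold T3; rw [key s hs]; exact h
  · left; intro s hs; unfold T33; rw [key s hs]; exact h

/-- An automorphism of `A_6` of odd order maps 3-cycles to 3-cycles. -/
theorem odd_preserves (f : MulAut (alternatingGroup (Fin 6))) (hodd : Odd (orderOf f)) :
    ∀ t, T3 t → T3 (f t) := by
  rcases dich3 f with h | h
  · exact h
  -- f maps 3-cycles to double 3-cycles
  obtain ⟨t0, ht0⟩ := exists_T3
  have hs0 : T33 (f t0) := h t0 ht0
  have h' : ∀ s, T33 s → T3 (f s) := by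
    rcases dich33 f (f t0) hs0 with h2 | h2
    · exfalso
      -- then nothing of order 3 maps to t0
      have hu : orderOf (f⁻¹ t0) = 3 := by rw [MulEquiv.orderOf_eq]; exact orderOf_T3 t0 ht0
      have hfu : f (f⁻¹ t0) = t0 := MulAut.apply_inv_self _ f t0
      rcases T3_or_T33 _ hu with h3 | h3
      · have := h _ h3
        rw [hfu] at this
        exact not_T3_T33 t0 ht0 this
      · have := h2 _ h3
        rw [hfu] at this
        exact not_T3_T33 t0 ht0 this
    · exact h2
  have hsq : ∀ t, T3 t → T3 ((f * f) t) := fun t ht => h' _ (h t ht)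
  have hpow : ∀ k : ℕ, ∀ t, T3 t → T3 (((f * f) ^ k) t) := by
    intro k
    induction k with
    | zero => intro t ht; simpa using ht
    | succ k ih =>
      intro t ht
      rw [pow_succ, MulAut.mul_apply]
      exact ih _ (hsq t ht)
  obtain ⟨k, hk⟩ := hodd
  have h4 : (f * f) ^ (k + 1) = f := by
    rw [← sq, ← pow_mul]
    have : 2 * (k + 1) = orderOf f + 1 := by omega
    rw [this, pow_succ, pow_orderOf_eq_one, one_mul]
  intro t ht
  have := hpow (k + 1) t ht
  rwa [h4] at this

/-- every `r`-subgroup of `Aut(A_n)` lies in the image of `S_n` (if `n ≠ 6` or `r` is odd) -/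
theorem mem_range_conjNormal (n r : ℕ) [hr : Fact r.Prime] (hn5 : 5 ≤ n) (hcase : n ≠ 6 ∨ r ≠ 2)
    (f : MulAut (alternatingGroup (Fin n))) (hf : ∃ k : ℕ, f ^ r ^ k = 1) :
    ∃ σ : Perm (Fin n), MulAut.conjNormal σ = f := by
  by_cases h6 : n = 6
  · subst h6
    have hr2 : r ≠ 2 := hcase.resolve_left (by simp)
    obtain ⟨k, hk⟩ := hf
    have hodd : Odd (orderOf f) := by
      have hdvd : orderOf f ∣ r ^ k := orderOf_dvd_of_pow_eq_one hk
      obtain ⟨j, _, hj⟩ := (Nat.dvd_prime_pow hr.out).mp hdvd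
      rw [hj]
      exact (hr.out.odd_of_ne_two hr2).pow
    apply Cfsg.Agent.S2119.step2 (by simp) f
    intro g hg
    exact odd_preserves f hodd g hg
  · exact (Cfsg.Agent.S2119.result n (by omega) h6).2 f

theorem psubgroup_comm (n r : ℕ) [hr : Fact r.Prime] (hn5 : 5 ≤ n) (hcase : n ≠ 6 ∨ r ≠ 2)
    (Q : Subgroup (MulAut (alternatingGroup (Fin n)))) (hQ : IsPGroup r Q) (hnr : n < r ^ 2)
    (a b : MulAut (alternatingGroup (Fin n))) (ha : a ∈ Q) (hb : b ∈ Q) : a * b = b * a := by
  have hinj := Cfsg.Agent.S2119.conj_injective (n := n) (by omega)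
  have hQ' : IsPGroup r (Q.comap (MulAut.conjNormal :
      Perm (Fin n) →* MulAut (alternatingGroup (Fin n)))) := hQ.comap_of_injective _ hinj
  have hmem : ∀ f ∈ Q, ∃ k : ℕ, f ^ r ^ k = 1 := by
    intro f hf
    obtain ⟨k, hk⟩ := hQ ⟨f, hf⟩
    exact ⟨k, by simpa using congrArg Subtype.val hk⟩
  obtain ⟨σ, rfl⟩ := mem_range_conjNormal n r hn5 hcase a (hmem a ha)
  obtain ⟨τ, rfl⟩ := mem_range_conjNormal n r hn5 hcase b (hmem b hb)
  rw [← map_mul, ← map_mul]
  congr 1
  exact pgroup_perm_comm _ hQ' hnr σ τ ha hb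

theorem conj_injective_alt (n : ℕ) (hn : 5 ≤ n) :
    Function.Injective (MulAut.conj : alternatingGroup (Fin n) →* MulAut (alternatingGroup (Fin n))) := by
  rw [injective_iff_map_eq_one]
  intro x hx
  have hc : x ∈ Subgroup.center (alternatingGroup (Fin n)) := by
    rw [Subgroup.mem_center_iff]
    intro y
    have := congrArg (fun f : MulAut (alternatingGroup (Fin n)) => f y) hx
    simp only [MulAut.conj_apply, MulAut.one_apply] at this
    calc y * x = (x * y * x⁻¹) * x := by rw [this]
      _ = x * y := by group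
  rw [alternatingGroup.center_eq_bot (by simpa using (by omega : 4 ≤ n))] at hc
  exact Subgroup.mem_bot.mp hc

/-- a non-abelian Sylow `r`-subgroup forces `r^2 ≤ n` -/
theorem sq_le_of_not_comm (n r : ℕ) [hr : Fact r.Prime] (hn5 : 5 ≤ n) (hcase : n ≠ 6 ∨ r ≠ 2)
    (G : Subgroup (MulAut (alternatingGroup (Fin n)))) (R : Sylow r G)
    (hR : ¬ IsMulCommutative (R : Subgroup G)) : r ^ 2 ≤ n := by
  by_contra hlt
  push Not at hlt
  apply hR
  refine ⟨⟨fun u v => ?_⟩⟩
  have hQ : IsPGroup r ((R : Subgroup G).map G.subtype) := R.isPGroup'.map _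
  have := psubgroup_comm n r hn5 hcase _ hQ hlt (u : G) (v : G)
    (Subgroup.mem_map.mpr ⟨u, u.2, rfl⟩) (Subgroup.mem_map.mpr ⟨v, v.2, rfl⟩)
  apply Subtype.ext
  apply Subtype.ext
  exact this

theorem prime_sq_gt_six (r : ℕ) (hr : r.Prime) (h2 : r ≠ 2) : ¬ r ^ 2 ≤ 6 := by
  have := hr.two_le
  have h3 : 3 ≤ r := by omega
  intro h
  nlinarith

theorem exists_orderOf (n : ℕ) (hn : 5 ≤ n) (G : Subgroup (MulAut (alternatingGroup (Fin n))))
    (hG : (MulAut.conj : alternatingGroup (Fin n) →* MulAut (alternatingGroup (Fin n))).range ≤ G)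
    (p q : ℕ) (hp : p.Prime) (hq : q.Prime) (hpq : p < q) (hqn : q ^ 2 ≤ n) :
    ∃ g : G, orderOf g = p * q := by
  obtain ⟨x, hx⟩ := exists_orderOf_mul hp hq hpq hqn
  refine ⟨⟨MulAut.conj x, hG ⟨x, rfl⟩⟩, ?_⟩
  rw [Subgroup.orderOf_mk, orderOf_injective _ (conj_injective_alt n hn), hx]

/-- Let n ≥ 5 and let G be a group of automorphisms of the alternating group of degree n containing all inner automorphisms. If p ≠ q are primes and G has no element of order pq, then every Sylow p-subgroup of G is abelian or every Sylow q-subgroup of G is abelian. -/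
theorem result (n : ℕ) (hn : 5 ≤ n) (G : Subgroup (MulAut (alternatingGroup (Fin n))))
    (hG : (MulAut.conj : alternatingGroup (Fin n) →* MulAut (alternatingGroup (Fin n))).range ≤ G)
    (p q : ℕ) [Fact p.Prime] [Fact q.Prime] (hpq : p ≠ q) (h : ∀ g : G, orderOf g ≠ p * q) :
    (∀ P : Sylow p G, IsMulCommutative (P : Subgroup G)) ∨ (∀ Q : Sylow q G, IsMulCommutative (Q : Subgroup G)) := by
  have hp : p.Prime := Fact.out
  have hq : q.Prime := Fact.out
  by_contra hcon
  push Not at hcon
  obtain ⟨⟨P0, hP0⟩, ⟨Q0, hQ0⟩⟩ := hcon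
  by_cases h6 : n = 6
  · -- one of the primes is odd
    by_cases hp2 : p = 2
    · have hq2 : q ≠ 2 := fun hq2 => hpq (hp2.trans hq2.symm)
      have := sq_le_of_not_comm n q hn (Or.inr hq2) G Q0 hQ0
      rw [h6] at this
      exact prime_sq_gt_six q hq hq2 this
    · have := sq_le_of_not_comm n p hn (Or.inr hp2) G P0 hP0
      rw [h6] at this
      exact prime_sq_gt_six p hp hp2 this
  · have h1 := sq_le_of_not_comm n p hn (Or.inl h6) G P0 hP0
    have h2 := sq_le_of_not_comm n q hn (Or.inl h6) G Q0 hQ0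
    rcases lt_or_gt_of_ne hpq with hlt | hlt
    · obtain ⟨g, hg⟩ := exists_orderOf n hn G hG p q hp hq hlt h2
      exact h g hg
    · obtain ⟨g, hg⟩ := exists_orderOf n hn G hG q p hq hp hlt h1
      rw [mul_comm] at hg
      exact h g hg

end Cfsg.Agent.S4231
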