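import Cfsg.Statements.S4236
import Cfsg.Agent.Lib.Helper45_SylowTwoP
import Cfsg.Agent.Lib.Helper45_SylowReduce
import Mathlib

set_option autoImplicit false
open Cfsg

namespace Cfsg.Agent.S4236

theorem not_isPrimePow_35 : ¬ IsPrimePow 35 := by
  rintro ⟨q, k, hq, hk, hqk⟩
  have hq' : q.Prime := hq.nat_prime
  have h5 : 5 ∣ q ^ k := by rw [hqk]; norm_num
  have h7 : 7 ∣ q ^ k := by rw [hqk]; norm_num
  have e5 := (Nat.prime_dvd_prime_iff_eq (by norm_num) hq').1
    ((by norm_num : Nat.Prime 5).dvd_of_dvd_pow h5)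
  have e7 := (Nat.prime_dvd_prime_iff_eq (by norm_num) hq').1
    ((by norm_num : Nat.Prime 7).dvd_of_dvd_pow h7)
  omega

theorem dvd_35 {d : ℕ} (hd : d ∣ 35) : d = 1 ∨ d = 5 ∨ d = 7 ∨ d = 35 := by
  have h1 : d ∈ Nat.divisors 35 := Nat.mem_divisors.2 ⟨hd, by norm_num⟩
  have h2 : Nat.divisors 35 = {1, 5, 7, 35} := by decide
  rw [h2] at h1
  simpa using h1

/-- No finite group has exactly 35 Sylow 17-subgroups. -/
theorem result {G : Type*} [Group G] [Finite G] : Nat.card (Sylow 17 G) ≠ 35 := by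
  intro hn
  have h17 : Fact (Nat.Prime 17) := ⟨by norm_num⟩
  have hpp : ∀ d, d ∣ 35 → IsPrimePow d → d % 17 ≠ 1 := by
    intro d hd hpp
    rcases dvd_35 hd with rfl | rfl | rfl | rfl
    · exact absurd hpp not_isPrimePow_one
    · norm_num
    · norm_num
    · exact absurd hpp not_isPrimePow_35
  have hdiv : ∀ d, d ∣ 35 → d % 17 = 1 → d = 1 ∨ d = 35 := by
    intro d hd hmod
    rcases dvd_35 hd with rfl | rfl | rfl | rfl <;> omega
  obtain ⟨S, iG, iF, hS, hnS⟩ :=
    Cfsg.Agent.Lib.Helper45_SylowReduce.exists_simple_of_card_sylow (G := G) 17 35 hn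
      (by norm_num) hpp hdiv
  have hn' : Nat.card (Sylow 17 S) = 2 * 17 + 1 := hnS
  have hodd := Cfsg.Agent.Lib.Helper45_SylowTwoP.two_not_dvd_card hS (by norm_num) hn'
  have P : Sylow 17 S := default
  have hcard := Cfsg.Agent.Lib.Helper45_SylowTwoP.card_eq_p hS (by norm_num) hn' P
  have hcop : Nat.Coprime (Nat.card S) (17 - 1) := by
    have e : (17 - 1 : ℕ) = 2 ^ 4 := by norm_num
    rw [e]
    apply Nat.Coprime.pow_right
    exact Nat.coprime_comm.1 ((Nat.Prime.coprime_iff_not_dvd Nat.prime_two).2 hodd)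
  have h := Cfsg.Agent.Lib.Helper45_SylowTwoP.card_eq_of_coprime hS P hcard hcop
  have h1 : Nat.card (Sylow 17 S) ∣ Nat.card S :=
    (Sylow.card_dvd_index P).trans (Subgroup.index_dvd_card _)
  rw [hnS, h] at h1
  omega

end Cfsg.Agent.S4236
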