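import Mathlib
import Cfsg.Statements.S4237
import Cfsg.Agent.Lib.Helper70_Wielandt
import Cfsg.Agent.Lib.Helper63_Miller
-- import your own Cfsg.Agent.* helpers here

set_option autoImplicit false
open Cfsg

namespace Cfsg.Agent.S4237

open Cfsg.Agent.Lib.Helper70_Wielandt

/-- the number of non-cyclic subgroups of order `p ^ (a+2)` is `0` or `1` mod `p`. -/
theorem card_noncyclic_mod {G : Type*} [Group G] [Finite G] {p : ℕ} [hpf : Fact p.Prime] (a : ℕ)
    (hdvd : p ^ (a + 2) ∣ Nat.card G) :
    Nat.card {L : Subgroup G // Nat.card L = p ^ (a + 2) ∧ ¬ IsCyclic L} ≡ 0 [MOD p] ∨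
      Nat.card {L : Subgroup G // Nat.card L = p ^ (a + 2) ∧ ¬ IsCyclic L} ≡ 1 [MOD p] := by
  classical
  have hp := hpf.out
  by_cases hp2 : p = 2
  · subst hp2
    rcases Nat.mod_two_eq_zero_or_one
      (Nat.card {L : Subgroup G // Nat.card L = 2 ^ (a + 2) ∧ ¬ IsCyclic L}) with h | h
    · left; exact h
    · right; exact h
  -- odd p
  obtain P : Sylow p G := default
  have hF := card_subgroups_modEq_one (G := G) (p := p) (a + 2) hdvd
  have hsplit := card_split (fun L : Subgroup G => Nat.card L = p ^ (a + 2))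
    (fun L : Subgroup G => IsCyclic L)
  have hred := card_modEq_card_le_sylow P
    (fun C : Subgroup G => Nat.card C = p ^ (a + 2) ∧ IsCyclic C)
    (by
      rintro C g ⟨h1, h2⟩
      refine ⟨?_, ?_⟩
      · rw [Subgroup.card_map_of_injective (MulAut.conj g).injective]; exact h1
      · exact ((C.equivMapOfInjective (MulAut.conj g).toMonoidHom
          (MulAut.conj g).injective).isCyclic).1 h2)
    (by
      rintro C ⟨h1, _⟩
      exact IsPGroup.of_card h1)
  -- the number of cyclic subgroups of order p^(a+2) inside P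
  have hPdvd : p ^ (a + 2) ∣ Nat.card (P : Subgroup G) := by
    rw [P.card_eq_multiplicity]
    apply pow_dvd_pow
    exact (hp.pow_dvd_iff_le_factorization Nat.card_pos.ne').1 hdvd
  have hcP : Nat.card {C : Subgroup G // (Nat.card C = p ^ (a + 2) ∧ IsCyclic C) ∧
      C ≤ (P : Subgroup G)} ≡ 0 [MOD p] ∨
      Nat.card {C : Subgroup G // (Nat.card C = p ^ (a + 2) ∧ IsCyclic C) ∧
      C ≤ (P : Subgroup G)} ≡ 1 [MOD p] := by
    by_cases hcyc : IsCyclic (P : Subgroup G)
    · right
      have h1 := card_subgroups_cyclic (G := (P : Subgroup G)) (p := p) (j := a + 2) hPdvd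
      rw [← card_subgroups_le] at h1
      have e : {C : Subgroup G // (Nat.card C = p ^ (a + 2) ∧ IsCyclic C) ∧
          C ≤ (P : Subgroup G)} ≃
          {K : Subgroup G // Nat.card K = p ^ (a + 2) ∧ K ≤ (P : Subgroup G)} :=
        Equiv.subtypeEquivRight (fun C => by
          constructor
          · rintro ⟨⟨h1, _⟩, h3⟩
            exact ⟨h1, h3⟩
          · rintro ⟨h1, h3⟩
            refine ⟨⟨h1, ?_⟩, h3⟩
            have : IsCyclic (C.subgroupOf (P : Subgroup G)) := inferInstance
            exact ((Subgroup.subgroupOfEquivOfLe h3).isCyclic).1 this)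
      rw [Nat.card_congr e, h1]
    · left
      have hm := Cfsg.Agent.Lib.Helper63_Miller.miller (R := (P : Subgroup G)) hp2 P.2 hcyc
        (s := a + 2) (by omega)
      have ht := Cfsg.Agent.Lib.Helper63_Miller.card_orderOf_eq_totient_mul (P : Subgroup G)
        (p ^ (a + 2))
      have e1 : {x : (P : Subgroup G) // orderOf x = p ^ (a + 2)} ≃
          {x : G // x ∈ (P : Subgroup G) ∧ orderOf x = p ^ (a + 2)} :=
        { toFun := fun x => ⟨x.1.1, x.1.2, by rw [Subgroup.orderOf_coe]; exact x.2⟩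
          invFun := fun x => ⟨⟨x.1, x.2.1⟩, by rw [Subgroup.orderOf_mk]; exact x.2.2⟩
          left_inv := fun x => rfl
          right_inv := fun x => rfl }
      rw [Nat.card_congr e1, ht, Nat.totient_prime_pow_succ hp] at hm
      have e2 : {D : Subgroup G // D ≤ (P : Subgroup G) ∧ IsCyclic D ∧ Nat.card D = p ^ (a + 2)} ≃
          {C : Subgroup G // (Nat.card C = p ^ (a + 2) ∧ IsCyclic C) ∧ C ≤ (P : Subgroup G)} :=
        Equiv.subtypeEquivRight (fun C => by tauto)
      rw [Nat.card_congr e2] at hm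
      set cP := Nat.card {C : Subgroup G // (Nat.card C = p ^ (a + 2) ∧ IsCyclic C) ∧
        C ≤ (P : Subgroup G)} with hcPdef
      -- p^(a+2) ∣ p^(a+1) (p-1) cP
      have h2 : p ^ (a + 1) * p ∣ p ^ (a + 1) * ((p - 1) * cP) := by
        rw [← pow_succ, ← mul_assoc]; exact hm
      have h3 : p ∣ (p - 1) * cP := Nat.dvd_of_mul_dvd_mul_left (pow_pos hp.pos _) h2
      rcases (Nat.Prime.dvd_mul hp).1 h3 with h4 | h4
      · exfalso
        have := Nat.le_of_dvd (by have := hp.two_le; omega) h4
        have := hp.two_le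
        omega
      · exact (Nat.modEq_zero_iff_dvd).2 h4
  -- combine
  set s := Nat.card {L : Subgroup G // Nat.card L = p ^ (a + 2)} with hs
  set c := Nat.card {L : Subgroup G // Nat.card L = p ^ (a + 2) ∧ IsCyclic L} with hc
  set nc := Nat.card {L : Subgroup G // Nat.card L = p ^ (a + 2) ∧ ¬ IsCyclic L} with hnc
  set cP := Nat.card {C : Subgroup G // (Nat.card C = p ^ (a + 2) ∧ IsCyclic C) ∧
      C ≤ (P : Subgroup G)} with hcPdef
  clear_value s c nc cP
  -- s = c + nc, s ≡ 1, c ≡ cP
  rcases hcP with h | h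
  · right
    have h1 : c ≡ 0 [MOD p] := hred.trans h
    have h2 : c + nc ≡ 0 + nc [MOD p] := Nat.ModEq.add_right nc h1
    rw [← hsplit, zero_add] at h2
    exact h2.symm.trans hF
  · left
    have h1 : c ≡ 1 [MOD p] := hred.trans h
    have h2 : c + nc ≡ 1 + nc [MOD p] := Nat.ModEq.add_right nc h1
    rw [← hsplit] at h2
    have h3 : 1 + nc ≡ 1 + 0 [MOD p] := h2.symm.trans hF
    exact Nat.ModEq.add_left_cancel' 1 h3

/-- Let G be a finite group, p a prime and a a natural number such that p^(a+1) divides the order of G. Then the number of subgroups of G of order p^a is congruent to 1 or to 1 + p modulo p². -/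
theorem result {G : Type*} [Group G] [Finite G] (p a : ℕ) (hp : p.Prime) (hdvd : p ^ (a + 1) ∣ Nat.card G) :
    Nat.card {H : Subgroup G // Nat.card H = p ^ a} ≡ 1 [MOD p ^ 2] ∨
      Nat.card {H : Subgroup G // Nat.card H = p ^ a} ≡ 1 + p [MOD p ^ 2] := by
  classical
  have : Fact p.Prime := ⟨hp⟩
  rcases Nat.eq_zero_or_pos a with ha | ha
  · subst ha
    left
    have : Nat.card {H : Subgroup G // Nat.card H = p ^ 0} = 1 := by
      rw [Nat.card_eq_one_iff_unique]
      refine ⟨⟨fun H K => Subtype.ext ?_⟩, ⟨⟨⊥, by simp⟩⟩⟩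
      have h1 : Nat.card H.1 = 1 := by rw [H.2, pow_zero]
      have h2 : Nat.card K.1 = 1 := by rw [K.2, pow_zero]
      rw [Subgroup.card_eq_one] at h1 h2
      rw [h1, h2]
    rw [this]
  · obtain ⟨a', rfl⟩ : ∃ a', a = a' + 1 := ⟨a - 1, by omega⟩
    obtain ⟨m, hm⟩ := hdvd
    have hW := card_subgroups_modEq (G := G) (p := p) (a' + 1) m hm
    have hnc := card_noncyclic_mod (G := G) (p := p) a' ⟨m, hm⟩
    set nc := Nat.card {L : Subgroup G // Nat.card L = p ^ (a' + 1 + 1) ∧ ¬ IsCyclic L} with hncdef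
    clear_value nc
    rcases hnc with h | h
    · left
      refine hW.trans ?_
      obtain ⟨k, hk⟩ := (Nat.modEq_zero_iff_dvd).1 h
      rw [hk, ← mul_assoc, ← sq]
      rw [Nat.ModEq, Nat.add_mul_mod_self_left]
    · right
      refine hW.trans ?_
      have h1 : p * nc ≡ p * 1 [MOD p * p] := Nat.ModEq.mul_left' p h
      rw [mul_one, ← sq] at h1
      exact Nat.ModEq.add_left 1 h1

end Cfsg.Agent.S4237
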