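import Cfsg.Statements.S4238
import Cfsg.Agent.Lib.Helper29_NPCSections
import Cfsg.Agent.S0072
import Cfsg.Agent.Lib.Helper35_FrobeniusNPC
import Cfsg.Agent.Lib.Helper35_FrobeniusCor
import Cfsg.Agent.Lib.Helper1_Cores

set_option autoImplicit false
open Cfsg

namespace Cfsg.Agent.S4238

open Cfsg.Agent.Lib
open Cfsg.Agent.Lib.Helper35_FrobeniusNPC
open Cfsg.Agent.Lib.Helper29_NPCSections

theorem hasNPC_quotient_map {G G' : Type*} [Group G] [Group G'] {p : ℕ} [Fact p.Prime]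
    (f : G →* G') (hf : Function.Surjective f) (h : HasNPC p G) : HasNPC p G' := by
  obtain ⟨K, hKn, hKc, n, hKi⟩ := h
  refine ⟨K.map f, hKn.map f hf, ?_, ?_⟩
  · have hdvd : Nat.card (K.map f) ∣ Nat.card K := Subgroup.card_map_dvd K f
    exact Nat.Coprime.coprime_dvd_left hdvd hKc
  · have h1 : (K.map f).index ∣ K.index := Subgroup.index_map_dvd K hf
    rw [hKi] at h1
    obtain ⟨j, -, hj⟩ := (Nat.dvd_prime_pow (Fact.out : p.Prime)).mp h1
    exact ⟨j, hj⟩

/-- Let G be a finite group and p a prime. Then G has a normal p-complement if and only if every section K = H/N of G (N a normal subgroup of a subgroup H) whose largest normal subgroup of order prime to p is trivial contains an element whose order equals the exponent of K. -/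
theorem result {G : Type*} [Group G] [Finite G] (p : ℕ) [Fact p.Prime] :
    Cfsg.HasNormalPComplement p G ↔
      ∀ (H : Subgroup G) (N : Subgroup H) [N.Normal], Cfsg.pPrimeCore p (H ⧸ N) = ⊥ →
        ∃ k : H ⧸ N, orderOf k = Monoid.exponent (H ⧸ N) := by
  have hp : p.Prime := Fact.out
  constructor
  · intro hG H N _ hcore
    rw [Cfsg.Agent.S0072.hasNPC_iff] at hG
    have h1 : HasNPC p H := hasNPC_subgroup hG H
    have h2 : HasNPC p (H ⧸ N) :=
      hasNPC_quotient_map (QuotientGroup.mk' N) (QuotientGroup.mk'_surjective N) h1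
    obtain ⟨K, hKn, hKc, n, hKi⟩ := h2
    have hK : K = ⊥ := by
      have := Helper1_Cores.le_pPrimeCore hKn hKc
      rwa [hcore, le_bot_iff] at this
    rw [hK, Subgroup.index_bot] at hKi
    exact exists_orderOf_eq_exponent_of_card hKi
  · intro hsec
    rw [Cfsg.Agent.S0072.hasNPC_iff]
    by_contra hn
    classical
    obtain ⟨Good, hGood⟩ : ∃ Good : Subgroup G → G → Prop, ∀ Q h, Good Q h ↔
        (IsPGroup p Q ∧ (∃ r k : ℕ, r.Prime ∧ r ≠ p ∧ orderOf h = r ^ k) ∧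
          h ∈ Subgroup.normalizer (Q : Set G) ∧ h ∉ Subgroup.centralizer (Q : Set G)) :=
      ⟨_, fun _ _ => Iff.rfl⟩
    have hex : ∃ n, ∃ Q h, Good Q h ∧ Nat.card Q = n := by
      obtain ⟨Q, r, k, h, b, c, hQ, hr, hrp, -, hoh, hhN, hhC, -⟩ :=
        Helper35_FrobeniusCor.exists_primePow_of_not_hasNPC hn
      exact ⟨_, Q, h, (hGood Q h).mpr ⟨hQ, ⟨r, k, hr, hrp, hoh⟩, hhN, hhC⟩, rfl⟩
    obtain ⟨n₁, hn₁⟩ : ∃ n₁, n₁ = Nat.find hex := ⟨_, rfl⟩
    obtain ⟨Q₀, h₀, hg₀, hc₀⟩ := Nat.find_spec hex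
    have min1 : ∀ Q' h', Good Q' h' → n₁ ≤ Nat.card Q' := fun Q' h' hg =>
      hn₁ ▸ Nat.find_min' hex ⟨Q', h', hg, rfl⟩
    have hex2 : ∃ m, ∃ Q h, Good Q h ∧ Nat.card Q = n₁ ∧ orderOf h = m :=
      ⟨_, Q₀, h₀, hg₀, hn₁ ▸ hc₀, rfl⟩
    obtain ⟨n₂, hn₂⟩ : ∃ n₂, n₂ = Nat.find hex2 := ⟨_, rfl⟩
    obtain ⟨Q, h, hgood, hcardQ, hordh⟩ := Nat.find_spec hex2
    have min2 : ∀ Q' h', Good Q' h' → Nat.card Q' = n₁ → n₂ ≤ orderOf h' := fun Q' h' hg hc =>
      hn₂ ▸ Nat.find_min' hex2 ⟨Q', h', hg, hc, rfl⟩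
    rw [← hn₂] at hordh
    obtain ⟨hQ, ⟨r, k, hr, hrp, hoh⟩, hhN, hhC⟩ := (hGood Q h).mp hgood
    have hk0 : k ≠ 0 := by
      rintro rfl
      rw [pow_zero, orderOf_eq_one_iff] at hoh
      exact hhC (hoh ▸ one_mem _)
    -- minimality consequences
    have hi : ∀ Q₁ : Subgroup G, IsPGroup p Q₁ → Nat.card Q₁ < Nat.card Q →
        h ∈ Subgroup.normalizer (Q₁ : Set G) → h ∈ Subgroup.centralizer (Q₁ : Set G) := by
      intro Q₁ hQ₁ hlt hN₁
      by_contra hC₁
      have := min1 Q₁ h ((hGood Q₁ h).mpr ⟨hQ₁, ⟨r, k, hr, hrp, hoh⟩, hN₁, hC₁⟩)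
      omega
    have hii : h ^ r ∈ Subgroup.centralizer (Q : Set G) := by
      by_contra hC₁
      obtain ⟨k', rfl⟩ : ∃ k', k = k' + 1 := ⟨k - 1, by omega⟩
      have ho : orderOf (h ^ r) = r ^ k' := by
        rw [orderOf_pow_of_dvd hr.ne_zero (by rw [hoh, pow_succ]; exact dvd_mul_left _ _), hoh,
          pow_succ, Nat.mul_div_cancel _ hr.pos]
      have := min2 Q (h ^ r) ((hGood Q (h ^ r)).mpr
        ⟨hQ, ⟨r, k', hr, hrp, ho⟩, Subgroup.pow_mem _ hhN r, hC₁⟩) hcardQ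
      rw [ho, ← hordh, hoh, pow_succ] at this
      have h2 : r ^ k' * 1 < r ^ k' * r :=
        Nat.mul_lt_mul_of_pos_left hr.one_lt (Nat.pow_pos hr.pos)
      omega
    -- the subgroup `H = Q ⟨h⟩`
    obtain ⟨H, hH⟩ : ∃ H : Subgroup G, H = Q ⊔ Subgroup.zpowers h := ⟨_, rfl⟩
    have hQH : Q ≤ H := hH ▸ le_sup_left
    have hhH : h ∈ H := hH ▸ (le_sup_right : Subgroup.zpowers h ≤ _) (Subgroup.mem_zpowers h)
    have hHnorm : H ≤ Subgroup.normalizer (Q : Set G) := by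
      rw [hH]; exact sup_le Subgroup.le_normalizer (Subgroup.zpowers_le.mpr hhN)
    have hQ'n : (Q.subgroupOf H).Normal :=
      (Subgroup.normal_subgroupOf_iff_le_normalizer hQH).mpr hHnorm
    have hQ' : IsPGroup p (Q.subgroupOf H) :=
      hQ.comap_of_injective _ (Subgroup.subtype_injective _)
    have hord' : orderOf (⟨h, hhH⟩ : H) = r ^ k := by rw [Subgroup.orderOf_mk]; exact hoh
    have htop' : Q.subgroupOf H ⊔ Subgroup.zpowers (⟨h, hhH⟩ : H) = ⊤ := by
      apply Subgroup.map_injective H.subtype_injective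
      rw [Subgroup.map_sup, Subgroup.map_subgroupOf_eq_of_le hQH, MonoidHom.map_zpowers,
        ← MonoidHom.range_eq_map, Subgroup.range_subtype]
      exact hH.symm
    have hnc' : (⟨h, hhH⟩ : H) ∉ Subgroup.centralizer ((Q.subgroupOf H : Subgroup H) : Set H) := by
      intro hc
      apply hhC
      rw [Subgroup.mem_centralizer_iff]
      intro x hx
      have := (Subgroup.mem_centralizer_iff.mp hc) ⟨x, hQH hx⟩ (Subgroup.mem_subgroupOf.mpr hx)
      exact congrArg Subtype.val this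
    have hr'' : (⟨h, hhH⟩ : H) ^ r ∈
        Subgroup.centralizer ((Q.subgroupOf H : Subgroup H) : Set H) := by
      rw [Subgroup.mem_centralizer_iff]
      intro x hx
      have := (Subgroup.mem_centralizer_iff.mp hii) (x : G) (Subgroup.mem_subgroupOf.mp hx)
      apply Subtype.ext
      simpa using this
    have hmin' : ∀ Q₁ : Subgroup H, Q₁.Normal → Q₁ ≤ Q.subgroupOf H → Q₁ ≠ Q.subgroupOf H →
        (⟨h, hhH⟩ : H) ∈ Subgroup.centralizer (Q₁ : Set H) := by
      intro Q₁ hQ₁n hQ₁le hQ₁ne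
      have hP₁ : IsPGroup p (Q₁.map H.subtype) := (hQ'.to_le hQ₁le).map H.subtype
      have hle₁ : Q₁.map H.subtype ≤ Q := by
        rw [← Subgroup.map_subgroupOf_eq_of_le hQH]
        exact Subgroup.map_mono hQ₁le
      have hlt : Nat.card (Q₁.map H.subtype) < Nat.card Q := by
        by_contra hge
        push Not at hge
        have heq := Subgroup.eq_of_le_of_card_ge hle₁ hge
        apply hQ₁ne
        apply Subgroup.map_injective H.subtype_injective
        rw [heq, Subgroup.map_subgroupOf_eq_of_le hQH]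
      have hN₁ : h ∈ Subgroup.normalizer ((Q₁.map H.subtype : Subgroup G) : Set G) := by
        apply Subgroup.mem_normalizer_fintype
        rintro _ ⟨x, hx, rfl⟩
        exact ⟨⟨h, hhH⟩ * x * ⟨h, hhH⟩⁻¹, hQ₁n.conj_mem x hx _, rfl⟩
      have hC₁ := hi _ hP₁ hlt hN₁
      rw [Subgroup.mem_centralizer_iff]
      intro x hx
      have := (Subgroup.mem_centralizer_iff.mp hC₁) (x : G) ⟨x, hx, rfl⟩
      exact Subtype.ext this
    obtain ⟨N, hNn, hcore, hne⟩ := lemmaB (p := p) hr hrp (Q.subgroupOf H) hQ' ⟨h, hhH⟩ hord'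
      htop' hnc' hmin' hr''
    obtain ⟨k₀, hk₀⟩ := hsec H N hcore
    exact hne k₀ hk₀

end Cfsg.Agent.S4238
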