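import Cfsg.Statements.S4242
import Cfsg.Agent.S0132
import Cfsg.Agent.S0072
import Cfsg.Agent.Lib.Helper35_FrobeniusNPC
import Cfsg.Agent.Lib.Helper35_PGroupAut
import Cfsg.Agent.Lib.Helper1_Coprime
import Cfsg.Agent.Lib.Helper1_FPF

set_option autoImplicit false
open Cfsg

namespace Cfsg.Agent.S4242

open Subgroup
open Cfsg.Agent.Lib
open Cfsg.Agent.Lib.Helper35_FrobeniusNPC

/-- a finite nilpotent group has a normal `p`-complement -/
theorem hasNPC_of_nilpotent {K : Type*} [Group K] [Finite K] [Group.IsNilpotent K] (p : ℕ)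
    [Fact p.Prime] : HasNPC p K := by
  apply hasNPC_of_frobHyp
  intro Q hQ g _ hgo
  rw [mem_centralizer_iff]
  intro x hx
  obtain ⟨k, hk⟩ := hQ ⟨x, hx⟩
  have hxk : x ^ p ^ k = 1 := by
    have := congrArg Subtype.val hk
    simpa using this
  exact (Helper35_PGroupAut.commute_of_coprime_of_isNilpotent hgo hxk).eq.symm

/-- a `p'`-group has a normal `p`-complement -/
theorem hasNPC_of_coprime_card {K : Type*} [Group K] {p : ℕ} (h : (Nat.card K).Coprime p) :
    HasNPC p K := by
  refine ⟨⊤, inferInstance, ?_, 0, by simp⟩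
  rwa [card_top]

theorem isNilpotent_of_le {G : Type*} [Group G] {H M : Subgroup G} (h : H ≤ M)
    (hM : Group.IsNilpotent M) : Group.IsNilpotent H :=
  Group.nilpotent_of_mulEquiv (subgroupOfEquivOfLe h)

theorem forward {G : Type*} [Group G] [Finite G] (p : ℕ) [hpf : Fact p.Prime]
    (hpG : p ∣ Nat.card G)
    (hmax : ∀ M : Subgroup G, IsCoatom M → p ∣ Nat.card M → Group.IsNilpotent M) :
    (Group.IsNilpotent G ∨ Cfsg.IsMinimalNonNilpotent G ∨
        ∃ Z K : Subgroup G, Z.Normal ∧ K.Normal ∧ Z ⊓ K = ⊥ ∧ Z ⊔ K = ⊤ ∧ Nat.card Z = p ∧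
          Cfsg.IsMinimalNonNilpotent K ∧ ¬ p ∣ Nat.card K) := by
  classical
  have hp : p.Prime := hpf.out
  by_cases hnil : Group.IsNilpotent G
  · exact Or.inl hnil
  right
  -- proper subgroups of order divisible by `p` are nilpotent
  have F1 : ∀ H : Subgroup G, H ≠ ⊤ → p ∣ Nat.card H → Group.IsNilpotent H := by
    intro H hH hpH
    obtain ⟨M, hM, hHM⟩ := (eq_top_or_exists_le_coatom H).resolve_left hH
    exact isNilpotent_of_le hHM (hmax M hM (hpH.trans (card_dvd_of_le hHM)))
  by_cases hnpc : HasNPC p G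
  swap
  · -- minimal non-`p`-nilpotent
    left
    have h1 : ¬ Cfsg.HasNormalPComplement p G := by
      rw [Cfsg.Agent.S0072.hasNPC_iff]; exact hnpc
    have h2 : ∀ H : Subgroup G, H ≠ ⊤ → Cfsg.HasNormalPComplement p H := by
      intro H hH
      rw [Cfsg.Agent.S0072.hasNPC_iff]
      by_cases hpH : p ∣ Nat.card H
      · have := F1 H hH hpH
        exact hasNPC_of_nilpotent p
      · exact hasNPC_of_coprime_card ((Nat.Prime.coprime_iff_not_dvd hp).mpr hpH).symm
    obtain ⟨h3, h4, -⟩ := Cfsg.Agent.S0132.result h1 h2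
    exact ⟨h4, h3⟩
  · by_cases hmn : Cfsg.IsMinimalNonNilpotent G
    · exact Or.inl hmn
    right
    obtain ⟨N, hNn, hNc, n, hNi⟩ := hnpc
    have hpN : ¬ p ∣ Nat.card N := fun hd =>
      hp.one_lt.ne' (Nat.dvd_one.mp (hNc ▸ Nat.dvd_gcd hd dvd_rfl))
    have hNtop : N ≠ ⊤ := by
      rintro rfl
      rw [card_top] at hpN
      exact hpN hpG
    -- a non-nilpotent proper subgroup
    have hex : ∃ H₀ : Subgroup G, H₀ ≠ ⊤ ∧ ¬ Group.IsNilpotent H₀ := by
      by_contra hcon
      push Not at hcon
      exact hmn ⟨hnil, hcon⟩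
    obtain ⟨H₀, hH₀, hH₀n⟩ := hex
    obtain ⟨M₀, hM₀, hHM₀⟩ := (eq_top_or_exists_le_coatom H₀).resolve_left hH₀
    have hM₀n : ¬ Group.IsNilpotent M₀ := fun h => hH₀n (isNilpotent_of_le hHM₀ h)
    have hpM₀ : ¬ p ∣ Nat.card M₀ := fun hd => hM₀n (hmax M₀ hM₀ hd)
    have hM₀N : M₀ ≤ N := by
      intro y hy
      apply mem_of_coprime_order N hNi
      have h1 : orderOf y ∣ Nat.card M₀ := by
        have := orderOf_dvd_natCard (⟨y, hy⟩ : M₀)
        rwa [orderOf_mk] at this
      exact Nat.Coprime.coprime_dvd_left h1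
        ((Nat.Prime.coprime_iff_not_dvd hp).mpr hpM₀).symm
    have hMN : N = M₀ := by
      rcases hM₀.le_iff.mp hM₀N with h | h
      · exact absurd h hNtop
      · exact h
    have hNco : IsCoatom N := hMN ▸ hM₀
    have hNnil : ¬ Group.IsNilpotent N := hMN ▸ hM₀n
    -- the Sylow `p`-subgroup
    obtain ⟨P⟩ : Nonempty (Sylow p G) := inferInstance
    have hcompl : N.IsComplement' (P : Subgroup G) := isComplement'_of_npc hNc hNi P
    have hcard : Nat.card N * Nat.card (P : Subgroup G) = Nat.card G := hcompl.card_mul_card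
    have hPN : (P : Subgroup G) ≤ normalizer (N : Set G) := by
      rw [normalizer_eq_top]; exact le_top
    have hPne : (P : Subgroup G) ≠ ⊥ := P.ne_bot_of_dvd_card hpG
    have hpP : p ∣ Nat.card (P : Subgroup G) := by
      rcases P.2.card_eq_or_dvd with h | h
      · exact absurd (card_eq_one.mp h) hPne
      · exact h
    obtain ⟨k, hk⟩ := P.2.exists_card_eq
    have hcop : (Nat.card (P : Subgroup G)).Coprime (Nat.card N) := by
      rw [hk]; exact Nat.Coprime.pow_left k hNc.symm
    have hPsolv : Group.IsSolvable (P : Subgroup G) := by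
      have : Group.IsNilpotent (P : Subgroup G) := P.2.isNilpotent
      infer_instance
    have hPpow : ∀ x ∈ (P : Subgroup G), ∃ j : ℕ, x ^ p ^ j = 1 := by
      intro x hx
      obtain ⟨j, hj⟩ := P.2 ⟨x, hx⟩
      refine ⟨j, ?_⟩
      have := congrArg Subtype.val hj
      simpa using this
    have hdisj : ∀ A : Subgroup G, A ≤ N → (P : Subgroup G) ⊓ A = ⊥ := by
      intro A hA
      apply disjoint_iff.mp
      apply disjoint_of_coprime_natCard
      exact Nat.Coprime.coprime_dvd_right (card_dvd_of_le hA) hcop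
    -- `P` centralizes `N`
    have hNC : N ≤ centralizer ((P : Subgroup G) : Set G) := by
      obtain ⟨C', hC'⟩ : ∃ C' : Subgroup N,
        C' = (centralizer ((P : Subgroup G) : Set G)).subgroupOf N := ⟨_, rfl⟩
      suffices hidx : C'.index = 1 by
        have := index_eq_one.mp hidx
        rw [hC', subgroupOf_eq_top] at this
        exact this
      by_contra hne
      obtain ⟨r, hr, hrd⟩ := Nat.exists_prime_and_dvd hne
      have hrf : Fact r.Prime := ⟨hr⟩
      obtain ⟨R, hR⟩ := Helper1_Coprime.exists_invariant_sylow (P : Subgroup G) N hPN hcop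
        (Or.inl hPsolv) r
      obtain ⟨RG, hRG⟩ : ∃ RG : Subgroup G, RG = (R : Subgroup N).map N.subtype := ⟨_, rfl⟩
      rw [← hRG] at hR
      have hRGN : RG ≤ N := hRG ▸ map_subtype_le _
      have hRGp : IsPGroup r RG := hRG ▸ R.2.map _
      obtain ⟨L, hL⟩ : ∃ L : Subgroup G, L = (P : Subgroup G) ⊔ RG := ⟨_, rfl⟩
      have hLcard : Nat.card L = Nat.card (P : Subgroup G) * Nat.card RG := by
        rw [hL]
        exact Helper1_FPF.card_sup_of_le_normalizer _ _ hR (hdisj RG hRGN)
      have hLtop : L ≠ ⊤ := by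
        intro htop
        rw [htop, card_top, ← hcard, mul_comm] at hLcard
        have h1 : Nat.card N = Nat.card RG :=
          Nat.eq_of_mul_eq_mul_left Nat.card_pos hLcard
        have h2 : RG = N := eq_of_le_of_card_ge hRGN h1.le
        apply hNnil
        have : IsPGroup r N := h2 ▸ hRGp
        exact this.isNilpotent
      have hLnil : Group.IsNilpotent L :=
        F1 L hLtop (hpP.trans (card_dvd_of_le (hL ▸ le_sup_left)))
      have hQle : (R : Subgroup N) ≤ C' := by
        intro y hy
        rw [hC', mem_subgroupOf, mem_centralizer_iff]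
        intro x hx
        obtain ⟨j, hj⟩ := hPpow x hx
        have hyRG : (y : G) ∈ RG := hRG ▸ ⟨y, hy, rfl⟩
        have hxL : x ∈ L := hL ▸ (le_sup_left : (P : Subgroup G) ≤ _) hx
        have hyL : (y : G) ∈ L := hL ▸ (le_sup_right : RG ≤ _) hyRG
        have hyo : (orderOf (y : G)).Coprime p := by
          have h1 : orderOf (y : G) ∣ Nat.card N := by
            have := orderOf_dvd_natCard y
            rwa [← orderOf_coe] at this
          exact Nat.Coprime.coprime_dvd_left h1 hNc
        have hcomm := Helper35_PGroupAut.commute_of_coprime_of_isNilpotent (K := L) (p := p)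
          (w := ⟨(y : G), hyL⟩) (x := ⟨x, hxL⟩) (by rw [orderOf_mk]; exact hyo) (k := j)
          (by apply Subtype.ext; simpa using hj)
        have := congrArg Subtype.val hcomm.eq
        exact this.symm
      exact R.not_dvd_index (hrd.trans (index_dvd_of_le hQle))
    -- `P` is normal
    have hsup : N ⊔ (P : Subgroup G) = ⊤ := hcompl.sup_eq_top
    have hPnormal : (P : Subgroup G).Normal := by
      rw [← normalizer_eq_top_iff, eq_top_iff, ← hsup, sup_le_iff]
      refine ⟨?_, le_normalizer⟩
      intro y hy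
      apply (centralizer_le_normalizer _)
      exact hNC hy
    -- `|P| = p`
    obtain ⟨⟨x, hxP⟩, hx⟩ := exists_prime_orderOf_dvd_card' (G := (P : Subgroup G)) p hpP
    have hxo : orderOf x = p := by rwa [← orderOf_mk x hxP]
    have hcardP : Nat.card (P : Subgroup G) = p := by
      have hxN : x ∉ N := by
        intro hxN
        have h1 : orderOf x ∣ Nat.card N := by
          have := orderOf_dvd_natCard (⟨x, hxN⟩ : N)
          rwa [orderOf_mk] at this
        rw [hxo] at h1
        exact hpN h1
      have hZN : zpowers x ≤ normalizer (N : Set G) := by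
        rw [normalizer_eq_top]; exact le_top
      have hZd : zpowers x ⊓ N = ⊥ := by
        apply disjoint_iff.mp
        apply disjoint_of_coprime_natCard
        rw [Nat.card_zpowers, hxo]
        exact (Nat.Prime.coprime_iff_not_dvd hp).mpr hpN
      have h1 : zpowers x ⊔ N = ⊤ := by
        rcases hNco.le_iff.mp (le_sup_right : N ≤ zpowers x ⊔ N) with h | h
        · exact h
        · exfalso
          apply hxN
          rw [← h]
          exact (le_sup_left : zpowers x ≤ _) (mem_zpowers x)
      have h2 := Helper1_FPF.card_sup_of_le_normalizer _ _ hZN hZd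
      rw [h1, card_top, Nat.card_zpowers, hxo, ← hcard] at h2
      exact Nat.eq_of_mul_eq_mul_left Nat.card_pos (by rw [h2, mul_comm])
    refine ⟨(P : Subgroup G), N, hPnormal, hNn, hdisj N le_rfl, ?_, hcardP, ⟨hNnil, ?_⟩, hpN⟩
    · rw [sup_comm]; exact hsup
    · -- proper subgroups of `N` are nilpotent
      intro H hH
      obtain ⟨H', hH'⟩ : ∃ H' : Subgroup G, H' = H.map N.subtype := ⟨_, rfl⟩
      have hH'N : H' ≤ N := hH' ▸ map_subtype_le _
      have hcardH' : Nat.card H' = Nat.card H := by
        rw [hH']; exact card_map_of_injective N.subtype_injective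
      have hlt : Nat.card H' < Nat.card N := by
        rw [hcardH']
        by_contra hge
        push Not at hge
        apply hH
        exact (card_eq_iff_eq_top H).mp (le_antisymm (card_le_card_group H) hge)
      have hPH' : (P : Subgroup G) ≤ normalizer (H' : Set G) := by
        refine le_trans ?_ (centralizer_le_normalizer _)
        intro x hx
        rw [mem_centralizer_iff]
        intro y hy
        exact ((mem_centralizer_iff.mp (hNC (hH'N hy))) x hx).symm
      obtain ⟨L, hL⟩ : ∃ L : Subgroup G, L = (P : Subgroup G) ⊔ H' := ⟨_, rfl⟩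
      have hLcard : Nat.card L = Nat.card (P : Subgroup G) * Nat.card H' := by
        rw [hL]
        exact Helper1_FPF.card_sup_of_le_normalizer _ _ hPH' (hdisj H' hH'N)
      have hLtop : L ≠ ⊤ := by
        intro htop
        rw [htop, card_top, ← hcard, mul_comm] at hLcard
        have h1 : Nat.card N = Nat.card H' := Nat.eq_of_mul_eq_mul_left Nat.card_pos hLcard
        omega
      have hLnil : Group.IsNilpotent L :=
        F1 L hLtop (hpP.trans (card_dvd_of_le (hL ▸ le_sup_left)))
      have hH'nil : Group.IsNilpotent H' := isNilpotent_of_le (hL ▸ le_sup_right) hLnil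
      have e : H ≃* H' := hH' ▸ H.equivMapOfInjective N.subtype N.subtype_injective
      exact Group.nilpotent_of_mulEquiv e.symm

theorem backward {G : Type*} [Group G] [Finite G] (p : ℕ) [hpf : Fact p.Prime]
    (h : Group.IsNilpotent G ∨ Cfsg.IsMinimalNonNilpotent G ∨
        ∃ Z K : Subgroup G, Z.Normal ∧ K.Normal ∧ Z ⊓ K = ⊥ ∧ Z ⊔ K = ⊤ ∧ Nat.card Z = p ∧
          Cfsg.IsMinimalNonNilpotent K ∧ ¬ p ∣ Nat.card K) :
    ∀ M : Subgroup G, IsCoatom M → p ∣ Nat.card M → Group.IsNilpotent M := by
  classical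
  have hp : p.Prime := hpf.out
  intro M hM hpM
  rcases h with h | h | ⟨Z, K, hZn, hKn, hZK, hsup, hZp, ⟨hKnil, hKmin⟩, hpK⟩
  · infer_instance
  · exact h.2 M hM.1
  · -- the direct product case
    have hcomm : ∀ z ∈ Z, ∀ k ∈ K, Commute z k := fun z hz k hk =>
      commute_of_normal_of_disjoint Z K hZn hKn (disjoint_iff.mpr hZK) z k hz hk
    -- `Z ≤ M`
    obtain ⟨⟨x, hxM⟩, hx⟩ := exists_prime_orderOf_dvd_card' (G := M) p hpM
    have hxo : orderOf x = p := by rwa [← orderOf_mk x hxM]
    have hxZ : x ∈ Z := by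
      have hx' : x ∈ Z ⊔ K := hsup ▸ mem_top x
      obtain ⟨z, hz, k, hk, rfl⟩ := mem_sup_of_normal_left.mp hx'
      have hzp : z ^ p = 1 := by
        have : (⟨z, hz⟩ : Z) ^ Nat.card Z = 1 := pow_card_eq_one'
        rw [hZp] at this
        simpa using congrArg Subtype.val this
      have hkp : k ^ p = 1 := by
        have h1 : (z * k) ^ p = 1 := by rw [← hxo]; exact pow_orderOf_eq_one _
        rw [(hcomm z hz k hk).mul_pow, hzp, one_mul] at h1
        exact h1
      have hk1 : k = 1 := by
        have h1 : orderOf k ∣ p := orderOf_dvd_of_pow_eq_one hkp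
        have h2 : orderOf k ∣ Nat.card K := by
          have := orderOf_dvd_natCard (⟨k, hk⟩ : K)
          rwa [orderOf_mk] at this
        have h3 := Nat.dvd_gcd h1 h2
        rw [(Nat.Prime.coprime_iff_not_dvd hp).mpr hpK, Nat.dvd_one, orderOf_eq_one_iff] at h3
        exact h3
      rw [hk1, mul_one]; exact hz
    have hZM : Z ≤ M := by
      have h1 : zpowers x = Z := by
        apply eq_of_le_of_card_ge (zpowers_le.mpr hxZ)
        rw [Nat.card_zpowers, hxo, hZp]
      rw [← h1]; exact zpowers_le.mpr hxM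
    -- `M = Z (M ∩ K)`
    have hMeq : Z ⊔ (M ⊓ K) = M := by
      apply le_antisymm (sup_le hZM inf_le_left)
      intro m hm
      have hm' : m ∈ Z ⊔ K := hsup ▸ mem_top m
      obtain ⟨z, hz, k, hk, rfl⟩ := mem_sup_of_normal_left.mp hm'
      have hkM : k ∈ M := by
        have : k = z⁻¹ * (z * k) := by group
        rw [this]
        exact M.mul_mem (M.inv_mem (hZM hz)) hm
      exact mul_mem (mem_sup_left hz) (mem_sup_right ⟨hkM, hk⟩)
    -- `M ∩ K` is nilpotent
    have hMKne : (M ⊓ K).subgroupOf K ≠ ⊤ := by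
      intro htop
      rw [subgroupOf_eq_top] at htop
      have hKM : K ≤ M := htop.trans inf_le_left
      have : (⊤ : Subgroup G) ≤ M := hsup ▸ sup_le hZM hKM
      exact hM.1 (top_le_iff.mp this)
    have hMKnil : Group.IsNilpotent ((M ⊓ K : Subgroup G)) := by
      have h1 : Group.IsNilpotent ((M ⊓ K).subgroupOf K) := hKmin _ hMKne
      exact Group.nilpotent_of_mulEquiv (subgroupOfEquivOfLe (inf_le_right : M ⊓ K ≤ K))
    have hZnil : Group.IsNilpotent Z := by
      have : IsPGroup p Z := IsPGroup.of_card (n := 1) (by rw [hZp, pow_one])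
      exact this.isNilpotent
    -- the product map
    have hcomm' : ∀ (m : Z) (n : (M ⊓ K : Subgroup G)),
        Commute (Z.subtype m) ((M ⊓ K : Subgroup G).subtype n) :=
      fun z k => hcomm z z.2 k (mem_inf.mp k.2).2
    obtain ⟨φ, hφ⟩ : ∃ φ : Z × (M ⊓ K : Subgroup G) →* G,
        φ = MonoidHom.noncommCoprod Z.subtype (M ⊓ K : Subgroup G).subtype hcomm' := ⟨_, rfl⟩
    have hrange : φ.range = M := by
      rw [hφ]
      refine (MonoidHom.noncommCoprod_range _ _ hcomm').trans ?_
      rw [range_subtype, range_subtype, hMeq]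
    have h1 : Group.IsNilpotent φ.range :=
      Group.nilpotent_of_surjective φ.rangeRestrict φ.rangeRestrict_surjective
    exact hrange ▸ h1

/-- Let G be a finite group and p a prime dividing its order. Every maximal subgroup of G of order divisible by p is nilpotent if and only if G is nilpotent, or G is a minimal non-nilpotent group, or G is the internal direct product of a normal subgroup of order p and a normal minimal non-nilpotent subgroup of order prime to p. -/
theorem result {G : Type*} [Group G] [Finite G] (p : ℕ) (hp : p.Prime) (hpG : p ∣ Nat.card G) :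
    (∀ M : Subgroup G, IsCoatom M → p ∣ Nat.card M → Group.IsNilpotent M) ↔
      (Group.IsNilpotent G ∨ Cfsg.IsMinimalNonNilpotent G ∨
        ∃ Z K : Subgroup G, Z.Normal ∧ K.Normal ∧ Z ⊓ K = ⊥ ∧ Z ⊔ K = ⊤ ∧ Nat.card Z = p ∧
          Cfsg.IsMinimalNonNilpotent K ∧ ¬ p ∣ Nat.card K) := by
  have : Fact p.Prime := ⟨hp⟩
  exact ⟨forward p hpG, backward p⟩

end Cfsg.Agent.S4242
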