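import Cfsg.Statements.S4244

set_option autoImplicit false
open Cfsg

namespace Cfsg.Agent.S4244

/-- For a normal subgroup `H` of a finite group, `|H : H ∩ K|` divides `|G : K|`. -/
theorem relIndex_normal_dvd_index {G : Type*} [Group G] [Finite G] (H K : Subgroup G) [H.Normal] :
    K.relIndex H ∣ K.index := by
  have h1 : (H ⊓ K).relIndex H * H.relIndex (H ⊔ K) = (H ⊓ K).relIndex (H ⊔ K) :=
    Subgroup.relIndex_mul_relIndex _ _ _ inf_le_left le_sup_left
  have h2 : (H ⊓ K).relIndex K * K.relIndex (H ⊔ K) = (H ⊓ K).relIndex (H ⊔ K) :=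
    Subgroup.relIndex_mul_relIndex _ _ _ inf_le_right le_sup_right
  rw [Subgroup.inf_relIndex_left, Subgroup.relIndex_sup_left] at h1
  rw [Subgroup.inf_relIndex_right] at h2
  have hne : 0 < H.relIndex K := by
    rw [Nat.pos_iff_ne_zero, Subgroup.relIndex]
    exact Subgroup.index_ne_zero_of_finite
  have : K.relIndex H = K.relIndex (H ⊔ K) := by
    apply Nat.eq_of_mul_eq_mul_right hne
    rw [h1, mul_comm, h2]
  rw [this]
  exact Subgroup.relIndex_dvd_index_of_le le_sup_right

/-- Let H be a subnormal subgroup of a finite group G. Then for every subgroup K of G the index of H ∩ K in H divides the index of K in G. -/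
theorem result {G : Type*} [Group G] [Finite G] (H : Subgroup G) (hH : H.IsSubnormal) (K : Subgroup G) :
    (H ⊓ K).relIndex H ∣ K.index := by
  revert K
  induction hH with
  | top =>
    intro K
    rw [Subgroup.inf_relIndex_left, Subgroup.relIndex_top_right]
  | step H M hle hM hN ih =>
    intro K
    have h1 := ih K
    rw [Subgroup.inf_relIndex_left] at h1 ⊢
    refine dvd_trans ?_ h1
    have h2 := relIndex_normal_dvd_index (H.subgroupOf M) (K.subgroupOf M)
    rw [Subgroup.relIndex_subgroupOf hle] at h2
    exact h2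

end Cfsg.Agent.S4244
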