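import Cfsg.Statements.S4245
import Mathlib
import Cfsg.Agent.S4037

set_option autoImplicit false
open Cfsg

namespace Cfsg.Agent.S4245

universe u

section base

variable {G : Type u} [Group G] [Finite G]

/-- With trivial solvable radical, an element of prime-power class size is trivial. -/
theorem eq_one_of_index_dvd (hR : ∀ N : Subgroup G, N.Normal → Group.IsSolvable N → N = ⊥)
    {p s : ℕ} (hp : p.Prime) (a : G)
    (h : (Subgroup.centralizer ({a} : Set G)).index ∣ p ^ s) : a = 1 := by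
  obtain ⟨k, _, hk⟩ := (Nat.dvd_prime_pow hp).mp h
  have hs := Cfsg.Agent.S4037.main _ G rfl a p k hp hk
  have h1 := hR _ inferInstance hs
  have ha : a ∈ Subgroup.normalClosure ({a} : Set G) :=
    Subgroup.subset_normalClosure (Set.mem_singleton a)
  rw [h1] at ha
  exact Subgroup.mem_bot.mp ha

/-- elements of a cyclic subgroup commute -/
theorem comm_of_cyclic {A : Type*} [Group A] (B : Subgroup A) (hB : IsCyclic B) {x y : A}
    (hx : x ∈ B) (hy : y ∈ B) : x * y = y * x := by
  have h := (IsCyclic.commGroup (α := B)).mul_comm ⟨x, hx⟩ ⟨y, hy⟩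
  exact congrArg Subtype.val h

/-- Case `p = 2`. -/
theorem base_two (hR : ∀ N : Subgroup G, N.Normal → Group.IsSolvable N → N = ⊥)
    (A : Subgroup G) (s : ℕ) (hA : A.index ∣ 2 ^ s)
    (B : Subgroup A) [B.Normal] (hB : IsCyclic B) (r : ℕ)
    (hr : Nat.card (A ⧸ B) = 2 ^ r) : Group.IsSolvable G := by
  obtain ⟨s', _, hs'⟩ := (Nat.dvd_prime_pow Nat.prime_two).mp hA
  have hidx : (B.map A.subtype).index = 2 ^ (r + s') := by
    rw [Subgroup.index_map_subtype, Subgroup.index_eq_card, hr, hs', pow_add]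
  have hB1 : ∀ b : A, b ∈ B → b = 1 := by
    intro b hb
    have hle : B.map A.subtype ≤ Subgroup.centralizer ({(b : G)} : Set G) := by
      rintro _ ⟨x, hx, rfl⟩
      rw [Subgroup.mem_centralizer_singleton_iff]
      have := comm_of_cyclic B hB hx hb
      exact congrArg Subtype.val this
    have h1 := Subgroup.index_dvd_of_le hle
    rw [hidx] at h1
    have := eq_one_of_index_dvd hR Nat.prime_two (b : G) h1
    exact Subtype.ext this
  have hBbot : B = ⊥ := by
    rw [eq_bot_iff]
    intro b hb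
    exact Subgroup.mem_bot.mpr (hB1 b hb)
  have hcardA : Nat.card A = 2 ^ r := by
    rw [Subgroup.card_eq_card_quotient_mul_card_subgroup B, hr, hBbot, Subgroup.card_bot, mul_one]
  have hcardG : Nat.card G = 2 ^ (r + s') := by
    rw [← Subgroup.card_mul_index A, hcardA, hs', pow_add]
  have : Fact (Nat.Prime 2) := ⟨Nat.prime_two⟩
  have h2 : IsPGroup 2 G := IsPGroup.of_card hcardG
  have := h2.isNilpotent
  exact inferInstance

/-- Case `p` odd, part 1: `|B|` is odd and `t` acts without fixed points. -/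
theorem odd_card_B (hR : ∀ N : Subgroup G, N.Normal → Group.IsSolvable N → N = ⊥)
    (A : Subgroup G) {p s : ℕ} (hp : p.Prime) (hA : A.index ∣ p ^ s)
    (B : Subgroup A) [B.Normal] (hB : IsCyclic B) (hAB : IsCyclic (A ⧸ B)) :
    ¬ 2 ∣ Nat.card B := by
  classical
  obtain ⟨g, hg⟩ := hAB.exists_generator
  obtain ⟨t, rfl⟩ := QuotientGroup.mk_surjective g
  -- 3a
  have h3a : ∀ b : A, b ∈ B → t * b = b * t → b = 1 := by
    intro b hb hbt
    have hle : A ≤ Subgroup.centralizer ({(b : G)} : Set G) := by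
      intro a ha
      rw [Subgroup.mem_centralizer_singleton_iff]
      obtain ⟨k, hk⟩ := Subgroup.mem_zpowers_iff.mp (hg ((⟨a, ha⟩ : A) : A ⧸ B))
      rw [← QuotientGroup.mk_zpow, QuotientGroup.eq] at hk
      set b₁ : A := (t ^ k)⁻¹ * ⟨a, ha⟩ with hb₁
      have ha' : (⟨a, ha⟩ : A) = t ^ k * b₁ := by rw [hb₁]; group
      have hc1 : Commute (t ^ k) b := (Commute.zpow_left (show Commute t b from hbt) k)
      have hc2 : b₁ * b = b * b₁ := comm_of_cyclic B hB hk hb
      have h3 : (⟨a, ha⟩ : A) * b = b * ⟨a, ha⟩ := by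
        rw [ha', mul_assoc, hc2, ← mul_assoc, hc1.eq, mul_assoc]
      exact congrArg Subtype.val h3
    have h1 := (Subgroup.index_dvd_of_le hle).trans hA
    exact Subtype.ext (eq_one_of_index_dvd hR hp (b : G) h1)
  intro h2
  have : Fact (Nat.Prime 2) := ⟨Nat.prime_two⟩
  obtain ⟨u, hu⟩ := exists_prime_orderOf_dvd_card' (G := B) 2 h2
  have hu1 : u ≠ 1 := by
    intro h
    rw [h, orderOf_one] at hu
    omega
  have hu2 : u ^ 2 = 1 := by rw [← hu]; exact pow_orderOf_eq_one u
  set w : B := ⟨t * u * t⁻¹, ‹B.Normal›.conj_mem u u.2 t⟩ with hw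
  have hw2 : w ^ 2 = 1 := by
    apply Subtype.ext
    have h5 : ((u : A)) ^ 2 = 1 := by
      have := congrArg Subtype.val hu2
      simpa using this
    rw [hw]
    simp only [Subgroup.coe_pow, Subgroup.coe_one]
    rw [conj_pow, h5, mul_one, mul_inv_cancel]
  have hw1 : w ≠ 1 := by
    intro h
    apply hu1
    have h5 : t * (u : A) * t⁻¹ = 1 := by
      have := congrArg Subtype.val h
      simpa [hw] using this
    apply Subtype.ext
    have : (u : A) = t⁻¹ * (t * (u : A) * t⁻¹) * t := by group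
    rw [this, h5]
    simp
  have := Fintype.ofFinite B
  have hcard := IsCyclic.card_pow_eq_one_le (α := B) (n := 2) (by norm_num)
  have hwu : w = u := by
    by_contra hne
    have h3 : 2 < (Finset.univ.filter (fun a : B => a ^ 2 = 1)).card := by
      rw [Finset.two_lt_card_iff]
      refine ⟨1, u, w, ?_, ?_, ?_, ?_, ?_, ?_⟩
      · simp
      · simp [hu2]
      · simp [hw2]
      · exact fun h => hu1 h.symm
      · exact fun h => hw1 h.symm
      · exact fun h => hne h.symm
    omega
  have h6 : t * (u : A) = (u : A) * t := by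
    have := congrArg Subtype.val hwu
    simp only [hw] at this
    calc t * (u : A) = (t * (u : A) * t⁻¹) * t := by group
      _ = (u : A) * t := by rw [this]
  have := h3a (u : A) u.2 h6
  exact hu1 (Subtype.ext this)

theorem fact_two (r m : ℕ) (hm : ¬ 2 ∣ m) : (2 ^ r * m).factorization 2 = r := by
  have hm0 : m ≠ 0 := fun h => hm (h ▸ dvd_zero 2)
  rw [Nat.factorization_mul (pow_ne_zero _ two_ne_zero) hm0, Finsupp.add_apply,
    Nat.Prime.factorization_pow Nat.prime_two, Finsupp.single_eq_same,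
    Nat.factorization_eq_zero_of_not_dvd hm, add_zero]

omit [Finite G] in
theorem comm_map (A : Subgroup G) (B : Subgroup A) (hB : IsCyclic B) {x y : G}
    (hx : x ∈ B.map A.subtype) (hy : y ∈ B.map A.subtype) : x * y = y * x := by
  obtain ⟨b₁, hb₁, rfl⟩ := hx
  obtain ⟨b₂, hb₂, rfl⟩ := hy
  exact congrArg Subtype.val (comm_of_cyclic B hB hb₁ hb₂)

/-- Case `p` odd, part 2: a normal `2`-complement. -/
theorem exists_two_complement (A : Subgroup G) {p s' : ℕ} (hpodd : ¬ 2 ∣ p) (hs' : A.index = p ^ s')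
    (B : Subgroup A) [B.Normal] (hBodd : ¬ 2 ∣ Nat.card B) (hAB : IsCyclic (A ⧸ B)) (r : ℕ)
    (hr : Nat.card (A ⧸ B) = 2 ^ r) :
    ∃ K : Subgroup G, K.Normal ∧ ¬ 2 ∣ Nat.card K ∧ ∃ j, K.index = 2 ^ j := by
  classical
  have hcardA : Nat.card A = 2 ^ r * Nat.card B := by
    rw [Subgroup.card_eq_card_quotient_mul_card_subgroup B, hr]
  have hcardG : Nat.card G = 2 ^ r * (Nat.card B * p ^ s') := by
    rw [← Subgroup.card_mul_index A, hcardA, hs', mul_assoc]
  have hodd2 : ¬ 2 ∣ Nat.card B * p ^ s' := by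
    intro h
    rcases (Nat.Prime.dvd_mul Nat.prime_two).mp h with h | h
    · exact hBodd h
    · exact hpodd (Nat.prime_two.dvd_of_dvd_pow h)
  by_cases h2G : 2 ∣ Nat.card G
  swap
  · exact ⟨⊤, inferInstance, by rwa [Subgroup.card_top], 0, by simp⟩
  have : Fact (Nat.Prime 2) := ⟨Nat.prime_two⟩
  obtain ⟨P₀⟩ : Nonempty (Sylow 2 A) := inferInstance
  have hP₀card : Nat.card P₀ = 2 ^ r := by
    rw [P₀.card_eq_multiplicity, hcardA, fact_two r _ hBodd]
  have hP₀cyc : IsCyclic P₀ := by
    let φ : P₀ →* A ⧸ B := (QuotientGroup.mk' B).comp (P₀ : Subgroup A).subtype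
    refine isCyclic_of_injective φ ?_
    rw [injective_iff_map_eq_one]
    intro x hx
    have hxB : (x : A) ∈ B := by
      have h1 : (QuotientGroup.mk' B) (x : A) = 1 := hx
      rwa [QuotientGroup.mk'_apply, QuotientGroup.eq_one_iff] at h1
    obtain ⟨k, hk⟩ := (IsPGroup.iff_orderOf.mp P₀.isPGroup') x
    have h1 : orderOf (x : A) ∣ Nat.card B := Subgroup.orderOf_dvd_natCard B hxB
    rw [Subgroup.orderOf_coe, hk] at h1
    have hcop : Nat.Coprime (2 ^ k) (Nat.card B) :=
      Nat.Coprime.pow_left k ((Nat.Prime.coprime_iff_not_dvd Nat.prime_two).mpr hBodd)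
    have h2 : 2 ^ k = 1 := Nat.Coprime.eq_one_of_dvd hcop h1
    rw [h2] at hk
    exact orderOf_eq_one_iff.mp hk
  set H : Subgroup G := (P₀ : Subgroup A).map A.subtype with hH
  have hHcyc : IsCyclic H :=
    isCyclic_of_surjective (A.subtype.subgroupMap (P₀ : Subgroup A))
      (MonoidHom.subgroupMap_surjective _ _)
  have hcardH : Nat.card H = 2 ^ (Nat.card G).factorization 2 := by
    rw [hH, Subgroup.card_map_of_injective A.subtype_injective, hcardG, fact_two r _ hodd2]
    exact hP₀card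
  set Q : Sylow 2 G := Sylow.ofCard H hcardH with hQ
  have hQcyc : IsCyclic Q := by
    have : (Q : Subgroup G) = H := Sylow.coe_ofCard H hcardH
    rw [this]
    exact hHcyc
  have hmin : (Nat.card G).minFac = 2 := (Nat.minFac_eq_two_iff _).mpr h2G
  have hcompl := IsCyclic.isComplement' hmin hQcyc
  obtain ⟨K, hKn, hcompl⟩ : ∃ K : Subgroup G, K.Normal ∧ K.IsComplement' Q :=
    ⟨_, MonoidHom.normal_ker _, hcompl⟩
  refine ⟨K, hKn, ?_, (Nat.card G).factorization 2, ?_⟩
  · intro h2K
    have h1 := hcompl.card_mul_card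
    rw [Q.card_eq_multiplicity] at h1
    obtain ⟨v, hv⟩ : ∃ v, v = (Nat.card G).factorization 2 := ⟨_, rfl⟩
    rw [← hv] at h1
    obtain ⟨c, hc⟩ := h2K
    have h3 : 2 ^ (v + 1) ∣ Nat.card G := ⟨c, by rw [← h1, hc]; ring⟩
    rw [hv] at h3
    exact Nat.pow_succ_factorization_not_dvd Nat.card_pos.ne' Nat.prime_two h3
  · rw [hcompl.symm.index_eq_card, Q.card_eq_multiplicity]

/-- Case `p` odd. -/
theorem base_odd (hR : ∀ N : Subgroup G, N.Normal → Group.IsSolvable N → N = ⊥)
    (A : Subgroup G) {p s : ℕ} (hp : p.Prime) (hp2 : p ≠ 2) (hA : A.index ∣ p ^ s)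
    (B : Subgroup A) [B.Normal] (hB : IsCyclic B) (hAB : IsCyclic (A ⧸ B)) (r : ℕ)
    (hr : Nat.card (A ⧸ B) = 2 ^ r) : Group.IsSolvable G := by
  classical
  have hBodd := odd_card_B hR A hp hA B hB hAB
  obtain ⟨s', _, hs'⟩ := (Nat.dvd_prime_pow hp).mp hA
  have hpodd : ¬ 2 ∣ p := fun h => hp2 ((Nat.prime_dvd_prime_iff_eq Nat.prime_two hp).mp h).symm
  obtain ⟨K, hKn, hKodd, j, hKidx⟩ := exists_two_complement A hpodd hs' B hBodd hAB r hr
  set B' : Subgroup G := B.map A.subtype with hB'
  have hB'K : B' ≤ K := by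
    rintro _ ⟨b, hb, rfl⟩
    have h1 : orderOf ((b : A) : G) ∣ Nat.card B := by
      rw [Subgroup.orderOf_coe]; exact Subgroup.orderOf_dvd_natCard B hb
    have h2 : orderOf (QuotientGroup.mk' K (b : G)) ∣ orderOf (b : G) := orderOf_map_dvd _ _
    have h3 : orderOf (QuotientGroup.mk' K (b : G)) ∣ 2 ^ j := by
      rw [← hKidx, Subgroup.index_eq_card]; exact orderOf_dvd_natCard _
    have hcop : Nat.Coprime (2 ^ j) (Nat.card B) :=
      Nat.Coprime.pow_left j ((Nat.Prime.coprime_iff_not_dvd Nat.prime_two).mpr hBodd)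
    have h4 : orderOf (QuotientGroup.mk' K (b : G)) = 1 :=
      Nat.eq_one_of_dvd_coprimes hcop h3 (h2.trans h1)
    rw [orderOf_eq_one_iff, QuotientGroup.mk'_apply, QuotientGroup.eq_one_iff] at h4
    exact h4
  have hrel : B'.relIndex K ∣ p ^ s' := by
    have h1 : B'.relIndex K ∣ B'.index := Subgroup.relIndex_dvd_index_of_le hB'K
    have h2 : B'.index = 2 ^ r * p ^ s' := by
      rw [hB', Subgroup.index_map_subtype, Subgroup.index_eq_card, hr, hs']
    have h3 : B'.relIndex K ∣ Nat.card K := Subgroup.index_dvd_card _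
    rw [h2] at h1
    refine Nat.Coprime.dvd_of_dvd_mul_left ?_ h1
    refine Nat.Coprime.pow_right r ?_
    have h4 : ¬ 2 ∣ B'.relIndex K := fun h => hKodd (h.trans h3)
    exact ((Nat.Prime.coprime_iff_not_dvd Nat.prime_two).mpr h4).symm
  have hKsolv : Group.IsSolvable K := by
    obtain ⟨RK, hRKn, hRKs, hRKmax⟩ := Cfsg.Agent.S4037.exists_radical (H := K)
    have hle : B'.subgroupOf K ≤ RK := by
      intro b hb
      have hcent : B'.subgroupOf K ≤ Subgroup.centralizer ({b} : Set K) := by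
        intro x hx
        rw [Subgroup.mem_centralizer_singleton_iff]
        apply Subtype.ext
        exact comm_map A B hB (Subgroup.mem_subgroupOf.mp hx) (Subgroup.mem_subgroupOf.mp hb)
      have h1 : (Subgroup.centralizer ({b} : Set K)).index ∣ p ^ s' :=
        (Subgroup.index_dvd_of_le hcent).trans hrel
      obtain ⟨k, _, hk⟩ := (Nat.dvd_prime_pow hp).mp h1
      have hs := Cfsg.Agent.S4037.main _ K rfl b p k hp hk
      exact hRKmax _ inferInstance hs (Subgroup.subset_normalClosure (Set.mem_singleton b))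
    have h2 : RK.index ∣ p ^ s' := (Subgroup.index_dvd_of_le hle).trans hrel
    have : Fact p.Prime := ⟨hp⟩
    obtain ⟨k, _, hk⟩ := (Nat.dvd_prime_pow hp).mp h2
    have hq : IsPGroup p (K ⧸ RK) := IsPGroup.of_card (by rw [← Subgroup.index_eq_card]; exact hk)
    have := hq.isNilpotent
    have : Group.IsSolvable (K ⧸ RK) := inferInstance
    exact Group.isSolvable_of_ker_le_range RK.subtype (QuotientGroup.mk' RK)
      (by rw [QuotientGroup.ker_mk', Subgroup.range_subtype])
  have : Fact (Nat.Prime 2) := ⟨Nat.prime_two⟩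
  have hq : IsPGroup 2 (G ⧸ K) := IsPGroup.of_card (by rw [← Subgroup.index_eq_card]; exact hKidx)
  have := hq.isNilpotent
  have : Group.IsSolvable (G ⧸ K) := inferInstance
  exact Group.isSolvable_of_ker_le_range K.subtype (QuotientGroup.mk' K)
    (by rw [QuotientGroup.ker_mk', Subgroup.range_subtype])

end base

section induction

/-- The main induction. -/
theorem main (p : ℕ) (hp : p.Prime) : ∀ (n : ℕ) (G : Type u) [Group G] [Finite G], Nat.card G = n →
    ∀ (A : Subgroup G) (s : ℕ), A.index ∣ p ^ s → ∀ (B : Subgroup A) [B.Normal], IsCyclic B →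
      IsCyclic (A ⧸ B) → ∀ r : ℕ, Nat.card (A ⧸ B) = 2 ^ r → Group.IsSolvable G := by
  intro n
  induction n using Nat.strong_induction_on with
  | _ n ih =>
  intro G _ _ hn A s hA B _ hB hAB r hr
  obtain ⟨R, hRn, hRs, hRmax⟩ := Cfsg.Agent.S4037.exists_radical (H := G)
  by_cases hRbot : R = ⊥
  · have hR : ∀ N : Subgroup G, N.Normal → Group.IsSolvable N → N = ⊥ := by
      intro N hN hNs
      have := hRmax N hN hNs
      rw [hRbot] at this
      exact le_bot_iff.mp this
    by_cases hp2 : p = 2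
    · subst hp2
      exact base_two hR A s hA B hB r hr
    · exact base_odd hR A hp hp2 hA B hB hAB r hr
  · -- pass to the quotient by the radical
    have hcard : Nat.card (G ⧸ R) < n := by
      rw [← hn, ← Subgroup.card_mul_index R]
      have h1 : 1 < Nat.card R := by
        rw [Finite.one_lt_card_iff_nontrivial]
        exact (Subgroup.nontrivial_iff_ne_bot R).mpr hRbot
      have h2 : 0 < R.index := Nat.pos_of_ne_zero (Subgroup.index_ne_zero_of_finite)
      rw [Subgroup.index_eq_card] at h2 ⊢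
      nlinarith
    let π : G →* G ⧸ R := QuotientGroup.mk' R
    have hπ : Function.Surjective π := QuotientGroup.mk'_surjective R
    let A₁ : Subgroup (G ⧸ R) := A.map π
    let fA : A →* A₁ := π.subgroupMap A
    have hfA : Function.Surjective fA := MonoidHom.subgroupMap_surjective π A
    let B₁ : Subgroup A₁ := B.map fA
    have hB₁n : B₁.Normal := Subgroup.Normal.map ‹B.Normal› fA hfA
    have hB₁c : IsCyclic B₁ :=
      isCyclic_of_surjective (fA.subgroupMap B) (MonoidHom.subgroupMap_surjective fA B)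
    have hA₁ : A₁.index ∣ p ^ s := (Subgroup.index_map_dvd A hπ).trans hA
    let ψ : A ⧸ B →* A₁ ⧸ B₁ := QuotientGroup.map B B₁ fA (Subgroup.le_comap_map fA B)
    have hψ : Function.Surjective ψ := by
      intro y
      obtain ⟨a₁, rfl⟩ := QuotientGroup.mk_surjective y
      obtain ⟨a, rfl⟩ := hfA a₁
      exact ⟨(a : A ⧸ B), rfl⟩
    have hAB₁ : IsCyclic (A₁ ⧸ B₁) := isCyclic_of_surjective ψ hψ
    have hdvd : Nat.card (A₁ ⧸ B₁) ∣ 2 ^ r := by
      rw [← hr]
      exact Subgroup.card_dvd_of_surjective ψ hψ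
    obtain ⟨r', _, hr'⟩ := (Nat.dvd_prime_pow Nat.prime_two).mp hdvd
    have hsolvQ : Group.IsSolvable (G ⧸ R) :=
      ih _ hcard (G ⧸ R) rfl A₁ s hA₁ B₁ hB₁c hAB₁ r' hr'
    exact Group.isSolvable_of_ker_le_range R.subtype (QuotientGroup.mk' R)
      (by rw [QuotientGroup.ker_mk', Subgroup.range_subtype])

end induction

/-- Let G be a finite group with a subgroup A of prime-power index. Suppose A has a normal cyclic subgroup B such that A/B is cyclic of order a power of 2. Then G is solvable. -/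
theorem result {G : Type*} [Group G] [Finite G] (A : Subgroup G) (p s : ℕ) (hp : p.Prime) (hA : A.index = p ^ s)
    (B : Subgroup A) [B.Normal] (hB : IsCyclic B) (hAB : IsCyclic (A ⧸ B)) (r : ℕ) (hr : Nat.card (A ⧸ B) = 2 ^ r) :
    Group.IsSolvable G :=
  main p hp _ G rfl A s (hA ▸ dvd_rfl) B hB hAB r hr

end Cfsg.Agent.S4245
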