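import Cfsg.Statements.S4250
import Cfsg.Agent.S2012
import Cfsg.Agent.Lib.Helper33_Conj
import Cfsg.Agent.Lib.Helper33_Alperin

set_option autoImplicit false
open Cfsg

namespace Cfsg.Agent.S4250

open Subgroup Cfsg.Agent.Lib.Helper33_Conj Cfsg.Agent.Lib.Helper33_Alperin Cfsg.Agent.S2012
open scoped commutatorElement

variable {G : Type*} [Group G] {p : ℕ}

/-- the right-hand side of the statement. -/
def rhs (p : ℕ) (P : Sylow p G) : Subgroup G :=
  ⁅(P : Subgroup G), Subgroup.normalizer ((P : Subgroup G) : Set G)⁆ ⊔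
        ⨆ (Q : Sylow p G) (_ : (¬ p ∣ ((P : Subgroup G) ⊓ Subgroup.normalizer (((P : Subgroup G) ⊓ (Q : Subgroup G) : Subgroup G) : Set G)).relIndex (Subgroup.normalizer (((P : Subgroup G) ⊓ (Q : Subgroup G) : Subgroup G) : Set G)) ∧ ¬ p ∣ ((Q : Subgroup G) ⊓ Subgroup.normalizer (((P : Subgroup G) ⊓ (Q : Subgroup G) : Subgroup G) : Set G)).relIndex (Subgroup.normalizer (((P : Subgroup G) ⊓ (Q : Subgroup G) : Subgroup G) : Set G))))
          (x : G) (_ : x ∈ Subgroup.normalizer (((P : Subgroup G) ⊓ (Q : Subgroup G) : Subgroup G) : Set G) ∧ ∃ k : ℕ, orderOf x = p ^ k),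
          ⁅(P : Subgroup G) ⊓ (Q : Subgroup G), Subgroup.zpowers x⁆

/-- one admissible step contributes an element of the right-hand side. -/
lemma step_mem (P Q : Sylow p G) (x a : G) (hv : Valid P Q x)
    (ha : a ∈ (P : Subgroup G) ⊓ (Q : Subgroup G)) : a⁻¹ * (x⁻¹ * a * x) ∈ rhs p P := by
  obtain ⟨hxN, ht1, ht2, hQ | hx⟩ := hv
  · -- `Q = P`
    apply Subgroup.mem_sup_left
    have hPQ : (P : Subgroup G) ⊓ (Q : Subgroup G) = (P : Subgroup G) := by rw [hQ, inf_idem]
    rw [hPQ] at ha hxN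
    have : a⁻¹ * (x⁻¹ * a * x) = ⁅a⁻¹, x⁻¹⁆ := by rw [commutatorElement_def]; group
    rw [this]
    exact Subgroup.commutator_mem_commutator (inv_mem ha) (inv_mem hxN)
  · apply Subgroup.mem_sup_right
    have h1 : ⁅(P : Subgroup G) ⊓ (Q : Subgroup G), Subgroup.zpowers x⁆ ≤
        ⨆ (Q : Sylow p G) (_ : (¬ p ∣ ((P : Subgroup G) ⊓ Subgroup.normalizer (((P : Subgroup G) ⊓ (Q : Subgroup G) : Subgroup G) : Set G)).relIndex (Subgroup.normalizer (((P : Subgroup G) ⊓ (Q : Subgroup G) : Subgroup G) : Set G)) ∧ ¬ p ∣ ((Q : Subgroup G) ⊓ Subgroup.normalizer (((P : Subgroup G) ⊓ (Q : Subgroup G) : Subgroup G) : Set G)).relIndex (Subgroup.normalizer (((P : Subgroup G) ⊓ (Q : Subgroup G) : Subgroup G) : Set G))))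
          (x : G) (_ : x ∈ Subgroup.normalizer (((P : Subgroup G) ⊓ (Q : Subgroup G) : Subgroup G) : Set G) ∧ ∃ k : ℕ, orderOf x = p ^ k),
          ⁅(P : Subgroup G) ⊓ (Q : Subgroup G), Subgroup.zpowers x⁆ :=
      le_iSup_of_le Q (le_iSup_of_le ⟨ht1, ht2⟩ (le_iSup_of_le x (le_iSup_of_le ⟨hxN, hx⟩ le_rfl)))
    apply h1
    have : a⁻¹ * (x⁻¹ * a * x) = ⁅a⁻¹, x⁻¹⁆ := by rw [commutatorElement_def]; group
    rw [this]
    exact Subgroup.commutator_mem_commutator (inv_mem ha)
      (inv_mem (Subgroup.mem_zpowers x))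

/-- along a chain, `a⁻¹ a^g` lies in the right-hand side. -/
lemma chain_mem (P : Sylow p G) {A : Set G} {g : G} (h : Chain P A g) :
    ∀ a ∈ A, a⁻¹ * (g⁻¹ * a * g) ∈ rhs p P := by
  induction h with
  | nil A =>
    intro a _
    simp
  | cons A Q x g hv hA _ ih =>
    intro a ha
    have h1 := step_mem P Q x a hv (hA ha)
    have h2 := ih (x⁻¹ * a * x) (by
      rw [mem_cjs]
      simpa [mul_assoc] using ha)
    have : a⁻¹ * ((x * g)⁻¹ * a * (x * g)) =
        (a⁻¹ * (x⁻¹ * a * x)) * ((x⁻¹ * a * x)⁻¹ * (g⁻¹ * (x⁻¹ * a * x) * g)) := by group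
    rw [this]
    exact mul_mem h1 h2

/-- Let P be a Sylow p-subgroup of a finite group G. Call an intersection H = P ∩ Q with a Sylow p-subgroup Q tame when N_P(H) and N_Q(H) are Sylow p-subgroups of N_G(H). Then P ∩ G′ is generated by [P, N_G(P)] together with the commutator subgroups [P ∩ Q, ⟨x⟩] for all tame intersections P ∩ Q and all p-elements x of N_G(P ∩ Q). -/
theorem result {G : Type*} [Group G] [Finite G] (p : ℕ) [Fact p.Prime] (P : Sylow p G) :
    (P : Subgroup G) ⊓ commutator G =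
      ⁅(P : Subgroup G), Subgroup.normalizer ((P : Subgroup G) : Set G)⁆ ⊔
        ⨆ (Q : Sylow p G) (_ : (¬ p ∣ ((P : Subgroup G) ⊓ Subgroup.normalizer (((P : Subgroup G) ⊓ (Q : Subgroup G) : Subgroup G) : Set G)).relIndex (Subgroup.normalizer (((P : Subgroup G) ⊓ (Q : Subgroup G) : Subgroup G) : Set G)) ∧ ¬ p ∣ ((Q : Subgroup G) ⊓ Subgroup.normalizer (((P : Subgroup G) ⊓ (Q : Subgroup G) : Subgroup G) : Set G)).relIndex (Subgroup.normalizer (((P : Subgroup G) ⊓ (Q : Subgroup G) : Subgroup G) : Set G))))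
          (x : G) (_ : x ∈ Subgroup.normalizer (((P : Subgroup G) ⊓ (Q : Subgroup G) : Subgroup G) : Set G) ∧ ∃ k : ℕ, orderOf x = p ^ k),
          ⁅(P : Subgroup G) ⊓ (Q : Subgroup G), Subgroup.zpowers x⁆ := by
  change _ = rhs p P
  apply le_antisymm
  · -- focal subgroup theorem and Alperin
    rw [inf_comm, Subgroup.commutator_inf_eq_focalSubgroup P, Subgroup.focalSubgroup_def,
      Subgroup.closure_le]
    rintro _ ⟨hgP, x, hxP, u, rfl⟩
    have hux : u * x * u⁻¹ ∈ (P : Subgroup G) := by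
      have h1 : x⁻¹ * ⁅x, u⁆ ∈ (P : Subgroup G) := mul_mem (inv_mem hxP) hgP
      have h2 : x⁻¹ * ⁅x, u⁆ = (u * x * u⁻¹)⁻¹ := by rw [commutatorElement_def]; group
      rw [h2] at h1
      exact (inv_mem_iff).mp h1
    have hle : Subgroup.zpowers x ≤ (P : Subgroup G) := (Subgroup.zpowers_le).mpr hxP
    have hcj : cj u (Subgroup.zpowers x) ≤ (P : Subgroup G) := by
      intro y hy
      rw [mem_cj] at hy
      obtain ⟨k, hk⟩ := Subgroup.mem_zpowers_iff.mp hy
      have : y = (u * x * u⁻¹) ^ k := by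
        rw [conj_zpow, hk]; group
      rw [this]
      exact zpow_mem hux k
    have hchain := alperin_chain P (Subgroup.zpowers x) hle u hcj
    have := chain_mem P hchain x⁻¹ (inv_mem (Subgroup.mem_zpowers x))
    have e : (x⁻¹)⁻¹ * ((u⁻¹)⁻¹ * x⁻¹ * u⁻¹) = ⁅x, u⁆ := by rw [commutatorElement_def]; group
    rwa [e] at this
  · -- the easy inclusion
    unfold rhs
    apply sup_le
    · apply le_inf
      · rw [Subgroup.commutator_le]
        intro a ha n hn
        have : ⁅a, n⁆ = a * (n * a⁻¹ * n⁻¹) := by rw [commutatorElement_def]; group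
        rw [this]
        exact mul_mem ha ((Subgroup.mem_normalizer_iff.mp hn a⁻¹).mp (inv_mem ha))
      · exact Subgroup.commutator_mono le_top le_top
    · apply iSup_le; intro Q
      apply iSup_le; intro _
      apply iSup_le; intro x
      apply iSup_le; rintro ⟨hxN, _⟩
      apply le_inf
      · rw [Subgroup.commutator_le]
        intro a ha y hy
        have hyN : y ∈ Subgroup.normalizer (((P : Subgroup G) ⊓ (Q : Subgroup G) : Subgroup G) : Set G) :=
          (Subgroup.zpowers_le.mpr hxN) hy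
        have : ⁅a, y⁆ = a * (y * a⁻¹ * y⁻¹) := by rw [commutatorElement_def]; group
        rw [this]
        exact (mul_mem ha ((Subgroup.mem_normalizer_iff.mp hyN a⁻¹).mp (inv_mem ha))).1
      · exact Subgroup.commutator_mono le_top le_top

end Cfsg.Agent.S4250
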