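import Cfsg.Statements.S4251
import Cfsg.Agent.S2012
import Cfsg.Agent.S0072
import Cfsg.Agent.Lib.Helper33_Conj
import Cfsg.Agent.Lib.Helper33_Alperin
import Cfsg.Agent.Lib.Helper35_FrobeniusNPC

set_option autoImplicit false
open Cfsg

namespace Cfsg.Agent.S4251

open Subgroup Cfsg.Agent.Lib.Helper33_Conj Cfsg.Agent.Lib.Helper33_Alperin Cfsg.Agent.S2012
open Cfsg.Agent.Lib.Helper35_FrobeniusNPC
open scoped Pointwise

variable {G : Type*} [Group G] {p : ℕ}

/-- local step: if `N(H)/C(H)` is a `p`-group and `N_P(H)` has index prime to `p` in `N(H)`,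
then every `x ∈ N(H)` acts on `H` like an element of `P`. -/
lemma local_factor [Finite G] [Fact p.Prime] (P H : Subgroup G)
    (ht : ¬ p ∣ (P ⊓ normalizer (H : Set G)).relIndex (normalizer (H : Set G)))
    (hpg : IsPGroup p (normalizer (H : Set G) ⧸
      (centralizer (H : Set G)).subgroupOf (normalizer (H : Set G))))
    (x : G) (hx : x ∈ normalizer (H : Set G)) :
    ∃ u ∈ P, ∀ a ∈ H, x⁻¹ * a * x = u⁻¹ * a * u := by
  have hp : p.Prime := Fact.out
  set N := normalizer (H : Set G) with hN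
  set C' := (centralizer (H : Set G)).subgroupOf N with hC'
  set P' := P.subgroupOf N with hP'
  have hPidx : ¬ p ∣ P'.index := by
    have : P'.index = (P ⊓ N).relIndex N := by
      rw [hP', Subgroup.relIndex, Subgroup.inf_subgroupOf_right]
    rwa [this]
  obtain ⟨k, hk⟩ := IsPGroup.iff_card.mp hpg
  have hCidx : C'.index = p ^ k := by rw [Subgroup.index_eq_card]; exact hk
  have hsup : C' ⊔ P' = ⊤ := by
    rw [← Subgroup.index_eq_one]
    have h1 : (C' ⊔ P').index ∣ p ^ k := hCidx ▸ Subgroup.index_dvd_of_le le_sup_left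
    have h2 : (C' ⊔ P').index ∣ P'.index := Subgroup.index_dvd_of_le le_sup_right
    have hcop : Nat.Coprime (p ^ k) P'.index :=
      Nat.Coprime.pow_left _ ((Nat.Prime.coprime_iff_not_dvd hp).mpr hPidx)
    exact Nat.eq_one_of_dvd_coprimes hcop h1 h2
  have hxmem : (⟨x, hx⟩ : N) ∈ C' ⊔ P' := by rw [hsup]; trivial
  have hset : ((C' ⊔ P' : Subgroup N) : Set N) = (C' : Set N) * (P' : Set N) :=
    Subgroup.normal_mul C' P'
  have hxmem' : (⟨x, hx⟩ : N) ∈ (C' : Set N) * (P' : Set N) := by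
    rw [← hset]; exact hxmem
  obtain ⟨c, hc, u, hu, hcu⟩ := hxmem'
  have hcC : (c : G) ∈ centralizer (H : Set G) := hc
  have huP : (u : G) ∈ P := hu
  have hxcu : x = (c : G) * (u : G) := by
    have := congrArg Subtype.val hcu
    simpa using this.symm
  refine ⟨u, huP, ?_⟩
  intro a ha
  have hca : (c : G)⁻¹ * a * (c : G) = a := by
    have := hcC a ha
    calc (c : G)⁻¹ * a * (c : G) = (c : G)⁻¹ * (a * (c : G)) := by group
      _ = (c : G)⁻¹ * ((c : G) * a) := by rw [this]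
      _ = a := by group
  rw [hxcu]
  calc ((c : G) * (u : G))⁻¹ * a * ((c : G) * (u : G))
      = (u : G)⁻¹ * ((c : G)⁻¹ * a * (c : G)) * (u : G) := by group
    _ = (u : G)⁻¹ * a * (u : G) := by rw [hca]

/-- along a chain through tame intersections with `N/C` a `p`-group, the fusion is induced
by an element of `P`. -/
lemma chain_in_P [Finite G] [Fact p.Prime] (P : Sylow p G)
    (h : ∀ Q : Sylow p G, (P : Subgroup G) ⊓ (Q : Subgroup G) ≠ ⊥ → (¬ p ∣ ((P : Subgroup G) ⊓ Subgroup.normalizer (((P : Subgroup G) ⊓ (Q : Subgroup G) : Subgroup G) : Set G)).relIndex (Subgroup.normalizer (((P : Subgroup G) ⊓ (Q : Subgroup G) : Subgroup G) : Set G)) ∧ ¬ p ∣ ((Q : Subgroup G) ⊓ Subgroup.normalizer (((P : Subgroup G) ⊓ (Q : Subgroup G) : Subgroup G) : Set G)).relIndex (Subgroup.normalizer (((P : Subgroup G) ⊓ (Q : Subgroup G) : Subgroup G) : Set G))) →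
      IsPGroup p (Subgroup.normalizer (((P : Subgroup G) ⊓ (Q : Subgroup G) : Subgroup G) : Set G) ⧸
        (Subgroup.centralizer (((P : Subgroup G) ⊓ (Q : Subgroup G) : Subgroup G) : Set G)).subgroupOf
          (Subgroup.normalizer (((P : Subgroup G) ⊓ (Q : Subgroup G) : Subgroup G) : Set G))))
    {A : Set G} {g : G} (hch : Chain P A g) :
    (∃ a ∈ A, a ≠ 1) → ∃ u ∈ (P : Subgroup G), ∀ a ∈ A, g⁻¹ * a * g = u⁻¹ * a * u := by
  induction hch with
  | nil A =>
    intro _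
    exact ⟨1, one_mem _, fun a _ => by simp⟩
  | cons A Q x g hv hA _ ih =>
    rintro ⟨a₀, ha₀, ha₀1⟩
    have hne : (P : Subgroup G) ⊓ (Q : Subgroup G) ≠ ⊥ := by
      intro hbot
      have := hA ha₀
      rw [hbot] at this
      exact ha₀1 (Subgroup.mem_bot.mp this)
    obtain ⟨hxN, ht1, ht2, _⟩ := hv
    obtain ⟨u₁, hu₁, hu₁a⟩ := local_factor (P : Subgroup G) ((P : Subgroup G) ⊓ (Q : Subgroup G))
      ht1 (h Q hne ⟨ht1, ht2⟩) x hxN
    obtain ⟨u₂, hu₂, hu₂a⟩ := ih ⟨x⁻¹ * a₀ * x, by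
      rw [mem_cjs]; simpa [mul_assoc] using ha₀, by
      intro h1
      apply ha₀1
      have : a₀ = x * (x⁻¹ * a₀ * x) * x⁻¹ := by group
      rw [this, h1]; group⟩
    refine ⟨u₁ * u₂, mul_mem hu₁ hu₂, ?_⟩
    intro a ha
    have h1 := hu₁a a (hA ha)
    have h2 := hu₂a (x⁻¹ * a * x) (by rw [mem_cjs]; simpa [mul_assoc] using ha)
    calc (x * g)⁻¹ * a * (x * g) = g⁻¹ * (x⁻¹ * a * x) * g := by group
      _ = u₂⁻¹ * (x⁻¹ * a * x) * u₂ := h2
      _ = u₂⁻¹ * (u₁⁻¹ * a * u₁) * u₂ := by rw [h1]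
      _ = (u₁ * u₂)⁻¹ * a * (u₁ * u₂) := by group

/-- Let P be a Sylow p-subgroup of a finite group G. Call an intersection H = P ∩ Q with a Sylow p-subgroup Q tame when N_P(H) and N_Q(H) are Sylow p-subgroups of N_G(H). If N_G(H)/C_G(H) is a p-group for every nontrivial tame intersection H = P ∩ Q, then G has a normal p-complement. -/
theorem result {G : Type*} [Group G] [Finite G] (p : ℕ) [Fact p.Prime] (P : Sylow p G)
    (h : ∀ Q : Sylow p G, (P : Subgroup G) ⊓ (Q : Subgroup G) ≠ ⊥ → (¬ p ∣ ((P : Subgroup G) ⊓ Subgroup.normalizer (((P : Subgroup G) ⊓ (Q : Subgroup G) : Subgroup G) : Set G)).relIndex (Subgroup.normalizer (((P : Subgroup G) ⊓ (Q : Subgroup G) : Subgroup G) : Set G)) ∧ ¬ p ∣ ((Q : Subgroup G) ⊓ Subgroup.normalizer (((P : Subgroup G) ⊓ (Q : Subgroup G) : Subgroup G) : Set G)).relIndex (Subgroup.normalizer (((P : Subgroup G) ⊓ (Q : Subgroup G) : Subgroup G) : Set G))) →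
      IsPGroup p (Subgroup.normalizer (((P : Subgroup G) ⊓ (Q : Subgroup G) : Subgroup G) : Set G) ⧸
        (Subgroup.centralizer (((P : Subgroup G) ⊓ (Q : Subgroup G) : Subgroup G) : Set G)).subgroupOf
          (Subgroup.normalizer (((P : Subgroup G) ⊓ (Q : Subgroup G) : Subgroup G) : Set G)))) :
    Cfsg.HasNormalPComplement p G := by
  rw [Cfsg.Agent.S0072.hasNPC_iff]
  apply hasNPC_of_frobHyp
  apply frobHyp_of_le_sylow P
  intro Q hQ g hg hgo
  have hp : p.Prime := Fact.out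
  by_cases hQb : Q = ⊥
  · subst hQb
    rw [Subgroup.mem_centralizer_iff]
    intro a ha
    have : a = 1 := ha
    rw [this]; simp
  have hcj : cj g⁻¹ Q ≤ (P : Subgroup G) := by
    intro y hy
    rw [mem_cj, inv_inv] at hy
    apply hQ
    have := (Subgroup.mem_normalizer_iff.mp hg y).mpr hy
    exact this
  have hchain := alperin_chain P Q hQ g⁻¹ hcj
  rw [inv_inv] at hchain
  obtain ⟨a₀, ha₀, ha₀1⟩ := (Subgroup.bot_or_exists_ne_one Q).resolve_left hQb
  obtain ⟨u, hu, hua⟩ := chain_in_P P h hchain ⟨a₀, ha₀, ha₀1⟩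
  -- `c = g u⁻¹` centralizes `Q`
  have hc : g * u⁻¹ ∈ centralizer (Q : Set G) := by
    rw [Subgroup.mem_centralizer_iff]
    intro a ha
    have h1 := hua a ha
    have h2 : a = u * (g⁻¹ * a * g) * u⁻¹ := by rw [h1]; group
    calc a * (g * u⁻¹) = (g * u⁻¹) * (u * (g⁻¹ * a * g) * u⁻¹) := by group
      _ = (g * u⁻¹) * a := by rw [← h2]
  have hcN : g * u⁻¹ ∈ normalizer (Q : Set G) := Subgroup.centralizer_le_normalizer _ hc
  have huN : u ∈ normalizer (Q : Set G) := by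
    have : u = (g * u⁻¹)⁻¹ * g := by group
    rw [this]
    exact mul_mem (inv_mem hcN) hg
  -- pass to `N(Q)/C(Q)`
  set N := normalizer (Q : Set G) with hN
  set C' := (centralizer (Q : Set G)).subgroupOf N with hC'
  have hmk : (QuotientGroup.mk' C' ⟨g, hg⟩) = (QuotientGroup.mk' C' ⟨u, huN⟩) := by
    rw [QuotientGroup.mk'_apply, QuotientGroup.mk'_apply, QuotientGroup.eq]
    change ((⟨g, hg⟩ : N)⁻¹ * ⟨u, huN⟩ : N).1 ∈ centralizer (Q : Set G)
    have : ((⟨g, hg⟩ : N)⁻¹ * ⟨u, huN⟩ : N).1 = g⁻¹ * u := by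
      simp
    rw [this, Subgroup.mem_centralizer_iff]
    intro a ha
    have ha' : g * a * g⁻¹ ∈ Q := (Subgroup.mem_normalizer_iff.mp hg a).mp ha
    have h1 := hua (g * a * g⁻¹) ha'
    have h2 : a = u⁻¹ * (g * a * g⁻¹) * u := by rw [← h1]; group
    calc a * (g⁻¹ * u) = g⁻¹ * (g * a * g⁻¹) * u := by group
      _ = g⁻¹ * u * (u⁻¹ * (g * a * g⁻¹) * u) := by group
      _ = g⁻¹ * u * a := by rw [← h2]
  have ho1 : orderOf (QuotientGroup.mk' C' ⟨u, huN⟩) ∣ orderOf g := by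
    rw [← hmk]
    have := orderOf_map_dvd (QuotientGroup.mk' C') (⟨g, hg⟩ : N)
    rwa [Subgroup.orderOf_mk] at this
  obtain ⟨k, hk⟩ := P.2 ⟨u, hu⟩
  have hk' : u ^ (p ^ k) = 1 := by
    have := congrArg Subtype.val hk
    simpa using this
  have ho2 : orderOf (QuotientGroup.mk' C' ⟨u, huN⟩) ∣ p ^ k := by
    have h1 := orderOf_map_dvd (QuotientGroup.mk' C') (⟨u, huN⟩ : N)
    rw [Subgroup.orderOf_mk] at h1
    exact dvd_trans h1 (orderOf_dvd_of_pow_eq_one hk')
  have ho3 : orderOf (QuotientGroup.mk' C' ⟨u, huN⟩) = 1 :=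
    Nat.eq_one_of_dvd_coprimes (Nat.Coprime.pow_right k hgo) ho1 ho2
  rw [orderOf_eq_one_iff, QuotientGroup.mk'_apply, QuotientGroup.eq_one_iff] at ho3
  have huC : u ∈ centralizer (Q : Set G) := ho3
  have : g = (g * u⁻¹) * u := by group
  rw [this]
  exact mul_mem hc huC

end Cfsg.Agent.S4251
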