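import Cfsg.Statements.S4253

set_option autoImplicit false
open Cfsg
open scoped Pointwise

namespace Cfsg.Agent.S4253

/-- Let H be a Frobenius complement in a finite group G (a nontrivial proper subgroup meeting each conjugate gHg⁻¹ with g outside H trivially). Then in the action of G on the left cosets of H by left multiplication, no non-identity element of G fixes two distinct cosets. -/
theorem result {G : Type*} [Group G] [Finite G] (H : Subgroup G) (hH : Cfsg.IsFrobeniusComplement H)
    (g : G) (hg : g ≠ 1) (a b : G ⧸ H) (ha : g • a = a) (hb : g • b = b) : a = b := by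
  obtain ⟨x, rfl⟩ := QuotientGroup.mk_surjective a
  obtain ⟨y, rfl⟩ := QuotientGroup.mk_surjective b
  rw [MulAction.Quotient.smul_mk, eq_comm, QuotientGroup.eq] at ha hb
  rw [QuotientGroup.eq]
  by_contra hc
  have h3 := hH.2.2 (x⁻¹ * y) hc
  have hmem : x⁻¹ * (g • x) ∈ H ⊓ (MulAut.conj (x⁻¹ * y) • H) := by
    refine Subgroup.mem_inf.mpr ⟨ha, ?_⟩
    rw [Subgroup.mem_pointwise_smul_iff_inv_smul_mem]
    have : (MulAut.conj (x⁻¹ * y))⁻¹ • (x⁻¹ * g • x) = y⁻¹ * g • y := by
      simp [MulAut.smul_def, mul_assoc]
    rw [this]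
    exact hb
  rw [h3, Subgroup.mem_bot] at hmem
  apply hg
  have : g • x = x := by
    have := congrArg (fun t => x * t) hmem
    simpa using this
  simpa using this

end Cfsg.Agent.S4253
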