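import Cfsg.Statements.S4355
import Cfsg.Agent.S2791
import Cfsg.Agent.Lib.Helper51_Local

set_option autoImplicit false
open Cfsg

namespace Cfsg.Agent.S4355

open Cfsg.Agent.Lib.Helper33_Conj Cfsg.Agent.Lib.Helper33_Alperin

section Basic

variable {G : Type*} [Group G]

/-- The set of conjugates of `c`. -/
def cls (c : G) : Set G := {y : G | ∃ x : G, y = x * c * x⁻¹}

theorem index_centralizer_eq (c : G) :
    (Subgroup.centralizer ({c} : Set G)).index = (cls c).ncard := by
  have h1 := MulAction.index_stabilizer (ConjAct G) c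
  have h2 : (Subgroup.centralizer ({c} : Set G)).index =
      (MulAction.stabilizer (ConjAct G) c).index := by
    have e : Subgroup.centralizer ({c} : Set G) =
        (MulAction.stabilizer (ConjAct G) c).comap (ConjAct.toConjAct (G := G)).toMonoidHom :=
      Subgroup.centralizer_eq_comap_stabilizer c
    rw [e]
    exact Subgroup.index_comap_of_surjective _ (ConjAct.toConjAct (G := G)).surjective
  rw [h2, h1]
  congr 1
  ext y
  rw [MulAction.mem_orbit_iff]
  constructor
  · rintro ⟨x, rfl⟩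
    exact ⟨ConjAct.ofConjAct x, by rw [ConjAct.smul_def]⟩
  · rintro ⟨x, rfl⟩
    exact ⟨ConjAct.toConjAct x, by rw [ConjAct.smul_def]; simp⟩

/-- a fixed-point-free involution on a finite set forces even cardinality -/
theorem two_dvd_ncard_of_involution {α : Type*} (X : Set α) [Finite X] (f : α → α)
    (hf : ∀ x ∈ X, f x ∈ X) (hinv : ∀ x ∈ X, f (f x) = x) (hfix : ∀ x ∈ X, f x ≠ x) :
    2 ∣ X.ncard := by
  classical
  have hfin : X.Finite := Set.toFinite X
  rw [Set.ncard_eq_toFinset_card X hfin]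
  have h0 : (∑ x ∈ hfin.toFinset, (1 : ZMod 2)) = 0 := by
    refine Finset.sum_involution (fun a _ => f a) ?_ ?_ ?_ ?_
    · intro a _; decide
    · intro a ha _
      exact hfix a (hfin.mem_toFinset.mp ha)
    · intro a ha
      exact hfin.mem_toFinset.mpr (hf a (hfin.mem_toFinset.mp ha))
    · intro a ha
      exact hinv a (hfin.mem_toFinset.mp ha)
  rw [Finset.sum_const, nsmul_eq_mul, mul_one] at h0
  exact (ZMod.natCast_eq_zero_iff _ 2).mp h0

/-- The hypothesis: every `2`-element has a conjugacy class of odd size. -/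
def Hyp (G : Type*) [Group G] : Prop :=
  ∀ x : G, (∃ k : ℕ, orderOf x = 2 ^ k) → ¬ 2 ∣ (Subgroup.centralizer ({x} : Set G)).index

variable [Finite G]

/-- an element of odd class size that is conjugate to its inverse has square one -/
theorem sq_eq_one_of_inverted {c g : G}
    (hodd : ¬ 2 ∣ (Subgroup.centralizer ({c} : Set G)).index) (hg : g * c * g⁻¹ = c⁻¹) :
    c * c = 1 := by
  by_contra hne
  apply hodd
  rw [index_centralizer_eq]
  refine two_dvd_ncard_of_involution (cls c) (fun y => y⁻¹) ?_ ?_ ?_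
  · rintro y ⟨x, rfl⟩
    refine ⟨x * g, ?_⟩
    calc (x * c * x⁻¹)⁻¹ = x * c⁻¹ * x⁻¹ := by group
      _ = x * (g * c * g⁻¹) * x⁻¹ := by rw [hg]
      _ = x * g * c * (x * g)⁻¹ := by group
  · intro y _; exact inv_inv y
  · rintro y ⟨x, rfl⟩ hfix
    apply hne
    have h1 : (x * c * x⁻¹) * (x * c * x⁻¹) = 1 := by
      have hfix' : (x * c * x⁻¹)⁻¹ = x * c * x⁻¹ := hfix
      calc (x * c * x⁻¹) * (x * c * x⁻¹) = (x * c * x⁻¹)⁻¹ * (x * c * x⁻¹) := by
            rw [hfix']
        _ = 1 := inv_mul_cancel _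
    calc c * c = x⁻¹ * ((x * c * x⁻¹) * (x * c * x⁻¹)) * x := by group
      _ = 1 := by rw [h1]; group

/-- an element whose class is closed under multiplication by a nontrivial central element of
square one has even class size -/
theorem two_dvd_index_of_mul_central {x y e : G} (he : ∀ w : G, w * e = e * w) (he2 : e * e = 1)
    (hne : e ≠ 1) (hxy : y * x * y⁻¹ = x * e) :
    2 ∣ (Subgroup.centralizer ({x} : Set G)).index := by
  rw [index_centralizer_eq]
  refine two_dvd_ncard_of_involution (cls x) (fun z => z * e) ?_ ?_ ?_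
  · rintro z ⟨w, rfl⟩
    refine ⟨w * y, ?_⟩
    calc w * x * w⁻¹ * e = w * x * (w⁻¹ * e) := by group
      _ = w * x * (e * w⁻¹) := by rw [he w⁻¹]
      _ = w * (x * e) * w⁻¹ := by group
      _ = w * (y * x * y⁻¹) * w⁻¹ := by rw [hxy]
      _ = w * y * x * (w * y)⁻¹ := by group
  · intro z _
    show z * e * e = z
    rw [mul_assoc, he2, mul_one]
  · intro z _ hfix
    apply hne
    have : z * e = z * 1 := by rw [mul_one]; exact hfix
    exact mul_left_cancel this

/-- two elements of square one in a common `2`-subgroup commute -/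
theorem comm_of_sq_one (hG : Hyp G) {P : Subgroup G} (hP : IsPGroup 2 P) {s t : G} (hs : s ∈ P)
    (ht : t ∈ P) (hs2 : s * s = 1) (ht2 : t * t = 1) : s * t = t * s := by
  have hc : ∃ k : ℕ, orderOf (s * t) = 2 ^ k := by
    obtain ⟨k, hk⟩ := hP ⟨s * t, P.mul_mem hs ht⟩
    have h1 : (s * t) ^ 2 ^ k = 1 := by
      have := congrArg (fun z : P => (z : G)) hk
      simpa using this
    exact (Nat.dvd_prime_pow Nat.prime_two).mp (orderOf_dvd_of_pow_eq_one h1) |>.imp fun _ h => h.2
  have hsinv : s⁻¹ = s := inv_eq_of_mul_eq_one_right hs2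
  have htinv : t⁻¹ = t := inv_eq_of_mul_eq_one_right ht2
  have hinv : s * (s * t) * s⁻¹ = (s * t)⁻¹ := by
    rw [mul_inv_rev, hsinv, htinv, ← mul_assoc, hs2, one_mul]
  have h1 := sq_eq_one_of_inverted (hG _ hc) hinv
  calc s * t = (s * t)⁻¹ := (inv_eq_of_mul_eq_one_right h1).symm
    _ = t * s := by rw [mul_inv_rev, hsinv, htinv]

/-- `Ω₁(P)`: the elements of square one of a `2`-subgroup form a subgroup. -/
def Omega (hG : Hyp G) (P : Subgroup G) (hP : IsPGroup 2 P) : Subgroup G where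
  carrier := {x | x ∈ P ∧ x * x = 1}
  mul_mem' := by
    rintro a b ⟨ha, ha2⟩ ⟨hb, hb2⟩
    refine ⟨P.mul_mem ha hb, ?_⟩
    have hc := comm_of_sq_one hG hP ha hb ha2 hb2
    calc a * b * (a * b) = a * (b * a) * b := by group
      _ = a * (a * b) * b := by rw [hc]
      _ = (a * a) * (b * b) := by group
      _ = 1 := by rw [ha2, hb2, one_mul]
  one_mem' := ⟨P.one_mem, by simp⟩
  inv_mem' := by
    rintro a ⟨ha, ha2⟩
    refine ⟨P.inv_mem ha, ?_⟩
    rw [← mul_inv_rev, ha2, inv_one]

theorem mem_Omega {hG : Hyp G} {P : Subgroup G} {hP : IsPGroup 2 P} {x : G} :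
    x ∈ Omega hG P hP ↔ x ∈ P ∧ x * x = 1 := Iff.rfl

theorem Omega_le (hG : Hyp G) (P : Subgroup G) (hP : IsPGroup 2 P) : Omega hG P hP ≤ P :=
  fun _ hx => hx.1

theorem Omega_comm (hG : Hyp G) (P : Subgroup G) (hP : IsPGroup 2 P) :
    IsMulCommutative ↥(Omega hG P hP) :=
  ⟨⟨fun a b => Subtype.ext (comm_of_sq_one hG hP a.2.1 b.2.1 a.2.2 b.2.2)⟩⟩

theorem Omega_stronglyClosed (hG : Hyp G) (P : Subgroup G) (hP : IsPGroup 2 P) :
    Cfsg.IsStronglyClosed (Omega hG P hP) P := by
  refine ⟨Omega_le hG P hP, ?_⟩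
  rintro x ⟨_, hx2⟩ g hg
  refine ⟨hg, ?_⟩
  calc g * x * g⁻¹ * (g * x * g⁻¹) = g * (x * x) * g⁻¹ := by group
    _ = 1 := by rw [hx2]; group

end Basic

section Control

variable {G : Type*} [Group G] [Finite G]

/-- `N_G(Ω₁(P))` controls strong fusion in `P` -/
theorem control (hG : Hyp G) (P : Sylow 2 G) (Q : Subgroup G) (hQ : Q ≤ (P : Subgroup G)) (g : G)
    (hg : cj g Q ≤ (P : Subgroup G)) :
    Cfsg.Agent.S2791.Rel (Omega hG (P : Subgroup G) P.2) (Q : Set G) g :=
  alperin P Set.univ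
    (fun T hT => by
      obtain ⟨g, hg1, hg2⟩ := Cfsg.Agent.S1959.exists_fully_normalized P T hT
      exact ⟨cj g T, Set.mem_univ _, hg1, ⟨g, rfl⟩, hg2⟩)
    (Cfsg.Agent.S2791.Rel _) (Cfsg.Agent.S2791.rel_fusionRel _)
    (fun U _ hUS hUfn IH m hm =>
      Cfsg.Agent.S2791.local_step P _ (Omega_comm hG (P : Subgroup G) P.2)
        (Omega_stronglyClosed hG (P : Subgroup G) P.2) U hUS hUfn IH m hm)
    Q hQ g hg

/-- an element of odd class size is centralized by a conjugate of `P` -/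
theorem exists_cj_le_centralizer (P : Sylow 2 G) {x : G}
    (hodd : ¬ 2 ∣ (Subgroup.centralizer ({x} : Set G)).index) :
    ∃ k : G, cj k (P : Subgroup G) ≤ Subgroup.centralizer ({x} : Set G) := by
  obtain ⟨R, -, hRC, hR, hRidx⟩ := Cfsg.Agent.Lib.Helper51_Local.exists_sylow_sub (p := 2)
    (bot_le : (⊥ : Subgroup G) ≤ Subgroup.centralizer ({x} : Set G)) IsPGroup.of_bot
  have hidx : ¬ 2 ∣ R.index := by
    rw [← Subgroup.relIndex_mul_index hRC]
    intro hdvd
    rcases (Nat.Prime.dvd_mul Nat.prime_two).mp hdvd with h | h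
    · exact hRidx h
    · exact hodd h
  obtain ⟨k, hk⟩ := exists_cj_eq_of_index P R hR hidx
  exact ⟨k, hk ▸ hRC⟩

theorem isPGroup_zpowers {x : G} (hx : ∃ k : ℕ, orderOf x = 2 ^ k) :
    IsPGroup 2 (Subgroup.zpowers x) := by
  obtain ⟨k, hk⟩ := hx
  apply IsPGroup.of_card (n := k)
  rw [Nat.card_zpowers, hk]

/-- a `2`-element centralizing a Sylow `2`-subgroup lies in it -/
theorem mem_of_centralizes (P : Sylow 2 G) {x : G} (hx : ∃ k : ℕ, orderOf x = 2 ^ k)
    (hc : ∀ q ∈ (P : Subgroup G), q * x = x * q) : x ∈ (P : Subgroup G) := by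
  have h1 := (isPGroup_zpowers hx).inf_normalizer_sylow P
  have h2 : x ∈ Subgroup.zpowers x ⊓ Subgroup.normalizer ((P : Subgroup G) : Set G) := by
    refine ⟨Subgroup.mem_zpowers x, ?_⟩
    show x ∈ Subgroup.normalizer ((P : Subgroup G) : Set G)
    rw [Subgroup.mem_normalizer_iff]
    intro q
    constructor
    · intro hq
      have e : x * q * x⁻¹ = q := by rw [← hc q hq]; group
      rw [e]; exact hq
    · intro hq
      have e0 := hc _ hq
      have e1 : x * q = x * (x * q * x⁻¹) := by rw [← e0]; group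
      have e : q = x * q * x⁻¹ := mul_left_cancel e1
      rw [e]; exact hq
  exact (h1.le h2).2

end Control

section Inherit

variable {G : Type*} [Group G] [Finite G]

omit [Finite G] in
theorem exists_orderOf_of_mem {P : Subgroup G} (hP : IsPGroup 2 P) {x : G} (hx : x ∈ P) :
    ∃ k : ℕ, orderOf x = 2 ^ k := by
  obtain ⟨k, hk⟩ := hP ⟨x, hx⟩
  have h1 : x ^ 2 ^ k = 1 := by
    have := congrArg (fun z : P => (z : G)) hk
    simpa using this
  exact (Nat.dvd_prime_pow Nat.prime_two).mp (orderOf_dvd_of_pow_eq_one h1) |>.imp fun _ h => h.2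

omit [Finite G] in
theorem orderOf_conj' (g x : G) : orderOf (g * x * g⁻¹) = orderOf x :=
  orderOf_injective (MulAut.conj g).toMonoidHom (MulAut.conj g).injective x

theorem le_normalizer_Omega (hG : Hyp G) (P : Subgroup G) (hP : IsPGroup 2 P) :
    P ≤ Subgroup.normalizer ((Omega hG P hP : Subgroup G) : Set G) := by
  intro x hx
  rw [Subgroup.mem_normalizer_iff]
  intro h
  constructor
  · rintro ⟨hh, hh2⟩
    refine ⟨P.mul_mem (P.mul_mem hx hh) (P.inv_mem hx), ?_⟩
    calc x * h * x⁻¹ * (x * h * x⁻¹) = x * (h * h) * x⁻¹ := by group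
      _ = 1 := by rw [hh2]; group
  · rintro ⟨hh, hh2⟩
    refine ⟨?_, ?_⟩
    · have : h = x⁻¹ * (x * h * x⁻¹) * x := by group
      rw [this]
      exact P.mul_mem (P.mul_mem (P.inv_mem hx) hh) hx
    · calc h * h = x⁻¹ * (x * h * x⁻¹ * (x * h * x⁻¹)) * x := by group
        _ = 1 := by rw [hh2]; group

/-- the hypothesis passes to `N_G(Ω₁(P))`, in relative-index form -/
theorem hyp_normalizer (hG : Hyp G) (P : Sylow 2 G) {y : G}
    (hyN : y ∈ Subgroup.normalizer ((Omega hG (P : Subgroup G) P.2 : Subgroup G) : Set G))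
    (hy : ∃ k : ℕ, orderOf y = 2 ^ k) :
    ¬ 2 ∣ (Subgroup.centralizer ({y} : Set G)).relIndex
      (Subgroup.normalizer ((Omega hG (P : Subgroup G) P.2 : Subgroup G) : Set G)) := by
  obtain ⟨N, hN⟩ : ∃ N : Subgroup G,
      N = Subgroup.normalizer ((Omega hG (P : Subgroup G) P.2 : Subgroup G) : Set G) := ⟨_, rfl⟩
  rw [← hN] at hyN ⊢
  have hPN : (P : Subgroup G) ≤ N := hN ▸ le_normalizer_Omega hG (P : Subgroup G) P.2
  have hPidx : ¬ 2 ∣ (P : Subgroup G).relIndex N := by
    intro hdvd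
    apply P.not_dvd_index
    rw [← Subgroup.relIndex_mul_index hPN]
    exact dvd_mul_of_dvd_left hdvd _
  have hzN : Subgroup.zpowers y ≤ N := (Subgroup.zpowers_le).mpr hyN
  obtain ⟨n, hn, hnle⟩ := exists_cj_le_of_relIndex (p := 2) hPN P.2 hPidx hzN (isPGroup_zpowers hy)
  -- y₁ = n y n⁻¹ ∈ P
  have hy1P : n * y * n⁻¹ ∈ (P : Subgroup G) := hnle (conj_mem_cj (Subgroup.mem_zpowers y))
  have hy1 : ∃ k : ℕ, orderOf (n * y * n⁻¹) = 2 ^ k := exists_orderOf_of_mem P.2 hy1P
  obtain ⟨k, hk⟩ := exists_cj_le_centralizer P (hG _ hy1)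
  -- y₂ = k⁻¹ y₁ k is centralized by P
  have hcent : ∀ q ∈ (P : Subgroup G), q * (k⁻¹ * (n * y * n⁻¹) * k) = (k⁻¹ * (n * y * n⁻¹) * k) * q := by
    intro q hq
    have h1 := hk (conj_mem_cj (g := k) hq)
    rw [Subgroup.mem_centralizer_singleton_iff] at h1
    calc q * (k⁻¹ * (n * y * n⁻¹) * k) = k⁻¹ * ((k * q * k⁻¹) * (n * y * n⁻¹)) * k := by group
      _ = k⁻¹ * ((n * y * n⁻¹) * (k * q * k⁻¹)) * k := by rw [h1]
      _ = (k⁻¹ * (n * y * n⁻¹) * k) * q := by group
  have hy2 : ∃ j : ℕ, orderOf (k⁻¹ * (n * y * n⁻¹) * k) = 2 ^ j := by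
    obtain ⟨j, hj⟩ := hy1
    refine ⟨j, ?_⟩
    have := orderOf_conj' k⁻¹ (n * y * n⁻¹)
    rw [inv_inv] at this
    rw [this, hj]
  have hy2P : k⁻¹ * (n * y * n⁻¹) * k ∈ (P : Subgroup G) := mem_of_centralizes P hy2 hcent
  -- control of fusion
  have hQ : Subgroup.zpowers (n * y * n⁻¹) ≤ (P : Subgroup G) := (Subgroup.zpowers_le).mpr hy1P
  have hQ' : cj k⁻¹ (Subgroup.zpowers (n * y * n⁻¹)) ≤ (P : Subgroup G) := by
    intro z hz
    rw [mem_cj, inv_inv] at hz
    obtain ⟨i, hi⟩ := Subgroup.mem_zpowers_iff.mp hz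
    have e : z = (k⁻¹ * (n * y * n⁻¹) * k) ^ i := by
      have h1 : (k⁻¹ * (n * y * n⁻¹) * k) ^ i = k⁻¹ * (n * y * n⁻¹) ^ i * k := by
        have := map_zpow (MulAut.conj k⁻¹).toMonoidHom (n * y * n⁻¹) i
        simpa using this.symm
      rw [h1, hi]; group
    rw [e]
    exact Subgroup.zpow_mem _ hy2P i
  obtain ⟨x, hxN, hx⟩ := control hG P _ hQ k⁻¹ hQ'
  have hx1 := hx _ (Subgroup.mem_zpowers (n * y * n⁻¹))
  rw [inv_inv] at hx1
  -- m = x n
  have hmN : x * n ∈ N := N.mul_mem (hN ▸ hxN) hn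
  have hym : k⁻¹ * (n * y * n⁻¹) * k = (x * n) * y * (x * n)⁻¹ := by
    rw [hx1]; group
  have hle : cj (x * n)⁻¹ (P : Subgroup G) ≤ Subgroup.centralizer ({y} : Set G) := by
    intro z hz
    rw [mem_cj, inv_inv] at hz
    have h1 := hcent _ hz
    rw [hym] at h1
    rw [Subgroup.mem_centralizer_singleton_iff]
    calc z * y = (x * n)⁻¹ * ((x * n) * z * (x * n)⁻¹ * ((x * n) * y * (x * n)⁻¹)) * (x * n) := by
          group
      _ = (x * n)⁻¹ * ((x * n) * y * (x * n)⁻¹ * ((x * n) * z * (x * n)⁻¹)) * (x * n) := by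
          rw [h1]
      _ = y * z := by group
  have hidx2 : ¬ 2 ∣ (cj (x * n)⁻¹ (P : Subgroup G)).relIndex N := by
    have h1 := Cfsg.Agent.Lib.Helper51_Local.relIndex_cj (x * n)⁻¹ (P : Subgroup G) N
    rw [cj_of_mem (N.inv_mem hmN)] at h1
    rw [h1]; exact hPidx
  intro hdvd
  exact hidx2 (dvd_trans hdvd (Subgroup.relIndex_dvd_of_le_left N hle))

end Inherit

section Transfer

variable {G : Type*} [Group G]

/-- transfer of the hypothesis to a subgroup, from the relative-index form -/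
theorem hyp_subgroup (H : Subgroup G)
    (hH : ∀ y ∈ H, (∃ k : ℕ, orderOf y = 2 ^ k) →
      ¬ 2 ∣ (Subgroup.centralizer ({y} : Set G)).relIndex H) : Hyp H := by
  intro x hx
  have e : Subgroup.centralizer ({x} : Set H) =
      (Subgroup.centralizer ({(x : G)} : Set G)).subgroupOf H := by
    ext z
    rw [Subgroup.mem_subgroupOf, Subgroup.mem_centralizer_singleton_iff,
      Subgroup.mem_centralizer_singleton_iff]
    constructor
    · intro h
      have := congrArg Subtype.val h
      simpa using this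
    · intro h
      exact Subtype.ext (by simpa using h)
  rw [e]
  have hx' : ∃ k : ℕ, orderOf (x : G) = 2 ^ k := by
    obtain ⟨k, hk⟩ := hx
    exact ⟨k, by rw [Subgroup.orderOf_coe, hk]⟩
  exact hH x x.2 hx'

variable [Finite G]

theorem exists_sylow_le_centralizer {x : G}
    (hodd : ¬ 2 ∣ (Subgroup.centralizer ({x} : Set G)).index) :
    ∃ Q : Sylow 2 G, (Q : Subgroup G) ≤ Subgroup.centralizer ({x} : Set G) := by
  obtain ⟨P⟩ := (inferInstance : Nonempty (Sylow 2 G))
  obtain ⟨k, hk⟩ := exists_cj_le_centralizer P hodd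
  refine ⟨k • P, ?_⟩
  rw [Sylow.coe_subgroup_smul]
  exact hk

/-- the hypothesis passes to normal subgroups -/
theorem hyp_normal (hG : Hyp G) (K : Subgroup G) [hKn : K.Normal] : Hyp K := by
  apply hyp_subgroup
  intro y _ hy
  obtain ⟨Q, hQ⟩ := exists_sylow_le_centralizer (hG y hy)
  have hQtop : ¬ 2 ∣ (Q : Subgroup G).relIndex ⊤ := by
    rw [Subgroup.relIndex_top_right]; exact Q.not_dvd_index
  have hnorm : ∀ m ∈ (⊤ : Subgroup G), cj m K = K := fun m _ =>
    mem_normalizer_iff_cj.mp (by rw [Subgroup.normalizer_eq_top_iff.mpr hKn]; trivial)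
  have h1 := Cfsg.Agent.Lib.Helper51_Local.sylow_inf_normal (p := 2) (M := ⊤) (Y := K)
    (S := (Q : Subgroup G)) le_top hnorm le_top Q.2 hQtop
  intro hdvd
  exact h1 (dvd_trans hdvd (Subgroup.relIndex_dvd_of_le_left K (inf_le_left.trans hQ)))

/-- the hypothesis passes to quotients by normal subgroups of exponent two -/
theorem hyp_quotient (hG : Hyp G) (E : Subgroup G) [E.Normal] (hE : ∀ e ∈ E, e * e = 1) :
    Hyp (G ⧸ E) := by
  intro xb hxb
  obtain ⟨g, rfl⟩ := QuotientGroup.mk_surjective xb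
  obtain ⟨k, hk⟩ := hxb
  have h1 : g ^ 2 ^ k ∈ E := by
    have h2 : ((g : G ⧸ E)) ^ 2 ^ k = 1 := by rw [← hk]; exact pow_orderOf_eq_one _
    rw [← QuotientGroup.mk_pow, QuotientGroup.eq_one_iff] at h2
    exact h2
  have h3 : g ^ 2 ^ (k + 1) = 1 := by
    rw [pow_succ, pow_mul, pow_two]
    exact hE _ h1
  have hg : ∃ j : ℕ, orderOf g = 2 ^ j :=
    (Nat.dvd_prime_pow Nat.prime_two).mp (orderOf_dvd_of_pow_eq_one h3) |>.imp fun _ h => h.2
  have hodd := hG g hg
  have hle : (Subgroup.centralizer ({g} : Set G)).map (QuotientGroup.mk' E) ≤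
      Subgroup.centralizer ({(g : G ⧸ E)} : Set (G ⧸ E)) := by
    rintro _ ⟨c, hc, rfl⟩
    rw [Subgroup.mem_centralizer_singleton_iff]
    have hc' : c * g = g * c := Subgroup.mem_centralizer_singleton_iff.mp hc
    show ((c : G ⧸ E)) * (g : G ⧸ E) = (g : G ⧸ E) * (c : G ⧸ E)
    rw [← QuotientGroup.mk_mul, ← QuotientGroup.mk_mul, hc']
  intro hdvd
  apply hodd
  exact dvd_trans hdvd (dvd_trans (Subgroup.index_dvd_of_le hle)
    (Subgroup.index_map_dvd _ (QuotientGroup.mk'_surjective E)))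

end Transfer

section Main

universe u

theorem card_lt_of_ne_top {G : Type*} [Group G] [Finite G] {H : Subgroup G} (h : H ≠ ⊤) :
    Nat.card H < Nat.card G := by
  by_contra hcon
  exact h (Subgroup.eq_top_of_le_card H (not_lt.mp hcon))

theorem main : ∀ (n : ℕ) (G : Type u) [Group G] [Finite G], Nat.card G = n → Hyp G →
    ∀ P : Sylow 2 G, ∀ x ∈ (P : Subgroup G), ∀ y ∈ (P : Subgroup G), x * y = y * x := by
  intro n
  induction n using Nat.strong_induction_on with
  | _ n ih =>
  intro G _ _ hn hG P x hx y hy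
  -- induction step for a proper subgroup containing `P`
  have step : ∀ H : Subgroup G, H ≠ ⊤ → Hyp H → (P : Subgroup G) ≤ H → x * y = y * x := by
    intro H hHne hHyp hPH
    have hlt : Nat.card H < n := hn ▸ card_lt_of_ne_top hHne
    have hxm : (⟨x, hPH hx⟩ : H) ∈ ((P.subtype hPH : Sylow 2 H) : Subgroup H) := by
      rw [Sylow.coe_subtype, Subgroup.mem_subgroupOf]; exact hx
    have hym : (⟨y, hPH hy⟩ : H) ∈ ((P.subtype hPH : Sylow 2 H) : Subgroup H) := by
      rw [Sylow.coe_subtype, Subgroup.mem_subgroupOf]; exact hy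
    have := ih _ hlt H rfl hHyp (P.subtype hPH) _ hxm _ hym
    exact congrArg Subtype.val this
  obtain ⟨E, hE⟩ : ∃ E : Subgroup G, E = Omega hG (P : Subgroup G) P.2 := ⟨_, rfl⟩
  have hEP : E ≤ (P : Subgroup G) := hE ▸ Omega_le hG _ P.2
  have hE2 : ∀ e ∈ E, e * e = 1 := fun e he => by rw [hE] at he; exact he.2
  by_cases hN : Subgroup.normalizer (E : Set G) = ⊤
  · have hEn : E.Normal := Subgroup.normalizer_eq_top_iff.mp hN
    -- every element of `P` centralizes `E`
    have hPK : (P : Subgroup G) ≤ Subgroup.centralizer (E : Set G) := by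
      intro z hz
      obtain ⟨Q, hQ⟩ := exists_sylow_le_centralizer (hG z (exists_orderOf_of_mem P.2 hz))
      obtain ⟨k, hk⟩ := sylow_cj_eq P Q
      rw [Subgroup.mem_centralizer_iff]
      intro e he
      have he' : e ∈ (Q : Subgroup G) := by
        rw [hk, mem_cj]
        exact hEP (hEn.conj_mem e he k⁻¹ |> fun h => by simpa using h)
      exact Subgroup.mem_centralizer_singleton_iff.mp (hQ he')
    by_cases hK : Subgroup.centralizer (E : Set G) = ⊤
    · -- `E` is central
      have hcen : ∀ e ∈ E, ∀ w : G, w * e = e * w := by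
        intro e he w
        have hw : w ∈ Subgroup.centralizer (E : Set G) := by rw [hK]; trivial
        exact (Subgroup.mem_centralizer_iff.mp hw e he).symm
      by_cases hEbot : E = ⊥
      · -- `P` is trivial
        have hx1 : x = 1 := by
          obtain ⟨k, hk⟩ := exists_orderOf_of_mem P.2 hx
          rcases Nat.eq_zero_or_pos k with h0 | hpos
          · rw [h0, pow_zero] at hk
            exact orderOf_eq_one_iff.mp hk
          · exfalso
            obtain ⟨j, rfl⟩ : ∃ j, k = j + 1 := ⟨k - 1, by omega⟩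
            have hz : x ^ 2 ^ j ∈ E := by
              rw [hE]
              refine ⟨Subgroup.pow_mem _ hx _, ?_⟩
              rw [← pow_two, ← pow_mul, ← pow_succ, ← hk]
              exact pow_orderOf_eq_one x
            rw [hEbot, Subgroup.mem_bot] at hz
            have h1 := orderOf_dvd_of_pow_eq_one hz
            rw [hk] at h1
            have h2 := Nat.le_of_dvd (by positivity) h1
            have h3 : 2 ^ j < 2 ^ (j + 1) := Nat.pow_lt_pow_right (by norm_num) (by omega)
            omega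
        rw [hx1, one_mul, mul_one]
      · -- pass to the quotient `G ⧸ E`
        have hlt : Nat.card (G ⧸ E) < n := by
          rw [← hn, Subgroup.card_eq_card_quotient_mul_card_subgroup E]
          have h1 : 1 < Nat.card E := (Subgroup.one_lt_card_iff_ne_bot E).mpr hEbot
          have h2 : 0 < Nat.card (G ⧸ E) := Nat.card_pos
          nlinarith
        have hQp : IsPGroup 2 ((P : Subgroup G).map (QuotientGroup.mk' E)) := P.2.map _
        obtain ⟨Qb, hQb⟩ := hQp.exists_le_sylow
        have hxb : (QuotientGroup.mk' E) x ∈ (Qb : Subgroup (G ⧸ E)) :=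
          hQb (Subgroup.mem_map_of_mem _ hx)
        have hyb : (QuotientGroup.mk' E) y ∈ (Qb : Subgroup (G ⧸ E)) :=
          hQb (Subgroup.mem_map_of_mem _ hy)
        have hcomm := ih _ hlt (G ⧸ E) rfl (hyp_quotient hG E hE2) Qb _ hxb _ hyb
        rw [← map_mul, ← map_mul] at hcomm
        have he : (y * x)⁻¹ * (x * y) ∈ E := by
          have := (QuotientGroup.eq (s := E)).mp hcomm.symm
          exact this
        by_cases he1 : (y * x)⁻¹ * (x * y) = 1
        · have : y * x * ((y * x)⁻¹ * (x * y)) = y * x * 1 := by rw [he1]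
          rw [mul_one] at this
          rw [← this]; group
        · exfalso
          have hconj : y⁻¹ * x * y⁻¹⁻¹ = x * ((y * x)⁻¹ * (x * y)) := by group
          exact hG x (exists_orderOf_of_mem P.2 hx)
            (two_dvd_index_of_mul_central (hcen _ he) (hE2 _ he) he1 hconj)
    · -- induct on `C_G(E)`
      exact step _ hK (hyp_normal hG _) hPK
  · -- induct on `N_G(E)`
    refine step _ hN (hyp_subgroup _ ?_) (hE ▸ le_normalizer_Omega hG _ P.2)
    intro z hz hz2
    subst hE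
    exact hyp_normalizer hG P hz hz2

end Main


/-- If every element of 2-power order of a finite group has a conjugacy class of odd size, then the Sylow 2-subgroups of the group are abelian. -/
theorem result {G : Type*} [Group G] [Finite G]
    (h : ∀ x : G, (∃ k : ℕ, orderOf x = 2 ^ k) → ¬ 2 ∣ (Subgroup.centralizer ({x} : Set G)).index) (P : Sylow 2 G) :
    IsMulCommutative P := by
  have := main (Nat.card G) G rfl h P
  exact ⟨⟨fun a b => Subtype.ext (this a a.2 b b.2)⟩⟩

end Cfsg.Agent.S4355
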