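import Cfsg.Statements.S4255
import Cfsg.Agent.S4355
import Cfsg.Agent.S4160
import Cfsg.Agent.S4108
import Cfsg.Agent.S0006
import Cfsg.Agent.S3824
import Cfsg.Agent.Lib.Helper21_Ito
import Cfsg.Agent.Lib.Helper2_Transfer

set_option autoImplicit false
open Cfsg

namespace Cfsg.Agent.S4255

/-- all prime divisors of `k` lie in `T` -/
def Pure (T : Set ℕ) (k : ℕ) : Prop := ∀ p : ℕ, p.Prime → p ∣ k → p ∈ T

theorem Pure.of_dvd {T : Set ℕ} {a b : ℕ} (h : Pure T a) (hb : b ∣ a) : Pure T b :=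
  fun p hp hpb => h p hp (hpb.trans hb)

theorem Pure.coprime {T : Set ℕ} {a b : ℕ} (ha : Pure T a) (hb : Pure Tᶜ b) : Nat.Coprime a b := by
  apply Nat.coprime_of_dvd
  intro p hp hpa hpb
  exact hb p hp hpb (ha p hp hpa)

theorem Pure.eq_one {T : Set ℕ} {a : ℕ} (ha : Pure T a) (hb : Pure Tᶜ a) : a = 1 := by
  have := ha.coprime hb
  exact Nat.coprime_self a |>.mp this

theorem pure_one (T : Set ℕ) : Pure T 1 := by
  intro p hp h1
  exact absurd (Nat.dvd_one.mp h1) hp.ne_one

section Basic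

variable {G : Type*} [Group G] [Finite G]

/-- class size -/
noncomputable def cs (x : G) : ℕ := (Subgroup.centralizer ({x} : Set G)).index

omit [Finite G] in
theorem cs_def (x : G) : cs x = (Subgroup.centralizer ({x} : Set G)).index := rfl

theorem cs_ne_zero (x : G) : cs x ≠ 0 := Subgroup.index_ne_zero_of_finite

omit [Finite G] in
theorem cs_eq_one_iff (x : G) : cs x = 1 ↔ x ∈ Subgroup.center G := by
  unfold cs
  rw [Subgroup.index_eq_one]
  constructor
  · intro h
    rw [Subgroup.mem_center_iff]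
    intro g
    have hg : g ∈ Subgroup.centralizer ({x} : Set G) := by rw [h]; trivial
    rw [Subgroup.mem_centralizer_singleton_iff] at hg
    exact hg
  · intro h
    rw [eq_top_iff]
    intro g _
    rw [Subgroup.mem_centralizer_singleton_iff]
    rw [Subgroup.mem_center_iff] at h
    exact h g

omit [Finite G] in
theorem cs_conj (g x : G) : cs (g * x * g⁻¹) = cs x := by
  unfold cs
  have h : Subgroup.centralizer ({g * x * g⁻¹} : Set G) =
      (Subgroup.centralizer ({x} : Set G)).map (MulAut.conj g).toMonoidHom := by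
    ext y
    rw [Subgroup.mem_centralizer_singleton_iff, Subgroup.mem_map]
    constructor
    · intro hy
      refine ⟨g⁻¹ * y * g, ?_, ?_⟩
      · rw [Subgroup.mem_centralizer_singleton_iff]
        calc g⁻¹ * y * g * x = g⁻¹ * (y * (g * x * g⁻¹)) * g := by group
          _ = g⁻¹ * ((g * x * g⁻¹) * y) * g := by rw [hy]
          _ = x * (g⁻¹ * y * g) := by group
      · simp [MulAut.conj_apply, mul_assoc]
    · rintro ⟨z, hz, rfl⟩
      rw [Subgroup.mem_centralizer_singleton_iff] at hz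
      simp only [MulEquiv.coe_toMonoidHom, MulAut.conj_apply]
      calc g * z * g⁻¹ * (g * x * g⁻¹) = g * (z * x) * g⁻¹ := by group
        _ = g * (x * z) * g⁻¹ := by rw [hz]
        _ = g * x * g⁻¹ * (g * z * g⁻¹) := by group
  rw [h]
  exact Subgroup.index_map_equiv _ (MulAut.conj g)

/-- coprime indices give a factorization -/
theorem exists_mul_of_coprime_index (A B : Subgroup G) (h : A.index.Coprime B.index) (g : G) :
    ∃ a ∈ A, ∃ b ∈ B, g = a * b := by
  apply Cfsg.Agent.S0006.exists_mul_of_relIndex_eq A B _ g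
  have h1 : B.relIndex A * A.index = (A ⊓ B).index := by
    rw [← Subgroup.inf_relIndex_left]
    exact Subgroup.relIndex_mul_index inf_le_left
  have h2 : A.relIndex B * B.index = (A ⊓ B).index := by
    rw [← Subgroup.inf_relIndex_right]
    exact Subgroup.relIndex_mul_index inf_le_right
  have h3 : B.index ∣ B.relIndex A * A.index := by
    rw [h1, ← h2]; exact Dvd.intro_left _ rfl
  have h4 : B.index ∣ B.relIndex A := (Nat.Coprime.dvd_of_dvd_mul_right h.symm h3)
  have h5 : B.relIndex A ≤ B.index := by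
    have := Subgroup.relIndex_le_of_le_right (H := B) (K := A) (L := ⊤) le_top
      (by rw [Subgroup.relIndex_top_right]; exact Subgroup.index_ne_zero_of_finite)
    rwa [Subgroup.relIndex_top_right] at this
  have h6 : B.relIndex A ≠ 0 := by
    unfold Subgroup.relIndex; exact Subgroup.index_ne_zero_of_finite
  exact le_antisymm h5 (Nat.le_of_dvd (Nat.pos_of_ne_zero h6) h4)

end Basic

open Cfsg.Agent.S4355 (cls index_centralizer_eq)

section MaxClass

variable {G : Type*} [Group G] [Finite G]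

omit [Finite G] in
theorem cs_eq_ncard (c : G) : cs c = (cls c).ncard := index_centralizer_eq c

omit [Finite G] in
theorem mem_cls_self (c : G) : c ∈ cls c := ⟨1, by simp⟩

omit [Finite G] in
theorem conj_mem_cls {c e : G} (he : e ∈ cls c) (g : G) : g * e * g⁻¹ ∈ cls c := by
  obtain ⟨h, rfl⟩ := he
  exact ⟨g * h, by group⟩

/-- products of conjugates of `x` and `d` are conjugate to `x * d` when the class sizes are coprime -/
theorem mul_mem_cls_mul {x d : G} (hcop : (cs d).Coprime (cs x)) (g : G) {e : G} (he : e ∈ cls d) :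
    (g * x * g⁻¹) * e ∈ cls (x * d) := by
  obtain ⟨h, rfl⟩ := he
  obtain ⟨c, hc, a, ha, hk⟩ := exists_mul_of_coprime_index
    (Subgroup.centralizer ({d} : Set G)) (Subgroup.centralizer ({x} : Set G)) hcop (h⁻¹ * g)
  rw [Subgroup.mem_centralizer_singleton_iff] at hc ha
  refine ⟨h * c, ?_⟩
  have hg : g = h * (c * a) := by rw [← hk]; group
  have h1 : a * x * a⁻¹ = x := by rw [ha]; group
  have h2 : c * d * c⁻¹ = d := by rw [hc]; group
  calc g * x * g⁻¹ * (h * d * h⁻¹)
      = h * (c * (a * x * a⁻¹) * c⁻¹) * d * h⁻¹ := by rw [hg]; group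
    _ = h * (c * x * c⁻¹) * (c * d * c⁻¹) * h⁻¹ := by rw [h1, h2]
    _ = h * c * (x * d) * (h * c)⁻¹ := by group

/-- the key property of a class of maximal size -/
theorem key_max {x d : G} (hcop : (cs d).Coprime (cs x)) (hmax : ∀ y : G, cs y ≤ cs d)
    (g : G) {e : G} (he : e ∈ cls d) : x⁻¹ * (g * x * g⁻¹) * e ∈ cls d := by
  have hsub : (fun e => x * e) '' (cls d) ⊆ cls (x * d) := by
    rintro _ ⟨e, he, rfl⟩
    have := mul_mem_cls_mul hcop 1 he
    simpa using this
  have hcard : (cls (x * d)).ncard ≤ ((fun e => x * e) '' (cls d)).ncard := by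
    rw [Set.ncard_image_of_injective _ (mul_right_injective x), ← cs_eq_ncard, ← cs_eq_ncard]
    exact hmax _
  have heq : (fun e => x * e) '' (cls d) = cls (x * d) :=
    Set.eq_of_subset_of_ncard_le hsub hcard (Set.toFinite _)
  have hmem : (g * x * g⁻¹) * e ∈ (fun e => x * e) '' (cls d) := by
    rw [heq]; exact mul_mem_cls_mul hcop g he
  obtain ⟨e', he', hee⟩ := hmem
  have : x⁻¹ * (g * x * g⁻¹) * e = e' := by
    have h := hee
    simp only at h
    rw [mul_assoc, ← h]; group
  rw [this]; exact he'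

/-- the left stabilizer of a class -/
def stab (d : G) : Subgroup G where
  carrier := {u | ∀ e ∈ cls d, u * e ∈ cls d}
  one_mem' := by intro e he; simpa using he
  mul_mem' := by
    intro u v hu hv e he
    rw [mul_assoc]; exact hu _ (hv e he)
  inv_mem' := by
    intro u hu
    have hpow : ∀ k : ℕ, ∀ e ∈ cls d, u ^ k * e ∈ cls d := by
      intro k
      induction k with
      | zero => intro e he; simpa using he
      | succ k ih =>
        intro e he
        rw [pow_succ, mul_assoc]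
        exact ih _ (hu e he)
    have hinv : u⁻¹ = u ^ (orderOf u - 1) := by
      have h1 : u ^ (orderOf u - 1) * u = 1 := by
        rw [← pow_succ, Nat.sub_add_cancel (orderOf_pos u), pow_orderOf_eq_one]
      exact (eq_inv_of_mul_eq_one_left h1).symm
    show u⁻¹ ∈ {u | ∀ e ∈ cls d, u * e ∈ cls d}
    rw [hinv]
    exact hpow _

theorem mem_stab {d u : G} : u ∈ stab d ↔ ∀ e ∈ cls d, u * e ∈ cls d := Iff.rfl

instance stab_normal (d : G) : (stab d).Normal := by
  constructor
  intro u hu g e he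
  have h1 : g⁻¹ * e * g⁻¹⁻¹ ∈ cls d := conj_mem_cls he g⁻¹
  have h2 := hu _ h1
  have h3 := conj_mem_cls h2 g
  have : g * u * g⁻¹ * e = g * (u * (g⁻¹ * e * g⁻¹⁻¹)) * g⁻¹ := by group
  rw [this]; exact h3

/-- the generators of `M` -/
def gens (T : Set ℕ) : Set G := {u | ∃ x g : G, Pure T (cs x) ∧ u = x⁻¹ * (g * x * g⁻¹)}

/-- the normal subgroup `M = [L_T, G]` -/
def MM (T : Set ℕ) : Subgroup G := Subgroup.normalClosure (gens T)

instance MM_normal (T : Set ℕ) : (MM (G := G) T).Normal := Subgroup.normalClosure_normal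

omit [Finite G] in
theorem comm_mem_MM {T : Set ℕ} {x : G} (hx : Pure T (cs x)) (g : G) :
    x⁻¹ * (g * x * g⁻¹) ∈ MM (G := G) T :=
  Subgroup.subset_normalClosure ⟨x, g, hx, rfl⟩

theorem MM_le_stab {T : Set ℕ} {d : G} (hd : Pure Tᶜ (cs d)) (hmax : ∀ y : G, cs y ≤ cs d) :
    MM (G := G) T ≤ stab d := by
  apply Subgroup.normalClosure_le_normal
  rintro u ⟨x, g, hx, rfl⟩
  intro e he
  exact key_max (hx.coprime hd).symm hmax g he

theorem card_MM_dvd {T : Set ℕ} {d : G} (hd : Pure Tᶜ (cs d)) (hmax : ∀ y : G, cs y ≤ cs d) :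
    Nat.card (MM (G := G) T) ∣ cs d := by
  classical
  have hst := MM_le_stab hd hmax
  let act : MulAction (MM (G := G) T) (cls d) :=
    { smul := fun m e => ⟨(m : G) * e, hst m.2 e e.2⟩
      one_smul := by intro e; apply Subtype.ext; show ((1 : MM (G := G) T) : G) * e = e; simp
      mul_smul := by
        intro m n e; apply Subtype.ext
        show ((m * n : MM (G := G) T) : G) * e = (m : G) * ((n : G) * e)
        simp [mul_assoc] }
  have hfree : ∀ e : cls d, MulAction.stabilizer (MM (G := G) T) e = ⊥ := by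
    intro e
    rw [eq_bot_iff]
    intro m hm
    rw [MulAction.mem_stabilizer_iff] at hm
    have h1 : (m : G) * e = e := congrArg Subtype.val hm
    have h2 : (m : G) = 1 := by
      have := mul_right_cancel (b := (e : G)) (a := (m : G)) (c := 1) (by rw [h1, one_mul])
      exact this
    rw [Subgroup.mem_bot]
    exact Subtype.ext h2
  have e1 := MulAction.selfEquivOrbitsQuotientProd hfree
  have h3 : Nat.card (cls d) = Nat.card (Quotient (MulAction.orbitRel (MM (G := G) T) (cls d))) *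
      Nat.card (MM (G := G) T) := by
    rw [Nat.card_congr e1, Nat.card_prod]
  rw [cs_eq_ncard, ← Nat.card_coe_set_eq, h3]
  exact Dvd.intro_left _ rfl

theorem pure_card_MM {T : Set ℕ} {d : G} (hd : Pure Tᶜ (cs d)) (hmax : ∀ y : G, cs y ≤ cs d) :
    Pure Tᶜ (Nat.card (MM (G := G) T)) :=
  hd.of_dvd (card_MM_dvd hd hmax)

end MaxClass


section Central

variable {G : Type*} [Group G] [Finite G]

/-- elements of `T`-pure class size centralize a normal subgroup of `Tᶜ`-pure order -/
theorem le_centralizer_of_pure {T : Set ℕ} (K : Subgroup G) [K.Normal]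
    (hK : Pure Tᶜ (Nat.card K)) {x : G} (hx : Pure T (cs x)) :
    K ≤ Subgroup.centralizer ({x} : Set G) := by
  have h1 : (Subgroup.centralizer ({x} : Set G)).relIndex K ∣ cs x :=
    Cfsg.Agent.S3824.relIndex_dvd_index_of_normal_right _ K
  have h2 : (Subgroup.centralizer ({x} : Set G)).relIndex K ∣ Nat.card K :=
    Subgroup.relIndex_dvd_card _ _
  have h3 : (Subgroup.centralizer ({x} : Set G)).relIndex K = 1 :=
    Nat.eq_one_of_dvd_coprimes ((hx.of_dvd h1).coprime (hK.of_dvd h2)) dvd_rfl dvd_rfl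
  exact Subgroup.relIndex_eq_one.mp h3

/-- a subgroup meeting every conjugacy class is everything -/
theorem eq_top_of_forall_conj_mem (C : Subgroup G) (h : ∀ x : G, ∃ g : G, g⁻¹ * x * g ∈ C) :
    C = ⊤ := by
  by_contra hne
  have h1 := Cfsg.Agent.S4160.ncard_conjUnion_le C
  have h2 : ({x : G | x ≠ 1 ∧ ∃ g : G, g⁻¹ * x * g ∈ C} : Set G) = ({1}ᶜ : Set G) := by
    ext x
    simp only [Set.mem_ofPred_eq, Set.mem_compl_iff, Set.mem_singleton_iff]
    exact ⟨fun hx => hx.1, fun hx => ⟨hx, h x⟩⟩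
  rw [h2, Set.ncard_compl ({1} : Set G) (Set.toFinite _) (Set.toFinite _), Set.ncard_singleton] at h1
  have h3 : (Subgroup.normalizer (C : Set G)).index ≤ C.index :=
    Nat.le_of_dvd (Nat.pos_of_ne_zero Subgroup.index_ne_zero_of_finite)
      (Subgroup.index_dvd_of_le Subgroup.le_normalizer)
  have h4 : Nat.card C * C.index = Nat.card G := Subgroup.card_mul_index C
  have h5 : 1 < C.index := Subgroup.one_lt_index_of_ne_top hne
  have h6 : 1 ≤ Nat.card C := Nat.card_pos
  have h7 : (Subgroup.normalizer (C : Set G)).index * (Nat.card C - 1) ≤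
      C.index * (Nat.card C - 1) := Nat.mul_le_mul_right _ h3
  have h8 : C.index * (Nat.card C - 1) + C.index = Nat.card G := by
    rw [← h4]
    have : Nat.card C - 1 + 1 = Nat.card C := Nat.sub_add_cancel h6
    calc C.index * (Nat.card C - 1) + C.index = C.index * (Nat.card C - 1 + 1) := by ring
      _ = Nat.card C * C.index := by rw [this]; ring
  omega

/-- the elements that are central modulo `M` -/
def cmod (T : Set ℕ) : Subgroup G :=
  (Subgroup.center (G ⧸ MM (G := G) T)).comap (QuotientGroup.mk' (MM (G := G) T))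

omit [Finite G] in
theorem mem_cmod {T : Set ℕ} {u : G} :
    u ∈ cmod (G := G) T ↔ ∀ g : G, u⁻¹ * (g * u * g⁻¹) ∈ MM (G := G) T := by
  unfold cmod
  rw [Subgroup.mem_comap, Subgroup.mem_center_iff]
  constructor
  · intro h g
    have h1 := h (QuotientGroup.mk' _ g)
    rw [← QuotientGroup.eq_one_iff]
    have h2 : (QuotientGroup.mk' (MM (G := G) T)) g * (QuotientGroup.mk' (MM (G := G) T)) u *
        ((QuotientGroup.mk' (MM (G := G) T)) g)⁻¹ = (QuotientGroup.mk' (MM (G := G) T)) u := by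
      rw [h1]; group
    have h3 : ((u⁻¹ * (g * u * g⁻¹) : G) : G ⧸ MM (G := G) T) =
        ((QuotientGroup.mk' (MM (G := G) T)) u)⁻¹ * ((QuotientGroup.mk' (MM (G := G) T)) g *
          (QuotientGroup.mk' (MM (G := G) T)) u * ((QuotientGroup.mk' (MM (G := G) T)) g)⁻¹) := by
      simp
    rw [h3, h2]; group
  · intro h gb
    obtain ⟨g, rfl⟩ := QuotientGroup.mk'_surjective (MM (G := G) T) gb
    have h1 := h g
    rw [← QuotientGroup.eq_one_iff] at h1
    have h3 : ((u⁻¹ * (g * u * g⁻¹) : G) : G ⧸ MM (G := G) T) =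
        ((QuotientGroup.mk' (MM (G := G) T)) u)⁻¹ * ((QuotientGroup.mk' (MM (G := G) T)) g *
          (QuotientGroup.mk' (MM (G := G) T)) u * ((QuotientGroup.mk' (MM (G := G) T)) g)⁻¹) := by
      simp
    rw [h3] at h1
    have h4 := congrArg (fun t => (QuotientGroup.mk' (MM (G := G) T)) u * t *
      (QuotientGroup.mk' (MM (G := G) T)) g) h1
    simp only [mul_one] at h4
    rw [← h4]; group

omit [Finite G] in
theorem pure_mem_cmod {T : Set ℕ} {x : G} (hx : Pure T (cs x)) : x ∈ cmod (G := G) T :=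
  mem_cmod.mpr fun g => comm_mem_MM hx g

/-- Sylow `q`-subgroups for `q ∈ T` are central modulo `M` -/
theorem sylow_le_cmod {T : Set ℕ} (F0 : ∀ g : G, Pure T (cs g) ∨ Pure Tᶜ (cs g))
    {q : ℕ} [hq : Fact q.Prime] (hqT : q ∈ T) (Q : Sylow q G) :
    (Q : Subgroup G) ≤ cmod (G := G) T := by
  set f := QuotientGroup.mk' (MM (G := G) T) with hf
  set C : Subgroup G := (Subgroup.centralizer (((Q : Subgroup G).map f : Subgroup _) : Set _)).comap f
    with hC
  have hcen : Subgroup.centralizer ((Q : Subgroup G) : Set G) ≤ C := by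
    intro c hc
    rw [hC, Subgroup.mem_comap, Subgroup.mem_centralizer_iff]
    rintro _ ⟨u, hu, rfl⟩
    rw [Subgroup.mem_centralizer_iff] at hc
    rw [← map_mul, ← map_mul, hc u hu]
  have hcm : cmod (G := G) T ≤ C := by
    intro c hc
    rw [hC, Subgroup.mem_comap, Subgroup.mem_centralizer_iff]
    intro y _
    unfold cmod at hc
    rw [Subgroup.mem_comap, Subgroup.mem_center_iff] at hc
    exact hc y
  have htop : C = ⊤ := by
    apply eq_top_of_forall_conj_mem
    intro x
    rcases F0 x with hx | hx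
    · exact ⟨1, by simpa using hcm (pure_mem_cmod hx)⟩
    · have hnd : ¬ q ∣ (Subgroup.centralizer ({x} : Set G)).index := fun hd => hx q hq.out hd hqT
      obtain ⟨g, hg⟩ := Cfsg.Agent.S4160.exists_conj_mem_centralizer Q x hnd
      exact ⟨g, hcen hg⟩
  intro u hu
  unfold cmod
  rw [Subgroup.mem_comap, Subgroup.mem_center_iff]
  intro gb
  obtain ⟨g, rfl⟩ := QuotientGroup.mk'_surjective (MM (G := G) T) gb
  have hg : g ∈ C := by rw [htop]; trivial
  rw [hC, Subgroup.mem_comap, Subgroup.mem_centralizer_iff] at hg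
  exact (hg _ ⟨u, hu, rfl⟩).symm

end Central


section Hall

variable {G : Type*} [Group G] [Finite G]

/-- the standing hypotheses -/
structure Setup (T : Set ℕ) (d : G) : Prop where
  F0 : ∀ g : G, Pure T (cs g) ∨ Pure Tᶜ (cs g)
  hd : Pure Tᶜ (cs d)
  hmax : ∀ y : G, cs y ≤ cs d

theorem Setup.pureM {T : Set ℕ} {d : G} (h : Setup T d) : Pure Tᶜ (Nat.card (MM (G := G) T)) :=
  pure_card_MM h.hd h.hmax

theorem Setup.inf_MM {T : Set ℕ} {d : G} (h : Setup T d) {q : ℕ} [hq : Fact q.Prime] (hqT : q ∈ T)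
    (Q : Sylow q G) : (Q : Subgroup G) ⊓ MM (G := G) T = ⊥ := by
  apply Disjoint.eq_bot
  apply Subgroup.disjoint_of_coprime_natCard
  obtain ⟨k, hk⟩ := Q.2.exists_card_eq
  rw [hk]
  apply Nat.Coprime.pow_left
  rw [Nat.Prime.coprime_iff_not_dvd hq.out]
  intro hd
  exact h.pureM q hq.out hd hqT

theorem Setup.normalizer_le {T : Set ℕ} {d : G} (h : Setup T d) {q : ℕ} [hq : Fact q.Prime]
    (hqT : q ∈ T) (Q : Sylow q G) :
    Subgroup.normalizer ((Q : Subgroup G) : Set G) ≤ Subgroup.centralizer ((Q : Subgroup G) : Set G) := by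
  intro n hn
  rw [Subgroup.mem_centralizer_iff]
  intro u hu
  have h1 : n * u * n⁻¹ ∈ (Q : Subgroup G) := by
    rw [Subgroup.mem_normalizer_iff] at hn
    exact (hn u).mp hu
  have h2 : u⁻¹ * (n * u * n⁻¹) ∈ MM (G := G) T := mem_cmod.mp (sylow_le_cmod h.F0 hqT Q hu) n
  have h3 : u⁻¹ * (n * u * n⁻¹) ∈ (Q : Subgroup G) ⊓ MM (G := G) T :=
    ⟨(Q : Subgroup G).mul_mem ((Q : Subgroup G).inv_mem hu) h1, h2⟩
  rw [h.inf_MM hqT Q, Subgroup.mem_bot] at h3
  have h4 : n * u * n⁻¹ = u := by
    have := congrArg (fun t => u * t) h3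
    simpa [mul_assoc] using this
  calc u * n = (n * u * n⁻¹) * n := by rw [h4]
    _ = n * u := by group

/-- the residual: intersection of the normal subgroups of `T`-prime-power index with abelian quotient -/
def BB (T : Set ℕ) : Subgroup G :=
  sInf {K : Subgroup G | K.Normal ∧ commutator G ≤ K ∧
    ∃ q : ℕ, q.Prime ∧ q ∈ T ∧ ∃ k : ℕ, K.index = q ^ k}

omit [Finite G] in
theorem mem_BB {T : Set ℕ} {x : G} : x ∈ BB (G := G) T ↔ ∀ K : Subgroup G, K.Normal → commutator G ≤ K →
    (∃ q : ℕ, q.Prime ∧ q ∈ T ∧ ∃ k : ℕ, K.index = q ^ k) → x ∈ K := by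
  unfold BB
  rw [Subgroup.mem_sInf]
  constructor
  · intro h K h1 h2 h3; exact h K ⟨h1, h2, h3⟩
  · rintro h K ⟨h1, h2, h3⟩; exact h K h1 h2 h3

instance BB_normal (T : Set ℕ) : (BB (G := G) T).Normal := by
  constructor
  intro x hx g
  rw [mem_BB] at hx ⊢
  intro K h1 h2 h3
  exact h1.conj_mem x (hx K h1 h2 h3) g

omit [Finite G] in
theorem commutator_le_BB (T : Set ℕ) : commutator G ≤ BB (G := G) T := by
  intro x hx
  rw [mem_BB]
  intro K _ h2 _
  exact h2 hx

omit [Finite G] in
/-- elements of `Tᶜ`-pure order lie in `BB` -/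
theorem mem_BB_of_pure {T : Set ℕ} {u : G} (hu : Pure Tᶜ (orderOf u)) : u ∈ BB (G := G) T := by
  rw [mem_BB]
  rintro K hK _ ⟨q, hq, hqT, k, hk⟩
  have h1 : u ^ K.index ∈ K := Subgroup.pow_index_mem K u
  have hcop : (K.index).Coprime (orderOf u) := by
    rw [hk]
    apply Nat.Coprime.pow_left
    rw [Nat.Prime.coprime_iff_not_dvd hq]
    intro hd
    exact hu q hq hd hqT
  obtain ⟨m, hm⟩ := exists_pow_eq_self_of_coprime hcop
  rw [← hm]
  exact K.pow_mem h1 m

omit [Finite G] in
theorem le_BB_of_pure {T : Set ℕ} (K : Subgroup G) (hK : Pure Tᶜ (Nat.card K)) :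
    K ≤ BB (G := G) T := by
  intro u hu
  apply mem_BB_of_pure
  apply hK.of_dvd
  have : orderOf (⟨u, hu⟩ : K) ∣ Nat.card K := orderOf_dvd_natCard _
  rwa [← Subgroup.orderOf_coe] at this

theorem pure_index_BB (T : Set ℕ) : Pure T (BB (G := G) T).index := by
  intro r hr hdvd
  by_contra hrT
  have : Fact r.Prime := ⟨hr⟩
  let R : Sylow r G := default
  have hle : (R : Subgroup G) ≤ BB (G := G) T := by
    intro u hu
    apply mem_BB_of_pure
    obtain ⟨j, hj⟩ := (IsPGroup.iff_orderOf.mp R.2) ⟨u, hu⟩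
    rw [← Subgroup.orderOf_coe] at hj
    simp only at hj
    intro p hp hpd
    rw [hj] at hpd
    have : p = r := (Nat.prime_dvd_prime_iff_eq hp hr).mp (hp.dvd_of_dvd_pow hpd)
    rw [this]; exact hrT
  exact R.not_dvd_index (hdvd.trans (Subgroup.index_dvd_of_le hle))

theorem Setup.pure_card_BB {T : Set ℕ} {d : G} (h : Setup T d) :
    Pure Tᶜ (Nat.card (BB (G := G) T)) := by
  intro q hq hdvd hqT
  have : Fact q.Prime := ⟨hq⟩
  let Q : Sylow q G := default
  have hN := h.normalizer_le hqT Q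
  set K := (MonoidHom.transferSylow Q hN).ker with hK
  have hc : K.IsComplement' (Q : Subgroup G) := MonoidHom.ker_transferSylow_isComplement' Q hN
  have hcomm : commutator G ≤ K := by
    rw [commutator_def, Subgroup.commutator_le]
    intro a _ b _
    rw [hK, MonoidHom.mem_ker, commutatorElement_def, map_mul, map_mul, map_mul, map_inv, map_inv]
    have hab : (MonoidHom.transferSylow Q hN) a * (MonoidHom.transferSylow Q hN) b =
        (MonoidHom.transferSylow Q hN) b * (MonoidHom.transferSylow Q hN) a := by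
      apply Subtype.ext
      have h1 := hN (Subgroup.le_normalizer ((MonoidHom.transferSylow Q hN) a).2)
      rw [Subgroup.mem_centralizer_iff] at h1
      exact (h1 _ ((MonoidHom.transferSylow Q hN) b).2).symm
    rw [hab]; group
  have hidx : K.index = Nat.card (Q : Subgroup G) := hc.symm.index_eq_card
  obtain ⟨k, hk⟩ := Q.2.exists_card_eq
  have hmem : BB (G := G) T ≤ K := by
    intro x hx
    exact mem_BB.mp hx K inferInstance hcomm ⟨q, hq, hqT, k, by rw [hidx, hk]⟩
  have h1 : ¬ q ∣ Nat.card K := Cfsg.Agent.Lib.Helper2_Transfer.not_dvd_card_of_isComplement' Q K hc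
  exact h1 (hdvd.trans (Subgroup.card_dvd_of_le hmem))

theorem Setup.MM_le_BB {T : Set ℕ} {d : G} (h : Setup T d) : MM (G := G) T ≤ BB (G := G) T :=
  le_BB_of_pure _ h.pureM

end Hall

open Cfsg.Agent.Lib.Helper21_Ito (exists_split mem_zpowers_mul_of_coprime centralizer_le_of_mem_zpowers)

section Kernel

variable {G : Type*} [Group G] [Finite G]

/-- the kernel candidate: the centralizer of `BB` -/
def NN (T : Set ℕ) : Subgroup G := Subgroup.centralizer (BB (G := G) T : Set G)

instance NN_normal (T : Set ℕ) : (NN (G := G) T).Normal := by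
  unfold NN; infer_instance

omit [Finite G] in
theorem mem_NN {T : Set ℕ} {x : G} : x ∈ NN (G := G) T ↔ ∀ b ∈ BB (G := G) T, b * x = x * b := by
  unfold NN; exact Subgroup.mem_centralizer_iff

theorem Setup.mem_NN_iff {T : Set ℕ} {d : G} (h : Setup T d) {x : G} :
    x ∈ NN (G := G) T ↔ Pure T (cs x) := by
  constructor
  · intro hx
    have hle : BB (G := G) T ≤ Subgroup.centralizer ({x} : Set G) := by
      intro b hb
      rw [Subgroup.mem_centralizer_singleton_iff]
      exact mem_NN.mp hx b hb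
    exact (pure_index_BB T).of_dvd (Subgroup.index_dvd_of_le hle)
  · intro hx
    have hle := le_centralizer_of_pure (BB (G := G) T) h.pure_card_BB hx
    rw [mem_NN]
    intro b hb
    have := hle hb
    rwa [Subgroup.mem_centralizer_singleton_iff] at this

omit [Finite G] in
theorem center_le_NN (T : Set ℕ) : Subgroup.center G ≤ NN (G := G) T := by
  intro z hz
  rw [mem_NN]
  intro b _
  rw [Subgroup.mem_center_iff] at hz
  exact hz b

theorem Setup.not_mem_NN {T : Set ℕ} {d : G} (h : Setup T d) {g : G} (hg : g ∉ NN (G := G) T) :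
    Pure Tᶜ (cs g) ∧ cs g ≠ 1 := by
  constructor
  · rcases h.F0 g with h1 | h1
    · exact absurd (h.mem_NN_iff.mpr h1) hg
    · exact h1
  · intro h1
    apply hg
    exact center_le_NN T ((cs_eq_one_iff g).mp h1)

theorem Setup.MM_le_NN {T : Set ℕ} {d : G} (h : Setup T d) : MM (G := G) T ≤ NN (G := G) T := by
  apply Subgroup.normalClosure_le_normal
  rintro u ⟨x, g, hx, rfl⟩
  have hxN : x ∈ NN (G := G) T := h.mem_NN_iff.mpr hx
  exact (NN (G := G) T).mul_mem ((NN (G := G) T).inv_mem hxN)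
    ((NN_normal T).conj_mem x hxN g)

omit [Finite G] in
/-- mixing lemma: commuting elements of coprime orders and opposite types cannot both be non-central -/
theorem no_mix {T : Set ℕ} (F0 : ∀ g : G, Pure T (cs g) ∨ Pure Tᶜ (cs g)) {x y : G}
    (hx : Pure T (cs x)) (hx1 : cs x ≠ 1) (hy : Pure Tᶜ (cs y)) (hy1 : cs y ≠ 1)
    (hc : Commute x y) (hco : (orderOf x).Coprime (orderOf y)) : False := by
  have h1 : x ∈ Subgroup.zpowers (x * y) := mem_zpowers_mul_of_coprime hc hco
  have h2 : y ∈ Subgroup.zpowers (x * y) := by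
    have := mem_zpowers_mul_of_coprime hc.symm hco.symm
    rwa [hc.symm.eq] at this
  have d1 : cs x ∣ cs (x * y) := Subgroup.index_dvd_of_le (centralizer_le_of_mem_zpowers h1)
  have d2 : cs y ∣ cs (x * y) := Subgroup.index_dvd_of_le (centralizer_le_of_mem_zpowers h2)
  rcases F0 (x * y) with h3 | h3
  · exact hy1 ((h3.of_dvd d2).eq_one hy)
  · exact hx1 (hx.eq_one (h3.of_dvd d1))

/-- an element outside a subgroup has a primary power outside it -/
theorem exists_primary_not_mem (N : Subgroup G) : ∀ (n : ℕ) (g : G), orderOf g = n → g ∉ N →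
    ∃ p : ℕ, p.Prime ∧ ∃ g' : G, g' ∈ Subgroup.zpowers g ∧ g' ∉ N ∧ ∃ k : ℕ, g' ^ (p ^ k) = 1 := by
  intro n
  induction n using Nat.strong_induction_on with
  | _ n ih =>
    intro g hn hg
    have hg1 : g ≠ 1 := by rintro rfl; exact hg N.one_mem
    have ho1 : orderOf g ≠ 1 := fun h => hg1 (orderOf_eq_one_iff.mp h)
    obtain ⟨p, hp, hpd⟩ := Nat.exists_prime_and_dvd ho1
    have : Fact p.Prime := ⟨hp⟩
    obtain ⟨a, b, ha, hb, hab, hak, hbc⟩ := exists_split g p
    by_cases haN : a ∈ N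
    · have hbN : b ∉ N := by
        intro hbN; apply hg; rw [← hab]; exact N.mul_mem haN hbN
      have hdvd : orderOf b ∣ orderOf g := orderOf_dvd_of_mem_zpowers hb
      have hlt : orderOf b < n := by
        rw [← hn]
        apply lt_of_le_of_ne (Nat.le_of_dvd (orderOf_pos g) hdvd)
        intro heq
        rw [heq] at hbc
        exact (Nat.Prime.coprime_iff_not_dvd hp).mp hbc.symm hpd
      obtain ⟨p', hp', g', hg', hg'N, hk'⟩ := ih _ hlt b rfl hbN
      refine ⟨p', hp', g', ?_, hg'N, hk'⟩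
      have hle : Subgroup.zpowers b ≤ Subgroup.zpowers g := Subgroup.zpowers_le.mpr hb
      exact hle hg'
    · exact ⟨p, hp, a, ha, haN, hak⟩

omit [Finite G] in
/-- conjugating by powers when the commutator is centralized -/
theorem conj_pow_eq {x y c : G} (h : y * x * y⁻¹ = x * c) (hcy : Commute c y) (j : ℕ) :
    y ^ j * x * (y ^ j)⁻¹ = x * c ^ j := by
  induction j with
  | zero => simp
  | succ j ih =>
    have hcyj : Commute c (y ^ j) := hcy.pow_right j
    calc y ^ (j + 1) * x * (y ^ (j + 1))⁻¹ = y ^ j * (y * x * y⁻¹) * (y ^ j)⁻¹ := by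
          rw [pow_succ]; group
      _ = y ^ j * (x * c) * (y ^ j)⁻¹ := by rw [h]
      _ = (y ^ j * x * (y ^ j)⁻¹) * (y ^ j * c * (y ^ j)⁻¹) := by group
      _ = (x * c ^ j) * c := by
          rw [ih]
          have : y ^ j * c * (y ^ j)⁻¹ = c := by rw [← hcyj.eq]; group
          rw [this]
      _ = x * c ^ (j + 1) := by rw [pow_succ, mul_assoc]

omit [Finite G] in
theorem eq_one_of_pow_coprime {c : G} {a b : ℕ} (ha : c ^ a = 1) (hb : c ^ b = 1)
    (hab : a.Coprime b) : c = 1 := by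
  have h1 : orderOf c ∣ a := orderOf_dvd_of_pow_eq_one ha
  have h2 : orderOf c ∣ b := orderOf_dvd_of_pow_eq_one hb
  have h3 : orderOf c ∣ 1 := by
    have := Nat.dvd_gcd h1 h2
    rwa [hab] at this
  exact orderOf_eq_one_iff.mp (Nat.dvd_one.mp h3)

theorem Setup.NN_comm {T : Set ℕ} {d : G} (h : Setup T d) {x y : G} (hx : x ∈ NN (G := G) T)
    (hy : y ∈ NN (G := G) T) : x * y = y * x := by
  set c := x⁻¹ * (y * x * y⁻¹) with hc
  have hcM : c ∈ MM (G := G) T := comm_mem_MM (h.mem_NN_iff.mp hx) y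
  have hcB : c ∈ BB (G := G) T := h.MM_le_BB hcM
  have hcy : Commute c y := mem_NN.mp hy c hcB
  have hconj : y * x * y⁻¹ = x * c := by rw [hc]; group
  have h1 := conj_pow_eq hconj hcy (BB (G := G) T).index
  have h2 : y ^ (BB (G := G) T).index ∈ BB (G := G) T := Subgroup.pow_index_mem _ y
  have h3 : y ^ (BB (G := G) T).index * x = x * y ^ (BB (G := G) T).index := mem_NN.mp hx _ h2
  have h4 : c ^ (BB (G := G) T).index = 1 := by
    have : y ^ (BB (G := G) T).index * x * (y ^ (BB (G := G) T).index)⁻¹ = x := by rw [h3]; group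
    rw [this] at h1
    exact (mul_eq_left.mp h1.symm)
  have h5 : c ^ Nat.card (BB (G := G) T) = 1 := by
    have := pow_card_eq_one' (G := BB (G := G) T) (x := ⟨c, hcB⟩)
    exact congrArg Subtype.val this
  have h6 : c = 1 := eq_one_of_pow_coprime h4 h5 ((pure_index_BB T).coprime h.pure_card_BB)
  rw [h6, mul_one] at hconj
  calc x * y = (y * x * y⁻¹) * y := by rw [hconj]
    _ = y * x := by group

/-- powers by the order of `BB` are central -/
theorem Setup.pow_card_mem_center {T : Set ℕ} {d : G} (h : Setup T d) {x : G}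
    (hx : x ∈ NN (G := G) T) : x ^ Nat.card (BB (G := G) T) ∈ Subgroup.center G := by
  rw [Subgroup.mem_center_iff]
  intro g
  set c := x⁻¹ * (g * x * g⁻¹) with hc
  have hcM : c ∈ MM (G := G) T := comm_mem_MM (h.mem_NN_iff.mp hx) g
  have hcB : c ∈ BB (G := G) T := h.MM_le_BB hcM
  have hcx : Commute x c := (mem_NN.mp hx c hcB).symm
  have hconj : g * x * g⁻¹ = x * c := by rw [hc]; group
  have h5 : c ^ Nat.card (BB (G := G) T) = 1 := by
    have := pow_card_eq_one' (G := BB (G := G) T) (x := ⟨c, hcB⟩)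
    exact congrArg Subtype.val this
  have h6 : g * x ^ Nat.card (BB (G := G) T) * g⁻¹ = x ^ Nat.card (BB (G := G) T) := by
    have : g * x ^ Nat.card (BB (G := G) T) * g⁻¹ = (g * x * g⁻¹) ^ Nat.card (BB (G := G) T) := by
      rw [conj_pow]
    rw [this, hconj, hcx.mul_pow, h5, mul_one]
  calc g * x ^ Nat.card (BB (G := G) T) = (g * x ^ Nat.card (BB (G := G) T) * g⁻¹) * g := by group
    _ = x ^ Nat.card (BB (G := G) T) * g := by rw [h6]

/-- an element of `NN` with a central power of exponent prime to `|BB|` is central -/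
theorem Setup.mem_center_of_pow {T : Set ℕ} {d : G} (h : Setup T d) {x : G}
    (hx : x ∈ NN (G := G) T) {m : ℕ} (hm : x ^ m ∈ Subgroup.center G)
    (hcop : m.Coprime (Nat.card (BB (G := G) T))) : x ∈ Subgroup.center G := by
  have h1 := h.pow_card_mem_center hx
  rw [← QuotientGroup.eq_one_iff] at hm h1 ⊢
  rw [QuotientGroup.mk_pow] at hm h1
  exact eq_one_of_pow_coprime hm h1 hcop

end Kernel


section Fpf

open scoped commutatorElement

variable {G : Type*} [Group G] [Finite G]

omit [Finite G] in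
theorem normal_of_commutator_le (Y : Subgroup G) (hY : commutator G ≤ Y) : Y.Normal := by
  constructor
  intro y hy g
  have h1 : ⁅g, y⁆ ∈ Y := hY (by
    rw [commutator_def]
    exact Subgroup.commutator_mem_commutator (Subgroup.mem_top g) (Subgroup.mem_top y))
  have : g * y * g⁻¹ = ⁅g, y⁆ * y := by rw [commutatorElement_def]; group
  rw [this]
  exact Y.mul_mem h1 hy

/-- Frattini factorization relative to `BB` -/
theorem exists_mul_normalizer (T : Set ℕ) {q : ℕ} [hq : Fact q.Prime] (Q : Sylow q G) (g : G) :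
    ∃ β ∈ BB (G := G) T, ∃ m ∈ Subgroup.normalizer ((Q : Subgroup G) : Set G), g = β * m := by
  have hYn : (BB (G := G) T ⊔ (Q : Subgroup G)).Normal :=
    normal_of_commutator_le _ ((commutator_le_BB T).trans le_sup_left)
  have htop := Sylow.normalizer_sup_eq_top' (N := BB (G := G) T ⊔ (Q : Subgroup G)) Q le_sup_right
  have h2 : BB (G := G) T ⊔ Subgroup.normalizer ((Q : Subgroup G) : Set G) = ⊤ := by
    rw [eq_top_iff, ← htop]
    apply sup_le
    · exact le_sup_right
    · apply sup_le le_sup_left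
      exact (Subgroup.le_normalizer).trans le_sup_right
  have hg : g ∈ ((BB (G := G) T ⊔ Subgroup.normalizer ((Q : Subgroup G) : Set G) : Subgroup G) : Set G) := by
    rw [h2]; exact Set.mem_univ g
  rw [Subgroup.normal_mul] at hg
  obtain ⟨β, hβ, m, hm, hgm⟩ := Set.mem_mul.mp hg
  exact ⟨β, hβ, m, hm, hgm.symm⟩

theorem Setup.BB_le_NN {T : Set ℕ} {d : G} (h : Setup T d) {x0 : G} (hx0 : Pure T (cs x0))
    (hx01 : cs x0 ≠ 1) : BB (G := G) T ≤ NN (G := G) T := by
  by_contra hne
  obtain ⟨b, hbB, hbN⟩ := SetLike.not_le_iff_exists.mp hne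
  have hcopk : ((BB (G := G) T).index).Coprime (Nat.card (BB (G := G) T)) :=
    (pure_index_BB T).coprime h.pure_card_BB
  have hx0N : x0 ∈ NN (G := G) T := h.mem_NN_iff.mpr hx0
  set x' := x0 ^ (BB (G := G) T).index with hx'
  have hx'B : x' ∈ BB (G := G) T := Subgroup.pow_index_mem _ x0
  have hx'N : x' ∈ NN (G := G) T := (NN (G := G) T).pow_mem hx0N _
  have hx'Z : cs x' ≠ 1 := by
    intro h1
    apply hx01
    rw [cs_eq_one_iff] at h1 ⊢
    exact h.mem_center_of_pow hx0N h1 hcopk
  obtain ⟨q, hq, hqd⟩ := Nat.exists_prime_and_dvd hx'Z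
  have hqT : q ∈ T := h.mem_NN_iff.mp hx'N q hq hqd
  have : Fact q.Prime := ⟨hq⟩
  let Q : Sylow q G := default
  -- first conjugation
  have hwN : b * x' ∉ NN (G := G) T := by
    intro hw
    apply hbN
    have := (NN (G := G) T).mul_mem hw ((NN (G := G) T).inv_mem hx'N)
    simpa using this
  have hq1 : ¬ q ∣ (Subgroup.centralizer ({b * x'} : Set G)).index := fun hd =>
    (h.not_mem_NN hwN).1 q hq hd hqT
  obtain ⟨g1, hg1⟩ := Cfsg.Agent.S4160.exists_conj_mem_centralizer Q (b * x') hq1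
  obtain ⟨γ, hγ⟩ : ∃ γ : G, γ = g1⁻¹ := ⟨_, rfl⟩
  have hg1' : γ * (b * x') * γ⁻¹ ∈ Subgroup.centralizer ((Q : Subgroup G) : Set G) := by
    rw [hγ, inv_inv]; exact hg1
  obtain ⟨b1, hb1⟩ : ∃ b1 : G, b1 = γ * b * γ⁻¹ := ⟨_, rfl⟩
  obtain ⟨x1, hx1⟩ : ∃ x1 : G, x1 = γ * x' * γ⁻¹ := ⟨_, rfl⟩
  have hb1B : b1 ∈ BB (G := G) T := by rw [hb1]; exact (BB_normal T).conj_mem b hbB γ
  have hb1N : b1 ∉ NN (G := G) T := by
    intro hb
    apply hbN
    have := (NN_normal T).conj_mem b1 hb γ⁻¹
    rw [hb1] at this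
    simpa [mul_assoc] using this
  have hx1B : x1 ∈ BB (G := G) T := by rw [hx1]; exact (BB_normal T).conj_mem x' hx'B γ
  have hx1N : x1 ∈ NN (G := G) T := by rw [hx1]; exact (NN_normal T).conj_mem x' hx'N γ
  have hcs1 : cs x1 = cs x' := by rw [hx1]; exact cs_conj γ x'
  have hw1 : b1 * x1 ∈ Subgroup.centralizer ((Q : Subgroup G) : Set G) := by
    have : b1 * x1 = γ * (b * x') * γ⁻¹ := by rw [hb1, hx1]; group
    rw [this]; exact hg1'
  have hw1B : b1 * x1 ∈ BB (G := G) T := (BB (G := G) T).mul_mem hb1B hx1B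
  -- second conjugation
  have hw2N : b1 * x1 * x1 ∉ NN (G := G) T := by
    intro hw
    apply hb1N
    have := (NN (G := G) T).mul_mem ((NN (G := G) T).mul_mem hw ((NN (G := G) T).inv_mem hx1N))
      ((NN (G := G) T).inv_mem hx1N)
    simpa [mul_assoc] using this
  have hq2 : ¬ q ∣ (Subgroup.centralizer ({b1 * x1 * x1} : Set G)).index := fun hd =>
    (h.not_mem_NN hw2N).1 q hq hd hqT
  obtain ⟨g2, hg2⟩ := Cfsg.Agent.S4160.exists_conj_mem_centralizer Q (b1 * x1 * x1) hq2
  obtain ⟨β, hβ, m, hm, hg2m⟩ := exists_mul_normalizer T Q g2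
  have hmC : m ∈ Subgroup.centralizer ((Q : Subgroup G) : Set G) := h.normalizer_le hqT Q hm
  have hβw : β⁻¹ * (b1 * x1 * x1) * β ∈ Subgroup.centralizer ((Q : Subgroup G) : Set G) := by
    have h1 := (Subgroup.centralizer ((Q : Subgroup G) : Set G)).mul_mem
      ((Subgroup.centralizer ((Q : Subgroup G) : Set G)).mul_mem hmC hg2)
      ((Subgroup.centralizer ((Q : Subgroup G) : Set G)).inv_mem hmC)
    have h2 : m * (g2⁻¹ * (b1 * x1 * x1) * g2) * m⁻¹ = β⁻¹ * (b1 * x1 * x1) * β := by
      rw [hg2m]; group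
    rwa [h2] at h1
  have hβx : β * x1 = x1 * β := mem_NN.mp hx1N β hβ
  obtain ⟨t, ht⟩ : ∃ t : G, t = β⁻¹ * (b1 * x1) * β := ⟨_, rfl⟩
  have htB : t ∈ BB (G := G) T := by
    rw [ht]
    have := (BB_normal T).conj_mem (b1 * x1) hw1B β⁻¹
    simpa using this
  have htx : β⁻¹ * (b1 * x1 * x1) * β = t * x1 := by
    rw [ht]
    calc β⁻¹ * (b1 * x1 * x1) * β = β⁻¹ * (b1 * x1) * (x1 * β) := by group
      _ = β⁻¹ * (b1 * x1) * (β * x1) := by rw [hβx]
      _ = β⁻¹ * (b1 * x1) * β * x1 := by group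
  rw [htx] at hβw
  -- every element of `Q` centralizes `x1`
  have hQx : (Q : Subgroup G) ≤ Subgroup.centralizer ({x1} : Set G) := by
    intro u hu
    rw [Subgroup.mem_centralizer_singleton_iff]
    have hu1 : u * (b1 * x1) = (b1 * x1) * u := (Subgroup.mem_centralizer_iff.mp hw1 u hu)
    have hu2 : u * (t * x1) = (t * x1) * u := (Subgroup.mem_centralizer_iff.mp hβw u hu)
    obtain ⟨μ, hμ⟩ : ∃ μ : G, μ = β⁻¹ * u * β * u⁻¹ := ⟨_, rfl⟩
    have hμM : μ ∈ MM (G := G) T := by
      have hu' : u⁻¹ ∈ cmod (G := G) T := sylow_le_cmod h.F0 hqT Q ((Q : Subgroup G).inv_mem hu)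
      have h1 := mem_cmod.mp hu' β⁻¹
      have h2 := (MM (G := G) T).inv_mem h1
      have h3 : (u⁻¹⁻¹ * (β⁻¹ * u⁻¹ * β⁻¹⁻¹))⁻¹ = μ := by rw [hμ]; group
      rwa [h3] at h2
    have hμN : μ ∈ NN (G := G) T := h.MM_le_NN hμM
    have huβ : u * β = β * μ * u := by rw [hμ]; group
    have hμt : t * μ = μ * t := mem_NN.mp hμN t htB
    have hut : u * t = t * u := by
      have hμw : (b1 * x1) * μ = μ * (b1 * x1) := mem_NN.mp hμN _ hw1B
      have e1 : u * t = μ⁻¹ * t * μ * u := by
        rw [ht]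
        calc u * (β⁻¹ * (b1 * x1) * β)
            = (β * μ)⁻¹ * (u * (b1 * x1)) * β := by
              have : u * β⁻¹ = (β * μ)⁻¹ * u := by
                have h1 : (β * μ) * (u * β⁻¹) = u := by
                  calc (β * μ) * (u * β⁻¹) = (β * μ * u) * β⁻¹ := by group
                    _ = (u * β) * β⁻¹ := by rw [huβ]
                    _ = u := by group
                calc u * β⁻¹ = (β * μ)⁻¹ * ((β * μ) * (u * β⁻¹)) := by group
                  _ = (β * μ)⁻¹ * u := by rw [h1]
              calc u * (β⁻¹ * (b1 * x1) * β) = (u * β⁻¹) * (b1 * x1) * β := by group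
                _ = (β * μ)⁻¹ * u * (b1 * x1) * β := by rw [this]
                _ = (β * μ)⁻¹ * (u * (b1 * x1)) * β := by group
          _ = (β * μ)⁻¹ * ((b1 * x1) * u) * β := by rw [hu1]
          _ = (β * μ)⁻¹ * (b1 * x1) * (u * β) := by group
          _ = (β * μ)⁻¹ * (b1 * x1) * (β * μ * u) := by rw [huβ]
          _ = μ⁻¹ * (β⁻¹ * (b1 * x1) * β) * μ * u := by group
      rw [e1]
      have : μ⁻¹ * t * μ = t := by
        calc μ⁻¹ * t * μ = μ⁻¹ * (t * μ) := by group
          _ = μ⁻¹ * (μ * t) := by rw [hμt]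
          _ = t := by group
      rw [this]
    calc u * x1 = t⁻¹ * (t * u) * x1 := by group
      _ = t⁻¹ * (u * t) * x1 := by rw [hut]
      _ = t⁻¹ * (u * (t * x1)) := by group
      _ = t⁻¹ * ((t * x1) * u) := by rw [hu2]
      _ = x1 * u := by group
  have hdvd : cs x1 ∣ (Q : Subgroup G).index := Subgroup.index_dvd_of_le hQx
  rw [hcs1] at hdvd
  exact Q.not_dvd_index (hqd.trans hdvd)

end Fpf


section Final

variable {G : Type*} [Group G] [Finite G]

/-- fixed-point-freeness modulo the centre -/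
theorem Setup.fpf {T : Set ℕ} {d : G} (h : Setup T d)
    (hBN : BB (G := G) T ≤ NN (G := G) T) {g x : G} (hg : g ∉ NN (G := G) T)
    (hx : x ∈ NN (G := G) T) (hc : g * x * g⁻¹ * x⁻¹ ∈ Subgroup.center G) :
    x ∈ Subgroup.center G := by
  -- step 1: `g` commutes with `x`
  have hgx : g * x = x * g := by
    obtain ⟨c, hcdef⟩ : ∃ c : G, c = g * x * g⁻¹ * x⁻¹ := ⟨_, rfl⟩
    rw [← hcdef] at hc
    have hcz : ∀ y : G, y * c = c * y := fun y => (Subgroup.mem_center_iff.mp hc y)
    have hc' : c = x⁻¹ * (g * x * g⁻¹) := by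
      calc c = x⁻¹ * (x * c) := by group
        _ = x⁻¹ * (c * x) := by rw [hcz x]
        _ = x⁻¹ * (g * x * g⁻¹) := by rw [hcdef]; group
    have hcM : c ∈ MM (G := G) T := by
      rw [hc']; exact comm_mem_MM (h.mem_NN_iff.mp hx) g
    have hcB : c ∈ BB (G := G) T := h.MM_le_BB hcM
    have hconj : g * x * g⁻¹ = x * c := by rw [hc']; group
    have h1 := conj_pow_eq hconj (hcz g).symm (BB (G := G) T).index
    have h2 : g ^ (BB (G := G) T).index ∈ BB (G := G) T := Subgroup.pow_index_mem _ g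
    have h3 : g ^ (BB (G := G) T).index * x = x * g ^ (BB (G := G) T).index := mem_NN.mp hx _ h2
    have h4 : c ^ (BB (G := G) T).index = 1 := by
      have : g ^ (BB (G := G) T).index * x * (g ^ (BB (G := G) T).index)⁻¹ = x := by rw [h3]; group
      rw [this] at h1
      exact (mul_eq_left.mp h1.symm)
    have h5 : c ^ Nat.card (BB (G := G) T) = 1 := by
      have := pow_card_eq_one' (G := BB (G := G) T) (x := ⟨c, hcB⟩)
      exact congrArg Subtype.val this
    have h6 : c = 1 := eq_one_of_pow_coprime h4 h5 ((pure_index_BB T).coprime h.pure_card_BB)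
    rw [h6, mul_one] at hconj
    calc g * x = (g * x * g⁻¹) * g := by group
      _ = x * g := by rw [hconj]
  -- step 2
  by_contra hxZ
  have hx1 : cs x ≠ 1 := fun h1 => hxZ ((cs_eq_one_iff x).mp h1)
  obtain ⟨p, hp, g', hg'z, hg'N, kk, hg'k⟩ := exists_primary_not_mem (NN (G := G) T) _ g rfl hg
  have hcomm : Commute g x := hgx
  have hg'x : Commute g' x := by
    obtain ⟨i, rfl⟩ := hg'z
    exact hcomm.zpow_left i
  have hg'2 := h.not_mem_NN hg'N
  have hordg' : orderOf g' ∣ p ^ kk := orderOf_dvd_of_pow_eq_one hg'k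
  by_cases hpT : p ∈ T
  · have : Fact p.Prime := ⟨hp⟩
    obtain ⟨a, b, ha, hb, hab, ⟨ka, hak⟩, hbc⟩ := exists_split x p
    have hzle : Subgroup.zpowers x ≤ NN (G := G) T := Subgroup.zpowers_le.mpr hx
    have haN : a ∈ NN (G := G) T := hzle ha
    have hbN : b ∈ NN (G := G) T := hzle hb
    have hpB : (p ^ ka).Coprime (Nat.card (BB (G := G) T)) := by
      apply Nat.Coprime.pow_left
      rw [Nat.Prime.coprime_iff_not_dvd hp]
      intro hd
      exact h.pure_card_BB p hp hd hpT
    have haZ : a ∈ Subgroup.center G :=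
      h.mem_center_of_pow haN (by rw [hak]; exact Subgroup.one_mem _) hpB
    have hbZ : b ∉ Subgroup.center G := by
      intro hbZ
      apply hxZ
      rw [← hab]
      exact Subgroup.mul_mem _ haZ hbZ
    have hb1 : cs b ≠ 1 := fun h1 => hbZ ((cs_eq_one_iff b).mp h1)
    have hbg' : Commute b g' := by
      obtain ⟨i, rfl⟩ := hb
      exact (hg'x.symm).zpow_left i
    have hco : (orderOf b).Coprime (orderOf g') :=
      Nat.Coprime.coprime_dvd_right hordg' (Nat.Coprime.pow_right kk hbc)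
    exact no_mix h.F0 (h.mem_NN_iff.mp hbN) hb1 hg'2.1 hg'2.2 hbg' hco
  · apply hg'N
    apply hBN
    apply mem_BB_of_pure
    intro r hr hrd
    have : r = p := (Nat.prime_dvd_prime_iff_eq hr hp).mp (hr.dvd_of_dvd_pow (hrd.trans hordg'))
    rw [this]; exact hpT

/-- the main theorem in asymmetric form -/
theorem main_asym {T : Set ℕ} {d : G} (h : Setup T d) {x0 : G} (hx0 : Pure T (cs x0))
    (hx01 : cs x0 ≠ 1) (hd1 : cs d ≠ 1) :
    ∃ H : Subgroup (G ⧸ Subgroup.center G), Cfsg.IsFrobeniusComplement H ∧ IsMulCommutative H ∧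
      ∀ x ∈ Cfsg.frobeniusKernel H, ∀ y ∈ Cfsg.frobeniusKernel H, x * y = y * x := by
  have hBN := h.BB_le_NN hx0 hx01
  set f := QuotientGroup.mk' (Subgroup.center G) with hf
  have hfs : Function.Surjective f := QuotientGroup.mk'_surjective _
  set Nb : Subgroup (G ⧸ Subgroup.center G) := (NN (G := G) T).map f with hNb
  have hNbn : Nb.Normal := Subgroup.Normal.map (NN_normal T) f hfs
  have hker : f.ker ≤ NN (G := G) T := by
    rw [hf, QuotientGroup.ker_mk']; exact center_le_NN T
  have hmemNb : ∀ g : G, f g ∈ Nb ↔ g ∈ NN (G := G) T := by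
    intro g
    rw [hNb]
    constructor
    · rintro ⟨y, hy, hyg⟩
      have h1 : y⁻¹ * g ∈ f.ker := by
        rw [MonoidHom.mem_ker, map_mul, map_inv, hyg]; group
      have h2 := (NN (G := G) T).mul_mem hy (hker h1)
      simpa using h2
    · intro hg; exact ⟨g, hg, rfl⟩
  -- coprimality
  have hidx : Nb.index = (NN (G := G) T).index := Subgroup.index_map_eq _ hfs hker
  have hpi : Pure T Nb.index := by
    rw [hidx]
    exact (pure_index_BB T).of_dvd (Subgroup.index_dvd_of_le hBN)
  have hpc : Pure Tᶜ (Nat.card Nb) := by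
    intro p hp hpd
    have : Fact p.Prime := ⟨hp⟩
    obtain ⟨y, hy⟩ := exists_prime_orderOf_dvd_card' (G := Nb) p hpd
    obtain ⟨x, hx, hxy⟩ := y.2
    have h1 : (y : G ⧸ Subgroup.center G) ^ Nat.card (BB (G := G) T) = 1 := by
      rw [← hxy, ← map_pow]
      have := h.pow_card_mem_center hx
      rw [hf]
      exact (QuotientGroup.eq_one_iff _).mpr this
    have h2 : orderOf (y : G ⧸ Subgroup.center G) ∣ Nat.card (BB (G := G) T) :=
      orderOf_dvd_of_pow_eq_one h1
    rw [Subgroup.orderOf_coe, hy] at h2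
    exact h.pure_card_BB p hp h2
  have hcop : (Nat.card Nb).Coprime Nb.index := (hpi.coprime hpc).symm
  obtain ⟨H, hH⟩ := Subgroup.exists_right_complement'_of_coprime hcop
  have hsup : Nb ⊔ H = ⊤ := hH.sup_eq_top
  have hinf : Nb ⊓ H = ⊥ := hH.disjoint.eq_bot
  have hNb1 : Nb ≠ ⊥ := by
    intro hbot
    apply hx01
    rw [cs_eq_one_iff]
    have h1 : f x0 ∈ Nb := (hmemNb x0).mpr (h.mem_NN_iff.mpr hx0)
    rw [hbot, Subgroup.mem_bot] at h1
    rw [hf] at h1
    exact (QuotientGroup.eq_one_iff _).mp h1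
  have hdN : d ∉ NN (G := G) T := by
    intro hdN
    exact hd1 ((h.mem_NN_iff.mp hdN).eq_one h.hd)
  have hH1 : H ≠ ⊥ := by
    intro hbot
    rw [hbot, sup_bot_eq] at hsup
    apply hdN
    rw [← hmemNb, hsup]; trivial
  have hfpf : ∀ hh ∈ H, hh ≠ 1 → ∀ n ∈ Nb, hh * n = n * hh → n = 1 := by
    intro hh hhH hh1 n hn hcomm
    obtain ⟨g, rfl⟩ := hfs hh
    obtain ⟨x, hx, rfl⟩ := hn
    have hgN : g ∉ NN (G := G) T := by
      intro hgN
      apply hh1
      have : f g ∈ Nb ⊓ H := ⟨(hmemNb g).mpr hgN, hhH⟩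
      rw [hinf, Subgroup.mem_bot] at this
      exact this
    have hc : g * x * g⁻¹ * x⁻¹ ∈ Subgroup.center G := by
      rw [← QuotientGroup.eq_one_iff]
      have : ((g * x * g⁻¹ * x⁻¹ : G) : G ⧸ Subgroup.center G) = f g * f x * (f g)⁻¹ * (f x)⁻¹ := by
        rw [hf]; simp
      rw [this, hcomm]; group
    have := h.fpf hBN hgN hx hc
    rw [hf]
    exact (QuotientGroup.eq_one_iff _).mpr this
  have := hNbn
  obtain ⟨hF, hK⟩ := Cfsg.Agent.S4108.frobenius_of_fpf Nb H hsup hinf hNb1 hH1 hfpf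
  refine ⟨H, hF, ⟨⟨?_⟩⟩, ?_⟩
  · -- `H` is abelian
    intro a b
    apply Subtype.ext
    have hab : (a : G ⧸ Subgroup.center G) * b * (a : G ⧸ Subgroup.center G)⁻¹ * (b : G ⧸ Subgroup.center G)⁻¹ ∈ Nb := by
      obtain ⟨g1, hg1⟩ := hfs (a : G ⧸ Subgroup.center G)
      obtain ⟨g2, hg2⟩ := hfs (b : G ⧸ Subgroup.center G)
      rw [← hg1, ← hg2, ← map_inv, ← map_inv, ← map_mul, ← map_mul, ← map_mul, hmemNb]
      apply hBN
      apply commutator_le_BB T
      rw [commutator_def]
      have := Subgroup.commutator_mem_commutator (Subgroup.mem_top g1) (Subgroup.mem_top g2)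
      rwa [commutatorElement_def] at this
    have habH : (a : G ⧸ Subgroup.center G) * b * (a : G ⧸ Subgroup.center G)⁻¹ * (b : G ⧸ Subgroup.center G)⁻¹ ∈ H :=
      H.mul_mem (H.mul_mem (H.mul_mem a.2 b.2) (H.inv_mem a.2)) (H.inv_mem b.2)
    have h1 : (a : G ⧸ Subgroup.center G) * b * (a : G ⧸ Subgroup.center G)⁻¹ * (b : G ⧸ Subgroup.center G)⁻¹ ∈ Nb ⊓ H := ⟨hab, habH⟩
    rw [hinf, Subgroup.mem_bot] at h1
    show (a : G ⧸ Subgroup.center G) * b = b * a
    calc (a : G ⧸ Subgroup.center G) * b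
        = ((a : G ⧸ Subgroup.center G) * b * (a : G ⧸ Subgroup.center G)⁻¹ * (b : G ⧸ Subgroup.center G)⁻¹) * (b * a) := by group
      _ = b * a := by rw [h1, one_mul]
  · intro x hx y hy
    rw [hK] at hx hy
    obtain ⟨x', hx', rfl⟩ := hx
    obtain ⟨y', hy', rfl⟩ := hy
    rw [← map_mul, ← map_mul, h.NN_comm hx' hy']

end Final


/-- Let G be a finite group. Call a prime a vertex if it divides some conjugacy class size of G, and two distinct vertices adjacent if their product divides some class size. Suppose this graph is disconnected: the vertices split into two nonempty parts with no vertex of one part adjacent to a vertex of the other. Then G/Z(G) is a Frobenius group with abelian Frobenius complement and with a Frobenius kernel all of whose elements commute. -/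
theorem result {G : Type*} [Group G] [Finite G] (S : Set ℕ) (hS : ∃ p ∈ S, (p.Prime ∧ ∃ g : G, p ∣ (Subgroup.centralizer ({g} : Set G)).index)) (hS' : ∃ q ∉ S, (q.Prime ∧ ∃ g : G, q ∣ (Subgroup.centralizer ({g} : Set G)).index))
    (hdisc : ∀ p q : ℕ, (p.Prime ∧ ∃ g : G, p ∣ (Subgroup.centralizer ({g} : Set G)).index) → (q.Prime ∧ ∃ g : G, q ∣ (Subgroup.centralizer ({g} : Set G)).index) → p ∈ S → q ∉ S → ¬ (∃ g : G, p * q ∣ (Subgroup.centralizer ({g} : Set G)).index)) :
    ∃ H : Subgroup (G ⧸ Subgroup.center G), Cfsg.IsFrobeniusComplement H ∧ IsMulCommutative H ∧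
      ∀ x ∈ Cfsg.frobeniusKernel H, ∀ y ∈ Cfsg.frobeniusKernel H, x * y = y * x := by
  classical
  have F0 : ∀ g : G, Pure S (cs g) ∨ Pure Sᶜ (cs g) := by
    intro g
    by_contra hcon
    rw [not_or] at hcon
    obtain ⟨h1, h2⟩ := hcon
    unfold Pure at h1 h2
    simp only [not_forall] at h1 h2
    obtain ⟨q, hq, hqd, hqS⟩ := h1
    obtain ⟨p, hp, hpd, hpS⟩ := h2
    have hpS' : p ∈ S := by
      by_contra hn; exact hpS hn
    have hne : p ≠ q := by
      rintro rfl; exact hqS hpS'
    have hcop : Nat.Coprime p q := (Nat.coprime_primes hp hq).mpr hne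
    exact hdisc p q ⟨hp, g, hpd⟩ ⟨hq, g, hqd⟩ hpS' hqS ⟨g, hcop.mul_dvd_of_dvd_of_dvd hpd hqd⟩
  obtain ⟨p, hpS, hp, g1, hg1⟩ := hS
  obtain ⟨q, hqS, hq, g2, hg2⟩ := hS'
  have hx0 : Pure S (cs g1) := by
    rcases F0 g1 with h1 | h1
    · exact h1
    · exact absurd hpS (h1 p hp hg1)
  have hx01 : cs g1 ≠ 1 := by
    intro h1
    rw [cs_def] at h1
    rw [h1] at hg1
    exact hp.ne_one (Nat.dvd_one.mp hg1)
  have hy0 : Pure Sᶜ (cs g2) := by
    rcases F0 g2 with h1 | h1
    · exact absurd (h1 q hq hg2) hqS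
    · exact h1
  have hy01 : cs g2 ≠ 1 := by
    intro h1
    rw [cs_def] at h1
    rw [h1] at hg2
    exact hq.ne_one (Nat.dvd_one.mp hg2)
  obtain ⟨d, hd⟩ := Finite.exists_max (fun y : G => cs y)
  have hd1 : cs d ≠ 1 := by
    have h1 : cs g1 ≤ cs d := hd g1
    have h2 := cs_ne_zero g1
    omega
  rcases F0 d with hdS | hdS
  · -- the maximal class is of `S`-type: use `T = Sᶜ`
    have hset : Setup Sᶜ d :=
      { F0 := by
          intro g
          rw [compl_compl]
          exact (F0 g).symm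
        hd := by rw [compl_compl]; exact hdS
        hmax := hd }
    exact main_asym hset hy0 hy01 hd1
  · have hset : Setup S d := { F0 := F0, hd := hdS, hmax := hd }
    exact main_asym hset hx0 hx01 hd1

end Cfsg.Agent.S4255
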