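import Cfsg.Statements.S4257
import Cfsg.Agent.S4255
import Cfsg.Agent.S4160
import Cfsg.Agent.S3824
import Cfsg.Agent.S4355
import Cfsg.Agent.Lib.Helper2_Coprime

set_option autoImplicit false
open Cfsg

namespace Cfsg.Agent.S4257

open Cfsg.Agent.S4255 (cs cs_def cs_ne_zero cs_eq_one_iff cs_conj exists_mul_of_coprime_index
  cs_eq_ncard mem_cls_self conj_mem_cls mul_mem_cls_mul stab mem_stab eq_top_of_forall_conj_mem)
open Cfsg.Agent.S4355 (cls index_centralizer_eq)
open scoped commutatorElement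

section General

variable {G : Type*} [Group G] [Finite G]

/-- the key property of a class that does not grow under multiplication by `x` -/
theorem key_le {x d : G} (hcop : (cs d).Coprime (cs x)) (hle : cs (x * d) ≤ cs d)
    (g : G) {e : G} (he : e ∈ cls d) : x⁻¹ * (g * x * g⁻¹) * e ∈ cls d := by
  have hsub : (fun e => x * e) '' (cls d) ⊆ cls (x * d) := by
    rintro _ ⟨e, he, rfl⟩
    have := mul_mem_cls_mul hcop 1 he
    simpa using this
  have hcard : (cls (x * d)).ncard ≤ ((fun e => x * e) '' (cls d)).ncard := by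
    rw [Set.ncard_image_of_injective _ (mul_right_injective x), ← cs_eq_ncard, ← cs_eq_ncard]
    exact hle
  have heq : (fun e => x * e) '' (cls d) = cls (x * d) :=
    Set.eq_of_subset_of_ncard_le hsub hcard (Set.toFinite _)
  have hmem : (g * x * g⁻¹) * e ∈ (fun e => x * e) '' (cls d) := by
    rw [heq]; exact mul_mem_cls_mul hcop g he
  obtain ⟨e', he', hee⟩ := hmem
  have : x⁻¹ * (g * x * g⁻¹) * e = e' := by
    have h := hee
    simp only at h
    rw [mul_assoc, ← h]; group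
  rw [this]; exact he'

/-- the class of `x * d` is at least as large as the class of `d` when the sizes are coprime -/
theorem cs_le_cs_mul {x d : G} (hcop : (cs d).Coprime (cs x)) : cs d ≤ cs (x * d) := by
  have hsub : (fun e => x * e) '' (cls d) ⊆ cls (x * d) := by
    rintro _ ⟨e, he, rfl⟩
    have := mul_mem_cls_mul hcop 1 he
    simpa using this
  have h1 := Set.ncard_le_ncard hsub (Set.toFinite _)
  rwa [Set.ncard_image_of_injective _ (mul_right_injective x), ← cs_eq_ncard, ← cs_eq_ncard] at h1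

/-- the class size of a product divides the product of the class sizes when these are coprime -/
theorem cs_mul_dvd {x d : G} (hcop : (cs d).Coprime (cs x)) : cs (x * d) ∣ cs x * cs d := by
  set A := Subgroup.centralizer ({x} : Set G) with hA
  set B := Subgroup.centralizer ({d} : Set G) with hB
  have hle : A ⊓ B ≤ Subgroup.centralizer ({x * d} : Set G) := by
    intro z hz
    rw [Subgroup.mem_inf] at hz
    obtain ⟨h1, h2⟩ := hz
    rw [hA, Subgroup.mem_centralizer_singleton_iff] at h1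
    rw [hB, Subgroup.mem_centralizer_singleton_iff] at h2
    rw [Subgroup.mem_centralizer_singleton_iff]
    calc z * (x * d) = (z * x) * d := by group
      _ = x * (z * d) := by rw [h1]; group
      _ = x * d * z := by rw [h2]; group
  have h1 : cs (x * d) ∣ (A ⊓ B).index := Subgroup.index_dvd_of_le hle
  have h2 : (A ⊓ B).index ∣ A.index * B.index := by
    have e1 : B.relIndex A * A.index = (A ⊓ B).index := by
      rw [← Subgroup.inf_relIndex_left]
      exact Subgroup.relIndex_mul_index inf_le_left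
    have e2 : B.relIndex A ∣ B.index := by
      have hh : A.index.Coprime B.index := hcop.symm
      -- same computation as in `exists_mul_of_coprime_index`
      have e3 : A.relIndex B * B.index = (A ⊓ B).index := by
        rw [← Subgroup.inf_relIndex_right]
        exact Subgroup.relIndex_mul_index inf_le_right
      have e4 : B.index ∣ B.relIndex A * A.index := by
        rw [e1, ← e3]; exact Dvd.intro_left _ rfl
      have e5 : B.index ∣ B.relIndex A := (Nat.Coprime.dvd_of_dvd_mul_right hh.symm e4)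
      have e6 : B.relIndex A ≤ B.index := by
        have := Subgroup.relIndex_le_of_le_right (H := B) (K := A) (L := ⊤) le_top
          (by rw [Subgroup.relIndex_top_right]; exact Subgroup.index_ne_zero_of_finite)
        rwa [Subgroup.relIndex_top_right] at this
      have e7 : B.relIndex A ≠ 0 := by
        unfold Subgroup.relIndex; exact Subgroup.index_ne_zero_of_finite
      have : B.relIndex A = B.index :=
        le_antisymm e6 (Nat.le_of_dvd (Nat.pos_of_ne_zero e7) e5)
      rw [this]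
    rw [← e1, mul_comm]
    exact Nat.mul_dvd_mul_left _ e2
  exact h1.trans h2

/-- a subgroup stabilizing a class by left multiplication has order dividing the class size -/
theorem card_dvd_of_le_stab {d : G} (K : Subgroup G) (hst : K ≤ stab d) : Nat.card K ∣ cs d := by
  classical
  let act : MulAction K (cls d) :=
    { smul := fun m e => ⟨(m : G) * e, hst m.2 e e.2⟩
      one_smul := by intro e; apply Subtype.ext; show ((1 : K) : G) * e = e; simp
      mul_smul := by
        intro m n e; apply Subtype.ext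
        show ((m * n : K) : G) * e = (m : G) * ((n : G) * e)
        simp [mul_assoc] }
  have hfree : ∀ e : cls d, MulAction.stabilizer K e = ⊥ := by
    intro e
    rw [eq_bot_iff]
    intro m hm
    rw [MulAction.mem_stabilizer_iff] at hm
    have h1 : (m : G) * e = e := congrArg Subtype.val hm
    have h2 : (m : G) = 1 := by
      have := mul_right_cancel (b := (e : G)) (a := (m : G)) (c := 1) (by rw [h1, one_mul])
      exact this
    rw [Subgroup.mem_bot]
    exact Subtype.ext h2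
  have e1 := MulAction.selfEquivOrbitsQuotientProd hfree
  have h3 : Nat.card (cls d) = Nat.card (Quotient (MulAction.orbitRel K (cls d))) *
      Nat.card K := by
    rw [Nat.card_congr e1, Nat.card_prod]
  rw [cs_eq_ncard, ← Nat.card_coe_set_eq, h3]
  exact Dvd.intro_left _ rfl

/-- a normal subgroup of order coprime to the class size of `x` centralizes `x` -/
theorem le_centralizer_of_coprime (K : Subgroup G) [K.Normal] {x : G}
    (h : (cs x).Coprime (Nat.card K)) : K ≤ Subgroup.centralizer ({x} : Set G) := by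
  have h1 : (Subgroup.centralizer ({x} : Set G)).relIndex K ∣ cs x :=
    Cfsg.Agent.S3824.relIndex_dvd_index_of_normal_right _ K
  have h2 : (Subgroup.centralizer ({x} : Set G)).relIndex K ∣ Nat.card K :=
    Subgroup.relIndex_dvd_card _ _
  have h3 : (Subgroup.centralizer ({x} : Set G)).relIndex K = 1 :=
    Nat.eq_one_of_dvd_coprimes h h1 h2
  exact Subgroup.relIndex_eq_one.mp h3

end General

section Graph

variable (G : Type*) [Group G]

/-- `a * b` divides some class size (adjacency when `a ≠ b`) -/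
def adj (a b : ℕ) : Prop := ∃ g : G, a * b ∣ cs g

/-- `r` lies in the closed neighbourhood of `p` -/
def nb (p r : ℕ) : Prop := r = p ∨ adj G p r

/-- the closed neighbourhoods of `p` and `q` are disjoint and not joined by an edge -/
def Sep (p q : ℕ) : Prop :=
  ∀ r s : ℕ, r.Prime → s.Prime → nb G p r → nb G q s → r ≠ s ∧ ¬ adj G r s

variable {G}

theorem adj_comm {a b : ℕ} : adj G a b ↔ adj G b a := by
  unfold adj
  constructor
  · rintro ⟨g, hg⟩; exact ⟨g, by rwa [mul_comm]⟩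
  · rintro ⟨g, hg⟩; exact ⟨g, by rwa [mul_comm]⟩

theorem Sep.symm {p q : ℕ} (h : Sep G p q) : Sep G q p := by
  intro r s hr hs hnr hns
  obtain ⟨h1, h2⟩ := h s r hs hr hns hnr
  exact ⟨fun e => h1 e.symm, fun e => h2 (adj_comm.mp e)⟩

theorem nb_of_dvd {p r : ℕ} (hp : p.Prime) (hr : r.Prime) {x : G} (hpx : p ∣ cs x) (hrx : r ∣ cs x) :
    nb G p r := by
  by_cases h : r = p
  · exact Or.inl h
  · right
    have hcop : Nat.Coprime p r := (Nat.coprime_primes hp hr).mpr (fun e => h e.symm)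
    exact ⟨x, hcop.mul_dvd_of_dvd_of_dvd hpx hrx⟩

theorem Sep.no_mix {p q : ℕ} (h : Sep G p q) {r s : ℕ} (hr : r.Prime) (hs : s.Prime)
    (hnr : nb G p r) (hns : nb G q s) {g : G} (hrg : r ∣ cs g) (hsg : s ∣ cs g) : False := by
  obtain ⟨h1, h2⟩ := h r s hr hs hnr hns
  have hcop : Nat.Coprime r s := (Nat.coprime_primes hr hs).mpr h1
  exact h2 ⟨g, hcop.mul_dvd_of_dvd_of_dvd hrg hsg⟩

theorem Sep.coprime {p q : ℕ} (h : Sep G p q) (hp : p.Prime) (hq : q.Prime) {x y : G}
    (hx : p ∣ cs x) (hy : q ∣ cs y) : (cs x).Coprime (cs y) := by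
  apply Nat.coprime_of_dvd
  intro k hk h1 h2
  exact (h k k hk hk (nb_of_dvd hp hk hx h1) (nb_of_dvd hq hk hy h2)).1 rfl

end Graph

section CentralMod

variable {G : Type*} [Group G]

/-- the elements that are central modulo the normal subgroup `M` -/
def cmodOf (M : Subgroup G) [M.Normal] : Subgroup G :=
  (Subgroup.center (G ⧸ M)).comap (QuotientGroup.mk' M)

instance cmodOf_normal (M : Subgroup G) [M.Normal] : (cmodOf M).Normal := by
  unfold cmodOf; infer_instance

theorem mem_cmodOf {M : Subgroup G} [M.Normal] {u : G} :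
    u ∈ cmodOf M ↔ ∀ g : G, u⁻¹ * (g * u * g⁻¹) ∈ M := by
  unfold cmodOf
  rw [Subgroup.mem_comap, Subgroup.mem_center_iff]
  constructor
  · intro h g
    have h1 := h (QuotientGroup.mk' _ g)
    rw [← QuotientGroup.eq_one_iff]
    have h2 : (QuotientGroup.mk' M) g * (QuotientGroup.mk' M) u *
        ((QuotientGroup.mk' M) g)⁻¹ = (QuotientGroup.mk' M) u := by
      rw [h1]; group
    have h3 : ((u⁻¹ * (g * u * g⁻¹) : G) : G ⧸ M) =
        ((QuotientGroup.mk' M) u)⁻¹ * ((QuotientGroup.mk' M) g *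
          (QuotientGroup.mk' M) u * ((QuotientGroup.mk' M) g)⁻¹) := by
      simp
    rw [h3, h2]; group
  · intro h gb
    obtain ⟨g, rfl⟩ := QuotientGroup.mk'_surjective M gb
    have h1 := h g
    rw [← QuotientGroup.eq_one_iff] at h1
    have h3 : ((u⁻¹ * (g * u * g⁻¹) : G) : G ⧸ M) =
        ((QuotientGroup.mk' M) u)⁻¹ * ((QuotientGroup.mk' M) g *
          (QuotientGroup.mk' M) u * ((QuotientGroup.mk' M) g)⁻¹) := by
      simp
    rw [h3] at h1
    have h4 := congrArg (fun t => (QuotientGroup.mk' M) u * t *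
      (QuotientGroup.mk' M) g) h1
    simp only [mul_one] at h4
    rw [← h4]; group

/-- if every element of class size divisible by `q` is central modulo `M`, so is every Sylow
`q`-subgroup -/
theorem sylow_le_cmodOf [Finite G] (M : Subgroup G) [M.Normal] {q : ℕ} [hq : Fact q.Prime]
    (hM : ∀ y : G, q ∣ cs y → y ∈ cmodOf M) (Q : Sylow q G) :
    (Q : Subgroup G) ≤ cmodOf M := by
  obtain ⟨f, hf⟩ : ∃ f : G →* G ⧸ M, f = QuotientGroup.mk' M := ⟨_, rfl⟩
  obtain ⟨C, hC⟩ : ∃ C : Subgroup G,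
      C = (Subgroup.centralizer (((Q : Subgroup G).map f : Subgroup _) : Set _)).comap f := ⟨_, rfl⟩
  have hcen : Subgroup.centralizer ((Q : Subgroup G) : Set G) ≤ C := by
    intro c hc
    rw [hC, Subgroup.mem_comap, Subgroup.mem_centralizer_iff]
    rintro _ ⟨u, hu, rfl⟩
    rw [Subgroup.mem_centralizer_iff] at hc
    rw [← map_mul, ← map_mul, hc u hu]
  have hcm : cmodOf M ≤ C := by
    intro c hc
    rw [hC, Subgroup.mem_comap, Subgroup.mem_centralizer_iff]
    intro y _
    unfold cmodOf at hc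
    rw [Subgroup.mem_comap, Subgroup.mem_center_iff] at hc
    rw [hf]
    exact hc y
  have htop : C = ⊤ := by
    apply eq_top_of_forall_conj_mem
    intro x
    by_cases hx : q ∣ cs x
    · exact ⟨1, by simpa using hcm (hM x hx)⟩
    · obtain ⟨g, hg⟩ := Cfsg.Agent.S4160.exists_conj_mem_centralizer Q x hx
      exact ⟨g, hcen hg⟩
  intro u hu
  unfold cmodOf
  rw [Subgroup.mem_comap, Subgroup.mem_center_iff]
  intro gb
  obtain ⟨g, rfl⟩ := QuotientGroup.mk'_surjective M gb
  have hg : g ∈ C := by rw [htop]; trivial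
  rw [hC, Subgroup.mem_comap, Subgroup.mem_centralizer_iff] at hg
  have := (hg _ ⟨u, hu, rfl⟩).symm
  rw [hf] at this
  exact this

end CentralMod

section Core

variable {G : Type*} [Group G] [Finite G]

/-- the generators of `Mq` -/
def gensq (G : Type*) [Group G] (q : ℕ) : Set G :=
  {u | ∃ y g : G, q ∣ cs y ∧ u = y⁻¹ * (g * y * g⁻¹)}

/-- the normal subgroup generated by the commutators of the elements of `q`-type -/
def Mq (G : Type*) [Group G] (q : ℕ) : Subgroup G := Subgroup.normalClosure (gensq G q)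

instance Mq_normal (q : ℕ) : (Mq G q).Normal := Subgroup.normalClosure_normal

omit [Finite G] in
theorem comm_mem_Mq {q : ℕ} {y : G} (hy : q ∣ cs y) (g : G) :
    y⁻¹ * (g * y * g⁻¹) ∈ Mq G q :=
  Subgroup.subset_normalClosure ⟨y, g, hy, rfl⟩

/-- standing hypotheses of the core argument -/
structure Hyp (p q : ℕ) (x0 : G) : Prop where
  hp : p.Prime
  hq : q.Prime
  sep : Sep G p q
  hx0 : p ∣ cs x0
  big : ∀ y : G, q ∣ cs y → cs y < cs x0

theorem Hyp.cs_mul_le {p q : ℕ} {x0 : G} (h : Hyp p q x0) {y : G} (hy : q ∣ cs y) :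
    cs (y * x0) ≤ cs x0 := by
  have hcop : (cs x0).Coprime (cs y) := h.sep.coprime h.hp h.hq h.hx0 hy
  have hdvd := cs_mul_dvd hcop
  have hge := cs_le_cs_mul hcop
  have hc1 : (cs (y * x0)).Coprime (cs y) := by
    apply Nat.coprime_of_dvd
    intro t ht h1 h2
    have hnt : nb G q t := nb_of_dvd h.hq ht hy h2
    have hc2 : (cs (y * x0)).Coprime (cs x0) := by
      apply Nat.coprime_of_dvd
      intro t' ht' h3 h4
      exact h.sep.no_mix ht' ht (nb_of_dvd h.hp ht' h.hx0 h4) hnt h3 h1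
    have h5 : cs (y * x0) ∣ cs y := hc2.dvd_of_dvd_mul_right hdvd
    have h6 : cs (y * x0) ≤ cs y := Nat.le_of_dvd (Nat.pos_of_ne_zero (cs_ne_zero _)) h5
    have h7 := h.big y hy
    omega
  have h5 : cs (y * x0) ∣ cs x0 := hc1.dvd_of_dvd_mul_left hdvd
  exact Nat.le_of_dvd (Nat.pos_of_ne_zero (cs_ne_zero _)) h5

theorem Hyp.Mq_le_stab {p q : ℕ} {x0 : G} (h : Hyp p q x0) : Mq G q ≤ stab x0 := by
  apply Subgroup.normalClosure_le_normal
  rintro u ⟨y, g, hy, rfl⟩
  intro e he
  exact key_le (h.sep.coprime h.hp h.hq h.hx0 hy) (h.cs_mul_le hy) g he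

theorem Hyp.card_Mq_dvd {p q : ℕ} {x0 : G} (h : Hyp p q x0) : Nat.card (Mq G q) ∣ cs x0 :=
  card_dvd_of_le_stab _ h.Mq_le_stab

theorem Hyp.Mq_le_centralizer_of_coprime {p q : ℕ} {x0 : G} (h : Hyp p q x0) {g : G}
    (hg : (cs g).Coprime (cs x0)) : Mq G q ≤ Subgroup.centralizer ({g} : Set G) :=
  le_centralizer_of_coprime _ (Nat.Coprime.coprime_dvd_right h.card_Mq_dvd hg)

theorem Hyp.Mq_le_centralizer {p q : ℕ} {x0 : G} (h : Hyp p q x0) {y : G} (hy : q ∣ cs y) :
    Mq G q ≤ Subgroup.centralizer ({y} : Set G) :=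
  h.Mq_le_centralizer_of_coprime (h.sep.coprime h.hp h.hq h.hx0 hy).symm

theorem Hyp.Mq_le_centralizer_Mq {p q : ℕ} {x0 : G} (h : Hyp p q x0) :
    Mq G q ≤ Subgroup.centralizer (Mq G q : Set G) := by
  apply Subgroup.normalClosure_le_normal
  rintro u ⟨y, g, hy, rfl⟩
  have h1 : y ∈ Subgroup.centralizer (Mq G q : Set G) := by
    rw [Subgroup.mem_centralizer_iff]
    intro m hm
    have := h.Mq_le_centralizer hy hm
    rw [Subgroup.mem_centralizer_singleton_iff] at this
    exact this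
  have hy' : q ∣ cs (g * y * g⁻¹) := by rw [cs_conj]; exact hy
  have h2 : g * y * g⁻¹ ∈ Subgroup.centralizer (Mq G q : Set G) := by
    rw [Subgroup.mem_centralizer_iff]
    intro m hm
    have := h.Mq_le_centralizer hy' hm
    rw [Subgroup.mem_centralizer_singleton_iff] at this
    exact this
  exact mul_mem (inv_mem h1) h2

theorem Hyp.comm {p q : ℕ} {x0 : G} (h : Hyp p q x0) {a b : G} (ha : a ∈ Mq G q)
    (hb : b ∈ Mq G q) : a * b = b * a := by
  have := h.Mq_le_centralizer_Mq hb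
  rw [Subgroup.mem_centralizer_iff] at this
  exact this a ha

omit [Finite G] in
theorem Hyp.not_dvd_cs {p q : ℕ} {x0 : G} (h : Hyp p q x0) : ¬ q ∣ cs x0 := fun hd =>
  lt_irrefl _ (h.big x0 hd)

theorem Hyp.not_dvd_card {p q : ℕ} {x0 : G} (h : Hyp p q x0) : ¬ q ∣ Nat.card (Mq G q) :=
  fun hd => h.not_dvd_cs (hd.trans h.card_Mq_dvd)

theorem sylow_comm_mem {q : ℕ} [Fact q.Prime] (Q : Sylow q G)
    {u : G} (hu : u ∈ Q) (g : G) : u⁻¹ * (g * u * g⁻¹) ∈ Mq G q := by
  have h1 : (Q : Subgroup G) ≤ cmodOf (Mq G q) :=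
    sylow_le_cmodOf (Mq G q) (fun y hy => mem_cmodOf.mpr (fun g => comm_mem_Mq hy g)) Q
  exact mem_cmodOf.mp (h1 hu) g

end Core

section Final

variable {G : Type*} [Group G] [Finite G]

/-- `V = [M, Q]` -/
def Vq (q : ℕ) [Fact q.Prime] (Q : Sylow q G) : Subgroup G := ⁅Mq G q, (Q : Subgroup G)⁆

omit [Finite G] in
theorem Vq_le {q : ℕ} [Fact q.Prime] (Q : Sylow q G) : Vq q Q ≤ Mq G q :=
  Subgroup.commutator_le_left _ _

theorem Hyp.Vq_normal {p q : ℕ} {x0 : G} (h : Hyp p q x0) [Fact q.Prime] (Q : Sylow q G) :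
    (Vq q Q).Normal := by
  constructor
  intro v hv g
  have hmap : (Vq q Q).map (MulAut.conj g).toMonoidHom ≤ Vq q Q := by
    unfold Vq
    rw [Subgroup.map_commutator, Subgroup.commutator_le]
    rintro _ ⟨m, hm, rfl⟩ _ ⟨u, hu, rfl⟩
    simp only [MulEquiv.coe_toMonoidHom, MulAut.conj_apply]
    have hm' : g * m * g⁻¹ ∈ Mq G q := (Mq_normal q).conj_mem m hm g
    have hc : u⁻¹ * (g * u * g⁻¹) ∈ Mq G q := sylow_comm_mem Q hu g
    obtain ⟨m', hm'e⟩ : ∃ m', m' = g * m * g⁻¹ := ⟨_, rfl⟩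
    obtain ⟨c, hce⟩ : ∃ c, c = u⁻¹ * (g * u * g⁻¹) := ⟨_, rfl⟩
    rw [← hm'e] at hm' ⊢
    rw [← hce] at hc
    have e1 : g * u * g⁻¹ = u * c := by rw [hce]; group
    rw [e1]
    have hcomm : c * m'⁻¹ = m'⁻¹ * c := h.comm hc (inv_mem hm')
    have e2 : ⁅m', u * c⁆ = ⁅m', u⁆ := by
      rw [commutatorElement_def, commutatorElement_def]
      calc m' * (u * c) * m'⁻¹ * (u * c)⁻¹ = m' * u * (c * m'⁻¹) * c⁻¹ * u⁻¹ := by group
        _ = m' * u * (m'⁻¹ * c) * c⁻¹ * u⁻¹ := by rw [hcomm]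
        _ = m' * u * m'⁻¹ * u⁻¹ := by group
    rw [e2]
    exact Subgroup.commutator_mem_commutator hm' hu
  exact hmap ⟨v, hv, by simp⟩

theorem Hyp.Vq_inf {p q : ℕ} {x0 : G} (h : Hyp p q x0) [Fact q.Prime] (Q : Sylow q G) :
    Vq q Q ⊓ Subgroup.centralizer ((Q : Subgroup G) : Set G) = ⊥ := by
  have hcommM : IsMulCommutative (Mq G q) := ⟨⟨fun a b => Subtype.ext (h.comm a.2 b.2)⟩⟩
  have hK : (Q : Subgroup G) ≤ Subgroup.normalizer ((Mq G q : Subgroup G) : Set G) := by
    rw [Subgroup.normalizer_eq_top]; exact le_top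
  have hcop : Nat.Coprime (Nat.card (Q : Subgroup G)) (Nat.card (Mq G q)) := by
    obtain ⟨k, hk⟩ := (IsPGroup.iff_card.mp Q.isPGroup')
    rw [hk]
    exact Nat.Coprime.pow_left _ ((Nat.Prime.coprime_iff_not_dvd h.hq).mpr h.not_dvd_card)
  have key := Cfsg.Agent.Lib.Helper2_Coprime.commutator_inf_centralizer_eq_bot (Mq G q)
    (Q : Subgroup G) hK hcop
  rw [eq_bot_iff]
  intro v hv
  rw [← key]
  exact ⟨hv.1, Vq_le Q hv.1, hv.2⟩

theorem Hyp.Vq_ne_bot {p q : ℕ} {x0 : G} (h : Hyp p q x0) [Fact q.Prime] (Q : Sylow q G)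
    (hy : ∃ y : G, q ∣ cs y) : Vq q Q ≠ ⊥ := by
  intro hV
  unfold Vq at hV
  rw [Subgroup.commutator_eq_bot_iff_le_centralizer] at hV
  have hcent : ∀ u ∈ (Q : Subgroup G), ∀ g : G, g * u * g⁻¹ = u := by
    intro u hu g
    obtain ⟨c, hce⟩ : ∃ c, c = u⁻¹ * (g * u * g⁻¹) := ⟨_, rfl⟩
    have hc : c ∈ Mq G q := by rw [hce]; exact sylow_comm_mem Q hu g
    have hcu : Commute u c := by
      have := hV hc
      rw [Subgroup.mem_centralizer_iff] at this
      exact this u hu
    have e1 : g * u * g⁻¹ = u * c := by rw [hce]; group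
    have hn : (u * c) ^ orderOf u = 1 := by
      rw [← e1, conj_pow, pow_orderOf_eq_one]; group
    rw [hcu.mul_pow, pow_orderOf_eq_one, one_mul] at hn
    have hcard : c ^ Nat.card (Mq G q) = 1 := by
      have h1 : (⟨c, hc⟩ : Mq G q) ^ Nat.card (Mq G q) = 1 := pow_card_eq_one'
      have h2 := congrArg (Subtype.val) h1
      rw [Subgroup.coe_pow, Subgroup.coe_one] at h2
      exact h2
    have hcop : (orderOf u).Coprime (Nat.card (Mq G q)) := by
      obtain ⟨k, hk⟩ := (IsPGroup.iff_card.mp Q.isPGroup')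
      have h1 : orderOf u ∣ q ^ k := by
        rw [← hk]
        have := Subgroup.orderOf_dvd_natCard (Q : Subgroup G) hu
        exact this
      have h2 : (q ^ k).Coprime (Nat.card (Mq G q)) :=
        Nat.Coprime.pow_left _ ((Nat.Prime.coprime_iff_not_dvd h.hq).mpr h.not_dvd_card)
      exact Nat.Coprime.coprime_dvd_left h1 h2
    have hc1 : c = 1 := Cfsg.Agent.S4255.eq_one_of_pow_coprime hn hcard hcop
    rw [e1, hc1, mul_one]
  obtain ⟨y, hy⟩ := hy
  have hle : (Q : Subgroup G) ≤ Subgroup.centralizer ({y} : Set G) := by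
    intro u hu
    rw [Subgroup.mem_centralizer_singleton_iff]
    have := hcent u hu y⁻¹
    calc u * y = y * (y⁻¹ * u * y⁻¹⁻¹) := by group
      _ = y * u := by rw [this]
  have h1 : cs y ∣ (Q : Subgroup G).index := Subgroup.index_dvd_of_le hle
  exact Q.not_dvd_index (hy.trans h1)

theorem Hyp.dvd_cs_of_mem_Vq {p q : ℕ} {x0 : G} (h : Hyp p q x0) [Fact q.Prime] (Q : Sylow q G)
    {v : G} (hv : v ∈ Vq q Q) (hv1 : v ≠ 1) : q ∣ cs v := by
  by_contra hnd
  obtain ⟨g, hg⟩ := Cfsg.Agent.S4160.exists_conj_mem_centralizer Q v hnd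
  have hVn := h.Vq_normal Q
  have h1 : g⁻¹ * v * g ∈ Vq q Q := by
    have := hVn.conj_mem v hv g⁻¹
    simpa using this
  have h2 : g⁻¹ * v * g ∈ Vq q Q ⊓ Subgroup.centralizer ((Q : Subgroup G) : Set G) := ⟨h1, hg⟩
  rw [h.Vq_inf Q, Subgroup.mem_bot] at h2
  apply hv1
  have := congrArg (fun t => g * t * g⁻¹) h2
  simpa [mul_assoc] using this

end Final

section Finish

variable {G : Type*} [Group G] [Finite G]

theorem Hyp.final {p q : ℕ} {x0 : G} (h : Hyp p q x0) (hyq : ∃ y : G, q ∣ cs y) {w : G} {r2 : ℕ}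
    (hr2 : r2.Prime) (hr2q : ¬ nb G q r2) (hw2 : r2 ∣ cs w) (hwcop : (cs w).Coprime (cs x0)) :
    False := by
  have hqf : Fact q.Prime := ⟨h.hq⟩
  have hqw : ¬ q ∣ cs w := fun hd => hr2q (nb_of_dvd h.hq hr2 hd hw2)
  obtain ⟨Q0, -⟩ : ∃ Q0 : Sylow q G, True := ⟨default, trivial⟩
  obtain ⟨g, hg⟩ := Cfsg.Agent.S4160.exists_conj_mem_centralizer Q0 w hqw
  obtain ⟨w', hw'e⟩ : ∃ w', w' = g⁻¹ * w * g := ⟨_, rfl⟩
  rw [← hw'e] at hg
  have hcs : cs w' = cs w := by
    have := cs_conj g⁻¹ w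
    rw [hw'e]
    simpa using this
  have hwM : Mq G q ≤ Subgroup.centralizer ({w'} : Set G) :=
    h.Mq_le_centralizer_of_coprime (by rw [hcs]; exact hwcop)
  obtain ⟨v, hv, hv1⟩ : ∃ v ∈ Vq q Q0, v ≠ 1 := by
    have hne := h.Vq_ne_bot Q0 hyq
    by_contra hcon
    apply hne
    rw [eq_bot_iff]
    intro v hv
    rw [Subgroup.mem_bot]
    by_contra hv1
    exact hcon ⟨v, hv, hv1⟩
  have hqv := h.dvd_cs_of_mem_Vq Q0 hv hv1
  have hVn := h.Vq_normal Q0
  -- `w'` commutes with all conjugates of elements of `Q0`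
  have hconjQ : ∀ u ∈ (Q0 : Subgroup G), ∀ t : G, w' * (t⁻¹ * u * t) = (t⁻¹ * u * t) * w' := by
    intro u hu t
    obtain ⟨c, hce⟩ : ∃ c, c = u⁻¹ * (t⁻¹ * u * t⁻¹⁻¹) := ⟨_, rfl⟩
    have hc : c ∈ Mq G q := by rw [hce]; exact sylow_comm_mem Q0 hu t⁻¹
    have e1 : t⁻¹ * u * t = u * c := by rw [hce]; group
    have h1 : w' * u = u * w' := by
      rw [Subgroup.mem_centralizer_iff] at hg
      exact (hg u hu).symm
    have h2 : w' * c = c * w' := by
      have := hwM hc
      rw [Subgroup.mem_centralizer_singleton_iff] at this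
      exact this.symm
    rw [e1]
    calc w' * (u * c) = (w' * u) * c := by group
      _ = u * (w' * c) := by rw [h1]; group
      _ = u * c * w' := by rw [h2]; group
  have hle : Subgroup.centralizer ({w' * v} : Set G) ≤
      Subgroup.centralizer ({w'} : Set G) ⊓ Subgroup.centralizer ({v} : Set G) := by
    intro t ht
    rw [Subgroup.mem_centralizer_singleton_iff] at ht
    have hv'' : t * v * t⁻¹ ∈ Vq q Q0 := hVn.conj_mem v hv t
    have e : (t * w' * t⁻¹) * (t * v * t⁻¹) = w' * v := by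
      calc (t * w' * t⁻¹) * (t * v * t⁻¹) = t * (w' * v) * t⁻¹ := by group
        _ = (w' * v) * t * t⁻¹ := by rw [ht]
        _ = w' * v := by group
    have hz : w'⁻¹ * (t * w' * t⁻¹) = v * (t * v * t⁻¹)⁻¹ := by
      have h1 : t * w' * t⁻¹ = w' * v * (t * v * t⁻¹)⁻¹ := by rw [← e]; group
      rw [h1]; group
    have hzV : w'⁻¹ * (t * w' * t⁻¹) ∈ Vq q Q0 := by
      rw [hz]; exact mul_mem hv (inv_mem hv'')
    have hzC : w'⁻¹ * (t * w' * t⁻¹) ∈ Subgroup.centralizer ((Q0 : Subgroup G) : Set G) := by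
      apply mul_mem (inv_mem hg)
      rw [Subgroup.mem_centralizer_iff]
      intro u hu
      have := hconjQ u hu t
      calc u * (t * w' * t⁻¹) = t * ((t⁻¹ * u * t) * w') * t⁻¹ := by group
        _ = t * (w' * (t⁻¹ * u * t)) * t⁻¹ := by rw [this]
        _ = t * w' * t⁻¹ * u := by group
    have hz1 : w'⁻¹ * (t * w' * t⁻¹) = 1 := by
      have : w'⁻¹ * (t * w' * t⁻¹) ∈
          Vq q Q0 ⊓ Subgroup.centralizer ((Q0 : Subgroup G) : Set G) := ⟨hzV, hzC⟩
      rw [h.Vq_inf Q0, Subgroup.mem_bot] at this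
      exact this
    have hw1 : t * w' * t⁻¹ = w' := by
      have := congrArg (fun s => w' * s) hz1
      simpa [mul_assoc] using this
    have hv2 : t * v * t⁻¹ = v := by
      rw [hw1] at e
      exact mul_left_cancel e
    refine Subgroup.mem_inf.mpr ⟨?_, ?_⟩
    · rw [Subgroup.mem_centralizer_singleton_iff]
      calc t * w' = (t * w' * t⁻¹) * t := by group
        _ = w' * t := by rw [hw1]
    · rw [Subgroup.mem_centralizer_singleton_iff]
      calc t * v = (t * v * t⁻¹) * t := by group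
        _ = v * t := by rw [hv2]
  have hd1 : cs w' ∣ cs (w' * v) := Subgroup.index_dvd_of_le (hle.trans inf_le_left)
  have hd2 : cs v ∣ cs (w' * v) := Subgroup.index_dvd_of_le (hle.trans inf_le_right)
  rw [hcs] at hd1
  exact hr2q (nb_of_dvd h.hq hr2 (hqv.trans hd2) (hw2.trans hd1))

/-- connectedness, in the form used by the statement -/
def Conn (G : Type*) [Group G] : Prop :=
  ∀ S : Set ℕ, (∃ p ∈ S, (p.Prime ∧ ∃ g : G, p ∣ (Subgroup.centralizer ({g} : Set G)).index)) → (∃ q ∉ S, (q.Prime ∧ ∃ g : G, q ∣ (Subgroup.centralizer ({g} : Set G)).index)) →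
      ∃ p q : ℕ, (p.Prime ∧ ∃ g : G, p ∣ (Subgroup.centralizer ({g} : Set G)).index) ∧ (q.Prime ∧ ∃ g : G, q ∣ (Subgroup.centralizer ({g} : Set G)).index) ∧ p ∈ S ∧ q ∉ S ∧ (∃ g : G, p * q ∣ (Subgroup.centralizer ({g} : Set G)).index)

theorem Hyp.false_of_conn {p q : ℕ} {x0 : G} (h : Hyp p q x0) (hyq : ∃ y : G, q ∣ cs y)
    (hconn : Conn G) : False := by
  obtain ⟨y, hy⟩ := hyq
  have hqS : ∃ a ∈ ({s | s.Prime ∧ nb G q s} : Set ℕ),
      (a.Prime ∧ ∃ g : G, a ∣ (Subgroup.centralizer ({g} : Set G)).index) :=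
    ⟨q, ⟨h.hq, Or.inl rfl⟩, h.hq, y, hy⟩
  have hpS : ∃ b ∉ ({s | s.Prime ∧ nb G q s} : Set ℕ),
      (b.Prime ∧ ∃ g : G, b ∣ (Subgroup.centralizer ({g} : Set G)).index) := by
    refine ⟨p, ?_, h.hp, x0, h.hx0⟩
    rintro ⟨-, hn⟩
    exact (h.sep p p h.hp h.hp (Or.inl rfl) hn).1 rfl
  obtain ⟨a, b, ⟨ha, -⟩, ⟨hb, -⟩, haS, hbS, w, hw⟩ := hconn _ hqS hpS
  have hna : nb G q a := haS.2
  have hnb : ¬ nb G q b := fun hn => hbS ⟨hb, hn⟩
  have hwa : a ∣ cs w := (dvd_mul_right a b).trans hw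
  have hwb : b ∣ cs w := (dvd_mul_left b a).trans hw
  have hcop : (cs w).Coprime (cs x0) := by
    apply Nat.coprime_of_dvd
    intro t ht h1 h2
    exact h.sep.no_mix ht ha (nb_of_dvd h.hp ht h.hx0 h2) hna h1 hwa
  exact h.final ⟨y, hy⟩ hb hnb hwb hcop

end Finish

/-- Let G be a finite group. Call a prime a vertex if it divides some conjugacy class size of G, and two distinct vertices adjacent if their product divides some class size. If this graph is connected, then its diameter is at most 3: any two distinct vertices p and q are adjacent, or joined through one or two intermediate vertices. -/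
theorem result {G : Type*} [Group G] [Finite G]
    (hconn : ∀ S : Set ℕ, (∃ p ∈ S, (p.Prime ∧ ∃ g : G, p ∣ (Subgroup.centralizer ({g} : Set G)).index)) → (∃ q ∉ S, (q.Prime ∧ ∃ g : G, q ∣ (Subgroup.centralizer ({g} : Set G)).index)) →
      ∃ p q : ℕ, (p.Prime ∧ ∃ g : G, p ∣ (Subgroup.centralizer ({g} : Set G)).index) ∧ (q.Prime ∧ ∃ g : G, q ∣ (Subgroup.centralizer ({g} : Set G)).index) ∧ p ∈ S ∧ q ∉ S ∧ (∃ g : G, p * q ∣ (Subgroup.centralizer ({g} : Set G)).index))
    (p q : ℕ) (hp : (p.Prime ∧ ∃ g : G, p ∣ (Subgroup.centralizer ({g} : Set G)).index)) (hq : (q.Prime ∧ ∃ g : G, q ∣ (Subgroup.centralizer ({g} : Set G)).index)) (hpq : p ≠ q) :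
    (∃ g : G, p * q ∣ (Subgroup.centralizer ({g} : Set G)).index) ∨ (∃ r : ℕ, (r.Prime ∧ ∃ g : G, r ∣ (Subgroup.centralizer ({g} : Set G)).index) ∧ r ≠ p ∧ r ≠ q ∧ (∃ g : G, p * r ∣ (Subgroup.centralizer ({g} : Set G)).index) ∧ (∃ g : G, r * q ∣ (Subgroup.centralizer ({g} : Set G)).index)) ∨
      (∃ r s : ℕ, (r.Prime ∧ ∃ g : G, r ∣ (Subgroup.centralizer ({g} : Set G)).index) ∧ (s.Prime ∧ ∃ g : G, s ∣ (Subgroup.centralizer ({g} : Set G)).index) ∧ r ≠ p ∧ s ≠ q ∧ r ≠ s ∧ r ≠ q ∧ s ≠ p ∧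
        (∃ g : G, p * r ∣ (Subgroup.centralizer ({g} : Set G)).index) ∧ (∃ g : G, r * s ∣ (Subgroup.centralizer ({g} : Set G)).index) ∧ (∃ g : G, s * q ∣ (Subgroup.centralizer ({g} : Set G)).index)) := by
  by_contra hcon
  rw [not_or, not_or] at hcon
  obtain ⟨hN1, hN2, hN3⟩ := hcon
  obtain ⟨hpP, gp, hgp⟩ := hp
  obtain ⟨hqP, gq, hgq⟩ := hq
  have hvert : ∀ {a b : ℕ}, b.Prime → adj G a b →
      (b.Prime ∧ ∃ g : G, b ∣ (Subgroup.centralizer ({g} : Set G)).index) := by
    rintro a b hb ⟨g, hg⟩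
    exact ⟨hb, g, (dvd_mul_left b a).trans hg⟩
  have hsep : Sep G p q := by
    intro r s hr hs hnr hns
    by_cases hrp : r = p
    · by_cases hsq : s = q
      · rw [hrp, hsq]
        exact ⟨hpq, hN1⟩
      · have hqs : adj G q s := hns.resolve_left hsq
        have hsp : s ≠ p := by
          intro e
          rw [e] at hqs
          exact hN1 (adj_comm.mp hqs)
        rw [hrp]
        refine ⟨fun e => hsp e.symm, fun hps => ?_⟩
        exact hN2 ⟨s, hvert hs hqs, hsp, hsq, hps, adj_comm.mp hqs⟩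
    · have hpr : adj G p r := hnr.resolve_left hrp
      have hrq : r ≠ q := by
        intro e
        rw [e] at hpr
        exact hN1 hpr
      by_cases hsq : s = q
      · rw [hsq]
        refine ⟨hrq, fun hrq' => ?_⟩
        exact hN2 ⟨r, hvert hr hpr, hrp, hrq, hpr, hrq'⟩
      · have hqs : adj G q s := hns.resolve_left hsq
        have hsp : s ≠ p := by
          intro e
          rw [e] at hqs
          exact hN1 (adj_comm.mp hqs)
        have hrs_ne : r ≠ s := by
          intro e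
          rw [← e] at hqs
          exact hN2 ⟨r, hvert hr hpr, hrp, hrq, hpr, adj_comm.mp hqs⟩
        refine ⟨hrs_ne, fun hrs => ?_⟩
        exact hN3 ⟨r, s, hvert hr hpr, hvert hs hqs, hrp, hsq, hrs_ne, hrq, hsp, hpr, hrs,
          adj_comm.mp hqs⟩
  -- elements of maximal class size of the two types
  obtain ⟨x0, hx0, hx0max⟩ : ∃ x0 : G, p ∣ cs x0 ∧ ∀ x : G, p ∣ cs x → cs x ≤ cs x0 := by
    have hne : Nonempty {x : G // p ∣ cs x} := ⟨⟨gp, hgp⟩⟩
    obtain ⟨⟨x0, hx0⟩, hmax⟩ := Finite.exists_max (fun x : {x : G // p ∣ cs x} => cs x.1)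
    exact ⟨x0, hx0, fun x hx => hmax ⟨x, hx⟩⟩
  obtain ⟨y0, hy0, hy0max⟩ : ∃ y0 : G, q ∣ cs y0 ∧ ∀ y : G, q ∣ cs y → cs y ≤ cs y0 := by
    have hne : Nonempty {y : G // q ∣ cs y} := ⟨⟨gq, hgq⟩⟩
    obtain ⟨⟨y0, hy0⟩, hmax⟩ := Finite.exists_max (fun y : {y : G // q ∣ cs y} => cs y.1)
    exact ⟨y0, hy0, fun y hy => hmax ⟨y, hy⟩⟩
  have hcop : (cs x0).Coprime (cs y0) := hsep.coprime hpP hqP hx0 hy0
  have hne : cs x0 ≠ cs y0 := by
    intro e
    rw [← e, Nat.coprime_self] at hcop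
    rw [hcop] at hx0
    exact hpP.one_lt.ne' (Nat.dvd_one.mp hx0)
  rcases lt_or_gt_of_ne hne with hlt | hgt
  · -- `cs x0 < cs y0`: swap the roles
    have h : Hyp q p y0 :=
      { hp := hqP
        hq := hpP
        sep := hsep.symm
        hx0 := hy0
        big := fun x hx => lt_of_le_of_lt (hx0max x hx) hlt }
    exact h.false_of_conn ⟨x0, hx0⟩ hconn
  · have h : Hyp p q x0 :=
      { hp := hpP
        hq := hqP
        sep := hsep
        hx0 := hx0
        big := fun y hy => lt_of_le_of_lt (hy0max y hy) hgt }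
    exact h.false_of_conn ⟨y0, hy0⟩ hconn

end Cfsg.Agent.S4257
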