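import Cfsg.Statements.S4261
import Cfsg.Agent.Lib.Helper71_Solvable

set_option autoImplicit false
open Cfsg

namespace Cfsg.Agent.S4261

open Subgroup

/-- Let M be a maximal subgroup of a finite solvable group G such that x^[G : M] lies in M for every x in G. Then M is normal in G. -/
theorem result {G : Type*} [Group G] [Finite G] (hG : Group.IsSolvable G) (M : Subgroup G) (hM : IsCoatom M)
    (hexp : ∀ x : G, x ^ M.index ∈ M) : M.Normal := by
  -- the index is a prime power
  obtain ⟨p, k, hp, hidx⟩ :=
    Cfsg.Agent.Lib.Helper71_Solvable.index_eq_prime_pow_of_isCoatom hG M hM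
  have : Fact p.Prime := ⟨hp⟩
  set K := M.normalCore with hK
  have hKM : K ≤ M := normalCore_le M
  -- all index-powers lie in the core
  have hexpK : ∀ x : G, x ^ M.index ∈ K := by
    intro x
    intro b
    rw [← conj_pow]
    exact hexp _
  -- so the quotient by the core is a p-group
  have hpQ : IsPGroup p (G ⧸ K) := by
    intro g
    obtain ⟨g, rfl⟩ := QuotientGroup.mk_surjective g
    refine ⟨k, ?_⟩
    rw [← QuotientGroup.mk_pow, QuotientGroup.eq_one_iff, ← hidx]
    exact hexpK g
  have hnil : Group.IsNilpotent (G ⧸ K) := hpQ.isNilpotent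
  have hNC : NormalizerCondition (G ⧸ K) := Group.normalizerCondition_of_isNilpotent
  -- apply the normalizer condition to the image of `M`
  set f := QuotientGroup.mk' K with hf
  have hfs : Function.Surjective f := QuotientGroup.mk'_surjective K
  have hcomap : (M.map f).comap f = M := by
    rw [comap_map_eq, QuotientGroup.ker_mk', sup_eq_left.mpr hKM]
  have hMtop : M.map f ≠ ⊤ := by
    intro h
    have : (M.map f).comap f = ⊤ := by rw [h, comap_top]
    rw [hcomap] at this
    exact hM.1 this
  have hlt : M.map f < normalizer ((M.map f : Subgroup (G ⧸ K)) : Set (G ⧸ K)) :=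
    hNC _ (lt_top_iff_ne_top.mpr hMtop)
  have hlt' : M < normalizer (M : Set G) := by
    have h1 : (normalizer ((M.map f : Subgroup (G ⧸ K)) : Set (G ⧸ K))).comap f
        = normalizer (M : Set G) := by
      rw [comap_normalizer_eq_of_surjective _ hfs, hcomap]
    rw [← h1]
    refine lt_of_le_of_ne ?_ ?_
    · calc M = (M.map f).comap f := hcomap.symm
        _ ≤ _ := comap_mono le_normalizer
    · intro heq
      have h2 : M.map f = normalizer ((M.map f : Subgroup (G ⧸ K)) : Set (G ⧸ K)) := by
        rw [← map_comap_eq_self_of_surjective hfs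
          (normalizer ((M.map f : Subgroup (G ⧸ K)) : Set (G ⧸ K))), ← heq]
      exact hlt.ne h2
  have htop : normalizer (M : Set G) = ⊤ := hM.2 _ hlt'
  exact normalizer_eq_top_iff.mp htop

end Cfsg.Agent.S4261
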