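import Mathlib
import Cfsg.Statements.S4262
import Cfsg.Agent.S0556
import Cfsg.Agent.Lib.Helper24_MaxCent

set_option autoImplicit false
open Cfsg

namespace Cfsg.Agent.S4262

open Subgroup Cfsg.Agent.Lib.Helper24_MaxCent

/-- Let G be a finite group in which the centralizer of every non-central element is a maximal subgroup of G. Then G is solvable. -/
theorem result {G : Type*} [Group G] [Finite G]
    (h : ∀ g : G, g ∉ Subgroup.center G → IsCoatom (Subgroup.centralizer ({g} : Set G))) :
    Group.IsSolvable G := by
  have hH : Hyp G := h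
  -- Case I: some centralizer is abelian (Herstein)
  by_cases hI : ∃ x : G, x ∉ center G ∧
      ∀ a ∈ centralizer ({x} : Set G), ∀ b ∈ centralizer ({x} : Set G), a * b = b * a
  · obtain ⟨x, hx, hab⟩ := hI
    have : IsMulCommutative ↥(centralizer ({x} : Set G)) :=
      ⟨⟨fun a b => Subtype.ext (hab a a.2 b b.2)⟩⟩
    have h3 := Cfsg.Agent.S0556.result (centralizer ({x} : Set G)) (h x hx)
    exact (Group.isSolvable_def G).mpr ⟨3, h3⟩
  -- Case II: all centralizers non-abelian
  have hII : ∀ x : G, x ∉ center G →
      ∃ a ∈ centralizer ({x} : Set G), ∃ b ∈ centralizer ({x} : Set G), a * b ≠ b * a := by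
    intro x hx
    by_contra hc
    apply hI
    refine ⟨x, hx, ?_⟩
    intro a ha b hb
    by_contra hne
    exact hc ⟨a, ha, b, hb, hne⟩
  have hZsolv : Group.IsSolvable ↥(center G) :=
    Group.isSolvable_of_comm (fun a b => mul_comm' a b)
  by_cases hA : ∃ x : G, x ∉ center G ∧ IsPGroup (ord x) (G ⧸ center G)
  · -- `G/Z(G)` is a `p`-group
    obtain ⟨x, hx, hpg⟩ := hA
    have hp := (ord_eq_of_mem_cent hH hx (hII x hx)).1
    have : Fact (ord x).Prime := ⟨hp⟩
    have hnil : Group.IsNilpotent (G ⧸ center G) := hpg.isNilpotent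
    have hqs : Group.IsSolvable (G ⧸ center G) := inferInstance
    refine Group.isSolvable_of_ker_le_range (center G).subtype (QuotientGroup.mk' (center G)) ?_
    rw [QuotientGroup.ker_mk', Subgroup.range_subtype]
  · by_cases hna : ∃ x : G, x ∉ center G
    · exfalso
      refine false_of_nonabelian_cent hH hII ?_ hna
      intro x hx hpg
      exact hA ⟨x, hx, hpg⟩
    · refine Group.isSolvable_of_comm ?_
      intro a b
      have hb : b ∈ center G := by
        by_contra hb
        exact hna ⟨b, hb⟩
      exact mem_center_iff.mp hb a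

end Cfsg.Agent.S4262
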