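import Cfsg.Statements.S4269
import Cfsg.Agent.Lib.Helper33_Conj

set_option autoImplicit false
open Cfsg

namespace Cfsg.Agent.S4269

open Subgroup Cfsg.Agent.Lib.Helper33_Conj
open scoped commutatorElement Pointwise

variable {G : Type*} [Group G]

/-- elements of `W ⊔ H` are products `w * h` when `H` normalizes `W`. -/
lemma exists_mul_of_mem_sup {H W : Subgroup G} (hHW : H ≤ normalizer (W : Set G)) {x : G}
    (hx : x ∈ H ⊔ W) : ∃ w ∈ W, ∃ h ∈ H, x = w * h := by
  rw [sup_eq_closure] at hx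
  induction hx using Subgroup.closure_induction with
  | mem x hx =>
    rcases hx with hx | hx
    · exact ⟨1, one_mem _, x, hx, by simp⟩
    · exact ⟨x, hx, 1, one_mem _, by simp⟩
  | one => exact ⟨1, one_mem _, 1, one_mem _, by simp⟩
  | mul x y _ _ hx hy =>
    obtain ⟨w, hw, h, hh, rfl⟩ := hx
    obtain ⟨w', hw', h', hh', rfl⟩ := hy
    refine ⟨w * (h * w' * h⁻¹), mul_mem hw ((mem_normalizer_iff.mp (hHW hh) w').mp hw'),
      h * h', mul_mem hh hh', by group⟩
  | inv x _ hx =>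
    obtain ⟨w, hw, h, hh, rfl⟩ := hx
    refine ⟨h⁻¹ * w⁻¹ * (h⁻¹)⁻¹, (mem_normalizer_iff.mp (hHW (inv_mem hh)) w⁻¹).mp (inv_mem hw),
      h⁻¹, inv_mem hh, by group⟩

lemma commutator_le_of_inv (H U : Subgroup G)
    (hinv : ∀ h ∈ H, U.map (MulAut.conj h).toMonoidHom = U) : ⁅H, U⁆ ≤ U := by
  rw [Subgroup.commutator_le]
  intro h hh u hu
  have : h * u * h⁻¹ ∈ U := by
    have h1 : h * u * h⁻¹ ∈ cj h U := conj_mem_cj hu
    rwa [show cj h U = U from hinv h hh] at h1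
  have e : ⁅h, u⁆ = (h * u * h⁻¹) * u⁻¹ := by rw [commutatorElement_def]
  rw [e]
  exact mul_mem this (inv_mem hu)

lemma le_normalizer_commutator (H U : Subgroup G)
    (hinv : ∀ h ∈ H, U.map (MulAut.conj h).toMonoidHom = U) :
    H ≤ normalizer ((⁅H, U⁆ : Subgroup G) : Set G) := by
  intro h hh
  rw [mem_normalizer_iff_cj]
  change (⁅H, U⁆).map (MulAut.conj h).toMonoidHom = ⁅H, U⁆
  rw [Subgroup.map_commutator]
  have h1 : H.map (MulAut.conj h).toMonoidHom = H := cj_of_mem hh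
  rw [h1, hinv h hh]

lemma forward (H : Subgroup G) (hpro : Cfsg.IsPronormal H) (U : Subgroup G)
    (hinv : ∀ h ∈ H, U.map (MulAut.conj h).toMonoidHom = U) :
    U = (U ⊓ normalizer (H : Set G)) ⊔ ⁅H, U⁆ := by
  have hcomm_le : ⁅H, U⁆ ≤ U := commutator_le_of_inv H U hinv
  apply le_antisymm
  · intro u hu
    obtain ⟨x, hx, hxe⟩ := hpro u
    have hle : H ⊔ cj u H ≤ H ⊔ ⁅H, U⁆ := by
      apply sup_le le_sup_left
      intro y hy
      rw [mem_cj] at hy
      have e : y = (⁅u⁻¹ * y * u, u⁆)⁻¹ * (u⁻¹ * y * u) := by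
        rw [commutatorElement_def]; group
      rw [e]
      exact mul_mem (mem_sup_right (inv_mem (commutator_mem_commutator hy hu)))
        (mem_sup_left hy)
    have hx' : x ∈ H ⊔ ⁅H, U⁆ := hle hx
    obtain ⟨w, hw, h, hh, hxwh⟩ := exists_mul_of_mem_sup (le_normalizer_commutator H U hinv) hx'
    have h1 : cj u H = cj w H := by
      have : cj u H = cj x H := hxe
      rw [this, hxwh, cj_mul, cj_of_mem hh]
    have h2 : w⁻¹ * u ∈ normalizer (H : Set G) := by
      rw [mem_normalizer_iff_cj, cj_mul, h1, cj_inv_cj]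
    have e : u = w * (w⁻¹ * u) := by group
    rw [e]
    exact mul_mem (mem_sup_right hw)
      (mem_sup_left (Subgroup.mem_inf.mpr ⟨mul_mem (inv_mem (hcomm_le hw)) hu, h2⟩))
  · exact sup_le inf_le_left hcomm_le

lemma backward (V : Subgroup G) [V.Normal] (hV : IsMulCommutative ↥V) (H : Subgroup G)
    (hHV : H ⊔ V = ⊤)
    (hyp : ∀ U : Subgroup G, U ≤ V → (∀ h ∈ H, U.map (MulAut.conj h).toMonoidHom = U) →
        U = (U ⊓ Subgroup.normalizer (H : Set G)) ⊔ ⁅H, U⁆) : Cfsg.IsPronormal H := by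
  have hVc : ∀ a ∈ V, ∀ b ∈ V, a * b = b * a := by
    intro a ha b hb
    have := hV.is_comm.comm (⟨a, ha⟩ : V) ⟨b, hb⟩
    exact congrArg Subtype.val this
  intro g
  have hg : g ∈ H ⊔ V := by rw [hHV]; trivial
  have hnV : H ≤ normalizer (V : Set G) := by
    rw [Subgroup.normalizer_eq_top]; exact le_top
  obtain ⟨v, hv, h, hh, hgvh⟩ := exists_mul_of_mem_sup hnV hg
  have hcj : cj g H = cj v H := by rw [hgvh, cj_mul, cj_of_mem hh]
  -- the `H`-closure of `v`
  have hvU : v ∈ closure {y | ∃ h ∈ H, y = h * v * h⁻¹} :=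
    subset_closure ⟨1, one_mem _, by simp⟩
  have hUV : closure {y | ∃ h ∈ H, y = h * v * h⁻¹} ≤ V := by
    rw [closure_le]
    rintro _ ⟨h, _, rfl⟩
    exact Normal.conj_mem inferInstance v hv h
  have hinv : ∀ h ∈ H, (closure {y | ∃ h ∈ H, y = h * v * h⁻¹}).map
      (MulAut.conj h).toMonoidHom = closure {y | ∃ h ∈ H, y = h * v * h⁻¹} := by
    intro h hh
    change cj h (closure {y | ∃ h ∈ H, y = h * v * h⁻¹}) = _
    rw [cj_closure]
    congr 1
    ext y
    constructor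
    · rintro ⟨_, ⟨h', hh', rfl⟩, rfl⟩
      exact ⟨h * h', mul_mem hh hh', by group⟩
    · rintro ⟨h', hh', rfl⟩
      exact ⟨h⁻¹ * h' * v * (h⁻¹ * h')⁻¹, ⟨h⁻¹ * h', mul_mem (inv_mem hh) hh', rfl⟩, by group⟩
  have hUeq := hyp _ hUV hinv
  have hcommU := commutator_le_of_inv H _ hinv
  -- the commutator lies in `K = H ⊔ cj g H`
  have hcommK : ⁅H, closure {y | ∃ h ∈ H, y = h * v * h⁻¹}⁆ ≤ H ⊔ cj g H := by
    rw [Subgroup.commutator_le]
    intro a ha u hu
    have key : u ∈ V ∧ ∀ a ∈ H, ⁅a, u⁆ ∈ H ⊔ cj g H := by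
      induction hu using Subgroup.closure_induction with
      | mem u hu =>
        obtain ⟨h₀, hh₀, rfl⟩ := hu
        refine ⟨Normal.conj_mem inferInstance v hv h₀, ?_⟩
        intro a ha
        have e : ⁅a, h₀ * v * h₀⁻¹⁆ = h₀ * ((h₀⁻¹ * a * h₀) * (v * (h₀⁻¹ * a * h₀)⁻¹ * v⁻¹)) * h₀⁻¹ := by
          rw [commutatorElement_def]; group
        rw [e]
        have hb : h₀⁻¹ * a * h₀ ∈ H := mul_mem (mul_mem (inv_mem hh₀) ha) hh₀
        refine mul_mem (mul_mem (mem_sup_left hh₀) (mul_mem (mem_sup_left hb) ?_))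
          (mem_sup_left (inv_mem hh₀))
        apply mem_sup_right
        rw [hcj]
        exact conj_mem_cj (inv_mem hb)
      | one =>
        refine ⟨one_mem _, fun a _ => ?_⟩
        rw [commutatorElement_def]; simp
      | mul u₁ u₂ _ _ h₁ h₂ =>
        refine ⟨mul_mem h₁.1 h₂.1, fun a ha => ?_⟩
        have hx : a * u₁ * a⁻¹ ∈ V := Normal.conj_mem inferInstance u₁ h₁.1 a
        have hy : a * u₂ * a⁻¹ ∈ V := Normal.conj_mem inferInstance u₂ h₂.1 a
        have e : ⁅a, u₁ * u₂⁆ = ⁅a, u₁⁆ * ⁅a, u₂⁆ := by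
          rw [commutatorElement_def, commutatorElement_def, commutatorElement_def]
          have c1 := hVc u₁⁻¹ (inv_mem h₁.1) (a * u₂ * a⁻¹ * u₂⁻¹) (mul_mem hy (inv_mem h₂.1))
          calc a * (u₁ * u₂) * a⁻¹ * (u₁ * u₂)⁻¹
              = (a * u₁ * a⁻¹) * ((a * u₂ * a⁻¹ * u₂⁻¹) * u₁⁻¹) := by group
            _ = (a * u₁ * a⁻¹) * (u₁⁻¹ * (a * u₂ * a⁻¹ * u₂⁻¹)) := by rw [c1]
            _ = a * u₁ * a⁻¹ * u₁⁻¹ * (a * u₂ * a⁻¹ * u₂⁻¹) := by group
        rw [e]
        exact mul_mem (h₁.2 a ha) (h₂.2 a ha)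
      | inv u _ h₁ =>
        refine ⟨inv_mem h₁.1, fun a ha => ?_⟩
        have hx : a * u * a⁻¹ ∈ V := Normal.conj_mem inferInstance u h₁.1 a
        have e : ⁅a, u⁻¹⁆ = (⁅a, u⁆)⁻¹ := by
          rw [commutatorElement_def, commutatorElement_def]
          have c1 := hVc u h₁.1 (a * u * a⁻¹)⁻¹ (inv_mem hx)
          calc a * u⁻¹ * a⁻¹ * u⁻¹⁻¹ = (a * u * a⁻¹)⁻¹ * u := by group
            _ = u * (a * u * a⁻¹)⁻¹ := c1.symm
            _ = (a * u * a⁻¹ * u⁻¹)⁻¹ := by group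
        rw [e]
        exact inv_mem (h₁.2 a ha)
    exact key.2 a ha
  -- decompose `v`
  have hv' : v ∈ (closure {y | ∃ h ∈ H, y = h * v * h⁻¹} ⊓ normalizer (H : Set G)) ⊔
      ⁅H, closure {y | ∃ h ∈ H, y = h * v * h⁻¹}⁆ := by
    rw [← hUeq]; exact hvU
  have hnorm2 : (closure {y | ∃ h ∈ H, y = h * v * h⁻¹} ⊓ normalizer (H : Set G)) ≤
      normalizer ((⁅H, closure {y | ∃ h ∈ H, y = h * v * h⁻¹}⁆ : Subgroup G) : Set G) := by
    intro n hn
    have hnV : n ∈ V := hUV hn.1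
    rw [mem_normalizer_iff_cj]
    ext y
    rw [mem_cj]
    constructor
    · intro hy
      have hyV : n⁻¹ * y * n ∈ V := hUV (hcommU hy)
      have hyV' : y ∈ V := by
        have := Normal.conj_mem (inferInstance : V.Normal) _ hyV n
        have e : n * (n⁻¹ * y * n) * n⁻¹ = y := by group
        rwa [e] at this
      have : n⁻¹ * y * n = y := by
        rw [mul_assoc, hVc y hyV' n hnV, ← mul_assoc, inv_mul_cancel, one_mul]
      rwa [this] at hy
    · intro hy
      have hyV' : y ∈ V := hUV (hcommU hy)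
      have : n⁻¹ * y * n = y := by
        rw [mul_assoc, hVc y hyV' n hnV, ← mul_assoc, inv_mul_cancel, one_mul]
      rwa [this]
  obtain ⟨w, hw, n, hn, hvwn⟩ := exists_mul_of_mem_sup hnorm2 hv'
  refine ⟨w, hcommK hw, ?_⟩
  change cj g H = cj w H
  rw [hcj, hvwn, cj_mul, mem_normalizer_iff_cj.mp hn.2]

/-- Let G be a finite group, V an abelian normal subgroup and H a subgroup with HV = G. Then H is pronormal in G (H and gHg⁻¹ are conjugate inside the subgroup they generate, for every g) if and only if every H-invariant subgroup U of V satisfies U = N_U(H)·[H, U], that is, U is the join of U ∩ N_G(H) and the commutator subgroup [H, U]. -/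
theorem result {G : Type*} [Group G] [Finite G]
    (V : Subgroup G) [V.Normal] (hV : IsMulCommutative ↥V) (H : Subgroup G) (hHV : H ⊔ V = ⊤) :
    Cfsg.IsPronormal H ↔
      ∀ U : Subgroup G, U ≤ V → (∀ h ∈ H, U.map (MulAut.conj h).toMonoidHom = U) →
        U = (U ⊓ Subgroup.normalizer (H : Set G)) ⊔ ⁅H, U⁆ := by
  constructor
  · intro hpro U _ hinv
    exact forward H hpro U hinv
  · intro hyp
    exact backward V hV H hHV hyp

end Cfsg.Agent.S4269
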