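import Cfsg.Statements.S4270
import Cfsg.Agent.Lib.Helper33_Conj
import Cfsg.Agent.Lib.Helper84_RelSylow
import Cfsg.Agent.Lib.Helper71_Pronormal

set_option autoImplicit false
open Cfsg

namespace Cfsg.Agent.S4270

open Cfsg.Agent.Lib.Helper33_Conj Cfsg.Agent.Lib.Helper84_RelSylow Cfsg.Agent.Lib.Helper71_Pronormal

section

variable {G : Type*} [Group G] {p : ℕ}

/-- a Sylow subgroup normalizes its intersection with a normal subgroup. -/
lemma sylow_le_normalizer_inf (S : Subgroup G) (A : Subgroup G) [A.Normal] :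
    S ≤ Subgroup.normalizer ((S ⊓ A : Subgroup G) : Set G) := by
  intro s hs
  rw [mem_normalizer_iff_cj, cj_inf, cj_of_mem hs, cj_normal s A]

/-- the conjugate of a Sylow subgroup, as a Sylow subgroup. -/
lemma exists_sylow_cj (a : G) (P : Sylow p G) : ∃ P₁ : Sylow p G, (P₁ : Subgroup G) = cj a P :=
  ⟨a • P, rfl⟩

variable [Finite G] [Fact p.Prime]

/-- the normalizer of a Sylow subgroup of a normal subgroup has index prime to `p`. -/
lemma exists_sylow_le_normalizer (A : Subgroup G) [A.Normal] (T : Subgroup G)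
    (hTA : IsSylowIn p T A) :
    ∃ S₁ : Sylow p G, (S₁ : Subgroup G) ≤ Subgroup.normalizer (T : Set G) := by
  obtain ⟨S₁, hS₁⟩ := hTA.isPGroup.exists_le_sylow
  refine ⟨S₁, ?_⟩
  have h1 : (S₁ : Subgroup G) ⊓ A = T :=
    hTA.eq_of_le (le_inf hS₁ hTA.le) inf_le_right (S₁.isPGroup'.to_le inf_le_left)
  have h2 := sylow_le_normalizer_inf (S₁ : Subgroup G) A
  rwa [h1] at h2

/-- forward direction, part (i). -/
lemma forward_quot (A : Subgroup G) [A.Normal] (T : Subgroup G) (hTA : IsSylowIn p T A)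
    [(T.subgroupOf (Subgroup.normalizer (T : Set G))).Normal]
    (h1 : ∀ K : Subgroup G, (∃ P : Sylow p G, (P : Subgroup G) ≤ K) → Cfsg.IsPronormal K)
    (K : Subgroup (↥(Subgroup.normalizer (T : Set G)) ⧸ T.subgroupOf (Subgroup.normalizer (T : Set G))))
    (hK : ∃ P : Sylow p (↥(Subgroup.normalizer (T : Set G)) ⧸ T.subgroupOf (Subgroup.normalizer (T : Set G))),
      (P : Subgroup (↥(Subgroup.normalizer (T : Set G)) ⧸ T.subgroupOf (Subgroup.normalizer (T : Set G)))) ≤ K) :
    Cfsg.IsPronormal K := by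
  obtain ⟨Pb, hPb⟩ := hK
  have hsurj := QuotientGroup.mk'_surjective (T.subgroupOf (Subgroup.normalizer (T : Set G)))
  have hKmap : K = (K.comap (QuotientGroup.mk' (T.subgroupOf (Subgroup.normalizer (T : Set G))))).map
      (QuotientGroup.mk' (T.subgroupOf (Subgroup.normalizer (T : Set G)))) :=
    (Subgroup.map_comap_eq_self_of_surjective hsurj K).symm
  rw [hKmap]
  apply IsPronormal.map _ _ hsurj
  have hK' : K.comap (QuotientGroup.mk' (T.subgroupOf (Subgroup.normalizer (T : Set G)))) =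
      ((K.comap (QuotientGroup.mk' (T.subgroupOf (Subgroup.normalizer (T : Set G))))).map
        (Subgroup.normalizer (T : Set G)).subtype).subgroupOf (Subgroup.normalizer (T : Set G)) := by
    exact (Subgroup.comap_map_eq_self_of_injective
      (Subgroup.normalizer (T : Set G)).subtype_injective _).symm
  rw [hK']
  apply (isPronormal_subgroupOf_iff (Subgroup.map_subtype_le _)).mpr
  apply IsPronormal.pronIn
  apply h1
  -- a Sylow subgroup of `G` inside
  have hTp' : IsPGroup p (T.subgroupOf (Subgroup.normalizer (T : Set G))) :=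
    hTA.isPGroup.comap_of_injective _ (Subgroup.normalizer (T : Set G)).subtype_injective
  have hker : IsPGroup p (QuotientGroup.mk' (T.subgroupOf (Subgroup.normalizer (T : Set G)))).ker := by
    rw [QuotientGroup.ker_mk']; exact hTp'
  have hrange : (Pb : Subgroup _) ≤
      (QuotientGroup.mk' (T.subgroupOf (Subgroup.normalizer (T : Set G)))).range := by
    rw [MonoidHom.range_eq_top.mpr hsurj]; exact le_top
  let R' : Sylow p ↥(Subgroup.normalizer (T : Set G)) := Pb.comapOfKerIsPGroup _ hker hrange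
  have hR'coe : (R' : Subgroup ↥(Subgroup.normalizer (T : Set G))) =
      (Pb : Subgroup _).comap (QuotientGroup.mk' (T.subgroupOf (Subgroup.normalizer (T : Set G)))) :=
    Sylow.coe_comapOfKerIsPGroup _ _ hker hrange
  have hRp : IsPGroup p ((R' : Subgroup ↥(Subgroup.normalizer (T : Set G))).map
      (Subgroup.normalizer (T : Set G)).subtype) := R'.isPGroup'.map _
  obtain ⟨S₁, hS₁⟩ := exists_sylow_le_normalizer A T hTA
  have hYidx : ¬ p ∣ (Subgroup.normalizer (T : Set G)).index := fun h =>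
    S₁.not_dvd_index (h.trans (Subgroup.index_dvd_of_le hS₁))
  have hRidx : ¬ p ∣ ((R' : Subgroup ↥(Subgroup.normalizer (T : Set G))).map
      (Subgroup.normalizer (T : Set G)).subtype).index := by
    rw [Subgroup.index_map_subtype]
    intro h
    rcases (Nat.Prime.dvd_mul (Fact.out : p.Prime)).mp h with h | h
    · exact R'.not_dvd_index h
    · exact hYidx h
  refine ⟨hRp.toSylow hRidx, ?_⟩
  rw [IsPGroup.toSylow_coe]
  apply Subgroup.map_mono
  rw [hR'coe]
  exact Subgroup.comap_mono hPb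

/-- forward direction, part (ii). -/
lemma forward_norm (A : Subgroup G) [A.Normal] (K : Subgroup G) (hK : Cfsg.IsPronormal K) :
    (Subgroup.normalizer (K : Set G)).map (QuotientGroup.mk' A) =
      Subgroup.normalizer ((K.map (QuotientGroup.mk' A) : Subgroup (G ⧸ A)) : Set (G ⧸ A)) := by
  apply le_antisymm (Subgroup.le_normalizer_map _)
  intro gb hgb
  obtain ⟨g, rfl⟩ := QuotientGroup.mk'_surjective A gb
  have h1 : cj g K ≤ K ⊔ A := by
    have h2 := mem_normalizer_iff_cj.mp hgb
    rw [← map_cj] at h2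
    have h3 : cj g K ≤ ((cj g K).map (QuotientGroup.mk' A)).comap (QuotientGroup.mk' A) :=
      Subgroup.le_comap_map _ _
    rw [h2, Subgroup.comap_map_eq, QuotientGroup.ker_mk'] at h3
    exact h3
  obtain ⟨x, hx, hgx⟩ := hK g
  change x ∈ K ⊔ cj g K at hx
  change cj g K = cj x K at hgx
  have hx' : x ∈ ((K ⊔ A : Subgroup G) : Set G) := (sup_le le_sup_left h1) hx
  rw [Subgroup.mul_normal] at hx'
  obtain ⟨k, hk, a, ha, rfl⟩ := hx'
  have hk' : k ∈ K := hk
  have ha' : a ∈ A := ha
  have hn : (k * a)⁻¹ * g ∈ Subgroup.normalizer (K : Set G) := by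
    rw [mem_normalizer_iff_cj, cj_mul, hgx, cj_inv_cj]
  refine ⟨k * ((k * a)⁻¹ * g), Subgroup.mul_mem _ (Subgroup.le_normalizer hk') hn, ?_⟩
  rw [QuotientGroup.mk'_apply, QuotientGroup.mk'_apply, QuotientGroup.eq]
  have h4 : (k * ((k * a)⁻¹ * g))⁻¹ * g = g⁻¹ * (k * a * k⁻¹) * g := by group
  rw [h4]
  exact Subgroup.Normal.conj_mem' inferInstance _
    (Subgroup.Normal.conj_mem inferInstance a ha' k) g

/-- backward direction when the Sylow subgroup meets `A` in `T`. -/
lemma backward_aux (A : Subgroup G) [A.Normal]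
    (hA : ∀ K : Subgroup ↥A, (∃ P : Sylow p ↥A, (P : Subgroup ↥A) ≤ K) → Cfsg.IsPronormal K)
    (hQ : ∀ K : Subgroup (G ⧸ A), (∃ P : Sylow p (G ⧸ A), (P : Subgroup (G ⧸ A)) ≤ K) →
      Cfsg.IsPronormal K)
    (T : Subgroup G) (P₀ : Sylow p ↥A) (hP₀ : (P₀ : Subgroup ↥A).map A.subtype = T)
    [(T.subgroupOf (Subgroup.normalizer (T : Set G))).Normal]
    (h2i : ∀ K : Subgroup (↥(Subgroup.normalizer (T : Set G)) ⧸
        T.subgroupOf (Subgroup.normalizer (T : Set G))),
      (∃ P : Sylow p (↥(Subgroup.normalizer (T : Set G)) ⧸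
          T.subgroupOf (Subgroup.normalizer (T : Set G))),
        (P : Subgroup (↥(Subgroup.normalizer (T : Set G)) ⧸
          T.subgroupOf (Subgroup.normalizer (T : Set G)))) ≤ K) → Cfsg.IsPronormal K)
    (h2ii : ∀ K : Subgroup G, (∃ P : Sylow p G, (P : Subgroup G) ≤ K) →
      (Subgroup.normalizer (K : Set G)).map (QuotientGroup.mk' A) =
        Subgroup.normalizer ((K.map (QuotientGroup.mk' A) : Subgroup (G ⧸ A)) : Set (G ⧸ A)))
    (K : Subgroup G) (P : Sylow p G) (hPK : (P : Subgroup G) ≤ K)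
    (hPT : (P : Subgroup G) ⊓ A = T) : Cfsg.IsPronormal K := by
  have hTA : IsSylowIn p T A := hP₀ ▸ isSylowIn_of_sylow P₀
  have hTK : T ≤ K := hPT ▸ (inf_le_left.trans hPK)
  have hsurjA := QuotientGroup.mk'_surjective A
  have hmapsup : (K ⊔ A).map (QuotientGroup.mk' A) = K.map (QuotientGroup.mk' A) := by
    rw [Subgroup.map_sup, QuotientGroup.map_mk'_self, sup_bot_eq]
  -- step 1: `K ⊔ A` is pronormal
  have h1 : Cfsg.IsPronormal (K ⊔ A) := by
    apply isPronormal_of_map (QuotientGroup.mk' A)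
    · rw [QuotientGroup.ker_mk']; exact le_sup_right
    · rw [hmapsup]
      refine hQ _ ⟨P.mapSurjective hsurjA, ?_⟩
      rw [Sylow.coe_mapSurjective]
      exact Subgroup.map_mono hPK
  -- step 3: the normalizer of `K ⊔ A`
  have hN : Subgroup.normalizer ((K ⊔ A : Subgroup G) : Set G) ≤
      Subgroup.normalizer (K : Set G) ⊔ A := by
    intro g hg
    have h3 : QuotientGroup.mk' A g ∈ Subgroup.normalizer
        (((K ⊔ A).map (QuotientGroup.mk' A) : Subgroup (G ⧸ A)) : Set (G ⧸ A)) :=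
      Subgroup.le_normalizer_map _ ⟨g, hg, rfl⟩
    rw [hmapsup, ← h2ii K ⟨P, hPK⟩] at h3
    obtain ⟨n, hn, hng⟩ := h3
    rw [QuotientGroup.mk'_apply, QuotientGroup.mk'_apply, QuotientGroup.eq] at hng
    have h4 : g = n * (n⁻¹ * g) := by group
    rw [h4]
    exact Subgroup.mul_mem _ (Subgroup.mem_sup_left hn) (Subgroup.mem_sup_right hng)
  apply isPronormal_of_pronIn_normal h1 hN
  -- step 4
  apply pronIn_normal_of_frattini A T K hTA hTK
  · apply (isPronormal_subgroupOf_iff inf_le_right).mp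
    refine hA _ ⟨P₀, ?_⟩
    intro x hx
    rw [Subgroup.mem_subgroupOf]
    refine ⟨hTK ?_, x.2⟩
    rw [← hP₀]
    exact ⟨x, hx, rfl⟩
  · apply (isPronormal_subgroupOf_iff inf_le_right).mp
    apply isPronormal_of_map (QuotientGroup.mk' (T.subgroupOf (Subgroup.normalizer (T : Set G))))
    · rw [QuotientGroup.ker_mk']
      exact Subgroup.comap_mono (le_inf hTK Subgroup.le_normalizer)
    · have hPY : (P : Subgroup G) ≤ Subgroup.normalizer (T : Set G) := by
        have h5 := sylow_le_normalizer_inf (P : Subgroup G) A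
        rwa [hPT] at h5
      refine h2i _ ⟨(P.subtype hPY).mapSurjective (QuotientGroup.mk'_surjective _), ?_⟩
      rw [Sylow.coe_mapSurjective, Sylow.coe_subtype]
      exact Subgroup.map_mono (Subgroup.comap_mono (le_inf hPK hPY))

end

/-- Let p be a prime and G a finite group with a normal subgroup A such that, both in A and in G/A, every subgroup containing a Sylow p-subgroup of that group is pronormal in that group. Let T be a Sylow p-subgroup of A. Then every subgroup of G containing a Sylow p-subgroup of G is pronormal in G if and only if (i) every subgroup of N_G(T)/T containing a Sylow p-subgroup of N_G(T)/T is pronormal there, and (ii) for every subgroup H of G containing a Sylow p-subgroup of G, the image of N_G(H) in G/A is the full normalizer of the image of H. (Pronormal: H and gHg⁻¹ are conjugate inside the subgroup they generate, for every g.) -/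
theorem result {G : Type*} [Group G] [Finite G] {p : ℕ} [Fact p.Prime]
    (A : Subgroup G) [A.Normal] (hA : (∀ K : Subgroup ↥A, (∃ P : Sylow p ↥A, (P : Subgroup ↥A) ≤ K) → Cfsg.IsPronormal K)) (hQ : (∀ K : Subgroup (G ⧸ A), (∃ P : Sylow p (G ⧸ A), (P : Subgroup (G ⧸ A)) ≤ K) → Cfsg.IsPronormal K))
    (T : Subgroup G) (hT : ∃ P : Sylow p ↥A, (P : Subgroup ↥A).map A.subtype = T) [(T.subgroupOf (Subgroup.normalizer (T : Set G))).Normal] :
    (∀ K : Subgroup G, (∃ P : Sylow p G, (P : Subgroup G) ≤ K) → Cfsg.IsPronormal K) ↔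
      ((∀ K : Subgroup (↥(Subgroup.normalizer (T : Set G)) ⧸ T.subgroupOf (Subgroup.normalizer (T : Set G))), (∃ P : Sylow p (↥(Subgroup.normalizer (T : Set G)) ⧸ T.subgroupOf (Subgroup.normalizer (T : Set G))), (P : Subgroup (↥(Subgroup.normalizer (T : Set G)) ⧸ T.subgroupOf (Subgroup.normalizer (T : Set G)))) ≤ K) → Cfsg.IsPronormal K) ∧
        ∀ K : Subgroup G, (∃ P : Sylow p G, (P : Subgroup G) ≤ K) →
          (Subgroup.normalizer (K : Set G)).map (QuotientGroup.mk' A) = Subgroup.normalizer ((K.map (QuotientGroup.mk' A) : Subgroup (G ⧸ A)) : Set (G ⧸ A))) := by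
  obtain ⟨P₀, hP₀⟩ := hT
  have hTA : IsSylowIn p T A := hP₀ ▸ isSylowIn_of_sylow P₀
  constructor
  · intro h1
    exact ⟨fun K hK => forward_quot A T hTA h1 K hK, fun K hK => forward_norm A K (h1 K hK)⟩
  · rintro ⟨h2i, h2ii⟩ K ⟨P, hPK⟩
    have hPA := isSylowIn_inf_normal P A
    obtain ⟨a, -, haT⟩ := exists_cj_eq_of_isSylowIn hTA hPA
    obtain ⟨P₁, hP₁⟩ := exists_sylow_cj a P
    have hP₁K : (P₁ : Subgroup G) ≤ cj a K := hP₁ ▸ cj_mono hPK
    have hP₁T : (P₁ : Subgroup G) ⊓ A = T := by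
      rw [hP₁, ← haT, cj_inf, cj_normal a A]
    have h3 := backward_aux A hA hQ T P₀ hP₀ h2i h2ii (cj a K) P₁ hP₁K hP₁T
    have h4 := IsPronormal.map h3 (MulAut.conj a⁻¹).toMonoidHom (MulAut.conj a⁻¹).surjective
    have h5 : (cj a K).map (MulAut.conj a⁻¹).toMonoidHom = K := cj_inv_cj a K
    rwa [h5] at h4

end Cfsg.Agent.S4270
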