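import Cfsg.Statements.S4271
import Cfsg.Agent.S4270
import Cfsg.Agent.Lib.Helper33_Conj
import Cfsg.Agent.Lib.Helper84_RelSylow
import Cfsg.Agent.Lib.Helper71_Pronormal

set_option autoImplicit false
open Cfsg

namespace Cfsg.Agent.S4271

open Cfsg.Agent.Lib.Helper33_Conj Cfsg.Agent.Lib.Helper84_RelSylow Cfsg.Agent.Lib.Helper71_Pronormal

section

variable {G : Type*} [Group G] [Finite G] {p : ℕ} [Fact p.Prime]

/-- if a Sylow subgroup is self-normalizing, every subgroup containing it absorbs the elements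
conjugating it to a subgroup of a common overgroup. -/
lemma exists_mul_mem_of_selfNormalizing (P : Sylow p G)
    (hP : Subgroup.normalizer ((P : Subgroup G) : Set G) = P) (J : Subgroup G)
    (hPJ : (P : Subgroup G) ≤ J) (g : G) (hg : cj g (P : Subgroup G) ≤ J) :
    ∃ x ∈ J, x * g ∈ (P : Subgroup G) := by
  have h1 : IsSylowIn p (P : Subgroup G) J := isSylowIn_of_sylow_le P hPJ
  obtain ⟨P₁, hP₁⟩ : ∃ P₁ : Sylow p G, (P₁ : Subgroup G) = cj g P := ⟨g • P, rfl⟩
  have h2 : IsSylowIn p (cj g (P : Subgroup G)) J := hP₁ ▸ isSylowIn_of_sylow_le P₁ (hP₁ ▸ hg)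
  obtain ⟨x, hx, hxg⟩ := exists_cj_eq_of_isSylowIn h1 h2
  refine ⟨x, hx, ?_⟩
  rw [← hP, mem_normalizer_iff_cj, cj_mul, hxg]

lemma isPronormal_of_selfNormalizing (P : Sylow p G)
    (hP : Subgroup.normalizer ((P : Subgroup G) : Set G) = P) (K : Subgroup G)
    (hPK : (P : Subgroup G) ≤ K) : Cfsg.IsPronormal K := by
  intro g
  change ∃ x ∈ K ⊔ cj g K, cj g K = cj x K
  obtain ⟨x, hx, hxg⟩ := exists_mul_mem_of_selfNormalizing P hP (K ⊔ cj g K)
    (hPK.trans le_sup_left) g ((cj_mono hPK).trans le_sup_right)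
  refine ⟨x⁻¹, Subgroup.inv_mem _ hx, ?_⟩
  have h1 : g = x⁻¹ * (x * g) := by group
  conv_lhs => rw [h1]
  rw [cj_mul, cj_of_mem (hPK hxg)]

lemma normalizer_eq_of_selfNormalizing (P : Sylow p G)
    (hP : Subgroup.normalizer ((P : Subgroup G) : Set G) = P) (K : Subgroup G)
    (hPK : (P : Subgroup G) ≤ K) : Subgroup.normalizer (K : Set G) = K := by
  apply le_antisymm _ Subgroup.le_normalizer
  intro g hg
  have h1 : cj g (P : Subgroup G) ≤ K := by
    have h2 : cj g (P : Subgroup G) ≤ cj g K := cj_mono hPK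
    rwa [mem_normalizer_iff_cj.mp hg] at h2
  obtain ⟨x, hx, hxg⟩ := exists_mul_mem_of_selfNormalizing P hP K hPK g h1
  have h3 : g = x⁻¹ * (x * g) := by group
  rw [h3]
  exact K.mul_mem (K.inv_mem hx) (hPK hxg)

end

/-- Let p be a prime and G a finite group with a normal subgroup A such that every subgroup of A containing a Sylow p-subgroup of A is pronormal in A, and the Sylow p-subgroups of G/A are self-normalizing. Let T be a Sylow p-subgroup of A. Then every subgroup of G containing a Sylow p-subgroup of G is pronormal in G if and only if every subgroup of N_G(T)/T containing a Sylow p-subgroup of N_G(T)/T is pronormal in N_G(T)/T. (Pronormal: H and gHg⁻¹ are conjugate inside the subgroup they generate, for every g.) -/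
theorem result {G : Type*} [Group G] [Finite G] {p : ℕ} [Fact p.Prime]
    (A : Subgroup G) [A.Normal] (hA : (∀ K : Subgroup ↥A, (∃ P : Sylow p ↥A, (P : Subgroup ↥A) ≤ K) → Cfsg.IsPronormal K))
    (hQ : ∀ P : Sylow p (G ⧸ A), Subgroup.normalizer ((P : Subgroup (G ⧸ A)) : Set (G ⧸ A)) = P)
    (T : Subgroup G) (hT : ∃ P : Sylow p ↥A, (P : Subgroup ↥A).map A.subtype = T) [(T.subgroupOf (Subgroup.normalizer (T : Set G))).Normal] :
    (∀ K : Subgroup G, (∃ P : Sylow p G, (P : Subgroup G) ≤ K) → Cfsg.IsPronormal K) ↔ (∀ K : Subgroup (↥(Subgroup.normalizer (T : Set G)) ⧸ T.subgroupOf (Subgroup.normalizer (T : Set G))), (∃ P : Sylow p (↥(Subgroup.normalizer (T : Set G)) ⧸ T.subgroupOf (Subgroup.normalizer (T : Set G))), (P : Subgroup (↥(Subgroup.normalizer (T : Set G)) ⧸ T.subgroupOf (Subgroup.normalizer (T : Set G)))) ≤ K) → Cfsg.IsPronormal K) := by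
  have hQ' : ∀ K : Subgroup (G ⧸ A), (∃ P : Sylow p (G ⧸ A), (P : Subgroup (G ⧸ A)) ≤ K) →
      Cfsg.IsPronormal K := by
    rintro K ⟨P, hPK⟩
    exact isPronormal_of_selfNormalizing P (hQ P) K hPK
  refine (Cfsg.Agent.S4270.result A hA hQ' T hT).trans ⟨fun h => h.1, fun h => ⟨h, ?_⟩⟩
  rintro K ⟨P, hPK⟩
  apply le_antisymm (Subgroup.le_normalizer_map _)
  have hsurj := QuotientGroup.mk'_surjective A
  have h1 := normalizer_eq_of_selfNormalizing (P.mapSurjective hsurj) (hQ _)
    (K.map (QuotientGroup.mk' A)) (by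
      rw [Sylow.coe_mapSurjective]; exact Subgroup.map_mono hPK)
  rw [h1]
  exact Subgroup.map_mono Subgroup.le_normalizer

end Cfsg.Agent.S4271
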