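import Cfsg.Statements.S4275

set_option autoImplicit false
open Cfsg

namespace Cfsg.Agent.S4275

/-- Let G be a transitive group of permutations of a finite set Ω, let o ∈ Ω, and let α be an automorphism of G. Then α is induced by conjugation by a permutation of Ω normalizing G if and only if the image under α of the stabilizer of o fixes some point of Ω. -/
theorem result {Ω : Type*} [Fintype Ω] (G : Subgroup (Equiv.Perm Ω)) (htr : MulAction.IsPretransitive G Ω) (o : Ω) (α : G ≃* G) : (∃ σ : Equiv.Perm Ω, σ ∈ Subgroup.normalizer (G : Set (Equiv.Perm Ω)) ∧ ∀ g : G, ((α g : G) : Equiv.Perm Ω) = σ * (g : Equiv.Perm Ω) * σ⁻¹) ↔ ∃ ω : Ω, ∀ g ∈ (MulAction.stabilizer G o).map α.toMonoidHom, g • ω = ω := by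
  constructor
  · rintro ⟨σ, _, hσ⟩
    refine ⟨σ o, ?_⟩
    rintro g' ⟨g, hg, rfl⟩
    have hg' : (g : Equiv.Perm Ω) o = o := hg
    change ((α g : G) : Equiv.Perm Ω) (σ o) = σ o
    rw [hσ g]
    simp [hg']
  · rintro ⟨ω, hω⟩
    -- choose a transversal
    have hex : ∀ x : Ω, ∃ g : G, g • o = x := fun x => MulAction.exists_smul_eq G o x
    choose t ht using hex
    let σ : Ω → Ω := fun x => (α (t x)) • ω
    -- key property
    have key : ∀ g : G, σ (g • o) = (α g) • ω := by
      intro g
      have h1 : (t (g • o))⁻¹ * g ∈ MulAction.stabilizer G o := by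
        rw [MulAction.mem_stabilizer_iff, mul_smul, inv_smul_eq_iff]
        exact (ht (g • o)).symm
      have h2 := hω (α ((t (g • o))⁻¹ * g)) ⟨_, h1, rfl⟩
      rw [map_mul, map_inv, mul_smul, inv_smul_eq_iff] at h2
      exact h2.symm
    have hsurj : Function.Surjective σ := by
      intro y
      obtain ⟨h, hh⟩ := MulAction.exists_smul_eq G ω y
      obtain ⟨g, rfl⟩ := α.surjective h
      exact ⟨g • o, (key g).trans hh⟩
    have hbij : Function.Bijective σ := ⟨Finite.injective_iff_surjective.mpr hsurj, hsurj⟩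
    let σ' : Equiv.Perm Ω := Equiv.ofBijective σ hbij
    -- intertwining
    have hint : ∀ (g : G) (y : Ω), ((α g : G) : Equiv.Perm Ω) (σ' y) = σ' ((g : Equiv.Perm Ω) y) := by
      intro g y
      obtain ⟨h, rfl⟩ := MulAction.exists_smul_eq G o y
      change (α g) • σ (h • o) = σ (g • (h • o))
      rw [key h, ← mul_smul, ← mul_smul, ← map_mul, key (g * h)]
    have hconj : ∀ g : G, ((α g : G) : Equiv.Perm Ω) = σ' * (g : Equiv.Perm Ω) * σ'⁻¹ := by
      intro g
      ext x
      have := hint g (σ'⁻¹ x)
      simp only [Equiv.Perm.coe_mul, Function.comp_apply]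
      rw [← this]
      simp
    refine ⟨σ', ?_, hconj⟩
    rw [Subgroup.mem_normalizer_iff]
    intro τ
    constructor
    · intro hτ
      have := hconj ⟨τ, hτ⟩
      simp only at this
      rw [← this]
      exact (α ⟨τ, hτ⟩).2
    · intro hτ
      obtain ⟨g, hg⟩ := α.surjective ⟨σ' * τ * σ'⁻¹, hτ⟩
      have h1 := hconj g
      rw [hg] at h1
      simp only at h1
      have h2 : τ = (g : Equiv.Perm Ω) := by
        have := congrArg (fun x => σ'⁻¹ * x * σ') h1
        simpa [mul_assoc] using this
      rw [h2]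
      exact g.2

end Cfsg.Agent.S4275
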