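import Cfsg.Statements.S4276
import Cfsg.Agent.Lib.Helper58_TwistMat

set_option autoImplicit false
set_option linter.style.haveILetI false
open Cfsg

namespace Cfsg.Agent.S4276

open Cfsg.Agent.Lib.Helper58_TwistMat

/-- if the image of the stabilizer of `o` under `α` fixes a point, `α` is induced by a permutation -/
theorem permutational_of_fix {Ω : Type*} [Fintype Ω] (G : Subgroup (Equiv.Perm Ω))
    (htr : ∀ a b : Ω, ∃ g : G, g • a = b) (o ω'' : Ω) (α : MulAut G)
    (hfix : ∀ g : G, g • o = o → α g • ω'' = ω'') :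
    ∃ σ : Equiv.Perm Ω, σ ∈ Subgroup.normalizer (G : Set (Equiv.Perm Ω)) ∧
      ∀ g : G, ((α g : G) : Equiv.Perm Ω) = σ * (g : Equiv.Perm Ω) * σ⁻¹ := by
  classical
  choose gx hgx using fun x : Ω => htr o x
  set σ : Ω → Ω := fun x => α (gx x) • ω'' with hσ
  have key : ∀ g : G, σ (g • o) = α g • ω'' := by
    intro g
    have h1 : (g⁻¹ * gx (g • o)) • o = o := by
      rw [mul_smul, hgx, inv_smul_smul]
    have h2 := hfix _ h1
    rw [map_mul, map_inv, mul_smul, inv_smul_eq_iff] at h2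
    exact h2
  have hequiv : ∀ (g : G) (x : Ω), σ (g • x) = α g • σ x := by
    intro g x
    obtain ⟨g', rfl⟩ := htr o x
    rw [← mul_smul, key, key, map_mul, mul_smul]
  have hsurj : Function.Surjective σ := by
    intro y
    obtain ⟨h, rfl⟩ := htr ω'' y
    refine ⟨(α.symm h) • o, ?_⟩
    rw [key, MulEquiv.apply_symm_apply]
  have hbij : Function.Bijective σ := ⟨Finite.injective_iff_surjective.mpr hsurj, hsurj⟩
  set σ' : Equiv.Perm Ω := Equiv.ofBijective σ hbij with hσ'
  have hconj : ∀ g : G, ((α g : G) : Equiv.Perm Ω) = σ' * (g : Equiv.Perm Ω) * σ'⁻¹ := by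
    intro g
    ext y
    obtain ⟨x, rfl⟩ := hsurj y
    have h3 : σ'⁻¹ (σ x) = x := by
      rw [Equiv.Perm.inv_def, Equiv.symm_apply_eq]
      rfl
    rw [Equiv.Perm.mul_apply, Equiv.Perm.mul_apply, h3]
    have h4 := hequiv g x
    exact h4.symm
  refine ⟨σ', ?_, hconj⟩
  rw [Subgroup.mem_normalizer_iff]
  intro h
  constructor
  · intro hh
    have := hconj ⟨h, hh⟩
    rw [← this]
    exact (α ⟨h, hh⟩).2
  · intro hh
    have h5 := hconj (α.symm ⟨_, hh⟩)
    rw [MulEquiv.apply_symm_apply] at h5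
    have h6 : h = ((α.symm ⟨_, hh⟩ : G) : Equiv.Perm Ω) := by
      have : σ' * h * σ'⁻¹ = σ' * ((α.symm ⟨_, hh⟩ : G) : Equiv.Perm Ω) * σ'⁻¹ := h5
      have h7 := mul_right_cancel this
      exact mul_left_cancel h7
    rw [h6]
    exact (α.symm ⟨_, hh⟩).2

/-- Let G be a doubly transitive group of permutations of a finite set Ω of size n, let o ∈ Ω, and let α be an automorphism of G of odd order. Suppose that the image under α of the stabilizer of o has an orbit on Ω whose length k is coprime to n. Then α is induced by conjugation by a permutation of Ω normalizing G, and k = 1 or k = n − 1. -/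
theorem result {Ω : Type*} [Fintype Ω] (G : Subgroup (Equiv.Perm Ω)) (h2 : MulAction.IsMultiplyPretransitive G Ω 2) (o : Ω) (α : MulAut G) (hα : Odd (orderOf α)) (ω : Ω) (hk : (Nat.card (MulAction.orbit ((MulAction.stabilizer G o).map α.toMonoidHom) ω)).Coprime (Fintype.card Ω)) : (∃ σ : Equiv.Perm Ω, σ ∈ Subgroup.normalizer (G : Set (Equiv.Perm Ω)) ∧ ∀ g : G, ((α g : G) : Equiv.Perm Ω) = σ * (g : Equiv.Perm Ω) * σ⁻¹) ∧ (Nat.card (MulAction.orbit ((MulAction.stabilizer G o).map α.toMonoidHom) ω) = 1 ∨ Nat.card (MulAction.orbit ((MulAction.stabilizer G o).map α.toMonoidHom) ω) = Fintype.card Ω - 1) := by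
  classical
  set K : Subgroup G := (MulAction.stabilizer G o).map α.toMonoidHom with hK
  -- the orbit as an explicit set
  have horb : MulAction.orbit K ω = {u : Ω | ∃ g : G, g • o = o ∧ α g • ω = u} := by
    ext u
    rw [MulAction.mem_orbit_iff, Set.mem_ofPred_eq]
    constructor
    · rintro ⟨⟨κ, hκ⟩, hu⟩
      rw [hK, Subgroup.mem_map] at hκ
      obtain ⟨g, hg, rfl⟩ := hκ
      exact ⟨g, MulAction.mem_stabilizer_iff.mp hg, hu⟩
    · rintro ⟨g, hg, hu⟩
      exact ⟨⟨α g, Subgroup.mem_map.mpr ⟨g, MulAction.mem_stabilizer_iff.mpr hg, rfl⟩⟩, hu⟩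
  rw [Nat.card_coe_set_eq, horb] at hk ⊢
  set F : Set Ω := {u : Ω | ∃ g : G, g • o = o ∧ α g • ω = u} with hF
  have hFmem : ∀ u, u ∈ F ↔ ∃ g : G, g • o = o ∧ α g • ω = u := fun u => Iff.rfl
  have hωmem : ω ∈ F := ⟨1, one_smul _ _, by rw [map_one, one_smul]⟩
  have hFpos : 1 ≤ F.ncard := (Set.ncard_pos (Set.toFinite F)).mpr ⟨ω, hωmem⟩
  by_cases hn : Fintype.card Ω ≤ 1
  · -- degenerate case
    haveI : Subsingleton Ω := Fintype.card_le_one_iff_subsingleton.mp hn
    refine ⟨⟨1, Subgroup.one_mem _, fun g => Subsingleton.elim _ _⟩, Or.inl ?_⟩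
    have : F.ncard ≤ 1 := by
      have := Set.ncard_le_card F
      rw [Nat.card_eq_fintype_card] at this
      omega
    omega
  · push Not at hn
    have hn2 : 2 ≤ Fintype.card Ω := hn
    have h2' : ∀ a b c d : Ω, a ≠ b → c ≠ d → ∃ g : G, g • a = c ∧ g • b = d := by
      intro a b c d hab hcd
      exact MulAction.is_two_pretransitive_iff.mp h2 hab hcd
    have htr : ∀ a b : Ω, ∃ g : G, g • a = b := by
      intro a b
      obtain ⟨a', ha'⟩ := Fintype.exists_ne_of_one_lt_card hn a
      obtain ⟨b', hb'⟩ := Fintype.exists_ne_of_one_lt_card hn b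
      obtain ⟨g, hg, -⟩ := h2' a a' b b' ha'.symm hb'.symm
      exact ⟨g, hg⟩
    have hcore : F.ncard = 1 ∨ F.ncard = Fintype.card Ω - 1 :=
      orbit_ncard_of_coprime h2' htr hn2 α (orderOf α) hα (pow_orderOf_eq_one α) o ω hk
    refine ⟨?_, hcore⟩
    -- a fixed point of K
    obtain ⟨ω'', hω''⟩ : ∃ ω'' : Ω, ∀ g : G, g • o = o → α g • ω'' = ω'' := by
      rcases hcore with h1 | h1
      · refine ⟨ω, fun g hg => ?_⟩
        obtain ⟨x, hx⟩ := Set.ncard_eq_one.mp h1
        have h3 : α g • ω ∈ F := (hFmem _).mpr ⟨g, hg, rfl⟩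
        rw [hx, Set.mem_singleton_iff] at h3 hωmem
        rw [h3, hωmem]
      · have hc : (Fᶜ).ncard = 1 := by
          rw [Set.ncard_compl, Nat.card_eq_fintype_card, h1]
          omega
        obtain ⟨x, hx⟩ := Set.ncard_eq_one.mp hc
        have hxF : x ∉ F := by
          have : x ∈ Fᶜ := by rw [hx]; exact Set.mem_singleton _
          exact this
        refine ⟨x, fun g hg => ?_⟩
        by_contra hne
        have h4 : α g • x ∈ F := by
          by_contra h5
          have : α g • x ∈ Fᶜ := h5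
          rw [hx, Set.mem_singleton_iff] at this
          exact hne this
        obtain ⟨g', hg', hu⟩ := (hFmem _).mp h4
        apply hxF
        rw [hFmem]
        refine ⟨g⁻¹ * g', ?_, ?_⟩
        · rw [mul_smul, hg', inv_smul_eq_iff, hg]
        · rw [map_mul, map_inv, mul_smul, hu, inv_smul_smul]
    exact permutational_of_fix G htr o ω'' α hω''

end Cfsg.Agent.S4276
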