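import Cfsg.Statements.S4277
import Cfsg.Agent.Lib.Helper58_PrimeDegAut
import Cfsg.Agent.S0675

set_option autoImplicit false
set_option linter.style.haveILetI false
open Cfsg

namespace Cfsg.Agent.S4277

open scoped Pointwise commutatorElement

/-- the outer automorphism group of a cyclic group is commutative, hence solvable -/
theorem out_solvable_of_cyclic {G : Type*} [Group G] [IsCyclic G] : Group.IsSolvable (Out G) := by
  apply Group.isSolvable_of_comm
  intro a b
  obtain ⟨α, rfl⟩ := QuotientGroup.mk_surjective a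
  obtain ⟨β, rfl⟩ := QuotientGroup.mk_surjective b
  rw [← QuotientGroup.mk_mul, ← QuotientGroup.mk_mul]
  congr 1
  apply (IsCyclic.mulAutMulEquiv G).injective
  rw [map_mul, map_mul, mul_comm]

/-- Part IV: `Out G` is solvable once odd-order automorphisms centralizing a generator of a
cyclic Sylow subgroup are inner. -/
theorem out_solvable_of_key {G : Type*} [Group G] [Finite G] {p : ℕ} [Fact p.Prime]
    (P : Sylow p G) (x : G) (hxmem : x ∈ (P : Subgroup G))
    (hxP : ∀ y ∈ (P : Subgroup G), ∃ k : ℕ, y = x ^ k)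
    (hkey : ∀ α : MulAut G, α x = x → Odd (orderOf α) → α ∈ Inn G) :
    Group.IsSolvable (Out G) := by
  classical
  set q : MulAut G →* Out G := QuotientGroup.mk' (Inn G) with hq
  have hqker : ∀ α : MulAut G, α ∈ Inn G → q α = 1 := by
    intro α hα
    rw [hq, QuotientGroup.mk'_apply, QuotientGroup.eq_one_iff]
    exact hα
  -- the centralizer of x
  set C : Subgroup (MulAut G) := MulAction.stabilizer (MulAut G) x with hC
  have hCmem : ∀ α : MulAut G, α ∈ C ↔ α x = x := by
    intro α
    rw [hC, MulAction.mem_stabilizer_iff, MulAut.smul_def]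
  set Q₁ : Subgroup (Out G) := C.map q with hQ₁
  -- Claim 1 : Q₁ is a 2-group
  have hQ₁p : IsPGroup 2 Q₁ := by
    rintro ⟨_, ⟨c, hc, rfl⟩⟩
    have hn : orderOf c ≠ 0 := (orderOf_pos c).ne'
    obtain ⟨k, m', hm', hn2⟩ := Nat.exists_eq_two_pow_mul_odd hn
    refine ⟨k, ?_⟩
    apply Subtype.ext
    rw [Subgroup.coe_pow, Subgroup.coe_one]
    change (q c) ^ 2 ^ k = 1
    rw [← map_pow]
    apply hqker
    apply hkey
    · exact (hCmem _).mp (C.pow_mem hc _)
    · have : (c ^ 2 ^ k) ^ m' = 1 := by
        rw [← pow_mul, ← hn2, pow_orderOf_eq_one]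
      exact Odd.of_dvd_nat hm' (orderOf_dvd_of_pow_eq_one this)
  haveI : Fact (Nat.Prime 2) := ⟨Nat.prime_two⟩
  haveI hQ₁sol : Group.IsSolvable Q₁ := by
    haveI := hQ₁p.isNilpotent
    infer_instance
  -- the stabilizer of P
  set N : Subgroup (MulAut G) := MulAction.stabilizer (MulAut G) P with hN
  have hNx : ∀ ν ∈ N, ∃ k : ℕ, ν x = x ^ k := by
    intro ν hν
    apply hxP
    rw [hN, MulAction.mem_stabilizer_iff] at hν
    have h1 : ν • (P : Subgroup G) = (P : Subgroup G) := by
      rw [← Sylow.pointwise_smul_def, hν]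
    have h2 := Subgroup.smul_mem_pointwise_smul x ν (P : Subgroup G) hxmem
    rw [h1, MulAut.smul_def] at h2
    exact h2
  have hNcomm : ∀ ν ∈ N, ∀ μ ∈ N, ν (μ x) = μ (ν x) := by
    intro ν hν μ hμ
    obtain ⟨k, hk⟩ := hNx ν hν
    obtain ⟨l, hl⟩ := hNx μ hμ
    rw [hk, hl, map_pow, map_pow, hk, hl, ← pow_mul, ← pow_mul, mul_comm]
  have hNC : ∀ ν ∈ N, ∀ μ ∈ N, ⁅ν, μ⁆ ∈ C := by
    intro ν hν μ hμ
    rw [hCmem, commutatorElement_def]
    change ν (μ (ν⁻¹ (μ⁻¹ x))) = x
    rw [hNcomm ν⁻¹ (N.inv_mem hν) μ⁻¹ (N.inv_mem hμ)]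
    rw [MulAut.inv_apply, MulAut.inv_apply, MulEquiv.apply_symm_apply, MulEquiv.apply_symm_apply]
  -- Frattini
  have hfrat : ∀ a : Out G, ∃ ν ∈ N, q ν = a := by
    intro a
    obtain ⟨α, rfl⟩ := QuotientGroup.mk_surjective a
    obtain ⟨g, hg⟩ := MulAction.exists_smul_eq G P (α • P)
    rw [Sylow.smul_def] at hg
    refine ⟨(MulAut.conj g)⁻¹ * α, ?_, ?_⟩
    · rw [hN, MulAction.mem_stabilizer_iff, mul_smul, ← hg, inv_smul_smul]
    · rw [map_mul, map_inv, hqker (MulAut.conj g) ⟨g, rfl⟩, inv_one, one_mul]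
      rfl
  -- Claim 2 : commutator ≤ Q₁
  have hcomm : commutator (Out G) ≤ Q₁ := by
    rw [commutator_def, Subgroup.commutator_le]
    intro a _ b _
    obtain ⟨ν, hν, rfl⟩ := hfrat a
    obtain ⟨μ, hμ, rfl⟩ := hfrat b
    rw [← map_commutatorElement]
    exact ⟨_, hNC ν hν μ hμ, rfl⟩
  haveI : Group.IsSolvable (commutator (Out G)) :=
    Group.isSolvable_of_isSolvable_injective (f := Subgroup.inclusion hcomm)
      (Subgroup.inclusion_injective hcomm)
  exact Group.isSolvable_of_ker_le_range (commutator (Out G)).subtype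
    (Abelianization.of (G := Out G)) (by
      rw [Abelianization.ker_of, Subgroup.range_subtype])

open Cfsg.Agent.Lib.Helper58_PrimeDegAut in
/-- the non-solvable case -/
theorem main_case {G : Type*} [Group G] [Finite G] [IsSimpleGroup G] (H : Subgroup G)
    (hH : H.index.Prime) (hsol : ¬ Group.IsSolvable G) : Group.IsSolvable (Cfsg.Out G) := by
  classical
  set p := H.index with hp_def
  haveI : Fact p.Prime := ⟨hH⟩
  have hp : p.Prime := hH
  letI : Fintype (G ⧸ H) := Fintype.ofFinite _
  have hcardΩ : Fintype.card (G ⧸ H) = p := by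
    rw [← Nat.card_eq_fintype_card, hp_def, Subgroup.index_eq_card]
  -- faithfulness
  have hfaith : ∀ g : G, (∀ u : G ⧸ H, g • u = u) → g = 1 := by
    intro g hg
    set φ := MulAction.toPermHom G (G ⧸ H) with hφ
    have hker : φ.ker = ⊥ := by
      rcases (MonoidHom.normal_ker φ).eq_bot_or_eq_top with h | h
      · exact h
      · exfalso
        have hHtop : H = ⊤ := by
          rw [eq_top_iff]
          intro y _
          have hy : y ∈ φ.ker := by rw [h]; trivial
          rw [MonoidHom.mem_ker] at hy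
          have h1 : φ y ((1 : G) : G ⧸ H) = ((1 : G) : G ⧸ H) := by rw [hy]; rfl
          rw [hφ, MulAction.toPermHom_apply, MulAction.toPerm_apply, MulAction.Quotient.smul_coe,
            smul_eq_mul, mul_one, QuotientGroup.eq] at h1
          simpa using H.inv_mem h1
        rw [hp_def, hHtop, Subgroup.index_top] at hp
        exact Nat.not_prime_one hp
    have : g ∈ φ.ker := by
      rw [MonoidHom.mem_ker]
      ext u
      exact hg u
    rw [hker] at this
    exact this
  -- 2-transitivity via Burnside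
  have h2 : ∀ a b c d : G ⧸ H, a ≠ b → c ≠ d → ∃ g : G, g • a = c ∧ g • b = d := by
    set φ := MulAction.toPermHom G (G ⧸ H) with hφ
    have hinj : Function.Injective φ := by
      rw [injective_iff_map_eq_one]
      intro g hg
      apply hfaith
      intro u
      have := congrArg (fun σ : Equiv.Perm (G ⧸ H) => σ u) hg
      simpa [hφ] using this
    haveI : MulAction.IsPretransitive φ.range (G ⧸ H) := by
      refine ⟨fun u v => ?_⟩
      obtain ⟨g, hg⟩ := MulAction.exists_smul_eq G u v
      exact ⟨⟨φ g, ⟨g, rfl⟩⟩, hg⟩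
    have hns : ¬ Group.IsSolvable φ.range := by
      intro h
      apply hsol
      exact Group.isSolvable_of_isSolvable_injective (f := φ.rangeRestrict)
        (MonoidHom.rangeRestrict_injective_iff.mpr hinj)
    have hB := Cfsg.Agent.S0675.result (α := G ⧸ H) (by rw [hcardΩ]; exact hp) φ.range
    rcases hB with hB | hB
    · exact absurd hB hns
    · rw [MulAction.is_two_pretransitive_iff] at hB
      intro a b c d hab hcd
      obtain ⟨⟨_, ⟨g, rfl⟩⟩, h3, h4⟩ := hB hab hcd
      exact ⟨g, h3, h4⟩
  -- |G| divides p!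
  have hdvdfact : Nat.card G ∣ p.factorial := by
    set φ := MulAction.toPermHom G (G ⧸ H) with hφ
    have hinj : Function.Injective φ := by
      rw [injective_iff_map_eq_one]
      intro g hg
      apply hfaith
      intro u
      have := congrArg (fun σ : Equiv.Perm (G ⧸ H) => σ u) hg
      simpa [hφ] using this
    have := Subgroup.card_dvd_of_injective φ hinj
    rwa [Nat.card_eq_fintype_card (α := Equiv.Perm (G ⧸ H)), Fintype.card_perm, hcardΩ] at this
  have hpdvd : p ∣ Nat.card G := by
    rw [hp_def]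
    exact Subgroup.index_dvd_card H
  have hp2not : ¬ p ^ 2 ∣ Nat.card G := by
    intro h
    have h1 : p ^ 2 ∣ p.factorial := h.trans hdvdfact
    have h3 : p.factorial = p * (p - 1).factorial :=
      (Nat.mul_factorial_pred hp.ne_zero).symm
    rw [h3, pow_two] at h1
    have h4 : p ∣ (p - 1).factorial := Nat.dvd_of_mul_dvd_mul_left hp.pos h1
    have h5 := (Nat.Prime.dvd_factorial hp).mp h4
    have := hp.one_lt
    omega
  -- p ≠ 2
  have hp2 : p ≠ 2 := by
    intro h
    apply hsol
    rw [h] at hdvdfact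
    have hle : Nat.card G ≤ 2 := Nat.le_of_dvd (by norm_num) hdvdfact
    have hpd : p ∣ Nat.card G := hpdvd
    rw [h] at hpd
    have hpos : 0 < Nat.card G := Nat.card_pos
    have h2le : 2 ≤ Nat.card G := Nat.le_of_dvd hpos hpd
    have hcard : Nat.card G = 2 := le_antisymm hle h2le
    haveI : Fact (Nat.Prime 2) := ⟨Nat.prime_two⟩
    haveI : IsCyclic G := isCyclic_of_prime_card hcard
    exact IsSimpleGroup.comm_iff_isSolvable.mp (fun a b => IsCyclic.commGroup.mul_comm a b)
  -- the Sylow subgroup
  have hfac : (Nat.card G).factorization p = 1 := by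
    have hG0 : Nat.card G ≠ 0 := Nat.card_pos.ne'
    have h1 : 1 ≤ (Nat.card G).factorization p :=
      (hp.pow_dvd_iff_le_factorization hG0).mp (by rwa [pow_one])
    have h2' : ¬ 2 ≤ (Nat.card G).factorization p := fun h =>
      hp2not ((hp.pow_dvd_iff_le_factorization hG0).mpr h)
    omega
  obtain ⟨P⟩ : Nonempty (Sylow p G) := inferInstance
  have hPcard : Nat.card (P : Subgroup G) = p := by
    rw [Sylow.card_eq_multiplicity, hfac, pow_one]
  obtain ⟨x, hxmem, hx1⟩ : ∃ x ∈ (P : Subgroup G), x ≠ 1 := by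
    rcases (P : Subgroup G).bot_or_exists_ne_one with h | h
    · exfalso
      rw [h, Subgroup.card_bot] at hPcard
      exact hp.one_lt.ne hPcard
    · exact h
  have hx'1 : (⟨x, hxmem⟩ : (P : Subgroup G)) ≠ 1 := fun h => hx1 (congrArg Subtype.val h)
  have hxP : ∀ y ∈ (P : Subgroup G), ∃ k : ℕ, y = x ^ k := by
    intro y hy
    obtain ⟨k, hk⟩ := mem_powers_of_prime_card hPcard hx'1 (g' := ⟨y, hy⟩)
    refine ⟨k, ?_⟩
    have := congrArg Subtype.val hk
    simpa using this.symm
  have hxp : x ^ p = 1 := by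
    have h := pow_card_eq_one' (G := (P : Subgroup G)) (x := ⟨x, hxmem⟩)
    rw [hPcard] at h
    have := congrArg Subtype.val h
    simpa using this
  have hord : orderOf x = p := orderOf_eq_prime hxp hx1
  -- a moved point
  obtain ⟨o, ho⟩ : ∃ o : G ⧸ H, x • o ≠ o := by
    by_contra hall
    push Not at hall
    exact hx1 (hfaith x hall)
  have hper : MulAction.period x o = p := by
    have h1 := MulAction.period_dvd_orderOf x o
    rw [hord] at h1
    rcases (Nat.dvd_prime hp).mp h1 with h | h
    · exact absurd (MulAction.period_eq_one_iff.mp h) ho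
    · exact h
  have he : Function.Bijective (lab (p := p) x o) := by
    rw [Fintype.bijective_iff_injective_and_card]
    refine ⟨?_, by rw [ZMod.card, hcardΩ]⟩
    intro i i' h
    unfold lab at h
    have h3 : x ^ (-(i'.val : ℤ) + (i.val : ℤ)) • o = o := by
      rw [zpow_add, mul_smul, zpow_natCast, h, zpow_neg, zpow_natCast, inv_smul_smul]
    rw [MulAction.zpow_smul_eq_iff_period_dvd, hper] at h3
    have h4 : |(-(i'.val : ℤ) + (i.val : ℤ))| < (p : ℤ) := by
      have := ZMod.val_lt i
      have := ZMod.val_lt i'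
      rw [abs_lt]
      constructor <;> omega
    have h5 := Int.eq_zero_of_abs_lt_dvd h3 h4
    apply ZMod.val_injective p
    omega
  have hpH : ¬ p ∣ Nat.card (MulAction.stabilizer G o) := by
    intro h
    apply hp2not
    have h1 := Subgroup.index_mul_card (MulAction.stabilizer G o)
    rw [MulAction.index_stabilizer_of_transitive G o, Nat.card_eq_fintype_card, hcardΩ] at h1
    rw [← h1, pow_two]
    exact Nat.mul_dvd_mul_left p h
  have hkey : ∀ α : MulAut G, α x = x → Odd (orderOf α) → α ∈ Inn G := by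
    intro α hαx hodd
    obtain ⟨g, hg⟩ := inner_of_odd_order_of_fix hxp he hfaith h2 hp2 hpH α hαx hodd
    exact ⟨g, hg⟩
  exact out_solvable_of_key P x hxmem hxP hkey

/-- A case of the Schreier conjecture: if a finite simple group G has a subgroup of prime index, then the outer automorphism group of G is solvable. -/
theorem result {G : Type*} [Group G] [Finite G] [IsSimpleGroup G] (H : Subgroup G) (hH : H.index.Prime) : Group.IsSolvable (Cfsg.Out G) := by
  by_cases hsol : Group.IsSolvable G
  · have hcomm := IsSimpleGroup.comm_iff_isSolvable.mpr hsol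
    letI : CommGroup G := { (inferInstance : Group G) with mul_comm := hcomm }
    haveI : IsCyclic G := IsSimpleGroup.isCyclic
    exact out_solvable_of_cyclic
  · exact main_case H hH hsol

end Cfsg.Agent.S4277
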