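import Cfsg.Statements.S4283
import Cfsg.Agent.Lib.Helper71_FrobCount

set_option autoImplicit false
open Cfsg
open scoped Pointwise

namespace Cfsg.Agent.S4283

open Cfsg.Agent.Lib.Helper71_FrobCount Cfsg.Agent.Lib.Helper71_Frobenius Subgroup

variable {G : Type*} [Group G]

theorem mem_cent_singleton (x c : G) : c ∈ centralizer ({x} : Set G) ↔ x * c = c * x := by
  rw [mem_centralizer_iff]
  simp

/-- membership in the image of an overgroup of the centre -/
theorem mk_mem_map_iff (H : Subgroup G) (hZH : center G ≤ H) (x : G) :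
    (QuotientGroup.mk' (center G)) x ∈ H.map (QuotientGroup.mk' (center G)) ↔ x ∈ H := by
  constructor
  · rintro ⟨h, hh, hhx⟩
    have : h⁻¹ * x ∈ center G := by
      rw [← QuotientGroup.ker_mk' (center G), MonoidHom.mem_ker, map_mul, map_inv, hhx,
        inv_mul_cancel]
    have h2 : x = h * (h⁻¹ * x) := by group
    rw [h2]
    exact H.mul_mem hh (hZH this)
  · intro hx; exact ⟨x, hx, rfl⟩

theorem mk_eq_one_iff (x : G) : (QuotientGroup.mk' (center G)) x = 1 ↔ x ∈ center G := by
  rw [← MonoidHom.mem_ker, QuotientGroup.ker_mk']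

/-- centralizer of a conjugate -/
theorem centralizer_conj_index [Finite G] (g y : G) :
    (centralizer ({g * y * g⁻¹} : Set G)).index = (centralizer ({y} : Set G)).index := by
  have : centralizer ({g * y * g⁻¹} : Set G) =
      (centralizer ({y} : Set G)).map (MulAut.conj g).toMonoidHom := by
    ext c
    rw [mem_cent_singleton, Subgroup.mem_map]
    constructor
    · intro hc
      refine ⟨g⁻¹ * c * g, ?_, by simp [mul_assoc]⟩
      rw [mem_cent_singleton]
      have h1 : y * (g⁻¹ * c * g) = g⁻¹ * (g * y * g⁻¹ * c) * g := by group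
      have h2 : g⁻¹ * c * g * y = g⁻¹ * (c * (g * y * g⁻¹)) * g := by group
      rw [h1, h2, hc]
    · rintro ⟨d, hd, rfl⟩
      rw [mem_cent_singleton] at hd
      simp only [MulEquiv.coe_toMonoidHom, MulAut.conj_apply]
      have h1 : g * y * g⁻¹ * (g * d * g⁻¹) = g * (y * d) * g⁻¹ := by group
      have h2 : g * d * g⁻¹ * (g * y * g⁻¹) = g * (d * y) * g⁻¹ := by group
      rw [h1, h2, hd]
  rw [this]
  exact Subgroup.index_map_equiv _ (MulAut.conj g)


/-- Let G be a finite group with centre Z and let K, H be abelian subgroups of G containing Z such that G/Z is a Frobenius group with complement H/Z and kernel K/Z. Then the conjugacy class sizes of G are exactly 1, [G : K] and [G : H], and these two indices are coprime. (This is the converse half of the characterization of finite groups whose conjugacy class sizes are exactly 1, m and n with m and n coprime.) -/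
theorem result {G : Type*} [Group G] [Finite G] (K H : Subgroup G) (hZK : Subgroup.center G ≤ K) (hZH : Subgroup.center G ≤ H) (hK : IsMulCommutative K) (hH : IsMulCommutative H) (hFrob : Cfsg.IsFrobeniusComplement (H.map (QuotientGroup.mk' (Subgroup.center G)))) (hker : Cfsg.frobeniusKernel (H.map (QuotientGroup.mk' (Subgroup.center G))) = (K.map (QuotientGroup.mk' (Subgroup.center G)) : Set (G ⧸ Subgroup.center G))) : Set.range (fun x : G => (Subgroup.centralizer ({x} : Set G)).index) = ({1, K.index, H.index} : Set ℕ) ∧ K.index.Coprime H.index := by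
  set π := QuotientGroup.mk' (center G) with hπ
  set Hb := H.map π with hHb
  set Kb := K.map π with hKb
  have hπs : Function.Surjective π := QuotientGroup.mk'_surjective _
  -- membership in the kernel
  have hmemK : ∀ x : G, π x ∈ Cfsg.frobeniusKernel Hb ↔ x ∈ K := by
    intro x
    rw [hker]
    exact mk_mem_map_iff K hZK x
  -- centralizer of a noncentral element of H
  have hCH : ∀ x ∈ H, x ∉ center G → centralizer ({x} : Set G) = H := by
    intro x hxH hxZ
    apply le_antisymm
    · intro c hc
      rw [mem_cent_singleton] at hc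
      rw [← mk_mem_map_iff H hZH c]
      by_contra hcH
      have h3 := hFrob.2.2 (π c) hcH
      have hmem : π x ∈ Hb ⊓ MulAut.conj (π c) • Hb := by
        refine Subgroup.mem_inf.mpr ⟨⟨x, hxH, rfl⟩, ?_⟩
        rw [mem_conj_smul, ← map_inv, ← map_mul, ← map_mul]
        have : c⁻¹ * x * c = x := by
          rw [mul_assoc, hc, ← mul_assoc, inv_mul_cancel, one_mul]
        rw [this]
        exact ⟨x, hxH, rfl⟩
      rw [h3, Subgroup.mem_bot, mk_eq_one_iff] at hmem
      exact hxZ hmem
    · intro c hc
      rw [mem_cent_singleton]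
      exact setLike_mul_comm hxH hc
  -- centralizer of a noncentral element of K
  have hCK : ∀ x ∈ K, x ∉ center G → centralizer ({x} : Set G) = K := by
    intro x hxK hxZ
    apply le_antisymm
    · intro c hc
      rw [mem_cent_singleton] at hc
      by_contra hcK
      have h1 : π c ∉ Cfsg.frobeniusKernel Hb := fun h => hcK ((hmemK c).mp h)
      rw [mem_frobeniusKernel_iff, not_or] at h1
      obtain ⟨hc1, hc2⟩ := h1
      push Not at hc2
      obtain ⟨γ, hγ⟩ := hc2
      -- π x also fixes γ
      have h2 : π c • (π x • γ) = π x • γ := by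
        rw [← mul_smul, ← map_mul, ← hc, map_mul, mul_smul, hγ]
      have h3 : π x • γ = γ := fixed_unique Hb hFrob (π c) hc1 _ _ h2 hγ
      have h4 : π x ∈ Cfsg.frobeniusKernel Hb := (hmemK x).mpr hxK
      rw [mem_frobeniusKernel_iff] at h4
      rcases h4 with h5 | h5
      · exact hxZ ((mk_eq_one_iff x).mp h5)
      · exact h5 γ h3
    · intro c hc
      rw [mem_cent_singleton]
      exact setLike_mul_comm hxK hc
  -- index of the centralizer of an element outside K
  have hCO : ∀ x : G, x ∉ K → (centralizer ({x} : Set G)).index = H.index := by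
    intro x hxK
    have h1 : π x ∉ Cfsg.frobeniusKernel Hb := fun h => hxK ((hmemK x).mp h)
    rw [mem_frobeniusKernel_iff, not_or] at h1
    obtain ⟨hx1, hx2⟩ := h1
    push Not at hx2
    obtain ⟨γ, hγ⟩ := hx2
    obtain ⟨gb, rfl⟩ := QuotientGroup.mk_surjective γ
    obtain ⟨g, rfl⟩ := hπs gb
    rw [smul_mk_eq_iff, mem_conj_smul, ← map_inv, ← map_mul, ← map_mul,
      mk_mem_map_iff H hZH] at hγ
    have hnz : g⁻¹ * x * g ∉ center G := by
      intro h
      apply hx1
      rw [mk_eq_one_iff]
      have h2 : x = g * (g⁻¹ * x * g) * g⁻¹ := by group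
      rw [h2]
      exact (inferInstance : (center G).Normal).conj_mem _ h g
    have h2 : x = g * (g⁻¹ * x * g) * g⁻¹ := by group
    rw [h2, centralizer_conj_index, hCH _ hγ hnz]
  -- existence of noncentral elements
  have hexH : ∃ x ∈ H, x ∉ center G := by
    by_contra hno
    push Not at hno
    apply hFrob.1
    rw [eq_bot_iff]
    rintro _ ⟨h, hh, rfl⟩
    rw [Subgroup.mem_bot, mk_eq_one_iff]
    exact hno h hh
  have hcardK : Nat.card Kb = Hb.index := by
    rw [← card_frobeniusKernel Hb hFrob, hker]
    rfl
  have hidx : 1 < Hb.index := Subgroup.one_lt_index_of_ne_top hFrob.2.1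
  have hexK : ∃ x ∈ K, x ∉ center G := by
    by_contra hno
    push Not at hno
    have : Kb = ⊥ := by
      rw [eq_bot_iff]
      rintro _ ⟨k, hk, rfl⟩
      rw [Subgroup.mem_bot, mk_eq_one_iff]
      exact hno k hk
    rw [this, Subgroup.card_bot] at hcardK
    omega
  constructor
  · ext n
    simp only [Set.mem_range, Set.mem_insert_iff, Set.mem_singleton_iff]
    constructor
    · rintro ⟨x, rfl⟩
      by_cases hxZ : x ∈ center G
      · left
        rw [Subgroup.index_eq_one, eq_top_iff]
        intro c _
        rw [mem_cent_singleton]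
        exact (Subgroup.mem_center_iff.mp hxZ c).symm
      · by_cases hxK : x ∈ K
        · right; left
          rw [hCK x hxK hxZ]
        · right; right
          exact hCO x hxK
    · rintro (rfl | rfl | rfl)
      · refine ⟨1, ?_⟩
        rw [Subgroup.index_eq_one, eq_top_iff]
        intro c _
        rw [mem_cent_singleton]; simp
      · obtain ⟨x, hxK, hxZ⟩ := hexK
        exact ⟨x, by rw [hCK x hxK hxZ]⟩
      · obtain ⟨x, hxH, hxZ⟩ := hexH
        exact ⟨x, by rw [hCH x hxH hxZ]⟩
  · -- coprimality
    have hKi : Kb.index = K.index :=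
      Subgroup.index_map_eq K hπs (by rw [QuotientGroup.ker_mk']; exact hZK)
    have hHi : Hb.index = H.index :=
      Subgroup.index_map_eq H hπs (by rw [QuotientGroup.ker_mk']; exact hZH)
    rw [← hKi, ← hHi]
    have e1 : Nat.card Kb * Kb.index = Nat.card (G ⧸ center G) := Subgroup.card_mul_index Kb
    have e2 : Nat.card Hb * Hb.index = Nat.card (G ⧸ center G) := Subgroup.card_mul_index Hb
    have hKpos : 0 < Nat.card Kb := Nat.card_pos
    have e3 : Kb.index = Nat.card Hb := by
      have : Nat.card Kb * Kb.index = Nat.card Kb * Nat.card Hb := by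
        rw [e1, ← e2, hcardK, mul_comm]
      exact Nat.eq_of_mul_eq_mul_left hKpos this
    rw [e3]
    have hmod := index_mod_card Hb hFrob
    have h1 : Nat.gcd Hb.index (Nat.card Hb) = Nat.gcd 1 (Nat.card Hb) :=
      Nat.ModEq.gcd_eq hmod
    rw [Nat.Coprime, Nat.gcd_comm, h1, Nat.gcd_one_left]

end Cfsg.Agent.S4283
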