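import Cfsg.Statements.S4290
import Cfsg.Agent.S4276

set_option autoImplicit false
set_option linter.style.haveILetI false
open Cfsg

namespace Cfsg.Agent.S4290

/-- Let G be a doubly transitive group of permutations of a finite set Ω in which a point stabilizer is a Hall subgroup of G (its order is coprime to its index). Then every automorphism of G of odd order is induced by conjugation by a permutation of Ω normalizing G. -/
theorem result {Ω : Type*} [Fintype Ω] (G : Subgroup (Equiv.Perm Ω)) (h2 : MulAction.IsMultiplyPretransitive G Ω 2) (o : Ω) (hHall : (Nat.card (MulAction.stabilizer G o)).Coprime (MulAction.stabilizer G o).index) (α : MulAut G) (hα : Odd (orderOf α)) : ∃ σ : Equiv.Perm Ω, σ ∈ Subgroup.normalizer (G : Set (Equiv.Perm Ω)) ∧ ∀ g : G, ((α g : G) : Equiv.Perm Ω) = σ * (g : Equiv.Perm Ω) * σ⁻¹ := by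
  classical
  by_cases hn : Fintype.card Ω ≤ 1
  · haveI : Subsingleton Ω := Fintype.card_le_one_iff_subsingleton.mp hn
    exact ⟨1, Subgroup.one_mem _, fun g => Subsingleton.elim _ _⟩
  · push Not at hn
    have h2' : ∀ a b c d : Ω, a ≠ b → c ≠ d → ∃ g : G, g • a = c ∧ g • b = d := by
      intro a b c d hab hcd
      exact MulAction.is_two_pretransitive_iff.mp h2 hab hcd
    haveI : MulAction.IsPretransitive G Ω := by
      refine ⟨fun a b => ?_⟩
      obtain ⟨a', ha'⟩ := Fintype.exists_ne_of_one_lt_card hn a
      obtain ⟨b', hb'⟩ := Fintype.exists_ne_of_one_lt_card hn b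
      obtain ⟨g, hg, -⟩ := h2' a a' b b' ha'.symm hb'.symm
      exact ⟨g, hg⟩
    set K : Subgroup G := (MulAction.stabilizer G o).map α.toMonoidHom with hK
    have hcardK : Nat.card K = Nat.card (MulAction.stabilizer G o) :=
      Subgroup.card_map_of_injective α.injective
    have hidx : (MulAction.stabilizer G o).index = Fintype.card Ω := by
      rw [MulAction.index_stabilizer_of_transitive G o, Nat.card_eq_fintype_card]
    have hdvd : Nat.card (MulAction.orbit K o) ∣ Nat.card K := by
      rw [Nat.card_coe_set_eq, ← MulAction.index_stabilizer K o]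
      exact Subgroup.index_dvd_card _
    have hk : (Nat.card (MulAction.orbit K o)).Coprime (Fintype.card Ω) := by
      rw [hidx, ← hcardK] at hHall
      exact Nat.Coprime.coprime_dvd_left hdvd hHall
    exact (Cfsg.Agent.S4276.result G h2 o α hα o hk).1

end Cfsg.Agent.S4290
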