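import Cfsg.Statements.S4295
import Cfsg.Agent.Lib.Helper71_Frobenius
import Cfsg.Agent.Lib.Helper71_FrobCount
import Cfsg.Agent.Lib.Helper71_QuatLift
import Cfsg.Agent.Lib.Helper71_QuatFrob

set_option autoImplicit false
open Cfsg

namespace Cfsg.Agent.S4295

open QuaternionGroup Cfsg.Agent.Lib.Helper71_QuatLift

/-- `Q₈`-modules of order `k²` on which the central involution acts as `-1`. -/
def HasQMod (k : ℕ) : Prop :=
  ∃ (V : Type) (_ : AddCommGroup V) (_ : DistribMulAction (QuaternionGroup 2) V) (_ : Finite V),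
    Nat.card V = k ^ 2 ∧ ∀ v : V, (a 2 : QuaternionGroup 2) • v = -v

lemma hasQMod_one : HasQMod 1 :=
  ⟨PUnit, inferInstance, inferInstance, inferInstance, by simp, fun v => rfl⟩

lemma hasQMod_mul {k l : ℕ} (hk : HasQMod k) (hl : HasQMod l) : HasQMod (k * l) := by
  obtain ⟨V, i1, i2, i3, hV, hVz⟩ := hk
  obtain ⟨W, j1, j2, j3, hW, hWz⟩ := hl
  refine ⟨V × W, inferInstance, inferInstance, inferInstance, ?_, ?_⟩
  · rw [Nat.card_prod, hV, hW, mul_pow]
  · rintro ⟨v, w⟩
    rw [Prod.smul_mk, hVz, hWz]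
    rfl

section prime

variable {R : Type*} [CommRing R]

/-- the matrix of `i`. -/
def matA : Matrix (Fin 2) (Fin 2) R := !![0, -1; 1, 0]

/-- the matrix of `j`. -/
def matX (x y : R) : Matrix (Fin 2) (Fin 2) R := !![x, y; y, -x]

lemma matA_sq : (matA : Matrix (Fin 2) (Fin 2) R) * matA = -1 := by
  unfold matA
  rw [Matrix.mul_fin_two, Matrix.one_fin_two]
  ext r c; fin_cases r <;> fin_cases c <;> simp

lemma matA_pow : (matA : Matrix (Fin 2) (Fin 2) R) ^ (2 * 2) = 1 := by
  have : (matA : Matrix (Fin 2) (Fin 2) R) ^ (2 * 2) = (matA * matA) * (matA * matA) := by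
    rw [pow_mul, pow_two, pow_two]
  rw [this, matA_sq]; simp

lemma matX_sq (x y : R) (h : x ^ 2 + y ^ 2 = -1) :
    matX x y * matX x y = (matA : Matrix (Fin 2) (Fin 2) R) ^ 2 := by
  rw [pow_two, matA_sq]
  unfold matX
  rw [Matrix.mul_fin_two, Matrix.one_fin_two]
  ext r c; fin_cases r <;> fin_cases c <;> simp
  · linear_combination h
  · ring
  · ring
  · linear_combination h

lemma matA_matX (x y : R) : matA * matX x y * matA = matX x y := by
  unfold matA matX
  rw [Matrix.mul_fin_two, Matrix.mul_fin_two]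
  ext r c; fin_cases r <;> fin_cases c <;> simp

end prime

lemma hasQMod_prime (p : ℕ) (hp : p.Prime) : HasQMod p := by
  have : Fact p.Prime := ⟨hp⟩
  obtain ⟨x, y, hxy⟩ := ZMod.sq_add_sq p (-1)
  let f : QuaternionGroup 2 →* Matrix (Fin 2) (Fin 2) (ZMod p) :=
    quatLift matA (matX x y) matA_pow (matX_sq x y hxy) (matA_matX x y)
  let g : QuaternionGroup 2 →* Module.End (ZMod p) (Fin 2 → ZMod p) :=
    (MonoidHomClass.toMonoidHom
      (Matrix.toLinAlgEquiv' : Matrix (Fin 2) (Fin 2) (ZMod p) ≃ₐ[ZMod p] _)).comp f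
  let act : DistribMulAction (QuaternionGroup 2) (Fin 2 → ZMod p) :=
    DistribMulAction.compHom _ g
  refine ⟨Fin 2 → ZMod p, inferInstance, act, inferInstance, ?_, ?_⟩
  · simp [Nat.card_eq_fintype_card]
  · intro v
    change g (a 2) v = -v
    have h1 : f (a 2) = -1 := by
      change (matA : Matrix (Fin 2) (Fin 2) (ZMod p)) ^ (2 : ZMod (2 * 2)).val = -1
      have : (2 : ZMod (2 * 2)).val = 2 := rfl
      rw [this, pow_two, matA_sq]
    change Matrix.toLinAlgEquiv' (f (a 2)) v = -v
    rw [h1]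
    simp

lemma hasQMod_of_ne_zero : ∀ k : ℕ, k ≠ 0 → HasQMod k := by
  intro k
  induction k using Nat.recOnMul with
  | zero => intro h; exact absurd rfl h
  | one => intro _; exact hasQMod_one
  | prime p hp => intro _; exact hasQMod_prime p hp
  | mul a b iha ihb =>
    intro hab
    exact hasQMod_mul (iha (left_ne_zero_of_mul hab)) (ihb (right_ne_zero_of_mul hab))

/-- in `Q₈` every nonidentity element is the central involution or squares to it. -/
lemma sq_eq_central : ∀ c : QuaternionGroup 2, c ≠ 1 → c = a 2 ∨ c * c = a 2 := by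
  decide

/-- the action is fixed-point-free when the order is odd. -/
lemma fpf_of_odd {V : Type} [AddCommGroup V] [DistribMulAction (QuaternionGroup 2) V] [Finite V]
    (hodd : Odd (Nat.card V)) (hz : ∀ v : V, (a 2 : QuaternionGroup 2) • v = -v)
    (c : QuaternionGroup 2) (hc : c ≠ 1) (v : V) (hv : c • v = v) : v = 0 := by
  have h1 : (a 2 : QuaternionGroup 2) • v = v := by
    rcases sq_eq_central c hc with h | h
    · rw [← h]; exact hv
    · rw [← h, mul_smul, hv, hv]
  rw [hz] at h1
  have h2 : (2 : ℕ) • v = 0 := by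
    rw [two_nsmul]
    nth_rewrite 1 [← h1]
    exact neg_add_cancel v
  have h3 : addOrderOf v ∣ 2 := addOrderOf_dvd_of_nsmul_eq_zero h2
  have h4 : addOrderOf v ∣ Nat.card V := addOrderOf_dvd_natCard v
  have h5 : addOrderOf v = 1 := by
    rcases (Nat.dvd_prime Nat.prime_two).mp h3 with h | h
    · exact h
    · exfalso
      rw [h] at h4
      exact (Nat.not_even_iff_odd.mpr hodd) (even_iff_two_dvd.mpr h4)
  exact AddMonoid.addOrderOf_eq_one_iff.mp h5

/-- For a natural number m the following are equivalent: (a) some finite group has a Frobenius complement isomorphic to the quaternion group of order 8 whose Frobenius kernel (the identity together with the elements lying in no conjugate of the complement) has exactly m elements; (b) m is an odd perfect square greater than 1. -/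
theorem result (m : ℕ) :
    (∃ (L : Type) (_ : Group L) (_ : Finite L) (H : Subgroup L), Cfsg.IsFrobeniusComplement H ∧
        Nonempty (H ≃* QuaternionGroup 2) ∧ Nat.card (Cfsg.frobeniusKernel H) = m) ↔
    (Odd m ∧ IsSquare m ∧ 1 < m) := by
  constructor
  · rintro ⟨L, _, _, H, hF, ⟨e⟩, hm⟩
    let φ : QuaternionGroup 2 →* L := H.subtype.comp e.symm.toMonoidHom
    have hφinj : Function.Injective φ :=
      (Subgroup.subtype_injective H).comp e.symm.injective
    have hi : φ (a 1) ∈ H := (e.symm (a 1)).2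
    have ht : φ (a 1) * φ (a 1) ≠ 1 := by
      rw [← map_mul, ← map_one φ]
      intro h
      exact absurd (hφinj h) (by decide)
    have hjj : φ (xa 0) * φ (xa 0) = φ (a 1) * φ (a 1) := by
      rw [← map_mul, ← map_mul]
      congr 1
    have ht2 : (φ (a 1) * φ (a 1)) * (φ (a 1) * φ (a 1)) = 1 := by
      rw [← map_mul, ← map_mul, ← map_one φ]
      congr 1
    have hconj : φ (xa 0) * φ (a 1) * (φ (xa 0))⁻¹ = (φ (a 1))⁻¹ := by
      rw [← map_inv, ← map_inv, ← map_mul, ← map_mul]
      congr 1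
    have key := Cfsg.Agent.Lib.Helper71_QuatFrob.odd_and_isSquare_card_kernel H hF
      (φ (a 1)) (φ (xa 0)) hi ht hjj ht2 hconj
    rw [hm] at key
    refine ⟨key.1, key.2, ?_⟩
    rw [← hm, Cfsg.Agent.Lib.Helper71_FrobCount.card_frobeniusKernel H hF]
    have h1 : H.index ≠ 1 := fun h => hF.2.1 (Subgroup.index_eq_one.mp h)
    have h0 : H.index ≠ 0 := Subgroup.index_ne_zero_of_finite
    omega
  · rintro ⟨hodd, ⟨r, hr⟩, h1⟩
    have hr0 : r ≠ 0 := by
      rintro rfl
      omega
    obtain ⟨V, i1, i2, i3, hV, hVz⟩ := hasQMod_of_ne_zero r hr0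
    have hVm : Nat.card V = m := by rw [hV, hr, pow_two]
    have hVodd : Odd (Nat.card V) := hVm ▸ hodd
    have hnt : Nontrivial V := by
      rw [← Finite.one_lt_card_iff_nontrivial, hVm]; exact h1
    obtain ⟨L, iL, iF, H, hF, ⟨e⟩, hcard⟩ :=
      Cfsg.Agent.Lib.Helper71_Frobenius.exists_frobenius_of_fpf_distribMulAction
        (C := QuaternionGroup 2) (V := V) (fun c hc v hv => fpf_of_odd hVodd hVz c hc v hv)
    exact ⟨L, iL, iF, H, hF, ⟨e.symm⟩, hcard.trans hVm⟩

end Cfsg.Agent.S4295
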