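import Cfsg.Statements.S4296
import Cfsg.Agent.S0016
import Cfsg.Agent.Lib.Helper71_QuatFrob
import Cfsg.Agent.Lib.Helper71_FpfRank

set_option autoImplicit false
open Cfsg

namespace Cfsg.Agent.S4296

open QuaternionGroup

/-- the relations of the standard quaternion subgroup of a generalized quaternion group. -/
lemma quat_rel (k : ℕ) :
    let i₀ : QuaternionGroup (2 ^ (k + 1)) := a ((2 ^ k : ℕ) : ZMod (2 * 2 ^ (k + 1)))
    let j₀ : QuaternionGroup (2 ^ (k + 1)) := xa 0
    i₀ * i₀ ≠ 1 ∧ j₀ * j₀ = i₀ * i₀ ∧ (i₀ * i₀) * (i₀ * i₀) = 1 ∧ j₀ * i₀ * j₀⁻¹ = i₀⁻¹ := by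
  intro i₀ j₀
  have hii : i₀ * i₀ = a ((2 ^ (k + 1) : ℕ) : ZMod (2 * 2 ^ (k + 1))) := by
    change a _ * a _ = _
    rw [a_mul_a]
    congr 1
    push_cast
    ring
  have h0 : ((2 * 2 ^ (k + 1) : ℕ) : ZMod (2 * 2 ^ (k + 1))) = 0 := ZMod.natCast_self _
  have h0' : (2 : ZMod (2 * 2 ^ (k + 1))) * 2 ^ (k + 1) = 0 := by
    have h := h0
    push_cast at h
    exact h
  refine ⟨?_, ?_, ?_, ?_⟩
  · rw [hii, one_def]
    intro h
    have h1 : ((2 ^ (k + 1) : ℕ) : ZMod (2 * 2 ^ (k + 1))) = 0 := a.inj h
    rw [ZMod.natCast_eq_zero_iff] at h1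
    have h2 := Nat.le_of_dvd (by positivity) h1
    have h3 : 0 < 2 ^ (k + 1) := by positivity
    omega
  · rw [hii]
    change xa 0 * xa 0 = _
    rw [xa_mul_xa]
    congr 1
    simp
  · rw [hii, a_mul_a, one_def]
    congr 1
    push_cast
    linear_combination h0'
  · change xa 0 * a _ * (xa 0)⁻¹ = (a _)⁻¹
    have hinv : ∀ x : QuaternionGroup (2 ^ (k + 1)), ∀ y, x * y = 1 → x⁻¹ = y :=
      fun x y h => inv_eq_of_mul_eq_one_right h
    have h1 : (xa 0 : QuaternionGroup (2 ^ (k + 1)))⁻¹ =
        xa ((2 ^ (k + 1) : ℕ) : ZMod (2 * 2 ^ (k + 1))) := by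
      apply hinv
      rw [xa_mul_xa, one_def]
      congr 1
      push_cast
      linear_combination h0'
    have h2 : (a ((2 ^ k : ℕ) : ZMod (2 * 2 ^ (k + 1))) : QuaternionGroup (2 ^ (k + 1)))⁻¹ =
        a (-((2 ^ k : ℕ) : ZMod (2 * 2 ^ (k + 1)))) := by
      apply hinv
      rw [a_mul_a, one_def]
      congr 1
      ring
    rw [h1, h2, xa_mul_a, xa_mul_xa]
    congr 1
    push_cast
    linear_combination h0'

/-- Let H be a Frobenius complement in a finite group, and suppose some Sylow subgroup of H is not cyclic. Then the number of elements of the Frobenius kernel (the identity together with the elements lying in no conjugate of H) is an odd perfect square. -/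
theorem result {L : Type*} [Group L] [Finite L] (H : Subgroup L) (hF : Cfsg.IsFrobeniusComplement H)
    (hZ : ∃ (p : ℕ) (_ : Fact p.Prime) (P : Sylow p H), ¬ IsCyclic P) :
    Odd (Nat.card (Cfsg.frobeniusKernel H)) ∧ IsSquare (Nat.card (Cfsg.frobeniusKernel H)) := by
  obtain ⟨p, hp, P, hP⟩ := hZ
  have := hp
  by_cases huniq : ∀ A B : Subgroup (P : Subgroup H), Nat.card A = p → Nat.card B = p → A = B
  · rcases Cfsg.Agent.S0016.result p P.isPGroup' huniq with h | ⟨-, n, ⟨e⟩⟩
    · exact absurd h hP
    · rcases n with _ | k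
      · exfalso
        apply hP
        have h1 : IsCyclic (QuaternionGroup (2 ^ 0)) := quaternionGroup_one_isCyclic
        exact isCyclic_of_surjective e.symm e.symm.surjective
      · -- the quaternion case
        let f : QuaternionGroup (2 ^ (k + 1)) →* L :=
          (H.subtype.comp (P : Subgroup H).subtype).comp e.symm.toMonoidHom
        have hf : Function.Injective f := by
          intro x y hxy
          apply e.symm.injective
          apply Subtype.ext
          apply Subtype.ext
          exact hxy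
        obtain ⟨r1, r2, r3, r4⟩ := quat_rel k
        refine Cfsg.Agent.Lib.Helper71_QuatFrob.odd_and_isSquare_card_kernel H hF
          (f (a ((2 ^ k : ℕ) : ZMod (2 * 2 ^ (k + 1))))) (f (xa 0)) ?_ ?_ ?_ ?_ ?_
        · exact (e.symm (a ((2 ^ k : ℕ) : ZMod (2 * 2 ^ (k + 1)))) : (P : Subgroup H)).1.2
        · rw [← map_mul]
          intro h
          exact r1 (hf (h.trans (map_one f).symm))
        · rw [← map_mul, ← map_mul, r2]
        · rw [← map_mul, ← map_mul, r3, map_one]
        · rw [← map_inv, ← map_inv, ← map_mul, ← map_mul, r4]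
  · exfalso
    push Not at huniq
    obtain ⟨A, B, hA, hB, hAB⟩ := huniq
    have hPfin : Finite (P : Subgroup H) := inferInstance
    have hPnt : Nontrivial (P : Subgroup H) := by
      by_contra hnt
      rw [not_nontrivial_iff_subsingleton] at hnt
      exact hP inferInstance
    have hcnt : Nontrivial (Subgroup.center (P : Subgroup H)) := P.isPGroup'.center_nontrivial
    have hcp : IsPGroup p (Subgroup.center (P : Subgroup H)) := P.isPGroup'.to_subgroup _
    have hpc : p ∣ Nat.card (Subgroup.center (P : Subgroup H)) := by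
      obtain ⟨m, hm⟩ := IsPGroup.iff_card.mp hcp
      rw [hm]
      rcases m with _ | m
      · exfalso
        have h1 := Finite.one_lt_card_iff_nontrivial.mpr hcnt
        rw [hm] at h1
        simp at h1
      · exact dvd_pow_self p (Nat.succ_ne_zero m)
    obtain ⟨z, hz⟩ := exists_prime_orderOf_dvd_card' p hpc
    -- a subgroup of order `p` different from `⟨z⟩`
    have hzcard : Nat.card (Subgroup.zpowers (z : (P : Subgroup H))) = p := by
      rw [Nat.card_zpowers, Subgroup.orderOf_coe, hz]
    obtain ⟨B', hB', hB'z⟩ : ∃ B' : Subgroup (P : Subgroup H), Nat.card B' = p ∧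
        B' ≠ Subgroup.zpowers (z : (P : Subgroup H)) := by
      by_cases h : A = Subgroup.zpowers (z : (P : Subgroup H))
      · exact ⟨B, hB, fun h' => hAB (h.trans h'.symm)⟩
      · exact ⟨A, hA, h⟩
    obtain ⟨b, hbB, hbz⟩ : ∃ b ∈ B', b ∉ Subgroup.zpowers (z : (P : Subgroup H)) := by
      by_contra hcon
      push Not at hcon
      apply hB'z
      apply Subgroup.eq_of_le_of_card_ge hcon
      rw [hzcard, hB']
    have hb1 : b ≠ 1 := fun h => hbz (h ▸ Subgroup.one_mem _)
    have hbp : b ^ p = 1 := by
      have h1 : (⟨b, hbB⟩ : B') ^ (Nat.card B') = 1 := pow_card_eq_one'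
      rw [hB'] at h1
      exact congrArg Subtype.val h1
    have hzp : (z : (P : Subgroup H)) ^ p = 1 := by
      have h1 := pow_orderOf_eq_one (z : (P : Subgroup H))
      rw [Subgroup.orderOf_coe, hz] at h1
      exact h1
    have hz1 : (z : (P : Subgroup H)) ≠ 1 := by
      intro h
      have h1 : orderOf (z : (P : Subgroup H)) = 1 := by rw [h, orderOf_one]
      rw [Subgroup.orderOf_coe, hz] at h1
      exact hp.out.one_lt.ne' h1
    have hzb : (z : (P : Subgroup H)) * b = b * z := (Subgroup.mem_center_iff.mp z.2 b).symm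
    -- transfer to `L`
    let g : (P : Subgroup H) →* L := H.subtype.comp (P : Subgroup H).subtype
    have hg : Function.Injective g := by
      intro x y hxy
      apply Subtype.ext
      apply Subtype.ext
      exact hxy
    apply Cfsg.Agent.Lib.Helper71_FpfRank.no_rank_two H hF p (g z) (g b) (z : (P : Subgroup H)).1.2
      b.1.2
    · rw [← map_mul, ← map_mul, hzb]
    · rw [← map_pow, hzp, map_one]
    · rw [← map_pow, hbp, map_one]
    · intro h
      exact hz1 (hg (h.trans (map_one g).symm))
    · intro h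
      apply hbz
      rw [← MonoidHom.map_zpowers] at h
      obtain ⟨y, hy, hyb⟩ := h
      rw [← hg hyb]
      exact hy

end Cfsg.Agent.S4296
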