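import Cfsg.Statements.S4299
import Cfsg.Agent.Lib.Helper71_Frobenius

set_option autoImplicit false
open Cfsg

namespace Cfsg.Agent.S4299

open Cfsg.Agent.Lib.Helper71_Frobenius

/-- an injective hom from a finite cyclic group of order `n` to the units of `ZMod p`,
`p ≡ 1 mod n`. -/
theorem exists_injective_hom {C : Type*} [Group C] [Finite C] [IsCyclic C] (p : ℕ) [Fact p.Prime]
    (hp : Nat.card C ∣ p - 1) : ∃ ψ : C →* (ZMod p)ˣ, Function.Injective ψ := by
  set n := Nat.card C with hn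
  have hn0 : n ≠ 0 := Nat.card_pos.ne'
  obtain ⟨u, hu⟩ := IsCyclic.exists_generator (α := (ZMod p)ˣ)
  have hou : orderOf u = p - 1 := by
    rw [orderOf_eq_card_of_forall_mem_zpowers hu, Nat.card_eq_fintype_card, ZMod.card_units]
  have hp1 : p - 1 ≠ 0 := by
    have := (Fact.out : p.Prime).two_le; omega
  obtain ⟨d, hd⟩ := hp
  have hd0 : d ≠ 0 := by
    rintro rfl; rw [mul_zero] at hd; exact hp1 hd
  set ζ := u ^ d with hζ
  have hoζ : orderOf ζ = n := by
    rw [hζ, orderOf_pow_of_dvd hd0 (by rw [hou, hd]; exact dvd_mul_left d n), hou, hd]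
    exact Nat.mul_div_cancel n (Nat.pos_of_ne_zero hd0)
  have hcard : Nat.card C = Nat.card (Subgroup.zpowers ζ) := by
    rw [Nat.card_zpowers, hoζ]
  let e : C ≃* Subgroup.zpowers ζ := mulEquivOfCyclicCardEq hcard
  refine ⟨(Subgroup.zpowers ζ).subtype.comp e.toMonoidHom, ?_⟩
  exact (Subgroup.subtype_injective _).comp e.injective

/-- Every nontrivial finite cyclic group occurs as a Frobenius complement of some finite Frobenius group. -/
theorem result {C : Type*} [Group C] [Finite C] [IsCyclic C] [Nontrivial C] :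
    ∃ (L : Type) (_ : Group L) (_ : Finite L) (H : Subgroup L), Cfsg.IsFrobeniusComplement H ∧ Nonempty (C ≃* H) := by
  have hn0 : Nat.card C ≠ 0 := Nat.card_pos.ne'
  obtain ⟨p, hp, _, hmod⟩ := Nat.exists_prime_gt_modEq_one (k := Nat.card C) 0 hn0
  have : Fact p.Prime := ⟨hp⟩
  have hdvd : Nat.card C ∣ p - 1 := (Nat.modEq_iff_dvd' hp.one_le).mp hmod.symm
  obtain ⟨ψ, hψ⟩ := exists_injective_hom (C := C) p hdvd
  obtain ⟨L, hL1, hL2, H, hH, hiso, _⟩ := exists_frobenius_of_units_hom (A := ZMod p) ψ (by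
    intro c hc a ha
    have h1 : ((ψ c : (ZMod p)ˣ) : ZMod p) ≠ 1 := by
      intro h
      apply hc
      apply hψ
      rw [map_one]
      exact Units.ext h
    have h2 : (((ψ c : (ZMod p)ˣ) : ZMod p) - 1) * a = 0 := by
      rw [sub_mul, one_mul, ha, sub_self]
    rcases mul_eq_zero.mp h2 with h3 | h3
    · exact absurd (sub_eq_zero.mp h3) h1
    · exact h3)
  exact ⟨L, hL1, hL2, H, hH, hiso⟩

end Cfsg.Agent.S4299
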