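import Cfsg.Statements.S4297
import Cfsg.Agent.Lib.Helper71_Frobenius
import Cfsg.Agent.S4299

set_option autoImplicit false
open Cfsg

namespace Cfsg.Agent.S4297

open Cfsg.Agent.Lib.Helper71_Frobenius QuaternionGroup

variable {n : ℕ} {F : Type*} [Field F]

/-- the matrix representation of the dicyclic group attached to a character `z` of `ZMod (2n)`. -/
def repFun (z : Multiplicative (ZMod (2 * n)) →* Fˣ) : QuaternionGroup n → Matrix (Fin 2) (Fin 2) F
  | a i => !![((z (Multiplicative.ofAdd i) : Fˣ) : F), 0; 0, ((z (Multiplicative.ofAdd (-i)) : Fˣ) : F)]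
  | xa i => !![0, ((z (Multiplicative.ofAdd (-i)) : Fˣ) : F); -((z (Multiplicative.ofAdd i) : Fˣ) : F), 0]

theorem z_add (z : Multiplicative (ZMod (2 * n)) →* Fˣ) (i j : ZMod (2 * n)) :
    ((z (Multiplicative.ofAdd (i + j)) : Fˣ) : F) =
      ((z (Multiplicative.ofAdd i) : Fˣ) : F) * ((z (Multiplicative.ofAdd j) : Fˣ) : F) := by
  rw [ofAdd_add, map_mul, Units.val_mul]

theorem z_zero (z : Multiplicative (ZMod (2 * n)) →* Fˣ) :
    ((z (Multiplicative.ofAdd (0 : ZMod (2 * n))) : Fˣ) : F) = 1 := by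
  rw [ofAdd_zero, map_one, Units.val_one]

theorem z_neg_mul (z : Multiplicative (ZMod (2 * n)) →* Fˣ) (i : ZMod (2 * n)) :
    ((z (Multiplicative.ofAdd (-i)) : Fˣ) : F) * ((z (Multiplicative.ofAdd i) : Fˣ) : F) = 1 := by
  rw [← z_add, neg_add_cancel, z_zero]

/-- the representation as a monoid hom, provided `z n = -1`. -/
def rep (z : Multiplicative (ZMod (2 * n)) →* Fˣ)
    (hzn : ((z (Multiplicative.ofAdd (n : ZMod (2 * n))) : Fˣ) : F) = -1) :
    QuaternionGroup n →* Matrix (Fin 2) (Fin 2) F where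
  toFun := repFun z
  map_one' := by
    rw [one_def]
    simp only [repFun, neg_zero, z_zero]
    exact Matrix.one_fin_two.symm
  map_mul' := by
    have h1 : ((z (Multiplicative.ofAdd (-(n : ZMod (2 * n)))) : Fˣ) : F) = -1 := by
      have := z_neg_mul z (n : ZMod (2 * n))
      rw [hzn] at this
      linear_combination -this
    rintro (i | i) (j | j)
    · simp only [a_mul_a, repFun]
      rw [Matrix.mul_fin_two]
      simp only [neg_add, z_add]
      ext r c; fin_cases r <;> fin_cases c <;> simp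
    · simp only [a_mul_xa, repFun]
      rw [Matrix.mul_fin_two]
      simp only [sub_eq_add_neg, neg_add, neg_neg, z_add]
      ext r c; fin_cases r <;> fin_cases c <;> simp <;> ring
    · simp only [xa_mul_a, repFun]
      rw [Matrix.mul_fin_two]
      simp only [neg_add, z_add]
      ext r c; fin_cases r <;> fin_cases c <;> simp
    · simp only [xa_mul_xa, repFun]
      rw [Matrix.mul_fin_two]
      simp only [sub_eq_add_neg, neg_add, neg_neg, z_add, hzn, h1]
      ext r c; fin_cases r <;> fin_cases c <;> simp <;> ring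


theorem diag_fpf (s t w x y v : F) (hs : s ≠ 1) (ht : t ≠ 1)
    (h : !![s, 0; 0, t] * !![w, x; y, v] = !![w, x; y, v]) :
    w = 0 ∧ x = 0 ∧ y = 0 ∧ v = 0 := by
  rw [Matrix.mul_fin_two] at h
  have e00 : s * w = w := by simpa using congrFun (congrFun h 0) 0
  have e01 : s * x = x := by simpa using congrFun (congrFun h 0) 1
  have e10 : t * y = y := by simpa using congrFun (congrFun h 1) 0
  have e11 : t * v = v := by simpa using congrFun (congrFun h 1) 1
  have key : ∀ r u : F, r ≠ 1 → r * u = u → u = 0 := by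
    intro r u hr hu
    have : (r - 1) * u = 0 := by rw [sub_mul, one_mul, hu, sub_self]
    rcases mul_eq_zero.mp this with h | h
    · exact absurd (sub_eq_zero.mp h) hr
    · exact h
  exact ⟨key s w hs e00, key s x hs e01, key t y ht e10, key t v ht e11⟩

theorem anti_fpf (s t w x y v : F) (hst : t * s = 1) (h2 : (2 : F) ≠ 0)
    (h : !![0, t; -s, 0] * !![w, x; y, v] = !![w, x; y, v]) :
    w = 0 ∧ x = 0 ∧ y = 0 ∧ v = 0 := by
  rw [Matrix.mul_fin_two] at h
  have e00 : t * y = w := by simpa using congrFun (congrFun h 0) 0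
  have e01 : t * v = x := by simpa using congrFun (congrFun h 0) 1
  have e10 : -(s * w) = y := by simpa using congrFun (congrFun h 1) 0
  have e11 : -(s * x) = v := by simpa using congrFun (congrFun h 1) 1
  have key : ∀ u : F, u = -u → u = 0 := by
    intro u hu
    have : (2 : F) * u = 0 := by linear_combination hu
    rcases mul_eq_zero.mp this with h | h
    · exact absurd h h2
    · exact h
  have hw : w = 0 := by
    apply key
    calc w = t * y := e00.symm
      _ = t * (-(s * w)) := by rw [e10]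
      _ = -((t * s) * w) := by ring
      _ = -w := by rw [hst, one_mul]
  have hx : x = 0 := by
    apply key
    calc x = t * v := e01.symm
      _ = t * (-(s * x)) := by rw [e11]
      _ = -((t * s) * x) := by ring
      _ = -x := by rw [hst, one_mul]
  refine ⟨hw, hx, ?_, ?_⟩
  · rw [← e10, hw, mul_zero, neg_zero]
  · rw [← e11, hx, mul_zero, neg_zero]

theorem rep_fpf (z : Multiplicative (ZMod (2 * n)) →* Fˣ) (hz : Function.Injective z)
    (hzn : ((z (Multiplicative.ofAdd (n : ZMod (2 * n))) : Fˣ) : F) = -1) (h2 : (2 : F) ≠ 0)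
    (c : QuaternionGroup n) (hc : c ≠ 1) (M : Matrix (Fin 2) (Fin 2) F)
    (hM : rep z hzn c * M = M) : M = 0 := by
  have hne : ∀ i : ZMod (2 * n), i ≠ 0 → ((z (Multiplicative.ofAdd i) : Fˣ) : F) ≠ 1 := by
    intro i hi h
    apply hi
    have h1 : z (Multiplicative.ofAdd i) = 1 := Units.ext h
    have h3 : Multiplicative.ofAdd i = 1 := hz (h1.trans (map_one z).symm)
    exact h3
  obtain ⟨w, x, y, v, rfl⟩ : ∃ w x y v, M = !![w, x; y, v] :=
    ⟨_, _, _, _, Matrix.eta_fin_two M⟩
  suffices hall : w = 0 ∧ x = 0 ∧ y = 0 ∧ v = 0 by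
    obtain ⟨rfl, rfl, rfl, rfl⟩ := hall
    ext r c; fin_cases r <;> fin_cases c <;> rfl
  rcases c with i | i
  · have hi : i ≠ 0 := by
      rintro rfl; exact hc rfl
    have hi' : -i ≠ 0 := neg_ne_zero.mpr hi
    exact diag_fpf _ _ w x y v (hne i hi) (hne (-i) hi') hM
  · exact anti_fpf _ _ w x y v (z_neg_mul z i) h2 hM

/-- For every n ≥ 2 the dicyclic group of order 4n (generated by an element a of order 2n and an element x with x² = aⁿ and x a x⁻¹ = a⁻¹) occurs as a Frobenius complement of some finite Frobenius group. -/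
theorem result (n : ℕ) (hn : 2 ≤ n) :
    ∃ (L : Type) (_ : Group L) (_ : Finite L) (H : Subgroup L), Cfsg.IsFrobeniusComplement H ∧ Nonempty (H ≃* QuaternionGroup n) := by
  have hn0 : NeZero n := ⟨by omega⟩
  have h2n0 : NeZero (2 * n) := ⟨by omega⟩
  obtain ⟨p, hp, hp2, hmod⟩ := Nat.exists_prime_gt_modEq_one (k := 2 * n) 2 (by omega)
  have : Fact p.Prime := ⟨hp⟩
  have hcard : Nat.card (Multiplicative (ZMod (2 * n))) = 2 * n := by
    rw [Nat.card_eq_fintype_card, Fintype.card_multiplicative, ZMod.card]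
  have hdvd : Nat.card (Multiplicative (ZMod (2 * n))) ∣ p - 1 := by
    rw [hcard]; exact (Nat.modEq_iff_dvd' hp.one_le).mp hmod.symm
  obtain ⟨z, hz⟩ := Cfsg.Agent.S4299.exists_injective_hom (C := Multiplicative (ZMod (2 * n))) p hdvd
  -- z n = -1
  have hnn : (n : ZMod (2 * n)) ≠ 0 := by
    rw [Ne, ZMod.natCast_eq_zero_iff]
    intro h
    have := Nat.le_of_dvd (by omega) h
    omega
  have hzn : ((z (Multiplicative.ofAdd (n : ZMod (2 * n))) : (ZMod p)ˣ) : ZMod p) = -1 := by
    have hsq : ((z (Multiplicative.ofAdd (n : ZMod (2 * n))) : (ZMod p)ˣ) : ZMod p) *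
        ((z (Multiplicative.ofAdd (n : ZMod (2 * n))) : (ZMod p)ˣ) : ZMod p) = 1 := by
      rw [← z_add, ← z_zero z]
      congr 3
      have : ((n : ZMod (2 * n)) + n) = ((2 * n : ℕ) : ZMod (2 * n)) := by push_cast; ring
      rw [this, ZMod.natCast_self]
    rcases mul_self_eq_one_iff.mp hsq with h | h
    · exfalso
      apply hnn
      have h1 : z (Multiplicative.ofAdd (n : ZMod (2 * n))) = 1 := Units.ext h
      exact hz (h1.trans (map_one z).symm)
    · exact h
  have h2 : (2 : ZMod p) ≠ 0 := by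
    intro h
    have h3 : ((2 : ℕ) : ZMod p) = 0 := by exact_mod_cast h
    rw [ZMod.natCast_eq_zero_iff] at h3
    have := Nat.le_of_dvd (by omega) h3
    omega
  obtain ⟨L, hL1, hL2, H, hH, ⟨hiso⟩, _⟩ :=
    exists_frobenius_of_units_hom (C := QuaternionGroup n) (A := Matrix (Fin 2) (Fin 2) (ZMod p))
      (rep z hzn).toHomUnits (by
        intro c hc M hM
        exact rep_fpf z hz hzn h2 c hc M hM)
  exact ⟨L, hL1, hL2, H, hH, ⟨hiso.symm⟩⟩

end Cfsg.Agent.S4297
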