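import Cfsg.Statements.S4298
import Cfsg.Agent.Lib.Helper71_Frobenius

set_option autoImplicit false
open Cfsg

namespace Cfsg.Agent.S4298

open Cfsg.Agent.Lib.Helper71_Frobenius

/-- quadruples of entries of a 2x2 matrix over `ZMod 5`. -/
abbrev Q := ZMod 5 × ZMod 5 × ZMod 5 × ZMod 5

/-- the table of an embedding of SL(2,3) into SL(2,5), indexed by the entries in base 3. -/
def tblList : List Q :=
  [
    (1, 0, 0, 1), (1, 0, 0, 1), (1, 0, 0, 1), (1, 0, 0, 1), (1, 0, 0, 1), (1, 0, 0, 1), (1, 0, 0, 1), (1, 0, 0, 1), (1, 0, 0, 1),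
    (1, 0, 0, 1), (1, 0, 0, 1), (1, 0, 0, 1), (1, 0, 0, 1), (1, 0, 0, 1), (1, 0, 0, 1), (0, 4, 1, 0), (2, 4, 3, 4), (3, 2, 1, 1),
    (1, 0, 0, 1), (1, 0, 0, 1), (1, 0, 0, 1), (0, 1, 4, 0), (2, 3, 4, 4), (3, 1, 2, 1), (1, 0, 0, 1), (1, 0, 0, 1), (1, 0, 0, 1),
    (1, 0, 0, 1), (1, 0, 0, 1), (1, 0, 0, 1), (1, 0, 0, 1), (1, 2, 1, 3), (1, 0, 0, 1), (1, 0, 0, 1), (3, 3, 4, 1), (1, 0, 0, 1),
    (1, 0, 0, 1), (1, 1, 2, 3), (1, 0, 0, 1), (1, 0, 0, 1), (1, 0, 0, 1), (0, 2, 2, 0), (4, 2, 1, 2), (1, 0, 0, 1), (1, 0, 0, 1),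
    (1, 0, 0, 1), (3, 4, 3, 1), (1, 0, 0, 1), (4, 1, 2, 2), (1, 0, 0, 1), (1, 0, 0, 1), (1, 0, 0, 1), (1, 0, 0, 1), (3, 0, 0, 2),
    (1, 0, 0, 1), (1, 0, 0, 1), (4, 0, 0, 4), (1, 0, 0, 1), (1, 0, 0, 1), (2, 2, 1, 4), (1, 0, 0, 1), (1, 0, 0, 1), (4, 3, 4, 2),
    (1, 0, 0, 1), (1, 0, 0, 1), (2, 1, 2, 4), (1, 0, 0, 1), (2, 0, 0, 3), (1, 0, 0, 1), (1, 4, 3, 3), (1, 0, 0, 1), (1, 0, 0, 1),
    (1, 0, 0, 1), (1, 0, 0, 1), (4, 4, 3, 2), (1, 3, 4, 3), (1, 0, 0, 1), (1, 0, 0, 1), (1, 0, 0, 1), (0, 3, 3, 0), (1, 0, 0, 1)]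

def tbl (w x y v : ZMod 3) : Q :=
  tblList.getD (27 * w.val + 9 * x.val + 3 * y.val + v.val) (1, 0, 0, 1)

def qmul (a b : Q) : Q :=
  (a.1 * b.1 + a.2.1 * b.2.2.1, a.1 * b.2.1 + a.2.1 * b.2.2.2,
    a.2.2.1 * b.1 + a.2.2.2 * b.2.2.1, a.2.2.1 * b.2.1 + a.2.2.2 * b.2.2.2)

def toMat (a : Q) : Matrix (Fin 2) (Fin 2) (ZMod 5) := !![a.1, a.2.1; a.2.2.1, a.2.2.2]

theorem toMat_qmul (a b : Q) : toMat (qmul a b) = toMat a * toMat b := by
  simp only [toMat, qmul]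
  rw [Matrix.mul_fin_two]

set_option maxRecDepth 100000 in
theorem tbl_mul : ∀ w x y v w' x' y' v' : ZMod 3, w * v - x * y = 1 → w' * v' - x' * y' = 1 →
    tbl (w * w' + x * y') (w * x' + x * v') (y * w' + v * y') (y * x' + v * v') =
      qmul (tbl w x y v) (tbl w' x' y' v') := by
  decide +kernel


set_option maxRecDepth 100000 in
theorem tbl_fpf : ∀ w x y v : ZMod 3, w * v - x * y = 1 → ¬ (w = 1 ∧ x = 0 ∧ y = 0 ∧ v = 1) →
    ((tbl w x y v).1 - 1) * ((tbl w x y v).2.2.2 - 1) - (tbl w x y v).2.1 * (tbl w x y v).2.2.1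
      ≠ 0 := by
  decide +kernel

theorem tbl_one : tbl 1 0 0 1 = (1, 0, 0, 1) := by decide +kernel

abbrev SL23 := Matrix.SpecialLinearGroup (Fin 2) (ZMod 3)

theorem det_cond (a : SL23) : a 0 0 * a 1 1 - a 0 1 * a 1 0 = 1 := by
  have := a.2
  rwa [Matrix.det_fin_two] at this

def repFun (a : SL23) : Matrix (Fin 2) (Fin 2) (ZMod 5) :=
  toMat (tbl (a 0 0) (a 0 1) (a 1 0) (a 1 1))

def rep : SL23 →* Matrix (Fin 2) (Fin 2) (ZMod 5) where
  toFun := repFun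
  map_one' := by
    simp only [repFun, Matrix.SpecialLinearGroup.coe_one, Matrix.one_apply_eq, ne_eq,
      zero_ne_one, not_false_eq_true, Matrix.one_apply_ne, one_ne_zero]
    rw [tbl_one]
    simp only [toMat]
    exact Matrix.one_fin_two.symm
  map_mul' := by
    intro a b
    simp only [repFun]
    rw [← toMat_qmul, ← tbl_mul _ _ _ _ _ _ _ _ (det_cond a) (det_cond b)]
    simp only [Matrix.SpecialLinearGroup.coe_mul, Matrix.mul_apply, Fin.sum_univ_two]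

theorem rep_fpf (c : SL23) (hc : c ≠ 1) (M : Matrix (Fin 2) (Fin 2) (ZMod 5))
    (hM : rep c * M = M) : M = 0 := by
  have hne : ¬ (c 0 0 = 1 ∧ c 0 1 = 0 ∧ c 1 0 = 0 ∧ c 1 1 = 1) := by
    rintro ⟨h00, h01, h10, h11⟩
    apply hc
    ext i j
    fin_cases i <;> fin_cases j <;> simp [h00, h01, h10, h11]
  have hdet := tbl_fpf _ _ _ _ (det_cond c) hne
  set q := tbl (c 0 0) (c 0 1) (c 1 0) (c 1 1) with hq
  have hrep : rep c = toMat q := rfl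
  have hdet' : (toMat q - 1).det ≠ 0 := by
    rw [Matrix.det_fin_two]
    simp only [toMat, Matrix.sub_apply, Matrix.of_apply, Matrix.cons_val', Matrix.cons_val_zero,
      Matrix.cons_val_one, Matrix.one_apply_eq, Matrix.one_apply_ne, ne_eq, zero_ne_one,
      one_ne_zero, not_false_eq_true, sub_zero]
    simpa using hdet
  have hp5 : Fact (Nat.Prime 5) := ⟨by norm_num⟩
  have hunit : IsUnit (toMat q - 1) :=
    (Matrix.isUnit_iff_isUnit_det _).mpr (isUnit_iff_ne_zero.mpr hdet')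
  have h0 : (toMat q - 1) * M = 0 := by
    rw [sub_mul, one_mul, ← hrep, hM, sub_self]
  exact (hunit.mul_right_eq_zero).mp h0

/-- The group SL(2,3) of order 24 (the binary tetrahedral group) occurs as a Frobenius complement of some finite Frobenius group. -/
theorem result :
    ∃ (L : Type) (_ : Group L) (_ : Finite L) (H : Subgroup L), Cfsg.IsFrobeniusComplement H ∧ Nonempty (H ≃* Matrix.SpecialLinearGroup (Fin 2) (ZMod 3)) := by
  have hnt : Nontrivial SL23 := by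
    refine ⟨⟨1, ⟨!![1, 1; 0, 1], by rw [Matrix.det_fin_two]; decide⟩, ?_⟩⟩
    intro h
    have := congrArg (fun a : SL23 => a 0 1) h
    simp at this
  have hfin : Finite SL23 := Subtype.finite
  have hp5 : Fact (Nat.Prime 5) := ⟨by norm_num⟩
  obtain ⟨L, hL1, hL2, H, hH, ⟨hiso⟩, _⟩ :=
    exists_frobenius_of_units_hom (C := SL23) (A := Matrix (Fin 2) (Fin 2) (ZMod 5))
      rep.toHomUnits (by
        intro c hc M hM
        exact rep_fpf c hc M hM)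
  exact ⟨L, hL1, hL2, H, hH, ⟨hiso.symm⟩⟩

end Cfsg.Agent.S4298
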