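import Cfsg.Statements.S4300

set_option autoImplicit false
open Cfsg

namespace Cfsg.Agent.S4300

/-- Let G act faithfully and primitively on a set X, and suppose the stabilizer of some point is a simple group. Then either G is simple, or G has a normal subgroup, neither trivial nor the whole group, that acts regularly on X (transitively with trivial point stabilizers). -/
theorem result {G : Type*} [Group G] {X : Type*} [MulAction G X] [FaithfulSMul G X]
    (hprim : MulAction.IsPreprimitive G X) (x : X) (hsimple : IsSimpleGroup (MulAction.stabilizer G x)) :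
    IsSimpleGroup G ∨ ∃ N : Subgroup G, N.Normal ∧ N ≠ ⊥ ∧ N ≠ ⊤ ∧
      MulAction.IsPretransitive N X ∧ ∀ y : X, MulAction.stabilizer N y = ⊥ := by
  classical
  set H := MulAction.stabilizer G x with hH
  have hHnt : Nontrivial H := hsimple.toNontrivial
  have hGnt : Nontrivial G := by
    obtain ⟨a, b, hab⟩ := hHnt
    exact ⟨⟨a, b, fun h => hab (Subtype.ext h)⟩⟩
  have hXnt : Nontrivial X := by
    by_contra hX
    rw [not_nontrivial_iff_subsingleton] at hX
    obtain ⟨a, b, hab⟩ := hGnt
    exact hab (FaithfulSMul.eq_of_smul_eq_smul (α := X) fun y => Subsingleton.elim _ _)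
  by_cases hG : IsSimpleGroup G
  · exact Or.inl hG
  right
  have hex : ∃ N : Subgroup G, N.Normal ∧ N ≠ ⊥ ∧ N ≠ ⊤ := by
    by_contra hno
    apply hG
    refine { toNontrivial := hGnt, eq_bot_or_eq_top_of_normal := ?_ }
    intro N hN
    by_contra h
    rw [not_or] at h
    exact hno ⟨N, hN, h.1, h.2⟩
  obtain ⟨N, hNn, hNbot, hNtop⟩ := hex
  have hNfix : MulAction.fixedPoints N X ≠ Set.univ := by
    intro hfix
    apply hNbot
    rw [eq_bot_iff]
    intro n hn
    rw [Subgroup.mem_bot]
    apply FaithfulSMul.eq_of_smul_eq_smul (α := X)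
    intro y
    have hy : y ∈ MulAction.fixedPoints N X := hfix ▸ Set.mem_univ y
    rw [one_smul]
    exact hy ⟨n, hn⟩
  have hNtrans : MulAction.IsPretransitive N X :=
    MulAction.IsQuasiPreprimitive.isPretransitive_of_normal hNfix
  refine ⟨N, hNn, hNbot, hNtop, hNtrans, ?_⟩
  -- the intersection of `N` with the stabilizer is normal in the stabilizer
  have hKn : (N.subgroupOf H).Normal := Subgroup.normal_subgroupOf
  have hdisj : N ⊓ H = ⊥ := by
    rcases hsimple.eq_bot_or_eq_top_of_normal _ hKn with hK | hK
    · rw [Subgroup.subgroupOf_eq_bot] at hK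
      exact hK.eq_bot
    · exfalso
      rw [Subgroup.subgroupOf_eq_top] at hK
      -- every point equals x
      have hall : ∀ y : X, y = x := by
        intro y
        obtain ⟨n, hn⟩ := hNtrans.exists_smul_eq x y
        have hn' : (n : G) ∈ H := by
          have hco : IsCoatom H := MulAction.IsPreprimitive.isCoatom_stabilizer_of_isPreprimitive G x
          by_contra hnH
          have hlt : H < N := lt_of_le_of_ne hK (fun h => hnH (h ▸ n.2))
          exact hNtop (hco.2 _ hlt)
        rw [← hn]
        exact hn'
      obtain ⟨a, b, hab⟩ := hXnt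
      exact hab ((hall a).trans (hall b).symm)
  intro y
  rw [eq_bot_iff]
  rintro ⟨n, hn⟩ hny
  rw [MulAction.mem_stabilizer_iff] at hny
  have hny' : n • y = y := hny
  rw [Subgroup.mem_bot]
  apply Subtype.ext
  change n = 1
  obtain ⟨g, hg⟩ := MulAction.exists_smul_eq G x y
  have hmem : g⁻¹ * n * g ∈ N ⊓ H := by
    refine Subgroup.mem_inf.mpr ⟨?_, ?_⟩
    · have := hNn.conj_mem n hn g⁻¹
      simpa using this
    · rw [hH, MulAction.mem_stabilizer_iff, mul_smul, mul_smul, hg, hny', ← hg, inv_smul_smul]
  rw [hdisj, Subgroup.mem_bot] at hmem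
  have : n = g * (g⁻¹ * n * g) * g⁻¹ := by group
  rw [this, hmem]; group

end Cfsg.Agent.S4300
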