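import Cfsg.Statements.S4301

set_option autoImplicit false
open Cfsg

namespace Cfsg.Agent.S4301

variable {X : Type*}

/-- from `k`-transitivity on `X` (with `k ≥ 2`) we get `2`-transitivity. -/
lemma two_trans (G : Subgroup (Equiv.Perm (Option X))) (k : ℕ) (hk : 2 ≤ k)
    (hkX : Nonempty (Fin k ↪ X))
    (htrans : ∀ a b : Fin k ↪ X, ∃ f ∈ G, ∀ i, f (some (a i)) = some (b i))
    (p1 p2 q1 q2 : X) (hp : p1 ≠ p2) (hq : q1 ≠ q2) :
    ∃ f ∈ G, f (some p1) = some q1 ∧ f (some p2) = some q2 := by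
  have hcard : (k : ℕ∞) ≤ ENat.card X := by
    obtain ⟨e⟩ := hkX
    have := ENat.card_le_card_of_injective e.injective
    simpa using this
  have hsurj := Fin.Embedding.restrictSurjective_of_le_ENatCard hk hcard
  have hinj : ∀ u v : X, u ≠ v → Function.Injective ![u, v] := by
    intro u v huv i j hij
    fin_cases i <;> fin_cases j <;> simp_all
  obtain ⟨a, ha⟩ := hsurj ⟨![p1, p2], hinj p1 p2 hp⟩
  obtain ⟨b, hb⟩ := hsurj ⟨![q1, q2], hinj q1 q2 hq⟩
  obtain ⟨f, hf, hfab⟩ := htrans a b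
  refine ⟨f, hf, ?_, ?_⟩
  · have h1 := congrArg (fun e : Fin 2 ↪ X => e 0) ha
    have h2 := congrArg (fun e : Fin 2 ↪ X => e 0) hb
    simp only [Function.Embedding.trans_apply, Function.Embedding.coeFn_mk,
      Matrix.cons_val_zero] at h1 h2
    rw [← h1, ← h2]
    exact hfab _
  · have h1 := congrArg (fun e : Fin 2 ↪ X => e 1) ha
    have h2 := congrArg (fun e : Fin 2 ↪ X => e 1) hb
    simp only [Function.Embedding.trans_apply, Function.Embedding.coeFn_mk,
      Matrix.cons_val_one, Matrix.cons_val_zero] at h1 h2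
    rw [← h1, ← h2]
    exact hfab _


/-- membership in `G ∪ G h G`. -/
def InK (G : Subgroup (Equiv.Perm (Option X))) (h f : Equiv.Perm (Option X)) : Prop :=
  f ∈ G ∨ ∃ a ∈ G, ∃ b ∈ G, f = a * h * b

/-- an embedding `Fin (k+1) ↪ Option X` starting at `none` comes from an embedding into `X`. -/
lemma exists_tail {k : ℕ} (a : Fin (k + 1) ↪ Option X) (ha : a 0 = none) :
    ∃ a' : Fin k ↪ X, ∀ i : Fin k, a i.succ = some (a' i) := by
  have hne : ∀ i : Fin k, ∃ w, a i.succ = some w := by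
    intro i
    have : a i.succ ≠ none := by
      intro hh
      rw [← ha] at hh
      exact Fin.succ_ne_zero i (a.injective hh)
    exact Option.ne_none_iff_exists'.mp this
  choose w hw using hne
  refine ⟨⟨w, ?_⟩, hw⟩
  intro i j hij
  have : a i.succ = a j.succ := by rw [hw, hw, hij]
  exact Fin.succ_injective _ (a.injective this)

theorem result {X : Type*} (G : Subgroup (Equiv.Perm (Option X))) (hfix : ∀ f ∈ G, f none = none)
    (k : ℕ) (hk : 2 ≤ k) (hkX : Nonempty (Fin k ↪ X))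
    (htrans : ∀ a b : Fin k ↪ X, ∃ f ∈ G, ∀ i, f (some (a i)) = some (b i))
    (h g : Equiv.Perm (Option X)) (hg : g ∈ G) (x y : X)
    (h1 : h none = some x) (h2 : h (some x) = none) (h3 : h (some y) = some y)
    (h4 : g (some x) = some y) (h5 : g (some y) = some x)
    (h6 : (g * h) ^ 3 ∈ G) (h7 : h ^ 2 ∈ G)
    (h8 : ∀ f ∈ G, f (some x) = some x → h * f * h ∈ G ∧ (h * f * h) (some x) = some x) :
    (∀ f ∈ Subgroup.closure ((G : Set (Equiv.Perm (Option X))) ∪ {h}), f none = none ↔ f ∈ G) ∧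
      MulAction.IsMultiplyPretransitive (Subgroup.closure ((G : Set (Equiv.Perm (Option X))) ∪ {h})) (Option X) (k + 1) := by
  classical
  have tt := two_trans G k hk hkX htrans
  have hxy : x ≠ y := by
    intro e
    subst e
    rw [h2] at h3
    exact Option.some_ne_none _ h3.symm
  have hsq : h ^ 2 = h * h := sq h
  have hh2x : (h ^ 2) (some x) = some x := by
    rw [hsq, Equiv.Perm.mul_apply, h2, h1]
  have htinv : (h ^ 2)⁻¹ ∈ G := G.inv_mem h7
  have htinvx : (h ^ 2)⁻¹ (some x) = some x := by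
    rw [Equiv.Perm.inv_eq_iff_eq]; exact hh2x.symm
  -- F3
  have h6' : g * h * (g * h) * (g * h) ∈ G := by
    have : (g * h) ^ 3 = g * h * (g * h) * (g * h) := by rw [pow_succ, pow_succ, pow_one]
    rwa [this] at h6
  obtain ⟨c, hc⟩ : ∃ c, c = g * h * (g * h) * (g * h) := ⟨_, rfl⟩
  rw [← hc] at h6'
  obtain ⟨t, ht⟩ : ∃ t, t = (h * h)⁻¹ := ⟨_, rfl⟩
  have htinv' : t ∈ G := by rw [ht, ← hsq]; exact htinv
  have F3 : h * g * h = (g⁻¹ * c * t) * h * g⁻¹ := by rw [hc, ht]; group
  -- F4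
  have F4 : ∀ f ∈ G, f (some x) = some x ∨
      ∃ a ∈ G, a (some x) = some x ∧ ∃ b ∈ G, b (some x) = some x ∧ f = a * g * b := by
    intro f hf
    by_cases hfx : f (some x) = some x
    · exact Or.inl hfx
    · right
      have hne : f (some x) ≠ none := by
        intro hh
        rw [← hfix f hf] at hh
        exact Option.some_ne_none _ (f.injective hh)
      obtain ⟨z, hz⟩ := Option.ne_none_iff_exists'.mp hne
      have hzx : x ≠ z := by
        intro e
        apply hfx
        rw [hz, e]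
      obtain ⟨a, ha, hax, hay⟩ := tt x y x z hxy hzx
      refine ⟨a, ha, hax, g⁻¹ * a⁻¹ * f, G.mul_mem (G.mul_mem (G.inv_mem hg) (G.inv_mem ha)) hf,
        ?_, by group⟩
      rw [Equiv.Perm.mul_apply, Equiv.Perm.mul_apply, hz, Equiv.Perm.inv_eq_iff_eq,
        Equiv.Perm.inv_eq_iff_eq, h4, hay]
  -- F5
  have F5 : ∀ f ∈ G, InK G h (h * f * h) := by
    intro f hf
    rcases F4 f hf with hfx | ⟨a, ha, hax, b, hb, hbx, rfl⟩
    · exact Or.inl (h8 f hf hfx).1
    · right
      refine ⟨(h * a * h * t) * (g⁻¹ * c * t),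
        G.mul_mem (G.mul_mem (h8 a ha hax).1 htinv')
          (G.mul_mem (G.mul_mem (G.inv_mem hg) h6') htinv'),
        g⁻¹ * (t * (h * b * h)),
        G.mul_mem (G.inv_mem hg) (G.mul_mem htinv' (h8 b hb hbx).1), ?_⟩
      calc h * (a * g * b) * h = (h * a * h * t) * (h * g * h) * (t * (h * b * h)) := by
            rw [ht]; group
        _ = (h * a * h * t) * ((g⁻¹ * c * t) * h * g⁻¹) * (t * (h * b * h)) := by rw [F3]
        _ = (h * a * h * t) * (g⁻¹ * c * t) * h * (g⁻¹ * (t * (h * b * h))) := by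
            simp only [mul_assoc]
  -- K is closed under multiplication
  have Kmul : ∀ f1 f2, InK G h f1 → InK G h f2 → InK G h (f1 * f2) := by
    rintro f1 f2 (hf1 | ⟨a, ha, b, hb, rfl⟩) (hf2 | ⟨a', ha', b', hb', rfl⟩)
    · exact Or.inl (G.mul_mem hf1 hf2)
    · exact Or.inr ⟨f1 * a', G.mul_mem hf1 ha', b', hb', by group⟩
    · exact Or.inr ⟨a, ha, b * f2, G.mul_mem hb hf2, by group⟩
    · rcases F5 (b * a') (G.mul_mem hb ha') with hm | ⟨u, hu, v, hv, huv⟩
      · left
        have : a * h * b * (a' * h * b') = a * (h * (b * a') * h) * b' := by group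
        rw [this]
        exact G.mul_mem (G.mul_mem ha hm) hb'
      · right
        refine ⟨a * u, G.mul_mem ha hu, v * b', G.mul_mem hv hb', ?_⟩
        have : a * h * b * (a' * h * b') = a * (h * (b * a') * h) * b' := by group
        rw [this, huv]
        group
  have Kinv : ∀ f, InK G h f → InK G h f⁻¹ := by
    rintro f (hf | ⟨a, ha, b, hb, rfl⟩)
    · exact Or.inl (G.inv_mem hf)
    · right
      refine ⟨b⁻¹ * t, G.mul_mem (G.inv_mem hb) htinv', a⁻¹, G.inv_mem ha, ?_⟩
      rw [ht]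
      group
  let K : Subgroup (Equiv.Perm (Option X)) :=
    { carrier := {f | InK G h f}
      one_mem' := Or.inl G.one_mem
      mul_mem' := fun {a b} ha hb => Kmul a b ha hb
      inv_mem' := fun {a} ha => Kinv a ha }
  have hCK : Subgroup.closure ((G : Set (Equiv.Perm (Option X))) ∪ {h}) ≤ K := by
    rw [Subgroup.closure_le]
    rintro f (hf | hf)
    · exact Or.inl hf
    · rw [Set.mem_singleton_iff] at hf
      subst hf
      exact Or.inr ⟨1, G.one_mem, 1, G.one_mem, by group⟩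
  have hGC : ∀ f ∈ G, f ∈ Subgroup.closure ((G : Set (Equiv.Perm (Option X))) ∪ {h}) :=
    fun f hf => Subgroup.subset_closure (Or.inl hf)
  have hhC : h ∈ Subgroup.closure ((G : Set (Equiv.Perm (Option X))) ∪ {h}) :=
    Subgroup.subset_closure (Or.inr rfl)
  refine ⟨?_, ?_⟩
  · intro f hf
    refine ⟨fun hfn => ?_, hfix f⟩
    rcases hCK hf with hfG | ⟨a, ha, b, hb, rfl⟩
    · exact hfG
    · exfalso
      rw [Equiv.Perm.mul_apply, Equiv.Perm.mul_apply, hfix b hb, h1] at hfn
      rw [← hfix a ha] at hfn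
      exact Option.some_ne_none _ (a.injective hfn)
  · -- Step A
    have stepA : ∀ z : Option X,
        ∃ f ∈ Subgroup.closure ((G : Set (Equiv.Perm (Option X))) ∪ {h}), f z = none := by
      intro z
      rcases z with _ | w
      · exact ⟨1, Subgroup.one_mem _, rfl⟩
      · by_cases hwx : w = x
        · subst hwx
          exact ⟨h, hhC, h2⟩
        · obtain ⟨u, hu, hu1, -⟩ := tt w x x w hwx (Ne.symm hwx)
          refine ⟨h * u, Subgroup.mul_mem _ hhC (hGC u hu), ?_⟩
          rw [Equiv.Perm.mul_apply, hu1, h2]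
    -- Step C
    have stepC : ∀ a b : Fin (k + 1) ↪ Option X, a 0 = none → b 0 = none →
        ∃ f ∈ G, ∀ i, f (a i) = b i := by
      intro a b ha hb
      obtain ⟨a', ha'⟩ := exists_tail a ha
      obtain ⟨b', hb'⟩ := exists_tail b hb
      obtain ⟨f, hf, hfab⟩ := htrans a' b'
      refine ⟨f, hf, ?_⟩
      intro i
      induction i using Fin.cases with
      | zero => rw [ha, hb, hfix f hf]
      | succ i => rw [ha', hb', hfab]
    refine ⟨fun a b => ?_⟩
    obtain ⟨fa, hfa, hfa0⟩ := stepA (a 0)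
    obtain ⟨fb, hfb, hfb0⟩ := stepA (b 0)
    obtain ⟨f, hf, hfab⟩ := stepC (fa • a) (fb • b) (by simpa using hfa0) (by simpa using hfb0)
    refine ⟨⟨fb⁻¹ * f * fa, Subgroup.mul_mem _ (Subgroup.mul_mem _ (Subgroup.inv_mem _ hfb)
      (hGC f hf)) hfa⟩, ?_⟩
    ext i : 1
    have := hfab i
    simp only [Function.Embedding.smul_apply, Equiv.Perm.smul_def] at this
    change (fb⁻¹ * f * fa) (a i) = b i
    rw [Equiv.Perm.mul_apply, Equiv.Perm.mul_apply, this, Equiv.Perm.inv_eq_iff_eq]

end Cfsg.Agent.S4301
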