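import Cfsg.Statements.S4304
import Cfsg.Agent.Lib.Helper45_SylowTwoP
import Cfsg.Agent.Lib.Helper45_SylowReduce
import Mathlib

set_option autoImplicit false
open Cfsg

namespace Cfsg.Agent.S4304

theorem not_isPrimePow_15 : ¬ IsPrimePow 15 := by
  rintro ⟨q, k, hq, hk, hqk⟩
  have hq' : q.Prime := hq.nat_prime
  have h3 : 3 ∣ q ^ k := by rw [hqk]; norm_num
  have h5 : 5 ∣ q ^ k := by rw [hqk]; norm_num
  have e3 := (Nat.prime_dvd_prime_iff_eq (by norm_num) hq').1
    ((by norm_num : Nat.Prime 3).dvd_of_dvd_pow h3)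
  have e5 := (Nat.prime_dvd_prime_iff_eq (by norm_num) hq').1
    ((by norm_num : Nat.Prime 5).dvd_of_dvd_pow h5)
  omega

theorem dvd_15 {d : ℕ} (hd : d ∣ 15) : d = 1 ∨ d = 3 ∨ d = 5 ∨ d = 15 := by
  have h1 : d ∈ Nat.divisors 15 := Nat.mem_divisors.2 ⟨hd, by norm_num⟩
  have h2 : Nat.divisors 15 = {1, 3, 5, 15} := by decide
  rw [h2] at h1
  simpa using h1

theorem dvd_6 {d : ℕ} (hd : d ∣ 6) : d = 1 ∨ d = 2 ∨ d = 3 ∨ d = 6 := by
  have h1 : d ∈ Nat.divisors 6 := Nat.mem_divisors.2 ⟨hd, by norm_num⟩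
  have h2 : Nat.divisors 6 = {1, 2, 3, 6} := by decide
  rw [h2] at h1
  simpa using h1

/-- No finite group has exactly 15 Sylow 7-subgroups. -/
theorem result {G : Type*} [Group G] [Finite G] : Nat.card (Sylow 7 G) ≠ 15 := by
  intro hn
  have h7 : Fact (Nat.Prime 7) := ⟨by norm_num⟩
  have h5F : Fact (Nat.Prime 5) := ⟨by norm_num⟩
  have hpp : ∀ d, d ∣ 15 → IsPrimePow d → d % 7 ≠ 1 := by
    intro d hd hpp
    rcases dvd_15 hd with rfl | rfl | rfl | rfl
    · exact absurd hpp not_isPrimePow_one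
    · norm_num
    · norm_num
    · exact absurd hpp not_isPrimePow_15
  have hdiv : ∀ d, d ∣ 15 → d % 7 = 1 → d = 1 ∨ d = 15 := by
    intro d hd hmod
    rcases dvd_15 hd with rfl | rfl | rfl | rfl <;> omega
  obtain ⟨S, iG, iF, hS, hnS⟩ :=
    Cfsg.Agent.Lib.Helper45_SylowReduce.exists_simple_of_card_sylow (G := G) 7 15 hn
      (by norm_num) hpp hdiv
  have hn' : Nat.card (Sylow 7 S) = 2 * 7 + 1 := hnS
  have hodd := Cfsg.Agent.Lib.Helper45_SylowTwoP.two_not_dvd_card hS (by norm_num) hn'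
  have P : Sylow 7 S := default
  obtain ⟨hcard, hd⟩ := Cfsg.Agent.Lib.Helper45_SylowTwoP.card_eq_mul hS (by norm_num) hn' P
  generalize (Subgroup.centralizer ((P : Subgroup S) : Set S)).relIndex
    (Subgroup.normalizer ((P : Subgroup S) : Set S)) = d at hcard hd
  have hd6 : d ∣ 6 := hd
  have F : Sylow 5 S := default
  -- the order is `105 * d`, odd, so `d ∈ {1, 3}`
  have key : ∀ N : ℕ, Nat.card S = N → 5 ∣ N → ¬ 5 ^ 2 ∣ N → Nat.Coprime N (5 - 1) → N ≠ 5 →
      False := by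
    intro N hN h1 h2 h3 h4
    subst hN
    have hF := Cfsg.Agent.Lib.Helper45_SylowTwoP.card_sylow_eq_prime F h1 h2
    exact h4 (Cfsg.Agent.Lib.Helper45_SylowTwoP.card_eq_of_coprime hS F hF h3)
  rcases dvd_6 hd6 with rfl | rfl | rfl | rfl
  · exact key 105 (by rw [hcard]) (by norm_num) (by norm_num) (by norm_num) (by norm_num)
  · apply hodd
    rw [hcard]
    norm_num
  · exact key 315 (by rw [hcard]) (by norm_num) (by norm_num) (by norm_num) (by norm_num)
  · apply hodd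
    rw [hcard]
    norm_num

end Cfsg.Agent.S4304
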