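import Cfsg.Statements.S4314

set_option autoImplicit false
open Cfsg

namespace Cfsg.Agent.S4314

open Subgroup
open scoped commutatorElement

section
variable {G : Type*} [Group G]

/-- `C u` is the centralizer of the element `u`. -/
abbrev C (u : G) : Subgroup G := centralizer ({u} : Set G)

theorem mem_C {u g : G} : g ∈ C u ↔ u * g = g * u := by
  rw [mem_centralizer_iff]
  simp

theorem center_le_C (u : G) : center G ≤ C u := by
  intro z hz
  rw [mem_C]
  exact (mem_center_iff.mp hz u)

theorem C_eq_top_iff {u : G} : C u = ⊤ ↔ u ∈ center G := by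
  constructor
  · intro h
    rw [mem_center_iff]
    intro g
    have hg : g ∈ C u := by rw [h]; exact mem_top g
    exact (mem_C.mp hg).symm
  · intro h
    rw [eq_top_iff]
    intro g _
    rw [mem_C]
    exact (mem_center_iff.mp h g).symm

theorem smul_eq_of_mem_core {M : Subgroup G} {k : G} (hk : k ∈ M.normalCore) (q : G ⧸ M) :
    k • q = q := by
  rw [Subgroup.normalCore_eq_ker, MonoidHom.mem_ker] at hk
  have := congrArg (fun σ : Equiv.Perm (G ⧸ M) => σ q) hk
  simpa using this

theorem mem_core_of_smul_eq {M : Subgroup G} {k : G} (hk : ∀ q : G ⧸ M, k • q = q) :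
    k ∈ M.normalCore := by
  rw [Subgroup.normalCore_eq_ker, MonoidHom.mem_ker]
  ext q
  simpa using hk q

theorem center_le_core (M : Subgroup G) (hM : center G ≤ M) : center G ≤ M.normalCore := by
  intro z hz b
  have : b * z * b⁻¹ = z := by
    have h : b * z = z * b := mem_center_iff.mp hz b
    rw [h]; group
  rw [this]
  exact hM hz

/-- an element of prime order `p` modulo the core of a subgroup `M` of index `p` acts
transitively on the cosets of `M`; so its centralizer is small -/
theorem key [Finite G] {M : Subgroup G} {p : ℕ} (hp : p.Prime) (hM : M.index = p) {g : G}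
    (hg : g ∉ M.normalCore) (hgp : g ^ p ∈ M.normalCore) :
    g ∉ M ∧ C g ≤ zpowers g ⊔ M.normalCore := by
  obtain ⟨q₁, hq₁⟩ : ∃ q₁ : G ⧸ M, g • q₁ ≠ q₁ := by
    by_contra hall
    push Not at hall
    exact hg (mem_core_of_smul_eq hall)
  have hper : MulAction.period g q₁ = p := by
    have h1 : MulAction.period g q₁ ∣ p :=
      MulAction.pow_smul_eq_iff_period_dvd.mp (smul_eq_of_mem_core hgp q₁)
    rcases (Nat.dvd_prime hp).mp h1 with h | h
    · exact absurd (MulAction.period_eq_one_iff.mp h) hq₁
    · exact h
  have haux : ∀ i j : ℕ, i ≤ j → j < p → g ^ i • q₁ = g ^ j • q₁ → i = j := by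
    intro i j hij hj h
    have e : g ^ j = g ^ i * g ^ (j - i) := by rw [← pow_add]; congr 1; omega
    rw [e, mul_smul] at h
    have h2 : g ^ (j - i) • q₁ = q₁ := (MulAction.injective (g ^ i) h).symm
    have h3 : p ∣ j - i := by
      rw [← hper]; exact MulAction.pow_smul_eq_iff_period_dvd.mp h2
    have h4 : j - i = 0 := Nat.eq_zero_of_dvd_of_lt h3 (by omega)
    omega
  have hsurj : ∀ q : G ⧸ M, ∃ i : ℕ, q = g ^ i • q₁ := by
    let f : Fin p → G ⧸ M := fun i => g ^ (i : ℕ) • q₁
    have hinj : Function.Injective f := by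
      intro i j hij
      apply Fin.ext
      rcases le_total (i : ℕ) (j : ℕ) with hle | hle
      · exact haux i j hle j.2 hij
      · exact (haux j i hle i.2 hij.symm).symm
    have hcard : Nat.card (G ⧸ M) ≤ Nat.card (Fin p) := by
      rw [← Subgroup.index_eq_card, hM, Nat.card_eq_fintype_card, Fintype.card_fin]
    have hbij := hinj.bijective_of_nat_card_le hcard
    intro q
    obtain ⟨i, hi⟩ := hbij.2 q
    exact ⟨i, hi.symm⟩
  have hcomm : ∀ i : ℕ, g * g ^ i = g ^ i * g := fun i => by rw [← pow_succ', ← pow_succ]
  constructor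
  · intro hgM
    obtain ⟨i, hi⟩ := hsurj (QuotientGroup.mk 1)
    have h1 : g • (QuotientGroup.mk 1 : G ⧸ M) = QuotientGroup.mk 1 := by
      rw [MulAction.Quotient.smul_mk, QuotientGroup.eq]
      simpa using hgM
    rw [hi, ← mul_smul, hcomm, mul_smul] at h1
    exact hq₁ (MulAction.injective (g ^ i) h1)
  · intro c hc
    rw [mem_C] at hc
    obtain ⟨i, hi⟩ := hsurj (c • q₁)
    have hd : ((g ^ i)⁻¹ * c) ∈ M.normalCore := by
      apply mem_core_of_smul_eq
      intro q
      obtain ⟨j, rfl⟩ := hsurj q
      have hcj : c * g ^ j = g ^ j * c := by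
        have : Commute g c := hc
        exact (this.pow_left j).eq.symm
      have hgij : (g ^ i)⁻¹ * g ^ j = g ^ j * (g ^ i)⁻¹ := by
        have : Commute (g ^ j) (g ^ i) := (Commute.refl g).pow_pow j i
        exact (this.inv_right).eq.symm
      calc ((g ^ i)⁻¹ * c) • g ^ j • q₁ = ((g ^ i)⁻¹ * c * g ^ j) • q₁ := by rw [← mul_smul]
        _ = (g ^ j * (g ^ i)⁻¹ * c) • q₁ := by
            rw [mul_assoc, hcj, ← mul_assoc, hgij]
        _ = (g ^ j * (g ^ i)⁻¹) • (c • q₁) := by rw [mul_smul]
        _ = (g ^ j * (g ^ i)⁻¹) • (g ^ i • q₁) := by rw [hi]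
        _ = g ^ j • q₁ := by rw [← mul_smul]; simp
    have : c = g ^ i * ((g ^ i)⁻¹ * c) := by group
    rw [this]
    exact Subgroup.mul_mem_sup (Subgroup.pow_mem _ (mem_zpowers g) i) hd

end

section Main
variable {G : Type*} [Group G] [Finite G]
  (h : ∀ x : G, (C x).index = 1 ∨ ((C x).index).Prime)

include h in
theorem index_prime {u : G} (hu : u ∉ center G) : (C u).index.Prime := by
  rcases h u with h1 | h1
  · exfalso
    exact hu (C_eq_top_iff.mp (Subgroup.index_eq_one.mp h1))
  · exact h1

include h in
/-- centralizers of noncentral elements are maximal -/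
theorem C_eq_of_le {u : G} (hu : u ∉ center G) {T : Subgroup G} (hT : C u ≤ T) :
    T = C u ∨ T = ⊤ := by
  have hq := index_prime h hu
  have hd : T.index ∣ (C u).index := Subgroup.index_dvd_of_le hT
  rcases (Nat.dvd_prime hq).mp hd with h1 | h1
  · right
    exact Subgroup.index_eq_one.mp h1
  · left
    have h2 := Subgroup.relIndex_mul_index hT
    rw [h1] at h2
    have h3 : (C u).relIndex T = 1 := by
      have hpos : 0 < (C u).index := hq.pos
      have : (C u).relIndex T * (C u).index = 1 * (C u).index := by rw [one_mul]; exact h2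
      exact Nat.eq_of_mul_eq_mul_right hpos this
    exact le_antisymm (Subgroup.relIndex_eq_one.mp h3) hT

include h in
theorem caseA (hn : ∀ x : G, (C x).Normal) : Subgroup.upperCentralSeries G 2 = ⊤ := by
  rw [eq_top_iff]
  intro a _
  rw [Subgroup.mem_upperCentralSeries_succ_iff]
  intro b
  rw [Subgroup.upperCentralSeries_one, mem_center_iff]
  intro y
  have hmem : ⁅a, b⁆ ∈ C y := by
    by_cases hy : y ∈ center G
    · rw [C_eq_top_iff.mpr hy]; exact mem_top _
    · have hq := index_prime h hy
      have hN : (C y).Normal := hn y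
      have hcard : Nat.card (G ⧸ C y) = (C y).index := (Subgroup.index_eq_card _).symm
      have : Fact ((C y).index).Prime := ⟨hq⟩
      have hcyc : IsCyclic (G ⧸ C y) := isCyclic_of_prime_card hcard
      have hcomm : IsMulCommutative (G ⧸ C y) := ⟨⟨fun a b => hcyc.commGroup.mul_comm a b⟩⟩
      have hle := Subgroup.Normal.quotient_commutative_iff_commutator_le.mp hcomm
      apply hle
      rw [_root_.commutator_def]
      exact Subgroup.commutator_mem_commutator (mem_top a) (mem_top b)
  exact mem_C.mp hmem

include h in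
theorem caseB (x : G) (hx : ¬ (C x).Normal) :
    ∃ p q : ℕ, p.Prime ∧ q.Prime ∧ p ≠ q ∧ Nat.card (G ⧸ center G) = p * q ∧
      ¬ IsMulCommutative (G ⧸ center G) := by
  have hxz : x ∉ center G := by
    intro hxc
    apply hx
    rw [C_eq_top_iff.mpr hxc]
    infer_instance
  set M := C x with hM
  have hp : (M.index).Prime := index_prime h hxz
  set p := M.index with hpdef
  have hKM : M.normalCore ≤ M := Subgroup.normalCore_le M
  have hZK : center G ≤ M.normalCore := center_le_core M (center_le_C x)
  -- the core is a proper subgroup of `M`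
  have hKne : M.normalCore ≠ M := by
    intro he
    apply hx
    rw [← he]
    infer_instance
  -- `p` divides the index of the core
  have hpK : p ∣ M.normalCore.index := by
    rw [← Subgroup.relIndex_mul_index hKM]
    exact Dvd.intro_left _ rfl
  have : Fact p.Prime := ⟨hp⟩
  obtain ⟨γ, hγ⟩ := exists_prime_orderOf_dvd_card' (G := G ⧸ M.normalCore) p
    (by rw [← Subgroup.index_eq_card]; exact hpK)
  -- facts about any `g` of order `p` modulo the core
  have hB : ∀ g : G, orderOf (QuotientGroup.mk g : G ⧸ M.normalCore) = p →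
      g ∉ M ∧ C g = zpowers g ⊔ M.normalCore ∧ M.normalCore.index = p * (C g).index := by
    intro g hgo
    have hg : g ∉ M.normalCore := by
      intro hgK
      have : (QuotientGroup.mk g : G ⧸ M.normalCore) = 1 := (QuotientGroup.eq_one_iff g).mpr hgK
      rw [this, orderOf_one] at hgo
      exact hp.one_lt.ne hgo
    have hgp : g ^ p ∈ M.normalCore := by
      rw [← QuotientGroup.eq_one_iff, QuotientGroup.mk_pow, ← hgo]
      exact pow_orderOf_eq_one _
    obtain ⟨hgM, hle⟩ := key hp rfl hg hgp
    have hgz : g ∉ center G := fun hc => hg (hZK hc)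
    -- index computations in the quotient
    have hmap : Subgroup.comap (QuotientGroup.mk' M.normalCore)
        (zpowers (QuotientGroup.mk g : G ⧸ M.normalCore)) = zpowers g ⊔ M.normalCore := by
      have := QuotientGroup.comap_map_mk' M.normalCore (zpowers g)
      rw [MonoidHom.map_zpowers] at this
      rw [sup_comm]
      exact this
    have hidx : (zpowers g ⊔ M.normalCore).index =
        (zpowers (QuotientGroup.mk g : G ⧸ M.normalCore)).index := by
      rw [← hmap]
      exact Subgroup.index_comap_of_surjective _ (QuotientGroup.mk'_surjective _)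
    have hcardz : Nat.card (zpowers (QuotientGroup.mk g : G ⧸ M.normalCore)) = p := by
      rw [Nat.card_zpowers, hgo]
    have hmul := Subgroup.card_mul_index (zpowers (QuotientGroup.mk g : G ⧸ M.normalCore))
    rw [hcardz, ← hidx, ← Subgroup.index_eq_card] at hmul
    rcases C_eq_of_le h hgz hle with hJ | hJ
    · refine ⟨hgM, hJ.symm, ?_⟩
      rw [← hJ]
      exact hmul.symm
    · exfalso
      rw [hJ, Subgroup.index_top, mul_one] at hmul
      apply hKne
      have h2 := Subgroup.relIndex_mul_index hKM
      rw [← hmul] at h2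
      have h3 : M.normalCore.relIndex M = 1 := by
        have : M.normalCore.relIndex M * p = 1 * p := by rw [one_mul]; exact h2
        exact Nat.eq_of_mul_eq_mul_right hp.pos this
      exact le_antisymm hKM (Subgroup.relIndex_eq_one.mp h3)
  obtain ⟨g, rfl⟩ := QuotientGroup.mk_surjective γ
  obtain ⟨hgM, hCg, hidx⟩ := hB g hγ
  have hKCg : M.normalCore ≤ C g := by rw [hCg]; exact le_sup_right
  have hgz : g ∉ center G := fun hc => hgM (center_le_C x hc)
  have hq : ((C g).index).Prime := index_prime h hgz
  -- the core is abelian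
  have hKab : ∀ k ∈ M.normalCore, ∀ k' ∈ M.normalCore, k * k' = k' * k := by
    intro k hk k' hk'
    have hgk : orderOf (QuotientGroup.mk (g * k) : G ⧸ M.normalCore) = p := by
      have : (QuotientGroup.mk (g * k) : G ⧸ M.normalCore) = QuotientGroup.mk g := by
        rw [QuotientGroup.eq]
        simpa using hk
      rw [this]; exact hγ
    obtain ⟨-, hCgk, -⟩ := hB (g * k) hgk
    have h1 : k' ∈ C (g * k) := by rw [hCgk]; exact le_sup_right (a := zpowers (g * k)) hk'
    have h2 : k' ∈ C g := hKCg hk'
    rw [mem_C] at h1 h2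
    -- k' commutes with g and g*k
    have : g * (k * k') = g * (k' * k) := by
      calc g * (k * k') = (g * k) * k' := by group
        _ = k' * (g * k) := h1
        _ = (k' * g) * k := by group
        _ = (g * k') * k := by rw [h2]
        _ = g * (k' * k) := by group
    exact mul_left_cancel this
  -- `x ∉ C g`
  have hxg : x ∉ C g := by
    intro hxg
    apply hgM
    rw [hM, mem_C]
    exact (mem_C.mp hxg).symm
  -- the core is central
  have hKZ : M.normalCore ≤ center G := by
    intro k hk
    by_contra hkz
    have hle : C g ≤ C k := by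
      rw [hCg]
      apply sup_le
      · rw [Subgroup.zpowers_le, mem_C]
        exact (mem_C.mp (hKCg hk)).symm
      · intro k' hk'
        rw [mem_C]
        exact hKab k hk k' hk'
    have hxk : x ∈ C k := by
      rw [mem_C]
      exact (mem_C.mp (hKM hk)).symm
    rcases C_eq_of_le h hgz hle with hJ | hJ
    · apply hxg
      rw [← hJ]; exact hxk
    · exact hkz (C_eq_top_iff.mp hJ)
  have hKeq : M.normalCore = center G := le_antisymm hKZ hZK
  have hcard : Nat.card (G ⧸ center G) = p * (C g).index := by
    rw [← Subgroup.index_eq_card, ← hKeq]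
    exact hidx
  -- noncommutativity
  have hnc : ¬ IsMulCommutative (G ⧸ center G) := by
    intro hc
    have hle := Subgroup.Normal.quotient_commutative_iff_commutator_le.mp hc
    apply hx
    constructor
    intro m hm b
    have h1 : ⁅b, m⁆ ∈ M := by
      apply center_le_C x
      apply hle
      rw [_root_.commutator_def]
      exact Subgroup.commutator_mem_commutator (mem_top b) (mem_top m)
    have h2 : b * m * b⁻¹ = ⁅b, m⁆ * m := by
      rw [commutatorElement_def]; group
    rw [h2]
    exact Subgroup.mul_mem _ h1 hm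
  refine ⟨p, (C g).index, hp, hq, ?_, hcard, hnc⟩
  intro hpq
  apply hnc
  apply IsPGroup.isMulCommutative_of_card_eq_prime_sq (p := p)
  rw [hcard, ← hpq, sq]

end Main

theorem result {G : Type*} [Group G] [Finite G]
    (h : ∀ x : G, (Subgroup.centralizer ({x} : Set G)).index = 1 ∨ ((Subgroup.centralizer ({x} : Set G)).index).Prime) :
    Subgroup.upperCentralSeries G 2 = ⊤ ∨
      ∃ p q : ℕ, p.Prime ∧ q.Prime ∧ p ≠ q ∧ Nat.card (G ⧸ Subgroup.center G) = p * q ∧ ¬ IsMulCommutative (G ⧸ Subgroup.center G) := by
  by_cases hn : ∀ x : G, (C x).Normal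
  · left
    exact caseA h hn
  · right
    push Not at hn
    obtain ⟨x, hx⟩ := hn
    exact caseB h x hx

end Cfsg.Agent.S4314
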