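import Cfsg.Statements.S4320

set_option autoImplicit false
open Cfsg

namespace Cfsg.Agent.S4320

/-! The principal ideal theorem, by the classical determinant argument in the group ring of
`G/G'`, applied to the monomial cocycle `G → (G')^ab ^ (G/G')`. -/


open Matrix MonoidAlgebra
open scoped commutatorElement

/-- determinant trick -/
theorem det_smul_eq_zero {R U κ : Type*} [CommRing R] [AddCommGroup U] [Module R U]
    [Fintype κ] [DecidableEq κ] (M : Matrix κ κ R) (z : κ → U)
    (h : ∀ j, ∑ k, M j k • z k = 0) (l : κ) : M.det • z l = 0 := by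
  have h1 : ∀ k, (M.adjugate * M) l k = if l = k then M.det else 0 := by
    intro k
    rw [Matrix.adjugate_mul]
    simp [Matrix.smul_apply, Matrix.one_apply]
  have h2 : ∑ k, (M.adjugate * M) l k • z k = M.det • z l := by
    simp only [h1]
    simp
  rw [← h2]
  simp only [Matrix.mul_apply, Finset.sum_smul]
  rw [Finset.sum_comm]
  simp only [mul_smul]
  simp only [← Finset.smul_sum, h, smul_zero, Finset.sum_const_zero]

/-- the augmentation -/
noncomputable def aug (Q : Type*) [CommGroup Q] : MonoidAlgebra ℤ Q →+* ℤ :=
  (MonoidAlgebra.lift ℤ ℤ Q (1 : Q →* ℤ) : MonoidAlgebra ℤ Q →+* ℤ)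

theorem aug_of {Q : Type*} [CommGroup Q] (q : Q) : aug Q (MonoidAlgebra.of ℤ Q q) = 1 := by
  unfold aug
  simp

theorem aug_eq_sum {Q : Type*} [CommGroup Q] [Fintype Q] (δ : MonoidAlgebra ℤ Q) :
    aug Q δ = ∑ q : Q, δ.coeff q := by
  unfold aug
  show (MonoidAlgebra.lift ℤ ℤ Q (1 : Q →* ℤ)) δ = _
  rw [MonoidAlgebra.lift_apply]
  rw [Finsupp.sum_fintype]
  · simp
  · intro i; simp

theorem eq_norm_of {Q : Type*} [CommGroup Q] [Fintype Q] (δ : MonoidAlgebra ℤ Q)
    (hδ : ∀ q : Q, δ * MonoidAlgebra.of ℤ Q q = δ)
    (hε : aug Q δ = Fintype.card Q) :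
    δ = ∑ q : Q, MonoidAlgebra.of ℤ Q q := by
  classical
  have h1 : ∀ y : Q, δ.coeff y = δ.coeff 1 := by
    intro y
    have := congrArg (fun x : MonoidAlgebra ℤ Q => x.coeff 1) (hδ y⁻¹)
    simp only [MonoidAlgebra.of_apply, MonoidAlgebra.coeff_mul_single_apply] at this
    simpa using this
  have h2 : aug Q δ = Fintype.card Q * δ.coeff 1 := by
    rw [aug_eq_sum]
    simp only [h1]
    simp
  have hpos : (Fintype.card Q : ℤ) ≠ 0 := by
    have : 0 < Fintype.card Q := Fintype.card_pos
    exact_mod_cast this.ne'
  have h3 : δ.coeff 1 = 1 := by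
    rw [hε] at h2
    have : (Fintype.card Q : ℤ) * 1 = Fintype.card Q * δ.coeff 1 := by rw [mul_one]; exact h2
    exact (mul_left_cancel₀ hpos this).symm
  apply MonoidAlgebra.coeff_injective
  ext y
  rw [h1 y, h3, MonoidAlgebra.coeff_sum]
  simp [MonoidAlgebra.of_apply, MonoidAlgebra.coeff_single, Finsupp.single_apply]

/-- a "basis" of a finite abelian group -/
theorem exists_basis (Q : Type*) [CommGroup Q] [Finite Q] :
    ∃ (ι : Type) (_ : Fintype ι) (n : ι → ℕ) (q : ι → Q),
      (∀ i, q i ^ n i = 1) ∧ (∀ K : Subgroup Q, (∀ i, q i ∈ K) → K = ⊤) ∧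
        ∏ i, n i = Nat.card Q := by
  classical
  obtain ⟨ι, inst, n, hn, ⟨e⟩⟩ := CommGroup.equiv_prod_multiplicative_zmod_of_finite Q
  have hn0 : ∀ i, NeZero (n i) := fun i => ⟨by have := hn i; omega⟩
  refine ⟨ι, inst, n, fun i => e.symm (Pi.mulSingle i (Multiplicative.ofAdd 1)), ?_, ?_, ?_⟩
  · intro i
    rw [← map_pow, ← Pi.mulSingle_pow, ← ofAdd_nsmul]
    simp
  · intro K hK
    rw [eq_top_iff]
    intro x _
    have hx : x = e.symm (e x) := (e.symm_apply_apply x).symm
    rw [hx, ← Finset.univ_prod_mulSingle (e x), map_prod]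
    apply Subgroup.prod_mem
    intro i _
    have h1 : (e x) i = (Multiplicative.ofAdd (1 : ZMod (n i))) ^ (ZMod.val (Multiplicative.toAdd ((e x) i))) := by
      rw [← ofAdd_nsmul]
      have := hn0 i
      simp
    rw [h1, Pi.mulSingle_pow, map_pow]
    exact Subgroup.pow_mem _ (hK i) _
  · rw [Nat.card_congr e.toEquiv, Nat.card_pi]
    apply Finset.prod_congr rfl
    intro i _
    show n i = Nat.card (ZMod (n i))
    rw [Nat.card_zmod]

section Derivation

variable {G : Type*} [Group G]

/-- the image of `g` in the group ring of the abelianization -/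
noncomputable def b (g : G) : MonoidAlgebra ℤ (Abelianization G) :=
  MonoidAlgebra.of ℤ _ (Abelianization.of g)

theorem b_mul (g h : G) : b (g * h) = b g * b h := by
  unfold b; rw [map_mul, map_mul]

theorem b_one : b (1 : G) = 1 := by
  unfold b; rw [map_one, map_one]

theorem b_inv_mul (g : G) : b g⁻¹ * b g = 1 := by
  rw [← b_mul, inv_mul_cancel, b_one]

theorem b_of_mem {h : G} (hh : h ∈ commutator G) : b h = 1 := by
  unfold b
  have : Abelianization.of h = 1 := by
    rw [← MonoidHom.mem_ker, Abelianization.ker_of]; exact hh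
  rw [this, map_one]

theorem aug_b (g : G) : aug _ (b g) = 1 := aug_of _

variable {U : Type*} [AddCommGroup U] [Module (MonoidAlgebra ℤ (Abelianization G)) U]
  (D : G → U) (hD : ∀ g h, D (g * h) = D g + b g • D h)

include hD in
theorem D_one : D 1 = 0 := by
  have := hD 1 1
  rw [mul_one, b_one, one_smul] at this
  exact left_eq_add.mp this |>.symm ▸ rfl

include hD in
theorem D_inv (g : G) : D g⁻¹ = - (b g⁻¹ • D g) := by
  have := hD g⁻¹ g
  rw [inv_mul_cancel, D_one D hD] at this
  exact eq_neg_of_add_eq_zero_left this.symm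

include hD in
theorem D_pow (g : G) (n : ℕ) : D (g ^ n) = (∑ k ∈ Finset.range n, b g ^ k) • D g := by
  induction n with
  | zero => simp [D_one D hD]
  | succ n ih =>
    rw [pow_succ', hD, ih, Finset.sum_range_succ', smul_smul, Finset.mul_sum, add_smul, pow_zero,
      one_smul, add_comm]
    congr 2
    apply Finset.sum_congr rfl
    intro k _
    rw [pow_succ']

include hD in
theorem D_comm (x y : G) : D ⁅x, y⁆ = (1 - b y) • D x + (b x - 1) • D y := by
  rw [commutatorElement_def, hD, hD, hD, D_inv D hD x, D_inv D hD y]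
  simp only [b_mul, smul_neg, smul_smul, sub_smul, one_smul]
  have h1 : b x * b y * b x⁻¹ = b y := by
    rw [mul_comm (b x), mul_assoc, mul_comm (b x), b_inv_mul, mul_one]
  have h2 : b x * b y * b x⁻¹ * b y⁻¹ = 1 := by
    rw [h1, mul_comm, b_inv_mul]
  rw [h2, one_smul, mul_assoc, mul_comm (b y), ← mul_assoc, mul_comm (b x), b_inv_mul, one_mul]
  abel


include hD in
/-- the main step: the norm element kills the values of a derivation which lifts the
canonical derivation `g ↦ ḡ - 1` -/
theorem norm_smul_D [Finite G] [Fintype (Abelianization G)]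
    (π : U →ₗ[MonoidAlgebra ℤ (Abelianization G)] MonoidAlgebra ℤ (Abelianization G))
    (hπ : ∀ g, π (D g) = b g - 1) (g : G) :
    (∑ q : Abelianization G, MonoidAlgebra.of ℤ _ q) • D g = 0 := by
  classical
  obtain ⟨ι, instι, n, qg, hqn, hgen, hprod⟩ := exists_basis (Abelianization G)
  have hsurj : ∀ i, ∃ x : G, Abelianization.of x = qg i :=
    fun i => QuotientGroup.mk_surjective (qg i)
  choose gi hgi using hsurj
  have instH : Fintype (commutator G) := Fintype.ofFinite _
  let z : ι ⊕ (commutator G) → U := Sum.elim (fun i => D (gi i)) (fun h => D (h : G))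
  let S := Submodule.span (MonoidAlgebra ℤ (Abelianization G)) (Set.range z)
  have hzl : ∀ i, D (gi i) ∈ S := fun i => Submodule.subset_span ⟨Sum.inl i, rfl⟩
  have hzr : ∀ h : G, h ∈ commutator G → D h ∈ S :=
    fun h hh => Submodule.subset_span ⟨Sum.inr ⟨h, hh⟩, rfl⟩
  -- every value of `D` lies in `S`
  have hgenS : ∀ x : G, D x ∈ S := by
    let T : Subgroup G :=
      { carrier := {x | D x ∈ S}
        mul_mem' := by
          intro x y hx hy
          show D (x * y) ∈ S
          rw [hD]
          exact S.add_mem hx (S.smul_mem _ hy)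
        one_mem' := by
          show D 1 ∈ S
          rw [D_one D hD]; exact S.zero_mem
        inv_mem' := by
          intro x hx
          show D x⁻¹ ∈ S
          rw [D_inv D hD]
          exact S.neg_mem (S.smul_mem _ hx) }
    have hT : T.map Abelianization.of = ⊤ := by
      apply hgen
      intro i
      exact ⟨gi i, hzl i, hgi i⟩
    intro x
    have hx : Abelianization.of x ∈ T.map Abelianization.of := by rw [hT]; exact Subgroup.mem_top _
    obtain ⟨t, ht, htx⟩ := hx
    have hmem : t⁻¹ * x ∈ commutator G := by
      rw [← Abelianization.ker_of, MonoidHom.mem_ker, map_mul, map_inv, htx, inv_mul_cancel]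
    have h2 : t⁻¹ * x ∈ T := hzr _ hmem
    have h3 : x = t * (t⁻¹ * x) := by group
    rw [h3]
    exact T.mul_mem ht h2
  -- values on the commutator subgroup lie in `I • S`
  have hC : ∀ h : G, h ∈ commutator G →
      D h ∈ (RingHom.ker (aug (Abelianization G))) • S := by
    intro h hh
    rw [commutator_eq_closure] at hh
    induction hh using Subgroup.closure_induction with
    | mem x hx =>
      obtain ⟨p, q, rfl⟩ := hx
      rw [D_comm D hD]
      apply Submodule.add_mem
      · apply Submodule.smul_mem_smul _ (hgenS p)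
        rw [RingHom.mem_ker, map_sub, map_one, aug_b, sub_self]
      · apply Submodule.smul_mem_smul _ (hgenS q)
        rw [RingHom.mem_ker, map_sub, map_one, aug_b, sub_self]
    | one => rw [D_one D hD]; exact Submodule.zero_mem _
    | mul x y hx hy ihx ihy =>
      rw [hD, b_of_mem (by rw [commutator_eq_closure]; exact hx), one_smul]
      exact Submodule.add_mem _ ihx ihy
    | inv x hx ihx =>
      rw [D_inv D hD, b_of_mem (by rw [commutator_eq_closure]; exact Subgroup.inv_mem _ hx),
        one_smul]
      exact Submodule.neg_mem _ ihx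
  -- coefficients
  have hcoef : ∀ h : commutator G, ∃ c : ι ⊕ (commutator G) → MonoidAlgebra ℤ (Abelianization G),
      (∀ k, c k ∈ RingHom.ker (aug (Abelianization G))) ∧ ∑ k, c k • z k = D (h : G) := by
    intro h
    obtain ⟨a, ha, hsum⟩ := (Submodule.mem_ideal_smul_span_iff_exists_sum _ z _).mp (hC h h.2)
    refine ⟨a, ha, ?_⟩
    rw [← hsum, Finsupp.sum_fintype]
    intro i; simp
  choose c hcI hcsum using hcoef
  have hpow : ∀ i, gi i ^ n i ∈ commutator G := by
    intro i
    rw [← Abelianization.ker_of, MonoidHom.mem_ker, map_pow, hgi, hqn]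
  let M : Matrix (ι ⊕ (commutator G)) (ι ⊕ (commutator G)) (MonoidAlgebra ℤ (Abelianization G)) :=
    Matrix.fromBlocks
      (Matrix.diagonal fun i => ∑ k ∈ Finset.range (n i), b (gi i) ^ k)
      (Matrix.of fun i h => if h = ⟨gi i ^ n i, hpow i⟩ then -1 else 0)
      (Matrix.of fun h i => - c h (Sum.inl i))
      (1 - Matrix.of fun h h' => c h (Sum.inr h'))
  have hrel : ∀ j, ∑ k, M j k • z k = 0 := by
    rintro (i | h)
    · rw [Fintype.sum_sum_type]
      simp only [M, Matrix.fromBlocks_apply₁₁, Matrix.fromBlocks_apply₁₂, Matrix.diagonal_apply,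
        Matrix.of_apply, z, Sum.elim_inl, Sum.elim_inr, ite_smul, zero_smul, neg_smul, one_smul]
      rw [Finset.sum_ite_eq, Finset.sum_ite_eq']
      simp only [Finset.mem_univ, if_true]
      rw [← D_pow D hD]
      simp
    · rw [Fintype.sum_sum_type]
      simp only [M, Matrix.fromBlocks_apply₂₁, Matrix.fromBlocks_apply₂₂, Matrix.of_apply,
        Matrix.sub_apply, Matrix.one_apply, neg_smul, sub_smul, ite_smul, one_smul, zero_smul,
        Finset.sum_neg_distrib, Finset.sum_sub_distrib]
      rw [Finset.sum_ite_eq]
      simp only [Finset.mem_univ, if_true]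
      have := hcsum h
      rw [Fintype.sum_sum_type] at this
      simp only [z, Sum.elim_inl, Sum.elim_inr] at this ⊢
      rw [← this]
      abel
  have hdet := det_smul_eq_zero M z hrel
  -- the same relations hold for the images under `π`
  have hrel' : ∀ j, ∑ k, M j k • π (z k) = 0 := by
    intro j
    have := congrArg π (hrel j)
    rw [map_sum, map_zero] at this
    simpa only [map_smul] using this
  have hdet' := det_smul_eq_zero M (fun k => π (z k)) hrel'
  have hfix : ∀ q : Abelianization G, M.det * MonoidAlgebra.of ℤ _ q = M.det := by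
    let K : Subgroup (Abelianization G) :=
      { carrier := {q | M.det * MonoidAlgebra.of ℤ _ q = M.det}
        mul_mem' := by
          intro x y hx hy
          show M.det * MonoidAlgebra.of ℤ _ (x * y) = M.det
          rw [map_mul, ← mul_assoc, hx, hy]
        one_mem' := by
          show M.det * MonoidAlgebra.of ℤ _ 1 = M.det
          rw [map_one, mul_one]
        inv_mem' := by
          intro x hx
          show M.det * MonoidAlgebra.of ℤ _ x⁻¹ = M.det
          have hx' : M.det * MonoidAlgebra.of ℤ _ x = M.det := hx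
          calc M.det * MonoidAlgebra.of ℤ _ x⁻¹
              = (M.det * MonoidAlgebra.of ℤ _ x) * MonoidAlgebra.of ℤ _ x⁻¹ := by rw [hx']
            _ = M.det * MonoidAlgebra.of ℤ _ (x * x⁻¹) := by rw [map_mul, mul_assoc]
            _ = M.det := by rw [mul_inv_cancel, map_one, mul_one] }
    have hK : K = ⊤ := by
      apply hgen
      intro i
      show M.det * MonoidAlgebra.of ℤ _ (qg i) = M.det
      have h1 := hdet' (Sum.inl i)
      simp only [z, Sum.elim_inl, hπ, smul_eq_mul, mul_sub, mul_one] at h1
      rw [← hgi i]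
      exact sub_eq_zero.mp h1
    intro q
    have : q ∈ K := by rw [hK]; exact Subgroup.mem_top q
    exact this
  have haug : aug (Abelianization G) M.det = Fintype.card (Abelianization G) := by
    rw [RingHom.map_det, RingHom.mapMatrix_apply]
    have hM : M.map (aug (Abelianization G)) = Matrix.fromBlocks
        (Matrix.diagonal fun i => (n i : ℤ))
        ((Matrix.of fun i h => if h = ⟨gi i ^ n i, hpow i⟩ then
          (-1 : MonoidAlgebra ℤ (Abelianization G)) else 0).map (aug (Abelianization G)))
        0 1 := by
      simp only [M]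
      rw [Matrix.fromBlocks_map]
      congr 1
      · rw [Matrix.diagonal_map (map_zero _)]
        congr 1
        funext i
        simp [map_sum, map_pow, aug_b]
      · ext h i
        simp only [Matrix.map_apply, Matrix.of_apply, map_neg, Matrix.zero_apply]
        rw [RingHom.mem_ker.mp (hcI h (Sum.inl i)), neg_zero]
      · ext h h'
        simp only [Matrix.map_apply, Matrix.sub_apply, Matrix.of_apply, map_sub, Matrix.one_apply]
        rw [RingHom.mem_ker.mp (hcI h (Sum.inr h')), sub_zero]
        split_ifs <;> simp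
    rw [hM, Matrix.det_fromBlocks_zero₂₁, Matrix.det_diagonal, Matrix.det_one, mul_one]
    rw [← Nat.card_eq_fintype_card, ← hprod]
    push_cast
    rfl
  have hN := eq_norm_of M.det hfix haug
  rw [← hN]
  -- conclude by span induction
  have hkill : ∀ u ∈ S, M.det • u = 0 := by
    intro u hu
    induction hu using Submodule.span_induction with
    | mem x hx =>
      obtain ⟨k, rfl⟩ := hx
      exact hdet k
    | zero => rw [smul_zero]
    | add x y _ _ hx hy => rw [smul_add, hx, hy, add_zero]
    | smul a x _ hx => rw [smul_comm, hx, smul_zero]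
  exact hkill _ (hgenS g)

end Derivation


open MonoidAlgebra


section Concrete
variable (G : Type*) [Group G]

/-- functions `G^ab → (G')^ab`, written additively -/
def W : Type _ := Abelianization G → Additive (Abelianization (commutator G))

noncomputable instance : AddCommGroup (W G) :=
  inferInstanceAs (AddCommGroup (Abelianization G → Additive (Abelianization (commutator G))))

instance : CoeFun (W G) (fun _ => Abelianization G → Additive (Abelianization (commutator G))) :=
  ⟨fun F => F⟩

/-- evaluation -/
noncomputable def ev (q : Abelianization G) : W G →+ Additive (Abelianization (commutator G)) where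
  toFun F := F q
  map_zero' := rfl
  map_add' _ _ := rfl

/-- translation -/
noncomputable def τ : Abelianization G →* Module.End ℤ (W G) where
  toFun r :=
    { toFun := fun F q => F (r⁻¹ * q)
      map_add' := fun _ _ => rfl
      map_smul' := fun _ _ => rfl }
  map_one' := by
    apply LinearMap.ext
    intro F
    funext q
    show F (1⁻¹ * q) = F q
    rw [inv_one, one_mul]
  map_mul' := fun r r' => by
    apply LinearMap.ext
    intro F
    funext q
    show F ((r * r')⁻¹ * q) = F (r'⁻¹ * (r⁻¹ * q))
    rw [_root_.mul_inv_rev, mul_assoc]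

noncomputable instance : Module (MonoidAlgebra ℤ (Abelianization G)) (W G) :=
  Module.compHom (W G) ((MonoidAlgebra.lift ℤ (Module.End ℤ (W G)) (Abelianization G) (τ G) :
    MonoidAlgebra ℤ (Abelianization G) →ₐ[ℤ] Module.End ℤ (W G)) :
      MonoidAlgebra ℤ (Abelianization G) →+* Module.End ℤ (W G))

theorem of_smul (r : Abelianization G) (F : W G) (q : Abelianization G) :
    (MonoidAlgebra.of ℤ _ r • F) q = F (r⁻¹ * q) := by
  show ((MonoidAlgebra.lift ℤ (Module.End ℤ (W G)) (Abelianization G) (τ G))
    (MonoidAlgebra.of ℤ _ r)) F q = _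
  rw [MonoidAlgebra.lift_of]
  rfl

theorem sum_apply' {α : Type*} (s : Finset α) (f : α → W G) (q : Abelianization G) :
    (∑ a ∈ s, f a) q = ∑ a ∈ s, f a q :=
  map_sum (ev G q) f s

theorem norm_smul [Fintype (Abelianization G)] (F : W G) (q' : Abelianization G) :
    ((∑ q : Abelianization G, MonoidAlgebra.of ℤ _ q) • F) q' = ∑ q : Abelianization G, F q := by
  rw [Finset.sum_smul, sum_apply']
  simp only [of_smul]
  exact Fintype.sum_equiv ((Equiv.inv _).trans (Equiv.mulRight q')) _ _ (fun q => rfl)


variable {G}

/-- a section of `G → G^ab` -/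
noncomputable def sec (q : Abelianization G) : G := Quotient.out (q : G ⧸ commutator G)

theorem of_sec (q : Abelianization G) : Abelianization.of (sec q) = q :=
  QuotientGroup.out_eq' (q : G ⧸ commutator G)

theorem mem_aux (g : G) (q : Abelianization G) :
    (sec q)⁻¹ * g * sec ((Abelianization.of g)⁻¹ * q) ∈ commutator G := by
  rw [← Abelianization.ker_of, MonoidHom.mem_ker, map_mul, map_mul, map_inv, of_sec, of_sec]
  group

/-- the monomial cocycle -/
noncomputable def F (g : G) : W G := fun q =>
  Additive.ofMul (Abelianization.of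
    (⟨(sec q)⁻¹ * g * sec ((Abelianization.of g)⁻¹ * q), mem_aux g q⟩ : commutator G))

theorem F_mul (g h : G) :
    F (g * h) = F g + MonoidAlgebra.of ℤ _ (Abelianization.of g) • F h := by
  funext q
  show F (g * h) q = F g q + (MonoidAlgebra.of ℤ _ (Abelianization.of g) • F h) q
  rw [of_smul]
  unfold F
  rw [← ofMul_mul, ← map_mul]
  congr 2
  apply Subtype.ext
  have hq : (Abelianization.of (g * h))⁻¹ * q =
      (Abelianization.of h)⁻¹ * ((Abelianization.of g)⁻¹ * q) := by
    rw [map_mul, _root_.mul_inv_rev, mul_assoc]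
  show (sec q)⁻¹ * (g * h) * sec ((Abelianization.of (g * h))⁻¹ * q) =
    ((sec q)⁻¹ * g * sec ((Abelianization.of g)⁻¹ * q)) *
      ((sec ((Abelianization.of g)⁻¹ * q))⁻¹ * h *
        sec ((Abelianization.of h)⁻¹ * ((Abelianization.of g)⁻¹ * q)))
  rw [hq]
  group

theorem transfer_eq [Finite G] [Fintype (Abelianization G)] (g : G) :
    MonoidHom.transfer
      (Abelianization.of : ↥(commutator G) →* Abelianization ↥(commutator G)) g =
      ∏ q : Abelianization G, Additive.toMul (F g q) := by
  classical
  let T : (commutator G).LeftTransversal :=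
    ⟨Set.range (Quotient.out : G ⧸ commutator G → G),
      Subgroup.isComplement_range_left Quotient.out_eq'⟩
  rw [MonoidHom.transfer_def _ T]
  unfold Subgroup.leftTransversals.diff
  simp only []
  refine Finset.prod_congr ?_ ?_
  · congr
    apply Subsingleton.elim
  · intro q _
    unfold F
    rw [toMul_ofMul]
    congr 1
    apply Subtype.ext
    show ((T.2.leftQuotientEquiv q : G))⁻¹ * ((g • T).2.leftQuotientEquiv q : G) = _
    rw [Subgroup.smul_apply_eq_smul_apply_inv_smul]
    have h1 : ∀ q' : G ⧸ commutator G, (T.2.leftQuotientEquiv q' : G) = Quotient.out q' :=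
      fun q' => Subgroup.IsComplement.leftQuotientEquiv_apply Quotient.out_eq' q'
    rw [h1, h1]
    have h2 : (g⁻¹ • (q : G ⧸ commutator G)) =
        @HMul.hMul (Abelianization G) (Abelianization G) (Abelianization G) _
          (Abelianization.of g)⁻¹ q := by
      induction q using QuotientGroup.induction_on with
      | H x => rfl
    rw [h2]
    exact (mul_assoc _ _ _).symm

end Concrete


theorem result {G : Type*} [Group G] [Finite G] :
    MonoidHom.transfer (Abelianization.of : ↥(commutator G) →* Abelianization ↥(commutator G)) =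
      (1 : G →* Abelianization ↥(commutator G)) := by
  classical
  have : Fintype (Abelianization G) := Fintype.ofFinite _
  ext g
  rw [MonoidHom.one_apply, transfer_eq]
  let D : G → W G × MonoidAlgebra ℤ (Abelianization G) := fun g => (F g, b g - 1)
  have hD : ∀ g h, D (g * h) = D g + b g • D h := by
    intro g h
    apply Prod.ext
    · exact F_mul g h
    · show b (g * h) - 1 = (b g - 1) + b g * (b h - 1)
      rw [b_mul]; ring
  have key := norm_smul_D D hD (LinearMap.snd _ _ _) (fun g => rfl) g
  have key2 : (∑ q : Abelianization G, MonoidAlgebra.of ℤ _ q) • F g = 0 :=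
    congrArg Prod.fst key
  have key3 : ((∑ q : Abelianization G, MonoidAlgebra.of ℤ _ q) • F g) 1 = (0 : W G) 1 := by
    rw [key2]
  rw [norm_smul] at key3
  have key4 : ∏ q : Abelianization G, Additive.toMul (F g q) =
      Additive.toMul (∑ q : Abelianization G, F g q) := (toMul_sum _ _).symm
  rw [key4, key3]
  rfl

end Cfsg.Agent.S4320
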