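import Cfsg.Statements.S4325

set_option autoImplicit false
open Cfsg
open scoped Pointwise

namespace Cfsg.Agent.S4325

/-- A nontrivial normal subgroup of `Perm (Fin n)` has order divisible by `n`. -/
theorem dvd_card_of_normal (n : ℕ) (N : Subgroup (Equiv.Perm (Fin n))) (hN : N.Normal)
    (hne : N ≠ ⊥) : n ∣ Nat.card N := by
  obtain ⟨σ, hσ, hσ1⟩ := (Subgroup.ne_bot_iff_exists_ne_one (H := N)).mp hne |>.imp
    (fun x hx => hx) |> fun ⟨x, hx⟩ => (⟨(x : Equiv.Perm (Fin n)), x.2, fun h => hx (Subtype.ext h)⟩ :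
      ∃ σ : Equiv.Perm (Fin n), σ ∈ N ∧ σ ≠ 1)
  obtain ⟨a, ha⟩ : ∃ a, σ a ≠ a := by
    by_contra h
    push Not at h
    exact hσ1 (Equiv.ext h)
  have htrans : MulAction.IsPretransitive N (Fin n) := by
    have key : ∀ c : Fin n, ∃ τ : N, τ • a = c := by
      intro c
      by_cases hc : c = a
      · exact ⟨1, by rw [one_smul, hc]⟩
      · set ρ : Equiv.Perm (Fin n) := Equiv.swap (σ a) c with hρ
        refine ⟨⟨ρ * σ * ρ⁻¹, hN.conj_mem σ hσ ρ⟩, ?_⟩
        show (ρ * σ * ρ⁻¹) a = c
        have h1 : ρ⁻¹ a = a := by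
          rw [hρ, Equiv.swap_inv, Equiv.swap_apply_of_ne_of_ne (Ne.symm ha) (Ne.symm hc)]
        simp only [Equiv.Perm.mul_apply, h1]
        rw [hρ, Equiv.swap_apply_left]
    constructor
    intro x y
    obtain ⟨τ1, h1⟩ := key x
    obtain ⟨τ2, h2⟩ := key y
    refine ⟨τ2 * τ1⁻¹, ?_⟩
    rw [mul_smul, ← h1, inv_smul_smul, h2]
  have h1 := MulAction.index_stabilizer_of_transitive N a
  rw [Nat.card_eq_fintype_card, Fintype.card_fin] at h1
  have h2 := Subgroup.index_dvd_card (MulAction.stabilizer N a)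
  rw [h1] at h2
  exact h2

theorem not_dvd_card_closure (r m : ℕ) (hr : r.Prime) (hm : m + 1 < r)
    (t : Fin m → Equiv.Perm (Fin r)) (ht : ∀ i, (t i).IsSwap) :
    ¬ r ∣ Nat.card (Subgroup.closure (Set.range t)) := by
  intro hdvd
  have : Fact r.Prime := ⟨hr⟩
  set H := Subgroup.closure (Set.range t) with hH
  choose a b hab htab using ht
  -- the graph
  set Gr : SimpleGraph (Fin r) := SimpleGraph.fromEdgeSet (Set.range fun i => s(a i, b i)) with hGr
  have hreach : ∀ h ∈ H, ∀ x, Gr.Reachable x (h x) := by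
    intro h hh
    induction hh using Subgroup.closure_induction with
    | mem h hmem =>
      obtain ⟨i, rfl⟩ := hmem
      intro x
      rw [htab i]
      by_cases hxa : x = a i
      · rw [hxa, Equiv.swap_apply_left]
        apply SimpleGraph.Adj.reachable
        rw [hGr, SimpleGraph.fromEdgeSet_adj]
        exact ⟨⟨i, rfl⟩, hab i⟩
      · by_cases hxb : x = b i
        · rw [hxb, Equiv.swap_apply_right]
          apply SimpleGraph.Adj.reachable
          rw [hGr, SimpleGraph.fromEdgeSet_adj]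
          exact ⟨⟨i, Sym2.eq_swap⟩, (hab i).symm⟩
        · rw [Equiv.swap_apply_of_ne_of_ne hxa hxb]
    | one => intro x; exact SimpleGraph.Reachable.refl _
    | mul h1 h2 _ _ ih1 ih2 =>
      intro x
      exact (ih2 x).trans (ih1 (h2 x))
    | inv h1 _ ih =>
      intro x
      have := ih (h1⁻¹ x)
      have e : h1 (h1⁻¹ x) = x := by simp
      rw [e] at this
      exact this.symm
  -- an element of order r
  obtain ⟨⟨σ, hσ⟩, ho⟩ := exists_prime_orderOf_dvd_card' (G := H) r hdvd
  rw [Subgroup.orderOf_mk] at ho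
  have hcyc : σ.IsCycle := by
    apply Equiv.Perm.isCycle_of_prime_order''
    · rw [Fintype.card_fin]; exact hr
    · rw [Fintype.card_fin]; exact ho
  have hsupp : σ.support = Finset.univ := by
    apply Finset.eq_univ_of_card
    rw [← hcyc.orderOf, ho, Fintype.card_fin]
  have hmove : ∀ x, σ x ≠ x := by
    intro x
    rw [← Equiv.Perm.mem_support, hsupp]
    exact Finset.mem_univ x
  have hconn : Gr.Connected := by
    have : Nonempty (Fin r) := ⟨⟨0, hr.pos⟩⟩
    rw [SimpleGraph.connected_iff]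
    refine ⟨?_, inferInstance⟩
    intro x y
    obtain ⟨i, hi⟩ := hcyc.exists_zpow_eq (hmove x) (hmove y)
    rw [← hi]
    exact hreach _ (Subgroup.zpow_mem _ hσ i) x
  have h1 := hconn.card_vert_le_card_edgeSet_add_one
  rw [Nat.card_eq_fintype_card, Fintype.card_fin] at h1
  have h2 : Nat.card Gr.edgeSet ≤ m := by
    rw [hGr, SimpleGraph.edgeSet_fromEdgeSet]
    calc Nat.card ↥((Set.range fun i => s(a i, b i)) \ Sym2.diagSet)
        ≤ Nat.card (Set.range fun i => s(a i, b i)) :=
          Nat.card_mono (Set.finite_range _) Set.diff_subset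
      _ ≤ Nat.card (Fin m) := Finite.card_range_le _
      _ = m := by rw [Nat.card_eq_fintype_card, Fintype.card_fin]
  omega

theorem result (r m : ℕ) (hr : r.Prime)
    (hm : m + 1 < r) (π : Set ℕ) (hπ : ∀ q : ℕ, q.Prime → q < r → q ∈ π) (hrπ : r ∉ π)
    (t : Fin m → Equiv.Perm (Fin r)) (ht : ∀ i, (t i).IsSwap) :
    Cfsg.IsPiSubgroup π (Subgroup.closure (Set.range t)) ∧ Cfsg.piCore π (Equiv.Perm (Fin r)) = ⊥ := by
  constructor
  · intro q hq hdvd
    have h1 : q ∣ Nat.card (Equiv.Perm (Fin r)) := hdvd.trans (Subgroup.card_subgroup_dvd_card _)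
    rw [Nat.card_eq_fintype_card, Fintype.card_perm, Fintype.card_fin] at h1
    have h2 : q ≤ r := (Nat.Prime.dvd_factorial hq).mp h1
    rcases lt_or_eq_of_le h2 with h | h
    · exact hπ q hq h
    · exfalso
      rw [h] at hdvd
      exact not_dvd_card_closure r m hr hm t ht hdvd
  · unfold Cfsg.piCore
    rw [eq_bot_iff]
    apply sSup_le
    rintro N ⟨hN, hNπ⟩
    by_contra hne
    have hne' : N ≠ ⊥ := fun h => hne (h ▸ le_refl _)
    exact hrπ (hNπ r hr (dvd_card_of_normal r N hN hne'))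

end Cfsg.Agent.S4325
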