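import Cfsg.Statements.S4326

set_option autoImplicit false
open Cfsg
open scoped Pointwise

namespace Cfsg.Agent.S4326

theorem result {G : Type*} [Group G] [Finite G]
    (p : ℕ) [Fact p.Prime] (x : MulAut G) (hx : ∃ k : ℕ, orderOf x = p ^ k) (M : Subgroup G)
    (hM : ∀ g : G, g ∈ M ↔ x g = g) (hp : p ∣ M.index)
    (hself : Subgroup.normalizer (M : Set G) = M ∨ Subgroup.center M = ⊥) :
    ∃ g : G, (∀ y ∈ MulAut.conj g • M, x y ∈ MulAut.conj g • M) ∧ ∃ y ∈ MulAut.conj g • M, x y ≠ y := by
  -- the p-group Z = ⟨x⟩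
  have hZ : IsPGroup p (Subgroup.zpowers x) := by
    obtain ⟨k, hk⟩ := hx
    rw [IsPGroup.iff_card, Nat.card_zpowers, hk]
    exact ⟨k, rfl⟩
  -- every element of Z commutes with x, hence preserves M
  have hbM : ∀ b : Subgroup.zpowers x, ∀ g : G, g ∈ M → (b : MulAut G) g ∈ M := by
    rintro ⟨b, hb⟩ g hg
    obtain ⟨n, rfl⟩ := Subgroup.mem_zpowers_iff.mp hb
    rw [hM] at hg ⊢
    have hc : Commute x (x ^ n) := (Commute.refl x).zpow_right n
    have : (x * x ^ n) g = (x ^ n * x) g := by rw [hc.eq]
    simp only [MulAut.mul_apply] at this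
    simp only
    rw [this, hg]
  have : MulAction.QuotientAction (Subgroup.zpowers x) M := by
    refine ⟨fun b a a' h => ?_⟩
    have := hbM b _ h
    simpa [Subgroup.smul_def, MulAut.smul_def] using this
  have hfix1 : ((1 : G) : G ⧸ M) ∈ MulAction.fixedPoints (Subgroup.zpowers x) (G ⧸ M) := by
    intro b
    rw [MulAction.Quotient.smul_coe]
    simp
  have hpα : p ∣ Nat.card (G ⧸ M) := by rwa [← Subgroup.index_eq_card]
  obtain ⟨q, hq, hne⟩ := hZ.exists_fixed_point_of_prime_dvd_card_of_fixed_point (G ⧸ M) hpα hfix1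
  obtain ⟨g, rfl⟩ := QuotientGroup.mk_surjective q
  have hgM : g ∉ M := by
    intro hg
    apply hne
    rw [eq_comm, QuotientGroup.eq]
    simpa using hg
  have hm : g⁻¹ * x g ∈ M := by
    have := hq ⟨x, Subgroup.mem_zpowers x⟩
    rw [MulAction.Quotient.smul_coe, eq_comm, QuotientGroup.eq] at this
    simpa [Subgroup.smul_def, MulAut.smul_def] using this
  set m := g⁻¹ * x g with hmdef
  have hxg : x g = g * m := by rw [hmdef]; group
  have hconj : ∀ n : G, x (g * n * g⁻¹) = g * (m * x n * m⁻¹) * g⁻¹ := by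
    intro n
    rw [map_mul, map_mul, map_inv, hxg]
    group
  refine ⟨g, ?_, ?_⟩
  · intro y hy
    rw [Subgroup.mem_pointwise_smul_iff_inv_smul_mem] at hy
    rw [Subgroup.mem_pointwise_smul_iff_inv_smul_mem]
    simp only [MulAut.smul_def, ← map_inv, MulAut.conj_apply, inv_inv] at hy ⊢
    have hy' : y = g * (g⁻¹ * y * g) * g⁻¹ := by group
    rw [hy', hconj, (hM _).mp hy]
    have : g⁻¹ * (g * (m * (g⁻¹ * y * g) * m⁻¹) * g⁻¹) * g = m * (g⁻¹ * y * g) * m⁻¹ := by group
    rw [this]
    exact M.mul_mem (M.mul_mem hm hy) (M.inv_mem hm)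
  · by_contra hall
    push Not at hall
    -- conj g • M ≤ M
    have hle : MulAut.conj g • M ≤ M := fun y hy => (hM y).mpr (hall y hy)
    rcases hself with hN | hC
    · apply hgM
      rw [← hN]
      have heq : MulAut.conj g • M = M := by
        apply Subgroup.eq_of_le_of_card_ge hle
        rw [← Nat.card_congr (Subgroup.equivSMul (MulAut.conj g) M).toEquiv]
      rw [Subgroup.mem_normalizer_iff_map_conj_eq]
      exact heq
    · apply hgM
      have hm1 : m = 1 := by
        have hcen : (⟨m, hm⟩ : M) ∈ Subgroup.center M := by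
          rw [Subgroup.mem_center_iff]
          rintro ⟨n, hn⟩
          have h1 : g * n * g⁻¹ ∈ MulAut.conj g • M := by
            rw [Subgroup.mem_pointwise_smul_iff_inv_smul_mem]
            simp only [MulAut.smul_def, ← map_inv, MulAut.conj_apply, inv_inv]
            have : g⁻¹ * (g * n * g⁻¹) * g = n := by group
            rw [this]; exact hn
          have h2 := hall _ h1
          rw [hconj, (hM n).mp hn] at h2
          have h3 : m * n * m⁻¹ = n := by
            have := congrArg (fun t => g⁻¹ * t * g) h2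
            beta_reduce at this
            have e1 : g⁻¹ * (g * (m * n * m⁻¹) * g⁻¹) * g = m * n * m⁻¹ := by group
            have e2 : g⁻¹ * (g * n * g⁻¹) * g = n := by group
            rw [e1, e2] at this
            exact this
          apply Subtype.ext
          show n * m = m * n
          calc n * m = (m * n * m⁻¹) * m := by rw [h3]
            _ = m * n := by group
        rw [hC, Subgroup.mem_bot] at hcen
        exact congrArg Subtype.val hcen
      rw [hM, hxg, hm1, mul_one]

end Cfsg.Agent.S4326
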