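import Cfsg.Statements.S4332
import Cfsg.Agent.S4325

set_option autoImplicit false
open Cfsg
open Equiv
open scoped Pointwise

namespace Cfsg.Agent.S4332

section
variable {α : Type*} [DecidableEq α]

theorem disjoint_swap_swap' {a b d e : α} (had : a ≠ d) (hae : a ≠ e) (hbd : b ≠ d)
    (hbe : b ≠ e) : Perm.Disjoint (swap a b) (swap d e) := by
  intro x
  by_cases hxd : x = d
  · left; subst hxd; exact swap_apply_of_ne_of_ne had.symm hbd.symm
  · by_cases hxe : x = e
    · left; subst hxe; exact swap_apply_of_ne_of_ne hae.symm hbe.symm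
    · right; exact swap_apply_of_ne_of_ne hxd hxe

theorem conj_swap_mul_swap (c : Perm α) (x y z : α) :
    c * (swap x y * swap x z) * c⁻¹ = swap (c x) (c y) * swap (c x) (c z) := by
  rw [swap_apply_apply, swap_apply_apply]
  group

/-- the disjoint case -/
theorem commute_of_disjoint (c : Perm α) (x y z : α)
    (h : ∀ u ∈ ({x, y, z} : Set α), ∀ v ∈ ({x, y, z} : Set α), c u ≠ v) :
    Commute (c * (swap x y * swap x z) * c⁻¹) (swap x y * swap x z) := by
  rw [conj_swap_mul_swap]
  apply Perm.Disjoint.commute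
  have hx : x ∈ ({x, y, z} : Set α) := by simp
  have hy : y ∈ ({x, y, z} : Set α) := by simp
  have hz : z ∈ ({x, y, z} : Set α) := by simp
  apply Perm.Disjoint.mul_left <;> apply Perm.Disjoint.mul_right <;> apply disjoint_swap_swap'
  all_goals first | exact h _ hx _ hx | exact h _ hx _ hy | exact h _ hx _ hz | exact h _ hy _ hx | exact h _ hy _ hy | exact h _ hy _ hz | exact h _ hz _ hx | exact h _ hz _ hy | exact h _ hz _ hz

/-- three fixed points -/
theorem commute_of_fixed (c : Perm α) (x y z : α) (hx : c x = x) (hy : c y = y) (hz : c z = z) :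
    Commute (c * (swap x y * swap x z) * c⁻¹) (swap x y * swap x z) := by
  rw [conj_swap_mul_swap, hx, hy, hz]

/-- a 2-cycle and a fixed point -/
theorem commute_of_two (c : Perm α) (x f : α) (hx : c (c x) = x) (hxf : x ≠ f) (hcxf : c x ≠ f)
    (hf : c f = f) :
    Commute (c * (swap x (c x) * swap x f) * c⁻¹) (swap x (c x) * swap x f) := by
  rw [conj_swap_mul_swap, hx, hf]
  -- swap b a * swap b f = (swap a b * swap a f)⁻¹
  have key : swap (c x) x * swap (c x) f = (swap x (c x) * swap x f)⁻¹ := by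
    rw [mul_inv_rev, swap_inv, swap_inv]
    have := swap_mul_swap_mul_swap (x := f) (y := c x) (z := x) hcxf.symm hxf.symm
    -- swap (c x) x * swap f (c x) * swap (c x) x = swap x f
    have h2 : swap (c x) x * swap f (c x) = swap x f * swap (c x) x := by
      rw [← this, mul_assoc, mul_assoc, swap_mul_self, mul_one]
    rw [swap_comm f (c x)] at h2
    rw [h2, swap_comm (c x) x]
  rw [key]
  exact (Commute.refl _).inv_left

/-- a 3-cycle -/
theorem commute_of_three (c : Perm α) (x : α) (hx : c (c (c x)) = x) (h1 : c x ≠ x)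
    (h2 : c (c x) ≠ x) :
    Commute (c * (swap x (c x) * swap x (c (c x))) * c⁻¹) (swap x (c x) * swap x (c (c x))) := by
  rw [conj_swap_mul_swap, hx]
  have key : swap (c x) (c (c x)) * swap (c x) x = swap x (c x) * swap x (c (c x)) := by
    have := swap_mul_swap_mul_swap (x := c (c x)) (y := x) (z := c x) h2 (fun h => h1 (c.injective h))
    -- swap x (c x) * swap (c (c x)) x * swap x (c x) = swap (c x) (c (c x))
    rw [← this, mul_assoc, mul_assoc, swap_comm (c x) x, swap_mul_self, mul_one,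
      swap_comm (c (c x)) x]
  rw [key]

end

theorem exists_threeCycle_commute (c : Perm (Fin 8)) :
    ∃ τ : Perm (Fin 8), τ.IsThreeCycle ∧ Commute (c * τ * c⁻¹) τ := by
  have hcard : c.support.card + (Finset.univ \ c.support).card = 8 := by
    rw [Finset.card_sdiff_of_subset (Finset.subset_univ _), Finset.card_univ, Fintype.card_fin]
    have := Finset.card_le_univ c.support
    rw [Fintype.card_fin] at this
    omega
  have hfix : ∀ x, x ∈ Finset.univ \ c.support → c x = x := by
    intro x hx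
    rw [Finset.mem_sdiff] at hx
    exact Perm.notMem_support.mp hx.2
  by_cases hA : c.support.card ≤ 5
  · have h3 : 2 < (Finset.univ \ c.support).card := by omega
    obtain ⟨x, hx, y, hy, z, hz, hxy, hxz, hyz⟩ := Finset.two_lt_card.mp h3
    exact ⟨swap x y * swap x z, Perm.isThreeCycle_swap_mul_swap_same hxy hxz hyz,
      commute_of_fixed c x y z (hfix x hx) (hfix y hy) (hfix z hz)⟩
  by_cases hB : 7 ≤ c.support.card
  · -- greedy choice
    have hne : c.support.Nonempty := Finset.card_pos.mp (by omega)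
    obtain ⟨x1, hx1⟩ := hne
    obtain ⟨x2, hx2, hx2'⟩ := Finset.exists_mem_notMem_of_card_lt_card
      (s := {x1, c x1, c⁻¹ x1}) (t := c.support)
      (lt_of_le_of_lt Finset.card_le_three (by omega))
    obtain ⟨x3, hx3, hx3'⟩ := Finset.exists_mem_notMem_of_card_lt_card
      (s := {x1, c x1, c⁻¹ x1, x2, c x2, c⁻¹ x2}) (t := c.support)
      (lt_of_le_of_lt Finset.card_le_six (by omega))
    simp only [Finset.mem_insert, Finset.mem_singleton, not_or] at hx2' hx3'
    obtain ⟨h21, h22, h23⟩ := hx2'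
    obtain ⟨h31, h32, h33, h34, h35, h36⟩ := hx3'
    have m1 : c x1 ≠ x1 := Perm.mem_support.mp hx1
    have m2 : c x2 ≠ x2 := Perm.mem_support.mp hx2
    have m3 : c x3 ≠ x3 := Perm.mem_support.mp hx3
    refine ⟨swap x1 x2 * swap x1 x3,
      Perm.isThreeCycle_swap_mul_swap_same (Ne.symm h21) (Ne.symm h31) (Ne.symm h34),
      commute_of_disjoint c x1 x2 x3 ?_⟩
    intro u hu v hv
    simp only [Set.mem_insert_iff, Set.mem_singleton_iff] at hu hv
    rcases hu with rfl | rfl | rfl <;> rcases hv with rfl | rfl | rfl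
    · exact m1
    · exact Ne.symm h22
    · exact Ne.symm h32
    · intro h; exact h23 (Perm.eq_inv_iff_eq.mpr h)
    · exact m2
    · exact Ne.symm h35
    · intro h; exact h33 (Perm.eq_inv_iff_eq.mpr h)
    · intro h; exact h36 (Perm.eq_inv_iff_eq.mpr h)
    · exact m3
  have h6 : c.support.card = 6 := by omega
  by_cases hC1 : ∃ x ∈ c.support, c (c x) = x
  · obtain ⟨x, hx, hxx⟩ := hC1
    have hne : (Finset.univ \ c.support).Nonempty := Finset.card_pos.mp (by omega)
    obtain ⟨f, hf⟩ := hne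
    have hff := hfix f hf
    have m1 : c x ≠ x := Perm.mem_support.mp hx
    have hxf : x ≠ f := by
      rintro rfl; exact m1 hff
    have hcxf : c x ≠ f := by
      intro h
      have : c (c x) = c x := by rw [h, hff]
      exact m1 (c.injective this)
    exact ⟨swap x (c x) * swap x f, Perm.isThreeCycle_swap_mul_swap_same (Ne.symm m1) hxf hcxf,
      commute_of_two c x f hxx hxf hcxf hff⟩
  by_cases hC2 : ∃ x ∈ c.support, c (c (c x)) = x
  · obtain ⟨x, hx, hxxx⟩ := hC2
    have m1 : c x ≠ x := Perm.mem_support.mp hx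
    have m2 : c (c x) ≠ x := fun h => hC1 ⟨x, hx, h⟩
    have m3 : c x ≠ c (c x) := fun h => m1 (c.injective h).symm
    exact ⟨swap x (c x) * swap x (c (c x)),
      Perm.isThreeCycle_swap_mul_swap_same (Ne.symm m1) (Ne.symm m2) m3,
      commute_of_three c x hxxx m1 m2⟩
  · push Not at hC1 hC2
    have hne : c.support.Nonempty := Finset.card_pos.mp (by omega)
    obtain ⟨x, hx⟩ := hne
    obtain ⟨y, hy, hy'⟩ := Finset.exists_mem_notMem_of_card_lt_card
      (s := {x, c x, c (c x), c (c (c x)), c⁻¹ x}) (t := c.support)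
      (lt_of_le_of_lt Finset.card_le_five (by omega))
    simp only [Finset.mem_insert, Finset.mem_singleton, not_or] at hy'
    obtain ⟨g1, g2, g3, g4, g5⟩ := hy'
    have m1 : c x ≠ x := Perm.mem_support.mp hx
    have my : c y ≠ y := Perm.mem_support.mp hy
    have m2 : c (c x) ≠ x := hC1 x hx
    have m3 : c (c (c x)) ≠ x := hC2 x hx
    refine ⟨swap x (c (c x)) * swap x y,
      Perm.isThreeCycle_swap_mul_swap_same (Ne.symm m2) (Ne.symm g1) (Ne.symm g3),
      commute_of_disjoint c x (c (c x)) y ?_⟩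
    intro u hu v hv
    simp only [Set.mem_insert_iff, Set.mem_singleton_iff] at hu hv
    rcases hu with rfl | rfl | rfl <;> rcases hv with rfl | rfl | rfl
    · exact m1
    · intro h; exact m1 (c.injective h).symm
    · exact Ne.symm g2
    · exact m3
    · intro h; exact m1 (c.injective (c.injective h))
    · exact Ne.symm g4
    · intro h; exact g5 (Perm.eq_inv_iff_eq.mpr h)
    · intro h; exact g2 (c.injective h)
    · exact my

theorem result
    (σ : Equiv.Perm (Fin 8)) (hσ : σ.IsThreeCycle) :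
    (∀ c : Equiv.Perm (Fin 8), ∃ g : Equiv.Perm (Fin 8), IsConj c g ∧
      ((Subgroup.zpowers σ).subgroupOf (Subgroup.zpowers σ ⊔ MulAut.conj g • Subgroup.zpowers σ)).IsSubnormal) ∧
    Cfsg.pCore 3 (Equiv.Perm (Fin 8)) = ⊥ := by
  constructor
  · intro c
    obtain ⟨τ, hτ3, hτc⟩ := exists_threeCycle_commute c
    have hconj : IsConj τ σ :=
      Perm.isConj_iff_cycleType_eq.mpr (hτ3.cycleType.trans hσ.cycleType.symm)
    obtain ⟨ρ, hρ⟩ := isConj_iff.mp hconj
    refine ⟨ρ * c * ρ⁻¹, isConj_iff.mpr ⟨ρ, rfl⟩, ?_⟩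
    set g := ρ * c * ρ⁻¹ with hg
    have hcomm : Commute (g * σ * g⁻¹) σ := by
      have e1 : g * σ * g⁻¹ = ρ * (c * τ * c⁻¹) * ρ⁻¹ := by
        rw [hg, ← hρ]; group
      rw [e1]
      show ρ * (c * τ * c⁻¹) * ρ⁻¹ * σ = σ * (ρ * (c * τ * c⁻¹) * ρ⁻¹)
      rw [← hρ]
      have := hτc.eq
      calc ρ * (c * τ * c⁻¹) * ρ⁻¹ * (ρ * τ * ρ⁻¹) = ρ * ((c * τ * c⁻¹) * τ) * ρ⁻¹ := by group
        _ = ρ * (τ * (c * τ * c⁻¹)) * ρ⁻¹ := by rw [this]
        _ = ρ * τ * ρ⁻¹ * (ρ * (c * τ * c⁻¹) * ρ⁻¹) := by group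
    have hB : MulAut.conj g • Subgroup.zpowers σ ≤ Subgroup.normalizer (Subgroup.zpowers σ : Set _) := by
      intro x hx
      rw [Subgroup.mem_pointwise_smul_iff_inv_smul_mem] at hx
      obtain ⟨k, hk⟩ := Subgroup.mem_zpowers_iff.mp hx
      have hx' : x = (g * σ * g⁻¹) ^ k := by
        have : x = g * (σ ^ k) * g⁻¹ := by
          rw [hk]; simp [MulAut.smul_def]; group
        rw [this, conj_zpow]
      have hxσ : Commute x σ := by
        rw [hx']; exact hcomm.zpow_left k
      rw [Subgroup.mem_set_normalizer_iff]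
      intro h
      constructor
      · intro hh
        obtain ⟨j, rfl⟩ := Subgroup.mem_zpowers_iff.mp hh
        have : x * σ ^ j * x⁻¹ = σ ^ j := by
          rw [(hxσ.zpow_right j).eq, mul_inv_cancel_right]
        rw [this]; exact hh
      · intro hh
        obtain ⟨j, hj⟩ := Subgroup.mem_zpowers_iff.mp hh
        have : h = x⁻¹ * σ ^ j * x := by rw [hj]; group
        have h2 : x⁻¹ * σ ^ j * x = σ ^ j := by
          rw [mul_assoc, ← (hxσ.zpow_right j).eq, inv_mul_cancel_left]
        rw [this, h2]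
        exact Subgroup.zpow_mem _ (Subgroup.mem_zpowers σ) j
    have hle : Subgroup.zpowers σ ⊔ MulAut.conj g • Subgroup.zpowers σ ≤
        Subgroup.normalizer (Subgroup.zpowers σ : Set _) :=
      sup_le Subgroup.le_normalizer hB
    exact ((Subgroup.normal_subgroupOf_iff_le_normalizer le_sup_left).mpr hle).isSubnormal
  · unfold Cfsg.pCore
    rw [eq_bot_iff]
    apply sSup_le
    rintro N ⟨hN, hp⟩
    by_contra hne
    have hne' : N ≠ ⊥ := fun h => hne (h ▸ le_refl _)
    have h8 := Cfsg.Agent.S4325.dvd_card_of_normal 8 N hN hne'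
    obtain ⟨k, hk⟩ := IsPGroup.iff_card.mp hp
    rw [hk] at h8
    have h2 : 2 ∣ 3 ^ k := (by norm_num : 2 ∣ 8).trans h8
    have := (Nat.Prime.dvd_of_dvd_pow Nat.prime_two h2)
    omega

end Cfsg.Agent.S4332
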