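import Cfsg.Statements.S4342

set_option autoImplicit false
open Cfsg
open scoped Pointwise

namespace Cfsg.Agent.S4342

/-- If `H` is normal of index prime to `p`, every Sylow `p`-subgroup of `G` lies in `H`. -/
theorem sylow_le_of_not_dvd_index {G : Type*} [Group G] [Finite G]
    (p : ℕ) [Fact p.Prime] (H : Subgroup G) [H.Normal] (hp : ¬ p ∣ H.index) (P : Sylow p G) :
    (P : Subgroup G) ≤ H := by
  intro g hg
  obtain ⟨k, hk⟩ := (IsPGroup.iff_orderOf.mp P.2) ⟨g, hg⟩
  rw [Subgroup.orderOf_mk] at hk
  have h1 : orderOf (QuotientGroup.mk' H g) ∣ p ^ k := hk ▸ orderOf_map_dvd _ g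
  have h2 : orderOf (QuotientGroup.mk' H g) ∣ H.index := by
    rw [Subgroup.index_eq_card]
    exact orderOf_dvd_natCard _
  have hcop : Nat.Coprime (p ^ k) H.index :=
    Nat.Coprime.pow_left k ((Nat.Prime.coprime_iff_not_dvd Fact.out).mpr hp)
  have h3 : orderOf (QuotientGroup.mk' H g) = 1 :=
    Nat.eq_one_of_dvd_coprimes hcop h1 h2
  rw [orderOf_eq_one_iff] at h3
  exact (QuotientGroup.eq_one_iff g).mp h3

theorem card_sylow_normal_eq {G : Type*} [Group G] [Finite G]
    (p : ℕ) [Fact p.Prime] (H : Subgroup G) [H.Normal] (hp : ¬ p ∣ H.index) :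
    Nat.card (Sylow p H) = Nat.card (Sylow p G) := by
  symm
  apply Nat.card_congr
  refine Equiv.ofBijective (fun P => P.subtype (sylow_le_of_not_dvd_index p H hp P)) ⟨?_, ?_⟩
  · intro P Q h
    exact Sylow.subtype_injective h
  · intro Q
    obtain ⟨P, hP⟩ := Sylow.exists_comap_subtype_eq Q
    refine ⟨P, ?_⟩
    apply Sylow.ext
    rw [Sylow.coe_subtype]
    exact hP

theorem card_sylow_quotient_center {H : Type*} [Group H] [Finite H] (p : ℕ) [Fact p.Prime] :
    Nat.card (Sylow p (H ⧸ Subgroup.center H)) = Nat.card (Sylow p H) := by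
  symm
  apply Nat.card_congr
  have hf : Function.Surjective (QuotientGroup.mk' (Subgroup.center H)) :=
    QuotientGroup.mk'_surjective _
  refine Equiv.ofBijective (Sylow.mapSurjective hf) ⟨?_, Sylow.mapSurjective_surjective hf p⟩
  -- injectivity
  have key : ∀ P Q : Sylow p H, Sylow.mapSurjective hf P = Sylow.mapSurjective hf Q →
      (P : Subgroup H) ≤ Q := by
    intro P Q h x hx
    have h' : (P : Subgroup H).map (QuotientGroup.mk' (Subgroup.center H))
        = (Q : Subgroup H).map (QuotientGroup.mk' (Subgroup.center H)) := by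
      have := congrArg (fun S : Sylow p (H ⧸ Subgroup.center H) => S.toSubgroup) h
      simpa using this
    have hfx : QuotientGroup.mk' (Subgroup.center H) x ∈
        (Q : Subgroup H).map (QuotientGroup.mk' (Subgroup.center H)) := by
      rw [← h']; exact Subgroup.mem_map_of_mem _ hx
    obtain ⟨q, hq, hqx⟩ := Subgroup.mem_map.mp hfx
    have hz : q⁻¹ * x ∈ Subgroup.center H := by
      have := QuotientGroup.eq.mp hqx
      exact this
    -- x normalizes Q
    have hxN : x ∈ Subgroup.normalizer (Q : Set H) := by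
      rw [Subgroup.mem_set_normalizer_iff]
      intro h
      set z := q⁻¹ * x with hzdef
      have hxq : x = q * z := by rw [hzdef]; group
      have hcomm : ∀ y : H, z * y = y * z := fun y => (Subgroup.mem_center_iff.mp hz y).symm
      have e : x * h * x⁻¹ = q * h * q⁻¹ := by
        rw [hxq]
        calc q * z * h * (q * z)⁻¹ = q * (z * h) * z⁻¹ * q⁻¹ := by group
          _ = q * (h * z) * z⁻¹ * q⁻¹ := by rw [hcomm h]
          _ = q * h * q⁻¹ := by group
      rw [e]
      constructor
      · intro hh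
        exact Subgroup.mul_mem _ (Subgroup.mul_mem _ hq hh) (Subgroup.inv_mem _ hq)
      · intro hh
        have := Subgroup.mul_mem _ (Subgroup.mul_mem _ (Subgroup.inv_mem _ hq) hh) hq
        have e2 : q⁻¹ * (q * h * q⁻¹) * q = h := by group
        rw [e2] at this
        exact this
    have hmem : x ∈ (P : Subgroup H) ⊓ Subgroup.normalizer (Q : Set H) :=
      ⟨hx, hxN⟩
    rw [IsPGroup.inf_normalizer_sylow P.2 Q] at hmem
    exact hmem.2
  intro P Q h
  apply Sylow.ext
  exact le_antisymm (key P Q h) (key Q P h.symm)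

theorem result {G : Type*} [Group G] [Finite G]
    (p : ℕ) [Fact p.Prime] (H : Subgroup G) [H.Normal] (hp : ¬ p ∣ H.index) :
    Nat.card (Sylow p (H ⧸ Subgroup.center H)) = Nat.card (Sylow p G) := by
  rw [card_sylow_quotient_center, card_sylow_normal_eq p H hp]

end Cfsg.Agent.S4342
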