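import Cfsg.Statements.S4345
import Cfsg.Agent.Lib.Helper72_SylowNum
import Cfsg.Agent.Lib.Helper71_Solvable

set_option autoImplicit false
open Cfsg

namespace Cfsg.Agent.S4345

open Cfsg.Agent.Lib.Helper72_SylowNum Cfsg.Agent.Lib.Helper71_Solvable
  Cfsg.Agent.Lib.Helper71_Fitting

universe u

theorem key (n : ℕ) : ∀ {G : Type u} [Group G] [Finite G], Group.IsSolvable G → Nat.card G = n →
    ∀ (p ℓ : ℕ) [Fact p.Prime], ℓ.Prime →
    ℓ ^ (Nat.card (Sylow p G)).factorization ℓ ≡ 1 [MOD p] := by
  induction n using Nat.strong_induction_on with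
  | _ n ih =>
  intro G _ _ hG hn p ℓ _ hℓ
  by_cases htriv : Subsingleton G
  · have : Subsingleton (Sylow p G) := by
      constructor
      intro A B
      apply Sylow.ext
      exact Subsingleton.elim _ _
    have hc : Nat.card (Sylow p G) = 1 := Nat.card_unique
    rw [hc]
    simp
    rfl
  · have hnt : Nontrivial G := not_subsingleton_iff_nontrivial.mp htriv
    obtain ⟨q, hq, hK⟩ := exists_sylowCore_ne_bot hG
    have hqf : Fact q.Prime := ⟨hq⟩
    have hKp : IsPGroup q (sylowCore q G) := sylowCore_isPGroup q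
    obtain ⟨P⟩ : Nonempty (Sylow p G) := inferInstance
    have h1 := card_sylow_eq_mul P (sylowCore q G)
    -- IH
    have hlt : Nat.card (G ⧸ sylowCore q G) < n := by
      rw [← hn, ← Subgroup.index_eq_card, ← Subgroup.index_mul_card (sylowCore q G)]
      have hpos : 0 < (sylowCore q G).index := Nat.pos_of_ne_zero Subgroup.index_ne_zero_of_finite
      have h2 : 1 < Nat.card (sylowCore q G) := by
        rw [Subgroup.one_lt_card_iff_ne_bot]; exact hK
      nlinarith
    have iha := ih _ hlt (G := G ⧸ sylowCore q G) inferInstance rfl p ℓ hℓ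
    -- r is a power of q
    obtain ⟨m, hm⟩ := IsPGroup.iff_card.mp hKp
    have hrdvd : (Subgroup.normalizer ((P : Subgroup G) : Set G)).relIndex (sylowCore q G) ∣ q ^ m := by
      rw [← hm]; exact Subgroup.relIndex_dvd_card _ _
    obtain ⟨t, _, ht⟩ := (Nat.dvd_prime_pow hq).mp hrdvd
    -- r ≡ 1 mod p
    have hmodG : Nat.card (Sylow p G) ≡ 1 [MOD p] := card_sylow_modEq_one p G
    have hmoda : Nat.card (Sylow p (G ⧸ sylowCore q G)) ≡ 1 [MOD p] := card_sylow_modEq_one p _
    have hr : (Subgroup.normalizer ((P : Subgroup G) : Set G)).relIndex (sylowCore q G) ≡ 1 [MOD p] := by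
      have h3 : Nat.card (Sylow p (G ⧸ sylowCore q G)) *
          (Subgroup.normalizer ((P : Subgroup G) : Set G)).relIndex (sylowCore q G) ≡ 1 [MOD p] := by
        rw [← h1]; exact hmodG
      have h4 := (hmoda.mul_right
        ((Subgroup.normalizer ((P : Subgroup G) : Set G)).relIndex (sylowCore q G))).symm.trans h3
      simpa using h4
    have ha0 : Nat.card (Sylow p (G ⧸ sylowCore q G)) ≠ 0 := Nat.card_pos.ne'
    have hr0 : (Subgroup.normalizer ((P : Subgroup G) : Set G)).relIndex (sylowCore q G) ≠ 0 := by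
      rw [ht]; exact pow_ne_zero _ hq.ne_zero
    rw [h1, Nat.factorization_mul ha0 hr0, Finsupp.add_apply, pow_add]
    have hfac : ℓ ^ ((Subgroup.normalizer ((P : Subgroup G) : Set G)).relIndex
        (sylowCore q G)).factorization ℓ ≡ 1 [MOD p] := by
      by_cases hlq : ℓ = q
      · subst hlq
        rw [ht, Nat.Prime.factorization_pow hq, Finsupp.single_apply, if_pos rfl, ← ht]
        exact hr
      · rw [ht, Nat.Prime.factorization_pow hq, Finsupp.single_apply, if_neg (Ne.symm hlq), pow_zero]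
    simpa using iha.mul hfac

theorem result {G : Type*} [Group G] [Finite G]
    (hG : Group.IsSolvable G) (p ℓ : ℕ) [Fact p.Prime] (hℓ : ℓ.Prime) :
    ℓ ^ (Nat.card (Sylow p G)).factorization ℓ ≡ 1 [MOD p] :=
  key _ hG rfl p ℓ hℓ

end Cfsg.Agent.S4345
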