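import Cfsg.Statements.S4346
-- import your own Cfsg.Agent.* helpers here
import Cfsg.Agent.Lib.Helper45_SylowReduce
import Cfsg.Agent.Lib.Helper9_Syl22B
import Cfsg.Agent.Lib.Helper9_Syl22C
import Mathlib

set_option autoImplicit false
open Cfsg

namespace Cfsg.Agent.S4346

theorem not_isPrimePow_22 : ¬ IsPrimePow 22 := by
  rintro ⟨q, k, hq, hk, hqk⟩
  have hq' : q.Prime := hq.nat_prime
  have h2 : 2 ∣ q ^ k := by rw [hqk]; norm_num
  have h11 : 11 ∣ q ^ k := by rw [hqk]; norm_num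
  have e2 := (Nat.prime_dvd_prime_iff_eq (by norm_num) hq').1
    ((by norm_num : Nat.Prime 2).dvd_of_dvd_pow h2)
  have e11 := (Nat.prime_dvd_prime_iff_eq (by norm_num) hq').1
    ((by norm_num : Nat.Prime 11).dvd_of_dvd_pow h11)
  omega

theorem dvd_22 {d : ℕ} (hd : d ∣ 22) : d = 1 ∨ d = 2 ∨ d = 11 ∨ d = 22 := by
  have h1 : d ∈ Nat.divisors 22 := Nat.mem_divisors.2 ⟨hd, by norm_num⟩
  have h2 : Nat.divisors 22 = {1, 2, 11, 22} := by decide
  rw [h2] at h1
  simpa using h1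

/-- No finite group has exactly 22 Sylow 3-subgroups. -/
theorem result {G : Type*} [Group G] [Finite G] : Nat.card (Sylow 3 G) ≠ 22 := by
  intro hn
  have h3 : Fact (Nat.Prime 3) := ⟨by norm_num⟩
  have hpp : ∀ d, d ∣ 22 → IsPrimePow d → d % 3 ≠ 1 := by
    intro d hd hpp
    rcases dvd_22 hd with rfl | rfl | rfl | rfl
    · exact absurd hpp not_isPrimePow_one
    · norm_num
    · norm_num
    · exact absurd hpp not_isPrimePow_22
  have hdiv : ∀ d, d ∣ 22 → d % 3 = 1 → d = 1 ∨ d = 22 := by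
    intro d hd hmod
    rcases dvd_22 hd with rfl | rfl | rfl | rfl <;> omega
  obtain ⟨S, iG, iF, hS, hnS⟩ :=
    Cfsg.Agent.Lib.Helper45_SylowReduce.exists_simple_of_card_sylow (G := G) 3 22 hn
      (by norm_num) hpp hdiv
  exact Cfsg.Agent.Lib.Helper9_Syl22.false_of_card_three hS hnS
    (fun P => Cfsg.Agent.Lib.Helper9_Syl22.card_eq_three_of_card_sylow hS hnS P)

end Cfsg.Agent.S4346
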