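import Cfsg.Statements.S4347

set_option autoImplicit false
open Cfsg
open scoped Pointwise

namespace Cfsg.Agent.S4347

theorem result {G : Type*} [Group G] [Finite G]
    (p : ℕ) [Fact p.Prime] :
    (¬ ∃ Q : Sylow p G, ∀ x : G, (∃ k : ℕ, orderOf x = p ^ k) → ∃ P : Sylow p G, P ≠ Q ∧ x ∈ P) ↔
      ∃ x : G, (∃ k : ℕ, orderOf x = p ^ k) ∧ ∃! P : Sylow p G, x ∈ P := by
  constructor
  · intro h
    push Not at h
    obtain ⟨Q⟩ : Nonempty (Sylow p G) := inferInstance
    obtain ⟨x, hx, hQ⟩ := h Q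
    refine ⟨x, hx, ?_⟩
    obtain ⟨k, hk⟩ := hx
    have hz : IsPGroup p (Subgroup.zpowers x) := by
      rw [IsPGroup.iff_card, Nat.card_zpowers, hk]
      exact ⟨k, rfl⟩
    obtain ⟨P, hP⟩ := hz.exists_le_sylow
    have hxP : x ∈ P := hP (Subgroup.mem_zpowers x)
    refine ⟨P, hxP, ?_⟩
    intro P' hP'
    have h1 : P = Q := by
      by_contra hPQ
      exact hQ P hPQ hxP
    have h2 : P' = Q := by
      by_contra hPQ
      exact hQ P' hPQ hP'
    exact h2.trans h1.symm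
  · rintro ⟨x, hx, P0, hxP0, huniq⟩ ⟨Q, hQ⟩
    obtain ⟨g, hg⟩ := MulAction.exists_smul_eq G P0 Q
    -- y = g x g⁻¹
    have hy : ∃ k : ℕ, orderOf (g * x * g⁻¹) = p ^ k := by
      obtain ⟨k, hk⟩ := hx
      refine ⟨k, ?_⟩
      have := (MulAut.conj g).orderOf_eq x
      rw [MulAut.conj_apply] at this
      rw [this, hk]
    obtain ⟨P, hPQ, hyP⟩ := hQ _ hy
    apply hPQ
    -- g⁻¹ • P contains x
    have hx' : x ∈ (g⁻¹ • P : Sylow p G) := by
      have : x ∈ MulAut.conj g⁻¹ • (P : Subgroup G) := by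
        rw [Subgroup.mem_pointwise_smul_iff_inv_smul_mem]
        have h3 : g * x * g⁻¹ ∈ (P : Subgroup G) := hyP
        simpa [MulAut.smul_def, mul_assoc] using h3
      exact this
    have := huniq _ hx'
    rw [← hg, ← this, smul_inv_smul]

end Cfsg.Agent.S4347
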