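import Cfsg.Statements.S4348

set_option autoImplicit false
open Cfsg
open scoped Pointwise

namespace Cfsg.Agent.S4348

theorem normal_pgroup_le_sylow {G : Type*} [Group G] [Finite G] (p : ℕ) [Fact p.Prime]
    (N : Subgroup G) (hN : N.Normal) (hp : IsPGroup p N) (Q : Sylow p G) : N ≤ Q := by
  obtain ⟨P, hP⟩ := hp.exists_le_sylow
  obtain ⟨g, hg⟩ := MulAction.exists_smul_eq G P Q
  intro x hx
  have h1 : g⁻¹ * x * g ∈ N := by
    have := hN.conj_mem x hx g⁻¹
    simpa using this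
  have h2 : g⁻¹ * x * g ∈ (P : Subgroup G) := hP h1
  have h3 : x ∈ MulAut.conj g • (P : Subgroup G) := by
    rw [Subgroup.mem_pointwise_smul_iff_inv_smul_mem]
    simpa [MulAut.smul_def, mul_assoc] using h2
  rw [← hg]
  exact h3

theorem pCore_le_sylow {G : Type*} [Group G] [Finite G] (p : ℕ) [Fact p.Prime]
    (Q : Sylow p G) : Cfsg.pCore p G ≤ Q := by
  unfold Cfsg.pCore
  apply sSup_le
  rintro N ⟨hN, hp⟩
  exact normal_pgroup_le_sylow p N hN hp Q

theorem result {G : Type*} [Group G] [Finite G]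
    (p : ℕ) [Fact p.Prime] (P : Sylow p G)
    [hn : ((Cfsg.pCore p G).subgroupOf (P : Subgroup G)).Normal]
    (hc : IsCyclic ((P : Subgroup G) ⧸ (Cfsg.pCore p G).subgroupOf (P : Subgroup G))) :
    ∃ x : G, (∃ k : ℕ, orderOf x = p ^ k) ∧ ∃! Q : Sylow p G, x ∈ Q := by
  obtain ⟨gbar, hgbar⟩ := hc.exists_generator
  obtain ⟨g, rfl⟩ := QuotientGroup.mk_surjective gbar
  refine ⟨(g : G), ?_, P, g.2, ?_⟩
  · have := P.2 g
    obtain ⟨k, hk⟩ := (IsPGroup.iff_orderOf.mp P.2) g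
    exact ⟨k, by rw [← hk, Subgroup.orderOf_coe]⟩
  · intro Q hQ
    apply Sylow.ext
    apply P.is_maximal' Q.2
    intro y hy
    obtain ⟨k, hk⟩ := Subgroup.mem_zpowers_iff.mp (hgbar (QuotientGroup.mk ⟨y, hy⟩))
    rw [← QuotientGroup.mk_zpow, QuotientGroup.eq] at hk
    rw [Subgroup.mem_subgroupOf] at hk
    have h1 := pCore_le_sylow p Q hk
    have h2 : ((g : G) ^ k) ∈ (Q : Subgroup G) := Subgroup.zpow_mem _ hQ k
    have h3 := Subgroup.mul_mem _ h2 h1
    simpa using h3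

end Cfsg.Agent.S4348
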