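import Cfsg.Statements.S4349
import Cfsg.Agent.Lib.Helper20_PermSylow
-- import your own Cfsg.Agent.* helpers here

set_option autoImplicit false
open Cfsg

namespace Cfsg.Agent.S4349

open Equiv Equiv.Perm Cfsg.Agent.Lib.Helper20_PermSylow

/-- Let n ≥ 2 and let x be an element of 2-power order of the symmetric group of degree n. Then x lies in exactly one Sylow 2-subgroup if and only if x has at most two fixed points and the nontrivial cycles of x have pairwise different lengths. -/
theorem result (n : ℕ) (hn : 2 ≤ n)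
    (x : Equiv.Perm (Fin n)) (hx : ∃ k : ℕ, orderOf x = 2 ^ k) :
    (∃! P : Sylow 2 (Equiv.Perm (Fin n)), x ∈ P) ↔ (n ≤ x.support.card + 2 ∧ x.cycleType.Nodup) := by
  classical
  haveI : Fact (Nat.Prime 2) := ⟨Nat.prime_two⟩
  obtain ⟨k, hk⟩ := hx
  have hxk : x ^ (2 ^ k) = 1 := by rw [← hk]; exact pow_orderOf_eq_one x
  constructor
  · rintro ⟨P, hxP, hPuniq⟩
    have hP : ∀ Q : Subgroup (Perm (Fin n)), IsPGroup 2 Q → x ∈ Q → Q ≤ P := by
      intro Q hQ hxQ
      obtain ⟨P', hP'⟩ := hQ.exists_le_sylow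
      have : P' = P := hPuniq P' (hP' hxQ)
      rw [← this]; exact hP'
    constructor
    · by_contra hlt
      push Not at hlt
      have h3 : 2 < x.supportᶜ.card := by
        rw [Finset.card_compl, Fintype.card_fin]; omega
      obtain ⟨a, ha, b, hb, c, hc, hab, hac, hbc⟩ := Finset.two_lt_card.mp h3
      simp only [Finset.mem_compl, mem_support, not_not] at ha hb hc
      exact three_fixed_contra hxk P P.isPGroup' hP ha hb hc hab hac hbc
    · by_contra hnd
      rw [cycleType_def, Multiset.nodup_map_iff_inj_on x.cycleFactorsFinset.nodup] at hnd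
      push Not at hnd
      obtain ⟨c₁, h1, c₂, h2, hcard, hne⟩ := hnd
      exact equal_cycles_contra hxk P P.isPGroup' hP h1 h2 hne hcard
  · rintro ⟨h1, h2⟩
    have hgood : Good x := good_of_nodup ⟨k, hk⟩ (by rw [Fintype.card_fin]; exact h1) h2
    obtain ⟨T, hT, hT'⟩ := hgood.exists_max
    obtain ⟨P, hP⟩ := (isPGroup_zpowers_of_pow_eq_one hxk).exists_le_sylow
    have hxP : x ∈ P := hP (Subgroup.mem_zpowers x)
    refine ⟨P, hxP, ?_⟩
    intro P' hxP'
    have e1 : T = P := P.is_maximal' hT (hT' P P.isPGroup' hxP)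
    have e2 : T = P' := P'.is_maximal' hT (hT' P' P'.isPGroup' hxP')
    exact Sylow.ext (e2.symm.trans e1)

end Cfsg.Agent.S4349
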