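import Cfsg.Statements.S4354
import Cfsg.Agent.Lib.Helper51_Local

set_option autoImplicit false
open Cfsg

namespace Cfsg.Agent.S4354

open Cfsg.Agent.Lib.Helper33_Conj Cfsg.Agent.Lib.Helper33_Alperin

/-- every `p`-element has a conjugacy class of size prime to `p` -/
def HypP (p : ℕ) (G : Type*) [Group G] : Prop :=
  ∀ x : G, (∃ k : ℕ, orderOf x = p ^ k) → ¬ p ∣ (Subgroup.centralizer ({x} : Set G)).index

section Transfer

variable {G : Type*} [Group G] {p : ℕ} [hp : Fact p.Prime]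

theorem exists_orderOf_of_mem {P : Subgroup G} (hP : IsPGroup p P) {x : G} (hx : x ∈ P) :
    ∃ k : ℕ, orderOf x = p ^ k := by
  obtain ⟨k, hk⟩ := hP ⟨x, hx⟩
  have h1 : x ^ p ^ k = 1 := by
    have := congrArg (fun z : P => (z : G)) hk
    simpa using this
  exact (Nat.dvd_prime_pow hp.out).mp (orderOf_dvd_of_pow_eq_one h1) |>.imp fun _ h => h.2

theorem isPGroup_zpowers {x : G} (hx : ∃ k : ℕ, orderOf x = p ^ k) :
    IsPGroup p (Subgroup.zpowers x) := by
  obtain ⟨k, hk⟩ := hx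
  apply IsPGroup.of_card (n := k)
  rw [Nat.card_zpowers, hk]

theorem orderOf_conj' (g x : G) : orderOf (g * x * g⁻¹) = orderOf x :=
  orderOf_injective (MulAut.conj g).toMonoidHom (MulAut.conj g).injective x

/-- transfer of the hypothesis to a subgroup, from the relative-index form -/
theorem hyp_subgroup (H : Subgroup G)
    (hH : ∀ y ∈ H, (∃ k : ℕ, orderOf y = p ^ k) →
      ¬ p ∣ (Subgroup.centralizer ({y} : Set G)).relIndex H) : HypP p H := by
  intro x hx
  have e : Subgroup.centralizer ({x} : Set H) =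
      (Subgroup.centralizer ({(x : G)} : Set G)).subgroupOf H := by
    ext z
    rw [Subgroup.mem_subgroupOf, Subgroup.mem_centralizer_singleton_iff,
      Subgroup.mem_centralizer_singleton_iff]
    constructor
    · intro h
      have := congrArg Subtype.val h
      simpa using this
    · intro h
      exact Subtype.ext (by simpa using h)
  rw [e]
  have hx' : ∃ k : ℕ, orderOf (x : G) = p ^ k := by
    obtain ⟨k, hk⟩ := hx
    exact ⟨k, by rw [Subgroup.orderOf_coe, hk]⟩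
  exact hH x x.2 hx'

variable [Finite G]

/-- an element of class size prime to `p` is centralized by a Sylow `p`-subgroup -/
theorem exists_sylow_le_centralizer {x : G}
    (hodd : ¬ p ∣ (Subgroup.centralizer ({x} : Set G)).index) :
    ∃ Q : Sylow p G, (Q : Subgroup G) ≤ Subgroup.centralizer ({x} : Set G) := by
  obtain ⟨R, -, hRC, hR, hRidx⟩ := Cfsg.Agent.Lib.Helper51_Local.exists_sylow_sub (p := p)
    (bot_le : (⊥ : Subgroup G) ≤ Subgroup.centralizer ({x} : Set G)) IsPGroup.of_bot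
  have hidx : ¬ p ∣ R.index := by
    rw [← Subgroup.relIndex_mul_index hRC]
    intro hdvd
    rcases (Nat.Prime.dvd_mul hp.out).mp hdvd with h | h
    · exact hRidx h
    · exact hodd h
  refine ⟨hR.toSylow hidx, ?_⟩
  rw [IsPGroup.toSylow_coe]
  exact hRC

/-- a `p`-element centralizing a Sylow `p`-subgroup lies in it -/
theorem mem_of_centralizes (P : Sylow p G) {x : G} (hx : ∃ k : ℕ, orderOf x = p ^ k)
    (hc : ∀ q ∈ (P : Subgroup G), q * x = x * q) : x ∈ (P : Subgroup G) := by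
  have h1 := (isPGroup_zpowers hx).inf_normalizer_sylow P
  have h2 : x ∈ Subgroup.zpowers x ⊓ Subgroup.normalizer ((P : Subgroup G) : Set G) := by
    refine ⟨Subgroup.mem_zpowers x, ?_⟩
    show x ∈ Subgroup.normalizer ((P : Subgroup G) : Set G)
    rw [Subgroup.mem_normalizer_iff]
    intro q
    constructor
    · intro hq
      have e : x * q * x⁻¹ = q := by rw [← hc q hq]; group
      rw [e]; exact hq
    · intro hq
      have e0 := hc _ hq
      have e1 : x * q = x * (x * q * x⁻¹) := by rw [← e0]; group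
      have e : q = x * q * x⁻¹ := mul_left_cancel e1
      rw [e]; exact hq
  exact (h1.le h2).2

/-- the hypothesis passes to normal subgroups -/
theorem hyp_normal (hG : HypP p G) (K : Subgroup G) [hKn : K.Normal] : HypP p K := by
  apply hyp_subgroup
  intro y _ hy
  obtain ⟨Q, hQ⟩ := exists_sylow_le_centralizer (hG y hy)
  have hQtop : ¬ p ∣ (Q : Subgroup G).relIndex ⊤ := by
    rw [Subgroup.relIndex_top_right]; exact Q.not_dvd_index
  have hnorm : ∀ m ∈ (⊤ : Subgroup G), cj m K = K := fun m _ =>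
    mem_normalizer_iff_cj.mp (by rw [Subgroup.normalizer_eq_top_iff.mpr hKn]; trivial)
  have h1 := Cfsg.Agent.Lib.Helper51_Local.sylow_inf_normal (p := p) (M := ⊤) (Y := K)
    (S := (Q : Subgroup G)) le_top hnorm le_top Q.2 hQtop
  intro hdvd
  exact h1 (dvd_trans hdvd (Subgroup.relIndex_dvd_of_le_left K (inf_le_left.trans hQ)))

/-- the hypothesis passes to quotients -/
theorem hyp_quotient (hG : HypP p G) (N : Subgroup G) [N.Normal] : HypP p (G ⧸ N) := by
  intro xb hxb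
  obtain ⟨g, rfl⟩ := QuotientGroup.mk_surjective xb
  obtain ⟨k, hk⟩ := hxb
  have hn0 : orderOf g ≠ 0 := (orderOf_pos g).ne'
  obtain ⟨a, m, hm, hn⟩ := Nat.exists_eq_pow_mul_and_not_dvd hn0 p hp.out.ne_one
  have hm0 : m ≠ 0 := by
    rintro rfl; exact hm (dvd_zero p)
  -- the `p`-part of `g`
  have hg' : ∃ j : ℕ, orderOf (g ^ m) = p ^ j := by
    refine ⟨a, ?_⟩
    rw [orderOf_pow, hn]
    have : Nat.gcd (p ^ a * m) m = m := Nat.gcd_eq_right (dvd_mul_left m (p ^ a))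
    rw [this, Nat.mul_div_cancel _ (Nat.pos_of_ne_zero hm0)]
  have hodd := hG _ hg'
  -- `mk g` is a power of `mk (g ^ m)`
  have hcop : m.Coprime (orderOf (g : G ⧸ N)) := by
    rw [hk]
    exact Nat.Coprime.pow_right k ((Nat.Prime.coprime_iff_not_dvd hp.out).mpr hm).symm
  obtain ⟨s, hs⟩ := exists_pow_eq_self_of_coprime hcop
  have hle1 : Subgroup.centralizer ({((g ^ m : G) : G ⧸ N)} : Set (G ⧸ N)) ≤
      Subgroup.centralizer ({(g : G ⧸ N)} : Set (G ⧸ N)) := by
    intro c hc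
    rw [Subgroup.mem_centralizer_singleton_iff] at hc ⊢
    have hc' : Commute c (((g : G ⧸ N)) ^ m) := by
      rw [← QuotientGroup.mk_pow]; exact hc
    have := hc'.pow_right s
    rw [hs] at this
    exact this
  have hle : (Subgroup.centralizer ({g ^ m} : Set G)).map (QuotientGroup.mk' N) ≤
      Subgroup.centralizer ({((g ^ m : G) : G ⧸ N)} : Set (G ⧸ N)) := by
    rintro _ ⟨c, hc, rfl⟩
    rw [Subgroup.mem_centralizer_singleton_iff]
    have hc' : c * g ^ m = g ^ m * c := Subgroup.mem_centralizer_singleton_iff.mp hc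
    show ((c : G ⧸ N)) * ((g ^ m : G) : G ⧸ N) = ((g ^ m : G) : G ⧸ N) * (c : G ⧸ N)
    rw [← QuotientGroup.mk_mul, ← QuotientGroup.mk_mul, hc']
  intro hdvd
  apply hodd
  exact dvd_trans hdvd (dvd_trans (Subgroup.index_dvd_of_le (hle.trans hle1))
    (Subgroup.index_map_dvd _ (QuotientGroup.mk'_surjective N)))

end Transfer

section Ext

variable {G : Type*} [Group G] [Finite G] {p : ℕ} [hp : Fact p.Prime]

/-- key step: every `u ∈ P` is congruent modulo `N` to an element of `Z(P)` -/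
theorem exists_central (hG : HypP p G) (N : Subgroup G) [N.Normal]
    (hGN : ∀ Q : Sylow p (G ⧸ N), ∀ a ∈ (Q : Subgroup (G ⧸ N)), ∀ b ∈ (Q : Subgroup (G ⧸ N)),
      a * b = b * a)
    (P : Sylow p G) {u : G} (hu : u ∈ (P : Subgroup G)) :
    ∃ w ∈ (P : Subgroup G), (∀ q ∈ (P : Subgroup G), q * w = w * q) ∧ w⁻¹ * u ∈ N := by
  obtain ⟨C, hC⟩ : ∃ C : Subgroup G, C = Subgroup.centralizer ({u} : Set G) := ⟨_, rfl⟩
  obtain ⟨Cs, hCs⟩ : ∃ Cs : Subgroup G, Cs =
      (Subgroup.centralizer ({(u : G ⧸ N)} : Set (G ⧸ N))).comap (QuotientGroup.mk' N) := ⟨_, rfl⟩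
  have hmemCs : ∀ g : G, g ∈ Cs ↔ (g : G ⧸ N) * (u : G ⧸ N) = (u : G ⧸ N) * (g : G ⧸ N) := by
    intro g
    rw [hCs, Subgroup.mem_comap, Subgroup.mem_centralizer_singleton_iff]
    rfl
  have hCCs : C ≤ Cs := by
    intro c hc
    rw [hC, Subgroup.mem_centralizer_singleton_iff] at hc
    rw [hmemCs, ← QuotientGroup.mk_mul, ← QuotientGroup.mk_mul, hc]
  have hPCs : (P : Subgroup G) ≤ Cs := by
    intro v hv
    rw [hmemCs]
    have hQp : IsPGroup p ((P : Subgroup G).map (QuotientGroup.mk' N)) := P.2.map _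
    obtain ⟨Qb, hQb⟩ := hQp.exists_le_sylow
    exact hGN Qb _ (hQb (Subgroup.mem_map_of_mem _ hv)) _ (hQb (Subgroup.mem_map_of_mem _ hu))
  have hidx : ¬ p ∣ C.relIndex Cs := by
    intro hdvd
    apply hG u (exists_orderOf_of_mem P.2 hu)
    rw [← hC]
    exact dvd_trans hdvd (Subgroup.relIndex_dvd_index_of_le hCCs)
  obtain ⟨Q, -, hQC, hQ, hQidx⟩ := Cfsg.Agent.Lib.Helper51_Local.exists_sylow_sub (p := p)
    (bot_le : (⊥ : Subgroup G) ≤ C) IsPGroup.of_bot
  have hQidx' : ¬ p ∣ Q.relIndex Cs := by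
    rw [← Subgroup.relIndex_mul_relIndex Q C Cs hQC hCCs]
    intro hdvd
    rcases (Nat.Prime.dvd_mul hp.out).mp hdvd with h | h
    · exact hQidx h
    · exact hidx h
  obtain ⟨m, hm, hmle⟩ := exists_cj_le_of_relIndex (p := p) (hQC.trans hCCs) hQ hQidx' hPCs P.2
  have hcent : ∀ q ∈ (P : Subgroup G), q * (m⁻¹ * u * m) = (m⁻¹ * u * m) * q := by
    intro q hq
    have h1 := hQC (hmle (conj_mem_cj (g := m) hq))
    rw [hC, Subgroup.mem_centralizer_singleton_iff] at h1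
    calc q * (m⁻¹ * u * m) = m⁻¹ * ((m * q * m⁻¹) * u) * m := by group
      _ = m⁻¹ * (u * (m * q * m⁻¹)) * m := by rw [h1]
      _ = (m⁻¹ * u * m) * q := by group
  have hw : ∃ j : ℕ, orderOf (m⁻¹ * u * m) = p ^ j := by
    obtain ⟨j, hj⟩ := exists_orderOf_of_mem P.2 hu
    refine ⟨j, ?_⟩
    have := orderOf_conj' m⁻¹ u
    rw [inv_inv] at this
    rw [this, hj]
  refine ⟨m⁻¹ * u * m, mem_of_centralizes P hw hcent, hcent, ?_⟩
  have h2 := (hmemCs m).mp hm
  rw [← QuotientGroup.eq_one_iff]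
  have h3 : (((m⁻¹ * u * m)⁻¹ * u : G) : G ⧸ N) =
      ((m : G ⧸ N))⁻¹ * ((u : G ⧸ N))⁻¹ * ((m : G ⧸ N) * (u : G ⧸ N)) := by
    simp only [QuotientGroup.mk_mul, QuotientGroup.mk_inv]
    group
  rw [h3, h2]
  group

/-- If every `p`-element has class size prime to `p` and `N`, `G ⧸ N` have abelian Sylow
`p`-subgroups, then so has `G`. -/
theorem ext_comm (hG : HypP p G) (N : Subgroup G) [N.Normal]
    (hN : ∀ Q : Sylow p N, ∀ a ∈ (Q : Subgroup N), ∀ b ∈ (Q : Subgroup N), a * b = b * a)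
    (hGN : ∀ Q : Sylow p (G ⧸ N), ∀ a ∈ (Q : Subgroup (G ⧸ N)), ∀ b ∈ (Q : Subgroup (G ⧸ N)),
      a * b = b * a)
    (P : Sylow p G) {x y : G} (hx : x ∈ (P : Subgroup G)) (hy : y ∈ (P : Subgroup G)) :
    x * y = y * x := by
  obtain ⟨w, hwP, hwc, hwN⟩ := exists_central hG N hGN P hx
  obtain ⟨v, hvP, hvc, hvN⟩ := exists_central hG N hGN P hy
  -- a := w⁻¹ x, b := v⁻¹ y lie in `P ∩ N`
  have haP : w⁻¹ * x ∈ (P : Subgroup G) := Subgroup.mul_mem _ (Subgroup.inv_mem _ hwP) hx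
  have hbP : v⁻¹ * y ∈ (P : Subgroup G) := Subgroup.mul_mem _ (Subgroup.inv_mem _ hvP) hy
  have hab : (w⁻¹ * x) * (v⁻¹ * y) = (v⁻¹ * y) * (w⁻¹ * x) := by
    have hA : IsPGroup p (((P : Subgroup G) ⊓ N).subgroupOf N) :=
      (P.2.to_le inf_le_left).comap_subtype
    obtain ⟨Q, hQ⟩ := hA.exists_le_sylow
    have h1 : (⟨w⁻¹ * x, hwN⟩ : N) ∈ (Q : Subgroup N) :=
      hQ (by rw [Subgroup.mem_subgroupOf]; exact ⟨haP, hwN⟩)
    have h2 : (⟨v⁻¹ * y, hvN⟩ : N) ∈ (Q : Subgroup N) :=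
      hQ (by rw [Subgroup.mem_subgroupOf]; exact ⟨hbP, hvN⟩)
    exact congrArg Subtype.val (hN Q _ h1 _ h2)
  -- central elements commute with everything in `P`
  have e1 : (w⁻¹ * x) * v = v * (w⁻¹ * x) := hvc _ haP
  have e2 : (v⁻¹ * y) * w = w * (v⁻¹ * y) := hwc _ hbP
  have e3 : v * w = w * v := hwc _ hvP
  calc x * y = w * ((w⁻¹ * x) * v) * (v⁻¹ * y) := by group
    _ = w * (v * (w⁻¹ * x)) * (v⁻¹ * y) := by rw [e1]
    _ = (w * v) * ((w⁻¹ * x) * (v⁻¹ * y)) := by group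
    _ = (v * w) * ((v⁻¹ * y) * (w⁻¹ * x)) := by rw [hab, e3]
    _ = v * (w * (v⁻¹ * y)) * (w⁻¹ * x) := by group
    _ = v * ((v⁻¹ * y) * w) * (w⁻¹ * x) := by rw [e2]
    _ = y * x := by group

end Ext


/-- Let G be a finite group and p a prime such that the Sylow p-subgroups of G are non-abelian while every element of p-power order has conjugacy class size prime to p, and suppose no nontrivial proper normal subgroup N of G has this property and no quotient G/N by such an N has it. Then G is simple. -/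
theorem result {G : Type*} [Group G] [Finite G]
    (p : ℕ) [Fact p.Prime] (h : ((∃ P : Sylow p G, ¬ IsMulCommutative P) ∧ ∀ x : G, (∃ k : ℕ, orderOf x = p ^ k) → ¬ p ∣ (Subgroup.centralizer ({x} : Set G)).index))
    (hmin : ∀ (N : Subgroup G) [N.Normal], N ≠ ⊥ → N ≠ ⊤ →
      ¬ ((∃ P : Sylow p N, ¬ IsMulCommutative P) ∧ ∀ x : N, (∃ k : ℕ, orderOf x = p ^ k) → ¬ p ∣ (Subgroup.centralizer ({x} : Set N)).index) ∧
      ¬ ((∃ P : Sylow p (G ⧸ N), ¬ IsMulCommutative P) ∧ ∀ x : (G ⧸ N), (∃ k : ℕ, orderOf x = p ^ k) → ¬ p ∣ (Subgroup.centralizer ({x} : Set (G ⧸ N))).index)) :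
    IsSimpleGroup G := by
  obtain ⟨⟨P, hP⟩, hG⟩ := h
  have hnt : Nontrivial G := by
    by_contra hcon
    rw [not_nontrivial_iff_subsingleton] at hcon
    apply hP
    exact ⟨⟨fun a b => Subsingleton.elim _ _⟩⟩
  refine { exists_pair_ne := hnt.exists_pair_ne, eq_bot_or_eq_top_of_normal := fun N hN => ?_ }
  by_contra hcon
  rw [not_or] at hcon
  obtain ⟨h1, h2⟩ := hmin N hcon.1 hcon.2
  have hN' : ∀ Q : Sylow p N, ∀ a ∈ (Q : Subgroup N), ∀ b ∈ (Q : Subgroup N), a * b = b * a := by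
    intro Q a ha b hb
    by_contra hab
    apply h1
    refine ⟨⟨Q, fun hc => hab ?_⟩, hyp_normal hG N⟩
    exact congrArg Subtype.val (hc.is_comm.comm ⟨a, ha⟩ ⟨b, hb⟩)
  have hGN' : ∀ Q : Sylow p (G ⧸ N), ∀ a ∈ (Q : Subgroup (G ⧸ N)),
      ∀ b ∈ (Q : Subgroup (G ⧸ N)), a * b = b * a := by
    intro Q a ha b hb
    by_contra hab
    apply h2
    refine ⟨⟨Q, fun hc => hab ?_⟩, hyp_quotient hG N⟩
    exact congrArg Subtype.val (hc.is_comm.comm ⟨a, ha⟩ ⟨b, hb⟩)
  apply hP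
  exact ⟨⟨fun a b => Subtype.ext (ext_comm hG N hN' hGN' P a.2 b.2)⟩⟩

end Cfsg.Agent.S4354
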