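import Cfsg.Statements.S4359
import Cfsg.Agent.Lib.Helper84_TutteDefs
import Cfsg.Agent.Lib.Helper84_TutteAPI
import Cfsg.Agent.Lib.Helper84_GlDefs
import Cfsg.Agent.Lib.Helper84_GlAPI
import Cfsg.Agent.Lib.Helper25_Gl_BR1
import Cfsg.Agent.Lib.Helper25_Gl_BR2
import Cfsg.Agent.Lib.Helper2_Gl_GB
import Cfsg.Agent.Lib.Helper2_Gl_GD
import Cfsg.Agent.Lib.Helper31_Gl_GCBOT
import Cfsg.Agent.Lib.Helper31_Gl_GLAM
import Cfsg.Agent.Lib.Helper41_Gl_GCSTAB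
import Cfsg.Agent.Lib.Helper53_Gl_GC_GEN
import Cfsg.Agent.Lib.Helper5_Gl_GCIDX
import Cfsg.Agent.Lib.Helper5_Gl_GCNRM
import Cfsg.Agent.Lib.Helper82_Gl_GA
import Cfsg.Agent.Lib.Helper84_Gl_GCSYS

set_option autoImplicit false
open Pointwise
open Cfsg

namespace Cfsg.Agent.S4359

open scoped commutatorElement
open Cfsg.Agent.Lib.Helper84_TutteDefs Cfsg.Agent.Lib.Helper84_GlDefs

theorem result {G : Type*} [Group G] [Finite G]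
    (P : Subgroup G) (g : G) (p : ℕ) (hp : p.Prime)
    (hN : ((P ⊓ MulAut.conj g⁻¹ • P).subgroupOf (MulAut.conj g⁻¹ • P)).Normal)
    (hidx : (P ⊓ MulAut.conj g⁻¹ • P).relIndex (MulAut.conj g⁻¹ • P) = p)
    (n : ℕ) (hn : 1 ≤ n) (K : Subgroup G) (hK : K = ⨆ i ∈ Finset.range (n + 1), MulAut.conj (g ^ i)⁻¹ • P)
    (h1 : ∀ Q : Subgroup G, Q ≤ P → (Q.subgroupOf P).Normal → MulAut.conj g • Q = Q → Q = ⊥)
    (h2 : P ⊓ (Subgroup.center K).map K.subtype = ⊥) :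
    ∃ t : ℕ, Nat.card P = p ^ t ∧ 1 ≤ t ∧ t ≤ 3 * n ∧ t ≠ 3 * n - 1 := by
  have hc : PChainHyp P g⁻¹ p := Cfsg.Agent.Lib.Helper25_Gl_BR1.pchainHyp_of P g p hp hN hidx h1
  have hnrm := Cfsg.Agent.Lib.Helper5_Gl_GCNRM.chain_normal hc
  obtain ⟨hidx0, hidxk⟩ := Cfsg.Agent.Lib.Helper5_Gl_GCIDX.pchain_index hc
  obtain ⟨t, hd⟩ := Cfsg.Agent.Lib.Helper41_Gl_GCSTAB.exists_pchainData hc hidx0 hidxk
  have hgen := Cfsg.Agent.Lib.Helper53_Gl_GC_GEN.pchain_gen hc hd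
  have ht := hd.one_le
  have hgenP : ⨆ l ∈ Finset.range t, RI P g⁻¹ (-(l : ℤ)) ((t : ℤ) - 1 - l) = P := by
    obtain ⟨t', rfl⟩ : ∃ t' : ℕ, t = t' + 1 := ⟨t - 1, by omega⟩
    have := hgen t' le_rfl
    rw [this]
    have e : (((t' + 1 : ℕ) : ℤ) - 1 - (t' : ℤ)) = 0 := by push_cast; ring
    rw [e]
    unfold RI RS
    simp [cj_one]
  have hbot := Cfsg.Agent.Lib.Helper31_Gl_GCBOT.pchain_bot hc hd hnrm hgenP
  obtain ⟨x0, h⟩ := Cfsg.Agent.Lib.Helper84_Gl_GCSYS.exists_psys hc hd hbot hgen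
  have hZ := Cfsg.Agent.Lib.Helper25_Gl_BR2.center_hyp h n K hK h2
  obtain ⟨lam, hlam, hl⟩ := Cfsg.Agent.Lib.Helper31_Gl_GLAM.exists_lam_of_center h n hZ
  have hA := Cfsg.Agent.Lib.Helper82_Gl_GA.lam_A h hl n hZ
  have hpos := hl.pos
  refine ⟨t, h.card_P, ht, ?_⟩
  by_cases hlt : lam + 1 ≤ t
  · have hB := Cfsg.Agent.Lib.Helper2_Gl_GB.lam_B h hl hlt (fun j a b c => Cfsg.Agent.Lib.Helper2_Gl_GD.pcent_D h hl hlt j a b c)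
    omega
  · omega

end Cfsg.Agent.S4359
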