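import Cfsg.Statements.S4365

set_option autoImplicit false
open Cfsg

namespace Cfsg.Agent.S4365

open Subgroup

section
variable {P : Type*} [Group P]

/-- `C u` is the centralizer of the element `u`. -/
abbrev C (u : P) : Subgroup P := centralizer ({u} : Set P)

theorem mem_C {u g : P} : g ∈ C u ↔ u * g = g * u := by
  rw [mem_centralizer_iff]
  simp

theorem self_mem_C (u : P) : u ∈ C u := mem_C.mpr rfl

theorem center_le_C (u : P) : center P ≤ C u := by
  intro z hz
  rw [mem_C]
  exact (mem_center_iff.mp hz u)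

theorem conj_central {c : P} (hc : c ∈ center P) (t : P) : t * c * t⁻¹ = c := by
  have h : t * c = c * t := mem_center_iff.mp hc t
  rw [h]; group

theorem conj_central' {c : P} (hc : c ∈ center P) (t : P) : t⁻¹ * c * t = c := by
  have h := conj_central hc t⁻¹
  rwa [inv_inv] at h

theorem central_conj {c : P} (hc : c ∈ center P) (t : P) : c * t * c⁻¹ = t := by
  have h : t * c = c * t := mem_center_iff.mp hc t
  rw [← h]; group

/-- if `g y g⁻¹ = z y` with `z` central then `g y^n g⁻¹ = z^n y^n` -/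
theorem conj_pow_right {g y z : P} (hz : z ∈ center P) (h : g * y * g⁻¹ = z * y) (n : ℕ) :
    g * y ^ n * g⁻¹ = z ^ n * y ^ n := by
  have h1 : g * y ^ n * g⁻¹ = (g * y * g⁻¹) ^ n := (conj_pow (a := g) (b := y) (i := n)).symm
  rw [h1, h]
  have hc : Commute z y := (mem_center_iff.mp hz y).symm
  exact hc.mul_pow n

/-- if `g y g⁻¹ = z y` with `z` central then `g^n y g^{-n} = z^n y` -/
theorem conj_pow_left {g y z : P} (hz : z ∈ center P) (h : g * y * g⁻¹ = z * y) (n : ℕ) :
    g ^ n * y * (g ^ n)⁻¹ = z ^ n * y := by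
  induction n with
  | zero => simp
  | succ n ih =>
    have e : g ^ (n + 1) * y * (g ^ (n + 1))⁻¹ = g * (g ^ n * y * (g ^ n)⁻¹) * g⁻¹ := by
      rw [pow_succ']; group
    rw [e, ih]
    have e2 : g * (z ^ n * y) * g⁻¹ = z ^ n * (g * y * g⁻¹) := by
      have hc : z ^ n * g = g * z ^ n :=
        ((mem_center_iff.mp (Subgroup.pow_mem _ hz n)) g).symm
      calc g * (z ^ n * y) * g⁻¹ = (g * z ^ n) * y * g⁻¹ := by group
        _ = (z ^ n * g) * y * g⁻¹ := by rw [hc]
        _ = z ^ n * (g * y * g⁻¹) := by group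
    rw [e2, h, pow_succ]
    group

end

section Main
variable {P : Type*} [Group P] [Finite P] {p : ℕ} [Fact p.Prime] (hP : IsPGroup p P) {a : ℕ}
  (ha : 1 ≤ a) (hcs : ∀ u : P, u ∉ center P → (C u).index = p ^ a)

include hcs in
theorem C_eq_of_le {u v : P} (hu : u ∉ center P) (hv : v ∉ center P) (h : C u ≤ C v) :
    C u = C v := by
  have h1 := Subgroup.relIndex_mul_index h
  rw [hcs u hu, hcs v hv] at h1
  have hpos : 0 < p ^ a := pow_pos (Fact.out : p.Prime).pos a
  have h2 : (C u).relIndex (C v) = 1 := by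
    have : (C u).relIndex (C v) * p ^ a = 1 * p ^ a := by rw [one_mul]; exact h1
    exact Nat.eq_of_mul_eq_mul_right hpos this
  exact le_antisymm h (Subgroup.relIndex_eq_one.mp h2)

/-- `y` lies in the second centre -/
def IsZ2 (y : P) : Prop := ∀ g : P, g * y * g⁻¹ * y⁻¹ ∈ center P

theorem pow_notMem_center {u : P} {n : ℕ} (h : u ^ n ∉ center P) : u ∉ center P :=
  fun hu => h (Subgroup.pow_mem _ hu n)

theorem C_le_C_pow (u : P) (n : ℕ) : C u ≤ C (u ^ n) := by
  intro g hg
  rw [mem_C] at hg ⊢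
  exact ((Commute.pow_left (show Commute u g from hg) n)).eq

include hP hcs in
/-- (A): `Z₂/Z` has exponent `p` -/
theorem z2_pow (y : P) (hy2 : IsZ2 y) : y ^ p ∈ center P := by
  by_contra hyp
  have hy : y ∉ center P := pow_notMem_center hyp
  have hCy : C y = C (y ^ p) := C_eq_of_le hcs hy hyp (C_le_C_pow y p)
  -- some g not commuting with y
  obtain ⟨g, hg⟩ : ∃ g : P, g * y ≠ y * g := by
    by_contra hall
    push Not at hall
    exact hy (mem_center_iff.mpr hall)
  set z := g * y * g⁻¹ * y⁻¹ with hz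
  have hzc : z ∈ center P := hy2 g
  have hgy : g * y * g⁻¹ = z * y := by rw [hz]; group
  have hz1 : z ≠ 1 := by
    intro h1
    rw [h1, one_mul] at hgy
    apply hg
    calc g * y = (g * y * g⁻¹) * g := by group
      _ = y * g := by rw [hgy]
  obtain ⟨k, hk⟩ := (IsPGroup.iff_orderOf.mp hP) z
  have hk0 : k ≠ 0 := by
    rintro rfl
    rw [pow_zero, orderOf_eq_one_iff] at hk
    exact hz1 hk
  obtain ⟨j, rfl⟩ := Nat.exists_eq_succ_of_ne_zero hk0
  -- g' = g^(p^j), z' = z^(p^j)
  have h1 := conj_pow_left hzc hgy (p ^ j)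
  have hz'c : z ^ (p ^ j) ∈ center P := Subgroup.pow_mem _ hzc _
  have hz'1 : z ^ (p ^ j) ≠ 1 := by
    apply pow_ne_one_of_lt_orderOf (pow_pos (Fact.out : p.Prime).pos j).ne'
    rw [hk]
    exact Nat.pow_lt_pow_right (Fact.out : p.Prime).one_lt (Nat.lt_succ_self j)
  have hz'p : (z ^ (p ^ j)) ^ p = 1 := by
    rw [← pow_mul, ← pow_succ, ← hk, pow_orderOf_eq_one]
  have h2 := conj_pow_right hz'c h1 p
  rw [hz'p, one_mul] at h2
  -- g' ∈ C (y^p) = C y
  have h3 : g ^ (p ^ j) ∈ C (y ^ p) := by
    rw [mem_C]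
    calc y ^ p * g ^ (p ^ j) = (g ^ (p ^ j) * y ^ p * (g ^ (p ^ j))⁻¹) * g ^ (p ^ j) := by rw [h2]
      _ = g ^ (p ^ j) * y ^ p := by group
  rw [← hCy, mem_C] at h3
  apply hz'1
  have h4 : g ^ (p ^ j) * y * (g ^ (p ^ j))⁻¹ = y := by
    rw [← h3]; group
  rw [h4] at h1
  exact (mul_eq_right.mp h1.symm)

include hP hcs in
/-- (B)+(C): if `x^p ∉ Z` then every noncentral `y ∈ Z₂` has `C y = C x` -/
theorem C_z2_eq (x y : P) (hx : x ^ p ∉ center P) (hy2 : IsZ2 y) (hy : y ∉ center P) :
    C y = C x := by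
  have hxz : x ∉ center P := pow_notMem_center hx
  have hCx : C x = C (x ^ p) := C_eq_of_le hcs hxz hx (C_le_C_pow x p)
  have hyp : y ^ p ∈ center P := z2_pow hP hcs y hy2
  -- (B) x and y commute
  have hxy : x * y = y * x := by
    set z := x * y * x⁻¹ * y⁻¹ with hz
    have hzc : z ∈ center P := hy2 x
    have hgy : x * y * x⁻¹ = z * y := by rw [hz]; group
    have h1 := conj_pow_right hzc hgy p
    have h2 : x * y ^ p * x⁻¹ = y ^ p := by
      rw [(mem_center_iff.mp hyp x)]; group
    rw [h2] at h1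
    have hzp : z ^ p = 1 := (mul_eq_right.mp h1.symm)
    have h3 := conj_pow_left hzc hgy p
    rw [hzp, one_mul] at h3
    have h4 : y ∈ C (x ^ p) := by
      rw [mem_C]
      calc x ^ p * y = (x ^ p * y * (x ^ p)⁻¹) * x ^ p := by group
        _ = y * x ^ p := by rw [h3]
    rw [← hCx, mem_C] at h4
    exact h4
  -- (C)
  have hxyp : (x * y) ^ p = x ^ p * y ^ p := (show Commute x y from hxy).mul_pow p
  have hxyp_nc : (x * y) ^ p ∉ center P := by
    intro h
    apply hx
    have : x ^ p = (x * y) ^ p * (y ^ p)⁻¹ := by rw [hxyp]; group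
    rw [this]
    exact Subgroup.mul_mem _ h (Subgroup.inv_mem _ hyp)
  have hxy_nc : x * y ∉ center P := pow_notMem_center hxyp_nc
  have h5 : C (x * y) = C ((x * y) ^ p) := C_eq_of_le hcs hxy_nc hxyp_nc (C_le_C_pow _ p)
  have h6 : C ((x * y) ^ p) = C (x ^ p) := by
    ext g
    rw [mem_C, mem_C, hxyp]
    have hc : y ^ p * g = g * y ^ p := (mem_center_iff.mp hyp g).symm
    constructor
    · intro h
      have : x ^ p * g * y ^ p = g * x ^ p * y ^ p := by
        calc x ^ p * g * y ^ p = x ^ p * (g * y ^ p) := by group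
          _ = x ^ p * (y ^ p * g) := by rw [hc]
          _ = x ^ p * y ^ p * g := by group
          _ = g * (x ^ p * y ^ p) := h
          _ = g * x ^ p * y ^ p := by group
      exact mul_right_cancel this
    · intro h
      calc x ^ p * y ^ p * g = x ^ p * (y ^ p * g) := by group
        _ = x ^ p * (g * y ^ p) := by rw [hc]
        _ = (x ^ p * g) * y ^ p := by group
        _ = (g * x ^ p) * y ^ p := by rw [h]
        _ = g * (x ^ p * y ^ p) := by group
  have h7 : C (x * y) = C x := by rw [h5, h6, ← hCx]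
  have hle : C x ≤ C y := by
    intro g hg
    have hg2 : g ∈ C (x * y) := by rw [h7]; exact hg
    rw [mem_C] at hg hg2 ⊢
    -- y = x⁻¹ (x y)
    calc y * g = x⁻¹ * ((x * y) * g) := by group
      _ = x⁻¹ * (g * (x * y)) := by rw [hg2]
      _ = x⁻¹ * (g * x) * y := by group
      _ = x⁻¹ * (x * g) * y := by rw [hg]
      _ = g * y := by group
  exact (C_eq_of_le hcs hxz hy hle).symm

include hP in
/-- existence of a noncentral element of the second centre -/
theorem exists_z2 (hnc : ∃ u : P, u ∉ center P) : ∃ y : P, IsZ2 y ∧ y ∉ center P := by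
  obtain ⟨u, hu⟩ := hnc
  have hq : IsPGroup p (P ⧸ center P) := hP.to_quotient (center P)
  have hnt : Nontrivial (P ⧸ center P) := by
    refine ⟨⟨QuotientGroup.mk u, 1, ?_⟩⟩
    intro h
    exact hu ((QuotientGroup.eq_one_iff u).mp h)
  have hcn := hq.center_nontrivial
  obtain ⟨⟨ybar, hybar⟩, hne⟩ := exists_ne (1 : center (P ⧸ center P))
  obtain ⟨y, rfl⟩ := QuotientGroup.mk_surjective ybar
  refine ⟨y, ?_, ?_⟩
  · intro g
    rw [← QuotientGroup.eq_one_iff]
    simp only [QuotientGroup.mk_mul, QuotientGroup.mk_inv]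
    have := mem_center_iff.mp hybar (QuotientGroup.mk g)
    rw [this]
    group
  · intro hy
    apply hne
    apply Subtype.ext
    exact (QuotientGroup.eq_one_iff y).mpr hy

include hP hcs in
theorem pow_mem_center (x : P) : x ^ p ∈ center P := by
  by_contra hx
  have hxz : x ∉ center P := pow_notMem_center hx
  have hCx : C x = C (x ^ p) := C_eq_of_le hcs hxz hx (C_le_C_pow x p)
  obtain ⟨y0, hy2, hy0⟩ := exists_z2 hP ⟨x, hxz⟩
  have hA : C y0 = C x := C_z2_eq hP hcs x y0 hx hy2 hy0
  -- (D)
  have hD : ∀ g : P, g ∉ C x → g ^ p ∈ center P := by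
    intro g hg
    by_contra hgp
    have h1 := C_z2_eq hP hcs g y0 hgp hy2 hy0
    apply hg
    rw [← hA, h1]
    exact self_mem_C g
  -- (J-inj)
  have hJ : ∀ k : P, k * x * k⁻¹ * x⁻¹ ∈ center P → k ∈ C x := by
    intro k hk
    by_contra hkA
    have hkp := hD k hkA
    set z := k * x * k⁻¹ * x⁻¹ with hz
    have hgy : k * x * k⁻¹ = z * x := by rw [hz]; group
    have h1 := conj_pow_left hk hgy p
    have h2 : k ^ p * x * (k ^ p)⁻¹ = x := central_conj hkp x
    rw [h2] at h1
    have hzp : z ^ p = 1 := (mul_eq_right.mp h1.symm)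
    have h3 := conj_pow_right hk hgy p
    rw [hzp, one_mul] at h3
    apply hkA
    rw [hCx, mem_C]
    calc x ^ p * k = (k * x ^ p * k⁻¹)⁻¹⁻¹ * k := by rw [h3]; group
      _ = k * x ^ p := by group
  -- normality of A = C y0
  have hAn : ∀ c ∈ C x, ∀ k : P, k * c * k⁻¹ ∈ C x := by
    intro c hc k
    rw [← hA] at hc ⊢
    rw [mem_C] at hc ⊢
    set w := k⁻¹ * y0 * k⁻¹⁻¹ * y0⁻¹ with hw
    have hwc : w ∈ center P := hy2 k⁻¹
    have e1 : k⁻¹ * y0 * k = w * y0 := by rw [hw]; group
    have hwk : w * k = k * w := (mem_center_iff.mp hwc k).symm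
    have hwc' : w * c = c * w := (mem_center_iff.mp hwc c).symm
    have e2 : y0 * k = k * (w * y0) := by rw [← e1]; group
    have e3 : k⁻¹ * y0 = w * y0 * k⁻¹ := by rw [← e1]; group
    calc y0 * (k * c * k⁻¹) = (y0 * k) * c * k⁻¹ := by group
      _ = k * (w * y0) * c * k⁻¹ := by rw [e2]
      _ = k * w * (y0 * c) * k⁻¹ := by group
      _ = k * w * (c * y0) * k⁻¹ := by rw [hc]
      _ = k * (w * c) * y0 * k⁻¹ := by group
      _ = k * (c * w) * y0 * k⁻¹ := by rw [hwc']
      _ = k * c * (w * y0 * k⁻¹) := by group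
      _ = k * c * (k⁻¹ * y0) := by rw [e3]
      _ = k * c * k⁻¹ * y0 := by group
  -- some g outside A
  obtain ⟨g, hg⟩ : ∃ g : P, g ∉ C x := by
    by_contra hall
    push Not at hall
    apply hxz
    rw [mem_center_iff]
    intro g
    exact (mem_C.mp (hall g)).symm
  set B := centralizer ((C x : Subgroup P) : Set P) with hB
  have hxB : x ∈ B := by
    rw [hB, mem_centralizer_iff]
    intro c hc
    exact (mem_C.mp hc).symm
  have hZB : center P ≤ B := center_le_centralizer _
  have hconjB : ∀ k : P, k * x * k⁻¹ ∈ B := by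
    intro k
    rw [hB, mem_centralizer_iff]
    intro c hc
    have h1 := hAn c hc k⁻¹
    rw [mem_C] at h1
    calc c * (k * x * k⁻¹) = k * ((k⁻¹ * c * k⁻¹⁻¹) * x) * k⁻¹ := by group
      _ = k * (x * (k⁻¹ * c * k⁻¹⁻¹)) * k⁻¹ := by rw [h1]
      _ = k * x * k⁻¹ * c := by group
  have hBg : B ⊓ C g = center P := by
    apply le_antisymm
    · intro b hb
      obtain ⟨hbB, hbg⟩ := hb
      by_contra hbz
      have hle : C x ≤ C b := by
        intro c hc
        rw [mem_C]
        have hbB' : b ∈ centralizer ((C x : Subgroup P) : Set P) := hbB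
        exact (mem_centralizer_iff.mp hbB' c hc).symm
      have := C_eq_of_le hcs hxz hbz hle
      apply hg
      have hbg' : b ∈ C g := hbg
      rw [this, mem_C]
      exact (mem_C.mp hbg').symm
    · exact le_inf hZB (center_le_C g)
  -- (I)
  have hI : Nat.card B ≤ Nat.card (center P) * p ^ a := by
    have h1 := Subgroup.relIndex_mul_relIndex ⊥ (B ⊓ C g) B bot_le inf_le_left
    rw [Subgroup.relIndex_bot_left, Subgroup.relIndex_bot_left, Subgroup.inf_relIndex_left,
      hBg] at h1
    rw [← h1]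
    apply Nat.mul_le_mul_left
    have hgz : g ∉ center P := fun h => hg (center_le_C x h)
    have h2 : (C g).relIndex B ≤ (C g).relIndex ⊤ := by
      apply Subgroup.relIndex_le_of_le_right le_top
      rw [Subgroup.relIndex_top_right, hcs g hgz]
      exact (pow_pos (Fact.out : p.Prime).pos a).ne'
    rw [Subgroup.relIndex_top_right, hcs g hgz] at h2
    exact h2
  -- (J)
  have hJ' : Nat.card (center P) * p ^ a + Nat.card (center P) ≤ Nat.card B := by
    let f : ((P ⧸ C x) × center P) ⊕ center P → B := fun s =>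
      match s with
      | Sum.inl (q, z) => ⟨q.out * x * q.out⁻¹ * z, Subgroup.mul_mem _ (hconjB q.out) (hZB z.2)⟩
      | Sum.inr z => ⟨z, hZB z.2⟩
    have hf : Function.Injective f := by
      rintro (⟨q, z⟩ | z) (⟨q', z'⟩ | z') h
      · have h' : q.out * x * q.out⁻¹ * z = q'.out * x * q'.out⁻¹ * z' := congrArg Subtype.val h
        have hzc : ∀ w : center P, ∀ t : P, (w : P) * t = t * w := fun w t =>
          (mem_center_iff.mp w.2 t).symm
        set m := q'.out⁻¹ * q.out with hm
        have h1 : m * x * m⁻¹ * x⁻¹ = (z' : P) * (z : P)⁻¹ := by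
          have e1 : q.out * x * q.out⁻¹ = q'.out * x * q'.out⁻¹ * z' * (z : P)⁻¹ := by
            rw [← h']; group
          calc m * x * m⁻¹ * x⁻¹ = q'.out⁻¹ * (q.out * x * q.out⁻¹) * q'.out * x⁻¹ := by
                rw [hm]; group
            _ = q'.out⁻¹ * (q'.out * x * q'.out⁻¹ * z' * (z : P)⁻¹) * q'.out * x⁻¹ := by rw [e1]
            _ = x * (q'.out⁻¹ * ((z' : P) * (z : P)⁻¹) * q'.out) * x⁻¹ := by group
            _ = x * ((z' : P) * (z : P)⁻¹) * x⁻¹ := by
                have hc : ((z' : P) * (z : P)⁻¹) ∈ center P :=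
                  Subgroup.mul_mem _ z'.2 (Subgroup.inv_mem _ z.2)
                rw [conj_central' hc q'.out]
            _ = (z' : P) * (z : P)⁻¹ := by
                have hc : ((z' : P) * (z : P)⁻¹) ∈ center P :=
                  Subgroup.mul_mem _ z'.2 (Subgroup.inv_mem _ z.2)
                exact conj_central hc x
        have hmA : m ∈ C x := by
          apply hJ
          rw [h1]
          exact Subgroup.mul_mem _ z'.2 (Subgroup.inv_mem _ z.2)
        have hq : q' = q := by
          rw [← QuotientGroup.out_eq' q', ← QuotientGroup.out_eq' q, QuotientGroup.eq]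
          exact hmA
        subst hq
        have hz : (z : P) = z' := mul_left_cancel h'
        rw [Subtype.ext hz]
      · exfalso
        have h' : q.out * x * q.out⁻¹ * z = z' := congrArg Subtype.val h
        apply hxz
        have hc : (z' : P) * (z : P)⁻¹ ∈ center P :=
          Subgroup.mul_mem _ z'.2 (Subgroup.inv_mem _ z.2)
        have e : q.out * x * q.out⁻¹ = (z' : P) * (z : P)⁻¹ := by rw [← h']; group
        have e2 : x = q.out⁻¹ * ((z' : P) * (z : P)⁻¹) * q.out := by rw [← e]; group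
        rw [e2, conj_central' hc q.out]
        exact hc
      · exfalso
        have h' : (z : P) = q'.out * x * q'.out⁻¹ * z' := congrArg Subtype.val h
        apply hxz
        have hc : (z : P) * (z' : P)⁻¹ ∈ center P :=
          Subgroup.mul_mem _ z.2 (Subgroup.inv_mem _ z'.2)
        have e : q'.out * x * q'.out⁻¹ = (z : P) * (z' : P)⁻¹ := by rw [h']; group
        have e2 : x = q'.out⁻¹ * ((z : P) * (z' : P)⁻¹) * q'.out := by rw [← e]; group
        rw [e2, conj_central' hc q'.out]
        exact hc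
      · have h'' : ((f (Sum.inr z) : B) : P) = ((f (Sum.inr z') : B) : P) := congrArg Subtype.val h
        have h' : (z : P) = z' := h''
        rw [Subtype.ext h']
    have := Nat.card_le_card_of_injective f hf
    rw [Nat.card_sum, Nat.card_prod, ← Subgroup.index_eq_card, hcs x hxz] at this
    rw [mul_comm]
    exact this
  have hpos : 0 < Nat.card (center P) := Nat.card_pos
  omega

end Main

theorem result {P : Type*} [Group P] [Finite P] (p : ℕ) [Fact p.Prime]
    (hP : IsPGroup p P) (a : ℕ) (ha : 1 ≤ a)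
    (hcs : {k : ℕ | ∃ x : P, (Subgroup.centralizer ({x} : Set P)).index = k} = {1, p ^ a}) (x : P) :
    x ^ p ∈ Subgroup.center P := by
  apply pow_mem_center hP (a := a)
  intro u hu
  have hmem : (C u).index ∈ {k : ℕ | ∃ x : P, (Subgroup.centralizer ({x} : Set P)).index = k} :=
    ⟨u, rfl⟩
  rw [hcs] at hmem
  rcases hmem with h | h
  · exfalso
    apply hu
    rw [Subgroup.index_eq_one, Subgroup.centralizer_eq_top_iff_subset] at h
    exact h (Set.mem_singleton u)
  · exact h

end Cfsg.Agent.S4365
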