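import Cfsg.Statements.S4377

set_option autoImplicit false
open Cfsg

namespace Cfsg.Agent.S4377

open Classical in
/-- The number of solutions of `g ^ n = 1` is the sum over divisors of the numbers of elements of each order. -/
lemma card_pow_eq_one {G : Type*} [Group G] [Finite G] (n : ℕ) (hn : n ≠ 0) :
    Nat.card {g : G // g ^ n = 1} = ∑ d ∈ n.divisors, Nat.card {g : G // orderOf g = d} := by
  have : Fintype G := Fintype.ofFinite G
  have h1 : Nat.card {g : G // g ^ n = 1} = (Finset.univ.filter (fun g : G => g ^ n = 1)).card := by
    rw [Nat.card_eq_fintype_card, Fintype.card_subtype]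
  have h2 : ∀ d, Nat.card {g : G // orderOf g = d} = (Finset.univ.filter (fun g : G => orderOf g = d)).card := by
    intro d
    rw [Nat.card_eq_fintype_card, Fintype.card_subtype]
  rw [h1]
  simp_rw [h2]
  rw [Finset.card_eq_sum_card_fiberwise (f := fun g : G => orderOf g) (t := n.divisors)]
  · apply Finset.sum_congr rfl
    intro d hd
    congr 1
    ext g
    simp only [Finset.mem_filter, Finset.mem_univ, true_and]
    constructor
    · rintro ⟨_, h⟩; exact h
    · intro h
      refine ⟨?_, h⟩
      rw [← orderOf_dvd_iff_pow_eq_one, h]
      exact Nat.dvd_of_mem_divisors hd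
  · intro g hg
    have hg' : g ^ n = 1 := by simpa using hg
    exact Nat.mem_divisors.2 ⟨orderOf_dvd_of_pow_eq_one hg', hn⟩

lemma card_order_zero {G : Type*} [Group G] [Finite G] :
    Nat.card {g : G // orderOf g = 0} = 0 := by
  have : IsEmpty {g : G // orderOf g = 0} := by
    constructor
    rintro ⟨g, hg⟩
    exact (orderOf_pos g).ne' hg
  exact Nat.card_of_isEmpty

lemma card_pow_zero {G : Type*} [Group G] [Finite G] :
    Nat.card {g : G // g ^ 0 = 1} = Nat.card G := by
  apply Nat.card_congr
  exact Equiv.subtypeUnivEquiv (fun g => by simp)

lemma card_pow_card {G : Type*} [Group G] [Finite G] (m : ℕ) :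
    Nat.card {g : G // g ^ (Nat.card G * m) = 1} = Nat.card G := by
  apply Nat.card_congr
  exact Equiv.subtypeUnivEquiv (fun g => by rw [pow_mul, pow_card_eq_one', one_pow])

/-- Two finite groups have the same number of elements of each order if and only if, for every n, they have the same number of elements g with gⁿ = 1. -/
theorem result {G H : Type*} [Group G] [Finite G] [Group H] [Finite H] :
    (∀ n : ℕ, Nat.card {g : G // orderOf g = n} = Nat.card {h : H // orderOf h = n}) ↔
      ∀ n : ℕ, Nat.card {g : G // g ^ n = 1} = Nat.card {h : H // h ^ n = 1} := by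
  constructor
  · intro h
    have hpos : ∀ n : ℕ, n ≠ 0 → Nat.card {g : G // g ^ n = 1} = Nat.card {h : H // h ^ n = 1} := by
      intro n hn
      rw [card_pow_eq_one n hn, card_pow_eq_one n hn]
      exact Finset.sum_congr rfl (fun d _ => h d)
    intro n
    by_cases hn : n = 0
    · subst hn
      rw [card_pow_zero, card_pow_zero]
      have hN : Nat.card G * Nat.card H ≠ 0 :=
        Nat.mul_ne_zero Nat.card_pos.ne' Nat.card_pos.ne'
      have := hpos _ hN
      rw [card_pow_card] at this
      rw [this, mul_comm, card_pow_card]
    · exact hpos n hn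
  · intro h n
    induction n using Nat.strong_induction_on with
    | _ n ih =>
      by_cases hn : n = 0
      · subst hn
        rw [card_order_zero, card_order_zero]
      · have hG := card_pow_eq_one (G := G) n hn
        have hH := card_pow_eq_one (G := H) n hn
        rw [← Nat.cons_self_properDivisors hn, Finset.sum_cons] at hG hH
        have hsum : ∑ d ∈ n.properDivisors, Nat.card {g : G // orderOf g = d}
            = ∑ d ∈ n.properDivisors, Nat.card {g : H // orderOf g = d} :=
          Finset.sum_congr rfl (fun d hd => ih d (Nat.mem_properDivisors.1 hd).2)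
        have := h n
        omega

end Cfsg.Agent.S4377
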