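import Cfsg.Statements.S4376
import Cfsg.Agent.S4377
import Cfsg.Agent.Lib.Helper73_Profile
import Cfsg.Agent.Lib.Helper73_G00
import Cfsg.Agent.Lib.Helper73_G01
import Cfsg.Agent.Lib.Helper73_G02
import Cfsg.Agent.Lib.Helper73_G03
import Cfsg.Agent.Lib.Helper73_G04
import Cfsg.Agent.Lib.Helper73_G05
import Cfsg.Agent.Lib.Helper73_G06
import Cfsg.Agent.Lib.Helper73_G07
import Cfsg.Agent.Lib.Helper73_G08
import Cfsg.Agent.Lib.Helper73_G09
import Cfsg.Agent.Lib.Helper73_G10
import Cfsg.Agent.Lib.Helper73_G11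
import Cfsg.Agent.Lib.Helper73_G12
import Cfsg.Agent.Lib.Helper73_G13
import Cfsg.Agent.Lib.Helper73_G14
import Cfsg.Agent.Lib.Helper73_G15
import Cfsg.Agent.Lib.Helper73_G16
import Cfsg.Agent.Lib.Helper73_G17
import Cfsg.Agent.Lib.Helper73_G18
import Cfsg.Agent.Lib.Helper73_G19
import Cfsg.Agent.Lib.Helper73_G20

set_option autoImplicit false
set_option synthInstance.maxSize 8192
open Cfsg

namespace Cfsg.Agent.S4376

open Cfsg.Agent.Lib Cfsg.Agent.Lib.Helper73_Profile

/-! A solvable and a non-solvable group with the same order type: direct products of small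
permutation groups (one factor being `GL(3,2)`), the counts being verified by computation. -/

instance instSolvablePi (A : Type) [Group A] [Group.IsSolvable A] (k : ℕ) :
    Group.IsSolvable (Fin k → A) := isSolvable_pi A (Fin k)

theorem F_Helper73_G00 (n : ℕ) : F Helper73_G00.K n = pf Helper73_G00.os n := Helper73_G00.F_eq n
theorem F_Helper73_G01 (n : ℕ) : F Helper73_G01.K n = pf Helper73_G01.os n := Helper73_G01.F_eq n
theorem F_Helper73_G02 (n : ℕ) : F Helper73_G02.K n = pf Helper73_G02.os n := Helper73_G02.F_eq n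
theorem F_Helper73_G03 (n : ℕ) : F Helper73_G03.K n = pf Helper73_G03.os n := Helper73_G03.F_eq n
theorem F_Helper73_G04 (n : ℕ) : F Helper73_G04.K n = pf Helper73_G04.os n := Helper73_G04.F_eq n
theorem F_Helper73_G05 (n : ℕ) : F Helper73_G05.K n = pf Helper73_G05.os n := Helper73_G05.F_eq n
theorem F_Helper73_G06 (n : ℕ) : F Helper73_G06.K n = pf Helper73_G06.os n := Helper73_G06.F_eq n
theorem F_Helper73_G07 (n : ℕ) : F Helper73_G07.K n = pf Helper73_G07.os n := Helper73_G07.F_eq n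
theorem F_Helper73_G08 (n : ℕ) : F Helper73_G08.K n = pf Helper73_G08.os n := Helper73_G08.F_eq n
theorem F_Helper73_G09 (n : ℕ) : F Helper73_G09.K n = pf Helper73_G09.os n := Helper73_G09.F_eq n
theorem F_Helper73_G10 (n : ℕ) : F Helper73_G10.K n = pf Helper73_G10.os n := Helper73_G10.F_eq n
theorem F_Helper73_G11 (n : ℕ) : F Helper73_G11.K n = pf Helper73_G11.os n := Helper73_G11.F_eq n
theorem F_Helper73_G12 (n : ℕ) : F Helper73_G12.K n = pf Helper73_G12.os n := Helper73_G12.F_eq n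
theorem F_Helper73_G13 (n : ℕ) : F Helper73_G13.K n = pf Helper73_G13.os n := Helper73_G13.F_eq n
theorem F_Helper73_G14 (n : ℕ) : F Helper73_G14.K n = pf Helper73_G14.os n := Helper73_G14.F_eq n
theorem F_Helper73_G15 (n : ℕ) : F Helper73_G15.K n = pf Helper73_G15.os n := Helper73_G15.F_eq n
theorem F_Helper73_G16 (n : ℕ) : F Helper73_G16.K n = pf Helper73_G16.os n := Helper73_G16.F_eq n
theorem F_Helper73_G17 (n : ℕ) : F Helper73_G17.K n = pf Helper73_G17.os n := Helper73_G17.F_eq n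
theorem F_Helper73_G18 (n : ℕ) : F Helper73_G18.K n = pf Helper73_G18.os n := Helper73_G18.F_eq n
theorem F_Helper73_G19 (n : ℕ) : F Helper73_G19.K n = pf Helper73_G19.os n := Helper73_G19.F_eq n
theorem F_Helper73_G20 (n : ℕ) : F Helper73_G20.K n = pf Helper73_G20.os n := Helper73_G20.F_eq n

/-- The solvable group. -/
abbrev GT : Type := (Fin 6 → Helper73_G02.K) × ((Fin 2 → Helper73_G04.K) × ((Fin 6 → Helper73_G05.K) × ((Fin 3 → Helper73_G07.K) × ((Fin 12 → Helper73_G09.K) × ((Fin 12 → Helper73_G11.K) × ((Fin 6 → Helper73_G13.K) × ((Fin 6 → Helper73_G14.K) × ((Fin 6 → Helper73_G16.K) × ((Fin 4 → Helper73_G19.K) × ((Fin 6 → Helper73_G20.K)))))))))))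

/-- The non-solvable group. -/
abbrev HT : Type := (Fin 6 → Helper73_G00.K) × ((Fin 15 → Helper73_G01.K) × ((Fin 19 → Helper73_G03.K) × ((Fin 12 → Helper73_G06.K) × ((Fin 8 → Helper73_G08.K) × ((Fin 3 → Helper73_G10.K) × ((Fin 12 → Helper73_G12.K) × ((Fin 6 → Helper73_G15.K) × ((Fin 4 → Helper73_G17.K) × ((Fin 6 → Helper73_G18.K))))))))))

/-- Counting function of `GT`. -/
def PG (n : ℕ) : ℕ := pf Helper73_G02.os n ^ 6 * (pf Helper73_G04.os n ^ 2 * (pf Helper73_G05.os n ^ 6 * (pf Helper73_G07.os n ^ 3 * (pf Helper73_G09.os n ^ 12 * (pf Helper73_G11.os n ^ 12 * (pf Helper73_G13.os n ^ 6 * (pf Helper73_G14.os n ^ 6 * (pf Helper73_G16.os n ^ 6 * (pf Helper73_G19.os n ^ 4 * (pf Helper73_G20.os n ^ 6))))))))))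

/-- Counting function of `HT`. -/
def PH (n : ℕ) : ℕ := pf Helper73_G00.os n ^ 6 * (pf Helper73_G01.os n ^ 15 * (pf Helper73_G03.os n ^ 19 * (pf Helper73_G06.os n ^ 12 * (pf Helper73_G08.os n ^ 8 * (pf Helper73_G10.os n ^ 3 * (pf Helper73_G12.os n ^ 12 * (pf Helper73_G15.os n ^ 6 * (pf Helper73_G17.os n ^ 4 * (pf Helper73_G18.os n ^ 6)))))))))

theorem FG (n : ℕ) : F GT n = PG n := by
  simp only [F_prod, F_pi, F_Helper73_G02, F_Helper73_G04, F_Helper73_G05, F_Helper73_G07, F_Helper73_G09, F_Helper73_G11, F_Helper73_G13, F_Helper73_G14, F_Helper73_G16, F_Helper73_G19, F_Helper73_G20, PG]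

theorem FH (n : ℕ) : F HT n = PH n := by
  simp only [F_prod, F_pi, F_Helper73_G00, F_Helper73_G01, F_Helper73_G03, F_Helper73_G06, F_Helper73_G08, F_Helper73_G10, F_Helper73_G12, F_Helper73_G15, F_Helper73_G17, F_Helper73_G18, PH]

theorem PG_gcd (n : ℕ) : PG n = PG (Nat.gcd n 84) := by
  unfold PG
  rw [pf_gcd Helper73_G02.os 84 Helper73_G02.h84 n, pf_gcd Helper73_G04.os 84 Helper73_G04.h84 n, pf_gcd Helper73_G05.os 84 Helper73_G05.h84 n, pf_gcd Helper73_G07.os 84 Helper73_G07.h84 n, pf_gcd Helper73_G09.os 84 Helper73_G09.h84 n, pf_gcd Helper73_G11.os 84 Helper73_G11.h84 n, pf_gcd Helper73_G13.os 84 Helper73_G13.h84 n, pf_gcd Helper73_G14.os 84 Helper73_G14.h84 n, pf_gcd Helper73_G16.os 84 Helper73_G16.h84 n, pf_gcd Helper73_G19.os 84 Helper73_G19.h84 n, pf_gcd Helper73_G20.os 84 Helper73_G20.h84 n]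

theorem PH_gcd (n : ℕ) : PH n = PH (Nat.gcd n 84) := by
  unfold PH
  rw [pf_gcd Helper73_G00.os 84 Helper73_G00.h84 n, pf_gcd Helper73_G01.os 84 Helper73_G01.h84 n, pf_gcd Helper73_G03.os 84 Helper73_G03.h84 n, pf_gcd Helper73_G06.os 84 Helper73_G06.h84 n, pf_gcd Helper73_G08.os 84 Helper73_G08.h84 n, pf_gcd Helper73_G10.os 84 Helper73_G10.h84 n, pf_gcd Helper73_G12.os 84 Helper73_G12.h84 n, pf_gcd Helper73_G15.os 84 Helper73_G15.h84 n, pf_gcd Helper73_G17.os 84 Helper73_G17.h84 n, pf_gcd Helper73_G18.os 84 Helper73_G18.h84 n]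

set_option maxRecDepth 1000000 in
theorem PG_eq_PH_divisors : ∀ m ∈ Nat.divisors 84, PG m = PH m := by decide +kernel

theorem PG_eq_PH (n : ℕ) : PG n = PH n := by
  rw [PG_gcd, PH_gcd]
  exact PG_eq_PH_divisors _ (Nat.mem_divisors.2 ⟨Nat.gcd_dvd_right n 84, by norm_num⟩)

/-- There are finite groups G and H having the same number of elements of each order (the same order type) with G solvable and H not solvable. -/
theorem result :
    ∃ (G : Type) (_ : Group G) (_ : Finite G) (H : Type) (_ : Group H) (_ : Finite H),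
      Group.IsSolvable G ∧ ¬ Group.IsSolvable H ∧ ∀ n : ℕ, Nat.card {g : G // orderOf g = n} = Nat.card {h : H // orderOf h = n} := by
  refine ⟨GT, inferInstance, inferInstance, HT, inferInstance, inferInstance, inferInstance, ?_, ?_⟩
  · exact not_isSolvable_prod_pi _ _ _ (by norm_num) Helper73_G00.notSolvable
  · refine (Cfsg.Agent.S4377.result (G := GT) (H := HT)).2 (fun n => ?_)
    have h1 := FG n
    have h2 := FH n
    unfold F at h1 h2
    rw [h1, h2, PG_eq_PH]

end Cfsg.Agent.S4376
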