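-- Statement S4378: solvable groups whose maximal subgroups are 2-nilpotent or of prime index.
import Cfsg.Statements.S4378
import Cfsg.Agent.Lib.Helper1_Cores
import Cfsg.Agent.Lib.Helper1_Hall
import Cfsg.Agent.Lib.Helper1_Transport

set_option autoImplicit false
open Cfsg

namespace Cfsg.Agent.S4378

open Subgroup Cfsg.Agent.Lib.Helper1_Cores Cfsg.Agent.Lib.Helper1_Hall
  Cfsg.Agent.Lib.Helper1_Transport

/-- The hypothesis on maximal subgroups. -/
def Hyp (G : Type*) [Group G] : Prop :=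
  ∀ M : Subgroup G, IsCoatom M →
    (∃ K : Subgroup ↥M, K.Normal ∧ ¬ 2 ∣ Nat.card K ∧ ∃ k : ℕ, K.index = 2 ^ k) ∨ (M.index).Prime

theorem not_two_dvd_prime_pow {q : ℕ} (hq : q.Prime) (hq2 : q ≠ 2) (n : ℕ) : ¬ 2 ∣ q ^ n := by
  intro h
  have := Nat.Prime.dvd_of_dvd_pow Nat.prime_two h
  exact hq2 ((Nat.prime_dvd_prime_iff_eq Nat.prime_two hq).1 this).symm

/-- The main lemma: if `O_{2'}(G) = 1` then `G / O_2(G)` has a normal 2-complement. -/
theorem main_lemma {G : Type*} [Group G] [Finite G] (hG : Group.IsSolvable G) (hmax : Hyp G)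
    (hodd : ∀ N : Subgroup G, N.Normal → ¬ 2 ∣ Nat.card N → N = ⊥) :
    ∃ C : Subgroup G, C.Normal ∧ pCore 2 G ≤ C ∧ Odd ((pCore 2 G).relIndex C) ∧
      ∃ k : ℕ, C.index = 2 ^ k := by
  have hf2 : Fact (Nat.Prime 2) := ⟨Nat.prime_two⟩
  set P := pCore 2 G with hP
  have hPn : P.Normal := pCore_normal 2
  obtain ⟨a, hPa⟩ := IsPGroup.iff_card.mp (pCore_isPGroup (G := G) 2)
  rw [← hP] at hPa
  by_cases hPtop : P = ⊤
  · refine ⟨⊤, inferInstance, le_top, ?_, 0, by simp⟩
    rw [hPtop, relIndex_top_left]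
    exact odd_one
  -- the quotient by `P`
  have hnt : Nontrivial (G ⧸ P) := by
    rw [← Finite.one_lt_card_iff_nontrivial, ← Subgroup.index_eq_card]
    have h1 : P.index ≠ 1 := fun h => hPtop (index_eq_one.1 h)
    have h0 : P.index ≠ 0 := index_ne_zero_of_finite
    omega
  obtain ⟨Mbar, q, hMn, hMne, -, hq, hMq⟩ :=
    exists_normal_abelian_pSubgroup (Q := G ⧸ P) inferInstance
  have hfq : Fact q.Prime := ⟨hq⟩
  obtain ⟨b, hMb⟩ := IsPGroup.iff_card.mp hMq
  have hb : b ≠ 0 := by
    rintro rfl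
    rw [pow_zero] at hMb
    exact hMne (eq_bot_of_card_eq _ hMb)
  set π := QuotientGroup.mk' P with hπ
  have hπs : Function.Surjective π := QuotientGroup.mk'_surjective P
  set K := Mbar.comap π with hK
  have hKn : K.Normal := hMn.comap _
  have hcardK : Nat.card K = q ^ b * 2 ^ a := by
    rw [hK, card_comap_mk', hMb, hPa]
  have hPK : P ≤ K := by
    intro x hx
    rw [hK, mem_comap]
    have : π x = 1 := by
      rw [hπ, QuotientGroup.mk'_apply, QuotientGroup.eq_one_iff]
      exact hx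
    rw [this]
    exact one_mem _
  -- `q` is odd
  have hq2 : q ≠ 2 := by
    rintro rfl
    have hKp : IsPGroup 2 K := IsPGroup.iff_card.mpr ⟨b + a, by rw [hcardK, pow_add]⟩
    have hKP : K ≤ P := le_pCore hKn hKp
    apply hMne
    rw [← map_comap_eq_self_of_surjective hπs Mbar, ← hK, eq_bot_iff]
    intro y hy
    obtain ⟨x, hx, rfl⟩ := mem_map.1 hy
    rw [mem_bot, hπ, QuotientGroup.mk'_apply, QuotientGroup.eq_one_iff]
    exact hKP hx
  -- a Sylow `q`-subgroup of `K`
  obtain ⟨Q⟩ : Nonempty (Sylow q K) := inferInstance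
  set Q' : Subgroup G := (Q : Subgroup K).map K.subtype with hQ'
  have hQ'K : Q' ≤ K := map_subtype_le _
  have hQ'q : IsPGroup q Q' := Q.isPGroup'.map _
  obtain ⟨c, hQc⟩ := IsPGroup.iff_card.mp hQ'q
  have hQ'ne : Q' ≠ ⊥ := by
    intro h0
    have h1 : (Q : Subgroup K) = ⊥ := by
      rw [hQ'] at h0
      exact (map_eq_bot_iff_of_injective _ K.subtype_injective).1 h0
    have h2 := Q.not_dvd_index
    rw [h1, index_bot, hcardK] at h2
    exact h2 (Dvd.dvd.mul_right (dvd_pow_self q hb) _)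
  -- Frattini
  have hfr : normalizer (Q' : Set G) ⊔ K = ⊤ := Sylow.normalizer_sup_eq_top Q
  have hNtop : normalizer (Q' : Set G) ≠ ⊤ := by
    intro h
    have hn : Q'.Normal := normalizer_eq_top_iff.1 h
    apply hQ'ne
    apply hodd Q' hn
    rw [hQc]
    exact not_two_dvd_prime_pow hq hq2 c
  obtain ⟨M, hM, hNM⟩ := (eq_top_or_exists_le_coatom (normalizer (Q' : Set G))).resolve_left hNtop
  have hQ'M : Q' ≤ M := le_normalizer.trans hNM
  -- `K = P ⊔ Q'`
  have hKPQ : K ≤ P ⊔ Q' := by
    rw [← relIndex_eq_one]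
    have h1 : (P ⊔ Q').relIndex K ∣ P.relIndex K := relIndex_dvd_of_le_left K le_sup_left
    have h2 : (P ⊔ Q').relIndex K ∣ Q'.relIndex K := relIndex_dvd_of_le_left K le_sup_right
    have h3 : P.relIndex K = q ^ b := by
      have : P = (⊥ : Subgroup (G ⧸ P)).comap π := by
        rw [hπ, MonoidHom.comap_bot, QuotientGroup.ker_mk']
      rw [this, relIndex_comap, relIndex_bot_left, hK, map_comap_eq_self_of_surjective hπs, hMb]
    have h4 : ¬ q ∣ Q'.relIndex K := by
      have : Q'.subgroupOf K = (Q : Subgroup K) := by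
        rw [hQ', subgroupOf, comap_map_eq_self_of_injective K.subtype_injective]
      rw [relIndex, this]
      exact Q.not_dvd_index
    rw [h3] at h1
    obtain ⟨j, -, hj⟩ := (Nat.dvd_prime_pow hq).1 h1
    rcases Nat.eq_zero_or_pos j with rfl | hjpos
    · rw [hj, pow_zero]
    · exfalso
      apply h4
      refine dvd_trans ?_ h2
      rw [hj]
      exact dvd_pow_self q hjpos.ne'
  have hPM : P ⊔ M = ⊤ := by
    by_contra hne
    have hle : P ≤ M := by
      by_contra hPM'
      apply hne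
      apply hM.2
      exact lt_of_le_of_ne le_sup_right (fun h => hPM' (h ▸ le_sup_left))
    have : (⊤ : Subgroup G) ≤ M := by
      rw [← hfr]
      exact sup_le hNM (hKPQ.trans (sup_le hle hQ'M))
    exact hM.1 (top_le_iff.1 this)
  -- the index of `M` divides `|P|`
  have hMidx : M.index ∣ 2 ^ a := by
    have h1 := card_sup_eq M P
    rw [sup_comm, hPM, card_top, hPa] at h1
    have h2 := M.index_mul_card
    have h3 := (P.subgroupOf M).index_mul_card
    rw [← relIndex] at h3
    rw [h1, ← h3] at h2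
    have h4 : 0 < P.relIndex M := Nat.pos_of_dvd_of_pos (relIndex_dvd_card P M) Nat.card_pos
    refine ⟨Nat.card (P.subgroupOf M), ?_⟩
    apply Nat.eq_of_mul_eq_mul_right h4
    rw [← h2]
    ring
  rcases hmax M hM with ⟨L, hLn, hLodd, k, hLk⟩ | hprime
  · -- `M` has a normal 2-complement
    set L' : Subgroup G := L.map M.subtype with hL'
    have hL'M : L' ≤ M := map_subtype_le _
    have hL'card : Nat.card L' = Nat.card L := card_map_of_injective M.subtype_injective
    have hconj : ∀ m ∈ M, ∀ l ∈ L', m * l * m⁻¹ ∈ L' := by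
      intro m hm l hl
      obtain ⟨l₀, hl₀, rfl⟩ := mem_map.1 hl
      exact mem_map.2 ⟨⟨m, hm⟩ * l₀ * ⟨m, hm⟩⁻¹, hLn.conj_mem l₀ hl₀ ⟨m, hm⟩, rfl⟩
    refine ⟨P ⊔ L', ?_, le_sup_left, ?_, ?_⟩
    · constructor
      intro n hn g
      have hg : g ∈ P ⊔ M := by rw [hPM]; exact mem_top g
      obtain ⟨p, hp, m, hm, rfl⟩ := mem_sup_of_normal_left.1 hg
      obtain ⟨p₁, hp₁, l₁, hl₁, rfl⟩ := mem_sup_of_normal_left.1 hn
      have h1 : m * (p₁ * l₁) * m⁻¹ ∈ P ⊔ L' := by
        have : m * (p₁ * l₁) * m⁻¹ = (m * p₁ * m⁻¹) * (m * l₁ * m⁻¹) := by group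
        rw [this]
        exact mul_mem_sup (hPn.conj_mem p₁ hp₁ m) (hconj m hm l₁ hl₁)
      have h2 : p ∈ P ⊔ L' := mem_sup_left hp
      have : p * m * (p₁ * l₁) * (p * m)⁻¹ = p * (m * (p₁ * l₁) * m⁻¹) * p⁻¹ := by group
      rw [this]
      exact mul_mem (mul_mem h2 h1) (inv_mem h2)
    · rw [relIndex_sup_left]
      have h1 : P.relIndex L' ∣ Nat.card L := by
        rw [← hL'card]
        exact relIndex_dvd_card P L'
      rw [Nat.odd_iff]
      have : ¬ 2 ∣ P.relIndex L' := fun h => hLodd (dvd_trans h h1)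
      omega
    · have h1 : (P ⊔ L').index ∣ L'.index := index_dvd_of_le le_sup_right
      have h2 : L'.index = L.index * M.index := index_map_subtype L
      rw [h2, hLk] at h1
      have h3 : 2 ^ k * M.index ∣ 2 ^ k * 2 ^ a := Nat.mul_dvd_mul_left _ hMidx
      rw [← pow_add] at h3
      obtain ⟨j, -, hj⟩ := (Nat.dvd_prime_pow Nat.prime_two).1 (dvd_trans h1 h3)
      exact ⟨j, hj⟩
  · -- `M` has prime index: impossible
    exfalso
    have h2 : M.index = 2 :=
      (Nat.prime_dvd_prime_iff_eq hprime Nat.prime_two).1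
        (Nat.Prime.dvd_of_dvd_pow hprime hMidx)
    have hMn : M.Normal := normal_of_index_eq_two h2
    obtain ⟨S, hS⟩ := hQ'q.exists_le_sylow
    -- `S ⊓ K = Q'`
    have hSK : (S : Subgroup G) ⊓ K = Q' := by
      have h1 : IsPGroup q ((S : Subgroup G).subgroupOf K) := S.isPGroup'.comap_subtype
      have h2 : (Q : Subgroup K) ≤ (S : Subgroup G).subgroupOf K := by
        intro x hx
        rw [mem_subgroupOf]
        exact hS (mem_map.2 ⟨x, hx, rfl⟩)
      have h3 := Q.is_maximal' h1 h2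
      rw [← subgroupOf_map_subtype, h3]
    have hNS : normalizer ((S : Subgroup G) : Set G) ≤ normalizer (Q' : Set G) := by
      intro g hg
      rw [mem_normalizer_iff] at hg ⊢
      intro x
      rw [← hSK, mem_inf, mem_inf, ← hg x]
      constructor
      · rintro ⟨h1, h2⟩
        exact ⟨h1, hKn.conj_mem x h2 g⟩
      · rintro ⟨h1, h2⟩
        refine ⟨h1, ?_⟩
        have := hKn.conj_mem _ h2 g⁻¹
        simpa [mul_assoc] using this
    have hSM : (S : Subgroup G) ≤ M := le_normalizer.trans (hNS.trans hNM)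
    have h3 : normalizer ((S : Subgroup G) : Set G) ⊔ M = ⊤ := Sylow.normalizer_sup_eq_top' S hSM
    have : (⊤ : Subgroup G) ≤ M := by
      rw [← h3]
      exact sup_le (hNS.trans hNM) le_rfl
    exact hM.1 (top_le_iff.1 this)

theorem isCoatom_comap {G H : Type*} [Group G] [Group H] {φ : G →* H}
    (hφ : Function.Surjective φ) {M : Subgroup H} (hM : IsCoatom M) : IsCoatom (M.comap φ) := by
  constructor
  · intro h
    apply hM.1
    rw [← map_comap_eq_self_of_surjective hφ M, h, ← MonoidHom.range_eq_map,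
      MonoidHom.range_eq_top.2 hφ]
  · intro K hK
    have hker : φ.ker ≤ K := le_trans (ker_le_comap φ M) hK.le
    have h1 : M < K.map φ := by
      rw [lt_iff_le_and_ne]
      constructor
      · rw [← map_comap_eq_self_of_surjective hφ M]
        exact map_mono hK.le
      · intro h
        apply hK.ne
        rw [h, comap_map_eq_self hker]
    have h2 := hM.2 _ h1
    rw [← comap_map_eq_self hker, h2, comap_top]

/-- The hypothesis passes to quotients. -/
theorem hyp_quotient {G : Type*} [Group G] [Finite G] (A : Subgroup G) [A.Normal] (h : Hyp G) :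
    Hyp (G ⧸ A) := by
  intro Mbar hMbar
  have hπs : Function.Surjective (QuotientGroup.mk' A) := QuotientGroup.mk'_surjective A
  have hM : IsCoatom (Mbar.comap (QuotientGroup.mk' A)) := isCoatom_comap hπs hMbar
  rcases h _ hM with ⟨K, hKn, hKodd, k, hk⟩ | hprime
  · left
    have hφs : Function.Surjective ((QuotientGroup.mk' A).subgroupComap Mbar) :=
      MonoidHom.subgroupComap_surjective_of_surjective _ _ hπs
    refine ⟨K.map ((QuotientGroup.mk' A).subgroupComap Mbar), hKn.map _ hφs, ?_, ?_⟩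
    · intro h2
      exact hKodd (dvd_trans h2 (K.card_map_dvd _))
    · have h1 : (K.map ((QuotientGroup.mk' A).subgroupComap Mbar)).index ∣ K.index :=
        index_map_dvd K hφs
      rw [hk] at h1
      obtain ⟨j, -, hj⟩ := (Nat.dvd_prime_pow Nat.prime_two).1 h1
      exact ⟨j, hj⟩
  · right
    rwa [index_comap_of_surjective Mbar hπs] at hprime

/-- Let G be a finite solvable group in which every maximal subgroup either has a normal 2-complement or has prime index. Then G has a chain of normal subgroups 1 ≤ A ≤ B ≤ C ≤ G in which A and C/B have odd order and B/A and G/C are 2-groups (so the 2-length of G is at most 2). -/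
theorem result {G : Type*} [Group G] [Finite G]
    (hG : Group.IsSolvable G)
    (hmax : ∀ M : Subgroup G, IsCoatom M → (∃ K : Subgroup ↥M, K.Normal ∧ ¬ 2 ∣ Nat.card K ∧ ∃ k : ℕ, K.index = 2 ^ k) ∨ (M.index).Prime) :
    ∃ A B C : Subgroup G, A.Normal ∧ B.Normal ∧ C.Normal ∧ A ≤ B ∧ B ≤ C ∧ Odd (Nat.card A) ∧
      (∃ k : ℕ, A.relIndex B = 2 ^ k) ∧ Odd (B.relIndex C) ∧ ∃ k : ℕ, C.index = 2 ^ k := by
  have hf2 : Fact (Nat.Prime 2) := ⟨Nat.prime_two⟩
  set A := pPrimeCore 2 G with hA
  have hAn : A.Normal := pPrimeCore_normal 2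
  have hAodd : (Nat.card A).Coprime 2 := pPrimeCore_card_coprime 2
  have hπs : Function.Surjective (QuotientGroup.mk' A) := QuotientGroup.mk'_surjective A
  have hAker : A = (⊥ : Subgroup (G ⧸ A)).comap (QuotientGroup.mk' A) := by
    rw [MonoidHom.comap_bot, QuotientGroup.ker_mk']
  have hodd : ∀ N : Subgroup (G ⧸ A), N.Normal → ¬ 2 ∣ Nat.card N → N = ⊥ := by
    intro N hN h2
    have h1 : N.comap (QuotientGroup.mk' A) ≤ A := by
      apply le_pPrimeCore (hN.comap _)
      rw [card_comap_mk']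
      exact Nat.Coprime.mul_left
        ((Nat.Prime.coprime_iff_not_dvd Nat.prime_two).2 h2).symm hAodd
    rw [← map_comap_eq_self_of_surjective hπs N, eq_bot_iff]
    intro y hy
    obtain ⟨x, hx, rfl⟩ := mem_map.1 hy
    rw [mem_bot, QuotientGroup.mk'_apply, QuotientGroup.eq_one_iff]
    exact h1 hx
  obtain ⟨Cbar, hCn, hBC, hoddBC, k, hk⟩ :=
    main_lemma (G := G ⧸ A) inferInstance (hyp_quotient A hmax) hodd
  obtain ⟨a, hBa⟩ := IsPGroup.iff_card.mp (pCore_isPGroup (G := G ⧸ A) 2)
  refine ⟨A, (pCore 2 (G ⧸ A)).comap (QuotientGroup.mk' A), Cbar.comap (QuotientGroup.mk' A),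
    hAn, (pCore_normal 2).comap _, hCn.comap _, ?_, comap_mono hBC, ?_, ?_, ?_, ?_⟩
  · intro x hx
    rw [mem_comap]
    have : QuotientGroup.mk' A x = 1 := by
      rw [QuotientGroup.mk'_apply, QuotientGroup.eq_one_iff]
      exact hx
    rw [this]
    exact one_mem _
  · rw [Nat.odd_iff]
    have : ¬ 2 ∣ Nat.card A := by
      intro h
      have := Nat.Coprime.eq_one_of_dvd hAodd.symm h
      omega
    omega
  · refine ⟨a, ?_⟩
    have e : ((⊥ : Subgroup (G ⧸ A)).comap (QuotientGroup.mk' A)).relIndex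
        ((pCore 2 (G ⧸ A)).comap (QuotientGroup.mk' A)) = 2 ^ a := by
      rw [relIndex_comap, relIndex_bot_left, map_comap_eq_self_of_surjective hπs, hBa]
    rwa [← hAker] at e
  · rw [relIndex_comap, map_comap_eq_self_of_surjective hπs]
    exact hoddBC
  · exact ⟨k, by rw [index_comap_of_surjective Cbar hπs, hk]⟩

end Cfsg.Agent.S4378
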