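import Cfsg.Statements.S4379
import Cfsg.Agent.Lib.Helper32_PSolvable
import Cfsg.Agent.Lib.Helper32_PGroup
import Cfsg.Agent.S0002
import Mathlib

set_option autoImplicit false
open Cfsg
open scoped Pointwise

namespace Cfsg.Agent.S4379

open Subgroup

/-- the conclusion, relative to a normal subgroup `N` at the bottom -/
def QN {G : Type*} [Group G] (p : ℕ) (N : Subgroup G) : Prop :=
  ∃ A B C D : Subgroup G, A.Normal ∧ B.Normal ∧ C.Normal ∧ D.Normal ∧ N ≤ A ∧ A ≤ B ∧ B ≤ C ∧ C ≤ D ∧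
    ¬ p ∣ N.relIndex A ∧ (∃ k : ℕ, A.relIndex B = p ^ k) ∧ ¬ p ∣ B.relIndex C ∧
    (∃ k : ℕ, C.relIndex D = p ^ k) ∧ ¬ p ∣ D.index

/-- the conclusion -/
def Q (p : ℕ) (G : Type*) [Group G] : Prop :=
  ∃ A B C D : Subgroup G, A.Normal ∧ B.Normal ∧ C.Normal ∧ D.Normal ∧ A ≤ B ∧ B ≤ C ∧ C ≤ D ∧ ¬ p ∣ Nat.card A ∧
      (∃ k : ℕ, A.relIndex B = p ^ k) ∧ ¬ p ∣ B.relIndex C ∧ (∃ k : ℕ, C.relIndex D = p ^ k) ∧ ¬ p ∣ D.index

/-- the hypothesis on maximal subgroups -/
def HM (p : ℕ) (G : Type*) [Group G] : Prop :=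
  ∀ M : Subgroup G, IsCoatom M → (∃ K : Subgroup ↥M, K.Normal ∧ ¬ p ∣ Nat.card K ∧ ∃ k : ℕ, K.index = p ^ k) ∨ (M.index).Prime

variable {G : Type*} [Group G]

theorem q_of_qn_bot {p : ℕ} (h : QN p (⊥ : Subgroup G)) : Q p G := by
  obtain ⟨A, B, C, D, hA, hB, hC, hD, -, hAB, hBC, hCD, h1, h2, h3, h4, h5⟩ := h
  rw [relIndex_bot_left] at h1
  exact ⟨A, B, C, D, hA, hB, hC, hD, hAB, hBC, hCD, h1, h2, h3, h4, h5⟩

/-- monotonicity (divisibility) of relIndex in the right argument for normal left argument -/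
theorem relIndex_dvd_right (X Y Y' : Subgroup G) [X.Normal] (h : Y ≤ Y') :
    X.relIndex Y ∣ X.relIndex Y' := by
  rw [← relIndex_sup_right Y X, ← relIndex_sup_right Y' X]
  have h1 : X ≤ Y ⊔ X := le_sup_right
  have h2 : Y ⊔ X ≤ Y' ⊔ X := sup_le_sup_right h X
  exact Dvd.intro _ (relIndex_mul_relIndex X (Y ⊔ X) (Y' ⊔ X) h1 h2)

theorem relIndex_inf_dvd (X1 Y1 X2 Y2 : Subgroup G) [X1.Normal] [X2.Normal] (h1 : X1 ≤ Y1)
    (h2 : X2 ≤ Y2) : (X1 ⊓ X2).relIndex (Y1 ⊓ Y2) ∣ X1.relIndex Y1 * X2.relIndex Y2 := by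
  have hle1 : X1 ⊓ X2 ≤ X1 ⊓ (Y1 ⊓ Y2) := le_inf inf_le_left (le_inf (inf_le_left.trans h1) (inf_le_right.trans h2))
  have hle2 : X1 ⊓ (Y1 ⊓ Y2) ≤ Y1 ⊓ Y2 := inf_le_right
  rw [← relIndex_mul_relIndex _ _ _ hle1 hle2, mul_comm]
  apply mul_dvd_mul
  · rw [inf_relIndex_right]
    exact relIndex_dvd_right X1 _ _ inf_le_left
  · have e : X1 ⊓ X2 = X2 ⊓ (X1 ⊓ (Y1 ⊓ Y2)) := by
      apply le_antisymm
      · exact le_inf inf_le_right hle1
      · exact le_inf (inf_le_right.trans inf_le_left) inf_le_left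
    rw [e, inf_relIndex_right]
    exact relIndex_dvd_right X2 _ _ (inf_le_right.trans inf_le_right)

theorem pow_of_dvd_pow_mul {p : ℕ} (hp : p.Prime) {a k1 k2 : ℕ} (h : a ∣ p ^ k1 * p ^ k2) :
    ∃ k : ℕ, a = p ^ k := by
  rw [← pow_add] at h
  obtain ⟨m, -, hm⟩ := (Nat.dvd_prime_pow hp).1 h
  exact ⟨m, hm⟩

theorem not_dvd_of_dvd_mul {p : ℕ} (hp : p.Prime) {a b c : ℕ} (h : a ∣ b * c) (hb : ¬ p ∣ b)
    (hc : ¬ p ∣ c) : ¬ p ∣ a := by
  intro hpa
  rcases (hp.dvd_mul).1 (hpa.trans h) with h' | h'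
  · exact hb h'
  · exact hc h'

/-- intersecting two chains -/
theorem F2 {p : ℕ} (hp : p.Prime) (N1 N2 : Subgroup G) (h12 : N1 ⊓ N2 = ⊥)
    (hN1 : N1.Normal) (hN2 : N2.Normal)
    (h1 : QN p N1) (h2 : QN p N2) : Q p G := by
  obtain ⟨A1, B1, C1, D1, hA1, hB1, hC1, hD1, hNA1, hAB1, hBC1, hCD1, a1, ⟨k1, b1⟩, c1, ⟨l1, d1⟩, e1⟩ := h1
  obtain ⟨A2, B2, C2, D2, hA2, hB2, hC2, hD2, hNA2, hAB2, hBC2, hCD2, a2, ⟨k2, b2⟩, c2, ⟨l2, d2⟩, e2⟩ := h2
  refine ⟨A1 ⊓ A2, B1 ⊓ B2, C1 ⊓ C2, D1 ⊓ D2, inferInstance, inferInstance, inferInstance,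
    inferInstance, inf_le_inf hAB1 hAB2, inf_le_inf hBC1 hBC2, inf_le_inf hCD1 hCD2, ?_, ?_, ?_, ?_, ?_⟩
  · rw [← relIndex_bot_left, ← h12]
    exact not_dvd_of_dvd_mul hp (relIndex_inf_dvd N1 A1 N2 A2 hNA1 hNA2) a1 a2
  · have := relIndex_inf_dvd A1 B1 A2 B2 hAB1 hAB2
    rw [b1, b2] at this
    exact pow_of_dvd_pow_mul hp this
  · exact not_dvd_of_dvd_mul hp (relIndex_inf_dvd B1 C1 B2 C2 hBC1 hBC2) c1 c2
  · have := relIndex_inf_dvd C1 D1 C2 D2 hCD1 hCD2
    rw [d1, d2] at this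
    exact pow_of_dvd_pow_mul hp this
  · have := relIndex_inf_dvd D1 ⊤ D2 ⊤ le_top le_top
    rw [relIndex_top_right, relIndex_top_right, inf_idem, relIndex_top_right] at this
    exact not_dvd_of_dvd_mul hp this e1 e2

theorem relIndex_comap_comap {G' : Type*} [Group G'] (f : G →* G') (hf : Function.Surjective f)
    (X Y : Subgroup G') : (X.comap f).relIndex (Y.comap f) = X.relIndex Y := by
  rw [relIndex_comap, map_comap_eq_self_of_surjective hf]

/-- pulling back a chain from the quotient -/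
theorem pull {p : ℕ} (N : Subgroup G) [N.Normal] (h : Q p (G ⧸ N)) : QN p N := by
  obtain ⟨A, B, C, D, hA, hB, hC, hD, hAB, hBC, hCD, h1, h2, h3, h4, h5⟩ := h
  have hf := QuotientGroup.mk'_surjective N
  refine ⟨A.comap (QuotientGroup.mk' N), B.comap (QuotientGroup.mk' N), C.comap (QuotientGroup.mk' N),
    D.comap (QuotientGroup.mk' N), hA.comap _, hB.comap _, hC.comap _, hD.comap _, ?_,
    comap_mono hAB, comap_mono hBC, comap_mono hCD, ?_, ?_, ?_, ?_, ?_⟩
  · conv_lhs => rw [← QuotientGroup.ker_mk' N]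
    exact ker_le_comap _ _
  · have e : N = (⊥ : Subgroup (G ⧸ N)).comap (QuotientGroup.mk' N) := by
      rw [MonoidHom.comap_bot, QuotientGroup.ker_mk']
    have e2 : N.relIndex (A.comap (QuotientGroup.mk' N))
        = ((⊥ : Subgroup (G ⧸ N)).comap (QuotientGroup.mk' N)).relIndex (A.comap (QuotientGroup.mk' N)) :=
      congrArg (fun X : Subgroup G => X.relIndex (A.comap (QuotientGroup.mk' N))) e
    rw [e2, relIndex_comap_comap _ hf, relIndex_bot_left]
    exact h1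
  · rw [relIndex_comap_comap _ hf]; exact h2
  · rw [relIndex_comap_comap _ hf]; exact h3
  · rw [relIndex_comap_comap _ hf]; exact h4
  · rw [index_comap_of_surjective _ hf]; exact h5

theorem isCoatom_comap (N : Subgroup G) [N.Normal] (M' : Subgroup (G ⧸ N)) (hM' : IsCoatom M') :
    IsCoatom (M'.comap (QuotientGroup.mk' N)) := by
  have hf := QuotientGroup.mk'_surjective N
  refine ⟨?_, ?_⟩
  · intro h
    apply hM'.1
    rw [← map_comap_eq_self_of_surjective hf M', h]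
    exact map_top_of_surjective _ hf
  · intro X hX
    have hNX : N ≤ X := by
      refine le_trans ?_ hX.le
      conv_lhs => rw [← QuotientGroup.ker_mk' N]
      exact ker_le_comap _ _
    have hXc : X = (X.map (QuotientGroup.mk' N)).comap (QuotientGroup.mk' N) := by
      rw [comap_map_eq, QuotientGroup.ker_mk', sup_eq_left.2 hNX]
    have h1 : M' < X.map (QuotientGroup.mk' N) := by
      refine lt_of_le_of_ne ?_ ?_
      · rw [← map_comap_eq_self_of_surjective hf M']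
        exact map_mono hX.le
      · intro h
        apply hX.ne
        rw [hXc, ← h]
    have h2 := hM'.2 _ h1
    rw [hXc, h2]
    rfl

theorem HM_quot {p : ℕ} (hp : p.Prime) (N : Subgroup G) [N.Normal] (h : HM p G) : HM p (G ⧸ N) := by
  intro M' hM'
  have hf := QuotientGroup.mk'_surjective N
  rcases h _ (isCoatom_comap N M' hM') with ⟨K, hK, hK1, k, hK2⟩ | hpr
  · left
    have hφ := MonoidHom.subgroupComap_surjective_of_surjective (QuotientGroup.mk' N) M' hf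
    refine ⟨K.map ((QuotientGroup.mk' N).subgroupComap M'), hK.map _ hφ, ?_, ?_⟩
    · intro hd
      exact hK1 (hd.trans (card_map_dvd K _))
    · have := index_map_dvd K hφ
      rw [hK2] at this
      obtain ⟨m, -, hm⟩ := (Nat.dvd_prime_pow hp).1 this
      exact ⟨m, hm⟩
  · right
    rw [index_comap_of_surjective _ hf] at hpr
    exact hpr

theorem mem_conj_smul' {X : Type*} [Group X] (g z : X) (S : Subgroup X) :
    z ∈ MulAut.conj g • S ↔ ∃ s ∈ S, z = g * s * g⁻¹ := by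
  rw [Subgroup.mem_smul_pointwise_iff_exists]
  constructor
  · rintro ⟨s, hs, rfl⟩
    exact ⟨s, hs, by simp [MulAut.smul_def]⟩
  · rintro ⟨s, hs, rfl⟩
    exact ⟨s, hs, by simp [MulAut.smul_def]⟩

/-- Schur-Zassenhaus complement of an abelian normal Hall subgroup `N` of `A`, with the Frattini
argument in the ambient group. -/
theorem frattini_compl [Finite G] (N A : Subgroup G) [hN : N.Normal] [hA : A.Normal] (hNA : N ≤ A)
    (hcomm : ∀ a ∈ N, ∀ b ∈ N, a * b = b * a) (hcop : (Nat.card N).Coprime (N.relIndex A)) :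
    ∃ H : Subgroup G, H ≤ A ∧ N ⊓ H = ⊥ ∧ Nat.card H = N.relIndex A ∧
      ∀ g : G, ∃ a ∈ N, a⁻¹ * g ∈ normalizer (H : Set G) := by
  have hN' : (N.subgroupOf A).Normal := hN.subgroupOf A
  have hcardN' : Nat.card (N.subgroupOf A) = Nat.card N :=
    Nat.card_congr (subgroupOfEquivOfLe hNA).toEquiv
  have hcomm' : IsMulCommutative (N.subgroupOf A) := by
    refine ⟨⟨fun a b => ?_⟩⟩
    apply Subtype.ext
    apply Subtype.ext
    exact hcomm _ (mem_subgroupOf.1 a.2) _ (mem_subgroupOf.1 b.2)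
  have hcop' : (Nat.card (N.subgroupOf A)).Coprime (N.subgroupOf A).index := by
    rw [hcardN']; exact hcop
  obtain ⟨H', hH'⟩ := exists_right_complement'_of_coprime hcop'
  have hcardH' : Nat.card H' = N.relIndex A := (hH'.symm.index_eq_card).symm
  have hinj : Function.Injective A.subtype := Subtype.coe_injective
  refine ⟨H'.map A.subtype, ?_, ?_, ?_, ?_⟩
  · rintro _ ⟨x, -, rfl⟩
    exact x.2
  · rw [eq_bot_iff]
    rintro _ ⟨hxN, x, hx, rfl⟩
    have h1 : x ∈ N.subgroupOf A ⊓ H' := ⟨mem_subgroupOf.2 hxN, hx⟩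
    rw [hH'.disjoint.eq_bot, mem_bot] at h1
    rw [h1]; exact one_mem _
  · rw [card_map_of_injective hinj, hcardH']
  · intro g
    -- the conjugate complement
    set ψ : ↥A ≃* ↥A := MulAut.conjNormal g with hψ
    have hψinj : Function.Injective ψ.toMonoidHom := ψ.injective
    have hH'' : (N.subgroupOf A).IsComplement' (H'.map ψ.toMonoidHom) := by
      apply isComplement'_of_coprime
      · rw [card_map_of_injective hψinj]
        exact hH'.card_mul_card
      · rw [card_map_of_injective hψinj, hcardH', hcardN']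
        exact hcop
    obtain ⟨a, ha, hconj⟩ := Cfsg.Agent.S0002.result (N.subgroupOf A) hcop' H' (H'.map ψ.toMonoidHom) hH' hH''
    refine ⟨(a : G), mem_subgroupOf.1 ha, ?_⟩
    -- E: a H a⁻¹ = g H g⁻¹ elementwise
    have E1 : ∀ x ∈ H'.map A.subtype, ∃ x' ∈ H'.map A.subtype, g * x * g⁻¹ = (a : G) * x' * (a : G)⁻¹ := by
      rintro _ ⟨x, hx, rfl⟩
      have h1 : ψ x ∈ H'.map ψ.toMonoidHom := ⟨x, hx, rfl⟩
      rw [← hconj, mem_conj_smul'] at h1
      obtain ⟨s, hs, hse⟩ := h1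
      refine ⟨(s : G), ⟨s, hs, rfl⟩, ?_⟩
      have h2 := congrArg Subtype.val hse
      rw [hψ, MulAut.conjNormal_apply] at h2
      show g * (x : G) * g⁻¹ = _
      rw [h2]
      simp
    have E2 : ∀ x' ∈ H'.map A.subtype, ∃ x ∈ H'.map A.subtype, g * x * g⁻¹ = (a : G) * x' * (a : G)⁻¹ := by
      rintro _ ⟨s, hs, rfl⟩
      have h1 : a * s * a⁻¹ ∈ MulAut.conj a • H' := (mem_conj_smul' a _ H').2 ⟨s, hs, rfl⟩
      rw [hconj] at h1
      obtain ⟨x, hx, hxe⟩ := h1
      refine ⟨(x : G), ⟨x, hx, rfl⟩, ?_⟩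
      have h2 := congrArg Subtype.val hxe
      have h3 : ((ψ.toMonoidHom x : ↥A) : G) = g * (x : G) * g⁻¹ := by
        rw [hψ]; exact MulAut.conjNormal_apply g x
      rw [h3] at h2
      rw [h2]
      simp
    rw [mem_normalizer_iff]
    intro x
    constructor
    · intro hx
      obtain ⟨x', hx', he⟩ := E1 x hx
      have : (a : G)⁻¹ * g * x * ((a : G)⁻¹ * g)⁻¹ = x' := by
        calc (a : G)⁻¹ * g * x * ((a : G)⁻¹ * g)⁻¹ = (a : G)⁻¹ * (g * x * g⁻¹) * (a : G) := by group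
          _ = x' := by rw [he]; group
      rw [this]; exact hx'
    · intro hx
      obtain ⟨x'', hx'', he⟩ := E2 _ hx
      have : x = x'' := by
        have h4 : g * x'' * g⁻¹ = g * x * g⁻¹ := by
          rw [he]; group
        have h5 : g⁻¹ * (g * x'' * g⁻¹) * g = g⁻¹ * (g * x * g⁻¹) * g := by rw [h4]
        have e1 : g⁻¹ * (g * x'' * g⁻¹) * g = x'' := by group
        have e2 : g⁻¹ * (g * x * g⁻¹) * g = x := by group
        rw [e1, e2] at h5
        exact h5.symm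
      rw [this]; exact hx''

theorem relIndex_of_inf_bot (N X : Subgroup G) (h : N ⊓ X = ⊥) : N.relIndex X = Nat.card X := by
  rw [← inf_relIndex_right, h, relIndex_bot_left]

theorem card_mul_relIndex' (N X : Subgroup G) (h : N ≤ X) : Nat.card N * N.relIndex X = Nat.card X := by
  rw [← relIndex_bot_left, relIndex_mul_relIndex _ _ _ bot_le h, relIndex_bot_left]

theorem normal_of_map_conj_le (C N M : Subgroup G) (hNM : N ⊔ M = ⊤) (hN : N ≤ C)
    (hM : ∀ m ∈ M, C.map (MulAut.conj m).toMonoidHom ≤ C) : C.Normal := by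
  rw [← normalizer_eq_top_iff, eq_top_iff, ← hNM]
  apply sup_le (hN.trans le_normalizer)
  intro m hm
  rw [mem_normalizer_iff]
  intro x
  constructor
  · intro hx
    exact hM m hm ⟨x, hx, rfl⟩
  · intro hx
    have h1 := hM m⁻¹ (inv_mem hm) ⟨m * x * m⁻¹, hx, rfl⟩
    have e : (MulAut.conj m⁻¹).toMonoidHom (m * x * m⁻¹) = x := by
      show m⁻¹ * (m * x * m⁻¹) * m⁻¹⁻¹ = x
      group
    rw [e] at h1
    exact h1

theorem compl_max (N M : Subgroup G) [hN : N.Normal] (hcomm : ∀ a ∈ N, ∀ b ∈ N, a * b = b * a)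
    (hmin : ∀ X : Subgroup G, X.Normal → X ≤ N → X = ⊥ ∨ X = N) (hM : IsCoatom M) (hNM : ¬ N ≤ M) :
    N ⊔ M = ⊤ ∧ N ⊓ M = ⊥ ∧ ∀ g : G, ∃ a ∈ N, ∃ m ∈ M, g = a * m := by
  have h1 : N ⊔ M = ⊤ := by
    apply hM.2
    apply lt_of_le_of_ne le_sup_right
    intro h
    apply hNM
    rw [h]; exact le_sup_left
  have h3 : ∀ g : G, ∃ a ∈ N, ∃ m ∈ M, g = a * m := by
    intro g
    have hg : g ∈ ((N ⊔ M : Subgroup G) : Set G) := by rw [h1]; exact mem_top g
    rw [normal_mul, Set.mem_mul] at hg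
    obtain ⟨a, ha, m, hm, he⟩ := hg
    exact ⟨a, ha, m, hm, he.symm⟩
  refine ⟨h1, ?_, h3⟩
  have hnorm : (N ⊓ M).Normal := by
    refine ⟨fun x hx g => ?_⟩
    obtain ⟨a, ha, m, hm, rfl⟩ := h3 g
    have hy : m * x * m⁻¹ ∈ N ⊓ M :=
      ⟨hN.conj_mem x hx.1 m, M.mul_mem (M.mul_mem hm hx.2) (M.inv_mem hm)⟩
    have e : a * m * x * (a * m)⁻¹ = m * x * m⁻¹ := by
      have hc := hcomm a ha _ hy.1
      calc a * m * x * (a * m)⁻¹ = (a * (m * x * m⁻¹)) * a⁻¹ := by group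
        _ = ((m * x * m⁻¹) * a) * a⁻¹ := by rw [hc]
        _ = m * x * m⁻¹ := by group
    rw [e]; exact hy
  rcases hmin _ hnorm inf_le_left with h | h
  · exact h
  · exfalso
    apply hNM
    rw [← h]; exact inf_le_right

/-- case (i): the complement `M` has a normal `p`-complement `K` -/
theorem case_i [Finite G] {p : ℕ} (hp : p.Prime) (N M : Subgroup G) [hN : N.Normal] (a : ℕ)
    (hcN : Nat.card N = p ^ a) (hNM : N ⊔ M = ⊤) (hNM' : N ⊓ M = ⊥) (K : Subgroup ↥M) (hK : K.Normal)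
    (hK1 : ¬ p ∣ Nat.card K) (k : ℕ) (hK2 : K.index = p ^ k) : Q p G := by
  have hinj : Function.Injective M.subtype := Subtype.coe_injective
  have hKb : N ⊓ K.map M.subtype = ⊥ := by
    rw [eq_bot_iff, ← hNM']
    refine inf_le_inf le_rfl ?_
    rintro _ ⟨x, -, rfl⟩
    exact x.2
  have hC : (K.map M.subtype ⊔ N).Normal := by
    apply normal_of_map_conj_le _ N M hNM le_sup_right
    intro m hm
    rw [Subgroup.map_sup]
    apply sup_le_sup
    · rintro _ ⟨_, ⟨x, hx, rfl⟩, rfl⟩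
      refine ⟨⟨m, hm⟩ * x * ⟨m, hm⟩⁻¹, hK.conj_mem x hx _, ?_⟩
      simp
    · rintro _ ⟨x, hx, rfl⟩
      exact hN.conj_mem x hx m
  have h1 : N.relIndex (K.map M.subtype ⊔ N) = Nat.card K := by
    rw [relIndex_sup_right, relIndex_of_inf_bot _ _ hKb, card_map_of_injective hinj]
  have h2 : Nat.card (K.map M.subtype ⊔ N : Subgroup G) = p ^ a * Nat.card K := by
    rw [← card_mul_relIndex' N _ le_sup_right, h1, hcN]
  have h3 : Nat.card G = p ^ a * (Nat.card K * p ^ k) := by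
    rw [← card_mul_index N, hcN, ← relIndex_top_right, ← hNM, sup_comm, relIndex_sup_right,
      relIndex_of_inf_bot _ _ hNM', ← card_mul_index K, hK2]
  have h4 : (K.map M.subtype ⊔ N).index = p ^ k := by
    have h5 := card_mul_index (K.map M.subtype ⊔ N)
    rw [h2, h3, mul_assoc] at h5
    have hpos : 0 < p ^ a * Nat.card K := Nat.mul_pos (pow_pos hp.pos _) Nat.card_pos
    have h6 : p ^ a * Nat.card K * (K.map M.subtype ⊔ N).index = p ^ a * Nat.card K * p ^ k := by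
      rw [mul_assoc, h5, mul_assoc]
    exact Nat.eq_of_mul_eq_mul_left hpos h6
  refine ⟨⊥, N, K.map M.subtype ⊔ N, ⊤, inferInstance, hN, hC, inferInstance, bot_le, le_sup_right,
    le_top, ?_, ⟨a, ?_⟩, ?_, ⟨k, ?_⟩, ?_⟩
  · rw [card_bot]; exact hp.one_lt.ne' ∘ Nat.dvd_one.1
  · rw [relIndex_bot_left, hcN]
  · rw [h1]; exact hK1
  · rw [relIndex_top_right, h4]
  · rw [index_top]; exact hp.one_lt.ne' ∘ Nat.dvd_one.1

/-- a normal subgroup of order `p` is centralized by a Sylow `p`-subgroup -/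
theorem not_dvd_index_centralizer [Finite G] {p : ℕ} [hp : Fact p.Prime] (N : Subgroup G) [hN : N.Normal]
    (hcN : Nat.card N = p) : ¬ p ∣ (centralizer (N : Set G)).index := by
  obtain ⟨S⟩ : Nonempty (Sylow p G) := inferInstance
  have hNp : IsPGroup p N := IsPGroup.of_card (n := 1) (by rw [hcN, pow_one])
  have hNS : N ≤ (S : Subgroup G) := hNp.le_sylow_of_normal S
  have hN' : (N.subgroupOf (S : Subgroup G)).Normal := hN.subgroupOf _
  have hcard' : Nat.card (N.subgroupOf (S : Subgroup G)) = p := by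
    rw [Nat.card_congr (subgroupOfEquivOfLe hNS).toEquiv, hcN]
  have hne : N.subgroupOf (S : Subgroup G) ≠ ⊥ := by
    intro h
    rw [h, card_bot] at hcard'
    exact hp.out.one_lt.ne hcard'
  have h1 := Cfsg.Agent.Lib.Helper32_PGroup.normal_inf_center_ne_bot S.isPGroup' (N.subgroupOf (S : Subgroup G)) hne
  have h2 : N.subgroupOf (S : Subgroup G) ⊓ center (S : Subgroup G) = N.subgroupOf (S : Subgroup G) := by
    apply eq_of_le_of_card_ge inf_le_left
    have hd := card_dvd_of_le (inf_le_left : N.subgroupOf (S : Subgroup G) ⊓ center (S : Subgroup G) ≤ N.subgroupOf (S : Subgroup G))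
    rw [hcard'] at hd ⊢
    rcases (Nat.dvd_prime hp.out).1 hd with h | h
    · exfalso
      apply h1
      exact (card_eq_one).1 h
    · exact h.ge
  have hSZ : (S : Subgroup G) ≤ centralizer (N : Set G) := by
    intro s hs
    rw [mem_centralizer_iff]
    intro n hn
    have hn' : (⟨n, hNS hn⟩ : (S : Subgroup G)) ∈ N.subgroupOf (S : Subgroup G) ⊓ center (S : Subgroup G) := by
      rw [h2]; exact mem_subgroupOf.2 hn
    have h3 := (mem_center_iff.1 hn'.2) ⟨s, hs⟩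
    have h4 := congrArg Subtype.val h3
    simpa using h4.symm
  intro hd
  exact S.not_dvd_index (hd.trans (index_dvd_of_le hSZ))

theorem not_dvd_one' {p : ℕ} (hp : p.Prime) : ¬ p ∣ 1 := fun h => hp.one_lt.ne' (Nat.dvd_one.1 h)

universe u

theorem main (p : ℕ) [hp : Fact p.Prime] : ∀ n : ℕ, ∀ (G : Type u) [Group G] [Finite G],
    Nat.card G = n → Cfsg.IsPSolvable p G → HM p G → Q p G := by
  intro n
  induction n using Nat.strong_induction_on with
  | _ n ih =>
  intro G _ _ hn hsol hm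
  have hquot : ∀ N : Subgroup G, ∀ _ : N.Normal, N ≠ ⊥ → Q p (G ⧸ N) := by
    intro N hN hne
    have hlt : Nat.card (G ⧸ N) < n := by
      rw [← hn, ← index_eq_card, ← card_mul_index N]
      have h1 : 1 < Nat.card N := (one_lt_card_iff_ne_bot N).2 hne
      have h2 : 0 < N.index := Nat.pos_of_ne_zero index_ne_zero_of_finite
      nlinarith
    exact ih _ hlt (G ⧸ N) rfl (Cfsg.Agent.Lib.Helper32_PSolvable.isPSolvable_quotient N hsol)
      (HM_quot hp.out N hm)
  by_cases htriv : Subsingleton G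
  · have hc1 : Nat.card G = 1 := Nat.card_eq_one_iff_unique.2 ⟨htriv, ⟨1⟩⟩
    refine ⟨⊥, ⊥, ⊥, ⊥, inferInstance, inferInstance, inferInstance, inferInstance, le_rfl, le_rfl,
      le_rfl, ?_, ⟨0, ?_⟩, ?_, ⟨0, ?_⟩, ?_⟩
    · rw [card_bot]; exact not_dvd_one' hp.out
    · rw [relIndex_self, pow_zero]
    · rw [relIndex_self]; exact not_dvd_one' hp.out
    · rw [relIndex_self, pow_zero]
    · rw [index_bot, hc1]; exact not_dvd_one' hp.out
  rw [not_subsingleton_iff_nontrivial] at htriv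
  by_cases hp' : ∃ N0 : Subgroup G, N0.Normal ∧ N0 ≠ ⊥ ∧ ¬ p ∣ Nat.card N0
  · obtain ⟨N0, hN0, hne, hc⟩ := hp'
    obtain ⟨A, B, C, D, hA, hB, hC, hD, hNA, hAB, hBC, hCD, h1, h2, h3, h4, h5⟩ :=
      pull N0 (hquot N0 hN0 hne)
    refine ⟨A, B, C, D, hA, hB, hC, hD, hAB, hBC, hCD, ?_, h2, h3, h4, h5⟩
    rw [← card_mul_relIndex' N0 A hNA]
    intro hd
    rcases (hp.out.dvd_mul).1 hd with h | h
    · exact hc h
    · exact h1 h
  push Not at hp'
  have hpp : Cfsg.pPrimeCore p G = ⊥ := by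
    unfold Cfsg.pPrimeCore
    rw [eq_bot_iff]
    apply sSup_le
    rintro X ⟨hXn, hXc⟩
    by_contra hX
    have hXne : X ≠ ⊥ := fun h => hX (h ▸ le_rfl)
    have h1 := hp' X hXn hXne
    exact not_dvd_one' hp.out (hXc ▸ Nat.dvd_gcd h1 (dvd_refl p))
  have hP1 : Cfsg.pCore p G ≠ ⊥ :=
    (Cfsg.Agent.Lib.Helper32_PSolvable.exists_core_ne_bot hsol).resolve_left (not_not.2 hpp)
  have hPn : (Cfsg.pCore p G).Normal := Subgroup.sSup_normal _ (fun _ h => h.1)
  have hPp : IsPGroup p (Cfsg.pCore p G) := Sylow.sSup_of_normal _ (fun _ h => h.2) (fun _ h => h.1)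
  -- the centre of O_p(G)
  set ZP : Subgroup G := (center (Cfsg.pCore p G)).map (Cfsg.pCore p G).subtype with hZP
  have hZPn : ZP.Normal := ConjAct.normal_of_characteristic_of_normal
  have hZPle : ZP ≤ Cfsg.pCore p G := by
    rintro _ ⟨x, -, rfl⟩
    exact x.2
  have hZP1 : ZP ≠ ⊥ := by
    have hnt : Nontrivial (Cfsg.pCore p G) := (nontrivial_iff_ne_bot _).2 hP1
    have hcnt : Nontrivial (center (Cfsg.pCore p G)) := hPp.center_nontrivial
    obtain ⟨z, hz⟩ := exists_ne (1 : center (Cfsg.pCore p G))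
    intro h
    have hz1 : ((z : Cfsg.pCore p G) : G) ∈ ZP := ⟨z, z.2, rfl⟩
    rw [h, mem_bot] at hz1
    apply hz
    apply Subtype.ext
    apply Subtype.ext
    exact hz1
  -- minimal normal subgroup inside ZP
  obtain ⟨N, ⟨hNn, hN1, hNZ⟩, hNmin⟩ := wellFounded_lt.has_min
    {X : Subgroup G | X.Normal ∧ X ≠ ⊥ ∧ X ≤ ZP} ⟨ZP, hZPn, hZP1, le_rfl⟩
  have hmin : ∀ X : Subgroup G, X.Normal → X ≤ N → X = ⊥ ∨ X = N := by
    intro X hXn hXN
    by_cases hX : X = ⊥
    · exact Or.inl hX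
    · right
      have h1 := hNmin X ⟨hXn, hX, hXN.trans hNZ⟩
      exact eq_of_le_of_not_lt hXN h1
  have hcomm : ∀ a ∈ N, ∀ b ∈ N, a * b = b * a := by
    intro a ha b hb
    obtain ⟨a', ha', rfl⟩ := hNZ ha
    have hbP : b ∈ Cfsg.pCore p G := hZPle (hNZ hb)
    have h1 := (mem_center_iff.1 ha') ⟨b, hbP⟩
    have h2 := congrArg Subtype.val h1
    simpa using h2.symm
  have hNp : IsPGroup p N := hPp.to_le (hNZ.trans hZPle)
  obtain ⟨a, hcN⟩ := IsPGroup.iff_card.1 hNp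
  have hQN := hquot N hNn hN1
  obtain ⟨A, B, C, D, hA, hB, hC, hD, hNA, hAB, hBC, hCD, h1, ⟨k2, h2⟩, h3, h4, h5⟩ := pull N hQN
  by_cases hAN : A ≤ N
  · -- A = N
    have hAeq : A = N := le_antisymm hAN hNA
    refine ⟨⊥, B, C, D, inferInstance, hB, hC, hD, bot_le, hBC, hCD, ?_, ⟨a + k2, ?_⟩, h3, h4, h5⟩
    · rw [card_bot]; exact not_dvd_one' hp.out
    · have h2' : N.relIndex B = p ^ k2 := hAeq ▸ h2
      rw [relIndex_bot_left, ← card_mul_relIndex' N B (hNA.trans hAB), hcN, h2', pow_add]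
  -- A ≠ N: Schur-Zassenhaus and Frattini
  have hcop : (Nat.card N).Coprime (N.relIndex A) := by
    rw [hcN]
    exact Nat.Coprime.pow_left _ ((Nat.Prime.coprime_iff_not_dvd hp.out).2 h1)
  obtain ⟨H, hHA, hNH, hcH, hfr⟩ := frattini_compl N A hNA hcomm hcop
  have hH1 : H ≠ ⊥ := by
    intro h
    apply hAN
    rw [← relIndex_eq_one, ← hcH, h, card_bot]
  have hHnn : normalizer (H : Set G) ≠ ⊤ := by
    intro h
    have hHn : H.Normal := normalizer_eq_top_iff.1 h
    exact h1 (hcH ▸ hp' H hHn hH1)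
  obtain ⟨M, hM, hHM⟩ := (eq_top_or_exists_le_coatom (normalizer (H : Set G))).resolve_left hHnn
  have hNM : ¬ N ≤ M := by
    intro h
    apply hM.1
    rw [eq_top_iff]
    intro g _
    obtain ⟨a', ha', hg⟩ := hfr g
    have : g = a' * (a'⁻¹ * g) := by group
    rw [this]
    exact M.mul_mem (h ha') (hHM hg)
  obtain ⟨hsup, hinf, hdec⟩ := compl_max N M hcomm hmin hM hNM
  rcases hm M hM with ⟨K, hK, hK1, k, hK2⟩ | hprime
  · exact case_i hp.out N M a hcN hsup hinf K hK hK1 k hK2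
  -- |G : M| prime, so |N| = p
  have hidx : M.index = Nat.card N := by
    have e1 := card_mul_index M
    have e2 : Nat.card G = Nat.card N * Nat.card M := by
      rw [← card_mul_index N, ← relIndex_top_right, ← hsup, sup_comm, relIndex_sup_right,
        relIndex_of_inf_bot _ _ hinf]
    rw [e2, mul_comm] at e1
    exact Nat.eq_of_mul_eq_mul_right Nat.card_pos e1
  have hcNp : Nat.card N = p := by
    rw [hidx, hcN] at hprime
    have h := (hprime.pow_eq_iff (a := p) (k := a)).1 rfl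
    rw [hcN, h.2, pow_one]
  have hZn : (centralizer (N : Set G)).Normal := normal_centralizer
  have hNZc : N ≤ centralizer (N : Set G) := by
    intro x hx
    rw [mem_centralizer_iff]
    intro y hy
    exact hcomm y hy x hx
  have hZMn : (centralizer (N : Set G) ⊓ M).Normal := by
    refine ⟨fun x hx g => ?_⟩
    obtain ⟨a', ha', m, hm', rfl⟩ := hdec g
    have hy : m * x * m⁻¹ ∈ centralizer (N : Set G) ⊓ M :=
      ⟨hZn.conj_mem x hx.1 m, M.mul_mem (M.mul_mem hm' hx.2) (M.inv_mem hm')⟩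
    have e : a' * m * x * (a' * m)⁻¹ = m * x * m⁻¹ := by
      have hc : a' * (m * x * m⁻¹) = (m * x * m⁻¹) * a' := mem_centralizer_iff.1 hy.1 a' ha'
      calc a' * m * x * (a' * m)⁻¹ = (a' * (m * x * m⁻¹)) * a'⁻¹ := by group
        _ = ((m * x * m⁻¹) * a') * a'⁻¹ := by rw [hc]
        _ = m * x * m⁻¹ := by group
    rw [e]; exact hy
  by_cases hZM1 : centralizer (N : Set G) ⊓ M = ⊥
  · have hZN : centralizer (N : Set G) ≤ N := by
      intro z hz
      obtain ⟨a', ha', m, hm', rfl⟩ := hdec z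
      have hmZ : m ∈ centralizer (N : Set G) ⊓ M := by
        refine ⟨?_, hm'⟩
        have h6 := (centralizer (N : Set G)).mul_mem ((centralizer (N : Set G)).inv_mem (hNZc ha')) hz
        rw [inv_mul_cancel_left] at h6
        exact h6
      rw [hZM1, mem_bot] at hmZ
      rw [hmZ, mul_one]; exact ha'
    have hidxN : ¬ p ∣ N.index := fun hd =>
      not_dvd_index_centralizer N hcNp (hd.trans (index_dvd_of_le hZN))
    refine ⟨⊥, N, ⊤, ⊤, inferInstance, hNn, inferInstance, inferInstance, bot_le, le_top, le_rfl,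
      ?_, ⟨1, ?_⟩, ?_, ⟨0, ?_⟩, ?_⟩
    · rw [card_bot]; exact not_dvd_one' hp.out
    · rw [relIndex_bot_left, hcNp, pow_one]
    · rw [relIndex_top_right]; exact hidxN
    · rw [relIndex_self, pow_zero]
    · rw [index_top]; exact not_dvd_one' hp.out
  · have hinf2 : N ⊓ (centralizer (N : Set G) ⊓ M) = ⊥ := by
      rw [eq_bot_iff, ← hinf]
      exact inf_le_inf le_rfl inf_le_right
    exact F2 hp.out N _ hinf2 hNn hZMn (pull N hQN) (pull _ (hquot _ hZMn hZM1))

/-- Let p be an odd prime and G a finite p-solvable group in which every maximal subgroup either has a normal p-complement or has prime index. Then G has a chain of normal subgroups 1 ≤ A ≤ B ≤ C ≤ D ≤ G in which A, C/B and G/D have order prime to p and B/A and D/C are p-groups (so the p-length of G is at most 2). -/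
theorem result {G : Type*} [Group G] [Finite G]
    (p : ℕ) [Fact p.Prime] (hp : p ≠ 2) (hG : Cfsg.IsPSolvable p G)
    (hmax : ∀ M : Subgroup G, IsCoatom M → (∃ K : Subgroup ↥M, K.Normal ∧ ¬ p ∣ Nat.card K ∧ ∃ k : ℕ, K.index = p ^ k) ∨ (M.index).Prime) :
    ∃ A B C D : Subgroup G, A.Normal ∧ B.Normal ∧ C.Normal ∧ D.Normal ∧ A ≤ B ∧ B ≤ C ∧ C ≤ D ∧ ¬ p ∣ Nat.card A ∧
      (∃ k : ℕ, A.relIndex B = p ^ k) ∧ ¬ p ∣ B.relIndex C ∧ (∃ k : ℕ, C.relIndex D = p ^ k) ∧ ¬ p ∣ D.index :=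
  main p _ G rfl hG hmax

end Cfsg.Agent.S4379
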