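import Mathlib
import Cfsg.Statements.S4381
import Cfsg.Agent.Lib.Helper1_Coprime
import Cfsg.Agent.Lib.Helper1_Frattini
import Cfsg.Agent.S0660

set_option autoImplicit false
open Pointwise
open Cfsg

namespace Cfsg.Agent.S4381

/-- existence of an invariant Sylow subgroup for an external coprime action. -/
theorem exists_invariant_sylow_ext {A G : Type*} [Group A] [Finite A] [Group G] [Finite G]
    [MulDistribMulAction A G]
    (hcop : (Nat.card A).Coprime (Nat.card G)) (hsol : Group.IsSolvable A ∨ Group.IsSolvable G)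
    (q : ℕ) [Fact q.Prime] :
    ∃ Q : Subgroup G, IsPGroup q Q ∧ ¬ q ∣ Q.index ∧ ∀ a : A, ∀ x ∈ Q, a • x ∈ Q := by
  set φ : A →* MulAut G := MulDistribMulAction.toMulAut A G with hφ
  have : Finite (G ⋊[φ] A) := Finite.of_equiv _ SemidirectProduct.equivProd.symm
  set K : Subgroup (G ⋊[φ] A) := (SemidirectProduct.inl : G →* G ⋊[φ] A).range with hK
  set A' : Subgroup (G ⋊[φ] A) := (SemidirectProduct.inr : A →* G ⋊[φ] A).range with hA'
  have hKn : K.Normal := by
    rw [hK, SemidirectProduct.range_inl_eq_ker_rightHom]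
    exact MonoidHom.normal_ker _
  have hAK : A' ≤ Subgroup.normalizer (K : Set (G ⋊[φ] A)) := by
    rw [Subgroup.normalizer_eq_top]
    exact le_top
  let eK : G ≃* K := MonoidHom.ofInjective SemidirectProduct.inl_injective
  let eA : A ≃* A' := MonoidHom.ofInjective SemidirectProduct.inr_injective
  have hKcard : Nat.card K = Nat.card G := (Nat.card_congr eK.toEquiv).symm
  have hAcard : Nat.card A' = Nat.card A := (Nat.card_congr eA.toEquiv).symm
  have hcop' : (Nat.card A').Coprime (Nat.card K) := by rw [hKcard, hAcard]; exact hcop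
  have hsol' : Group.IsSolvable A' ∨ Group.IsSolvable K := by
    rcases hsol with h | h
    · left
      exact Group.isSolvable_of_surjective (f := eA.toMonoidHom) eA.surjective
    · right
      exact Group.isSolvable_of_surjective (f := eK.toMonoidHom) eK.surjective
  obtain ⟨P, hP⟩ := Cfsg.Agent.Lib.Helper1_Coprime.exists_invariant_sylow A' K hAK hcop' hsol' q
  refine ⟨(P : Subgroup K).comap eK.toMonoidHom, ?_, ?_, ?_⟩
  · exact P.isPGroup'.comap_of_injective eK.toMonoidHom eK.injective
  · have hidx : ((P : Subgroup K).comap eK.toMonoidHom).index = (P : Subgroup K).index :=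
      Subgroup.index_comap_of_surjective (P : Subgroup K) (f := eK.toMonoidHom) eK.surjective
    rw [hidx]
    exact P.not_dvd_index
  · intro a x hx
    rw [Subgroup.mem_comap] at hx ⊢
    have ha : (SemidirectProduct.inr a : G ⋊[φ] A) ∈ A' := ⟨a, rfl⟩
    have hn := hP ha
    rw [Subgroup.mem_normalizer_iff] at hn
    have h1 : (SemidirectProduct.inl x : G ⋊[φ] A) ∈ (P : Subgroup K).map K.subtype :=
      ⟨eK x, hx, rfl⟩
    have h2 := (hn _).mp h1
    have h3 : (SemidirectProduct.inl (a • x) : G ⋊[φ] A) =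
        SemidirectProduct.inr a * SemidirectProduct.inl x * (SemidirectProduct.inr a)⁻¹ := by
      rw [← map_inv]
      exact SemidirectProduct.inl_aut a x
    rw [← h3] at h2
    obtain ⟨y, hy, hy'⟩ := h2
    have : y = eK (a • x) := Subtype.ext hy'
    change eK (a • x) ∈ (P : Subgroup K)
    rw [← this]
    exact hy

section basics
variable {A G : Type*} [Group A] [Group G] [MulDistribMulAction A G]

/-- `L` is invariant under `A`. -/
def Inv (A : Type*) {G : Type*} [Group A] [Group G] [MulDistribMulAction A G] (L : Subgroup G) : Prop :=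
  ∀ a : A, ∀ x ∈ L, a • x ∈ L

/-- `M` is a maximal `A`-invariant subgroup. -/
def MaxInv (A : Type*) {G : Type*} [Group A] [Group G] [MulDistribMulAction A G] (M : Subgroup G) :
    Prop :=
  M ≠ ⊤ ∧ (∀ a : A, ∀ x ∈ M, a • x ∈ M) ∧
    ∀ L : Subgroup G, M < L → (∀ a : A, ∀ x ∈ L, a • x ∈ L) → L = ⊤

theorem inv_iff_map_le (L : Subgroup G) :
    Inv A L ↔ ∀ a : A, L.map (MulDistribMulAction.toMonoidHom G a) ≤ L := by
  constructor
  · rintro h a _ ⟨x, hx, rfl⟩
    exact h a x hx
  · intro h a x hx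
    exact h a ⟨x, hx, rfl⟩

theorem inv_frattini : Inv A (frattini G) := by
  intro a x hx
  have h := Subgroup.characteristic_iff_map_le.mp (frattini_characteristic (G := G))
    (MulDistribMulAction.toMulAut A G a)
  exact h ⟨x, hx, rfl⟩

theorem inv_sup {L₁ L₂ : Subgroup G} (h₁ : Inv A L₁) (h₂ : Inv A L₂) : Inv A (L₁ ⊔ L₂) := by
  rw [inv_iff_map_le] at h₁ h₂ ⊢
  intro a
  rw [Subgroup.map_sup]
  exact sup_le_sup (h₁ a) (h₂ a)

theorem inv_bot : Inv A (⊥ : Subgroup G) := by
  intro a x hx
  rw [Subgroup.mem_bot] at hx ⊢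
  rw [hx, smul_one]

theorem exists_maxInv [Finite G] (L₀ : Subgroup G) (hL₀ : Inv A L₀) (hne : L₀ ≠ ⊤) :
    ∃ M : Subgroup G, L₀ ≤ M ∧ MaxInv A M := by
  have hfin : {L : Subgroup G | L ≠ ⊤ ∧ Inv A L}.Finite := Set.toFinite _
  obtain ⟨M, hLM, hM⟩ := hfin.exists_le_maximal (a := L₀) ⟨hne, hL₀⟩
  refine ⟨M, hLM, hM.prop.1, hM.prop.2, ?_⟩
  intro L hML hL
  by_contra hLtop
  have := hM.le_of_ge (y := L) ⟨hLtop, hL⟩ hML.le
  exact absurd hML (not_lt_of_ge this)

/-- Part 2: under irreducibility modulo the Frattini subgroup, the Frattini subgroup is the only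
maximal invariant subgroup. -/
theorem maxInv_iff_of_irr [Finite G]
    (hirr : ∀ L : Subgroup G, frattini G < L → (∀ a : A, ∀ x ∈ L, a • x ∈ L) → L = ⊤)
    (M : Subgroup G) : MaxInv A M ↔ (M = frattini G ∧ M ≠ ⊤) := by
  constructor
  · rintro ⟨hne, hinv, hmax⟩
    refine ⟨?_, hne⟩
    have hsupinv : Inv A (M ⊔ frattini G) := inv_sup hinv inv_frattini
    have hle : frattini G ≤ M := by
      by_contra hnle
      have hlt : M < M ⊔ frattini G := by
        apply lt_of_le_of_ne le_sup_left
        intro heq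
        apply hnle
        rw [heq]
        exact le_sup_right
      have := hmax _ hlt hsupinv
      exact hne (frattini_nongenerating this)
    by_contra hneq
    have hlt : frattini G < M := lt_of_le_of_ne hle (Ne.symm hneq)
    exact hne (hirr M hlt hinv)
  · rintro ⟨rfl, hne⟩
    exact ⟨hne, inv_frattini, fun L hL hLinv => hirr L hL hLinv⟩

end basics

section step1
variable {A G : Type*} [Group A] [Finite A] [Group G] [Finite G] [MulDistribMulAction A G]

theorem exists_prime_isPGroup (hcop : (Nat.card A).Coprime (Nat.card G))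
    (hsol : Group.IsSolvable A ∨ Group.IsSolvable G)
    (hconj : ∀ M N : Subgroup G, MaxInv A M → MaxInv A N →
      ∃ c : G, (∀ a : A, a • c = c) ∧ N = MulAut.conj c • M) :
    ∃ p : ℕ, p.Prime ∧ IsPGroup p G := by
  by_contra hnp
  simp only [not_exists, not_and] at hnp
  have hbt : (⊥ : Subgroup G) ≠ ⊤ := by
    intro h
    apply hnp 2 Nat.prime_two
    intro g
    refine ⟨0, ?_⟩
    have : g ∈ (⊥ : Subgroup G) := by rw [h]; trivial
    rw [Subgroup.mem_bot] at this
    rw [this, one_pow]
  obtain ⟨M, -, hM⟩ := exists_maxInv (A := A) ⊥ inv_bot hbt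
  have hidx : M.index ≠ 1 := fun h => hM.1 (Subgroup.index_eq_one.mp h)
  obtain ⟨q, hq, hqdvd⟩ := Nat.exists_prime_and_dvd hidx
  have : Fact q.Prime := ⟨hq⟩
  obtain ⟨Q, hQp, hQi, hQinv⟩ := exists_invariant_sylow_ext hcop hsol q
  have hQne : Q ≠ ⊤ := by
    rintro rfl
    apply hnp q hq
    exact hQp.of_equiv Subgroup.topEquiv
  obtain ⟨M', hQM', hM'⟩ := exists_maxInv (A := A) Q hQinv hQne
  obtain ⟨c, -, hc⟩ := hconj M M' hM hM'
  have hidx' : M'.index = M.index := by
    rw [hc, Subgroup.pointwise_smul_def]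
    exact Subgroup.index_map_equiv M (MulAut.conj c)
  have h1 : q ∣ M'.index := by rw [hidx']; exact hqdvd
  exact hQi (h1.trans (Subgroup.index_dvd_of_le hQM'))

end step1

/-- a subgroup of a finite abelian group of prime exponent has a complement. -/
theorem exists_compl_of_exponent {V : Type*} [CommGroup V] [Finite V] {p : ℕ} (hp : p.Prime)
    (hexp : ∀ x : V, x ^ p = 1) (U : Subgroup V) : ∃ W : Subgroup V, U ⊓ W = ⊥ ∧ U ⊔ W = ⊤ := by
  have hfin : {W : Subgroup V | U ⊓ W = ⊥}.Finite := Set.toFinite _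
  obtain ⟨W, -, hW⟩ := hfin.exists_le_maximal (a := ⊥) (by simp)
  refine ⟨W, hW.prop, ?_⟩
  by_contra hne
  obtain ⟨v, hv⟩ : ∃ v, v ∉ U ⊔ W := by
    by_contra h
    simp only [not_exists, not_not] at h
    exact hne (eq_top_iff.mpr (fun x _ => h x))
  have hv1 : v ≠ 1 := by
    rintro rfl
    exact hv (one_mem _)
  have hov : orderOf v = p := by
    have := orderOf_dvd_of_pow_eq_one (hexp v)
    rcases (Nat.dvd_prime hp).mp this with h | h
    · exact absurd (orderOf_eq_one_iff.mp h) hv1
    · exact h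
  have hW1 : U ⊓ (W ⊔ Subgroup.zpowers v) = ⊥ := by
    rw [eq_bot_iff]
    rintro x ⟨hxU, hxW⟩
    obtain ⟨w, hw, z, hz, rfl⟩ := Subgroup.mem_sup.mp hxW
    obtain ⟨k, rfl⟩ := Subgroup.mem_zpowers_iff.mp hz
    by_cases hk : v ^ k = 1
    · rw [hk, mul_one] at hxU ⊢
      have : w ∈ U ⊓ W := ⟨hxU, hw⟩
      rw [hW.prop] at this
      exact this
    · exfalso
      have hvk : v ^ k ∈ U ⊔ W := by
        have : v ^ k = w⁻¹ * (w * v ^ k) := by group
        rw [this]
        exact Subgroup.mul_mem _ (Subgroup.mem_sup_right (W.inv_mem hw)) (Subgroup.mem_sup_left hxU)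
      have hovk : orderOf (v ^ k) = p := by
        have h1 : (v ^ k) ^ p = 1 := hexp _
        have := orderOf_dvd_of_pow_eq_one h1
        rcases (Nat.dvd_prime hp).mp this with h | h
        · exact absurd (orderOf_eq_one_iff.mp h) hk
        · exact h
      have hle : Subgroup.zpowers (v ^ k) ≤ Subgroup.zpowers v :=
        Subgroup.zpowers_le.mpr (Subgroup.zpow_mem _ (Subgroup.mem_zpowers v) k)
      have heq := Subgroup.eq_of_le_of_card_ge hle
        (by rw [Nat.card_zpowers, Nat.card_zpowers, hov, hovk])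
      have : v ∈ Subgroup.zpowers (v ^ k) := by rw [heq]; exact Subgroup.mem_zpowers v
      exact hv ((Subgroup.zpowers_le.mpr hvk) this)
  have := hW.le_of_ge (y := W ⊔ Subgroup.zpowers v) hW1 le_sup_left
  exact hv (Subgroup.mem_sup_right (this (Subgroup.mem_sup_right (Subgroup.mem_zpowers v))))

section quot
variable {A G : Type*} [Group A] [Group G] [MulDistribMulAction A G]

/-- the action induced on the quotient by an invariant normal subgroup. -/
@[reducible] def quotAction (N : Subgroup G) [N.Normal] (hN : ∀ a : A, ∀ x ∈ N, a • x ∈ N) :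
    MulDistribMulAction A (G ⧸ N) where
  smul a := QuotientGroup.map N N (MulDistribMulAction.toMonoidHom G a) (fun x hx => hN a x hx)
  one_smul q := by
    induction q using QuotientGroup.induction_on with
    | H x =>
      show (((1 : A) • x : G) : G ⧸ N) = x
      rw [one_smul]
  mul_smul a b q := by
    induction q using QuotientGroup.induction_on with
    | H x =>
      show (((a * b) • x : G) : G ⧸ N) = ((a • (b • x) : G) : G ⧸ N)
      rw [mul_smul]
  smul_mul a q r := map_mul _ q r
  smul_one a := map_one _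

theorem quotAction_mk (N : Subgroup G) [N.Normal] (hN : ∀ a : A, ∀ x ∈ N, a • x ∈ N) (a : A) (x : G) :
    letI := quotAction N hN
    a • (x : G ⧸ N) = ((a • x : G) : G ⧸ N) := rfl

end quot

section step2
variable {A G : Type*} [Group A] [Finite A] [Group G] [Finite G] [MulDistribMulAction A G]

open scoped IsMulCommutative commutatorElement in
theorem irr_of_conj {p : ℕ} [Fact p.Prime] (hG : IsPGroup p G)
    (hcop : (Nat.card A).Coprime (Nat.card G))
    (hconj : ∀ M N : Subgroup G, MaxInv A M → MaxInv A N →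
      ∃ c : G, (∀ a : A, a • c = c) ∧ N = MulAut.conj c • M) :
    ∀ L : Subgroup G, frattini G < L → (∀ a : A, ∀ x ∈ L, a • x ∈ L) → L = ⊤ := by
  intro L hΦL hLinv
  by_contra hLne
  have hcommle := Cfsg.Agent.Lib.Helper1_Frattini.commutator_le_frattini_of_isPGroup hG
  have hcomm : IsMulCommutative (G ⧸ frattini G) := by
    constructor
    constructor
    intro x y
    induction x using QuotientGroup.induction_on with
    | H x =>
      induction y using QuotientGroup.induction_on with
      | H y =>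
        rw [← QuotientGroup.mk_mul, ← QuotientGroup.mk_mul, QuotientGroup.eq]
        apply hcommle
        have : (x * y)⁻¹ * (y * x) = ⁅y⁻¹, x⁻¹⁆ := by
          rw [commutatorElement_def]; group
        rw [this]
        exact Subgroup.commutator_mem_commutator (Subgroup.mem_top _) (Subgroup.mem_top _)
  let act : MulDistribMulAction A (G ⧸ frattini G) := quotAction (A := A) (frattini G) inv_frattini
  have hexp : ∀ v : G ⧸ frattini G, v ^ p = 1 := by
    intro v
    induction v using QuotientGroup.induction_on with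
    | H x =>
      rw [← QuotientGroup.mk_pow, QuotientGroup.eq_one_iff]
      exact Cfsg.Agent.Lib.Helper1_Frattini.pow_mem_frattini_of_isPGroup hG x
  set U : Subgroup (G ⧸ frattini G) := L.map (QuotientGroup.mk' (frattini G)) with hU
  obtain ⟨W, hUW, hsup⟩ := exists_compl_of_exponent (Fact.out : p.Prime) hexp U
  have hcopV : (Nat.card A).Coprime (Nat.card (G ⧸ frattini G)) :=
    Nat.Coprime.coprime_dvd_right (Subgroup.card_quotient_dvd_card _) hcop
  have hUinv : ∀ a : A, ∀ u ∈ U, a • u ∈ U := by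
    rintro a _ ⟨l, hl, rfl⟩
    exact ⟨a • l, hLinv a l hl, rfl⟩
  obtain ⟨W', hW'inv, hUW', hsup'⟩ := Cfsg.Agent.S0660.maschke_abstract hcopV U W hUinv hUW hsup
  set L' := W'.comap (QuotientGroup.mk' (frattini G)) with hL'
  have hL'inv : Inv A L' := by
    intro a x hx
    rw [hL', Subgroup.mem_comap] at hx ⊢
    exact hW'inv a _ hx
  have hsupL : L ⊔ L' = ⊤ := by
    have h1 : U.comap (QuotientGroup.mk' (frattini G)) = L := by
      rw [hU, Subgroup.comap_map_eq, QuotientGroup.ker_mk', sup_eq_left.mpr hΦL.le]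
    rw [← h1, hL', Subgroup.comap_sup_eq _ _ _ (QuotientGroup.mk'_surjective _), hsup',
      Subgroup.comap_top]
  have hL'ne : L' ≠ ⊤ := by
    intro h
    have hW'top : W' = ⊤ := by
      have := Subgroup.map_comap_eq_self_of_surjective
        (QuotientGroup.mk'_surjective (frattini G)) W'
      rw [← hL', h, Subgroup.map_top_of_surjective _ (QuotientGroup.mk'_surjective _)] at this
      exact this.symm
    rw [hW'top, inf_top_eq] at hUW'
    rw [hU, Subgroup.map_eq_bot_iff, QuotientGroup.ker_mk'] at hUW'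
    exact absurd hΦL (not_lt_of_ge hUW')
  obtain ⟨M₁, hLM₁, hM₁⟩ := exists_maxInv (A := A) L hLinv hLne
  obtain ⟨M₂, hLM₂, hM₂⟩ := exists_maxInv (A := A) L' hL'inv hL'ne
  obtain ⟨c, -, hc⟩ := hconj M₁ M₂ hM₁ hM₂
  have hM₁n : M₁.Normal :=
    Cfsg.Agent.Lib.Helper1_Frattini.normal_of_commutator_le (hcommle.trans (hΦL.le.trans hLM₁))
  rw [Subgroup.Normal.conj_smul_eq_self] at hc
  apply hM₁.1
  rw [eq_top_iff, ← hsupL]
  exact sup_le hLM₁ (hc ▸ hLM₂)

end step2

/-- Let the finite group A act by automorphisms on the finite group G with the orders of A and G coprime, and assume that A or G is solvable. Call a proper A-invariant subgroup of G maximal A-invariant when no A-invariant subgroup lies strictly between it and G. Then all maximal A-invariant subgroups of G are conjugate under elements of the fixed-point subgroup C_G(A) if and only if G is a p-group for some prime p and A leaves invariant no subgroup strictly between the Frattini subgroup of G and G. In that case, if G is nontrivial,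 the Frattini subgroup is the only maximal A-invariant subgroup (a trivial G has none). -/
theorem result {A G : Type*} [Group A] [Finite A]
    [Group G] [Finite G] [MulDistribMulAction A G] (hcop : (Nat.card A).Coprime (Nat.card G)) (hsol : Group.IsSolvable A ∨ Group.IsSolvable G) :
    ((∀ M N : Subgroup G, (M ≠ ⊤ ∧ (∀ a : A, ∀ x ∈ M, a • x ∈ M) ∧ ∀ L : Subgroup G, M < L → (∀ a : A, ∀ x ∈ L, a • x ∈ L) → L = ⊤) → (N ≠ ⊤ ∧ (∀ a : A, ∀ x ∈ N, a • x ∈ N) ∧ ∀ L : Subgroup G, N < L → (∀ a : A, ∀ x ∈ L, a • x ∈ L) → L = ⊤) →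
        ∃ c : G, (∀ a : A, a • c = c) ∧ N = MulAut.conj c • M) ↔
      ((∃ p : ℕ, p.Prime ∧ IsPGroup p G) ∧ ∀ L : Subgroup G, frattini G < L → (∀ a : A, ∀ x ∈ L, a • x ∈ L) → L = ⊤)) ∧
    (((∃ p : ℕ, p.Prime ∧ IsPGroup p G) ∧ ∀ L : Subgroup G, frattini G < L → (∀ a : A, ∀ x ∈ L, a • x ∈ L) → L = ⊤) →
      ∀ M : Subgroup G, (M ≠ ⊤ ∧ (∀ a : A, ∀ x ∈ M, a • x ∈ M) ∧ ∀ L : Subgroup G, M < L → (∀ a : A, ∀ x ∈ L, a • x ∈ L) → L = ⊤) ↔ (M = frattini G ∧ M ≠ ⊤)) := by
  refine ⟨⟨?_, ?_⟩, ?_⟩
  · intro hconj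
    have hconj' : ∀ M N : Subgroup G, MaxInv A M → MaxInv A N →
        ∃ c : G, (∀ a : A, a • c = c) ∧ N = MulAut.conj c • M := hconj
    obtain ⟨p, hp, hG⟩ := exists_prime_isPGroup hcop hsol hconj'
    have : Fact p.Prime := ⟨hp⟩
    exact ⟨⟨p, hp, hG⟩, irr_of_conj hG hcop hconj'⟩
  · rintro ⟨-, hirr⟩ M N hM hN
    have h1 := (maxInv_iff_of_irr (A := A) hirr M).mp hM
    have h2 := (maxInv_iff_of_irr (A := A) hirr N).mp hN
    refine ⟨1, fun a => smul_one a, ?_⟩
    rw [h1.1, h2.1, map_one, one_smul]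
  · rintro ⟨-, hirr⟩ M
    exact maxInv_iff_of_irr (A := A) hirr M

end Cfsg.Agent.S4381
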