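import Cfsg.Statements.S4385
import Cfsg.Agent.Lib.Helper84_TutteDefs
import Cfsg.Agent.Lib.Helper84_TutteAPI
import Cfsg.Agent.Lib.Helper1_Cores
import Cfsg.Agent.Lib.Helper10_Tutte_CSTAB
import Cfsg.Agent.Lib.Helper10_Tutte_TC7
import Cfsg.Agent.Lib.Helper21_Tutte_ID5b
import Cfsg.Agent.Lib.Helper2_Tutte_TB
import Cfsg.Agent.Lib.Helper2_Tutte_TD
import Cfsg.Agent.Lib.Helper30_Tutte_SDIH4
import Cfsg.Agent.Lib.Helper30_Tutte_TA
import Cfsg.Agent.Lib.Helper31_Tutte_C_IDX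
import Cfsg.Agent.Lib.Helper39_Tutte_ID3
import Cfsg.Agent.Lib.Helper3_Tutte_S_CHAIN
import Cfsg.Agent.Lib.Helper42_Tutte_CBOT
import Cfsg.Agent.Lib.Helper42_Tutte_SODD
import Cfsg.Agent.Lib.Helper46_Tutte_SDIH1
import Cfsg.Agent.Lib.Helper46_Tutte_SDIH2
import Cfsg.Agent.Lib.Helper47_Tutte_SCORE
import Cfsg.Agent.Lib.Helper47_Tutte_SDIH3
import Cfsg.Agent.Lib.Helper53_Tutte_C_GEN
import Cfsg.Agent.Lib.Helper5_Tutte_ID5a
import Cfsg.Agent.Lib.Helper5_Tutte_SINT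
import Cfsg.Agent.Lib.Helper65_Tutte_ID4
import Cfsg.Agent.Lib.Helper84_Tutte_CSYS
import Cfsg.Agent.Lib.Helper91_Tutte_IDK

set_option autoImplicit false
open Pointwise
open Cfsg

namespace Cfsg.Agent.S4385

open scoped commutatorElement
open Cfsg.Agent.Lib.Helper84_TutteDefs

/-- membership in `XX i i` for a Tutte system -/
theorem mem_XX_single {G : Type*} [Group G] {H : Subgroup G} {g x0 : G} {s : ℕ} (h : TSys H g x0 s)
    (i : ℤ) {c : G} (hc : c ∈ XX g x0 i i) (hc1 : c ≠ 1) : c = xs g x0 i := by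
  have h2 := h.two_le
  rcases h.mem_or_mul_mem_right (i := i) (j := i) le_rfl (by omega) hc with h1 | h1
  · rw [XX_eq_bot (by omega), Subgroup.mem_bot] at h1
    exact absurd h1 hc1
  · rw [XX_eq_bot (by omega), Subgroup.mem_bot] at h1
    have := h.xs_inv i
    rw [← this]
    exact eq_inv_of_mul_eq_one_left h1

theorem result {G : Type*} [Group G] [Finite G]
    (H : Subgroup G) (hO : Cfsg.pCore 2 ↥H ≠ ⊥) (n : ℕ) (hn : 2 ≤ n) (hdih : Nonempty (↥H ⧸ Cfsg.pCore 2 ↥H ≃* DihedralGroup n))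
    (P : Subgroup G) (hPH : P ≤ H) (hP : IsPGroup 2 P) (hPsyl : ¬ 2 ∣ P.relIndex H)
    (S : Sylow 2 G) (hPS : P ≤ (S : Subgroup G)) (y : G) (hyS : y ∈ (S : Subgroup G)) (hyP : y ∉ P)
    (hy2 : y ^ 2 ∈ P ⊔ Subgroup.centralizer (P : Set G)) (hyN : MulAut.conj y • P = P)
    (hyQ : ∀ Q : Subgroup G, Q ≤ P → (Q.subgroupOf H).Normal → MulAut.conj y • Q = Q → Q = ⊥) :
    (Nat.card P = 4 ∨ Nat.card P = 8 ∨ Nat.card P = 16) ∧
    (Nonempty (↥H ⧸ Cfsg.oddCore ↥H ≃* Multiplicative (ZMod 2) × Multiplicative (ZMod 2)) ∨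
     Nonempty (↥H ⧸ Cfsg.oddCore ↥H ≃* Equiv.Perm (Fin 4)) ∨
     Nonempty (↥H ⧸ Cfsg.oddCore ↥H ≃* Equiv.Perm (Fin 4) × Multiplicative (ZMod 2))) := by
  have hyN' : cj y P = P := hyN
  have hyQ' : ∀ Q : Subgroup G, Q ≤ P → (Q.subgroupOf H).Normal → cj y Q = Q → Q = ⊥ := hyQ
  -- PART 0
  have hodd : Odd n := Cfsg.Agent.Lib.Helper42_Tutte_SODD.odd_of_dihedral (X := ↥H) n hn hdih
  have hn3 : 3 ≤ n := by
    obtain ⟨k, hk⟩ := hodd
    omega
  obtain ⟨hQP, hQ2, hPn, hQn, hnot2⟩ := Cfsg.Agent.Lib.Helper46_Tutte_SDIH1.dih_basic H P n hodd hn3 hdih hPH hP hPsyl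
  have hN := Cfsg.Agent.Lib.Helper46_Tutte_SDIH2.dih_normalizer H P n hodd hn3 hdih hPH hP hPsyl
  obtain ⟨ρ, hρH, hgen, hinf⟩ := Cfsg.Agent.Lib.Helper47_Tutte_SDIH3.dih_rho H P n hodd hn3 hdih hPH hP hPsyl
  obtain ⟨M, hKM, hMH, hM2, hMn⟩ := Cfsg.Agent.Lib.Helper30_Tutte_SDIH4.dih_rot H n hodd hn3 hdih
  generalize hQ0 : (Cfsg.pCore 2 ↥H).map H.subtype = Q0 at *
  have hQ0ne : Q0 ≠ ⊥ := by
    intro h
    apply hO
    rw [← hQ0] at h
    exact (Subgroup.map_eq_bot_iff_of_injective _ H.subtype_injective).mp h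
  have hQ0sub : Q0.subgroupOf H = Cfsg.pCore 2 ↥H := by
    rw [← hQ0]
    exact Subgroup.comap_map_eq_self_of_injective H.subtype_injective _
  have hyQ0 : cj y Q0 ≠ Q0 := by
    intro h
    apply hQ0ne
    refine hyQ' Q0 hQP ?_ h
    rw [hQ0sub]
    exact Cfsg.Agent.Lib.Helper1_Cores.pCore_normal 2
  have hint := Cfsg.Agent.Lib.Helper5_Tutte_SINT.inter_eq H P Q0 y hPH hQP hQ2 hQn hN hyN' hyQ0
  have hcore := Cfsg.Agent.Lib.Helper47_Tutte_SCORE.core_free H P y hPH hyN' hy2 hyQ'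
  have hch := Cfsg.Agent.Lib.Helper3_Tutte_S_CHAIN.chainHyp_of H P Q0 y ρ hint hρH hgen hinf hQ2 hyN' hcore hnot2
  have hgP : H ⊓ cj (y * ρ) H = P := by
    rw [← cj_cj, cj_eq_self_of_mem hρH]
    exact hint
  generalize y * ρ = g at *
  -- PART 1
  have hidx := Cfsg.Agent.Lib.Helper31_Tutte_C_IDX.chain_index hch
  obtain ⟨s, hd⟩ := Cfsg.Agent.Lib.Helper10_Tutte_CSTAB.exists_chainData hch hidx
  obtain ⟨hgen1, hgen2⟩ := Cfsg.Agent.Lib.Helper53_Tutte_C_GEN.chain_gen hch hd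
  have hbot := Cfsg.Agent.Lib.Helper42_Tutte_CBOT.chain_bot hch hd hgen2
  obtain ⟨x0, hT, hXP, hcardP⟩ := Cfsg.Agent.Lib.Helper84_Tutte_CSYS.exists_tsys hch hd hbot hgen1 hgen2
  rw [hgP] at hcardP
  -- PART 3 (3.0)
  have hK : XX g x0 1 ((s : ℤ) - 2) = Q0 :=
    Cfsg.Agent.Lib.Helper91_Tutte_IDK.K_eq hT Q0 hXP (hgP ▸ hQP) (hgP ▸ hQ2) hQn (hgP ▸ hPsyl)
  have hs2 := hT.two_le
  have hs3 : 3 ≤ s := by
    by_contra hlt
    have : s = 2 := by omega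
    subst this
    apply hQ0ne
    rw [← hK]
    exact XX_eq_bot (by norm_num)
  -- PART 2
  obtain ⟨lam, hls, hl⟩ := hT.exists_lam
  have hlam2 := hT.two_le_lam hs3 hl
  have hA := Cfsg.Agent.Lib.Helper30_Tutte_TA.lam_le_A hT hl hls
  have hKn : ∀ u ∈ H, cj u (XX g x0 1 ((s : ℤ) - 2)) = XX g x0 1 ((s : ℤ) - 2) := by
    rw [hK]; exact hQn
  rw [← hK] at hKM hMn
  by_cases hs4 : s ≤ 3
  · -- s = 3
    have : s = 3 := by omega
    subst this
    refine ⟨Or.inl (by rw [hcardP]; norm_num), Or.inl ?_⟩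
    exact Cfsg.Agent.Lib.Helper39_Tutte_ID3.iso_three hT n hodd M (by simpa using hKM) hMH hM2 (by simpa using hMn)
  · have hls2 : lam + 2 ≤ s := by omega
    have hD := fun j h1 h2 h3 => Cfsg.Agent.Lib.Helper2_Tutte_TD.cent_D hT hl hls2 j h1 h2 h3
    obtain ⟨mu, nu, h1, h2, h3, h4, h5, hc⟩ := Cfsg.Agent.Lib.Helper2_Tutte_TB.lam_ge_B hT hl hls2 hD
    have hc1 : ⁅xs g x0 0, xs g x0 lam⁆ ≠ 1 := hl.ne
    have hs7 : s ≤ 7 := by omega
    have hs6 : s ≠ 6 := by omega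
    interval_cases s
    · -- s = 4
      have hl2 : lam = 2 := by omega
      subst hl2
      have hmu : mu = 1 := by omega
      have hnu : nu = 1 := by omega
      subst hmu hnu
      have hc' := mem_XX_single hT 1 hc hc1
      refine ⟨Or.inr (Or.inl (by rw [hcardP]; norm_num)), Or.inr (Or.inl ?_)⟩
      exact Cfsg.Agent.Lib.Helper65_Tutte_ID4.iso_four hT hc' n hodd M (by simpa using hKM) hMH hM2 (by simpa using hMn) (by simpa using hKn)
    · -- s = 5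
      have hl3 : lam = 3 := by omega
      subst hl3
      have hKM' : XX g x0 1 3 ≤ M := by simpa using hKM
      have hMn' : (XX g x0 1 3).relIndex M = n := by simpa using hMn
      have hKn' : ∀ u ∈ H, cj u (XX g x0 1 3) = XX g x0 1 3 := by simpa using hKn
      have hc5 := Cfsg.Agent.Lib.Helper5_Tutte_ID5a.comm_five hT hl n hodd M hKM' hMH hM2 hMn' hKn'
      refine ⟨Or.inr (Or.inr (by rw [hcardP]; norm_num)), Or.inr (Or.inr ?_)⟩
      exact Cfsg.Agent.Lib.Helper21_Tutte_ID5b.iso_five hT hl hc5 n hodd M hKM' hMH hM2 hMn' hKn'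
    · exact absurd rfl hs6
    · -- s = 7
      have hl4 : lam = 4 := by omega
      subst hl4
      have hmu : mu = 2 := by omega
      have hnu : nu = 2 := by omega
      subst hmu hnu
      have hc' := mem_XX_single hT 2 hc hc1
      exact (Cfsg.Agent.Lib.Helper10_Tutte_TC7.no_seven hT hl hc').elim

end Cfsg.Agent.S4385
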