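import Cfsg.Statements.S4394
import Cfsg.Agent.Lib.Helper33_SchmidtMain
import Cfsg.Agent.Lib.Helper69_Schmidt_PB

set_option autoImplicit false
open Cfsg

namespace Cfsg.Agent.S4394

open Cfsg.Agent.Lib.Helper33_SchmidtDefs Cfsg.Agent.Lib.Helper76_PSolvable
open Cfsg.Agent.Lib.Helper69_Schmidt_PB

/-- Let X be a finite minimal non-nilpotent group (not nilpotent, every proper subgroup nilpotent) with a nontrivial normal Sylow p-subgroup P. If G is a finite p-solvable group whose Sylow p-subgroups are isomorphic to P, then G has p-length at most 1. -/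
theorem result {G X : Type*} [Group G] [Finite G] [Group X] [Finite X] (p : ℕ) [Fact p.Prime]
    (hX : Cfsg.IsMinimalNonNilpotent X) (P : Sylow p X) (hPn : (P : Subgroup X).Normal) (hP1 : (P : Subgroup X) ≠ ⊥)
    (hG : Cfsg.IsPSolvable p G) (Q : Sylow p G) (hQ : Nonempty (↥(Q : Subgroup G) ≃* ↥(P : Subgroup X))) : Cfsg.PLengthLE p 1 G := by
  classical
  have hp : p.Prime := Fact.out
  obtain ⟨e⟩ := hQ
  have hST : SchmidtType p ↥(Q : Subgroup G) :=
    SchmidtType.of_mulEquiv e.symm (PB p hX P hPn hP1)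
  have hKc : (Nat.card (pPrimeCore p G)).Coprime p := pPrimeCore_card_coprime p
  have hπs : Function.Surjective (QuotientGroup.mk' (pPrimeCore p G)) :=
    QuotientGroup.mk'_surjective _
  refine Cfsg.Agent.Lib.Helper52_ZPL.plengthLE_one_of_surjective_of_ker p
    (QuotientGroup.mk' (pPrimeCore p G)) hπs ?_ (by rw [QuotientGroup.ker_mk']; exact hKc)
  have hsolb : IsPSolvable p (G ⧸ pPrimeCore p G) := isPSolvable_quotient p _ hG
  have hOb : pPrimeCore p (G ⧸ pPrimeCore p G) = ⊥ := pPrimeCore_quotient_pPrimeCore p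
  -- the Sylow subgroup of the quotient
  have hQb : ((Q.mapSurjective hπs : Sylow p (G ⧸ pPrimeCore p G)) : Subgroup (G ⧸ pPrimeCore p G))
      = (Q : Subgroup G).map (QuotientGroup.mk' (pPrimeCore p G)) := Sylow.coe_mapSurjective hπs Q
  have hinj : Function.Injective
      ((QuotientGroup.mk' (pPrimeCore p G)).subgroupMap (Q : Subgroup G)) := by
    rw [injective_iff_map_eq_one]
    rintro ⟨a, ha⟩ h1
    have h2 : (QuotientGroup.mk' (pPrimeCore p G)) a = 1 := by
      have := congrArg Subtype.val h1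
      simpa using this
    have h3 : a ∈ pPrimeCore p G := by
      rwa [← QuotientGroup.ker_mk' (pPrimeCore p G), MonoidHom.mem_ker]
    -- order of a divides both a p-power and a p'-number
    have h4 : orderOf a ∣ Nat.card (pPrimeCore p G) := by
      have := orderOf_dvd_natCard (⟨a, h3⟩ : ↥(pPrimeCore p G))
      rwa [Subgroup.orderOf_mk] at this
    obtain ⟨k, hk⟩ : ∃ k : ℕ, orderOf (⟨a, ha⟩ : ↥(Q : Subgroup G)) = p ^ k :=
      (IsPGroup.iff_orderOf.mp Q.isPGroup') ⟨a, ha⟩
    rw [Subgroup.orderOf_mk] at hk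
    have h5 : orderOf a = 1 := by
      have hc : (orderOf a).Coprime (orderOf a) := by
        refine Nat.Coprime.coprime_dvd_left h4 ?_
        rw [hk]
        exact Nat.Coprime.pow_right _ hKc
      exact (Nat.coprime_self _).mp hc
    have h6 : a = 1 := orderOf_eq_one_iff.mp h5
    exact Subtype.ext h6
  have hsurj : Function.Surjective
      ((QuotientGroup.mk' (pPrimeCore p G)).subgroupMap (Q : Subgroup G)) :=
    MonoidHom.subgroupMap_surjective _ _
  have eb : ↥(Q : Subgroup G) ≃* ↥((Q : Subgroup G).map (QuotientGroup.mk' (pPrimeCore p G))) :=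
    MulEquiv.ofBijective _ ⟨hinj, hsurj⟩
  have hSTb : SchmidtType p
      ↥((Q.mapSurjective hπs : Sylow p (G ⧸ pPrimeCore p G)) : Subgroup (G ⧸ pPrimeCore p G)) := by
    rw [hQb]
    exact SchmidtType.of_mulEquiv eb hST
  have hle := Cfsg.Agent.Lib.Helper33_SchmidtMain.sylow_le_pCore hsolb hOb
    (Q.mapSurjective hπs) hSTb
  have : (pCore p (G ⧸ pPrimeCore p G)).Normal := inferInstance
  refine Cfsg.Agent.Lib.Helper52_ZPL.plengthLE_one_of_normal_sylow p
    (pCore p (G ⧸ pPrimeCore p G)) (pCore_isPGroup p) ?_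
  have h1 : (pCore p (G ⧸ pPrimeCore p G)).index ∣
      ((Q.mapSurjective hπs : Sylow p (G ⧸ pPrimeCore p G)) : Subgroup (G ⧸ pPrimeCore p G)).index :=
    Subgroup.index_dvd_of_le hle
  have h2 : ¬ p ∣ ((Q.mapSurjective hπs : Sylow p (G ⧸ pPrimeCore p G)) :
      Subgroup (G ⧸ pPrimeCore p G)).index := Sylow.not_dvd_index _
  rw [Nat.coprime_comm, hp.coprime_iff_not_dvd]
  exact fun h => h2 (h.trans h1)

end Cfsg.Agent.S4394
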