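import Mathlib
import Cfsg.Statements.S4396
import Cfsg.Agent.Lib.Helper64_FrobFree

set_option autoImplicit false
open Cfsg

namespace Cfsg.Agent.S4396

open Cfsg.Agent.Lib.Helper64_FreeRep Cfsg.Agent.Lib.Helper64_FrobFree
open scoped Pointwise

/-- Let the finite group A act faithfully and linearly on a finite-dimensional vector space V over a field k, and suppose A is a Frobenius group with nilpotent kernel F (every Frobenius kernel is nilpotent) and complement H such that F fixes no nonzero vector. Then V is free as a module for H: there is a subspace W with V the direct sum of the translates hW, h ∈ H. (No assumption on the characteristic of k.) -/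
theorem result {k V A : Type*} [Field k] [AddCommGroup V] [Module k V] [FiniteDimensional k V] [Group A] [Finite A] [DecidableEq A]
    (ρ : Representation k A V) (hρ : Function.Injective ρ)
    (Fk Hc : Subgroup A) [Fk.Normal] (hHc : Cfsg.IsFrobeniusComplement Hc) (hker : Cfsg.frobeniusKernel Hc = (Fk : Set A)) (hnil : Group.IsNilpotent ↥Fk)
    (hCF : ∀ v : V, (∀ f ∈ Fk, ρ f v = v) → v = 0) :
    ∃ W : Submodule k V, DirectSum.IsInternal (fun h : ↥Hc => W.map (ρ (h : A))) := by
  obtain ⟨hne_bot, hne_top, hTI⟩ := hHc
  let act : ↥Hc →* MulAut ↥Fk := (MulAut.conjNormal (H := Fk)).comp Hc.subtype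
  have hactv : ∀ (e : ↥Hc) (u : ↥Fk), ((act e u : ↥Fk) : A) = (e : A) * (u : A) * (e : A)⁻¹ :=
    fun e u => rfl
  have hfpf : ∀ e : ↥Hc, e ≠ 1 → ∀ u : ↥Fk, act e u = u → u = 1 := by
    intro e he u hu
    have h1 : (e : A) * (u : A) * (e : A)⁻¹ = u := by
      rw [← hactv, hu]
    by_contra hu1
    have huK : (u : A) ∈ Cfsg.frobeniusKernel Hc := by
      rw [hker]
      exact u.2
    rcases huK with h | h
    · exact hu1 (Subtype.ext h)
    · have huH : (u : A) ∉ Hc := by
        intro hmem
        apply h 1
        rw [map_one, one_smul]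
        exact hmem
      have hbot := hTI (u : A) huH
      have hemem : (e : A) ∈ Hc ⊓ (MulAut.conj (u : A) • Hc) := by
        refine Subgroup.mem_inf.2 ⟨e.2, ?_⟩
        rw [Subgroup.mem_pointwise_smul_iff_inv_smul_mem, ← map_inv, MulAut.smul_def,
          MulAut.conj_apply, inv_inv]
        have h2 : (u : A)⁻¹ * (e : A) * (u : A) = e := by
          have h3 : (e : A) * (u : A) = (u : A) * (e : A) := by
            calc (e : A) * (u : A) = (e : A) * (u : A) * (e : A)⁻¹ * (e : A) := by
                  rw [inv_mul_cancel_right]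
              _ = (u : A) * (e : A) := by rw [h1]
          rw [mul_assoc, h3, ← mul_assoc, inv_mul_cancel, one_mul]
        rw [h2]
        exact e.2
      rw [hbot] at hemem
      exact he (Subtype.ext (Subgroup.mem_bot.1 hemem))
  have hfree : FreeOn (ρ.comp Hc.subtype) ⊤ := by
    refine freeOn_top_of_nilpotent hnil act hfpf (ρ.comp Fk.subtype) (ρ.comp Hc.subtype) ?_ ?_
    · intro e u v
      show ρ (e : A) (ρ (u : A) v) = ρ ((act e u : ↥Fk) : A) (ρ (e : A) v)
      rw [hactv, ← Module.End.mul_apply, ← Module.End.mul_apply, ← map_mul, ← map_mul]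
      congr 2
      simp only [mul_assoc, inv_mul_cancel, mul_one]
    · intro v hv
      exact hCF v fun f hf => hv ⟨f, hf⟩
  obtain ⟨W, hW⟩ := FreeOn.isInternal hfree
  exact ⟨W, hW⟩

end Cfsg.Agent.S4396
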