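import Cfsg.Statements.S4398
import Cfsg.Agent.S4399
import Cfsg.Agent.Lib.Helper2_MaxClass
import Cfsg.Agent.Lib.Helper2_TwoMaxClass
import Cfsg.Agent.Lib.Helper2_TwoMaxClassStruct
import Cfsg.Agent.Lib.Helper2_Taussky

set_option autoImplicit false
open Cfsg

namespace Cfsg.Agent.S4398

open Subgroup
open scoped commutatorElement

universe u

/-! ### Sectional rank passes to subgroups -/

theorem pRankLE_of_mulEquiv {G G' : Type*} [Group G] [Group G'] (p k : ℕ) (e : G ≃* G')
    (h : PRankLE p k G') : PRankLE p k G := by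
  intro A hA hexp
  have h1 : IsMulCommutative ↥(A.map e.toMonoidHom) := by
    refine ⟨⟨?_⟩⟩
    rintro ⟨x, hx⟩ ⟨y, hy⟩
    obtain ⟨x', hx', rfl⟩ := hx
    obtain ⟨y', hy', rfl⟩ := hy
    apply Subtype.ext
    have := congrArg Subtype.val (hA.is_comm.comm ⟨x', hx'⟩ ⟨y', hy'⟩)
    simp only [Subgroup.coe_mul] at this ⊢
    rw [← map_mul, ← map_mul, this]
  have h2 : ∀ a ∈ A.map e.toMonoidHom, a ^ p = 1 := by
    rintro a ⟨a', ha', rfl⟩
    rw [← map_pow, hexp a' ha', map_one]
  have h3 := h _ h1 h2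
  rwa [Subgroup.card_map_of_injective e.injective] at h3

theorem sectionalPRankLE_subgroup {S : Type*} [Group S] (p k : ℕ) (M : Subgroup S)
    (h : SectionalPRankLE p k S) : SectionalPRankLE p k ↥M := by
  intro H N hN
  let e : ↥H ≃* ↥(H.map M.subtype) := Subgroup.equivMapOfInjective H M.subtype M.subtype_injective
  have hN' : (N.map e.toMonoidHom).Normal := hN.map _ e.surjective
  have e2 : ↥H ⧸ N ≃* ↥(H.map M.subtype) ⧸ N.map e.toMonoidHom :=
    QuotientGroup.congr N (N.map e.toMonoidHom) e rfl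
  exact pRankLE_of_mulEquiv p k e2 (h (H.map M.subtype) (N.map e.toMonoidHom))

/-- sectional rank at most two: a normal subgroup of index eight does not contain all squares -/
theorem exists_sq_notMem {S : Type*} [Group S] [Finite S] (hr : SectionalPRankLE 2 2 S)
    (N : Subgroup S) [N.Normal] (hN : N.index = 8) : ∃ x : S, x * x ∉ N := by
  by_contra hno
  push Not at hno
  have hsq : ∀ q : ↥(⊤ : Subgroup S) ⧸ N.subgroupOf ⊤, q * q = 1 := by
    intro q
    induction q using QuotientGroup.induction_on with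
    | H g =>
      rw [← QuotientGroup.mk_mul, QuotientGroup.eq_one_iff, Subgroup.mem_subgroupOf]
      exact hno g
  have hcomm := Cfsg.Agent.Lib.Helper2_TwoMaxClass.comm_of_sq_eq_one hsq
  have h1 : IsMulCommutative ↥(⊤ : Subgroup (↥(⊤ : Subgroup S) ⧸ N.subgroupOf ⊤)) :=
    ⟨⟨fun a b => Subtype.ext (hcomm a b)⟩⟩
  have h2 : ∀ a ∈ (⊤ : Subgroup (↥(⊤ : Subgroup S) ⧸ N.subgroupOf ⊤)), a ^ 2 = 1 := by
    intro a _
    rw [pow_two]; exact hsq a
  have h3 := hr ⊤ (N.subgroupOf ⊤) _ h1 h2
  rw [Subgroup.card_top, ← Subgroup.index_eq_card] at h3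
  have h4 : (N.subgroupOf ⊤).index = 8 := by
    rw [← hN]
    exact Subgroup.relIndex_top_right N
  rw [h4] at h3
  norm_num at h3

/-! ### The maximal class data of a maximal subgroup, read in the ambient group -/

/-- `M` is a subgroup of maximal class with cyclic maximal subgroup `⟨a⟩`, `a` of order
`2 ^ (n - 1)`; all statements are in the ambient group. -/
structure MC {S : Type*} [Group S] (M : Subgroup S) (a : S) (n : ℕ) : Prop where
  hn : 3 ≤ n
  haM : a ∈ M
  ord : orderOf a = 2 ^ (n - 1)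
  sq : ∀ g ∈ M, g ∉ zpowers a → (g * a * g⁻¹ * a) ^ 2 = 1
  ncomm : ∀ g ∈ M, g ∉ zpowers a → g * a ≠ a * g
  sqmem : ∀ g ∈ M, g * g ∈ zpowers (a * a)
  ex : ∃ b ∈ M, b ∉ zpowers a

/-- no element of `M` outside `⟨a⟩` acts on `a` by an exponent `≡ 1 (mod 4)` -/
theorem MC.lemmaC {S : Type*} [Group S] {M : Subgroup S} {a : S} {n : ℕ} (h : MC M a n)
    (g : S) (hgM : g ∈ M) (hg : g ∉ zpowers a) (k : ℤ) (hga : g * a * g⁻¹ = a ^ (4 * k + 1)) :
    False := by
  have h1 := h.sq g hgM hg
  rw [hga, ← zpow_add_one, ← zpow_natCast, ← zpow_mul] at h1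
  have h2 : ((orderOf a : ℕ) : ℤ) ∣ (4 * k + 1 + 1) * ((2 : ℕ) : ℤ) :=
    orderOf_dvd_iff_zpow_eq_one.mpr h1
  rw [h.ord] at h2
  have hn := h.hn
  obtain ⟨m, hm⟩ : ∃ m, n = m + 3 := ⟨n - 3, by omega⟩
  subst hm
  have e1 : (((2 : ℕ) ^ (m + 3 - 1) : ℕ) : ℤ) = 4 * 2 ^ m := by
    have : m + 3 - 1 = m + 2 := by omega
    rw [this]; push_cast; ring
  have e2 : (4 * k + 1 + 1) * ((2 : ℕ) : ℤ) = 4 * (2 * k + 1) := by push_cast; ring
  rw [e1, e2] at h2
  have h3 : (2 : ℤ) ^ m ∣ 2 * k + 1 := by
    obtain ⟨c, hc⟩ := h2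
    exact ⟨c, by linarith⟩
  have hm0 : m = 0 := by
    by_contra hne
    obtain ⟨m', rfl⟩ := Nat.exists_eq_succ_of_ne_zero hne
    have : (2 : ℤ) ∣ 2 * k + 1 := (Dvd.intro _ (pow_succ' 2 m').symm).trans h3
    omega
  subst hm0
  -- `a` has order four, so `a ^ (4k+1) = a`
  have ho : orderOf a = 4 := by rw [h.ord]; norm_num
  have ha4 : a ^ (4 : ℤ) = 1 := by
    have := pow_orderOf_eq_one a
    rw [ho] at this
    rw [← this]; norm_cast
  have : a ^ (4 * k + 1) = a := by
    rw [zpow_add_one, zpow_mul, ha4, one_zpow, one_mul]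
  rw [this] at hga
  apply h.ncomm g hgM hg
  calc g * a = (g * a * g⁻¹) * g := by group
    _ = a * g := by rw [hga]

/-- the bad case: the commutator subgroup of `S` is not `⟨a²⟩` -/
theorem MC.bad_case {S : Type*} [Group S] {M : Subgroup S} {a : S} {n : ℕ} (h : MC M a n)
    (hidx : M.index = 2) (hS' : commutator S ≤ zpowers (a * a)) (x : S)
    (hx : x * x ∉ zpowers (a * a)) : False := by
  have hy : x * x ∈ M := Subgroup.mul_self_mem_of_index_two hidx x
  -- `x a x⁻¹ = a ^ (2k+1)`
  have hc1 : ⁅x, a⁆ ∈ zpowers (a * a) := by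
    apply hS'
    rw [commutator_def]
    exact Subgroup.commutator_mem_commutator (mem_top _) (mem_top _)
  obtain ⟨k, hk⟩ := mem_zpowers_iff.mp hc1
  have hxa : x * a * x⁻¹ = a ^ (2 * k + 1) := by
    have e : x * a * x⁻¹ = ⁅x, a⁆ * a := by rw [commutatorElement_def]; group
    rw [e, ← hk, ← pow_two, ← zpow_natCast, ← zpow_mul, ← zpow_add_one]
    norm_num
  by_cases hyA : x * x ∈ zpowers a
  · -- case (α)
    obtain ⟨t, ht⟩ := mem_zpowers_iff.mp hyA
    have htodd : ¬ (2 : ℤ) ∣ t := by
      rintro ⟨t', rfl⟩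
      apply hx
      rw [← ht, mem_zpowers_iff]
      exact ⟨t', by rw [← pow_two, ← zpow_natCast, ← zpow_mul]; norm_num⟩
    -- `a` is a power of `y = x * x`
    have hcop : IsCoprime t ((2 : ℤ) ^ (n - 1)) := by
      apply IsCoprime.pow_right
      rw [isCoprime_comm]
      exact (Prime.coprime_iff_not_dvd Int.prime_two).mpr htodd
    obtain ⟨u, v, huv⟩ := hcop
    have hapow : a ^ ((2 : ℤ) ^ (n - 1)) = 1 := by
      have := pow_orderOf_eq_one a
      rw [h.ord] at this
      rw [← this]; norm_cast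
    have hau : (x * x) ^ u = a := by
      rw [← ht, ← zpow_mul]
      have e : t * u = 1 - v * (2 : ℤ) ^ (n - 1) := by linarith
      rw [e, zpow_sub, zpow_one, zpow_mul', hapow, one_zpow, inv_one, mul_one]
    obtain ⟨b, hbM, hbA⟩ := h.ex
    have hc2 : ⁅b, x⁆ ∈ zpowers (a * a) := by
      apply hS'
      rw [commutator_def]
      exact Subgroup.commutator_mem_commutator (mem_top _) (mem_top _)
    obtain ⟨k', hk'⟩ := mem_zpowers_iff.mp hc2
    -- `a * a = x ^ (4u)`
    have haa : a * a = x ^ (4 * u) := by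
      rw [← hau, ← pow_two, ← zpow_natCast, ← zpow_mul, ← pow_two, ← zpow_natCast, ← zpow_mul]
      congr 1
      push_cast; ring
    have hbx : b * x * b⁻¹ = x ^ (4 * u * k' + 1) := by
      have e : b * x * b⁻¹ = ⁅b, x⁆ * x := by rw [commutatorElement_def]; group
      rw [e, ← hk', haa, ← zpow_mul, ← zpow_add_one]
    have hby : b * (x * x) * b⁻¹ = (x * x) ^ (4 * u * k' + 1) := by
      have e : b * (x * x) * b⁻¹ = (b * x * b⁻¹) * (b * x * b⁻¹) := by group
      rw [e, hbx, ← pow_two x, ← zpow_natCast x 2, ← zpow_mul, ← zpow_add]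
      congr 1
      push_cast; ring
    have hba : b * a * b⁻¹ = a ^ (4 * (u * k') + 1) := by
      calc b * a * b⁻¹ = b * (x * x) ^ u * b⁻¹ := by rw [hau]
        _ = (b * (x * x) * b⁻¹) ^ u := by rw [conj_zpow]
        _ = ((x * x) ^ (4 * u * k' + 1)) ^ u := by rw [hby]
        _ = ((x * x) ^ u) ^ (4 * u * k' + 1) := by rw [← zpow_mul, ← zpow_mul, mul_comm]
        _ = a ^ (4 * (u * k') + 1) := by rw [hau]; congr 1; ring
    exact h.lemmaC b hbM hbA (u * k') hba
  · -- case (β)
    have hya : (x * x) * a * (x * x)⁻¹ = a ^ (4 * (k * k + k) + 1) := by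
      calc (x * x) * a * (x * x)⁻¹ = x * (x * a * x⁻¹) * x⁻¹ := by group
        _ = x * a ^ (2 * k + 1) * x⁻¹ := by rw [hxa]
        _ = (x * a * x⁻¹) ^ (2 * k + 1) := by rw [conj_zpow]
        _ = (a ^ (2 * k + 1)) ^ (2 * k + 1) := by rw [hxa]
        _ = a ^ (4 * (k * k + k) + 1) := by rw [← zpow_mul]; congr 1; ring
    exact h.lemmaC (x * x) hy hyA (k * k + k) hya

/-! ### Generalities -/

/-- A maximal subgroup of a finite `p`-group is normal of index `p` (as in helper86's library). -/
theorem coatom_index_of_isPGroup {G : Type*} [Group G] [Finite G] {p : ℕ} [hp : Fact p.Prime]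
    (hG : IsPGroup p G) (M : Subgroup G) (hM : IsCoatom M) : M.Normal ∧ M.index = p := by
  have hnil : Group.IsNilpotent G := hG.isNilpotent
  have hn : M.Normal :=
    Subgroup.NormalizerCondition.normal_of_coatom M (Group.normalizerCondition_of_isNilpotent) hM
  refine ⟨hn, ?_⟩
  have hQ : IsPGroup p (G ⧸ M) := hG.to_quotient M
  have hidx : M.index ≠ 1 := by
    intro h
    exact hM.1 (Subgroup.index_eq_one.mp h)
  have hcard : Nat.card (G ⧸ M) = M.index := rfl
  obtain ⟨k, hk⟩ := (IsPGroup.iff_card).mp hQ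
  have hk0 : k ≠ 0 := by
    rintro rfl
    rw [pow_zero] at hk
    exact hidx (hcard ▸ hk)
  have hpd : p ∣ Nat.card (G ⧸ M) := by
    rw [hk]; exact dvd_pow_self p hk0
  obtain ⟨g, hg⟩ := exists_prime_orderOf_dvd_card' p hpd
  let M' : Subgroup G := (Subgroup.zpowers g).comap (QuotientGroup.mk' M)
  have hle : M ≤ M' := by
    intro m hm
    show (QuotientGroup.mk' M) m ∈ Subgroup.zpowers g
    have : (QuotientGroup.mk' M) m = 1 := (QuotientGroup.eq_one_iff m).mpr hm
    rw [this]; exact Subgroup.one_mem _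
  have hne : M ≠ M' := by
    intro h
    obtain ⟨g', rfl⟩ := QuotientGroup.mk_surjective g
    have hg'M' : g' ∈ M' := by
      show (QuotientGroup.mk' M) g' ∈ Subgroup.zpowers _
      exact Subgroup.mem_zpowers _
    rw [← h] at hg'M'
    have : (QuotientGroup.mk g' : G ⧸ M) = 1 := (QuotientGroup.eq_one_iff g').mpr hg'M'
    rw [this, orderOf_one] at hg
    exact hp.out.one_lt.ne hg
  have htop : M' = ⊤ := hM.2 M' (lt_of_le_of_ne hle hne)
  have hz : Subgroup.zpowers g = ⊤ := by
    rw [eq_top_iff]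
    intro q _
    obtain ⟨q', rfl⟩ := QuotientGroup.mk_surjective q
    have : q' ∈ M' := by rw [htop]; exact Subgroup.mem_top _
    exact this
  have h1 : Nat.card (Subgroup.zpowers g) = p := by rw [Nat.card_zpowers, hg]
  rw [hz] at h1
  rw [← hcard, ← h1]
  exact (Nat.card_congr Subgroup.topEquiv.toEquiv).symm

/-- a normal subgroup of index two contains the commutator subgroup -/
theorem commutator_le_of_index_two {G : Type*} [Group G] (M : Subgroup G) [M.Normal]
    (hM : M.index = 2) : commutator G ≤ M := by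
  have hcard : Nat.card (G ⧸ M) = 2 := hM
  have : Fact (Nat.Prime 2) := ⟨Nat.prime_two⟩
  have hcyc : IsCyclic (G ⧸ M) := isCyclic_of_prime_card hcard
  rw [commutator_def, Subgroup.commutator_le]
  intro x _ y _
  rw [← QuotientGroup.ker_mk' M, MonoidHom.mem_ker, map_commutatorElement,
    commutatorElement_eq_one_iff_mul_comm]
  exact (IsCyclic.isMulCommutative (α := G ⧸ M)).is_comm.comm _ _

/-- subgroups of a finite group with `H ≤ K` and equal index are equal -/
theorem eq_of_le_of_index_eq {G : Type*} [Group G] [Finite G] {H K : Subgroup G} (h : H ≤ K)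
    (hi : H.index = K.index) : H = K := by
  apply Subgroup.eq_of_le_of_card_ge h
  have h1 := H.card_mul_index
  have h2 := K.card_mul_index
  rw [hi] at h1
  have hpos : 0 < K.index := Nat.pos_of_ne_zero Subgroup.index_ne_zero_of_finite
  have : Nat.card H = Nat.card K := Nat.eq_of_mul_eq_mul_right hpos (h1.trans h2.symm)
  rw [this]

/-- in a 2-group of order `2 ^ n` with commutator subgroup of index four and `⟨a⟩` cyclic of
index two, the commutator subgroup is `⟨a²⟩` -/
theorem commutator_eq_zpowers_sq {X : Type*} [Group X] [Finite X] (n : ℕ) (hn : 3 ≤ n)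
    (hX : Nat.card X = 2 ^ n) (a : X) (hord : orderOf a = 2 ^ (n - 1))
    (hidx : (zpowers a).index = 2) (hidx4 : (commutator X).index = 4) :
    commutator X = zpowers (a * a) := by
  have : Fact (Nat.Prime 2) := ⟨Nat.prime_two⟩
  have hCnormal : (zpowers a).Normal := normal_of_index_eq_two hidx
  have hDnormal : (zpowers (a * a)).Normal := by
    constructor
    intro s hs g
    obtain ⟨j, rfl⟩ := mem_zpowers_iff.mp hs
    have h1 : g * (a * a) ^ j * g⁻¹ = (g * (a * a) * g⁻¹) ^ j := by rw [conj_zpow]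
    rw [h1]
    apply zpow_mem
    have h2 : g * (a * a) * g⁻¹ = (g * a * g⁻¹) * (g * a * g⁻¹) := by group
    rw [h2]
    obtain ⟨k, hk⟩ := mem_zpowers_iff.mp (hCnormal.conj_mem a (mem_zpowers a) g)
    rw [← hk, ← (Commute.refl a).mul_zpow]
    exact zpow_mem (mem_zpowers _) k
  have hDcard : Nat.card (zpowers (a * a)) = 2 ^ (n - 2) := by
    rw [Nat.card_zpowers, ← pow_two, orderOf_pow' a (by norm_num), hord]
    have h1 : (2 : ℕ) ^ (n - 1) = 2 ^ (n - 2) * 2 := by
      rw [← pow_succ]; congr 1; omega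
    have h2 : Nat.gcd (2 ^ (n - 1)) 2 = 2 := by
      apply Nat.gcd_eq_right
      rw [h1]; exact Dvd.intro_left _ rfl
    rw [h2, h1, Nat.mul_div_cancel _ (by norm_num : 0 < 2)]
  have hDidx : (zpowers (a * a)).index = 4 := by
    have h1 := (zpowers (a * a)).card_mul_index
    rw [hDcard, hX] at h1
    have h2 : (2 : ℕ) ^ n = 2 ^ (n - 2) * 4 := by
      have : (4 : ℕ) = 2 ^ 2 := by norm_num
      rw [this, ← pow_add]; congr 1; omega
    rw [h2] at h1
    exact Nat.eq_of_mul_eq_mul_left (pow_pos (by norm_num) _) h1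
  have hXD : commutator X ≤ zpowers (a * a) := by
    have hcard : Nat.card (X ⧸ zpowers (a * a)) = 2 ^ 2 := by
      rw [← Subgroup.index_eq_card, hDidx]; norm_num
    have hcomm : IsMulCommutative (X ⧸ zpowers (a * a)) :=
      IsPGroup.isMulCommutative_of_card_eq_prime_sq hcard
    rw [_root_.commutator_def, Subgroup.commutator_le]
    intro x _ y _
    rw [← QuotientGroup.ker_mk' (zpowers (a * a)), MonoidHom.mem_ker, map_commutatorElement,
      commutatorElement_eq_one_iff_mul_comm]
    exact hcomm.is_comm.comm _ _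
  exact eq_of_le_of_index_eq hXD (by rw [hidx4, hDidx])

/-- a subgroup whose commutator subgroup has index four carries the maximal class data -/
theorem exists_MC {S : Type u} [Group S] [Finite S] (M : Subgroup S) (n : ℕ) (hn : 3 ≤ n)
    (hcard : Nat.card ↥M = 2 ^ n) (hidx : (commutator ↥M).index = 4) :
    ∃ a : S, MC M a n ∧ (commutator ↥M).map M.subtype = zpowers (a * a) := by
  have : Fact (Nat.Prime 2) := ⟨Nat.prime_two⟩
  have hc := Cfsg.Agent.Lib.Helper2_TwoMaxClass.taussky n ↥M hn hcard hidx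
  obtain ⟨a', b', hoa, hidxa, hb, hZle, hbb, hbab⟩ :=
    Cfsg.Agent.Lib.Helper2_TwoMaxClass.maxClass_structure n hn hcard hc
  obtain ⟨hZ, -, -⟩ := Cfsg.Agent.Lib.Helper2_MaxClass.maxClass_center hcard hn hc
  obtain ⟨-, hsq⟩ := Cfsg.Agent.Lib.Helper2_TwoMaxClass.maxClass_index_commutator n hn hcard hc
  have hcomm := commutator_eq_zpowers_sq n hn hcard a' hoa hidxa hidx
  have hmem : ∀ g : ↥M, g ∈ zpowers a' ↔ (g : S) ∈ zpowers (a' : S) := by
    intro g
    simp only [mem_zpowers_iff]
    constructor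
    · rintro ⟨k, hk⟩
      exact ⟨k, by rw [← hk]; simp⟩
    · rintro ⟨k, hk⟩
      exact ⟨k, Subtype.ext (by simpa using hk)⟩
  have hcen2 : ∀ c ∈ center ↥M, c ^ 2 = 1 := by
    intro c hc'
    have := pow_card_eq_one' (G := center ↥M) (x := ⟨c, hc'⟩)
    rw [hZ] at this
    simpa using congrArg Subtype.val this
  refine ⟨(a' : S), ⟨hn, a'.2, ?_, ?_, ?_, ?_, ?_⟩, ?_⟩
  · rw [Subgroup.orderOf_coe, hoa]
  · intro g hgM hg
    have hg' : (⟨g, hgM⟩ : ↥M) ∉ zpowers a' := fun h => hg ((hmem _).mp h)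
    have h1 := Cfsg.Agent.Lib.Helper2_TwoMaxClass.conj_mul_mem_center hidxa hg'
    have h2 := hcen2 _ h1
    have := congrArg Subtype.val h2
    simpa using this
  · intro g hgM hg hcomm'
    have hg' : (⟨g, hgM⟩ : ↥M) ∉ zpowers a' := fun h => hg ((hmem _).mp h)
    have hca : Commute a' (⟨g, hgM⟩ : ↥M) := by
      show a' * ⟨g, hgM⟩ = ⟨g, hgM⟩ * a'
      apply Subtype.ext
      exact hcomm'.symm
    have h1 := Cfsg.Agent.Lib.Helper2_TwoMaxClass.central_of_commute hidxa hg'
      (Commute.refl a') hca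
    have h2 := hcen2 _ h1
    have h3 := orderOf_dvd_of_pow_eq_one h2
    rw [hoa] at h3
    have h4 : 2 ^ 2 ∣ 2 ^ (n - 1) := pow_dvd_pow 2 (by omega)
    have := Nat.le_of_dvd (by norm_num) (h4.trans h3)
    omega
  · intro g hgM
    have h1 := hsq ⟨g, hgM⟩
    rw [hcomm] at h1
    obtain ⟨k, hk⟩ := mem_zpowers_iff.mp h1
    rw [mem_zpowers_iff]
    exact ⟨k, by have := congrArg Subtype.val hk; simpa using this⟩
  · exact ⟨(b' : S), b'.2, fun h => hb ((hmem b').mpr h)⟩
  · rw [hcomm, MonoidHom.map_zpowers]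
    rfl

/-- the nonabelian groups of order eight have commutator subgroup of index four -/
theorem index_commutator_of_card_eight {S : Type u} [Group S] [Finite S] (hcard : Nat.card S = 8)
    (hnc : ¬ IsMulCommutative S) : (commutator S).index = 4 := by
  have : Fact (Nat.Prime 2) := ⟨Nat.prime_two⟩
  have hcard' : Nat.card S = 2 ^ 3 := by rw [hcard]; norm_num
  have hPG : IsPGroup 2 S := IsPGroup.of_card hcard'
  have hnil : Group.IsNilpotent S := hPG.isNilpotent
  have h1 := Cfsg.Agent.Lib.Helper2_MaxClass.class_le 2 3 S hcard' (by norm_num)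
  have h2 : ¬ Group.nilpotencyClass S ≤ 1 := fun h =>
    hnc (Group.IsNilpotent.nilpotencyClass_le_one_iff.mp h)
  have hc : Group.nilpotencyClass S = 3 - 1 := by omega
  exact (Cfsg.Agent.Lib.Helper2_TwoMaxClass.maxClass_index_commutator 3 le_rfl hcard' hc).1

/-- **Main lemma**: a 2-group of sectional rank at most two with a nonabelian subgroup of order
eight has commutator subgroup of index four. -/
theorem index_commutator : ∀ (N : ℕ) (S : Type u) [Group S] [Finite S], Nat.card S = N →
    IsPGroup 2 S → SectionalPRankLE 2 2 S →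
    (∃ D : Subgroup S, Nat.card D = 8 ∧ ¬ IsMulCommutative D) → (commutator S).index = 4 := by
  intro N
  induction N using Nat.strong_induction_on with
  | _ N ih =>
  intro S _ _ hN h2 hr hD
  obtain ⟨D, hD8, hDnc⟩ := hD
  have : Fact (Nat.Prime 2) := ⟨Nat.prime_two⟩
  by_cases hDtop : D = ⊤
  · subst hDtop
    apply index_commutator_of_card_eight
    · rw [← hD8, Subgroup.card_top]
    · intro hc
      exact hDnc ⟨⟨fun a b => Subtype.ext (hc.is_comm.comm a.1 b.1)⟩⟩
  · obtain ⟨M, hM, hDM⟩ := (eq_top_or_exists_le_coatom D).resolve_left hDtop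
    obtain ⟨hMn, hMidx⟩ := coatom_index_of_isPGroup h2 M hM
    have hcardM : Nat.card ↥M * 2 = N := by
      rw [← hN, ← hMidx]; exact M.card_mul_index
    have hD' : ∃ D' : Subgroup ↥M, Nat.card D' = 8 ∧ ¬ IsMulCommutative D' := by
      refine ⟨D.subgroupOf M, ?_, ?_⟩
      · rw [← hD8]
        exact Nat.card_congr (Subgroup.subgroupOfEquivOfLe hDM).toEquiv
      · intro hc
        apply hDnc
        refine ⟨⟨fun a b => ?_⟩⟩
        have := hc.is_comm.comm ((Subgroup.subgroupOfEquivOfLe hDM).symm a)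
          ((Subgroup.subgroupOfEquivOfLe hDM).symm b)
        rw [← map_mul, ← map_mul] at this
        exact (Subgroup.subgroupOfEquivOfLe hDM).symm.injective this
    have hlt : Nat.card ↥M < N := by
      have := Nat.card_pos (α := ↥M)
      omega
    have hidxM := ih (Nat.card ↥M) hlt ↥M rfl (h2.to_subgroup M)
      (sectionalPRankLE_subgroup 2 2 M hr) hD'
    obtain ⟨n, hn⟩ := (h2.to_subgroup M).exists_card_eq
    have hn3 : 3 ≤ n := by
      have h8 : 8 ∣ Nat.card ↥M := by
        rw [← hD8]; exact Subgroup.card_dvd_of_le hDM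
      rw [hn] at h8
      by_contra hlt
      push Not at hlt
      interval_cases n <;> omega
    obtain ⟨a, hMC, hmap⟩ := exists_MC M n hn3 hn hidxM
    -- `⟨a²⟩ ≤ S' ≤ M`
    have hle1 : zpowers (a * a) ≤ commutator S := by
      rw [← hmap, Subgroup.map_subtype_commutator, _root_.commutator_def]
      exact Subgroup.commutator_mono le_top le_top
    have hle2 : commutator S ≤ M := commutator_le_of_index_two M hMidx
    have hi1 : (zpowers (a * a)).index = 8 := by
      rw [← hmap, Subgroup.index_map_subtype, hidxM, hMidx]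
    have hd1 : (commutator S).index ∣ 8 := by
      rw [← hi1]; exact Subgroup.index_dvd_of_le hle1
    have hd2 : 2 ∣ (commutator S).index := by
      rw [← hMidx]; exact Subgroup.index_dvd_of_le hle2
    have hcases : (commutator S).index = 2 ∨ (commutator S).index = 4 ∨
        (commutator S).index = 8 := by
      have hle : (commutator S).index ≤ 8 := Nat.le_of_dvd (by norm_num) hd1
      interval_cases h : (commutator S).index <;> omega
    rcases hcases with h | h | h
    · -- `S' = M`: then `S` is cyclic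
      exfalso
      have hSM : commutator S = M := eq_of_le_of_index_eq hle2 (by rw [h, hMidx])
      obtain ⟨x, hx⟩ : ∃ x : S, x ∉ M := by
        by_contra hno
        push Not at hno
        exact hM.1 (eq_top_iff.mpr fun y _ => hno y)
      have hxtop : zpowers x = ⊤ := by
        by_contra hne
        obtain ⟨N', hN', hxN'⟩ := (eq_top_or_exists_le_coatom (zpowers x)).resolve_left hne
        obtain ⟨hN'n, hN'idx⟩ := coatom_index_of_isPGroup h2 N' hN'
        have hMN' : M ≤ N' := by
          rw [← hSM]; exact commutator_le_of_index_two N' hN'idx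
        have hMeq : M = N' := by
          by_contra hne'
          exact hN'.1 (hM.2 N' (lt_of_le_of_ne hMN' hne'))
        exact hx (hMeq ▸ hxN' (mem_zpowers x))
      apply hDnc
      refine ⟨⟨fun u v => ?_⟩⟩
      apply Subtype.ext
      have hu : (u : S) ∈ zpowers x := by rw [hxtop]; exact mem_top _
      have hv : (v : S) ∈ zpowers x := by rw [hxtop]; exact mem_top _
      obtain ⟨i, hi⟩ := mem_zpowers_iff.mp hu
      obtain ⟨j, hj⟩ := mem_zpowers_iff.mp hv
      simp only [Subgroup.coe_mul]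
      rw [← hi, ← hj, ← zpow_add, ← zpow_add, add_comm]
    · exact h
    · -- the bad case
      exfalso
      have hSeq : zpowers (a * a) = commutator S := eq_of_le_of_index_eq hle1 (by rw [h, hi1])
      have hnorm : (zpowers (a * a)).Normal := by
        rw [hSeq, _root_.commutator_def]; infer_instance
      obtain ⟨x, hx⟩ := exists_sq_notMem hr (zpowers (a * a)) hi1
      exact hMC.bad_case hMidx hSeq.ge x hx

/-- Let S be a finite 2-group of sectional 2-rank at most 2 that contains a subgroup isomorphic to the dihedral group of order 8 or to the quaternion group of order 8. Then S is dihedral of order at least 8, semidihedral of order at least 16 (order 2^(k+4) with an element a of order 2^(k+3) and an involution b with b a b⁻¹ = a^(2^(k+2)−1)), or generalized quaternion of order at least 8. -/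
theorem result {S : Type*} [Group S] [Finite S] (h2 : IsPGroup 2 S) (hr : Cfsg.SectionalPRankLE 2 2 S)
    (hsub : ∃ H : Subgroup S, Nonempty (↥H ≃* DihedralGroup 4) ∨ Nonempty (↥H ≃* QuaternionGroup 2)) :
    ((∃ k : ℕ, Nonempty (S ≃* DihedralGroup (2 ^ (k + 2)))) ∨
      (∃ k : ℕ, Nat.card S = 2 ^ (k + 4) ∧ ∃ a b : S, orderOf a = 2 ^ (k + 3) ∧ orderOf b = 2 ∧ b * a * b⁻¹ = a ^ (2 ^ (k + 2) - 1)) ∨
      (∃ k : ℕ, Nonempty (S ≃* QuaternionGroup (2 ^ (k + 1))))) := by
  have : Fact (Nat.Prime 2) := ⟨Nat.prime_two⟩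
  have hD : ∃ D : Subgroup S, Nat.card D = 8 ∧ ¬ IsMulCommutative D := by
    obtain ⟨H, h | h⟩ := hsub
    · obtain ⟨e⟩ := h
      refine ⟨H, ?_, ?_⟩
      · rw [Nat.card_congr e.toEquiv, DihedralGroup.nat_card]
      · intro hc
        have h1 := hc.is_comm.comm (e.symm (DihedralGroup.r 1)) (e.symm (DihedralGroup.sr 0))
        rw [← map_mul, ← map_mul] at h1
        have h2 := e.symm.injective h1
        revert h2
        decide
    · obtain ⟨e⟩ := h
      refine ⟨H, ?_, ?_⟩
      · rw [Nat.card_congr e.toEquiv, Nat.card_eq_fintype_card, QuaternionGroup.card]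
      · intro hc
        have h1 := hc.is_comm.comm (e.symm (QuaternionGroup.a 1)) (e.symm (QuaternionGroup.xa 0))
        rw [← map_mul, ← map_mul] at h1
        have h2 := e.symm.injective h1
        revert h2
        decide
  have hidx := index_commutator (Nat.card S) S rfl h2 hr hD
  have hab : Nat.card (Abelianization S) = 4 := by
    rw [← hidx, Subgroup.index_eq_card]; rfl
  obtain ⟨n, hn⟩ := h2.exists_card_eq
  obtain ⟨D, hD8, -⟩ := hD
  have h8 : 8 ∣ Nat.card S := by
    rw [← hD8]; exact Subgroup.card_subgroup_dvd_card D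
  have hn3 : 3 ≤ n := by
    rw [hn] at h8
    by_contra hlt
    push Not at hlt
    interval_cases n <;> omega
  have hc := Cfsg.Agent.Lib.Helper2_TwoMaxClass.taussky n S hn3 hn hidx
  obtain ⟨-, hsq⟩ := Cfsg.Agent.Lib.Helper2_TwoMaxClass.maxClass_index_commutator n hn3 hn hc
  have hexp : ∀ x : Abelianization S, x ^ 2 = 1 := by
    intro x
    obtain ⟨g, rfl⟩ := QuotientGroup.mk'_surjective (commutator S) x
    change (Abelianization.of g) ^ 2 = 1
    rw [← map_pow, ← MonoidHom.mem_ker, Abelianization.ker_of, pow_two]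
    exact hsq g
  rcases Cfsg.Agent.S4399.result h2 hab hexp with h | h
  · exfalso
    rw [h] at h8
    omega
  · exact h

end Cfsg.Agent.S4398
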