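import Cfsg.Statements.S4400
import Cfsg.Agent.Lib.Helper1_Frattini
import Cfsg.Agent.Lib.Helper32_PGroup

set_option autoImplicit false
open Cfsg

namespace Cfsg.Agent.S4400

open Subgroup
open scoped commutatorElement

/-- In a subgroup of order 2, every element is `1` or the given nontrivial element. -/
theorem eq_one_or_eq_of_card_two {G : Type*} [Group G] (K : Subgroup G) (hK : Nat.card K = 2)
    {z w : G} (hz : z ∈ K) (hz1 : z ≠ 1) (hw : w ∈ K) : w = 1 ∨ w = z := by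
  by_cases hw1 : w = 1
  · exact Or.inl hw1
  · right
    obtain ⟨y, -, hy⟩ := (Nat.card_eq_two_iff' (1 : K)).mp hK
    have e1 : (⟨w, hw⟩ : K) = y := hy _ (fun h => hw1 (congrArg Subtype.val h))
    have e2 : (⟨z, hz⟩ : K) = y := hy _ (fun h => hz1 (congrArg Subtype.val h))
    exact congrArg Subtype.val (e1.trans e2.symm)

/-- A subgroup of order 2 is not trivial. -/
theorem ne_bot_of_card_two {G : Type*} [Group G] (K : Subgroup G) (hK : Nat.card K = 2) :
    K ≠ ⊥ := by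
  intro h
  rw [h, Subgroup.card_bot] at hK
  omega

/-- A nontrivial normal subgroup inside `P` contains the centre of `P` when that has order 2. -/
theorem center_map_le {S : Type*} [Group S] [Finite S] (h2 : IsPGroup 2 S)
    (P N : Subgroup S) [N.Normal] (hNP : N ≤ P) (hN : N ≠ ⊥)
    (hZP : Nat.card ↥(Subgroup.center ↥P) = 2) :
    (Subgroup.center ↥P).map P.subtype ≤ N := by
  have : Fact (Nat.Prime 2) := ⟨Nat.prime_two⟩
  have hne : N.subgroupOf P ≠ ⊥ := by
    intro h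
    apply hN
    rw [Subgroup.eq_bot_iff_forall]
    intro x hx
    have : (⟨x, hNP hx⟩ : P) ∈ N.subgroupOf P := by
      rw [Subgroup.mem_subgroupOf]; exact hx
    rw [h, Subgroup.mem_bot] at this
    exact congrArg Subtype.val this
  obtain ⟨z, hzN, hzc, hz1⟩ :=
    Cfsg.Agent.Lib.Helper32_PGroup.exists_mem_center_of_normal (h2.to_subgroup P)
      (N.subgroupOf P) hne
  rintro _ ⟨w, hw, rfl⟩
  rcases eq_one_or_eq_of_card_two _ hZP hzc hz1 hw with h | h
  · rw [h]; simp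
  · rw [h]
    exact Subgroup.mem_subgroupOf.mp hzN

/-- The intersection is trivial. -/
theorem inf_eq_bot {S : Type*} [Group S] [Finite S] (h2 : IsPGroup 2 S)
    (P Q : Subgroup S) [P.Normal] [Q.Normal]
    (hZP : Nat.card ↥(Subgroup.center ↥P) = 2) (hZQ : Nat.card ↥(Subgroup.center ↥Q) = 2)
    (hne : (Subgroup.center ↥P).map P.subtype ≠ (Subgroup.center ↥Q).map Q.subtype) :
    P ⊓ Q = ⊥ := by
  by_contra hD
  have h1 : (Subgroup.center ↥P).map P.subtype ≤ P ⊓ Q :=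
    center_map_le h2 P (P ⊓ Q) inf_le_left hD hZP
  have hcP : Nat.card ↥((Subgroup.center ↥P).map P.subtype) = 2 := by
    rw [Subgroup.card_subtype]; exact hZP
  have hcQ : Nat.card ↥((Subgroup.center ↥Q).map Q.subtype) = 2 := by
    rw [Subgroup.card_subtype]; exact hZQ
  have h2' : (Subgroup.center ↥Q).map Q.subtype ≤ (Subgroup.center ↥P).map P.subtype :=
    center_map_le h2 Q ((Subgroup.center ↥P).map P.subtype) (h1.trans inf_le_right)
      (ne_bot_of_card_two _ hcP) hZQ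
  exact hne (Subgroup.eq_of_le_of_card_ge h2' (by rw [hcP, hcQ])).symm

/-- A non-commutative group has a nontrivial commutator subgroup. -/
theorem commutator_ne_bot {G : Type*} [Group G] (hG : ¬ IsMulCommutative G) :
    commutator G ≠ ⊥ := by
  intro h
  apply hG
  refine ⟨⟨fun a b => ?_⟩⟩
  have : ⁅a, b⁆ ∈ commutator G := Subgroup.commutator_mem_commutator (mem_top a) (mem_top b)
  rw [h, Subgroup.mem_bot, commutatorElement_eq_one_iff_mul_comm] at this
  exact this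

/-- In a nonabelian finite 2-group with centre of order 2 the centre lies in the Frattini subgroup. -/
theorem center_le_frattini {G : Type*} [Group G] [Finite G] (hG : IsPGroup 2 G)
    (hnc : ¬ IsMulCommutative G) (hZ : Nat.card ↥(Subgroup.center G) = 2) :
    Subgroup.center G ≤ frattini G := by
  have : Fact (Nat.Prime 2) := ⟨Nat.prime_two⟩
  obtain ⟨z, hzN, hzc, hz1⟩ :=
    Cfsg.Agent.Lib.Helper32_PGroup.exists_mem_center_of_normal hG (commutator G)
      (commutator_ne_bot hnc)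
  intro w hw
  apply Cfsg.Agent.Lib.Helper1_Frattini.commutator_le_frattini_of_isPGroup hG
  rcases eq_one_or_eq_of_card_two _ hZ hzc hz1 hw with h | h
  · rw [h]; exact one_mem _
  · rw [h]; exact hzN

/-- The Frattini quotient of a nonabelian finite 2-group has order at least 4. -/
theorem four_le_index_frattini {G : Type*} [Group G] [Finite G] (hG : IsPGroup 2 G)
    (hnc : ¬ IsMulCommutative G) : 4 ≤ (frattini G).index := by
  have : Fact (Nat.Prime 2) := ⟨Nat.prime_two⟩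
  -- a first maximal subgroup
  have hbt : (⊥ : Subgroup G) ≠ ⊤ := by
    intro h
    apply hnc
    refine ⟨⟨fun a b => ?_⟩⟩
    have ha : a ∈ (⊥ : Subgroup G) := by rw [h]; exact mem_top a
    have hb : b ∈ (⊥ : Subgroup G) := by rw [h]; exact mem_top b
    rw [Subgroup.mem_bot] at ha hb
    rw [ha, hb]
  obtain ⟨M₁, hM₁, -⟩ := (IsCoatomic.eq_top_or_exists_le_coatom (⊥ : Subgroup G)).resolve_left hbt
  obtain ⟨g, -, hg⟩ := SetLike.exists_of_lt (lt_top_iff_ne_top.mpr hM₁.1)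
  have hcyc : zpowers g ≠ ⊤ := by
    intro h
    apply hnc
    refine ⟨⟨fun a b => ?_⟩⟩
    have ha : a ∈ zpowers g := by rw [h]; exact mem_top a
    have hb : b ∈ zpowers g := by rw [h]; exact mem_top b
    obtain ⟨i, rfl⟩ := ha
    obtain ⟨j, rfl⟩ := hb
    show g ^ i * g ^ j = g ^ j * g ^ i
    rw [← zpow_add, ← zpow_add, add_comm]
  obtain ⟨M₂, hM₂, hgM₂⟩ := (IsCoatomic.eq_top_or_exists_le_coatom (zpowers g)).resolve_left hcyc
  have hgM₂' : g ∈ M₂ := hgM₂ (mem_zpowers g)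
  have hΦ1 : frattini G ≤ M₁ := fun x hx =>
    (Cfsg.Agent.Lib.Helper1_Frattini.mem_frattini_iff.mp hx) M₁ hM₁
  have hΦ2 : frattini G ≤ M₂ := fun x hx =>
    (Cfsg.Agent.Lib.Helper1_Frattini.mem_frattini_iff.mp hx) M₂ hM₂
  have hidx : M₂.index = 2 := Cfsg.Agent.Lib.Helper1_Frattini.index_of_isCoatom_of_isPGroup hG hM₂
  have hrel : (frattini G).relIndex M₂ * M₂.index = (frattini G).index :=
    Subgroup.relIndex_mul_index hΦ2
  have hne1 : (frattini G).relIndex M₂ ≠ 1 := by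
    intro h
    rw [Subgroup.relIndex_eq_one] at h
    exact hg (hΦ1 (h hgM₂'))
  have hne0 : (frattini G).relIndex M₂ ≠ 0 :=
    (Subgroup.index_ne_zero_of_finite : ((frattini G).subgroupOf M₂).index ≠ 0)
  rw [hidx] at hrel
  omega

/-- Order of a product with trivial intersection. -/
theorem card_sup_of_inf_eq_bot {G : Type*} [Group G] (A B : Subgroup G) [B.Normal]
    (h : A ⊓ B = ⊥) : Nat.card ↥(A ⊔ B) = Nat.card A * Nat.card B := by
  have e1 : (⊥ : Subgroup G).relIndex B * B.relIndex (A ⊔ B) = (⊥ : Subgroup G).relIndex (A ⊔ B) :=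
    Subgroup.relIndex_mul_relIndex _ _ _ bot_le le_sup_right
  rw [Subgroup.relIndex_bot_left, Subgroup.relIndex_bot_left, Subgroup.relIndex_sup_right] at e1
  have e2 : B.relIndex A = Nat.card A := by
    rw [← Subgroup.inf_relIndex_right, inf_comm, h, Subgroup.relIndex_bot_left]
  rw [← e1, e2, mul_comm]

/-- Lagrange for a pair of subgroups. -/
theorem card_mul_relIndex_of_le {G : Type*} [Group G] {K L : Subgroup G} (h : K ≤ L) :
    Nat.card K * K.relIndex L = Nat.card L := by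
  have e1 : (⊥ : Subgroup G).relIndex K * K.relIndex L = (⊥ : Subgroup G).relIndex L :=
    Subgroup.relIndex_mul_relIndex _ _ _ bot_le h
  rw [Subgroup.relIndex_bot_left, Subgroup.relIndex_bot_left] at e1
  exact e1

/-- An element outside a subgroup of a 2-group has a power outside it whose square is inside. -/
theorem exists_sq_mem {S : Type*} [Group S] (hS : IsPGroup 2 S) (B T : Subgroup S) (h : ¬ B ≤ T) :
    ∃ b ∈ B, b ∉ T ∧ b ^ 2 ∈ T := by
  classical
  obtain ⟨b₀, hb₀B, hb₀P⟩ := SetLike.not_le_iff_exists.mp h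
  have hex : ∃ n : ℕ, b₀ ^ (2 ^ n) ∈ T := by
    obtain ⟨k, hk⟩ := hS b₀
    exact ⟨k, by rw [hk]; exact T.one_mem⟩
  have hn0 : Nat.find hex ≠ 0 := by
    intro h0
    have := Nat.find_spec hex
    rw [h0, pow_zero, pow_one] at this
    exact hb₀P this
  obtain ⟨m, hm⟩ := Nat.exists_eq_succ_of_ne_zero hn0
  refine ⟨b₀ ^ (2 ^ m), B.pow_mem hb₀B _, ?_, ?_⟩
  · exact Nat.find_min hex (by omega)
  · have := Nat.find_spec hex
    rw [hm, pow_succ, pow_mul] at this
    exact this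

/-- The counting core: an elementary abelian section of order at least 32. -/
theorem key {S : Type*} [Group S] [Finite S] (hr : Cfsg.SectionalPRankLE 2 4 S)
    (P Q A B : Subgroup S) [P.Normal] [Q.Normal] [A.Normal] [B.Normal]
    (hAP : A ≤ P) (hBQ : B ≤ Q) (hinf : P ⊓ Q = ⊥)
    (hcomm : ∀ p ∈ P, ∀ q ∈ Q, p * q = q * p)
    (hsqP : ∀ p ∈ P, p ^ 2 ∈ A) (hsqQ : ∀ q ∈ Q, q ^ 2 ∈ B)
    (hiP : 4 ≤ A.relIndex P) (hiQ : 4 ≤ B.relIndex Q)
    (y : S) (hyC : ∀ t ∈ P ⊔ Q, t * y = y * t) (hyT : y ∉ P ⊔ Q) (hy2 : y ^ 2 ∈ A ⊔ B) :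
    False := by
  have hTH : P ⊔ Q ≤ zpowers y ⊔ (P ⊔ Q) := le_sup_right
  have hNT : A ⊔ B ≤ P ⊔ Q := sup_le_sup hAP hBQ
  have hNH : A ⊔ B ≤ zpowers y ⊔ (P ⊔ Q) := hNT.trans hTH
  -- squares
  have hsq : ∀ h ∈ zpowers y ⊔ (P ⊔ Q), h ^ 2 ∈ A ⊔ B := by
    intro h hh
    obtain ⟨u, hu, t, ht, rfl⟩ := Subgroup.mem_sup_of_normal_right.mp hh
    obtain ⟨k, rfl⟩ := Subgroup.mem_zpowers_iff.mp hu
    obtain ⟨p, hp, q, hq, rfl⟩ := Subgroup.mem_sup_of_normal_right.mp ht
    have c1 : Commute (y ^ k) (p * q) := by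
      have : Commute y (p * q) := (hyC _ ht).symm
      exact this.zpow_left k
    have c2 : Commute p q := hcomm p hp q hq
    rw [c1.mul_pow, c2.mul_pow]
    have e : (y ^ k) ^ 2 = (y ^ 2) ^ k := by
      rw [← zpow_natCast, ← zpow_mul, mul_comm, zpow_mul, zpow_natCast]
    rw [e]
    exact (A ⊔ B).mul_mem ((A ⊔ B).zpow_mem hy2 k)
      (Subgroup.mul_mem_sup (hsqP p hp) (hsqQ q hq))
  -- the section
  have hexp : ∀ a : ↥(zpowers y ⊔ (P ⊔ Q)) ⧸ (A ⊔ B).subgroupOf (zpowers y ⊔ (P ⊔ Q)),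
      a ^ 2 = 1 := by
    intro a
    induction a using QuotientGroup.induction_on with
    | H h =>
      rw [← QuotientGroup.mk_pow, QuotientGroup.eq_one_iff, Subgroup.mem_subgroupOf]
      exact hsq h.1 h.2
  have hinv : ∀ a : ↥(zpowers y ⊔ (P ⊔ Q)) ⧸ (A ⊔ B).subgroupOf (zpowers y ⊔ (P ⊔ Q)),
      a⁻¹ = a := by
    intro a
    rw [inv_eq_iff_mul_eq_one, ← pow_two]
    exact hexp a
  have hcommq : ∀ a b : ↥(zpowers y ⊔ (P ⊔ Q)) ⧸ (A ⊔ B).subgroupOf (zpowers y ⊔ (P ⊔ Q)),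
      a * b = b * a := by
    intro a b
    calc a * b = (a * b)⁻¹ := (hinv _).symm
      _ = b⁻¹ * a⁻¹ := mul_inv_rev a b
      _ = b * a := by rw [hinv a, hinv b]
  have hle := hr (zpowers y ⊔ (P ⊔ Q)) ((A ⊔ B).subgroupOf (zpowers y ⊔ (P ⊔ Q))) ⊤
    ⟨⟨fun a b => Subtype.ext (hcommq a.1 b.1)⟩⟩ (fun a _ => hexp a)
  rw [Subgroup.card_top, ← Subgroup.index_eq_card] at hle
  change (A ⊔ B).relIndex (zpowers y ⊔ (P ⊔ Q)) ≤ 2 ^ 4 at hle
  -- cardinalities
  have cT : Nat.card ↥(P ⊔ Q) = Nat.card P * Nat.card Q := card_sup_of_inf_eq_bot P Q hinf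
  have cN : Nat.card ↥(A ⊔ B) = Nat.card A * Nat.card B := by
    apply card_sup_of_inf_eq_bot
    rw [eq_bot_iff, ← hinf]
    exact inf_le_inf hAP hBQ
  have cP : Nat.card A * A.relIndex P = Nat.card P := card_mul_relIndex_of_le hAP
  have cQ : Nat.card B * B.relIndex Q = Nat.card Q := card_mul_relIndex_of_le hBQ
  have cH1 : Nat.card ↥(P ⊔ Q) * (P ⊔ Q).relIndex (zpowers y ⊔ (P ⊔ Q))
      = Nat.card ↥(zpowers y ⊔ (P ⊔ Q)) := card_mul_relIndex_of_le hTH
  have cH2 : Nat.card ↥(A ⊔ B) * (A ⊔ B).relIndex (zpowers y ⊔ (P ⊔ Q))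
      = Nat.card ↥(zpowers y ⊔ (P ⊔ Q)) := card_mul_relIndex_of_le hNH
  have hr2 : 2 ≤ (P ⊔ Q).relIndex (zpowers y ⊔ (P ⊔ Q)) := by
    have hne1 : (P ⊔ Q).relIndex (zpowers y ⊔ (P ⊔ Q)) ≠ 1 := by
      intro h
      rw [Subgroup.relIndex_eq_one] at h
      exact hyT (h (le_sup_left (a := zpowers y) (mem_zpowers y)))
    have hne0 : (P ⊔ Q).relIndex (zpowers y ⊔ (P ⊔ Q)) ≠ 0 :=
      (Subgroup.index_ne_zero_of_finite :
        ((P ⊔ Q).subgroupOf (zpowers y ⊔ (P ⊔ Q))).index ≠ 0)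
    omega
  have hApos : 0 < Nat.card A := Nat.card_pos
  have hBpos : 0 < Nat.card B := Nat.card_pos
  have hmain : Nat.card A * Nat.card B * (A ⊔ B).relIndex (zpowers y ⊔ (P ⊔ Q))
      = Nat.card A * Nat.card B *
        (A.relIndex P * B.relIndex Q * (P ⊔ Q).relIndex (zpowers y ⊔ (P ⊔ Q))) := by
    rw [← cN, cH2, ← cH1, cT, ← cP, ← cQ, cN]
    ring
  have hmain' := Nat.eq_of_mul_eq_mul_left (Nat.mul_pos hApos hBpos) hmain
  have h32 : 4 * 4 * 2 ≤ A.relIndex P * B.relIndex Q * (P ⊔ Q).relIndex (zpowers y ⊔ (P ⊔ Q)) :=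
    Nat.mul_le_mul (Nat.mul_le_mul hiP hiQ) hr2
  omega

/-- Image of the Frattini subgroup of a nonabelian 2-subgroup: index at least 4. -/
theorem four_le_relIndex {S : Type*} [Group S] [Finite S] (h2 : IsPGroup 2 S) (P : Subgroup S)
    (hP : ¬ IsMulCommutative ↥P) : 4 ≤ ((frattini ↥P).map P.subtype).relIndex P := by
  rw [Subgroup.relIndex, Subgroup.subgroupOf,
    Subgroup.comap_map_eq_self_of_injective P.subtype_injective]
  exact four_le_index_frattini (h2.to_subgroup P) hP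

/-- Squares land in the image of the Frattini subgroup. -/
theorem sq_mem_map_frattini {S : Type*} [Group S] [Finite S] (h2 : IsPGroup 2 S) (P : Subgroup S)
    (p : S) (hp : p ∈ P) : p ^ 2 ∈ (frattini ↥P).map P.subtype := by
  have : Fact (Nat.Prime 2) := ⟨Nat.prime_two⟩
  exact ⟨⟨p, hp⟩ ^ 2,
    Cfsg.Agent.Lib.Helper1_Frattini.pow_mem_frattini_of_isPGroup (h2.to_subgroup P) ⟨p, hp⟩, rfl⟩

/-- Central elements of `P` lie in the image of the Frattini subgroup. -/
theorem central_mem_map_frattini {S : Type*} [Group S] [Finite S] (h2 : IsPGroup 2 S)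
    (P : Subgroup S) (hP : ¬ IsMulCommutative ↥P) (hZP : Nat.card ↥(Subgroup.center ↥P) = 2)
    (z : S) (hz : z ∈ P) (hc : ∀ p ∈ P, Commute p z) : z ∈ (frattini ↥P).map P.subtype := by
  refine ⟨⟨z, hz⟩, center_le_frattini (h2.to_subgroup P) hP hZP ?_, rfl⟩
  rw [Subgroup.mem_center_iff]
  intro p
  exact Subtype.ext (hc p.1 p.2)
/-- Let S be a finite 2-group of sectional 2-rank at most 4, and let P and Q be normal non-abelian subgroups of S whose centres have order 2 and are different. Then P and Q commute elementwise and intersect trivially, and PQ contains its own centralizer in S. -/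
theorem result {S : Type*} [Group S] [Finite S] (h2 : IsPGroup 2 S) (hr : Cfsg.SectionalPRankLE 2 4 S)
    (P Q : Subgroup S) [P.Normal] [Q.Normal] (hP : ¬ IsMulCommutative ↥P) (hQ : ¬ IsMulCommutative ↥Q)
    (hZP : Nat.card ↥(Subgroup.center ↥P) = 2) (hZQ : Nat.card ↥(Subgroup.center ↥Q) = 2)
    (hne : (Subgroup.center ↥P).map P.subtype ≠ (Subgroup.center ↥Q).map Q.subtype) :
    ⁅P, Q⁆ = ⊥ ∧ P ⊓ Q = ⊥ ∧ Subgroup.centralizer ((P ⊔ Q : Subgroup S) : Set S) ≤ P ⊔ Q := by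
  have hinf : P ⊓ Q = ⊥ := inf_eq_bot h2 P Q hZP hZQ hne
  have hcomm : ⁅P, Q⁆ = ⊥ := by
    rw [eq_bot_iff, ← hinf]; exact Subgroup.commutator_le_inf P Q
  refine ⟨hcomm, hinf, ?_⟩
  by_contra hcon
  obtain ⟨y, hyC, hyT, hy2⟩ := exists_sq_mem h2 _ _ hcon
  have hcomm' : ∀ p ∈ P, ∀ q ∈ Q, p * q = q * p := by
    intro p hp q hq
    have := Subgroup.commutator_eq_bot_iff_le_centralizer.mp hcomm hp
    rw [Subgroup.mem_centralizer_iff] at this
    exact (this q hq).symm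
  have hyC' : ∀ t ∈ P ⊔ Q, t * y = y * t := Subgroup.mem_centralizer_iff.mp hyC
  -- `y ^ 2` lies in `Z(P) Z(Q)`
  obtain ⟨p₀, hp₀, q₀, hq₀, e⟩ := Subgroup.mem_sup_of_normal_right.mp hy2
  have hy2A : y ^ 2 ∈ (frattini ↥P).map P.subtype ⊔ (frattini ↥Q).map Q.subtype := by
    rw [← e]
    apply Subgroup.mul_mem_sup
    · apply central_mem_map_frattini h2 P hP hZP p₀ hp₀
      intro p hp
      have e1 : p₀ = y ^ 2 * q₀⁻¹ := by rw [← e]; group
      have c1 : Commute p (y ^ 2) :=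
        (show Commute p y from hyC' p (le_sup_left (b := Q) hp)).pow_right 2
      have c2 : Commute p q₀⁻¹ := (show Commute p q₀ from hcomm' p hp q₀ hq₀).inv_right
      rw [e1]
      exact c1.mul_right c2
    · apply central_mem_map_frattini h2 Q hQ hZQ q₀ hq₀
      intro q hq
      have e1 : q₀ = p₀⁻¹ * y ^ 2 := by rw [← e]; group
      have c1 : Commute q (y ^ 2) :=
        (show Commute q y from hyC' q (le_sup_right (a := P) hq)).pow_right 2
      have c2 : Commute q p₀⁻¹ := (show Commute q p₀ from (hcomm' p₀ hp₀ q hq).symm).inv_right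
      rw [e1]
      exact c2.mul_right c1
  exact key hr P Q ((frattini ↥P).map P.subtype) ((frattini ↥Q).map Q.subtype)
    (Subgroup.map_subtype_le _) (Subgroup.map_subtype_le _) hinf hcomm'
    (sq_mem_map_frattini h2 P) (sq_mem_map_frattini h2 Q)
    (four_le_relIndex h2 P hP) (four_le_relIndex h2 Q hQ) y hyC' hyT hy2A

end Cfsg.Agent.S4400
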