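import Cfsg.Statements.S4401
import Cfsg.Agent.Lib.Helper4_SectRank

set_option autoImplicit false
open Cfsg

namespace Cfsg.Agent.S4401

open Subgroup Cfsg.Agent.Lib Cfsg.Agent.Lib.Helper4_SectRank

variable {S : Type*} [Group S]

/-- `P` is nonabelian with centre `{1, z}`, `S₀ = C_S(z)` normalizes `P` -/
structure Good (P : Subgroup S) (z : S) (S₀ : Subgroup S) : Prop where
  z_mem : z ∈ P
  z_ne : z ≠ 1
  z_comm : ∀ x ∈ P, x * z = z * x
  center : ∀ x ∈ P, (∀ y ∈ P, x * y = y * x) → x = 1 ∨ x = z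
  nonab : ∃ x ∈ P, ∃ y ∈ P, x * y ≠ y * x
  mem_S0 : ∀ g, g ∈ S₀ ↔ g * z = z * g
  norm : ∀ s ∈ S₀, ∀ x ∈ P, s * x * s⁻¹ ∈ P

namespace Good

variable {P : Subgroup S} {z : S} {S₀ : Subgroup S}

theorem P_le (h : Good P z S₀) : P ≤ S₀ := fun x hx => (h.mem_S0 x).mpr (h.z_comm x hx)

theorem z_sq (h : Good P z S₀) : z * z = 1 := by
  have h1 : ∀ y ∈ P, (z * z) * y = y * (z * z) := by
    intro y hy
    have := h.z_comm y hy
    calc z * z * y = z * (z * y) := by group
      _ = z * (y * z) := by rw [this]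
      _ = (z * y) * z := by group
      _ = (y * z) * z := by rw [this]
      _ = y * (z * z) := by group
  rcases h.center _ (mul_mem h.z_mem h.z_mem) h1 with h2 | h2
  · exact h2
  · exfalso
    apply h.z_ne
    calc z = z⁻¹ * (z * z) := by group
      _ = z⁻¹ * z := by rw [h2]
      _ = 1 := by group

theorem z_inv (h : Good P z S₀) : z⁻¹ = z := inv_eq_of_mul_eq_one_left h.z_sq

theorem conj (h : Good P z S₀) (g : S) : Good (cj g P) (g * z * g⁻¹) (cj g S₀) := by
  refine ⟨conj_mem_cj h.z_mem, ?_, ?_, ?_, ?_, ?_, ?_⟩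
  · intro h1
    apply h.z_ne
    calc z = g⁻¹ * (g * z * g⁻¹) * g := by group
      _ = 1 := by rw [h1]; group
  · intro x hx
    have h1 := h.z_comm _ (mem_cj.mp hx)
    calc x * (g * z * g⁻¹) = g * ((g⁻¹ * x * g) * z) * g⁻¹ := by group
      _ = g * (z * (g⁻¹ * x * g)) * g⁻¹ := by rw [h1]
      _ = g * z * g⁻¹ * x := by group
  · intro x hx hc
    have h1 : ∀ y ∈ P, (g⁻¹ * x * g) * y = y * (g⁻¹ * x * g) := by
      intro y hy
      have := hc _ (conj_mem_cj (g := g) hy)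
      calc g⁻¹ * x * g * y = g⁻¹ * (x * (g * y * g⁻¹)) * g := by group
        _ = g⁻¹ * ((g * y * g⁻¹) * x) * g := by rw [this]
        _ = y * (g⁻¹ * x * g) := by group
    rcases h.center _ (mem_cj.mp hx) h1 with h2 | h2
    · left
      calc x = g * (g⁻¹ * x * g) * g⁻¹ := by group
        _ = 1 := by rw [h2]; group
    · right
      calc x = g * (g⁻¹ * x * g) * g⁻¹ := by group
        _ = g * z * g⁻¹ := by rw [h2]
  · obtain ⟨x, hx, y, hy, hxy⟩ := h.nonab
    refine ⟨_, conj_mem_cj (g := g) hx, _, conj_mem_cj (g := g) hy, ?_⟩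
    intro h1
    apply hxy
    calc x * y = g⁻¹ * ((g * x * g⁻¹) * (g * y * g⁻¹)) * g := by group
      _ = g⁻¹ * ((g * y * g⁻¹) * (g * x * g⁻¹)) * g := by rw [h1]
      _ = y * x := by group
  · intro t
    rw [mem_cj, h.mem_S0]
    constructor
    · intro h1
      calc t * (g * z * g⁻¹) = g * ((g⁻¹ * t * g) * z) * g⁻¹ := by group
        _ = g * (z * (g⁻¹ * t * g)) * g⁻¹ := by rw [h1]
        _ = g * z * g⁻¹ * t := by group
    · intro h1
      calc g⁻¹ * t * g * z = g⁻¹ * (t * (g * z * g⁻¹)) * g := by group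
        _ = g⁻¹ * ((g * z * g⁻¹) * t) * g := by rw [h1]
        _ = z * (g⁻¹ * t * g) := by group
  · intro s hs x hx
    rw [mem_cj] at hs hx ⊢
    have h1 := h.norm _ hs _ hx
    have e1 : g⁻¹ * (s * x * s⁻¹) * g = (g⁻¹ * s * g) * (g⁻¹ * x * g) * (g⁻¹ * s * g)⁻¹ := by group
    rw [e1]
    exact h1

variable [Finite S]

/-- a nontrivial subgroup of `P` normalized by `P` contains `z` -/
theorem z_mem_of_normal (h : Good P z S₀) (hS : IsPGroup 2 S) (D : Subgroup S) (hDP : D ≤ P)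
    (hDn : ∀ x ∈ P, ∀ d ∈ D, x * d * x⁻¹ ∈ D) (hD : D ≠ ⊥) : z ∈ D := by
  have : Fact (Nat.Prime 2) := ⟨Nat.prime_two⟩
  have hPp : IsPGroup 2 ↥P := hS.to_subgroup P
  have hn : (D.subgroupOf P).Normal := by
    constructor
    intro n hn g
    rw [mem_subgroupOf] at hn ⊢
    exact hDn g g.2 n hn
  have hne : D.subgroupOf P ≠ ⊥ := by
    intro h1
    apply hD
    rw [eq_bot_iff]
    intro d hd
    have : (⟨d, hDP hd⟩ : ↥P) ∈ D.subgroupOf P := mem_subgroupOf.mpr hd
    rw [h1, mem_bot] at this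
    rw [mem_bot]
    exact congrArg Subtype.val this
  obtain ⟨c, hcD, hcc, hc1⟩ := Helper32_PGroup.exists_mem_center_of_normal hPp (D.subgroupOf P) hne
  rw [mem_subgroupOf] at hcD
  have h1 : ∀ y ∈ P, (c : S) * y = y * (c : S) := by
    intro y hy
    have := Subgroup.mem_center_iff.mp hcc ⟨y, hy⟩
    exact (congrArg Subtype.val this).symm
  rcases h.center _ c.2 h1 with h2 | h2
  · exact absurd (Subtype.ext h2) hc1
  · rw [← h2]; exact hcD

theorem Sq_normal (h : Good P z S₀) : ∀ s ∈ S₀, ∀ d ∈ Sq P, s * d * s⁻¹ ∈ Sq P :=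
  fun s hs _ hd => conj_mem_Sq (h.norm s hs) hd

theorem z_mem_Sq (h : Good P z S₀) (hS : IsPGroup 2 S) : z ∈ Sq P := by
  apply h.z_mem_of_normal hS (Sq P) (Sq_le P) (fun x hx => h.Sq_normal x (h.P_le hx))
  intro hbot
  obtain ⟨x, hx, y, hy, hxy⟩ := h.nonab
  apply hxy
  have h1 := comm_mem_Sq hx hy
  rw [hbot, mem_bot] at h1
  calc x * y = (x * y * x⁻¹ * y⁻¹) * (y * x) := by group
    _ = y * x := by rw [h1, one_mul]

theorem card_Sq (h : Good P z S₀) (hS : IsPGroup 2 S) : 4 * Nat.card (Sq P) ≤ Nat.card P :=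
  four_mul_card_Sq_le P (hS.to_subgroup P) h.nonab

end Good

/-- two "good" subgroups for the same `S₀` with different central involutions -/
structure Pair (P P' : Subgroup S) (z z' : S) (S₀ : Subgroup S) : Prop where
  h1 : Good P z S₀
  h2 : Good P' z' S₀
  hne : z ≠ z'

namespace Pair

variable {P P' : Subgroup S} {z z' : S} {S₀ : Subgroup S}

theorem symm (h : Pair P P' z z' S₀) : Pair P' P z' z S₀ := ⟨h.h2, h.h1, h.hne.symm⟩

variable [Finite S]

theorem disj (h : Pair P P' z z' S₀) (hS : IsPGroup 2 S) : P ⊓ P' = ⊥ := by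
  by_contra hne
  have hz : z ∈ P ⊓ P' := by
    apply h.h1.z_mem_of_normal hS (P ⊓ P') inf_le_left _ hne
    intro x hx d hd
    exact Subgroup.mem_inf.mpr ⟨h.h1.norm x (h.h1.P_le hx) d (Subgroup.mem_inf.mp hd).1,
      h.h2.norm x (h.h1.P_le hx) d (Subgroup.mem_inf.mp hd).2⟩
  have hzP' : z ∈ P' := (Subgroup.mem_inf.mp hz).2
  have hc : ∀ y ∈ P', z * y = y * z := by
    intro y hy
    exact ((h.h1.mem_S0 y).mp (h.h2.P_le hy)).symm
  rcases h.h2.center z hzP' hc with h3 | h3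
  · exact h.h1.z_ne h3
  · exact h.hne h3

theorem comm (h : Pair P P' z z' S₀) (hS : IsPGroup 2 S) : ∀ a ∈ P, ∀ b ∈ P', a * b = b * a :=
  commute_of_disjoint_normalizing (h.disj hS)
    (fun a ha b hb => h.h2.norm a (h.h1.P_le ha) b hb)
    (fun b hb a ha => h.h1.norm b (h.h2.P_le hb) a ha)

theorem Sq_disj (h : Pair P P' z z' S₀) (hS : IsPGroup 2 S) : Sq P ⊓ Sq P' = ⊥ := by
  rw [eq_bot_iff, ← h.disj hS]
  exact inf_le_inf (Sq_le P) (Sq_le P')

theorem Sq_comm (h : Pair P P' z z' S₀) (hS : IsPGroup 2 S) :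
    ∀ a ∈ Sq P, ∀ b ∈ Sq P', a * b = b * a :=
  fun a ha b hb => h.comm hS a (Sq_le P ha) b (Sq_le P' hb)

theorem card_Q (h : Pair P P' z z' S₀) (hS : IsPGroup 2 S) :
    Nat.card (P ⊔ P' : Subgroup S) = Nat.card P * Nat.card P' :=
  card_sup_of_commute (h.comm hS) (h.disj hS)

theorem card_M (h : Pair P P' z z' S₀) (hS : IsPGroup 2 S) :
    Nat.card (Sq P ⊔ Sq P' : Subgroup S) = Nat.card (Sq P) * Nat.card (Sq P') :=
  card_sup_of_commute (h.Sq_comm hS) (h.Sq_disj hS)

theorem card_ineq (h : Pair P P' z z' S₀) (hS : IsPGroup 2 S) :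
    2 ^ 4 * Nat.card (Sq P ⊔ Sq P' : Subgroup S) ≤ Nat.card (P ⊔ P' : Subgroup S) := by
  rw [h.card_Q hS, h.card_M hS]
  have h1 := h.h1.card_Sq hS
  have h2 := h.h2.card_Sq hS
  calc 2 ^ 4 * (Nat.card (Sq P) * Nat.card (Sq P'))
      = (4 * Nat.card (Sq P)) * (4 * Nat.card (Sq P')) := by ring
    _ ≤ Nat.card P * Nat.card P' := Nat.mul_le_mul h1 h2

/-- `S₀` normalizes `Q = P P'` and `M` -/
theorem Q_norm (h : Pair P P' z z' S₀) : ∀ s ∈ S₀, ∀ q ∈ P ⊔ P', s * q * s⁻¹ ∈ P ⊔ P' :=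
  fun s hs _ hq => conj_mem_sup (h.h1.norm s hs) (h.h2.norm s hs) hq

theorem M_norm (h : Pair P P' z z' S₀) : ∀ s ∈ S₀, ∀ m ∈ Sq P ⊔ Sq P', s * m * s⁻¹ ∈ Sq P ⊔ Sq P' :=
  fun s hs _ hm => conj_mem_sup (h.h1.Sq_normal s hs) (h.h2.Sq_normal s hs) hm

theorem Q_le (h : Pair P P' z z' S₀) : P ⊔ P' ≤ S₀ := sup_le h.h1.P_le h.h2.P_le

theorem Q_section (h : Pair P P' z z' S₀) (hS : IsPGroup 2 S) :
    IsEASection 2 (P ⊔ P') (Sq P ⊔ Sq P') := by
  have hcl : closure ((P : Set S) ∪ (P' : Set S)) = P ⊔ P' := by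
    rw [Subgroup.closure_union, Subgroup.closure_eq, Subgroup.closure_eq]
  rw [← hcl]
  apply isEASection_closure
  · rw [hcl]
    exact sup_le_sup (Sq_le P) (Sq_le P')
  · rintro x (hx | hx) n hn
    · exact h.M_norm x (h.h1.P_le hx) n hn
    · exact h.M_norm x (h.h2.P_le hx) n hn
  · rintro x (hx | hx) y (hy | hy)
    · exact le_sup_left (a := Sq P) (comm_mem_Sq hx hy)
    · have := h.comm hS x hx y hy
      have e1 : x * y * x⁻¹ * y⁻¹ = 1 := by rw [this]; group
      rw [e1]; exact one_mem _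
    · have := h.comm hS y hy x hx
      have e1 : x * y * x⁻¹ * y⁻¹ = 1 := by rw [← this]; group
      rw [e1]; exact one_mem _
    · exact le_sup_right (a := Sq P) (comm_mem_Sq hx hy)
  · rintro x (hx | hx)
    · exact le_sup_left (a := Sq P) (sq_mem_Sq hx)
    · exact le_sup_right (a := Sq P) (sq_mem_Sq hx)

/-- the centre of `Q` -/
theorem center_Q (h : Pair P P' z z' S₀) (hS : IsPGroup 2 S) {x : S} (hx : x ∈ P ⊔ P')
    (hc : ∀ q ∈ P ⊔ P', x * q = q * x) : x = 1 ∨ x = z ∨ x = z' ∨ x = z * z' := by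
  obtain ⟨a, ha, b, hb, rfl⟩ := exists_mul_of_mem_sup (h.comm hS) hx
  have ha' : ∀ y ∈ P, a * y = y * a := by
    intro y hy
    have h1 := hc y (le_sup_left (a := P) hy)
    have h2 := h.comm hS y hy b hb
    calc a * y = (a * b * y) * b⁻¹ := by rw [mul_assoc a b y, ← h2]; group
      _ = (y * (a * b)) * b⁻¹ := by rw [h1]
      _ = y * a := by group
  have hb' : ∀ y ∈ P', b * y = y * b := by
    intro y hy
    have h1 := hc y (le_sup_right (a := P) hy)
    have h2 := h.comm hS a ha y hy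
    calc b * y = a⁻¹ * (a * b * y) := by group
      _ = a⁻¹ * (y * (a * b)) := by rw [h1]
      _ = a⁻¹ * (y * a) * b := by group
      _ = a⁻¹ * (a * y) * b := by rw [h2]
      _ = y * b := by group
  rcases h.h1.center a ha ha' with h1 | h1 <;> rcases h.h2.center b hb hb' with h2 | h2
  · left; rw [h1, h2, one_mul]
  · right; right; left; rw [h1, h2, one_mul]
  · right; left; rw [h1, h2, mul_one]
  · right; right; right; rw [h1, h2]

theorem center_Q_le_M (h : Pair P P' z z' S₀) (hS : IsPGroup 2 S) {x : S} (hx : x ∈ P ⊔ P')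
    (hc : ∀ q ∈ P ⊔ P', x * q = q * x) : x ∈ Sq P ⊔ Sq P' := by
  have hz := le_sup_left (a := Sq P) (b := Sq P') (h.h1.z_mem_Sq hS)
  have hz' := le_sup_right (a := Sq P) (b := Sq P') (h.h2.z_mem_Sq hS)
  rcases h.center_Q hS hx hc with h1 | h1 | h1 | h1 <;> rw [h1]
  · exact one_mem _
  · exact hz
  · exact hz'
  · exact mul_mem hz hz'

/-- `C_S(Q) ≤ Q` when the sectional rank is at most four -/
theorem centralizer_le (h : Pair P P' z z' S₀) (hS : IsPGroup 2 S)
    (hr : Cfsg.SectionalPRankLE 2 4 S) :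
    ∀ x : S, (∀ q ∈ P ⊔ P', x * q = q * x) → x ∈ P ⊔ P' := by
  apply induction_sq hS
  · intro _; exact one_mem _
  · intro x ih hc
    have hc2 : ∀ q ∈ P ⊔ P', (x * x) * q = q * (x * x) := by
      intro q hq
      have := hc q hq
      calc x * x * q = x * (x * q) := by group
        _ = x * (q * x) := by rw [this]
        _ = (x * q) * x := by group
        _ = (q * x) * x := by rw [this]
        _ = q * (x * x) := by group
    have h2 := ih hc2
    have h3 := h.center_Q_le_M hS h2 hc2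
    apply no_ext hr _ _ (h.Q_section hS) (h.card_ineq hS) x
    · intro m hm
      have := hc m (sup_le_sup (Sq_le P) (Sq_le P') hm)
      rw [this]
      simpa using hm
    · intro q hq
      have := hc q hq
      rw [this]
      simp
    · exact h3

end Pair


theorem conj_eq_of_comm {x b : S} (h : x * b = b * x) : x * b * x⁻¹ = b := by
  rw [h]; group

/-- three pairwise "independent" good subgroups cannot exist -/
theorem third [Finite S] {P P₂ P₃ : Subgroup S} {z z₂ z₃ : S} {S₀ : Subgroup S}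
    (hS : IsPGroup 2 S) (hr : Cfsg.SectionalPRankLE 2 4 S)
    (h12 : Pair P P₂ z z₂ S₀) (h13 : Pair P P₃ z z₃ S₀) (h23 : Pair P₂ P₃ z₂ z₃ S₀) : False := by
  have hc : ∀ x ∈ P₃, ∀ q ∈ P ⊔ P₂, x * q = q * x := by
    intro x hx q hq
    obtain ⟨a, ha, b, hb, rfl⟩ := exists_mul_of_mem_sup (h12.comm hS) hq
    have e1 := h13.comm hS a ha x hx
    have e2 := h23.comm hS b hb x hx
    calc x * (a * b) = (x * a) * b := by group
      _ = (a * x) * b := by rw [e1]
      _ = a * (x * b) := by group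
      _ = a * (b * x) := by rw [e2]
      _ = a * b * x := by group
  obtain ⟨x, hx, y, hy, hxy⟩ := h13.h2.nonab
  apply hxy
  have hyQ := h12.centralizer_le hS hr y (hc y hy)
  exact hc x hx y hyQ

/-- the sectional rank of `P` is at most two -/
theorem sect_rank [Finite S] {P P' : Subgroup S} {z z' : S} {S₀ : Subgroup S}
    (hS : IsPGroup 2 S) (hr : Cfsg.SectionalPRankLE 2 4 S) (h : Pair P P' z z' S₀) (g : S)
    (hg : P' = cj g P) :
    ∀ H N : Subgroup S, H ≤ P → IsEASection 2 H N → Nat.card H ≤ 2 ^ 2 * Nat.card N := by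
  intro H N hHP hsec
  have hsec' := hsec.cj g
  have hH'P' : cj g H ≤ P' := by rw [hg]; exact cj_mono hHP
  have hcomm : ∀ a ∈ H, ∀ b ∈ cj g H, a * b = b * a :=
    fun a ha b hb => h.comm hS a (hHP ha) b (hH'P' hb)
  have hdisj : H ⊓ cj g H = ⊥ := by
    rw [eq_bot_iff, ← h.disj hS]; exact inf_le_inf hHP hH'P'
  have hNdisj : N ⊓ cj g N = ⊥ := by
    rw [eq_bot_iff, ← hdisj]; exact inf_le_inf hsec.le hsec'.le
  have hNcomm : ∀ a ∈ N, ∀ b ∈ cj g N, a * b = b * a :=
    fun a ha b hb => hcomm a (hsec.le ha) b (hsec'.le hb)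
  have hcl : closure ((H : Set S) ∪ (cj g H : Set S)) = H ⊔ cj g H := by
    rw [Subgroup.closure_union, Subgroup.closure_eq, Subgroup.closure_eq]
  have hbig : IsEASection 2 (H ⊔ cj g H) (N ⊔ cj g N) := by
    rw [← hcl]
    apply isEASection_closure
    · rw [hcl]; exact sup_le_sup hsec.le hsec'.le
    · rintro x (hx | hx) n hn
      · refine conj_mem_sup (hsec.norm x hx) ?_ hn
        intro b hb
        rw [conj_eq_of_comm (hcomm x hx b (hsec'.le hb))]
        exact hb
      · refine conj_mem_sup ?_ (hsec'.norm x hx) hn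
        intro a ha
        rw [conj_eq_of_comm (hcomm a (hsec.le ha) x hx).symm]
        exact ha
    · rintro x (hx | hx) y (hy | hy)
      · exact le_sup_left (a := N) (hsec.comm x hx y hy)
      · have := hcomm x hx y hy
        have e1 : x * y * x⁻¹ * y⁻¹ = 1 := by rw [this]; group
        rw [e1]; exact one_mem _
      · have := hcomm y hy x hx
        have e1 : x * y * x⁻¹ * y⁻¹ = 1 := by rw [← this]; group
        rw [e1]; exact one_mem _
      · exact le_sup_right (a := N) (hsec'.comm x hx y hy)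
    · rintro x (hx | hx)
      · have := hsec.pow x hx
        rw [pow_two] at this
        exact le_sup_left (a := N) this
      · have := hsec'.pow x hx
        rw [pow_two] at this
        exact le_sup_right (a := N) this
  have h1 := card_le_of_section hr hbig
  rw [card_sup_of_commute hcomm hdisj, card_sup_of_commute hNcomm hNdisj, card_cj, card_cj] at h1
  have h2 : Nat.card H * Nat.card H ≤ (2 ^ 2 * Nat.card N) * (2 ^ 2 * Nat.card N) := by
    calc Nat.card H * Nat.card H ≤ 2 ^ 4 * (Nat.card N * Nat.card N) := h1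
      _ = (2 ^ 2 * Nat.card N) * (2 ^ 2 * Nat.card N) := by ring
  exact Nat.mul_self_le_mul_self_iff.mp h2


/-- the normalizer of `S₀` is the whole group -/
theorem stepF [Finite S] {P : Subgroup S} {z : S} {S₀ : Subgroup S} (hS : IsPGroup 2 S)
    (hr : Cfsg.SectionalPRankLE 2 4 S) (hG : Good P z S₀) (s : S)
    (hsT : s ∈ normalizer (S₀ : Set S)) (hs : s ∉ S₀)
    (hD : ∀ g ∈ normalizer (S₀ : Set S), g ∉ S₀ → s⁻¹ * g ∈ S₀)
    (y : S) (hyT : y ∈ normalizer ((normalizer (S₀ : Set S) : Subgroup S) : Set S))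
    (hy : y ∉ normalizer (S₀ : Set S)) : False := by
  have hS₀T : S₀ ≤ normalizer (S₀ : Set S) := le_normalizer
  have hcjs : cj s S₀ = S₀ := mem_normalizer_iff_map_conj_eq.mp hsT
  have hG' : Good (cj s P) (s * z * s⁻¹) S₀ := by
    have := hG.conj s
    rwa [hcjs] at this
  have hzz' : z ≠ s * z * s⁻¹ := by
    intro h
    apply hs
    rw [hG.mem_S0]
    calc s * z = (s * z * s⁻¹) * s := by group
      _ = z * s := by rw [← h]
  have hpair : Pair P (cj s P) z (s * z * s⁻¹) S₀ := ⟨hG, hG', hzz'⟩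
  -- s² ∈ S₀
  have hs2 : s * s ∈ S₀ := by
    have h1 : s⁻¹ ∉ S₀ := fun h => hs (by simpa using inv_mem h)
    have h2 := hD s⁻¹ (inv_mem hsT) h1
    have e1 : s * s = (s⁻¹ * s⁻¹)⁻¹ := by simp [mul_inv_rev]
    rw [e1]
    exact inv_mem h2
  have hT : ∀ t ∈ normalizer (S₀ : Set S), t ∈ S₀ ∨ s⁻¹ * t ∈ S₀ := by
    intro t ht
    by_cases h : t ∈ S₀
    · exact Or.inl h
    · exact Or.inr (hD t ht h)
  have hsP : ∀ x ∈ P, s * x * s⁻¹ ∈ cj s P := fun x hx => conj_mem_cj hx
  have hsP' : ∀ x ∈ cj s P, s * x * s⁻¹ ∈ P := by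
    intro x hx
    have h1 := hG.norm _ hs2 _ (mem_cj.mp hx)
    have e1 : s * x * s⁻¹ = s * s * (s⁻¹ * x * s) * (s * s)⁻¹ := by group
    rw [e1]; exact h1
  have hsQ : ∀ q ∈ P ⊔ cj s P, s * q * s⁻¹ ∈ P ⊔ cj s P := by
    intro q hq
    have := conj_mem_sup hsP hsP' hq
    rwa [sup_comm] at this
  have hsM : ∀ m ∈ Sq P ⊔ Sq (cj s P), s * m * s⁻¹ ∈ Sq P ⊔ Sq (cj s P) := by
    intro m hm
    have := conj_mem_sup (A' := Sq (cj s P)) (B' := Sq P) (fun a ha => conj_mem_Sq hsP ha)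
      (fun b hb => conj_mem_Sq hsP' hb) hm
    rwa [sup_comm] at this
  have hTQ : ∀ t ∈ normalizer (S₀ : Set S), ∀ q ∈ P ⊔ cj s P, t * q * t⁻¹ ∈ P ⊔ cj s P := by
    intro t ht q hq
    rcases hT t ht with h | h
    · exact hpair.Q_norm t h q hq
    · have h1 := hsQ _ (hpair.Q_norm _ h q hq)
      have e1 : t * q * t⁻¹ = s * (s⁻¹ * t * q * (s⁻¹ * t)⁻¹) * s⁻¹ := by group
      rw [e1]; exact h1
  have hTM : ∀ t ∈ normalizer (S₀ : Set S), ∀ m ∈ Sq P ⊔ Sq (cj s P),
      t * m * t⁻¹ ∈ Sq P ⊔ Sq (cj s P) := by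
    intro t ht q hq
    rcases hT t ht with h | h
    · exact hpair.M_norm t h q hq
    · have h1 := hsM _ (hpair.M_norm _ h q hq)
      have e1 : t * q * t⁻¹ = s * (s⁻¹ * t * q * (s⁻¹ * t)⁻¹) * s⁻¹ := by group
      rw [e1]; exact h1
  -- the action on z, z'
  have hsz' : s * (s * z * s⁻¹) * s⁻¹ = z := by
    have h1 := (hG.mem_S0 _).mp hs2
    calc s * (s * z * s⁻¹) * s⁻¹ = (s * s * z) * (s * s)⁻¹ := by group
      _ = (z * (s * s)) * (s * s)⁻¹ := by rw [h1]
      _ = z := by group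
  have hTz : ∀ t ∈ normalizer (S₀ : Set S),
      (t * z * t⁻¹ = z ∧ t * (s * z * s⁻¹) * t⁻¹ = s * z * s⁻¹) ∨
      (t * z * t⁻¹ = s * z * s⁻¹ ∧ t * (s * z * s⁻¹) * t⁻¹ = z) := by
    intro t ht
    rcases hT t ht with h | h
    · left
      exact ⟨conj_eq_of_comm ((hG.mem_S0 t).mp h), conj_eq_of_comm ((hG'.mem_S0 t).mp h)⟩
    · right
      have h1 := conj_eq_of_comm ((hG.mem_S0 _).mp h)
      have h2 := conj_eq_of_comm ((hG'.mem_S0 _).mp h)
      constructor
      · calc t * z * t⁻¹ = s * (s⁻¹ * t * z * (s⁻¹ * t)⁻¹) * s⁻¹ := by group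
          _ = s * z * s⁻¹ := by rw [h1]
      · calc t * (s * z * s⁻¹) * t⁻¹
            = s * (s⁻¹ * t * (s * z * s⁻¹) * (s⁻¹ * t)⁻¹) * s⁻¹ := by group
          _ = s * (s * z * s⁻¹) * s⁻¹ := by rw [h2]
          _ = z := hsz'
  have hzz'c : z * (s * z * s⁻¹) = (s * z * s⁻¹) * z :=
    ((hG.mem_S0 _).mp (hG'.P_le hG'.z_mem)).symm
  have hTc : ∀ t ∈ normalizer (S₀ : Set S),
      t * (z * (s * z * s⁻¹)) * t⁻¹ = z * (s * z * s⁻¹) := by
    intro t ht
    have e1 : t * (z * (s * z * s⁻¹)) * t⁻¹ = (t * z * t⁻¹) * (t * (s * z * s⁻¹) * t⁻¹) := by group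
    rw [e1]
    rcases hTz t ht with ⟨h1, h2⟩ | ⟨h1, h2⟩
    · rw [h1, h2]
    · rw [h1, h2, hzz'c]
  have hz'ne : s * z * s⁻¹ ≠ 1 := hG'.z_ne
  have hzc : z * (z * (s * z * s⁻¹)) = s * z * s⁻¹ := by
    rw [← mul_assoc, hG.z_sq, one_mul]
  -- the conjugates under y
  have hGy : Good (cj y P) (y * z * y⁻¹) (cj y S₀) := hG.conj y
  have hG'y : Good (cj y (cj s P)) (y * (s * z * s⁻¹) * y⁻¹) (cj y S₀) := hG'.conj y
  have hww' : y * z * y⁻¹ ≠ y * (s * z * s⁻¹) * y⁻¹ := by
    intro h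
    apply hzz'
    exact mul_left_cancel (mul_right_cancel h)
  have hpairy : Pair (cj y P) (cj y (cj s P)) (y * z * y⁻¹) (y * (s * z * s⁻¹) * y⁻¹) (cj y S₀) :=
    ⟨hGy, hG'y, hww'⟩
  have hcjT : cj y (normalizer (S₀ : Set S)) = normalizer (S₀ : Set S) :=
    mem_normalizer_iff_map_conj_eq.mp hyT
  have hS₀yT : cj y S₀ ≤ normalizer (S₀ : Set S) := by
    rw [← hcjT]; exact cj_mono hS₀T
  have hyinv : ∀ t ∈ normalizer (S₀ : Set S), y⁻¹ * t * y ∈ normalizer (S₀ : Set S) := by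
    intro t ht
    rw [← hcjT] at ht
    exact mem_cj.mp ht
  have hQy : cj y P ⊔ cj y (cj s P) = cj y (P ⊔ cj s P) := (cj_sup y P (cj s P)).symm
  have hQT : P ⊔ cj s P ≤ normalizer (S₀ : Set S) := hpair.Q_le.trans hS₀T
  have hQyT : cj y P ⊔ cj y (cj s P) ≤ normalizer (S₀ : Set S) := hpairy.Q_le.trans hS₀yT
  have hTQy : ∀ t ∈ normalizer (S₀ : Set S), ∀ q ∈ cj y P ⊔ cj y (cj s P),
      t * q * t⁻¹ ∈ cj y P ⊔ cj y (cj s P) := by
    intro t ht q hq
    rw [hQy] at hq ⊢
    rw [mem_cj] at hq ⊢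
    have h1 := hTQ _ (hyinv t ht) _ hq
    have e1 : y⁻¹ * (t * q * t⁻¹) * y = y⁻¹ * t * y * (y⁻¹ * q * y) * (y⁻¹ * t * y)⁻¹ := by group
    rw [e1]; exact h1
  have hS₀y_ne : cj y S₀ ≠ S₀ := fun h => hy (mem_normalizer_iff_map_conj_eq.mpr h)
  have hwz : y * z * y⁻¹ ≠ z := by
    intro h
    apply hS₀y_ne
    ext g
    rw [hGy.mem_S0, h, ← hG.mem_S0]
  have hw'z : y * (s * z * s⁻¹) * y⁻¹ ≠ z := by
    intro h
    apply hS₀y_ne
    ext g
    rw [hG'y.mem_S0, h, ← hG.mem_S0]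
  -- w w' = c
  have hww'c : (y * z * y⁻¹) * (y * (s * z * s⁻¹) * y⁻¹) = z * (s * z * s⁻¹) := by
    have e1 : (y * z * y⁻¹) * (y * (s * z * s⁻¹) * y⁻¹) = y * (z * (s * z * s⁻¹)) * y⁻¹ := by group
    rw [e1]
    have hconj : ∀ t ∈ normalizer (S₀ : Set S),
        t * (y * (z * (s * z * s⁻¹)) * y⁻¹) * t⁻¹ = y * (z * (s * z * s⁻¹)) * y⁻¹ := by
      intro t ht
      have h1 := hTc _ (hyinv t ht)
      calc t * (y * (z * (s * z * s⁻¹)) * y⁻¹) * t⁻¹
          = y * (y⁻¹ * t * y * (z * (s * z * s⁻¹)) * (y⁻¹ * t * y)⁻¹) * y⁻¹ := by group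
        _ = y * (z * (s * z * s⁻¹)) * y⁻¹ := by rw [h1]
    have hcent : ∀ q ∈ P ⊔ cj s P,
        (y * (z * (s * z * s⁻¹)) * y⁻¹) * q = q * (y * (z * (s * z * s⁻¹)) * y⁻¹) := by
      intro q hq
      have h1 := hconj q (hQT hq)
      calc (y * (z * (s * z * s⁻¹)) * y⁻¹) * q
          = (q * (y * (z * (s * z * s⁻¹)) * y⁻¹) * q⁻¹)⁻¹⁻¹ * q := by rw [h1]; group
        _ = q * (y * (z * (s * z * s⁻¹)) * y⁻¹) := by group
    have hmem := hpair.centralizer_le hS hr _ hcent
    have hs_fix := hconj s hsT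
    rcases hpair.center_Q hS hmem hcent with h1 | h1 | h1 | h1
    · exfalso
      have h2 : z * (s * z * s⁻¹) = 1 := by
        calc z * (s * z * s⁻¹) = y⁻¹ * (y * (z * (s * z * s⁻¹)) * y⁻¹) * y := by group
          _ = 1 := by rw [h1]; group
      apply hzz'
      calc z = z⁻¹ := hG.z_inv.symm
        _ = z⁻¹ * (z * (s * z * s⁻¹)) := by rw [h2, mul_one]
        _ = s * z * s⁻¹ := by group
    · exfalso
      rw [h1] at hs_fix
      exact hzz' hs_fix.symm
    · exfalso
      rw [h1, hsz'] at hs_fix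
      exact hzz' hs_fix
    · exact h1
  -- F2
  have hF2 : z ∈ cj y P ⊔ cj y (cj s P) → False := by
    intro hz
    obtain ⟨a, ha, b, hb, hzab⟩ := exists_mul_of_mem_sup (hpairy.comm hS) hz
    have hbT : b ∈ normalizer (S₀ : Set S) := hQyT (le_sup_right (a := cj y P) hb)
    have haT : a ∈ normalizer (S₀ : Set S) := hQyT (le_sup_left (a := cj y P) ha)
    have key1 : ∀ x ∈ cj y P, x * z * x⁻¹ = z := by
      intro x hx
      have hxT : x ∈ normalizer (S₀ : Set S) := hQyT (le_sup_left (a := cj y P) hx)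
      rcases hTz x hxT with ⟨h1, -⟩ | ⟨h1, -⟩
      · exact h1
      · exfalso
        have hxb := conj_eq_of_comm (hpairy.comm hS x hx b hb)
        have hcb := hTc b hbT
        -- x a x⁻¹ = a c
        have h2 : x * a * x⁻¹ * b = a * b * (z * (s * z * s⁻¹)) := by
          calc x * a * x⁻¹ * b = x * a * x⁻¹ * (x * b * x⁻¹) := by rw [hxb]
            _ = x * (a * b) * x⁻¹ := by group
            _ = x * z * x⁻¹ := by rw [← hzab]
            _ = s * z * s⁻¹ := h1
            _ = z * (z * (s * z * s⁻¹)) := hzc.symm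
            _ = a * b * (z * (s * z * s⁻¹)) := by rw [hzab]
        have hbc : b * (z * (s * z * s⁻¹)) = (z * (s * z * s⁻¹)) * b := by
          calc b * (z * (s * z * s⁻¹)) = (b * (z * (s * z * s⁻¹)) * b⁻¹) * b := by group
            _ = (z * (s * z * s⁻¹)) * b := by rw [hcb]
        have h3 : z * (s * z * s⁻¹) = a⁻¹ * (x * a * x⁻¹) := by
          calc z * (s * z * s⁻¹) = a⁻¹ * (a * ((z * (s * z * s⁻¹)) * b)) * b⁻¹ := by group
            _ = a⁻¹ * (a * (b * (z * (s * z * s⁻¹)))) * b⁻¹ := by rw [hbc]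
            _ = a⁻¹ * (a * b * (z * (s * z * s⁻¹))) * b⁻¹ := by group
            _ = a⁻¹ * (x * a * x⁻¹ * b) * b⁻¹ := by rw [h2]
            _ = a⁻¹ * (x * a * x⁻¹) := by group
        have hcP : z * (s * z * s⁻¹) ∈ cj y P := by
          rw [h3]
          exact mul_mem (inv_mem ha) (mul_mem (mul_mem hx ha) (inv_mem hx))
        have hw' : y * (s * z * s⁻¹) * y⁻¹ ∈ cj y P ⊓ cj y (cj s P) := by
          apply Subgroup.mem_inf.mpr
          refine ⟨?_, hG'y.z_mem⟩
          have e1 : y * (s * z * s⁻¹) * y⁻¹ =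
              (y * z * y⁻¹)⁻¹ * ((y * z * y⁻¹) * (y * (s * z * s⁻¹) * y⁻¹)) := by group
          rw [e1, hww'c]
          exact mul_mem (inv_mem hGy.z_mem) hcP
        rw [hpairy.disj hS, mem_bot] at hw'
        exact hG'y.z_ne hw'
    have key2 : ∀ x ∈ cj y (cj s P), x * z * x⁻¹ = z := by
      intro x hx
      have hxT : x ∈ normalizer (S₀ : Set S) := hQyT (le_sup_right (a := cj y P) hx)
      rcases hTz x hxT with ⟨h1, -⟩ | ⟨h1, -⟩
      · exact h1
      · exfalso
        have hxa := conj_eq_of_comm (hpairy.comm hS a ha x hx).symm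
        -- x b x⁻¹ = b c
        have h2 : a * (x * b * x⁻¹) = a * b * (z * (s * z * s⁻¹)) := by
          calc a * (x * b * x⁻¹) = (x * a * x⁻¹) * (x * b * x⁻¹) := by rw [hxa]
            _ = x * (a * b) * x⁻¹ := by group
            _ = x * z * x⁻¹ := by rw [← hzab]
            _ = s * z * s⁻¹ := h1
            _ = z * (z * (s * z * s⁻¹)) := hzc.symm
            _ = a * b * (z * (s * z * s⁻¹)) := by rw [hzab]
        have h3 : z * (s * z * s⁻¹) = b⁻¹ * (x * b * x⁻¹) := by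
          calc z * (s * z * s⁻¹) = b⁻¹ * a⁻¹ * (a * b * (z * (s * z * s⁻¹))) := by group
            _ = b⁻¹ * a⁻¹ * (a * (x * b * x⁻¹)) := by rw [h2]
            _ = b⁻¹ * (x * b * x⁻¹) := by group
        have hcP : z * (s * z * s⁻¹) ∈ cj y (cj s P) := by
          rw [h3]
          exact mul_mem (inv_mem hb) (mul_mem (mul_mem hx hb) (inv_mem hx))
        have hw : y * z * y⁻¹ ∈ cj y P ⊓ cj y (cj s P) := by
          apply Subgroup.mem_inf.mpr
          refine ⟨hGy.z_mem, ?_⟩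
          have e1 : y * z * y⁻¹ =
              ((y * z * y⁻¹) * (y * (s * z * s⁻¹) * y⁻¹)) * (y * (s * z * s⁻¹) * y⁻¹)⁻¹ := by group
          rw [e1, hww'c]
          exact mul_mem hcP (inv_mem hG'y.z_mem)
        rw [hpairy.disj hS, mem_bot] at hw
        exact hGy.z_ne hw
    have hcent : ∀ q ∈ cj y P ⊔ cj y (cj s P), z * q = q * z := by
      intro q hq
      obtain ⟨a', ha', b', hb', rfl⟩ := exists_mul_of_mem_sup (hpairy.comm hS) hq
      have h1 := key1 a' ha'
      have h2 := key2 b' hb'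
      have h3 : a' * b' * z * (a' * b')⁻¹ = z := by
        calc a' * b' * z * (a' * b')⁻¹ = a' * (b' * z * b'⁻¹) * a'⁻¹ := by group
          _ = z := by rw [h2, h1]
      calc z * (a' * b') = (a' * b' * z * (a' * b')⁻¹) * (a' * b') := by rw [h3]
        _ = a' * b' * z := by group
    rcases hpairy.center_Q hS hz hcent with h1 | h1 | h1 | h1
    · exact hG.z_ne h1
    · exact hwz h1.symm
    · exact hw'z h1.symm
    · rw [hww'c] at h1
      apply hz'ne
      calc s * z * s⁻¹ = z⁻¹ * (z * (s * z * s⁻¹)) := by group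
        _ = z⁻¹ * z := by rw [← h1]
        _ = 1 := by group
  have hF2' : s * z * s⁻¹ ∈ cj y P ⊔ cj y (cj s P) → False := by
    intro h
    apply hF2
    have h1 := hTQy s⁻¹ (inv_mem hsT) _ h
    have e1 : s⁻¹ * (s * z * s⁻¹) * s⁻¹⁻¹ = z := by group
    rwa [e1] at h1
  -- F3
  have hR : ∀ r, r ∈ P ⊔ cj s P → r ∈ cj y P ⊔ cj y (cj s P) → r ∈ Sq P ⊔ Sq (cj s P) := by
    intro r hrQ hrQy
    by_contra hrM
    obtain ⟨a, ha, b, hb, hrab⟩ := exists_mul_of_mem_sup (hpair.comm hS) hrQ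
    have hab := hpair.comm hS a ha b hb
    by_cases hac : ∀ x ∈ P, a * x = x * a
    · by_cases hbc : ∀ x ∈ cj s P, b * x = x * b
      · apply hrM
        have hz := le_sup_left (a := Sq P) (b := Sq (cj s P)) (hG.z_mem_Sq hS)
        have hz' := le_sup_right (a := Sq P) (b := Sq (cj s P)) (hG'.z_mem_Sq hS)
        rw [hrab]
        apply mul_mem
        · rcases hG.center a ha hac with h | h <;> rw [h]
          · exact one_mem _
          · exact hz
        · rcases hG'.center b hb hbc with h | h <;> rw [h]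
          · exact one_mem _
          · exact hz'
      · push Not at hbc
        obtain ⟨x, hx, hbx⟩ := hbc
        apply hF2'
        have hxT : x ∈ normalizer (S₀ : Set S) := hQT (le_sup_right (a := P) hx)
        have hxQ : x ∈ P ⊔ cj s P := le_sup_right (a := P) hx
        -- d = b x b⁻¹ x⁻¹
        have hd : r * x * r⁻¹ * x⁻¹ = b * x * b⁻¹ * x⁻¹ := by
          have h1 := hpair.comm hS a ha _ (mul_mem (mul_mem hb hx) (inv_mem hb))
          calc r * x * r⁻¹ * x⁻¹ = a * (b * x * b⁻¹) * a⁻¹ * x⁻¹ := by rw [hrab]; group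
            _ = (b * x * b⁻¹) * a * a⁻¹ * x⁻¹ := by rw [h1]
            _ = b * x * b⁻¹ * x⁻¹ := by group
        have hdne : r * x * r⁻¹ * x⁻¹ ≠ 1 := by
          rw [hd]
          intro h
          apply hbx
          calc b * x = (b * x * b⁻¹ * x⁻¹) * (x * b) := by group
            _ = x * b := by rw [h, one_mul]
        have hdmem : r * x * r⁻¹ * x⁻¹ ∈
            ((P ⊔ cj s P) ⊓ (cj y P ⊔ cj y (cj s P))) ⊓ cj s P := by
          apply Subgroup.mem_inf.mpr
          constructor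
          · apply Subgroup.mem_inf.mpr
            constructor
            · exact mul_mem (mul_mem (mul_mem hrQ hxQ) (inv_mem hrQ)) (inv_mem hxQ)
            · have e1 : r * x * r⁻¹ * x⁻¹ = r * (x * r⁻¹ * x⁻¹) := by group
              rw [e1]
              exact mul_mem hrQy (hTQy x hxT _ (inv_mem hrQy))
          · rw [hd]
            exact mul_mem (mul_mem (mul_mem hb hx) (inv_mem hb)) (inv_mem hx)
        have hz'D := hG'.z_mem_of_normal hS _ inf_le_right (by
            intro p hp d hd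
            have hpT : p ∈ normalizer (S₀ : Set S) := hQT (le_sup_right (a := P) hp)
            have hpQ : p ∈ P ⊔ cj s P := le_sup_right (a := P) hp
            obtain ⟨hd1, hd2⟩ := Subgroup.mem_inf.mp hd
            obtain ⟨hd3, hd4⟩ := Subgroup.mem_inf.mp hd1
            exact Subgroup.mem_inf.mpr ⟨Subgroup.mem_inf.mpr
              ⟨mul_mem (mul_mem hpQ hd3) (inv_mem hpQ), hTQy p hpT d hd4⟩,
              mul_mem (mul_mem hp hd2) (inv_mem hp)⟩)
          (by
            intro hbot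
            rw [hbot, mem_bot] at hdmem
            exact hdne hdmem)
        exact (Subgroup.mem_inf.mp (Subgroup.mem_inf.mp hz'D).1).2
    · push Not at hac
      obtain ⟨x, hx, hax⟩ := hac
      apply hF2
      have hxT : x ∈ normalizer (S₀ : Set S) := hQT (le_sup_left (a := P) hx)
      have hxQ : x ∈ P ⊔ cj s P := le_sup_left (a := P) hx
      have hd : r * x * r⁻¹ * x⁻¹ = a * x * a⁻¹ * x⁻¹ := by
        have h1 := hpair.comm hS x hx b hb
        calc r * x * r⁻¹ * x⁻¹ = a * (b * x) * b⁻¹ * a⁻¹ * x⁻¹ := by rw [hrab]; group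
          _ = a * (x * b) * b⁻¹ * a⁻¹ * x⁻¹ := by rw [h1]
          _ = a * x * a⁻¹ * x⁻¹ := by group
      have hdne : r * x * r⁻¹ * x⁻¹ ≠ 1 := by
        rw [hd]
        intro h
        apply hax
        calc a * x = (a * x * a⁻¹ * x⁻¹) * (x * a) := by group
          _ = x * a := by rw [h, one_mul]
      have hdmem : r * x * r⁻¹ * x⁻¹ ∈
          ((P ⊔ cj s P) ⊓ (cj y P ⊔ cj y (cj s P))) ⊓ P := by
        apply Subgroup.mem_inf.mpr
        constructor
        · apply Subgroup.mem_inf.mpr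
          constructor
          · exact mul_mem (mul_mem (mul_mem hrQ hxQ) (inv_mem hrQ)) (inv_mem hxQ)
          · have e1 : r * x * r⁻¹ * x⁻¹ = r * (x * r⁻¹ * x⁻¹) := by group
            rw [e1]
            exact mul_mem hrQy (hTQy x hxT _ (inv_mem hrQy))
        · rw [hd]
          exact mul_mem (mul_mem (mul_mem ha hx) (inv_mem ha)) (inv_mem hx)
      have hzD := hG.z_mem_of_normal hS _ inf_le_right (by
          intro p hp d hd
          have hpT : p ∈ normalizer (S₀ : Set S) := hQT (le_sup_left (a := P) hp)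
          have hpQ : p ∈ P ⊔ cj s P := le_sup_left (a := P) hp
          obtain ⟨hd1, hd2⟩ := Subgroup.mem_inf.mp hd
          obtain ⟨hd3, hd4⟩ := Subgroup.mem_inf.mp hd1
          exact Subgroup.mem_inf.mpr ⟨Subgroup.mem_inf.mpr
            ⟨mul_mem (mul_mem hpQ hd3) (inv_mem hpQ), hTQy p hpT d hd4⟩,
            mul_mem (mul_mem hp hd2) (inv_mem hp)⟩)
        (by
          intro hbot
          rw [hbot, mem_bot] at hdmem
          exact hdne hdmem)
      exact (Subgroup.mem_inf.mp (Subgroup.mem_inf.mp hzD).1).2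
  -- F4
  have hQyQ : ∀ v : S, v ∈ cj y P ⊔ cj y (cj s P) → v ∈ P ⊔ cj s P := by
    apply induction_sq hS
    · intro _; exact one_mem _
    · intro v ih hv
      have hvT : v ∈ normalizer (S₀ : Set S) := hQyT hv
      have hv2 := ih (mul_mem hv hv)
      apply no_ext hr _ _ (hpair.Q_section hS) (hpair.card_ineq hS) v
      · exact hTM v hvT
      · intro q hq
        apply hR
        · exact mul_mem (hTQ v hvT q hq) (inv_mem hq)
        · have e1 : v * q * v⁻¹ * q⁻¹ = v * (q * v⁻¹ * q⁻¹) := by group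
          rw [e1]
          exact mul_mem hv (hTQy q (hQT hq) _ (inv_mem hv))
      · exact hR _ hv2 (mul_mem hv hv)
  -- conclusion
  apply hF2
  have hle : cj y P ⊔ cj y (cj s P) ≤ P ⊔ cj s P := fun v hv => hQyQ v hv
  have heq : cj y P ⊔ cj y (cj s P) = P ⊔ cj s P := by
    apply Subgroup.eq_of_le_of_card_ge hle
    rw [hQy, card_cj]
  rw [heq]
  exact le_sup_left (a := P) hG.z_mem


theorem good_of_mem_normalizer {P : Subgroup S} {z : S} {S₀ : Subgroup S} (hG : Good P z S₀)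
    (g : S) (hg : g ∈ normalizer (S₀ : Set S)) : Good (cj g P) (g * z * g⁻¹) S₀ := by
  have hcj : cj g S₀ = S₀ := mem_normalizer_iff_map_conj_eq.mp hg
  have := hG.conj g
  rwa [hcj] at this

theorem conj_z_ne {P : Subgroup S} {z : S} {S₀ : Subgroup S} (hG : Good P z S₀) (g g' : S)
    (h : g⁻¹ * g' ∉ S₀) : g * z * g⁻¹ ≠ g' * z * g'⁻¹ := by
  intro h1
  apply h
  rw [hG.mem_S0]
  calc g⁻¹ * g' * z = g⁻¹ * (g' * z * g'⁻¹) * g' := by group
    _ = g⁻¹ * (g * z * g⁻¹) * g' := by rw [h1]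
    _ = z * (g⁻¹ * g') := by group

theorem z_ne_conj {P : Subgroup S} {z : S} {S₀ : Subgroup S} (hG : Good P z S₀) (g : S)
    (h : g ∉ S₀) : z ≠ g * z * g⁻¹ := by
  have := conj_z_ne hG 1 g (by simpa using h)
  simpa using this

/-- Let S be a 2-group of sectional rank at most 4, P a proper nonabelian subgroup whose centre has order 2, and S₀ the centralizer in S of the centre of P. If S₀ normalizes P, then either S₀ = S, or P has sectional rank at most 2 and S₀ has index 2 in S. -/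
theorem result {S : Type*} [Group S] [Finite S] (h2 : IsPGroup 2 S) (hr : Cfsg.SectionalPRankLE 2 4 S)
    (P : Subgroup S) (hPlt : P ≠ ⊤) (hP : ¬ IsMulCommutative ↥P) (hZP : Nat.card ↥(Subgroup.center ↥P) = 2)
    (S₀ : Subgroup S) (hS₀ : S₀ = Subgroup.centralizer (((Subgroup.center ↥P).map P.subtype : Subgroup S) : Set S))
    (hPn : ∀ s ∈ S₀, ∀ x ∈ P, s * x * s⁻¹ ∈ P) :
    S₀ = ⊤ ∨ (Cfsg.SectionalPRankLE 2 2 ↥P ∧ S₀.index = 2) := by
  classical
  have : Fact (Nat.Prime 2) := ⟨Nat.prime_two⟩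
  -- the central involution
  obtain ⟨zc, hzc1, hzcu⟩ := (Nat.card_eq_two_iff' (1 : ↥(Subgroup.center ↥P))).mp hZP
  have hzc_center : ∀ g : ↥P, g * (zc : ↥P) = (zc : ↥P) * g := fun g =>
    Subgroup.mem_center_iff.mp zc.2 g
  have hG : Good P (((zc : ↥P) : S)) S₀ := by
    refine ⟨(zc : ↥P).2, ?_, ?_, ?_, ?_, ?_, hPn⟩
    · intro h
      apply hzc1
      apply Subtype.ext
      apply Subtype.ext
      exact h
    · intro x hx
      exact congrArg Subtype.val (hzc_center ⟨x, hx⟩)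
    · intro x hx hc
      have hxc : (⟨x, hx⟩ : ↥P) ∈ Subgroup.center ↥P := by
        rw [Subgroup.mem_center_iff]
        intro g
        apply Subtype.ext
        exact (hc g g.2).symm
      by_cases h1 : (⟨⟨x, hx⟩, hxc⟩ : ↥(Subgroup.center ↥P)) = 1
      · left
        have := congrArg (fun c : ↥(Subgroup.center ↥P) => ((c : ↥P) : S)) h1
        exact this
      · right
        have := hzcu _ h1
        have := congrArg (fun c : ↥(Subgroup.center ↥P) => ((c : ↥P) : S)) this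
        exact this
    · by_contra hcon
      push Not at hcon
      apply hP
      refine ⟨⟨?_⟩⟩
      intro a b
      apply Subtype.ext
      exact hcon a a.2 b b.2
    · intro g
      rw [hS₀, Subgroup.mem_centralizer_iff]
      constructor
      · intro h
        have hz : ((zc : ↥P) : S) ∈ (((Subgroup.center ↥P).map P.subtype : Subgroup S) : Set S) :=
          ⟨(zc : ↥P), zc.2, rfl⟩
        exact (h _ hz).symm
      · rintro h _ ⟨c, hc, rfl⟩
        by_cases h1 : (⟨c, hc⟩ : ↥(Subgroup.center ↥P)) = 1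
        · have : c = 1 := congrArg Subtype.val h1
          rw [this]
          simp
        · have := hzcu _ h1
          have : c = (zc : ↥P) := congrArg Subtype.val this
          rw [this]
          exact h.symm
  by_cases htop : S₀ = ⊤
  · exact Or.inl htop
  right
  have hnil : Group.IsNilpotent S := h2.isNilpotent
  have hnc : NormalizerCondition S := Group.normalizerCondition_of_isNilpotent
  obtain ⟨s, hsT, hs⟩ := SetLike.exists_of_lt (hnc S₀ (lt_top_iff_ne_top.mpr htop))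
  have hpair : Pair P (cj s P) ((zc : ↥P) : S) (s * ((zc : ↥P) : S) * s⁻¹) S₀ :=
    ⟨hG, good_of_mem_normalizer hG s hsT, z_ne_conj hG s hs⟩
  have hD : ∀ g ∈ normalizer (S₀ : Set S), g ∉ S₀ → s⁻¹ * g ∈ S₀ := by
    intro g hgT hg
    by_contra hsg
    exact third h2 hr hpair ⟨hG, good_of_mem_normalizer hG g hgT, z_ne_conj hG g hg⟩
      ⟨good_of_mem_normalizer hG s hsT, good_of_mem_normalizer hG g hgT, conj_z_ne hG s g hsg⟩
  have hTtop : normalizer (S₀ : Set S) = ⊤ := by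
    by_contra hT
    obtain ⟨y, hyT, hy⟩ := SetLike.exists_of_lt (hnc _ (lt_top_iff_ne_top.mpr hT))
    exact stepF h2 hr hG s hsT hs hD y hyT hy
  refine ⟨sectionalPRankLE_subgroup_of_forall P (sect_rank h2 hr hpair s rfl), ?_⟩
  rw [Subgroup.index_eq_two_iff']
  refine ⟨s⁻¹, ?_⟩
  intro b
  by_cases hb : b ∈ S₀
  · right
    refine ⟨hb, ?_⟩
    intro h
    apply hs
    have h1 : s⁻¹ ∈ S₀ := by
      have := mul_mem h (inv_mem hb)
      simpa using this
    simpa using inv_mem h1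
  · left
    refine ⟨hD b ?_ hb, hb⟩
    rw [hTtop]
    trivial

end Cfsg.Agent.S4401
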