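import Mathlib
import Cfsg.Statements.S4405
import Cfsg.Agent.Lib.Helper1_Cores
import Cfsg.Agent.Lib.Helper1_Frattini

set_option autoImplicit false
open Cfsg

namespace Cfsg.Agent.S4405

open Subgroup Cfsg.Agent.Lib.Helper1_Cores Cfsg.Agent.Lib.Helper1_Frattini
open scoped commutatorElement

section StepA

variable {G : Type*} [Group G] [Finite G]

instance fact_prime_five : Fact (Nat.Prime 5) := ⟨by norm_num⟩

/-- An element of order 5 does not centralize `O₂(G)`. -/
theorem not_central_five (hG : Nat.card G = 320) (hHF : pCore 2 G = fittingSubgroup G)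
    (h32 : Nat.card ↥(pCore 2 G) = 32) (f : G) (hf : orderOf f = 5) :
    ∃ h ∈ pCore 2 G, f * h ≠ h * f := by
  by_contra hcon
  push Not at hcon
  obtain ⟨P, hP⟩ := (IsPGroup.of_card (p := 5) (n := 1)
    (by rw [Nat.card_zpowers, hf, pow_one] : Nat.card (zpowers f) = 5 ^ 1)).exists_le_sylow
  have hfP : f ∈ (P : Subgroup G) := hP (mem_zpowers f)
  -- |P| = 5
  have hPcard : Nat.card (P : Subgroup G) = 5 := by
    obtain ⟨n, hn⟩ := IsPGroup.iff_card.mp P.2
    have h1 : Nat.card (P : Subgroup G) ∣ 320 := hG ▸ Subgroup.card_subgroup_dvd_card _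
    have h2 : 5 ∣ Nat.card (P : Subgroup G) := by
      have h3 : Nat.card (zpowers f) ∣ Nat.card (P : Subgroup G) := card_dvd_of_le hP
      rwa [Nat.card_zpowers, hf] at h3
    rw [hn] at h1 h2 ⊢
    have hn1 : n ≠ 0 := by
      rintro rfl
      norm_num at h2
    have hn2 : n < 2 := by
      by_contra h
      push Not at h
      have : 5 ^ 2 ∣ 320 := (pow_dvd_pow 5 h).trans h1
      norm_num at this
    have : n = 1 := by omega
    subst this
    norm_num
  have hPeq : (P : Subgroup G) = zpowers f := by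
    symm
    apply Subgroup.eq_of_le_of_card_ge hP
    rw [hPcard, Nat.card_zpowers, hf]
  -- H ≤ N(P)
  have hHN : pCore 2 G ≤ normalizer ((P : Subgroup G) : Set G) := by
    intro h hh
    rw [hPeq]
    apply Subgroup.centralizer_le_normalizer
    rw [mem_centralizer_iff]
    intro x hx
    rw [SetLike.mem_coe, mem_zpowers_iff] at hx
    obtain ⟨k, rfl⟩ := hx
    have : Commute f h := hcon h hh
    exact (this.zpow_left k).eq
  have hPN : (P : Subgroup G) ≤ normalizer ((P : Subgroup G) : Set G) := le_normalizer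
  have hd1 : 32 ∣ Nat.card (normalizer ((P : Subgroup G) : Set G)) := by
    have := card_dvd_of_le hHN
    rwa [h32] at this
  have hd2 : 5 ∣ Nat.card (normalizer ((P : Subgroup G) : Set G)) := by
    have := card_dvd_of_le hPN
    rwa [hPcard] at this
  have hd3 : 160 ∣ Nat.card (normalizer ((P : Subgroup G) : Set G)) :=
    (Nat.Coprime.mul_dvd_of_dvd_of_dvd (by norm_num : Nat.Coprime 32 5) hd1 hd2)
  have hidx := (normalizer ((P : Subgroup G) : Set G)).index_mul_card
  rw [hG] at hidx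
  have hsyl := card_sylow_modEq_one 5 G
  rw [Sylow.card_eq_index_normalizer P] at hsyl
  obtain ⟨m, hm⟩ := hd3
  rw [hm] at hidx
  have hi : (normalizer ((P : Subgroup G) : Set G)).index = 1 := by
    have h2 : (normalizer ((P : Subgroup G) : Set G)).index * m = 2 := by nlinarith
    have h3 : (normalizer ((P : Subgroup G) : Set G)).index ∣ 2 := Dvd.intro _ h2
    have h4 : (normalizer ((P : Subgroup G) : Set G)).index ≤ 2 := Nat.le_of_dvd (by norm_num) h3
    unfold Nat.ModEq at hsyl
    interval_cases hh : (normalizer ((P : Subgroup G) : Set G)).index <;> simp_all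
  have hnorm : (P : Subgroup G).Normal := by
    rw [← normalizer_eq_top_iff]
    exact index_eq_one.mp hi
  have hle : (P : Subgroup G) ≤ pCore 2 G := by
    calc (P : Subgroup G) ≤ pCore 5 G := le_pCore hnorm P.2
      _ ≤ fittingSubgroup G := pCore_le_fittingSubgroup 5
      _ = pCore 2 G := hHF.symm
  have hf2 : f ∈ pCore 2 G := hle hfP
  have : Fact (Nat.Prime 2) := ⟨Nat.prime_two⟩
  obtain ⟨k, hk⟩ := (pCore_isPGroup (G := G) 2) ⟨f, hf2⟩
  have : orderOf f ∣ 2 ^ k := by
    apply orderOf_dvd_of_pow_eq_one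
    have := congrArg Subtype.val hk
    simpa using this
  rw [hf] at this
  have h5 : (5 : ℕ) ∣ 2 := (Nat.Prime.dvd_of_dvd_pow (by norm_num) this)
  norm_num at h5

/-- Fixed points of an element of order 5 acting by conjugation on a normal subgroup. -/
theorem card_fix_mod (H : Subgroup G) [hn : H.Normal] (f : G) (hf : f ^ 5 = 1) :
    Nat.card H ≡ Nat.card ↥(H ⊓ centralizer {f}) [MOD 5] := by
  classical
  have : Fintype H := Fintype.ofFinite H
  let φ : Function.End H := fun h => ⟨f * h * f⁻¹, hn.conj_mem _ h.2 f⟩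
  have hiter : ∀ (n : ℕ) (h : H), ((φ ^ n) h : G) = f ^ n * h * (f ^ n)⁻¹ := by
    intro n
    induction n with
    | zero =>
      intro h
      rw [pow_zero, pow_zero]
      change (h : G) = _
      group
    | succ n ih =>
      intro h
      rw [pow_succ']
      change f * ((φ ^ n) h : G) * f⁻¹ = _
      rw [ih, pow_succ']
      group
  have hφ : φ ^ 5 ^ 1 = 1 := by
    funext h
    apply Subtype.ext
    rw [pow_one, hiter, hf]
    change _ = (h : G)
    group
  have h1 := Equiv.Perm.card_fixedPoints_modEq (p := 5) (n := 1) hφ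
  rw [Nat.card_eq_fintype_card]
  refine h1.trans ?_
  have h2 : Fintype.card (Function.fixedPoints φ) = Nat.card ↥(H ⊓ centralizer {f}) := by
    rw [← Nat.card_eq_fintype_card]
    apply Nat.card_congr
    refine ⟨fun h => ⟨h.1.1, ⟨h.1.2, ?_⟩⟩, fun h => ⟨⟨h.1, h.2.1⟩, ?_⟩, ?_, ?_⟩
    · have := congrArg Subtype.val h.2
      change f * (h.1 : G) * f⁻¹ = h.1 at this
      refine mem_centralizer_singleton_iff.mpr ?_
      calc (h.1 : G) * f = (f * (h.1 : G) * f⁻¹) * f := by rw [this]
        _ = f * h.1 := by group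
    · have := mem_centralizer_singleton_iff.mp h.2.2
      apply Subtype.ext
      change f * h.1 * f⁻¹ = h.1
      rw [← this]
      group
    · intro h; rfl
    · intro h; rfl
  rw [h2]

/-- An element of order 5 fixes only `1` and `z` in `O₂(G)`. -/
theorem fixed_of_five (hG : Nat.card G = 320) (hHF : pCore 2 G = fittingSubgroup G)
    (h32 : Nat.card ↥(pCore 2 G) = 32) (z : G) (hzH : z ∈ pCore 2 G) (hz1 : z ≠ 1)
    (hzc : ∀ g : G, g * z = z * g) (f : G) (hf : orderOf f = 5) :
    ∀ h ∈ pCore 2 G, f * h = h * f → h = 1 ∨ h = z := by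
  have hf5 : f ^ 5 = 1 := by rw [← hf]; exact pow_orderOf_eq_one f
  have hmod := card_fix_mod (pCore 2 G) f hf5
  set D : Subgroup G := pCore 2 G ⊓ centralizer {f} with hD
  have hdvd : Nat.card D ∣ 32 := by
    rw [← h32]
    exact card_dvd_of_le inf_le_left
  rw [h32] at hmod
  have hle : Nat.card D ≤ 32 := Nat.le_of_dvd (by norm_num) hdvd
  have hcases : Nat.card D = 2 ∨ Nat.card D = 32 := by
    unfold Nat.ModEq at hmod
    interval_cases hh : Nat.card D <;> simp_all
  rcases hcases with h2 | h2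
  · have hzD : z ∈ D := ⟨hzH, mem_centralizer_singleton_iff.mpr (hzc f).symm⟩
    obtain ⟨y, -, hy⟩ := (Nat.card_eq_two_iff' (1 : D)).mp h2
    intro h hh hfh
    have hhD : h ∈ D := ⟨hh, mem_centralizer_singleton_iff.mpr hfh.symm⟩
    by_cases h1 : h = 1
    · exact Or.inl h1
    · right
      have e1 : (⟨h, hhD⟩ : D) = y := hy _ (fun hc => h1 (congrArg Subtype.val hc))
      have e2 : (⟨z, hzD⟩ : D) = y := hy _ (fun hc => hz1 (congrArg Subtype.val hc))
      exact congrArg Subtype.val (e1.trans e2.symm)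
  · exfalso
    obtain ⟨h, hh, hne⟩ := not_central_five hG hHF h32 f hf
    have hDH : D = pCore 2 G := by
      apply Subgroup.eq_of_le_of_card_ge inf_le_left
      rw [h2, h32]
    have : h ∈ D := hDH ▸ hh
    have h3 : h ∈ centralizer {f} := this.2
    exact hne (mem_centralizer_singleton_iff.mp h3).symm

end StepA

section Core

variable {G : Type*} [Group G] (N : Subgroup G) [N.Normal]

/-- Centralizer of `a` modulo `N`. -/
def Cz (a : G) : Subgroup G := (centralizer {(a : G ⧸ N)}).comap (QuotientGroup.mk' N)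

theorem mem_Cz {a b : G} : b ∈ Cz N a ↔ (b : G ⧸ N) * a = a * b := by
  unfold Cz
  rw [mem_comap, mem_centralizer_singleton_iff]
  rfl

theorem Cz_symm {a b : G} (h : b ∈ Cz N a) : a ∈ Cz N b := by
  rw [mem_Cz] at *; exact h.symm

theorem centralizer_le_Cz (a : G) : centralizer {a} ≤ Cz N a := by
  intro b hb
  rw [mem_centralizer_singleton_iff] at hb
  rw [mem_Cz, ← QuotientGroup.mk_mul, ← QuotientGroup.mk_mul, hb]

theorem conj_mem_Cz {a b : G} (g : G) (h : b ∈ Cz N a) :
    g * b * g⁻¹ ∈ Cz N (g * a * g⁻¹) := by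
  rw [mem_Cz] at *
  simp only [QuotientGroup.mk_mul, QuotientGroup.mk_inv]
  calc _ = (g : G ⧸ N) * ((b : G ⧸ N) * a) * (g : G ⧸ N)⁻¹ := by group
    _ = (g : G ⧸ N) * ((a : G ⧸ N) * b) * (g : G ⧸ N)⁻¹ := by rw [h]
    _ = _ := by group

variable (z : G) (hN : ∀ x, x ∈ N ↔ x = 1 ∨ x = z) (hzc : ∀ g : G, g * z = z * g)
  (hzz : z * z = 1)

include hN hzc hzz in
/-- An element of order dividing 5 commuting with `h` modulo `N` commutes with `h`. -/
theorem commute_of_mem_Cz_of_pow_five {f h : G} (hf : f ^ 5 = 1) (hfh : f ∈ Cz N h) :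
    f * h = h * f := by
  rw [mem_Cz, ← QuotientGroup.mk_mul, ← QuotientGroup.mk_mul, QuotientGroup.eq, hN] at hfh
  rcases hfh with h1 | h1
  · have : h * f = f * h := by
      calc h * f = (f * h) * ((f * h)⁻¹ * (h * f)) := by group
        _ = f * h := by rw [h1, mul_one]
    exact this.symm
  · have e : h * f = f * h * z := by
      calc h * f = (f * h) * ((f * h)⁻¹ * (h * f)) := by group
        _ = f * h * z := by rw [h1]
    have c2 : Commute (f * f) h := by
      unfold Commute SemiconjBy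
      calc f * f * h = f * (f * h) := by group
        _ = f * (f * h * z * z) := by rw [mul_assoc (f * h), hzz, mul_one]
        _ = f * (h * f * z) := by rw [e]
        _ = f * (h * (z * f)) := by rw [mul_assoc h, hzc f]
        _ = (f * h * z) * f := by group
        _ = h * f * f := by rw [← e]
        _ = h * (f * f) := by group
    have c3 : Commute ((f * f) ^ 3) h := c2.pow_left 3
    have : (f * f) ^ 3 = f := by
      calc (f * f) ^ 3 = f ^ 5 * f := by
            rw [← pow_two, ← pow_mul, ← pow_succ]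
        _ = f := by rw [hf, one_mul]
    rw [this] at c3
    exact c3.eq

end Core

section Step2

variable {G : Type*} [Group G] [Finite G]

/-- Some conjugate of `T` lies outside `H⟨T⟩`. -/
theorem exists_conj_notMem (H : Subgroup G) [hn : H.Normal] (hH2 : IsPGroup 2 H)
    (hmax : ∀ K : Subgroup G, K.Normal → IsPGroup 2 K → K ≤ H) (T : G) (hT : T * T = 1)
    (hTH : T ∉ H) : ∃ g : G, g * T * g⁻¹ ∉ H ⊔ zpowers T := by
  by_contra hcon
  push Not at hcon
  have hnc : normalClosure {T} ≤ H ⊔ zpowers T := by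
    unfold normalClosure
    rw [closure_le]
    intro x hx
    rw [Group.mem_conjugatesOfSet_iff] at hx
    obtain ⟨y, hy, hxy⟩ := hx
    rw [Set.mem_singleton_iff] at hy
    subst hy
    rw [isConj_iff] at hxy
    obtain ⟨c, rfl⟩ := hxy
    exact hcon c
  have hK2 : IsPGroup 2 ↥(H ⊔ zpowers T) := by
    have : Fact (Nat.Prime 2) := ⟨Nat.prime_two⟩
    obtain ⟨k, hk⟩ := IsPGroup.iff_card.mp hH2
    have h1 : Nat.card ↥(zpowers T ⊔ H) ∣ Nat.card (zpowers T) * Nat.card H := card_sup_dvd _ _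
    have h2 : Nat.card (zpowers T) ∣ 2 := by
      rw [Nat.card_zpowers]
      apply orderOf_dvd_of_pow_eq_one
      rw [pow_two, hT]
    have h3 : Nat.card ↥(H ⊔ zpowers T) ∣ 2 ^ (k + 1) := by
      rw [sup_comm]
      refine h1.trans ?_
      rw [hk, pow_succ, mul_comm]
      exact Nat.mul_dvd_mul_left _ h2
    obtain ⟨m, -, hm⟩ := (Nat.dvd_prime_pow Nat.prime_two).mp h3
    exact IsPGroup.of_card hm
  have hle : H ⊔ normalClosure {T} ≤ H ⊔ zpowers T := sup_le le_sup_left hnc
  have hK'2 : IsPGroup 2 ↥(H ⊔ normalClosure {T}) := hK2.to_le hle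
  have hK'n : (H ⊔ normalClosure {T}).Normal := inferInstance
  have := hmax _ hK'n hK'2
  apply hTH
  apply this
  apply (le_sup_right : normalClosure {T} ≤ H ⊔ normalClosure {T})
  exact subset_normalClosure (Set.mem_singleton T)

omit [Finite G] in
theorem relIndex_mul_card' {A B : Subgroup G} (h : A ≤ B) :
    A.relIndex B * Nat.card A = Nat.card B := by
  have := (A.subgroupOf B).index_mul_card
  rwa [Nat.card_congr (subgroupOfEquivOfLe h).toEquiv] at this

/-- The centralizer of `T` in `H` modulo `N` has order at most 8. -/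
theorem card_W_le (hG : Nat.card G = 320) (H : Subgroup G) [hn : H.Normal]
    (h32 : Nat.card H = 32) (hH2 : IsPGroup 2 H)
    (hmax : ∀ K : Subgroup G, K.Normal → IsPGroup 2 K → K ≤ H)
    (N : Subgroup G) [N.Normal] (z : G) (hz1 : z ≠ 1) (hN : ∀ x, x ∈ N ↔ x = 1 ∨ x = z)
    (hzc : ∀ g : G, g * z = z * g) (hzz : z * z = 1)
    (hab : ∀ h ∈ H, ∀ k ∈ H, k ∈ Cz N h)
    (hfix : ∀ f : G, orderOf f = 5 → ∀ h ∈ H, f * h = h * f → h = 1 ∨ h = z)
    (T : G) (hT : T * T = 1) (hTH : T ∉ H) : Nat.card ↥(H ⊓ Cz N T) ≤ 8 := by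
  obtain ⟨g, hg⟩ := exists_conj_notMem H hH2 hmax T hT hTH
  obtain ⟨f, hf⟩ := exists_prime_orderOf_dvd_card' (G := G) 5 (by rw [hG]; norm_num)
  have hf5 : f ^ 5 = 1 := by rw [← hf]; exact pow_orderOf_eq_one f
  set T' := g * T * g⁻¹ with hT'
  set W := H ⊓ Cz N T with hW
  set W' := H ⊓ Cz N T' with hW'
  -- |K| = 64
  have hK64 : Nat.card ↥(H ⊔ zpowers T) = 64 := by
    have h1 : Nat.card ↥(zpowers T ⊔ H) ∣ Nat.card (zpowers T) * Nat.card H := card_sup_dvd _ _
    have h2 : Nat.card (zpowers T) ∣ 2 := by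
      rw [Nat.card_zpowers]
      apply orderOf_dvd_of_pow_eq_one
      rw [pow_two, hT]
    have h3 : Nat.card ↥(H ⊔ zpowers T) ∣ 64 := by
      rw [sup_comm]
      refine h1.trans ?_
      rw [h32]
      exact Nat.mul_dvd_mul_right h2 32
    have h4 : 32 ∣ Nat.card ↥(H ⊔ zpowers T) := by
      rw [← h32]; exact card_dvd_of_le le_sup_left
    have h5 : Nat.card ↥(H ⊔ zpowers T) ≠ 32 := by
      intro h
      have : H = H ⊔ zpowers T := by
        apply Subgroup.eq_of_le_of_card_ge le_sup_left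
        rw [h, h32]
      apply hTH
      rw [this]
      exact (le_sup_right : zpowers T ≤ H ⊔ zpowers T) (mem_zpowers T)
    obtain ⟨m, hm⟩ := h4
    rw [hm] at h3 h5 ⊢
    have : m ∣ 2 := by
      have : 32 * m ∣ 32 * 2 := h3
      exact Nat.dvd_of_mul_dvd_mul_left (by norm_num) this
    have hm2 : m ≤ 2 := Nat.le_of_dvd (by norm_num) this
    interval_cases m <;> simp_all
  have hWW' : ∀ h ∈ W ⊓ W', h = 1 ∨ h = z := by
    rintro h ⟨⟨hH, hT1⟩, ⟨-, hT2⟩⟩
    have hHL : H ≤ Cz N h := fun k hk => hab h hH k hk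
    have hTL : T ∈ Cz N h := Cz_symm N hT1
    have hT'L : T' ∈ Cz N h := Cz_symm N hT2
    have hKL : H ⊔ zpowers T ≤ Cz N h := sup_le hHL ((zpowers_le).mpr hTL)
    have h1 : 64 ∣ Nat.card ↥(Cz N h) := by
      rw [← hK64]; exact card_dvd_of_le hKL
    have h2 : Nat.card ↥(Cz N h) ≠ 64 := by
      intro h64
      have : H ⊔ zpowers T = Cz N h := by
        apply Subgroup.eq_of_le_of_card_ge hKL
        rw [h64, hK64]
      apply hg
      rw [this]
      exact hT'L
    have h3 : Nat.card ↥(Cz N h) ∣ 320 := by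
      rw [← hG]; exact Subgroup.card_subgroup_dvd_card _
    have h4 : Nat.card ↥(Cz N h) = 320 := by
      obtain ⟨m, hm⟩ := h1
      rw [hm] at h3 h2 ⊢
      have : m ∣ 5 := by
        have : 64 * m ∣ 64 * 5 := h3
        exact Nat.dvd_of_mul_dvd_mul_left (by norm_num) this
      have hm2 : m ≤ 5 := Nat.le_of_dvd (by norm_num) this
      interval_cases m <;> simp_all
    have h5 : Cz N h = ⊤ := by
      apply Subgroup.card_eq_iff_eq_top _ |>.mp
      rw [h4, hG]
    have hfL : f ∈ Cz N h := h5 ▸ mem_top f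
    exact hfix f hf h hH (commute_of_mem_Cz_of_pow_five N z hN hzc hzz hf5 hfL)
  have hcard2 : Nat.card ↥(W ⊓ W') ≤ 2 := by
    have hsub : ((W ⊓ W' : Subgroup G) : Set G) ⊆ {1, z} := by
      intro x hx
      rcases hWW' x hx with h | h
      · left; exact h
      · right; exact h
    have h1 : Nat.card ↥(W ⊓ W') = ((W ⊓ W' : Subgroup G) : Set G).ncard :=
      Nat.card_coe_set_eq _
    rw [h1]
    calc ((W ⊓ W' : Subgroup G) : Set G).ncard ≤ ({1, z} : Set G).ncard :=
          Set.ncard_le_ncard hsub (Set.toFinite _)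
      _ = 2 := Set.ncard_pair hz1.symm
  have hmap : W.map (MulAut.conj g).toMonoidHom = W' := by
    ext x
    rw [mem_map]
    constructor
    · rintro ⟨y, ⟨hyH, hyT⟩, rfl⟩
      exact ⟨hn.conj_mem y hyH g, conj_mem_Cz N g hyT⟩
    · rintro ⟨hxH, hxT⟩
      refine ⟨g⁻¹ * x * g, ⟨?_, ?_⟩, ?_⟩
      · have := hn.conj_mem x hxH g⁻¹
        rwa [inv_inv] at this
      · have := conj_mem_Cz N g⁻¹ hxT
        rw [hT'] at this
        have e : g⁻¹ * (g * T * g⁻¹) * g⁻¹⁻¹ = T := by group
        rwa [e, inv_inv] at this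
      · simp only [MulEquiv.coe_toMonoidHom, MulAut.conj_apply]
        group
  have hcardeq : Nat.card W' = Nat.card W := by
    rw [← hmap]
    exact Subgroup.card_map_of_injective (MulAut.conj g).injective
  have hWH : W ≤ H := inf_le_left
  have hW'H : W' ≤ H := inf_le_left
  have e1 := relIndex_mul_card' hWH
  have e2 := relIndex_mul_card' hW'H
  have e3 := relIndex_mul_card' (le_trans inf_le_left hWH : W ⊓ W' ≤ H)
  have e4 := relIndex_inf_le (H := W) (K := W') (L := H)
  rw [h32] at e1 e2 e3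
  rw [hcardeq] at e2
  have hpos : 0 < Nat.card W := Nat.card_pos
  have hpos' : 0 < Nat.card ↥(W ⊓ W') := Nat.card_pos
  have hrel : W'.relIndex H = W.relIndex H := by
    apply Nat.eq_of_mul_eq_mul_right hpos
    rw [e1, e2]
  rw [hrel] at e4
  by_contra hcon
  push Not at hcon
  -- w ≥ 9, a * w = 32 so a ≤ 3, a*a ≤ 9 < 16 ≤ c
  have ha : W.relIndex H ≤ 3 := by
    by_contra h
    push Not at h
    nlinarith
  have hc : 16 ≤ (W ⊓ W').relIndex H := by
    by_contra h
    push Not at h
    nlinarith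
  nlinarith

end Step2

section Step4

variable {G : Type*} [Group G] [Finite G]

/-- quotient computation: the commutator `[h,T]` commutes with `T` modulo `N`. -/
theorem quot_aux {Q : Type*} [Group Q] (a t : Q) (htt : t * t = 1) (haa : a * a = 1)
    (hc : (t * a * t) * a = a * (t * a * t)) :
    (a⁻¹ * t * a * t) * t = t * (a⁻¹ * t * a * t) := by
  have ha' : a⁻¹ = a := inv_eq_of_mul_eq_one_left haa
  rw [ha']
  have e1 : a * t * a * t * t = a * t * a := by
    calc a * t * a * t * t = a * t * a * (t * t) := by simp only [mul_assoc]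
      _ = a * t * a := by rw [htt, mul_one]
  have e2 : t * (a * t * a * t) = a * t * a := by
    calc t * (a * t * a * t) = (t * a * t * a) * t := by simp only [mul_assoc]
      _ = a * (t * a * t) * t := by rw [hc]
      _ = a * t * a * (t * t) := by simp only [mul_assoc]
      _ = a * t * a := by rw [htt, mul_one]
  rw [e1, e2]

theorem card_CHT_le (hG : Nat.card G = 320) (H : Subgroup G) [hn : H.Normal]
    (h32 : Nat.card H = 32) (hH2 : IsPGroup 2 H)
    (hmax : ∀ K : Subgroup G, K.Normal → IsPGroup 2 K → K ≤ H)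
    (N : Subgroup G) [N.Normal] (z : G) (hz1 : z ≠ 1) (hzH : z ∈ H)
    (hN : ∀ x, x ∈ N ↔ x = 1 ∨ x = z)
    (hzc : ∀ g : G, g * z = z * g) (hzz : z * z = 1)
    (hab : ∀ h ∈ H, ∀ k ∈ H, k ∈ Cz N h) (hsq : ∀ h ∈ H, h * h ∈ N)
    (hfix : ∀ f : G, orderOf f = 5 → ∀ h ∈ H, f * h = h * f → h = 1 ∨ h = z)
    (hno8 : ∀ A : Subgroup G, A ≤ H → IsElementaryAbelian 2 A → Nat.card A ≤ 4)
    (T : G) (hT : T * T = 1) (hTH : T ∉ H) : Nat.card ↥(H ⊓ centralizer {T}) ≤ 4 := by
  classical
  by_contra hcon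
  push Not at hcon
  set C := H ⊓ centralizer {T} with hC
  set W := H ⊓ Cz N T with hW
  have hCW : C ≤ W := inf_le_inf_left _ (centralizer_le_Cz N T)
  have hW8 : Nat.card W ≤ 8 :=
    card_W_le hG H h32 hH2 hmax N z hz1 hN hzc hzz hab hfix T hT hTH
  have hCdvd : Nat.card C ∣ 32 := by
    rw [← h32]; exact card_dvd_of_le inf_le_left
  have hC8 : Nat.card C = 8 := by
    have h1 : Nat.card C ≤ 8 := (Nat.card_le_card_of_injective _ (inclusion_injective hCW)).trans hW8
    interval_cases hh : Nat.card C <;> simp_all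
  have hCeq : C = W := by
    apply Subgroup.eq_of_le_of_card_ge hCW
    rw [hC8]; exact hW8
  have hstar : ∀ h ∈ H, h ∈ Cz N T → h * T = T * h := by
    intro h hh hh2
    have : h ∈ C := hCeq ▸ (⟨hh, hh2⟩ : h ∈ W)
    exact mem_centralizer_singleton_iff.mp this.2
  have hTinv : T⁻¹ = T := inv_eq_of_mul_eq_one_left hT
  have hTQ : (T : G ⧸ N) * (T : G ⧸ N) = 1 := by
    rw [← QuotientGroup.mk_mul, hT]; rfl
  have hconjT : ∀ h ∈ H, T * h * T ∈ H := by
    intro h hh
    have := hn.conj_mem h hh T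
    rwa [hTinv] at this
  -- (C1)
  have hc1 : ∀ h ∈ H, h⁻¹ * T * h * T ∈ C ∧ (h⁻¹ * T * h * T) * (h⁻¹ * T * h * T) = 1 := by
    intro h hh
    have hk := hconjT h hh
    have hcH : h⁻¹ * T * h * T ∈ H := by
      have : h⁻¹ * T * h * T = h⁻¹ * (T * h * T) := by group
      rw [this]
      exact H.mul_mem (H.inv_mem hh) hk
    have hcz : h⁻¹ * T * h * T ∈ Cz N T := by
      rw [mem_Cz]
      simp only [QuotientGroup.mk_mul, QuotientGroup.mk_inv]
      apply quot_aux _ _ hTQ
      · rw [← QuotientGroup.mk_mul, (QuotientGroup.eq_one_iff _).mpr (hsq h hh)]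
      · have := (mem_Cz N).mp (hab h hh _ hk)
        simpa only [QuotientGroup.mk_mul] using this
    have hcomm := hstar _ hcH hcz
    refine ⟨⟨hcH, mem_centralizer_singleton_iff.mpr hcomm⟩, ?_⟩
    have e1 : T * (h⁻¹ * T * h * T) * T = (h⁻¹ * T * h * T)⁻¹ := by
      simp only [mul_inv_rev, inv_inv, hTinv]
      calc T * (h⁻¹ * T * h * T) * T = T * h⁻¹ * T * h * (T * T) := by group
        _ = T * (h⁻¹ * (T * h)) := by rw [hT]; group
    have e2 : T * (h⁻¹ * T * h * T) * T = h⁻¹ * T * h * T := by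
      rw [← hcomm, mul_assoc, hT, mul_one]
    rw [e1] at e2
    calc (h⁻¹ * T * h * T) * (h⁻¹ * T * h * T)
        = (h⁻¹ * T * h * T)⁻¹ * (h⁻¹ * T * h * T) := by rw [e2]
      _ = 1 := inv_mul_cancel _
  -- fibers of `h ↦ [h,T]`
  have hfib : ∀ a ∈ H, ∀ a0 ∈ H, a⁻¹ * T * a * T = a0⁻¹ * T * a0 * T → a * a0⁻¹ ∈ C := by
    intro a ha a0 ha0 h
    refine ⟨H.mul_mem ha (H.inv_mem ha0), mem_centralizer_singleton_iff.mpr ?_⟩
    have h1 : a⁻¹ * T * a = a0⁻¹ * T * a0 := mul_right_cancel h
    calc a * a0⁻¹ * T = a * (a0⁻¹ * T * a0) * a0⁻¹ := by group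
      _ = a * (a⁻¹ * T * a) * a0⁻¹ := by rw [h1]
      _ = T * (a * a0⁻¹) := by group
  have hfib' : ∀ a a0 : G, a * a0⁻¹ * T = T * (a * a0⁻¹) →
      a⁻¹ * T * a * T = a0⁻¹ * T * a0 * T := by
    intro a a0 h
    have : a⁻¹ * T * a = a0⁻¹ * T * a0 := by
      calc a⁻¹ * T * a = a⁻¹ * (T * (a * a0⁻¹)) * a0 := by group
        _ = a⁻¹ * (a * a0⁻¹ * T) * a0 := by rw [h]
        _ = a0⁻¹ * T * a0 := by group
    rw [this]
  have hdisj : ∀ h ∈ H, ∀ h' ∈ H, h⁻¹ * T * h * T ≠ h'⁻¹ * T * h' * T * z := by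
    intro h hh h' hh' heq
    have hq : ((h⁻¹ * T * h * T : G) : G ⧸ N) = ((h'⁻¹ * T * h' * T : G) : G ⧸ N) := by
      rw [heq, QuotientGroup.mk_mul _ _ z,
        (QuotientGroup.eq_one_iff z).mpr ((hN z).mpr (Or.inr rfl)), mul_one]
    have hmem : h * h'⁻¹ ∈ Cz N T := by
      rw [mem_Cz]
      simp only [QuotientGroup.mk_mul, QuotientGroup.mk_inv] at hq ⊢
      have h1 : (h : G ⧸ N)⁻¹ * T * h = (h' : G ⧸ N)⁻¹ * T * h' := mul_right_cancel hq
      calc (h : G ⧸ N) * (h' : G ⧸ N)⁻¹ * T
          = h * ((h' : G ⧸ N)⁻¹ * T * h') * (h' : G ⧸ N)⁻¹ := by group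
        _ = h * ((h : G ⧸ N)⁻¹ * T * h) * (h' : G ⧸ N)⁻¹ := by rw [h1]
        _ = T * (h * (h' : G ⧸ N)⁻¹) := by group
    have := hstar _ (H.mul_mem hh (H.inv_mem hh')) hmem
    have e := hfib' h h' this
    rw [e] at heq
    apply hz1
    have : (h'⁻¹ * T * h' * T) * 1 = (h'⁻¹ * T * h' * T) * z := by rw [mul_one]; exact heq
    exact (mul_left_cancel this).symm
  -- counting
  have : Fintype G := Fintype.ofFinite G
  have : Fintype H := Fintype.ofFinite H
  let f : H → G := fun h => (h : G)⁻¹ * T * h * T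
  let I : Finset G := Finset.univ.image f
  have hCfin : (C : Set G).toFinset.card = 8 := by
    rw [Set.toFinset_card, ← Nat.card_eq_fintype_card]; exact hC8
  have hI : 32 ≤ 8 * I.card := by
    have h1 := Finset.card_le_mul_card_image (Finset.univ : Finset H) 8 (f := f) ?_
    · rw [Finset.card_univ, ← Nat.card_eq_fintype_card, h32] at h1; exact h1
    · intro b hb
      obtain ⟨a0, -, rfl⟩ := Finset.mem_image.mp hb
      rw [← hCfin]
      apply Finset.card_le_card_of_injOn (fun a : H => (a : G) * (a0 : G)⁻¹)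
      · intro a ha
        rw [Finset.mem_coe, Finset.mem_filter] at ha
        rw [Finset.mem_coe, Set.mem_toFinset]
        exact hfib a a.2 a0 a0.2 ha.2
      · intro a _ a' _ h
        exact Subtype.ext (mul_right_cancel h)
  let Iz : Finset G := I.image (· * z)
  have hIz : Iz.card = I.card := Finset.card_image_of_injective _ (mul_left_injective z)
  have hdisjoint : Disjoint I Iz := by
    rw [Finset.disjoint_left]
    intro x hx hxz
    obtain ⟨h, -, rfl⟩ := Finset.mem_image.mp hx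
    obtain ⟨y, hy, hyx⟩ := Finset.mem_image.mp hxz
    obtain ⟨h', -, rfl⟩ := Finset.mem_image.mp hy
    exact hdisj h h.2 h' h'.2 hyx.symm
  have hzC : z ∈ C := ⟨hzH, mem_centralizer_singleton_iff.mpr (hzc T).symm⟩
  have hsub : I ∪ Iz ⊆ (C : Set G).toFinset := by
    intro x hx
    rw [Set.mem_toFinset]
    rcases Finset.mem_union.mp hx with hx | hx
    · obtain ⟨h, -, rfl⟩ := Finset.mem_image.mp hx
      exact (hc1 h h.2).1
    · obtain ⟨y, hy, rfl⟩ := Finset.mem_image.mp hx
      obtain ⟨h, -, rfl⟩ := Finset.mem_image.mp hy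
      exact C.mul_mem (hc1 h h.2).1 hzC
  have hcardU : (I ∪ Iz).card = 2 * I.card := by
    rw [Finset.card_union_of_disjoint hdisjoint, hIz]; ring
  have hUeq : I ∪ Iz = (C : Set G).toFinset := by
    apply Finset.eq_of_subset_of_card_le hsub
    rw [hCfin, hcardU]; omega
  have hexp : ∀ w ∈ C, w * w = 1 := by
    intro w hw
    have : w ∈ I ∪ Iz := by rw [hUeq, Set.mem_toFinset]; exact hw
    rcases Finset.mem_union.mp this with hx | hx
    · obtain ⟨h, -, rfl⟩ := Finset.mem_image.mp hx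
      exact (hc1 h h.2).2
    · obtain ⟨y, hy, rfl⟩ := Finset.mem_image.mp hx
      obtain ⟨h, -, rfl⟩ := Finset.mem_image.mp hy
      have := (hc1 h h.2).2
      calc f h * z * (f h * z) = f h * (z * f h) * z := by group
        _ = f h * (f h * z) * z := by rw [← hzc]
        _ = (f h * f h) * (z * z) := by group
        _ = 1 := by rw [this, hzz, mul_one]
  have hEA : IsElementaryAbelian 2 C := by
    refine ⟨⟨⟨fun a b => ?_⟩⟩, fun a ha => by rw [pow_two]; exact hexp a ha⟩
    apply Subtype.ext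
    have ha := hexp a a.2
    have hb := hexp b b.2
    have hab' := hexp _ (C.mul_mem a.2 b.2)
    change (a : G) * b = b * a
    calc (a : G) * b = ((a : G) * b)⁻¹ := (inv_eq_of_mul_eq_one_left hab').symm
      _ = (b : G)⁻¹ * (a : G)⁻¹ := mul_inv_rev _ _
      _ = b * a := by rw [inv_eq_of_mul_eq_one_left ha, inv_eq_of_mul_eq_one_left hb]
  have := hno8 C inf_le_left hEA
  omega

end Step4

theorem exists_gen {K : Type*} [Group K] (A : Subgroup K) (h : Nat.card A = 2) :
    ∃ z ∈ A, z ≠ 1 ∧ ∀ x ∈ A, x = 1 ∨ x = z := by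
  obtain ⟨y, hy1, hy⟩ := (Nat.card_eq_two_iff' (1 : A)).mp h
  refine ⟨y, y.2, fun hc => hy1 (Subtype.ext hc), ?_⟩
  intro x hx
  by_cases h1 : x = 1
  · exact Or.inl h1
  · right
    have := hy ⟨x, hx⟩ (fun hc => h1 (congrArg Subtype.val hc))
    exact congrArg Subtype.val this

/-- Let G be a finite group of order 320 = 64·5 whose largest normal 2-subgroup H = O₂(G) equals the Fitting subgroup F(G) and is extraspecial of order 32 containing no elementary abelian subgroup of order 8 (so H is the central product of a quaternion group and a dihedral group of order 8). If T is an involution of G outside H whose centralizer in H contains an elementary abelian subgroup of order 4, then C_H(T) itself is elementary abelian of order 4. -/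
theorem result {G : Type*} [Group G] [Finite G]
    (hG : Nat.card G = 320) (hHF : Cfsg.pCore 2 G = Cfsg.fittingSubgroup G)
    (hex : Cfsg.IsExtraspecial 2 ↥(Cfsg.pCore 2 G)) (h32 : Nat.card ↥(Cfsg.pCore 2 G) = 32)
    (hminus : ∀ A : Subgroup G, A ≤ Cfsg.pCore 2 G → Cfsg.IsElementaryAbelian 2 A → Nat.card ↥A ≤ 4)
    (T : G) (hT : orderOf T = 2) (hTH : T ∉ Cfsg.pCore 2 G)
    (V : Subgroup G) (hV : V ≤ Cfsg.pCore 2 G ⊓ Subgroup.centralizer ({T} : Set G)) (hV4 : Nat.card ↥V = 4) (hVe : Cfsg.IsElementaryAbelian 2 V) :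
    Nat.card ↥(Cfsg.pCore 2 G ⊓ Subgroup.centralizer ({T} : Set G)) = 4 ∧
      Cfsg.IsElementaryAbelian 2 (Cfsg.pCore 2 G ⊓ Subgroup.centralizer ({T} : Set G)) := by
  have : Fact (Nat.Prime 2) := ⟨Nat.prime_two⟩
  set H := pCore 2 G with hH
  have hHn : H.Normal := pCore_normal (G := G) 2
  have hH2 : IsPGroup 2 H := pCore_isPGroup (G := G) 2
  obtain ⟨⟨hP, hfr, hco⟩, hcard⟩ := hex
  obtain ⟨z', hz'c, hz'1, hz'all⟩ := exists_gen (center H) hcard
  have hzH : (z' : G) ∈ H := z'.2
  have hz1 : (z' : G) ≠ 1 := fun hc => hz'1 (Subtype.ext hc)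
  have hcenH : ∀ x ∈ H, (∀ k ∈ H, k * x = x * k) → x = 1 ∨ x = (z' : G) := by
    intro x hx hall
    have : (⟨x, hx⟩ : H) ∈ center H := by
      rw [mem_center_iff]
      intro k
      exact Subtype.ext (hall k k.2)
    rcases hz'all _ this with h | h
    · left; exact congrArg Subtype.val h
    · right; exact congrArg Subtype.val h
  have hzcH : ∀ k ∈ H, k * (z' : G) = z' * k := by
    intro k hk
    have := mem_center_iff.mp hz'c ⟨k, hk⟩
    exact congrArg Subtype.val this
  have hzc : ∀ g : G, g * (z' : G) = z' * g := by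
    intro g
    have h1 : g * z' * g⁻¹ ∈ H := hHn.conj_mem _ hzH g
    have h2 : ∀ k ∈ H, k * (g * z' * g⁻¹) = (g * z' * g⁻¹) * k := by
      intro k hk
      have h3 : g⁻¹ * k * g ∈ H := by
        have := hHn.conj_mem k hk g⁻¹
        rwa [inv_inv] at this
      have h4 := hzcH _ h3
      calc k * (g * z' * g⁻¹) = g * ((g⁻¹ * k * g) * z') * g⁻¹ := by group
        _ = g * (z' * (g⁻¹ * k * g)) * g⁻¹ := by rw [h4]
        _ = (g * z' * g⁻¹) * k := by group
    rcases hcenH _ h1 h2 with h | h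
    · exfalso
      apply hz1
      calc (z' : G) = g⁻¹ * (g * z' * g⁻¹) * g := by group
        _ = 1 := by rw [h]; group
    · calc g * z' = (g * z' * g⁻¹) * g := by group
        _ = z' * g := by rw [h]
  have hzz : (z' : G) * z' = 1 := by
    have h1 : z' * z' ∈ center H := (center H).mul_mem hz'c hz'c
    rcases hz'all _ h1 with h | h
    · exact congrArg Subtype.val h
    · exfalso; apply hz'1
      calc z' = z'⁻¹ * (z' * z') := by group
        _ = z'⁻¹ * z' := by rw [h]
        _ = 1 := inv_mul_cancel _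
  -- N
  set z : G := (z' : G) with hzdef
  have hNmem : ∀ x, x ∈ zpowers z ↔ x = 1 ∨ x = z := by
    intro x
    constructor
    · intro hx
      obtain ⟨k, rfl⟩ := mem_zpowers_iff.mp hx
      have hz2 : z ^ (2 : ℤ) = 1 := by rw [zpow_two]; exact hzz
      rcases Int.even_or_odd' k with ⟨m, hm | hm⟩
      · left
        rw [hm, zpow_mul, hz2, one_zpow]
      · right
        rw [hm, zpow_add, zpow_mul, hz2, one_zpow, one_mul, zpow_one]
    · rintro (rfl | rfl)
      · exact one_mem _
      · exact mem_zpowers _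
  have hNn : (zpowers z).Normal := by
    refine ⟨fun n hn g => ?_⟩
    rcases (hNmem n).mp hn with rfl | rfl
    · simp
    · rw [hzc g, mul_assoc, mul_inv_cancel, mul_one]
      exact mem_zpowers _
  have hab : ∀ h ∈ H, ∀ k ∈ H, k ∈ Cz (zpowers z) h := by
    intro h hh k hk
    rw [mem_Cz, ← QuotientGroup.mk_mul, ← QuotientGroup.mk_mul, QuotientGroup.eq, hNmem]
    have h1 : ⁅(⟨h, hh⟩ : H)⁻¹, (⟨k, hk⟩ : H)⁻¹⁆ ∈ commutator H := by
      rw [_root_.commutator_def]
      exact commutator_mem_commutator (mem_top _) (mem_top _)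
    rw [hco] at h1
    have e : (k * h)⁻¹ * (h * k) = ((⁅(⟨h, hh⟩ : H)⁻¹, (⟨k, hk⟩ : H)⁻¹⁆ : H) : G) := by
      rw [commutatorElement_def]
      simp only [Subgroup.coe_mul, Subgroup.coe_inv, inv_inv, mul_inv_rev]
      group
    rw [e]
    rcases hz'all _ h1 with h2 | h2
    · left; rw [h2]; rfl
    · right; rw [h2]
  have hsq : ∀ h ∈ H, h * h ∈ zpowers z := by
    intro h hh
    have h1 : (⟨h, hh⟩ : H) ^ 2 ∈ frattini H := pow_mem_frattini_of_isPGroup hP _
    rw [hfr] at h1
    rw [hNmem]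
    rcases hz'all _ h1 with h2 | h2
    · left
      have := congrArg Subtype.val h2
      simpa [pow_two] using this
    · right
      have := congrArg Subtype.val h2
      simpa [pow_two] using this
  have hfix := fixed_of_five hG hHF h32 z hzH hz1 hzc
  have hT2 : T * T = 1 := by
    rw [← pow_two, ← hT]; exact pow_orderOf_eq_one T
  have hle := card_CHT_le hG H h32 hH2 (fun K hK hK2 => le_pCore hK hK2) (zpowers z) z hz1 hzH
    hNmem hzc hzz hab hsq hfix hminus T hT2 hTH
  have hVeq : V = H ⊓ centralizer {T} := by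
    apply Subgroup.eq_of_le_of_card_ge hV
    rw [hV4]; exact hle
  rw [← hVeq]
  exact ⟨hV4, hVe⟩

end Cfsg.Agent.S4405
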