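import Cfsg.Statements.S4406

set_option autoImplicit false
open Cfsg

namespace Cfsg.Agent.S4406

open scoped Pointwise

abbrev A4 := ↥(alternatingGroup (Fin 4))

def inB (x y z : A4 × A4) : Prop := z = 1 ∨ z = x ∨ z = y ∨ z = x * y

instance instDecInB (x y z : A4 × A4) : Decidable (inB x y z) := by unfold inB; infer_instance

def normCond (x y g : A4 × A4) : Prop :=
  inB x y (g * x * g⁻¹) ∧ inB x y (g * y * g⁻¹) ∧ inB x y (g⁻¹ * x * g) ∧ inB x y (g⁻¹ * y * g)

instance instDecNormCond (x y g : A4 × A4) : Decidable (normCond x y g) := by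
  unfold normCond; infer_instance

def goodPair (x y : A4 × A4) : Prop :=
  x ^ 2 = 1 ∧ y ^ 2 = 1 ∧ x.1 ≠ 1 ∧ x.2 ≠ 1 ∧ y.1 ≠ 1 ∧ y.2 ≠ 1 ∧ (x * y).1 ≠ 1 ∧ (x * y).2 ≠ 1

instance instDecGoodPair (x y : A4 × A4) : Decidable (goodPair x y) := by
  unfold goodPair; infer_instance

def is3 (a : A4) : Prop := a ≠ 1 ∧ a ^ 3 = 1

instance instDecIs3 (a : A4) : Decidable (is3 a) := by unfold is3; infer_instance

def innerC (x y : A4 × A4) : Prop :=
  ∀ a : A4, is3 a → ∀ b : A4, is3 b → normCond x y (a, b) ∨ normCond x y (a, b⁻¹)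

instance instDecInnerC (x y : A4 × A4) : Decidable (innerC x y) := by unfold innerC; infer_instance

set_option maxRecDepth 1000000 in
theorem core : ∀ x : A4 × A4, x ^ 2 = 1 → ∀ y : A4 × A4, goodPair x y → innerC x y := by
  decide +kernel

set_option maxRecDepth 1000000 in
theorem sq_of_pow16 : ∀ z : A4 × A4, z ^ 16 = 1 → z ^ 2 = 1 := by decide +kernel

theorem card_A4 : Nat.card A4 = 12 := by
  rw [Nat.card_eq_fintype_card]; decide

/-- the standard 3-cycle -/
def c3 : A4 := ⟨Equiv.swap 0 1 * Equiv.swap 1 2, by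
  rw [Equiv.Perm.mem_alternatingGroup]; decide⟩

theorem c3_is3 : is3 c3 := by decide

/-- elements of a 2-subgroup square to one -/
lemma sq_eq_one_of_mem (X : Sylow 2 (A4 × A4)) (z : A4 × A4) (hz : z ∈ (X : Subgroup _)) :
    z ^ 2 = 1 := by
  apply sq_of_pow16
  obtain ⟨k, hk⟩ := X.isPGroup' ⟨z, hz⟩
  have hk' : z ^ 2 ^ k = 1 := by
    have := congrArg Subtype.val hk
    simpa using this
  have h1 : orderOf z ∣ 2 ^ k := orderOf_dvd_of_pow_eq_one hk'
  have h2 : orderOf z ∣ 16 * 9 := by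
    have : Nat.card (A4 × A4) = 16 * 9 := by rw [Nat.card_prod, card_A4]
    rw [← this]
    exact orderOf_dvd_natCard z
  have h3 : Nat.Coprime (orderOf z) 9 := by
    apply Nat.Coprime.coprime_dvd_left h1
    apply Nat.Coprime.pow_left
    decide
  have h4 : orderOf z ∣ 16 := Nat.Coprime.dvd_of_dvd_mul_right h3 h2
  exact orderOf_dvd_iff_pow_eq_one.1 h4

/-- existence of the two diagonal-type elements of order 3 in a Sylow 3-subgroup -/
lemma exists_ab (Q : Sylow 3 (A4 × A4)) :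
    ∃ a b : A4, is3 a ∧ is3 b ∧ ((a, b) : A4 × A4) ∈ (Q : Subgroup _) ∧
      ((a, b⁻¹) : A4 × A4) ∈ (Q : Subgroup _) := by
  have : Fact (Nat.Prime 3) := ⟨Nat.prime_three⟩
  -- the subgroup generated by (c,1) and (1,c)
  let Q0 : Subgroup (A4 × A4) := (Subgroup.zpowers c3).prod (Subgroup.zpowers c3)
  have hc3 : orderOf c3 = 3 := orderOf_eq_prime c3_is3.2 c3_is3.1
  have hQ0 : IsPGroup 3 Q0 := by
    apply IsPGroup.of_card (n := 2)
    have : Nat.card Q0 = Nat.card (Subgroup.zpowers c3) * Nat.card (Subgroup.zpowers c3) := by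
      rw [← Nat.card_prod]
      exact Nat.card_congr (Subgroup.prodEquiv _ _).toEquiv
    rw [this, Nat.card_zpowers, hc3]; norm_num
  obtain ⟨P0, hP0⟩ := hQ0.exists_le_sylow
  obtain ⟨g, hg⟩ := MulAction.exists_smul_eq (A4 × A4) P0 Q
  have hmem : ∀ u : A4 × A4, u ∈ Q0 → g * u * g⁻¹ ∈ (Q : Subgroup _) := by
    intro u hu
    rw [← hg, Sylow.coe_subgroup_smul]
    have := Subgroup.smul_mem_pointwise_smul u (MulAut.conj g) (P0 : Subgroup _) (hP0 hu)
    simpa [MulAut.smul_def, MulAut.conj_apply] using this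
  have h1 : ((c3, c3) : A4 × A4) ∈ Q0 :=
    Subgroup.mem_prod.2 ⟨Subgroup.mem_zpowers _, Subgroup.mem_zpowers _⟩
  have h2 : ((c3, c3⁻¹) : A4 × A4) ∈ Q0 :=
    Subgroup.mem_prod.2 ⟨Subgroup.mem_zpowers _, inv_mem (Subgroup.mem_zpowers _)⟩
  have hconj3 : ∀ t : A4, is3 (t * c3 * t⁻¹) := by
    intro t
    constructor
    · intro h
      apply c3_is3.1
      have := congrArg (fun s => t⁻¹ * s * t) h
      simpa [mul_assoc] using this
    · rw [conj_pow, c3_is3.2]; simp
  refine ⟨g.1 * c3 * g.1⁻¹, g.2 * c3 * g.2⁻¹, hconj3 _, hconj3 _, ?_, ?_⟩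
  · have := hmem _ h1
    exact this
  · have := hmem _ h2
    have e : (g.2 * c3 * g.2⁻¹)⁻¹ = g.2 * c3⁻¹ * g.2⁻¹ := by group
    rw [e]
    exact this

theorem result
    (X : Sylow 2 (↥(alternatingGroup (Fin 4)) × ↥(alternatingGroup (Fin 4))))
    (Q : Sylow 3 (↥(alternatingGroup (Fin 4)) × ↥(alternatingGroup (Fin 4))))
    (B : Subgroup (↥(alternatingGroup (Fin 4)) × ↥(alternatingGroup (Fin 4)))) (hBX : B ≤ (X : Subgroup _)) (hB4 : Nat.card ↥B = 4) :
    B ⊓ ((X : Subgroup _) ⊓ Subgroup.prod ⊤ ⊥) ≠ ⊥ ∨ B ⊓ ((X : Subgroup _) ⊓ Subgroup.prod ⊥ ⊤) ≠ ⊥ ∨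
      ∃ R : Subgroup (↥(alternatingGroup (Fin 4)) × ↥(alternatingGroup (Fin 4))), R ≤ (Q : Subgroup _) ∧ Nat.card ↥R = 3 ∧
        R ≠ (Q : Subgroup _) ⊓ Subgroup.prod ⊤ ⊥ ∧ R ≠ (Q : Subgroup _) ⊓ Subgroup.prod ⊥ ⊤ ∧ R ≤ Subgroup.normalizer (B : Set _) := by
  by_cases h1 : B ⊓ ((X : Subgroup _) ⊓ Subgroup.prod ⊤ ⊥) ≠ ⊥
  · exact Or.inl h1
  by_cases h2 : B ⊓ ((X : Subgroup _) ⊓ Subgroup.prod ⊥ ⊤) ≠ ⊥
  · exact Or.inr (Or.inl h2)
  right; right
  push Not at h1 h2
  -- elements of B with a trivial component are trivial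
  have hB1 : ∀ z ∈ B, z.2 = 1 → z = 1 := by
    intro z hz hz2
    have : z ∈ B ⊓ ((X : Subgroup _) ⊓ Subgroup.prod ⊤ ⊥) :=
      ⟨hz, hBX hz, Subgroup.mem_prod.2 ⟨Subgroup.mem_top _, Subgroup.mem_bot.2 hz2⟩⟩
    rw [h1] at this
    exact Subgroup.mem_bot.1 this
  have hB2 : ∀ z ∈ B, z.1 = 1 → z = 1 := by
    intro z hz hz1
    have : z ∈ B ⊓ ((X : Subgroup _) ⊓ Subgroup.prod ⊥ ⊤) :=
      ⟨hz, hBX hz, Subgroup.mem_prod.2 ⟨Subgroup.mem_bot.2 hz1, Subgroup.mem_top _⟩⟩
    rw [h2] at this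
    exact Subgroup.mem_bot.1 this
  have hsq : ∀ z ∈ B, z ^ 2 = 1 := fun z hz => sq_eq_one_of_mem X z (hBX hz)
  -- choose x, y
  have hBfin : (B : Set (A4 × A4)).Finite := Set.toFinite _
  have hBncard : (B : Set (A4 × A4)).ncard = 4 := by
    have h := Nat.card_coe_set_eq (B : Set (A4 × A4))
    rw [← h]; exact hB4
  obtain ⟨x, hxB, hx1⟩ : ∃ x ∈ B, x ≠ 1 := by
    by_contra hcon
    push Not at hcon
    have : (B : Set (A4 × A4)) ⊆ {1} := fun z hz => hcon z hz
    have := Set.ncard_le_ncard this (Set.finite_singleton _)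
    rw [hBncard, Set.ncard_singleton] at this
    omega
  obtain ⟨y, hyB, hy1, hyx⟩ : ∃ y ∈ B, y ≠ 1 ∧ y ≠ x := by
    by_contra hcon
    push Not at hcon
    have : (B : Set (A4 × A4)) ⊆ {1, x} := by
      intro z hz
      by_cases hz1 : z = 1
      · exact Or.inl hz1
      · exact Or.inr (hcon z hz hz1)
    have h3 := Set.ncard_le_ncard this (Set.toFinite _)
    have h4 : ({1, x} : Set (A4 × A4)).ncard ≤ 2 := by
      have := Set.ncard_insert_le (1 : A4 × A4) {x}
      rw [Set.ncard_singleton] at this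
      exact this
    rw [hBncard] at h3
    omega
  have hxx : x * x = 1 := by rw [← sq]; exact hsq x hxB
  have hyy : y * y = 1 := by rw [← sq]; exact hsq y hyB
  have hxy1 : x * y ≠ 1 := by
    intro h
    apply hyx
    have : x * y = x * x := by rw [h, hxx]
    exact mul_left_cancel this
  have hxyx : x * y ≠ x := by
    intro h
    apply hy1
    have : x * y = x * 1 := by rw [h, mul_one]
    exact mul_left_cancel this
  have hxyy : x * y ≠ y := by
    intro h
    apply hx1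
    have : x * y = 1 * y := by rw [h, one_mul]
    exact mul_right_cancel this
  have hxyB : x * y ∈ B := B.mul_mem hxB hyB
  -- B = {1, x, y, xy}
  have hBeq : ∀ z, z ∈ B ↔ inB x y z := by
    classical
    have hsub : ((({1, x, y, x * y} : Finset (A4 × A4)) : Set (A4 × A4))) ⊆ (B : Set (A4 × A4)) := by
      intro z hz
      simp only [Finset.coe_insert, Finset.coe_singleton, Set.mem_insert_iff,
        Set.mem_singleton_iff] at hz
      rcases hz with rfl | rfl | rfl | rfl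
      · exact B.one_mem
      · exact hxB
      · exact hyB
      · exact hxyB
    have hcard : ({1, x, y, x * y} : Finset (A4 × A4)).card = 4 := by
      rw [Finset.card_insert_of_notMem, Finset.card_insert_of_notMem,
        Finset.card_insert_of_notMem, Finset.card_singleton]
      · simp only [Finset.mem_singleton]; exact fun h => hxyy h.symm
      · simp only [Finset.mem_insert, Finset.mem_singleton, not_or]
        exact ⟨fun h => hyx h.symm, fun h => hxyx h.symm⟩
      · simp only [Finset.mem_insert, Finset.mem_singleton, not_or]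
        exact ⟨fun h => hx1 h.symm, fun h => hy1 h.symm, fun h => hxy1 h.symm⟩
    have heq := Set.eq_of_subset_of_ncard_le hsub (by
      rw [hBncard, Set.ncard_coe_finset, hcard]) hBfin
    intro z
    have : z ∈ (B : Set (A4 × A4)) ↔ z ∈ ((({1, x, y, x * y} : Finset (A4 × A4)) : Set (A4 × A4))) := by
      rw [heq]
    rw [SetLike.mem_coe] at this
    rw [this]
    simp only [Finset.coe_insert, Finset.coe_singleton, Set.mem_insert_iff,
        Set.mem_singleton_iff, inB]
  have hinB : ∀ z, inB x y z → z ∈ B := fun z hz => (hBeq z).2 hz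
  -- the good pair
  have hgood : goodPair x y := by
    refine ⟨hsq x hxB, hsq y hyB, ?_, ?_, ?_, ?_, ?_, ?_⟩
    · exact fun h => hx1 (hB2 x hxB h)
    · exact fun h => hx1 (hB1 x hxB h)
    · exact fun h => hy1 (hB2 y hyB h)
    · exact fun h => hy1 (hB1 y hyB h)
    · exact fun h => hxy1 (hB2 _ hxyB h)
    · exact fun h => hxy1 (hB1 _ hxyB h)
  obtain ⟨a, b, ha, hb, hab, hab'⟩ := exists_ab Q
  -- general construction of R
  have key : ∀ b' : A4, is3 b' → ((a, b') : A4 × A4) ∈ (Q : Subgroup _) → normCond x y (a, b') →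
      ∃ R : Subgroup (A4 × A4), R ≤ (Q : Subgroup _) ∧ Nat.card ↥R = 3 ∧
        R ≠ (Q : Subgroup _) ⊓ Subgroup.prod ⊤ ⊥ ∧ R ≠ (Q : Subgroup _) ⊓ Subgroup.prod ⊥ ⊤ ∧
        R ≤ Subgroup.normalizer (B : Set _) := by
    intro b' hb' hmem hn
    set g : A4 × A4 := (a, b') with hg
    have hgmem : g ∈ Subgroup.zpowers g := Subgroup.mem_zpowers g
    refine ⟨Subgroup.zpowers g, (Subgroup.zpowers_le).2 hmem, ?_, ?_, ?_, ?_⟩
    · rw [Nat.card_zpowers]
      have : Fact (Nat.Prime 3) := ⟨Nat.prime_three⟩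
      apply orderOf_eq_prime
      · rw [hg, Prod.pow_mk, ha.2, hb'.2]; rfl
      · intro h
        exact ha.1 (congrArg Prod.fst h)
    · intro h
      rw [h] at hgmem
      have := (Subgroup.mem_prod.1 hgmem.2).2
      exact hb'.1 (Subgroup.mem_bot.1 this)
    · intro h
      rw [h] at hgmem
      have := (Subgroup.mem_prod.1 hgmem.2).1
      exact ha.1 (Subgroup.mem_bot.1 this)
    · rw [Subgroup.zpowers_le]
      obtain ⟨n1, n2, n3, n4⟩ := hn
      have hc1 : ∀ h ∈ B, g * h * g⁻¹ ∈ B := by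
        intro h hh
        rcases (hBeq h).1 hh with rfl | rfl | rfl | rfl
        · simp [B.one_mem]
        · exact hinB _ n1
        · exact hinB _ n2
        · have : g * (x * y) * g⁻¹ = (g * x * g⁻¹) * (g * y * g⁻¹) := by group
          rw [this]
          exact B.mul_mem (hinB _ n1) (hinB _ n2)
      have hc2 : ∀ h ∈ B, g⁻¹ * h * g ∈ B := by
        intro h hh
        rcases (hBeq h).1 hh with rfl | rfl | rfl | rfl
        · simp [B.one_mem]
        · exact hinB _ n3
        · exact hinB _ n4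
        · have : g⁻¹ * (x * y) * g = (g⁻¹ * x * g) * (g⁻¹ * y * g) := by group
          rw [this]
          exact B.mul_mem (hinB _ n3) (hinB _ n4)
      rw [Subgroup.mem_normalizer_iff]
      intro h
      constructor
      · exact hc1 h
      · intro hh
        have := hc2 _ hh
        have e : g⁻¹ * (g * h * g⁻¹) * g = h := by group
        rwa [e] at this
  have hb_inv : is3 b⁻¹ := by
    refine ⟨fun h => hb.1 (inv_eq_one.1 h), ?_⟩
    rw [inv_pow, hb.2, inv_one]
  rcases core x (hsq x hxB) y hgood a ha b hb with hn | hn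
  · exact key b hb hab hn
  · exact key b⁻¹ hb_inv hab' hn

end Cfsg.Agent.S4406
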