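import Cfsg.Statements.S4407
import Mathlib
import Cfsg.Agent.Lib.Helper70_NineDihedral

set_option autoImplicit false
set_option linter.unusedSimpArgs false
open Cfsg

namespace Cfsg.Agent.S4407

open Cfsg.Agent.Lib.Helper70_NineDihedral

/-- Let S be a finite group with a normal elementary abelian subgroup A of order 9 that is self-centralizing (C_S(A) = A), and a dihedral subgroup X of order 8 with S = AX. Let M be a finite-dimensional module for S over the field with two elements that is faithful and irreducible. Then M has 16 elements, and X contains exactly one subgroup B of order 4 and exponent 2 whose fixed points on M form a subspace with exactly 2 elements (equivalently, M is free of rank one over the group algebra of B). -/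
theorem result {S : Type*} [Group S] [Finite S]
    (A : Subgroup S) [A.Normal] (hA : Cfsg.IsElementaryAbelian 3 A) (hA9 : Nat.card ↥A = 9)
    (hAC : Subgroup.centralizer (A : Set S) = A) (X : Subgroup S) (hX : Nonempty (↥X ≃* DihedralGroup 4)) (hAX : A ⊔ X = ⊤)
    {M : Type*} [AddCommGroup M] [Module (ZMod 2) M] [Finite M] (ρ : Representation (ZMod 2) S M)
    (hfaith : Function.Injective ρ)
    (hirr : ∀ N : Submodule (ZMod 2) M, (∀ s : S, ∀ m ∈ N, ρ s m ∈ N) → N = ⊥ ∨ N = ⊤) (hM : Nontrivial M) :
    Nat.card M = 16 ∧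
      ∃! B : Subgroup S, B ≤ X ∧ Nat.card ↥B = 4 ∧ (∀ b ∈ B, b ^ 2 = 1) ∧
        Nat.card {m : M // ∀ b ∈ B, ρ b m = m} = 2 := by
  classical
  obtain ⟨hAcomm, hAexp⟩ := hA
  have hcomm : ∀ a ∈ A, ∀ b ∈ A, a * b = b * a := by
    intro a ha b hb
    have := hAcomm.is_comm.comm (⟨a, ha⟩ : A) ⟨b, hb⟩
    exact congrArg Subtype.val this
  obtain ⟨e⟩ := hX
  have hX8card : Nat.card X = 8 := by
    rw [Nat.card_congr e.toEquiv, DihedralGroup.nat_card]
  have hAXbot : A ⊓ X = ⊥ :=
    (Subgroup.disjoint_of_coprime_natCard (by rw [hA9, hX8card]; norm_num)).eq_bot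
  have hfaithX : ∀ x ∈ X, (∀ a ∈ A, x * a * x⁻¹ = a) → x = 1 := by
    intro x hx hcen
    have hxC : x ∈ Subgroup.centralizer (A : Set S) := by
      rw [Subgroup.mem_centralizer_iff]
      intro a ha
      have := hcen a ha
      rw [mul_inv_eq_iff_eq_mul] at this
      exact this.symm
    rw [hAC] at hxC
    have hmem : x ∈ A ⊓ X := ⟨hxC, hx⟩
    rw [hAXbot] at hmem
    exact hmem
  obtain ⟨r, s, hrX, hsX, hr4, hss, hsr, hz1, hX8⟩ := dihedral_elements X ⟨e⟩
  obtain ⟨a1, ha1A, ha1ne, hND, hgenA⟩ :=
    exists_config A hcomm hAexp hA9 X r s hrX hsX hr4 hss hsr hz1 hfaithX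
  set a2 := r * a1 * r⁻¹ with ha2
  -- generation
  have hgen : Subgroup.closure {a1, a2, r, s} = ⊤ := by
    rw [eq_top_iff, ← hAX]
    apply sup_le
    · refine hgenA.trans (Subgroup.closure_mono ?_)
      intro x hx
      rcases hx with rfl | rfl <;> simp
    · intro x hx
      have hr : r ∈ Subgroup.closure {a1, a2, r, s} := Subgroup.subset_closure (by simp)
      have hs : s ∈ Subgroup.closure {a1, a2, r, s} := Subgroup.subset_closure (by simp)
      rcases hX8 x hx with h | h | h | h | h | h | h | h <;> rw [h]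
      · exact Subgroup.one_mem _
      · exact hr
      · exact Subgroup.mul_mem _ hr hr
      · exact Subgroup.mul_mem _ hr (Subgroup.mul_mem _ hr hr)
      · exact hs
      · exact Subgroup.mul_mem _ hr hs
      · exact Subgroup.mul_mem _ (Subgroup.mul_mem _ hr hr) hs
      · exact Subgroup.mul_mem _ (Subgroup.mul_mem _ hr hr) (Subgroup.mul_mem _ hr hs)
  -- the fixed points of A on M are trivial
  have hCMA : ∀ m, (∀ a ∈ A, ρ a m = m) → m = 0 := by
    let N : Submodule (ZMod 2) M :=
      { carrier := {m | ∀ a ∈ A, ρ a m = m}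
        add_mem' := by
          intro x y hx hy a ha
          rw [map_add, hx a ha, hy a ha]
        zero_mem' := by
          intro a _
          exact map_zero _
        smul_mem' := by
          intro c x hx a ha
          rw [map_smul, hx a ha] }
    have hN : ∀ g : S, ∀ m ∈ N, ρ g m ∈ N := by
      intro g m hm a ha
      have hconj : g⁻¹ * a * g ∈ A := by
        have := Subgroup.Normal.conj_mem (inferInstance : A.Normal) a ha g⁻¹
        rwa [inv_inv] at this
      have e1 : a * g = g * (g⁻¹ * a * g) := by group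
      rw [rho_rel ρ e1, hm _ hconj]
    rcases hirr N hN with h | h
    · intro m hm
      have hmN : m ∈ N := hm
      rw [h] at hmN
      exact (Submodule.mem_bot _).1 hmN
    · exfalso
      apply ha1ne
      apply hfaith
      ext m
      have hmN : m ∈ N := by rw [h]; trivial
      rw [hmN a1 ha1A, map_one]
      rfl
  have hC0 : ∀ m, ρ a1 m = m → ρ a2 m = m → m = 0 := by
    intro m h1 h2
    apply hCMA
    have haux : ∀ a ∈ Subgroup.closure {a1, a2}, ρ a m = m := by
      intro a ha
      induction ha using Subgroup.closure_induction with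
      | mem x hx =>
        rcases hx with rfl | rfl
        · exact h1
        · exact h2
      | one => simp
      | mul x y _ _ hx hy => rw [rho_mul, hy, hx]
      | inv x _ hx => exact rho_inv_of_fix ρ hx
    intro a ha
    exact haux a (hgenA ha)
  obtain ⟨hcard, hfix⟩ := main_both ρ hND hgen hirr hC0
  refine ⟨hcard, ?_⟩
  -- the two four-groups
  have hzz : (r * r) * (r * r) = 1 := by rw [mul_assoc]; exact hr4
  have hsz : s * (r * r) = (r * r) * s := by
    simp only [mul_assoc, hND.hss, hND.hsr, hND.hr4, hND.hss', hND.hsr', hND.hr4', mul_one]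
  have hrsz : (r * s) * (r * r) = (r * r) * (r * s) := by
    simp only [mul_assoc, hND.hss, hND.hsr, hND.hr4, hND.hss', hND.hsr', hND.hr4', mul_one]
  have hrsrs : (r * s) * (r * s) = 1 := by
    simp only [mul_assoc, hND.hss, hND.hsr, hND.hr4, hND.hss', hND.hsr', hND.hr4', mul_one]
  have hs1 : s ≠ 1 := by
    intro h
    apply hz1
    rw [h, one_mul, mul_one] at hsr
    have : r * 1 = r * (r * r) := by rw [mul_one]; exact hsr
    exact (mul_left_cancel this).symm
  have hsz' : s ≠ r * r := by
    intro h
    apply hz1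
    rw [h, hr4, mul_one] at hsr
    have : r * r * r = 1 * r := by rw [one_mul]; exact hsr
    exact mul_right_cancel this
  have hrs1 : r * s ≠ 1 := by
    intro h
    apply hz1
    have h1 : r⁻¹ = s := inv_eq_of_mul_eq_one_right h
    have h2 : (r * r)⁻¹ = 1 := by rw [mul_inv_rev, h1, hss]
    exact inv_eq_one.1 h2
  have hrsz' : r * s ≠ r * r := by
    intro h
    apply hz1
    have h1 : s = r := mul_left_cancel h
    rw [← h1]; exact hss
  obtain ⟨B1, hB1set, hB1card, hB1exp⟩ := four_group_exists (r * r) s hzz hss hsz hz1 hs1 hsz'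
  obtain ⟨B2, hB2set, hB2card, hB2exp⟩ :=
    four_group_exists (r * r) (r * s) hzz hrsrs hrsz hz1 hrs1 hrsz'
  have hzX : r * r ∈ X := X.mul_mem hrX hrX
  have hB1X : B1 ≤ X := by
    intro b hb
    have hb' : b ∈ (B1 : Set S) := hb
    rw [hB1set] at hb'
    simp only [Set.mem_insert_iff, Set.mem_singleton_iff] at hb'
    rcases hb' with rfl | rfl | rfl | rfl
    · exact X.one_mem
    · exact hzX
    · exact hsX
    · exact X.mul_mem hzX hsX
  have hB2X : B2 ≤ X := by
    intro b hb
    have hb' : b ∈ (B2 : Set S) := hb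
    rw [hB2set] at hb'
    simp only [Set.mem_insert_iff, Set.mem_singleton_iff] at hb'
    rcases hb' with rfl | rfl | rfl | rfl
    · exact X.one_mem
    · exact hzX
    · exact X.mul_mem hrX hsX
    · exact X.mul_mem hzX (X.mul_mem hrX hsX)
  have fixcard : ∀ (B : Subgroup S) (t : S), (B : Set S) = {1, r * r, t, (r * r) * t} →
      Nat.card {m : M // ∀ b ∈ B, ρ b m = m} =
        Nat.card {m : M // ρ (r * r) m = m ∧ ρ t m = m} := by
    intro B t hB
    apply Nat.card_congr
    apply Equiv.subtypeEquivRight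
    intro m
    have hmem : ∀ b, b ∈ B ↔ b = 1 ∨ b = r * r ∨ b = t ∨ b = (r * r) * t := by
      intro b
      have : b ∈ B ↔ b ∈ (B : Set S) := Iff.rfl
      rw [this, hB]
      simp only [Set.mem_insert_iff, Set.mem_singleton_iff]
    constructor
    · intro h
      exact ⟨h _ ((hmem _).2 (Or.inr (Or.inl rfl))), h _ ((hmem _).2 (Or.inr (Or.inr (Or.inl rfl))))⟩
    · rintro ⟨h1, h2⟩ b hb
      rcases (hmem b).1 hb with rfl | rfl | rfl | rfl
      · simp
      · exact h1
      · exact h2
      · rw [rho_mul, h2, h1]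
  have classify := four_subgroups_classify X r s hr4 hss hsr hz1 hX8
  rcases hfix with ⟨h2, h4⟩ | ⟨h4, h2⟩
  · refine ⟨B2, ⟨hB2X, hB2card, hB2exp, ?_⟩, ?_⟩
    · rw [fixcard B2 (r * s) hB2set]; exact h2
    · rintro B' ⟨hB'X, hB'4, hB'2, hB'fix⟩
      rcases classify B' hB'X hB'4 hB'2 with h | h
      · exfalso
        rw [fixcard B' s h, h4] at hB'fix
        norm_num at hB'fix
      · exact SetLike.coe_injective (h.trans hB2set.symm)
  · refine ⟨B1, ⟨hB1X, hB1card, hB1exp, ?_⟩, ?_⟩
    · rw [fixcard B1 s hB1set]; exact h2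
    · rintro B' ⟨hB'X, hB'4, hB'2, hB'fix⟩
      rcases classify B' hB'X hB'4 hB'2 with h | h
      · exact SetLike.coe_injective (h.trans hB1set.symm)
      · exfalso
        rw [fixcard B' (r * s) h, h4] at hB'fix
        norm_num at hB'fix

end Cfsg.Agent.S4407
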