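import Cfsg.Statements.S4410
import Cfsg.Agent.Lib.Helper21_HHAbs2
import Cfsg.Agent.Lib.Helper10_QuadPair
import Cfsg.Agent.Lib.Helper76_PSolvable
import Cfsg.Agent.Lib.Lead_PSolvable

set_option autoImplicit false
open Cfsg

namespace Cfsg.Agent.S4410

open Cfsg.Agent.Lib.Helper21_HHAbs Cfsg.Agent.Lib.Helper21_HHAbs2

section
variable {V : Type*} [AddCommGroup V] [Module (ZMod 2) V]

/-- the action of a linear group on the multiplicative version of the space -/
def act (S : Subgroup (V ≃ₗ[ZMod 2] V)) : ↥S →* MulAut (Multiplicative V) where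
  toFun g := AddEquiv.toMultiplicative ((g : V ≃ₗ[ZMod 2] V).toAddEquiv)
  map_one' := by
    ext x
    rfl
  map_mul' := by
    intro g h
    ext x
    rfl

theorem act_apply (S : Subgroup (V ≃ₗ[ZMod 2] V)) (g : ↥S) (v : V) :
    act S g (Multiplicative.ofAdd v) = Multiplicative.ofAdd ((g : V ≃ₗ[ZMod 2] V) v) := rfl

end

/-- Let V be a finite-dimensional vector space over the field with two elements and S a solvable group of linear automorphisms of V with O₂(S) = 1. If P ∈ S has order 4 and (P − 1)³ = 0 on V, then the image of (P − 1)² has at least 4 elements; equivalently, in the decomposition of V into indecomposable modules for the cyclic group generated by P, at least two summands have dimension 3. -/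
theorem result
    {V : Type*} [AddCommGroup V] [Module (ZMod 2) V] [Finite V]
    (S : Subgroup (V ≃ₗ[ZMod 2] V)) (hS : Group.IsSolvable ↥S) (hO2 : Cfsg.pCore 2 ↥S = ⊥)
    (P : V ≃ₗ[ZMod 2] V) (hPS : P ∈ S) (hP4 : orderOf P = 4)
    (hcub : ((P : V →ₗ[ZMod 2] V) - LinearMap.id) ^ 3 = 0) :
    4 ≤ Nat.card ↥(LinearMap.range (((P : V →ₗ[ZMod 2] V) - LinearMap.id) ^ 2)) := by
  classical
  by_contra hlt
  rw [not_le] at hlt
  haveI : Fact (Nat.Prime 2) := ⟨Nat.prime_two⟩
  haveI : Finite (V ≃ₗ[ZMod 2] V) :=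
    Finite.of_injective (fun f => (f : V → V)) DFunLike.coe_injective
  obtain ⟨L, hL⟩ : ∃ L : V →ₗ[ZMod 2] V, L = ((P : V →ₗ[ZMod 2] V) - LinearMap.id) ^ 2 :=
    ⟨_, rfl⟩
  rw [← hL] at hlt
  have hLv : ∀ v, L v = P (P v) + v := by
    intro v
    rw [hL, pow_two]
    simp only [Module.End.mul_apply, LinearMap.sub_apply, LinearMap.id_apply,
      LinearEquiv.coe_coe, map_sub]
    have h2 : P v + P v = 0 := ZModModule.add_self _
    calc P (P v) - P v - (P v - v) = P (P v) + v - (P v + P v) := by abel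
      _ = P (P v) + v := by rw [h2, sub_zero]
  have hP4' : P ^ 4 = 1 := by rw [← hP4]; exact pow_orderOf_eq_one P
  have hP4v : ∀ v, P (P (P (P v))) = v := by
    intro v
    have := congrArg (fun f : V ≃ₗ[ZMod 2] V => f v) hP4'
    simpa [pow_succ, LinearEquiv.mul_apply] using this
  -- the range of `L` has dimension at most one
  have hcard := Module.natCard_eq_pow_finrank (K := ZMod 2) (V := ↥(LinearMap.range L))
  rw [Nat.card_zmod] at hcard
  have hr : Module.finrank (ZMod 2) ↥(LinearMap.range L) ≤ 1 := by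
    by_contra h
    rw [not_le] at h
    have : 2 ^ 2 ≤ 2 ^ Module.finrank (ZMod 2) ↥(LinearMap.range L) :=
      Nat.pow_le_pow_right (by norm_num) h
    omega
  obtain ⟨w₀, hw₀⟩ := finrank_le_one_iff.1 hr
  obtain ⟨v₀, hv₀⟩ := w₀.2
  have hrange : ∀ v, L v = 0 ∨ L v = (w₀ : V) := by
    intro v
    obtain ⟨k, hk⟩ := hw₀ ⟨L v, ⟨v, rfl⟩⟩
    have hk' : k • (w₀ : V) = L v := by
      have := congrArg Subtype.val hk
      simpa using this
    have hk01 : k = 0 ∨ k = 1 := by
      fin_cases k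
      · left; rfl
      · right; rfl
    rcases hk01 with h | h
    · left; rw [← hk', h, zero_smul]
    · right; rw [← hk', h, one_smul]
  -- the group-theoretic setup
  obtain ⟨Ps, hPs⟩ : ∃ Ps : ↥S, Ps = ⟨P, hPS⟩ := ⟨_, rfl⟩
  have hPscoe : (Ps : V ≃ₗ[ZMod 2] V) = P := by rw [hPs]
  have htv : ∀ v, ((Ps * Ps : ↥S) : V ≃ₗ[ZMod 2] V) v = P (P v) := by
    intro v
    rw [Subgroup.coe_mul, hPscoe, LinearEquiv.mul_apply]
  have hN : ∀ n : Multiplicative V, n ^ 2 = 1 := by
    intro n
    obtain ⟨v, rfl⟩ := Multiplicative.ofAdd.surjective n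
    rw [← ofAdd_nsmul, two_nsmul, ZModModule.add_self, ofAdd_zero]
  have hfaith : ∀ γ : ↥S, (∀ n, act S γ n = n) → γ = 1 := by
    intro γ h
    apply Subtype.ext
    apply LinearEquiv.ext
    intro v
    have := h (Multiplicative.ofAdd v)
    rw [act_apply] at this
    exact Multiplicative.ofAdd.injective this
  have ht : IsTransv (act S) (Ps * Ps) (Multiplicative.ofAdd (w₀ : V)) := by
    constructor
    · intro n
      obtain ⟨v, rfl⟩ := Multiplicative.ofAdd.surjective n
      rw [act_apply, htv, ← ofAdd_neg, ← ofAdd_add, ZModModule.neg_eq_self, ← hLv]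
      rcases hrange v with h | h
      · rw [h, ofAdd_zero]; exact one_mem _
      · rw [h]; exact Subgroup.mem_zpowers _
    · rw [act_apply, htv]
      congr 1
      rw [← hv₀, hLv, map_add, map_add, hP4v, add_comm]
  have ht1 : Ps * Ps ≠ 1 := by
    intro h
    have h1 : P * P = 1 := by
      have := congrArg Subtype.val h
      rwa [Subgroup.coe_mul, hPscoe, Subgroup.coe_one] at this
    have h2 : orderOf P ∣ 2 := orderOf_dvd_of_pow_eq_one (by rw [pow_two]; exact h1)
    rw [hP4] at h2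
    omega
  -- the `2'`-core
  haveI := hS
  have hsol2 : Cfsg.IsPSolvable 2 ↥S := Cfsg.Agent.Lib.Lead_PSolvable.isPSolvable_of_isSolvable 2
  have hHH := Cfsg.Agent.Lib.Helper10_QuadPair.centralizer_pPrimeCore_le 2 hsol2 hO2
  have hRn : (pPrimeCore 2 ↥S).Normal := Cfsg.Agent.Lib.Helper76_PSolvable.pPrimeCore_normal 2
  have hRc : (Nat.card (pPrimeCore 2 ↥S)).Coprime 2 :=
    Cfsg.Agent.Lib.Helper76_PSolvable.pPrimeCore_card_coprime 2
  have ht2 : (Ps * Ps) ^ 2 = 1 := ht.pow_eq_one hN hfaith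
  have htR : Ps * Ps ∉ pPrimeCore 2 ↥S := fun h => ht1 (eq_one_of_coprime _ h hRc ht2)
  have hnc : Ps * Ps ∉ Subgroup.centralizer (pPrimeCore 2 ↥S : Set ↥S) := fun h => htR (hHH h)
  rw [Subgroup.mem_centralizer_iff] at hnc
  simp only [not_forall] at hnc
  obtain ⟨g, hgR, hga⟩ := hnc
  have hne : g * (Ps * Ps) * g⁻¹ ≠ Ps * Ps := by
    intro h
    apply hga
    calc g * (Ps * Ps) = (g * (Ps * Ps) * g⁻¹) * g := by group
      _ = Ps * Ps * g := by rw [h]
  exact sq_not_transv (act S) hN hfaith _ hRc (Ps * Ps) _ ht g hgR hne Ps rfl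

end Cfsg.Agent.S4410
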