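import Cfsg.Statements.S4411
import Cfsg.Agent.Lib.Helper32_HallPQ
import Cfsg.Agent.Lib.Helper32_CharNPC
import Cfsg.Agent.Lib.Helper46_Char

set_option autoImplicit false
open Cfsg

namespace Cfsg.Agent.S4411

open Cfsg.Agent.Lib.Helper35_FrobeniusNPC Cfsg.Agent.Lib.Helper34_NPC
open Cfsg.Agent.Lib.Helper32_HallPQ Cfsg.Agent.Lib.Helper32_CharNPC

section aux

variable {G : Type*} [Group G] [Finite G]

/-- if `q` does not divide `|N(K) : C(K)|`, elements of `q`-power order of `N(K)` centralize `K` -/
theorem mem_centralizer_of_qElement {q : ℕ} [hq : Fact q.Prime] (K : Subgroup G)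
    (h : ¬ q ∣ (Subgroup.centralizer (K : Set G)).relIndex (Subgroup.normalizer (K : Set G)))
    (b : G) (hb : b ∈ Subgroup.normalizer (K : Set G)) (k : ℕ) (hbo : orderOf b = q ^ k) :
    b ∈ Subgroup.centralizer (K : Set G) := by
  have hCn : ((Subgroup.centralizer (K : Set G)).subgroupOf
      (Subgroup.normalizer (K : Set G))).Normal := inferInstance
  set x : ↥(Subgroup.normalizer (K : Set G)) ⧸ ((Subgroup.centralizer (K : Set G)).subgroupOf
      (Subgroup.normalizer (K : Set G))) := QuotientGroup.mk' _ ⟨b, hb⟩ with hx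
  have h1 : orderOf x ∣ q ^ k := by
    rw [← hbo, ← Subgroup.orderOf_mk b hb]
    exact orderOf_map_dvd _ _
  have h2 : orderOf x ∣ (Subgroup.centralizer (K : Set G)).relIndex
      (Subgroup.normalizer (K : Set G)) := by
    rw [Subgroup.relIndex, Subgroup.index_eq_card]
    exact orderOf_dvd_natCard x
  have h3 : orderOf x = 1 := by
    have h4 := Nat.dvd_gcd h1 h2
    rwa [Nat.Coprime.pow_left k ((Nat.Prime.coprime_iff_not_dvd hq.out).mpr h), Nat.dvd_one]
      at h4
  rw [orderOf_eq_one_iff, hx, QuotientGroup.mk'_apply, QuotientGroup.eq_one_iff] at h3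
  exact Subgroup.mem_subgroupOf.mp h3

omit [Finite G] in
/-- the order of an involved group divides the order of the group -/
theorem card_dvd_of_involves {A : Type*} [Group A] (h : Cfsg.Involves A G) :
    Nat.card A ∣ Nat.card G := by
  obtain ⟨K, R, hR, ⟨e⟩⟩ := h
  have h1 : Nat.card A = (R.subgroupOf K).index := by
    rw [Subgroup.index_eq_card]
    exact (Nat.card_congr e.toEquiv).symm
  rw [h1]
  exact (Subgroup.index_dvd_card _).trans (Subgroup.card_subgroup_dvd_card K)

end aux


/-- Let p and q be distinct primes with {p, q} ≠ {2, 3}, and let G be a finite group such that for every p-subgroup H of G the automizer N_G(H)/C_G(H) is p-solvable. If q divides the order of N_G(H)/C_G(H) for some p-subgroup H, then a Sylow p-subgroup of G has a normal subgroup K (normal in the Sylow subgroup) such that q divides the order of N_G(K)/C_G(K). -/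
theorem result {G : Type*} [Group G] [Finite G]
    (p q : ℕ) [Fact p.Prime] [Fact q.Prime] (hpq : p ≠ q) (h23 : ¬ ((p = 2 ∧ q = 3) ∨ (p = 3 ∧ q = 2)))
    (hsol : ∀ H : Subgroup G, IsPGroup p ↥H →
      Cfsg.IsPSolvable p (↥(Subgroup.normalizer (H : Set G)) ⧸ (Subgroup.centralizer (H : Set G)).subgroupOf (Subgroup.normalizer (H : Set G))))
    (H : Subgroup G) (hH : IsPGroup p ↥H)
    (hq : q ∣ ((Subgroup.centralizer (H : Set G)).subgroupOf (Subgroup.normalizer (H : Set G))).index)
    (Gp : Sylow p G) :
    ∃ K : Subgroup G, K ≤ (Gp : Subgroup G) ∧ (Gp : Subgroup G) ≤ Subgroup.normalizer (K : Set G) ∧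
      q ∣ ((Subgroup.centralizer (K : Set G)).subgroupOf (Subgroup.normalizer (K : Set G))).index := by
  classical
  have hp : p.Prime := Fact.out
  have hqp : q.Prime := Fact.out
  -- the family of `p`-subgroups whose automizer has order divisible by `q`
  let 𝒮 : Set (Subgroup G) := {H' | IsPGroup p H' ∧
    q ∣ (Subgroup.centralizer (H' : Set G)).relIndex (Subgroup.normalizer (H' : Set G))}
  have hH𝒮 : H ∈ 𝒮 := ⟨hH, hq⟩
  let v : Subgroup G → ℕ :=
    fun H' => (Nat.card (Subgroup.normalizer (H' : Set G))).factorization p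
  obtain ⟨H₀, ⟨hH₀p, hH₀q⟩, hmax⟩ :=
    Set.Finite.exists_maximalFor v 𝒮 (Set.toFinite 𝒮) ⟨H, hH𝒮⟩
  have hCn : ((Subgroup.centralizer (H₀ : Set G)).subgroupOf
      (Subgroup.normalizer (H₀ : Set G))).Normal := inferInstance
  have hsol₀ := hsol H₀ hH₀p
  have hH₀q' : q ∣ ((Subgroup.centralizer (H₀ : Set G)).subgroupOf
      (Subgroup.normalizer (H₀ : Set G))).index := hH₀q
  set N : Subgroup G := Subgroup.normalizer (H₀ : Set G) with hN
  obtain ⟨B_N, hB1, hB2, b, hbB, hbC, k, hbo⟩ := exists_pq_subgroup p q
    ((Subgroup.centralizer (H₀ : Set G)).subgroupOf N) hsol₀ hH₀q'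
  set B : Subgroup G := B_N.map N.subtype with hB
  have hBN : B ≤ N := Subgroup.map_subtype_le _
  have hcB : Nat.card B = Nat.card B_N :=
    Nat.card_congr (Subgroup.equivMapOfInjective B_N N.subtype N.subtype_injective).toEquiv.symm
  have hBpq : ∀ r : ℕ, r.Prime → r ∣ Nat.card B → r = p ∨ r = q := by
    intro r hr hd
    rw [hcB] at hd
    exact hB1 r hr hd
  have hvB : (Nat.card B).factorization p = (Nat.card N).factorization p := by
    have h1 := B_N.card_mul_index
    rw [hcB, ← h1, Nat.factorization_mul (Nat.card_pos).ne' Subgroup.index_ne_zero_of_finite,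
      Finsupp.add_apply, Nat.factorization_eq_zero_of_not_dvd hB2, add_zero]
  -- the `q`-element
  have hb'B : (b : G) ∈ B := ⟨b, hbB, rfl⟩
  have hb'N : (b : G) ∈ N := b.2
  have hb'C : (b : G) ∉ Subgroup.centralizer (H₀ : Set G) :=
    fun h => hbC (Subgroup.mem_subgroupOf.mpr h)
  have hb'o : orderOf (b : G) = q ^ k := by
    rw [Subgroup.orderOf_coe]; exact hbo
  -- a Sylow `p`-subgroup of `B`
  let R' : Sylow p B := default
  set R : Subgroup G := (R' : Subgroup B).map B.subtype with hR
  have hRB : R ≤ B := Subgroup.map_subtype_le _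
  have hRp : IsPGroup p R := R'.2.map _
  have hcR : Nat.card R = p ^ (Nat.card N).factorization p := by
    rw [← hvB, ← Sylow.card_eq_multiplicity R']
    exact Nat.card_congr (Subgroup.equivMapOfInjective (R' : Subgroup B) B.subtype
      B.subtype_injective).toEquiv.symm
  have hH₀R : H₀ ≤ R := by
    have hcRN : Nat.card (R.subgroupOf N) = p ^ (Nat.card N).factorization p := by
      rw [Cfsg.Agent.Lib.Helper1_Transport.card_subgroupOf (hRB.trans hBN)]
      exact hcR
    let T : Sylow p N := Sylow.ofCard (R.subgroupOf N) hcRN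
    have hHn : (H₀.subgroupOf N).Normal := Subgroup.normal_in_normalizer
    have hle := IsPGroup.le_sylow_of_normal (N := H₀.subgroupOf N)
      (hH₀p.comap_subtype) T
    rw [Sylow.coe_ofCard] at hle
    intro h hh
    have h1 : (⟨h, Subgroup.le_normalizer hh⟩ : N) ∈ H₀.subgroupOf N :=
      Subgroup.mem_subgroupOf.mpr hh
    exact Subgroup.mem_subgroupOf.mp (hle h1)
  -- `R` is a Sylow `p`-subgroup of `G`
  have hRidx : ¬ p ∣ R.index := by
    intro hdvd
    obtain ⟨P', hRP'⟩ := hRp.exists_le_sylow
    have hne : R ≠ (P' : Subgroup G) := by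
      intro h
      rw [h] at hdvd
      exact P'.not_dvd_index hdvd
    obtain ⟨y, hyP, hyN, hyR⟩ := exists_mem_normalizer_not_mem P'.2 hRP' hne
    set Rs : Subgroup G := (P' : Subgroup G) ⊓ Subgroup.normalizer (R : Set G) with hRs
    have hRsp : IsPGroup p Rs := P'.2.to_le inf_le_left
    have hRRs : R ≤ Rs := le_inf hRP' Subgroup.le_normalizer
    have hlt : Nat.card R < Nat.card Rs :=
      card_lt_card_of_lt hRRs (Subgroup.mem_inf.mpr ⟨hyP, hyN⟩) hyR
    obtain ⟨w, hw⟩ := hRsp.exists_card_eq
    have hvw : (Nat.card N).factorization p < w := by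
      rw [hcR, hw] at hlt
      exact (Nat.pow_lt_pow_iff_right hp.one_lt).mp hlt
    -- elements of `q`-power order normalizing a characteristic subgroup of `R` centralize it
    have key : ∀ K : Subgroup R, K.Characteristic → ∀ x : G,
        x ∈ Subgroup.normalizer ((K.map R.subtype : Subgroup G) : Set G) → ∀ j : ℕ,
        orderOf x = q ^ j → x ∈ Subgroup.centralizer ((K.map R.subtype : Subgroup G) : Set G) := by
      intro K hK x hx j hxo
      have hKhp : IsPGroup p (K.map R.subtype : Subgroup G) :=
        hRp.to_le (Subgroup.map_subtype_le _)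
      have hRsK : Rs ≤ Subgroup.normalizer ((K.map R.subtype : Subgroup G) : Set G) :=
        inf_le_right.trans (Cfsg.Agent.Lib.Helper46_Char.normalizer_le_normalizer_of_char R K)
      have hnot : ¬ q ∣ (Subgroup.centralizer ((K.map R.subtype : Subgroup G) : Set G)).relIndex
          (Subgroup.normalizer ((K.map R.subtype : Subgroup G) : Set G)) := by
        intro hq'
        have hmem : (K.map R.subtype : Subgroup G) ∈ 𝒮 := ⟨hKhp, hq'⟩
        have h1 : p ^ w ∣ Nat.card (Subgroup.normalizer
            ((K.map R.subtype : Subgroup G) : Set G)) := by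
          rw [← hw]
          exact Subgroup.card_dvd_of_le hRsK
        have h2 : w ≤ v (K.map R.subtype) :=
          (Nat.Prime.pow_dvd_iff_le_factorization hp (Nat.card_pos).ne').mp h1
        have h3 : v H₀ = (Nat.card N).factorization p := rfl
        have h4 := hmax hmem (by omega)
        omega
      exact mem_centralizer_of_qElement _ hnot x hx j hxo
    -- the criterion applies to `B`
    have hnpc : HasNPC p B := by
      apply hasNPC_of_charHyp (Subgroup.inclusion hRB) (Subgroup.inclusion_injective hRB)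
      · refine ⟨R', ?_⟩
        rw [Subgroup.inclusion_range, hR]
        exact (Subgroup.comap_map_eq_self_of_injective B.subtype_injective _).symm
      · by_cases hp2 : p = 2
        · right
          intro hinv
          have h24 : Nat.card (Equiv.Perm (Fin 4)) ∣ Nat.card B := card_dvd_of_involves hinv
          have hc24 : Nat.card (Equiv.Perm (Fin 4)) = 24 := by
            rw [Nat.card_eq_fintype_card, Fintype.card_perm, Fintype.card_fin]
            rfl
          rw [hc24] at h24
          have h3 : 3 ∣ Nat.card B := dvd_trans (by norm_num) h24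
          rcases hBpq 3 Nat.prime_three h3 with h | h
          · omega
          · exact h23 (Or.inl ⟨hp2, h.symm⟩)
        · left
          exact hp2
      · intro K hK x hx hxo
        have hmap : (K.map (Subgroup.inclusion hRB) : Subgroup B).map B.subtype =
            K.map R.subtype := by
          rw [Subgroup.map_map, Subgroup.subtype_comp_inclusion]
        have hx' : (x : G) ∈ Subgroup.normalizer ((K.map R.subtype : Subgroup G) : Set G) := by
          rw [← hmap]
          exact Subgroup.le_normalizer_map B.subtype ⟨x, hx, rfl⟩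
        have hxq : ∃ j : ℕ, orderOf (x : G) = q ^ j := by
          refine ⟨_, Nat.eq_prime_pow_of_unique_prime_dvd (orderOf_pos (x : G)).ne' ?_⟩
          intro d hd hdx
          have hdB : d ∣ Nat.card B := by
            rw [Subgroup.orderOf_coe] at hdx
            exact hdx.trans (orderOf_dvd_natCard x)
          rcases hBpq d hd hdB with h | h
          · exfalso
            rw [Subgroup.orderOf_coe] at hdx
            rw [h] at hdx
            have := Nat.Coprime.eq_one_of_dvd hxo.symm hdx
            exact hp.one_lt.ne' this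
          · exact h
        obtain ⟨j, hj⟩ := hxq
        have hc := key K hK (x : G) hx' j hj
        rw [Subgroup.mem_centralizer_iff] at hc ⊢
        intro y hy
        apply Subtype.ext
        have hy' : (y : G) ∈ K.map R.subtype := by
          rw [← hmap]; exact ⟨y, hy, rfl⟩
        have := hc (y : G) hy'
        simpa using this
    -- Frobenius: the `q`-element centralizes `H₀`
    have hF := frobHyp_of_hasNPC hnpc
    have hH₀B : H₀ ≤ B := hH₀R.trans hRB
    have hbn : (⟨(b : G), hb'B⟩ : B) ∈ Subgroup.normalizer ((H₀.subgroupOf B : Subgroup B) : Set B) := by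
      rw [Subgroup.mem_normalizer_iff]
      intro h
      rw [Subgroup.mem_subgroupOf, Subgroup.mem_subgroupOf]
      exact Subgroup.mem_normalizer_iff.mp hb'N (h : G)
    have hbo' : (orderOf (⟨(b : G), hb'B⟩ : B)).Coprime p := by
      rw [Subgroup.orderOf_mk, hb'o]
      exact Nat.Coprime.pow_left k ((Nat.coprime_primes hqp hp).mpr hpq.symm)
    have hbc := hF (H₀.subgroupOf B) (hH₀p.comap_subtype) _ hbn hbo'
    apply hb'C
    rw [Subgroup.mem_centralizer_iff] at hbc ⊢
    intro h hh
    have := hbc ⟨h, hH₀B hh⟩ (Subgroup.mem_subgroupOf.mpr hh)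
    have h2 := congrArg Subtype.val this
    simpa using h2
  -- conjugate into the given Sylow subgroup
  obtain ⟨g, hg⟩ := MulAction.exists_smul_eq G (IsPGroup.toSylow hRp hRidx) Gp
  have hgR : (Gp : Subgroup G) = R.map (MulAut.conj g).toMonoidHom := by
    rw [← hg, Sylow.coe_subgroup_smul, Subgroup.pointwise_smul_def, IsPGroup.toSylow_coe]
    rfl
  have hconj : ∀ x : G, (MulAut.conj g).toMonoidHom x = g * x * g⁻¹ := fun x => rfl
  refine ⟨H₀.map (MulAut.conj g).toMonoidHom, ?_, ?_, ?_⟩
  · rw [hgR]
    exact Subgroup.map_mono hH₀R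
  · rw [hgR]
    rintro _ ⟨r, hr, rfl⟩
    have hrN : r ∈ N := (hRB.trans hBN) hr
    rw [hconj, Subgroup.mem_normalizer_iff]
    intro x
    constructor
    · rintro ⟨h, hh, rfl⟩
      refine ⟨r * h * r⁻¹, (Subgroup.mem_normalizer_iff.mp hrN h).mp hh, ?_⟩
      rw [hconj, hconj]
      group
    · rintro ⟨h, hh, hhx⟩
      refine ⟨r⁻¹ * h * r, ?_, ?_⟩
      · have := (Subgroup.mem_normalizer_iff.mp hrN (r⁻¹ * h * r)).mpr (by
          have e : r * (r⁻¹ * h * r) * r⁻¹ = h := by group
          rw [e]; exact hh)
        exact this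
      · rw [hconj] at hhx ⊢
        have e : x = (g * r * g⁻¹)⁻¹ * (g * h * g⁻¹) * (g * r * g⁻¹) := by
          rw [hhx]; group
        rw [e]
        group
  · by_contra hcon
    have hbn : g * (b : G) * g⁻¹ ∈ Subgroup.normalizer
        ((H₀.map (MulAut.conj g).toMonoidHom : Subgroup G) : Set G) := by
      rw [Subgroup.mem_normalizer_iff]
      intro x
      constructor
      · rintro ⟨h, hh, rfl⟩
        refine ⟨(b : G) * h * (b : G)⁻¹, (Subgroup.mem_normalizer_iff.mp hb'N h).mp hh, ?_⟩
        rw [hconj, hconj]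
        group
      · rintro ⟨h, hh, hhx⟩
        refine ⟨(b : G)⁻¹ * h * (b : G), ?_, ?_⟩
        · have := (Subgroup.mem_normalizer_iff.mp hb'N ((b : G)⁻¹ * h * (b : G))).mpr (by
            have e : (b : G) * ((b : G)⁻¹ * h * (b : G)) * (b : G)⁻¹ = h := by group
            rw [e]; exact hh)
          exact this
        · rw [hconj] at hhx ⊢
          have e : x = (g * (b : G) * g⁻¹)⁻¹ * (g * h * g⁻¹) * (g * (b : G) * g⁻¹) := by
            rw [hhx]; group
          rw [e]
          group
    have hbo2 : orderOf (g * (b : G) * g⁻¹) = q ^ k := by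
      rw [← hb'o]
      exact orderOf_injective (MulAut.conj g).toMonoidHom (MulAut.conj g).injective (b : G)
    have hc := mem_centralizer_of_qElement _ hcon _ hbn k hbo2
    apply hb'C
    rw [Subgroup.mem_centralizer_iff] at hc ⊢
    intro h hh
    have h1 := hc (g * h * g⁻¹) ⟨h, hh, rfl⟩
    have h2 : g * (h * (b : G)) * g⁻¹ = g * ((b : G) * h) * g⁻¹ := by
      calc g * (h * (b : G)) * g⁻¹ = (g * h * g⁻¹) * (g * (b : G) * g⁻¹) := by group
        _ = (g * (b : G) * g⁻¹) * (g * h * g⁻¹) := h1
        _ = g * ((b : G) * h) * g⁻¹ := by group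
    exact mul_left_cancel (mul_right_cancel h2)

end Cfsg.Agent.S4411
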