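import Mathlib
import Cfsg.Statements.S4412
import Cfsg.Agent.Lib.Helper48_Generation

set_option autoImplicit false
open Cfsg

namespace Cfsg.Agent.S4412

universe u

section General

variable {P : Type u} [Group P]

theorem eq_one_of_sq [Finite P] {p : ℕ} (hp : p.Prime) (hp2 : p ≠ 2) (hP : IsPGroup p P) {x : P}
    (h : x * x = 1) : x = 1 := by
  obtain ⟨k, hk⟩ := hP x
  have h2 : x ^ 2 = 1 := by rw [pow_two]; exact h
  have hc : Nat.Coprime (p ^ k) 2 := by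
    apply Nat.Coprime.pow_left
    rw [Nat.coprime_primes hp Nat.prime_two]; exact hp2
  have := pow_gcd_eq_one.mpr ⟨hk, h2⟩
  rw [hc.gcd_eq_one, pow_one] at this
  exact this

theorem eq_one_of_eq_inv [Finite P] {p : ℕ} (hp : p.Prime) (hp2 : p ≠ 2) (hP : IsPGroup p P) {x : P}
    (h : x = x⁻¹) : x = 1 := by
  apply eq_one_of_sq hp hp2 hP
  nth_rewrite 2 [h]
  exact mul_inv_cancel x

/-- An involutory automorphism commuting with `t` acts on the cyclic fixed point group of `t` by `±1`. -/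
theorem act_on_gen [Finite P] {p : ℕ} (hp : p.Prime) (hp2 : p ≠ 2) (hP : IsPGroup p P)
    {T t : MulAut P} (hTt : T * t = t * T) (hT2 : ∀ x, T (T x) = x) {g : P}
    (hg : ∀ x : P, t x = x ↔ x ∈ Subgroup.zpowers g) : T g = g ∨ T g = g⁻¹ := by
  have hgg : t g = g := (hg g).mpr (Subgroup.mem_zpowers g)
  have h1 : t (T g) = T g := by
    have : (t * T) g = (T * t) g := by rw [hTt]
    rw [MulAut.mul_apply, MulAut.mul_apply, hgg] at this
    exact this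
  obtain ⟨k, hk⟩ := Subgroup.mem_zpowers_iff.mp ((hg _).mp h1)
  have h2 : g ^ (k * k) = g := by
    have := hT2 g
    rw [← hk, map_zpow, ← hk, ← zpow_mul] at this
    exact this
  haveI : Fact p.Prime := ⟨hp⟩
  obtain ⟨a, ha⟩ := (IsPGroup.iff_orderOf.mp hP) g
  have h3 : ((p : ℤ) ^ a) ∣ (k - 1) * (k + 1) := by
    have h4 : g ^ (k * k - 1) = 1 := by rw [zpow_sub, h2, zpow_one, mul_inv_cancel]
    have h5 := orderOf_dvd_iff_zpow_eq_one.mpr h4
    rw [ha] at h5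
    have e : k * k - 1 = (k - 1) * (k + 1) := by ring
    rw [e] at h5
    exact_mod_cast h5
  have hpi : _root_.Prime (p : ℤ) := (Nat.prime_iff_prime_int (p := p)).1 hp
  have hdvd : ∀ m : ℤ, ((p : ℤ) ^ a) ∣ m → g ^ m = 1 := by
    intro m hm
    apply orderOf_dvd_iff_zpow_eq_one.mp
    rw [ha]
    exact_mod_cast hm
  by_cases hd : (p : ℤ) ∣ k - 1
  · left
    have hnd : ¬ (p : ℤ) ∣ k + 1 := by
      intro hd2
      have h6 : (p : ℤ) ∣ 2 := by
        have h7 := dvd_sub hd2 hd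
        have e : (k + 1) - (k - 1) = 2 := by ring
        rwa [e] at h7
      have h8 : p ∣ 2 := by exact_mod_cast h6
      exact hp2 ((Nat.prime_dvd_prime_iff_eq hp Nat.prime_two).mp h8)
    have h4 := hpi.pow_dvd_of_dvd_mul_right a hnd h3
    have h5 := hdvd _ h4
    rw [← hk]
    rw [zpow_sub, zpow_one, mul_inv_eq_one] at h5
    exact h5
  · right
    have h4 := hpi.pow_dvd_of_dvd_mul_left a hd h3
    have h5 := hdvd _ h4
    rw [← hk]
    rw [zpow_add, zpow_one, mul_eq_one_iff_eq_inv] at h5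
    exact h5

theorem fix_of_fix_gen {T : MulAut P} {g : P} (h : T g = g) :
    ∀ x ∈ Subgroup.zpowers g, T x = x := by
  intro x hx
  obtain ⟨k, rfl⟩ := Subgroup.mem_zpowers_iff.mp hx
  rw [map_zpow, h]

theorem inv_of_inv_gen {T : MulAut P} {g : P} (h : T g = g⁻¹) :
    ∀ x ∈ Subgroup.zpowers g, T x = x⁻¹ := by
  intro x hx
  obtain ⟨k, rfl⟩ := Subgroup.mem_zpowers_iff.mp hx
  rw [map_zpow, h, inv_zpow]

/-- If `τ` is an involutory automorphism commuting with `e` and without nontrivial common fixed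
points with `e`, then the fixed points of `e` commute. -/
theorem comm_of_fpf [Finite P] {e τ : MulAut P} (hc : e * τ = τ * e) (hτ2 : ∀ x, τ (τ x) = x)
    (hfpf : ∀ x, τ x = x → e x = x → x = 1) : ∀ x y, e x = x → e y = y → x * y = y * x := by
  have hinv : ∀ x, e x = x → e (τ x) = τ x := by
    intro x hx
    have : (e * τ) x = (τ * e) x := by rw [hc]
    rw [MulAut.mul_apply, MulAut.mul_apply, hx] at this
    exact this
  let φ : {x : P // e x = x} → {x : P // e x = x} := fun x =>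
    ⟨x.1⁻¹ * τ x.1, by rw [map_mul, map_inv, x.2, hinv x.1 x.2]⟩
  have hφi : Function.Injective φ := by
    intro x y hxy
    have h1 : x.1⁻¹ * τ x.1 = y.1⁻¹ * τ y.1 := congrArg Subtype.val hxy
    have h2 : τ (y.1 * x.1⁻¹) = y.1 * x.1⁻¹ := by
      rw [map_mul, map_inv]
      have : τ y.1 = y.1 * (x.1⁻¹ * τ x.1) := by rw [h1]; group
      rw [this]; group
    have h3 : e (y.1 * x.1⁻¹) = y.1 * x.1⁻¹ := by rw [map_mul, map_inv, x.2, y.2]
    have h4 := hfpf _ h2 h3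
    apply Subtype.ext
    have : y.1 = x.1 := mul_inv_eq_one.mp h4
    exact this.symm
  have hφs : Function.Surjective φ := Finite.surjective_of_injective hφi
  have hτinv : ∀ z, e z = z → τ z = z⁻¹ := by
    intro z hz
    obtain ⟨x, hx⟩ := hφs ⟨z, hz⟩
    have h1 : x.1⁻¹ * τ x.1 = z := congrArg Subtype.val hx
    rw [← h1, map_mul, map_inv, hτ2]
    group
  intro x y hx hy
  have h1 : τ (x * y) = (x * y)⁻¹ := hτinv _ (by rw [map_mul, hx, hy])
  rw [map_mul, hτinv x hx, hτinv y hy, mul_inv_rev] at h1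
  have h2 := congrArg (fun z => z⁻¹) h1
  simp only [mul_inv_rev, inv_inv] at h2
  exact h2.symm

end General

section Klein

variable {A : Type u} [Group A]

theorem ea_comm {I : Subgroup A} (hI : Cfsg.IsElementaryAbelian 2 I) {a b : A} (ha : a ∈ I)
    (hb : b ∈ I) : a * b = b * a := by
  have := hI.1.is_comm.comm (⟨a, ha⟩ : I) ⟨b, hb⟩
  exact congrArg Subtype.val this

theorem ea_sq {I : Subgroup A} (hI : Cfsg.IsElementaryAbelian 2 I) {a : A} (ha : a ∈ I) :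
    a * a = 1 := by
  have := hI.2 a ha
  rwa [pow_two] at this

theorem ea_inv {I : Subgroup A} (hI : Cfsg.IsElementaryAbelian 2 I) {a : A} (ha : a ∈ I) :
    a⁻¹ = a := inv_eq_of_mul_eq_one_left (ea_sq hI ha)

/-- `J ∪ xJ` as a subgroup. -/
def adjoin (I J : Subgroup A) (hI : Cfsg.IsElementaryAbelian 2 I) (hJ : J ≤ I) (x : A)
    (hx : x ∈ I) : Subgroup A where
  carrier := {y | y ∈ J ∨ x * y ∈ J}
  one_mem' := Or.inl J.one_mem
  mul_mem' := by
    intro y z hy hz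
    have hmemI : ∀ w, (w ∈ J ∨ x * w ∈ J) → w ∈ I := by
      intro w hw
      rcases hw with hw | hw
      · exact hJ hw
      · have : w = x⁻¹ * (x * w) := by group
        rw [this]
        exact I.mul_mem (I.inv_mem hx) (hJ hw)
    have hyI := hmemI y hy
    have hzI := hmemI z hz
    rcases hy with hy | hy <;> rcases hz with hz | hz
    · exact Or.inl (J.mul_mem hy hz)
    · right
      have : x * (y * z) = y * (x * z) := by
        rw [← mul_assoc, ea_comm hI hx hyI, mul_assoc]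
      rw [this]; exact J.mul_mem hy hz
    · right
      rw [← mul_assoc]; exact J.mul_mem hy hz
    · left
      have : y * z = (x * y) * (x * z) := by
        calc y * z = (x * x) * (y * z) := by rw [ea_sq hI hx, one_mul]
          _ = x * (x * y) * z := by group
          _ = x * (y * x) * z := by rw [ea_comm hI hx hyI]
          _ = (x * y) * (x * z) := by group
      rw [this]; exact J.mul_mem hy hz
  inv_mem' := by
    intro y hy
    have hyI : y ∈ I := by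
      rcases hy with hy | hy
      · exact hJ hy
      · have : y = x⁻¹ * (x * y) := by group
        rw [this]
        exact I.mul_mem (I.inv_mem hx) (hJ hy)
    show y⁻¹ ∈ J ∨ x * y⁻¹ ∈ J
    rw [ea_inv hI hyI]
    exact hy

theorem mem_adjoin {I J : Subgroup A} {hI : Cfsg.IsElementaryAbelian 2 I} {hJ : J ≤ I} {x : A}
    {hx : x ∈ I} {y : A} : y ∈ adjoin I J hI hJ x hx ↔ (y ∈ J ∨ x * y ∈ J) := Iff.rfl

theorem pick2 [Finite A] (J : Subgroup A) (hJ : 3 ≤ Nat.card J) :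
    ∃ s ∈ J, ∃ t ∈ J, s ≠ 1 ∧ t ≠ 1 ∧ s ≠ t := by
  have hJ' : 3 ≤ (J : Set A).ncard := by
    rw [← Nat.card_coe_set_eq]; exact hJ
  have h1 : ({1} : Set A).ncard < (J : Set A).ncard := by
    rw [Set.ncard_singleton]; omega
  obtain ⟨s, hsJ, hs1⟩ := Set.exists_mem_notMem_of_ncard_lt_ncard h1
  have h2 : ({1, s} : Set A).ncard < (J : Set A).ncard := by
    have := Set.ncard_insert_le (1 : A) ({s} : Set A)
    rw [Set.ncard_singleton] at this
    omega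
  obtain ⟨t, htJ, ht1⟩ := Set.exists_mem_notMem_of_ncard_lt_ncard h2
  refine ⟨s, hsJ, t, htJ, ?_, ?_, ?_⟩
  · intro h; exact hs1 (by rw [h]; rfl)
  · intro h; apply ht1; rw [h]; exact Set.mem_insert _ _
  · intro h; apply ht1; rw [← h]; exact Set.mem_insert_of_mem _ rfl

/-- A Klein four-group of "good" elements. -/
theorem exists_klein [Finite A] (I I₀ : Subgroup A) (hI : Cfsg.IsElementaryAbelian 2 I)
    (hI8 : Nat.card I = 8) (hI₀ : I₀ < I) (Bad : A → Prop)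
    (hdisj : ∀ T ∈ I₀, T ≠ 1 → ¬ Bad T)
    (hprod : ∀ T ∈ I, ∀ T' ∈ I, T ≠ 1 → T' ≠ 1 → Bad T → Bad T' → T * T' ∈ I₀) :
    ∃ s ∈ I, ∃ t ∈ I, s ≠ 1 ∧ t ≠ 1 ∧ s ≠ t ∧ ¬ Bad s ∧ ¬ Bad t ∧ ¬ Bad (s * t) := by
  -- it suffices to find a subgroup of order at least 3 of good elements
  suffices h : ∃ J : Subgroup A, J ≤ I ∧ 3 ≤ Nat.card J ∧ ∀ y ∈ J, y ≠ 1 → ¬ Bad y by
    obtain ⟨J, hJI, hJ3, hJgood⟩ := h
    obtain ⟨s, hs, t, ht, hs1, ht1, hst⟩ := pick2 J hJ3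
    refine ⟨s, hJI hs, t, hJI ht, hs1, ht1, hst, hJgood s hs hs1, hJgood t ht ht1, ?_⟩
    apply hJgood _ (J.mul_mem hs ht)
    intro h1
    apply hst
    have : s = t⁻¹ := eq_inv_of_mul_eq_one_left h1
    rw [this, ea_inv hI (hJI ht)]
  by_cases hB : ∃ b ∈ I, b ≠ 1 ∧ Bad b
  · obtain ⟨b, hbI, hb1, hbB⟩ := hB
    have hb0 : b ∉ I₀ := fun h => hdisj b h hb1 hbB
    obtain ⟨J, hI₀J, hJmax⟩ := Finite.exists_le_maximal
      (p := fun J : Subgroup A => I₀ ≤ J ∧ J ≤ I ∧ b ∉ J) (a := I₀) ⟨le_rfl, hI₀.le, hb0⟩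
    obtain ⟨⟨hJ0, hJI, hbJ⟩, hJm⟩ := hJmax
    have hcover : ∀ x ∈ I, x ∈ J ∨ b * x ∈ J := by
      intro x hx
      by_contra hcon
      push Not at hcon
      obtain ⟨hxJ, hbxJ⟩ := hcon
      set J' := adjoin I J hI hJI x hx with hJ'
      have hJJ' : J ≤ J' := fun y hy => Or.inl hy
      have hJ'I : J' ≤ I := by
        intro y hy
        rcases hy with hy | hy
        · exact hJI hy
        · have : y = x⁻¹ * (x * y) := by group
          rw [this]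
          exact I.mul_mem (I.inv_mem hx) (hJI hy)
      have hbJ' : b ∉ J' := by
        intro h
        rcases h with h | h
        · exact hbJ h
        · rw [ea_comm hI hx hbI] at h; exact hbxJ h
      have hle := hJm ⟨hJ0.trans hJJ', hJ'I, hbJ'⟩ hJJ'
      apply hxJ
      apply hle
      right
      rw [ea_sq hI hx]; exact J.one_mem
    refine ⟨J, hJI, ?_, ?_⟩
    · have h1 : (I : Set A) ⊆ (J : Set A) ∪ (fun y => b * y) '' (J : Set A) := by
        intro x hx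
        rcases hcover x hx with h | h
        · exact Or.inl h
        · right
          refine ⟨b * x, h, ?_⟩
          show b * (b * x) = x
          rw [← mul_assoc, ea_sq hI hbI, one_mul]
      have h2 : (I : Set A).ncard ≤ ((J : Set A) ∪ (fun y => b * y) '' (J : Set A)).ncard :=
        Set.ncard_le_ncard h1 (Set.toFinite _)
      have h3 := Set.ncard_union_le (J : Set A) ((fun y => b * y) '' (J : Set A))
      have h4 := Set.ncard_image_le (f := fun y => b * y) (s := (J : Set A)) (Set.toFinite _)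
      have h5 : (I : Set A).ncard = 8 := by rw [← Nat.card_coe_set_eq]; exact hI8
      have h6 : (J : Set A).ncard = Nat.card J := by rw [← Nat.card_coe_set_eq]; rfl
      omega
    · intro y hy hy1 hyB
      apply hbJ
      have h1 : y * b ∈ J := hJ0 (hprod y (hJI hy) b hbI hy1 hb1 hyB hbB)
      have : b = y⁻¹ * (y * b) := by group
      rw [this]
      exact J.mul_mem (J.inv_mem hy) h1
  · push Not at hB
    refine ⟨I, le_rfl, by omega, ?_⟩
    intro y hy hy1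
    exact hB y hy hy1

end Klein

section Core

variable {P : Type u} [Group P]

/-- The structure obtained in the proof. -/
structure Str (I : Subgroup (MulAut P)) (g1 g2 g3 : P) (e1 e2 e3 t1 t2 t3 : MulAut P) : Prop where
  gen : Subgroup.closure {g1, g2, g3} = ⊤
  comm : ∀ x y : P, x * y = y * x
  g1ne : g1 ≠ 1
  g2ne : g2 ≠ 1
  g3ne : g3 ≠ 1
  e1I : e1 ∈ I
  e2I : e2 ∈ I
  e3I : e3 ∈ I
  t1I : t1 ∈ I
  t2I : t2 ∈ I
  t3I : t3 ∈ I
  e1g1 : e1 g1 = g1⁻¹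
  e1g2 : e1 g2 = g2
  e1g3 : e1 g3 = g3
  e2g1 : e2 g1 = g1
  e2g2 : e2 g2 = g2⁻¹
  e2g3 : e2 g3 = g3
  e3g1 : e3 g1 = g1
  e3g2 : e3 g2 = g2
  e3g3 : e3 g3 = g3⁻¹
  t1g1 : t1 g1 = g1
  t1g2 : t1 g2 = g2⁻¹
  t1g3 : t1 g3 = g3⁻¹
  t2g1 : t2 g1 = g1⁻¹
  t2g2 : t2 g2 = g2
  t2g3 : t2 g3 = g3⁻¹
  t3g1 : t3 g1 = g1⁻¹
  t3g2 : t3 g2 = g2⁻¹
  t3g3 : t3 g3 = g3
  fix1 : ∀ x : P, t1 x = x ↔ x ∈ Subgroup.zpowers g1
  fix2 : ∀ x : P, t2 x = x ↔ x ∈ Subgroup.zpowers g2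
  fix3 : ∀ x : P, t3 x = x ↔ x ∈ Subgroup.zpowers g3
  sgn1 : ∀ T ∈ I, T g1 = g1 ∨ T g1 = g1⁻¹
  sgn2 : ∀ T ∈ I, T g2 = g2 ∨ T g2 = g2⁻¹
  sgn3 : ∀ T ∈ I, T g3 = g3 ∨ T g3 = g3⁻¹

theorem ext3 {g1 g2 g3 : P} (gen : Subgroup.closure {g1, g2, g3} = ⊤) {T T' : MulAut P}
    (h1 : T g1 = T' g1) (h2 : T g2 = T' g2) (h3 : T g3 = T' g3) : T = T' := by
  have : T.toMonoidHom = T'.toMonoidHom := by
    apply MonoidHom.eq_of_eqOn_dense gen
    intro x hx
    rcases hx with rfl | rfl | rfl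
    · exact h1
    · exact h2
    · exact h3
  exact MulEquiv.ext (fun x => DFunLike.congr_fun this x)

theorem closure_eq_top [Finite P] {p : ℕ} (hp : p.Prime) (hp2 : p ≠ 2) (hP : IsPGroup p P)
    {s t : MulAut P} (hs2 : s * s = 1) (ht2 : t * t = 1) (hst : s * t = t * s) {g1 g2 g3 : P}
    (h1 : ∀ x, s x = x ↔ x ∈ Subgroup.zpowers g1) (h2 : ∀ x, t x = x ↔ x ∈ Subgroup.zpowers g2)
    (h3 : ∀ x, (s * t) x = x ↔ x ∈ Subgroup.zpowers g3) :
    Subgroup.closure {g1, g2, g3} = ⊤ := by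
  haveI : Fact (Nat.Prime 2) := ⟨Nat.prime_two⟩
  haveI : Fact p.Prime := ⟨hp⟩
  haveI : Group.IsNilpotent P := hP.isNilpotent
  have hcop : ¬ 2 ∣ Nat.card P := by
    obtain ⟨n, hn⟩ := IsPGroup.iff_card.mp hP
    rw [hn]
    intro h
    have := Nat.Prime.dvd_of_dvd_pow Nat.prime_two h
    exact hp2 ((Nat.prime_dvd_prime_iff_eq Nat.prime_two hp).mp this).symm
  have hz : ∀ g ∈ ({g1, g2, g3} : Set P), Subgroup.zpowers g ≤ Subgroup.closure {g1, g2, g3} := by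
    intro g hg
    rw [Subgroup.zpowers_le]
    exact Subgroup.subset_closure hg
  apply Cfsg.Agent.Lib.Helper48_Generation.eq_top_of_fixed_le (p := 2) P hcop s t
    (by rw [pow_two]; exact hs2) (by rw [pow_two]; exact ht2) hst
  · intro x hx
    exact hz g2 (by simp) ((h2 x).mp hx)
  · intro i x hx
    rcases Nat.even_or_odd' i with ⟨k, hk | hk⟩
    · have : t ^ i = 1 := by rw [hk, pow_mul, pow_two, ht2, one_pow]
      rw [this, mul_one] at hx
      exact hz g1 (by simp) ((h1 x).mp hx)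
    · have : t ^ i = t := by rw [hk, pow_succ, pow_mul, pow_two, ht2, one_pow, one_mul]
      rw [this] at hx
      exact hz g3 (by simp) ((h3 x).mp hx)

theorem core [Finite P] {p : ℕ} (hp : p.Prime) (hp2 : p ≠ 2) (hP : IsPGroup p P)
    (I : Subgroup (MulAut P)) (hI : Cfsg.IsElementaryAbelian 2 I) (hI8 : Nat.card ↥I = 8)
    {t1 t2 : MulAut P} (h1I : t1 ∈ I) (h2I : t2 ∈ I)
    {g1 g2 g3 : P} (hg1 : ∀ x, t1 x = x ↔ x ∈ Subgroup.zpowers g1)
    (hg2 : ∀ x, t2 x = x ↔ x ∈ Subgroup.zpowers g2)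
    (hg3 : ∀ x, (t1 * t2) x = x ↔ x ∈ Subgroup.zpowers g3) :
    ∃ e1 e2 e3 : MulAut P, Str I g1 g2 g3 e1 e2 e3 t1 t2 (t1 * t2) := by
  classical
  have h3I : t1 * t2 ∈ I := I.mul_mem h1I h2I
  have hT2 : ∀ T ∈ I, ∀ x, T (T x) = x := by
    intro T hT x
    have := ea_sq hI hT
    rw [← MulAut.mul_apply, this, MulAut.one_apply]
  have hcI : ∀ T ∈ I, ∀ T' ∈ I, T * T' = T' * T := fun T hT T' hT' => ea_comm hI hT hT'
  have sgn1 : ∀ T ∈ I, T g1 = g1 ∨ T g1 = g1⁻¹ := fun T hT =>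
    act_on_gen hp hp2 hP (hcI T hT t1 h1I) (hT2 T hT) hg1
  have sgn2 : ∀ T ∈ I, T g2 = g2 ∨ T g2 = g2⁻¹ := fun T hT =>
    act_on_gen hp hp2 hP (hcI T hT t2 h2I) (hT2 T hT) hg2
  have sgn3 : ∀ T ∈ I, T g3 = g3 ∨ T g3 = g3⁻¹ := fun T hT =>
    act_on_gen hp hp2 hP (hcI T hT _ h3I) (hT2 T hT) hg3
  have gen : Subgroup.closure {g1, g2, g3} = ⊤ :=
    closure_eq_top hp hp2 hP (ea_sq hI h1I) (ea_sq hI h2I) (hcI _ h1I _ h2I) hg1 hg2 hg3
  -- sign patterns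
  let f : ↥I → Bool × Bool × Bool := fun T =>
    (decide (T.1 g1 = g1), decide (T.1 g2 = g2), decide (T.1 g3 = g3))
  have hfi : Function.Injective f := by
    intro T T' h
    have hh1 : (T.1 g1 = g1 ↔ T'.1 g1 = g1) := by
      have := congrArg Prod.fst h
      simpa [f] using this
    have hh2 : (T.1 g2 = g2 ↔ T'.1 g2 = g2) := by
      have := congrArg (fun z => z.2.1) h
      simpa [f] using this
    have hh3 : (T.1 g3 = g3 ↔ T'.1 g3 = g3) := by
      have := congrArg (fun z => z.2.2) h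
      simpa [f] using this
    have key : ∀ g : P, (T.1 g = g ∨ T.1 g = g⁻¹) → (T'.1 g = g ∨ T'.1 g = g⁻¹) →
        (T.1 g = g ↔ T'.1 g = g) → T.1 g = T'.1 g := by
      intro g h1 h2 h3
      by_cases hc : T.1 g = g
      · rw [hc, h3.mp hc]
      · have hc' : ¬ T'.1 g = g := fun h => hc (h3.mpr h)
        rcases h1 with h1 | h1
        · exact absurd h1 hc
        rcases h2 with h2 | h2
        · exact absurd h2 hc'
        rw [h1, h2]
    apply Subtype.ext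
    exact ext3 gen (key g1 (sgn1 _ T.2) (sgn1 _ T'.2) hh1) (key g2 (sgn2 _ T.2) (sgn2 _ T'.2) hh2)
      (key g3 (sgn3 _ T.2) (sgn3 _ T'.2) hh3)
  have hfb : Function.Bijective f := by
    rw [Nat.bijective_iff_injective_and_card]
    refine ⟨hfi, ?_⟩
    rw [hI8]
    simp [Nat.card_eq_fintype_card]
  obtain ⟨⟨e1, he1I⟩, he1⟩ := hfb.2 (false, true, true)
  obtain ⟨⟨e2, he2I⟩, he2⟩ := hfb.2 (true, false, true)
  obtain ⟨⟨e3, he3I⟩, he3⟩ := hfb.2 (true, true, false)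
  have dec : ∀ (T : MulAut P) (hT : T ∈ I) (b1 b2 b3 : Bool), f ⟨T, hT⟩ = (b1, b2, b3) →
      (decide (T g1 = g1) = b1 ∧ decide (T g2 = g2) = b2 ∧ decide (T g3 = g3) = b3) := by
    intro T hT b1 b2 b3 h
    exact ⟨congrArg Prod.fst h, congrArg (fun z => z.2.1) h, congrArg (fun z => z.2.2) h⟩
  obtain ⟨a11, a12, a13⟩ := dec e1 he1I _ _ _ he1
  obtain ⟨a21, a22, a23⟩ := dec e2 he2I _ _ _ he2
  obtain ⟨a31, a32, a33⟩ := dec e3 he3I _ _ _ he3
  simp only [decide_eq_true_eq, decide_eq_false_iff_not] at a11 a12 a13 a21 a22 a23 a31 a32 a33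
  have e1g1 : e1 g1 = g1⁻¹ := (sgn1 e1 he1I).resolve_left a11
  have e2g2 : e2 g2 = g2⁻¹ := (sgn2 e2 he2I).resolve_left a22
  have e3g3 : e3 g3 = g3⁻¹ := (sgn3 e3 he3I).resolve_left a33
  have ne_of : ∀ (e : MulAut P) (g : P), e g ≠ g → g ≠ 1 := by
    intro e g h h1
    apply h
    rw [h1, map_one]
  have g1ne : g1 ≠ 1 := ne_of e1 g1 a11
  have g2ne : g2 ≠ 1 := ne_of e2 g2 a22
  have g3ne : g3 ≠ 1 := ne_of e3 g3 a33
  -- an element fixed by `e` is not in a cyclic group inverted by `e`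
  have notfix : ∀ (T e : MulAut P) (g y : P), (∀ x, T x = x ↔ x ∈ Subgroup.zpowers g) →
      e g = g⁻¹ → y ≠ 1 → e y = y → T y ≠ y := by
    intro T e g y hTg heg hy1 hey hTy
    have h1 := inv_of_inv_gen heg y ((hTg y).mp hTy)
    rw [hey] at h1
    exact hy1 (eq_one_of_eq_inv hp hp2 hP h1)
  have t1g1 : t1 g1 = g1 := (hg1 g1).mpr (Subgroup.mem_zpowers g1)
  have t2g2 : t2 g2 = g2 := (hg2 g2).mpr (Subgroup.mem_zpowers g2)
  have t3g3 : (t1 * t2) g3 = g3 := (hg3 g3).mpr (Subgroup.mem_zpowers g3)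
  have t1g2 : t1 g2 = g2⁻¹ :=
    (sgn2 t1 h1I).resolve_left (notfix t1 e1 g1 g2 hg1 e1g1 g2ne a12)
  have t1g3 : t1 g3 = g3⁻¹ :=
    (sgn3 t1 h1I).resolve_left (notfix t1 e1 g1 g3 hg1 e1g1 g3ne a13)
  have t2g1 : t2 g1 = g1⁻¹ :=
    (sgn1 t2 h2I).resolve_left (notfix t2 e2 g2 g1 hg2 e2g2 g1ne a21)
  have t2g3 : t2 g3 = g3⁻¹ :=
    (sgn3 t2 h2I).resolve_left (notfix t2 e2 g2 g3 hg2 e2g2 g3ne a23)
  have t3g1 : (t1 * t2) g1 = g1⁻¹ :=
    (sgn1 _ h3I).resolve_left (notfix _ e3 g3 g1 hg3 e3g3 g1ne a31)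
  have t3g2 : (t1 * t2) g2 = g2⁻¹ :=
    (sgn2 _ h3I).resolve_left (notfix _ e3 g3 g2 hg3 e3g3 g2ne a32)
  -- commutativity
  have cm : ∀ (e τ : MulAut P) (g : P), e ∈ I → τ ∈ I → (∀ x, τ x = x ↔ x ∈ Subgroup.zpowers g) →
      e g = g⁻¹ → ∀ x y, e x = x → e y = y → x * y = y * x := by
    intro e τ g he hτ hτg heg
    apply comm_of_fpf (hcI e he τ hτ) (hT2 τ hτ)
    intro x hτx hex
    have h1 := inv_of_inv_gen heg x ((hτg x).mp hτx)
    rw [hex] at h1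
    exact eq_one_of_eq_inv hp hp2 hP h1
  have c12 : g1 * g2 = g2 * g1 := cm e3 _ g3 he3I h3I hg3 e3g3 g1 g2 a31 a32
  have c13 : g1 * g3 = g3 * g1 := cm e2 _ g2 he2I h2I hg2 e2g2 g1 g3 a21 a23
  have c23 : g2 * g3 = g3 * g2 := cm e1 _ g1 he1I h1I hg1 e1g1 g2 g3 a12 a13
  have hcomm : ∀ x y : P, x * y = y * x := by
    have hcen : ∀ g ∈ ({g1, g2, g3} : Set P), g ∈ Subgroup.center P := by
      intro g hg
      rw [Subgroup.mem_center_iff]
      intro y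
      have hy : y ∈ Subgroup.closure {g1, g2, g3} := by rw [gen]; trivial
      have : Subgroup.closure {g1, g2, g3} ≤ Subgroup.centralizer {g} := by
        rw [Subgroup.closure_le]
        intro z hz
        rw [SetLike.mem_coe, Subgroup.mem_centralizer_iff]
        intro w hw
        rw [Set.mem_singleton_iff] at hw
        subst hw
        rcases hg with rfl | rfl | rfl <;> rcases hz with rfl | rfl | rfl
        · rfl
        · exact c12
        · exact c13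
        · exact c12.symm
        · rfl
        · exact c23
        · exact c13.symm
        · exact c23.symm
        · rfl
      have := this hy
      rw [Subgroup.mem_centralizer_iff] at this
      exact (this g rfl).symm
    have htop : Subgroup.center P = ⊤ := by
      rw [eq_top_iff, ← gen, Subgroup.closure_le]
      exact hcen
    intro x y
    have hx : x ∈ Subgroup.center P := by rw [htop]; trivial
    exact ((Subgroup.mem_center_iff.mp hx) y).symm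
  exact ⟨e1, e2, e3,
    { gen := gen, comm := hcomm, g1ne := g1ne, g2ne := g2ne, g3ne := g3ne
      e1I := he1I, e2I := he2I, e3I := he3I, t1I := h1I, t2I := h2I, t3I := h3I
      e1g1 := e1g1, e1g2 := a12, e1g3 := a13, e2g1 := a21, e2g2 := e2g2, e2g3 := a23
      e3g1 := a31, e3g2 := a32, e3g3 := e3g3
      t1g1 := t1g1, t1g2 := t1g2, t1g3 := t1g3, t2g1 := t2g1, t2g2 := t2g2, t2g3 := t2g3
      t3g1 := t3g1, t3g2 := t3g2, t3g3 := t3g3
      fix1 := hg1, fix2 := hg2, fix3 := hg3, sgn1 := sgn1, sgn2 := sgn2, sgn3 := sgn3 }⟩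

end Core

section Consequences

variable {P : Type u} [Group P]

theorem det_trick {R : Type*} [CommRing R] (u1 u2 u3 v1 v2 v3 m1 m2 m3 n1 n2 n3 : R)
    (h11 : u1 * m1 + v1 * n1 = 2) (h12 : u1 * m2 + v1 * n2 = 0) (h13 : u1 * m3 + v1 * n3 = 0)
    (h21 : u2 * m1 + v2 * n1 = 0) (h22 : u2 * m2 + v2 * n2 = 2) (h23 : u2 * m3 + v2 * n3 = 0)
    (h31 : u3 * m1 + v3 * n1 = 0) (h32 : u3 * m2 + v3 * n2 = 0) (h33 : u3 * m3 + v3 * n3 = 2) :
    (8 : R) = 0 := by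
  have key : (u1 * m1 + v1 * n1) * ((u2 * m2 + v2 * n2) * (u3 * m3 + v3 * n3) -
        (u2 * m3 + v2 * n3) * (u3 * m2 + v3 * n2)) -
      (u1 * m2 + v1 * n2) * ((u2 * m1 + v2 * n1) * (u3 * m3 + v3 * n3) -
        (u2 * m3 + v2 * n3) * (u3 * m1 + v3 * n1)) +
      (u1 * m3 + v1 * n3) * ((u2 * m1 + v2 * n1) * (u3 * m2 + v3 * n2) -
        (u2 * m2 + v2 * n2) * (u3 * m1 + v3 * n1)) = 0 := by ring
  rw [h11, h12, h13, h21, h22, h23, h31, h32, h33] at key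
  norm_num at key
  exact key

theorem zmod_of_zpow [Finite P] {p : ℕ} (hp : p.Prime) (hP : IsPGroup p P) {g : P} (hg : g ≠ 1)
    {k l : ℤ} (h : g ^ k = g ^ l) : (k : ZMod p) = (l : ZMod p) := by
  haveI : Fact p.Prime := ⟨hp⟩
  obtain ⟨a, ha⟩ := (IsPGroup.iff_orderOf.mp hP) g
  have ha0 : a ≠ 0 := by
    intro h0
    rw [h0, pow_zero, orderOf_eq_one_iff] at ha
    exact hg ha
  have h1 : g ^ (l - k) = 1 := by rw [zpow_sub, h, mul_inv_cancel]
  have h2 := orderOf_dvd_iff_zpow_eq_one.mpr h1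
  rw [ha] at h2
  have h3 : (p : ℤ) ∣ l - k := by
    refine dvd_trans ?_ h2
    push_cast
    exact dvd_pow_self _ ha0
  exact (ZMod.intCast_eq_intCast_iff_dvd_sub k l p).mpr h3

variable {I : Subgroup (MulAut P)} {g1 g2 g3 : P} {e1 e2 e3 t1 t2 t3 : MulAut P}

theorem Str.w_inv (h : Str I g1 g2 g3 e1 e2 e3 t1 t2 t3) : ∀ x, (e1 * e2 * e3) x = x⁻¹ := by
  letI : CommGroup P := { (inferInstance : Group P) with mul_comm := h.comm }
  have : (e1 * e2 * e3).toMonoidHom = (invMonoidHom : P →* P) := by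
    apply MonoidHom.eq_of_eqOn_dense h.gen
    intro x hx
    rcases hx with rfl | rfl | rfl
    · show (e1 * e2 * e3) x = x⁻¹
      rw [MulAut.mul_apply, MulAut.mul_apply, h.e3g1, h.e2g1, h.e1g1]
    · show (e1 * e2 * e3) x = x⁻¹
      rw [MulAut.mul_apply, MulAut.mul_apply, h.e3g2, h.e2g2, map_inv, h.e1g2]
    · show (e1 * e2 * e3) x = x⁻¹
      rw [MulAut.mul_apply, MulAut.mul_apply, h.e3g3, map_inv, h.e2g3, map_inv, h.e1g3]
  intro x
  exact DFunLike.congr_fun this x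

theorem Str.classify (h : Str I g1 g2 g3 e1 e2 e3 t1 t2 t3) : ∀ T ∈ I,
    T = 1 ∨ T = e1 ∨ T = e2 ∨ T = e3 ∨ T = t1 ∨ T = t2 ∨ T = t3 ∨ T = e1 * e2 * e3 := by
  intro T hT
  have hw := h.w_inv
  rcases h.sgn1 T hT with a1 | a1 <;> rcases h.sgn2 T hT with a2 | a2 <;>
    rcases h.sgn3 T hT with a3 | a3
  · left
    exact ext3 h.gen (by rw [a1]; rfl) (by rw [a2]; rfl) (by rw [a3]; rfl)
  · right; right; right; left
    exact ext3 h.gen (by rw [a1, h.e3g1]) (by rw [a2, h.e3g2]) (by rw [a3, h.e3g3])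
  · right; right; left
    exact ext3 h.gen (by rw [a1, h.e2g1]) (by rw [a2, h.e2g2]) (by rw [a3, h.e2g3])
  · right; right; right; right; left
    exact ext3 h.gen (by rw [a1, h.t1g1]) (by rw [a2, h.t1g2]) (by rw [a3, h.t1g3])
  · right; left
    exact ext3 h.gen (by rw [a1, h.e1g1]) (by rw [a2, h.e1g2]) (by rw [a3, h.e1g3])
  · right; right; right; right; right; left
    exact ext3 h.gen (by rw [a1, h.t2g1]) (by rw [a2, h.t2g2]) (by rw [a3, h.t2g3])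
  · right; right; right; right; right; right; left
    exact ext3 h.gen (by rw [a1, h.t3g1]) (by rw [a2, h.t3g2]) (by rw [a3, h.t3g3])
  · right; right; right; right; right; right; right
    exact ext3 h.gen (by rw [a1, hw]) (by rw [a2, hw]) (by rw [a3, hw])

theorem Str.e12 (h : Str I g1 g2 g3 e1 e2 e3 t1 t2 t3) : e1 * e2 = t3 := by
  apply ext3 h.gen
  · rw [MulAut.mul_apply, h.e2g1, h.e1g1, h.t3g1]
  · rw [MulAut.mul_apply, h.e2g2, map_inv, h.e1g2, h.t3g2]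
  · rw [MulAut.mul_apply, h.e2g3, h.e1g3, h.t3g3]

theorem Str.e13 (h : Str I g1 g2 g3 e1 e2 e3 t1 t2 t3) : e1 * e3 = t2 := by
  apply ext3 h.gen
  · rw [MulAut.mul_apply, h.e3g1, h.e1g1, h.t2g1]
  · rw [MulAut.mul_apply, h.e3g2, h.e1g2, h.t2g2]
  · rw [MulAut.mul_apply, h.e3g3, map_inv, h.e1g3, h.t2g3]

theorem Str.e23 (h : Str I g1 g2 g3 e1 e2 e3 t1 t2 t3) : e2 * e3 = t1 := by
  apply ext3 h.gen
  · rw [MulAut.mul_apply, h.e3g1, h.e2g1, h.t1g1]
  · rw [MulAut.mul_apply, h.e3g2, h.e2g2, h.t1g2]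
  · rw [MulAut.mul_apply, h.e3g3, map_inv, h.e2g3, h.t1g3]

section Odd

variable [Finite P] {p : ℕ} (hp : p.Prime) (hp2 : p ≠ 2) (hP : IsPGroup p P)
include hp hp2 hP

theorem inv_ne_self {g : P} (hg : g ≠ 1) : g⁻¹ ≠ g := fun h =>
  hg (eq_one_of_eq_inv hp hp2 hP h.symm)

theorem not_cyc {I : Subgroup (MulAut P)} (hI : Cfsg.IsElementaryAbelian 2 I) {e e' : MulAut P}
    (he : e ∈ I) (he' : e' ∈ I) {y z : P} (hy : y ≠ 1) (hz : z ≠ 1)
    (hey : e y = y) (hez : e z = z) (hy' : e' y = y⁻¹) (hz' : e' z = z) :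
    ¬ ∃ g : P, ∀ x : P, (e x = x ↔ x ∈ Subgroup.zpowers g) := by
  rintro ⟨g, hg⟩
  have hT2 : ∀ x, e' (e' x) = x := by
    intro x
    rw [← MulAut.mul_apply, ea_sq hI he', MulAut.one_apply]
  rcases act_on_gen hp hp2 hP (ea_comm hI he' he) hT2 hg with h1 | h1
  · have := fix_of_fix_gen h1 y ((hg y).mp hey)
    rw [hy'] at this
    exact inv_ne_self hp hp2 hP hy this
  · have := inv_of_inv_gen h1 z ((hg z).mp hez)
    rw [hz'] at this
    exact inv_ne_self hp hp2 hP hz this.symm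

theorem Str.bad1 (h : Str I g1 g2 g3 e1 e2 e3 t1 t2 t3) (hI : Cfsg.IsElementaryAbelian 2 I) :
    ¬ ∃ g : P, ∀ x : P, (e1 x = x ↔ x ∈ Subgroup.zpowers g) :=
  not_cyc hp hp2 hP hI h.e1I h.e2I h.g2ne h.g3ne h.e1g2 h.e1g3 h.e2g2 h.e2g3

theorem Str.bad2 (h : Str I g1 g2 g3 e1 e2 e3 t1 t2 t3) (hI : Cfsg.IsElementaryAbelian 2 I) :
    ¬ ∃ g : P, ∀ x : P, (e2 x = x ↔ x ∈ Subgroup.zpowers g) :=
  not_cyc hp hp2 hP hI h.e2I h.e1I h.g1ne h.g3ne h.e2g1 h.e2g3 h.e1g1 h.e1g3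

theorem Str.bad3 (h : Str I g1 g2 g3 e1 e2 e3 t1 t2 t3) (hI : Cfsg.IsElementaryAbelian 2 I) :
    ¬ ∃ g : P, ∀ x : P, (e3 x = x ↔ x ∈ Subgroup.zpowers g) :=
  not_cyc hp hp2 hP hI h.e3I h.e1I h.g1ne h.g2ne h.e3g1 h.e3g2 h.e1g1 h.e1g2

theorem Str.good_w (h : Str I g1 g2 g3 e1 e2 e3 t1 t2 t3) :
    ∃ g : P, ∀ x : P, ((e1 * e2 * e3) x = x ↔ x ∈ Subgroup.zpowers g) := by
  refine ⟨1, fun x => ?_⟩
  rw [h.w_inv, Subgroup.zpowers_one_eq_bot, Subgroup.mem_bot]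
  constructor
  · intro hx
    exact eq_one_of_eq_inv hp hp2 hP hx.symm
  · intro hx
    rw [hx, inv_one]

theorem Str.ne (h : Str I g1 g2 g3 e1 e2 e3 t1 t2 t3) :
    e1 ≠ 1 ∧ e2 ≠ 1 ∧ e3 ≠ 1 ∧ e1 ≠ e2 ∧ e1 ≠ e3 ∧ e2 ≠ e3 := by
  have n1 := inv_ne_self hp hp2 hP h.g1ne
  have n2 := inv_ne_self hp hp2 hP h.g2ne
  have n3 := inv_ne_self hp hp2 hP h.g3ne
  refine ⟨?_, ?_, ?_, ?_, ?_, ?_⟩
  · intro h0
    have := h.e1g1
    rw [h0, MulAut.one_apply] at this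
    exact n1 this.symm
  · intro h0
    have := h.e2g2
    rw [h0, MulAut.one_apply] at this
    exact n2 this.symm
  · intro h0
    have := h.e3g3
    rw [h0, MulAut.one_apply] at this
    exact n3 this.symm
  · intro h0
    have := h.e1g1
    rw [h0, h.e2g1] at this
    exact n1 this.symm
  · intro h0
    have := h.e1g1
    rw [h0, h.e3g1] at this
    exact n1 this.symm
  · intro h0
    have := h.e2g2
    rw [h0, h.e3g2] at this
    exact n2 this.symm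

end Odd

section TwoGen

variable {P : Type u} [Group P]

theorem proj_mem (hcomm : ∀ x y : P, x * y = y * x) {e τ : MulAut P} {g : P}
    (hτ : ∀ x, τ x = x ↔ x ∈ Subgroup.zpowers g) (he2 : ∀ x, e (e x) = x)
    (hτe : ∀ y, τ y = (e y)⁻¹) : ∀ x, x * (e x)⁻¹ ∈ Subgroup.zpowers g := by
  intro x
  rw [← hτ]
  rw [map_mul, map_inv, hτe x, hτe (e x), he2, inv_inv]
  exact hcomm _ _

theorem proj_pow (hcomm : ∀ x y : P, x * y = y * x) (e : MulAut P) (a b : P) (m n : ℤ) :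
    (a ^ m * b ^ n) * (e (a ^ m * b ^ n))⁻¹ = (a * (e a)⁻¹) ^ m * (b * (e b)⁻¹) ^ n := by
  letI : CommGroup P := { (inferInstance : Group P) with mul_comm := hcomm }
  rw [map_mul, map_zpow, map_zpow, mul_zpow, mul_zpow, inv_zpow, inv_zpow, mul_inv]
  exact mul_mul_mul_comm _ _ _ _

variable {I : Subgroup (MulAut P)} {g1 g2 g3 : P} {e1 e2 e3 t1 t2 t3 : MulAut P}

theorem Str.t1_apply (h : Str I g1 g2 g3 e1 e2 e3 t1 t2 t3) : ∀ y, t1 y = (e1 y)⁻¹ := by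
  have : t1 = e1 * e2 * e3 * e1 := by
    apply ext3 h.gen
    · rw [MulAut.mul_apply, h.w_inv, h.e1g1, inv_inv, h.t1g1]
    · rw [MulAut.mul_apply, h.w_inv, h.e1g2, h.t1g2]
    · rw [MulAut.mul_apply, h.w_inv, h.e1g3, h.t1g3]
  intro y
  rw [this, MulAut.mul_apply, h.w_inv]

theorem Str.t2_apply (h : Str I g1 g2 g3 e1 e2 e3 t1 t2 t3) : ∀ y, t2 y = (e2 y)⁻¹ := by
  have : t2 = e1 * e2 * e3 * e2 := by
    apply ext3 h.gen
    · rw [MulAut.mul_apply, h.w_inv, h.e2g1, h.t2g1]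
    · rw [MulAut.mul_apply, h.w_inv, h.e2g2, inv_inv, h.t2g2]
    · rw [MulAut.mul_apply, h.w_inv, h.e2g3, h.t2g3]
  intro y
  rw [this, MulAut.mul_apply, h.w_inv]

theorem Str.t3_apply (h : Str I g1 g2 g3 e1 e2 e3 t1 t2 t3) : ∀ y, t3 y = (e3 y)⁻¹ := by
  have : t3 = e1 * e2 * e3 * e3 := by
    apply ext3 h.gen
    · rw [MulAut.mul_apply, h.w_inv, h.e3g1, h.t3g1]
    · rw [MulAut.mul_apply, h.w_inv, h.e3g2, h.t3g2]
    · rw [MulAut.mul_apply, h.w_inv, h.e3g3, inv_inv, h.t3g3]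
  intro y
  rw [this, MulAut.mul_apply, h.w_inv]

theorem Str.not_two_gen [Finite P] {p : ℕ} (hp : p.Prime) (hp2 : p ≠ 2) (hP : IsPGroup p P)
    (h : Str I g1 g2 g3 e1 e2 e3 t1 t2 t3) (hI : Cfsg.IsElementaryAbelian 2 I) :
    ¬ ∃ a b : P, Subgroup.closure {a, b} = ⊤ := by
  rintro ⟨a, b, hab⟩
  have hmem : ∀ g : P, ∃ m n : ℤ, a ^ m * b ^ n = g := by
    intro g
    letI : CommGroup P := { (inferInstance : Group P) with mul_comm := h.comm }
    have : g ∈ Subgroup.closure {a, b} := by rw [hab]; trivial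
    exact Subgroup.mem_closure_pair.mp this
  obtain ⟨m1, n1, hg1⟩ := hmem g1
  obtain ⟨m2, n2, hg2⟩ := hmem g2
  obtain ⟨m3, n3, hg3⟩ := hmem g3
  have he2 : ∀ e ∈ I, ∀ x, e (e x) = x := by
    intro e he x
    rw [← MulAut.mul_apply, ea_sq hI he, MulAut.one_apply]
  have R1 := proj_mem h.comm h.fix1 (he2 e1 h.e1I) h.t1_apply
  have R2 := proj_mem h.comm h.fix2 (he2 e2 h.e2I) h.t2_apply
  have R3 := proj_mem h.comm h.fix3 (he2 e3 h.e3I) h.t3_apply
  obtain ⟨u1, hu1⟩ := Subgroup.mem_zpowers_iff.mp (R1 a)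
  obtain ⟨v1, hv1⟩ := Subgroup.mem_zpowers_iff.mp (R1 b)
  obtain ⟨u2, hu2⟩ := Subgroup.mem_zpowers_iff.mp (R2 a)
  obtain ⟨v2, hv2⟩ := Subgroup.mem_zpowers_iff.mp (R2 b)
  obtain ⟨u3, hu3⟩ := Subgroup.mem_zpowers_iff.mp (R3 a)
  obtain ⟨v3, hv3⟩ := Subgroup.mem_zpowers_iff.mp (R3 b)
  have key : ∀ (e : MulAut P) (g : P) (u v : ℤ), g ^ u = a * (e a)⁻¹ → g ^ v = b * (e b)⁻¹ →
      ∀ (m n : ℤ) (g' : P), a ^ m * b ^ n = g' → g ^ (u * m + v * n) = g' * (e g')⁻¹ := by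
    intro e g u v hu hv m n g' hg'
    rw [← hg', proj_pow h.comm, ← hu, ← hv, ← zpow_mul, ← zpow_mul, ← zpow_add]
  -- the nine congruences
  have two : ∀ (e : MulAut P) (g : P) (k : ℤ), g ≠ 1 → e g = g⁻¹ → g ^ k = g * (e g)⁻¹ →
      (k : ZMod p) = 2 := by
    intro e g k hg heg hk
    rw [heg, inv_inv] at hk
    have : g ^ k = g ^ (2 : ℤ) := by rw [hk, zpow_two]
    have := zmod_of_zpow hp hP hg this
    rw [this]; norm_cast
  have zero : ∀ (e : MulAut P) (g g' : P) (k : ℤ), g ≠ 1 → e g' = g' → g ^ k = g' * (e g')⁻¹ →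
      (k : ZMod p) = 0 := by
    intro e g g' k hg heg hk
    rw [heg, mul_inv_cancel] at hk
    have : g ^ k = g ^ (0 : ℤ) := by rw [hk, zpow_zero]
    have := zmod_of_zpow hp hP hg this
    rw [this]; norm_cast
  have E11 := two e1 g1 _ h.g1ne h.e1g1 (key e1 g1 u1 v1 hu1 hv1 m1 n1 g1 hg1)
  have E12 := zero e1 g1 g2 _ h.g1ne h.e1g2 (key e1 g1 u1 v1 hu1 hv1 m2 n2 g2 hg2)
  have E13 := zero e1 g1 g3 _ h.g1ne h.e1g3 (key e1 g1 u1 v1 hu1 hv1 m3 n3 g3 hg3)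
  have E21 := zero e2 g2 g1 _ h.g2ne h.e2g1 (key e2 g2 u2 v2 hu2 hv2 m1 n1 g1 hg1)
  have E22 := two e2 g2 _ h.g2ne h.e2g2 (key e2 g2 u2 v2 hu2 hv2 m2 n2 g2 hg2)
  have E23 := zero e2 g2 g3 _ h.g2ne h.e2g3 (key e2 g2 u2 v2 hu2 hv2 m3 n3 g3 hg3)
  have E31 := zero e3 g3 g1 _ h.g3ne h.e3g1 (key e3 g3 u3 v3 hu3 hv3 m1 n1 g1 hg1)
  have E32 := zero e3 g3 g2 _ h.g3ne h.e3g2 (key e3 g3 u3 v3 hu3 hv3 m2 n2 g2 hg2)
  have E33 := two e3 g3 _ h.g3ne h.e3g3 (key e3 g3 u3 v3 hu3 hv3 m3 n3 g3 hg3)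
  push_cast at E11 E12 E13 E21 E22 E23 E31 E32 E33
  have h8 := det_trick (R := ZMod p) u1 u2 u3 v1 v2 v3 m1 m2 m3 n1 n2 n3
    E11 E12 E13 E21 E22 E23 E31 E32 E33
  have h8' : ((8 : ℕ) : ZMod p) = 0 := by exact_mod_cast h8
  have h9 : p ∣ 8 := (ZMod.natCast_eq_zero_iff 8 p).mp h8'
  have h10 : p ∣ 2 := by
    have : (8 : ℕ) = 2 ^ 3 := by norm_num
    rw [this] at h9
    exact Nat.Prime.dvd_of_dvd_pow hp h9
  exact hp2 ((Nat.prime_dvd_prime_iff_eq hp Nat.prime_two).mp h10)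

end TwoGen

end Consequences





/-- Let p be an odd prime, P a finite p-group and I an elementary abelian subgroup of order 8 of Aut(P). Call T ∈ I, T ≠ 1, broad when its fixed-point subgroup C_P(T) is not cyclic. Suppose I has a proper subgroup I₀ containing no broad element such that the product of any two broad elements lies in I₀. Then P is abelian of rank exactly 3 (generated by three elements but not by two), there are exactly three broad elements and they generate I, and I₀ is exactly the set of products of two broad elements. -/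
theorem result
    {P : Type*} [Group P] [Finite P] (p : ℕ) (hp : p.Prime) (hp2 : p ≠ 2) (hP : IsPGroup p P)
    (I : Subgroup (MulAut P)) (hI : Cfsg.IsElementaryAbelian 2 I) (hI8 : Nat.card ↥I = 8)
    (I₀ : Subgroup (MulAut P)) (hI₀ : I₀ < I)
    (hdisj : ∀ T ∈ I₀, T ≠ 1 → ∃ g : P, ∀ x : P, (T x = x ↔ x ∈ Subgroup.zpowers g))
    (hprod : ∀ T ∈ I, ∀ T' ∈ I, T ≠ 1 → T' ≠ 1 → (¬ ∃ g : P, ∀ x : P, (T x = x ↔ x ∈ Subgroup.zpowers g)) →
      (¬ ∃ g : P, ∀ x : P, (T' x = x ↔ x ∈ Subgroup.zpowers g)) → T * T' ∈ I₀) :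
    IsMulCommutative P ∧ (∃ a b c : P, Subgroup.closure {a, b, c} = ⊤) ∧ (¬ ∃ a b : P, Subgroup.closure {a, b} = ⊤) ∧
      Nat.card {T : MulAut P // T ∈ I ∧ T ≠ 1 ∧ ¬ ∃ g : P, ∀ x : P, (T x = x ↔ x ∈ Subgroup.zpowers g)} = 3 ∧
      Subgroup.closure {T : MulAut P | T ∈ I ∧ T ≠ 1 ∧ ¬ ∃ g : P, ∀ x : P, (T x = x ↔ x ∈ Subgroup.zpowers g)} = I ∧
      (I₀ : Set (MulAut P)) = {S : MulAut P | ∃ T T' : MulAut P, T ∈ I ∧ T' ∈ I ∧ T ≠ 1 ∧ T' ≠ 1 ∧
        (¬ ∃ g : P, ∀ x : P, (T x = x ↔ x ∈ Subgroup.zpowers g)) ∧ (¬ ∃ g : P, ∀ x : P, (T' x = x ↔ x ∈ Subgroup.zpowers g)) ∧ S = T * T'} := by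
  obtain ⟨t1, h1I, t2, h2I, -, -, -, c1, c2, c3⟩ := exists_klein I I₀ hI hI8 hI₀
    (fun T => ¬ ∃ g : P, ∀ x : P, (T x = x ↔ x ∈ Subgroup.zpowers g))
    (fun T hT hT1 => not_not.mpr (hdisj T hT hT1)) hprod
  obtain ⟨g1, hg1⟩ := not_not.mp c1
  obtain ⟨g2, hg2⟩ := not_not.mp c2
  obtain ⟨g3, hg3⟩ := not_not.mp c3
  obtain ⟨e1, e2, e3, h⟩ := core hp hp2 hP I hI hI8 h1I h2I hg1 hg2 hg3
  obtain ⟨n1, n2, n3, n12, n13, n23⟩ := h.ne hp hp2 hP
  have b1 := h.bad1 hp hp2 hP hI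
  have b2 := h.bad2 hp hp2 hP hI
  have b3 := h.bad3 hp hp2 hP hI
  have hset : {T : MulAut P | T ∈ I ∧ T ≠ 1 ∧ ¬ ∃ g : P, ∀ x : P, (T x = x ↔ x ∈ Subgroup.zpowers g)}
      = {e1, e2, e3} := by
    ext T
    constructor
    · rintro ⟨hT, hT1, hTb⟩
      rcases h.classify T hT with rfl | rfl | rfl | rfl | rfl | rfl | rfl | rfl
      · exact absurd rfl hT1
      · simp
      · simp
      · simp
      · exact absurd ⟨g1, hg1⟩ hTb
      · exact absurd ⟨g2, hg2⟩ hTb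
      · exact absurd ⟨g3, hg3⟩ hTb
      · exact absurd (h.good_w hp hp2 hP) hTb
    · rintro (rfl | rfl | rfl)
      · exact ⟨h.e1I, n1, b1⟩
      · exact ⟨h.e2I, n2, b2⟩
      · exact ⟨h.e3I, n3, b3⟩
  refine ⟨⟨⟨h.comm⟩⟩, ⟨g1, g2, g3, h.gen⟩, h.not_two_gen hp hp2 hP hI, ?_, ?_, ?_⟩
  · show Nat.card ↥{T : MulAut P | T ∈ I ∧ T ≠ 1 ∧
      ¬ ∃ g : P, ∀ x : P, (T x = x ↔ x ∈ Subgroup.zpowers g)} = 3
    rw [Nat.card_coe_set_eq, hset, Set.ncard_eq_three]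
    exact ⟨e1, e2, e3, n12, n13, n23, rfl⟩
  · rw [hset]
    apply le_antisymm
    · rw [Subgroup.closure_le]
      rintro T (rfl | rfl | rfl)
      · exact h.e1I
      · exact h.e2I
      · exact h.e3I
    · intro T hT
      have m1 : e1 ∈ Subgroup.closure ({e1, e2, e3} : Set (MulAut P)) :=
        Subgroup.subset_closure (by simp)
      have m2 : e2 ∈ Subgroup.closure ({e1, e2, e3} : Set (MulAut P)) :=
        Subgroup.subset_closure (by simp)
      have m3 : e3 ∈ Subgroup.closure ({e1, e2, e3} : Set (MulAut P)) :=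
        Subgroup.subset_closure (by simp)
      rcases h.classify T hT with rfl | rfl | rfl | rfl | rfl | rfl | rfl | rfl
      · exact Subgroup.one_mem _
      · exact m1
      · exact m2
      · exact m3
      · rw [← h.e23]; exact Subgroup.mul_mem _ m2 m3
      · rw [← h.e13]; exact Subgroup.mul_mem _ m1 m3
      · rw [← h.e12]; exact Subgroup.mul_mem _ m1 m2
      · exact Subgroup.mul_mem _ (Subgroup.mul_mem _ m1 m2) m3
  · ext S
    constructor
    · intro hS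
      have hS' : S ∈ I₀ := hS
      have hSI : S ∈ I := hI₀.le hS'
      have h12 : e1 * e2 ∈ I₀ := hprod e1 h.e1I e2 h.e2I n1 n2 b1 b2
      rcases h.classify S hSI with rfl | rfl | rfl | rfl | rfl | rfl | rfl | rfl
      · exact ⟨e1, e1, h.e1I, h.e1I, n1, n1, b1, b1, (ea_sq hI h.e1I).symm⟩
      · exact absurd (hdisj _ hS' n1) b1
      · exact absurd (hdisj _ hS' n2) b2
      · exact absurd (hdisj _ hS' n3) b3
      · exact ⟨e2, e3, h.e2I, h.e3I, n2, n3, b2, b3, h.e23.symm⟩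
      · exact ⟨e1, e3, h.e1I, h.e3I, n1, n3, b1, b3, h.e13.symm⟩
      · exact ⟨e1, e2, h.e1I, h.e2I, n1, n2, b1, b2, h.e12.symm⟩
      · exfalso
        have : e3 ∈ I₀ := by
          have e : e3 = (e1 * e2)⁻¹ * (e1 * e2 * e3) := by group
          rw [e]
          exact I₀.mul_mem (I₀.inv_mem h12) hS'
        exact absurd (hdisj _ this n3) b3
    · rintro ⟨T, T', hT, hT', hT1, hT'1, hTb, hT'b, rfl⟩
      exact hprod T hT T' hT' hT1 hT'1 hTb hT'b

end Cfsg.Agent.S4412
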