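import Cfsg.Statements.S4413
import Cfsg.Agent.Lib.Helper63_ES32
import Cfsg.Agent.Lib.Helper89_ESClass
import Cfsg.Agent.Lib.Helper89_ESRank

set_option autoImplicit false
open Cfsg

namespace Cfsg.Agent.S4413

open Cfsg.Agent.Lib.Helper63_ES32 Cfsg.Agent.Lib.Helper89_ESClass Cfsg.Agent.Lib.Helper89_ESRank
  Cfsg.Agent.S5396

/-- the abstract group is the model `M32` -/
theorem exists_iso_M32 {P : Type*} [Group P] [Finite P]
    (hex : Cfsg.IsExtraspecial 2 P) (h32 : Nat.card P = 32)
    (hminus : ∀ A : Subgroup P, Cfsg.IsElementaryAbelian 2 A → Nat.card ↥A ≤ 4) :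
    Nonempty (P ≃* M32) := by
  obtain ⟨m, b, ⟨Φ⟩⟩ := exists_iso_std hex
  have hc := card_eq_of_iso Φ
  rw [h32] at hc
  have hm : 2 = m := eq_of_card_eq (m := 2) (m' := m) (by rw [← hc]; norm_num)
  subst hm
  have hrk : PRankLE 2 2 P := fun A hA hexp => hminus A ⟨hA, hexp⟩
  cases b with
  | false =>
    exfalso
    rw [eStd_false] at Φ
    exact not_prankLE_plus 2 (prankLE_congr Φ.symm hrk)
  | true =>
    rw [eStd_true 2 (by norm_num)] at Φ
    exact ⟨Φ.symm.trans (M32.esIso _)⟩

/-- Let P be an extraspecial 2-group of order 32 with no elementary abelian subgroup of order 8 (the central product of a dihedral and a quaternion group of order 8). Then the inner automorphism group of P has order 16 and the outer automorphism group Aut(P)/Inn(P) is isomorphic to the symmetric group of degree 5; in particular Aut(P) has order 1920. -/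
theorem result {P : Type*} [Group P] [Finite P]
    (hex : Cfsg.IsExtraspecial 2 P) (h32 : Nat.card P = 32)
    (hminus : ∀ A : Subgroup P, Cfsg.IsElementaryAbelian 2 A → Nat.card ↥A ≤ 4)
    [(MulAut.conj : P →* MulAut P).range.Normal] :
    Nat.card ↥(MulAut.conj : P →* MulAut P).range = 16 ∧ Nat.card (MulAut P) = 1920 ∧
      Nonempty ((MulAut P ⧸ (MulAut.conj : P →* MulAut P).range) ≃* Equiv.Perm (Fin 5)) := by
  obtain ⟨e⟩ := exists_iso_M32 hex h32 hminus
  obtain ⟨Ω⟩ := out_iso e
  have h16 : Nat.card ↥(MulAut.conj : P →* MulAut P).range = 16 := by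
    rw [← Subgroup.index_ker]
    have hk : (MulAut.conj : P →* MulAut P).ker = Subgroup.center P := by
      ext g
      rw [MonoidHom.mem_ker, Subgroup.mem_center_iff]
      constructor
      · intro h y
        have h1 := DFunLike.congr_fun h y
        rw [MulAut.conj_apply, MulAut.one_apply] at h1
        calc y * g = g * y * g⁻¹ * g := by rw [h1]
          _ = g * y := by group
      · intro h
        refine MulEquiv.ext fun y => ?_
        rw [MulAut.conj_apply, MulAut.one_apply, ← h y]
        group
    rw [hk]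
    have h1 := Subgroup.card_mul_index (Subgroup.center P)
    rw [hex.2, h32] at h1
    omega
  refine ⟨h16, ?_, ⟨Ω⟩⟩
  rw [Subgroup.card_eq_card_quotient_mul_card_subgroup (MulAut.conj : P →* MulAut P).range, h16,
    Nat.card_congr Ω.toEquiv, Nat.card_eq_fintype_card, Fintype.card_perm, Fintype.card_fin]
  rfl

end Cfsg.Agent.S4413
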