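import Mathlib
import Cfsg.Statements.S4416
import Cfsg.Agent.S5396
import Cfsg.Agent.Lib.Helper89_ESClass
import Cfsg.Agent.Lib.Helper89_ESRank

set_option autoImplicit false
open Cfsg

namespace Cfsg.Agent.S4416

open Cfsg.Agent.S5396 Cfsg.Agent.Lib.Helper89_ESClass Cfsg.Agent.Lib.Helper89_ESRank

/-- the number of solutions of `x ^ 2 = 1` in the standard groups -/
theorem count_std (m : ℕ) (hm : 1 ≤ m) (b : Bool) :
    Nat.card {x : ES m (eStd m b) // x ^ 2 = 1} =
      if b = true then 2 ^ (2 * m) - 2 ^ m else 2 ^ (2 * m) + 2 ^ m := by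
  cases b with
  | true =>
    rw [eStd_true m hm, card_sq_minus m hm]
    simp
  | false =>
    rw [eStd_false, card_sq_plus m]
    simp

/-- Classification of extraspecial 2-groups in intrinsic form. An extraspecial 2-group has order 2^(2m+1) for some m ≥ 1, and the number of its elements squaring to the identity is either 2^(2m) + 2^m or 2^(2m) − 2^m; two extraspecial 2-groups of the same order with the same number of such elements are isomorphic. (The two cases are the central products of m dihedral groups of order 8, and of m − 1 dihedral groups with one quaternion group.) -/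
theorem result (E : Type*) [Group E] [Finite E] (hE : Cfsg.IsExtraspecial 2 E) :
    (∃ m : ℕ, 1 ≤ m ∧ Nat.card E = 2 ^ (2 * m + 1) ∧
      (Nat.card {x : E // x ^ 2 = 1} = 2 ^ (2 * m) + 2 ^ m ∨ Nat.card {x : E // x ^ 2 = 1} = 2 ^ (2 * m) - 2 ^ m)) ∧
    ∀ (E' : Type*) [Group E'] [Finite E'], Cfsg.IsExtraspecial 2 E' → Nat.card E' = Nat.card E →
      Nat.card {x : E' // x ^ 2 = 1} = Nat.card {x : E // x ^ 2 = 1} → Nonempty (E ≃* E') := by
  obtain ⟨m, b, ⟨Φ⟩⟩ := exists_iso_std hE
  have hm1 : 1 ≤ m := one_le_of_iso hE Φ
  have hcount := count_std m hm1 b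
  rw [card_sq_congr Φ] at hcount
  constructor
  · refine ⟨m, hm1, card_eq_of_iso Φ, ?_⟩
    cases b with
    | true => right; simpa using hcount
    | false => left; simpa using hcount
  · intro E' _ _ hE' hcard hcnt
    obtain ⟨m', b', ⟨Φ'⟩⟩ := exists_iso_std hE'
    have hm1' : 1 ≤ m' := one_le_of_iso hE' Φ'
    have hmm : m' = m := eq_of_card_eq (by rw [← card_eq_of_iso Φ', hcard, card_eq_of_iso Φ])
    subst hmm
    have hcount' := count_std m' hm1 b'
    rw [card_sq_congr Φ', hcnt, hcount] at hcount'
    have hpos : 0 < 2 ^ m' := by positivity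
    have hle : 2 ^ m' ≤ 2 ^ (2 * m') := Nat.pow_le_pow_right (by norm_num) (by omega)
    have hbb : b = b' := by
      cases b with
      | true =>
        cases b' with
        | true => rfl
        | false =>
          exfalso
          simp only [if_true, Bool.false_eq_true, if_false] at hcount'
          omega
      | false =>
        cases b' with
        | true =>
          exfalso
          simp only [if_true, Bool.false_eq_true, if_false] at hcount'
          omega
        | false => rfl
    subst hbb
    exact ⟨Φ.symm.trans Φ'⟩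

end Cfsg.Agent.S4416
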