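import Mathlib
import Cfsg.Statements.S4419
import Cfsg.Agent.S3969
import Cfsg.Agent.S4207
import Cfsg.Agent.S3839
import Cfsg.Agent.Lib.Helper1_Cores
import Cfsg.Agent.Lib.Helper1_Frattini
import Cfsg.Agent.Lib.Helper35_FrobeniusNPC
import Cfsg.Agent.Lib.Helper86_Coprime2

set_option autoImplicit false
open Cfsg

namespace Cfsg.Agent.S4419

section TwoGen

/-- powers of the automorphism induced on the abelianization -/
theorem of_surj {Q : Type*} [Group Q] :
    Function.Surjective (Abelianization.of : Q → Abelianization Q) :=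
  QuotientGroup.mk_surjective

theorem abCongr_pow {Q : Type*} [Group Q] (α : MulAut Q) (k : ℕ) (x : Q) :
    ((MulEquiv.abelianizationCongr α : MulAut (Abelianization Q)) ^ k) (Abelianization.of x) =
      Abelianization.of ((α ^ k) x) := by
  induction k generalizing x with
  | zero => simp
  | succ k ih =>
    rw [pow_succ, MulAut.mul_apply, pow_succ, MulAut.mul_apply]
    have : (MulEquiv.abelianizationCongr α : MulAut (Abelianization Q)) (Abelianization.of x) =
        Abelianization.of (α x) := abelianizationCongr_of α x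
    rw [this, ih]

/-- A `p'`-automorphism of a two-generated finite `p`-group whose order is prime to `p ^ 2 - 1` is
trivial. -/
theorem aut_eq_one_of_two_gen {Q : Type*} [Group Q] [Finite Q] {p : ℕ} [Fact p.Prime]
    (hQ : IsPGroup p Q) (a b : Q) (hab : Subgroup.closure ({a, b} : Set Q) = ⊤)
    (α : MulAut Q) (m : ℕ) (hm : α ^ m = 1) (hmp : Nat.Coprime m p)
    (hm2 : Nat.Coprime m (p ^ 2 - 1)) : α = 1 := by
  classical
  have hp : p.Prime := Fact.out
  -- step 1: trivial on the abelianization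
  set β : MulAut (Abelianization Q) := MulEquiv.abelianizationCongr α with hβ
  have hβm : β ^ m = 1 := by
    ext y
    obtain ⟨x, rfl⟩ := of_surj y
    rw [hβ, abCongr_pow, hm]
    simp
  have hPab : IsPGroup p (Abelianization Q) := hQ.to_quotient (commutator Q)
  set S : Finset (Abelianization Q) := {Abelianization.of a, Abelianization.of b} with hS
  have hSgen : Subgroup.closure (S : Set (Abelianization Q)) = ⊤ := by
    have h1 : (Subgroup.closure ({a, b} : Set Q)).map (Abelianization.of) =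
        Subgroup.closure ((Abelianization.of) '' ({a, b} : Set Q)) := MonoidHom.map_closure _ _
    rw [hab] at h1
    have h2 : (⊤ : Subgroup Q).map (Abelianization.of) = ⊤ := by
      rw [← MonoidHom.range_eq_map]
      exact MonoidHom.range_eq_top.mpr of_surj
    rw [h2] at h1
    rw [h1, hS]
    congr 1
    ext y
    simp [Set.image_insert_eq]
  have hcard : S.card ≤ 2 := by
    rw [hS]
    exact Finset.card_le_two
  have hdvd : (∏ i ∈ Finset.Icc 1 S.card, (p ^ i - 1)) ∣ (p ^ 2 - 1) * (p ^ 2 - 1) := by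
    have h1 : (p - 1) ∣ p ^ 2 - 1 := by
      have := Nat.sub_dvd_pow_sub_pow p 1 2
      simpa using this
    interval_cases h : S.card
    · simp
    · simp only [Finset.Icc_self, Finset.prod_singleton, pow_one]
      exact Dvd.dvd.mul_right h1 _
    · have : Finset.Icc 1 2 = {1, 2} := by decide
      rw [this, Finset.prod_insert (by decide), Finset.prod_singleton, pow_one]
      exact Nat.mul_dvd_mul h1 dvd_rfl
  have hcop : Nat.Coprime m (∏ i ∈ Finset.Icc 1 S.card, (p ^ i - 1)) :=
    Nat.Coprime.coprime_dvd_right hdvd (Nat.Coprime.mul_right hm2 hm2)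
  have hβ1 : β = 1 := Cfsg.Agent.S3969.core hPab β m hβm hmp S hSgen hcop
  -- step 2: trivial on the Frattini quotient
  have hfr : ∀ x : Q, α x * x⁻¹ ∈ frattini Q := by
    intro x
    apply Cfsg.Agent.Lib.Helper1_Frattini.commutator_le_frattini_of_isPGroup hQ
    have h1 : β (Abelianization.of x) = Abelianization.of x := by rw [hβ1]; rfl
    rw [hβ, abelianizationCongr_of] at h1
    have h2 : Abelianization.of (α x * x⁻¹) = 1 := by
      rw [map_mul, map_inv, h1, mul_inv_cancel]
    exact (QuotientGroup.eq_one_iff _).mp h2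
  -- step 3: Burnside
  obtain ⟨n, hn⟩ := hQ.exists_card_eq
  obtain ⟨r, hr⟩ := hQ.index (frattini Q)
  have hA : ∀ γ ∈ Subgroup.zpowers α, ∀ x : Q, γ x * x⁻¹ ∈ frattini Q := by
    intro γ hγ
    obtain ⟨k, rfl⟩ := Subgroup.mem_zpowers_iff.mp hγ
    -- the set of automorphisms trivial mod Frattini is a subgroup
    let T : Subgroup (MulAut Q) :=
      { carrier := {γ | ∀ x : Q, γ x * x⁻¹ ∈ frattini Q}
        one_mem' := fun x => by simp
        mul_mem' := by
          intro γ δ hγ hδ x
          have e : (γ * δ) x * x⁻¹ = γ (δ x * x⁻¹) * (γ x * x⁻¹) := by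
            rw [MulAut.mul_apply, map_mul, map_inv]; group
          rw [e]
          refine mul_mem ?_ (hγ x)
          have hchar : (frattini Q).Characteristic := frattini_characteristic
          have := (Subgroup.characteristic_iff_map_eq.mp hchar) γ
          rw [← this]
          exact Subgroup.mem_map_of_mem _ (hδ x)
        inv_mem' := by
          intro γ hγ x
          have hchar : (frattini Q).Characteristic := frattini_characteristic
          have hmap := (Subgroup.characteristic_iff_map_eq.mp hchar) γ⁻¹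
          have h1 := hγ (γ⁻¹ x)
          have h2 : γ (γ⁻¹ x) = x := by
            rw [← MulAut.mul_apply, mul_inv_cancel, MulAut.one_apply]
          rw [h2] at h1
          -- x * (γ⁻¹ x)⁻¹ ∈ Φ, apply γ⁻¹ ... simpler: inverse of it
          have h3 : γ⁻¹ x * x⁻¹ = (x * (γ⁻¹ x)⁻¹)⁻¹ := by group
          rw [h3]
          exact inv_mem h1 }
    have hαT : α ∈ T := hfr
    exact T.zpow_mem hαT k
  have hdiv := Cfsg.Agent.S4207.result hn hr (Subgroup.zpowers α) hA
  have hord : Nat.card (Subgroup.zpowers α) = orderOf α := Nat.card_zpowers α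
  have hordm : orderOf α ∣ m := orderOf_dvd_of_pow_eq_one hm
  rw [hord] at hdiv
  have hcop2 : Nat.Coprime (orderOf α) (p ^ (r * (n - r))) :=
    Nat.Coprime.pow_right _ (Nat.Coprime.coprime_dvd_left hordm hmp)
  have h1 : orderOf α = 1 := Nat.Coprime.eq_one_of_dvd hcop2 hdiv
  exact orderOf_eq_one_iff.mp h1

end TwoGen

section Meta

theorem isMetacyclic_of_mulEquiv {R R' : Type*} [Group R] [Group R'] (e : R ≃* R')
    (h : Cfsg.IsMetacyclic R) : Cfsg.IsMetacyclic R' := by
  obtain ⟨N, hN, hc, hq⟩ := h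
  have hN' : (N.map e.toMonoidHom).Normal := Subgroup.Normal.map hN _ e.surjective
  refine ⟨N.map e.toMonoidHom, hN', ?_, ?_⟩
  · exact (MulEquiv.isCyclic (e.subgroupMap N)).mp hc
  · exact (MulEquiv.isCyclic (QuotientGroup.congr N (N.map e.toMonoidHom) e rfl)).mp hq

/-- Every subgroup of a metacyclic group is generated by two elements. -/
theorem exists_two_gen {R : Type*} [Group R] (h : Cfsg.IsMetacyclic R) (H : Subgroup R) :
    ∃ a b : R, a ∈ H ∧ b ∈ H ∧ H = Subgroup.closure ({a, b} : Set R) := by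
  obtain ⟨N, hN, hc, hq⟩ := h
  have hc1 : IsCyclic ↥(H ⊓ N) := Subgroup.isCyclic_of_le (inf_le_right : H ⊓ N ≤ N)
  obtain ⟨a, ha⟩ := hc1.exists_generator
  have hc2 : IsCyclic ↥(H.map (QuotientGroup.mk' N)) := inferInstance
  obtain ⟨bb, hbb⟩ := hc2.exists_generator
  obtain ⟨b, hbH, hbeq⟩ := bb.2
  refine ⟨a, b, a.2.1, hbH, le_antisymm ?_ ?_⟩
  · intro h hh
    have h1 : (⟨QuotientGroup.mk' N h, Subgroup.mem_map_of_mem _ hh⟩ :
        ↥(H.map (QuotientGroup.mk' N))) ∈ Subgroup.zpowers bb := hbb _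
    obtain ⟨k, hk⟩ := Subgroup.mem_zpowers_iff.mp h1
    have hk' : (QuotientGroup.mk' N b) ^ k = QuotientGroup.mk' N h := by
      have := congrArg Subtype.val hk
      rw [Subgroup.coe_zpow] at this
      rw [hbeq]
      exact this
    have h2 : (b ^ k)⁻¹ * h ∈ N := by
      rw [← QuotientGroup.eq]
      have : ((b ^ k : R) : R ⧸ N) = (QuotientGroup.mk' N b) ^ k := by
        rw [← map_zpow]; rfl
      rw [this, hk']
      rfl
    have h3 : (b ^ k)⁻¹ * h ∈ H ⊓ N :=
      ⟨H.mul_mem (H.inv_mem (H.zpow_mem hbH k)) hh, h2⟩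
    obtain ⟨j, hj⟩ := Subgroup.mem_zpowers_iff.mp (ha ⟨_, h3⟩)
    have hj' : (a : R) ^ j = (b ^ k)⁻¹ * h := by
      have := congrArg Subtype.val hj
      rwa [Subgroup.coe_zpow] at this
    have h4 : h = b ^ k * (a : R) ^ j := by rw [hj']; group
    rw [h4]
    exact Subgroup.mul_mem _
      (Subgroup.zpow_mem _ (Subgroup.subset_closure (by simp)) k)
      (Subgroup.zpow_mem _ (Subgroup.subset_closure (by simp)) j)
  · rw [Subgroup.closure_le]
    intro x hx
    rcases hx with rfl | rfl
    · exact a.2.1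
    · exact hbH

end Meta

section Main

open Cfsg.Agent.Lib.Helper35_FrobeniusNPC Cfsg.Agent.Lib.Helper1_Cores

variable {G : Type*} [Group G] [Finite G] {p : ℕ} [Fact p.Prime]

/-- every `p`-subgroup is generated by two elements when the Sylow `p`-subgroups are metacyclic -/
theorem exists_two_gen_of_sylow (S : Sylow p G) (hS : Cfsg.IsMetacyclic ↥(S : Subgroup G))
    (Q : Subgroup G) (hQ : IsPGroup p Q) :
    ∃ a b : G, Q = Subgroup.closure ({a, b} : Set G) := by
  obtain ⟨P', hQP'⟩ := hQ.exists_le_sylow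
  obtain ⟨g, hg⟩ := MulAction.exists_smul_eq G S P'
  have hP' : Cfsg.IsMetacyclic ↥(P' : Subgroup G) := by
    rw [← hg]
    exact isMetacyclic_of_mulEquiv (S.equivSMul g) hS
  obtain ⟨a, b, _, _, hab⟩ := exists_two_gen hP' (Q.subgroupOf (P' : Subgroup G))
  refine ⟨a, b, ?_⟩
  have h1 : (Q.subgroupOf (P' : Subgroup G)).map (P' : Subgroup G).subtype = Q := by
    rw [Subgroup.map_subgroupOf_eq_of_le hQP']
  rw [← h1, hab, MonoidHom.map_closure]
  congr 1
  ext y
  simp [Set.image_insert_eq]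

theorem frobHyp (S : Sylow p G) (hS : Cfsg.IsMetacyclic ↥(S : Subgroup G))
    (hcop : Nat.Coprime (Nat.card (G ⧸ Cfsg.pPrimePCore p G)) (p ^ 2 - 1)) : FrobHyp p G := by
  have hp : p.Prime := Fact.out
  intro Q hQ g hg hgo
  apply Cfsg.Agent.Lib.Helper86_Coprime2.mem_of_prime_pow_mem _ (orderOf g) g rfl (orderOf_pos g)
  rintro b hb ⟨q, k, hq, hbo⟩
  have hbN : b ∈ Subgroup.normalizer (Q : Set G) := (Subgroup.zpowers_le.mpr hg) hb
  have hbdvd : orderOf b ∣ orderOf g := orderOf_dvd_of_mem_zpowers hb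
  have hbp : Nat.Coprime (q ^ k) p := by
    rw [← hbo]
    exact Nat.Coprime.coprime_dvd_left hbdvd hgo
  have hbpow : b ^ (q ^ k) = 1 := by rw [← hbo]; exact pow_orderOf_eq_one b
  by_cases hq2 : q ∣ p ^ 2 - 1
  · -- `b` lies in `O_{p',p}(G)`, hence in `O_{p'}(G)`
    have hq3 : ¬ q ∣ Nat.card (G ⧸ Cfsg.pPrimePCore p G) := fun h =>
      hq.one_lt.ne' (Nat.eq_one_of_dvd_coprimes hcop h hq2)
    set K := Cfsg.pPrimeCore p G with hK
    have hKn : K.Normal := Cfsg.Agent.Lib.Helper1_Cores.pPrimeCore_normal p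
    have hL : b ∈ Cfsg.pPrimePCore p G := by
      have hLn : (Cfsg.pPrimePCore p G).Normal := by
        unfold Cfsg.pPrimePCore
        exact Subgroup.Normal.comap (Cfsg.Agent.Lib.Helper1_Cores.pCore_normal p) _
      rw [← QuotientGroup.eq_one_iff]
      have h1 : orderOf ((b : G) : G ⧸ Cfsg.pPrimePCore p G) ∣ q ^ k := by
        apply orderOf_dvd_of_pow_eq_one
        rw [← QuotientGroup.mk_pow, hbpow]
        rfl
      have h2 : orderOf ((b : G) : G ⧸ Cfsg.pPrimePCore p G) ∣
          Nat.card (G ⧸ Cfsg.pPrimePCore p G) := orderOf_dvd_natCard _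
      have h3 : Nat.Coprime (q ^ k) (Nat.card (G ⧸ Cfsg.pPrimePCore p G)) :=
        Nat.Coprime.pow_left k ((Nat.Prime.coprime_iff_not_dvd hq).mpr hq3)
      exact orderOf_eq_one_iff.mp (Nat.eq_one_of_dvd_coprimes h3 h1 h2)
    have hbK : b ∈ K := by
      unfold Cfsg.pPrimePCore at hL
      rw [Subgroup.mem_comap] at hL
      have hpg : IsPGroup p (Cfsg.pCore p (G ⧸ Cfsg.pPrimeCore p G)) := Cfsg.Agent.Lib.Helper1_Cores.pCore_isPGroup p
      obtain ⟨j, hj⟩ := hpg ⟨_, hL⟩
      have hj' : (QuotientGroup.mk' (Cfsg.pPrimeCore p G) b) ^ (p ^ j) = 1 := by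
        have := congrArg Subtype.val hj
        simpa using this
      have h1 : orderOf (QuotientGroup.mk' (Cfsg.pPrimeCore p G) b) ∣ p ^ j :=
        orderOf_dvd_of_pow_eq_one hj'
      have h2 : orderOf (QuotientGroup.mk' (Cfsg.pPrimeCore p G) b) ∣ q ^ k := by
        apply orderOf_dvd_of_pow_eq_one
        rw [← map_pow, hbpow, map_one]
      have h3 : Nat.Coprime (q ^ k) (p ^ j) := Nat.Coprime.pow_right j hbp
      have h4 := orderOf_eq_one_iff.mp (Nat.eq_one_of_dvd_coprimes h3 h2 h1)
      exact (QuotientGroup.eq_one_iff b).mp h4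
    have hKc : (Nat.card K).Coprime p := Cfsg.Agent.Lib.Helper1_Cores.pPrimeCore_card_coprime p
    obtain ⟨e, he⟩ := IsPGroup.iff_card.mp hQ
    have hdisj : Q ⊓ K = ⊥ := by
      apply disjoint_iff.mp
      apply Subgroup.disjoint_of_coprime_natCard
      rw [he]
      exact (Nat.Coprime.pow_right e hKc).symm
    rw [Subgroup.mem_centralizer_iff]
    intro u hu
    have hc : b * u * b⁻¹ * u⁻¹ ∈ Q ⊓ K := by
      refine ⟨Q.mul_mem ((Subgroup.mem_normalizer_iff.mp hbN u).mp hu) (Q.inv_mem hu), ?_⟩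
      have : b * u * b⁻¹ * u⁻¹ = b * (u * b⁻¹ * u⁻¹) := by group
      rw [this]
      exact K.mul_mem hbK (hKn.conj_mem _ (K.inv_mem hbK) u)
    rw [hdisj, Subgroup.mem_bot] at hc
    calc u * b = (b * u * b⁻¹ * u⁻¹)⁻¹ * (b * u) := by group
      _ = b * u := by rw [hc]; group
  · -- `b` acts trivially on the two-generated `p`-group `Q`
    have hbq : Nat.Coprime (q ^ k) (p ^ 2 - 1) :=
      Nat.Coprime.pow_left k ((Nat.Prime.coprime_iff_not_dvd hq).mpr hq2)
    obtain ⟨a', b', hab⟩ := exists_two_gen_of_sylow S hS Q hQ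
    have ha'Q : a' ∈ Q := by rw [hab]; exact Subgroup.subset_closure (by simp)
    have hb'Q : b' ∈ Q := by rw [hab]; exact Subgroup.subset_closure (by simp)
    have hgen : Subgroup.closure ({⟨a', ha'Q⟩, ⟨b', hb'Q⟩} : Set ↥Q) = ⊤ := by
      apply Subgroup.map_injective Q.subtype_injective
      rw [MonoidHom.map_closure, ← MonoidHom.range_eq_map, Subgroup.range_subtype]
      conv_rhs => rw [hab]
      congr 1
      ext y
      simp [Set.image_insert_eq]
    set α : MulAut ↥Q := Cfsg.Agent.S3969.conjHom Q ⟨b, hbN⟩ with hα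
    have hαm : α ^ (q ^ k) = 1 := by
      rw [hα, ← map_pow]
      have : (⟨b, hbN⟩ : ↥(Subgroup.normalizer (Q : Set G))) ^ (q ^ k) = 1 := by
        apply Subtype.ext
        rw [Subgroup.coe_pow, Subgroup.coe_one]
        exact hbpow
      rw [this, map_one]
    have hα1 : α = 1 := aut_eq_one_of_two_gen hQ _ _ hgen α (q ^ k) hαm hbp hbq
    rw [Subgroup.mem_centralizer_iff]
    intro u hu
    have h3 := congrArg (fun φ : MulAut ↥Q => ((φ ⟨u, hu⟩ : ↥Q) : G)) hα1
    simp only [hα, Cfsg.Agent.S3969.conjHom_apply, MulAut.one_apply] at h3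
    calc u * b = b * u * b⁻¹ * b := by rw [h3]
      _ = b * u := by group

end Main

/-- Let p be a prime and G a finite group whose Sylow p-subgroups are metacyclic (a cyclic normal subgroup with cyclic quotient). Then G has a normal p-complement if and only if the order of G/O_{p′,p}(G) is coprime to p² − 1. -/
theorem result {G : Type*} [Group G] [Finite G] (p : ℕ) [Fact p.Prime] (S : Sylow p G) (hS : Cfsg.IsMetacyclic ↥(S : Subgroup G)) : Cfsg.HasNormalPComplement p G ↔ Nat.Coprime (Nat.card (G ⧸ Cfsg.pPrimePCore p G)) (p ^ 2 - 1) := by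
  constructor
  · intro h
    obtain ⟨K, hKn, hKc, n, hKi⟩ := Cfsg.Agent.S3839.npc_iff.mp h
    have hK1 : K ≤ Cfsg.pPrimeCore p G := Cfsg.Agent.Lib.Helper1_Cores.le_pPrimeCore hKn hKc
    have hidx : (Cfsg.pPrimeCore p G).index ∣ p ^ n := by
      rw [← hKi]; exact Subgroup.index_dvd_of_le hK1
    obtain ⟨j, _, hj⟩ := (Nat.dvd_prime_pow Fact.out).mp hidx
    have hpg : IsPGroup p (G ⧸ Cfsg.pPrimeCore p G) := by
      apply IsPGroup.of_card (n := j)
      rw [← Subgroup.index_eq_card, hj]
    have htop : Cfsg.pCore p (G ⧸ Cfsg.pPrimeCore p G) = ⊤ := by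
      rw [eq_top_iff]
      apply Cfsg.Agent.Lib.Helper1_Cores.le_pCore inferInstance
      exact hpg.to_subgroup ⊤
    have hL : Cfsg.pPrimePCore p G = ⊤ := by
      unfold Cfsg.pPrimePCore
      rw [htop, Subgroup.comap_top]
    rw [hL, ← Subgroup.index_eq_card, Subgroup.index_top]
    exact Nat.coprime_one_left _
  · intro h
    exact Cfsg.Agent.S3839.npc_iff.mpr
      (Cfsg.Agent.Lib.Helper35_FrobeniusNPC.hasNPC_of_frobHyp (frobHyp S hS h))

end Cfsg.Agent.S4419
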