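import Cfsg.Statements.S4420

set_option autoImplicit false
open Cfsg

namespace Cfsg.Agent.S4420

/-- an element of square one is its own inverse -/
lemma inv_eq_self_of_sq {H : Type*} [Group H] {x : H} (hx : x ^ 2 = 1) : x⁻¹ = x := by
  rw [inv_eq_iff_mul_eq_one, ← sq, hx]

/-- elementary abelian case -/
lemma elem_case {H : Type*} [Group H] [Finite H] (hnt : Nontrivial H) (hsq : ∀ x : H, x ^ 2 = 1) :
    ∃ B : Subgroup H, B.Normal ∧ IsMulCommutative ↥B ∧ B.index = 2 ∧
      (∀ x : H, x ∉ B → x ^ 2 = 1 ∧ ∀ b ∈ B, x * b * x⁻¹ = b⁻¹) := by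
  have hcomm : ∀ a b : H, a * b = b * a := by
    intro a b
    have h1 : (a * b) * (a * b) = 1 := by rw [← sq]; exact hsq _
    have ha : a⁻¹ = a := inv_eq_self_of_sq (hsq a)
    have hb : b⁻¹ = b := inv_eq_self_of_sq (hsq b)
    have : a * b = (a * b)⁻¹ := (inv_eq_self_of_sq (hsq _)).symm
    rw [this, mul_inv_rev, ha, hb]
  have hcH : IsMulCommutative H := isMulCommutative_iff.2 hcomm
  have hp : IsPGroup 2 H := fun x => ⟨1, by rw [pow_one]; exact hsq x⟩
  have : Fact (Nat.Prime 2) := ⟨Nat.prime_two⟩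
  obtain ⟨n, hn⟩ := IsPGroup.iff_card.1 hp
  have hn0 : n ≠ 0 := by
    rintro rfl
    rw [pow_zero] at hn
    have := (Nat.card_eq_one_iff_unique.1 hn).1
    exact not_subsingleton H this
  obtain ⟨m, rfl⟩ := Nat.exists_eq_succ_of_ne_zero hn0
  obtain ⟨B, hB⟩ := Sylow.exists_subgroup_card_pow_prime 2 (n := m) (G := H)
    (by rw [hn]; exact pow_dvd_pow 2 (Nat.le_succ m))
  refine ⟨B, inferInstance, inferInstance, ?_, ?_⟩
  · have h1 := Subgroup.card_mul_index B
    rw [hB, hn, pow_succ] at h1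
    exact Nat.eq_of_mul_eq_mul_left (by positivity) h1
  · intro x _
    refine ⟨hsq x, fun b _ => ?_⟩
    rw [hcomm x b, mul_assoc, mul_inv_cancel, mul_one, inv_eq_self_of_sq (hsq b)]

theorem result {H : Type*} [Group H] [Finite H] (A : Subgroup H) (hA : A ≠ ⊤) (hD : ∀ x : H, x ∉ A → x ^ 2 = 1) :
    ∃ B : Subgroup H, B.Normal ∧ IsMulCommutative ↥B ∧ B.index = 2 ∧
      (∀ x : H, x ∉ B → x ^ 2 = 1 ∧ ∀ b ∈ B, x * b * x⁻¹ = b⁻¹) ∧
      (¬ (IsMulCommutative H ∧ ∀ x : H, x ^ 2 = 1) →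
        ∀ B' : Subgroup H, B'.Normal → IsMulCommutative ↥B' → B'.index = 2 →
          (∀ x : H, x ∉ B' → x ^ 2 = 1 ∧ ∀ b ∈ B', x * b * x⁻¹ = b⁻¹) → B' = B) := by
  -- an element outside A
  obtain ⟨x0, hx0⟩ : ∃ x0 : H, x0 ∉ A := by
    by_contra hcon
    push Not at hcon
    exact hA (Subgroup.eq_top_iff' A |>.2 hcon)
  by_cases hsq : ∀ x : H, x ^ 2 = 1
  · -- elementary abelian case
    have hnt : Nontrivial H := ⟨⟨x0, 1, fun h => hx0 (h ▸ A.one_mem)⟩⟩
    obtain ⟨B, h1, h2, h3, h4⟩ := elem_case hnt hsq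
    refine ⟨B, h1, h2, h3, h4, ?_⟩
    intro hne
    exfalso
    apply hne
    refine ⟨isMulCommutative_iff.2 ?_, hsq⟩
    intro a b
    have ha : a⁻¹ = a := inv_eq_self_of_sq (hsq a)
    have hb : b⁻¹ = b := inv_eq_self_of_sq (hsq b)
    have : a * b = (a * b)⁻¹ := (inv_eq_self_of_sq (hsq _)).symm
    rw [this, mul_inv_rev, ha, hb]
  · push Not at hsq
    obtain ⟨a, ha⟩ := hsq
    have haA : a ∈ A := by
      by_contra h
      exact ha (hD a h)
    -- elements outside A invert A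
    have hinv : ∀ x : H, x ∉ A → ∀ b ∈ A, x * b * x⁻¹ = b⁻¹ := by
      intro x hx b hb
      have hxb : x * b ∉ A := fun h => hx ((Subgroup.mul_mem_cancel_right A hb).1 h)
      have h1 : (x * b) * (x * b) = 1 := by rw [← sq]; exact hD _ hxb
      rw [inv_eq_self_of_sq (hD x hx)]
      have : x * b * x * b = 1 := by simpa [mul_assoc] using h1
      exact eq_inv_of_mul_eq_one_left this
    -- product of two elements outside A is in A
    have hprod : ∀ x y : H, x ∉ A → y ∉ A → x * y ∈ A := by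
      intro x y hx hy
      by_contra hxy
      have h1 := hinv (x * y) hxy a haA
      have h2 := hinv y hy a haA
      have h3 := hinv x hx a⁻¹ (A.inv_mem haA)
      have : x * y * a * (x * y)⁻¹ = x * (y * a * y⁻¹) * x⁻¹ := by group
      rw [this, h2, h3, inv_inv] at h1
      apply ha
      rw [sq]
      exact mul_eq_one_iff_eq_inv.2 h1
    have hidx : A.index = 2 := by
      rw [Subgroup.index_eq_two_iff]
      refine ⟨x0, fun b => ?_⟩
      by_cases hb : b ∈ A
      · refine Or.inr ⟨hb, fun h => hx0 ((Subgroup.mul_mem_cancel_left A hb).1 h)⟩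
      · exact Or.inl ⟨hprod b x0 hb hx0, hb⟩
    have hcomm : IsMulCommutative ↥A := by
      refine isMulCommutative_iff.2 ?_
      rintro ⟨b, hb⟩ ⟨c, hc⟩
      apply Subtype.ext
      change b * c = c * b
      have h1 := hinv x0 hx0 (b * c) (A.mul_mem hb hc)
      have h2 := hinv x0 hx0 b hb
      have h3 := hinv x0 hx0 c hc
      have : x0 * (b * c) * x0⁻¹ = (x0 * b * x0⁻¹) * (x0 * c * x0⁻¹) := by group
      rw [this, h2, h3, ← mul_inv_rev] at h1
      exact (inv_injective h1).symm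
    refine ⟨A, Subgroup.normal_of_index_eq_two hidx, hcomm, hidx,
      fun x hx => ⟨hD x hx, hinv x hx⟩, ?_⟩
    intro _ B' _ hB'c hB'i hB'
    have haB' : a ∈ B' := by
      by_contra h
      exact ha (hB' a h).1
    have hle : B' ≤ A := by
      intro b' hb'
      by_contra hb'A
      have h1 := hinv b' hb'A a haA
      have h2 : b' * a = a * b' := setLike_mul_comm hb' haB'
      rw [h2, mul_assoc, mul_inv_cancel, mul_one] at h1
      apply ha
      rw [sq]
      exact mul_eq_one_iff_eq_inv.2 h1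
    have h1 := Subgroup.relIndex_mul_index hle
    rw [hidx, hB'i] at h1
    have h2 : B'.relIndex A = 1 := by omega
    exact le_antisymm hle (Subgroup.relIndex_eq_one.1 h2)

end Cfsg.Agent.S4420
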