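import Cfsg.Statements.S4421

set_option autoImplicit false
open Cfsg

namespace Cfsg.Agent.S4421

variable {G : Type*} [Group G]

/-- conjugate of a subgroup -/
def cj (g : G) (A : Subgroup G) : Subgroup G := A.map (MulAut.conj g).toMonoidHom

lemma cj_mul (g h : G) (A : Subgroup G) : cj (g * h) A = cj g (cj h A) := by
  unfold cj
  rw [Subgroup.map_map]
  congr 1
  ext x
  simp [MulAut.conj_apply, mul_assoc]

lemma cj_one (A : Subgroup G) : cj (1 : G) A = A := by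
  unfold cj
  ext x
  simp

lemma cj_mono (g : G) {A B : Subgroup G} (h : A ≤ B) : cj g A ≤ cj g B :=
  Subgroup.map_mono h

lemma cj_inv_cj (g : G) (A : Subgroup G) : cj g⁻¹ (cj g A) = A := by
  rw [← cj_mul, inv_mul_cancel, cj_one]

lemma cj_cj_inv (g : G) (A : Subgroup G) : cj g (cj g⁻¹ A) = A := by
  rw [← cj_mul, mul_inv_cancel, cj_one]

lemma mem_normalizer_iff_cj {A : Subgroup G} {g : G} :
    g ∈ Subgroup.normalizer (A : Set G) ↔ cj g A = A := by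
  rw [Subgroup.mem_normalizer_iff_map_conj_eq]
  rfl

lemma cj_of_mem {A : Subgroup G} {g : G} (hg : g ∈ A) : cj g A = A :=
  mem_normalizer_iff_cj.1 (Subgroup.le_normalizer hg)

theorem result {G : Type*} [Group G] [Finite G] (A S H : Subgroup G)
    (hAS : A ≤ S) (hSH : S ≤ H)
    (h1 : ∀ g : G, A.map (MulAut.conj g).toMonoidHom ≤ S → ∃ s ∈ S, A.map (MulAut.conj g).toMonoidHom = A.map (MulAut.conj s).toMonoidHom)
    (h2 : ∀ g : G, S.map (MulAut.conj g).toMonoidHom ≤ H → ∃ y ∈ H, S.map (MulAut.conj g).toMonoidHom = S.map (MulAut.conj y).toMonoidHom)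
    (h3 : ∀ x ∈ Subgroup.normalizer (A : Set G), S.map (MulAut.conj x).toMonoidHom ≤ H) :
    ∀ x ∈ Subgroup.normalizer (A : Set G), ∃ y ∈ H ⊓ Subgroup.normalizer (A : Set G),
      ∃ z ∈ Subgroup.normalizer (S : Set G) ⊓ Subgroup.normalizer (A : Set G), x = y * z := by
  intro x hx
  change ∀ g : G, cj g A ≤ S → ∃ s ∈ S, cj g A = cj s A at h1
  change ∀ g : G, cj g S ≤ H → ∃ y ∈ H, cj g S = cj y S at h2
  obtain ⟨y, hyH, hy⟩ := h2 x (h3 x hx)
  have hxA : cj x A = A := mem_normalizer_iff_cj.1 hx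
  -- n = y⁻¹ x normalizes S
  have hnS : cj (y⁻¹ * x) S = S := by
    rw [cj_mul, hy, cj_inv_cj]
  have hnA : cj (y⁻¹ * x) A ≤ S := by
    rw [← hnS]
    exact cj_mono _ hAS
  obtain ⟨s, hsS, hs⟩ := h1 _ hnA
  -- z = s⁻¹ n
  have hzA : cj (s⁻¹ * (y⁻¹ * x)) A = A := by
    rw [cj_mul, hs, cj_inv_cj]
  have hzS : cj (s⁻¹ * (y⁻¹ * x)) S = S := by
    rw [cj_mul, hnS, cj_of_mem (inv_mem hsS)]
  have hyA : cj (y * s) A = A := by
    have hx' : x = (y * s) * (s⁻¹ * (y⁻¹ * x)) := by group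
    have : cj ((y * s) * (s⁻¹ * (y⁻¹ * x))) A = A := by rw [← hx']; exact hxA
    rw [cj_mul, hzA] at this
    exact this
  refine ⟨y * s, ⟨mul_mem hyH (hSH hsS), mem_normalizer_iff_cj.2 hyA⟩,
    s⁻¹ * (y⁻¹ * x), ⟨mem_normalizer_iff_cj.2 hzS, mem_normalizer_iff_cj.2 hzA⟩, by group⟩

end Cfsg.Agent.S4421
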