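import Cfsg.Statements.S4422

set_option autoImplicit false
open Cfsg

namespace Cfsg.Agent.S4422

lemma prime_case (q e p : ℕ) (hq : 2 ≤ q) (he : 1 ≤ e) (hp : p.Prime)
    (hm : p ∣ q ^ e - 1) (hcop : ∀ i : ℕ, 1 ≤ i → i < e → Nat.Coprime p (q ^ i - 1)) :
    p ≡ 1 [MOD e] := by
  have : Fact p.Prime := ⟨hp⟩
  have hqe : 1 ≤ q ^ e := Nat.one_le_pow _ _ (by omega)
  -- q^e = 1 in ZMod p
  have h1 : ((q : ZMod p)) ^ e = 1 := by
    have : ((q ^ e - 1 : ℕ) : ZMod p) = 0 := (ZMod.natCast_eq_zero_iff _ _).2 hm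
    rw [Nat.cast_sub hqe] at this
    push_cast at this
    exact sub_eq_zero.1 this
  have hq0 : (q : ZMod p) ≠ 0 := by
    intro h0
    rw [h0, zero_pow (by omega)] at h1
    exact zero_ne_one h1
  set d := orderOf (q : ZMod p) with hd
  have hde : d ∣ e := orderOf_dvd_of_pow_eq_one h1
  have hdpos : 0 < d := by
    rw [hd, orderOf_pos_iff]
    exact isOfFinOrder_iff_pow_eq_one.2 ⟨e, he, h1⟩
  have hdeq : d = e := by
    by_contra hne
    have hlt : d < e := lt_of_le_of_ne (Nat.le_of_dvd he hde) hne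
    have hc := hcop d hdpos hlt
    have hqd : 1 ≤ q ^ d := Nat.one_le_pow _ _ (by omega)
    have : p ∣ q ^ d - 1 := by
      rw [← ZMod.natCast_eq_zero_iff, Nat.cast_sub hqd]
      push_cast
      rw [hd, pow_orderOf_eq_one, sub_self]
    have := Nat.Coprime.eq_one_of_dvd hc this
    exact hp.one_lt.ne' this
  have hp1 : d ∣ p - 1 := by
    rw [hd]
    exact ZMod.orderOf_dvd_card_sub_one hq0
  rw [hdeq] at hp1
  have := (Nat.modEq_iff_dvd' hp.one_lt.le).2 hp1
  exact this.symm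

/-- Let `q ≥ 2` and `e ≥ 1`; a divisor `m` of `q^e - 1` coprime to all `q^i - 1`, `1 ≤ i < e`, is `1 mod e`. -/
theorem result (q e m : ℕ) (hq : 2 ≤ q) (he : 1 ≤ e)
    (hm : m ∣ q ^ e - 1) (hcop : ∀ i : ℕ, 1 ≤ i → i < e → Nat.Coprime m (q ^ i - 1)) :
    m % e = 1 % e := by
  have hqe : 2 ≤ q ^ e := by
    calc 2 ≤ q := hq
      _ = q ^ 1 := (pow_one q).symm
      _ ≤ q ^ e := Nat.pow_le_pow_right (by omega) he
  have hm0 : m ≠ 0 := by
    rintro rfl
    have := Nat.eq_zero_of_zero_dvd hm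
    omega
  change m ≡ 1 [MOD e]
  induction m using Nat.strong_induction_on with
  | _ m ih =>
    by_cases h1 : m = 1
    · rw [h1]
    · obtain ⟨p, hp, hpm⟩ := Nat.exists_prime_and_dvd h1
      obtain ⟨k, rfl⟩ := hpm
      have hk0 : k ≠ 0 := by
        rintro rfl
        exact hm0 (by simp)
      have hklt : k < p * k := by
        have := hp.one_lt
        nlinarith [Nat.pos_of_ne_zero hk0]
      have hkdvd : k ∣ q ^ e - 1 := Dvd.dvd.trans (Dvd.intro_left p rfl) hm
      have hpdvd : p ∣ q ^ e - 1 := Dvd.dvd.trans (Dvd.intro k rfl) hm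
      have hk := ih k hklt hkdvd
        (fun i hi hie => Nat.Coprime.coprime_dvd_left (Dvd.intro_left p rfl) (hcop i hi hie)) hk0
      have hpp := prime_case q e p hq he hp hpdvd
        (fun i hi hie => Nat.Coprime.coprime_dvd_left (Dvd.intro k rfl) (hcop i hi hie))
      have := Nat.ModEq.mul hpp hk
      simpa using this

end Cfsg.Agent.S4422
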