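import Cfsg.Statements.S4423
import Cfsg.Agent.Lib.Helper99_PrimPartEval

set_option autoImplicit false
open Cfsg

namespace Cfsg.Agent.S4423

open Cfsg.Agent.Lib.Helper99_PrimPart Cfsg.Agent.Lib.Helper99_PrimPartEval

/-- Size of the primitive part of `q^e - 1`. For a prime power `q` and `e ≥ 3`, call a divisor of `q^e - 1` primitive when it is coprime to `q^i - 1` for every `1 ≤ i < e`; the primitive part is the largest primitive divisor. Apart from thirteen exceptional pairs, the primitive part is at least `3e + 1`: there is a primitive divisor `m ≥ 3e + 1` unless `(q, e)` is `(2, 6)` (where every primitive divisor is 1), one of `(2,4), (2,10), (2,12), (2,18), (3,4), (3,6), (5,6)` (where the primitive part is exactly `e + 1`), or one of `(2,3), (2,8), (2,20), (4,3), (4,6)` (where it is exactly `2e + 1`). The statement asserts the existence of a primitive divisor `m ≥ 3e + 1` outside the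 thirteen pairs, and that every primitive divisor is at most `2e + 1` for the thirteen pairs. -/
theorem result (q e : ℕ) (hq : IsPrimePow q) (he : 3 ≤ e) :
    ((q, e) ∉ [(2, 6), (2, 4), (2, 10), (2, 12), (2, 18), (3, 4), (3, 6), (5, 6), (2, 3), (2, 8), (2, 20), (4, 3), (4, 6)] →
      ∃ m : ℕ, m ∣ q ^ e - 1 ∧ (∀ i : ℕ, 1 ≤ i → i < e → Nat.Coprime m (q ^ i - 1)) ∧ 3 * e + 1 ≤ m) ∧
    ((q, e) ∈ [(2, 6), (2, 4), (2, 10), (2, 12), (2, 18), (3, 4), (3, 6), (5, 6), (2, 3), (2, 8), (2, 20), (4, 3), (4, 6)] →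
      ∀ m : ℕ, m ∣ q ^ e - 1 → (∀ i : ℕ, 1 ≤ i → i < e → Nat.Coprime m (q ^ i - 1)) → m ≤ 2 * e + 1) := by
  have hq2 : 2 ≤ q := hq.two_le
  refine ⟨?_, ?_⟩
  · intro hnot
    refine ⟨pp q e, pp_dvd_pow_sub_one (by omega) (by omega), ?_, ?_⟩
    · intro i hi hie
      exact pp_coprime hq2 he (by omega) hie
    · by_contra hlt
      have hle : pp q e ≤ 3 * e := by omega
      have hmem := pp_small q e hq2 he hle
      apply hnot
      simp only [ppTable, List.mem_cons, Prod.mk.injEq, List.not_mem_nil, or_false] at hmem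
      rcases hmem with ⟨rfl, rfl, -⟩ | ⟨rfl, rfl, -⟩ | ⟨rfl, rfl, -⟩ | ⟨rfl, rfl, -⟩ |
        ⟨rfl, rfl, -⟩ | ⟨rfl, rfl, -⟩ | ⟨rfl, rfl, -⟩ | ⟨rfl, rfl, -⟩ | ⟨rfl, rfl, -⟩ |
        ⟨rfl, rfl, -⟩ | ⟨rfl, rfl, -⟩ | ⟨rfl, rfl, -⟩ | ⟨rfl, rfl, -⟩ <;> decide
  · intro hmem
    simp only [List.mem_cons, Prod.mk.injEq, List.not_mem_nil, or_false] at hmem
    rcases hmem with ⟨rfl, rfl⟩ | ⟨rfl, rfl⟩ | ⟨rfl, rfl⟩ | ⟨rfl, rfl⟩ | ⟨rfl, rfl⟩ |
      ⟨rfl, rfl⟩ | ⟨rfl, rfl⟩ | ⟨rfl, rfl⟩ | ⟨rfl, rfl⟩ | ⟨rfl, rfl⟩ | ⟨rfl, rfl⟩ |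
      ⟨rfl, rfl⟩ | ⟨rfl, rfl⟩
    · -- (q, e) = (2, 6)
      intro m hm hcop
      have c0 : Nat.Coprime m ((2 ^ 2 - 1) ^ 2) := (hcop 2 (by norm_num) (by norm_num)).pow_right 2
      have c1 : Nat.Coprime m ((2 ^ 3 - 1) ^ 1) := (hcop 3 (by norm_num) (by norm_num)).pow_right 1
      have hc : Nat.Coprime m (((2 ^ 2 - 1) ^ 2) * ((2 ^ 3 - 1) ^ 1)) := (c0).mul_right c1
      have hd : m ∣ (((2 ^ 2 - 1) ^ 2) * ((2 ^ 3 - 1) ^ 1)) * 1 := hm.trans (by norm_num)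
      have hb : m ∣ 1 := hc.dvd_of_dvd_mul_left hd
      have := Nat.le_of_dvd (by norm_num) hb
      omega
    · -- (q, e) = (2, 4)
      intro m hm hcop
      have c0 : Nat.Coprime m ((2 ^ 2 - 1) ^ 1) := (hcop 2 (by norm_num) (by norm_num)).pow_right 1
      have hc : Nat.Coprime m (((2 ^ 2 - 1) ^ 1)) := c0
      have hd : m ∣ (((2 ^ 2 - 1) ^ 1)) * 5 := hm.trans (by norm_num)
      have hb : m ∣ 5 := hc.dvd_of_dvd_mul_left hd
      have := Nat.le_of_dvd (by norm_num) hb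
      omega
    · -- (q, e) = (2, 10)
      intro m hm hcop
      have c0 : Nat.Coprime m ((2 ^ 2 - 1) ^ 1) := (hcop 2 (by norm_num) (by norm_num)).pow_right 1
      have c1 : Nat.Coprime m ((2 ^ 5 - 1) ^ 1) := (hcop 5 (by norm_num) (by norm_num)).pow_right 1
      have hc : Nat.Coprime m (((2 ^ 2 - 1) ^ 1) * ((2 ^ 5 - 1) ^ 1)) := (c0).mul_right c1
      have hd : m ∣ (((2 ^ 2 - 1) ^ 1) * ((2 ^ 5 - 1) ^ 1)) * 11 := hm.trans (by norm_num)
      have hb : m ∣ 11 := hc.dvd_of_dvd_mul_left hd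
      have := Nat.le_of_dvd (by norm_num) hb
      omega
    · -- (q, e) = (2, 12)
      intro m hm hcop
      have c0 : Nat.Coprime m ((2 ^ 2 - 1) ^ 2) := (hcop 2 (by norm_num) (by norm_num)).pow_right 2
      have c1 : Nat.Coprime m ((2 ^ 3 - 1) ^ 1) := (hcop 3 (by norm_num) (by norm_num)).pow_right 1
      have c2 : Nat.Coprime m ((2 ^ 4 - 1) ^ 1) := (hcop 4 (by norm_num) (by norm_num)).pow_right 1
      have hc : Nat.Coprime m (((2 ^ 2 - 1) ^ 2) * ((2 ^ 3 - 1) ^ 1) * ((2 ^ 4 - 1) ^ 1)) := ((c0).mul_right c1).mul_right c2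
      have hd : m ∣ (((2 ^ 2 - 1) ^ 2) * ((2 ^ 3 - 1) ^ 1) * ((2 ^ 4 - 1) ^ 1)) * 13 := hm.trans (by norm_num)
      have hb : m ∣ 13 := hc.dvd_of_dvd_mul_left hd
      have := Nat.le_of_dvd (by norm_num) hb
      omega
    · -- (q, e) = (2, 18)
      intro m hm hcop
      have c0 : Nat.Coprime m ((2 ^ 2 - 1) ^ 3) := (hcop 2 (by norm_num) (by norm_num)).pow_right 3
      have c1 : Nat.Coprime m ((2 ^ 3 - 1) ^ 1) := (hcop 3 (by norm_num) (by norm_num)).pow_right 1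
      have c2 : Nat.Coprime m ((2 ^ 9 - 1) ^ 1) := (hcop 9 (by norm_num) (by norm_num)).pow_right 1
      have hc : Nat.Coprime m (((2 ^ 2 - 1) ^ 3) * ((2 ^ 3 - 1) ^ 1) * ((2 ^ 9 - 1) ^ 1)) := ((c0).mul_right c1).mul_right c2
      have hd : m ∣ (((2 ^ 2 - 1) ^ 3) * ((2 ^ 3 - 1) ^ 1) * ((2 ^ 9 - 1) ^ 1)) * 19 := hm.trans (by norm_num)
      have hb : m ∣ 19 := hc.dvd_of_dvd_mul_left hd
      have := Nat.le_of_dvd (by norm_num) hb
      omega
    · -- (q, e) = (3, 4)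
      intro m hm hcop
      have c0 : Nat.Coprime m ((3 ^ 1 - 1) ^ 4) := (hcop 1 (by norm_num) (by norm_num)).pow_right 4
      have hc : Nat.Coprime m (((3 ^ 1 - 1) ^ 4)) := c0
      have hd : m ∣ (((3 ^ 1 - 1) ^ 4)) * 5 := hm.trans (by norm_num)
      have hb : m ∣ 5 := hc.dvd_of_dvd_mul_left hd
      have := Nat.le_of_dvd (by norm_num) hb
      omega
    · -- (q, e) = (3, 6)
      intro m hm hcop
      have c0 : Nat.Coprime m ((3 ^ 1 - 1) ^ 3) := (hcop 1 (by norm_num) (by norm_num)).pow_right 3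
      have c1 : Nat.Coprime m ((3 ^ 3 - 1) ^ 1) := (hcop 3 (by norm_num) (by norm_num)).pow_right 1
      have hc : Nat.Coprime m (((3 ^ 1 - 1) ^ 3) * ((3 ^ 3 - 1) ^ 1)) := (c0).mul_right c1
      have hd : m ∣ (((3 ^ 1 - 1) ^ 3) * ((3 ^ 3 - 1) ^ 1)) * 7 := hm.trans (by norm_num)
      have hb : m ∣ 7 := hc.dvd_of_dvd_mul_left hd
      have := Nat.le_of_dvd (by norm_num) hb
      omega
    · -- (q, e) = (5, 6)
      intro m hm hcop
      have c0 : Nat.Coprime m ((5 ^ 1 - 1) ^ 3) := (hcop 1 (by norm_num) (by norm_num)).pow_right 3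
      have c1 : Nat.Coprime m ((5 ^ 2 - 1) ^ 2) := (hcop 2 (by norm_num) (by norm_num)).pow_right 2
      have c2 : Nat.Coprime m ((5 ^ 3 - 1) ^ 1) := (hcop 3 (by norm_num) (by norm_num)).pow_right 1
      have hc : Nat.Coprime m (((5 ^ 1 - 1) ^ 3) * ((5 ^ 2 - 1) ^ 2) * ((5 ^ 3 - 1) ^ 1)) := ((c0).mul_right c1).mul_right c2
      have hd : m ∣ (((5 ^ 1 - 1) ^ 3) * ((5 ^ 2 - 1) ^ 2) * ((5 ^ 3 - 1) ^ 1)) * 7 := hm.trans (by norm_num)
      have hb : m ∣ 7 := hc.dvd_of_dvd_mul_left hd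
      have := Nat.le_of_dvd (by norm_num) hb
      omega
    · -- (q, e) = (2, 3)
      intro m hm hcop
      have hc : Nat.Coprime m 1 := Nat.coprime_one_right m
      have hd : m ∣ (1) * 7 := hm.trans (by norm_num)
      have hb : m ∣ 7 := hc.dvd_of_dvd_mul_left hd
      have := Nat.le_of_dvd (by norm_num) hb
      omega
    · -- (q, e) = (2, 8)
      intro m hm hcop
      have c0 : Nat.Coprime m ((2 ^ 2 - 1) ^ 1) := (hcop 2 (by norm_num) (by norm_num)).pow_right 1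
      have c1 : Nat.Coprime m ((2 ^ 4 - 1) ^ 1) := (hcop 4 (by norm_num) (by norm_num)).pow_right 1
      have hc : Nat.Coprime m (((2 ^ 2 - 1) ^ 1) * ((2 ^ 4 - 1) ^ 1)) := (c0).mul_right c1
      have hd : m ∣ (((2 ^ 2 - 1) ^ 1) * ((2 ^ 4 - 1) ^ 1)) * 17 := hm.trans (by norm_num)
      have hb : m ∣ 17 := hc.dvd_of_dvd_mul_left hd
      have := Nat.le_of_dvd (by norm_num) hb
      omega
    · -- (q, e) = (2, 20)
      intro m hm hcop
      have c0 : Nat.Coprime m ((2 ^ 2 - 1) ^ 1) := (hcop 2 (by norm_num) (by norm_num)).pow_right 1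
      have c1 : Nat.Coprime m ((2 ^ 4 - 1) ^ 2) := (hcop 4 (by norm_num) (by norm_num)).pow_right 2
      have c2 : Nat.Coprime m ((2 ^ 5 - 1) ^ 1) := (hcop 5 (by norm_num) (by norm_num)).pow_right 1
      have c3 : Nat.Coprime m ((2 ^ 10 - 1) ^ 1) := (hcop 10 (by norm_num) (by norm_num)).pow_right 1
      have hc : Nat.Coprime m (((2 ^ 2 - 1) ^ 1) * ((2 ^ 4 - 1) ^ 2) * ((2 ^ 5 - 1) ^ 1) * ((2 ^ 10 - 1) ^ 1)) := (((c0).mul_right c1).mul_right c2).mul_right c3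
      have hd : m ∣ (((2 ^ 2 - 1) ^ 1) * ((2 ^ 4 - 1) ^ 2) * ((2 ^ 5 - 1) ^ 1) * ((2 ^ 10 - 1) ^ 1)) * 41 := hm.trans (by norm_num)
      have hb : m ∣ 41 := hc.dvd_of_dvd_mul_left hd
      have := Nat.le_of_dvd (by norm_num) hb
      omega
    · -- (q, e) = (4, 3)
      intro m hm hcop
      have c0 : Nat.Coprime m ((4 ^ 1 - 1) ^ 2) := (hcop 1 (by norm_num) (by norm_num)).pow_right 2
      have hc : Nat.Coprime m (((4 ^ 1 - 1) ^ 2)) := c0
      have hd : m ∣ (((4 ^ 1 - 1) ^ 2)) * 7 := hm.trans (by norm_num)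
      have hb : m ∣ 7 := hc.dvd_of_dvd_mul_left hd
      have := Nat.le_of_dvd (by norm_num) hb
      omega
    · -- (q, e) = (4, 6)
      intro m hm hcop
      have c0 : Nat.Coprime m ((4 ^ 1 - 1) ^ 2) := (hcop 1 (by norm_num) (by norm_num)).pow_right 2
      have c1 : Nat.Coprime m ((4 ^ 2 - 1) ^ 1) := (hcop 2 (by norm_num) (by norm_num)).pow_right 1
      have c2 : Nat.Coprime m ((4 ^ 3 - 1) ^ 1) := (hcop 3 (by norm_num) (by norm_num)).pow_right 1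
      have hc : Nat.Coprime m (((4 ^ 1 - 1) ^ 2) * ((4 ^ 2 - 1) ^ 1) * ((4 ^ 3 - 1) ^ 1)) := ((c0).mul_right c1).mul_right c2
      have hd : m ∣ (((4 ^ 1 - 1) ^ 2) * ((4 ^ 2 - 1) ^ 1) * ((4 ^ 3 - 1) ^ 1)) * 13 := hm.trans (by norm_num)
      have hb : m ∣ 13 := hc.dvd_of_dvd_mul_left hd
      have := Nat.le_of_dvd (by norm_num) hb
      omega

end Cfsg.Agent.S4423
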