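import Cfsg.Statements.S4427
import Cfsg.Agent.Lib.Helper62_S4427_Final
import Cfsg.Agent.Lib.Helper64_S4427_PKP

set_option autoImplicit false
open Cfsg

namespace Cfsg.Agent.S4427

/-- the order of a Sylow `q`-subgroup when `|G| = p^a q^b r^c` -/
theorem sylow_card {G : Type*} [Group G] [Finite G] (p q r a b c : ℕ) (hp : p.Prime) (hq : q.Prime)
    (hr : r.Prime) (hpq : p ≠ q) (hqr : q ≠ r)
    (hG : Nat.card G = p ^ a * q ^ b * r ^ c) [Fact q.Prime] (Q : Sylow q G) :
    Nat.card Q = q ^ b := by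
  rw [Sylow.card_eq_multiplicity, hG]
  congr 1
  have h1 : p ^ a ≠ 0 := pow_ne_zero _ hp.ne_zero
  have h2 : q ^ b ≠ 0 := pow_ne_zero _ hq.ne_zero
  have h3 : r ^ c ≠ 0 := pow_ne_zero _ hr.ne_zero
  rw [Nat.factorization_mul (mul_ne_zero h1 h2) h3, Nat.factorization_mul h1 h2]
  simp only [Finsupp.coe_add, Pi.add_apply]
  rw [hp.factorization_pow, hq.factorization_pow, hr.factorization_pow]
  simp [hpq, hqr.symm]

/-- Let G be a finite group of order p^a · q^b · r^c with p, q, r distinct primes, and suppose that G has exactly q^b · r^c elements of order not divisible by p. Then G has a normal p-complement: a normal subgroup of order q^b · r^c. -/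
theorem result {G : Type*} [Group G] [Finite G] (p q r a b c : ℕ) (hp : p.Prime) (hq : q.Prime) (hr : r.Prime) (hpq : p ≠ q) (hpr : p ≠ r) (hqr : q ≠ r) (hG : Nat.card G = p ^ a * q ^ b * r ^ c) (hcount : Nat.card {g : G // ¬ p ∣ orderOf g} = q ^ b * r ^ c) : ∃ N : Subgroup G, N.Normal ∧ Nat.card N = q ^ b * r ^ c := by
  classical
  letI := Fintype.ofFinite G
  letI : Fintype (IrrCharacter G) := Fintype.ofFinite _
  have := Fact.mk hq
  have := Fact.mk hr
  let Q : Sylow q G := default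
  let R : Sylow r G := default
  have hQ : Nat.card (Q : Subgroup G) = q ^ b := sylow_card p q r a b c hp hq hr hpq hqr hG Q
  have hR : Nat.card (R : Subgroup G) = r ^ c := by
    have hG' : Nat.card G = p ^ a * r ^ c * q ^ b := by rw [hG]; ring
    exact sylow_card p r q a c b hp hr hq hpr hqr.symm hG' R
  have hQp : ¬ p ∣ Nat.card (Q : Subgroup G) := by
    rw [hQ]; intro h
    exact hpq ((Nat.prime_dvd_prime_iff_eq hp hq).mp (hp.dvd_of_dvd_pow h))
  have hRp : ¬ p ∣ Nat.card (R : Subgroup G) := by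
    rw [hR]; intro h
    exact hpr ((Nat.prime_dvd_prime_iff_eq hp hr).mp (hp.dvd_of_dvd_pow h))
  obtain ⟨d, eH, eK, hd1, hvan, heH, heK, hdH, hdK⟩ :=
    Cfsg.Agent.Lib.Helper64_S4427_PKP.PKP hp (Q : Subgroup G) (R : Subgroup G) hQp hRp
  exact Cfsg.Agent.Lib.Helper62_S4427_Final.final_of_proj d p q r a b c hp hq hr hqr hG hcount
    (Q : Subgroup G) (R : Subgroup G) hQ hR eH eK hd1 hvan heH heK hdH hdK

end Cfsg.Agent.S4427
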