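import Cfsg.Statements.S4431
import Cfsg.Agent.Lib.Helper57_BrauerFeit
import Cfsg.Agent.Lib.Helper78_PRegSum
import Cfsg.Agent.S0874

set_option autoImplicit false
open Cfsg

namespace Cfsg.Agent.S4431


open scoped ComplexConjugate in
open Cfsg.Agent.Lib.Helper57_HeightZero Cfsg.Agent.Lib.Helper57_BrauerFeit
  Cfsg.Agent.Lib.Helper57_PRegInt Cfsg.Agent.Lib.Helper3_CharBridge
  Cfsg.Agent.Lib.Helper3_CharOrtho Cfsg.Agent.Lib.Helper75_CharArith
  Cfsg.Agent.Lib.Helper78_LocalRing Cfsg.Agent.Lib.Helper78_Osima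
  Cfsg.Agent.Lib.Helper77_BlockBasics in
/-- The number `[η, ψ] / ψ(1)` lies in the local ideal iff `p ∣ r(χ₀, χ)` for `χ₀ ∈ B₀`. -/
theorem key {G : Type*} [Group G] [Fintype G] {p : ℕ} (hp : p.Prime) {M : Ideal Cfsg.AlgInt}
    (hM : Cfsg.IsPModular p M) (H : Subgroup G) [Fintype H] {b : Set (Cfsg.IrrCharacter H)}
    {B₀ : Set (Cfsg.IrrCharacter G)} (hind : Cfsg.IsInducedBlock M H b B₀)
    (hI : RegInt G p) (hBH : ∀ q : ℕ, q.Prime → q ≠ p → BrauerLocal H q)
    (χ χ₀ : Cfsg.IrrCharacter G) (hχ₀ : χ₀ ∈ B₀) (ψ : Cfsg.IrrCharacter H) (hψ : ψ ∈ b) :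
    Cfsg.MemLocalIdeal M (Cfsg.classInner (fun h : H => if p ∣ orderOf h then (0 : ℂ) else
      ((p ^ (Nat.card H).factorization p : ℕ) : ℂ) * (χ : G → ℂ) h) (ψ : H → ℂ) /
        (ψ : H → ℂ) 1) ↔ (p : ℤ) ∣ rr hI χ₀ χ := by
  have hM' := isPrime_of_isPModular hM
  -- the class function `f` on `G`
  set f : G → ℂ := regPart p (fun g => conj ((χ : G → ℂ) g)) with hf
  have hfc : Cfsg.IsClassFunction G f :=
    regPart_isClassFunction p (isClassFunction_conj (isClassFunction_of_isIrrCharacter χ.2))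
  have hfR : ∀ g, Cfsg.MemLocalRing M (f g) := fun g =>
    memLocalRing_algInt hM' ⟨_, isIntegral_regPart_conj (p := p) (isCharacter_of_isIrrCharacter χ.2) g⟩
  have h1 := Cfsg.Agent.Lib.Helper78_PRegSum.memLocalIdeal_omega_restrict_sub hM' H (ψ : H → ℂ)
    (isClassFunction_of_isIrrCharacter χ₀.2) (fun g => hind.2.2 ψ hψ χ₀ hχ₀ g) hfc hfR
  rw [hf, rr_spec hI χ₀ χ, ← hf] at h1
  -- `R₁ = ω_ψ(f|_H)`
  set R₁ : ℂ := omega (ψ : H → ℂ) (fun h : H => f h) with hR₁
  have hfHc : Cfsg.IsClassFunction H (fun h : H => f h) := by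
    intro g h
    show f ((h * g * h⁻¹ : H) : G) = f g
    push_cast
    exact hfc g h
  have hR₁R : Cfsg.MemLocalRing M R₁ := memLocalRing_omega hM' ψ.2 hfHc (fun h => hfR h)
  -- the integer `[η, ψ]`
  have hχH : Cfsg.IsCharacter H (fun h : H => (χ : G → ℂ) h) :=
    isCharacter_restrict H (isCharacter_of_isIrrCharacter χ.2)
  obtain ⟨n, hn⟩ := regInner_int hp hBH hχH (isCharacter_of_isIrrCharacter ψ.2)
  have hη : (fun h : H => if p ∣ orderOf h then (0 : ℂ) else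
      ((p ^ (Nat.card H).factorization p : ℕ) : ℂ) * (χ : G → ℂ) h) =
      ((p ^ (Nat.card H).factorization p : ℕ) : ℂ) • regPart p (fun h : H => (χ : G → ℂ) h) :=
    tilde_eq _ _
  rw [hη, classInner_smul_left, hn]
  -- relation with `R₁`
  have hdeg := apply_one_eq_charDegree ψ
  have hd0 : ((Cfsg.charDegree (ψ : H → ℂ) : ℕ) : ℂ) ≠ 0 :=
    Nat.cast_ne_zero.mpr (charDegree_pos ψ).ne'
  have hrel : (n : ℂ) / (ψ : H → ℂ) 1 = ((mPrime H p : ℕ) : ℂ)⁻¹ * R₁ := by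
    have h2 := congrArg conj hn
    rw [map_mul, map_natCast, map_intCast] at h2
    -- conj [regPart χ_H, ψ] = |H|⁻¹ Σ f h ψ h
    have h3 : conj (Cfsg.classInner (regPart p (fun h : H => (χ : G → ℂ) h)) (ψ : H → ℂ)) =
        (Nat.card H : ℂ)⁻¹ * (R₁ * (ψ : H → ℂ) 1) := by
      rw [hR₁]
      unfold omega Cfsg.classInner
      rw [div_mul_cancel₀ _ (by rw [hdeg]; exact hd0), map_mul, map_inv₀, map_natCast, map_sum]
      congr 1
      refine Finset.sum_congr rfl fun h _ => ?_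
      have ho : orderOf (h : G) = orderOf h := Subgroup.orderOf_coe h
      rw [map_mul, Complex.conj_conj, hf]
      beta_reduce
      by_cases hd : p ∣ orderOf h
      · rw [regPart_of_dvd _ hd, regPart_of_dvd _ (ho ▸ hd), map_zero, zero_mul]
      · rw [regPart_of_not_dvd _ hd, regPart_of_not_dvd _ (ho ▸ hd)]
    rw [h3] at h2
    have hH : (Nat.card H : ℂ) = ((p ^ (Nat.card H).factorization p : ℕ) : ℂ) *
        ((mPrime H p : ℕ) : ℂ) := by
      rw [← Nat.cast_mul, pow_mul_mPrime]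
    have hp0 : ((p ^ (Nat.card H).factorization p : ℕ) : ℂ) ≠ 0 := by
      rw [Nat.cast_ne_zero]; exact pow_ne_zero _ hp.ne_zero
    have hm0 : ((mPrime H p : ℕ) : ℂ) ≠ 0 := Nat.cast_ne_zero.mpr mPrime_ne_zero
    rw [← h2, hH, hdeg]
    field_simp
  rw [hrel]
  have hunitR : Cfsg.MemLocalRing M (((mPrime H p : ℕ) : ℂ)⁻¹) :=
    memLocalRing_inv_natCast hM (not_dvd_mPrime hp)
  have hunit : ¬ Cfsg.MemLocalIdeal M (((mPrime H p : ℕ) : ℂ)⁻¹) := by
    intro h
    have h2 := memLocalIdeal_mul_right hM' h (memLocalRing_natCast hM' (mPrime H p))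
    rw [inv_mul_cancel₀ (Nat.cast_ne_zero.mpr mPrime_ne_zero)] at h2
    exact not_memLocalIdeal_one hM' h2
  rw [memLocalIdeal_unit_mul_iff hM' hunitR hunit hR₁R, ← memLocalIdeal_intCast_iff hM]
  constructor
  · intro h
    have := memLocalIdeal_sub hM' h h1
    rwa [sub_sub_cancel] at this
  · intro h
    have := memLocalIdeal_add hM' h1 h
    rwa [sub_add_cancel] at this

/-- Let H be a subgroup of the finite group G and b a block of H whose induced block B₀ in G is defined (relative to a maximal ideal M of the algebraic integers containing p). Let χ be an irreducible character of G, ψ ∈ b, and let η be the class function on H equal to p^a · χ on the p-regular elements of H and zero elsewhere, p^a being the p-part of the order of H. Then (a) if χ ∉ B₀, the number [η, ψ]/ψ(1) lies in the local ideal at M; (b) if χ ∈ B₀ has height zero, it does not. -/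
theorem result {G : Type*} [Group G] [Fintype G] (p : ℕ) [Fact p.Prime] (M : Ideal Cfsg.AlgInt) (hM : Cfsg.IsPModular p M) (H : Subgroup G) [Fintype H] (b : Set (Cfsg.IrrCharacter H)) (B₀ : Set (Cfsg.IrrCharacter G)) (hind : Cfsg.IsInducedBlock M H b B₀) (χ : Cfsg.IrrCharacter G) (ψ : Cfsg.IrrCharacter H) (hψ : ψ ∈ b) : (χ ∉ B₀ → Cfsg.MemLocalIdeal M (Cfsg.classInner (fun h : H => if p ∣ orderOf h then (0 : ℂ) else ((p ^ (Nat.card H).factorization p : ℕ) : ℂ) * (χ : G → ℂ) h) (ψ : H → ℂ) / (ψ : H → ℂ) 1)) ∧ (χ ∈ B₀ → Cfsg.blockHeight p B₀ (χ : G → ℂ) = 0 → ¬ Cfsg.MemLocalIdeal M (Cfsg.classInner (fun h : H => if p ∣ orderOf h then (0 : ℂ) else ((p ^ (Nat.card H).factorization p : ℕ) : ℂ) * (χ : G → ℂ) h) (ψ : H → ℂ) / (ψ : H → ℂ) 1)) := by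
  have hp : p.Prime := Fact.out
  have hI : Cfsg.Agent.Lib.Helper57_HeightZero.RegInt G p :=
    Cfsg.Agent.Lib.Helper57_HeightZero.regInt_of_brauerLocal hp
      (fun q hq _ => Cfsg.Agent.S0874.result q hq)
  have hM' := Cfsg.Agent.Lib.Helper78_LocalRing.isPrime_of_isPModular hM
  obtain ⟨χ₀, hχ₀⟩ := Cfsg.Agent.Lib.Helper78_LocalRing.isPBlock_nonempty hM' hind.2.1
  have hkey := key hp hM H hind hI (fun q hq _ => Cfsg.Agent.S0874.result q hq) χ χ₀ hχ₀ ψ hψ
  refine ⟨fun hχ => ?_, fun hχ h0 => ?_⟩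
  · rw [hkey]
    have h1 := Cfsg.Agent.Lib.Helper57_HeightZero.rr_mul hI χ₀ χ
    rw [Cfsg.Agent.Lib.Helper57_HeightZero.NN_eq_zero_of_not_mem hM hind.2.1 hI hχ₀ hχ,
      mul_zero] at h1
    have hd0 : ((Cfsg.charDegree (χ₀ : G → ℂ) : ℕ) : ℤ) ≠ 0 :=
      Int.natCast_ne_zero.mpr (Cfsg.Agent.Lib.Helper77_BlockBasics.charDegree_pos χ₀).ne'
    rcases mul_eq_zero.mp h1 with h2 | h2
    · rw [h2]; exact dvd_zero _
    · exact absurd h2 hd0
  · rw [hkey]
    have h1 := (Cfsg.Agent.Lib.Helper57_HeightZero.height_zero_iff hp hM hind.2.1 hI hχ).mp h0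
    intro h2
    apply h1
    have h := Cfsg.Agent.Lib.Helper57_HeightZero.rr_congr hM hind.2.1 hI hχ₀ hχ χ
    have := dvd_sub h2 h
    rwa [sub_sub_cancel] at this

end Cfsg.Agent.S4431
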