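import Mathlib
import Cfsg.Statements.S4492
import Cfsg.Agent.Lib.Helper82_FongChain
import Cfsg.Agent.Lib.Helper82_CoverStep
import Cfsg.Agent.Lib.Helper82_OverSet
import Cfsg.Agent.Lib.Helper78_Deficiency
import Cfsg.Agent.Lib.Helper77_QuotDefect2

set_option autoImplicit false
open Cfsg

namespace Cfsg.Agent.S4492

/-- Let G be a finite p-solvable group, N = O_{p'}(G) its largest normal subgroup of order prime to p, and θ an irreducible character of N invariant under conjugation by G; fix a maximal ideal M of the algebraic integers containing p. Then the irreducible characters of G lying over θ (those whose restriction to N contains θ) form a single p-block of G, and the defect groups of that block are exactly the Sylow p-subgroups of G. -/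
theorem result {G : Type*} [Group G] [Fintype G] (p : ℕ) [Fact p.Prime] (M : Ideal Cfsg.AlgInt) (hM : Cfsg.IsPModular p M) (hsolv : Cfsg.IsPSolvable p G) (N : Subgroup G) [hN : N.Normal] [Fintype N] (hNdef : N = Cfsg.pPrimeCore p G) (θ : Cfsg.IrrCharacter N) (hinv : ∀ (g : G) (n : N), (θ : N → ℂ) ⟨g * n * g⁻¹, hN.conj_mem n n.2 g⟩ = (θ : N → ℂ) n) : ∃ B : Set (Cfsg.IrrCharacter G), Cfsg.IsPBlock M B ∧ (∀ χ : Cfsg.IrrCharacter G, χ ∈ B ↔ Cfsg.classInner (fun n : N => (χ : G → ℂ) n) (θ : N → ℂ) ≠ 0) ∧ (∀ P : Sylow p G, Cfsg.IsDefectGroup p M B (P : Subgroup G)) ∧ ∀ D : Subgroup G, Cfsg.IsDefectGroup p M B D → ∃ P : Sylow p G, D = (P : Subgroup G) := by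
  classical
  have hp : p.Prime := Fact.out
  obtain ⟨hB, χ₀, hχ₀, hdeg⟩ :=
    Cfsg.Agent.Lib.Helper82_FongChain.fong_block hM hsolv N hNdef θ hinv
  have hdef : Cfsg.blockDefect p (Cfsg.Agent.Lib.Helper82_OverSet.overSet N.subtype (θ : N → ℂ)) =
      (Nat.card G).factorization p :=
    Cfsg.Agent.Lib.Helper82_CoverStep.blockDefect_eq_of_full hχ₀ hdeg
  have hsyl : ∀ D : Subgroup G, Cfsg.IsDefectGroup p M
      (Cfsg.Agent.Lib.Helper82_OverSet.overSet N.subtype (θ : N → ℂ)) D →
      ∃ P : Sylow p G, D = (P : Subgroup G) := by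
    intro D hD
    have hcard := Cfsg.Agent.Lib.Helper78_Deficiency.card_isDefectGroup hM hB hD
    rw [hdef] at hcard
    exact ⟨Sylow.ofCard D hcard, rfl⟩
  refine ⟨Cfsg.Agent.Lib.Helper82_OverSet.overSet N.subtype (θ : N → ℂ), hB, fun χ => Iff.rfl,
    ?_, hsyl⟩
  intro P
  obtain ⟨D, hD⟩ := Cfsg.Agent.Lib.Helper78_Deficiency.exists_isDefectGroup hM hB
  obtain ⟨P₀, rfl⟩ := hsyl D hD
  obtain ⟨g, rfl⟩ := MulAction.exists_smul_eq G P₀ P
  have h1 := Cfsg.Agent.Lib.Helper77_QuotDefect2.isDefectGroup_map_conj hM hB hD g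
  have h2 : ((g • P₀ : Sylow p G) : Subgroup G) =
      (P₀ : Subgroup G).map (MulAut.conj g).toMonoidHom := by
    rw [Sylow.coe_subgroup_smul]
    rfl
  rw [h2]
  exact h1

end Cfsg.Agent.S4492
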