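import Cfsg.Statements.S4439
import Cfsg.Agent.Lib.Helper77_HtInv
import Cfsg.Agent.Lib.Helper77_FongReynolds2
import Cfsg.Agent.Lib.Helper77_Knorr2
import Cfsg.Agent.Lib.Helper77_QuotDefect2
import Cfsg.Agent.Lib.Helper69_PComplement
import Cfsg.Agent.S0914
import Cfsg.Agent.S4492

set_option autoImplicit false
open Cfsg

namespace Cfsg.Agent.S4439

open Cfsg.Agent.Lib.Helper16_Orbit Cfsg.Agent.Lib.Helper16_Cover
  Cfsg.Agent.Lib.Helper78_LocalRing Cfsg.Agent.Lib.Helper77_StableCover
  Cfsg.Agent.Lib.Helper77_BlockBasics Cfsg.Agent.Lib.Helper77_FongReynolds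
  Cfsg.Agent.Lib.Helper77_FongReynolds2 Cfsg.Agent.Lib.Helper77_Knorr2
  Cfsg.Agent.Lib.Helper77_HtInv Cfsg.Agent.Lib.Helper76_PSolvable

universe u

/-- The index of the centre is an isomorphism invariant. -/
theorem center_index_congr {A B : Type*} [Group A] [Group B] [Finite A] (e : A ≃* B) :
    (Subgroup.center A).index = (Subgroup.center B).index := by
  have : Finite B := Finite.of_equiv A e.toEquiv
  have h1 := Subgroup.card_mul_index (Subgroup.center A)
  have h2 := Subgroup.card_mul_index (Subgroup.center B)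
  have h3 : Nat.card (Subgroup.center A) = Nat.card (Subgroup.center B) :=
    Nat.card_congr (Subgroup.centerCongr e).toEquiv
  have h4 : Nat.card A = Nat.card B := Nat.card_congr e.toEquiv
  rw [h3, h4, ← h2] at h1
  exact Nat.eq_of_mul_eq_mul_left Nat.card_pos h1

theorem main (p : ℕ) [Fact p.Prime] (M : Ideal AlgInt) (hM : IsPModular p M) :
    ∀ (n : ℕ) (G : Type u) [Group G] [Finite G], Nat.card G = n → IsPSolvable p G →
      ∀ (B : Set (IrrCharacter G)), IsPBlock M B → ∀ P : Subgroup G, IsDefectGroup p M B P →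
        ∀ χ : IrrCharacter G, χ ∈ B →
          blockHeight p B (χ : G → ℂ) ≤ ((Subgroup.center P).index).factorization p := by
  intro n
  induction n using Nat.strong_induction_on with
  | _ n ih =>
  intro G _ _ hn hsol B hB P hP χ hχ
  classical
  have hp : p.Prime := Fact.out
  have hMp := isPrime_of_isPModular hM
  have hFG : Fintype G := Fintype.ofFinite G
  set N : Subgroup G := pPrimeCore p G with hNdef
  have hFN : Fintype N := Fintype.ofFinite N
  obtain ⟨θ, hθ⟩ := exists_under (N := N) χ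
  have hNcop : (Nat.card N).Coprime p := pPrimeCore_card_coprime p
  have hb1 : blockOf M (θ : N → ℂ) = {θ} := by
    rw [← Cfsg.Agent.S0914.result p M hM θ]
    intro hdvd
    have h1 : p ∣ Nat.card N := dvd_trans hdvd (Nat.div_dvd_of_dvd (charDegree_dvd_card θ))
    exact hp.one_lt.ne' (Nat.eq_one_of_dvd_coprimes hNcop.symm (dvd_refl p) h1)
  set b : Set (IrrCharacter N) := {θ} with hbdef
  have hb : IsPBlock M b := ⟨θ, hb1.symm⟩
  set T : Subgroup G := stabSub N b with hTdef
  have hT : ∀ g : G, g ∈ T ↔ ∀ θ' ∈ b, cjIrr N g θ' ∈ b := mem_stabSub_iff N hMp hb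
  have hNT : N ≤ T := le_stabSub N hMp hb
  have hcov : ∃ χ' ∈ B, ∃ θ' ∈ b,
      classInner (fun n : N => (χ' : G → ℂ) n) (θ' : N → ℂ) ≠ 0 := ⟨χ, hχ, θ, rfl, hθ⟩
  by_cases hTtop : T = ⊤
  · -- the invariant case
    have hinv : ∀ (g : G) (n : N),
        (θ : N → ℂ) ⟨g * n * g⁻¹, (inferInstance : N.Normal).conj_mem n n.2 g⟩ =
          (θ : N → ℂ) n := by
      intro g n
      have hg : g⁻¹ ∈ T := by rw [hTtop]; trivial
      have h1 : cjIrr N g⁻¹ θ = θ := (hT g⁻¹).mp hg θ rfl
      have h2 : (cjIrr N g⁻¹ θ : N → ℂ) n = (θ : N → ℂ) n := by rw [h1]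
      rw [← h2]
      show _ = cj N g⁻¹ (θ : N → ℂ) n
      unfold cj
      exact congrArg (θ : N → ℂ) (Subtype.ext (by simp [MulAut.conjNormal_apply]))
    obtain ⟨B₀, hB₀, hmem, hsyl, hdef⟩ := Cfsg.Agent.S4492.result p M hM hsol N hNdef θ hinv
    have hBeq : B₀ = B := isPBlock_eq_of_mem_of_mem hMp hB₀ hB ((hmem χ).mpr hθ) hχ
    obtain ⟨S, hS⟩ := hdef P (hBeq ▸ hP)
    have hdeg := degree_le_of_invariant p hsol N hNdef θ hinv χ hθ S
    subst hS
    unfold blockHeight
    exact (Nat.sub_le _ _).trans hdeg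
  · -- the Fong–Reynolds reduction
    have hFT : Fintype T := Fintype.ofFinite T
    obtain ⟨B', hB', hcov', hind⟩ := fr_part3 hNT hMp hb hT hB hcov
    obtain ⟨hirr, hind'⟩ := indSet_spec hNT hMp hb hT hB' hcov'
    have hBeq : indSet T B' = B :=
      Cfsg.Agent.Lib.Helper78_Deficiency.isInducedBlock_unique hMp hind' hind
    obtain ⟨ψ, hψ, hχψ⟩ : χ ∈ indSet T B' := hBeq ▸ hχ
    obtain ⟨hdg, hht⟩ := fr_heights hNT p hM hb hT hB' hcov' hind
    obtain ⟨χ', hχ', hχ'eq, hhtχ'⟩ := hht ψ hψ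
    obtain ⟨D', hD'⟩ := Cfsg.Agent.Lib.Helper78_Deficiency.exists_isDefectGroup hM hB'
    have hD := hdg D' hD'
    obtain ⟨x, hx⟩ := Cfsg.Agent.Lib.Helper77_QuotDefect2.exists_conj_eq hM hB hD hP
    have hlt : Nat.card T < n := by
      rw [← hn]
      exact lt_of_le_of_ne (Subgroup.card_le_card_group T)
        (fun h => hTtop (Subgroup.eq_top_of_card_eq T h))
    have ihT := ih (Nat.card T) hlt T rfl
      (Cfsg.Agent.Lib.Helper69_PComplement.isPSolvable_subgroup p hsol T) B' hB' D' hD' ψ hψ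
    rw [hχψ, ← hχ'eq, hhtχ']
    refine ihT.trans (le_of_eq ?_)
    have e1 : D' ≃* (D'.map T.subtype : Subgroup G) :=
      Subgroup.equivMapOfInjective D' T.subtype T.subtype_injective
    have e2 : (D'.map T.subtype : Subgroup G) ≃*
        ((D'.map T.subtype).map (MulAut.conj x).toMonoidHom : Subgroup G) :=
      Subgroup.equivMapOfInjective _ _ (MulAut.conj x).injective
    rw [hx, center_index_congr (e1.trans e2)]

/-- Let G be a finite p-solvable group and B a p-block of G with defect group P (relative to a maximal ideal M of the algebraic integers containing p). Then the height of every irreducible character in B is at most the exponent of p in the index of the centre of P in P. -/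
theorem result {G : Type*} [Group G] [Finite G] (p : ℕ) [Fact p.Prime] (M : Ideal Cfsg.AlgInt) (hM : Cfsg.IsPModular p M) (hsolv : Cfsg.IsPSolvable p G) (B : Set (Cfsg.IrrCharacter G)) (hB : Cfsg.IsPBlock M B) (P : Subgroup G) (hP : Cfsg.IsDefectGroup p M B P) (χ : Cfsg.IrrCharacter G) (hχ : χ ∈ B) : Cfsg.blockHeight p B (χ : G → ℂ) ≤ ((Subgroup.center P).index).factorization p :=
  main p M hM (Nat.card G) G rfl hsolv B hB P hP χ hχ

end Cfsg.Agent.S4439
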