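import Cfsg.Statements.S4446
import Cfsg.Agent.Lib.Helper75_GlaubCyclic

set_option autoImplicit false
open Cfsg

namespace Cfsg.Agent.S4446

/-- A sign times an irreducible character determines both. -/
theorem sign_irr_unique {C : Type*} [Group C] [Fintype C] {β β' : Cfsg.IrrCharacter C} {ε ε' : ℤ}
    (hε : ε = 1 ∨ ε = -1) (hε' : ε' = 1 ∨ ε' = -1)
    (h : ∀ c : C, (ε' : ℂ) * (β' : C → ℂ) c = (ε : ℂ) * (β : C → ℂ) c) : β' = β ∧ ε' = ε := by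
  obtain ⟨n, hn, hn1⟩ := Cfsg.Agent.Lib.Helper3_CharColumn.irr_one_eq_natCast β.2
  obtain ⟨n', hn', hn1'⟩ := Cfsg.Agent.Lib.Helper3_CharColumn.irr_one_eq_natCast β'.2
  have h1 := h 1
  rw [hn1, hn1'] at h1
  have h2 : ε' * (n' : ℤ) = ε * (n : ℤ) := by exact_mod_cast h1
  have hεε : ε' = ε := by
    rcases hε with rfl | rfl <;> rcases hε' with rfl | rfl
    · rfl
    · exfalso; omega
    · exfalso; omega
    · rfl
  refine ⟨?_, hεε⟩
  apply Subtype.ext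
  funext c
  have h3 := h c
  rw [hεε] at h3
  have hε0 : (ε : ℂ) ≠ 0 := by
    rcases hε with rfl | rfl <;> norm_num
  exact mul_left_cancel₀ hε0 h3

/-- Let the finite group Γ be generated by a normal subgroup G and a cyclic subgroup S of coprime orders, C = G ⊓ C(S), and let χ be an S-invariant irreducible character of G with canonical extension χ̂ to Γ (the extension whose determinantal order is coprime to the order of S). Then there are exactly one irreducible character β of C and one sign ε such that χ̂(c s) = ε β(c) for every c ∈ C and every generator s of S; this β is a constituent of the restriction of χ to C; distinct S-invariant χ give distinct β; and every irreducible character of C arises in this way. -/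
theorem result {Γ : Type*} [Group Γ] [Fintype Γ] (G S : Subgroup Γ) [Fintype G] (hnorm : ∀ s ∈ S, ∀ g ∈ G, s * g * s⁻¹ ∈ G) (hcop : (Nat.card G).Coprime (Nat.card S)) (htop : G ⊔ S = ⊤) (hcyc : IsCyclic S) (C : Subgroup Γ) [Fintype C] (hC : C = G ⊓ Subgroup.centralizer (S : Set Γ)) (hCG : C ≤ G) : (∀ (χ : Cfsg.IrrCharacter G) (χh : Cfsg.IrrCharacter Γ), (∀ s ∈ S, ∀ g g' : G, (g' : Γ) = s * g * s⁻¹ → (χ : G → ℂ) g' = (χ : G → ℂ) g) → (∀ g : G, (χh : Γ → ℂ) g = (χ : G → ℂ) g) → (Cfsg.detOrder (χh : Γ → ℂ)).Coprime (Nat.card S) → (∃! βε : Cfsg.IrrCharacter C × ℤ, (βε.2 = 1 ∨ βε.2 = -1) ∧ ∀ c : C, ∀ s : Γ, Subgroup.zpowers s = S → (χh : Γ → ℂ) ((c : Γ) * s) = (βε.2 : ℂ) * (βε.1 : C → ℂ) c) ∧ ∀ β : Cfsg.IrrCharacter C, ∀ ε : ℤ, (ε = 1 ∨ ε = -1) → (∀ c : C, ∀ s : Γ, Subgroup.zpowers s = S → (χh : Γ → ℂ) ((c : Γ) * s) = (ε : ℂ) * (β : C → ℂ) c) → Cfsg.classInner (fun c : C => (χ : G →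 ℂ) ⟨c, hCG c.2⟩) (β : C → ℂ) ≠ 0) ∧ (∀ (χ χ' : Cfsg.IrrCharacter G) (χh χh' : Cfsg.IrrCharacter Γ), (∀ s ∈ S, ∀ g g' : G, (g' : Γ) = s * g * s⁻¹ → (χ : G → ℂ) g' = (χ : G → ℂ) g) → (∀ s ∈ S, ∀ g g' : G, (g' : Γ) = s * g * s⁻¹ → (χ' : G → ℂ) g' = (χ' : G → ℂ) g) → (∀ g : G, (χh : Γ → ℂ) g = (χ : G → ℂ) g) → (∀ g : G, (χh' : Γ → ℂ) g = (χ' : G → ℂ) g) → (Cfsg.detOrder (χh : Γ → ℂ)).Coprime (Nat.card S) → (Cfsg.detOrder (χh' : Γ → ℂ)).Coprime (Nat.card S) → ∀ β : Cfsg.IrrCharacter C, ∀ ε ε' : ℤ, (ε = 1 ∨ ε = -1) → (ε' = 1 ∨ ε' = -1) → (∀ c : C, ∀ s : Γ, Subgroup.zpowers s = S → (χh : Γ → ℂ) ((c : Γ) * s) = (ε : ℂ) * (β : C → ℂ) c) → (∀ c : C, ∀ s : Γ, Subgroup.zpowers s = S → (χh' : Γ → ℂ) ((c : Γ) * s) = (ε' : ℂ) * (β : C → ℂ) c) → χ = χ') ∧ (∀ β : Cfsg.IrrCharacter C, ∃ (χ : Cfsg.IrrCharacter G) (χh : Cfsg.IrrCharacter Γ) (ε : ℤ), (∀ s ∈ S, ∀ g g' : G, (g' : Γ) = s * g * s⁻¹ → (χ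 : G → ℂ) g' = (χ : G → ℂ) g) ∧ (∀ g : G, (χh : Γ → ℂ) g = (χ : G → ℂ) g) ∧ (Cfsg.detOrder (χh : Γ → ℂ)).Coprime (Nat.card S) ∧ (ε = 1 ∨ ε = -1) ∧ ∀ c : C, ∀ s : Γ, Subgroup.zpowers s = S → (χh : Γ → ℂ) ((c : Γ) * s) = (ε : ℂ) * (β : C → ℂ) c) := by
  classical
  -- `G` is normal in `Γ`
  have hG : G.Normal := by
    rw [← Subgroup.normalizer_eq_top_iff, eq_top_iff, ← htop]
    exact sup_le Subgroup.le_normalizer
      (Cfsg.Agent.Lib.Helper75_CosetConj.le_normalizer_of_hnorm G S hnorm)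
  -- a generator of `S`
  obtain ⟨s₀, hs₀⟩ := hcyc.exists_generator
  have hs : Subgroup.zpowers (s₀ : Γ) = S := by
    ext x
    constructor
    · intro hx
      exact (Subgroup.zpowers_le.mpr s₀.2) hx
    · intro hx
      obtain ⟨i, hi⟩ := Subgroup.mem_zpowers_iff.mp (hs₀ ⟨x, hx⟩)
      rw [Subgroup.mem_zpowers_iff]
      refine ⟨i, ?_⟩
      have := congrArg Subtype.val hi
      simpa using this
  have hc : ∀ c : C, (c : Γ) ∈ G ⊓ Subgroup.centralizer (S : Set Γ) := fun c => by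
    rw [← hC]; exact c.2
  refine ⟨?_, ?_, ?_⟩
  · intro χ χh hinv hext hdet
    have hψG : Cfsg.IsIrrCharacter G (fun g : G => (χh : Γ → ℂ) g) := by
      rw [funext hext]; exact χ.2
    obtain ⟨β, ε, hε, hv, hne⟩ := Cfsg.Agent.Lib.Helper75_GlaubCyclic.exists_beta G S hcop htop hs
      χh.2 hψG hdet C hC
    have hgen : ∀ c : C, ∀ s' : Γ, Subgroup.zpowers s' = S →
        (χh : Γ → ℂ) ((c : Γ) * s') = (ε : ℂ) * (β : C → ℂ) c := by
      intro c s' hs'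
      rw [Cfsg.Agent.Lib.Helper75_GlaubCyclic.apply_mul_generator G S hcop htop hs χh.2 hψG hdet
        (hc c) hs', hv]
    have huniq : ∀ (β' : Cfsg.IrrCharacter C) (ε' : ℤ), (ε' = 1 ∨ ε' = -1) →
        (∀ c : C, ∀ s' : Γ, Subgroup.zpowers s' = S →
          (χh : Γ → ℂ) ((c : Γ) * s') = (ε' : ℂ) * (β' : C → ℂ) c) → β' = β ∧ ε' = ε := by
      intro β' ε' hε' hgen'
      apply sign_irr_unique hε hε'
      intro c
      rw [← hgen' c _ hs, ← hgen c _ hs]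
    constructor
    · refine ⟨(β, ε), ⟨hε, hgen⟩, ?_⟩
      rintro ⟨β', ε'⟩ ⟨hε', hgen'⟩
      obtain ⟨h1, h2⟩ := huniq β' ε' hε' hgen'
      exact Prod.ext h1 h2
    · intro β' ε' hε' hgen'
      obtain ⟨h1, -⟩ := huniq β' ε' hε' hgen'
      rw [h1]
      have : (fun c : C => (χ : G → ℂ) ⟨c, hCG c.2⟩) = fun c : C => (χh : Γ → ℂ) (c : Γ) := by
        funext c
        exact (hext ⟨c, hCG c.2⟩).symm
      rw [this]
      exact hne
  · intro χ χ' χh χh' hinv hinv' hext hext' hdet hdet' β ε ε' hε hε' hgen hgen'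
    have h1 := Cfsg.Agent.Lib.Helper75_GlaubCyclic.restrict_eq_of_beta_eq G S hcop htop hs C hC
      χh.2 χh'.2 β.2 hε hε' (fun c => hgen c _ hs) (fun c => hgen' c _ hs)
    apply Subtype.ext
    funext g
    rw [← hext g, ← hext' g]
    exact congrFun h1 g
  · intro β
    obtain ⟨χ, ψ, ε, hinvΓ, hres, hd, hε, hv⟩ :=
      Cfsg.Agent.Lib.Helper75_GlaubCyclic.exists_of_beta G S hcop htop hs C hC β
    have hψG : Cfsg.IsIrrCharacter G (fun g : G => (ψ : Γ → ℂ) g) := by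
      rw [funext hres]; exact χ.2
    refine ⟨χ, ψ, ε, ?_, hres, hd, hε, ?_⟩
    · intro t _ g g' hgg'
      have h1 := hinvΓ t g
      have h2 : g' = ⟨t * (g : Γ) * t⁻¹, hG.conj_mem (g : Γ) g.2 t⟩ := Subtype.ext hgg'
      rw [h2, h1]
    · intro c s' hs'
      rw [Cfsg.Agent.Lib.Helper75_GlaubCyclic.apply_mul_generator G S hcop htop hs ψ.2 hψG hd
        (hc c) hs', hv]

end Cfsg.Agent.S4446
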