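import Cfsg.Statements.S4448
import Cfsg.Agent.Lib.Helper74_GoingUp

set_option autoImplicit false
open Cfsg

namespace Cfsg.Agent.S4448

open Cfsg.Agent.Lib Cfsg.Agent.Lib.Helper74_GoingUp
open scoped ComplexConjugate

section Chain

variable {Γ : Type*} [Group Γ]

/-- the chain `H₀ = ⊤`, `H_{i+1} = N ⊔ [H_i, H_i]` of subgroups of `G` -/
def Hs (G N : Subgroup Γ) : ℕ → Subgroup ↥G
  | 0 => ⊤
  | (i + 1) => N.subgroupOf G ⊔ ⁅Hs G N i, Hs G N i⁆

/-- the same chain as subgroups of the ambient group -/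
def Ks (G N : Subgroup Γ) (i : ℕ) : Subgroup Γ := (Hs G N i).map G.subtype

theorem Hs_zero (G N : Subgroup Γ) : Hs G N 0 = ⊤ := rfl

theorem Hs_succ (G N : Subgroup Γ) (i : ℕ) :
    Hs G N (i + 1) = N.subgroupOf G ⊔ ⁅Hs G N i, Hs G N i⁆ := rfl

theorem le_Hs (G N : Subgroup Γ) (i : ℕ) : N.subgroupOf G ≤ Hs G N i := by
  cases i with
  | zero => exact le_top
  | succ i => exact le_sup_left

theorem Hs_normal (G N : Subgroup Γ) [hN : (N.subgroupOf G).Normal] (i : ℕ) :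
    (Hs G N i).Normal := by
  induction i with
  | zero => rw [Hs_zero]; infer_instance
  | succ i ih =>
    rw [Hs_succ]
    have := ih
    infer_instance

theorem Hs_succ_le (G N : Subgroup Γ) (i : ℕ) : Hs G N (i + 1) ≤ Hs G N i := by
  induction i with
  | zero => exact le_top
  | succ i ih =>
    rw [Hs_succ G N (i + 1), Hs_succ G N i]
    exact sup_le_sup_left (Subgroup.commutator_mono ih ih) _

theorem map_Hs (G N : Subgroup Γ) [hN : (N.subgroupOf G).Normal] (i : ℕ) :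
    (Hs G N i).map (QuotientGroup.mk' (N.subgroupOf G)) =
      derivedSeries (↥G ⧸ N.subgroupOf G) i := by
  induction i with
  | zero =>
    rw [Hs_zero, derivedSeries_zero]
    exact Subgroup.map_top_of_surjective _ (QuotientGroup.mk'_surjective _)
  | succ i ih =>
    rw [Hs_succ, derivedSeries_succ, Subgroup.map_sup, Subgroup.map_commutator, ih,
      QuotientGroup.map_mk'_self, bot_sup_eq]

theorem exists_Hs_le (G N : Subgroup Γ) [hN : (N.subgroupOf G).Normal]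
    [hsolv : Group.IsSolvable (↥G ⧸ N.subgroupOf G)] : ∃ d, Hs G N d ≤ N.subgroupOf G := by
  obtain ⟨d, hd⟩ := hsolv.solvable
  refine ⟨d, ?_⟩
  have := map_Hs G N d
  rw [hd, Subgroup.map_eq_bot_iff, QuotientGroup.ker_mk'] at this
  exact this

theorem Hs_map_le (G N : Subgroup Γ) (a : MulAut ↥G)
    (ha : (N.subgroupOf G).map a.toMonoidHom ≤ N.subgroupOf G) (i : ℕ) :
    (Hs G N i).map a.toMonoidHom ≤ Hs G N i := by
  induction i with
  | zero => exact le_top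
  | succ i ih =>
    rw [Hs_succ, Subgroup.map_sup, Subgroup.map_commutator]
    exact sup_le_sup ha (Subgroup.commutator_mono ih ih)

theorem mem_Ks (G N : Subgroup Γ) (i : ℕ) (x : Γ) :
    x ∈ Ks G N i ↔ ∃ hx : x ∈ G, (⟨x, hx⟩ : G) ∈ Hs G N i := by
  unfold Ks
  rw [Subgroup.mem_map]
  constructor
  · rintro ⟨y, hy, rfl⟩
    exact ⟨y.2, hy⟩
  · rintro ⟨hx, h⟩
    exact ⟨⟨x, hx⟩, h, rfl⟩

theorem Ks_le (G N : Subgroup Γ) (i : ℕ) : Ks G N i ≤ G := by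
  intro x hx
  obtain ⟨h, -⟩ := (mem_Ks G N i x).mp hx
  exact h

theorem le_Ks (G N : Subgroup Γ) (hNG : N ≤ G) (i : ℕ) : N ≤ Ks G N i := by
  intro x hx
  rw [mem_Ks]
  exact ⟨hNG hx, le_Hs G N i (by rw [Subgroup.mem_subgroupOf]; exact hx)⟩

theorem Ks_succ_le (G N : Subgroup Γ) (i : ℕ) : Ks G N (i + 1) ≤ Ks G N i :=
  Subgroup.map_mono (Hs_succ_le G N i)

theorem le_Ks_zero (G N : Subgroup Γ) : G ≤ Ks G N 0 := by
  intro x hx
  rw [mem_Ks]
  exact ⟨hx, Subgroup.mem_top _⟩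

theorem Ks_le_of (G N : Subgroup Γ) (d : ℕ) (hd : Hs G N d ≤ N.subgroupOf G) : Ks G N d ≤ N := by
  intro x hx
  obtain ⟨h, hx'⟩ := (mem_Ks G N d x).mp hx
  have := hd hx'
  rwa [Subgroup.mem_subgroupOf] at this

theorem Ks_conj_mem (G N : Subgroup Γ) [hN : (N.subgroupOf G).Normal] (i : ℕ) (g : Γ)
    (hg : g ∈ G) (x : Γ) (hx : x ∈ Ks G N i) : g * x * g⁻¹ ∈ Ks G N i := by
  obtain ⟨h, hx'⟩ := (mem_Ks G N i x).mp hx
  rw [mem_Ks]
  refine ⟨G.mul_mem (G.mul_mem hg h) (G.inv_mem hg), ?_⟩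
  have := (Hs_normal G N i).conj_mem ⟨x, h⟩ hx' ⟨g, hg⟩
  exact this

theorem Ks_comm_mem (G N : Subgroup Γ) (i : ℕ) (a b : Γ) (ha : a ∈ Ks G N i)
    (hb : b ∈ Ks G N i) : a * b * a⁻¹ * b⁻¹ ∈ Ks G N (i + 1) := by
  obtain ⟨ha1, ha2⟩ := (mem_Ks G N i a).mp ha
  obtain ⟨hb1, hb2⟩ := (mem_Ks G N i b).mp hb
  rw [mem_Ks]
  refine ⟨G.mul_mem (G.mul_mem (G.mul_mem ha1 hb1) (G.inv_mem ha1)) (G.inv_mem hb1), ?_⟩
  rw [Hs_succ]
  apply Subgroup.mem_sup_right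
  have := Subgroup.commutator_mem_commutator ha2 hb2
  rw [commutatorElement_def] at this
  exact this

end Chain

section Concrete

variable {Γ : Type*} [Group Γ]

/-- conjugation by elements of `S` as automorphisms of the normalised subgroup `G` -/
def conjAut (G S : Subgroup Γ) (hSG : ∀ s ∈ S, ∀ g ∈ G, s * g * s⁻¹ ∈ G) : S →* MulAut ↥G where
  toFun s :=
    { toFun := fun g => ⟨s * g * (s : Γ)⁻¹, hSG s s.2 g g.2⟩
      invFun := fun g => ⟨(s : Γ)⁻¹ * g * s, by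
        have := hSG (s : Γ)⁻¹ (S.inv_mem s.2) g g.2
        simpa using this⟩
      left_inv := fun g => by ext; simp [mul_assoc]
      right_inv := fun g => by ext; simp [mul_assoc]
      map_mul' := fun a b => by ext; simp [mul_assoc] }
  map_one' := by ext g; simp
  map_mul' a b := by ext g; simp [mul_assoc]

theorem conjAut_apply (G S : Subgroup Γ) (hSG : ∀ s ∈ S, ∀ g ∈ G, s * g * s⁻¹ ∈ G) (s : S)
    (g : G) : ((conjAut G S hSG s g : G) : Γ) = s * g * (s : Γ)⁻¹ := rfl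

/-- lying over is transitive -/
theorem over_trans (G M N : Subgroup Γ) [Fintype G] [Fintype M] [Fintype N] (hNM : N ≤ M)
    (hMG : M ≤ G) (χ : IrrCharacter G) (φ : IrrCharacter M) (θ : IrrCharacter N)
    (h1 : classInner (fun m : M => (χ : G → ℂ) ⟨m, hMG m.2⟩) (φ : M → ℂ) ≠ 0)
    (h2 : classInner (fun n : N => (φ : M → ℂ) ⟨n, hNM n.2⟩) (θ : N → ℂ) ≠ 0) :
    classInner (fun n : N => (χ : G → ℂ) ⟨n, hMG (hNM n.2)⟩) (θ : N → ℂ) ≠ 0 := by
  classical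
  have hA : IsCharacter M (fun m : M => (χ : G → ℂ) ⟨m, hMG m.2⟩) :=
    Helper75_CharArith.isCharacter_comp (Subgroup.inclusion hMG)
      (Helper3_CharBridge.isCharacter_of_isIrrCharacter χ.2)
  obtain ⟨a, ha, hAsum⟩ := Helper75_CharArith.exists_multiplicities hA
  have haφ : a φ ≠ 0 := by
    intro h
    apply h1
    rw [ha φ, h, Nat.cast_zero]
  have hb : ∀ ψ : IrrCharacter M, ∃ n : ℕ,
      classInner (fun n : N => (ψ : M → ℂ) ⟨n, hNM n.2⟩) (θ : N → ℂ) = n := fun ψ =>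
    Helper75_CharArith.classInner_isCharacter_nat
      (Helper75_CharArith.isCharacter_comp (Subgroup.inclusion hNM)
        (Helper3_CharBridge.isCharacter_of_isIrrCharacter ψ.2))
      (Helper3_CharBridge.isCharacter_of_isIrrCharacter θ.2)
  choose b hb using hb
  have hbφ : b φ ≠ 0 := by
    intro h
    apply h2
    rw [hb φ, h, Nat.cast_zero]
  have hres : (fun n : N => (χ : G → ℂ) ⟨n, hMG (hNM n.2)⟩) =
      ∑ ψ : IrrCharacter M, (a ψ : ℂ) • (fun n : N => (ψ : M → ℂ) ⟨n, hNM n.2⟩) := by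
    funext n
    have := congrFun hAsum ⟨n, hNM n.2⟩
    simp only [Finset.sum_apply, Pi.smul_apply] at this ⊢
    exact this
  have key : classInner (fun n : N => (χ : G → ℂ) ⟨n, hMG (hNM n.2)⟩) (θ : N → ℂ) =
      ((∑ ψ : IrrCharacter M, a ψ * b ψ : ℕ) : ℂ) := by
    rw [hres, Helper3_CharOrtho.classInner_sum_left]
    push_cast
    apply Finset.sum_congr rfl
    intro ψ _
    rw [Helper3_CharOrtho.classInner_smul_left, hb ψ]
  rw [key]
  have hle : a φ * b φ ≤ ∑ ψ : IrrCharacter M, a ψ * b ψ :=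
    Finset.single_le_sum (f := fun ψ => a ψ * b ψ) (fun _ _ => Nat.zero_le _) (Finset.mem_univ φ)
  have hpos : 0 < a φ * b φ := Nat.mul_pos (Nat.pos_of_ne_zero haφ) (Nat.pos_of_ne_zero hbφ)
  have : (∑ ψ : IrrCharacter M, a ψ * b ψ) ≠ 0 := by omega
  exact_mod_cast this

/-- going up over an abelian section, for subgroups of an ambient group -/
theorem abelian_step [Fintype Γ] (G S M : Subgroup Γ) [Fintype G] [Fintype M]
    (hMG : M ≤ G) (hGM : ∀ g ∈ G, ∀ m ∈ M, g * m * g⁻¹ ∈ M)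
    (hSG : ∀ s ∈ S, ∀ g ∈ G, s * g * s⁻¹ ∈ G) (hSM : ∀ s ∈ S, ∀ m ∈ M, s * m * s⁻¹ ∈ M)
    (hab : ∀ a ∈ G, ∀ b ∈ G, a * b * a⁻¹ * b⁻¹ ∈ M)
    (hcop : (M.relIndex G).Coprime (Nat.card S))
    (φ : IrrCharacter M)
    (hinv : ∀ s ∈ S, ∀ m m' : M, (m' : Γ) = s * m * s⁻¹ → (φ : M → ℂ) m' = (φ : M → ℂ) m) :
    ∃ χ : IrrCharacter G,
      classInner (fun m : M => (χ : G → ℂ) ⟨m, hMG m.2⟩) (φ : M → ℂ) ≠ 0 ∧
      (∀ s ∈ S, ∀ g g' : G, (g' : Γ) = s * g * s⁻¹ → (χ : G → ℂ) g' = (χ : G → ℂ) g) := by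
  classical
  have hKn : (M.subgroupOf G).Normal := by
    refine ⟨fun k hk g => ?_⟩
    rw [Subgroup.mem_subgroupOf] at hk ⊢
    exact hGM g g.2 k hk
  have := Fintype.ofFinite (M.subgroupOf G)
  let e : M.subgroupOf G ≃* M := Subgroup.subgroupOfEquivOfLe hMG
  have he : ∀ k : M.subgroupOf G, ((e k : M) : Γ) = ((k : G) : Γ) := fun k => rfl
  let φ' : IrrCharacter (M.subgroupOf G) :=
    ⟨fun k => (φ : M → ℂ) (e k), isIrr_comp_equiv e φ.2⟩
  have hcomm : ∀ a b : ↥G ⧸ M.subgroupOf G, a * b = b * a := by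
    intro a b
    induction a using QuotientGroup.induction_on with
    | H a =>
      induction b using QuotientGroup.induction_on with
      | H b =>
        rw [← QuotientGroup.mk_mul, ← QuotientGroup.mk_mul, QuotientGroup.eq,
          Subgroup.mem_subgroupOf]
        have := hab (b : Γ)⁻¹ (G.inv_mem b.2) (a : Γ)⁻¹ (G.inv_mem a.2)
        simpa [mul_assoc] using this
  have hαK : ∀ s : S, ∀ k ∈ M.subgroupOf G, conjAut G S hSG s k ∈ M.subgroupOf G := by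
    intro s k hk
    rw [Subgroup.mem_subgroupOf] at hk ⊢
    exact hSM s s.2 k hk
  have hfinS : Finite S := inferInstance
  obtain ⟨χ, hχ1, hχ2⟩ := abelian_step_abs (M.subgroupOf G) hcomm (conjAut G S hSG) hαK hcop φ'
    (by
      intro s k
      show (φ : M → ℂ) (e _) = (φ : M → ℂ) (e k)
      exact hinv s s.2 (e k) (e _) rfl)
  refine ⟨χ, ?_, ?_⟩
  · have h3 := classInner_comp_equiv e (fun m : M => (χ : G → ℂ) ⟨m, hMG m.2⟩) (φ : M → ℂ)
    rw [← h3]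
    exact hχ1
  · intro s hs g g' hgg'
    have := hχ2 ⟨s, hs⟩ g
    rw [← this]
    refine congrArg _ (Subtype.ext ?_)
    rw [hgg']
    rfl

end Concrete

section Final

variable {Γ : Type*} [Group Γ]

theorem Ks_S_mem (G S N : Subgroup Γ) (hSG : ∀ s ∈ S, ∀ g ∈ G, s * g * s⁻¹ ∈ G)
    (hNS : ∀ s ∈ S, ∀ n ∈ N, s * n * s⁻¹ ∈ N) (i : ℕ) (s : Γ) (hs : s ∈ S) (x : Γ)
    (hx : x ∈ Ks G N i) : s * x * s⁻¹ ∈ Ks G N i := by
  obtain ⟨h, hx'⟩ := (mem_Ks G N i x).mp hx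
  rw [mem_Ks]
  refine ⟨hSG s hs x h, ?_⟩
  have hle := Hs_map_le G N (conjAut G S hSG ⟨s, hs⟩) (by
    rintro _ ⟨k, hk, rfl⟩
    rw [SetLike.mem_coe, Subgroup.mem_subgroupOf] at hk
    rw [Subgroup.mem_subgroupOf]
    exact hNS s hs k hk) i
  exact hle ⟨⟨x, h⟩, hx', rfl⟩

theorem relIndex_dvd (N A B G : Subgroup Γ) (hNA : N ≤ A) (hAB : A ≤ B) (hBG : B ≤ G) :
    A.relIndex B ∣ N.relIndex G := by
  have h1 := Subgroup.relIndex_mul_relIndex N A B hNA hAB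
  have h2 := Subgroup.relIndex_mul_relIndex N B G (hNA.trans hAB) hBG
  rw [← h2, ← h1]
  exact Dvd.dvd.mul_right (Dvd.intro_left _ rfl) _

end Final


/-- Inside a finite group Γ let S normalise G and also normalise a normal subgroup N of G, with the order of S coprime to the index of N in G and G/N solvable. Then for every S-invariant irreducible character ϑ of N, the induced character ϑ^G has an S-invariant irreducible constituent. -/
theorem result {Γ : Type*} [Group Γ] [Fintype Γ] (G S N : Subgroup Γ) [Fintype G] [Fintype N] (hnorm : ∀ s ∈ S, ∀ g ∈ G, s * g * s⁻¹ ∈ G) (hNG : N ≤ G) [hNn : (N.subgroupOf G).Normal] (hNS : ∀ s ∈ S, ∀ n ∈ N, s * n * s⁻¹ ∈ N) (hcop : (N.relIndex G).Coprime (Nat.card S)) (hsolv : Group.IsSolvable (G ⧸ N.subgroupOf G)) (θ : Cfsg.IrrCharacter N) (hinv : (∀ s ∈ S, ∀ g g' : N, (g' : Γ) = s * g * s⁻¹ → (θ : N → ℂ) g' = (θ : N → ℂ) g)) : ∃ χ : Cfsg.IrrCharacter G, Cfsg.classInner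 (fun n : N => (χ : G → ℂ) ⟨n, hNG n.2⟩) (θ : N → ℂ) ≠ 0 ∧ (∀ s ∈ S, ∀ g g' : G, (g' : Γ) = s * g * s⁻¹ → (χ : G → ℂ) g' = (χ : G → ℂ) g) := by
  classical
  have hGN : ∀ g ∈ G, ∀ n ∈ N, g * n * g⁻¹ ∈ N := by
    intro g hg n hn
    have := hNn.conj_mem (⟨n, hNG hn⟩ : G)
      (by simpa [Subgroup.mem_subgroupOf] using hn) ⟨g, hg⟩
    simpa [Subgroup.mem_subgroupOf] using this
  obtain ⟨d, hd⟩ := exists_Hs_le G N
  have instK : ∀ i, Fintype (Ks G N i) := fun i => Fintype.ofFinite _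
  have hSK : ∀ i, ∀ s ∈ S, ∀ x ∈ Ks G N i, s * x * s⁻¹ ∈ Ks G N i :=
    fun i s hs x hx => Ks_S_mem G S N hnorm hNS i s hs x hx
  let R : ℕ → Prop := fun i => ∃ χ : Cfsg.IrrCharacter (Ks G N i),
    Cfsg.classInner (fun n : N => (χ : Ks G N i → ℂ) ⟨n, le_Ks G N hNG i n.2⟩) (θ : N → ℂ) ≠ 0 ∧
    (∀ s ∈ S, ∀ g g' : Ks G N i, (g' : Γ) = s * g * s⁻¹ →
      (χ : Ks G N i → ℂ) g' = (χ : Ks G N i → ℂ) g)
  have hbase : R d := by
    obtain ⟨χ, h1, h2⟩ := abelian_step (Ks G N d) S N (le_Ks G N hNG d)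
      (fun g hg n hn => hGN g (Ks_le G N d hg) n hn) (hSK d) hNS
      (fun a ha b hb => by
        have ha' := Ks_le_of G N d hd ha
        have hb' := Ks_le_of G N d hd hb
        exact N.mul_mem (N.mul_mem (N.mul_mem ha' hb') (N.inv_mem ha')) (N.inv_mem hb'))
      (Nat.Coprime.coprime_dvd_left
        (relIndex_dvd N N (Ks G N d) G le_rfl (le_Ks G N hNG d) (Ks_le G N d)) hcop)
      θ hinv
    exact ⟨χ, h1, h2⟩
  have hstep : ∀ i, R (i + 1) → R i := by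
    rintro i ⟨φ, hφ1, hφ2⟩
    obtain ⟨χ, h1, h2⟩ := abelian_step (Ks G N i) S (Ks G N (i + 1)) (Ks_succ_le G N i)
      (fun g hg m hm => Ks_conj_mem G N (i + 1) g (Ks_le G N i hg) m hm) (hSK i) (hSK (i + 1))
      (fun a ha b hb => Ks_comm_mem G N i a b ha hb)
      (Nat.Coprime.coprime_dvd_left
        (relIndex_dvd N (Ks G N (i + 1)) (Ks G N i) G (le_Ks G N hNG (i + 1))
          (Ks_succ_le G N i) (Ks_le G N i)) hcop)
      φ hφ2
    exact ⟨χ, over_trans (Ks G N i) (Ks G N (i + 1)) N (le_Ks G N hNG (i + 1))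
      (Ks_succ_le G N i) χ φ θ h1 hφ1, h2⟩
  have hall : ∀ j, j ≤ d → R (d - j) := by
    intro j
    induction j with
    | zero => intro _; exact hbase
    | succ j ih =>
      intro hj
      have h3 := ih (by omega)
      obtain ⟨i, hi1, hi2⟩ : ∃ i, d - j = i + 1 ∧ d - (j + 1) = i :=
        ⟨d - (j + 1), by omega, rfl⟩
      rw [hi2]
      rw [hi1] at h3
      exact hstep i h3
  have h0 : R 0 := by
    have := hall d le_rfl
    rwa [Nat.sub_self] at this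
  obtain ⟨φ, hφ1, hφ2⟩ := h0
  obtain ⟨χ, h1, h2⟩ := abelian_step G S (Ks G N 0) (Ks_le G N 0)
    (fun g hg m hm => Ks_conj_mem G N 0 g hg m hm) hnorm (hSK 0)
    (fun a ha b hb => le_Ks_zero G N
      (G.mul_mem (G.mul_mem (G.mul_mem ha hb) (G.inv_mem ha)) (G.inv_mem hb)))
    (Nat.Coprime.coprime_dvd_left
      (relIndex_dvd N (Ks G N 0) G G (le_Ks G N hNG 0) (Ks_le G N 0) le_rfl) hcop)
    φ hφ2
  exact ⟨χ, over_trans G (Ks G N 0) N (le_Ks G N hNG 0) (Ks_le G N 0) χ φ θ h1 hφ1, h2⟩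

end Cfsg.Agent.S4448
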