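import Cfsg.Statements.S4450
import Cfsg.Agent.Lib.Helper75_MinSupp
import Cfsg.Agent.Lib.Helper75_Hat
import Cfsg.Agent.Lib.Helper75_TripleReduce
import Cfsg.Agent.S4444
import Cfsg.Agent.S4448

set_option autoImplicit false
open Cfsg

namespace Cfsg.Agent.S4450

open Cfsg.Agent.Lib.Helper75_MinSupp Cfsg.Agent.Lib.Helper75_Hat

/-- The case `G / N` solvable. -/
theorem result_of_solvable_section {Γ : Type*} [Group Γ] [Fintype Γ] (G N : Subgroup Γ)
    [hG : G.Normal] [hN : N.Normal] [Fintype G] [Fintype N] (hNG : N ≤ G)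
    (hcop : (G.index).Coprime (N.relIndex G))
    (hsolv : Group.IsSolvable (G ⧸ N.subgroupOf G)) (θ : Cfsg.IrrCharacter N)
    (hinv : ∀ (x : Γ) (n : N),
      (θ : N → ℂ) ⟨x * n * x⁻¹, hN.conj_mem n n.2 x⟩ = (θ : N → ℂ) n) :
    ∃ χ : Cfsg.IrrCharacter G,
      Cfsg.classInner (fun n : N => (χ : G → ℂ) ⟨n, hNG n.2⟩) (θ : N → ℂ) ≠ 0 ∧
        ∀ (x : Γ) (g : G), (χ : G → ℂ) ⟨x * g * x⁻¹, hG.conj_mem g g.2 x⟩ = (χ : G → ℂ) g := by
  obtain ⟨S, hS⟩ := exists_minSupp G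
  have hcopS : (N.relIndex G).Coprime (Nat.card S) := by
    apply Nat.Coprime.symm
    apply Nat.coprime_of_dvd
    intro p hp hpS hpN
    have hpG := prime_dvd_index hS hp hpS
    have h1 : p ∣ 1 := by
      have := Nat.dvd_gcd hpG hpN
      rwa [Nat.Coprime.gcd_eq_one hcop] at this
    exact hp.one_lt.ne' (Nat.dvd_one.mp h1)
  have hNn : (N.subgroupOf G).Normal := hN.subgroupOf G
  obtain ⟨χ, hχ, hχinv⟩ := Cfsg.Agent.S4448.result G S N
    (fun s _ g hg => hG.conj_mem g hg s) hNG (fun s _ n hn => hN.conj_mem n hn s) hcopS hsolv θ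
    (fun s _ g g' hg' => by
      have := hinv s g
      rw [← this]
      exact congrArg _ (Subtype.ext hg'))
  refine ⟨χ, hχ, ?_⟩
  exact Cfsg.Agent.Lib.Helper75_CentralInv.invariant_of_supplement G S hS.1
    (Cfsg.Agent.Lib.Helper3_CharBridge.isClassFunction_of_isIrrCharacter χ.2) hχinv

/-- The case `Γ / G` solvable. -/
theorem result_of_solvable_top {Γ : Type*} [Group Γ] [Fintype Γ] (G N : Subgroup Γ)
    [hG : G.Normal] [hN : N.Normal] [Fintype G] [Fintype N] (hNG : N ≤ G)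
    (hcop : (G.index).Coprime (N.relIndex G))
    (hsolv : Group.IsSolvable (Γ ⧸ G)) (θ : Cfsg.IrrCharacter N)
    (hinv : ∀ (x : Γ) (n : N),
      (θ : N → ℂ) ⟨x * n * x⁻¹, hN.conj_mem n n.2 x⟩ = (θ : N → ℂ) n) :
    ∃ χ : Cfsg.IrrCharacter G,
      Cfsg.classInner (fun n : N => (χ : G → ℂ) ⟨n, hNG n.2⟩) (θ : N → ℂ) ≠ 0 ∧
        ∀ (x : Γ) (g : G), (χ : G → ℂ) ⟨x * g * x⁻¹, hG.conj_mem g g.2 x⟩ = (χ : G → ℂ) g := by
  classical
  obtain ⟨n, ρ, hρ, hθρ⟩ := θ.2
  have hmpos : 0 < Nat.card N := Nat.card_pos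
  have hm : ∀ x : N, x ^ Nat.card N = 1 := fun x => pow_card_eq_one'
  have hfin : Finite (hat N ρ (Nat.card N)) := finite_hat N ρ (Nat.card N) hmpos
  have hfX : Fintype (hat N ρ (Nat.card N)) := Fintype.ofFinite _
  have hinv' : ∀ (g : Γ) (x : N), ρ.character (cj N g x) = ρ.character x := by
    intro g x
    rw [hθρ, ← hinv g x]
    exact congrArg _ (Subtype.ext (cj_apply N g x))
  refine Cfsg.Agent.Lib.Helper75_TripleReduce.reduce
    (fun Q _ _ => fun G S _ hnorm hcop p hp hS C _ hC hCG =>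
      Cfsg.Agent.S4444.result G S hnorm hcop p hp hS C hC hCG)
    G N hNG hcop hsolv (θ : N → ℂ) θ.2
    (proj N ρ (Nat.card N)) (proj_surjective N ρ (Nat.card N) hinv' hmpos)
    (fun z hz a => ker_central N ρ (Nat.card N) z a hz)
    (iota N ρ (Nat.card N) hm) (fun x => rfl) ?_
    (rep N ρ (Nat.card N)).character (fun a b => Representation.char_conj _ b a) ?_ ?_
    (zeta N ρ (Nat.card N)) (zeta_one N ρ (Nat.card N))
    (fun z z' hz hz' => zeta_mul_zeta N ρ (Nat.card N) z z' hz hz')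
    (fun z a hz => character_mul N ρ (Nat.card N) z a hz)
  · intro a x
    rw [conj_iota]
    exact congrArg _ (Subtype.ext (cj_apply N _ x))
  · intro x
    rw [character_iota, hθρ]
  · intro Y hY
    refine ⟨n, (rep N ρ (Nat.card N)).comp Y.subtype, ?_, rfl⟩
    exact rep_comp_irreducible N ρ (Nat.card N) hm Y.subtype
      (fun x => ⟨⟨iota N ρ (Nat.card N) hm x, hY ⟨x, rfl⟩⟩, rfl⟩)

/-- Let N ≤ G be normal subgroups of the finite group Γ with the index of G in Γ coprime to the index of N in G, and Γ/G or G/N solvable. Then for every irreducible character ϑ of N invariant under conjugation by Γ, the induced character ϑ^G has an irreducible constituent invariant under conjugation by Γ. -/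
theorem result {Γ : Type*} [Group Γ] [Fintype Γ] (G N : Subgroup Γ) [hG : G.Normal] [hN : N.Normal] [Fintype G] [Fintype N] (hNG : N ≤ G) (hcop : (G.index).Coprime (N.relIndex G)) (hsolv : Group.IsSolvable (Γ ⧸ G) ∨ Group.IsSolvable (G ⧸ N.subgroupOf G)) (θ : Cfsg.IrrCharacter N) (hinv : ∀ (x : Γ) (n : N), (θ : N → ℂ) ⟨x * n * x⁻¹, hN.conj_mem n n.2 x⟩ = (θ : N → ℂ) n) : ∃ χ : Cfsg.IrrCharacter G, Cfsg.classInner (fun n : N => (χ : G → ℂ) ⟨n, hNG n.2⟩) (θ : N → ℂ) ≠ 0 ∧ ∀ (x : Γ) (g : G), (χ : G → ℂ) ⟨x * g * x⁻¹, hG.conj_mem g g.2 x⟩ = (χ : G → ℂ) g := by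
  rcases hsolv with hsolv | hsolv
  · exact result_of_solvable_top G N hNG hcop hsolv θ hinv
  · exact result_of_solvable_section G N hNG hcop hsolv θ hinv

end Cfsg.Agent.S4450
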