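import Cfsg.Statements.S4451
import Cfsg.Agent.Lib.Helper75_GlaubFpf
import Cfsg.Agent.Lib.Helper75_CoprimeDeg

set_option autoImplicit false
open Cfsg

namespace Cfsg.Agent.S4451

/-- Let the finite group Γ be generated by a normal subgroup G and a cyclic subgroup S of coprime orders such that every non-identity element of S has the same centraliser C = G ⊓ C(S) in G. Let χ be an S-invariant irreducible character of G, χ̂ its canonical extension to Γ (determinantal order coprime to the order of S), and β the irreducible character of C with χ̂(c s) = ε₀ β(c) for c ∈ C and generators s of S (ε₀ = ±1). Then there are a sign ε = ±1, which may differ from ε₀, and a linear character μ of S with μ² = 1, such that: (a) χ̂(c x) = ε β(c) μ(x) for all c ∈ C and all x ∈ S other than 1; (b) the restriction of χ to C equals |S|·ϑ + ε β for some character ϑ of C or ϑ = 0; (c) |S| divides χ(1) − ε β(1). -/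
theorem result {Γ : Type*} [Group Γ] [Fintype Γ] (G S : Subgroup Γ) [Fintype G] (hnorm : ∀ s ∈ S, ∀ g ∈ G, s * g * s⁻¹ ∈ G) (hcop : (Nat.card G).Coprime (Nat.card S)) (htop : G ⊔ S = ⊤) (hcyc : IsCyclic S) (C : Subgroup Γ) [Fintype C] (hC : C = G ⊓ Subgroup.centralizer (S : Set Γ)) (hCG : C ≤ G) (hfpf : ∀ x ∈ S, x ≠ 1 → G ⊓ Subgroup.centralizer ({x} : Set Γ) = C) (χ : Cfsg.IrrCharacter G) (hinv : (∀ s ∈ S, ∀ g g' : G, (g' : Γ) = s * g * s⁻¹ → (χ : G → ℂ) g' = (χ : G → ℂ) g)) (χh : Cfsg.IrrCharacter Γ) (hext : (∀ g : G, (χh : Γ → ℂ) g = (χ : G → ℂ) g)) (hdet : (Cfsg.detOrder (χh : Γ → ℂ)).Coprime (Nat.card S)) (β : Cfsg.IrrCharacter C) (ε₀ : ℤ) (hε₀ : ε₀ = 1 ∨ ε₀ = -1) (hβ : ∀ c : C, ∀ s : Γ, Subgroup.zpowers s = S → (χh : Γ → ℂ) ((c : Γ) * s) = (ε₀ : ℂ) * (β : C → ℂ) c) : ∃ ε : ℤ, (ε = 1 ∨ ε = -1) ∧ (∃ μ : S → ℂ, Cfsg.IsCharacter S μ ∧ μ 1 = 1 ∧ (∀ x : S, μ x * μ x = 1) ∧ ∀ c : C, ∀ x : S, x ≠ 1 → (χh : Γ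 → ℂ) ((c : Γ) * x) = (ε : ℂ) * (β : C → ℂ) c * μ x) ∧ (∃ ϑ : C → ℂ, Cfsg.IsCharacter C ϑ ∧ (fun c : C => (χ : G → ℂ) ⟨c, hCG c.2⟩) = fun c => (Nat.card S : ℂ) * ϑ c + (ε : ℂ) * (β : C → ℂ) c) ∧ (Nat.card S : ℤ) ∣ (Cfsg.charDegree (χ : G → ℂ) : ℤ) - ε * (Cfsg.charDegree (β : C → ℂ) : ℤ) := by
  classical
  -- `G` is normal in `Γ`
  have hG : G.Normal := by
    rw [← Subgroup.normalizer_eq_top_iff, eq_top_iff, ← htop]
    exact sup_le Subgroup.le_normalizer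
      (Cfsg.Agent.Lib.Helper75_CosetConj.le_normalizer_of_hnorm G S hnorm)
  -- a generator of `S`
  obtain ⟨s₀, hs₀⟩ := hcyc.exists_generator
  have hs : Subgroup.zpowers (s₀ : Γ) = S := by
    ext x
    constructor
    · intro hx
      exact (Subgroup.zpowers_le.mpr s₀.2) hx
    · intro hx
      obtain ⟨i, hi⟩ := Subgroup.mem_zpowers_iff.mp (hs₀ ⟨x, hx⟩)
      rw [Subgroup.mem_zpowers_iff]
      refine ⟨i, ?_⟩
      have := congrArg Subtype.val hi
      simpa using this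
  have hψG : Cfsg.IsIrrCharacter G (fun g : G => (χh : Γ → ℂ) g) := by
    have : (fun g : G => (χh : Γ → ℂ) g) = (χ : G → ℂ) := funext hext
    rw [this]; exact χ.2
  have hχC : ∀ c : C, (χ : G → ℂ) ⟨c, hCG c.2⟩ = (χh : Γ → ℂ) (c : Γ) := fun c =>
    (hext ⟨c, hCG c.2⟩).symm
  obtain ⟨dχ, hdχ, -, -⟩ := Cfsg.Agent.Lib.Helper75_CanonExt.exists_degree χ.2
  have hdegχ : Cfsg.charDegree (χ : G → ℂ) = dχ :=
    Cfsg.Agent.Lib.Helper75_CoprimeDeg.charDegree_eq_of_one_eq hdχ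
  have hdeg : ∀ β' : Cfsg.IrrCharacter C, ∃ d : ℕ, (β' : C → ℂ) 1 = d := fun β' => by
    obtain ⟨d, hd, -, -⟩ := Cfsg.Agent.Lib.Helper75_CanonExt.exists_degree β'.2
    exact ⟨d, hd⟩
  choose dC hdC using hdeg
  have hdegβ : Cfsg.charDegree (β : C → ℂ) = dC β :=
    Cfsg.Agent.Lib.Helper75_CoprimeDeg.charDegree_eq_of_one_eq (hdC β)
  have := Fintype.ofFinite S
  by_cases hs1 : (s₀ : Γ) = 1
  · -- `S` is trivial
    have hSbot : S = ⊥ := by rw [← hs, hs1, Subgroup.zpowers_one_eq_bot]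
    have hcard : Nat.card S = 1 := by rw [hSbot]; exact Subgroup.card_bot
    have hx1 : ∀ x : S, x = 1 := by
      intro x
      apply Subtype.ext
      have h : (x : Γ) ∈ (⊥ : Subgroup Γ) := hSbot ▸ x.2
      exact Subgroup.mem_bot.mp h
    have hval : ∀ c : C, (χ : G → ℂ) ⟨c, hCG c.2⟩ = (ε₀ : ℂ) * (β : C → ℂ) c := by
      intro c
      rw [hχC c]
      have := hβ c 1 (by rw [Subgroup.zpowers_one_eq_bot, hSbot])
      rwa [mul_one] at this
    refine ⟨ε₀, hε₀, ⟨fun _ => 1, Cfsg.Agent.Lib.Helper75_LinChar.isLin_one.1, rfl,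
      fun _ => by norm_num, fun c x hx => absurd (hx1 x) hx⟩,
      ⟨0, Cfsg.Agent.Lib.Helper75_CharArith.isCharacter_zero, ?_⟩, ?_⟩
    · funext c
      rw [hval c]; simp
    · rw [hcard]; simp
  · -- the main case
    obtain ⟨ε, μ, a, hε, hμ2, hvals, hres⟩ :=
      Cfsg.Agent.Lib.Helper75_GlaubFpf.fpf_main G S hcop htop hs χh.2 hψG hdet C hC hfpf β ε₀ hε₀
        (fun c => hβ c s₀ hs) hs1
    have hScomm : ∀ a b : S, a * b = b * a := by
      intro a b
      obtain ⟨i, hi⟩ := Subgroup.mem_zpowers_iff.mp (hs₀ a)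
      obtain ⟨j, hj⟩ := Subgroup.mem_zpowers_iff.mp (hs₀ b)
      rw [← hi, ← hj, ← zpow_add, ← zpow_add, add_comm]
    have hμlin := Cfsg.Agent.Lib.Helper75_CanonExt.isLin_of_comm hScomm μ.2
    refine ⟨ε, hε, ⟨(μ : S → ℂ), hμlin.1, hμlin.2, hμ2, hvals⟩,
      ⟨∑ β' : Cfsg.IrrCharacter C, (a β') • (β' : C → ℂ), ?_, ?_⟩, ?_⟩
    · apply Cfsg.Agent.Lib.Helper75_CharArith.isCharacter_sum
      intro β' _
      exact Cfsg.Agent.Lib.Helper75_CharArith.isCharacter_nsmul (a β')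
        (Cfsg.Agent.Lib.Helper3_CharBridge.isCharacter_of_isIrrCharacter β'.2)
    · funext c
      rw [hχC c, hres c]
      congr 2
      rw [Finset.sum_apply]
      apply Finset.sum_congr rfl
      intro β' _
      simp
    · have h1 := hres 1
      have h0 : (χh : Γ → ℂ) 1 = dχ := by
        rw [← hdχ]; exact hext 1
      rw [Subgroup.coe_one, h0] at h1
      have h2 : (dχ : ℂ) = (Nat.card S : ℂ) *
          ((∑ β' : Cfsg.IrrCharacter C, a β' * dC β' : ℕ) : ℂ) + (ε : ℂ) * (dC β : ℂ) := by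
        rw [h1]
        push_cast
        congr 2
        · apply Finset.sum_congr rfl
          intro β' _
          rw [hdC β']
        · exact hdC β
      have h3 : (dχ : ℤ) = (Nat.card S : ℤ) *
          ((∑ β' : Cfsg.IrrCharacter C, a β' * dC β' : ℕ) : ℤ) + ε * (dC β : ℤ) := by
        exact_mod_cast h2
      rw [hdegχ, hdegβ, h3, add_sub_cancel_right]
      exact dvd_mul_right _ _

end Cfsg.Agent.S4451
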