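import Cfsg.Statements.S4455
import Cfsg.Agent.Lib.Helper74_PQuot
import Cfsg.Agent.Lib.Helper74_FS3
import Cfsg.Agent.Lib.Helper2_PResidual
import Cfsg.Agent.Lib.Helper84_Hyperfocal
import Cfsg.Agent.Lib.Helper79_CharVals
import Cfsg.Agent.Lib.Helper80_CharBasic
import Cfsg.Agent.Lib.Helper75_LinChar

set_option autoImplicit false
open Cfsg

namespace Cfsg.Agent.S4455

open Cfsg.Agent.Lib Cfsg.Agent.Lib.Helper74_PQuot Cfsg.Agent.Lib.Helper75_LinChar
open scoped ComplexConjugate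

section Aux

variable {G : Type*} [Group G]

theorem charDegree_res (N : Subgroup G) (χ : G → ℂ) :
    Cfsg.charDegree (fun n : N => χ n) = Cfsg.charDegree χ := by
  unfold Cfsg.charDegree
  simp

/-- linear characters of `O^p(G)` have order prime to `p` -/
theorem lin_pow_eq_one [Finite G] (p a r : ℕ)
    (hcard : Nat.card G = p ^ a * r) (lam : Cfsg.pResidual p G → ℂ)
    (hlam : IsLin (Cfsg.pResidual p G) lam) (n : Cfsg.pResidual p G) : lam n ^ r = 1 := by
  have htop := Helper84_Hyperfocal.pResidual_pResidual_eq_top (G := G) p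
  have hn : n ∈ Cfsg.pResidual p ↥(Cfsg.pResidual p G) := by rw [htop]; trivial
  change n ∈ Subgroup.closure {g : ↥(Cfsg.pResidual p G) | Nat.Coprime (orderOf g) p} at hn
  induction hn using Subgroup.closure_induction with
  | mem g hg =>
    have hg' : Nat.Coprime (orderOf g) p := hg
    have h1 : orderOf g ∣ p ^ a * r := by
      rw [← hcard]
      exact (orderOf_dvd_natCard g).trans (Subgroup.card_subgroup_dvd_card _)
    have h2 : orderOf g ∣ r := (Nat.Coprime.pow_right a hg').dvd_of_dvd_mul_left h1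
    rw [← hlam.map_pow, orderOf_dvd_iff_pow_eq_one.mp h2, hlam.2]
  | one => rw [hlam.2, one_pow]
  | mul x y _ _ hx hy => rw [hlam.map_mul, mul_pow, hx, hy, mul_one]
  | inv x _ hx => rw [hlam.map_inv, inv_pow, hx, inv_one]

end Aux


/-- Fix a prime p and a finite group G. Let s be the sum of χ(1)² over the irreducible characters χ of G whose degree is not divisible by p and whose determinantal order o(χ) is not divisible by p. Then the order of O^p(G), the subgroup generated by the elements of order prime to p, is congruent to s modulo p. -/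
theorem result {G : Type*} [Group G] [Finite G] (p : ℕ) (hp : p.Prime) : (Nat.card (Cfsg.pResidual p G) : ℤ) ≡ (∑ᶠ χ ∈ {χ : Cfsg.IrrCharacter G | ¬ p ∣ Cfsg.charDegree (χ : G → ℂ) ∧ ¬ p ∣ Cfsg.detOrder (χ : G → ℂ)}, (Cfsg.charDegree (χ : G → ℂ) : ℤ) ^ 2) [ZMOD p] := by
  classical
  have hpf : Fact p.Prime := ⟨hp⟩
  have := Fintype.ofFinite G
  have hHn : (Cfsg.pResidual p G).Normal := inferInstance
  have := Fintype.ofFinite (Cfsg.pResidual p G)
  have hHp : IsPGroup p (G ⧸ Cfsg.pResidual p G) :=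
    Helper2_PResidual.isPGroup_quotient_pResidual
  obtain ⟨a, r, hr, hcard⟩ : ∃ a r : ℕ, ¬ p ∣ r ∧ Nat.card G = p ^ a * r :=
    ⟨(Nat.card G).factorization p, ordCompl[p] (Nat.card G),
      Nat.not_dvd_ordCompl hp Nat.card_pos.ne', (Nat.ordProj_mul_ordCompl_eq_self _ _).symm⟩
  have hlin := lin_pow_eq_one (G := G) p a r hcard
  -- degrees
  have hdegG : ∀ χ : Cfsg.IrrCharacter G, ∃ d : ℕ, (χ : G → ℂ) 1 = d ∧
      Cfsg.charDegree (χ : G → ℂ) = d := fun χ => by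
    obtain ⟨d, -, hd⟩ := Helper80_CharBasic.irr_apply_one χ
    exact ⟨d, hd, Helper79_CharVals.charDegree_of_eq_natCast hd⟩
  have hdegH : ∀ ψ : Cfsg.IrrCharacter (Cfsg.pResidual p G), ∃ d : ℕ,
      (ψ : Cfsg.pResidual p G → ℂ) 1 = d ∧
      Cfsg.charDegree (ψ : Cfsg.pResidual p G → ℂ) = d := fun ψ => by
    obtain ⟨d, -, hd⟩ := Helper80_CharBasic.irr_apply_one ψ
    exact ⟨d, hd, Helper79_CharVals.charDegree_of_eq_natCast hd⟩
  -- the restriction map
  let e : Cfsg.IrrCharacter G → Cfsg.IrrCharacter (Cfsg.pResidual p G) := fun χ =>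
    if h : Cfsg.IsIrrCharacter (Cfsg.pResidual p G) (fun n : Cfsg.pResidual p G => (χ : G → ℂ) n)
    then ⟨_, h⟩ else Helper80_CharBasic.oneIrr _
  let 𝒯 : Set (Cfsg.IrrCharacter (Cfsg.pResidual p G)) :=
    {ψ | (∀ (g : G) (n : Cfsg.pResidual p G),
      (ψ : Cfsg.pResidual p G → ℂ) ⟨g * n * g⁻¹, hHn.conj_mem n n.2 g⟩ =
        (ψ : Cfsg.pResidual p G → ℂ) n) ∧
      ¬ p ∣ Cfsg.charDegree (ψ : Cfsg.pResidual p G → ℂ)}
  have hirrS : ∀ χ : Cfsg.IrrCharacter G, ¬ p ∣ Cfsg.charDegree (χ : G → ℂ) →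
      Cfsg.IsIrrCharacter (Cfsg.pResidual p G)
        (fun n : Cfsg.pResidual p G => (χ : G → ℂ) n) := by
    intro χ hχ
    obtain ⟨d, hd, hcd⟩ := hdegG χ
    rw [hcd] at hχ
    exact irr_restrict (Cfsg.pResidual p G) hHp χ d hd hχ
  have he : ∀ χ : Cfsg.IrrCharacter G, ¬ p ∣ Cfsg.charDegree (χ : G → ℂ) →
      ((e χ : Cfsg.IrrCharacter (Cfsg.pResidual p G)) : Cfsg.pResidual p G → ℂ) =
        fun n : Cfsg.pResidual p G => (χ : G → ℂ) n := by
    intro χ hχ
    simp only [e]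
    rw [dif_pos (hirrS χ hχ)]
  have hbij : Set.BijOn e {χ : Cfsg.IrrCharacter G | ¬ p ∣ Cfsg.charDegree (χ : G → ℂ) ∧
      ¬ p ∣ Cfsg.detOrder (χ : G → ℂ)} 𝒯 := by
    refine ⟨?_, ?_, ?_⟩
    · -- maps to
      rintro χ ⟨hχ1, hχ2⟩
      refine ⟨?_, ?_⟩
      · intro g n
        rw [he χ hχ1]
        exact Helper80_CharBasic.irr_conj χ n g
      · rw [he χ hχ1, charDegree_res]
        exact hχ1
    · -- injective
      rintro χ ⟨hχ1, hχ2⟩ χ' ⟨hχ'1, hχ'2⟩ heq
      have h1 : (fun n : Cfsg.pResidual p G => (χ : G → ℂ) n) =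
          fun n : Cfsg.pResidual p G => (χ' : G → ℂ) n := by
        rw [← he χ hχ1, ← he χ' hχ'1, heq]
      obtain ⟨d, hd, hcd⟩ := hdegG χ
      rw [hcd] at hχ1
      have := ext_unique (Cfsg.pResidual p G) hHp χ.2 χ'.2
        (irr_restrict (Cfsg.pResidual p G) hHp χ d hd hχ1)
        (fun n => (congrFun h1 n).symm) d hd hχ1 hχ2 hχ'2
      exact Subtype.ext this.symm
    · -- surjective
      rintro ψ ⟨hψinv, hψp⟩
      obtain ⟨d, hd, hcd⟩ := hdegH ψ
      rw [hcd] at hψp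
      obtain ⟨χ, hχ, hχN, hχo⟩ := ext_exists (Cfsg.pResidual p G) hHp a r hcard hr hlin
        (ψ : Cfsg.pResidual p G → ℂ) ψ.2 hψinv d hd hψp
      have hχ1 : χ 1 = d := by
        have := hχN 1
        rw [hd] at this
        rw [← this]
        rfl
      have hcdχ : Cfsg.charDegree χ = d := Helper79_CharVals.charDegree_of_eq_natCast hχ1
      have hmem : ¬ p ∣ Cfsg.charDegree ((⟨χ, hχ⟩ : Cfsg.IrrCharacter G) : G → ℂ) := by
        show ¬ p ∣ Cfsg.charDegree χ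
        rw [hcdχ]
        exact hψp
      refine ⟨⟨χ, hχ⟩, ⟨hmem, hχo⟩, ?_⟩
      apply Subtype.ext
      rw [he ⟨χ, hχ⟩ hmem]
      funext n
      exact hχN n
  rw [finsum_mem_eq_of_bijOn e hbij (g := fun ψ : Cfsg.IrrCharacter (Cfsg.pResidual p G) =>
    (Cfsg.charDegree (ψ : Cfsg.pResidual p G → ℂ) : ℤ) ^ 2) (fun χ hχ => by
      show (Cfsg.charDegree (χ : G → ℂ) : ℤ) ^ 2 = (Cfsg.charDegree ((e χ :
        Cfsg.IrrCharacter (Cfsg.pResidual p G)) : Cfsg.pResidual p G → ℂ) : ℤ) ^ 2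
      rw [he χ hχ.1, charDegree_res])]
  -- now count inside `O^p(G)`
  have h𝒯 : 𝒯 = ↑(Finset.univ.filter (fun ψ : Cfsg.IrrCharacter (Cfsg.pResidual p G) =>
      ψ ∈ 𝒯)) := by
    ext ψ
    simp
  rw [h𝒯, finsum_mem_coe_finset]
  -- the order of `O^p(G)` as a sum of squares
  have hsq : Nat.card (Cfsg.pResidual p G) =
      ∑ ψ : Cfsg.IrrCharacter (Cfsg.pResidual p G),
        Cfsg.charDegree (ψ : Cfsg.pResidual p G → ℂ) ^ 2 := by
    have h1 := Helper74_FS.sum_deg_sq (G := Cfsg.pResidual p G)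
    have h2 : ((Nat.card (Cfsg.pResidual p G) : ℕ) : ℂ) =
        ((∑ ψ : Cfsg.IrrCharacter (Cfsg.pResidual p G),
          Cfsg.charDegree (ψ : Cfsg.pResidual p G → ℂ) ^ 2 : ℕ) : ℂ) := by
      rw [← h1]
      push_cast
      apply Finset.sum_congr rfl
      intro ψ _
      obtain ⟨d, hd, hcd⟩ := hdegH ψ
      rw [hd, hcd]
      ring
    exact_mod_cast h2
  obtain ⟨P⟩ : Nonempty (Sylow p G) := inferInstance
  let act : MulAction G (Cfsg.IrrCharacter (Cfsg.pResidual p G)) := cjAction (Cfsg.pResidual p G)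
  have hsmul : ∀ (g : G) (θ : Cfsg.IrrCharacter (Cfsg.pResidual p G)),
      g • θ = cjIrr (Cfsg.pResidual p G) g θ := fun _ _ => rfl
  let Q : Subgroup G := (P : Subgroup G)
  have hQp : IsPGroup p Q := P.isPGroup'
  have hmod := sum_stable_modEq (A := Q) (X := Cfsg.IrrCharacter (Cfsg.pResidual p G)) hQp
    Finset.univ (fun _ _ _ => Finset.mem_univ _)
    (fun ψ => Cfsg.charDegree (ψ : Cfsg.pResidual p G → ℂ) ^ 2)
    (fun a ψ => by
      show Cfsg.charDegree ((cjIrr (Cfsg.pResidual p G) (a : G) ψ :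
        Cfsg.IrrCharacter (Cfsg.pResidual p G)) : Cfsg.pResidual p G → ℂ) ^ 2 = _
      have h1 : ((cjIrr (Cfsg.pResidual p G) (a : G) ψ :
          Cfsg.IrrCharacter (Cfsg.pResidual p G)) : Cfsg.pResidual p G → ℂ) 1 =
          (ψ : Cfsg.pResidual p G → ℂ) 1 := by
        rw [cjIrr_apply]
        exact congrArg _ (Subtype.ext (by simp))
      unfold Cfsg.charDegree
      rw [h1])
  rw [← hsq] at hmod
  have hfix : Finset.univ.filter (fun x : Cfsg.IrrCharacter (Cfsg.pResidual p G) =>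
      ∀ a : Q, a • x = x) =
      Finset.univ.filter (fun ψ : Cfsg.IrrCharacter (Cfsg.pResidual p G) =>
        ∀ (g : G) (n : Cfsg.pResidual p G),
          (ψ : Cfsg.pResidual p G → ℂ) ⟨g * n * g⁻¹, hHn.conj_mem n n.2 g⟩ =
            (ψ : Cfsg.pResidual p G → ℂ) n) := by
    ext ψ
    simp only [Finset.mem_filter, Finset.mem_univ, true_and]
    exact sylow_fixed_iff (Cfsg.pResidual p G) hHp P ψ
  rw [hfix] at hmod
  have hsplit : ∑ ψ ∈ Finset.univ.filter (fun ψ : Cfsg.IrrCharacter (Cfsg.pResidual p G) =>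
        ∀ (g : G) (n : Cfsg.pResidual p G),
          (ψ : Cfsg.pResidual p G → ℂ) ⟨g * n * g⁻¹, hHn.conj_mem n n.2 g⟩ =
            (ψ : Cfsg.pResidual p G → ℂ) n),
      Cfsg.charDegree (ψ : Cfsg.pResidual p G → ℂ) ^ 2 ≡
      ∑ ψ ∈ Finset.univ.filter (fun ψ : Cfsg.IrrCharacter (Cfsg.pResidual p G) => ψ ∈ 𝒯),
        Cfsg.charDegree (ψ : Cfsg.pResidual p G → ℂ) ^ 2 [MOD p] := by
    rw [← Finset.sum_filter_add_sum_filter_not (Finset.univ.filter
      (fun ψ : Cfsg.IrrCharacter (Cfsg.pResidual p G) =>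
        ∀ (g : G) (n : Cfsg.pResidual p G),
          (ψ : Cfsg.pResidual p G → ℂ) ⟨g * n * g⁻¹, hHn.conj_mem n n.2 g⟩ =
            (ψ : Cfsg.pResidual p G → ℂ) n))
      (fun ψ : Cfsg.IrrCharacter (Cfsg.pResidual p G) =>
          ¬ p ∣ Cfsg.charDegree (ψ : Cfsg.pResidual p G → ℂ))]
    have hz : ∑ x ∈ (Finset.univ.filter
        (fun ψ : Cfsg.IrrCharacter (Cfsg.pResidual p G) =>
          ∀ (g : G) (n : Cfsg.pResidual p G),
            (ψ : Cfsg.pResidual p G → ℂ) ⟨g * n * g⁻¹, hHn.conj_mem n n.2 g⟩ =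
              (ψ : Cfsg.pResidual p G → ℂ) n)).filter
        (fun ψ : Cfsg.IrrCharacter (Cfsg.pResidual p G) =>
          ¬ ¬ p ∣ Cfsg.charDegree (ψ : Cfsg.pResidual p G → ℂ)),
        Cfsg.charDegree (x : Cfsg.pResidual p G → ℂ) ^ 2 ≡ 0 [MOD p] := by
      rw [Nat.modEq_zero_iff_dvd]
      apply Finset.dvd_sum
      intro ψ hψ
      rw [Finset.mem_filter] at hψ
      exact dvd_pow (not_not.mp hψ.2) (by norm_num)
    have hfe : (Finset.univ.filter
        (fun ψ : Cfsg.IrrCharacter (Cfsg.pResidual p G) =>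
          ∀ (g : G) (n : Cfsg.pResidual p G),
            (ψ : Cfsg.pResidual p G → ℂ) ⟨g * n * g⁻¹, hHn.conj_mem n n.2 g⟩ =
              (ψ : Cfsg.pResidual p G → ℂ) n)).filter
        (fun ψ : Cfsg.IrrCharacter (Cfsg.pResidual p G) =>
          ¬ p ∣ Cfsg.charDegree (ψ : Cfsg.pResidual p G → ℂ)) =
        Finset.univ.filter (fun ψ : Cfsg.IrrCharacter (Cfsg.pResidual p G) => ψ ∈ 𝒯) := by
      ext ψ
      simp only [Finset.mem_filter, Finset.mem_univ, true_and]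
      rfl
    rw [hfe]
    have := Nat.ModEq.add_left (∑ ψ ∈ Finset.univ.filter
      (fun ψ : Cfsg.IrrCharacter (Cfsg.pResidual p G) => ψ ∈ 𝒯),
        Cfsg.charDegree (ψ : Cfsg.pResidual p G → ℂ) ^ 2) hz
    rwa [add_zero] at this
  have hfinal := hmod.trans hsplit
  have := (Int.natCast_modEq_iff).mpr hfinal
  push_cast at this
  exact this

end Cfsg.Agent.S4455
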