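import Cfsg.Statements.S4458
import Cfsg.Agent.Lib.Helper74_TwoDegD
import Cfsg.Agent.Lib.Helper80_CharBasic

set_option autoImplicit false
open Cfsg

namespace Cfsg.Agent.S4458

/-- the degree as a natural number -/
theorem charDegree_eq {G : Type*} [Group G] (χ : Cfsg.IrrCharacter G) :
    (χ : G → ℂ) 1 = (Cfsg.charDegree (χ : G → ℂ) : ℂ) := by
  obtain ⟨d, -, hd⟩ := Cfsg.Agent.Lib.Helper80_CharBasic.irr_apply_one χ
  unfold Cfsg.charDegree
  rw [hd]
  simp

/-- If a finite group has exactly two irreducible character degrees, 1 and m with m ≠ 1, then its commutator subgroup is abelian. -/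
theorem result {G : Type*} [Group G] [Finite G] (m : ℕ) (hcd : ∀ χ : Cfsg.IrrCharacter G, Cfsg.charDegree (χ : G → ℂ) = 1 ∨ Cfsg.charDegree (χ : G → ℂ) = m) (hm : ∃ χ : Cfsg.IrrCharacter G, Cfsg.charDegree (χ : G → ℂ) = m) (hm1 : m ≠ 1) : ∀ a ∈ commutator G, ∀ b ∈ commutator G, a * b = b * a := by
  apply Cfsg.Agent.Lib.Helper74_TwoDegD.commutator_comm_of_twoDeg m
  intro χ
  rw [charDegree_eq χ]
  rcases hcd χ with h | h
  · left
    rw [h]
    simp
  · right
    rw [h]

end Cfsg.Agent.S4458
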