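import Cfsg.Statements.S4459
import Cfsg.Agent.Lib.Helper74_DegPGroup
import Cfsg.Agent.Lib.Helper74_TwoDegD

set_option autoImplicit false
open Cfsg

namespace Cfsg.Agent.S4459

open Cfsg.Agent.Lib

/-- the degree as a natural number -/
theorem charDegree_eq {G : Type*} [Group G] (χ : Cfsg.IrrCharacter G) :
    (χ : G → ℂ) 1 = (Cfsg.charDegree (χ : G → ℂ) : ℂ) := by
  obtain ⟨d, -, hd⟩ := Helper80_CharBasic.irr_apply_one χ
  unfold Cfsg.charDegree
  rw [hd]
  simp

/-- the degree divides the index of the centre, character form -/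
theorem degree_dvd_index_center {G : Type*} [Group G] [Finite G] (χ : Cfsg.IrrCharacter G) (d : ℕ)
    (hd : (χ : G → ℂ) 1 = d) : d ∣ (Subgroup.center G).index := by
  have : Fintype G := Fintype.ofFinite G
  obtain ⟨n, ρ, hirr, hρ⟩ := χ.2
  have := hirr
  have h1 := Helper3_CharCenter.finrank_dvd_index_center ρ
  have h2 : Module.finrank ℂ (Fin n → ℂ) = n := by simp
  have h3 : (χ : G → ℂ) 1 = n := by
    rw [← hρ, Representation.char_one]
    simp
  have h4 : d = n := by
    rw [h3] at hd
    exact_mod_cast hd.symm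
  rw [h4]
  rw [h2] at h1
  exact h1

/-- Let G be a non-abelian finite group and p a prime. Then the irreducible character degrees of G are exactly 1 and p if and only if either G has an abelian normal subgroup of index p or the centre of G has index p³. -/
theorem result {G : Type*} [Group G] [Finite G] (hG : ∃ a b : G, a * b ≠ b * a) (p : ℕ) (hp : p.Prime) : ((∀ χ : Cfsg.IrrCharacter G, Cfsg.charDegree (χ : G → ℂ) = 1 ∨ Cfsg.charDegree (χ : G → ℂ) = p) ∧ ∃ χ : Cfsg.IrrCharacter G, Cfsg.charDegree (χ : G → ℂ) = p) ↔ ((∃ A : Subgroup G, A.Normal ∧ (∀ a ∈ A, ∀ b ∈ A, a * b = b * a) ∧ A.index = p) ∨ (Subgroup.center G).index = p ^ 3) := by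
  classical
  have : Fintype G := Fintype.ofFinite G
  constructor
  · rintro ⟨hcd, -⟩
    have hcd' : ∀ χ : Cfsg.IrrCharacter G, (χ : G → ℂ) 1 = 1 ∨ (χ : G → ℂ) 1 = p := by
      intro χ
      rw [charDegree_eq χ]
      rcases hcd χ with h | h
      · left
        rw [h]
        simp
      · right
        rw [h]
    by_cases hnil : Group.IsNilpotent G
    · exact Helper74_DegPGroup.main (Nat.card G) G rfl p hp hcd' hG
    · left
      have hsolv : Group.IsSolvable G := Helper74_TwoDegS.isSolvable_of_twoDeg p hcd'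
      obtain ⟨K, N, hKn, hNn, hKN, hne, hab, hcop, hfpf, hidx, habq⟩ :=
        Helper74_TwoDegD.good_of_twoDeg (Nat.card G) G rfl hsolv hnil p hcd'
      have hcd'' : ∀ χ : IrrCharacter G, (χ : G → ℂ) 1 = 1 ∨ (χ : G → ℂ) 1 = (N.index : ℂ) := by
        rw [hidx]
        exact hcd'
      have hlin := Helper74_TwoDegC.all_linear K N hKN hne hab hcop hfpf hcd''
      have hNab : ∀ a b : N, a * b = b * a := Helper59_CliffordDeg.commute_of_all_linear hlin
      exact ⟨N, hNn, fun a ha b hb => congrArg Subtype.val (hNab ⟨a, ha⟩ ⟨b, hb⟩), hidx⟩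
  · intro h
    have hcd : ∀ χ : Cfsg.IrrCharacter G,
        Cfsg.charDegree (χ : G → ℂ) = 1 ∨ Cfsg.charDegree (χ : G → ℂ) = p := by
      intro χ
      have hd := charDegree_eq χ
      set d := Cfsg.charDegree (χ : G → ℂ) with hdd
      rcases h with ⟨A, hAn, hAab, hAidx⟩ | hZ
      · have h1 := Helper74_DegPGroup.ito_char χ d hd A hAab
        rw [hAidx] at h1
        exact (Nat.dvd_prime hp).mp h1
      · have h1 := degree_dvd_index_center χ d hd
        rw [hZ] at h1
        obtain ⟨j, hj3, hj⟩ := (Nat.dvd_prime_pow hp).mp h1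
        have h2 := Helper74_DegPChar.card_mul_sq_le χ (Subgroup.center G) le_rfl d hd
        have h3 := Subgroup.card_mul_index (Subgroup.center G)
        rw [hZ] at h3
        rw [← h3] at h2
        have h4 : d ^ 2 ≤ p ^ 3 := Nat.le_of_mul_le_mul_left h2 Nat.card_pos
        rw [hj, ← pow_mul] at h4
        have h5 : j * 2 ≤ 3 := (Nat.pow_le_pow_iff_right hp.one_lt).mp h4
        have h6 : j = 0 ∨ j = 1 := by omega
        rcases h6 with h6 | h6
        · left
          rw [hj, h6, pow_zero]
        · right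
          rw [hj, h6, pow_one]
    refine ⟨hcd, ?_⟩
    by_contra hne
    push Not at hne
    obtain ⟨a, b, hab⟩ := hG
    apply hab
    apply Helper59_CliffordDeg.commute_of_all_linear
    intro χ
    rw [charDegree_eq χ]
    rcases hcd χ with h1 | h1
    · rw [h1]
      simp
    · exact absurd h1 (hne χ)

end Cfsg.Agent.S4459
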