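import Cfsg.Statements.S4460
import Cfsg.Agent.Lib.Helper48_ThreeDegBridge
import Cfsg.Agent.Lib.Helper48_ThreeDegDL
import Cfsg.Agent.Lib.Helper48_S4460_Solv

set_option autoImplicit false
open Cfsg

namespace Cfsg.Agent.S4460

/-- A finite group with exactly three distinct irreducible character degrees is solvable of derived length at most 3: its third derived subgroup is trivial. -/
theorem result {G : Type*} [Group G] [Finite G] (hcd : Nat.card {n : ℕ // ∃ χ : Cfsg.IrrCharacter G, Cfsg.charDegree (χ : G → ℂ) = n} = 3) : derivedSeries G 3 = ⊥ := by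
  obtain ⟨f, g, h⟩ := Cfsg.Agent.Lib.Helper48_ThreeDegBridge.exists_cd3_of_card hcd
  have hsolv : Group.IsSolvable G := Cfsg.Agent.Lib.Helper48_S4460_Solv.solv f g h
  exact Cfsg.Agent.Lib.Helper48_ThreeDegDL.dl_main (Nat.card G) G rfl hsolv f g h

end Cfsg.Agent.S4460
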