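import Mathlib
import Cfsg.Statements.S4462
import Cfsg.Agent.Lib.Helper80_BrolineGarrison

set_option autoImplicit false
set_option linter.style.haveILetI false
open Cfsg

namespace Cfsg.Agent.S4462

open Cfsg.Agent.Lib.Helper80_BrolineGarrison
open Cfsg.Agent.S4835 (irrKer mem_irrKer)

/-- A quotient `Y ⧸ X` is nilpotent if `Y` maps to a nilpotent group with kernel inside `X`. -/
theorem nilpotent_quot {Y Z : Type*} [Group Y] [Group Z] [Group.IsNilpotent Z] (X : Subgroup Y)
    [X.Normal] (φ : Y →* Z) (hker : φ.ker ≤ X) : Group.IsNilpotent (Y ⧸ X) := by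
  haveI : Group.IsNilpotent φ.range := inferInstance
  haveI : Group.IsNilpotent (Y ⧸ φ.ker) :=
    Group.nilpotent_of_mulEquiv (QuotientGroup.quotientKerEquivRange φ).symm
  refine Group.nilpotent_of_surjective
    (QuotientGroup.map φ.ker X (MonoidHom.id Y) (by simpa using hker)) ?_
  intro q
  induction q using QuotientGroup.induction_on with
  | H y => exact ⟨QuotientGroup.mk y, rfl⟩

/-- A chain of normal subgroups with nilpotent factors reaching `⊤` at step `n`. -/
def HasChain (G : Type*) [Group G] (n : ℕ) : Prop :=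
  ∃ N : ℕ → Subgroup G, N 0 = ⊥ ∧ N n = ⊤ ∧ Monotone N ∧ (∀ i, (N i).Normal) ∧
    ∀ i : ℕ, ∀ h : ((N i).subgroupOf (N (i + 1))).Normal,
      Group.IsNilpotent (↥(N (i + 1)) ⧸ (N i).subgroupOf (N (i + 1)))

theorem HasChain.mono {G : Type*} [Group G] {n m : ℕ} (h : HasChain G n) (hnm : n ≤ m) :
    HasChain G m := by
  obtain ⟨N, h0, hn, hmono, hnorm, hq⟩ := h
  refine ⟨N, h0, ?_, hmono, hnorm, hq⟩
  apply top_le_iff.mp
  rw [← hn]
  exact hmono hnm

/-- The chain of a nilpotent group. -/
theorem hasChain_of_nilpotent {G : Type*} [Group G] [Group.IsNilpotent G] : HasChain G 1 := by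
  refine ⟨fun k => if k = 0 then ⊥ else ⊤, by simp, by simp, ?_, ?_, ?_⟩
  · apply monotone_nat_of_le_succ
    intro k
    by_cases hk : k = 0
    · simp [hk]
    · simp [hk]
  · intro i
    by_cases hi : i = 0
    · simp only [hi, if_true]; infer_instance
    · simp only [hi, if_false]; infer_instance
  · intro i h
    exact nilpotent_quot _ (Subgroup.subtype _) (by
      rw [(MonoidHom.ker_eq_bot_iff _).mpr (Subgroup.subtype_injective _)]; exact bot_le)

/-- Pulling back a chain of `G ⧸ F` along the quotient map, with `F` nilpotent. -/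
theorem hasChain_of_quotient {G : Type*} [Group G] (F : Subgroup G) [F.Normal]
    [Group.IsNilpotent F] {n : ℕ} (h : HasChain (G ⧸ F) n) : HasChain G (n + 1) := by
  obtain ⟨Nb, h0, hn, hmono, hnorm, hq⟩ := h
  let N : ℕ → Subgroup G := fun k => match k with
    | 0 => ⊥
    | k + 1 => (Nb k).comap (QuotientGroup.mk' F)
  have hN0 : N 0 = ⊥ := rfl
  have hNs : ∀ k, N (k + 1) = (Nb k).comap (QuotientGroup.mk' F) := fun k => rfl
  refine ⟨N, hN0, ?_, ?_, ?_, ?_⟩
  · rw [hNs, hn, Subgroup.comap_top]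
  · apply monotone_nat_of_le_succ
    intro k
    cases k with
    | zero => rw [hN0]; exact bot_le
    | succ k =>
      rw [hNs, hNs]
      exact Subgroup.comap_mono (hmono (Nat.le_succ k))
  · intro i
    cases i with
    | zero => rw [hN0]; infer_instance
    | succ k => rw [hNs]; exact (hnorm k).comap _
  · intro i
    cases i with
    | zero =>
      rw [hN0, hNs, h0]
      intro h
      have hle : (⊥ : Subgroup (G ⧸ F)).comap (QuotientGroup.mk' F) ≤ F := by
        intro x hx
        rw [Subgroup.mem_comap, Subgroup.mem_bot, QuotientGroup.mk'_apply,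
          QuotientGroup.eq_one_iff] at hx
        exact hx
      exact nilpotent_quot _ (Subgroup.inclusion hle) (by
        rw [(MonoidHom.ker_eq_bot_iff _).mpr (Subgroup.inclusion_injective hle)]; exact bot_le)
    | succ k =>
      rw [hNs, hNs]
      intro h
      haveI := hnorm k
      haveI : ((Nb k).subgroupOf (Nb (k + 1))).Normal := inferInstance
      haveI := hq k inferInstance
      refine nilpotent_quot _
        ((QuotientGroup.mk' ((Nb k).subgroupOf (Nb (k + 1)))).comp
          ((QuotientGroup.mk' F).subgroupComap (Nb (k + 1)))) ?_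
      intro y hy
      rw [MonoidHom.mem_ker, MonoidHom.comp_apply, QuotientGroup.mk'_apply,
        QuotientGroup.eq_one_iff, Subgroup.mem_subgroupOf] at hy
      rw [Subgroup.mem_subgroupOf, Subgroup.mem_comap]
      exact hy

/-- The set of irreducible character degrees. -/
def cd (G : Type*) [Group G] : Set ℕ :=
  {d : ℕ | ∃ χ : Cfsg.IrrCharacter G, Cfsg.charDegree (χ : G → ℂ) = d}

theorem cd_finite (G : Type*) [Group G] [Finite G] : (cd G).Finite := by
  have : cd G = Set.range (fun χ : Cfsg.IrrCharacter G => Cfsg.charDegree (χ : G → ℂ)) := by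
    ext d
    simp [cd]
  rw [this]
  exact Set.finite_range _

/-- Inflation of an irreducible character of `G ⧸ F`. -/
noncomputable def infl {G : Type*} [Group G] (F : Subgroup G) [F.Normal]
    (ψ : Cfsg.IrrCharacter (G ⧸ F)) : Cfsg.IrrCharacter G :=
  ⟨fun g => (ψ : G ⧸ F → ℂ) ((QuotientGroup.mk' F) g),
    Cfsg.Agent.Lib.Helper57_FrobNorm.isIrrCharacter_comp_surjective _
      (QuotientGroup.mk'_surjective F) ψ.2⟩

theorem charDegree_infl {G : Type*} [Group G] (F : Subgroup G) [F.Normal]
    (ψ : Cfsg.IrrCharacter (G ⧸ F)) :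
    Cfsg.charDegree ((infl F ψ : Cfsg.IrrCharacter G) : G → ℂ) =
      Cfsg.charDegree (ψ : G ⧸ F → ℂ) := by
  unfold Cfsg.charDegree infl
  simp

theorem le_irrKer_infl {G : Type*} [Group G] [Finite G] (F : Subgroup G) [F.Normal]
    (ψ : Cfsg.IrrCharacter (G ⧸ F)) : F ≤ irrKer (infl F ψ) := by
  intro x hx
  rw [mem_irrKer]
  unfold infl
  simp only [QuotientGroup.mk'_apply]
  have : (QuotientGroup.mk x : G ⧸ F) = QuotientGroup.mk 1 := by
    rw [QuotientGroup.eq]
    simpa using hx
  rw [this]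

/-- The key step of Garrison's theorem: if `F(G) < G` and `G` is solvable then `G ⧸ F(G)` has
fewer character degrees than `G`. -/
theorem cd_quotient_ssubset {G : Type*} [Group G] [Finite G] (hsolv : Group.IsSolvable G)
    (hF : Cfsg.fittingSubgroup G ≠ ⊤) :
    haveI := Cfsg.Agent.Lib.Helper1_Cores.fittingSubgroup_normal (G := G)
    cd (G ⧸ Cfsg.fittingSubgroup G) ⊂ cd G := by
  haveI := Cfsg.Agent.Lib.Helper1_Cores.fittingSubgroup_normal (G := G)
  haveI : Finite (Cfsg.IrrCharacter G) := inferInstance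
  haveI : Nonempty (Cfsg.IrrCharacter G) := ⟨Cfsg.Agent.Lib.Helper80_CharBasic.oneIrr G⟩
  obtain ⟨χ₀, hχ₀⟩ := Finite.exists_max (fun χ : Cfsg.IrrCharacter G =>
    Cfsg.charDegree (χ : G → ℂ))
  have hsub : cd (G ⧸ Cfsg.fittingSubgroup G) ⊆ cd G := by
    rintro d ⟨ψ, rfl⟩
    exact ⟨infl _ ψ, charDegree_infl _ ψ⟩
  refine ⟨hsub, ?_⟩
  intro hcon
  obtain ⟨ψ, hψ⟩ := hcon ⟨χ₀, rfl⟩
  -- ψ has the maximal degree; apply Broline–Garrison to its inflation
  set φ := infl (Cfsg.fittingSubgroup G) ψ with hφ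
  have hdeg : Cfsg.charDegree (φ : G → ℂ) = Cfsg.charDegree (χ₀ : G → ℂ) := by
    rw [hφ, charDegree_infl, hψ]
  have hFK : Cfsg.fittingSubgroup G ≤ irrKer φ := le_irrKer_infl _ ψ
  have hhyp : ¬ irrKer φ ≤ Cfsg.fittingSubgroup G ∨
      (irrKer φ = Cfsg.fittingSubgroup G ∧ Group.IsSolvable (G ⧸ irrKer φ) ∧ irrKer φ ≠ ⊤) := by
    by_cases hle : irrKer φ ≤ Cfsg.fittingSubgroup G
    · right
      have heq : irrKer φ = Cfsg.fittingSubgroup G := le_antisymm hle hFK
      refine ⟨heq, inferInstance, ?_⟩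
      rw [heq]
      exact hF
    · left; exact hle
  obtain ⟨ψ', h1, _⟩ := broline_garrison φ (irrKer φ) (fun g => mem_irrKer φ g) hhyp
  have h2 : Cfsg.charDegree (ψ' : G → ℂ) ≤ Cfsg.charDegree (χ₀ : G → ℂ) := hχ₀ ψ'
  omega

universe u

theorem one_mem_cd (G : Type*) [Group G] : 1 ∈ cd G := by
  refine ⟨Cfsg.Agent.Lib.Helper80_CharBasic.oneIrr G, ?_⟩
  unfold Cfsg.charDegree Cfsg.Agent.Lib.Helper80_CharBasic.oneIrr
  simp

/-- **Garrison's theorem**, by induction on the order. -/
theorem hasChain_aux : ∀ (m : ℕ) (G : Type u) [Group G] [Finite G], Nat.card G ≤ m →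
    Group.IsSolvable G → HasChain G (cd G).ncard := by
  intro m
  induction m with
  | zero =>
    intro G _ _ hcard _
    have := Nat.card_pos (α := G)
    omega
  | succ m ih =>
    intro G _ _ hcard hsolv
    have hpos : 1 ≤ (cd G).ncard := by
      rw [Nat.one_le_iff_ne_zero, Ne, Set.ncard_eq_zero (cd_finite G)]
      exact Set.nonempty_iff_ne_empty.mp ⟨1, one_mem_cd G⟩
    by_cases hF : Cfsg.fittingSubgroup G = ⊤
    · haveI : Group.IsNilpotent G := by
        have h1 := Cfsg.Agent.Lib.Helper1_Cores.fittingSubgroup_isNilpotent (G := G)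
        rw [hF] at h1
        haveI := h1
        exact Group.nilpotent_of_mulEquiv (Subgroup.topEquiv (G := G))
      exact hasChain_of_nilpotent.mono hpos
    · haveI := Cfsg.Agent.Lib.Helper1_Cores.fittingSubgroup_normal (G := G)
      haveI : Group.IsNilpotent (Cfsg.fittingSubgroup G) :=
        Cfsg.Agent.Lib.Helper1_Cores.fittingSubgroup_isNilpotent
      have hFbot : Cfsg.fittingSubgroup G ≠ ⊥ := by
        haveI : Nontrivial G := by
          rw [← not_subsingleton_iff_nontrivial]
          intro hs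
          apply hF
          exact Subsingleton.elim _ _
        obtain ⟨p, hp, R, hRn, hRp, hRne⟩ :=
          Cfsg.Agent.Lib.Helper75_SolvStep.exists_normal_pgroup G
        haveI : Fact p.Prime := ⟨hp⟩
        have hle : R ≤ Cfsg.fittingSubgroup G :=
          Cfsg.Agent.Lib.Helper1_Cores.le_fittingSubgroup hRn hRp.isNilpotent
        intro hbot
        apply hRne
        rw [eq_bot_iff, ← hbot]
        exact hle
      have hlt : Nat.card (G ⧸ Cfsg.fittingSubgroup G) < Nat.card G := by
        rw [← Subgroup.index_eq_card, ← Subgroup.card_mul_index (Cfsg.fittingSubgroup G)]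
        have h1 := (Cfsg.fittingSubgroup G).one_lt_card_iff_ne_bot.mpr hFbot
        have h2 : 0 < (Cfsg.fittingSubgroup G).index := Nat.pos_of_ne_zero Subgroup.index_ne_zero_of_finite
        nlinarith
      have ih' := ih (G ⧸ Cfsg.fittingSubgroup G) (by omega) inferInstance
      have h1 := hasChain_of_quotient (Cfsg.fittingSubgroup G) ih'
      exact h1.mono (Set.ncard_lt_ncard (cd_quotient_ssubset hsolv hF) (cd_finite G))

/-- Let G be a finite solvable group with exactly n distinct irreducible character degrees. Then G has normal subgroups 1 = N₀ ≤ N₁ ≤ ⋯ ≤ Nₙ = G with every quotient N_{i+1}/N_i nilpotent (the nilpotent length of G is at most n). -/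
theorem result {G : Type*} [Group G] [Finite G] (hsolv : Group.IsSolvable G) (n : ℕ) (hcd : Nat.card {d : ℕ // ∃ χ : Cfsg.IrrCharacter G, Cfsg.charDegree (χ : G → ℂ) = d} = n) : ∃ N : Fin (n + 1) → Subgroup G, N 0 = ⊥ ∧ N (Fin.last n) = ⊤ ∧ Monotone N ∧ (∀ i, (N i).Normal) ∧ ∀ i : Fin n, ∀ h : (N i.castSucc).subgroupOf (N i.succ) |>.Normal, Group.IsNilpotent (↥(N i.succ) ⧸ (N i.castSucc).subgroupOf (N i.succ)) := by
  have hn : (cd G).ncard = n := by
    rw [← hcd]
    exact (Nat.card_coe_set_eq (cd G)).symm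
  obtain ⟨N, h0, htop, hmono, hnorm, hq⟩ := hasChain_aux (Nat.card G) G le_rfl hsolv
  rw [hn] at htop
  refine ⟨fun i => N i.val, ?_, ?_, ?_, ?_, ?_⟩
  · simpa using h0
  · simpa using htop
  · intro i j hij
    exact hmono hij
  · intro i
    exact hnorm i.val
  · intro i h
    exact hq i.val h

end Cfsg.Agent.S4462
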