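import Cfsg.Statements.S4466
import Cfsg.Agent.Lib.Helper74_PrimeDegB
import Cfsg.Agent.Lib.Helper76_GalConj

set_option autoImplicit false
open Cfsg

namespace Cfsg.Agent.S4466

universe u

/-- the hypothesis passes to quotients -/
theorem hyp_quotient {G : Type u} [Group G] [Finite G]
    (h : ∀ χ : Cfsg.IrrCharacter G, Cfsg.charDegree (χ : G → ℂ) ≠ 1 →
      (Cfsg.charDegree (χ : G → ℂ)).Prime) (N : Subgroup G) [N.Normal] :
    ∀ χ : Cfsg.IrrCharacter (G ⧸ N), Cfsg.charDegree (χ : G ⧸ N → ℂ) ≠ 1 →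
      (Cfsg.charDegree (χ : G ⧸ N → ℂ)).Prime := by
  intro χ h1
  rw [← Cfsg.Agent.Lib.Helper76_GalConj.charDegree_infl N χ] at h1 ⊢
  exact h _ h1

/-- the hypothesis passes to normal subgroups -/
theorem hyp_normal {G : Type u} [Group G] [Finite G]
    (h : ∀ χ : Cfsg.IrrCharacter G, Cfsg.charDegree (χ : G → ℂ) ≠ 1 →
      (Cfsg.charDegree (χ : G → ℂ)).Prime) (N : Subgroup G) (hN : N.Normal) :
    ∀ θ : Cfsg.IrrCharacter N, Cfsg.charDegree (θ : N → ℂ) ≠ 1 →
      (Cfsg.charDegree (θ : N → ℂ)).Prime := by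
  classical
  have : Fintype G := Fintype.ofFinite G
  have : Fintype N := Fintype.ofFinite N
  intro θ h1
  obtain ⟨χ, hχ, hne⟩ := Cfsg.Agent.Lib.Helper59_CliffordDeg.exists_irr_over N θ.2
  have hdvd := Cfsg.Agent.Lib.Helper59_CliffordDeg.degree_dvd_of_clifford N hN hχ θ.2 hne
    (Cfsg.charDegree χ) (Cfsg.charDegree (θ : N → ℂ))
    (Cfsg.Agent.Lib.Helper77_BlockBasics.apply_one_eq_charDegree ⟨χ, hχ⟩)
    (Cfsg.Agent.Lib.Helper77_BlockBasics.apply_one_eq_charDegree θ)
  have hD1 : Cfsg.charDegree χ ≠ 1 := by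
    intro hc
    rw [hc] at hdvd
    exact h1 (Nat.dvd_one.mp hdvd)
  have hDp := h ⟨χ, hχ⟩ hD1
  rcases (Nat.dvd_prime hDp).mp hdvd with h2 | h2
  · exact absurd h2 h1
  · rw [h2]
    exact hDp

theorem aux : ∀ (n : ℕ) (G : Type u) [Group G] [Finite G], Nat.card G = n →
    (∀ χ : Cfsg.IrrCharacter G, Cfsg.charDegree (χ : G → ℂ) ≠ 1 →
      (Cfsg.charDegree (χ : G → ℂ)).Prime) → Group.IsSolvable G := by
  intro n
  induction n using Nat.strong_induction_on with
  | _ n ih =>
    intro G _ _ hn h
    by_cases hex : ∃ N : Subgroup G, N.Normal ∧ N ≠ ⊥ ∧ N ≠ ⊤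
    · obtain ⟨N, hN, hbot, htop⟩ := hex
      have := hN
      have hcard := Subgroup.card_eq_card_quotient_mul_card_subgroup N
      have h1 : 1 < Nat.card N := N.one_lt_card_iff_ne_bot.mpr hbot
      have h2 : 1 < Nat.card (G ⧸ N) := by
        have h3 : N.index ≠ 1 := fun hc => htop (Subgroup.index_eq_one.mp hc)
        have h4 : N.index ≠ 0 := Subgroup.index_ne_zero_of_finite
        rw [← Subgroup.index_eq_card]
        omega
      have hsN : Group.IsSolvable N :=
        ih (Nat.card N) (by rw [← hn, hcard]; nlinarith) N rfl (hyp_normal h N hN)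
      have hsQ : Group.IsSolvable (G ⧸ N) :=
        ih (Nat.card (G ⧸ N)) (by rw [← hn, hcard]; nlinarith) (G ⧸ N) rfl (hyp_quotient h N)
      apply Group.isSolvable_of_ker_le_range N.subtype (QuotientGroup.mk' N)
      rw [QuotientGroup.ker_mk', Subgroup.range_subtype]
    · push Not at hex
      by_cases hcomm : ∀ a b : G, a * b = b * a
      · exact Group.isSolvable_of_comm hcomm
      · exfalso
        have hnt : Nontrivial G := by
          by_contra hc
          rw [not_nontrivial_iff_subsingleton] at hc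
          exact hcomm (fun a b => Subsingleton.elim _ _)
        have : IsSimpleGroup G := by
          refine ⟨fun H hH => ?_⟩
          by_cases hb : H = ⊥
          · left
            exact hb
          · right
            exact hex H hH hb
        exact Cfsg.Agent.Lib.Helper74_PrimeDegB.false_of_simple hcomm h

/-- If every irreducible character of the finite group G of degree greater than one has prime degree, then G is solvable. -/
theorem result {G : Type*} [Group G] [Finite G] (h : ∀ χ : Cfsg.IrrCharacter G, Cfsg.charDegree (χ : G → ℂ) ≠ 1 → (Cfsg.charDegree (χ : G → ℂ)).Prime) : Group.IsSolvable G := by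
  exact aux (Nat.card G) G rfl h

end Cfsg.Agent.S4466
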