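import Cfsg.Statements.S4476
import Cfsg.Agent.Lib.Helper74_FS3

set_option autoImplicit false
open Cfsg

namespace Cfsg.Agent.S4476


open Cfsg.Agent.Lib.Helper74_FS
open Cfsg.Agent.Lib

section Aux

variable {G : Type*} [Group G]

/-- degree of an irreducible character as a natural number -/
theorem irr_deg (χ : Cfsg.IrrCharacter G) :
    0 < Cfsg.charDegree (χ : G → ℂ) ∧ (χ : G → ℂ) 1 = (Cfsg.charDegree (χ : G → ℂ) : ℂ) := by
  obtain ⟨n, hn, h1⟩ := Helper80_CharBasic.irr_apply_one χ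
  have : Cfsg.charDegree (χ : G → ℂ) = n := by
    unfold Cfsg.charDegree
    rw [h1]
    simp
  rw [this]
  exact ⟨hn, h1⟩

theorem sq_eq_one_iff (s : G) : s * s = 1 ↔ s = 1 ∨ orderOf s = 2 := by
  constructor
  · intro h
    have h2 : s ^ 2 = 1 := by rw [pow_two]; exact h
    have hd : orderOf s ∣ 2 := orderOf_dvd_of_pow_eq_one h2
    rcases (Nat.dvd_prime Nat.prime_two).mp hd with h1 | h1
    · left; exact orderOf_eq_one_iff.mp h1
    · right; exact h1
  · rintro (rfl | h)
    · simp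
    · rw [← pow_two, ← h]; exact pow_orderOf_eq_one s

variable [Fintype G]

/-- integer valued indicator -/
noncomputable def nu (χ : Cfsg.IrrCharacter G) : ℤ :=
  haveI := Classical.propDecidable
  if fsInd (χ : G → ℂ) = 1 then 1 else if fsInd (χ : G → ℂ) = -1 then -1 else 0

theorem nu_spec (χ : Cfsg.IrrCharacter G) :
    fsInd (χ : G → ℂ) = (nu χ : ℂ) ∧ nu χ ≤ 1 ∧
      (nu χ ≠ 0 → ∀ g : G, ((χ : G → ℂ) g).im = 0) := by
  classical
  have hne : (-1 : ℂ) ≠ 1 := by norm_num
  unfold nu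
  rcases fsInd_irr χ.2 with h | ⟨hr, h | h⟩
  · simp [h]
  · simp [h, hr]
  · simp [h, hr, hne]

theorem fsInd_one : fsInd (fun _ : G => (1 : ℂ)) = 1 := by
  unfold fsInd
  simp only [Finset.sum_const, Finset.card_univ, nsmul_eq_mul, mul_one]
  rw [Nat.card_eq_fintype_card]
  exact inv_mul_cancel₀ (Nat.cast_ne_zero.mpr Fintype.card_ne_zero)

theorem sqrtCount_one (t : ℕ) (ht : Nat.card {x : G // orderOf x = 2} = t) :
    sqrtCount (1 : G) = ((1 + t : ℕ) : ℂ) := by
  classical
  unfold sqrtCount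
  congr 1
  have h1 : (Finset.univ.filter (fun s : G => s * s = 1)) =
      insert 1 (Finset.univ.filter (fun s : G => orderOf s = 2)) := by
    ext s
    simp only [Finset.mem_filter, Finset.mem_univ, true_and, Finset.mem_insert]
    exact sq_eq_one_iff s
  have h2 : (1 : G) ∉ Finset.univ.filter (fun s : G => orderOf s = 2) := by
    simp
  have h3 : (Finset.univ.filter (fun s : G => orderOf s = 2)).card = t := by
    rw [← ht, Nat.card_eq_fintype_card, Fintype.card_subtype]
  convert congrArg Finset.card h1 using 1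
  rw [Finset.card_insert_of_notMem h2, h3, add_comm]

/-- sum of the centralizer orders = number of classes times group order -/
theorem sum_card_centralizer :
    ∑ x : G, Nat.card (Subgroup.centralizer ({x} : Set G)) =
      Nat.card (ConjClasses G) * Nat.card G := by
  classical
  rw [← card_comm_eq_card_conjClasses_mul_card]
  rw [Nat.card_congr (Equiv.subtypeProdEquivSigmaSubtype (fun a b : G => Commute a b))]
  rw [Nat.card_sigma]
  refine Finset.sum_congr rfl fun x _ => ?_
  apply Nat.card_congr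
  refine Equiv.subtypeEquivRight fun y => ?_
  rw [Subgroup.mem_centralizer_iff]
  constructor
  · intro h
    have := h x (Set.mem_singleton x)
    exact this
  · intro h z hz
    rw [Set.mem_singleton_iff.mp hz]
    exact h

end Aux

/-- Let G be a finite group of even order g with exactly t involutions, and put α = (g − 1)/t (a rational number). Then (a) some non-identity element x of G has at most α² conjugates; and (b) some non-principal real-valued irreducible character of G has degree at most α. -/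
theorem result {G : Type*} [Group G] [Fintype G] (heven : Even (Nat.card G)) (t : ℕ) (ht : Nat.card {x : G // orderOf x = 2} = t) : (∃ x : G, x ≠ 1 ∧ ((Subgroup.centralizer ({x} : Set G)).index : ℚ) ≤ (((Nat.card G : ℚ) - 1) / t) ^ 2) ∧ ∃ χ : Cfsg.IrrCharacter G, (χ : G → ℂ) ≠ (fun _ => 1) ∧ (∀ g : G, ((χ : G → ℂ) g).im = 0) ∧ (Cfsg.charDegree (χ : G → ℂ) : ℚ) ≤ ((Nat.card G : ℚ) - 1) / t := by
  classical
  have : Finite (Cfsg.IrrCharacter G) := Helper81_CharOrth.finite_irrCharacter
  have : Fintype (Cfsg.IrrCharacter G) := Fintype.ofFinite _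
  -- basic facts
  have hg2 : 2 ≤ Nat.card G := by
    have hpos : 0 < Nat.card G := Nat.card_pos
    obtain ⟨m, hm⟩ := heven
    omega
  have ht1 : 1 ≤ t := by
    have : Fact (Nat.Prime 2) := ⟨Nat.prime_two⟩
    have h2 : 2 ∣ Fintype.card G := by
      rw [← Nat.card_eq_fintype_card]; exact heven.two_dvd
    obtain ⟨x, hx⟩ := exists_prime_orderOf_dvd_card 2 h2
    rw [← ht]
    have : Nonempty {x : G // orderOf x = 2} := ⟨⟨x, hx⟩⟩
    exact Nat.card_pos
  -- degrees
  set d : Cfsg.IrrCharacter G → ℕ := fun χ => Cfsg.charDegree (χ : G → ℂ) with hd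
  have hdpos : ∀ χ, 0 < d χ := fun χ => (irr_deg χ).1
  have hd1 : ∀ χ : Cfsg.IrrCharacter G, (χ : G → ℂ) 1 = (d χ : ℂ) := fun χ => (irr_deg χ).2
  -- F1: Σ nu χ * d χ = 1 + t (in ℤ)
  have F1 : ∑ χ : Cfsg.IrrCharacter G, nu χ * (d χ : ℤ) = 1 + t := by
    have h := sqrtCount_one_eq (G := G)
    rw [sqrtCount_one t ht] at h
    have h' : ((1 + t : ℕ) : ℂ) = ((∑ χ : Cfsg.IrrCharacter G, nu χ * (d χ : ℤ) : ℤ) : ℂ) := by
      rw [h]; push_cast
      refine Finset.sum_congr rfl fun χ _ => ?_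
      rw [(nu_spec χ).1, hd1]
    have h'' : ((1 + t : ℕ) : ℤ) = ∑ χ : Cfsg.IrrCharacter G, nu χ * (d χ : ℤ) := by
      exact_mod_cast h'
    rw [← h'']; push_cast; ring
  -- F2: Σ d χ ^ 2 = g
  have F2 : ∑ χ : Cfsg.IrrCharacter G, d χ ^ 2 = Nat.card G := by
    have h := sum_deg_sq (G := G)
    have h' : ((∑ χ : Cfsg.IrrCharacter G, d χ ^ 2 : ℕ) : ℂ) = (Nat.card G : ℂ) := by
      rw [← h]; push_cast
      refine Finset.sum_congr rfl fun χ _ => ?_
      rw [hd1, pow_two]
    exact_mod_cast h'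
  -- the principal character
  set χ₀ : Cfsg.IrrCharacter G := Helper80_CharBasic.oneIrr G with hχ₀
  have hχ₀val : (χ₀ : G → ℂ) = fun _ => 1 := rfl
  have hν₀ : nu χ₀ = 1 := by
    have h := (nu_spec χ₀).1
    rw [hχ₀val, fsInd_one] at h
    exact_mod_cast h.symm
  have hd₀ : d χ₀ = 1 := by
    have h : (1 : ℂ) = (d χ₀ : ℂ) := hd1 χ₀
    exact_mod_cast h.symm
  have hne_iff : ∀ χ : Cfsg.IrrCharacter G, χ ≠ χ₀ ↔ (χ : G → ℂ) ≠ (fun _ => 1) := by
    intro χ
    rw [Ne, Subtype.ext_iff, hχ₀val]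
  -- the real non-principal characters
  set R : Finset (Cfsg.IrrCharacter G) :=
    Finset.univ.filter (fun χ => χ ≠ χ₀ ∧ ∀ x : G, ((χ : G → ℂ) x).im = 0) with hR
  have hRsub : R ⊆ Finset.univ.erase χ₀ := by
    intro χ hχ
    rw [hR, Finset.mem_filter] at hχ
    exact Finset.mem_erase.mpr ⟨hχ.2.1, Finset.mem_univ _⟩
  -- Claim A
  have A : (t : ℤ) ≤ ∑ χ ∈ R, (d χ : ℤ) := by
    have h1 : nu χ₀ * (d χ₀ : ℤ) + ∑ χ ∈ Finset.univ.erase χ₀, nu χ * (d χ : ℤ) =
        ∑ χ : Cfsg.IrrCharacter G, nu χ * (d χ : ℤ) :=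
      Finset.add_sum_erase Finset.univ (fun χ => nu χ * (d χ : ℤ)) (Finset.mem_univ χ₀)
    have h2 : ∑ χ ∈ Finset.univ.erase χ₀, nu χ * (d χ : ℤ) ≤
        ∑ χ ∈ Finset.univ.erase χ₀, (if χ ∈ R then (d χ : ℤ) else 0) := by
      apply Finset.sum_le_sum
      intro χ hχ
      by_cases hχR : χ ∈ R
      · rw [if_pos hχR]
        have h1 := (nu_spec χ).2.1
        have h2 : (0 : ℤ) < d χ := by exact_mod_cast hdpos χ
        nlinarith
      · rw [if_neg hχR]
        have : nu χ = 0 := by
          by_contra hne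
          apply hχR
          rw [hR, Finset.mem_filter]
          exact ⟨Finset.mem_univ _, Finset.ne_of_mem_erase hχ, (nu_spec χ).2.2 hne⟩
        rw [this, zero_mul]
    have h3 : ∑ χ ∈ Finset.univ.erase χ₀, (if χ ∈ R then (d χ : ℤ) else 0) =
        ∑ χ ∈ R, (d χ : ℤ) := by
      rw [← Finset.sum_filter]
      congr 1
      ext χ
      simp only [Finset.mem_filter]
      exact ⟨fun h => h.2, fun h => ⟨hRsub h, h⟩⟩
    rw [hν₀, hd₀, F1] at h1
    push_cast at h1
    linarith
  -- Claim B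
  have B : ∑ χ ∈ R, d χ ^ 2 + 1 ≤ Nat.card G := by
    rw [← F2, ← Finset.add_sum_erase Finset.univ (fun χ => d χ ^ 2) (Finset.mem_univ χ₀), hd₀]
    have := Finset.sum_le_sum_of_subset (f := fun χ => d χ ^ 2) hRsub
    omega
  -- Claim C
  have C : R.card + 1 ≤ Nat.card (ConjClasses G) := by
    have h2 := Finset.card_le_card hRsub
    rw [Finset.card_erase_of_mem (Finset.mem_univ _), Finset.card_univ] at h2
    have h3 : Fintype.card (Cfsg.IrrCharacter G) ≤ Nat.card (ConjClasses G) := by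
      rw [← Nat.card_eq_fintype_card]; exact card_irr_le
    have h4 : 0 < Fintype.card (Cfsg.IrrCharacter G) := Fintype.card_pos_iff.mpr ⟨χ₀⟩
    omega
  -- rational versions
  have hgq : (2 : ℚ) ≤ (Nat.card G : ℚ) := by exact_mod_cast hg2
  have htq : (1 : ℚ) ≤ (t : ℚ) := by exact_mod_cast ht1
  have Aq : (t : ℚ) ≤ ∑ χ ∈ R, (d χ : ℚ) := by exact_mod_cast A
  have Bq : ∑ χ ∈ R, (d χ : ℚ) ^ 2 ≤ (Nat.card G : ℚ) - 1 := by
    have : ((∑ χ ∈ R, d χ ^ 2 + 1 : ℕ) : ℚ) ≤ (Nat.card G : ℚ) := by exact_mod_cast B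
    push_cast at this
    linarith
  have Cq : (R.card : ℚ) ≤ (Nat.card (ConjClasses G) : ℚ) - 1 := by
    have : ((R.card + 1 : ℕ) : ℚ) ≤ (Nat.card (ConjClasses G) : ℚ) := by exact_mod_cast C
    push_cast at this
    linarith
  set α : ℚ := ((Nat.card G : ℚ) - 1) / t with hα
  have hαt : α * t = (Nat.card G : ℚ) - 1 := by
    rw [hα]; field_simp
  have hαpos : 0 < α := by
    rw [hα]; apply div_pos <;> linarith
  have hRne : R.Nonempty := by
    rw [Finset.nonempty_iff_ne_empty]
    intro h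
    rw [h, Finset.sum_empty] at Aq
    linarith
  refine ⟨?_, ?_⟩
  · -- part (a)
    by_contra hcon
    push Not at hcon
    -- (i),(ii)
    have h1 : (t : ℚ) ^ 2 ≤ ((Nat.card (ConjClasses G) : ℚ) - 1) * ((Nat.card G : ℚ) - 1) := by
      have hcs := sq_sum_le_card_mul_sum_sq (s := R) (f := fun χ => (d χ : ℚ))
      have hsum_nonneg : (0 : ℚ) ≤ ∑ χ ∈ R, (d χ : ℚ) ^ 2 :=
        Finset.sum_nonneg fun χ _ => sq_nonneg _
      calc (t : ℚ) ^ 2 ≤ (∑ χ ∈ R, (d χ : ℚ)) ^ 2 := by
            apply pow_le_pow_left₀ (by linarith) Aq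
        _ ≤ (R.card : ℚ) * ∑ χ ∈ R, (d χ : ℚ) ^ 2 := hcs
        _ ≤ ((Nat.card (ConjClasses G) : ℚ) - 1) * ((Nat.card G : ℚ) - 1) := by
            apply mul_le_mul Cq Bq hsum_nonneg
            linarith [Nat.cast_nonneg (α := ℚ) R.card]
    -- (iii)
    have hc1 : Nat.card (Subgroup.centralizer ({1} : Set G)) = Nat.card G := by
      have : Subgroup.centralizer ({1} : Set G) = ⊤ := by
        rw [Subgroup.centralizer_eq_top_iff_subset]
        intro x hx
        rw [Set.mem_singleton_iff.mp hx]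
        exact Subgroup.one_mem _
      rw [this, Subgroup.card_top]
    have hsum := sum_card_centralizer (G := G)
    rw [← Finset.add_sum_erase _ _ (Finset.mem_univ (1 : G)), hc1] at hsum
    have hsumq : ∑ x ∈ Finset.univ.erase (1 : G),
        (Nat.card (Subgroup.centralizer ({x} : Set G)) : ℚ) =
        ((Nat.card (ConjClasses G) : ℚ) - 1) * (Nat.card G : ℚ) := by
      have : ((Nat.card G + ∑ x ∈ Finset.univ.erase (1 : G),
          Nat.card (Subgroup.centralizer ({x} : Set G)) : ℕ) : ℚ) =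
          ((Nat.card (ConjClasses G) * Nat.card G : ℕ) : ℚ) := by rw [hsum]
      push_cast at this
      linarith
    have hne1 : (Finset.univ.erase (1 : G)).Nonempty := by
      rw [← Finset.card_pos, Finset.card_erase_of_mem (Finset.mem_univ _), Finset.card_univ,
        ← Nat.card_eq_fintype_card]
      omega
    have hlt : ∑ x ∈ Finset.univ.erase (1 : G),
        α ^ 2 * (Nat.card (Subgroup.centralizer ({x} : Set G)) : ℚ) <
        ∑ x ∈ Finset.univ.erase (1 : G), (Nat.card G : ℚ) := by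
      apply Finset.sum_lt_sum_of_nonempty hne1
      intro x hx
      have hx1 : x ≠ 1 := Finset.ne_of_mem_erase hx
      have h := hcon x hx1
      have hci : (Nat.card (Subgroup.centralizer ({x} : Set G)) : ℚ) *
          ((Subgroup.centralizer ({x} : Set G)).index : ℚ) = (Nat.card G : ℚ) := by
        exact_mod_cast (Subgroup.centralizer ({x} : Set G)).card_mul_index
      have hcpos : (0 : ℚ) < (Nat.card (Subgroup.centralizer ({x} : Set G)) : ℚ) := by
        exact_mod_cast Nat.card_pos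
      calc α ^ 2 * (Nat.card (Subgroup.centralizer ({x} : Set G)) : ℚ)
          < ((Subgroup.centralizer ({x} : Set G)).index : ℚ) *
            (Nat.card (Subgroup.centralizer ({x} : Set G)) : ℚ) :=
            mul_lt_mul_of_pos_right h hcpos
        _ = (Nat.card G : ℚ) := by rw [mul_comm]; exact hci
    rw [← Finset.mul_sum, hsumq, Finset.sum_const, Finset.card_erase_of_mem (Finset.mem_univ _),
      Finset.card_univ, ← Nat.card_eq_fintype_card, nsmul_eq_mul] at hlt
    have hcast : ((Nat.card G - 1 : ℕ) : ℚ) = (Nat.card G : ℚ) - 1 := by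
      rw [Nat.cast_sub (by omega)]; simp
    rw [hcast] at hlt
    -- algebra
    set a : ℚ := (Nat.card G : ℚ) - 1 with ha
    set K : ℚ := (Nat.card (ConjClasses G) : ℚ) - 1 with hK
    set T : ℚ := (t : ℚ) with hT
    have ha_pos : 0 < a := by rw [ha]; linarith
    have hgpos : (0 : ℚ) < (Nat.card G : ℚ) := by linarith
    have h2 : α ^ 2 * K < a := by
      have : α ^ 2 * K * (Nat.card G : ℚ) < a * (Nat.card G : ℚ) := by
        calc α ^ 2 * K * (Nat.card G : ℚ) = α ^ 2 * (K * (Nat.card G : ℚ)) := by ring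
          _ < a * (Nat.card G : ℚ) := hlt
      exact lt_of_mul_lt_mul_right this hgpos.le
    have h3 : a ^ 2 * K < a * T ^ 2 := by
      have hTpos : 0 < T ^ 2 := by positivity
      have := mul_lt_mul_of_pos_right h2 hTpos
      have e : α ^ 2 * K * T ^ 2 = a ^ 2 * K := by
        rw [← hαt]; ring
      rw [e] at this
      exact this
    have h4 : a * K < T ^ 2 := by
      have : a * (a * K) < a * T ^ 2 := by
        calc a * (a * K) = a ^ 2 * K := by ring
          _ < a * T ^ 2 := h3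
      exact lt_of_mul_lt_mul_left this ha_pos.le
    have h5 : T ^ 2 ≤ K * a := h1
    linarith [mul_comm a K]
  · -- part (b)
    by_contra hcon
    push Not at hcon
    have hbig : ∀ χ ∈ R, α < (d χ : ℚ) := by
      intro χ hχ
      rw [hR, Finset.mem_filter] at hχ
      exact hcon χ ((hne_iff χ).mp hχ.2.1) hχ.2.2
    have hlt : ∑ χ ∈ R, α * (d χ : ℚ) < ∑ χ ∈ R, (d χ : ℚ) ^ 2 := by
      apply Finset.sum_lt_sum_of_nonempty hRne
      intro χ hχ
      have h := hbig χ hχ
      have hpos : (0 : ℚ) < d χ := by exact_mod_cast hdpos χ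
      rw [pow_two]
      exact mul_lt_mul_of_pos_right h hpos
    rw [← Finset.mul_sum] at hlt
    have h1 : α * t ≤ α * ∑ χ ∈ R, (d χ : ℚ) := mul_le_mul_of_nonneg_left Aq hαpos.le
    linarith

end Cfsg.Agent.S4476
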