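import Cfsg.Statements.S4477
import Cfsg.Agent.S4387
import Cfsg.Agent.Lib.Helper74_LinAct
import Cfsg.Agent.Lib.Helper74_FS2
import Cfsg.Agent.Lib.Helper80_CharBasic
import Cfsg.Agent.Lib.Helper3_CharDegree

set_option autoImplicit false
open Cfsg

namespace Cfsg.Agent.S4477

open Cfsg.Agent.Lib Cfsg.Agent.Lib.Helper74_FS Cfsg.Agent.Lib.Helper74_LinAct
open scoped ComplexConjugate

theorem inv_eq_mul_sq_inv {L : Type*} [CommGroup L] (a : L) : a⁻¹ = a * (a ^ 2)⁻¹ := by group

theorem sq_inv_sq {L : Type*} [CommGroup L] (a : L) (h : (a ^ 2) ^ 2 = 1) :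
    ((a ^ 2)⁻¹) ^ 2 = 1 := by
  rw [inv_pow, h, inv_one]

section Cyc

variable {G : Type*} [Group G]

theorem index_of_isCoatom [Finite G] (hG : IsPGroup 2 G) (M : Subgroup G) (hM : IsCoatom M) :
    M.index = 2 := by
  have : Fact (Nat.Prime 2) := ⟨Nat.prime_two⟩
  obtain ⟨n, hn⟩ := hG.exists_card_eq
  obtain ⟨m, hm⟩ := (hG.to_subgroup M).exists_card_eq
  have hlt : Nat.card M < Nat.card G := by
    have hle : Nat.card M ≤ Nat.card G := Subgroup.card_le_card_group M
    rcases hle.lt_or_eq with h | h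
    · exact h
    · exact absurd (Subgroup.card_eq_iff_eq_top M |>.mp h) hM.1
  have hmn : m < n := by
    rw [hm, hn] at hlt
    exact (Nat.pow_lt_pow_iff_right (by norm_num)).mp hlt
  have hdvd : 2 ^ (m + 1) ∣ Nat.card G := by
    rw [hn]
    exact pow_dvd_pow 2 hmn
  obtain ⟨K, hK, hMK⟩ := Sylow.exists_subgroup_card_pow_succ hdvd hm
  have hne : M ≠ K := by
    intro h
    rw [← h, hm] at hK
    have : m = m + 1 := Nat.pow_right_injective (le_refl 2) hK
    omega
  have hKtop : K = ⊤ := hM.2 K (lt_of_le_of_ne hMK hne)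
  have hcard : Nat.card G = 2 ^ (m + 1) := by
    rw [← hK, hKtop, Subgroup.card_top]
  have := Subgroup.card_mul_index M
  rw [hm, hcard, pow_succ] at this
  exact Nat.eq_of_mul_eq_mul_left (by positivity) this

open Classical in
/-- the sign character of a subgroup of index two -/
noncomputable def signHom (H : Subgroup G) (hH : H.index = 2) : G →* ℂˣ :=
  MonoidHom.mk' (fun g => if g ∈ H then 1 else -1) (by
    intro a b
    have := Subgroup.mul_mem_iff_of_index_two hH (a := a) (b := b)
    by_cases ha : a ∈ H <;> by_cases hb : b ∈ H <;> simp [ha, hb, this])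

open Classical in
theorem signHom_apply (H : Subgroup G) (hH : H.index = 2) (g : G) :
    signHom H hH g = if g ∈ H then 1 else -1 := rfl

theorem neg_one_ne_one_units : (-1 : ℂˣ) ≠ 1 := by
  intro h
  have := congrArg (fun u : ℂˣ => (u : ℂ)) h
  norm_num at this

theorem ker_signHom (H : Subgroup G) (hH : H.index = 2) : (signHom H hH).ker = H := by
  ext g
  rw [MonoidHom.mem_ker, signHom_apply]
  by_cases hg : g ∈ H
  · simp [hg]
  · simp only [hg, if_false, iff_false]
    exact neg_one_ne_one_units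

theorem signHom_sq (H : Subgroup G) (hH : H.index = 2) : (signHom H hH) ^ 2 = 1 := by
  ext g
  rw [MonoidHom.pow_apply, signHom_apply]
  by_cases hg : g ∈ H <;> simp [hg]

theorem signHom_ne_one (H : Subgroup G) (hH : H.index = 2) : signHom H hH ≠ 1 := by
  intro h
  have h1 := ker_signHom H hH
  rw [h, MonoidHom.ker_one] at h1
  rw [← h1, Subgroup.index_top] at hH
  omega

/-- a nontrivial `2`-group with at most one nontrivial quadratic character is cyclic -/
theorem isCyclic_of_unique [Finite G] [Nontrivial G] (hG : IsPGroup 2 G)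
    (h : ∀ f f' : G →* ℂˣ, f ^ 2 = 1 → f' ^ 2 = 1 → f ≠ 1 → f' ≠ 1 → f = f') : IsCyclic G := by
  refine (Cfsg.Agent.S4387.result ?_).1
  intro M N hM hN
  refine ⟨1, ?_⟩
  have hMi := index_of_isCoatom hG M hM
  have hNi := index_of_isCoatom hG N hN
  have := h (signHom M hMi) (signHom N hNi) (signHom_sq _ _) (signHom_sq _ _)
    (signHom_ne_one _ _) (signHom_ne_one _ _)
  have h2 : M = N := by
    rw [← ker_signHom M hMi, ← ker_signHom N hNi, this]
  rw [h2]
  simp

end Cyc

section Count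

variable {G : Type*} [Group G] [Fintype G]

theorem fsInd_of_real {χ : G → ℂ} (hχ : IsIrrCharacter G χ) (hreal : ∀ g, (χ g).im = 0) :
    fsInd χ = 1 ∨ fsInd χ = -1 := by
  obtain ⟨n, ρ, hirr, rfl⟩ := hχ
  have := hirr
  rcases fsInd_trichotomy ρ with ⟨_, hbot⟩ | h
  · exfalso
    obtain ⟨M, hM0, hM⟩ := exists_invariant_form_ne_zero ρ hreal
    rw [hbot] at hM
    exact hM0 ((Submodule.mem_bot ℂ).mp hM)
  · exact h.2

theorem sqrtCount_one_card :
    sqrtCount (1 : G) = ((1 + Nat.card {x : G // orderOf x = 2} : ℕ) : ℂ) := by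
  classical
  have : Fact (Nat.Prime 2) := ⟨Nat.prime_two⟩
  unfold sqrtCount
  congr 1
  have h1 : (Finset.univ.filter (fun s : G => s * s = 1)) =
      insert 1 (Finset.univ.filter (fun s : G => orderOf s = 2)) := by
    ext s
    simp only [Finset.mem_filter, Finset.mem_univ, true_and, Finset.mem_insert]
    rw [orderOf_eq_prime_iff (p := 2)]
    constructor
    · intro h
      by_cases hs : s = 1
      · left; exact hs
      · right; exact ⟨by rw [pow_two]; exact h, hs⟩
    · rintro (rfl | ⟨h, _⟩)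
      · simp
      · rw [← pow_two]; exact h
  rw [h1, Finset.card_insert_of_notMem, add_comm]
  · congr 1
    rw [Nat.card_eq_fintype_card, Fintype.card_subtype]
  · simp

/-- the degree of an irreducible character, as a natural number -/
noncomputable def deg (χ : IrrCharacter G) : ℕ :=
  Classical.choose (Helper80_CharBasic.irr_apply_one χ)

omit [Fintype G] in
theorem deg_pos (χ : IrrCharacter G) : 0 < deg χ :=
  (Classical.choose_spec (Helper80_CharBasic.irr_apply_one χ)).1

omit [Fintype G] in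
theorem deg_spec (χ : IrrCharacter G) : (χ : G → ℂ) 1 = deg χ :=
  (Classical.choose_spec (Helper80_CharBasic.irr_apply_one χ)).2

theorem deg_dvd (χ : IrrCharacter G) : deg χ ∣ Nat.card G := by
  obtain ⟨n, ρ, hirr, hρ⟩ := χ.2
  have := hirr
  have h1 := Helper3_CharDegree.finrank_dvd_card ρ
  have h2 : Module.finrank ℂ (Fin n → ℂ) = n := by simp
  have h3 : (χ : G → ℂ) 1 = n := by
    rw [← hρ, Representation.char_one]; simp
  have h4 : deg χ = n := by
    have := deg_spec χ
    rw [h3] at this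
    exact_mod_cast this.symm
  rw [h4]
  rw [h2] at h1
  exact h1

omit [Fintype G] in
theorem deg_eq_iff (χ : IrrCharacter G) (k : ℕ) : deg χ = k ↔ (χ : G → ℂ) 1 = k := by
  rw [deg_spec]
  exact Nat.cast_inj.symm

/-- the Frobenius–Schur indicator as an integer -/
noncomputable def ind (χ : IrrCharacter G) : ℤ :=
  if fsInd (χ : G → ℂ) = 1 then 1 else if fsInd (χ : G → ℂ) = -1 then -1 else 0

theorem ind_spec (χ : IrrCharacter G) : ((ind χ : ℤ) : ℂ) = fsInd (χ : G → ℂ) := by
  unfold ind
  rcases Helper74_FS.fsInd_irr χ.2 with h | ⟨-, h | h⟩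
  · rw [h]; norm_num
  · rw [h]; norm_num
  · rw [h]; norm_num

theorem ind_cases (χ : IrrCharacter G) : ind χ = 0 ∨ ind χ = 1 ∨ ind χ = -1 := by
  unfold ind
  split_ifs <;> simp

theorem ind_ne_zero_iff (χ : IrrCharacter G) :
    ind χ ≠ 0 ↔ ∀ g, ((χ : G → ℂ) g).im = 0 := by
  constructor
  · intro h
    rcases Helper74_FS.fsInd_irr χ.2 with h0 | ⟨hr, -⟩
    · exfalso
      apply h
      have := ind_spec χ
      rw [h0] at this
      exact_mod_cast this
    · exact hr
  · intro hr h0
    have := ind_spec χ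
    rw [h0] at this
    rcases fsInd_of_real χ.2 hr with h | h
    · rw [h] at this; norm_num at this
    · rw [h] at this; norm_num at this

theorem ind_lin (f : G →* ℂˣ) : ind (lin f) = if f ^ 2 = 1 then 1 else 0 := by
  have h := ind_spec (lin f)
  rw [fsInd_lin] at h
  by_cases hf : f ^ 2 = 1
  · rw [if_pos hf] at h ⊢
    exact_mod_cast h
  · rw [if_neg hf] at h ⊢
    exact_mod_cast h

theorem count_eq :
    ((1 + Nat.card {x : G // orderOf x = 2} : ℕ) : ℤ) = ∑ χ : IrrCharacter G, ind χ * deg χ := by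
  have h := Helper74_FS.sqrtCount_one_eq (G := G)
  rw [sqrtCount_one_card] at h
  have h2 : ((1 + Nat.card {x : G // orderOf x = 2} : ℕ) : ℂ) =
      ((∑ χ : IrrCharacter G, ind χ * deg χ : ℤ) : ℂ) := by
    rw [h]
    push_cast
    apply Finset.sum_congr rfl
    intro χ _
    rw [ind_spec, deg_spec]
  exact_mod_cast h2

theorem pointwise {n : ℕ} (hG : Nat.card G = 2 ^ n) (χ : IrrCharacter G) :
    (4 : ℤ) ∣ ind χ * deg χ - ((if deg χ = 1 ∧ ind χ = 1 then 1 else 0) +
      2 * (if deg χ = 2 ∧ ind χ ≠ 0 then 1 else 0)) := by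
  have hd := deg_dvd χ
  rw [hG] at hd
  obtain ⟨k, hk, hdk⟩ := (Nat.dvd_prime_pow Nat.prime_two).mp hd
  rcases Nat.lt_or_ge k 2 with hk2 | hk2
  · interval_cases k
    · -- degree one
      have h1 : deg χ = 1 := by simpa using hdk
      have hχ1 : (χ : G → ℂ) 1 = 1 := by rw [deg_spec, h1]; simp
      obtain ⟨f, rfl⟩ := exists_lin_of_one hχ1
      rw [h1, ind_lin]
      by_cases hf : f ^ 2 = 1 <;> simp [hf]
    · have h2 : deg χ = 2 := by simpa using hdk
      rw [h2]
      rcases ind_cases χ with h | h | h <;> rw [h] <;> norm_num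
  · obtain ⟨j, rfl⟩ := Nat.exists_eq_add_of_le hk2
    have h4 : deg χ = 4 * 2 ^ j := by rw [hdk, pow_add]; norm_num
    have hne1 : deg χ ≠ 1 := by rw [h4]; have := Nat.two_pow_pos j; omega
    have hne2 : deg χ ≠ 2 := by rw [h4]; have := Nat.two_pow_pos j; omega
    simp only [hne1, hne2, false_and, if_false, mul_zero, add_zero, sub_zero]
    rw [h4]
    push_cast
    exact ⟨ind χ * 2 ^ j, by ring⟩

end Count

section Stab

variable {G : Type*} [Group G] [Fintype G]

omit [Fintype G] in
theorem hom_real_of_sq (f : G →* ℂˣ) (hf : f ^ 2 = 1) (g : G) : (((f g : ℂˣ) : ℂ)).im = 0 := by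
  have h1 : ((f g : ℂˣ) : ℂ) * ((f g : ℂˣ) : ℂ) = 1 := by
    have := congrArg (fun u : G →* ℂˣ => ((u g : ℂˣ) : ℂ)) hf
    simpa [pow_two] using this
  rcases mul_self_eq_one_iff.mp h1 with h | h <;> rw [h] <;> simp

theorem card_stab_le [DecidableEq (IrrCharacter G)]
    [DecidableEq (G →* ℂˣ)]
    (χ : IrrCharacter G) (hdeg : (χ : G → ℂ) 1 = 2) (hreal : ∀ g, ((χ : G → ℂ) g).im = 0)
    (S : Finset (G →* ℂˣ)) (hS : ∀ f ∈ S, twist f χ = χ) : S.card ≤ 4 := by
  have hχc : IsCharacter G (χ : G → ℂ) := Helper3_CharBridge.isCharacter_of_isIrrCharacter χ.2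
  have hφ : IsCharacter G (fun g => (χ : G → ℂ) g * conj ((χ : G → ℂ) g)) := by
    have h := Cfsg.Agent.S0188.isCharacter_mul hχc hχc
    have e : (fun g => (χ : G → ℂ) g * conj ((χ : G → ℂ) g)) = (χ : G → ℂ) * (χ : G → ℂ) := by
      funext g
      rw [Complex.conj_eq_iff_im.mpr (hreal g)]
      rfl
    rw [e]
    exact h
  obtain ⟨m, hm, hsum⟩ := Helper75_CharArith.exists_multiplicities hφ
  have h4 : (4 : ℂ) = ∑ ψ : IrrCharacter G, (m ψ : ℂ) * (ψ : G → ℂ) 1 := by
    have := congrFun hsum 1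
    simp only [Finset.sum_apply, Pi.smul_apply, smul_eq_mul] at this
    rw [← this, hdeg]
    have : (starRingEnd ℂ) (2 : ℂ) = 2 := Complex.conj_ofNat 2
    rw [this]
    norm_num
  obtain ⟨d, hd⟩ : ∃ d : IrrCharacter G → ℕ, ∀ ψ : IrrCharacter G, (ψ : G → ℂ) 1 = d ψ := by
    have := fun ψ : IrrCharacter G => Helper80_CharBasic.irr_apply_one ψ
    choose d _ hd using this
    exact ⟨d, hd⟩
  have h4' : 4 = ∑ ψ : IrrCharacter G, m ψ * d ψ := by
    have : ((4 : ℕ) : ℂ) = ((∑ ψ : IrrCharacter G, m ψ * d ψ : ℕ) : ℂ) := by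
      push_cast
      rw [h4]
      apply Finset.sum_congr rfl
      intro ψ _
      rw [hd]
    exact_mod_cast this
  have hone : ∀ f ∈ S, m (lin f) * d (lin f) = 1 := by
    intro f hf
    have h1 : m (lin f) = 1 := by
      have := hm (lin f)
      rw [classInner_mul_lin f] at this
      have h2 : (fun g => ((f g : ℂˣ) : ℂ) * (χ : G → ℂ) g) = (twist f χ : G → ℂ) := rfl
      rw [h2, hS f hf, Helper3_CharOrtho.classInner_self_of_isIrrCharacter χ.2] at this
      exact_mod_cast this.symm
    have h2 : d (lin f) = 1 := by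
      have := hd (lin f)
      rw [lin_one_apply] at this
      exact_mod_cast this.symm
    rw [h1, h2]
  calc S.card = ∑ f ∈ S, 1 := by simp
    _ = ∑ f ∈ S, m (lin f) * d (lin f) := Finset.sum_congr rfl (fun f hf => (hone f hf).symm)
    _ = ∑ ψ ∈ S.image lin, m ψ * d ψ := by
        rw [Finset.sum_image]
        intro a _ b _ h
        exact lin_injective h
    _ ≤ ∑ ψ : IrrCharacter G, m ψ * d ψ :=
        Finset.sum_le_sum_of_subset (Finset.subset_univ _)
    _ = 4 := h4'.symm

end Stab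


/-- Let G be a finite 2-group whose number of involutions is congruent to 1 modulo 4. Then G is cyclic or its commutator subgroup has index 4. -/
theorem result {G : Type*} [Group G] [Finite G] (hG : IsPGroup 2 G) (ht : Nat.card {x : G // orderOf x = 2} % 4 = 1) : IsCyclic G ∨ (commutator G).index = 4 := by
  classical
  have := Fintype.ofFinite G
  have h2p : Fact (Nat.Prime 2) := ⟨Nat.prime_two⟩
  have hLfin : Finite (G →* ℂˣ) := Finite.of_equiv _ Helper79_Linear.linearEquiv
  have := Fintype.ofFinite (G →* ℂˣ)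
  obtain ⟨n, hn⟩ := hG.exists_card_eq
  -- the group of linear characters is a `2`-group
  have hLcard : Nat.card (G →* ℂˣ) = (commutator G).index := by
    rw [← Helper79_Linear.card_linear, Nat.card_congr Helper79_Linear.linearEquiv]
  have hL : IsPGroup 2 (G →* ℂˣ) := by
    have hdvd : (commutator G).index ∣ 2 ^ n := hn ▸ Subgroup.index_dvd_card _
    obtain ⟨k, -, hk⟩ := (Nat.dvd_prime_pow Nat.prime_two).mp hdvd
    exact IsPGroup.of_card (n := k) (by rw [hLcard, hk])
  -- the quadratic characters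
  let Λ : Subgroup (G →* ℂˣ) := (powMonoidHom 2 : (G →* ℂˣ) →* (G →* ℂˣ)).ker
  have hΛmem : ∀ f : G →* ℂˣ, f ∈ Λ ↔ f ^ 2 = 1 := fun f => by
    simp [Λ, MonoidHom.mem_ker]
  have hΛ2 : IsPGroup 2 Λ := hL.to_subgroup Λ
  obtain ⟨j, hj⟩ := hΛ2.exists_card_eq
  -- counting modulo four
  have hcount := count_eq (G := G)
  have hsum : (4 : ℤ) ∣ ∑ χ : IrrCharacter G, (ind χ * deg χ -
      ((if deg χ = 1 ∧ ind χ = 1 then 1 else 0) +
        2 * (if deg χ = 2 ∧ ind χ ≠ 0 then 1 else 0))) :=
    Finset.dvd_sum (fun χ _ => pointwise hn χ)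
  rw [Finset.sum_sub_distrib, ← hcount, Finset.sum_add_distrib, ← Finset.mul_sum,
    Finset.sum_boole, Finset.sum_boole] at hsum
  have hcard1 : (Finset.univ.filter
      (fun χ : IrrCharacter G => deg χ = 1 ∧ ind χ = 1)).card = 2 ^ j := by
    rw [← hj, Nat.card_eq_fintype_card, ← Finset.card_univ]
    symm
    apply Finset.card_bij (fun (a : Λ) _ => lin a.1)
    · intro a _
      rw [Finset.mem_filter]
      refine ⟨Finset.mem_univ _, ?_, ?_⟩
      · rw [deg_eq_iff]; simp
      · rw [ind_lin, if_pos ((hΛmem _).mp a.2)]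
    · intro a _ b _ h
      exact Subtype.ext (lin_injective h)
    · intro χ hχ
      rw [Finset.mem_filter] at hχ
      obtain ⟨-, h1, h2⟩ := hχ
      have hχ1 : (χ : G → ℂ) 1 = 1 := by rw [deg_spec, h1]; simp
      obtain ⟨f, rfl⟩ := exists_lin_of_one hχ1
      rw [ind_lin] at h2
      have hf : f ^ 2 = 1 := by
        by_contra hf
        rw [if_neg hf] at h2
        exact zero_ne_one h2
      exact ⟨⟨f, (hΛmem f).mpr hf⟩, Finset.mem_univ _, rfl⟩
  rw [hcard1] at hsum
  set T : Finset (IrrCharacter G) :=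
    Finset.univ.filter (fun χ : IrrCharacter G => deg χ = 2 ∧ ind χ ≠ 0) with hT
  set t := Nat.card {x : G // orderOf x = 2} with ht_def
  push_cast at hsum
  -- nontriviality
  have hnt : Nontrivial G := by
    have ht0 : t ≠ 0 := by
      intro h
      rw [h] at ht
      norm_num at ht
    have : Nonempty {x : G // orderOf x = 2} := by
      by_contra hne
      rw [not_nonempty_iff] at hne
      exact ht0 Nat.card_of_isEmpty
    obtain ⟨x, hx⟩ := this
    refine ⟨⟨x, 1, ?_⟩⟩
    intro h
    rw [h, orderOf_one] at hx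
    norm_num at hx
  -- case distinction on the number of quadratic characters
  rcases Nat.lt_or_ge j 2 with hj2 | hj2
  · interval_cases j
    · exfalso
      obtain ⟨c, hc⟩ := hsum
      norm_num at hc
      omega
    · left
      apply isCyclic_of_unique hG
      intro f f' hf hf' hf1 hf'1
      have h2 : Nat.card Λ = 2 := by simpa using hj
      obtain ⟨y, -, hy⟩ := (Nat.card_eq_two_iff' (1 : Λ)).mp h2
      have e1 := hy ⟨f, (hΛmem f).mpr hf⟩ (fun h => hf1 (congrArg Subtype.val h))
      have e2 := hy ⟨f', (hΛmem f').mpr hf'⟩ (fun h => hf'1 (congrArg Subtype.val h))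
      exact congrArg Subtype.val (e1.trans e2.symm)
  · right
    obtain ⟨i, rfl⟩ := Nat.exists_eq_add_of_le hj2
    have hTodd : T.card % 2 = 1 := by
      obtain ⟨c, hc⟩ := hsum
      have h4 : (2 : ℤ) ^ (2 + i) = 4 * 2 ^ i := by rw [pow_add]; norm_num
      rw [h4] at hc
      have : ∃ q : ℤ, (2 : ℤ) ^ i = q := ⟨_, rfl⟩
      obtain ⟨q, hq⟩ := this
      rw [hq] at hc
      omega
    -- the action of the quadratic characters
    let act : MulAction (G →* ℂˣ) (IrrCharacter G) := twistAction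
    have hsmul : ∀ (f : G →* ℂˣ) (χ : IrrCharacter G), f • χ = twist f χ := fun _ _ => rfl
    have hTmem : ∀ χ : IrrCharacter G, χ ∈ T ↔
        ((χ : G → ℂ) 1 = 2 ∧ ∀ g, ((χ : G → ℂ) g).im = 0) := by
      intro χ
      rw [hT, Finset.mem_filter, deg_eq_iff, ind_ne_zero_iff]
      simp
    have hTstab : ∀ a : Λ, ∀ χ ∈ T, a • χ ∈ T := by
      intro a χ hχ
      rw [hTmem] at hχ ⊢
      rw [Subgroup.smul_def, hsmul]
      refine ⟨by rw [twist_one_apply]; exact hχ.1, fun g => ?_⟩
      rw [twist_apply, Complex.mul_im, hχ.2 g, hom_real_of_sq a.1 ((hΛmem _).mp a.2) g]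
      ring
    have hmod := card_stable_modEq hΛ2 T hTstab
    set X₀ : Finset (IrrCharacter G) := T.filter (fun χ => ∀ a : Λ, a • χ = χ) with hX₀
    have hX₀odd : X₀.card % 2 = 1 := by
      have := hmod
      unfold Nat.ModEq at this
      omega
    have hX₀mem : ∀ χ : IrrCharacter G, χ ∈ X₀ ↔
        (χ ∈ T ∧ ∀ f : G →* ℂˣ, f ^ 2 = 1 → twist f χ = χ) := by
      intro χ
      rw [hX₀, Finset.mem_filter]
      constructor
      · rintro ⟨h1, h2⟩
        exact ⟨h1, fun f hf => h2 ⟨f, (hΛmem f).mpr hf⟩⟩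
      · rintro ⟨h1, h2⟩
        exact ⟨h1, fun a => h2 a.1 ((hΛmem _).mp a.2)⟩
    -- stabilisers
    have hstab : ∀ χ ∈ X₀, (Nat.card Λ = 4 ∧ ∀ f : G →* ℂˣ, twist f χ = χ → f ^ 2 = 1) := by
      intro χ hχ
      rw [hX₀mem] at hχ
      obtain ⟨hχT, hχfix⟩ := hχ
      rw [hTmem] at hχT
      set St : Finset (G →* ℂˣ) := Finset.univ.filter (fun f => twist f χ = χ) with hSt
      have hSt4 : St.card ≤ 4 := card_stab_le χ hχT.1 hχT.2 St (fun f hf => by
        rw [hSt, Finset.mem_filter] at hf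
        exact hf.2)
      set Λf : Finset (G →* ℂˣ) := Finset.univ.filter (fun f => f ^ 2 = 1) with hΛf
      have hΛfcard : Λf.card = Nat.card Λ := by
        rw [Nat.card_eq_fintype_card, ← Finset.card_univ]
        symm
        apply Finset.card_bij (fun (a : Λ) _ => a.1)
        · intro a _
          rw [hΛf, Finset.mem_filter]
          exact ⟨Finset.mem_univ _, (hΛmem _).mp a.2⟩
        · intro a _ b _ h
          exact Subtype.ext h
        · intro f hf
          rw [hΛf, Finset.mem_filter] at hf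
          exact ⟨⟨f, (hΛmem f).mpr hf.2⟩, Finset.mem_univ _, rfl⟩
      have hsub : Λf ⊆ St := by
        intro f hf
        rw [hΛf, Finset.mem_filter] at hf
        rw [hSt, Finset.mem_filter]
        exact ⟨Finset.mem_univ _, hχfix f hf.2⟩
      have hle : Λf.card ≤ St.card := Finset.card_le_card hsub
      have h4le : 4 ≤ Nat.card Λ := by
        rw [hj, pow_add]
        have := Nat.one_le_two_pow (n := i)
        nlinarith
      have hΛ4 : Nat.card Λ = 4 := by omega
      refine ⟨hΛ4, ?_⟩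
      have heq : Λf = St := Finset.eq_of_subset_of_card_le hsub (by omega)
      intro f hf
      have : f ∈ St := by
        rw [hSt, Finset.mem_filter]
        exact ⟨Finset.mem_univ _, hf⟩
      rw [← heq, hΛf, Finset.mem_filter] at this
      exact this.2
    -- a fixed point exists
    have hX₀ne : X₀.Nonempty := by
      rw [Finset.nonempty_iff_ne_empty]
      intro h
      rw [h] at hX₀odd
      simp at hX₀odd
    obtain ⟨χ₀, hχ₀⟩ := hX₀ne
    have hΛ4 : Nat.card Λ = 4 := (hstab χ₀ hχ₀).1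
    -- every linear character is quadratic
    have hall : ∀ f : G →* ℂˣ, f ^ 2 = 1 := by
      by_contra hex
      push Not at hex
      obtain ⟨f, hf⟩ := hex
      -- an element `μ` with `μ ^ 2` quadratic but `μ` not quadratic
      obtain ⟨μ, hμ2, hμ4⟩ : ∃ μ : G →* ℂˣ, μ ^ 2 ≠ 1 ∧ (μ ^ 2) ^ 2 = 1 := by
        obtain ⟨k, hk⟩ := (IsPGroup.iff_orderOf.mp hL) f
        have hk2 : 2 ≤ k := by
          by_contra hlt
          push Not at hlt
          apply hf
          have hdvd : orderOf f ∣ 2 := by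
            rw [hk]
            interval_cases k
            · norm_num
            · norm_num
          exact orderOf_dvd_iff_pow_eq_one.mp hdvd
        obtain ⟨l, rfl⟩ := Nat.exists_eq_add_of_le hk2
        refine ⟨f ^ 2 ^ l, ?_, ?_⟩
        · rw [← pow_mul]
          apply pow_ne_one_of_lt_orderOf
          · positivity
          · rw [hk, pow_add]
            have := Nat.one_le_two_pow (n := l)
            nlinarith
        · rw [← pow_mul, ← pow_mul]
          have : 2 ^ l * (2 * 2) = orderOf f := by rw [hk, pow_add]; ring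
          rw [this, pow_orderOf_eq_one]
      let A : Subgroup (G →* ℂˣ) := Λ.comap (powMonoidHom 2 : (G →* ℂˣ) →* (G →* ℂˣ))
      have hAmem : ∀ ν : G →* ℂˣ, ν ∈ A ↔ (ν ^ 2) ^ 2 = 1 := fun ν => by
        simp [A, Subgroup.mem_comap, hΛmem]
      have hA2 : IsPGroup 2 A := hL.to_subgroup A
      have hX₀stab : ∀ a : A, ∀ χ ∈ X₀, a • χ ∈ X₀ := by
        intro a χ hχ
        have hν := (hAmem _).mp a.2
        rw [hX₀mem] at hχ ⊢
        obtain ⟨hχT, hχfix⟩ := hχ
        rw [Subgroup.smul_def, hsmul]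
        rw [hTmem] at hχT ⊢
        refine ⟨⟨by rw [twist_one_apply]; exact hχT.1, fun g => ?_⟩, fun f hf => ?_⟩
        · rw [← Complex.conj_eq_iff_im, twist_apply, map_mul, conj_hom,
            Complex.conj_eq_iff_im.mpr (hχT.2 g)]
          have h1 : ((a.1 : G →* ℂˣ))⁻¹ = a.1 * ((a.1 : G →* ℂˣ) ^ 2)⁻¹ :=
            inv_eq_mul_sq_inv (a.1 : G →* ℂˣ)
          have h2 : ((((a.1 : G →* ℂˣ) ^ 2)⁻¹) ^ 2) = 1 := sq_inv_sq (a.1 : G →* ℂˣ) hν
          have h3 := congrFun (congrArg Subtype.val (hχfix _ h2)) g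
          rw [twist_apply] at h3
          rw [h1, MonoidHom.mul_apply, Units.val_mul, mul_assoc, h3]
        · rw [← twist_mul, mul_comm f (a.1 : G →* ℂˣ), twist_mul, hχfix f hf]
      have hmod2 := card_stable_modEq hA2 X₀ hX₀stab
      have hempty : (X₀.filter (fun χ => ∀ a : A, a • χ = χ)) = ∅ := by
        rw [Finset.eq_empty_iff_forall_notMem]
        intro χ hχ
        rw [Finset.mem_filter] at hχ
        obtain ⟨hχX, hχA⟩ := hχ
        have h1 := hχA ⟨μ, (hAmem μ).mpr hμ4⟩
        rw [Subgroup.smul_def, hsmul] at h1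
        exact hμ2 ((hstab χ hχX).2 μ h1)
      rw [hempty, Finset.card_empty] at hmod2
      unfold Nat.ModEq at hmod2
      omega
    have hΛtop : Λ = ⊤ := by
      rw [eq_top_iff]
      intro f _
      exact (hΛmem f).mpr (hall f)
    rw [← hLcard, ← hΛ4]
    exact ((Subgroup.card_eq_iff_eq_top Λ).mpr hΛtop).symm

end Cfsg.Agent.S4477
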