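import Mathlib
import Cfsg.Statements.S4483
import Cfsg.Agent.S0952
import Cfsg.Agent.S0164
import Cfsg.Agent.Lib.Helper75_IndChar
import Cfsg.Agent.Lib.Helper75_CharArith
import Cfsg.Agent.Lib.Helper79_CharVals
import Cfsg.Agent.Lib.Helper3_CharEigen
import Cfsg.Agent.Lib.Helper80_CharBasic
import Cfsg.Agent.Lib.Helper78_LocalRing
-- import your own Cfsg.Agent.* helpers here

set_option autoImplicit false
set_option linter.style.haveILetI false
set_option linter.unusedSectionVars false
open Cfsg

namespace Cfsg.Agent.S4483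

open Cfsg.Agent.Lib.Helper3_CharBridge Cfsg.Agent.Lib.Helper3_CharOrtho
  Cfsg.Agent.Lib.Helper75_CharArith Cfsg.Agent.Lib.Helper75_Induced
  Cfsg.Agent.Lib.Helper75_IndChar
open scoped ComplexConjugate

section aux

variable {G : Type*} [Group G] [Fintype G]

/-- The sum of an inversion-invariant function over the non-identity elements of odd order is
twice a sum over "half" of them. -/
theorem sum_odd_eq_two_mul (f : G → ℂ) (hf : ∀ g : G, f g⁻¹ = f g) :
    ∃ A : Finset G, ∑ g ∈ Finset.univ.filter (fun g : G => Odd (orderOf g)), f g =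
      f 1 + 2 * ∑ g ∈ A, f g := by
  classical
  letI : LinearOrder G := linearOrderOfSTO WellOrderingRel
  set T : Finset G := Finset.univ.filter (fun g : G => Odd (orderOf g)) with hT
  have h1T : (1 : G) ∈ T := by simp [hT]
  have hne : ∀ g ∈ T.erase 1, g ≠ g⁻¹ := by
    intro g hg h
    have hg1 : g ≠ 1 := Finset.ne_of_mem_erase hg
    have hodd : Odd (orderOf g) := (Finset.mem_filter.1 (Finset.mem_of_mem_erase hg)).2
    have h2 : g ^ 2 = 1 := by
      rw [pow_two]
      nth_rewrite 2 [h]
      exact mul_inv_cancel g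
    have h3 : orderOf g ∣ 2 := orderOf_dvd_of_pow_eq_one h2
    have h4 : orderOf g = 1 := by
      rcases (Nat.dvd_prime Nat.prime_two).1 h3 with h | h
      · exact h
      · rw [h] at hodd
        exact absurd hodd (by decide)
    exact hg1 (orderOf_eq_one_iff.1 h4)
  set A : Finset G := (T.erase 1).filter (fun g => g < g⁻¹) with hA
  set B : Finset G := (T.erase 1).filter (fun g => g⁻¹ < g) with hB
  refine ⟨A, ?_⟩
  have hsplit : ∑ g ∈ T.erase 1, f g = ∑ g ∈ A, f g + ∑ g ∈ B, f g := by
    rw [← Finset.sum_filter_add_sum_filter_not (T.erase 1) (fun g => g < g⁻¹)]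
    congr 1
    apply Finset.sum_congr _ (fun _ _ => rfl)
    ext g
    simp only [hB, Finset.mem_filter, not_lt]
    constructor
    · rintro ⟨hg, hle⟩
      exact ⟨hg, lt_of_le_of_ne hle (fun h => hne g hg h.symm)⟩
    · rintro ⟨hg, hlt⟩
      exact ⟨hg, hlt.le⟩
  have hBA : ∑ g ∈ B, f g = ∑ g ∈ A, f g := by
    refine Finset.sum_nbij' (fun g => g⁻¹) (fun g => g⁻¹) ?_ ?_ ?_ ?_ ?_
    · intro g hg
      simp only [hB, hT, Finset.mem_filter, Finset.mem_erase, Finset.mem_univ, true_and] at hg
      simp only [hA, hT, Finset.mem_filter, Finset.mem_erase, Finset.mem_univ, true_and,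
        orderOf_inv, inv_inv]
      exact ⟨⟨fun h => hg.1.1 (inv_eq_one.1 h), hg.1.2⟩, hg.2⟩
    · intro g hg
      simp only [hA, hT, Finset.mem_filter, Finset.mem_erase, Finset.mem_univ, true_and] at hg
      simp only [hB, hT, Finset.mem_filter, Finset.mem_erase, Finset.mem_univ, true_and,
        orderOf_inv, inv_inv]
      exact ⟨⟨fun h => hg.1.1 (inv_eq_one.1 h), hg.1.2⟩, hg.2⟩
    · intro g _
      exact inv_inv g
    · intro g _
      exact inv_inv g
    · intro g _
      exact (hf g).symm
  rw [← Finset.add_sum_erase T f h1T, hsplit, hBA]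
  ring

/-- A natural number `d` with `d + 2β = 0` for an algebraic integer `β` is even. -/
theorem even_of_add_two_mul_eq_zero (d : ℕ) (β : ℂ) (hβ : IsIntegral ℤ β)
    (h : (d : ℂ) + 2 * β = 0) : Even d := by
  have hβ' : β = algebraMap ℚ ℂ (-(d : ℚ) / 2) := by
    have : β = -(d : ℂ) / 2 := by linear_combination h / 2
    rw [this]
    simp
  rw [hβ'] at hβ
  have h2 : IsIntegral ℤ (-(d : ℚ) / 2) :=
    (isIntegral_algebraMap_iff (algebraMap ℚ ℂ).injective).1 hβ
  obtain ⟨y, hy⟩ := IsIntegrallyClosed.isIntegral_iff.1 h2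
  have h3 : (d : ℚ) = -2 * (y : ℚ) := by
    have : ((y : ℤ) : ℚ) = -(d : ℚ) / 2 := by simpa using hy
    linarith
  have h4 : (d : ℤ) = -2 * y := by exact_mod_cast h3
  have h5 : (2 : ℤ) ∣ (d : ℤ) := ⟨-y, by rw [h4]; ring⟩
  have h6 : 2 ∣ d := by exact_mod_cast h5
  exact even_iff_two_dvd.2 h6

end aux

section elem

variable {E : Type*} [Group E] [Finite E]

/-- In a finite group with a normal subgroup `K` of odd order and `2`-power index, the elements
of odd order are exactly those of `K`. -/
theorem mem_iff_odd_of_index (K : Subgroup E) [K.Normal] (hK : Odd (Nat.card K)) (m : ℕ)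
    (hm : K.index = 2 ^ m) (e : E) : e ∈ K ↔ Odd (orderOf e) := by
  constructor
  · intro he
    have h1 : orderOf (⟨e, he⟩ : K) ∣ Nat.card K := orderOf_dvd_natCard _
    have h2 : orderOf (⟨e, he⟩ : K) = orderOf e := by
      rw [← Subgroup.orderOf_coe]
    rw [h2] at h1
    exact hK.of_dvd_nat h1
  · intro he
    have h1 : (QuotientGroup.mk e : E ⧸ K) ^ orderOf e = 1 := by
      rw [← QuotientGroup.mk_pow, pow_orderOf_eq_one, QuotientGroup.mk_one]
    have h2 : (QuotientGroup.mk e : E ⧸ K) ^ (2 ^ m) = 1 := by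
      rw [← hm, Subgroup.index_eq_card]
      exact pow_card_eq_one'
    have hcop : Nat.Coprime (orderOf e) (2 ^ m) :=
      Nat.Coprime.pow_right m (Nat.coprime_two_right.2 he)
    have h3 : (QuotientGroup.mk e : E ⧸ K) ^ 1 = 1 := by
      rw [← hcop]
      exact pow_gcd_eq_one.2 ⟨h1, h2⟩
    rw [pow_one] at h3
    exact (QuotientGroup.eq_one_iff e).1 h3

/-- An elementary group has a normal subgroup consisting of its elements of odd order, of
`2`-power index. -/
theorem exists_odd_normal_of_elementary (p : ℕ) (hp : p.Prime) (hE : IsElementary p E) :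
    ∃ (K : Subgroup E) (_ : K.Normal) (m : ℕ), K.index = 2 ^ m ∧
      ∀ e : E, e ∈ K ↔ Odd (orderOf e) := by
  classical
  obtain ⟨x, hx, hcop, k, hk⟩ := hE
  have hZc : Subgroup.zpowers x ≤ Subgroup.center E := by
    rw [Subgroup.zpowers_le]
    exact hx
  by_cases hp2 : p = 2
  · -- `p = 2`: take `K = ⟨x⟩`
    subst hp2
    haveI hZn : (Subgroup.zpowers x).Normal := by
      refine ⟨fun z hz g => ?_⟩
      have hzc : z ∈ Subgroup.center E := hZc hz
      rw [Subgroup.mem_center_iff] at hzc
      rw [hzc g, mul_inv_cancel_right]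
      exact hz
    refine ⟨Subgroup.zpowers x, hZn, k, hk, ?_⟩
    apply mem_iff_odd_of_index _ _ k hk
    rw [Nat.card_zpowers]
    exact Nat.coprime_two_right.1 hcop
  · -- `p` odd: the centre has odd index
    have hpodd : Odd p := hp.odd_of_ne_two hp2
    have hidx : Odd (Subgroup.center E).index := by
      have h1 : (Subgroup.center E).index ∣ (Subgroup.zpowers x).index :=
        Subgroup.index_dvd_of_le hZc
      rw [hk] at h1
      exact (hpodd.pow).of_dvd_nat h1
    set j := (Subgroup.center E).index with hj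
    set c := Nat.card (Subgroup.center E) with hc
    have hc0 : c ≠ 0 := Nat.card_pos.ne'
    set s := ordCompl[2] c with hs
    have hsodd : Odd s := by
      rw [← Nat.not_even_iff_odd, even_iff_two_dvd]
      exact Nat.not_dvd_ordCompl Nat.prime_two hc0
    have hcomm : ∀ u v : Subgroup.center E, Commute u v := by
      intro u v
      apply Subtype.ext
      have := Subgroup.mem_center_iff.1 v.2 (u : E)
      simpa using this
    let F : E →* Subgroup.center E :=
      { toFun := fun e => (MonoidHom.transferCenterPow E e) ^ s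
        map_one' := by rw [map_one, one_pow]
        map_mul' := fun a b => by rw [map_mul, (hcomm _ _).mul_pow] }
    have hF : ∀ e : E, ((F e : Subgroup.center E) : E) = (e ^ j) ^ s := by
      intro e
      change (((MonoidHom.transferCenterPow E e) ^ s : Subgroup.center E) : E) = _
      rw [Subgroup.coe_pow, MonoidHom.transferCenterPow_apply]
    have hFpow : ∀ e : E, (F e) ^ (2 ^ (c.factorization 2)) = 1 := by
      intro e
      have h1 : F e = (MonoidHom.transferCenterPow E e) ^ s := rfl
      rw [h1, ← pow_mul, mul_comm, Nat.ordProj_mul_ordCompl_eq_self]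
      exact pow_card_eq_one'
    refine ⟨F.ker, inferInstance, ?_⟩
    have hmem : ∀ e : E, e ∈ F.ker ↔ Odd (orderOf e) := by
      intro e
      rw [MonoidHom.mem_ker]
      constructor
      · intro he
        have h1 : (e ^ j) ^ s = 1 := by
          rw [← hF, he]
          rfl
        rw [← pow_mul] at h1
        exact (hidx.mul hsodd).of_dvd_nat (orderOf_dvd_of_pow_eq_one h1)
      · intro he
        have h1 : (F e) ^ orderOf e = 1 := by
          rw [← map_pow, pow_orderOf_eq_one, map_one]
        have hcop2 : Nat.Coprime (orderOf e) (2 ^ (c.factorization 2)) :=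
          Nat.Coprime.pow_right _ (Nat.coprime_two_right.2 he)
        have h3 : (F e) ^ 1 = 1 := by
          rw [← hcop2]
          exact pow_gcd_eq_one.2 ⟨h1, hFpow e⟩
        rwa [pow_one] at h3
    -- the index of the kernel is a power of two
    have hpg : IsPGroup 2 F.range := by
      rintro ⟨y, e, rfl⟩
      refine ⟨c.factorization 2, ?_⟩
      apply Subtype.ext
      rw [Subgroup.coe_pow]
      exact hFpow e
    obtain ⟨m, hm⟩ := hpg.exists_card_eq
    refine ⟨m, ?_, hmem⟩
    rw [Subgroup.index_ker, hm]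

end elem

section elem2

variable {E : Type*} [Group E] [Fintype E]

/-- The function induced from the principal character of a normal subgroup, on the subgroup. -/
theorem indFun_one_normal_of_mem (K : Subgroup E) [K.Normal] {e : E} (he : e ∈ K) :
    indFun K (fun _ : K => (1 : ℂ)) e = (K.index : ℂ) := by
  classical
  haveI : Fintype K := Fintype.ofFinite K
  have hK0 : (Nat.card K : ℂ) ≠ 0 := by exact_mod_cast Nat.card_pos.ne'
  rw [indFun_apply]
  have h1 : ∀ x : E, extendByZero K (fun _ : K => (1 : ℂ)) (x⁻¹ * e * x) = 1 := by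
    intro x
    have hx : x⁻¹ * e * x ∈ K := by
      have := Subgroup.Normal.conj_mem (inferInstance : K.Normal) e he x⁻¹
      simpa using this
    rw [extendByZero_of_mem K _ hx]
  rw [Finset.sum_congr rfl (fun x _ => h1 x), Finset.sum_const, Finset.card_univ,
    nsmul_eq_mul, mul_one, ← Nat.card_eq_fintype_card, ← Subgroup.card_mul_index K]
  push_cast
  field_simp

/-- The function induced from the principal character of a normal subgroup, off the subgroup. -/
theorem indFun_one_normal_of_not_mem (K : Subgroup E) [K.Normal] {e : E} (he : e ∉ K) :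
    indFun K (fun _ : K => (1 : ℂ)) e = 0 := by
  classical
  rw [indFun_apply]
  have h1 : ∀ x : E, extendByZero K (fun _ : K => (1 : ℂ)) (x⁻¹ * e * x) = 0 := by
    intro x
    have hx : x⁻¹ * e * x ∉ K := by
      intro h
      apply he
      have := Subgroup.Normal.conj_mem (inferInstance : K.Normal) _ h x
      simpa [mul_assoc] using this
    rw [extendByZero_of_not_mem K _ hx]
  rw [Finset.sum_congr rfl (fun x _ => h1 x), Finset.sum_const_zero, mul_zero]

theorem isCharacter_one_fun (H : Type*) [Group H] : IsCharacter H (fun _ : H => (1 : ℂ)) :=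
  isCharacter_of_isIrrCharacter (Cfsg.Agent.Lib.Helper80_CharBasic.isIrrCharacter_one H)

/-- If the elements of odd order form a normal subgroup of index `2 ^ m`, then `2 ^ n` times
their indicator function is a character for `n ≥ m`. -/
theorem isCharacter_odd_indicator (K : Subgroup E) [K.Normal] (m n : ℕ) (hmn : m ≤ n)
    (hm : K.index = 2 ^ m) (hK : ∀ e : E, e ∈ K ↔ Odd (orderOf e)) :
    IsCharacter E (fun e : E => if Odd (orderOf e) then (2 : ℂ) ^ n else 0) := by
  classical
  have h1 : (fun e : E => if Odd (orderOf e) then (2 : ℂ) ^ n else 0) =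
      (2 ^ (n - m)) • indFun K (fun _ : K => (1 : ℂ)) := by
    funext e
    rw [Pi.smul_apply]
    by_cases he : Odd (orderOf e)
    · rw [if_pos he, indFun_one_normal_of_mem K ((hK e).2 he), hm, nsmul_eq_mul]
      push_cast
      rw [← pow_add, Nat.sub_add_cancel hmn]
    · rw [if_neg he, indFun_one_normal_of_not_mem K (fun h => he ((hK e).1 h)), smul_zero]
  rw [h1]
  exact isCharacter_nsmul _ (isCharacter_indFun K (isCharacter_one_fun K))

end elem2

section main

variable {G : Type*} [Group G] [Fintype G]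

/-- `2 ^ n` times the indicator function of the elements of odd order, `2 ^ n` the `2`-part of
the group order. -/
noncomputable def theta (G : Type*) [Group G] : G → ℂ :=
  fun g => if Odd (orderOf g) then (2 : ℂ) ^ ((Nat.card G).factorization 2) else 0

theorem isClassFunction_theta : IsClassFunction G (theta G) := by
  intro g h
  have h1 : orderOf (h * g * h⁻¹) = orderOf g := (MulAut.conj h).orderOf_eq g
  unfold theta
  rw [h1]

theorem isGeneralizedCharacter_theta : IsGeneralizedCharacter G (theta G) := by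
  apply Cfsg.Agent.S0164.result (theta G) isClassFunction_theta
  intro E p hp hE
  obtain ⟨K, hKn, m, hm, hK⟩ := exists_odd_normal_of_elementary p hp hE
  haveI := hKn
  haveI : Fintype E := Fintype.ofFinite E
  have hmn : m ≤ (Nat.card G).factorization 2 := by
    have h1 : 2 ^ m ∣ Nat.card G := by
      rw [← hm]
      exact (Subgroup.index_dvd_card K).trans (Subgroup.card_subgroup_dvd_card E)
    exact (Nat.Prime.pow_dvd_iff_le_factorization Nat.prime_two Nat.card_pos.ne').1 h1
  have hchar := isCharacter_odd_indicator K m _ hmn hm hK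
  refine ⟨_, 0, hchar, isCharacter_zero, ?_⟩
  funext e
  simp [theta]

theorem classInner_theta_int (χ : IrrCharacter G) :
    ∃ z : ℤ, classInner (theta G) (χ : G → ℂ) = z := by
  obtain ⟨α, β, hα, hβ, h⟩ := isGeneralizedCharacter_theta (G := G)
  obtain ⟨a, ha⟩ := classInner_isCharacter_nat hα (isCharacter_of_isIrrCharacter χ.2)
  obtain ⟨b, hb⟩ := classInner_isCharacter_nat hβ (isCharacter_of_isIrrCharacter χ.2)
  refine ⟨(a : ℤ) - (b : ℤ), ?_⟩
  rw [h, classInner_sub_left, ha, hb]
  push_cast
  ring

theorem isIntegral_irr (χ : IrrCharacter G) (g : G) : IsIntegral ℤ ((χ : G → ℂ) g) := by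
  obtain ⟨n, ρ, -, hρ⟩ := χ.2
  rw [← hρ]
  exact Cfsg.Agent.Lib.Helper3_CharEigen.isIntegral_char ρ g

/-- The sum of a real valued irreducible character of odd degree over the elements of odd
order is not zero. -/
theorem sum_odd_ne_zero (χ : IrrCharacter G) (hreal : ∀ g : G, ((χ : G → ℂ) g).im = 0)
    (hodd : Odd (charDegree (χ : G → ℂ))) :
    ∑ g ∈ Finset.univ.filter (fun g : G => Odd (orderOf g)), (χ : G → ℂ) g ≠ 0 := by
  obtain ⟨d, -, hd1, hd2⟩ := Cfsg.Agent.Lib.Helper79_CharVals.irr_degree χ.2
  have hinv : ∀ g : G, (χ : G → ℂ) g⁻¹ = (χ : G → ℂ) g := by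
    intro g
    rw [Cfsg.Agent.Lib.Helper80_CharBasic.irr_inv]
    exact Complex.conj_eq_iff_im.2 (hreal g)
  obtain ⟨A, hA⟩ := sum_odd_eq_two_mul (χ : G → ℂ) hinv
  intro h0
  rw [hA, hd1] at h0
  have hint : IsIntegral ℤ (∑ g ∈ A, (χ : G → ℂ) g) :=
    IsIntegral.sum _ (fun g _ => isIntegral_irr χ g)
  have heven := even_of_add_two_mul_eq_zero d _ hint h0
  rw [hd2] at hodd
  exact (Nat.not_even_iff_odd.2 hodd) heven

/-- The inner product of `theta` with a real valued character. -/
theorem classInner_theta_real (χ : IrrCharacter G) (hreal : ∀ g : G, ((χ : G → ℂ) g).im = 0) :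
    classInner (theta G) (χ : G → ℂ) = (Nat.card G : ℂ)⁻¹ *
      ((2 : ℂ) ^ ((Nat.card G).factorization 2) *
        ∑ g ∈ Finset.univ.filter (fun g : G => Odd (orderOf g)), (χ : G → ℂ) g) := by
  unfold classInner
  congr 1
  rw [Finset.mul_sum, Finset.sum_filter]
  refine Finset.sum_congr rfl (fun g _ => ?_)
  rw [Complex.conj_eq_iff_im.2 (hreal g)]
  unfold theta
  split_ifs <;> simp

theorem classInner_theta_ne_zero (χ : IrrCharacter G)
    (hreal : ∀ g : G, ((χ : G → ℂ) g).im = 0) (hodd : Odd (charDegree (χ : G → ℂ))) :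
    classInner (theta G) (χ : G → ℂ) ≠ 0 := by
  rw [classInner_theta_real χ hreal]
  have hG : (Nat.card G : ℂ) ≠ 0 := by exact_mod_cast Nat.card_pos.ne'
  exact mul_ne_zero (inv_ne_zero hG)
    (mul_ne_zero (pow_ne_zero _ two_ne_zero) (sum_odd_ne_zero χ hreal hodd))

/-- The norm of `theta` is at most `2 ^ (2 n)`. -/
theorem classInner_theta_theta_le :
    ∃ r : ℝ, classInner (theta G) (theta G) = (r : ℂ) ∧
      r ≤ (2 : ℝ) ^ (2 * (Nat.card G).factorization 2) := by
  classical
  set n := (Nat.card G).factorization 2 with hn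
  set c := (Finset.univ.filter (fun g : G => Odd (orderOf g))).card with hc
  have hG : (0 : ℝ) < (Nat.card G : ℝ) := by exact_mod_cast Nat.card_pos
  refine ⟨(Nat.card G : ℝ)⁻¹ * ((2 : ℝ) ^ (2 * n) * c), ?_, ?_⟩
  · unfold classInner
    push_cast
    congr 1
    have h1 : ∀ g : G, theta G g * conj (theta G g) =
        if Odd (orderOf g) then (2 : ℂ) ^ (2 * n) else 0 := by
      intro g
      unfold theta
      split_ifs
      · rw [map_pow, Complex.conj_ofNat, ← pow_add, two_mul]
      · simp
    rw [Finset.sum_congr rfl (fun g _ => h1 g), ← Finset.sum_filter, Finset.sum_const,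
      nsmul_eq_mul, mul_comm]
  · have hcle : (c : ℝ) ≤ (Nat.card G : ℝ) := by
      have : c ≤ Nat.card G := by
        rw [Nat.card_eq_fintype_card]
        exact Finset.card_le_univ _
      exact_mod_cast this
    rw [inv_mul_le_iff₀ hG]
    have h2 : (0 : ℝ) ≤ (2 : ℝ) ^ (2 * n) := by positivity
    nlinarith

end main


/-- Let G be a finite group of order 2^n·g₀ with g₀ odd, and M a maximal ideal of the algebraic integers containing 2. Every real-valued irreducible character of G of odd degree lies in the principal 2-block; consequently G has at most 2^(2n) real-valued irreducible characters of odd degree. -/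
theorem result {G : Type*} [Group G] [Finite G] (M : Ideal Cfsg.AlgInt) (hM : Cfsg.IsPModular 2 M) : (∀ χ : Cfsg.IrrCharacter G, (∀ g : G, ((χ : G → ℂ) g).im = 0) → Odd (Cfsg.charDegree (χ : G → ℂ)) → χ ∈ Cfsg.principalBlock M G) ∧ Nat.card {χ : Cfsg.IrrCharacter G // (∀ g : G, ((χ : G → ℂ) g).im = 0) ∧ Odd (Cfsg.charDegree (χ : G → ℂ))} ≤ 2 ^ (2 * (Nat.card G).factorization 2) := by
  classical
  haveI : Fintype G := Fintype.ofFinite G
  haveI : Fact (Nat.Prime 2) := ⟨Nat.prime_two⟩
  constructor
  · intro χ hreal hodd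
    by_contra hnot
    have h1 : ¬ SameBlock M (χ : G → ℂ)
        ((Cfsg.Agent.Lib.Helper80_CharBasic.oneIrr G : IrrCharacter G) : G → ℂ) := by
      intro h
      exact hnot (Cfsg.Agent.Lib.Helper78_LocalRing.sameBlock_symm h)
    have h2 := Cfsg.Agent.S0952.result 2 M hM χ (Cfsg.Agent.Lib.Helper80_CharBasic.oneIrr G) h1
    apply sum_odd_ne_zero χ hreal hodd
    rw [← h2, finsum_mem_def, finsum_eq_sum_of_fintype, Finset.sum_filter]
    refine Finset.sum_congr rfl (fun x _ => ?_)
    by_cases hx : Odd (orderOf x)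
    · rw [if_pos hx, Set.indicator_of_mem]
      · simp [Cfsg.Agent.Lib.Helper80_CharBasic.oneIrr]
      · change ¬ 2 ∣ orderOf x
        rw [← even_iff_two_dvd, Nat.not_even_iff_odd]
        exact hx
    · rw [if_neg hx, Set.indicator_of_notMem]
      intro hmem
      apply hx
      have : ¬ 2 ∣ orderOf x := hmem
      rw [← even_iff_two_dvd, Nat.not_even_iff_odd] at this
      exact this
  · -- the count
    have hz : ∀ χ : IrrCharacter G, ∃ z : ℤ, classInner (theta G) (χ : G → ℂ) = z :=
      fun χ => classInner_theta_int χ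
    choose z hz using hz
    obtain ⟨r, hr, hrle⟩ := classInner_theta_theta_le (G := G)
    have hpars := classInner_self_eq_sum (isClassFunction_theta (G := G))
    have h1 : ((∑ χ : IrrCharacter G, (z χ) ^ 2 : ℤ) : ℂ) = (r : ℂ) := by
      rw [← hr, hpars]
      push_cast
      refine Finset.sum_congr rfl (fun χ _ => ?_)
      rw [hz χ, (Complex.conj_eq_iff_re.mpr rfl : conj ((z χ : ℤ) : ℂ) = ((z χ : ℤ) : ℂ))]
      ring
    have h2 : ((∑ χ : IrrCharacter G, (z χ) ^ 2 : ℤ) : ℝ) = r := by exact_mod_cast h1
    have h3 : ((∑ χ : IrrCharacter G, (z χ) ^ 2 : ℤ) : ℝ) ≤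
        (((2 : ℤ) ^ (2 * (Nat.card G).factorization 2) : ℤ) : ℝ) := by
      rw [h2]
      push_cast
      exact hrle
    have h4 : (∑ χ : IrrCharacter G, (z χ) ^ 2) ≤ (2 : ℤ) ^ (2 * (Nat.card G).factorization 2) := by
      exact_mod_cast h3
    set P : IrrCharacter G → Prop :=
      fun χ => (∀ g : G, ((χ : G → ℂ) g).im = 0) ∧ Odd (charDegree (χ : G → ℂ)) with hP
    have h5 : ((Finset.univ.filter P).card : ℤ) ≤ ∑ χ : IrrCharacter G, (z χ) ^ 2 := by
      calc ((Finset.univ.filter P).card : ℤ) = ∑ χ ∈ Finset.univ.filter P, (1 : ℤ) := by simp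
        _ ≤ ∑ χ ∈ Finset.univ.filter P, (z χ) ^ 2 := by
            refine Finset.sum_le_sum (fun χ hχ => ?_)
            have hPχ : P χ := (Finset.mem_filter.1 hχ).2
            have hne : z χ ≠ 0 := by
              intro h0
              have := classInner_theta_ne_zero χ hPχ.1 hPχ.2
              rw [hz χ, h0] at this
              exact this (by simp)
            rw [one_le_sq_iff_one_le_abs]
            exact Int.one_le_abs hne
        _ ≤ ∑ χ : IrrCharacter G, (z χ) ^ 2 :=
            Finset.sum_le_sum_of_subset_of_nonneg (Finset.filter_subset _ _)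
              (fun χ _ _ => sq_nonneg _)
    have h6 : Nat.card {χ : IrrCharacter G // P χ} = (Finset.univ.filter P).card := by
      rw [Nat.card_eq_fintype_card, Fintype.card_subtype]
    rw [h6]
    have h7 : ((Finset.univ.filter P).card : ℤ) ≤
        ((2 ^ (2 * (Nat.card G).factorization 2) : ℕ) : ℤ) := by
      push_cast
      exact h5.trans h4
    exact_mod_cast h7

end Cfsg.Agent.S4483
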