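import Cfsg.Statements.S4484
import Cfsg.Agent.Lib.Helper15_B6Main
import Cfsg.Agent.Lib.Helper65_B6_BLOCK
import Cfsg.Agent.Lib.Helper23_ZStarB
import Cfsg.Agent.Lib.Helper77_BlockBasics

set_option autoImplicit false

namespace Cfsg.Agent.S4484

open Cfsg

/-- A refinement of Burnside's result on simple groups of order divisible by only two primes. Let G be a finite simple group of order p^a · q^b · g₀ with p, q distinct primes, a > 0, g₀ coprime to p and q, and the order of G different from p. Then g₀ − 1 > log p / log 6, that is 6^(g₀ − 1) > p. -/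
theorem result {G : Type*} [Group G] [Finite G] [IsSimpleGroup G] (p q a b g₀ : ℕ) (hp : p.Prime) (hq : q.Prime) (hpq : p ≠ q) (ha : 0 < a) (hg : Nat.card G = p ^ a * q ^ b * g₀) (hcop : ¬ p ∣ g₀) (hcoq : ¬ q ∣ g₀) (hne : Nat.card G ≠ p) : p < 6 ^ (g₀ - 1) := by
  classical
  by_contra hcon
  push Not at hcon
  have := Fintype.ofFinite G
  haveI : Fact p.Prime := ⟨hp⟩
  have hpG : p ∣ Nat.card G := by
    rw [hg]
    exact dvd_mul_of_dvd_left (dvd_mul_of_dvd_left (dvd_pow_self p ha.ne') _) _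
  have hna := Cfsg.Agent.Lib.Helper15_B6Group.not_comm_of_simple hp hpG hne
  obtain ⟨M, hM⟩ := Cfsg.Agent.Lib.Helper23_ZStarB.exists_pModular p hp
  obtain ⟨χ, hχB, hχ1, hχq⟩ := Cfsg.Agent.Lib.Helper65_B6_BLOCK.exists_char (G := G) hM hq hpG
  obtain ⟨x, hx, hK⟩ := Cfsg.Agent.Lib.Helper15_B6Group.exists_central_order_p (G := G) p hpG
  obtain ⟨n', hn'pos, hn'1, hn'deg, hn'dvd⟩ := Cfsg.Agent.Lib.Helper77_BlockBasics.exists_degree χ
  obtain ⟨n, ρ, hirr, hρ⟩ := χ.2
  have hnn' : n' = n := by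
    have h1 : (χ : G → ℂ) 1 = (n : ℂ) := by
      rw [← hρ, Representation.char_one]; simp
    rw [hn'1] at h1
    exact_mod_cast h1
  subst hnn'
  have hqn : ¬ q ∣ n' := by rw [← hn'deg]; exact hχq
  have hg₀pos : 0 < g₀ := by
    rcases Nat.eq_zero_or_pos g₀ with h0 | h0
    · exfalso
      rw [h0, mul_zero] at hg
      exact (Nat.card_pos (α := G)).ne' hg
    · exact h0
  -- the `p'`-part of the degree divides `g₀`
  set h : ℕ := n'.factorization p with hh
  set m : ℕ := n' / p ^ h with hm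
  have hn : n' = p ^ h * m := (Nat.ordProj_mul_ordCompl_eq_self n' p).symm
  have hmn : m ∣ n' := Dvd.intro_left _ hn.symm
  have hmp : Nat.Coprime m p := (Nat.coprime_ordCompl hp hn'pos.ne').symm
  have hmq : Nat.Coprime m q := by
    rw [Nat.coprime_comm, hq.coprime_iff_not_dvd]
    intro hd
    exact hqn (dvd_trans hd hmn)
  have hmg₀ : m ∣ g₀ := by
    have h1 : m ∣ p ^ a * q ^ b * g₀ := by rw [← hg]; exact dvd_trans hmn hn'dvd
    have h2 : Nat.Coprime m (p ^ a * q ^ b) :=
      Nat.Coprime.mul_right (hmp.pow_right a) (hmq.pow_right b)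
    exact h2.dvd_of_dvd_mul_left h1
  have hmle : m ≤ g₀ := Nat.le_of_dvd hg₀pos hmg₀
  have hpm : 6 ^ (m - 1) < p := by
    have h1 : 6 ^ (m - 1) ≤ 6 ^ (g₀ - 1) := Nat.pow_le_pow_right (by norm_num) (by omega)
    have h2 : 6 ^ (m - 1) ≤ p := le_trans h1 hcon
    rcases lt_or_eq_of_le h2 with h3 | h3
    · exact h3
    · exfalso
      rcases Nat.eq_zero_or_pos (m - 1) with h4 | h4
      · rw [h4, pow_zero] at h3
        exact hp.one_lt.ne h3
      · have h5 : 6 ∣ p := by
          rw [← h3]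
          exact dvd_pow_self 6 h4.ne'
        have h6 : 2 ∣ p := dvd_trans (by norm_num) h5
        have h7 : 3 ∣ p := dvd_trans (by norm_num) h5
        have h8 := (Nat.prime_dvd_prime_iff_eq Nat.prime_two hp).mp h6
        have h9 := (Nat.prime_dvd_prime_iff_eq Nat.prime_three hp).mp h7
        omega
  have hnt : ρ.character ≠ fun _ => 1 := by rw [hρ]; exact hχ1
  have hB : SameBlock M (fun _ : G => (1 : ℂ)) ρ.character := by rw [hρ]; exact hχB
  haveI := hirr
  exact Cfsg.Agent.Lib.Helper15_B6Main.core ρ hna hp hM x hx hK hnt hB h m hn hpm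

end Cfsg.Agent.S4484
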