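import Cfsg.Statements.S4488
import Cfsg.Agent.Lib.Helper76_SchurBound

set_option autoImplicit false
open Cfsg

namespace Cfsg.Agent.S4488

open Cfsg.Agent.Lib.Helper76_SchurBound

/-- Let the finite group G have a faithful p-rational character χ of degree n (all values of χ lie in the field generated over ℚ by a root of unity of order prime to p), and let p^a be the order of a Sylow p-subgroup of G. Then a ≤ Σ_{i ≥ 0} ⌊n / ((p − 1)·p^i)⌋ (a finite sum; the terms vanish once (p − 1)p^i > n). -/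
theorem result {G : Type*} [Group G] [Finite G] (p : ℕ) (hp : p.Prime) (χ : G → ℂ) (hχ : Cfsg.IsCharacter G χ) (hfaith : ∀ g : G, χ g = χ 1 → g = 1) (hrat : (∃ r : ℕ, 0 < r ∧ ¬ p ∣ r ∧ ∀ g : G, χ g ∈ IntermediateField.adjoin ℚ ({Complex.exp (2 * Real.pi * Complex.I / r)} : Set ℂ))) (n : ℕ) (hn : Cfsg.charDegree χ = n) : (Nat.card G).factorization p ≤ ∑ i ∈ Finset.range (n + 1), n / ((p - 1) * p ^ i) := by
  obtain ⟨r, hr, hpr, hmem⟩ := hrat
  obtain ⟨n', ρ, rfl⟩ := hχ
  have hfin : Module.finrank ℂ (Fin n' → ℂ) = n' := Module.finrank_fin_fun ℂ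
  have h1 : ρ.character 1 = n' := by rw [Representation.char_one, hfin]
  have hn' : n' = n := by
    rw [← hn]
    unfold charDegree
    rw [h1]
    simp
  subst hn'
  have : Fact p.Prime := ⟨hp⟩
  obtain ⟨P⟩ : Nonempty (Sylow p G) := inferInstance
  have hcard : Nat.card (P : Subgroup G) = p ^ (Nat.card G).factorization p :=
    P.card_eq_multiplicity
  have hord : ∀ x ∈ (P : Subgroup G), ∃ k, orderOf x = p ^ k := by
    intro x hx
    have h2 : orderOf x ∣ p ^ (Nat.card G).factorization p := by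
      rw [← hcard, ← Subgroup.orderOf_mk x hx]
      exact orderOf_dvd_natCard _
    obtain ⟨k, -, hk⟩ := (Nat.dvd_prime_pow hp).mp h2
    exact ⟨k, hk⟩
  have hb := schur_bound p hp ρ (P : Subgroup G) _ hcard
    (fun x _ hx => hfaith x (by rw [hx, h1]))
    (fun x hx m hm => by
      obtain ⟨k, hk⟩ := hord x hx
      exact char_pow_eq_of_pRational ρ hp x k hk r hr hpr (hmem x) m hm)
  refine hb.trans (le_of_eq ?_)
  have hlog : Nat.log p (n' / (p - 1)) < n' + 1 :=
    Nat.lt_succ_of_le ((Nat.log_le_self _ _).trans (Nat.div_le_self _ _))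
  rw [Nat.factorization_factorial hp hlog, Finset.range_eq_Ico,
    Finset.sum_eq_sum_Ico_succ_bot (Nat.succ_pos n')]
  congr 1
  · simp
  · refine Finset.sum_congr rfl (fun i _ => ?_)
    rw [Nat.div_div_eq_div_mul]

end Cfsg.Agent.S4488
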