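import Cfsg.Statements.S4489
import Cfsg.Agent.Lib.Helper76_PGroupInd

set_option autoImplicit false
open Cfsg

namespace Cfsg.Agent.S4489

open Cfsg.Agent.Lib Cfsg.Agent.Lib.Helper76_FieldDeg Cfsg.Agent.Lib.Helper76_GalConj
  Cfsg.Agent.Lib.Helper76_PGroupInd Cfsg.Agent.Lib.Helper75_Induced
  Cfsg.Agent.Lib.Helper3_CharBridge

open scoped commutatorElement

universe u

/-- The degree of the field of values. -/
noncomputable abbrev dq {Q : Type*} (ψ : Q → ℂ) : ℕ :=
  Module.finrank ℚ (IntermediateField.adjoin ℚ (Set.range ψ))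

theorem arith_A {p a b g t : ℕ} (hp : 2 ≤ p) (hg : 1 ≤ g) (ha : 1 ≤ a) (h1 : a - 1 ≤ p * b)
    (h2 : (p - 1) * b ≤ (g - 1) + (p - 1) * (t + 1) * g) :
    (p - 1) * a ≤ (p * g - 1) + (p - 1) * (t + 1) * (p * g) := by
  have hp1 : 1 ≤ p := by omega
  have hpg : 1 ≤ p * g := Nat.one_le_iff_ne_zero.mpr (Nat.mul_ne_zero (by omega) (by omega))
  zify [hp1, hpg, hg, ha] at h1 h2 ⊢
  have e1 : (0 : ℤ) ≤ (p : ℤ) - 1 := by
    have : (1 : ℤ) ≤ p := by exact_mod_cast hp1
    linarith
  have e2 : (0 : ℤ) ≤ (p : ℤ) := by positivity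
  nlinarith [mul_le_mul_of_nonneg_left h1 e1, mul_le_mul_of_nonneg_left h2 e2]

theorem arith_B {p a g t : ℕ} (hp : 2 ≤ p) (hg : 1 ≤ g) (ha : 1 ≤ a)
    (h2 : (p - 1) * (a - 1) ≤ (g - 1) + (p - 1) * (t + 1 + 1) * g) :
    (p - 1) * a ≤ (p * g - 1) + (p - 1) * (t + 1) * (p * g) := by
  have hp1 : 1 ≤ p := by omega
  have hpg : 1 ≤ p * g := Nat.one_le_iff_ne_zero.mpr (Nat.mul_ne_zero (by omega) (by omega))
  zify [hp1, hpg, hg, ha] at h2 ⊢
  have e1 : (0 : ℤ) ≤ (p : ℤ) - 1 := by
    have : (1 : ℤ) ≤ p := by exact_mod_cast hp1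
    linarith
  have e2 : (0 : ℤ) ≤ (g : ℤ) - 1 := by
    have : (1 : ℤ) ≤ g := by exact_mod_cast hg
    linarith
  have e3 : (0 : ℤ) ≤ (g : ℤ) := by positivity
  have e4 : (0 : ℤ) ≤ ((t : ℤ) + 1) * ((p : ℤ) - 1) - 1 := by
    have h5 : (2 : ℤ) ≤ p := by exact_mod_cast hp
    have h6 : (0 : ℤ) ≤ t := by positivity
    nlinarith
  nlinarith [mul_nonneg e1 e2, mul_nonneg (mul_nonneg e1 e3) e4]

theorem main_aux (p : ℕ) [hp : Fact p.Prime] : ∀ (a : ℕ) (P : Type u) [Group P] [Finite P],
    0 < a → Nat.card P = p ^ a → ∀ (χ : IrrCharacter P),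
    (∀ g : P, (χ : P → ℂ) g = (χ : P → ℂ) 1 → g = 1) → ∀ (f t : ℕ),
    charDegree (χ : P → ℂ) = f → dq (χ : P → ℂ) ≤ (p - 1) * p ^ t →
    (p - 1) * a ≤ (f - 1) + (p - 1) * (t + 1) * f := by
  intro a
  induction a using Nat.strong_induction_on with
  | _ a ih =>
  intro P _ _ ha hP χ hfaith f t hf hfield
  classical
  have hpp := hp.out
  have : Fintype P := Fintype.ofFinite P
  have hPg : IsPGroup p P := IsPGroup.of_card hP
  have hN0 : NeZero (p ^ a) := ⟨pow_ne_zero a hpp.ne_zero⟩
  have hNP : Nat.card P ∣ p ^ a := by rw [hP]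
  have hχ1 : (χ : P → ℂ) 1 = (f : ℂ) := by rw [irr_one_eq_charDegree, hf]
  have hfpos : 0 < f := hf ▸ charDegree_pos χ
  have hbridge := finrank_mul_card_powStab (p ^ a) hNP (isCharacter_of_isIrrCharacter χ.2)
  have htot : Nat.totient (p ^ a) = p ^ (a - 1) * (p - 1) := Nat.totient_prime_pow hpp ha
  have hp1pos : 0 < p - 1 := Nat.sub_pos_of_lt hpp.one_lt
  by_cases hf1 : f = 1
  · -- linear case: `P` is cyclic
    subst hf1
    have hlin : Helper75_LinChar.IsLin P (χ : P → ℂ) :=
      ⟨isCharacter_of_isIrrCharacter χ.2, by rw [hχ1]; simp⟩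
    have hker : kerC χ = ⊥ := by
      rw [eq_bot_iff]
      intro g hg
      exact Subgroup.mem_bot.mpr (hfaith g ((mem_kerC χ g).mp hg))
    have hcomm : ∀ x y : P, x * y = y * x := by
      intro x y
      have h1 : ⁅x, y⁆ ∈ commutator P := Subgroup.commutator_mem_commutator
        (Subgroup.mem_top x) (Subgroup.mem_top y)
      have h2 := commutator_le_kerC_of_linear χ hf h1
      rw [hker, Subgroup.mem_bot] at h2
      exact commutatorElement_eq_one_iff_mul_comm.mp h2
    have hcyc : IsCyclic P := by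
      have h1 := isCyclic_center_of_faithful χ hker
      have h2 : Subgroup.center P = ⊤ := by
        ext x
        simp only [Subgroup.mem_center_iff, Subgroup.mem_top, iff_true]
        intro y
        exact hcomm y x
      rw [h2] at h1
      exact (Subgroup.topEquiv : (⊤ : Subgroup P) ≃* P).isCyclic.mp h1
    obtain ⟨g₀, hg₀⟩ := hcyc.exists_generator
    have hord : orderOf g₀ = p ^ a := by
      rw [orderOf_eq_card_of_forall_mem_zpowers hg₀, hP]
    have hstab : ∀ u ∈ powStab (p ^ a) (χ : P → ℂ), u = 1 := by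
      intro u hu
      have h1 := hu g₀
      rw [hlin.map_pow] at h1
      have h2 : (χ : P → ℂ) (g₀ ^ (u : ZMod (p ^ a)).val * g₀⁻¹) = (χ : P → ℂ) 1 := by
        rw [hlin.map_mul, hlin.map_pow, h1, hlin.map_inv, mul_inv_cancel₀ (hlin.ne_zero g₀),
          hlin.2]
      have h3 := hfaith _ h2
      have h4 : g₀ ^ (u : ZMod (p ^ a)).val = g₀ ^ 1 := by
        rw [pow_one]
        exact mul_inv_eq_one.mp h3
      have h5 : (u : ZMod (p ^ a)).val ≡ 1 [MOD p ^ a] := by
        have h5' := pow_eq_pow_iff_modEq.mp h4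
        rw [hord] at h5'
        exact h5'
      have h6 : ((u : ZMod (p ^ a)).val : ZMod (p ^ a)) = ((1 : ℕ) : ZMod (p ^ a)) :=
        (ZMod.natCast_eq_natCast_iff _ _ _).mpr h5
      rw [ZMod.natCast_zmod_val, Nat.cast_one] at h6
      exact Units.ext h6
    have hcard1 : Nat.card (powStab (p ^ a) (χ : P → ℂ)) ≤ 1 := by
      rw [Nat.card_coe_set_eq]
      have hsub : powStab (p ^ a) (χ : P → ℂ) ⊆ {1} := by
        intro u hu
        exact Set.mem_singleton_iff.mpr (hstab u hu)
      exact (Set.ncard_le_ncard hsub (Set.finite_singleton _)).trans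
        (by rw [Set.ncard_singleton])
    have hle : p ^ (a - 1) * (p - 1) ≤ dq (χ : P → ℂ) := by
      rw [← htot, ← hbridge]
      calc dq (χ : P → ℂ) * Nat.card (powStab (p ^ a) (χ : P → ℂ))
          ≤ dq (χ : P → ℂ) * 1 := Nat.mul_le_mul_left _ hcard1
        _ = dq (χ : P → ℂ) := mul_one _
    have h7 : p ^ (a - 1) * (p - 1) ≤ (p - 1) * p ^ t := hle.trans hfield
    have h8 : p ^ (a - 1) ≤ p ^ t := by
      rw [mul_comm] at h7
      exact Nat.le_of_mul_le_mul_left h7 hp1pos
    have h9 : a - 1 ≤ t := (Nat.pow_le_pow_iff_right hpp.one_lt).mp h8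
    have h10 : a ≤ t + 1 := by omega
    calc (p - 1) * a ≤ (p - 1) * (t + 1) := Nat.mul_le_mul_left _ h10
      _ = (1 - 1) + (p - 1) * (t + 1) * 1 := by simp
  · -- nonlinear case
    have hdeg1 : (χ : P → ℂ) 1 ≠ 1 := by
      rw [hχ1]
      exact_mod_cast hf1
    obtain ⟨M, hMn, θ, hMidx, hθirr, hχθ⟩ := exists_max_ind hPg χ hdeg1
    have : Fintype M := Fintype.ofFinite M
    have hχirr : IsIrrCharacter P (indFun M θ) := hχθ ▸ χ.2
    have hfaith' : ∀ g : P, indFun M θ g = indFun M θ 1 → g = 1 := by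
      rw [← hχθ]
      exact hfaith
    have hMcard : Nat.card M = p ^ (a - 1) := by
      have h1 := Subgroup.card_mul_index M
      rw [hMidx, hP] at h1
      have h2 : p ^ a = p ^ (a - 1) * p := by rw [← pow_succ, Nat.sub_add_cancel ha]
      rw [h2] at h1
      exact Nat.eq_of_mul_eq_mul_right hpp.pos h1
    obtain ⟨θI, hθI⟩ : ∃ θI : IrrCharacter M, (θI : M → ℂ) = θ := ⟨⟨θ, hθirr⟩, rfl⟩
    obtain ⟨g, hg⟩ : ∃ g : ℕ, charDegree θ = g := ⟨_, rfl⟩
    have hθ1 : θ 1 = (g : ℂ) := by rw [← hθI, irr_one_eq_charDegree θI, hθI, hg]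
    have hgpos : 0 < g := by rw [← hg, ← hθI]; exact charDegree_pos θI
    have hfg : f = p * g := by
      have h1 : (f : ℂ) = (p : ℂ) * (g : ℂ) := by
        rw [← hχ1, hχθ, indFun_one, hθ1, hMcard, hP]
        have h2 : p ^ a = p ^ (a - 1) * p := by rw [← pow_succ, Nat.sub_add_cancel ha]
        rw [h2]
        push_cast
        have h3 : ((p : ℂ) ^ (a - 1)) ≠ 0 := pow_ne_zero _ (Nat.cast_ne_zero.mpr hpp.ne_zero)
        field_simp
      exact_mod_cast h1
    -- kernel and quotient
    obtain ⟨θbar, hθbar⟩ := exists_quot_char (kerC θI) θI le_rfl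
    obtain ⟨b, hb, hKidx⟩ : ∃ b ≤ a - 1, (kerC θI).index = p ^ b :=
      (Nat.dvd_prime_pow hpp).mp (hMcard ▸ Subgroup.index_dvd_card (kerC θI))
    have hMK : Nat.card (M ⧸ kerC θI) = p ^ b := by
      rw [← Subgroup.index_eq_card]
      exact hKidx
    have hbarfaith : ∀ q : M ⧸ kerC θI,
        (θbar : M ⧸ kerC θI → ℂ) q = (θbar : M ⧸ kerC θI → ℂ) 1 → q = 1 := by
      intro q hq
      obtain ⟨m, rfl⟩ := QuotientGroup.mk_surjective q
      have h1 : (θI : M → ℂ) m = (θI : M → ℂ) 1 := by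
        rw [← hθbar]
        simp only [infl_apply]
        rw [hq, QuotientGroup.mk_one]
      exact (QuotientGroup.eq_one_iff m).mpr ((mem_kerC θI m).mpr h1)
    have hbardeg : charDegree (θbar : M ⧸ kerC θI → ℂ) = g := by
      rw [← charDegree_infl (kerC θI) θbar, hθbar, hθI, hg]
    have hbarrange : Set.range (θbar : M ⧸ kerC θI → ℂ) = Set.range θ := by
      have h1 : θ = (θbar : M ⧸ kerC θI → ℂ) ∘ (QuotientGroup.mk : M → M ⧸ kerC θI) := by
        funext m
        have h2 : (infl (kerC θI) θbar : M → ℂ) m = (θI : M → ℂ) m := by rw [hθbar]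
        rw [hθI] at h2
        exact h2.symm
      rw [h1, Function.Surjective.range_comp QuotientGroup.mk_surjective]
    have hbardq : dq (θbar : M ⧸ kerC θI → ℂ) = dq θ := by
      unfold dq
      rw [hbarrange]
    -- bridging on `M`
    have hNM : Nat.card M ∣ p ^ a := (Subgroup.card_subgroup_dvd_card M).trans hNP
    have hbridgeθ := finrank_mul_card_powStab (p ^ a) hNM (isCharacter_of_isIrrCharacter hθirr)
    rw [hχθ] at hbridge hfield
    have hsub : powStab (p ^ a) θ ⊆ powStab (p ^ a) (indFun M θ) := by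
      intro u hu g
      exact indFun_pow_eq M θ _ (coprime_val hNP u) hu g
    have htotpos : 0 < Nat.totient (p ^ a) := Nat.totient_pos.mpr (pow_pos hpp.pos a)
    have hSθpos : 0 < Nat.card (powStab (p ^ a) θ) := by
      rcases Nat.eq_zero_or_pos (Nat.card (powStab (p ^ a) θ)) with h | h
      · rw [h, mul_zero] at hbridgeθ
        omega
      · exact h
    -- the case distinction
    have hkey : (a - 1 ≤ p * b ∧ dq θ ≤ (p - 1) * p ^ t) ∨
        (a - 1 = b ∧ dq θ ≤ (p - 1) * p ^ (t + 1)) := by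
      by_cases hAB : powStab (p ^ a) (indFun M θ) ⊆ powStab (p ^ a) θ
      · left
        have heq : powStab (p ^ a) (indFun M θ) = powStab (p ^ a) θ := Set.Subset.antisymm hAB hsub
        constructor
        · have h1 := card_le_index_pow M hMn hθirr hfaith'
          have h2 : kerC ⟨θ, hθirr⟩ = kerC θI := by
            congr 1
            exact Subtype.ext hθI.symm
          rw [h2, hKidx, hMidx, hMcard, ← pow_mul] at h1
          have h3 := (Nat.pow_le_pow_iff_right hpp.one_lt).mp h1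
          rw [mul_comm]
          exact h3
        · have h1 : dq θ * Nat.card (powStab (p ^ a) θ) =
              dq (indFun M θ) * Nat.card (powStab (p ^ a) θ) := by
            rw [hbridgeθ, ← heq, hbridge]
          rw [Nat.mul_right_cancel hSθpos h1]
          exact hfield
      · right
        rw [Set.not_subset] at hAB
        obtain ⟨u, hu, hunot⟩ := hAB
        have hne : ∃ m : M, θ (m ^ (u : ZMod (p ^ a)).val) ≠ θ m := by
          by_contra hcon
          push Not at hcon
          exact hunot hcon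
        have hkt := ker_trivial_of_moved M hMn hMidx hθirr hχirr hfaith'
          (u : ZMod (p ^ a)).val (coprime_val hNP u) hu hne
        constructor
        · -- `K = ⊥`
          have h1 : kerC θI = ⊥ := by
            rw [eq_bot_iff]
            intro m hm
            have h2 := (mem_kerC θI m).mp hm
            rw [hθI] at h2
            exact Subgroup.mem_bot.mpr (hkt m h2)
          rw [h1, Subgroup.index_bot, hMcard] at hKidx
          exact Nat.pow_right_injective hpp.two_le hKidx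
        · have h1 := card_powStab_le (p ^ a) hNP M hMn hθirr hχirr
          rw [hMidx] at h1
          have h2 : dq θ * Nat.card (powStab (p ^ a) θ) ≤
              (p * dq (indFun M θ)) * Nat.card (powStab (p ^ a) θ) := by
            calc dq θ * Nat.card (powStab (p ^ a) θ) = Nat.totient (p ^ a) := hbridgeθ
              _ = dq (indFun M θ) * Nat.card (powStab (p ^ a) (indFun M θ)) := hbridge.symm
              _ ≤ dq (indFun M θ) * (p * Nat.card (powStab (p ^ a) θ)) :=
                  Nat.mul_le_mul_left _ h1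
              _ = (p * dq (indFun M θ)) * Nat.card (powStab (p ^ a) θ) := by ring
          have h3 : dq θ ≤ p * dq (indFun M θ) := Nat.le_of_mul_le_mul_right h2 hSθpos
          calc dq θ ≤ p * dq (indFun M θ) := h3
            _ ≤ p * ((p - 1) * p ^ t) := Nat.mul_le_mul_left _ hfield
            _ = (p - 1) * p ^ (t + 1) := by rw [pow_succ]; ring
    -- `b = 0` is impossible
    have hb0 : 0 < b := by
      rcases Nat.eq_zero_or_pos b with hb0 | hb0
      · exfalso
        have ha1 : a = 1 := by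
          rcases hkey with ⟨h1, -⟩ | ⟨h1, -⟩
          · rw [hb0, mul_zero] at h1
            omega
          · omega
        rw [ha1, pow_one] at hP
        have hcyc : IsCyclic P := isCyclic_of_prime_card hP
        have hcomm : ∀ x y : P, x * y = y * x := isMulCommutative_iff.mp hcyc.isMulCommutative
        exact hf1 (hf ▸ charDegree_eq_one_of_comm hcomm χ)
      · exact hb0
    have hba : b < a := by omega
    subst hfg
    rcases hkey with ⟨h1, h2⟩ | ⟨h1, h2⟩
    · have hIH := ih b hba (M ⧸ kerC θI) hb0 hMK θbar hbarfaith g t hbardeg (hbardq ▸ h2)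
      exact arith_A hpp.two_le hgpos ha h1 hIH
    · have hIH := ih b hba (M ⧸ kerC θI) hb0 hMK θbar hbarfaith g (t + 1) hbardeg (hbardq ▸ h2)
      rw [← h1] at hIH
      exact arith_B hpp.two_le hgpos ha hIH

/-- Let P be a finite p-group of order p^a with a > 0, and χ a faithful irreducible character of P of degree f whose field of values ℚ(χ) has degree (p − 1)·p^t over ℚ. Then a ≤ (f − 1)/(p − 1) + (t + 1)·f; in integer form, (p − 1)·a ≤ (f − 1) + (p − 1)(t + 1)·f. -/
theorem result {P : Type*} [Group P] [Finite P] (p a : ℕ) (hp : p.Prime) (ha : 0 < a) (hP : Nat.card P = p ^ a) (χ : Cfsg.IrrCharacter P) (hfaith : ∀ g : P, (χ : P → ℂ) g = (χ : P → ℂ) 1 → g = 1) (f t : ℕ) (hf : Cfsg.charDegree (χ : P → ℂ) = f) (hfield : Module.finrank ℚ (IntermediateField.adjoin ℚ (Set.range (χ : P → ℂ))) = (p - 1) * p ^ t) : (p - 1) * a ≤ (f - 1) + (p - 1) * (t + 1) * f := by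
  have : Fact p.Prime := ⟨hp⟩
  exact main_aux p a P ha hP χ hfaith f t hf (le_of_eq hfield)

end Cfsg.Agent.S4489
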