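import Mathlib
import Cfsg.Statements.S4517
import Cfsg.Agent.S0952
import Cfsg.Agent.S4483
import Cfsg.Agent.Lib.Helper78_AugNilp
import Cfsg.Agent.Lib.Helper78_LocalRing
import Cfsg.Agent.Lib.Helper77_BlockBasics
import Cfsg.Agent.Lib.Helper80_CharBasic
-- import your own Cfsg.Agent.* helpers here

set_option autoImplicit false
set_option linter.style.haveILetI false
set_option linter.unusedSectionVars false
set_option linter.unusedVariables false
open Cfsg

namespace Cfsg.Agent.S4517

open Cfsg.Agent.Lib.Helper78_LocalRing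
open scoped ComplexConjugate

section aux

variable {G : Type*} [Group G] [Fintype G]

/-- For an irreducible character `χ` of odd degree such that `χ x ≡ χ x⁻¹` modulo `M` for all
`x` of odd order with odd class size, the sum of `χ` over the elements of odd order is nonzero
(it is congruent to `χ 1` modulo `M`). -/
theorem sum_odd_ne_zero_of_congr (M : Ideal AlgInt) (hM : IsPModular 2 M) (χ : IrrCharacter G)
    (hodd : Odd (charDegree (χ : G → ℂ)))
    (hinv : ∀ x : G, Odd (orderOf x) → Odd (Subgroup.centralizer ({x} : Set G)).index →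
      MemLocalIdeal M ((χ : G → ℂ) x - (χ : G → ℂ) x⁻¹)) :
    ∑ x ∈ Finset.univ.filter (fun x : G => Odd (orderOf x)), (χ : G → ℂ) x ≠ 0 := by
  classical
  have hMp : M.IsPrime := isPrime_of_isPModular hM
  haveI : Fact (Nat.Prime 2) := ⟨Nat.prime_two⟩
  -- values as algebraic integers
  let α : G → AlgInt := fun x => ⟨(χ : G → ℂ) x, Cfsg.Agent.S4483.isIntegral_irr χ x⟩
  have hαconj : ∀ q x : G, α (q * x * q⁻¹) = α x := by
    intro q x
    apply Subtype.ext
    exact Cfsg.Agent.Lib.Helper80_CharBasic.irr_conj χ x q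
  let mk : AlgInt →+* AlgInt ⧸ M := Ideal.Quotient.mk M
  have h2A : ∀ a : AlgInt ⧸ M, 2 • a = 0 := by
    intro a
    obtain ⟨b, rfl⟩ := Ideal.Quotient.mk_surjective a
    rw [← map_nsmul, Ideal.Quotient.eq_zero_iff_mem, nsmul_eq_mul]
    exact M.mul_mem_right _ (by simpa using hM.2.2)
  let F : G → AlgInt ⧸ M := fun x => if Odd (orderOf x) then mk (α x) else 0
  -- the Sylow 2-subgroup acting by conjugation
  let P : Sylow 2 G := default
  let _ : MulAction P G :=
    MulAction.compHom G ((MulAut.conj (G := G)).comp (P : Subgroup G).subtype)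
  have hsmul : ∀ (q : P) (x : G), q • x = (q : G) * x * (q : G)⁻¹ := fun q x => rfl
  have hFinv : ∀ (q : P) (x : G), F (q • x) = F x := by
    intro q x
    rw [hsmul]
    have h1 : orderOf ((q : G) * x * (q : G)⁻¹) = orderOf x := (MulAut.conj (q : G)).orderOf_eq x
    simp only [F, h1, hαconj]
  have hfix := Cfsg.Agent.Lib.Helper78_AugNilp.sum_eq_sum_fixed (p := 2) (P := P) (X := G)
    P.isPGroup' h2A F hFinv
  set Fix : Finset G := Finset.univ.filter (fun x : G => ∀ q : P, q • x = x) with hFix
  have h1Fix : (1 : G) ∈ Fix := by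
    simp only [hFix, Finset.mem_filter, Finset.mem_univ, true_and]
    intro q
    rw [hsmul, mul_one, mul_inv_cancel]
  -- the index of the centralizer of a fixed point is odd
  have hidx : ∀ x ∈ Fix, Odd (Subgroup.centralizer ({x} : Set G)).index := by
    intro x hx
    have hx' : ∀ q : P, q • x = x := (Finset.mem_filter.1 hx).2
    have hle : (P : Subgroup G) ≤ Subgroup.centralizer ({x} : Set G) := by
      intro q hq
      rw [Subgroup.mem_centralizer_iff]
      intro y hy
      rw [Set.mem_singleton_iff] at hy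
      subst hy
      have := hx' ⟨q, hq⟩
      rw [hsmul] at this
      have h3 : q * y = y * q := by
        calc q * y = q * y * q⁻¹ * q := by group
          _ = y * q := by rw [this]
      exact h3.symm
    have hdvd : (Subgroup.centralizer ({x} : Set G)).index ∣ (P : Subgroup G).index :=
      Subgroup.index_dvd_of_le hle
    have hPodd : Odd (P : Subgroup G).index := by
      rw [← Nat.not_even_iff_odd, even_iff_two_dvd]
      exact P.not_dvd_index
    exact hPodd.of_dvd_nat hdvd
  -- the sum over the non-identity fixed points vanishes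
  have hrest : ∑ x ∈ Fix.erase 1, F x = 0 := by
    refine Finset.sum_involution (fun x _ => x⁻¹) ?_ ?_ ?_ ?_
    · intro x hx
      have hxF : x ∈ Fix := Finset.mem_of_mem_erase hx
      simp only [F, orderOf_inv]
      by_cases hxo : Odd (orderOf x)
      · rw [if_pos hxo, if_pos hxo]
        have h3 := hinv x hxo (hidx x hxF)
        have h4 : MemLocalIdeal M (((α x - α x⁻¹ : AlgInt)) : ℂ) := by
          simpa [α] using h3
        have h5 : α x - α x⁻¹ ∈ M := (memLocalIdeal_algInt_iff hMp _).1 h4
        have h6 : mk (α x) = mk (α x⁻¹) := by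
          rw [← sub_eq_zero, ← map_sub]
          exact Ideal.Quotient.eq_zero_iff_mem.2 h5
        rw [← h6, ← two_nsmul]
        exact h2A _
      · rw [if_neg hxo, if_neg hxo, add_zero]
    · intro x hx hFx hxx
      have hx1 : x ≠ 1 := Finset.ne_of_mem_erase hx
      have hxo : Odd (orderOf x) := by
        by_contra hno
        apply hFx
        simp only [F, if_neg hno]
      have h2 : x ^ 2 = 1 := by
        rw [pow_two]
        nth_rewrite 1 [← hxx]
        exact inv_mul_cancel x
      have h3 : orderOf x ∣ 2 := orderOf_dvd_of_pow_eq_one h2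
      have h4 : orderOf x = 1 := by
        rcases (Nat.dvd_prime Nat.prime_two).1 h3 with h | h
        · exact h
        · rw [h] at hxo
          exact absurd hxo (by decide)
      exact hx1 (orderOf_eq_one_iff.1 h4)
    · intro x hx
      have hx1 : x ≠ 1 := Finset.ne_of_mem_erase hx
      have hx' : ∀ q : P, q • x = x := (Finset.mem_filter.1 (Finset.mem_of_mem_erase hx)).2
      apply Finset.mem_erase.2
      refine ⟨fun h => hx1 (inv_eq_one.1 h), ?_⟩
      simp only [hFix, Finset.mem_filter, Finset.mem_univ, true_and]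
      intro q
      have := hx' q
      rw [hsmul] at this ⊢
      calc (q : G) * x⁻¹ * (q : G)⁻¹ = ((q : G) * x * (q : G)⁻¹)⁻¹ := by group
        _ = x⁻¹ := by rw [this]
    · intro x _
      exact inv_inv x
  have hfix' : ∑ x, F x = ∑ x ∈ Fix, F x := by
    rw [hfix]
    refine Finset.sum_congr ?_ (fun _ _ => rfl)
    ext x
    simp only [hFix, Finset.mem_filter, Finset.mem_univ, true_and]
    exact Iff.rfl
  have htotal : ∑ x, F x = mk (α 1) := by
    rw [hfix', ← Finset.add_sum_erase Fix F h1Fix, hrest, add_zero]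
    simp [F]
  -- the sum as an image of the sum of the values
  have hsum : ∑ x, F x = mk (∑ x ∈ Finset.univ.filter (fun x : G => Odd (orderOf x)), α x) := by
    rw [map_sum, Finset.sum_filter]
  intro h0
  have hz : (∑ x ∈ Finset.univ.filter (fun x : G => Odd (orderOf x)), α x) = 0 := by
    apply Subtype.ext
    rw [AddSubmonoidClass.coe_finsetSum]
    simpa [α] using h0
  rw [hz, map_zero] at hsum
  rw [hsum] at htotal
  have hmem : α 1 ∈ M := Ideal.Quotient.eq_zero_iff_mem.1 htotal.symm
  obtain ⟨d, -, hd1, hd2⟩ := Cfsg.Agent.Lib.Helper79_CharVals.irr_degree χ.2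
  have hα1 : α 1 = (d : AlgInt) := by
    apply Subtype.ext
    simp [α, hd1]
  rw [hα1, natCast_mem_iff hM] at hmem
  rw [hd2] at hodd
  exact (Nat.not_even_iff_odd.2 hodd) (even_iff_two_dvd.2 hmem)

/-- An irreducible character whose sum over the elements of odd order is nonzero lies in the
principal `2`-block. -/
theorem mem_principalBlock_of_sum_odd_ne_zero (M : Ideal AlgInt) (hM : IsPModular 2 M)
    (χ : IrrCharacter G)
    (hsum : ∑ x ∈ Finset.univ.filter (fun x : G => Odd (orderOf x)), (χ : G → ℂ) x ≠ 0) :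
    χ ∈ principalBlock M G := by
  classical
  haveI : Fact (Nat.Prime 2) := ⟨Nat.prime_two⟩
  by_contra hnot
  have h1 : ¬ SameBlock M (χ : G → ℂ)
      ((Cfsg.Agent.Lib.Helper80_CharBasic.oneIrr G : IrrCharacter G) : G → ℂ) := by
    intro h
    exact hnot (sameBlock_symm h)
  have h2 := Cfsg.Agent.S0952.result 2 M hM χ (Cfsg.Agent.Lib.Helper80_CharBasic.oneIrr G) h1
  apply hsum
  rw [← h2, finsum_mem_def, finsum_eq_sum_of_fintype, Finset.sum_filter]
  refine Finset.sum_congr rfl (fun x _ => ?_)
  by_cases hx : Odd (orderOf x)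
  · rw [if_pos hx, Set.indicator_of_mem]
    · simp [Cfsg.Agent.Lib.Helper80_CharBasic.oneIrr]
    · change ¬ 2 ∣ orderOf x
      rw [← even_iff_two_dvd, Nat.not_even_iff_odd]
      exact hx
  · rw [if_neg hx, Set.indicator_of_notMem]
    intro hmem
    apply hx
    have : ¬ 2 ∣ orderOf x := hmem
    rw [← even_iff_two_dvd, Nat.not_even_iff_odd] at this
    exact this

end aux


/-- Let G be a finite group, M a maximal ideal of the algebraic integers containing 2, and k a natural number coprime to the order of G with g ^ k = g⁻¹ for every element g of odd order (so that g ↦ g ^ k induces a field automorphism of the character values inverting the roots of unity of odd order). If B is a 2-block of full defect (its defect equals the exponent of 2 in the order of G) that is stable under χ ↦ χ ∘ (· ^ k), then B is the principal 2-block. -/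
theorem result {G : Type*} [Group G] [Finite G] (M : Ideal Cfsg.AlgInt) (hM : Cfsg.IsPModular 2 M) (k : ℕ) (hk : Nat.Coprime k (Nat.card G)) (hk₂ : ∀ g : G, Odd (orderOf g) → g ^ k = g⁻¹) (B : Set (Cfsg.IrrCharacter G)) (hB : Cfsg.IsPBlock M B) (hdef : Cfsg.blockDefect 2 B = (Nat.card G).factorization 2) (hstab : ∀ χ ∈ B, ∃ ψ ∈ B, ∀ g : G, (ψ : G → ℂ) g = (χ : G → ℂ) (g ^ k)) : B = Cfsg.principalBlock M G := by
  classical
  haveI : Fintype G := Fintype.ofFinite G
  have hMp : M.IsPrime := isPrime_of_isPModular hM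
  -- a character of odd degree in `B`
  obtain ⟨χ, hχB, -, hχdef⟩ := Cfsg.Agent.Lib.Helper77_BlockBasics.exists_height_zero 2 B
    (isPBlock_nonempty hMp hB)
  have hle := Cfsg.Agent.Lib.Helper77_BlockBasics.factorization_charDegree_le 2 χ
  have hfac : (charDegree (χ : G → ℂ)).factorization 2 = 0 := by
    rw [hχdef] at hdef
    omega
  have hdpos := Cfsg.Agent.Lib.Helper77_BlockBasics.charDegree_pos χ
  have hodd : Odd (charDegree (χ : G → ℂ)) := by
    rw [← Nat.not_even_iff_odd, even_iff_two_dvd]
    intro h2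
    have := (Nat.Prime.dvd_iff_one_le_factorization Nat.prime_two hdpos.ne').1 h2
    omega
  -- the Galois conjugate
  obtain ⟨ψ, hψB, hψ⟩ := hstab χ hχB
  have hsame : SameBlock M (χ : G → ℂ) (ψ : G → ℂ) := isPBlock_sameBlock hMp hB hχB hψB
  obtain ⟨d, -, hd1, hd2⟩ := Cfsg.Agent.Lib.Helper79_CharVals.irr_degree χ.2
  have hdodd : ¬ 2 ∣ d := by
    rw [hd2] at hodd
    rw [← even_iff_two_dvd, Nat.not_even_iff_odd]
    exact hodd
  have hψ1 : (ψ : G → ℂ) 1 = d := by
    rw [hψ 1, one_pow, hd1]
  have hinv : ∀ x : G, Odd (orderOf x) → Odd (Subgroup.centralizer ({x} : Set G)).index →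
      MemLocalIdeal M ((χ : G → ℂ) x - (χ : G → ℂ) x⁻¹) := by
    intro x hxo hidx
    have h1 := hsame x
    unfold centralChar at h1
    rw [hψ x, hk₂ x hxo, hd1, hψ1] at h1
    set c := (Subgroup.centralizer ({x} : Set G)).index with hc
    have hcodd : ¬ 2 ∣ c := by
      rw [← even_iff_two_dvd, Nat.not_even_iff_odd]
      exact hidx
    have h2 : (c : ℂ) * (χ : G → ℂ) x / (d : ℂ) - (c : ℂ) * (χ : G → ℂ) x⁻¹ / (d : ℂ) =
        ((c : ℂ) / (d : ℂ)) * ((χ : G → ℂ) x - (χ : G → ℂ) x⁻¹) := by ring
    rw [h2] at h1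
    have hu : MemLocalRing M ((c : ℂ) / (d : ℂ)) := memLocalRing_natCast_div hM c hdodd
    have hu' : ¬ MemLocalIdeal M ((c : ℂ) / (d : ℂ)) := by
      intro h
      have h3 := memLocalIdeal_mul_right hMp h (memLocalRing_natCast hMp d)
      have hd0 : (d : ℂ) ≠ 0 := by
        intro h0
        apply hdodd
        have : d = 0 := by exact_mod_cast h0
        rw [this]
        exact dvd_zero 2
      rw [div_mul_cancel₀ _ hd0] at h3
      exact hcodd ((memLocalIdeal_natCast_iff hM c).1 h3)
    have hy : MemLocalRing M ((χ : G → ℂ) x - (χ : G → ℂ) x⁻¹) :=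
      memLocalRing_sub hMp
        (memLocalRing_algInt hMp ⟨_, Cfsg.Agent.S4483.isIntegral_irr χ x⟩)
        (memLocalRing_algInt hMp ⟨_, Cfsg.Agent.S4483.isIntegral_irr χ x⁻¹⟩)
    exact (memLocalIdeal_unit_mul_iff hMp hu hu' hy).1 h1
  have hsum := sum_odd_ne_zero_of_congr M hM χ hodd hinv
  have hχ0 := mem_principalBlock_of_sum_odd_ne_zero M hM χ hsum
  have hB0 : IsPBlock M (principalBlock M G) :=
    ⟨Cfsg.Agent.Lib.Helper80_CharBasic.oneIrr G, rfl⟩
  exact isPBlock_eq_of_mem_of_mem hMp hB hB0 hχB hχ0

end Cfsg.Agent.S4517
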