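import Mathlib
import Cfsg.Statements.S4490
import Cfsg.Agent.S4517
import Cfsg.Agent.Lib.Helper77_DefectOrder
import Cfsg.Agent.Lib.Helper75_CharProd
-- import your own Cfsg.Agent.* helpers here

set_option autoImplicit false
set_option linter.style.haveILetI false
open Cfsg

namespace Cfsg.Agent.S4490
open scoped ComplexConjugate

/-- Let G be a finite group and M a maximal ideal of the algebraic integers containing 2. Every 2-block B of G whose defect groups are the Sylow 2-subgroups of G (a block of full defect) and which is not the principal block is different from its complex-conjugate block, the block formed by the complex conjugates of the members of B. -/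
theorem result {G : Type*} [Group G] [Finite G] (M : Ideal Cfsg.AlgInt) (hM : Cfsg.IsPModular 2 M) (B : Set (Cfsg.IrrCharacter G)) (hB : Cfsg.IsPBlock M B) (P : Sylow 2 G) (hfull : Cfsg.IsDefectGroup 2 M B (P : Subgroup G)) (hnp : B ≠ Cfsg.principalBlock M G) : {ψ : Cfsg.IrrCharacter G | ∃ χ ∈ B, (ψ : G → ℂ) = fun g => (starRingEnd ℂ) ((χ : G → ℂ) g)} ≠ B := by
  classical
  haveI : Fintype G := Fintype.ofFinite G
  haveI : Fact (Nat.Prime 2) := ⟨Nat.prime_two⟩
  intro hset
  apply hnp
  -- the defect of `B` is full
  have hdef : blockDefect 2 B = (Nat.card G).factorization 2 := by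
    obtain ⟨g, hg, Q, hQ⟩ := hfull
    rw [← Cfsg.Agent.Lib.Helper77_DefectOrder.card_defectGroup hM hB hg]
    have h1 : Nat.card (P : Subgroup G) = 2 ^ (Nat.card G).factorization 2 :=
      P.card_eq_multiplicity
    have h2 : Nat.card (Q : Subgroup (Subgroup.centralizer ({g} : Set G))) =
        2 ^ (Nat.card (Subgroup.centralizer ({g} : Set G))).factorization 2 :=
      Q.card_eq_multiplicity
    have h3 : Nat.card (P : Subgroup G) =
        Nat.card (Q : Subgroup (Subgroup.centralizer ({g} : Set G))) := by
      rw [hQ]
      exact Subgroup.card_map_of_injective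
        (Subgroup.subtype_injective (Subgroup.centralizer ({g} : Set G)))
    rw [h1, h2] at h3
    exact (Nat.pow_right_injective (le_refl 2) h3).symm
  -- complex conjugation as a power map
  set k := Nat.card G - 1 with hk
  have hcard : 0 < Nat.card G := Nat.card_pos
  have hpow : ∀ g : G, g ^ k = g⁻¹ := by
    intro g
    have h1 : g ^ (k + 1) = 1 := by
      rw [hk, Nat.sub_add_cancel hcard]
      exact pow_card_eq_one'
    rw [pow_succ] at h1
    exact eq_inv_of_mul_eq_one_left h1
  have hcop : Nat.Coprime k (Nat.card G) := by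
    have h1 : Nat.card G = k + 1 := by rw [hk, Nat.sub_add_cancel hcard]
    rw [h1]
    simp
  refine Cfsg.Agent.S4517.result M hM k hcop (fun g _ => hpow g) B hB hdef ?_
  intro χ hχ
  let ψ : IrrCharacter G :=
    ⟨fun g => conj ((χ : G → ℂ) g), Cfsg.Agent.Lib.Helper75_CharProd.isIrrCharacter_conj χ.2⟩
  have hψ : ψ ∈ B := by
    rw [← hset]
    exact ⟨χ, hχ, rfl⟩
  refine ⟨ψ, hψ, fun g => ?_⟩
  rw [hpow g, Cfsg.Agent.Lib.Helper80_CharBasic.irr_inv χ g]

end Cfsg.Agent.S4490
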