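import Mathlib
import Cfsg.Statements.S4493
import Cfsg.Agent.Lib.Helper82_ItoMichler
import Cfsg.Agent.Lib.Helper3_Ito
import Cfsg.Agent.Lib.Helper76_PSolvable
import Cfsg.Agent.Lib.Helper1_MinNormal

set_option autoImplicit false
open Cfsg

namespace Cfsg.Agent.S4493

open Cfsg.Agent.Lib.Helper82_ItoMichler

/-- Itô: a normal abelian subgroup of index prime to `p` forces all irreducible degrees prime to
`p`. -/
theorem degrees_of_normal_abelian {G : Type*} [Group G] [Finite G] (p : ℕ) (Q : Subgroup G)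
    [Q.Normal] (hc : ∀ x ∈ Q, ∀ y ∈ Q, x * y = y * x) (hidx : ¬ p ∣ Q.index)
    (χ : Cfsg.IrrCharacter G) : ¬ p ∣ Cfsg.charDegree (χ : G → ℂ) := by
  obtain ⟨n, ρ, hρ, hχ⟩ := χ.2
  have h1 : Module.finrank ℂ (Fin n → ℂ) ∣ Q.index := Cfsg.Agent.Lib.Helper3_Ito.ito ρ Q hc
  have h2 : (χ : G → ℂ) 1 = (Module.finrank ℂ (Fin n → ℂ) : ℕ) := by
    rw [← hχ, Representation.char_one]
  rw [charDegree_eq _ _ h2]
  exact fun h => hidx (h.trans h1)

/-- a nontrivial finite solvable group has a nontrivial normal `p`-subgroup or `p'`-subgroup -/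
theorem core_ne_bot_of_solvable {H : Type*} [Group H] [Finite H] [Nontrivial H] (p : ℕ)
    [Fact p.Prime] (hs : Group.IsSolvable H) :
    Cfsg.pPrimeCore p H ≠ ⊥ ∨ Cfsg.pCore p H ≠ ⊥ := by
  have hp : p.Prime := Fact.out
  have hst : Group.IsSolvable (⊤ : Subgroup H) := inferInstance
  obtain ⟨M, hMn, -, hMne, -, q, hq, hMq⟩ :=
    Cfsg.Agent.Lib.Helper1_MinNormal.exists_elementary_abelian_normal_le (⊤ : Subgroup H) hst
      top_ne_bot
  have := hMn
  have hMpg : IsPGroup q M := by
    intro x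
    refine ⟨1, ?_⟩
    apply Subtype.ext
    rw [pow_one]
    simpa using hMq x.1 x.2
  by_cases hqp : q = p
  · right
    subst hqp
    intro hbot
    have := Cfsg.Agent.Lib.Helper76_PSolvable.le_pCore q M hMpg
    rw [hbot] at this
    exact hMne (eq_bot_iff.2 this)
  · left
    intro hbot
    have : Fact q.Prime := ⟨hq⟩
    obtain ⟨m, hm⟩ := IsPGroup.iff_card.1 hMpg
    have hcop : (Nat.card M).Coprime p := by
      rw [hm]
      exact Nat.Coprime.pow_left m ((Nat.coprime_primes hq hp).2 hqp)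
    have := Cfsg.Agent.Lib.Helper76_PSolvable.le_pPrimeCore p M hcop
    rw [hbot] at this
    exact hMne (eq_bot_iff.2 this)


/-- Let G be a finite solvable group and p a prime. Then G has a normal abelian Sylow p-subgroup if and only if no irreducible character degree of G is divisible by p. -/
theorem result {G : Type*} [Group G] [Finite G] (hsolv : Group.IsSolvable G) (p : ℕ) (hp : p.Prime) : (∃ P : Subgroup G, P.Normal ∧ (∀ x ∈ P, ∀ y ∈ P, x * y = y * x) ∧ IsPGroup p P ∧ ¬ p ∣ P.index) ↔ ∀ χ : Cfsg.IrrCharacter G, ¬ p ∣ Cfsg.charDegree (χ : G → ℂ) := by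
  have : Fact p.Prime := ⟨hp⟩
  constructor
  · rintro ⟨Q, hQn, hQc, -, hQi⟩ χ
    have := hQn
    exact degrees_of_normal_abelian p Q hQc hQi χ
  · intro hdeg
    exact core p (fun H _ => Group.IsSolvable H)
      (fun H _ _ _ h => core_ne_bot_of_solvable p h)
      (fun H _ _ N _ h => by have := h; infer_instance)
      _ G rfl hsolv hdeg

end Cfsg.Agent.S4493
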