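import Cfsg.Statements.S4497
import Cfsg.Agent.Lib.Helper75_SelfCent2

set_option autoImplicit false
open Cfsg

namespace Cfsg.Agent.S4497

open Cfsg.Agent.Lib.Helper75_SelfCent Cfsg.Agent.Lib.Helper75_SelfCent2 Cfsg.Agent.Lib.Helper1_Cores in
/-- Let the finite group G contain an element x of prime order p with C_G(x) = ⟨x⟩, let t be the number of conjugacy classes of elements of order p, and let S* = O_{p′}(G) be the largest normal subgroup of order prime to p. Then S* ≤ G′; if t ≠ p − 1 the quotient G′/S* is simple (in particular non-trivial); if t = p − 1 then G′ = S*. -/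
theorem result {G : Type*} [Group G] [Finite G] (p : ℕ) (hp : p.Prime) (x : G) (hx : orderOf x = p) (hC : Subgroup.centralizer ({x} : Set G) = Subgroup.zpowers x) (t : ℕ) (ht : Nat.card {C : ConjClasses G // ∃ g ∈ C.carrier, orderOf g = p} = t) : Cfsg.pPrimeCore p G ≤ commutator G ∧ (t ≠ p - 1 → ∀ h : ((Cfsg.pPrimeCore p G).subgroupOf (commutator G)).Normal, IsSimpleGroup (↥(commutator G) ⧸ (Cfsg.pPrimeCore p G).subgroupOf (commutator G))) ∧ (t = p - 1 → commutator G = Cfsg.pPrimeCore p G) := by
  have hcount := card_classes_mul_relIndex hp hx hC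
  rw [ht] at hcount
  have hp1 : 0 < p - 1 := Nat.sub_pos_of_lt hp.one_lt
  have hle : Cfsg.pPrimeCore p G ≤ commutator G :=
    le_commutator_of_not_dvd hp hx hC _ (not_dvd_card_pPrimeCore hp)
  refine ⟨hle, ?_, ?_⟩
  · intro hne hnorm
    have he1 : (Subgroup.zpowers x).relIndex
        (Subgroup.normalizer ((Subgroup.zpowers x : Subgroup G) : Set G)) ≠ 1 := by
      intro h
      rw [h, mul_one] at hcount
      exact hne hcount
    have hxD : x ∈ commutator G := mem_commutator_of_relIndex_ne_one hp hx hC he1
    have hxS : x ∉ Cfsg.pPrimeCore p G :=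
      not_mem_of_not_dvd hp hx _ (not_dvd_card_pPrimeCore hp)
    refine
      { exists_pair_ne := ⟨QuotientGroup.mk ⟨x, hxD⟩, 1, ?_⟩
        eq_bot_or_eq_top_of_normal := ?_ }
    · intro h
      rw [QuotientGroup.eq_one_iff, Subgroup.mem_subgroupOf] at h
      exact hxS h
    · intro H hH
      set S' := (Cfsg.pPrimeCore p G).subgroupOf (commutator G) with hS'
      have hsurj : Function.Surjective (QuotientGroup.mk' S') := QuotientGroup.mk'_surjective S'
      have hTn : (H.comap (QuotientGroup.mk' S')).Normal := inferInstance
      have hST : S' ≤ H.comap (QuotientGroup.mk' S') := by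
        intro s hs
        rw [Subgroup.mem_comap]
        have : (QuotientGroup.mk' S') s = 1 := (QuotientGroup.eq_one_iff s).mpr hs
        rw [this]; exact H.one_mem
      have hH' : H = (H.comap (QuotientGroup.mk' S')).map (QuotientGroup.mk' S') :=
        (Subgroup.map_comap_eq_self_of_surjective hsurj H).symm
      rcases normal_between hp hx hC he1 (commutator G) rfl (H.comap (QuotientGroup.mk' S')) hST
        with h | h
      · left
        rw [hH', h, QuotientGroup.map_mk'_self]
      · right
        rw [hH', h, Subgroup.map_top_of_surjective _ hsurj]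
  · intro heq
    have he1 : (Subgroup.zpowers x).relIndex
        (Subgroup.normalizer ((Subgroup.zpowers x : Subgroup G) : Set G)) = 1 := by
      rw [heq] at hcount
      have : (p - 1) * (Subgroup.zpowers x).relIndex
        (Subgroup.normalizer ((Subgroup.zpowers x : Subgroup G) : Set G)) = (p - 1) * 1 := by
        rw [hcount, mul_one]
      exact Nat.eq_of_mul_eq_mul_left hp1 this
    apply le_antisymm _ hle
    exact le_pPrimeCore inferInstance
      (coprime_of_not_dvd hp (commutator_of_relIndex_eq_one hp hx hC he1).2)

end Cfsg.Agent.S4497
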