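import Mathlib
import Cfsg.Statements.S4498
import Cfsg.Agent.Lib.Helper16_BlockOrth
import Cfsg.Agent.Lib.Helper78_LocalRing
import Cfsg.Agent.Lib.Helper80_CharBasic
import Cfsg.Agent.Lib.Helper3_CharOrtho
import Cfsg.Agent.Lib.Helper3_CharComplete
-- import your own Cfsg.Agent.* helpers here

set_option autoImplicit false
set_option linter.style.haveILetI false
open Cfsg

namespace Cfsg.Agent.S4498
open scoped ComplexConjugate
open Cfsg.Agent.Lib.Helper78_LocalRing Cfsg.Agent.Lib.Helper3_CharOrtho
  Cfsg.Agent.Lib.Helper80_CharBasic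

/-- Let p and q be distinct primes dividing the order of the finite group G, and suppose G has no element of order p·q. Fix maximal ideals M_p over p and M_q over q of the algebraic integers. Then the principal p-block and the principal q-block of G have a non-principal irreducible character in common. -/
theorem result {G : Type*} [Group G] [Finite G] (p q : ℕ) [Fact p.Prime] [Fact q.Prime] (hpq : p ≠ q) (hp : p ∣ Nat.card G) (hq : q ∣ Nat.card G) (hno : ∀ g : G, orderOf g ≠ p * q) (Mp Mq : Ideal Cfsg.AlgInt) (hMp : Cfsg.IsPModular p Mp) (hMq : Cfsg.IsPModular q Mq) : ∃ χ : Cfsg.IrrCharacter G, (χ : G → ℂ) ≠ (fun _ => 1) ∧ χ ∈ Cfsg.principalBlock Mp G ∧ χ ∈ Cfsg.principalBlock Mq G := by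
  classical
  letI : Fintype G := Fintype.ofFinite G
  have hpp : p.Prime := Fact.out
  have hqp : q.Prime := Fact.out
  have hMpP : Mp.IsPrime := isPrime_of_isPModular hMp
  have hMqP : Mq.IsPrime := isPrime_of_isPModular hMq
  set Bp := principalBlock Mp G with hBpdef
  set Bq := principalBlock Mq G with hBqdef
  have hBp : IsPBlock Mp Bp := ⟨oneIrr G, rfl⟩
  have hBq : IsPBlock Mq Bq := ⟨oneIrr G, rfl⟩
  have h1p : oneIrr G ∈ Bp := sameBlock_refl hMpP _
  have h1q : oneIrr G ∈ Bq := sameBlock_refl hMqP _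
  by_contra hcon
  push Not at hcon
  have honly : ∀ χ : IrrCharacter G, χ ∈ Bp → χ ∈ Bq → χ = oneIrr G := by
    intro χ h1 h2
    by_contra hne
    apply hcon χ _ h1 h2
    intro h
    exact hne (Subtype.ext h)
  -- elements of order `p` and `q`
  obtain ⟨x, hx⟩ := exists_prime_orderOf_dvd_card' p hp
  obtain ⟨y, hy⟩ := exists_prime_orderOf_dvd_card' q hq
  have hx1 : x ≠ 1 := by
    intro h
    rw [h, orderOf_one] at hx
    exact hpp.one_lt.ne hx
  -- no element has order divisible by `p * q`
  have hno' : ∀ u : G, q ∣ orderOf u → ¬ p ∣ orderOf u := by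
    intro u hqu hpu
    have hcop : Nat.Coprime p q := (Nat.coprime_primes hpp hqp).2 hpq
    have hdvd : p * q ∣ orderOf u := hcop.mul_dvd_of_dvd_of_dvd hpu hqu
    obtain ⟨m, hm⟩ := hdvd
    have hpos : 0 < orderOf u := orderOf_pos u
    have hm0 : m ≠ 0 := by
      rintro rfl
      rw [mul_zero] at hm
      omega
    have h1 : orderOf (u ^ m) = orderOf u / m :=
      orderOf_pow_of_dvd hm0 ⟨p * q, by rw [hm, mul_comm]⟩
    apply hno (u ^ m)
    rw [h1, hm, Nat.mul_div_cancel _ (Nat.pos_of_ne_zero hm0)]
  -- the class function `β`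
  set β : G → ℂ := fun g =>
    ∑ χ : IrrCharacter G, if χ ∈ Bp then (χ : G → ℂ) g * conj ((χ : G → ℂ) x) else 0 with hβ
  have hxpart : IsPPart p x x :=
    ⟨1, mul_one x, Commute.one_right x, ⟨1, by rw [hx, pow_one]⟩, by
      rw [orderOf_one]; exact hpp.one_lt.ne' ∘ Nat.dvd_one.1⟩
  have hβ0 : ∀ (g z : G), IsPPart p g z → ¬ IsConj z x → β g = 0 := by
    intro g z hgz hzx
    have h1 := Cfsg.Agent.Lib.Helper16_BlockOrth.block_orthogonality hMp hBp hgz hxpart hzx
    rw [finsum_mem_def, finsum_eq_sum_of_fintype] at h1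
    have h2 : β g = ∑ i : IrrCharacter G,
        Bp.indicator (fun χ : IrrCharacter G => (χ : G → ℂ) g * conj ((χ : G → ℂ) x)) i := by
      rw [hβ]
      refine Finset.sum_congr rfl (fun χ _ => ?_)
      by_cases hχ : χ ∈ Bp
      · rw [if_pos hχ, Set.indicator_of_mem hχ]
      · rw [if_neg hχ, Set.indicator_of_notMem hχ]
    rw [h2, h1]
  -- inner products of `β`
  have hinner : ∀ χ : IrrCharacter G, classInner β (χ : G → ℂ) =
      if χ ∈ Bp then conj ((χ : G → ℂ) x) else 0 := by
    intro χ
    have hβsum : β = ∑ ψ : IrrCharacter G,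
        (if ψ ∈ Bp then conj ((ψ : G → ℂ) x) else 0) • (ψ : G → ℂ) := by
      funext g
      rw [hβ, Finset.sum_apply]
      refine Finset.sum_congr rfl (fun ψ _ => ?_)
      rw [Pi.smul_apply, smul_eq_mul]
      split_ifs
      · ring
      · rw [zero_mul]
    rw [hβsum, classInner_sum_left]
    simp only [classInner_smul_left, classInner_irr (Subtype.prop _) χ.2]
    rw [Finset.sum_eq_single χ]
    · simp
    · intro ψ _ hne
      have : (ψ : G → ℂ) ≠ (χ : G → ℂ) := fun h => hne (Subtype.ext h)
      rw [if_neg this, mul_zero]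
    · intro h
      exact absurd (Finset.mem_univ _) h
  -- the `Bq`-part of `β` at `y`
  have hypart : IsPPart q y y :=
    ⟨1, mul_one y, Commute.one_right y, ⟨1, by rw [hy, pow_one]⟩, by
      rw [orderOf_one]; exact hqp.one_lt.ne' ∘ Nat.dvd_one.1⟩
  have hzero := Cfsg.Agent.Lib.Helper16_BlockOrth.blockPart_eq_zero hMq hBq β y
    (by
      intro u z huz hyz
      -- `u` is `q`-singular, hence `p`-regular
      obtain ⟨w, hzw, hcomm, ⟨k, hk⟩, hw⟩ := huz
      have hzq : orderOf z = q := by
        rw [← hy]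
        obtain ⟨c, hc⟩ := isConj_iff.1 hyz
        rw [← hc]
        exact (MulAut.conj c).orderOf_eq y
      have hcop : Nat.Coprime (orderOf z) (orderOf w) := by
        rw [hzq]
        exact (Nat.Prime.coprime_iff_not_dvd hqp).2 hw
      have hou : orderOf u = orderOf z * orderOf w := by
        rw [← hzw]
        exact hcomm.orderOf_mul_eq_mul_orderOf_of_coprime hcop
      have hqu : q ∣ orderOf u := by
        rw [hou, hzq]
        exact dvd_mul_right _ _
      have hpu : ¬ p ∣ orderOf u := hno' u hqu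
      have hupart : IsPPart p u 1 :=
        ⟨u, one_mul u, Commute.one_left u, ⟨0, by rw [orderOf_one, pow_zero]⟩, hpu⟩
      apply hβ0 u 1 hupart
      intro h
      exact hx1 (isConj_one_right.1 h))
    y y hypart (IsConj.refl y)
  -- but the `Bq`-part of `β` at `y` is `1`
  have hone : blockPart Bq β y = 1 := by
    unfold blockPart
    rw [finsum_mem_def, finsum_eq_sum_of_fintype, Finset.sum_eq_single (oneIrr G)]
    · rw [Set.indicator_of_mem h1q, hinner, if_pos h1p]
      simp [oneIrr]
    · intro χ _ hne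
      by_cases hχq : χ ∈ Bq
      · rw [Set.indicator_of_mem hχq, hinner]
        by_cases hχp : χ ∈ Bp
        · exact absurd (honly χ hχp hχq) hne
        · rw [if_neg hχp, zero_mul]
      · rw [Set.indicator_of_notMem hχq]
    · intro h
      exact absurd (Finset.mem_univ _) h
  rw [hone] at hzero
  exact one_ne_zero hzero

end Cfsg.Agent.S4498
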