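import Mathlib
import Cfsg.Statements.S4499
import Cfsg.Agent.S4710
import Cfsg.Agent.Lib.Helper77_BlockBasics

set_option autoImplicit false
open Cfsg

namespace Cfsg.Agent.S4499

/-- Let G be a finite group whose order has p-part p^a (a ≥ 1), and fix a maximal ideal M of the algebraic integers containing p. If the degree of one irreducible character of a p-block B is divisible by p^(a−1), then the degree of every irreducible character in B is divisible by p^(a−1) (so B has defect at most 1). -/
theorem result {G : Type*} [Group G] [Finite G] (p : ℕ) [Fact p.Prime] (M : Ideal Cfsg.AlgInt) (hM : Cfsg.IsPModular p M) (hpa : p ∣ Nat.card G) (B : Set (Cfsg.IrrCharacter G)) (hB : Cfsg.IsPBlock M B) (χ : Cfsg.IrrCharacter G) (hχ : χ ∈ B) (hdiv : p ^ ((Nat.card G).factorization p - 1) ∣ Cfsg.charDegree (χ : G → ℂ)) (ψ : Cfsg.IrrCharacter G) (hψ : ψ ∈ B) : p ^ ((Nat.card G).factorization p - 1) ∣ Cfsg.charDegree (ψ : G → ℂ) := by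
  classical
  have hp : p.Prime := Fact.out
  have hmle : ∀ φ ∈ B,
      sInf ((fun χ : Cfsg.IrrCharacter G => (Cfsg.charDegree (χ : G → ℂ)).factorization p) '' B) ≤
        (Cfsg.charDegree (φ : G → ℂ)).factorization p :=
    fun φ hφ => Nat.sInf_le ⟨φ, hφ, rfl⟩
  have hχpos := Cfsg.Agent.Lib.Helper77_BlockBasics.charDegree_pos χ
  have hψpos := Cfsg.Agent.Lib.Helper77_BlockBasics.charDegree_pos ψ
  have hχv : (Nat.card G).factorization p - 1 ≤ (Cfsg.charDegree (χ : G → ℂ)).factorization p :=
    (hp.pow_dvd_iff_le_factorization hχpos.ne').mp hdiv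
  rw [hp.pow_dvd_iff_le_factorization hψpos.ne']
  have hd : Cfsg.blockDefect p B = (Nat.card G).factorization p -
      sInf ((fun χ : Cfsg.IrrCharacter G => (Cfsg.charDegree (χ : G → ℂ)).factorization p) '' B) :=
    rfl
  obtain ⟨_, h2⟩ := Cfsg.Agent.S4710.result p M hM B hB _ hd
  have hmψ := hmle ψ hψ
  by_cases hcase : (Nat.card G).factorization p -
      sInf ((fun χ : Cfsg.IrrCharacter G => (Cfsg.charDegree (χ : G → ℂ)).factorization p) '' B) ≤ 1
  · omega
  · exfalso
    have h3 := (h2 χ hχ).2 (by omega)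
    have h4 : Cfsg.blockHeight p B (χ : G → ℂ) = (Cfsg.charDegree (χ : G → ℂ)).factorization p -
        sInf ((fun χ : Cfsg.IrrCharacter G => (Cfsg.charDegree (χ : G → ℂ)).factorization p) '' B) :=
      rfl
    rw [h4] at h3
    omega

end Cfsg.Agent.S4499
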