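import Cfsg.Statements.S4502
import Cfsg.Agent.Lib.Helper57_CTGen
import Cfsg.Agent.Lib.Helper74_H1V
import Cfsg.Agent.Lib.Helper78_McKayC
import Cfsg.Agent.Lib.Helper78_McKayD

set_option autoImplicit false
open Cfsg

namespace Cfsg.Agent.S4502

/-- Let G be a finite group whose order is divisible by the prime p exactly once, and let P be a Sylow p-subgroup. Then the number of irreducible characters of G of degree not divisible by p equals the number of conjugacy classes of the normalizer of P. -/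
theorem result {G : Type*} [Group G] [Finite G] (p : ℕ) [Fact p.Prime] (hdiv : p ∣ Nat.card G) (hsq : ¬ p ^ 2 ∣ Nat.card G) (P : Sylow p G) : Nat.card {χ : Cfsg.IrrCharacter G // ¬ p ∣ Cfsg.charDegree (χ : G → ℂ)} = Nat.card (ConjClasses (Subgroup.normalizer ((P : Subgroup G) : Set G))) := by
  classical
  let _ : Fintype G := Fintype.ofFinite G
  let _ : Fintype ↥(Cfsg.Agent.Lib.Helper78_PartAGen.NN P) := Fintype.ofFinite _
  have hP : Nat.card P = p := Cfsg.Agent.Lib.Helper78_McKayA.card_sylow_eq hdiv hsq P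
  have hPN := Cfsg.Agent.Lib.Helper78_McKayC.card_PN P hP
  exact Cfsg.Agent.Lib.Helper78_McKayC.mckay P hP
    (Cfsg.Agent.Lib.Helper78_McKayD.countHyp_of P hP
      (Cfsg.Agent.Lib.Helper57_CTGen.ct_gen p P hP)
      (fun V _ hV θ => Cfsg.Agent.Lib.Helper74_H1V.h1V hP hV θ))
    (Cfsg.Agent.Lib.Helper78_McKayD.countHyp_of (Cfsg.Agent.Lib.Helper78_McKayC.PN P) hPN
      (Cfsg.Agent.Lib.Helper57_CTGen.ct_gen p (Cfsg.Agent.Lib.Helper78_McKayC.PN P) hPN)
      (fun V _ hV θ => Cfsg.Agent.Lib.Helper74_H1V.h1V hPN hV θ))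

end Cfsg.Agent.S4502
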