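import Cfsg.Statements.S4505
import Cfsg.Agent.Lib.Helper77_BlockCount

set_option autoImplicit false
open Cfsg

namespace Cfsg.Agent.S4505

/-- Let G be a finite group, p a prime and M a maximal ideal of the algebraic integers containing p. For every σ, the number of p-blocks of defect exactly σ is at most the number of conjugacy classes of p-regular elements whose centralizer has order divisible by p^σ but not by p^(σ+1). -/
theorem result {G : Type*} [Group G] [Finite G] (p : ℕ) [Fact p.Prime] (M : Ideal Cfsg.AlgInt) (hM : Cfsg.IsPModular p M) (σ : ℕ) : Nat.card {B : Set (Cfsg.IrrCharacter G) // Cfsg.IsPBlock M B ∧ Cfsg.blockDefect p B = σ} ≤ Nat.card {C : ConjClasses G // ∃ g : G, ConjClasses.mk g = C ∧ ¬ p ∣ orderOf g ∧ (Nat.card (Subgroup.centralizer ({g} : Set G))).factorization p = σ} := by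
  classical
  have hMp : M.IsPrime := hM.2.1.isPrime
  apply Cfsg.Agent.Lib.Helper77_BlockCount.card_blocks_le_card_classes hM
    (fun B => Cfsg.IsPBlock M B ∧ Cfsg.blockDefect p B = σ)
    (fun C => ∃ g : G, ConjClasses.mk g = C ∧ ¬ p ∣ orderOf g ∧
      (Nat.card (Subgroup.centralizer ({g} : Set G))).factorization p = σ)
    (fun B hB => hB.1)
  intro B B' hB hB' χ hχ c hc
  have hmk : ConjClasses.mk c.out = c := Quotient.out_eq c
  by_cases hg : p ∣ orderOf c.out
  · rw [Cfsg.Agent.Lib.Helper77_WeakOrth.blockCoeff_block_eq_zero_of_sing hM hB'.1 _ hg, zero_mul]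
    exact Cfsg.Agent.Lib.Helper78_LocalRing.memLocalIdeal_zero hMp
  · have hne : (Nat.card (Subgroup.centralizer ({c.out} : Set G))).factorization p ≠ σ :=
      fun he => hc ⟨c.out, hmk, hg, he⟩
    have hbR := Cfsg.Agent.Lib.Helper78_CharFacts.osima_block' hMp hB'.1 c.out
    have hωR : Cfsg.MemLocalRing M (Cfsg.centralChar (χ : G → ℂ) c.out) :=
      Cfsg.Agent.Lib.Helper77_CentralInt.memLocalRing_centralChar M hMp _ χ.2 _
    by_cases hb : Cfsg.MemLocalIdeal M (Cfsg.blockCoeff B' c.out)
    · exact Cfsg.Agent.Lib.Helper78_LocalRing.memLocalIdeal_mul_right hMp hb hωR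
    · apply Cfsg.Agent.Lib.Helper78_LocalRing.memLocalIdeal_mul_left hMp hbR
      by_contra hω
      have h1 := Cfsg.Agent.Lib.Helper77_RegClasses.blockDefect_le_of_centralChar hM hB.1 hχ _ hω
      have h2 := Cfsg.Agent.Lib.Helper77_RegClasses.factorization_card_centralizer_le_of_blockCoeff
        hM hB'.1 _ hb
      rw [hB.2] at h1
      rw [hB'.2] at h2
      exact hne (le_antisymm h2 h1)

end Cfsg.Agent.S4505
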