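import Cfsg.Statements.S4506
import Cfsg.Agent.Lib.Helper57_BrauerFeit
import Cfsg.Agent.Lib.Helper79_CharVals
import Cfsg.Agent.S0874

set_option autoImplicit false
open Cfsg

namespace Cfsg.Agent.S4506

open scoped ComplexConjugate
open Cfsg.Agent.Lib.Helper3_CharEigen Cfsg.Agent.Lib.Helper3_CharBridge
  Cfsg.Agent.Lib.Helper3_CharComplete Cfsg.Agent.Lib.Helper57_PRegInt
  Cfsg.Agent.Lib.Helper57_HeightZero Cfsg.Agent.Lib.Helper57_BrauerFeit

/-- A field automorphism of `ℂ` fixing a primitive `g'`-th root of unity (`g'` the `p'`-part of the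
group order) fixes the character values at `p`-regular elements. -/
theorem sigma_fix_of_regular {G : Type*} [Group G] [Finite G] (p : ℕ) (hp : p.Prime)
    (χ : G → ℂ) (hχ : IsCharacter G χ) (σ : ℂ ≃+* ℂ)
    (hσ : σ (Complex.exp (2 * Real.pi * Complex.I /
        ((Nat.card G / p ^ (Nat.card G).factorization p : ℕ) : ℂ))) =
      Complex.exp (2 * Real.pi * Complex.I /
        ((Nat.card G / p ^ (Nat.card G).factorization p : ℕ) : ℂ)))
    (g : G) (hg : ¬ p ∣ orderOf g) : σ (χ g) = χ g := by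
  obtain ⟨n, ρ, rfl⟩ := hχ
  set g' : ℕ := Nat.card G / p ^ (Nat.card G).factorization p with hg'
  have hg'0 : g' ≠ 0 := (Nat.ordCompl_pos p Nat.card_pos.ne').ne'
  have hprim : IsPrimitiveRoot (Complex.exp (2 * Real.pi * Complex.I / (g' : ℂ))) g' :=
    Complex.isPrimitiveRoot_exp g' hg'0
  have hdvd : orderOf g ∣ g' := by
    have h1 : orderOf g ∣ p ^ (Nat.card G).factorization p * g' := by
      rw [hg', Nat.ordProj_mul_ordCompl_eq_self]
      exact orderOf_dvd_natCard g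
    have h2 : (orderOf g).Coprime (p ^ (Nat.card G).factorization p) :=
      (((Nat.Prime.coprime_iff_not_dvd hp).mpr hg).symm).pow_right _
    exact h2.dvd_of_dvd_mul_left h1
  rw [char_eq_sum ρ g, map_sum]
  refine Finset.sum_congr rfl (fun μ hμ => ?_)
  rw [map_mul, map_natCast]
  congr 1
  have hμ1 : μ ^ g' = 1 := by
    obtain ⟨k, hk⟩ := hdvd
    rw [hk, pow_mul, eig_pow_orderOf ρ hμ, one_pow]
  have : NeZero g' := ⟨hg'0⟩
  obtain ⟨i, -, hi⟩ := hprim.eq_pow_of_pow_eq_one hμ1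
  rw [← hi, map_pow, hσ]

/-- Let G be a finite group, p a prime, p^a the p-part of the order of G and g′ its p′-part. Call two irreducible characters p-conjugate when one is obtained from the other by applying a field automorphism of ℂ that fixes the g′-th roots of unity, and let r be the number of characters p-conjugate to the irreducible character χ (χ included). Then the exponent of p in r·χ(1) is at most a; and if p^a divides r·χ(1) then p^a already divides χ(1). -/
theorem result {G : Type*} [Group G] [Finite G] (p : ℕ) (hp : p.Prime) (χ : Cfsg.IrrCharacter G) (r : ℕ) (hr : Nat.card {ψ : Cfsg.IrrCharacter G // ∃ σ : ℂ ≃+* ℂ, σ (Complex.exp (2 * Real.pi * Complex.I / ((Nat.card G / p ^ (Nat.card G).factorization p) : ℕ))) = Complex.exp (2 * Real.pi * Complex.I / ((Nat.card G / p ^ (Nat.card G).factorization p) : ℕ)) ∧ (ψ : G → ℂ) = fun g => σ ((χ : G → ℂ) g)} = r) : (r * Cfsg.charDegree (χ : G → ℂ)).factorization p ≤ (Nat.card G).factorization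 p ∧ (p ^ (Nat.card G).factorization p ∣ r * Cfsg.charDegree (χ : G → ℂ) → p ^ (Nat.card G).factorization p ∣ Cfsg.charDegree (χ : G → ℂ)) := by
  classical
  have := Fintype.ofFinite G
  have hI : RegInt G p :=
    regInt_of_brauerLocal hp (fun q hq _ => Cfsg.Agent.S0874.result q hq)
  set a := (Nat.card G).factorization p with ha
  set c := (charDegree (χ : G → ℂ)).factorization p with hc
  -- the predicate "p-conjugate to χ"
  set Cj : Cfsg.IrrCharacter G → Prop := fun ψ => ∃ σ : ℂ ≃+* ℂ,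
    σ (Complex.exp (2 * Real.pi * Complex.I / ((Nat.card G / p ^ (Nat.card G).factorization p) : ℕ)))
      = Complex.exp (2 * Real.pi * Complex.I / ((Nat.card G / p ^ (Nat.card G).factorization p) : ℕ))
    ∧ (ψ : G → ℂ) = fun g => σ ((χ : G → ℂ) g) with hCj
  set O : Finset (Cfsg.IrrCharacter G) := Finset.univ.filter Cj with hO
  have hrO : O.card = r := by
    rw [← hr, Nat.card_eq_fintype_card, Fintype.card_subtype]
  have hχO : χ ∈ O := by
    rw [hO, Finset.mem_filter]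
    exact ⟨Finset.mem_univ _, RingEquiv.refl ℂ, rfl, rfl⟩
  have hrpos : 0 < r := by
    rw [← hrO]
    exact Finset.card_pos.mpr ⟨χ, hχO⟩
  -- degree
  obtain ⟨d, hdpos, hd1, hd⟩ := Cfsg.Agent.Lib.Helper79_CharVals.irr_degree χ.2
  -- conjugates agree with χ on p-regular elements
  have hreg : ∀ ψ ∈ O, ∀ g : G, ¬ p ∣ orderOf g → (ψ : G → ℂ) g = (χ : G → ℂ) g := by
    intro ψ hψ g hg
    rw [hO, Finset.mem_filter] at hψ
    obtain ⟨σ, hσ, hψσ⟩ := hψ.2
    rw [hψσ]
    exact sigma_fix_of_regular p hp _ (isCharacter_of_isIrrCharacter χ.2) σ hσ g hg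
  -- NN χ ψ = NN χ χ for conjugates
  have hNN : ∀ ψ ∈ O, NN hI χ ψ = NN hI χ χ := by
    intro ψ hψ
    have h1 := NN_spec hI χ ψ
    have h2 := NN_spec hI χ χ
    have h3 : classInner (regPart p (χ : G → ℂ)) (ψ : G → ℂ) =
        classInner (regPart p (χ : G → ℂ)) (χ : G → ℂ) := by
      unfold classInner
      congr 1
      refine Finset.sum_congr rfl (fun g _ => ?_)
      by_cases h : p ∣ orderOf g
      · rw [regPart_of_dvd _ h, zero_mul, zero_mul]
      · rw [hreg ψ hψ g h]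
    rw [h3, h2] at h1
    exact_mod_cast h1.symm
  -- positivity of N0
  set N0 := NN hI χ χ with hN0
  have hN0pos : 0 < N0 := by
    have h2 := NN_spec hI χ χ
    have h3 : classInner (regPart p (χ : G → ℂ)) (χ : G → ℂ) =
        (((Nat.card G : ℝ)⁻¹ * ∑ g : G, if p ∣ orderOf g then (0 : ℝ) else
          Complex.normSq ((χ : G → ℂ) g) : ℝ) : ℂ) := by
      unfold classInner
      push_cast
      congr 1
      refine Finset.sum_congr rfl (fun g _ => ?_)
      by_cases h : p ∣ orderOf g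
      · rw [regPart_of_dvd _ h, zero_mul, if_pos h]
        simp
      · rw [regPart_of_not_dvd _ h, if_neg h, Complex.mul_conj]
    have h4 : (0 : ℝ) < ∑ g : G, if p ∣ orderOf g then (0 : ℝ) else
        Complex.normSq ((χ : G → ℂ) g) := by
      apply Finset.sum_pos'
      · intro g _
        split_ifs
        · exact le_refl _
        · exact Complex.normSq_nonneg _
      · refine ⟨1, Finset.mem_univ _, ?_⟩
        have h5 : ¬ p ∣ orderOf (1 : G) := by
          rw [orderOf_one]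
          exact hp.one_lt.ne' ∘ Nat.dvd_one.mp
        rw [if_neg h5, hd1]
        simp
        exact hdpos.ne'
    have h6 : (0 : ℝ) < ((p ^ a : ℕ) : ℝ) * ((Nat.card G : ℝ)⁻¹ * ∑ g : G,
        if p ∣ orderOf g then (0 : ℝ) else Complex.normSq ((χ : G → ℂ) g)) := by
      have hc1 : (0 : ℝ) < (Nat.card G : ℝ) := by exact_mod_cast Nat.card_pos
      have hc2 : (0 : ℝ) < ((p ^ a : ℕ) : ℝ) := by exact_mod_cast pow_pos hp.pos a
      positivity
    rw [h3] at h2
    have h7 : ((N0 : ℤ) : ℝ) = ((p ^ a : ℕ) : ℝ) * ((Nat.card G : ℝ)⁻¹ * ∑ g : G,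
        if p ∣ orderOf g then (0 : ℝ) else Complex.normSq ((χ : G → ℂ) g)) := by
      have h8 : (((N0 : ℤ) : ℝ) : ℂ) = ((((p ^ a : ℕ) : ℝ) * ((Nat.card G : ℝ)⁻¹ * ∑ g : G,
          if p ∣ orderOf g then (0 : ℝ) else Complex.normSq ((χ : G → ℂ) g)) : ℝ) : ℂ) := by
        push_cast
        push_cast at h2
        rw [← h2]
      exact_mod_cast h8
    rw [← h7] at h6
    exact_mod_cast h6
  -- Parseval
  have hsum := sum_NN_sq hI χ
  have hsplit : ∑ ξ : Cfsg.IrrCharacter G, NN hI χ ξ ^ 2 =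
      (r : ℤ) * N0 ^ 2 + ∑ ξ ∈ Finset.univ.filter (fun ξ => ¬ Cj ξ), NN hI χ ξ ^ 2 := by
    rw [← Finset.sum_filter_add_sum_filter_not Finset.univ Cj]
    congr 1
    rw [← hO, Finset.sum_congr rfl (fun ξ hξ => by rw [hNN ξ hξ]), Finset.sum_const, hrO]
    simp
  have hrest_nonneg : 0 ≤ ∑ ξ ∈ Finset.univ.filter (fun ξ => ¬ Cj ξ), NN hI χ ξ ^ 2 :=
    Finset.sum_nonneg (fun ξ _ => sq_nonneg _)
  have hle : (r : ℤ) * N0 ≤ ((p ^ a : ℕ) : ℤ) := by
    have h1 : (r : ℤ) * N0 ^ 2 ≤ ((p ^ a : ℕ) : ℤ) * N0 := by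
      rw [← hsum, hsplit]
      linarith
    have h2 : ((r : ℤ) * N0) * N0 ≤ ((p ^ a : ℕ) : ℤ) * N0 := by
      rw [mul_assoc, ← sq]
      exact h1
    exact le_of_mul_le_mul_right h2 hN0pos
  -- p^c ∣ N0
  have hcdvd : ((p : ℤ)) ^ c ∣ N0 := pow_dvd_NN hp hI χ χ
  have hpcle : ((p : ℤ)) ^ c ≤ N0 := Int.le_of_dvd hN0pos hcdvd
  have hfac : (r * charDegree (χ : G → ℂ)).factorization p = r.factorization p + c := by
    rw [Nat.factorization_mul hrpos.ne' (by rw [hd]; exact hdpos.ne'), Finsupp.add_apply]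
  have hrp : p ^ r.factorization p ≤ r := Nat.ordProj_le p hrpos.ne'
  have hchain : ((p ^ (r.factorization p + c) : ℕ) : ℤ) ≤ (r : ℤ) * N0 := by
    rw [pow_add]
    push_cast
    have h1 : ((p : ℤ)) ^ r.factorization p ≤ (r : ℤ) := by exact_mod_cast hrp
    have h2 : (0 : ℤ) ≤ (p : ℤ) ^ c := by positivity
    calc ((p : ℤ)) ^ r.factorization p * (p : ℤ) ^ c ≤ (r : ℤ) * (p : ℤ) ^ c :=
          mul_le_mul_of_nonneg_right h1 h2
      _ ≤ (r : ℤ) * N0 := mul_le_mul_of_nonneg_left hpcle (by positivity)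
  have hfirst : r.factorization p + c ≤ a := by
    have h1 : ((p ^ (r.factorization p + c) : ℕ) : ℤ) ≤ ((p ^ a : ℕ) : ℤ) := hchain.trans hle
    have h2 : p ^ (r.factorization p + c) ≤ p ^ a := by exact_mod_cast h1
    exact (Nat.pow_le_pow_iff_right hp.one_lt).mp h2
  refine ⟨by rw [hfac]; exact hfirst, ?_⟩
  intro hdiv
  -- equality case
  have hge : a ≤ r.factorization p + c := by
    rw [← hfac]
    exact (hp.pow_dvd_iff_le_factorization
      (Nat.mul_ne_zero hrpos.ne' (by rw [hd]; exact hdpos.ne'))).mp hdiv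
  have heq : r.factorization p + c = a := le_antisymm hfirst hge
  have hrN0 : (r : ℤ) * N0 = ((p ^ a : ℕ) : ℤ) := by
    apply le_antisymm hle
    rw [← heq]
    exact hchain
  have hrest : ∑ ξ ∈ Finset.univ.filter (fun ξ => ¬ Cj ξ), NN hI χ ξ ^ 2 = 0 := by
    have h1 : (r : ℤ) * N0 ^ 2 = ((p ^ a : ℕ) : ℤ) * N0 := by
      rw [← hrN0]
      ring
    rw [hsplit, h1] at hsum
    linarith
  have hzero : ∀ ξ : Cfsg.IrrCharacter G, ¬ Cj ξ → NN hI χ ξ = 0 := by
    intro ξ hξ
    have h1 := (Finset.sum_eq_zero_iff_of_nonneg (fun ξ _ => sq_nonneg (NN hI χ ξ))).mp hrest ξ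
      (by rw [Finset.mem_filter]; exact ⟨Finset.mem_univ _, hξ⟩)
    exact pow_eq_zero_iff (two_ne_zero) |>.mp h1
  -- expansion of the p-regular part
  have hpa : ((p ^ a : ℕ) : ℂ) ≠ 0 := by exact_mod_cast (pow_pos hp.pos a).ne'
  have hcoef : ∀ ξ : Cfsg.IrrCharacter G, classInner (regPart p (χ : G → ℂ)) (ξ : G → ℂ) =
      (NN hI χ ξ : ℂ) / ((p ^ a : ℕ) : ℂ) := by
    intro ξ
    rw [← NN_spec hI χ ξ, mul_div_assoc, mul_comm, div_mul_cancel₀ _ hpa]
  have hclass : IsClassFunction G (regPart p (χ : G → ℂ)) := by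
    have := tilde_isClassFunction (p := p) (1 : ℂ) (isClassFunction_of_isIrrCharacter χ.2)
    simpa using this
  have hexp := classFunction_eq_sum (regPart p (χ : G → ℂ)) hclass
  have hsing : ∀ x : G, p ∣ orderOf x → ∑ ξ ∈ O, (ξ : G → ℂ) x = 0 := by
    intro x hx
    have h1 := congrFun hexp x
    rw [regPart_of_dvd _ hx, Finset.sum_apply] at h1
    have h2 : ∑ ξ : Cfsg.IrrCharacter G,
        (classInner (regPart p (χ : G → ℂ)) (ξ : G → ℂ) • (ξ : G → ℂ)) x =
        ((N0 : ℂ) / ((p ^ a : ℕ) : ℂ)) * ∑ ξ ∈ O, (ξ : G → ℂ) x := by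
      rw [← Finset.sum_filter_add_sum_filter_not Finset.univ Cj, ← hO]
      have h3 : ∑ ξ ∈ Finset.univ.filter (fun ξ => ¬ Cj ξ),
          (classInner (regPart p (χ : G → ℂ)) (ξ : G → ℂ) • (ξ : G → ℂ)) x = 0 := by
        apply Finset.sum_eq_zero
        intro ξ hξ
        rw [Finset.mem_filter] at hξ
        rw [Pi.smul_apply, hcoef, hzero ξ hξ.2]
        simp
      rw [h3, add_zero, Finset.mul_sum]
      refine Finset.sum_congr rfl (fun ξ hξ => ?_)
      rw [Pi.smul_apply, hcoef, hNN ξ hξ, smul_eq_mul]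
    rw [h2] at h1
    have h4 : ((N0 : ℂ) / ((p ^ a : ℕ) : ℂ)) ≠ 0 := by
      apply div_ne_zero _ hpa
      exact_mod_cast hN0pos.ne'
    exact (mul_eq_zero.mp h1.symm).resolve_left h4
  -- sum over a Sylow p-subgroup
  have : Fact p.Prime := ⟨hp⟩
  obtain ⟨P⟩ : Nonempty (Sylow p G) := inferInstance
  have hPcard : Nat.card (P : Subgroup G) = p ^ a := P.card_eq_multiplicity
  have := Fintype.ofFinite (P : Subgroup G)
  obtain ⟨m, hm⟩ := Cfsg.Agent.Lib.Helper79_CharVals.sum_subgroup_char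
    (isCharacter_of_isIrrCharacter χ.2) (P : Subgroup G)
  have hPsing : ∀ x : (P : Subgroup G), x ≠ 1 → p ∣ orderOf (x : G) := by
    intro x hx
    have h1 : orderOf (x : G) ∣ p ^ a := by
      rw [← hPcard, Subgroup.orderOf_coe]
      exact orderOf_dvd_natCard x
    obtain ⟨k, -, hk⟩ := (Nat.dvd_prime_pow hp).mp h1
    rw [hk]
    apply dvd_pow_self
    rintro rfl
    rw [pow_zero, orderOf_eq_one_iff] at hk
    exact hx (Subtype.ext hk)
  have hS1 : ∑ x : (P : Subgroup G), ∑ ξ ∈ O, (ξ : G → ℂ) (x : G) = (r : ℂ) * (d : ℂ) := by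
    rw [Finset.sum_eq_single (1 : (P : Subgroup G))]
    · rw [Subgroup.coe_one]
      have h1 : ∀ ξ ∈ O, (ξ : G → ℂ) 1 = (d : ℂ) := by
        intro ξ hξ
        rw [hreg ξ hξ 1 (by rw [orderOf_one]; exact hp.one_lt.ne' ∘ Nat.dvd_one.mp), hd1]
      rw [Finset.sum_congr rfl h1, Finset.sum_const, hrO]
      simp
    · intro x _ hx
      exact hsing (x : G) (hPsing x hx)
    · intro h
      exact absurd (Finset.mem_univ _) h
  have hS2 : ∑ x : (P : Subgroup G), ∑ ξ ∈ O, (ξ : G → ℂ) (x : G) =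
      (r : ℂ) * ((Nat.card (P : Subgroup G) : ℂ) * (m : ℂ)) := by
    rw [Finset.sum_comm]
    have h1 : ∀ ξ ∈ O, ∑ x : (P : Subgroup G), (ξ : G → ℂ) (x : G) =
        (Nat.card (P : Subgroup G) : ℂ) * (m : ℂ) := by
      intro ξ hξ
      rw [hO, Finset.mem_filter] at hξ
      obtain ⟨σ, -, hψσ⟩ := hξ.2
      rw [hψσ]
      simp only []
      rw [← map_sum, hm, map_mul, map_natCast, map_natCast]
    rw [Finset.sum_congr rfl h1, Finset.sum_const, hrO]
    simp
  rw [hS1] at hS2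
  have hrC : (r : ℂ) ≠ 0 := by exact_mod_cast hrpos.ne'
  have hfin : (d : ℂ) = (Nat.card (P : Subgroup G) : ℂ) * (m : ℂ) := mul_left_cancel₀ hrC hS2
  rw [hPcard] at hfin
  have hfin' : d = p ^ a * m := by exact_mod_cast hfin
  rw [hd, hfin']
  exact Dvd.intro _ rfl

end Cfsg.Agent.S4506
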