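import Cfsg.Statements.S4509
import Cfsg.Agent.Lib.Helper75_SelfCent2

set_option autoImplicit false
open Cfsg

namespace Cfsg.Agent.S4509

open Cfsg.Agent.Lib.Helper75_SelfCent Cfsg.Agent.Lib.Helper75_SelfCent2 Cfsg.Agent.Lib.Helper1_Cores

/-- The case `N_G(⟨x⟩) = ⟨x⟩`. -/
theorem case_one {G : Type*} [Group G] [Finite G] (p : ℕ) (hp : p.Prime) (x : G)
    (hx : orderOf x = p) (hC : Subgroup.centralizer ({x} : Set G) = Subgroup.zpowers x)
    (n : ℕ) (hn : Nat.card {H : Subgroup G // Nat.card H = p} = 1 + n * p)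
    (he : (Subgroup.zpowers x).relIndex
      (Subgroup.normalizer ((Subgroup.zpowers x : Subgroup G) : Set G)) = 1) :
    Nat.card (commutator G) = 1 + n * p ∧ IsCyclic (G ⧸ commutator G) ∧
      (commutator G).index = p := by
  have : Fact p.Prime := ⟨hp⟩
  obtain ⟨hidx, _⟩ := commutator_of_relIndex_eq_one hp hx hC he
  rw [card_subgroups_eq_index hp hx hC] at hn
  have hcardG : Nat.card G = p * (1 + n * p) := by
    rw [← hn, ← Subgroup.card_mul_index (Subgroup.zpowers x), Nat.card_zpowers, hx,
      ← Subgroup.relIndex_mul_index (Subgroup.le_normalizer (H := Subgroup.zpowers x)), he, one_mul]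
  refine ⟨?_, ?_, hidx⟩
  · have h1 := Subgroup.card_mul_index (commutator G)
    rw [hidx, hcardG, mul_comm] at h1
    exact Nat.eq_of_mul_eq_mul_left hp.pos h1
  · apply isCyclic_of_prime_card (p := p)
    rw [← Subgroup.index_eq_card, hidx]

/-- The case `N_G(⟨x⟩) ≠ ⟨x⟩` and `G'' ≠ G'`. -/
theorem case_two {G : Type*} [Group G] [Finite G] (p : ℕ) (hp : p.Prime) (x : G)
    (hx : orderOf x = p) (hC : Subgroup.centralizer ({x} : Set G) = Subgroup.zpowers x)
    (n : ℕ) (hn : Nat.card {H : Subgroup G // Nat.card H = p} = 1 + n * p)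
    (he : (Subgroup.zpowers x).relIndex
      (Subgroup.normalizer ((Subgroup.zpowers x : Subgroup G) : Set G)) ≠ 1)
    (hne : derivedSeries G 2 ≠ derivedSeries G 1) :
    Nat.card (derivedSeries G 2) = 1 + n * p ∧ Nat.card (commutator G) = p * (1 + n * p) := by
  rw [card_subgroups_eq_index hp hx hC] at hn
  set D := commutator G with hD
  have hD1 : derivedSeries G 1 = D := derivedSeries_one G
  have hD2 : derivedSeries G 2 = ⁅D, D⁆ := by
    rw [derivedSeries_succ, hD1]
  rw [hD1, hD2] at hne
  rw [hD2]
  have hxD : x ∈ D := mem_commutator_of_relIndex_ne_one hp hx hC he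
  have hpDD : ¬ p ∣ Nat.card (⁅D, D⁆ : Subgroup G) := by
    intro hA
    have hxDD : x ∈ ⁅D, D⁆ := mem_of_dvd_card hp hx hC _ hA
    have hDDD : D ≤ ⁅D, D⁆ := commutator_le_of_mem hp hx hC _ hxDD
    exact hne (le_antisymm (Subgroup.commutator_le_self D) hDDD)
  have hDDS : ⁅D, D⁆ ≤ pPrimeCore p G := le_pPrimeCore inferInstance (coprime_of_not_dvd hp hpDD)
  have hSD : pPrimeCore p G ≤ D := le_commutator_of_not_dvd hp hx hC _ (not_dvd_card_pPrimeCore hp)
  set S' := (pPrimeCore p G).subgroupOf D with hS'
  have hcardS' : Nat.card S' = Nat.card (pPrimeCore p G) :=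
    Nat.card_congr (Subgroup.subgroupOfEquivOfLe hSD).toEquiv
  have hpS' : ¬ p ∣ Nat.card S' := by rw [hcardS']; exact not_dvd_card_pPrimeCore hp
  have hSDD : pPrimeCore p G ≤ ⁅D, D⁆ := by
    have hxo : orderOf (⟨x, hxD⟩ : D) = p := orderOf_subtype hx D hxD
    have hCD := centralizer_subtype hC D hxD
    have h1 : S' ≤ commutator D := le_commutator_of_not_dvd hp hxo hCD S' hpS'
    intro s hs
    rw [← Subgroup.map_subtype_commutator]
    exact ⟨⟨s, hSD hs⟩, h1 (by rw [hS', Subgroup.mem_subgroupOf]; exact hs), rfl⟩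
  have hDDeq : ⁅D, D⁆ = pPrimeCore p G := le_antisymm hDDS hSDD
  have hidx : S'.index = p := index_subgroupOf_eq hp hx hC D (pPrimeCore p G) hxD hpS' hDDS
  have hcardD : Nat.card D = Nat.card (pPrimeCore p G) * p := by
    rw [← Subgroup.card_mul_index S', hidx, hcardS']
  -- now count
  have h1 : Nat.card (pPrimeCore p G) ∣ 1 + n * p := by
    rw [← hn]
    exact card_dvd_index_normalizer hp hx hC _ (not_dvd_card_pPrimeCore hp)
  have h2 : D.index ∣ (Subgroup.zpowers x).relIndex
      (Subgroup.normalizer ((Subgroup.zpowers x : Subgroup G) : Set G)) :=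
    index_dvd_relIndex hp hx hC D hxD
  have hcardG : Nat.card G = p * ((Subgroup.zpowers x).relIndex
      (Subgroup.normalizer ((Subgroup.zpowers x : Subgroup G) : Set G)) * (1 + n * p)) := by
    rw [← hn, ← Subgroup.card_mul_index (Subgroup.zpowers x), Nat.card_zpowers, hx,
      ← Subgroup.relIndex_mul_index (Subgroup.le_normalizer (H := Subgroup.zpowers x))]
  have h3 : Nat.card (pPrimeCore p G) * D.index = (Subgroup.zpowers x).relIndex
      (Subgroup.normalizer ((Subgroup.zpowers x : Subgroup G) : Set G)) * (1 + n * p) := by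
    have := Subgroup.card_mul_index D
    rw [hcardD, hcardG] at this
    have h4 : p * (Nat.card (pPrimeCore p G) * D.index) = p * ((Subgroup.zpowers x).relIndex
      (Subgroup.normalizer ((Subgroup.zpowers x : Subgroup G) : Set G)) * (1 + n * p)) := by
      rw [← this]; ring
    exact Nat.eq_of_mul_eq_mul_left hp.pos h4
  obtain ⟨b, hb⟩ := h1
  obtain ⟨a, ha⟩ := h2
  have hc0 : 0 < Nat.card (pPrimeCore p G) := Nat.card_pos
  have hi0 : 0 < D.index := by
    have : D.index ≠ 0 := Subgroup.index_ne_zero_of_finite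
    omega
  have hab : a * b = 1 := by
    rw [ha, hb] at h3
    have h5 : (Nat.card (pPrimeCore p G) * D.index) * 1 =
        (Nat.card (pPrimeCore p G) * D.index) * (a * b) := by
      have h6 : (Nat.card (pPrimeCore p G) * D.index) * (a * b) =
          D.index * a * (Nat.card (pPrimeCore p G) * b) := by ring
      rw [mul_one, h6]; exact h3
    exact (Nat.eq_of_mul_eq_mul_left (Nat.mul_pos hc0 hi0) h5).symm
  have hb1 : b = 1 := Nat.eq_one_of_mul_eq_one_left hab
  have hcardS : Nat.card (pPrimeCore p G) = 1 + n * p := by rw [hb, hb1, mul_one]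
  constructor
  · rw [hDDeq, hcardS]
  · rw [hcardD, hcardS, mul_comm]

/-- Let the finite group G contain an element x of prime order p with C_G(x) = ⟨x⟩; let t be the number of conjugacy classes of elements of order p and 1 + n·p the number of subgroups of order p. Then G has a normal subgroup of order 1 + n·p if and only if either t = p − 1, or t < p − 1 and G″ ≠ G′. Moreover, if t = p − 1 then G′ has order 1 + n·p and G/G′ is cyclic of order p; and if t < p − 1 and G″ ≠ G′ then G″ has order 1 + n·p and G′ has order p·(1 + n·p). -/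
theorem result {G : Type*} [Group G] [Finite G] (p : ℕ) (hp : p.Prime) (x : G) (hx : orderOf x = p) (hC : Subgroup.centralizer ({x} : Set G) = Subgroup.zpowers x) (t : ℕ) (ht : Nat.card {C : ConjClasses G // ∃ g ∈ C.carrier, orderOf g = p} = t) (n : ℕ) (hn : Nat.card {H : Subgroup G // Nat.card H = p} = 1 + n * p) : ((∃ S : Subgroup G, S.Normal ∧ Nat.card S = 1 + n * p) ↔ (t = p - 1 ∨ (t < p - 1 ∧ derivedSeries G 2 ≠ derivedSeries G 1))) ∧ (t = p - 1 → Nat.card (commutator G) = 1 + n * p ∧ IsCyclic (G ⧸ commutator G) ∧ (commutator G).index = p) ∧ (t < p - 1 → derivedSeries G 2 ≠ derivedSeries G 1 → Nat.card (derivedSeries G 2) = 1 + n * p ∧ Nat.card (commutator G) = p * (1 + n * p)) := by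
  have hcount := card_classes_mul_relIndex hp hx hC
  rw [ht] at hcount
  have hp1 : 0 < p - 1 := Nat.sub_pos_of_lt hp.one_lt
  have he_pos : 0 < (Subgroup.zpowers x).relIndex
      (Subgroup.normalizer ((Subgroup.zpowers x : Subgroup G) : Set G)) := by
    rcases Nat.eq_zero_or_pos ((Subgroup.zpowers x).relIndex
      (Subgroup.normalizer ((Subgroup.zpowers x : Subgroup G) : Set G))) with h | h
    · rw [h, mul_zero] at hcount; omega
    · exact h
  have hte : t ≤ p - 1 := by
    rw [← hcount]; exact Nat.le_mul_of_pos_right t he_pos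
  have he1_of : t = p - 1 → (Subgroup.zpowers x).relIndex
      (Subgroup.normalizer ((Subgroup.zpowers x : Subgroup G) : Set G)) = 1 := by
    intro heq
    rw [heq] at hcount
    have : (p - 1) * (Subgroup.zpowers x).relIndex
      (Subgroup.normalizer ((Subgroup.zpowers x : Subgroup G) : Set G)) = (p - 1) * 1 := by
      rw [hcount, mul_one]
    exact Nat.eq_of_mul_eq_mul_left hp1 this
  have hene_of : t ≠ p - 1 → (Subgroup.zpowers x).relIndex
      (Subgroup.normalizer ((Subgroup.zpowers x : Subgroup G) : Set G)) ≠ 1 := by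
    intro hne h
    rw [h, mul_one] at hcount
    exact hne hcount
  refine ⟨⟨?_, ?_⟩, ?_, ?_⟩
  · rintro ⟨S, hSn, hScard⟩
    by_cases h : t = p - 1
    · left; exact h
    · right
      refine ⟨lt_of_le_of_ne hte h, ?_⟩
      have he1 := hene_of h
      have hpS : ¬ p ∣ Nat.card S := by
        rw [hScard]
        intro hd
        have h2 : p ∣ n * p := Dvd.intro_left n rfl
        have h3 : p ∣ 1 := (Nat.dvd_add_left h2).mp hd
        exact hp.one_lt.ne' (Nat.dvd_one.mp h3)
      have htop := sup_normalizer_eq_top_of_card hp hx hC S hpS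
        (by rw [hScard, ← card_subgroups_eq_index hp hx hC, hn])
      have hDle := commutator_le_sup_of_sup_normalizer_eq_top hC S htop
      have hDD : derivedSeries G 2 ≤ S := by
        rw [derivedSeries_succ, derivedSeries_one]
        exact (Subgroup.commutator_mono hDle hDle).trans (commutator_sup_zpowers_le x S)
      intro heq
      have hxD : x ∈ derivedSeries G 1 := by
        rw [derivedSeries_one]
        exact mem_commutator_of_relIndex_ne_one hp hx hC he1
      rw [← heq] at hxD
      exact not_mem_of_not_dvd hp hx S hpS (hDD hxD)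
  · rintro (h | ⟨hlt, hne⟩)
    · exact ⟨commutator G, inferInstance, (case_one p hp x hx hC n hn (he1_of h)).1⟩
    · exact ⟨derivedSeries G 2, inferInstance,
        (case_two p hp x hx hC n hn (hene_of hlt.ne) hne).1⟩
  · intro h
    exact case_one p hp x hx hC n hn (he1_of h)
  · intro hlt hne
    exact case_two p hp x hx hC n hn (hene_of hlt.ne) hne

end Cfsg.Agent.S4509
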