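import Cfsg.Statements.S4510
import Cfsg.Agent.Lib.Helper77_RegClasses
import Cfsg.Agent.Lib.Helper77_CentralInt

set_option autoImplicit false
open Cfsg

namespace Cfsg.Agent.S4510

open Cfsg.Agent.Lib.Helper78_LocalRing Cfsg.Agent.Lib.Helper77_BlockBasics
  Cfsg.Agent.Lib.Helper78_Osima Cfsg.Agent.Lib.Helper78_CharFacts
  Cfsg.Agent.Lib.Helper77_RegClasses Cfsg.Agent.Lib.Helper78_CentralChar

/-- Let G be a finite group, p a prime, M a maximal ideal of the algebraic integers containing p, and call the defect of a conjugacy class the exponent of p in the order of the centralizer of its elements. Two irreducible characters lying in p-blocks of defect exactly d lie in the same block if and only if their central characters (class size times χ(x)/χ(1)) agree modulo the local ideal at M at every p-regular element x whose class has defect exactly d. -/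
theorem result {G : Type*} [Group G] [Finite G] (p : ℕ) [Fact p.Prime] (M : Ideal Cfsg.AlgInt) (hM : Cfsg.IsPModular p M) (d : ℕ) (χ ψ : Cfsg.IrrCharacter G) (hχ : Cfsg.blockDefect p (Cfsg.blockOf M (χ : G → ℂ)) = d) (hψ : Cfsg.blockDefect p (Cfsg.blockOf M (ψ : G → ℂ)) = d) : Cfsg.SameBlock M (χ : G → ℂ) (ψ : G → ℂ) ↔ ∀ x : G, ¬ p ∣ orderOf x → (Nat.card (Subgroup.centralizer ({x} : Set G))).factorization p = d → Cfsg.MemLocalIdeal M (Cfsg.centralChar (χ : G → ℂ) x - Cfsg.centralChar (ψ : G → ℂ) x) := by
  classical
  have := Fintype.ofFinite G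
  have hp : p.Prime := hM.1
  have hMp : M.IsPrime := hM.2.1.isPrime
  constructor
  · intro h x _ _
    exact h x
  · intro h
    by_contra hns
    have hB : IsPBlock M (blockOf M (χ : G → ℂ)) := ⟨χ, rfl⟩
    have hB' : IsPBlock M (blockOf M (ψ : G → ℂ)) := ⟨ψ, rfl⟩
    have hχB : χ ∈ blockOf M (χ : G → ℂ) := sameBlock_refl hMp _
    have hψB' : ψ ∈ blockOf M (ψ : G → ℂ) := sameBlock_refl hMp _
    have hψB : ψ ∉ blockOf M (χ : G → ℂ) := hns
    have key := memLocalIdeal_omega_sub_of hMp (isIrrCharacter_isClassFunction χ.2)
      (isIrrCharacter_isClassFunction ψ.2) (blockCoeff_isClassFunction (blockOf M (χ : G → ℂ)))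
      (fun g => by
        by_cases hg : p ∣ orderOf g
        · rw [Cfsg.Agent.Lib.Helper77_WeakOrth.blockCoeff_block_eq_zero_of_sing hM hB g hg,
            zero_mul]
          exact memLocalIdeal_zero hMp
        · have hbR := osima_block' hMp hB g
          have hχR : MemLocalRing M (centralChar (χ : G → ℂ) g) :=
            Cfsg.Agent.Lib.Helper77_CentralInt.memLocalRing_centralChar M hMp _ χ.2 g
          have hψR : MemLocalRing M (centralChar (ψ : G → ℂ) g) :=
            Cfsg.Agent.Lib.Helper77_CentralInt.memLocalRing_centralChar M hMp _ ψ.2 g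
          by_cases hb : MemLocalIdeal M (blockCoeff (blockOf M (χ : G → ℂ)) g)
          · exact memLocalIdeal_mul_right hMp hb (memLocalRing_sub hMp hχR hψR)
          · have h1 := factorization_card_centralizer_le_of_blockCoeff hM hB g hb
            rw [hχ] at h1
            apply memLocalIdeal_mul_left hMp hbR
            by_cases h2 : MemLocalIdeal M (centralChar (χ : G → ℂ) g)
            · by_cases h3 : MemLocalIdeal M (centralChar (ψ : G → ℂ) g)
              · exact memLocalIdeal_sub hMp h2 h3
              · have h4 := blockDefect_le_of_centralChar hM hB' hψB' g h3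
                rw [hψ] at h4
                exact h g hg (le_antisymm h1 h4)
            · have h4 := blockDefect_le_of_centralChar hM hB hχB g h2
              rw [hχ] at h4
              exact h g hg (le_antisymm h1 h4))
    rw [omega_blockCoeff charFacts _ χ, omega_blockCoeff charFacts _ ψ, Set.indicator_of_mem hχB,
      Set.indicator_of_notMem hψB, sub_zero] at key
    exact not_memLocalIdeal_one hMp key

end Cfsg.Agent.S4510
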