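import Cfsg.Statements.S4518
import Cfsg.Agent.Lib.Helper75_GalConj
import Cfsg.Agent.Lib.Helper75_CliffordOrbit

set_option autoImplicit false
open Cfsg

namespace Cfsg.Agent.S4518

open Cfsg.Agent.Lib.Helper3_CharBridge Cfsg.Agent.Lib.Helper3_CharOrtho
  Cfsg.Agent.Lib.Helper75_Clifford Cfsg.Agent.Lib.Helper75_GalConj
  Cfsg.Agent.Lib.Helper75_CliffordOrbit in
/-- Let N be a normal subgroup of the finite group G whose index is not divisible by the prime p, and let k be coprime to the order of G with k ^ (p ^ e) ≡ 1 modulo the order of G for some e (so g ↦ g ^ k induces a field automorphism of p-power order on character values). If an irreducible character χ of G satisfies χ (g ^ k) = χ g for all g, then every irreducible constituent θ of the restriction of χ to N satisfies θ (n ^ k) = θ n for all n. -/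
theorem result {G : Type*} [Group G] [Fintype G] (p : ℕ) [Fact p.Prime] (N : Subgroup G) [N.Normal] [Fintype N] (hidx : ¬ p ∣ N.index) (k e : ℕ) (hk : Nat.Coprime k (Nat.card G)) (hke : k ^ (p ^ e) ≡ 1 [MOD Nat.card G]) (χ : Cfsg.IrrCharacter G) (hχ : ∀ g : G, (χ : G → ℂ) (g ^ k) = (χ : G → ℂ) g) (θ : Cfsg.IrrCharacter N) (hθ : Cfsg.classInner (fun n : N => (χ : G → ℂ) n) (θ : N → ℂ) ≠ 0) : ∀ n : N, (θ : N → ℂ) (n ^ k) = (θ : N → ℂ) n := by
  classical
  have hN : N.Normal := inferInstance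
  have hkN : k.Coprime (Nat.card N) :=
    Nat.Coprime.coprime_dvd_right (Subgroup.card_subgroup_dvd_card N) hk
  have : Fintype {ψ : Cfsg.IrrCharacter N //
      Cfsg.classInner (res N (χ : G → ℂ)) (ψ : N → ℂ) ≠ 0} := Fintype.ofFinite _
  -- the power map on `Irr N`
  let pw : Cfsg.IrrCharacter N → Cfsg.IrrCharacter N := fun ψ =>
    ⟨fun n => (ψ : N → ℂ) (n ^ k), isIrrCharacter_powMap ψ.2 k hkN⟩
  have hpres : ∀ ψ : Cfsg.IrrCharacter N,
      Cfsg.classInner (res N (χ : G → ℂ)) (pw ψ : N → ℂ) =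
        Cfsg.classInner (res N (χ : G → ℂ)) (ψ : N → ℂ) := by
    intro ψ
    unfold Cfsg.classInner
    congr 1
    have h1 : ∀ n : N, res N (χ : G → ℂ) n = res N (χ : G → ℂ) (n ^ k) := by
      intro n
      show (χ : G → ℂ) n = (χ : G → ℂ) ((n ^ k : N) : G)
      rw [Subgroup.coe_pow, hχ]
    calc ∑ n : N, res N (χ : G → ℂ) n * (starRingEnd ℂ) ((pw ψ : N → ℂ) n)
        = ∑ n : N, res N (χ : G → ℂ) (n ^ k) * (starRingEnd ℂ) ((ψ : N → ℂ) (n ^ k)) := by
          refine Finset.sum_congr rfl (fun n _ => ?_)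
          rw [← h1 n]
      _ = ∑ m : N, res N (χ : G → ℂ) m * (starRingEnd ℂ) ((ψ : N → ℂ) m) :=
          Fintype.sum_equiv (powCoprime hkN.symm) _ _ (fun n => rfl)
  let τ : Function.End {ψ : Cfsg.IrrCharacter N //
      Cfsg.classInner (res N (χ : G → ℂ)) (ψ : N → ℂ) ≠ 0} :=
    fun ψ => ⟨pw ψ.1, by rw [hpres]; exact ψ.2⟩
  have hiter : ∀ j : ℕ, ∀ ψ : {ψ : Cfsg.IrrCharacter N //
      Cfsg.classInner (res N (χ : G → ℂ)) (ψ : N → ℂ) ≠ 0}, ∀ n : N,
      (((τ ^ j) ψ).1 : N → ℂ) n = (ψ.1 : N → ℂ) (n ^ (k ^ j)) := by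
    intro j
    induction j with
    | zero =>
      intro ψ n
      rw [pow_zero, pow_zero, pow_one]
      rfl
    | succ j ih =>
      intro ψ n
      rw [pow_succ, Function.End.mul_def]
      show (((τ ^ j) (τ ψ)).1 : N → ℂ) n = _
      rw [ih (τ ψ) n]
      show (ψ.1 : N → ℂ) ((n ^ (k ^ j)) ^ k) = _
      rw [← pow_mul, ← pow_succ]
  have hτ : τ ^ p ^ e = 1 := by
    funext ψ
    apply Subtype.ext
    apply Subtype.ext
    funext n
    rw [hiter]
    have h2 : n ^ (k ^ (p ^ e)) = n := by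
      conv_rhs => rw [← pow_one n]
      rw [pow_eq_pow_iff_modEq]
      apply hke.of_dvd
      rw [← Subgroup.orderOf_coe]
      exact orderOf_dvd_natCard (n : G)
    rw [h2]
    rfl
  have hmod := Equiv.Perm.card_fixedPoints_modEq (p := p) (n := e) hτ
  have hcard : ¬ p ∣ Fintype.card {ψ : Cfsg.IrrCharacter N //
      Cfsg.classInner (res N (χ : G → ℂ)) (ψ : N → ℂ) ≠ 0} := by
    intro h
    apply hidx
    refine h.trans ?_
    rw [← Nat.card_eq_fintype_card]
    exact card_constituents_dvd_index N χ.2 θ hθ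
  have hfix : ∃ ψ₀, ψ₀ ∈ Function.fixedPoints τ := by
    by_contra hempty
    push Not at hempty
    have h0 : IsEmpty (Function.fixedPoints τ) := ⟨fun x => hempty x.1 x.2⟩
    have h1 : Fintype.card (Function.fixedPoints τ) = 0 := Fintype.card_eq_zero
    rw [h1] at hmod
    exact hcard ((Nat.modEq_zero_iff_dvd).mp hmod)
  obtain ⟨ψ₀, hψ₀⟩ := hfix
  have hψ₀' : ∀ n : N, (ψ₀.1 : N → ℂ) (n ^ k) = (ψ₀.1 : N → ℂ) n := by
    intro n
    have h3 : τ ψ₀ = ψ₀ := hψ₀
    have h4 := congrArg (fun ψ => (ψ.1 : N → ℂ) n) h3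
    exact h4
  obtain ⟨g, hg⟩ := exists_conj_of_constituent N hN χ.2 ψ₀.1.2 θ.2 ψ₀.2 hθ
  intro n
  rw [hg, conjFun_apply, conjFun_apply]
  have h5 : (⟨g * ((n ^ k : N) : G) * g⁻¹, hN.conj_mem _ (n ^ k).2 g⟩ : N) =
      (⟨g * (n : G) * g⁻¹, hN.conj_mem _ n.2 g⟩ : N) ^ k := by
    ext
    simp [conj_pow]
  rw [h5]
  exact hψ₀' _

end Cfsg.Agent.S4518
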