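import Cfsg.Statements.S4520
import Cfsg.Agent.Lib.Helper15_KFixBlock

set_option autoImplicit false
open Cfsg

namespace Cfsg.Agent.S4520

open Cfsg.Agent.Lib.Helper15_KFixBlock Cfsg.Agent.Lib.Helper78_LocalRing
  Cfsg.Agent.Lib.Helper16_Cover Cfsg.Agent.Lib.Helper16_Orbit

/-- Let N be a normal subgroup of odd index in the finite group G, M a maximal ideal of the algebraic integers containing 2, and k coprime to the order of G with k ^ (2 ^ e) ≡ 1 modulo the order of G for some e and g ^ k = g⁻¹ for every element g of odd order. Let θ be an irreducible character of N and χ an irreducible character of G over θ, both unchanged by composing with g ↦ g ^ k. Then χ lies in the principal 2-block of G if and only if θ lies in the principal 2-block of N. -/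
theorem result {G : Type*} [Group G] [Fintype G] (M : Ideal Cfsg.AlgInt) (hM : Cfsg.IsPModular 2 M) (N : Subgroup G) [N.Normal] [Fintype N] (hidx : Odd N.index) (k e : ℕ) (hk : Nat.Coprime k (Nat.card G)) (hke : k ^ (2 ^ e) ≡ 1 [MOD Nat.card G]) (hk₂ : ∀ g : G, Odd (orderOf g) → g ^ k = g⁻¹) (θ : Cfsg.IrrCharacter N) (hθ : ∀ n : N, (θ : N → ℂ) (n ^ k) = (θ : N → ℂ) n) (χ : Cfsg.IrrCharacter G) (hχ : ∀ g : G, (χ : G → ℂ) (g ^ k) = (χ : G → ℂ) g) (hover : Cfsg.classInner (fun n : N => (χ : G → ℂ) n) (θ : N → ℂ) ≠ 0) : χ ∈ Cfsg.principalBlock M G ↔ θ ∈ Cfsg.principalBlock M N := by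
  classical
  have hMp := isPrime_of_isPModular hM
  constructor
  · intro hχB
    have hsb : SameBlock M
        ((⟨fun _ => 1, Cfsg.Agent.Lib.Helper80_CharBasic.isIrrCharacter_one G⟩ :
          IrrCharacter G) : G → ℂ) (χ : G → ℂ) := hχB
    have h11 : classInner (fun n : N =>
        ((⟨fun _ => 1, Cfsg.Agent.Lib.Helper80_CharBasic.isIrrCharacter_one G⟩ :
          IrrCharacter G) : G → ℂ) n)
        ((⟨fun _ => 1, Cfsg.Agent.Lib.Helper80_CharBasic.isIrrCharacter_one N⟩ :
          IrrCharacter N) : N → ℂ) ≠ 0 := by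
      show classInner (fun _ : N => (1 : ℂ)) (fun _ : N => (1 : ℂ)) ≠ 0
      rw [Cfsg.Agent.Lib.Helper3_CharOrtho.classInner_self_of_isIrrCharacter
        (Cfsg.Agent.Lib.Helper80_CharBasic.isIrrCharacter_one N)]
      exact one_ne_zero
    have hmem : (⟨fun _ => 1, Cfsg.Agent.Lib.Helper80_CharBasic.isIrrCharacter_one N⟩ :
        IrrCharacter N) ∈ gClosure N (principalBlock M N) :=
      subset_gClosure N _ (sameBlock_refl hMp _)
    obtain ⟨x, θ₀, hθ₀, h⟩ := mem_gClosure_of_sameBlock N hMp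
      (Cfsg.Agent.Lib.Helper76_PrincipalOver.isPBlock_principal N) hsb hmem h11 hover
    have h1 : SameBlock M (fun _ : N => (1 : ℂ)) (θ₀ : N → ℂ) := hθ₀
    have h2 := sameBlock_cj N x h1
    rw [← h] at h2
    exact h2
  · intro hθB
    exact step_general N hidx hk hk₂ hM θ.2 hθ hθB χ.2 hover hχ

end Cfsg.Agent.S4520
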