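import Cfsg.Statements.S4539
import Cfsg.Agent.Lib.Helper57_MajorNV
import Cfsg.Agent.Lib.Helper57_Weights
import Cfsg.Agent.Lib.Helper57_WForm
import Cfsg.Agent.Lib.Helper57_QuadFourier
import Cfsg.Agent.Lib.Helper57_ContribRow
import Cfsg.Agent.Lib.Helper77_CentralDefect
import Cfsg.Agent.S0874

set_option autoImplicit false
open Cfsg
open scoped ComplexConjugate
open Cfsg.Agent.Lib.Helper3_CharBridge Cfsg.Agent.Lib.Helper3_CharOrtho
  Cfsg.Agent.Lib.Helper75_CharArith Cfsg.Agent.Lib.Helper57_PRegInt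
  Cfsg.Agent.Lib.Helper57_HeightZero Cfsg.Agent.Lib.Helper57_BrauerFeit
  Cfsg.Agent.Lib.Helper57_Contribution Cfsg.Agent.Lib.Helper57_Subsection
  Cfsg.Agent.Lib.Helper57_ContribMatrix Cfsg.Agent.Lib.Helper57_BrouePuig
  Cfsg.Agent.Lib.Helper57_ContribRow
  Cfsg.Agent.Lib.Helper57_MajorNonvanish Cfsg.Agent.Lib.Helper57_MajorNV
  Cfsg.Agent.Lib.Helper57_Weights Cfsg.Agent.Lib.Helper57_WForm
  Cfsg.Agent.Lib.Helper57_QuadFourier
  Cfsg.Agent.Lib.Helper78_LocalRing Cfsg.Agent.Lib.Helper78_CharFacts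
  Cfsg.Agent.Lib.Helper77_BlockBasics

namespace Cfsg.Agent.S4539

section Aux

variable {K : Type*} [Group K] [Fintype K] {p : ℕ}

theorem classInner_self_ofReal (f : K → ℂ) :
    classInner f f = (((Nat.card K : ℝ)⁻¹ * ∑ g : K, Complex.normSq (f g) : ℝ) : ℂ) := by
  unfold classInner
  push_cast
  congr 1
  refine Finset.sum_congr rfl fun g _ => ?_
  rw [Complex.mul_conj]

/-- The weight form is positive semidefinite. -/
theorem wform_psd {e : Set (IrrCharacter K)} (d : ℕ)
    (w0 : IrrCharacter K → IrrCharacter K → ℤ)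
    (hw0 : ∀ ζ ∈ e, ∀ ζ' ∈ e, ((p : ℂ) ^ d) *
      classInner (regPart p (ζ : K → ℂ)) (ζ' : K → ℂ) = (w0 ζ ζ' : ℂ))
    (x : IrrCharacter K → ℤ) : 0 ≤ wform (bset e) w0 x x := by
  classical
  set lam : K → ℂ := ∑ ζ ∈ bset e, (x ζ : ℂ) • regPart p (ζ : K → ℂ) with hlam
  have h1 : classInner lam lam = ∑ ζ ∈ bset e, ∑ ζ' ∈ bset e, (x ζ : ℂ) * (x ζ' : ℂ) *
      classInner (regPart p (ζ : K → ℂ)) (ζ' : K → ℂ) := by
    rw [hlam, classInner_sum_left]
    refine Finset.sum_congr rfl fun ζ _ => ?_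
    rw [classInner_smul_left, classInner_sum_right, Finset.mul_sum]
    refine Finset.sum_congr rfl fun ζ' _ => ?_
    rw [classInner_smul_right, map_intCast, classInner_regPart_right]
    ring
  have h2 : ((wform (bset e) w0 x x : ℤ) : ℂ) = (p : ℂ) ^ d * classInner lam lam := by
    rw [h1, wform_apply, Finset.mul_sum]
    push_cast
    refine Finset.sum_congr rfl fun ζ hζ => ?_
    rw [Finset.mul_sum]
    refine Finset.sum_congr rfl fun ζ' hζ' => ?_
    rw [← hw0 ζ (mem_bset.mp hζ) ζ' (mem_bset.mp hζ')]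
    ring
  rw [classInner_self_ofReal] at h2
  have h3 : ((wform (bset e) w0 x x : ℤ) : ℝ) =
      (p : ℝ) ^ d * ((Nat.card K : ℝ)⁻¹ * ∑ g : K, Complex.normSq (lam g)) := by
    apply Complex.ofReal_injective
    rw [Complex.ofReal_intCast, h2]
    push_cast
    rfl
  have h4 : (0 : ℝ) ≤ ((wform (bset e) w0 x x : ℤ) : ℝ) := by
    rw [h3]
    have : ∀ g : K, 0 ≤ Complex.normSq (lam g) := fun g => Complex.normSq_nonneg _
    have h5 : (0 : ℝ) ≤ ∑ g : K, Complex.normSq (lam g) := Finset.sum_nonneg fun g _ => this g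
    positivity
  exact_mod_cast h4

end Aux

section Sub

variable {G : Type*} [Group G] [Fintype G] {p : ℕ}
variable (C : Subgroup G) [Fintype C] (u : G) (k : ℕ) (hu : orderOf u = p ^ k)
  (hCu : ∀ c : C, u * (c : G) = (c : G) * u)
  (hcent : Subgroup.centralizer ({u} : Set G) ≤ C)

include hu hCu hcent in
/-- `∑_χ |∑_η x_η a(χ, η)|² = ∑_{η, η'} x_η x_η' [η'°, η]`. -/
theorem sum_comb_sq (hp : p.Prime) (s : Finset (IrrCharacter C)) (x : IrrCharacter C → ℤ) :
    ∑ χ : IrrCharacter G, (∑ η ∈ s, (x η : ℂ) * acoef p C u χ η) *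
        conj (∑ η ∈ s, (x η : ℂ) * acoef p C u χ η) =
      ∑ η ∈ s, ∑ η' ∈ s, (x η : ℂ) * (x η' : ℂ) *
        classInner (regPart p (η' : C → ℂ)) (η : C → ℂ) := by
  have h1 : ∀ χ : IrrCharacter G, (∑ η ∈ s, (x η : ℂ) * acoef p C u χ η) *
        conj (∑ η ∈ s, (x η : ℂ) * acoef p C u χ η) =
      ∑ η ∈ s, ∑ η' ∈ s, (x η : ℂ) * (x η' : ℂ) *
        (acoef p C u χ η * conj (acoef p C u χ η')) := by
    intro χ
    rw [map_sum, Finset.sum_mul_sum]
    refine Finset.sum_congr rfl fun η _ => Finset.sum_congr rfl fun η' _ => ?_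
    rw [map_mul, map_intCast]
    ring
  simp_rw [h1]
  rw [Finset.sum_comm]
  refine Finset.sum_congr rfl fun η _ => ?_
  rw [Finset.sum_comm]
  refine Finset.sum_congr rfl fun η' _ => ?_
  rw [← Finset.mul_sum, sum_acoef_mul C u k hu hCu hcent hp η η']

end Sub

section Maj

variable {G : Type*} [Group G] [Fintype G] {p : ℕ} {M : Ideal AlgInt}
variable (C : Subgroup G) [Fintype C] (y : G) (hyC : y ∈ C)
  (cc : IrrCharacter C → ℂ)
  (hcc : ∀ (ζ : IrrCharacter C) (a : C), (ζ : C → ℂ) (⟨y, hyC⟩ * a) = cc ζ * (ζ : C → ℂ) a)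
  (nn : IrrCharacter G → IrrCharacter C → ℕ)
  (hnn : ∀ χ : IrrCharacter G, (fun c : C => (χ : G → ℂ) (c : G)) =
    ∑ ζ : IrrCharacter C, (nn χ ζ : ℂ) • (ζ : C → ℂ))

include hcc hnn in
/-- The contribution matrices in terms of the weight form. -/
theorem pow_mul_gmat_eq (hM : IsPModular p M) {b : Set (IrrCharacter C)} (he : IsPBlock M b)
    (w0 : IrrCharacter C → IrrCharacter C → ℤ)
    (hw0 : ∀ ζ ∈ b, ∀ ζ' ∈ b, ((p : ℂ) ^ blockDefect p b) *
      classInner (regPart p (ζ : C → ℂ)) (ζ' : C → ℂ) = (w0 ζ ζ' : ℂ))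
    (χ ψ : IrrCharacter G) (j : ℕ) :
    ((p : ℂ) ^ blockDefect p b) * gmat p C (y ^ j) b χ ψ =
      ∑ ζ ∈ bset b, ∑ ζ' ∈ bset b,
        ((wform (bset b) w0 (Pi.single ζ ((nn χ ζ : ℕ) : ℤ))
          (Pi.single ζ' ((nn ψ ζ' : ℕ) : ℤ)) : ℤ) : ℂ) * (cc ζ * conj (cc ζ')) ^ j := by
  classical
  rw [gmat_pow_eq C y hyC cc hcc nn hnn hM he χ ψ j, Finset.mul_sum]
  refine Finset.sum_congr rfl fun ζ hζ => ?_
  rw [Finset.mul_sum]
  refine Finset.sum_congr rfl fun ζ' hζ' => ?_
  rw [wform_single (bset b) w0 hζ hζ', ← mul_assoc, mul_comm ((p : ℂ) ^ blockDefect p b)]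
  push_cast
  rw [← hw0 ζ (mem_bset.mp hζ) ζ' (mem_bset.mp hζ')]
  ring

include hcc hnn in
/-- Integral combinations of a column as cyclotomic integers. -/
theorem pow_mul_comb_eq (hM : IsPModular p M) {b : Set (IrrCharacter C)} (he : IsPBlock M b)
    (w0 : IrrCharacter C → IrrCharacter C → ℤ)
    (hw0 : ∀ ζ ∈ b, ∀ ζ' ∈ b, ((p : ℂ) ^ blockDefect p b) *
      classInner (regPart p (ζ : C → ℂ)) (ζ' : C → ℂ) = (w0 ζ ζ' : ℂ))
    (x : IrrCharacter C → ℤ) (χ : IrrCharacter G) (j : ℕ) :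
    ((p : ℂ) ^ blockDefect p b) * ∑ η ∈ bset b, (x η : ℂ) * acoef p C (y ^ j) χ η =
      ∑ ζ ∈ bset b, ((((nn χ ζ : ℕ) : ℤ) * ∑ η ∈ bset b, x η * w0 ζ η : ℤ) : ℂ) * cc ζ ^ j := by
  classical
  rw [Finset.mul_sum]
  have h1 : ∀ η ∈ bset b, ((p : ℂ) ^ blockDefect p b) * ((x η : ℂ) * acoef p C (y ^ j) χ η) =
      ∑ ζ ∈ bset b, (x η : ℂ) * ((nn χ ζ : ℂ) * cc ζ ^ j * (w0 ζ η : ℂ)) := by
    intro η hη
    rw [← Finset.mul_sum, ← pow_mul_acoef_eq C y hyC cc hcc nn hnn hM he w0 hw0 χ j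
      (mem_bset.mp hη)]
    ring
  rw [Finset.sum_congr rfl h1, Finset.sum_comm]
  refine Finset.sum_congr rfl fun ζ _ => ?_
  push_cast
  rw [Finset.mul_sum, Finset.sum_mul]
  refine Finset.sum_congr rfl fun η _ => ?_
  ring

end Maj

/-- The absolute square of a cyclotomic sum as a double sum. -/
theorem sum_mul_conj_sum {ι : Type*} (s : Finset ι) (a : ι → ℤ) (ε : ι → ℂ) (j : ℕ) :
    (∑ i ∈ s, (a i : ℂ) * ε i ^ j) * conj (∑ i ∈ s, (a i : ℂ) * ε i ^ j) =
      ∑ i ∈ s, ∑ i' ∈ s, ((LinearMap.mul ℤ ℤ (a i) (a i') : ℤ) : ℂ) *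
        (ε i * conj (ε i')) ^ j := by
  rw [map_sum, Finset.sum_mul_sum]
  refine Finset.sum_congr rfl fun i _ => Finset.sum_congr rfl fun i' _ => ?_
  rw [LinearMap.mul_apply', map_mul, map_pow, map_intCast, mul_pow]
  push_cast
  ring

/-- Let B be a p-block of the finite group G (relative to a maximal ideal M of the algebraic integers containing p) of defect d with defect group D. Let z be an element of D commuting with every element of D, and let b be a block of the centralizer C of z with defect group D that induces B (a major subsection (z, b)). If b has p-regular rank at most two, then B contains at most p ^ d irreducible characters. -/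
theorem result {G : Type*} [Group G] [Finite G] (p : ℕ) [Fact p.Prime] (M : Ideal Cfsg.AlgInt) (hM : Cfsg.IsPModular p M) (B : Set (Cfsg.IrrCharacter G)) (hB : Cfsg.IsPBlock M B) (D : Subgroup G) (hD : Cfsg.IsDefectGroup p M B D) (z : G) (hzD : z ∈ D) (hzc : ∀ d ∈ D, d * z = z * d) (b : Set (Cfsg.IrrCharacter ↥(Subgroup.centralizer ({z} : Set G)))) (hb : Cfsg.IsInducedBlock M (Subgroup.centralizer ({z} : Set G)) b B) (hbD : Cfsg.IsDefectGroup p M b (D.subgroupOf (Subgroup.centralizer ({z} : Set G)))) (hl : Cfsg.blockRank p b ≤ 2) : Nat.card B ≤ p ^ Cfsg.blockDefect p B := by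
  classical
  have := Fintype.ofFinite G
  have := Fintype.ofFinite (Subgroup.centralizer ({z} : Set G))
  have hp : p.Prime := Fact.out
  have hM' := isPrime_of_isPModular hM
  have hpi : Prime (p : ℤ) := Nat.prime_iff_prime_int.mp hp
  -- defect bookkeeping
  obtain ⟨hDp, hDcard⟩ := Cfsg.Agent.Lib.Helper77_CentralDefect.card_of_isDefectGroup hM hB hD
  obtain ⟨-, hbcard⟩ := Cfsg.Agent.Lib.Helper77_CentralDefect.card_of_isDefectGroup hM hb.1 hbD
  have hDle : D ≤ Subgroup.centralizer ({z} : Set G) := by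
    intro d hd
    rw [Subgroup.mem_centralizer_iff]
    intro h hh
    rw [Set.mem_singleton_iff.mp hh]
    exact (hzc d hd).symm
  have hcardeq : Nat.card (D.subgroupOf (Subgroup.centralizer ({z} : Set G))) = Nat.card D :=
    Nat.card_congr (Subgroup.subgroupOfEquivOfLe hDle).toEquiv
  have hdd : blockDefect p b = blockDefect p B := by
    apply Nat.pow_right_injective hp.two_le
    show p ^ blockDefect p b = p ^ blockDefect p B
    rw [← hbcard, ← hDcard, hcardeq]
  obtain ⟨n, hn⟩ : ∃ n : ℕ, orderOf z = p ^ n := by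
    obtain ⟨k, hk⟩ := hDp ⟨z, hzD⟩
    have h1 : z ^ (p ^ k) = 1 := by
      have := congrArg Subtype.val hk
      simpa using this
    obtain ⟨m, -, hm⟩ := (Nat.dvd_prime_pow hp).mp (orderOf_dvd_of_pow_eq_one h1)
    exact ⟨m, hm⟩
  have hIG : RegInt G p :=
    regInt_of_brauerLocal hp (fun q hq _ => Cfsg.Agent.S0874.result q hq)
  have hIC : RegInt (Subgroup.centralizer ({z} : Set G)) p :=
    regInt_of_brauerLocal hp (fun q hq _ => Cfsg.Agent.S0874.result q hq)
  have hyC : z ∈ Subgroup.centralizer ({z} : Set G) := by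
    rw [Subgroup.mem_centralizer_iff]
    intro h hh
    rw [Set.mem_singleton_iff.mp hh]
  have hcomm : ∀ c : Subgroup.centralizer ({z} : Set G), z * (c : G) = (c : G) * z :=
    fun c => Subgroup.mem_centralizer_iff.mp c.2 z (Set.mem_singleton z)
  have hzcen : (⟨z, hyC⟩ : Subgroup.centralizer ({z} : Set G)) ∈
      Submonoid.center (Subgroup.centralizer ({z} : Set G)) := by
    rw [Submonoid.mem_center_iff]
    intro g
    apply Subtype.ext
    push_cast
    exact (hcomm g).symm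
  have hzord : orderOf (⟨z, hyC⟩ : Subgroup.centralizer ({z} : Set G)) = p ^ n := by
    rw [← hn]
    exact Subgroup.orderOf_mk z hyC
  -- the scalars
  have hccex : ∀ ζ : IrrCharacter (Subgroup.centralizer ({z} : Set G)), ∃ c : ℂ,
      ∀ a : Subgroup.centralizer ({z} : Set G),
        (ζ : Subgroup.centralizer ({z} : Set G) → ℂ) (⟨z, hyC⟩ * a) =
          c * (ζ : Subgroup.centralizer ({z} : Set G) → ℂ) a := by
    intro ζ
    obtain ⟨c, _, hc⟩ := exists_scalar_of_central_pElement hM ζ ⟨z, hyC⟩ hzcen n hzord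
    exact ⟨c, hc⟩
  choose cc hcc using hccex
  have hcc1 : ∀ ζ : IrrCharacter (Subgroup.centralizer ({z} : Set G)), cc ζ ^ (p ^ n) = 1 := by
    intro ζ
    have h1 := irr_pow_mul (Subgroup.centralizer ({z} : Set G)) z hyC cc hcc ζ (p ^ n) 1
    rw [← hzord, pow_orderOf_eq_one, one_mul, hzord] at h1
    have hne : (ζ : Subgroup.centralizer ({z} : Set G) → ℂ) 1 ≠ 0 :=
      Cfsg.Agent.Lib.Helper78_CentralChar.isIrrCharacter_one_ne_zero ζ.2
    have h2 : (cc ζ ^ (p ^ n) - 1) * (ζ : Subgroup.centralizer ({z} : Set G) → ℂ) 1 = 0 := by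
      rw [sub_mul, one_mul, ← h1, sub_self]
    rcases mul_eq_zero.mp h2 with h | h
    · exact sub_eq_zero.mp h
    · exact absurd h hne
  -- the multiplicities
  have hnnex : ∀ χ : IrrCharacter G, ∃ m : IrrCharacter (Subgroup.centralizer ({z} : Set G)) → ℕ,
      (∀ ζ : IrrCharacter (Subgroup.centralizer ({z} : Set G)),
        classInner (fun c : Subgroup.centralizer ({z} : Set G) => (χ : G → ℂ) (c : G))
          (ζ : Subgroup.centralizer ({z} : Set G) → ℂ) = m ζ) ∧
      (fun c : Subgroup.centralizer ({z} : Set G) => (χ : G → ℂ) (c : G)) =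
        ∑ ζ : IrrCharacter (Subgroup.centralizer ({z} : Set G)),
          (m ζ : ℂ) • (ζ : Subgroup.centralizer ({z} : Set G) → ℂ) := fun χ =>
    exists_multiplicities (isCharacter_restrict (Subgroup.centralizer ({z} : Set G))
      (isCharacter_of_isIrrCharacter χ.2))
  choose nn hnn1 hnn using hnnex
  -- the units
  set U : Finset ℕ := (Finset.range (p ^ n)).filter (fun j => j.Coprime (p ^ n)) with hU
  have hUcard : U.card = (p ^ n).totient := by
    rw [Nat.totient_eq_card_coprime, hU]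
    congr 1
    refine Finset.filter_congr fun j _ => ?_
    exact Nat.coprime_comm
  have hφ : (0 : ℝ) < ((p ^ n).totient : ℝ) := by
    exact_mod_cast Nat.totient_pos.mpr (pow_pos hp.pos n)
  have hUne : U.Nonempty := by
    rw [← Finset.card_pos, hUcard]
    exact Nat.totient_pos.mpr (pow_pos hp.pos n)
  have hjfacts : ∀ j ∈ U, orderOf (z ^ j) = p ^ n ∧
      (∀ c : Subgroup.centralizer ({z} : Set G), z ^ j * (c : G) = (c : G) * z ^ j) ∧
      Subgroup.centralizer ({z ^ j} : Set G) ≤ Subgroup.centralizer ({z} : Set G) := by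
    intro j hj
    have hjc : j.Coprime (p ^ n) := (Finset.mem_filter.mp hj).2
    refine ⟨?_, ?_, ?_⟩
    · rw [← hn]
      apply Nat.Coprime.orderOf_pow
      rw [hn]
      exact hjc.symm
    · exact fun c => ((Commute.pow_left (hcomm c) j)).eq
    · intro g hg
      rw [Subgroup.mem_centralizer_iff] at hg ⊢
      intro h hh
      rw [Set.mem_singleton_iff.mp hh]
      obtain ⟨m, hm⟩ := exists_pow_eq_self_of_coprime (x := z) (n := j) (by rw [hn]; exact hjc)
      have h1 : (z ^ j) * g = g * (z ^ j) := hg (z ^ j) (Set.mem_singleton _)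
      have h2 : Commute (z ^ j) g := h1
      have h3 := (h2.pow_left m).eq
      rwa [hm] at h3
  -- the weights
  obtain ⟨w0, δ, R, hsym, hw0, hrank, hDu, hRu⟩ :=
    exists_weights_full (Subgroup.centralizer ({z} : Set G)) nn hnn1 hp hM hIG hIC hb
  have hβsym : ∀ x y, wform (bset b) w0 x y = wform (bset b) w0 y x :=
    wform_symm (bset b) hsym
  have hβpsd : ∀ x, 0 ≤ wform (bset b) w0 x x := wform_psd (blockDefect p b) w0 hw0
  have hmC : ¬ (p : ℤ) ∣ (mPrime (Subgroup.centralizer ({z} : Set G)) p : ℤ) := fun h =>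
    not_dvd_mPrime (G := Subgroup.centralizer ({z} : Set G)) hp (Int.natCast_dvd_natCast.mp h)
  have hrank' : ∀ ζ ∈ bset b, ∀ ζ' ∈ bset b, (p : ℤ) ∣
      (mPrime (Subgroup.centralizer ({z} : Set G)) p : ℤ) * w0 ζ ζ' - δ ζ * R ζ' :=
    fun ζ hζ ζ' hζ' => hrank ζ (mem_bset.mp hζ) ζ' (mem_bset.mp hζ')
  obtain ⟨χ', hχ', h0χ'⟩ := exists_height_zero_mem (p := p) (isPBlock_nonempty hM' hB)
  have hpd : (0 : ℝ) < (p : ℝ) ^ blockDefect p b := pow_pos (by exact_mod_cast hp.pos) _
  by_cases hrep : ∃ x : IrrCharacter (Subgroup.centralizer ({z} : Set G)) → ℤ,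
      wform (bset b) w0 x x = 1
  · -- the form represents `1`
    obtain ⟨x₁, hx₁⟩ := hrep
    have hRx : ¬ (p : ℤ) ∣ ∑ ζ ∈ bset b, x₁ ζ * R ζ := by
      refine not_dvd_R (bset b) w0 hpi _ hmC δ R hrank' x₁ x₁ ?_
      rw [hx₁]
      exact hpi.not_dvd_one
    have hxB : ¬ (p : ℤ) ∣ ∑ ζ ∈ bset b, ∑ η ∈ bset b,
        ((nn χ' ζ : ℕ) : ℤ) * x₁ η * w0 ζ η := by
      have := not_dvd_wform (bset b) w0 hpi _ δ R hrank' (fun ζ => ((nn χ' ζ : ℕ) : ℤ)) x₁
        (hDu χ' hχ' h0χ') hRx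
      rwa [wform_apply] at this
    have hne : ∀ χ ∈ bset B, ∀ j ∈ U,
        ∑ η ∈ bset b, (x₁ η : ℂ) * acoef p (Subgroup.centralizer ({z} : Set G)) (z ^ j) χ η ≠ 0 := by
      intro χ hχ j hj
      obtain ⟨hord, hCu, hcent⟩ := hjfacts j hj
      exact sum_acoef_ne_zero (Subgroup.centralizer ({z} : Set G)) z hyC cc hcc nn hnn hM hb hdd
        w0 hw0 n hcc1 j n hord hCu hcent x₁ hχ' h0χ' hxB (mem_bset.mp hχ)
    have hbound : ∀ χ ∈ bset B, ((p ^ n).totient : ℝ) ≤ ∑ j ∈ U,
        Complex.normSq ((p : ℂ) ^ blockDefect p b * ∑ η ∈ bset b, (x₁ η : ℂ) *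
          acoef p (Subgroup.centralizer ({z} : Set G)) (z ^ j) χ η) := by
      intro χ hχ
      obtain ⟨S, hS, hSeq⟩ := quad_cyc_sum (LinearMap.mul ℤ ℤ) hp n (fun a b => by
          rw [LinearMap.mul_apply', LinearMap.mul_apply', mul_comm])
        (fun a => by rw [LinearMap.mul_apply']; exact mul_self_nonneg a) 1 (by norm_num)
        (fun a => by
          rw [LinearMap.mul_apply']
          by_cases ha : a = 0
          · left; rw [ha, mul_zero]
          · right
            have := mul_self_pos.mpr ha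
            omega)
        (bset b) cc hcc1
        (fun ζ => ((nn χ ζ : ℕ) : ℤ) * ∑ η ∈ bset b, x₁ η * w0 ζ η)
      have h1 : ∀ j, ∑ ζ ∈ bset b, ∑ ζ' ∈ bset b,
          ((LinearMap.mul ℤ ℤ (((nn χ ζ : ℕ) : ℤ) * ∑ η ∈ bset b, x₁ η * w0 ζ η)
            (((nn χ ζ' : ℕ) : ℤ) * ∑ η ∈ bset b, x₁ η * w0 ζ' η) : ℤ) : ℂ) *
              (cc ζ * conj (cc ζ')) ^ j =
          ((Complex.normSq ((p : ℂ) ^ blockDefect p b * ∑ η ∈ bset b, (x₁ η : ℂ) *
            acoef p (Subgroup.centralizer ({z} : Set G)) (z ^ j) χ η) : ℝ) : ℂ) := by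
        intro j
        rw [← sum_mul_conj_sum (bset b)
          (fun ζ => ((nn χ ζ : ℕ) : ℤ) * ∑ η ∈ bset b, x₁ η * w0 ζ η) cc j,
          ← pow_mul_comb_eq (Subgroup.centralizer ({z} : Set G)) z hyC cc hcc nn hnn hM hb.1 w0 hw0
            x₁ χ j, Complex.mul_conj]
      simp_rw [h1] at hSeq
      have h2 : ((S : ℤ) : ℝ) = ∑ j ∈ U,
          Complex.normSq ((p : ℂ) ^ blockDefect p b * ∑ η ∈ bset b, (x₁ η : ℂ) *
            acoef p (Subgroup.centralizer ({z} : Set G)) (z ^ j) χ η) := by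
        apply Complex.ofReal_injective
        rw [Complex.ofReal_intCast, ← hSeq]
        push_cast
        rfl
      have h3 : 0 < ∑ j ∈ U,
          Complex.normSq ((p : ℂ) ^ blockDefect p b * ∑ η ∈ bset b, (x₁ η : ℂ) *
            acoef p (Subgroup.centralizer ({z} : Set G)) (z ^ j) χ η) := by
        refine Finset.sum_pos (fun j hj => ?_) hUne
        rw [Complex.normSq_pos]
        refine mul_ne_zero (pow_ne_zero _ (by exact_mod_cast hp.ne_zero)) (hne χ hχ j hj)
      rcases hS with h0 | hge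
      · rw [h0] at h2
        simp only [Int.cast_zero] at h2
        linarith
      · rw [← h2]
        have := (Int.cast_le (R := ℝ)).mpr hge
        push_cast at this
        linarith
    have htot : ∀ j ∈ U, ∑ χ ∈ bset B,
        Complex.normSq ((p : ℂ) ^ blockDefect p b * ∑ η ∈ bset b, (x₁ η : ℂ) *
          acoef p (Subgroup.centralizer ({z} : Set G)) (z ^ j) χ η) ≤
        (p : ℝ) ^ blockDefect p b := by
      intro j hj
      obtain ⟨hord, hCu, hcent⟩ := hjfacts j hj
      have h1 : ∑ χ ∈ bset B,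
          Complex.normSq ((p : ℂ) ^ blockDefect p b * ∑ η ∈ bset b, (x₁ η : ℂ) *
            acoef p (Subgroup.centralizer ({z} : Set G)) (z ^ j) χ η) ≤
          ∑ χ : IrrCharacter G,
          Complex.normSq ((p : ℂ) ^ blockDefect p b * ∑ η ∈ bset b, (x₁ η : ℂ) *
            acoef p (Subgroup.centralizer ({z} : Set G)) (z ^ j) χ η) :=
        Finset.sum_le_sum_of_subset_of_nonneg (Finset.subset_univ _)
          fun χ _ _ => Complex.normSq_nonneg _
      refine h1.trans (le_of_eq ?_)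
      apply Complex.ofReal_injective
      push_cast
      simp_rw [← Complex.mul_conj, map_mul, map_pow, Complex.conj_natCast]
      have h2 : ∀ χ : IrrCharacter G,
          (p : ℂ) ^ blockDefect p b * (∑ η ∈ bset b, (x₁ η : ℂ) *
            acoef p (Subgroup.centralizer ({z} : Set G)) (z ^ j) χ η) *
          ((p : ℂ) ^ blockDefect p b * conj (∑ η ∈ bset b, (x₁ η : ℂ) *
            acoef p (Subgroup.centralizer ({z} : Set G)) (z ^ j) χ η)) =
          (p : ℂ) ^ blockDefect p b * ((p : ℂ) ^ blockDefect p b *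
            ((∑ η ∈ bset b, (x₁ η : ℂ) *
              acoef p (Subgroup.centralizer ({z} : Set G)) (z ^ j) χ η) *
            conj (∑ η ∈ bset b, (x₁ η : ℂ) *
              acoef p (Subgroup.centralizer ({z} : Set G)) (z ^ j) χ η))) := by
        intro χ
        ring
      simp_rw [h2]
      rw [← Finset.mul_sum, ← Finset.mul_sum,
        sum_comb_sq (Subgroup.centralizer ({z} : Set G)) (z ^ j) n hord hCu hcent hp (bset b) x₁]
      have h3 : (p : ℂ) ^ blockDefect p b * ∑ η ∈ bset b, ∑ η' ∈ bset b,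
          (x₁ η : ℂ) * (x₁ η' : ℂ) * classInner
            (regPart p (η' : Subgroup.centralizer ({z} : Set G) → ℂ))
            (η : Subgroup.centralizer ({z} : Set G) → ℂ) =
          ((wform (bset b) w0 x₁ x₁ : ℤ) : ℂ) := by
        rw [wform_apply, Finset.mul_sum, Finset.sum_comm]
        push_cast
        refine Finset.sum_congr rfl fun η' hη' => ?_
        rw [Finset.mul_sum]
        refine Finset.sum_congr rfl fun η hη => ?_
        rw [← hw0 η (mem_bset.mp hη) η' (mem_bset.mp hη')]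
        ring
      rw [h3, hx₁]
      push_cast
      ring
    have hsum : ((bset B).card : ℝ) * ((p ^ n).totient : ℝ) ≤
        ((p ^ n).totient : ℝ) * (p : ℝ) ^ blockDefect p b := by
      have h1 := Finset.sum_le_sum hbound
      rw [Finset.sum_const, nsmul_eq_mul, Finset.sum_comm] at h1
      have h2 := Finset.sum_le_sum htot
      rw [Finset.sum_const, nsmul_eq_mul, hUcard] at h2
      exact h1.trans h2
    have hfin : ((bset B).card : ℝ) ≤ (p : ℝ) ^ blockDefect p b := by
      have : ((bset B).card : ℝ) * ((p ^ n).totient : ℝ) ≤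
          (p : ℝ) ^ blockDefect p b * ((p ^ n).totient : ℝ) := by linarith
      exact le_of_mul_le_mul_right this hφ
    rw [← card_bset, ← hdd]
    exact_mod_cast hfin
  · -- the form does not represent `1`
    push Not at hrep
    have hc2 : ∀ x, wform (bset b) w0 x x = 0 ∨ (2 : ℤ) ≤ wform (bset b) w0 x x := by
      intro x
      have h1 := hβpsd x
      have h2 := hrep x
      omega
    have hxA : ¬ (p : ℤ) ∣ ∑ ζ ∈ bset b, ∑ η ∈ bset b,
        ((nn χ' ζ : ℕ) : ℤ) * ((nn χ' η : ℕ) : ℤ) * w0 ζ η := by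
      have := not_dvd_wform (bset b) w0 hpi _ δ R hrank' (fun ζ => ((nn χ' ζ : ℕ) : ℤ))
        (fun ζ => ((nn χ' ζ : ℕ) : ℤ)) (hDu χ' hχ' h0χ') (hRu χ' hχ' h0χ')
      rwa [wform_apply] at this
    have hpos : ∀ χ ∈ bset B, ∀ j ∈ U, 0 < ∑ η ∈ bset b,
        Complex.normSq (acoef p (Subgroup.centralizer ({z} : Set G)) (z ^ j) χ η) := by
      intro χ hχ j hj
      obtain ⟨hord, hCu, hcent⟩ := hjfacts j hj
      have hne := sum_acoef_ne_zero (Subgroup.centralizer ({z} : Set G)) z hyC cc hcc nn hnn hM hb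
        hdd w0 hw0 n hcc1 j n hord hCu hcent (fun η => ((nn χ' η : ℕ) : ℤ)) hχ' h0χ' hxA
        (mem_bset.mp hχ)
      by_contra hle
      have hzero : ∑ η ∈ bset b,
          Complex.normSq (acoef p (Subgroup.centralizer ({z} : Set G)) (z ^ j) χ η) = 0 :=
        le_antisymm (not_lt.mp hle) (Finset.sum_nonneg fun η _ => Complex.normSq_nonneg _)
      apply hne
      refine Finset.sum_eq_zero fun η hη => ?_
      have := (Finset.sum_eq_zero_iff_of_nonneg (fun η _ => Complex.normSq_nonneg _)).mp hzero η hη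
      rw [Complex.normSq_eq_zero.mp this, mul_zero]
    have hbound : ∀ χ ∈ bset B, 2 * ((p ^ n).totient : ℝ) ≤ ∑ j ∈ U,
        (p : ℝ) ^ blockDefect p b * ∑ η ∈ bset b,
          Complex.normSq (acoef p (Subgroup.centralizer ({z} : Set G)) (z ^ j) χ η) := by
      intro χ hχ
      obtain ⟨S, hS, hSeq⟩ := quad_cyc_sum (wform (bset b) w0) hp n hβsym hβpsd 2 (by norm_num)
        hc2 (bset b) cc hcc1 (fun ζ => Pi.single ζ ((nn χ ζ : ℕ) : ℤ))
      have h1 : ∀ j, ∑ ζ ∈ bset b, ∑ ζ' ∈ bset b,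
          ((wform (bset b) w0 (Pi.single ζ ((nn χ ζ : ℕ) : ℤ))
            (Pi.single ζ' ((nn χ ζ' : ℕ) : ℤ)) : ℤ) : ℂ) * (cc ζ * conj (cc ζ')) ^ j =
          (((p : ℝ) ^ blockDefect p b * ∑ η ∈ bset b,
            Complex.normSq (acoef p (Subgroup.centralizer ({z} : Set G)) (z ^ j) χ η) : ℝ) : ℂ) := by
        intro j
        rw [← pow_mul_gmat_eq (Subgroup.centralizer ({z} : Set G)) z hyC cc hcc nn hnn hM hb.1 w0
          hw0 χ χ j, gmat_self]
        push_cast
        rfl
      simp_rw [h1] at hSeq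
      have h2 : ((S : ℤ) : ℝ) = ∑ j ∈ U, (p : ℝ) ^ blockDefect p b * ∑ η ∈ bset b,
          Complex.normSq (acoef p (Subgroup.centralizer ({z} : Set G)) (z ^ j) χ η) := by
        apply Complex.ofReal_injective
        rw [Complex.ofReal_intCast, ← hSeq]
        push_cast
        rfl
      have h3 : 0 < ∑ j ∈ U, (p : ℝ) ^ blockDefect p b * ∑ η ∈ bset b,
          Complex.normSq (acoef p (Subgroup.centralizer ({z} : Set G)) (z ^ j) χ η) :=
        Finset.sum_pos (fun j hj => mul_pos hpd (hpos χ hχ j hj)) hUne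
      rcases hS with h0 | hge
      · rw [h0] at h2
        simp only [Int.cast_zero] at h2
        linarith
      · rw [← h2]
        have := (Int.cast_le (R := ℝ)).mpr hge
        push_cast at this
        linarith
    have htot : ∀ j ∈ U, ∑ χ ∈ bset B, (p : ℝ) ^ blockDefect p b * ∑ η ∈ bset b,
        Complex.normSq (acoef p (Subgroup.centralizer ({z} : Set G)) (z ^ j) χ η) =
        (p : ℝ) ^ blockDefect p b * (blockRank p b : ℝ) := by
      intro j hj
      obtain ⟨hord, hCu, hcent⟩ := hjfacts j hj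
      rw [← Finset.mul_sum]
      congr 1
      apply Complex.ofReal_injective
      have h1 := sum_bset_gmat_self (Subgroup.centralizer ({z} : Set G)) (z ^ j) n hord hCu hcent
        hM hb
      simp_rw [gmat_self] at h1
      push_cast
      push_cast at h1
      exact h1
    have hsum : ((bset B).card : ℝ) * (2 * ((p ^ n).totient : ℝ)) ≤
        ((p ^ n).totient : ℝ) * ((p : ℝ) ^ blockDefect p b * (blockRank p b : ℝ)) := by
      have h1 := Finset.sum_le_sum hbound
      rw [Finset.sum_const, nsmul_eq_mul, Finset.sum_comm, Finset.sum_congr rfl htot,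
        Finset.sum_const, nsmul_eq_mul, hUcard] at h1
      exact h1
    have hl' : (blockRank p b : ℝ) ≤ 2 := by exact_mod_cast hl
    have hfin : ((bset B).card : ℝ) ≤ (p : ℝ) ^ blockDefect p b := by
      have h5 : ((p ^ n).totient : ℝ) * ((p : ℝ) ^ blockDefect p b * (blockRank p b : ℝ)) ≤
          ((p ^ n).totient : ℝ) * ((p : ℝ) ^ blockDefect p b * 2) :=
        mul_le_mul_of_nonneg_left (mul_le_mul_of_nonneg_left hl' hpd.le) hφ.le
      have : ((bset B).card : ℝ) * (2 * ((p ^ n).totient : ℝ)) ≤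
          (p : ℝ) ^ blockDefect p b * (2 * ((p ^ n).totient : ℝ)) := by linarith
      exact le_of_mul_le_mul_right this (by linarith)
    rw [← card_bset, ← hdd]
    exact_mod_cast hfin

end Cfsg.Agent.S4539
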