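import Cfsg.Statements.S4540
import Cfsg.Agent.Lib.Helper57_MajorSetup
import Cfsg.Agent.Lib.Helper57_TwoBlockCount

set_option autoImplicit false
open Cfsg
open Cfsg.Agent.Lib.Helper57_BrauerFeit Cfsg.Agent.Lib.Helper57_MajorSetup
  Cfsg.Agent.Lib.Helper57_TwoBlockCount

namespace Cfsg.Agent.S4540

/-- The final count. -/
theorem counting {G : Type*} [Group G] [Fintype G] (B : Set (IrrCharacter G)) (db dB : ℕ)
    (hdd : db = dB) (l : ℕ) (hl : l ≤ 3) (τ : IrrCharacter G → ℤ)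
    (hτpos : ∀ χ ∈ B, 0 < τ χ)
    (hτdvd : ∀ χ ∈ B, 1 ≤ blockHeight 2 B (χ : G → ℂ) →
      (2 : ℤ) ^ (blockHeight 2 B (χ : G → ℂ) + 1) ∣ τ χ)
    (hτodd : ∀ χ ∈ B, blockHeight 2 B (χ : G → ℂ) = 0 → ¬ (2 : ℤ) ∣ τ χ)
    (hτsum : ∑ χ ∈ bset B, τ χ = 2 ^ db * (l : ℤ))
    (hcase : (∀ χ ∈ B, blockHeight 2 B (χ : G → ℂ) = 0 → τ χ ≠ 1) ∨
      ∑ χ ∈ bset B, (4 : ℝ) ^ blockHeight 2 B (χ : G → ℂ) ≤ (2 : ℝ) ^ db) :
    3 * Nat.card B ≤ 3 * Nat.card {χ : Cfsg.IrrCharacter G // χ ∈ B ∧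
        Cfsg.blockHeight 2 B (χ : G → ℂ) = 0} +
      2 * (∑ᶠ χ ∈ {χ : Cfsg.IrrCharacter G | χ ∈ B ∧ 1 ≤ Cfsg.blockHeight 2 B (χ : G → ℂ)},
        2 ^ Cfsg.blockHeight 2 B (χ : G → ℂ)) ∧
    3 * Nat.card {χ : Cfsg.IrrCharacter G // χ ∈ B ∧ Cfsg.blockHeight 2 B (χ : G → ℂ) = 0} +
      2 * (∑ᶠ χ ∈ {χ : Cfsg.IrrCharacter G | χ ∈ B ∧ 1 ≤ Cfsg.blockHeight 2 B (χ : G → ℂ)},
        2 ^ Cfsg.blockHeight 2 B (χ : G → ℂ)) ≤ 3 * 2 ^ dB := by
  classical
  subst hdd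
  set hgt : IrrCharacter G → ℕ := fun χ => blockHeight 2 B (χ : G → ℂ) with hhgt
  set f : IrrCharacter G → ℕ := fun χ => if hgt χ = 0 then 3 else 2 * 2 ^ hgt χ with hf
  -- rewriting the goal in terms of `f`
  have hk0 : Nat.card {χ : Cfsg.IrrCharacter G // χ ∈ B ∧ Cfsg.blockHeight 2 B (χ : G → ℂ) = 0} =
      ((bset B).filter (fun χ => hgt χ = 0)).card := by
    rw [Nat.card_eq_fintype_card, Fintype.card_subtype]
    congr 1
    ext χ
    simp [mem_bset, hhgt]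
  have hS1 : (∑ᶠ χ ∈ {χ : Cfsg.IrrCharacter G | χ ∈ B ∧ 1 ≤ Cfsg.blockHeight 2 B (χ : G → ℂ)},
      2 ^ Cfsg.blockHeight 2 B (χ : G → ℂ)) =
      ∑ χ ∈ (bset B).filter (fun χ => ¬ hgt χ = 0), 2 ^ hgt χ := by
    have hset : {χ : Cfsg.IrrCharacter G | χ ∈ B ∧ 1 ≤ Cfsg.blockHeight 2 B (χ : G → ℂ)} =
        ↑((bset B).filter (fun χ => ¬ hgt χ = 0)) := by
      ext χ
      simp only [Set.mem_ofPred_eq, Finset.coe_filter, mem_bset, hhgt]
      constructor
      · rintro ⟨h1, h2⟩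
        exact ⟨h1, by omega⟩
      · rintro ⟨h1, h2⟩
        exact ⟨h1, by omega⟩
    rw [hset, finsum_mem_coe_finset]
  have hsumf : ∑ χ ∈ bset B, f χ = 3 * ((bset B).filter (fun χ => hgt χ = 0)).card +
      2 * ∑ χ ∈ (bset B).filter (fun χ => ¬ hgt χ = 0), 2 ^ hgt χ := by
    rw [hf, Finset.sum_ite, Finset.sum_const, smul_eq_mul, Finset.mul_sum]
    ring
  rw [hk0, hS1, ← hsumf, ← card_bset]
  refine ⟨?_, ?_⟩
  · -- `3 k ≤ ∑ f`
    have h1 : ∑ χ ∈ bset B, 3 ≤ ∑ χ ∈ bset B, f χ := by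
      refine Finset.sum_le_sum fun χ _ => ?_
      rw [hf]
      simp only
      split_ifs with h
      · exact le_rfl
      · have : 2 ≤ 2 ^ hgt χ := by
          calc 2 = 2 ^ 1 := by norm_num
            _ ≤ 2 ^ hgt χ := Nat.pow_le_pow_right (by norm_num) (by omega)
        omega
    rw [Finset.sum_const, smul_eq_mul] at h1
    omega
  · -- `∑ f ≤ 3 · 2^d`
    rcases hcase with hA | hB
    · have h1 : ∀ χ ∈ bset B, (f χ : ℤ) ≤ τ χ := by
        intro χ hχ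
        have hχB := mem_bset.mp hχ
        rw [hf]
        simp only
        split_ifs with h
        · have h1 := hτpos χ hχB
          have h2 := hτodd χ hχB h
          have h3 := hA χ hχB h
          push_cast
          omega
        · have h1 := hτpos χ hχB
          have h2 := hτdvd χ hχB (by show 1 ≤ hgt χ; omega)
          have h3 := Int.le_of_dvd h1 h2
          push_cast
          rw [pow_succ] at h3
          show (2 : ℤ) * 2 ^ hgt χ ≤ τ χ
          linarith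
      have h2 : ((∑ χ ∈ bset B, f χ : ℕ) : ℤ) ≤ ∑ χ ∈ bset B, τ χ := by
        push_cast
        exact Finset.sum_le_sum h1
      rw [hτsum] at h2
      have h3 : (2 : ℤ) ^ db * (l : ℤ) ≤ 2 ^ db * 3 :=
        mul_le_mul_of_nonneg_left (by exact_mod_cast hl) (by positivity)
      have h4 : ((∑ χ ∈ bset B, f χ : ℕ) : ℤ) ≤ ((3 * 2 ^ db : ℕ) : ℤ) := by
        push_cast
        push_cast at h2
        linarith
      exact_mod_cast h4
    · have h1 : ∀ χ ∈ bset B, (f χ : ℝ) ≤ 3 * (4 : ℝ) ^ hgt χ := by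
        intro χ _
        rw [hf]
        simp only
        split_ifs with h
        · rw [h]
          norm_num
        · have h2 : (2 : ℝ) ^ hgt χ ≤ (4 : ℝ) ^ hgt χ :=
            pow_le_pow_left₀ (by norm_num) (by norm_num) _
          have h3 : (0 : ℝ) < 2 ^ hgt χ := by positivity
          push_cast
          linarith
      have h2 : ((∑ χ ∈ bset B, f χ : ℕ) : ℝ) ≤ 3 * ∑ χ ∈ bset B, (4 : ℝ) ^ hgt χ := by
        push_cast
        rw [Finset.mul_sum]
        exact Finset.sum_le_sum h1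
      have hB' : ∑ χ ∈ bset B, (4 : ℝ) ^ hgt χ ≤ (2 : ℝ) ^ db := hB
      have h3 : ((∑ χ ∈ bset B, f χ : ℕ) : ℝ) ≤ ((3 * 2 ^ db : ℕ) : ℝ) := by
        push_cast
        push_cast at h2
        linarith
      exact_mod_cast h3

/-- Let B be a 2-block of the finite group G (relative to a maximal ideal M of the algebraic integers containing 2) of defect d with defect group D. Let z be an element of D commuting with every element of D, and let b be a block of the centralizer C of z with defect group D that induces B (a major subsection (z, b)). If b has 2-regular rank at most three, then 3·k(B) ≤ 3·k₀(B) + 2·Σ 2 ^ h(χ), where k(B) is the number of members of B, k₀(B) the number of members of height zero, and the sum runs over the members χ of B of positive height h(χ); this bound is at most 3·2 ^ d, so in particular B contains at most 2 ^ d irreducible characters. -/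
theorem result {G : Type*} [Group G] [Finite G] (M : Ideal Cfsg.AlgInt) (hM : Cfsg.IsPModular 2 M) (B : Set (Cfsg.IrrCharacter G)) (hB : Cfsg.IsPBlock M B) (D : Subgroup G) (hD : Cfsg.IsDefectGroup 2 M B D) (z : G) (hzD : z ∈ D) (hzc : ∀ d ∈ D, d * z = z * d) (b : Set (Cfsg.IrrCharacter ↥(Subgroup.centralizer ({z} : Set G)))) (hb : Cfsg.IsInducedBlock M (Subgroup.centralizer ({z} : Set G)) b B) (hbD : Cfsg.IsDefectGroup 2 M b (D.subgroupOf (Subgroup.centralizer ({z} : Set G)))) (hl : Cfsg.blockRank 2 b ≤ 3) : 3 * Nat.card B ≤ 3 * Nat.card {χ : Cfsg.IrrCharacter G // χ ∈ B ∧ Cfsg.blockHeight 2 B (χ : G → ℂ) = 0} + 2 * (∑ᶠ χ ∈ {χ : Cfsg.IrrCharacter G | χ ∈ B ∧ 1 ≤ Cfsg.blockHeight 2 B (χ : G → ℂ)}, 2 ^ Cfsg.blockHeight 2 B (χ : G → ℂ)) ∧ 3 * Nat.card {χ : Cfsg.IrrCharacter G // χ ∈ B ∧ Cfsg.blockHeight 2 B (χ : G → ℂ) = 0} + 2 * (∑ᶠ χ ∈ {χ : Cfsg.IrrCharacter G | χ ∈ B ∧ 1 ≤ Cfsg.blockHeight 2 B (χ : G → ℂ)},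 2 ^ Cfsg.blockHeight 2 B (χ : G → ℂ)) ≤ 3 * 2 ^ Cfsg.blockDefect 2 B := by
  classical
  have := Fintype.ofFinite G
  have := Fintype.ofFinite (Subgroup.centralizer ({z} : Set G))
  have : Fact (2 : ℕ).Prime := ⟨Nat.prime_two⟩
  obtain ⟨hdd, n, hyC, cc, nn, w0, δ, R, hn, hcomm, hcc, hcc1, hnn, hjfacts, hsym, hw0, hβpsd,
    hrank', hDu, hRu⟩ := major_setup 2 M hM B hB D hD z hzD hzc b hb hbD
  obtain ⟨τ, hτpos, hτdvd, hτodd, -, hτsum, hcase⟩ :=
    count_main (Subgroup.centralizer ({z} : Set G)) z hyC cc hcc nn hnn rfl hM hb hdd w0 hw0 hsym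
      hβpsd δ R hrank' n hcc1 hn hcomm le_rfl hjfacts hDu hRu
  exact counting B (blockDefect 2 b) (blockDefect 2 B) hdd (blockRank 2 b) hl τ hτpos hτdvd hτodd
    hτsum hcase

end Cfsg.Agent.S4540
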