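import Cfsg.Statements.S4541
import Cfsg.Agent.Lib.Helper57_CycDecomp
import Cfsg.Agent.Lib.Helper57_ContribRow
import Cfsg.Agent.Lib.Helper57_DiagTrace
import Cfsg.Agent.Lib.Helper57_CycSum
import Cfsg.Agent.S0874

set_option autoImplicit false
open Cfsg
open scoped ComplexConjugate
open Cfsg.Agent.Lib.Helper3_CharBridge Cfsg.Agent.Lib.Helper75_CharArith
  Cfsg.Agent.Lib.Helper57_PRegInt
  Cfsg.Agent.Lib.Helper57_HeightZero Cfsg.Agent.Lib.Helper57_BrauerFeit
  Cfsg.Agent.Lib.Helper57_ContribMatrix Cfsg.Agent.Lib.Helper57_BrouePuig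
  Cfsg.Agent.Lib.Helper57_MajorNonvanish Cfsg.Agent.Lib.Helper57_CycDecomp
  Cfsg.Agent.Lib.Helper57_ContribRow Cfsg.Agent.Lib.Helper57_DiagTrace
  Cfsg.Agent.Lib.Helper78_CharFacts Cfsg.Agent.Lib.Helper78_LocalRing

namespace Cfsg.Agent.S4541


/-- The arithmetic end game. -/
theorem arith (k0 a L l : ℕ) (ha : Odd a) (h1 : k0 * a ≤ L * l) (h2 : k0 ≤ a * L) :
    (Odd (Nat.sqrt l) → k0 ≤ Nat.sqrt l * L) ∧
    (¬ Odd (Nat.sqrt l) → (Nat.sqrt l + 1) * k0 ≤ l * L) ∧ (l ≤ 3 → k0 ≤ L) := by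
  have hs1 : Nat.sqrt l * Nat.sqrt l ≤ l := Nat.sqrt_le l
  have hs2 : l < (Nat.sqrt l + 1) * (Nat.sqrt l + 1) := Nat.lt_succ_sqrt l
  set s := Nat.sqrt l with hs
  have hodd : Odd s → k0 ≤ s * L := by
    intro hso
    by_cases hle : a ≤ s
    · exact h2.trans (Nat.mul_le_mul_right L hle)
    · have hge : s + 2 ≤ a := by
        obtain ⟨x, hx⟩ := ha
        obtain ⟨y, hy⟩ := hso
        omega
      have h3 : k0 * (s + 2) ≤ L * l := (Nat.mul_le_mul_left k0 hge).trans h1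
      have h4 : l ≤ s * (s + 2) := by nlinarith
      have h5 : k0 * (s + 2) ≤ (s * L) * (s + 2) := by
        calc k0 * (s + 2) ≤ L * l := h3
          _ ≤ L * (s * (s + 2)) := Nat.mul_le_mul_left L h4
          _ = (s * L) * (s + 2) := by ring
      exact Nat.le_of_mul_le_mul_right h5 (by omega)
  refine ⟨hodd, ?_, ?_⟩
  · intro hse
    by_cases hge : s + 1 ≤ a
    · calc (s + 1) * k0 ≤ a * k0 := Nat.mul_le_mul_right k0 hge
        _ = k0 * a := by ring
        _ ≤ L * l := h1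
        _ = l * L := by ring
    · have hle : a + 1 ≤ s := by
        obtain ⟨x, hx⟩ := ha
        have hse' : Even s := Nat.not_odd_iff_even.mp hse
        obtain ⟨y, hy⟩ := hse'
        omega
      have h3 : k0 ≤ (s - 1) * L := h2.trans (Nat.mul_le_mul_right L (by omega))
      have h4 : (s + 1) * (s - 1) ≤ l := by
        have : (s + 1) * (s - 1) + 1 = s * s := by
          have hs0 : 1 ≤ s := by omega
          obtain ⟨t, ht⟩ := Nat.exists_eq_add_of_le hs0
          rw [ht]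
          simp only [Nat.add_sub_cancel_left]
          ring
        omega
      calc (s + 1) * k0 ≤ (s + 1) * ((s - 1) * L) := Nat.mul_le_mul_left _ h3
        _ = ((s + 1) * (s - 1)) * L := by ring
        _ ≤ l * L := Nat.mul_le_mul_right L h4
  · intro hl3
    rcases Nat.eq_zero_or_pos l with hl0 | hlpos
    · rw [hl0, mul_zero] at h1
      have hapos : 0 < a := by
        obtain ⟨x, hx⟩ := ha
        omega
      have : k0 = 0 := by
        rcases Nat.eq_zero_or_pos k0 with h | h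
        · exact h
        · have := Nat.mul_pos h hapos
          omega
      omega
    · have hs1' : s = 1 := by
        have h5 : s ≤ 1 := by
          by_contra hcon
          have : 2 ≤ s := by omega
          have : 4 ≤ s * s := by nlinarith
          omega
        have h6 : 1 ≤ s := by
          by_contra hcon
          have : s = 0 := by omega
          rw [this] at hs2
          omega
        omega
      have := hodd (by rw [hs1']; exact odd_one)
      rw [hs1', one_mul] at this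
      exact this

/-- Let B be a 2-block of the finite group G (relative to a maximal ideal M of the algebraic integers containing 2), u a 2-element, and b a block of the centralizer of u inducing B (a subsection (u, b)), of defect q and 2-regular rank l; write s for the integer square root of l and k₀(B) for the number of members of B of height zero. If s is odd then k₀(B) ≤ s·2 ^ q, and otherwise (s + 1)·k₀(B) ≤ l·2 ^ q; in particular k₀(B) ≤ 2 ^ q when l ≤ 3. -/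
theorem result {G : Type*} [Group G] [Finite G] (M : Ideal Cfsg.AlgInt) (hM : Cfsg.IsPModular 2 M) (B : Set (Cfsg.IrrCharacter G)) (hB : Cfsg.IsPBlock M B) (u : G) (hu : ∃ j : ℕ, orderOf u = 2 ^ j) (b : Set (Cfsg.IrrCharacter ↥(Subgroup.centralizer ({u} : Set G)))) (hb : Cfsg.IsInducedBlock M (Subgroup.centralizer ({u} : Set G)) b B) : (Odd (Nat.sqrt (Cfsg.blockRank 2 b)) → Nat.card {χ : Cfsg.IrrCharacter G // χ ∈ B ∧ Cfsg.blockHeight 2 B (χ : G → ℂ) = 0} ≤ Nat.sqrt (Cfsg.blockRank 2 b) * 2 ^ Cfsg.blockDefect 2 b) ∧ (¬ Odd (Nat.sqrt (Cfsg.blockRank 2 b)) → (Nat.sqrt (Cfsg.blockRank 2 b) + 1) * Nat.card {χ : Cfsg.IrrCharacter G // χ ∈ B ∧ Cfsg.blockHeight 2 B (χ : G → ℂ) = 0} ≤ Cfsg.blockRank 2 b * 2 ^ Cfsg.blockDefect 2 b) ∧ (Cfsg.blockRank 2 b ≤ 3 → Nat.card {χ : Cfsg.IrrCharacter G // χ ∈ B ∧ Cfsg.blockHeight 2 B (χ : G → ℂ) = 0} ≤ 2 ^ Cfsg.blockDefect 2 b) := by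
  classical
  have := Fintype.ofFinite G
  have := Fintype.ofFinite (Subgroup.centralizer ({u} : Set G))
  have : Fact (Nat.Prime 2) := ⟨Nat.prime_two⟩
  have hp : (2 : ℕ).Prime := Nat.prime_two
  obtain ⟨n, hn⟩ := hu
  have hIG : RegInt G 2 :=
    regInt_of_brauerLocal hp (fun q hq _ => Cfsg.Agent.S0874.result q hq)
  have hIC : RegInt (Subgroup.centralizer ({u} : Set G)) 2 :=
    regInt_of_brauerLocal hp (fun q hq _ => Cfsg.Agent.S0874.result q hq)
  have hyC : u ∈ Subgroup.centralizer ({u} : Set G) := by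
    rw [Subgroup.mem_centralizer_iff]
    intro h hh
    rw [Set.mem_singleton_iff.mp hh]
  have hcomm : ∀ c : Subgroup.centralizer ({u} : Set G), u * (c : G) = (c : G) * u :=
    fun c => Subgroup.mem_centralizer_iff.mp c.2 u (Set.mem_singleton u)
  have hzc : (⟨u, hyC⟩ : Subgroup.centralizer ({u} : Set G)) ∈
      Submonoid.center (Subgroup.centralizer ({u} : Set G)) := by
    rw [Submonoid.mem_center_iff]
    intro g
    apply Subtype.ext
    push_cast
    exact (hcomm g).symm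
  have hzord : orderOf (⟨u, hyC⟩ : Subgroup.centralizer ({u} : Set G)) = 2 ^ n := by
    rw [← hn]
    exact Subgroup.orderOf_mk u hyC
  -- the scalars
  have hccex : ∀ ζ : IrrCharacter (Subgroup.centralizer ({u} : Set G)), ∃ c : ℂ,
      ∀ a : Subgroup.centralizer ({u} : Set G),
        (ζ : Subgroup.centralizer ({u} : Set G) → ℂ) (⟨u, hyC⟩ * a) =
          c * (ζ : Subgroup.centralizer ({u} : Set G) → ℂ) a := by
    intro ζ
    obtain ⟨c, _, hc⟩ := exists_scalar_of_central_pElement hM ζ ⟨u, hyC⟩ hzc n hzord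
    exact ⟨c, hc⟩
  choose cc hcc using hccex
  have hcc1 : ∀ ζ : IrrCharacter (Subgroup.centralizer ({u} : Set G)), cc ζ ^ (2 ^ n) = 1 := by
    intro ζ
    have h1 := irr_pow_mul (Subgroup.centralizer ({u} : Set G)) u hyC cc hcc ζ (2 ^ n) 1
    rw [← hzord, pow_orderOf_eq_one, one_mul, hzord] at h1
    have hne : (ζ : Subgroup.centralizer ({u} : Set G) → ℂ) 1 ≠ 0 :=
      Cfsg.Agent.Lib.Helper78_CentralChar.isIrrCharacter_one_ne_zero ζ.2
    have h2 : (cc ζ ^ (2 ^ n) - 1) * (ζ : Subgroup.centralizer ({u} : Set G) → ℂ) 1 = 0 := by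
      rw [sub_mul, one_mul, ← h1, sub_self]
    rcases mul_eq_zero.mp h2 with h | h
    · exact sub_eq_zero.mp h
    · exact absurd h hne
  -- the multiplicities
  have hnnex : ∀ χ : IrrCharacter G, ∃ m : IrrCharacter (Subgroup.centralizer ({u} : Set G)) → ℕ,
      (∀ ζ : IrrCharacter (Subgroup.centralizer ({u} : Set G)),
        classInner (fun c : Subgroup.centralizer ({u} : Set G) => (χ : G → ℂ) (c : G))
          (ζ : Subgroup.centralizer ({u} : Set G) → ℂ) = m ζ) ∧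
      (fun c : Subgroup.centralizer ({u} : Set G) => (χ : G → ℂ) (c : G)) =
        ∑ ζ : IrrCharacter (Subgroup.centralizer ({u} : Set G)),
          (m ζ : ℂ) • (ζ : Subgroup.centralizer ({u} : Set G) → ℂ) := fun χ =>
    exists_multiplicities (isCharacter_restrict (Subgroup.centralizer ({u} : Set G))
      (isCharacter_of_isIrrCharacter χ.2))
  choose nn hnn1 hnn using hnnex
  obtain ⟨w0, hsym, hunit, hdec⟩ := exists_weights (Subgroup.centralizer ({u} : Set G)) u hyC cc hcc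
    nn hnn1 hnn hp hM hIG hIC hb
  -- the odd residues
  set U : Finset ℕ := (Finset.range (2 ^ (n + 1))).filter (fun j => j.Coprime (2 ^ (n + 1)))
    with hU
  have hUcard : U.card = 2 ^ n := by
    rw [hU, filter_coprime_two_pow, Finset.card_image_of_injective _ (fun a b h => by
      have h' : 2 * a + 1 = 2 * b + 1 := h
      omega), Finset.card_range]
  have hφ : (2 ^ (n + 1)).totient = 2 ^ n := by
    rw [Nat.totient_prime_pow_succ hp]
    norm_num
  -- the hypotheses for the powers of `u`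
  have hjU : ∀ j ∈ U, orderOf (u ^ j) = 2 ^ n ∧
      (∀ c : Subgroup.centralizer ({u} : Set G), u ^ j * (c : G) = (c : G) * u ^ j) ∧
      Subgroup.centralizer ({u ^ j} : Set G) ≤ Subgroup.centralizer ({u} : Set G) := by
    intro j hj
    have hjc' : j.Coprime (2 ^ (n + 1)) := (Finset.mem_filter.mp hj).2
    have hjc : j.Coprime (2 ^ n) :=
      Nat.Coprime.coprime_dvd_right (pow_dvd_pow 2 (Nat.le_succ n)) hjc'
    refine ⟨?_, ?_, ?_⟩
    · rw [← hn]
      apply Nat.Coprime.orderOf_pow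
      rw [hn]
      exact hjc.symm
    · exact fun c => ((Commute.pow_left (hcomm c) j)).eq
    · intro g hg
      rw [Subgroup.mem_centralizer_iff] at hg ⊢
      intro h hh
      rw [Set.mem_singleton_iff.mp hh]
      obtain ⟨m, hm⟩ := exists_pow_eq_self_of_coprime (x := u) (n := j) (by rw [hn]; exact hjc)
      have h1 : (u ^ j) * g = g * (u ^ j) := hg (u ^ j) (Set.mem_singleton _)
      have h2 : Commute (u ^ j) g := h1
      have h3 := (h2.pow_left m).eq
      rwa [hm] at h3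
  set q : ℕ := blockDefect 2 b with hq
  set l : ℕ := blockRank 2 b with hl
  -- the real diagonal entries
  set x : IrrCharacter G → ℕ → ℝ := fun χ j => (2 : ℝ) ^ q *
    ∑ η ∈ bset b, Complex.normSq (acoef 2 (Subgroup.centralizer ({u} : Set G)) (u ^ j) χ η)
    with hx
  have hx0 : ∀ χ j, 0 ≤ x χ j := fun χ j =>
    mul_nonneg (by positivity) (Finset.sum_nonneg fun η _ => Complex.normSq_nonneg _)
  have hxC : ∀ χ j, ((x χ j : ℝ) : ℂ) = ((2 : ℕ) : ℂ) ^ q *
      gmat 2 (Subgroup.centralizer ({u} : Set G)) (u ^ j) b χ χ := by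
    intro χ j
    rw [gmat_self]
    simp only [hx]
    push_cast
    rfl
  -- rows
  have hrow : ∀ j ∈ U, ∀ χ : IrrCharacter G, ∑ ψ : IrrCharacter G,
      Complex.normSq (((2 : ℕ) : ℂ) ^ q *
        gmat 2 (Subgroup.centralizer ({u} : Set G)) (u ^ j) b χ ψ) = (2 : ℝ) ^ q * x χ j := by
    intro j hj χ
    obtain ⟨hord, hCu, hcent⟩ := hjU j hj
    apply Complex.ofReal_injective
    have h1 := sum_gmat_row (Subgroup.centralizer ({u} : Set G)) (u ^ j) n hord hCu hcent hM hb.1 χ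
    rw [Complex.ofReal_sum, Complex.ofReal_mul, hxC, ← h1, Finset.mul_sum, Finset.mul_sum]
    refine Finset.sum_congr rfl fun ψ _ => ?_
    rw [← Complex.mul_conj, map_mul, map_pow, Complex.conj_natCast]
    push_cast
    ring
  -- trace
  have htrace : ∀ j ∈ U, ∑ χ ∈ bset B, x χ j = (2 : ℝ) ^ q * (l : ℝ) := by
    intro j hj
    obtain ⟨hord, hCu, hcent⟩ := hjU j hj
    apply Complex.ofReal_injective
    have h1 := sum_bset_gmat_self (Subgroup.centralizer ({u} : Set G)) (u ^ j) n hord hCu hcent hM hb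
    rw [Complex.ofReal_sum, Complex.ofReal_mul, Complex.ofReal_natCast]
    have h1' : ∑ χ ∈ bset B, gmat 2 (Subgroup.centralizer ({u} : Set G)) (u ^ j) b χ χ = (l : ℂ) := h1
    rw [← h1', Finset.mul_sum]
    refine Finset.sum_congr rfl fun χ _ => ?_
    rw [hxC]
    push_cast
    rfl
  -- the height zero characters
  set B0 : Finset (IrrCharacter G) :=
    (bset B).filter (fun χ => blockHeight 2 B (χ : G → ℂ) = 0) with hB0
  have hB0mem : ∀ χ, χ ∈ B0 ↔ χ ∈ B ∧ blockHeight 2 B (χ : G → ℂ) = 0 := by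
    intro χ
    rw [hB0, Finset.mem_filter, mem_bset]
  have hk0 : Nat.card {χ : IrrCharacter G // χ ∈ B ∧ blockHeight 2 B (χ : G → ℂ) = 0} =
      B0.card := by
    rw [Nat.card_eq_fintype_card, Fintype.card_subtype]
    congr 1
    ext χ
    rw [hB0mem]
    simp
  rw [hk0]
  -- off-diagonal lower bound
  have hoff : ∀ χ ∈ B0, ∀ ψ ∈ B0, ((2 : ℝ) ^ n) ≤ ∑ j ∈ U, Complex.normSq (((2 : ℕ) : ℂ) ^ q *
        gmat 2 (Subgroup.centralizer ({u} : Set G)) (u ^ j) b χ ψ) := by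
    intro χ hχ ψ hψ
    rw [hB0mem] at hχ hψ
    have hW := hunit χ ψ hχ.1 hψ.1 hχ.2 hψ.2
    have hε : ∀ i : IrrCharacter (Subgroup.centralizer ({u} : Set G)) ×
        IrrCharacter (Subgroup.centralizer ({u} : Set G)),
        (cc i.1 * conj (cc i.2)) ^ (2 ^ (n + 1)) = 1 := by
      intro i
      rw [pow_succ, pow_mul, mul_pow, ← map_pow, hcc1, hcc1, map_one, mul_one, one_pow]
    have := Cfsg.Agent.Lib.Helper57_CycSum.cyc_sum_ge hp (n + 1) (bset b ×ˢ bset b)
      (fun i => cc i.1 * conj (cc i.2))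
      (fun i => ((nn χ i.1 : ℕ) : ℤ) * ((nn ψ i.2 : ℕ) : ℤ) * w0 i.1 i.2) hε
      (by rw [Finset.sum_product]; exact hW)
    rw [hφ] at this
    have h2 : ∀ j, ((2 : ℕ) : ℂ) ^ q * gmat 2 (Subgroup.centralizer ({u} : Set G)) (u ^ j) b χ ψ =
        ∑ i ∈ bset b ×ˢ bset b, ((((nn χ i.1 : ℕ) : ℤ) * ((nn ψ i.2 : ℕ) : ℤ) * w0 i.1 i.2 : ℤ) : ℂ) *
          (cc i.1 * conj (cc i.2)) ^ j := by
      intro j
      rw [hdec χ ψ j, Finset.sum_product]
    simp_rw [h2]
    exact_mod_cast this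
  -- the diagonal trace
  have hdiag : ∀ χ ∈ B0, ∃ T : ℤ, Odd T ∧ ∑ j ∈ U, x χ j = (2 : ℝ) ^ n * (T : ℝ) := by
    intro χ hχ
    rw [hB0mem] at hχ
    have hW := hunit χ χ hχ.1 hχ.1 hχ.2 hχ.2
    have hodd : Odd (∑ ζ ∈ bset b, ∑ ζ' ∈ bset b,
        ((nn χ ζ : ℕ) : ℤ) * ((nn χ ζ' : ℕ) : ℤ) * w0 ζ ζ') := by
      rw [← Int.not_even_iff_odd, even_iff_two_dvd]
      exact hW
    obtain ⟨T, hTodd, hT⟩ := diag_trace (bset b) n cc hcc1
      (fun ζ ζ' => ((nn χ ζ : ℕ) : ℤ) * ((nn χ ζ' : ℕ) : ℤ) * w0 ζ ζ')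
      (fun ζ ζ' => by rw [hsym ζ ζ']; ring) hodd
    refine ⟨T, hTodd, ?_⟩
    apply Complex.ofReal_injective
    rw [Complex.ofReal_sum]
    simp_rw [hxC, hdec]
    rw [hT]
    push_cast
    rfl
  have h2n : (0 : ℝ) < (2 : ℝ) ^ n := by positivity
  -- the row inequality
  have hF3 : ∀ χ ∈ B0, ∀ T : ℤ, ∑ j ∈ U, x χ j = (2 : ℝ) ^ n * (T : ℝ) →
      ((B0.card : ℝ) - 1) + (T : ℝ) ^ 2 ≤ (2 : ℝ) ^ q * (T : ℝ) := by
    intro χ hχ T hT
    have hupper : ∑ ψ ∈ B0, ∑ j ∈ U, Complex.normSq (((2 : ℕ) : ℂ) ^ q *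
        gmat 2 (Subgroup.centralizer ({u} : Set G)) (u ^ j) b χ ψ) ≤
        (2 : ℝ) ^ q * ((2 : ℝ) ^ n * (T : ℝ)) := by
      rw [Finset.sum_comm]
      calc ∑ j ∈ U, ∑ ψ ∈ B0, Complex.normSq (((2 : ℕ) : ℂ) ^ q *
            gmat 2 (Subgroup.centralizer ({u} : Set G)) (u ^ j) b χ ψ)
          ≤ ∑ j ∈ U, ∑ ψ : IrrCharacter G, Complex.normSq (((2 : ℕ) : ℂ) ^ q *
            gmat 2 (Subgroup.centralizer ({u} : Set G)) (u ^ j) b χ ψ) :=
            Finset.sum_le_sum fun j _ => Finset.sum_le_sum_of_subset_of_nonneg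
              (Finset.subset_univ _) (fun _ _ _ => Complex.normSq_nonneg _)
        _ = ∑ j ∈ U, (2 : ℝ) ^ q * x χ j := Finset.sum_congr rfl fun j hj => hrow j hj χ
        _ = (2 : ℝ) ^ q * ((2 : ℝ) ^ n * (T : ℝ)) := by rw [← Finset.mul_sum, hT]
    have hlower : ((B0.card : ℝ) - 1) * (2 : ℝ) ^ n + (2 : ℝ) ^ n * (T : ℝ) ^ 2 ≤
        ∑ ψ ∈ B0, ∑ j ∈ U, Complex.normSq (((2 : ℕ) : ℂ) ^ q *
          gmat 2 (Subgroup.centralizer ({u} : Set G)) (u ^ j) b χ ψ) := by
      rw [← Finset.add_sum_erase B0 _ hχ]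
      have h1 : (2 : ℝ) ^ n * (T : ℝ) ^ 2 ≤ ∑ j ∈ U, Complex.normSq (((2 : ℕ) : ℂ) ^ q *
          gmat 2 (Subgroup.centralizer ({u} : Set G)) (u ^ j) b χ χ) := by
        have hsq : ∀ j, Complex.normSq (((2 : ℕ) : ℂ) ^ q *
            gmat 2 (Subgroup.centralizer ({u} : Set G)) (u ^ j) b χ χ) = (x χ j) ^ 2 := by
          intro j
          rw [← hxC, Complex.normSq_ofReal, sq]
        simp_rw [hsq]
        have hcs := sq_sum_le_card_mul_sum_sq (s := U) (f := fun j => x χ j)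
        rw [hT, hUcard] at hcs
        push_cast at hcs
        have h4 : (2 : ℝ) ^ n * ((2 : ℝ) ^ n * (T : ℝ) ^ 2) ≤
            (2 : ℝ) ^ n * ∑ j ∈ U, x χ j ^ 2 := by
          calc (2 : ℝ) ^ n * ((2 : ℝ) ^ n * (T : ℝ) ^ 2) = ((2 : ℝ) ^ n * (T : ℝ)) ^ 2 := by ring
            _ ≤ _ := hcs
        exact le_of_mul_le_mul_left h4 h2n
      have h2 : ((B0.card : ℝ) - 1) * (2 : ℝ) ^ n ≤ ∑ ψ ∈ B0.erase χ, ∑ j ∈ U,
          Complex.normSq (((2 : ℕ) : ℂ) ^ q *
            gmat 2 (Subgroup.centralizer ({u} : Set G)) (u ^ j) b χ ψ) := by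
        have := Finset.sum_le_sum (s := B0.erase χ)
          (fun ψ hψ => hoff χ hχ ψ (Finset.mem_of_mem_erase hψ))
        rw [Finset.sum_const, Finset.card_erase_of_mem hχ, nsmul_eq_mul] at this
        have hpos : 1 ≤ B0.card := Finset.card_pos.mpr ⟨χ, hχ⟩
        rw [Nat.cast_sub hpos, Nat.cast_one] at this
        exact this
      linarith
    have h3 : (((B0.card : ℝ) - 1) + (T : ℝ) ^ 2) * (2 : ℝ) ^ n ≤
        ((2 : ℝ) ^ q * (T : ℝ)) * (2 : ℝ) ^ n := by
      have := hlower.trans hupper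
      nlinarith
    exact le_of_mul_le_mul_right h3 h2n
  -- the trace inequality
  have hF2 : ∑ χ ∈ B0, ∑ j ∈ U, x χ j ≤ (2 : ℝ) ^ n * ((2 : ℝ) ^ q * (l : ℝ)) := by
    calc ∑ χ ∈ B0, ∑ j ∈ U, x χ j ≤ ∑ χ ∈ bset B, ∑ j ∈ U, x χ j :=
          Finset.sum_le_sum_of_subset_of_nonneg (Finset.filter_subset _ _)
            (fun χ _ _ => Finset.sum_nonneg fun j _ => hx0 χ j)
      _ = ∑ j ∈ U, ∑ χ ∈ bset B, x χ j := Finset.sum_comm
      _ = ∑ j ∈ U, (2 : ℝ) ^ q * (l : ℝ) := Finset.sum_congr rfl fun j hj => htrace j hj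
      _ = (2 : ℝ) ^ n * ((2 : ℝ) ^ q * (l : ℝ)) := by
          rw [Finset.sum_const, hUcard, nsmul_eq_mul]
          push_cast
          ring
  -- end game
  rcases Finset.eq_empty_or_nonempty B0 with hemp | hne
  · rw [hemp, Finset.card_empty]
    exact arith 0 1 (2 ^ q) l odd_one (by simp) (by simp)
  · choose! Tf hTodd hTsum using hdiag
    obtain ⟨χ₀, hχ₀, hmin⟩ := Finset.exists_min_image B0 Tf hne
    have hTpos : ∀ χ ∈ B0, 1 ≤ Tf χ := by
      intro χ hχ
      have h1 : (0 : ℝ) ≤ (2 : ℝ) ^ n * (Tf χ : ℝ) := by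
        rw [← hTsum χ hχ]
        exact Finset.sum_nonneg fun j _ => hx0 χ j
      have h2 : (0 : ℝ) ≤ (Tf χ : ℝ) := by
        by_contra hcon
        push Not at hcon
        have := mul_neg_of_pos_of_neg h2n hcon
        linarith
      have h3 : (0 : ℤ) ≤ Tf χ := by exact_mod_cast h2
      obtain ⟨t, ht⟩ := hTodd χ hχ
      omega
    set a : ℕ := (Tf χ₀).toNat with ha
    have haT : (a : ℤ) = Tf χ₀ := Int.toNat_of_nonneg (by have := hTpos χ₀ hχ₀; omega)
    have haodd : Odd a := by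
      have := hTodd χ₀ hχ₀
      rw [← haT] at this
      exact_mod_cast this
    have h1 : B0.card * a ≤ 2 ^ q * l := by
      have hs : (B0.card : ℝ) * (Tf χ₀ : ℝ) ≤ ∑ χ ∈ B0, (Tf χ : ℝ) := by
        have := Finset.sum_le_sum (s := B0) (f := fun _ => (Tf χ₀ : ℝ)) (g := fun χ => (Tf χ : ℝ))
          (fun χ hχ => by exact_mod_cast hmin χ hχ)
        rwa [Finset.sum_const, nsmul_eq_mul] at this
      have hs2 : (2 : ℝ) ^ n * ∑ χ ∈ B0, (Tf χ : ℝ) ≤ (2 : ℝ) ^ n * ((2 : ℝ) ^ q * (l : ℝ)) := by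
        rw [Finset.mul_sum]
        calc ∑ χ ∈ B0, (2 : ℝ) ^ n * (Tf χ : ℝ) = ∑ χ ∈ B0, ∑ j ∈ U, x χ j :=
              Finset.sum_congr rfl fun χ hχ => (hTsum χ hχ).symm
          _ ≤ _ := hF2
      have hs3 : ∑ χ ∈ B0, (Tf χ : ℝ) ≤ (2 : ℝ) ^ q * (l : ℝ) := le_of_mul_le_mul_left hs2 h2n
      have hs4 : (B0.card : ℝ) * (Tf χ₀ : ℝ) ≤ (2 : ℝ) ^ q * (l : ℝ) := hs.trans hs3
      have hs5 : ((B0.card * a : ℕ) : ℝ) ≤ ((2 ^ q * l : ℕ) : ℝ) := by
        push_cast
        have : (a : ℝ) = (Tf χ₀ : ℝ) := by exact_mod_cast haT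
        rw [this]
        exact hs4
      exact_mod_cast hs5
    have h2 : B0.card ≤ a * 2 ^ q := by
      have h3 := hF3 χ₀ hχ₀ (Tf χ₀) (hTsum χ₀ hχ₀)
      have h4 : (1 : ℝ) ≤ (Tf χ₀ : ℝ) := by exact_mod_cast hTpos χ₀ hχ₀
      have h5 : (B0.card : ℝ) ≤ (2 : ℝ) ^ q * (Tf χ₀ : ℝ) := by nlinarith
      have h6 : ((B0.card : ℕ) : ℝ) ≤ ((a * 2 ^ q : ℕ) : ℝ) := by
        push_cast
        have : (a : ℝ) = (Tf χ₀ : ℝ) := by exact_mod_cast haT
        rw [this]
        linarith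
      exact_mod_cast h6
    exact arith B0.card a (2 ^ q) l haodd h1 h2

end Cfsg.Agent.S4541
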