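import Mathlib
import Cfsg.Statements.S4550
import Cfsg.Agent.Lib.Helper75_GalConj
import Cfsg.Agent.Lib.Helper16_BlockOrth
import Cfsg.Agent.Lib.Helper78_LocalRing
import Cfsg.Agent.Lib.Helper79_CharVals
import Cfsg.Agent.Lib.Helper77_BlockBasics
import Cfsg.Agent.Lib.Helper80_CharBasic
import Cfsg.Agent.Lib.Helper3_CharComplete
-- import your own Cfsg.Agent.* helpers here

set_option autoImplicit false
set_option linter.style.haveILetI false
open Cfsg

namespace Cfsg.Agent.S4550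

open Cfsg.Agent.Lib.Helper80_CharBasic Cfsg.Agent.Lib.Helper3_CharBridge
open scoped ComplexConjugate

section aux

/-- `2 ^ (m + 1)` divides `3 ^ (2 ^ m) - 1`. -/
theorem two_pow_dvd_three_pow (m : ℕ) : ((2 : ℤ) ^ (m + 1)) ∣ 3 ^ (2 ^ m) - 1 := by
  induction m with
  | zero => norm_num
  | succ m ih =>
    obtain ⟨t, ht⟩ := ih
    refine ⟨t * (2 ^ m * t + 1), ?_⟩
    have h1 : (3 : ℤ) ^ (2 ^ (m + 1)) = (3 ^ (2 ^ m)) ^ 2 := by rw [← pow_mul, pow_succ]
    have h2 : (3 : ℤ) ^ (2 ^ m) = 2 ^ (m + 1) * t + 1 := by linarith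
    rw [h1, h2]
    ring

variable {G : Type*} [Group G] [Finite G]

/-- The `k`-th power map has `2`-power order. -/
theorem pow_pow_eq (k : ℕ)
    (hk₁ : ∀ g : G, (∃ j : ℕ, orderOf g = 2 ^ j) → g ^ k = g ^ 3)
    (hk₂ : ∀ g : G, Odd (orderOf g) → g ^ k = g) (g : G) :
    g ^ (k ^ (2 ^ (Nat.card G))) = g := by
  have hn : orderOf g ≠ 0 := (orderOf_pos g).ne'
  obtain ⟨j, r, hr, hjr⟩ := Nat.exists_eq_two_pow_mul_odd hn
  have hrpos : 0 < r := hr.pos
  have h2j : 0 < 2 ^ j := by positivity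
  have h1 : k ≡ 3 [MOD 2 ^ j] := by
    have ho : orderOf (g ^ r) = 2 ^ j := by
      rw [orderOf_pow_of_dvd hrpos.ne' ⟨2 ^ j, by rw [hjr, mul_comm]⟩, hjr,
        Nat.mul_div_cancel _ hrpos]
    have h := hk₁ (g ^ r) ⟨j, ho⟩
    rw [← pow_mul, ← pow_mul, pow_eq_pow_iff_modEq, hjr, mul_comm (2 ^ j) r] at h
    exact Nat.ModEq.mul_left_cancel' hrpos.ne' h
  have h2 : k ≡ 1 [MOD r] := by
    have ho : orderOf (g ^ (2 ^ j)) = r := by
      rw [orderOf_pow_of_dvd h2j.ne' ⟨r, hjr⟩, hjr, Nat.mul_div_cancel_left _ h2j]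
    have h := hk₂ (g ^ (2 ^ j)) (ho ▸ hr)
    have h' : g ^ (2 ^ j * k) = g ^ (2 ^ j * 1) := by
      rw [pow_mul, h, mul_one]
    rw [pow_eq_pow_iff_modEq, hjr] at h'
    exact Nat.ModEq.mul_left_cancel' h2j.ne' h'
  set N : ℕ := 2 ^ (Nat.card G) with hN
  have hj : j ≤ Nat.card G + 1 := by
    have h1 : j < 2 ^ j := Nat.lt_two_pow_self
    have h2 : 2 ^ j ≤ orderOf g := by
      rw [hjr]
      exact Nat.le_mul_of_pos_right _ hrpos
    have h3 : orderOf g ≤ Nat.card G := orderOf_le_card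
    omega
  have h3 : 3 ^ N ≡ 1 [MOD 2 ^ j] := by
    have hd : ((2 : ℤ) ^ j) ∣ 3 ^ N - 1 :=
      (pow_dvd_pow 2 hj).trans (two_pow_dvd_three_pow (Nat.card G))
    have : (1 : ℕ) ≡ 3 ^ N [MOD 2 ^ j] := by
      rw [Nat.modEq_iff_dvd]
      push_cast
      exact hd
    exact this.symm
  have h4 : k ^ N ≡ 1 [MOD 2 ^ j] := (h1.pow N).trans h3
  have h5 : k ^ N ≡ 1 [MOD r] := by
    have := h2.pow N
    rwa [one_pow] at this
  have hcop : Nat.Coprime (2 ^ j) r := Nat.Coprime.pow_left j (Nat.coprime_two_left.mpr hr)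
  have h6 : k ^ N ≡ 1 [MOD orderOf g] := by
    rw [hjr]
    exact (Nat.modEq_and_modEq_iff_modEq_mul hcop).1 ⟨h4, h5⟩
  have h7 : g ^ (k ^ N) = g ^ 1 := pow_eq_pow_iff_modEq.2 h6
  rw [h7, pow_one]

/-- `k` is coprime to the group order. -/
theorem coprime_card (k : ℕ)
    (hk₁ : ∀ g : G, (∃ j : ℕ, orderOf g = 2 ^ j) → g ^ k = g ^ 3)
    (hk₂ : ∀ g : G, Odd (orderOf g) → g ^ k = g) : k.Coprime (Nat.card G) := by
  apply Nat.coprime_of_dvd
  intro r hr hrk hrG
  haveI : Fact r.Prime := ⟨hr⟩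
  obtain ⟨g, hg⟩ := exists_prime_orderOf_dvd_card' r hrG
  have hgk : g ^ k = 1 := by
    rw [← orderOf_dvd_iff_pow_eq_one, hg]
    exact hrk
  rcases hr.eq_two_or_odd' with h2 | hodd
  · subst h2
    have h := hk₁ g ⟨1, by rw [hg, pow_one]⟩
    rw [hgk] at h
    have : orderOf g ∣ 3 := orderOf_dvd_of_pow_eq_one h.symm
    rw [hg] at this
    omega
  · have h := hk₂ g (hg ▸ hodd)
    rw [hgk] at h
    have : orderOf g = 1 := by rw [← h, orderOf_one]
    rw [hg] at this
    exact hr.one_lt.ne' this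

/-- The centralizer of `g ^ k` is that of `g`. -/
theorem centralizer_pow_eq (k : ℕ)
    (hk₁ : ∀ g : G, (∃ j : ℕ, orderOf g = 2 ^ j) → g ^ k = g ^ 3)
    (hk₂ : ∀ g : G, Odd (orderOf g) → g ^ k = g) (g : G) :
    Subgroup.centralizer ({g ^ k} : Set G) = Subgroup.centralizer ({g} : Set G) := by
  have hback : (g ^ k) ^ (k ^ (2 ^ (Nat.card G) - 1)) = g := by
    have h := pow_pow_eq k hk₁ hk₂ g
    have h2 : 1 ≤ 2 ^ (Nat.card G) := Nat.one_le_two_pow
    rw [← pow_mul, ← pow_succ', Nat.sub_add_cancel h2]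
    exact h
  ext x
  rw [Subgroup.mem_centralizer_singleton_iff, Subgroup.mem_centralizer_singleton_iff]
  constructor
  · intro h
    have hc : Commute x (g ^ k) := h
    have := hc.pow_right (k ^ (2 ^ (Nat.card G) - 1))
    rw [hback] at this
    exact this
  · intro h
    have hc : Commute x g := h
    exact hc.pow_right k

/-- The Galois conjugate `g ↦ χ (g ^ k)` of an irreducible character. -/
noncomputable def tau (k : ℕ) (hk : k.Coprime (Nat.card G)) (χ : IrrCharacter G) :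
    IrrCharacter G :=
  ⟨fun g => (χ : G → ℂ) (g ^ k), by
    letI := Fintype.ofFinite G
    exact Cfsg.Agent.Lib.Helper75_GalConj.isIrrCharacter_powMap χ.2 k hk⟩

theorem tau_apply (k : ℕ) (hk : k.Coprime (Nat.card G)) (χ : IrrCharacter G) (g : G) :
    (tau k hk χ : G → ℂ) g = (χ : G → ℂ) (g ^ k) := rfl

theorem tau_iterate (k : ℕ) (hk : k.Coprime (Nat.card G)) (i : ℕ) (χ : IrrCharacter G) (g : G) :
    (((tau k hk)^[i] χ : IrrCharacter G) : G → ℂ) g = (χ : G → ℂ) (g ^ (k ^ i)) := by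
  induction i generalizing g with
  | zero => simp
  | succ i ih =>
    rw [Function.iterate_succ_apply', tau_apply, ih, ← pow_mul, ← pow_succ']

theorem charDegree_tau (k : ℕ) (hk : k.Coprime (Nat.card G)) (χ : IrrCharacter G) :
    charDegree (tau k hk χ : G → ℂ) = charDegree (χ : G → ℂ) := by
  unfold charDegree
  rw [tau_apply, one_pow]

theorem tau_mem_principalBlock (M : Ideal AlgInt) (k : ℕ) (hk : k.Coprime (Nat.card G))
    (hk₁ : ∀ g : G, (∃ j : ℕ, orderOf g = 2 ^ j) → g ^ k = g ^ 3)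
    (hk₂ : ∀ g : G, Odd (orderOf g) → g ^ k = g) (χ : IrrCharacter G)
    (hχ : χ ∈ principalBlock M G) : tau k hk χ ∈ principalBlock M G := by
  intro g
  have h := hχ (g ^ k)
  have e1 : centralChar (fun _ : G => (1 : ℂ)) g = centralChar (fun _ : G => (1 : ℂ)) (g ^ k) := by
    unfold centralChar
    rw [centralizer_pow_eq k hk₁ hk₂ g]
  have e2 : centralChar (tau k hk χ : G → ℂ) g = centralChar (χ : G → ℂ) (g ^ k) := by
    unfold centralChar
    rw [tau_apply, tau_apply, one_pow, centralizer_pow_eq k hk₁ hk₂ g]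
  rw [e1, e2]
  exact h

/-- The number of odd-degree characters in the principal `2`-block of a group of even order is
even. -/
theorem even_card_odd_degree (M : Ideal AlgInt) (hM : IsPModular 2 M) (hev : Even (Nat.card G)) :
    Even (Nat.card {χ : IrrCharacter G //
      χ ∈ principalBlock M G ∧ Odd (charDegree (χ : G → ℂ))}) := by
  classical
  letI : Fintype G := Fintype.ofFinite G
  haveI : Fact (Nat.Prime 2) := ⟨Nat.prime_two⟩
  obtain ⟨t, ht⟩ := exists_prime_orderOf_dvd_card' 2 (even_iff_two_dvd.1 hev)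
  have hB : IsPBlock M (principalBlock M G) := ⟨oneIrr G, rfl⟩
  have hpt : IsPPart 2 t t :=
    ⟨1, mul_one t, Commute.one_right t, ⟨1, by rw [ht, pow_one]⟩, by rw [orderOf_one]; norm_num⟩
  have hp1 : IsPPart 2 (1 : G) 1 :=
    ⟨1, one_mul 1, Commute.one_left 1, ⟨0, by rw [orderOf_one, pow_zero]⟩,
      by rw [orderOf_one]; norm_num⟩
  have hnc : ¬ IsConj t 1 := by
    intro h
    have h1 : t = 1 := isConj_one_left.1 h
    rw [h1, orderOf_one] at ht
    omega
  have h0 := Cfsg.Agent.Lib.Helper16_BlockOrth.block_orthogonality hM hB hpt hp1 hnc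
  rw [finsum_mem_def, finsum_eq_sum_of_fintype] at h0
  have hval : ∀ χ : IrrCharacter G, ∃ d : ℕ, (χ : G → ℂ) 1 + (χ : G → ℂ) t = 2 * d := by
    intro χ
    haveI : Fintype (Subgroup.zpowers t) := Fintype.ofFinite _
    obtain ⟨d, hd⟩ := Cfsg.Agent.Lib.Helper79_CharVals.sum_subgroup_char
      (isCharacter_of_isIrrCharacter χ.2) (Subgroup.zpowers t)
    refine ⟨d, ?_⟩
    rw [Nat.card_zpowers, ht] at hd
    have hsum : ∑ z : Subgroup.zpowers t, (χ : G → ℂ) z =
        ∑ i : Fin (orderOf t), (χ : G → ℂ) (t ^ (i : ℕ)) := by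
      symm
      refine Fintype.sum_equiv (finEquivZPowers (isOfFinOrder_of_finite t)) _ _ (fun i => ?_)
      rw [finEquivZPowers_apply]
    rw [hsum, Fin.sum_univ_eq_sum_range (fun i => (χ : G → ℂ) (t ^ i)) (orderOf t), ht,
      Finset.sum_range_succ, Finset.sum_range_one, pow_zero, pow_one] at hd
    rw [hd]
    push_cast
    ring
  choose d hd using hval
  set n : IrrCharacter G → ℕ := fun χ => charDegree (χ : G → ℂ) with hn
  have hone : ∀ χ : IrrCharacter G, (χ : G → ℂ) 1 = (n χ : ℂ) := fun χ =>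
    Cfsg.Agent.Lib.Helper77_BlockBasics.apply_one_eq_charDegree χ
  set B0 : Finset (IrrCharacter G) := Finset.univ.filter (fun χ => χ ∈ principalBlock M G) with hB0
  have h1 : ∑ χ ∈ B0, ((2 * (d χ : ℂ) - (n χ : ℂ)) * (n χ : ℂ)) = 0 := by
    rw [← h0, hB0, Finset.sum_filter]
    refine Finset.sum_congr rfl (fun χ _ => ?_)
    by_cases hχ : χ ∈ principalBlock M G
    · rw [if_pos hχ, Set.indicator_of_mem hχ, hone χ, Complex.conj_natCast]
      have := hd χ
      rw [hone χ] at this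
      have h2 : (χ : G → ℂ) t = 2 * (d χ : ℂ) - (n χ : ℂ) := by linear_combination this
      rw [h2]
    · rw [if_neg hχ, Set.indicator_of_notMem hχ]
  have h2 : ∑ χ ∈ B0, n χ ^ 2 = 2 * ∑ χ ∈ B0, d χ * n χ := by
    apply Nat.cast_injective (R := ℂ)
    push_cast
    rw [Finset.mul_sum]
    have h3 : ∑ χ ∈ B0, ((2 * (d χ : ℂ) - (n χ : ℂ)) * (n χ : ℂ)) =
        ∑ χ ∈ B0, 2 * ((d χ : ℂ) * (n χ : ℂ)) - ∑ χ ∈ B0, (n χ : ℂ) ^ 2 := by
      rw [← Finset.sum_sub_distrib]
      refine Finset.sum_congr rfl (fun χ _ => ?_)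
      ring
    rw [h3] at h1
    linear_combination -h1
  have h3 : Even (∑ χ ∈ B0, n χ ^ 2) := ⟨∑ χ ∈ B0, d χ * n χ, by rw [h2]; ring⟩
  rw [Finset.even_sum_iff_even_card_odd] at h3
  rw [Nat.card_eq_fintype_card, Fintype.card_subtype]
  convert h3 using 2
  rw [hB0, Finset.filter_filter]
  refine Finset.filter_congr (fun χ _ => ?_)
  rw [Nat.odd_pow_iff two_ne_zero]

end aux


/-- Let G be a finite group of even order and M a maximal ideal of the algebraic integers containing 2. Let k be a natural number with g ^ k = g ^ 3 for every 2-element g and g ^ k = g for every element g of odd order (such k exist); an irreducible character χ is unchanged by g ↦ g ^ k exactly when it is fixed by the field automorphism that cubes the 2-power roots of unity and fixes the roots of unity of odd order. Then the number of members χ of the principal 2-block of odd degree with χ (g ^ k) = χ g for all g is even. -/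
theorem result {G : Type*} [Group G] [Finite G] (M : Ideal Cfsg.AlgInt) (hM : Cfsg.IsPModular 2 M) (hev : Even (Nat.card G)) (k : ℕ) (hk₁ : ∀ g : G, (∃ j : ℕ, orderOf g = 2 ^ j) → g ^ k = g ^ 3) (hk₂ : ∀ g : G, Odd (orderOf g) → g ^ k = g) : Even (Nat.card {χ : Cfsg.IrrCharacter G // χ ∈ Cfsg.principalBlock M G ∧ Odd (Cfsg.charDegree (χ : G → ℂ)) ∧ ∀ g : G, (χ : G → ℂ) (g ^ k) = (χ : G → ℂ) g}) := by
  classical
  letI : Fintype G := Fintype.ofFinite G
  haveI : Fact (Nat.Prime 2) := ⟨Nat.prime_two⟩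
  have hcop := coprime_card k hk₁ hk₂
  let S : Type _ := {χ : IrrCharacter G // χ ∈ principalBlock M G ∧ Odd (charDegree (χ : G → ℂ))}
  let f : Function.End S := fun χ =>
    ⟨tau k hcop χ.1, tau_mem_principalBlock M k hcop hk₁ hk₂ χ.1 χ.2.1, by
      rw [charDegree_tau]; exact χ.2.2⟩
  have hfi : ∀ (i : ℕ) (χ : S), ((f : S → S)^[i] χ).1 = (tau k hcop)^[i] χ.1 := by
    intro i χ
    induction i with
    | zero => rfl
    | succ i ih =>
      rw [Function.iterate_succ_apply', Function.iterate_succ_apply', ← ih]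
  have hf : f ^ 2 ^ (Nat.card G) = 1 := by
    have h1 : ((f ^ 2 ^ (Nat.card G) : Function.End S) : S → S) = (f : S → S)^[2 ^ (Nat.card G)] :=
      hom_coe_pow (fun g : Function.End S ↦ (g : S → S)) rfl (fun g h ↦ rfl) f (2 ^ (Nat.card G))
    funext χ
    show (f ^ 2 ^ (Nat.card G) : Function.End S) χ = χ
    rw [h1]
    apply Subtype.ext
    rw [hfi]
    apply Subtype.ext
    funext g
    rw [tau_iterate, pow_pow_eq k hk₁ hk₂ g]
  have hmod := Equiv.Perm.card_fixedPoints_modEq (p := 2) hf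
  have hS : Even (Fintype.card S) := by
    have := even_card_odd_degree (G := G) M hM hev
    rwa [Nat.card_eq_fintype_card] at this
  have hfix : Even (Fintype.card (Function.fixedPoints f)) := by
    rw [Nat.even_iff] at hS ⊢
    rw [← hS]
    exact hmod.symm
  have hequiv : Function.fixedPoints f ≃ {χ : Cfsg.IrrCharacter G // χ ∈ Cfsg.principalBlock M G ∧
      Odd (Cfsg.charDegree (χ : G → ℂ)) ∧ ∀ g : G, (χ : G → ℂ) (g ^ k) = (χ : G → ℂ) g} :=
    { toFun := fun x => ⟨x.1.1, x.1.2.1, x.1.2.2, fun g => by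
        have h := x.2
        have h2 : (f x.1).1 = x.1.1 := congrArg Subtype.val h
        have h3 : (tau k hcop x.1.1 : G → ℂ) g = (x.1.1 : G → ℂ) g :=
          congrFun (congrArg Subtype.val h2) g
        rw [← h3, tau_apply]⟩
      invFun := fun y => ⟨⟨y.1, y.2.1, y.2.2.1⟩, by
        show f _ = _
        apply Subtype.ext
        apply Subtype.ext
        funext g
        exact y.2.2.2 g⟩
      left_inv := fun x => rfl
      right_inv := fun y => rfl }
  rw [← Nat.card_congr hequiv, Nat.card_eq_fintype_card]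
  exact hfix

end Cfsg.Agent.S4550
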