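import Mathlib
import Cfsg.Statements.S4549
import Cfsg.Agent.Lib.Helper97_PrincipalThompson
import Cfsg.Agent.S4550
import Cfsg.Agent.S3294
-- import your own Cfsg.Agent.* helpers here

set_option autoImplicit false
set_option linter.style.haveILetI false
open Cfsg

namespace Cfsg.Agent.S4549

open Cfsg.Agent.Lib.Helper78_LocalRing Cfsg.Agent.Lib.Helper97_PrincipalThompson


/-- Let G be a finite group and M a maximal ideal of the algebraic integers containing 2. Let k be a natural number with g ^ k = g ^ 3 for every 2-element g and g ^ k = g for every element g of odd order (such k exist); an irreducible character χ is unchanged by g ↦ g ^ k exactly when it is fixed by the field automorphism that cubes the 2-power roots of unity and fixes the roots of unity of odd order. Then G has a normal 2-complement if and only if every member χ of the principal 2-block of odd degree with χ (g ^ k) = χ g for all g has degree one. -/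
theorem result {G : Type*} [Group G] [Finite G] (M : Ideal Cfsg.AlgInt) (hM : Cfsg.IsPModular 2 M) (k : ℕ) (hk₁ : ∀ g : G, (∃ j : ℕ, orderOf g = 2 ^ j) → g ^ k = g ^ 3) (hk₂ : ∀ g : G, Odd (orderOf g) → g ^ k = g) : Cfsg.HasNormalPComplement 2 G ↔ ∀ χ ∈ Cfsg.principalBlock M G, Odd (Cfsg.charDegree (χ : G → ℂ)) → (∀ g : G, (χ : G → ℂ) (g ^ k) = (χ : G → ℂ) g) → Cfsg.charDegree (χ : G → ℂ) = 1 := by
  haveI : Fact (Nat.Prime 2) := ⟨Nat.prime_two⟩
  have hcop : k.Coprime (Nat.card G) := Cfsg.Agent.S4550.coprime_card k hk₁ hk₂
  constructor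
  · intro h χ hχ hodd _
    refine charDegree_eq_one_of_npc 2 M hM h χ hχ ?_
    rw [← even_iff_two_dvd, Nat.not_even_iff_odd]
    exact hodd
  · intro h
    have hN : (Cfsg.pResidual 2 G).Normal := Cfsg.Agent.Lib.Helper2_PResidual.pResidual_normal
    by_cases hk0 : k = 0
    · -- then `G` is trivial
      subst hk0
      have hG1 : Nat.card G = 1 := by
        rwa [Nat.coprime_zero_left] at hcop
      refine Cfsg.Agent.S3294.hasNormalPComplement_of_quotient_isPGroup 2 (Cfsg.pResidual 2 G) ?_
        Cfsg.Agent.Lib.Helper2_PResidual.isPGroup_quotient_pResidual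
      have h1 : Nat.card ↥(Cfsg.pResidual 2 G) ∣ 1 := by
        rw [← hG1]
        exact Subgroup.card_subgroup_dvd_card _
      rw [Nat.dvd_one.1 h1]
      exact Nat.coprime_one_left 2
    · have hcore := not_dvd_card_pResidual_principal (G := G) 2 hM k hk0 hcop (Nat.card G)
        (Cfsg.Agent.S4550.pow_pow_eq k hk₁ hk₂)
        (fun χ hχ hnd hfix => h χ hχ (by
          rw [← Nat.not_even_iff_odd, even_iff_two_dvd]
          exact hnd) hfix)
      exact Cfsg.Agent.S3294.hasNormalPComplement_of_quotient_isPGroup 2 (Cfsg.pResidual 2 G)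
        ((Nat.Prime.coprime_iff_not_dvd Nat.prime_two).2 hcore).symm
        Cfsg.Agent.Lib.Helper2_PResidual.isPGroup_quotient_pResidual

end Cfsg.Agent.S4549
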