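import Cfsg.Statements.S4553
import Cfsg.Agent.Lib.Helper76_ResidualExt
import Cfsg.Agent.Lib.Helper2_PResidual
import Cfsg.Agent.S4455

set_option autoImplicit false
open Cfsg

namespace Cfsg.Agent.S4553

open Cfsg.Agent.Lib Cfsg.Agent.Lib.Helper74_PQuot Cfsg.Agent.Lib.Helper75_LinChar
  Cfsg.Agent.Lib.Helper76_ResidualExt
open scoped ComplexConjugate

universe u

section Aux

variable {G : Type u} [Group G] [Finite G]

omit [Finite G] in
theorem charDegree_eq_of_one_eq {H : Type*} [Group H] {χ : G → ℂ} {ψ : H → ℂ} (h : χ 1 = ψ 1) :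
    charDegree χ = charDegree ψ := by
  unfold charDegree
  rw [h]

/-- The extension with determinantal order prime to `p` is fixed by `g ↦ g ^ k` when its
restriction is. -/
theorem canon_pow_fixed {p : ℕ} [Fact p.Prime] (N : Subgroup G) [hNn : N.Normal]
    (hN : IsPGroup p (G ⧸ N)) (k : ℕ) (hk : k.Coprime (Nat.card G)) {c : G → ℂ}
    (hc : IsIrrCharacter G c) (hcN : IsIrrCharacter N (fun n : N => c n))
    (hfix : ∀ n : N, c ((n : G) ^ k) = c n) (d : ℕ) (hd : c 1 = d) (hpd : ¬ p ∣ d)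
    (ho : ¬ p ∣ orderOf (detChar c)) (g : G) : c (g ^ k) = c g := by
  have := Fintype.ofFinite G
  have hc' : IsIrrCharacter G (fun g => c (g ^ k)) :=
    Helper75_GalConj.isIrrCharacter_powMap hc k hk
  have ho' : ¬ p ∣ orderOf (detChar (fun g => c (g ^ k))) := by
    rw [Helper75_CanonExt.detChar_powMap hc k hk]
    exact fun h => ho (h.trans (orderOf_pow_dvd k))
  have h := ext_unique N hN hc hc' hcN hfix d hd hpd ho ho'
  exact congrFun h g

end Aux

/-- Let G be a finite group, p a prime, P a Sylow p-subgroup, N the p-residual of G (the subgroup generated by the elements of order prime to p, the smallest normal subgroup with G/N a p-group), and M a maximal ideal of the algebraic integers containing p; suppose G/N is cyclic and nontrivial. Let k be a natural number with g ^ k = g ^ (1 + p) for every p-element g and g ^ k = g for every element g of order prime to p (so that χ (g ^ k) is the image of χ g under the field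 automorphism that raises p-power roots of unity to the power 1 + p and fixes the roots of unity of order prime to p). Then the number of members χ of the principal block of G of degree prime to p with χ (g ^ k) = χ g for all g equals p times the number of members θ of the principal block of N of degree prime to p that are invariant under conjugation by P and satisfy θ (n ^ k) = θ n for all n. -/
theorem result {G : Type*} [Group G] [Finite G] (p : ℕ) [Fact p.Prime] (M : Ideal Cfsg.AlgInt) (hM : Cfsg.IsPModular p M) (P : Sylow p G) (N : Subgroup G) [hN : N.Normal] (hNres : N = Cfsg.pResidual p G) (hcyc : IsCyclic (G ⧸ N)) (hnt : N ≠ ⊤) (k : ℕ) (hk₁ : ∀ g : G, (∃ j : ℕ, orderOf g = p ^ j) → g ^ k = g ^ (1 + p)) (hk₂ : ∀ g : G, Nat.Coprime (orderOf g) p → g ^ k = g) : Nat.card {χ : Cfsg.IrrCharacter G // χ ∈ Cfsg.principalBlock M G ∧ ¬ p ∣ Cfsg.charDegree (χ : G → ℂ) ∧ ∀ g : G, (χ : G → ℂ) (g ^ k) = (χ : G → ℂ) g} = p * Nat.card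 {θ : Cfsg.IrrCharacter ↥N // θ ∈ Cfsg.principalBlock M ↥N ∧ ¬ p ∣ Cfsg.charDegree (θ : ↥N → ℂ) ∧ (∀ x ∈ (P : Subgroup G), ∀ n : ↥N, (θ : ↥N → ℂ) ⟨x * n * x⁻¹, hN.conj_mem n n.2 x⟩ = (θ : ↥N → ℂ) n) ∧ ∀ n : ↥N, (θ : ↥N → ℂ) (n ^ k) = (θ : ↥N → ℂ) n} := by
  classical
  have hp : p.Prime := Fact.out
  have hMp := Helper78_LocalRing.isPrime_of_isPModular hM
  have := Fintype.ofFinite G
  have hNp : IsPGroup p (G ⧸ N) := by
    subst hNres
    exact Helper2_PResidual.isPGroup_quotient_pResidual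
  obtain ⟨m, hm⟩ := IsPGroup.iff_card.mp hNp
  have hidx : N.index = p ^ m := hm
  have hkc : k.Coprime (Nat.card G) := coprime_of_pow_hyp p hp k hk₁ hk₂
  have hNmem : ∀ g : G, Nat.Coprime (orderOf g) p → g ∈ N := by
    intro g hg
    rw [hNres]
    exact Helper2_PResidual.mem_pResidual_of_coprime hg
  obtain ⟨a, r, hr, hcard⟩ : ∃ a r : ℕ, ¬ p ∣ r ∧ Nat.card G = p ^ a * r :=
    ⟨(Nat.card G).factorization p, ordCompl[p] (Nat.card G),
      Nat.not_dvd_ordCompl hp Nat.card_pos.ne', (Nat.ordProj_mul_ordCompl_eq_self _ _).symm⟩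
  have hlin : ∀ lam : N → ℂ, IsLin N lam → ∀ n : N, lam n ^ r = 1 := by
    subst hNres
    exact Cfsg.Agent.S4455.lin_pow_eq_one (G := G) p a r hcard
  -- degrees
  have hdegG : ∀ χ : Cfsg.IrrCharacter G, ∃ d : ℕ, (χ : G → ℂ) 1 = d ∧
      Cfsg.charDegree (χ : G → ℂ) = d := fun χ => by
    obtain ⟨d, -, hd⟩ := Helper80_CharBasic.irr_apply_one χ
    exact ⟨d, hd, Helper79_CharVals.charDegree_of_eq_natCast hd⟩
  have hdegN : ∀ ψ : Cfsg.IrrCharacter N, ∃ d : ℕ, (ψ : N → ℂ) 1 = d ∧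
      Cfsg.charDegree (ψ : N → ℂ) = d := fun ψ => by
    obtain ⟨d, -, hd⟩ := Helper80_CharBasic.irr_apply_one ψ
    exact ⟨d, hd, Helper79_CharVals.charDegree_of_eq_natCast hd⟩
  -- the two sets
  let X : Type _ := {χ : Cfsg.IrrCharacter G // χ ∈ Cfsg.principalBlock M G ∧
    ¬ p ∣ Cfsg.charDegree (χ : G → ℂ) ∧ ∀ g : G, (χ : G → ℂ) (g ^ k) = (χ : G → ℂ) g}
  let Θ : Type _ := {θ : Cfsg.IrrCharacter ↥N // θ ∈ Cfsg.principalBlock M ↥N ∧
    ¬ p ∣ Cfsg.charDegree (θ : ↥N → ℂ) ∧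
    (∀ x ∈ (P : Subgroup G), ∀ n : ↥N,
      (θ : ↥N → ℂ) ⟨x * n * x⁻¹, hN.conj_mem n n.2 x⟩ = (θ : ↥N → ℂ) n) ∧
    ∀ n : ↥N, (θ : ↥N → ℂ) (n ^ k) = (θ : ↥N → ℂ) n}
  show Nat.card X = p * Nat.card Θ
  -- G-invariance
  have hΘinv : ∀ θ : Θ, ∀ (g : G) (n : N),
      (θ.1 : N → ℂ) ⟨g * n * g⁻¹, hN.conj_mem n n.2 g⟩ = (θ.1 : N → ℂ) n := by
    intro θ
    apply (sylow_fixed_iff N hNp P θ.1).mp
    intro a
    apply Subtype.ext
    funext n
    rw [cjIrr_apply]
    exact θ.2.2.2.1 (a : G)⁻¹ (inv_mem a.2) n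
  -- canonical extensions
  have hcan : ∀ θ : Θ, ∃ c : Cfsg.IrrCharacter G, (∀ n : N, (c : G → ℂ) n = (θ.1 : N → ℂ) n) ∧
      ¬ p ∣ orderOf (detChar (c : G → ℂ)) := by
    intro θ
    obtain ⟨d, hd, hcd⟩ := hdegN θ.1
    have hpd : ¬ p ∣ d := by rw [← hcd]; exact θ.2.2.1
    obtain ⟨χ, hχ, hχN, hχo⟩ := ext_exists N hNp a r hcard hr hlin (θ.1 : N → ℂ) θ.1.2
      (hΘinv θ) d hd hpd
    exact ⟨⟨χ, hχ⟩, hχN, hχo⟩
  choose can hcanres hcandet using hcan
  have hcanN : ∀ θ : Θ, IsIrrCharacter N (fun n : N => (can θ : G → ℂ) n) := by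
    intro θ
    have h1 : (fun n : N => (can θ : G → ℂ) n) = (θ.1 : N → ℂ) := funext (hcanres θ)
    rw [h1]
    exact θ.1.2
  have hcandeg : ∀ θ : Θ, ∃ d : ℕ, (can θ : G → ℂ) 1 = d ∧ ¬ p ∣ d := by
    intro θ
    obtain ⟨d, hd, hcd⟩ := hdegN θ.1
    refine ⟨d, ?_, by rw [← hcd]; exact θ.2.2.1⟩
    rw [← hd]
    exact hcanres θ 1
  have hcanfix : ∀ θ : Θ, ∀ g : G, (can θ : G → ℂ) (g ^ k) = (can θ : G → ℂ) g := by
    intro θ
    obtain ⟨d, hd, hpd⟩ := hcandeg θ
    refine canon_pow_fixed N hNp k hkc (can θ).2 (hcanN θ) ?_ d hd hpd (hcandet θ)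
    intro n
    have h1 : ((n : G) ^ k) = ((n ^ k : N) : G) := by simp
    rw [h1, hcanres θ, hcanres θ]
    exact θ.2.2.2.2 n
  have hlinpow : ∀ β : LinP N p, ∀ g : G, β.1 (g ^ k) = β.1 g := by
    intro β g
    rw [lin_pow_of_trivial p hp N hNmem k hk₁ hk₂ β.2.1 β.2.2.1 g, pow_add, pow_one,
      β.2.2.2 g, mul_one]
  -- the map
  have hfirr : ∀ (θ : Θ) (β : LinP N p), IsIrrCharacter G (β.1 * (can θ : G → ℂ)) :=
    fun θ β => β.2.1.mul_irr (can θ).2
  have hfres : ∀ (θ : Θ) (β : LinP N p) (n : N),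
      (β.1 * (can θ : G → ℂ)) n = (θ.1 : N → ℂ) n := by
    intro θ β n
    rw [Pi.mul_apply, β.2.2.1 n, one_mul, hcanres θ n]
  let f : Θ × LinP N p → X := fun x =>
    ⟨⟨x.2.1 * (can x.1 : G → ℂ), hfirr x.1 x.2⟩,
      ext_mem_principalBlock hM N hidx x.1.1 x.1.2.1 ⟨_, hfirr x.1 x.2⟩ (hfres x.1 x.2),
      by
        have h1 : charDegree (x.2.1 * (can x.1 : G → ℂ)) = charDegree (x.1.1 : N → ℂ) :=
          charDegree_eq_of_one_eq (hfres x.1 x.2 1)
        show ¬ p ∣ charDegree (x.2.1 * (can x.1 : G → ℂ))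
        rw [h1]
        exact x.1.2.2.1,
      by
        intro g
        show (x.2.1 * (can x.1 : G → ℂ)) (g ^ k) = (x.2.1 * (can x.1 : G → ℂ)) g
        rw [Pi.mul_apply, Pi.mul_apply, hlinpow x.2 g, hcanfix x.1 g]⟩
  have hfval : ∀ x : Θ × LinP N p, ((f x).1 : G → ℂ) = x.2.1 * (can x.1 : G → ℂ) := fun x => rfl
  have hinj : Function.Injective f := by
    rintro ⟨θ, β⟩ ⟨θ', β'⟩ h
    have h1 : β.1 * (can θ : G → ℂ) = β'.1 * (can θ' : G → ℂ) := by
      rw [← hfval (θ, β), ← hfval (θ', β'), h]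
    have h2 : θ = θ' := by
      apply Subtype.ext
      apply Subtype.ext
      funext n
      rw [← hfres θ β n, ← hfres θ' β' n, h1]
    subst h2
    have h3 : β.1 = β'.1 :=
      lin_mul_cancel N β.2.1 β'.2.1 β.2.2.1 β'.2.2.1 (can θ).2 (hcanN θ) h1
    have h4 : β = β' := Subtype.ext h3
    rw [h4]
  have hsurj : Function.Surjective f := by
    intro χ
    obtain ⟨d, hd, hcd⟩ := hdegG χ.1
    have hpd : ¬ p ∣ d := by rw [← hcd]; exact χ.2.2.1
    have hψ : IsIrrCharacter N (fun n : N => (χ.1 : G → ℂ) n) := irr_restrict N hNp χ.1 d hd hpd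
    let θ₀ : Cfsg.IrrCharacter N := ⟨fun n : N => (χ.1 : G → ℂ) n, hψ⟩
    let θ : Θ := ⟨θ₀, res_mem_principalBlock hMp N χ.1 χ.2.1 θ₀ rfl, by
        show ¬ p ∣ charDegree (fun n : N => (χ.1 : G → ℂ) n)
        rw [Cfsg.Agent.S4455.charDegree_res]
        exact χ.2.2.1, by
        intro x _ n
        exact Helper80_CharBasic.irr_conj χ.1 n x, by
        intro n
        show (χ.1 : G → ℂ) ((n ^ k : N) : G) = (χ.1 : G → ℂ) n
        rw [Subgroup.coe_pow]
        exact χ.2.2.2 n⟩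
    have hres : ∀ n : N, (χ.1 : G → ℂ) n = (can θ : G → ℂ) n := fun n => (hcanres θ n).symm
    obtain ⟨β, hβ, hβN, hχeq⟩ := Helper75_Gallagher.exists_lin_of_extensions N (can θ).2 χ.1.2
      (hcanN θ) hres
    -- β ^ p = 1
    have hβpow : β ^ (1 + p) * (can θ : G → ℂ) = β * (can θ : G → ℂ) := by
      funext g
      have h1 := χ.2.2.2 g
      rw [hχeq, Pi.mul_apply, Pi.mul_apply, hcanfix θ g,
        lin_pow_of_trivial p hp N hNmem k hk₁ hk₂ hβ hβN g] at h1
      rw [Pi.mul_apply, Pi.mul_apply, Pi.pow_apply]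
      exact h1
    have hβeq : β ^ (1 + p) = β :=
      lin_mul_cancel N (hβ.pow (1 + p)) hβ (fun n => by rw [Pi.pow_apply, hβN n, one_pow]) hβN
        (can θ).2 (hcanN θ) hβpow
    have hβp : ∀ g : G, β g ^ p = 1 := by
      intro g
      have h1 := congrFun hβeq g
      rw [Pi.pow_apply, pow_add, pow_one] at h1
      exact mul_left_cancel₀ (hβ.ne_zero g) (h1.trans (mul_one _).symm)
    refine ⟨(θ, ⟨β, hβ, hβN, hβp⟩), ?_⟩
    apply Subtype.ext
    apply Subtype.ext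
    rw [hfval]
    exact hχeq.symm
  rw [← Nat.card_congr (Equiv.ofBijective f ⟨hinj, hsurj⟩), Nat.card_prod,
    card_linP p N hcyc hNp hnt, mul_comm]

end Cfsg.Agent.S4553
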