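-- Statement S4558: a character vanishing at a p-element has degree divisible by p.
import Cfsg.Statements.S4558
import Mathlib.RingTheory.Polynomial.Cyclotomic.Eval
import Mathlib.RingTheory.Polynomial.Cyclotomic.Roots
import Mathlib.LinearAlgebra.Eigenspace.Charpoly
import Mathlib.FieldTheory.IsAlgClosed.Basic
import Mathlib.Analysis.Complex.Polynomial.Basic

set_option autoImplicit false
open Cfsg

namespace Cfsg.Agent.S4558

open Polynomial

/-- A multiset of complex `p^(k+1)`-th roots of unity with zero sum has cardinality divisible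
by `p`. -/
theorem dvd_card_of_sum_roots_of_unity_eq_zero (p : ℕ) [hp : Fact p.Prime] (k : ℕ)
    (s : Multiset ℂ) (hs : ∀ μ ∈ s, μ ^ (p ^ (k + 1)) = 1) (hsum : s.sum = 0) :
    p ∣ Multiset.card s := by
  classical
  set N : ℕ := p ^ (k + 1) with hN
  have hNpos : 0 < N := pow_pos hp.out.pos _
  set ζ : ℂ := Complex.exp (2 * Real.pi * Complex.I / N) with hζ
  have hprim : IsPrimitiveRoot ζ N := Complex.isPrimitiveRoot_exp N hNpos.ne'
  -- choose an exponent for each root of unity
  have hex : ∀ μ : ℂ, ∃ a : ℕ, μ ^ N = 1 → ζ ^ a = μ := by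
    intro μ
    by_cases h : μ ^ N = 1
    · obtain ⟨a, _, ha⟩ := hprim.eq_pow_of_pow_eq_one h
      exact ⟨a, fun _ => ha⟩
    · exact ⟨0, fun h' => absurd h' h⟩
  choose e he using hex
  set f : ℤ[X] := (s.map (fun μ => (X : ℤ[X]) ^ e μ)).sum with hf
  have h1 : aeval ζ f = 0 := by
    rw [hf, map_multiset_sum, Multiset.map_map]
    have : s.map ((aeval ζ : ℤ[X] →ₐ[ℤ] ℂ) ∘ fun μ => (X : ℤ[X]) ^ e μ) = s.map id := by
      apply Multiset.map_congr rfl
      intro μ hμ
      simp [he μ (hs μ hμ)]
    rw [this, Multiset.map_id, hsum]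
  have h2 : eval 1 f = (Multiset.card s : ℤ) := by
    rw [hf]
    have : eval (1 : ℤ) (s.map (fun μ => (X : ℤ[X]) ^ e μ)).sum
        = (s.map (fun μ => eval (1 : ℤ) ((X : ℤ[X]) ^ e μ))).sum := by
      have := map_multiset_sum (evalRingHom (1 : ℤ)) (s.map (fun μ => (X : ℤ[X]) ^ e μ))
      simpa [Multiset.map_map] using this
    rw [this]
    simp
  have hint : IsIntegral ℤ ζ := hprim.isIntegral hNpos
  have hdvd : cyclotomic N ℤ ∣ f := by
    rw [cyclotomic_eq_minpoly hprim hNpos]
    exact minpoly.isIntegrallyClosed_dvd hint h1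
  have hdvd' : eval 1 (cyclotomic N ℤ) ∣ eval 1 f := by
    obtain ⟨q, hq⟩ := hdvd
    rw [hq, eval_mul]
    exact dvd_mul_right _ _
  rw [hN, eval_one_cyclotomic_prime_pow, h2] at hdvd'
  exact_mod_cast hdvd'

/-- Let χ be a character of the finite group G and g an element of p-power order for the prime p. If χ g = 0, then p divides the degree of χ. -/
theorem result {G : Type*} [Group G] [Finite G] (p : ℕ) [Fact p.Prime] (χ : G → ℂ) (hχ : Cfsg.IsCharacter G χ) (g : G) (hg : ∃ j : ℕ, orderOf g = p ^ j) (h0 : χ g = 0) : p ∣ Cfsg.charDegree χ := by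
  obtain ⟨n, ρ, rfl⟩ := hχ
  obtain ⟨j, hj⟩ := hg
  have hdeg : Cfsg.charDegree ρ.character = n := by
    simp [Cfsg.charDegree, Representation.char_one]
  rw [hdeg]
  rcases j with _ | k
  · -- g = 1
    have hg1 : g = 1 := by
      rw [pow_zero] at hj
      exact orderOf_eq_one_iff.mp hj
    rw [hg1, Representation.char_one] at h0
    have : n = 0 := by simpa using h0
    rw [this]; exact dvd_zero p
  · set T : Module.End ℂ (Fin n → ℂ) := ρ g with hT
    have hpow : T ^ (p ^ (k + 1)) = 1 := by
      rw [hT, ← map_pow, ← hj, pow_orderOf_eq_one, map_one]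
    have hsplit : T.charpoly.Splits := IsAlgClosed.splits _
    have htr : LinearMap.trace ℂ (Fin n → ℂ) T = T.charpoly.roots.sum :=
      Module.End.trace_eq_sum_roots_charpoly_of_splits hsplit
    have hcard : Multiset.card T.charpoly.roots = n := by
      rw [Polynomial.splits_iff_card_roots.mp hsplit, LinearMap.charpoly_natDegree]
      simp
    have hroots : ∀ μ ∈ T.charpoly.roots, μ ^ (p ^ (k + 1)) = 1 := by
      intro μ hμ
      have hroot : T.charpoly.IsRoot μ := (Polynomial.mem_roots'.mp hμ).2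
      have hev : T.HasEigenvalue μ := (Module.End.hasEigenvalue_iff_isRoot_charpoly T μ).mpr hroot
      obtain ⟨v, hv⟩ := hev.exists_hasEigenvector
      have h1 : (T ^ (p ^ (k + 1))) v = μ ^ (p ^ (k + 1)) • v := by
        have := hv.pow_apply (p ^ (k + 1))
        simpa using this
      rw [hpow] at h1
      have h2 : (1 - μ ^ (p ^ (k + 1))) • v = 0 := by
        rw [sub_smul, one_smul, ← h1]; simp
      rcases smul_eq_zero.mp h2 with h3 | h3
      · exact (sub_eq_zero.mp h3).symm
      · exact absurd h3 hv.2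
    have hsum : T.charpoly.roots.sum = 0 := by
      rw [← htr]; exact h0
    have := dvd_card_of_sum_roots_of_unity_eq_zero p k T.charpoly.roots hroots hsum
    rwa [hcard] at this

end Cfsg.Agent.S4558
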