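import Mathlib
import Cfsg.Statements.S4560
import Cfsg.Agent.Lib.Helper80_AltCharE
import Cfsg.Agent.Lib.Helper80_AltCharG
-- import your own Cfsg.Agent.* helpers here

set_option autoImplicit false
open Cfsg

namespace Cfsg.Agent.S4560

open MulAction Cfsg.Agent.Lib.Helper80_AltCharC Cfsg.Agent.Lib.Helper80_AltCharD
  Cfsg.Agent.Lib.Helper80_AltCharE Cfsg.Agent.Lib.Helper80_AltCharF
  Cfsg.Agent.Lib.Helper80_AltCharG

theorem card_fin4 (n : ℕ) (hn : 7 ≤ n) : 4 ≤ Nat.card (Fin n) := by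
  rw [Nat.card_eq_fintype_card, Fintype.card_fin]; omega

theorem alt_four (n : ℕ) (hn : 7 ≤ n) :
    IsMultiplyPretransitive (alternatingGroup (Fin n)) (Fin n) 4 := by
  have h := alternatingGroup.isMultiplyPretransitive (Fin n)
  have hc : Nat.card (Fin n) = n := by rw [Nat.card_eq_fintype_card, Fintype.card_fin]
  exact isMultiplyPretransitive_of_le (n := Nat.card (Fin n) - 2) (by rw [hc]; omega)
    (Nat.sub_le _ _)

/-- the key step: an even permutation with one of the three fixed point patterns is a zero of an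
irreducible character of the alternating group which extends to the symmetric group -/
theorem key (n : ℕ) (hn : 7 ≤ n) (x : alternatingGroup (Fin n))
    (hP : PA (x : Equiv.Perm (Fin n)) ∨ PB (x : Equiv.Perm (Fin n)) ∨
      PC (x : Equiv.Perm (Fin n))) :
    ∃ χ : Cfsg.IrrCharacter (alternatingGroup (Fin n)),
      (χ : alternatingGroup (Fin n) → ℂ) x = 0 ∧
      ∃ ψ : Cfsg.IrrCharacter (Equiv.Perm (Fin n)), ∀ z : alternatingGroup (Fin n),
        (ψ : Equiv.Perm (Fin n) → ℂ) z = (χ : alternatingGroup (Fin n) → ℂ) z := by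
  have h4 := card_fin4 n hn
  have := alt_four n hn
  have := Equiv.Perm.isMultiplyPretransitive (Fin n) 4
  rcases hP with hA | hB | hC
  · refine ⟨⟨chi2 (alternatingGroup (Fin n)) (Fin n), chi2_irr h4⟩, ?_,
      ⟨chi2 (Equiv.Perm (Fin n)) (Fin n), chi2_irr h4⟩, fun z => ?_⟩
    · exact chi2_zero x hA
    · exact (chi2_subgroup (alternatingGroup (Fin n)) z).symm
  · refine ⟨⟨chi3 (alternatingGroup (Fin n)) (Fin n), chi3_irr h4⟩, ?_,
      ⟨chi3 (Equiv.Perm (Fin n)) (Fin n), chi3_irr h4⟩, fun z => ?_⟩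
    · exact chi3_zero x hB
    · exact (chi3_subgroup (alternatingGroup (Fin n)) z).symm
  · refine ⟨⟨chi1 (alternatingGroup (Fin n)) (Fin n), chi1_irr h4⟩, ?_,
      ⟨chi1 (Equiv.Perm (Fin n)) (Fin n), chi1_irr h4⟩, fun z => ?_⟩
    · exact chi1_zero x hC
    · exact (chi1_subgroup (alternatingGroup (Fin n)) z).symm

/-- For n ≥ 7 the alternating group on n letters has an irreducible character that vanishes at some 2-element and is the restriction of an irreducible character of the symmetric group, and an irreducible character that vanishes at some element of order 3 and is the restriction of an irreducible character of the symmetric group. -/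
theorem result (n : ℕ) (hn : 7 ≤ n) : (∃ χ : Cfsg.IrrCharacter (alternatingGroup (Fin n)), (∃ x : alternatingGroup (Fin n), (∃ j : ℕ, orderOf x = 2 ^ j) ∧ (χ : alternatingGroup (Fin n) → ℂ) x = 0) ∧ ∃ ψ : Cfsg.IrrCharacter (Equiv.Perm (Fin n)), ∀ x : alternatingGroup (Fin n), (ψ : Equiv.Perm (Fin n) → ℂ) x = (χ : alternatingGroup (Fin n) → ℂ) x) ∧ (∃ χ : Cfsg.IrrCharacter (alternatingGroup (Fin n)), (∃ y : alternatingGroup (Fin n), orderOf y = 3 ∧ (χ : alternatingGroup (Fin n) → ℂ) y = 0) ∧ ∃ ψ : Cfsg.IrrCharacter (Equiv.Perm (Fin n)), ∀ x : alternatingGroup (Fin n), (ψ : Equiv.Perm (Fin n) → ℂ) x = (χ : alternatingGroup (Fin n) → ℂ) x) := by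
  constructor
  · obtain ⟨x, hsign, hx8, hP⟩ := exists_two n hn
    set X : alternatingGroup (Fin n) := ⟨x, Equiv.Perm.mem_alternatingGroup.mpr hsign⟩ with hX
    obtain ⟨χ, hχ0, ψ, hψ⟩ := key n hn X hP
    refine ⟨χ, ⟨X, ?_, hχ0⟩, ψ, hψ⟩
    have hX8 : X ^ 8 = 1 := Subtype.ext (by simpa using hx8)
    have hdvd : orderOf X ∣ 2 ^ 3 := orderOf_dvd_of_pow_eq_one hX8
    obtain ⟨j, -, hj⟩ := (Nat.dvd_prime_pow Nat.prime_two).mp hdvd
    exact ⟨j, hj⟩
  · obtain ⟨y, hy3, hne, hP⟩ := exists_three n hn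
    have hsign : Equiv.Perm.sign y = 1 := by
      have h3 : Equiv.Perm.sign y ^ 3 = 1 := by rw [← map_pow, hy3, map_one]
      rcases Int.units_eq_one_or (Equiv.Perm.sign y) with h | h
      · exact h
      · rw [h] at h3
        exact absurd h3 (by decide)
    set Y : alternatingGroup (Fin n) := ⟨y, Equiv.Perm.mem_alternatingGroup.mpr hsign⟩ with hY
    obtain ⟨χ, hχ0, ψ, hψ⟩ := key n hn Y hP
    refine ⟨χ, ⟨Y, ?_, hχ0⟩, ψ, hψ⟩
    have hY3 : Y ^ 3 = 1 := Subtype.ext (by simpa using hy3)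
    have hYne : Y ≠ 1 := fun h => hne (congrArg Subtype.val h)
    haveI : Fact (Nat.Prime 3) := ⟨by norm_num⟩
    exact orderOf_eq_prime hY3 hYne

end Cfsg.Agent.S4560
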