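import Cfsg.Statements.S4573
import Cfsg.Agent.Lib.Helper15_WreathM
import Cfsg.Agent.S0581

set_option autoImplicit false
set_option linter.unusedSectionVars false
universe u
open Cfsg

namespace Cfsg.Agent.S4573

open RegularWreathProduct Cfsg.Agent.Lib.Helper15_PiChar Cfsg.Agent.Lib.Helper15_WreathM

section KK

variable {G : Type u} [Group G] (N : Subgroup G) [hN : N.Normal] {M : Type u} [Group M]
  (ι : ↥N →* M)

/-- a section of `G → G ⧸ N`. -/
noncomputable def sec (q : G ⧸ N) : G := Quotient.out q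

theorem mk_sec (q : G ⧸ N) : (QuotientGroup.mk (sec N q) : G ⧸ N) = q := QuotientGroup.out_eq' q

theorem kk_mem (g : G) (q : G ⧸ N) :
    (sec N q)⁻¹ * g * sec N ((QuotientGroup.mk g : G ⧸ N)⁻¹ * q) ∈ N := by
  rw [← QuotientGroup.eq_one_iff, QuotientGroup.mk_mul, QuotientGroup.mk_mul, QuotientGroup.mk_inv,
    mk_sec, mk_sec]
  group

/-- The Krasner–Kaloujnine embedding into the wreath product. -/
noncomputable def kk : G →* M ≀ᵣ (G ⧸ N) where
  toFun g := ⟨fun q => ι ⟨(sec N q)⁻¹ * g * sec N ((QuotientGroup.mk g : G ⧸ N)⁻¹ * q),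
    kk_mem N g q⟩, (QuotientGroup.mk g : G ⧸ N)⟩
  map_one' := by
    ext q
    · show ι ⟨(sec N q)⁻¹ * 1 * sec N ((QuotientGroup.mk (1 : G) : G ⧸ N)⁻¹ * q), _⟩ = 1
      have : (⟨(sec N q)⁻¹ * 1 * sec N ((QuotientGroup.mk (1 : G) : G ⧸ N)⁻¹ * q),
          kk_mem N 1 q⟩ : ↥N) = 1 := by
        apply Subtype.ext
        simp
      rw [this, map_one]
    · rfl
  map_mul' g h := by
    ext q
    · show ι _ = ι _ * ι _
      rw [← map_mul]
      congr 1
      apply Subtype.ext
      simp only [Subgroup.coe_mul, QuotientGroup.mk_mul, mul_inv_rev]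
      simp only [mul_assoc]
      simp
    · rfl

theorem kk_injective (hι : Function.Injective ι) : Function.Injective (kk N ι) := by
  rw [injective_iff_map_eq_one]
  intro g hg
  have h1 : (QuotientGroup.mk g : G ⧸ N) = 1 := congrArg RegularWreathProduct.right hg
  have h2 := congrFun (congrArg RegularWreathProduct.left hg) 1
  have h3 : ι ⟨(sec N 1)⁻¹ * g * sec N ((QuotientGroup.mk g : G ⧸ N)⁻¹ * 1), kk_mem N g 1⟩ = 1 := h2
  rw [← map_one ι] at h3
  have h4 := congrArg Subtype.val (hι h3)
  simp only [h1, inv_one, mul_one, Subgroup.coe_one] at h4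
  have : g = sec N 1 * ((sec N 1)⁻¹ * g * sec N 1) * (sec N 1)⁻¹ := by group
  rw [this, h4]
  group

end KK

theorem main : ∀ (n : ℕ) (G : Type u) [Group G] [Finite G], Nat.card G = n → Group.IsSolvable G →
    ∃ (M : Type u) (_ : Group M) (_ : Fintype M),
      (∀ χ : M → ℂ, Cfsg.IsIrrCharacter M χ → (∃ (H : Subgroup M) (lam : ↥H →* ℂˣ),
        χ = Cfsg.indFun H (fun h => (lam h : ℂ)))) ∧ ∃ f : G →* M, Function.Injective f := by
  intro n
  induction n using Nat.strong_induction_on with
  | _ n ih =>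
    intro G _ _ hcard hsolv
    classical
    by_cases htriv : Subsingleton G
    · have hfin : Fintype G := Fintype.ofFinite G
      have hnil : Group.IsNilpotent G := inferInstance
      refine ⟨G, inferInstance, hfin, ?_, MonoidHom.id G, Function.injective_id⟩
      intro χ hχ
      exact Cfsg.Agent.Lib.Helper3_NilpMono.monomial_of_nilpotent χ hχ
    · have hnt : Nontrivial G := not_subsingleton_iff_nontrivial.mp htriv
      obtain ⟨N, q, hNn, hq, hidx⟩ := Cfsg.Agent.S0581.exists_normal_prime_index G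
      have hNlt : Nat.card ↥N < n := by
        rw [← hcard, ← Subgroup.card_mul_index N, hidx]
        have hpos : 0 < Nat.card ↥N := Nat.card_pos
        nlinarith [hq.two_le]
      have hNsolv : Group.IsSolvable ↥N := inferInstance
      obtain ⟨M₀, hM₀g, hM₀f, hM₀, ι, hι⟩ := ih _ hNlt ↥N rfl hNsolv
      have hQf : Fintype (G ⧸ N) := Fintype.ofFinite _
      have hWf : Fintype (M₀ ≀ᵣ (G ⧸ N)) := Fintype.ofFinite _
      have hp : (Nat.card (G ⧸ N)).Prime := by
        rw [← Subgroup.index_eq_card, hidx]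
        exact hq
      have hW : IsMGroup (M₀ ≀ᵣ (G ⧸ N)) := isMGroup_wreath hM₀ hp
      exact ⟨M₀ ≀ᵣ (G ⧸ N), inferInstance, hWf, hW, kk N ι, kk_injective N ι hι⟩

/-- Every finite solvable group is isomorphic to a subgroup of a finite M-group, a group each of whose irreducible characters is induced from a homomorphism of some subgroup into ℂˣ. -/
theorem result {G : Type u} [Group G] [Finite G] (hsolv : Group.IsSolvable G) : ∃ (M : Type u) (_ : Group M) (_ : Fintype M), (∀ χ : M → ℂ, Cfsg.IsIrrCharacter M χ → (∃ (H : Subgroup M) (lam : ↥H →* ℂˣ), χ = Cfsg.indFun H (fun h => (lam h : ℂ)))) ∧ ∃ f : G →* M, Function.Injective f := by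
  exact main (Nat.card G) G rfl hsolv

end Cfsg.Agent.S4573
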