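import Cfsg.Statements.S4561
import Cfsg.Agent.Lib.Helper76_GagolaStep
import Cfsg.Agent.S4573
import Cfsg.Agent.S0581

set_option autoImplicit false
set_option linter.unusedSectionVars false
set_option linter.unusedVariables false
set_option linter.style.haveILetI false
universe u
open Cfsg

namespace Cfsg.Agent.S4561

open RegularWreathProduct Cfsg.Agent.Lib.Helper76_GalConj

theorem main : ∀ (n : ℕ) (G : Type u) [Group G] [Finite G], Nat.card G = n → Group.IsSolvable G →
    ∃ (H : Type u) (_ : Group H) (_ : Finite H) (χ : Cfsg.IrrCharacter H),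
      (∀ h : H, (χ : H → ℂ) h = (χ : H → ℂ) 1 → h = 1) ∧
      (Cfsg.charDegree (χ : H → ℂ)) ^ 2 = (Subgroup.center H).index ∧
      (∃ f : G →* H ⧸ Subgroup.center H, Function.Injective f) ∧
      (∀ p : ℕ, p.Prime → ((p ∣ Nat.card H ↔ p ∣ Nat.card G) ∧
        (p ∣ Nat.card (Subgroup.center H) ↔ p ∣ Nat.card G))) ∧
      Squarefree (Nat.card (Subgroup.center H)) := by
  intro n
  induction n using Nat.strong_induction_on with
  | _ n ih =>
    intro G _ _ hcard hsolv
    classical
    by_cases htriv : Subsingleton G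
    · have hc1 : Nat.card G = 1 := Nat.card_of_subsingleton 1
      have hc2 : Nat.card (Subgroup.center G) = 1 := Nat.card_of_subsingleton 1
      refine ⟨G, inferInstance, inferInstance, Cfsg.Agent.Lib.Helper80_CharBasic.oneIrr G,
        fun h _ => Subsingleton.elim _ _, ?_, ⟨QuotientGroup.mk' _,
          Function.injective_of_subsingleton _⟩, ?_, ?_⟩
      · have h1 : (Subgroup.center G).index = 1 := by
          have := Subgroup.index_dvd_card (Subgroup.center G)
          rw [hc1] at this
          exact Nat.dvd_one.mp this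
        rw [h1]
        have h2 := irr_one_eq_charDegree (Cfsg.Agent.Lib.Helper80_CharBasic.oneIrr G)
        have h3 : ((Cfsg.Agent.Lib.Helper80_CharBasic.oneIrr G : Cfsg.IrrCharacter G) : G → ℂ) 1
            = 1 := rfl
        rw [h3] at h2
        have h4 : Cfsg.charDegree
            ((Cfsg.Agent.Lib.Helper80_CharBasic.oneIrr G : Cfsg.IrrCharacter G) : G → ℂ) = 1 := by
          exact_mod_cast h2.symm
        rw [h4, one_pow]
      · intro p hp
        rw [hc1, hc2]
        exact ⟨Iff.rfl, Iff.rfl⟩
      · rw [hc2]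
        exact squarefree_one
    · have hnt : Nontrivial G := not_subsingleton_iff_nontrivial.mp htriv
      obtain ⟨N, q, hNn, hq, hidx⟩ := Cfsg.Agent.S0581.exists_normal_prime_index G
      have hmul : Nat.card ↥N * q = Nat.card G := by
        rw [← hidx]; exact Subgroup.card_mul_index N
      have hNlt : Nat.card ↥N < n := by
        rw [← hcard, ← hmul]
        have hpos : 0 < Nat.card ↥N := Nat.card_pos
        nlinarith [hq.two_le]
      have hNsolv : Group.IsSolvable ↥N := inferInstance
      obtain ⟨D, hDg, hDf, χ₀, hfaith₀, hram₀, ⟨f₀, hf₀⟩, hprimes₀, hsq₀⟩ :=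
        ih _ hNlt ↥N rfl hNsolv
      haveI : Fact q.Prime := ⟨hq⟩
      obtain ⟨H, hHg, hHf, χ, hfaithH, hdeg, ⟨j, hj⟩, hP1, hP2, hP3, hP4, hP5⟩ :=
        Cfsg.Agent.Lib.Helper76_GagolaStep.step (q := q) χ₀ hfaith₀ hram₀
      have hQcard : Nat.card (G ⧸ N) = q := by
        rw [← Subgroup.index_eq_card, hidx]
      haveI : Fact (Nat.card (G ⧸ N)).Prime := ⟨by rw [hQcard]; exact hq⟩
      have hcyc : IsCyclic (G ⧸ N) := isCyclic_of_prime_card rfl
      have e : G ⧸ N ≃* Multiplicative (ZMod q) := by
        have e0 := (zmodCyclicMulEquiv hcyc).symm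
        rw [hQcard] at e0
        exact e0
      refine ⟨H, hHg, hHf, χ, hfaithH, hdeg, ?_, ?_, hP5 hsq₀⟩
      · refine ⟨j.comp ((RegularWreathProduct.congr (MulEquiv.refl _) e).toMonoidHom.comp
          (Cfsg.Agent.S4573.kk N f₀)), ?_⟩
        intro a b hab
        have h1 := hj hab
        have h2 := (RegularWreathProduct.congr (MulEquiv.refl _) e).injective h1
        exact Cfsg.Agent.S4573.kk_injective N f₀ hf₀ h2
      · intro p hp
        have hG : p ∣ Nat.card G ↔ p ∣ Nat.card ↥N ∨ p = q := by
          rw [← hmul, Nat.Prime.dvd_mul hp, Nat.prime_dvd_prime_iff_eq hp hq]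
        have hZH : p ∣ Nat.card G → p ∣ Nat.card (Subgroup.center H) := by
          intro h
          rcases hG.mp h with h1 | h1
          · exact hP3 p hp ((hprimes₀ p hp).2.mpr h1)
          · rw [h1]; exact hP4
        refine ⟨⟨fun h => ?_, fun h => (hZH h).trans (Subgroup.card_subgroup_dvd_card _)⟩,
          ⟨fun h => ?_, hZH⟩⟩
        · rcases hP1 p hp h with h1 | h1
          · exact hG.mpr (Or.inl ((hprimes₀ p hp).1.mp h1))
          · exact hG.mpr (Or.inr h1)
        · rcases hP2 p hp h with h1 | h1
          · exact hG.mpr (Or.inl ((hprimes₀ p hp).2.mp h1))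
          · exact hG.mpr (Or.inr h1)

/-- For every finite solvable group G there is a finite group H with a faithful irreducible character χ whose degree squared equals the index of the centre Z(H) (so χ is fully ramified over the centre), such that G is isomorphic to a subgroup of H/Z(H), the primes dividing the orders of H, of Z(H) and of G are the same, and the order of Z(H) is squarefree. -/
theorem result {G : Type u} [Group G] [Finite G] (hsolv : Group.IsSolvable G) : ∃ (H : Type u) (_ : Group H) (_ : Finite H) (χ : Cfsg.IrrCharacter H), (∀ h : H, (χ : H → ℂ) h = (χ : H → ℂ) 1 → h = 1) ∧ (Cfsg.charDegree (χ : H → ℂ)) ^ 2 = (Subgroup.center H).index ∧ (∃ f : G →* H ⧸ Subgroup.center H, Function.Injective f) ∧ (∀ p : ℕ, p.Prime → ((p ∣ Nat.card H ↔ p ∣ Nat.card G) ∧ (p ∣ Nat.card (Subgroup.center H) ↔ p ∣ Nat.card G))) ∧ Squarefree (Nat.card (Subgroup.center H)) := by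
  exact main (Nat.card G) G rfl hsolv

end Cfsg.Agent.S4561
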