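import Mathlib
import Cfsg.Statements.S4565
import Cfsg.Agent.Lib.Helper80_FullyRamified

set_option autoImplicit false
open Cfsg

namespace Cfsg.Agent.S4565

open scoped ComplexConjugate
open Cfsg.Agent.Lib.Helper80_CharBasic Cfsg.Agent.Lib.Helper80_CharComplete
  Cfsg.Agent.Lib.Helper80_FullyRamified

/-- extension by zero -/
noncomputable def ext0 {H : Type*} [Group H] (Z : Subgroup H) (θ : Z → ℂ) (y : H) : ℂ := by
  classical exact if hy : y ∈ Z then θ ⟨y, hy⟩ else 0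

theorem ext0_coe {H : Type*} [Group H] (Z : Subgroup H) (θ : Z → ℂ) (z : Z) :
    ext0 Z θ (z : H) = θ z := by
  unfold ext0
  rw [dif_pos z.2]

theorem ext0_of_not_mem {H : Type*} [Group H] (Z : Subgroup H) (θ : Z → ℂ) {y : H} (hy : y ∉ Z) :
    ext0 Z θ y = 0 := by
  unfold ext0
  rw [dif_neg hy]

theorem conj_zpow_aux {H : Type*} [Group H] (x h : H) (k : ℤ) :
    (x ^ k * h)⁻¹ * x * (x ^ k * h) * x⁻¹ = h⁻¹ * x * h * x⁻¹ := by
  have h1 : (x ^ k)⁻¹ * x * x ^ k = x := by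
    have hc : x * x ^ k = x ^ k * x := ((Commute.refl x).zpow_right k).eq
    rw [mul_assoc, hc, inv_mul_cancel_left]
  calc (x ^ k * h)⁻¹ * x * (x ^ k * h) * x⁻¹
      = h⁻¹ * ((x ^ k)⁻¹ * x * x ^ k) * h * x⁻¹ := by
        rw [mul_inv_rev]
        simp only [mul_assoc]
    _ = h⁻¹ * x * h * x⁻¹ := by rw [h1]

/-- the key vanishing: `∑ₕ θ°(h⁻¹ x h x⁻¹) = 0` for `x ∉ Z` when `χ = e θ°` is irreducible. -/
theorem key_zero {H : Type*} [Group H] [Fintype H] (Z : Subgroup H) [Fintype Z]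
    (χ : Cfsg.IrrCharacter H) (θ : Cfsg.IrrCharacter Z) (e : ℕ) (he : e ^ 2 = Z.index)
    (he0 : (e : ℂ) ≠ 0)
    (hχZ : ∀ z : Z, (χ : H → ℂ) z = (e : ℂ) * (θ : Z → ℂ) z) {x : H} (hx : x ∉ Z) :
    ∑ h : H, ext0 Z (θ : Z → ℂ) (h⁻¹ * x * h * x⁻¹) = 0 := by
  have hχ : ∀ y : H, (χ : H → ℂ) y = (e : ℂ) * ext0 Z (θ : Z → ℂ) y := by
    intro y
    by_cases hy : y ∈ Z
    · have := hχZ ⟨y, hy⟩
      rw [show y = ((⟨y, hy⟩ : Z) : H) from rfl, ext0_coe]
      exact this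
    · rw [ext0_of_not_mem Z _ hy, mul_zero]
      exact vanish_off Z χ θ e he hχZ hy
  have h1 := sum_conj_mul_irr χ x x⁻¹
  rw [vanish_off Z χ θ e he hχZ hx, mul_zero, zero_mul] at h1
  simp only [hχ] at h1
  rw [← Finset.mul_sum] at h1
  rcases mul_eq_zero.mp h1 with h | h
  · exact absurd h he0
  · exact h

/-- fibre decomposition of a sum over `H` along the cyclic subgroup `C` of `H ⧸ Z`. -/
theorem sum_decomp {H : Type*} [Group H] [Fintype H] (Z : Subgroup H) [Z.Normal] [Fintype Z]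
    (C : Subgroup (H ⧸ Z)) (g : C) (hg : ∀ y : C, y ∈ Subgroup.zpowers g) (x : H)
    (hx : (x : H ⧸ Z) = (g : H ⧸ Z)) (F : H → ℂ)
    (ha : ∀ h : H, (h : H ⧸ Z) ∉ C → F h = 0)
    (hb : ∀ (k : ℤ) (h : H), F (x ^ k * h) = F h) :
    ∃ n : ℕ, 0 < n ∧ ∑ h : H, F h = (n : ℂ) * ∑ z : Z, F z := by
  classical
  haveI : Fintype (H ⧸ Z) := Fintype.ofFinite _
  refine ⟨(Finset.univ.filter (fun q : H ⧸ Z => q ∈ C)).card, ?_, ?_⟩
  · apply Finset.card_pos.mpr
    exact ⟨1, by simp [C.one_mem]⟩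
  · rw [← Finset.sum_fiberwise Finset.univ (fun h : H => (h : H ⧸ Z)) F]
    have hq : ∀ q : H ⧸ Z, ∑ h ∈ Finset.univ.filter (fun h : H => (h : H ⧸ Z) = q), F h =
        if q ∈ C then ∑ z : Z, F z else 0 := by
      intro q
      split_ifs with hqC
      · obtain ⟨k, hk⟩ := Subgroup.mem_zpowers_iff.mp (hg ⟨q, hqC⟩)
        have hqk : q = ((x ^ k : H) : H ⧸ Z) := by
          rw [QuotientGroup.mk_zpow, hx, ← Subgroup.coe_zpow, hk]
        have h1 : ∑ h ∈ Finset.univ.filter (fun h : H => (h : H ⧸ Z) = q), F h =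
            ∑ h ∈ Finset.univ.filter (fun h : H => (h : H ⧸ Z) = 1), F h := by
          refine Finset.sum_nbij' (fun h => (x ^ k)⁻¹ * h) (fun h => x ^ k * h) ?_ ?_ ?_ ?_ ?_
          · intro h hh
            simp only [Finset.mem_filter, Finset.mem_univ, true_and] at hh ⊢
            rw [QuotientGroup.mk_mul, QuotientGroup.mk_inv, hh, hqk, inv_mul_cancel]
          · intro h hh
            simp only [Finset.mem_filter, Finset.mem_univ, true_and] at hh ⊢
            rw [QuotientGroup.mk_mul, hh, mul_one, hqk]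
          · intro h _
            simp
          · intro h _
            simp
          · intro h _
            have := hb k ((x ^ k)⁻¹ * h)
            rw [mul_inv_cancel_left] at this
            exact this
        rw [h1]
        rw [Finset.sum_subtype (Finset.univ.filter (fun h : H => (h : H ⧸ Z) = 1))
          (p := fun h => h ∈ Z) (fun h => by simp [QuotientGroup.eq_one_iff]) F]
      · apply Finset.sum_eq_zero
        intro h hh
        simp only [Finset.mem_filter, Finset.mem_univ, true_and] at hh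
        exact ha h (by rw [hh]; exact hqC)
    simp only [hq]
    rw [Finset.sum_ite, Finset.sum_const_zero, add_zero, Finset.sum_const, nsmul_eq_mul]

/-- the double sum over the coset `Z c` is nonzero. -/
theorem double_sum {H : Type*} [Group H] [Fintype H] (Z : Subgroup H) [hZn : Z.Normal] [Fintype Z]
    (θ : Cfsg.IrrCharacter Z) (c : H)
    (hinv : ∀ z : Z, (θ : Z → ℂ) ⟨c * z * c⁻¹, hZn.conj_mem z z.2 c⟩ = (θ : Z → ℂ) z) :
    ∑ w : Z, ∑ z : Z, ext0 Z (θ : Z → ℂ) ((z : H)⁻¹ * ((w : H) * c) * z * ((w : H) * c)⁻¹) =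
      (Nat.card Z : ℂ) / (θ : Z → ℂ) 1 * (Nat.card Z : ℂ) := by
  have h1 : ∀ w z : Z, ext0 Z (θ : Z → ℂ) ((z : H)⁻¹ * ((w : H) * c) * z * ((w : H) * c)⁻¹) =
      (θ : Z → ℂ) (z⁻¹ * (w * ⟨c * z * c⁻¹, hZn.conj_mem z z.2 c⟩ * w⁻¹)) := by
    intro w z
    have h0 : (z : H)⁻¹ * ((w : H) * c) * z * ((w : H) * c)⁻¹ =
        ((z⁻¹ * (w * ⟨c * z * c⁻¹, hZn.conj_mem z z.2 c⟩ * w⁻¹) : Z) : H) := by
      simp only [Subgroup.coe_mul, Subgroup.coe_inv]
      group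
    rw [h0, ext0_coe]
  simp only [h1]
  rw [Finset.sum_comm]
  have h2 : ∀ z : Z, ∑ w : Z, (θ : Z → ℂ) (z⁻¹ * (w * ⟨c * z * c⁻¹, hZn.conj_mem z z.2 c⟩ * w⁻¹)) =
      (Nat.card Z : ℂ) / (θ : Z → ℂ) 1 * ((θ : Z → ℂ) z * conj ((θ : Z → ℂ) z)) := by
    intro z
    rw [sum_mul_conj_irr θ ⟨c * z * c⁻¹, hZn.conj_mem z z.2 c⟩ z⁻¹, hinv z, irr_inv]
    ring
  simp only [h2]
  rw [← Finset.mul_sum, irr_norm_conj θ]

/-- Let χ be an irreducible character of the finite group H that is fully ramified over the normal subgroup Z: the restriction of χ to Z is e times an irreducible character of Z with e ^ 2 equal to the index of Z. If Z ≠ H, then H/Z has no cyclic subgroup that is its own centralizer. -/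
theorem result {H : Type*} [Group H] [Finite H] (Z : Subgroup H) [Z.Normal] (χ : Cfsg.IrrCharacter H) (hfr : ∃ (θ : Cfsg.IrrCharacter ↥Z) (e : ℕ), e ^ 2 = Z.index ∧ ∀ z : ↥Z, (χ : H → ℂ) z = (e : ℂ) * (θ : ↥Z → ℂ) z) (hZ : Z ≠ ⊤) (C : Subgroup (H ⧸ Z)) (hC : IsCyclic C) : Subgroup.centralizer (C : Set (H ⧸ Z)) ≠ C := by
  classical
  haveI := Fintype.ofFinite H
  obtain ⟨θ, e, he, hχZ⟩ := hfr
  intro hcent
  have hZn : Z.Normal := inferInstance
  have hidx : Z.index ≠ 0 := Subgroup.index_ne_zero_of_finite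
  have he0 : (e : ℂ) ≠ 0 := by
    intro h
    have h0 : e = 0 := by exact_mod_cast h
    rw [h0] at he
    exact hidx (by simpa using he.symm)
  obtain ⟨g, hg⟩ := hC.exists_generator
  obtain ⟨c, hc⟩ := QuotientGroup.mk_surjective (g : H ⧸ Z)
  -- invariance of θ
  have hinv : ∀ (y : H) (z : Z),
      (θ : Z → ℂ) ⟨y * z * y⁻¹, hZn.conj_mem z z.2 y⟩ = (θ : Z → ℂ) z := by
    intro y z
    have h1 := hχZ ⟨y * z * y⁻¹, hZn.conj_mem z z.2 y⟩
    have h2 := hχZ z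
    have h3 : (χ : H → ℂ) (y * z * y⁻¹) = (χ : H → ℂ) z := irr_conj χ z y
    have h4 : (e : ℂ) * (θ : Z → ℂ) ⟨y * z * y⁻¹, hZn.conj_mem z z.2 y⟩ =
        (e : ℂ) * (θ : Z → ℂ) z := by
      rw [← h1, ← h2]
      exact h3
    exact mul_left_cancel₀ he0 h4
  -- commuting with the generator puts the coset in `C`
  have hK2 : ∀ (x : H), (x : H ⧸ Z) = (g : H ⧸ Z) → ∀ h : H, h⁻¹ * x * h * x⁻¹ ∈ Z →
      (h : H ⧸ Z) ∈ C := by
    intro x hx h hmem
    have h1 : ((h⁻¹ * x * h * x⁻¹ : H) : H ⧸ Z) = 1 := (QuotientGroup.eq_one_iff _).mpr hmem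
    rw [QuotientGroup.mk_mul, QuotientGroup.mk_mul, QuotientGroup.mk_mul, QuotientGroup.mk_inv,
      QuotientGroup.mk_inv, hx] at h1
    have h2 : (g : H ⧸ Z) * (h : H ⧸ Z) = (h : H ⧸ Z) * (g : H ⧸ Z) := by
      have h3 : (h : H ⧸ Z)⁻¹ * (g : H ⧸ Z) * (h : H ⧸ Z) = (g : H ⧸ Z) := by
        rw [mul_inv_eq_one] at h1
        exact h1
      calc (g : H ⧸ Z) * (h : H ⧸ Z)
          = (h : H ⧸ Z) * ((h : H ⧸ Z)⁻¹ * (g : H ⧸ Z) * (h : H ⧸ Z)) := by group
        _ = (h : H ⧸ Z) * (g : H ⧸ Z) := by rw [h3]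
    have h4 : (h : H ⧸ Z) ∈ Subgroup.centralizer (C : Set (H ⧸ Z)) := by
      rw [Subgroup.mem_centralizer_iff]
      intro y hy
      obtain ⟨k, hk⟩ := Subgroup.mem_zpowers_iff.mp (hg ⟨y, hy⟩)
      have hyk : y = (g : H ⧸ Z) ^ k := by
        rw [← Subgroup.coe_zpow, hk]
      rw [hyk]
      have hcomm : Commute (g : H ⧸ Z) (h : H ⧸ Z) := h2
      exact (hcomm.zpow_left k).eq
    rw [hcent] at h4
    exact h4
  -- elements over the generator are outside `Z`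
  have hK1 : ∀ (x : H), (x : H ⧸ Z) = (g : H ⧸ Z) → x ∉ Z := by
    intro x hx hxZ
    have hg1 : (g : H ⧸ Z) = 1 := by
      rw [← hx]
      exact (QuotientGroup.eq_one_iff _).mpr hxZ
    apply hZ
    rw [eq_top_iff]
    intro h _
    have h1 : (h : H ⧸ Z) ∈ C := by
      apply hK2 x hx h
      have h2 : ((h⁻¹ * x * h * x⁻¹ : H) : H ⧸ Z) = 1 := by
        rw [QuotientGroup.mk_mul, QuotientGroup.mk_mul, QuotientGroup.mk_mul,
          QuotientGroup.mk_inv, QuotientGroup.mk_inv, hx, hg1]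
        group
      exact (QuotientGroup.eq_one_iff _).mp h2
    obtain ⟨k, hk⟩ := Subgroup.mem_zpowers_iff.mp (hg ⟨(h : H ⧸ Z), h1⟩)
    have h3 : (h : H ⧸ Z) = (g : H ⧸ Z) ^ k := by
      rw [← Subgroup.coe_zpow, hk]
    rw [hg1, one_zpow] at h3
    exact (QuotientGroup.eq_one_iff _).mp h3
  -- each inner sum vanishes
  have hS : ∀ w : Z, ∑ z : Z,
      ext0 Z (θ : Z → ℂ) ((z : H)⁻¹ * ((w : H) * c) * z * ((w : H) * c)⁻¹) = 0 := by
    intro w
    have hx : (((w : H) * c : H) : H ⧸ Z) = (g : H ⧸ Z) := by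
      rw [QuotientGroup.mk_mul, hc, (QuotientGroup.eq_one_iff _).mpr w.2, one_mul]
    obtain ⟨n, hn, hsum⟩ := sum_decomp Z C g hg ((w : H) * c) hx
      (fun h => ext0 Z (θ : Z → ℂ) (h⁻¹ * ((w : H) * c) * h * ((w : H) * c)⁻¹))
      (fun h hh => by
        apply ext0_of_not_mem
        intro hmem
        exact hh (hK2 _ hx h hmem))
      (fun k h => by
        show ext0 Z (θ : Z → ℂ) _ = ext0 Z (θ : Z → ℂ) _
        rw [conj_zpow_aux])
    rw [key_zero Z χ θ e he he0 hχZ (hK1 _ hx)] at hsum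
    have hn0 : (n : ℂ) ≠ 0 := by exact_mod_cast hn.ne'
    rcases mul_eq_zero.mp hsum.symm with h | h
    · exact absurd h hn0
    · exact h
  have hT := double_sum Z θ c (hinv c)
  rw [Finset.sum_eq_zero (fun w _ => hS w)] at hT
  obtain ⟨m, hm, hm1⟩ := irr_apply_one θ
  have hZc : (Nat.card Z : ℂ) ≠ 0 := by exact_mod_cast Nat.card_pos.ne'
  have hθ1 : (θ : Z → ℂ) 1 ≠ 0 := by
    rw [hm1]
    exact_mod_cast hm.ne'
  exact (mul_ne_zero (div_ne_zero hZc hθ1) hZc) hT.symm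

end Cfsg.Agent.S4565
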