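import Cfsg.Statements.S4571
import Cfsg.Agent.Lib.Helper77_QuotRank
import Cfsg.Agent.Lib.Helper77_QuotBlocks
import Cfsg.Agent.Lib.Helper77_NormalDefect
import Cfsg.Agent.Lib.Helper80_CharBasic
import Cfsg.Agent.Lib.Helper78_LocalRing

set_option autoImplicit false
open Cfsg

namespace Cfsg.Agent.S4571

open Cfsg.Agent.Lib.Helper77_QuotRank Cfsg.Agent.Lib.Helper77_QuotBlocks
  Cfsg.Agent.Lib.Helper77_NormalDefect Cfsg.Agent.Lib.Helper78_LocalRing

/-- Let Q be a normal p-subgroup of the finite group G with G = Q·C_G(Q), and M a maximal ideal of the algebraic integers containing p. Then the principal p-blocks of G and of G/Q have the same p-regular rank (the same number of irreducible Brauer characters). -/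
theorem result {G : Type*} [Group G] [Finite G] (p : ℕ) [Fact p.Prime] (M : Ideal Cfsg.AlgInt) (hM : Cfsg.IsPModular p M) (Q : Subgroup G) [Q.Normal] (hQ : IsPGroup p Q) (hsup : Q ⊔ Subgroup.centralizer (Q : Set G) = ⊤) : Cfsg.blockRank p (Cfsg.principalBlock M G) = Cfsg.blockRank p (Cfsg.principalBlock M (G ⧸ Q)) := by
  have hMp : M.IsPrime := isPrime_of_isPModular hM
  have hreg := commute_of_sup_centralizer Q hQ hsup
  set one : IrrCharacter G := ⟨fun _ => 1, Cfsg.Agent.Lib.Helper80_CharBasic.isIrrCharacter_one G⟩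
    with hone
  set onebar : IrrCharacter (G ⧸ Q) :=
    ⟨fun _ => 1, Cfsg.Agent.Lib.Helper80_CharBasic.isIrrCharacter_one (G ⧸ Q)⟩ with honebar
  have hB : IsPBlock M (principalBlock M G) := ⟨one, rfl⟩
  have hBbar : IsPBlock M (principalBlock M (G ⧸ Q)) := ⟨onebar, rfl⟩
  apply blockRank_eq_of_quot hM Q hQ hreg hB hBbar
  intro χ
  constructor
  · intro h
    exact sameBlock_comp_mk hMp Q (f₁ := fun _ => 1) (f₂ := (χ : G ⧸ Q → ℂ)) h
  · intro h
    exact sameBlock_of_comp_mk hM Q hQ hreg onebar χ h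

end Cfsg.Agent.S4571
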