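import Cfsg.Statements.S4575
import Cfsg.Agent.Lib.Helper57_MajorSetup
import Cfsg.Agent.Lib.Helper57_TwoBlockCount
import Cfsg.Agent.Lib.Helper57_MajorColumn

set_option autoImplicit false
open Cfsg
open Cfsg.Agent.Lib.Helper57_BrauerFeit Cfsg.Agent.Lib.Helper57_MajorSetup
  Cfsg.Agent.Lib.Helper57_TwoBlockCount Cfsg.Agent.Lib.Helper57_MajorColumn
  Cfsg.Agent.Lib.Helper57_MajorGram Cfsg.Agent.Lib.Helper57_ContribMatrix
  Cfsg.Agent.Lib.Helper57_ContribRow Cfsg.Agent.Lib.Helper57_PRegInt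
  Cfsg.Agent.Lib.Helper57_HeightZero

namespace Cfsg.Agent.S4575

/-- Let B be a 2-block of the finite group G (relative to a maximal ideal M of the algebraic integers containing 2) of defect d with defect group D. Let z be an element of D commuting with every element of D, and let b be a block of the centralizer of z with defect group D that induces B (a major subsection (z, b)). If the number of irreducible characters in B exceeds the 2-regular rank of b by at most three, then B contains at most 2 ^ d irreducible characters. -/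
theorem result {G : Type*} [Group G] [Finite G] (M : Ideal Cfsg.AlgInt) (hM : Cfsg.IsPModular 2 M) (B : Set (Cfsg.IrrCharacter G)) (hB : Cfsg.IsPBlock M B) (D : Subgroup G) (hD : Cfsg.IsDefectGroup 2 M B D) (z : G) (hzD : z ∈ D) (hzc : ∀ d ∈ D, d * z = z * d) (b : Set (Cfsg.IrrCharacter ↥(Subgroup.centralizer ({z} : Set G)))) (hb : Cfsg.IsInducedBlock M (Subgroup.centralizer ({z} : Set G)) b B) (hbD : Cfsg.IsDefectGroup 2 M b (D.subgroupOf (Subgroup.centralizer ({z} : Set G)))) (h : Nat.card B ≤ Cfsg.blockRank 2 b + 3) : Nat.card B ≤ 2 ^ Cfsg.blockDefect 2 B := by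
  classical
  have := Fintype.ofFinite G
  have := Fintype.ofFinite (Subgroup.centralizer ({z} : Set G))
  have : Fact (2 : ℕ).Prime := ⟨Nat.prime_two⟩
  have hp : (2 : ℕ).Prime := Nat.prime_two
  obtain ⟨hdd, n, hyC, cc, nn, w0, δ, R, hn, hcomm, hcc, hcc1, hnn, hjfacts, hsym, hw0, hβpsd,
    hrank', hDu, hRu⟩ := major_setup 2 M hM B hB D hD z hzD hzc b hb hbD
  obtain ⟨τ, hτpos, hτdvd, hτodd, hτeq, hτsum, hcase⟩ :=
    count_main (Subgroup.centralizer ({z} : Set G)) z hyC cc hcc nn hnn rfl hM hb hdd w0 hw0 hsym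
      hβpsd δ R hrank' n hcc1 hn hcomm le_rfl hjfacts hDu hRu
  rw [← card_bset, ← hdd]
  set d := blockDefect 2 b with hd
  -- the case `∑ 4^h ≤ 2^d`
  rcases hcase with hA | hB4
  swap
  · have h1 : ((bset B).card : ℝ) ≤ ∑ χ ∈ bset B, (4 : ℝ) ^ blockHeight 2 B (χ : G → ℂ) := by
      rw [Finset.card_eq_sum_ones]
      push_cast
      exact Finset.sum_le_sum fun χ _ => one_le_pow₀ (by norm_num)
    have h2 : ((bset B).card : ℝ) ≤ ((2 ^ d : ℕ) : ℝ) := by
      push_cast
      exact h1.trans hB4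
    exact_mod_cast h2
  -- the case of a singleton
  by_cases hB2 : ∀ χ ∈ B, ∃ ψ ∈ B, ψ ≠ χ
  swap
  · push Not at hB2
    obtain ⟨χ, -, hχall⟩ := hB2
    have h1 : (bset B).card ≤ 1 := by
      rw [Finset.card_le_one]
      intro a ha c hc
      rw [hχall a (mem_bset.mp ha), hχall c (mem_bset.mp hc)]
    exact h1.trans (Nat.one_le_two_pow)
  -- the units
  set U : Finset ℕ := (Finset.range (2 ^ n)).filter (fun j => j.Coprime (2 ^ n)) with hU
  have hUcard : U.card = (2 ^ n).totient := by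
    rw [Nat.totient_eq_card_coprime, hU]
    congr 1
    refine Finset.filter_congr fun j _ => ?_
    exact Nat.coprime_comm
  have hφ : (0 : ℝ) < ((2 ^ n).totient : ℝ) := by
    exact_mod_cast Nat.totient_pos.mpr (pow_pos hp.pos n)
  have hUne : U.Nonempty := by
    rw [← Finset.card_pos, hUcard]
    exact Nat.totient_pos.mpr (pow_pos hp.pos n)
  have hpd : (0 : ℝ) < (2 : ℝ) ^ d := by positivity
  have hτreal : ∀ χ ∈ B, ((((2 ^ n).totient : ℕ) : ℝ)) * ((τ χ : ℤ) : ℝ) =
      ∑ j ∈ U, (2 : ℝ) ^ d * ∑ η ∈ bset b,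
        Complex.normSq (acoef 2 (Subgroup.centralizer ({z} : Set G)) (z ^ j) χ η) := by
    intro χ hχ
    apply Complex.ofReal_injective
    have := hτeq χ hχ
    simp_rw [gmat_self] at this
    push_cast
    push_cast at this
    exact this.symm
  -- strictness
  have hlt : ∀ χ ∈ B, τ χ < 2 ^ d := by
    intro χ hχ
    obtain ⟨ψ₀, hψ₀, hne⟩ := hB2 χ hχ
    have h1 : ∑ j ∈ U, (2 : ℝ) ^ d * ∑ η ∈ bset b,
        Complex.normSq (acoef 2 (Subgroup.centralizer ({z} : Set G)) (z ^ j) χ η) <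
        ∑ j ∈ U, (2 : ℝ) ^ d * 1 := by
      refine Finset.sum_lt_sum_of_nonempty hUne fun j hj => ?_
      obtain ⟨hordj, hCuj, hcentj⟩ := hjfacts j hj
      exact mul_lt_mul_of_pos_left (gmat_self_lt_one (Subgroup.centralizer ({z} : Set G)) z hyC cc
        hcc nn hnn hM hb hdd w0 hw0 δ R hrank' n hcc1 j n hordj hCuj hcentj hDu hRu hχ hψ₀ hne) hpd
    rw [← hτreal χ hχ, Finset.sum_const, nsmul_eq_mul, hUcard, mul_one] at h1
    have h2 : ((τ χ : ℤ) : ℝ) < (2 : ℝ) ^ d := lt_of_mul_lt_mul_left h1 hφ.le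
    have h3 : ((τ χ : ℤ) : ℝ) < (((2 : ℤ) ^ d : ℤ) : ℝ) := by
      push_cast
      exact h2
    exact_mod_cast h3
  -- the defect is positive and heights are small
  obtain ⟨χ₀, hχ₀⟩ := Cfsg.Agent.Lib.Helper78_LocalRing.isPBlock_nonempty
    (Cfsg.Agent.Lib.Helper78_LocalRing.isPrime_of_isPModular hM) hB
  have hd1 : 1 ≤ d := by
    by_contra hd0
    have h0 : d = 0 := by omega
    have h1 := hτpos χ₀ hχ₀
    have h2 := hlt χ₀ hχ₀
    rw [h0, pow_zero] at h2
    omega
  have hIG : RegInt G 2 :=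
    regInt_of_brauerLocal hp (fun q hq _ => Cfsg.Agent.S0874.result q hq)
  have hheight : ∀ χ ∈ B, 1 ≤ blockHeight 2 B (χ : G → ℂ) →
      blockHeight 2 B (χ : G → ℂ) + 2 ≤ d := by
    intro χ hχ h1
    have := height_add_two_le hp hM hB hIG hχ (by omega)
    rw [← hdd] at this
    exact this
  -- the complementary invariants
  set τ' : IrrCharacter G → ℤ := fun χ => 2 ^ d - τ χ with hτ'
  have hτ'pos : ∀ χ ∈ B, 0 < τ' χ := fun χ hχ => by
    have := hlt χ hχ
    show 0 < 2 ^ d - τ χ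
    omega
  have hτ'sum : ∑ χ ∈ bset B, τ' χ =
      ((bset B).card : ℤ) * 2 ^ d - 2 ^ d * (blockRank 2 b : ℤ) := by
    rw [hτ', Finset.sum_sub_distrib, hτsum, Finset.sum_const, nsmul_eq_mul]
  have hkl : ((bset B).card : ℤ) ≤ (blockRank 2 b : ℤ) + 3 := by
    rw [card_bset]
    exact_mod_cast h
  have h2dpos : (0 : ℤ) < 2 ^ d := by positivity
  by_cases hA' : ∀ χ ∈ B, blockHeight 2 B (χ : G → ℂ) = 0 → τ' χ ≠ 1
  · -- all complementary invariants are at least three
    have h3 : ∀ χ ∈ bset B, (3 : ℤ) ≤ τ' χ := by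
      intro χ hχ
      have hχB := mem_bset.mp hχ
      by_cases h0 : blockHeight 2 B (χ : G → ℂ) = 0
      · have h1 := hτ'pos χ hχB
        have h2 := hA' χ hχB h0
        have h4 := hτodd χ hχB h0
        have h5 : (2 : ℤ) ∣ 2 ^ d := dvd_pow_self 2 (by omega)
        have h6 : ¬ (2 : ℤ) ∣ τ' χ := by
          intro h7
          apply h4
          have := dvd_sub h5 h7
          rwa [hτ', sub_sub_cancel] at this
        omega
      · have hh1 : 1 ≤ blockHeight 2 B (χ : G → ℂ) := by omega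
        have h1 := hτ'pos χ hχB
        have h2 := hτdvd χ hχB hh1
        have h4 := hheight χ hχB hh1
        have h5 : (2 : ℤ) ^ (blockHeight 2 B (χ : G → ℂ) + 1) ∣ 2 ^ d :=
          pow_dvd_pow 2 (by omega)
        have h6 : (2 : ℤ) ^ (blockHeight 2 B (χ : G → ℂ) + 1) ∣ τ' χ := dvd_sub h5 h2
        have h7 := Int.le_of_dvd h1 h6
        have h8 : (4 : ℤ) ≤ 2 ^ (blockHeight 2 B (χ : G → ℂ) + 1) := by
          calc (4 : ℤ) = 2 ^ 2 := by norm_num
            _ ≤ 2 ^ (blockHeight 2 B (χ : G → ℂ) + 1) :=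
              pow_le_pow_right₀ (by norm_num) (by omega)
        omega
    have h4 : ∑ χ ∈ bset B, (3 : ℤ) ≤ ∑ χ ∈ bset B, τ' χ := Finset.sum_le_sum h3
    rw [Finset.sum_const, nsmul_eq_mul, hτ'sum] at h4
    have h5 : ((bset B).card : ℤ) ≤ 2 ^ d := by
      by_contra hcon
      have hcon' : (2 : ℤ) ^ d + 1 ≤ ((bset B).card : ℤ) := by omega
      nlinarith
    exact_mod_cast h5
  · -- a character of height zero with complementary invariant one
    push Not at hA'
    obtain ⟨χ₁, hχ₁, h0χ₁, hτ'1⟩ := hA'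
    have hcol := column_bound (Subgroup.centralizer ({z} : Set G)) z hyC cc hcc nn hnn hM hb hdd
      w0 hw0 δ R hrank' n hcc1 hjfacts hDu hRu hB2 hχ₁ h0χ₁
    have h1 : ∑ j ∈ U, (((2 : ℕ) : ℝ) ^ d - ((2 : ℕ) : ℝ) ^ d * ∑ η ∈ bset b,
        Complex.normSq (acoef 2 (Subgroup.centralizer ({z} : Set G)) (z ^ j) χ₁ η)) =
        (((2 ^ n).totient : ℕ) : ℝ) * ((τ' χ₁ : ℤ) : ℝ) := by
      rw [Finset.sum_sub_distrib, Finset.sum_const, nsmul_eq_mul, hUcard, hτ']
      have := hτreal χ₁ hχ₁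
      push_cast
      push_cast at this
      rw [mul_sub, this]
    rw [h1, hτ'1] at hcol
    have h2 : ((bset B).card : ℝ) ≤ ((2 : ℕ) : ℝ) ^ d := by
      have h3 : ((bset B).card : ℝ) * (((2 ^ n).totient : ℕ) : ℝ) ≤
          ((2 : ℕ) : ℝ) ^ d * (((2 ^ n).totient : ℕ) : ℝ) := by
        simpa using hcol
      exact le_of_mul_le_mul_right h3 hφ
    have h3 : ((bset B).card : ℝ) ≤ ((2 ^ d : ℕ) : ℝ) := by
      push_cast
      push_cast at h2
      exact h2
    exact_mod_cast h3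

end Cfsg.Agent.S4575
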