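import Cfsg.Statements.S4580
import Cfsg.Agent.S4517
import Cfsg.Agent.Lib.Helper75_Gallagher
import Cfsg.Agent.Lib.Helper75_CharProd
import Cfsg.Agent.Lib.Helper77_PRoots

set_option autoImplicit false
open Cfsg

namespace Cfsg.Agent.S4580

open Cfsg.Agent.Lib.Helper78_LocalRing Cfsg.Agent.Lib.Helper75_LinChar
open scoped ComplexConjugate

/-- Let N be a normal subgroup of the finite group G, M a maximal ideal of the algebraic integers containing 2, and θ a real-valued irreducible character of N of odd degree that extends to G (some irreducible character of G restricts to θ). Then θ has an extension to G lying in the principal 2-block of G. -/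
theorem result {G : Type*} [Group G] [Finite G] (N : Subgroup G) [N.Normal] (M : Ideal Cfsg.AlgInt) (hM : Cfsg.IsPModular 2 M) (θ : Cfsg.IrrCharacter N) (hreal : ∀ n : N, ((θ : N → ℂ) n).im = 0) (hodd : Odd (Cfsg.charDegree (θ : N → ℂ))) (hext : ∃ η : Cfsg.IrrCharacter G, ∀ n : N, (η : G → ℂ) n = (θ : N → ℂ) n) :
    ∃ η : Cfsg.IrrCharacter G, (∀ n : N, (η : G → ℂ) n = (θ : N → ℂ) n) ∧ η ∈ Cfsg.principalBlock M G := by
  classical
  have : Fintype G := Fintype.ofFinite G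
  have hMp : M.IsPrime := isPrime_of_isPModular hM
  obtain ⟨η₀, hη₀⟩ := hext
  -- the complex conjugate of `η₀` is another extension
  have hc : IsIrrCharacter G (fun g => conj ((η₀ : G → ℂ) g)) :=
    Cfsg.Agent.Lib.Helper75_CharProd.isIrrCharacter_conj η₀.2
  have hη₀N : IsIrrCharacter N (fun n : N => (η₀ : G → ℂ) n) := by
    have : (fun n : N => (η₀ : G → ℂ) n) = (θ : N → ℂ) := funext hη₀
    rw [this]
    exact θ.2
  have hres : ∀ n : N, (fun g => conj ((η₀ : G → ℂ) g)) (n : G) = (η₀ : G → ℂ) n := by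
    intro n
    show conj ((η₀ : G → ℂ) n) = (η₀ : G → ℂ) n
    rw [hη₀ n]
    exact Complex.conj_eq_iff_im.mpr (hreal n)
  obtain ⟨lam, hl, hlN, hlam⟩ :=
    Cfsg.Agent.Lib.Helper75_Gallagher.exists_lin_of_extensions N η₀.2 hc hη₀N hres
  -- `|G| = 2 ^ s * r` with `r` odd
  obtain ⟨s, r, hr, hcard⟩ := Nat.exists_eq_two_pow_mul_odd (Nat.card_pos (α := G)).ne'
  obtain ⟨j, hj⟩ := hr
  -- the twisted extension
  have hν : IsLin G (lam ^ (j + 1)) := hl.pow (j + 1)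
  set η₁ : IrrCharacter G := ⟨lam ^ (j + 1) * (η₀ : G → ℂ), hν.mul_irr η₀.2⟩ with hη₁
  have hη₁N : ∀ n : N, (η₁ : G → ℂ) n = (θ : N → ℂ) n := by
    intro n
    show (lam ^ (j + 1) * (η₀ : G → ℂ)) (n : G) = _
    rw [Pi.mul_apply, Pi.pow_apply, hlN n, one_pow, one_mul, hη₀ n]
  refine ⟨η₁, hη₁N, ?_⟩
  -- degree
  have hdeg : charDegree (η₁ : G → ℂ) = charDegree (θ : N → ℂ) := by
    unfold charDegree
    have := hη₁N 1
    rw [show ((1 : N) : G) = 1 from rfl] at this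
    rw [this]
  have hodd₁ : Odd (charDegree (η₁ : G → ℂ)) := by rw [hdeg]; exact hodd
  -- congruence `η₁ x ≡ η₁ x⁻¹`
  have hinv : ∀ x : G, Odd (orderOf x) → Odd (Subgroup.centralizer ({x} : Set G)).index →
      MemLocalIdeal M ((η₁ : G → ℂ) x - (η₁ : G → ℂ) x⁻¹) := by
    intro x _ _
    have hlx : lam x ≠ 0 := hl.ne_zero x
    have h1 : (η₁ : G → ℂ) x⁻¹ = conj ((η₁ : G → ℂ) x) := by
      obtain ⟨n, ρ, -, hρ⟩ := η₁.2
      rw [← hρ]
      exact Cfsg.Agent.Lib.Helper80_CharBasic.char_inv_eq_conj ρ x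
    have h2 : conj ((η₀ : G → ℂ) x) = lam x * (η₀ : G → ℂ) x := by
      have := congrFun hlam x
      simpa using this
    set ζ : ℂ := ((lam x) ^ r)⁻¹ with hζ
    have h3 : conj ((η₁ : G → ℂ) x) = ζ * (η₁ : G → ℂ) x := by
      show conj ((lam ^ (j + 1) * (η₀ : G → ℂ)) x) = ζ * (lam ^ (j + 1) * (η₀ : G → ℂ)) x
      rw [Pi.mul_apply, Pi.pow_apply, map_mul, map_pow, hl.conj_eq_inv x, h2, hζ, hj, inv_pow]
      have hb1 : lam x ^ (j + 1) ≠ 0 := pow_ne_zero _ hlx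
      have hb2 : lam x ^ (2 * j + 1) ≠ 0 := pow_ne_zero _ hlx
      rw [inv_mul_eq_iff_eq_mul₀ hb1, ← mul_assoc, ← mul_assoc, mul_comm (lam x ^ (j + 1)),
        mul_assoc, mul_assoc, eq_inv_mul_iff_mul_eq₀ hb2]
      ring
    have hζpow : ζ ^ (2 ^ s) = 1 := by
      rw [hζ, inv_pow, ← pow_mul, mul_comm, ← hcard, hl.pow_card_eq_one x, inv_one]
    have h4 := Cfsg.Agent.Lib.Helper77_PRoots.memLocalIdeal_sub_one_of_pow_eq_one hM ζ s hζpow
    have h5 : (η₁ : G → ℂ) x - (η₁ : G → ℂ) x⁻¹ = (η₁ : G → ℂ) x * (-(ζ - 1)) := by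
      rw [h1, h3]
      ring
    rw [h5]
    exact memLocalIdeal_mul_left hMp
      (memLocalRing_algInt hMp ⟨_, Cfsg.Agent.S4483.isIntegral_irr η₁ x⟩) (memLocalIdeal_neg h4)
  exact Cfsg.Agent.S4517.mem_principalBlock_of_sum_odd_ne_zero M hM η₁
    (Cfsg.Agent.S4517.sum_odd_ne_zero_of_congr M hM η₁ hodd₁ hinv)

end Cfsg.Agent.S4580
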