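import Cfsg.Statements.S4581
import Cfsg.Agent.Lib.Helper15_ROMainB
import Cfsg.Agent.Lib.Helper15_ROMainC
import Cfsg.Agent.Lib.Helper15_ROTop
import Cfsg.Agent.Lib.Helper29_ROFrat

set_option autoImplicit false
open Cfsg

namespace Cfsg.Agent.S4581

open Cfsg.Agent.Lib.Helper15_ROBasic Cfsg.Agent.Lib.Helper15_ROValid
  Cfsg.Agent.Lib.Helper15_ROGlue Cfsg.Agent.Lib.Helper15_ROMainD
  Cfsg.Agent.Lib.Helper15_ROMainE Cfsg.Agent.Lib.Helper15_ROMainC
  Cfsg.Agent.Lib.Helper15_ROMainB Cfsg.Agent.Lib.Helper15_ROTop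
  Cfsg.Agent.Lib.Helper29_ROFrat

universe u


theorem trivOn_bot {G : Type u} [Group G] {A : Subgroup G} (f : A → ℂ) :
    TrivOn (⊥ : Subgroup G) f := by
  intro a ha
  have : a = 1 := Subtype.ext (Subgroup.mem_bot.mp ha)
  rw [this]

theorem valid_top {G : Type u} [Group G] [Finite G] (P : Sylow 2 G) :
    Valid (⊤ : Subgroup G) ⊥ (P : Subgroup G) := by
  have : Fact (Nat.Prime 2) := ⟨Nat.prime_two⟩
  refine ⟨bot_le, le_top, ?_, ?_, ?_⟩
  · intro a _
    rw [Subgroup.mem_normalizer_iff]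
    intro h
    simp [Subgroup.mem_bot]
  · rw [Subgroup.relIndex_bot_left]
    exact P.isPGroup'.exists_card_eq
  · rw [Subgroup.relIndex_top_right, ← Nat.not_even_iff_odd, even_iff_two_dvd]
    exact P.not_dvd_index

/-- Let G be a finite solvable group, P a Sylow 2-subgroup and N its normalizer. Then G and N have the same number of real-valued irreducible characters of odd degree; and every odd-degree irreducible character of G is real-valued exactly when the derived subgroup of P equals the Frattini subgroup of P and P is its own normalizer in G. -/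
theorem result {G : Type*} [Group G] [Finite G] [Group.IsSolvable G] (P : Sylow 2 G) :
    Nat.card {χ : Cfsg.IrrCharacter G // (∀ g : G, ((χ : G → ℂ) g).im = 0) ∧ Odd (Cfsg.charDegree (χ : G → ℂ))} =
      Nat.card {ψ : Cfsg.IrrCharacter (Subgroup.normalizer ((P : Subgroup G) : Set G)) // (∀ g, ((ψ : Subgroup.normalizer ((P : Subgroup G) : Set G) → ℂ) g).im = 0) ∧ Odd (Cfsg.charDegree (ψ : Subgroup.normalizer ((P : Subgroup G) : Set G) → ℂ))} ∧
    ((∀ χ : Cfsg.IrrCharacter G, Odd (Cfsg.charDegree (χ : G → ℂ)) → ∀ g : G, ((χ : G → ℂ) g).im = 0) ↔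
      (commutator (P : Subgroup G) = frattini (P : Subgroup G) ∧ Subgroup.normalizer ((P : Subgroup G) : Set G) = (P : Subgroup G))) := by
  have hv := valid_top P
  refine ⟨?_, ?_, ?_⟩
  · have h1 := claimB _ (⊤ : Subgroup G) ⊥ (P : Subgroup G) hv rfl
    rw [top_inf_eq] at h1
    rw [card_top, h1, card_sub]
  · intro hall
    have hA : AllReal (⊤ : Subgroup G) ⊥ := allReal_top_iff.mp hall
    have hN := claimD _ (⊤ : Subgroup G) ⊥ (P : Subgroup G) hv rfl hA
    rw [top_inf_eq] at hN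
    refine ⟨?_, le_antisymm hN Subgroup.le_normalizer⟩
    apply comm_eq_frattini_of_lin_real P.isPGroup'
    intro μ h1
    by_contra hnr
    obtain ⟨χ, hχd, hχL, _, hχnr⟩ := claimC _ (⊤ : Subgroup G) ⊥ (P : Subgroup G) hv rfl
      (by rw [top_inf_eq]; exact hN) μ h1 (trivOn_bot _) hnr
    exact hχnr (hA χ hχd hχL)
  · rintro ⟨hcf, hNP⟩
    apply allReal_top_iff.mpr
    apply claimE _ (⊤ : Subgroup G) ⊥ (P : Subgroup G) hv rfl
    · rw [top_inf_eq, hNP]
    · intro μ h1 _
      exact lin_real_of_comm_eq_frattini P.isPGroup' hcf μ h1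

end Cfsg.Agent.S4581
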