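-- Statement S4582: P/QP' and Q/Q' elementary abelian, N/N' odd ==> P/P' elementary abelian.
-- Proof by the transfer homomorphism NP → P/P'.
import Cfsg.Statements.S4582
import Cfsg.Agent.Lib.Helper76_Transfer

set_option autoImplicit false
open Cfsg

namespace Cfsg.Agent.S4582

open Cfsg.Agent.Lib.Helper76_Transfer

/-- If `a ^ (s * t) = 1`, `a ^ u = 1` and `t`, `u` are coprime then `a ^ s = 1`. -/
theorem pow_eq_one_of_coprime' {A : Type*} [Group A] (a : A) (s t u : ℕ) (h1 : a ^ (s * t) = 1)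
    (h2 : a ^ u = 1) (hc : Nat.Coprime t u) : a ^ s = 1 := by
  have d1 : orderOf a ∣ s * t := orderOf_dvd_of_pow_eq_one h1
  have d2 : orderOf a ∣ u := orderOf_dvd_of_pow_eq_one h2
  have hc' : Nat.Coprime (orderOf a) t := (Nat.Coprime.coprime_dvd_left d2 hc.symm)
  exact orderOf_dvd_iff_pow_eq_one.mp (hc'.dvd_of_dvd_mul_right d1)

/-- Let N be a normal subgroup of the finite group G, P a Sylow 2-subgroup of G and Q = P ∩ N. Suppose that P/QP' and Q/Q' are elementary abelian (every square of an element of P lies in the subgroup generated by Q and the derived subgroup of P, and every square of an element of Q lies in the derived subgroup of Q), and that the commutator factor group N/N' has odd order. Then P/P' is elementary abelian. -/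
theorem result {G : Type*} [Group G] [Finite G] (N : Subgroup G) [N.Normal] (P : Sylow 2 G)
    (hP : ∀ x ∈ (P : Subgroup G), x ^ 2 ∈ ((P : Subgroup G) ⊓ N) ⊔ ⁅(P : Subgroup G), (P : Subgroup G)⁆)
    (hQ : ∀ x ∈ (P : Subgroup G) ⊓ N, x ^ 2 ∈ ⁅(P : Subgroup G) ⊓ N, (P : Subgroup G) ⊓ N⁆)
    (hodd : Odd (Nat.card (Abelianization N))) :
    ∀ x ∈ (P : Subgroup G), x ^ 2 ∈ ⁅(P : Subgroup G), (P : Subgroup G)⁆ := by
  classical
  have hNn : N.Normal := inferInstance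
  have hP2 : IsPGroup 2 (P : Subgroup G) := P.2
  generalize hPg : (P : Subgroup G) = Pg at *
  have hPH : Pg ≤ Pg ⊔ N := le_sup_left
  have hNH : N ≤ Pg ⊔ N := le_sup_right
  -- the abelianization map of `P`
  let α : Pg →* Abelianization Pg := Abelianization.of
  have hαker : ∀ (d : G) (hd : d ∈ Pg), d ∈ ⁅Pg, Pg⁆ ↔ α ⟨d, hd⟩ = 1 := by
    intro d hd
    rw [← Subgroup.map_subtype_commutator Pg, ← MonoidHom.mem_ker, Abelianization.ker_of]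
    constructor
    · rintro ⟨d', hd', hdd⟩
      have : d' = ⟨d, hd⟩ := Subtype.ext hdd
      rwa [← this]
    · intro h
      exact ⟨⟨d, hd⟩, h, rfl⟩
  have hA2 : ∀ a : Abelianization Pg, ∃ j : ℕ, a ^ 2 ^ j = 1 := by
    intro a
    obtain ⟨y, rfl⟩ := QuotientGroup.mk_surjective a
    obtain ⟨j, hj⟩ := hP2 y
    refine ⟨j, ?_⟩
    show α y ^ 2 ^ j = 1
    rw [← map_pow, hj, map_one]
  -- the transfer
  let ϕ : Pg.subgroupOf (Pg ⊔ N) →* Abelianization Pg :=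
    α.comp (Subgroup.subgroupOfEquivOfLe hPH).toMonoidHom
  have hϕ : ∀ (g : (Pg ⊔ N : Subgroup G)) (hg : g ∈ Pg.subgroupOf (Pg ⊔ N)),
      ϕ ⟨g, hg⟩ = α ⟨(g : G), Subgroup.mem_subgroupOf.mp hg⟩ := fun g hg => rfl
  obtain ⟨V, hV⟩ : ∃ V : (Pg ⊔ N : Subgroup G) →* Abelianization Pg, V = MonoidHom.transfer ϕ :=
    ⟨_, rfl⟩
  -- the index is odd
  have hm : Odd (Pg.subgroupOf (Pg ⊔ N)).index := by
    rw [← Nat.not_even_iff_odd, even_iff_two_dvd]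
    intro hdvd
    have h1 : (Pg.subgroupOf (Pg ⊔ N)).index ∣ Pg.index := Subgroup.relIndex_dvd_index_of_le hPH
    have h2 := P.not_dvd_index
    rw [hPg] at h2
    exact h2 (hdvd.trans h1)
  -- the image of `Q` in `P/P'`
  let K : Subgroup (Abelianization Pg) := ((Pg ⊓ N).subgroupOf Pg).map α
  have hKsq : ∀ c ∈ K, c ^ 2 = 1 := by
    rintro c ⟨q, hq, rfl⟩
    rw [← map_pow]
    have hq' : (q : G) ∈ Pg ⊓ N := Subgroup.mem_subgroupOf.mp hq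
    have h1 : (q : G) ^ 2 ∈ ⁅Pg, Pg⁆ :=
      Subgroup.commutator_mono inf_le_left inf_le_left (hQ _ hq')
    have h2 := (hαker ((q : G) ^ 2) (Pg.pow_mem q.2 2)).mp h1
    have : q ^ 2 = ⟨(q : G) ^ 2, Pg.pow_mem q.2 2⟩ := Subtype.ext (by simp)
    rw [this]
    exact h2
  -- Step 2: `V x ≡ α x ^ m` modulo `K`
  have hstep2 : ∀ (x : G) (hx : x ∈ Pg),
      V ⟨x, hPH hx⟩ / α ⟨x, hx⟩ ^ (Pg.subgroupOf (Pg ⊔ N)).index ∈ K := by
    intro x hx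
    rw [hV]
    apply transfer_div_pow_mem ϕ K ⟨x, hPH hx⟩ (α ⟨x, hx⟩)
    intro k g₀ hk
    obtain ⟨a, ha, n, hn, han⟩ := Subgroup.mem_sup_of_normal_right.mp g₀.2
    have hy : x ^ k ∈ Pg := Pg.pow_mem hx k
    have hz : a⁻¹ * x ^ k * a ∈ Pg := Pg.mul_mem (Pg.mul_mem (Pg.inv_mem ha) hy) ha
    have hw : (g₀ : G)⁻¹ * x ^ k * g₀ ∈ Pg := by
      have := Subgroup.mem_subgroupOf.mp hk
      simpa using this
    have hwz : (g₀ : G)⁻¹ * x ^ k * g₀ = n⁻¹ * (a⁻¹ * x ^ k * a) * n := by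
      rw [← han]; group
    have hqP : (g₀ : G)⁻¹ * x ^ k * g₀ * (a⁻¹ * x ^ k * a)⁻¹ ∈ Pg :=
      Pg.mul_mem hw (Pg.inv_mem hz)
    have hqN : (g₀ : G)⁻¹ * x ^ k * g₀ * (a⁻¹ * x ^ k * a)⁻¹ ∈ N := by
      rw [hwz]
      have h1 : (a⁻¹ * x ^ k * a) * n * (a⁻¹ * x ^ k * a)⁻¹ ∈ N := hNn.conj_mem n hn _
      have h2 : n⁻¹ * ((a⁻¹ * x ^ k * a) * n * (a⁻¹ * x ^ k * a)⁻¹) ∈ N :=
        N.mul_mem (N.inv_mem hn) h1
      convert h2 using 1
      group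
    have e1 : ϕ ⟨g₀⁻¹ * ⟨x, hPH hx⟩ ^ k * g₀, hk⟩ = α ⟨(g₀ : G)⁻¹ * x ^ k * g₀, hw⟩ := by
      rw [hϕ]
      congr 1
    have e2 : (⟨(g₀ : G)⁻¹ * x ^ k * g₀, hw⟩ : Pg) =
        ⟨(g₀ : G)⁻¹ * x ^ k * g₀ * (a⁻¹ * x ^ k * a)⁻¹, hqP⟩ *
          ((⟨a, ha⟩ : Pg)⁻¹ * (⟨x, hx⟩ : Pg) ^ k * ⟨a, ha⟩) := by
      apply Subtype.ext
      show (g₀ : G)⁻¹ * x ^ k * g₀ = (g₀ : G)⁻¹ * x ^ k * g₀ * (a⁻¹ * x ^ k * a)⁻¹ *
        (a⁻¹ * x ^ k * a)
      rw [inv_mul_cancel_right]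
    rw [e1, e2, map_mul, map_mul, map_mul, map_inv, map_pow]
    have e3 : (α ⟨a, ha⟩)⁻¹ * α ⟨x, hx⟩ ^ k * α ⟨a, ha⟩ = α ⟨x, hx⟩ ^ k := by
      rw [mul_comm, mul_inv_cancel_left]
    rw [e3, mul_div_cancel_right]
    exact ⟨⟨_, hqP⟩, Subgroup.mem_subgroupOf.mpr ⟨hqP, hqN⟩, rfl⟩
  -- Step 3: `V` kills `N`
  have hstep3 : ∀ (n : G) (hn : n ∈ N), V ⟨n, hNH hn⟩ = 1 := by
    intro n hn
    let W : N →* Abelianization Pg := V.comp (Subgroup.inclusion hNH)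
    have hW : W ⟨n, hn⟩ = V ⟨n, hNH hn⟩ := rfl
    rw [← hW]
    have h1 : W ⟨n, hn⟩ ^ (1 * Nat.card (Abelianization N)) = 1 := by
      rw [one_mul, ← Abelianization.lift_apply_of W, ← map_pow, pow_card_eq_one', map_one]
    obtain ⟨j, hj⟩ := hA2 (W ⟨n, hn⟩)
    have hc : Nat.Coprime (Nat.card (Abelianization N)) (2 ^ j) :=
      Nat.Coprime.pow_right j (Nat.coprime_two_right.mpr hodd)
    have := pow_eq_one_of_coprime' _ 1 _ _ h1 hj hc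
    rw [pow_one] at this
    exact this
  -- Step 4: `V` kills `P'`
  have hstep4 : ∀ (d : G) (hd : d ∈ Pg), d ∈ ⁅Pg, Pg⁆ → V ⟨d, hPH hd⟩ = 1 := by
    intro d hd hdc
    let W : Pg →* Abelianization Pg := V.comp (Subgroup.inclusion hPH)
    have h1 : commutator Pg ≤ W.ker := Abelianization.commutator_subset_ker W
    have h2 : (⟨d, hd⟩ : Pg) ∈ commutator Pg := by
      rw [← Abelianization.ker_of, MonoidHom.mem_ker]
      exact (hαker d hd).mp hdc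
    have hW : W ⟨d, hd⟩ = V ⟨d, hPH hd⟩ := rfl
    rw [← hW]
    exact MonoidHom.mem_ker.mp (h1 h2)
  -- Step 5: `V (x ^ 2) = 1`
  have hcomm_le : ⁅Pg, Pg⁆ ≤ Pg := Subgroup.commutator_le.mpr (fun a ha b hb =>
    Pg.mul_mem (Pg.mul_mem (Pg.mul_mem ha hb) (Pg.inv_mem ha)) (Pg.inv_mem hb))
  have hstep5 : ∀ (x : G) (hx : x ∈ Pg), V ⟨x, hPH hx⟩ ^ 2 = 1 := by
    intro x hx
    have hle : (Pg ⊓ N) ⊔ ⁅Pg, Pg⁆ ≤ V.ker.map (Pg ⊔ N : Subgroup G).subtype := by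
      apply sup_le
      · intro g hg
        exact ⟨⟨g, hNH hg.2⟩, MonoidHom.mem_ker.mpr (hstep3 g hg.2), rfl⟩
      · intro g hg
        exact ⟨⟨g, hPH (hcomm_le hg)⟩, MonoidHom.mem_ker.mpr (hstep4 g (hcomm_le hg) hg), rfl⟩
    obtain ⟨h, hh, hhx⟩ := hle (hP x hx)
    have : h = (⟨x, hPH hx⟩ : (Pg ⊔ N : Subgroup G)) ^ 2 := Subtype.ext (by simpa using hhx)
    rw [← map_pow, ← this]
    exact MonoidHom.mem_ker.mp hh
  -- conclusion
  intro x hx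
  obtain ⟨m, hm'⟩ := hm
  have h2 := hstep2 x hx
  have h5 := hstep5 x hx
  have h6 := hKsq _ h2
  rw [div_pow, h5, one_div, inv_eq_one, ← pow_mul, mul_comm] at h6
  obtain ⟨j, hj⟩ := hA2 (α ⟨x, hx⟩)
  have hc : Nat.Coprime (Pg.subgroupOf (Pg ⊔ N)).index (2 ^ j) :=
    Nat.Coprime.pow_right j (Nat.coprime_two_right.mpr ⟨m, hm'⟩)
  have h7 := pow_eq_one_of_coprime' _ 2 _ _ h6 hj hc
  rw [← map_pow] at h7
  have : (⟨x, hx⟩ : Pg) ^ 2 = ⟨x ^ 2, Pg.pow_mem hx 2⟩ := Subtype.ext (by simp)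
  rw [this] at h7
  exact (hαker _ _).mpr h7

end Cfsg.Agent.S4582
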