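import Cfsg.Statements.S4583
import Cfsg.Agent.Lib.Helper76_PrincipalOver
import Cfsg.Agent.Lib.Helper78_TransportBlocks

set_option autoImplicit false
open Cfsg

namespace Cfsg.Agent.S4583

open Cfsg.Agent.Lib.Helper3_CharBridge Cfsg.Agent.Lib.Helper3_CharOrtho
  Cfsg.Agent.Lib.Helper78_LocalRing Cfsg.Agent.Lib.Helper78_Transport
  Cfsg.Agent.Lib.Helper78_TransportBlocks Cfsg.Agent.Lib.Helper76_PrincipalOver
  Cfsg.Agent.Lib.Helper75_Induced


universe u

/-- The general form: `N ≤ S ≤ X ≤ G` with `S / N` a `p`-group, `S ⊴ X` of index prime to `p`,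
`[G : X]` prime to `p`, and the principal block of `X` inducing that of `G`. -/
theorem main {G : Type u} [Group G] [Finite G] (N S X : Subgroup G) [hN : N.Normal] (p : ℕ)
    [Fact p.Prime] (M : Ideal AlgInt) (hM : IsPModular p M) (hNS : N ≤ S) (hSX : S ≤ X)
    (hSn : (S.subgroupOf X).Normal) (hidxNS : ∃ k : ℕ, (N.subgroupOf S).index = p ^ k)
    (hidxSX : ¬ p ∣ (S.subgroupOf X).index) (hidxX : ¬ p ∣ X.index)
    (hind : IsInducedBlock M X (principalBlock M X) (principalBlock M G))
    (θ : IrrCharacter N) (hθ : θ ∈ principalBlock M N) (hdeg : ¬ p ∣ charDegree (θ : N → ℂ))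
    (η : IrrCharacter S)
    (hη : ∀ n : N, (η : S → ℂ) (Subgroup.inclusion hNS n) = (θ : N → ℂ) n) :
    ∃ χ : IrrCharacter G, χ ∈ principalBlock M G ∧ ¬ p ∣ charDegree (χ : G → ℂ) ∧
      haveI := Fintype.ofFinite N; classInner (fun n : N => (χ : G → ℂ) n) (θ : N → ℂ) ≠ 0 := by
  classical
  let _ : Fintype G := Fintype.ofFinite G
  let _ : Fintype N := Fintype.ofFinite N
  let _ : Fintype S := Fintype.ofFinite S
  let _ : Fintype X := Fintype.ofFinite X
  let _ : Fintype (S.subgroupOf X) := Fintype.ofFinite _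
  have hp : p.Prime := Fact.out
  have hMp := isPrime_of_isPModular hM
  -- Step 1: `η` lies in the principal block of `S`
  have hη0 : η ∈ principalBlock M S := by
    obtain ⟨k, hk⟩ := hidxNS
    set φN : N.subgroupOf S ≃* N := Subgroup.subgroupOfEquivOfLe hNS with hφN
    have hθ₁ : irrComp φN θ ∈ principalBlock M (N.subgroupOf S) := by
      show SameBlock M (fun _ : N.subgroupOf S => (1 : ℂ)) ((θ : N → ℂ) ∘ φN)
      exact (sameBlock_comp_iff φN (χ := fun _ : N => (1 : ℂ)) (ψ := (θ : N → ℂ))).mpr hθ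
    refine Cfsg.Agent.Lib.Helper76_ResidualExt.ext_mem_principalBlock hM (N.subgroupOf S) hk
      (irrComp φN θ) hθ₁ η (fun n => ?_)
    rw [irrComp_apply, ← hη (φN n)]
    congr 1
  -- Step 2: transport `η` to the normal subgroup `Y = S.subgroupOf X` of `X`
  set φS : S.subgroupOf X ≃* S := Subgroup.subgroupOfEquivOfLe hSX with hφS
  have hη₁ : irrComp φS η ∈ principalBlock M (S.subgroupOf X) := by
    show SameBlock M (fun _ : S.subgroupOf X => (1 : ℂ)) ((η : S → ℂ) ∘ φS)
    exact (sameBlock_comp_iff φS (χ := fun _ : S => (1 : ℂ)) (ψ := (η : S → ℂ))).mpr hη0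
  have hone : (η : S → ℂ) 1 = (θ : N → ℂ) 1 := by
    rw [← hη 1, map_one]
  have hdeg₁ : ¬ p ∣ charDegree (irrComp φS η : S.subgroupOf X → ℂ) := by
    have h1 : charDegree (irrComp φS η : S.subgroupOf X → ℂ) = charDegree (θ : N → ℂ) := by
      unfold charDegree
      rw [irrComp_apply, map_one, hone]
    rwa [h1]
  -- Step 3: a character of `X` of degree prime to `p` in the principal block over `η`
  obtain ⟨ψ, hψ, hψdeg, hψover⟩ := exists_over_pprime hM (S.subgroupOf X) hidxSX
    (irrComp φS η) hη₁ hdeg₁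
  -- Step 4: a character of `G` of degree prime to `p` in the principal block over `ψ`
  obtain ⟨χ, hχ, hχdeg, hχover⟩ := exists_pprime_of_induced hM X hind ψ hψ hidxX hψdeg
  refine ⟨χ, hχ, hχdeg, ?_⟩
  -- Step 5: `χ` lies over `θ`
  have hχch : IsCharacter G (χ : G → ℂ) := isCharacter_of_isIrrCharacter χ.2
  have hψch : IsCharacter X (ψ : X → ℂ) := isCharacter_of_isIrrCharacter ψ.2
  have h1 : classInner (fun x : X => (χ : G → ℂ) (X.subtype x)) (ψ : X → ℂ) ≠ 0 := by
    rw [frobenius_reciprocity X (ψ : X → ℂ) (χ : G → ℂ)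
      (isClassFunction_of_isIrrCharacter χ.2)] at hχover
    intro h0
    apply hχover
    rw [← classInner_conj_symm]
    show (starRingEnd ℂ) (classInner (fun x : X => (χ : G → ℂ) (X.subtype x)) (ψ : X → ℂ)) = 0
    rw [h0, map_zero]
  -- the homomorphism `N → Y`
  set f₀ : N →* S.subgroupOf X := φS.symm.toMonoidHom.comp (Subgroup.inclusion hNS) with hf₀
  have h2 : classInner (fun n : N => (irrComp φS η : S.subgroupOf X → ℂ) (f₀ n))
      (θ : N → ℂ) ≠ 0 := by
    have h3 : (fun n : N => (irrComp φS η : S.subgroupOf X → ℂ) (f₀ n)) = (θ : N → ℂ) := by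
      funext n
      rw [irrComp_apply, ← hη n]
      congr 1
    rw [h3, classInner_self_of_isIrrCharacter θ.2]
    exact one_ne_zero
  have h4 := over_trans (S.subgroupOf X).subtype f₀ hψch (irrComp φS η) θ hψover h2
  have h5 := over_trans X.subtype ((S.subgroupOf X).subtype.comp f₀) hχch ψ θ h1 h4
  have h6 : (fun n : N => (χ : G → ℂ) (X.subtype (((S.subgroupOf X).subtype.comp f₀) n))) =
      fun n : N => (χ : G → ℂ) n := by
    funext n
    congr 1
  rw [h6] at h5
  exact h5

/-- Let N be a normal subgroup of the finite group G, p a prime, M a maximal ideal of the algebraic integers containing p, and P a Sylow p-subgroup of G. Let θ be an irreducible character of N of degree prime to p lying in the principal p-block of N, and suppose θ extends to the subgroup NP (some irreducible character of NP restricts to θ). Then some irreducible character χ of G of degree prime to p in the principal p-block of G lies over θ (θ is a constituent of the restriction of χ to N). -/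
theorem result {G : Type*} [Group G] [Finite G] (N : Subgroup G) [N.Normal] (p : ℕ) [Fact p.Prime] (M : Ideal Cfsg.AlgInt) (hM : Cfsg.IsPModular p M) (P : Sylow p G)
    (θ : Cfsg.IrrCharacter N) (hθ : θ ∈ Cfsg.principalBlock M N) (hdeg : ¬ p ∣ Cfsg.charDegree (θ : N → ℂ))
    (hext : ∃ η : Cfsg.IrrCharacter ↥(N ⊔ (P : Subgroup G)), ∀ n : N, (η : ↥(N ⊔ (P : Subgroup G)) → ℂ) (Subgroup.inclusion le_sup_left n) = (θ : N → ℂ) n) :
    ∃ χ : Cfsg.IrrCharacter G, χ ∈ Cfsg.principalBlock M G ∧ ¬ p ∣ Cfsg.charDegree (χ : G → ℂ) ∧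
      haveI := Fintype.ofFinite N; Cfsg.classInner (fun n : N => (χ : G → ℂ) n) (θ : N → ℂ) ≠ 0 := by
  classical
  have hp : p.Prime := Fact.out
  obtain ⟨η, hη⟩ := hext
  -- the subgroups `S = N P` and `X = N N_G(P)`
  have hNS : N ≤ N ⊔ (P : Subgroup G) := le_sup_left
  have hPS : (P : Subgroup G) ≤ N ⊔ (P : Subgroup G) := le_sup_right
  have hSX : N ⊔ (P : Subgroup G) ≤ N ⊔ Subgroup.normalizer ((P : Subgroup G) : Set G) :=
    sup_le_sup_left Subgroup.le_normalizer N
  have hPX : (P : Subgroup G) ≤ N ⊔ Subgroup.normalizer ((P : Subgroup G) : Set G) :=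
    hPS.trans hSX
  have hPidx : ¬ p ∣ (P : Subgroup G).index := P.not_dvd_index
  -- `S ⊴ X`
  have hSn : ((N ⊔ (P : Subgroup G)).subgroupOf
      (N ⊔ Subgroup.normalizer ((P : Subgroup G) : Set G))).Normal := by
    rw [Subgroup.normal_subgroupOf_iff_le_normalizer hSX]
    refine sup_le (hNS.trans Subgroup.le_normalizer) ?_
    have h := Subgroup.normalizer_le_normalizer_sup_normal (H := (P : Subgroup G)) (K := N)
    rwa [sup_comm] at h
  -- `[S : N]` is a power of `p`
  have hidxNS : ∃ k : ℕ, (N.subgroupOf (N ⊔ (P : Subgroup G))).index = p ^ k := by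
    have h1 : (N.subgroupOf (N ⊔ (P : Subgroup G))).index = N.relIndex (P : Subgroup G) := by
      rw [← Subgroup.relIndex_sup_left]
      rfl
    obtain ⟨n, hn⟩ := IsPGroup.exists_card_eq P.isPGroup'
    have h2 : N.relIndex (P : Subgroup G) ∣ p ^ n := by
      rw [← hn]
      exact Subgroup.index_dvd_card _
    obtain ⟨m, -, hm⟩ := (Nat.dvd_prime_pow hp).mp h2
    exact ⟨m, h1.trans hm⟩
  -- indices prime to `p`
  have hidxSX : ¬ p ∣ ((N ⊔ (P : Subgroup G)).subgroupOf
      (N ⊔ Subgroup.normalizer ((P : Subgroup G) : Set G))).index := by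
    intro h
    apply hPidx
    exact dvd_trans h (dvd_trans (Subgroup.relIndex_dvd_index_of_le hSX)
      (Subgroup.index_dvd_of_le hPS))
  have hidxX : ¬ p ∣ (N ⊔ Subgroup.normalizer ((P : Subgroup G) : Set G)).index := fun h =>
    hPidx (dvd_trans h (Subgroup.index_dvd_of_le hPX))
  -- the principal block of `X` induces the principal block of `G`
  have hind := principal_induces_of_le hM (N ⊔ Subgroup.normalizer ((P : Subgroup G) : Set G))
    (P : Subgroup G) P.isPGroup' hPX
    ((Subgroup.centralizer_le_normalizer _).trans le_sup_right)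
  exact main N (N ⊔ (P : Subgroup G)) (N ⊔ Subgroup.normalizer ((P : Subgroup G) : Set G)) p M hM
    hNS hSX hSn hidxNS hidxSX hidxX hind θ hθ hdeg η hη

end Cfsg.Agent.S4583
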