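-- Statement S4585: for |P| = p^4, |P : P'| = p^2 iff the nilpotency class is 3.
import Cfsg.Statements.S4585
import Cfsg.Agent.Lib.Helper76_PGroup

set_option autoImplicit false
open Cfsg

namespace Cfsg.Agent.S4585

open Cfsg.Agent.Lib.Helper76_PGroup

theorem card_lt_of_lt {P : Type*} [Group P] [Finite P] {H K : Subgroup P} (h : H < K) :
    Nat.card H < Nat.card K := by
  refine lt_of_le_of_ne (Subgroup.card_le_of_le h.le) ?_
  intro heq
  exact h.ne (Subgroup.eq_of_le_of_card_ge h.le heq.ge)

theorem exists_card_eq_pow {P : Type*} [Group P] [Finite P] (p : ℕ) [Fact p.Prime]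
    (hP : IsPGroup p P) (H : Subgroup P) : ∃ a : ℕ, Nat.card H = p ^ a :=
  IsPGroup.iff_card.mp (hP.to_subgroup H)

/-- Let p be a prime and P a group of order p^4. Then P' has index p^2 in P if and only if P has maximal nilpotency class, that is, nilpotency class exactly 3. -/
theorem result {P : Type*} [Group P] [Finite P] (p : ℕ) [Fact p.Prime] (hP : Nat.card P = p ^ 4) :
    (commutator P).index = p ^ 2 ↔ Group.nilpotencyClass P = 3 := by
  have hp : p.Prime := Fact.out
  have hp0 : 0 < p := hp.pos
  have hp1 : 1 < p := hp.one_lt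
  have hPG : IsPGroup p P := IsPGroup.of_card hP
  have hnil : Group.IsNilpotent P := hPG.isNilpotent
  set D := commutator P with hD
  set L2 : Subgroup P := ⁅D, (⊤ : Subgroup P)⁆ with hL2
  set L3 : Subgroup P := ⁅L2, (⊤ : Subgroup P)⁆ with hL3
  have hL2n : L2.Normal := by rw [hL2]; infer_instance
  have hL2eq : (⊤ : Subgroup P).lowerCentralSeries 2 = L2 := rfl
  have hL3eq : (⊤ : Subgroup P).lowerCentralSeries 3 = L3 := rfl
  have hclass : Group.nilpotencyClass P = 3 ↔ L3 = ⊥ ∧ L2 ≠ ⊥ := by
    rw [← hL2eq, ← hL3eq, Subgroup.lowerCentralSeries_eq_bot_iff_nilpotencyClass_le, Ne,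
      Subgroup.lowerCentralSeries_eq_bot_iff_nilpotencyClass_le]
    omega
  rw [hclass]
  have hDcard : Nat.card D * D.index = p ^ 4 := by rw [Subgroup.card_mul_index, hP]
  obtain ⟨b, hb⟩ := exists_card_eq_pow p hPG D
  obtain ⟨a, ha⟩ := exists_card_eq_pow p hPG L2
  obtain ⟨c, hc⟩ := exists_card_eq_pow p hPG L3
  have hL2D : L2 ≤ D := Subgroup.commutator_le_left _ _
  have hL3L2 : L3 ≤ L2 := Subgroup.commutator_le_left _ _
  constructor
  · intro hidx
    have hb2 : b = 2 := by
      rw [hidx, hb, ← pow_add] at hDcard
      have := Nat.pow_right_injective hp1 hDcard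
      omega
    have hDne : D ≠ ⊥ := by
      intro h1
      rw [h1, Subgroup.card_bot, hb2] at hb
      nlinarith
    have hlt2 : L2 < D := commutator_top_lt D hDne
    have ha1 : a ≤ 1 := by
      have := card_lt_of_lt hlt2
      rw [ha, hb, hb2] at this
      have := (Nat.pow_lt_pow_iff_right hp1).mp this
      omega
    constructor
    · -- L3 = ⊥
      by_cases h2 : L2 = ⊥
      · rw [hL3, h2]; exact Subgroup.commutator_bot_left _
      · have hlt3 : L3 < L2 := commutator_top_lt L2 h2
        have := card_lt_of_lt hlt3
        rw [ha, hc] at this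
        have := (Nat.pow_lt_pow_iff_right hp1).mp this
        have hc0 : c = 0 := by omega
        rw [hc0, pow_zero] at hc
        exact Subgroup.card_eq_one.mp hc
    · -- L2 ≠ ⊥
      intro h2
      have hDZ : D ≤ Subgroup.center P :=
        Subgroup.commutator_top_right_eq_bot_iff_le_center.mp h2
      have hZtop : Subgroup.center P ≠ ⊤ :=
        fun h1 => hDne ((commutator_eq_bot_iff_center_eq_top P).mpr h1)
      have hZdvd : (Subgroup.center P).index ∣ p ^ 2 := hidx ▸ Subgroup.index_dvd_of_le hDZ
      obtain ⟨k, hk, hZk⟩ := (Nat.dvd_prime_pow hp).mp hZdvd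
      have hZ2 : (Subgroup.center P).index = p ^ 2 := by
        interval_cases k
        · exfalso
          rw [pow_zero] at hZk
          exact hZtop (Subgroup.index_eq_one.mp hZk)
        · exfalso
          have h1 : (Subgroup.center P).index ∣ p := by rw [hZk, pow_one]
          have hcomm := comm_of_central_index_dvd_prime p (Subgroup.center P) le_rfl h1
          apply hZtop
          rw [eq_top_iff]
          intro g _
          rw [Subgroup.mem_center_iff]
          intro k
          exact hcomm k g
        · exact hZk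
      have := card_commutator_of_index_center_eq_sq p hPG hZ2
      rw [← hD, hb, hb2] at this
      nlinarith
  · rintro ⟨h3, h2⟩
    have hDne : D ≠ ⊥ := by
      intro h1
      apply h2
      rw [hL2, h1]; exact Subgroup.commutator_bot_left _
    have hlt2 : L2 < D := commutator_top_lt D hDne
    have hab : a < b := by
      have := card_lt_of_lt hlt2
      rw [ha, hb] at this
      exact (Nat.pow_lt_pow_iff_right hp1).mp this
    have ha0 : a ≠ 0 := by
      intro h0
      rw [h0, pow_zero] at ha
      exact h2 (Subgroup.card_eq_one.mp ha)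
    have hb4 : b ≤ 4 := by
      have h1 : Nat.card D ∣ p ^ 4 := ⟨_, hDcard.symm⟩
      rw [hb] at h1
      exact (Nat.pow_dvd_pow_iff_le_right hp1).mp h1
    have hidxb : D.index = p ^ (4 - b) := by
      have : p ^ b * D.index = p ^ b * p ^ (4 - b) := by
        rw [← hb, hDcard, hb, ← pow_add]; congr 1; omega
      exact Nat.eq_of_mul_eq_mul_left (pow_pos hp0 b) this
    have hb3 : b ≠ 3 := by
      intro h3'
      rw [h3'] at hidxb
      have hcyc : IsCyclic (P ⧸ commutator P) := by
        apply isCyclic_of_prime_card (p := p)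
        rw [← Subgroup.index_eq_card, ← hD, hidxb]; norm_num
      exact hDne (commutator_eq_bot_of_isCyclic_abelianization hcyc)
    have hb4' : b ≠ 4 := by
      intro h4
      rw [h4] at hidxb
      have htop : D = ⊤ := Subgroup.index_eq_one.mp (by rw [hidxb]; norm_num)
      have hne : (⊤ : Subgroup P) ≠ ⊥ := by
        intro h1
        have : Nat.card (⊤ : Subgroup P) = 1 := by rw [h1, Subgroup.card_bot]
        rw [Subgroup.card_top, hP] at this
        have : 1 < p ^ 4 := Nat.one_lt_pow (by norm_num) hp1
        omega
      have hlt := commutator_top_lt (⊤ : Subgroup P) hne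
      rw [← commutator_def, ← hD, htop] at hlt
      exact lt_irrefl _ hlt
    have hb2 : b = 2 := by omega
    rw [hidxb, hb2]

end Cfsg.Agent.S4585
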