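-- Statement S4586: [P : P'] = p^2 detected by centralizers on N/N' for a maximal subgroup N.
import Cfsg.Statements.S4586
import Cfsg.Agent.Lib.Helper76_PGroup

set_option autoImplicit false
open Cfsg

namespace Cfsg.Agent.S4586

open Cfsg.Agent.Lib.Helper76_PGroup
open scoped commutatorElement

variable {P : Type*} [Group P]

/-- The order of the image of `H` in the quotient by a normal subgroup `D ≤ H`. -/
theorem card_map_mk_mul_card (D : Subgroup P) [D.Normal] (H : Subgroup P) (h : D ≤ H) :
    Nat.card D * Nat.card (H.map (QuotientGroup.mk' D)) = Nat.card H := by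
  rw [← Subgroup.relIndex_ker, QuotientGroup.ker_mk']
  exact card_mul_relIndex_of_le D H h

/-- The core counting identity: `|P'| * c(x) = |N| * |N'|`. -/
theorem core [Finite P] (N : Subgroup P) [hNn : N.Normal] (x : P)
    (hx : N ⊔ Subgroup.zpowers x = ⊤) :
    Nat.card (commutator P) *
        Nat.card {n : N // x * n * x⁻¹ * (n : P)⁻¹ ∈ (commutator N).map N.subtype} =
      Nat.card N * Nat.card (commutator N) := by
  set D : Subgroup P := (commutator N).map N.subtype with hD
  have hDeq : D = ⁅N, N⁆ := Subgroup.map_subtype_commutator N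
  have hDn : D.Normal := by rw [hDeq]; infer_instance
  have hDN : D ≤ N := by rw [hDeq]; exact Subgroup.commutator_le_self N
  have hDcard : Nat.card (commutator N) = Nat.card D :=
    (Subgroup.card_map_of_injective N.subtype_injective).symm
  set π := QuotientGroup.mk' D with hπ
  have hπs : Function.Surjective π := QuotientGroup.mk'_surjective D
  set A : Subgroup (P ⧸ D) := N.map π with hA
  have hAn : A.Normal := hNn.map π hπs
  have hAcomm : ∀ u ∈ A, ∀ v ∈ A, u * v = v * u := by
    rintro _ ⟨u, hu, rfl⟩ _ ⟨v, hv, rfl⟩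
    rw [← commutatorElement_eq_one_iff_mul_comm, ← map_commutatorElement, hπ,
      QuotientGroup.mk'_apply, QuotientGroup.eq_one_iff, hDeq]
    exact Subgroup.commutator_mem_commutator hu hv
  have hsup : A ⊔ Subgroup.zpowers (π x) = ⊤ := by
    rw [hA, ← MonoidHom.map_zpowers, ← Subgroup.map_sup, hx, ← MonoidHom.range_eq_map,
      MonoidHom.range_eq_top]
    exact hπs
  have hKL := card_commutator_mul_card_inf_centralizer A hAcomm (π x) hsup
  -- the subgroup K
  set K : Subgroup P := N ⊓ (Subgroup.centralizer ({π x} : Set (P ⧸ D))).comap π with hK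
  have hKmem : ∀ n : P, n ∈ K ↔ n ∈ N ∧ x * n * x⁻¹ * n⁻¹ ∈ D := by
    intro n
    rw [hK, Subgroup.mem_inf, Subgroup.mem_comap, Subgroup.mem_centralizer_singleton_iff]
    have : π n * π x = π x * π n ↔ x * n * x⁻¹ * n⁻¹ ∈ D := by
      rw [eq_comm, ← commutatorElement_eq_one_iff_mul_comm, ← map_commutatorElement, hπ,
        QuotientGroup.mk'_apply, QuotientGroup.eq_one_iff, commutatorElement_def]
    rw [this]
  have hDK : D ≤ K := by
    intro d hd
    rw [hKmem]
    refine ⟨hDN hd, ?_⟩
    exact D.mul_mem (hDn.conj_mem d hd x) (D.inv_mem hd)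
  have hKmap : K.map π = A ⊓ Subgroup.centralizer ({π x} : Set (P ⧸ D)) := by
    ext q
    constructor
    · rintro ⟨n, hn, rfl⟩
      have hn' : n ∈ N ⊓ (Subgroup.centralizer ({π x} : Set (P ⧸ D))).comap π := hn
      rw [Subgroup.mem_inf, Subgroup.mem_comap] at hn'
      exact Subgroup.mem_inf.mpr ⟨⟨n, hn'.1, rfl⟩, hn'.2⟩
    · intro hq
      rw [Subgroup.mem_inf] at hq
      obtain ⟨⟨n, hn, rfl⟩, hq2⟩ := hq
      exact ⟨n, Subgroup.mem_inf.mpr ⟨hn, Subgroup.mem_comap.mpr hq2⟩, rfl⟩
  have hKcard : Nat.card {n : N // x * n * x⁻¹ * (n : P)⁻¹ ∈ D} = Nat.card K := by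
    apply Nat.card_congr
    refine ⟨fun n => ⟨n.1.1, (hKmem _).mpr ⟨n.1.2, n.2⟩⟩,
      fun k => ⟨⟨k.1, ((hKmem _).mp k.2).1⟩, ((hKmem _).mp k.2).2⟩, ?_, ?_⟩
    · intro n; rfl
    · intro k; rfl
  have hcomm : commutator (P ⧸ D) = (commutator P).map π := by
    rw [map_commutator_eq, MonoidHom.range_eq_top.mpr hπs, commutator_def]
  have hDP' : D ≤ commutator P := by
    rw [hDeq, commutator_def]
    exact Subgroup.commutator_mono le_top le_top
  have e1 := card_map_mk_mul_card D (commutator P) hDP'
  have e2 := card_map_mk_mul_card D K hDK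
  have e3 := card_map_mk_mul_card D N hDN
  rw [hKcard, hDcard]
  rw [hcomm, ← hKmap] at hKL
  -- |D|*a = |P'|, |D|*b = |K|, |D|*c = |N|, a*b = c
  calc Nat.card (commutator P) * Nat.card K
      = (Nat.card D * Nat.card ((commutator P).map π)) * (Nat.card D * Nat.card (K.map π)) := by
        rw [e1, e2]
    _ = Nat.card D * (Nat.card ((commutator P).map π) * Nat.card (K.map π)) * Nat.card D := by ring
    _ = Nat.card D * Nat.card A * Nat.card D := by rw [hKL]
    _ = Nat.card N * Nat.card D := by rw [hA, e3]

/-- Let p be a prime, P a finite p-group and N a normal subgroup of P of index p. For x ∈ P write c(x) for the number of elements n of N whose commutator x n x⁻¹ n⁻¹ lies in the derived subgroup N' (so c(x)/#N' is the order of the centralizer of x acting on N/N'). Then [P : P'] = p² if and only if c(x) = p·#N' for every x ∈ P outside N, and also if and only if c(x) = p·#N' for some x ∈ P outside N. -/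
theorem result {P : Type*} [Group P] [Finite P] (p : ℕ) [Fact p.Prime] (hP : IsPGroup p P) (N : Subgroup P) [N.Normal] (hN : N.index = p) :
    ((commutator P).index = p ^ 2 ↔ ∀ x : P, x ∉ N →
        Nat.card {n : N // x * n * x⁻¹ * (n : P)⁻¹ ∈ (commutator N).map N.subtype} = p * Nat.card (commutator N)) ∧
    ((commutator P).index = p ^ 2 ↔ ∃ x : P, x ∉ N ∧
        Nat.card {n : N // x * n * x⁻¹ * (n : P)⁻¹ ∈ (commutator N).map N.subtype} = p * Nat.card (commutator N)) := by
  have hp : p.Prime := Fact.out
  have hp0 : 0 < p := hp.pos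
  -- the equivalence for each fixed x outside N
  have key : ∀ x : P, x ∉ N → ((commutator P).index = p ^ 2 ↔
      Nat.card {n : N // x * n * x⁻¹ * (n : P)⁻¹ ∈ (commutator N).map N.subtype} =
        p * Nat.card (commutator N)) := by
    intro x hx
    have hsup := sup_zpowers_eq_top_of_index_prime p N hN x hx
    have hcore := core N x hsup
    set c := Nat.card {n : N // x * n * x⁻¹ * (n : P)⁻¹ ∈ (commutator N).map N.subtype} with hc
    set d := Nat.card (commutator N) with hd
    set m := Nat.card (commutator P) with hm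
    have hmpos : 0 < m := Nat.card_pos
    have hNpos : 0 < Nat.card N := Nat.card_pos
    have hcard : m * (commutator P).index = Nat.card N * p := by
      rw [hm, Subgroup.card_mul_index, ← hN, Subgroup.card_mul_index]
    constructor
    · intro hidx
      rw [hidx] at hcard
      -- m * p^2 = |N| * p, so |N| = m * p; m * c = |N| * d = m * p * d
      have h1 : Nat.card N = m * p := by
        have : Nat.card N * p = (m * p) * p := by rw [← hcard]; ring
        exact Nat.eq_of_mul_eq_mul_right hp0 this
      rw [h1] at hcore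
      have : m * c = m * (p * d) := by rw [hcore]; ring
      exact Nat.eq_of_mul_eq_mul_left hmpos this
    · intro hcd
      rw [hcd] at hcore
      -- m * (p * d) = |N| * d
      have hdpos : 0 < d := Nat.card_pos
      have h1 : Nat.card N = m * p := by
        have : Nat.card N * d = (m * p) * d := by rw [← hcore]; ring
        exact Nat.eq_of_mul_eq_mul_right hdpos this
      rw [h1] at hcard
      have : m * (commutator P).index = m * p ^ 2 := by rw [hcard]; ring
      exact Nat.eq_of_mul_eq_mul_left hmpos this
  have hNtop : N ≠ ⊤ := by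
    intro h1
    rw [h1, Subgroup.index_top] at hN
    exact hp.one_lt.ne hN
  obtain ⟨x₀, hx₀⟩ : ∃ x : P, x ∉ N := by
    by_contra hcon
    push Not at hcon
    exact hNtop (eq_top_iff.mpr fun g _ => hcon g)
  constructor
  · constructor
    · intro h x hx
      exact (key x hx).mp h
    · intro h
      exact (key x₀ hx₀).mpr (h x₀ hx₀)
  · constructor
    · intro h
      exact ⟨x₀, hx₀, (key x₀ hx₀).mp h⟩
    · rintro ⟨x, hx, h⟩
      exact (key x hx).mpr h

end Cfsg.Agent.S4586
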