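import Cfsg.Statements.S4587
import Mathlib
import Cfsg.Prelude.Def_Solvable
import Cfsg.Agent.Lib.Helper1_Cores
import Cfsg.Agent.Lib.Helper1_MinNormal
import Cfsg.Agent.Lib.Helper32_Sylow
import Cfsg.Agent.Lib.Helper54_PSqTate
import Cfsg.Agent.Lib.Helper54_PSqCount
import Cfsg.Agent.Lib.Helper54_PSqBound
import Cfsg.Agent.Lib.Helper54_PSqNonab

set_option autoImplicit false
open Cfsg

namespace Cfsg.Agent.S4587

/-- Let G be a finite group, p a prime and P a Sylow p-subgroup of order at least p². Assume that G has no nontrivial normal subgroup of order prime to p, that the derived subgroup P' of P contains no nontrivial normal subgroup of G, and that G is not almost simple (there is no non-abelian simple normal subgroup of G with trivial centralizer). Then [P : P'] = p² if and only if some p-element x of G has centralizer whose order has p-part exactly p². -/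
theorem result {G : Type*} [Group G] [Finite G] (p : ℕ) [Fact p.Prime] (P : Sylow p G) (hbig : p ^ 2 ∣ Nat.card G) (hcore : Cfsg.pPrimeCore p G = ⊥)
    (hcore' : (⁅(P : Subgroup G), (P : Subgroup G)⁆).normalCore = ⊥) (hnas : ¬ ∃ S : Subgroup G, S.Normal ∧ IsSimpleGroup S ∧ ¬ IsMulCommutative S ∧ Subgroup.centralizer (S : Set G) = ⊥) :
    (⁅(P : Subgroup G), (P : Subgroup G)⁆).relIndex (P : Subgroup G) = p ^ 2 ↔
      ∃ x : G, (∃ k : ℕ, orderOf x = p ^ k) ∧ (Nat.card (Subgroup.centralizer ({x} : Set G))).factorization p = 2 := by
  classical
  have hp : p.Prime := Fact.out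
  constructor
  · intro hidx
    by_cases hab : ⁅(P : Subgroup G), (P : Subgroup G)⁆ = ⊥
    · -- `P` abelian of order `p ^ 2`
      refine ⟨1, ⟨0, by simp⟩, ?_⟩
      have h1 : Nat.card (P : Subgroup G) = p ^ 2 := by
        rw [hab, Subgroup.relIndex_bot_left] at hidx
        exact hidx
      have h2 : Subgroup.centralizer ({1} : Set G) = ⊤ := by
        ext y
        simp [Subgroup.mem_centralizer_singleton_iff]
      rw [h2, Subgroup.card_top]
      have h3 := P.card_eq_multiplicity
      rw [h1] at h3
      exact (Nat.pow_right_injective hp.two_le h3).symm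
    · -- `P` nonabelian
      set P' := ⁅(P : Subgroup G), (P : Subgroup G)⁆ with hP'
      have hP'P : P' ≤ (P : Subgroup G) := Cfsg.Agent.Lib.Helper54_PSqTate.commutator_self_le _
      have hPtop : ∀ M : Subgroup G, M.Normal →
          (P : Subgroup G) ≤ Subgroup.normalizer (M : Set G) := by
        intro M hM
        rw [Subgroup.normalizer_eq_top]
        exact le_top
      have hnotle : ∀ M : Subgroup G, M.Normal → M ≠ ⊥ → ¬ M ≤ P' := by
        intro M hM hM1 hle
        have h1 : M ≤ P'.normalCore := Subgroup.normal_le_normalCore.mpr hle
        rw [hcore'] at h1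
        exact hM1 (le_bot_iff.mp h1)
      have hall : ∀ M : Subgroup G, M.Normal → M ≠ ⊥ → P' ≤ M := by
        intro M hM hM1
        exact Cfsg.Agent.Lib.Helper54_PSqTate.commutator_le_of_subnormal P hcore hidx M
          hM.isSubnormal (hPtop M hM) (hnotle M hM hM1)
      -- the unique minimal normal subgroup
      set N := Subgroup.normalClosure ((P' : Subgroup G) : Set G) with hNdef
      have hN : N.Normal := Subgroup.normalClosure_normal
      have hP'N : P' ≤ N := Subgroup.subset_normalClosure
      have hN1 : N ≠ ⊥ := by
        intro h
        apply hab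
        rw [eq_bot_iff, ← h]
        exact hP'N
      have hmin : ∀ M : Subgroup G, M.Normal → M ≤ N → M = ⊥ ∨ M = N := by
        intro M hM hMN
        by_cases hM1 : M = ⊥
        · exact Or.inl hM1
        · right
          apply le_antisymm hMN
          have := hall M hM hM1
          exact Subgroup.normalClosure_le_normal this
      have hinf : ¬ ((P : Subgroup G) ⊓ N ≤ P') :=
        Cfsg.Agent.Lib.Helper54_PSqTate.not_inf_le_commutator P hcore N hN.isSubnormal
          (hPtop N hN) (hnotle N hN hN1)
      -- the two cases
      have key : N.relIndex (P : Subgroup G) = p ∧ ∀ b ∈ (P : Subgroup G), b ∉ N →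
          Nat.card (((P : Subgroup G) ⊓ N) ⊓ Subgroup.centralizer ({b} : Set G) :
            Subgroup G) ≤ p := by
        by_cases hNab : ∀ a ∈ N, ∀ c ∈ N, a * c = c * a
        · -- abelian minimal normal subgroup
          have hsolv : Group.IsSolvable N :=
            Group.isSolvable_of_comm (fun a c => Subtype.ext (hNab a a.2 c c.2))
          obtain ⟨-, q, hq, hqx⟩ :=
            Cfsg.Agent.Lib.Helper1_MinNormal.elementary_abelian_of_minimal N hsolv hN1 hmin
          have : Fact q.Prime := ⟨hq⟩
          have hNq : IsPGroup q N := by
            intro g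
            refine ⟨1, ?_⟩
            rw [pow_one]
            apply Subtype.ext
            simpa using hqx g g.2
          have hqp : q = p := by
            by_contra hne
            obtain ⟨k, hk⟩ := IsPGroup.iff_card.mp hNq
            have hcop : (Nat.card N).Coprime p := by
              rw [hk]
              exact Nat.Coprime.pow_left k ((Nat.coprime_primes hq hp).mpr hne)
            have := Cfsg.Agent.Lib.Helper1_Cores.le_pPrimeCore hN hcop
            rw [hcore] at this
            exact hN1 (le_bot_iff.mp this)
          subst hqp
          have hNP : N ≤ (P : Subgroup G) :=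
            (Cfsg.Agent.Lib.Helper1_Cores.le_pCore hN hNq).trans
              (Cfsg.Agent.Lib.Helper1_Cores.pCore_le_sylow q P)
          have hPnN : ¬ (P : Subgroup G) ≤ N := by
            intro hle
            apply hab
            rw [Subgroup.commutator_eq_bot_iff_le_centralizer]
            intro a ha
            rw [Subgroup.mem_centralizer_iff]
            intro c hc
            exact hNab c (hle hc) a (hle ha)
          have hrel : N.relIndex (P : Subgroup G) = q :=
            Cfsg.Agent.Lib.Helper54_PSqTate.relIndex_eq_of_not_le (P : Subgroup G) P.isPGroup'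
              hidx N hinf hPnN
          refine ⟨hrel, ?_⟩
          intro b hbP hbN
          have hPN : (P : Subgroup G) ⊓ N = N := inf_eq_right.mpr hNP
          rw [hPN]
          have htop : (P : Subgroup G) ≤ N ⊔ Subgroup.zpowers b := by
            have := Cfsg.Agent.Lib.Helper54_PSqTate.le_sup_zpowers_of_relIndex (P : Subgroup G)
              P.isPGroup' N hrel b hbP hbN
            rwa [hPN] at this
          have h1 := Cfsg.Agent.Lib.Helper54_PSqBound.card_centralizer_le_of_abelian
            (P : Subgroup G) N hNP (hPtop N hN) hNab b hbP htop hP'N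
          have h2 := Subgroup.relIndex_mul_relIndex P' N (P : Subgroup G) hP'N hNP
          rw [hrel, hidx, pow_two] at h2
          have h3 : P'.relIndex N = q := Nat.eq_of_mul_eq_mul_right hq.pos h2
          rw [h3] at h1
          exact h1
        · exact Cfsg.Agent.Lib.Helper54_PSqNonab.nonabelian_case P hcore hidx hab hnas N hN1 hmin
            hall hNab
      obtain ⟨hrel, hbound⟩ := key
      have hPnN : ¬ (P : Subgroup G) ≤ N := by
        intro hle
        have := Subgroup.relIndex_eq_one.mpr hle
        rw [hrel] at this
        exact hp.one_lt.ne' this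
      obtain ⟨b, hbP, hbN⟩ := SetLike.not_le_iff_exists.mp hPnN
      refine ⟨b, ?_, ?_⟩
      · obtain ⟨k, hk⟩ := P.isPGroup' ⟨b, hbP⟩
        have hbk : b ^ (p ^ k) = 1 := by
          have := congrArg Subtype.val hk
          simpa using this
        obtain ⟨j, -, hj⟩ := (Nat.dvd_prime_pow hp).mp (orderOf_dvd_of_pow_eq_one hbk)
        exact ⟨j, hj⟩
      · exact Cfsg.Agent.Lib.Helper54_PSqCount.factorization_centralizer_eq_two P hidx N hrel
          hbound b hbP hbN
  · rintro ⟨x, hx, hc⟩
    exact Cfsg.Agent.Lib.Helper54_PSqCount.relIndex_commutator_eq_of_exists P hbig x hx hc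

end Cfsg.Agent.S4587
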