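import Cfsg.Statements.S4591
import Cfsg.Agent.Lib.Helper76_KerPPrime
import Cfsg.Agent.Lib.Helper76_KerPPrimeGrp
import Cfsg.Agent.Lib.Helper76_KerPPrimeGlaub

set_option autoImplicit false
open Cfsg

namespace Cfsg.Agent.S4591

open Cfsg.Agent.Lib.Helper76_GalConj Cfsg.Agent.Lib.Helper76_KerPPrime
  Cfsg.Agent.Lib.Helper76_KerPPrimeGrp Cfsg.Agent.Lib.Helper76_KerPPrimeGlaub

/-- The intersection of the kernels of the irreducible characters of degree prime to `p`. -/
noncomputable def kerPPrime (p : ℕ) (G : Type*) [Group G] : Subgroup G :=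
  ⨅ χ : {χ : IrrCharacter G // ¬ p ∣ charDegree (χ : G → ℂ)}, kerC χ.1

instance kerPPrime_normal (p : ℕ) (G : Type*) [Group G] : (kerPPrime p G).Normal := by
  unfold kerPPrime
  exact Subgroup.normal_iInf_normal fun χ => inferInstance

theorem mem_kerPPrime {p : ℕ} {G : Type*} [Group G] [Finite G] (g : G) :
    g ∈ kerPPrime p G ↔
      ∀ χ : IrrCharacter G, ¬ p ∣ charDegree (χ : G → ℂ) → (χ : G → ℂ) g = (χ : G → ℂ) 1 := by
  unfold kerPPrime
  rw [Subgroup.mem_iInf]
  constructor
  · intro h χ hχ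
    exact (mem_kerC χ g).mp (h ⟨χ, hχ⟩)
  · intro h χ
    exact (mem_kerC χ.1 g).mpr (h χ.1 χ.2)

/-- Let G be a finite group, p a prime and P a Sylow p-subgroup, and let N be the largest normal subgroup of G in which P has trivial centralizer (N is normal with C_N(P) = 1 and contains every normal subgroup with that property). Then the intersection of the kernels of the irreducible characters of G of degree prime to p is the normal core in G of the subgroup N·P' (P' the derived subgroup of P). In particular, when G has no nontrivial normal subgroup of order prime to p, that intersection is the normal core of P'. -/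
theorem result {G : Type*} [Group G] [Finite G] (p : ℕ) [Fact p.Prime] (P : Sylow p G) (N : Subgroup G) [N.Normal]
    (hN : N ⊓ Subgroup.centralizer ((P : Subgroup G) : Set G) = ⊥)
    (hmax : ∀ L : Subgroup G, L.Normal → L ⊓ Subgroup.centralizer ((P : Subgroup G) : Set G) = ⊥ → L ≤ N) :
    {g : G | ∀ χ : Cfsg.IrrCharacter G, ¬ p ∣ Cfsg.charDegree (χ : G → ℂ) → (χ : G → ℂ) g = (χ : G → ℂ) 1} =
      ((N ⊔ ⁅(P : Subgroup G), (P : Subgroup G)⁆).normalCore : Set G) := by
  have hset : {g : G | ∀ χ : Cfsg.IrrCharacter G, ¬ p ∣ Cfsg.charDegree (χ : G → ℂ) →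
      (χ : G → ℂ) g = (χ : G → ℂ) 1} = ((kerPPrime p G : Subgroup G) : Set G) := by
    ext g
    exact (mem_kerPPrime g).symm
  rw [hset]
  congr 1
  apply le_antisymm
  · -- `K ≤ core (N P')`
    apply Subgroup.normal_le_normalCore.mpr
    have hKP : kerPPrime p G ⊓ (P : Subgroup G) ≤ ⁅(P : Subgroup G), (P : Subgroup G)⁆ := by
      intro x hx
      exact mem_commutator_of_mem_kernels p P hx.2
        (fun χ hχ => (mem_kerC χ x).mpr ((mem_kerPPrime x).mp hx.1 χ hχ))
    obtain ⟨N₁, hN₁n, hN₁K, hN₁p, hK⟩ :=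
      exists_pprime_normal_of_inf_le_commutator P (kerPPrime p G) hKP
    have hN₁C : N₁ ⊓ Subgroup.centralizer ((P : Subgroup G) : Set G) = ⊥ := by
      apply inf_centralizer_eq_bot_of_le_kernels p P N₁ hN₁p
      intro χ hχ x hx
      exact (mem_kerC χ x).mpr ((mem_kerPPrime x).mp (hN₁K hx) χ hχ)
    have hN₁N : N₁ ≤ N := hmax N₁ hN₁n hN₁C
    refine hK.trans (sup_le_sup hN₁N ?_)
    rw [inf_comm]
    exact hKP
  · -- `core (N P') ≤ K`
    intro g hg
    rw [mem_kerPPrime]
    intro χ hχ
    have h1 : N ≤ kerC χ := le_kerC_of_inf_centralizer_eq_bot p P N hN χ hχ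
    have h2 := normalCore_le_kerC p P N (inf_sylow_eq_bot_of_inf_centralizer_eq_bot P N hN) χ hχ h1
    exact (mem_kerC χ g).mp (h2 hg)

end Cfsg.Agent.S4591
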