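import Cfsg.Statements.S4604
import Cfsg.Agent.S0875
import Cfsg.Agent.Lib.Helper16_PCongr
import Cfsg.Agent.Lib.Helper15_PiPart
import Cfsg.Agent.Lib.Helper3_CharDegree
import Cfsg.Agent.Lib.Helper3_CharColumn

set_option autoImplicit false
open Cfsg

namespace Cfsg.Agent.S4604

open Cfsg.Agent.Lib Cfsg.Agent.Lib.Helper3_CharEigen

section modp
variable (p : ℕ) [hp : Fact p.Prime]

theorem natCast_mem_nonunits : (p : Cfsg.AlgInt) ∈ nonunits Cfsg.AlgInt := by
  intro hu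
  obtain ⟨u, hu⟩ := hu.exists_right_inv
  have h1 : (p : ℂ) * (u : ℂ) = 1 := by
    have := congrArg (Subtype.val) hu
    simpa using this
  have hp0 : (p : ℂ) ≠ 0 := by exact_mod_cast hp.out.ne_zero
  have h2 : ((1 : ℕ) : ℂ) / (p : ℂ) = (u : ℂ) := by
    rw [Nat.cast_one, div_eq_iff hp0, mul_comm, h1]
  have h3 : IsIntegral ℤ (((1 : ℕ) : ℂ) / (p : ℂ)) := by
    rw [h2]; exact u.2
  have h4 := Helper3_CharDegree.dvd_of_isIntegral_div hp.out.ne_zero h3
  exact hp.out.one_lt.ne' (Nat.dvd_one.mp h4)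

/-- the quotient ring of the algebraic integers modulo `p` -/
abbrev Sq : Type := Cfsg.AlgInt ⧸ (Ideal.span ({(p : Cfsg.AlgInt)} : Set Cfsg.AlgInt))

instance : CharP (Sq p) p := CharP.quotient Cfsg.AlgInt p (natCast_mem_nonunits p)

instance : ExpChar (Sq p) p := ExpChar.prime hp.out

/-- the quotient map -/
abbrev pi : Cfsg.AlgInt →+* Sq p := Ideal.Quotient.mk _

theorem pi_eq_iff (a b : Cfsg.AlgInt) :
    pi p a = pi p b ↔ ∃ γ : Cfsg.AlgInt, (a : ℂ) - (b : ℂ) = (p : ℂ) * (γ : ℂ) := by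
  have hpc : (((p : Cfsg.AlgInt)) : ℂ) = (p : ℂ) := by simp
  rw [Ideal.Quotient.eq, Ideal.mem_span_singleton']
  constructor
  · rintro ⟨γ, hγ⟩
    refine ⟨γ, ?_⟩
    have := congrArg Subtype.val hγ
    simp only [Subalgebra.coe_mul, Subalgebra.coe_sub] at this
    rw [← this, hpc, mul_comm]
  · rintro ⟨γ, hγ⟩
    refine ⟨γ, ?_⟩
    apply Subtype.ext
    simp only [Subalgebra.coe_mul, Subalgebra.coe_sub]
    rw [hγ, hpc, mul_comm]

/-- Frobenius on twisted sums -/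
theorem pi_sum_mul_pow {ι : Type*} (s : Finset ι) (m t : ι → Cfsg.AlgInt) (k : ℕ)
    (hm : ∀ i ∈ s, m i ^ (p ^ k) = 1) :
    pi p ((∑ i ∈ s, m i * t i) ^ (p ^ k)) = pi p ((∑ i ∈ s, t i) ^ (p ^ k)) := by
  rw [map_pow, map_pow, map_sum, map_sum, sum_pow_char_pow, sum_pow_char_pow]
  refine Finset.sum_congr rfl (fun i hi => ?_)
  rw [map_mul, mul_pow, ← map_pow, hm i hi, map_one, one_mul]

end modp

section endo

variable {V : Type*} [AddCommGroup V] [Module ℂ V] [FiniteDimensional ℂ V]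
variable (p : ℕ) [hp : Fact p.Prime]

theorem isIntegral_of_pow_eq_one {μ : ℂ} {n : ℕ} (hn : 0 < n) (h : μ ^ n = 1) : IsIntegral ℤ μ :=
  ⟨Polynomial.X ^ n - 1, Polynomial.monic_X_pow_sub_C (1 : ℤ) hn.ne', by simp [h]⟩

/-- For commuting endomorphisms `X`, `C` of finite order with `X ^ (p ^ k) = 1`, the `p ^ k`-th
powers of the traces of `X * C` and `C` are congruent modulo `p`. -/
theorem trace_pow_congr (X C : Module.End ℂ V) (hXC : X * C = C * X) {k : ℕ}
    (hX : X ^ (p ^ k) = 1) {n : ℕ} (hn : 0 < n) (hC : C ^ n = 1) :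
    ∃ γ : Cfsg.AlgInt, LinearMap.trace ℂ V (X * C) ^ (p ^ k) - LinearMap.trace ℂ V C ^ (p ^ k) =
      (p : ℂ) * (γ : ℂ) := by
  have hq : 0 < p ^ k := Nat.pow_pos hp.out.pos
  have hs : X.IsSemisimple := isSemisimple_of_pow_eq_one hq hX
  have hmapsC : ∀ μ, Set.MapsTo C (X.eigenspace μ) (X.eigenspace μ) := by
    intro μ v hv
    have hv' : X v = μ • v := Module.End.mem_eigenspace_iff.mp hv
    apply Module.End.mem_eigenspace_iff.mpr
    have : X (C v) = (X * C) v := rfl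
    rw [this, hXC, Module.End.mul_apply, hv', map_smul]
  have hmapsXC : ∀ μ, Set.MapsTo (X * C) (X.eigenspace μ) (X.eigenspace μ) := by
    intro μ v hv
    have h1 := hmapsC μ hv
    have h2 : X (C v) = μ • C v := Module.End.mem_eigenspace_iff.mp h1
    rw [Module.End.mul_apply, h2]
    exact Submodule.smul_mem _ _ h1
  have hCn : ∀ μ, (C.restrict (hmapsC μ)) ^ n = 1 := by
    intro μ
    rw [Module.End.pow_restrict n (hmapsC μ)]
    ext v
    simp [hC]
  have hint : ∀ μ, IsIntegral ℤ (LinearMap.trace ℂ (X.eigenspace μ) (C.restrict (hmapsC μ))) :=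
    fun μ => Helper16_PCongr.isIntegral_trace_of_pow_eq_one hn (hCn μ)
  have hres : ∀ μ, (X * C).restrict (hmapsXC μ) = μ • C.restrict (hmapsC μ) := by
    intro μ
    ext v
    have h1 := hmapsC μ v.2
    have h2 : X (C v) = μ • C v := Module.End.mem_eigenspace_iff.mp h1
    show ((X * C) (v : V)) = μ • (C (v : V))
    rw [Module.End.mul_apply, h2]
  classical
  let t : ℂ → Cfsg.AlgInt := fun μ => ⟨_, hint μ⟩
  let m : ℂ → Cfsg.AlgInt := fun μ =>
    if h : μ ^ (p ^ k) = 1 then ⟨μ, isIntegral_of_pow_eq_one hq h⟩ else 0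
  have hm : ∀ μ ∈ eigSet X, m μ ^ (p ^ k) = 1 := by
    intro μ hμ
    have h1 : μ ^ (p ^ k) = 1 := eigenvalue_pow_eq_one hX (mem_eigSet.mp hμ)
    apply Subtype.ext
    simp only [m, dif_pos h1, SubmonoidClass.coe_pow, OneMemClass.coe_one]
    exact h1
  have hmval : ∀ μ ∈ eigSet X, ((m μ : Cfsg.AlgInt) : ℂ) = μ := by
    intro μ hμ
    have h1 : μ ^ (p ^ k) = 1 := eigenvalue_pow_eq_one hX (mem_eigSet.mp hμ)
    simp only [m, dif_pos h1]
  have e1 : LinearMap.trace ℂ V (X * C) = ((∑ μ ∈ eigSet X, m μ * t μ : Cfsg.AlgInt) : ℂ) := by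
    rw [LinearMap.trace_eq_sum_trace_restrict' (isInternal_eigenspace hs) (eigFinite X) hmapsXC]
    rw [AddSubmonoidClass.coe_finsetSum]
    refine Finset.sum_congr rfl (fun μ hμ => ?_)
    rw [hres, map_smul, smul_eq_mul, Subalgebra.coe_mul, hmval μ hμ]
  have e2 : LinearMap.trace ℂ V C = ((∑ μ ∈ eigSet X, t μ : Cfsg.AlgInt) : ℂ) := by
    rw [LinearMap.trace_eq_sum_trace_restrict' (isInternal_eigenspace hs) (eigFinite X) hmapsC]
    rw [AddSubmonoidClass.coe_finsetSum]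
    rfl
  have key := pi_sum_mul_pow p (eigSet X) m t k hm
  rw [pi_eq_iff] at key
  obtain ⟨γ, hγ⟩ := key
  refine ⟨γ, ?_⟩
  rw [e1, e2, ← hγ]
  simp only [SubmonoidClass.coe_pow]

end endo

section chars

variable {G : Type*} [Group G] [Finite G] (p : ℕ) [hp : Fact p.Prime]

theorem isIntegral_irr (χ : Cfsg.IrrCharacter G) (g : G) : IsIntegral ℤ ((χ : G → ℂ) g) := by
  obtain ⟨n, ρ, _, hρ⟩ := χ.2
  rw [← hρ]
  exact isIntegral_char ρ g

/-- `χ (u * c) ^ (p ^ k) ≡ χ c ^ (p ^ k)` modulo `p` when `u` commutes with `c` and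
`u ^ (p ^ k) = 1`. -/
theorem irr_pow_congr (χ : Cfsg.IrrCharacter G) {u c : G} (huc : Commute u c) {k : ℕ}
    (hu : u ^ (p ^ k) = 1) :
    ∃ γ : Cfsg.AlgInt, (χ : G → ℂ) (u * c) ^ (p ^ k) - (χ : G → ℂ) c ^ (p ^ k) =
      (p : ℂ) * (γ : ℂ) := by
  obtain ⟨n, ρ, _, hρ⟩ := χ.2
  rw [← hρ]
  show ∃ γ : Cfsg.AlgInt, LinearMap.trace ℂ _ (ρ (u * c)) ^ (p ^ k) -
    LinearMap.trace ℂ _ (ρ c) ^ (p ^ k) = (p : ℂ) * (γ : ℂ)
  rw [map_mul]
  apply trace_pow_congr p (ρ u) (ρ c) _ _ (orderOf_pos c) (rho_pow_orderOf ρ c)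
  · rw [← map_mul, ← map_mul, huc.eq]
  · rw [← map_pow, hu, map_one]

end chars

/-- Let G be a finite group, p a prime and p^a the p-part of the order of G. Let x, y ∈ G and let x′, y′ be their p-regular parts: x′ has order prime to p, commutes with x·x′⁻¹, and x·x′⁻¹ has p-power order (likewise for y). Then x′ and y′ are conjugate in G if and only if for every irreducible character χ of G the algebraic integer χ(x)^(p^a) − χ(y)^(p^a) is p times an algebraic integer. -/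
theorem result {G : Type*} [Group G] [Finite G] (p : ℕ) [Fact p.Prime] (x y x' y' : G)
    (hx : (∃ k : ℕ, orderOf (x * x'⁻¹) = p ^ k) ∧ Commute (x * x'⁻¹) x' ∧ ¬ p ∣ orderOf x')
    (hy : (∃ k : ℕ, orderOf (y * y'⁻¹) = p ^ k) ∧ Commute (y * y'⁻¹) y' ∧ ¬ p ∣ orderOf y') :
    IsConj x' y' ↔ ∀ χ : Cfsg.IrrCharacter G, ∃ γ : Cfsg.AlgInt,
      (χ : G → ℂ) x ^ (p ^ (Nat.card G).factorization p) - (χ : G → ℂ) y ^ (p ^ (Nat.card G).factorization p) = (p : ℂ) * (γ : ℂ) := by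
  classical
  have hp : p.Prime := Fact.out
  set a := (Nat.card G).factorization p with ha
  set n' := Nat.card G / p ^ a with hn'
  have hcard : Nat.card G = p ^ a * n' := (Nat.ordProj_mul_ordCompl_eq_self (Nat.card G) p).symm
  have hGpos : Nat.card G ≠ 0 := Nat.card_pos.ne'
  have hcop_p : Nat.Coprime p n' := Nat.coprime_ordCompl hp hGpos
  have hcop : Nat.Coprime (p ^ a) n' := Nat.Coprime.pow_left a hcop_p
  have hdvd : ∀ u : G, orderOf u ∣ p ^ a * n' := fun u => hcard ▸ orderOf_dvd_natCard u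
  -- `p`-elements have order dividing `p ^ a`
  have hpel : ∀ u : G, (∃ k, orderOf u = p ^ k) → u ^ (p ^ a) = 1 := by
    rintro u ⟨k, hk⟩
    apply orderOf_dvd_iff_pow_eq_one.mp
    have h2 : Nat.Coprime (orderOf u) n' := by rw [hk]; exact Nat.Coprime.pow_left k hcop_p
    exact h2.dvd_of_dvd_mul_right (hdvd u)
  -- `p'`-elements have order dividing `n'`
  have hp'el : ∀ v : G, Nat.Coprime (orderOf v) (p ^ a) → v ^ n' = 1 := by
    intro v hv
    apply orderOf_dvd_iff_pow_eq_one.mp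
    exact hv.dvd_of_dvd_mul_left (hdvd v)
  have hux : x = (x * x'⁻¹) * x' := by group
  have huy : y = (y * y'⁻¹) * y' := by group
  have hgx : Nat.Coprime (orderOf x') (p ^ a) :=
    (((Nat.Prime.coprime_iff_not_dvd hp).2 hx.2.2).pow_left a).symm
  have hgy : Nat.Coprime (orderOf y') (p ^ a) :=
    (((Nat.Prime.coprime_iff_not_dvd hp).2 hy.2.2).pow_left a).symm
  have cx : ∀ χ : Cfsg.IrrCharacter G, ∃ γ : Cfsg.AlgInt,
      (χ : G → ℂ) x ^ (p ^ a) - (χ : G → ℂ) x' ^ (p ^ a) = (p : ℂ) * (γ : ℂ) := by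
    intro χ
    have := irr_pow_congr p χ hx.2.1 (k := a) (hpel _ hx.1)
    rwa [← hux] at this
  have cy : ∀ χ : Cfsg.IrrCharacter G, ∃ γ : Cfsg.AlgInt,
      (χ : G → ℂ) y ^ (p ^ a) - (χ : G → ℂ) y' ^ (p ^ a) = (p : ℂ) * (γ : ℂ) := by
    intro χ
    have := irr_pow_congr p χ hy.2.1 (k := a) (hpel _ hy.1)
    rwa [← huy] at this
  haveI : Fintype G := Fintype.ofFinite G
  constructor
  · intro hconj χ
    obtain ⟨γ₁, h₁⟩ := cx χ
    obtain ⟨γ₂, h₂⟩ := cy χ
    have hval : (χ : G → ℂ) x' = (χ : G → ℂ) y' :=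
      Helper3_CharColumn.classFunction_apply_of_isConj
        (Helper3_CharBridge.isClassFunction_of_isIrrCharacter χ.2) hconj
    refine ⟨γ₁ - γ₂, ?_⟩
    rw [Subalgebra.coe_sub, mul_sub, ← h₁, ← h₂, hval]
    ring
  · intro hall
    by_contra hnc
    let cond : G → Prop := fun z => ∃ v : G, IsConj v x' ∧ (∃ u : G, z = u * v ∧ Commute u v ∧
      Nat.Coprime (orderOf u) n' ∧ Nat.Coprime (orderOf v) (p ^ a))
    let ϑ : G → ℂ := fun z => if cond z then (n' : ℂ) else 0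
    obtain ⟨c, hc, hϑ⟩ := Cfsg.Agent.S0875.result (p ^ a) n' hcard hcop x' hgx ϑ
      (fun z hz => if_pos hz) (fun z hz => if_neg hz)
    have hϑx : ϑ x = n' := by
      refine if_pos ⟨x', IsConj.refl _, x * x'⁻¹, hux, hx.2.1, ?_, hgx⟩
      obtain ⟨k, hk⟩ := hx.1
      rw [hk]
      exact Nat.Coprime.pow_left k hcop_p
    have hϑy : ϑ y = 0 := by
      refine if_neg ?_
      rintro ⟨v, hv, u, hyuv, hcomm, hu, hvm⟩
      apply hnc
      -- uniqueness of the decomposition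
      have hum : u ^ (p ^ a) = 1 := by
        apply orderOf_dvd_iff_pow_eq_one.mp
        exact hu.dvd_of_dvd_mul_right (hdvd u)
      have hvn : v ^ n' = 1 := hp'el v hvm
      have e1 : y ^ Helper15_PiPart.crtExp n' (p ^ a) hcop.symm = v := by
        rw [hyuv, hcomm.mul_pow, Helper15_PiPart.pow_crtExp_of_pow_eq_one' _ _ _ u hum,
          Helper15_PiPart.pow_crtExp_of_pow_eq_one _ _ _ v hvn, one_mul]
      have e2 : y ^ Helper15_PiPart.crtExp n' (p ^ a) hcop.symm = y' := by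
        conv_lhs => rw [huy]
        rw [hy.2.1.mul_pow, Helper15_PiPart.pow_crtExp_of_pow_eq_one' _ _ _ _ (hpel _ hy.1),
          Helper15_PiPart.pow_crtExp_of_pow_eq_one _ _ _ y' (hp'el y' hgy), one_mul]
      rw [← e2, e1]
      exact hv.symm
    -- evaluate the expansion
    have heval : ∀ z : G, ϑ z = ∑ χ : Cfsg.IrrCharacter G, c χ * (χ : G → ℂ) z := by
      intro z
      rw [hϑ, finsum_eq_sum_of_fintype, Finset.sum_apply]
      rfl
    have hn1 : (n' : ℂ) = ∑ χ : Cfsg.IrrCharacter G, c χ * ((χ : G → ℂ) x - (χ : G → ℂ) y) := by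
      have h1 := heval x
      have h2 := heval y
      rw [hϑx] at h1
      rw [hϑy] at h2
      simp_rw [mul_sub]
      rw [Finset.sum_sub_distrib, ← h1, ← h2, sub_zero]
    -- lift to the algebraic integers
    let cR : Cfsg.IrrCharacter G → Cfsg.AlgInt := fun χ => ⟨c χ, hc χ⟩
    let aR : Cfsg.IrrCharacter G → Cfsg.AlgInt := fun χ => ⟨(χ : G → ℂ) x, isIntegral_irr χ x⟩
    let bR : Cfsg.IrrCharacter G → Cfsg.AlgInt := fun χ => ⟨(χ : G → ℂ) y, isIntegral_irr χ y⟩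
    have hn2 : ((n' : ℕ) : Cfsg.AlgInt) = ∑ χ : Cfsg.IrrCharacter G, cR χ * (aR χ - bR χ) := by
      apply Subtype.ext
      rw [AddSubmonoidClass.coe_finsetSum]
      simp only [Subalgebra.coe_mul, Subalgebra.coe_sub, cR, aR, bR]
      rw [← hn1]
      simp
    have hab : ∀ χ : Cfsg.IrrCharacter G, pi p (aR χ) ^ (p ^ a) = pi p (bR χ) ^ (p ^ a) := by
      intro χ
      rw [← map_pow, ← map_pow, pi_eq_iff]
      obtain ⟨γ, hγ⟩ := hall χ
      exact ⟨γ, by simpa [aR, bR] using hγ⟩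
    have hn3 : pi p (((n' : ℕ) : Cfsg.AlgInt) ^ (p ^ a)) = pi p 0 := by
      rw [hn2, map_pow, map_sum, sum_pow_char_pow, map_zero]
      refine Finset.sum_eq_zero (fun χ _ => ?_)
      rw [map_mul, map_sub, mul_pow, sub_pow_char_pow, hab χ, sub_self, mul_zero]
    rw [pi_eq_iff] at hn3
    obtain ⟨γ, hγ⟩ := hn3
    have hp0 : (p : ℂ) ≠ 0 := by exact_mod_cast hp.ne_zero
    have h5 : (((n' ^ (p ^ a) : ℕ)) : ℂ) / (p : ℂ) = (γ : ℂ) := by
      rw [div_eq_iff hp0, mul_comm, ← hγ]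
      simp
    have h6 : IsIntegral ℤ ((((n' ^ (p ^ a) : ℕ)) : ℂ) / (p : ℂ)) := by
      rw [h5]; exact γ.2
    have h7 := Helper3_CharDegree.dvd_of_isIntegral_div hp.ne_zero h6
    have h8 : p ∣ n' := hp.dvd_of_dvd_pow h7
    exact hp.one_lt.ne' (hcop_p.eq_one_of_dvd h8)

end Cfsg.Agent.S4604
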