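import Mathlib
import Cfsg.Statements.S4611
import Cfsg.Agent.Lib.Helper76_PSolvable
import Cfsg.Agent.Lib.Helper80_CharBasic
import Cfsg.Agent.Lib.Helper3_CharEigen
import Cfsg.Agent.Lib.Helper3_CharColumn
import Cfsg.Agent.Lib.Helper82_Linking
import Cfsg.Agent.Lib.Helper82_PPrimeQuot
import Cfsg.Agent.Lib.Helper82_FongSolvable

set_option autoImplicit false
open Cfsg

namespace Cfsg.Agent.S4611

open Cfsg.Agent.Lib.Helper82_PPrimeQuot Cfsg.Agent.Lib.Helper82_FongSolvable

open scoped ComplexConjugate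

/-- the kernel of an irreducible character is a normal subgroup -/
theorem exists_ker {G : Type*} [Group G] [Finite G] (χ : Cfsg.IrrCharacter G) :
    ∃ K : Subgroup G, K.Normal ∧ ∀ g : G, g ∈ K ↔ (χ : G → ℂ) g = (χ : G → ℂ) 1 := by
  obtain ⟨n, ρ, -, hχ⟩ := χ.2
  refine ⟨MonoidHom.ker ρ, inferInstance, fun g => ?_⟩
  rw [MonoidHom.mem_ker, ← hχ, Representation.char_one,
    Cfsg.Agent.Lib.Helper3_CharEigen.char_eq_finrank_iff]
  rfl

/-- a constant irreducible character is the principal character -/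
theorem eq_one_of_const {G : Type*} [Group G] [Finite G] (χ : Cfsg.IrrCharacter G)
    (h : ∀ g : G, (χ : G → ℂ) g = (χ : G → ℂ) 1) : (χ : G → ℂ) = fun _ => 1 := by
  classical
  have := Fintype.ofFinite G
  obtain ⟨n, hn, h1⟩ := Cfsg.Agent.Lib.Helper80_CharBasic.irr_apply_one χ
  have hsum := Cfsg.Agent.Lib.Helper82_Linking.sum_mul_conj_irr χ χ
  rw [if_pos rfl] at hsum
  have h2 : ∀ g : G, (χ : G → ℂ) g * conj ((χ : G → ℂ) g) = (n : ℂ) * (n : ℂ) := by
    intro g
    rw [h g, h1, Complex.conj_natCast]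
  simp_rw [h2] at hsum
  rw [Finset.sum_const, Finset.card_univ, ← Nat.card_eq_fintype_card, nsmul_eq_mul] at hsum
  have hG : (Nat.card G : ℂ) ≠ 0 := by
    exact_mod_cast (Nat.card_pos (α := G)).ne'
  have h3 : (n : ℂ) * (n : ℂ) = 1 := by
    have := mul_left_cancel₀ hG (hsum.trans (mul_one _).symm)
    exact this
  have h4 : n * n = 1 := by exact_mod_cast h3
  have h5 : n = 1 := by
    have := Nat.eq_one_of_mul_eq_one_left h4
    exact this
  funext g
  rw [h g, h1, h5]
  simp

/-- Let G be a finite solvable group and π a nonempty set of primes, each dividing the order of G; fix for each p in π a maximal ideal M p of the algebraic integers containing p. Then the only irreducible character lying in the principal p-block for every p in π is the principal character if and only if G is generated by the subgroups O_{p'}(G), p in π (the largest normal subgroups of order prime to p). -/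
theorem result {G : Type*} [Group G] [Finite G] [Group.IsSolvable G] (π : Set ℕ) (hπ : ∀ p ∈ π, p.Prime ∧ p ∣ Nat.card G) (hne : π.Nonempty) (M : ℕ → Ideal Cfsg.AlgInt) (hM : ∀ p ∈ π, Cfsg.IsPModular p (M p)) :
    (∀ χ : Cfsg.IrrCharacter G, (∀ p ∈ π, χ ∈ Cfsg.principalBlock (M p) G) → (χ : G → ℂ) = fun _ => 1) ↔
      ⨆ p ∈ π, Cfsg.pPrimeCore p G = ⊤ := by
  classical
  have hKn : (⨆ p ∈ π, Cfsg.pPrimeCore p G).Normal :=
    Subgroup.biSup_normal π (fun p => Cfsg.pPrimeCore p G)
      (fun p _ => Cfsg.Agent.Lib.Helper76_PSolvable.pPrimeCore_normal p)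
  constructor
  · intro hall
    by_contra hK
    set K : Subgroup G := ⨆ p ∈ π, Cfsg.pPrimeCore p G with hKdef
    obtain ⟨x, hx⟩ : ∃ x : G, x ∉ K := by
      by_contra hcon
      push Not at hcon
      exact hK (eq_top_iff.mpr fun g _ => hcon g)
    have := Fintype.ofFinite (G ⧸ K)
    have hne1 : (QuotientGroup.mk x : G ⧸ K) ≠ 1 := fun h =>
      hx ((QuotientGroup.eq_one_iff x).mp h)
    have hnc : ¬ IsConj (QuotientGroup.mk x : G ⧸ K) 1 := fun h =>
      hne1 (isConj_one_left.mp h)
    rw [Cfsg.Agent.Lib.Helper3_CharColumn.isConj_iff_forall_irr] at hnc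
    push Not at hnc
    obtain ⟨ψ, hψ⟩ := hnc
    have hmem : ∀ p ∈ π, infl K ψ ∈ Cfsg.principalBlock (M p) G := by
      intro p hp
      have : Fact p.Prime := ⟨(hπ p hp).1⟩
      rw [mem_principalBlock_iff_of_solvable p (M p) (hM p hp)]
      intro u hu
      have huK : u ∈ K := by
        have hle : Cfsg.pPrimeCore p G ≤ K := by
          rw [hKdef]
          exact le_biSup (fun p => Cfsg.pPrimeCore p G) hp
        exact hle hu
      rw [infl_apply, infl_apply]
      have hu1 : (QuotientGroup.mk u : G ⧸ K) = QuotientGroup.mk (1 : G) := by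
        rw [QuotientGroup.mk_one]
        exact (QuotientGroup.eq_one_iff u).mpr huK
      rw [hu1]
    have h1 := hall (infl K ψ) hmem
    have h2 := congrFun h1 x
    have h3 := congrFun h1 1
    rw [infl_apply] at h2 h3
    rw [QuotientGroup.mk_one] at h3
    exact hψ (h2.trans h3.symm)
  · intro hK χ hχ
    obtain ⟨Kχ, -, hKχ⟩ := exists_ker χ
    have hle : (⨆ p ∈ π, Cfsg.pPrimeCore p G) ≤ Kχ := by
      refine iSup₂_le fun p hp => ?_
      have : Fact p.Prime := ⟨(hπ p hp).1⟩
      intro u hu
      rw [hKχ]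
      exact (mem_principalBlock_iff_of_solvable p (M p) (hM p hp) χ).mp (hχ p hp) u hu
    rw [hK] at hle
    apply eq_one_of_const
    intro g
    rw [← hKχ]
    exact hle (Subgroup.mem_top g)

end Cfsg.Agent.S4611
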