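import Cfsg.Statements.S4619

set_option autoImplicit false
open scoped Pointwise
open Cfsg

namespace Cfsg.Agent.S4619

theorem aux {G : Type*} [Group G] (P : Subgroup G)
    (hTI : (∀ g : G, g ∉ Subgroup.normalizer (P : Set G) → P ⊓ (MulAut.conj g • P) = ⊥))
    (Q : Subgroup G) (hQ : Q ≤ P) (hQ1 : Q ≠ ⊥) (g : G) (hg : MulAut.conj g • Q ≤ P) :
    g ∈ Subgroup.normalizer (P : Set G) := by
  by_contra hgn
  have hgn' : g⁻¹ ∉ Subgroup.normalizer (P : Set G) := fun h => hgn (by simpa using inv_mem h)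
  have h1 := hTI g⁻¹ hgn'
  apply hQ1
  rw [eq_bot_iff, ← h1]
  refine le_inf hQ ?_
  intro x hx
  rw [Subgroup.mem_pointwise_smul_iff_inv_smul_mem]
  apply hg
  rw [map_inv, inv_inv]
  exact Subgroup.smul_mem_pointwise_smul _ _ _ hx

/-- Let P be a Sylow p-subgroup of the finite group G that is a trivial-intersection set: P meets each conjugate g P g⁻¹ with g outside N_G(P) trivially. Then for every nontrivial subgroup Q of P the normalizer of Q lies in the normalizer of P, and any g ∈ G conjugating Q into P lies in N_G(P). -/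
theorem result {G : Type*} [Group G] [Finite G] (p : ℕ) [Fact p.Prime] (P : Sylow p G) (hTI : (∀ g : G, g ∉ Subgroup.normalizer ((P : Subgroup G) : Set G) → (P : Subgroup G) ⊓ (MulAut.conj g • (P : Subgroup G)) = ⊥)) (Q : Subgroup G) (hQ : Q ≤ (P : Subgroup G)) (hQ1 : Q ≠ ⊥) :
    Subgroup.normalizer (Q : Set G) ≤ Subgroup.normalizer ((P : Subgroup G) : Set G) ∧
      ∀ g : G, MulAut.conj g • Q ≤ (P : Subgroup G) → g ∈ Subgroup.normalizer ((P : Subgroup G) : Set G) := by
  have h2 : ∀ g : G, MulAut.conj g • Q ≤ (P : Subgroup G) → g ∈ Subgroup.normalizer ((P : Subgroup G) : Set G) :=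
    fun g hg => aux (P : Subgroup G) hTI Q hQ hQ1 g hg
  refine ⟨?_, h2⟩
  intro g hg
  apply h2
  have : MulAut.conj g • Q = Q := by
    ext x
    rw [Subgroup.mem_pointwise_smul_iff_inv_smul_mem]
    have := (Subgroup.mem_normalizer_iff''.mp hg) x
    simp only [MulAut.smul_def, MulAut.conj_inv_apply]
    exact this.symm
  rw [this]
  exact hQ

end Cfsg.Agent.S4619
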