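import Cfsg.Statements.S4620
import Mathlib.Data.Set.Finite.Lemmas
import Mathlib.GroupTheory.GroupAction.ConjAct

set_option autoImplicit false
open scoped Pointwise
open Cfsg

namespace Cfsg.Agent.S4620

/-- Trivial-intersection subgroups. -/
def IsTI {G : Type*} [Group G] (S : Subgroup G) : Prop :=
  ∀ g : G, g ∉ Subgroup.normalizer (S : Set G) → S ⊓ (MulAut.conj g • S) = ⊥

/-- Elementwise form of the TI property. -/
theorem IsTI.mem_normalizer {G : Type*} [Group G] {S : Subgroup G} (h : IsTI S) (g x : G)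
    (hx1 : x ≠ 1) (hx : x ∈ S) (hgx : g⁻¹ * x * g ∈ S) : g ∈ Subgroup.normalizer (S : Set G) := by
  by_contra hg
  have := h g hg
  apply hx1
  have hmem : x ∈ S ⊓ (MulAut.conj g • S) := by
    rw [Subgroup.mem_inf]
    refine ⟨hx, ?_⟩
    rw [Subgroup.mem_pointwise_smul_iff_inv_smul_mem]
    simpa [MulAut.smul_def] using hgx
  rw [this] at hmem
  exact hmem

theorem isTI_of_forall {G : Type*} [Group G] {S : Subgroup G}
    (h : ∀ g x : G, x ≠ 1 → x ∈ S → g⁻¹ * x * g ∈ S → g ∈ Subgroup.normalizer (S : Set G)) :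
    IsTI S := by
  intro g hg
  rw [eq_bot_iff]
  intro x hx
  rw [Subgroup.mem_bot]
  by_contra hx1
  apply hg
  rw [Subgroup.mem_inf] at hx
  refine h g x hx1 hx.1 ?_
  have := hx.2
  rw [Subgroup.mem_pointwise_smul_iff_inv_smul_mem] at this
  simpa [MulAut.smul_def] using this

theorem mem_normalizer_smul {G : Type*} [Group G] (S : Subgroup G) (h g : G)
    (hg : g ∈ Subgroup.normalizer (S : Set G)) :
    h * g * h⁻¹ ∈ Subgroup.normalizer ((MulAut.conj h • S : Subgroup G) : Set G) := by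
  rw [Subgroup.mem_normalizer_iff] at hg ⊢
  intro y
  rw [Subgroup.mem_pointwise_smul_iff_inv_smul_mem, Subgroup.mem_pointwise_smul_iff_inv_smul_mem]
  simp only [MulAut.smul_def, MulAut.conj_inv_apply]
  rw [hg (h⁻¹ * y * h)]
  have : g * (h⁻¹ * y * h) * g⁻¹ = h⁻¹ * (h * g * h⁻¹ * y * (h * g * h⁻¹)⁻¹) * h := by group
  rw [this]

/-- Conjugates of TI subgroups are TI. -/
theorem IsTI.smul {G : Type*} [Group G] {S : Subgroup G} (hS : IsTI S) (h : G) :
    IsTI (MulAut.conj h • S) := by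
  apply isTI_of_forall
  intro g x hx1 hx hgx
  rw [Subgroup.mem_pointwise_smul_iff_inv_smul_mem] at hx hgx
  simp only [MulAut.smul_def, MulAut.conj_inv_apply] at hx hgx
  have hx1' : h⁻¹ * x * h ≠ 1 := by
    intro h1
    apply hx1
    have : x = h * (h⁻¹ * x * h) * h⁻¹ := by group
    rw [this, h1]; group
  have key := hS.mem_normalizer (h⁻¹ * g * h) (h⁻¹ * x * h) hx1' hx (by
    have : (h⁻¹ * g * h)⁻¹ * (h⁻¹ * x * h) * (h⁻¹ * g * h) = h⁻¹ * (g⁻¹ * x * g) * h := by group
    rw [this]; exact hgx)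
  have := mem_normalizer_smul S h _ key
  have e : h * (h⁻¹ * g * h) * h⁻¹ = g := by group
  rwa [e] at this

/-- L2: a normal subgroup meeting a Sylow `p`-subgroup trivially is trivial when `O_{p'} = 1`. -/
theorem eq_bot_of_inf_sylow_eq_bot {H : Type*} [Group H] [Finite H] (p : ℕ) [Fact p.Prime]
    (hOp' : Cfsg.pPrimeCore p H = ⊥) (P : Sylow p H) (K : Subgroup H) (hK : K.Normal)
    (h : K ⊓ (P : Subgroup H) = ⊥) : K = ⊥ := by
  have hcop : (Nat.card K).Coprime p := by
    rw [Nat.coprime_comm, Nat.Prime.coprime_iff_not_dvd Fact.out]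
    intro hdvd
    obtain ⟨x, hx⟩ := exists_prime_orderOf_dvd_card' p hdvd
    have hx' : orderOf (x : H) = p := by rw [Subgroup.orderOf_coe]; exact hx
    have hpg : IsPGroup p (Subgroup.zpowers (x : H)) := by
      apply IsPGroup.of_card (n := 1)
      rw [Nat.card_zpowers, hx', pow_one]
    obtain ⟨Q, hQ⟩ := hpg.exists_le_sylow
    obtain ⟨g, rfl⟩ := MulAction.exists_smul_eq H P Q
    have hxQ : (x : H) ∈ ((g • P : Sylow p H) : Subgroup H) := hQ (Subgroup.mem_zpowers _)
    rw [Sylow.coe_subgroup_smul, Subgroup.mem_pointwise_smul_iff_inv_smul_mem] at hxQ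
    simp only [MulAut.smul_def, MulAut.conj_inv_apply] at hxQ
    have hxK : g⁻¹ * (x : H) * g ∈ K := by
      have := hK.conj_mem (x : H) x.2 g⁻¹
      simpa using this
    have : g⁻¹ * (x : H) * g ∈ K ⊓ (P : Subgroup H) := ⟨hxK, hxQ⟩
    rw [h, Subgroup.mem_bot] at this
    have hx1 : (x : H) = 1 := by
      have e : (x : H) = g * (g⁻¹ * (x : H) * g) * g⁻¹ := by group
      rw [e, this]; group
    rw [hx1, orderOf_one] at hx'
    exact (Fact.out : p.Prime).one_lt.ne hx'
  rw [eq_bot_iff, ← hOp']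
  exact le_sSup ⟨hK, hcop⟩

/-- A `p`-element normalizing a Sylow `p`-subgroup lies in it. -/
theorem mem_sylow_of_mem_normalizer {H : Type*} [Group H] (p : ℕ) [Fact p.Prime]
    (P : Sylow p H) (y : H) (hy : y ∈ Subgroup.normalizer ((P : Subgroup H) : Set H))
    (hyp : IsPGroup p (Subgroup.zpowers y)) : y ∈ (P : Subgroup H) := by
  have h := hyp.inf_normalizer_sylow P
  have : y ∈ Subgroup.zpowers y ⊓ Subgroup.normalizer ((P : Subgroup H) : Set H) :=
    ⟨Subgroup.mem_zpowers y, hy⟩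
  exact (h.le this).2

/-- L3: a normal subgroup normalizing a Sylow `p`-subgroup is trivial when `O_p = O_{p'} = 1`. -/
theorem eq_bot_of_le_normalizer {H : Type*} [Group H] [Finite H] (p : ℕ) [Fact p.Prime]
    (hOp : Cfsg.pCore p H = ⊥)
    (P : Sylow p H) (K : Subgroup H) (hK : K.Normal)
    (h : K ≤ Subgroup.normalizer ((P : Subgroup H) : Set H)) : K ⊓ (P : Subgroup H) = ⊥ := by
  have hA : (K ⊓ (P : Subgroup H)).Normal := by
    constructor
    intro a ha g
    have haK : g * a * g⁻¹ ∈ K := hK.conj_mem a ha.1 g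
    refine ⟨haK, ?_⟩
    apply mem_sylow_of_mem_normalizer p P _ (h haK)
    -- the conjugate of a `p`-element is a `p`-element
    have hpa : IsPGroup p (Subgroup.zpowers a) :=
      P.isPGroup'.to_le (by rw [Subgroup.zpowers_le]; exact ha.2)
    have : Subgroup.zpowers (g * a * g⁻¹) = (Subgroup.zpowers a).map (MulAut.conj g).toMonoidHom := by
      rw [MonoidHom.map_zpowers]; rfl
    rw [this]
    exact hpa.map _
  have hAp : IsPGroup p (K ⊓ (P : Subgroup H) : Subgroup H) := P.isPGroup'.to_le inf_le_right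
  rw [eq_bot_iff, ← hOp]
  exact le_sSup ⟨hA, hAp⟩


/-- L4: a normal subgroup centralizing a nontrivial subgroup of a TI Sylow subgroup is trivial. -/
theorem eq_bot_of_le_centralizer {H : Type*} [Group H] [Finite H] (p : ℕ) [Fact p.Prime]
    (hOp : Cfsg.pCore p H = ⊥) (hOp' : Cfsg.pPrimeCore p H = ⊥)
    (P : Sylow p H) (hTI : IsTI (P : Subgroup H)) (K : Subgroup H) (hK : K.Normal)
    (Q : Subgroup H) (hQ : Q ≤ (P : Subgroup H)) (hQ1 : Q ≠ ⊥)
    (h : K ≤ Subgroup.centralizer (Q : Set H)) : K = ⊥ := by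
  obtain ⟨x, hxQ, hx1⟩ := (Subgroup.bot_or_exists_ne_one Q).resolve_left hQ1
  have hKN : K ≤ Subgroup.normalizer ((P : Subgroup H) : Set H) := by
    intro t ht
    have hc := (Subgroup.mem_centralizer_iff.mp (h ht)) x hxQ
    apply hTI.mem_normalizer t x hx1 (hQ hxQ)
    have : t⁻¹ * x * t = x := by
      rw [mul_assoc, hc, ← mul_assoc, inv_mul_cancel, one_mul]
    rw [this]; exact hQ hxQ
  exact eq_bot_of_inf_sylow_eq_bot p hOp' P K hK (eq_bot_of_le_normalizer p hOp P K hK hKN)

/-- The main lemma: existence of a unique minimal normal subgroup with trivial centralizer. -/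
theorem exists_unique_minimal_normal {H : Type*} [Group H] [Finite H] (p : ℕ) [Fact p.Prime]
    (hOp : Cfsg.pCore p H = ⊥) (hOp' : Cfsg.pPrimeCore p H = ⊥) (P : Sylow p H)
    (hP1 : (P : Subgroup H) ≠ ⊥) (hTI : IsTI (P : Subgroup H)) :
    ∃ N : Subgroup H, N.Normal ∧ N ≠ ⊥ ∧ (∀ K : Subgroup H, K.Normal → K ≠ ⊥ → N ≤ K) ∧
      Subgroup.centralizer (N : Set H) = ⊥ := by
  have htop : (⊤ : Subgroup H) ≠ ⊥ := by
    intro h
    apply hP1
    rw [eq_bot_iff, ← h]; exact le_top
  obtain ⟨N, ⟨hNn, hN1⟩, hmin⟩ := Set.exists_min_image {K : Subgroup H | K.Normal ∧ K ≠ ⊥}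
    (fun K => Nat.card K) (Set.toFinite _) ⟨⊤, inferInstance, htop⟩
  have hNP : N ⊓ (P : Subgroup H) ≠ ⊥ := fun h =>
    hN1 (eq_bot_of_inf_sylow_eq_bot p hOp' P N hNn h)
  have hNK : ∀ K : Subgroup H, K.Normal → K ≠ ⊥ → N ≤ K := by
    intro K hK hK1
    by_cases hd : N ⊓ K = ⊥
    · exfalso
      apply hK1
      apply eq_bot_of_le_centralizer p hOp hOp' P hTI K hK (N ⊓ (P : Subgroup H)) inf_le_right hNP
      intro k hk
      rw [Subgroup.mem_centralizer_iff]
      intro x hx
      exact (Subgroup.commute_of_normal_of_disjoint N K hNn hK (disjoint_iff.mpr hd) x k hx.1 hk)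
    · have hn : (N ⊓ K).Normal := by
        have := hNn; have := hK; infer_instance
      have hle := hmin (N ⊓ K) ⟨hn, hd⟩
      have : N ⊓ K = N := Subgroup.eq_of_le_of_card_ge inf_le_left hle
      rw [← this]; exact inf_le_right
  refine ⟨N, hNn, hN1, hNK, ?_⟩
  have := hNn
  apply eq_bot_of_le_centralizer p hOp hOp' P hTI _ (Subgroup.normal_centralizer) (N ⊓ (P : Subgroup H)) inf_le_right hNP
  exact Subgroup.centralizer_le (fun x hx => hx.1)

/-- The join of a family of subgroups that is stable under automorphisms is characteristic. -/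
theorem characteristic_sSup {G : Type*} [Group G] (S : Set (Subgroup G))
    (hS : ∀ ϕ : G ≃* G, ∀ A ∈ S, A.map ϕ.toMonoidHom ∈ S) : (sSup S).Characteristic := by
  rw [Subgroup.characteristic_iff_map_le]
  intro ϕ
  rw [Subgroup.map_le_iff_le_comap]
  apply sSup_le
  intro A hA
  rw [← Subgroup.map_le_iff_le_comap]
  exact le_sSup (hS ϕ A hA)

theorem pCore_characteristic (p : ℕ) (G : Type*) [Group G] : (Cfsg.pCore p G).Characteristic := by
  apply characteristic_sSup
  rintro ϕ A ⟨hA, hAp⟩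
  exact ⟨hA.map _ ϕ.surjective, hAp.map _⟩

theorem pPrimeCore_characteristic (p : ℕ) (G : Type*) [Group G] :
    (Cfsg.pPrimeCore p G).Characteristic := by
  apply characteristic_sSup
  rintro ϕ A ⟨hA, hAp⟩
  refine ⟨hA.map _ ϕ.surjective, ?_⟩
  rw [Subgroup.card_map_of_injective ϕ.injective]
  exact hAp

theorem pCore_isPGroup (p : ℕ) [Fact p.Prime] (G : Type*) [Group G] [Finite G] :
    IsPGroup p (Cfsg.pCore p G) :=
  Sylow.sSup_of_normal _ (fun _ h => h.2) (fun _ h => h.1)

/-- The join of two subgroups, one normal, of orders coprime to `p` has order coprime to `p`.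
(As in `Helper50_Basic`.) -/
theorem coprime_card_sup {G : Type*} [Group G] [Finite G] {p : ℕ} (N₁ N₂ : Subgroup G) [N₂.Normal]
    (h₁ : (Nat.card N₁).Coprime p) (h₂ : (Nat.card N₂).Coprime p) :
    (Nat.card (N₁ ⊔ N₂ : Subgroup G)).Coprime p := by
  have e : Nat.card (N₁ ⊔ N₂ : Subgroup G) = Nat.card N₂ * N₂.relIndex N₁ := by
    have := Subgroup.relIndex_mul_relIndex (H := ⊥) (K := N₂) (L := N₁ ⊔ N₂) bot_le le_sup_right
    rw [Subgroup.relIndex_bot_left, Subgroup.relIndex_bot_left, Subgroup.relIndex_sup_right] at this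
    exact this.symm
  rw [e]
  exact Nat.Coprime.mul_left h₂ (Nat.Coprime.coprime_dvd_left (Subgroup.relIndex_dvd_card _ _) h₁)

/-- `O_{p'}(G)` of a finite group has order coprime to `p`. (As in `Helper50_Basic`.) -/
theorem pPrimeCore_card_coprime {G : Type*} [Group G] [Finite G] (p : ℕ) :
    (Nat.card (Cfsg.pPrimeCore p G)).Coprime p := by
  classical
  have hfin : Set.Finite {N : Subgroup G | N.Normal ∧ (Nat.card N).Coprime p} := Set.toFinite _
  have : Cfsg.pPrimeCore p G = hfin.toFinset.sup id := by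
    rw [Cfsg.pPrimeCore, Finset.sup_id_eq_sSup, Set.Finite.coe_toFinset]
  rw [this]
  have key : (hfin.toFinset.sup id).Normal ∧ (Nat.card (hfin.toFinset.sup id : Subgroup G)).Coprime p := by
    refine Finset.sup_induction (p := fun N : Subgroup G => N.Normal ∧ (Nat.card N).Coprime p) ?_ ?_ ?_
    · refine ⟨inferInstance, ?_⟩
      simp
    · rintro a ⟨ha, ha'⟩ b ⟨hb, hb'⟩
      exact ⟨inferInstance, coprime_card_sup a b ha' hb'⟩
    · intro b hb
      simpa using hb
  exact key.2

/-- `O_p` of a normal subgroup is trivial when `O_p` of the group is. -/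
theorem pCore_subgroup_eq_bot {H : Type*} [Group H] [Finite H] (p : ℕ) [Fact p.Prime]
    (hOp : Cfsg.pCore p H = ⊥) (N : Subgroup H) [hN : N.Normal] : Cfsg.pCore p N = ⊥ := by
  have := pCore_characteristic p N
  have hn : ((Cfsg.pCore p N).map N.subtype).Normal := ConjAct.normal_of_characteristic_of_normal
  have hp : IsPGroup p ((Cfsg.pCore p N).map N.subtype) := (pCore_isPGroup p N).map _
  have : (Cfsg.pCore p N).map N.subtype ≤ Cfsg.pCore p H := le_sSup ⟨hn, hp⟩
  rw [hOp, le_bot_iff, Subgroup.map_eq_bot_iff_of_injective _ N.subtype_injective] at this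
  exact this

/-- `O_{p'}` of a normal subgroup is trivial when `O_{p'}` of the group is. -/
theorem pPrimeCore_subgroup_eq_bot {H : Type*} [Group H] [Finite H] (p : ℕ)
    (hOp' : Cfsg.pPrimeCore p H = ⊥) (N : Subgroup H) [hN : N.Normal] :
    Cfsg.pPrimeCore p N = ⊥ := by
  have := pPrimeCore_characteristic p N
  have hn : ((Cfsg.pPrimeCore p N).map N.subtype).Normal :=
    ConjAct.normal_of_characteristic_of_normal
  have hp : (Nat.card ((Cfsg.pPrimeCore p N).map N.subtype)).Coprime p := by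
    rw [Subgroup.card_map_of_injective N.subtype_injective]
    exact pPrimeCore_card_coprime p
  have : (Cfsg.pPrimeCore p N).map N.subtype ≤ Cfsg.pPrimeCore p H := le_sSup ⟨hn, hp⟩
  rw [hOp', le_bot_iff, Subgroup.map_eq_bot_iff_of_injective _ N.subtype_injective] at this
  exact this

/-- A Sylow `p`-subgroup of a subgroup `N` of `H` is TI in `N` if the Sylow `p`-subgroups of `H`
are TI in `H`. -/
theorem sylow_subgroup_isTI {H : Type*} [Group H] [Finite H] (p : ℕ) [Fact p.Prime]
    (P : Sylow p H) (hTI : IsTI (P : Subgroup H)) (N : Subgroup H) (Q : Sylow p N) :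
    IsTI (Q : Subgroup N) := by
  have hQp : IsPGroup p ((Q : Subgroup N).map N.subtype) := Q.isPGroup'.map N.subtype
  obtain ⟨P', hP'⟩ := hQp.exists_le_sylow
  obtain ⟨g, rfl⟩ := MulAction.exists_smul_eq H P P'
  have hTI' : IsTI ((g • P : Sylow p H) : Subgroup H) := by
    rw [Sylow.coe_subgroup_smul]; exact hTI.smul g
  set P' : Sylow p H := g • P with hP'def
  have hQle : (Q : Subgroup N) ≤ (P' : Subgroup H).subgroupOf N := by
    intro x hx
    rw [Subgroup.mem_subgroupOf]
    exact hP' ⟨x, hx, rfl⟩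
  have hQeq : (P' : Subgroup H).subgroupOf N = (Q : Subgroup N) :=
    Q.is_maximal' (P'.isPGroup'.comap_subtype) hQle
  apply isTI_of_forall
  intro n x hx1 hx hnx
  have hx1' : (x : H) ≠ 1 := fun h => hx1 (Subtype.ext h)
  have h1 : (x : H) ∈ (P' : Subgroup H) := by
    have := hQle hx; rwa [Subgroup.mem_subgroupOf] at this
  have h2 : (n : H)⁻¹ * (x : H) * (n : H) ∈ (P' : Subgroup H) := by
    have := hQle hnx; rwa [Subgroup.mem_subgroupOf] at this
  have hn := hTI'.mem_normalizer (n : H) (x : H) hx1' h1 h2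
  rw [Subgroup.mem_normalizer_iff] at hn ⊢
  intro y
  rw [← hQeq, Subgroup.mem_subgroupOf, Subgroup.mem_subgroupOf]
  exact hn (y : H)


/-- Let H be a finite group with no nontrivial normal p-subgroup and no nontrivial normal subgroup of order prime to p, whose Sylow p-subgroup P is nontrivial and a trivial-intersection set (P meets its conjugates by elements outside N_H(P) trivially). Then H has a unique minimal normal subgroup N; N is non-abelian simple with trivial centralizer in H (so H embeds in Aut(N)), and a Sylow p-subgroup of N is again a nontrivial trivial-intersection set in N. -/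
theorem result {H : Type*} [Group H] [Finite H] (p : ℕ) [Fact p.Prime] (hOp : Cfsg.pCore p H = ⊥) (hOp' : Cfsg.pPrimeCore p H = ⊥) (P : Sylow p H) (hP1 : (P : Subgroup H) ≠ ⊥)
    (hTI : ∀ g : H, g ∉ Subgroup.normalizer ((P : Subgroup H) : Set H) → (P : Subgroup H) ⊓ (MulAut.conj g • (P : Subgroup H)) = ⊥) :
    ∃ N : Subgroup H, N.Normal ∧ N ≠ ⊥ ∧ (∀ K : Subgroup H, K.Normal → K ≠ ⊥ → N ≤ K) ∧
      IsSimpleGroup N ∧ ¬ IsMulCommutative N ∧ Subgroup.centralizer (N : Set H) = ⊥ ∧
      ∀ Q : Sylow p N, (Q : Subgroup N) ≠ ⊥ ∧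
        ∀ n : N, n ∉ Subgroup.normalizer ((Q : Subgroup N) : Set N) → (Q : Subgroup N) ⊓ (MulAut.conj n • (Q : Subgroup N)) = ⊥ := by
  have hTI' : IsTI (P : Subgroup H) := hTI
  obtain ⟨N, hNn, hN1, hNmin, hNC⟩ := exists_unique_minimal_normal p hOp hOp' P hP1 hTI'
  -- `p` divides the order of `N`
  have hpN : p ∣ Nat.card N := by
    by_contra hnd
    apply hN1
    rw [eq_bot_iff, ← hOp']
    refine le_sSup ⟨hNn, ?_⟩
    rw [Nat.coprime_comm, Nat.Prime.coprime_iff_not_dvd Fact.out]
    exact hnd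
  -- the Sylow subgroups of `N`
  have hSyl : ∀ Q : Sylow p N, (Q : Subgroup N) ≠ ⊥ ∧ IsTI (Q : Subgroup N) := fun Q =>
    ⟨Q.ne_bot_of_dvd_card hpN, sylow_subgroup_isTI p P hTI' N Q⟩
  -- `N` inherits the hypotheses
  have hOpN : Cfsg.pCore p N = ⊥ := pCore_subgroup_eq_bot p hOp N
  have hOpN' : Cfsg.pPrimeCore p N = ⊥ := pPrimeCore_subgroup_eq_bot p hOp' N
  obtain ⟨Q₀⟩ : Nonempty (Sylow p N) := inferInstance
  obtain ⟨T, hTn, hT1, hTmin, -⟩ :=
    exists_unique_minimal_normal p hOpN hOpN' Q₀ (hSyl Q₀).1 (hSyl Q₀).2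
  -- `T` is characteristic in `N`
  have hTchar : T.Characteristic := by
    rw [Subgroup.characteristic_iff_le_map]
    intro ϕ
    apply hTmin _ (hTn.map _ ϕ.surjective)
    rw [Ne, Subgroup.map_eq_bot_iff_of_injective _ ϕ.injective]
    exact hT1
  have hTH : (T.map N.subtype).Normal := ConjAct.normal_of_characteristic_of_normal
  have hTH1 : T.map N.subtype ≠ ⊥ := by
    rw [Ne, Subgroup.map_eq_bot_iff_of_injective _ N.subtype_injective]
    exact hT1
  have hTtop : T = ⊤ := by
    rw [eq_top_iff]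
    intro n _
    obtain ⟨t, ht, hte⟩ := hNmin _ hTH hTH1 n.2
    have : t = n := Subtype.ext hte
    rwa [← this]
  have hNnt : Nontrivial N := (Subgroup.nontrivial_iff_ne_bot N).mpr hN1
  have hsimple : IsSimpleGroup N := by
    refine { toNontrivial := hNnt, eq_bot_or_eq_top_of_normal := ?_ }
    intro K hK
    by_cases hK1 : K = ⊥
    · exact Or.inl hK1
    · right
      rw [eq_top_iff, ← hTtop]
      exact hTmin K hK hK1
  refine ⟨N, hNn, hN1, hNmin, hsimple, ?_, hNC, fun Q => ⟨(hSyl Q).1, (hSyl Q).2⟩⟩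
  intro hcomm
  apply hN1
  rw [eq_bot_iff, ← hNC]
  exact Subgroup.le_centralizer_iff_isMulCommutative.mpr hcomm

end Cfsg.Agent.S4620
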