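import Cfsg.Statements.S4625
import Cfsg.Agent.Lib.Helper68_EA2
import Cfsg.Agent.Lib.Helper71_EA2_PSL
import Cfsg.Agent.Lib.Helper63_EA2_PSP
import Cfsg.Agent.Lib.Helper36_EA2_CHEV
import Cfsg.Agent.Lib.Helper36_EA2_SZ
import Cfsg.Agent.Lib.Helper36_EA2_TD4
import Cfsg.Agent.Lib.Helper36_EA2_TE6
import Cfsg.Agent.Lib.Helper18_EA2_TF4
import Cfsg.Agent.Lib.Helper27_EA2_SU
import Cfsg.Agent.Lib.Helper27_EA2_OP
import Cfsg.Agent.Lib.Helper22_EA2_POM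

set_option autoImplicit false
open Cfsg

namespace Cfsg.Agent.S4625

open Cfsg.Agent.Lib.Helper68_EA2

theorem ea2_of_isLieTypeChar {G : Type*} [Group G] [Finite G] (hG : Cfsg.IsLieTypeChar 2 G) : EA2 G := by
  rcases hG with h | h | h | h | h | h | h | h | h | h | h
  · obtain ⟨F, _, _, _, n, hn, -, ⟨e⟩⟩ := h
    exact ea2_of_equiv e (Cfsg.Agent.Lib.Helper71_EA2_PSL.ea2_psl n hn)
  · obtain ⟨F, _, _, _, m, hm, -, ⟨e⟩⟩ := h
    exact ea2_of_equiv e (Cfsg.Agent.Lib.Helper63_EA2_PSP.ea2_psp m hm)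
  · obtain ⟨F, _, _, _, n, q, hF, hn, -, ⟨e⟩⟩ := h
    exact ea2_of_equiv e (Cfsg.Agent.Lib.Helper27_EA2SU.ea2_psu n q hF hn)
  · obtain ⟨F, _, _, _, m, -, hodd, -⟩ := h
    exfalso
    have h2 : (2 : F) = 0 := by
      have := CharP.cast_eq_zero F 2
      exact_mod_cast this
    have hc : ringChar F = 2 := CharP.ringChar_of_prime_eq_zero Nat.prime_two h2
    have heven := FiniteField.even_card_of_char_two hc
    exact (Nat.not_even_iff_odd.mpr hodd) (Nat.even_iff.mpr heven)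
  · obtain ⟨F, _, _, _, m, hm, ⟨e⟩⟩ := h
    exact ea2_of_equiv e (Cfsg.Agent.Lib.Helper27_EA2OP.ea2_pomega_plus m hm)
  · obtain ⟨F, _, _, _, m, a, b, hm, hab, ⟨e⟩⟩ := h
    exact ea2_of_equiv e (Cfsg.Agent.Lib.Helper22_EA2_POM.ea2_pomega_minus m a b hm hab)
  · obtain ⟨F, _, _, _, h⟩ := h
    rcases h with ⟨-, ⟨e⟩⟩ | ⟨⟨e⟩⟩ | ⟨⟨e⟩⟩ | ⟨⟨e⟩⟩ | ⟨⟨e⟩⟩
    · exact ea2_of_equiv e (Cfsg.Agent.Lib.Helper36_EA2_CHEV.ea2_chev _ (by simp))
    · exact ea2_of_equiv e (Cfsg.Agent.Lib.Helper36_EA2_CHEV.ea2_chev _ (by simp))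
    · exact ea2_of_equiv e (Cfsg.Agent.Lib.Helper36_EA2_CHEV.ea2_chev _ (by simp))
    · exact ea2_of_equiv e (Cfsg.Agent.Lib.Helper36_EA2_CHEV.ea2_chev _ (by simp))
    · exact ea2_of_equiv e (Cfsg.Agent.Lib.Helper36_EA2_CHEV.ea2_chev _ (by simp))
  · obtain ⟨K, _, _, _, q, hq, h⟩ := h
    rcases h with ⟨hK, ⟨e⟩⟩ | ⟨hK, ⟨e⟩⟩
    · exact ea2_of_equiv e (Cfsg.Agent.Lib.Helper36_EA2_TE6.ea2_twistedE6 q hq hK)
    · exact ea2_of_equiv e (Cfsg.Agent.Lib.Helper36_EA2_TD4.ea2_twistedD4 q hq hK)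
  · obtain ⟨-, F, _, _, m, hm, hF, ⟨e⟩⟩ := h
    exact ea2_of_equiv e (Cfsg.Agent.Lib.Helper36_EA2_SZ.ea2_suzuki m hm hF)
  · obtain ⟨-, K, _, _, m, hm, hK, ⟨e⟩⟩ := h
    exact ea2_of_equiv e (Cfsg.Agent.Lib.Helper18_EA2_TF4.ea2_twistedF4 m hm hK)
  · exact absurd h.1 (by norm_num)

/-- Let G be a finite simple group of Lie type in characteristic 2, not counting the Tits group ²F₄(2)′. Then a Sylow 2-subgroup P of G has P/P' elementary abelian: the square of every element of P lies in the derived subgroup of P. -/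
theorem result {G : Type*} [Group G] [Finite G] [IsSimpleGroup G] (hG : Cfsg.IsLieTypeChar 2 G) (P : Sylow 2 G) :
    ∀ x : (P : Subgroup G), x ^ 2 ∈ commutator (P : Subgroup G) :=
  ea2_of_isLieTypeChar hG P

end Cfsg.Agent.S4625
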