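import Mathlib
import Cfsg.Statements.S4626
import Cfsg.Agent.Lib.Helper50_Basic
import Cfsg.Agent.Lib.Helper16_Quot
import Cfsg.Agent.Lib.Helper3_CharEigen
import Cfsg.Agent.Lib.Helper77_CentralInt
import Cfsg.Agent.Lib.Helper78_LocalRing

set_option autoImplicit false
open Cfsg

namespace Cfsg.Agent.S4626

open Cfsg.Agent.Lib.Helper50_Basic

/-- For `g ∉ N`, the class size of `g` in `G` is the class size of its image in `G ⧸ N` times a
multiple of `p`. -/
theorem index_centralizer_eq {G : Type*} [Group G] [Finite G] (p : ℕ) [Fact p.Prime]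
    (P : Sylow p G) (N : Subgroup G) [N.Normal] (hidx : ¬ p ∣ N.index)
    (hC : Subgroup.centralizer ((P : Subgroup G) : Set G) ≤ N) (g : G) (hg : g ∉ N) :
    ∃ r : ℕ, (Subgroup.centralizer ({g} : Set G)).index =
      p * r * (Subgroup.centralizer ({(QuotientGroup.mk g : G ⧸ N)} : Set (G ⧸ N))).index := by
  set C := Subgroup.centralizer ({g} : Set G) with hCdef
  set Cbar := Subgroup.centralizer ({(QuotientGroup.mk g : G ⧸ N)} : Set (G ⧸ N)) with hCbar
  set Cs := Cbar.comap (QuotientGroup.mk' N) with hCs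
  have hCle : C ≤ Cs := by
    intro x hx
    rw [hCs, Subgroup.mem_comap, hCbar, Subgroup.mem_centralizer_iff]
    intro y hy
    rw [Set.mem_singleton_iff] at hy
    subst hy
    have := (Subgroup.mem_centralizer_iff.mp hx) g (Set.mem_singleton g)
    change (QuotientGroup.mk g : G ⧸ N) * QuotientGroup.mk x = QuotientGroup.mk x * QuotientGroup.mk g
    rw [← QuotientGroup.mk_mul, ← QuotientGroup.mk_mul, this]
  have hNle : N ≤ Cs := by
    intro x hx
    rw [hCs, Subgroup.mem_comap]
    have : (QuotientGroup.mk' N) x = 1 := (QuotientGroup.eq_one_iff x).mpr hx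
    rw [this]; exact one_mem _
  have hidxCs : Cs.index = Cbar.index :=
    Subgroup.index_comap_of_surjective Cbar (QuotientGroup.mk'_surjective N)
  have hmul : C.relIndex Cs * Cs.index = C.index := Subgroup.relIndex_mul_index hCle
  have hpCs : ¬ p ∣ Cs.index := fun h => hidx (h.trans (Subgroup.index_dvd_of_le hNle))
  have hpr : p ∣ C.relIndex Cs := by
    by_contra hnd
    apply hg
    have hpC : ¬ p ∣ C.index := by
      rw [← hmul]; exact (Fact.out : p.Prime).not_dvd_mul hnd hpCs
    obtain ⟨S⟩ : Nonempty (Sylow p C) := inferInstance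
    have hS'p : IsPGroup p ((S : Subgroup C).map C.subtype) := S.isPGroup'.map _
    have hS'idx : ¬ p ∣ ((S : Subgroup C).map C.subtype).relIndex ⊤ := by
      rw [Subgroup.relIndex_top_right, Subgroup.index_map_subtype]
      exact (Fact.out : p.Prime).not_dvd_mul S.not_dvd_index hpC
    obtain ⟨r, -, hr⟩ := sylow_conj_in_subgroup hS'p hS'idx P.isPGroup' (le_top : (P : Subgroup G) ≤ ⊤)
    have hcent : r * g * r⁻¹ ∈ Subgroup.centralizer ((P : Subgroup G) : Set G) := by
      rw [Subgroup.mem_centralizer_iff]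
      intro x hx
      obtain ⟨s, hs, hse⟩ := hr hx
      obtain ⟨c, -, rfl⟩ := hs
      simp only [MulEquiv.coe_toMonoidHom, MulAut.conj_apply, Subgroup.coe_subtype] at hse
      have hc : (c : G) * g = g * (c : G) :=
        (Subgroup.mem_centralizer_iff.mp c.2) g (Set.mem_singleton g) |>.symm
      rw [← hse]
      calc r * (c : G) * r⁻¹ * (r * g * r⁻¹) = r * ((c : G) * g) * r⁻¹ := by group
        _ = r * (g * (c : G)) * r⁻¹ := by rw [hc]
        _ = r * g * r⁻¹ * (r * (c : G) * r⁻¹) := by group
    have hN := hC hcent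
    have := (inferInstance : N.Normal).conj_mem _ hN r⁻¹
    simpa [mul_assoc] using this
  obtain ⟨r, hr⟩ := hpr
  exact ⟨r, by rw [← hmul, hr, hidxCs]⟩


open Cfsg.Agent.Lib.Helper16_Quot Cfsg.Agent.Lib.Helper3_CharEigen Cfsg.Agent.Lib.Helper77_CentralInt
  Cfsg.Agent.Lib.Helper78_LocalRing

/-- Let G be a finite group, p a prime, M a maximal ideal of the algebraic integers containing p, P a Sylow p-subgroup of G and N a normal subgroup of index prime to p containing the centralizer C_G(P). Then every irreducible character of G whose kernel contains N lies in the principal p-block of G. -/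
theorem result {G : Type*} [Group G] [Finite G] (p : ℕ) [Fact p.Prime] (M : Ideal Cfsg.AlgInt) (hM : Cfsg.IsPModular p M) (P : Sylow p G) (N : Subgroup G) [N.Normal] (hidx : ¬ p ∣ N.index)
    (hC : Subgroup.centralizer ((P : Subgroup G) : Set G) ≤ N) (χ : Cfsg.IrrCharacter G) (hker : ∀ n ∈ N, (χ : G → ℂ) n = (χ : G → ℂ) 1) :
    χ ∈ Cfsg.principalBlock M G := by
  classical
  have hMp : M.IsPrime := isPrime_of_isPModular hM
  obtain ⟨n, ρ, hρ, hχ⟩ := χ.2
  have := Fintype.ofFinite G
  have hd : (Module.finrank ℂ (Fin n → ℂ) : ℂ) ≠ 0 :=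
    Cfsg.Agent.Lib.Helper79_ClassAlgebra.finrank_ne_zero_of_irreducible ρ
  -- `N` acts trivially
  have htriv : Representation.IsTrivial (ρ.comp N.subtype) := by
    refine ⟨fun m => ?_⟩
    have h1 := hker m m.2
    rw [← hχ, Representation.char_one] at h1
    exact (char_eq_finrank_iff ρ (m : G)).mp h1
  have hirr' : (Representation.ofQuotient ρ N).IsIrreducible := ofQuotient_irreducible ρ N
  change Cfsg.SameBlock M (fun _ : G => (1 : ℂ)) (χ : G → ℂ)
  intro g
  rw [← hχ]
  unfold Cfsg.centralChar
  rw [Representation.char_one]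
  by_cases hg : g ∈ N
  · have h1 := hker g hg
    rw [← hχ, Representation.char_one] at h1
    rw [h1]
    have : ((Subgroup.centralizer ({g} : Set G)).index : ℂ) * 1 / 1 -
        ((Subgroup.centralizer ({g} : Set G)).index : ℂ) * (Module.finrank ℂ (Fin n → ℂ) : ℂ) /
          (Module.finrank ℂ (Fin n → ℂ) : ℂ) = 0 := by
      field_simp; ring
    rw [this]
    exact memLocalIdeal_zero hMp
  · obtain ⟨r, hr⟩ := index_centralizer_eq p P N hidx hC g hg
    have hint := isIntegral_centralValue (Representation.ofQuotient ρ N) (QuotientGroup.mk g : G ⧸ N)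
    rw [ofQuotient_character] at hint
    set ibar := (Subgroup.centralizer ({(QuotientGroup.mk g : G ⧸ N)} : Set (G ⧸ N))).index with hibar
    -- the algebraic integer `ibar - ω̄`
    let w : AlgInt := ⟨(ibar : ℂ) - (ibar : ℂ) * ρ.character g / (Module.finrank ℂ (Fin n → ℂ) : ℂ),
      IsIntegral.sub (isIntegral_natCast _) hint⟩
    have hmem : (p : AlgInt) * (r : AlgInt) * w ∈ M :=
      M.mul_mem_right _ (M.mul_mem_right _ hM.2.2)
    have := memLocalIdeal_of_mem hMp hmem
    convert this using 1
    rw [hr]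
    push_cast
    ring

end Cfsg.Agent.S4626
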