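import Cfsg.Statements.S4629
import Cfsg.Agent.Lib.Helper67_OrthFinal
import Cfsg.Agent.S0286
import Cfsg.Agent.S0790

set_option autoImplicit false
open Cfsg

namespace Cfsg.Agent.S4629

open Cfsg.Agent.Lib.Helper44_StdForms Cfsg.Agent.Lib.Helper67_OrthFinal
  Cfsg.Agent.Lib.Helper67_SpSylow Cfsg.Agent.Lib.Helper67_OrthPlane

theorem nondeg_odd {F : Type*} [Field F] (h2 : (2 : F) ≠ 0) (m : ℕ) :
    (QuadraticMap.polarBilin (qfOdd m F)).Nondegenerate := by
  apply Cfsg.Agent.S0790.nondeg_of_gram_det_ne_zero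
  rw [coe_qfOdd, det_gram_quadFormOdd]
  exact mul_ne_zero h2 (pow_ne_zero _ (by simp))

/-- the statement for an arbitrary function equal to the bundled form -/
theorem key {F : Type*} [Field F] [Fintype F] (hF : Odd (Fintype.card F)) (m : ℕ) (hm : 3 ≤ m)
    (Q' : (Unit ⊕ (Fin m ⊕ Fin m) → F) → F) (hQ' : Q' = ⇑(qfOdd m F))
    (hcardO : Nat.card (Cfsg.isometryGroup F Q') = 2 * Fintype.card F ^ (m ^ 2) *
      ∏ i ∈ Finset.range m, (Fintype.card F ^ (2 * (i + 1)) - 1))
    (P : Sylow 2 (Cfsg.Omega F Q')) :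
    ∀ x : (P : Subgroup (Cfsg.Omega F Q')), x ^ 2 ∈ commutator (P : Subgroup (Cfsg.Omega F Q')) := by
  subst hQ'
  have h2 : (2 : F) ≠ 0 := Cfsg.Agent.Lib.Helper67_GL2Normal.two_ne_zero_of_odd hF
  have h3 := three_le_card hF
  apply eSub_sylow_omega_odd_dim hF (qfOdd m F) (nondeg_odd h2 m) m (by omega)
  · simp
    omega
  · rw [hcardO, mul_assoc, val_two_mul, val_card_sp _ hF h3]
    · unfold tExp
      omega
    · apply mul_ne_zero
      · exact pow_ne_zero _ (by omega)
      · apply Finset.prod_ne_zero_iff.mpr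
        intro i _
        have : 1 < Fintype.card F ^ (2 * (i + 1)) := Nat.one_lt_pow (by omega) (by omega)
        omega

/-- Let F be a finite field of odd order and m ≥ 3. For the commutator subgroup Ω of the isometry group of the non-singular quadratic form x₀² + Σ x_i y_i in dimension 2m + 1 over F, a Sylow 2-subgroup P of Ω has P/P' elementary abelian: the square of every element of P lies in the derived subgroup of P. -/
theorem result {F : Type*} [Field F] [Fintype F] (hF : Odd (Fintype.card F)) (m : ℕ) (hm : 3 ≤ m) (P : Sylow 2 (Cfsg.Omega F (Cfsg.quadFormOdd m F))) : ∀ x : (P : Subgroup (Cfsg.Omega F (Cfsg.quadFormOdd m F))), x ^ 2 ∈ commutator (P : Subgroup (Cfsg.Omega F (Cfsg.quadFormOdd m F))) :=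
  key hF m hm (Cfsg.quadFormOdd m F) (coe_qfOdd m F).symm (Cfsg.Agent.S0286.result rfl hF m) P

end Cfsg.Agent.S4629
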