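import Cfsg.Statements.S4630
import Cfsg.Agent.Lib.Helper67_OrthEven
import Cfsg.Agent.S0287
import Cfsg.Agent.S0790

set_option autoImplicit false
open Cfsg

namespace Cfsg.Agent.S4630

open Cfsg.Agent.Lib.Helper44_StdForms Cfsg.Agent.Lib.Helper67_OrthFinal
  Cfsg.Agent.Lib.Helper67_OrthEven Cfsg.Agent.Lib.Helper14_NegOne
  Cfsg.Agent.Lib.Helper67_SpSylow Cfsg.Agent.Lib.Helper67_OrthPlane

theorem nondeg_plus {F : Type*} [Field F] (m : ℕ) :
    (QuadraticMap.polarBilin (qfPlus m F)).Nondegenerate := by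
  apply Cfsg.Agent.S0790.nondeg_of_gram_det_ne_zero
  rw [coe_qfPlus, det_gram_quadFormPlus]
  exact pow_ne_zero _ (by simp)

theorem sq_mod_four (a : ℕ) (ha : Odd a) : a * a % 4 = 1 := by
  obtain ⟨r, rfl⟩ := ha
  have : (2 * r + 1) * (2 * r + 1) = 4 * (r * r + r) + 1 := by ring
  rw [this]
  omega

/-- the statement for an arbitrary function equal to the bundled form -/
theorem key {F : Type*} [Field F] [Fintype F] (hF : Odd (Fintype.card F)) (m : ℕ) (hm : 1 ≤ m)
    (hm' : Even m ∨ 4 ≤ m)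
    (Q' : (Fin m ⊕ Fin m → F) → F) (hQ' : Q' = ⇑(qfPlus m F))
    (hcardO : Nat.card (Cfsg.isometryGroup F Q') = 2 * Fintype.card F ^ (m * (m - 1)) *
      (Fintype.card F ^ m - 1) * ∏ i ∈ Finset.range (m - 1), (Fintype.card F ^ (2 * (i + 1)) - 1))
    (hneg : (∃ g : ↥(Cfsg.isometryGroup F Q'), g ∈ Cfsg.Omega F Q' ∧
      ((g : Matrix.GeneralLinearGroup (Fin m ⊕ Fin m) F) :
        Matrix (Fin m ⊕ Fin m) (Fin m ⊕ Fin m) F) = -1) ↔ Fintype.card F ^ m % 4 = 1)
    (P : Sylow 2 (Cfsg.Omega F Q')) :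
    ∀ x : (P : Subgroup (Cfsg.Omega F Q')), x ^ 2 ∈ commutator (P : Subgroup (Cfsg.Omega F Q')) := by
  subst hQ'
  have h2 : (2 : F) ≠ 0 := Cfsg.Agent.Lib.Helper67_GL2Normal.two_ne_zero_of_odd hF
  have h3 := three_le_card hF
  set q := Fintype.card F with hq
  have hm2 : 2 ≤ m := by
    rcases hm' with ⟨r, hr⟩ | h
    · omega
    · omega
  have hqm1 : 1 < q ^ m := Nat.one_lt_pow (by omega) (by omega)
  have hqmodd : Odd (q ^ m) := hF.pow
  have hheven : Even (Fintype.card (Fin m ⊕ Fin m)) := by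
    rw [Fintype.card_sum, Fintype.card_fin]; exact ⟨m, rfl⟩
  have hQ := nondeg_plus (F := F) m
  have hval := val_card_orth q hF h3 (m * (m - 1)) (m - 1) (q ^ m - 1) (by omega)
  apply eSub_sylow_omega_even_dim hF (qfPlus m F) hQ m hm2
  · simp
  · rw [hcardO, hval]
    obtain ⟨j, rfl⟩ : ∃ j, m = j + 1 := ⟨m - 1, by omega⟩
    have hsum := val_pow_sub_add q hF h3 (j + 1) (by omega)
    have hfac := val_factorial_succ j
    have hev : 1 ≤ (q ^ (j + 1) + 1).factorization 2 :=
      one_le_val_of_even _ (by omega) (by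
        rcases hqmodd with ⟨r, hr⟩
        exact ⟨r + 1, by omega⟩)
    have hmul : (j + 1) * tExp F = j * tExp F + tExp F := by ring
    rw [hmul, hfac]
    simp only [Nat.add_sub_cancel]
    unfold tExp
    rw [← hq]
    omega
  · intro hnegOne
    have hne1 : q ^ m % 4 ≠ 1 := by
      intro h
      apply hnegOne
      rw [negOne_mem_omega_iff h2 _ hQ hheven, ← exists_neg_one_mem_omega_iff h2 _ hQ hheven]
      exact hneg.mpr h
    have h43 : q ^ m % 4 = 3 := by
      rcases hqmodd with ⟨r, hr⟩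
      omega
    have hm4 : 4 ≤ m := by
      rcases hm' with ⟨r, hr⟩ | h
      · exfalso
        rw [hr, pow_add] at h43
        have := sq_mod_four (q ^ r) hF.pow
        omega
      · exact h
    refine ⟨by omega, ?_⟩
    rw [hcardO, hval]
    have hv1 : (q ^ m - 1).factorization 2 = 1 :=
      Cfsg.Agent.Lib.Helper67_GLSylow.val_sub_one_of_four_dvd (q ^ m) (by omega)
    rw [hv1]
    unfold tExp
    rw [← hq]
    omega

/-- Let F be a finite field of odd order and m ≥ 1 with m even or m ≥ 4. For the commutator subgroup Ω of the isometry group of the plus-type quadratic form Σ_{i<m} x_i y_i in dimension 2m over F, a Sylow 2-subgroup P of Ω has P/P' elementary abelian: the square of every element of P lies in the derived subgroup of P. -/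
theorem result {F : Type*} [Field F] [Fintype F] (hF : Odd (Fintype.card F)) (m : ℕ) (hm : 1 ≤ m) (hm' : Even m ∨ 4 ≤ m) (P : Sylow 2 (Cfsg.Omega F (Cfsg.quadFormPlus m F))) : ∀ x : (P : Subgroup (Cfsg.Omega F (Cfsg.quadFormPlus m F))), x ^ 2 ∈ commutator (P : Subgroup (Cfsg.Omega F (Cfsg.quadFormPlus m F))) :=
  key hF m hm hm' (Cfsg.quadFormPlus m F) (coe_qfPlus m F).symm
    (Cfsg.Agent.S0287.result rfl m hm) (Cfsg.Agent.S0790.result rfl hF m hm) P

end Cfsg.Agent.S4630
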