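import Cfsg.Statements.S4631
import Cfsg.Agent.Lib.Helper67_OrthEven
import Cfsg.Agent.S0288
import Cfsg.Agent.S0790
import Cfsg.Agent.S0791

set_option autoImplicit false
open Cfsg

namespace Cfsg.Agent.S4631

open Cfsg.Agent.Lib.Helper44_StdForms Cfsg.Agent.Lib.Helper67_OrthFinal
  Cfsg.Agent.Lib.Helper67_OrthEven Cfsg.Agent.Lib.Helper14_NegOne
  Cfsg.Agent.Lib.Helper67_SpSylow Cfsg.Agent.Lib.Helper67_OrthPlane

theorem nondeg_minus {F : Type*} [Field F] (h2 : (2 : F) ≠ 0) (n : ℕ) (a b : F)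
    (hab : ∀ z₁ z₂ : F, z₁ ^ 2 + a * z₁ * z₂ + b * z₂ ^ 2 = 0 → z₁ = 0 ∧ z₂ = 0) :
    (QuadraticMap.polarBilin (qfMinus n F a b)).Nondegenerate := by
  apply Cfsg.Agent.S0790.nondeg_of_gram_det_ne_zero
  rw [coe_qfMinus, det_gram_quadFormMinus]
  have hdisc : (4 * b - a ^ 2) ≠ 0 := by
    intro h0
    have := hab (-a) 2 (by linear_combination h0)
    exact h2 this.2
  exact mul_ne_zero (pow_ne_zero _ (by simp)) hdisc

/-- the statement for an arbitrary function equal to the bundled form -/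
theorem key {F : Type*} [Field F] [Fintype F] (hF : Odd (Fintype.card F)) (m : ℕ) (hm : 4 ≤ m)
    (a b : F) (hab : ∀ z₁ z₂ : F, z₁ ^ 2 + a * z₁ * z₂ + b * z₂ ^ 2 = 0 → z₁ = 0 ∧ z₂ = 0)
    (Q' : ((Fin (m - 1) ⊕ Fin (m - 1)) ⊕ Fin 2 → F) → F) (hQ' : Q' = ⇑(qfMinus (m - 1) F a b))
    (hcardO : Nat.card (Cfsg.isometryGroup F Q') = 2 * Fintype.card F ^ (m * (m - 1)) *
      (Fintype.card F ^ m + 1) * ∏ i ∈ Finset.range (m - 1), (Fintype.card F ^ (2 * (i + 1)) - 1))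
    (hneg : (∃ g : ↥(Cfsg.isometryGroup F Q'), g ∈ Cfsg.Omega F Q' ∧
      ((g : Matrix.GeneralLinearGroup ((Fin (m - 1) ⊕ Fin (m - 1)) ⊕ Fin 2) F) :
        Matrix ((Fin (m - 1) ⊕ Fin (m - 1)) ⊕ Fin 2) ((Fin (m - 1) ⊕ Fin (m - 1)) ⊕ Fin 2) F) = -1) ↔
          Fintype.card F ^ m % 4 = 3)
    (P : Sylow 2 (Cfsg.Omega F Q')) :
    ∀ x : (P : Subgroup (Cfsg.Omega F Q')), x ^ 2 ∈ commutator (P : Subgroup (Cfsg.Omega F Q')) := by
  subst hQ'
  have h2 : (2 : F) ≠ 0 := Cfsg.Agent.Lib.Helper67_GL2Normal.two_ne_zero_of_odd hF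
  have h3 := three_le_card hF
  set q := Fintype.card F with hq
  have hqm1 : 1 < q ^ m := Nat.one_lt_pow (by omega) (by omega)
  have hqmodd : Odd (q ^ m) := hF.pow
  have hheven : Even (Fintype.card ((Fin (m - 1) ⊕ Fin (m - 1)) ⊕ Fin 2)) := by
    simp only [Fintype.card_sum, Fintype.card_fin]
    exact ⟨m - 1 + 1, by ring⟩
  have hQ := nondeg_minus h2 (m - 1) a b hab
  have hval := val_card_orth q hF h3 (m * (m - 1)) (m - 1) (q ^ m + 1) (by omega)
  apply eSub_sylow_omega_even_dim hF (qfMinus (m - 1) F a b) hQ m (by omega)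
  · simp
    omega
  · rw [hcardO, hval]
    obtain ⟨j, rfl⟩ : ∃ j, m = j + 1 := ⟨m - 1, by omega⟩
    have hsum := val_pow_sub_add q hF h3 (j + 1) (by omega)
    have hfac := val_factorial_succ j
    have hev : 1 ≤ (q ^ (j + 1) - 1).factorization 2 :=
      one_le_val_of_even _ (by omega) (by
        rcases hqmodd with ⟨r, hr⟩
        exact ⟨r, by omega⟩)
    have hmul : (j + 1) * tExp F = j * tExp F + tExp F := by ring
    rw [hmul, hfac]
    simp only [Nat.add_sub_cancel]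
    unfold tExp
    rw [← hq]
    omega
  · intro hnegOne
    have hne3 : q ^ m % 4 ≠ 3 := by
      intro h
      apply hnegOne
      rw [negOne_mem_omega_iff h2 _ hQ hheven, ← exists_neg_one_mem_omega_iff h2 _ hQ hheven]
      exact hneg.mpr h
    have h41 : q ^ m % 4 = 1 := by
      rcases hqmodd with ⟨r, hr⟩
      omega
    refine ⟨by omega, ?_⟩
    rw [hcardO, hval]
    have hv1 : (q ^ m + 1).factorization 2 = 1 :=
      Cfsg.Agent.Lib.Helper67_GLNormalRank.val_add_one_of_four_dvd (q ^ m) (by omega) (by omega)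
    rw [hv1]
    unfold tExp
    rw [← hq]
    omega

/-- Let F be a finite field of odd order, m ≥ 4, and a, b ∈ F with z₁² + a z₁ z₂ + b z₂² anisotropic. For the commutator subgroup Ω of the isometry group of the minus-type quadratic form Σ_{i<m−1} x_i y_i + (z₁² + a z₁ z₂ + b z₂²) in dimension 2m over F, a Sylow 2-subgroup P of Ω has P/P' elementary abelian: the square of every element of P lies in the derived subgroup of P. -/
theorem result {F : Type*} [Field F] [Fintype F] (hF : Odd (Fintype.card F)) (m : ℕ) (hm : 4 ≤ m) (a b : F) (hab : ∀ z₁ z₂ : F, z₁ ^ 2 + a * z₁ * z₂ + b * z₂ ^ 2 = 0 → z₁ = 0 ∧ z₂ = 0) (P : Sylow 2 (Cfsg.Omega F (Cfsg.quadFormMinus (m - 1) F a b))) : ∀ x : (P : Subgroup (Cfsg.Omega F (Cfsg.quadFormMinus (m - 1) F a b))), x ^ 2 ∈ commutator (P : Subgroup (Cfsg.Omega F (Cfsg.quadFormMinus (m - 1) F a b))) :=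
  key hF m hm a b hab (Cfsg.quadFormMinus (m - 1) F a b) (coe_qfMinus (m - 1) F a b).symm
    (Cfsg.Agent.S0288.result rfl m (by omega) a b hab)
    (Cfsg.Agent.S0791.result rfl hF m (by omega) a b hab) P

end Cfsg.Agent.S4631
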