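import Cfsg.Statements.S4636

set_option autoImplicit false
open scoped Pointwise
open Cfsg

namespace Cfsg.Agent.S4636

/-- In a finite cyclic group, two subgroups of the same order coincide. -/
theorem cyclic_subgroup_unique {α : Type*} [Group α] [Finite α] [IsCyclic α] (n : ℕ)
    (H₁ H₂ : Subgroup α) (h₁ : Nat.card H₁ = n) (h₂ : Nat.card H₂ = n) : H₁ = H₂ := by
  classical
  have := Fintype.ofFinite α
  have hn0 : 0 < n := by
    rw [← h₁]; exact Nat.card_pos
  have key : ∀ H : Subgroup α, Nat.card H = n →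
      (H : Set α).toFinset = (Finset.univ.filter fun a : α => a ^ n = 1) := by
    intro H hH
    apply Finset.eq_of_subset_of_card_le
    · intro a ha
      simp only [Set.mem_toFinset, SetLike.mem_coe] at ha
      simp only [Finset.mem_filter, Finset.mem_univ, true_and]
      have : (⟨a, ha⟩ : H) ^ n = 1 := by
        rw [← hH]; exact pow_card_eq_one'
      simpa using congrArg Subtype.val this
    · calc (Finset.univ.filter fun a : α => a ^ n = 1).card ≤ n :=
            IsCyclic.card_pow_eq_one_le hn0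
        _ = Nat.card H := hH.symm
        _ = (H : Set α).toFinset.card := by
            rw [Set.toFinset_card, Nat.card_eq_fintype_card]; rfl
  have := (key H₁ h₁).trans (key H₂ h₂).symm
  apply SetLike.coe_injective
  exact Set.toFinset_inj.mp this

/-- Two subgroups of the same order inside a finite cyclic subgroup coincide. -/
theorem unique_in_cyclic {G : Type*} [Group G] (P : Subgroup G) [Finite P] (hcyc : IsCyclic P)
    (n : ℕ) (Z Z' : Subgroup G) (hZ : Z ≤ P) (hZ' : Z' ≤ P) (hc : Nat.card Z = n)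
    (hc' : Nat.card Z' = n) : Z = Z' := by
  have e1 : Nat.card (Z.subgroupOf P) = n := by
    rw [← hc]; exact Nat.card_congr (Subgroup.subgroupOfEquivOfLe hZ).toEquiv
  have e2 : Nat.card (Z'.subgroupOf P) = n := by
    rw [← hc']; exact Nat.card_congr (Subgroup.subgroupOfEquivOfLe hZ').toEquiv
  have := cyclic_subgroup_unique n _ _ e1 e2
  rw [Subgroup.subgroupOf_inj, inf_of_le_left hZ, inf_of_le_left hZ'] at this
  exact this

/-- A nontrivial `p`-subgroup of a cyclic subgroup contains the subgroup of order `p`. -/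
theorem le_of_nontrivial {G : Type*} [Group G] [Finite G] (p : ℕ) [Fact p.Prime]
    (P : Subgroup G) (hP : IsPGroup p P) (hcyc : IsCyclic P) (Z : Subgroup G) (hZ : Z ≤ P)
    (hZcard : Nat.card Z = p) (Q : Subgroup G) (hQ : Q ≤ P) (hQ1 : Q ≠ ⊥) : Z ≤ Q := by
  have hQp : IsPGroup p Q := hP.to_le hQ
  have hnt : Nontrivial Q := (Subgroup.nontrivial_iff_ne_bot Q).mpr hQ1
  obtain ⟨k, hk0, hk⟩ := hQp.nontrivial_iff_card.mp hnt
  have hdvd : p ∣ Nat.card Q := by rw [hk]; exact dvd_pow_self p hk0.ne'
  obtain ⟨x, hx⟩ := exists_prime_orderOf_dvd_card' p hdvd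
  have hx' : orderOf (x : G) = p := by rw [Subgroup.orderOf_coe]; exact hx
  have hzle : Subgroup.zpowers (x : G) ≤ Q := by
    rw [Subgroup.zpowers_le]; exact x.2
  have : Z = Subgroup.zpowers (x : G) :=
    unique_in_cyclic P hcyc p Z _ hZ (hzle.trans hQ) hZcard (by rw [Nat.card_zpowers, hx'])
  rw [this]; exact hzle

theorem mem_normalizer_of_smul_eq {G : Type*} [Group G] (Z : Subgroup G) (g : G)
    (h : MulAut.conj g • Z = Z) : g ∈ Subgroup.normalizer (Z : Set G) := by
  rw [Subgroup.mem_normalizer_iff]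
  intro x
  conv_rhs => rw [← h]
  rw [← MulAut.conj_apply, ← MulAut.smul_def, Subgroup.smul_mem_pointwise_smul_iff]

theorem card_smul_eq {G : Type*} [Group G] (Z : Subgroup G) (g : G) :
    Nat.card (MulAut.conj g • Z : Subgroup G) = Nat.card Z :=
  (Nat.card_congr (Subgroup.equivSMul (MulAut.conj g) Z).toEquiv).symm

/-- Let P be a nontrivial cyclic p-subgroup of the finite group G and Z its subgroup of order p. For every x outside N_G(Z), P meets its conjugate xPx⁻¹ trivially; consequently N_G(Q) ≤ N_G(Z) for every nontrivial subgroup Q of P. -/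
theorem result {G : Type*} [Group G] [Finite G] (p : ℕ) [Fact p.Prime] (P : Subgroup G) (hP : IsPGroup p P) (hP1 : P ≠ ⊥) (hcyc : IsCyclic P) (Z : Subgroup G) (hZ : Z ≤ P) (hZcard : Nat.card Z = p) : (∀ x : G, x ∉ Subgroup.normalizer (Z : Set G) → P ⊓ MulAut.conj x • P = ⊥) ∧ ∀ Q : Subgroup G, Q ≤ P → Q ≠ ⊥ → Subgroup.normalizer (Q : Set G) ≤ Subgroup.normalizer (Z : Set G) := by
  constructor
  · intro x hx
    by_contra hne
    apply hx
    have h1 : Z ≤ P ⊓ MulAut.conj x • P :=
      le_of_nontrivial p P hP hcyc Z hZ hZcard _ inf_le_left hne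
    have h2 : Z ≤ MulAut.conj x • P := h1.trans inf_le_right
    have h3 : MulAut.conj x • Z ≤ MulAut.conj x • P := Subgroup.pointwise_smul_le_pointwise_smul_iff.mpr hZ
    have hcyc' : IsCyclic (MulAut.conj x • P : Subgroup G) :=
      (Subgroup.equivSMul (MulAut.conj x) P).isCyclic.mp hcyc
    apply mem_normalizer_of_smul_eq
    exact unique_in_cyclic (MulAut.conj x • P) hcyc' p _ _ h3 h2 ((card_smul_eq Z x).trans hZcard) hZcard
  · intro Q hQ hQ1 g hg
    have h1 : Z ≤ Q := le_of_nontrivial p P hP hcyc Z hZ hZcard Q hQ hQ1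
    have hgQ : MulAut.conj g • Q = Q := by
      ext y
      rw [Subgroup.mem_pointwise_smul_iff_inv_smul_mem]
      have := (Subgroup.mem_normalizer_iff''.mp hg) y
      simp only [MulAut.smul_def, MulAut.conj_inv_apply]
      exact this.symm
    have h2 : MulAut.conj g • Z ≤ Q := by
      rw [← hgQ]; exact Subgroup.pointwise_smul_le_pointwise_smul_iff.mpr h1
    apply mem_normalizer_of_smul_eq
    exact unique_in_cyclic P hcyc p _ _ (h2.trans hQ) hZ ((card_smul_eq Z g).trans hZcard) hZcard

end Cfsg.Agent.S4636
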