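import Cfsg.Statements.S4637
import Cfsg.Agent.Lib.Helper97_KleinAut
import Cfsg.Agent.Lib.Helper97_KleinFour
import Cfsg.Agent.Lib.Helper97_DefectTwo
import Cfsg.Agent.S4539

set_option autoImplicit false
open Cfsg

namespace Cfsg.Agent.S4637

/-- Let B be a block of the finite group G relative to a maximal ideal M of the algebraic integers containing 2, with a Klein four defect group P. Let c be a block of C_G(P) inducing B, T the stabilizer of c in N_G(P) and e the index of C_G(P) in T (the inertial index). Then e is 1 or 3, B contains exactly four irreducible characters, and the 2-regular rank of B (its number of irreducible Brauer characters) equals e. -/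
theorem result {G : Type*} [Group G] [Finite G] (M : Ideal Cfsg.AlgInt) (hM : Cfsg.IsPModular 2 M) (B : Set (Cfsg.IrrCharacter G)) (hB : Cfsg.IsPBlock M B) (P : Subgroup G) (hPD : Cfsg.IsDefectGroup 2 M B P) (hV : IsKleinFour P) (c : Set (Cfsg.IrrCharacter (Subgroup.centralizer (P : Set G)))) (hc : Cfsg.IsInducedBlock M (Subgroup.centralizer (P : Set G)) c B) (T : Subgroup G) (hT : ∀ g : G, g ∈ T ↔ (g ∈ Subgroup.normalizer (P : Set G) ∧ Cfsg.StabilizesBlock (Subgroup.centralizer (P : Set G)) c g)) (e : ℕ) (he : (Subgroup.centralizer (P : Set G)).relIndex T = e) : (e = 1 ∨ e = 3) ∧ Nat.card B = 4 ∧ Cfsg.blockRank 2 B = e := by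
  classical
  have := Fintype.ofFinite G
  have hMp := Cfsg.Agent.Lib.Helper78_LocalRing.isPrime_of_isPModular hM
  have hab : ∀ x ∈ P, ∀ y ∈ P, x * y = y * x := by
    intro x hx y hy
    haveI := IsKleinFour.isMulCommutative (G := P)
    have h5 : (⟨x, hx⟩ : P) * ⟨y, hy⟩ = ⟨y, hy⟩ * ⟨x, hx⟩ := mul_comm' _ _
    exact congrArg Subtype.val h5
  have h4539 : Cfsg.Agent.Lib.Helper97_NilRank.MajorBound :=
    fun {G} _ _ p _ M hM B hB D hD z hzD hzc b hb hbD hl =>
      Cfsg.Agent.S4539.result p M hM B hB D hD z hzD hzc b hb hbD hl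
  have hTN : T ≤ Subgroup.normalizer (P : Set G) := fun g hg => ((hT g).mp hg).1
  have hnd := Cfsg.Agent.Lib.Helper77_InertialCyclic.not_dvd_relIndex_of_abelian hM hPD hab c hc T hT
  obtain ⟨he13, hfree, htrans⟩ := Cfsg.Agent.Lib.Helper97_KleinAut.klein_aut P hV T hTN hnd
  -- the defect is two
  have hd : Cfsg.blockDefect 2 B = 2 := by
    have h1 := Cfsg.Agent.Lib.Helper78_Deficiency.card_isDefectGroup hM hB hPD
    rw [hV.card_four] at h1
    exact Nat.pow_right_injective (le_refl 2) (by show 2 ^ Cfsg.blockDefect 2 B = 2 ^ 2; rw [← h1])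
  have hk : Nat.card B = 4 := Cfsg.Agent.Lib.Helper97_DefectTwo.card_eq_four_of_defect_two hM hB hd
  rw [he] at he13
  refine ⟨he13, hk, ?_⟩
  rcases he13 with h1 | h3
  · -- nilpotent case
    rw [h1]
    have hTC : T ≤ Subgroup.centralizer (P : Set G) := by
      rw [← Subgroup.relIndex_eq_one, he, h1]
    exact Cfsg.Agent.Lib.Helper97_NilRank.blockRank_eq_one_of_abelian h4539 hM hPD hab hc
      (fun g hgN hgst => hTC ((hT g).mpr ⟨hgN, hgst⟩))
  · -- inertial index three
    rw [h3]
    have hP1 : P ≠ ⊥ := by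
      intro h0
      have h1 := hV.card_four
      rw [h0, Subgroup.card_bot] at h1
      omega
    have hformula := Cfsg.Agent.Lib.Helper97_KleinFour.card_eq_rank_add_one hM hPD hab hP1 hc
      (fun u hu hu1 v hv hv1 => by
        obtain ⟨t, htT, htu⟩ := htrans (by rw [he, h3]) u hu hu1 v hv hv1
        exact ⟨t, ((hT t).mp htT).1, ((hT t).mp htT).2, htu⟩)
      (fun u hu hu1 f hf =>
        Cfsg.Agent.Lib.Helper97_NilRank.blockRank_local_eq_one h4539 hM hPD hab
          (Subgroup.zpowers_le.mpr hu) hc hf (fun g hgQ hgN hgst => by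
            refine hfree g ((hT g).mpr ⟨hgN, hgst⟩) u hu hu1 ?_
            have h2 := Subgroup.mem_centralizer_iff.mp hgQ u (Subgroup.mem_zpowers u)
            rw [← h2]
            group))
    omega

end Cfsg.Agent.S4637
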