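import Mathlib
import Cfsg.Statements.S4640
import Cfsg.Agent.Lib.Helper82_MajorNonvanish
import Cfsg.Agent.Lib.Helper82_DualQuot
import Cfsg.Agent.Lib.Helper82_CoverStep
import Cfsg.Agent.Lib.Helper16_Cover
import Cfsg.Agent.Lib.Helper75_Gallagher
import Cfsg.Agent.Lib.Helper75_LinChar
import Cfsg.Agent.Lib.Helper75_CharArith
import Cfsg.Agent.Lib.Helper77_RegProj
import Cfsg.Agent.Lib.Helper77_BlockBasics
import Cfsg.Agent.Lib.Helper78_LocalRing
import Cfsg.Agent.Lib.Helper3_CharOrtho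
import Cfsg.Agent.Lib.Helper3_CharBridge
import Cfsg.Agent.S0966
import Cfsg.Agent.S0970

set_option autoImplicit false
open Cfsg

namespace Cfsg.Agent.S4640


section Aux

open Cfsg.Agent.Lib.Helper82_DualQuot Cfsg.Agent.Lib.Helper82_CoverStep
  Cfsg.Agent.Lib.Helper77_BlockBasics

universe u

/-- Extension by zero as a linear map. -/
noncomputable def extZ {G : Type u} [Group G] (N : Subgroup G) : (N → ℂ) →ₗ[ℂ] (G → ℂ) where
  toFun f := fun g => by classical exact if h : g ∈ N then f ⟨g, h⟩ else 0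
  map_add' := by
    intro f f'
    funext g
    by_cases h : g ∈ N <;> simp [h]
  map_smul' := by
    intro c f
    funext g
    by_cases h : g ∈ N <;> simp [h]

theorem extZ_of_mem {G : Type u} [Group G] (N : Subgroup G) (f : N → ℂ) {g : G} (h : g ∈ N) :
    extZ N f g = f ⟨g, h⟩ := by
  classical
  show (if h : g ∈ N then f ⟨g, h⟩ else 0) = _
  rw [dif_pos h]

theorem extZ_of_not_mem {G : Type u} [Group G] (N : Subgroup G) (f : N → ℂ) {g : G}
    (h : g ∉ N) : extZ N f g = 0 := by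
  classical
  show (if h : g ∈ N then f ⟨g, h⟩ else 0) = _
  rw [dif_neg h]

theorem extZ_injective {G : Type u} [Group G] (N : Subgroup G) : Function.Injective (extZ N) := by
  intro f f' hff
  funext n
  have := congrFun hff (n : G)
  rwa [extZ_of_mem N f n.2, extZ_of_mem N f' n.2] at this

/-- The extension by zero of the `p`-regular part of `χ|_N` is the `p`-regular part of `χ`, if
every `p`-regular element lies in `N`. -/
theorem extZ_pRegularPart {G : Type u} [Group G] (N : Subgroup G) (p : ℕ)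
    (hreg : ∀ g : G, g ∉ N → p ∣ orderOf g) {χ : G → ℂ} {θ : N → ℂ}
    (hres : ∀ n : N, χ n = θ n) : extZ N (pRegularPart p θ) = pRegularPart p χ := by
  funext g
  by_cases h : g ∈ N
  · rw [extZ_of_mem N _ h]
    by_cases hr : p ∣ orderOf g
    · rw [Cfsg.Agent.Lib.Helper77_RegProj.pRegularPart_of_sing χ hr,
        Cfsg.Agent.Lib.Helper77_RegProj.pRegularPart_of_sing θ (by rwa [Subgroup.orderOf_mk])]
    · rw [Cfsg.Agent.Lib.Helper77_RegProj.pRegularPart_of_reg χ hr,
        Cfsg.Agent.Lib.Helper77_RegProj.pRegularPart_of_reg θ (by rwa [Subgroup.orderOf_mk])]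
      exact (hres ⟨g, h⟩).symm
  · rw [extZ_of_not_mem N _ h, Cfsg.Agent.Lib.Helper77_RegProj.pRegularPart_of_sing χ (hreg g h)]

/-- Equality of ranks when restriction to `N` maps `B` onto `b` and every `p`-regular element
lies in `N`. -/
theorem blockRank_eq_of_restrict {G : Type u} [Group G] (N : Subgroup G) (p : ℕ)
    (B : Set (IrrCharacter G)) (b : Set (IrrCharacter N))
    (hreg : ∀ g : G, g ∉ N → p ∣ orderOf g)
    (h1 : ∀ χ ∈ B, ∃ θ ∈ b, ∀ n : N, (χ : G → ℂ) n = (θ : N → ℂ) n)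
    (h2 : ∀ θ ∈ b, ∃ χ ∈ B, ∀ n : N, (χ : G → ℂ) n = (θ : N → ℂ) n) :
    blockRank p B = blockRank p b := by
  unfold blockRank
  have himg : (fun χ : IrrCharacter G => pRegularPart p (χ : G → ℂ)) '' B =
      (extZ N) '' ((fun θ : IrrCharacter N => pRegularPart p (θ : N → ℂ)) '' b) := by
    ext f
    constructor
    · rintro ⟨χ, hχ, rfl⟩
      obtain ⟨θ, hθ, hres⟩ := h1 χ hχ
      exact ⟨_, ⟨θ, hθ, rfl⟩, extZ_pRegularPart N p hreg hres⟩
    · rintro ⟨_, ⟨θ, hθ, rfl⟩, rfl⟩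
      obtain ⟨χ, hχ, hres⟩ := h2 θ hθ
      exact ⟨χ, hχ, (extZ_pRegularPart N p hreg hres).symm⟩
  rw [himg, ← Submodule.map_span]
  exact (LinearEquiv.finrank_eq (Submodule.equivMapOfInjective (extZ N) (extZ_injective N) _)).symm

end Aux

/-- Let N be a normal subgroup of the finite group G of index a power of the prime p, M a maximal ideal of the algebraic integers containing p, b a block of N stabilized by every element of G, and B a block of G covering b (some member of B has a member of b as a constituent of its restriction to N). Suppose that B has a commutative defect group P. Then G = NP and P ∩ N is a defect group of b; every member of B restricts to a member of b; every member of b is the restriction of exactly [G : N] members of B; B contains exactly [G : N] times as many irreducible characters as b; and B and b have the same p-regular rank. -/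
theorem result {G : Type*} [Group G] [Fintype G] (p : ℕ) [Fact p.Prime] (M : Ideal Cfsg.AlgInt) (hM : Cfsg.IsPModular p M) (N : Subgroup G) [N.Normal] [Fintype N] (hNi : ∃ k : ℕ, N.index = p ^ k) (b : Set (Cfsg.IrrCharacter N)) (hb : Cfsg.IsPBlock M b) (hstab : ∀ g : G, Cfsg.StabilizesBlock N b g) (B : Set (Cfsg.IrrCharacter G)) (hB : Cfsg.IsPBlock M B) (hcov : ∃ χ ∈ B, ∃ θ ∈ b, Cfsg.classInner (fun n : N => (χ : G → ℂ) n) (θ : N → ℂ) ≠ 0) (P : Subgroup G) (hPD : Cfsg.IsDefectGroup p M B P) (hPab : ∀ x ∈ P, ∀ y ∈ P, x * y = y * x) : N ⊔ P = ⊤ ∧ Cfsg.IsDefectGroup p M b ((P ⊓ N).subgroupOf N) ∧ (∀ χ ∈ B, ∃ θ ∈ b, ∀ n : N, (χ : G → ℂ) n = (θ : N → ℂ) n) ∧ (∀ θ ∈ b, Nat.card {χ : Cfsg.IrrCharacter G // χ ∈ B ∧ ∀ n : N, (χ : G → ℂ) n = (θ : N → ℂ) n} = N.index) ∧ Nat.card B = N.index * Nat.card b ∧ Cfsg.blockRank p B = Cfsg.blockRank p b := by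
  classical
  have hp : p.Prime := Fact.out
  have hMp := Cfsg.Agent.Lib.Helper78_LocalRing.isPrime_of_isPModular hM
  obtain ⟨k, hk⟩ := hNi
  -- invariance of `b`
  have hinv : Cfsg.Agent.Lib.Helper82_CoverStep.InvBlock N b := by
    intro g θ hθ θ' hθ'
    obtain ⟨ψ, hψ, hconj⟩ := (hstab g⁻¹).2 θ hθ
    have : θ' = ψ := by
      apply Subtype.ext
      funext n
      rw [hθ' n]
      symm
      apply hconj
      show (n : G) = g⁻¹ * (g * (n : G) * g⁻¹) * g⁻¹⁻¹
      group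
    rw [this]
    exact hψ
  -- uniqueness of the covering block
  obtain ⟨B₀, ⟨hB₀, hcov₀⟩, huniq⟩ := Cfsg.Agent.S0966.result p M hM N ⟨k, hk⟩ b hb
  have hBB₀ : B = B₀ := huniq B ⟨hB, hcov⟩
  have huniq' : ∀ B' : Set (Cfsg.IrrCharacter G), Cfsg.IsPBlock M B' →
      Cfsg.Agent.Lib.Helper82_CoverStep.Covers N B' b → B' = B := by
    intro B' hB' hc'
    rw [hBB₀]
    exact huniq B' ⟨hB', hc'⟩
  have hmax : ∀ B' : Set (Cfsg.IrrCharacter G), Cfsg.IsPBlock M B' →
      (∃ χ ∈ B', ∃ θ ∈ b, Cfsg.classInner (fun n : N => (χ : G → ℂ) n) (θ : N → ℂ) ≠ 0) →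
      Cfsg.blockDefect p B' ≤ Cfsg.blockDefect p B := by
    intro B' hB' hc'
    rw [huniq' B' hB' hc']
  obtain ⟨hidx, hC2, -⟩ := Cfsg.Agent.S0970.result p M hM N b hb hinv B hB hcov hmax P hPD
  -- `N ⊔ P = ⊤`
  have htop : N ⊔ P = ⊤ := by
    rw [sup_comm]
    rw [← Subgroup.index_eq_one]
    have h1 : (P ⊔ N).index ∣ p ^ k := by
      rw [← hk]
      exact Subgroup.index_dvd_of_le le_sup_right
    obtain ⟨j, -, hj⟩ := (Nat.dvd_prime_pow hp).mp h1
    rcases Nat.eq_zero_or_pos j with h0 | hpos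
    · rw [hj, h0, pow_zero]
    · exfalso
      apply hidx
      rw [hj]
      exact dvd_pow_self p hpos.ne'
  have hover : Cfsg.Agent.Lib.Helper82_CoverStep.overB N b = B :=
    Cfsg.Agent.Lib.Helper82_CoverStep.overB_eq_of_unique N hM hb hinv hB hcov huniq'
  -- every coset of `N` meets `P`
  have hrep : ∀ a : G ⧸ N, ∃ u ∈ P, (QuotientGroup.mk u : G ⧸ N) = a := by
    intro a
    obtain ⟨g, rfl⟩ := QuotientGroup.mk_surjective a
    have hg : g ∈ N ⊔ P := by rw [htop]; exact Subgroup.mem_top g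
    have hg' : g ∈ ((N ⊔ P : Subgroup G) : Set G) := hg
    rw [Subgroup.normal_mul] at hg'
    obtain ⟨n, hn, u, hu, rfl⟩ := Set.mem_mul.mp hg'
    refine ⟨u, hu, ?_⟩
    rw [QuotientGroup.mk_mul, (QuotientGroup.eq_one_iff n).mpr hn, one_mul]
  have hcomm : ∀ a c : G ⧸ N, a * c = c * a := by
    intro a c
    obtain ⟨u, hu, rfl⟩ := hrep a
    obtain ⟨v, hv, rfl⟩ := hrep c
    rw [← QuotientGroup.mk_mul, ← QuotientGroup.mk_mul, hPab u hu v hv]
  let inst : CommGroup (G ⧸ N) := { (inferInstance : Group (G ⧸ N)) with mul_comm := hcomm }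
  have hker : ∀ g : G, (QuotientGroup.mk' N) g = 1 ↔ g ∈ N := fun g => QuotientGroup.eq_one_iff g
  have hcard : Nat.card (G ⧸ N) = N.index := rfl
  have hregN : ∀ g : G, g ∉ N → p ∣ orderOf g := fun g hg =>
    Cfsg.Agent.Lib.Helper16_Cover.dvd_orderOf_of_not_mem N hk hg
  -- no nontrivial linear character of `G / N` fixes a member of `B`
  have hfix : ∀ χ ∈ B, ∀ φ : (G ⧸ N) →* ℂˣ,
      Cfsg.Agent.Lib.Helper82_DualQuot.lam (QuotientGroup.mk' N) φ * (χ : G → ℂ) = (χ : G → ℂ) →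
      φ = 1 := by
    intro χ hχ φ hφ
    refine MonoidHom.ext fun a => ?_
    apply Units.ext
    obtain ⟨u, hu, rfl⟩ := hrep a
    obtain ⟨c, -, hcreg, hne⟩ :=
      Cfsg.Agent.Lib.Helper82_MajorNonvanish.exists_regular_of_abelian hM hB hPD hPab hu hχ
    have hcN : c ∈ N := by
      by_contra hcN
      exact hcreg (hregN c hcN)
    have h1 := congrFun hφ (u * c)
    rw [Pi.mul_apply] at h1
    have h2 : Cfsg.Agent.Lib.Helper82_DualQuot.lam (QuotientGroup.mk' N) φ (u * c) = 1 := by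
      have h3 : (Cfsg.Agent.Lib.Helper82_DualQuot.lam (QuotientGroup.mk' N) φ (u * c) - 1) *
          (χ : G → ℂ) (u * c) = 0 := by
        rw [sub_mul, one_mul, h1, sub_self]
      rcases mul_eq_zero.mp h3 with h | h
      · exact sub_eq_zero.mp h
      · exact absurd h hne
    rw [Cfsg.Agent.Lib.Helper82_DualQuot.lam_mul,
      Cfsg.Agent.Lib.Helper82_DualQuot.lam_of_ker (QuotientGroup.mk' N) φ ((hker c).mpr hcN),
      mul_one] at h2
    rw [MonoidHom.one_apply, Units.val_one]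
    exact h2
  -- restrictions are irreducible
  have hirr : ∀ χ ∈ B, Cfsg.IsIrrCharacter N (fun n : N => (χ : G → ℂ) n) := by
    intro χ hχ
    refine Cfsg.Agent.Lib.Helper75_CharArith.isIrrCharacter_of_classInner_self
      (Cfsg.Agent.Lib.Helper75_CharArith.isCharacter_restrict N
        (Cfsg.Agent.Lib.Helper3_CharBridge.isCharacter_of_isIrrCharacter χ.2)) ?_
    exact Cfsg.Agent.Lib.Helper82_DualQuot.classInner_res_self_eq_one (QuotientGroup.mk' N) N
      hker hcard χ.2 (hfix χ hχ)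
  -- a constituent of an irreducible restriction is the restriction
  have hres_eq : ∀ χ ∈ B, ∀ θ : Cfsg.IrrCharacter N,
      Cfsg.classInner (fun n : N => (χ : G → ℂ) n) (θ : N → ℂ) ≠ 0 →
      ∀ n : N, (χ : G → ℂ) n = (θ : N → ℂ) n := by
    intro χ hχ θ hne n
    rw [Cfsg.Agent.Lib.Helper3_CharOrtho.classInner_irr (hirr χ hχ) θ.2] at hne
    by_cases h : (fun n : N => (χ : G → ℂ) n) = (θ : N → ℂ)
    · exact congrFun h n
    · rw [if_neg h] at hne
      exact absurd rfl hne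
  have hC3 : ∀ χ ∈ B, ∃ θ ∈ b, ∀ n : N, (χ : G → ℂ) n = (θ : N → ℂ) n := by
    intro χ hχ
    have hχ' : χ ∈ Cfsg.Agent.Lib.Helper82_CoverStep.overB N b := by rw [hover]; exact hχ
    obtain ⟨ψ, hψ, hne⟩ := hχ'
    exact ⟨ψ, hψ, hres_eq χ hχ ψ hne⟩
  have hext : ∀ θ ∈ b, ∃ χ ∈ B, ∀ n : N, (χ : G → ℂ) n = (θ : N → ℂ) n := by
    intro θ hθ
    obtain ⟨χ, hχ⟩ := Cfsg.Agent.Lib.Helper16_Cover.exists_over N θ
    have hχB : χ ∈ B := by
      rw [← hover]
      exact ⟨θ, hθ, hχ⟩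
    exact ⟨χ, hχB, hres_eq χ hχB θ hχ⟩
  -- the extensions of a member of `b`
  have hC4 : ∀ θ ∈ b, Nat.card {χ : Cfsg.IrrCharacter G // χ ∈ B ∧
      ∀ n : N, (χ : G → ℂ) n = (θ : N → ℂ) n} = N.index := by
    intro θ hθ
    obtain ⟨χ₀, hχ₀B, hχ₀⟩ := hext θ hθ
    have hmem : ∀ φ : (G ⧸ N) →* ℂˣ, ∀ n : N,
        (Cfsg.Agent.Lib.Helper82_DualQuot.lam (QuotientGroup.mk' N) φ * (χ₀ : G → ℂ)) n =
          (θ : N → ℂ) n := by
      intro φ n
      rw [Pi.mul_apply, Cfsg.Agent.Lib.Helper82_DualQuot.lam_of_ker (QuotientGroup.mk' N) φ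
        ((hker n).mpr n.2), one_mul, hχ₀ n]
    have hmemB : ∀ φ : (G ⧸ N) →* ℂˣ,
        (⟨Cfsg.Agent.Lib.Helper82_DualQuot.lam (QuotientGroup.mk' N) φ * (χ₀ : G → ℂ),
          Cfsg.Agent.Lib.Helper82_DualQuot.lam_mul_isIrrCharacter (QuotientGroup.mk' N) φ χ₀.2⟩ :
            Cfsg.IrrCharacter G) ∈ B := by
      intro φ
      rw [← hover]
      refine ⟨θ, hθ, ?_⟩
      have h1 : (fun n : N => (Cfsg.Agent.Lib.Helper82_DualQuot.lam (QuotientGroup.mk' N) φ *
          (χ₀ : G → ℂ)) n) = (θ : N → ℂ) := funext (hmem φ)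
      show Cfsg.classInner (fun n : N =>
        (Cfsg.Agent.Lib.Helper82_DualQuot.lam (QuotientGroup.mk' N) φ * (χ₀ : G → ℂ)) n)
          (θ : N → ℂ) ≠ 0
      rw [h1, Cfsg.Agent.Lib.Helper3_CharOrtho.classInner_self_of_isIrrCharacter θ.2]
      exact one_ne_zero
    let f : ((G ⧸ N) →* ℂˣ) → {χ : Cfsg.IrrCharacter G // χ ∈ B ∧
        ∀ n : N, (χ : G → ℂ) n = (θ : N → ℂ) n} := fun φ =>
      ⟨⟨Cfsg.Agent.Lib.Helper82_DualQuot.lam (QuotientGroup.mk' N) φ * (χ₀ : G → ℂ),
          Cfsg.Agent.Lib.Helper82_DualQuot.lam_mul_isIrrCharacter (QuotientGroup.mk' N) φ χ₀.2⟩,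
        hmemB φ, hmem φ⟩
    have hf : Function.Bijective f := by
      constructor
      · intro φ ψ hφψ
        have h1 : Cfsg.Agent.Lib.Helper82_DualQuot.lam (QuotientGroup.mk' N) φ * (χ₀ : G → ℂ) =
            Cfsg.Agent.Lib.Helper82_DualQuot.lam (QuotientGroup.mk' N) ψ * (χ₀ : G → ℂ) := by
          have h0 := congrArg Subtype.val (congrArg Subtype.val hφψ)
          exact h0
        have h2 : Cfsg.Agent.Lib.Helper82_DualQuot.lam (QuotientGroup.mk' N) (ψ⁻¹ * φ) *
            (χ₀ : G → ℂ) = (χ₀ : G → ℂ) := by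
          rw [Cfsg.Agent.Lib.Helper82_DualQuot.lam_mul_hom, mul_assoc, h1, ← mul_assoc,
            Cfsg.Agent.Lib.Helper82_DualQuot.lam_inv_mul]
          funext g
          simp
        have h3 := hfix χ₀ hχ₀B _ h2
        exact (inv_mul_eq_one.mp h3).symm
      · rintro ⟨χ', hχ'B, hres'⟩
        obtain ⟨β, hβ, hβN, heq⟩ := Cfsg.Agent.Lib.Helper75_Gallagher.exists_lin_of_extensions N
          χ₀.2 χ'.2 (hirr χ₀ hχ₀B) (fun n => (hres' n).trans (hχ₀ n).symm)
        let u : G →* ℂˣ := MonoidHom.mk' (fun g => Units.mk0 (β g) (hβ.ne_zero g)) (by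
          intro x y
          apply Units.ext
          simp [hβ.map_mul])
        have hu : N ≤ u.ker := by
          intro n hn
          rw [MonoidHom.mem_ker]
          apply Units.ext
          show β n = 1
          exact hβN ⟨n, hn⟩
        refine ⟨QuotientGroup.lift N u hu, ?_⟩
        have hlam : Cfsg.Agent.Lib.Helper82_DualQuot.lam (QuotientGroup.mk' N)
            (QuotientGroup.lift N u hu) = β := by
          funext g
          rw [Cfsg.Agent.Lib.Helper82_DualQuot.lam_apply]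
          show ((QuotientGroup.lift N u hu (QuotientGroup.mk g) : ℂˣ) : ℂ) = β g
          rw [QuotientGroup.lift_mk]
          rfl
        apply Subtype.ext
        apply Subtype.ext
        show Cfsg.Agent.Lib.Helper82_DualQuot.lam (QuotientGroup.mk' N)
          (QuotientGroup.lift N u hu) * (χ₀ : G → ℂ) = (χ' : G → ℂ)
        rw [hlam, heq]
    rw [← Nat.card_congr (Equiv.ofBijective f hf), Cfsg.Agent.Lib.Helper82_DualQuot.card_dual]
    exact hcard
  -- counting `B`
  have hC5 : Nat.card B = N.index * Nat.card b := by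
    have := Fintype.ofFinite b
    let F : (Σ θ : b, {χ : Cfsg.IrrCharacter G // χ ∈ B ∧
        ∀ n : N, (χ : G → ℂ) n = ((θ : Cfsg.IrrCharacter N) : N → ℂ) n}) → B :=
      fun x => ⟨x.2.1, x.2.2.1⟩
    have hF : Function.Bijective F := by
      constructor
      · rintro ⟨θ, ⟨χ, h1, h2⟩⟩ ⟨θ', ⟨χ', h1', h2'⟩⟩ hxy
        have hχχ' : χ = χ' := congrArg Subtype.val hxy
        subst hχχ'
        have hθθ' : θ = θ' := by
          apply Subtype.ext
          apply Subtype.ext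
          funext n
          exact (h2 n).symm.trans (h2' n)
        subst hθθ'
        rfl
      · rintro ⟨χ, hχ⟩
        obtain ⟨θ, hθ, hres⟩ := hC3 χ hχ
        exact ⟨⟨⟨θ, hθ⟩, ⟨χ, hχ, hres⟩⟩, rfl⟩
    rw [← Nat.card_congr (Equiv.ofBijective F hF), Nat.card_sigma]
    rw [Finset.sum_congr rfl fun θ _ => hC4 θ.1 θ.2]
    rw [Finset.sum_const, Finset.card_univ, smul_eq_mul, Nat.card_eq_fintype_card, mul_comm]
  exact ⟨htop, hC2, hC3, hC4, hC5, blockRank_eq_of_restrict N p B b hregN hC3 hext⟩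

end Cfsg.Agent.S4640
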