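import Cfsg.Statements.S4642
import Cfsg.Agent.Lib.Helper78_FongPrincipal

set_option autoImplicit false
open Cfsg

namespace Cfsg.Agent.S4642

/-- Let G be a finite group, p a prime, M a maximal ideal of the algebraic integers containing p, K the largest normal subgroup of G of order prime to p, and L the preimage in G of the largest normal p-subgroup of G/K. Let Q be a Sylow p-subgroup of L and suppose C_G(Q) ≤ L. Let θ be an irreducible character of K invariant under conjugation by every element of G, and let B be the set of irreducible characters of G whose restriction to K contains θ. Then B is a block of G, every Sylow p-subgroup of G is a defect group of B, and B is of principal type: for every p-subgroup R of G exactly one block of C_G(R) induces B. -/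
theorem result {G : Type*} [Group G] [Fintype G] (p : ℕ) [Fact p.Prime] (M : Ideal Cfsg.AlgInt) (hM : Cfsg.IsPModular p M) (K : Subgroup G) (hK : K = Cfsg.pPrimeCore p G) [Fintype K] (L : Subgroup G) (hL : L = Cfsg.pPrimePCore p G) (Q : Subgroup G) (hQL : Q ≤ L) (hQp : IsPGroup p Q) (hQS : ¬ p ∣ Q.relIndex L) (hCQ : Subgroup.centralizer (Q : Set G) ≤ L) (θ : Cfsg.IrrCharacter K) (hθ : ∀ g : G, Cfsg.IsConjCharOf K g (θ : K → ℂ) (θ : K → ℂ)) (B : Set (Cfsg.IrrCharacter G)) (hBdef : ∀ χ : Cfsg.IrrCharacter G, χ ∈ B ↔ Cfsg.classInner (fun k : K => (χ : G → ℂ) k) (θ : K → ℂ) ≠ 0) : Cfsg.IsPBlock M B ∧ (∀ S : Sylow p G, Cfsg.IsDefectGroup p M B S) ∧ ∀ R : Subgroup G, IsPGroup p R → ∃! f : Set (Cfsg.IrrCharacter (Subgroup.centralizer (R : Set G))), Cfsg.IsInducedBlock M (Subgroup.centralizer (R : Set G)) f B := by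
  classical
  subst hK
  have hKp : ¬ p ∣ Nat.card (Cfsg.pPrimeCore p G) := by
    have h := Cfsg.Agent.Lib.Helper1_Cores.pPrimeCore_card_coprime (G := G) p
    exact (Nat.Prime.coprime_iff_not_dvd (Fact.out : p.Prime)).mp h.symm
  have hL' : L = (Cfsg.pCore p (G ⧸ Cfsg.pPrimeCore p G)).comap
      (QuotientGroup.mk' (Cfsg.pPrimeCore p G)) := hL
  haveI hLn : L.Normal := by
    rw [hL']
    exact (Cfsg.pCore_normal p (G ⧸ Cfsg.pPrimeCore p G)).comap _
  have hKL : Cfsg.pPrimeCore p G ≤ L := by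
    rw [hL']
    intro k hk
    rw [Subgroup.mem_comap, QuotientGroup.mk'_apply, (QuotientGroup.eq_one_iff k).mpr hk]
    exact Subgroup.one_mem _
  have hidx : ∃ k : ℕ, (Cfsg.pPrimeCore p G).relIndex L = p ^ k := by
    obtain ⟨k, hk⟩ := (Cfsg.Agent.Lib.Helper1_Cores.pCore_isPGroup
      (G := G ⧸ Cfsg.pPrimeCore p G) p).exists_card_eq
    refine ⟨k, ?_⟩
    have h1 : (QuotientGroup.mk' (Cfsg.pPrimeCore p G)).ker = Cfsg.pPrimeCore p G :=
      QuotientGroup.ker_mk' _
    have h2 : L.map (QuotientGroup.mk' (Cfsg.pPrimeCore p G)) =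
        Cfsg.pCore p (G ⧸ Cfsg.pPrimeCore p G) := by
      rw [hL']
      exact Subgroup.map_comap_eq_self_of_surjective (QuotientGroup.mk'_surjective _) _
    rw [← hk, ← h2, ← Subgroup.relIndex_ker, h1]
  have hcore := Cfsg.Agent.Lib.Helper78_FongCore.core (Cfsg.pPrimeCore p G) hM hKp L hKL hidx Q
    hQL hQp hQS hCQ θ hθ B hBdef
  have hY := Cfsg.Agent.Lib.Helper78_FongGroup.isCharP_quotient (Cfsg.pPrimeCore p G) hKp L hL' Q
    hQL hQp hCQ
  exact ⟨hcore.1, hcore.2, fun R hR =>
    Cfsg.Agent.Lib.Helper78_FongPrincipal.principal_type hM (Cfsg.pPrimeCore p G) hKp hY θ hθ B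
      hBdef hcore.1 hcore.2 R hR⟩

end Cfsg.Agent.S4642
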