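import Cfsg.Statements.S4664
import Cfsg.Agent.Lib.Helper77_WeakOrth
import Cfsg.Agent.Lib.Helper3_CharEigen

set_option autoImplicit false
open Cfsg

namespace Cfsg.Agent.S4664

open scoped ComplexConjugate

/-- Values of characters at elements of order dividing `m` lie in the `m`-th cyclotomic field. -/
theorem char_mem_adjoin {G : Type*} [Group G] [Finite G] (χ : IrrCharacter G) (m : ℕ) (hm : m ≠ 0)
    (g : G) (hg : orderOf g ∣ m) :
    (χ : G → ℂ) g ∈ IntermediateField.adjoin ℚ
      ({Complex.exp (2 * Real.pi * Complex.I / (m : ℂ))} : Set ℂ) := by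
  obtain ⟨n, ρ, hirr, hρ⟩ := χ.2
  rw [← hρ, Cfsg.Agent.Lib.Helper3_CharEigen.char_eq_sum ρ g]
  have hprim := Complex.isPrimitiveRoot_exp m hm
  apply sum_mem
  intro μ hμ
  apply mul_mem
  · exact natCast_mem _ _
  · have h1 : μ ^ orderOf g = 1 := Cfsg.Agent.Lib.Helper3_CharEigen.eig_pow_orderOf ρ hμ
    have h2 : μ ^ m = 1 := by
      obtain ⟨c, hc⟩ := hg
      rw [hc, pow_mul, h1, one_pow]
    have : NeZero m := ⟨hm⟩
    obtain ⟨i, _, hi⟩ := hprim.eq_pow_of_pow_eq_one h2
    rw [← hi]
    apply pow_mem
    exact IntermediateField.subset_adjoin ℚ _ (Set.mem_singleton _)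

/-- Fix a prime p and a maximal ideal M of the algebraic integers containing p, and let B be a p-block of the finite group G. Let m be the p'-part of the order of G and η = exp(2πi/m). Then every coefficient of the idempotent of B lies in the cyclotomic field ℚ(η). -/
theorem result {G : Type*} [Group G] [Fintype G] (p : ℕ) [Fact p.Prime] (M : Ideal Cfsg.AlgInt) (hM : Cfsg.IsPModular p M) (B : Set (Cfsg.IrrCharacter G)) (hB : Cfsg.IsPBlock M B) (g : G) : Cfsg.blockCoeff B g ∈ IntermediateField.adjoin ℚ ({Complex.exp (2 * Real.pi * Complex.I / ((Nat.card G / p ^ (Nat.card G).factorization p : ℕ) : ℂ))} : Set ℂ) := by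
  classical
  by_cases hg : p ∣ orderOf g
  · rw [Cfsg.Agent.Lib.Helper77_WeakOrth.blockCoeff_block_eq_zero_of_sing hM hB g hg]
    exact zero_mem _
  · have hp : p.Prime := hM.1
    have hcard : Nat.card G ≠ 0 := (Nat.card_pos (α := G)).ne'
    set m : ℕ := Nat.card G / p ^ (Nat.card G).factorization p with hmdef
    have hm0 : m ≠ 0 := (Nat.ordCompl_pos p hcard).ne'
    have hmul : p ^ (Nat.card G).factorization p * m = Nat.card G :=
      Nat.ordProj_mul_ordCompl_eq_self (Nat.card G) p
    have hdvd : ∀ x : G, ¬ p ∣ orderOf x → orderOf x ∣ m := by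
      intro x hx
      have h1 : orderOf x ∣ p ^ (Nat.card G).factorization p * m := by
        rw [hmul]; exact orderOf_dvd_natCard x
      have hcop : Nat.Coprime (orderOf x) (p ^ (Nat.card G).factorization p) :=
        Nat.Coprime.pow_right _ ((Nat.Prime.coprime_iff_not_dvd hp).mpr hx).symm
      exact hcop.dvd_of_dvd_mul_left h1
    have hfin : Finite (IrrCharacter G) := Cfsg.Agent.Lib.Helper78_CharFacts.charFacts.finite
    unfold Cfsg.blockCoeff
    apply mul_mem
    · apply inv_mem
      exact natCast_mem _ _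
    · rw [finsum_mem_eq_finite_toFinset_sum _ (Set.toFinite B)]
      apply sum_mem
      intro χ _
      apply mul_mem
      · apply char_mem_adjoin χ m hm0 1
        rw [orderOf_one]; exact one_dvd _
      · rw [← Cfsg.Agent.Lib.Helper80_CharBasic.irr_inv χ g]
        apply char_mem_adjoin χ m hm0 g⁻¹
        rw [orderOf_inv]
        exact hdvd g hg

end Cfsg.Agent.S4664
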