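import Cfsg.Statements.S4666
import Cfsg.Agent.Lib.Helper57_BrauerFeit
import Cfsg.Agent.S0874

set_option autoImplicit false
open Cfsg

namespace Cfsg.Agent.S4666


open Cfsg.Agent.Lib.Helper57_HeightZero Cfsg.Agent.Lib.Helper57_BrauerFeit
  Cfsg.Agent.Lib.Helper57_PRegInt Cfsg.Agent.Lib.Helper3_CharBridge
  Cfsg.Agent.Lib.Helper3_CharOrtho Cfsg.Agent.Lib.Helper3_CharComplete
  Cfsg.Agent.Lib.Helper78_LocalRing Cfsg.Agent.Lib.Helper77_BlockBasics in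
/-- For `ψ ∈ B`: `p ^ d * ψ` on the `p`-regular elements is an integer combination of `B`. -/
theorem key {G : Type*} [Group G] [Fintype G] {p : ℕ} (hp : p.Prime) {M : Ideal Cfsg.AlgInt}
    (hM : Cfsg.IsPModular p M) {B : Set (Cfsg.IrrCharacter G)} (hB : Cfsg.IsPBlock M B)
    (hI : RegInt G p) {ψ : Cfsg.IrrCharacter G} (hψ : ψ ∈ B) :
    ∃ k : Cfsg.IrrCharacter G → ℤ, ∀ g : G,
      ((p : ℂ)) ^ Cfsg.blockDefect p B * regPart p (ψ : G → ℂ) g =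
        ∑ ξ ∈ bset B, (k ξ : ℂ) * (ξ : G → ℂ) g := by
  classical
  have hdiv : ∀ ξ, (p : ℤ) ^ h0 p B ∣ NN hI ψ ξ := fun ξ =>
    (pow_dvd_pow (p : ℤ) (h0_le hψ)).trans (pow_dvd_NN hp hI ψ ξ)
  choose k hk using hdiv
  refine ⟨k, fun g => ?_⟩
  have hcl := tilde_isClassFunction (p := p) (((p ^ (Nat.card G).factorization p : ℕ) : ℂ))
    (isClassFunction_of_isIrrCharacter ψ.2)
  have hexp := congrFun (classFunction_eq_sum _ hcl) g
  rw [Finset.sum_apply] at hexp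
  have hexp2 : ((p ^ (Nat.card G).factorization p : ℕ) : ℂ) * regPart p (ψ : G → ℂ) g =
      ∑ ξ ∈ bset B, ((NN hI ψ ξ : ℤ) : ℂ) * (ξ : G → ℂ) g := by
    have h1 : (((p ^ (Nat.card G).factorization p : ℕ) : ℂ) • regPart p (ψ : G → ℂ)) g =
        ((p ^ (Nat.card G).factorization p : ℕ) : ℂ) * regPart p (ψ : G → ℂ) g := rfl
    rw [← h1, hexp]
    unfold bset
    rw [Finset.sum_filter]
    refine Finset.sum_congr rfl fun ξ _ => ?_
    rw [Pi.smul_apply, smul_eq_mul, classInner_smul_left, NN_spec]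
    split_ifs with h
    · rfl
    · rw [NN_eq_zero_of_not_mem hM hB hI hψ h]
      simp
  have hpow : ((p ^ (Nat.card G).factorization p : ℕ) : ℂ) =
      ((p : ℂ)) ^ h0 p B * ((p : ℂ)) ^ Cfsg.blockDefect p B := by
    rw [← pow_add, h0_add_defect hψ]
    push_cast
    rfl
  have hp0 : ((p : ℂ)) ^ h0 p B ≠ 0 := pow_ne_zero _ (Nat.cast_ne_zero.mpr hp.ne_zero)
  have h2 : ((p : ℂ)) ^ h0 p B * (((p : ℂ)) ^ Cfsg.blockDefect p B * regPart p (ψ : G → ℂ) g) =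
      ((p : ℂ)) ^ h0 p B * ∑ ξ ∈ bset B, (k ξ : ℂ) * (ξ : G → ℂ) g := by
    rw [← mul_assoc, ← hpow, hexp2, Finset.mul_sum]
    refine Finset.sum_congr rfl fun ξ _ => ?_
    rw [hk ξ]
    push_cast
    ring
  exact mul_left_cancel₀ hp0 h2

/-- Fix a prime p and a maximal ideal M of the algebraic integers containing p, and a p-block B of the finite group G of defect d. For every integer combination χ of the irreducible characters in B, p^d times the function that agrees with χ on p-regular elements and vanishes elsewhere is again an integer combination of the irreducible characters in B. -/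
theorem result {G : Type*} [Group G] [Fintype G] (p : ℕ) [Fact p.Prime] (M : Ideal Cfsg.AlgInt) (hM : Cfsg.IsPModular p M) (B : Set (Cfsg.IrrCharacter G)) (hB : Cfsg.IsPBlock M B) (χ : G → ℂ) (hχ : (∃ n : Cfsg.IrrCharacter G → ℤ, ∀ g : G, χ g = ∑ᶠ ψ ∈ B, (n ψ : ℂ) * (ψ : G → ℂ) g)) : (∃ n : Cfsg.IrrCharacter G → ℤ, ∀ g : G, (p ^ Cfsg.blockDefect p B : ℂ) * Cfsg.pRegularPart p χ g = ∑ᶠ ψ ∈ B, (n ψ : ℂ) * (ψ : G → ℂ) g) := by
  classical
  have hp : p.Prime := Fact.out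
  have hI : Cfsg.Agent.Lib.Helper57_HeightZero.RegInt G p :=
    Cfsg.Agent.Lib.Helper57_HeightZero.regInt_of_brauerLocal hp
      (fun q hq _ => Cfsg.Agent.S0874.result q hq)
  obtain ⟨n, hn⟩ := hχ
  have hfs : ∀ (c : Cfsg.IrrCharacter G → ℂ),
      (∑ᶠ ψ ∈ B, c ψ) = ∑ ψ ∈ Cfsg.Agent.Lib.Helper57_BrauerFeit.bset B, c ψ := by
    intro c
    rw [finsum_mem_eq_finite_toFinset_sum _ (Set.toFinite B)]
    congr 1
    ext ξ
    simp [Cfsg.Agent.Lib.Helper57_BrauerFeit.mem_bset]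
  have hkey : ∀ ψ : Cfsg.IrrCharacter G, ∃ k : Cfsg.IrrCharacter G → ℤ,
      ψ ∈ B → ∀ g : G, ((p : ℂ)) ^ Cfsg.blockDefect p B *
        Cfsg.Agent.Lib.Helper57_PRegInt.regPart p (ψ : G → ℂ) g =
        ∑ ξ ∈ Cfsg.Agent.Lib.Helper57_BrauerFeit.bset B, (k ξ : ℂ) * (ξ : G → ℂ) g := by
    intro ψ
    by_cases hψ : ψ ∈ B
    · obtain ⟨k, hk⟩ := key hp hM hB hI hψ
      exact ⟨k, fun _ => hk⟩
    · exact ⟨fun _ => 0, fun h => absurd h hψ⟩
  choose k hk using hkey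
  refine ⟨fun ξ => ∑ ψ ∈ Cfsg.Agent.Lib.Helper57_BrauerFeit.bset B, n ψ * k ψ ξ, fun g => ?_⟩
  rw [hfs, Cfsg.Agent.Lib.Helper57_HeightZero.pRegularPart_eq_regPart]
  have hreg : Cfsg.Agent.Lib.Helper57_PRegInt.regPart p χ g =
      ∑ ψ ∈ Cfsg.Agent.Lib.Helper57_BrauerFeit.bset B,
        (n ψ : ℂ) * Cfsg.Agent.Lib.Helper57_PRegInt.regPart p (ψ : G → ℂ) g := by
    by_cases h : p ∣ orderOf g
    · rw [Cfsg.Agent.Lib.Helper57_PRegInt.regPart_of_dvd _ h]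
      symm
      apply Finset.sum_eq_zero
      intro ψ _
      rw [Cfsg.Agent.Lib.Helper57_PRegInt.regPart_of_dvd _ h, mul_zero]
    · rw [Cfsg.Agent.Lib.Helper57_PRegInt.regPart_of_not_dvd _ h, hn g, hfs]
      refine Finset.sum_congr rfl fun ψ _ => ?_
      rw [Cfsg.Agent.Lib.Helper57_PRegInt.regPart_of_not_dvd _ h]
  rw [hreg, Finset.mul_sum]
  have h1 : ∀ ψ ∈ Cfsg.Agent.Lib.Helper57_BrauerFeit.bset B,
      ((p : ℂ)) ^ Cfsg.blockDefect p B *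
        ((n ψ : ℂ) * Cfsg.Agent.Lib.Helper57_PRegInt.regPart p (ψ : G → ℂ) g) =
      ∑ ξ ∈ Cfsg.Agent.Lib.Helper57_BrauerFeit.bset B,
        (n ψ : ℂ) * ((k ψ ξ : ℂ) * (ξ : G → ℂ) g) := by
    intro ψ hψ
    rw [mul_left_comm, hk ψ (Cfsg.Agent.Lib.Helper57_BrauerFeit.mem_bset.mp hψ) g, Finset.mul_sum]
  rw [Finset.sum_congr rfl h1, Finset.sum_comm]
  refine Finset.sum_congr rfl fun ξ _ => ?_
  push_cast
  rw [Finset.sum_mul]
  refine Finset.sum_congr rfl fun ψ _ => ?_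
  ring

end Cfsg.Agent.S4666
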