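import Cfsg.Statements.S4668
import Cfsg.Agent.S4653
import Cfsg.Agent.Lib.Helper77_WeakOrth
import Cfsg.Agent.Lib.Helper23_CharP

set_option autoImplicit false
open Cfsg

namespace Cfsg.Agent.S4668

/-- Fix a prime p and a maximal ideal M of the algebraic integers containing p. Let Q₀ < Q₁ < ⋯ < Q_m be a strictly increasing chain of p-subgroups of the finite group G and N the intersection of their normalizers. Then every block idempotent of N is supported on C_G(Q_m): for every p-block E of N, the idempotent coefficient of E vanishes at every element of N outside C_G(Q_m). -/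
theorem result {G : Type*} [Group G] [Fintype G] (p : ℕ) [Fact p.Prime] (M : Ideal Cfsg.AlgInt) (hM : Cfsg.IsPModular p M) (m : ℕ) (Q : Fin (m + 1) → Subgroup G) (hQ : StrictMono Q) (hQp : ∀ i, IsPGroup p (Q i)) (N : Subgroup G) (hN : ∀ g : G, g ∈ N ↔ ∀ i, g ∈ Subgroup.normalizer (Q i : Set G)) (E : Set (Cfsg.IrrCharacter N)) (hE : Cfsg.IsPBlock M E) (n : N) (hn : (n : G) ∉ Subgroup.centralizer (Q (Fin.last m) : Set G)) : Cfsg.blockCoeff E n = 0 := by
  classical
  have := Fintype.ofFinite N
  -- `p`-singular elements
  by_cases hsing : p ∣ orderOf n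
  · exact Cfsg.Agent.Lib.Helper77_WeakOrth.blockCoeff_block_eq_zero_of_sing hM hE n hsing
  -- the normal `p`-subgroup `Q_m ∩ N` of `N`
  have hNQ : ∀ i, N ≤ Subgroup.normalizer (Q i : Set G) := fun i g hg => (hN g).mp hg i
  have hPn : ((Q (Fin.last m)).subgroupOf N).Normal := by
    have h1 : ((Q (Fin.last m) ⊓ N).subgroupOf N).Normal := by
      rw [Subgroup.normal_subgroupOf_iff_le_normalizer inf_le_right]
      intro g hg
      rw [Subgroup.mem_normalizer_iff]
      intro h
      have hg1 := Subgroup.mem_normalizer_iff.mp (hNQ (Fin.last m) hg) h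
      rw [Subgroup.mem_inf, Subgroup.mem_inf, hg1]
      constructor
      · rintro ⟨h1, h2⟩
        exact ⟨h1, N.mul_mem (N.mul_mem hg h2) (N.inv_mem hg)⟩
      · rintro ⟨h1, h2⟩
        refine ⟨h1, ?_⟩
        have := N.mul_mem (N.mul_mem (N.inv_mem hg) h2) hg
        simpa [mul_assoc] using this
    rwa [Subgroup.inf_subgroupOf_right] at h1
  have hPp : IsPGroup p ((Q (Fin.last m)).subgroupOf N) := (hQp (Fin.last m)).comap_subtype
  by_cases hc : n ∈ Subgroup.centralizer (((Q (Fin.last m)).subgroupOf N : Subgroup N) : Set N)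
  swap
  · exact Cfsg.Agent.S4653.result p M hM ((Q (Fin.last m)).subgroupOf N) hPp E hE n hc
  -- now `n` is `p`-regular and centralizes `Q_m ∩ N`
  exfalso
  apply hn
  have hcomm : ∀ q : G, q ∈ N → q ∈ Q (Fin.last m) → (n : G) * q = q * (n : G) := by
    intro q hqN hqQ
    have h1 := Subgroup.mem_centralizer_iff.mp hc ⟨q, hqN⟩
      (by rw [SetLike.mem_coe, Subgroup.mem_subgroupOf]; exact hqQ)
    have h2 := congrArg (Subtype.val) h1
    simpa using h2.symm
  have hcop : (orderOf (n : G)).Coprime p := by
    rw [Subgroup.orderOf_coe]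
    exact ((Nat.Prime.coprime_iff_not_dvd (Fact.out : p.Prime)).mpr hsing).symm
  have hmono : Monotone Q := hQ.monotone
  have key : ∀ i : Fin (m + 1), ∀ q ∈ Q i, (n : G) * q = q * (n : G) := by
    intro i
    induction i using Fin.induction with
    | zero =>
      intro q hq
      refine hcomm q ?_ (hmono (Fin.zero_le _) hq)
      rw [hN]
      intro j
      exact Subgroup.le_normalizer (hmono (Fin.zero_le j) hq)
    | succ i ih =>
      refine Cfsg.Agent.Lib.Helper23_CharP.pxq (Q i.succ) (Q i.castSucc) (hQp _) (hQp _)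
        ?_ (n : G) hcop ?_ ih ?_
      · exact le_trans (hmono (le_of_lt (Fin.castSucc_lt_succ (i := i)))) Subgroup.le_normalizer
      · intro q hq
        exact (Subgroup.mem_normalizer_iff.mp (hNQ i.succ n.2) q).mp hq
      · intro q hq hqc
        refine hcomm q ?_ (hmono (Fin.le_last _) hq)
        rw [hN]
        intro j
        rcases le_or_gt j i.castSucc with hj | hj
        · apply Subgroup.centralizer_le_normalizer
          rw [Subgroup.mem_centralizer_iff]
          intro b hb
          exact (hqc b (hmono hj hb)).symm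
        · rw [Fin.castSucc_lt_iff_succ_le] at hj
          exact Subgroup.le_normalizer (hmono hj hq)
  rw [Subgroup.mem_centralizer_iff]
  intro q hq
  exact (key (Fin.last m) q hq).symm

end Cfsg.Agent.S4668
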