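import Mathlib
import Cfsg.Statements.S4673
import Cfsg.Agent.Lib.Helper16_Cover
import Cfsg.Agent.Lib.Helper77_StableCover
import Cfsg.Agent.Lib.Helper77_FongReynolds
import Cfsg.Agent.Lib.Helper77_FongReynolds2
import Cfsg.Agent.Lib.Helper77_QuotDefect2
import Cfsg.Agent.Lib.Helper78_LocalRing
import Cfsg.Agent.Lib.Helper78_Transport
import Cfsg.Agent.Lib.Helper78_TransportBlocks
import Cfsg.Agent.Lib.Helper78_PairConj
import Cfsg.Agent.Lib.Helper82_CoverDefect

set_option autoImplicit false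
open Cfsg

namespace Cfsg.Agent.S4673

/-- Fix a prime p and a maximal ideal M of the algebraic integers containing p. Let N ≤ L be normal subgroups of the finite group G with L/N a p-group, let B be a p-block of G covering the p-block c of N (some member of B has a constituent in c on restriction to N), and suppose that N contains a defect group of B. Then the stabilizer T of c in G satisfies T ∩ L = N. -/
theorem result {G : Type*} [Group G] [Fintype G] (p : ℕ) [Fact p.Prime] (M : Ideal Cfsg.AlgInt) (hM : Cfsg.IsPModular p M) (N L : Subgroup G) [N.Normal] [L.Normal] [Fintype N] (hNL : N ≤ L) (hLN : ∃ k : ℕ, (N.subgroupOf L).index = p ^ k) (B : Set (Cfsg.IrrCharacter G)) (hB : Cfsg.IsPBlock M B) (c : Set (Cfsg.IrrCharacter N)) (hc : Cfsg.IsPBlock M c) (hcov : (∃ χ ∈ B, ∃ θ ∈ c, Cfsg.classInner (fun n : N => (χ : G → ℂ) n) (θ : N → ℂ) ≠ 0)) (hD : ∃ D : Subgroup G, Cfsg.IsDefectGroup p M B D ∧ D ≤ N) (T : Subgroup G) (hT : ∀ x : G, x ∈ T ↔ Cfsg.StabilizesBlock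 N c x) : T ⊓ L = N := by
  classical
  have hp : p.Prime := Fact.out
  have hMp := Cfsg.Agent.Lib.Helper78_LocalRing.isPrime_of_isPModular hM
  have hNn : N.Normal := inferInstance
  -- the stabilizer in the `cjIrr` form
  have hT' : ∀ g : G, g ∈ T ↔ ∀ θ ∈ c, Cfsg.Agent.Lib.Helper16_Cover.cjIrr N g θ ∈ c := by
    intro g
    rw [hT g]
    constructor
    · intro h θ hθ
      exact Cfsg.Agent.Lib.Helper77_StableCover.cjIrr_mem_of_stabilizes N h hθ
    · intro h
      refine ⟨?_, ?_⟩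
      · rw [Subgroup.normalizer_eq_top]
        exact Subgroup.mem_top g
      · intro χ hχ
        refine ⟨Cfsg.Agent.Lib.Helper16_Cover.cjIrr N g χ, h χ hχ, ?_⟩
        intro k k' hk
        show Cfsg.Agent.Lib.Helper16_Orbit.cj N g (χ : N → ℂ) k' = (χ : N → ℂ) k
        unfold Cfsg.Agent.Lib.Helper16_Orbit.cj
        have h1 : (MulAut.conjNormal g⁻¹ : MulAut N) k' = k := by
          apply Subtype.ext
          rw [MulAut.conjNormal_apply, hk]
          group
        rw [h1]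
  -- `N ≤ T`
  have hNT : N ≤ T := by
    intro n hn
    rw [hT' n]
    intro θ hθ
    have : Cfsg.Agent.Lib.Helper16_Cover.cjIrr N n θ = θ := by
      apply Subtype.ext
      funext k
      show Cfsg.Agent.Lib.Helper16_Orbit.cj N n (θ : N → ℂ) k = (θ : N → ℂ) k
      unfold Cfsg.Agent.Lib.Helper16_Orbit.cj
      have hcf := Cfsg.Agent.Lib.Helper78_CentralChar.isIrrCharacter_isClassFunction θ.2
      have h1 : (MulAut.conjNormal n⁻¹ : MulAut N) k = (⟨n, hn⟩ : N)⁻¹ * k * (⟨n, hn⟩ : N)⁻¹⁻¹ := by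
        apply Subtype.ext
        rw [MulAut.conjNormal_apply]
        simp
      rw [h1]
      exact hcf k _
    rw [this]
    exact hθ
  apply le_antisymm
  swap
  · exact le_inf hNT hNL
  -- Fong–Reynolds
  obtain ⟨B', hB', hcov', hind⟩ :=
    Cfsg.Agent.Lib.Helper77_FongReynolds2.fr_part3 hNT hMp hc hT' hB hcov
  have hfr := Cfsg.Agent.Lib.Helper77_FongReynolds2.fr_heights hNT p hM hc hT' hB' hcov' hind
  obtain ⟨D', hD'⟩ := Cfsg.Agent.Lib.Helper77_QuotDefect2.exists_dg (H := T) hM hB'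
  have hD'G := hfr.1 D' hD'
  obtain ⟨D, hDdef, hDN⟩ := hD
  obtain ⟨y, hy⟩ := Cfsg.Agent.Lib.Helper78_PairConj.exists_conj_eq_of_isDefectGroup hM hB
    hDdef hD'G
  have hD'N : D' ≤ N.subgroupOf T := by
    intro d hd
    rw [Subgroup.mem_subgroupOf]
    have h1 : (d : G) ∈ D'.map T.subtype := ⟨d, hd, rfl⟩
    rw [← hy] at h1
    obtain ⟨d₀, hd₀, hd₀e⟩ := h1
    rw [← hd₀e]
    simp only [MulEquiv.coe_toMonoidHom, MulAut.conj_apply]
    exact hNn.conj_mem d₀ (hDN hd₀) y
  -- transport to `T`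
  let e : N.subgroupOf T ≃* N := Subgroup.subgroupOfEquivOfLe hNT
  have hnormalN : (N.subgroupOf T).Normal := Subgroup.normal_subgroupOf
  have hnormalL : (L.subgroupOf T).Normal := Subgroup.normal_subgroupOf
  set cT : Set (Cfsg.IrrCharacter (N.subgroupOf T)) :=
    Cfsg.Agent.Lib.Helper78_TransportBlocks.mapBlock e c with hcT
  have hcTb : Cfsg.IsPBlock M cT := Cfsg.Agent.Lib.Helper78_TransportBlocks.isPBlock_mapBlock e hc
  have hstT : ∀ t : T, Cfsg.StabilizesBlock (N.subgroupOf T) cT t := fun t =>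
    Cfsg.Agent.Lib.Helper82_CoverDefect.stabilizesBlock_subgroupOf N T hNT t ((hT t).mp t.2)
  have hcovT : ∃ ψ ∈ B', ∃ θ ∈ cT, Cfsg.classInner
      (fun n : N.subgroupOf T => (ψ : T → ℂ) n) (θ : N.subgroupOf T → ℂ) ≠ 0 := by
    obtain ⟨ψ, hψ, θ, hθ, hne⟩ := hcov'
    refine ⟨ψ, hψ, Cfsg.Agent.Lib.Helper78_Transport.irrComp e θ,
      Cfsg.Agent.Lib.Helper78_TransportBlocks.irrComp_mem_mapBlock e hθ, ?_⟩
    have h1 := Cfsg.Agent.Lib.Helper82_CoverDefect.classInner_comp_mulEquiv e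
      (Cfsg.Agent.Lib.Helper77_FongReynolds.resN hNT (ψ : T → ℂ)) (θ : N → ℂ)
    have h2 : (fun n : N.subgroupOf T => (ψ : T → ℂ) n) =
        fun n : N.subgroupOf T =>
          Cfsg.Agent.Lib.Helper77_FongReynolds.resN hNT (ψ : T → ℂ) (e n) := by
      funext n
      unfold Cfsg.Agent.Lib.Helper77_FongReynolds.resN
      congr 1
    have h3 : (Cfsg.Agent.Lib.Helper78_Transport.irrComp e θ : N.subgroupOf T → ℂ) =
        fun n => (θ : N → ℂ) (e n) := by
      funext n
      rw [Cfsg.Agent.Lib.Helper78_Transport.irrComp_apply]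
    rw [h2, h3, h1]
    exact hne
  have hdefT : Cfsg.blockDefect p cT = Cfsg.blockDefect p c :=
    Cfsg.Agent.Lib.Helper82_CoverDefect.blockDefect_mapBlock e c
  -- the two inequalities
  have hle1 := Cfsg.Agent.Lib.Helper82_CoverDefect.defect_le_of_defectGroup_le (N.subgroupOf T) hM
    hB' hcTb hstT hcovT hD' hD'N
  have hNLT : N.subgroupOf T ≤ L.subgroupOf T := by
    intro t ht
    rw [Subgroup.mem_subgroupOf] at ht ⊢
    exact hNL ht
  obtain ⟨k, hk⟩ := hLN
  have hrel : ((N.subgroupOf T).subgroupOf (L.subgroupOf T)).index = N.relIndex (L ⊓ T) := by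
    show (N.subgroupOf T).relIndex (L.subgroupOf T) = N.relIndex (L ⊓ T)
    have h1 := Subgroup.relIndex_comap (H := N) T.subtype (L.subgroupOf T)
    rw [Subgroup.subgroupOf_map_subtype] at h1
    exact h1
  have hdvd : N.relIndex (L ⊓ T) ∣ p ^ k := by
    have h1 := Subgroup.relIndex_mul_relIndex N (L ⊓ T) L (le_inf hNL hNT) inf_le_left
    rw [← hk]
    exact Dvd.intro _ h1
  obtain ⟨k', -, hk'⟩ := (Nat.dvd_prime_pow hp).mp hdvd
  have hle2 := Cfsg.Agent.Lib.Helper82_CoverDefect.defect_add_le_of_covers (N.subgroupOf T)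
    (L.subgroupOf T) hM hNLT (k := k') (by rw [hrel, hk']) hcTb hstT hB' hcovT
  have hk0 : k' = 0 := by omega
  rw [hk0, pow_zero, Subgroup.relIndex_eq_one] at hk'
  exact le_trans (by rw [inf_comm]) hk'

end Cfsg.Agent.S4673
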