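import Cfsg.Statements.S4675
import Cfsg.Agent.Lib.Helper57_BrauerFeit
import Cfsg.Agent.Lib.Helper77_CentralDefect
import Cfsg.Agent.S0874

set_option autoImplicit false
open Cfsg

namespace Cfsg.Agent.S4675

open Cfsg.Agent.Lib.Helper57_PRegInt Cfsg.Agent.Lib.Helper57_HeightZero
  Cfsg.Agent.Lib.Helper57_BrauerFeit Cfsg.Agent.Lib.Helper77_BlockBasics
  Cfsg.Agent.Lib.Helper78_LocalRing
open scoped ComplexConjugate

/-- In a set of irreducible characters of `p`-regular rank one, any two members are proportional on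
the `p`-regular elements, with ratio the ratio of their degrees. -/
theorem prop_of_rank_one {G : Type*} [Group G] [Fintype G] {p : ℕ} (hp : p.Prime)
    {B : Set (IrrCharacter G)}
    (hl : blockRank p B = 1) {χ₀ χ : IrrCharacter G} (h0 : χ₀ ∈ B) (hχ : χ ∈ B) (x : G)
    (hx : ¬ p ∣ orderOf x) :
    (charDegree (χ₀ : G → ℂ) : ℂ) * (χ : G → ℂ) x =
      (charDegree (χ : G → ℂ) : ℂ) * (χ₀ : G → ℂ) x := by
  unfold blockRank at hl
  set S : Set (G → ℂ) := (fun χ : IrrCharacter G => pRegularPart p (χ : G → ℂ)) '' B with hS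
  have hm0 : pRegularPart p (χ₀ : G → ℂ) ∈ Submodule.span ℂ S :=
    Submodule.subset_span ⟨χ₀, h0, rfl⟩
  have hm : pRegularPart p (χ : G → ℂ) ∈ Submodule.span ℂ S :=
    Submodule.subset_span ⟨χ, hχ, rfl⟩
  have h1 : ¬ p ∣ orderOf (1 : G) := by
    rw [orderOf_one]
    exact hp.one_lt.ne' ∘ Nat.dvd_one.mp
  have hd0 : (charDegree (χ₀ : G → ℂ) : ℂ) ≠ 0 := Nat.cast_ne_zero.mpr (charDegree_pos χ₀).ne'
  have hv0 : (⟨pRegularPart p (χ₀ : G → ℂ), hm0⟩ : Submodule.span ℂ S) ≠ 0 := by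
    intro h
    have h2 := congrArg (fun v : Submodule.span ℂ S => (v : G → ℂ) 1) h
    simp only [Submodule.coe_zero, Pi.zero_apply] at h2
    rw [pRegularPart_eq_regPart, regPart_of_not_dvd _ h1, apply_one_eq_charDegree] at h2
    exact hd0 h2
  obtain ⟨c, hc⟩ := (finrank_eq_one_iff_of_nonzero' _ hv0).mp hl ⟨pRegularPart p (χ : G → ℂ), hm⟩
  have hc' : c • pRegularPart p (χ₀ : G → ℂ) = pRegularPart p (χ : G → ℂ) := by
    have := congrArg (fun v : Submodule.span ℂ S => (v : G → ℂ)) hc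
    simpa using this
  rw [pRegularPart_eq_regPart, pRegularPart_eq_regPart] at hc'
  have e1 := congrFun hc' 1
  have ex := congrFun hc' x
  simp only [Pi.smul_apply, smul_eq_mul] at e1 ex
  rw [regPart_of_not_dvd _ h1, regPart_of_not_dvd _ h1, apply_one_eq_charDegree,
    apply_one_eq_charDegree] at e1
  rw [regPart_of_not_dvd _ hx, regPart_of_not_dvd _ hx] at ex
  rw [← ex, ← e1]
  ring

/-- Scaling of the `p`-regular inner product under proportionality on `p`-regular elements. -/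
theorem classInner_regPart_scale {G : Type*} [Group G] [Fintype G] {p : ℕ}
    {α α₀ β β₀ : G → ℂ} {a a' b b' : ℂ}
    (h1 : ∀ x, ¬ p ∣ orderOf x → a * α x = a' * α₀ x)
    (h2 : ∀ x, ¬ p ∣ orderOf x → b * β x = b' * β₀ x) :
    a * conj b * classInner (regPart p α) β = a' * conj b' * classInner (regPart p α₀) β₀ := by
  unfold classInner
  rw [mul_left_comm (a * conj b), mul_left_comm (a' * conj b')]
  congr 1
  rw [Finset.mul_sum, Finset.mul_sum]
  refine Finset.sum_congr rfl fun g _ => ?_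
  by_cases h : p ∣ orderOf g
  · rw [regPart_of_dvd _ h, regPart_of_dvd _ h, zero_mul, zero_mul, mul_zero, mul_zero]
  · rw [regPart_of_not_dvd _ h, regPart_of_not_dvd _ h]
    have e1 := h1 g h
    have e2 := congrArg conj (h2 g h)
    rw [map_mul, map_mul] at e2
    calc a * conj b * (α g * conj (β g)) = (a * α g) * (conj b * conj (β g)) := by ring
      _ = (a' * α₀ g) * (conj b' * conj (β₀ g)) := by rw [e1, e2]
      _ = _ := by ring

/-- Arithmetic: `c * S = p ^ a`, `p ^ h ∣ c`, `¬ p ^ (h+1) ∣ c`, `0 < S` imply `S = p ^ (a - h)`. -/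
theorem arith {p : ℕ} (hp : p.Prime) {c S : ℤ} {a h : ℕ} (hS : 0 < S)
    (hcS : c * S = (p : ℤ) ^ a) (h1 : (p : ℤ) ^ h ∣ c) (h2 : ¬ (p : ℤ) ^ (h + 1) ∣ c) :
    S = (p : ℤ) ^ (a - h) := by
  have hpi : Prime (p : ℤ) := Nat.prime_iff_prime_int.mp hp
  have hp0 : (0 : ℤ) < p := by exact_mod_cast hp.pos
  have hpa : (0 : ℤ) < (p : ℤ) ^ a := pow_pos hp0 a
  have hcpos : 0 < c := by
    by_contra hneg
    rw [not_lt] at hneg
    have : c * S ≤ 0 := mul_nonpos_of_nonpos_of_nonneg hneg hS.le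
    rw [hcS] at this
    exact absurd hpa (not_lt.mpr this)
  obtain ⟨j, hj, hassoc⟩ := (dvd_prime_pow hpi a).mp ⟨S, hcS.symm⟩
  have hcj : c = (p : ℤ) ^ j := Int.eq_of_associated_of_nonneg hassoc hcpos.le (pow_pos hp0 j).le
  rw [hcj] at h1 h2 hcS
  have hhj : h ≤ j := (pow_dvd_pow_iff hp0.ne' hpi.not_isUnit).mp h1
  have hjh : ¬ h + 1 ≤ j := fun hle => h2 (pow_dvd_pow _ hle)
  have hjeq : j = h := by omega
  subst hjeq
  have h3 : (p : ℤ) ^ a = (p : ℤ) ^ j * (p : ℤ) ^ (a - j) := by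
    rw [← pow_add, Nat.add_sub_cancel' hj]
  rw [h3] at hcS
  exact mul_left_cancel₀ (pow_ne_zero _ hp0.ne') hcS

/-- Fix a prime p and a maximal ideal M of the algebraic integers containing p. Let B be a p-block of the finite group G with defect group P and p-regular rank one (a single irreducible Brauer character). Then there are a function φ on G that is, on the p-regular elements, an integer combination of the members of B, and natural numbers d_χ (χ ∈ B), such that every χ ∈ B agrees with d_χ·φ on the p-regular elements and Σ_{χ ∈ B} d_χ² equals the order of P (the single Cartan invariant of B is the order of P). -/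
theorem result {G : Type*} [Group G] [Fintype G] (p : ℕ) [Fact p.Prime] (M : Ideal Cfsg.AlgInt) (hM : Cfsg.IsPModular p M) (B : Set (Cfsg.IrrCharacter G)) (hB : Cfsg.IsPBlock M B) (P : Subgroup G) (hP : Cfsg.IsDefectGroup p M B P) (hl : Cfsg.blockRank p B = 1) : ∃ φ : G → ℂ, ∃ d : Cfsg.IrrCharacter G → ℕ, (∃ n : Cfsg.IrrCharacter G → ℤ, ∀ x : G, Cfsg.IsPRegular p x → φ x = ∑ᶠ ψ ∈ B, (n ψ : ℂ) * (ψ : G → ℂ) x) ∧ (∀ χ ∈ B, ∀ x : G, Cfsg.IsPRegular p x → (χ : G → ℂ) x = (d χ : ℂ) * φ x) ∧ ∑ᶠ χ ∈ B, d χ ^ 2 = Nat.card P := by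
  classical
  have hp : p.Prime := Fact.out
  have hpi : Prime (p : ℤ) := Nat.prime_iff_prime_int.mp hp
  have hI : RegInt G p := regInt_of_brauerLocal hp (fun q hq _ => Cfsg.Agent.S0874.result q hq)
  have hM' := isPrime_of_isPModular hM
  obtain ⟨χ₀, h0B⟩ := isPBlock_nonempty hM' hB
  obtain ⟨χ₁, h1B, h1h⟩ := exists_height_zero_mem (p := p) ⟨χ₀, h0B⟩
  -- degrees and their gcd
  set f : IrrCharacter G → ℤ := fun χ => (charDegree (χ : G → ℂ) : ℤ) with hf
  have hfpos : ∀ χ, 0 < f χ := fun χ => by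
    show (0 : ℤ) < ((charDegree (χ : G → ℂ) : ℕ) : ℤ)
    exact_mod_cast charDegree_pos χ
  have hfC : ∀ χ : IrrCharacter G, ((f χ : ℤ) : ℂ) = (charDegree (χ : G → ℂ) : ℂ) := fun χ => by
    rw [hf]
    push_cast
    rfl
  set g : ℤ := (bset B).gcd f with hg
  have hg_dvd : ∀ χ ∈ B, g ∣ f χ := fun χ hχ => Finset.gcd_dvd (mem_bset.mpr hχ)
  have hg0 : g ≠ 0 := by
    intro h
    have := hg_dvd χ₀ h0B
    rw [h, zero_dvd_iff] at this
    exact (hfpos χ₀).ne' this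
  have hgpos : 0 < g := by
    have h1 : normalize g = g := Finset.normalize_gcd
    have h2 : 0 ≤ g := Int.nonneg_of_normalize_eq_self h1
    exact lt_of_le_of_ne h2 (Ne.symm hg0)
  obtain ⟨n, hn⟩ := Finset.gcd_eq_sum_mul (bset B) f
  rw [← hg] at hn
  set e : IrrCharacter G → ℤ := fun χ => f χ / g with he
  have hfe : ∀ χ ∈ B, f χ = g * e χ := fun χ hχ => (Int.mul_ediv_cancel' (hg_dvd χ hχ)).symm
  have hepos : ∀ χ ∈ B, 0 < e χ := fun χ hχ => by
    have h1 := hfpos χ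
    rw [hfe χ hχ] at h1
    exact (mul_pos_iff_of_pos_left hgpos).mp h1
  have hprop : ∀ χ ∈ B, ∀ x : G, ¬ p ∣ orderOf x →
      (f χ₀ : ℂ) * (χ : G → ℂ) x = (f χ : ℂ) * (χ₀ : G → ℂ) x := fun χ hχ x hx => by
    rw [hfC, hfC]
    exact prop_of_rank_one hp hl h0B hχ x hx
  have hts : (Set.toFinite B).toFinset = bset B := by
    ext ξ
    simp [mem_bset]
  refine ⟨fun x => ∑ᶠ ψ ∈ B, (n ψ : ℂ) * (ψ : G → ℂ) x, fun χ => (e χ).toNat,
    ⟨n, fun x _ => rfl⟩, ?_, ?_⟩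
  · intro χ hχ x hx
    beta_reduce
    rw [finsum_mem_eq_finite_toFinset_sum _ (Set.toFinite B), hts]
    have hd0 : (f χ₀ : ℂ) ≠ 0 := by exact_mod_cast (hfpos χ₀).ne'
    apply mul_left_cancel₀ hd0
    have e2 : (f χ₀ : ℂ) * ∑ ψ ∈ bset B, (n ψ : ℂ) * (ψ : G → ℂ) x =
        (g : ℂ) * (χ₀ : G → ℂ) x := by
      rw [Finset.mul_sum, hn]
      push_cast
      rw [Finset.sum_mul]
      refine Finset.sum_congr rfl fun ψ hψ => ?_
      have := hprop ψ (mem_bset.mp hψ) x hx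
      linear_combination (n ψ : ℂ) * this
    have hdc : (((e χ).toNat : ℕ) : ℂ) = (e χ : ℂ) := by
      have := Int.toNat_of_nonneg (hepos χ hχ).le
      exact_mod_cast congrArg (Int.cast : ℤ → ℂ) this
    rw [hprop χ hχ x hx, hdc, mul_left_comm, e2, hfe χ hχ]
    push_cast
    ring
  · rw [finsum_mem_eq_finite_toFinset_sum _ (Set.toFinite B), hts,
      (Cfsg.Agent.Lib.Helper77_CentralDefect.card_of_isDefectGroup hM hB hP).2]
    -- rank-one relation
    have hrel : ∀ χ ∈ B, ∀ ξ ∈ B, NN hI χ ξ * f χ₀ ^ 2 = f χ * f ξ * NN hI χ₀ χ₀ := by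
      intro χ hχ ξ hξ
      have h := classInner_regPart_scale (p := p) (α := (χ : G → ℂ)) (α₀ := (χ₀ : G → ℂ))
        (β := (ξ : G → ℂ)) (β₀ := (χ₀ : G → ℂ)) (a := (f χ₀ : ℂ)) (a' := (f χ : ℂ))
        (b := (f χ₀ : ℂ)) (b' := (f ξ : ℂ)) (hprop χ hχ) (hprop ξ hξ)
      rw [map_intCast, map_intCast] at h
      have h3 : ((NN hI χ ξ * f χ₀ ^ 2 : ℤ) : ℂ) = ((f χ * f ξ * NN hI χ₀ χ₀ : ℤ) : ℂ) := by
        push_cast
        rw [← NN_spec hI χ ξ, ← NN_spec hI χ₀ χ₀]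
        linear_combination (((p ^ (Nat.card G).factorization p : ℕ) : ℂ)) * h
      exact_mod_cast h3
    obtain ⟨c, hc⟩ : ∃ c : ℤ, c = ∑ χ ∈ bset B, ∑ ξ ∈ bset B, n χ * n ξ * NN hI χ ξ := ⟨_, rfl⟩
    have hc1 : c * f χ₀ ^ 2 = g ^ 2 * NN hI χ₀ χ₀ := by
      have hg2 : g ^ 2 = (∑ χ ∈ bset B, f χ * n χ) * (∑ ξ ∈ bset B, f ξ * n ξ) := by
        rw [← hn]
        ring
      rw [hc, Finset.sum_mul, hg2, Finset.sum_mul_sum, Finset.sum_mul]
      refine Finset.sum_congr rfl fun χ hχ => ?_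
      rw [Finset.sum_mul, Finset.sum_mul]
      refine Finset.sum_congr rfl fun ξ hξ => ?_
      have := hrel χ (mem_bset.mp hχ) ξ (mem_bset.mp hξ)
      linear_combination (n χ * n ξ) * this
    have hNN : ∀ χ ∈ B, ∀ ξ ∈ B, NN hI χ ξ = e χ * e ξ * c := by
      intro χ hχ ξ hξ
      have h1 := hrel χ hχ ξ hξ
      have h2 : (f χ₀ ^ 2 * g ^ 2) ≠ 0 :=
        mul_ne_zero (pow_ne_zero _ (hfpos χ₀).ne') (pow_ne_zero _ hg0)
      apply mul_right_cancel₀ h2
      have e1 := hfe χ hχ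
      have e2 := hfe ξ hξ
      linear_combination g ^ 2 * h1 - e χ * e ξ * g ^ 2 * hc1 +
        g ^ 2 * NN hI χ₀ χ₀ * f ξ * e1 + g ^ 3 * NN hI χ₀ χ₀ * e χ * e2
    have hv := NN_val_of_height_zero hp hM hB hI h1B h1B h1h
    have hc0 : c ≠ 0 := by
      intro h
      apply hv.1
      rw [hNN χ₁ h1B χ₁ h1B, h, mul_zero]
    have hcS : c * ∑ ξ ∈ bset B, e ξ ^ 2 = (p : ℤ) ^ (Nat.card G).factorization p := by
      have h := sum_NN_sq_block hM hB hI h1B
      have h2 : ∑ ξ ∈ bset B, NN hI χ₁ ξ ^ 2 =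
          (e χ₁ ^ 2 * c) * (c * ∑ ξ ∈ bset B, e ξ ^ 2) := by
        rw [Finset.mul_sum, Finset.mul_sum]
        refine Finset.sum_congr rfl fun ξ hξ => ?_
        rw [hNN χ₁ h1B ξ (mem_bset.mp hξ)]
        ring
      rw [h2, hNN χ₁ h1B χ₁ h1B] at h
      have h3 : e χ₁ ^ 2 * c ≠ 0 := mul_ne_zero (pow_ne_zero _ (hepos χ₁ h1B).ne') hc0
      apply mul_left_cancel₀ h3
      rw [h]
      push_cast
      ring
    have hdvd : (p : ℤ) ^ h0 p B ∣ c := by
      rw [hc]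
      refine Finset.dvd_sum fun χ hχ => Finset.dvd_sum fun ξ hξ => ?_
      apply Dvd.dvd.mul_left
      exact (pow_dvd_pow _ (h0_le (mem_bset.mp hχ))).trans (pow_dvd_NN hp hI χ ξ)
    have hndvd : ¬ (p : ℤ) ^ (h0 p B + 1) ∣ c := by
      intro h
      have h2 : (p : ℤ) ^ (h0 p B + 1) ∣ NN hI χ₁ χ₁ := by
        rw [hNN χ₁ h1B χ₁ h1B]
        exact Dvd.dvd.mul_left h _
      rw [padicValInt_dvd_iff] at h2
      rcases h2 with h2 | h2
      · exact hv.1 h2
      · rw [hv.2, val_eq_h0_add h1B, h1h] at h2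
        omega
    have hSpos : 0 < ∑ ξ ∈ bset B, e ξ ^ 2 := by
      have h1 : 0 ≤ ∑ ξ ∈ bset B, e ξ ^ 2 := Finset.sum_nonneg fun ξ _ => sq_nonneg _
      have h2 : ∑ ξ ∈ bset B, e ξ ^ 2 ≠ 0 := by
        intro h
        rw [h, mul_zero] at hcS
        exact (pow_ne_zero _ (by exact_mod_cast hp.ne_zero)) hcS.symm
      exact lt_of_le_of_ne h1 (Ne.symm h2)
    have hmain := arith hp hSpos hcS hdvd hndvd
    rw [blockDefect_eq]
    zify
    rw [← hmain]
    refine Finset.sum_congr rfl fun ξ hξ => ?_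
    rw [Int.toNat_of_nonneg (hepos ξ (mem_bset.mp hξ)).le]

end Cfsg.Agent.S4675
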