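import Cfsg.Statements.S4694
import Cfsg.Agent.Lib.Helper77_Weight
import Cfsg.Agent.Lib.Helper78_TransportBlocks
import Cfsg.Agent.Lib.Helper78_FirstMain

set_option autoImplicit false
open Cfsg

namespace Cfsg.Agent.S4694

open Cfsg.Agent.Lib.Helper78_TransportBlocks Cfsg.Agent.Lib.Helper78_Transport
  Cfsg.Agent.Lib.Helper77_Weight

theorem result {G : Type*} [Group G] [Fintype G] (p : ℕ) [Fact p.Prime] (M : Ideal Cfsg.AlgInt) (hM : Cfsg.IsPModular p M) (B : Set (Cfsg.IrrCharacter G)) (Q : Subgroup G) (e : Set (Cfsg.IrrCharacter (Subgroup.centralizer (Q : Set G)))) (hQe : Cfsg.IsBrauerPairOf p M B Q e) (T : Subgroup G) (hT : ∀ y : G, y ∈ T ↔ y ∈ Subgroup.normalizer (Q : Set G) ∧ Cfsg.StabilizesBlock (Subgroup.centralizer (Q : Set G)) e y) (F' : Set (Cfsg.IrrCharacter T)) (hF' : Cfsg.IsPBlock M F') (hF'e : ∀ t : T, Cfsg.blockCoeff F' t = Cfsg.subgroupBlockCoeff (Subgroup.centralizer (Q : Set G)) e (t : G)) (χ : Cfsg.IrrCharacter T) (hχ : χ ∈ F') (hχQ : ∀ q : G, q ∈ Q → ∀ t :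 T, ∀ t' : T, (t' : G) = q * (t : G) → (χ : T → ℂ) t' = (χ : T → ℂ) t) (hdeg : (Cfsg.charDegree (χ : T → ℂ)).factorization p + (Nat.card Q).factorization p = (Nat.card T).factorization p) : Cfsg.IsDefectGroup p M e ((Q ⊓ Subgroup.centralizer (Q : Set G)).subgroupOf (Subgroup.centralizer (Q : Set G))) ∧ ∀ R : Subgroup G, R ≤ T → IsPGroup p R → (∀ t ∈ T, t ∈ Subgroup.normalizer (R : Set G)) → R ≤ Q := by
  classical
  obtain ⟨⟨hQp, he⟩, hB, hbr⟩ := hQe
  have hTN : T ≤ Subgroup.normalizer (Q : Set G) := fun y hy => ((hT y).mp hy).1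
  have hTNC : T ≤ Subgroup.normalizer ((Subgroup.centralizer (Q : Set G) : Subgroup G) : Set G) :=
    fun y hy => ((hT y).mp hy).2.1
  have hCT : Subgroup.centralizer (Q : Set G) ≤ T := by
    intro h hh
    rw [hT]
    refine ⟨Cfsg.Agent.Lib.Helper78_FirstMain.centralizer_le_normalizer Q hh,
      Subgroup.le_normalizer hh, fun ξ hξ => ⟨ξ, hξ, ?_⟩⟩
    intro k k' hk
    have h1 := Cfsg.Agent.Lib.Helper78_CentralChar.isIrrCharacter_isClassFunction ξ.2 k ⟨h, hh⟩
    rw [← h1]
    refine congrArg _ (Subtype.ext ?_)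
    rw [hk]
    rfl
  have hQT : Q ≤ T := by
    intro q hq
    rw [hT]
    have hqC : q ∈ Subgroup.centralizer
        ((Subgroup.centralizer (Q : Set G) : Subgroup G) : Set G) := by
      rw [Subgroup.mem_centralizer_iff]
      intro c hc
      exact (Subgroup.mem_centralizer_iff.mp hc q hq).symm
    refine ⟨Subgroup.le_normalizer hq,
      Cfsg.Agent.Lib.Helper78_FirstMain.centralizer_le_normalizer _ hqC, fun ξ hξ => ⟨ξ, hξ, ?_⟩⟩
    intro k k' hk
    refine congrArg _ (Subtype.ext ?_)
    rw [hk]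
    have := Subgroup.mem_centralizer_iff.mp k.2 q hq
    rw [this]
    group
  have : Fintype T := Fintype.ofFinite T
  have hQn : (Q.subgroupOf T).Normal :=
    (Subgroup.normal_subgroupOf_iff_le_normalizer hQT).2 hTN
  have hCn : ((Subgroup.centralizer (Q : Set G)).subgroupOf T).Normal :=
    (Subgroup.normal_subgroupOf_iff_le_normalizer hCT).2 hTNC
  have : Fintype ((Subgroup.centralizer (Q : Set G)).subgroupOf T) := Fintype.ofFinite _
  have hQxp : IsPGroup p (Q.subgroupOf T) := hQp.comap_subtype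
  have hQk : ∀ q ∈ Q.subgroupOf T, (χ : T → ℂ) q = (χ : T → ℂ) 1 := by
    intro q hq
    exact hχQ (q : G) hq 1 q (by simp)
  have hdeg' : (charDegree (χ : T → ℂ)).factorization p +
      (Nat.card (Q.subgroupOf T)).factorization p = (Nat.card T).factorization p := by
    rw [Nat.card_congr (Subgroup.subgroupOfEquivOfLe hQT).toEquiv]
    exact hdeg
  constructor
  · have hc : IsPBlock M (mapBlock (Subgroup.subgroupOfEquivOfLe hCT) e) :=
      isPBlock_mapBlock _ he
    have hst : ∀ x : T, StabilizesBlock ((Subgroup.centralizer (Q : Set G)).subgroupOf T)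
        (mapBlock (Subgroup.subgroupOfEquivOfLe hCT) e) x := by
      intro x
      refine ⟨?_, ?_⟩
      · have h1 := Subgroup.normalizer_eq_top_iff.mpr hCn
        rw [h1]
        exact Subgroup.mem_top x
      · rintro _ ⟨ξ, hξ, rfl⟩
        obtain ⟨ξ', hξ', hconj⟩ := ((hT x).mp x.2).2.2 ξ hξ
        refine ⟨irrComp (Subgroup.subgroupOfEquivOfLe hCT) ξ', irrComp_mem_mapBlock _ hξ', ?_⟩
        intro k k' hkk'
        rw [irrComp_apply, irrComp_apply]
        apply hconj
        have := congrArg Subtype.val hkk'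
        exact this
    have hFc : ∀ x : T, blockCoeff F' x =
        subgroupBlockCoeff ((Subgroup.centralizer (Q : Set G)).subgroupOf T)
          (mapBlock (Subgroup.subgroupOfEquivOfLe hCT) e) x := by
      intro x
      rw [hF'e]
      unfold subgroupBlockCoeff
      by_cases hx : (x : G) ∈ Subgroup.centralizer (Q : Set G)
      · rw [dif_pos hx, dif_pos (show x ∈ (Subgroup.centralizer (Q : Set G)).subgroupOf T from hx),
          blockCoeff_mapBlock]
        rfl
      · rw [dif_neg hx, dif_neg (show ¬ x ∈ (Subgroup.centralizer (Q : Set G)).subgroupOf T from hx)]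
    have hcomm : ∀ q ∈ Q.subgroupOf T, ∀ c ∈ (Subgroup.centralizer (Q : Set G)).subgroupOf T,
        q * c = c * q := by
      intro q hq c hc
      apply Subtype.ext
      exact Subgroup.mem_centralizer_iff.mp hc (q : G) hq
    have hD := isDefectGroup_of_weight hM (Q.subgroupOf T)
      ((Subgroup.centralizer (Q : Set G)).subgroupOf T) hQxp hcomm hc hst hFc χ hχ hQk hdeg'
    have hD2 := isDefectGroup_mapBlock (Subgroup.subgroupOfEquivOfLe hCT).symm hD
    rw [mapBlock_symm_mapBlock] at hD2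
    convert hD2 using 1
    ext z
    rw [Subgroup.mem_subgroupOf, Subgroup.mem_map]
    constructor
    · intro hz
      refine ⟨(Subgroup.subgroupOfEquivOfLe hCT).symm z, ?_, ?_⟩
      · rw [Subgroup.mem_subgroupOf, Subgroup.mem_inf, Subgroup.mem_subgroupOf,
          Subgroup.mem_subgroupOf]
        exact hz
      · simp
    · rintro ⟨w, hw, rfl⟩
      rw [Subgroup.mem_subgroupOf, Subgroup.mem_inf, Subgroup.mem_subgroupOf,
        Subgroup.mem_subgroupOf] at hw
      exact hw
  · intro R hRT hRp hRn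
    have hRnorm : (R.subgroupOf T).Normal :=
      (Subgroup.normal_subgroupOf_iff_le_normalizer hRT).2 (fun t ht => hRn t ht)
    have h1 := normal_pgroup_le χ (Q.subgroupOf T) hQxp hQk hdeg' (R.subgroupOf T)
      hRp.comap_subtype
    intro r hr
    exact h1 (show (⟨r, hRT hr⟩ : T) ∈ R.subgroupOf T from hr)

end Cfsg.Agent.S4694
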