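import Cfsg.Statements.S4699
-- import your own Cfsg.Agent.* helpers here
import Cfsg.Agent.Lib.Helper71_S4504_G1
import Cfsg.Agent.Lib.Helper57_S4699_GEOM
import Cfsg.Agent.Lib.Helper52_S4699_ORB
import Cfsg.Agent.Lib.Helper34_S4699_PHIB
import Cfsg.Agent.Lib.Helper55_S4699_DEC
import Cfsg.Agent.Lib.Helper58_S4699_L

set_option autoImplicit false
open Cfsg

namespace Cfsg.Agent.S4699

open Cfsg.Agent.Lib.Helper71_S4504_G1

/-- if `D` is nilpotent and `range (D^a) ≤ range (D^(a+1))` then `D^a = 0` -/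
theorem pow_eq_zero_of_range_le {F : Type*} [Field F] {V : Type*} [AddCommGroup V] [Module F V]
    (D : Module.End F V) (m : ℕ) (hD : D ^ m = 0) (a : ℕ)
    (h : LinearMap.range (D ^ a) ≤ LinearMap.range (D ^ (a + 1))) : D ^ a = 0 := by
  have key : ∀ k : ℕ, LinearMap.range (D ^ a) ≤ LinearMap.range (D ^ (a + k)) := by
    intro k
    induction k with
    | zero => simp
    | succ k ih =>
      intro v hv
      obtain ⟨u, hu⟩ := h hv
      have h1 : (D ^ a) u ∈ LinearMap.range (D ^ (a + k)) := ih ⟨u, rfl⟩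
      obtain ⟨u', hu'⟩ := h1
      refine ⟨u', ?_⟩
      rw [← hu, pow_succ' D a, Module.End.mul_apply, ← hu', ← Module.End.mul_apply, ← pow_succ',
        add_assoc]
  have h0 : LinearMap.range (D ^ a) ≤ ⊥ := by
    have := key m
    rwa [pow_add, hD, mul_zero, LinearMap.range_zero] at this
  exact LinearMap.range_eq_bot.1 (le_bot_iff.1 h0)

/-- the combination of PK-ORB and PK-PHIB -/
theorem exists_phi {F : Type*} [Field F] {p : ℕ} [Fact p.Prime] [CharP F p] {G : Type*} [Group G]
    [Finite G] (P : Sylow p G) (x : G) (hxP : (P : Subgroup G) = Subgroup.zpowers x)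
    {V : Type*} [AddCommGroup V] [Module F V] (ρ : Representation F G V) :
    ∃ (φ w : Module.End F V) (e : ℕ), ¬ p ∣ e ∧
      (∀ n ∈ Subgroup.normalizer ((P : Subgroup G) : Set G), φ * ρ n = ρ n * φ) ∧
      (∀ t : Module.End F V, (∀ g : G, t * ρ g = ρ g * t) → t * φ = φ * t) ∧
      w * ρ x = ρ x * w ∧
      φ = (e : F) • (ρ x - 1) ^ (p - 1) + (ρ x - 1) ^ p * w := by
  obtain ⟨O, hOcard, hO1, hO2⟩ := Cfsg.Agent.Lib.Helper52_S4699_ORB.exists_conj_set P x hxP
  obtain ⟨φ, w, h1, h2, h3, h4⟩ :=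
    Cfsg.Agent.Lib.Helper34_S4699_PHIB.phi_of_conj_set (F := F) x (Subgroup.normalizer ((P : Subgroup G) : Set G)) O hO1 hO2 ρ
  exact ⟨φ, w, O.card, hOcard, h1, h2, h3, h4⟩

/-- Let p be a prime and G a finite group whose Sylow p-subgroup P is cyclic of order p^n with n ≥ 2 and meets every other Sylow p-subgroup trivially. Then every faithful irreducible representation of G on a finite-dimensional space over a finite field of characteristic p has dimension at least p^n − (p − 1). -/
theorem result {G : Type*} [Group G] [Finite G] (p : ℕ) [Fact p.Prime] (P : Sylow p G) (hcyc : IsCyclic P) (n : ℕ) (hn : 2 ≤ n) (hPn : Nat.card P = p ^ n) (hTI : ∀ Q : Sylow p G, Q ≠ P → (P : Subgroup G) ⊓ (Q : Subgroup G) = ⊥) (F : Type*) [Field F] [Finite F] [CharP F p] (V : Type*) [AddCommGroup V] [Module F V] [FiniteDimensional F V] (ρ : Representation F G V) (hfaith : Function.Injective ρ) (hirr : ρ.IsIrreducible) : p ^ n - (p - 1) ≤ Module.finrank F V := by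
  classical
  by_contra hlt
  have hp : p.Prime := Fact.out
  have hp2 : 2 ≤ p := hp.two_le
  have hpn : p ≤ p ^ n := by
    calc p = p ^ 1 := (pow_one p).symm
      _ ≤ p ^ n := Nat.pow_le_pow_right hp.pos (by omega)
  have hdq : p + Module.finrank F V ≤ p ^ n := by omega
  -- the generator
  obtain ⟨x, hx⟩ := hcyc.exists_generator
  have hord : orderOf (x : G) = p ^ n := by
    rw [Subgroup.orderOf_coe, orderOf_eq_card_of_forall_mem_zpowers hx, hPn]
  have hxP : (P : Subgroup G) = Subgroup.zpowers (x : G) := by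
    apply le_antisymm
    · intro g hg
      obtain ⟨k, hk⟩ := Subgroup.mem_zpowers_iff.1 (hx ⟨g, hg⟩)
      refine Subgroup.mem_zpowers_iff.2 ⟨k, ?_⟩
      have := congrArg (Subtype.val) hk
      simpa using this
    · exact (Subgroup.zpowers_le).2 x.2
  set X : Module.End F V := ρ (x : G) with hXdef
  set Xi : Module.End F V := ρ (x : G)⁻¹ with hXidef
  have hXXi : X * Xi = 1 := rg_mul_inv ρ (x : G)
  have hXiX : Xi * X = 1 := rg_inv_mul ρ (x : G)
  have hXq : X ^ (p ^ n) = 1 := by
    rw [hXdef, ← map_pow, ← hord, pow_orderOf_eq_one, map_one]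
  set D : Module.End F V := X - 1 with hDdef
  -- (1)
  have hDq : D ^ (p ^ n) = 0 := by
    rw [hDdef, Cfsg.Agent.Lib.Helper57_S4699_GEOM.sub_one_pow_char_pow (F := F) (p := p) n X, hXq, sub_self]
  have hDd : D ^ Module.finrank F V = 0 :=
    Cfsg.Agent.Lib.Helper58_S4699_L.pow_finrank_eq_zero' ⟨p ^ n, hDq⟩
  have hDp1 : D ^ (p - 1) ≠ 0 := by
    intro h0
    have h1 : D ^ (p ^ (n - 1)) = 0 := by
      have hle : p - 1 ≤ p ^ (n - 1) := by
        have : p ^ 1 ≤ p ^ (n - 1) := Nat.pow_le_pow_right hp.pos (by omega)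
        rw [pow_one] at this
        omega
      rw [← Nat.sub_add_cancel hle, pow_add, h0, mul_zero]
    rw [hDdef, Cfsg.Agent.Lib.Helper57_S4699_GEOM.sub_one_pow_char_pow (F := F) (p := p) (n - 1) X, sub_eq_zero, hXdef, ← map_pow] at h1
    have h2 : (x : G) ^ (p ^ (n - 1)) = 1 := hfaith (by rw [h1, map_one])
    have h3 : p ^ n ∣ p ^ (n - 1) := hord ▸ orderOf_dvd_of_pow_eq_one h2
    have h4 := (Nat.pow_dvd_pow_iff_le_right hp.one_lt).1 h3
    omega
  -- (2)
  obtain ⟨φ, w, e, hpe, hφN, hφc, hwX, hφ⟩ := exists_phi (F := F) P (x : G) hxP ρ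
  rw [← hXdef] at hwX hφ
  rw [← hDdef] at hφ
  have heF : (e : F) ≠ 0 := by
    intro h0
    exact hpe ((CharP.cast_eq_zero_iff F p e).1 h0)
  have hwD : Commute w D := by
    rw [hDdef]
    exact (Commute.sub_right hwX (Commute.one_right w))
  -- (3)
  haveI : Fintype (Sylow p G) := Fintype.ofFinite _
  haveI : Fintype (P : Subgroup G) := Fintype.ofFinite _
  have hex : ∀ Q : Sylow p G, ∃ g : G, g • P = Q := fun Q => MulAction.exists_smul_eq G P Q
  choose gQ hgQ using hex
  set τ : Module.End F V := ∑ Q : Sylow p G, cj ρ (gQ Q) φ with hτdef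
  have hτG : ∀ g : G, τ * ρ g = ρ g * τ := fun g => tr_fixed ρ P gQ hgQ φ hφN g
  have hτφ : Commute τ φ := hφc τ hτG
  -- (4)
  obtain ⟨c, hc⟩ := Cfsg.Agent.Lib.Helper55_S4699_DEC.tr_decomp_TI (F := F) P hTI ρ gQ hgQ φ hφN
  set T : Module.End F V := ∑ i ∈ Finset.range (p ^ n), X ^ i * c * Xi ^ i with hTdef
  have hsumT : ∑ u : (P : Subgroup G), cj ρ (u : G) c = T := by
    rw [hTdef]
    symm
    refine Finset.sum_bij (fun i _ => (x ^ i : (P : Subgroup G))) (fun _ _ => Finset.mem_univ _) ?_ ?_ ?_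
    · intro i hi j hj hij
      have hij' : (x : G) ^ i = (x : G) ^ j := by
        have := congrArg (Subtype.val) hij
        simpa using this
      rw [Finset.mem_range, ← hord] at hi hj
      exact pow_injOn_Iio_orderOf hi hj hij'
    · intro u _
      obtain ⟨k, hk⟩ := Subgroup.mem_zpowers_iff.1 (hx u)
      refine ⟨(k % (orderOf x : ℤ)).toNat, ?_, ?_⟩
      · rw [Finset.mem_range, ← hord, ← Subgroup.orderOf_coe]
        have hpos : (0 : ℤ) < orderOf x := by exact_mod_cast orderOf_pos x
        have h1 := Int.emod_nonneg k hpos.ne'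
        have h2 := Int.emod_lt_of_pos k hpos
        rw [Subgroup.orderOf_coe]
        omega
      · have hpos : (0 : ℤ) < orderOf x := by exact_mod_cast orderOf_pos x
        have h1 := Int.emod_nonneg k hpos.ne'
        rw [← hk, ← zpow_natCast, Int.toNat_of_nonneg h1, zpow_mod_orderOf]
    · intro i _
      show X ^ i * c * Xi ^ i = ρ ((x ^ i : (P : Subgroup G)) : G) * c * ρ ((x ^ i : (P : Subgroup G)) : G)⁻¹
      rw [hXdef, hXidef, ← map_pow, ← map_pow, inv_pow, SubgroupClass.coe_pow]
  rw [hsumT, ← hτdef] at hc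
  -- (5)
  have hrange : LinearMap.range T ≤ LinearMap.range (D ^ p) :=
    Cfsg.Agent.Lib.Helper58_S4699_L.range_trace_le (F := F) (p := p) n X Xi hXXi hXiX hXq c p hdq
  have hDp_le : LinearMap.range (D ^ p) ≤ LinearMap.range (D ^ ((p - 1) + 1)) := by
    rw [Nat.sub_add_cancel hp.pos]
  -- Schur
  haveI := hirr
  let f : Representation.IntertwiningMap ρ ρ :=
    τ.intertwiningMap_of_isIntertwiningMap ρ ρ (fun g v => LinearMap.congr_fun (hτG g) v)
  rcases Representation.IsIrreducible.bijective_or_eq_zero f with hbij | hzero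
  · -- τ bijective
    have hτbij : Function.Bijective τ := hbij
    have hτunit : IsUnit τ := (Module.End.isUnit_iff τ).2 hτbij
    have hφnil : IsNilpotent φ := by
      rw [hφ]
      have hDnil : IsNilpotent D := ⟨_, hDd⟩
      have hp1 : p - 1 ≠ 0 := by omega
      have hp0 : p ≠ 0 := by omega
      have h1 : IsNilpotent ((e : F) • D ^ (p - 1)) :=
        IsNilpotent.smul (hDnil.pow_of_pos hp1) _
      have h2 : IsNilpotent (D ^ p * w) :=
        Commute.isNilpotent_mul_right (hwD.symm.pow_left p) (hDnil.pow_of_pos hp0)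
      refine Commute.isNilpotent_add ?_ h1 h2
      refine Commute.smul_left ?_ _
      refine Commute.mul_right ?_ ?_
      · exact (Commute.refl D).pow_pow _ _
      · exact (hwD.symm.pow_left _)
    have hTunit : IsUnit T := by
      have hT : T = τ + -φ := by rw [hc]; abel
      rw [hT]
      exact hφnil.neg.isUnit_add_left_of_commute hτunit (hτφ.symm.neg_left)
    have hTsurj : Function.Surjective T := ((Module.End.isUnit_iff T).1 hTunit).2
    have htop : LinearMap.range (D ^ 0) ≤ LinearMap.range (D ^ (0 + 1)) := by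
      intro v _
      obtain ⟨u, hu⟩ := hrange (LinearMap.range_eq_top.2 hTsurj ▸ Submodule.mem_top : v ∈ LinearMap.range T)
      refine ⟨(D ^ (p - 1)) u, ?_⟩
      rw [← hu, zero_add, pow_one, ← Module.End.mul_apply, ← pow_succ', Nat.sub_add_cancel hp.pos]
    have h0 := pow_eq_zero_of_range_le D _ hDd 0 htop
    apply hDp1
    calc D ^ (p - 1) = D ^ (p - 1) * D ^ 0 := by rw [pow_zero, mul_one]
      _ = 0 := by rw [h0, mul_zero]
  · -- τ = 0
    have hτ0 : τ = 0 := by
      have := congrArg Representation.IntertwiningMap.toLinearMap hzero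
      exact this
    apply hDp1
    apply pow_eq_zero_of_range_le D _ hDd (p - 1)
    refine le_trans ?_ hDp_le
    rintro v ⟨u, rfl⟩
    have h1 : φ u + T u = 0 := by
      have := LinearMap.congr_fun hc u
      rw [hτ0] at this
      simpa using this.symm
    have h2 : (e : F) • (D ^ (p - 1)) u = - T u - (D ^ p) (w u) := by
      have h3 := LinearMap.congr_fun hφ u
      simp only [LinearMap.add_apply, LinearMap.smul_apply, Module.End.mul_apply] at h3
      have h5 : φ u = - T u := eq_neg_of_add_eq_zero_left h1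
      rw [eq_sub_iff_add_eq, ← h3, h5]
    have h4 : (D ^ (p - 1)) u = (e : F)⁻¹ • (- T u - (D ^ p) (w u)) := by
      rw [← h2, smul_smul, inv_mul_cancel₀ heF, one_smul]
    rw [h4]
    refine Submodule.smul_mem _ _ (Submodule.sub_mem _ (Submodule.neg_mem _ (hrange ⟨u, rfl⟩)) ⟨w u, rfl⟩)

end Cfsg.Agent.S4699
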