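import Cfsg.Statements.S4707
import Cfsg.Agent.S0720
import Cfsg.Agent.Lib.Helper76_GalConj
import Cfsg.Agent.Lib.Helper80_CharBasic
import Cfsg.Agent.Lib.Helper69_S4707_A
import Cfsg.Agent.Lib.Helper94_S4707_B
import Cfsg.Agent.Lib.Helper94_S4707_C
import Cfsg.Agent.Lib.Helper23_S4707_D
import Cfsg.Agent.Lib.Helper65_S4707_E1
import Cfsg.Agent.Lib.Helper58_S4707_E2
import Cfsg.Agent.Lib.Helper15_S4707_F
import Cfsg.Agent.Lib.Helper23_S4707_G

/-!
# S4707 (architect helper15; paper proof = pending/helper15/S4707_proof.md)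

Packages: A helper69, B + C helper94, D + G helper23, E1 helper65, E2 helper58, F helper15;
Wielandt's theorem S0720 by helper12 and his team.
-/

set_option autoImplicit false
open Cfsg

namespace Cfsg.Agent.S4707

open MulAction in
/-- Let p > 3 be a prime and G a primitive permutation group of degree 2p that is not doubly transitive. If a Sylow p-subgroup of G has normalizer of order 2p, then p = 5 and G is isomorphic to the alternating group of degree 5. -/
theorem result {α : Type*} [Fintype α] [DecidableEq α] {p : ℕ} [Fact p.Prime] (hp : 3 < p) (hα : Fintype.card α = 2 * p) (G : Subgroup (Equiv.Perm α)) (hprim : MulAction.IsPreprimitive G α) (hnot2 : ¬ MulAction.IsMultiplyPretransitive G α 2) (P : Sylow p G) (hN : Nat.card (Subgroup.normalizer ((P : Subgroup G) : Set G)) = 2 * p) : p = 5 ∧ Nonempty (G ≃* alternatingGroup (Fin 5)) := by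
  classical
  let _ : Fintype ↥G := Fintype.ofFinite _
  have hpp : p.Prime := Fact.out
  have hne : Nonempty α := by
    rw [← Fintype.card_pos_iff, hα]; have := hpp.pos; omega
  obtain ⟨a₀⟩ := hne
  obtain ⟨hPc, hconj, hsing, hstab, hfix, hmove⟩ :=
    Cfsg.Agent.Lib.Helper69_S4707_A.pkA hp hα G hprim P hN
  rcases Cfsg.Agent.S0720.result hpp hα G hprim a₀ with h2 | ⟨h3, a, ha, hpa, hsub⟩
  · exact absurd h2 hnot2
  have htrans : IsPretransitive G α := hprim.toIsPretransitive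
  obtain ⟨ψ₁, ψ₂, hne, h1, h2, hπ⟩ := Cfsg.Agent.Lib.Helper94_S4707_B.pkB (G := G) a₀ h3
  obtain ⟨ρ, hρπ, hρ1, hρP, hρint⟩ :=
    Cfsg.Agent.Lib.Helper94_S4707_C.pkC hp hα ψ₁ ψ₂ hne h1 h2 hπ (P : Subgroup G) hPc hfix
  have hρs : ∀ g : G, p ∣ orderOf g → (ρ : G → ℂ) g = -1 := by
    intro g hg
    obtain ⟨y, hy⟩ := hconj g hg
    rw [← Cfsg.Agent.Lib.Helper80_CharBasic.irr_conj ρ g y]
    apply hρP _ hy
    intro h
    have hg1 : g = 1 := by
      have h' : y⁻¹ * (y * g * y⁻¹) * y = g := by group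
      rw [← h', h]; group
    rw [hg1, orderOf_one] at hg
    exact hpp.one_lt.ne' (Nat.dvd_one.mp hg)
  obtain ⟨b, hb, hbk⟩ := Cfsg.Agent.Lib.Helper23_S4707_D.pkD hα G a₀ a ha hpa hsub
  have hdeg : charDegree (ρ : G → ℂ) = p - 1 := by
    have h := Cfsg.Agent.Lib.Helper76_GalConj.irr_one_eq_charDegree ρ
    rw [hρ1] at h
    have h' : ((p - 1 : ℕ) : ℂ) = (charDegree (ρ : G → ℂ) : ℂ) := by
      rw [← h, Nat.cast_sub hpp.one_lt.le, Nat.cast_one]
    exact_mod_cast h'.symm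
  obtain ⟨m, hm, hsum⟩ := Cfsg.Agent.Lib.Helper65_S4707_E1.pkE1 ρ (by rw [hρπ]; exact one_ne_zero)
    (by rw [hdeg]; omega) a₀ b hb.symm
  obtain ⟨c, hc, hc3⟩ := Cfsg.Agent.Lib.Helper58_S4707_E2.pkE2 ρ hρπ a₀ b hb.symm
    (by rw [hbk, hdeg, hpa]; have : a * (2 * a + 1) = 2 * a ^ 2 + a := by ring
        omega) m hm hsum
  have hcard := Cfsg.Agent.Lib.Helper15_S4707_F.pkF hp hα a₀ hsing hfix hmove ρ hρ1 hρπ hρs hρint
    c hc hc3
  exact Cfsg.Agent.Lib.Helper23_S4707_G.pkG hp hα G hprim P hN hcard a₀ a ha hpa b hb (hsub b hb)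

end Cfsg.Agent.S4707
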