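import Cfsg.Statements.S4708
import Cfsg.Agent.Lib.Helper57_CoverUnder

set_option autoImplicit false
set_option linter.unusedSectionVars false
open Cfsg

namespace Cfsg.Agent.S4708

open scoped ComplexConjugate
open Cfsg.Agent.Lib.Helper3_CharBridge Cfsg.Agent.Lib.Helper3_CharOrtho
  Cfsg.Agent.Lib.Helper3_CharComplete Cfsg.Agent.Lib.Helper3_CharColumn
  Cfsg.Agent.Lib.Helper75_CharArith Cfsg.Agent.Lib.Helper57_PRegInt
  Cfsg.Agent.Lib.Helper57_HeightZero Cfsg.Agent.Lib.Helper57_BrauerFeit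
  Cfsg.Agent.Lib.Helper57_IndBlock
  Cfsg.Agent.Lib.Helper78_LocalRing Cfsg.Agent.Lib.Helper78_CharFacts
  Cfsg.Agent.Lib.Helper16_Orbit Cfsg.Agent.Lib.Helper16_Cover Cfsg.Agent.Lib.Helper77_BlockBasics

section Aux

variable {G : Type*} [Group G] [Fintype G] (H : Subgroup G) [Fintype H]

/-- The multiplicity of `θ` in `χ_H`. -/
noncomputable def mult (χ : IrrCharacter G) (θ : IrrCharacter H) : ℕ :=
  Classical.choose (classInner_isCharacter_nat
    (isCharacter_restrict H (isCharacter_of_isIrrCharacter χ.2))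
    (isCharacter_of_isIrrCharacter θ.2))

theorem mult_spec (χ : IrrCharacter G) (θ : IrrCharacter H) :
    classInner (fun h : H => (χ : G → ℂ) h) (θ : H → ℂ) = (mult H χ θ : ℂ) :=
  Classical.choose_spec (classInner_isCharacter_nat
    (isCharacter_restrict H (isCharacter_of_isIrrCharacter χ.2))
    (isCharacter_of_isIrrCharacter θ.2))

theorem mult_ne_zero_iff (χ : IrrCharacter G) (θ : IrrCharacter H) :
    mult H χ θ ≠ 0 ↔ classInner (fun h : H => (χ : G → ℂ) h) (θ : H → ℂ) ≠ 0 := by
  rw [mult_spec, Nat.cast_ne_zero]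

theorem deg_restrict (χ : IrrCharacter G) :
    charDegree (χ : G → ℂ) = ∑ θ : IrrCharacter H, mult H χ θ * charDegree (θ : H → ℂ) := by
  have hcl : IsClassFunction H (fun h : H => (χ : G → ℂ) h) := by
    intro h k
    exact isClassFunction_of_isIrrCharacter χ.2 (h : G) (k : G)
  have h1 := congrFun (classFunction_eq_sum _ hcl) 1
  rw [Finset.sum_apply] at h1
  have h2 : ((charDegree (χ : G → ℂ) : ℕ) : ℂ) =
      ((∑ θ : IrrCharacter H, mult H χ θ * charDegree (θ : H → ℂ) : ℕ) : ℂ) := by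
    rw [← apply_one_eq_charDegree χ]
    push_cast
    have h1' : (χ : G → ℂ) 1 = ∑ c : IrrCharacter H,
        (classInner (fun h : H => (χ : G → ℂ) h) (c : H → ℂ) • (c : H → ℂ)) 1 := h1
    rw [h1']
    refine Finset.sum_congr rfl fun θ _ => ?_
    rw [Pi.smul_apply, smul_eq_mul, mult_spec, apply_one_eq_charDegree θ]
  exact_mod_cast h2

theorem deg_induce (θ : IrrCharacter H) :
    ∑ χ : IrrCharacter G, mult H χ θ * charDegree (χ : G → ℂ) =
      H.index * charDegree (θ : H → ℂ) := by
  have hcl : IsClassFunction G (indFun H (θ : H → ℂ)) :=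
    Cfsg.Agent.Lib.Helper75_Induced.isClassFunction_indFun H _
  have h1 := congrFun (classFunction_eq_sum _ hcl) 1
  rw [Finset.sum_apply, indFun_one_eq_natCast] at h1
  have h2 : ((H.index * charDegree (θ : H → ℂ) : ℕ) : ℂ) =
      ((∑ χ : IrrCharacter G, mult H χ θ * charDegree (χ : G → ℂ) : ℕ) : ℂ) := by
    rw [h1]
    push_cast
    refine Finset.sum_congr rfl fun χ _ => ?_
    rw [Pi.smul_apply, smul_eq_mul,
      Cfsg.Agent.Lib.Helper75_Induced.frobenius_reciprocity H _ _
        (isClassFunction_of_isIrrCharacter χ.2), ← classInner_conj_symm, mult_spec,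
      Complex.conj_natCast, apply_one_eq_charDegree χ]
  exact_mod_cast h2.symm

end Aux

section Principal

variable {G : Type*} [Group G] [Fintype G] (H : Subgroup G) [hH : H.Normal] [Fintype H] {p : ℕ}
  {M : Ideal AlgInt}

/-- The trivial character. -/
noncomputable def oneIrr (K : Type*) [Group K] : IrrCharacter K :=
  ⟨fun _ => 1, Cfsg.Agent.Lib.Helper80_CharBasic.isIrrCharacter_one K⟩

theorem oneIrr_mem (hM : M.IsPrime) (K : Type*) [Group K] : oneIrr K ∈ principalBlock M K :=
  sameBlock_refl hM _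

theorem isPBlock_principalBlock (K : Type*) [Group K] : IsPBlock M (principalBlock M K) :=
  ⟨oneIrr K, rfl⟩

theorem oneIrr_under : classInner (fun h : H => (oneIrr G : G → ℂ) h) (oneIrr H : H → ℂ) ≠ 0 := by
  have : (fun h : H => (oneIrr G : G → ℂ) h) = (oneIrr H : H → ℂ) := rfl
  rw [this, classInner_self_of_isIrrCharacter (oneIrr H).2]
  exact one_ne_zero

/-- Constituents of restrictions of principal block characters lie in the principal block. -/
theorem mem_principal_of_under (hM : M.IsPrime) (χ : IrrCharacter G)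
    (hχ : χ ∈ principalBlock M G) (ψ : IrrCharacter H) (hψ : mult H χ ψ ≠ 0) :
    ψ ∈ principalBlock M H := by
  have h1 := mem_gClosure_of_sameBlock H hM (isPBlock_principalBlock (M := M) H)
    (χ := oneIrr G) (χ' := χ) hχ (subset_gClosure H _ (oneIrr_mem hM H)) (oneIrr_under H)
    ((mult_ne_zero_iff H χ ψ).mp hψ)
  obtain ⟨x, θ, hθ, h⟩ := h1
  show SameBlock M _ _
  rw [h]
  have h2 : SameBlock M (cj H x (fun _ : H => (1 : ℂ))) (cj H x (θ : H → ℂ)) :=
    sameBlock_cj H x hθ
  exact h2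

end Principal

section Ineq

variable {G : Type*} [Group G] [Fintype G] (H : Subgroup G) [hH : H.Normal] [Fintype H] {p : ℕ}
  {M : Ideal AlgInt}

theorem upper (hM : M.IsPrime) :
    ∑ χ ∈ bset (principalBlock M G), charDegree (χ : G → ℂ) ^ 2 ≤
      H.index * ∑ θ ∈ bset (principalBlock M H), charDegree (θ : H → ℂ) ^ 2 := by
  classical
  have h1 : ∀ χ ∈ bset (principalBlock M G), charDegree (χ : G → ℂ) ^ 2 =
      charDegree (χ : G → ℂ) * ∑ θ ∈ bset (principalBlock M H),
        mult H χ θ * charDegree (θ : H → ℂ) := by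
    intro χ hχ
    rw [sq]
    congr 1
    rw [deg_restrict H χ]
    symm
    apply Finset.sum_subset (Finset.subset_univ _)
    intro θ _ hθ
    have : mult H χ θ = 0 := by
      by_contra hne
      exact hθ (mem_bset.mpr (mem_principal_of_under H hM χ (mem_bset.mp hχ) θ hne))
    rw [this, zero_mul]
  rw [Finset.sum_congr rfl h1]
  calc ∑ χ ∈ bset (principalBlock M G), charDegree (χ : G → ℂ) *
        ∑ θ ∈ bset (principalBlock M H), mult H χ θ * charDegree (θ : H → ℂ)
      ≤ ∑ χ : IrrCharacter G, charDegree (χ : G → ℂ) *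
        ∑ θ ∈ bset (principalBlock M H), mult H χ θ * charDegree (θ : H → ℂ) :=
        Finset.sum_le_sum_of_subset (Finset.subset_univ _)
    _ = ∑ θ ∈ bset (principalBlock M H), charDegree (θ : H → ℂ) *
          ∑ χ : IrrCharacter G, mult H χ θ * charDegree (χ : G → ℂ) := by
        simp_rw [Finset.mul_sum]
        rw [Finset.sum_comm]
        refine Finset.sum_congr rfl fun θ _ => Finset.sum_congr rfl fun χ _ => ?_
        ring
    _ = H.index * ∑ θ ∈ bset (principalBlock M H), charDegree (θ : H → ℂ) ^ 2 := by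
        rw [Finset.mul_sum]
        refine Finset.sum_congr rfl fun θ _ => ?_
        rw [deg_induce H θ]
        ring

theorem lower (hM : IsPModular p M) :
    ∑ θ ∈ bset (principalBlock M H), charDegree (θ : H → ℂ) ^ 2 ≤
      ∑ χ ∈ bset (principalBlock M G), charDegree (χ : G → ℂ) ^ 2 := by
  classical
  have hMp := isPrime_of_isPModular hM
  have hover : ∀ θ : IrrCharacter H, ∃ χ : IrrCharacter G,
      θ ∈ principalBlock M H → χ ∈ principalBlock M G ∧ mult H χ θ ≠ 0 := by
    intro θ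
    by_cases hθ : θ ∈ principalBlock M H
    · obtain ⟨χ, hχ, h⟩ := Cfsg.Agent.Lib.Helper57_CoverUnder.exists_over_of_covers H hM
        (isPBlock_principalBlock (M := M) G) (isPBlock_principalBlock (M := M) H)
        ⟨oneIrr G, oneIrr_mem hMp G, oneIrr H, oneIrr_mem hMp H, oneIrr_under H⟩ θ hθ
      exact ⟨χ, fun _ => ⟨hχ, (mult_ne_zero_iff H χ θ).mpr h⟩⟩
    · exact ⟨oneIrr G, fun h => absurd h hθ⟩
  choose c hc using hover
  have hmaps : ∀ θ ∈ bset (principalBlock M H), c θ ∈ bset (principalBlock M G) :=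
    fun θ hθ => mem_bset.mpr (hc θ (mem_bset.mp hθ)).1
  rw [← Finset.sum_fiberwise_of_maps_to hmaps]
  refine Finset.sum_le_sum fun χ _ => ?_
  calc ∑ θ ∈ (bset (principalBlock M H)).filter (fun θ => c θ = χ), charDegree (θ : H → ℂ) ^ 2
      ≤ ∑ θ ∈ (bset (principalBlock M H)).filter (fun θ => c θ = χ),
          (mult H χ θ * charDegree (θ : H → ℂ)) ^ 2 := by
        refine Finset.sum_le_sum fun θ hθ => ?_
        rw [Finset.mem_filter] at hθ
        have hm : mult H χ θ ≠ 0 := by
          rw [← hθ.2]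
          exact (hc θ (mem_bset.mp hθ.1)).2
        have : 1 ≤ mult H χ θ := Nat.one_le_iff_ne_zero.mpr hm
        calc charDegree (θ : H → ℂ) ^ 2 = (1 * charDegree (θ : H → ℂ)) ^ 2 := by rw [one_mul]
          _ ≤ (mult H χ θ * charDegree (θ : H → ℂ)) ^ 2 :=
            Nat.pow_le_pow_left (Nat.mul_le_mul_right _ this) 2
    _ ≤ ∑ θ : IrrCharacter H, (mult H χ θ * charDegree (θ : H → ℂ)) ^ 2 :=
        Finset.sum_le_sum_of_subset (Finset.subset_univ _)
    _ ≤ (∑ θ : IrrCharacter H, mult H χ θ * charDegree (θ : H → ℂ)) ^ 2 :=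
        Finset.sum_sq_le_sq_sum_of_nonneg fun _ _ => Nat.zero_le _
    _ = charDegree (χ : G → ℂ) ^ 2 := by rw [← deg_restrict H χ]

end Ineq

/-- Let p be a prime, M a maximal ideal of the algebraic integers containing p, G a finite group and H a normal subgroup. Write λ(X) for the sum of the squares of the degrees of the irreducible characters in the principal p-block of a group X. Then λ(H) ≤ λ(G) ≤ [G : H]·λ(H). -/
theorem result {G : Type*} [Group G] [Finite G] (p : ℕ) [Fact p.Prime] (M : Ideal Cfsg.AlgInt) (hM : Cfsg.IsPModular p M) (H : Subgroup G) [H.Normal] : (∑ᶠ θ ∈ Cfsg.principalBlock M H, Cfsg.charDegree (θ : H → ℂ) ^ 2) ≤ (∑ᶠ χ ∈ Cfsg.principalBlock M G, Cfsg.charDegree (χ : G → ℂ) ^ 2) ∧ (∑ᶠ χ ∈ Cfsg.principalBlock M G, Cfsg.charDegree (χ : G → ℂ) ^ 2) ≤ H.index * ∑ᶠ θ ∈ Cfsg.principalBlock M H, Cfsg.charDegree (θ : H → ℂ) ^ 2 := by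
  classical
  have := Fintype.ofFinite G
  have := Fintype.ofFinite H
  have hMp := Cfsg.Agent.Lib.Helper78_LocalRing.isPrime_of_isPModular hM
  rw [finsum_mem_eq_finite_toFinset_sum _ (Set.toFinite (Cfsg.principalBlock M G)),
    finsum_mem_eq_finite_toFinset_sum _ (Set.toFinite (Cfsg.principalBlock M H)),
    Cfsg.Agent.Lib.Helper57_IndBlock.toFinset_eq_bset,
    Cfsg.Agent.Lib.Helper57_IndBlock.toFinset_eq_bset]
  exact ⟨lower H hM, upper H hMp⟩

end Cfsg.Agent.S4708
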