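import Cfsg.Statements.S4714
import Cfsg.Agent.Lib.Helper77_CanonChar
import Cfsg.Agent.Lib.Helper77_NormalDefect
import Cfsg.Agent.Lib.Helper16_BlockOrth
import Cfsg.Agent.Lib.Helper78_CentralChar

set_option autoImplicit false
open Cfsg

namespace Cfsg.Agent.S4714

open Cfsg.Agent.Lib.Helper77_CanonChar Cfsg.Agent.Lib.Helper77_NormalDefect

/-- Let p be a prime, M a maximal ideal of the algebraic integers containing p, D a p-subgroup of the finite group G with G = D·C_G(D), and B a p-block with defect group D. Let χ be a member of B having D in its kernel (there is exactly one, the canonical character of B). Then the irreducible characters in B are exactly the functions θ on G for which there is an irreducible character ζ of D such that θ(yx) = ζ(y)χ(x) whenever y ∈ D, x has order prime to p and x commutes with y, and θ(z) = 0 whenever the p-part of z does not lie in D. -/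
theorem result {G : Type*} [Group G] [Finite G] (p : ℕ) [Fact p.Prime] (M : Ideal Cfsg.AlgInt) (hM : Cfsg.IsPModular p M) (D : Subgroup G) (hD : IsPGroup p D) (hG : D ⊔ Subgroup.centralizer (D : Set G) = ⊤) (B : Set (Cfsg.IrrCharacter G)) (hB : Cfsg.IsPBlock M B) (hBD : Cfsg.IsDefectGroup p M B D) (χ : Cfsg.IrrCharacter G) (hχ : χ ∈ B) (hχD : ∀ y ∈ D, (χ : G → ℂ) y = (χ : G → ℂ) 1) : (∀ θ : Cfsg.IrrCharacter G, θ ∈ B ↔ ∃ ζ : Cfsg.IrrCharacter D, (∀ (y : D) (x : G), ¬ p ∣ orderOf x → Commute (y : G) x → (θ : G → ℂ) ((y : G) * x) = (ζ : D → ℂ) y * (χ : G → ℂ) x) ∧ (∀ z : G, (∀ y : G, Cfsg.IsPPart p z y → y ∉ D) → (θ : G → ℂ) z = 0)) ∧ ∀ ζ : Cfsg.IrrCharacter D, ∃ θ ∈ B, (∀ (y : D) (x : G), ¬ p ∣ orderOf x → Commute (y : G) x → (θ : G → ℂ) ((y : G) * x) = (ζ : D → ℂ) y * (χ : G → ℂ) x) ∧ (∀ z : G, (∀ y : G, Cfsg.IsPPart p z y → y ∉ D) → (θ : G → ℂ) z = 0) := by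
  have hp : p.Prime := Fact.out
  have hDn : D.Normal := normal_of_sup_centralizer D hG
  have hreg := commute_of_sup_centralizer D hD hG
  have huniq : ∀ ψ ∈ B, (∀ u ∈ D, (ψ : G → ℂ) u = (ψ : G → ℂ) 1) → ψ = χ := by
    intro ψ hψ hψk
    exact eq_of_ker_of_normal_defect hM hB D hBD hreg ψ χ hψ hχ hψk hχD
  -- members of `B` satisfy the two conditions with their own `ζ`
  have hforward : ∀ θ ∈ B, ∀ ζ : Cfsg.IrrCharacter D,
      (∀ u : D, (θ : G → ℂ) (u : G) / (χ : G → ℂ) 1 = (ζ : D → ℂ) u) →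
      (∀ (y : D) (x : G), ¬ p ∣ orderOf x → Commute (y : G) x →
        (θ : G → ℂ) ((y : G) * x) = (ζ : D → ℂ) y * (χ : G → ℂ) x) ∧
      (∀ z : G, (∀ y : G, Cfsg.IsPPart p z y → y ∉ D) → (θ : G → ℂ) z = 0) := by
    intro θ hθ ζ hζ
    constructor
    · intro y x hx _
      rw [section_value hM hB D hD hG χ hχ hχD huniq θ hθ (y : G) y.2 x hx, hζ y]
    · intro z hz
      obtain ⟨x, hx⟩ := Cfsg.Agent.Lib.Helper16_BlockOrth.exists_isPPart hp z
      exact irr_eq_zero_of_ppart_not_mem hM hB D hBD θ hθ hx (hz x hx)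
  have hexists : ∀ ζ : Cfsg.IrrCharacter D, ∃ θ ∈ B,
      (∀ (y : D) (x : G), ¬ p ∣ orderOf x → Commute (y : G) x →
        (θ : G → ℂ) ((y : G) * x) = (ζ : D → ℂ) y * (χ : G → ℂ) x) ∧
      (∀ z : G, (∀ y : G, Cfsg.IsPPart p z y → y ∉ D) → (θ : G → ℂ) z = 0) := by
    intro ζ
    obtain ⟨θ, hθ, hθζ⟩ := exists_mem_block_of_irr hM hB D hBD hG χ hχ hχD huniq ζ
    exact ⟨θ, hθ, hforward θ hθ ζ hθζ⟩
  refine ⟨fun θ => ⟨fun hθ => ?_, ?_⟩, hexists⟩
  · set ζ : Cfsg.IrrCharacter D := ⟨fun u : D => (θ : G → ℂ) (u : G) / (χ : G → ℂ) 1,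
      isIrrCharacter_res_div hM hB D hBD hG χ hχ hχD huniq θ hθ⟩ with hζ
    exact ⟨ζ, hforward θ hθ ζ (fun u => rfl)⟩
  · rintro ⟨ζ, h1, h2⟩
    obtain ⟨θ', hθ', h1', h2'⟩ := hexists ζ
    have : θ = θ' := by
      apply Subtype.ext
      funext z
      obtain ⟨x, hx⟩ := Cfsg.Agent.Lib.Helper16_BlockOrth.exists_isPPart hp z
      by_cases hxD : x ∈ D
      · obtain ⟨y, hxy, hc, -, hy⟩ := hx
        rw [← hxy]
        have e1 := h1 ⟨x, hxD⟩ y hy hc
        have e2 := h1' ⟨x, hxD⟩ y hy hc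
        simp only at e1 e2
        rw [e1, e2]
      · have hall : ∀ y : G, Cfsg.IsPPart p z y → y ∉ D := by
          intro y hy
          rw [← isPPart_unique hp hx hy]
          exact hxD
        rw [h2 z hall, h2' z hall]
    rw [this]
    exact hθ'

end Cfsg.Agent.S4714
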