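import Mathlib
import Cfsg.Statements.S4715
import Cfsg.Agent.Lib.Helper82_RootStab
import Cfsg.Agent.Lib.Helper82_HeightBound
import Cfsg.Agent.Lib.Helper77_CentralDefect
import Cfsg.Agent.Lib.Helper78_LocalRing

set_option autoImplicit false
open Cfsg

namespace Cfsg.Agent.S4715

/-- Let p be a prime, M a maximal ideal of the algebraic integers containing p, B a p-block of the finite group G with defect group D of order p^d, H = D·C_G(D), b a block of H inducing B, T the stabilizer of b in N_G(D) and e = [T : H] the inertial index of B; let n be the integer with p^n ≤ e < p^(n+1) and p^c the order of the centre of D. Then every irreducible character in B has height h with h + c ≤ n + d. -/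
theorem result {G : Type*} [Group G] [Finite G] (p : ℕ) [Fact p.Prime] (M : Ideal Cfsg.AlgInt) (hM : Cfsg.IsPModular p M) (B : Set (Cfsg.IrrCharacter G)) (hB : Cfsg.IsPBlock M B) (D : Subgroup G) (hBD : Cfsg.IsDefectGroup p M B D) (d : ℕ) (hDd : Nat.card D = p ^ d) (H : Subgroup G) (hH : H = D ⊔ Subgroup.centralizer (D : Set G)) (b : Set (Cfsg.IrrCharacter H)) (hind : Cfsg.IsInducedBlock M H b B) (T : Subgroup G) (hT : ∀ g : G, g ∈ T ↔ (g ∈ Subgroup.normalizer (D : Set G) ∧ ∀ θ ∈ b, ∀ θ' : Cfsg.IrrCharacter H, (∀ h h' : H, (h' : G) = g * h * g⁻¹ → (θ' : H → ℂ) h' = (θ : H → ℂ) h) → θ' ∈ b)) (e : ℕ) (he : H.relIndex T = e) (n : ℕ) (hn : p ^ n ≤ e ∧ e < p ^ (n + 1)) (c : ℕ) (hc : Nat.card (Subgroup.center D) = p ^ c) : ∀ χ ∈ B, Cfsg.blockHeight p B (χ : G → ℂ) + c ≤ n + d := by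
  classical
  have := Fintype.ofFinite G
  have hp : p.Prime := Fact.out
  have hMp := Cfsg.Agent.Lib.Helper78_LocalRing.isPrime_of_isPModular hM
  subst hH
  obtain ⟨eD, hmax, hIn⟩ := Cfsg.Agent.Lib.Helper82_RootStab.exists_root_pair hM hBD hind
  obtain ⟨-, hDcard⟩ := Cfsg.Agent.Lib.Helper77_CentralDefect.card_of_isDefectGroup hM hB hBD
  have hdd : d = Cfsg.blockDefect p B := by
    apply Nat.pow_right_injective hp.two_le
    show p ^ d = p ^ Cfsg.blockDefect p B
    rw [← hDd, hDcard]
  -- the centre as a finset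
  set Zs : Finset G := Finset.univ.filter (fun u => u ∈ D ∧ ∀ x ∈ D, x * u = u * x) with hZsdef
  have hZs : ∀ u, u ∈ Zs ↔ u ∈ D ∧ ∀ x ∈ D, x * u = u * x := by
    intro u
    rw [hZsdef, Finset.mem_filter]
    exact ⟨fun h => h.2, fun h => ⟨Finset.mem_univ _, h⟩⟩
  have hZcard : Zs.card = p ^ c := by
    rw [← hc]
    have e1 : ↥(Subgroup.center ↥D) ≃ {u : G // u ∈ Zs} :=
      { toFun := fun z => ⟨((z : ↥D) : G), by
          rw [hZs]
          refine ⟨(z : ↥D).2, fun x hx => ?_⟩
          have := Subgroup.mem_center_iff.mp z.2 ⟨x, hx⟩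
          exact congrArg Subtype.val this⟩
        invFun := fun u => ⟨⟨(u : G), ((hZs _).mp u.2).1⟩, by
          rw [Subgroup.mem_center_iff]
          intro g
          apply Subtype.ext
          exact ((hZs _).mp u.2).2 (g : G) g.2⟩
        left_inv := fun z => rfl
        right_inv := fun u => rfl }
    rw [Nat.card_congr e1, Nat.card_eq_fintype_card, Fintype.card_coe]
  -- the fusion bound
  have hE : ∀ u ∈ Zs, (Zs.filter (fun u' => ∃ t ∈ Subgroup.normalizer (D : Set G),
      Cfsg.StabilizesBlock (Subgroup.centralizer (D : Set G)) eD t ∧ t * u * t⁻¹ = u')).card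
      ≤ e := by
    intro u hu
    have hu' := (hZs u).mp hu
    have hHu : ∀ h ∈ (D ⊔ Subgroup.centralizer (D : Set G)), h * u = u * h := by
      intro h hh
      have hle : D ⊔ Subgroup.centralizer (D : Set G) ≤ Subgroup.centralizer ({u} : Set G) := by
        refine sup_le (fun x hx => ?_) (fun x hx => ?_)
        · rw [Subgroup.mem_centralizer_iff]
          intro y hy
          rw [Set.mem_singleton_iff.mp hy]
          exact (hu'.2 x hx).symm
        · rw [Subgroup.mem_centralizer_iff]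
          intro y hy
          rw [Set.mem_singleton_iff.mp hy]
          exact Subgroup.mem_centralizer_iff.mp hx u hu'.1
      exact (Subgroup.mem_centralizer_iff.mp (hle hh) u rfl).symm
    set S := Zs.filter (fun u' => ∃ t ∈ Subgroup.normalizer (D : Set G),
      Cfsg.StabilizesBlock (Subgroup.centralizer (D : Set G)) eD t ∧ t * u * t⁻¹ = u') with hS
    have hch : ∀ u' : {x // x ∈ S}, ∃ t : T, (t : G) * u * (t : G)⁻¹ = (u' : G) := by
      rintro ⟨u', hu'S⟩
      obtain ⟨-, t, htN, hst, htu⟩ := Finset.mem_filter.mp hu'S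
      refine ⟨⟨t, (hT t).mpr ⟨htN, fun θ hθ θ' hcj => ?_⟩⟩, htu⟩
      exact Cfsg.Agent.Lib.Helper82_RootStab.mem_of_stabilizesBlock hMp hIn t
        (Cfsg.Agent.Lib.Helper82_RootStab.normalizer_le_normalizer_sup_centralizer D htN) hst hθ
        θ' hcj
    choose τ hτ using hch
    have hinj : Function.Injective (fun u' : {x // x ∈ S} =>
        (QuotientGroup.mk (τ u') : T ⧸ (D ⊔ Subgroup.centralizer (D : Set G)).subgroupOf T)) := by
      intro a b hab
      have h1 : (τ a)⁻¹ * τ b ∈ (D ⊔ Subgroup.centralizer (D : Set G)).subgroupOf T :=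
        QuotientGroup.eq.mp hab
      rw [Subgroup.mem_subgroupOf] at h1
      have h2 := hHu _ h1
      push_cast at h2
      apply Subtype.ext
      rw [← hτ a, ← hτ b]
      symm
      calc (τ b : G) * u * (τ b : G)⁻¹
          = (τ a : G) * (((τ a : G)⁻¹ * (τ b : G)) * u) * ((τ a : G)⁻¹ * (τ b : G))⁻¹ *
              (τ a : G)⁻¹ := by group
        _ = (τ a : G) * (u * ((τ a : G)⁻¹ * (τ b : G))) * ((τ a : G)⁻¹ * (τ b : G))⁻¹ *
              (τ a : G)⁻¹ := by rw [h2]
        _ = (τ a : G) * u * (τ a : G)⁻¹ := by group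
    have h3 := Nat.card_le_card_of_injective _ hinj
    rw [Nat.card_eq_fintype_card, Fintype.card_coe] at h3
    refine h3.trans (le_of_eq ?_)
    rw [← he]
    rfl
  intro χ hχ
  have hmain := Cfsg.Agent.Lib.Helper82_HeightBound.card_center_mul_pow_height_le hM hB hmax hBD
    Zs hZs e hE χ hχ
  rw [hZcard, ← hdd] at hmain
  have h4 : p ^ (c + Cfsg.blockHeight p B (χ : G → ℂ)) < p ^ (n + 1 + d) := by
    rw [pow_add, pow_add]
    refine lt_of_le_of_lt hmain ?_
    exact Nat.mul_lt_mul_of_pos_right hn.2 (pow_pos hp.pos d)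
  have h5 := (Nat.pow_lt_pow_iff_right hp.one_lt).mp h4
  omega

end Cfsg.Agent.S4715
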