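import Cfsg.Statements.S4716
import Cfsg.Agent.Lib.Helper57_MajorNonvanish
import Cfsg.Agent.Lib.Helper57_CycSum
import Cfsg.Agent.S0874

set_option autoImplicit false
open Cfsg
open scoped ComplexConjugate
open Cfsg.Agent.Lib.Helper3_CharBridge Cfsg.Agent.Lib.Helper75_CharArith Cfsg.Agent.Lib.Helper57_PRegInt
  Cfsg.Agent.Lib.Helper57_HeightZero Cfsg.Agent.Lib.Helper57_BrauerFeit
  Cfsg.Agent.Lib.Helper57_ContribMatrix Cfsg.Agent.Lib.Helper57_BrouePuig
  Cfsg.Agent.Lib.Helper57_MajorNonvanish Cfsg.Agent.Lib.Helper78_CharFacts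

namespace Cfsg.Agent.S4716

/-- Let p be a prime, M a maximal ideal of the algebraic integers containing p, and B a p-block of defect d of the finite group G all of whose irreducible characters have height zero. Let y be a p-element, C = C_G(y), and b a block of C inducing B and having the same defect d (a major subsection). Then k(B)^2 ≤ p^(2d)·l(b), where k(B) is the number of irreducible characters in B and l(b) the p-regular rank of b (its number of irreducible Brauer characters); in particular (y = 1) k(B)^2 ≤ p^(2d)·l(B). -/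
theorem result {G : Type*} [Group G] [Finite G] (p : ℕ) [Fact p.Prime] (M : Ideal Cfsg.AlgInt) (hM : Cfsg.IsPModular p M) (B : Set (Cfsg.IrrCharacter G)) (hB : Cfsg.IsPBlock M B) (d : ℕ) (hd : Cfsg.blockDefect p B = d) (hh : ∀ χ ∈ B, Cfsg.blockHeight p B (χ : G → ℂ) = 0) (y : G) (hy : ∃ k : ℕ, orderOf y = p ^ k) (b : Set (Cfsg.IrrCharacter ↥(Subgroup.centralizer ({y} : Set G)))) (hind : Cfsg.IsInducedBlock M (Subgroup.centralizer ({y} : Set G)) b B) (hbd : Cfsg.blockDefect p b = d) : Nat.card B ^ 2 ≤ p ^ (2 * d) * Cfsg.blockRank p b := by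
  classical
  have := Fintype.ofFinite G
  have := Fintype.ofFinite (Subgroup.centralizer ({y} : Set G))
  have hp : p.Prime := Fact.out
  obtain ⟨n, hn⟩ := hy
  have hIG : RegInt G p :=
    regInt_of_brauerLocal hp (fun q hq _ => Cfsg.Agent.S0874.result q hq)
  have hIC : RegInt (Subgroup.centralizer ({y} : Set G)) p :=
    regInt_of_brauerLocal hp (fun q hq _ => Cfsg.Agent.S0874.result q hq)
  have hyC : y ∈ Subgroup.centralizer ({y} : Set G) := by
    rw [Subgroup.mem_centralizer_iff]
    intro h hh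
    rw [Set.mem_singleton_iff.mp hh]
  have hcomm : ∀ c : Subgroup.centralizer ({y} : Set G), y * (c : G) = (c : G) * y :=
    fun c => Subgroup.mem_centralizer_iff.mp c.2 y (Set.mem_singleton y)
  have hzc : (⟨y, hyC⟩ : Subgroup.centralizer ({y} : Set G)) ∈
      Submonoid.center (Subgroup.centralizer ({y} : Set G)) := by
    rw [Submonoid.mem_center_iff]
    intro g
    apply Subtype.ext
    push_cast
    exact (hcomm g).symm
  have hzord : orderOf (⟨y, hyC⟩ : Subgroup.centralizer ({y} : Set G)) = p ^ n := by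
    rw [← hn]
    exact Subgroup.orderOf_mk y hyC
  -- the scalars
  have hccex : ∀ ζ : IrrCharacter (Subgroup.centralizer ({y} : Set G)), ∃ c : ℂ,
      ∀ a : Subgroup.centralizer ({y} : Set G),
        (ζ : Subgroup.centralizer ({y} : Set G) → ℂ) (⟨y, hyC⟩ * a) =
          c * (ζ : Subgroup.centralizer ({y} : Set G) → ℂ) a := by
    intro ζ
    obtain ⟨c, _, hc⟩ := exists_scalar_of_central_pElement hM ζ ⟨y, hyC⟩ hzc n hzord
    exact ⟨c, hc⟩
  choose cc hcc using hccex
  have hcc1 : ∀ ζ : IrrCharacter (Subgroup.centralizer ({y} : Set G)), cc ζ ^ (p ^ n) = 1 := by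
    intro ζ
    have h1 := irr_pow_mul (Subgroup.centralizer ({y} : Set G)) y hyC cc hcc ζ (p ^ n) 1
    rw [← hzord, pow_orderOf_eq_one, one_mul, hzord] at h1
    have hne : (ζ : Subgroup.centralizer ({y} : Set G) → ℂ) 1 ≠ 0 :=
      Cfsg.Agent.Lib.Helper78_CentralChar.isIrrCharacter_one_ne_zero ζ.2
    have h2 : (cc ζ ^ (p ^ n) - 1) * (ζ : Subgroup.centralizer ({y} : Set G) → ℂ) 1 = 0 := by
      rw [sub_mul, one_mul, ← h1, sub_self]
    rcases mul_eq_zero.mp h2 with h | h
    · exact sub_eq_zero.mp h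
    · exact absurd h hne
  -- the multiplicities
  have hnnex : ∀ χ : IrrCharacter G, ∃ m : IrrCharacter (Subgroup.centralizer ({y} : Set G)) → ℕ,
      (∀ ζ : IrrCharacter (Subgroup.centralizer ({y} : Set G)),
        classInner (fun c : Subgroup.centralizer ({y} : Set G) => (χ : G → ℂ) (c : G))
          (ζ : Subgroup.centralizer ({y} : Set G) → ℂ) = m ζ) ∧
      (fun c : Subgroup.centralizer ({y} : Set G) => (χ : G → ℂ) (c : G)) =
        ∑ ζ : IrrCharacter (Subgroup.centralizer ({y} : Set G)),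
          (m ζ : ℂ) • (ζ : Subgroup.centralizer ({y} : Set G) → ℂ) := fun χ =>
    exists_multiplicities (isCharacter_restrict (Subgroup.centralizer ({y} : Set G))
      (isCharacter_of_isIrrCharacter χ.2))
  choose nn hnn1 hnn using hnnex
  -- the units
  set U : Finset ℕ := (Finset.range (p ^ n)).filter (fun j => j.Coprime (p ^ n)) with hU
  have hUcard : U.card = (p ^ n).totient := by
    rw [Nat.totient_eq_card_coprime, hU]
    congr 1
    refine Finset.filter_congr fun j _ => ?_
    exact Nat.coprime_comm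
  -- the Frobenius norm for each unit
  have hfrob : ∀ j ∈ U, ∑ χ ∈ bset B, ∑ ψ ∈ bset B,
      gmat p (Subgroup.centralizer ({y} : Set G)) (y ^ j) b χ ψ *
        conj (gmat p (Subgroup.centralizer ({y} : Set G)) (y ^ j) b χ ψ) =
      (blockRank p b : ℂ) := by
    intro j hj
    have hjc : j.Coprime (p ^ n) := (Finset.mem_filter.mp hj).2
    have hord : orderOf (y ^ j) = p ^ n := by
      rw [← hn]
      apply Nat.Coprime.orderOf_pow
      rw [hn]
      exact hjc.symm
    have hCu : ∀ c : Subgroup.centralizer ({y} : Set G), y ^ j * (c : G) = (c : G) * y ^ j :=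
      fun c => ((Commute.pow_left (hcomm c) j)).eq
    have hcent : Subgroup.centralizer ({y ^ j} : Set G) ≤ Subgroup.centralizer ({y} : Set G) := by
      intro g hg
      rw [Subgroup.mem_centralizer_iff] at hg ⊢
      intro h hh
      rw [Set.mem_singleton_iff.mp hh]
      obtain ⟨m, hm⟩ := exists_pow_eq_self_of_coprime (x := y) (n := j) (by rw [hn]; exact hjc)
      have h1 : (y ^ j) * g = g * (y ^ j) := hg (y ^ j) (Set.mem_singleton _)
      have h2 : Commute (y ^ j) g := h1
      have h3 := (h2.pow_left m).eq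
      rwa [hm] at h3
    exact sum_bset_gmat_sq (Subgroup.centralizer ({y} : Set G)) (y ^ j) n hord hCu hcent hM hind
  -- real form
  have hfrobR : ∀ j ∈ U, ∑ χ ∈ bset B, ∑ ψ ∈ bset B,
      Complex.normSq ((p : ℂ) ^ blockDefect p b *
        gmat p (Subgroup.centralizer ({y} : Set G)) (y ^ j) b χ ψ) =
      ((p : ℝ) ^ (2 * d)) * (blockRank p b : ℝ) := by
    intro j hj
    apply Complex.ofReal_injective
    have h1 := hfrob j hj
    push_cast
    rw [← h1, Finset.mul_sum]
    refine Finset.sum_congr rfl fun χ _ => ?_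
    rw [Finset.mul_sum]
    refine Finset.sum_congr rfl fun ψ _ => ?_
    rw [← Complex.mul_conj, map_mul, map_pow, Complex.conj_natCast, hbd]
    ring
  -- lower bound for each pair
  have hlow : ∀ χ ∈ bset B, ∀ ψ ∈ bset B, ((p ^ n).totient : ℝ) ≤
      ∑ j ∈ U, Complex.normSq ((p : ℂ) ^ blockDefect p b *
        gmat p (Subgroup.centralizer ({y} : Set G)) (y ^ j) b χ ψ) := by
    intro χ hχ ψ hψ
    rw [mem_bset] at hχ hψ
    obtain ⟨W, hW, hdec⟩ := exists_cyc_decomp (Subgroup.centralizer ({y} : Set G)) y hyC cc hcc nn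
      hnn1 hnn hp hM hIG hIC hind hχ hψ (hh χ hχ) (hh ψ hψ)
    have hε : ∀ i : IrrCharacter (Subgroup.centralizer ({y} : Set G)) ×
        IrrCharacter (Subgroup.centralizer ({y} : Set G)),
        (cc i.1 * conj (cc i.2)) ^ (p ^ n) = 1 := by
      intro i
      rw [mul_pow, ← map_pow, hcc1, hcc1, map_one, mul_one]
    have := Cfsg.Agent.Lib.Helper57_CycSum.cyc_sum_ge hp n (bset b ×ˢ bset b)
      (fun i => cc i.1 * conj (cc i.2)) W hε hW
    simp_rw [hdec]
    exact this
  -- assembly
  have hsum : ∑ χ ∈ bset B, ∑ ψ ∈ bset B, ∑ j ∈ U, Complex.normSq ((p : ℂ) ^ blockDefect p b *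
        gmat p (Subgroup.centralizer ({y} : Set G)) (y ^ j) b χ ψ) =
      (U.card : ℝ) * (((p : ℝ) ^ (2 * d)) * (blockRank p b : ℝ)) := by
    have h1 : ∑ χ ∈ bset B, ∑ ψ ∈ bset B, ∑ j ∈ U, Complex.normSq ((p : ℂ) ^ blockDefect p b *
        gmat p (Subgroup.centralizer ({y} : Set G)) (y ^ j) b χ ψ) =
        ∑ j ∈ U, ∑ χ ∈ bset B, ∑ ψ ∈ bset B, Complex.normSq ((p : ℂ) ^ blockDefect p b *
        gmat p (Subgroup.centralizer ({y} : Set G)) (y ^ j) b χ ψ) := by
      rw [Finset.sum_congr rfl (fun χ _ => Finset.sum_comm)]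
      exact Finset.sum_comm
    rw [h1, Finset.sum_congr rfl hfrobR, Finset.sum_const, nsmul_eq_mul]
  have hge : ((bset B).card : ℝ) * ((bset B).card : ℝ) * ((p ^ n).totient : ℝ) ≤
      ∑ χ ∈ bset B, ∑ ψ ∈ bset B, ∑ j ∈ U, Complex.normSq ((p : ℂ) ^ blockDefect p b *
        gmat p (Subgroup.centralizer ({y} : Set G)) (y ^ j) b χ ψ) := by
    have h1 : ∀ χ ∈ bset B, ((bset B).card : ℝ) * ((p ^ n).totient : ℝ) ≤
        ∑ ψ ∈ bset B, ∑ j ∈ U, Complex.normSq ((p : ℂ) ^ blockDefect p b *
        gmat p (Subgroup.centralizer ({y} : Set G)) (y ^ j) b χ ψ) := by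
      intro χ hχ
      have := Finset.sum_le_sum (fun ψ hψ => hlow χ hχ ψ hψ)
      rwa [Finset.sum_const, nsmul_eq_mul] at this
    have := Finset.sum_le_sum h1
    rw [Finset.sum_const, nsmul_eq_mul] at this
    linarith
  rw [hsum, hUcard] at hge
  have hφ : (0 : ℝ) < ((p ^ n).totient : ℝ) := by
    exact_mod_cast Nat.totient_pos.mpr (pow_pos hp.pos n)
  have hfin : ((bset B).card : ℝ) * ((bset B).card : ℝ) ≤
      ((p : ℝ) ^ (2 * d)) * (blockRank p b : ℝ) := by
    have : ((bset B).card : ℝ) * ((bset B).card : ℝ) * ((p ^ n).totient : ℝ) ≤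
        (((p : ℝ) ^ (2 * d)) * (blockRank p b : ℝ)) * ((p ^ n).totient : ℝ) := by
      linarith
    exact le_of_mul_le_mul_right this hφ
  rw [← card_bset, sq]
  exact_mod_cast hfin

end Cfsg.Agent.S4716
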