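import Mathlib
import Cfsg.Statements.S4720
import Cfsg.Agent.S0925
import Cfsg.Agent.Lib.Helper30_SectionNorm
import Cfsg.Agent.Lib.Helper16_Char
import Cfsg.Agent.Lib.Helper80_CharBasic
import Cfsg.Agent.Lib.Helper81_CharOrth

set_option autoImplicit false
open Cfsg

namespace Cfsg.Agent.S4720

open scoped ComplexConjugate

section fusion

variable {G : Type*} [Group G]

/-- the centralizer of `y ∈ N` computed inside `N` has the order of `N ⊓ C_G(y)` -/
theorem card_centralizer_subgroup (N : Subgroup G) (y : G) (hy : y ∈ N) :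
    Nat.card (Subgroup.centralizer ({(⟨y, hy⟩ : N)} : Set N)) =
      Nat.card ↥(N ⊓ Subgroup.centralizer ({y} : Set G)) := by
  refine Nat.card_congr ⟨fun x => ⟨x.1.1, ⟨x.1.2, ?_⟩⟩, fun x => ⟨⟨x.1, x.2.1⟩, ?_⟩, ?_, ?_⟩
  · have hx := x.2
    show (x.1.1 : G) ∈ Subgroup.centralizer ({y} : Set G)
    rw [Subgroup.mem_centralizer_iff] at hx ⊢
    intro k hk
    rw [Set.mem_singleton_iff] at hk
    have := hx ⟨y, hy⟩ (Set.mem_singleton _)
    rw [hk]
    exact congrArg Subtype.val this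
  · have hx : (x.1 : G) ∈ Subgroup.centralizer ({y} : Set G) := x.2.2
    rw [Subgroup.mem_centralizer_iff] at hx ⊢
    intro k hk
    rw [Set.mem_singleton_iff] at hk
    rw [hk]
    exact Subtype.ext (hx y (Set.mem_singleton _))
  · intro x; rfl
  · intro x; rfl

theorem fusion_sum [Fintype G] [DecidableEq G] (P N : Subgroup G) (hPN : P ≤ N)
    (hNN : N ≤ Subgroup.normalizer (P : Set G)) (y : G) (hyP : y ∈ P)
    (hfus : ∀ g : G, g * y * g⁻¹ ∈ (P : Set G) → ∃ n ∈ N, n * y * n⁻¹ = g * y * g⁻¹)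
    (F : G → ℂ) [Fintype N] [Fintype P] :
    ∑ x : N, F ((x : G) * y * (x : G)⁻¹) =
      (Nat.card ↥(N ⊓ Subgroup.centralizer ({y} : Set G)) : ℂ) *
        ∑ z : P, if IsConj (z : G) y then F z else 0 := by
  classical
  set g : N := ⟨y, hPN hyP⟩ with hg
  have h1 : ∑ x : N, F ((x : G) * y * (x : G)⁻¹) = ∑ x : N, F ((x⁻¹ * g * x : N) : G) := by
    refine Fintype.sum_equiv (Equiv.inv N) _ _ (fun x => ?_)
    simp only [Equiv.inv_apply, inv_inv, Subgroup.coe_mul, Subgroup.coe_inv, hg]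
  rw [h1, Cfsg.Agent.Lib.Helper16_Char.sum_conj_eq g (fun k : N => F (k : G)),
    card_centralizer_subgroup N y (hPN hyP), nsmul_eq_mul]
  congr 1
  rw [← Finset.sum_filter, ← Finset.sum_filter]
  refine Finset.sum_bij (fun k hk => (⟨(k : G), ?_⟩ : P)) ?_ ?_ ?_ ?_
  · obtain ⟨c, hc⟩ := isConj_iff.1 (Finset.mem_filter.1 hk).2
    have hcn := hNN c.2
    rw [Subgroup.mem_normalizer_iff] at hcn
    have : (k : G) = (c : G) * y * (c : G)⁻¹ := by
      rw [← hc]
      simp [hg]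
    rw [this]
    exact (hcn y).1 hyP
  · intro k hk
    rw [Finset.mem_filter]
    refine ⟨Finset.mem_univ _, ?_⟩
    obtain ⟨c, hc⟩ := isConj_iff.1 (Finset.mem_filter.1 hk).2
    apply IsConj.symm
    rw [isConj_iff]
    refine ⟨(c : G), ?_⟩
    show (c : G) * y * (c : G)⁻¹ = (k : G)
    have : (k : G) = ((c * g * c⁻¹ : N) : G) := by rw [hc]
    rw [this]
    simp [hg]
  · intro a _ b _ hab
    have h := congrArg (fun z : P => (z : G)) hab
    exact Subtype.ext h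
  · intro z hz
    obtain ⟨c, hc⟩ := isConj_iff.1 (Finset.mem_filter.1 hz).2.symm
    obtain ⟨n, hn, hn'⟩ := hfus c (by rw [hc]; exact z.2)
    refine ⟨⟨(z : G), hPN z.2⟩, ?_, rfl⟩
    rw [Finset.mem_filter]
    refine ⟨Finset.mem_univ _, ?_⟩
    rw [isConj_iff]
    refine ⟨⟨n, hn⟩, ?_⟩
    apply Subtype.ext
    simp only [Subgroup.coe_mul, Subgroup.coe_inv, hg]
    rw [hn', hc]
  · intro k hk
    rfl

end fusion


section main

variable {G : Type*} [Group G] [Finite G]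

theorem coefA (P : Subgroup G) [Fintype P] (χ : G → ℂ) (θ : ↥P → ℂ) :
    ∑ᶠ y : ↥P, χ (y : G) * θ y⁻¹ = ∑ y : ↥P, θ y * χ ((y : G)⁻¹) := by
  rw [finsum_eq_sum_of_fintype]
  refine Fintype.sum_equiv (Equiv.inv ↥P) _ _ (fun y => ?_)
  simp only [Equiv.inv_apply, Subgroup.coe_inv, inv_inv]
  ring

theorem coefB (P : Subgroup G) [Fintype P] (χ : IrrCharacter G) (η : ↥P → ℂ) :
    conj (∑ᶠ y : ↥P, (χ : G → ℂ) (y : G) * η y⁻¹) =
      ∑ z : ↥P, conj (η z) * (χ : G → ℂ) (z : G) := by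
  rw [finsum_eq_sum_of_fintype, map_sum]
  refine Fintype.sum_equiv (Equiv.inv ↥P) _ _ (fun y => ?_)
  simp only [Equiv.inv_apply, Subgroup.coe_inv, map_mul]
  rw [Cfsg.Agent.Lib.Helper80_CharBasic.irr_inv χ (y : G), mul_comm]

theorem irr_one_eq_charDegree {K : Type*} [Group K] (ψ : IrrCharacter K) :
    (ψ : K → ℂ) 1 = (charDegree (ψ : K → ℂ) : ℂ) := by
  obtain ⟨n, -, hn⟩ := Cfsg.Agent.Lib.Helper80_CharBasic.irr_apply_one ψ
  unfold charDegree
  rw [hn]
  simp

theorem pow_of_mem_pGroup {p : ℕ} [Fact p.Prime] {P : Subgroup G} (hP : IsPGroup p P) {u : G}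
    (hu : u ∈ P) : ∃ k : ℕ, orderOf u = p ^ k := by
  obtain ⟨k, hk⟩ := (IsPGroup.iff_orderOf.1 hP) ⟨u, hu⟩
  exact ⟨k, by rw [← hk, Subgroup.orderOf_mk]⟩

/-- the value of the principal-block Gram sum at two elements of `P`, the first in `U` -/
theorem gram_eq {p : ℕ} [Fact p.Prime] (M : Ideal AlgInt) (hM : IsPModular p M) (P : Subgroup G)
    (hP : IsPGroup p P) (N : Subgroup G) (w : ℚ) (y z : G) (hy : y ∈ P) (hz : z ∈ P)
    (hw : ((∑ᶠ ψ ∈ principalBlock M ↥(Subgroup.centralizer ({y} : Set G)),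
      (charDegree (ψ : ↥(Subgroup.centralizer ({y} : Set G)) → ℂ) : ℚ) ^ 2) : ℚ) =
        w * Nat.card ↥(N ⊓ Subgroup.centralizer ({y} : Set G))) [Decidable (IsConj z y)] :
    ∑ᶠ χ ∈ principalBlock M G, (χ : G → ℂ) z * (χ : G → ℂ) y⁻¹ =
      if IsConj z y then (w : ℂ) * (Nat.card ↥(N ⊓ Subgroup.centralizer ({y} : Set G)) : ℂ)
      else 0 := by
  classical
  have hypow := pow_of_mem_pGroup hP hy
  have hzpow := pow_of_mem_pGroup hP hz
  split_ifs with hc
  · have h1 : ∀ χ : IrrCharacter G, (χ : G → ℂ) z * (χ : G → ℂ) y⁻¹ =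
        (χ : G → ℂ) y * conj ((χ : G → ℂ) y) := by
      intro χ
      rw [Cfsg.Agent.Lib.Helper80_CharBasic.irr_isConj χ hc,
        Cfsg.Agent.Lib.Helper80_CharBasic.irr_inv χ y]
    simp only [h1]
    rw [Cfsg.Agent.Lib.Helper30_SectionNorm.section_norm hM hypow]
    have h2 : ∀ ψ : IrrCharacter ↥(Subgroup.centralizer ({y} : Set G)),
        (ψ : ↥(Subgroup.centralizer ({y} : Set G)) → ℂ) 1 *
          conj ((ψ : ↥(Subgroup.centralizer ({y} : Set G)) → ℂ) 1) =
        (((charDegree (ψ : ↥(Subgroup.centralizer ({y} : Set G)) → ℂ) : ℚ) ^ 2 : ℚ) : ℂ) := by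
      intro ψ
      rw [irr_one_eq_charDegree ψ]
      simp only [Complex.conj_natCast]
      push_cast
      ring
    simp only [h2]
    have hfin : (principalBlock M ↥(Subgroup.centralizer ({y} : Set G))).Finite := Set.toFinite _
    rw [finsum_mem_eq_finite_toFinset_sum _ hfin]
    rw [finsum_mem_eq_finite_toFinset_sum _ hfin] at hw
    rw [← Rat.cast_sum, hw]
    push_cast
    ring
  · haveI : Fact p.Prime := inferInstance
    have horth := (Cfsg.Agent.S0925.result (G := G) p M hM).2 z y z y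
      (Cfsg.Agent.Lib.Helper30_SectionNorm.isPPart_self hzpow)
      (Cfsg.Agent.Lib.Helper30_SectionNorm.isPPart_self hypow) hc (principalBlock M G)
      (Cfsg.Agent.Lib.Helper30_SectionNorm.isPBlock_principalBlock G)
    exact horth


end main

/-- Let p be a prime, M a maximal ideal of the algebraic integers containing p, P a p-subgroup of the finite group G, N a subgroup with P ≤ N ≤ N_G(P), and U a nonempty subset of P normalized by N such that an element of U and an element of P that are conjugate in G are already conjugate in N, and such that λ(C_G(y)) = w·#C_N(y) for every y ∈ U with one rational number w, where λ(X) denotes the sum of the squares of the degrees of the irreducible characters in the principal p-block of X. For a complex function θ on P and χ in the principal block of G put a_χ(θ) = #P⁻¹ Σ_{y ∈ P} χ(y) θ(y⁻¹). Then for generalized characters θ, η of P with θ vanishing outside U, Σ_χ a_χ(θ)·conj(a_χ(η))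 = (w/#P²)·Σ_{y ∈ P} θ(y)·conj(Σ_{x ∈ N} η(x y x⁻¹)) (η extended by zero off P; the conjugates lie in P), the first sum over the principal p-block of G. -/
theorem result {G : Type*} [Group G] [Finite G] (p : ℕ) [Fact p.Prime] (M : Ideal Cfsg.AlgInt) (hM : Cfsg.IsPModular p M) (P : Subgroup G) (hP : IsPGroup p P) (N : Subgroup G) (hPN : P ≤ N) (hNN : N ≤ Subgroup.normalizer (P : Set G)) (U : Set G) (hUne : U.Nonempty) (hUP : U ⊆ (P : Set G)) (hUN : ∀ n ∈ N, ∀ u ∈ U, n * u * n⁻¹ ∈ U) (hfus : ∀ u ∈ U, ∀ g : G, g * u * g⁻¹ ∈ (P : Set G) → ∃ n ∈ N, n * u * n⁻¹ = g * u * g⁻¹) (w : ℚ) (hw : ∀ y ∈ U, ((∑ᶠ ψ ∈ Cfsg.principalBlock M ↥(Subgroup.centralizer ({y} : Set G)), Cfsg.charDegree (ψ : ↥(Subgroup.centralizer ({y} : Set G)) → ℂ) ^ 2) : ℚ) = w * Nat.card ↥(N ⊓ Subgroup.centralizer ({y} : Set G))) (θ η : ↥P → ℂ) (hθ : Cfsg.IsGeneralizedCharacter ↥P θ) (hη : Cfsg.IsGeneralizedCharacter ↥P η) (hθU : ∀ y : ↥P, (y : G) ∉ U → θ y = 0) : ∑ᶠ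 χ ∈ Cfsg.principalBlock M G, ((Nat.card ↥P : ℂ)⁻¹ * ∑ᶠ y : ↥P, (χ : G → ℂ) (y : G) * θ y⁻¹) * (starRingEnd ℂ) ((Nat.card ↥P : ℂ)⁻¹ * ∑ᶠ y : ↥P, (χ : G → ℂ) (y : G) * η y⁻¹) = ((w : ℂ) / ((Nat.card ↥P : ℂ) ^ 2)) * ∑ᶠ y : ↥P, θ y * (starRingEnd ℂ) (∑ᶠ x : ↥N, Cfsg.extendByZero P η ((x : G) * (y : G) * (x : G)⁻¹)) := by
  classical
  have : Fintype G := Fintype.ofFinite G
  have : Fintype ↥P := Fintype.ofFinite _
  have : Fintype ↥N := Fintype.ofFinite _
  have hfinB : Fintype {χ : IrrCharacter G // χ ∈ principalBlock M G} := Fintype.ofFinite _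
  have hPne : (Nat.card ↥P : ℂ) ≠ 0 := by
    exact_mod_cast (Nat.card_pos (α := ↥P)).ne'
  -- rewrite each summand
  have hterm : ∀ χ : IrrCharacter G,
      ((Nat.card ↥P : ℂ)⁻¹ * ∑ᶠ y : ↥P, (χ : G → ℂ) (y : G) * θ y⁻¹) *
        (starRingEnd ℂ) ((Nat.card ↥P : ℂ)⁻¹ * ∑ᶠ y : ↥P, (χ : G → ℂ) (y : G) * η y⁻¹) =
      ∑ y : ↥P, ∑ z : ↥P, ((Nat.card ↥P : ℂ)⁻¹) ^ 2 * (θ y * conj (η z)) *
        ((χ : G → ℂ) (z : G) * (χ : G → ℂ) ((y : G)⁻¹)) := by
    intro χ
    rw [map_mul, coefB, coefA, map_inv₀, Complex.conj_natCast]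
    have e1 : ∀ a b : ℂ, ((Nat.card ↥P : ℂ)⁻¹ * a) * ((Nat.card ↥P : ℂ)⁻¹ * b) =
        ((Nat.card ↥P : ℂ)⁻¹) ^ 2 * (a * b) := fun a b => by ring
    rw [e1, Finset.sum_mul_sum, Finset.mul_sum]
    refine Finset.sum_congr rfl fun y _ => ?_
    rw [Finset.mul_sum]
    refine Finset.sum_congr rfl fun z _ => ?_
    ring
  simp only [hterm]
  rw [finsum_mem_eq_finite_toFinset_sum _ (Set.toFinite (principalBlock M G))]
  rw [Finset.sum_comm]
  simp only [fun y : ↥P => Finset.sum_comm (s := (Set.toFinite (principalBlock M G)).toFinset)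
    (t := (Finset.univ : Finset ↥P))
    (f := fun χ z => ((Nat.card ↥P : ℂ)⁻¹) ^ 2 * (θ y * conj (η z)) *
        ((χ : G → ℂ) (z : G) * (χ : G → ℂ) ((y : G)⁻¹)))]
  simp only [← Finset.mul_sum]
  rw [finsum_eq_sum_of_fintype, Finset.mul_sum]
  refine Finset.sum_congr rfl fun y _ => ?_
  by_cases hyU : (y : G) ∈ U
  · -- the Gram sums
    have hgram : ∀ z : ↥P,
        ∑ χ ∈ (Set.toFinite (principalBlock M G)).toFinset,
          (χ : G → ℂ) (z : G) * (χ : G → ℂ) ((y : G)⁻¹) =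
        if IsConj (z : G) (y : G) then
          (w : ℂ) * (Nat.card ↥(N ⊓ Subgroup.centralizer ({(y : G)} : Set G)) : ℂ) else 0 := by
      intro z
      rw [← finsum_mem_eq_finite_toFinset_sum]
      refine gram_eq M hM P hP N w (y : G) (z : G) y.2 z.2 ?_
      have := hw (y : G) hyU
      exact_mod_cast this
    simp only [hgram]
    -- the fusion sum
    have hfs := fusion_sum P N hPN hNN (y : G) y.2 (hfus (y : G) hyU)
      (fun k => conj (extendByZero P η k))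
    rw [finsum_eq_sum_of_fintype, map_sum, hfs]
    have hext : ∀ z : ↥P, extendByZero P η (z : G) = η z := fun z =>
      Subtype.val_injective.extend_apply η 0 z
    simp only [hext]
    simp only [Finset.mul_sum, mul_ite, mul_zero]
    refine Finset.sum_congr rfl fun z _ => ?_
    split_ifs
    · field_simp
    · rfl
  · rw [hθU y hyU]
    simp

end Cfsg.Agent.S4720
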