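import Cfsg.Statements.S4721
import Cfsg.Agent.Lib.Helper78_LocalRing
import Cfsg.Agent.Lib.Helper78_CentralChar
import Cfsg.Agent.Lib.Helper80_CharBasic
import Cfsg.Agent.Lib.Helper67_Basic
import Cfsg.Agent.Lib.Helper17_AbSylowGroup
import Cfsg.Agent.Lib.Helper17_AbSylowMain
import Cfsg.Agent.Lib.Helper17_AbSylowPack
import Cfsg.Agent.Lib.Helper17_AbSylowThree
import Cfsg.Agent.Lib.Helper17_AbSylowInv
import Cfsg.Agent.Lib.Helper17_AbSylowTwo
import Cfsg.Agent.Lib.Helper17_AbSylowFinal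

set_option autoImplicit false
open Cfsg

namespace Cfsg.Agent.S4721

open Cfsg.Agent.Lib.Helper17_AbSylowPack

/-- Let p be a prime, M a maximal ideal of the algebraic integers containing p, and G a finite group with a nontrivial abelian Sylow p-subgroup P, N = N_G(P), C = C_G(P), such that N/C is cyclic of order 3, #P > 4, and C_G(y) ∩ N = C for every non-identity y ∈ P. Then the principal p-block is the disjoint union of a set X of exactly 3 characters containing the principal character and a set Y of (#P − 1)/3 characters, with signs a_χ = ±1 (χ ∈ X, a = 1 at the principal character) and δ = ±1 such that every χ ∈ X takes the value a_χ at every element whose p-part is a non-identity element of P, and there is a map ζ from the non-principal linear characters of P onto Y, constant on N-conjugacy classes, with ζ_ψ(z) = δ·Σ ψ'(y) over the N-orbit of ψ, for z with p-part y ≠ 1 in P. If moreover G has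 an involution lying in no proper normal subgroup of G, then exactly two of the three numbers −δ and a_χ (χ ∈ X non-principal) equal −1, and the product of the degrees of the two non-principal members of X and of any member of Y is a perfect square. -/
theorem result {G : Type*} [Group G] [Finite G] (p : ℕ) [Fact p.Prime] (M : Ideal Cfsg.AlgInt) (hM : Cfsg.IsPModular p M) (P : Sylow p G) (hab : IsMulCommutative P) (hP1 : Nat.card P ≠ 1) (hCN : (Subgroup.centralizer ((P : Subgroup G) : Set G)).relIndex (Subgroup.normalizer ((P : Subgroup G) : Set G)) = 3) (hcyc : ∃ g : G, g ∈ Subgroup.normalizer ((P : Subgroup G) : Set G) ∧ Subgroup.centralizer ((P : Subgroup G) : Set G) ⊔ Subgroup.zpowers g = Subgroup.normalizer ((P : Subgroup G) : Set G)) (hm2 : 3 + 1 < Nat.card P) (hfrob : ∀ y : G, y ∈ (P : Subgroup G) → y ≠ 1 → Subgroup.centralizer ({y} : Set G) ⊓ Subgroup.normalizer ((P : Subgroup G) : Set G) = Subgroup.centralizer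 ((P : Subgroup G) : Set G)) : ∃ (X Y : Set (Cfsg.IrrCharacter G)), Cfsg.principalBlock M G = X ∪ Y ∧ Disjoint X Y ∧ Nat.card X = 3 ∧ Nat.card Y = (Nat.card P - 1) / 3 ∧ (∃ χ₁ ∈ X, (χ₁ : G → ℂ) = fun _ => 1) ∧ ∃ (a : Cfsg.IrrCharacter G → ℤ) (δ : ℤ) (ζ : (↥(P : Subgroup G) →* ℂˣ) → Cfsg.IrrCharacter G), (δ = 1 ∨ δ = -1) ∧ (∀ χ ∈ X, (a χ = 1 ∨ a χ = -1) ∧ ∀ z y : G, Cfsg.IsPPart p z y → y ∈ (P : Subgroup G) → y ≠ 1 → (χ : G → ℂ) z = (a χ : ℂ)) ∧ (∀ ψ : ↥(P : Subgroup G) →* ℂˣ, ψ ≠ 1 → ζ ψ ∈ Y) ∧ (∀ η ∈ Y, ∃ ψ : ↥(P : Subgroup G) →* ℂˣ, ψ ≠ 1 ∧ ζ ψ = η) ∧ (∀ ψ ψ' : ↥(P : Subgroup G) →* ℂˣ, ψ ≠ 1 → (∃ n : G, n ∈ Subgroup.normalizer ((P : Subgroup G) : Set G) ∧ ∀ w w' : ↥(P : Subgroup G), (w' : G) = n * w * n⁻¹ → ψ' w' = ψ w) → ζ ψ' = ζ ψ) ∧ (∀ ψ : ↥(P : Subgroup G) →* ℂˣ, ψ ≠ 1 → ∀ (z : G) (y : ↥(P : Subgroup G)), Cfsg.IsPPart p z (y : G) → (y : G) ≠ 1 → (ζ ψ : G → ℂ) z = (δ : ℂ) * ∑ᶠ ψ' ∈ {ψ' : ↥(P : Subgroup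 G) →* ℂˣ | ∃ n : G, n ∈ Subgroup.normalizer ((P : Subgroup G) : Set G) ∧ ∀ w w' : ↥(P : Subgroup G), (w' : G) = n * w * n⁻¹ → ψ' w' = ψ w}, ((ψ' y : ℂˣ) : ℂ)) ∧ ((∃ t : G, orderOf t = 2 ∧ ∀ K : Subgroup G, K.Normal → t ∈ K → K = ⊤) → Nat.card {χ : Cfsg.IrrCharacter G // χ ∈ X ∧ (χ : G → ℂ) ≠ (fun _ => 1) ∧ a χ = -1} + (if δ = 1 then 1 else 0) = 2 ∧ ∀ η ∈ Y, IsSquare (Cfsg.charDegree (η : G → ℂ) * ∏ᶠ χ ∈ {χ : Cfsg.IrrCharacter G | χ ∈ X ∧ (χ : G → ℂ) ≠ fun _ => 1}, Cfsg.charDegree (χ : G → ℂ))) := by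
  have hMp := Cfsg.Agent.Lib.Helper78_LocalRing.isPrime_of_isPModular hM
  have hcomm' : ∀ a ∈ (P : Subgroup G), ∀ b ∈ (P : Subgroup G), a * b = b * a := by
    intro a ha b hb
    have := hab.is_comm.comm ⟨a, ha⟩ ⟨b, hb⟩
    exact congrArg Subtype.val this
  have hcomm : ∀ a b : (P : Subgroup G), a * b = b * a := fun a b => hab.is_comm.comm a b
  have hm0 : 0 < 3 := by norm_num
  obtain ⟨σ, hd⟩ := Cfsg.Agent.Lib.Helper17_AbSylowGroup.exists_AD P hcomm' 3 hm0 hCN hcyc hfrob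
  obtain ⟨Δ, ε, c, hc⟩ := Cfsg.Agent.Lib.Helper17_AbSylowThree.core_three P hd hM hP1 hcomm hm2
  obtain ⟨hX3, hΔX⟩ := Cfsg.Agent.Lib.Helper17_AbSylowFinal.three_X hc hcomm
  refine ⟨XX P M c, Set.range c, block_eq hc, disj P M c, hX3, ?_,
    ⟨Cfsg.Agent.Lib.Helper80_CharBasic.oneIrr G, one_mem hc hMp, rfl⟩, Δ, ε, zeta P c, hc.eps,
    fun χ hχ => ⟨hΔX χ hχ, (val_X hc hχ).2⟩, fun ψ hψ => zeta_mem c hψ,
    fun η hη => zeta_surj c hcomm hη, fun ψ ψ' hψ h => zeta_orbit hd hc hψ h, ?_, ?_⟩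
  · have := card_range hc hcomm
    rw [← this, Nat.add_sub_cancel, Nat.mul_div_cancel_left _ hm0]
  · intro ψ hψ z y hzy hy1
    have := zeta_val hd hm0 hc hcomm hψ z y hzy hy1
    rw [this]
    push_cast
    ring
  · rintro ⟨t, ht, htn⟩
    by_cases hp2 : p = 2
    · exfalso
      subst hp2
      obtain ⟨χ, hχ1, hχdeg, hχP⟩ :=
        Cfsg.Agent.Lib.Helper17_AbSylowTwo.exists_linear_two P hd hM hcomm hm2 hc
      have ht2 : t ^ 2 = 1 := by rw [← ht]; exact pow_orderOf_eq_one t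
      have hpg : IsPGroup 2 (Subgroup.zpowers t) := by
        apply IsPGroup.of_card (n := 1)
        rw [Nat.card_zpowers, ht, pow_one]
      obtain ⟨g, hg⟩ := Cfsg.Agent.Lib.Helper67_Basic.exists_conj_mem_sylow P hpg
      have hmem := hg t (Subgroup.mem_zpowers t)
      have h1 := hχP _ hmem
      rw [Cfsg.Agent.Lib.Helper78_CentralChar.isIrrCharacter_isClassFunction χ.2 t g] at h1
      apply Cfsg.Agent.Lib.Helper17_AbSylowInv.apply_ne_of_no_normal htn χ hχ1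
      rw [h1, hχdeg]
    · exact Cfsg.Agent.Lib.Helper17_AbSylowFinal.final_odd hd hcomm hc hMp hp2 hm2 ht htn

end Cfsg.Agent.S4721
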