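import Mathlib
import Cfsg.Statements.S4722
import Cfsg.Agent.S0925
import Cfsg.Agent.S0938
import Cfsg.Agent.Lib.Helper16_BlockOrth
import Cfsg.Agent.Lib.Helper16_InducedFusion
import Cfsg.Agent.Lib.Helper16_Char
import Cfsg.Agent.Lib.Helper78_SecondMain
import Cfsg.Agent.Lib.Helper78_SecondMainChar
import Cfsg.Agent.Lib.Helper79_ClassAlgebra
import Cfsg.Agent.Lib.Helper80_CharBasic
import Cfsg.Agent.Lib.Helper81_CharOrth
import Cfsg.Agent.Lib.Helper3_CharEigen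
import Cfsg.Agent.Lib.Helper1_Cores

set_option autoImplicit false
open Cfsg

namespace Cfsg.Agent.S4722

open scoped ComplexConjugate

/-! ### A real-variable sign lemma -/

theorem two_le_card_of_ne {ι : Type*} [Fintype ι] {p : ι → Prop} {a b : ι} (hab : a ≠ b)
    (ha : p a) (hb : p b) : 2 ≤ Nat.card {i // p i} := by
  classical
  rw [Nat.card_eq_fintype_card]
  have : 1 < Fintype.card {i // p i} := by
    rw [Fintype.one_lt_card_iff]
    exact ⟨⟨a, ha⟩, ⟨b, hb⟩, fun h => hab (congrArg Subtype.val h)⟩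
  omega

theorem sign_lemma {ι : Type*} [Fintype ι] (r d τ : ι → ℝ) (o : ι)
    (hd : ∀ i, 0 < d i) (hτ : ∀ i, τ i ≤ d i) (ho : τ o = d o)
    (h1 : ∑ i, r i * d i = 0) (h2 : ∑ i, r i * τ i = 0) (h3 : ∑ i, r i * τ i ^ 2 / d i = 0)
    (hr : 0 < r o) :
    (2 ≤ Nat.card {i // 0 < r i} ∧ 2 ≤ Nat.card {i // r i < 0}) ∨
      ∃ i, i ≠ o ∧ τ i = d i := by
  classical
  have hneg : ∃ i, r i < 0 := by
    by_contra hcon
    push Not at hcon
    have hnn : ∀ i ∈ Finset.univ, 0 ≤ r i * d i := fun i _ => mul_nonneg (hcon i) (hd i).le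
    have := (Finset.sum_eq_zero_iff_of_nonneg hnn).1 h1 o (Finset.mem_univ o)
    have h4 : 0 < r o * d o := mul_pos hr (hd o)
    linarith
  obtain ⟨i0, hi0⟩ := hneg
  have hi0o : i0 ≠ o := by
    intro h
    rw [h] at hi0
    linarith
  by_cases hP : 2 ≤ Nat.card {i // 0 < r i}
  · by_cases hN : 2 ≤ Nat.card {i // r i < 0}
    · exact Or.inl ⟨hP, hN⟩
    · right
      have honly : ∀ j, j ≠ i0 → 0 ≤ r j := by
        intro j hj
        by_contra hcon
        push Not at hcon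
        exact hN (two_le_card_of_ne hj hcon hi0)
      refine ⟨i0, hi0o, ?_⟩
      set c := τ i0 / d i0 with hc
      have hQ : ∑ i, r i * d i * (τ i / d i - c) ^ 2 = 0 := by
        have : ∀ i, r i * d i * (τ i / d i - c) ^ 2 =
            r i * τ i ^ 2 / d i - 2 * c * (r i * τ i) + c ^ 2 * (r i * d i) := by
          intro i
          have := (hd i).ne'
          field_simp
          ring
        simp only [this]
        rw [Finset.sum_add_distrib, Finset.sum_sub_distrib, ← Finset.mul_sum, ← Finset.mul_sum,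
          h1, h2, h3]
        ring
      have hnn : ∀ i ∈ Finset.univ, 0 ≤ r i * d i * (τ i / d i - c) ^ 2 := by
        intro i _
        by_cases hi : i = i0
        · rw [hi, hc]
          simp
        · exact mul_nonneg (mul_nonneg (honly i hi) (hd i).le) (sq_nonneg _)
      have h5 := (Finset.sum_eq_zero_iff_of_nonneg hnn).1 hQ o (Finset.mem_univ o)
      have h6 : (τ o / d o - c) ^ 2 = 0 := by
        rcases mul_eq_zero.1 h5 with h | h
        · exfalso
          have := mul_pos hr (hd o)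
          linarith
        · exact h
      have h7 : τ o / d o = 1 := by rw [ho]; exact div_self (hd o).ne'
      have h8 : c = 1 := by
        have := pow_eq_zero_iff (two_ne_zero) |>.1 h6
        rw [h7] at this
        linarith
      rw [hc, div_eq_one_iff_eq (hd i0).ne'] at h8
      exact h8
  · right
    have honly : ∀ j, j ≠ o → r j ≤ 0 := by
      intro j hj
      by_contra hcon
      push Not at hcon
      exact hP (two_le_card_of_ne hj hcon hr)
    refine ⟨i0, hi0o, ?_⟩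
    have hQ : ∑ i, r i * (d i - τ i) = 0 := by
      have : ∀ i, r i * (d i - τ i) = r i * d i - r i * τ i := fun i => by ring
      simp only [this]
      rw [Finset.sum_sub_distrib, h1, h2, sub_zero]
    have hnp : ∀ i ∈ Finset.univ, 0 ≤ -(r i * (d i - τ i)) := by
      intro i _
      by_cases hi : i = o
      · rw [hi, ho]; simp
      · have h1 := honly i hi
        have h2 := hτ i
        have : r i * (d i - τ i) ≤ 0 := mul_nonpos_of_nonpos_of_nonneg h1 (by linarith)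
        linarith
    have hQ' : ∑ i, -(r i * (d i - τ i)) = 0 := by
      rw [Finset.sum_neg_distrib, hQ, neg_zero]
    have h5 := (Finset.sum_eq_zero_iff_of_nonneg hnp).1 hQ' i0 (Finset.mem_univ i0)
    have h6 : r i0 * (d i0 - τ i0) = 0 := by linarith
    rcases mul_eq_zero.1 h6 with h | h
    · linarith
    · linarith

/-! ### Group-theoretic preliminaries -/

section prelim

variable {G : Type*} [Group G] [Finite G]

omit [Finite G] in
/-- an involution is its own `2`-part -/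
theorem isPPart_self_of_pow {p : ℕ} {x : G} (hx : ∃ k : ℕ, orderOf x = p ^ k) (hp : p.Prime) :
    Cfsg.IsPPart p x x := by
  refine ⟨1, mul_one x, Commute.one_right x, hx, ?_⟩
  rw [orderOf_one]
  exact hp.one_lt.ne' ∘ Nat.dvd_one.1

/-- if `t` inverts `w`, it inverts the `p`-part of `w` -/
theorem inverts_pPart {p : ℕ} (hp : p.Prime) {t w x : G} (htw : t * w * t⁻¹ = w⁻¹)
    (hx : Cfsg.IsPPart p w x) : t * x * t⁻¹ = x⁻¹ := by
  have h1 : Cfsg.IsPPart p (t * w * t⁻¹) (t * x * t⁻¹) :=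
    Cfsg.Agent.Lib.Helper16_InducedFusion.isPPart_conj hx t
  rw [htw] at h1
  have h2 : Cfsg.IsPPart p w⁻¹ x⁻¹ := by
    have h3 : Cfsg.IsPPart p (w⁻¹)⁻¹ x := by rwa [inv_inv]
    exact Cfsg.Agent.Lib.Helper78_SecondMain.isPPart_inv h3
  exact Cfsg.Agent.Lib.Helper78_SecondMainChar.isPPart_unique hp h1 h2

end prelim


/-! ### The orthogonality relations -/

section main

variable {G : Type*} [Group G] [Finite G]

theorem finsum_mem_eq_sum_subtype (B : Set (IrrCharacter G))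
    [Fintype {χ : IrrCharacter G // χ ∈ B}] (f : IrrCharacter G → ℂ) :
    ∑ᶠ χ ∈ B, f χ = ∑ i : {χ : IrrCharacter G // χ ∈ B}, f i.1 := by
  rw [← finsum_set_coe_eq_finsum_mem]
  exact finsum_eq_sum_of_fintype (fun i : {χ : IrrCharacter G // χ ∈ B} => f i.1)

theorem key (P : Subgroup G) (U : Set G) (θ : ↥P → ℂ)
    (hθU : ∀ y : ↥P, (y : G) ∉ U → θ y = 0) (B : Set (IrrCharacter G))
    (w : IrrCharacter G → ℂ)
    (hw : ∀ u ∈ U, ∑ᶠ χ ∈ B, w χ * (χ : G → ℂ) u⁻¹ = 0) :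
    ∑ᶠ χ ∈ B, ((Nat.card ↥P : ℂ)⁻¹ * ∑ᶠ y : ↥P, (χ : G → ℂ) (y : G) * θ y⁻¹) * w χ = 0 := by
  classical
  have := Fintype.ofFinite ↥P
  have := Fintype.ofFinite {χ : IrrCharacter G // χ ∈ B}
  rw [finsum_mem_eq_sum_subtype]
  have h1 : ∀ i : {χ : IrrCharacter G // χ ∈ B},
      ((Nat.card ↥P : ℂ)⁻¹ * ∑ᶠ y : ↥P, (i.1 : G → ℂ) (y : G) * θ y⁻¹) * w i.1 =
        ∑ y : ↥P, (Nat.card ↥P : ℂ)⁻¹ * θ y⁻¹ * (w i.1 * (i.1 : G → ℂ) (y : G)) := by
    intro i
    rw [finsum_eq_sum_of_fintype, Finset.mul_sum, Finset.sum_mul]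
    refine Finset.sum_congr rfl fun y _ => ?_
    ring
  simp only [h1]
  rw [Finset.sum_comm]
  refine Finset.sum_eq_zero fun y _ => ?_
  rw [← Finset.mul_sum]
  by_cases hy : ((y⁻¹ : ↥P) : G) ∈ U
  · have h2 := hw _ hy
    rw [finsum_mem_eq_sum_subtype] at h2
    have h3 : (((y⁻¹ : ↥P) : G))⁻¹ = (y : G) := by simp
    rw [h3] at h2
    rw [h2, mul_zero]
  · rw [hθU _ hy, mul_zero, zero_mul]


theorem isPBlock_principal (M : Ideal AlgInt) : IsPBlock M (principalBlock M G) :=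
  ⟨⟨fun _ => 1, Cfsg.Agent.Lib.Helper80_CharBasic.isIrrCharacter_one G⟩, rfl⟩

theorem pow_of_mem_pGroup {P : Subgroup G} (hP : IsPGroup 2 P) {u : G} (hu : u ∈ P) :
    ∃ k : ℕ, orderOf u = 2 ^ k := by
  haveI : Fact (Nat.Prime 2) := ⟨Nat.prime_two⟩
  obtain ⟨k, hk⟩ := (IsPGroup.iff_orderOf.1 hP) ⟨u, hu⟩
  exact ⟨k, by rw [← hk, Subgroup.orderOf_mk]⟩

theorem sq_eq_one_of_orderOf {t : G} (ht : orderOf t = 2) : t * t = 1 := by
  have := pow_orderOf_eq_one t
  rw [ht, pow_two] at this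
  exact this

theorem inv_eq_self_of_orderOf {t : G} (ht : orderOf t = 2) : t⁻¹ = t :=
  inv_eq_of_mul_eq_one_left (sq_eq_one_of_orderOf ht)

/-- the three orthogonality facts, for a fixed `u ∈ U` -/
theorem orth_facts (M : Ideal AlgInt) (hM : IsPModular 2 M) (P : Subgroup G) (hP : IsPGroup 2 P)
    (U : Set G) (hUP : U ⊆ (P : Set G)) (t : G) (ht : orderOf t = 2)
    (hinv : ∀ u ∈ U, ∀ g : G, (g * t * g⁻¹) * u * (g * t * g⁻¹)⁻¹ ≠ u⁻¹) (u : G) (hu : u ∈ U) :
    (∑ᶠ χ ∈ principalBlock M G, (χ : G → ℂ) 1 * (χ : G → ℂ) u⁻¹ = 0) ∧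
    (∑ᶠ χ ∈ principalBlock M G, (χ : G → ℂ) t * (χ : G → ℂ) u⁻¹ = 0) ∧
    (∀ g : G, ∑ᶠ χ ∈ principalBlock M G, (χ : G → ℂ) (t * (g * t * g⁻¹)) * (χ : G → ℂ) u⁻¹ = 0) := by
  haveI : Fact (Nat.Prime 2) := ⟨Nat.prime_two⟩
  have horth := (Cfsg.Agent.S0925.result (G := G) 2 M hM).2
  have hB := isPBlock_principal (G := G) M
  have hupow := pow_of_mem_pGroup hP (hUP hu)
  have huu : IsPPart 2 u u := isPPart_self_of_pow hupow Nat.prime_two
  have htt : t * t = 1 := sq_eq_one_of_orderOf ht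
  have htinv : t⁻¹ = t := inv_eq_self_of_orderOf ht
  refine ⟨?_, ?_, ?_⟩
  · have h11 : IsPPart 2 (1 : G) 1 := isPPart_self_of_pow ⟨0, by simp⟩ Nat.prime_two
    refine horth 1 u 1 u h11 huu ?_ _ hB
    rw [isConj_one_right]
    intro hu1
    apply hinv u hu 1
    rw [hu1]
    simp
  · have h11 : IsPPart 2 t t := isPPart_self_of_pow ⟨1, by rw [ht, pow_one]⟩ Nat.prime_two
    refine horth t u t u h11 huu ?_ _ hB
    rw [isConj_iff]
    rintro ⟨c, hc⟩
    apply hinv u hu c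
    rw [hc]
    have huu2 : u * u = 1 := by
      rw [← hc]
      calc c * t * c⁻¹ * (c * t * c⁻¹) = c * (t * t) * c⁻¹ := by group
        _ = 1 := by rw [htt]; group
    have : u⁻¹ = u := inv_eq_of_mul_eq_one_left huu2
    rw [this, mul_assoc, huu2, mul_one]
  · intro g
    set w := t * (g * t * g⁻¹) with hw
    obtain ⟨x, hx⟩ := Cfsg.Agent.Lib.Helper16_BlockOrth.exists_isPPart (p := 2) Nat.prime_two w
    have hinvw : t * w * t⁻¹ = w⁻¹ := by
      rw [hw, htinv]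
      have h1 : (t * (g * t * g⁻¹))⁻¹ = g * t⁻¹ * g⁻¹ * t⁻¹ := by group
      rw [h1, htinv]
      calc t * (t * (g * t * g⁻¹)) * t = (t * t) * (g * t * g⁻¹) * t := by group
        _ = g * t * g⁻¹ * t := by rw [htt, one_mul]
    have hxinv := inverts_pPart Nat.prime_two hinvw hx
    refine horth w u x u hx huu ?_ _ hB
    rw [isConj_iff]
    rintro ⟨c, hc⟩
    apply hinv u hu c
    rw [← hc]
    calc c * t * c⁻¹ * (c * x * c⁻¹) * (c * t * c⁻¹)⁻¹ = c * (t * x * t⁻¹) * c⁻¹ := by group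
      _ = (c * x * c⁻¹)⁻¹ := by rw [hxinv]; group


theorem sq_div_eq_sum [Fintype G] (χ : IrrCharacter G) (t : G) :
    (χ : G → ℂ) t ^ 2 / (χ : G → ℂ) 1 =
      (Nat.card G : ℂ)⁻¹ * ∑ g : G, (χ : G → ℂ) (t * (g * t * g⁻¹)) := by
  obtain ⟨n, ρ, hirr, hρ⟩ := χ.2
  haveI := hirr
  have h := Cfsg.Agent.Lib.Helper79_ClassAlgebra.card_mul_char_mul_char ρ t t
  have hnz := Cfsg.Agent.Lib.Helper79_ClassAlgebra.finrank_ne_zero_of_irreducible ρ
  have hG : (Nat.card G : ℂ) ≠ 0 := by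
    exact_mod_cast (Nat.card_pos (α := G)).ne'
  rw [← hρ, Representation.char_one, Nat.card_eq_fintype_card]
  rw [Nat.card_eq_fintype_card] at hG
  field_simp
  linear_combination h

/-- the third relation, from the class multiplication formula -/
theorem orth_sq (M : Ideal AlgInt) (hM : IsPModular 2 M) (P : Subgroup G) (hP : IsPGroup 2 P)
    (U : Set G) (hUP : U ⊆ (P : Set G)) (t : G) (ht : orderOf t = 2)
    (hinv : ∀ u ∈ U, ∀ g : G, (g * t * g⁻¹) * u * (g * t * g⁻¹)⁻¹ ≠ u⁻¹) (u : G) (hu : u ∈ U) :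
    ∑ᶠ χ ∈ principalBlock M G,
      ((χ : G → ℂ) t ^ 2 / (χ : G → ℂ) 1) * (χ : G → ℂ) u⁻¹ = 0 := by
  classical
  have := Fintype.ofFinite G
  have := Fintype.ofFinite {χ : IrrCharacter G // χ ∈ principalBlock M G}
  have h3 := (orth_facts M hM P hP U hUP t ht hinv u hu).2.2
  rw [finsum_mem_eq_sum_subtype]
  have h1 : ∀ i : {χ : IrrCharacter G // χ ∈ principalBlock M G},
      ((i.1 : G → ℂ) t ^ 2 / (i.1 : G → ℂ) 1) * (i.1 : G → ℂ) u⁻¹ =
        ∑ g : G, (Nat.card G : ℂ)⁻¹ *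
          ((i.1 : G → ℂ) (t * (g * t * g⁻¹)) * (i.1 : G → ℂ) u⁻¹) := by
    intro i
    rw [sq_div_eq_sum, Finset.mul_sum, Finset.sum_mul]
    refine Finset.sum_congr rfl fun g _ => ?_
    ring
  simp only [h1]
  rw [Finset.sum_comm]
  refine Finset.sum_eq_zero fun g _ => ?_
  rw [← Finset.mul_sum]
  have h2 := h3 g
  rw [finsum_mem_eq_sum_subtype] at h2
  rw [h2, mul_zero]


/-- the sum of the values of a generalized character is real -/
theorem im_sum_genChar {H : Type*} [Group H] [Finite H] (θ : H → ℂ)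
    (hθ : IsGeneralizedCharacter H θ) : (∑ᶠ y : H, θ y).im = 0 := by
  classical
  have := Fintype.ofFinite H
  obtain ⟨χ, ψ, ⟨n, ρ, rfl⟩, ⟨m, σ, rfl⟩, rfl⟩ := hθ
  rw [finsum_eq_sum_of_fintype]
  have hreal : ∀ {k : ℕ} (τ : Representation ℂ H (Fin k → ℂ)),
      (∑ y : H, τ.character y).im = 0 := by
    intro k τ
    have h1 : conj (∑ y : H, τ.character y) = ∑ y : H, τ.character y := by
      rw [map_sum]
      have h2 : ∀ y : H, conj (τ.character y) = τ.character y⁻¹ := fun y =>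
        (Cfsg.Agent.Lib.Helper80_CharBasic.char_inv_eq_conj τ y).symm
      simp only [h2]
      exact Fintype.sum_equiv (Equiv.inv H) _ _ (fun y => rfl)
    exact Complex.conj_eq_iff_im.1 h1
  simp only [Pi.sub_apply]
  rw [Finset.sum_sub_distrib, Complex.sub_im, hreal ρ, hreal σ, sub_zero]

theorem trivIrr_mem (M : Ideal AlgInt) (hM : IsPModular 2 M) :
    (⟨fun _ => 1, Cfsg.Agent.Lib.Helper80_CharBasic.isIrrCharacter_one G⟩ : IrrCharacter G) ∈
      principalBlock M G :=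
  Cfsg.Agent.Lib.Helper78_LocalRing.sameBlock_refl
    (Cfsg.Agent.Lib.Helper78_LocalRing.isPrime_of_isPModular hM) _

/-- a nontrivial member `χ` of the principal block with `χ t = χ 1` gives the normal subgroup -/
theorem exists_normal_of_ker (M : Ideal AlgInt) (hM : IsPModular 2 M) (t : G)
    (χ : IrrCharacter G) (hχ : χ ∈ principalBlock M G)
    (hne : χ ≠ ⟨fun _ => 1, Cfsg.Agent.Lib.Helper80_CharBasic.isIrrCharacter_one G⟩)
    (ht : (χ : G → ℂ) t = (χ : G → ℂ) 1) :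
    ∃ K : Subgroup G, K.Normal ∧ K ≠ ⊤ ∧ Cfsg.pPrimeCore 2 G ≤ K ∧ t ∈ K := by
  classical
  haveI : Fact (Nat.Prime 2) := ⟨Nat.prime_two⟩
  have := Fintype.ofFinite G
  refine ⟨Cfsg.Agent.S0938.charKer χ, ?_, ?_, ?_, ht⟩
  · refine ⟨fun n hn g => ?_⟩
    rw [Cfsg.Agent.S0938.mem_charKer] at hn ⊢
    rw [Cfsg.Agent.Lib.Helper78_CentralChar.isIrrCharacter_isClassFunction χ.2 n g]
    exact hn
  · intro htop
    apply hne
    have hall : ∀ g : G, (χ : G → ℂ) g = (χ : G → ℂ) 1 := fun g => by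
      have : g ∈ Cfsg.Agent.S0938.charKer χ := by rw [htop]; exact Subgroup.mem_top g
      exact this
    obtain ⟨n, hn, h1⟩ := Cfsg.Agent.Lib.Helper80_CharBasic.irr_apply_one χ
    have horth := Cfsg.Agent.Lib.Helper81_CharOrth.sum_irr_mul_irr_inv χ.2
      (Cfsg.Agent.Lib.Helper80_CharBasic.isIrrCharacter_one G)
    have hsum : ∑ g : G, (χ : G → ℂ) g * (fun _ : G => (1 : ℂ)) g⁻¹ = (Nat.card G : ℂ) * n := by
      simp only [hall, h1, mul_one, Finset.sum_const, Finset.card_univ, nsmul_eq_mul,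
        Nat.card_eq_fintype_card]
    rw [hsum] at horth
    by_cases hc : (χ : G → ℂ) = fun _ => 1
    · exact Subtype.ext hc
    · rw [if_neg hc] at horth
      exfalso
      have hG : (Nat.card G : ℂ) ≠ 0 := by exact_mod_cast (Nat.card_pos (α := G)).ne'
      have hn' : (n : ℂ) ≠ 0 := by exact_mod_cast hn.ne'
      exact mul_ne_zero hG hn' horth
  · obtain ⟨K0, -, hK0, -, -, hmax⟩ := Cfsg.Agent.S0938.result 2 M hM (principalBlock M G)
      (isPBlock_principal M)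
      (⟨fun _ => 1, Cfsg.Agent.Lib.Helper80_CharBasic.isIrrCharacter_one G⟩ : IrrCharacter G)
      (trivIrr_mem M hM)
    have hcop := Cfsg.Agent.Lib.Helper1_Cores.pPrimeCore_card_coprime (G := G) 2
    have h2 : ¬ 2 ∣ Nat.card (Cfsg.pPrimeCore 2 G) := by
      intro hd
      have := Nat.Coprime.eq_one_of_dvd hcop.symm hd
      omega
    have hle : Cfsg.pPrimeCore 2 G ≤ K0 :=
      hmax _ (Cfsg.Agent.Lib.Helper1_Cores.pPrimeCore_normal 2) h2 (fun g _ => rfl)
    intro g hg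
    have hg0 : g ∈ (K0 : Set G) := hle hg
    rw [hK0] at hg0
    exact hg0 χ hχ


end main

/-- Let M be a maximal ideal of the algebraic integers containing 2, P a 2-subgroup of the finite group G, U a subset of P, and t an involution of G such that no element of U is inverted by any conjugate of t. Let θ be a generalized character of P vanishing outside U, and for χ in the principal 2-block B₀ put a_χ = #P⁻¹ Σ_{y ∈ P} χ(y) θ(y⁻¹). Then Σ_{χ ∈ B₀} a_χ χ(t)^2/χ(1) = 0, Σ_{χ ∈ B₀} a_χ χ(1) = 0 and Σ_{χ ∈ B₀} a_χ χ(t) = 0. If moreover #P⁻¹ Σ_{y ∈ P} θ(y) ≠ 0, then either at least two of the a_χ have positive real part and at least two have negative real part, or G has a proper normal subgroup containing O_2'(G) and t. -/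
theorem result {G : Type*} [Group G] [Finite G] (M : Ideal Cfsg.AlgInt) (hM : Cfsg.IsPModular 2 M) (P : Subgroup G) (hP : IsPGroup 2 P) (U : Set G) (hUP : U ⊆ (P : Set G)) (t : G) (ht : orderOf t = 2) (hinv : ∀ u ∈ U, ∀ g : G, (g * t * g⁻¹) * u * (g * t * g⁻¹)⁻¹ ≠ u⁻¹) (θ : ↥P → ℂ) (hθ : Cfsg.IsGeneralizedCharacter ↥P θ) (hθU : ∀ y : ↥P, (y : G) ∉ U → θ y = 0) : (∑ᶠ χ ∈ Cfsg.principalBlock M G, ((Nat.card ↥P : ℂ)⁻¹ * ∑ᶠ y : ↥P, (χ : G → ℂ) (y : G) * θ y⁻¹) * (χ : G → ℂ) t ^ 2 / (χ : G → ℂ) 1 = 0) ∧ (∑ᶠ χ ∈ Cfsg.principalBlock M G, ((Nat.card ↥P : ℂ)⁻¹ * ∑ᶠ y : ↥P, (χ : G → ℂ) (y : G) * θ y⁻¹) * (χ : G → ℂ) 1 = 0) ∧ (∑ᶠ χ ∈ Cfsg.principalBlock M G, ((Nat.card ↥P : ℂ)⁻¹ * ∑ᶠ y : ↥P, (χ : G → ℂ) (y : G) * θ y⁻¹) * (χ : G → ℂ) t = 0) ∧ ((Nat.card ↥P : ℂ)⁻¹ * ∑ᶠ y : ↥P, θ y ≠ 0 → (2 ≤ Nat.card {χ : Cfsg.IrrCharacter G // χ ∈ Cfsg.principalBlock M G ∧ 0 < (((Nat.card ↥P : ℂ)⁻¹ * ∑ᶠ y : ↥P, (χ : G → ℂ) (y : G) * θ y⁻¹)).re} ∧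 2 ≤ Nat.card {χ : Cfsg.IrrCharacter G // χ ∈ Cfsg.principalBlock M G ∧ (((Nat.card ↥P : ℂ)⁻¹ * ∑ᶠ y : ↥P, (χ : G → ℂ) (y : G) * θ y⁻¹)).re < 0}) ∨ ∃ K : Subgroup G, K.Normal ∧ K ≠ ⊤ ∧ Cfsg.pPrimeCore 2 G ≤ K ∧ t ∈ K) := by
  classical
  have hA1 := key P U θ hθU (principalBlock M G) (fun χ => (χ : G → ℂ) 1)
    (fun u hu => (orth_facts M hM P hP U hUP t ht hinv u hu).1)
  have hA2 := key P U θ hθU (principalBlock M G) (fun χ => (χ : G → ℂ) t)
    (fun u hu => (orth_facts M hM P hP U hUP t ht hinv u hu).2.1)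
  have hA3' := key P U θ hθU (principalBlock M G)
    (fun χ => (χ : G → ℂ) t ^ 2 / (χ : G → ℂ) 1)
    (fun u hu => orth_sq M hM P hP U hUP t ht hinv u hu)
  have hA3 : ∑ᶠ χ ∈ Cfsg.principalBlock M G, ((Nat.card ↥P : ℂ)⁻¹ *
      ∑ᶠ y : ↥P, (χ : G → ℂ) (y : G) * θ y⁻¹) * (χ : G → ℂ) t ^ 2 / (χ : G → ℂ) 1 = 0 := by
    simpa only [mul_div_assoc] using hA3'
  refine ⟨hA3, hA1, hA2, ?_⟩
  intro hne
  -- notation
  set a : IrrCharacter G → ℂ := fun χ =>
    (Nat.card ↥P : ℂ)⁻¹ * ∑ᶠ y : ↥P, (χ : G → ℂ) (y : G) * θ y⁻¹ with ha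
  have hfin : Fintype {χ : IrrCharacter G // χ ∈ principalBlock M G} := Fintype.ofFinite _
  -- real-valuedness
  have hdeg : ∀ χ : IrrCharacter G, ((χ : G → ℂ) 1).im = 0 ∧ 0 < ((χ : G → ℂ) 1).re := by
    intro χ
    obtain ⟨n, hn, h1⟩ := Cfsg.Agent.Lib.Helper80_CharBasic.irr_apply_one χ
    rw [h1]
    refine ⟨by simp, ?_⟩
    simp only [Complex.natCast_re]
    exact_mod_cast hn
  have htim : ∀ χ : IrrCharacter G, ((χ : G → ℂ) t).im = 0 := by
    intro χ
    have h := Cfsg.Agent.Lib.Helper80_CharBasic.irr_inv χ t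
    rw [inv_eq_self_of_orderOf ht] at h
    exact Complex.conj_eq_iff_im.1 h.symm
  have htle : ∀ χ : IrrCharacter G, ((χ : G → ℂ) t).re ≤ ((χ : G → ℂ) 1).re := by
    intro χ
    obtain ⟨n, ρ, hirr, hρ⟩ := χ.2
    rw [← hρ, Representation.char_one]
    have h1 := Cfsg.Agent.Lib.Helper3_CharEigen.norm_char_le ρ t
    have h2 := Complex.re_le_norm (ρ.character t)
    simp only [Complex.natCast_re]
    linarith
  -- the relations over the subtype
  rw [finsum_mem_eq_sum_subtype] at hA1 hA2 hA3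
  set r : {χ : IrrCharacter G // χ ∈ principalBlock M G} → ℝ := fun i => (a i.1).re with hr
  set d : {χ : IrrCharacter G // χ ∈ principalBlock M G} → ℝ :=
    fun i => ((i.1 : G → ℂ) 1).re with hd
  set τ : {χ : IrrCharacter G // χ ∈ principalBlock M G} → ℝ :=
    fun i => ((i.1 : G → ℂ) t).re with hτ
  have h1 : ∑ i, r i * d i = 0 := by
    have := congrArg Complex.re hA1
    rw [Complex.re_sum, Complex.zero_re] at this
    rw [← this]
    refine Finset.sum_congr rfl fun i _ => ?_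
    rw [Complex.mul_re, (hdeg i.1).1, mul_zero, sub_zero]
  have h2 : ∑ i, r i * τ i = 0 := by
    have := congrArg Complex.re hA2
    rw [Complex.re_sum, Complex.zero_re] at this
    rw [← this]
    refine Finset.sum_congr rfl fun i _ => ?_
    rw [Complex.mul_re, htim i.1, mul_zero, sub_zero]
  have h3 : ∑ i, r i * τ i ^ 2 / d i = 0 := by
    have := congrArg Complex.re hA3
    rw [Complex.re_sum, Complex.zero_re] at this
    rw [← this]
    refine Finset.sum_congr rfl fun i _ => ?_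
    have e1 : (i.1 : G → ℂ) t = ((τ i : ℝ) : ℂ) := Complex.ext rfl (by simpa using htim i.1)
    have e2 : (i.1 : G → ℂ) 1 = ((d i : ℝ) : ℂ) := Complex.ext rfl (by simpa using (hdeg i.1).1)
    rw [e1, e2]
    have e3 : a i.1 * ((τ i : ℝ) : ℂ) ^ 2 / ((d i : ℝ) : ℂ) =
        a i.1 * ((τ i ^ 2 / d i : ℝ) : ℂ) := by
      push_cast
      ring
    rw [e3, Complex.re_mul_ofReal]
    ring
  -- the trivial character
  set o : {χ : IrrCharacter G // χ ∈ principalBlock M G} :=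
    ⟨⟨fun _ => 1, Cfsg.Agent.Lib.Helper80_CharBasic.isIrrCharacter_one G⟩, trivIrr_mem M hM⟩ with ho
  have hoτ : τ o = d o := rfl
  have hao : a o.1 = (Nat.card ↥P : ℂ)⁻¹ * ∑ᶠ y : ↥P, θ y := by
    show (Nat.card ↥P : ℂ)⁻¹ * ∑ᶠ y : ↥P, (1 : ℂ) * θ y⁻¹ = _
    simp only [one_mul]
    congr 1
    exact finsum_comp_equiv (Equiv.inv ↥P) (f := θ)
  have hro : r o ≠ 0 := by
    intro h0
    apply hne
    rw [← hao]
    apply Complex.ext
    · exact h0
    · rw [hao, Complex.mul_im, im_sum_genChar θ hθ]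
      simp
  have hdpos : ∀ i, 0 < d i := fun i => (hdeg i.1).2
  have hτle : ∀ i, τ i ≤ d i := fun i => htle i.1
  -- transport of the counting statements
  have hcardP : Nat.card {χ : Cfsg.IrrCharacter G // χ ∈ Cfsg.principalBlock M G ∧ 0 < (a χ).re} =
      Nat.card {i : {χ : IrrCharacter G // χ ∈ principalBlock M G} // 0 < r i} :=
    (Nat.card_congr (Equiv.subtypeSubtypeEquivSubtypeInter (· ∈ principalBlock M G)
      (fun χ => 0 < (a χ).re))).symm
  have hcardN : Nat.card {χ : Cfsg.IrrCharacter G // χ ∈ Cfsg.principalBlock M G ∧ (a χ).re < 0} =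
      Nat.card {i : {χ : IrrCharacter G // χ ∈ principalBlock M G} // r i < 0} :=
    (Nat.card_congr (Equiv.subtypeSubtypeEquivSubtypeInter (· ∈ principalBlock M G)
      (fun χ => (a χ).re < 0))).symm
  have hfinal : ∀ i : {χ : IrrCharacter G // χ ∈ principalBlock M G}, i ≠ o → τ i = d i →
      ∃ K : Subgroup G, K.Normal ∧ K ≠ ⊤ ∧ Cfsg.pPrimeCore 2 G ≤ K ∧ t ∈ K := by
    intro i hio hi
    refine exists_normal_of_ker M hM t i.1 i.2 (fun h => hio (Subtype.ext h)) ?_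
    exact Complex.ext hi (by rw [htim i.1, (hdeg i.1).1])
  rw [hcardP, hcardN]
  rcases lt_or_gt_of_ne hro with hneg | hpos
  · -- apply the sign lemma to `-r`
    have h1' : ∑ i, (-r i) * d i = 0 := by
      simp only [neg_mul, Finset.sum_neg_distrib, h1, neg_zero]
    have h2' : ∑ i, (-r i) * τ i = 0 := by
      simp only [neg_mul, Finset.sum_neg_distrib, h2, neg_zero]
    have h3' : ∑ i, (-r i) * τ i ^ 2 / d i = 0 := by
      simp only [neg_mul, neg_div, Finset.sum_neg_distrib, h3, neg_zero]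
    rcases sign_lemma (fun i => -r i) d τ o hdpos hτle hoτ h1' h2' h3' (by simpa using hneg) with
      h | ⟨i, hio, hi⟩
    · left
      simp only [Left.neg_pos_iff, Left.neg_neg_iff] at h
      exact ⟨h.2, h.1⟩
    · exact Or.inr (hfinal i hio hi)
  · rcases sign_lemma r d τ o hdpos hτle hoτ h1 h2 h3 hpos with h | ⟨i, hio, hi⟩
    · exact Or.inl h
    · exact Or.inr (hfinal i hio hi)

end Cfsg.Agent.S4722
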