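import Cfsg.Statements.S4725
import Cfsg.Agent.Lib.Helper57_IndBlock

set_option autoImplicit false
open Cfsg

namespace Cfsg.Agent.S4725

open Cfsg.Agent.Lib.Helper57_IndBlock Cfsg.Agent.Lib.Helper57_BrauerFeit
  Cfsg.Agent.Lib.Helper78_LocalRing Cfsg.Agent.Lib.Helper77_BlockBasics
  Cfsg.Agent.Lib.Helper75_CharArith Cfsg.Agent.Lib.Helper75_IndChar
  Cfsg.Agent.Lib.Helper3_CharBridge

/-- Let p be a prime, M a maximal ideal of the algebraic integers containing p, H a subgroup of the finite group G, and b a p-block of H inducing the p-block B of G, with b and B of the same defect. Then for every height-zero ζ ∈ b there is a height-zero χ ∈ B whose multiplicity in the character induced from ζ is not divisible by p. -/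
theorem result {G : Type*} [Group G] [Fintype G] (p : ℕ) [Fact p.Prime] (M : Ideal Cfsg.AlgInt) (hM : Cfsg.IsPModular p M) (H : Subgroup G) (b : Set (Cfsg.IrrCharacter ↥H)) (B : Set (Cfsg.IrrCharacter G)) (hind : Cfsg.IsInducedBlock M H b B) (hdef : Cfsg.blockDefect p b = Cfsg.blockDefect p B) (ζ : Cfsg.IrrCharacter ↥H) (hζ : ζ ∈ b) (hζ0 : Cfsg.blockHeight p b (ζ : ↥H → ℂ) = 0) : ∃ χ ∈ B, Cfsg.blockHeight p B (χ : G → ℂ) = 0 ∧ ∃ a : ℕ, Cfsg.classInner (Cfsg.indFun H (ζ : ↥H → ℂ)) (χ : G → ℂ) = (a : ℂ) ∧ ¬ p ∣ a := by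
  classical
  have hp : p.Prime := Fact.out
  have := Fintype.ofFinite H
  have hM' := isPrime_of_isPModular hM
  obtain ⟨n, hn, h1, _⟩ := factorization_blockPart_indFun hM H hind hζ hind.2.1
  obtain ⟨hn0, hnv⟩ := h1 rfl
  -- multiplicities
  have hch := isCharacter_indFun H (isCharacter_of_isIrrCharacter ζ.2)
  have hm : ∀ χ : IrrCharacter G, ∃ m : ℕ,
      classInner (indFun H (ζ : H → ℂ)) (χ : G → ℂ) = m := fun χ =>
    classInner_isCharacter_nat hch (isCharacter_of_isIrrCharacter χ.2)
  choose m hm using hm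
  have hsum : ∑ χ ∈ bset B, m χ * charDegree (χ : G → ℂ) = n := by
    have h2 : ((∑ χ ∈ bset B, m χ * charDegree (χ : G → ℂ) : ℕ) : ℂ) = (n : ℂ) := by
      rw [← hn, blockPart_apply]
      push_cast
      refine Finset.sum_congr rfl fun χ _ => ?_
      rw [hm χ, apply_one_eq_charDegree]
    exact_mod_cast h2
  -- the valuation of `ζ^G(1)`
  obtain ⟨χ₀, hχ₀⟩ := isPBlock_nonempty hM' hind.2.1
  have hval : n.factorization p = h0 p B := by
    rw [hnv, charDegree_indFun, Nat.factorization_mul (Subgroup.index_ne_zero_of_finite)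
      (charDegree_pos ζ).ne', Finsupp.add_apply, val_eq_h0_add hζ, hζ0, add_zero]
    have e1 := h0_add_defect (p := p) hζ
    have e2 := h0_add_defect (p := p) hχ₀
    have e3 : (Nat.card G).factorization p =
        (Nat.card H).factorization p + H.index.factorization p := by
      rw [← Subgroup.card_mul_index H, Nat.factorization_mul Nat.card_pos.ne'
        (Subgroup.index_ne_zero_of_finite), Finsupp.add_apply]
    omega
  by_contra hcon
  rw [not_exists] at hcon
  have hall : ∀ χ ∈ bset B, p ^ (h0 p B + 1) ∣ m χ * charDegree (χ : G → ℂ) := by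
    intro χ hχ
    have hχB := mem_bset.mp hχ
    have hd : p ^ (charDegree (χ : G → ℂ)).factorization p ∣ charDegree (χ : G → ℂ) :=
      Nat.ordProj_dvd _ p
    by_cases hht : blockHeight p B (χ : G → ℂ) = 0
    · have hpm : p ∣ m χ := by
        by_contra hnd
        exact hcon χ ⟨hχB, hht, m χ, hm χ, hnd⟩
      rw [pow_succ, mul_comm (p ^ h0 p B) p]
      apply Nat.mul_dvd_mul hpm
      rw [val_eq_h0_add hχB, hht, add_zero] at hd
      exact hd
    · apply Dvd.dvd.mul_left
      refine (pow_dvd_pow p ?_).trans hd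
      rw [val_eq_h0_add hχB]
      omega
  have hdvd : p ^ (h0 p B + 1) ∣ n := by
    rw [← hsum]
    exact Finset.dvd_sum hall
  have := (hp.pow_dvd_iff_le_factorization hn0).mp hdvd
  omega

end Cfsg.Agent.S4725
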