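import Cfsg.Statements.S4726
import Cfsg.Agent.Lib.Helper97_InducedPair2

set_option autoImplicit false
open Cfsg

namespace Cfsg.Agent.S4726

/-- Let p be a prime, M a maximal ideal of the algebraic integers containing p, H a subgroup of the finite group G and b a p-block of H with defect group D₀ such that C_G(D₀) ≤ H. Then b induces a block of G, and for every block B of G induced by b there is a defect group D of B with Z(D) ≤ Z(D₀) ≤ D₀ ≤ D (as subgroups of G). In particular, if the defect groups of B are abelian then D₀ is a defect group of B. -/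
theorem result {G : Type*} [Group G] [Finite G] (p : ℕ) [Fact p.Prime] (M : Ideal Cfsg.AlgInt) (hM : Cfsg.IsPModular p M) (H : Subgroup G) (b : Set (Cfsg.IrrCharacter ↥H)) (hb : Cfsg.IsPBlock M b) (D₀ : Subgroup ↥H) (hD₀ : Cfsg.IsDefectGroup p M b D₀) (hC : Subgroup.centralizer ((D₀.map H.subtype : Subgroup G) : Set G) ≤ H) : Cfsg.InducedBlockDefined M H b ∧ ∀ B : Set (Cfsg.IrrCharacter G), Cfsg.IsInducedBlock M H b B → (∃ D : Subgroup G, Cfsg.IsDefectGroup p M B D ∧ (Subgroup.center ↥D).map D.subtype ≤ ((Subgroup.center ↥D₀).map D₀.subtype).map H.subtype ∧ ((Subgroup.center ↥D₀).map D₀.subtype).map H.subtype ≤ D₀.map H.subtype ∧ D₀.map H.subtype ≤ D) ∧ (∀ D : Subgroup G, Cfsg.IsDefectGroup p M B D → IsMulCommutative ↥D → Cfsg.IsDefectGroup p M B (D₀.map H.subtype)) := by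
  classical
  let _ : Fintype G := Fintype.ofFinite G
  have hMp := Cfsg.Agent.Lib.Helper78_LocalRing.isPrime_of_isPModular hM
  have hPH : D₀.map H.subtype ≤ H := by
    rintro _ ⟨d, -, rfl⟩
    exact d.2
  have hD₀eq : (D₀.map H.subtype).subgroupOf H = D₀ := by
    ext h
    rw [Subgroup.mem_subgroupOf]
    constructor
    · rintro ⟨d, hd, hdh⟩
      have : d = h := Subtype.ext hdh
      rw [← this]
      exact hd
    · intro hh
      exact ⟨h, hh, rfl⟩
  have hD₀' : IsDefectGroup p M b ((D₀.map H.subtype).subgroupOf H) := by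
    rw [hD₀eq]
    exact hD₀
  obtain ⟨h1, h2⟩ := Cfsg.Agent.Lib.Helper97_InducedPair2.induced_of_cent_le hM H hb hPH hD₀' hC
  refine ⟨h1, fun B hind => ?_⟩
  have hB := hind.2.1
  obtain ⟨D, hD, hPD, hZ⟩ := h2 B hind
  constructor
  · refine ⟨D, hD, ?_, ?_, hPD⟩
    · rintro _ ⟨z, hz, rfl⟩
      have hzc : ∀ d ∈ D, (z : G) * d = d * (z : G) := by
        intro d hd
        have := Subgroup.mem_center_iff.mp hz ⟨d, hd⟩
        exact (congrArg Subtype.val this).symm
      obtain ⟨d, hd, hdz⟩ := hZ (z : G) z.2 hzc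
      refine ⟨d, ⟨⟨d, hd⟩, ?_, rfl⟩, hdz⟩
      rw [SetLike.mem_coe, Subgroup.mem_center_iff]
      intro e
      apply Subtype.ext
      apply Subtype.ext
      have heD : ((e : H) : G) ∈ D := hPD ⟨(e : H), e.2, rfl⟩
      have h3 := hzc _ heD
      have hdz' : ((d : H) : G) = (z : G) := hdz
      push_cast
      rw [hdz', h3]
    · rintro _ ⟨h, ⟨d, -, rfl⟩, rfl⟩
      exact ⟨(d : H), d.2, rfl⟩
  · intro D₁ hD₁ hcomm
    obtain ⟨y, hy⟩ := Cfsg.Agent.Lib.Helper78_PairConj.exists_conj_eq_of_isDefectGroup hM hB hD₁ hD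
    have hDc : ∀ a ∈ D, ∀ c ∈ D, a * c = c * a := by
      rw [← hy]
      rintro _ ⟨a, ha, rfl⟩ _ ⟨c, hc, rfl⟩
      have h3 : (⟨a, ha⟩ : D₁) * ⟨c, hc⟩ = ⟨c, hc⟩ * ⟨a, ha⟩ := mul_comm' _ _
      have h4 : a * c = c * a := congrArg Subtype.val h3
      simp only [MulEquiv.coe_toMonoidHom, MulAut.conj_apply]
      calc y * a * y⁻¹ * (y * c * y⁻¹) = y * (a * c) * y⁻¹ := by group
        _ = y * (c * a) * y⁻¹ := by rw [h4]
        _ = y * c * y⁻¹ * (y * a * y⁻¹) := by group
    have hDP : D ≤ D₀.map H.subtype := fun z hz => hZ z hz (fun d hd => hDc z hz d hd)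
    have : D₀.map H.subtype = D := le_antisymm hPD hDP
    rw [this]
    exact hD

end Cfsg.Agent.S4726
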