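import Cfsg.Statements.S4729
import Cfsg.Agent.Lib.Helper76_EigenDet
import Cfsg.Agent.Lib.Helper78_LocalRing
import Cfsg.Agent.Lib.Helper79_CharVals
import Cfsg.Agent.Lib.Helper80_CharBasic

set_option autoImplicit false
open Cfsg

namespace Cfsg.Agent.S4729

open Cfsg.Agent.Lib Cfsg.Agent.Lib.Helper3_CharEigen Cfsg.Agent.Lib.Helper76_EigenDet
  Cfsg.Agent.Lib.Helper78_LocalRing

theorem memLocalRing_of_pow_eq_one {M : Ideal Cfsg.AlgInt} (hM : M.IsPrime) {μ : ℂ} {N : ℕ}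
    (hN : 0 < N) (h : μ ^ N = 1) : MemLocalRing M μ :=
  memLocalRing_algInt hM ⟨μ, IsIntegral.of_pow hN (h ▸ isIntegral_one)⟩

/-- The arithmetic core: eigenvalue multiplicities `m` on a finite set `S` of `q`-th roots of unity,
with "character values" `a j` all congruent to the degree `n < 2p` in the sense of the principal
block, and trivial determinant, force all eigenvalues to be `1`. -/
theorem core {p : ℕ} {M : Ideal Cfsg.AlgInt} (hM : Cfsg.IsPModular p M) (q : ℕ) (hq : q.Prime)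
    (hqp : q ≠ p) (n : ℕ) (hn0 : 0 < n) (hn2 : n < 2 * p) (a : ℕ → ℂ)
    (hloc : ∀ j : ℕ, MemLocalIdeal M (1 - a j / n)) (S : Finset ℂ) (m : ℂ → ℕ)
    (F1 : ∑ μ ∈ S, m μ = n) (F2 : ∀ μ ∈ S, 0 < m μ) (F3 : ∀ μ ∈ S, μ ^ q = 1)
    (F4 : ∀ μ₀ ∈ S, ∑ j ∈ Finset.range q, a j * (μ₀ ^ (q - 1)) ^ j = (q : ℂ) * (m μ₀ : ℂ))
    (F6 : ∏ μ ∈ S, μ ^ m μ = 1) : ∀ μ ∈ S, μ = 1 := by
  classical
  have hp : p.Prime := hM.1
  have hMp := isPrime_of_isPModular hM
  have hqp' : ¬ p ∣ q := fun h => hqp ((Nat.prime_dvd_prime_iff_eq hp hq).mp h).symm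
  have hn0' : (n : ℂ) ≠ 0 := Nat.cast_ne_zero.mpr hn0.ne'
  have hw : ∀ μ₀ ∈ S, ∀ j : ℕ, MemLocalRing M ((μ₀ ^ (q - 1)) ^ j) := by
    intro μ₀ hμ₀ j
    apply memLocalRing_of_pow_eq_one hMp hq.pos (N := q)
    calc ((μ₀ ^ (q - 1)) ^ j) ^ q = (μ₀ ^ q) ^ ((q - 1) * j) := by ring
      _ = 1 := by rw [F3 μ₀ hμ₀, one_pow]
  have hgeom : ∀ μ₀ ∈ S, μ₀ ≠ 1 → ∑ j ∈ Finset.range q, (μ₀ ^ (q - 1)) ^ j = 0 := by
    intro μ₀ hμ₀ hne
    have hζ : (μ₀ ^ (q - 1)) ^ q = 1 := by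
      rw [← pow_mul, mul_comm, pow_mul, F3 μ₀ hμ₀, one_pow]
    rw [geom_sum_eq_ite hζ, if_neg]
    intro h1
    apply hne
    have h2 : μ₀ * μ₀ ^ (q - 1) = 1 := by
      rw [← pow_succ', Nat.sub_add_cancel hq.pos, F3 μ₀ hμ₀]
    rw [h1, mul_one] at h2
    exact h2
  have hmle : ∀ μ ∈ S, m μ ≤ n := fun μ hμ => by
    rw [← F1]
    exact Finset.single_le_sum (f := m) (fun _ _ => Nat.zero_le _) hμ
  by_cases hpn : p ∣ n
  · -- `n = p`
    have hnp : n = p := by
      obtain ⟨k, hk⟩ := hpn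
      have hk1 : k = 1 := by
        have h1 : 0 < k := Nat.pos_of_ne_zero (fun h => by rw [h, mul_zero] at hk; omega)
        have h2 : k < 2 := by
          by_contra h
          push Not at h
          have : p * 2 ≤ p * k := Nat.mul_le_mul_left p h
          omega
        omega
      rw [hk, hk1, mul_one]
    intro μ₀ hμ₀
    by_contra hne
    have hmpos : 0 < m μ₀ := F2 μ₀ hμ₀
    have hmle' : m μ₀ ≤ p := hnp ▸ hmle μ₀ hμ₀
    have hTmem : MemLocalIdeal M (∑ j ∈ Finset.range q, (1 - a j / n) * (μ₀ ^ (q - 1)) ^ j) :=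
      memLocalIdeal_sum hMp _ _
        (fun j _ => memLocalIdeal_mul_right hMp (hloc j) (hw μ₀ hμ₀ j))
    have hqm : (q : ℂ) * (m μ₀ : ℂ) =
        -((n : ℂ) * ∑ j ∈ Finset.range q, (1 - a j / n) * (μ₀ ^ (q - 1)) ^ j) := by
      rw [← F4 μ₀ hμ₀]
      have h1 : ∀ j, (1 - a j / n) * (μ₀ ^ (q - 1)) ^ j =
          (μ₀ ^ (q - 1)) ^ j - (a j * (μ₀ ^ (q - 1)) ^ j) / n := fun j => by ring
      simp_rw [h1]
      rw [Finset.sum_sub_distrib, hgeom μ₀ hμ₀ hne, zero_sub, ← Finset.sum_div, mul_neg, neg_neg,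
        mul_div_cancel₀ _ hn0']
    have h1 : MemLocalIdeal M ((q * m μ₀ : ℕ) : ℂ) := by
      push_cast
      rw [hqm]
      exact memLocalIdeal_neg (memLocalIdeal_mul_left hMp (memLocalRing_natCast hMp n) hTmem)
    rw [memLocalIdeal_natCast_iff hM] at h1
    obtain ⟨k, hk⟩ := (hp.dvd_mul.mp h1).resolve_left hqp'
    have hk' : m μ₀ = n * k := by rw [hnp]; exact hk
    have h2 : ((q * k : ℕ) : ℂ) =
        -(∑ j ∈ Finset.range q, (1 - a j / n) * (μ₀ ^ (q - 1)) ^ j) := by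
      apply mul_left_cancel₀ hn0'
      rw [mul_neg, ← hqm, hk']
      push_cast
      ring
    have h3 : MemLocalIdeal M ((q * k : ℕ) : ℂ) := by
      rw [h2]
      exact memLocalIdeal_neg hTmem
    rw [memLocalIdeal_natCast_iff hM] at h3
    obtain ⟨l, hl⟩ := (hp.dvd_mul.mp h3).resolve_left hqp'
    have hl0 : 0 < l := Nat.pos_of_ne_zero (fun h => by
      rw [h, mul_zero] at hl
      rw [hl, mul_zero] at hk
      omega)
    have h4 : p * p ≤ m μ₀ := by
      rw [hk, hl]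
      exact Nat.mul_le_mul_left p (Nat.le_mul_of_pos_right p hl0)
    have h5 : 2 * p ≤ p * p := Nat.mul_le_mul_right p hp.two_le
    have h6 : 0 < p := hp.pos
    omega
  · -- `p ∤ n`
    have hloc' : ∀ j, MemLocalIdeal M ((n : ℂ) - a j) := by
      intro j
      have h1 := memLocalIdeal_mul_left hMp (memLocalRing_natCast hMp n) (hloc j)
      have h2 : (n : ℂ) * (1 - a j / n) = (n : ℂ) - a j := by
        field_simp
      rw [h2] at h1
      exact h1
    have hdiv : ∀ μ₀ ∈ S, μ₀ ≠ 1 → p ∣ m μ₀ := by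
      intro μ₀ hμ₀ hne
      have hqm : ((q * m μ₀ : ℕ) : ℂ) =
          -(∑ j ∈ Finset.range q, ((n : ℂ) - a j) * (μ₀ ^ (q - 1)) ^ j) := by
        push_cast
        rw [← F4 μ₀ hμ₀]
        have h1 : ∀ j, ((n : ℂ) - a j) * (μ₀ ^ (q - 1)) ^ j =
            (n : ℂ) * (μ₀ ^ (q - 1)) ^ j - a j * (μ₀ ^ (q - 1)) ^ j := fun j => by ring
        simp_rw [h1]
        rw [Finset.sum_sub_distrib, ← Finset.mul_sum, hgeom μ₀ hμ₀ hne, mul_zero, zero_sub, neg_neg]
      have h1 : MemLocalIdeal M ((q * m μ₀ : ℕ) : ℂ) := by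
        rw [hqm]
        exact memLocalIdeal_neg (memLocalIdeal_sum hMp _ _
          (fun j _ => memLocalIdeal_mul_right hMp (hloc' j) (hw μ₀ hμ₀ j)))
      rw [memLocalIdeal_natCast_iff hM] at h1
      exact (hp.dvd_mul.mp h1).resolve_left hqp'
    by_contra hex
    push Not at hex
    obtain ⟨μ₁, hμ₁, hne₁⟩ := hex
    have hS'mem : ∀ μ ∈ S.erase 1, μ ∈ S ∧ μ ≠ 1 := fun μ hμ =>
      ⟨Finset.mem_of_mem_erase hμ, Finset.ne_of_mem_erase hμ⟩
    have hge : ∀ μ ∈ S.erase 1, p ≤ m μ := fun μ hμ =>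
      Nat.le_of_dvd (F2 μ (hS'mem μ hμ).1) (hdiv μ (hS'mem μ hμ).1 (hS'mem μ hμ).2)
    have hcard : (S.erase 1).card * p ≤ n := by
      calc (S.erase 1).card * p = ∑ _μ ∈ S.erase 1, p := by rw [Finset.sum_const, smul_eq_mul]
        _ ≤ ∑ μ ∈ S.erase 1, m μ := Finset.sum_le_sum hge
        _ ≤ ∑ μ ∈ S, m μ :=
          Finset.sum_le_sum_of_subset (f := m) (Finset.erase_subset _ _)
        _ = n := F1
    have hcard1 : (S.erase 1).card = 1 := by
      have h1 : (S.erase 1).card < 2 := by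
        by_contra h
        push Not at h
        have : 2 * p ≤ (S.erase 1).card * p := Nat.mul_le_mul_right p h
        omega
      have h2 : (S.erase 1).card ≠ 0 :=
        Finset.card_ne_zero_of_mem (Finset.mem_erase.mpr ⟨hne₁, hμ₁⟩)
      omega
    obtain ⟨μ₀, hμ₀S'⟩ := Finset.card_eq_one.mp hcard1
    have hμ₀ : μ₀ ∈ S ∧ μ₀ ≠ 1 :=
      hS'mem μ₀ (by rw [hμ₀S']; exact Finset.mem_singleton_self _)
    obtain ⟨k, hk⟩ := hdiv μ₀ hμ₀.1 hμ₀.2
    have hmpos := F2 μ₀ hμ₀.1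
    have hmle' := hmle μ₀ hμ₀.1
    have hk1 : k = 1 := by
      have h1 : 0 < k := Nat.pos_of_ne_zero (fun h => by rw [h, mul_zero] at hk; omega)
      have h2 : k < 2 := by
        by_contra h
        push Not at h
        have : p * 2 ≤ p * k := Nat.mul_le_mul_left p h
        omega
      omega
    rw [← Finset.prod_erase S (a := 1) (by rw [one_pow]), hμ₀S', Finset.prod_singleton, hk, hk1,
      mul_one] at F6
    have h7 : μ₀ ^ Nat.gcd p q = 1 := pow_gcd_eq_one.mpr ⟨F6, F3 μ₀ hμ₀.1⟩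
    rw [Nat.Coprime.gcd_eq_one ((Nat.coprime_primes hp hq).mpr hqp.symm), pow_one] at h7
    exact hμ₀.2 h7

/-- Let p be a prime, M a maximal ideal of the algebraic integers containing p, G a finite perfect group and P a Sylow p-subgroup. If the principal p-block of G contains a faithful irreducible character of degree less than 2p, then the centralizer of P is a p-group. -/
theorem result {G : Type*} [Group G] [Finite G] (p : ℕ) [Fact p.Prime] (M : Ideal Cfsg.AlgInt) (hM : Cfsg.IsPModular p M) (hperf : commutator G = ⊤) (P : Sylow p G) (χ : Cfsg.IrrCharacter G) (hχ : χ ∈ Cfsg.principalBlock M G) (hfaith : ∀ g : G, (χ : G → ℂ) g = (χ : G → ℂ) 1 → g = 1) (hdeg : Cfsg.charDegree (χ : G → ℂ) < 2 * p) : IsPGroup p ↥(Subgroup.centralizer ((P : Subgroup G) : Set G)) := by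
  classical
  have hp : p.Prime := Fact.out
  have hMp := isPrime_of_isPModular hM
  obtain ⟨n, ρ, hirr, hρ⟩ := χ.2
  have hχ1 : (χ : G → ℂ) 1 = (n : ℂ) := by
    rw [← hρ, Representation.char_one]
    simp
  have hn : Cfsg.charDegree (χ : G → ℂ) = n := Helper79_CharVals.charDegree_of_eq_natCast hχ1
  rw [hn] at hdeg
  have hn0 : 0 < n := by
    obtain ⟨d, hd0, hd⟩ := Helper80_CharBasic.irr_apply_one χ
    rw [hχ1] at hd
    have : n = d := by exact_mod_cast hd
    omega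
  have hn0' : (n : ℂ) ≠ 0 := Nat.cast_ne_zero.mpr hn0.ne'
  have hfin : Module.finrank ℂ (Fin n → ℂ) = n := by simp
  -- perfect ⇒ det = 1
  have hdet : ∀ g : G, LinearMap.det (ρ g) = 1 := by
    intro g
    let φ : G →* ℂˣ := (LinearMap.det.comp ρ).toHomUnits
    have hker : commutator G ≤ φ.ker := Abelianization.commutator_subset_ker φ
    rw [hperf] at hker
    have h1 : φ g = 1 := MonoidHom.mem_ker.mp (hker (Subgroup.mem_top g))
    have h2 := congrArg Units.val h1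
    simpa [φ] using h2
  by_contra hnot
  obtain ⟨q, hq, hqp, hqdvd⟩ : ∃ q : ℕ, q.Prime ∧ q ≠ p ∧
      q ∣ Nat.card (Subgroup.centralizer ((P : Subgroup G) : Set G)) := by
    by_contra h
    push Not at h
    apply hnot
    rw [IsPGroup.iff_card]
    exact ⟨_, Nat.eq_prime_pow_of_unique_prime_dvd Nat.card_pos.ne'
      (fun {d} hd hdvd => by_contra fun hne => h d hd hne hdvd)⟩
  have : Fact q.Prime := Fact.mk hq
  obtain ⟨y', hy'⟩ := exists_prime_orderOf_dvd_card' q hqdvd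
  obtain ⟨y, hy⟩ : ∃ y : G, y = (y' : G) := ⟨_, rfl⟩
  have hyC : y ∈ Subgroup.centralizer ((P : Subgroup G) : Set G) := hy ▸ y'.2
  have hyo : orderOf y = q := by rw [hy, Subgroup.orderOf_coe]; exact hy'
  have hidx : ∀ j : ℕ, ¬ p ∣ (Subgroup.centralizer ({y ^ j} : Set G)).index := by
    intro j hdvd
    have hle : (P : Subgroup G) ≤ Subgroup.centralizer ({y ^ j} : Set G) := by
      intro x hx
      rw [Subgroup.mem_centralizer_singleton_iff]
      have h1 : y ^ j ∈ Subgroup.centralizer ((P : Subgroup G) : Set G) := pow_mem hyC j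
      rw [Subgroup.mem_centralizer_iff] at h1
      exact h1 x hx
    exact P.not_dvd_index (hdvd.trans (Subgroup.index_dvd_of_le hle))
  have hloc : ∀ j : ℕ, MemLocalIdeal M (1 - (χ : G → ℂ) (y ^ j) / n) := by
    intro j
    have h1 : MemLocalIdeal M (centralChar (fun _ : G => (1 : ℂ)) (y ^ j) -
        centralChar (χ : G → ℂ) (y ^ j)) := hχ (y ^ j)
    unfold centralChar at h1
    have h2 : MemLocalRing M (((Subgroup.centralizer ({y ^ j} : Set G)).index : ℂ)⁻¹) :=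
      memLocalRing_inv_natCast hM (hidx j)
    have h3 := memLocalIdeal_mul_left hMp h2 h1
    have hc0 : ((Subgroup.centralizer ({y ^ j} : Set G)).index : ℂ) ≠ 0 := by
      intro h0
      have h4 : (Subgroup.centralizer ({y ^ j} : Set G)).index = 0 := by exact_mod_cast h0
      exact hidx j (h4 ▸ dvd_zero p)
    convert h3 using 1
    rw [hχ1]
    field_simp
  have hall : ∀ μ ∈ eigSet (ρ y), μ = 1 := by
    refine core hM q hq hqp n hn0 hdeg (fun j => (χ : G → ℂ) (y ^ j)) hloc (eigSet (ρ y))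
      (fun μ => Module.finrank ℂ (Module.End.eigenspace (ρ y) μ)) ?_ ?_ ?_ ?_ ?_
    · rw [← finrank_eq_sum ρ y, hfin]
    · intro μ hμ
      exact finrank_eigenspace_pos hμ
    · intro μ hμ
      rw [← hyo]
      exact eig_pow_orderOf ρ hμ
    · intro μ₀ hμ₀
      have h1 := sum_char_pow_mul ρ y hμ₀
      rw [hyo, hρ] at h1
      exact h1
    · rw [← det_rho_eq_prod ρ y]
      exact hdet y
  have h1 : (χ : G → ℂ) y = n := by
    rw [← hρ, char_eq_sum ρ y]
    have h2 : ∀ μ ∈ eigSet (ρ y),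
        (Module.finrank ℂ (Module.End.eigenspace (ρ y) μ) : ℂ) * μ =
        (Module.finrank ℂ (Module.End.eigenspace (ρ y) μ) : ℂ) := fun μ hμ => by
      rw [hall μ hμ, mul_one]
    rw [Finset.sum_congr rfl h2, ← Nat.cast_sum, ← finrank_eq_sum ρ y, hfin]
  have h2 : y = 1 := hfaith y (h1.trans hχ1.symm)
  rw [h2, orderOf_one] at hyo
  exact hq.one_lt.ne hyo

end Cfsg.Agent.S4729
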