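import Mathlib
import Cfsg.Statements.S4730
import Cfsg.Agent.Lib.Helper3_CharBurnside
import Cfsg.Agent.Lib.Helper78_LocalRing

set_option autoImplicit false
open Cfsg

namespace Cfsg.Agent.S4730

open Cfsg.Agent.Lib.Helper78_LocalRing

/-- the sum of the values of a character over a subgroup is `|H|` times a natural number -/
theorem sum_char_subgroup {K : Type*} [Group K] {V : Type*} [AddCommGroup V] [Module ℂ V]
    [FiniteDimensional ℂ V] (σ : Representation ℂ K V) (H : Subgroup K) [Fintype H] :
    ∃ m : ℕ, ∑ h : H, σ.character (h : K) = (Nat.card H : ℂ) * m := by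
  have hH : (Nat.card H : ℂ) ≠ 0 := by
    rw [Nat.cast_ne_zero]; exact Nat.card_pos.ne'
  have : Invertible (Nat.card H : ℂ) := invertibleOfNonzero hH
  have h := Representation.card_inv_mul_sum_char_eq_finrank (σ.comp H.subtype)
  refine ⟨Module.finrank ℂ (Representation.invariants (σ.comp H.subtype)), ?_⟩
  rw [← h, ← mul_assoc, mul_inv_cancel₀ hH, one_mul]
  rfl

/-- arithmetic: `p^b m = c (1 + j)` with `j` in the local ideal forces `p^b ∣ c` -/
theorem pow_dvd_of_eq {p : ℕ} [Fact p.Prime] {M : Ideal Cfsg.AlgInt} (hM : Cfsg.IsPModular p M)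
    (b c m : ℕ) (hc : c ≠ 0) (j : ℂ) (hj : MemLocalIdeal M j)
    (h : ((p ^ b * m : ℕ) : ℂ) = (c : ℂ) * (1 + j)) : p ^ b ∣ c := by
  have hp : p.Prime := Fact.out
  have hMp : M.IsPrime := isPrime_of_isPModular hM
  obtain ⟨v, c', hc', rfl⟩ := Nat.exists_eq_pow_mul_and_not_dvd hc p hp.ne_one
  by_contra hnd
  have hvb : v < b := by
    by_contra hge
    push Not at hge
    exact hnd (Dvd.dvd.mul_right (pow_dvd_pow p hge) c')
  obtain ⟨t, rfl⟩ : ∃ t, b = v + (t + 1) := ⟨b - v - 1, by omega⟩
  have hpv : ((p : ℂ) ^ v) ≠ 0 := pow_ne_zero _ (by exact_mod_cast hp.ne_zero)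
  have h1 : ((p ^ (t + 1) * m : ℕ) : ℂ) = (c' : ℂ) * (1 + j) := by
    apply mul_left_cancel₀ hpv
    push_cast at h ⊢
    rw [pow_add] at h
    linear_combination h
  have h2 : (c' : ℂ) = ((p ^ (t + 1) * m : ℕ) : ℂ) - (c' : ℂ) * j := by
    rw [h1]; ring
  have h3 : MemLocalIdeal M ((c' : ℕ) : ℂ) := by
    rw [h2]
    apply memLocalIdeal_sub hMp
    · rw [memLocalIdeal_natCast_iff hM]
      exact Dvd.dvd.mul_right (dvd_pow_self p (Nat.succ_ne_zero t)) m
    · exact memLocalIdeal_mul_left hMp (memLocalRing_natCast hMp c') hj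
  rw [memLocalIdeal_natCast_iff hM] at h3
  exact hc' h3

/-- a faithful irreducible representation sends only central elements to scalars -/
theorem mem_center_of_scalar {G : Type*} [Group G] {V : Type*} [AddCommGroup V] [Module ℂ V]
    [FiniteDimensional ℂ V] (ρ : Representation ℂ G V)
    (hfaith : ∀ g : G, ρ.character g = ρ.character 1 → g = 1) (g : G)
    (hsc : ∃ ω : ℂ, ρ g = ω • (LinearMap.id : V →ₗ[ℂ] V)) : g ∈ Subgroup.center G := by
  obtain ⟨ω, hω⟩ := hsc
  rw [Subgroup.mem_center_iff]
  intro h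
  have h1 : ρ (h * g) = ρ (g * h) := by
    rw [map_mul, map_mul, hω]
    ext v
    simp
  have h2 : ρ (h * g * (g * h)⁻¹) = 1 := by
    rw [map_mul, h1, ← map_mul, mul_inv_cancel, map_one]
  have h3 : ρ.character (h * g * (g * h)⁻¹) = ρ.character 1 := by
    unfold Representation.character
    rw [h2, map_one ρ]
  have h4 := hfaith _ h3
  exact mul_inv_eq_one.1 h4

/-- Let p be a prime, M a maximal ideal of the algebraic integers containing p, and G a finite group with trivial centre, Sylow p-subgroup P of order p^a and centre Z(P) of order p^b. If χ is a faithful irreducible character of G whose degree is a power of p, then the p-block of χ has defect at most a − b; in particular, if P is abelian then χ lies in a block of defect zero. -/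
theorem result {G : Type*} [Group G] [Finite G] (p : ℕ) [Fact p.Prime] (M : Ideal Cfsg.AlgInt) (hM : Cfsg.IsPModular p M) (hZ : Subgroup.center G = ⊥) (P : Sylow p G) (a b : ℕ) (ha : Nat.card P = p ^ a) (hb : Nat.card (Subgroup.center ↥(P : Subgroup G)) = p ^ b) (χ : Cfsg.IrrCharacter G) (hfaith : ∀ g : G, (χ : G → ℂ) g = (χ : G → ℂ) 1 → g = 1) (n : ℕ) (hdeg : Cfsg.charDegree (χ : G → ℂ) = p ^ n) : Cfsg.blockDefect p (Cfsg.blockOf M (χ : G → ℂ)) ≤ a - b ∧ (IsMulCommutative ↥(P : Subgroup G) → Cfsg.blockDefect p (Cfsg.blockOf M (χ : G → ℂ)) = 0) := by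
  classical
  have hp : p.Prime := Fact.out
  have hMp : M.IsPrime := isPrime_of_isPModular hM
  have := Fintype.ofFinite G
  obtain ⟨nχ, ρ, hirr, hρ⟩ := χ.2
  have := hirr
  have hd1 : (χ : G → ℂ) 1 = (Module.finrank ℂ (Fin nχ → ℂ) : ℂ) := by
    rw [← hρ, Representation.char_one]
  have hfr : Module.finrank ℂ (Fin nχ → ℂ) = p ^ n := by
    rw [← hdeg]
    unfold Cfsg.charDegree
    rw [hd1]
    simp
  have hfaithρ : ∀ g : G, ρ.character g = ρ.character 1 → g = 1 := by
    rw [hρ]; exact hfaith
  -- the exponent of `p` in `|G|`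
  have hcardG : (Nat.card G).factorization p = a := by
    have h1 := P.card_eq_multiplicity
    rw [ha] at h1
    exact (Nat.pow_right_injective hp.two_le h1).symm
  -- `χ` vanishes on `Z(P) ∖ {1}`
  have hvanish : ∀ z : Subgroup.center (P : Subgroup G), z ≠ 1 →
      ¬ p ∣ (Subgroup.centralizer ({((z : (P : Subgroup G)) : G)} : Set G)).index ∧
        (χ : G → ℂ) ((z : (P : Subgroup G)) : G) = 0 := by
    intro z hz
    set g : G := ((z : (P : Subgroup G)) : G) with hg
    have hg1 : g ≠ 1 := by
      intro h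
      apply hz
      apply Subtype.ext
      apply Subtype.ext
      exact h
    have hPle : (P : Subgroup G) ≤ Subgroup.centralizer ({g} : Set G) := by
      intro x hx
      rw [Subgroup.mem_centralizer_singleton_iff]
      have h1 := (Subgroup.mem_center_iff.1 z.2) ⟨x, hx⟩
      have h2 := congrArg Subtype.val h1
      simpa [hg] using h2
    have hidx : ¬ p ∣ (Subgroup.centralizer ({g} : Set G)).index := fun h =>
      P.not_dvd_index (h.trans (Subgroup.index_dvd_of_le hPle))
    refine ⟨hidx, ?_⟩
    have hcop : Nat.Coprime (Module.finrank ℂ (Fin nχ → ℂ))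
        (Subgroup.centralizer ({g} : Set G)).index := by
      rw [hfr]
      exact Nat.Coprime.pow_left n ((Nat.Prime.coprime_iff_not_dvd hp).2 hidx)
    rcases Cfsg.Agent.Lib.Helper3_CharBurnside.char_eq_zero_or_norm_eq_of_coprime ρ g hcop with
      h0 | h1
    · rw [← hρ]; exact h0
    · exfalso
      have hc := mem_center_of_scalar ρ hfaithρ g
        ((Cfsg.Agent.Lib.Helper3_CharEigen.norm_char_eq_iff ρ g).1 h1)
      rw [hZ, Subgroup.mem_bot] at hc
      exact hg1 hc
  -- every member of the block has degree divisible by `p ^ b`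
  have key : ∀ ψ ∈ Cfsg.blockOf M (χ : G → ℂ),
      b ≤ (Cfsg.charDegree (ψ : G → ℂ)).factorization p := by
    intro ψ hψ
    have hsb : Cfsg.SameBlock M (χ : G → ℂ) (ψ : G → ℂ) := hψ
    obtain ⟨nψ, σ, hσirr, hσ⟩ := ψ.2
    obtain ⟨c, hcpos, hc⟩ := Cfsg.Agent.Lib.Helper3_CharColumn.irr_one_eq_natCast ψ.2
    have hcC : (c : ℂ) ≠ 0 := by exact_mod_cast hcpos.ne'
    have hdegψ : Cfsg.charDegree (ψ : G → ℂ) = c := by
      unfold Cfsg.charDegree
      rw [hc]; simp
    -- the ratios `ψ(z)/ψ(1)` lie in the local ideal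
    have hratio : ∀ z : Subgroup.center (P : Subgroup G), z ≠ 1 →
        MemLocalIdeal M ((ψ : G → ℂ) ((z : (P : Subgroup G)) : G) / (c : ℂ)) := by
      intro z hz
      obtain ⟨hidx, h0⟩ := hvanish z hz
      have h1 := hsb ((z : (P : Subgroup G)) : G)
      have h2 : Cfsg.centralChar (χ : G → ℂ) ((z : (P : Subgroup G)) : G) = 0 := by
        unfold Cfsg.centralChar
        rw [h0]; simp
      rw [h2, zero_sub] at h1
      have h3 := memLocalIdeal_neg h1
      rw [neg_neg] at h3
      unfold Cfsg.centralChar at h3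
      rw [hc] at h3
      have h4 := memLocalIdeal_mul_left hMp (memLocalRing_inv_natCast hM hidx) h3
      have hK : ((Subgroup.centralizer ({((z : (P : Subgroup G)) : G)} : Set G)).index : ℂ) ≠ 0 := by
        rw [Nat.cast_ne_zero]
        intro h
        exact hidx (h ▸ dvd_zero p)
      convert h4 using 1
      field_simp
    -- the sum over `Z(P)`
    have := Fintype.ofFinite (Subgroup.center (P : Subgroup G))
    set τ : Representation ℂ (P : Subgroup G) (Fin nψ → ℂ) := σ.comp (P : Subgroup G).subtype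
      with hτ
    obtain ⟨m, hm⟩ := sum_char_subgroup τ (Subgroup.center (P : Subgroup G))
    have hsum : ∑ z : Subgroup.center (P : Subgroup G),
        τ.character (z : (P : Subgroup G)) =
        (c : ℂ) * (1 + ∑ z ∈ (Finset.univ.erase (1 : Subgroup.center (P : Subgroup G))),
          (ψ : G → ℂ) ((z : (P : Subgroup G)) : G) / (c : ℂ)) := by
      rw [← Finset.add_sum_erase Finset.univ _ (Finset.mem_univ (1 : Subgroup.center (P : Subgroup G)))]
      rw [mul_add, mul_one, Finset.mul_sum]
      congr 1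
      · show σ.character (((1 : Subgroup.center (P : Subgroup G)) : (P : Subgroup G)) : G) = _
        rw [hσ]
        simpa using hc
      · refine Finset.sum_congr rfl fun z _ => ?_
        show σ.character ((z : (P : Subgroup G)) : G) = _
        rw [hσ]
        field_simp
    rw [hm, hb] at hsum
    have hj : MemLocalIdeal M (∑ z ∈ (Finset.univ.erase (1 : Subgroup.center (P : Subgroup G))),
          (ψ : G → ℂ) ((z : (P : Subgroup G)) : G) / (c : ℂ)) := by
      apply memLocalIdeal_sum hMp
      intro z hz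
      exact hratio z (Finset.ne_of_mem_erase hz)
    have hdvd : p ^ b ∣ c := by
      apply pow_dvd_of_eq hM b c m hcpos.ne' _ hj
      rw [← hsum]
      push_cast
      ring
    rw [hdegψ]
    exact (Nat.Prime.pow_dvd_iff_le_factorization hp hcpos.ne').1 hdvd
  have hχmem : χ ∈ Cfsg.blockOf M (χ : G → ℂ) := sameBlock_refl hMp _
  have hle : Cfsg.blockDefect p (Cfsg.blockOf M (χ : G → ℂ)) ≤ a - b := by
    unfold Cfsg.blockDefect
    rw [hcardG]
    apply Nat.sub_le_sub_left
    apply le_csInf
    · exact ⟨_, χ, hχmem, rfl⟩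
    · rintro _ ⟨ψ, hψ, rfl⟩
      exact key ψ hψ
  refine ⟨hle, ?_⟩
  intro hcommP
  have hcen : Subgroup.center (P : Subgroup G) = ⊤ := by
    rw [eq_top_iff]
    intro x _
    rw [Subgroup.mem_center_iff]
    intro y
    exact hcommP.is_comm.comm y x
  have hab : b = a := by
    rw [hcen, Subgroup.card_top, ha] at hb
    exact (Nat.pow_right_injective hp.two_le hb).symm
  rw [hab, Nat.sub_self] at hle
  exact Nat.le_zero.1 hle

end Cfsg.Agent.S4730
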