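import Mathlib
import Cfsg.Statements.S4731
import Cfsg.Agent.S4483
import Cfsg.Agent.Lib.Helper16_BlockOrth
import Cfsg.Agent.Lib.Helper78_LocalRing
import Cfsg.Agent.Lib.Helper80_CharBasic
import Cfsg.Agent.Lib.Helper3_CharOrtho
import Cfsg.Agent.Lib.Helper3_CharComplete
import Cfsg.Agent.Lib.Helper77_BlockBasics
import Cfsg.Agent.Lib.Helper79_CharVals
-- import your own Cfsg.Agent.* helpers here

set_option autoImplicit false
set_option linter.style.haveILetI false
open Cfsg

namespace Cfsg.Agent.S4731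

open Cfsg.Agent.Lib.Helper78_LocalRing Cfsg.Agent.Lib.Helper3_CharOrtho
  Cfsg.Agent.Lib.Helper80_CharBasic Cfsg.Agent.Lib.Helper3_CharBridge
open scoped ComplexConjugate


/-- Let p ≠ q be primes, M_p and M_q maximal ideals of the algebraic integers containing p and q respectively, and G a finite group with no element of order pq; let q^b be the q-part of the order of G. For a p-block B_p (relative to M_p), a q-block B_q (relative to M_q) and a p-singular element y, the sum of χ(1)χ(y) over the irreducible characters χ lying in both B_p and B_q is q^b times an algebraic integer. -/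
theorem result {G : Type*} [Group G] [Finite G] (p q : ℕ) [Fact p.Prime] [Fact q.Prime] (hpq : p ≠ q) (Mp Mq : Ideal Cfsg.AlgInt) (hMp : Cfsg.IsPModular p Mp) (hMq : Cfsg.IsPModular q Mq) (hno : ∀ g : G, orderOf g ≠ p * q) (b : ℕ) (hb : (Nat.card G).factorization q = b) (Bp : Set (Cfsg.IrrCharacter G)) (hBp : Cfsg.IsPBlock Mp Bp) (Bq : Set (Cfsg.IrrCharacter G)) (hBq : Cfsg.IsPBlock Mq Bq) (y : G) (hy : p ∣ orderOf y) : ∃ ω : Cfsg.AlgInt, ∑ᶠ χ ∈ Bp ∩ Bq, (Cfsg.charDegree (χ : G → ℂ) : ℂ) * (χ : G → ℂ) y = (q : ℂ) ^ b * (ω : ℂ) := by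
  classical
  letI : Fintype G := Fintype.ofFinite G
  have hpp : p.Prime := Fact.out
  have hqp : q.Prime := Fact.out
  -- no element has order divisible by `p * q`
  have hno' : ∀ u : G, q ∣ orderOf u → ¬ p ∣ orderOf u := by
    intro u hqu hpu
    have hcop : Nat.Coprime p q := (Nat.coprime_primes hpp hqp).2 hpq
    have hdvd : p * q ∣ orderOf u := hcop.mul_dvd_of_dvd_of_dvd hpu hqu
    obtain ⟨m, hm⟩ := hdvd
    have hpos : 0 < orderOf u := orderOf_pos u
    have hm0 : m ≠ 0 := by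
      rintro rfl
      rw [mul_zero] at hm
      omega
    have h1 : orderOf (u ^ m) = orderOf u / m :=
      orderOf_pow_of_dvd hm0 ⟨p * q, by rw [hm, mul_comm]⟩
    apply hno (u ^ m)
    rw [h1, hm, Nat.mul_div_cancel _ (Nat.pos_of_ne_zero hm0)]
  -- the `p`-part of `y`
  obtain ⟨w, hw⟩ := Cfsg.Agent.Lib.Helper16_BlockOrth.exists_isPPart hpp y
  have hw1 : w ≠ 1 := by
    rintro rfl
    obtain ⟨y', hy', -, -, hpy'⟩ := hw
    rw [one_mul] at hy'
    rw [hy'] at hpy'
    exact hpy' hy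
  -- the class function `κ`
  set κ : G → ℂ := fun g =>
    ∑ χ : IrrCharacter G, if χ ∈ Bp then conj ((χ : G → ℂ) y) * (χ : G → ℂ) g else 0 with hκ
  have hκ0 : ∀ (g z : G), IsPPart p g z → ¬ IsConj z w → κ g = 0 := by
    intro g z hgz hzw
    have h1 := Cfsg.Agent.Lib.Helper16_BlockOrth.block_orthogonality hMp hBp hgz hw hzw
    rw [finsum_mem_def, finsum_eq_sum_of_fintype] at h1
    have h2 : κ g = ∑ i : IrrCharacter G,
        Bp.indicator (fun χ : IrrCharacter G => (χ : G → ℂ) g * conj ((χ : G → ℂ) y)) i := by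
      rw [hκ]
      refine Finset.sum_congr rfl (fun χ _ => ?_)
      by_cases hχ : χ ∈ Bp
      · rw [if_pos hχ, Set.indicator_of_mem hχ, mul_comm]
      · rw [if_neg hχ, Set.indicator_of_notMem hχ]
    rw [h2, h1]
  have hinner : ∀ χ : IrrCharacter G, classInner κ (χ : G → ℂ) =
      if χ ∈ Bp then conj ((χ : G → ℂ) y) else 0 := by
    intro χ
    have hκsum : κ = ∑ ψ : IrrCharacter G,
        (if ψ ∈ Bp then conj ((ψ : G → ℂ) y) else 0) • (ψ : G → ℂ) := by
      funext g
      rw [hκ, Finset.sum_apply]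
      refine Finset.sum_congr rfl (fun ψ _ => ?_)
      rw [Pi.smul_apply, smul_eq_mul]
      split_ifs
      · rfl
      · rw [zero_mul]
    rw [hκsum, classInner_sum_left]
    simp only [classInner_smul_left, classInner_irr (Subtype.prop _) χ.2]
    rw [Finset.sum_eq_single χ]
    · simp
    · intro ψ _ hne
      have : (ψ : G → ℂ) ≠ (χ : G → ℂ) := fun h => hne (Subtype.ext h)
      rw [if_neg this, mul_zero]
    · intro h
      exact absurd (Finset.mem_univ _) h
  -- the `Bq`-part of `κ`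
  set F : G → ℂ := fun u => ∑ χ : IrrCharacter G,
    if χ ∈ Bp ∩ Bq then conj ((χ : G → ℂ) y) * (χ : G → ℂ) u else 0 with hF
  have hpart : ∀ u : G, blockPart Bq κ u = F u := by
    intro u
    unfold blockPart
    rw [finsum_mem_def, finsum_eq_sum_of_fintype, hF]
    refine Finset.sum_congr rfl (fun χ _ => ?_)
    by_cases hχq : χ ∈ Bq
    · rw [Set.indicator_of_mem hχq, hinner]
      by_cases hχp : χ ∈ Bp
      · rw [if_pos hχp, if_pos ⟨hχp, hχq⟩]
      · rw [if_neg hχp, if_neg (fun h => hχp h.1), zero_mul]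
    · rw [Set.indicator_of_notMem hχq, if_neg (fun h => hχq h.2)]
  -- `F` vanishes at `q`-singular elements
  have hFzero : ∀ u : G, q ∣ orderOf u → F u = 0 := by
    intro u hu
    obtain ⟨z, hz⟩ := Cfsg.Agent.Lib.Helper16_BlockOrth.exists_isPPart hqp u
    have hz1 : z ≠ 1 := by
      rintro rfl
      obtain ⟨u', hu', -, -, hqu'⟩ := hz
      rw [one_mul] at hu'
      rw [hu'] at hqu'
      exact hqu' hu
    rw [← hpart]
    refine Cfsg.Agent.Lib.Helper16_BlockOrth.blockPart_eq_zero hMq hBq κ z ?_ u z hz (IsConj.refl z)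
    intro u' z' hu'z' hzz'
    have hz'1 : z' ≠ 1 := by
      rintro rfl
      exact hz1 (isConj_one_right.1 hzz'.symm)
    obtain ⟨w', hzw, hcomm, ⟨k, hk⟩, hw'⟩ := hu'z'
    have hk0 : k ≠ 0 := by
      rintro rfl
      rw [pow_zero] at hk
      exact hz'1 (orderOf_eq_one_iff.1 hk)
    have hcop : Nat.Coprime (orderOf z') (orderOf w') := by
      rw [hk]
      exact Nat.Coprime.pow_left k ((Nat.Prime.coprime_iff_not_dvd hqp).2 hw')
    have hou : orderOf u' = orderOf z' * orderOf w' := by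
      rw [← hzw]
      exact hcomm.orderOf_mul_eq_mul_orderOf_of_coprime hcop
    have hqu : q ∣ orderOf u' := by
      rw [hou, hk]
      exact Dvd.dvd.mul_right (dvd_pow_self q hk0) _
    have hpu : ¬ p ∣ orderOf u' := hno' u' hqu
    have hupart : IsPPart p u' 1 :=
      ⟨u', one_mul u', Commute.one_left u', ⟨0, by rw [orderOf_one, pow_zero]⟩, hpu⟩
    apply hκ0 u' 1 hupart
    intro h
    exact hw1 (isConj_one_right.1 h)
  -- sum over a Sylow `q`-subgroup
  let Q : Sylow q G := default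
  haveI : Fintype (Q : Subgroup G) := Fintype.ofFinite _
  have hQcard : Nat.card (Q : Subgroup G) = q ^ b := by
    rw [← hb]
    exact Q.card_eq_multiplicity
  have hd : ∀ χ : IrrCharacter G, ∃ d : ℕ,
      ∑ u : (Q : Subgroup G), (χ : G → ℂ) u = (Nat.card (Q : Subgroup G) : ℂ) * d :=
    fun χ => Cfsg.Agent.Lib.Helper79_CharVals.sum_subgroup_char
      (isCharacter_of_isIrrCharacter χ.2) (Q : Subgroup G)
  choose d hd using hd
  have hsumQ : ∑ u : (Q : Subgroup G), F u = F 1 := by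
    rw [Finset.sum_eq_single (1 : (Q : Subgroup G))]
    · rfl
    · intro u _ hu1
      apply hFzero
      obtain ⟨k, hk⟩ := (IsPGroup.iff_orderOf.1 Q.isPGroup') u
      rw [Subgroup.orderOf_coe, hk]
      have hk0 : k ≠ 0 := by
        rintro rfl
        rw [pow_zero] at hk
        exact hu1 (orderOf_eq_one_iff.1 hk)
      exact dvd_pow_self q hk0
    · intro h
      exact absurd (Finset.mem_univ _) h
  have hsumQ' : ∑ u : (Q : Subgroup G), F u = ∑ χ : IrrCharacter G,
      if χ ∈ Bp ∩ Bq then conj ((χ : G → ℂ) y) * ((q : ℂ) ^ b * (d χ : ℂ)) else 0 := by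
    simp only [hF]
    rw [Finset.sum_comm]
    refine Finset.sum_congr rfl (fun χ _ => ?_)
    by_cases hχ : χ ∈ Bp ∩ Bq
    · simp only [if_pos hχ]
      rw [← Finset.mul_sum, hd χ, hQcard]
      push_cast
      rfl
    · simp only [if_neg hχ, Finset.sum_const_zero]
  -- assemble
  let α : IrrCharacter G → AlgInt := fun χ => ⟨(χ : G → ℂ) y, Cfsg.Agent.S4483.isIntegral_irr χ y⟩
  refine ⟨∑ χ : IrrCharacter G, if χ ∈ Bp ∩ Bq then α χ * (d χ : AlgInt) else 0, ?_⟩
  have hF1 : F 1 = ∑ χ : IrrCharacter G,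
      if χ ∈ Bp ∩ Bq then conj ((χ : G → ℂ) y) * (charDegree (χ : G → ℂ) : ℂ) else 0 := by
    rw [hF]
    refine Finset.sum_congr rfl (fun χ _ => ?_)
    rw [Cfsg.Agent.Lib.Helper77_BlockBasics.apply_one_eq_charDegree χ]
  have hkey : ∑ χ : IrrCharacter G,
      (if χ ∈ Bp ∩ Bq then conj ((χ : G → ℂ) y) * (charDegree (χ : G → ℂ) : ℂ) else 0) =
      ∑ χ : IrrCharacter G,
        if χ ∈ Bp ∩ Bq then conj ((χ : G → ℂ) y) * ((q : ℂ) ^ b * (d χ : ℂ)) else 0 := by
    rw [← hF1, ← hsumQ, hsumQ']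
  have hkey' := congrArg conj hkey
  rw [map_sum, map_sum] at hkey'
  rw [finsum_mem_def, finsum_eq_sum_of_fintype]
  have hL : ∀ χ : IrrCharacter G,
      (Bp ∩ Bq).indicator (fun χ : IrrCharacter G =>
        (charDegree (χ : G → ℂ) : ℂ) * (χ : G → ℂ) y) χ =
      conj (if χ ∈ Bp ∩ Bq then conj ((χ : G → ℂ) y) * (charDegree (χ : G → ℂ) : ℂ) else 0) := by
    intro χ
    by_cases hχ : χ ∈ Bp ∩ Bq
    · rw [Set.indicator_of_mem hχ, if_pos hχ, map_mul, Complex.conj_conj, Complex.conj_natCast,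
        mul_comm]
    · rw [Set.indicator_of_notMem hχ, if_neg hχ, map_zero]
  rw [Finset.sum_congr rfl (fun χ _ => hL χ), hkey']
  rw [AddSubmonoidClass.coe_finsetSum, Finset.mul_sum]
  refine Finset.sum_congr rfl (fun χ _ => ?_)
  by_cases hχ : χ ∈ Bp ∩ Bq
  · rw [if_pos hχ, if_pos hχ, map_mul, Complex.conj_conj, map_mul, map_pow, Complex.conj_natCast,
      Complex.conj_natCast]
    simp only [α]
    push_cast
    ring
  · rw [if_neg hχ, if_neg hχ, map_zero]
    simp

end Cfsg.Agent.S4731
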