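import Cfsg.Statements.S4733
import Cfsg.Agent.Lib.Helper77_BlockBasics
import Cfsg.Agent.Lib.Helper77_RegProj
import Cfsg.Agent.S4667
import Cfsg.Agent.S0914

set_option autoImplicit false
open Cfsg

namespace Cfsg.Agent.S4733

open scoped ComplexConjugate
open Cfsg.Agent.Lib.Helper78_LocalRing Cfsg.Agent.Lib.Helper77_BlockBasics
  Cfsg.Agent.Lib.Helper77_RegProj

/-- If the `p`-regular rank equals the number of characters, all members vanish at the
`p`-singular elements. -/
theorem vanish_of_rank_eq {G : Type*} [Group G] [Fintype G] (p : ℕ) [Fact p.Prime]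
    (M : Ideal Cfsg.AlgInt) (hM : Cfsg.IsPModular p M) (B : Set (Cfsg.IrrCharacter G))
    (hB : Cfsg.IsPBlock M B) (h : Nat.card B = Cfsg.blockRank p B) :
    ∀ χ ∈ B, ∀ y : G, p ∣ orderOf y → (χ : G → ℂ) y = 0 := by
  classical
  have hfin : Finite (IrrCharacter G) := Cfsg.Agent.Lib.Helper78_CharFacts.charFacts.finite
  have h1 := Cfsg.Agent.S4667.result p M hM B hB
  simp_rw [finsum_mem_eq_finite_toFinset_sum _ (Set.toFinite B)] at h1
  have h2 : (Nat.card G : ℂ) * (Nat.card B : ℂ) = ∑ x : G, ∑ χ ∈ (Set.toFinite B).toFinset,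
      (χ : G → ℂ) x * (χ : G → ℂ) x⁻¹ := by
    rw [Finset.sum_comm]
    simp_rw [Cfsg.Agent.Lib.Helper80_CharBasic.irr_norm]
    rw [Finset.sum_const, nsmul_eq_mul, mul_comm]
    congr 1
    rw [Nat.card_coe_set_eq, Set.ncard_eq_toFinset_card B (Set.toFinite B)]
  rw [h, h1] at h2
  -- the difference is a sum of nonnegative reals
  have h3 : ∑ x : G, ∑ χ ∈ (Set.toFinite B).toFinset,
      ((if p ∣ orderOf x then Complex.normSq ((χ : G → ℂ) x) else 0 : ℝ) : ℂ) = 0 := by
    have : ∀ x : G, ∀ χ : IrrCharacter G,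
        ((if p ∣ orderOf x then Complex.normSq ((χ : G → ℂ) x) else 0 : ℝ) : ℂ) =
        (χ : G → ℂ) x * (χ : G → ℂ) x⁻¹ - pRegularPart p (χ : G → ℂ) x * (χ : G → ℂ) x⁻¹ := by
      intro x χ
      by_cases hx : p ∣ orderOf x
      · rw [if_pos hx, pRegularPart_of_sing _ hx, zero_mul, sub_zero,
          Cfsg.Agent.Lib.Helper80_CharBasic.irr_inv χ x, Complex.mul_conj]
      · rw [if_neg hx, pRegularPart_of_reg _ hx, sub_self]
        simp
    simp_rw [this, Finset.sum_sub_distrib]
    rw [← h2, sub_self]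
  have h4 : ∑ x : G, ∑ χ ∈ (Set.toFinite B).toFinset,
      (if p ∣ orderOf x then Complex.normSq ((χ : G → ℂ) x) else 0 : ℝ) = 0 := by
    have : ((∑ x : G, ∑ χ ∈ (Set.toFinite B).toFinset,
      (if p ∣ orderOf x then Complex.normSq ((χ : G → ℂ) x) else 0 : ℝ) : ℝ) : ℂ) = 0 := by
      rw [← h3]
      push_cast
      rfl
    exact_mod_cast this
  intro χ hχ y hy
  have h5 := (Finset.sum_eq_zero_iff_of_nonneg (fun x _ => Finset.sum_nonneg fun χ _ => by
    split_ifs
    · exact Complex.normSq_nonneg _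
    · exact le_rfl)).mp h4 y (Finset.mem_univ y)
  have h6 := (Finset.sum_eq_zero_iff_of_nonneg (fun χ _ => by
    split_ifs
    exact Complex.normSq_nonneg _)).mp h5 χ
      ((Set.Finite.mem_toFinset _).mpr hχ)
  rw [if_pos hy] at h6
  exact Complex.normSq_eq_zero.mp h6

/-- Let p be a prime, M a maximal ideal of the algebraic integers containing p, and B a p-block of the finite group G with k irreducible characters and p-regular rank l (the number of irreducible Brauer characters). Then l ≤ k, and the following are equivalent: B has defect 0; k = l = 1; k = l. -/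
theorem result {G : Type*} [Group G] [Finite G] (p : ℕ) [Fact p.Prime] (M : Ideal Cfsg.AlgInt) (hM : Cfsg.IsPModular p M) (B : Set (Cfsg.IrrCharacter G)) (hB : Cfsg.IsPBlock M B) : Cfsg.blockRank p B ≤ Nat.card B ∧ (Cfsg.blockDefect p B = 0 ↔ (Nat.card B = 1 ∧ Cfsg.blockRank p B = 1)) ∧ (Cfsg.blockDefect p B = 0 ↔ Nat.card B = Cfsg.blockRank p B) := by
  classical
  have := Fintype.ofFinite G
  have hp : p.Prime := hM.1
  have hMp : M.IsPrime := hM.2.1.isPrime
  have hfin : Finite (IrrCharacter G) := Cfsg.Agent.Lib.Helper78_CharFacts.charFacts.finite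
  have hne : B.Nonempty := isPBlock_nonempty hMp hB
  -- rank at most the number of characters
  have hle : Cfsg.blockRank p B ≤ Nat.card B := by
    unfold Cfsg.blockRank
    have h1 : ((fun χ : IrrCharacter G => pRegularPart p (χ : G → ℂ)) '' B) =
        ((Finset.image (fun χ : IrrCharacter G => pRegularPart p (χ : G → ℂ))
          (Set.toFinite B).toFinset : Finset (G → ℂ)) : Set (G → ℂ)) := by
      rw [Finset.coe_image, Set.Finite.coe_toFinset]
    rw [h1]
    refine le_trans (finrank_span_finset_le_card _) ?_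
    refine le_trans Finset.card_image_le ?_
    rw [Nat.card_coe_set_eq, Set.ncard_eq_toFinset_card B (Set.toFinite B)]
  -- defect zero implies a single character
  have hzero : Cfsg.blockDefect p B = 0 → Nat.card B = 1 ∧ Cfsg.blockRank p B = 1 := by
    intro h0
    obtain ⟨χ, hχ⟩ := hne
    have h1 := (blockDefect_eq_zero_iff p B ⟨χ, hχ⟩).mp h0 χ hχ
    have h2 := (not_dvd_div_iff hp χ).mpr h1
    have h3 := (Cfsg.Agent.S0914.result p M hM χ).mp h2
    have hBeq : B = {χ} := by rw [isPBlock_eq_blockOf hMp hB hχ, h3]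
    subst hBeq
    refine ⟨by simp, ?_⟩
    unfold Cfsg.blockRank
    rw [Set.image_singleton]
    apply finrank_span_singleton
    intro hz
    have h4 := congrFun hz 1
    have h5 : ¬ p ∣ orderOf (1 : G) := by
      rw [orderOf_one]
      exact hp.one_lt.ne' ∘ Nat.dvd_one.mp
    rw [pRegularPart_of_reg _ h5] at h4
    obtain ⟨n, hn, hχ1, _, _⟩ := exists_degree χ
    rw [hχ1] at h4
    have : (n : ℂ) ≠ 0 := by exact_mod_cast hn.ne'
    exact this h4
  -- equal rank implies defect zero
  have hconv : Nat.card B = Cfsg.blockRank p B → Cfsg.blockDefect p B = 0 := by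
    intro h
    rw [blockDefect_eq_zero_iff p B hne]
    intro χ hχ
    obtain ⟨n, hn, hχ1, hdeg, _⟩ := exists_degree χ
    have hvan := vanish_of_rank_eq p M hM B hB h χ hχ
    have hdvd := pow_dvd_of_vanish hp (χ : G → ℂ) (Cfsg.Agent.S4665.isCharacter_of_irr χ) n hχ1 hvan
    rw [hdeg]
    exact (Nat.Prime.pow_dvd_iff_le_factorization hp hn.ne').mp hdvd
  refine ⟨hle, ⟨hzero, fun h => hconv (by rw [h.1, h.2])⟩, ⟨fun h => ?_, hconv⟩⟩
  obtain ⟨h1, h2⟩ := hzero h
  rw [h1, h2]

end Cfsg.Agent.S4733
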