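import Mathlib
import Cfsg.Statements.S4735
import Cfsg.Agent.Lib.Helper78_LocalRing
import Cfsg.Agent.Lib.Helper78_CentralChar
import Cfsg.Agent.Lib.Helper77_QuotBlocks
import Cfsg.Agent.Lib.Helper76_PSolvable
import Cfsg.Agent.Lib.Helper80_CharBasic
import Cfsg.Agent.Lib.Helper3_CharColumn
import Cfsg.Agent.Lib.Helper82_Linking
import Cfsg.Agent.Lib.Helper82_LinkingGalois
import Cfsg.Agent.Lib.Helper82_PPrimeQuot

set_option autoImplicit false
open Cfsg

namespace Cfsg.Agent.S4735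

open Cfsg.Agent.Lib.Helper78_LocalRing Cfsg.Agent.Lib.Helper82_PPrimeQuot
  Cfsg.Agent.Lib.Helper82_LinkingGalois

open scoped ComplexConjugate

/-- the principal block of `G` is the inflation of the principal block of `G ⧸ N`, for a normal
`p'`-subgroup `N` -/
theorem principalBlock_eq_image {G : Type*} [Group G] [Finite G] {p : ℕ} {M : Ideal Cfsg.AlgInt}
    (hM : Cfsg.IsPModular p M) (N : Subgroup G) [N.Normal] (hN : (Nat.card N).Coprime p) :
    Cfsg.principalBlock M G = infl N '' Cfsg.principalBlock M (G ⧸ N) := by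
  have hMp : M.IsPrime := isPrime_of_isPModular hM
  ext ψ
  constructor
  · intro hψ
    have h : Cfsg.SameBlock M
        (infl N (Cfsg.Agent.Lib.Helper80_CharBasic.oneIrr (G ⧸ N)) : G → ℂ) (ψ : G → ℂ) := hψ
    obtain ⟨ψ', h1, h2⟩ := exists_deflation_of_coprime hM N hN _ ψ h
    exact ⟨ψ', h2, h1.symm⟩
  · rintro ⟨ψ', hψ', rfl⟩
    exact Cfsg.Agent.Lib.Helper77_QuotBlocks.sameBlock_comp_mk hMp N hψ'

/-- the sum of `|χ x|²` over the principal block is a positive integer -/
theorem exists_nat_principal {G : Type*} [Group G] [Finite G] {p : ℕ} {M : Ideal Cfsg.AlgInt}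
    (hM : Cfsg.IsPModular p M) (x : G) :
    ∃ n : ℕ, 0 < n ∧
      ∑ᶠ χ ∈ Cfsg.principalBlock M G, Complex.normSq ((χ : G → ℂ) x) = n := by
  classical
  have := Fintype.ofFinite G
  have hMp : M.IsPrime := isPrime_of_isPModular hM
  set one_G := Cfsg.Agent.Lib.Helper80_CharBasic.oneIrr G with hone
  set S : Finset (Cfsg.IrrCharacter G) :=
    Finset.univ.filter (fun χ : Cfsg.IrrCharacter G => χ ∈ Cfsg.principalBlock M G) with hSdef
  have hSset : (↑S : Set (Cfsg.IrrCharacter G)) = Cfsg.principalBlock M G := by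
    ext χ
    simp [hSdef]
  have hS : ∀ (m : ℕ) (hm : m.Coprime (Nat.card G)), ∀ χ ∈ S, powIrr m hm χ ∈ S := by
    intro m hm χ hχ
    simp only [hSdef, Finset.mem_filter, Finset.mem_univ, true_and] at hχ ⊢
    have h1 : Cfsg.SameBlock M (one_G : G → ℂ) (χ : G → ℂ) := hχ
    have h2 := sameBlock_powIrr hM m hm one_G χ h1
    rw [hone, powIrr_oneIrr] at h2
    exact h2
  obtain ⟨z, hz⟩ := exists_int_sum_mul_conj S hS x x
  rw [← hSset, finsum_mem_coe_finset]
  have hzr : ∑ χ ∈ S, Complex.normSq ((χ : G → ℂ) x) = (z : ℝ) := by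
    have h1 : ((∑ χ ∈ S, Complex.normSq ((χ : G → ℂ) x) : ℝ) : ℂ) = ((z : ℝ) : ℂ) := by
      push_cast
      rw [← hz]
      refine Finset.sum_congr rfl fun χ _ => ?_
      rw [Complex.mul_conj]
    exact_mod_cast h1
  have hone_mem : one_G ∈ S := by
    simp only [hSdef, Finset.mem_filter, Finset.mem_univ, true_and]
    exact sameBlock_refl hMp _
  have hge : (1 : ℝ) ≤ ∑ χ ∈ S, Complex.normSq ((χ : G → ℂ) x) := by
    have h1 : Complex.normSq ((one_G : G → ℂ) x) = 1 := by
      show Complex.normSq (1 : ℂ) = 1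
      simp
    rw [← h1]
    exact Finset.single_le_sum (f := fun χ : Cfsg.IrrCharacter G =>
      Complex.normSq ((χ : G → ℂ) x)) (fun χ _ => Complex.normSq_nonneg _) hone_mem
  rw [hzr] at hge ⊢
  have hz1 : (1 : ℤ) ≤ z := by exact_mod_cast hge
  refine ⟨z.toNat, by omega, ?_⟩
  have : ((z.toNat : ℕ) : ℤ) = z := Int.toNat_of_nonneg (by omega)
  exact_mod_cast this.symm

/-- the squares of the degrees of the irreducible characters sum to the group order -/
theorem sum_charDegree_sq {H : Type*} [Group H] [Fintype H] :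
    ∑ χ : Cfsg.IrrCharacter H, Cfsg.charDegree (χ : H → ℂ) ^ 2 = Nat.card H := by
  have h := Cfsg.Agent.Lib.Helper3_CharColumn.sum_sq_irr_one (G := H)
  have h2 : ((∑ χ : Cfsg.IrrCharacter H, Cfsg.charDegree (χ : H → ℂ) ^ 2 : ℕ) : ℂ) =
      (Nat.card H : ℂ) := by
    rw [← h]
    push_cast
    refine Finset.sum_congr rfl fun χ _ => ?_
    rw [(Cfsg.Agent.Lib.Helper78_CentralChar.isIrrCharacter_one_eq_charDegree χ.2).1]
  exact_mod_cast h2

/-- Let p be a prime, M a maximal ideal of the algebraic integers containing p, G a finite group, H = O_p'(G) and Ḡ = G/H. For x ∈ G write λ(G, x) for the sum of |χ(x)|^2 over the irreducible characters χ in the principal p-block of G. Then λ(G, x) is a positive integer, λ(G, x) = λ(Ḡ, x̄) where x̄ is the image of x, and λ(G, x) ≤ #C_Ḡ(x̄). Moreover λ(G, 1) = [G : H] if and only if the principal block is the only p-block of Ḡ. -/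
theorem result {G : Type*} [Group G] [Finite G] (p : ℕ) [Fact p.Prime] (M : Ideal Cfsg.AlgInt) (hM : Cfsg.IsPModular p M) (x : G) : (∃ n : ℕ, 0 < n ∧ ∑ᶠ χ ∈ Cfsg.principalBlock M G, Complex.normSq ((χ : G → ℂ) x) = n) ∧ ∑ᶠ χ ∈ Cfsg.principalBlock M G, Complex.normSq ((χ : G → ℂ) x) = ∑ᶠ ψ ∈ Cfsg.principalBlock M (G ⧸ Cfsg.pPrimeCore p G), Complex.normSq ((ψ : G ⧸ Cfsg.pPrimeCore p G → ℂ) (QuotientGroup.mk x)) ∧ ∑ᶠ χ ∈ Cfsg.principalBlock M G, Complex.normSq ((χ : G → ℂ) x) ≤ (Nat.card ↥(Subgroup.centralizer ({(QuotientGroup.mk x : G ⧸ Cfsg.pPrimeCore p G)} : Set (G ⧸ Cfsg.pPrimeCore p G))) : ℝ) ∧ ((∑ᶠ χ ∈ Cfsg.principalBlock M G, Cfsg.charDegree (χ : G → ℂ) ^ 2) = (Cfsg.pPrimeCore p G).index ↔ ∀ B : Set (Cfsg.IrrCharacter (G ⧸ Cfsg.pPrimeCore p G)), Cfsg.IsPBlock M B → B = Cfsg.principalBlock M (G ⧸ Cfsg.pPrimeCore p G)) := by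
  classical
  have hp : p.Prime := Fact.out
  have hMp : M.IsPrime := isPrime_of_isPModular hM
  set N := Cfsg.pPrimeCore p G with hNdef
  have hNp : (Nat.card N).Coprime p := Cfsg.Agent.Lib.Helper76_PSolvable.pPrimeCore_card_coprime p
  have himg := principalBlock_eq_image hM N hNp
  have := Fintype.ofFinite (G ⧸ N)
  set B0 := Cfsg.principalBlock M (G ⧸ N) with hB0
  -- part 2
  have h2 : ∑ᶠ χ ∈ Cfsg.principalBlock M G, Complex.normSq ((χ : G → ℂ) x) =
      ∑ᶠ ψ ∈ B0, Complex.normSq ((ψ : G ⧸ N → ℂ) (QuotientGroup.mk x)) := by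
    rw [himg, finsum_mem_image (fun a _ b _ hab => infl_injective N hab)]
    rfl
  -- part 3
  have h3 : ∑ᶠ ψ ∈ B0, Complex.normSq ((ψ : G ⧸ N → ℂ) (QuotientGroup.mk x)) ≤
      (Nat.card ↥(Subgroup.centralizer ({(QuotientGroup.mk x : G ⧸ N)} : Set (G ⧸ N))) : ℝ) := by
    have hcol := Cfsg.Agent.Lib.Helper3_CharColumn.column_orthogonality_self
      (QuotientGroup.mk x : G ⧸ N)
    have hcol' : ∑ ψ : Cfsg.IrrCharacter (G ⧸ N),
        Complex.normSq ((ψ : G ⧸ N → ℂ) (QuotientGroup.mk x)) =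
        (Nat.card ↥(Subgroup.centralizer ({(QuotientGroup.mk x : G ⧸ N)} : Set (G ⧸ N))) : ℝ) := by
      have h1 : ((∑ ψ : Cfsg.IrrCharacter (G ⧸ N),
          Complex.normSq ((ψ : G ⧸ N → ℂ) (QuotientGroup.mk x)) : ℝ) : ℂ) =
          ((Nat.card ↥(Subgroup.centralizer
            ({(QuotientGroup.mk x : G ⧸ N)} : Set (G ⧸ N))) : ℝ) : ℂ) := by
        push_cast
        rw [← hcol]
        refine Finset.sum_congr rfl fun ψ _ => ?_
        rw [Complex.mul_conj]
      exact_mod_cast h1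
    rw [← hcol', finsum_mem_eq_finite_toFinset_sum _ (Set.toFinite B0)]
    exact Finset.sum_le_sum_of_subset_of_nonneg (Finset.subset_univ _)
      (fun ψ _ _ => Complex.normSq_nonneg _)
  -- part 4
  have h4a : (∑ᶠ χ ∈ Cfsg.principalBlock M G, Cfsg.charDegree (χ : G → ℂ) ^ 2) =
      ∑ᶠ ψ ∈ B0, Cfsg.charDegree (ψ : G ⧸ N → ℂ) ^ 2 := by
    rw [himg, finsum_mem_image (fun a _ b _ hab => infl_injective N hab)]
    refine finsum_congr fun ψ => ?_
    refine finsum_congr fun _ => ?_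
    congr 1
  have hidx : N.index = Nat.card (G ⧸ N) := rfl
  have htot := sum_charDegree_sq (H := G ⧸ N)
  refine ⟨exists_nat_principal hM x, h2, h2 ▸ h3, ?_⟩
  rw [h4a, hidx, ← htot, finsum_mem_eq_finite_toFinset_sum _ (Set.toFinite B0)]
  constructor
  · intro heq B hB
    -- the principal block is everything
    have hall : (Set.toFinite B0).toFinset = Finset.univ := by
      by_contra hne
      have hss : (Set.toFinite B0).toFinset ⊂ Finset.univ :=
        Finset.ssubset_iff_subset_ne.mpr ⟨Finset.subset_univ _, hne⟩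
      have hlt := Finset.sum_lt_sum_of_subset (f := fun ψ : Cfsg.IrrCharacter (G ⧸ N) =>
        Cfsg.charDegree (ψ : G ⧸ N → ℂ) ^ 2) hss.subset
        (i := (Finset.exists_of_ssubset hss).choose) (Finset.mem_univ _)
        (Finset.exists_of_ssubset hss).choose_spec.2
        (pow_pos (Cfsg.Agent.Lib.Helper78_CentralChar.isIrrCharacter_one_eq_charDegree
          (Finset.exists_of_ssubset hss).choose.2).2 2)
        (fun j _ _ => Nat.zero_le _)
      exact absurd heq hlt.ne
    obtain ⟨χ, rfl⟩ := hB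
    have hχ : χ ∈ B0 := by
      have : χ ∈ (Set.toFinite B0).toFinset := by rw [hall]; exact Finset.mem_univ _
      simpa using this
    -- `χ` in the principal block: its block is the principal block
    exact (blockOf_eq_of_sameBlock hMp hχ).symm
  · intro hB
    have hall : (Set.toFinite B0).toFinset = Finset.univ := by
      ext ψ
      simp only [Set.Finite.mem_toFinset, Finset.mem_univ, iff_true]
      have h1 := hB (Cfsg.blockOf M (ψ : G ⧸ N → ℂ)) ⟨ψ, rfl⟩
      rw [← h1]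
      exact sameBlock_refl hMp _
    rw [hall]

end Cfsg.Agent.S4735
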