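import Cfsg.Statements.S4737
import Cfsg.Agent.Lib.Helper78_LocalRing
import Cfsg.Agent.Lib.Helper78_CentralChar
import Cfsg.Agent.Lib.Helper77_BlockBasics
import Cfsg.Agent.Lib.Helper3_CharEigen
import Cfsg.Agent.Lib.Helper3_CharComplete
import Cfsg.Agent.Lib.Helper79_Residue
import Cfsg.Agent.Lib.Helper79_ProdCount
import Cfsg.Agent.Lib.Helper79_OrderThreeParity
import Cfsg.Agent.S0165

set_option autoImplicit false
open Cfsg

namespace Cfsg.Agent.S4737

open Cfsg.Agent.Lib.Helper78_LocalRing Cfsg.Agent.Lib.Helper78_CentralChar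
  Cfsg.Agent.Lib.Helper79_Residue Cfsg.Agent.Lib.Helper79_ProdCount
  Cfsg.Agent.Lib.Helper79_OrderThreeParity

open scoped Matrix

/-- The value of an irreducible character as an algebraic integer. -/
noncomputable def val {G : Type*} [Group G] [Finite G] (χ : Cfsg.IrrCharacter G) (g : G) :
    Cfsg.AlgInt :=
  ⟨(χ : G → ℂ) g, by
    obtain ⟨n, ρ, hirr, hρ⟩ := χ.2
    rw [← hρ]
    exact Cfsg.Agent.Lib.Helper3_CharEigen.isIntegral_char ρ g⟩

theorem coe_val {G : Type*} [Group G] [Finite G] (χ : Cfsg.IrrCharacter G) (g : G) :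
    ((val χ g : Cfsg.AlgInt) : ℂ) = (χ : G → ℂ) g := rfl

/-- The cofactor `|G| / χ(1)` is odd exactly for the characters of `2`-defect zero. -/
theorem two_dvd_div_iff {G : Type*} [Group G] [Finite G] (χ : Cfsg.IrrCharacter G) :
    2 ∣ Nat.card G / Cfsg.charDegree (χ : G → ℂ) ↔
      ¬ (Cfsg.charDegree (χ : G → ℂ)).factorization 2 = (Nat.card G).factorization 2 := by
  have hdvd := Cfsg.Agent.Lib.Helper77_BlockBasics.charDegree_dvd_card χ
  have hdpos := Cfsg.Agent.Lib.Helper77_BlockBasics.charDegree_pos χ
  have hGpos : 0 < Nat.card G := Nat.card_pos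
  have hle : (Cfsg.charDegree (χ : G → ℂ)).factorization 2 ≤ (Nat.card G).factorization 2 :=
    (Nat.factorization_le_iff_dvd hdpos.ne' hGpos.ne').mpr hdvd 2
  have hq0 : Nat.card G / Cfsg.charDegree (χ : G → ℂ) ≠ 0 :=
    (Nat.div_pos (Nat.le_of_dvd hGpos hdvd) hdpos).ne'
  rw [Nat.prime_two.dvd_iff_one_le_factorization hq0, Nat.factorization_div hdvd,
    Finsupp.tsub_apply]
  omega

/-- Let G be a finite group of order divisible by 6. Then the number of irreducible characters of G whose degree has the same 2-part as the order of G (the characters of 2-defect zero, each forming a 2-block of defect zero on its own) is at least the number of conjugacy classes of elements of order 3 that normalize no nontrivial 2-subgroup of G. In particular G has a 2-block of defect zero as soon as some element of order 3 normalizes no nontrivial 2-subgroup. -/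
theorem result {G : Type*} [Group G] [Finite G] (h6 : 6 ∣ Nat.card G) : Nat.card {C : ConjClasses G // ∃ g ∈ C.carrier, orderOf g = 3 ∧ ∀ Q : Subgroup G, IsPGroup 2 ↥Q → g ∈ Subgroup.normalizer (Q : Set G) → Q = ⊥} ≤ Nat.card {χ : Cfsg.IrrCharacter G // (Cfsg.charDegree (χ : G → ℂ)).factorization 2 = (Nat.card G).factorization 2} := by
  classical
  have := Fintype.ofFinite G
  obtain ⟨M, hM⟩ := Cfsg.Agent.S0165.exists_isPModular 2 Nat.prime_two
  have hmax : M.IsMaximal := hM.2.1
  have hchar : CharP (ResField M) 2 := charP_resField hM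
  -- representatives of the classes
  have hrep : ∀ i : {C : ConjClasses G // ∃ g ∈ C.carrier, orderOf g = 3 ∧ ∀ Q : Subgroup G, IsPGroup 2 ↥Q → g ∈ Subgroup.normalizer (Q : Set G) → Q = ⊥},
      ∃ g : G, g ∈ i.1.carrier ∧ Iso3 g := fun i => by
    obtain ⟨g, hg, h⟩ := i.2
    exact ⟨g, hg, h⟩
  choose rep hrepmem hrepiso using hrep
  have hinj : ∀ i j, IsConj (rep j) (rep i) ↔ i = j := by
    intro i j
    constructor
    · intro h
      have h1 := ConjClasses.mem_carrier_iff_mk_eq.mp (hrepmem i)
      have h2 := ConjClasses.mem_carrier_iff_mk_eq.mp (hrepmem j)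
      apply Subtype.ext
      rw [← h1, ← h2]
      exact (ConjClasses.mk_eq_mk_iff_isConj.mpr h).symm
    · rintro rfl
      exact IsConj.refl _
  -- the two matrices over the residue field
  set X : Matrix {χ : Cfsg.IrrCharacter G // (Cfsg.charDegree (χ : G → ℂ)).factorization 2 = (Nat.card G).factorization 2}
      {C : ConjClasses G // ∃ g ∈ C.carrier, orderOf g = 3 ∧ ∀ Q : Subgroup G, IsPGroup 2 ↥Q → g ∈ Subgroup.normalizer (Q : Set G) → Q = ⊥}
      (ResField M) := fun χ i => mkK M (val χ.1 (rep i)) with hX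
  set Y : Matrix {χ : Cfsg.IrrCharacter G // (Cfsg.charDegree (χ : G → ℂ)).factorization 2 = (Nat.card G).factorization 2}
      {C : ConjClasses G // ∃ g ∈ C.carrier, orderOf g = 3 ∧ ∀ Q : Subgroup G, IsPGroup 2 ↥Q → g ∈ Subgroup.normalizer (Q : Set G) → Q = ⊥}
      (ResField M) := fun χ j => mkK M (val χ.1 (rep j)) ^ 2 with hY
  have hXY : Xᵀ * Y = 1 := by
    ext i j
    rw [Matrix.mul_apply, Matrix.one_apply]
    simp only [hX, hY]
    -- the identity in the algebraic integers
    have hC := card_sq_mul_prodCount (rep i) (rep j)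
    have hA : ((Nat.card (Subgroup.centralizer ({rep j} : Set G)) : ℕ) : Cfsg.AlgInt) ^ 2 *
        ((prodCount (rep j) (rep j) (rep i)⁻¹ : ℕ) : Cfsg.AlgInt) =
        ∑ χ : Cfsg.IrrCharacter G,
          ((Nat.card G / Cfsg.charDegree (χ : G → ℂ) : ℕ) : Cfsg.AlgInt) * val χ (rep j) ^ 2 *
            val χ (rep i) := by
      apply Subtype.val_injective
      push_cast
      simp only [coe_val]
      exact hC
    have hK := congrArg (mkK M) hA
    simp only [map_mul, map_pow, map_sum, map_natCast] at hK
    -- left side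
    have hc1 : ((Nat.card (Subgroup.centralizer ({rep j} : Set G)) : ℕ) : ResField M) = 1 := by
      have hodd := (hrepiso j).not_two_dvd_card_centralizer
      have hmod : Nat.card (Subgroup.centralizer ({rep j} : Set G)) ≡ 1 [MOD 2] := by
        have : Nat.card (Subgroup.centralizer ({rep j} : Set G)) % 2 = 1 := by omega
        exact this
      have := CharP.natCast_eq_natCast' (ResField M) 2 hmod
      simpa using this
    have hn : ((prodCount (rep j) (rep j) (rep i)⁻¹ : ℕ) : ResField M) =
        if i = j then 1 else 0 := by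
      have hmod := prodCount_modEq (hrepiso i) (hrepiso j).1
      have := CharP.natCast_eq_natCast' (ResField M) 2 hmod
      rw [this]
      by_cases hij : i = j
      · rw [if_pos hij, if_pos ((hinj i j).mpr hij)]; simp
      · rw [if_neg hij, if_neg (fun h => hij ((hinj i j).mp h))]; simp
    rw [hc1, hn, one_pow, one_mul] at hK
    rw [hK]
    -- right side: only the characters of defect zero survive
    have hterm : ∀ χ : Cfsg.IrrCharacter G,
        ((Nat.card G / Cfsg.charDegree (χ : G → ℂ) : ℕ) : ResField M) *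
            mkK M (val χ (rep j)) ^ 2 * mkK M (val χ (rep i)) =
          if (Cfsg.charDegree (χ : G → ℂ)).factorization 2 = (Nat.card G).factorization 2 then
            mkK M (val χ (rep i)) * mkK M (val χ (rep j)) ^ 2 else 0 := by
      intro χ
      by_cases hχ : (Cfsg.charDegree (χ : G → ℂ)).factorization 2 = (Nat.card G).factorization 2
      · rw [if_pos hχ]
        have hodd : ¬ 2 ∣ Nat.card G / Cfsg.charDegree (χ : G → ℂ) := fun h =>
          (two_dvd_div_iff χ).mp h hχ
        have hmod : Nat.card G / Cfsg.charDegree (χ : G → ℂ) ≡ 1 [MOD 2] := by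
          have : (Nat.card G / Cfsg.charDegree (χ : G → ℂ)) % 2 = 1 := by omega
          exact this
        have := CharP.natCast_eq_natCast' (ResField M) 2 hmod
        rw [this]
        simp only [Nat.cast_one, one_mul]
        ring
      · rw [if_neg hχ]
        have heven : 2 ∣ Nat.card G / Cfsg.charDegree (χ : G → ℂ) := (two_dvd_div_iff χ).mpr hχ
        have : ((Nat.card G / Cfsg.charDegree (χ : G → ℂ) : ℕ) : ResField M) = 0 :=
          (CharP.cast_eq_zero_iff (ResField M) 2 _).mpr heven
        rw [this, zero_mul, zero_mul]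
    rw [Finset.sum_congr rfl (fun χ _ => hterm χ), ← Finset.sum_filter]
    rw [Finset.sum_subtype (p := fun χ : Cfsg.IrrCharacter G =>
        (Cfsg.charDegree (χ : G → ℂ)).factorization 2 = (Nat.card G).factorization 2)
      (Finset.univ.filter fun χ : Cfsg.IrrCharacter G =>
        (Cfsg.charDegree (χ : G → ℂ)).factorization 2 = (Nat.card G).factorization 2)
      (fun χ => by
        rw [Finset.mem_filter]
        exact ⟨fun h => h.2, fun h => ⟨Finset.mem_univ _, h⟩⟩)
      (fun χ => mkK M (val χ (rep i)) * mkK M (val χ (rep j)) ^ 2)]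
    rfl
  -- ranks
  have h1 : (Xᵀ * Y).rank = Fintype.card {C : ConjClasses G // ∃ g ∈ C.carrier, orderOf g = 3 ∧ ∀ Q : Subgroup G, IsPGroup 2 ↥Q → g ∈ Subgroup.normalizer (Q : Set G) → Q = ⊥} := by
    rw [hXY, Matrix.rank_one]
  have h2 : (Xᵀ * Y).rank ≤ Xᵀ.rank := Matrix.rank_mul_le_left _ _
  have h3 : Xᵀ.rank ≤ Fintype.card {χ : Cfsg.IrrCharacter G // (Cfsg.charDegree (χ : G → ℂ)).factorization 2 = (Nat.card G).factorization 2} :=
    Matrix.rank_le_card_width _
  rw [Nat.card_eq_fintype_card, Nat.card_eq_fintype_card]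
  omega

end Cfsg.Agent.S4737
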