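-- Statement S4738: no element of order 2p: p-defect zero, or abelian Sylow p-subgroups and a
-- single class of involutions.
import Cfsg.Statements.S4738
import Cfsg.Agent.S4744
import Cfsg.Agent.Lib.Helper79_OddCentralizers
import Cfsg.Agent.Lib.Helper80_CharBasic

set_option autoImplicit false
open Cfsg

namespace Cfsg.Agent.S4738

open Cfsg.Agent.Lib.Helper79_OddCentralizers Cfsg.Agent.S4744
open scoped Pointwise

/-- without elements of order `2p`, centralizers of non-identity `p`-elements have odd order -/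
theorem odd_centralizer {G : Type*} [Group G] [Finite G] (p : ℕ) [Fact p.Prime] (hp2 : p ≠ 2)
    (h2p : ∀ g : G, orderOf g ≠ 2 * p) (u : G) (hu1 : u ≠ 1) (hup : ∃ k : ℕ, orderOf u = p ^ k) :
    Odd (Nat.card ↥(Subgroup.centralizer ({u} : Set G))) := by
  have hp : p.Prime := Fact.out
  haveI : Fact (Nat.Prime 2) := ⟨Nat.prime_two⟩
  rw [← Nat.not_even_iff_odd, even_iff_two_dvd]
  intro h2
  obtain ⟨t, ht⟩ := exists_prime_orderOf_dvd_card'
    (G := ↥(Subgroup.centralizer ({u} : Set G))) 2 h2
  have hto : orderOf (t : G) = 2 := by rw [Subgroup.orderOf_coe]; exact ht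
  obtain ⟨k, hk⟩ := hup
  have hk0 : k ≠ 0 := by
    rintro rfl
    rw [pow_zero, orderOf_eq_one_iff] at hk
    exact hu1 hk
  obtain ⟨k', rfl⟩ := Nat.exists_eq_succ_of_ne_zero hk0
  -- an element of order `p` commuting with `t`
  set v : G := u ^ p ^ k' with hv
  have hvo : orderOf v = p := by
    rw [hv, orderOf_pow' u (pow_ne_zero _ hp.ne_zero), hk,
      Nat.gcd_eq_right (pow_dvd_pow p (Nat.le_succ k')), pow_succ,
      Nat.mul_div_cancel_left _ (pow_pos hp.pos k')]
  have hcomm : Commute (t : G) v := by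
    have h1 : Commute (t : G) u := ((Subgroup.mem_centralizer_singleton_iff).mp t.2)
    exact h1.pow_right _
  have hcop : (orderOf (t : G)).Coprime (orderOf v) := by
    rw [hto, hvo]
    exact (Nat.coprime_primes Nat.prime_two hp).mpr (Ne.symm hp2)
  have := hcomm.orderOf_mul_eq_mul_orderOf_of_coprime hcop
  rw [hto, hvo] at this
  exact h2p _ this

/-- Let p be an odd prime and G a finite group of even order containing no element of order 2p. Then either G has an irreducible character of p-defect zero (its degree has the same p-part as the order of G), or every Sylow p-subgroup of G is abelian and all involutions of G are conjugate. -/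
theorem result {G : Type*} [Group G] [Finite G] (p : ℕ) [Fact p.Prime] (hp2 : p ≠ 2) (hG : Even (Nat.card G)) (h2p : ∀ g : G, orderOf g ≠ 2 * p) : (∃ χ : Cfsg.IrrCharacter G, (Cfsg.charDegree (χ : G → ℂ)).factorization p = (Nat.card G).factorization p) ∨ ((∀ P : Sylow p G, IsMulCommutative ↥(P : Subgroup G)) ∧ ∀ s t : G, orderOf s = 2 → orderOf t = 2 → IsConj s t) := by
  classical
  have hp : p.Prime := Fact.out
  have h2G : 2 ∣ Nat.card G := even_iff_two_dvd.mp hG
  have hG0 : Nat.card G ≠ 0 := Nat.card_pos.ne'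
  by_cases hpG : p ∣ Nat.card G
  swap
  · left
    refine ⟨Cfsg.Agent.Lib.Helper80_CharBasic.oneIrr G, ?_⟩
    rw [Nat.factorization_eq_zero_of_not_dvd hpG]
    apply Nat.factorization_eq_zero_of_not_dvd
    intro h
    exact hpG (h.trans (Cfsg.Agent.Lib.Helper77_BlockBasics.charDegree_dvd_card _))
  have hC := odd_centralizer p hp2 h2p
  by_cases hno : ∃ χ : Cfsg.IrrCharacter G,
      (Cfsg.charDegree (χ : G → ℂ)).factorization p = (Nat.card G).factorization p
  · exact Or.inl hno
  right
  constructor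
  · rcases Cfsg.Agent.S4744.result p hp2 hpG h2G hC with h | h
    · exact absurd h hno
    · exact fun P => (h P).2
  · intro s t hs ht
    obtain ⟨Qs, a, hsa, hainv⟩ := exists_inverted_sylow p hp2 hpG h2G hC hno s hs
    obtain ⟨Qt, b0, htb0, hb0inv⟩ := exists_inverted_sylow p hp2 hpG h2G hC hno t ht
    -- move `Qt` onto `Qs`
    obtain ⟨h, hh⟩ := MulAction.exists_smul_eq G Qt Qs
    have hmem : ∀ y : G, y ∈ (Qs : Subgroup G) ↔ h⁻¹ * y * h ∈ (Qt : Subgroup G) := by
      intro y
      rw [← hh, Sylow.smul_def, Sylow.pointwise_smul_def]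
      exact mem_conj_smul
    set b : G := h * b0 * h⁻¹ with hb
    have htb : IsConj t b := htb0.trans (isConj_iff.mpr ⟨h, rfl⟩)
    have hbinv : ∀ q ∈ (Qs : Subgroup G), b * q * b⁻¹ = q⁻¹ := by
      intro q hq
      have h1 := hb0inv _ ((hmem q).mp hq)
      calc b * q * b⁻¹ = h * (b0 * (h⁻¹ * q * h) * b0⁻¹) * h⁻¹ := by rw [hb]; group
        _ = h * (h⁻¹ * q * h)⁻¹ * h⁻¹ := by rw [h1]
        _ = q⁻¹ := by group
    have hao : orderOf a = 2 := by
      obtain ⟨c, rfl⟩ := isConj_iff.mp hsa
      rw [orderOf_conj', hs]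
    have hbo : orderOf b = 2 := by
      obtain ⟨c, hc⟩ := isConj_iff.mp htb
      rw [← hc, orderOf_conj', ht]
    have haa : a * a = 1 := by
      have := pow_orderOf_eq_one a
      rwa [hao, sq] at this
    have hbb : b * b = 1 := by
      have := pow_orderOf_eq_one b
      rwa [hbo, sq] at this
    -- a non-identity element of `Qs`
    have hc0 : (Nat.card G).factorization p ≠ 0 :=
      (Nat.Prime.factorization_pos_of_dvd hp hG0 hpG).ne'
    haveI : Nontrivial ↥(Qs : Subgroup G) := by
      rw [← Finite.one_lt_card_iff_nontrivial, Qs.card_eq_multiplicity]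
      exact Nat.one_lt_pow hc0 hp.one_lt
    obtain ⟨⟨u, huQ⟩, hu1⟩ := exists_ne (1 : ↥(Qs : Subgroup G))
    have hu1' : u ≠ 1 := fun h => hu1 (Subtype.ext h)
    have hab : IsConj a b := isConj_of_invert (Qs : Subgroup G) haa hbb hainv hbinv huQ
      (hC u hu1' (orderOf_eq_pow_of_mem Qs.isPGroup' huQ))
    exact (hsa.trans hab).trans htb.symm

end Cfsg.Agent.S4738
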