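import Cfsg.Statements.S4741
import Cfsg.Agent.Lib.Helper78_LocalRing
import Cfsg.Agent.Lib.Helper78_CentralChar
import Cfsg.Agent.Lib.Helper77_BlockBasics
import Cfsg.Agent.Lib.Helper57_BrauerFeit
import Cfsg.Agent.Lib.Helper79_Residue
import Cfsg.Agent.Lib.Helper79_RankTools
import Cfsg.Agent.Lib.Helper79_RobinsonFormula
import Cfsg.Agent.Lib.Helper79_RobinsonTerm
import Cfsg.Agent.Lib.Helper79_RobinsonMain
import Cfsg.Agent.Lib.Helper79_RobinsonMatrix

set_option autoImplicit false
open Cfsg

namespace Cfsg.Agent.S4741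

open Cfsg.Agent.Lib.Helper78_LocalRing Cfsg.Agent.Lib.Helper78_CentralChar
  Cfsg.Agent.Lib.Helper77_BlockBasics
  Cfsg.Agent.Lib.Helper79_Residue Cfsg.Agent.Lib.Helper79_RankTools
  Cfsg.Agent.Lib.Helper79_RobinsonFormula Cfsg.Agent.Lib.Helper79_RobinsonTerm
  Cfsg.Agent.Lib.Helper79_RobinsonMain Cfsg.Agent.Lib.Helper79_RobinsonMatrix

open scoped Matrix

/-- The determinant of a matrix of local integers lies in the local ideal iff the determinant of
its reduction vanishes. -/
theorem det_redFun {M : Ideal Cfsg.AlgInt} [hmax : M.IsMaximal] {r : ℕ}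
    (N : Matrix (Fin r) (Fin r) ℂ) (hN : ∀ i j, MemLocalRing M (N i j)) :
    MemLocalRing M N.det ∧
      redFun M N.det = (Matrix.of fun i j : Fin r => redFun M (N i j)).det := by
  have hMp := hmax.isPrime
  set NR : Matrix (Fin r) (Fin r) (localSubring (M := M) hMp) := fun i j => ⟨N i j, hN i j⟩
    with hNR
  have h1 : N = NR.map (localSubring (M := M) hMp).subtype := by
    ext i j
    rfl
  have h2 : N.det = ((NR.det : localSubring (M := M) hMp) : ℂ) := by
    rw [h1, ← RingHom.mapMatrix_apply, ← RingHom.map_det]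
    rfl
  refine ⟨by rw [h2]; exact (NR.det).2, ?_⟩
  rw [h2, ← red_apply, RingHom.map_det]
  congr 1

/-- Let p be a prime, M a maximal ideal of the algebraic integers containing p, and D a subgroup of the finite group G. Let x₁, …, x_r be pairwise non-conjugate elements of G such that D is a Sylow p-subgroup of the centralizer of each xᵢ, and such that for any conjugates g of some xᵢ and h of some xⱼ the element g h⁻¹ is never a non-identity p-element. Then there are r distinct p-blocks B₁, …, B_r of G, each having D as a defect group, such that for every choice of characters χᵢ ∈ Bᵢ of height zero the determinant of the r × r matrix (χᵢ(xⱼ)) does not lie in the local ideal at M. -/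
theorem result {G : Type*} [Group G] [Finite G] (p : ℕ) [Fact p.Prime] (M : Ideal Cfsg.AlgInt) (hM : Cfsg.IsPModular p M) (D : Subgroup G) {r : ℕ} (x : Fin r → G) (hx : ∀ i j : Fin r, IsConj (x i) (x j) → i = j) (hD : ∀ i : Fin r, ∃ S : Sylow p ↥(Subgroup.centralizer ({x i} : Set G)), (S : Subgroup ↥(Subgroup.centralizer ({x i} : Set G))).map (Subgroup.centralizer ({x i} : Set G)).subtype = D) (hsep : ∀ i j : Fin r, ∀ g h : G, IsConj (x i) g → IsConj (x j) h → ∀ k : ℕ, 0 < k → orderOf (g * h⁻¹) ≠ p ^ k) : ∃ B : Fin r → Set (Cfsg.IrrCharacter G), Function.Injective B ∧ (∀ i : Fin r, Cfsg.IsPBlock M (B i) ∧ Cfsg.IsDefectGroup p M (B i) D) ∧ ∀ χ : Fin r → Cfsg.IrrCharacter G, (∀ i : Fin r, χ i ∈ B i ∧ Cfsg.blockHeight p (B i) (χ i : G → ℂ) = 0) → ¬ Cfsg.MemLocalIdeal M (Matrix.det (Matrix.of fun i j : Fin r => (χ i : G → ℂ) (x j))) := by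
  classical
  haveI := Fintype.ofFinite G
  haveI hmax : M.IsMaximal := hM.2.1
  have hMp := hmax.isPrime
  have hp : p.Prime := Fact.out
  haveI : Fintype (GoodBlock p M D) := Fintype.ofFinite _
  obtain ⟨S⟩ : Nonempty (Sylow p G) := inferInstance
  have hxS : ∀ i, HasSylow p D (x i) := fun i => hasSylow_of_exists (hD i)
  set k := (Nat.card G).factorization p - (Nat.card D).factorization p with hk
  have hne : ∀ B : GoodBlock p M D, ∃ χ, χ ∈ B.1 := fun B => isPBlock_nonempty hMp B.2.1
  choose rep hrep using hne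
  -- index of centralizers
  have hidx : ∀ j, ∃ c : ℕ, ¬ p ∣ c ∧ (Subgroup.centralizer ({x j} : Set G)).index = p ^ k * c :=
    fun j => (hxS j).exists_index_eq
  choose c hc hcidx using hidx
  have hp0 : (p : ℂ) ≠ 0 := by exact_mod_cast hp.ne_zero
  -- the matrix of pair counts
  set A : Matrix (Fin r) (Fin r) (ResField M) :=
    Matrix.of fun i j : Fin r => redFun M ((pairCount (S : Subgroup G) (x i) (x j) : ℂ) /
      (p : ℂ) ^ k) with hA
  have hAdiag : A = Matrix.diagonal fun i => ((c i : ℕ) : ResField M) := by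
    ext i j
    rw [hA]
    simp only [Matrix.of_apply]
    rw [pairCount_of_separated S (x i) (x j) (fun u v hu hv => hsep j i v u hv hu)]
    by_cases hij : i = j
    · subst hij
      rw [if_pos (IsConj.refl _), Matrix.diagonal_apply_eq, hcidx i, ← redFun_natCast]
      congr 1
      push_cast
      field_simp
    · rw [if_neg (fun h => hij (hx i j h)), Matrix.diagonal_apply_ne _ hij, zero_div, redFun_zero]
  have hcne : ∀ i, ((c i : ℕ) : ResField M) ≠ 0 := by
    intro i
    rw [← redFun_natCast]
    exact redFun_ne_zero (memLocalRing_natCast hMp _)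
      (fun h => hc i ((memLocalIdeal_natCast_iff hM _).mp h))
  have hArank : A.rank = r := by
    rw [hAdiag]
    have hdet : IsUnit (Matrix.diagonal fun i => ((c i : ℕ) : ResField M)).det := by
      rw [Matrix.det_diagonal]
      exact IsUnit.mk0 _ (Finset.prod_ne_zero_iff.mpr fun i _ => hcne i)
    rw [Matrix.rank_of_isUnit _ ((Matrix.isUnit_iff_isUnit_det _).mpr hdet), Fintype.card_fin]
  set Ω : Matrix (GoodBlock p M D) (Fin r) (ResField M) :=
    Matrix.of fun (B : GoodBlock p M D) (j : Fin r) =>
      redFun M (centralChar (rep B : G → ℂ) (x j)) with hΩ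
  have hmat := robinson_matrix_eq hM D S x hxS rep hrep
  have hΩrank : Ω.rank = r := by
    apply le_antisymm
    · have := Matrix.rank_le_card_width Ω
      rwa [Fintype.card_fin] at this
    · have h1 : A.rank ≤ Ω.rank := by
        rw [hA, hmat]
        exact Matrix.rank_mul_le_right _ _
      exact le_of_eq_of_le hArank.symm h1
  obtain ⟨sel, hselinj, hseldet⟩ := exists_rows_det_ne_zero Ω hΩrank
  refine ⟨fun i => (sel i).1, ?_, fun i => (sel i).2, ?_⟩
  · intro i j hij
    exact hselinj (Subtype.ext hij)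
  · intro χ hχ hdetI
    -- degrees
    have hdeg : ∀ i, ∃ n₁ : ℕ, ¬ p ∣ n₁ ∧ charDegree (χ i : G → ℂ) = p ^ k * n₁ := by
      intro i
      obtain ⟨n₁, hn₁, hn⟩ := exists_degree_eq p (χ i)
      obtain ⟨h1, h2⟩ := le_factorization_of_good hM (sel i).2.1 (sel i).2.2 (hχ i).1
      have h3 : blockHeight p (sel i).1 (χ i : G → ℂ) =
          (charDegree (χ i : G → ℂ)).factorization p -
            Cfsg.Agent.Lib.Helper57_BrauerFeit.h0 p (sel i).1 :=
        Cfsg.Agent.Lib.Helper57_BrauerFeit.blockHeight_eq (χ i)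
      have h4 : (charDegree (χ i : G → ℂ)).factorization p = k := by
        have := (hχ i).2
        rw [h3] at this
        omega
      rw [h4] at hn
      exact ⟨n₁, hn₁, hn⟩
    choose n₁ hn₁ hn using hdeg
    -- the matrix of central characters
    set N : Matrix (Fin r) (Fin r) ℂ :=
      Matrix.of fun i j : Fin r => centralChar (χ i : G → ℂ) (x j) with hN
    have hNR : ∀ i j, MemLocalRing M (N i j) := fun i j => memLocalRing_centralChar hMp _ _
    obtain ⟨hdetR, hdetred⟩ := det_redFun N hNR
    have hredN : (Matrix.of fun i j : Fin r => redFun M (N i j)) =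
        Matrix.of fun i j : Fin r => Ω (sel i) j := by
      ext i j
      simp only [Matrix.of_apply, hN, hΩ]
      refine redFun_eq_of_sub (memLocalRing_centralChar hMp _ _)
        (memLocalRing_centralChar hMp _ _) ?_
      exact isPBlock_sameBlock hMp (sel i).2.1 (hχ i).1 (hrep (sel i)) (x j)
    have hdetN : ¬ MemLocalIdeal M N.det := by
      intro h
      have := (redFun_eq_zero_iff hdetR).mpr h
      rw [hdetred, hredN] at this
      exact hseldet this
    -- relation between the two determinants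
    have hrel : ∀ i j : Fin r, ((c j : ℕ) : ℂ) * (χ i : G → ℂ) (x j) =
        ((n₁ i : ℕ) : ℂ) * N i j := by
      intro i j
      simp only [hN, Matrix.of_apply]
      unfold centralChar
      rw [hcidx j, apply_one_eq_charDegree (χ i), hn i]
      have hn0 : ((n₁ i : ℕ) : ℂ) ≠ 0 := natCast_ne_zero_of_not_dvd (hn₁ i)
      push_cast
      field_simp
    have h1 := Matrix.det_mul_row (fun j : Fin r => ((c j : ℕ) : ℂ))
      (Matrix.of fun i j : Fin r => (χ i : G → ℂ) (x j))
    have h2 := Matrix.det_mul_column (fun i : Fin r => ((n₁ i : ℕ) : ℂ)) N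
    have h3 : (Matrix.of fun i j : Fin r => ((c j : ℕ) : ℂ) *
        (Matrix.of fun i j : Fin r => (χ i : G → ℂ) (x j)) i j) =
        Matrix.of fun i j : Fin r => ((n₁ i : ℕ) : ℂ) * N i j := by
      ext i j
      simp only [Matrix.of_apply]
      exact hrel i j
    rw [h3, h2] at h1
    -- h1 : (∏ n₁) * det N = (∏ c) * det (χ i (x j))
    have h4 : MemLocalIdeal M ((∏ i : Fin r, ((n₁ i : ℕ) : ℂ)) * N.det) := by
      rw [h1]
      refine memLocalIdeal_mul_left hMp ?_ hdetI
      exact memLocalRing_prod hMp _ _ fun i _ => memLocalRing_natCast hMp _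
    have h5 : MemLocalRing M (∏ i : Fin r, ((n₁ i : ℕ) : ℂ)) :=
      memLocalRing_prod hMp _ _ fun i _ => memLocalRing_natCast hMp _
    rw [memLocalIdeal_mul_iff hMp h5 hdetR] at h4
    rcases h4 with h4 | h4
    · have h6 : (∏ i : Fin r, ((n₁ i : ℕ) : ℂ)) = ((∏ i : Fin r, n₁ i : ℕ) : ℂ) := by
        push_cast
        rfl
      rw [h6, memLocalIdeal_natCast_iff hM] at h4
      obtain ⟨i, -, hi⟩ := (Prime.dvd_finset_prod_iff (Nat.prime_iff.mp hp) _).mp h4
      exact hn₁ i hi
    · exact hdetN h4

end Cfsg.Agent.S4741
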