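-- Statement S4742 (helper79).
import Cfsg.Statements.S4742
import Cfsg.Agent.Lib.Helper79_ClassConst
import Cfsg.Agent.Lib.Helper79_CharVals
import Cfsg.Agent.Lib.Helper3_CharDegree

set_option autoImplicit false
open Cfsg

namespace Cfsg.Agent.S4742

open Cfsg.Agent.Lib.Helper79_ClassAlgebra2 Cfsg.Agent.Lib.Helper81_CharBasic
  Cfsg.Agent.Lib.Helper81_CharOrth Cfsg.Agent.Lib.Helper79_ClassConst
  Cfsg.Agent.Lib.Helper79_CharVals

/-- If `n ∣ p * T` and the `p`-part of `n` is not the full `p`-part of `p * T`, then `n ∣ T`. -/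
theorem dvd_of_dvd_mul_of_factorization_ne {p n T : ℕ} (hp : p.Prime) (hn : n ≠ 0) (hT : T ≠ 0)
    (hdvd : n ∣ p * T) (hne : n.factorization p ≠ (p * T).factorization p) : n ∣ T := by
  rw [← Nat.factorization_le_iff_dvd hn hT]
  have hpT : p * T ≠ 0 := mul_ne_zero hp.ne_zero hT
  have hle := (Nat.factorization_le_iff_dvd hn hpT).2 hdvd
  have hfac : (p * T).factorization = p.factorization + T.factorization :=
    Nat.factorization_mul hp.ne_zero hT
  intro r
  have hr := hle r
  rw [hfac, Finsupp.add_apply, hp.factorization] at hr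
  by_cases hrp : r = p
  · subst hrp
    rw [hfac, Finsupp.add_apply, hp.factorization] at hne
    simp only [Finsupp.single_eq_same] at hr hne
    omega
  · rw [Finsupp.single_eq_of_ne hrp, zero_add] at hr
    exact hr

/-- Let p ≠ q be primes dividing the order of the finite group G, and suppose the centralizer of every non-identity p-element of G has order prime to q. Then either G has an irreducible character of p-defect zero, or for every non-identity q-element z of G there are conjugates g, h of z such that g h⁻¹ is a non-identity p-element. -/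
theorem result {G : Type*} [Group G] [Finite G] (p q : ℕ) [Fact p.Prime] [Fact q.Prime] (hppq : p ≠ q) (hpG : p ∣ Nat.card G) (hqG : q ∣ Nat.card G) (hC : ∀ g : G, g ≠ 1 → (∃ k : ℕ, orderOf g = p ^ k) → ¬ q ∣ Nat.card ↥(Subgroup.centralizer ({g} : Set G))) : (∃ χ : Cfsg.IrrCharacter G, (Cfsg.charDegree (χ : G → ℂ)).factorization p = (Nat.card G).factorization p) ∨ ∀ z : G, z ≠ 1 → (∃ k : ℕ, orderOf z = q ^ k) → ∃ g h : G, IsConj z g ∧ IsConj z h ∧ g * h⁻¹ ≠ 1 ∧ ∃ k : ℕ, orderOf (g * h⁻¹) = p ^ k := by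
  classical
  haveI := Fintype.ofFinite G
  haveI := Fintype.ofFinite (IrrCharacter G)
  have hpp : p.Prime := Fact.out
  have hqp : q.Prime := Fact.out
  by_contra hcon
  push Not at hcon
  obtain ⟨hdef, z, hz1, ⟨kz, hkz⟩, hzno⟩ := hcon
  have hcard : (Fintype.card G : ℂ) ≠ 0 := by exact_mod_cast Fintype.card_ne_zero
  -- a Sylow p-subgroup
  obtain ⟨P⟩ : Nonempty (Sylow p G) := inferInstance
  obtain ⟨c, hc⟩ : ∃ c, c = (Nat.card G).factorization p := ⟨_, rfl⟩
  have hPcard : Nat.card (P : Subgroup G) = p ^ c := by rw [hc]; exact P.card_eq_multiplicity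
  haveI : Fintype (P : Subgroup G) := Fintype.ofFinite _
  -- T = |G| / p
  obtain ⟨T, hT⟩ := hpG
  have hGpos : 0 < Nat.card G := Nat.card_pos
  have hT0 : T ≠ 0 := by
    rintro rfl
    rw [mul_zero] at hT
    exact hGpos.ne' hT
  have hcT : c = T.factorization p + 1 := by
    rw [hc, hT, Nat.factorization_mul hpp.ne_zero hT0, Finsupp.add_apply, hpp.factorization]
    simp [add_comm]
  -- data attached to each irreducible character
  have hdeg : ∀ χ : IrrCharacter G, ∃ n : ℕ, 0 < n ∧ (χ : G → ℂ) 1 = n ∧ charDegree (χ : G → ℂ) = n :=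
    fun χ => irr_degree χ.2
  choose n hnpos hn1 hncd using hdeg
  have hsumP : ∀ χ : IrrCharacter G, ∃ d : ℕ,
      ∑ w : (P : Subgroup G), (χ : G → ℂ) w = (Nat.card (P : Subgroup G) : ℂ) * d :=
    fun χ => sum_subgroup_char (IsIrrCharacter.isCharacter χ.2) (P : Subgroup G)
  choose m hm using hsumP
  -- degrees divide T
  have hndvd : ∀ χ : IrrCharacter G, n χ ∣ T := by
    intro χ
    have h1 : n χ ∣ Nat.card G := by
      obtain ⟨d, ρ, hρ, hχ⟩ := χ.2
      haveI := hρ
      have h2 := Cfsg.Agent.Lib.Helper3_CharDegree.finrank_dvd_card ρ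
      have h3 : (n χ : ℂ) = (Module.finrank ℂ (Fin d → ℂ) : ℂ) := by
        rw [← hn1 χ, ← hχ, Representation.char_one]
      have h4 : n χ = Module.finrank ℂ (Fin d → ℂ) := by exact_mod_cast h3
      rw [h4]; exact h2
    rw [hT] at h1
    apply dvd_of_dvd_mul_of_factorization_ne hpp (hnpos χ).ne' hT0 h1
    have := hdef χ
    rwa [hncd χ, hT] at this
  -- p does not divide |C(z)|
  have hzq : q ∣ orderOf z := by
    rw [hkz]
    have hk0 : kz ≠ 0 := by
      rintro rfl
      rw [pow_zero, orderOf_eq_one_iff] at hkz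
      exact hz1 hkz
    exact dvd_pow_self q hk0
  have hpCz : ¬ p ∣ Nat.card ↥(Subgroup.centralizer ({z} : Set G)) := by
    intro hdvd
    obtain ⟨u, hu⟩ := exists_prime_orderOf_dvd_card' p hdvd
    have hu1 : (u : G) ≠ 1 := by
      intro h
      have : u = 1 := Subtype.ext h
      rw [this, orderOf_one] at hu
      exact hpp.one_lt.ne hu
    have huo : orderOf (u : G) = p := by
      rw [← hu]; exact Subgroup.orderOf_coe u
    have := hC (u : G) hu1 ⟨1, by rw [huo, pow_one]⟩
    apply this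
    have hzmem : z ∈ Subgroup.centralizer ({(u : G)} : Set G) := by
      rw [Subgroup.mem_centralizer_iff]
      intro y hy
      rw [Set.mem_singleton_iff] at hy
      subst hy
      have := u.2
      rw [Subgroup.mem_centralizer_iff] at this
      exact (this z rfl).symm
    have h1 : orderOf (⟨z, hzmem⟩ : Subgroup.centralizer ({(u : G)} : Set G)) = orderOf z :=
      Subgroup.orderOf_mk z hzmem
    exact hzq.trans (h1 ▸ orderOf_dvd_natCard _)
  -- vanishing of the count on `P \ {1}`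
  have hzero : ∀ w : (P : Subgroup G), (w : G) ≠ 1 → prodCount z z⁻¹ (w : G) = 0 := by
    intro w hw
    unfold prodCount
    refine Finset.sum_eq_zero fun g _ => Finset.sum_eq_zero fun h _ => ?_
    rw [if_neg]
    intro heq
    have hpw : ∃ k : ℕ, orderOf (w : G) = p ^ k := by
      have hPg : IsPGroup p (P : Subgroup G) := P.isPGroup'
      obtain ⟨k, hk⟩ := IsPGroup.iff_orderOf.1 hPg w
      exact ⟨k, by rw [← hk]; exact Subgroup.orderOf_coe w⟩
    obtain ⟨k, hk⟩ := hpw
    have h1 : g * z * g⁻¹ * (h * z * h⁻¹)⁻¹ = (w : G) := by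
      rw [← heq]; group
    refine hzno (g * z * g⁻¹) (h * z * h⁻¹) (isConj_iff.2 ⟨g, rfl⟩) (isConj_iff.2 ⟨h, rfl⟩) ?_ k ?_
    · rw [h1]; exact hw
    · rw [h1]; exact hk
  -- the main identity
  have hmain : (Nat.card ↥(Subgroup.centralizer ({z} : Set G)) : ℂ) =
      (p : ℂ) ^ c * ∑ χ : IrrCharacter G,
        ((χ : G → ℂ) z⁻¹ * (χ : G → ℂ) z * (m χ : ℂ) / (n χ : ℂ)) := by
    have h1 : ∑ w : (P : Subgroup G), prodCount z z⁻¹ (w : G) = prodCount z z⁻¹ 1 := by
      rw [Finset.sum_eq_single (1 : (P : Subgroup G))]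
      · rfl
      · intro w _ hw
        exact hzero w (fun h => hw (Subtype.ext h))
      · intro h; exact absurd (Finset.mem_univ _) h
    rw [prodCount_inv_one z] at h1
    have h2 : ∑ w : (P : Subgroup G), prodCount z z⁻¹ (w : G) = (Fintype.card G : ℂ) *
        ((p : ℂ) ^ c * ∑ χ : IrrCharacter G,
          ((χ : G → ℂ) z⁻¹ * (χ : G → ℂ) z * (m χ : ℂ) / (n χ : ℂ))) := by
      simp only [prodCount_eq]
      rw [← Finset.mul_sum, Finset.sum_comm]
      congr 1
      rw [Finset.mul_sum]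
      refine Finset.sum_congr rfl fun χ _ => ?_
      rw [inv_inv, hn1 χ]
      have : ∑ w : (P : Subgroup G), (χ : G → ℂ) z⁻¹ * (χ : G → ℂ) z * (χ : G → ℂ) w / (n χ : ℂ) =
          (χ : G → ℂ) z⁻¹ * (χ : G → ℂ) z / (n χ : ℂ) * ∑ w : (P : Subgroup G), (χ : G → ℂ) w := by
        rw [Finset.mul_sum]
        refine Finset.sum_congr rfl fun w _ => by ring
      rw [this, hm χ, hPcard]
      push_cast
      ring
    rw [h2] at h1
    exact (mul_left_cancel₀ hcard h1).symm
  -- the algebraic integer α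
  have hintχ : ∀ (χ : IrrCharacter G) (g : G), IsIntegral ℤ ((χ : G → ℂ) g) := by
    intro χ g
    obtain ⟨d, ρ, _, hχ⟩ := χ.2
    rw [← hχ]
    exact Cfsg.Agent.Lib.Helper3_CharEigen.isIntegral_char ρ g
  have hα : IsIntegral ℤ (∑ χ : IrrCharacter G,
      ((χ : G → ℂ) z⁻¹ * (χ : G → ℂ) z * ((m χ * (T / n χ) : ℕ) : ℂ))) := by
    refine IsIntegral.sum _ fun χ _ => ?_
    exact ((hintχ χ z⁻¹).mul (hintχ χ z)).mul (isIntegral_natCast _)
  have hαeq : (∑ χ : IrrCharacter G,
      ((χ : G → ℂ) z⁻¹ * (χ : G → ℂ) z * ((m χ * (T / n χ) : ℕ) : ℂ))) =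
      ((Nat.card ↥(Subgroup.centralizer ({z} : Set G)) * T : ℕ) : ℂ) / ((p ^ c : ℕ) : ℂ) := by
    have hpc : ((p ^ c : ℕ) : ℂ) ≠ 0 := by
      exact_mod_cast (pow_pos hpp.pos c).ne'
    rw [eq_div_iff hpc]
    push_cast
    rw [hmain]
    have : ∀ χ : IrrCharacter G, (χ : G → ℂ) z⁻¹ * (χ : G → ℂ) z * ((m χ : ℂ) * ((T / n χ : ℕ) : ℂ)) =
        ((χ : G → ℂ) z⁻¹ * (χ : G → ℂ) z * (m χ : ℂ) / (n χ : ℂ)) * (T : ℂ) := by
      intro χ
      obtain ⟨r, hr⟩ := hndvd χ
      have hnz : (n χ : ℂ) ≠ 0 := by exact_mod_cast (hnpos χ).ne'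
      have : T / n χ = r := by rw [hr]; exact Nat.mul_div_cancel_left r (hnpos χ)
      rw [this, hr]
      push_cast
      field_simp
    rw [Finset.sum_congr rfl fun χ _ => this χ, ← Finset.sum_mul]
    ring
  rw [hαeq] at hα
  have hdvd := Cfsg.Agent.Lib.Helper3_CharDegree.dvd_of_isIntegral_div
    (pow_pos hpp.pos c).ne' hα
  -- contradiction by comparing p-parts
  have hCpos : Nat.card ↥(Subgroup.centralizer ({z} : Set G)) ≠ 0 := Nat.card_pos.ne'
  have h1 := (Nat.factorization_le_iff_dvd (pow_pos hpp.pos c).ne' (mul_ne_zero hCpos hT0)).2 hdvd p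
  rw [Nat.factorization_mul hCpos hT0, Finsupp.add_apply, Nat.Prime.factorization_pow hpp,
    Finsupp.single_eq_same, Nat.factorization_eq_zero_of_not_dvd hpCz] at h1
  omega

end Cfsg.Agent.S4742
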