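-- Statement S4743: no elements of order pq, p- or q-solvable: a block of defect zero for p or q.
import Cfsg.Statements.S4743
import Cfsg.Agent.S4742

set_option autoImplicit false
open Cfsg

namespace Cfsg.Agent.S4743

section aux

variable {G : Type*} [Group G] [Finite G]

/-- every non-identity `q`-element has two conjugates whose quotient is a non-identity
`p`-element -/
def Fuses (G : Type*) [Group G] (p q : ℕ) : Prop :=
  ∀ z : G, z ≠ 1 → (∃ k : ℕ, orderOf z = q ^ k) →
    ∃ g h : G, IsConj z g ∧ IsConj z h ∧ g * h⁻¹ ≠ 1 ∧ ∃ k : ℕ, orderOf (g * h⁻¹) = p ^ k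

/-- an element of `K` whose order is prime to the index of the normal subgroup `N` in `K`
lies in `N` -/
theorem mem_of_coprime_relIndex (N K : Subgroup G) [hN : N.Normal] {x : G} (hx : x ∈ K) {a : ℕ}
    (hxa : x ^ a = 1) (hcop : (N.relIndex K).Coprime a) : x ∈ N := by
  haveI : (N.subgroupOf K).Normal := hN.subgroupOf K
  set y : ↥K ⧸ N.subgroupOf K := QuotientGroup.mk (⟨x, hx⟩ : ↥K) with hy
  have h1 : y ^ (N.relIndex K) = 1 := by
    rw [Subgroup.relIndex, Subgroup.index_eq_card]
    exact pow_card_eq_one'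
  have h2 : y ^ a = 1 := by
    rw [hy, ← QuotientGroup.mk_pow]
    have : (⟨x, hx⟩ : ↥K) ^ a = 1 := by
      apply Subtype.ext
      simp only [Subgroup.coe_pow, Subgroup.coe_one]
      exact hxa
    rw [this, QuotientGroup.mk_one]
  have h3 : orderOf y ∣ Nat.gcd (N.relIndex K) a :=
    Nat.dvd_gcd (orderOf_dvd_of_pow_eq_one h1) (orderOf_dvd_of_pow_eq_one h2)
  rw [hcop.gcd_eq_one, Nat.dvd_one, orderOf_eq_one_iff, hy, QuotientGroup.eq_one_iff] at h3
  exact Subgroup.mem_subgroupOf.mp h3

theorem conj_mem_of_normal {N : Subgroup G} (hN : N.Normal) {z g : G} (hz : z ∈ N)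
    (hzg : IsConj z g) : g ∈ N := by
  obtain ⟨t, rfl⟩ := isConj_iff.mp hzg
  exact hN.conj_mem z hz t

/-- The chain argument: a `p`-solvable group in which both fusion conditions hold has order
prime to `p`. -/
theorem false_of_isPSolvable (p q : ℕ) [Fact p.Prime] [Fact q.Prime] (hpq : p ≠ q)
    (hpG : p ∣ Nat.card G) (hsolv : Cfsg.IsPSolvable p G) (h1 : Fuses G p q) (h2 : Fuses G q p) :
    False := by
  have hp : p.Prime := Fact.out
  have hq : q.Prime := Fact.out
  obtain ⟨n, H, h0, hlast, -, hnorm, hstep⟩ := hsolv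
  -- no non-identity `p`- or `q`-elements in any member of the chain
  have key : ∀ i : Fin (n + 1), (∀ x ∈ H i, (∃ k : ℕ, orderOf x = p ^ k) → x = 1) ∧
      (∀ x ∈ H i, (∃ k : ℕ, orderOf x = q ^ k) → x = 1) := by
    intro i
    induction i using Fin.induction with
    | zero =>
      rw [h0]
      exact ⟨fun x hx _ => Subgroup.mem_bot.mp hx, fun x hx _ => Subgroup.mem_bot.mp hx⟩
    | succ i ih =>
      obtain ⟨ihp, ihq⟩ := ih
      haveI := hnorm i.castSucc
      rcases hstep i with ⟨m, hm⟩ | hm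
      · -- a `p`-factor
        have hqs : ∀ x ∈ H i.succ, (∃ k : ℕ, orderOf x = q ^ k) → x = 1 := by
          rintro x hx ⟨k, hk⟩
          have hmem : x ∈ H i.castSucc := by
            refine mem_of_coprime_relIndex (H i.castSucc) (H i.succ) hx (a := q ^ k) ?_ ?_
            · rw [← hk]; exact pow_orderOf_eq_one x
            · rw [hm]
              exact Nat.Coprime.pow m k ((Nat.coprime_primes hp hq).mpr hpq)
          exact ihq x hmem ⟨k, hk⟩
        refine ⟨?_, hqs⟩
        rintro x hx ⟨k, hk⟩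
        by_contra hx1
        obtain ⟨g, h, hzg, hzh, hne, k', hk'⟩ := h2 x hx1 ⟨k, hk⟩
        have hg := conj_mem_of_normal (hnorm i.succ) hx hzg
        have hh := conj_mem_of_normal (hnorm i.succ) hx hzh
        exact hne (hqs _ ((H i.succ).mul_mem hg ((H i.succ).inv_mem hh)) ⟨k', hk'⟩)
      · -- a `p'`-factor
        have hps : ∀ x ∈ H i.succ, (∃ k : ℕ, orderOf x = p ^ k) → x = 1 := by
          rintro x hx ⟨k, hk⟩
          have hmem : x ∈ H i.castSucc := by
            refine mem_of_coprime_relIndex (H i.castSucc) (H i.succ) hx (a := p ^ k) ?_ ?_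
            · rw [← hk]; exact pow_orderOf_eq_one x
            · exact Nat.Coprime.pow_right k hm
          exact ihp x hmem ⟨k, hk⟩
        refine ⟨hps, ?_⟩
        rintro x hx ⟨k, hk⟩
        by_contra hx1
        obtain ⟨g, h, hzg, hzh, hne, k', hk'⟩ := h1 x hx1 ⟨k, hk⟩
        have hg := conj_mem_of_normal (hnorm i.succ) hx hzg
        have hh := conj_mem_of_normal (hnorm i.succ) hx hzh
        exact hne (hps _ ((H i.succ).mul_mem hg ((H i.succ).inv_mem hh)) ⟨k', hk'⟩)
  obtain ⟨u, hu⟩ := exists_prime_orderOf_dvd_card' (G := G) p hpG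
  have hu1 : u = 1 := (key (Fin.last n)).1 u (by rw [hlast]; exact Subgroup.mem_top u)
    ⟨1, by rw [hu, pow_one]⟩
  rw [hu1, orderOf_one] at hu
  exact hp.one_lt.ne hu

/-- the hypothesis on centralizers is symmetric in the two primes -/
theorem centralizer_symm (p q : ℕ) [Fact p.Prime] [Fact q.Prime]
    (hC : ∀ g : G, g ≠ 1 → (∃ k : ℕ, orderOf g = p ^ k) →
      ¬ q ∣ Nat.card ↥(Subgroup.centralizer ({g} : Set G))) :
    ∀ g : G, g ≠ 1 → (∃ k : ℕ, orderOf g = q ^ k) →
      ¬ p ∣ Nat.card ↥(Subgroup.centralizer ({g} : Set G)) := by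
  have hp : p.Prime := Fact.out
  have hq : q.Prime := Fact.out
  rintro v hv1 ⟨k, hk⟩ hdvd
  obtain ⟨w, hw⟩ := exists_prime_orderOf_dvd_card'
    (G := ↥(Subgroup.centralizer ({v} : Set G))) p hdvd
  have hwo : orderOf (w : G) = p := by rw [Subgroup.orderOf_coe]; exact hw
  have hw1 : (w : G) ≠ 1 := by
    intro h
    rw [h, orderOf_one] at hwo
    exact hp.one_lt.ne hwo
  apply hC (w : G) hw1 ⟨1, by rw [hwo, pow_one]⟩
  have hmem : v ∈ Subgroup.centralizer ({(w : G)} : Set G) := by
    rw [Subgroup.mem_centralizer_singleton_iff]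
    exact ((Subgroup.mem_centralizer_singleton_iff).mp w.2).symm
  have hk0 : k ≠ 0 := by
    rintro rfl
    rw [pow_zero, orderOf_eq_one_iff] at hk
    exact hv1 hk
  have h2 : orderOf (⟨v, hmem⟩ : ↥(Subgroup.centralizer ({(w : G)} : Set G))) = q ^ k := by
    rw [Subgroup.orderOf_mk]; exact hk
  have h3 : q ^ k ∣ Nat.card ↥(Subgroup.centralizer ({(w : G)} : Set G)) := by
    rw [← h2]; exact orderOf_dvd_natCard _
  exact (dvd_pow_self q hk0).trans h3

end aux

/-- Let p ≠ q be primes dividing the order of the finite group G, suppose the centralizer of every non-identity p-element has order prime to q, and suppose G is p-solvable or q-solvable. Then G has an irreducible character of p-defect zero or an irreducible character of q-defect zero. -/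
theorem result {G : Type*} [Group G] [Finite G] (p q : ℕ) [Fact p.Prime] [Fact q.Prime] (hppq : p ≠ q) (hpG : p ∣ Nat.card G) (hqG : q ∣ Nat.card G) (hC : ∀ g : G, g ≠ 1 → (∃ k : ℕ, orderOf g = p ^ k) → ¬ q ∣ Nat.card ↥(Subgroup.centralizer ({g} : Set G))) (hsolv : Cfsg.IsPSolvable p G ∨ Cfsg.IsPSolvable q G) : (∃ χ : Cfsg.IrrCharacter G, (Cfsg.charDegree (χ : G → ℂ)).factorization p = (Nat.card G).factorization p) ∨ (∃ χ : Cfsg.IrrCharacter G, (Cfsg.charDegree (χ : G → ℂ)).factorization q = (Nat.card G).factorization q) := by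
  rcases Cfsg.Agent.S4742.result p q hppq hpG hqG hC with h | h1
  · exact Or.inl h
  rcases Cfsg.Agent.S4742.result q p hppq.symm hqG hpG (centralizer_symm p q hC) with h | h2
  · exact Or.inr h
  exfalso
  rcases hsolv with hs | hs
  · exact false_of_isPSolvable p q hppq hpG hs h1 h2
  · exact false_of_isPSolvable q p hppq.symm hqG hs h2 h1

end Cfsg.Agent.S4743
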