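-- Statement S4746: odd centralizers of p-elements: p-defect zero or an even degree.
import Cfsg.Statements.S4746
import Cfsg.Agent.S4742
import Cfsg.Agent.Lib.Helper79_RealOdd

set_option autoImplicit false
open Cfsg

namespace Cfsg.Agent.S4746

/-- Let p be an odd prime and G a finite group of even order divisible by p in which the centralizer of every non-identity p-element has odd order. Then G has an irreducible character of p-defect zero or an irreducible character of even degree. -/
theorem result {G : Type*} [Group G] [Finite G] (p : ℕ) [Fact p.Prime] (hp2 : p ≠ 2) (hpG : p ∣ Nat.card G) (h2G : 2 ∣ Nat.card G) (hC : ∀ g : G, g ≠ 1 → (∃ k : ℕ, orderOf g = p ^ k) → Odd (Nat.card ↥(Subgroup.centralizer ({g} : Set G)))) : (∃ χ : Cfsg.IrrCharacter G, (Cfsg.charDegree (χ : G → ℂ)).factorization p = (Nat.card G).factorization p) ∨ ∃ χ : Cfsg.IrrCharacter G, Even (Cfsg.charDegree (χ : G → ℂ)) := by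
  classical
  haveI h2 : Fact (Nat.Prime 2) := ⟨Nat.prime_two⟩
  have hC' : ∀ g : G, g ≠ 1 → (∃ k : ℕ, orderOf g = p ^ k) →
      ¬ 2 ∣ Nat.card ↥(Subgroup.centralizer ({g} : Set G)) := fun g hg hk h2d =>
    (Nat.not_even_iff_odd.mpr (hC g hg hk)) (even_iff_two_dvd.mpr h2d)
  rcases Cfsg.Agent.S4742.result p 2 hp2 hpG h2G hC' with h | h
  · exact Or.inl h
  · right
    obtain ⟨z, hz⟩ := exists_prime_orderOf_dvd_card' (G := G) 2 h2G
    have hz1 : z ≠ 1 := by
      intro h1
      rw [h1, orderOf_one] at hz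
      omega
    obtain ⟨g, t, hzg, hzt, hne, k, hk⟩ := h z hz1 ⟨1, by rw [hz, pow_one]⟩
    have hzz : z * z = 1 := by
      have := pow_orderOf_eq_one z
      rw [hz, sq] at this
      exact this
    have hgg : g * g = 1 := by
      obtain ⟨c, rfl⟩ := isConj_iff.mp hzg
      calc c * z * c⁻¹ * (c * z * c⁻¹) = c * (z * z) * c⁻¹ := by group
        _ = 1 := by rw [hzz]; group
    have htt : t * t = 1 := by
      obtain ⟨c, rfl⟩ := isConj_iff.mp hzt
      calc c * z * c⁻¹ * (c * z * c⁻¹) = c * (z * z) * c⁻¹ := by group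
        _ = 1 := by rw [hzz]; group
    have hginv : g⁻¹ = g := inv_eq_of_mul_eq_one_left hgg
    have htinv : t⁻¹ = t := inv_eq_of_mul_eq_one_left htt
    have hreal : IsConj (g * t⁻¹) (g * t⁻¹)⁻¹ := by
      rw [isConj_iff]
      refine ⟨g, ?_⟩
      rw [mul_inv_rev, inv_inv, htinv, hginv]
      calc g * (g * t) * g = (g * g) * t * g := by group
        _ = t * g := by rw [hgg, one_mul]
    exact Cfsg.Agent.Lib.Helper79_RealOdd.exists_even_degree_of_real (g * t⁻¹) hne hreal
      (hC _ hne ⟨k, hk⟩)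

end Cfsg.Agent.S4746
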