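import Cfsg.Statements.S4751
import Cfsg.Agent.Lib.Helper74_RootE

set_option autoImplicit false
open Cfsg

namespace Cfsg.Agent.S4751

/-- Let χ be a faithful, non-linear irreducible character of the finite group G (χ g = χ 1 only for g = 1, χ 1 ≠ 1) whose value at every element of order divisible by p is a root of unity, and suppose P = O_p(G) ≠ 1. Then either P is an elementary abelian Sylow p-subgroup of G, C_G(P) is the internal direct product of P and Z(G), G acts transitively by conjugation on the non-principal linear characters of P, and χ 1 = |P| − 1; or p = 2 and G is the internal direct product of a subgroup isomorphic to the symmetric group S₄ and the centre Z(G), which has odd order. -/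
theorem result {G : Type*} [Group G] [Finite G] (p : ℕ) [Fact p.Prime] (χ : Cfsg.IrrCharacter G) (hfaith : ∀ g : G, (χ : G → ℂ) g = (χ : G → ℂ) 1 → g = 1) (hnl : (χ : G → ℂ) 1 ≠ 1) (hroot : ∀ g : G, p ∣ orderOf g → ∃ n : ℕ, 0 < n ∧ ((χ : G → ℂ) g) ^ n = 1) (hP : Cfsg.pCore p G ≠ ⊥) : ((Nat.card ↥(Cfsg.pCore p G)).factorization p = (Nat.card G).factorization p ∧ Cfsg.IsElementaryAbelian p (Cfsg.pCore p G) ∧ Subgroup.centralizer ((Cfsg.pCore p G : Subgroup G) : Set G) = Cfsg.pCore p G ⊔ Subgroup.center G ∧ Cfsg.pCore p G ⊓ Subgroup.center G = ⊥ ∧ (∀ lam mu : ↥(Cfsg.pCore p G) → ℂ, Cfsg.IsCharacter ↥(Cfsg.pCore p G) lam → lam 1 = 1 → lam ≠ (fun _ => (1 : ℂ)) → Cfsg.IsCharacter ↥(Cfsg.pCore p G) mu → mu 1 = 1 → mu ≠ (fun _ => (1 : ℂ)) → ∃ g : G, ∀ (x : G) (hx : x ∈ Cfsg.pCore p G) (hgx : g * x * g⁻¹ ∈ Cfsg.pCore p G), mu ⟨x, hx⟩ = lam ⟨g * x * g⁻¹, hgx⟩) ∧ (χ : G → ℂ) 1 = (Nat.card ↥(Cfsg.pCore p G) : ℂ) - 1) ∨ (p = 2 ∧ Odd (Nat.card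 ↥(Subgroup.center G)) ∧ ∃ H : Subgroup G, Nonempty (↥H ≃* Equiv.Perm (Fin 4)) ∧ H ⊓ Subgroup.center G = ⊥ ∧ H ⊔ Subgroup.center G = ⊤) := by
  classical
  have hfinG : Fintype G := Fintype.ofFinite G
  set P := Cfsg.pCore p G with hPdef
  have hPn : P.Normal := Cfsg.Agent.Lib.Helper1_Cores.pCore_normal p
  have hPfin : Fintype P := Fintype.ofFinite P
  have hPp : IsPGroup p P := Cfsg.Agent.Lib.Helper1_Cores.pCore_isPGroup p
  have hroot' : ∀ g : G, p ∣ orderOf g →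
      (χ : G → ℂ) g * (starRingEnd ℂ) ((χ : G → ℂ) g) = 1 := by
    intro g hg
    obtain ⟨n, hn, hpow⟩ := hroot g hg
    have h1 := Complex.norm_eq_one_of_pow_eq_one hpow hn.ne'
    rw [Complex.mul_conj, Complex.normSq_eq_norm_sq, h1]
    simp
  have hnormP : ∀ x : P, x ≠ 1 →
      (χ : G → ℂ) x * (starRingEnd ℂ) ((χ : G → ℂ) x) = 1 := by
    intro x hx
    apply hroot'
    obtain ⟨k, hk⟩ := hPp x
    have hk' : (x : G) ^ p ^ k = 1 := by
      have := congrArg Subtype.val hk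
      simpa using this
    exact Cfsg.Agent.Lib.Helper74_RootB.dvd_orderOf_of_pgroup (fun h => hx (Subtype.ext h)) hk'
  have hD := Cfsg.Agent.Lib.Helper74_RootA.data P hPn hP χ.2 hfaith hnl hnormP
  obtain ⟨hcent, hinf⟩ :=
    Cfsg.Agent.Lib.Helper74_RootB.centralizer_eq P hPn χ.2 hfaith hnl hD p hPp hroot'
  have hexp := Cfsg.Agent.Lib.Helper74_RootE.exp_eq P hPn hP χ.2 hfaith hD p hPp
  -- the common conclusions
  have hEA : Cfsg.IsElementaryAbelian p P := by
    refine ⟨⟨⟨fun a b => hD.comm a b⟩⟩, ?_⟩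
    intro a ha
    have := congrArg Subtype.val (hexp ⟨a, ha⟩)
    simpa using this
  have htrans : ∀ lam mu : ↥P → ℂ, Cfsg.IsCharacter ↥P lam → lam 1 = 1 →
      lam ≠ (fun _ => (1 : ℂ)) → Cfsg.IsCharacter ↥P mu → mu 1 = 1 →
      mu ≠ (fun _ => (1 : ℂ)) → ∃ g : G, ∀ (x : G) (hx : x ∈ P) (hgx : g * x * g⁻¹ ∈ P),
        mu ⟨x, hx⟩ = lam ⟨g * x * g⁻¹, hgx⟩ := by
    intro lam mu hlam hlam1 hlamne hmu hmu1 hmune
    let lamI : Cfsg.IrrCharacter P :=
      ⟨lam, Cfsg.Agent.Lib.Helper39_CharTools.isIrrCharacter_of_isCharacter_of_one_eq_one hlam hlam1⟩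
    let muI : Cfsg.IrrCharacter P :=
      ⟨mu, Cfsg.Agent.Lib.Helper39_CharTools.isIrrCharacter_of_isCharacter_of_one_eq_one hmu hmu1⟩
    have h1 : lamI ≠ Cfsg.Agent.Lib.Helper80_CharBasic.oneIrr P :=
      fun h => hlamne (congrArg Subtype.val h)
    have h2 : muI ≠ Cfsg.Agent.Lib.Helper80_CharBasic.oneIrr P :=
      fun h => hmune (congrArg Subtype.val h)
    obtain ⟨g, hg⟩ := hD.trans lamI muI h1 h2
    refine ⟨g, fun x hx hgx => ?_⟩
    have h3 := congrFun hg ⟨x, hx⟩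
    rw [Cfsg.Agent.Lib.Helper75_Clifford.conjFun_apply] at h3
    exact h3
  have hdeg : (χ : G → ℂ) 1 = (Nat.card ↥P : ℂ) - 1 := by
    rw [← hD.deg]
    ring
  obtain ⟨Q⟩ : Nonempty (Sylow p G) := inferInstance
  have hPQ : P ≤ Q := Cfsg.Agent.Lib.Helper1_Cores.pCore_le_sylow p Q
  by_cases hPeq : P = Q
  · left
    refine ⟨?_, hEA, hcent, hinf, htrans, hdeg⟩
    rw [hPeq, Sylow.card_eq_multiplicity, Nat.Prime.factorization_pow Fact.out]
    simp
  · right
    obtain ⟨hp2, hP4, hQ8⟩ := Cfsg.Agent.Lib.Helper74_RootE.sylow_case P hPn hP χ.2 hfaith hnl hD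
      p hPp hroot' Q hPQ hPeq
    subst hp2
    have hsetup : Cfsg.Agent.Lib.Helper74_RootD.Setup P :=
      { normal := hPn
        card := hP4
        exp := fun x hx => by
          have := congrArg Subtype.val (hexp ⟨x, hx⟩)
          rw [← pow_two]
          simpa using this
        comm := fun a ha b hb => congrArg Subtype.val (hD.comm ⟨a, ha⟩ ⟨b, hb⟩)
        core := fun K hK hKp => Cfsg.Agent.Lib.Helper1_Cores.le_pCore hK hKp
        cent := hcent
        inf := hinf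
        eight := by
          rw [← hQ8]
          exact Subgroup.card_subgroup_dvd_card _ }
    obtain ⟨hodd, H, hH, hinfH, hsupH⟩ := Cfsg.Agent.Lib.Helper74_RootD.main hsetup
    exact ⟨rfl, hodd, H, hH, hinfH, hsupH⟩

end Cfsg.Agent.S4751
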