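-- Statement S4754 (helper79).
import Cfsg.Statements.S4754
import Cfsg.Agent.Lib.Helper79_ClassAlgebra2

set_option autoImplicit false
open Cfsg

namespace Cfsg.Agent.S4754

open Cfsg.Agent.Lib.Helper79_ClassAlgebra2 Cfsg.Agent.Lib.Helper81_CharBasic

/-- For elements x, y of a finite group G, the conjugacy class of x y equals the set of all products of a conjugate of x with a conjugate of y if and only if χ(1) χ(a x a⁻¹ b y b⁻¹) = χ(x) χ(y) for all a, b ∈ G and every irreducible character χ. -/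
theorem result {G : Type*} [Group G] [Finite G] (x y : G) : (∀ z : G, IsConj (x * y) z ↔ ∃ a b : G, z = a * x * a⁻¹ * (b * y * b⁻¹)) ↔ ∀ (a b : G) (χ : Cfsg.IrrCharacter G), (χ : G → ℂ) 1 * (χ : G → ℂ) (a * x * a⁻¹ * (b * y * b⁻¹)) = (χ : G → ℂ) x * (χ : G → ℂ) y := by
  classical
  haveI := Fintype.ofFinite G
  have hcard : (Fintype.card G : ℂ) ≠ 0 := by
    exact_mod_cast Fintype.card_ne_zero
  have hclass : ∀ (χ : IrrCharacter G) (u v : G), IsConj u v → (χ : G → ℂ) u = (χ : G → ℂ) v := by
    intro χ u v huv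
    obtain ⟨c, rfl⟩ := isConj_iff.1 huv
    exact ((IsCharacter.isClassFunction (IsIrrCharacter.isCharacter χ.2)) u c).symm
  constructor
  · intro H a b χ
    have h1 : ∀ a b : G, (χ : G → ℂ) (a * x * a⁻¹ * (b * y * b⁻¹)) = (χ : G → ℂ) (x * y) :=
      fun a b => (hclass χ _ _ ((H _).2 ⟨a, b, rfl⟩)).symm
    have h2 := irr_card_mul_mul χ.2 x y
    have h3 : ∀ g : G, (χ : G → ℂ) (x * (g * y * g⁻¹)) = (χ : G → ℂ) (x * y) := by
      intro g
      have := h1 1 g
      simpa using this
    simp only [h3, Finset.sum_const, Finset.card_univ, nsmul_eq_mul] at h2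
    rw [h1 a b]
    have : (Fintype.card G : ℂ) * ((χ : G → ℂ) x * (χ : G → ℂ) y) =
        (Fintype.card G : ℂ) * ((χ : G → ℂ) 1 * (χ : G → ℂ) (x * y)) := by
      linear_combination h2
    exact (mul_left_cancel₀ hcard this).symm
  · intro H z
    constructor
    · intro hz
      obtain ⟨c, rfl⟩ := isConj_iff.1 hz
      exact ⟨c, c, by group⟩
    · rintro ⟨a, b, rfl⟩
      apply isConj_of_forall_irr_eq
      intro χ
      have h1 := H a b χ
      have h2 := H 1 1 χ
      simp only [one_mul, inv_one, mul_one] at h2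
      have hne := irr_one_ne_zero χ.2
      exact mul_left_cancel₀ hne (h2.trans h1.symm)

end Cfsg.Agent.S4754
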