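-- Statement S4755 (helper79).
import Cfsg.Statements.S4755
import Cfsg.Agent.Lib.Helper79_ClassAlgebra2
import Cfsg.Agent.Lib.Helper79_Linear
import Cfsg.Agent.Lib.Helper79_FrobSchur

set_option autoImplicit false
open Cfsg

namespace Cfsg.Agent.S4755

open scoped commutatorElement
open Cfsg.Agent.Lib.Helper79_ClassAlgebra2 Cfsg.Agent.Lib.Helper81_CharBasic
  Cfsg.Agent.Lib.Helper79_Linear Cfsg.Agent.Lib.Helper81_CharOrth

/-- `χ(g⁻¹) = 0` when `χ(g) = 0`. -/
theorem irr_inv_eq_zero {G : Type*} [Group G] [Fintype G] (χ : IrrCharacter G) {g : G}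
    (h : (χ : G → ℂ) g = 0) : (χ : G → ℂ) g⁻¹ = 0 := by
  obtain ⟨n, ρ, hρ, hχ⟩ := χ.2
  rw [← hχ] at h ⊢
  rw [Cfsg.Agent.Lib.Helper79_FrobSchur.char_inv, h, star_zero]

/-- Let x, y be non-identity elements of the finite group G such that χ(x' y') = χ(x') χ(y') for all conjugates x' of x, y' of y and every irreducible character χ. Then the conjugacy class of x y is the set of all products of a conjugate of x with a conjugate of y; every irreducible character of degree greater than 1 vanishes at x y; and the conjugacy class of x y is the coset of the commutator subgroup containing x y. -/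
theorem result {G : Type*} [Group G] [Finite G] (x y : G) (hx : x ≠ 1) (hy : y ≠ 1) (h : ∀ (a b : G) (χ : Cfsg.IrrCharacter G), (χ : G → ℂ) (a * x * a⁻¹ * (b * y * b⁻¹)) = (χ : G → ℂ) (a * x * a⁻¹) * (χ : G → ℂ) (b * y * b⁻¹)) : (∀ z : G, IsConj (x * y) z ↔ ∃ a b : G, z = a * x * a⁻¹ * (b * y * b⁻¹)) ∧ (∀ χ : Cfsg.IrrCharacter G, (χ : G → ℂ) 1 ≠ 1 → (χ : G → ℂ) (x * y) = 0) ∧ (∀ z : G, IsConj (x * y) z ↔ (x * y)⁻¹ * z ∈ commutator G) := by
  classical
  haveI := Fintype.ofFinite G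
  haveI := Fintype.ofFinite (IrrCharacter G)
  have hcard : (Fintype.card G : ℂ) ≠ 0 := by
    exact_mod_cast Fintype.card_ne_zero
  have hcf : ∀ (χ : IrrCharacter G) (u c : G), (χ : G → ℂ) (c * u * c⁻¹) = (χ : G → ℂ) u :=
    fun χ u c => (IsCharacter.isClassFunction (IsIrrCharacter.isCharacter χ.2)) u c
  -- value at a product of conjugates
  have hprod : ∀ (a b : G) (χ : IrrCharacter G),
      (χ : G → ℂ) (a * x * a⁻¹ * (b * y * b⁻¹)) = (χ : G → ℂ) x * (χ : G → ℂ) y := by
    intro a b χ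
    rw [h a b χ, hcf, hcf]
  have hxy : ∀ χ : IrrCharacter G, (χ : G → ℂ) (x * y) = (χ : G → ℂ) x * (χ : G → ℂ) y := by
    intro χ
    have := hprod 1 1 χ
    simpa using this
  -- part 2
  have hvanish : ∀ χ : IrrCharacter G, (χ : G → ℂ) 1 ≠ 1 → (χ : G → ℂ) (x * y) = 0 := by
    intro χ hχ1
    have h2 := irr_card_mul_mul χ.2 x y
    have h3 : ∀ g : G, (χ : G → ℂ) (x * (g * y * g⁻¹)) = (χ : G → ℂ) x * (χ : G → ℂ) y := by
      intro g
      have := hprod 1 g χ
      simpa using this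
    simp only [h3, Finset.sum_const, Finset.card_univ, nsmul_eq_mul] at h2
    have h4 : (Fintype.card G : ℂ) * ((χ : G → ℂ) x * (χ : G → ℂ) y) * (1 - (χ : G → ℂ) 1) = 0 := by
      linear_combination h2
    rw [hxy]
    rcases mul_eq_zero.1 h4 with h5 | h5
    · rcases mul_eq_zero.1 h5 with h6 | h6
      · exact absurd h6 hcard
      · exact h6
    · exact absurd (sub_eq_zero.1 h5).symm hχ1
  refine ⟨fun z => ⟨?_, ?_⟩, hvanish, fun z => ⟨?_, ?_⟩⟩
  · intro hz
    obtain ⟨c, rfl⟩ := isConj_iff.1 hz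
    exact ⟨c, c, by group⟩
  · rintro ⟨a, b, rfl⟩
    apply isConj_of_forall_irr_eq
    intro χ
    rw [hxy, hprod]
  · intro hz
    obtain ⟨c, rfl⟩ := isConj_iff.1 hz
    have : (x * y)⁻¹ * (c * (x * y) * c⁻¹) = ⁅(x * y)⁻¹, c⁆ := by
      rw [commutatorElement_def]; group
    rw [this]
    exact Subgroup.commutator_mem_commutator (Subgroup.mem_top _) (Subgroup.mem_top _)
  · intro hz
    obtain ⟨N, hN, hNz⟩ := exists_classSize_mul_sum (x * y)
    by_contra hnc
    have h0 := (hNz z).2 hnc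
    have hNne : (N : ℂ) ≠ 0 := by exact_mod_cast hN.ne'
    have hsum0 : ∑ χ : IrrCharacter G, (χ : G → ℂ) (x * y)⁻¹ * (χ : G → ℂ) z = 0 := by
      rcases mul_eq_zero.1 h0 with h1 | h1
      · exact absurd h1 hNne
      · exact h1
    -- each term is 1 (linear) or 0 (nonlinear)
    have hterm : ∀ χ : IrrCharacter G, (χ : G → ℂ) (x * y)⁻¹ * (χ : G → ℂ) z =
        if (χ : G → ℂ) 1 = 1 then 1 else 0 := by
      intro χ
      split_ifs with h1
      · have hm := linear_mul' ⟨χ, h1⟩ (x * y)⁻¹ z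
        have hk := linear_commutator ⟨χ, h1⟩ hz
        simp only at hm hk
        rw [← hm, hk]
      · rw [irr_inv_eq_zero χ (hvanish χ h1), zero_mul]
    simp only [hterm] at hsum0
    rw [Finset.sum_ite, Finset.sum_const_zero, add_zero, Finset.sum_const, nsmul_eq_mul,
      mul_one] at hsum0
    have hpos : 0 < (Finset.univ.filter (fun χ : IrrCharacter G => (χ : G → ℂ) 1 = 1)).card := by
      apply Finset.card_pos.2
      let f1 : G →* ℂˣ := 1
      refine ⟨⟨fun g => ((f1 g : ℂˣ) : ℂ), isIrrCharacter_of_hom f1⟩, ?_⟩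
      simp [f1]
    have : ((Finset.univ.filter (fun χ : IrrCharacter G => (χ : G → ℂ) 1 = 1)).card : ℂ) ≠ 0 := by
      exact_mod_cast hpos.ne'
    exact this hsum0

end Cfsg.Agent.S4755
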