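import Cfsg.Statements.S4756
import Cfsg.Agent.Lib.Helper80_CharBasic
import Cfsg.Agent.Lib.Helper79_Linear
import Cfsg.Agent.Lib.Helper76_GalConj
import Cfsg.Agent.Lib.Helper80_S4756Defs
import Cfsg.Agent.Lib.Helper5_S4756_VAN
import Cfsg.Agent.Lib.Helper89_S4756_PRIME1
import Cfsg.Agent.Lib.Helper2_S4756_PRIME2
import Cfsg.Agent.Lib.Helper89_S4756_CENTVAN
import Cfsg.Agent.Lib.Helper60_S4756_DER
import Cfsg.Agent.Lib.Helper76_S4756_STRUCT1
import Cfsg.Agent.Lib.Helper42_S4756_S2A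
import Cfsg.Agent.Lib.Helper42_S4756_S2C
import Cfsg.Agent.Lib.Helper82_S4756_STRUCTF
import Cfsg.Agent.Lib.Helper2_S4756_CFROB
import Cfsg.Agent.Lib.Helper89_S4756_PNOT

set_option autoImplicit false
open Cfsg

namespace Cfsg.Agent.S4756

open Cfsg.Agent.Lib.Helper80_S4756Defs Cfsg.Agent.Lib.Helper5_S4756_VAN
  Cfsg.Agent.Lib.Helper89_S4756_PRIME1 Cfsg.Agent.Lib.Helper2_S4756_PRIME2
  Cfsg.Agent.Lib.Helper89_S4756_CENTVAN Cfsg.Agent.Lib.Helper60_S4756_DER
  Cfsg.Agent.Lib.Helper76_S4756_STRUCT1 Cfsg.Agent.Lib.Helper42_S4756_S2A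
  Cfsg.Agent.Lib.Helper42_S4756_S2C Cfsg.Agent.Lib.Helper82_S4756_STRUCTF
  Cfsg.Agent.Lib.Helper2_S4756_CFROB Cfsg.Agent.Lib.Helper89_S4756_PNOT

/-- a common prime for all nonlinear characters -/
theorem prime {G : Type*} [Group G] [Finite G] (hnab : ¬ ∀ a b : G, a * b = b * a)
    (hvan : ∀ χ : Cfsg.IrrCharacter G, (χ : G → ℂ) 1 ≠ 1 → ∀ x y : G, x ≠ 1 → y ≠ 1 →
      CoprimePP x y → (χ : G → ℂ) x * (χ : G → ℂ) y = 0) :
    ∃ p : ℕ, p.Prime ∧ ∀ χ : Cfsg.IrrCharacter G, (χ : G → ℂ) 1 ≠ 1 → VanAway p (χ : G → ℂ) := by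
  obtain ⟨χ₀, hχ₀⟩ := Cfsg.Agent.Lib.Helper76_GalConj.exists_nonlinear hnab
  have hχ₀' : (χ₀ : G → ℂ) 1 ≠ 1 := by
    rw [Cfsg.Agent.Lib.Helper76_GalConj.irr_one_eq_charDegree]
    intro h
    apply hχ₀
    exact_mod_cast h
  obtain ⟨p, hp, hvp⟩ := prime1 χ₀ (hvan χ₀ hχ₀')
  refine ⟨p, hp, fun ψ hψ => ?_⟩
  obtain ⟨r, hr, hvr⟩ := prime1 ψ (hvan ψ hψ)
  by_cases hpr : p = r
  · rw [hpr]; exact hvr
  · exact (prime2 χ₀ ψ hχ₀' hψ p r hp hr hpr hvp hvr).elim

/-- the structure, from the centralizer condition -/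
theorem struct {G : Type*} [Group G] [Finite G] (p : ℕ) [Fact p.Prime]
    (hnp : ¬ IsPGroup p G) (hnab : ¬ ∀ a b : G, a * b = b * a)
    (hD : IsPGroup p (commutator G)) (hc : CentCond G p) :
    ∃ (P : Sylow p G) (A : Subgroup G), StructAt p P A := by
  obtain ⟨P, H, hPn, hDP, hPH, hHab, hHcop⟩ := struct1 p hD
  have hH1 : H ≠ ⊥ := by
    intro hH
    apply hnp
    have htop : (P : Subgroup G) = ⊤ := by
      have := hPH.sup_eq_top
      rwa [hH, sup_bot_eq] at this
    have hP := P.isPGroup'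
    rw [htop] at hP
    exact hP.of_equiv Subgroup.topEquiv
  have hD1 : commutator G ≠ ⊥ := by
    intro h0
    apply hnab
    intro a b
    rw [commutator_def, Subgroup.commutator_eq_bot_iff_le_centralizer] at h0
    have := h0 (Subgroup.mem_top b)
    rw [Subgroup.mem_centralizer_iff] at this
    exact this a (Subgroup.mem_top a)
  have h2a := fun x hxH q hq hxo => s2a p hc P H hPn hDP hPH hHab hHcop x hxH q hq hxo
  have h2c : ∀ x ∈ H, ∀ q : ℕ, q.Prime → orderOf x = q →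
      (P : Subgroup G) ⊓ Subgroup.centralizer ({x} : Set G) =
        (P : Subgroup G) ⊓ Subgroup.centralizer (H : Set G) :=
    fun x hxH q hq hxo => s2c (P : Subgroup G) H hPn hHab x hxH (h2a x hxH q hq hxo).2.1
  exact ⟨P, H, structF p hD1 P H hPn hDP hPH hHab hHcop hH1 h2a h2c⟩

/-- For a finite group G the following are equivalent. (1) χ(x y) = χ(x) χ(y) for every irreducible character χ and all non-identity elements x, y of prime power orders for two different primes. (2) G is a p-group for some prime p, or G is abelian, or for some prime p: G = A P with P a normal Sylow p-subgroup and A a nontrivial cyclic subgroup of order prime to p such that, with C = C_P(A) and D = [A, P], one has P = C D, C abelian, D normal in G, C ∩ D = 1, and A acts fixed-point-freely on D (no non-identity element of A centralizes a non-identity element of D). -/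
theorem result {G : Type*} [Group G] [Finite G] : (∀ (x y : G) (χ : Cfsg.IrrCharacter G), x ≠ 1 → y ≠ 1 → (∃ p q a b : ℕ, p.Prime ∧ q.Prime ∧ p ≠ q ∧ orderOf x = p ^ a ∧ orderOf y = q ^ b) → (χ : G → ℂ) (x * y) = (χ : G → ℂ) x * (χ : G → ℂ) y) ↔ ((∃ p : ℕ, p.Prime ∧ IsPGroup p G) ∨ IsMulCommutative G ∨ ∃ (p : ℕ) (_ : Fact p.Prime) (P : Sylow p G) (A : Subgroup G), (P : Subgroup G).Normal ∧ IsCyclic ↥A ∧ A ≠ ⊥ ∧ (Nat.card ↥A).Coprime p ∧ A ⊔ (P : Subgroup G) = ⊤ ∧ IsMulCommutative ↥((P : Subgroup G) ⊓ Subgroup.centralizer (A : Set G)) ∧ (⁅A, (P : Subgroup G)⁆).Normal ∧ ((P : Subgroup G) ⊓ Subgroup.centralizer (A : Set G)) ⊔ ⁅A, (P : Subgroup G)⁆ = (P : Subgroup G) ∧ ((P : Subgroup G) ⊓ Subgroup.centralizer (A : Set G)) ⊓ ⁅A, (P : Subgroup G)⁆ = ⊥ ∧ ∀ a ∈ A, a ≠ 1 → ∀ d ∈ ⁅A, (P : Subgroup G)⁆, a * d = d * a → d = 1) := by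
  constructor
  · intro hM
    have hM' : Mult G := hM
    by_cases h1 : ∃ p : ℕ, p.Prime ∧ IsPGroup p G
    · exact Or.inl h1
    by_cases h2 : IsMulCommutative G
    · exact Or.inr (Or.inl h2)
    refine Or.inr (Or.inr ?_)
    have hnab : ¬ ∀ a b : G, a * b = b * a := by
      intro h
      exact h2 ⟨⟨h⟩⟩
    have hvan : ∀ χ : Cfsg.IrrCharacter G, (χ : G → ℂ) 1 ≠ 1 → ∀ x y : G, x ≠ 1 → y ≠ 1 →
        CoprimePP x y → (χ : G → ℂ) x * (χ : G → ℂ) y = 0 :=
      fun χ hχ x y hx hy hxy => van hM' χ hχ x y hx hy hxy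
    obtain ⟨p, hp, hva⟩ := prime hnab hvan
    have : Fact p.Prime := ⟨hp⟩
    have hc : CentCond G p := fun x q a hx hq hqp ho =>
      cent x (fun χ hχ => hva χ hχ x q a hx hq hqp ho)
    have hD := der p hc
    obtain ⟨P, A, hS⟩ := struct p (fun h => h1 ⟨p, hp, h⟩) hnab hD hc
    exact ⟨p, ⟨hp⟩, P, A, hS⟩
  · rintro (⟨p, hp, hG⟩ | hab | ⟨p, hp, P, A, hS⟩) x y χ hx hy hxy
    · -- `p`-group: no such pair
      exfalso
      obtain ⟨p', q, a, b, hp', hq, hpq, hxo, hyo⟩ := hxy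
      haveI : Fact p.Prime := ⟨hp⟩
      obtain ⟨k, hk⟩ := (IsPGroup.iff_orderOf (p := p) (G := G)).mp hG x
      obtain ⟨l, hl⟩ := (IsPGroup.iff_orderOf (p := p) (G := G)).mp hG y
      have ha0 : a ≠ 0 := by
        rintro rfl
        rw [pow_zero, orderOf_eq_one_iff] at hxo
        exact hx hxo
      have hb0 : b ≠ 0 := by
        rintro rfl
        rw [pow_zero, orderOf_eq_one_iff] at hyo
        exact hy hyo
      have e1 : p' = p := by
        have hd : p' ∣ p ^ k := by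
          rw [← hk, hxo]; exact dvd_pow_self p' ha0
        exact (Nat.prime_dvd_prime_iff_eq hp' hp).mp (hp'.dvd_of_dvd_pow hd)
      have e2 : q = p := by
        have hd : q ∣ p ^ l := by
          rw [← hl, hyo]; exact dvd_pow_self q hb0
        exact (Nat.prime_dvd_prime_iff_eq hq hp).mp (hq.dvd_of_dvd_pow hd)
      exact hpq (e1.trans e2.symm)
    · -- abelian: every irreducible character is linear
      have hlin : (χ : G → ℂ) 1 = 1 := by
        have hle : commutator G ≤ Cfsg.Agent.Lib.Helper76_GalConj.kerC χ := by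
          have h0 : commutator G = ⊥ := by
            rw [commutator_def, Subgroup.commutator_eq_bot_iff_le_centralizer]
            intro a _
            rw [Subgroup.mem_centralizer_iff]
            intro b _
            exact hab.is_comm.comm b a
          rw [h0]; exact bot_le
        have := Cfsg.Agent.Lib.Helper76_GalConj.charDegree_eq_one_of_commutator_le χ hle
        rw [Cfsg.Agent.Lib.Helper76_GalConj.irr_one_eq_charDegree, this]
        simp
      exact Cfsg.Agent.Lib.Helper79_Linear.linear_mul' ⟨χ, hlin⟩ x y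
    · -- the Frobenius-like structure
      have := hp
      have hS' : StructAt p P A := hS
      by_cases hlin : (χ : G → ℂ) 1 = 1
      · exact Cfsg.Agent.Lib.Helper79_Linear.linear_mul' ⟨χ, hlin⟩ x y
      · have hvan : ∀ g : G, g ∉ (P : Subgroup G) → (χ : G → ℂ) g = 0 :=
          fun g hg => vanish g (cfrob p P A hS' g hg) χ hlin
        obtain ⟨hor, hxyP⟩ := pnot p P hS'.1 x y hx hy hxy
        rw [hvan _ hxyP]
        rcases hor with h | h
        · rw [hvan _ h, zero_mul]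
        · rw [hvan _ h, mul_zero]

end Cfsg.Agent.S4756
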