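import Cfsg.Statements.S4757
import Cfsg.Agent.Lib.Helper79_Linear
import Cfsg.Agent.Lib.Helper80_CharComplete
import Cfsg.Agent.Lib.Helper1_Cores

set_option autoImplicit false
open Cfsg

namespace Cfsg.Agent.S4757

open Cfsg.Agent.Lib.Helper79_Linear Cfsg.Agent.Lib.Helper80_CharBasic
  Cfsg.Agent.Lib.Helper80_CharComplete Cfsg.Agent.Lib.Helper1_Cores

open scoped ComplexConjugate

universe v

variable {G : Type v} [Group G]

/-- The type of irreducible characters of degree one. -/
abbrev Lin (G : Type v) [Group G] : Type v := {χ : IrrCharacter G // (χ : G → ℂ) 1 = 1}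

/-- The principal character as a linear character. -/
noncomputable def oneLin (G : Type v) [Group G] : Lin G := ⟨oneIrr G, rfl⟩

theorem eq_oneLin_iff (x : Lin G) : x = oneLin G ↔ ((x.1 : IrrCharacter G) : G → ℂ) = fun _ => 1 := by
  constructor
  · intro h; rw [h]; rfl
  · intro h; apply Subtype.ext; apply Subtype.ext; exact h

theorem eq_oneIrr_iff (χ : IrrCharacter G) : χ = oneIrr G ↔ (χ : G → ℂ) = fun _ => 1 := by
  constructor
  · intro h; rw [h]; rfl
  · intro h; apply Subtype.ext; exact h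

/-- `G` is not perfect iff it has a non-principal linear character. -/
theorem commutator_ne_top_iff [Finite G] :
    commutator G ≠ ⊤ ↔ ∃ x : Lin G, x ≠ oneLin G := by
  rw [Ne, ← Subgroup.index_eq_one, ← card_linear]
  have : Finite (Lin G) := Subtype.finite
  have : Nonempty (Lin G) := ⟨oneLin G⟩
  constructor
  · intro h
    have h2 : 1 < Nat.card (Lin G) := by
      have h0 : 0 < Nat.card (Lin G) := Nat.card_pos
      have h1 : Nat.card (Lin G) ≠ 1 := h
      omega
    rw [Finite.one_lt_card_iff_nontrivial] at h2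
    exact exists_ne (oneLin G)
  · rintro ⟨x, hx⟩ h
    rw [Nat.card_eq_one_iff_unique] at h
    obtain ⟨hs, _⟩ := h
    exact hx (hs.elim x (oneLin G))

/-- The product of two linear characters. -/
noncomputable def mulLin (x y : Lin G) : Lin G := linearEquiv.symm (homOfLinear x * homOfLinear y)

theorem mulLin_apply (x y : Lin G) (g : G) :
    ((mulLin x y).1 : G → ℂ) g = (x.1 : G → ℂ) g * (y.1 : G → ℂ) g := by
  simp [mulLin, linearEquiv]

theorem lin_ne_zero [Finite G] (x : Lin G) (g : G) : (x.1 : G → ℂ) g ≠ 0 := by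
  intro h
  have := linear_norm x g
  rw [h] at this
  simp at this


section Main

/-- The real part of the summand in the column orthogonality relation for `u` and `1`. -/
noncomputable def rr (u : G) (χ : IrrCharacter G) : ℝ :=
  ((χ : G → ℂ) u * conj ((χ : G → ℂ) 1)).re

theorem sum_rr [Finite G] [Fintype (IrrCharacter G)] {u : G} (hu : u ≠ 1) :
    ∑ χ : IrrCharacter G, rr u χ = 0 := by
  classical
  haveI := Fintype.ofFinite G
  have h := second_orthogonality_sum u (1 : G)
  rw [if_neg (by rw [isConj_one_left]; exact hu)] at h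
  have h2 := congrArg Complex.re h
  rw [Complex.re_sum] at h2
  simpa [rr] using h2

theorem rr_one (u : G) : rr u (oneIrr G) = 1 := by simp [rr, oneIrr]

theorem rr_eq (u : G) (χ : IrrCharacter G) (n : ℕ) (hn : (χ : G → ℂ) 1 = n) :
    rr u χ = ((χ : G → ℂ) u).re * n := by
  simp [rr, hn]

theorem false_of_nonneg [Finite G] [Fintype (IrrCharacter G)] {u : G} (hu : u ≠ 1)
    (h : ∀ χ : IrrCharacter G, χ ≠ oneIrr G → 0 ≤ rr u χ) : False := by
  classical
  have h1 := sum_rr (G := G) hu
  rw [← Finset.add_sum_erase _ _ (Finset.mem_univ (oneIrr G)), rr_one] at h1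
  have h2 : 0 ≤ ∑ χ ∈ Finset.univ.erase (oneIrr G), rr u χ :=
    Finset.sum_nonneg (fun χ hχ => h χ (Finset.ne_of_mem_erase hχ))
  linarith

variable [Finite G] {u : G} (hu : u ≠ 1) {c : ℂ}
  (hyp : ∀ χ : IrrCharacter G, (χ : G → ℂ) ≠ (fun _ => (1 : ℂ)) →
    ((χ : G → ℂ) 1 - (χ : G → ℂ) u = c ∨ (χ : G → ℂ) u = 0))

include hu hyp in
theorem c_ne_zero : c ≠ 0 := by
  classical
  haveI := Fintype.ofFinite (IrrCharacter G)
  intro hc
  apply false_of_nonneg (G := G) hu
  intro χ hχ
  obtain ⟨n, hn, h1⟩ := irr_apply_one χ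
  rw [rr_eq u χ n h1]
  rcases hyp χ (by rwa [Ne, ← eq_oneIrr_iff]) with h | h
  · have h2 : (χ : G → ℂ) u = n := by
      rw [hc, h1] at h; linear_combination -h
    rw [h2]; simp only [Complex.natCast_re]; positivity
  · rw [h]; simp

include hyp in
theorem lin_val (x : Lin G) (hx : x ≠ oneLin G) : (x.1 : G → ℂ) u = 1 - c := by
  rcases hyp x.1 (by rwa [Ne, ← eq_oneLin_iff]) with h | h
  · rw [x.2] at h; linear_combination -h
  · exact absurd h (lin_ne_zero x u)

include hu hyp in
theorem mulLin_self (x : Lin G) (hx : x ≠ oneLin G) : mulLin x x = oneLin G := by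
  by_contra h
  have h1 := lin_val hyp x hx
  have h2 := lin_val hyp _ h
  rw [mulLin_apply, h1] at h2
  have h3 : (1 - c) * c = 0 := by linear_combination -h2
  rcases mul_eq_zero.1 h3 with h4 | h4
  · exact lin_ne_zero x u (by rw [h1, h4])
  · exact c_ne_zero hu hyp h4

include hu hyp in
theorem lin_val_neg_one (x : Lin G) (hx : x ≠ oneLin G) : (x.1 : G → ℂ) u = -1 ∧ c = 2 := by
  have h1 := lin_val hyp x hx
  have h2 := mulLin_self hu hyp x hx
  have h3 : ((mulLin x x).1 : G → ℂ) u = 1 := by rw [h2]; rfl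
  rw [mulLin_apply, h1] at h3
  have h4 : c * (c - 2) = 0 := by linear_combination h3
  rcases mul_eq_zero.1 h4 with h5 | h5
  · exact absurd h5 (c_ne_zero hu hyp)
  · have hc : c = 2 := by linear_combination h5
    refine ⟨?_, hc⟩
    rw [h1, hc]; norm_num

include hu hyp in
theorem lin_unique (x y : Lin G) (hx : x ≠ oneLin G) (hy : y ≠ oneLin G) : x = y := by
  have hxy : mulLin x y = oneLin G := by
    by_contra h
    have h1 := (lin_val_neg_one hu hyp _ h).1
    rw [mulLin_apply, (lin_val_neg_one hu hyp x hx).1, (lin_val_neg_one hu hyp y hy).1] at h1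
    norm_num at h1
  have hxx := mulLin_self hu hyp x hx
  apply Subtype.ext; apply Subtype.ext; funext g
  have h1 : ((mulLin x y).1 : G → ℂ) g = 1 := by rw [hxy]; rfl
  have h2 : ((mulLin x x).1 : G → ℂ) g = 1 := by rw [hxx]; rfl
  rw [mulLin_apply] at h1 h2
  have h3 := lin_ne_zero x g
  have h5 : (x.1 : G → ℂ) g * ((x.1 : G → ℂ) g - (y.1 : G → ℂ) g) = 0 := by
    linear_combination h2 - h1
  rcases mul_eq_zero.1 h5 with h4 | h4
  · exact absurd h4 h3
  · exact sub_eq_zero.1 h4

include hu hyp in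
theorem exists_lin_of_c_two (hc : c = 2) : ∃ x : Lin G, x ≠ oneLin G := by
  classical
  haveI := Fintype.ofFinite (IrrCharacter G)
  by_contra hno
  push Not at hno
  apply false_of_nonneg (G := G) hu
  intro χ hχ
  obtain ⟨n, hn, h1⟩ := irr_apply_one χ
  rw [rr_eq u χ n h1]
  have hn2 : 2 ≤ n := by
    by_contra hlt
    have hn1 : n = 1 := by omega
    have h3 := hno ⟨χ, by rw [h1, hn1]; simp⟩
    apply hχ
    exact congrArg Subtype.val h3
  rcases hyp χ (by rwa [Ne, ← eq_oneIrr_iff]) with h | h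
  · have h2 : (χ : G → ℂ) u = ((n - 2 : ℕ) : ℂ) := by
      rw [hc, h1] at h; push_cast [hn2]; linear_combination -h
    rw [h2]; simp only [Complex.natCast_re]; positivity
  · rw [h]; simp

include hu hyp in
theorem val_eq_zero (x : Lin G) (hx : x ≠ oneLin G) (χ : IrrCharacter G) (h1 : χ ≠ oneIrr G)
    (h2 : χ ≠ x.1) : (χ : G → ℂ) u = 0 := by
  classical
  haveI := Fintype.ofFinite (IrrCharacter G)
  obtain ⟨hxu, hc⟩ := lin_val_neg_one hu hyp x hx
  have hne : oneIrr G ≠ x.1 := fun h => hx (Subtype.ext h.symm)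
  have hnonneg : ∀ ψ : IrrCharacter G, ψ ≠ oneIrr G → ψ ≠ x.1 →
      0 ≤ rr u ψ ∧ (rr u ψ = 0 → (ψ : G → ℂ) u = 0) := by
    intro ψ hψ1 hψ2
    obtain ⟨n, hn, hn1⟩ := irr_apply_one ψ
    rw [rr_eq u ψ n hn1]
    have hn2 : 2 ≤ n := by
      by_contra hlt
      have hn1' : n = 1 := by omega
      have hψlin : (ψ : G → ℂ) 1 = 1 := by rw [hn1, hn1']; simp
      have h3 : (⟨ψ, hψlin⟩ : Lin G) ≠ oneLin G := fun h => hψ1 (congrArg Subtype.val h)
      have h4 := lin_unique hu hyp ⟨ψ, hψlin⟩ x h3 hx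
      exact hψ2 (congrArg Subtype.val h4)
    rcases hyp ψ (by rwa [Ne, ← eq_oneIrr_iff]) with h | h
    · have hval : (ψ : G → ℂ) u = ((n - 2 : ℕ) : ℂ) := by
        rw [hc, hn1] at h; push_cast [hn2]; linear_combination -h
      rw [hval]
      simp only [Complex.natCast_re]
      refine ⟨by positivity, fun h0 => ?_⟩
      have h5 : ((n - 2 : ℕ) : ℝ) = 0 := by
        rcases mul_eq_zero.1 h0 with h | h
        · exact h
        · exfalso
          have h6 : (n : ℝ) ≠ 0 := by positivity
          exact h6 h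
      have h7 : (n - 2 : ℕ) = 0 := by exact_mod_cast h5
      rw [h7]; simp
    · rw [h]; simp
  have hsum := sum_rr (G := G) hu
  rw [← Finset.sum_add_sum_compl ({oneIrr G, x.1} : Finset (IrrCharacter G)),
    Finset.sum_pair hne, rr_one] at hsum
  have hrx : rr u x.1 = -1 := by
    rw [rr_eq u x.1 1 (by rw [x.2]; simp), hxu]; simp
  rw [hrx] at hsum
  have hrest : ∑ ψ ∈ ({oneIrr G, x.1} : Finset (IrrCharacter G))ᶜ, rr u ψ = 0 := by linarith
  rw [Finset.sum_eq_zero_iff_of_nonneg] at hrest
  · have hmem : χ ∈ ({oneIrr G, x.1} : Finset (IrrCharacter G))ᶜ := by simp [h1, h2]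
    exact (hnonneg χ h1 h2).2 (hrest χ hmem)
  · intro ψ hψ
    simp only [Finset.mem_compl, Finset.mem_insert, Finset.mem_singleton, not_or] at hψ
    exact (hnonneg ψ hψ.1 hψ.2).1

include hu hyp in
theorem card_centralizer (x : Lin G) (hx : x ≠ oneLin G) :
    Nat.card (Subgroup.centralizer ({u} : Set G)) = 2 := by
  classical
  haveI := Fintype.ofFinite (IrrCharacter G)
  haveI := Fintype.ofFinite G
  have h := second_orthogonality_sum u u
  rw [if_pos (IsConj.refl u)] at h
  have hne : oneIrr G ≠ x.1 := fun h => hx (Subtype.ext h.symm)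
  rw [Fintype.sum_eq_add (oneIrr G) x.1 hne] at h
  · rw [(lin_val_neg_one hu hyp x hx).1] at h
    have h1 : ((oneIrr G : IrrCharacter G) : G → ℂ) u = 1 := rfl
    rw [h1] at h
    have h2 : ((2 : ℕ) : ℂ) = (Nat.card (Subgroup.centralizer ({u} : Set G)) : ℂ) := by
      rw [← h]; simp; norm_num
    exact_mod_cast h2.symm
  · intro χ hχ
    rw [val_eq_zero hu hyp x hx χ hχ.1 hχ.2]; simp

include hu hyp in
theorem card_lin (x : Lin G) (hx : x ≠ oneLin G) : Nat.card (Lin G) = 2 := by
  rw [Nat.card_eq_two_iff]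
  refine ⟨x, oneLin G, hx, ?_⟩
  ext y
  simp only [Set.mem_insert_iff, Set.mem_singleton_iff, Set.mem_univ, iff_true]
  by_cases hy : y = oneLin G
  · right; exact hy
  · left; exact lin_unique hu hyp y x hy hx

end Main


section GroupPart

theorem mem_zpowers_of_orderOf_two {u z : G} (ho : orderOf u = 2) (hz : z ∈ Subgroup.zpowers u) :
    z = 1 ∨ z = u := by
  obtain ⟨k, rfl⟩ := Subgroup.mem_zpowers_iff.1 hz
  rw [← zpow_mod_orderOf, ho]
  rcases Int.emod_two_eq_zero_or_one k with h | h
  · left; rw [show k % ((2 : ℕ) : ℤ) = 0 from h]; simp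
  · right; rw [show k % ((2 : ℕ) : ℤ) = 1 from h]; simp

theorem group_part [Finite G] {u : G} (hu : u ≠ 1)
    (hC : Nat.card (Subgroup.centralizer ({u} : Set G)) = 2)
    (hidx : (commutator G).index = 2) (hunot : u ∉ commutator G) :
    orderOf u = 2 ∧ Subgroup.zpowers u ⊔ oddCore G = ⊤ ∧
      Subgroup.centralizer ({u} : Set G) = Subgroup.zpowers u := by
  have hle : Subgroup.zpowers u ≤ Subgroup.centralizer ({u} : Set G) := by
    rw [Subgroup.zpowers_le, Subgroup.mem_centralizer_singleton_iff]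
  have hdvd : orderOf u ∣ 2 := by
    rw [← hC, ← Nat.card_zpowers]
    exact Subgroup.card_dvd_of_le hle
  have ho : orderOf u = 2 := by
    rcases (Nat.dvd_prime Nat.prime_two).1 hdvd with h | h
    · exact absurd (orderOf_eq_one_iff.1 h) hu
    · exact h
  have hCeq : Subgroup.centralizer ({u} : Set G) = Subgroup.zpowers u := by
    symm
    apply Subgroup.eq_of_le_of_card_ge hle
    rw [hC, Nat.card_zpowers, ho]
  refine ⟨ho, ?_, hCeq⟩
  haveI : Fact (Nat.Prime 2) := ⟨Nat.prime_two⟩
  have hpg : IsPGroup 2 (Subgroup.zpowers u) :=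
    IsPGroup.of_card (n := 1) (by rw [Nat.card_zpowers, ho]; rfl)
  obtain ⟨T, hT⟩ := hpg.exists_le_sylow
  have huT : u ∈ (T : Subgroup G) := hT (Subgroup.mem_zpowers u)
  haveI : Nontrivial T := ⟨⟨⟨u, huT⟩, 1, fun h => hu (congrArg Subtype.val h)⟩⟩
  haveI hcen : Nontrivial (Subgroup.center T) := T.isPGroup'.center_nontrivial
  obtain ⟨z, hz⟩ := exists_ne (1 : Subgroup.center T)
  have hzu : (z.1.1 : G) ∈ Subgroup.centralizer ({u} : Set G) := by
    rw [Subgroup.mem_centralizer_singleton_iff]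
    have h1 := z.2
    rw [Subgroup.mem_center_iff] at h1
    have h2 := h1 ⟨u, huT⟩
    exact (congrArg Subtype.val h2).symm
  rw [hCeq] at hzu
  have hzu' : (z.1.1 : G) = u := by
    rcases mem_zpowers_of_orderOf_two ho hzu with h | h
    · exfalso; apply hz; apply Subtype.ext; apply Subtype.ext; exact h
    · exact h
  have hTle : (T : Subgroup G) ≤ Subgroup.zpowers u := by
    rw [← hCeq]
    intro t ht
    rw [Subgroup.mem_centralizer_singleton_iff]
    have h1 := z.2
    rw [Subgroup.mem_center_iff] at h1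
    have h2 := congrArg Subtype.val (h1 ⟨t, ht⟩)
    simp only [Subgroup.coe_mul] at h2
    rw [hzu'] at h2
    exact h2
  have hTeq : (T : Subgroup G) = Subgroup.zpowers u := le_antisymm hTle hT
  have hTcard : Nat.card (T : Subgroup G) = 2 := by rw [hTeq, Nat.card_zpowers, ho]
  have hcop := T.card_coprime_index
  rw [hTcard] at hcop
  have h1 := Subgroup.card_mul_index (T : Subgroup G)
  have h2 := Subgroup.card_mul_index (commutator G)
  rw [hTcard] at h1
  rw [hidx] at h2
  have h3 : Nat.card (commutator G) = (T : Subgroup G).index := by omega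
  have hcop2 : (Nat.card (commutator G)).Coprime 2 := by rw [h3]; exact hcop.symm
  have hcomle : commutator G ≤ oddCore G := le_pPrimeCore inferInstance hcop2
  rw [eq_top_iff]
  intro g _
  by_cases hg : g ∈ commutator G
  · exact (le_sup_right : oddCore G ≤ _) (hcomle hg)
  · have h4 : u⁻¹ * g ∈ commutator G := by
      rw [Subgroup.mul_mem_iff_of_index_two hidx, inv_mem_iff]
      exact ⟨fun h => absurd h hunot, fun h => absurd h hg⟩
    have h5 : g = u * (u⁻¹ * g) := by group
    rw [h5]
    exact Subgroup.mul_mem_sup (Subgroup.mem_zpowers u) (hcomle h4)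

theorem commutator_ne_top_of_gen [Finite G] {u : G} (ho : orderOf u = 2)
    (hgen : Subgroup.zpowers u ⊔ oddCore G = ⊤) : commutator G ≠ ⊤ := by
  intro htop
  have hle : commutator G ≤ oddCore G := by
    have hcyc : IsCyclic (G ⧸ oddCore G) := by
      refine ⟨⟨(QuotientGroup.mk u : G ⧸ oddCore G), fun q => ?_⟩⟩
      obtain ⟨g, rfl⟩ := QuotientGroup.mk_surjective q
      have hg : g ∈ Subgroup.zpowers u ⊔ oddCore G := by rw [hgen]; trivial
      have h1 := Subgroup.mem_map_of_mem (QuotientGroup.mk' (oddCore G)) hg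
      rw [Subgroup.map_sup, QuotientGroup.map_mk'_self, sup_bot_eq, MonoidHom.map_zpowers] at h1
      exact h1
    letI := IsCyclic.commGroup (α := G ⧸ oddCore G)
    have h2 := Abelianization.commutator_subset_ker (QuotientGroup.mk' (oddCore G))
    rwa [QuotientGroup.ker_mk'] at h2
  rw [htop, top_le_iff] at hle
  have hcop := pPrimeCore_card_coprime (G := G) 2
  rw [show pPrimeCore 2 G = ⊤ from hle, Subgroup.card_top] at hcop
  have hdvd : 2 ∣ Nat.card G := ho ▸ orderOf_dvd_natCard u
  have h3 := Nat.Coprime.eq_one_of_dvd hcop.symm hdvd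
  omega

end GroupPart

/-- Let u ≠ 1 be an element of the finite group G and c a complex number such that every non-principal irreducible character χ satisfies χ(1) − χ(u) = c or χ(u) = 0. Then the following are equivalent: (a) u has order 2, G is generated by u together with O(G), the largest normal subgroup of G of odd order, and the centralizer of u is {1, u}; (b) G is not perfect; (c) c = 2. -/
theorem result {G : Type*} [Group G] [Finite G] (u : G) (hu : u ≠ 1) (c : ℂ) (hyp : ∀ χ : Cfsg.IrrCharacter G, (χ : G → ℂ) ≠ (fun _ => (1 : ℂ)) → ((χ : G → ℂ) 1 - (χ : G → ℂ) u = c ∨ (χ : G → ℂ) u = 0)) : ((orderOf u = 2 ∧ Subgroup.zpowers u ⊔ Cfsg.oddCore G = ⊤ ∧ Subgroup.centralizer ({u} : Set G) = Subgroup.zpowers u) ↔ commutator G ≠ ⊤) ∧ (commutator G ≠ ⊤ ↔ c = 2) := by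
  refine ⟨⟨fun h => commutator_ne_top_of_gen h.1 h.2.1, fun h => ?_⟩, ⟨fun h => ?_, fun h => ?_⟩⟩
  · obtain ⟨x, hx⟩ := commutator_ne_top_iff.1 h
    have hC := card_centralizer hu hyp x hx
    have hidx : (commutator G).index = 2 := by rw [← card_linear]; exact card_lin hu hyp x hx
    have hunot : u ∉ commutator G := by
      intro hmem
      have h1 := linear_commutator x hmem
      rw [(lin_val_neg_one hu hyp x hx).1] at h1
      norm_num at h1
    exact group_part hu hC hidx hunot
  · obtain ⟨x, hx⟩ := commutator_ne_top_iff.1 h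
    exact (lin_val_neg_one hu hyp x hx).2
  · exact commutator_ne_top_iff.2 (exists_lin_of_c_two hu hyp h)

end Cfsg.Agent.S4757
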