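import Cfsg.Statements.S4762
import Cfsg.Agent.Lib.Helper79_Nilpotent
import Cfsg.Agent.Lib.Helper79_Linear
import Cfsg.Agent.Lib.Helper79_CharVals
import Cfsg.Agent.Lib.Helper80_CharComplete
import Cfsg.Agent.Lib.Helper1_Frattini
import Cfsg.Agent.S0184
import Cfsg.Agent.S3968
import Cfsg.Agent.S4757
import Cfsg.Agent.S0169
import Cfsg.Agent.S0135
import Cfsg.Agent.Lib.Helper76_CharZeros

set_option autoImplicit false
open Cfsg

namespace Cfsg.Agent.S4762

open Cfsg.Agent.Lib.Helper79_Nilpotent Cfsg.Agent.Lib.Helper79_Linear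
  Cfsg.Agent.Lib.Helper79_CharVals Cfsg.Agent.Lib.Helper80_CharBasic
  Cfsg.Agent.Lib.Helper80_CharComplete Cfsg.Agent.Lib.Helper1_Frattini

open scoped ComplexConjugate commutatorElement

section Det

variable {G : Type*} [Group G] [Finite G] {n : ℕ} (ρ : Representation ℂ G (Fin n → ℂ))
  [ρ.IsIrreducible]

/-- The determinant trick: a central element of prime order `p` in the commutator subgroup that
acts nontrivially forces `p ∣ n`. -/
theorem dvd_dim_of_central_commutator (p : ℕ) (hp : p.Prime) (z : G)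
    (hzc : z ∈ Subgroup.center G) (hzG : z ∈ commutator G) (hzo : orderOf z = p)
    (hz1 : ρ z ≠ 1) : p ∣ n := by
  obtain ⟨c, hc⟩ := Cfsg.Agent.S0184.exists_scalar ρ z hzc
  have hone := Cfsg.Agent.S0184.one_ne_zero_end ρ
  have hcp : c ^ p = 1 := by
    have h1 : ρ (z ^ p) = (c ^ p) • (1 : Module.End ℂ (Fin n → ℂ)) := by
      rw [map_pow, hc, smul_pow, one_pow]
    rw [← hzo, pow_orderOf_eq_one, map_one] at h1
    have h2 : (1 : ℂ) • (1 : Module.End ℂ (Fin n → ℂ)) =
        (c ^ orderOf z) • (1 : Module.End ℂ (Fin n → ℂ)) := by rw [one_smul]; exact h1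
    rw [← hzo]
    exact (smul_left_injective ℂ hone h2).symm
  have hc1 : c ≠ 1 := by
    intro h
    apply hz1
    rw [hc, h, one_smul]
  -- determinant
  let d : G →* ℂˣ := ((LinearMap.det : Module.End ℂ (Fin n → ℂ) →* ℂ).comp ρ).toHomUnits
  have hd : d z = 1 := by
    have hle := Abelianization.commutator_subset_ker d
    exact hle hzG
  have hdz : ((d z : ℂˣ) : ℂ) = c ^ n := by
    simp only [d, MonoidHom.coe_toHomUnits, MonoidHom.comp_apply]
    rw [hc, LinearMap.det_smul, map_one, mul_one]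
    simp
  rw [hd, Units.val_one] at hdz
  have h1 : orderOf c ∣ p := orderOf_dvd_of_pow_eq_one hcp
  have h2 : orderOf c ∣ n := orderOf_dvd_of_pow_eq_one hdz.symm
  rcases (Nat.dvd_prime hp).1 h1 with h3 | h3
  · exact absurd (orderOf_eq_one_iff.1 h3) hc1
  · rwa [h3] at h2

end Det


section Forward

variable {G : Type*} [Group G] [Finite G]

/-- The value of an irreducible character at an element acting trivially. -/
theorem char_eq_of_rep_eq_one {n : ℕ} (ρ : Representation ℂ G (Fin n → ℂ)) (z : G)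
    (h : ρ z = 1) : ρ.character z = ρ.character 1 := by
  unfold Representation.character
  rw [h, map_one ρ]

theorem charDegree_rep {n : ℕ} (ρ : Representation ℂ G (Fin n → ℂ)) :
    charDegree ρ.character = n := by
  apply charDegree_of_eq_natCast
  rw [Representation.char_one]; simp

theorem fwd_main [Group.IsNilpotent G] (p : ℕ) [Fact p.Prime] (χ₀ : IrrCharacter G)
    (h0 : p ∣ charDegree (χ₀ : G → ℂ))
    (huniq : ∀ ψ : IrrCharacter G, p ∣ charDegree (ψ : G → ℂ) → ψ = χ₀) :
    ∃ (z : G) (n₀ : ℕ), z ∈ Subgroup.center G ∧ z ∈ commutator G ∧ orderOf z = p ∧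
      (χ₀ : G → ℂ) 1 = n₀ ∧ p = 2 ∧ Nat.card G = 2 * n₀ ^ 2 ∧
      (∀ ψ : IrrCharacter G, ψ ≠ χ₀ → (ψ : G → ℂ) z = (ψ : G → ℂ) 1) := by
  classical
  have hp : p.Prime := Fact.out
  obtain ⟨n₀, ρ₀, hirr₀, hρ₀⟩ := χ₀.2
  haveI := hirr₀
  have hdeg₀ : charDegree (χ₀ : G → ℂ) = n₀ := by rw [← hρ₀]; exact charDegree_rep ρ₀
  have hχ1 : (χ₀ : G → ℂ) 1 = n₀ := by rw [← hρ₀, Representation.char_one]; simp
  rw [hdeg₀] at h0
  let P : Sylow p G := default
  -- `P` is not abelian
  have hPna : ⁅(P : Subgroup G), (P : Subgroup G)⁆ ≠ ⊥ := by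
    intro hbot
    rw [Subgroup.commutator_eq_bot_iff_le_centralizer] at hbot
    have hab : ∀ a ∈ (P : Subgroup G), ∀ b ∈ (P : Subgroup G), a * b = b * a := by
      intro a ha b hb
      exact ((Subgroup.mem_centralizer_iff.1 (hbot ha)) b hb).symm
    have h1 := Cfsg.Agent.S0169.result ρ₀ (P : Subgroup G) hab
    rw [Module.finrank_fin_fun] at h1
    exact P.not_dvd_index (dvd_trans h0 h1)
  have hNp : IsPGroup p ↥⁅(P : Subgroup G), (P : Subgroup G)⁆ :=
    P.isPGroup'.to_le (Subgroup.commutator_le_left _ _)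
  obtain ⟨z, hzN, hzc, hzo⟩ := exists_central_orderOf_eq_prime p _ hNp hPna
  have hzG : z ∈ commutator G := by
    rw [commutator_def]
    exact Subgroup.commutator_mono le_top le_top hzN
  have hz1 : z ≠ 1 := by
    intro h
    rw [h, orderOf_one] at hzo
    exact hp.one_lt.ne hzo
  -- all other characters are trivial at `z`
  have hother : ∀ ψ : IrrCharacter G, ψ ≠ χ₀ → (ψ : G → ℂ) z = (ψ : G → ℂ) 1 := by
    intro ψ hψ
    obtain ⟨n, ρ, hirr, hρ⟩ := ψ.2
    haveI := hirr
    by_contra hne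
    apply hψ
    apply huniq
    rw [← hρ, charDegree_rep ρ]
    apply dvd_dim_of_central_commutator ρ p hp z hzc hzG hzo
    intro h1
    apply hne
    rw [← hρ]
    exact char_eq_of_rep_eq_one ρ z h1
  -- orthogonality
  haveI := Fintype.ofFinite G
  haveI := Fintype.ofFinite (IrrCharacter G)
  have hreal : ∀ ψ : IrrCharacter G, conj ((ψ : G → ℂ) 1) = (ψ : G → ℂ) 1 := by
    intro ψ
    obtain ⟨k, _, hk⟩ := irr_apply_one ψ
    rw [hk]; simp
  have h1 := second_orthogonality_sum z (1 : G)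
  rw [if_neg (by rw [isConj_one_left]; exact hz1)] at h1
  have h2 := second_orthogonality_sum (1 : G) (1 : G)
  rw [if_pos (IsConj.refl _)] at h2
  have hcent : Nat.card (Subgroup.centralizer ({1} : Set G)) = Nat.card G := by
    have : Subgroup.centralizer ({1} : Set G) = ⊤ := by
      rw [eq_top_iff]
      intro x _
      rw [Subgroup.mem_centralizer_singleton_iff]
      simp
    rw [this, Subgroup.card_top]
  rw [hcent] at h2
  have h3 : ∑ ψ : IrrCharacter G, ((ψ : G → ℂ) 1 - (ψ : G → ℂ) z) * (ψ : G → ℂ) 1 =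
      (Nat.card G : ℂ) := by
    rw [← h2, ← sub_zero (∑ ψ : IrrCharacter G, (ψ : G → ℂ) 1 * conj ((ψ : G → ℂ) 1)), ← h1,
      ← Finset.sum_sub_distrib]
    refine Finset.sum_congr rfl (fun ψ _ => ?_)
    rw [hreal ψ]; ring
  rw [Fintype.sum_eq_single χ₀ (fun ψ hψ => by rw [hother ψ hψ, sub_self, zero_mul])] at h3
  -- the scalar
  obtain ⟨c, hc⟩ := Cfsg.Agent.S0184.exists_scalar ρ₀ z hzc
  have hone := Cfsg.Agent.S0184.one_ne_zero_end ρ₀
  have hcp : c ^ p = 1 := by
    have h4 : ρ₀ (z ^ p) = (c ^ p) • (1 : Module.End ℂ (Fin n₀ → ℂ)) := by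
      rw [map_pow, hc, smul_pow, one_pow]
    rw [← hzo, pow_orderOf_eq_one, map_one] at h4
    have h5 : (1 : ℂ) • (1 : Module.End ℂ (Fin n₀ → ℂ)) =
        (c ^ orderOf z) • (1 : Module.End ℂ (Fin n₀ → ℂ)) := by rw [one_smul]; exact h4
    rw [← hzo]
    exact (smul_left_injective ℂ hone h5).symm
  have hχz : (χ₀ : G → ℂ) z = c * n₀ := by
    rw [← hρ₀]
    unfold Representation.character
    rw [hc, map_smul, LinearMap.trace_one, smul_eq_mul]
    simp
  rw [hχz, hχ1] at h3
  have hn₀pos : 0 < n₀ := by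
    rcases Nat.eq_zero_or_pos n₀ with h | h
    · exfalso
      rw [h] at h3
      have h4 : (Nat.card G : ℂ) = 0 := by rw [← h3]; simp
      exact (Nat.card_pos (α := G)).ne' (by exact_mod_cast h4)
    · exact h
  have hn₀C : (n₀ : ℂ) ≠ 0 := by exact_mod_cast hn₀pos.ne'
  -- `c = 1 - |G| / n₀²`
  have hcval : c = 1 - (Nat.card G : ℂ) / (n₀ : ℂ) ^ 2 := by
    field_simp
    linear_combination -h3
  have hnorm : ‖c‖ = 1 := Complex.norm_eq_one_of_pow_eq_one hcp hp.ne_zero
  set r : ℝ := (Nat.card G : ℝ) / (n₀ : ℝ) ^ 2 with hr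
  have hrpos : 0 < r := by
    have h5 : (0 : ℝ) < (Nat.card G : ℝ) := by exact_mod_cast Nat.card_pos
    have h6 : (0 : ℝ) < (n₀ : ℝ) ^ 2 := by positivity
    exact div_pos h5 h6
  have hcr : c = ((1 - r : ℝ) : ℂ) := by
    rw [hcval, hr]; push_cast; ring
  rw [hcr, Complex.norm_real, Real.norm_eq_abs] at hnorm
  have hr2 : r = 2 := by
    rcases abs_eq (by norm_num : (0 : ℝ) ≤ 1) |>.1 hnorm with h | h
    · linarith
    · linarith
  have hcneg : c = -1 := by rw [hcr, hr2]; norm_num
  have hp2 : p = 2 := by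
    rw [hcneg] at hcp
    rcases Nat.Prime.eq_two_or_odd' hp with h | h
    · exact h
    · rw [Odd.neg_one_pow h] at hcp
      norm_num at hcp
  have hcard : Nat.card G = 2 * n₀ ^ 2 := by
    have h5 : (Nat.card G : ℝ) = 2 * (n₀ : ℝ) ^ 2 := by
      have h6 : (n₀ : ℝ) ^ 2 ≠ 0 := by positivity
      rw [hr] at hr2
      field_simp at hr2
      linarith
    exact_mod_cast h5
  exact ⟨z, n₀, hzc, hzG, hzo, hχ1, hp2, hcard, hother⟩


/-- A subgroup of order two containing `z ≠ 1` is `{1, z}`. -/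
theorem eq_zpowers_of_card_two {H : Subgroup G} (hH : Nat.card H = 2) {z : G} (hz : z ∈ H)
    (hz1 : z ≠ 1) : H = Subgroup.zpowers z := by
  symm
  apply Subgroup.eq_of_le_of_card_ge (Subgroup.zpowers_le.2 hz)
  rw [hH, Nat.card_zpowers]
  have h1 : orderOf z ≠ 1 := fun h => hz1 (orderOf_eq_one_iff.1 h)
  have h2 : 0 < orderOf z := orderOf_pos z
  omega

theorem fwd_two [Group.IsNilpotent G] (χ₀ : IrrCharacter G) (z : G) (n₀ : ℕ)
    (hzc : z ∈ Subgroup.center G) (hzG : z ∈ commutator G) (hzo : orderOf z = 2)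
    (hχ1 : (χ₀ : G → ℂ) 1 = n₀) (h0 : 2 ∣ n₀) (hcard : Nat.card G = 2 * n₀ ^ 2)
    (huniq : ∀ ψ : IrrCharacter G, 2 ∣ charDegree (ψ : G → ℂ) → ψ = χ₀) :
    IsExtraspecial 2 G := by
  classical
  haveI : Fact (Nat.Prime 2) := ⟨Nat.prime_two⟩
  haveI := Fintype.ofFinite G
  haveI := Fintype.ofFinite (IrrCharacter G)
  have hz1 : z ≠ 1 := by
    intro h
    rw [h, orderOf_one] at hzo
    omega
  have hn₀pos : 0 < n₀ := by
    rcases Nat.eq_zero_or_pos n₀ with h | h
    · rw [h] at hcard
      have := Nat.card_pos (α := G)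
      omega
    · exact h
  -- the centre has order two
  have hZcard : Nat.card (Subgroup.center G) = 2 := by
    obtain ⟨n, ρ, hirr, hρ⟩ := χ₀.2
    haveI := hirr
    have hsum := Cfsg.Agent.Lib.Helper76_CharZeros.sum_norm_sq_char ρ
    rw [hρ] at hsum
    have hle : ∑ g ∈ Finset.univ.filter (· ∈ Subgroup.center G), ‖(χ₀ : G → ℂ) g‖ ^ 2 ≤
        ∑ g : G, ‖(χ₀ : G → ℂ) g‖ ^ 2 :=
      Finset.sum_le_sum_of_subset_of_nonneg (Finset.filter_subset _ _)
        (fun g _ _ => by positivity)
    have hconst : ∑ g ∈ Finset.univ.filter (· ∈ Subgroup.center G), ‖(χ₀ : G → ℂ) g‖ ^ 2 =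
        (Nat.card (Subgroup.center G) : ℝ) * (n₀ : ℝ) ^ 2 := by
      rw [Finset.sum_congr rfl (fun g hg => by
        rw [Cfsg.Agent.S3968.norm_irr_central χ₀ g (Finset.mem_filter.1 hg).2 n₀ hχ1])]
      rw [Finset.sum_const, nsmul_eq_mul, Nat.card_eq_fintype_card, Fintype.card_subtype]
    rw [hconst, hsum, ← Nat.card_eq_fintype_card, hcard] at hle
    have h2 : (Nat.card (Subgroup.center G) : ℝ) ≤ 2 := by
      have h3 : (0 : ℝ) < (n₀ : ℝ) ^ 2 := by positivity
      push_cast at hle
      have h4 : (Nat.card (Subgroup.center G) : ℝ) * (n₀ : ℝ) ^ 2 ≤ 2 * (n₀ : ℝ) ^ 2 := hle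
      exact le_of_mul_le_mul_right h4 h3
    have h5 : Nat.card (Subgroup.center G) ≤ 2 := by exact_mod_cast h2
    have h6 : 2 ∣ Nat.card (Subgroup.center G) := by
      rw [← hzo]
      have := Subgroup.orderOf_dvd_natCard (Subgroup.center G) hzc
      exact this
    have h7 := Nat.le_of_dvd Nat.card_pos h6
    omega
  have hZeq : Subgroup.center G = Subgroup.zpowers z := eq_zpowers_of_card_two hZcard hzc hz1
  -- `G` is a 2-group
  have hprime : ∀ {r : ℕ}, r.Prime → r ∣ Nat.card G → r = 2 := by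
    intro r hr hdvd
    haveI : Fact r.Prime := ⟨hr⟩
    let R : Sylow r G := default
    have hRne : (R : Subgroup G) ≠ ⊥ := R.ne_bot_of_dvd_card hdvd
    obtain ⟨w, _, hwc, hwo⟩ := exists_central_orderOf_eq_prime r (R : Subgroup G) R.isPGroup' hRne
    have h1 := Subgroup.orderOf_dvd_natCard (Subgroup.center G) hwc
    rw [hwo, hZcard] at h1
    exact (Nat.prime_dvd_prime_iff_eq hr Nat.prime_two).1 h1
  have hcardpow := Nat.eq_prime_pow_of_unique_prime_dvd (Nat.card_pos (α := G)).ne' hprime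
  have hG2 : IsPGroup 2 G := IsPGroup.of_card hcardpow
  -- all other characters are linear
  have hlin : ∀ ψ : IrrCharacter G, ψ ≠ χ₀ → (ψ : G → ℂ) 1 = 1 := by
    intro ψ hψ
    obtain ⟨n, ρ, hirr, hρ⟩ := ψ.2
    haveI := hirr
    have hdvd : n ∣ Nat.card G := by
      have := Cfsg.Agent.S0135.result ρ
      rwa [Module.finrank_fin_fun] at this
    rw [hcardpow] at hdvd
    obtain ⟨j, _, hj⟩ := (Nat.dvd_prime_pow Nat.prime_two).1 hdvd
    have hj0 : j = 0 := by
      by_contra hj0
      apply hψ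
      apply huniq
      rw [← hρ, charDegree_rep ρ, hj]
      exact dvd_pow_self 2 hj0
    rw [← hρ, Representation.char_one, Module.finrank_fin_fun, hj, hj0]
    simp
  have hχ₀nl : (χ₀ : G → ℂ) 1 ≠ 1 := by
    rw [hχ1]
    intro h
    have : n₀ = 1 := by exact_mod_cast h
    omega
  -- the number of linear characters
  have hsq := sum_sq_degrees (G := G)
  rw [finsum_eq_sum_of_fintype, ← Finset.add_sum_erase _ _ (Finset.mem_univ χ₀), hχ1] at hsq
  have hrest : ∑ ψ ∈ Finset.univ.erase χ₀, (ψ : G → ℂ) 1 ^ 2 =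
      ((Finset.univ.erase χ₀).card : ℂ) := by
    rw [Finset.sum_congr rfl (fun ψ hψ => by rw [hlin ψ (Finset.ne_of_mem_erase hψ), one_pow])]
    simp
  rw [hrest, hcard] at hsq
  have hcnt : (Finset.univ.erase χ₀).card = n₀ ^ 2 := by
    have h2 : n₀ ^ 2 + (Finset.univ.erase χ₀).card = 2 * n₀ ^ 2 := by exact_mod_cast hsq
    omega
  have hlincard : Nat.card {χ : IrrCharacter G // (χ : G → ℂ) 1 = 1} = n₀ ^ 2 := by
    rw [← hcnt, Nat.card_eq_fintype_card, Fintype.card_subtype]
    congr 1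
    ext ψ
    simp only [Finset.mem_filter, Finset.mem_univ, true_and, Finset.mem_erase, and_true]
    constructor
    · intro h1 h2
      rw [h2] at h1
      exact hχ₀nl h1
    · intro h1
      exact hlin ψ h1
  have hidx : (commutator G).index = n₀ ^ 2 := by rw [← card_linear]; exact hlincard
  have hG'card : Nat.card (commutator G) = 2 := by
    have h1 := Subgroup.card_mul_index (commutator G)
    rw [hidx, hcard] at h1
    have h2 : 0 < n₀ ^ 2 := by positivity
    nlinarith
  have hG'eq : commutator G = Subgroup.zpowers z := eq_zpowers_of_card_two hG'card hzG hz1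
  have hcomm_center : commutator G = Subgroup.center G := by rw [hG'eq, hZeq]
  -- squares are central
  have hsq_central : ∀ x : G, x ^ 2 ∈ Subgroup.center G := by
    intro x
    rw [Subgroup.mem_center_iff]
    intro y
    have hc : ⁅x, y⁆ ∈ Subgroup.center G := by
      rw [← hcomm_center]
      exact Subgroup.commutator_mem_commutator (Subgroup.mem_top x) (Subgroup.mem_top y)
    have hc2 : ⁅x, y⁆ ^ 2 = 1 := by
      have h1 : orderOf (⁅x, y⁆) ∣ 2 := by
        rw [← hZcard]
        exact Subgroup.orderOf_dvd_natCard _ hc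
      exact orderOf_dvd_iff_pow_eq_one.1 h1
    have hcc := Subgroup.mem_center_iff.1 hc
    have h1 : x * y * x⁻¹ = ⁅x, y⁆ * y := by rw [commutatorElement_def]; group
    generalize ⁅x, y⁆ = c at hc hc2 hcc h1
    have h2 : x * c * x⁻¹ = c := by rw [hcc x, mul_inv_cancel_right]
    have h3 : (x * x) * y * (x * x)⁻¹ = y := by
      calc (x * x) * y * (x * x)⁻¹ = x * (x * y * x⁻¹) * x⁻¹ := by group
        _ = x * (c * y) * x⁻¹ := by rw [h1]
        _ = (x * c * x⁻¹) * (x * y * x⁻¹) := by group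
        _ = c * (c * y) := by rw [h2, h1]
        _ = c ^ 2 * y := by rw [pow_two, mul_assoc]
        _ = y := by rw [hc2, one_mul]
    rw [pow_two]
    calc y * (x * x) = ((x * x) * y * (x * x)⁻¹) * (x * x) := by rw [h3]
      _ = x * x * y := by group
  have hfrat : frattini G = Subgroup.center G := by
    apply le_antisymm
    · exact frattini_le_of_elementary_quotient (p := 2) (Subgroup.center G)
        (le_of_eq hcomm_center) hsq_central
    · rw [← hcomm_center]
      exact commutator_le_frattini_of_isPGroup hG2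
  exact ⟨⟨hG2, hfrat, hcomm_center⟩, hZcard⟩

end Forward


section Backward

variable {G : Type*} [Group G] [Finite G]

/-- An irreducible representation with commuting image has degree one. -/
theorem dim_eq_one_of_commute {n : ℕ} (ρ : Representation ℂ G (Fin n → ℂ)) [ρ.IsIrreducible]
    (h : ∀ a b : G, ρ a * ρ b = ρ b * ρ a) : n = 1 := by
  classical
  haveI := Fintype.ofFinite G
  have hone := Cfsg.Agent.S0184.one_ne_zero_end ρ
  have hnorm : ∀ a : G, ‖ρ.character a‖ = (n : ℝ) := by
    intro a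
    let f : Representation.IntertwiningMap ρ ρ :=
      { toLinearMap := ρ a
        isIntertwining' := fun b => (h a b) }
    obtain ⟨c, hc⟩ :=
      (Representation.IsIrreducible.algebraMap_intertwiningMap_bijective_of_isAlgClosed
        (ρ := ρ)).2 f
    have hc' : ρ a = c • (1 : Module.End ℂ (Fin n → ℂ)) := by
      have h1 := congrArg Representation.IntertwiningMap.toLinearMap hc
      rw [Representation.IntertwiningMap.algebraMap_apply] at h1
      exact h1.symm
    have hpow : c ^ orderOf a = 1 := by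
      have h1 : ρ (a ^ orderOf a) = (c ^ orderOf a) • (1 : Module.End ℂ (Fin n → ℂ)) := by
        rw [map_pow, hc', smul_pow, one_pow]
      rw [pow_orderOf_eq_one, map_one] at h1
      have h2 : (1 : ℂ) • (1 : Module.End ℂ (Fin n → ℂ)) =
          (c ^ orderOf a) • (1 : Module.End ℂ (Fin n → ℂ)) := by rw [one_smul]; exact h1
      exact (smul_left_injective ℂ hone h2).symm
    have hnc : ‖c‖ = 1 := Complex.norm_eq_one_of_pow_eq_one hpow (orderOf_pos a).ne'
    unfold Representation.character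
    rw [hc', map_smul, LinearMap.trace_one, smul_eq_mul, norm_mul, hnc, one_mul]
    simp
  have hsum := Cfsg.Agent.Lib.Helper76_CharZeros.sum_norm_sq_char ρ
  rw [Finset.sum_congr rfl (fun a _ => by rw [hnorm a])] at hsum
  rw [Finset.sum_const, Finset.card_univ, nsmul_eq_mul] at hsum
  have hpos : (0 : ℝ) < (Fintype.card G : ℝ) := by exact_mod_cast Fintype.card_pos
  have h1 : (n : ℝ) ^ 2 = 1 := by
    have h2 : (Fintype.card G : ℝ) * (n : ℝ) ^ 2 = (Fintype.card G : ℝ) * 1 := by
      rw [mul_one]; exact hsum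
    exact mul_left_cancel₀ hpos.ne' h2
  have h3 : n ^ 2 = 1 := by exact_mod_cast h1
  exact Nat.eq_one_of_mul_eq_one_left (by rw [← pow_two]; exact h3)

theorem bwd_key (hex : IsExtraspecial 2 G) (ψ : IrrCharacter G) (m : ℕ)
    (hm : (ψ : G → ℂ) 1 = m) (hm1 : m ≠ 1) : 2 * m ^ 2 = Nat.card G := by
  classical
  haveI := Fintype.ofFinite G
  obtain ⟨⟨hG2, hfrat, hcomm⟩, hZcard⟩ := hex
  obtain ⟨n, ρ, hirr, hρ⟩ := ψ.2
  haveI := hirr
  have hnm : n = m := by
    have h1 : ρ.character 1 = (n : ℂ) := by rw [Representation.char_one]; simp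
    rw [hρ, hm] at h1
    exact_mod_cast h1.symm
  subst hnm
  have hone := Cfsg.Agent.S0184.one_ne_zero_end ρ
  -- the central involution
  haveI : Nontrivial (Subgroup.center G) := by
    rw [← Finite.one_lt_card_iff_nontrivial, hZcard]; norm_num
  obtain ⟨z', hz'⟩ := exists_ne (1 : Subgroup.center G)
  set z : G := z'.1 with hzdef
  have hzc : z ∈ Subgroup.center G := z'.2
  have hz1 : z ≠ 1 := fun h => hz' (Subtype.ext h)
  have hZeq : Subgroup.center G = Subgroup.zpowers z := eq_zpowers_of_card_two hZcard hzc hz1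
  have hzo : orderOf z = 2 := by
    rw [← Nat.card_zpowers, ← hZeq, hZcard]
  -- `ρ z ≠ 1`
  have hρz : ρ z ≠ 1 := by
    intro hρz
    apply hm1
    apply dim_eq_one_of_commute ρ
    intro a b
    have hmem : ⁅a, b⁆ ∈ Subgroup.zpowers z := by
      rw [← hZeq, ← hcomm]
      exact Subgroup.commutator_mem_commutator (Subgroup.mem_top a) (Subgroup.mem_top b)
    have h1 : ρ ⁅a, b⁆ = 1 := by
      rcases Cfsg.Agent.S4757.mem_zpowers_of_orderOf_two hzo hmem with h | h
      · rw [h, map_one]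
      · rw [h, hρz]
    have h2 : a * b = ⁅a, b⁆ * (b * a) := by rw [commutatorElement_def]; group
    rw [← map_mul, h2, map_mul, h1, one_mul, map_mul]
  obtain ⟨c, hc⟩ := Cfsg.Agent.S0184.exists_scalar ρ z hzc
  have hc2 : c ^ 2 = 1 := by
    have h1 : ρ (z ^ 2) = (c ^ 2) • (1 : Module.End ℂ (Fin n → ℂ)) := by
      rw [map_pow, hc, smul_pow, one_pow]
    rw [← hzo, pow_orderOf_eq_one, map_one] at h1
    have h2 : (1 : ℂ) • (1 : Module.End ℂ (Fin n → ℂ)) =
        (c ^ orderOf z) • (1 : Module.End ℂ (Fin n → ℂ)) := by rw [one_smul]; exact h1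
    rw [← hzo]
    exact (smul_left_injective ℂ hone h2).symm
  have hcne : c ≠ 1 := by
    intro h
    apply hρz
    rw [hc, h, one_smul]
  have hcneg : c = -1 := by
    have h1 : (c - 1) * (c + 1) = 0 := by linear_combination hc2
    rcases mul_eq_zero.1 h1 with h | h
    · exact absurd (sub_eq_zero.1 h) hcne
    · exact eq_neg_of_add_eq_zero_left h
  -- vanishing off the centre
  have hvanish : ∀ x : G, x ∉ Subgroup.center G → ρ.character x = 0 := by
    intro x hx
    rw [Subgroup.mem_center_iff] at hx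
    push Not at hx
    obtain ⟨g, hg⟩ := hx
    have hmem : ⁅g, x⁆ ∈ Subgroup.zpowers z := by
      rw [← hZeq, ← hcomm]
      exact Subgroup.commutator_mem_commutator (Subgroup.mem_top g) (Subgroup.mem_top x)
    have hgx : ⁅g, x⁆ = z := by
      rcases Cfsg.Agent.S4757.mem_zpowers_of_orderOf_two hzo hmem with h | h
      · exfalso
        apply hg
        exact (commutatorElement_eq_one_iff_mul_comm.1 h)
      · exact h
    have h1 : g * x * g⁻¹ = z * x := by
      rw [← hgx, commutatorElement_def]; group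
    have h2 : ρ.character (g * x * g⁻¹) = ρ.character x := Representation.char_conj ρ x g
    have h3 : ρ.character (z * x) = -ρ.character x := by
      unfold Representation.character
      rw [map_mul, hc, hcneg, smul_mul_assoc, one_mul, map_smul]
      simp
    rw [h1, h3] at h2
    have h4 : (2 : ℂ) * ρ.character x = 0 := by linear_combination -h2
    rcases mul_eq_zero.1 h4 with h | h
    · norm_num at h
    · exact h
  have hsum := Cfsg.Agent.Lib.Helper76_CharZeros.sum_norm_sq_char ρ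
  have hsub : ∑ g : G, ‖ρ.character g‖ ^ 2 =
      ∑ g ∈ Finset.univ.filter (· ∈ Subgroup.center G), ‖ρ.character g‖ ^ 2 := by
    symm
    apply Finset.sum_subset (Finset.filter_subset _ _)
    intro g _ hg
    simp only [Finset.mem_filter, Finset.mem_univ, true_and] at hg
    rw [hvanish g hg]; simp
  have hconst : ∑ g ∈ Finset.univ.filter (· ∈ Subgroup.center G), ‖ρ.character g‖ ^ 2 =
      (Nat.card (Subgroup.center G) : ℝ) * (n : ℝ) ^ 2 := by
    rw [Finset.sum_congr rfl (fun g hg => by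
      rw [hρ, Cfsg.Agent.S3968.norm_irr_central ψ g (Finset.mem_filter.1 hg).2 n hm])]
    rw [Finset.sum_const, nsmul_eq_mul, Nat.card_eq_fintype_card, Fintype.card_subtype]
  rw [hsub, hconst, hZcard, ← Nat.card_eq_fintype_card] at hsum
  exact_mod_cast hsum


theorem bwd (hex : IsExtraspecial 2 G) :
    Nat.card {χ : IrrCharacter G // 2 ∣ charDegree (χ : G → ℂ)} = 1 := by
  classical
  haveI := Fintype.ofFinite G
  haveI := Fintype.ofFinite (IrrCharacter G)
  have hex' := hex
  obtain ⟨⟨hG2, hfrat, hcomm⟩, hZcard⟩ := hex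
  choose deg hdegpos hdeg1 hdegc using fun ψ : IrrCharacter G => irr_degree ψ.2
  have hG'card : Nat.card (commutator G) = 2 := by rw [hcomm]; exact hZcard
  have hidx := Subgroup.card_mul_index (commutator G)
  have hcardG : Nat.card G = 2 * (commutator G).index := by rw [← hidx, hG'card]
  have hLpos : 0 < (commutator G).index := by
    have := Nat.card_pos (α := G)
    omega
  have hlin : (Finset.univ.filter (fun ψ : IrrCharacter G => deg ψ = 1)).card =
      (commutator G).index := by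
    rw [← card_linear, Nat.card_eq_fintype_card, Fintype.card_subtype]
    congr 1
    ext ψ
    simp only [Finset.mem_filter, Finset.mem_univ, true_and]
    rw [hdeg1 ψ]
    constructor
    · intro h; rw [h]; simp
    · intro h; exact_mod_cast h
  have hsq : ∑ ψ : IrrCharacter G, deg ψ ^ 2 = Nat.card G := by
    have h1 := sum_sq_degrees (G := G)
    rw [finsum_eq_sum_of_fintype] at h1
    have h2 : ((∑ ψ : IrrCharacter G, deg ψ ^ 2 : ℕ) : ℂ) = (Nat.card G : ℂ) := by
      push_cast
      rw [← h1]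
      exact Finset.sum_congr rfl (fun ψ _ => by rw [hdeg1 ψ])
    exact_mod_cast h2
  rw [← Finset.sum_filter_add_sum_filter_not Finset.univ (fun ψ => deg ψ = 1)] at hsq
  have h1 : ∑ ψ ∈ Finset.univ.filter (fun ψ : IrrCharacter G => deg ψ = 1), deg ψ ^ 2 =
      (commutator G).index := by
    rw [Finset.sum_congr rfl (fun ψ hψ => by rw [(Finset.mem_filter.1 hψ).2, one_pow]),
      Finset.sum_const, smul_eq_mul, mul_one, hlin]
  have h2 : ∑ ψ ∈ Finset.univ.filter (fun ψ : IrrCharacter G => ¬ deg ψ = 1), deg ψ ^ 2 =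
      (Finset.univ.filter (fun ψ : IrrCharacter G => ¬ deg ψ = 1)).card *
        (commutator G).index := by
    rw [Finset.sum_congr rfl (fun ψ hψ => ?_), Finset.sum_const, smul_eq_mul]
    have h3 := bwd_key hex' ψ (deg ψ) (hdeg1 ψ) (Finset.mem_filter.1 hψ).2
    omega
  rw [h1, h2, hcardG] at hsq
  have hcnt : (Finset.univ.filter (fun ψ : IrrCharacter G => ¬ deg ψ = 1)).card = 1 := by
    have h3 : (Finset.univ.filter (fun ψ : IrrCharacter G => ¬ deg ψ = 1)).card *
        (commutator G).index = 1 * (commutator G).index := by omega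
    exact Nat.eq_of_mul_eq_mul_right hLpos h3
  rw [Nat.card_eq_fintype_card, Fintype.card_subtype, ← hcnt]
  congr 1
  ext ψ
  simp only [Finset.mem_filter, Finset.mem_univ, true_and]
  rw [hdegc ψ]
  constructor
  · intro h h1
    rw [h1] at h
    omega
  · intro h
    obtain ⟨n, ρ, hirr, hρ⟩ := ψ.2
    haveI := hirr
    have hn : n = deg ψ := by
      have h3 : ρ.character 1 = (n : ℂ) := by rw [Representation.char_one]; simp
      rw [hρ, hdeg1 ψ] at h3
      exact_mod_cast h3.symm
    have hdvd : deg ψ ∣ Nat.card G := by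
      have h3 := Cfsg.Agent.S0135.result ρ
      rwa [Module.finrank_fin_fun, hn] at h3
    obtain ⟨k, hk⟩ := IsPGroup.iff_card.1 hG2
    rw [hk] at hdvd
    obtain ⟨j, _, hj⟩ := (Nat.dvd_prime_pow Nat.prime_two).1 hdvd
    rw [hj]
    apply dvd_pow_self
    intro hj0
    apply h
    rw [hj, hj0, pow_zero]

end Backward

/-- Let p be a prime and G a finite nilpotent group. Then G has exactly one irreducible complex character of degree divisible by p if and only if p = 2 and G is an extraspecial 2-group. -/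
theorem result {G : Type*} [Group G] [Finite G] [Group.IsNilpotent G] (p : ℕ) [Fact p.Prime] : Nat.card {χ : Cfsg.IrrCharacter G // p ∣ Cfsg.charDegree (χ : G → ℂ)} = 1 ↔ (p = 2 ∧ Cfsg.IsExtraspecial 2 G) := by
  constructor
  · intro hone
    rw [Nat.card_eq_one_iff_unique] at hone
    obtain ⟨hsub, ⟨⟨χ₀, h0⟩⟩⟩ := hone
    have huniq : ∀ ψ : IrrCharacter G, p ∣ charDegree (ψ : G → ℂ) → ψ = χ₀ :=
      fun ψ hψ => congrArg Subtype.val (hsub.elim ⟨ψ, hψ⟩ ⟨χ₀, h0⟩)
    obtain ⟨z, n₀, hzc, hzG, hzo, hχ1, hp2, hcard, _⟩ := fwd_main p χ₀ h0 huniq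
    subst hp2
    refine ⟨rfl, fwd_two χ₀ z n₀ hzc hzG hzo hχ1 ?_ hcard huniq⟩
    rwa [charDegree_of_eq_natCast hχ1] at h0
  · rintro ⟨rfl, hex⟩
    exact bwd hex

end Cfsg.Agent.S4762
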