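import Cfsg.Statements.S4763
import Cfsg.Agent.Lib.Helper79_UniqueSingular
import Cfsg.Agent.Lib.Helper79_ClassCount
import Cfsg.Agent.Lib.Helper77_BlockBasics
import Cfsg.Agent.S4387
import Cfsg.Agent.S4713

set_option autoImplicit false
open Cfsg

namespace Cfsg.Agent.S4763

open scoped Pointwise
open Cfsg.Agent.Lib.Helper79_UniqueSingular Cfsg.Agent.Lib.Helper79_ClassCount

/-- If some irreducible character has degree divisible by `p`, then some conjugacy class has size
divisible by `p`. -/
theorem exists_singular_class {G : Type*} [Group G] [Finite G] (p : ℕ) [hpF : Fact p.Prime]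
    (χ : Cfsg.IrrCharacter G) (hχ : p ∣ Cfsg.charDegree (χ : G → ℂ)) :
    ∃ g : G, p ∣ Nat.card (ConjClasses.mk g).carrier := by
  by_contra hcon
  push Not at hcon
  have hp : p.Prime := hpF.out
  obtain ⟨P⟩ : Nonempty (Sylow p G) := inferInstance
  have hcover : ∀ g : G, ∃ x : G, g ∈ MulAut.conj x • Subgroup.centralizer (P : Set G) := by
    intro g
    have hidx : ¬ p ∣ (Subgroup.centralizer ({g} : Set G)).index := by
      rw [← card_carrier_eq_index]
      exact hcon g
    obtain ⟨Q⟩ : Nonempty (Sylow p (Subgroup.centralizer ({g} : Set G))) := inferInstance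
    have hQp : IsPGroup p
        ((Q : Subgroup _).map (Subgroup.centralizer ({g} : Set G)).subtype) := Q.2.map _
    have hQi : ¬ p ∣
        ((Q : Subgroup _).map (Subgroup.centralizer ({g} : Set G)).subtype).index := by
      rw [Subgroup.index_map_subtype]
      intro h
      rcases (Nat.Prime.dvd_mul hp).1 h with h | h
      · exact Q.not_dvd_index h
      · exact hidx h
    obtain ⟨x, hx⟩ := MulAction.exists_smul_eq G P (hQp.toSylow hQi)
    refine ⟨x, ?_⟩
    rw [Subgroup.mem_pointwise_smul_iff_inv_smul_mem, Subgroup.mem_centralizer_iff]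
    intro y hy
    have h1 : x * y * x⁻¹ ∈ ((hQp.toSylow hQi : Sylow p G) : Subgroup G) := by
      rw [← hx, Sylow.coe_subgroup_smul]
      exact ⟨y, hy, rfl⟩
    rw [IsPGroup.toSylow_coe, Subgroup.mem_map] at h1
    obtain ⟨z, -, hz⟩ := h1
    have h2 : x * y * x⁻¹ ∈ Subgroup.centralizer ({g} : Set G) := by
      rw [← hz]
      exact z.2
    have h3 := (Subgroup.mem_centralizer_iff.1 h2) g rfl
    show y * ((MulAut.conj x)⁻¹ • g) = ((MulAut.conj x)⁻¹ • g) * y
    have h4 : (MulAut.conj x)⁻¹ • g = x⁻¹ * g * x := by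
      rw [← map_inv, MulAut.smul_def, MulAut.conj_apply, inv_inv]
    rw [h4]
    calc y * (x⁻¹ * g * x) = x⁻¹ * ((x * y * x⁻¹) * g) * x := by group
      _ = x⁻¹ * (g * (x * y * x⁻¹)) * x := by rw [← h3]
      _ = x⁻¹ * g * x * y := by group
  have htop : Subgroup.centralizer (P : Set G) = ⊤ := by
    by_contra hne
    obtain ⟨g, hg⟩ := Cfsg.Agent.S4387.exists_not_mem_conj _ hne
    obtain ⟨x, hx⟩ := hcover g
    exact hg x hx
  have hPle : (P : Subgroup G) ≤ Subgroup.center G := by
    intro y hy
    rw [Subgroup.mem_center_iff]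
    intro g
    have hg : g ∈ Subgroup.centralizer (P : Set G) := by
      rw [htop]
      exact Subgroup.mem_top g
    exact ((Subgroup.mem_centralizer_iff.1 hg) y hy).symm
  have hidx : ¬ p ∣ (Subgroup.center G).index := fun h =>
    P.not_dvd_index (h.trans (Subgroup.index_dvd_of_le hPle))
  have hc : ∀ a ∈ Subgroup.center G, ∀ b ∈ Subgroup.center G, a * b = b * a := by
    intro a _ b hb
    exact (Subgroup.mem_center_iff.1 hb) a
  exact Cfsg.Agent.S4713.degrees_of_normal_abelian p (Subgroup.center G) hc hidx χ hχ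

theorem card_class_pow_dvd {G : Type*} [Group G] (g : G) (m : ℕ) :
    Nat.card (ConjClasses.mk (g ^ m)).carrier ∣ Nat.card (ConjClasses.mk g).carrier := by
  rw [card_carrier_eq_index, card_carrier_eq_index]
  apply Subgroup.index_dvd_of_le
  intro y hy
  rw [Subgroup.mem_centralizer_iff] at hy ⊢
  intro z hz
  rw [Set.mem_singleton_iff] at hz
  rw [hz]
  have h1 : Commute g y := hy g rfl
  exact (h1.pow_left m).eq

/-- class sizes outside `N` are prime to `p` -/
theorem not_dvd_card_class {G : Type*} [Group G] [Fintype G] (p : ℕ) [hpF : Fact p.Prime]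
    (N : Subgroup G) [N.Normal] [Fintype N] (k : ℕ) (hidx : N.index = p ^ k)
    (hcop : (Nat.card N).Coprime p) (χ₀ : Cfsg.IrrCharacter G)
    (h₀ : p ∣ Cfsg.charDegree (χ₀ : G → ℂ))
    (huniq : ∀ χ : Cfsg.IrrCharacter G, p ∣ Cfsg.charDegree (χ : G → ℂ) → χ = χ₀)
    (hNnt : Nontrivial N) {g : G} (hg : g ∉ N) :
    ¬ p ∣ Nat.card (ConjClasses.mk g).carrier := by
  have hp : p.Prime := hpF.out
  obtain ⟨c, hc⟩ := pow_dvd_card_centralizer p N k hidx χ₀ h₀ huniq hNnt hg
  have h1 := card_centralizer_mul_card_carrier g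
  have h2 : Nat.card N * p ^ k = Nat.card G := by rw [← hidx, Subgroup.card_mul_index]
  rw [hc, ← h2] at h1
  have h3 : c * Nat.card (ConjClasses.mk g).carrier = Nat.card N := by
    have hpos : 0 < p ^ k := pow_pos hp.pos k
    apply Nat.eq_of_mul_eq_mul_left hpos
    rw [← mul_assoc, h1, mul_comm]
  intro hdvd
  have h4 : p ∣ Nat.card N := hdvd.trans (Dvd.intro_left _ h3)
  exact (Nat.Prime.coprime_iff_not_dvd hp).1 hcop.symm h4

/-- Let p be a prime and G a finite group that is not nilpotent and has a normal p-complement (a normal subgroup of order prime to p and index a power of p). If G has exactly one irreducible complex character of degree divisible by p, then G has exactly one conjugacy class whose size is divisible by p. -/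
theorem result {G : Type*} [Group G] [Finite G] (p : ℕ) [Fact p.Prime] (hnil : ¬ Group.IsNilpotent G) (N : Subgroup G) [N.Normal] (hN : (Nat.card N).Coprime p) (hidx : ∃ k : ℕ, N.index = p ^ k) (hone : Nat.card {χ : Cfsg.IrrCharacter G // p ∣ Cfsg.charDegree (χ : G → ℂ)} = 1) : Nat.card {C : ConjClasses G // p ∣ Nat.card C.carrier} = 1 := by
  classical
  have hp : p.Prime := Fact.out
  haveI : Fintype G := Fintype.ofFinite G
  haveI : Fintype N := Fintype.ofFinite N
  haveI : Fintype (ConjClasses G) := Fintype.ofFinite _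
  obtain ⟨k, hidx⟩ := hidx
  obtain ⟨hsub, ⟨⟨χ₀, h₀⟩⟩⟩ := Nat.card_eq_one_iff_unique.1 hone
  have huniq : ∀ χ : Cfsg.IrrCharacter G, p ∣ Cfsg.charDegree (χ : G → ℂ) → χ = χ₀ :=
    fun χ h => congrArg Subtype.val (hsub.elim ⟨χ, h⟩ ⟨χ₀, h₀⟩)
  have hcardG : Nat.card N * p ^ k = Nat.card G := by rw [← hidx, Subgroup.card_mul_index]
  -- `N` is nontrivial
  have hNnt : Nontrivial N := by
    by_contra hnt
    rw [not_nontrivial_iff_subsingleton] at hnt
    have hc1 : Nat.card N = 1 := Nat.card_eq_one_iff_unique.2 ⟨hnt, ⟨1⟩⟩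
    have hG : Nat.card G = p ^ k := by rw [← hcardG, hc1, one_mul]
    exact hnil (IsPGroup.of_card hG).isNilpotent
  have hN1 : 1 < Nat.card N := Finite.one_lt_card_iff_nontrivial.2 hNnt
  -- `N` is proper
  obtain ⟨x, hx⟩ : ∃ x : G, x ∉ N := by
    by_contra hall
    push Not at hall
    have htop : N = ⊤ := (Subgroup.eq_top_iff' N).2 hall
    have h1 : N.index = 1 := Subgroup.index_eq_one.2 htop
    have h2 : p ∣ Nat.card G :=
      h₀.trans (Cfsg.Agent.Lib.Helper77_BlockBasics.charDegree_dvd_card χ₀)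
    rw [← hcardG, ← hidx, h1, mul_one] at h2
    exact (Nat.Prime.coprime_iff_not_dvd hp).1 hN.symm h2
  have hcomm := quotient_comm p N k hidx χ₀ h₀ huniq hNnt
  have hab : ∀ a b : G, a * b * a⁻¹ * b⁻¹ ∈ N := by
    intro a b
    rw [← QuotientGroup.eq_one_iff, QuotientGroup.mk_mul, QuotientGroup.mk_mul,
      QuotientGroup.mk_mul, QuotientGroup.mk_inv, QuotientGroup.mk_inv,
      hcomm (a : G ⧸ N) (b : G ⧸ N), mul_inv_cancel_right, mul_inv_cancel]
  -- class counting
  have hcount : ∀ q : G ⧸ N, cosetSum N q = (Nat.card G : ℂ) *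
      (Nat.card {C : ConjClasses G // ∀ g : G, ConjClasses.mk g = C →
        QuotientGroup.mk' N g = q} : ℂ) := by
    intro q
    have hS : ∀ g y : G, QuotientGroup.mk' N g = q → QuotientGroup.mk' N (y * g * y⁻¹) = q := by
      intro g y h
      rw [map_mul, map_mul, map_inv, hcomm (QuotientGroup.mk' N y) (QuotientGroup.mk' N g),
        mul_inv_cancel_right, h]
    rw [← sum_card_centralizer (fun g : G => QuotientGroup.mk' N g = q) hS]
    unfold cosetSum cent
    apply Finset.sum_congr rfl
    intro g _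
    split_ifs <;> rfl
  have hG0 : (Nat.card G : ℂ) ≠ 0 := by exact_mod_cast Nat.card_pos.ne'
  have hfour := cosetSum_one p N k hidx χ₀ h₀ huniq hNnt hx
  rw [hcount, hcount] at hfour
  have hAX : Nat.card {C : ConjClasses G // ∀ g : G, ConjClasses.mk g = C →
        QuotientGroup.mk' N g = (1 : G ⧸ N)} =
      Nat.card {C : ConjClasses G // ∀ g : G, ConjClasses.mk g = C →
        QuotientGroup.mk' N g = QuotientGroup.mk' N x} + 1 := by
    have h1 : (Nat.card G : ℂ) * (Nat.card {C : ConjClasses G // ∀ g : G, ConjClasses.mk g = C →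
        QuotientGroup.mk' N g = (1 : G ⧸ N)} : ℂ) = (Nat.card G : ℂ) *
        ((Nat.card {C : ConjClasses G // ∀ g : G, ConjClasses.mk g = C →
        QuotientGroup.mk' N g = QuotientGroup.mk' N x} : ℂ) + 1) := by
      rw [hfour]
      ring
    have h2 := mul_left_cancel₀ hG0 h1
    exact_mod_cast h2
  rw [Nat.card_eq_fintype_card, Fintype.card_subtype, Nat.card_eq_fintype_card,
    Fintype.card_subtype] at hAX
  rw [Nat.card_eq_fintype_card, Fintype.card_subtype]
  set A : Finset (ConjClasses G) := Finset.univ.filter (fun C : ConjClasses G =>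
    ∀ g : G, ConjClasses.mk g = C → QuotientGroup.mk' N g = (1 : G ⧸ N)) with hA
  set X : Finset (ConjClasses G) := Finset.univ.filter (fun C : ConjClasses G =>
    ∀ g : G, ConjClasses.mk g = C → QuotientGroup.mk' N g = QuotientGroup.mk' N x) with hX
  set S : Finset (ConjClasses G) := Finset.univ.filter (fun C : ConjClasses G =>
    p ∣ Nat.card C.carrier) with hSdef
  have hout : ∀ g : G, g ∉ N → ¬ p ∣ Nat.card (ConjClasses.mk g).carrier := fun g hg =>
    not_dvd_card_class p N k hidx hN χ₀ h₀ huniq hNnt hg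
  -- singular classes lie in `N`
  have hSA : S ⊆ A := by
    intro C hC
    rw [hSdef, Finset.mem_filter] at hC
    rw [hA, Finset.mem_filter]
    refine ⟨Finset.mem_univ _, ?_⟩
    intro g hg
    by_contra hgN
    have hgN' : g ∉ N := fun h => hgN ((QuotientGroup.eq_one_iff g).2 h)
    apply hout g hgN'
    rw [hg]
    exact hC.2
  -- at least one singular class
  have hS1 : 1 ≤ S.card := by
    obtain ⟨g, hg⟩ := exists_singular_class p χ₀ h₀
    apply Finset.card_pos.2
    exact ⟨ConjClasses.mk g, by rw [hSdef, Finset.mem_filter]; exact ⟨Finset.mem_univ _, hg⟩⟩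
  -- the injection
  obtain ⟨m, j, t, hm1, hm2⟩ := exists_exponent p N k hN hN1
  have hrep : ∀ C : ConjClasses G, ∃ g : G, ConjClasses.mk g = C := ConjClasses.exists_rep
  choose rep hrepC using hrep
  have hXN : ∀ C ∈ X, QuotientGroup.mk' N (rep C) = QuotientGroup.mk' N x := by
    intro C hC
    rw [hX, Finset.mem_filter] at hC
    exact hC.2 (rep C) (hrepC C)
  have hinj : X.card ≤ (A \ S).card := by
    apply Finset.card_le_card_of_injOn (fun C => ConjClasses.mk ((rep C) ^ m))
    · intro C hC
      have hCx := hXN C hC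
      have hrN : rep C ∉ N := by
        intro h
        apply hx
        rw [← QuotientGroup.eq_one_iff]
        have h5 : QuotientGroup.mk' N (rep C) = 1 := (QuotientGroup.eq_one_iff _).2 h
        rw [hCx] at h5
        exact h5
      show ConjClasses.mk ((rep C) ^ m) ∈ A \ S
      rw [Finset.mem_sdiff, hA, hSdef, Finset.mem_filter, Finset.mem_filter]
      refine ⟨⟨Finset.mem_univ _, ?_⟩, ?_⟩
      · intro g hg
        rw [ConjClasses.mk_eq_mk_iff_isConj] at hg
        obtain ⟨c, hc⟩ := isConj_iff.1 hg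
        have h6 : c * g * c⁻¹ ∈ N := by
          rw [hc]
          exact pow_exponent_mem p N k hidx m t hm1 (rep C)
        have h7 : g = c⁻¹ * (c * g * c⁻¹) * c⁻¹⁻¹ := by group
        apply (QuotientGroup.eq_one_iff g).2
        rw [h7]
        exact Subgroup.Normal.conj_mem inferInstance _ h6 _
      · rintro ⟨-, h8⟩
        exact hout (rep C) hrN (h8.trans (card_class_pow_dvd (rep C) m))
    · intro C hC C' hC' hCC'
      have hC1 := hXN C hC
      have hC2 := hXN C' hC'
      have hconj : IsConj ((rep C) ^ m) ((rep C') ^ m) :=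
        ConjClasses.mk_eq_mk_iff_isConj.1 hCC'
      have hcoset : rep C' * (rep C)⁻¹ ∈ N := by
        rw [← QuotientGroup.eq_one_iff]
        have h9 : QuotientGroup.mk' N (rep C' * (rep C)⁻¹) = 1 := by
          rw [map_mul, map_inv, hC1, hC2, mul_inv_cancel]
        exact h9
      have h10 := isConj_of_pow_isConj p N k hidx hN hab m j t hm1 hm2 (rep C) (rep C') hcoset hconj
      rw [← hrepC C, ← hrepC C']
      exact ConjClasses.mk_eq_mk_iff_isConj.2 h10
  have hsd := Finset.card_sdiff_add_card_eq_card hSA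
  omega

end Cfsg.Agent.S4763
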