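import Cfsg.Statements.S4765
import Cfsg.Agent.Lib.Helper39_PSL2

set_option autoImplicit false
open Cfsg

namespace Cfsg.Agent.S4765

/-- Let F be a finite field of characteristic p with at least 4 elements. Then PSL(2,F) has exactly one irreducible complex character of degree divisible by p, and its degree is the order of F. -/
theorem result (p : ℕ) [Fact p.Prime] (F : Type*) [Field F] [Fintype F] [CharP F p] (hF : 4 ≤ Fintype.card F) : Nat.card {χ : Cfsg.IrrCharacter (Matrix.ProjectiveSpecialLinearGroup (Fin 2) F) // p ∣ Cfsg.charDegree (χ : Matrix.ProjectiveSpecialLinearGroup (Fin 2) F → ℂ)} = 1 ∧ ∀ χ : Cfsg.IrrCharacter (Matrix.ProjectiveSpecialLinearGroup (Fin 2) F), p ∣ Cfsg.charDegree (χ : Matrix.ProjectiveSpecialLinearGroup (Fin 2) F → ℂ) → Cfsg.charDegree (χ : Matrix.ProjectiveSpecialLinearGroup (Fin 2) F → ℂ) = Fintype.card F := by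
  classical
  have : Fintype (Matrix.SpecialLinearGroup (Fin 2) F) := Fintype.ofFinite _
  refine ⟨?_, fun χ h => Cfsg.Agent.Lib.Helper39_PSL2.psl2_charDegree_eq_of_dvd p χ h⟩
  rw [Nat.card_eq_one_iff_unique]
  constructor
  · constructor
    rintro ⟨χ, h⟩ ⟨χ', h'⟩
    apply Subtype.ext
    have e := Cfsg.Agent.Lib.Helper39_PSL2.psl2_charDegree_eq_of_dvd p χ h
    have e' := Cfsg.Agent.Lib.Helper39_PSL2.psl2_charDegree_eq_of_dvd p χ' h'
    apply Cfsg.Agent.Lib.Helper39_PSL2.steinberg_psl_unique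
    · rw [(Cfsg.Agent.Lib.Helper78_CentralChar.isIrrCharacter_one_eq_charDegree χ.2).1, e]
    · rw [(Cfsg.Agent.Lib.Helper78_CentralChar.isIrrCharacter_one_eq_charDegree χ'.2).1, e']
  · obtain ⟨χ, hχ⟩ := Cfsg.Agent.Lib.Helper39_PSL2.exists_steinberg_psl (F := F)
    refine ⟨⟨χ, ?_⟩⟩
    rw [Cfsg.Agent.Lib.Helper78_CentralChar.charDegree_eq_of_one_eq_natCast hχ]
    obtain ⟨n, hp, hn⟩ := FiniteField.card F p
    rw [hn]
    exact dvd_pow_self p n.ne_zero

end Cfsg.Agent.S4765
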