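import Cfsg.Statements.S4768
import Cfsg.Agent.Lib.Helper79_SingularDL
import Cfsg.Agent.Lib.Helper76_PSolvable

set_option autoImplicit false
open Cfsg

namespace Cfsg.Agent.S4768

open Cfsg.Agent.Lib.Helper79_SingularDL

section count

variable {G : Type*} [Group G] [Finite G]

/-- inflation of a `p`-singular irreducible character of `G ⧸ N` -/
noncomputable def infl (p : ℕ) (N : Subgroup G) [N.Normal]
    (χ : {χ : Cfsg.IrrCharacter (G ⧸ N) // p ∣ Cfsg.charDegree (χ : G ⧸ N → ℂ)}) :
    {χ : Cfsg.IrrCharacter G // p ∣ Cfsg.charDegree (χ : G → ℂ)} :=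
  ⟨⟨fun x => (χ.1 : G ⧸ N → ℂ) (QuotientGroup.mk' N x),
    Cfsg.Agent.Lib.Helper57_FrobNorm.isIrrCharacter_comp_surjective (QuotientGroup.mk' N)
      (QuotientGroup.mk'_surjective N) χ.1.2⟩, by
    have h : (fun x => (χ.1 : G ⧸ N → ℂ) (QuotientGroup.mk' N x)) 1 = (χ.1 : G ⧸ N → ℂ) 1 := by
      simp
    rw [charDegree_congr h]
    exact χ.2⟩

theorem infl_apply (p : ℕ) (N : Subgroup G) [N.Normal]
    (χ : {χ : Cfsg.IrrCharacter (G ⧸ N) // p ∣ Cfsg.charDegree (χ : G ⧸ N → ℂ)}) (x : G) :
    ((infl p N χ).1 : G → ℂ) x = (χ.1 : G ⧸ N → ℂ) (QuotientGroup.mk' N x) := rfl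

theorem infl_injective (p : ℕ) (N : Subgroup G) [N.Normal] : Function.Injective (infl p N) := by
  intro χ ψ h
  apply Subtype.ext
  apply Subtype.ext
  funext y
  obtain ⟨x, rfl⟩ := QuotientGroup.mk'_surjective N y
  have := congrArg (fun φ => ((φ.1 : Cfsg.IrrCharacter G) : G → ℂ) x) h
  simpa only [infl_apply] using this

theorem card_quotient_le (p : ℕ) (N : Subgroup G) [N.Normal] :
    Nat.card {χ : Cfsg.IrrCharacter (G ⧸ N) // p ∣ Cfsg.charDegree (χ : G ⧸ N → ℂ)} ≤
      Nat.card {χ : Cfsg.IrrCharacter G // p ∣ Cfsg.charDegree (χ : G → ℂ)} := by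
  haveI : Finite (Cfsg.IrrCharacter G) := Cfsg.Agent.Lib.Helper81_CharOrth.finite_irrCharacter
  exact Nat.card_le_card_of_injective _ (infl_injective p N)

theorem card_quotient_lt (p : ℕ) (N : Subgroup G) [N.Normal] (χ₀ : Cfsg.IrrCharacter G)
    (h₀ : p ∣ Cfsg.charDegree (χ₀ : G → ℂ))
    (hn : ∃ n ∈ N, (χ₀ : G → ℂ) n ≠ (χ₀ : G → ℂ) 1) :
    Nat.card {χ : Cfsg.IrrCharacter (G ⧸ N) // p ∣ Cfsg.charDegree (χ : G ⧸ N → ℂ)} <
      Nat.card {χ : Cfsg.IrrCharacter G // p ∣ Cfsg.charDegree (χ : G → ℂ)} := by
  classical
  haveI : Finite (Cfsg.IrrCharacter G) := Cfsg.Agent.Lib.Helper81_CharOrth.finite_irrCharacter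
  haveI : Finite (Cfsg.IrrCharacter (G ⧸ N)) :=
    Cfsg.Agent.Lib.Helper81_CharOrth.finite_irrCharacter
  haveI := Fintype.ofFinite
    {χ : Cfsg.IrrCharacter (G ⧸ N) // p ∣ Cfsg.charDegree (χ : G ⧸ N → ℂ)}
  haveI := Fintype.ofFinite {χ : Cfsg.IrrCharacter G // p ∣ Cfsg.charDegree (χ : G → ℂ)}
  rw [Nat.card_eq_fintype_card, Nat.card_eq_fintype_card]
  refine Fintype.card_lt_of_injective_of_notMem (infl p N) (infl_injective p N)
    (b := ⟨χ₀, h₀⟩) ?_
  rintro ⟨χ, hχ⟩
  obtain ⟨n, hnN, hne⟩ := hn
  apply hne
  have h1 : (χ₀ : G → ℂ) = ((infl p N χ).1 : G → ℂ) := by rw [hχ]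
  have h2 : (QuotientGroup.mk' N n) = 1 := by
    rw [QuotientGroup.mk'_apply, QuotientGroup.eq_one_iff]
    exact hnN
  rw [h1, infl_apply, infl_apply, h2, map_one]

end count

section main

universe u

theorem derivedSeries_one_of_comm {Q : Type*} [Group Q] (h : ∀ a b : Q, a * b = b * a) :
    derivedSeries Q 1 = ⊥ := by
  have h0 : derivedSeries Unit 0 = ⊥ := Subsingleton.elim _ _
  exact derivedSeries_succ_eq_bot_of_hom (1 : Q →* Unit) 0 h0 (fun a b _ _ => h a b)

theorem card_quotient_lt_card {G : Type*} [Group G] [Finite G] (N : Subgroup G) [N.Normal]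
    (hN : N ≠ ⊥) : Nat.card (G ⧸ N) < Nat.card G := by
  have h1 := Subgroup.card_eq_card_quotient_mul_card_subgroup N
  have h2 : 1 < Nat.card N := (Subgroup.one_lt_card_iff_ne_bot N).2 hN
  have h3 : 0 < Nat.card (G ⧸ N) := Nat.card_pos
  rw [h1]
  nlinarith

theorem main (p : ℕ) [Fact p.Prime] : ∀ (n : ℕ) (G : Type u) [Group G] [Finite G],
    Nat.card G = n → Cfsg.IsPSolvable p G → ∀ P : Sylow p G,
      derivedSeries ↥(P : Subgroup G)
        (Nat.card {χ : Cfsg.IrrCharacter G // p ∣ Cfsg.charDegree (χ : G → ℂ)} + 1) = ⊥ := by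
  have hp : p.Prime := Fact.out
  intro n
  induction n using Nat.strong_induction_on with
  | _ n ih =>
    intro G _ _ hcard hG P
    haveI : Finite (Cfsg.IrrCharacter G) := Cfsg.Agent.Lib.Helper81_CharOrth.finite_irrCharacter
    by_cases hn0 : Nat.card {χ : Cfsg.IrrCharacter G // p ∣ Cfsg.charDegree (χ : G → ℂ)} = 0
    · -- Ito-Michler
      rw [hn0]
      have hempty : IsEmpty {χ : Cfsg.IrrCharacter G // p ∣ Cfsg.charDegree (χ : G → ℂ)} := by
        rcases Nat.card_eq_zero.1 hn0 with h | h
        · exact h
        · exact absurd (inferInstance : Finite _) (not_finite_iff_infinite.2 h)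
      have hdeg : ∀ χ : Cfsg.IrrCharacter G, ¬ p ∣ Cfsg.charDegree (χ : G → ℂ) :=
        fun χ h => hempty.false ⟨χ, h⟩
      have hcomm := ((Cfsg.Agent.S4713.result p hG P).2 hdeg).2
      exact derivedSeries_one_of_comm (fun a b => hcomm.is_comm.comm a b)
    · have hn1 : 1 ≤ Nat.card {χ : Cfsg.IrrCharacter G // p ∣ Cfsg.charDegree (χ : G → ℂ)} := by
        omega
      by_cases htriv : Subsingleton G
      · rw [eq_bot_iff]
        intro x _
        rw [Subgroup.mem_bot]
        exact Subsingleton.elim _ _
      · have hnt : Nontrivial G := not_subsingleton_iff_nontrivial.1 htriv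
        -- the homomorphism from `P` to its image in a quotient
        rcases Cfsg.Agent.Lib.Helper32_PSolvable.exists_core_ne_bot hG with h | h
        · -- `p'`-case
          set N := Cfsg.pPrimeCore p G with hNdef
          haveI hNn : N.Normal := Cfsg.Agent.Lib.Helper76_PSolvable.pPrimeCore_normal p
          have hNp : (Nat.card N).Coprime p :=
            Cfsg.Agent.Lib.Helper76_PSolvable.pPrimeCore_card_coprime p
          have hlt : Nat.card (G ⧸ N) < n := hcard ▸ card_quotient_lt_card N h
          have hIH := ih _ hlt (G ⧸ N) rfl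
            (Cfsg.Agent.Lib.Helper32_PSolvable.isPSolvable_quotient N hG)
            (P.mapSurjective (QuotientGroup.mk'_surjective N))
          have hinj : Function.Injective
              ((QuotientGroup.mk' N).subgroupMap (P : Subgroup G)) := by
            rw [injective_iff_map_eq_one]
            intro a ha
            have ha' : (a : G) ∈ N := by
              have := congrArg Subtype.val ha
              simpa only [MonoidHom.subgroupMap_apply_coe, OneMemClass.coe_one,
                QuotientGroup.mk'_apply, QuotientGroup.eq_one_iff] using this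
            obtain ⟨k, hk⟩ := P.isPGroup' a
            have h1 : orderOf (a : G) ∣ p ^ k := by
              apply orderOf_dvd_of_pow_eq_one
              have := congrArg Subtype.val hk
              simpa using this
            have h2 : orderOf (a : G) ∣ Nat.card N := by
              have := orderOf_dvd_natCard (⟨(a : G), ha'⟩ : N)
              rwa [Subgroup.orderOf_mk] at this
            have h3 : Nat.Coprime (p ^ k) (Nat.card N) := (Nat.Coprime.pow_right k hNp).symm
            have h4 : orderOf (a : G) = 1 :=
              Nat.Coprime.eq_one_of_dvd (Nat.Coprime.coprime_dvd_left h1 h3) h2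
            apply Subtype.ext
            exact orderOf_eq_one_iff.1 h4
          have h5 := derivedSeries_eq_bot_of_injective _ hinj _ hIH
          rw [eq_bot_iff, ← h5]
          apply derivedSeries_antitone
          have := card_quotient_le p N
          omega
        · -- `p`-case
          set K := Cfsg.pCore p G with hKdef
          haveI hKn : K.Normal := Cfsg.Agent.Lib.Helper76_PSolvable.pCore_normal p
          have hKp : IsPGroup p K := Cfsg.Agent.Lib.Helper76_PSolvable.pCore_isPGroup p
          haveI hKnt : Nontrivial K := (Subgroup.nontrivial_iff_ne_bot K).2 h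
          set N : Subgroup G := (Subgroup.center K).map K.subtype with hNdef
          haveI hNn : N.Normal := ConjAct.normal_of_characteristic_of_normal
          have hNK : N ≤ K := Subgroup.map_subtype_le _
          have hNp : IsPGroup p N := hKp.to_le hNK
          have hNc : ∀ a ∈ N, ∀ b ∈ N, a * b = b * a := by
            rintro a ⟨a', ha', rfl⟩ b ⟨b', hb', rfl⟩
            have := Subgroup.mem_center_iff.1 ha' b'
            have h2 := congrArg Subtype.val this
            simpa using h2.symm
          have hNne : N ≠ ⊥ := by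
            haveI := hKp.center_nontrivial
            obtain ⟨z, hz⟩ := exists_ne (1 : Subgroup.center K)
            intro hbot
            apply hz
            have h1 : ((z : K) : G) ∈ N := ⟨(z : K), z.2, rfl⟩
            rw [hbot, Subgroup.mem_bot] at h1
            apply Subtype.ext
            apply Subtype.ext
            exact h1
          have hlt : Nat.card (G ⧸ N) < n := hcard ▸ card_quotient_lt_card N hNne
          by_cases hb : ∃ χ : Cfsg.IrrCharacter G, p ∣ Cfsg.charDegree (χ : G → ℂ) ∧
              ∃ n ∈ N, (χ : G → ℂ) n ≠ (χ : G → ℂ) 1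
          · obtain ⟨χ₀, h₀, hn⟩ := hb
            have hIH := ih _ hlt (G ⧸ N) rfl
              (Cfsg.Agent.Lib.Helper32_PSolvable.isPSolvable_quotient N hG)
              (P.mapSurjective (QuotientGroup.mk'_surjective N))
            have h5 := derivedSeries_succ_eq_bot_of_hom
              ((QuotientGroup.mk' N).subgroupMap (P : Subgroup G)) _ hIH (by
                intro a b ha hb
                have ha' : (a : G) ∈ N := by
                  have := congrArg Subtype.val ha
                  simpa only [MonoidHom.subgroupMap_apply_coe, OneMemClass.coe_one,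
                    QuotientGroup.mk'_apply, QuotientGroup.eq_one_iff] using this
                have hb' : (b : G) ∈ N := by
                  have := congrArg Subtype.val hb
                  simpa only [MonoidHom.subgroupMap_apply_coe, OneMemClass.coe_one,
                    QuotientGroup.mk'_apply, QuotientGroup.eq_one_iff] using this
                apply Subtype.ext
                exact hNc _ ha' _ hb')
            rw [eq_bot_iff, ← h5]
            apply derivedSeries_antitone
            have := card_quotient_lt p N χ₀ h₀ hn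
            omega
          · push Not at hb
            have hdeg : ∀ χ : Cfsg.IrrCharacter G,
                (∃ n ∈ N, (χ : G → ℂ) n ≠ (χ : G → ℂ) 1) → ¬ p ∣ Cfsg.charDegree (χ : G → ℂ) := by
              intro χ hχ hdvd
              obtain ⟨n, hnN, hne⟩ := hχ
              exact hne (hb χ hdvd n hnN)
            have h2 := derivedSeries_two_of_over p hG N hNp hNc hNne hdeg P
            rw [eq_bot_iff, ← h2]
            apply derivedSeries_antitone
            omega

end main

/-- Let p be a prime, G a finite p-solvable group and P a Sylow p-subgroup of G. If n is the number of irreducible complex characters of G whose degree is divisible by p, then the (n+1)-st term of the derived series of P is trivial. (The p-solvable case has a direct inductive proof.) -/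
theorem result {G : Type*} [Group G] [Finite G] (p : ℕ) [Fact p.Prime] (hG : Cfsg.IsPSolvable p G) (P : Sylow p G) : derivedSeries ↥(P : Subgroup G) (Nat.card {χ : Cfsg.IrrCharacter G // p ∣ Cfsg.charDegree (χ : G → ℂ)} + 1) = ⊥ := by
  exact main p _ G rfl hG P

end Cfsg.Agent.S4768
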