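-- Statement S4784 (helper79).
import Cfsg.Statements.S4784
import Cfsg.Agent.Lib.Helper79_NormalKer
import Cfsg.Agent.Lib.Helper79_FrobSchur
import Cfsg.Agent.Lib.Helper81_FrobSchur
import Cfsg.Agent.Lib.Helper75_Induced
import Cfsg.Agent.Lib.Helper80_CharBasic
import Cfsg.Agent.Lib.Helper79_CharVals

set_option autoImplicit false
open Cfsg

namespace Cfsg.Agent.S4784

open Cfsg.Agent.Lib.Helper81_CharBasic Cfsg.Agent.Lib.Helper81_CharOrth
  Cfsg.Agent.Lib.Helper79_NormalKer Cfsg.Agent.Lib.Helper80_CharBasic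
open scoped ComplexConjugate

section aux

variable {G : Type*} [Group G] [Fintype G]

/-- The multiplicity of `χ` in the permutation character, via Frobenius reciprocity. -/
theorem mult_eq (H : Subgroup G) [Fintype H] (χ : IrrCharacter G) :
    classInner (indFun H (fun _ : H => (1 : ℂ))) (χ : G → ℂ) =
      (Nat.card H : ℂ)⁻¹ * conj (∑ h : H, (χ : G → ℂ) h) := by
  rw [Cfsg.Agent.Lib.Helper75_Induced.frobenius_reciprocity H _ _
    (IsCharacter.isClassFunction (IsIrrCharacter.isCharacter χ.2))]
  unfold classInner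
  rw [map_sum]
  simp

theorem mult_ne_zero_iff (H : Subgroup G) [Fintype H] (χ : IrrCharacter G) :
    classInner (indFun H (fun _ : H => (1 : ℂ))) (χ : G → ℂ) ≠ 0 ↔
      ∑ h : H, (χ : G → ℂ) h ≠ 0 := by
  rw [mult_eq]
  have hne : (Nat.card H : ℂ)⁻¹ ≠ 0 := by
    apply inv_ne_zero
    exact_mod_cast Nat.card_pos.ne'
  constructor
  · intro h h0
    apply h
    rw [h0, map_zero, mul_zero]
  · intro h h0
    rcases mul_eq_zero.1 h0 with h1 | h1
    · exact hne h1
    · apply h
      have := congrArg conj h1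
      simpa using this

/-- A constituent of the permutation character on the cosets of `H` is constant on cosets of the
normal core of `H`. -/
theorem irr_mul_core (H : Subgroup G) [Fintype H] (χ : IrrCharacter G)
    (hsum : ∑ h : H, (χ : G → ℂ) h ≠ 0) (g : G) {k : G} (hk : k ∈ H.normalCore) :
    (χ : G → ℂ) (g * k) = (χ : G → ℂ) g := by
  obtain ⟨n, ρ, hρ, hχ⟩ := χ.2
  haveI := hρ
  rw [← hχ] at hsum ⊢
  obtain ⟨v, hv, hfix⟩ := exists_fixed_of_sum_ne_zero ρ H hsum
  exact char_mul_of_fixed ρ H.normalCore v hv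
    (fun k hk => hfix k (H.normalCore_le hk)) g hk

/-- The sum of a non-principal irreducible character over the group vanishes. -/
theorem sum_irr_eq_zero (χ : IrrCharacter G) (hχ : χ ≠ oneIrr G) :
    ∑ g : G, (χ : G → ℂ) g = 0 := by
  have h := sum_irr_mul_irr_inv_of_ne χ.2 (oneIrr G).2
    (fun h => hχ (Subtype.ext h))
  simpa [oneIrr] using h

end aux

/-- Let H be a subgroup of the finite group G and consider the permutation character of G on the cosets of H (the function induced from the principal character of H). Then exactly one irreducible constituent of it is real-valued with Frobenius–Schur indicator +1 (namely the principal character) if and only if the normal core of H has odd index in G. -/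
theorem result {G : Type*} [Group G] [Fintype G] (H : Subgroup G) : Nat.card {χ : Cfsg.IrrCharacter G // Cfsg.classInner (Cfsg.indFun H (fun _ : H => (1 : ℂ))) (χ : G → ℂ) ≠ 0 ∧ (∀ g : G, (starRingEnd ℂ) ((χ : G → ℂ) g) = (χ : G → ℂ) g) ∧ (Nat.card G : ℂ)⁻¹ * ∑ g : G, (χ : G → ℂ) (g * g) = 1} = 1 ↔ Odd H.normalCore.index := by
  classical
  haveI : Fintype H := Fintype.ofFinite H
  haveI : Fintype (IrrCharacter G) := Fintype.ofFinite _
  have hGne : (Nat.card G : ℂ) ≠ 0 := by exact_mod_cast Nat.card_pos.ne'
  have hHne : (Nat.card H : ℂ) ≠ 0 := by exact_mod_cast Nat.card_pos.ne'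
  -- the principal character satisfies the three conditions
  have hone : Cfsg.classInner (Cfsg.indFun H (fun _ : H => (1 : ℂ))) ((oneIrr G : IrrCharacter G) : G → ℂ) ≠ 0 ∧
      (∀ g : G, (starRingEnd ℂ) (((oneIrr G : IrrCharacter G) : G → ℂ) g) =
        ((oneIrr G : IrrCharacter G) : G → ℂ) g) ∧
      (Nat.card G : ℂ)⁻¹ * ∑ g : G, ((oneIrr G : IrrCharacter G) : G → ℂ) (g * g) = 1 := by
    refine ⟨?_, ?_, ?_⟩
    · rw [mult_ne_zero_iff]
      simp only [oneIrr, Finset.sum_const, Finset.card_univ, nsmul_eq_mul, mul_one]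
      rw [← Nat.card_eq_fintype_card]
      exact hHne
    · intro g; simp [oneIrr]
    · simp only [oneIrr, Finset.sum_const, Finset.card_univ, nsmul_eq_mul, mul_one]
      rw [← Nat.card_eq_fintype_card]
      exact inv_mul_cancel₀ hGne
  constructor
  · -- (⇒)
    intro hcard
    obtain ⟨hsub, -⟩ := Nat.card_eq_one_iff_unique.1 hcard
    have huniq : ∀ χ : IrrCharacter G,
        Cfsg.classInner (Cfsg.indFun H (fun _ : H => (1 : ℂ))) (χ : G → ℂ) ≠ 0 →
        (∀ g : G, (starRingEnd ℂ) ((χ : G → ℂ) g) = (χ : G → ℂ) g) →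
        (Nat.card G : ℂ)⁻¹ * ∑ g : G, (χ : G → ℂ) (g * g) = 1 → χ = oneIrr G := by
      intro χ h1 h2 h3
      have := @Subsingleton.elim _ hsub ⟨χ, h1, h2, h3⟩ ⟨oneIrr G, hone⟩
      exact congrArg Subtype.val this
    by_contra hodd
    rw [Nat.not_odd_iff_even] at hodd
    -- an element outside `H` whose square lies in `H`
    obtain ⟨y, hyH, hyy⟩ : ∃ y : G, y ∉ H ∧ y * y ∈ H := by
      have h2 : 2 ∣ Nat.card (G ⧸ H.normalCore) := by
        rw [← Subgroup.index_eq_card]; exact hodd.two_dvd
      haveI : Fact (Nat.Prime 2) := ⟨Nat.prime_two⟩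
      obtain ⟨xbar, hxbar⟩ := exists_prime_orderOf_dvd_card' 2 h2
      obtain ⟨x, rfl⟩ := QuotientGroup.mk_surjective xbar
      have hx1 : x ∉ H.normalCore := by
        intro hx
        have : (QuotientGroup.mk x : G ⧸ H.normalCore) = 1 := (QuotientGroup.eq_one_iff x).2 hx
        rw [this, orderOf_one] at hxbar
        exact absurd hxbar (by norm_num)
      have hx2 : x * x ∈ H.normalCore := by
        rw [← QuotientGroup.eq_one_iff, QuotientGroup.mk_mul, ← pow_two, ← hxbar]
        exact pow_orderOf_eq_one _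
      have : ∃ b : G, b * x * b⁻¹ ∉ H := by
        by_contra hall
        push Not at hall
        exact hx1 hall
      obtain ⟨b, hb⟩ := this
      refine ⟨b * x * b⁻¹, hb, ?_⟩
      have h3 : b * x * b⁻¹ * (b * x * b⁻¹) = b * (x * x) * b⁻¹ := by group
      rw [h3]
      exact hx2 b
    -- counting square roots
    let nu : IrrCharacter G → ℂ := fun χ => (Nat.card G : ℂ)⁻¹ * ∑ u : G, (χ : G → ℂ) (u * u)
    have hcount : ∑ h : H, Cfsg.Agent.Lib.Helper81_FrobSchur.sqrtCount G (h : G) =
        ∑ χ : IrrCharacter G, nu χ * ∑ h : H, (χ : G → ℂ) h := by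
      simp only [Cfsg.Agent.Lib.Helper81_FrobSchur.sqrtCount_eq]
      rw [Finset.sum_comm]
      refine Finset.sum_congr rfl fun χ _ => ?_
      rw [← Finset.mul_sum]
    -- the left side counts `{u | u * u ∈ H}`
    have hleft : ∑ h : H, Cfsg.Agent.Lib.Helper81_FrobSchur.sqrtCount G (h : G) =
        ((Finset.univ.filter (fun u : G => u * u ∈ H)).card : ℂ) := by
      unfold Cfsg.Agent.Lib.Helper81_FrobSchur.sqrtCount
      have h1 : ∀ h : H, (Nat.card {u : G // u * u = (h : G)} : ℂ) =
          ∑ u : G, if u * u = (h : G) then (1 : ℂ) else 0 := by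
        intro h
        rw [Nat.card_eq_fintype_card, Fintype.card_subtype, Finset.sum_boole]
      simp only [h1]
      rw [Finset.sum_comm]
      have h2 : ∀ a : G, (∑ h : H, if a = (h : G) then (1 : ℂ) else 0) =
          if a ∈ H then 1 else 0 := by
        intro a
        by_cases ha : a ∈ H
        · rw [if_pos ha, Finset.sum_eq_single (⟨a, ha⟩ : H)]
          · simp
          · intro b _ hb
            rw [if_neg]
            intro hab
            exact hb (Subtype.ext hab.symm)
          · intro h; exact absurd (Finset.mem_univ _) h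
        · rw [if_neg ha]
          refine Finset.sum_eq_zero fun b _ => ?_
          rw [if_neg]
          intro hab
          exact ha (hab ▸ b.2)
      simp only [h2]
      rw [Finset.sum_boole]
    -- lower bound for the count
    have hlow : Fintype.card H + 1 ≤ (Finset.univ.filter (fun u : G => u * u ∈ H)).card := by
      have hsubset : insert y ((Finset.univ : Finset H).map ⟨Subtype.val, Subtype.val_injective⟩) ⊆
          Finset.univ.filter (fun u : G => u * u ∈ H) := by
        intro u hu
        rw [Finset.mem_insert] at hu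
        simp only [Finset.mem_filter, Finset.mem_univ, true_and]
        rcases hu with rfl | hu
        · exact hyy
        · obtain ⟨h, -, rfl⟩ := Finset.mem_map.1 hu
          exact H.mul_mem h.2 h.2
      have hnotin : y ∉ (Finset.univ : Finset H).map ⟨Subtype.val, Subtype.val_injective⟩ := by
        intro hy
        obtain ⟨h, -, hh⟩ := Finset.mem_map.1 hy
        exact hyH (hh ▸ h.2)
      calc Fintype.card H + 1
          = (insert y ((Finset.univ : Finset H).map ⟨Subtype.val, Subtype.val_injective⟩)).card := by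
            rw [Finset.card_insert_of_notMem hnotin, Finset.card_map, Finset.card_univ]
        _ ≤ _ := Finset.card_le_card hsubset
    -- upper bound through characters
    have hterm : ∀ χ : IrrCharacter G, χ ≠ oneIrr G →
        (nu χ * ∑ h : H, (χ : G → ℂ) h).re ≤ 0 := by
      intro χ hχ
      obtain ⟨d, hd⟩ := Cfsg.Agent.Lib.Helper79_CharVals.sum_subgroup_char
        (IsIrrCharacter.isCharacter χ.2) H
      rw [hd]
      rcases Nat.eq_zero_or_pos d with hd0 | hdpos
      · rw [hd0]; simp
      have hsumne : ∑ h : H, (χ : G → ℂ) h ≠ 0 := by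
        rw [hd]
        apply mul_ne_zero hHne
        exact_mod_cast hdpos.ne'
      obtain ⟨n, ρ, hρ, hχρ⟩ := χ.2
      haveI := hρ
      have htri := Cfsg.Agent.Lib.Helper79_FrobSchur.indicator_trichotomy ρ
      have hzero := Cfsg.Agent.Lib.Helper79_FrobSchur.indicator_eq_zero_iff ρ
      rw [hχρ] at htri hzero
      have hnu : nu χ = (Nat.card G : ℂ)⁻¹ * ∑ u : G, (χ : G → ℂ) (u * u) := rfl
      rcases htri with h0 | h1 | hm1
      · rw [hnu, h0]; simp
      · exfalso
        apply hχ
        apply huniq χ ((mult_ne_zero_iff H χ).2 hsumne) _ h1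
        intro g
        have him : ((χ : G → ℂ) g).im = 0 := by
          by_contra hne
          have := hzero.2 ⟨g, hne⟩
          rw [this] at h1
          exact zero_ne_one h1
        exact Complex.conj_eq_iff_im.2 him
      · rw [hnu, hm1]
        have : (-1 * ((Nat.card H : ℂ) * (d : ℂ))).re = -((Nat.card H : ℝ) * (d : ℝ)) := by
          simp
        rw [this]
        have : (0 : ℝ) ≤ (Nat.card H : ℝ) * (d : ℝ) := by positivity
        linarith
    have hone_term : (nu (oneIrr G) * ∑ h : H, ((oneIrr G : IrrCharacter G) : G → ℂ) h).re =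
        (Fintype.card H : ℝ) := by
      have h1 : nu (oneIrr G) = 1 := hone.2.2
      rw [h1]
      simp [oneIrr]
    have htotal : ((Finset.univ.filter (fun u : G => u * u ∈ H)).card : ℝ) ≤ (Fintype.card H : ℝ) := by
      have h1 := congrArg Complex.re (hleft.symm.trans hcount)
      rw [Complex.natCast_re, Complex.re_sum] at h1
      rw [h1, ← Finset.add_sum_erase Finset.univ _ (Finset.mem_univ (oneIrr G)), hone_term]
      have : ∑ χ ∈ Finset.univ.erase (oneIrr G), (nu χ * ∑ h : H, (χ : G → ℂ) h).re ≤ 0 :=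
        Finset.sum_nonpos fun χ hχ => hterm χ (Finset.ne_of_mem_erase hχ)
      linarith
    have : ((Fintype.card H + 1 : ℕ) : ℝ) ≤ (Fintype.card H : ℝ) := by
      calc ((Fintype.card H + 1 : ℕ) : ℝ) ≤ ((Finset.univ.filter (fun u : G => u * u ∈ H)).card : ℝ) := by
            exact_mod_cast hlow
        _ ≤ _ := htotal
    push_cast at this
    linarith
  · -- (⇐)
    intro hodd
    rw [Nat.card_eq_one_iff_unique]
    refine ⟨⟨?_⟩, ⟨⟨oneIrr G, hone⟩⟩⟩
    have key : ∀ χ : IrrCharacter G,
        Cfsg.classInner (Cfsg.indFun H (fun _ : H => (1 : ℂ))) (χ : G → ℂ) ≠ 0 →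
        (Nat.card G : ℂ)⁻¹ * ∑ g : G, (χ : G → ℂ) (g * g) = 1 → χ = oneIrr G := by
      intro χ h1 h3
      by_contra hne
      rw [mult_ne_zero_iff] at h1
      have h4 := sum_sq_eq_sum_of_odd_index H.normalCore hodd (χ : G → ℂ)
        (fun g k hk => irr_mul_core H χ h1 g hk)
      rw [h4, sum_irr_eq_zero χ hne, mul_zero] at h3
      exact zero_ne_one h3
    rintro ⟨χ, h1, h2, h3⟩ ⟨ψ, h1', h2', h3'⟩
    apply Subtype.ext
    exact (key χ h1 h3).trans (key ψ h1' h3').symm

end Cfsg.Agent.S4784
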