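import Cfsg.Statements.S4797
import Cfsg.Agent.Lib.Helper80_Codegree
import Cfsg.Agent.Lib.Helper79_Linear

set_option autoImplicit false
set_option linter.style.haveILetI false
open Cfsg

namespace Cfsg.Agent.S4797

open scoped ComplexConjugate
open Cfsg.Agent.Lib.Helper80_CharBasic Cfsg.Agent.Lib.Helper80_CharComplete
  Cfsg.Agent.Lib.Helper80_Codegree
open Cfsg.Agent.S4835 (irrKer mem_irrKer)

/-- A homomorphism from a perfect group to a commutative group is trivial. -/
theorem hom_trivial_of_perfect {Q A : Type*} [Group Q] [CommGroup A]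
    (hperf : commutator Q = ⊤) (f : Q →* A) (g : Q) : f g = 1 := by
  have h := Abelianization.commutator_subset_ker f
  rw [hperf] at h
  exact h (Subgroup.mem_top g)

/-- A perfect finite group cannot have order `p * n` with `0 < n < p`. -/
theorem perfect_contra {Q : Type*} [Group Q] [Finite Q] (p n : ℕ) (hp : p.Prime) (hn : 0 < n)
    (hnp : n < p) (hcard : Nat.card Q = p * n) (hperf : commutator Q = ⊤) : False := by
  classical
  haveI : Fact p.Prime := ⟨hp⟩
  have hpn : ¬ p ∣ n := fun h => absurd (Nat.le_of_dvd hn h) (by omega)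
  obtain ⟨P⟩ : Nonempty (Sylow p Q) := inferInstance
  -- the Sylow subgroup has order p
  have hPcard : Nat.card (P : Subgroup Q) = p := by
    obtain ⟨k, hk⟩ := IsPGroup.iff_card.mp P.isPGroup'
    have hidx := (P : Subgroup Q).card_mul_index
    rw [hk, hcard] at hidx
    have hnd : ¬ p ∣ (P : Subgroup Q).index := P.not_dvd_index
    rcases k with _ | _ | k
    · exfalso
      rw [pow_zero, one_mul] at hidx
      exact hnd (hidx ▸ dvd_mul_right p n)
    · rw [hk]; simp
    · exfalso
      have : p ^ (k + 1 + 1) * (P : Subgroup Q).index = p * (p ^ (k + 1) * (P : Subgroup Q).index) := by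
        ring
      rw [this] at hidx
      have h2 := Nat.eq_of_mul_eq_mul_left hp.pos hidx
      exact hpn (h2 ▸ Dvd.dvd.mul_right (dvd_pow_self p (by omega)) _)
  have hidx : (P : Subgroup Q).index = n := by
    have h := (P : Subgroup Q).card_mul_index
    rw [hPcard, hcard] at h
    exact Nat.eq_of_mul_eq_mul_left hp.pos h
  -- unique Sylow subgroup
  have hone : Nat.card (Sylow p Q) = 1 := by
    have h1 : Nat.card (Sylow p Q) ≡ 1 [MOD p] := card_sylow_modEq_one p Q
    have h2 : Nat.card (Sylow p Q) ∣ n := hidx ▸ P.card_dvd_index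
    have h3 : Nat.card (Sylow p Q) ≤ n := Nat.le_of_dvd hn h2
    have h4 : Nat.card (Sylow p Q) < p := by omega
    have h5 := h1
    unfold Nat.ModEq at h5
    rw [Nat.mod_eq_of_lt h4, Nat.mod_eq_of_lt hp.one_lt] at h5
    exact h5
  have hnormal : (P : Subgroup Q).Normal := by
    rw [← Subgroup.normalizer_eq_top_iff, ← Subgroup.index_eq_one]
    exact P.card_eq_index_normalizer.symm.trans hone
  haveI := hnormal
  haveI hcyc : IsCyclic (P : Subgroup Q) := isCyclic_of_prime_card hPcard
  -- P is central
  have hcentral : ∀ g : Q, ∀ x ∈ (P : Subgroup Q), g * x * g⁻¹ = x := by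
    intro g x hx
    let φ : Q →* (ZMod (Nat.card (P : Subgroup Q)))ˣ :=
      (IsCyclic.mulAutMulEquiv (P : Subgroup Q)).toMonoidHom.comp
        (MulAut.conjNormal (H := (P : Subgroup Q)))
    have h1 : φ g = 1 := hom_trivial_of_perfect hperf φ g
    have h2 : (MulAut.conjNormal (H := (P : Subgroup Q)) g) = 1 := by
      have : (IsCyclic.mulAutMulEquiv (P : Subgroup Q))
          (MulAut.conjNormal (H := (P : Subgroup Q)) g) = 1 := h1
      exact (MulEquiv.map_eq_one_iff _).mp this
    have h3 := congrArg (fun α : MulAut (P : Subgroup Q) => ((α ⟨x, hx⟩ : (P : Subgroup Q)) : Q)) h2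
    simp only [MulAut.conjNormal_apply, MulAut.one_apply] at h3
    exact h3
  have hP : Subgroup.normalizer ((P : Subgroup Q) : Set Q) ≤
      Subgroup.centralizer ((P : Subgroup Q) : Set Q) := by
    intro g _
    rw [Subgroup.mem_centralizer_iff]
    intro x hx
    have := hcentral g x hx
    calc x * g = (g * x * g⁻¹) * g := by rw [this]
      _ = g * x := by group
  -- Burnside transfer
  have hcompl := MonoidHom.ker_transferSylow_isComplement' P hP
  letI : CommGroup (P : Subgroup Q) := hcyc.commGroup
  have hker : (MonoidHom.transferSylow P hP).ker = ⊤ := by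
    rw [eq_top_iff]
    intro g _
    exact hom_trivial_of_perfect hperf (MonoidHom.transferSylow P hP) g
  rw [hker] at hcompl
  have h1 := hcompl.card_mul_card
  rw [Subgroup.card_top, hPcard, hcard] at h1
  have : p * n * p = p * n * 1 := by rw [h1, mul_one]
  have h2 := Nat.eq_of_mul_eq_mul_left (Nat.mul_pos hp.pos hn) this
  exact hp.one_lt.ne' h2


/-- Quotients of perfect groups are perfect. -/
theorem commutator_quotient_eq_top {G : Type*} [Group G] (K : Subgroup G) [K.Normal]
    (hperf : commutator G = ⊤) : commutator (G ⧸ K) = ⊤ := by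
  have hsurj : Function.Surjective (QuotientGroup.mk' K) := QuotientGroup.mk'_surjective K
  have h1 : Subgroup.map (QuotientGroup.mk' K) (⊤ : Subgroup G) = ⊤ :=
    Subgroup.map_top_of_surjective _ hsurj
  rw [commutator_def, ← h1, ← Subgroup.map_commutator, ← commutator_def, hperf]

/-- `|ker χ| * χ(1)^2 ≤ |G|`. -/
theorem card_ker_mul_sq_le {G : Type*} [Group G] [Finite G] (χ : Cfsg.IrrCharacter G) :
    Nat.card (irrKer χ) * Cfsg.charDegree (χ : G → ℂ) ^ 2 ≤ Nat.card G := by
  classical
  haveI := Fintype.ofFinite G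
  have h := irr_norm_conj χ
  have hre : ∑ g : G, Complex.normSq ((χ : G → ℂ) g) = (Nat.card G : ℝ) := by
    have h2 := congrArg Complex.re h
    rw [Complex.re_sum] at h2
    simp only [Complex.mul_conj, Complex.ofReal_re, Complex.natCast_re] at h2
    exact h2
  have hsub : ∑ g ∈ Finset.univ.filter (fun g : G => g ∈ irrKer χ),
      Complex.normSq ((χ : G → ℂ) g) ≤ ∑ g : G, Complex.normSq ((χ : G → ℂ) g) :=
    Finset.sum_le_sum_of_subset_of_nonneg (Finset.filter_subset _ _)
      (fun g _ _ => Complex.normSq_nonneg _)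
  have hker : ∑ g ∈ Finset.univ.filter (fun g : G => g ∈ irrKer χ),
      Complex.normSq ((χ : G → ℂ) g) =
      (Nat.card (irrKer χ) : ℝ) * (Cfsg.charDegree (χ : G → ℂ) : ℝ) ^ 2 := by
    have : ∀ g ∈ Finset.univ.filter (fun g : G => g ∈ irrKer χ),
        Complex.normSq ((χ : G → ℂ) g) = (Cfsg.charDegree (χ : G → ℂ) : ℝ) ^ 2 := by
      intro g hg
      have hg' : (χ : G → ℂ) g = (χ : G → ℂ) 1 := (Finset.mem_filter.mp hg).2
      rw [hg', apply_one_eq_charDegree χ, Complex.normSq_natCast, sq]
    rw [Finset.sum_congr rfl this, Finset.sum_const, nsmul_eq_mul]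
    congr 2
    rw [Nat.card_eq_fintype_card, Fintype.card_subtype]
  rw [hre, hker] at hsub
  exact_mod_cast hsub

theorem result {G : Type*} [Group G] [Finite G] [Nontrivial G] : commutator G = ⊤ ↔ ∀ χ : Cfsg.IrrCharacter G, ¬ ((Nat.card G / (Nat.card {g : G // (χ : G → ℂ) g = (χ : G → ℂ) 1} * Cfsg.charDegree (χ : G → ℂ)))).Prime := by
  classical
  constructor
  · intro hperf χ hprime
    have hprime' : (cod χ).Prime := hprime
    set p := cod χ with hp
    set n := Cfsg.charDegree (χ : G → ℂ) with hn
    have hnpos : 0 < n := charDegree_pos χ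
    have hpn : p * n = (irrKer χ).index := cod_mul_charDegree χ
    have hQcard : Nat.card (G ⧸ irrKer χ) = p * n := by
      rw [hpn, Subgroup.index_eq_card]
    have hQperf := commutator_quotient_eq_top (irrKer χ) hperf
    -- n ≤ p
    have hle : n ≤ p := by
      have h1 := card_ker_mul_sq_le χ
      rw [← (irrKer χ).card_mul_index, ← hpn] at h1
      have hK : 0 < Nat.card (irrKer χ) := Nat.card_pos
      have h2 : n ^ 2 ≤ p * n := Nat.le_of_mul_le_mul_left h1 hK
      rw [sq] at h2
      exact Nat.le_of_mul_le_mul_right h2 hnpos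
    rcases Nat.lt_or_ge n p with hlt | hge
    · exact perfect_contra p n hprime' hnpos hlt hQcard hQperf
    · have hnp : n = p := le_antisymm hle hge
      haveI : Fact p.Prime := ⟨hprime'⟩
      have hQ2 : Nat.card (G ⧸ irrKer χ) = p ^ 2 := by rw [hQcard, hnp, sq]
      have hcomm' := IsPGroup.isMulCommutative_of_card_eq_prime_sq hQ2
      have hcomm : ∀ a b : G ⧸ irrKer χ, a * b = b * a := fun a b => hcomm'.is_comm.comm a b
      letI : CommGroup (G ⧸ irrKer χ) := { (inferInstance : Group (G ⧸ irrKer χ)) with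
        mul_comm := hcomm }
      have htriv : ∀ q : G ⧸ irrKer χ, q = 1 := fun q =>
        hom_trivial_of_perfect hQperf (MonoidHom.id (G ⧸ irrKer χ)) q
      haveI : Subsingleton (G ⧸ irrKer χ) := ⟨fun a b => by rw [htriv a, htriv b]⟩
      have : Nat.card (G ⧸ irrKer χ) = 1 := Nat.card_unique
      rw [hQ2] at this
      have h1 : p = 1 := by
        have := Nat.pow_eq_one.mp this
        rcases this with h | h
        · exact h
        · omega
      exact hprime'.one_lt.ne' h1
  · intro hall
    by_contra hne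
    -- a nontrivial homomorphism to ℂˣ
    have hidx : (commutator G).index ≠ 1 := fun h => hne (Subgroup.index_eq_one.mp h)
    have hcardhom : Nat.card (G →* ℂˣ) = (commutator G).index := by
      rw [← Cfsg.Agent.Lib.Helper79_Linear.card_linear,
        Nat.card_congr Cfsg.Agent.Lib.Helper79_Linear.linearEquiv]
    have hidxpos : (commutator G).index ≠ 0 := Subgroup.index_ne_zero_of_finite
    haveI : Finite (G →* ℂˣ) := Nat.finite_of_card_ne_zero (by rw [hcardhom]; exact hidxpos)
    haveI : Nontrivial (G →* ℂˣ) := by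
      rw [← Finite.one_lt_card_iff_nontrivial, hcardhom]
      omega
    obtain ⟨f, hf⟩ := exists_ne (1 : G →* ℂˣ)
    set m := orderOf f with hm
    have hm0 : m ≠ 0 := (orderOf_pos f).ne'
    have hm1 : m ≠ 1 := fun h => hf (orderOf_eq_one_iff.mp h)
    set p := m.minFac with hp
    have hpprime : p.Prime := Nat.minFac_prime hm1
    have hpm : p ∣ m := Nat.minFac_dvd m
    set μ : G →* ℂˣ := f ^ (m / p) with hμ
    have hμord : orderOf μ = p := orderOf_pow_orderOf_div hm0 hpm
    have hμp : ∀ g : G, (μ g) ^ p = 1 := by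
      intro g
      have : μ ^ p = 1 := by rw [← hμord]; exact pow_orderOf_eq_one μ
      have := congrArg (fun h : G →* ℂˣ => h g) this
      simpa using this
    have hμne : μ ≠ 1 := by
      intro h
      rw [h, orderOf_one] at hμord
      exact hpprime.one_lt.ne hμord
    -- the associated irreducible character
    let ψ : Cfsg.IrrCharacter G :=
      ⟨fun g => ((μ g : ℂˣ) : ℂ), Cfsg.Agent.Lib.Helper79_Linear.isIrrCharacter_of_hom μ⟩
    have hψ1 : (ψ : G → ℂ) 1 = ((1 : ℕ) : ℂ) := by
      show ((μ 1 : ℂˣ) : ℂ) = ((1 : ℕ) : ℂ)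
      simp
    have hdeg : Cfsg.charDegree (ψ : G → ℂ) = 1 :=
      Cfsg.Agent.Lib.Helper78_CentralChar.charDegree_eq_of_one_eq_natCast hψ1
    have hkercard : Nat.card {g : G // (ψ : G → ℂ) g = (ψ : G → ℂ) 1} = Nat.card μ.ker := by
      apply Nat.card_congr
      refine Equiv.subtypeEquivRight (fun g => ?_)
      rw [MonoidHom.mem_ker]
      show ((μ g : ℂˣ) : ℂ) = ((μ 1 : ℂˣ) : ℂ) ↔ μ g = 1
      rw [map_one, Units.val_one, Units.val_eq_one]
    have hcod : Nat.card G / (Nat.card {g : G // (ψ : G → ℂ) g = (ψ : G → ℂ) 1} *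
        Cfsg.charDegree (ψ : G → ℂ)) = Nat.card μ.range := by
      rw [hkercard, hdeg, mul_one, ← Subgroup.index_ker, ← μ.ker.card_mul_index,
        Nat.mul_div_cancel_left _ Nat.card_pos]
    -- the range has order p
    have hrange : Nat.card μ.range = p := by
      haveI : Finite μ.range :=
        Finite.of_surjective μ.rangeRestrict μ.rangeRestrict_surjective
      obtain ⟨y, hy⟩ := IsCyclic.exists_generator (α := μ.range)
      have hord : orderOf y = Nat.card μ.range := orderOf_eq_card_of_forall_mem_zpowers hy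
      have hyp : y ^ p = 1 := by
        obtain ⟨g, hg⟩ := y.2
        apply Subtype.ext
        rw [Subgroup.coe_pow, ← hg, hμp g]
        rfl
      have hdvd : Nat.card μ.range ∣ p := hord ▸ orderOf_dvd_of_pow_eq_one hyp
      rcases (Nat.dvd_prime hpprime).mp hdvd with h | h
      · exfalso
        apply hμne
        ext g
        have hsub : Subsingleton μ.range := (Nat.card_eq_one_iff_unique.mp h).1
        have := Subsingleton.elim (⟨μ g, g, rfl⟩ : μ.range) 1
        have := congrArg Subtype.val this
        simpa using this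
      · exact h
    apply hall ψ
    rw [hcod, hrange]
    exact hpprime

end Cfsg.Agent.S4797
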