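import Cfsg.Statements.S4801
import Cfsg.Agent.Lib.Helper80_Codegree

set_option autoImplicit false
set_option linter.style.haveILetI false
open Cfsg

namespace Cfsg.Agent.S4801

open scoped ComplexConjugate
open Cfsg.Agent.Lib.Helper80_CharBasic Cfsg.Agent.Lib.Helper80_CharComplete
  Cfsg.Agent.Lib.Helper80_Codegree
open Cfsg.Agent.S4835 (irrKer mem_irrKer)

/-- Sum of squares of degrees, in `ℕ`. -/
theorem sum_sq_charDegree {S : Type*} [Group S] [Finite S] [Fintype (Cfsg.IrrCharacter S)] :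
    ∑ χ : Cfsg.IrrCharacter S, Cfsg.charDegree (χ : S → ℂ) ^ 2 = Nat.card S := by
  have h := sum_sq_degrees (G := S)
  rw [finsum_eq_sum_of_fintype] at h
  have h2 : ∑ χ : Cfsg.IrrCharacter S, ((Cfsg.charDegree (χ : S → ℂ) ^ 2 : ℕ) : ℂ) =
      (Nat.card S : ℂ) := by
    rw [← h]
    refine Finset.sum_congr rfl fun χ _ => ?_
    rw [apply_one_eq_charDegree χ]
    push_cast
    rfl
  rw [← Nat.cast_sum] at h2
  exact_mod_cast h2

/-- In a simple group, a non-principal irreducible character has trivial kernel. -/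
theorem irrKer_eq_bot {S : Type*} [Group S] [Finite S] (hS : IsSimpleGroup S)
    (χ : Cfsg.IrrCharacter S) (hχ : χ ≠ oneIrr S) : irrKer χ = ⊥ := by
  classical
  haveI := Fintype.ofFinite S
  rcases hS.eq_bot_or_eq_top_of_normal (irrKer χ) inferInstance with h | h
  · exact h
  · exfalso
    have hall : ∀ g : S, (χ : S → ℂ) g = (χ : S → ℂ) 1 := by
      intro g
      have : g ∈ irrKer χ := by rw [h]; trivial
      exact this
    have horth := irr_orthogonal χ (oneIrr S) hχ
    have e1 : ∀ x : S, ((oneIrr S : Cfsg.IrrCharacter S) : S → ℂ) x = 1 := fun _ => rfl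
    simp only [e1, mul_one, hall] at horth
    rw [Finset.sum_const, Finset.card_univ, nsmul_eq_mul] at horth
    obtain ⟨n, hn, h1⟩ := irr_apply_one χ
    rw [h1] at horth
    have : Fintype.card S * n = 0 := by exact_mod_cast horth
    have hc : 0 < Fintype.card S := Fintype.card_pos
    rcases Nat.mul_eq_zero.mp this with h0 | h0 <;> omega

theorem result {S : Type*} [Group S] [Finite S] (hS : IsSimpleGroup S) {G : Type*} [Group G] [Finite G] (hsub : ∀ χ : Cfsg.IrrCharacter S, ∃ ψ : Cfsg.IrrCharacter G, (Nat.card S / (Nat.card {g : S // (χ : S → ℂ) g = (χ : S → ℂ) 1} * Cfsg.charDegree (χ : S → ℂ))) = (Nat.card G / (Nat.card {g : G // (ψ : G → ℂ) g = (ψ : G → ℂ) 1} * Cfsg.charDegree (ψ : G → ℂ)))) : Nat.card S ∣ Nat.card G := by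
  classical
  haveI := Fintype.ofFinite (Cfsg.IrrCharacter S)
  rw [Nat.dvd_iff_prime_pow_dvd_dvd]
  intro p a hp hpa
  rcases Nat.eq_zero_or_pos a with ha | ha
  · rw [ha, pow_zero]; exact one_dvd _
  have hpS : p ∣ Nat.card S := dvd_trans (dvd_pow_self p ha.ne') hpa
  -- a non-principal character of degree prime to p
  have hex : ∃ χ : Cfsg.IrrCharacter S, χ ≠ oneIrr S ∧ ¬ p ∣ Cfsg.charDegree (χ : S → ℂ) := by
    by_contra hcon
    simp only [not_exists, not_and, not_not] at hcon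
    have hsum := sum_sq_charDegree (S := S)
    rw [← Finset.add_sum_erase Finset.univ _ (Finset.mem_univ (oneIrr S))] at hsum
    have h1 : Cfsg.charDegree ((oneIrr S : Cfsg.IrrCharacter S) : S → ℂ) = 1 := by
      apply Cfsg.Agent.Lib.Helper78_CentralChar.charDegree_eq_of_one_eq_natCast
      show (1 : ℂ) = ((1 : ℕ) : ℂ)
      simp
    rw [h1] at hsum
    have hdvd : p ∣ ∑ χ ∈ Finset.univ.erase (oneIrr S), Cfsg.charDegree (χ : S → ℂ) ^ 2 := by
      apply Finset.dvd_sum
      intro χ hχ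
      exact dvd_pow (hcon χ (Finset.mem_erase.mp hχ).1) (by norm_num)
    have : p ∣ 1 := by
      have h2 : p ∣ 1 ^ 2 + ∑ χ ∈ Finset.univ.erase (oneIrr S),
          Cfsg.charDegree (χ : S → ℂ) ^ 2 := by rw [hsum]; exact hpS
      rw [one_pow] at h2
      exact (Nat.dvd_add_left hdvd).mp h2
    exact hp.one_lt.ne' (Nat.dvd_one.mp this)
  obtain ⟨χ, hχ1, hpχ⟩ := hex
  have hker : irrKer χ = ⊥ := irrKer_eq_bot hS χ hχ1
  have hcard : Nat.card {g : S // (χ : S → ℂ) g = (χ : S → ℂ) 1} = 1 := by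
    rw [card_ker_eq, hker]
    exact Subgroup.card_bot
  have hcod := cod_mul χ
  rw [hcard, one_mul] at hcod
  -- p^a ∣ cod χ
  have hpa_cod : p ^ a ∣ cod χ := by
    have hcop : Nat.Coprime (p ^ a) (Cfsg.charDegree (χ : S → ℂ)) :=
      Nat.Coprime.pow_left a ((Nat.Prime.coprime_iff_not_dvd hp).mpr hpχ)
    rw [← hcod] at hpa
    exact hcop.dvd_of_dvd_mul_right hpa
  obtain ⟨ψ, hψ⟩ := hsub χ
  have hψ' : cod χ = cod ψ := hψ
  rw [hψ'] at hpa_cod
  exact dvd_trans hpa_cod (cod_dvd_card ψ)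

end Cfsg.Agent.S4801
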