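import Cfsg.Statements.S4796
import Cfsg.Agent.Lib.Helper80_Codegree
import Cfsg.Agent.Lib.Helper80_CharInd
import Cfsg.Agent.S0187
import Cfsg.Agent.S4108
import Cfsg.Agent.S4801
import Cfsg.Agent.S4797

set_option autoImplicit false
set_option linter.style.haveILetI false
open Cfsg

namespace Cfsg.Agent.S4796

open scoped ComplexConjugate
open Cfsg.Agent.Lib.Helper80_CharBasic Cfsg.Agent.Lib.Helper80_CharComplete
open Cfsg.Agent.Lib.Helper80_Codegree Cfsg.Agent.Lib.Helper80_CharInd
open Cfsg.Agent.S4835 (irrKer mem_irrKer)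

/-- For a character `ψ` of a commutative group `A`, `⟨ψ, ψ⟩ ≥ ψ(1)`. -/
theorem norm_sq_ge_of_comm {A : Type*} [Group A] [Fintype A] (hA : ∀ a b : A, a * b = b * a)
    (ψ : A → ℂ) (hψ : Cfsg.IsCharacter A ψ) (n : ℕ) (hn : ψ 1 = n) :
    (n : ℝ) * Nat.card A ≤ ∑ a : A, Complex.normSq (ψ a) := by
  classical
  haveI : Fintype (Cfsg.IrrCharacter A) := Fintype.ofFinite _
  obtain ⟨b, hb, hexp⟩ := char_decomp ψ hψ
  have hlin : ∀ μ : Cfsg.IrrCharacter A, (μ : A → ℂ) 1 = 1 := Cfsg.Agent.S0187.result.mp hA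
  -- degree
  have hdeg : (n : ℂ) = ∑ μ : Cfsg.IrrCharacter A, (b μ : ℂ) := by
    rw [← hn]
    conv_lhs => rw [hexp]
    rw [Finset.sum_apply]
    refine Finset.sum_congr rfl fun μ _ => ?_
    rw [Pi.smul_apply, hlin, smul_eq_mul, mul_one]
  have hdegN : n = ∑ μ : Cfsg.IrrCharacter A, b μ := by exact_mod_cast hdeg
  -- norm
  have hnorm : Cfsg.classInner ψ ψ = ∑ μ : Cfsg.IrrCharacter A, ((b μ : ℂ)) ^ 2 := by
    conv_lhs => rw [hexp]
    rw [Cfsg.Agent.Lib.Helper3_CharOrtho.classInner_sum_left]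
    refine Finset.sum_congr rfl fun μ _ => ?_
    rw [Cfsg.Agent.Lib.Helper3_CharOrtho.classInner_smul_left, ← hexp,
      ← Cfsg.Agent.Lib.Helper3_CharOrtho.classInner_conj_symm, hb, Complex.conj_natCast, sq]
  have hnormN : Cfsg.classInner ψ ψ = ((∑ μ : Cfsg.IrrCharacter A, (b μ) ^ 2 : ℕ) : ℂ) := by
    rw [hnorm]; push_cast; rfl
  have hle : n ≤ ∑ μ : Cfsg.IrrCharacter A, (b μ) ^ 2 := by
    rw [hdegN]
    refine Finset.sum_le_sum fun μ _ => ?_
    rcases Nat.eq_zero_or_pos (b μ) with h | h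
    · rw [h]; simp
    · nlinarith
  have hApos : (0 : ℝ) < Nat.card A := by exact_mod_cast Nat.card_pos
  have hAne : (Nat.card A : ℂ) ≠ 0 := by exact_mod_cast Nat.card_pos.ne'
  have hsum : ∑ a : A, Complex.normSq (ψ a) =
      (Nat.card A : ℝ) * ((∑ μ : Cfsg.IrrCharacter A, (b μ) ^ 2 : ℕ) : ℝ) := by
    have h1 : ((∑ a : A, Complex.normSq (ψ a) : ℝ) : ℂ) =
        (Nat.card A : ℂ) * Cfsg.classInner ψ ψ := by
      unfold Cfsg.classInner
      rw [← mul_assoc, mul_inv_cancel₀ hAne, one_mul]
      push_cast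
      refine Finset.sum_congr rfl fun a _ => ?_
      rw [Complex.mul_conj]
    rw [hnormN] at h1
    exact_mod_cast h1
  rw [hsum, mul_comm]
  have : (n : ℝ) ≤ ((∑ μ : Cfsg.IrrCharacter A, (b μ) ^ 2 : ℕ) : ℝ) := by exact_mod_cast hle
  exact mul_le_mul_of_nonneg_left this hApos.le

theorem sum_normSq {G : Type*} [Group G] [Fintype G] (χ : Cfsg.IrrCharacter G) :
    ∑ g : G, Complex.normSq ((χ : G → ℂ) g) = (Nat.card G : ℝ) := by
  have h := irr_norm_conj χ
  have h2 := congrArg Complex.re h
  rw [Complex.re_sum] at h2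
  simp only [Complex.mul_conj, Complex.ofReal_re, Complex.natCast_re] at h2
  exact h2

/-- A group of order `p * n` with `n < p` has a normal subgroup of order `p`. -/
theorem exists_normal_sylow {Q : Type*} [Group Q] [Finite Q] (p n : ℕ) (hp : p.Prime) (hn : 0 < n)
    (hnp : n < p) (hcard : Nat.card Q = p * n) :
    ∃ P : Subgroup Q, P.Normal ∧ Nat.card P = p ∧ P.index = n := by
  classical
  haveI : Fact p.Prime := ⟨hp⟩
  have hpn : ¬ p ∣ n := fun h => absurd (Nat.le_of_dvd hn h) (by omega)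
  obtain ⟨P⟩ : Nonempty (Sylow p Q) := inferInstance
  have hPcard : Nat.card (P : Subgroup Q) = p := by
    obtain ⟨k, hk⟩ := IsPGroup.iff_card.mp P.isPGroup'
    have hidx := (P : Subgroup Q).card_mul_index
    rw [hk, hcard] at hidx
    have hnd : ¬ p ∣ (P : Subgroup Q).index := P.not_dvd_index
    rcases k with _ | _ | k
    · exfalso
      rw [pow_zero, one_mul] at hidx
      exact hnd (hidx ▸ dvd_mul_right p n)
    · rw [hk]; simp
    · exfalso
      have : p ^ (k + 1 + 1) * (P : Subgroup Q).index =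
          p * (p ^ (k + 1) * (P : Subgroup Q).index) := by
        ring
      rw [this] at hidx
      have h2 := Nat.eq_of_mul_eq_mul_left hp.pos hidx
      exact hpn (h2 ▸ Dvd.dvd.mul_right (dvd_pow_self p (by omega)) _)
  have hidx : (P : Subgroup Q).index = n := by
    have h := (P : Subgroup Q).card_mul_index
    rw [hPcard, hcard] at h
    exact Nat.eq_of_mul_eq_mul_left hp.pos h
  have hone : Nat.card (Sylow p Q) = 1 := by
    have h1 : Nat.card (Sylow p Q) ≡ 1 [MOD p] := card_sylow_modEq_one p Q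
    have h2 : Nat.card (Sylow p Q) ∣ n := hidx ▸ P.card_dvd_index
    have h3 : Nat.card (Sylow p Q) ≤ n := Nat.le_of_dvd hn h2
    have h4 : Nat.card (Sylow p Q) < p := by omega
    have h5 := h1
    unfold Nat.ModEq at h5
    rw [Nat.mod_eq_of_lt h4, Nat.mod_eq_of_lt hp.one_lt] at h5
    exact h5
  have hnormal : (P : Subgroup Q).Normal := by
    rw [← Subgroup.normalizer_eq_top_iff, ← Subgroup.index_eq_one]
    exact P.card_eq_index_normalizer.symm.trans hone
  exact ⟨P, hnormal, hPcard, hidx⟩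

/-- Let G be a finite group with a faithful irreducible complex character χ whose codegree #G / χ(1) is a prime p (for a faithful character the kernel is trivial, so the codegree is #G / χ(1)). Then either G is cyclic of order p, or G is a Frobenius group whose Frobenius kernel has order p: some proper non-trivial subgroup H satisfies H ∩ gHg⁻¹ = 1 for every element g outside H, and the set of elements lying in no conjugate of H, together with the identity, has exactly p elements. -/
theorem result {G : Type*} [Group G] [Finite G] (χ : Cfsg.IrrCharacter G) (hfaith : ∀ g : G, (χ : G → ℂ) g = (χ : G → ℂ) 1 → g = 1) (p : ℕ) (hp : p.Prime) (hcod : Nat.card G = p * Cfsg.charDegree (χ : G → ℂ)) : (IsCyclic G ∧ Nat.card G = p) ∨ ∃ H : Subgroup G, Cfsg.IsFrobeniusComplement H ∧ Nat.card ↥(Cfsg.frobeniusKernel H) = p := by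
  classical
  haveI : Fintype G := Fintype.ofFinite G
  haveI : Fintype (Cfsg.IrrCharacter G) := Fintype.ofFinite _
  haveI : Fact p.Prime := ⟨hp⟩
  set n := Cfsg.charDegree (χ : G → ℂ) with hn
  have hnpos : 0 < n := charDegree_pos χ
  have hχ1 : (χ : G → ℂ) 1 = n := apply_one_eq_charDegree χ
  by_cases hn1 : n = 1
  · left
    rw [hn1, mul_one] at hcod
    exact ⟨isCyclic_of_prime_card hcod, hcod⟩
  right
  have hn2 : 2 ≤ n := by omega
  -- commutative subgroups have order at most p
  have hab : ∀ A : Subgroup G, (∀ a b : A, a * b = b * a) → Nat.card A ≤ p := by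
    intro A hA
    have hψ : Cfsg.IsCharacter A (fun a : A => (χ : G → ℂ) a) :=
      Cfsg.Agent.Lib.Helper75_CharArith.isCharacter_restrict A
        (Cfsg.Agent.Lib.Helper78_CentralChar.isIrrCharacter_isCharacter χ.2)
    have h1 := norm_sq_ge_of_comm hA _ hψ n (by simpa using hχ1)
    have h2 : ∑ a : A, Complex.normSq ((χ : G → ℂ) a) ≤
        ∑ g : G, Complex.normSq ((χ : G → ℂ) g) := by
      have : ∑ a : A, Complex.normSq ((χ : G → ℂ) a) =
          ∑ g ∈ (Finset.univ : Finset A).image Subtype.val, Complex.normSq ((χ : G → ℂ) g) := by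
        rw [Finset.sum_image (Subtype.val_injective.injOn)]
      rw [this]
      exact Finset.sum_le_sum_of_subset_of_nonneg (Finset.subset_univ _)
        (fun g _ _ => Complex.normSq_nonneg _)
    rw [sum_normSq, hcod] at h2
    have h3 : (n : ℝ) * Nat.card A ≤ ((p * n : ℕ) : ℝ) := h1.trans h2
    have h4 : n * Nat.card A ≤ n * p := by
      rw [mul_comm n p]
      exact_mod_cast h3
    exact Nat.le_of_mul_le_mul_left h4 hnpos
  -- n < p
  have hnp : n < p := by
    have hsum := Cfsg.Agent.S4801.sum_sq_charDegree (S := G)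
    have hne : χ ≠ oneIrr G := by
      intro h
      have h1 : (χ : G → ℂ) 1 = 1 := by rw [h]; rfl
      rw [hχ1] at h1
      have : n = 1 := by exact_mod_cast h1
      exact hn1 this
    have h2 : ∑ ψ ∈ ({χ, oneIrr G} : Finset (Cfsg.IrrCharacter G)),
        Cfsg.charDegree (ψ : G → ℂ) ^ 2 ≤
        ∑ ψ : Cfsg.IrrCharacter G, Cfsg.charDegree (ψ : G → ℂ) ^ 2 :=
      Finset.sum_le_sum_of_subset (Finset.subset_univ _)
    rw [Finset.sum_pair hne, hsum, hcod] at h2
    have h3 : 0 < Cfsg.charDegree ((oneIrr G : Cfsg.IrrCharacter G) : G → ℂ) := charDegree_pos _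
    by_contra hcon
    have hpn' : p ≤ n := by omega
    have : p * n ≤ n * n := Nat.mul_le_mul_right n hpn'
    nlinarith
  obtain ⟨P, hnormal, hPcard, hidx⟩ := exists_normal_sylow p n hp hnpos hnp hcod
  haveI := hnormal
  have hpn : ¬ p ∣ n := fun h => absurd (Nat.le_of_dvd hnpos h) (by omega)
  -- the centralizer of P is P
  have hcent : ∀ c : G, (∀ x ∈ P, c * x = x * c) → c ∈ P := by
    intro c hc
    let k : Set G := (P : Set G) ∪ {c}
    have hPcomm : ∀ x ∈ P, ∀ y ∈ P, x * y = y * x := by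
      intro x hx y hy
      haveI : IsCyclic P := isCyclic_of_prime_card hPcard
      letI := IsCyclic.commGroup (α := P)
      have := mul_comm (⟨x, hx⟩ : P) ⟨y, hy⟩
      exact congrArg Subtype.val this
    have hcomm : ∀ x ∈ k, ∀ y ∈ k, x * y = y * x := by
      rintro x (hx | hx) y (hy | hy)
      · exact hPcomm x hx y hy
      · rw [Set.mem_singleton_iff] at hy; subst hy; exact (hc x hx).symm
      · rw [Set.mem_singleton_iff] at hx; subst hx; exact hc y hy
      · rw [Set.mem_singleton_iff] at hx hy; rw [hx, hy]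
    letI := Subgroup.closureCommGroupOfComm hcomm
    have hA := hab (Subgroup.closure k) (fun a b => mul_comm a b)
    have hle : P ≤ Subgroup.closure k := fun x hx => Subgroup.subset_closure (Or.inl hx)
    have heq : P = Subgroup.closure k :=
      Subgroup.eq_of_le_of_card_ge hle (by rw [hPcard]; exact hA)
    rw [heq]
    exact Subgroup.subset_closure (Or.inr rfl)
  -- Schur-Zassenhaus
  have hcop : Nat.Coprime (Nat.card P) P.index := by
    rw [hPcard, hidx]; exact (Nat.Prime.coprime_iff_not_dvd hp).mpr hpn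
  obtain ⟨H, hH⟩ := Subgroup.exists_right_complement'_of_coprime hcop
  have hHcard : Nat.card H = n := by
    have := hH.card_mul_card
    rw [hPcard, hcod] at this
    exact Nat.eq_of_mul_eq_mul_left hp.pos this
  have hsup : P ⊔ H = ⊤ := hH.sup_eq_top
  have hinf : P ⊓ H = ⊥ := hH.disjoint.eq_bot
  have hPne : P ≠ ⊥ := by
    intro h
    rw [h, Subgroup.card_bot] at hPcard
    exact hp.one_lt.ne' hPcard.symm
  have hHne : H ≠ ⊥ := by
    intro h
    rw [h, Subgroup.card_bot] at hHcard
    omega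
  have hfpf : ∀ h ∈ H, h ≠ 1 → ∀ x ∈ P, h * x = x * h → x = 1 := by
    intro h hh hh1 x hx hcomm
    by_contra hx1
    have hgen : Subgroup.zpowers (⟨x, hx⟩ : P) = ⊤ :=
      zpowers_eq_top_of_prime_card hPcard (fun h' => hx1 (congrArg Subtype.val h'))
    have hhP : h ∈ P := by
      apply hcent
      intro y hy
      have hmem : (⟨y, hy⟩ : P) ∈ Subgroup.zpowers (⟨x, hx⟩ : P) := by rw [hgen]; trivial
      obtain ⟨k, hk⟩ := Subgroup.mem_zpowers_iff.mp hmem
      have hy' : y = x ^ k := by
        have := congrArg Subtype.val hk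
        simpa using this.symm
      rw [hy']
      have hc : Commute h x := hcomm
      exact hc.zpow_right k
    have : h ∈ P ⊓ H := ⟨hhP, hh⟩
    rw [hinf] at this
    exact hh1 (Subgroup.mem_bot.mp this)
  obtain ⟨hF, hK⟩ := Cfsg.Agent.S4108.frobenius_of_fpf P H hsup hinf hPne hHne hfpf
  refine ⟨H, hF, ?_⟩
  rw [hK]
  exact hPcard

end Cfsg.Agent.S4796
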