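import Cfsg.Statements.S4798
import Cfsg.Agent.Lib.Helper80_CharInd
import Cfsg.Agent.S0135

set_option autoImplicit false
set_option linter.style.haveILetI false
open Cfsg

namespace Cfsg.Agent.S4798

open scoped ComplexConjugate
open Cfsg.Agent.Lib.Helper80_CharBasic Cfsg.Agent.Lib.Helper80_CharComplete
  Cfsg.Agent.Lib.Helper80_CharInd

/-- The degree of an irreducible character divides the group order. -/
theorem irr_degree_dvd {H : Type*} [Group H] [Finite H] (θ : Cfsg.IrrCharacter H) (d : ℕ)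
    (hd : (θ : H → ℂ) 1 = d) : d ∣ Nat.card H := by
  obtain ⟨m, σ, hσ, hσθ⟩ := θ.2
  haveI := hσ
  have h := Cfsg.Agent.S0135.result σ
  have h1 : (σ.character 1 : ℂ) = (m : ℂ) := by
    rw [Representation.char_one]; simp
  rw [hσθ, hd] at h1
  have h2 : d = m := by exact_mod_cast h1
  simp only [Module.finrank_fin_fun] at h
  rw [h2]
  exact h

theorem result {G : Type*} [Group G] [Fintype G] (p : ℕ) [Fact p.Prime] (χ : Cfsg.IrrCharacter G) (hfaith : ∀ g : G, (χ : G → ℂ) g = (χ : G → ℂ) 1 → g = 1) : (∃ k : ℕ, Nat.card G = p ^ k * Cfsg.charDegree (χ : G → ℂ)) ↔ ∃ (P : Sylow p G) (θ : ↥(P : Subgroup G) → ℂ), Cfsg.IsCharacter ↥(P : Subgroup G) θ ∧ (χ : G → ℂ) = Cfsg.indFun (P : Subgroup G) θ := by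
  classical
  have hp : p.Prime := Fact.out
  obtain ⟨n, hn, hχ1⟩ := irr_apply_one χ
  have hdeg : Cfsg.charDegree (χ : G → ℂ) = n :=
    Cfsg.Agent.Lib.Helper78_CentralChar.charDegree_eq_of_one_eq_natCast hχ1
  rw [hdeg]
  have hndvd : n ∣ Nat.card G := irr_degree_dvd χ n hχ1
  constructor
  · -- codegree a p-power ⇒ induced from a Sylow subgroup
    rintro ⟨k, hk⟩
    obtain ⟨P⟩ : Nonempty (Sylow p G) := inferInstance
    haveI : Fintype (P : Subgroup G) := Fintype.ofFinite _
    haveI := Fintype.ofFinite (Cfsg.IrrCharacter (P : Subgroup G))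
    set idx := (P : Subgroup G).index with hidx
    have hidx_pos : 0 < idx := Nat.pos_of_ne_zero (Subgroup.index_ne_zero_of_finite)
    have hPidx : Nat.card (P : Subgroup G) * idx = Nat.card G := (P : Subgroup G).card_mul_index
    have hpidx : ¬ p ∣ idx := P.not_dvd_index
    obtain ⟨a, ha⟩ := (IsPGroup.iff_card.mp P.isPGroup')
    -- restriction of χ to P
    set χP : ↥(P : Subgroup G) → ℂ := fun x => (χ : G → ℂ) x with hχP
    have hχPchar : Cfsg.IsCharacter (P : Subgroup G) χP :=
      Cfsg.Agent.Lib.Helper75_CharArith.isCharacter_restrict (P : Subgroup G)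
        (Cfsg.Agent.Lib.Helper78_CentralChar.isIrrCharacter_isCharacter χ.2)
    obtain ⟨b, hb, hexp⟩ := char_decomp χP hχPchar
    choose d hdpos hd using fun θ : Cfsg.IrrCharacter (P : Subgroup G) => irr_apply_one θ
    have hddvd : ∀ θ : Cfsg.IrrCharacter (P : Subgroup G), d θ ∣ p ^ a := by
      intro θ
      rw [← ha]
      exact irr_degree_dvd θ (d θ) (hd θ)
    -- n = ∑ b θ * d θ
    have hnsum : n = ∑ θ : Cfsg.IrrCharacter (P : Subgroup G), b θ * d θ := by
      have h1 := congrFun hexp 1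
      simp only [Finset.sum_apply, Pi.smul_apply, smul_eq_mul, hd] at h1
      have h2 : χP 1 = (n : ℂ) := by
        simp only [hχP]
        rw [OneMemClass.coe_one, hχ1]
      rw [h2] at h1
      exact_mod_cast h1
    -- numerics: p^k * n = p^a * idx
    have hnum : p ^ k * n = p ^ a * idx := by rw [← hk, ← hPidx, ha]
    have hka : k ≤ a := by
      by_contra hlt
      have hlt' : a < k := by omega
      have h1 : p ^ (a + 1) ∣ p ^ a * idx := by
        rw [← hnum]
        exact Dvd.dvd.mul_right (pow_dvd_pow p (by omega)) n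
      rw [pow_succ] at h1
      have := (Nat.mul_dvd_mul_iff_left (pow_pos hp.pos a)).mp h1
      exact hpidx this
    have hn_eq : n = p ^ (a - k) * idx := by
      have h1 : p ^ k * n = p ^ k * (p ^ (a - k) * idx) := by
        rw [hnum, ← mul_assoc, ← pow_add]
        congr 2
        omega
      exact Nat.eq_of_mul_eq_mul_left (pow_pos hp.pos k) h1
    -- there is a constituent θ of small degree
    have hex : ∃ θ : Cfsg.IrrCharacter (P : Subgroup G), b θ ≠ 0 ∧ d θ ∣ p ^ (a - k) := by
      by_contra hcon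
      simp only [not_exists, not_and] at hcon
      have hall : ∀ θ : Cfsg.IrrCharacter (P : Subgroup G), p ^ (a - k + 1) ∣ b θ * d θ := by
        intro θ
        by_cases hbθ : b θ = 0
        · rw [hbθ, zero_mul]; exact dvd_zero _
        · obtain ⟨j, hj, hdj⟩ := (Nat.dvd_prime_pow hp).mp (hddvd θ)
          have hnd := hcon θ hbθ
          rw [hdj] at hnd ⊢
          have hjlt : a - k < j := by
            by_contra hle
            exact hnd (pow_dvd_pow p (by omega))
          exact Dvd.dvd.mul_left (pow_dvd_pow p hjlt) _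
      have hdvdn : p ^ (a - k + 1) ∣ n := by
        rw [hnsum]
        exact Finset.dvd_sum fun θ _ => hall θ
      rw [hn_eq, pow_succ] at hdvdn
      have := (Nat.mul_dvd_mul_iff_left (pow_pos hp.pos (a - k))).mp hdvdn
      exact hpidx this
    obtain ⟨θ, hbθ, hdθ⟩ := hex
    refine ⟨P, (θ : ↥(P : Subgroup G) → ℂ),
      Cfsg.Agent.Lib.Helper78_CentralChar.isIrrCharacter_isCharacter θ.2, ?_⟩
    symm
    have hindchar : Cfsg.IsCharacter G (Cfsg.indFun (P : Subgroup G) (θ : ↥(P : Subgroup G) → ℂ)) :=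
      Cfsg.Agent.Lib.Helper75_IndChar.isCharacter_indFun (P : Subgroup G)
        (Cfsg.Agent.Lib.Helper78_CentralChar.isIrrCharacter_isCharacter θ.2)
    have hind1 : Cfsg.indFun (P : Subgroup G) (θ : ↥(P : Subgroup G) → ℂ) 1 =
        ((idx * d θ : ℕ) : ℂ) := by
      rw [indFun_one, hd θ]
      push_cast
      rfl
    apply eq_of_constituent_of_degree_le _ hindchar χ ?_ (idx * d θ) n hind1 hχ1
    · rw [hn_eq, mul_comm]
      exact Nat.mul_le_mul_right idx (Nat.le_of_dvd (pow_pos hp.pos _) hdθ)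
    · -- Frobenius reciprocity
      rw [Cfsg.Agent.Lib.Helper75_Induced.frobenius_reciprocity (P : Subgroup G)
        (θ : ↥(P : Subgroup G) → ℂ) (χ : G → ℂ) (irr_isClassFunction χ)]
      have h1 : Cfsg.classInner (θ : ↥(P : Subgroup G) → ℂ) χP =
          conj (Cfsg.classInner χP (θ : ↥(P : Subgroup G) → ℂ)) := by
        unfold Cfsg.classInner
        rw [map_mul, map_inv₀, Complex.conj_natCast, map_sum]
        congr 1
        refine Finset.sum_congr rfl fun x _ => ?_
        rw [map_mul, Complex.conj_conj, mul_comm]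
      show Cfsg.classInner (θ : ↥(P : Subgroup G) → ℂ) χP ≠ 0
      rw [h1, hb θ, Complex.conj_natCast]
      exact_mod_cast hbθ
  · -- induced from a Sylow subgroup ⇒ codegree a p-power
    rintro ⟨P, θ, hθ, hχθ⟩
    obtain ⟨t, ht⟩ := Cfsg.Agent.Lib.Helper78_CentralChar.isCharacter_one_eq_natCast hθ
    set idx := (P : Subgroup G).index with hidx
    have hidx_pos : 0 < idx := Nat.pos_of_ne_zero (Subgroup.index_ne_zero_of_finite)
    have hPidx : Nat.card (P : Subgroup G) * idx = Nat.card G := (P : Subgroup G).card_mul_index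
    obtain ⟨a, ha⟩ := (IsPGroup.iff_card.mp P.isPGroup')
    have hnt : n = idx * t := by
      have h1 := congrFun hχθ 1
      rw [hχ1, indFun_one, ht] at h1
      exact_mod_cast h1
    -- t ∣ p^a
    have htdvd : t ∣ p ^ a := by
      rw [hnt, ← hPidx, ha, mul_comm] at hndvd
      exact (Nat.mul_dvd_mul_iff_right hidx_pos).mp hndvd
    obtain ⟨j, hj, htj⟩ := (Nat.dvd_prime_pow hp).mp htdvd
    refine ⟨a - j, ?_⟩
    rw [← hPidx, ha, hnt, htj]
    have : p ^ a = p ^ (a - j) * p ^ j := by rw [← pow_add]; congr 1; omega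
    rw [this]
    ring

end Cfsg.Agent.S4798
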