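import Cfsg.Statements.S4802
import Cfsg.Agent.Lib.Helper80_CharComplete
import Cfsg.Agent.Lib.Helper16_Quot

set_option autoImplicit false
set_option linter.style.haveILetI false
open Cfsg

namespace Cfsg.Agent.S4802

open scoped ComplexConjugate
open Cfsg.Agent.Lib.Helper80_CharBasic Cfsg.Agent.Lib.Helper80_CharComplete

/-- If a normal subgroup `N` is not in the kernel of the irreducible representation `σ`, then
`∑_{n ∈ N} χ(g n) = 0` for every `g`. -/
theorem sum_coset_eq_zero {G : Type*} [Group G] [Finite G] {m : ℕ}
    (σ : Representation ℂ G (Fin m → ℂ)) [σ.IsIrreducible] (N : Subgroup G) [N.Normal]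
    [Fintype N] (hN : ∃ x ∈ N, σ.character x ≠ σ.character 1) (g : G) :
    ∑ n : N, σ.character (g * (n : G)) = 0 := by
  classical
  rcases Cfsg.Agent.Lib.Helper16_Quot.invSubrep_eq_bot_or_top σ N with hb | ht
  · -- the averaging operator vanishes
    have hinv : Representation.invariants (σ.comp N.subtype) = ⊥ :=
      congrArg Subrepresentation.toSubmodule hb
    set T : Module.End ℂ (Fin m → ℂ) := ∑ n : N, σ (n : G) with hT
    have hT0 : T = 0 := by
      refine LinearMap.ext fun v => ?_
      have hmem : T v ∈ Representation.invariants (σ.comp N.subtype) := by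
        rw [Representation.mem_invariants]
        intro k
        show σ (k : G) (T v) = T v
        rw [hT, LinearMap.sum_apply, map_sum]
        refine Fintype.sum_equiv (Equiv.mulLeft k) _ _ ?_
        intro n
        simp only [Equiv.coe_mulLeft, Subgroup.coe_mul, map_mul, Module.End.mul_apply]
      rw [hinv, Submodule.mem_bot] at hmem
      rw [hmem]
      rfl
    have h1 : ∑ n : N, σ.character (g * (n : G)) = LinearMap.trace ℂ _ (σ g * T) := by
      rw [hT, Finset.mul_sum, map_sum]
      refine Finset.sum_congr rfl fun n _ => ?_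
      rw [Representation.character, map_mul]
    rw [h1, hT0, mul_zero, map_zero]
  · exfalso
    have htriv := Cfsg.Agent.Lib.Helper16_Quot.isTrivial_of_invSubrep_eq_top σ N ht
    obtain ⟨x, hxN, hx⟩ := hN
    apply hx
    have hσx : σ x = LinearMap.id := htriv.out ⟨x, hxN⟩
    rw [Representation.character, hσx, Representation.char_one]
    simp

theorem result {G : Type*} [Group G] [Finite G] (N M : Subgroup G) [N.Normal] [M.Normal] (hNM : N < M) (g : G) (hgM : g ∈ M) (hgN : g ∉ N) : {h : G | IsConj g h} = (M : Set G) \ (N : Set G) ↔ ((∀ χ : Cfsg.IrrCharacter G, (∀ x ∈ N, (χ : G → ℂ) x = (χ : G → ℂ) 1) → ∀ x ∈ M, x ∉ N → ∀ y ∈ M, y ∉ N → (χ : G → ℂ) x = (χ : G → ℂ) y) ∧ (∀ χ : Cfsg.IrrCharacter G, (∃ x ∈ N, (χ : G → ℂ) x ≠ (χ : G → ℂ) 1) → (χ : G → ℂ) g = 0)) := by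
  classical
  haveI := Fintype.ofFinite G
  haveI := Fintype.ofFinite (Cfsg.IrrCharacter G)
  constructor
  · intro hcl
    have hconj : ∀ x ∈ M, x ∉ N → IsConj g x := by
      intro x hxM hxN
      have : x ∈ {h : G | IsConj g h} := by rw [hcl]; exact ⟨hxM, hxN⟩
      exact this
    constructor
    · intro χ _ x hxM hxN y hyM hyN
      rw [← irr_isConj χ (hconj x hxM hxN), ← irr_isConj χ (hconj y hyM hyN)]
    · intro χ hχ
      obtain ⟨m, σ, hσ, hσχ⟩ := χ.2
      haveI := hσ
      haveI : Fintype N := Fintype.ofFinite N
      have hsum := sum_coset_eq_zero σ N (by rw [hσχ]; exact hχ) g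
      rw [hσχ] at hsum
      have hconst : ∀ n : N, (χ : G → ℂ) (g * (n : G)) = (χ : G → ℂ) g := by
        intro n
        have h1 : g * (n : G) ∈ M := M.mul_mem hgM (hNM.le n.2)
        have h2 : g * (n : G) ∉ N := by
          intro h
          apply hgN
          have := N.mul_mem h (N.inv_mem n.2)
          simpa using this
        exact (irr_isConj χ (hconj _ h1 h2)).symm
      rw [Finset.sum_congr rfl (fun n _ => hconst n), Finset.sum_const, nsmul_eq_mul] at hsum
      rcases mul_eq_zero.mp hsum with h | h
      · exfalso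
        have : (Finset.univ : Finset N).card ≠ 0 := Finset.card_ne_zero.mpr ⟨1, Finset.mem_univ _⟩
        exact this (by exact_mod_cast h)
      · exact h
  · rintro ⟨hA, hB⟩
    ext x
    constructor
    · intro hx
      obtain ⟨c, hc⟩ := isConj_iff.mp (show IsConj g x from hx)
      constructor
      · rw [← hc]; exact ‹M.Normal›.conj_mem g hgM c
      · intro hxN
        apply hgN
        have := ‹N.Normal›.conj_mem x hxN c⁻¹
        rw [← hc] at this
        simpa [mul_assoc] using this
    · rintro ⟨hxM, hxN⟩
      show IsConj g x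
      by_contra hnc
      have h2 := second_orthogonality_sum (G := G) g x
      rw [if_neg hnc] at h2
      -- every term has nonnegative real part, the principal character contributes 1
      have hterm : ∀ χ : Cfsg.IrrCharacter G,
          0 ≤ ((χ : G → ℂ) g * conj ((χ : G → ℂ) x)).re := by
        intro χ
        by_cases hk : ∀ y ∈ N, (χ : G → ℂ) y = (χ : G → ℂ) 1
        · rw [← hA χ hk g hgM hgN x hxM hxN, Complex.mul_conj]
          simp only [Complex.ofReal_re]
          exact Complex.normSq_nonneg _
        · simp only [not_forall] at hk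
          obtain ⟨y, hyN, hy⟩ := hk
          rw [hB χ ⟨y, hyN, hy⟩, zero_mul]
          simp
      have hone : (((oneIrr G : Cfsg.IrrCharacter G) : G → ℂ) g *
          conj (((oneIrr G : Cfsg.IrrCharacter G) : G → ℂ) x)).re = 1 := by
        show ((1 : ℂ) * conj (1 : ℂ)).re = 1
        simp
      have hge := Finset.single_le_sum (f := fun χ : Cfsg.IrrCharacter G =>
        ((χ : G → ℂ) g * conj ((χ : G → ℂ) x)).re) (fun χ _ => hterm χ)
        (Finset.mem_univ (oneIrr G))
      simp only [hone] at hge
      rw [← Complex.re_sum, h2] at hge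
      simp at hge
      linarith

end Cfsg.Agent.S4802
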