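import Cfsg.Statements.S4811
import Cfsg.Agent.Lib.Helper78_Manz

set_option autoImplicit false
open Cfsg

namespace Cfsg.Agent.S4811

/-- For every finite solvable group G the character degree graph of G (vertices: the primes dividing some irreducible complex character degree; edges: distinct primes whose product divides some degree) has at most two connected components. -/
theorem result {G : Type*} [Group G] [Finite G] [Group.IsSolvable G] : Nat.card ((Cfsg.degreeGraph G).induce (Cfsg.degreePrimes G)).ConnectedComponent ≤ 2 := by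
  classical
  by_contra hcon
  push Not at hcon
  have hfin : Finite ((Cfsg.degreeGraph G).induce (Cfsg.degreePrimes G)).ConnectedComponent :=
    Nat.finite_of_card_ne_zero (by omega)
  have : Fintype ((Cfsg.degreeGraph G).induce (Cfsg.degreePrimes G)).ConnectedComponent :=
    Fintype.ofFinite _
  rw [Nat.card_eq_fintype_card] at hcon
  obtain ⟨c0, c1, c2, h01, h02, h12⟩ := Fintype.two_lt_card_iff.mp hcon
  obtain ⟨c, hcinj⟩ : ∃ c : Fin 3 → ((Cfsg.degreeGraph G).induce
      (Cfsg.degreePrimes G)).ConnectedComponent, ∀ i j, i ≠ j → c i ≠ c j := by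
    refine ⟨![c0, c1, c2], ?_⟩
    intro i j hij
    fin_cases i <;> fin_cases j <;> simp_all [Ne.symm]
  let π : Fin 3 → Set ℕ := fun i => {p | ∃ h : p ∈ Cfsg.degreePrimes G,
    ((Cfsg.degreeGraph G).induce (Cfsg.degreePrimes G)).connectedComponentMk ⟨p, h⟩ = c i}
  apply Cfsg.Agent.Lib.Helper78_Manz.no_bad (Nat.card G) G rfl π
  refine ⟨?_, ?_, ?_⟩
  · intro i
    obtain ⟨⟨p, hp⟩, hpc⟩ := (c i).exists_rep
    refine ⟨p, ⟨hp, hpc⟩, hp.1, ?_⟩
    obtain ⟨d, ⟨χ, rfl⟩, hd⟩ := hp.2
    exact ⟨χ, hd⟩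
  · intro i j hij
    rw [Set.disjoint_left]
    rintro p ⟨h, h1⟩ ⟨h', h2⟩
    exact hcinj i j hij (h1.symm.trans h2)
  · rintro χ i p q hp hq ⟨h, hpc⟩ hpd hqd
    have hq' : q ∈ Cfsg.degreePrimes G := ⟨hq, _, ⟨χ, rfl⟩, hqd⟩
    refine ⟨hq', ?_⟩
    by_cases hpq : p = q
    · subst hpq
      exact hpc
    · rw [← hpc]
      apply SimpleGraph.ConnectedComponent.sound
      apply SimpleGraph.Adj.reachable
      show (Cfsg.degreeGraph G).Adj q p
      refine ⟨Ne.symm hpq, hq, hp, _, ⟨χ, rfl⟩, ?_⟩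
      exact Nat.Coprime.mul_dvd_of_dvd_of_dvd ((Nat.coprime_primes hq hp).mpr (Ne.symm hpq)) hqd hpd

end Cfsg.Agent.S4811
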