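import Cfsg.Statements.S4813
import Cfsg.Agent.S4466
import Cfsg.Agent.S4071
import Cfsg.Agent.Lib.Helper74_PrimeDegC

set_option autoImplicit false
open Cfsg

namespace Cfsg.Agent.S4813

universe u

open Cfsg.Agent.Lib.Helper74_PrimeDegC Cfsg.Agent.Lib.Helper75_Clifford

/-- a solvable group whose nonlinear irreducible characters have prime degree has at most three
character degrees -/
theorem three_degrees : ∀ (n : ℕ) (G : Type u) [Group G] [Finite G], Nat.card G = n →
    Group.IsSolvable G →
    (∀ χ : Cfsg.IrrCharacter G, Cfsg.charDegree (χ : G → ℂ) ≠ 1 →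
      (Cfsg.charDegree (χ : G → ℂ)).Prime) →
    ∃ a b : ℕ, ∀ χ : Cfsg.IrrCharacter G, Cfsg.charDegree (χ : G → ℂ) = 1 ∨
      Cfsg.charDegree (χ : G → ℂ) = a ∨ Cfsg.charDegree (χ : G → ℂ) = b := by
  intro n
  induction n using Nat.strong_induction_on with
  | _ n ih =>
    intro G _ _ hn hsolv h
    classical
    by_cases hnt : Nontrivial G
    · have : Fintype G := Fintype.ofFinite G
      obtain ⟨N, hN, hp⟩ := Cfsg.Agent.S4071.exists_normal_prime_index (G := G)
      have : Fintype N := Fintype.ofFinite N
      rcases key_prime_index N hp rfl h with hall | ⟨q, hq⟩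
      · have hlt : Nat.card N < n := by
          have h1 := Subgroup.card_mul_index N
          have h2 := hp.two_le
          have h3 : 0 < Nat.card N := Nat.card_pos
          rw [← hn, ← h1]
          nlinarith
        have hsN : Group.IsSolvable N := inferInstance
        obtain ⟨a, b, hab⟩ := ih (Nat.card N) hlt N rfl hsN (Cfsg.Agent.S4466.hyp_normal h N hN)
        refine ⟨a, b, fun χ => ?_⟩
        have h4 := hab ⟨res N (χ : G → ℂ), hall χ⟩
        have h5 : Cfsg.charDegree (res N (χ : G → ℂ)) = Cfsg.charDegree (χ : G → ℂ) := by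
          unfold Cfsg.charDegree
          rfl
        rw [← h5]
        exact h4
      · exact ⟨N.index, q, hq⟩
    · rw [not_nontrivial_iff_subsingleton] at hnt
      refine ⟨1, 1, fun χ => ?_⟩
      left
      have h1 := Cfsg.Agent.Lib.Helper77_BlockBasics.charDegree_dvd_card χ
      rw [Nat.card_unique] at h1
      exact Nat.dvd_one.mp h1

/-- If every irreducible complex character of the finite group G of degree greater than one has prime degree, then G has at most three distinct irreducible character degrees. -/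
theorem result {G : Type*} [Group G] [Finite G] (hprime : ∀ d ∈ Cfsg.charDegrees G, d = 1 ∨ d.Prime) : Nat.card ↥(Cfsg.charDegrees G) ≤ 3 := by
  have h : ∀ χ : Cfsg.IrrCharacter G, Cfsg.charDegree (χ : G → ℂ) ≠ 1 →
      (Cfsg.charDegree (χ : G → ℂ)).Prime :=
    fun χ h1 => (hprime _ ⟨χ, rfl⟩).resolve_left h1
  have hsolv : Group.IsSolvable G := Cfsg.Agent.S4466.result h
  obtain ⟨a, b, hab⟩ := three_degrees (Nat.card G) G rfl hsolv h
  have hsub : Cfsg.charDegrees G ⊆ ((({1, a, b} : Finset ℕ)) : Set ℕ) := by
    rintro d ⟨χ, rfl⟩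
    rw [Finset.mem_coe, Finset.mem_insert, Finset.mem_insert, Finset.mem_singleton]
    exact hab χ
  rw [Nat.card_coe_set_eq]
  calc (Cfsg.charDegrees G).ncard ≤ ((({1, a, b} : Finset ℕ)) : Set ℕ).ncard :=
        Set.ncard_le_ncard hsub (Finset.finite_toSet _)
    _ = ({1, a, b} : Finset ℕ).card := Set.ncard_coe_finset _
    _ ≤ 3 := Finset.card_le_three

end Cfsg.Agent.S4813
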