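import Mathlib
import Cfsg.Statements.S4825
import Cfsg.Agent.Lib.Helper75_Clifford
import Cfsg.Agent.Lib.Helper78_CharFacts
import Cfsg.Agent.Lib.Helper16_HeightZero
import Cfsg.Agent.Lib.Helper77_BlockBasics
-- import your own Cfsg.Agent.* helpers here

set_option autoImplicit false
set_option linter.style.haveILetI false
open Cfsg

namespace Cfsg.Agent.S4825

open Cfsg
open scoped ComplexConjugate
open Cfsg.Agent.Lib.Helper78_LocalRing Cfsg.Agent.Lib.Helper77_BlockBasics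
  Cfsg.Agent.Lib.Helper75_CharArith Cfsg.Agent.Lib.Helper3_CharBridge
  Cfsg.Agent.Lib.Helper3_CharOrtho Cfsg.Agent.Lib.Helper75_Clifford

/-- The orbit sum: `∑_{θ' ∈ orbit of θ} θ'(1) [θ', χ_N]` is `χ(1)` if `χ` lies over `θ` and `0`
otherwise. -/
theorem orbit_sum {G : Type*} [Group G] [Fintype G] (N : Subgroup G) (hN : N.Normal) [Fintype N]
    (θ : IrrCharacter N) (χ : IrrCharacter G) (Θ : Finset (IrrCharacter N))
    (hΘ : ∀ θ' : IrrCharacter N, θ' ∈ Θ ↔ ∃ g : G, (θ' : N → ℂ) = conjFun N hN (θ : N → ℂ) g) :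
    ∑ θ' ∈ Θ, (θ' : N → ℂ) 1 * classInner (θ' : N → ℂ) (res N (χ : G → ℂ)) =
      if classInner (res N (χ : G → ℂ)) (θ : N → ℂ) ≠ 0 then (χ : G → ℂ) 1 else 0 := by
  classical
  have hχc : IsClassFunction G (χ : G → ℂ) := isClassFunction_of_isIrrCharacter χ.2
  by_cases h : classInner (res N (χ : G → ℂ)) (θ : N → ℂ) = 0
  · rw [if_neg (not_not.mpr h)]
    apply Finset.sum_eq_zero
    intro θ' hθ'
    obtain ⟨g, hg⟩ := (hΘ θ').mp hθ'
    have h1 : classInner (res N (χ : G → ℂ)) (θ' : N → ℂ) = 0 := by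
      rw [hg, classInner_res_conjFun N hN hχc (θ : N → ℂ) g, h]
    rw [← classInner_conj_symm, h1, map_zero, mul_zero]
  · rw [if_pos h]
    have hres : IsCharacter N (res N (χ : G → ℂ)) :=
      isCharacter_res N (isCharacter_of_isIrrCharacter χ.2)
    obtain ⟨m, hm, hsum⟩ := exists_multiplicities hres
    have h1 := congrFun hsum 1
    simp only [Finset.sum_apply, Pi.smul_apply, smul_eq_mul] at h1
    have h1' : (χ : G → ℂ) 1 = ∑ θ'' : IrrCharacter N, (m θ'' : ℂ) * (θ'' : N → ℂ) 1 := h1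
    rw [h1']
    have hzero : ∀ θ'' : IrrCharacter N, θ'' ∉ Θ → (m θ'' : ℂ) * (θ'' : N → ℂ) 1 = 0 := by
      intro θ'' hθ''
      have : m θ'' = 0 := by
        by_contra hne
        apply hθ''
        rw [hΘ]
        have hne' : classInner (res N (χ : G → ℂ)) (θ'' : N → ℂ) ≠ 0 := by
          rw [hm θ'']; exact_mod_cast hne
        exact exists_conj_of_constituent N hN χ.2 θ.2 θ''.2 h hne'
      rw [this]; simp
    rw [← Finset.sum_subset (Finset.subset_univ Θ) (fun θ'' _ h => hzero θ'' h)]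
    refine Finset.sum_congr rfl fun θ' _ => ?_
    rw [← classInner_conj_symm, hm θ', Complex.conj_natCast, mul_comm]

/-- `∑_{χ ∈ B over θ} χ(1)²` is divisible by `p` when `p` divides `[G : N]`. -/
theorem dvd_sum_sq_over {G : Type*} [Group G] [Fintype G] (p : ℕ) (M : Ideal Cfsg.AlgInt)
    (hM : Cfsg.IsPModular p M) (B : Set (Cfsg.IrrCharacter G)) (hB : Cfsg.IsPBlock M B)
    (N : Subgroup G) (hN : N.Normal) [Fintype N] (hidx : p ∣ N.index) (θ : Cfsg.IrrCharacter N)
    (Y : Finset (IrrCharacter G))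
    (hY : ∀ χ : IrrCharacter G, χ ∈ Y ↔
      χ ∈ B ∧ classInner (fun n : N => (χ : G → ℂ) n) (θ : N → ℂ) ≠ 0) :
    p ∣ ∑ χ ∈ Y, charDegree (χ : G → ℂ) ^ 2 := by
  classical
  have hMp : M.IsPrime := hM.2.1.isPrime
  set Θ : Finset (IrrCharacter N) := Finset.univ.filter
    (fun θ' : IrrCharacter N => ∃ g : G, (θ' : N → ℂ) = conjFun N hN (θ : N → ℂ) g) with hΘdef
  have hΘ : ∀ θ' : IrrCharacter N, θ' ∈ Θ ↔
      ∃ g : G, (θ' : N → ℂ) = conjFun N hN (θ : N → ℂ) g := by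
    intro θ'; simp [hΘdef]
  obtain ⟨a, ha⟩ : ∃ a : N → ℂ, a = fun n => ∑ θ' ∈ Θ, (θ' : N → ℂ) 1 * (θ' : N → ℂ) n :=
    ⟨_, rfl⟩
  obtain ⟨S, hS⟩ : ∃ S : ℂ, S = ∑ n : N, blockCoeff B (n : G) * a n := ⟨_, rfl⟩
  have hSR : MemLocalRing M S := by
    rw [hS]
    apply memLocalRing_sum hMp
    intro n _
    apply memLocalRing_mul hMp (Cfsg.Agent.Lib.Helper78_CharFacts.osima_block' hMp hB _)
    rw [ha]
    apply memLocalRing_sum hMp
    intro θ' _
    exact memLocalRing_mul hMp (Cfsg.Agent.Lib.Helper16_HeightZero.memLocalRing_irr hMp θ' _)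
      (Cfsg.Agent.Lib.Helper16_HeightZero.memLocalRing_irr hMp θ' _)
  -- the identity
  have hG0 : (Nat.card G : ℂ) ≠ 0 := Nat.cast_ne_zero.mpr Nat.card_pos.ne'
  have hN0 : (Nat.card N : ℂ) ≠ 0 := Nat.cast_ne_zero.mpr Nat.card_pos.ne'
  have hident : S = (Nat.card N : ℂ) / (Nat.card G : ℂ) *
      ((∑ χ ∈ Y, charDegree (χ : G → ℂ) ^ 2 : ℕ) : ℂ) := by
    have hbc : ∀ g : G, blockCoeff B g = (Nat.card G : ℂ)⁻¹ *
        ∑ χ ∈ (Set.toFinite B).toFinset, (χ : G → ℂ) 1 * conj ((χ : G → ℂ) g) := by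
      intro g
      unfold blockCoeff
      rw [finsum_mem_eq_finite_toFinset_sum _ (Set.toFinite B)]
    have h1 : S = (Nat.card G : ℂ)⁻¹ * ∑ χ ∈ (Set.toFinite B).toFinset, (χ : G → ℂ) 1 *
        ((Nat.card N : ℂ) * ∑ θ' ∈ Θ, (θ' : N → ℂ) 1 *
          classInner (θ' : N → ℂ) (res N (χ : G → ℂ))) := by
      have hR : ∀ χ : IrrCharacter G, (Nat.card N : ℂ) * ∑ θ' ∈ Θ, (θ' : N → ℂ) 1 *
          classInner (θ' : N → ℂ) (res N (χ : G → ℂ)) =
          ∑ n : N, conj ((χ : G → ℂ) (n : G)) * a n := by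
        intro χ
        unfold classInner
        rw [ha]
        simp only [Finset.mul_sum]
        rw [Finset.sum_comm]
        refine Finset.sum_congr rfl fun θ' _ => ?_
        refine Finset.sum_congr rfl fun n _ => ?_
        rw [res_apply]
        field_simp
      rw [hS]
      calc ∑ n : N, blockCoeff B (n : G) * a n
          = ∑ n : N, ∑ χ ∈ (Set.toFinite B).toFinset,
              (Nat.card G : ℂ)⁻¹ * ((χ : G → ℂ) 1 * (conj ((χ : G → ℂ) (n : G)) * a n)) := by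
            refine Finset.sum_congr rfl fun n _ => ?_
            rw [hbc, Finset.mul_sum, Finset.sum_mul]
            refine Finset.sum_congr rfl fun χ _ => ?_
            ring
        _ = ∑ χ ∈ (Set.toFinite B).toFinset, ∑ n : N,
              (Nat.card G : ℂ)⁻¹ * ((χ : G → ℂ) 1 * (conj ((χ : G → ℂ) (n : G)) * a n)) :=
            Finset.sum_comm
        _ = (Nat.card G : ℂ)⁻¹ * ∑ χ ∈ (Set.toFinite B).toFinset, (χ : G → ℂ) 1 *
              ((Nat.card N : ℂ) * ∑ θ' ∈ Θ, (θ' : N → ℂ) 1 *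
                classInner (θ' : N → ℂ) (res N (χ : G → ℂ))) := by
            rw [Finset.mul_sum]
            refine Finset.sum_congr rfl fun χ _ => ?_
            rw [hR χ, Finset.mul_sum, Finset.mul_sum]
    rw [h1]
    simp_rw [orbit_sum N hN θ _ Θ hΘ]
    have h2 : ∑ χ ∈ (Set.toFinite B).toFinset, (χ : G → ℂ) 1 * ((Nat.card N : ℂ) *
        if classInner (res N (χ : G → ℂ)) (θ : N → ℂ) ≠ 0 then (χ : G → ℂ) 1 else 0) =
        (Nat.card N : ℂ) * ∑ χ ∈ Y, ((charDegree (χ : G → ℂ) ^ 2 : ℕ) : ℂ) := by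
      rw [Finset.mul_sum]
      have hYsub : Y ⊆ (Set.toFinite B).toFinset := by
        intro χ hχ
        rw [Set.Finite.mem_toFinset]
        exact ((hY χ).mp hχ).1
      rw [← Finset.sum_subset hYsub]
      · refine Finset.sum_congr rfl fun χ hχ => ?_
        have this : classInner (res N (χ : G → ℂ)) (θ : N → ℂ) ≠ 0 := ((hY χ).mp hχ).2
        rw [if_pos this, apply_one_eq_charDegree χ]
        push_cast; ring
      · intro χ hχB hχY
        rw [Set.Finite.mem_toFinset] at hχB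
        have : ¬ classInner (res N (χ : G → ℂ)) (θ : N → ℂ) ≠ 0 := fun h =>
          hχY ((hY χ).mpr ⟨hχB, h⟩)
        rw [if_neg this]; simp
    rw [h2, Nat.cast_sum]
    field_simp
  -- conclude
  obtain ⟨k, hk⟩ := hidx
  have hcard : (Nat.card G : ℂ) = (Nat.card N : ℂ) * ((p * k : ℕ) : ℂ) := by
    rw [← hk, ← Nat.cast_mul, Subgroup.card_mul_index]
  have hT : ((∑ χ ∈ Y, charDegree (χ : G → ℂ) ^ 2 : ℕ) : ℂ) = (p : ℂ) * ((k : ℂ) * S) := by
    rw [hident, hcard]
    push_cast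
    have hk0 : (k : ℂ) ≠ 0 := by
      intro h0
      apply hG0
      rw [hcard]; push_cast; rw [h0]; ring
    have hp0 : (p : ℂ) ≠ 0 := by exact_mod_cast hM.1.ne_zero
    field_simp
  rw [← memLocalIdeal_natCast_iff hM, hT]
  exact memLocalIdeal_mul_right hMp ((memLocalIdeal_natCast_iff hM p).mpr dvd_rfl)
    (memLocalRing_mul hMp (memLocalRing_natCast hMp _) hSR)


/-- Let p be a prime, G a finite group with Sylow p-subgroup P, M a maximal ideal of the algebraic integers containing p, and B a p-block of G with defect group P. Let N be a normal subgroup of G not containing P and θ an irreducible character of N. Then the number of irreducible characters in B of degree prime to p lying over θ (having θ as a constituent on restriction to N) is either 0 or at least 2, and when p ≤ 3 it is divisible by p. -/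
theorem result {G : Type*} [Group G] [Fintype G] (p : ℕ) [Fact p.Prime] (P : Sylow p G) (M : Ideal Cfsg.AlgInt) (hM : Cfsg.IsPModular p M) (B : Set (Cfsg.IrrCharacter G)) (hB : Cfsg.IsPBlock M B) (hBP : Cfsg.IsDefectGroup p M B P) (N : Subgroup G) [N.Normal] [Fintype N] (hPN : ¬ (P : Subgroup G) ≤ N) (θ : Cfsg.IrrCharacter N) :
    (Nat.card {χ : Cfsg.IrrCharacter G // χ ∈ B ∧ ¬ p ∣ Cfsg.charDegree (χ : G → ℂ) ∧ Cfsg.classInner (fun n : N => (χ : G → ℂ) n) (θ : N → ℂ) ≠ 0} = 0 ∨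
      2 ≤ Nat.card {χ : Cfsg.IrrCharacter G // χ ∈ B ∧ ¬ p ∣ Cfsg.charDegree (χ : G → ℂ) ∧ Cfsg.classInner (fun n : N => (χ : G → ℂ) n) (θ : N → ℂ) ≠ 0}) ∧
    (p ≤ 3 → p ∣ Nat.card {χ : Cfsg.IrrCharacter G // χ ∈ B ∧ ¬ p ∣ Cfsg.charDegree (χ : G → ℂ) ∧ Cfsg.classInner (fun n : N => (χ : G → ℂ) n) (θ : N → ℂ) ≠ 0}) := by
  classical
  have hp : p.Prime := Fact.out
  have hN : N.Normal := inferInstance
  -- `p` divides the index of `N`
  have hidx : p ∣ N.index := by
    by_contra hnd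
    apply hPN
    intro x hx
    have hcop : Nat.Coprime p N.index := (Nat.Prime.coprime_iff_not_dvd hp).mpr hnd
    obtain ⟨k, hk⟩ := (P.isPGroup'.to_le le_rfl) ⟨x, hx⟩
    have hxk : x ^ p ^ k = 1 := by simpa using congrArg Subtype.val hk
    have h1 : orderOf ((QuotientGroup.mk x : G ⧸ N)) ∣ p ^ k := by
      rw [orderOf_dvd_iff_pow_eq_one, ← QuotientGroup.mk_pow, hxk, QuotientGroup.mk_one]
    have h2 : orderOf ((QuotientGroup.mk x : G ⧸ N)) ∣ N.index := by
      rw [Subgroup.index_eq_card]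
      exact orderOf_dvd_natCard _
    have h3 : orderOf ((QuotientGroup.mk x : G ⧸ N)) = 1 :=
      Nat.eq_one_of_dvd_coprimes (Nat.Coprime.pow_left k hcop) h1 h2
    rw [orderOf_eq_one_iff, QuotientGroup.eq_one_iff] at h3
    exact h3
  set Y : Finset (IrrCharacter G) := Finset.univ.filter (fun χ : IrrCharacter G =>
    χ ∈ B ∧ classInner (fun n : N => (χ : G → ℂ) n) (θ : N → ℂ) ≠ 0) with hYdef
  have hY : ∀ χ : IrrCharacter G, χ ∈ Y ↔
      χ ∈ B ∧ classInner (fun n : N => (χ : G → ℂ) n) (θ : N → ℂ) ≠ 0 := by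
    intro χ; simp [hYdef]
  have hdvd := dvd_sum_sq_over p M hM B hB N hN hidx θ Y hY
  set X : Finset (IrrCharacter G) := Y.filter (fun χ : IrrCharacter G => ¬ p ∣ charDegree (χ : G → ℂ)) with hXdef
  have hcard : Nat.card {χ : Cfsg.IrrCharacter G // χ ∈ B ∧ ¬ p ∣ Cfsg.charDegree (χ : G → ℂ) ∧
      Cfsg.classInner (fun n : N => (χ : G → ℂ) n) (θ : N → ℂ) ≠ 0} = X.card := by
    rw [Nat.card_eq_fintype_card, Fintype.card_subtype]
    congr 1
    ext χ
    simp only [hXdef, hYdef, Finset.mem_filter, Finset.mem_univ, true_and]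
    tauto
  rw [hcard]
  -- the sum over `X`
  have hsplit : ∑ χ ∈ Y, charDegree (χ : G → ℂ) ^ 2 =
      ∑ χ ∈ X, charDegree (χ : G → ℂ) ^ 2 +
        ∑ χ ∈ Y.filter (fun χ : IrrCharacter G => ¬ ¬ p ∣ charDegree (χ : G → ℂ)), charDegree (χ : G → ℂ) ^ 2 :=
    (Finset.sum_filter_add_sum_filter_not Y _ _).symm
  have hrest : p ∣ ∑ χ ∈ Y.filter (fun χ : IrrCharacter G => ¬ ¬ p ∣ charDegree (χ : G → ℂ)),
      charDegree (χ : G → ℂ) ^ 2 := by
    apply Finset.dvd_sum
    intro χ hχ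
    rw [Finset.mem_filter, not_not] at hχ
    exact dvd_pow hχ.2 two_ne_zero
  have hX : p ∣ ∑ χ ∈ X, charDegree (χ : G → ℂ) ^ 2 := by
    rw [hsplit] at hdvd
    exact (Nat.dvd_add_left hrest).mp hdvd
  constructor
  · by_contra hcon
    push Not at hcon
    have h1 : X.card = 1 := by omega
    obtain ⟨χ, hχ⟩ := Finset.card_eq_one.mp h1
    rw [hχ, Finset.sum_singleton] at hX
    have hχX : χ ∈ X := by rw [hχ]; exact Finset.mem_singleton_self χ
    rw [hXdef, Finset.mem_filter] at hχX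
    exact hχX.2 (hp.dvd_of_dvd_pow hX)
  · intro hp3
    have hmod : ∀ χ ∈ X, charDegree (χ : G → ℂ) ^ 2 % p = 1 := by
      intro χ hχ
      rw [hXdef, Finset.mem_filter] at hχ
      have hnd := hχ.2
      have h23 : p = 2 ∨ p = 3 := by
        have := hp.two_le
        interval_cases p
        · left; rfl
        · right; rfl
      rcases h23 with rfl | rfl
      · have : charDegree (χ : G → ℂ) % 2 = 1 := by omega
        rw [Nat.pow_mod, this]
      · have : charDegree (χ : G → ℂ) % 3 = 1 ∨ charDegree (χ : G → ℂ) % 3 = 2 := by omega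
        rcases this with h | h <;> rw [Nat.pow_mod, h]
    have hsum : (∑ χ ∈ X, charDegree (χ : G → ℂ) ^ 2) % p = X.card % p := by
      rw [Finset.sum_nat_mod, Finset.sum_congr rfl hmod]
      simp
    rw [Nat.dvd_iff_mod_eq_zero, ← hsum, ← Nat.dvd_iff_mod_eq_zero]
    exact hX

end Cfsg.Agent.S4825
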