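import Mathlib
import Cfsg.Statements.S4837
import Cfsg.Agent.S4835
import Cfsg.Agent.S4836
import Cfsg.Agent.S4567
import Cfsg.Agent.Lib.Helper75_Clifford
import Cfsg.Agent.Lib.Helper80_CharComplete
import Cfsg.Agent.Lib.Helper80_RelDegree
import Cfsg.Agent.Lib.Helper75_AbelianInertia2
import Cfsg.Agent.Lib.Helper75_IndChar

set_option autoImplicit false
open Cfsg

namespace Cfsg.Agent.S4837

open scoped ComplexConjugate
open Cfsg.Agent.Lib.Helper80_CharBasic Cfsg.Agent.Lib.Helper80_CharComplete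
  Cfsg.Agent.Lib.Helper3_CharBridge Cfsg.Agent.Lib.Helper3_CharOrtho
  Cfsg.Agent.Lib.Helper75_Clifford Cfsg.Agent.Lib.Helper75_CharArith
  Cfsg.Agent.Lib.Helper75_Induced

section

variable {G : Type*} [Group G] [Fintype G]

/-- the support is `{1} ∪ cl(g₀)` -/
theorem data (χ : Cfsg.IrrCharacter G)
    (hχ : Nat.card {C : ConjClasses G // ∃ g ∈ C.carrier, (χ : G → ℂ) g ≠ 0} = 2)
    (N : Subgroup G) (hN : ∀ g : G, g ∈ N ↔ (χ : G → ℂ) g ≠ 0) :
    ∃ g₀ : G, g₀ ≠ 1 ∧ g₀ ∈ N ∧ (∀ x : G, (χ : G → ℂ) x ≠ 0 → x = 1 ∨ IsConj g₀ x) ∧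
      ∀ x : G, x ∈ N ↔ x = 1 ∨ IsConj g₀ x := by
  obtain ⟨g₀, hg₀, hg₀χ, hsupp⟩ := Cfsg.Agent.S4836.two_class_data χ hχ
  refine ⟨g₀, hg₀, (hN g₀).mpr hg₀χ, hsupp, ?_⟩
  intro x
  constructor
  · intro hx
    exact hsupp x ((hN x).mp hx)
  · rintro (rfl | hx)
    · exact N.one_mem
    · rw [hN, ← irr_isConj χ hx]
      exact hg₀χ

/-- numerical data: `χ(1) = e k`, `χ(x) = -e` on `N∖1`, `|N| = k + 1`, `|G| = e² k (k+1)`. -/
theorem values (hG : 2 < Nat.card G) (χ : Cfsg.IrrCharacter G)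
    (hχ : Nat.card {C : ConjClasses G // ∃ g ∈ C.carrier, (χ : G → ℂ) g ≠ 0} = 2)
    (N : Subgroup G) [Fintype N] (hN : ∀ g : G, g ∈ N ↔ (χ : G → ℂ) g ≠ 0)
    (hcomm : ∀ a b : N, a * b = b * a) :
    ∃ e k : ℕ, 0 < e ∧ 0 < k ∧ Nat.card N = k + 1 ∧ (χ : G → ℂ) 1 = ((e * k : ℕ) : ℂ) ∧
      (∀ x ∈ N, x ≠ 1 → (χ : G → ℂ) x = -(e : ℂ)) ∧ Nat.card G = e ^ 2 * k * (k + 1) ∧
      (∀ x ∈ N, x ≠ 1 → ∀ [DecidablePred (fun y : G => IsConj x y)],
        (Finset.univ.filter (fun y : G => IsConj x y)).card = k) ∧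
      (∀ μ : Cfsg.IrrCharacter N, (μ : N → ℂ) ≠ (fun _ => (1 : ℂ)) →
        Cfsg.classInner (res N (χ : G → ℂ)) (μ : N → ℂ) = (e : ℂ)) := by
  classical
  obtain ⟨g₀, hg₀, hg₀N, hsupp, hmem⟩ := data χ hχ N hN
  set K := Finset.univ.filter (fun y : G => IsConj g₀ y) with hK
  set k := K.card with hk
  have hg₀K : g₀ ∈ K := by
    simp only [hK, Finset.mem_filter, Finset.mem_univ, true_and]
    exact IsConj.refl g₀
  have hkpos : 0 < k := Finset.card_pos.mpr ⟨g₀, hg₀K⟩
  have h1K : (1 : G) ∉ K := by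
    simp only [hK, Finset.mem_filter, Finset.mem_univ, true_and]
    exact fun h => hg₀ (isConj_one_left.mp h)
  -- card N
  have hcardN : Nat.card N = k + 1 := by
    rw [Nat.card_eq_fintype_card, Fintype.card_of_subtype (insert 1 K) (fun x => by
      rw [Finset.mem_insert, hmem x]
      simp [hK]), Finset.card_insert_of_notMem h1K]
  -- values
  obtain ⟨n, hn, hn1⟩ := irr_apply_one χ
  set v := (χ : G → ℂ) g₀ with hv
  have hval : ∀ x ∈ N, x ≠ 1 → (χ : G → ℂ) x = v := by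
    intro x hx hx1
    rcases (hmem x).mp hx with h | h
    · exact absurd h hx1
    · exact (irr_isConj χ h).symm
  have hχne : χ ≠ oneIrr G := Cfsg.Agent.S4836.ne_one_of_two_class hG χ g₀ hg₀ hsupp
  have hB1 : (n : ℂ) + (k : ℂ) * v = 0 := by
    have h1 := Cfsg.Agent.S4836.sum_two_class χ (oneIrr G) g₀ hg₀ hsupp
    rw [irr_orthogonal χ (oneIrr G) hχne] at h1
    have h2 : ((oneIrr G : Cfsg.IrrCharacter G) : G → ℂ) = fun _ => 1 := rfl
    rw [h2, hn1] at h1
    simp only [mul_one] at h1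
    exact h1.symm
  have hg₀inv : (χ : G → ℂ) g₀⁻¹ = v := hval g₀⁻¹ (N.inv_mem hg₀N) (by simpa using hg₀)
  have hB2 : (n : ℂ) * (n : ℂ) + (k : ℂ) * (v * v) = (Nat.card G : ℂ) := by
    have h1 := Cfsg.Agent.S4836.sum_two_class χ χ g₀ hg₀ hsupp
    rw [irr_norm χ, hn1, hg₀inv] at h1
    exact h1.symm
  -- a non-principal irreducible character of N
  have hex : ∃ μ : Cfsg.IrrCharacter N, (μ : N → ℂ) ≠ (fun _ => (1 : ℂ)) := by
    by_contra hcon0
    have hcon : ∀ μ : Cfsg.IrrCharacter N, (μ : N → ℂ) = (fun _ => (1 : ℂ)) :=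
      fun μ => by_contra fun h => hcon0 ⟨μ, h⟩
    have h1 : IsConj (⟨g₀, hg₀N⟩ : N) 1 := by
      rw [isConj_iff_irr]
      intro ψ
      rw [hcon ψ]
    have h2 : (⟨g₀, hg₀N⟩ : N) = 1 := isConj_one_left.mp h1
    exact hg₀ (congrArg Subtype.val h2)
  -- inner products with non-principal characters
  have hinner : ∀ μ : Cfsg.IrrCharacter N, (μ : N → ℂ) ≠ (fun _ => (1 : ℂ)) →
      Cfsg.classInner (res N (χ : G → ℂ)) (μ : N → ℂ) = -v := by
    intro μ hμ
    have hμne : μ ≠ oneIrr N := by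
      intro h
      apply hμ
      rw [h]
      rfl
    have hsum0 : ∑ m : N, (μ : N → ℂ) m = 0 := by
      have h1 := irr_orthogonal μ (oneIrr N) hμne
      have h2 : ((oneIrr N : Cfsg.IrrCharacter N) : N → ℂ) = fun _ => 1 := rfl
      rw [h2] at h1
      simpa using h1
    have hμ1 : (μ : N → ℂ) 1 = 1 := Cfsg.Agent.S4567.irr_one_eq_one_of_comm hcomm μ.2
    have hterm : ∀ m : N, res N (χ : G → ℂ) m * conj ((μ : N → ℂ) m) =
        v * conj ((μ : N → ℂ) m) + (if m = 1 then ((n : ℂ) - v) else 0) := by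
      intro m
      by_cases hm : m = 1
      · subst hm
        rw [if_pos rfl, res_apply, Subgroup.coe_one, hn1, hμ1, map_one]
        ring
      · rw [if_neg hm, add_zero, res_apply, hval m m.2 (fun h => hm (Subtype.ext h))]
    unfold Cfsg.classInner
    simp only [hterm]
    rw [Finset.sum_add_distrib, ← Finset.mul_sum, ← map_sum, hsum0, map_zero, mul_zero, zero_add,
      Finset.sum_ite_eq' Finset.univ (1 : N), if_pos (Finset.mem_univ _), hcardN]
    have hk1 : ((k + 1 : ℕ) : ℂ) ≠ 0 := by exact_mod_cast Nat.succ_ne_zero k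
    rw [inv_mul_eq_iff_eq_mul₀ hk1]
    push_cast
    linear_combination hB1
  obtain ⟨μ₀, hμ₀⟩ := hex
  obtain ⟨e, he⟩ := classInner_isCharacter_nat
    (isCharacter_res N (isCharacter_of_isIrrCharacter χ.2)) (isCharacter_of_isIrrCharacter μ₀.2)
  rw [hinner μ₀ hμ₀] at he
  have hve : v = -(e : ℂ) := by rw [← he]; ring
  have hne : n = e * k := by
    have : (n : ℂ) = ((e * k : ℕ) : ℂ) := by
      push_cast
      rw [hve] at hB1
      linear_combination hB1
    exact_mod_cast this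
  have hepos : 0 < e := by
    rcases Nat.eq_zero_or_pos e with h | h
    · rw [h, zero_mul] at hne
      omega
    · exact h
  refine ⟨e, k, hepos, hkpos, hcardN, by rw [hn1, hne], ?_, ?_, ?_, ?_⟩
  · intro x hx hx1
    rw [hval x hx hx1, hve]
  · have : (Nat.card G : ℂ) = ((e ^ 2 * k * (k + 1) : ℕ) : ℂ) := by
      rw [← hB2, hve, hne]
      push_cast
      ring
    exact_mod_cast this
  · intro x hx hx1 _
    have hxc : IsConj g₀ x := by
      rcases (hmem x).mp hx with h | h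
      · exact absurd h hx1
      · exact h
    rw [hk, hK]
    congr 1
    ext y
    simp only [Finset.mem_filter, Finset.mem_univ, true_and]
    exact ⟨fun h => hxc.trans h, fun h => hxc.symm.trans h⟩
  · intro μ hμ
    rw [hinner μ hμ, hve, neg_neg]

/-- a Sylow `q`-subgroup (`q ≠ p`) has order dividing `χ(1)`. -/
theorem sylow_card_dvd (χ : Cfsg.IrrCharacter G) (p : ℕ) [hp : Fact p.Prime]
    (N : Subgroup G) (hN : ∀ g : G, g ∈ N ↔ (χ : G → ℂ) g ≠ 0) (hNp : IsPGroup p N)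
    (q : ℕ) [hq : Fact q.Prime] (hqp : q ≠ p) (Q : Sylow q G) (n : ℕ)
    (hn1 : (χ : G → ℂ) 1 = n) : Nat.card Q ∣ n := by
  classical
  haveI : Fintype Q := Fintype.ofFinite Q
  have hvan : ∀ y : Q, y ≠ 1 → (χ : G → ℂ) y = 0 := by
    intro y hy
    by_contra h
    have hyN : (y : G) ∈ N := (hN _).mpr h
    obtain ⟨a, ha⟩ := hNp ⟨(y : G), hyN⟩
    obtain ⟨b, hb⟩ := Q.isPGroup' y
    have h1 : orderOf (y : G) ∣ p ^ a := by
      apply orderOf_dvd_of_pow_eq_one
      have := congrArg Subtype.val ha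
      simpa using this
    have h2 : orderOf (y : G) ∣ q ^ b := by
      apply orderOf_dvd_of_pow_eq_one
      have := congrArg Subtype.val hb
      simpa using this
    have hcop : Nat.Coprime (p ^ a) (q ^ b) :=
      Nat.Coprime.pow _ _ ((Nat.coprime_primes hp.out hq.out).mpr (Ne.symm hqp))
    have h3 : orderOf (y : G) ∣ 1 := by
      have := Nat.dvd_gcd h1 h2
      rwa [hcop] at this
    have h4 : (y : G) = 1 := orderOf_eq_one_iff.mp (Nat.dvd_one.mp h3)
    exact hy (Subtype.ext h4)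
  obtain ⟨m, hm⟩ := classInner_isCharacter_nat
    (isCharacter_res (Q : Subgroup G) (isCharacter_of_isIrrCharacter χ.2))
    (isCharacter_of_isIrrCharacter (oneIrr Q).2)
  have hsum : ∑ y : Q, res (Q : Subgroup G) (χ : G → ℂ) y *
      conj (((oneIrr Q : Cfsg.IrrCharacter Q) : Q → ℂ) y) = (n : ℂ) := by
    rw [Finset.sum_eq_single (1 : (Q : Subgroup G))]
    · rw [res_apply]
      show (χ : G → ℂ) ((1 : (Q : Subgroup G)) : G) * conj (1 : ℂ) = _
      rw [map_one, mul_one]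
      exact hn1
    · intro y _ hy
      rw [res_apply, hvan y hy, zero_mul]
    · intro h
      exact absurd (Finset.mem_univ _) h
  unfold Cfsg.classInner at hm
  rw [hsum] at hm
  have hQ0 : (Nat.card Q : ℂ) ≠ 0 := by exact_mod_cast Nat.card_pos.ne'
  have h5 : (n : ℂ) = ((Nat.card Q * m : ℕ) : ℂ) := by
    push_cast
    rw [← hm]
    field_simp
  have h6 : n = Nat.card Q * m := by exact_mod_cast h5
  exact Dvd.intro _ h6.symm

/-- arithmetic: `e` is a power of `p`. -/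
theorem e_prime_pow (p : ℕ) (hp : p.Prime) (e k a c : ℕ) (he : 0 < e) (hk : 0 < k)
    (hka : k + 1 = p ^ a) (hc : c = e ^ 2 * k * (k + 1))
    (hdvd : ∀ q : ℕ, q.Prime → q ≠ p → q ^ (c.factorization q) ∣ e * k) : ∃ b, e = p ^ b := by
  refine ⟨e.primeFactorsList.length, Nat.eq_prime_pow_of_unique_prime_dvd (p := p) he.ne' ?_⟩
  intro q hq hqe
  by_contra hqp
  have h1 := hdvd q hq hqp
  have hek : e * k ≠ 0 := Nat.mul_ne_zero he.ne' hk.ne'
  have h2 := (hq.pow_dvd_iff_le_factorization hek).mp h1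
  have he2 : e ^ 2 ≠ 0 := pow_ne_zero 2 he.ne'
  have h3 : c.factorization q = 2 * e.factorization q + k.factorization q := by
    have h6 : (k + 1).factorization q = 0 := by
      rw [hka, Nat.factorization_pow, hp.factorization]
      simp [Finsupp.single_apply, Ne.symm hqp]
    rw [hc, Nat.factorization_mul (Nat.mul_ne_zero he2 hk.ne') (Nat.succ_ne_zero k),
      Nat.factorization_mul he2 hk.ne', Nat.factorization_pow]
    simp only [Finsupp.coe_add, Finsupp.coe_smul, Pi.add_apply, Pi.smul_apply, smul_eq_mul]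
    rw [h6, add_zero]
  have h4 : (e * k).factorization q = e.factorization q + k.factorization q := by
    rw [Nat.factorization_mul he.ne' hk.ne']
    rfl
  have h5 : 0 < e.factorization q := hq.factorization_pos_of_dvd he.ne' hqe
  omega

/-- the order of the inertia group of a non-principal character of `N`. -/
theorem card_inertia (χ : Cfsg.IrrCharacter G) (N : Subgroup G) [hNn : N.Normal] [Fintype N]
    (μ : Cfsg.IrrCharacter N) (hμ1 : (μ : N → ℂ) 1 = 1) (e k : ℕ) (he : 0 < e)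
    (hχ1 : (χ : G → ℂ) 1 = ((e * k : ℕ) : ℂ)) (hindex : N.index = e ^ 2 * k)
    (hinner : Cfsg.classInner (res N (χ : G → ℂ)) (μ : N → ℂ) = (e : ℂ)) (T : Subgroup G)
    (hT : ∀ g : G, g ∈ T ↔ conjFun N hNn (μ : N → ℂ) g = (μ : N → ℂ)) :
    Nat.card T = e ^ 2 * Nat.card N := by
  classical
  have hΦ : Cfsg.IsCharacter G (Cfsg.indFun N (μ : N → ℂ)) :=
    Cfsg.Agent.Lib.Helper75_IndChar.isCharacter_indFun N (isCharacter_of_isIrrCharacter μ.2)
  obtain ⟨m, hm, hsum⟩ := exists_multiplicities hΦ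
  have hmχ : m χ = e := by
    have h1 := hm χ
    rw [frobenius_reciprocity N (μ : N → ℂ) (χ : G → ℂ)
      (isClassFunction_of_isIrrCharacter χ.2)] at h1
    have h2 : Cfsg.classInner (μ : N → ℂ) (fun h : N => (χ : G → ℂ) h) =
        conj (Cfsg.classInner (res N (χ : G → ℂ)) (μ : N → ℂ)) :=
      (classInner_conj_symm _ _).symm
    rw [h2, hinner, Complex.conj_natCast] at h1
    exact_mod_cast h1.symm
  have hΦ1 : Cfsg.indFun N (μ : N → ℂ) 1 = ((e ^ 2 * k : ℕ) : ℂ) := by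
    rw [Cfsg.Agent.Lib.Helper75_AbelianInertia2.indFun_one_index, hμ1, mul_one, hindex]
  have hdeg : ∀ ψ : Cfsg.IrrCharacter G, ∃ n : ℕ, 0 < n ∧ (ψ : G → ℂ) 1 = n := irr_apply_one
  choose n hnpos hn using hdeg
  have hnχ : n χ = e * k := by
    have := hn χ
    rw [hχ1] at this
    exact_mod_cast this.symm
  have hsum1 : ∑ ψ : Cfsg.IrrCharacter G, m ψ * n ψ = e ^ 2 * k := by
    have h1 := congrFun hsum 1
    rw [hΦ1, Finset.sum_apply] at h1
    simp only [Pi.smul_apply, smul_eq_mul, hn] at h1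
    exact_mod_cast h1.symm
  have hrest : ∀ ψ : Cfsg.IrrCharacter G, ψ ≠ χ → m ψ = 0 := by
    intro ψ hψ
    rw [← Finset.add_sum_erase Finset.univ _ (Finset.mem_univ χ), hmχ, hnχ] at hsum1
    have h0 : ∑ ψ ∈ Finset.univ.erase χ, m ψ * n ψ = 0 := by
      have : e * (e * k) = e ^ 2 * k := by ring
      omega
    have h1 := (Finset.sum_eq_zero_iff.mp h0) ψ (Finset.mem_erase.mpr ⟨hψ, Finset.mem_univ _⟩)
    rcases Nat.mul_eq_zero.mp h1 with h | h
    · exact h
    · exact absurd h (hnpos ψ).ne'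
  have hΦeq : Cfsg.indFun N (μ : N → ℂ) = (e : ℂ) • (χ : G → ℂ) := by
    rw [hsum, Finset.sum_eq_single χ]
    · rw [hmχ]
    · intro ψ _ hψ
      rw [hrest ψ hψ, Nat.cast_zero, zero_smul]
    · intro h
      exact absurd (Finset.mem_univ _) h
  have hnorm : Cfsg.classInner (Cfsg.indFun N (μ : N → ℂ)) (Cfsg.indFun N (μ : N → ℂ)) =
      ((e ^ 2 : ℕ) : ℂ) := by
    rw [hΦeq, classInner_smul_left, classInner_smul_right,
      classInner_self_of_isIrrCharacter χ.2, Complex.conj_natCast]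
    push_cast
    ring
  rw [classInner_indFun_self N hNn μ.2 T hT] at hnorm
  have hN0 : (Nat.card N : ℂ) ≠ 0 := by exact_mod_cast Nat.card_pos.ne'
  have : (Nat.card T : ℂ) = ((e ^ 2 * Nat.card N : ℕ) : ℂ) := by
    rw [inv_mul_eq_iff_eq_mul₀ hN0] at hnorm
    rw [hnorm]
    push_cast
    ring
  exact_mod_cast this

end

/-- Let χ be irreducible, nonzero on exactly two classes, with support the normal p-subgroup N. -/
theorem result {G : Type*} [Group G] [Finite G] (hG : 2 < Nat.card G) (χ : Cfsg.IrrCharacter G) (hχ : Nat.card {C : ConjClasses G // ∃ g ∈ C.carrier, (χ : G → ℂ) g ≠ 0} = 2) (p : ℕ) [Fact p.Prime] (N : Subgroup G) [N.Normal] (hN : ∀ g : G, g ∈ N ↔ (χ : G → ℂ) g ≠ 0) (hNp : IsPGroup p N) (hN1 : N ≠ ⊥) :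
    (∀ x ∈ N, x ≠ 1 → ∃ P : Sylow p G, Subgroup.centralizer ({x} : Set G) = P) ∧
      (∀ μ : Cfsg.IrrCharacter N, (μ : N → ℂ) ≠ (fun _ => (1 : ℂ)) → ∃ P : Sylow p G, ∀ g : G, g ∈ (P : Subgroup G) ↔ ∀ n n' : N, (n' : G) = g * n * g⁻¹ → (μ : N → ℂ) n' = (μ : N → ℂ) n) := by
  classical
  haveI := Fintype.ofFinite G
  haveI : Fintype N := Fintype.ofFinite N
  have hNn : N.Normal := inferInstance
  have hp : p.Prime := Fact.out
  -- commutativity of `N`
  have hcomm : ∀ a b : N, a * b = b * a := by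
    obtain ⟨N', _, _, _, ⟨p', _, hEA⟩, hN'supp, _⟩ := Cfsg.Agent.S4835.result hG χ hχ
    have hNN' : N' = N := by
      ext g
      rw [hN g, hN'supp g]
    rw [hNN'] at hEA
    intro a b
    exact hEA.1.is_comm.comm a b
  obtain ⟨e, k, he, hk, hcardN, hχ1, hval, hcardG, hclass, hinner⟩ := values hG χ hχ N hN hcomm
  obtain ⟨a, ha⟩ := IsPGroup.iff_card.mp hNp
  have hka : k + 1 = p ^ a := by rw [← hcardN, ha]
  have ha0 : a ≠ 0 := by
    rintro rfl
    rw [pow_zero] at hka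
    omega
  obtain ⟨b, hb⟩ := e_prime_pow p hp e k a (Nat.card G) he hk hka hcardG (by
    intro q hq hqp
    haveI : Fact q.Prime := ⟨hq⟩
    have Q : Sylow q G := default
    have := sylow_card_dvd χ p N hN hNp q hqp Q (e * k) hχ1
    rwa [Sylow.card_eq_multiplicity] at this)
  have hpk : ¬ p ∣ k := by
    intro h
    have h1 : p ∣ k + 1 := by rw [hka]; exact dvd_pow_self p ha0
    have h2 : p ∣ 1 := (Nat.dvd_add_right h).mp h1
    exact hp.one_lt.ne' (Nat.dvd_one.mp h2)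
  have hsyl : ∀ S : Subgroup G, Nat.card S = e ^ 2 * (k + 1) →
      ∃ P : Sylow p G, (P : Subgroup G) = S := by
    intro S hS
    have hSp : IsPGroup p S := IsPGroup.of_card (n := 2 * b + a) (by rw [hS, hb, hka]; ring)
    have hidx : S.index = k := by
      have h1 := S.index_mul_card
      rw [hS, hcardG] at h1
      have hpos : 0 < e ^ 2 * (k + 1) := by positivity
      exact Nat.eq_of_mul_eq_mul_right hpos (by rw [h1]; ring)
    exact ⟨hSp.toSylow (by rw [hidx]; exact hpk), IsPGroup.toSylow_coe _ _⟩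
  constructor
  · intro x hx hx1
    have h1 := card_class_mul_card_centralizer x
    rw [hclass x hx hx1, hcardG] at h1
    obtain ⟨P, hP⟩ := hsyl (Subgroup.centralizer ({x} : Set G))
      (Nat.eq_of_mul_eq_mul_left hk (by rw [h1]; ring))
    exact ⟨P, hP.symm⟩
  · intro μ hμ
    set T := Cfsg.Agent.Lib.Helper80_RelDegree.inertia N hNn (μ : N → ℂ) with hTdef
    have hT : ∀ g : G, g ∈ T ↔ conjFun N hNn (μ : N → ℂ) g = (μ : N → ℂ) := fun g => Iff.rfl
    have hμ1 := Cfsg.Agent.S4567.irr_one_eq_one_of_comm hcomm μ.2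
    have hindex : N.index = e ^ 2 * k := by
      have h1 := N.index_mul_card
      rw [hcardN, hcardG] at h1
      exact Nat.eq_of_mul_eq_mul_right (Nat.succ_pos k) (by rw [h1])
    have hcardT := card_inertia χ N μ hμ1 e k he hχ1 hindex (hinner μ hμ) T hT
    obtain ⟨P, hP⟩ := hsyl T (by rw [hcardT, hcardN])
    refine ⟨P, fun g => ?_⟩
    rw [hP, hT]
    constructor
    · intro h n n' hn'
      have h1 : n' = ⟨g * n * g⁻¹, hNn.conj_mem n n.2 g⟩ := Subtype.ext hn'
      rw [h1, ← conjFun_apply N hNn (μ : N → ℂ) g n, h]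
    · intro h
      funext n
      rw [conjFun_apply]
      exact h n ⟨g * n * g⁻¹, hNn.conj_mem n n.2 g⟩ rfl

end Cfsg.Agent.S4837
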