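import Mathlib
import Cfsg.Statements.S4838
import Cfsg.Agent.S4837
import Cfsg.Agent.Lib.Helper57_FrobNorm
import Cfsg.Agent.Lib.Helper77_QuotBlocks

set_option autoImplicit false
open Cfsg

namespace Cfsg.Agent.S4838

open scoped ComplexConjugate commutatorElement
open Cfsg.Agent.Lib.Helper80_CharBasic Cfsg.Agent.Lib.Helper80_CharComplete

section

variable {G : Type*} [Group G] [Fintype G]

/-- every irreducible character other than `χ` has `N` in its kernel. -/
theorem ker_of_ne (hG : 2 < Nat.card G) (χ : Cfsg.IrrCharacter G)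
    (hχ : Nat.card {C : ConjClasses G // ∃ g ∈ C.carrier, (χ : G → ℂ) g ≠ 0} = 2)
    (N : Subgroup G) (hN : ∀ g : G, g ∈ N ↔ (χ : G → ℂ) g ≠ 0)
    (ψ : Cfsg.IrrCharacter G) (hne : ψ ≠ χ) : ∀ u ∈ N, (ψ : G → ℂ) u = (ψ : G → ℂ) 1 := by
  obtain ⟨g₀, hg₀, hg₀N, hsupp, hmem⟩ := Cfsg.Agent.S4837.data χ hχ N hN
  have h1 := Cfsg.Agent.S4835.two_class_ker hG χ g₀ hg₀ hsupp ψ hne
  intro u hu
  rcases (hmem u).mp hu with rfl | h
  · rfl
  · rw [← irr_isConj ψ h, h1]

/-- `|C_G(x)| = |C_{G/N}(xN)|` for `x ∉ N`. -/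
theorem card_centralizer_quot (hG : 2 < Nat.card G) (χ : Cfsg.IrrCharacter G)
    (hχ : Nat.card {C : ConjClasses G // ∃ g ∈ C.carrier, (χ : G → ℂ) g ≠ 0} = 2)
    (N : Subgroup G) [N.Normal] (hN : ∀ g : G, g ∈ N ↔ (χ : G → ℂ) g ≠ 0) (hN1 : N ≠ ⊥)
    (x : G) (hx : x ∉ N) :
    Nat.card (Subgroup.centralizer ({x} : Set G)) =
      Nat.card (Subgroup.centralizer ({(x : G ⧸ N)} : Set (G ⧸ N))) := by
  classical
  haveI : Fintype (G ⧸ N) := Fintype.ofFinite _
  haveI : Fintype (Cfsg.IrrCharacter G) := Fintype.ofFinite _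
  haveI : Fintype (Cfsg.IrrCharacter (G ⧸ N)) := Fintype.ofFinite _
  -- inflation
  let ι : Cfsg.IrrCharacter (G ⧸ N) → Cfsg.IrrCharacter G := fun ψ =>
    ⟨fun g => (ψ : G ⧸ N → ℂ) (QuotientGroup.mk' N g),
      Cfsg.Agent.Lib.Helper57_FrobNorm.isIrrCharacter_comp_surjective (QuotientGroup.mk' N)
        (QuotientGroup.mk'_surjective N) ψ.2⟩
  have hιinj : Function.Injective ι := by
    intro ψ₁ ψ₂ h
    apply Subtype.ext
    funext q
    obtain ⟨g, rfl⟩ := QuotientGroup.mk_surjective q
    exact congrFun (congrArg Subtype.val h) g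
  obtain ⟨g₁, hg₁N, hg₁⟩ : ∃ g ∈ N, g ≠ 1 := by
    by_contra hcon
    apply hN1
    rw [eq_bot_iff]
    intro g hg
    by_contra hg1
    exact hcon ⟨g, hg, hg1⟩
  have hfaith := (Cfsg.Agent.S4836.result hG χ hχ).1
  have himage : Finset.univ.image ι = Finset.univ.erase χ := by
    ext ψ
    simp only [Finset.mem_image, Finset.mem_univ, true_and, Finset.mem_erase, and_true]
    constructor
    · rintro ⟨ψ', rfl⟩ h
      apply hg₁
      apply hfaith
      rw [← h]
      show (ψ' : G ⧸ N → ℂ) (QuotientGroup.mk' N g₁) = (ψ' : G ⧸ N → ℂ) (QuotientGroup.mk' N 1)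
      have h5 : (QuotientGroup.mk' N) g₁ = 1 := (QuotientGroup.eq_one_iff g₁).mpr hg₁N
      rw [map_one, h5]
    · intro hne
      obtain ⟨ψ', hψ'⟩ := Cfsg.Agent.Lib.Helper77_QuotBlocks.exists_quot_char N ψ
        (ker_of_ne hG χ hχ N hN ψ hne)
      refine ⟨ψ', ?_⟩
      apply Subtype.ext
      rw [hψ']
      rfl
  have h1 := second_orthogonality_sum x x
  rw [if_pos (IsConj.refl x)] at h1
  have h2 := second_orthogonality_sum (x : G ⧸ N) (x : G ⧸ N)
  rw [if_pos (IsConj.refl _)] at h2
  rw [← Finset.add_sum_erase Finset.univ _ (Finset.mem_univ χ), ← himage,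
    Finset.sum_image (fun a _ b _ h => hιinj h)] at h1
  have hχx : (χ : G → ℂ) x = 0 := by
    by_contra h
    exact hx ((hN x).mpr h)
  rw [hχx, zero_mul, zero_add] at h1
  have h3 : ∑ ψ : Cfsg.IrrCharacter (G ⧸ N), ((ι ψ : Cfsg.IrrCharacter G) : G → ℂ) x *
      conj (((ι ψ : Cfsg.IrrCharacter G) : G → ℂ) x) =
      ∑ ψ : Cfsg.IrrCharacter (G ⧸ N), (ψ : G ⧸ N → ℂ) (x : G ⧸ N) *
        conj ((ψ : G ⧸ N → ℂ) (x : G ⧸ N)) := rfl
  rw [h3, h2] at h1
  exact_mod_cast h1.symm

/-- class bound: if all commutators `⁅z, y⁆` lie in `Z` then `|Q| ≤ |Z| |C_Q(z)|`. -/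
theorem card_le_of_commutators {Q : Type*} [Group Q] [Fintype Q] (Z : Subgroup Q) (z : Q)
    (hz : ∀ y : Q, ⁅z, y⁆ ∈ Z) :
    Nat.card Q ≤ Nat.card Z * Nat.card (Subgroup.centralizer ({z} : Set Q)) := by
  classical
  have h1 := card_class_mul_card_centralizer z
  have h2 : (Finset.univ.filter (fun w : Q => IsConj z w)).card ≤ Nat.card Z := by
    have h4 : (Finset.univ.filter (fun w : Q => w ∈ Z)).card = Nat.card Z := by
      rw [Nat.card_eq_fintype_card,
        Fintype.card_of_subtype (Finset.univ.filter (fun w : Q => w ∈ Z)) (by simp)]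
    rw [← h4]
    apply Finset.card_le_card_of_injOn (fun w => w * z⁻¹)
    · intro w hw
      simp only [Finset.mem_coe, Finset.mem_filter, Finset.mem_univ, true_and] at hw ⊢
      obtain ⟨c, hc⟩ := isConj_iff.mp hw
      have h3 : w * z⁻¹ = (⁅z, c⁆)⁻¹ := by
        rw [← hc, commutatorElement_def]
        group
      rw [h3]
      exact Z.inv_mem (hz c)
    · intro a _ b _ hab
      exact mul_right_cancel hab
  calc Nat.card Q = (Finset.univ.filter (fun w : Q => IsConj z w)).card *
        Nat.card (Subgroup.centralizer ({z} : Set Q)) := h1.symm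
    _ ≤ Nat.card Z * Nat.card (Subgroup.centralizer ({z} : Set Q)) :=
        Nat.mul_le_mul_right _ h2

/-- the centralizer in `P` of an element outside `N` is small. -/
theorem card_centralizer_sylow (hG : 2 < Nat.card G) (χ : Cfsg.IrrCharacter G)
    (hχ : Nat.card {C : ConjClasses G // ∃ g ∈ C.carrier, (χ : G → ℂ) g ≠ 0} = 2)
    (p : ℕ) [Fact p.Prime]
    (N : Subgroup G) [N.Normal] (hN : ∀ g : G, g ∈ N ↔ (χ : G → ℂ) g ≠ 0) (hNp : IsPGroup p N)
    (hN1 : N ≠ ⊥) (P : Sylow p G) (z : (P : Subgroup G)) (hz : (z : G) ∉ N) :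
    Nat.card (Subgroup.centralizer ({z} : Set (P : Subgroup G))) * Nat.card N ∣
      Nat.card (P : Subgroup G) := by
  set C := Subgroup.centralizer ({z} : Set (P : Subgroup G)) with hC
  have hCp : IsPGroup p C := P.isPGroup'.to_subgroup C
  obtain ⟨c, hc⟩ := IsPGroup.iff_card.mp hCp
  obtain ⟨a, ha⟩ := IsPGroup.iff_card.mp hNp
  have hle : C.map (P : Subgroup G).subtype ≤ Subgroup.centralizer ({(z : G)} : Set G) := by
    rintro _ ⟨y, hy0, rfl⟩
    have hy : y ∈ Subgroup.centralizer ({z} : Set (P : Subgroup G)) := hy0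
    rw [Subgroup.mem_centralizer_iff] at hy ⊢
    intro h hh
    rw [Set.mem_singleton_iff.mp hh]
    have := hy z (Set.mem_singleton z)
    exact congrArg Subtype.val this
  have hcard : Nat.card (C.map (P : Subgroup G).subtype) = Nat.card C :=
    Subgroup.card_map_of_injective (P : Subgroup G).subtype_injective
  have h1 : p ^ c ∣ Nat.card (Subgroup.centralizer ({(z : G)} : Set G)) := by
    rw [← hc, ← hcard]
    exact Subgroup.card_dvd_of_le hle
  rw [card_centralizer_quot hG χ hχ N hN hN1 (z : G) hz] at h1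
  have h2 : p ^ c ∣ Nat.card (G ⧸ N) := h1.trans (Subgroup.card_subgroup_dvd_card _)
  have h3 : Nat.card G = Nat.card (G ⧸ N) * Nat.card N :=
    Subgroup.card_eq_card_quotient_mul_card_subgroup N
  have h4 : p ^ (c + a) ∣ Nat.card G := by
    rw [h3, pow_add, ← ha]
    exact Nat.mul_dvd_mul h2 (dvd_refl _)
  have h5 := P.pow_dvd_card_of_pow_dvd_card h4
  rw [hc, ha, ← pow_add]
  exact h5

end

theorem result {G : Type*} [Group G] [Finite G] (hG : 2 < Nat.card G) (χ : Cfsg.IrrCharacter G) (hχ : Nat.card {C : ConjClasses G // ∃ g ∈ C.carrier, (χ : G → ℂ) g ≠ 0} = 2) (p : ℕ) [Fact p.Prime] (N : Subgroup G) [N.Normal] (hN : ∀ g : G, g ∈ N ↔ (χ : G → ℂ) g ≠ 0) (hNp : IsPGroup p N) (hN1 : N ≠ ⊥) (P : Sylow p G) :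
    (∀ x : G, x ∉ N → Nat.card (Subgroup.centralizer ({x} : Set G)) = Nat.card (Subgroup.centralizer ({(x : G ⧸ N)} : Set (G ⧸ N)))) ∧
      ((Subgroup.center ↥(P : Subgroup G)).map (P : Subgroup G).subtype ≤ N ∧
        ((Subgroup.center ↥(P : Subgroup G)).map (P : Subgroup G).subtype = N ↔ (P : Subgroup G).Normal)) ∧
      (∃ i : ℕ, Subgroup.upperCentralSeries ↥(P : Subgroup G) i = N.subgroupOf (P : Subgroup G)) := by
  classical
  haveI := Fintype.ofFinite G
  have hNP : N ≤ (P : Subgroup G) := hNp.le_sylow_of_normal P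
  obtain ⟨g₁, hg₁N, hg₁⟩ : ∃ g ∈ N, g ≠ 1 := by
    by_contra hcon
    apply hN1
    rw [eq_bot_iff]
    intro g hg
    by_contra hg1
    exact hcon ⟨g, hg, hg1⟩
  set NP := N.subgroupOf (P : Subgroup G) with hNPdef
  have hcardNP : Nat.card NP = Nat.card N :=
    Nat.card_congr (Subgroup.subgroupOfEquivOfLe hNP).toEquiv
  have hNPbot : NP ≠ ⊥ := by
    intro h
    have h1 : (⟨g₁, hNP hg₁N⟩ : (P : Subgroup G)) ∈ NP := by
      rw [hNPdef, Subgroup.mem_subgroupOf]
      exact hg₁N
    rw [h, Subgroup.mem_bot] at h1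
    exact hg₁ (congrArg Subtype.val h1)
  -- the step in the upper central series
  have hstep : ∀ i : ℕ, Subgroup.upperCentralSeries (P : Subgroup G) i ≤ NP →
      Subgroup.upperCentralSeries (P : Subgroup G) i ≠ NP →
      Subgroup.upperCentralSeries (P : Subgroup G) (i + 1) ≤ NP := by
    intro i hle hne z hz
    by_contra hzN
    have hzN' : (z : G) ∉ N := by
      intro h
      apply hzN
      rw [hNPdef, Subgroup.mem_subgroupOf]
      exact h
    have h1 := card_le_of_commutators (Subgroup.upperCentralSeries (P : Subgroup G) i) z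
      (Subgroup.mem_upperCentralSeries_succ_iff.mp hz)
    have h2 := Nat.le_of_dvd Nat.card_pos
      (card_centralizer_sylow hG χ hχ p N hN hNp hN1 P z hzN')
    have hCpos : 0 < Nat.card (Subgroup.centralizer ({z} : Set (P : Subgroup G))) := Nat.card_pos
    have h3 : Nat.card N ≤ Nat.card (Subgroup.upperCentralSeries (P : Subgroup G) i) := by
      have h4 : Nat.card (Subgroup.centralizer ({z} : Set (P : Subgroup G))) * Nat.card N ≤
          Nat.card (Subgroup.centralizer ({z} : Set (P : Subgroup G))) *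
            Nat.card (Subgroup.upperCentralSeries (P : Subgroup G) i) := by
        calc _ ≤ Nat.card (P : Subgroup G) := h2
          _ ≤ _ := by rw [mul_comm]; exact h1
      exact Nat.le_of_mul_le_mul_left h4 hCpos
    apply hne
    apply Subgroup.eq_of_le_of_card_ge hle
    rw [hcardNP]
    exact h3
  refine ⟨fun x hx => card_centralizer_quot hG χ hχ N hN hN1 x hx, ?_, ?_⟩
  · -- the centre
    have hcenter : Subgroup.center (P : Subgroup G) ≤ NP := by
      have h1 := hstep 0 (by rw [Subgroup.upperCentralSeries_zero]; exact bot_le)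
        (by rw [Subgroup.upperCentralSeries_zero]; exact fun h => hNPbot h.symm)
      rwa [zero_add, Subgroup.upperCentralSeries_one] at h1
    have hb1 : (Subgroup.center ↥(P : Subgroup G)).map (P : Subgroup G).subtype ≤ N := by
      rintro _ ⟨z, hz, rfl⟩
      have := hcenter hz
      rw [hNPdef, Subgroup.mem_subgroupOf] at this
      exact this
    refine ⟨hb1, ?_⟩
    obtain ⟨hcent, -⟩ := Cfsg.Agent.S4837.result hG χ hχ p N hN hNp hN1
    constructor
    · intro heq
      -- every nonidentity element of N has centralizer P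
      have hCP : ∀ x ∈ N, x ≠ 1 → Subgroup.centralizer ({x} : Set G) = (P : Subgroup G) := by
        intro x hx hx1
        obtain ⟨P', hP'⟩ := hcent x hx hx1
        have hle : (P : Subgroup G) ≤ (P' : Subgroup G) := by
          rw [← hP']
          intro y hy
          rw [Subgroup.mem_centralizer_iff]
          intro h hh
          rw [Set.mem_singleton_iff.mp hh]
          have hxmap : x ∈ (Subgroup.center ↥(P : Subgroup G)).map (P : Subgroup G).subtype := by
            rw [heq]; exact hx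
          obtain ⟨z, hz, hzx⟩ := hxmap
          have := (Subgroup.mem_center_iff.mp hz) ⟨y, hy⟩
          have h2 := congrArg Subtype.val this
          simp only [Subgroup.coe_mul] at h2
          rw [← hzx]
          exact h2.symm
        have := P.is_maximal' P'.isPGroup' hle
        rw [hP', this]
      constructor
      intro y hy g
      have hx' : g⁻¹ * g₁ * g ∈ N := by
        have := ‹N.Normal›.conj_mem g₁ hg₁N g⁻¹
        simpa using this
      have hx'1 : g⁻¹ * g₁ * g ≠ 1 := by
        intro h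
        apply hg₁
        have : g₁ = g * (g⁻¹ * g₁ * g) * g⁻¹ := by group
        rw [this, h]
        group
      have hy' : y ∈ Subgroup.centralizer ({g⁻¹ * g₁ * g} : Set G) := by
        rw [hCP _ hx' hx'1]; exact hy
      rw [← hCP g₁ hg₁N hg₁, Subgroup.mem_centralizer_iff]
      intro h hh
      rw [Set.mem_singleton_iff.mp hh]
      have h3 := (Subgroup.mem_centralizer_iff.mp hy') _ (Set.mem_singleton _)
      calc g₁ * (g * y * g⁻¹) = g * ((g⁻¹ * g₁ * g) * y) * g⁻¹ := by group
        _ = g * (y * (g⁻¹ * g₁ * g)) * g⁻¹ := by rw [h3]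
        _ = g * y * g⁻¹ * g₁ := by group
    · intro hnormal
      apply le_antisymm hb1
      intro x hx
      by_cases hx1 : x = 1
      · rw [hx1]; exact Subgroup.one_mem _
      · obtain ⟨P', hP'⟩ := hcent x hx hx1
        have hPP' : P' = P := by
          haveI : (P : Subgroup G).Normal := hnormal
          obtain ⟨g, hg⟩ := MulAction.exists_smul_eq G P P'
          rw [← hg, Sylow.smul_eq_of_normal]
        rw [hPP'] at hP'
        refine ⟨⟨x, hNP hx⟩, ?_, rfl⟩
        show (⟨x, hNP hx⟩ : (P : Subgroup G)) ∈ Subgroup.center ↥(P : Subgroup G)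
        rw [Subgroup.mem_center_iff]
        intro y
        have hy : (y : G) ∈ Subgroup.centralizer ({x} : Set G) := by rw [hP']; exact y.2
        have h3 := (Subgroup.mem_centralizer_iff.mp hy) x (Set.mem_singleton _)
        apply Subtype.ext
        simp only [Subgroup.coe_mul]
        exact h3.symm
  · -- a term of the upper central series
    have hmain : ∀ i : ℕ, Subgroup.upperCentralSeries (P : Subgroup G) i ≤ NP ∨
        ∃ j : ℕ, Subgroup.upperCentralSeries (P : Subgroup G) j = NP := by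
      intro i
      induction i with
      | zero => left; rw [Subgroup.upperCentralSeries_zero]; exact bot_le
      | succ i ih =>
        rcases ih with h | h
        · by_cases heq : Subgroup.upperCentralSeries (P : Subgroup G) i = NP
          · right; exact ⟨i, heq⟩
          · left; exact hstep i h heq
        · right; exact h
    haveI : Group.IsNilpotent (P : Subgroup G) := P.isPGroup'.isNilpotent
    obtain ⟨n, hn⟩ := Group.IsNilpotent.nilpotent (P : Subgroup G)
    rcases hmain n with h | h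
    · refine ⟨n, ?_⟩
      rw [hn] at h ⊢
      exact (top_le_iff.mp h).symm
    · exact h

end Cfsg.Agent.S4838
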