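import Mathlib
import Cfsg.Statements.S4839
import Cfsg.Agent.S4838
import Cfsg.Agent.Lib.Helper80_S4839_TWO
import Cfsg.Agent.Lib.Helper20_S4839_FROB
import Cfsg.Agent.Lib.Helper20_S4839_ODD
import Cfsg.Agent.Lib.Helper31_S4839_CAM
import Cfsg.Agent.Lib.Helper31_S4839_CONV

set_option autoImplicit false
open Cfsg

namespace Cfsg.Agent.S4839

open scoped ComplexConjugate
open Cfsg.Agent.Lib.Helper80_CharBasic Cfsg.Agent.Lib.Helper80_CharComplete
  Cfsg.Agent.Lib.Helper3_CharBridge Cfsg.Agent.Lib.Helper3_CharOrtho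
  Cfsg.Agent.Lib.Helper75_Clifford Cfsg.Agent.Lib.Helper75_CharArith
  Cfsg.Agent.Lib.Helper75_Induced
open Cfsg.Agent.Lib.Helper80_S4839_TWO Cfsg.Agent.Lib.Helper20_S4839_FROB Cfsg.Agent.Lib.Helper20_S4839_ODD
  Cfsg.Agent.Lib.Helper31_S4839_CAM Cfsg.Agent.Lib.Helper31_S4839_CONV

/-- a subgroup meeting the support `N` of `χ` trivially has order dividing `χ(1)`. -/
theorem card_dvd_of_inf_eq_bot {G : Type*} [Group G] [Fintype G] (χ : Cfsg.IrrCharacter G)
    (N : Subgroup G) (hN : ∀ g : G, g ∈ N ↔ (χ : G → ℂ) g ≠ 0)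
    (S : Subgroup G) (hS : S ⊓ N = ⊥) (n : ℕ)
    (hn1 : (χ : G → ℂ) 1 = n) : Nat.card S ∣ n := by
  classical
  haveI : Fintype S := Fintype.ofFinite S
  have hvan : ∀ y : S, y ≠ 1 → (χ : G → ℂ) y = 0 := by
    intro y hy
    by_contra h
    have hyN : (y : G) ∈ N := (hN _).mpr h
    have h1 : (y : G) ∈ S ⊓ N := ⟨y.2, hyN⟩
    rw [hS, Subgroup.mem_bot] at h1
    exact hy (Subtype.ext h1)
  obtain ⟨m, hm⟩ := classInner_isCharacter_nat
    (isCharacter_res S (isCharacter_of_isIrrCharacter χ.2))
    (isCharacter_of_isIrrCharacter (oneIrr S).2)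
  have hsum : ∑ y : S, res S (χ : G → ℂ) y *
      conj (((oneIrr S : Cfsg.IrrCharacter S) : S → ℂ) y) = (n : ℂ) := by
    rw [Finset.sum_eq_single (1 : S)]
    · rw [res_apply]
      show (χ : G → ℂ) ((1 : S) : G) * conj (1 : ℂ) = _
      rw [map_one, mul_one]
      exact hn1
    · intro y _ hy
      rw [res_apply, hvan y hy, zero_mul]
    · intro h
      exact absurd (Finset.mem_univ _) h
  unfold Cfsg.classInner at hm
  rw [hsum] at hm
  have hQ0 : (Nat.card S : ℂ) ≠ 0 := by exact_mod_cast Nat.card_pos.ne'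
  have h5 : (n : ℂ) = ((Nat.card S * m : ℕ) : ℂ) := by
    push_cast
    rw [← hm]
    field_simp
  have h6 : n = Nat.card S * m := by exact_mod_cast h5
  exact Dvd.intro _ h6.symm

theorem result {G : Type*} [Group G] [Finite G] (hG : 2 < Nat.card G) (χ : Cfsg.IrrCharacter G) (hχ : Nat.card {C : ConjClasses G // ∃ g ∈ C.carrier, (χ : G → ℂ) g ≠ 0} = 2) (p : ℕ) [Fact p.Prime] (N : Subgroup G) [N.Normal] (hN : ∀ g : G, g ∈ N ↔ (χ : G → ℂ) g ≠ 0) (hNp : IsPGroup p N) (hN1 : N ≠ ⊥) :
    N = Cfsg.pCore p G ↔ ∃ H : Subgroup G, Cfsg.IsFrobeniusComplement H ∧ Cfsg.frobeniusKernel H = (N : Set G) ∧ Nat.card H + 1 = Nat.card N := by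
  classical
  haveI := Fintype.ofFinite G
  haveI : Fintype N := Fintype.ofFinite N
  have hNn : N.Normal := inferInstance
  have hp : p.Prime := Fact.out
  constructor
  · intro hNO
    -- elementary abelian
    obtain ⟨N', _, _, _, ⟨p', hp', hEA⟩, hN'supp, _⟩ := Cfsg.Agent.S4835.result hG χ hχ
    have hNN' : N' = N := by
      ext g
      rw [hN g, hN'supp g]
    rw [hNN'] at hEA
    have hcomm : ∀ a b : N, a * b = b * a := fun a b => hEA.1.is_comm.comm a b
    obtain ⟨e, k, he, hk, hcardN, hχ1, hval, hcardG, hclass, hinner⟩ :=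
      Cfsg.Agent.S4837.values hG χ hχ N hN hcomm
    obtain ⟨a, ha⟩ := IsPGroup.iff_card.mp hNp
    have hka : k + 1 = p ^ a := by rw [← hcardN, ha]
    have ha0 : a ≠ 0 := by
      rintro rfl
      rw [pow_zero] at hka
      omega
    obtain ⟨b, hb⟩ := Cfsg.Agent.S4837.e_prime_pow p hp e k a (Nat.card G) he hk hka hcardG (by
      intro q hq hqp
      haveI : Fact q.Prime := ⟨hq⟩
      have Q : Sylow q G := default
      have := Cfsg.Agent.S4837.sylow_card_dvd χ p N hN hNp q hqp Q (e * k) hχ1
      rwa [Sylow.card_eq_multiplicity] at this)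
    have hpk : ¬ p ∣ k := by
      intro h
      have h1 : p ∣ k + 1 := by rw [hka]; exact dvd_pow_self p ha0
      have h2 : p ∣ 1 := (Nat.dvd_add_right h).mp h1
      exact hp.one_lt.ne' (Nat.dvd_one.mp h2)
    have hindex : N.index = e ^ 2 * k := by
      have h1 := N.index_mul_card
      rw [hcardN, hcardG] at h1
      exact Nat.eq_of_mul_eq_mul_right (Nat.succ_pos k) (by rw [h1])
    -- centralizers of nonidentity elements of `N` are Sylow
    have hcent := (Cfsg.Agent.S4837.result hG χ hχ p N hN hNp hN1).1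
    obtain ⟨x₀, hx₀N, hx₀1⟩ : ∃ x ∈ N, x ≠ 1 := by
      by_contra hcon
      push Not at hcon
      exact hN1 ((Subgroup.eq_bot_iff_forall N).mpr hcon)
    -- `C_G(N) ≤ N`
    have hCN : Subgroup.centralizer (N : Set G) ≤ N := by
      obtain ⟨P, hP⟩ := hcent x₀ hx₀N hx₀1
      have hle : Subgroup.centralizer (N : Set G) ≤ (P : Subgroup G) := by
        rw [← hP]
        exact Subgroup.centralizer_le (Set.singleton_subset_iff.mpr hx₀N)
      have hpg : IsPGroup p ↥(Subgroup.centralizer (N : Set G)) :=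
        P.isPGroup'.to_le hle
      have h1 : Subgroup.centralizer (N : Set G) ≤ Cfsg.pCore p G :=
        le_sSup ⟨inferInstance, hpg⟩
      exact h1.trans hNO.ge
    -- elements commuting with a nonidentity element of `N` are `p`-elements
    have hB : ∀ x ∈ N, x ≠ 1 → ∀ y : G, y * x = x * y → ∃ j : ℕ, y ^ (p ^ j) = 1 := by
      intro x hx hx1 y hy
      obtain ⟨P, hP⟩ := hcent x hx hx1
      have hyP : y ∈ (P : Subgroup G) := by
        rw [← hP, Subgroup.mem_centralizer_iff]
        intro z hz
        rw [Set.mem_singleton_iff.mp hz]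
        exact hy.symm
      obtain ⟨j, hj⟩ := P.isPGroup' ⟨y, hyP⟩
      exact ⟨j, by simpa using congrArg Subtype.val hj⟩
    -- the key claim `e = 1`
    have he1 : e = 1 := by
      by_contra hne
      have hb0 : b ≠ 0 := by
        rintro rfl
        exact hne (by rw [hb, pow_zero])
      rcases hp.eq_two_or_odd' with h2 | hodd
      · -- `p = 2`
        subst h2
        have hexp : ∀ x ∈ N, x * x = 1 := by
          intro x hx
          have hp'2 : p' = 2 := by
            have h1 := hEA.2 x₀ hx₀N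
            have h2 : orderOf x₀ ∣ p' := orderOf_dvd_of_pow_eq_one h1
            have h3 : orderOf x₀ ≠ 1 := fun h => hx₀1 (orderOf_eq_one_iff.mp h)
            have h4 : orderOf x₀ = p' := (Nat.dvd_prime hp').mp h2 |>.resolve_left h3
            obtain ⟨j, hj⟩ := hNp ⟨x₀, hx₀N⟩
            have h5 : orderOf x₀ ∣ 2 ^ j := by
              apply orderOf_dvd_of_pow_eq_one
              simpa using congrArg Subtype.val hj
            rw [h4] at h5
            exact (Nat.prime_dvd_prime_iff_eq hp' Nat.prime_two).mp (hp'.dvd_of_dvd_pow h5)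
          have := hEA.2 x hx
          rw [hp'2, pow_two] at this
          exact this
        have hCam : ∀ g : G, g ∉ N → ∀ n ∈ N, IsConj g (g * n) := fun g hg =>
          camina N g (Cfsg.Agent.S4838.card_centralizer_quot hG χ hχ N hN hN1 g hg)
        -- an element of order 2 in `G ⧸ N`
        have hdvd : 2 ∣ Nat.card (G ⧸ N) := by
          rw [← Subgroup.index_eq_card, hindex, hb]
          exact Dvd.dvd.mul_right (dvd_pow (dvd_pow_self 2 hb0) two_ne_zero) k
        obtain ⟨tq, htq⟩ := exists_prime_orderOf_dvd_card' (G := G ⧸ N) 2 hdvd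
        obtain ⟨t, rfl⟩ := QuotientGroup.mk_surjective tq
        have htN : t ∉ N := by
          intro h
          have h1 : ((t : G) : G ⧸ N) = 1 := (QuotientGroup.eq_one_iff t).mpr h
          rw [h1, orderOf_one] at htq
          omega
        have ht2 : t * t ∈ N := by
          rw [← QuotientGroup.eq_one_iff, QuotientGroup.mk_mul, ← pow_two, ← htq]
          exact pow_orderOf_eq_one _
        obtain ⟨M, hMn, hM2, htM⟩ := two_core N hexp hCN hB hCam t htN ht2
        have hMN : M ≤ N := by
          have h1 : M ≤ Cfsg.pCore 2 G := le_sSup ⟨hMn, hM2⟩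
          exact h1.trans hNO.ge
        exact htN (hMN htM)
      · -- `p` odd
        have hkeven : 2 ∣ k := by
          have h1 : Odd (k + 1) := by rw [hka]; exact hodd.pow
          obtain ⟨c, hc⟩ := h1
          exact ⟨c, by omega⟩
        have hdvd : 2 ∣ Nat.card G := by
          rw [hcardG]
          exact Dvd.dvd.mul_right (Dvd.dvd.mul_left hkeven _) _
        obtain ⟨t, ht⟩ := exists_prime_orderOf_dvd_card' (G := G) 2 hdvd
        have hfpf : ∀ x ∈ N, x ≠ 1 → t * x ≠ x * t := by
          intro x hx hx1 hcomm'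
          obtain ⟨j, hj⟩ := hB x hx hx1 t hcomm'
          have h1 : orderOf t ∣ p ^ j := orderOf_dvd_of_pow_eq_one hj
          rw [ht] at h1
          have h2 : 2 ∣ p := Nat.prime_two.dvd_of_dvd_pow h1
          have h3 : ¬ 2 ∣ p := by
            rw [← even_iff_two_dvd, Nat.not_even_iff_odd]
            exact hodd
          exact h3 h2
        have hoddN : Odd (Nat.card N) := by
          rw [ha]
          exact hodd.pow
        obtain ⟨H, hHN, hHcard⟩ := odd_split N hcomm hoddN hCN t ht hfpf
        have hHk : Nat.card H = e ^ 2 * k := by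
          rw [hcardN, hcardG] at hHcard
          exact Nat.eq_of_mul_eq_mul_right (Nat.succ_pos k) (by rw [hHcard])
        have h1 := card_dvd_of_inf_eq_bot χ N hN H hHN (e * k) hχ1
        rw [hHk] at h1
        have h2 : e ^ 2 * k ≤ e * k := Nat.le_of_dvd (Nat.mul_pos he hk) h1
        have h3 : e ^ 2 ≤ e := Nat.le_of_mul_le_mul_right h2 hk
        have h4 : e * e ≤ e * 1 := by rw [mul_one, ← pow_two]; exact h3
        have h5 : e ≤ 1 := Nat.le_of_mul_le_mul_left h4 he
        omega
    -- now the Frobenius structure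
    subst he1
    rw [one_pow, one_mul] at hindex hcardG
    have hk2 : 1 < k := by
      by_contra hcon
      have : k = 1 := by omega
      subst this
      rw [hcardG] at hG
      omega
    have hcop : Nat.Coprime (Nat.card N) N.index := by
      rw [hcardN, hindex]
      exact (Nat.coprime_self_add_left.mpr (Nat.coprime_one_left k))
    have hcent' : ∀ x ∈ N, x ≠ 1 → Subgroup.centralizer ({x} : Set G) ≤ N := by
      intro x hx hx1
      have h1 := Cfsg.Agent.Lib.Helper80_CharComplete.card_class_mul_card_centralizer x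
      rw [hclass x hx hx1, hcardG] at h1
      have h2 : Nat.card (Subgroup.centralizer ({x} : Set G)) = k + 1 :=
        Nat.eq_of_mul_eq_mul_left hk h1
      have hle : N ≤ Subgroup.centralizer ({x} : Set G) := by
        intro y hy
        rw [Subgroup.mem_centralizer_iff]
        intro z hz
        rw [Set.mem_singleton_iff.mp hz]
        exact congrArg Subtype.val (hcomm ⟨x, hx⟩ ⟨y, hy⟩)
      have heq : N = Subgroup.centralizer ({x} : Set G) :=
        Subgroup.eq_of_le_of_card_ge hle (by rw [h2, hcardN])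
      exact heq.ge
    obtain ⟨H, hH, hker, hHcard⟩ :=
      frob_of_centralizer N hcop (by rw [hindex]; exact hk2) hN1 hcent'
    exact ⟨H, hH, hker, by rw [hHcard, hindex, hcardN]⟩
  · rintro ⟨H, hH, hker, hcard⟩
    exact pcore_of_frob p N hNp H hH hker hcard

end Cfsg.Agent.S4839
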