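import Cfsg.Statements.S4840
import Cfsg.Agent.S4835
import Cfsg.Agent.S4837
import Cfsg.Agent.S3360
import Cfsg.Agent.Lib.Helper1_Cores
import Cfsg.Agent.Lib.Helper80_S4840Defs
import Cfsg.Agent.Lib.Helper8_S4840_LIN
import Cfsg.Agent.Lib.Helper10_S4840_CASEA
import Cfsg.Agent.Lib.Helper10_S4840_NPCAB
import Cfsg.Agent.Lib.Helper80_S4840_PREA
import Cfsg.Agent.Lib.Helper73_S4840_PREB
import Cfsg.Agent.Lib.Helper2_S4840_FIT5
import Cfsg.Agent.Lib.Helper2_S4840_EXC

set_option autoImplicit false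
open Cfsg

namespace Cfsg.Agent.S4840

open Cfsg.Agent.Lib.Helper80_S4840Defs Cfsg.Agent.Lib.Helper1_Cores
  Cfsg.Agent.Lib.Helper8_S4840_LIN Cfsg.Agent.Lib.Helper10_S4840_CASEA
  Cfsg.Agent.Lib.Helper10_S4840_NPCAB Cfsg.Agent.Lib.Helper80_S4840_PREA
  Cfsg.Agent.Lib.Helper73_S4840_PREB Cfsg.Agent.Lib.Helper2_S4840_FIT5
  Cfsg.Agent.Lib.Helper2_S4840_EXC

/-- from the linear setting to the conclusion (Huppert's theorem S3360 plus the packages). -/
theorem concl_of_setting {p : ℕ} [Fact p.Prime] {V : Type*} [AddCommGroup V] [Module (ZMod p) V]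
    [Finite V] [Nontrivial V] {Γ : Type*} [Group Γ] [Finite Γ] (hsol : Group.IsSolvable Γ)
    {ρ : Γ →* (V ≃ₗ[ZMod p] V)} (hS : GSetting p ρ) (hpV : p ∣ Nat.card V) : Concl p Γ := by
  rcases Cfsg.Agent.S3360.result p hsol ρ hS.inj hS.trans with hA | hB
  · obtain ⟨A, hAn, hAc, hAab⟩ := caseA p ρ hS.inj hA
    haveI := hAn
    exact npcab p A hAc hAab
  · have hOp := preA hS
    have hcyc : ∀ r : ℕ, r.Prime → r ≠ p → (IsCyclic (Cfsg.pCore r Γ) ∨
        (r = 2 ∧ ∃ n : ℕ, Nonempty (Cfsg.pCore r Γ ≃* QuaternionGroup (2 ^ n)))) := by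
      intro r hr hrp
      haveI : Fact r.Prime := ⟨hr⟩
      exact preB hS hrp (Cfsg.pCore r Γ) (pCore_isPGroup r)
    obtain ⟨hcomm, hnpc | hexc⟩ := fit hsol p hOp hcyc
    · exact ⟨hnpc, hcomm⟩
    · exfalso
      have hp3 : p = 3 := hexc.1
      subst hp3
      have hV : Nat.card V = 9 ∨ Nat.card V = 81 := by
        simp only [Set.mem_insert_iff, Set.mem_singleton_iff] at hB
        rcases hB with h | h | h | h | h | h
        · exact Or.inl h
        · rw [h] at hpV; norm_num at hpV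
        · rw [h] at hpV; norm_num at hpV
        · rw [h] at hpV; norm_num at hpV
        · rw [h] at hpV; norm_num at hpV
        · exact Or.inr h
      exact exc hS hV hexc

/-- Let G be a finite solvable group of order greater than 2 with an irreducible character nonzero on exactly two conjugacy classes. Then there is exactly one prime p with O_p(G) ≠ 1, and the quotient G/O_p(G) has a normal p-complement and commutative Sylow p-subgroups. -/
theorem result {G : Type*} [Group G] [Finite G] [hs : Group.IsSolvable G] (hG : 2 < Nat.card G) (χ : Cfsg.IrrCharacter G) (hχ : Nat.card {C : ConjClasses G // ∃ g ∈ C.carrier, (χ : G → ℂ) g ≠ 0} = 2) :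
    ∃ p : ℕ, p.Prime ∧ (∀ q : ℕ, q.Prime → (Cfsg.pCore q G ≠ ⊥ ↔ q = p)) ∧
      Cfsg.HasNormalPComplement p (G ⧸ Cfsg.pCore p G) ∧ ∀ Q : Sylow p (G ⧸ Cfsg.pCore p G), IsMulCommutative (Q : Subgroup (G ⧸ Cfsg.pCore p G)) := by
  classical
  obtain ⟨N, hNn, hN1, hNmin, ⟨p, hp, hEA⟩, hsupp, htr⟩ := Cfsg.Agent.S4835.result hG χ hχ
  haveI : Fact p.Prime := ⟨hp⟩
  haveI := hNn
  have hNp : IsPGroup p N := by
    intro a
    refine ⟨1, ?_⟩
    rw [pow_one]
    exact Subtype.ext (by simpa using hEA.2 a a.2)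
  have hN' : ∀ g : G, g ∈ N ↔ (χ : G → ℂ) g ≠ 0 := fun g => (hsupp g).symm
  have hcent := (Cfsg.Agent.S4837.result hG χ hχ p N hN' hNp hN1).1
  -- a nonidentity element of `N`
  obtain ⟨x₀, hx₀N, hx₀⟩ : ∃ g ∈ N, g ≠ 1 := by
    by_contra hcon
    apply hN1
    rw [eq_bot_iff]
    intro g hg
    by_contra hg1
    exact hcon ⟨g, hg, hg1⟩
  -- elements commuting with a nonidentity element of `N` have `p`-power order
  have hst : ∀ x ∈ N, x ≠ 1 → ∀ g : G, g * x = x * g → ∃ k : ℕ, orderOf g = p ^ k := by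
    intro x hx hx1 g hgx
    obtain ⟨P, hP⟩ := hcent x hx hx1
    have hgC : g ∈ Subgroup.centralizer ({x} : Set G) := by
      rw [Subgroup.mem_centralizer_iff]
      intro h hh
      rw [Set.mem_singleton_iff.mp hh]
      exact hgx.symm
    rw [hP] at hgC
    obtain ⟨k, hk⟩ := (IsPGroup.iff_orderOf.mp P.isPGroup') ⟨g, hgC⟩
    exact ⟨k, by rw [← hk]; exact (Subgroup.orderOf_mk g hgC).symm⟩
  -- `O_p(G) = C_G(N)`
  have hO : ∀ g : G, g ∈ Cfsg.pCore p G ↔ ∀ x ∈ N, g * x = x * g := by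
    intro g
    constructor
    · intro hg x hx
      by_cases hx1 : x = 1
      · rw [hx1, mul_one, one_mul]
      · obtain ⟨P, hP⟩ := hcent x hx hx1
        have h1 : g ∈ (P : Subgroup G) := pCore_le_sylow p P hg
        rw [← hP, Subgroup.mem_centralizer_iff] at h1
        exact (h1 x (Set.mem_singleton x)).symm
    · intro hg
      have hCp : IsPGroup p (Subgroup.centralizer (N : Set G)) := by
        obtain ⟨P, hP⟩ := hcent x₀ hx₀N hx₀
        have hle : Subgroup.centralizer (N : Set G) ≤ (P : Subgroup G) := by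
          rw [← hP]
          exact Subgroup.centralizer_le (by simpa using hx₀N)
        exact P.isPGroup'.to_le hle
      have hle := le_pCore (Subgroup.normal_centralizer (H := N)) hCp
      apply hle
      rw [Subgroup.mem_centralizer_iff]
      intro h hh
      exact (hg h hh).symm
  refine ⟨p, hp, ?_, ?_⟩
  · intro q hq
    haveI : Fact q.Prime := ⟨hq⟩
    constructor
    · intro hne
      have hle : N ≤ Cfsg.pCore q G := hNmin _ (Cfsg.Agent.Lib.Helper1_Cores.pCore_normal q) hne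
      have hx₀q : x₀ ∈ Cfsg.pCore q G := hle hx₀N
      obtain ⟨a, ha⟩ := (IsPGroup.iff_orderOf.mp hNp) ⟨x₀, hx₀N⟩
      obtain ⟨b, hb⟩ := (IsPGroup.iff_orderOf.mp (pCore_isPGroup (G := G) q)) ⟨x₀, hx₀q⟩
      rw [Subgroup.orderOf_mk] at ha hb
      have ha0 : a ≠ 0 := by
        rintro rfl
        rw [pow_zero, orderOf_eq_one_iff] at ha
        exact hx₀ ha
      have h1 : p ∣ q ^ b := by
        rw [← hb, ha]
        exact dvd_pow_self p ha0
      exact ((Nat.prime_dvd_prime_iff_eq hp hq).mp (hp.dvd_of_dvd_pow h1)).symm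
    · rintro rfl
      intro hbot
      apply hN1
      rw [eq_bot_iff, ← hbot]
      exact le_pCore hNn hNp
  · obtain ⟨V, iV1, iV2, iV3, iV4, ρ, hS, hcard⟩ :=
      lin p N (Cfsg.pCore p G) hEA hN1 hO htr hst
    have hpV : p ∣ Nat.card V := by
      rw [hcard]
      obtain ⟨a, ha⟩ := IsPGroup.iff_card.mp hNp
      rw [ha]
      refine dvd_pow_self p ?_
      rintro rfl
      rw [pow_zero] at ha
      apply hN1
      exact Subgroup.card_eq_one.mp ha
    have hsol : Group.IsSolvable (G ⧸ Cfsg.pCore p G) := inferInstance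
    exact concl_of_setting hsol hS hpV

end Cfsg.Agent.S4840
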