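import Mathlib
import Cfsg.Statements.S4843
import Cfsg.Agent.Lib.Helper80_GalProdE

set_option autoImplicit false
open Cfsg

namespace Cfsg.Agent.S4843

open Cfsg.Agent.Lib.Helper80_GalProdB Cfsg.Agent.Lib.Helper80_GalProdC
  Cfsg.Agent.Lib.Helper80_GalProdE

universe u

theorem isNilpotent_of_le' {G : Type u} [Group G] {D N : Subgroup G} (h : D ≤ N)
    (hN : Group.IsNilpotent N) : Group.IsNilpotent D :=
  (Group.isNilpotent_congr (Subgroup.subgroupOfEquivOfLe h)).mp inferInstance

open scoped IsMulCommutative in
theorem center_isNilpotent' {G : Type u} [Group G] : Group.IsNilpotent (Subgroup.center G) :=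
  CommGroup.isNilpotent

theorem commutator_ne_self {G : Type u} [Group G] {N : Subgroup G} (hN : Group.IsNilpotent N)
    (hne : N ≠ ⊥) : ⁅N, N⁆ ≠ N := by
  intro h
  have : Nontrivial N := (Subgroup.nontrivial_iff_ne_bot N).mpr hne
  have h1 : commutator N < ⊤ := Group.IsSolvable.commutator_lt_top_of_nontrivial N
  have h2 : (commutator N).map N.subtype = (⊤ : Subgroup N).map N.subtype := by
    rw [Subgroup.map_subtype_commutator, h, ← MonoidHom.range_eq_map, Subgroup.range_subtype]
  exact h1.ne (Subgroup.map_injective N.subtype_injective h2)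

theorem main {G : Type u} [Group G] [Fintype G] {m : ℕ} (ρ : Representation ℂ G (Fin m → ℂ))
    [hρ : ρ.IsIrreducible] (hfaith : ∀ g : G, ρ.character g = ρ.character 1 → g = 1) {k : ℕ}
    (hk : k.Coprime (Nat.card G))
    (hirr : IsIrrCharacter G (fun g => ρ.character g * ρ.character (g ^ k))) :
    ∀ n : ℕ, ∀ N : Subgroup G, N.Normal → Group.IsNilpotent N → Nat.card N = n →
      N ≤ Subgroup.center G := by
  classical
  have hχ : IsIrrCharacter G ρ.character := ⟨m, ρ, hρ, rfl⟩
  have hprim := prim_of_irr_prod hχ hk hirr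
  intro n
  induction n using Nat.strong_induction_on with
  | _ n ih =>
    intro N hN hnil hcard
    by_contra hnc
    have hne : N ≠ ⊥ := by
      rintro rfl
      exact hnc bot_le
    have := hN
    have hD : ⁅N, N⁆ ≤ Subgroup.center G := by
      have hle : ⁅N, N⁆ ≤ N := Subgroup.commutator_le_self N
      have hlt : Nat.card (⁅N, N⁆ : Subgroup G) < n := by
        rw [← hcard]
        apply lt_of_le_of_ne (Subgroup.card_le_of_le hle)
        intro h
        exact commutator_ne_self hnil hne (Subgroup.eq_of_le_of_card_ge hle h.ge)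
      exact ih _ hlt ⁅N, N⁆ inferInstance (isNilpotent_of_le' hle hnil) rfl
    have hcl2 : ∀ a ∈ N, ∀ b ∈ N, a * b * a⁻¹ * b⁻¹ ∈ Subgroup.center G := by
      intro a ha b hb
      apply hD
      rw [← commutatorElement_def]
      exact Subgroup.commutator_mem_commutator ha hb
    have hZ : ∀ a ∈ N, (∀ b ∈ N, a * b = b * a) → a ∈ Subgroup.center G := by
      intro a ha hab
      have hZN : (N ⊓ Subgroup.centralizer (N : Set G)) ≤ Subgroup.center G := by
        apply abelian_normal_le_center ρ hfaith hprim _ inferInstance
        intro x hx y hy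
        exact (Subgroup.mem_centralizer_iff.mp hy.2 x hx.1)
      apply hZN
      rw [Subgroup.mem_inf]
      refine ⟨ha, ?_⟩
      rw [Subgroup.mem_centralizer_iff]
      intro b hb
      exact (hab b hb).symm
    have : Fintype N := Fintype.ofFinite N
    exact class2_false ρ N hfaith hcl2 hZ hnc hk hirr

/-- Let G be a finite group with a faithful irreducible character χ (taking the value χ(1) only at the identity) and let k be prime to the order of G, so that g ↦ χ(g^k) is a Galois conjugate of χ. If the pointwise product g ↦ χ(g)·χ(g^k) is again an irreducible character, then the Fitting subgroup of G equals its centre. -/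
theorem result {G : Type*} [Group G] [Finite G] (χ : Cfsg.IrrCharacter G) (hfaith : ∀ g : G, (χ : G → ℂ) g = (χ : G → ℂ) 1 → g = 1) (k : ℕ) (hk : Nat.Coprime k (Nat.card G)) (hirr : Cfsg.IsIrrCharacter G (fun g => (χ : G → ℂ) g * (χ : G → ℂ) (g ^ k))) : Cfsg.fittingSubgroup G = Subgroup.center G := by
  classical
  have := Fintype.ofFinite G
  obtain ⟨m, ρ, hρ, hχ⟩ := χ.2
  have := hρ
  have hfaith' : ∀ g : G, ρ.character g = ρ.character 1 → g = 1 := by
    rw [hχ]
    exact hfaith
  have hirr' : IsIrrCharacter G (fun g => ρ.character g * ρ.character (g ^ k)) := by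
    rw [hχ]
    exact hirr
  apply le_antisymm
  · unfold fittingSubgroup
    apply sSup_le
    rintro N ⟨hN, hnil⟩
    exact main ρ hfaith' hk hirr' _ N hN hnil rfl
  · apply le_sSup
    exact ⟨inferInstance, center_isNilpotent'⟩

end Cfsg.Agent.S4843
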