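import Cfsg.Statements.S4845
import Cfsg.Agent.Lib.Helper76_GalConj
import Cfsg.Agent.Lib.Helper76_GalConjGrp

set_option autoImplicit false
open Cfsg
open scoped commutatorElement

namespace Cfsg.Agent.S4845

open Cfsg.Agent.Lib Cfsg.Agent.Lib.Helper76_GalConj Cfsg.Agent.Lib.Helper76_GalConjGrp

universe u

section I2

variable {P : Type*} [Group P] [Finite P] (p : ℕ) [hp : Fact p.Prime]

/-- If `|P'| = p` and `GC` holds, every non-linear irreducible character is faithful. -/
theorem faithful_of_card_commutator (hgc : GC P) (hP' : Nat.card (commutator P) = p)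
    (χ : IrrCharacter P) (hχ : charDegree (χ : P → ℂ) ≠ 1) : kerC χ = ⊥ := by
  have hle := hgc.kerC_le_commutator χ hχ
  have hdvd : Nat.card (kerC χ) ∣ p := hP' ▸ Subgroup.card_dvd_of_le hle
  rcases (Nat.dvd_prime hp.out).mp hdvd with h1 | h1
  · exact Subgroup.card_eq_one.mp h1
  · exfalso
    apply hχ
    apply charDegree_eq_one_of_commutator_le
    exact (Subgroup.eq_of_le_of_card_ge hle (by rw [h1, hP'])).ge

theorem deg_sq_of_card_commutator (hP : IsPGroup p P) (hgc : GC P)
    (hP' : Nat.card (commutator P) = p)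
    (χ : IrrCharacter P) (hχ : charDegree (χ : P → ℂ) ≠ 1) :
    charDegree (χ : P → ℂ) ^ 2 = (Subgroup.center P).index := by
  apply deg_sq_eq_of_class_two χ
    (Helper76_PGroup.commutator_le_center_of_card_eq_prime p hP hP')
  intro c _ hc
  rw [faithful_of_card_commutator p hgc hP' χ hχ, Subgroup.mem_bot] at hc
  exact hc

end I2

/-- Main induction: `GC` forces `|P'| = p`. -/
theorem card_commutator_of_gc (p : ℕ) [hp : Fact p.Prime] :
    ∀ (n : ℕ) (P : Type u) [Group P] [Finite P], Nat.card P = n → IsPGroup p P →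
      (¬ ∀ a b : P, a * b = b * a) → GC P → Nat.card (commutator P) = p := by
  intro n
  induction n using Nat.strong_induction_on with
  | _ n ih =>
  intro P _ _ hn hP hna hgc
  have hD : commutator P ≠ ⊥ := by
    intro h
    apply hna
    intro a b
    have : ⁅a, b⁆ ∈ commutator P := Helper76_PGroup.commutatorElement_mem_commutator a b
    rw [h, Subgroup.mem_bot] at this
    exact commutatorElement_eq_one_iff_mul_comm.mp this
  obtain ⟨N, hNZ, hNc, hNcard⟩ := exists_central_of_normal p hP _ (commutator P) rfl hD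
  have hNn : N.Normal := ⟨fun n hn g => by
    have h1 := Subgroup.mem_center_iff.mp (hNZ hn) g
    rw [h1, mul_inv_cancel_right]
    exact hn⟩
  by_cases hQab : ∀ a b : P ⧸ N, a * b = b * a
  · have hle : commutator P ≤ N := by
      rw [commutator_def, Subgroup.commutator_le]
      intro a _ b _
      rw [← QuotientGroup.eq_one_iff]
      rw [commutatorElement_def, QuotientGroup.mk_mul, QuotientGroup.mk_mul, QuotientGroup.mk_mul,
        hQab (QuotientGroup.mk a) (QuotientGroup.mk b), QuotientGroup.mk_inv, QuotientGroup.mk_inv]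
      group
    rw [← hNcard, le_antisymm hle hNc]
  · exfalso
    have hQP : IsPGroup p (P ⧸ N) := hP.to_quotient N
    have hQgc : GC (P ⧸ N) := hgc.quotient N
    have hQcard : Nat.card (P ⧸ N) < n := by
      have h1 := Subgroup.card_eq_card_quotient_mul_card_subgroup N
      rw [hn, hNcard] at h1
      have hpos : 0 < Nat.card (P ⧸ N) := Nat.card_pos
      have := hp.out.one_lt
      nlinarith
    have hQ' : Nat.card (commutator (P ⧸ N)) = p := ih _ hQcard (P ⧸ N) rfl hQP hQab hQgc
    have hP' : Nat.card (commutator P) = p ^ 2 := by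
      have h1 := card_map_mk_mul N (commutator P) hNc
      rw [← commutator_quotient, hQ', hNcard] at h1
      rw [← h1, sq]
    -- a non-linear character of the quotient
    obtain ⟨χ₀', hχ₀'⟩ := exists_nonlinear hQab
    have hχ₀deg : charDegree (infl N χ₀' : P → ℂ) ≠ 1 := by rw [charDegree_infl]; exact hχ₀'
    -- a character not containing `N` in its kernel
    obtain ⟨x, hxN, hx1⟩ : ∃ x ∈ N, x ≠ 1 := by
      by_contra hcon
      push Not at hcon
      have : N = ⊥ := by
        rw [eq_bot_iff]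
        intro y hy
        rw [Subgroup.mem_bot]
        exact hcon y hy
      rw [this, Subgroup.card_bot] at hNcard
      exact hp.out.one_lt.ne hNcard
    obtain ⟨ξ, hξ⟩ := exists_irr_ne hx1
    have hξN : ¬ N ≤ kerC ξ := fun h => hξ ((mem_kerC ξ x).mp (h hxN))
    have hξdeg : charDegree (ξ : P → ℂ) ≠ 1 := by
      intro h
      exact hξN (hNc.trans (commutator_le_kerC_of_linear ξ h))
    have hdiff : charDegree (ξ : P → ℂ) ≠ charDegree (infl N χ₀' : P → ℂ) := by
      intro h
      obtain ⟨k, hk, hval⟩ := hgc (infl N χ₀') ξ hχ₀deg h.symm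
      have h1 := kerC_eq_of_galConj hk hval
      apply hξN
      rw [h1]
      exact le_kerC_infl N χ₀'
    -- facts about `Q = P / N`
    have hχ₀faith : kerC χ₀' = ⊥ := faithful_of_card_commutator p hQgc hQ' χ₀' hχ₀'
    have hQcyc : IsCyclic (Subgroup.center (P ⧸ N)) := isCyclic_center_of_faithful χ₀' hχ₀faith
    have hd₀ : charDegree (χ₀' : P ⧸ N → ℂ) ^ 2 = (Subgroup.center (P ⧸ N)).index :=
      deg_sq_of_card_commutator p hQP hQgc hQ' χ₀' hχ₀'
    have hNp : ∀ m ∈ N, m ^ p = 1 := by
      intro m hm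
      have h1 : (⟨m, hm⟩ : N) ^ Nat.card N = 1 := pow_card_eq_one'
      rw [hNcard] at h1
      exact congrArg Subtype.val h1
    obtain ⟨a, ha, hia⟩ := index_center_eq p hP N hNZ hNp hQcyc
    by_cases hcl : commutator P ≤ Subgroup.center P
    · -- class two
      have hKc : kerC ξ ≤ commutator P := hgc.kerC_le_commutator ξ hξdeg
      have hKZ : kerC ξ ≤ Subgroup.center P := hKc.trans hcl
      have hKne : kerC ξ ≠ commutator P := fun h => hξN (h ▸ hNc)
      have hKp : ∀ m ∈ kerC ξ, m ^ p = 1 := by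
        intro m hm
        have h1 : Nat.card (kerC ξ) ∣ p ^ 2 := hP' ▸ Subgroup.card_dvd_of_le hKc
        obtain ⟨j, hj, hKj⟩ := (Nat.dvd_prime_pow hp.out).mp h1
        have hj1 : j ≤ 1 := by
          by_contra hcon
          have : j = 2 := by omega
          subst this
          exact hKne (Subgroup.eq_of_le_of_card_ge hKc (by rw [hKj, hP']))
        have h2 : (⟨m, hm⟩ : kerC ξ) ^ Nat.card (kerC ξ) = 1 := pow_card_eq_one'
        have h3 : m ^ Nat.card (kerC ξ) = 1 := congrArg Subtype.val h2
        have h4 : Nat.card (kerC ξ) ∣ p := by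
          rw [hKj]
          exact (pow_dvd_pow p hj1).trans (by rw [pow_one])
        obtain ⟨c, hc⟩ := h4
        rw [hc, pow_mul, h3, one_pow]
      obtain ⟨ξ', hξ'⟩ := exists_quot_char (kerC ξ) ξ le_rfl
      have hξ'faith : kerC ξ' = ⊥ := by
        rw [eq_bot_iff]
        intro q hq
        obtain ⟨g, rfl⟩ := QuotientGroup.mk_surjective q
        have h1 : g ∈ kerC (infl (kerC ξ) ξ') := by rw [kerC_infl]; exact hq
        rw [hξ'] at h1
        rw [Subgroup.mem_bot]
        exact (QuotientGroup.eq_one_iff g).mpr h1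
      have hclK : commutator (P ⧸ kerC ξ) ≤ Subgroup.center (P ⧸ kerC ξ) := by
        rw [commutator_quotient]
        rintro q ⟨c, hc, rfl⟩
        exact center_le_comap_center (kerC ξ) (hcl hc)
      have hKcyc := isCyclic_center_of_faithful ξ' hξ'faith
      have hdξ : charDegree (ξ' : P ⧸ kerC ξ → ℂ) ^ 2 = (Subgroup.center (P ⧸ kerC ξ)).index := by
        apply deg_sq_eq_of_class_two ξ' hclK
        intro c _ hc
        rw [hξ'faith, Subgroup.mem_bot] at hc
        exact hc
      obtain ⟨b, hb, hib⟩ := index_center_eq p hP (kerC ξ) hKZ hKp hKcyc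
      have hdegξ : charDegree (ξ : P → ℂ) = charDegree (ξ' : P ⧸ kerC ξ → ℂ) := by
        rw [← charDegree_infl (kerC ξ) ξ', hξ']
      apply hdiff
      rw [hdegξ, charDegree_infl]
      apply eq_of_mul_sq_eq hp.out hb ha (charDegree_pos ξ') (charDegree_pos χ₀')
      rw [hdξ, hd₀, ← hib, ← hia]
    · -- `P' ≰ Z(P)`
      obtain ⟨A, hAab, hAidx⟩ :=
        exists_abelian_index_dvd p hP N hNZ hNc hNcard hP' hQ' hcl
      have h1 : charDegree (χ₀' : P ⧸ N → ℂ) ≤ p :=
        (charDegree_le_index_of_abelian χ₀' A hAab).trans (Nat.le_of_dvd hp.out.pos hAidx)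
      have hp1 := hp.out.one_lt
      have hd₀p : charDegree (χ₀' : P ⧸ N → ℂ) = p := by
        obtain ⟨j, hj⟩ := charDegree_eq_prime_pow p hQP χ₀'
        rw [hj] at h1 hχ₀' ⊢
        have hj0 : j ≠ 0 := by
          rintro rfl
          exact hχ₀' (pow_zero p)
        have hj1 : j ≤ 1 := by
          by_contra hcon
          have h2 : p ^ 2 ≤ p ^ j := Nat.pow_le_pow_right hp.out.pos (by omega)
          nlinarith
        have : j = 1 := by omega
        rw [this, pow_one]
      have hidx : (Subgroup.center P).index ≤ p ^ 3 := by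
        rw [hia, ← hd₀, hd₀p]
        rcases ha with ha | ha
        · rw [ha, one_mul]
          exact Nat.pow_le_pow_right hp.out.pos (by norm_num)
        · rw [ha, pow_succ' p 2]
      have hξle := (deg_sq_le_index_center ξ).trans hidx
      obtain ⟨i, hi⟩ := charDegree_eq_prime_pow p hP ξ
      apply hdiff
      rw [charDegree_infl, hd₀p]
      rw [hi] at hξle hξdeg ⊢
      have hi0 : i ≠ 0 := by
        rintro rfl
        exact hξdeg (pow_zero p)
      have hi1 : i ≤ 1 := by
        rw [← pow_mul] at hξle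
        have := (Nat.pow_le_pow_iff_right hp1).mp hξle
        omega
      have : i = 1 := by omega
      rw [this, pow_one]

/-- The converse direction. -/
theorem converse {P : Type*} [Group P] [Finite P] (p : ℕ) [hp : Fact p.Prime]
    (hP : IsPGroup p P) (hcyc : IsCyclic (Subgroup.center P))
    (hP' : Nat.card (commutator P) = p) : GC P := by
  intro χ ψ hχ hdeg
  have hψ : charDegree (ψ : P → ℂ) ≠ 1 := hdeg ▸ hχ
  have hcl := Helper76_PGroup.commutator_le_center_of_card_eq_prime p hP hP'
  have hker : ∀ θ : IrrCharacter P, charDegree (θ : P → ℂ) ≠ 1 →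
      ∀ z ∈ Subgroup.center P, z ∈ kerC θ → z = 1 := by
    intro θ hθ z hz hzk
    by_contra hz1
    have hzp : Subgroup.zpowers z ≠ ⊥ := by rwa [Ne, Subgroup.zpowers_eq_bot]
    obtain ⟨w, hwz, hw⟩ := exists_orderOf_eq_prime p hP _ hzp
    have hwZ : w ∈ Subgroup.center P := (Subgroup.zpowers_le.mpr hz) hwz
    have hwK : w ∈ kerC θ := (Subgroup.zpowers_le.mpr hzk) hwz
    have hwp : w ^ p = 1 := by rw [← hw]; exact pow_orderOf_eq_one w
    have hwD : w ∈ commutator P :=
      mem_of_pow_eq_one_of_isCyclic_center p hcyc _ hcl hP' hwZ hwp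
    have hDeq : Subgroup.zpowers w = commutator P :=
      Subgroup.eq_of_le_of_card_ge (Subgroup.zpowers_le.mpr hwD)
        (by rw [Nat.card_zpowers, hw, hP'])
    apply hθ
    apply charDegree_eq_one_of_commutator_le
    rw [← hDeq]
    exact Subgroup.zpowers_le.mpr hwK
  have hvan : ∀ θ : IrrCharacter P, charDegree (θ : P → ℂ) ≠ 1 →
      ∀ g : P, g ∉ Subgroup.center P → (θ : P → ℂ) g = 0 := fun θ hθ =>
    irr_vanish_off_center θ hcl (fun c hc hck => hker θ hθ c (hcl hc) hck)
  obtain ⟨z₀, hz₀⟩ := hcyc.exists_generator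
  have hord : orderOf z₀ = Nat.card (Subgroup.center P) :=
    orderOf_eq_card_of_forall_mem_zpowers hz₀
  have hprim : ∀ θ : IrrCharacter P, charDegree (θ : P → ℂ) ≠ 1 →
      IsPrimitiveRoot (centralHom θ z₀) (Nat.card (Subgroup.center P)) := by
    intro θ hθ
    have hinj := centralHom_injective θ (hker θ hθ)
    refine ⟨?_, ?_⟩
    · rw [← map_pow, pow_card_eq_one', map_one]
    · intro l hl
      rw [← hord]
      apply orderOf_dvd_of_pow_eq_one
      apply hinj
      rw [map_pow, hl, map_one]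
  have hn0 : 0 < Nat.card (Subgroup.center P) := Nat.card_pos
  obtain ⟨i, _, hi⟩ := (hprim χ hχ).eq_pow_of_pow_eq_one ((hprim ψ hψ).pow_eq_one)
  have hicop : i.Coprime (Nat.card (Subgroup.center P)) := by
    rw [← (hprim χ hχ).pow_iff_coprime hn0 i, hi]
    exact hprim ψ hψ
  have hcopP : i.Coprime (Nat.card P) := by
    obtain ⟨m, hm⟩ := hP.exists_card_eq
    rw [hm]
    apply Nat.Coprime.pow_right
    have hpn : p ∣ Nat.card (Subgroup.center P) := hP' ▸ Subgroup.card_dvd_of_le hcl
    exact Nat.Coprime.coprime_dvd_right hpn hicop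
  refine ⟨i, hcopP, ?_⟩
  intro g
  have h1 : (ψ : P → ℂ) 1 = (χ : P → ℂ) 1 := ((charDegree_eq_iff χ ψ).mp hdeg).symm
  by_cases hg : g ∈ Subgroup.center P
  · obtain ⟨j, hj⟩ := (Submonoid.mem_powers_iff _ _).mp
      (mem_powers_iff_mem_zpowers.mpr (hz₀ ⟨g, hg⟩))
    have e1 : (ψ : P → ℂ) g = (ψ : P → ℂ) 1 * centralHom ψ (z₀ ^ j) := by
      rw [hj]; exact irr_eq_centralHom_mul ψ ⟨g, hg⟩
    have e2 : (χ : P → ℂ) (g ^ i) = (χ : P → ℂ) 1 * centralHom χ ((z₀ ^ j) ^ i) := by
      rw [hj]; exact irr_eq_centralHom_mul χ (⟨g, hg⟩ ^ i)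
    rw [e1, e2, h1, map_pow, map_pow, map_pow, ← hi, ← pow_mul, ← pow_mul, mul_comm i j]
  · have hgi : g ^ i ∉ Subgroup.center P := fun h =>
      hg (mem_of_pow_mem_of_coprime _ hcopP h)
    rw [hvan ψ hψ g hg, hvan χ hχ _ hgi]

/-- Let p be a prime and P a finite non-commutative p-group. Then every two irreducible characters of P of the same degree greater than 1 are Galois conjugate (one is obtained from the other by composing with g ↦ g^k for some k prime to the order of P) if and only if the centre of P is cyclic and the derived subgroup of P has order p. -/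
theorem result {P : Type*} [Group P] [Finite P] (p : ℕ) [Fact p.Prime] (hP : IsPGroup p P) (hna : ¬ IsMulCommutative P) :
    (∀ χ ψ : Cfsg.IrrCharacter P, Cfsg.charDegree (χ : P → ℂ) ≠ 1 → Cfsg.charDegree (χ : P → ℂ) = Cfsg.charDegree (ψ : P → ℂ) → ∃ k : ℕ, Nat.Coprime k (Nat.card P) ∧ ∀ g : P, (ψ : P → ℂ) g = (χ : P → ℂ) (g ^ k)) ↔
      (IsCyclic (Subgroup.center P) ∧ Nat.card (commutator P) = p) := by
  have hna' : ¬ ∀ a b : P, a * b = b * a := fun h => hna ⟨⟨h⟩⟩
  constructor
  · intro hgc
    have hgc' : GC P := hgc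
    have h1 := card_commutator_of_gc p _ P rfl hP hna' hgc'
    refine ⟨?_, h1⟩
    obtain ⟨χ, hχ⟩ := exists_nonlinear hna'
    exact isCyclic_center_of_faithful χ (faithful_of_card_commutator p hgc' h1 χ hχ)
  · rintro ⟨hcyc, hP'⟩
    exact converse p hP hcyc hP'

end Cfsg.Agent.S4845
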