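import Cfsg.Statements.S4859
import Cfsg.Agent.Lib.Helper81_FrobSchur

set_option autoImplicit false
open Cfsg

namespace Cfsg.Agent.S4859

open Cfsg.Agent.Lib.Helper81_CharBasic Cfsg.Agent.Lib.Helper81_CharOrth
  Cfsg.Agent.Lib.Helper81_CharComplete Cfsg.Agent.Lib.Helper81_CharExpand
  Cfsg.Agent.Lib.Helper81_CharSchur Cfsg.Agent.Lib.Helper81_FrobSchur

/-- The purely group-theoretic half: `x * y` is not a square. -/
theorem not_square {G : Type*} [Group G] [Finite G] (p : ℕ) [Fact p.Prime] (hp : p ≠ 2) (x : G)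
    (hx : ∃ k : ℕ, orderOf x = p ^ k)
    (heven : Even (Nat.card (Subgroup.centralizer ({x} : Set G)))) (y : G)
    (hy : y ∈ Subgroup.centralizer ({x} : Set G)) (hy2 : ∃ k : ℕ, orderOf y = 2 ^ k)
    (hmax : ∀ z ∈ Subgroup.centralizer ({x} : Set G), (∃ k : ℕ, orderOf z = 2 ^ k) →
      orderOf z ≤ orderOf y) : ¬ ∃ u : G, u * u = x * y := by
  rintro ⟨u, hu⟩
  have hpp : p.Prime := Fact.out
  obtain ⟨a, ha⟩ := hx
  obtain ⟨b, hb⟩ := hy2
  have hxy : Commute x y := Subgroup.mem_centralizer_iff.mp hy x (Set.mem_singleton x)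
  -- an involution in the centralizer
  have h2 : 2 ≤ orderOf y := by
    haveI : Fact (Nat.Prime 2) := ⟨Nat.prime_two⟩
    obtain ⟨t, ht⟩ := exists_prime_orderOf_dvd_card' (G := Subgroup.centralizer ({x} : Set G)) 2
      (even_iff_two_dvd.mp heven)
    have := hmax (t : G) t.2 ⟨1, by rw [Subgroup.orderOf_coe, ht, pow_one]⟩
    rwa [Subgroup.orderOf_coe, ht] at this
  have hb1 : 1 ≤ b := by
    rcases Nat.eq_zero_or_pos b with h0 | h0
    · rw [h0, pow_zero] at hb; omega
    · exact h0
  have hcop : Nat.Coprime (orderOf x) (orderOf y) := by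
    rw [ha, hb]
    apply Nat.Coprime.pow
    exact (Nat.coprime_primes hpp Nat.prime_two).mpr hp
  have hord : orderOf (x * y) = p ^ a * 2 ^ b := by
    rw [hxy.orderOf_mul_eq_mul_orderOf_of_coprime hcop, ha, hb]
  -- u commutes with x
  have hux : Commute u x := by
    have h1 : Commute u (x * y) := by
      rw [← hu]; exact (Commute.refl u).mul_right (Commute.refl u)
    have h3 : (x * y) ^ (2 ^ b) = x ^ (2 ^ b) := by
      rw [hxy.mul_pow, ← hb, pow_orderOf_eq_one, mul_one]
    have h4 : Commute u (x ^ (2 ^ b)) := by rw [← h3]; exact h1.pow_right _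
    have hc : Nat.Coprime (2 ^ b) (orderOf x) := by rw [← hb]; exact hcop.symm
    obtain ⟨m, hm⟩ := exists_pow_eq_self_of_coprime hc
    rw [← hm]
    exact h4.pow_right m
  have huC : u ∈ Subgroup.centralizer ({x} : Set G) := by
    rw [Subgroup.mem_centralizer_iff]
    intro h hh
    rw [Set.mem_singleton_iff.mp hh]
    exact hux.eq.symm
  -- the order of u
  set n := orderOf u with hn
  have hnpos : 0 < n := orderOf_pos u
  have hsq : orderOf (u ^ 2) = n / Nat.gcd n 2 := orderOf_pow' u (by norm_num)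
  rw [pow_two, hu, hord] at hsq
  have hg2 : Nat.gcd n 2 = 2 := by
    have hdvd : Nat.gcd n 2 ∣ 2 := Nat.gcd_dvd_right n 2
    rcases (Nat.dvd_prime Nat.prime_two).mp hdvd with h1 | h1
    · exfalso
      rw [h1, Nat.div_one] at hsq
      have : 2 ∣ n := by
        rw [← hsq]
        exact Dvd.dvd.mul_left (dvd_pow_self 2 (by omega)) _
      have : 2 ∣ Nat.gcd n 2 := Nat.dvd_gcd this (dvd_refl 2)
      rw [h1] at this
      omega
    · exact h1
  have h2n : 2 ∣ n := by rw [← hg2]; exact Nat.gcd_dvd_left n 2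
  have hneq : n = p ^ a * 2 ^ (b + 1) := by
    rw [hg2] at hsq
    obtain ⟨k, hk⟩ := h2n
    rw [hk, Nat.mul_div_cancel_left k (by norm_num)] at hsq
    rw [hk, ← hsq, pow_succ]
    ring
  -- the 2-part of u
  have hv : orderOf (u ^ (p ^ a)) = 2 ^ (b + 1) := by
    rw [orderOf_pow' u (pow_ne_zero a hpp.ne_zero), ← hn, hneq, Nat.gcd_mul_right_left,
      Nat.mul_div_cancel_left _ (pow_pos hpp.pos a)]
  have := hmax (u ^ (p ^ a)) (Subgroup.pow_mem _ huC _) ⟨b + 1, hv⟩
  rw [hv, hb] at this
  have : 2 ^ b < 2 ^ (b + 1) := Nat.pow_lt_pow_right (by norm_num) (by omega)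
  omega

/-- Let p be an odd prime, G a finite group and x an element of G whose order is a power of p (possibly 1) and whose centralizer has even order. Let y be a 2-element of the centralizer of x whose order is largest among the 2-elements of that centralizer. Then x * y is not a square in G, and some non-principal real-valued irreducible character of G does not vanish at x * y. -/
theorem result {G : Type*} [Group G] [Finite G] (p : ℕ) [Fact p.Prime] (hp : p ≠ 2) (x : G) (hx : ∃ k : ℕ, orderOf x = p ^ k) (heven : Even (Nat.card (Subgroup.centralizer ({x} : Set G)))) (y : G) (hy : y ∈ Subgroup.centralizer ({x} : Set G)) (hy2 : ∃ k : ℕ, orderOf y = 2 ^ k) (hmax : ∀ z ∈ Subgroup.centralizer ({x} : Set G), (∃ k : ℕ, orderOf z = 2 ^ k) → orderOf z ≤ orderOf y) : (¬ ∃ u : G, u * u = x * y) ∧ ∃ χ : Cfsg.IrrCharacter G, ¬ ((χ : G → ℂ) = fun _ => (1 : ℂ)) ∧ (∀ g : G, ((χ : G → ℂ) g).im = 0) ∧ (χ : G → ℂ) (x * y) ≠ 0 := by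
  classical
  have hns := not_square p hp x hx heven y hy hy2 hmax
  refine ⟨hns, ?_⟩
  haveI := Fintype.ofFinite G
  haveI := Fintype.ofFinite (IrrCharacter G)
  by_contra hcon
  push Not at hcon
  have h0 : sqrtCount G (x * y) = 0 := by
    unfold sqrtCount
    have : IsEmpty {u : G // u * u = x * y} := ⟨fun u => hns ⟨u.1, u.2⟩⟩
    simp
  rw [sqrtCount_eq] at h0
  have hc : (Nat.card G : ℂ) ≠ 0 := card_ne_zero
  let one : IrrCharacter G := Cfsg.Agent.Lib.Helper80_CharBasic.oneIrr G
  have hone : (one : G → ℂ) = fun _ => (1 : ℂ) := rfl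
  rw [Finset.sum_eq_single one] at h0
  · rw [hone] at h0
    simp only [Finset.sum_const, Finset.card_univ, nsmul_eq_mul, mul_one] at h0
    rw [← Nat.card_eq_fintype_card, inv_mul_cancel₀ hc] at h0
    exact one_ne_zero h0
  · intro χ _ hne
    by_cases hν : ∑ u : G, (χ : G → ℂ) (u * u) = 0
    · rw [hν, mul_zero, zero_mul]
    · have hreal := irr_real_of_sum_sq_ne_zero χ hν
      have hχ1 : ¬ ((χ : G → ℂ) = fun _ => (1 : ℂ)) := by
        intro h
        apply hne
        apply Subtype.ext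
        rw [h, hone]
      rw [hcon χ hχ1 hreal, mul_zero]
  · intro h; exact absurd (Finset.mem_univ _) h

end Cfsg.Agent.S4859
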