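import Mathlib
import Cfsg.Statements.S4862
-- import your own Cfsg.Agent.* helpers here
import Cfsg.Agent.Lib.Helper77_RealDeg
import Cfsg.Agent.Lib.Helper77_BlockBasics
import Cfsg.Agent.Lib.Helper79_CharVals
import Cfsg.Agent.Lib.Helper75_CharProd
import Cfsg.Agent.Lib.Helper75_IndChar
import Cfsg.Agent.Lib.Helper75_Clifford
import Cfsg.Agent.Lib.Helper80_CharBasic
import Cfsg.Agent.Lib.Helper74_LinAct

set_option autoImplicit false
set_option linter.unusedSectionVars false
open Cfsg

namespace Cfsg.Agent.S4862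

open Cfsg.Agent.Lib.Helper3_CharBridge Cfsg.Agent.Lib.Helper3_CharOrtho
  Cfsg.Agent.Lib.Helper75_CharArith Cfsg.Agent.Lib.Helper75_Induced
  Cfsg.Agent.Lib.Helper75_Clifford Cfsg.Agent.Lib.Helper75_CharProd
  Cfsg.Agent.Lib.Helper75_IndChar
  Cfsg.Agent.Lib.Helper80_CharBasic Cfsg.Agent.Lib.Helper77_RealDeg
open scoped ComplexConjugate

section aux

variable {G : Type*} [Group G] [Fintype G]

/-- An irreducible character of degree prime to `p` has a nonzero sum over every normal subgroup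
contained in the derived subgroup of a Sylow `p`-subgroup. -/
theorem sum_ne_zero_of_not_dvd (p : ℕ) [Fact p.Prime] (P : Sylow p G) (M : Subgroup G)
    [Fintype M] (hMP : M ≤ ⁅(P : Subgroup G), (P : Subgroup G)⁆) (χ : IrrCharacter G)
    (hdeg : ¬ p ∣ charDegree (χ : G → ℂ)) : ∑ m : M, (χ : G → ℂ) m ≠ 0 := by
  classical
  have hp : p.Prime := Fact.out
  obtain ⟨Q, hQ⟩ : ∃ Q : Subgroup G, Q = (P : Subgroup G) := ⟨_, rfl⟩
  rw [← hQ] at hMP
  have : Fintype Q := Fintype.ofFinite _
  have hMleP : M ≤ Q := le_trans hMP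
    (Subgroup.commutator_le.2 (fun a ha b hb =>
      Q.mul_mem (Q.mul_mem (Q.mul_mem ha hb) (Q.inv_mem ha)) (Q.inv_mem hb)))
  set M' : Subgroup Q := M.subgroupOf Q with hM'
  have : Fintype M' := Fintype.ofFinite _
  have hχP : IsCharacter Q (res Q (χ : G → ℂ)) :=
    isCharacter_res _ (isCharacter_of_isIrrCharacter χ.2)
  obtain ⟨b, hb, hsum⟩ := exists_multiplicities hχP
  have hd : ∀ μ : IrrCharacter Q, ∃ d : ℕ,
      ∑ z : M', (μ : ↥Q → ℂ) z = (Nat.card M' : ℂ) * d :=
    fun μ => Cfsg.Agent.Lib.Helper79_CharVals.sum_subgroup_char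
      (isCharacter_of_isIrrCharacter μ.2) M'
  choose d hd using hd
  have hM'ne : (Nat.card M' : ℂ) ≠ 0 := by exact_mod_cast Nat.card_pos.ne'
  -- the sum over `M` in terms of the decomposition
  have hsumM : ∑ m : M, (χ : G → ℂ) m =
      (Nat.card M' : ℂ) * ((∑ μ : IrrCharacter Q, b μ * d μ : ℕ) : ℂ) := by
    have e1 : ∑ m : M, (χ : G → ℂ) m =
        ∑ z : M', res Q (χ : G → ℂ) (z : Q) := by
      symm
      refine Fintype.sum_equiv (Subgroup.subgroupOfEquivOfLe hMleP).toEquiv _ _ (fun z => ?_)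
      rfl
    rw [e1]
    have e2 : ∀ z : M', res Q (χ : G → ℂ) (z : Q) =
        ∑ μ : IrrCharacter Q, (b μ : ℂ) * (μ : ↥Q → ℂ) z := by
      intro z
      conv_lhs => rw [hsum]
      rw [Finset.sum_apply]
      rfl
    rw [Finset.sum_congr rfl (fun z _ => e2 z), Finset.sum_comm]
    push_cast
    rw [Finset.mul_sum]
    refine Finset.sum_congr rfl (fun μ _ => ?_)
    rw [← Finset.mul_sum, hd]
    ring
  intro h0
  rw [hsumM] at h0
  have h1 : (∑ μ : IrrCharacter Q, b μ * d μ : ℕ) = 0 := by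
    rcases mul_eq_zero.1 h0 with h | h
    · exact absurd h hM'ne
    · exact_mod_cast h
  have h2 : ∀ μ : IrrCharacter Q, b μ * d μ = 0 := by
    intro μ
    exact (Finset.sum_eq_zero_iff.1 h1) μ (Finset.mem_univ _)
  -- every constituent has degree divisible by `p`
  have h3 : ∀ μ : IrrCharacter Q, b μ ≠ 0 →
      p ∣ charDegree (μ : ↥Q → ℂ) := by
    intro μ hbμ
    by_contra hnd
    have hdvd := Cfsg.Agent.Lib.Helper77_BlockBasics.charDegree_dvd_card μ
    obtain ⟨n, hn⟩ := IsPGroup.iff_card.1 (show IsPGroup p Q by rw [hQ]; exact P.isPGroup')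
    rw [hn] at hdvd
    obtain ⟨j, -, hj⟩ := (Nat.dvd_prime_pow hp).1 hdvd
    have hj0 : j = 0 := by
      by_contra hj0
      apply hnd
      rw [hj]
      exact dvd_pow_self p hj0
    rw [hj0, pow_zero] at hj
    have hμ1 : (μ : ↥Q → ℂ) 1 = 1 := by
      rw [Cfsg.Agent.Lib.Helper77_BlockBasics.apply_one_eq_charDegree μ, hj]
      simp
    obtain ⟨f, hf⟩ := Cfsg.Agent.Lib.Helper74_LinAct.exists_lin_of_one hμ1
    -- `f` is trivial on `M'`
    have hfM : ∀ z : M', f (z : Q) = 1 := by
      intro z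
      have hz : ((z : Q) : G) ∈ ⁅Q, Q⁆ := hMP z.2
      have hmap : Subgroup.map Q.subtype ⁅(⊤ : Subgroup Q), (⊤ : Subgroup Q)⁆ =
          ⁅Q, Q⁆ := by
        rw [Subgroup.map_commutator, ← MonoidHom.range_eq_map, Subgroup.range_subtype]
      rw [← hmap] at hz
      obtain ⟨w, hw, hwz⟩ := hz
      have hwz' : w = (z : Q) := Subtype.ext hwz
      rw [← hwz']
      have hker : commutator Q ≤ f.ker := Abelianization.commutator_subset_ker f
      exact hker hw
    have h4 : ∑ z : M', (μ : ↥Q → ℂ) z = (Nat.card M' : ℂ) := by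
      rw [hf]
      simp only [Cfsg.Agent.Lib.Helper74_LinAct.lin_apply, hfM, Units.val_one, Finset.sum_const,
        Finset.card_univ, nsmul_eq_mul, mul_one, Nat.card_eq_fintype_card]
    rw [hd] at h4
    have h5 : (d μ : ℂ) = 1 := by
      have := mul_left_cancel₀ hM'ne (h4.trans (mul_one _).symm)
      exact this
    have h6 : d μ = 1 := by exact_mod_cast h5
    have := h2 μ
    rw [h6, mul_one] at this
    exact hbμ this
  -- hence `p ∣ χ(1)`
  apply hdeg
  have h7 : ((charDegree (χ : G → ℂ) : ℕ) : ℂ) =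
      ((∑ μ : IrrCharacter Q,
        b μ * charDegree (μ : ↥Q → ℂ) : ℕ) : ℂ) := by
    rw [← Cfsg.Agent.Lib.Helper77_BlockBasics.apply_one_eq_charDegree χ]
    have : (χ : G → ℂ) 1 = res Q (χ : G → ℂ) 1 := rfl
    rw [this, hsum, Finset.sum_apply]
    push_cast
    refine Finset.sum_congr rfl (fun μ _ => ?_)
    rw [← Cfsg.Agent.Lib.Helper77_BlockBasics.apply_one_eq_charDegree μ]
    rfl
  have h8 : charDegree (χ : G → ℂ) =
      ∑ μ : IrrCharacter Q, b μ * charDegree (μ : ↥Q → ℂ) := by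
    exact_mod_cast h7
  rw [h8]
  apply Finset.dvd_sum
  intro μ _
  by_cases hbμ : b μ = 0
  · rw [hbμ, zero_mul]; exact dvd_zero p
  · exact Dvd.dvd.mul_left (h3 μ hbμ) _

end aux

/-- Let p be an odd prime and G a finite group such that the subgroup generated by the p-elements of G is solvable and every real-valued irreducible complex character of G has degree prime to p. Let K be the subgroup generated by the 2-elements of G and P a Sylow p-subgroup of G. Then every normal subgroup M of G contained in K and in the derived subgroup of P is centralized by K. -/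
theorem result {G : Type*} [Group G] [Finite G] (p : ℕ) [Fact p.Prime] (hp : p ≠ 2) (hsolv : Group.IsSolvable ↥(Subgroup.closure {g : G | ∃ k : ℕ, orderOf g = p ^ k})) (hreal : ∀ χ : Cfsg.IrrCharacter G, (∀ g : G, ((χ : G → ℂ) g).im = 0) → ¬ p ∣ Cfsg.charDegree (χ : G → ℂ)) (P : Sylow p G) (M : Subgroup G) (hM : M.Normal) (hMK : M ≤ (Subgroup.closure {g : G | ∃ k : ℕ, orderOf g = 2 ^ k})) (hMP : M ≤ ⁅(P : Subgroup G), (P : Subgroup G)⁆) : (Subgroup.closure {g : G | ∃ k : ℕ, orderOf g = 2 ^ k}) ≤ Subgroup.centralizer (M : Set G) := by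
  classical
  have hpp : p.Prime := Fact.out
  have : Fintype G := Fintype.ofFinite G
  have : Fintype M := Fintype.ofFinite M
  have := hM
  -- `M` has odd order
  have hMleP : M ≤ (P : Subgroup G) := le_trans hMP
    (Subgroup.commutator_le.2 (fun a ha b hb =>
      (P : Subgroup G).mul_mem ((P : Subgroup G).mul_mem ((P : Subgroup G).mul_mem ha hb)
        ((P : Subgroup G).inv_mem ha)) ((P : Subgroup G).inv_mem hb)))
  have hMp : IsPGroup p M := P.isPGroup'.to_le hMleP
  obtain ⟨a, ha⟩ := IsPGroup.iff_card.1 hMp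
  have hodd : Odd (Nat.card M) := by
    rw [ha]
    exact Odd.pow (hpp.odd_of_ne_two hp)
  have hker : RealKer M := by
    apply realKer_of_sum_ne_zero M
    intro χ hχ
    exact sum_ne_zero_of_not_dvd p P M hMP χ (hreal χ hχ)
  rw [Subgroup.closure_le]
  rintro t ⟨k, hk⟩
  rw [SetLike.mem_coe, Subgroup.mem_centralizer_iff]
  intro x hx
  exact (two_elem_centralizes M hodd hker k t hk x hx).symm

end Cfsg.Agent.S4862
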