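import Cfsg.Statements.S4871
import Cfsg.Agent.Lib.Helper81_StrongReal
import Cfsg.Agent.Lib.Helper81_SDInvert
import Cfsg.Agent.Lib.Helper3_CharColumn
import Cfsg.Agent.Lib.Helper3_Ito

set_option autoImplicit false
open Cfsg

namespace Cfsg.Agent.S4871


open scoped ComplexConjugate
open Cfsg.Agent.Lib.Helper3_CharBridge Cfsg.Agent.Lib.Helper3_CharOrtho
  Cfsg.Agent.Lib.Helper3_CharComplete Cfsg.Agent.Lib.Helper75_CharArith
  Cfsg.Agent.Lib.Helper75_Induced Cfsg.Agent.Lib.Helper75_IndChar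
  Cfsg.Agent.Lib.Helper3_CharColumn Cfsg.Agent.Lib.Helper74_FS
  Cfsg.Agent.Lib.Helper75_LinChar Cfsg.Agent.Lib.Helper81_SemiDirect
  Cfsg.Agent.Lib.Helper81_SDInvert Cfsg.Agent.Lib.Helper81_MultFree
  Cfsg.Agent.Lib.Helper81_StrongReal

theorem charDegree_of_natCast {G : Type*} [Group G] {χ : G → ℂ} (n : ℕ) (h : χ 1 = n) :
    Cfsg.charDegree χ = n := by
  unfold Cfsg.charDegree
  rw [h]
  simp

theorem one_eq_charDegree {G : Type*} [Group G] [Fintype G] {χ : G → ℂ}
    (hχ : Cfsg.IsIrrCharacter G χ) : χ 1 = (Cfsg.charDegree χ : ℂ) ∧ 0 < Cfsg.charDegree χ := by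
  obtain ⟨n, hn0, hn⟩ := irr_one_eq_natCast hχ
  rw [charDegree_of_natCast n hn]
  exact ⟨hn, hn0⟩

theorem fsInd_eq_finsum {G : Type*} [Group G] [Fintype G] (χ : G → ℂ) :
    (Nat.card G : ℂ)⁻¹ * ∑ᶠ g : G, χ (g * g) = fsInd χ := by
  rw [finsum_eq_sum_of_fintype]
  rfl

/-- a linear character with indicator one takes the value one at squares -/
theorem sq_eq_one_of_fsInd {G : Type*} [Group G] [Fintype G] {lam : G → ℂ} (h : IsLin G lam)
    (hν : fsInd lam = 1) (g : G) : lam (g * g) = 1 := by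
  classical
  have hcard : (Nat.card G : ℂ) ≠ 0 := by
    rw [Nat.cast_ne_zero]; exact Nat.card_pos.ne'
  have hsum : ∑ s : G, lam (s * s) = (Nat.card G : ℂ) := by
    have := hν
    unfold fsInd at this
    field_simp at this
    exact this
  have hre : ∑ s : G, (1 - (lam (s * s)).re) = 0 := by
    rw [Finset.sum_sub_distrib, ← Complex.re_sum, hsum]
    simp [Nat.card_eq_fintype_card]
  have hnn : ∀ s : G, 0 ≤ 1 - (lam (s * s)).re := by
    intro s
    have := Complex.re_le_norm (lam (s * s))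
    rw [h.norm_eq_one] at this
    linarith
  have h0 := (Finset.sum_eq_zero_iff_of_nonneg (fun s _ => hnn s)).mp hre g (Finset.mem_univ g)
  have hre1 : (lam (g * g)).re = 1 := by linarith
  have hn := h.norm_eq_one (g * g)
  apply Complex.ext
  · simpa using hre1
  · have := Complex.sq_norm (lam (g * g))
    rw [hn, Complex.normSq_apply, hre1] at this
    simp only [Complex.one_im]
    nlinarith

/-- Itô for characters -/
theorem ito_char {G : Type*} [Group G] [Fintype G] {χ : G → ℂ} (hχ : Cfsg.IsIrrCharacter G χ)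
    (A : Subgroup G) [A.Normal] (hab : ∀ a ∈ A, ∀ b ∈ A, a * b = b * a) :
    Cfsg.charDegree χ ∣ A.index := by
  obtain ⟨n, ρ, hirr, rfl⟩ := hχ
  have := hirr
  have h1 := Cfsg.Agent.Lib.Helper3_Ito.ito ρ A hab
  have h2 : Module.finrank ℂ (Fin n → ℂ) = n := by simp
  have h3 : Cfsg.charDegree ρ.character = n := by
    apply charDegree_of_natCast
    rw [Representation.char_one]
    simp
  rw [h3, ← h2]
  exact h1

/-- Let G be a finite group that is the semidirect product of a normal elementary abelian subgroup N of odd order by a non-trivial 2-subgroup P, with N the unique minimal normal subgroup of G. Consider the strongly real irreducible complex characters of G (Frobenius–Schur indicator +1) whose degree is 1 or even. Then their average degree is at least 4/3: four times their number is at most three times the sum of their degrees. -/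
theorem result {G : Type*} [Group G] [Finite G] (N P : Subgroup G) (hN : N.Normal) (q : ℕ) [Fact q.Prime] (hq : q ≠ 2) (hNel : Cfsg.IsElementaryAbelian q N) (hP : IsPGroup 2 ↥P) (hP1 : P ≠ ⊥) (hdisj : N ⊓ P = ⊥) (hprod : N ⊔ P = ⊤) (hmin : N ≠ ⊥ ∧ ∀ M : Subgroup G, M.Normal → M ≠ ⊥ → N ≤ M) : 4 * Nat.card {χ : Cfsg.IrrCharacter G // (Cfsg.charDegree (χ : G → ℂ) = 1 ∨ 2 ∣ Cfsg.charDegree (χ : G → ℂ)) ∧ (Nat.card G : ℂ)⁻¹ * ∑ᶠ g : G, (χ : G → ℂ) (g * g) = 1} ≤ 3 * (∑ᶠ χ : {χ : Cfsg.IrrCharacter G // (Cfsg.charDegree (χ : G → ℂ) = 1 ∨ 2 ∣ Cfsg.charDegree (χ : G → ℂ)) ∧ (Nat.card G : ℂ)⁻¹ * ∑ᶠ g : G, (χ : G → ℂ) (g * g) = 1}, Cfsg.charDegree (χ.1 : G → ℂ)) := by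
  classical
  haveI := Fintype.ofFinite G
  haveI : Fintype N := Fintype.ofFinite N
  haveI := hN
  have h : IsSD N P := ⟨hN, hdisj, hprod⟩
  haveI hNc : IsMulCommutative N := hNel.1
  have hcomm : ∀ a b : N, a * b = b * a := fun a b => mul_comm' a b
  obtain ⟨z, hzc, hzz, hz1, hzinv⟩ := exists_inverting h hcomm hP hP1 hmin
  -- a nontrivial linear character of N
  obtain ⟨n₀, hn₀⟩ : ∃ n₀ : N, n₀ ≠ 1 := by
    by_contra hcon
    push Not at hcon
    apply hmin.1
    rw [eq_bot_iff]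
    intro x hx
    have := hcon ⟨x, hx⟩
    rw [Subgroup.mem_bot]
    exact congrArg Subtype.val this
  obtain ⟨lamI, hlamI⟩ : ∃ χ : Cfsg.IrrCharacter N, (χ : N → ℂ) n₀ ≠ (χ : N → ℂ) 1 := by
    by_contra hcon
    push Not at hcon
    have hc := (isConj_iff_forall_irr n₀ 1).mpr hcon
    rw [isConj_one_left] at hc
    exact hn₀ hc
  obtain ⟨lam, hlamdef⟩ : ∃ lam : N → ℂ, lam = (lamI : N → ℂ) := ⟨_, rfl⟩
  have hlam : IsLin N lam := by
    rw [hlamdef]
    refine ⟨isCharacter_of_isIrrCharacter lamI.2, ?_⟩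
    obtain ⟨n, ρ, hρ, hρe⟩ := lamI.2
    have := hρ
    rw [← hρe, Representation.char_one,
      Representation.IsIrreducible.finrank_eq_one_of_isMulCommutative ρ]
    simp
  have hne : ∃ n : N, lam n ≠ 1 := ⟨n₀, by rw [← hlam.2, hlamdef]; exact hlamI⟩
  -- the subgroup K and the characters Θ, Ψ
  obtain ⟨K, hKdef⟩ : ∃ K : Subgroup G, K = KK h lam := ⟨_, rfl⟩
  haveI : Fintype (KK h lam) := Fintype.ofFinite _
  have hKcard : (Nat.card (KK h lam) : ℂ) ≠ 0 := by
    rw [Nat.cast_ne_zero]; exact Nat.card_pos.ne'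
  set Θ : G → ℂ := Cfsg.indFun (KK h lam) (kap h lam) with hΘdef
  set Ψ : G → ℂ := Cfsg.indFun (KK h lam) (fun _ => (1 : ℂ)) with hΨdef
  have hκlin : IsLin (KK h lam) (kap h lam) := isLin_kap h hlam
  have hΘchar : Cfsg.IsCharacter G Θ := isCharacter_indFun _ hκlin.1
  have hΨchar : Cfsg.IsCharacter G Ψ := isCharacter_indFun _ (isLin_one (G := KK h lam)).1
  have hkey : fsInd Θ = Cfsg.classInner Θ Θ := fsInd_eq_norm h hlam hcomm z hzc hzz hzinv
  have hmf := multFree_of_fsInd_eq_norm hΘchar hkey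
  have hidx : (Nat.card (KK h lam) : ℂ)⁻¹ * (Nat.card G : ℂ) = ((KK h lam).index : ℂ) := by
    rw [← (KK h lam).card_mul_index]
    push_cast
    field_simp
  have hΘ1 : Θ 1 = ((KK h lam).index : ℂ) := by
    rw [hΘdef, indFun_one_eq, hκlin.2, mul_one, hidx]
  have hΨ1 : Ψ 1 = ((KK h lam).index : ℂ) := by
    rw [hΨdef, indFun_one_eq, mul_one, hidx]
  -- strongly real linear characters are trivial on K
  have hβK : ∀ β : Cfsg.IrrCharacter G, Cfsg.charDegree (β : G → ℂ) = 1 → fsInd (β : G → ℂ) = 1 →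
      ∀ k : KK h lam, (β : G → ℂ) k = 1 := by
    intro β hβ1 hβν k
    have hone : (β : G → ℂ) 1 = 1 := by
      rw [(one_eq_charDegree β.2).1, hβ1]; simp
    have hl : IsLin G (β : G → ℂ) := ⟨isCharacter_of_isIrrCharacter β.2, hone⟩
    have hsq := sq_eq_one_of_fsInd hl hβν
    -- trivial on N
    have hβN : ∀ n : N, (β : G → ℂ) n = 1 := by
      intro n
      have h2 : (β : G → ℂ) n ^ 2 = 1 := by
        rw [← hl.map_pow, pow_two]; exact hsq _
      have hqq : (β : G → ℂ) n ^ q = 1 := by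
        rw [← hl.map_pow, hNel.2 n n.2, hone]
      have hqodd : Odd q := (Fact.out : q.Prime).odd_of_ne_two hq
      obtain ⟨m, hm⟩ := hqodd
      rw [hm, pow_succ, pow_mul, h2, one_pow, one_mul] at hqq
      exact hqq
    -- trivial on (images of) sq
    have hβsq : ∀ s : P, s ∈ Lib.Helper81_StrongReal.sq h lam → (β : G → ℂ) (s : G) = 1 := by
      intro s hs
      unfold Lib.Helper81_StrongReal.sq at hs
      induction hs using Subgroup.closure_induction with
      | mem x hx =>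
        obtain ⟨t, _, rfl⟩ := hx
        rw [Subgroup.coe_mul]
        exact hsq _
      | one => rw [Subgroup.coe_one]; exact hone
      | mul x y _ _ hx hy => rw [Subgroup.coe_mul, hl.map_mul, hx, hy, one_mul]
      | inv x _ hx => rw [Subgroup.coe_inv, hl.map_inv, hx, inv_one]
    rw [← h.nP_mul_pP (k : G), hl.map_mul, hβN, hβsq _ ((mem_KK h lam _).mp k.2), one_mul]
  have hβΨ : ∀ β : Cfsg.IrrCharacter G, Cfsg.charDegree (β : G → ℂ) = 1 → fsInd (β : G → ℂ) = 1 →
      Cfsg.classInner Ψ (β : G → ℂ) = 1 := by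
    intro β hβ1 hβν
    rw [hΨdef, classInner_indFun_of_one_on _ _ _ (isClassFunction_of_isIrrCharacter β.2)
      (hβK β hβ1 hβν)]
    rw [Finset.sum_const, Finset.card_univ, nsmul_eq_mul, mul_one, Nat.card_eq_fintype_card]
    rw [Nat.card_eq_fintype_card] at hKcard
    exact inv_mul_cancel₀ hKcard
  have hβΘ : ∀ β : Cfsg.IrrCharacter G, Cfsg.charDegree (β : G → ℂ) = 1 → fsInd (β : G → ℂ) = 1 →
      Cfsg.classInner Θ (β : G → ℂ) = 0 := by
    intro β hβ1 hβν
    rw [hΘdef, classInner_indFun_of_one_on _ _ _ (isClassFunction_of_isIrrCharacter β.2)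
      (hβK β hβ1 hβν), sum_kap_eq_zero h hlam hne, mul_zero]
  -- constituents of Θ
  have hcons : ∀ χ : Cfsg.IrrCharacter G, Cfsg.classInner Θ (χ : G → ℂ) ≠ 0 →
      Cfsg.classInner Θ (χ : G → ℂ) = 1 ∧ fsInd (χ : G → ℂ) = 1 ∧
        2 ∣ Cfsg.charDegree (χ : G → ℂ) := by
    intro χ hχ
    obtain ⟨h1, h2⟩ := hmf χ hχ
    refine ⟨h1, h2, ?_⟩
    have hdvd : Cfsg.charDegree (χ : G → ℂ) ∣ N.index :=
      ito_char χ.2 N (fun a ha b hb => congrArg Subtype.val (hcomm ⟨a, ha⟩ ⟨b, hb⟩))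
    rw [h.index_eq] at hdvd
    obtain ⟨k, hk⟩ := hP.exists_card_eq
    rw [hk] at hdvd
    obtain ⟨j, _, hj⟩ := (Nat.dvd_prime_pow Nat.prime_two).mp hdvd
    rcases Nat.eq_zero_or_pos j with h0 | hpos
    · exfalso
      rw [h0, pow_zero] at hj
      exact hχ (hβΘ χ hj h2)
    · rw [hj]
      exact dvd_pow_self 2 hpos.ne'
  -- multiplicities
  obtain ⟨mΘ, hmΘ, hΘsum⟩ := exists_multiplicities hΘchar
  obtain ⟨mΨ, hmΨ, hΨsum⟩ := exists_multiplicities hΨchar
  have hdeg : ∀ χ : Cfsg.IrrCharacter G, (χ : G → ℂ) 1 = (Cfsg.charDegree (χ : G → ℂ) : ℂ) :=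
    fun χ => (one_eq_charDegree χ.2).1
  have hdegpos : ∀ χ : Cfsg.IrrCharacter G, 0 < Cfsg.charDegree (χ : G → ℂ) :=
    fun χ => (one_eq_charDegree χ.2).2
  have hΘnat : (KK h lam).index =
      ∑ χ : Cfsg.IrrCharacter G, mΘ χ * Cfsg.charDegree (χ : G → ℂ) := by
    have := congrFun hΘsum 1
    rw [hΘ1, Finset.sum_apply] at this
    simp only [Pi.smul_apply, smul_eq_mul, hdeg] at this
    exact_mod_cast this
  have hΨnat : (KK h lam).index =
      ∑ χ : Cfsg.IrrCharacter G, mΨ χ * Cfsg.charDegree (χ : G → ℂ) := by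
    have := congrFun hΨsum 1
    rw [hΨ1, Finset.sum_apply] at this
    simp only [Pi.smul_apply, smul_eq_mul, hdeg] at this
    exact_mod_cast this
  -- the sets L and E
  set L : Finset (Cfsg.IrrCharacter G) := Finset.univ.filter
    (fun χ => Cfsg.charDegree (χ : G → ℂ) = 1 ∧ fsInd (χ : G → ℂ) = 1) with hL
  set E : Finset (Cfsg.IrrCharacter G) := Finset.univ.filter
    (fun χ => 2 ∣ Cfsg.charDegree (χ : G → ℂ) ∧ fsInd (χ : G → ℂ) = 1) with hE
  have hLle : L.card ≤ (KK h lam).index := by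
    rw [hΨnat, Finset.card_eq_sum_ones, hL, Finset.sum_filter]
    apply Finset.sum_le_sum
    intro χ _
    split_ifs with hχ
    · have := hβΨ χ hχ.1 hχ.2
      rw [hmΨ χ] at this
      have hm1 : mΨ χ = 1 := by exact_mod_cast this
      rw [hm1, hχ.1]
    · exact Nat.zero_le _
  have hEge : (KK h lam).index ≤ ∑ χ ∈ E, Cfsg.charDegree (χ : G → ℂ) := by
    rw [hΘnat, hE, Finset.sum_filter]
    apply Finset.sum_le_sum
    intro χ _
    by_cases hm0 : mΘ χ = 0
    · rw [hm0, zero_mul]; exact Nat.zero_le _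
    · have hne0 : Cfsg.classInner Θ (χ : G → ℂ) ≠ 0 := by
        rw [hmΘ χ]; exact_mod_cast hm0
      obtain ⟨h1, h2, h3⟩ := hcons χ hne0
      rw [hmΘ χ] at h1
      have hm1 : mΘ χ = 1 := by exact_mod_cast h1
      rw [if_pos ⟨h3, h2⟩, hm1, one_mul]
  have hE2 : 2 * E.card ≤ ∑ χ ∈ E, Cfsg.charDegree (χ : G → ℂ) := by
    rw [Finset.card_eq_sum_ones, Finset.mul_sum]
    apply Finset.sum_le_sum
    intro χ hχ
    rw [hE, Finset.mem_filter] at hχ
    have := Nat.le_of_dvd (hdegpos χ) hχ.2.1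
    omega
  -- rewrite the goal
  have hXiff : ∀ χ : Cfsg.IrrCharacter G,
      ((Cfsg.charDegree (χ : G → ℂ) = 1 ∨ 2 ∣ Cfsg.charDegree (χ : G → ℂ)) ∧
        (Nat.card G : ℂ)⁻¹ * ∑ᶠ g : G, (χ : G → ℂ) (g * g) = 1) ↔
      ((Cfsg.charDegree (χ : G → ℂ) = 1 ∨ 2 ∣ Cfsg.charDegree (χ : G → ℂ)) ∧
        fsInd (χ : G → ℂ) = 1) := by
    intro χ
    rw [fsInd_eq_finsum]
  obtain ⟨Xp, hXp⟩ : ∃ Xp : Cfsg.IrrCharacter G → Prop, Xp = fun χ : Cfsg.IrrCharacter G =>
    ((Cfsg.charDegree (χ : G → ℂ) = 1 ∨ 2 ∣ Cfsg.charDegree (χ : G → ℂ)) ∧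
        (Nat.card G : ℂ)⁻¹ * ∑ᶠ g : G, (χ : G → ℂ) (g * g) = 1) := ⟨_, rfl⟩
  have hXp' : ∀ χ, Xp χ ↔ ((Cfsg.charDegree (χ : G → ℂ) = 1 ∨
      2 ∣ Cfsg.charDegree (χ : G → ℂ)) ∧ fsInd (χ : G → ℂ) = 1) := by
    intro χ
    rw [hXp]
    exact hXiff χ
  have hgoal : 4 * Nat.card {χ : Cfsg.IrrCharacter G // Xp χ} ≤
      3 * ∑ᶠ χ : {χ : Cfsg.IrrCharacter G // Xp χ}, Cfsg.charDegree (χ.1 : G → ℂ) := by
    classical
    haveI : DecidablePred Xp := Classical.decPred _
    haveI : Fintype {χ : Cfsg.IrrCharacter G // Xp χ} := Fintype.ofFinite _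
    have hcardX : Nat.card {χ : Cfsg.IrrCharacter G // Xp χ} = L.card + E.card := by
      rw [Nat.card_eq_fintype_card, Fintype.card_subtype, ← Finset.card_union_of_disjoint]
      · congr 1
        ext χ
        simp only [hL, hE, hXp', Finset.mem_filter, Finset.mem_univ, true_and, Finset.mem_union]
        tauto
      · rw [Finset.disjoint_left]
        intro χ h1 h2
        rw [hL, Finset.mem_filter] at h1
        rw [hE, Finset.mem_filter] at h2
        have := h2.2.1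
        rw [h1.2.1] at this
        omega
    have hsumX : (∑ᶠ χ : {χ : Cfsg.IrrCharacter G // Xp χ}, Cfsg.charDegree (χ.1 : G → ℂ)) =
        L.card + ∑ χ ∈ E, Cfsg.charDegree (χ : G → ℂ) := by
      rw [finsum_eq_sum_of_fintype,
        ← Finset.sum_subtype (Finset.univ.filter Xp) (by simp)
          (fun χ => Cfsg.charDegree (χ : G → ℂ))]
      have hunion : Finset.univ.filter Xp = L ∪ E := by
        ext χ
        simp only [hL, hE, hXp', Finset.mem_filter, Finset.mem_univ, true_and, Finset.mem_union]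
        tauto
      have hdisj' : Disjoint L E := by
        rw [Finset.disjoint_left]
        intro χ h1 h2
        rw [hL, Finset.mem_filter] at h1
        rw [hE, Finset.mem_filter] at h2
        have := h2.2.1
        rw [h1.2.1] at this
        omega
      rw [hunion, Finset.sum_union hdisj']
      congr 1
      rw [Finset.card_eq_sum_ones]
      apply Finset.sum_congr rfl
      intro χ hχ
      rw [hL, Finset.mem_filter] at hχ
      exact hχ.2.1
    rw [hcardX, hsumX]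
    omega
  rw [hXp] at hgoal
  exact hgoal

end Cfsg.Agent.S4871
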