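import Mathlib
import Cfsg.Statements.S4888
import Cfsg.Agent.Lib.Helper97_PrincipalThompson
import Cfsg.Agent.S4736
import Cfsg.Agent.S3294
import Cfsg.Agent.Lib.Helper77_QuotBlocks
import Cfsg.Agent.Lib.Helper77_BlockBasics
-- import your own Cfsg.Agent.* helpers here

set_option autoImplicit false
set_option linter.style.haveILetI false
open Cfsg

namespace Cfsg.Agent.S4888

open Cfsg.Agent.Lib.Helper78_LocalRing Cfsg.Agent.Lib.Helper97_PrincipalThompson


/-- Let G be a finite group, p a prime and M a maximal ideal of the algebraic integers containing p. Then all height-zero irreducible characters of the principal p-block of G (equivalently, all its characters of degree prime to p) have the same degree if and only if G has a normal p-complement. -/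
theorem result {G : Type*} [Group G] [Finite G] (p : ℕ) [Fact p.Prime] (M : Ideal Cfsg.AlgInt) (hM : Cfsg.IsPModular p M) : (∃ d : ℕ, ∀ χ : Cfsg.IrrCharacter G, χ ∈ (Cfsg.principalBlock M G) → Cfsg.blockHeight p (Cfsg.principalBlock M G) (χ : G → ℂ) = 0 → Cfsg.charDegree (χ : G → ℂ) = d) ↔ Cfsg.HasNormalPComplement p G := by
  have hp : p.Prime := Fact.out
  have hMp : M.IsPrime := isPrime_of_isPModular hM
  constructor
  · rintro ⟨d, hd⟩
    have hone : Cfsg.Agent.Lib.Helper80_CharBasic.oneIrr G ∈ Cfsg.principalBlock M G :=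
      sameBlock_refl hMp _
    have hdeg1 : Cfsg.charDegree
        ((Cfsg.Agent.Lib.Helper80_CharBasic.oneIrr G : Cfsg.IrrCharacter G) : G → ℂ) = 1 := by
      apply Cfsg.Agent.Lib.Helper59_Thompson.charDegree_eq
      simp [Cfsg.Agent.Lib.Helper80_CharBasic.oneIrr]
    have hd1 : d = 1 := by
      rw [← hd _ hone ((Cfsg.Agent.S4736.height_zero_iff p M hM _).2 (by
        rw [hdeg1]
        exact fun h => hp.one_lt.ne' (Nat.dvd_one.1 h))), hdeg1]
    subst hd1
    have hcore := not_dvd_card_pResidual_principal (G := G) p hM 1 one_ne_zero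
      (Nat.coprime_one_left _) 0 (by intro g; simp)
      (fun χ hχ hnd _ => hd χ hχ ((Cfsg.Agent.S4736.height_zero_iff p M hM χ).2 hnd))
    have hN : (Cfsg.pResidual p G).Normal := Cfsg.Agent.Lib.Helper2_PResidual.pResidual_normal
    exact Cfsg.Agent.S3294.hasNormalPComplement_of_quotient_isPGroup p (Cfsg.pResidual p G)
      ((Nat.Prime.coprime_iff_not_dvd hp).2 hcore).symm
      Cfsg.Agent.Lib.Helper2_PResidual.isPGroup_quotient_pResidual
  · intro h
    refine ⟨1, fun χ hχ hht => ?_⟩
    exact charDegree_eq_one_of_npc p M hM h χ hχ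
      ((Cfsg.Agent.S4736.height_zero_iff p M hM χ).1 hht)

end Cfsg.Agent.S4888
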