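import Cfsg.Statements.S4912
import Cfsg.Agent.Lib.Helper81_Twist
import Cfsg.Agent.Lib.Helper3_CharColumn
import Cfsg.Agent.Lib.Helper81_IndFS
import Cfsg.Agent.Lib.Helper75_LinChar

set_option autoImplicit false
open Cfsg

namespace Cfsg.Agent.S4912


open scoped ComplexConjugate
open Cfsg.Agent.Lib.Helper3_CharBridge Cfsg.Agent.Lib.Helper3_CharOrtho
  Cfsg.Agent.Lib.Helper3_CharComplete Cfsg.Agent.Lib.Helper75_CharArith
  Cfsg.Agent.Lib.Helper75_Induced Cfsg.Agent.Lib.Helper75_Clifford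
  Cfsg.Agent.Lib.Helper75_CharProd Cfsg.Agent.Lib.Helper81_Twist
  Cfsg.Agent.Lib.Helper3_CharColumn Cfsg.Agent.Lib.Helper74_FS Cfsg.Agent.Lib.Helper81_IndFS
  Cfsg.Agent.Lib.Helper75_LinChar

theorem charDegree_of_natCast {G : Type*} [Group G] {χ : G → ℂ} (n : ℕ) (h : χ 1 = n) :
    Cfsg.charDegree χ = n := by
  unfold Cfsg.charDegree
  rw [h]
  simp

theorem one_of_charDegree {G : Type*} [Group G] [Fintype G] {χ : G → ℂ}
    (hχ : Cfsg.IsIrrCharacter G χ) (h : Cfsg.charDegree χ = 1) : χ 1 = 1 := by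
  obtain ⟨n, _, hn⟩ := irr_one_eq_natCast hχ
  rw [charDegree_of_natCast n hn] at h
  rw [hn, h]
  simp

theorem fsInd_eq_finsum {G : Type*} [Group G] [Fintype G] (χ : G → ℂ) :
    (Nat.card G : ℂ)⁻¹ * ∑ᶠ g : G, χ (g * g) = fsInd χ := by
  rw [finsum_eq_sum_of_fintype]
  rfl

/-- a linear character with indicator one takes values whose squares are one -/
theorem sq_eq_one_of_fsInd {G : Type*} [Group G] [Fintype G] {lam : G → ℂ} (h : IsLin G lam)
    (hν : fsInd lam = 1) (g : G) : lam (g * g) = 1 := by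
  classical
  have hcard : (Nat.card G : ℂ) ≠ 0 := by
    rw [Nat.cast_ne_zero]; exact Nat.card_pos.ne'
  have hsum : ∑ s : G, lam (s * s) = (Nat.card G : ℂ) := by
    have := hν
    unfold fsInd at this
    field_simp at this
    exact this
  have hre : ∑ s : G, (1 - (lam (s * s)).re) = 0 := by
    rw [Finset.sum_sub_distrib, ← Complex.re_sum, hsum]
    simp [Nat.card_eq_fintype_card]
  have hnn : ∀ s : G, 0 ≤ 1 - (lam (s * s)).re := by
    intro s
    have := Complex.re_le_norm (lam (s * s))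
    rw [h.norm_eq_one] at this
    linarith
  have h0 := (Finset.sum_eq_zero_iff_of_nonneg (fun s _ => hnn s)).mp hre g (Finset.mem_univ g)
  have hre1 : (lam (g * g)).re = 1 := by linarith
  have hn := h.norm_eq_one (g * g)
  apply Complex.ext
  · simpa using hre1
  · have := Complex.sq_norm (lam (g * g))
    rw [hn, Complex.normSq_apply, hre1] at this
    simp only [Complex.one_im]
    nlinarith

/-- Let G be a finite group with a non-abelian minimal normal subgroup N, and let φ be an irreducible complex character of N with stabilizer I in G such that φ extends to an irreducible character of I with Frobenius–Schur indicator +1. Put d = φ(1)·[G : I]. Then the number of linear characters of G with Frobenius–Schur indicator +1 is at most [G : I] times the number of irreducible characters of G of degree d with Frobenius–Schur indicator +1. -/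
theorem result {G : Type*} [Group G] [Finite G] (N : Subgroup G) (hN : N.Normal) (hN1 : N ≠ ⊥) (hmin : ∀ M : Subgroup G, M.Normal → M ≤ N → M = ⊥ ∨ M = N) (hna : ¬ IsMulCommutative ↥N) (φ : Cfsg.IrrCharacter ↥N) (I : Subgroup G) (hI : ∀ g : G, g ∈ I ↔ ∀ n n' : ↥N, (n' : G) = g * (n : G) * g⁻¹ → (φ : ↥N → ℂ) n' = (φ : ↥N → ℂ) n) (hNI : N ≤ I) (hext : ∃ ψ : Cfsg.IrrCharacter ↥I, (Nat.card ↥I : ℂ)⁻¹ * ∑ᶠ g : ↥I, (ψ : ↥I → ℂ) (g * g) = 1 ∧ ∀ n : ↥N, (ψ : ↥I → ℂ) (Subgroup.inclusion hNI n) = (φ : ↥N → ℂ) n) : Nat.card {χ : Cfsg.IrrCharacter G // Cfsg.charDegree (χ : G → ℂ) = 1 ∧ (Nat.card G : ℂ)⁻¹ * ∑ᶠ g : G, (χ : G → ℂ) (g * g) = 1} ≤ I.index * Nat.card {χ : Cfsg.IrrCharacter G // Cfsg.charDegree (χ : G → ℂ) = Cfsg.charDegree (φ : ↥N → ℂ) * I.index ∧ (Nat.card G : ℂ)⁻¹ * ∑ᶠ g : G, (χ : G → ℂ) (g * g) = 1} := by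
  classical
  haveI := Fintype.ofFinite G
  haveI : Fintype N := Fintype.ofFinite N
  haveI : Fintype I := Fintype.ofFinite I
  obtain ⟨ψ, hψν, hext⟩ := hext
  rw [fsInd_eq_finsum] at hψν
  simp only [fsInd_eq_finsum]
  have hI' : ∀ g : G, g ∈ I ↔ conjFun N hN (φ : ↥N → ℂ) g = (φ : ↥N → ℂ) := by
    intro g
    rw [hI g]
    constructor
    · intro h
      funext n
      rw [conjFun_apply]
      exact h n ⟨g * n * g⁻¹, hN.conj_mem n n.2 g⟩ rfl
    · intro h n n' hn'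
      have e : n' = ⟨g * n * g⁻¹, hN.conj_mem n n.2 g⟩ := Subtype.ext hn'
      have := congrFun h n
      rw [conjFun_apply] at this
      rw [e]
      exact this
  set χ₀ : G → ℂ := Cfsg.indFun I (ψ : ↥I → ℂ) with hχ₀def
  have hχ₀ : Cfsg.IsIrrCharacter G χ₀ := isIrrCharacter_indFun_ext N I hN hNI φ.2 hI' ψ hext
  have hχ₀ν : fsInd χ₀ = 1 := fsInd_indFun_eq_one I ψ.2 hψν hχ₀
  have hnorm : Cfsg.classInner (res N χ₀) (res N χ₀) = (I.index : ℂ) :=
    classInner_res_indFun_ext N I hN hNI φ.2 hI' ψ hext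
  have hdeg : χ₀ 1 = (I.index : ℂ) * (φ : ↥N → ℂ) 1 := indFun_ext_one N I hNI ψ hext
  obtain ⟨dφ, _, hdφ⟩ := irr_one_eq_natCast φ.2
  have hcdφ : Cfsg.charDegree (φ : ↥N → ℂ) = dφ := charDegree_of_natCast dφ hdφ
  haveI : Fintype {χ : Cfsg.IrrCharacter G // Cfsg.charDegree (χ : G → ℂ) = 1 ∧
      fsInd (χ : G → ℂ) = 1} := Fintype.ofFinite _
  haveI : Fintype {χ : Cfsg.IrrCharacter G //
      Cfsg.charDegree (χ : G → ℂ) = Cfsg.charDegree (φ : ↥N → ℂ) * I.index ∧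
      fsInd (χ : G → ℂ) = 1} := Fintype.ofFinite _
  have hlin1 : ∀ ν : {χ : Cfsg.IrrCharacter G // Cfsg.charDegree (χ : G → ℂ) = 1 ∧
      fsInd (χ : G → ℂ) = 1}, (ν.1 : G → ℂ) 1 = 1 := fun ν => one_of_charDegree ν.1.2 ν.2.1
  have hlinN : ∀ ν : {χ : Cfsg.IrrCharacter G // Cfsg.charDegree (χ : G → ℂ) = 1 ∧
      fsInd (χ : G → ℂ) = 1}, ∀ n : ↥N, (ν.1 : G → ℂ) n = 1 := fun ν n =>
    linear_trivial_on_minimal_normal N hN hmin hna ν.1.2 (hlin1 ν) n n.2
  have hΦirr : ∀ ν : {χ : Cfsg.IrrCharacter G // Cfsg.charDegree (χ : G → ℂ) = 1 ∧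
      fsInd (χ : G → ℂ) = 1}, Cfsg.IsIrrCharacter G ((ν.1 : G → ℂ) * χ₀) := fun ν =>
    isIrrCharacter_linear_mul ν.1.2 (hlin1 ν) hχ₀
  have hΦdeg : ∀ ν : {χ : Cfsg.IrrCharacter G // Cfsg.charDegree (χ : G → ℂ) = 1 ∧
      fsInd (χ : G → ℂ) = 1},
      Cfsg.charDegree ((ν.1 : G → ℂ) * χ₀) = Cfsg.charDegree (φ : ↥N → ℂ) * I.index := by
    intro ν
    rw [hcdφ]
    apply charDegree_of_natCast
    rw [Pi.mul_apply, hlin1 ν, one_mul, hdeg, hdφ]
    push_cast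
    ring
  have hΦν : ∀ ν : {χ : Cfsg.IrrCharacter G // Cfsg.charDegree (χ : G → ℂ) = 1 ∧
      fsInd (χ : G → ℂ) = 1}, fsInd ((ν.1 : G → ℂ) * χ₀) = 1 := by
    intro ν
    have hl : IsLin G (ν.1 : G → ℂ) := ⟨isCharacter_of_isIrrCharacter ν.1.2, hlin1 ν⟩
    have e : fsInd ((ν.1 : G → ℂ) * χ₀) = fsInd χ₀ := by
      unfold fsInd
      congr 1
      apply Finset.sum_congr rfl
      intro s _
      rw [Pi.mul_apply, sq_eq_one_of_fsInd hl ν.2.2 s, one_mul]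
    rw [e, hχ₀ν]
  let Φ : {χ : Cfsg.IrrCharacter G // Cfsg.charDegree (χ : G → ℂ) = 1 ∧
      fsInd (χ : G → ℂ) = 1} →
      {χ : Cfsg.IrrCharacter G //
        Cfsg.charDegree (χ : G → ℂ) = Cfsg.charDegree (φ : ↥N → ℂ) * I.index ∧
        fsInd (χ : G → ℂ) = 1} :=
    fun ν => ⟨⟨(ν.1 : G → ℂ) * χ₀, hΦirr ν⟩, hΦdeg ν, hΦν ν⟩
  rw [Nat.card_eq_fintype_card, Nat.card_eq_fintype_card]
  have hfib : ∀ a ∈ (Finset.univ : Finset {χ : Cfsg.IrrCharacter G //
      Cfsg.charDegree (χ : G → ℂ) = 1 ∧ fsInd (χ : G → ℂ) = 1}).image Φ,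
      ((Finset.univ : Finset {χ : Cfsg.IrrCharacter G //
        Cfsg.charDegree (χ : G → ℂ) = 1 ∧ fsInd (χ : G → ℂ) = 1}).filter
          (fun x => Φ x = a)).card ≤ I.index := by
    intro a ha
    obtain ⟨μ, _, hμ⟩ := Finset.mem_image.mp ha
    rw [← Finset.card_map ⟨Subtype.val, Subtype.val_injective⟩]
    have hχ₁ : ((a.1 : Cfsg.IrrCharacter G) : G → ℂ) = (μ.1 : G → ℂ) * χ₀ := by
      rw [← hμ]
    apply card_le_of_twist_eq N hχ₀ a.1.2 _ I.index hnorm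
    · intro ν hν
      obtain ⟨ν', hν', rfl⟩ := Finset.mem_map.mp hν
      refine ⟨hlinN ν', ?_⟩
      have := (Finset.mem_filter.mp hν').2
      show (ν'.1 : G → ℂ) * χ₀ = _
      rw [← this]
    · intro n
      rw [hχ₁, Pi.mul_apply, hlinN μ n, one_mul]
  calc Fintype.card {χ : Cfsg.IrrCharacter G // Cfsg.charDegree (χ : G → ℂ) = 1 ∧
        fsInd (χ : G → ℂ) = 1}
      = (Finset.univ : Finset {χ : Cfsg.IrrCharacter G //
          Cfsg.charDegree (χ : G → ℂ) = 1 ∧ fsInd (χ : G → ℂ) = 1}).card := rfl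
    _ ≤ I.index * ((Finset.univ : Finset {χ : Cfsg.IrrCharacter G //
          Cfsg.charDegree (χ : G → ℂ) = 1 ∧ fsInd (χ : G → ℂ) = 1}).image Φ).card :=
        Finset.card_le_mul_card_image _ _ hfib
    _ ≤ I.index * Fintype.card {χ : Cfsg.IrrCharacter G //
          Cfsg.charDegree (χ : G → ℂ) = Cfsg.charDegree (φ : ↥N → ℂ) * I.index ∧
          fsInd (χ : G → ℂ) = 1} :=
        Nat.mul_le_mul_left _ (Finset.card_le_univ _)

end Cfsg.Agent.S4912
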