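import Cfsg.Statements.S4914
import Cfsg.Agent.Lib.Helper75_RelGlaubMain
import Cfsg.Agent.Lib.Helper3_GlaubAmbient

set_option autoImplicit false
open Cfsg

namespace Cfsg.Agent.S4914

open Cfsg.Agent.Lib.Helper3_CharBridge Cfsg.Agent.Lib.Helper75_CharArith
  Cfsg.Agent.Lib.Helper75_RelGlaubQuot Cfsg.Agent.Lib.Helper75_RelGlaubMain
  Cfsg.Agent.Lib.Helper3_GlaubAmbient

theorem normK {G : Type*} [Group G] (P K : Subgroup G)
    (hPK : P ≤ Subgroup.normalizer (K : Set G)) : ∀ s ∈ P, ∀ g ∈ K, s * g * s⁻¹ ∈ K := by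
  intro s hs g hg
  exact (Subgroup.mem_normalizer_iff.mp (hPK hs) g).mp hg

theorem normQ {G : Type*} [Group G] [Finite G] (p : ℕ) [Fact p.Prime] (P K Q : Subgroup G)
    (hnormK : ∀ s ∈ P, ∀ g ∈ K, s * g * s⁻¹ ∈ K) (hQK : Q ≤ K)
    (hQn : ∀ k ∈ K, ∀ q ∈ Q, k * q * k⁻¹ ∈ Q) (hQp : ∃ a : ℕ, Nat.card ↥Q = p ^ a)
    (hQsyl : ¬ p ∣ Q.relIndex K) : ∀ x ∈ P, ∀ q ∈ Q, x * q * x⁻¹ ∈ Q := by
  intro x hx q hq
  have hQ'n : (Q.subgroupOf K).Normal := by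
    constructor
    intro n hn g
    exact hQn g g.2 n hn
  obtain ⟨a, ha⟩ := hQp
  have hQpg : IsPGroup p Q := IsPGroup.of_card ha
  obtain ⟨j, hj⟩ := hQpg ⟨q, hq⟩
  have hqj : q ^ p ^ j = 1 := by
    have := congrArg Subtype.val hj
    simpa using this
  set y : ↥K := ⟨x * q * x⁻¹, hnormK x hx q (hQK hq)⟩ with hy
  have hyj : y ^ p ^ j = 1 := by
    apply Subtype.ext
    show (x * q * x⁻¹) ^ p ^ j = 1
    rw [conj_pow, hqj]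
    group
  set yb : ↥K ⧸ Q.subgroupOf K := (y : ↥K ⧸ Q.subgroupOf K) with hyb
  have h1 : yb ^ p ^ j = 1 := by
    rw [hyb, ← QuotientGroup.mk_pow, hyj]
    rfl
  have h2 : yb ^ Nat.card (↥K ⧸ Q.subgroupOf K) = 1 := pow_card_eq_one'
  have h3 : orderOf yb ∣ Nat.gcd (p ^ j) (Nat.card (↥K ⧸ Q.subgroupOf K)) :=
    Nat.dvd_gcd (orderOf_dvd_of_pow_eq_one h1) (orderOf_dvd_of_pow_eq_one h2)
  have h4 : Nat.gcd (p ^ j) (Nat.card (↥K ⧸ Q.subgroupOf K)) = 1 := by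
    apply Nat.Coprime.pow_left
    exact (Nat.Prime.coprime_iff_not_dvd (Fact.out : p.Prime)).mpr hQsyl
  rw [h4, Nat.dvd_one, orderOf_eq_one_iff] at h3
  have h5 : y ∈ Q.subgroupOf K := (QuotientGroup.eq_one_iff y).mp h3
  exact h5

theorem normC {G : Type*} [Group G] (P K Q C : Subgroup G)
    (hnormK : ∀ s ∈ P, ∀ g ∈ K, s * g * s⁻¹ ∈ K)
    (hC : ∀ k : G, k ∈ C ↔ (k ∈ K ∧ ∀ x ∈ P, x * k * x⁻¹ * k⁻¹ ∈ Q)) :
    ∀ s ∈ P, ∀ c ∈ C, s * c * s⁻¹ ∈ C := by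
  intro x hx c hc
  obtain ⟨hcK, hcP⟩ := (hC c).mp hc
  rw [hC]
  refine ⟨hnormK x hx c hcK, fun y hy => ?_⟩
  have ha := hcP (y * x) (P.mul_mem hy hx)
  have hb := hcP x hx
  have h1 : y * (x * c * x⁻¹) * y⁻¹ * (x * c * x⁻¹)⁻¹ =
      (y * x * c * (y * x)⁻¹ * c⁻¹) * (x * c * x⁻¹ * c⁻¹)⁻¹ := by group
  rw [h1]
  exact Q.mul_mem ha (Q.inv_mem hb)

theorem setup {G : Type*} [Group G] [Finite G] (p : ℕ) [Fact p.Prime] (P K Q C : Subgroup G)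
    (hP : IsPGroup p ↥P) (hnormK : ∀ s ∈ P, ∀ g ∈ K, s * g * s⁻¹ ∈ K) (hQK : Q ≤ K)
    (hQn : ∀ k ∈ K, ∀ q ∈ Q, k * q * k⁻¹ ∈ Q) (hQp : ∃ a : ℕ, Nat.card ↥Q = p ^ a)
    (hQsyl : ¬ p ∣ Q.relIndex K) (hCK : C ≤ K)
    (hC : ∀ k : G, k ∈ C ↔ (k ∈ K ∧ ∀ x ∈ P, x * k * x⁻¹ * k⁻¹ ∈ Q))
    (hPQ : ∀ x ∈ P, ∀ q ∈ Q, x * q * x⁻¹ ∈ Q) (hnormC : ∀ s ∈ P, ∀ c ∈ C, s * c * s⁻¹ ∈ C) :
    Setup p (conjHom K P hnormK) (conjHom C P hnormC) (Subgroup.inclusion hCK)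
      (Q.subgroupOf K) where
  inj := Subgroup.inclusion_injective hCK
  compat := fun s c => Subtype.ext rfl
  normal := by
    constructor
    intro n hn g
    exact hQn g g.2 n hn
  stable := fun s q hq => hPQ s s.2 q hq
  range := by
    intro k
    constructor
    · rintro ⟨c, rfl⟩ s
      exact ((hC c).mp c.2).2 s s.2
    · intro h
      have hk : (k : G) ∈ C := (hC k).mpr ⟨k.2, fun x hx => h ⟨x, hx⟩⟩
      exact ⟨⟨k, hk⟩, Subtype.ext rfl⟩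
  cardS := IsPGroup.iff_card.mp hP
  idx := hQsyl
  cardQ := by
    obtain ⟨a, ha⟩ := hQp
    refine ⟨a, ?_⟩
    rw [← ha]
    exact Nat.card_congr (Subgroup.subgroupOfEquivOfLe hQK).toEquiv


/-- Let P and K be subgroups of a finite group G with P a p-group normalizing K, and suppose K has a normal Sylow p-subgroup Q. Let C be the subgroup of those k ∈ K whose commutator with every element of P lies in Q (so that C/Q is the fixed-point subgroup of P on K/Q). Then there is a bijection f from the P-invariant irreducible complex characters of K onto the P-invariant irreducible complex characters of C such that, for every P-invariant irreducible character χ of K, the multiplicity of f(χ) in the restriction of χ to C is a natural number congruent to 1 or to −1 modulo p, every other P-invariant irreducible character of C occurs in that restriction with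 multiplicity divisible by p, and the degrees of χ and f(χ) are congruent modulo p up to sign. -/
theorem result {G : Type*} [Group G] [Finite G] (p : ℕ) [Fact p.Prime] (P K Q C : Subgroup G) (hP : IsPGroup p ↥P) (hPK : P ≤ Subgroup.normalizer (K : Set G)) (hQK : Q ≤ K) (hQn : ∀ k ∈ K, ∀ q ∈ Q, k * q * k⁻¹ ∈ Q) (hQp : ∃ a : ℕ, Nat.card ↥Q = p ^ a) (hQsyl : ¬ p ∣ Q.relIndex K) (hCK : C ≤ K) (hC : ∀ k : G, k ∈ C ↔ (k ∈ K ∧ ∀ x ∈ P, x * k * x⁻¹ * k⁻¹ ∈ Q)) : ∃ f : {χ : Cfsg.IrrCharacter ↥K // (∀ x ∈ P, ∀ k k' : ↥K, (k' : G) = x * (k : G) * x⁻¹ → (χ : ↥K → ℂ) k' = (χ : ↥K → ℂ) k)} → {ξ : Cfsg.IrrCharacter ↥C // (∀ x ∈ P, ∀ k k' : ↥C, (k' : G) = x * (k : G) * x⁻¹ → (ξ : ↥C → ℂ) k' = (ξ : ↥C → ℂ) k)}, Function.Bijective f ∧ ∀ χ, (∀ ξ : {ξ : Cfsg.IrrCharacter ↥C // (∀ x ∈ P, ∀ k k' : ↥C, (k' : G) = x * (k : G) * x⁻¹ → (ξ : ↥C → ℂ) k' = (ξ : ↥C → ℂ) k)},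 ∃ m : ℕ, (Nat.card ↥C : ℂ)⁻¹ * ∑ᶠ c : ↥C, (χ.1 : ↥K → ℂ) (Subgroup.inclusion hCK c) * (starRingEnd ℂ) ((ξ.1 : ↥C → ℂ) c) = (m : ℂ) ∧ (ξ = f χ → ((m : ZMod p) = 1 ∨ (m : ZMod p) = -1)) ∧ (ξ ≠ f χ → p ∣ m)) ∧ ((Cfsg.charDegree ((f χ).1 : ↥C → ℂ) : ZMod p) = (Cfsg.charDegree (χ.1 : ↥K → ℂ) : ZMod p) ∨ (Cfsg.charDegree ((f χ).1 : ↥C → ℂ) : ZMod p) = -(Cfsg.charDegree (χ.1 : ↥K → ℂ) : ZMod p)) := by
  classical
  have hp : Fact p.Prime := inferInstance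
  have hp2 : 2 ≤ p := hp.out.two_le
  have : Fintype G := Fintype.ofFinite G
  have : Fintype K := Fintype.ofFinite K
  have : Fintype C := Fintype.ofFinite C
  -- `P` normalises `K`, `Q` and `C`
  have hnormK : ∀ s ∈ P, ∀ g ∈ K, s * g * s⁻¹ ∈ K := normK P K hPK
  have hPQ : ∀ x ∈ P, ∀ q ∈ Q, x * q * x⁻¹ ∈ Q := normQ p P K Q hnormK hQK hQn hQp hQsyl
  have hnormC : ∀ s ∈ P, ∀ c ∈ C, s * c * s⁻¹ ∈ C := normC P K Q C hnormK hC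
  have hsetup := setup p P K Q C hP hnormK hQK hQn hQp hQsyl hCK hC hPQ hnormC
  obtain ⟨hA, hB, hCc⟩ := rel_corr hsetup
  have toK : ∀ χ : Cfsg.IrrCharacter ↥K,
      (∀ x ∈ P, ∀ k k' : ↥K, (k' : G) = x * (k : G) * x⁻¹ → (χ : ↥K → ℂ) k' = (χ : ↥K → ℂ) k) →
      SInv (conjHom K P hnormK) (χ : ↥K → ℂ) := fun χ h s k => h s s.2 k _ rfl
  have toC : ∀ ξ : Cfsg.IrrCharacter ↥C,
      (∀ x ∈ P, ∀ k k' : ↥C, (k' : G) = x * (k : G) * x⁻¹ → (ξ : ↥C → ℂ) k' = (ξ : ↥C → ℂ) k) →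
      SInv (conjHom C P hnormC) (ξ : ↥C → ℂ) := fun ξ h s k => h s s.2 k _ rfl
  have fromK : ∀ χ : Cfsg.IrrCharacter ↥K, SInv (conjHom K P hnormK) (χ : ↥K → ℂ) →
      (∀ x ∈ P, ∀ k k' : ↥K, (k' : G) = x * (k : G) * x⁻¹ →
        (χ : ↥K → ℂ) k' = (χ : ↥K → ℂ) k) := by
    intro χ h x hx k k' hk'
    have : k' = conjHom K P hnormK ⟨x, hx⟩ k := Subtype.ext hk'
    rw [this]
    exact h ⟨x, hx⟩ k
  have fromC : ∀ ξ : Cfsg.IrrCharacter ↥C, SInv (conjHom C P hnormC) (ξ : ↥C → ℂ) →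
      (∀ x ∈ P, ∀ k k' : ↥C, (k' : G) = x * (k : G) * x⁻¹ →
        (ξ : ↥C → ℂ) k' = (ξ : ↥C → ℂ) k) := by
    intro ξ h x hx k k' hk'
    have : k' = conjHom C P hnormC ⟨x, hx⟩ k := Subtype.ext hk'
    rw [this]
    exact h ⟨x, hx⟩ k
  have hex : ∀ χ : {χ : Cfsg.IrrCharacter ↥K // (∀ x ∈ P, ∀ k k' : ↥K,
      (k' : G) = x * (k : G) * x⁻¹ → (χ : ↥K → ℂ) k' = (χ : ↥K → ℂ) k)},
      ∃ ξ : {ξ : Cfsg.IrrCharacter ↥C // (∀ x ∈ P, ∀ k k' : ↥C,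
        (k' : G) = x * (k : G) * x⁻¹ → (ξ : ↥C → ℂ) k' = (ξ : ↥C → ℂ) k)},
        GoodInv p (conjHom C P hnormC)
          (fun c => (χ.1 : ↥K → ℂ) (Subgroup.inclusion hCK c)) ξ.1 := by
    intro χ
    obtain ⟨ξ, hξinv, hg⟩ := hA χ.1 (toK χ.1 χ.2)
    exact ⟨⟨ξ, fromC ξ hξinv⟩, hg⟩
  choose f hf using hex
  refine ⟨f, ⟨?_, ?_⟩, fun χ => ⟨fun ξ => ?_, ?_⟩⟩
  · intro χ χ' heq
    apply Subtype.ext
    refine hB χ.1 χ'.1 (toK _ χ.2) (toK _ χ'.2) (f χ).1 (toC _ (f χ).2) (hf χ) ?_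
    rw [heq]
    exact hf χ'
  · intro ξ
    obtain ⟨χ, hχinv, hg⟩ := hCc ξ.1 (toC _ ξ.2)
    refine ⟨⟨χ, fromK χ hχinv⟩, ?_⟩
    apply Subtype.ext
    exact (GoodInv.unique hp2 (hf ⟨χ, fromK χ hχinv⟩) hg (toC _ ξ.2)).symm
  · -- multiplicities
    have hch : Cfsg.IsCharacter ↥C (fun c => (χ.1 : ↥K → ℂ) (Subgroup.inclusion hCK c)) :=
      isCharacter_comp (Subgroup.inclusion hCK) (isCharacter_of_isIrrCharacter χ.1.2)
    obtain ⟨m, hm⟩ := classInner_isCharacter_nat hch (isCharacter_of_isIrrCharacter ξ.1.2)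
    have hexpr : (Nat.card ↥C : ℂ)⁻¹ * ∑ᶠ c : ↥C, (χ.1 : ↥K → ℂ) (Subgroup.inclusion hCK c) *
        (starRingEnd ℂ) ((ξ.1 : ↥C → ℂ) c) =
        Cfsg.classInner (fun c => (χ.1 : ↥K → ℂ) (Subgroup.inclusion hCK c)) (ξ.1 : ↥C → ℂ) := by
      unfold Cfsg.classInner
      rw [finsum_eq_sum_of_fintype]
    refine ⟨m, by rw [hexpr]; exact hm, ?_, ?_⟩
    · intro heq
      obtain ⟨m₀, ε, hε, h1⟩ := (hf χ).1
      rw [← heq, hm] at h1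
      have h2 : (m : ℤ) = (p : ℤ) * m₀ + ε := by
        have : ((m : ℤ) : ℂ) = (((p : ℤ) * m₀ + ε : ℤ) : ℂ) := by rw [← h1]; simp
        exact Int.cast_injective this
      have h3 : ((m : ℤ) : ZMod p) = (ε : ZMod p) := by
        rw [h2]
        push_cast
        simp
      rw [Int.cast_natCast] at h3
      rcases hε with rfl | rfl
      · left
        rw [h3]; simp
      · right
        rw [h3]; simp
    · intro hne
      obtain ⟨m', h1⟩ := (hf χ).2 ξ.1 (toC _ ξ.2) (fun h => hne (Subtype.ext h))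
      rw [hm] at h1
      have h2 : (m : ℤ) = (p : ℤ) * m' := by
        have : ((m : ℤ) : ℂ) = (((p : ℤ) * m' : ℤ) : ℂ) := by rw [← h1]; simp
        exact Int.cast_injective this
      have h3 : (p : ℤ) ∣ (m : ℤ) := ⟨m', h2⟩
      exact_mod_cast h3
  · -- degrees
    obtain ⟨dχ, hdχ, _⟩ := Cfsg.Agent.Lib.Helper75_CanonExt.exists_degree χ.1.2
    obtain ⟨dξ, hdξ, _⟩ := Cfsg.Agent.Lib.Helper75_CanonExt.exists_degree (f χ).1.2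
    have e1 : Cfsg.charDegree (χ.1 : ↥K → ℂ) = dχ := by
      unfold Cfsg.charDegree
      rw [hdχ]; simp
    have e2 : Cfsg.charDegree ((f χ).1 : ↥C → ℂ) = dξ := by
      unfold Cfsg.charDegree
      rw [hdξ]; simp
    rw [e1, e2]
    exact degree_congr hsetup χ.1 (toK _ χ.2) (f χ).1 (toC _ (f χ).2) (hf χ) hdχ hdξ

end Cfsg.Agent.S4914
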