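import Cfsg.Statements.S4931
import Cfsg.Agent.S4216
import Cfsg.Agent.S0080
import Cfsg.Agent.S0081
import Cfsg.Agent.Lib.Helper3_Ito
import Cfsg.Agent.Lib.Helper3_CharColumn
import Cfsg.Agent.Lib.Helper57_FrobNorm
import Cfsg.Agent.Lib.Helper1_Frattini
import Mathlib
-- import your own Cfsg.Agent.* helpers here

set_option autoImplicit false
open Cfsg

namespace Cfsg.Agent.S4931

open Cfsg.Agent.Lib
open scoped commutatorElement

section basics

variable {H : Type*} [Group H] [Finite H]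

theorem char_eq_one_iff {n : ℕ} (ρ : Representation ℂ H (Fin n → ℂ)) (g : H) :
    ρ.character g = ρ.character 1 ↔ ρ g = 1 := by
  rw [Representation.char_one]
  exact Cfsg.Agent.Lib.Helper3_CharEigen.char_eq_finrank_iff ρ g

/-- the kernel of an irreducible character -/
def cker (ψ : Cfsg.IrrCharacter H) : Subgroup H where
  carrier := {g | (ψ : H → ℂ) g = (ψ : H → ℂ) 1}
  one_mem' := rfl
  mul_mem' := by
    intro a b ha hb
    obtain ⟨n, ρ, -, hρ⟩ := ψ.2
    simp only [Set.mem_ofPred_eq, ← hρ] at ha hb ⊢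
    rw [char_eq_one_iff] at ha hb ⊢
    rw [map_mul, ha, hb, mul_one]
  inv_mem' := by
    intro a ha
    obtain ⟨n, ρ, -, hρ⟩ := ψ.2
    simp only [Set.mem_ofPred_eq, ← hρ] at ha ⊢
    rw [char_eq_one_iff] at ha ⊢
    have h1 : ρ a⁻¹ = ρ a⁻¹ * ρ a := by rw [ha, mul_one]
    rw [h1, ← map_mul, inv_mul_cancel, map_one]

theorem mem_cker (ψ : Cfsg.IrrCharacter H) (g : H) :
    g ∈ cker ψ ↔ (ψ : H → ℂ) g = (ψ : H → ℂ) 1 := Iff.rfl

theorem irr_conj (ψ : Cfsg.IrrCharacter H) (g x : H) :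
    (ψ : H → ℂ) (g * x * g⁻¹) = (ψ : H → ℂ) x := by
  have := Fintype.ofFinite H
  exact Helper3_CharBridge.isClassFunction_of_isIrrCharacter ψ.2 x g

instance cker_normal (ψ : Cfsg.IrrCharacter H) : (cker ψ).Normal := by
  refine ⟨fun n hn g => ?_⟩
  rw [mem_cker] at hn ⊢
  rw [irr_conj, hn]

/-- irreducible characters separate non-identity elements from the identity -/
theorem exists_irr_ne (g : H) (hg : g ≠ 1) :
    ∃ ψ : Cfsg.IrrCharacter H, (ψ : H → ℂ) g ≠ (ψ : H → ℂ) 1 := by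
  have := Fintype.ofFinite H
  by_contra hcon
  push Not at hcon
  have := (Helper3_CharColumn.isConj_iff_forall_irr g 1).mpr hcon
  exact hg (isConj_one_left.mp this)

end basics


section lemmaA

variable {N : Type*} [Group N] [Finite N]

/-- Lemma A: a `p'`-degree irreducible character with `Q` in its kernel separating `x ∉ Q`. -/
theorem exists_sep (p : ℕ) [Fact p.Prime] (P Q : Subgroup N)
    [P.Normal] [Q.Normal] (hQP : Q ≤ P) (hPQ : ⁅P, P⁆ ≤ Q) (hidx : ¬ p ∣ P.index)
    (x : N) (hx : x ∉ Q) :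
    ∃ θ : Cfsg.IrrCharacter N, ¬ p ∣ Cfsg.charDegree (θ : N → ℂ) ∧
      (∀ u ∈ Q, (θ : N → ℂ) u = (θ : N → ℂ) 1) ∧ (θ : N → ℂ) x ≠ (θ : N → ℂ) 1 := by
  have hx1 : (QuotientGroup.mk' Q x) ≠ 1 := by
    intro h; exact hx ((QuotientGroup.eq_one_iff x).mp h)
  obtain ⟨ψ, hψ⟩ := exists_irr_ne (QuotientGroup.mk' Q x) hx1
  obtain ⟨n, ρ, hirr, hρ⟩ := ψ.2
  have hPbar_ab : ∀ a ∈ P.map (QuotientGroup.mk' Q), ∀ b ∈ P.map (QuotientGroup.mk' Q),
      a * b = b * a := by
    rintro _ ⟨a, ha, rfl⟩ _ ⟨b, hb, rfl⟩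
    rw [← map_mul, ← map_mul]
    apply (QuotientGroup.eq).mpr
    have : (a * b)⁻¹ * (b * a) = ⁅b⁻¹, a⁻¹⁆ := by
      simp [commutatorElement_def, mul_assoc]
    rw [this]
    exact hPQ (Subgroup.commutator_mem_commutator (P.inv_mem hb) (P.inv_mem ha))
  have hnorm : (P.map (QuotientGroup.mk' Q)).Normal :=
    Subgroup.Normal.map inferInstance _ (QuotientGroup.mk'_surjective Q)
  have := hirr
  have hito := Helper3_Ito.ito ρ (P.map (QuotientGroup.mk' Q)) hPbar_ab
  rw [Module.finrank_fin_fun] at hito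
  have hidx2 : (P.map (QuotientGroup.mk' Q)).index = P.index := by
    have hk : (QuotientGroup.mk' Q).ker ≤ P := by
      rw [QuotientGroup.ker_mk']
      exact hQP
    exact Subgroup.index_map_eq (f := QuotientGroup.mk' Q) P (QuotientGroup.mk'_surjective Q) hk
  rw [hidx2] at hito
  have hψ1 : (ψ : N ⧸ Q → ℂ) 1 = n := by
    rw [← hρ, Representation.char_one]
    simp
  refine ⟨⟨fun y => (ψ : N ⧸ Q → ℂ) (QuotientGroup.mk' Q y),
    Helper57_FrobNorm.isIrrCharacter_comp_surjective (QuotientGroup.mk' Q)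
      (QuotientGroup.mk'_surjective Q) ψ.2⟩, ?_, ?_, ?_⟩
  · have : Cfsg.charDegree (fun y => (ψ : N ⧸ Q → ℂ) (QuotientGroup.mk' Q y)) = n := by
      unfold Cfsg.charDegree
      simp only [map_one, hψ1]
      simp
    simp only
    rw [this]
    intro hpn
    exact hidx (hpn.trans hito)
  · intro u hu
    simp only [map_one]
    have : (QuotientGroup.mk' Q u) = 1 := (QuotientGroup.eq_one_iff u).mpr hu
    rw [this]
  · simp only [map_one]
    exact hψ

end lemmaA


section lemmaB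

variable {H : Type*} [Group H] [Finite H]

/-- Lemma B: a `p'`-element lies in every normal subgroup that is supplemented by a `p`-subgroup. -/
theorem mem_of_sup_eq_top (p : ℕ) [Fact p.Prime] (A B : Subgroup H) [A.Normal] (hB : IsPGroup p B)
    (hsup : A ⊔ B = ⊤) (m : H) (hm : ¬ p ∣ orderOf m) : m ∈ A := by
  have hm' : m ∈ ((A ⊔ B : Subgroup H) : Set H) := by rw [hsup]; trivial
  rw [Subgroup.normal_mul] at hm'
  obtain ⟨a, ha, b, hb, hab⟩ := hm'
  simp only at hab
  subst hab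
  obtain ⟨k, hk⟩ := hB ⟨b, hb⟩
  have hbk : b ^ (p ^ k) = 1 := by
    have := congrArg Subtype.val hk
    simpa using this
  -- work in the quotient
  have h1 : (QuotientGroup.mk' A (a * b)) ^ (p ^ k) = 1 := by
    have ha1 : QuotientGroup.mk' A a = 1 := (QuotientGroup.eq_one_iff a).mpr ha
    rw [map_mul, ha1, one_mul, ← map_pow, hbk, map_one]
  have h2 : (QuotientGroup.mk' A (a * b)) ^ (orderOf (a * b)) = 1 := by
    rw [← map_pow, pow_orderOf_eq_one, map_one]
  have hcop : Nat.Coprime (p ^ k) (orderOf (a * b)) :=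
    Nat.Coprime.pow_left k ((Nat.Prime.coprime_iff_not_dvd Fact.out).mpr hm)
  have h3 : orderOf (QuotientGroup.mk' A (a * b)) ∣ 1 := by
    rw [← hcop.gcd_eq_one]
    exact Nat.dvd_gcd (orderOf_dvd_of_pow_eq_one h1) (orderOf_dvd_of_pow_eq_one h2)
  have h4 : QuotientGroup.mk' A (a * b) = 1 := orderOf_eq_one_iff.mp (Nat.dvd_one.mp h3)
  exact (QuotientGroup.eq_one_iff _).mp h4

end lemmaB


section main

variable {G : Type*} [Group G] [Finite G]

theorem forward (p : ℕ) [Fact p.Prime] (P : Sylow p G)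
    (h : ∀ θ : Cfsg.IrrCharacter ↥(Subgroup.normalizer ((P : Subgroup G) : Set G)),
      ¬ p ∣ Cfsg.charDegree (θ : ↥(Subgroup.normalizer ((P : Subgroup G) : Set G)) → ℂ) →
        ∃ χ : Cfsg.IrrCharacter G, ∀ x : ↥(Subgroup.normalizer ((P : Subgroup G) : Set G)),
          (χ : G → ℂ) x = (θ : ↥(Subgroup.normalizer ((P : Subgroup G) : Set G)) → ℂ) x) :
    ∃ K : Subgroup G, K.Normal ∧ K ⊔ Subgroup.normalizer ((P : Subgroup G) : Set G) = ⊤ ∧
      K ⊓ Subgroup.normalizer ((P : Subgroup G) : Set G) = ⊥ := by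
  set N := Subgroup.normalizer ((P : Subgroup G) : Set G) with hN
  have hPN : (P : Subgroup G) ≤ N := Subgroup.le_normalizer
  set PN : Subgroup ↥N := (P : Subgroup G).subgroupOf N with hPNdef
  haveI hPNn : PN.Normal := Subgroup.normal_in_normalizer
  have hidx : ¬ p ∣ PN.index := by
    have h1 : PN.index * N.index = (P : Subgroup G).index := Subgroup.relIndex_mul_index hPN
    intro hd
    exact P.not_dvd_index (h1 ▸ Dvd.dvd.mul_right hd _)
  -- Step 1
  have step1 : ∀ x ∈ Subgroup.normalClosure ((P : Subgroup G) : Set G), x ∈ N →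
      x ∈ (P : Subgroup G) := by
    intro x hxM hxN
    by_contra hxP
    have hx' : (⟨x, hxN⟩ : ↥N) ∉ PN := fun hh => hxP (Subgroup.mem_subgroupOf.mp hh)
    obtain ⟨θ, hθp, hθQ, hθx⟩ := exists_sep p PN PN le_rfl (Subgroup.commutator_le_right PN PN)
      hidx _ hx'
    obtain ⟨χ, hχ⟩ := h θ hθp
    have h1 : (χ : G → ℂ) 1 = (θ : ↥N → ℂ) 1 := by simpa using hχ 1
    have hPker : ((P : Subgroup G) : Set G) ⊆ (cker χ : Set G) := by
      intro u hu
      rw [SetLike.mem_coe, mem_cker]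
      have := hχ ⟨u, hPN hu⟩
      simp only at this
      rw [this, hθQ ⟨u, hPN hu⟩ (Subgroup.mem_subgroupOf.mpr hu), h1]
    have hM := Subgroup.normalClosure_le_normal hPker
    have hxk := hM hxM
    rw [mem_cker] at hxk
    apply hθx
    have := hχ ⟨x, hxN⟩
    simp only at this
    rw [← this, hxk, h1]
  -- Step (i)
  have hmapN : (⁅PN, PN⁆).map N.subtype = ⁅(P : Subgroup G), (P : Subgroup G)⁆ := by
    rw [Subgroup.map_commutator, hPNdef, Subgroup.map_subgroupOf_eq_of_le hPN]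
  have stepi : ∀ u ∈ ⁅(P : Subgroup G), (P : Subgroup G)⁆, ∀ g : G,
      g * u * g⁻¹ ∈ (P : Subgroup G) → g * u * g⁻¹ ∈ ⁅(P : Subgroup G), (P : Subgroup G)⁆ := by
    intro u hu g hy
    by_contra hyc
    have hy' : (⟨g * u * g⁻¹, hPN hy⟩ : ↥N) ∉ ⁅PN, PN⁆ := by
      intro hh
      apply hyc
      rw [← hmapN]
      exact ⟨_, hh, rfl⟩
    obtain ⟨θ, hθp, hθQ, hθx⟩ := exists_sep p PN ⁅PN, PN⁆ (Subgroup.commutator_le_right PN PN)
      le_rfl hidx _ hy'
    obtain ⟨χ, hχ⟩ := h θ hθp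
    have h1 : (χ : G → ℂ) 1 = (θ : ↥N → ℂ) 1 := by simpa using hχ 1
    rw [← hmapN] at hu
    obtain ⟨w, hw, rfl⟩ := hu
    apply hθx
    have h2 := hχ ⟨g * (N.subtype w) * g⁻¹, hPN hy⟩
    simp only at h2
    rw [← h2, irr_conj]
    have h3 := hχ w
    simp only [Subgroup.coe_subtype] at h3 ⊢
    rw [h3, hθQ w hw]
  -- Step 2: Grün inside M
  set M := Subgroup.normalClosure ((P : Subgroup G) : Set G) with hMdef
  have hPM : (P : Subgroup G) ≤ M := Subgroup.le_normalClosure
  set PM : Sylow p ↥M := P.subtype hPM with hPMdef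
  have hPMcoe : (PM : Subgroup ↥M) = (P : Subgroup G).subgroupOf M := Sylow.coe_subtype P hPM
  have hmapM : (⁅(PM : Subgroup ↥M), (PM : Subgroup ↥M)⁆).map M.subtype =
      ⁅(P : Subgroup G), (P : Subgroup G)⁆ := by
    rw [Subgroup.map_commutator, hPMcoe, Subgroup.map_subgroupOf_eq_of_le hPM]
  have hfocal : (PM : Subgroup ↥M) ⊓ commutator ↥M ≤ ⁅(PM : Subgroup ↥M), (PM : Subgroup ↥M)⁆ := by
    rw [Cfsg.Agent.S4216.result PM]
    refine sup_le ?_ (iSup_le fun z => ?_)
    · have hnorm : Subgroup.normalizer ((PM : Subgroup ↥M) : Set ↥M) ≤ (PM : Subgroup ↥M) := by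
        intro x hx
        rw [hPMcoe] at hx ⊢
        rw [← Subgroup.subgroupOf_normalizer_eq hPM] at hx
        exact Subgroup.mem_subgroupOf.mpr (step1 x x.2 (Subgroup.mem_subgroupOf.mp hx))
      exact inf_le_right.trans (Subgroup.commutator_mono hnorm hnorm)
    · intro x hx
      obtain ⟨hx1, w, hw, hwx⟩ := hx
      have hwG : (w : G) ∈ ⁅(P : Subgroup G), (P : Subgroup G)⁆ := by
        rw [← hmapM]
        exact ⟨w, hw, rfl⟩
      have hxP : (x : G) ∈ (P : Subgroup G) := by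
        have : x ∈ (P : Subgroup G).subgroupOf M := by rw [← hPMcoe]; exact hx1
        exact Subgroup.mem_subgroupOf.mp this
      have hxeq : (x : G) = (z : G) * (w : G) * (z : G)⁻¹ := by
        rw [← hwx]
        simp [MulAut.conj_apply]
      have := stepi (w : G) hwG (z : G) (hxeq ▸ hxP)
      rw [← hxeq, ← hmapM] at this
      obtain ⟨x', hx', hxx'⟩ := this
      have : x' = x := Subtype.ext hxx'
      rw [← this]
      exact hx'
  -- Step 3: focal subgroup theorem inside M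
  have hPMp : IsPGroup p (PM : Subgroup ↥M) := PM.isPGroup'
  have hcop : Nat.Coprime (PM : Subgroup ↥M).index
      ((⁅(PM : Subgroup ↥M), (PM : Subgroup ↥M)⁆).relIndex (PM : Subgroup ↥M)) := by
    obtain ⟨k, hk⟩ := IsPGroup.iff_card.mp hPMp
    have hd : (⁅(PM : Subgroup ↥M), (PM : Subgroup ↥M)⁆).relIndex (PM : Subgroup ↥M) ∣ p ^ k := by
      rw [← hk]
      exact Subgroup.index_dvd_card _
    have h1 : Nat.Coprime (PM : Subgroup ↥M).index p :=
      (Nat.Coprime.symm ((Nat.Prime.coprime_iff_not_dvd Fact.out).mpr PM.not_dvd_index))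
    exact Nat.Coprime.coprime_dvd_right hd (Nat.Coprime.pow_right k h1)
  obtain ⟨-, N₁, hN₁n, hN₁P, hN₁sup⟩ := Cfsg.Agent.S0080.result (PM : Subgroup ↥M) hcop
  -- the set of p'-elements of M
  set S : Set G := {x : G | x ∈ M ∧ ¬ p ∣ orderOf x} with hSdef
  have hSconj : ∀ s ∈ S, ∀ g : G, g * s * g⁻¹ ∈ S := by
    intro s hs g
    refine ⟨(inferInstance : M.Normal).conj_mem s hs.1 g, ?_⟩
    have : orderOf (g * s * g⁻¹) = orderOf s := by
      have := orderOf_injective (MulAut.conj g).toMonoidHom (MulAut.conj g).injective s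
      simpa [MulAut.conj_apply] using this
    rw [this]
    exact hs.2
  have hSN₁ : ∀ s ∈ S, s ∈ N₁.map M.subtype := by
    intro s hs
    refine ⟨⟨s, hs.1⟩, ?_, rfl⟩
    apply mem_of_sup_eq_top p N₁ (PM : Subgroup ↥M) hPMp hN₁sup
    have : orderOf (⟨s, hs.1⟩ : ↥M) = orderOf s := by
      rw [← Subgroup.orderOf_coe]
    rw [this]
    exact hs.2
  -- K
  have hconjS : Group.conjugatesOfSet S = S := by
    apply Set.Subset.antisymm
    · intro t ht
      obtain ⟨s, hs, hst⟩ := Group.mem_conjugatesOfSet_iff.mp ht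
      obtain ⟨c, hc⟩ := isConj_iff.mp hst
      rw [← hc]
      exact hSconj s hs c
    · exact Group.subset_conjugatesOfSet
  set K : Subgroup G := Subgroup.normalClosure S with hKdef
  have hKclosure : K = Subgroup.closure S := by
    rw [hKdef, Subgroup.normalClosure, hconjS]
  have hKM : K ≤ M := Subgroup.normalClosure_le_normal (fun s hs => hs.1)
  have hKN₁ : K ≤ N₁.map M.subtype := by
    rw [hKclosure, Subgroup.closure_le]
    exact hSN₁
  -- Tate
  have hfr : K ⊓ (P : Subgroup G) ≤ (frattini ↥(P : Subgroup G)).map (P : Subgroup G).subtype := by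
    intro x hx
    obtain ⟨n, hn, hnx⟩ := hKN₁ hx.1
    have hnP : n ∈ (PM : Subgroup ↥M) := by
      rw [hPMcoe, Subgroup.mem_subgroupOf]
      have : (n : G) = x := hnx
      rw [this]
      exact hx.2
    have h1 : n ∈ N₁ ⊓ (PM : Subgroup ↥M) := ⟨hn, hnP⟩
    rw [hN₁P] at h1
    have h2 : n ∈ ⁅(PM : Subgroup ↥M), (PM : Subgroup ↥M)⁆ := hfocal ⟨h1.2, h1.1⟩
    have h3 : x ∈ ⁅(P : Subgroup G), (P : Subgroup G)⁆ := by
      rw [← hmapM]
      exact ⟨n, h2, hnx⟩
    rw [← Subgroup.map_subtype_commutator] at h3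
    exact Subgroup.map_mono (Helper1_Frattini.commutator_le_frattini_of_isPGroup P.isPGroup') h3
  obtain ⟨Q, K₀, hK₀n, hK₀c⟩ := Cfsg.Agent.S0081.result P K hfr
  -- K is a p'-group
  have hK₀top : K₀ = ⊤ := by
    have hle : K ≤ K₀.map K.subtype := by
      refine hKclosure.le.trans ((Subgroup.closure_le _).mpr ?_)
      intro s hs
      have hsK : s ∈ K := by
        rw [hKclosure]
        exact Subgroup.subset_closure hs
      refine ⟨⟨s, hsK⟩, ?_, rfl⟩
      apply mem_of_sup_eq_top p K₀ (Q : Subgroup ↥K) Q.isPGroup' hK₀c.sup_eq_top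
      have : orderOf (⟨s, hsK⟩ : ↥K) = orderOf s := by
        rw [← Subgroup.orderOf_coe]
      rw [this]
      exact hs.2
    rw [eq_top_iff]
    intro k _
    obtain ⟨k', hk', hkk'⟩ := hle k.2
    have : k' = k := Subtype.ext hkk'
    rw [← this]
    exact hk'
  have hQbot : (Q : Subgroup ↥K) = ⊥ := by
    rw [hK₀top] at hK₀c
    exact Subgroup.isComplement'_top_left.mp hK₀c
  have hpK : ¬ p ∣ Nat.card K := by
    have := Q.not_dvd_index
    rwa [hQbot, Subgroup.index_bot] at this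
  refine ⟨K, inferInstance, ?_, ?_⟩
  · -- K ⊔ N = ⊤
    have hMN : N ⊔ M = ⊤ := Sylow.normalizer_sup_eq_top' P hPM
    have hMKP : M ≤ K ⊔ (P : Subgroup G) := by
      set KM : Subgroup ↥M := K.subgroupOf M with hKMdef
      haveI : KM.Normal := Subgroup.Normal.subgroupOf inferInstance M
      have hquot : IsPGroup p (↥M ⧸ KM) := by
        intro q
        obtain ⟨m, rfl⟩ := QuotientGroup.mk_surjective q
        set o := orderOf (m : G) with ho
        have ho0 : o ≠ 0 := (orderOf_pos (m : G)).ne'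
        refine ⟨o.factorization p, ?_⟩
        rw [← QuotientGroup.mk_pow, QuotientGroup.eq_one_iff, hKMdef, Subgroup.mem_subgroupOf]
        have hmem : ((m : G) ^ (p ^ o.factorization p)) ∈ S := by
          refine ⟨M.pow_mem m.2 _, ?_⟩
          rw [orderOf_pow_of_dvd (pow_ne_zero _ (Nat.Prime.ne_zero Fact.out)) (Nat.ordProj_dvd o p)]
          exact Nat.not_dvd_ordCompl Fact.out ho0
        have : ((m ^ (p ^ o.factorization p) : ↥M) : G) = (m : G) ^ (p ^ o.factorization p) := by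
          simp
        rw [this]
        exact Subgroup.subset_normalClosure hmem
      obtain ⟨j, hj⟩ := IsPGroup.iff_card.mp hquot
      have hKMidx : KM.index = p ^ j := by rw [Subgroup.index_eq_card, hj]
      have h1 : (KM ⊔ (PM : Subgroup ↥M)).index ∣ p ^ j := hKMidx ▸ Subgroup.index_dvd_of_le le_sup_left
      have h2 : (KM ⊔ (PM : Subgroup ↥M)).index ∣ (PM : Subgroup ↥M).index :=
        Subgroup.index_dvd_of_le le_sup_right
      have hcop2 : Nat.Coprime (p ^ j) (PM : Subgroup ↥M).index :=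
        Nat.Coprime.pow_left j ((Nat.Prime.coprime_iff_not_dvd Fact.out).mpr PM.not_dvd_index)
      have h3 : (KM ⊔ (PM : Subgroup ↥M)).index = 1 := by
        have := Nat.dvd_gcd h1 h2
        rw [hcop2.gcd_eq_one] at this
        exact Nat.dvd_one.mp this
      have htop : KM ⊔ (PM : Subgroup ↥M) = ⊤ := Subgroup.index_eq_one.mp h3
      intro m hm
      have hm' : (⟨m, hm⟩ : ↥M) ∈ KM ⊔ (PM : Subgroup ↥M) := by rw [htop]; trivial
      have hm'' : m ∈ (KM ⊔ (PM : Subgroup ↥M)).map M.subtype := ⟨⟨m, hm⟩, hm', rfl⟩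
      rw [Subgroup.map_sup, hKMdef, hPMcoe, Subgroup.subgroupOf_map_subtype,
        Subgroup.subgroupOf_map_subtype] at hm''
      have hle : K ⊓ M ⊔ (P : Subgroup G) ⊓ M ≤ K ⊔ (P : Subgroup G) :=
        sup_le_sup inf_le_left inf_le_left
      exact hle hm''
    rw [eq_top_iff, ← hMN]
    refine sup_le le_sup_right (hMKP.trans (sup_le le_sup_left (hPN.trans le_sup_right)))
  · -- K ⊓ N = ⊥
    rw [eq_bot_iff]
    intro x hx
    have hxP : x ∈ (P : Subgroup G) := step1 x (hKM hx.1) hx.2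
    obtain ⟨k, hk⟩ := P.isPGroup' ⟨x, hxP⟩
    have hxk : x ^ (p ^ k) = 1 := by
      have := congrArg Subtype.val hk
      simpa using this
    have h1 : orderOf x ∣ p ^ k := orderOf_dvd_of_pow_eq_one hxk
    have h2 : orderOf x ∣ Nat.card K := by
      have := orderOf_dvd_natCard (⟨x, hx.1⟩ : ↥K)
      rwa [← Subgroup.orderOf_coe] at this
    have hcop : Nat.Coprime (p ^ k) (Nat.card K) :=
      Nat.Coprime.pow_left k ((Nat.Prime.coprime_iff_not_dvd Fact.out).mpr hpK)
    have h3 : orderOf x ∣ 1 := by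
      rw [← hcop.gcd_eq_one]
      exact Nat.dvd_gcd h1 h2
    rw [Subgroup.mem_bot]
    exact orderOf_eq_one_iff.mp (Nat.dvd_one.mp h3)

theorem backward (N K : Subgroup G) [hKn : K.Normal] (hsup : K ⊔ N = ⊤) (hinf : K ⊓ N = ⊥)
    (θ : Cfsg.IrrCharacter ↥N) :
    ∃ χ : Cfsg.IrrCharacter G, ∀ x : ↥N, (χ : G → ℂ) x = (θ : ↥N → ℂ) x := by
  set f : ↥N →* G ⧸ K := (QuotientGroup.mk' K).comp N.subtype with hf
  have hinj : Function.Injective f := by
    rw [injective_iff_map_eq_one]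
    intro n hn
    have h1 : (n : G) ∈ K := by
      have : QuotientGroup.mk' K (n : G) = 1 := hn
      exact (QuotientGroup.eq_one_iff _).mp this
    have h2 : (n : G) ∈ K ⊓ N := ⟨h1, n.2⟩
    rw [hinf, Subgroup.mem_bot] at h2
    exact Subtype.ext h2
  have hsurj : Function.Surjective f := by
    intro q
    obtain ⟨g, rfl⟩ := QuotientGroup.mk'_surjective K q
    have hg : g ∈ K ⊔ N := by rw [hsup]; exact Subgroup.mem_top g
    rw [← SetLike.mem_coe, Subgroup.normal_mul] at hg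
    obtain ⟨k, hk, n, hn, rfl⟩ := Set.mem_mul.mp hg
    refine ⟨⟨n, hn⟩, ?_⟩
    change QuotientGroup.mk' K n = QuotientGroup.mk' K (k * n)
    rw [map_mul]
    have : QuotientGroup.mk' K k = 1 := (QuotientGroup.eq_one_iff _).mpr hk
    rw [this, one_mul]
  set e : ↥N ≃* G ⧸ K := MulEquiv.ofBijective f ⟨hinj, hsurj⟩ with he
  set r : G →* ↥N := e.symm.toMonoidHom.comp (QuotientGroup.mk' K) with hr
  have hrs : Function.Surjective r := by
    intro n
    refine ⟨(n : G), ?_⟩
    change e.symm (QuotientGroup.mk' K (n : G)) = n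
    rw [MulEquiv.symm_apply_eq]
    rfl
  have hrn : ∀ n : ↥N, r (n : G) = n := by
    intro n
    change e.symm (QuotientGroup.mk' K (n : G)) = n
    rw [MulEquiv.symm_apply_eq]
    rfl
  refine ⟨⟨fun g => (θ : ↥N → ℂ) (r g),
    Helper57_FrobNorm.isIrrCharacter_comp_surjective r hrs θ.2⟩, ?_⟩
  intro x
  change (θ : ↥N → ℂ) (r (x : G)) = _
  rw [hrn]

end main

/-- Let G be a finite group, p a prime and P a Sylow p-subgroup of G with normalizer N. Then every irreducible complex character of N of degree not divisible by p is the restriction of an irreducible character of G if and only if there is a normal subgroup K of G with KN = G and K ∩ N = 1. -/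
theorem result {G : Type*} [Group G] [Finite G] (p : ℕ) [Fact p.Prime] (P : Sylow p G) :
    (∀ θ : Cfsg.IrrCharacter ↥(Subgroup.normalizer ((P : Subgroup G) : Set G)), ¬ p ∣ Cfsg.charDegree (θ : ↥(Subgroup.normalizer ((P : Subgroup G) : Set G)) → ℂ) →
        ∃ χ : Cfsg.IrrCharacter G, ∀ x : ↥(Subgroup.normalizer ((P : Subgroup G) : Set G)), (χ : G → ℂ) x = (θ : ↥(Subgroup.normalizer ((P : Subgroup G) : Set G)) → ℂ) x) ↔
      ∃ K : Subgroup G, K.Normal ∧ K ⊔ Subgroup.normalizer ((P : Subgroup G) : Set G) = ⊤ ∧ K ⊓ Subgroup.normalizer ((P : Subgroup G) : Set G) = ⊥ := by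
  constructor
  · exact forward p P
  · rintro ⟨K, hKn, hsup, hinf⟩ θ -
    haveI := hKn
    exact backward _ K hsup hinf θ

end Cfsg.Agent.S4931
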