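import Mathlib
import Cfsg.Statements.S4955
import Cfsg.Agent.Lib.Helper3_CharColumn
import Cfsg.Agent.Lib.Helper3_Ito
import Cfsg.Agent.Lib.Helper76_CharZeros
import Cfsg.Agent.S4558

set_option autoImplicit false
open Cfsg

namespace Cfsg.Agent.S4955


open scoped ComplexConjugate
open Cfsg.Agent.Lib.Helper3_CharColumn Cfsg.Agent.Lib.Helper3_CharComplete
  Cfsg.Agent.Lib.Helper76_CharZeros

section core

variable {X : Type*} [Group X] [Fintype X]

theorem centralizer_pow_eq (v : X) (k : ℕ) (hk : (Fintype.card X).Coprime k) :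
    Subgroup.centralizer ({v ^ k} : Set X) = Subgroup.centralizer ({v} : Set X) := by
  have hk' : (Nat.card X).Coprime k := by rwa [Nat.card_eq_fintype_card]
  have hord : (orderOf v).Coprime k :=
    Nat.Coprime.coprime_dvd_left (orderOf_dvd_natCard v) hk'
  obtain ⟨m, hm⟩ := exists_pow_eq_self_of_coprime hord.symm
  ext x
  simp only [Subgroup.mem_centralizer_singleton_iff]
  constructor
  · intro h
    have hc : Commute x (v ^ k) := h
    have := hc.pow_right m
    rw [hm] at this
    exact this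
  · intro h
    have hc : Commute x v := h
    exact hc.pow_right k

theorem knorr_core (v : X)
    (hne : ∀ χ : IrrCharacter X, (χ : X → ℂ) v ≠ 0)
    (T : Finset (IrrCharacter X))
    (hT : ∀ χ ∈ T, ∀ k : ℕ, (χ : X → ℂ) (v ^ k) = (χ : X → ℂ) 1) :
    ((Fintype.card (IrrCharacter X) - T.card : ℕ) : ℝ) + ∑ χ ∈ T, ‖(χ : X → ℂ) 1‖ ^ 2 ≤
      (Nat.card (Subgroup.centralizer ({v} : Set X)) : ℝ) := by
  classical
  set N := Fintype.card X with hN
  set I := (Finset.range N).filter (Nat.Coprime N) with hI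
  have hNpos : 0 < N := Fintype.card_pos
  have hφ : (0 : ℝ) < Nat.totient N := by exact_mod_cast Nat.totient_pos.mpr hNpos
  have hIcard : (I.card : ℝ) = Nat.totient N := by rw [Nat.totient_eq_card_coprime]
  -- column orthogonality at `v ^ k`
  have h1 : ∀ k ∈ I, ∑ χ : IrrCharacter X, ‖(χ : X → ℂ) (v ^ k)‖ ^ 2 =
      (Nat.card (Subgroup.centralizer ({v} : Set X)) : ℝ) := by
    intro k hk
    rw [hI, Finset.mem_filter] at hk
    have h := column_orthogonality_self (v ^ k)
    rw [centralizer_pow_eq v k hk.2] at h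
    have h2 : ((∑ χ : IrrCharacter X, ‖(χ : X → ℂ) (v ^ k)‖ ^ 2 : ℝ) : ℂ) =
        ((Nat.card (Subgroup.centralizer ({v} : Set X)) : ℝ) : ℂ) := by
      rw [Complex.ofReal_sum]
      simp only [Complex.ofReal_pow, ← Complex.mul_conj']
      rw [h]
      simp
    exact Complex.ofReal_injective h2
  have h2 : ∑ χ : IrrCharacter X, ∑ k ∈ I, ‖(χ : X → ℂ) (v ^ k)‖ ^ 2 =
      (Nat.totient N : ℝ) * (Nat.card (Subgroup.centralizer ({v} : Set X)) : ℝ) := by
    rw [Finset.sum_comm, Finset.sum_congr rfl h1, Finset.sum_const, nsmul_eq_mul, hIcard]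
  -- lower bound for each character
  have h3 : ∀ χ : IrrCharacter X, (Nat.totient N : ℝ) ≤ ∑ k ∈ I, ‖(χ : X → ℂ) (v ^ k)‖ ^ 2 := by
    intro χ
    have hv := hne χ
    obtain ⟨n, ρ, hρ, hχ⟩ := χ.2
    have := hρ
    have := totient_le_sum_norm_sq_char ρ v (by rw [hχ]; exact hv)
    rw [hχ] at this
    exact this
  have h4 : ∀ χ ∈ T, ∑ k ∈ I, ‖(χ : X → ℂ) (v ^ k)‖ ^ 2 =
      (Nat.totient N : ℝ) * ‖(χ : X → ℂ) 1‖ ^ 2 := by
    intro χ hχ
    rw [Finset.sum_congr rfl (fun k _ => by rw [hT χ hχ k]), Finset.sum_const, nsmul_eq_mul,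
      hIcard]
  have h5 : (Nat.totient N : ℝ) * (((Fintype.card (IrrCharacter X) - T.card : ℕ) : ℝ) +
      ∑ χ ∈ T, ‖(χ : X → ℂ) 1‖ ^ 2) ≤
      (Nat.totient N : ℝ) * (Nat.card (Subgroup.centralizer ({v} : Set X)) : ℝ) := by
    rw [← h2, ← Finset.sum_sdiff (Finset.subset_univ T), mul_add, Finset.mul_sum]
    apply add_le_add
    · have : ((Fintype.card (IrrCharacter X) - T.card : ℕ) : ℝ) =
          ((Finset.univ \ T).card : ℝ) := by
        rw [Finset.card_sdiff_of_subset (Finset.subset_univ T), Finset.card_univ]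
      rw [this, ← nsmul_eq_mul', ← Finset.sum_const]
      exact Finset.sum_le_sum (fun χ _ => h3 χ)
    · exact le_of_eq (Finset.sum_congr rfl (fun χ hχ => (h4 χ hχ).symm))
  exact le_of_mul_le_mul_left h5 hφ

end core

section nonvanishing

variable {X : Type*} [Group X] [Finite X]

theorem irr_ne_zero (p : ℕ) [Fact p.Prime] (V : Subgroup X) [V.Normal] (hVp : IsPGroup p V)
    (hidx : ¬ p ∣ V.index) (hab : ∀ a ∈ V, ∀ b ∈ V, a * b = b * a) (v : X) (hv : v ∈ V)
    (χ : X → ℂ) (hχ : IsIrrCharacter X χ) : χ v ≠ 0 := by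
  intro h0
  obtain ⟨n, ρ, hρ, hρχ⟩ := hχ
  have := hρ
  have hord : ∃ j : ℕ, orderOf v = p ^ j := by
    obtain ⟨k, hk⟩ := hVp ⟨v, hv⟩
    have hk' : v ^ (p ^ k) = 1 := by
      have := congrArg Subtype.val hk
      simpa using this
    have hdvd : orderOf v ∣ p ^ k := orderOf_dvd_of_pow_eq_one hk'
    obtain ⟨j, _, hj⟩ := (Nat.dvd_prime_pow (Fact.out : p.Prime)).1 hdvd
    exact ⟨j, hj⟩
  have h1 := Cfsg.Agent.S4558.result p χ ⟨n, ρ, hρχ⟩ v hord h0
  have hdeg : Cfsg.charDegree χ = n := by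
    unfold Cfsg.charDegree
    rw [← hρχ, Representation.char_one]
    simp
  have h2 := Cfsg.Agent.Lib.Helper3_Ito.ito ρ V hab
  rw [Module.finrank_fin_fun] at h2
  rw [hdeg] at h1
  exact hidx (h1.trans h2)

end nonvanishing

section inflation

variable {X G : Type*} [Group X] [Group G] (π : X →* G) (hπ : Function.Surjective π)

/-- subrepresentations of a composite with a surjective homomorphism -/
def subrepEquivComp {W : Type*} [AddCommGroup W] [Module ℂ W] (τ : Representation ℂ G W) :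
    Subrepresentation (τ.comp π) ≃o Subrepresentation τ where
  toFun U := ⟨U.toSubmodule, fun g v hv => by
    obtain ⟨g', rfl⟩ := hπ g
    exact U.apply_mem_toSubmodule g' hv⟩
  invFun U := ⟨U.toSubmodule, fun g' v hv => U.apply_mem_toSubmodule (π g') hv⟩
  left_inv _ := rfl
  right_inv _ := rfl
  map_rel_iff' := Iff.rfl

include hπ in
theorem isIrr_comp {ψ : G → ℂ} (hψ : IsIrrCharacter G ψ) : IsIrrCharacter X (ψ ∘ π) := by
  obtain ⟨n, τ, hτ, rfl⟩ := hψ
  have := hτ
  exact ⟨n, τ.comp π, (subrepEquivComp π hπ τ).isSimpleOrder_iff.mpr inferInstance, rfl⟩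

/-- inflation of irreducible characters -/
def infl : IrrCharacter G ↪ IrrCharacter X where
  toFun ψ := ⟨ψ.1 ∘ π, isIrr_comp π hπ ψ.2⟩
  inj' := by
    intro ψ ψ' h
    apply Subtype.ext
    have h1 : ψ.1 ∘ π = ψ'.1 ∘ π := congrArg Subtype.val h
    exact hπ.injective_comp_right h1

theorem infl_apply (ψ : IrrCharacter G) (x : X) :
    ((infl π hπ ψ : IrrCharacter X) : X → ℂ) x = (ψ : G → ℂ) (π x) := rfl

end inflation

section final

theorem card_centralizer_eq {X : Type*} [Group X] [Finite X] (V G : Subgroup X)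
    (hGV : Subgroup.IsComplement' V G) (hab : ∀ a ∈ V, ∀ b ∈ V, a * b = b * a) (v : X)
    (hv : v ∈ V) :
    Nat.card (Subgroup.centralizer ({v} : Set X)) =
      Nat.card ↥(G ⊓ Subgroup.centralizer ({v} : Set X)) * Nat.card V := by
  have hVC : V ≤ Subgroup.centralizer ({v} : Set X) := by
    intro a ha
    rw [Subgroup.mem_centralizer_singleton_iff]
    exact hab a ha v hv
  let f : V × ↥(G ⊓ Subgroup.centralizer ({v} : Set X)) → ↥(Subgroup.centralizer ({v} : Set X)) :=
    fun x => ⟨(x.1 : X) * (x.2 : X), mul_mem (hVC x.1.2) x.2.2.2⟩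
  have hf : Function.Bijective f := by
    constructor
    · rintro ⟨a, g⟩ ⟨a', g'⟩ h
      have h1 : (a : X) * (g : X) = (a' : X) * (g' : X) := congrArg Subtype.val h
      have h2 := hGV.1 (a₁ := (a, ⟨(g : X), g.2.1⟩)) (a₂ := (a', ⟨(g' : X), g'.2.1⟩)) h1
      have e1 : a = a' := congrArg Prod.fst h2
      have e2 : (g : X) = (g' : X) := congrArg (fun z => ((z.2 : G) : X)) h2
      exact Prod.ext e1 (Subtype.ext e2)
    · rintro ⟨c, hc⟩
      obtain ⟨⟨a, g⟩, h⟩ := hGV.2 c
      have h' : (a : X) * (g : X) = c := h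
      have hg : (g : X) ∈ Subgroup.centralizer ({v} : Set X) := by
        have : (g : X) = (a : X)⁻¹ * c := by rw [← h']; group
        rw [this]
        exact mul_mem (inv_mem (hVC a.2)) hc
      exact ⟨(a, ⟨(g : X), g.2, hg⟩), Subtype.ext h'⟩
  rw [← Nat.card_congr (Equiv.ofBijective f hf), Nat.card_prod, mul_comm]

theorem sum_norm_sq_one {G : Type*} [Group G] [Fintype G] :
    ∑ ψ : IrrCharacter G, ‖(ψ : G → ℂ) 1‖ ^ 2 = (Nat.card G : ℝ) := by
  have h := sum_sq_irr_one (G := G)
  have h2 : ((∑ ψ : IrrCharacter G, ‖(ψ : G → ℂ) 1‖ ^ 2 : ℝ) : ℂ) = ((Nat.card G : ℝ) : ℂ) := by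
    rw [Complex.ofReal_sum, Complex.ofReal_natCast, ← h]
    refine Finset.sum_congr rfl (fun ψ _ => ?_)
    obtain ⟨n, _, hn⟩ := irr_one_eq_natCast ψ.2
    rw [hn, Complex.norm_natCast]
    simp
  exact Complex.ofReal_injective h2

theorem main {X : Type*} [Group X] [Finite X] (p : ℕ) [Fact p.Prime] (V : Subgroup X) [V.Normal]
    (hVp : IsPGroup p V) (hidx : ¬ p ∣ V.index) (hab : ∀ a ∈ V, ∀ b ∈ V, a * b = b * a)
    (G : Subgroup X) (hGV : Subgroup.IsComplement' V G) (v : X) (hv : v ∈ V) :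
    Nat.card (ConjClasses X) + Nat.card G ≤
      Nat.card ↥(G ⊓ Subgroup.centralizer ({v} : Set X)) * Nat.card V +
        Nat.card (ConjClasses G) := by
  classical
  have := Fintype.ofFinite X
  have := Fintype.ofFinite G
  set π : X →* G := (hGV.symm.QuotientMulEquiv).toMonoidHom.comp (QuotientGroup.mk' V) with hπdef
  have hπ : Function.Surjective π := by
    rw [hπdef]
    exact (hGV.symm.QuotientMulEquiv).surjective.comp (QuotientGroup.mk'_surjective V)
  have hker : ∀ x ∈ V, π x = 1 := by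
    intro x hx
    have h1 : QuotientGroup.mk' V x = 1 := (QuotientGroup.eq_one_iff x).2 hx
    rw [hπdef, MonoidHom.comp_apply, h1, map_one]
  set T : Finset (IrrCharacter X) := Finset.univ.map (infl π hπ) with hTdef
  have hT : ∀ χ ∈ T, ∀ k : ℕ, (χ : X → ℂ) (v ^ k) = (χ : X → ℂ) 1 := by
    intro χ hχ k
    rw [hTdef, Finset.mem_map] at hχ
    obtain ⟨ψ, _, rfl⟩ := hχ
    rw [infl_apply, infl_apply, hker _ (pow_mem hv k), map_one]
  have key := knorr_core v (fun χ => irr_ne_zero p V hVp hidx hab v hv χ.1 χ.2) T hT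
  have hcardT : T.card = Nat.card (ConjClasses G) := by
    rw [hTdef, Finset.card_map, Finset.card_univ, ← Nat.card_eq_fintype_card,
      card_irr_eq_card_conjClasses]
  have hsumT : ∑ χ ∈ T, ‖(χ : X → ℂ) 1‖ ^ 2 = (Nat.card G : ℝ) := by
    rw [hTdef, Finset.sum_map, ← sum_norm_sq_one (G := G)]
    refine Finset.sum_congr rfl (fun ψ _ => ?_)
    rw [infl_apply, map_one]
  have hcardX : Fintype.card (IrrCharacter X) = Nat.card (ConjClasses X) := by
    rw [← Nat.card_eq_fintype_card, card_irr_eq_card_conjClasses]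
  have hle : T.card ≤ Fintype.card (IrrCharacter X) := Finset.card_le_univ T
  rw [hsumT, hcardT, hcardX] at key
  rw [hcardT, hcardX] at hle
  have key' : (Nat.card (ConjClasses X) - Nat.card (ConjClasses G)) + Nat.card G ≤
      Nat.card (Subgroup.centralizer ({v} : Set X)) := by exact_mod_cast key
  rw [card_centralizer_eq V G hGV hab v hv] at key'
  omega

end final



/-- Let X be a finite group with an abelian normal Sylow p-subgroup V (a normal p-subgroup of index prime to p in which any two elements commute), and let G be a complement to V in X. Then for every v in V, writing C for the centralizer of v in G, the number k(X) of conjugacy classes of X satisfies k(X) ≤ (order of C)·(order of V) − ((order of G) − k(G)); the statement is written with the subtracted term moved to the left. In particular, if some v in V is centralized by no nonidentity element of G, then k(X) is at most the order of V. -/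
theorem result {X : Type*} [Group X] [Finite X] (p : ℕ) [Fact p.Prime] (V : Subgroup X) [V.Normal] (hVp : IsPGroup p V) (hidx : ¬ p ∣ V.index) (hab : ∀ a ∈ V, ∀ b ∈ V, a * b = b * a) (G : Subgroup X) (hGV : Subgroup.IsComplement' V G) (v : X) (hv : v ∈ V) : Nat.card (ConjClasses X) + Nat.card G ≤ Nat.card ↥(G ⊓ Subgroup.centralizer ({v} : Set X)) * Nat.card V + Nat.card (ConjClasses G) := by
  exact main p V hVp hidx hab G hGV v hv

end Cfsg.Agent.S4955
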