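import Mathlib
import Cfsg.Statements.S4956

set_option autoImplicit false
open Cfsg

namespace Cfsg.Agent.S4956
open scoped Pointwise

/-- Coprime action on an abelian group: fixed points and a "commutator" subgroup are complementary. -/
theorem card_fix_mul_card {V : Type*} [CommGroup V] [Finite V] {A : Type*} [Group A] [Fintype A]
    (φ : A →* MulAut V) (hcop : (Nat.card V).Coprime (Nat.card A)) (W : Subgroup V)
    (hW1 : ∀ a v, v / φ a v ∈ W) (hW2 : ∀ w ∈ W, ∏ a : A, φ a w = 1)
    (C : Subgroup V) (hC : ∀ v, v ∈ C ↔ ∀ a, φ a v = v) :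
    Nat.card C * Nat.card W = Nat.card V := by
  classical
  -- the norm map
  have hE_fix : ∀ (b : A) (v : V), φ b (∏ a : A, φ a v) = ∏ a : A, φ a v := by
    intro b v
    rw [map_prod]
    refine Fintype.prod_equiv (Equiv.mulLeft b) _ _ ?_
    intro a
    simp [map_mul]
  have hE_mem : ∀ v : V, (∏ a : A, φ a v) ∈ C := fun v => (hC _).2 (fun b => hE_fix b v)
  have hdisj : Disjoint C W := by
    rw [Subgroup.disjoint_def]
    intro c hcC hcW
    have h1 : ∏ a : A, φ a c = 1 := hW2 c hcW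
    have h2 : ∏ a : A, φ a c = c ^ (Fintype.card A) := by
      rw [Finset.prod_congr rfl (fun a _ => (hC c).1 hcC a)]
      simp
    rw [h2] at h1
    have h3 : orderOf c ∣ Fintype.card A := orderOf_dvd_of_pow_eq_one h1
    have h4 : orderOf c ∣ Nat.card V := orderOf_dvd_natCard c
    rw [← Nat.card_eq_fintype_card] at h3
    have h5 : orderOf c ∣ 1 := by
      have := Nat.dvd_gcd h4 h3
      rwa [hcop] at this
    exact orderOf_eq_one_iff.1 (Nat.dvd_one.1 h5)
  have hmul : (C : Set V) * (W : Set V) = Set.univ := by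
    rw [Set.eq_univ_iff_forall]
    intro v
    -- v = v' ^ |A|
    obtain ⟨v', hv'⟩ : ∃ v' : V, v' ^ (Nat.card A) = v :=
      (powCoprime hcop).surjective v
    refine Set.mem_mul.2 ⟨∏ a : A, φ a v', hE_mem v', v / ∏ a : A, φ a v', ?_, by simp⟩
    have : v / ∏ a : A, φ a v' = ∏ a : A, (v' / φ a v') := by
      rw [Finset.prod_div_distrib, ← hv']
      simp [Nat.card_eq_fintype_card]
    rw [this]
    exact Subgroup.prod_mem _ (fun a _ => hW1 a v')
  exact (Subgroup.isComplement'_of_disjoint_and_mul_eq_univ hdisj hmul).card_mul_card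

/-- Two-generator counting lemma. -/
theorem card_pairs {V : Type*} [CommGroup V] [Finite V] {Γ : Type*} [Group Γ]
    (φ : Γ →* MulAut V) (g h : Γ) [Finite (Subgroup.closure ({g, h} : Set Γ))]
    (hcop : (Nat.card V).Coprime (Nat.card (Subgroup.closure ({g, h} : Set Γ)))) :
    Nat.card {p : V × V // p.1 / φ h p.1 = p.2 / φ g p.2} =
      Nat.card V * Nat.card {v : V // φ g v = v ∧ φ h v = v} := by
  classical
  have : Fintype (Subgroup.closure ({g, h} : Set Γ)) := Fintype.ofFinite _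
  set A := Subgroup.closure ({g, h} : Set Γ) with hA
  let dg : V →* V := MonoidHom.id V / (φ g).toMonoidHom
  let dh : V →* V := MonoidHom.id V / (φ h).toMonoidHom
  let ψ : V × V →* V := dh.coprod dg⁻¹
  have hψ : ∀ p : V × V, ψ p = (p.1 / φ h p.1) * (p.2 / φ g p.2)⁻¹ := fun p => rfl
  let φ' : A →* MulAut V := φ.comp A.subtype
  have hφ' : ∀ (a : A) (v : V), φ' a v = φ (a : Γ) v := fun a v => rfl
  let C : Subgroup V :=
    { carrier := {v | φ g v = v ∧ φ h v = v}
      mul_mem' := by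
        intro a b ha hb
        exact ⟨by rw [map_mul, ha.1, hb.1], by rw [map_mul, ha.2, hb.2]⟩
      one_mem' := ⟨map_one _, map_one _⟩
      inv_mem' := by
        intro a ha
        exact ⟨by rw [map_inv, ha.1], by rw [map_inv, ha.2]⟩ }
  have hCmem : ∀ v, v ∈ C ↔ (φ g v = v ∧ φ h v = v) := fun v => Iff.rfl
  have hgA : g ∈ A := Subgroup.subset_closure (by simp)
  have hhA : h ∈ A := Subgroup.subset_closure (by simp)
  -- hypotheses of the lemma
  have hW1 : ∀ (a : A) (v : V), v / φ' a v ∈ ψ.range := by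
    intro a
    obtain ⟨a, ha⟩ := a
    simp only [hφ']
    induction ha using Subgroup.closure_induction with
    | mem x hx =>
      intro v
      rcases hx with rfl | rfl
      · refine ⟨(1, v⁻¹), ?_⟩
        rw [hψ]
        simp [div_eq_mul_inv, mul_comm]
      · exact ⟨(v, 1), by rw [hψ]; simp⟩
    | one => intro v; simp
    | mul x y _ _ hx hy =>
      intro v
      have h1 : v / φ (x * y) v = (v / φ x v) * (φ x (v / φ y v)) := by
        rw [map_mul, map_div]; simp
      rw [h1]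
      have h2 : φ x (v / φ y v) = (v / φ y v) * ((v / φ y v) / φ x (v / φ y v))⁻¹ := by
        simp
      rw [h2]
      exact mul_mem (hx v) (mul_mem (hy v) (inv_mem (hx _)))
    | inv x _ hx =>
      intro v
      have h1 : v / φ x⁻¹ v = ((φ x⁻¹ v) / φ x (φ x⁻¹ v))⁻¹ := by
        rw [map_inv]; simp
      rw [h1]
      exact inv_mem (hx _)
  have hE_inv : ∀ (b : A) (v : V), ∏ a : A, φ' a (φ' b v) = ∏ a : A, φ' a v := by
    intro b v
    refine Fintype.prod_equiv (Equiv.mulRight b) _ _ ?_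
    intro a
    simp [map_mul]
  have hW2 : ∀ w ∈ ψ.range, ∏ a : A, φ' a w = 1 := by
    rintro w ⟨p, rfl⟩
    rw [hψ]
    simp only [map_mul, map_div, map_inv, Finset.prod_mul_distrib, Finset.prod_div_distrib,
      Finset.prod_inv_distrib]
    have e1 := hE_inv ⟨h, hhA⟩ p.1
    have e2 := hE_inv ⟨g, hgA⟩ p.2
    simp only [hφ'] at e1 e2 ⊢
    rw [e1, e2]
    simp
  have hC : ∀ v, v ∈ C ↔ ∀ a : A, φ' a v = v := by
    intro v
    constructor
    · rintro ⟨h1, h2⟩ ⟨a, ha⟩
      rw [hφ']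
      show φ a v = v
      induction ha using Subgroup.closure_induction with
      | mem x hx =>
        rcases hx with rfl | rfl
        · exact h1
        · exact h2
      | one => simp
      | mul x y _ _ hx hy => rw [map_mul, MulAut.mul_apply, hy, hx]
      | inv x _ hx =>
        rw [map_inv]
        conv_lhs => rw [← hx]
        simp
    · intro hv
      exact ⟨hv ⟨g, hgA⟩, hv ⟨h, hhA⟩⟩
  have hK := card_fix_mul_card φ' hcop ψ.range hW1 hW2 C hC
  have hker : Nat.card ψ.ker * Nat.card ψ.range = Nat.card V * Nat.card V := by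
    rw [← Subgroup.index_ker, Subgroup.card_mul_index, Nat.card_prod]
  have e1 : Nat.card {p : V × V // p.1 / φ h p.1 = p.2 / φ g p.2} = Nat.card ψ.ker := by
    apply Nat.card_congr
    refine Equiv.subtypeEquivRight ?_
    intro p
    rw [MonoidHom.mem_ker, hψ, mul_inv_eq_one]
  have e2 : Nat.card {v : V // φ g v = v ∧ φ h v = v} = Nat.card C := rfl
  rw [e1, e2]
  have hpos : 0 < Nat.card ψ.range := Nat.card_pos
  apply Nat.eq_of_mul_eq_mul_right hpos
  rw [hker, mul_assoc, hK]

/-- The commutative group structure on an abelian subgroup. -/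
@[reducible] def commGroupSub {X : Type*} [Group X] (V : Subgroup X)
    (hab : ∀ a ∈ V, ∀ b ∈ V, a * b = b * a) : CommGroup ↥V :=
  { (inferInstance : Group ↥V) with
    mul_comm := fun a b => Subtype.ext (hab a a.2 b b.2) }

theorem compl_unique {X : Type*} [Group X] (V G : Subgroup X) (hGV : Subgroup.IsComplement' V G)
    {v₁ g₁ v₂ g₂ : X} (hv₁ : v₁ ∈ V) (hg₁ : g₁ ∈ G) (hv₂ : v₂ ∈ V) (hg₂ : g₂ ∈ G)
    (h : v₁ * g₁ = v₂ * g₂) : v₁ = v₂ ∧ g₁ = g₂ := by
  have := hGV.1 (a₁ := (⟨v₁, hv₁⟩, ⟨g₁, hg₁⟩)) (a₂ := (⟨v₂, hv₂⟩, ⟨g₂, hg₂⟩)) h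
  simp only [Prod.mk.injEq, Subtype.mk.injEq] at this
  exact this

theorem fiber_count {X : Type*} [Group X] [Finite X] (V : Subgroup X) [V.Normal]
    (hab : ∀ a ∈ V, ∀ b ∈ V, a * b = b * a) (G : Subgroup X)
    (hGV : Subgroup.IsComplement' V G) (hcop : (Nat.card V).Coprime (Nat.card G))
    (g h : X) (hg : g ∈ G) (hh : h ∈ G) :
    Nat.card {p : ↥V × ↥V // Commute ((p.1 : X) * g) ((p.2 : X) * h)} =
      Nat.card V * Nat.card {v : ↥V // Commute g h ∧ Commute g (v : X) ∧ Commute h (v : X)} := by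
  classical
  by_cases hgh : Commute g h
  · let _ : CommGroup ↥V := commGroupSub V hab
    have hle : Subgroup.closure ({g, h} : Set X) ≤ G := by
      rw [Subgroup.closure_le]
      intro x hx
      rcases hx with rfl | rfl
      · exact hg
      · exact hh
    have hcop' : (Nat.card V).Coprime (Nat.card (Subgroup.closure ({g, h} : Set X))) :=
      Nat.Coprime.coprime_dvd_right (Subgroup.card_dvd_of_le hle) hcop
    have hK := card_pairs (V := ↥V) (MulAut.conjNormal : X →* MulAut ↥V) g h hcop'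
    have hgh' : g * h = h * g := hgh
    have key : ∀ u w : X, (u * g * (w * h) = w * h * (u * g)) ↔
        u * (g * w * g⁻¹) = w * (h * u * h⁻¹) := by
      intro u w
      have e1 : u * g * (w * h) = u * (g * w * g⁻¹) * (g * h) := by group
      have e2 : w * h * (u * g) = w * (h * u * h⁻¹) * (g * h) := by
        rw [hgh']; group
      rw [e1, e2, mul_left_inj]
    have e1 : Nat.card {p : ↥V × ↥V // Commute ((p.1 : X) * g) ((p.2 : X) * h)} =
        Nat.card {p : ↥V × ↥V // p.1 / (MulAut.conjNormal : X →* MulAut ↥V) h p.1 =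
          p.2 / (MulAut.conjNormal : X →* MulAut ↥V) g p.2} := by
      apply Nat.card_congr
      refine Equiv.subtypeEquivRight ?_
      rintro ⟨u, w⟩
      rw [div_eq_div_iff_mul_eq_mul]
      simp only [Subtype.ext_iff, Subgroup.coe_mul, MulAut.conjNormal_apply]
      exact key u w
    have e2 : Nat.card {v : ↥V // Commute g h ∧ Commute g (v : X) ∧ Commute h (v : X)} =
        Nat.card {v : ↥V // (MulAut.conjNormal : X →* MulAut ↥V) g v = v ∧
          (MulAut.conjNormal : X →* MulAut ↥V) h v = v} := by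
      apply Nat.card_congr
      refine Equiv.subtypeEquivRight ?_
      intro v
      simp only [Subtype.ext_iff, MulAut.conjNormal_apply]
      constructor
      · rintro ⟨_, h1, h2⟩
        exact ⟨by rw [h1.eq]; group, by rw [h2.eq]; group⟩
      · rintro ⟨h1, h2⟩
        refine ⟨hgh, ?_, ?_⟩
        · show g * (v : X) = v * g
          conv_rhs => rw [← h1]
          group
        · show h * (v : X) = v * h
          conv_rhs => rw [← h2]
          group
    rw [e1, e2, hK]
  · have e1 : IsEmpty {p : ↥V × ↥V // Commute ((p.1 : X) * g) ((p.2 : X) * h)} := by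
      refine ⟨fun ⟨⟨u, w⟩, hc⟩ => hgh ?_⟩
      have hc' : (u : X) * g * (w * h) = w * h * (u * g) := hc
      have e1 : (u : X) * g * (w * h) = u * (g * w * g⁻¹) * (g * h) := by group
      have e2 : (w : X) * h * (u * g) = w * (h * u * h⁻¹) * (h * g) := by group
      rw [e1, e2] at hc'
      exact (compl_unique V G hGV (V.mul_mem u.2 (‹V.Normal›.conj_mem _ w.2 g))
        (G.mul_mem hg hh) (V.mul_mem w.2 (‹V.Normal›.conj_mem _ u.2 h)) (G.mul_mem hh hg) hc').2
    have e2 : IsEmpty {v : ↥V // Commute g h ∧ Commute g (v : X) ∧ Commute h (v : X)} :=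
      ⟨fun ⟨v, hc, _⟩ => hgh hc⟩
    rw [@Nat.card_of_isEmpty _ e1, @Nat.card_of_isEmpty _ e2, mul_zero]

theorem card_subtype_eq_sum {α : Type*} [Fintype α] (p : α → Prop) [DecidablePred p] :
    Nat.card {x : α // p x} = ∑ x : α, if p x then 1 else 0 := by
  rw [Nat.card_eq_fintype_card, Fintype.card_subtype, Finset.card_filter]

theorem orbit_stab {X : Type*} [Group X] [Finite X] (V G : Subgroup X) [V.Normal] (s : X)
    (hs : s ∈ V) :
    Nat.card {v : ↥V // ∃ g ∈ G, g * (v : X) * g⁻¹ = s} *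
      Nat.card ↥(G ⊓ Subgroup.centralizer ({s} : Set X)) = Nat.card G := by
  classical
  let act : MulAction ↥G ↥V :=
    MulAction.compHom ↥V ((MulAut.conjNormal : X →* MulAut ↥V).comp G.subtype)
  have hsmul : ∀ (g : ↥G) (v : ↥V), ((g • v : ↥V) : X) = g * v * (g : X)⁻¹ := fun g v => rfl
  have h0 := Nat.card_congr (MulAction.orbitProdStabilizerEquivGroup ↥G (⟨s, hs⟩ : ↥V))
  rw [Nat.card_prod] at h0
  have h1 : Nat.card (MulAction.orbit ↥G (⟨s, hs⟩ : ↥V)) =
      Nat.card {v : ↥V // ∃ g ∈ G, g * (v : X) * g⁻¹ = s} := by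
    apply Nat.card_congr
    refine Equiv.subtypeEquivRight ?_
    intro v
    constructor
    · rintro ⟨g, hg⟩
      refine ⟨(g : X)⁻¹, G.inv_mem g.2, ?_⟩
      have : (v : X) = g * s * (g : X)⁻¹ := by
        rw [← hg]; rfl
      rw [this]; group
    · rintro ⟨g, hg, hgv⟩
      refine ⟨⟨g⁻¹, G.inv_mem hg⟩, ?_⟩
      apply Subtype.ext
      show (g⁻¹ : X) * s * (g⁻¹ : X)⁻¹ = v
      rw [← hgv]; group
  have h2 : Nat.card (MulAction.stabilizer ↥G (⟨s, hs⟩ : ↥V)) =
      Nat.card ↥(G ⊓ Subgroup.centralizer ({s} : Set X)) := by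
    have : MulAction.stabilizer ↥G (⟨s, hs⟩ : ↥V) =
        (G ⊓ Subgroup.centralizer ({s} : Set X)).subgroupOf G := by
      ext g
      rw [MulAction.mem_stabilizer_iff, Subgroup.mem_subgroupOf, Subgroup.mem_inf,
        Subgroup.mem_centralizer_singleton_iff, Subtype.ext_iff, hsmul]
      simp only [SetLike.coe_mem, true_and]
      rw [mul_inv_eq_iff_eq_mul]
    rw [this]
    exact Nat.card_congr (Subgroup.subgroupOfEquivOfLe inf_le_left).toEquiv
  rw [← h1, ← h2, h0]

theorem comm_sub {X : Type*} [Group X] [Finite X] (G : Subgroup X) (v : X) :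
    Nat.card {gh : ↥G × ↥G // Commute (gh.1 : X) gh.2 ∧ Commute (gh.1 : X) v ∧
        Commute (gh.2 : X) v} =
      Nat.card (ConjClasses ↥(G ⊓ Subgroup.centralizer ({v} : Set X))) *
        Nat.card ↥(G ⊓ Subgroup.centralizer ({v} : Set X)) := by
  rw [← card_comm_eq_card_conjClasses_mul_card]
  apply Nat.card_congr
  refine
    { toFun := fun q => ⟨(⟨q.1.1, ⟨q.1.1.2, Subgroup.mem_centralizer_singleton_iff.2 q.2.2.1⟩⟩,
          ⟨q.1.2, ⟨q.1.2.2, Subgroup.mem_centralizer_singleton_iff.2 q.2.2.2⟩⟩),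
          Subtype.ext q.2.1⟩
      invFun := fun p => ⟨(⟨p.1.1, p.1.1.2.1⟩, ⟨p.1.2, p.1.2.2.1⟩),
          congrArg Subtype.val p.2,
          Subgroup.mem_centralizer_singleton_iff.1 p.1.1.2.2,
          Subgroup.mem_centralizer_singleton_iff.1 p.1.2.2.2⟩
      left_inv := fun q => rfl
      right_inv := fun p => rfl }

theorem stepB {X : Type*} [Group X] [Fintype X] (V : Subgroup X) [V.Normal]
    (hab : ∀ a ∈ V, ∀ b ∈ V, a * b = b * a) (G : Subgroup X)
    [Fintype ↥V] [Fintype ↥G]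
    (hGV : Subgroup.IsComplement' V G) (hcop : (Nat.card V).Coprime (Nat.card G)) :
    Nat.card (ConjClasses X) * Nat.card X =
      Nat.card V * ∑ v : ↥V, Nat.card {gh : ↥G × ↥G //
        Commute (gh.1 : X) gh.2 ∧ Commute (gh.1 : X) v ∧ Commute (gh.2 : X) v} := by
  classical
  rw [← card_comm_eq_card_conjClasses_mul_card, card_subtype_eq_sum]
  let e : ↥V × ↥G ≃ X := Equiv.ofBijective (fun p => (p.1 : X) * p.2) hGV
  let E : (↥G × ↥G) × (↥V × ↥V) ≃ X × X :=
    (Equiv.prodComm (↥G × ↥G) (↥V × ↥V)).trans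
      ((Equiv.prodProdProdComm ↥V ↥V ↥G ↥G).trans (Equiv.prodCongr e e))
  have hE : ∀ t : (↥G × ↥G) × (↥V × ↥V), E t = ((t.2.1 : X) * t.1.1, (t.2.2 : X) * t.1.2) :=
    fun t => rfl
  have h1 : (∑ p : X × X, if Commute p.1 p.2 then 1 else 0) =
      ∑ t : (↥G × ↥G) × (↥V × ↥V),
        if Commute ((t.2.1 : X) * t.1.1) ((t.2.2 : X) * t.1.2) then 1 else 0 := by
    rw [← Equiv.sum_comp E (fun p : X × X => if Commute p.1 p.2 then 1 else 0)]
    simp only [hE]
  rw [h1, Fintype.sum_prod_type]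
  have h2 : ∀ gh : ↥G × ↥G,
      (∑ uw : ↥V × ↥V, if Commute ((uw.1 : X) * gh.1) ((uw.2 : X) * gh.2) then 1 else 0) =
        Nat.card V * ∑ v : ↥V,
          if (Commute (gh.1 : X) gh.2 ∧ Commute (gh.1 : X) v ∧ Commute (gh.2 : X) v) then 1
          else 0 := by
    intro gh
    rw [← card_subtype_eq_sum
      (fun uw : ↥V × ↥V => Commute ((uw.1 : X) * gh.1) ((uw.2 : X) * gh.2)),
      fiber_count V hab G hGV hcop gh.1 gh.2 gh.1.2 gh.2.2]
    congr 1
    exact card_subtype_eq_sum _
  rw [Finset.sum_congr rfl (fun gh _ => h2 gh), ← Finset.mul_sum, Finset.sum_comm]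
  congr 1
  refine Finset.sum_congr rfl (fun v _ => ?_)
  exact (card_subtype_eq_sum _).symm

theorem count_inv {X : Type*} [Group X] (G : Subgroup X) (a : X) (ha : a ∈ G) (v : X) :
    Nat.card {gh : ↥G × ↥G // Commute (gh.1 : X) gh.2 ∧ Commute (gh.1 : X) (a * v * a⁻¹) ∧
        Commute (gh.2 : X) (a * v * a⁻¹)} =
    Nat.card {gh : ↥G × ↥G // Commute (gh.1 : X) gh.2 ∧ Commute (gh.1 : X) v ∧
        Commute (gh.2 : X) v} := by
  symm
  apply Nat.card_congr
  let c : ↥G ≃ ↥G := (MulAut.conj (⟨a, ha⟩ : ↥G)).toEquiv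
  have hc : ∀ g : ↥G, ((c g : ↥G) : X) = a * g * a⁻¹ := fun g => rfl
  refine Equiv.subtypeEquiv (Equiv.prodCongr c c) ?_
  rintro ⟨g, h⟩
  simp only [Equiv.prodCongr_apply, Prod.map_apply, hc, Commute.conj_iff]

theorem stepA {X : Type*} [Group X] [Fintype X] (V : Subgroup X) [V.Normal]
    (G : Subgroup X) [Fintype ↥V]
    (S : Finset X) (hSV : ∀ s ∈ S, s ∈ V)
    (hrep : ∀ v ∈ V, ∃! s, s ∈ S ∧ ∃ g ∈ G, g * v * g⁻¹ = s) :
    ∑ v : ↥V, Nat.card {gh : ↥G × ↥G //
        Commute (gh.1 : X) gh.2 ∧ Commute (gh.1 : X) v ∧ Commute (gh.2 : X) v} =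
      Nat.card G * ∑ s ∈ S, Nat.card (ConjClasses ↥(G ⊓ Subgroup.centralizer ({s} : Set X))) := by
  classical
  have hex : ∀ v : ↥V, ∃ s, (s ∈ S ∧ ∃ g ∈ G, g * (v : X) * g⁻¹ = s) ∧
      ∀ s', (s' ∈ S ∧ ∃ g ∈ G, g * (v : X) * g⁻¹ = s') → s' = s := fun v => hrep v v.2
  choose r hr hr' using hex
  have hmaps : ∀ v ∈ (Finset.univ : Finset ↥V), r v ∈ S := fun v _ => (hr v).1
  rw [← Finset.sum_fiberwise_of_maps_to hmaps, Finset.mul_sum]
  refine Finset.sum_congr rfl (fun s hs => ?_)
  have hconst : ∀ v ∈ Finset.univ.filter (fun v : ↥V => r v = s),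
      Nat.card {gh : ↥G × ↥G //
        Commute (gh.1 : X) gh.2 ∧ Commute (gh.1 : X) v ∧ Commute (gh.2 : X) v} =
      Nat.card {gh : ↥G × ↥G //
        Commute (gh.1 : X) gh.2 ∧ Commute (gh.1 : X) s ∧ Commute (gh.2 : X) s} := by
    intro v hv
    rw [Finset.mem_filter] at hv
    obtain ⟨a, ha, hav⟩ := (hr v).2
    rw [hv.2] at hav
    rw [← hav, count_inv G a ha]
  rw [Finset.sum_congr rfl hconst, Finset.sum_const, smul_eq_mul, comm_sub, ← orbit_stab V G s (hSV s hs)]
  have hcard : (Finset.univ.filter (fun v : ↥V => r v = s)).card =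
      Nat.card {v : ↥V // ∃ g ∈ G, g * (v : X) * g⁻¹ = s} := by
    rw [Nat.card_eq_fintype_card, Fintype.card_subtype]
    congr 1
    ext v
    simp only [Finset.mem_filter, Finset.mem_univ, true_and]
    constructor
    · intro h
      rw [← h]
      exact (hr v).2
    · intro h
      exact (hr' v s ⟨hs, h⟩).symm
  rw [hcard]
  ring

/-- Let X be a finite group, V an abelian normal subgroup of X (any two elements of V commute) and G a complement to V in X whose order is coprime to that of V. Let S be a set of representatives of the orbits of G on V under conjugation: S lies in V and every element of V is conjugate under G to exactly one member of S. Then the number of conjugacy classes of X equals the sum, over s in S, of the number of conjugacy classes of the centralizer of s in G. -/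
theorem result {X : Type*} [Group X] [Finite X] (V : Subgroup X) [V.Normal] (hab : ∀ a ∈ V, ∀ b ∈ V, a * b = b * a) (G : Subgroup X) (hGV : Subgroup.IsComplement' V G) (hcop : (Nat.card V).Coprime (Nat.card G)) (S : Finset X) (hSV : ∀ s ∈ S, s ∈ V) (hrep : ∀ v ∈ V, ∃! s, s ∈ S ∧ ∃ g ∈ G, g * v * g⁻¹ = s) : Nat.card (ConjClasses X) = ∑ s ∈ S, Nat.card (ConjClasses ↥(G ⊓ Subgroup.centralizer ({s} : Set X))) := by
  classical
  have : Fintype X := Fintype.ofFinite X
  have hB := stepB V hab G hGV hcop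
  rw [stepA V G S hSV hrep, ← hGV.card_mul_card] at hB
  have hpos : 0 < Nat.card V * Nat.card G := Nat.mul_pos Nat.card_pos Nat.card_pos
  apply Nat.eq_of_mul_eq_mul_right hpos
  rw [hB]
  ring

end Cfsg.Agent.S4956
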