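import Cfsg.Statements.S4958
import Cfsg.Agent.Lib.Helper20_AbelFourier
import Cfsg.Agent.Lib.Helper20_KnorrWeight
import Cfsg.Agent.Lib.Helper3_Ito
import Cfsg.Agent.Lib.Helper3_CharColumn
import Cfsg.Agent.Lib.Helper75_CharArith
import Cfsg.Agent.Lib.Helper75_LinChar
import Cfsg.Agent.Lib.Helper15_KFixBlock
import Cfsg.Agent.S0660
import Mathlib
-- import your own Cfsg.Agent.* helpers here

set_option autoImplicit false
open Cfsg

namespace Cfsg.Agent.S4958

open Cfsg.Agent.Lib Cfsg.Agent.Lib.Helper20_AbelFourier Cfsg.Agent.Lib.Helper20_KnorrWeight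
open scoped ComplexConjugate

section centralizer

variable {X : Type*} [Group X] [Finite X]

/-- the centralizer of `v ^ j * c` -/
theorem card_centralizer_mul (p : ℕ) [Fact p.Prime] (V G : Subgroup X)
    (hGV : Subgroup.IsComplement' V G) (habV : ∀ a ∈ V, ∀ b ∈ V, a * b = b * a)
    (hpG : ¬ p ∣ Nat.card G) (v : X) (hv : v ∈ V) (hvp : v ^ p = 1)
    (hab : ∀ a ∈ G ⊓ Subgroup.centralizer ({v} : Set X),
      ∀ b ∈ G ⊓ Subgroup.centralizer ({v} : Set X), a * b = b * a)
    (c : X) (hc : c ∈ G ⊓ Subgroup.centralizer ({v} : Set X)) (j : ℕ) (hj : ¬ p ∣ j) :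
    Nat.card (Subgroup.centralizer ({v ^ j * c} : Set X)) =
      Nat.card ↥(V ⊓ Subgroup.centralizer ({c} : Set X)) *
        Nat.card ↥(G ⊓ Subgroup.centralizer ({v} : Set X)) := by
  have hp : p.Prime := Fact.out
  have hcv : c * v = v * c := Subgroup.mem_centralizer_singleton_iff.mp hc.2
  have hcvj : Commute c (v ^ j) := (show Commute c v from hcv).pow_right j
  -- elements commuting with `v ^ j * c` commute with `v` and `c`
  have hkey : ∀ x : X, x * (v ^ j * c) = (v ^ j * c) * x → x * v = v * x ∧ x * c = c * x := by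
    intro x hx
    have hxc : Commute x (v ^ j * c) := hx
    set n := orderOf c with hn
    have hnG : n ∣ Nat.card G := by
      have := orderOf_dvd_natCard (⟨c, hc.1⟩ : ↥G)
      rwa [← Subgroup.orderOf_coe] at this
    have hpn : ¬ p ∣ n := fun h => hpG (h.trans hnG)
    have h1 : (v ^ j * c) ^ n = v ^ (j * n) := by
      rw [hcvj.symm.mul_pow, pow_orderOf_eq_one, mul_one, pow_mul]
    have hcop : (orderOf v).Coprime (j * n) := by
      have hov : orderOf v ∣ p := orderOf_dvd_of_pow_eq_one hvp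
      have : p.Coprime (j * n) :=
        Nat.Coprime.mul_right ((Nat.Prime.coprime_iff_not_dvd hp).mpr hj)
          ((Nat.Prime.coprime_iff_not_dvd hp).mpr hpn)
      exact Nat.Coprime.coprime_dvd_left hov this
    obtain ⟨m, hm⟩ := exists_pow_eq_self_of_coprime hcop.symm
    have hxv : Commute x v := by
      have := (hxc.pow_right n).pow_right m
      rwa [h1, hm] at this
    have hxc' : Commute x c := by
      have h2 : c = (v ^ j)⁻¹ * (v ^ j * c) := by group
      rw [h2]
      exact ((hxv.pow_right j).inv_right).mul_right hxc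
    exact ⟨hxv, hxc'⟩
  let f : ↥(V ⊓ Subgroup.centralizer ({c} : Set X)) × ↥(G ⊓ Subgroup.centralizer ({v} : Set X)) →
      ↥(Subgroup.centralizer ({v ^ j * c} : Set X)) :=
    fun x => ⟨(x.1 : X) * (x.2 : X), by
      rw [Subgroup.mem_centralizer_singleton_iff]
      have h1 : Commute (x.1 : X) v := habV _ x.1.2.1 v hv
      have h2 : Commute (x.1 : X) c := Subgroup.mem_centralizer_singleton_iff.mp x.1.2.2
      have h3 : Commute (x.2 : X) v := Subgroup.mem_centralizer_singleton_iff.mp x.2.2.2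
      have h4 : Commute (x.2 : X) c := hab _ x.2.2 c hc
      exact ((h1.pow_right j).mul_right h2).mul_left ((h3.pow_right j).mul_right h4)⟩
  have hf : Function.Bijective f := by
    constructor
    · rintro ⟨a, g⟩ ⟨a', g'⟩ h
      have h1 : (a : X) * (g : X) = (a' : X) * (g' : X) := congrArg Subtype.val h
      have h2 := hGV.1 (a₁ := (⟨(a : X), a.2.1⟩, ⟨(g : X), g.2.1⟩))
        (a₂ := (⟨(a' : X), a'.2.1⟩, ⟨(g' : X), g'.2.1⟩)) h1
      have e1 : (a : X) = (a' : X) := congrArg (fun z => ((z.1 : V) : X)) h2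
      have e2 : (g : X) = (g' : X) := congrArg (fun z => ((z.2 : G) : X)) h2
      exact Prod.ext (Subtype.ext e1) (Subtype.ext e2)
    · rintro ⟨x, hx⟩
      obtain ⟨⟨a, g⟩, h⟩ := hGV.2 x
      have h' : (a : X) * (g : X) = x := h
      obtain ⟨hxv, hxc⟩ := hkey x (Subgroup.mem_centralizer_singleton_iff.mp hx)
      have hav : Commute (a : X) v := habV _ a.2 v hv
      have hg : (g : X) = (a : X)⁻¹ * x := by rw [← h']; group
      have hgv : Commute (g : X) v := by
        rw [hg]
        exact hav.inv_left.mul_left hxv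
      have hgC : (g : X) ∈ G ⊓ Subgroup.centralizer ({v} : Set X) :=
        ⟨g.2, Subgroup.mem_centralizer_singleton_iff.mpr hgv⟩
      have hgc : Commute (g : X) c := hab _ hgC c hc
      have ha : (a : X) = x * (g : X)⁻¹ := by rw [← h']; group
      have hac : Commute (a : X) c := by
        rw [ha]
        exact (show Commute x c from hxc).mul_left hgc.inv_left
      exact ⟨(⟨(a : X), a.2, Subgroup.mem_centralizer_singleton_iff.mpr hac⟩, ⟨(g : X), hgC⟩),
        Subtype.ext h'⟩
  rw [← Nat.card_congr (Equiv.ofBijective f hf), Nat.card_prod]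

end centralizer

section character

variable {X : Type*} [Group X] [Finite X]

open Cfsg.Agent.Lib.Helper75_CharArith Cfsg.Agent.Lib.Helper75_LinChar
  Cfsg.Agent.Lib.Helper3_CharBridge

/-- a character restricted to `⟨v⟩ × ι(Cg)` is a generalized character of `Cg × ZMod p` -/
theorem isGC_char (p : ℕ) [Fact p.Prime] {Cg : Type*} [CommGroup Cg] [Fintype Cg] (ι : Cg →* X)
    (v : X) (hv : ∀ c, ι c * v = v * ι c) (hvp : v ^ p = 1) (χ : X → ℂ)
    (hχ : Cfsg.IsCharacter X χ) :
    IsGC (fun cj : Additive Cg × ZMod p => χ (v ^ (cj.2.val) * ι (Additive.toMul cj.1))) := by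
  classical
  set S : Set X := insert v (Set.range ι) with hS
  have hcommS : ∀ x ∈ S, ∀ y ∈ S, x * y = y * x := by
    intro x hx y hy
    rcases hx with rfl | ⟨c, rfl⟩ <;> rcases hy with rfl | ⟨c', rfl⟩
    · rfl
    · exact (hv c').symm
    · exact hv c
    · rw [← map_mul, ← map_mul, mul_comm]
  set E : Subgroup X := Subgroup.closure S with hE
  have hEc : IsMulCommutative ↥E := Subgroup.isMulCommutative_closure hcommS
  have hEcomm : ∀ a b : ↥E, a * b = b * a := fun a b => hEc.is_comm.comm a b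
  haveI : Fintype ↥E := Fintype.ofFinite _
  have hres : Cfsg.IsCharacter ↥E (fun x => χ x) := isCharacter_restrict E hχ
  obtain ⟨m, -, hm⟩ := exists_multiplicities hres
  have hlin : ∀ ψ : Cfsg.IrrCharacter ↥E, IsLin ↥E (ψ : ↥E → ℂ) := fun ψ =>
    ⟨isCharacter_of_isIrrCharacter ψ.2,
      Cfsg.Agent.Lib.Helper15_KFixBlock.irr_one_eq_one_of_comm hEcomm ψ.2⟩
  set ve : ↥E := ⟨v, Subgroup.subset_closure (Set.mem_insert _ _)⟩ with hve
  set ιE : Cg → ↥E := fun c =>
    ⟨ι c, Subgroup.subset_closure (Set.mem_insert_of_mem _ (Set.mem_range_self c))⟩ with hιE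
  have hζ : ∀ ψ : Cfsg.IrrCharacter ↥E, ((ψ : ↥E → ℂ) ve) ^ p = 1 := by
    intro ψ
    rw [← (hlin ψ).map_pow]
    have : ve ^ p = 1 := Subtype.ext hvp
    rw [this, (hlin ψ).2]
  set aψ : Cfsg.IrrCharacter ↥E → AddChar (ZMod p) ℂ := fun ψ => AddChar.zmodChar p (hζ ψ)
    with haψ
  set bψ : Cfsg.IrrCharacter ↥E → AddChar (Additive Cg) ℂ := fun ψ =>
    { toFun := fun a => (ψ : ↥E → ℂ) (ιE (Additive.toMul a))
      map_zero_eq_one' := by
        have : ιE (Additive.toMul (0 : Additive Cg)) = 1 := Subtype.ext (map_one ι)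
        rw [this, (hlin ψ).2]
      map_add_eq_mul' := by
        intro a b
        have : ιE (Additive.toMul (a + b)) = ιE (Additive.toMul a) * ιE (Additive.toMul b) :=
          Subtype.ext (map_mul ι _ _)
        rw [this, (hlin ψ).map_mul] } with hbψ
  have hF : (fun cj : Additive Cg × ZMod p => χ (v ^ (cj.2.val) * ι (Additive.toMul cj.1))) =
      ∑ ψ : Cfsg.IrrCharacter ↥E, (((m ψ : ℤ) : ℂ)) • (⇑(prodChar (bψ ψ) (aψ ψ))) := by
    funext cj
    obtain ⟨a, j⟩ := cj
    have h1 : χ (v ^ j.val * ι (Additive.toMul a)) =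
        (fun x : ↥E => χ x) (ve ^ j.val * ιE (Additive.toMul a)) := rfl
    rw [h1, hm, Finset.sum_apply, Finset.sum_apply]
    apply Finset.sum_congr rfl
    intro ψ _
    simp only [Pi.smul_apply, smul_eq_mul, prodChar_apply]
    rw [(hlin ψ).map_mul, (hlin ψ).map_pow]
    simp only [haψ, hbψ, AddChar.zmodChar_apply]
    push_cast
    show _ = (m ψ : ℂ) * ((ψ : ↥E → ℂ) (ιE (Additive.toMul a)) * _)
    ring
  rw [hF]
  exact IsGC.sum _ _ (fun ψ _ => (isGC_addChar _).int_smul (m ψ))

end character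

section main

variable {X : Type*} [Group X] [Finite X]

open Cfsg.Agent.Lib.Helper3_CharColumn Cfsg.Agent.Lib.Helper3_CharComplete
  Cfsg.Agent.Lib.Helper3_CharBridge

theorem main (p : ℕ) [Fact p.Prime] (V : Subgroup X) [V.Normal]
    (hVexp : ∀ v ∈ V, v ^ p = 1) (hidx : ¬ p ∣ V.index)
    (hself : Subgroup.centralizer (V : Set X) = V) (G : Subgroup X)
    (hGV : Subgroup.IsComplement' V G) (v : X) (hv : v ∈ V)
    (hab : ∀ a ∈ G ⊓ Subgroup.centralizer ({v} : Set X),
      ∀ b ∈ G ⊓ Subgroup.centralizer ({v} : Set X), a * b = b * a) :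
    Nat.card (ConjClasses X) ≤ Nat.card V := by
  classical
  haveI : Fintype X := Fintype.ofFinite X
  have hp : p.Prime := Fact.out
  have habV : ∀ a ∈ V, ∀ b ∈ V, a * b = b * a := by
    intro a ha b hb
    have : a ∈ Subgroup.centralizer (V : Set X) := by rw [hself]; exact ha
    exact (Subgroup.mem_centralizer_iff.mp this b hb).symm
  have hpG : ¬ p ∣ Nat.card G := by
    rw [← hGV.symm.index_eq_card]; exact hidx
  set C : Subgroup X := G ⊓ Subgroup.centralizer ({v} : Set X) with hC
  letI cg : CommGroup ↥C :=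
    { (inferInstance : Group ↥C) with
      mul_comm := fun a b => Subtype.ext (hab a a.2 b b.2) }
  letI cv : CommGroup ↥V :=
    { (inferInstance : Group ↥V) with
      mul_comm := fun a b => Subtype.ext (habV a a.2 b b.2) }
  haveI : Fintype ↥C := Fintype.ofFinite _
  have hCV : C ≤ Subgroup.normalizer (V : Set X) := by
    rw [Subgroup.normalizer_eq_top]; exact le_top
  letI act : MulDistribMulAction ↥C ↥V := Cfsg.Agent.S0660.conjAct V C hCV
  have hsmul : ∀ (c : ↥C) (w : ↥V), ((c • w : ↥V) : X) = (c : X) * w * (c : X)⁻¹ := fun _ _ => rfl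
  have hexp' : ∀ w : ↥V, w ^ p = 1 := fun w => Subtype.ext (hVexp w w.2)
  have hcop : (Nat.card ↥C).Coprime p := by
    rw [Nat.coprime_comm, Nat.Prime.coprime_iff_not_dvd hp]
    intro h
    exact hpG (h.trans (Subgroup.card_dvd_of_le inf_le_left))
  have hfaith : ∀ c : ↥C, (∀ w : ↥V, c • w = w) → c = 1 := by
    intro c hc
    have h1 : (c : X) ∈ Subgroup.centralizer (V : Set X) := by
      rw [Subgroup.mem_centralizer_iff]
      intro w hw
      have := congrArg Subtype.val (hc ⟨w, hw⟩)
      rw [hsmul] at this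
      have this' : (c : X) * w * (c : X)⁻¹ = w := this
      have h2 : (c : X) * w = w * (c : X) := by
        calc (c : X) * w = ((c : X) * w * (c : X)⁻¹) * (c : X) := by group
          _ = w * (c : X) := by rw [this']
      exact h2.symm
    rw [hself] at h1
    have h3 : (c : X) ∈ V ⊓ G := ⟨h1, c.2.1⟩
    rw [hGV.disjoint.eq_bot, Subgroup.mem_bot] at h3
    exact Subtype.ext h3
  have KIw := knorr_weight (Cg := ↥C) (W := ↥V) p hexp' hcop hfaith
  set ω : Additive ↥C → ℝ := fun c => wt (⊤ : Subgroup ↥V) (Additive.toMul c) with hω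
  have hωnn : ∀ c, 0 ≤ ω c := by
    intro c
    simp only [hω]
    unfold wt
    positivity
  have hvp : v ^ p = 1 := hVexp v hv
  have hvC : ∀ c : ↥C, C.subtype c * v = v * C.subtype c := by
    intro c
    exact Subgroup.mem_centralizer_singleton_iff.mp c.2.2
  -- the estimate for each irreducible character
  have hχ : ∀ χ : Cfsg.IrrCharacter X,
      ((p : ℝ) - 1) * (Nat.card ↥C : ℝ) ^ 2 ≤
        ∑ c : Additive ↥C, ∑ j : ZMod p, ω c * (if j = 0 then 0 else 1) *
          ‖(χ : X → ℂ) (v ^ j.val * ((Additive.toMul c : ↥C) : X))‖ ^ 2 := by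
    intro χ
    have hgc := isGC_char p (Cg := ↥C) C.subtype v hvC hvp (χ : X → ℂ)
      (isCharacter_of_isIrrCharacter χ.2)
    have hnd : ¬ ∃ k : ℤ, (fun cj : Additive ↥C × ZMod p =>
        (χ : X → ℂ) (v ^ (cj.2.val) * C.subtype (Additive.toMul cj.1))) (0, 0) =
          (Fintype.card (ZMod p) : ℂ) * k := by
      rintro ⟨k, hk⟩
      obtain ⟨n, ρ, hρ, hρχ⟩ := χ.2
      have h1 : (χ : X → ℂ) 1 = (n : ℂ) := by
        rw [← hρχ, Representation.char_one]
        simp
      have h2 := Cfsg.Agent.Lib.Helper3_Ito.ito ρ V habV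
      rw [Module.finrank_fin_fun] at h2
      simp only [ZMod.val_zero, pow_zero, toMul_zero, map_one, mul_one, ZMod.card] at hk
      rw [h1] at hk
      have h3 : (n : ℤ) = (p : ℤ) * k := by exact_mod_cast hk
      have h4 : (p : ℤ) ∣ (n : ℤ) := ⟨k, h3⟩
      have h5 : p ∣ n := by exact_mod_cast h4
      exact hidx (h5.trans h2)
    have key := KI_vstep (A := Additive ↥C) (Z := ZMod p) ω hωnn KIw _ hgc hnd
    rw [ZMod.card, Fintype.card_additive, ← Nat.card_eq_fintype_card] at key
    refine le_trans key (le_of_eq ?_)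
    apply Finset.sum_congr rfl
    intro c _
    apply Finset.sum_congr rfl
    intro j _
    congr 2
    split_ifs <;> rfl
  -- column orthogonality
  have hcol : ∀ x : X, ∑ χ : Cfsg.IrrCharacter X, ‖(χ : X → ℂ) x‖ ^ 2 =
      (Nat.card (Subgroup.centralizer ({x} : Set X)) : ℝ) := by
    intro x
    have h := column_orthogonality_self x
    have h2 : ((∑ χ : Cfsg.IrrCharacter X, ‖(χ : X → ℂ) x‖ ^ 2 : ℝ) : ℂ) =
        ((Nat.card (Subgroup.centralizer ({x} : Set X)) : ℝ) : ℂ) := by
      rw [Complex.ofReal_sum]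
      simp only [Complex.ofReal_pow, ← Complex.mul_conj']
      rw [h]
      simp
    exact Complex.ofReal_injective h2
  -- the weight times the centralizer order
  have hfix : ∀ c : ↥C, Nat.card ↥((⊤ : Subgroup ↥V) ⊓ fixSub c) =
      Nat.card ↥(V ⊓ Subgroup.centralizer ({(c : X)} : Set X)) := by
    intro c
    have h1 : (⊤ : Subgroup ↥V) ⊓ fixSub c =
        (V ⊓ Subgroup.centralizer ({(c : X)} : Set X)).subgroupOf V := by
      ext w
      rw [top_inf_eq, mem_fixSub, Subgroup.mem_subgroupOf, Subgroup.mem_inf,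
        Subgroup.mem_centralizer_singleton_iff, Subtype.ext_iff, hsmul]
      constructor
      · intro h
        refine ⟨w.2, ?_⟩
        calc (w : X) * (c : X) = ((c : X) * w * (c : X)⁻¹) * (c : X) := by rw [h]
          _ = (c : X) * w := by group
      · rintro ⟨-, h⟩
        rw [← h]; group
    rw [h1]
    exact Nat.card_congr (Subgroup.subgroupOfEquivOfLe inf_le_left).toEquiv
  have hprod : ∀ (c : Additive ↥C) (j : ZMod p), j ≠ 0 →
      ω c * (Nat.card (Subgroup.centralizer
        ({v ^ j.val * ((Additive.toMul c : ↥C) : X)} : Set X)) : ℝ) =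
        (Nat.card V : ℝ) * (Nat.card ↥C : ℝ) := by
    intro c j hj
    have hjp : ¬ p ∣ j.val := by
      intro h
      have h1 := Nat.eq_zero_of_dvd_of_lt h (ZMod.val_lt j)
      exact hj ((ZMod.val_eq_zero j).mp h1)
    rw [card_centralizer_mul p V G hGV habV hpG v hv hvp hab _ (Additive.toMul c).2 j.val hjp]
    simp only [hω]
    unfold wt
    rw [hfix, Subgroup.card_top]
    have hne : (Nat.card ↥(V ⊓ Subgroup.centralizer ({((Additive.toMul c : ↥C) : X)} : Set X)) : ℝ)
        ≠ 0 := by
      exact_mod_cast Nat.card_pos.ne'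
    push_cast
    field_simp
    rfl
  -- summing over all irreducible characters
  have hsum : (Fintype.card (Cfsg.IrrCharacter X) : ℝ) * (((p : ℝ) - 1) * (Nat.card ↥C : ℝ) ^ 2) ≤
      ∑ c : Additive ↥C, ∑ j : ZMod p, (if j = 0 then 0 else 1) *
        ((Nat.card V : ℝ) * (Nat.card ↥C : ℝ)) := by
    calc (Fintype.card (Cfsg.IrrCharacter X) : ℝ) * (((p : ℝ) - 1) * (Nat.card ↥C : ℝ) ^ 2)
        = ∑ _χ : Cfsg.IrrCharacter X, (((p : ℝ) - 1) * (Nat.card ↥C : ℝ) ^ 2) := by
          rw [Finset.sum_const, Finset.card_univ, nsmul_eq_mul]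
      _ ≤ ∑ χ : Cfsg.IrrCharacter X, ∑ c : Additive ↥C, ∑ j : ZMod p,
            ω c * (if j = 0 then 0 else 1) *
              ‖(χ : X → ℂ) (v ^ j.val * ((Additive.toMul c : ↥C) : X))‖ ^ 2 :=
          Finset.sum_le_sum (fun χ _ => hχ χ)
      _ = ∑ c : Additive ↥C, ∑ j : ZMod p, ∑ χ : Cfsg.IrrCharacter X,
            ω c * (if j = 0 then 0 else 1) *
              ‖(χ : X → ℂ) (v ^ j.val * ((Additive.toMul c : ↥C) : X))‖ ^ 2 := by
          rw [Finset.sum_comm]
          apply Finset.sum_congr rfl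
          intro c _
          rw [Finset.sum_comm]
      _ = _ := by
          apply Finset.sum_congr rfl
          intro c _
          apply Finset.sum_congr rfl
          intro j _
          rw [← Finset.mul_sum, hcol]
          by_cases hj : j = 0
          · simp [hj]
          · rw [if_neg hj, mul_one, one_mul, hprod c j hj]
  have hsum2 : ∑ c : Additive ↥C, ∑ j : ZMod p, (if j = 0 then (0 : ℝ) else 1) *
        ((Nat.card V : ℝ) * (Nat.card ↥C : ℝ)) =
      (Nat.card ↥C : ℝ) * (((p : ℝ) - 1) * ((Nat.card V : ℝ) * (Nat.card ↥C : ℝ))) := by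
    have h1 : ∑ j : ZMod p, (if j = 0 then (0 : ℝ) else 1) * ((Nat.card V : ℝ) * (Nat.card ↥C : ℝ)) =
        ((p : ℝ) - 1) * ((Nat.card V : ℝ) * (Nat.card ↥C : ℝ)) := by
      rw [← Finset.sum_mul]
      congr 1
      have h2 : ∀ j : ZMod p, (if j = 0 then (0 : ℝ) else 1) = 1 - (if j = 0 then 1 else 0) := by
        intro j; split_ifs <;> ring
      simp_rw [h2]
      rw [Finset.sum_sub_distrib, Finset.sum_ite_eq' Finset.univ (0 : ZMod p)]
      simp
    rw [Finset.sum_congr rfl (fun c _ => h1), Finset.sum_const, Finset.card_univ, nsmul_eq_mul,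
      Fintype.card_additive, ← Nat.card_eq_fintype_card]
  rw [hsum2] at hsum
  have hCpos : (0 : ℝ) < (Nat.card ↥C : ℝ) := by exact_mod_cast Nat.card_pos
  have hp1 : (0 : ℝ) < (p : ℝ) - 1 := by
    have : (2 : ℝ) ≤ p := by exact_mod_cast hp.two_le
    linarith
  have hfin : (Fintype.card (Cfsg.IrrCharacter X) : ℝ) ≤ (Nat.card V : ℝ) := by
    have hpos : (0 : ℝ) < ((p : ℝ) - 1) * (Nat.card ↥C : ℝ) ^ 2 := by positivity
    have : (Fintype.card (Cfsg.IrrCharacter X) : ℝ) * (((p : ℝ) - 1) * (Nat.card ↥C : ℝ) ^ 2) ≤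
        (Nat.card V : ℝ) * (((p : ℝ) - 1) * (Nat.card ↥C : ℝ) ^ 2) := by
      refine le_trans hsum (le_of_eq ?_)
      ring
    exact le_of_mul_le_mul_right this hpos
  have hk : Fintype.card (Cfsg.IrrCharacter X) = Nat.card (ConjClasses X) := by
    rw [← Nat.card_eq_fintype_card, card_irr_eq_card_conjClasses]
  rw [← hk]
  exact_mod_cast hfin

end main

/-- Let X be a finite group and V a normal subgroup of X in which every element has order dividing the prime p, whose index in X is prime to p and which is its own centralizer in X; so V is an elementary abelian normal Sylow p-subgroup, and any complement G to V in X is a group of order prime to p acting faithfully on the vector space V by conjugation (the coprime linear setting of the k(GV) problem). Let G be a complement to V in X and suppose that for some v in V the centralizer of v in G is abelian. Then the number of conjugacy classes of X is at most the order of V (the abelian-stabilizer criterion for the k(GV) problem). -/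
theorem result {X : Type*} [Group X] [Finite X] (p : ℕ) [Fact p.Prime] (V : Subgroup X) [V.Normal] (hVexp : ∀ v ∈ V, v ^ p = 1) (hidx : ¬ p ∣ V.index) (hself : Subgroup.centralizer (V : Set X) = V) (G : Subgroup X) (hGV : Subgroup.IsComplement' V G) (v : X) (hv : v ∈ V) (hab : ∀ a ∈ G ⊓ Subgroup.centralizer ({v} : Set X), ∀ b ∈ G ⊓ Subgroup.centralizer ({v} : Set X), a * b = b * a) : Nat.card (ConjClasses X) ≤ Nat.card V := by
  exact main p V hVexp hidx hself G hGV v hv hab

end Cfsg.Agent.S4958
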