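import Mathlib
import Cfsg.Statements.S4964
import Cfsg.Agent.S4207
import Cfsg.Agent.Lib.Helper1_Frattini
import Cfsg.Agent.Lib.Helper78_LocalRing
import Cfsg.Agent.Lib.Helper77_RegClasses
import Cfsg.Agent.Lib.Helper78_CentralNil
import Cfsg.Agent.Lib.Helper77_WeakOrth
import Cfsg.Agent.Lib.Helper16_Quot
import Cfsg.Agent.Lib.Helper80_CharBasic
import Cfsg.Agent.Lib.Helper81_CharOrth

set_option autoImplicit false
open Cfsg

namespace Cfsg.Agent.S4964

section grouptheory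


variable {G : Type*} [Group G] [Finite G] (p : ℕ) [Fact p.Prime]

/-- a `p`-regular element of a quotient by a normal `p`-subgroup has a `p`-regular preimage -/
theorem exists_pregular_preimage (Q : Subgroup G) [Q.Normal] (hQ : IsPGroup p Q) (y : G ⧸ Q)
    (hy : ¬ p ∣ orderOf y) : ∃ g : G, (g : G ⧸ Q) = y ∧ ¬ p ∣ orderOf g := by
  obtain ⟨g₀, rfl⟩ := QuotientGroup.mk_surjective y
  set m := orderOf (g₀ : G ⧸ Q) with hm
  have hmpos : 0 < m := orderOf_pos _
  have hmem : g₀ ^ m ∈ Q := by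
    rw [← QuotientGroup.eq_one_iff, QuotientGroup.mk_pow, hm, pow_orderOf_eq_one]
  obtain ⟨k, hk⟩ := hQ ⟨g₀ ^ m, hmem⟩
  have hk' : (g₀ ^ m) ^ (p ^ k) = 1 := by
    have := congrArg Subtype.val hk
    simpa using this
  have hcop : (p ^ k).Coprime m := by
    apply Nat.Coprime.pow_left
    exact (Nat.Prime.coprime_iff_not_dvd (Fact.out : p.Prime)).2 hy
  set e := (p ^ k) ^ Nat.totient m with he
  have he1 : e ≡ 1 [MOD m] := Nat.ModEq.pow_totient hcop
  have hdvd : p ^ k ∣ e := by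
    rw [he]
    exact dvd_pow_self _ (Nat.totient_pos.2 hmpos).ne'
  refine ⟨g₀ ^ e, ?_, ?_⟩
  · rw [QuotientGroup.mk_pow]
    have h1 : (g₀ : G ⧸ Q) ^ e = (g₀ : G ⧸ Q) ^ 1 := by
      rw [pow_eq_pow_iff_modEq]
      exact he1
    rw [h1, pow_one]
  · have h2 : (g₀ ^ e) ^ m = 1 := by
      obtain ⟨c, hc⟩ := hdvd
      rw [← pow_mul, hc, mul_assoc, mul_comm c m, ← mul_assoc, mul_comm (p ^ k) m, pow_mul, pow_mul,
        hk', one_pow]
    intro hp
    exact hy (hp.trans (orderOf_dvd_of_pow_eq_one h2))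

/-- a `p'`-element centralizing a normal `p`-subgroup `Q` whose commutator with `x` lies in `Q`
commutes with `x`. -/
theorem commute_of_comm_mem (Q : Subgroup G) (hQ : IsPGroup p Q) (g x : G)
    (hg : ¬ p ∣ orderOf g) (hgQ : ∀ q ∈ Q, g * q = q * g) (hx : x * g * x⁻¹ * g⁻¹ ∈ Q) :
    x * g = g * x := by
  set q := x * g * x⁻¹ * g⁻¹ with hq
  have hcomm : Commute q g := (hgQ q hx).symm
  set n := orderOf g with hn
  have h1 : (q * g) ^ n = 1 := by
    have : q * g = x * g * x⁻¹ := by rw [hq]; group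
    rw [this, conj_pow, hn, pow_orderOf_eq_one]
    group
  rw [hcomm.mul_pow, hn, pow_orderOf_eq_one, mul_one] at h1
  obtain ⟨k, hk⟩ := hQ ⟨q, hx⟩
  have hk' : q ^ (p ^ k) = 1 := by
    have := congrArg Subtype.val hk
    simpa using this
  have hd1 : orderOf q ∣ orderOf g := orderOf_dvd_of_pow_eq_one h1
  have hd2 : orderOf q ∣ p ^ k := orderOf_dvd_of_pow_eq_one hk'
  have hcop : (orderOf g).Coprime (p ^ k) := by
    apply Nat.Coprime.pow_right
    exact ((Nat.Prime.coprime_iff_not_dvd (Fact.out : p.Prime)).2 hg).symm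
  have hq1 : orderOf q = 1 := Nat.eq_one_of_dvd_coprimes hcop hd1 hd2
  have hq1' : q = 1 := orderOf_eq_one_iff.1 hq1
  have : x * g = q * g * x := by rw [hq]; group
  rw [this, hq1', one_mul]




/-- Burnside: a `p'`-element acting trivially on `D/D'` for a normal `p`-subgroup `D`
centralizes `D`. -/
theorem centralizes_of_map (D : Subgroup G) [D.Normal] (hD : IsPGroup p D) (g : G)
    (hg : ¬ p ∣ orderOf g)
    (h : (g : G ⧸ ⁅D, D⁆) ∈ Subgroup.centralizer
      ((D.map (QuotientGroup.mk' ⁅D, D⁆) : Subgroup (G ⧸ ⁅D, D⁆)) : Set (G ⧸ ⁅D, D⁆))) :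
    ∀ d ∈ D, g * d = d * g := by
  classical
  have hp : p.Prime := Fact.out
  set π := QuotientGroup.mk' ⁅D, D⁆ with hπ
  set S : Subgroup G := (Subgroup.centralizer
      ((D.map π : Subgroup (G ⧸ ⁅D, D⁆)) : Set (G ⧸ ⁅D, D⁆))).comap π with hS
  have hSmem : ∀ x ∈ S, ∀ d ∈ D, x * d * x⁻¹ * d⁻¹ ∈ ⁅D, D⁆ := by
    intro x hx d hd
    have h1 : π d * π x = π x * π d := by
      have := (Subgroup.mem_centralizer_iff.1 (Subgroup.mem_comap.1 hx)) (π d)
        (Subgroup.mem_map_of_mem π hd)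
      exact this
    have h2 : π (x * d * x⁻¹ * d⁻¹) = 1 := by
      rw [map_mul, map_mul, map_mul, ← h1, map_inv, map_inv]
      group
    exact (QuotientGroup.eq_one_iff _).1 h2
  have hgS : g ∈ S := h
  -- the group of automorphisms
  set A : Subgroup (MulAut D) := S.map (MulAut.conjNormal (H := D)) with hA
  have hcomm : commutator D ≤ frattini D :=
    Cfsg.Agent.Lib.Helper1_Frattini.commutator_le_frattini_of_isPGroup hD
  have hAfr : ∀ α ∈ A, ∀ x : D, α x * x⁻¹ ∈ frattini D := by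
    intro α hα x
    obtain ⟨s, hs, rfl⟩ := Subgroup.mem_map.1 hα
    apply hcomm
    have h3 := hSmem s hs x x.2
    rw [← Subgroup.map_subtype_commutator] at h3
    obtain ⟨c, hc, hceq⟩ := Subgroup.mem_map.1 h3
    have : c = MulAut.conjNormal s x * x⁻¹ := by
      apply Subtype.ext
      have h9 : (c : G) = s * ↑x * s⁻¹ * (↑x)⁻¹ := hceq
      rw [h9]
      simp [MulAut.conjNormal_apply]
    rw [← this]
    exact hc
  obtain ⟨n, hn⟩ := hD.exists_card_eq
  have hidx : (frattini D).index ∣ p ^ n := by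
    rw [← hn]; exact Subgroup.index_dvd_card _
  obtain ⟨r, -, hr⟩ := (Nat.dvd_prime_pow hp).1 hidx
  have hcard := Cfsg.Agent.S4207.result (p := p) hn hr A hAfr
  set α : MulAut D := MulAut.conjNormal g with hα
  have hαA : α ∈ A := Subgroup.mem_map_of_mem _ hgS
  have ho1 : orderOf α ∣ p ^ (r * (n - r)) := by
    have h4 : orderOf (⟨α, hαA⟩ : A) ∣ Nat.card A := orderOf_dvd_natCard _
    have h5 : orderOf (⟨α, hαA⟩ : A) = orderOf α := by
      rw [← Subgroup.orderOf_coe]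
    rw [h5] at h4
    exact h4.trans hcard
  have ho2 : orderOf α ∣ orderOf g := orderOf_map_dvd _ g
  have hcop : (orderOf g).Coprime (p ^ (r * (n - r))) := by
    apply Nat.Coprime.pow_right
    exact ((Nat.Prime.coprime_iff_not_dvd hp).2 hg).symm
  have hα1 : orderOf α = 1 := Nat.eq_one_of_dvd_coprimes hcop ho2 ho1
  have hα1' : α = 1 := orderOf_eq_one_iff.1 hα1
  intro d hd
  have h6 : α ⟨d, hd⟩ = ⟨d, hd⟩ := by rw [hα1']; rfl
  have h7 := congrArg Subtype.val h6
  rw [hα, MulAut.conjNormal_apply] at h7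
  have h8 : g * d * g⁻¹ = d := h7
  calc g * d = g * d * g⁻¹ * g := by group
    _ = d * g := by rw [h8]

omit [Finite G] in
/-- the central character of an inflated function. -/
theorem centralChar_comp_mk (Q : Subgroup G) [Q.Normal] (χ : G ⧸ Q → ℂ) (g : G) :
    centralChar (χ ∘ QuotientGroup.mk) g =
      (((Subgroup.centralizer ({g} : Set G)).relIndex
        ((Subgroup.centralizer ({(g : G ⧸ Q)} : Set (G ⧸ Q))).comap (QuotientGroup.mk' Q)) : ℕ) : ℂ) *
      centralChar χ (g : G ⧸ Q) := by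
  unfold centralChar
  have hle : Subgroup.centralizer ({g} : Set G) ≤
      (Subgroup.centralizer ({(g : G ⧸ Q)} : Set (G ⧸ Q))).comap (QuotientGroup.mk' Q) := by
    intro x hx
    rw [Subgroup.mem_comap, Subgroup.mem_centralizer_singleton_iff]
    rw [Subgroup.mem_centralizer_singleton_iff] at hx
    have := congrArg (QuotientGroup.mk' Q) hx
    simpa using this
  have h1 := Subgroup.relIndex_mul_index hle
  rw [Subgroup.index_comap_of_surjective _ (QuotientGroup.mk'_surjective Q)] at h1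
  rw [← h1]
  push_cast
  simp only [Function.comp, QuotientGroup.mk_one]
  ring

end grouptheory

section main

open Cfsg.Agent.Lib.Helper78_LocalRing

variable {G : Type*} [Group G] [Finite G] (p : ℕ) [Fact p.Prime]

theorem part_i (M : Ideal Cfsg.AlgInt) (hM : Cfsg.IsPModular p M) (D : Subgroup G) [D.Normal]
    (hD : IsPGroup p D) (χ ψ : Cfsg.IrrCharacter (G ⧸ ⁅D, D⁆)) :
    Cfsg.SameBlock M (χ : G ⧸ ⁅D, D⁆ → ℂ) (ψ : G ⧸ ⁅D, D⁆ → ℂ) ↔
      Cfsg.SameBlock M ((χ : G ⧸ ⁅D, D⁆ → ℂ) ∘ QuotientGroup.mk)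
        ((ψ : G ⧸ ⁅D, D⁆ → ℂ) ∘ QuotientGroup.mk) := by
  classical
  have hMp : M.IsPrime := isPrime_of_isPModular hM
  have hQ : IsPGroup p (⁅D, D⁆ : Subgroup G) :=
    hD.to_le (Subgroup.commutator_le_left D D)
  constructor
  · intro h g
    rw [centralChar_comp_mk, centralChar_comp_mk, ← mul_sub]
    exact memLocalIdeal_mul_left hMp (memLocalRing_natCast hMp _) (h _)
  · intro h
    apply Cfsg.Agent.Lib.Helper77_RegClasses.sameBlock_of_forall_reg hM χ ψ
    intro y hy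
    set Dbar : Subgroup (G ⧸ ⁅D, D⁆) := D.map (QuotientGroup.mk' ⁅D, D⁆) with hDbar
    have : Dbar.Normal := Subgroup.Normal.map inferInstance _ (QuotientGroup.mk'_surjective _)
    have hDbarp : IsPGroup p Dbar := hD.map _
    by_cases hc : y ∈ Subgroup.centralizer (Dbar : Set (G ⧸ ⁅D, D⁆))
    · obtain ⟨g, rfl, hg⟩ := exists_pregular_preimage p ⁅D, D⁆ hQ y hy
      have hgD : ∀ d ∈ D, g * d = d * g := centralizes_of_map p D hD g hg hc
      have hgQ : ∀ q ∈ (⁅D, D⁆ : Subgroup G), g * q = q * g := fun q hq =>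
        hgD q (Subgroup.commutator_le_left D D hq)
      have hr : (Subgroup.centralizer ({g} : Set G)).relIndex
          ((Subgroup.centralizer ({(g : G ⧸ ⁅D, D⁆)} : Set (G ⧸ ⁅D, D⁆))).comap
            (QuotientGroup.mk' ⁅D, D⁆)) = 1 := by
        rw [Subgroup.relIndex_eq_one]
        intro x hx
        rw [Subgroup.mem_comap, Subgroup.mem_centralizer_singleton_iff] at hx
        rw [Subgroup.mem_centralizer_singleton_iff]
        apply commute_of_comm_mem p ⁅D, D⁆ hQ g x hg hgQ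
        rw [← QuotientGroup.eq_one_iff]
        have hx' : ((x : G ⧸ ⁅D, D⁆)) * (g : G ⧸ ⁅D, D⁆) = (g : G ⧸ ⁅D, D⁆) * (x : G ⧸ ⁅D, D⁆) := hx
        rw [QuotientGroup.mk_mul, QuotientGroup.mk_mul, QuotientGroup.mk_mul, hx',
          QuotientGroup.mk_inv, QuotientGroup.mk_inv]
        group
      have := h g
      rw [centralChar_comp_mk, centralChar_comp_mk, hr, Nat.cast_one, one_mul, one_mul] at this
      exact this
    · have hconj : ∀ x : G ⧸ ⁅D, D⁆, IsConj y x →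
          x ∉ Subgroup.centralizer (Dbar : Set (G ⧸ ⁅D, D⁆)) := by
        intro x hx hxc
        obtain ⟨c, hc'⟩ := isConj_iff.1 hx
        apply hc
        have : y = c⁻¹ * x * c⁻¹⁻¹ := by rw [← hc']; group
        rw [this]
        exact (Subgroup.normal_centralizer (H := Dbar)).conj_mem x hxc c⁻¹
      have h1 := Cfsg.Agent.Lib.Helper78_CentralNil.memLocalIdeal_centralChar_of_disjoint hM Dbar
        hDbarp χ.2 y hconj
      have h2 := Cfsg.Agent.Lib.Helper78_CentralNil.memLocalIdeal_centralChar_of_disjoint hM Dbar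
        hDbarp ψ.2 y hconj
      exact memLocalIdeal_sub hMp h1 h2

end main

section main2

open Cfsg.Agent.Lib.Helper78_LocalRing
open scoped ComplexConjugate

variable {G : Type*} [Group G] [Finite G] (p : ℕ) [Fact p.Prime]

/-- an irreducible character whose values on a normal subgroup do not sum to zero is inflated
from the quotient. -/
theorem exists_deflation (Q : Subgroup G) [Q.Normal] [Fintype Q] (θ : IrrCharacter G)
    (h : ∑ n : Q, (θ : G → ℂ) (n : G) ≠ 0) :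
    ∃ χ : IrrCharacter (G ⧸ Q), (θ : G → ℂ) = (χ : G ⧸ Q → ℂ) ∘ QuotientGroup.mk := by
  obtain ⟨n, ρ, hρ, hχ⟩ := θ.2
  have := hρ
  rcases Cfsg.Agent.Lib.Helper16_Quot.invSubrep_eq_bot_or_top ρ Q with hbot | htop
  · exfalso
    apply h
    rw [← hχ]
    exact Cfsg.Agent.Lib.Helper16_Quot.sum_char_subgroup_of_bot ρ Q hbot
  · have := Cfsg.Agent.Lib.Helper16_Quot.isTrivial_of_invSubrep_eq_top ρ Q htop
    refine ⟨⟨(Representation.ofQuotient ρ Q).character, n, Representation.ofQuotient ρ Q,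
      Cfsg.Agent.Lib.Helper16_Quot.ofQuotient_irreducible ρ Q, rfl⟩, ?_⟩
    funext g
    rw [← hχ]
    exact (Cfsg.Agent.Lib.Helper16_Quot.ofQuotient_character ρ Q g).symm

theorem part_ii (M : Ideal Cfsg.AlgInt) (hM : Cfsg.IsPModular p M) (D : Subgroup G) [D.Normal]
    (hD : IsPGroup p D) (B : Set (Cfsg.IrrCharacter G)) (hB : Cfsg.IsPBlock M B) :
    ∃ χ : Cfsg.IrrCharacter (G ⧸ ⁅D, D⁆), ∃ θ ∈ B,
      (θ : G → ℂ) = (χ : G ⧸ ⁅D, D⁆ → ℂ) ∘ QuotientGroup.mk := by
  classical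
  have hp : p.Prime := Fact.out
  have hMp : M.IsPrime := isPrime_of_isPModular hM
  have := Fintype.ofFinite G
  have : Finite (IrrCharacter G) := Cfsg.Agent.Lib.Helper81_CharOrth.finite_irrCharacter
  have := Fintype.ofFinite (IrrCharacter G)
  have hQ : IsPGroup p (⁅D, D⁆ : Subgroup G) :=
    hD.to_le (Subgroup.commutator_le_left D D)
  suffices step1 : ∃ θ ∈ B, ∑ n : (⁅D, D⁆ : Subgroup G), (θ : G → ℂ) (n : G) ≠ 0 by
    obtain ⟨θ, hθB, hθ⟩ := step1
    obtain ⟨χ, hχ⟩ := exists_deflation ⁅D, D⁆ θ hθ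
    exact ⟨χ, θ, hθB, hχ⟩
  by_contra hcon
  push Not at hcon
  have hA : ∀ y : (⁅D, D⁆ : Subgroup G), y ≠ 1 →
      ∑ᶠ θ ∈ B, (θ : G → ℂ) 1 * conj ((θ : G → ℂ) (y : G)) = 0 := by
    intro y hy
    apply Cfsg.Agent.Lib.Helper77_WeakOrth.weak_orthogonality_block hM hB 1 (y : G)
    · rw [orderOf_one]; exact hp.one_lt.ne' ∘ Nat.dvd_one.1
    · obtain ⟨k, hk⟩ := (IsPGroup.iff_orderOf.1 hQ) y
      rw [Subgroup.orderOf_coe, hk]
      rcases k with _ | k
      · exfalso; apply hy; rw [pow_zero] at hk; exact orderOf_eq_one_iff.1 hk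
      · exact dvd_pow_self p (Nat.succ_ne_zero k)
  have hsum1 : ∑ y : (⁅D, D⁆ : Subgroup G),
      ∑ᶠ θ ∈ B, (θ : G → ℂ) 1 * conj ((θ : G → ℂ) (y : G)) =
      ∑ᶠ θ ∈ B, (θ : G → ℂ) 1 * conj ((θ : G → ℂ) 1) := by
    rw [Finset.sum_eq_single (1 : (⁅D, D⁆ : Subgroup G))]
    · rfl
    · intro y _ hy; exact hA y hy
    · intro h; exact absurd (Finset.mem_univ _) h
  have hsum2 : ∑ y : (⁅D, D⁆ : Subgroup G),
      ∑ᶠ θ ∈ B, (θ : G → ℂ) 1 * conj ((θ : G → ℂ) (y : G)) = 0 := by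
    simp_rw [finsum_mem_eq_toFinset_sum]
    rw [Finset.sum_comm]
    apply Finset.sum_eq_zero
    intro θ hθ
    rw [← Finset.mul_sum, ← map_sum, hcon θ (Set.mem_toFinset.1 hθ), map_zero, mul_zero]
  rw [hsum1, finsum_mem_eq_toFinset_sum] at hsum2
  obtain ⟨θ₀, hθ₀⟩ := isPBlock_nonempty hMp hB
  -- each term is a positive natural number
  have hterm : ∀ θ : IrrCharacter G, ∃ m : ℕ, 0 < m ∧
      (θ : G → ℂ) 1 * conj ((θ : G → ℂ) 1) = (m : ℂ) := by
    intro θ
    obtain ⟨n, hn, h1⟩ := Cfsg.Agent.Lib.Helper80_CharBasic.irr_apply_one θ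
    refine ⟨n * n, Nat.mul_pos hn hn, ?_⟩
    rw [h1]; simp
  choose m hm hmeq using hterm
  have hnat : ∑ θ ∈ B.toFinset, (θ : G → ℂ) 1 * conj ((θ : G → ℂ) 1) =
      ((∑ θ ∈ B.toFinset, m θ : ℕ) : ℂ) := by
    push_cast
    exact Finset.sum_congr rfl fun θ _ => hmeq θ
  rw [hnat, Nat.cast_eq_zero, Finset.sum_eq_zero_iff] at hsum2
  have := hsum2 θ₀ (Set.mem_toFinset.2 hθ₀)
  exact absurd this (hm θ₀).ne'

end main2

/-- Let D be a normal p-subgroup of the finite group G, let D′ be its commutator subgroup (normal in G), and fix a maximal ideal M of the algebraic integers containing p. Then (i) two irreducible characters of G ⧸ D′ lie in the same p-block if and only if their inflations to G do, and (ii) every p-block of G contains the inflation of some irreducible character of G ⧸ D′; so inflation induces a bijection between the p-blocks of G ⧸ D′ and the p-blocks of G. -/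
theorem result {G : Type*} [Group G] [Finite G] (p : ℕ) [Fact p.Prime] (M : Ideal Cfsg.AlgInt) (hM : Cfsg.IsPModular p M) (D : Subgroup G) [D.Normal] (hD : IsPGroup p D) : (∀ χ ψ : Cfsg.IrrCharacter (G ⧸ ⁅D, D⁆), Cfsg.SameBlock M (χ : G ⧸ ⁅D, D⁆ → ℂ) (ψ : G ⧸ ⁅D, D⁆ → ℂ) ↔ Cfsg.SameBlock M ((χ : G ⧸ ⁅D, D⁆ → ℂ) ∘ QuotientGroup.mk) ((ψ : G ⧸ ⁅D, D⁆ → ℂ) ∘ QuotientGroup.mk)) ∧ ∀ B : Set (Cfsg.IrrCharacter G), Cfsg.IsPBlock M B → ∃ χ : Cfsg.IrrCharacter (G ⧸ ⁅D, D⁆), ∃ θ ∈ B, (θ : G → ℂ) = (χ : G ⧸ ⁅D, D⁆ → ℂ) ∘ QuotientGroup.mk := by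
  exact ⟨fun χ ψ => part_i p M hM D hD χ ψ, fun B hB => part_ii p M hM D hD B hB⟩

end Cfsg.Agent.S4964
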