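import Mathlib
import Cfsg.Statements.S4965

set_option autoImplicit false
open Cfsg

namespace Cfsg.Agent.S4965

theorem comm_aux {X : Type*} [Group X] (V : Subgroup X) [V.Normal]
    (φ : X ⧸ V →* MulAut ↥V)
    (hφ : ∀ (x : X) (v : ↥V), ((φ (QuotientGroup.mk x) v : ↥V) : X) = x * v * x⁻¹)
    (x y x0 y0 : X) (hxy : x * y = y * x) (hc : x0 * y0 = y0 * x0)
    (h1 : (QuotientGroup.mk x0 : X ⧸ V) = QuotientGroup.mk x)
    (h2 : (QuotientGroup.mk y0 : X ⧸ V) = QuotientGroup.mk y)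
    (hu : x * x0⁻¹ ∈ V) (hw : y * y0⁻¹ ∈ V) :
    Commute (⟨⟨x * x0⁻¹, hu⟩, QuotientGroup.mk x⟩ : SemidirectProduct ↥V (X ⧸ V) φ)
      ⟨⟨y * y0⁻¹, hw⟩, QuotientGroup.mk y⟩ := by
  have hc'' : y0⁻¹ * x0⁻¹ = x0⁻¹ * y0⁻¹ := by
    rw [← mul_inv_rev, ← mul_inv_rev, hc]
  show _ * _ = _ * _
  ext
  · simp only [SemidirectProduct.mul_left]
    rw [← h1, ← h2]
    simp only [Subgroup.coe_mul, hφ]
    calc x * x0⁻¹ * (x0 * (y * y0⁻¹) * x0⁻¹) = x * y * (y0⁻¹ * x0⁻¹) := by group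
      _ = y * x * (x0⁻¹ * y0⁻¹) := by rw [hxy, hc'']
      _ = y * y0⁻¹ * (y0 * (x * x0⁻¹) * y0⁻¹) := by group
  · simp only [SemidirectProduct.mul_right]
    rw [← QuotientGroup.mk_mul, ← QuotientGroup.mk_mul, hxy]

/-- Commuting pairs of `X` inject into commuting pairs of the split extension. -/
theorem comm_card_le {X : Type*} [Group X] [Finite X] (V : Subgroup X) [V.Normal]
    (φ : X ⧸ V →* MulAut ↥V)
    (hφ : ∀ (x : X) (v : ↥V), ((φ (QuotientGroup.mk x) v : ↥V) : X) = x * v * x⁻¹) :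
    Nat.card {p : X × X // Commute p.1 p.2} ≤
      Nat.card {p : (SemidirectProduct ↥V (X ⧸ V) φ) × (SemidirectProduct ↥V (X ⧸ V) φ) //
        Commute p.1 p.2} := by
  classical
  have key : ∀ g h : X ⧸ V, ∃ b : X × X,
      (∃ p : X × X, Commute p.1 p.2 ∧ (QuotientGroup.mk p.1 : X ⧸ V) = g ∧
        (QuotientGroup.mk p.2 : X ⧸ V) = h) →
      (Commute b.1 b.2 ∧ (QuotientGroup.mk b.1 : X ⧸ V) = g ∧
        (QuotientGroup.mk b.2 : X ⧸ V) = h) := by
    intro g h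
    by_cases hex : ∃ p : X × X, Commute p.1 p.2 ∧ (QuotientGroup.mk p.1 : X ⧸ V) = g ∧
        (QuotientGroup.mk p.2 : X ⧸ V) = h
    · obtain ⟨p, hp⟩ := hex
      exact ⟨p, fun _ => hp⟩
    · exact ⟨(1, 1), fun h' => absurd h' hex⟩
  choose b hb using key
  have hb' : ∀ p : {p : X × X // Commute p.1 p.2},
      Commute (b (QuotientGroup.mk p.1.1) (QuotientGroup.mk p.1.2)).1
        (b (QuotientGroup.mk p.1.1) (QuotientGroup.mk p.1.2)).2 ∧
      (QuotientGroup.mk (b (QuotientGroup.mk p.1.1) (QuotientGroup.mk p.1.2)).1 : X ⧸ V) =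
        QuotientGroup.mk p.1.1 ∧
      (QuotientGroup.mk (b (QuotientGroup.mk p.1.1) (QuotientGroup.mk p.1.2)).2 : X ⧸ V) =
        QuotientGroup.mk p.1.2 :=
    fun p => hb _ _ ⟨p.1, p.2, rfl, rfl⟩
  have memV : ∀ x x0 : X, (QuotientGroup.mk x0 : X ⧸ V) = QuotientGroup.mk x → x * x0⁻¹ ∈ V := by
    intro x x0 h
    rw [← QuotientGroup.eq_one_iff, QuotientGroup.mk_mul, QuotientGroup.mk_inv, h, mul_inv_cancel]
  let f : {p : X × X // Commute p.1 p.2} →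
      {p : (SemidirectProduct ↥V (X ⧸ V) φ) × (SemidirectProduct ↥V (X ⧸ V) φ) //
        Commute p.1 p.2} := fun p =>
    ⟨(⟨⟨p.1.1 * (b (QuotientGroup.mk p.1.1) (QuotientGroup.mk p.1.2)).1⁻¹,
          memV _ _ (hb' p).2.1⟩, QuotientGroup.mk p.1.1⟩,
      ⟨⟨p.1.2 * (b (QuotientGroup.mk p.1.1) (QuotientGroup.mk p.1.2)).2⁻¹,
          memV _ _ (hb' p).2.2⟩, QuotientGroup.mk p.1.2⟩),
      comm_aux V φ hφ _ _ _ _ p.2 (hb' p).1 (hb' p).2.1 (hb' p).2.2 _ _⟩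
  have : Finite (SemidirectProduct ↥V (X ⧸ V) φ) :=
    Finite.of_equiv _ SemidirectProduct.equivProd.symm
  apply Nat.card_le_card_of_injective f
  intro p q hpq
  obtain ⟨⟨x, y⟩, hxy⟩ := p
  obtain ⟨⟨x', y'⟩, hxy'⟩ := q
  simp only [f, Subtype.mk.injEq, Prod.mk.injEq] at hpq
  obtain ⟨h1, h2⟩ := hpq
  have hg : (QuotientGroup.mk x : X ⧸ V) = QuotientGroup.mk x' := congrArg SemidirectProduct.right h1
  have hh : (QuotientGroup.mk y : X ⧸ V) = QuotientGroup.mk y' := congrArg SemidirectProduct.right h2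
  have hu := congrArg (fun z => ((SemidirectProduct.left z : ↥V) : X)) h1
  have hw := congrArg (fun z => ((SemidirectProduct.left z : ↥V) : X)) h2
  simp only at hu hw
  rw [hg, hh] at hu hw
  have e1 : x = x' := mul_right_cancel hu
  have e2 : y = y' := mul_right_cancel hw
  subst e1 e2
  rfl

theorem result {X : Type*} [Group X] [Finite X] (V : Subgroup X) [V.Normal] (hab : ∀ a ∈ V, ∀ b ∈ V, a * b = b * a) (φ : X ⧸ V →* MulAut ↥V) (hφ : ∀ (x : X) (v : ↥V), ((φ (QuotientGroup.mk x) v : ↥V) : X) = x * v * x⁻¹) : Nat.card (ConjClasses X) ≤ Nat.card (ConjClasses (SemidirectProduct ↥V (X ⧸ V) φ)) := by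
  have h1 := comm_card_le V φ hφ
  rw [card_comm_eq_card_conjClasses_mul_card, card_comm_eq_card_conjClasses_mul_card] at h1
  have hcard : Nat.card (SemidirectProduct ↥V (X ⧸ V) φ) = Nat.card X := by
    rw [SemidirectProduct.card, mul_comm]
    exact (Subgroup.card_eq_card_quotient_mul_card_subgroup V).symm
  rw [hcard] at h1
  exact Nat.le_of_mul_le_mul_right h1 Nat.card_pos

end Cfsg.Agent.S4965
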