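import Mathlib
import Cfsg.Statements.S4966

set_option autoImplicit false
open Cfsg

namespace Cfsg.Agent.S4966

open LinearMap (BilinForm)
open Filter

universe u v w

/-- The odd-characteristic case: pure linear algebra (Fitting decomposition for `1 - σ`,
`σ` the asymmetry of `B`). -/
theorem odd_case {F : Type*} [Field F] {G : Type*} [Group G] {V : Type*} [AddCommGroup V]
    [Module F V] [FiniteDimensional F V] (h2 : (2 : F) ≠ 0) (ρ : Representation F G V)
    (B : LinearMap.BilinForm F V) (hB : B.Nondegenerate)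
    (hBinv : ∀ g : G, ∀ x y : V, B (ρ g x) (ρ g y) = B x y) :
    ∃ U W : Submodule F V, IsCompl U W ∧ (∀ g : G, ∀ u ∈ U, ρ g u ∈ U) ∧
      (∀ g : G, ∀ w ∈ W, ρ g w ∈ W) ∧
      (∃ A : LinearMap.BilinForm F V, (∀ x : V, A x x = 0) ∧
        (∀ g : G, ∀ x ∈ U, ∀ y ∈ U, A (ρ g x) (ρ g y) = A x y) ∧
        (∀ x ∈ U, (∀ y ∈ U, A x y = 0) → x = 0)) ∧
      (∃ S : LinearMap.BilinForm F V, (∀ x y : V, S x y = S y x) ∧
        (∀ g : G, ∀ x ∈ W, ∀ y ∈ W, S (ρ g x) (ρ g y) = S x y) ∧
        (∀ x ∈ W, (∀ y ∈ W, S x y = 0) → x = 0)) := by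
  classical
  -- the asymmetry
  let σ : V ≃ₗ[F] V := (B.toDual hB).trans (B.flip.toDual hB.flip).symm
  have hσ : ∀ x y : V, B y (σ x) = B x y := by
    intro x y
    have h1 : B.flip.toDual hB.flip (σ x) = B.toDual hB x := by
      simp [σ]
    have := congrArg (fun f : Module.Dual F V => f y) h1
    simpa [LinearMap.BilinForm.toDual_def] using this
  have hiso : ∀ x y : V, B (σ x) (σ y) = B x y := by
    intro x y
    rw [hσ y (σ x), hσ x y]
  have hσsymm : ∀ x y : V, B (σ x) y = B x (σ.symm y) := by
    intro x y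
    have := hiso x (σ.symm y)
    rwa [LinearEquiv.apply_symm_apply] at this
  let s : Module.End F V := σ.toLinearMap
  let t : Module.End F V := σ.symm.toLinearMap
  have hst : s * t = 1 := by
    ext x; simp [s, t]
  have hts : t * s = 1 := by
    ext x; simp [s, t]
  let N : Module.End F V := 1 - s
  let N' : Module.End F V := 1 - t
  have hN' : N' = (-t) * N := by
    simp only [N, N', mul_sub, mul_one, neg_mul, hts]
    abel
  have hcomm : Commute (-t) N := by
    have : Commute t s := by
      show t * s = s * t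
      rw [hts, hst]
    exact ((Commute.one_right t).sub_right this).neg_left
  have hadj : ∀ x y : V, B (N x) y = B x (N' y) := by
    intro x y
    simp only [N, N', s, t, LinearMap.sub_apply, Module.End.one_apply, LinearEquiv.coe_coe,
      map_sub, hσsymm]
  have hadjk : ∀ (k : ℕ) (x y : V), B ((N ^ k) x) y = B x ((N' ^ k) y) := by
    intro k
    induction k with
    | zero => intro x y; simp
    | succ k ih =>
      intro x y
      rw [pow_succ, Module.End.mul_apply, ih, hadj, pow_succ', Module.End.mul_apply]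
  have hN'k : ∀ (k : ℕ) (w : V), (N ^ k) w = 0 → (N' ^ k) w = 0 := by
    intro k w hw
    rw [hN', hcomm.mul_pow, Module.End.mul_apply, hw, map_zero]
  -- commutation of σ with N^k
  have hsN : ∀ k : ℕ, Commute s (N ^ k) := by
    intro k
    have : Commute s N := (Commute.one_right s).sub_right (Commute.refl s)
    exact this.pow_right k
  -- facts 2a, 2b
  have fact2a : ∀ (k : ℕ) (u w : V), u ∈ LinearMap.range (N ^ k) → (N ^ k) w = 0 → B u w = 0 := by
    rintro k u w ⟨u', rfl⟩ hw
    rw [hadjk, hN'k k w hw, map_zero]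
  have fact2b : ∀ (k : ℕ) (u w : V), u ∈ LinearMap.range (N ^ k) → (N ^ k) w = 0 → B w u = 0 := by
    intro k u w hu hw
    rw [← hσ w u]
    apply fact2a k u (σ w) hu
    have := (hsN k).eq
    have h3 : (N ^ k) (s w) = s ((N ^ k) w) := by
      rw [← Module.End.mul_apply, ← this, Module.End.mul_apply]
    show (N ^ k) (s w) = 0
    rw [h3, hw, map_zero]
  -- Fitting
  obtain ⟨n, hn1, hcompl⟩ : ∃ n : ℕ, 1 ≤ n ∧
      IsCompl (LinearMap.ker (N ^ n)) (LinearMap.range (N ^ n)) :=
    ((eventually_ge_atTop 1).and (LinearMap.eventually_isCompl_ker_pow_range_pow N)).exists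
  -- G commutes with σ
  have hρinv : ∀ (g : G) (y z : V), B y (ρ g z) = B (ρ g⁻¹ y) z := by
    intro g y z
    have := hBinv g (ρ g⁻¹ y) z
    rw [← this, ← Module.End.mul_apply, ← map_mul, mul_inv_cancel, map_one, Module.End.one_apply]
  have hρσ : ∀ (g : G) (x : V), ρ g (σ x) = σ (ρ g x) := by
    intro g x
    apply eq_of_sub_eq_zero
    apply hB.2
    intro y
    rw [map_sub, hρinv, hσ, hσ, ← hBinv g, ← Module.End.mul_apply, ← map_mul, mul_inv_cancel,
      map_one, Module.End.one_apply, sub_self]
  have hρN : ∀ g : G, Commute (ρ g) N := by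
    intro g
    have : Commute (ρ g) s := by
      show ρ g * s = s * ρ g
      ext x
      exact hρσ g x
    exact (Commute.one_right _).sub_right this
  have hρNk : ∀ (g : G) (k : ℕ) (x : V), ρ g ((N ^ k) x) = (N ^ k) (ρ g x) := by
    intro g k x
    have := ((hρN g).pow_right k).eq
    rw [← Module.End.mul_apply, this, Module.End.mul_apply]
  have hkerle : LinearMap.ker N ≤ LinearMap.ker (N ^ n) := by
    intro x hx
    rw [LinearMap.mem_ker] at hx ⊢
    obtain ⟨m, rfl⟩ : ∃ m, n = m + 1 := ⟨n - 1, by omega⟩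
    rw [pow_succ, Module.End.mul_apply, hx, map_zero]
  refine ⟨LinearMap.range (N ^ n), LinearMap.ker (N ^ n), hcompl.symm, ?_, ?_, ?_, ?_⟩
  · rintro g u ⟨u', rfl⟩
    exact ⟨ρ g u', (hρNk g n u').symm⟩
  · intro g w hw
    rw [LinearMap.mem_ker] at hw ⊢
    rw [← hρNk, hw, map_zero]
  · refine ⟨B - B.flip, ?_, ?_, ?_⟩
    · intro x
      simp
    · intro g x _ y _
      simp [hBinv]
    · intro x hx hxy
      -- N x = 0
      have hNx : N x = 0 := by
        apply hB.2
        intro v
        have hNxU : N x ∈ LinearMap.range (N ^ n) := by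
          obtain ⟨x', rfl⟩ := hx
          refine ⟨N x', ?_⟩
          rw [← Module.End.mul_apply, ← pow_succ, pow_succ', Module.End.mul_apply]
        have hdecomp : v ∈ LinearMap.ker (N ^ n) ⊔ LinearMap.range (N ^ n) := by
          rw [hcompl.sup_eq_top]; trivial
        obtain ⟨w, hw, u, hu, rfl⟩ := Submodule.mem_sup.1 hdecomp
        rw [LinearMap.map_add₂, fact2b n (N x) w hNxU (LinearMap.mem_ker.1 hw), zero_add]
        have := hxy u hu
        simp only [LinearMap.sub_apply, LinearMap.BilinForm.flip_apply] at this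
        have e : B u (N x) = -(B x u - B u x) := by
          show B u ((1 - s) x) = _
          simp only [LinearMap.sub_apply, Module.End.one_apply, map_sub, s, LinearEquiv.coe_coe, hσ]
          ring
        rw [e, this, neg_zero]
      have hxW : x ∈ LinearMap.ker (N ^ n) := hkerle (LinearMap.mem_ker.2 hNx)
      have := hcompl.inf_eq_bot
      have hx0 : x ∈ LinearMap.ker (N ^ n) ⊓ LinearMap.range (N ^ n) := ⟨hxW, hx⟩
      rw [this] at hx0
      exact (Submodule.mem_bot F).1 hx0
  · refine ⟨B + B.flip, ?_, ?_, ?_⟩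
    · intro x y
      simp [add_comm]
    · intro g x _ y _
      simp [hBinv]
    · intro x hx hxy
      have hx' : (N ^ n) x = 0 := LinearMap.mem_ker.1 hx
      -- (1 + σ) x = 0
      have h1 : x + σ x = 0 := by
        apply hB.2
        intro v
        have hW : (N ^ n) (x + σ x) = 0 := by
          rw [map_add, hx', zero_add]
          have := (hsN n).eq
          show (N ^ n) (s x) = 0
          rw [← Module.End.mul_apply, ← this, Module.End.mul_apply, hx', map_zero]
        have hdecomp : v ∈ LinearMap.ker (N ^ n) ⊔ LinearMap.range (N ^ n) := by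
          rw [hcompl.sup_eq_top]; trivial
        obtain ⟨w, hw, u, hu, rfl⟩ := Submodule.mem_sup.1 hdecomp
        have e1 : B u (x + σ x) = 0 := fact2a n u _ hu hW
        have e2 : B w (x + σ x) = 0 := by
          have := hxy w hw
          simp only [LinearMap.add_apply, LinearMap.BilinForm.flip_apply] at this
          rw [map_add, hσ, add_comm]
          exact this
        rw [LinearMap.map_add₂, e1, e2, add_zero]
      have h3 : N x = (2 : F) • x := by
        show (1 - s) x = _
        simp only [LinearMap.sub_apply, Module.End.one_apply, s, LinearEquiv.coe_coe]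
        have : σ x = -x := by
          rw [eq_neg_iff_add_eq_zero, add_comm]; exact h1
        rw [this, two_smul]; abel
      have h4 : ∀ k : ℕ, (N ^ k) x = ((2 : F) ^ k) • x := by
        intro k
        induction k with
        | zero => simp
        | succ k ih =>
          rw [pow_succ, Module.End.mul_apply, h3, map_smul, ih, smul_smul, pow_succ, mul_comm]
      rw [h4 n] at hx'
      exact (smul_eq_zero.1 hx').resolve_left (pow_ne_zero n h2)

/-- Maschke: an invariant subspace has an invariant complement. -/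
theorem exists_inv_compl {F : Type*} [Field F] {G : Type*} [Group G] [Finite G]
    [NeZero (Nat.card G : F)] {V : Type*} [AddCommGroup V] [Module F V]
    (ρ : Representation F G V) (P : Submodule F V) (hP : ∀ g : G, ∀ v ∈ P, ρ g v ∈ P) :
    ∃ Q : Submodule F V, (∀ g : G, ∀ v ∈ Q, ρ g v ∈ Q) ∧ IsCompl P Q := by
  obtain ⟨Q', hQ'⟩ := exists_isCompl (⟨P, fun g v hv => hP g v hv⟩ : Subrepresentation ρ)
  refine ⟨Q'.toSubmodule, fun g v hv => Q'.apply_mem_toSubmodule g hv, ?_⟩
  have h1 := congrArg Subrepresentation.toSubmodule hQ'.inf_eq_bot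
  have h2 := congrArg Subrepresentation.toSubmodule hQ'.sup_eq_top
  rw [Subrepresentation.toSubmodule_inf] at h1
  rw [Subrepresentation.toSubmodule_sup] at h2
  exact IsCompl.of_eq h1 h2

/-- Relative version. -/
theorem exists_inv_compl_rel {F : Type*} [Field F] {G : Type*} [Group G] [Finite G]
    [NeZero (Nat.card G : F)] {V : Type*} [AddCommGroup V] [Module F V]
    (ρ : Representation F G V) (P Y : Submodule F V) (hPY : P ≤ Y)
    (hP : ∀ g : G, ∀ v ∈ P, ρ g v ∈ P) (hY : ∀ g : G, ∀ v ∈ Y, ρ g v ∈ Y) :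
    ∃ Q : Submodule F V, Q ≤ Y ∧ (∀ g : G, ∀ v ∈ Q, ρ g v ∈ Q) ∧ P ⊓ Q = ⊥ ∧ P ⊔ Q = Y := by
  obtain ⟨Q', hQ'inv, hQ'⟩ := exists_inv_compl ρ P hP
  refine ⟨Q' ⊓ Y, inf_le_right, fun g v hv => ⟨hQ'inv g v hv.1, hY g v hv.2⟩, ?_, ?_⟩
  · rw [← inf_assoc, hQ'.inf_eq_bot, bot_inf_eq]
  · rw [← sup_inf_assoc_of_le Q' hPY, hQ'.sup_eq_top, top_inf_eq]

/-- Projections along invariant complements commute with the map. -/
theorem proj_comm {F : Type*} [Field F] {V : Type*} [AddCommGroup V] [Module F V]
    {P Q : Submodule F V} (h : IsCompl P Q) (T : V →ₗ[F] V) (hTP : ∀ v ∈ P, T v ∈ P)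
    (hTQ : ∀ v ∈ Q, T v ∈ Q) (x : V) :
    P.projection Q h (T x) = T (P.projection Q h x) := by
  have hx := Submodule.projection_add_projection_eq_self h x
  conv_lhs => rw [← hx, map_add, map_add]
  rw [Submodule.projection_apply_of_mem_left h (hTP _ (Submodule.projection_apply_mem h x)),
    Submodule.projection_apply_of_mem_right h (hTQ _ (Submodule.projection_apply_mem h.symm x)),
    add_zero]

/-- Fong's lemma, general semisimple form: in characteristic 2, for a group of odd order, a
self-dual module without nonzero fixed vectors carries an invariant nondegenerate alternating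
form. -/
theorem fong {F : Type u} [Field F] [CharP F 2] {G : Type v} [Group G] [Finite G]
    (hodd : Odd (Nat.card G)) :
    ∀ (n : ℕ) (V : Type w) [AddCommGroup V] [Module F V] [FiniteDimensional F V]
      (ρ : Representation F G V) (B : LinearMap.BilinForm F V), Module.finrank F V = n →
      B.Nondegenerate → (∀ (g : G) (x y : V), B (ρ g x) (ρ g y) = B x y) →
      (∀ v : V, (∀ g : G, ρ g v = v) → v = 0) →
      ∃ A : LinearMap.BilinForm F V, (∀ x : V, (∀ y : V, A x y = 0) → x = 0) ∧
        (∀ x : V, A x x = 0) ∧ (∀ (g : G) (x y : V), A (ρ g x) (ρ g y) = A x y) := by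
  classical
  have hcard : (Nat.card G : F) = 1 := by
    obtain ⟨k, hk⟩ := hodd
    rw [hk]
    push_cast
    rw [CharTwo.two_eq_zero, zero_mul, zero_add]
  have : NeZero (Nat.card G : F) := ⟨by rw [hcard]; exact one_ne_zero⟩
  have : Fintype G := Fintype.ofFinite G
  intro n
  induction n using Nat.strong_induction_on with
  | _ n ih =>
  intro V _ _ _ ρ B hn hB hBinv hfix
  have hρinv : ∀ (g : G) (y z : V), B y (ρ g z) = B (ρ g⁻¹ y) z := by
    intro g y z
    have := hBinv g (ρ g⁻¹ y) z
    rw [← this, ← Module.End.mul_apply, ← map_mul, mul_inv_cancel, map_one, Module.End.one_apply]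
  have hρinv' : ∀ (g : G) (y z : V), B (ρ g z) y = B z (ρ g⁻¹ y) := by
    intro g y z
    have := hBinv g z (ρ g⁻¹ y)
    rw [← this, ← Module.End.mul_apply, ← map_mul, mul_inv_cancel, map_one, Module.End.one_apply]
  -- the symmetric radical
  let K : Submodule F V := LinearMap.ker (B - B.flip)
  have hK : ∀ x : V, x ∈ K ↔ ∀ y : V, B x y = B y x := by
    intro x
    simp only [K, LinearMap.mem_ker]
    constructor
    · intro h y
      have := congrArg (fun f : V →ₗ[F] F => f y) h
      simpa [sub_eq_zero] using this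
    · intro h
      ext y
      simp [h y]
  have hKinv : ∀ g : G, ∀ x ∈ K, ρ g x ∈ K := by
    intro g x hx
    rw [hK] at hx ⊢
    intro y
    rw [hρinv', hx, ← hρinv]
  -- q is additive on K and vanishes
  have hqadd : ∀ a ∈ K, ∀ b : V, B (a + b) (a + b) = B a a + B b b := by
    intro a ha b
    rw [hK] at ha
    simp only [map_add, LinearMap.add_apply]
    rw [ha b]
    have : B b a + B b a = 0 := CharTwo.add_self_eq_zero _
    linear_combination this
  have hqsum : ∀ (s : Finset G) (f : G → V), (∀ g ∈ s, f g ∈ K) →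
      B (∑ g ∈ s, f g) (∑ g ∈ s, f g) = ∑ g ∈ s, B (f g) (f g) := by
    intro s f
    induction s using Finset.induction_on with
    | empty => intro _; simp
    | insert a s ha ih' =>
      intro hf
      rw [Finset.sum_insert ha, Finset.sum_insert ha,
        hqadd _ (hf a (Finset.mem_insert_self a s)),
        ih' (fun g hg => hf g (Finset.mem_insert_of_mem hg))]
  have claim1 : ∀ x ∈ K, B x x = 0 := by
    intro x hx
    have hfixed : ∀ h : G, ρ h (∑ g : G, ρ g x) = ∑ g : G, ρ g x := by
      intro h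
      rw [map_sum]
      refine Fintype.sum_equiv (Equiv.mulLeft h) _ _ ?_
      intro g
      simp [map_mul]
    have h0 : ∑ g : G, ρ g x = 0 := hfix _ hfixed
    have h1 := hqsum Finset.univ (fun g => ρ g x) (fun g _ => hKinv g x hx)
    rw [h0] at h1
    simp only [map_zero, hBinv, Finset.sum_const, Finset.card_univ,
      nsmul_eq_mul] at h1
    rw [← Nat.card_eq_fintype_card, hcard, one_mul] at h1
    exact h1.symm
  -- the isotropic part of K
  let K₀ : Submodule F V :=
    { carrier := {x | x ∈ K ∧ ∀ k ∈ K, B x k = 0}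
      add_mem' := by
        rintro a b ⟨ha, ha'⟩ ⟨hb, hb'⟩
        exact ⟨K.add_mem ha hb, fun k hk => by rw [map_add, LinearMap.add_apply, ha' k hk,
          hb' k hk, add_zero]⟩
      zero_mem' := ⟨K.zero_mem, fun k _ => by simp⟩
      smul_mem' := by
        rintro c a ⟨ha, ha'⟩
        exact ⟨K.smul_mem c ha, fun k hk => by rw [map_smul, LinearMap.smul_apply, ha' k hk,
          smul_zero]⟩ }
  have hK₀ : ∀ x : V, x ∈ K₀ ↔ (x ∈ K ∧ ∀ k ∈ K, B x k = 0) := fun x => Iff.rfl
  have hK₀K : K₀ ≤ K := fun x hx => hx.1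
  have hK₀inv : ∀ g : G, ∀ x ∈ K₀, ρ g x ∈ K₀ := by
    rintro g x ⟨hx, hx'⟩
    refine ⟨hKinv g x hx, fun k hk => ?_⟩
    rw [hρinv']
    exact hx' _ (hKinv g⁻¹ k hk)
  by_cases hK₀bot : K₀ = ⊥
  · -- Case K₀ = ⊥ : explicit form
    let Y' : Submodule F V := B.orthogonal K
    have hY' : ∀ y : V, y ∈ Y' ↔ ∀ k ∈ K, B k y = 0 := fun y => by
      simp only [Y', LinearMap.BilinForm.mem_orthogonal_iff]
    have hdisj : K ⊓ Y' = ⊥ := by
      rw [eq_bot_iff]
      rintro x ⟨hxK, hxY⟩
      have : x ∈ K₀ := ⟨hxK, fun k hk => by rw [(hK x).1 hxK k]; exact (hY' x).1 hxY k hk⟩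
      rw [hK₀bot] at this
      exact this
    have hBK : (B.restrict K).Nondegenerate := by
      apply LinearMap.BilinForm.Nondegenerate.ofSeparatingLeft
      intro x hx
      have : (x : V) ∈ K₀ := ⟨x.2, fun k hk => hx ⟨k, hk⟩⟩
      rw [hK₀bot] at this
      exact Subtype.ext ((Submodule.mem_bot F).1 this)
    have hsup : K ⊔ Y' = ⊤ := by
      rw [eq_top_iff]
      intro v _
      let f : Module.Dual F ↥K := (B.flip v).comp K.subtype
      let k₀ : ↥K := ((B.restrict K).toDual hBK).symm f
      have hk₀ : ∀ k : ↥K, B k₀ k = B k v := by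
        intro k
        have := LinearMap.BilinForm.apply_toDual_symm_apply (B := B.restrict K) (hB := hBK) f k
        simpa [f] using this
      refine Submodule.mem_sup.2 ⟨k₀, k₀.2, v - k₀, ?_, by abel⟩
      rw [hY']
      intro k hk
      rw [map_sub, ← hk₀ ⟨k, hk⟩, (hK k₀).1 k₀.2 k, sub_self]
    have hcompl : IsCompl K Y' := IsCompl.of_eq hdisj hsup
    have hY'inv : ∀ g : G, ∀ y ∈ Y', ρ g y ∈ Y' := by
      intro g y hy
      rw [hY'] at hy ⊢
      intro k hk
      rw [hρinv]
      exact hy _ (hKinv g⁻¹ k hk)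
    let pK := K.projection Y' hcompl
    let p' := Y'.projection K hcompl.symm
    have hpKmem : ∀ x, pK x ∈ K := fun x => Submodule.projection_apply_mem hcompl x
    have hp'mem : ∀ x, p' x ∈ Y' := fun x => Submodule.projection_apply_mem hcompl.symm x
    have hsum : ∀ x, pK x + p' x = x := fun x => Submodule.projection_add_projection_eq_self hcompl x
    refine ⟨B.comp pK pK + (B + B.flip).comp p' p', ?_, ?_, ?_⟩
    · intro x hx
      have hA : ∀ y, B (pK x) (pK y) + (B (p' x) (p' y) + B (p' y) (p' x)) = 0 := by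
        intro y
        have := hx y
        simpa using this
      -- test against K
      have h1 : pK x = 0 := by
        have : pK x ∈ K₀ := by
          refine ⟨hpKmem x, fun k hk => ?_⟩
          have := hA k
          rw [show pK k = k from Submodule.projection_apply_of_mem_left hcompl hk,
            show p' k = 0 from Submodule.projection_apply_of_mem_right hcompl.symm hk] at this
          simpa using this
        rw [hK₀bot] at this
        exact (Submodule.mem_bot F).1 this
      have h2 : p' x = 0 := by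
        have hz : p' x ∈ K := by
          rw [hK]
          intro v
          rw [← hsum v]
          have e1 : B (p' x) (pK v) = B (pK v) (p' x) := ((hK _).1 (hpKmem v) _).symm
          have e2 : B (p' x) (p' v) = B (p' v) (p' x) := by
            have := hA (p' v)
            rw [show pK (p' v) = 0 from
                Submodule.projection_apply_of_mem_right hcompl (hp'mem v),
              show p' (p' v) = p' v from
                Submodule.projection_apply_of_mem_left hcompl.symm (hp'mem v)] at this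
            simp only [map_zero, zero_add] at this
            have h3 : B (p' v) (p' x) + B (p' v) (p' x) = 0 := CharTwo.add_self_eq_zero _
            linear_combination this - h3
          simp only [map_add, LinearMap.add_apply, e1, e2]
        have : p' x ∈ K ⊓ Y' := ⟨hz, hp'mem x⟩
        rw [hdisj] at this
        exact (Submodule.mem_bot F).1 this
      rw [← hsum x, h1, h2, add_zero]
    · intro x
      simp only [LinearMap.add_apply, LinearMap.BilinForm.comp_apply,
        LinearMap.BilinForm.flip_apply]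
      rw [claim1 _ (hpKmem x), zero_add]
      exact CharTwo.add_self_eq_zero _
    · intro g x y
      have e1 : ∀ z, pK (ρ g z) = ρ g (pK z) := fun z =>
        proj_comm hcompl (ρ g) (hKinv g) (hY'inv g) z
      have e2 : ∀ z, p' (ρ g z) = ρ g (p' z) := fun z =>
        proj_comm hcompl.symm (ρ g) (hY'inv g) (hKinv g) z
      simp only [LinearMap.add_apply, LinearMap.BilinForm.comp_apply,
        LinearMap.BilinForm.flip_apply, e1, e2, hBinv]
  · -- Case K₀ ≠ ⊥ : split off a hyperbolic part and recurse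
    let Y₁ : Submodule F V := B.orthogonal K₀
    have hY₁ : ∀ y : V, y ∈ Y₁ ↔ ∀ x ∈ K₀, B x y = 0 := fun y => by
      simp only [Y₁, LinearMap.BilinForm.mem_orthogonal_iff]
    have hK₀Y₁ : K₀ ≤ Y₁ := fun x hx => (hY₁ x).2 (fun x' hx' => hx'.2 x hx.1)
    have hY₁inv : ∀ g : G, ∀ y ∈ Y₁, ρ g y ∈ Y₁ := by
      intro g y hy
      rw [hY₁] at hy ⊢
      intro k hk
      rw [hρinv]
      exact hy _ (hK₀inv g⁻¹ k hk)
    obtain ⟨Y', hY'le, hY'inv, hdisj', hsup'⟩ :=
      exists_inv_compl_rel ρ K₀ Y₁ hK₀Y₁ hK₀inv hY₁inv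
    obtain ⟨Z, -, hZinv, hdisjZ, hsupZ⟩ :=
      exists_inv_compl_rel ρ Y₁ ⊤ le_top hY₁inv (fun _ _ _ => trivial)
    have hsupinv : ∀ P Q : Submodule F V, (∀ g : G, ∀ v ∈ P, ρ g v ∈ P) →
        (∀ g : G, ∀ v ∈ Q, ρ g v ∈ Q) → ∀ g : G, ∀ v ∈ P ⊔ Q, ρ g v ∈ P ⊔ Q := by
      intro P Q hP hQ g v hv
      obtain ⟨a, ha, b, hb, rfl⟩ := Submodule.mem_sup.1 hv
      rw [map_add]
      exact Submodule.add_mem_sup (hP g a ha) (hQ g b hb)
    have dec3 : ∀ v : V, ∃ k ∈ K₀, ∃ y ∈ Y', ∃ z ∈ Z, v = k + y + z := by
      intro v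
      have hv : v ∈ Y₁ ⊔ Z := by rw [hsupZ]; trivial
      obtain ⟨a, ha, z, hz, rfl⟩ := Submodule.mem_sup.1 hv
      rw [← hsup'] at ha
      obtain ⟨k, hk, y, hy, rfl⟩ := Submodule.mem_sup.1 ha
      exact ⟨k, hk, y, hy, z, hz, rfl⟩
    have zero3 : ∀ k ∈ K₀, ∀ y ∈ Y', ∀ z ∈ Z, k + y + z = 0 → k = 0 ∧ y = 0 ∧ z = 0 := by
      intro k hk y hy z hz h
      have hz0 : z = 0 := by
        have : z ∈ Y₁ ⊓ Z := by
          refine ⟨?_, hz⟩
          have : z = -(k + y) := by rw [eq_neg_iff_add_eq_zero, add_comm]; exact h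
          rw [this]
          exact Y₁.neg_mem (Y₁.add_mem (hK₀Y₁ hk) (hY'le hy))
        rw [hdisjZ] at this
        exact (Submodule.mem_bot F).1 this
      rw [hz0, add_zero] at h
      have hy0 : y = 0 := by
        have : y ∈ K₀ ⊓ Y' := by
          refine ⟨?_, hy⟩
          have : y = -k := by rw [eq_neg_iff_add_eq_zero, add_comm]; exact h
          rw [this]
          exact K₀.neg_mem hk
        rw [hdisj'] at this
        exact (Submodule.mem_bot F).1 this
      rw [hy0, add_zero] at h
      exact ⟨h, hy0, hz0⟩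
    have hc1 : IsCompl Y' (K₀ ⊔ Z) := by
      apply IsCompl.of_eq
      · rw [eq_bot_iff]
        rintro x ⟨hxY, hxKZ⟩
        obtain ⟨k, hk, z, hz, rfl⟩ := Submodule.mem_sup.1 hxKZ
        have := zero3 k hk (-(k + z)) (Y'.neg_mem hxY) z hz (by abel)
        rw [this.1, this.2.2, add_zero]
        exact Submodule.zero_mem _
      · rw [eq_top_iff]
        intro v _
        obtain ⟨k, hk, y, hy, z, hz, rfl⟩ := dec3 v
        have : k + y + z = y + (k + z) := by abel
        rw [this]
        exact Submodule.add_mem_sup hy (Submodule.add_mem_sup hk hz)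
    have hc2 : IsCompl K₀ (Y' ⊔ Z) := by
      apply IsCompl.of_eq
      · rw [eq_bot_iff]
        rintro x ⟨hxK, hxYZ⟩
        obtain ⟨y, hy, z, hz, rfl⟩ := Submodule.mem_sup.1 hxYZ
        have := zero3 (-(y + z)) (K₀.neg_mem hxK) y hy z hz (by abel)
        rw [this.2.1, this.2.2, add_zero]
        exact Submodule.zero_mem _
      · rw [eq_top_iff]
        intro v _
        obtain ⟨k, hk, y, hy, z, hz, rfl⟩ := dec3 v
        rw [add_assoc]
        exact Submodule.add_mem_sup hk (Submodule.add_mem_sup hy hz)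
    -- the pairing K₀ × Z
    let Φ : ↥K₀ →ₗ[F] Module.Dual F ↥Z :=
      Z.subtype.dualMap ∘ₗ (B : V →ₗ[F] Module.Dual F V) ∘ₗ K₀.subtype
    let Ψ : ↥Z →ₗ[F] Module.Dual F ↥K₀ :=
      K₀.subtype.dualMap ∘ₗ (B.flip : V →ₗ[F] Module.Dual F V) ∘ₗ Z.subtype
    have hΦ : ∀ (x : ↥K₀) (z : ↥Z), Φ x z = B x z := fun x z => rfl
    have hΨ : ∀ (z : ↥Z) (x : ↥K₀), Ψ z x = B x z := fun z x => rfl
    have hΦinj : Function.Injective Φ := by
      rw [← LinearMap.ker_eq_bot, LinearMap.ker_eq_bot']
      intro x hx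
      apply Subtype.ext
      apply hB.1
      intro v
      obtain ⟨k, hk, y, hy, z, hz, rfl⟩ := dec3 v
      have e1 : B x k = 0 := x.2.2 k (hK₀K hk)
      have e2 : B x y = 0 := (hY₁ y).1 (hY'le hy) x x.2
      have e3 : B x z = 0 := by
        have := congrArg (fun f : Module.Dual F ↥Z => f ⟨z, hz⟩) hx
        simpa [hΦ] using this
      simp only [map_add, e1, e2, e3, add_zero]
    have hΨinj : Function.Injective Ψ := by
      rw [← LinearMap.ker_eq_bot, LinearMap.ker_eq_bot']
      intro z hz
      apply Subtype.ext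
      have : (z : V) ∈ Y₁ ⊓ Z := by
        refine ⟨(hY₁ _).2 (fun x hx => ?_), z.2⟩
        have := congrArg (fun f : Module.Dual F ↥K₀ => f ⟨x, hx⟩) hz
        simpa [hΨ] using this
      rw [hdisjZ] at this
      exact (Submodule.mem_bot F).1 this
    have hdim : Module.finrank F ↥K₀ = Module.finrank F (Module.Dual F ↥Z) := by
      apply le_antisymm
      · exact LinearMap.finrank_le_finrank_of_injective hΦinj
      · have := LinearMap.finrank_le_finrank_of_injective hΨinj
        rwa [Subspace.dual_finrank_eq, ← Subspace.dual_finrank_eq (K := F) (V := ↥Z)] at this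
    have hΦsurj : Function.Surjective Φ :=
      (LinearMap.injective_iff_surjective_of_finrank_eq_finrank hdim).1 hΦinj
    -- the restricted form on Y' is nondegenerate
    have hBY' : (B.restrict Y').Nondegenerate := by
      apply LinearMap.BilinForm.Nondegenerate.ofSeparatingLeft
      intro y' hy'
      obtain ⟨x, hx⟩ := hΦsurj ((B (y' : V)).comp Z.subtype)
      have hxz : ∀ z ∈ Z, B x z = B y' z := by
        intro z hz
        have := congrArg (fun f : Module.Dual F ↥Z => f ⟨z, hz⟩) hx
        simpa [hΦ] using this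
      have hzero : (y' : V) - x = 0 := by
        apply hB.1
        intro v
        obtain ⟨k, hk, y, hy, z, hz, rfl⟩ := dec3 v
        have e1 : B (y' : V) k = 0 := by
          rw [← (hK k).1 (hK₀K hk) y']
          exact (hY₁ _).1 (hY'le y'.2) k hk
        have e2 : B (x : V) k = 0 := x.2.2 k (hK₀K hk)
        have e3 : B (y' : V) y = 0 := hy' ⟨y, hy⟩
        have e4 : B (x : V) y = 0 := (hY₁ y).1 (hY'le hy) x x.2
        simp only [map_sub, map_add, LinearMap.sub_apply, e1, e2, e3, e4, hxz z hz, sub_self,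
          add_zero]
      have : (y' : V) ∈ K₀ ⊓ Y' := by
        refine ⟨?_, y'.2⟩
        rw [sub_eq_zero] at hzero
        rw [hzero]
        exact x.2
      rw [hdisj'] at this
      exact Subtype.ext ((Submodule.mem_bot F).1 this)
    -- dimension drops
    have hlt : Module.finrank F ↥Y' < n := by
      have h1 := Submodule.finrank_add_eq_of_isCompl hc1
      have h2 : 0 < Module.finrank F ↥(K₀ ⊔ Z) := by
        rw [Module.finrank_pos_iff_exists_ne_zero]
        obtain ⟨x, hx, hx0⟩ := Submodule.exists_mem_ne_zero_of_ne_bot hK₀bot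
        exact ⟨⟨x, Submodule.mem_sup_left hx⟩, fun h => hx0 (congrArg Subtype.val h)⟩
      omega
    -- the restricted representation
    let ρ' : Representation F G ↥Y' :=
      (⟨Y', fun g v hv => hY'inv g v hv⟩ : Subrepresentation ρ).toRepresentation
    have hρ' : ∀ (g : G) (y : ↥Y'), ((ρ' g y : ↥Y') : V) = ρ g y := fun g y => rfl
    obtain ⟨A', hA'nd, hA'alt, hA'inv⟩ := ih (Module.finrank F ↥Y') hlt ↥Y' ρ' (B.restrict Y') rfl
      hBY' (fun g x y => by
        show B ((ρ' g x : ↥Y') : V) ((ρ' g y : ↥Y') : V) = B (x : V) (y : V)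
        rw [hρ', hρ', hBinv])
      (fun v hv => by
        apply Subtype.ext
        apply hfix
        intro g
        have := congrArg Subtype.val (hv g)
        rwa [hρ'] at this)
    let π : V →ₗ[F] ↥Y' := Y'.projectionOnto (K₀ ⊔ Z) hc1
    let p₀ : V →ₗ[F] V := K₀.projection (Y' ⊔ Z) hc2
    have hπ : ∀ k ∈ K₀, ∀ y ∈ Y', ∀ z ∈ Z, ((π (k + y + z) : ↥Y') : V) = y := by
      intro k hk y hy z hz
      have : k + y + z = y + (k + z) := by abel
      rw [this, map_add, Submodule.projectionOnto_apply_of_mem_left hc1 hy,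
        Submodule.projectionOnto_apply_of_mem_right hc1 (Submodule.add_mem_sup hk hz)]
      simp
    have hp₀ : ∀ k ∈ K₀, ∀ y ∈ Y', ∀ z ∈ Z, p₀ (k + y + z) = k := by
      intro k hk y hy z hz
      rw [add_assoc, map_add, Submodule.projection_apply_of_mem_left hc2 hk,
        Submodule.projection_apply_of_mem_right hc2 (Submodule.add_mem_sup hy hz), add_zero]
    refine ⟨A'.comp π π + (B.comp p₀ LinearMap.id + (B.comp p₀ LinearMap.id).flip), ?_, ?_, ?_⟩
    · intro x hx
      have hA : ∀ y, A' (π x) (π y) + (B (p₀ x) y + B (p₀ y) x) = 0 := by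
        intro y
        have := hx y
        simpa using this
      obtain ⟨k₁, hk₁, y₁, hy₁, z₁, hz₁, rfl⟩ := dec3 x
      have hπx : π (k₁ + y₁ + z₁) = ⟨y₁, hy₁⟩ := Subtype.ext (hπ k₁ hk₁ y₁ hy₁ z₁ hz₁)
      rw [hπx, hp₀ k₁ hk₁ y₁ hy₁ z₁ hz₁] at hA
      -- z₁ = 0
      have hz0 : z₁ = 0 := by
        have : z₁ ∈ Y₁ ⊓ Z := by
          refine ⟨(hY₁ _).2 (fun k hk => ?_), hz₁⟩
          have h1 := hA k
          have e0 : π k = 0 := by
            have := hπ k hk 0 Y'.zero_mem 0 Z.zero_mem
            rw [add_zero, add_zero] at this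
            exact Subtype.ext this
          have e1 : p₀ k = k := by
            have := hp₀ k hk 0 Y'.zero_mem 0 Z.zero_mem
            rwa [add_zero, add_zero] at this
          rw [e0, e1, map_zero, zero_add, hk₁.2 k (hK₀K hk), zero_add] at h1
          have e2 : B k k₁ = 0 := hk.2 k₁ (hK₀K hk₁)
          have e3 : B k y₁ = 0 := (hY₁ y₁).1 (hY'le hy₁) k hk
          simpa [map_add, e2, e3] using h1
        rw [hdisjZ] at this
        exact (Submodule.mem_bot F).1 this
      -- k₁ = 0
      have hk0 : k₁ = 0 := by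
        apply hB.1
        intro v
        obtain ⟨k, hk, y, hy, z, hz, rfl⟩ := dec3 v
        have e1 : B k₁ k = 0 := hk₁.2 k (hK₀K hk)
        have e2 : B k₁ y = 0 := (hY₁ y).1 (hY'le hy) k₁ hk₁
        have e3 : B k₁ z = 0 := by
          have h1 := hA z
          have e0 : π z = 0 := by
            have := hπ 0 K₀.zero_mem 0 Y'.zero_mem z hz
            rw [zero_add, zero_add] at this
            exact Subtype.ext this
          have e1 : p₀ z = 0 := by
            have := hp₀ 0 K₀.zero_mem 0 Y'.zero_mem z hz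
            rwa [zero_add, zero_add] at this
          rw [e0, e1, map_zero, zero_add] at h1
          simpa using h1
        simp only [map_add, e1, e2, e3, add_zero]
      -- y₁ = 0
      have hy0 : y₁ = 0 := by
        have : (⟨y₁, hy₁⟩ : ↥Y') = 0 := by
          apply hA'nd
          intro y
          have h1 := hA y
          have e0 : π y = y := by
            have := hπ 0 K₀.zero_mem y y.2 0 Z.zero_mem
            rw [zero_add, add_zero] at this
            exact Subtype.ext this
          have e1 : p₀ (y : V) = 0 := by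
            have := hp₀ 0 K₀.zero_mem y y.2 0 Z.zero_mem
            rwa [zero_add, add_zero] at this
          rw [e0, e1, hk0] at h1
          simpa using h1
        exact congrArg Subtype.val this
      rw [hz0, hk0, hy0]
      simp
    · intro x
      simp only [LinearMap.add_apply, LinearMap.BilinForm.comp_apply,
        LinearMap.BilinForm.flip_apply, LinearMap.id_apply, hA'alt, zero_add]
      exact CharTwo.add_self_eq_zero _
    · intro g x y
      have e1 : ∀ z, p₀ (ρ g z) = ρ g (p₀ z) := fun z =>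
        proj_comm hc2 (ρ g) (hK₀inv g) (hsupinv Y' Z hY'inv hZinv g) z
      have e2 : ∀ z, π (ρ g z) = ρ' g (π z) := by
        intro z
        apply Subtype.ext
        rw [hρ']
        exact proj_comm hc1 (ρ g) (hY'inv g) (hsupinv K₀ Z hK₀inv hZinv g) z
      simp only [LinearMap.add_apply, LinearMap.BilinForm.comp_apply,
        LinearMap.BilinForm.flip_apply, LinearMap.id_apply, e1, e2, hBinv, hA'inv]

theorem even_case {F : Type u} [Field F] [CharP F 2] {G : Type v} [Group G] [Finite G]
    (hodd : Odd (Nat.card G)) {V : Type w} [AddCommGroup V] [Module F V] [FiniteDimensional F V]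
    (ρ : Representation F G V) (B : LinearMap.BilinForm F V) (hB : B.Nondegenerate)
    (hBinv : ∀ g : G, ∀ x y : V, B (ρ g x) (ρ g y) = B x y) :
    ∃ U W : Submodule F V, IsCompl U W ∧ (∀ g : G, ∀ u ∈ U, ρ g u ∈ U) ∧
      (∀ g : G, ∀ w ∈ W, ρ g w ∈ W) ∧
      (∃ A : LinearMap.BilinForm F V, (∀ x : V, A x x = 0) ∧
        (∀ g : G, ∀ x ∈ U, ∀ y ∈ U, A (ρ g x) (ρ g y) = A x y) ∧
        (∀ x ∈ U, (∀ y ∈ U, A x y = 0) → x = 0)) ∧
      (∃ S : LinearMap.BilinForm F V, (∀ x y : V, S x y = S y x) ∧
        (∀ g : G, ∀ x ∈ W, ∀ y ∈ W, S (ρ g x) (ρ g y) = S x y) ∧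
        (∀ x ∈ W, (∀ y ∈ W, S x y = 0) → x = 0)) ∧
      (∀ g : G, ∀ w ∈ W, ρ g w = w) := by
  classical
  have hcard : (Nat.card G : F) = 1 := by
    obtain ⟨k, hk⟩ := hodd
    rw [hk]
    push_cast
    rw [CharTwo.two_eq_zero, zero_mul, zero_add]
  have : Fintype G := Fintype.ofFinite G
  -- fixed points and the kernel of the averaging map
  let W : Submodule F V :=
    { carrier := {v | ∀ g : G, ρ g v = v}
      add_mem' := by
        intro a b ha hb g
        rw [map_add, ha g, hb g]
      zero_mem' := fun g => map_zero _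
      smul_mem' := by
        intro c a ha g
        rw [map_smul, ha g] }
  have hW : ∀ v : V, v ∈ W ↔ ∀ g : G, ρ g v = v := fun v => Iff.rfl
  let e : V →ₗ[F] V := ∑ g : G, ρ g
  have he : ∀ v : V, e v = ∑ g : G, ρ g v := fun v => by simp [e, LinearMap.sum_apply]
  let U : Submodule F V := LinearMap.ker e
  have heW : ∀ v : V, e v ∈ W := by
    intro v h
    rw [he, map_sum]
    refine Fintype.sum_equiv (Equiv.mulLeft h) _ _ ?_
    intro g
    simp [map_mul]
  have heρ : ∀ (h : G) (v : V), e (ρ h v) = e v := by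
    intro h v
    rw [he, he]
    refine Fintype.sum_equiv (Equiv.mulRight h) _ _ ?_
    intro g
    simp [map_mul]
  have heW' : ∀ w ∈ W, e w = w := by
    intro w hw
    rw [he, Finset.sum_congr rfl (fun g _ => hw g), Finset.sum_const, Finset.card_univ,
      ← Nat.card_eq_fintype_card, ← Nat.cast_smul_eq_nsmul F, hcard, one_smul]
  have hcompl : IsCompl U W := by
    apply IsCompl.of_eq
    · rw [eq_bot_iff]
      rintro v ⟨hvU, hvW⟩
      have h1 : e v = 0 := hvU
      rw [heW' v hvW] at h1
      rw [h1]; exact Submodule.zero_mem _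
    · rw [eq_top_iff]
      intro v _
      refine Submodule.mem_sup.2 ⟨v - e v, ?_, e v, heW v, by abel⟩
      show e (v - e v) = 0
      rw [map_sub, heW' _ (heW v), sub_self]
  have hUinv : ∀ g : G, ∀ u ∈ U, ρ g u ∈ U := by
    intro g u hu
    show e (ρ g u) = 0
    rw [heρ]; exact hu
  have hWinv : ∀ g : G, ∀ w ∈ W, ρ g w ∈ W := by
    intro g w hw
    rw [hw g]; exact hw
  have hUW : ∀ u ∈ U, ∀ w ∈ W, B u w = 0 := by
    intro u hu w hw
    have h1 : ∀ g : G, B (ρ g u) w = B u w := by
      intro g
      rw [← hBinv g u w, hw g]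
    have h2 : B (e u) w = B u w := by
      rw [he, map_sum, LinearMap.sum_apply, Finset.sum_congr rfl (fun g _ => h1 g),
        Finset.sum_const, Finset.card_univ, ← Nat.card_eq_fintype_card, nsmul_eq_mul, hcard,
        one_mul]
    rw [← h2, show e u = 0 from hu, map_zero, LinearMap.zero_apply]
  have hWU : ∀ u ∈ U, ∀ w ∈ W, B w u = 0 := by
    intro u hu w hw
    have h1 : ∀ g : G, B w (ρ g u) = B w u := by
      intro g
      rw [← hBinv g w u, hw g]
    have h2 : B w (e u) = B w u := by
      rw [he, map_sum, Finset.sum_congr rfl (fun g _ => h1 g),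
        Finset.sum_const, Finset.card_univ, ← Nat.card_eq_fintype_card, nsmul_eq_mul, hcard,
        one_mul]
    rw [← h2, show e u = 0 from hu, map_zero]
  have hdec : ∀ v : V, ∃ u ∈ U, ∃ w ∈ W, v = u + w := by
    intro v
    have : v ∈ U ⊔ W := by rw [hcompl.sup_eq_top]; trivial
    obtain ⟨u, hu, w, hw, rfl⟩ := Submodule.mem_sup.1 this
    exact ⟨u, hu, w, hw, rfl⟩
  have hBU : (B.restrict U).Nondegenerate := by
    apply LinearMap.BilinForm.Nondegenerate.ofSeparatingLeft
    intro u hu
    apply Subtype.ext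
    apply hB.1
    intro v
    obtain ⟨u', hu', w, hw, rfl⟩ := hdec v
    rw [map_add, hUW u u.2 w hw, add_zero]
    exact hu ⟨u', hu'⟩
  let ρ' : Representation F G ↥U :=
    (⟨U, fun g v hv => hUinv g v hv⟩ : Subrepresentation ρ).toRepresentation
  have hρ' : ∀ (g : G) (y : ↥U), ((ρ' g y : ↥U) : V) = ρ g y := fun g y => rfl
  obtain ⟨A', hA'nd, hA'alt, hA'inv⟩ := fong hodd (Module.finrank F ↥U) ↥U ρ' (B.restrict U) rfl
    hBU (fun g x y => by
      show B ((ρ' g x : ↥U) : V) ((ρ' g y : ↥U) : V) = B (x : V) (y : V)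
      rw [hρ', hρ', hBinv])
    (fun v hv => by
      apply Subtype.ext
      have : (v : V) ∈ U ⊓ W := by
        refine ⟨v.2, fun g => ?_⟩
        have := congrArg Subtype.val (hv g)
        rwa [hρ'] at this
      rw [hcompl.inf_eq_bot] at this
      exact (Submodule.mem_bot F).1 this)
  let π : V →ₗ[F] ↥U := U.projectionOnto W hcompl
  let πW : V →ₗ[F] ↥W := W.projectionOnto U hcompl.symm
  refine ⟨U, W, hcompl, hUinv, hWinv, ?_, ?_, fun g w hw => hw g⟩
  · refine ⟨A'.comp π π, ?_, ?_, ?_⟩
    · intro x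
      simp only [LinearMap.BilinForm.comp_apply, hA'alt]
    · intro g x _ y _
      have e2 : ∀ z, π (ρ g z) = ρ' g (π z) := by
        intro z
        apply Subtype.ext
        rw [hρ']
        exact proj_comm hcompl (ρ g) (hUinv g) (hWinv g) z
      simp only [LinearMap.BilinForm.comp_apply, e2, hA'inv]
    · intro x hx hxy
      have h1 : π x = ⟨x, hx⟩ := Submodule.projectionOnto_apply_of_mem_left hcompl hx
      have h2 : (⟨x, hx⟩ : ↥U) = 0 := by
        apply hA'nd
        intro y
        have := hxy y y.2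
        rw [LinearMap.BilinForm.comp_apply, h1,
          Submodule.projectionOnto_apply_of_mem_left hcompl y.2] at this
        exact this
      exact congrArg Subtype.val h2
  · let b := Module.finBasis F ↥W
    let f : Fin (Module.finrank F ↥W) → (V →ₗ[F] F) := fun i => (b.coord i) ∘ₗ πW
    obtain ⟨S, hS⟩ : ∃ S : LinearMap.BilinForm F V, ∀ x y : V, S x y = ∑ i, f i x * f i y :=
      ⟨∑ i, LinearMap.BilinForm.linMulLin (f i) (f i), fun x y => by
        simp only [LinearMap.sum_apply, LinearMap.BilinForm.linMulLin_apply]⟩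
    refine ⟨S, ?_, ?_, ?_⟩
    · intro x y
      rw [hS, hS]
      exact Finset.sum_congr rfl (fun i _ => mul_comm _ _)
    · intro g x hx y hy
      have h1 : ρ g x = x := hx g
      have h2 : ρ g y = y := hy g
      rw [h1, h2]
    · intro x hx hxy
      have h1 : πW x = ⟨x, hx⟩ := Submodule.projectionOnto_apply_of_mem_left hcompl.symm hx
      have hfb : ∀ i j, f i (b j) = if j = i then 1 else 0 := by
        intro i j
        show b.coord i (πW (b j)) = _
        rw [Submodule.projectionOnto_apply_left hcompl.symm (b j), Module.Basis.coord_apply,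
          Module.Basis.repr_self, Finsupp.single_apply]
      have h2 : ∀ j, b.repr (πW x) j = 0 := by
        intro j
        have := hxy (b j) (b j).2
        rw [hS, Finset.sum_eq_single j] at this
        · rw [hfb, if_pos rfl, mul_one] at this
          exact this
        · intro i _ hij
          rw [hfb, if_neg (Ne.symm hij), mul_zero]
        · intro h; exact absurd (Finset.mem_univ j) h
      have h3 : πW x = 0 := by
        apply b.repr.injective
        ext j
        rw [h2 j]; simp
      rw [h1] at h3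
      exact congrArg Subtype.val h3

/-- Let F be a finite field of characteristic p, G a finite group of order prime to p, and V a finite-dimensional representation of G over F carrying a nondegenerate G-invariant bilinear form (equivalently, V is self-dual). Then V is the direct sum of two G-invariant subspaces U and W such that U carries a G-invariant alternating bilinear form that is nondegenerate on U and W carries a G-invariant symmetric bilinear form that is nondegenerate on W; moreover when p = 2 the decomposition can be chosen with G acting trivially on W. -/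
theorem result {F : Type*} [Field F] [Fintype F] (p : ℕ) [Fact p.Prime] [CharP F p] {G : Type*} [Group G] [Finite G] (hcop : ¬ p ∣ Nat.card G) {V : Type*} [AddCommGroup V] [Module F V] [FiniteDimensional F V] (ρ : Representation F G V) (B : LinearMap.BilinForm F V) (hB : B.Nondegenerate) (hBinv : ∀ g : G, ∀ x y : V, B (ρ g x) (ρ g y) = B x y) : ∃ U W : Submodule F V, IsCompl U W ∧ (∀ g : G, ∀ u ∈ U, ρ g u ∈ U) ∧ (∀ g : G, ∀ w ∈ W, ρ g w ∈ W) ∧ (∃ A : LinearMap.BilinForm F V, (∀ x : V, A x x = 0) ∧ (∀ g : G, ∀ x ∈ U, ∀ y ∈ U, A (ρ g x) (ρ g y) = A x y) ∧ (∀ x ∈ U, (∀ y ∈ U, A x y = 0) → x = 0)) ∧ (∃ S : LinearMap.BilinForm F V, (∀ x y : V, S x y = S y x) ∧ (∀ g : G, ∀ x ∈ W, ∀ y ∈ W, S (ρ g x) (ρ g y) = S x y) ∧ (∀ x ∈ W, (∀ y ∈ W, S x y = 0) → x = 0)) ∧ (p = 2 → ∀ g : G, ∀ w ∈ W, ρ g w = w) := by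
  have hp : p.Prime := Fact.out
  by_cases hp2 : p = 2
  · subst hp2
    have hodd : Odd (Nat.card G) := by
      rw [← Nat.not_even_iff_odd, even_iff_two_dvd]
      exact hcop
    obtain ⟨U, W, h1, h2, h3, h4, h5, h6⟩ := even_case hodd ρ B hB hBinv
    exact ⟨U, W, h1, h2, h3, h4, h5, fun _ => h6⟩
  · have h2 : (2 : F) ≠ 0 := by
      intro h
      have h' : ((2 : ℕ) : F) = 0 := by exact_mod_cast h
      rw [CharP.cast_eq_zero_iff F p] at h'
      exact hp2 ((Nat.prime_dvd_prime_iff_eq hp Nat.prime_two).1 h')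
    obtain ⟨U, W, h1, h2', h3, h4, h5⟩ := odd_case h2 ρ B hB hBinv
    exact ⟨U, W, h1, h2', h3, h4, h5, fun h => absurd h hp2⟩

end Cfsg.Agent.S4966
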