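import Mathlib
import Cfsg.Statements.S4967

set_option autoImplicit false
open Cfsg

namespace Cfsg.Agent.S4967


theorem part1 {F : Type*} [Field F] {H : Type*} [CommGroup H] [Finite H]
    {V : Type*} [AddCommGroup V] [Module F V] [FiniteDimensional F V]
    (ρ : Representation F H V) (hfaith : Function.Injective ρ)
    (h1 : Module.finrank F V = 1)
    (hex : ∃ B : LinearMap.BilinForm F V, B.Nondegenerate ∧
      ∀ h : H, ∀ x y : V, B (ρ h x) (ρ h y) = B x y) : Nat.card H ≤ 2 := by
  classical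
  obtain ⟨B, hB, hBinv⟩ := hex
  obtain ⟨v, hv0, hv⟩ := finrank_eq_one_iff'.1 h1
  have hc : ∀ h : H, ∃ c : F, c • v = ρ h v := fun h => hv (ρ h v)
  choose c hc using hc
  have hBvv : B v v ≠ 0 := by
    intro h0
    apply hv0
    apply hB.1
    intro w
    obtain ⟨d, rfl⟩ := hv w
    rw [map_smul, h0, smul_zero]
  have hsq : ∀ h : H, c h * c h = 1 := by
    intro h
    have := hBinv h v v
    rw [← hc h] at this
    simp only [map_smul, LinearMap.smul_apply, smul_eq_mul] at this
    have h2 : c h * c h * B v v = 1 * B v v := by rw [one_mul, mul_assoc]; exact this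
    exact mul_right_cancel₀ hBvv h2
  have hpm : ∀ h : H, c h = 1 ∨ c h = -1 := fun h => mul_self_eq_one_iff.1 (hsq h)
  have hρ : ∀ h : H, ∀ w : V, ρ h w = c h • w := by
    intro h w
    obtain ⟨d, rfl⟩ := hv w
    rw [map_smul, ← hc h, smul_comm]
  have hinj : Function.Injective (fun h : H => decide (c h = 1)) := by
    intro h h' hh
    apply hfaith
    ext w
    rw [hρ, hρ]
    congr 1
    simp only [decide_eq_decide] at hh
    by_cases e : c h = 1
    · rw [e, hh.1 e]
    · have e' : c h' ≠ 1 := fun e' => e (hh.2 e')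
      rw [(hpm h).resolve_left e, (hpm h').resolve_left e']
  have := Nat.card_le_card_of_injective _ hinj
  simpa using this



section basics

variable {F : Type*} [Field F] {H : Type*} [CommGroup H]
  {V : Type*} [AddCommGroup V] [Module F V]
  (ρ : Representation F H V)

/-- A nonzero endomorphism commuting with an irreducible action is injective. -/
theorem inj_of_comm
    (hirr : ∀ U : Submodule F V, (∀ h : H, ∀ u ∈ U, ρ h u ∈ U) → U = ⊥ ∨ U = ⊤)
    (a : Module.End F V) (hcomm : ∀ h : H, ∀ v : V, a (ρ h v) = ρ h (a v)) (ha : a ≠ 0) :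
    Function.Injective a := by
  have h1 := hirr (LinearMap.ker a) (by
    intro h u hu
    rw [LinearMap.mem_ker] at hu ⊢
    rw [hcomm, hu, map_zero])
  rcases h1 with h1 | h1
  · exact LinearMap.ker_eq_bot.1 h1
  · exfalso
    apply ha
    exact LinearMap.ker_eq_top.1 h1

/-- An invariant subspace containing a nonzero vector is everything. -/
theorem top_of_mem
    (hirr : ∀ U : Submodule F V, (∀ h : H, ∀ u ∈ U, ρ h u ∈ U) → U = ⊥ ∨ U = ⊤)
    (W : Submodule F V) (hW : ∀ h : H, ∀ u ∈ W, ρ h u ∈ W) (v : V) (hv : v ∈ W) (hv0 : v ≠ 0) :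
    W = ⊤ := by
  rcases hirr W hW with h1 | h1
  · exfalso
    apply hv0
    rw [h1] at hv
    simpa using hv
  · exact h1

end basics

section generic

variable {F : Type*} [Field F] {H : Type*} [CommGroup H]
  {V : Type*} [AddCommGroup V] [Module F V]
  (ρ : Representation F H V)
  {K : Type*} [Field K] [Algebra F K]
  (π : MonoidAlgebra F H →ₐ[F] K)
  (ι : K →ₐ[F] Module.End F V)

/-- the image of `h` in the field `K`. -/
noncomputable def zeta : H →* K := (π : MonoidAlgebra F H →* K).comp (MonoidAlgebra.of F H)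

theorem zeta_apply (h : H) : zeta π h = π (MonoidAlgebra.of F H h) := rfl

variable (hιπ : ∀ a, ι (π a) = ρ.asAlgebraHom a)

include hιπ in
theorem iota_zeta (h : H) : ι (zeta π h) = ρ h := by
  rw [zeta_apply, hιπ, Representation.asAlgebraHom_of]

include hιπ in
theorem iota_comm (k : K) (h : H) (v : V) : ι k (ρ h v) = ρ h (ι k v) := by
  rw [← iota_zeta ρ π ι hιπ h]
  change (ι k * ι (zeta π h)) v = (ι (zeta π h) * ι k) v
  rw [← map_mul, ← map_mul, mul_comm]

include hιπ in
theorem zeta_injective (hfaith : Function.Injective ρ) : Function.Injective (zeta π) := by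
  intro h h' hh
  apply hfaith
  rw [← iota_zeta ρ π ι hιπ h, ← iota_zeta ρ π ι hιπ h', hh]

include hιπ in
theorem isCyclic_H [Finite H] (hfaith : Function.Injective ρ) : IsCyclic H :=
  isCyclic_of_injective_ringHom (zeta π) (zeta_injective ρ π ι hιπ hfaith)

variable (hι : Function.Injective ι)
  (hirr : ∀ U : Submodule F V, (∀ h : H, ∀ u ∈ U, ρ h u ∈ U) → U = ⊥ ∨ U = ⊤)

include hιπ hι hirr in
theorem iota_injective (k : K) (hk : k ≠ 0) : Function.Injective (ι k) := by
  apply inj_of_comm ρ hirr (ι k) (fun h v => iota_comm ρ π ι hιπ k h v)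
  intro h0
  apply hk
  apply hι
  rw [h0, map_zero]

/-- evaluation at a vector -/
noncomputable def ev (v₀ : V) : K →ₗ[F] V := (LinearMap.applyₗ v₀) ∘ₗ ι.toLinearMap

theorem ev_apply (v₀ : V) (k : K) : ev ι v₀ k = ι k v₀ := rfl

include hιπ in
theorem ev_zeta_mul (v₀ : V) (h : H) (k : K) : ev ι v₀ (zeta π h * k) = ρ h (ev ι v₀ k) := by
  rw [ev_apply, ev_apply, map_mul, ← iota_zeta ρ π ι hιπ h]
  rfl

include hιπ hι hirr in
theorem ev_bijective (v₀ : V) (hv₀ : v₀ ≠ 0) : Function.Bijective (ev ι v₀) := by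
  constructor
  · rw [← LinearMap.ker_eq_bot, LinearMap.ker_eq_bot']
    intro k hk
    by_contra hk0
    apply hv₀
    apply iota_injective ρ π ι hιπ hι hirr k hk0
    rw [map_zero]
    exact hk
  · rw [← LinearMap.range_eq_top]
    apply top_of_mem ρ hirr _ _ v₀ _ hv₀
    · rintro h _ ⟨k, rfl⟩
      exact ⟨zeta π h * k, ev_zeta_mul ρ π ι hιπ v₀ h k⟩
    · exact ⟨1, by rw [ev_apply, map_one]; rfl⟩

/-- the evaluation as a linear equivalence -/
noncomputable def evEquiv (v₀ : V) (hv₀ : v₀ ≠ 0) : K ≃ₗ[F] V :=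
  LinearEquiv.ofBijective (ev ι v₀) (ev_bijective ρ π ι hιπ hι hirr v₀ hv₀)

theorem evEquiv_zeta_mul (v₀ : V) (hv₀ : v₀ ≠ 0) (h : H) (k : K) :
    evEquiv ρ π ι hιπ hι hirr v₀ hv₀ (zeta π h * k) = ρ h (evEquiv ρ π ι hιπ hι hirr v₀ hv₀ k) :=
  ev_zeta_mul ρ π ι hιπ v₀ h k

theorem evEquiv_symm_rho (v₀ : V) (hv₀ : v₀ ≠ 0) (h : H) (x : V) :
    (evEquiv ρ π ι hιπ hι hirr v₀ hv₀).symm (ρ h x) =
      zeta π h * (evEquiv ρ π ι hιπ hι hirr v₀ hv₀).symm x := by
  rw [LinearEquiv.symm_apply_eq, evEquiv_zeta_mul, LinearEquiv.apply_symm_apply]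

include hιπ hι hirr in
theorem finrank_K [Nontrivial V] : Module.finrank F K = Module.finrank F V := by
  obtain ⟨v₀, hv₀⟩ := exists_ne (0 : V)
  exact (evEquiv ρ π ι hιπ hι hirr v₀ hv₀).finrank_eq

theorem algHom_ext_zeta (hπ : Function.Surjective π) {K' : Type*} [Semiring K'] [Algebra F K']
    (f g : K →ₐ[F] K') (hfg : ∀ h : H, f (zeta π h) = g (zeta π h)) : f = g := by
  rw [← AlgHom.cancel_right hπ]
  apply MonoidAlgebra.algHom_ext
  · intro h
    exact hfg h
  · exact Subsingleton.elim _ _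

end generic

section forward

variable {F : Type*} [Field F] {H : Type*} [CommGroup H]
  {V : Type*} [AddCommGroup V] [Module F V]
  (ρ : Representation F H V)

/-- the involution of the group algebra -/
noncomputable def star : MonoidAlgebra F H →ₐ[F] MonoidAlgebra F H :=
  MonoidAlgebra.mapDomainAlgHom F F (invMonoidHom : H →* H)

theorem star_single (h : H) (c : F) :
    star (MonoidAlgebra.single h c) = MonoidAlgebra.single h⁻¹ c := by
  simp [star]

theorem adjoint (B : LinearMap.BilinForm F V)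
    (hBinv : ∀ h : H, ∀ x y : V, B (ρ h x) (ρ h y) = B x y)
    (a : MonoidAlgebra F H) (x y : V) :
    B (ρ.asAlgebraHom a x) y = B x (ρ.asAlgebraHom (star a) y) := by
  induction a using MonoidAlgebra.induction_linear with
  | zero => simp
  | add a b ha hb => simp [ha, hb]
  | single h c =>
    rw [star_single, Representation.asAlgebraHom_single, Representation.asAlgebraHom_single]
    simp only [LinearMap.smul_apply, map_smul]
    congr 1
    have := hBinv h x (ρ h⁻¹ y)
    rw [← this]
    congr 1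
    rw [← Module.End.mul_apply, ← map_mul, mul_inv_cancel, map_one, Module.End.one_apply]

variable {K : Type*} [Field K] [Algebra F K]
  (π : MonoidAlgebra F H →ₐ[F] K) (hπ : Function.Surjective π)
  (ι : K →ₐ[F] Module.End F V)
  (hιπ : ∀ a, ι (π a) = ρ.asAlgebraHom a)
  (hι : Function.Injective ι)

include hιπ hι in
theorem ker_le (B : LinearMap.BilinForm F V) (hB : B.Nondegenerate)
    (hBinv : ∀ h : H, ∀ x y : V, B (ρ h x) (ρ h y) = B x y) :
    RingHom.ker π.toRingHom ≤ RingHom.ker (π.comp star).toRingHom := by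
  intro a ha
  rw [RingHom.mem_ker] at ha ⊢
  change π a = 0 at ha
  change π (star a) = 0
  apply hι
  rw [map_zero, hιπ]
  ext y
  apply hB.2
  intro x
  rw [← adjoint ρ B hBinv, ← hιπ, ha, map_zero]
  simp

/-- the inversion automorphism of `K` coming from a self-duality. -/
noncomputable def alpha (B : LinearMap.BilinForm F V) (hB : B.Nondegenerate)
    (hBinv : ∀ h : H, ∀ x y : V, B (ρ h x) (ρ h y) = B x y) : K →ₐ[F] K :=
  AlgHom.liftOfSurjective π hπ (π.comp star) (ker_le ρ π ι hιπ hι B hB hBinv)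

theorem alpha_zeta (B : LinearMap.BilinForm F V) (hB : B.Nondegenerate)
    (hBinv : ∀ h : H, ∀ x y : V, B (ρ h x) (ρ h y) = B x y) (h : H) :
    alpha ρ π hπ ι hιπ hι B hB hBinv (zeta π h) = (zeta π h)⁻¹ := by
  rw [← map_inv (zeta π) h, zeta_apply, alpha, AlgHom.liftOfSurjective_apply, zeta_apply]
  change π (star (MonoidAlgebra.single h 1)) = _
  rw [star_single]
  rfl


include hιπ in
theorem scalar_contra [FiniteDimensional F V]
    (hirr : ∀ U : Submodule F V, (∀ h : H, ∀ u ∈ U, ρ h u ∈ U) → U = ⊥ ∨ U = ⊤)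
    (hn : 2 ≤ Module.finrank F V)
    (hsq : ∀ h : H, zeta π h ^ 2 = 1) : False := by
  have hnt : Nontrivial V := Module.nontrivial_of_finrank_pos (R := F) (by omega)
  obtain ⟨v₀, hv₀⟩ := exists_ne (0 : V)
  have hρ : ∀ h : H, ρ h = 1 ∨ ρ h = -1 := by
    intro h
    have h1 := hsq h
    rw [pow_two, mul_self_eq_one_iff] at h1
    rcases h1 with h1 | h1
    · left; rw [← iota_zeta ρ π ι hιπ h, h1, map_one]
    · right; rw [← iota_zeta ρ π ι hιπ h, h1, map_neg, map_one]
  have htop : Submodule.span F {v₀} = ⊤ := by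
    apply top_of_mem ρ hirr _ _ v₀ (Submodule.mem_span_singleton_self v₀) hv₀
    intro h u hu
    rcases hρ h with h1 | h1
    · rw [h1]; exact hu
    · rw [h1]
      simpa using hu
  have h1 : Module.finrank F (Submodule.span F {v₀}) = 1 := finrank_span_singleton hv₀
  rw [htop, finrank_top] at h1
  omega

include hπ hιπ hι in
theorem forward [Fintype F] [Finite H] [FiniteDimensional F V] [Finite K]
    (hfaith : Function.Injective ρ)
    (hirr : ∀ U : Submodule F V, (∀ h : H, ∀ u ∈ U, ρ h u ∈ U) → U = ⊥ ∨ U = ⊤)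
    (hn : 2 ≤ Module.finrank F V)
    (B : LinearMap.BilinForm F V) (hB : B.Nondegenerate)
    (hBinv : ∀ h : H, ∀ x y : V, B (ρ h x) (ρ h y) = B x y) :
    Even (Module.finrank F V) ∧
      Nat.card H ∣ Fintype.card F ^ (Module.finrank F V / 2) + 1 := by
  have hnt : Nontrivial V := Module.nontrivial_of_finrank_pos (R := F) (by omega)
  have hnK : Module.finrank F K = Module.finrank F V := finrank_K ρ π ι hιπ hι hirr
  have hcyc : IsCyclic H := isCyclic_H ρ π ι hιπ hfaith
  obtain ⟨⟨j, hj⟩, hjα⟩ := (FiniteField.bijective_frobeniusAlgHom_pow F K).2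
    (alpha ρ π hπ ι hιπ hι B hB hBinv)
  simp only at hjα
  have hz0 : ∀ h : H, zeta π h ≠ 0 := by
    intro h h0
    have : zeta π h * zeta π h⁻¹ = 1 := by rw [← map_mul, mul_inv_cancel, map_one]
    rw [h0, zero_mul] at this
    exact zero_ne_one this
  have hpow : ∀ h : H, zeta π h ^ (Fintype.card F ^ j) = (zeta π h)⁻¹ := by
    intro h
    rw [← alpha_zeta ρ π hπ ι hιπ hι B hB hBinv h, ← hjα, AlgHom.coe_pow,
      FiniteField.coe_frobeniusAlgHom, pow_iterate]
  have hz1 : ∀ h : H, zeta π h ^ (Fintype.card F ^ j + 1) = 1 := by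
    intro h
    rw [pow_succ, hpow, inv_mul_cancel₀ (hz0 h)]
  have hh1 : ∀ h : H, h ^ (Fintype.card F ^ j + 1) = 1 := by
    intro h
    apply zeta_injective ρ π ι hιπ hfaith
    rw [map_pow, hz1, map_one]
  have hdvd : Nat.card H ∣ Fintype.card F ^ j + 1 := by
    rw [← IsCyclic.exponent_eq_card]
    exact Monoid.exponent_dvd_of_forall_pow_eq_one hh1
  have hFrob2 : FiniteField.frobeniusAlgHom F K ^ (2 * j) = 1 := by
    rw [two_mul, pow_add, hjα]
    apply algHom_ext_zeta π hπ
    intro h
    rw [AlgHom.mul_apply, alpha_zeta, map_inv₀, alpha_zeta, inv_inv, AlgHom.one_apply]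
  have hdvd2 : Module.finrank F K ∣ 2 * j := by
    rw [← FiniteField.orderOf_frobeniusAlgHom]
    exact orderOf_dvd_of_pow_eq_one hFrob2
  obtain ⟨c, hc⟩ := hdvd2
  have hc2 : c < 2 := by
    by_contra hc2
    rw [not_lt] at hc2
    have : Module.finrank F K * 2 ≤ Module.finrank F K * c := Nat.mul_le_mul_left _ hc2
    omega
  interval_cases c
  · exfalso
    have hj0 : j = 0 := by omega
    subst hj0
    apply scalar_contra ρ π ι hιπ hirr hn
    intro h
    have := hz1 h
    simpa using this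
  · have h2j : Module.finrank F V = 2 * j := by omega
    refine ⟨⟨j, by omega⟩, ?_⟩
    have : Module.finrank F V / 2 = j := by omega
    rw [this]
    exact hdvd

end forward

section backward

variable {F : Type*} [Field F] {H : Type*} [CommGroup H]
  {V : Type*} [AddCommGroup V] [Module F V]
  (ρ : Representation F H V)
  {K : Type*} [Field K] [Algebra F K]
  (π : MonoidAlgebra F H →ₐ[F] K)
  (ι : K →ₐ[F] Module.End F V)
  (hιπ : ∀ a, ι (π a) = ρ.asAlgebraHom a)
  (hι : Function.Injective ι)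

include hιπ hι in
theorem backward [Fintype F] [Finite H] [FiniteDimensional F V] [Finite K]
    (hirr : ∀ U : Submodule F V, (∀ h : H, ∀ u ∈ U, ρ h u ∈ U) → U = ⊥ ∨ U = ⊤)
    (hn : 2 ≤ Module.finrank F V)
    (hdvd : Nat.card H ∣ Fintype.card F ^ (Module.finrank F V / 2) + 1) :
    ∃ B : LinearMap.BilinForm F V, B.Nondegenerate ∧
      ∀ h : H, ∀ x y : V, B (ρ h x) (ρ h y) = B x y := by
  have hnt : Nontrivial V := Module.nontrivial_of_finrank_pos (R := F) (by omega)
  obtain ⟨v₀, hv₀⟩ := exists_ne (0 : V)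
  set e : K ≃ₗ[F] V := evEquiv ρ π ι hιπ hι hirr v₀ hv₀ with he
  set Q : ℕ := Fintype.card F ^ (Module.finrank F V / 2) with hQ
  set σ : K →ₐ[F] K := FiniteField.frobeniusAlgHom F K ^ (Module.finrank F V / 2) with hσ
  have hσapp : ∀ x : K, σ x = x ^ Q := by
    intro x
    rw [hσ, AlgHom.coe_pow, FiniteField.coe_frobeniusAlgHom, pow_iterate]
  have hσbij : Function.Bijective σ := by
    have hinj : Function.Injective σ := σ.toRingHom.injective
    exact ⟨hinj, Finite.surjective_of_injective hinj⟩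
  obtain ⟨t, ht⟩ := Module.Projective.exists_dual_ne_zero F (one_ne_zero : (1 : K) ≠ 0)
  let B : LinearMap.BilinForm F V :=
    ((LinearMap.mul F K).compl₁₂ (e.symm : V →ₗ[F] K)
      (σ.toLinearMap ∘ₗ (e.symm : V →ₗ[F] K))).compr₂ t
  have hBapp : ∀ x y : V, B x y = t (e.symm x * σ (e.symm y)) := fun x y => rfl
  have hz1 : ∀ h : H, zeta π h ^ (Q + 1) = 1 := by
    intro h
    obtain ⟨c, hc⟩ := hdvd
    rw [← map_pow, hc, pow_mul, pow_card_eq_one', one_pow, map_one]
  refine ⟨B, ?_, ?_⟩
  · apply LinearMap.BilinForm.Nondegenerate.ofSeparatingLeft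
    intro x hx
    by_contra hx0
    have ha : e.symm x ≠ 0 := by
      intro h0
      apply hx0
      simpa using h0
    obtain ⟨b, hb⟩ := hσbij.2 (e.symm x)⁻¹
    have := hx (e b)
    rw [hBapp, LinearEquiv.symm_apply_apply, hb, mul_inv_cancel₀ ha] at this
    exact ht this
  · intro h x y
    rw [hBapp, hBapp, he, evEquiv_symm_rho, evEquiv_symm_rho, ← he, map_mul σ, hσapp (zeta π h)]
    congr 1
    have := hz1 h
    rw [pow_succ] at this
    calc zeta π h * e.symm x * (zeta π h ^ Q * σ (e.symm y))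
        = (zeta π h ^ Q * zeta π h) * (e.symm x * σ (e.symm y)) := by ring
      _ = e.symm x * σ (e.symm y) := by rw [this, one_mul]

end backward

section construct

variable {F : Type*} [Field F] {H : Type*} [CommGroup H]
  {V : Type*} [AddCommGroup V] [Module F V]
  (ρ : Representation F H V)

theorem asAlgebraHom_comm (a : MonoidAlgebra F H) (h : H) (v : V) :
    ρ.asAlgebraHom a (ρ h v) = ρ h (ρ.asAlgebraHom a v) := by
  rw [← Representation.asAlgebraHom_of ρ h]
  change (ρ.asAlgebraHom a * ρ.asAlgebraHom (MonoidAlgebra.of F H h)) v =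
    (ρ.asAlgebraHom (MonoidAlgebra.of F H h) * ρ.asAlgebraHom a) v
  rw [← map_mul, ← map_mul, mul_comm]

theorem ker_isPrime [Nontrivial V]
    (hirr : ∀ U : Submodule F V, (∀ h : H, ∀ u ∈ U, ρ h u ∈ U) → U = ⊥ ∨ U = ⊤) :
    (RingHom.ker ρ.asAlgebraHom).IsPrime := by
  constructor
  · rw [Ideal.ne_top_iff_one, RingHom.mem_ker, map_one]
    exact one_ne_zero
  · intro a b hab
    rw [RingHom.mem_ker] at hab ⊢
    rw [RingHom.mem_ker]
    by_cases ha : ρ.asAlgebraHom a = 0
    · exact Or.inl ha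
    · right
      have hinj := inj_of_comm ρ hirr _ (asAlgebraHom_comm ρ a) ha
      ext v
      apply hinj
      rw [LinearMap.zero_apply, map_zero]
      rw [map_mul] at hab
      have := LinearMap.congr_fun hab v
      simpa using this

theorem ker_isMaximal [Finite F] [FiniteDimensional F V] [Nontrivial V]
    (hirr : ∀ U : Submodule F V, (∀ h : H, ∀ u ∈ U, ρ h u ∈ U) → U = ⊥ ∨ U = ⊤) :
    (RingHom.ker ρ.asAlgebraHom).IsMaximal ∧
      Finite (MonoidAlgebra F H ⧸ RingHom.ker ρ.asAlgebraHom) := by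
  have := ker_isPrime ρ hirr
  have : Finite V := Module.finite_of_finite F
  have : Finite (Module.End F V) :=
    Finite.of_injective (fun f : Module.End F V => (f : V → V)) DFunLike.coe_injective
  have hfin : Finite (MonoidAlgebra F H ⧸ RingHom.ker ρ.asAlgebraHom) :=
    Finite.of_injective _ (Ideal.kerLiftAlg_injective ρ.asAlgebraHom)
  exact ⟨Ideal.Quotient.maximal_of_isField _ (Finite.isField_of_domain _), hfin⟩

end construct

theorem part2 {F : Type*} [Field F] [Fintype F] {H : Type*} [CommGroup H] [Finite H]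
    {V : Type*} [AddCommGroup V] [Module F V] [FiniteDimensional F V]
    (ρ : Representation F H V) (hfaith : Function.Injective ρ)
    (hirr : ∀ U : Submodule F V, (∀ h : H, ∀ u ∈ U, ρ h u ∈ U) → U = ⊥ ∨ U = ⊤)
    (hn : 2 ≤ Module.finrank F V) :
    (∃ B : LinearMap.BilinForm F V, B.Nondegenerate ∧
        ∀ h : H, ∀ x y : V, B (ρ h x) (ρ h y) = B x y) ↔
      (Even (Module.finrank F V) ∧
        Nat.card H ∣ Fintype.card F ^ (Module.finrank F V / 2) + 1) := by
  have hnt : Nontrivial V := Module.nontrivial_of_finrank_pos (R := F) (by omega)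
  obtain ⟨hmax, hfin⟩ := ker_isMaximal ρ hirr
  let : Field (MonoidAlgebra F H ⧸ RingHom.ker ρ.asAlgebraHom) := Ideal.Quotient.field _
  have hπ : Function.Surjective (Ideal.Quotient.mkₐ F (RingHom.ker ρ.asAlgebraHom)) :=
    Ideal.Quotient.mkₐ_surjective F _
  have hι := Ideal.kerLiftAlg_injective ρ.asAlgebraHom
  have hιπ : ∀ a, Ideal.kerLiftAlg ρ.asAlgebraHom
      (Ideal.Quotient.mkₐ F (RingHom.ker ρ.asAlgebraHom) a) = ρ.asAlgebraHom a :=
    fun a => Ideal.kerLiftAlg_mk _ a
  constructor
  · rintro ⟨B, hB, hBinv⟩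
    exact forward ρ _ hπ _ hιπ hι hfaith hirr hn B hB hBinv
  · rintro ⟨_, hdvd⟩
    exact backward ρ _ _ hιπ hι hirr hn hdvd



/-- Let F be a finite field with r elements and of characteristic p, H a finite abelian group of order prime to p, and V a faithful irreducible representation of H over F of dimension n (faithful: distinct elements act differently; irreducible: the only H-invariant subspaces are 0 and V). Call V self-dual when it carries a nondegenerate H-invariant bilinear form. If n = 1 and V is self-dual then H has order at most 2. If n ≥ 2 then V is self-dual if and only if n is even and the order of H divides r^(n/2) + 1. -/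
theorem result {F : Type*} [Field F] [Fintype F] (p : ℕ) [Fact p.Prime] [CharP F p] {H : Type*} [CommGroup H] [Finite H] (hcop : ¬ p ∣ Nat.card H) {V : Type*} [AddCommGroup V] [Module F V] [FiniteDimensional F V] (ρ : Representation F H V) (hfaith : Function.Injective ρ) (hirr : ∀ U : Submodule F V, (∀ h : H, ∀ u ∈ U, ρ h u ∈ U) → U = ⊥ ∨ U = ⊤) : (Module.finrank F V = 1 → (∃ B : LinearMap.BilinForm F V, B.Nondegenerate ∧ ∀ h : H, ∀ x y : V, B (ρ h x) (ρ h y) = B x y) → Nat.card H ≤ 2) ∧ (2 ≤ Module.finrank F V → ((∃ B : LinearMap.BilinForm F V, B.Nondegenerate ∧ ∀ h : H, ∀ x y : V, B (ρ h x) (ρ h y) = B x y) ↔ (Even (Module.finrank F V) ∧ Nat.card H ∣ Fintype.card F ^ (Module.finrank F V / 2) + 1))) := by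
  exact ⟨fun h1 hex => part1 ρ hfaith h1 hex, fun hn => part2 ρ hfaith hirr hn⟩

end Cfsg.Agent.S4967
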