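import Mathlib
import Cfsg.Statements.S4969
import Cfsg.Agent.Lib.Helper81_CharExpand
import Cfsg.Agent.Lib.Helper80_CharBasic

set_option autoImplicit false
open Cfsg

namespace Cfsg.Agent.S4969

open Cfsg.Agent.Lib.Helper81_CharOrth Cfsg.Agent.Lib.Helper81_CharExpand
  Cfsg.Agent.Lib.Helper80_CharBasic
open scoped ComplexConjugate

/-- The number of irreducible characters is at most the number of conjugacy classes. -/
theorem card_irr_le {G : Type*} [Group G] [Finite G] :
    Nat.card (IrrCharacter G) ≤ Nat.card (ConjClasses G) := by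
  classical
  have : Fintype G := Fintype.ofFinite G
  have : Fintype (ConjClasses G) := Fintype.ofFinite _
  have : Fintype (IrrCharacter G) := Fintype.ofFinite _
  let L : (ConjClasses G → ℂ) →ₗ[ℂ] (G → ℂ) :=
    { toFun := fun f g => f (ConjClasses.mk g)
      map_add' := fun f₁ f₂ => rfl
      map_smul' := fun c f => rfl }
  let v : IrrCharacter G → (ConjClasses G → ℂ) := fun χ c => (χ : G → ℂ) (Quotient.out c)
  have hLv : (L ∘ v) = (fun χ : IrrCharacter G => (χ : G → ℂ)) := by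
    funext χ g
    show (χ : G → ℂ) (Quotient.out (ConjClasses.mk g)) = (χ : G → ℂ) g
    apply irr_isConj
    rw [← ConjClasses.mk_eq_mk_iff_isConj]
    exact Quotient.out_eq _
  have hli : LinearIndependent ℂ v := by
    apply LinearIndependent.of_comp L
    rw [hLv]
    exact linearIndependent_irr
  have := hli.fintype_card_le_finrank
  rw [Module.finrank_fintype_fun_eq_card] at this
  rw [Nat.card_eq_fintype_card, Nat.card_eq_fintype_card]
  exact this

/-- Second orthogonality relation on the diagonal. -/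
theorem sum_norm_sq {G : Type*} [Group G] [Fintype G] [Fintype (IrrCharacter G)] (g : G) :
    ∑ χ : IrrCharacter G, ‖(χ : G → ℂ) g‖ ^ 2 =
      (Nat.card ↥(Subgroup.centralizer ({g} : Set G)) : ℝ) := by
  classical
  let f : G → ℂ := fun x => ∑ y : G, if y * g * y⁻¹ = x then 1 else 0
  have hf : IsClassFunction G f := by
    intro x h
    show (∑ y : G, if y * g * y⁻¹ = h * x * h⁻¹ then (1 : ℂ) else 0) =
      ∑ y : G, if y * g * y⁻¹ = x then 1 else 0
    refine Fintype.sum_equiv (Equiv.mulLeft h⁻¹) _ _ ?_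
    intro y
    have : (y * g * y⁻¹ = h * x * h⁻¹) ↔ (h⁻¹ * y * g * (h⁻¹ * y)⁻¹ = x) := by
      constructor
      · intro e
        have : h⁻¹ * y * g * (h⁻¹ * y)⁻¹ = h⁻¹ * (y * g * y⁻¹) * h := by group
        rw [this, e]; group
      · intro e
        rw [← e]; group
    show _ = ite (h⁻¹ * y * g * (h⁻¹ * y)⁻¹ = x) (1 : ℂ) 0
    exact if_congr this rfl rfl
  have hsum : ∀ χ : IrrCharacter G, ∑ x : G, f x * (χ : G → ℂ) x⁻¹ =
      (Nat.card G : ℂ) * (χ : G → ℂ) g⁻¹ := by
    intro χ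
    simp only [f, Finset.sum_mul]
    rw [Finset.sum_comm]
    have : ∀ y : G, ∑ x : G, (if y * g * y⁻¹ = x then (1 : ℂ) else 0) * (χ : G → ℂ) x⁻¹ =
        (χ : G → ℂ) g⁻¹ := by
      intro y
      simp only [ite_mul, one_mul, zero_mul, Finset.sum_ite_eq, Finset.mem_univ, if_true]
      have : (y * g * y⁻¹)⁻¹ = y * g⁻¹ * y⁻¹ := by group
      rw [this, irr_conj]
    rw [Finset.sum_congr rfl (fun y _ => this y)]
    simp [Nat.card_eq_fintype_card]
  have hfg : f g = (Nat.card ↥(Subgroup.centralizer ({g} : Set G)) : ℂ) := by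
    show (∑ y : G, if y * g * y⁻¹ = g then (1 : ℂ) else 0) = _
    rw [Finset.sum_boole]
    congr 1
    rw [Nat.card_eq_fintype_card, ← Fintype.card_subtype]
    apply Fintype.card_congr
    refine Equiv.subtypeEquivRight ?_
    intro y
    rw [Subgroup.mem_centralizer_singleton_iff, mul_inv_eq_iff_eq_mul]
  have hexp := classFunction_expansion_apply f hf g
  rw [hfg] at hexp
  have hcard : (Nat.card G : ℂ) ≠ 0 := card_ne_zero
  have hterm : ∀ χ : IrrCharacter G,
      ((Nat.card G : ℂ)⁻¹ * ∑ x : G, f x * (χ : G → ℂ) x⁻¹) * (χ : G → ℂ) g =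
        ((‖(χ : G → ℂ) g‖ ^ 2 : ℝ) : ℂ) := by
    intro χ
    rw [hsum χ, ← mul_assoc, inv_mul_cancel₀ hcard, one_mul, irr_inv, mul_comm,
      Complex.mul_conj, Complex.normSq_eq_norm_sq]
  rw [Finset.sum_congr rfl (fun χ _ => hterm χ)] at hexp
  have : ((Nat.card ↥(Subgroup.centralizer ({g} : Set G)) : ℝ) : ℂ) =
      ((∑ χ : IrrCharacter G, ‖(χ : G → ℂ) g‖ ^ 2 : ℝ) : ℂ) := by
    rw [Complex.ofReal_sum, Complex.ofReal_natCast]
    exact hexp
  exact (Complex.ofReal_injective this).symm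

theorem result {G : Type*} [Group G] [Finite G] (g : G) (N : ℝ) (hN : 0 < N) :
    ∑ᶠ χ : Cfsg.IrrCharacter G, (if N ≤ ‖(χ : G → ℂ) 1‖ then ‖(χ : G → ℂ) g‖ / ‖(χ : G → ℂ) 1‖ else 0) ≤
      Real.sqrt ((Nat.card (ConjClasses G) : ℝ) * (Nat.card ↥(Subgroup.centralizer ({g} : Set G)) : ℝ)) / N := by
  classical
  have : Fintype G := Fintype.ofFinite G
  have : Fintype (IrrCharacter G) := Fintype.ofFinite _
  rw [finsum_eq_sum_of_fintype]
  have h1 : ∀ χ : IrrCharacter G,
      (if N ≤ ‖(χ : G → ℂ) 1‖ then ‖(χ : G → ℂ) g‖ / ‖(χ : G → ℂ) 1‖ else 0) ≤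
        ‖(χ : G → ℂ) g‖ / N := by
    intro χ
    split_ifs with h
    · exact div_le_div_of_nonneg_left (norm_nonneg _) hN h
    · exact div_nonneg (norm_nonneg _) hN.le
  refine (Finset.sum_le_sum (fun χ _ => h1 χ)).trans ?_
  rw [← Finset.sum_div]
  apply div_le_div_of_nonneg_right _ hN.le
  apply Real.le_sqrt_of_sq_le
  have h2 := sq_sum_le_card_mul_sum_sq (s := (Finset.univ : Finset (IrrCharacter G)))
    (f := fun χ => ‖(χ : G → ℂ) g‖)
  rw [sum_norm_sq] at h2
  refine h2.trans ?_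
  apply mul_le_mul_of_nonneg_right _ (Nat.cast_nonneg _)
  have h3 := card_irr_le (G := G)
  rw [Nat.card_eq_fintype_card] at h3
  rw [Finset.card_univ]
  exact_mod_cast h3

end Cfsg.Agent.S4969
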