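import Cfsg.Statements.S4989
import Cfsg.Agent.Lib.Helper76_CharZeros

set_option autoImplicit false
open Cfsg

namespace Cfsg.Agent.S4989

open Cfsg.Agent.Lib.Helper76_CharZeros

section

variable {G : Type*} [Group G] [Fintype G] {V : Type*} [AddCommGroup V] [Module ℂ V]
  [FiniteDimensional ℂ V] (ρ : Representation ℂ G V)

theorem pow_mem_iff (H : Subgroup G) {k : ℕ} (hk : (Fintype.card G).Coprime k) (g : G) :
    g ^ k ∈ H ↔ g ∈ H := by
  have hk' : (Nat.card G).Coprime k := by rwa [Nat.card_eq_fintype_card]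
  constructor
  · intro h
    have h1 : (powCoprime hk').symm (g ^ k) = g := (powCoprime hk').symm_apply_apply g
    rw [← h1]
    exact H.zpow_mem h _
  · exact fun h => H.pow_mem h k

open scoped Classical in
/-- The number of non-zeros of `χ` outside `H` is at most `∑_{g ∉ H} |χ g|²`. -/
theorem card_nonzero_le (H : Subgroup G) :
    ((Finset.univ.filter (fun g : G => g ∉ H ∧ ρ.character g ≠ 0)).card : ℝ) ≤
      ∑ g : G, if g ∈ H then 0 else ‖ρ.character g‖ ^ 2 := by
  set N := Fintype.card G with hN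
  set K := (Finset.range N).filter (Nat.Coprime N) with hK
  set F : G → ℝ := fun g => if g ∈ H then 0 else ‖ρ.character g‖ ^ 2 with hF
  have hFnn : ∀ g, 0 ≤ F g := by
    intro g
    simp only [hF]
    split_ifs
    · exact le_refl _
    · positivity
  have hcop : ∀ k ∈ K, N.Coprime k := fun k hk => (Finset.mem_filter.1 hk).2
  have h1 : ∀ k ∈ K, ∑ g, F (g ^ k) = ∑ g, F g := fun k hk => sum_pow_coprime F (hcop k hk)
  have h2 : ∑ k ∈ K, ∑ g, F (g ^ k) = (K.card : ℝ) * ∑ g, F g := by
    rw [Finset.sum_congr rfl h1]; simp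
  have h3 : K.card = Nat.totient N := (Nat.totient_eq_card_coprime N).symm
  rw [Finset.sum_comm] at h2
  have h4 : ∀ g : G, (if g ∉ H ∧ ρ.character g ≠ 0 then (Nat.totient N : ℝ) else 0) ≤
      ∑ k ∈ K, F (g ^ k) := by
    intro g
    split_ifs with hg
    · calc (Nat.totient N : ℝ) ≤ ∑ k ∈ K, ‖ρ.character (g ^ k)‖ ^ 2 :=
          totient_le_sum_norm_sq_char ρ g hg.2
        _ = ∑ k ∈ K, F (g ^ k) := by
          refine Finset.sum_congr rfl (fun k hk => ?_)
          simp only [hF]
          rw [if_neg]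
          rw [pow_mem_iff H (hcop k hk) g]
          exact hg.1
    · exact Finset.sum_nonneg (fun k _ => hFnn _)
  have h5 := Finset.sum_le_sum (fun g (_ : g ∈ Finset.univ) => h4 g)
  rw [sum_ite_const, h2, h3] at h5
  have hpos : (0 : ℝ) < (Nat.totient N : ℝ) := by
    have : 0 < Nat.totient N := Nat.totient_pos.2 Fintype.card_pos
    exact_mod_cast this
  rw [mul_comm] at h5
  exact le_of_mul_le_mul_left h5 hpos

end


/-- Let H be a subgroup of the finite group G and χ an irreducible complex character of G. Then the inner product of the restriction of χ to H with itself, (1/#H)·Σ_{h ∈ H} |χ(h)|², is at most 1 + #(Z ∖ H)/#H, where Z is the set of zeros of χ in G. -/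
theorem result {G : Type*} [Group G] [Finite G] (H : Subgroup G) (χ : Cfsg.IrrCharacter G) : (Nat.card ↥H : ℝ)⁻¹ * ∑ᶠ h : ↥H, ‖(χ : G → ℂ) h‖ ^ 2 ≤ 1 + (Set.ncard ({x : G | (χ : G → ℂ) x = 0} \ (H : Set G)) : ℝ) / (Nat.card ↥H : ℝ) := by
  classical
  haveI := Fintype.ofFinite G
  obtain ⟨n, ρ, hirr, hρ⟩ := χ.2
  haveI := hirr
  have hHpos : (0 : ℝ) < (Nat.card ↥H : ℝ) := by exact_mod_cast Nat.card_pos
  rw [finsum_eq_sum_of_fintype, ← hρ]
  -- total sum
  have htot := sum_norm_sq_char ρ
  have hsplit : ∑ g : G, ‖ρ.character g‖ ^ 2 =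
      (∑ g : G, if g ∈ H then ‖ρ.character g‖ ^ 2 else 0) +
        ∑ g : G, if g ∈ H then 0 else ‖ρ.character g‖ ^ 2 := by
    rw [← Finset.sum_add_distrib]
    refine Finset.sum_congr rfl (fun g _ => ?_)
    split_ifs <;> simp
  have hH : (∑ g : G, if g ∈ H then ‖ρ.character g‖ ^ 2 else 0) =
      ∑ h : ↥H, ‖ρ.character (h : G)‖ ^ 2 := by
    rw [← Finset.sum_filter]
    exact Finset.sum_subtype (Finset.univ.filter (· ∈ H)) (by simp) _
  have hnz := card_nonzero_le ρ H
  -- counting the complement of H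
  have hcount : (Finset.univ.filter (fun g : G => g ∉ H ∧ ρ.character g ≠ 0)).card +
      (Finset.univ.filter (fun g : G => g ∉ H ∧ ρ.character g = 0)).card + Nat.card ↥H =
        Fintype.card G := by
    have h1 : (Finset.univ.filter (fun g : G => g ∉ H ∧ ρ.character g ≠ 0)).card +
        (Finset.univ.filter (fun g : G => g ∉ H ∧ ρ.character g = 0)).card =
        (Finset.univ.filter (fun g : G => g ∉ H)).card := by
      rw [← Finset.card_union_of_disjoint]
      · congr 1
        ext g
        simp only [Finset.mem_union, Finset.mem_filter, Finset.mem_univ, true_and]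
        tauto
      · rw [Finset.disjoint_filter]
        intro g _ h1 h2
        exact h1.2 h2.2
    rw [h1]
    have h2 : (Finset.univ.filter (fun g : G => g ∉ H)).card +
        (Finset.univ.filter (fun g : G => g ∈ H)).card = Fintype.card G := by
      rw [add_comm]
      exact Finset.card_filter_add_card_filter_not (s := (Finset.univ : Finset G)) (· ∈ H)
    have h3 : (Finset.univ.filter (fun g : G => g ∈ H)).card = Nat.card ↥H := by
      rw [Nat.card_eq_fintype_card, Fintype.card_subtype]
    rw [← h3]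
    exact h2
  have hZ : Set.ncard ({x : G | ρ.character x = 0} \ (H : Set G)) =
      (Finset.univ.filter (fun g : G => g ∉ H ∧ ρ.character g = 0)).card := by
    rw [← Set.ncard_coe_finset]
    congr 1
    ext g
    simp only [Set.mem_diff, Set.mem_setOf_eq, SetLike.mem_coe, Finset.coe_filter,
      Finset.mem_univ, true_and]
    tauto
  rw [hZ]
  have hcountR : ((Finset.univ.filter (fun g : G => g ∉ H ∧ ρ.character g ≠ 0)).card : ℝ) +
      ((Finset.univ.filter (fun g : G => g ∉ H ∧ ρ.character g = 0)).card : ℝ) +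
        (Nat.card ↥H : ℝ) = (Fintype.card G : ℝ) := by exact_mod_cast hcount
  have hmain : ∑ h : ↥H, ‖ρ.character (h : G)‖ ^ 2 ≤ (Nat.card ↥H : ℝ) +
      ((Finset.univ.filter (fun g : G => g ∉ H ∧ ρ.character g = 0)).card : ℝ) := by
    rw [← hH]
    linarith
  rw [inv_mul_le_iff₀ hHpos]
  calc ∑ h : ↥H, ‖ρ.character (h : G)‖ ^ 2 ≤ (Nat.card ↥H : ℝ) +
      ((Finset.univ.filter (fun g : G => g ∉ H ∧ ρ.character g = 0)).card : ℝ) := hmain
    _ = (Nat.card ↥H : ℝ) * (1 + ((Finset.univ.filter
          (fun g : G => g ∉ H ∧ ρ.character g = 0)).card : ℝ) / (Nat.card ↥H : ℝ)) := by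
      field_simp

end Cfsg.Agent.S4989
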