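import Cfsg.Statements.S4996
import Cfsg.Agent.S0868
import Cfsg.Agent.Lib.Helper81_CycloAMGM
import Cfsg.Agent.Lib.Helper76_CharZeros

set_option autoImplicit false
open Cfsg

namespace Cfsg.Agent.S4996


open scoped ComplexConjugate
open Cfsg.Agent.Lib.Helper3_CharBridge Cfsg.Agent.Lib.Helper3_CharOrtho
  Cfsg.Agent.Lib.Helper3_CharComplete Cfsg.Agent.Lib.Helper75_CharArith
  Cfsg.Agent.Lib.Helper75_Induced Cfsg.Agent.Lib.Helper75_Clifford
  Cfsg.Agent.Lib.Helper75_CharProd Cfsg.Agent.Lib.Helper81_CosetAvg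
  Cfsg.Agent.Lib.Helper81_CycloAMGM

section
variable {G : Type*} [Group G] [Fintype G] (N : Subgroup G) [N.Normal] [Fintype N]

/-- the coset average of a character is a character -/
theorem isCharacter_avg {Θ : G → ℂ} (hΘ : Cfsg.IsCharacter G Θ) :
    Cfsg.IsCharacter G (avg N Θ) := by
  classical
  rw [avg_eq_sum N (isClassFunction_of_isCharacter hΘ)]
  apply isCharacter_sum
  intro β _
  obtain ⟨m, hm⟩ := classInner_isCharacter_nat hΘ (isCharacter_of_isIrrCharacter β.2)
  by_cases hk : KerCond N (β : G → ℂ)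
  · rw [if_pos hk, hm]
    have : ((m : ℂ) • (β : G → ℂ)) = m • (β : G → ℂ) := by
      funext g
      simp
    rw [this]
    exact isCharacter_nsmul m (isCharacter_of_isIrrCharacter β.2)
  · rw [if_neg hk, zero_smul]
    exact isCharacter_zero

end

/-- Let N be a normal subgroup of the finite group G and χ an irreducible complex character of G. Then the restriction of χ to N is not irreducible if and only if χ vanishes on some whole coset Nx of N in G. -/
theorem result {G : Type*} [Group G] [Finite G] (N : Subgroup G) [N.Normal] (χ : Cfsg.IrrCharacter G) : ¬ Cfsg.IsIrrCharacter ↥N (fun n : ↥N => (χ : G → ℂ) n) ↔ ∃ x : G, ∀ n : ↥N, (χ : G → ℂ) ((n : G) * x) = 0 := by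
  classical
  haveI := Fintype.ofFinite G
  haveI : Fintype N := Fintype.ofFinite N
  have hχ := χ.2
  have hχc : Cfsg.IsCharacter G (χ : G → ℂ) := isCharacter_of_isIrrCharacter hχ
  have hN0 : (Nat.card N : ℝ) ≠ 0 := by
    rw [Nat.cast_ne_zero]; exact Nat.card_pos.ne'
  have hN0' : (0 : ℝ) < (Nat.card N : ℝ) := by
    exact_mod_cast Nat.card_pos
  constructor
  · intro hred
    by_contra hno
    have hno' : ∀ x : G, ∃ n : ↥N, (χ : G → ℂ) ((n : G) * x) ≠ 0 := by
      intro x
      by_contra h
      apply hno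
      refine ⟨x, fun n => ?_⟩
      by_contra h2
      exact h ⟨n, h2⟩
    -- the averaged character
    set Θ : G → ℂ := (χ : G → ℂ) * (fun g => conj ((χ : G → ℂ) g)) with hΘdef
    have hΘ : Cfsg.IsCharacter G Θ := isCharacter_mul hχc (isCharacter_conj hχc)
    obtain ⟨k, ρ, hρ⟩ := isCharacter_avg N hΘ
    -- real form
    set b : G → ℝ := fun g =>
      (Nat.card N : ℝ)⁻¹ * ∑ n : ↥N, Complex.normSq ((χ : G → ℂ) ((n : G) * g)) with hbdef
    have hab : ∀ g : G, ρ.character g = ((b g : ℝ) : ℂ) := by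
      intro g
      rw [hρ]
      show (Nat.card N : ℂ)⁻¹ * ∑ n : ↥N, Θ ((n : G) * g) = _
      rw [hbdef]
      push_cast
      congr 1
      refine Finset.sum_congr rfl fun n _ => ?_
      rw [hΘdef, Pi.mul_apply, Complex.mul_conj]
    have hb_nonneg : ∀ g : G, 0 ≤ b g := by
      intro g
      rw [hbdef]
      apply mul_nonneg (inv_nonneg.mpr hN0'.le)
      exact Finset.sum_nonneg fun n _ => Complex.normSq_nonneg _
    have hb_pos : ∀ g : G, 0 < b g := by
      intro g
      obtain ⟨n, hn⟩ := hno' g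
      rw [hbdef]
      apply mul_pos (inv_pos.mpr hN0')
      apply Finset.sum_pos'
      · intro n _; exact Complex.normSq_nonneg _
      · exact ⟨n, Finset.mem_univ _, Complex.normSq_pos.mpr hn⟩
    have hnorm : ∀ g : G, ‖ρ.character g‖ = b g := by
      intro g
      rw [hab g, Complex.norm_real, Real.norm_eq_abs, abs_of_nonneg (hb_nonneg g)]
    have hne : ∀ g : G, ρ.character g ≠ 0 := by
      intro g h0
      have := hnorm g
      rw [h0, norm_zero] at this
      exact (hb_pos g).ne this
    have hineq := card_sub_one_add_le_sum_norm ρ hne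
    simp_rw [hnorm] at hineq
    -- total sum
    have hS : ∑ g : G, Complex.normSq ((χ : G → ℂ) g) = (Fintype.card G : ℝ) := by
      obtain ⟨k', ρ', hρ'irr, hρ'⟩ := hχ
      haveI := hρ'irr
      have := Cfsg.Agent.Lib.Helper76_CharZeros.sum_norm_sq_char ρ'
      rw [← this, ← hρ']
      refine Finset.sum_congr rfl fun g _ => ?_
      rw [Complex.normSq_eq_norm_sq]
    have hsum : ∑ g : G, b g = (Fintype.card G : ℝ) := by
      rw [hbdef]
      rw [← Finset.mul_sum, Finset.sum_comm]
      have : ∀ n : ↥N, ∑ g : G, Complex.normSq ((χ : G → ℂ) ((n : G) * g)) =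
          (Fintype.card G : ℝ) := by
        intro n
        rw [← hS]
        exact Equiv.sum_comp (Equiv.mulLeft (n : G)) (fun g => Complex.normSq ((χ : G → ℂ) g))
      simp_rw [this]
      rw [Finset.sum_const, Finset.card_univ, nsmul_eq_mul, ← Nat.card_eq_fintype_card (α := ↥N)]
      field_simp
    rw [hsum] at hineq
    -- the value at 1
    have hres : Cfsg.IsCharacter ↥N (fun n : ↥N => (χ : G → ℂ) n) := isCharacter_restrict N hχc
    obtain ⟨r, hr⟩ := classInner_isCharacter_nat hres hres
    have hb1 : ((b 1 : ℝ) : ℂ) = (r : ℂ) := by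
      rw [← hr]
      unfold Cfsg.classInner
      rw [hbdef]
      push_cast
      congr 1
      refine Finset.sum_congr rfl fun n _ => ?_
      rw [mul_one, Complex.mul_conj]
    have hb1' : b 1 = (r : ℝ) := by exact_mod_cast hb1
    have hr2 : 2 ≤ r := by
      by_contra hlt
      have hr01 : r = 0 ∨ r = 1 := by omega
      rcases hr01 with h0 | h1
      · rw [h0, Nat.cast_zero] at hr
        refine classInner_self_ne_zero (f := fun n : ↥N => (χ : G → ℂ) n) ?_ hr
        exact irr_one_ne_zero hχ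
      · rw [h1, Nat.cast_one] at hr
        exact hred (isIrrCharacter_of_classInner_self hres hr)
    rw [hb1'] at hineq
    have : (2 : ℝ) ≤ (r : ℝ) := by exact_mod_cast hr2
    linarith
  · rintro ⟨x, hx⟩ hirr
    have h := (Cfsg.Agent.S0868.result N (χ : G → ℂ) hχ hirr (χ : G → ℂ) hχ _ rfl).2.2 rfl
    have h1 : (Nat.card ↥N : ℂ)⁻¹ * ∑ n : ↥N, (χ : G → ℂ) ((n : G) * x) * conj ((χ : G → ℂ) ((n : G) * x)) = 1 := congrFun h x
    have h2 : ∑ n : ↥N, (χ : G → ℂ) ((n : G) * x) * conj ((χ : G → ℂ) ((n : G) * x)) = 0 := by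
      apply Finset.sum_eq_zero
      intro n _
      rw [hx n, zero_mul]
    rw [h2, mul_zero] at h1
    exact zero_ne_one h1

end Cfsg.Agent.S4996
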