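import Cfsg.Statements.S5005
import Cfsg.Agent.Lib.Helper61_M22Blk
import Cfsg.Agent.Lib.Helper61_RobinsonZero
import Cfsg.Agent.Lib.Helper61_OneBlock

set_option autoImplicit false
open Cfsg

namespace Cfsg.Agent.S5005

open Cfsg.Agent.Lib.Helper61_M22Blk Cfsg.Agent.Lib.Helper61_RobinsonZero
  Cfsg.Agent.Lib.Helper61_DCoset Cfsg.Agent.Lib.Helper79_RobinsonFormula
  Cfsg.Agent.Lib.Helper79_RobinsonTerm Cfsg.Agent.Lib.Helper80_CharBasic

theorem isPGroup_S : IsPGroup 2 S := Syl.isPGroup'

/-- the pair counts of classes with centralisers of odd order are divisible by `2 |S|` -/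
theorem hdiv (x y : Gm) (hx : HasSylow 2 (⊥ : Subgroup Gm) x)
    (hy : HasSylow 2 (⊥ : Subgroup Gm) y) :
    2 * Nat.card (Syl : Subgroup Gm) ∣ pairCount (Syl : Subgroup Gm) x y := by
  have hx' := not_dvd_of_hasSylow_bot hx
  have hy' := not_dvd_of_hasSylow_bot hy
  rw [coe_Syl]
  apply dvd_pairCount 2 S isPGroup_S x y (free_of_not_dvd S isPGroup_S hx')
    (free_of_not_dvd S isPGroup_S hy')
  intro g hg
  obtain ⟨k, hk, a, ha, b, hb, rfl⟩ := reg g hg
  rw [cnt_mul_right S x _ hb, cnt_mul_left S x _ ha]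
  exact Dvd.dvd.mul_right (cnt_even hk x hx') _

/-- the centraliser of the central involution has a single block -/
theorem hC0 (M : Ideal Cfsg.AlgInt) (hM : Cfsg.IsPModular 2 M)
    (ψ : IrrCharacter (Subgroup.centralizer ({sA 70} : Set Gm))) :
    SameBlock M (fun _ : Subgroup.centralizer ({sA 70} : Set Gm) => (1 : ℂ))
      (ψ : Subgroup.centralizer ({sA 70} : Set Gm) → ℂ) := by
  have hcomm : ∀ g : Subgroup.centralizer ({sA 70} : Set Gm), (g : Gm) * sA 70 = sA 70 * g := by
    intro g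
    have := g.2
    rw [Subgroup.mem_centralizer_iff] at this
    exact (this (sA 70) (Set.mem_singleton _)).symm
  have hEC : ∀ n ∈ E, n ∈ Subgroup.centralizer ({sA 70} : Set Gm) := by
    rintro _ ⟨e, he, -, rfl⟩
    rw [Subgroup.mem_centralizer_iff]
    intro z hz
    rw [Set.mem_singleton_iff] at hz
    subst hz
    exact (central70 he).symm
  have hQn : (E.subgroupOf (Subgroup.centralizer ({sA 70} : Set Gm))).Normal := by
    constructor
    intro n hn g
    rw [Subgroup.mem_subgroupOf] at hn ⊢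
    exact E_normal g (hcomm g) n hn
  have hQ : IsPGroup 2 (E.subgroupOf (Subgroup.centralizer ({sA 70} : Set Gm))) := by
    intro q
    obtain ⟨k, hk⟩ := isPGroup_S ⟨(q : Subgroup.centralizer ({sA 70} : Set Gm)),
      E_le_S (Subgroup.mem_subgroupOf.1 q.2)⟩
    refine ⟨k, ?_⟩
    have hk' : ((q : Subgroup.centralizer ({sA 70} : Set Gm)) : Gm) ^ 2 ^ k = 1 :=
      congrArg Subtype.val hk
    apply Subtype.ext
    apply Subtype.ext
    exact hk'
  have hcen : Subgroup.centralizer
      ((E.subgroupOf (Subgroup.centralizer ({sA 70} : Set Gm)) : Subgroup _) : Set _) ≤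
      E.subgroupOf (Subgroup.centralizer ({sA 70} : Set Gm)) := by
    intro g hg
    rw [Subgroup.mem_subgroupOf]
    rw [Subgroup.mem_centralizer_iff] at hg
    apply E_selfcent g (hcomm g)
    intro n hn
    have h1 := hg ⟨n, hEC n hn⟩ (Subgroup.mem_subgroupOf.2 hn)
    exact (congrArg Subtype.val h1).symm
  exact single_block_of_selfcent 2 M hM _ hQn hQ hcen (oneIrr _) ψ

/-- All irreducible complex characters of the Mathieu group `M₂₂` lie in a single 2-block: any two of them lie in the same block relative to every maximal ideal of the algebraic integers containing 2. -/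
theorem result (M : Ideal Cfsg.AlgInt) (hM : Cfsg.IsPModular 2 M)
    (χ ψ : Cfsg.IrrCharacter ↥Cfsg.Spor.M22) : Cfsg.SameBlock M (χ : ↥Cfsg.Spor.M22 → ℂ) (ψ : ↥Cfsg.Spor.M22 → ℂ) := by
  apply Cfsg.Agent.Lib.Helper61_OneBlock.single_block hM
  · intro t ht ψ'
    obtain ⟨c, hc⟩ := isConj_iff.1 (invol_conj t ht)
    have hc' : c⁻¹ * sA 70 * c⁻¹⁻¹ = t := by
      rw [← hc]
      group
    exact sameBlock_one_of_conj (sA 70) t c⁻¹ hc' (hC0 M hM) ψ'
  · intro B hB
    exact no_defect_zero hM Syl hdiv B hB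

end Cfsg.Agent.S5005
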