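import Cfsg.Statements.S5006
-- import your own Cfsg.Agent.* helpers here
import Cfsg.Agent.Lib.Helper61_M24Blk4
import Cfsg.Agent.Lib.Helper61_RobinsonZero
import Cfsg.Agent.Lib.Helper61_OneBlock

set_option autoImplicit false
open Cfsg

namespace Cfsg.Agent.S5006

open Cfsg.Agent.Lib.Helper61_M24Blk Cfsg.Agent.Lib.Helper61_RobinsonZero
  Cfsg.Agent.Lib.Helper61_DCoset Cfsg.Agent.Lib.Helper79_RobinsonFormula
  Cfsg.Agent.Lib.Helper79_RobinsonTerm Cfsg.Agent.Lib.Helper80_CharBasic

/-- the pair counts of classes with centralisers of odd order are divisible by `2 |S|` -/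
theorem hdiv (x y : Gm) (hx : HasSylow 2 (⊥ : Subgroup Gm) x)
    (hy : HasSylow 2 (⊥ : Subgroup Gm) y) :
    2 * Nat.card (Syl : Subgroup Gm) ∣ pairCount (Syl : Subgroup Gm) x y := by
  have hx' := not_dvd_of_hasSylow_bot hx
  have hy' := not_dvd_of_hasSylow_bot hy
  rw [coe_Syl]
  exact dvd_pairCount_sum 2 S isPGroup_S x y (free_of_not_dvd S isPGroup_S hx')
    (free_of_not_dvd S isPGroup_S hy') 163 gK reg (fun k hk k' hk' h => gK_disj hk hk' h)
    (fun k hk => gK_reg hk) (hsum x y hx' hy')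

/-- the centraliser of an involution of the Sylow subgroup with a normal self-centralising
2-subgroup has a single block -/
theorem hC_of (c0 : ℕ) (Q : Subgroup Gm) (hle : Q ≤ S)
    (hcommQ : ∀ n ∈ Q, n * sA c0 = sA c0 * n)
    (hnorm : ∀ g : Gm, g * sA c0 = sA c0 * g → ∀ n ∈ Q, g * n * g⁻¹ ∈ Q)
    (hself : ∀ g : Gm, g * sA c0 = sA c0 * g → (∀ n ∈ Q, g * n = n * g) → g ∈ Q)
    (M : Ideal Cfsg.AlgInt) (hM : Cfsg.IsPModular 2 M)
    (ψ : IrrCharacter (Subgroup.centralizer ({sA c0} : Set Gm))) :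
    SameBlock M (fun _ : Subgroup.centralizer ({sA c0} : Set Gm) => (1 : ℂ))
      (ψ : Subgroup.centralizer ({sA c0} : Set Gm) → ℂ) := by
  have hcomm : ∀ g : Subgroup.centralizer ({sA c0} : Set Gm), (g : Gm) * sA c0 = sA c0 * g := by
    intro g
    have := g.2
    rw [Subgroup.mem_centralizer_iff] at this
    exact (this (sA c0) (Set.mem_singleton _)).symm
  have hEC : ∀ n ∈ Q, n ∈ Subgroup.centralizer ({sA c0} : Set Gm) := by
    intro n hn
    rw [Subgroup.mem_centralizer_iff]
    intro z hz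
    rw [Set.mem_singleton_iff] at hz
    subst hz
    exact (hcommQ n hn).symm
  have hQn : (Q.subgroupOf (Subgroup.centralizer ({sA c0} : Set Gm))).Normal := by
    constructor
    intro n hn g
    rw [Subgroup.mem_subgroupOf] at hn ⊢
    exact hnorm g (hcomm g) n hn
  have hQ : IsPGroup 2 (Q.subgroupOf (Subgroup.centralizer ({sA c0} : Set Gm))) := by
    intro q
    obtain ⟨k, hk⟩ := isPGroup_S ⟨(q : Subgroup.centralizer ({sA c0} : Set Gm)),
      hle (Subgroup.mem_subgroupOf.1 q.2)⟩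
    refine ⟨k, ?_⟩
    have hk' : ((q : Subgroup.centralizer ({sA c0} : Set Gm)) : Gm) ^ 2 ^ k = 1 :=
      congrArg Subtype.val hk
    apply Subtype.ext
    apply Subtype.ext
    exact hk'
  have hcen : Subgroup.centralizer
      ((Q.subgroupOf (Subgroup.centralizer ({sA c0} : Set Gm)) : Subgroup _) : Set _) ≤
      Q.subgroupOf (Subgroup.centralizer ({sA c0} : Set Gm)) := by
    intro g hg
    rw [Subgroup.mem_subgroupOf]
    rw [Subgroup.mem_centralizer_iff] at hg
    apply hself g (hcomm g)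
    intro n hn
    have h1 := hg ⟨n, hEC n hn⟩ (Subgroup.mem_subgroupOf.2 hn)
    exact (congrArg Subtype.val h1).symm
  exact single_block_of_selfcent 2 M hM _ hQn hQ hcen (oneIrr _) ψ

/-- All irreducible complex characters of the Mathieu group `M₂₄` lie in a single 2-block: any two of them lie in the same block relative to every maximal ideal of the algebraic integers containing 2. -/
theorem result (M : Ideal Cfsg.AlgInt) (hM : Cfsg.IsPModular 2 M)
    (χ ψ : Cfsg.IrrCharacter ↥Cfsg.M24) : Cfsg.SameBlock M (χ : ↥Cfsg.M24 → ℂ) (ψ : ↥Cfsg.M24 → ℂ) := by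
  apply Cfsg.Agent.Lib.Helper61_OneBlock.single_block hM
  · intro t ht ψ'
    rcases invol_conj t ht with h | h
    · obtain ⟨c, hc⟩ := isConj_iff.1 h
      have hc' : c⁻¹ * sA 12 * c⁻¹⁻¹ = t := by
        rw [← hc]
        group
      exact sameBlock_one_of_conj (sA 12) t c⁻¹ hc'
        (hC_of 12 QA QA_le_S QA_comm QA_normal QA_selfcent M hM) ψ'
    · obtain ⟨c, hc⟩ := isConj_iff.1 h
      have hc' : c⁻¹ * sA 401 * c⁻¹⁻¹ = t := by
        rw [← hc]
        group
      exact sameBlock_one_of_conj (sA 401) t c⁻¹ hc'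
        (hC_of 401 QB QB_le_S QB_comm QB_normal QB_selfcent M hM) ψ'
  · intro B hB
    exact no_defect_zero hM Syl hdiv B hB

end Cfsg.Agent.S5006
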