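import Cfsg.Statements.S5011

set_option autoImplicit false
open Cfsg

namespace Cfsg.Agent.S5011

theorem result {G : Type*} [Group G] [Finite G] [IsSimpleGroup G]
    (hG : ¬ IsMulCommutative G) {V : Type*} [AddCommGroup V] [Module ℂ V] [FiniteDimensional ℂ V]
    (ρ : Representation ℂ G V)
    (hirr : ∀ W : Submodule ℂ V, (∀ x : G, ∀ v ∈ W, ρ x v ∈ W) → W = ⊥ ∨ W = ⊤)
    (hdim : 1 < Module.finrank ℂ V) (g : G) (hg : g ≠ 1) :
    ∃ W : Submodule ℂ V, W ≠ ⊥ ∧ W ≠ ⊤ ∧ ∀ c ∈ Subgroup.centralizer ({g} : Set G), ∀ v ∈ W, ρ c v ∈ W := by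
  have hnt : Nontrivial V := Module.nontrivial_of_finrank_pos (R := ℂ) (by omega)
  obtain ⟨μ, hμ⟩ := Module.End.exists_eigenvalue (ρ g)
  refine ⟨Module.End.eigenspace (ρ g) μ, hμ, ?_, ?_⟩
  · intro htop
    -- ρ g is the scalar μ
    have hscal : ∀ v : V, ρ g v = μ • v := by
      intro v
      have : v ∈ Module.End.eigenspace (ρ g) μ := by rw [htop]; exact Submodule.mem_top
      exact Module.End.mem_eigenspace_iff.mp this
    -- so ρ g commutes with everything, and commutators with g lie in the kernel
    have hker : ∀ x : G, g * x * g⁻¹ * x⁻¹ ∈ (ρ : G →* (V →ₗ[ℂ] V)).ker := by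
      intro x
      rw [MonoidHom.mem_ker]
      have hcomm : ρ g * ρ x = ρ x * ρ g := by
        ext v
        simp only [Module.End.mul_apply]
        rw [hscal, hscal, map_smul]
      have hinv : ρ g * ρ g⁻¹ = 1 := by rw [← map_mul, mul_inv_cancel, map_one]
      have hinvx : ρ x * ρ x⁻¹ = 1 := by rw [← map_mul, mul_inv_cancel, map_one]
      rw [map_mul, map_mul, map_mul, hcomm, mul_assoc (ρ x), hinv, mul_one, hinvx]
    have hKn : ((ρ : G →* (V →ₗ[ℂ] V)).ker).Normal := MonoidHom.normal_ker _
    rcases hKn.eq_bot_or_eq_top with hK | hK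
    · -- kernel trivial: g is central
      have hcent : g ∈ Subgroup.center G := by
        rw [Subgroup.mem_center_iff]
        intro x
        have := hker x
        rw [hK, Subgroup.mem_bot] at this
        have e : g * x = (g * x * g⁻¹ * x⁻¹) * (x * g) := by group
        rw [e, this, one_mul]
      have hZn : (Subgroup.center G).Normal := inferInstance
      rcases hZn.eq_bot_or_eq_top with hZ | hZ
      · rw [hZ, Subgroup.mem_bot] at hcent
        exact hg hcent
      · apply hG
        refine ⟨⟨fun a b => ?_⟩⟩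
        have : a ∈ Subgroup.center G := by rw [hZ]; exact Subgroup.mem_top a
        exact (Subgroup.mem_center_iff.mp this b).symm
    · -- kernel everything: every line is invariant
      have htriv : ∀ x : G, ρ x = 1 := by
        intro x
        have : x ∈ (ρ : G →* (V →ₗ[ℂ] V)).ker := by rw [hK]; exact Subgroup.mem_top x
        exact MonoidHom.mem_ker.mp this
      obtain ⟨v, hv⟩ := exists_ne (0 : V)
      have hinv : ∀ x : G, ∀ w ∈ Submodule.span ℂ ({v} : Set V), ρ x w ∈ Submodule.span ℂ ({v} : Set V) := by
        intro x w hw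
        rw [htriv x]; exact hw
      rcases hirr _ hinv with h1 | h1
      · rw [Submodule.span_singleton_eq_bot] at h1
        exact hv h1
      · have h2 : Module.finrank ℂ (Submodule.span ℂ ({v} : Set V)) = 1 := finrank_span_singleton hv
        rw [h1, finrank_top] at h2
        omega
  · intro c hc v hv
    rw [Module.End.mem_eigenspace_iff] at hv ⊢
    have hcg : c * g = g * c := by
      have := Subgroup.mem_centralizer_iff.mp hc g (Set.mem_singleton g)
      exact this.symm
    have : ρ g (ρ c v) = ρ c (ρ g v) := by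
      rw [← Module.End.mul_apply, ← Module.End.mul_apply, ← map_mul, ← map_mul, hcg]
    rw [this, hv, map_smul]

end Cfsg.Agent.S5011
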