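import Cfsg.Statements.S5015
import Cfsg.Agent.Lib.Helper83_RankOne

set_option autoImplicit false
open Cfsg

namespace Cfsg.Agent.S5015

open Cfsg.Agent.Lib.Helper83_RankOne

variable {Y Ω : Type*} [Group Y] [MulAction Y Ω]

/-- The hypotheses on the pair `(α, A)`. -/
structure Data (α : Ω) (A : Subgroup Y) : Prop where
  le : A ≤ MulAction.stabilizer Y α
  norm : ∀ y ∈ MulAction.stabilizer Y α, Cfsg.conjBy A y = A
  reg : ∀ β γ : Ω, β ≠ α → γ ≠ α → ∃! a : Y, a ∈ A ∧ a • β = γ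

theorem Data.conj {α : Ω} {A : Subgroup Y} (d : Data α A) (y : Y) :
    Data (y • α) (Cfsg.conjBy A y) where
  le := by
    intro x hx
    rw [mem_conjBy_iff] at hx
    have := d.le hx
    rw [MulAction.mem_stabilizer_iff] at this ⊢
    have e : x • y • α = y • (y⁻¹ * x * y) • α := by
      simp only [← mul_smul]; congr 1; group
    rw [e, this]
  norm := by
    intro z hz
    rw [MulAction.mem_stabilizer_iff] at hz
    rw [conjBy_mul]
    have e : z * y = y * (y⁻¹ * z * y) := by group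
    rw [e, ← conjBy_mul]
    congr 1
    apply d.norm
    rw [MulAction.mem_stabilizer_iff]
    have : (y⁻¹ * z * y) • α = y⁻¹ • z • y • α := by simp only [← mul_smul, mul_assoc]
    rw [this, hz, ← mul_smul, inv_mul_cancel, one_smul]
  reg := by
    intro β γ hβ hγ
    have hβ' : y⁻¹ • β ≠ α := by
      intro h; apply hβ; rw [← h, ← mul_smul, mul_inv_cancel, one_smul]
    have hγ' : y⁻¹ • γ ≠ α := by
      intro h; apply hγ; rw [← h, ← mul_smul, mul_inv_cancel, one_smul]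
    obtain ⟨a, ⟨ha, hab⟩, huniq⟩ := d.reg _ _ hβ' hγ'
    refine ⟨y * a * y⁻¹, ⟨conj_mem_conjBy ha y, ?_⟩, ?_⟩
    · have : (y * a * y⁻¹) • β = y • a • y⁻¹ • β := by simp only [← mul_smul, mul_assoc]
      rw [this, hab, ← mul_smul, mul_inv_cancel, one_smul]
    · rintro b ⟨hb, hbβ⟩
      rw [mem_conjBy_iff] at hb
      have h1 : (y⁻¹ * b * y) • y⁻¹ • β = y⁻¹ • γ := by
        have : (y⁻¹ * b * y) • y⁻¹ • β = y⁻¹ • b • β := by
          simp only [← mul_smul]; congr 1; group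
        rw [this, hbβ]
      have := huniq _ ⟨hb, h1⟩
      rw [← this]; group

theorem Data.conjBy_eq {α : Ω} {A : Subgroup Y} (d : Data α A) {g g' : Y} (h : g • α = g' • α) :
    Cfsg.conjBy A g = Cfsg.conjBy A g' := by
  have e : g' = g * (g⁻¹ * g') := by group
  rw [e, ← conjBy_mul]
  congr 1
  symm
  apply d.norm
  rw [MulAction.mem_stabilizer_iff, mul_smul, ← h, ← mul_smul, inv_mul_cancel, one_smul]

theorem Data.smul_ne_of_ne_one {α : Ω} {A : Subgroup Y} (d : Data α A) {a : Y} (ha : a ∈ A)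
    (ha1 : a ≠ 1) {β : Ω} (hβ : β ≠ α) : a • β ≠ β := by
  intro h
  obtain ⟨c, _, huniq⟩ := d.reg β β hβ hβ
  have h1 := huniq a ⟨ha, h⟩
  have h2 := huniq 1 ⟨one_mem _, one_smul _ _⟩
  exact ha1 (h1.trans h2.symm)

theorem Data.cond {α : Ω} {A : Subgroup Y} (d : Data α A) {y : Y} (hy : y • α ≠ α) :
    Cfsg.RankOneCondition A (Cfsg.conjBy A y) := by
  intro a ha ha1
  have dB := d.conj y
  have hainv : a⁻¹ ∈ A := inv_mem ha
  have hainv1 : a⁻¹ ≠ 1 := by simpa using ha1
  have h1 : a⁻¹ • y • α ≠ y • α := d.smul_ne_of_ne_one hainv hainv1 hy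
  have hfix : a⁻¹ • α = α := MulAction.mem_stabilizer_iff.mp (d.le hainv)
  have h2 : a⁻¹ • y • α ≠ α := by
    intro h
    apply hy
    have : y • α = a • a⁻¹ • y • α := by rw [← mul_smul, mul_inv_cancel, one_smul]
    rw [this, h]
    have := MulAction.mem_stabilizer_iff.mp (d.le ha)
    exact this
  obtain ⟨b', ⟨hb', hb'α⟩, -⟩ := dB.reg α (a⁻¹ • y • α) (Ne.symm hy) h1
  refine ⟨b'⁻¹, inv_mem hb', ?_, ?_⟩
  · intro h
    rw [inv_eq_one] at h
    rw [h, one_smul] at hb'α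
    exact h2 hb'α.symm
  · rw [inv_inv, conjBy_mul]
    apply d.conjBy_eq
    rw [hb'α, mul_smul]

theorem exists_third (hΩ : 3 ≤ ENat.card Ω) (α β : Ω) : ∃ γ : Ω, γ ≠ α ∧ γ ≠ β := by
  by_contra hcon
  push Not at hcon
  have hsub : (Set.univ : Set Ω) ⊆ {α, β} := by
    intro γ _
    by_cases h : γ = α
    · left; exact h
    · right; exact hcon γ h
  have hpair : ({α, β} : Set Ω).encard ≤ 2 := by
    refine (Set.encard_insert_le _ _).trans ?_
    rw [Set.encard_singleton]; norm_num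
  have h1 : (Set.univ : Set Ω).encard ≤ 2 := (Set.encard_le_encard hsub).trans hpair
  rw [Set.encard_univ] at h1
  have : (3 : ℕ∞) ≤ 2 := hΩ.trans h1
  exact absurd this (by decide)

theorem result {Y Ω : Type*} [Group Y] [MulAction Y Ω]
    (h2 : MulAction.IsMultiplyPretransitive Y Ω 2) (hΩ : 3 ≤ ENat.card Ω) (α : Ω) (A : Subgroup Y)
    (hA : A ≤ MulAction.stabilizer Y α) (hAn : ∀ y ∈ MulAction.stabilizer Y α, Cfsg.conjBy A y = A)
    (hnil : Group.IsNilpotent A) (hreg : ∀ β γ : Ω, β ≠ α → γ ≠ α → ∃! a : Y, a ∈ A ∧ a • β = γ)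
    (y : Y) (hy : y ∉ MulAction.stabilizer Y α) :
    Cfsg.IsRankOnePair A (Cfsg.conjBy A y) ∧ Subgroup.normalClosure (A : Set Y) = A ⊔ Cfsg.conjBy A y := by
  have _ := h2
  have d : Data α A := ⟨hA, hAn, hreg⟩
  have hyα : y • α ≠ α := fun h => hy (MulAction.mem_stabilizer_iff.mpr h)
  have dB := d.conj y
  have hpair : Cfsg.IsRankOnePair A (Cfsg.conjBy A y) := by
    refine ⟨?_, hnil, isNilpotent_conjBy hnil y, d.cond hyα, ?_⟩
    · intro hAB
      obtain ⟨γ, hγα, hγβ⟩ := exists_third hΩ α (y • α)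
      obtain ⟨a, ⟨ha, haγ⟩, -⟩ := hreg (y • α) γ hyα hγα
      rw [hAB] at ha
      have := MulAction.mem_stabilizer_iff.mp (dB.le ha)
      rw [this] at haγ
      exact hγβ haγ.symm
    · have hy' : y⁻¹ • y • α ≠ y • α := by
        rw [← mul_smul, inv_mul_cancel, one_smul]; exact Ne.symm hyα
      have := dB.cond hy'
      rwa [conjBy_inv_conjBy] at this
  refine ⟨hpair, ?_⟩
  -- every conjugate of A lies in A ⊔ B
  have hconj : ∀ g : Y, Cfsg.conjBy A g ≤ A ⊔ Cfsg.conjBy A y := by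
    intro g
    by_cases hg : g • α = α
    · have : Cfsg.conjBy A g = A := hAn g (MulAction.mem_stabilizer_iff.mpr hg)
      rw [this]; exact le_sup_left
    · obtain ⟨a, ⟨ha, haα⟩, -⟩ := hreg (y • α) (g • α) hyα hg
      have : Cfsg.conjBy A g = Cfsg.conjBy A (a * y) := d.conjBy_eq (by rw [mul_smul, haα])
      rw [this, ← conjBy_mul]
      exact conjBy_le_of_mem le_sup_right (Subgroup.mem_sup_left ha)
  have hnormal : (A ⊔ Cfsg.conjBy A y).Normal := by
    constructor
    intro n hn g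
    have h1 : g * n * g⁻¹ ∈ Cfsg.conjBy (A ⊔ Cfsg.conjBy A y) g := conj_mem_conjBy hn g
    rw [conjBy_sup, conjBy_mul] at h1
    exact (sup_le (hconj g) (hconj (g * y))) h1
  apply le_antisymm
  · exact Subgroup.normalClosure_le_normal (le_sup_left : A ≤ A ⊔ Cfsg.conjBy A y)
  · refine sup_le Subgroup.le_normalClosure ?_
    intro x hx
    rw [mem_conjBy_iff] at hx
    have h1 : y⁻¹ * x * y ∈ Subgroup.normalClosure (A : Set Y) := Subgroup.le_normalClosure hx
    have h2 := (Subgroup.normalClosure_normal (s := (A : Set Y))).conj_mem _ h1 y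
    have e : y * (y⁻¹ * x * y) * y⁻¹ = x := by group
    rwa [e] at h2

end Cfsg.Agent.S5015
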