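import Cfsg.Statements.S5018
import Cfsg.Agent.Lib.Helper83_RankOne

set_option autoImplicit false
open Cfsg
open scoped commutatorElement

namespace Cfsg.Agent.S5018

open Cfsg.Agent.Lib.Helper83_RankOne

/-- An element of the second centre normalizes `A`. -/
theorem mem_normalizer_of_mem_second {X : Type*} [Group X] {A B : Subgroup X}
    (htop : A ⊔ B = ⊤) (hp : Cfsg.IsRankOnePair A B) {z : X}
    (hz : z ∈ Subgroup.upperCentralSeries X 2) : z ∈ Subgroup.normalizer (A : Set X) := by
  by_contra hzN
  have hne : Cfsg.conjBy A z ≠ A := fun h => hzN (mem_normalizer_of_conjBy_eq h)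
  have hC : Cfsg.conjBy A z ∈ Cfsg.unipotentSubgroups A B :=
    ⟨z, by rw [htop]; exact Subgroup.mem_top z, rfl⟩
  have hbot := inf_normalizer_eq_bot_of_mem hp hC hne
  obtain ⟨a, ha, ha1⟩ := exists_ne_one_left hp
  apply ha1
  have haN : a ∈ Subgroup.normalizer ((Cfsg.conjBy A z : Subgroup X) : Set X) := by
    apply mem_normalizer_of_conjBy_eq
    rw [conjBy_mul]
    have hc : ⁅z, a⁆ ∈ Subgroup.center X := by
      have := (Subgroup.mem_upperCentralSeries_succ_iff (n := 1)).mp hz a
      rwa [Subgroup.upperCentralSeries_one] at this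
    have hc' : ∀ x : X, ⁅z, a⁆⁻¹ * x = x * ⁅z, a⁆⁻¹ := by
      intro x
      have := Subgroup.mem_center_iff.mp (inv_mem hc) x
      exact this.symm
    have e : a * z = ⁅z, a⁆⁻¹ * (z * a) := by
      rw [commutatorElement_def]; group
    rw [e, ← conjBy_mul, ← conjBy_mul, conjBy_self_mem ha, conjBy_central hc']
  have : a ∈ A ⊓ Subgroup.normalizer ((Cfsg.conjBy A z : Subgroup X) : Set X) :=
    Subgroup.mem_inf.mpr ⟨ha, haN⟩
  rwa [hbot, Subgroup.mem_bot] at this

theorem second_le_center {X : Type*} [Group X] {A B : Subgroup X} (h : Cfsg.IsRankOneGroup X A B) :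
    Subgroup.upperCentralSeries X 2 ≤ Subgroup.center X := by
  obtain ⟨htop, hp⟩ := h
  have h1 : Subgroup.upperCentralSeries X 2 ≤ Subgroup.normalizer (A : Set X) :=
    fun z hz => mem_normalizer_of_mem_second htop hp hz
  have h2 : Subgroup.upperCentralSeries X 2 ≤ Subgroup.normalizer (B : Set X) :=
    fun z hz => mem_normalizer_of_mem_second (by rw [sup_comm]; exact htop)
      (Cfsg.RankOnePair_symm hp) hz
  have hn : (Subgroup.upperCentralSeries X 2).Normal := inferInstance
  have := commute_of_le_normalizers hp (N := Subgroup.upperCentralSeries X 2)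
    (fun a _ n hn' => hn.conj_mem n hn' a) (fun b _ n hn' => hn.conj_mem n hn' b) h1 h2
  intro z hz
  rw [Subgroup.mem_center_iff]
  intro g
  exact (this z hz g (by rw [htop]; exact Subgroup.mem_top g)).symm

theorem result {X : Type*} [Group X] {A B : Subgroup X} (h : Cfsg.IsRankOneGroup X A B) :
    Subgroup.upperCentralSeries X 2 = Subgroup.center X ∧ ¬ Group.IsNilpotent X := by
  have h2 := second_le_center h
  refine ⟨le_antisymm h2 ?_, ?_⟩
  · rw [← Subgroup.upperCentralSeries_one]
    exact Subgroup.upperCentralSeries_mono X (by norm_num)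
  · intro hnil
    obtain ⟨n, hn⟩ := hnil.nilpotent'
    have key : ∀ m : ℕ, Subgroup.upperCentralSeries X m ≤ Subgroup.center X := by
      intro m
      induction m with
      | zero => rw [Subgroup.upperCentralSeries_zero]; exact bot_le
      | succ m ih =>
        intro x hx
        apply h2
        rw [Subgroup.mem_upperCentralSeries_succ_iff] at hx ⊢
        intro y
        rw [Subgroup.upperCentralSeries_one]
        exact ih (hx y)
    have hc := key n
    rw [hn] at hc
    obtain ⟨a, ha, b, hb, hab⟩ := exists_not_commute h.2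
    apply hab
    have : a ∈ Subgroup.center X := hc (Subgroup.mem_top a)
    rw [Subgroup.mem_center_iff] at this
    exact (this b).symm

end Cfsg.Agent.S5018
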