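import Cfsg.Statements.S5023
import Cfsg.Agent.Lib.Helper83_RankOne

set_option autoImplicit false
open Cfsg

namespace Cfsg.Agent.S5023

open Cfsg.Agent.Lib.Helper83_RankOne

variable {X : Type*} [Group X] {V : Type*} [AddCommGroup V] [DistribMulAction X V]

/-- `H` acts quadratically. -/
def Quad (H : Subgroup X) (V : Type*) [AddCommGroup V] [DistribMulAction X V] : Prop :=
  ∀ a ∈ H, ∀ a' ∈ H, ∀ v : V, a' • (a • v - v) = a • v - v

theorem eq_of_smul_eq (hf : ∀ x : X, (∀ v : V, x • v = v) → x = 1) {g g' : X}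
    (h : ∀ v : V, g • v = g' • v) : g = g' := by
  have : g'⁻¹ * g = 1 := by
    apply hf
    intro v
    rw [mul_smul, h v, ← mul_smul, inv_mul_cancel, one_smul]
  have h2 : g = g' * (g'⁻¹ * g) := by group
  rw [h2, this, mul_one]

theorem conj_smul_sub (g a : X) (v : V) :
    (g * a * g⁻¹) • v - v = g • (a • (g⁻¹ • v) - g⁻¹ • v) := by
  rw [smul_sub, ← mul_smul, ← mul_smul, ← mul_smul, mul_inv_cancel, one_smul, mul_assoc]

theorem Quad.conj {A : Subgroup X} (hq : Quad A V) (g : X) : Quad (Cfsg.conjBy A g) V := by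
  intro b hb b' hb' v
  rw [mem_conjBy_iff] at hb hb'
  have eb : b = g * (g⁻¹ * b * g) * g⁻¹ := by group
  have eb' : b' * g = g * (g⁻¹ * b' * g) := by group
  rw [eb, conj_smul_sub, ← mul_smul, eb', mul_smul, hq _ hb _ hb']

theorem Quad.pow_smul_sub {A : Subgroup X} (hq : Quad A V) {a : X} (ha : a ∈ A) (n : ℕ) (v : V) :
    a ^ n • v - v = n • (a • v - v) := by
  induction n with
  | zero => simp
  | succ n ih =>
    have h1 : a ^ (n + 1) • v - v = a ^ n • (a • v - v) + (a ^ n • v - v) := by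
      rw [pow_succ, mul_smul, smul_sub]; abel
    rw [h1, hq a ha _ (pow_mem ha n), ih, succ_nsmul]; abel

theorem Quad.comm (hf : ∀ x : X, (∀ v : V, x • v = v) → x = 1) {A : Subgroup X} (hq : Quad A V)
    {a a' : X} (ha : a ∈ A) (ha' : a' ∈ A) : a * a' = a' * a := by
  apply eq_of_smul_eq hf
  intro v
  have h1 : (a * a') • v = (a' • v - v) + a • v := by
    have : a • a' • v = a • (a' • v - v) + a • v := by rw [← smul_add]; congr 1; abel
    rw [mul_smul, this, hq a' ha' a ha]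
  have h2 : (a' * a) • v = (a • v - v) + a' • v := by
    have : a' • a • v = a' • (a • v - v) + a' • v := by rw [← smul_add]; congr 1; abel
    rw [mul_smul, this, hq a ha a' ha']
  rw [h1, h2]; abel

/-- `v` is fixed by `H`. -/
def Fix (H : Subgroup X) (v : V) : Prop := ∀ h ∈ H, h • v = v

theorem fix_all {A B : Subgroup X} (htop : A ⊔ B = ⊤) {v : V} (hA : Fix A v) (hB : Fix B v) (x : X) :
    x • v = v := by
  have hx : x ∈ A ⊔ B := by rw [htop]; exact Subgroup.mem_top x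
  induction hx using sup_induction with
  | left a ha => exact hA a ha
  | right b hb => exact hB b hb
  | one => exact one_smul _ _
  | mul y z _ _ ihy ihz => rw [mul_smul, ihz, ihy]

theorem Fix.nsmul {H : Subgroup X} {v : V} (h : Fix H v) (n : ℕ) : Fix H (n • v) := by
  intro g hg
  rw [smul_nsmul_comm_aux g n v, h g hg]
where
  smul_nsmul_comm_aux (g : X) (n : ℕ) (v : V) : g • (n • v) = n • (g • v) :=
    map_nsmul (DistribSMul.toAddMonoidHom V g) n v

theorem Fix.sub {H : Subgroup X} {v w : V} (hv : Fix H v) (hw : Fix H w) : Fix H (v - w) := by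
  intro g hg
  rw [smul_sub, hv g hg, hw g hg]

theorem Fix.add {H : Subgroup X} {v w : V} (hv : Fix H v) (hw : Fix H w) : Fix H (v + w) := by
  intro g hg
  rw [smul_add, hv g hg, hw g hg]


theorem l4 {A B : Subgroup X} (hqA : Quad A V) (hqB : Quad B V) {a₀ b : X} (ha₀ : a₀ ∈ A)
    (hb : b ∈ B) (hconj : Cfsg.conjBy A b⁻¹ = Cfsg.conjBy B a₀⁻¹) {p : ℕ} (hp : a₀ ^ p = 1)
    {u : V} (hu : Fix A u) : Fix A (p • u) ∧ Fix B (p • u) := by
  have hwB : Fix B (a₀ • b⁻¹ • u) := by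
    intro b' hb'
    have h1 : a₀⁻¹ * b' * a₀⁻¹⁻¹ ∈ Cfsg.conjBy B a₀⁻¹ := conj_mem_conjBy hb' _
    rw [← hconj, mem_conjBy_iff] at h1
    have h2 := hu _ h1
    calc b' • (a₀ • b⁻¹ • u)
        = (a₀ * b⁻¹) • ((b⁻¹⁻¹ * (a₀⁻¹ * b' * a₀⁻¹⁻¹) * b⁻¹) • u) := by
          rw [← mul_smul, ← mul_smul, ← mul_smul]; congr 1; group
      _ = a₀ • b⁻¹ • u := by rw [h2, mul_smul]
  set w := a₀ • b⁻¹ • u with hw
  have hA1 : Fix A (a₀⁻¹ • w - w) := fun a' ha' => hqA a₀⁻¹ (inv_mem ha₀) a' ha' w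
  have hB1 : Fix B (b⁻¹ • u - u) := fun b' hb' => hqB b⁻¹ (inv_mem hb) b' hb' u
  have e1 : a₀⁻¹ • w = b⁻¹ • u := by rw [hw, inv_smul_smul]
  have hzA : Fix A (u - (a₀⁻¹ • w - w)) := hu.sub hA1
  have hzB : Fix B (u - (a₀⁻¹ • w - w)) := by
    have : u - (a₀⁻¹ • w - w) = w - (b⁻¹ • u - u) := by rw [e1]; abel
    rw [this]; exact hwB.sub hB1
  have e2 : p • u = p • (u - (a₀⁻¹ • w - w)) := by
    have h3 : p • (a₀⁻¹ • w - w) = 0 := by
      rw [← hqA.pow_smul_sub (inv_mem ha₀) p w, inv_pow, hp, inv_one, one_smul, sub_self]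
    rw [nsmul_sub, h3, sub_zero]
  rw [e2]
  exact ⟨hzA.nsmul p, hzB.nsmul p⟩

theorem l5 {A B : Subgroup X} (h : Cfsg.IsRankOneGroup X A B)
    (hf : ∀ x : X, (∀ v : V, x • v = v) → x = 1) (hqA : Quad A V) (hqB : Quad B V) {a₀ : X}
    (ha₀ : a₀ ∈ A) (ha₀1 : a₀ ≠ 1) {p : ℕ} (hp : a₀ ^ p = 1) {a' : X} (ha' : a' ∈ A) :
    a' ^ p = 1 := by
  by_contra hx
  obtain ⟨b₀, hb₀, -, hconj₀⟩ := h.2.cond_left a₀ ha₀ ha₀1
  have hxA : a' ^ p ∈ A := pow_mem ha' p
  obtain ⟨b, hb, -, hconj⟩ := h.2.cond_left (a' ^ p) hxA hx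
  set x := a' ^ p with hxdef
  have hV0 : ∀ v : V, ∀ g : X, g • (x • v - v) = x • v - v := by
    intro v g
    have h4 := l4 hqA hqB ha₀ hb₀ hconj₀ hp (u := a' • v - v)
      (fun a'' ha'' => hqA a' ha' a'' ha'' v)
    rw [hxdef, hqA.pow_smul_sub ha' p v]
    exact fix_all h.1 h4.1 h4.2 g
  have hAB : ∀ a ∈ A, ∀ v : V, Fix B (a • v - v) := by
    intro a ha v
    have h1 : b⁻¹ * a * b⁻¹⁻¹ ∈ Cfsg.conjBy A b⁻¹ := conj_mem_conjBy ha _
    rw [hconj, mem_conjBy_iff] at h1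
    have ea : a = (b * x⁻¹) * (x⁻¹⁻¹ * (b⁻¹ * a * b⁻¹⁻¹) * x⁻¹) * (b * x⁻¹)⁻¹ := by group
    generalize x⁻¹⁻¹ * (b⁻¹ * a * b⁻¹⁻¹) * x⁻¹ = b₁ at h1 ea
    rw [ea, conj_smul_sub]
    generalize (b * x⁻¹)⁻¹ • v = v''
    have hw : Fix B (b₁ • v'' - v'') := fun b' hb' => hqB b₁ h1 b' hb' v''
    generalize b₁ • v'' - v'' = w at hw
    have hz₀ := hV0 (x⁻¹ • w)
    rw [smul_inv_smul] at hz₀
    have e3 : (b * x⁻¹) • w = w - (w - x⁻¹ • w) := by
      rw [mul_smul]
      calc b • x⁻¹ • w = b • (w - (w - x⁻¹ • w)) := by congr 1; abel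
        _ = w - (w - x⁻¹ • w) := by rw [smul_sub, hz₀ b, hw b hb]
    rw [e3]
    intro b' hb'
    rw [smul_sub, hz₀ b', hw b' hb']
  have hA0 : ∀ a ∈ A, ∀ v : V, ∀ g : X, g • (a • v - v) = a • v - v := fun a ha v g =>
    fix_all h.1 (fun a'' ha'' => hqA a ha a'' ha'' v) (hAB a ha v) g
  obtain ⟨g, -, hBg⟩ := right_mem_unipotentSubgroups h.2
  have hB0 : ∀ b' ∈ B, ∀ v : V, ∀ g' : X, g' • (b' • v - v) = b' • v - v := by
    intro b' hb' v g'
    rw [hBg, mem_conjBy_iff] at hb'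
    have eb : b' = g * (g⁻¹ * b' * g) * g⁻¹ := by group
    rw [eb, conj_smul_sub, hA0 _ hb' _ g, hA0 _ hb' _ g']
  apply not_commute h.2
  intro a ha b' hb'
  apply eq_of_smul_eq hf
  intro v
  have h1 : (a * b') • v = (b' • v - v) + a • v := by
    have : a • b' • v = a • (b' • v - v) + a • v := by rw [← smul_add]; congr 1; abel
    rw [mul_smul, this, hB0 b' hb' v a]
  have h2 : (b' * a) • v = (a • v - v) + b' • v := by
    have : b' • a • v = b' • (a • v - v) + b' • v := by rw [← smul_add]; congr 1; abel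
    rw [mul_smul, this, hA0 a ha v b']
  rw [h1, h2]; abel

/-- Let X be a rank one group with unipotent subgroups A and B that acts faithfully on an abelian group V (written additively) with A acting quadratically: a' • (a • v − v) = a • v − v for all a, a' in A and v in V. Then A is either torsion-free or an elementary abelian p-group for some prime p. -/
theorem result {X : Type*} [Group X] {A B : Subgroup X} (h : Cfsg.IsRankOneGroup X A B)
    {V : Type*} [AddCommGroup V] [DistribMulAction X V] (hf : ∀ x : X, (∀ v : V, x • v = v) → x = 1)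
    (hq : ∀ a ∈ A, ∀ a' ∈ A, ∀ v : V, a' • (a • v - v) = a • v - v) :
    (∀ a ∈ A, a ≠ 1 → ¬ IsOfFinOrder a) ∨ ∃ p : ℕ, p.Prime ∧ Cfsg.IsElementaryAbelian p A := by
  have hqA : Quad A V := hq
  obtain ⟨g, -, hBg⟩ := right_mem_unipotentSubgroups h.2
  have hqB : Quad B V := by rw [hBg]; exact hqA.conj g
  by_cases htf : ∀ a ∈ A, a ≠ 1 → ¬ IsOfFinOrder a
  · left; exact htf
  · right
    push Not at htf
    obtain ⟨a, ha, ha1, hfin⟩ := htf
    have hnpos : 0 < orderOf a := hfin.orderOf_pos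
    have hn1 : orderOf a ≠ 1 := fun h1 => ha1 (orderOf_eq_one_iff.mp h1)
    have hp : (orderOf a).minFac.Prime := Nat.minFac_prime hn1
    have hdvd : (orderOf a).minFac ∣ orderOf a := Nat.minFac_dvd _
    have ha₀ : a ^ (orderOf a / (orderOf a).minFac) ∈ A := pow_mem ha _
    have ha₀p : (a ^ (orderOf a / (orderOf a).minFac)) ^ (orderOf a).minFac = 1 := by
      rw [← pow_mul, Nat.div_mul_cancel hdvd, pow_orderOf_eq_one]
    have ha₀1 : a ^ (orderOf a / (orderOf a).minFac) ≠ 1 := by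
      intro h1
      have hd : orderOf a ∣ orderOf a / (orderOf a).minFac := orderOf_dvd_of_pow_eq_one h1
      have hlt : orderOf a / (orderOf a).minFac < orderOf a := Nat.div_lt_self hnpos hp.one_lt
      have hpos : 0 < orderOf a / (orderOf a).minFac :=
        Nat.div_pos (Nat.le_of_dvd hnpos hdvd) hp.pos
      exact absurd (Nat.le_of_dvd hpos hd) (not_le.mpr hlt)
    refine ⟨(orderOf a).minFac, hp, ?_, fun a' ha' => l5 h hf hqA hqB ha₀ ha₀1 ha₀p ha'⟩
    rw [isMulCommutative_iff]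
    rintro ⟨x, hx⟩ ⟨y, hy⟩
    apply Subtype.ext
    simp only [Subgroup.coe_mul]
    exact hqA.comm hf hx hy

end Cfsg.Agent.S5023
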