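import Cfsg.Statements.S5019
import Cfsg.Agent.S5023
import Cfsg.Agent.Lib.Helper83_RootSets

set_option autoImplicit false
open Cfsg

namespace Cfsg.Agent.S5019

open Cfsg.Agent.Lib.Helper83_RankOne
open Cfsg.Agent.Lib.Helper83_RootSets (comm_of_mem)
open Cfsg.Agent.S5023 (Quad Fix conj_smul_sub)

section Dichotomy

variable {X : Type*} [Group X]

theorem comm_of_le_normalizers' {A B : Subgroup X} (h : Cfsg.IsRankOnePair A B) {K : Subgroup X}
    (hK : K.Normal) (hKA : K ≤ Subgroup.normalizer (A : Set X))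
    (hKB : K ≤ Subgroup.normalizer (B : Set X)) : ∀ k ∈ K, ∀ a ∈ A, k * a = a * k := by
  intro k hk a ha
  have h1 : k * a * k⁻¹ * a⁻¹ ∈ A := by
    have := (Subgroup.mem_normalizer_iff.mp (hKA hk) a).mp ha
    exact mul_mem this (inv_mem ha)
  have h2 : k * a * k⁻¹ * a⁻¹ ∈ K := by
    have h3 : a * k⁻¹ * a⁻¹ ∈ K := hK.conj_mem _ (inv_mem hk) a
    have e : k * a * k⁻¹ * a⁻¹ = k * (a * k⁻¹ * a⁻¹) := by group
    rw [e]; exact mul_mem hk h3
  have h3 := eq_one_of_mem_of_mem_normalizer h h1 (hKB h2)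
  calc k * a = (k * a * k⁻¹ * a⁻¹) * (a * k) := by group
    _ = a * k := by rw [h3, one_mul]

/-- A normal subgroup of a rank one group is central, or it moves `A` to `B` up to an element of `A`. -/
theorem normal_dichotomy {A B : Subgroup X} (h : Cfsg.IsRankOneGroup X A B)
    (K : Subgroup X) [hK : K.Normal] :
    K ≤ Subgroup.center X ∨ ∃ k ∈ K, ∃ a ∈ A, B = Cfsg.conjBy A (a * k) := by
  by_cases hKA : K ≤ Subgroup.normalizer (A : Set X)
  · left
    obtain ⟨g, -, hBg⟩ := right_mem_unipotentSubgroups h.2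
    have hKB : K ≤ Subgroup.normalizer (B : Set X) := by
      intro k hk
      rw [hBg, mem_normalizer_conjBy_iff]
      apply hKA
      have := hK.conj_mem k hk g⁻¹
      rwa [inv_inv] at this
    have hcA := comm_of_le_normalizers' h.2 hK hKA hKB
    have hcB := comm_of_le_normalizers' (Cfsg.RankOnePair_symm h.2) hK hKB hKA
    intro k hk
    rw [Subgroup.mem_center_iff]
    intro x
    have hx : x ∈ A ⊔ B := by rw [h.1]; exact Subgroup.mem_top x
    induction hx using sup_induction with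
    | left a ha => exact (hcA k hk a ha).symm
    | right b hb => exact (hcB k hk b hb).symm
    | one => simp
    | mul y z _ _ ihy ihz => rw [mul_assoc, ihz, ← mul_assoc, ihy, mul_assoc]
  · right
    rw [SetLike.not_le_iff_exists] at hKA
    obtain ⟨k, hk, hkN⟩ := hKA
    have hne : Cfsg.conjBy A k ≠ A := fun he => hkN (mem_normalizer_of_conjBy_eq he)
    have hmem : Cfsg.conjBy A k ∈ Cfsg.unipotentSubgroups A B :=
      ⟨k, by rw [h.1]; exact Subgroup.mem_top k, rfl⟩
    rcases (mem_unipotentSubgroups_iff h.2).mp hmem with he | ⟨a, ha, he⟩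
    · exact absurd he hne
    · refine ⟨k, hk, a⁻¹, inv_mem ha, ?_⟩
      rw [← conjBy_mul, he, conjBy_inv_conjBy]

theorem comm_of_mem_conjBy {A : Subgroup X} (hA : IsMulCommutative A) {g x y : X}
    (hx : x ∈ Cfsg.conjBy A g) (hy : y ∈ Cfsg.conjBy A g) : x * y = y * x := by
  rw [mem_conjBy_iff] at hx hy
  have hc := comm_of_mem hA hx hy
  calc x * y = g * ((g⁻¹ * x * g) * (g⁻¹ * y * g)) * g⁻¹ := by group
    _ = g * ((g⁻¹ * y * g) * (g⁻¹ * x * g)) * g⁻¹ := by rw [hc]
    _ = y * x := by group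

end Dichotomy

variable {X : Type*} [Group X] {N : Type*} [AddCommGroup N] [DistribMulAction X N]

/-- The elements of `X` that fix every `x' • n - n`. -/
def commFix (X : Type*) [Group X] (N : Type*) [AddCommGroup N] [DistribMulAction X N] :
    Subgroup X where
  carrier := {x | ∀ x' : X, ∀ n : N, x • (x' • n - n) = x' • n - n}
  mul_mem' := by
    intro x y hx hy x' n
    rw [mul_smul, hy x' n, hx x' n]
  one_mem' := by
    intro x' n
    rw [one_smul]
  inv_mem' := by
    intro x hx x' n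
    rw [inv_smul_eq_iff, hx x' n]

theorem mem_commFix {x : X} :
    x ∈ commFix X N ↔ ∀ x' : X, ∀ n : N, x • (x' • n - n) = x' • n - n := Iff.rfl

instance commFix_normal : (commFix X N).Normal := ⟨by
  intro k hk g x' n
  have e : g⁻¹ • (x' • n - n) = (g⁻¹ * x' * g) • (g⁻¹ • n) - g⁻¹ • n := by
    rw [smul_sub, ← mul_smul, ← mul_smul]
    congr 2
    group
  rw [mul_smul, mul_smul, e, hk, ← e, smul_inv_smul]⟩

theorem fixB_of_fixA {A B : Subgroup X} {a b : X}
    (hconj : Cfsg.conjBy A b⁻¹ = Cfsg.conjBy B a⁻¹) {u : N} (hu : Fix A u) :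
    Fix B (a • b⁻¹ • u) := by
  intro b' hb'
  have h1 : a⁻¹ * b' * a⁻¹⁻¹ ∈ Cfsg.conjBy B a⁻¹ := conj_mem_conjBy hb' _
  rw [← hconj, mem_conjBy_iff] at h1
  have h2 := hu _ h1
  calc b' • (a • b⁻¹ • u)
      = (a * b⁻¹) • ((b⁻¹⁻¹ * (a⁻¹ * b' * a⁻¹⁻¹) * b⁻¹) • u) := by
        rw [← mul_smul, ← mul_smul, ← mul_smul]; congr 1; group
    _ = a • b⁻¹ • u := by rw [h2, mul_smul]

theorem inv_smul_eq_sub {H : Subgroup X} (hq : Quad H N) {c : X} (hc : c ∈ H) (u : N) :
    c⁻¹ • u = u - (c • u - u) := by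
  have h1 : c⁻¹ • (c • u - u) = c • u - u := hq c hc c⁻¹ (inv_mem hc) u
  rw [smul_sub, inv_smul_smul] at h1
  rw [← h1]; abel

theorem t_fix {A B : Subgroup X} (hqA : Quad A N) (hqB : Quad B N) {a b : X} (ha : a ∈ A)
    (hb : b ∈ B) (hconj : Cfsg.conjBy A b⁻¹ = Cfsg.conjBy B a⁻¹) {u : N} (hu : Fix A u) :
    (b⁻¹ * a * b * (a⁻¹ * b⁻¹ * a)⁻¹) • u = u := by
  have hm : Fix B (b • u - u) := fun b' hb' => hqB b hb b' hb' u
  have hw : Fix B (a • b⁻¹ • u) := fixB_of_fixA hconj hu
  have e1 : b⁻¹ • u = u - (b • u - u) := inv_smul_eq_sub hqB hb u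
  have e2 : a⁻¹ • (b • u - u) = (b • u - u) - (a • (b • u - u) - (b • u - u)) :=
    inv_smul_eq_sub hqA ha _
  have e3 : a⁻¹ • b • u = a • b⁻¹ • u + ((b • u - u) + (b • u - u)) := by
    have h1 : a⁻¹ • b • u = a⁻¹ • u + a⁻¹ • (b • u - u) := by
      rw [← smul_add]; congr 1; abel
    have h2 : a • b⁻¹ • u = a • u - a • (b • u - u) := by rw [e1, smul_sub]
    rw [h1, h2, e2, hu a ha, hu a⁻¹ (inv_mem ha)]; abel
  have h4 : b • (a⁻¹ • b • u) = a⁻¹ • b • u := by
    rw [e3, smul_add, smul_add, hw b hb, hm b hb]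
  have et : (b⁻¹ * a * b * (a⁻¹ * b⁻¹ * a)⁻¹) = b⁻¹ * a * b * a⁻¹ * b * a := by group
  rw [et]
  simp only [mul_smul]
  rw [hu a ha, h4, smul_inv_smul, inv_smul_smul]

/-- Let X be a rank one group with abelian unipotent subgroups A and B, and suppose X acts on an abelian group N (written additively) in such a way that A acts quadratically, meaning a' • (a • n − n) = a • n − n for all a, a' in A and n in N, while X as a whole does not: y • (x • n − n) ≠ x • n − n for some x, y in X and n in N. Then X is a special rank one group. -/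
theorem result {X : Type*} [Group X] {A B : Subgroup X} (h : Cfsg.IsRankOneGroup X A B)
    (hab : Cfsg.HasAbelianUnipotents A B) {N : Type*} [AddCommGroup N] [DistribMulAction X N]
    (hq : ∀ a ∈ A, ∀ a' ∈ A, ∀ n : N, a' • (a • n - n) = a • n - n)
    (hX : ∃ x y : X, ∃ n : N, y • (x • n - n) ≠ x • n - n) : Cfsg.IsSpecialRankOnePair A B := by
  have hqA : Quad A N := hq
  obtain ⟨g₀, -, hBg⟩ := right_mem_unipotentSubgroups h.2
  have hqB : Quad B N := by rw [hBg]; exact hqA.conj g₀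
  have htop : ∀ x : X, x ∈ A ⊔ B := fun x => by rw [h.1]; exact Subgroup.mem_top x
  refine ⟨h.2, ?_⟩
  intro a ha ha1 b hb hb1 hconj
  have hg : b⁻¹ * a * b ∈ Cfsg.conjBy A b⁻¹ := by
    have := conj_mem_conjBy ha b⁻¹
    rwa [inv_inv] at this
  have hg' : a⁻¹ * b⁻¹ * a ∈ Cfsg.conjBy A b⁻¹ := by
    have := conj_mem_conjBy (inv_mem hb) a⁻¹
    rw [inv_inv] at this
    rw [hconj]; exact this
  have htD : b⁻¹ * a * b * (a⁻¹ * b⁻¹ * a)⁻¹ ∈ Cfsg.conjBy A b⁻¹ := mul_mem hg (inv_mem hg')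
  have htA : ∀ u : N, Fix A u → (b⁻¹ * a * b * (a⁻¹ * b⁻¹ * a)⁻¹) • u = u :=
    fun u hu => t_fix hqA hqB ha hb hconj hu
  have htB : ∀ w : N, Fix B w → (b⁻¹ * a * b * (a⁻¹ * b⁻¹ * a)⁻¹) • w = w := by
    intro w hw
    have h1 := t_fix hqB hqA hb ha hconj.symm hw
    have e : b⁻¹ * a * b * (a⁻¹ * b⁻¹ * a)⁻¹ = a⁻¹ * b * a * (b⁻¹ * a⁻¹ * b)⁻¹ := by
      rw [comm_of_mem_conjBy hab.1 hg (inv_mem hg')]; group
    rw [e]; exact h1
  generalize htdef : b⁻¹ * a * b * (a⁻¹ * b⁻¹ * a)⁻¹ = t at htD htA htB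
  have htK : t ∈ commFix X N := by
    rw [mem_commFix]
    intro x
    induction htop x using sup_induction with
    | left a' ha' => exact fun n => htA _ (fun a'' ha'' => hqA a' ha' a'' ha'' n)
    | right b' hb' => exact fun n => htB _ (fun b'' hb'' => hqB b' hb' b'' hb'' n)
    | one => intro n; simp
    | mul y z _ _ ihy ihz =>
      intro n
      have e : (y * z) • n - n = (y • (z • n) - z • n) + (z • n - n) := by rw [mul_smul]; abel
      rw [e, smul_add, ihy, ihz]
  rcases normal_dichotomy h (commFix X N) with hcen | ⟨k, hk, a₁, ha₁, hBk⟩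
  · have htc := hcen htK
    rw [Subgroup.mem_center_iff] at htc
    have htA' : t ∈ A := by
      have h1 := (mem_conjBy_iff A b⁻¹ t).mp htD
      have e : b⁻¹⁻¹ * t * b⁻¹ = t := by rw [inv_inv, htc b]; group
      rwa [e] at h1
    have htB' : t ∈ B := by
      rw [hconj] at htD
      have h1 := (mem_conjBy_iff B a⁻¹ t).mp htD
      have e : a⁻¹⁻¹ * t * a⁻¹ = t := by rw [inv_inv, htc a]; group
      rwa [e] at h1
    have ht1 : t = 1 := eq_one_of_mem_of_mem_normalizer h.2 htA' (Subgroup.le_normalizer htB')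
    have e : b⁻¹ * a * b = t * (a⁻¹ * b⁻¹ * a) := by rw [← htdef]; group
    rw [e, ht1, one_mul]
  · exfalso
    obtain ⟨x, y, n, hxy⟩ := hX
    apply hxy
    clear hxy
    have hBA : ∀ b' ∈ B, ∀ n : N, Fix A (b' • n - n) := by
      intro b' hb' n
      rw [hBk, mem_conjBy_iff] at hb'
      have eb : b' = (a₁ * k) * ((a₁ * k)⁻¹ * b' * (a₁ * k)) * (a₁ * k)⁻¹ := by group
      rw [eb, conj_smul_sub]
      generalize (a₁ * k)⁻¹ * b' * (a₁ * k) = a'' at hb'
      generalize (a₁ * k)⁻¹ • n = n'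
      rw [mul_smul, hk a'' n', hqA a'' hb' a₁ ha₁ n']
      exact fun a₃ ha₃ => hqA a'' hb' a₃ ha₃ n'
    have hXA : ∀ x : X, ∀ n : N, Fix A (x • n - n) := by
      intro x
      induction htop x using sup_induction with
      | left a' ha' => exact fun n a'' ha'' => hqA a' ha' a'' ha'' n
      | right b' hb' => exact fun n => hBA b' hb' n
      | one => intro n a' _; simp
      | mul y z _ _ ihy ihz =>
        intro n
        have e : (y * z) • n - n = (y • (z • n) - z • n) + (z • n - n) := by rw [mul_smul]; abel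
        rw [e]
        exact (ihy (z • n)).add (ihz n)
    have hy : y ∈ commFix X N ⊔ A := by
      have hle : A ⊔ B ≤ commFix X N ⊔ A := by
        refine sup_le le_sup_right ?_
        intro b' hb'
        rw [hBk, mem_conjBy_iff] at hb'
        have eb : b' = (a₁ * k) * ((a₁ * k)⁻¹ * b' * (a₁ * k)) * (a₁ * k)⁻¹ := by group
        rw [eb]
        have h1 : a₁ * k ∈ commFix X N ⊔ A :=
          mul_mem (Subgroup.mem_sup_right ha₁) (Subgroup.mem_sup_left hk)
        exact mul_mem (mul_mem h1 (Subgroup.mem_sup_right hb')) (inv_mem h1)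
      exact hle (htop y)
    induction hy using sup_induction with
    | left k' hk' => exact hk' x n
    | right a' ha' => exact hXA x n a' ha'
    | one => simp
    | mul y z _ _ ihy ihz => rw [mul_smul, ihz, ihy]

end Cfsg.Agent.S5019
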