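import Cfsg.Statements.S5021
import Cfsg.Agent.Lib.Helper83_RankOne
import Cfsg.Agent.Lib.Helper83_RootSets

set_option autoImplicit false
open Cfsg

namespace Cfsg.Agent.S5021

open Cfsg.Agent.Lib.Helper83_RankOne
open Cfsg.Agent.Lib.Helper83_RootSets (comm_of_mem)

variable {G : Type*} [Group G]

/-- The right conjugate `g⁻¹ A g`. -/
def rc (A : Subgroup G) (g : G) : Subgroup G := Cfsg.conjBy A g⁻¹

theorem rc_mul (A : Subgroup G) (g h : G) : rc (rc A g) h = rc A (g * h) := by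
  unfold rc
  rw [conjBy_mul, mul_inv_rev]

theorem rc_one (A : Subgroup G) : rc A 1 = A := by
  unfold rc
  rw [inv_one, conjBy_one]

theorem rc_of_mem {A : Subgroup G} {g : G} (hg : g ∈ A) : rc A g = A :=
  conjBy_self_mem (inv_mem hg)

theorem rc_cancel {A D : Subgroup G} {g : G} (h : rc A g = rc D g) : A = D :=
  conjBy_injective h

theorem rc_mul_of_mem {A : Subgroup G} {g : G} (hg : g ∈ A) (h : G) : rc A (g * h) = rc A h := by
  rw [← rc_mul, rc_of_mem hg]

/-- `a ∈ A` and `b ∈ B` correspond to the same point: `b⁻¹ A b = a⁻¹ B a`. -/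
def Rel (A B : Subgroup G) (a b : G) : Prop := a ∈ A ∧ b ∈ B ∧ rc A b = rc B a

theorem Rel.symm {A B : Subgroup G} {a b : G} (h : Rel A B a b) : Rel B A b a :=
  ⟨h.2.1, h.1, h.2.2.symm⟩

theorem rc_inj {A B : Subgroup G} (h : Cfsg.IsRankOnePair A B) {b b' : G} (hb : b ∈ B) (hb' : b' ∈ B)
    (he : rc A b = rc A b') : b = b' := by
  have h1 : rc A (b * b'⁻¹) = A := by
    rw [← rc_mul, he, rc_mul, mul_inv_cancel, rc_one]
  have h2 : (b * b'⁻¹)⁻¹ ∈ Subgroup.normalizer (A : Set G) := mem_normalizer_of_conjBy_eq h1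
  have h3 : (b * b'⁻¹)⁻¹ ∈ B := inv_mem (mul_mem hb (inv_mem hb'))
  have h4 := eq_one_of_mem_of_mem_normalizer (Cfsg.RankOnePair_symm h) h3 h2
  rw [inv_eq_one] at h4
  exact mul_inv_eq_one.mp h4

theorem Rel.unique_right {A B : Subgroup G} (h : Cfsg.IsRankOnePair A B) {a b b' : G}
    (h1 : Rel A B a b) (h2 : Rel A B a b') : b = b' :=
  rc_inj h h1.2.1 h2.2.1 (h1.2.2.trans h2.2.2.symm)

theorem Rel.unique_left {A B : Subgroup G} (h : Cfsg.IsRankOnePair A B) {a a' b : G}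
    (h1 : Rel A B a b) (h2 : Rel A B a' b) : a = a' :=
  Rel.unique_right (Cfsg.RankOnePair_symm h) h1.symm h2.symm

theorem Rel.left_ne_one {A B : Subgroup G} (h : Cfsg.IsRankOnePair A B) {a b : G}
    (h1 : Rel A B a b) : a ≠ 1 := by
  rintro rfl
  have h2 := h1.2.2
  rw [rc_one] at h2
  have h3 : rc (rc A b) b⁻¹ = rc B b⁻¹ := by rw [h2]
  rw [rc_mul, mul_inv_cancel, rc_one, rc_of_mem (inv_mem h1.2.1)] at h3
  exact h.ne h3

theorem Rel.right_ne_one {A B : Subgroup G} (h : Cfsg.IsRankOnePair A B) {a b : G}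
    (h1 : Rel A B a b) : b ≠ 1 :=
  Rel.left_ne_one (Cfsg.RankOnePair_symm h) h1.symm

theorem exists_rel_right {A B : Subgroup G} (h : Cfsg.IsRankOnePair A B) {a : G} (ha : a ∈ A)
    (ha1 : a ≠ 1) : ∃ b, Rel A B a b := by
  obtain ⟨b, hb, -, hconj⟩ := h.cond_left a ha ha1
  exact ⟨b, ha, hb, hconj⟩

theorem exists_rel_left {A B : Subgroup G} (h : Cfsg.IsRankOnePair A B) {b : G} (hb : b ∈ B)
    (hb1 : b ≠ 1) : ∃ a, Rel A B a b := by
  obtain ⟨a, ha, -, hconj⟩ := h.cond_right b hb hb1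
  exact ⟨a, ha, hb, hconj.symm⟩

theorem Rel.special {A B : Subgroup G} (hs : Cfsg.IsSpecialRankOnePair A B) {a b : G}
    (h1 : Rel A B a b) : b⁻¹ * a * b = a⁻¹ * b⁻¹ * a :=
  hs.2 a h1.1 (h1.left_ne_one hs.1) b h1.2.1 (h1.right_ne_one hs.1) h1.2.2

theorem special_symm {A B : Subgroup G} (hs : Cfsg.IsSpecialRankOnePair A B) :
    Cfsg.IsSpecialRankOnePair B A := by
  refine ⟨Cfsg.RankOnePair_symm hs.1, ?_⟩
  intro b hb hb1 a ha ha1 hconj
  have E : b⁻¹ * a * b = a⁻¹ * b⁻¹ * a := hs.2 a ha ha1 b hb hb1 hconj.symm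
  have hbraid : a * b⁻¹ * a = b⁻¹ * a * b⁻¹ := by
    calc a * b⁻¹ * a = a * (b⁻¹ * a * b) * b⁻¹ := by group
      _ = a * (a⁻¹ * b⁻¹ * a) * b⁻¹ := by rw [E]
      _ = b⁻¹ * a * b⁻¹ := by group
  calc a⁻¹ * b * a = b⁻¹ * (b⁻¹ * a * b⁻¹)⁻¹ * a := by group
    _ = b⁻¹ * (a * b⁻¹ * a)⁻¹ * a := by rw [hbraid]
    _ = b⁻¹ * a⁻¹ * b := by group

theorem Rel.inv {A B : Subgroup G} (hs : Cfsg.IsSpecialRankOnePair A B) {a b : G}
    (h1 : Rel A B a b) : Rel A B a⁻¹ b⁻¹ := by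
  have ha := h1.1
  have hb := h1.2.1
  have hb1 := h1.right_ne_one hs.1
  have E := h1.special hs
  -- D := rc A (b⁻¹ * a) is normalized by b
  have hD : rc (rc A (b⁻¹ * a)) b = rc A (b⁻¹ * a) := by
    rw [rc_mul, E]
    have e : a⁻¹ * b⁻¹ * a = a⁻¹ * (b⁻¹ * a) := by group
    rw [e, rc_mul_of_mem (inv_mem ha)]
  have hbN : b ∈ Subgroup.normalizer ((rc A (b⁻¹ * a) : Subgroup G) : Set G) := by
    have h2 : b⁻¹ ∈ Subgroup.normalizer ((rc A (b⁻¹ * a) : Subgroup G) : Set G) :=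
      mem_normalizer_of_conjBy_eq hD
    have h3 := inv_mem h2
    rwa [inv_inv] at h3
  have hDmem : rc A (b⁻¹ * a) ∈ Cfsg.unipotentSubgroups B A := by
    rw [← unipotentSubgroups_comm hs.1]
    exact ⟨(b⁻¹ * a)⁻¹, inv_mem (mul_mem (inv_mem (Subgroup.mem_sup_right hb))
      (Subgroup.mem_sup_left ha)), rfl⟩
  have hDB : rc A (b⁻¹ * a) = B := by
    by_contra hne
    have h4 := inf_normalizer_eq_bot_of_mem (Cfsg.RankOnePair_symm hs.1) hDmem hne
    have h5 : b ∈ B ⊓ Subgroup.normalizer ((rc A (b⁻¹ * a) : Subgroup G) : Set G) :=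
      Subgroup.mem_inf.mpr ⟨hb, hbN⟩
    rw [h4, Subgroup.mem_bot] at h5
    exact hb1 h5
  refine ⟨inv_mem ha, inv_mem hb, ?_⟩
  rw [← hDB, rc_mul, mul_assoc, mul_inv_cancel, mul_one]


/-- No non-identity element of `A` has order dividing a positive number below `m`. -/
def Good (m : ℕ) (A : Subgroup G) : Prop :=
  ∀ x ∈ A, x ≠ 1 → ∀ k : ℕ, 0 < k → k < m → x ^ k ≠ 1

theorem Good.mono {m m' : ℕ} (h : m' ≤ m) {A : Subgroup G} (hg : Good m A) : Good m' A :=
  fun x hx hx1 k hk hkm => hg x hx hx1 k hk (lt_of_lt_of_le hkm h)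

theorem mul_pow_of_mem {A : Subgroup G} (hA : IsMulCommutative A) {x y : G} (hx : x ∈ A)
    (hy : y ∈ A) (n : ℕ) : (x * y) ^ n = x ^ n * y ^ n :=
  Commute.mul_pow (comm_of_mem hA hx hy) n

theorem claim (m : ℕ) : ∀ (A B : Subgroup G), Cfsg.IsSpecialRankOnePair A B →
    IsMulCommutative A → IsMulCommutative B → Good m A → Good m B →
    ∀ c d Y : G, Rel A B c d → Rel A B (c ^ m) Y → Y ^ m = d := by
  induction m using Nat.strong_induction_on with
  | _ m ih =>
    intro A B hs hA hB hgA hgB c d Y hcd hcY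
    have hs' := special_symm hs
    have hr := hs.1
    have hc := hcd.1
    have hd := hcd.2.1
    have hY := hcY.2.1
    have hc1 := hcd.left_ne_one hr
    have hd1 := hcd.right_ne_one hr
    have hcm1 := hcY.left_ne_one hr
    rcases m with _ | _ | _ | m
    · exact absurd (pow_zero c) hcm1
    · rw [pow_one] at hcY ⊢
      exact Rel.unique_right hr hcY hcd
    · -- m = 2
      have hspec := hcd.special hs
      have key : rc (rc B (c ^ 2)) (d⁻¹ * c * d) = rc (rc B (c ^ 2)) (c⁻¹ * d⁻¹ * c) := by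
        rw [hspec]
      have hR : rc (rc B (c ^ 2)) (c⁻¹ * d⁻¹ * c) = A := by
        rw [rc_mul]
        have e : c ^ 2 * (c⁻¹ * d⁻¹ * c) = c * (d⁻¹ * c) := by rw [pow_two]; group
        rw [e, ← rc_mul, ← hcd.2.2, rc_mul]
        have e2 : d * (d⁻¹ * c) = c := by group
        rw [e2, rc_of_mem hc]
      rw [hR, ← hcY.2.2, rc_mul] at key
      -- key : rc A (Y * (d⁻¹ * c * d)) = A
      have h1 : rc A (Y * d⁻¹) = rc A Y⁻¹ := by
        have h2 : rc (rc A (Y * (d⁻¹ * c * d))) (d⁻¹ * c⁻¹) = rc A (d⁻¹ * c⁻¹) := by rw [key]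
        rw [rc_mul] at h2
        have e3 : Y * (d⁻¹ * c * d) * (d⁻¹ * c⁻¹) = Y * d⁻¹ := by group
        rw [e3] at h2
        rw [h2, ← rc_mul, (hcd.inv hs).2.2, rc_mul, (hcY.inv hs).2.2]
        congr 1
        rw [pow_two]; group
      have h3 := rc_inj hr (mul_mem hY (inv_mem hd)) (inv_mem hY) h1
      rw [pow_two]
      calc Y * Y = Y * (Y * d⁻¹) * d := by group
        _ = d := by rw [h3]; group
    · -- m + 3
      have hspec := hcd.special hs
      have hgA2 : Good (m + 2) A := hgA.mono (by omega)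
      have hgB2 : Good (m + 2) B := hgB.mono (by omega)
      have hgA1 : Good (m + 1) A := hgA.mono (by omega)
      have hgB1 : Good (m + 1) B := hgB.mono (by omega)
      replace hcY : Rel A B (c ^ (m + 3)) Y := hcY
      replace hcm1 : c ^ (m + 3) ≠ 1 := hcm1
      show Y ^ (m + 3) = d
      have key : rc A (Y * (d⁻¹ * c * d)) = rc B (c ^ (m + 3) * (c⁻¹ * d⁻¹ * c)) := by
        rw [← rc_mul, hcY.2.2, rc_mul, hspec]
      -- Step A
      have hc2 : c ^ (m + 2) ≠ 1 := hgA c hc hc1 (m + 2) (by omega) (by omega)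
      obtain ⟨y, hy⟩ := exists_rel_right hr (pow_mem hc (m + 2)) hc2
      have hyd : y ^ (m + 2) = d := ih (m + 2) (by omega) A B hs hA hB hgA2 hgB2 c d y hcd hy
      have hyB := hy.2.1
      have hy1 := hy.right_ne_one hr
      have eA : rc B (c ^ (m + 3) * (c⁻¹ * d⁻¹ * c)) = rc A ((y ^ (m + 1))⁻¹ * c) := by
        have e1 : c ^ (m + 3) * (c⁻¹ * d⁻¹ * c) = c ^ (m + 2) * (d⁻¹ * c) := by
          rw [pow_succ c (m + 2)]; group
        rw [e1, ← rc_mul, ← hy.2.2, rc_mul]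
        congr 1
        rw [← hyd, pow_succ y (m + 1)]; group
      -- Step B
      have hy2 : y ^ (m + 1) ≠ 1 := hgB y hyB hy1 (m + 1) (by omega) (by omega)
      obtain ⟨z, hz⟩ := exists_rel_left hr (pow_mem hyB (m + 1)) hy2
      have hzc : z ^ (m + 1) = c ^ (m + 2) :=
        ih (m + 1) (by omega) B A hs' hB hA hgB1 hgA1 y (c ^ (m + 2)) z hy.symm hz.symm
      have hzA := hz.1
      have eB : rc A ((y ^ (m + 1))⁻¹ * c) = rc B (z⁻¹ * c) := by
        rw [← rc_mul, (hz.inv hs).2.2, rc_mul]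
      -- Step C
      have heA : z⁻¹ * c ∈ A := mul_mem (inv_mem hzA) hc
      have hepow : (z⁻¹ * c) ^ (m + 1) = c⁻¹ := by
        rw [mul_pow_of_mem hA (inv_mem hzA) hc, inv_pow, hzc, pow_succ c (m + 1)]; group
      have he1 : z⁻¹ * c ≠ 1 := by
        intro h1
        rw [h1, one_pow] at hepow
        exact hc1 (inv_eq_one.mp hepow.symm)
      obtain ⟨f, hf⟩ := exists_rel_right hr heA he1
      have hfd : d⁻¹ ^ (m + 1) = f := by
        apply ih (m + 1) (by omega) A B hs hA hB hgA1 hgB1 (z⁻¹ * c) f d⁻¹ hf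
        rw [hepow]
        exact hcd.inv hs
      have eC : rc B (z⁻¹ * c) = rc A (d⁻¹ ^ (m + 1)) := by
        rw [← hf.2.2, hfd]
      rw [eA, eB, eC] at key
      -- key : rc A (Y * (d⁻¹ * c * d)) = rc A (d⁻¹ ^ (m + 1))
      -- Step D
      have hd2 : d ^ (m + 2) ≠ 1 := hgB d hd hd1 (m + 2) (by omega) (by omega)
      obtain ⟨w, hw⟩ := exists_rel_left hr (pow_mem hd (m + 2)) hd2
      have hwc : w ^ (m + 2) = c :=
        ih (m + 2) (by omega) B A hs' hB hA hgB2 hgA2 d c w hcd.symm hw.symm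
      have hwA := hw.1
      have keyD : rc A (Y * d⁻¹ * c) = rc B w⁻¹ := by
        have h2 : rc (rc A (Y * (d⁻¹ * c * d))) d⁻¹ = rc (rc A (d⁻¹ ^ (m + 1))) d⁻¹ := by rw [key]
        rw [rc_mul, rc_mul] at h2
        have e3 : Y * (d⁻¹ * c * d) * d⁻¹ = Y * d⁻¹ * c := by group
        have e4 : d⁻¹ ^ (m + 1) * d⁻¹ = (d ^ (m + 2))⁻¹ := by
          rw [← pow_succ, inv_pow]
        rw [e3, e4] at h2
        rw [h2, (hw.inv hs).2.2]
      -- Step E
      have hvA : c * w ∈ A := mul_mem hc hwA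
      have hvpow : (c * w) ^ (m + 2) = c ^ (m + 3) := by
        rw [mul_pow_of_mem hA hc hwA, hwc, ← pow_succ]
      have hv1 : c * w ≠ 1 := by
        intro h1
        rw [h1, one_pow] at hvpow
        exact hcm1 hvpow.symm
      obtain ⟨u, hu⟩ := exists_rel_right hr hvA hv1
      have huY : Y ^ (m + 2) = u := by
        apply ih (m + 2) (by omega) A B hs hA hB hgA2 hgB2 (c * w) u Y hu
        rw [hvpow]
        exact hcY
      have keyE : rc A (Y * d⁻¹) = rc A u⁻¹ := by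
        have h2 : rc (rc A (Y * d⁻¹ * c)) c⁻¹ = rc (rc B w⁻¹) c⁻¹ := by rw [keyD]
        rw [rc_mul, rc_mul] at h2
        have e5 : Y * d⁻¹ * c * c⁻¹ = Y * d⁻¹ := by group
        have e6 : w⁻¹ * c⁻¹ = (c * w)⁻¹ := by group
        rw [e5, e6] at h2
        rw [h2, (hu.inv hs).2.2]
      have h3 := rc_inj hr (mul_mem hY (inv_mem hd)) (inv_mem hu.2.1) keyE
      rw [← huY] at h3
      rw [pow_succ Y (m + 2)]
      calc Y ^ (m + 2) * Y = Y ^ (m + 2) * (Y * d⁻¹) * d := by group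
        _ = d := by rw [h3]; group


theorem Good.conj {m : ℕ} {A : Subgroup G} (hg : Good m A) (g : G) : Good m (Cfsg.conjBy A g) := by
  intro y hy hy1 k hk hkm hyk
  rw [mem_conjBy_iff] at hy
  have hx1 : g⁻¹ * y * g ≠ 1 := by
    intro h1
    apply hy1
    calc y = g * (g⁻¹ * y * g) * g⁻¹ := by group
      _ = 1 := by rw [h1]; group
  apply hg _ hy hx1 k hk hkm
  have e : g⁻¹ * y * g = g⁻¹ * y * g⁻¹⁻¹ := by rw [inv_inv]
  rw [e, conj_pow, hyk]; group

/-- In a special rank one group with abelian unipotent subgroups A and B, either A is an elementary abelian p-group for some prime p, or A is torsion-free and divisible (every element of A has an n-th root in A for every positive n). -/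
theorem result {X : Type*} [Group X] {A B : Subgroup X} (h : Cfsg.IsRankOneGroup X A B)
    (hs : Cfsg.IsSpecialRankOnePair A B) (hab : Cfsg.HasAbelianUnipotents A B) :
    (∃ p : ℕ, p.Prime ∧ Cfsg.IsElementaryAbelian p A) ∨
    ((∀ a ∈ A, a ≠ 1 → ¬ IsOfFinOrder a) ∧ ∀ a ∈ A, ∀ n : ℕ, 0 < n → ∃ c ∈ A, c ^ n = a) := by
  have hr := h.2
  obtain ⟨g, -, hBg⟩ := right_mem_unipotentSubgroups hr
  have hA := hab.1
  have hB := hab.2
  have hs' := special_symm hs
  by_cases htf : ∀ a ∈ A, a ≠ 1 → ¬ IsOfFinOrder a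
  · right
    refine ⟨htf, ?_⟩
    have hgA : ∀ m, Good m A := by
      intro m x hx hx1 k hk _ hxk
      exact htf x hx hx1 (isOfFinOrder_iff_pow_eq_one.mpr ⟨k, hk, hxk⟩)
    have hgB : ∀ m, Good m B := by
      intro m
      rw [hBg]
      exact (hgA m).conj g
    intro a ha n hn
    by_cases ha1 : a = 1
    · exact ⟨1, one_mem _, by rw [one_pow, ha1]⟩
    · obtain ⟨d, hd⟩ := exists_rel_right hr ha ha1
      have hd1 := hd.right_ne_one hr
      have hdn : d ^ n ≠ 1 := hgB (n + 1) d hd.2.1 hd1 n hn (by omega)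
      obtain ⟨x, hx⟩ := exists_rel_left hr (pow_mem hd.2.1 n) hdn
      exact ⟨x, hx.1, claim n B A hs' hB hA (hgB n) (hgA n) d a x hd.symm hx.symm⟩
  · left
    push Not at htf
    obtain ⟨a, ha, ha1, hfin⟩ := htf
    obtain ⟨k₀, hk₀, hak₀⟩ := isOfFinOrder_iff_pow_eq_one.mp hfin
    have hex : ∃ k : ℕ, 0 < k ∧ ∃ x ∈ A, x ≠ 1 ∧ x ^ k = 1 := ⟨k₀, hk₀, a, ha, ha1, hak₀⟩
    classical
    obtain ⟨hp0, a₀, ha₀, ha₀1, ha₀p⟩ := Nat.find_spec hex
    have hmin : ∀ k : ℕ, k < Nat.find hex → ¬ (0 < k ∧ ∃ x ∈ A, x ≠ 1 ∧ x ^ k = 1) :=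
      fun k hk => Nat.find_min hex hk
    generalize Nat.find hex = p at hp0 ha₀p hmin
    have hgA : Good p A := by
      intro x hx hx1 k hk hkp hxk
      exact hmin k hkp ⟨hk, x, hx, hx1, hxk⟩
    have hgB : Good p B := by
      rw [hBg]
      exact hgA.conj g
    have hp1 : p ≠ 1 := by
      rintro rfl
      rw [pow_one] at ha₀p
      exact ha₀1 ha₀p
    have hpp : p.Prime := by
      have hq : p.minFac.Prime := Nat.minFac_prime hp1
      have hdvd : p.minFac ∣ p := Nat.minFac_dvd p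
      obtain ⟨t, ht⟩ := hdvd
      have ht0 : 0 < t := by
        rcases Nat.eq_zero_or_pos t with h0 | h0
        · rw [h0, mul_zero] at ht; omega
        · exact h0
      by_cases hqp : p.minFac = p
      · rw [← hqp]; exact hq
      · exfalso
        have hqlt : p.minFac < p := lt_of_le_of_ne (Nat.minFac_le hp0) hqp
        have htlt : t < p := by
          have h2 : 2 ≤ p.minFac := hq.two_le
          rw [ht]
          nlinarith
        have e1 : (a₀ ^ t) ^ p.minFac = 1 := by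
          rw [← pow_mul, mul_comm, ← ht, ha₀p]
        by_cases hat : a₀ ^ t = 1
        · exact hmin t htlt ⟨ht0, a₀, ha₀, ha₀1, hat⟩
        · exact hmin p.minFac hqlt ⟨hq.pos, a₀ ^ t, pow_mem ha₀ t, hat, e1⟩
    refine ⟨p, hpp, hA, ?_⟩
    intro c hc
    by_contra hcp
    have hc1 : c ≠ 1 := by
      rintro rfl
      exact hcp (one_pow p)
    have hcap : (c * a₀) ^ p = c ^ p := by
      rw [mul_pow_of_mem hA hc ha₀, ha₀p, mul_one]
    have hca1 : c * a₀ ≠ 1 := by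
      intro h1
      rw [h1, one_pow] at hcap
      exact hcp hcap.symm
    obtain ⟨d, hd⟩ := exists_rel_right hr hc hc1
    obtain ⟨d', hd'⟩ := exists_rel_right hr (mul_mem hc ha₀) hca1
    obtain ⟨Y, hY⟩ := exists_rel_right hr (pow_mem hc p) hcp
    have h1 : Y ^ p = d := claim p A B hs hA hB hgA hgB c d Y hd hY
    have h2 : Y ^ p = d' := by
      apply claim p A B hs hA hB hgA hgB (c * a₀) d' Y hd'
      rw [hcap]
      exact hY
    rw [← h2, h1] at hd'
    have h3 := Rel.unique_left hr hd hd'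
    apply ha₀1
    calc a₀ = c⁻¹ * (c * a₀) := by group
      _ = 1 := by rw [← h3]; group

end Cfsg.Agent.S5021
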