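import Cfsg.Statements.S5022
import Cfsg.Agent.Lib.Helper83_SL2Recog
import Cfsg.Agent.Lib.Helper83_Relative

set_option autoImplicit false
open Cfsg

namespace Cfsg.Agent.S5022

open Cfsg.Agent.Lib.Helper83_RankOne
open Cfsg.Agent.Lib.Helper83_RootSets (comm_of_mem)
open Cfsg.Agent.Lib.Helper83_Special
open Cfsg.Agent.Lib.Helper83_SL2Recog
open Cfsg.Agent.Lib.Helper83_Relative
open Cfsg.Agent.S5021 (rc rc_mul rc_one rc_of_mem rc_cancel rc_mul_of_mem Rel rc_inj exists_rel_right)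

section prep

variable {X : Type*} [Group X] {A B : Subgroup X} {p : ℕ} [Fact p.Prime]

theorem good_of_exp {H : Subgroup X} (hexp : ∀ x ∈ H, x ^ p = 1) : Cfsg.Agent.S5021.Good p H := by
  intro x hx hx1 k hk hkm hxk
  have ho : orderOf x = p := orderOf_eq_prime (hexp x hx) hx1
  have h1 : p ∣ k := by
    rw [← ho]
    exact orderOf_dvd_of_pow_eq_one hxk
  have := Nat.le_of_dvd hk h1
  omega

/-- The partner of `a ^ t` is `b ^ (1 / t)`. -/
theorem partner_pw' (hs : IsSpecialRankOnePair A B) (hA : IsMulCommutative A)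
    (hB : IsMulCommutative B) (hexpA : ∀ x ∈ A, x ^ p = 1) (hexpB : ∀ x ∈ B, x ^ p = 1)
    {a b : X} (hR : Rel A B a b) {t : ZMod p} (ht : t ≠ 0) :
    Rel A B (pw a t) (pw b t⁻¹) := by
  have hr := hs.1
  have ha := hR.1
  have hb := hR.2.1
  have ha1 := hR.left_ne_one hr
  have hap : a ^ p = 1 := hexpA a ha
  have hx1 : pw a t ≠ 1 := by
    intro h
    rw [← pw_zero (p := p) a] at h
    exact ht (pw_injective hap ha1 h)
  obtain ⟨y, hy⟩ := exists_rel_right hr (pw_mem ha t) hx1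
  have hm : t.val ≤ p := (ZMod.val_lt t).le
  have hyb : y ^ t.val = b :=
    Cfsg.Agent.S5021.claim t.val A B hs hA hB
      ((good_of_exp hexpA).mono hm) ((good_of_exp hexpB).mono hm) a b y hR hy
  have hyp : y ^ p = 1 := hexpB y hy.2.1
  have e : y = pw b t⁻¹ := by
    have h1 : pw y (t * t⁻¹) = (pw y t) ^ (t⁻¹).val := pw_mul hyp t t⁻¹
    rw [mul_inv_cancel₀ ht, pw_one] at h1
    rw [h1]
    unfold pw
    rw [hyb]
  rw [← e]
  exact hy

theorem mem_zpowers_iff_pw {a : X} (hap : a ^ p = 1) {x : X} :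
    x ∈ Subgroup.zpowers a ↔ ∃ t : ZMod p, pw a t = x := by
  constructor
  · intro hx
    obtain ⟨k, rfl⟩ := Subgroup.mem_zpowers_iff.mp hx
    refine ⟨((k % (p : ℤ)).toNat : ZMod p), ?_⟩
    rw [pw_natCast hap]
    have hp0 : (p : ℤ) ≠ 0 := by exact_mod_cast (Fact.out : p.Prime).ne_zero
    have h1 : 0 ≤ k % (p : ℤ) := Int.emod_nonneg k hp0
    have h2 : ((k % (p : ℤ)).toNat : ℤ) = k % (p : ℤ) := Int.toNat_of_nonneg h1
    rw [← zpow_natCast, h2]
    have h3 : a ^ (p : ℤ) = 1 := by rw [zpow_natCast]; exact hap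
    conv_rhs => rw [← Int.emod_add_mul_ediv k (p : ℤ)]
    rw [zpow_add, zpow_mul, h3, one_zpow, mul_one]
  · rintro ⟨t, rfl⟩
    exact pw_mem (Subgroup.mem_zpowers a) t

theorem zpowers_pw {a : X} (hap : a ^ p = 1) {t : ZMod p} (ht : t ≠ 0) :
    Subgroup.zpowers (pw a t) = Subgroup.zpowers a := by
  apply le_antisymm
  · rw [Subgroup.zpowers_le]
    exact pow_mem (Subgroup.mem_zpowers a) _
  · rw [Subgroup.zpowers_le]
    have h1 : pw a (t * t⁻¹) = (pw a t) ^ (t⁻¹).val := pw_mul hap t t⁻¹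
    rw [mul_inv_cancel₀ ht, pw_one] at h1
    have h2 : (pw a t) ^ (t⁻¹).val ∈ Subgroup.zpowers (pw a t) :=
      pow_mem (Subgroup.mem_zpowers _) _
    rwa [← h1] at h2

theorem rc_zpowers (g x : X) : rc (Subgroup.zpowers x) g = Subgroup.zpowers (g⁻¹ * x * g) := by
  unfold rc Cfsg.conjBy
  rw [MonoidHom.map_zpowers]
  congr 1
  simp

omit [Fact p.Prime] in
/-- The exponent of `B`. -/
theorem exp_right (hs : IsSpecialRankOnePair A B) (hexpA : ∀ x ∈ A, x ^ p = 1) :
    ∀ y ∈ B, y ^ p = 1 := by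
  obtain ⟨a, ha, ha1⟩ := exists_ne_one_left hs.1
  obtain ⟨b, hR⟩ := exists_rel_right hs.1 ha ha1
  have hB' := rc_n_left hs hR
  intro y hy
  rw [← hB', mem_rc_iff] at hy
  have h1 := hexpA _ hy
  rw [conj_pow] at h1
  have h2 : y ^ p = (a * b⁻¹ * a)⁻¹ * ((a * b⁻¹ * a) * y ^ p * (a * b⁻¹ * a)⁻¹) * (a * b⁻¹ * a) := by
    group
  rw [h2, h1]
  group

/-- The cyclic subgroups generated by `a` and its partner `b` form a special rank one pair. -/
theorem special_zpowers (hs : IsSpecialRankOnePair A B) (hA : IsMulCommutative A)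
    (hB : IsMulCommutative B) (hexpA : ∀ x ∈ A, x ^ p = 1) {a b : X} (hR : Rel A B a b) :
    IsSpecialRankOnePair (Subgroup.zpowers a) (Subgroup.zpowers b) := by
  have hr := hs.1
  have hexpB := exp_right hs hexpA
  have ha := hR.1
  have hb := hR.2.1
  have ha1 := hR.left_ne_one hr
  have hb1 := hR.right_ne_one hr
  have hap : a ^ p = 1 := hexpA a ha
  have hbp : b ^ p = 1 := hexpB b hb
  have hA₀ : Subgroup.zpowers a ≤ A := by rw [Subgroup.zpowers_le]; exact ha
  have hB₀ : Subgroup.zpowers b ≤ B := by rw [Subgroup.zpowers_le]; exact hb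
  -- the conjugation identity for partners
  have key : ∀ t : ZMod p, t ≠ 0 →
      rc (Subgroup.zpowers a) (pw b t⁻¹) = rc (Subgroup.zpowers b) (pw a t) := by
    intro t ht
    have hRt := partner_pw' hs hA hB hexpA hexpB hR ht
    have E := hRt.special hs
    have ht' : t⁻¹ ≠ 0 := inv_ne_zero ht
    rw [← zpowers_pw hap ht, ← zpowers_pw hbp ht', rc_zpowers, rc_zpowers, E]
    have e : (pw a t)⁻¹ * pw b t⁻¹ * pw a t = ((pw a t)⁻¹ * (pw b t⁻¹)⁻¹ * pw a t)⁻¹ := by group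
    rw [e, Subgroup.zpowers_inv]
  have pw_ne : ∀ {c : X}, c ^ p = 1 → c ≠ 1 → ∀ t : ZMod p, pw c t ≠ 1 → t ≠ 0 := by
    intro c _ _ t h1 h0
    apply h1
    rw [h0, pw_zero]
  have pw_ne' : ∀ {c : X}, c ^ p = 1 → c ≠ 1 → ∀ t : ZMod p, t ≠ 0 → pw c t ≠ 1 := by
    intro c hcp hc1 t h0 h1
    rw [← pw_zero (p := p) c] at h1
    exact h0 (pw_injective hcp hc1 h1)
  have hpair : IsRankOnePair (Subgroup.zpowers a) (Subgroup.zpowers b) := by
    refine ⟨?_, ?_, ?_, ?_, ?_⟩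
    · intro he
      have haB : a ∈ B := hB₀ (he ▸ Subgroup.mem_zpowers a)
      exact ha1 (eq_one_of_mem_of_mem_normalizer hr ha (Subgroup.le_normalizer haB))
    · exact Cfsg.Agent.S5016.nilpotent_of_comm inferInstance
    · exact Cfsg.Agent.S5016.nilpotent_of_comm inferInstance
    · intro x hx hx1
      obtain ⟨t, rfl⟩ := (mem_zpowers_iff_pw hap).mp hx
      have ht := pw_ne hap ha1 t hx1
      refine ⟨pw b t⁻¹, (mem_zpowers_iff_pw hbp).mpr ⟨_, rfl⟩,
        pw_ne' hbp hb1 _ (inv_ne_zero ht), ?_⟩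
      exact key t ht
    · intro y hy hy1
      obtain ⟨s, rfl⟩ := (mem_zpowers_iff_pw hbp).mp hy
      have hs0 := pw_ne hbp hb1 s hy1
      refine ⟨pw a s⁻¹, (mem_zpowers_iff_pw hap).mpr ⟨_, rfl⟩,
        pw_ne' hap ha1 _ (inv_ne_zero hs0), ?_⟩
      have := key s⁻¹ (inv_ne_zero hs0)
      rw [inv_inv] at this
      exact this.symm
  refine ⟨hpair, ?_⟩
  intro x hx hx1 y hy hy1 hconj
  obtain ⟨t, rfl⟩ := (mem_zpowers_iff_pw hap).mp hx
  have ht := pw_ne hap ha1 t hx1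
  have h1 : rc (Subgroup.zpowers a) y = rc (Subgroup.zpowers a) (pw b t⁻¹) := by
    rw [key t ht]
    exact hconj
  have h2 : y = pw b t⁻¹ :=
    rc_inj hpair hy ((mem_zpowers_iff_pw hbp).mpr ⟨_, rfl⟩) h1
  rw [h2]
  exact (partner_pw' hs hA hB hexpA hexpB hR ht).special hs

/-- Transfer of the special condition to the subgroup generated. -/
theorem isSpecial_subgroupOf {A B H : Subgroup X} (hA : A ≤ H) (hB : B ≤ H)
    (hs : IsSpecialRankOnePair A B) :
    IsSpecialRankOnePair (A.subgroupOf H) (B.subgroupOf H) := by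
  refine ⟨isRankOnePair_subgroupOf hA hB hs.1, ?_⟩
  rintro ⟨a, haH⟩ ha ha1 ⟨b, hbH⟩ hb hb1 hconj
  rw [Subgroup.mem_subgroupOf] at ha hb
  have ha1' : a ≠ 1 := fun h => ha1 (Subtype.ext h)
  have hb1' : b ≠ 1 := fun h => hb1 (Subtype.ext h)
  rw [conjBy_subgroupOf, conjBy_subgroupOf] at hconj
  simp only [Subgroup.coe_inv] at hconj
  have hconj' : Cfsg.conjBy A b⁻¹ = Cfsg.conjBy B a⁻¹ := by
    have h1 := congrArg (Subgroup.map H.subtype) hconj
    rw [Subgroup.map_subgroupOf_eq_of_le, Subgroup.map_subgroupOf_eq_of_le] at h1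
    · exact h1
    · exact conjBy_le_of_mem hB (inv_mem haH)
    · exact conjBy_le_of_mem hA (inv_mem hbH)
  have := hs.2 a ha ha1' b hb hb1' hconj'
  exact Subtype.ext this

end prep

set_option linter.unusedVariables false in
theorem result {X : Type*} [Group X] {A B : Subgroup X} (h : Cfsg.IsRankOneGroup X A B)
    (hs : Cfsg.IsSpecialRankOnePair A B) (hab : Cfsg.HasAbelianUnipotents A B)
    {p : ℕ} [Fact p.Prime] (hA : Cfsg.IsElementaryAbelian p A)
    {a b : X} (ha : a ∈ A) (ha1 : a ≠ 1) (hb : b ∈ B) (hb1 : b ≠ 1) (hab' : Cfsg.conjBy A b⁻¹ = Cfsg.conjBy B a⁻¹) :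
    Nonempty (↥(Subgroup.closure ({a, b} : Set X)) ≃* Matrix.SpecialLinearGroup (Fin 2) (ZMod p)) ∨
    Nonempty (↥(Subgroup.closure ({a, b} : Set X)) ≃* Matrix.ProjectiveSpecialLinearGroup (Fin 2) (ZMod p)) := by
  have hR : Rel A B a b := ⟨ha, hb, hab'⟩
  have hs₀ := special_zpowers hs hab.1 hab.2 hA.2 hR
  have hap : a ^ p = 1 := hA.2 a ha
  -- the rank one group generated
  have hY := isRankOneGroup_subgroupOf hs₀.1
  have hsY := isSpecial_subgroupOf (H := Subgroup.zpowers a ⊔ Subgroup.zpowers b)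
    le_sup_left le_sup_right hs₀
  have hcard : Nat.card ((Subgroup.zpowers a).subgroupOf (Subgroup.zpowers a ⊔ Subgroup.zpowers b))
      = p := by
    rw [Nat.card_congr (Subgroup.subgroupOfEquivOfLe le_sup_left).toEquiv, Nat.card_zpowers,
      orderOf_eq_prime hap ha1]
  have hcl : Subgroup.closure ({a, b} : Set X) = Subgroup.zpowers a ⊔ Subgroup.zpowers b := by
    rw [Subgroup.zpowers_eq_closure, Subgroup.zpowers_eq_closure, ← Subgroup.closure_union]
    rfl
  have hprime : p.Prime := Fact.out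
  -- the three cases
  have hmain : Nonempty (↥(Subgroup.zpowers a ⊔ Subgroup.zpowers b) ≃*
        Matrix.SpecialLinearGroup (Fin 2) (ZMod p)) ∨
      Nonempty (↥(Subgroup.zpowers a ⊔ Subgroup.zpowers b) ≃*
        Matrix.ProjectiveSpecialLinearGroup (Fin 2) (ZMod p)) := by
    have hcases : p = 2 ∨ p = 3 ∨ 5 ≤ p := by
      have h2 := hprime.two_le
      by_cases h4 : p = 4
      · rw [h4] at hprime; norm_num at hprime
      · omega
    rcases hcases with h2 | h3 | h5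
    · subst h2
      left
      obtain ⟨e1⟩ := Cfsg.Agent.S5020.dihedral_of_card_two hY hsY hcard
      have hS := Cfsg.Agent.S5016.result (ZMod 2)
      obtain ⟨e2⟩ := Cfsg.Agent.S5020.dihedral_of_card_two hS.1 hS.2.1
        Cfsg.Agent.S5020.card_lower_two
      exact ⟨e1.symm.trans e2⟩
    · subst h3
      obtain ⟨φ, hφ⟩ := Cfsg.Agent.S5020.surj_of_card_three hY hsY hcard
      exact Cfsg.Agent.S5020.iso_of_surj hY φ hφ
    · exact main hY hsY hcard h5
  rcases hmain with h1 | h1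
  · left
    obtain ⟨e⟩ := h1
    exact ⟨(MulEquiv.subgroupCongr hcl).trans e⟩
  · right
    obtain ⟨e⟩ := h1
    exact ⟨(MulEquiv.subgroupCongr hcl).trans e⟩

end Cfsg.Agent.S5022
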