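import Cfsg.Statements.S5024
import Cfsg.Agent.Lib.Helper83_RootSets

set_option autoImplicit false
open Cfsg
open scoped commutatorElement

namespace Cfsg.Agent.S5024

open Cfsg.Agent.Lib.Helper83_RankOne Cfsg.Agent.Lib.Helper83_RootSets

variable {G : Type*} [Group G]

/-- A member of `S` inside the rank one group `⟨C, D⟩` that is not a unipotent subgroup of it
commutes elementwise with every unipotent subgroup. -/
theorem commute_of_not_mem {S : Set (Subgroup G)} (hS : Cfsg.IsRootSubgroupSet S)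
    {C D F : Subgroup G} (hC : C ∈ S) (hCD : Cfsg.IsRankOnePair C D)
    (hF : F ∈ S) (hFle : F ≤ C ⊔ D) (hFn : F ∉ Cfsg.unipotentSubgroups C D)
    {E : Subgroup G} (hE : E ∈ Cfsg.unipotentSubgroups C D) :
    ∀ f ∈ F, ∀ e ∈ E, f * e = e * f := by
  have hES : E ∈ S := by
    obtain ⟨x, _, rfl⟩ := hE
    exact hS.conj_mem C hC x
  have hEle : E ≤ C ⊔ D := le_sup_of_mem_unipotentSubgroups hE
  -- E has a rank one partner E' among the unipotent subgroups
  obtain ⟨E', hE', hEE'⟩ : ∃ E' ∈ Cfsg.unipotentSubgroups C D, E' ≠ E := by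
    by_cases h : E = C
    · exact ⟨D, right_mem_unipotentSubgroups hCD, by rw [h]; exact hCD.ne.symm⟩
    · exact ⟨C, self_mem_unipotentSubgroups C D, Ne.symm h⟩
  have hpair := (isRankOnePair_of_mem hCD hE hE' (Ne.symm hEE')).1
  have hE'S : E' ∈ S := by
    obtain ⟨x, _, rfl⟩ := hE'
    exact hS.conj_mem C hC x
  rcases hS.pair F hF E hES with h1 | h1 | h1
  · exact commutator_eq_bot_iff_commute.mp h1
  · exfalso
    obtain ⟨f, hf, hf1⟩ := exists_ne_one_left h1
    obtain ⟨e, he, _, hconj⟩ := h1.cond_left f hf hf1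
    apply hFn
    have hFeq : F = Cfsg.conjBy E (e * f⁻¹) := by
      rw [← conjBy_mul, ← hconj, conjBy_conjBy_inv]
    rw [hFeq]
    exact conjBy_mem_unipotentSubgroups hE (mul_mem (hEle he) (inv_mem (hFle hf)))
  · -- commutator case: F normalizes E, so ⁅F, E⁆ ≤ E, which forces ⁅F, E⁆ = E, absurd
    exfalso
    have hnorm : ∀ f ∈ F, Cfsg.conjBy E f = E := by
      intro f hf
      by_contra hne
      have h2 := conj_commute_of_commutatorCase (hS.commutative E hES) h1 hf
      have hmem : Cfsg.conjBy E f ∈ Cfsg.unipotentSubgroups C D :=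
        conjBy_mem_unipotentSubgroups hE (hFle hf)
      exact not_commute (isRankOnePair_of_mem hCD hmem hE hne).1 h2
    have hle : ⁅F, E⁆ ≤ E := by
      rw [Subgroup.commutator_le]
      intro f hf e he
      rw [commutatorElement_def]
      have : f * e * f⁻¹ ∈ Cfsg.conjBy E f := conj_mem_conjBy he f
      rw [hnorm f hf] at this
      exact mul_mem this (inv_mem he)
    have hcS : ⁅F, E⁆ ∈ S := h1.1
    rcases inf_eq_bot_or_eq hS hE'S hpair _ hcS with h3 | h3
    · rw [inf_eq_right.mpr hle] at h3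
      exact hS.ne_bot _ hcS h3
    · -- E = ⁅F, E⁆ is central in ⟨F, E⟩, so F commutes with E, so ⁅F, E⁆ = ⊥
      have hcomm : ∀ f ∈ F, ∀ e ∈ E, f * e = e * f := by
        intro f hf e he
        have he' : e ∈ ⁅F, E⁆ := by rw [← h3]; exact he
        exact (h1.2.1 e he' f (Subgroup.mem_sup_left hf)).symm
      exact hS.ne_bot _ hcS (commutator_eq_bot_iff_commute.mpr hcomm)

/-- A member of `S` inside `⟨C, D⟩` not commuting with some member inside is a unipotent subgroup. -/
theorem mem_of_not_commute {S : Set (Subgroup G)} (hS : Cfsg.IsRootSubgroupSet S)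
    {C D F : Subgroup G} (hC : C ∈ S) (hCD : Cfsg.IsRankOnePair C D)
    (hF : F ∈ S) (hFle : F ≤ C ⊔ D) {F' : Subgroup G} (hF'le : F' ≤ C ⊔ D)
    (hnc : ¬ ∀ f ∈ F, ∀ f' ∈ F', f * f' = f' * f) : F ∈ Cfsg.unipotentSubgroups C D := by
  by_contra hFn
  apply hnc
  have h1 := commute_of_not_mem hS hC hCD hF hFle hFn (self_mem_unipotentSubgroups C D)
  have h2 := commute_of_not_mem hS hC hCD hF hFle hFn (right_mem_unipotentSubgroups hCD)
  intro f hf
  have key : ∀ x ∈ C ⊔ D, f * x = x * f := by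
    intro x hx
    induction hx using sup_induction with
    | left c hc => exact h1 f hf c hc
    | right d hd => exact h2 f hf d hd
    | one => simp
    | mul y z _ _ ihy ihz => rw [← mul_assoc, ihy, mul_assoc, ihz, mul_assoc]
  intro f' hf'
  exact key f' (hF'le hf')

theorem result {G : Type*} [Group G] {S : Set (Subgroup G)} (hS : Cfsg.IsRootSubgroupSet S)
    {A B C D : Subgroup G} (hA : A ∈ S) (hC : C ∈ S) (hB : B ∈ Cfsg.rankOnePartners S A) (hD : D ∈ Cfsg.rankOnePartners S C)
    (hle : A ⊔ B ≤ C ⊔ D) : A ⊔ B = C ⊔ D ∧ C ∈ Cfsg.unipotentSubgroups A B ∧ D ∈ Cfsg.unipotentSubgroups A B := by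
  obtain ⟨hBS, hAB⟩ := hB
  obtain ⟨_, hCD⟩ := hD
  have hAle : A ≤ C ⊔ D := le_sup_left.trans hle
  have hBle : B ≤ C ⊔ D := le_sup_right.trans hle
  have hAmem : A ∈ Cfsg.unipotentSubgroups C D :=
    mem_of_not_commute hS hC hCD hA hAle hBle (not_commute hAB)
  have hBmem : B ∈ Cfsg.unipotentSubgroups C D :=
    mem_of_not_commute hS hC hCD hBS hBle hAle (not_commute (Cfsg.RankOnePair_symm hAB))
  have h1 := (isRankOnePair_of_mem hCD hAmem hBmem hAB.ne).2
  have h2 := unipotentSubgroups_eq_of_mem hCD hAmem hBmem hAB.ne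
  refine ⟨h1, ?_, ?_⟩
  · rw [h2]; exact self_mem_unipotentSubgroups C D
  · rw [h2]; exact right_mem_unipotentSubgroups hCD

end Cfsg.Agent.S5024
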