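import Cfsg.Statements.S5026
import Cfsg.Agent.Lib.Helper83_RootSets

set_option autoImplicit false
open Cfsg
open scoped commutatorElement

namespace Cfsg.Agent.S5026

open Cfsg.Agent.Lib.Helper83_RankOne Cfsg.Agent.Lib.Helper83_RootSets

variable {G : Type*} [Group G]

theorem le_centralizer_zpowers_iff {E : Subgroup G} {x : G} :
    E ≤ Subgroup.centralizer ((Subgroup.zpowers x : Subgroup G) : Set G) ↔ ∀ e ∈ E, e * x = x * e := by
  rw [Subgroup.zpowers_eq_closure, Subgroup.centralizer_closure]
  constructor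
  · intro h e he
    have := Subgroup.mem_centralizer_iff.mp (h he) x (Set.mem_singleton x)
    exact this.symm
  · intro h e he
    rw [Subgroup.mem_centralizer_iff]
    intro y hy
    rw [Set.mem_singleton_iff] at hy
    rw [hy]; exact (h e he).symm

/-- The heart of the matter: a member of `S` commuting with `a * b` commutes with `a`. -/
theorem commute_left {S : Set (Subgroup G)} (hS : Cfsg.IsRootSubgroupSet S) (hdeg : Cfsg.IsDegenerateRootSet S)
    {a b : G} {A B E : Subgroup G} (hA : A ∈ S) (hB : B ∈ S) (hE : E ∈ S)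
    (ha : a ∈ A) (ha1 : a ≠ 1) (hb : b ∈ B) (hb1 : b ≠ 1) (hab : a * b = b * a) (hab1 : a * b ≠ 1)
    (hEab : ∀ e ∈ E, e * (a * b) = (a * b) * e) : ∀ e ∈ E, e * a = a * e := by
  by_contra hna
  -- then E does not commute with b either
  have hnb : ¬ ∀ e ∈ E, e * b = b * e := by
    intro hb'
    apply hna
    intro e he
    have h1 := hEab e he
    have h2 := hb' e he
    have e1 : e * a = e * (a * b) * b⁻¹ := by group
    rw [e1, h1]
    have e2 : a * b * e * b⁻¹ = a * (b * e) * b⁻¹ := by group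
    rw [e2, ← h2]; group
  -- so (A, E) and (B, E) are rank one pairs
  have hAE : Cfsg.IsRankOnePair A E := by
    rcases hS.pair A hA E hE with h | h | h
    · exfalso; apply hna
      intro e he
      exact (commutator_eq_bot_iff_commute.mp h a ha e he).symm
    · exact h
    · exact absurd h (hdeg A hA E hE)
  have hBE : Cfsg.IsRankOnePair B E := by
    rcases hS.pair B hB E hE with h | h | h
    · exfalso; apply hnb
      intro e he
      exact (commutator_eq_bot_iff_commute.mp h b hb e he).symm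
    · exact h
    · exact absurd h (hdeg B hB E hE)
  -- a * b normalizes E
  have habN : a * b ∈ Subgroup.normalizer (E : Set G) :=
    mem_normalizer_of_commute (fun e he => (hEab e he).symm)
  have hEconj : Cfsg.conjBy E b = Cfsg.conjBy E a⁻¹ := by
    have h1 : Cfsg.conjBy E (a * b) = E := conjBy_of_mem_normalizer habN
    rw [← conjBy_mul] at h1
    rw [conjBy_eq_iff] at h1
    exact h1
  obtain ⟨e, he, _, hconj⟩ := hAE.cond_left a ha ha1
  have hb1' : b⁻¹ ≠ 1 := by simpa using hb1
  obtain ⟨e', he', _, hconj'⟩ := hBE.cond_left b⁻¹ (inv_mem hb) hb1'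
  rw [inv_inv, hEconj, ← hconj] at hconj'
  have hBeq : B = Cfsg.conjBy A (e' * e⁻¹) := by
    rw [← conjBy_mul, ← hconj', conjBy_conjBy_inv]
  have hBmem : B ∈ Cfsg.unipotentSubgroups A E :=
    ⟨e' * e⁻¹, Subgroup.mem_sup_right (mul_mem he' (inv_mem he)), hBeq⟩
  by_cases hBA : B = A
  · -- then a * b ∈ A normalizes E
    rw [hBA] at hb
    exact hab1 (eq_one_of_mem_of_mem_normalizer hAE (mul_mem ha hb) habN)
  · -- (B, A) is a rank one pair; b fixes the conjugate of B by a
    have hBApair := (isRankOnePair_of_mem hAE hBmem (self_mem_unipotentSubgroups A E) hBA).1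
    have hmem : Cfsg.conjBy B a ∈ Cfsg.unipotentSubgroups B A :=
      ⟨a, Subgroup.mem_sup_right ha, rfl⟩
    have hne : Cfsg.conjBy B a ≠ B := by
      intro h
      exact ha1 (eq_one_of_mem_of_mem_normalizer (Cfsg.RankOnePair_symm hBApair) ha
        (mem_normalizer_of_conjBy_eq h))
    have hbot := inf_normalizer_eq_bot_of_mem hBApair hmem hne
    have hbmem : b ∈ Cfsg.conjBy B a := by
      have := conj_mem_conjBy hb a
      rw [hab, mul_assoc, mul_inv_cancel, mul_one] at this
      exact this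
    have : b ∈ B ⊓ Subgroup.normalizer ((Cfsg.conjBy B a : Subgroup G) : Set G) :=
      Subgroup.mem_inf.mpr ⟨hb, Subgroup.le_normalizer hbmem⟩
    rw [hbot, Subgroup.mem_bot] at this
    exact hb1 this

theorem result {G : Type*} [Group G] {S : Set (Subgroup G)} (hS : Cfsg.IsRootSubgroupSet S) (hdeg : Cfsg.IsDegenerateRootSet S)
    {a b : G} (ha : a ∈ Cfsg.rootElements S) (hb : b ∈ Cfsg.rootElements S) (hab : a * b = b * a) (hab1 : a * b ≠ 1) :
    Cfsg.centralizingMembers S (Subgroup.zpowers (a * b)) =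
      Cfsg.centralizingMembers S (Subgroup.zpowers a) ∩ Cfsg.centralizingMembers S (Subgroup.zpowers b) := by
  obtain ⟨ha1, A, hA, haA⟩ := ha
  obtain ⟨hb1, B, hB, hbB⟩ := hb
  ext E
  simp only [Cfsg.centralizingMembers, Set.mem_ofPred_eq, Set.mem_inter_iff, le_centralizer_zpowers_iff]
  constructor
  · rintro ⟨hE, hEab⟩
    have h1 := commute_left hS hdeg hA hB hE haA ha1 hbB hb1 hab hab1 hEab
    have hba1 : b * a ≠ 1 := by rw [← hab]; exact hab1
    have hEba : ∀ e ∈ E, e * (b * a) = (b * a) * e := by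
      intro e he; rw [← hab]; exact hEab e he
    have h2 := commute_left hS hdeg hB hA hE hbB hb1 haA ha1 hab.symm hba1 hEba
    exact ⟨⟨hE, h1⟩, ⟨hE, h2⟩⟩
  · rintro ⟨⟨hE, h1⟩, ⟨_, h2⟩⟩
    refine ⟨hE, ?_⟩
    intro e he
    rw [← mul_assoc, h1 e he, mul_assoc, h2 e he, mul_assoc]

end Cfsg.Agent.S5026
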