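import Cfsg.Statements.S5027
import Cfsg.Agent.S5025

set_option autoImplicit false
open Cfsg
open scoped commutatorElement

namespace Cfsg.Agent.S5027

open Cfsg.Agent.Lib.Helper83_RankOne Cfsg.Agent.Lib.Helper83_RootSets

theorem result {G : Type*} [Group G] {S : Set (Subgroup G)} (hS : Cfsg.IsRootSubgroupSet S)
    (hF : ∀ A ∈ S, ¬ Cfsg.IsIsolatedIn (Cfsg.FAdj S) S A) : Subgroup.upperCentralSeries G 2 = Subgroup.center G := by
  apply le_antisymm
  · intro z hz
    -- z commutes with every element of every member of S
    have key : ∀ A ∈ S, ∀ a ∈ A, z * a = a * z := by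
      intro A hA a ha
      by_contra hne
      obtain ⟨B, hB, hAB⟩ := exists_partner (hF A hA) hA
      have hc : ⁅z, a⁆ ∈ Subgroup.center G := by
        have := (Subgroup.mem_upperCentralSeries_succ_iff (n := 1)).mp hz a
        rwa [Subgroup.upperCentralSeries_one] at this
      have hc1 : ⁅z, a⁆ ≠ 1 := by
        intro h
        rw [commutatorElement_eq_one_iff_mul_comm] at h
        exact hne h
      have ha1 : a ≠ 1 := by
        intro h
        apply hne
        rw [h, mul_one, one_mul]
      have hcen : ⁅z, a⁆ ∈ Subgroup.centralizer ((A ⊔ B : Subgroup G) : Set G) :=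
        Subgroup.center_le_centralizer _ hc
      have hnot := Cfsg.Agent.S5025.result hS hA ⟨hB, hAB⟩ hcen hc1 a ha ha1
      apply hnot
      have e : ⁅z, a⁆ * a = z * a * z⁻¹ := by
        rw [commutatorElement_def]; group
      rw [e]
      refine ⟨?_, Cfsg.conjBy A z, hS.conj_mem A hA z, conj_mem_conjBy ha z⟩
      intro h
      apply ha1
      have : a = z⁻¹ * (z * a * z⁻¹) * z := by group
      rw [this, h]; group
    -- hence z centralizes the group generated by S
    have hle : (⨆ A ∈ S, A) ≤ Subgroup.centralizer ({z} : Set G) := by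
      refine iSup₂_le ?_
      intro A hA a ha
      rw [Subgroup.mem_centralizer_iff]
      intro y hy
      rw [Set.mem_singleton_iff] at hy
      rw [hy]; exact key A hA a ha
    rw [hS.generates] at hle
    rw [Subgroup.mem_center_iff]
    intro g
    have := hle (Subgroup.mem_top g)
    rw [Subgroup.mem_centralizer_iff] at this
    exact (this z (Set.mem_singleton z)).symm
  · rw [← Subgroup.upperCentralSeries_one]
    exact Subgroup.upperCentralSeries_mono G (by norm_num)

end Cfsg.Agent.S5027
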