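import Cfsg.Statements.S5030
import Cfsg.Agent.Lib.Helper83_RankOne
import Cfsg.Agent.Lib.Helper83_RootSets
import Cfsg.Agent.Lib.Helper83_CommCase
import Cfsg.Agent.Lib.Helper83_CommCase2
import Cfsg.Agent.Lib.Helper83_DLemma
import Cfsg.Agent.Lib.Helper83_Nilpotent
import Cfsg.Agent.Lib.Helper83_Nilpotent2
import Cfsg.Agent.S5034

set_option autoImplicit false
open Cfsg
open scoped commutatorElement

namespace Cfsg.Agent.S5030

open Cfsg.Agent.Lib.Helper83_RankOne Cfsg.Agent.Lib.Helper83_RootSets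
open Cfsg.Agent.Lib.Helper83_CommCase Cfsg.Agent.Lib.Helper83_CommCase2
open Cfsg.Agent.Lib.Helper83_DLemma (no_third_point conjBy_eq_of_commute)
open Cfsg.Agent.Lib.Helper83_Nilpotent

variable {G : Type*} [Group G] {S : Set (Subgroup G)}

theorem comm_of_commutator_eq_one {x y : G} (h : x * y * x⁻¹ * y⁻¹ = 1) : x * y = y * x := by
  calc x * y = (x * y * x⁻¹ * y⁻¹) * (y * x) := by group
    _ = y * x := by rw [h, one_mul]

theorem commute_commutator {u f v : G} (h1 : u * v = v * u) (h2 : f * v = v * f) :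
    (u * f * u⁻¹ * f⁻¹) * v = v * (u * f * u⁻¹ * f⁻¹) := by
  have e3 : u⁻¹ * v = v * u⁻¹ := by
    calc u⁻¹ * v = u⁻¹ * (v * u) * u⁻¹ := by group
      _ = u⁻¹ * (u * v) * u⁻¹ := by rw [h1]
      _ = v * u⁻¹ := by group
  have e4 : f⁻¹ * v = v * f⁻¹ := by
    calc f⁻¹ * v = f⁻¹ * (v * f) * f⁻¹ := by group
      _ = f⁻¹ * (f * v) * f⁻¹ := by rw [h2]
      _ = v * f⁻¹ := by group
  calc u * f * u⁻¹ * f⁻¹ * v = u * f * u⁻¹ * (f⁻¹ * v) := by group
    _ = u * f * u⁻¹ * (v * f⁻¹) := by rw [e4]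
    _ = u * f * (u⁻¹ * v) * f⁻¹ := by group
    _ = u * f * (v * u⁻¹) * f⁻¹ := by rw [e3]
    _ = u * (f * v) * u⁻¹ * f⁻¹ := by group
    _ = u * (v * f) * u⁻¹ * f⁻¹ := by rw [h2]
    _ = (u * v) * f * u⁻¹ * f⁻¹ := by group
    _ = (v * u) * f * u⁻¹ * f⁻¹ := by rw [h1]
    _ = v * (u * f * u⁻¹ * f⁻¹) := by group

/-- An element commuting with `H` and `K` commutes with `⁅H, K⁆`. -/
theorem commute_commutator_subgroup {H K : Subgroup G} {v : G} (hH : ∀ h ∈ H, h * v = v * h)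
    (hK : ∀ k ∈ K, k * v = v * k) : ∀ κ ∈ ⁅H, K⁆, κ * v = v * κ := by
  intro κ hκ
  rw [commutator_eq_closure_set] at hκ
  have hv : v ∈ Subgroup.closure ({v} : Set G) := Subgroup.subset_closure rfl
  refine commute_of_closure ?_ κ hκ v hv
  rintro s ⟨u, hu, f, hf, rfl⟩ t ht
  rw [Set.mem_singleton_iff] at ht
  subst ht
  exact commute_commutator (hH u hu) (hK f hf)

theorem commute_sup {H K : Subgroup G} {x : G} (hH : ∀ h ∈ H, x * h = h * x)
    (hK : ∀ k ∈ K, x * k = k * x) : ∀ y ∈ H ⊔ K, x * y = y * x := by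
  intro y hy
  rw [sup_eq_closure] at hy
  have hx : x ∈ Subgroup.closure ({x} : Set G) := Subgroup.subset_closure rfl
  refine commute_of_closure ?_ x hx y hy
  rintro s hs t (ht | ht)
  · rw [Set.mem_singleton_iff] at hs; subst hs; exact hH t ht
  · rw [Set.mem_singleton_iff] at hs; subst hs; exact hK t ht

/-- If `A` commutes with `C` and `⁅B, C⁆ ∈ S`, then `A` and `⁅B, C⁆` do not form a rank one pair. -/
theorem not_rankOne_commutator (hS : Cfsg.IsRootSubgroupSet S) {A B C : Subgroup G} (hA : A ∈ S)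
    (hC : C ∈ S) (cBC : Cfsg.RootCommutatorCase S B C)
    (hAC : ∀ a ∈ A, ∀ c ∈ C, a * c = c * a) : ¬ Cfsg.IsRankOnePair A ⁅B, C⁆ := by
  intro hr
  have hF : ⁅B, C⁆ ∈ S := cBC.1
  have hne := hS.ne_bot _ hF
  have hex : ∃ b₀ ∈ B, ∃ c ∈ C, ⁅b₀, c⁆ ≠ 1 := by
    by_contra hcon
    push Not at hcon
    apply hne
    rw [commutator_eq_bot_iff_commute]
    intro b hb c hc
    have h1 := hcon b hb c hc
    rw [commutatorElement_def] at h1
    exact comm_of_commutator_eq_one h1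
  obtain ⟨b₀, hb₀, c, hc, hν1⟩ := hex
  have cCB := commutatorCase_symm cBC
  have hCBeq : ⁅C, B⁆ = ⁅B, C⁆ := Subgroup.commutator_comm C B
  have hle : Cfsg.conjBy C b₀ ≤ C ⊔ ⁅B, C⁆ := by
    rw [← hCBeq]; exact conjBy_le_sup hb₀
  have hne' : Cfsg.conjBy C b₀ ≠ ⁅B, C⁆ := by
    intro h2
    have h3 : C = ⁅B, C⁆ := by
      have h4 := conjBy_inv_conjBy C b₀
      rw [h2] at h4
      have h5 : Cfsg.conjBy ⁅B, C⁆ b₀⁻¹ = ⁅B, C⁆ :=
        conjBy_eq_of_commute (fun q hq => (comm_left cBC hq (inv_mem hb₀)).symm)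
      exact h4.symm.trans h5
    apply ne_commutator hS cCB
    rw [hCBeq]; exact h3
  have he : ⁅b₀, c⁆ * c ∈ Cfsg.conjBy C b₀ := by
    have h2 : b₀ * c * b₀⁻¹ ∈ Cfsg.conjBy C b₀ := conj_mem_conjBy hc b₀
    have e : b₀ * c * b₀⁻¹ = ⁅b₀, c⁆ * c := by rw [commutatorElement_def]; group
    rwa [e] at h2
  exact no_third_point hS hA hF (hS.conj_mem C hC b₀) hr
    (fun c' hc' a ha => (hAC a ha c' hc').symm)
    (fun c' hc' ν hν => (comm_right cBC hν hc').symm) hle hne'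
    (Subgroup.commutator_mem_commutator hb₀ hc) hν1 hc he

theorem central_of_not_rankOne (hS : Cfsg.IsRootSubgroupSet S) {U F : Subgroup G} (hU : U ∈ S)
    (hF : F ∈ S) (hn : ¬ Cfsg.IsRankOnePair U F) :
    (∀ κ ∈ ⁅U, F⁆, ∀ u ∈ U, κ * u = u * κ) ∧ (∀ κ ∈ ⁅U, F⁆, ∀ f ∈ F, κ * f = f * κ) := by
  rcases hS.pair U hU F hF with h1 | h1 | h1
  · rw [h1]
    constructor
    · intro κ hκ u _
      rw [Subgroup.mem_bot] at hκ; subst hκ; simp
    · intro κ hκ f _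
      rw [Subgroup.mem_bot] at hκ; subst hκ; simp
  · exact absurd h1 hn
  · exact ⟨fun κ hκ u hu => comm_left h1 hκ hu, fun κ hκ f hf => comm_right h1 hκ hf⟩

/-- `U ⊔ V ⊔ F` has class at most two when `U`, `V`, `F` are abelian, `V` commutes with `U` and `F`,
and `⁅U, F⁆` is centralized by `U` and `F`. -/
theorem class_two {U V F : Subgroup G} (UU : ∀ x ∈ U, ∀ y ∈ U, x * y = y * x)
    (VV : ∀ x ∈ V, ∀ y ∈ V, x * y = y * x) (FF : ∀ x ∈ F, ∀ y ∈ F, x * y = y * x)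
    (UV : ∀ u ∈ U, ∀ v ∈ V, u * v = v * u) (FV : ∀ f ∈ F, ∀ v ∈ V, f * v = v * f)
    (cU : ∀ κ ∈ ⁅U, F⁆, ∀ u ∈ U, κ * u = u * κ) (cF : ∀ κ ∈ ⁅U, F⁆, ∀ f ∈ F, κ * f = f * κ) :
    (∀ x ∈ U ⊔ V ⊔ F, ∀ y ∈ U ⊔ V ⊔ F, x * y * x⁻¹ * y⁻¹ ∈ ⁅U, F⁆) ∧
      (∀ κ ∈ ⁅U, F⁆, ∀ x ∈ U ⊔ V ⊔ F, κ * x = x * κ) := by
  have cV : ∀ κ ∈ ⁅U, F⁆, ∀ v ∈ V, κ * v = v * κ := fun κ hκ v hv =>
    commute_commutator_subgroup (fun u hu => UV u hu v hv) (fun f hf => FV f hf v hv) κ hκ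
  have hcen : ∀ κ ∈ ⁅U, F⁆, ∀ x ∈ U ⊔ V ⊔ F, κ * x = x * κ := by
    intro κ hκ x hx
    rw [sup3_eq_closure] at hx
    have hκ' : κ ∈ Subgroup.closure ((⁅U, F⁆ : Subgroup G) : Set G) := Subgroup.subset_closure hκ
    refine commute_of_closure ?_ κ hκ' x hx
    rintro s hs t ((ht | ht) | ht)
    · exact cU s hs t ht
    · exact cV s hs t ht
    · exact cF s hs t ht
  refine ⟨?_, hcen⟩
  have conj_of_comm : ∀ {z w : G}, z * w = w * z → w * z * w⁻¹ = z := by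
    intro z w h; rw [← h]; group
  have nrm : SetNormalizes ((U : Set G) ∪ V ∪ F) ⁅U, F⁆ := by
    refine (SetNormalizes.union (SetNormalizes.union ?_ ?_) ?_)
    · exact setNormalizes_of_subgroup (fun t ht z hz => by
        rw [conj_of_comm (cU z hz t ht)]; exact hz)
    · exact setNormalizes_of_subgroup (fun t ht z hz => by
        rw [conj_of_comm (cV z hz t ht)]; exact hz)
    · exact setNormalizes_of_subgroup (fun t ht z hz => by
        rw [conj_of_comm (cF z hz t ht)]; exact hz)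
  intro x hx y hy
  rw [sup3_eq_closure] at hx hy
  refine comm_mem_of_closure nrm nrm ?_ x hx y hy
  rintro s ((hs | hs) | hs) t ((ht | ht) | ht)
  · rw [comm_eq_one_of_commute (UU s hs t ht)]; exact one_mem _
  · rw [comm_eq_one_of_commute (UV s hs t ht)]; exact one_mem _
  · rw [← commutatorElement_def]; exact Subgroup.commutator_mem_commutator hs ht
  · rw [comm_eq_one_of_commute (UV t ht s hs).symm]; exact one_mem _
  · rw [comm_eq_one_of_commute (VV s hs t ht)]; exact one_mem _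
  · rw [comm_eq_one_of_commute (FV t ht s hs).symm]; exact one_mem _
  · apply comm_inv_mem
    rw [← commutatorElement_def]; exact Subgroup.commutator_mem_commutator ht hs
  · rw [comm_eq_one_of_commute (FV s hs t ht)]; exact one_mem _
  · rw [comm_eq_one_of_commute (FF s hs t ht)]; exact one_mem _

/-- A subgroup of a group of class at most two (in the above sense) has class at most two. -/
theorem class_two_sub {T Z X : Subgroup G} (hXT : X ≤ T)
    (h1 : ∀ x ∈ T, ∀ y ∈ T, x * y * x⁻¹ * y⁻¹ ∈ Z) (h2 : ∀ κ ∈ Z, ∀ x ∈ T, κ * x = x * κ) :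
    ⁅⁅X, X⁆, X⁆ = ⊥ := by
  rw [commutator_eq_bot_iff_commute]
  intro z hz w hw
  have hz' : z ∈ Z := by
    have hle : ⁅X, X⁆ ≤ Z := by
      rw [Subgroup.commutator_le]
      intro x hx y hy
      rw [commutatorElement_def]
      exact h1 x (hXT hx) y (hXT hy)
    exact hle hz
  exact h2 z hz' w (hXT hw)

theorem result {G : Type*} [Group G] {S : Set (Subgroup G)} (hS : Cfsg.IsRootSubgroupSet S)
    {A B C : Subgroup G} (hA : A ∈ S) (hB : B ∈ S) (hC : C ∈ S) (hAB : ⁅A, B⁆ ∈ S) (hBC : ⁅B, C⁆ ∈ S)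
    (hAC : C ∈ Cfsg.commutingPartners S A)
    {b : G} (hb : b ∈ B) (hb1 : b ≠ 1) :
    ((IsMulCommutative ↥(A ⊔ Cfsg.conjBy C b⁻¹) ∧ IsMulCommutative ↥(Cfsg.conjBy A b⁻¹ ⊔ C)) ∨
      ((¬ IsMulCommutative ↥(A ⊔ Cfsg.conjBy C b⁻¹) ∧
          ⁅⁅A ⊔ Cfsg.conjBy C b⁻¹, A ⊔ Cfsg.conjBy C b⁻¹⁆, A ⊔ Cfsg.conjBy C b⁻¹⁆ = ⊥) ∧
        (¬ IsMulCommutative ↥(Cfsg.conjBy A b⁻¹ ⊔ C) ∧
          ⁅⁅Cfsg.conjBy A b⁻¹ ⊔ C, Cfsg.conjBy A b⁻¹ ⊔ C⁆, Cfsg.conjBy A b⁻¹ ⊔ C⁆ = ⊥))) ∧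
    ⁅A ⊔ Cfsg.conjBy C b⁻¹, Cfsg.conjBy A b⁻¹ ⊔ C⁆ = ⊥ ∧
    (∀ r ∈ A ⊔ B ⊔ C, Cfsg.conjBy ((A ⊔ Cfsg.conjBy C b⁻¹) ⊔ (Cfsg.conjBy A b⁻¹ ⊔ C)) r =
      (A ⊔ Cfsg.conjBy C b⁻¹) ⊔ (Cfsg.conjBy A b⁻¹ ⊔ C)) ∧
    ((A ⊔ Cfsg.conjBy C b⁻¹) ⊔ (Cfsg.conjBy A b⁻¹ ⊔ C)) ⊔ B = A ⊔ B ⊔ C ∧
    Group.IsNilpotent ↥(A ⊔ B ⊔ C) := by
  obtain ⟨_, hCA, hAC0⟩ := hAC
  have cAB : Cfsg.RootCommutatorCase S A B := commutatorCase_of_mem hS hA hB hAB
  have cBC : Cfsg.RootCommutatorCase S B C := commutatorCase_of_mem hS hB hC hBC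
  have cBA := commutatorCase_symm cAB
  have cCB := commutatorCase_symm cBC
  have hBAeq : ⁅B, A⁆ = ⁅A, B⁆ := Subgroup.commutator_comm B A
  have hCBeq : ⁅C, B⁆ = ⁅B, C⁆ := Subgroup.commutator_comm C B
  have AC : ∀ a ∈ A, ∀ c ∈ C, a * c = c * a := commutator_eq_bot_iff_commute.mp hAC0
  have AA : ∀ x ∈ A, ∀ y ∈ A, x * y = y * x := fun x hx y hy => comm_of_mem (hS.commutative A hA) hx hy
  have BB : ∀ x ∈ B, ∀ y ∈ B, x * y = y * x := fun x hx y hy => comm_of_mem (hS.commutative B hB) hx hy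
  have CC : ∀ x ∈ C, ∀ y ∈ C, x * y = y * x := fun x hx y hy => comm_of_mem (hS.commutative C hC) hx hy
  have F₁F₁ : ∀ x ∈ ⁅A, B⁆, ∀ y ∈ ⁅A, B⁆, x * y = y * x :=
    fun x hx y hy => comm_of_mem (hS.commutative _ hAB) hx hy
  have F₂F₂ : ∀ x ∈ ⁅B, C⁆, ∀ y ∈ ⁅B, C⁆, x * y = y * x :=
    fun x hx y hy => comm_of_mem (hS.commutative _ hBC) hx hy
  have F₁A : ∀ f ∈ ⁅A, B⁆, ∀ a ∈ A, f * a = a * f := fun f hf a ha => comm_left cAB hf ha
  have F₁B : ∀ f ∈ ⁅A, B⁆, ∀ b ∈ B, f * b = b * f := fun f hf b hb => comm_right cAB hf hb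
  have F₂B : ∀ f ∈ ⁅B, C⁆, ∀ b ∈ B, f * b = b * f := fun f hf b hb => comm_left cBC hf hb
  have F₂C : ∀ f ∈ ⁅B, C⁆, ∀ c ∈ C, f * c = c * f := fun f hf c hc => comm_right cBC hf hc
  have hbi : b⁻¹ ∈ B := inv_mem hb
  have hbi1 : b⁻¹ ≠ 1 := by simpa using hb1
  -- not rank one
  have nr1 : ¬ Cfsg.IsRankOnePair A ⁅B, C⁆ := not_rankOne_commutator hS hA hC cBC AC
  have nr2 : ¬ Cfsg.IsRankOnePair C ⁅A, B⁆ := by
    rw [← hBAeq]
    exact not_rankOne_commutator hS hC hA cBA (fun c hc a ha => (AC a ha c hc).symm)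
  obtain ⟨cK₁A, cK₁F⟩ := central_of_not_rankOne hS hA hBC nr1
  obtain ⟨cK₂C, cK₂F⟩ := central_of_not_rankOne hS hC hAB nr2
  -- the two class two groups
  obtain ⟨T1, T2⟩ := class_two AA CC F₂F₂ AC F₂C cK₁A cK₁F
  obtain ⟨T1', T2'⟩ := class_two CC AA F₁F₁ (fun c hc a ha => (AC a ha c hc).symm) F₁A cK₂C cK₂F
  -- containments
  have hCb : Cfsg.conjBy C b⁻¹ ≤ C ⊔ ⁅B, C⁆ := by
    rw [← hCBeq]; exact conjBy_le_sup hbi
  have hAb : Cfsg.conjBy A b⁻¹ ≤ A ⊔ ⁅A, B⁆ := conjBy_le_sup hbi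
  have hXT : A ⊔ Cfsg.conjBy C b⁻¹ ≤ A ⊔ C ⊔ ⁅B, C⁆ := by
    refine sup_le (le_sup_of_le_left le_sup_left) ?_
    refine le_trans hCb (sup_le (le_sup_of_le_left le_sup_right) le_sup_right)
  have hYT : Cfsg.conjBy A b⁻¹ ⊔ C ≤ C ⊔ A ⊔ ⁅A, B⁆ := by
    refine sup_le ?_ (le_sup_of_le_left le_sup_left)
    refine le_trans hAb (sup_le (le_sup_of_le_left le_sup_right) le_sup_right)
  have hX2 := class_two_sub hXT T1 T2
  have hY2 := class_two_sub hYT T1' T2'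
  -- X and Y commute
  have hXY : ∀ x ∈ A ⊔ Cfsg.conjBy C b⁻¹, ∀ y ∈ Cfsg.conjBy A b⁻¹ ⊔ C, x * y = y * x := by
    intro x hx y hy
    rw [sup_eq_closure] at hx hy
    refine commute_of_closure ?_ x hx y hy
    rintro s (hs | hs) t (ht | ht)
    · exact commute_sup (fun a ha => AA s hs a ha) (fun f hf => (F₁A f hf s hs).symm) t (hAb ht)
    · exact AC s hs t ht
    · exact Cfsg.Agent.S5034.comm_conj (fun c hc a ha => (AC a ha c hc).symm) b⁻¹ s hs t ht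
    · exact (commute_sup (fun c hc => CC t ht c hc) (fun f hf => (F₂C f hf t ht).symm) s
        (hCb hs)).symm
  -- X ⊔ Y = N
  have eqN : (A ⊔ Cfsg.conjBy C b⁻¹) ⊔ (Cfsg.conjBy A b⁻¹ ⊔ C) = A ⊔ C ⊔ ⁅A, B⁆ ⊔ ⁅B, C⁆ := by
    apply le_antisymm
    · refine sup_le (sup_le ?_ ?_) (sup_le ?_ ?_)
      · exact le_sup_of_le_left (le_sup_of_le_left le_sup_left)
      · refine le_trans hCb (sup_le ?_ le_sup_right)
        exact le_sup_of_le_left (le_sup_of_le_left le_sup_right)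
      · refine le_trans hAb (sup_le ?_ ?_)
        · exact le_sup_of_le_left (le_sup_of_le_left le_sup_left)
        · exact le_sup_of_le_left le_sup_right
      · exact le_sup_of_le_left (le_sup_of_le_left le_sup_right)
    · refine sup_le (sup_le (sup_le ?_ ?_) ?_) ?_
      · exact le_sup_of_le_left le_sup_left
      · exact le_sup_of_le_right le_sup_right
      · intro f hf
        rw [← hBAeq] at hf
        obtain ⟨a, ha, haf⟩ := exists_commutator_eq cBA hbi hbi1 hf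
        rw [← haf, commutatorElement_def]
        have h1 : b⁻¹ * a * b⁻¹⁻¹ ∈ Cfsg.conjBy A b⁻¹ := conj_mem_conjBy ha b⁻¹
        exact mul_mem (Subgroup.mem_sup_right (Subgroup.mem_sup_left h1))
          (Subgroup.mem_sup_left (Subgroup.mem_sup_left (inv_mem ha)))
      · intro f hf
        obtain ⟨c, hc, hcf⟩ := exists_commutator_eq cBC hbi hbi1 hf
        rw [← hcf, commutatorElement_def]
        have h1 : b⁻¹ * c * b⁻¹⁻¹ ∈ Cfsg.conjBy C b⁻¹ := conj_mem_conjBy hc b⁻¹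
        exact mul_mem (Subgroup.mem_sup_left (Subgroup.mem_sup_right h1))
          (Subgroup.mem_sup_right (Subgroup.mem_sup_right (inv_mem hc)))
  -- membership helpers for N
  have hAN : ∀ a ∈ A, a ∈ A ⊔ C ⊔ ⁅A, B⁆ ⊔ ⁅B, C⁆ := fun a ha =>
    Subgroup.mem_sup_left (Subgroup.mem_sup_left (Subgroup.mem_sup_left ha))
  have hCN : ∀ c ∈ C, c ∈ A ⊔ C ⊔ ⁅A, B⁆ ⊔ ⁅B, C⁆ := fun c hc =>
    Subgroup.mem_sup_left (Subgroup.mem_sup_left (Subgroup.mem_sup_right hc))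
  have hF₁N : ∀ f ∈ ⁅A, B⁆, f ∈ A ⊔ C ⊔ ⁅A, B⁆ ⊔ ⁅B, C⁆ := fun f hf =>
    Subgroup.mem_sup_left (Subgroup.mem_sup_right hf)
  have hF₂N : ∀ f ∈ ⁅B, C⁆, f ∈ A ⊔ C ⊔ ⁅A, B⁆ ⊔ ⁅B, C⁆ := fun f hf => Subgroup.mem_sup_right hf
  have abF : ∀ a ∈ A, ∀ b ∈ B, a * b * a⁻¹ * b⁻¹ ∈ ⁅A, B⁆ := fun a ha b hb => by
    rw [← commutatorElement_def]; exact Subgroup.commutator_mem_commutator ha hb
  have bcF : ∀ b ∈ B, ∀ c ∈ C, b * c * b⁻¹ * c⁻¹ ∈ ⁅B, C⁆ := fun b hb c hc => by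
    rw [← commutatorElement_def]; exact Subgroup.commutator_mem_commutator hb hc
  -- B normalizes N
  have BN : ∀ b ∈ B, ∀ z ∈ A ⊔ C ⊔ ⁅A, B⁆ ⊔ ⁅B, C⁆, b * z * b⁻¹ ∈ A ⊔ C ⊔ ⁅A, B⁆ ⊔ ⁅B, C⁆ := by
    intro b hb z hz
    rw [sup4_eq_closure] at hz
    refine conj_mem_closure ?_ z hz
    rintro t (((ht | ht) | ht) | ht)
    · have h1 := comm_inv_mem (abF t ht b hb)
      have e : b * t * b⁻¹ = (b * t * b⁻¹ * t⁻¹) * t := by group
      rw [e]; exact mul_mem (hF₁N _ h1) (hAN t ht)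
    · have h1 := bcF b hb t ht
      have e : b * t * b⁻¹ = (b * t * b⁻¹ * t⁻¹) * t := by group
      rw [e]; exact mul_mem (hF₂N _ h1) (hCN t ht)
    · have e : b * t * b⁻¹ = t := by rw [← F₁B t ht b hb]; group
      rw [e]; exact hF₁N t ht
    · have e : b * t * b⁻¹ = t := by rw [← F₂B t ht b hb]; group
      rw [e]; exact hF₂N t ht
  have nRN : SetNormalizes ((A : Set G) ∪ B ∪ C) (A ⊔ C ⊔ ⁅A, B⁆ ⊔ ⁅B, C⁆) := by
    refine (SetNormalizes.union (SetNormalizes.union ?_ ?_) ?_)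
    · exact setNormalizes_of_subgroup (fun t ht z hz =>
        mul_mem (mul_mem (hAN t ht) hz) (inv_mem (hAN t ht)))
    · exact setNormalizes_of_subgroup (fun t ht z hz => BN t ht z hz)
    · exact setNormalizes_of_subgroup (fun t ht z hz =>
        mul_mem (mul_mem (hCN t ht) hz) (inv_mem (hCN t ht)))
  have hRN : ∀ r ∈ A ⊔ B ⊔ C, ∀ z ∈ A ⊔ C ⊔ ⁅A, B⁆ ⊔ ⁅B, C⁆,
      r * z * r⁻¹ ∈ A ⊔ C ⊔ ⁅A, B⁆ ⊔ ⁅B, C⁆ := by
    intro r hr
    rw [sup3_eq_closure] at hr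
    exact nRN.closure r hr
  -- class two for N
  have N2 : ∀ u ∈ A ⊔ C ⊔ ⁅A, B⁆ ⊔ ⁅B, C⁆, ∀ v ∈ A ⊔ C ⊔ ⁅A, B⁆ ⊔ ⁅B, C⁆,
      ∀ w ∈ A ⊔ C ⊔ ⁅A, B⁆ ⊔ ⁅B, C⁆, (u * v * u⁻¹ * v⁻¹) * w = w * (u * v * u⁻¹ * v⁻¹) := by
    rw [← eqN]
    generalize hXdef : A ⊔ Cfsg.conjBy C b⁻¹ = X at hX2 hXY
    generalize hYdef : Cfsg.conjBy A b⁻¹ ⊔ C = Y at hY2 hXY
    have hXc : ∀ z ∈ ⁅X, X⁆, ∀ x ∈ X, z * x = x * z := commutator_eq_bot_iff_commute.mp hX2
    have hYc : ∀ z ∈ ⁅Y, Y⁆, ∀ y ∈ Y, z * y = y * z := commutator_eq_bot_iff_commute.mp hY2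
    have hXXle : ⁅X, X⁆ ≤ X := by
      rw [Subgroup.commutator_le]
      intro x hx y hy
      rw [commutatorElement_def]
      exact mul_mem (mul_mem (mul_mem hx hy) (inv_mem hx)) (inv_mem hy)
    have hYYle : ⁅Y, Y⁆ ≤ Y := by
      rw [Subgroup.commutator_le]
      intro x hx y hy
      rw [commutatorElement_def]
      exact mul_mem (mul_mem (mul_mem hx hy) (inv_mem hx)) (inv_mem hy)
    have hZc : ∀ z ∈ ⁅X, X⁆ ⊔ ⁅Y, Y⁆, ∀ w ∈ X ⊔ Y, z * w = w * z := by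
      intro z hz w hw
      rw [sup_eq_closure] at hz hw
      refine commute_of_closure ?_ z hz w hw
      rintro s (hs | hs) t (ht | ht)
      · exact hXc s hs t ht
      · exact hXY s (hXXle hs) t ht
      · exact (hXY t ht s (hYYle hs)).symm
      · exact hYc s hs t ht
    have conj_of_comm : ∀ {z w : G}, z * w = w * z → w * z * w⁻¹ = z := by
      intro z w h; rw [← h]; group
    have nrm : SetNormalizes ((X : Set G) ∪ Y) (⁅X, X⁆ ⊔ ⁅Y, Y⁆) := by
      refine SetNormalizes.union ?_ ?_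
      · exact setNormalizes_of_subgroup (fun t ht z hz => by
          rw [conj_of_comm (hZc z hz t (Subgroup.mem_sup_left ht))]; exact hz)
      · exact setNormalizes_of_subgroup (fun t ht z hz => by
          rw [conj_of_comm (hZc z hz t (Subgroup.mem_sup_right ht))]; exact hz)
    have hZm : ∀ u ∈ X ⊔ Y, ∀ v ∈ X ⊔ Y, u * v * u⁻¹ * v⁻¹ ∈ ⁅X, X⁆ ⊔ ⁅Y, Y⁆ := by
      intro u hu v hv
      rw [sup_eq_closure X Y] at hu hv
      refine comm_mem_of_closure nrm nrm ?_ u hu v hv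
      rintro s (hs | hs) t (ht | ht)
      · rw [← commutatorElement_def]
        exact Subgroup.mem_sup_left (Subgroup.commutator_mem_commutator hs ht)
      · rw [comm_eq_one_of_commute (hXY s hs t ht)]; exact one_mem _
      · rw [comm_eq_one_of_commute (hXY t ht s hs).symm]; exact one_mem _
      · rw [← commutatorElement_def]
        exact Subgroup.mem_sup_right (Subgroup.commutator_mem_commutator hs ht)
    intro u hu v hv w hw
    exact hZc _ (hZm u hu v hv) w hw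
  refine ⟨?_, commutator_eq_bot_iff_commute.mpr hXY, ?_, ?_, ?_⟩
  · -- both abelian or both of class two
    by_cases h0 : ⁅A, ⁅B, C⁆⁆ = ⊥
    · left
      have h0' : ⁅C, ⁅A, B⁆⁆ = ⊥ := by
        rw [Subgroup.commutator_comm]
        apply Subgroup.commutator_commutator_eq_bot_of_rotate
        · rw [Subgroup.commutator_comm]; exact h0
        · rw [Subgroup.commutator_comm C A, hAC0]
          exact Subgroup.commutator_bot_left B
      have AF₂ := commutator_eq_bot_iff_commute.mp h0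
      have CF₁ := commutator_eq_bot_iff_commute.mp h0'
      constructor
      · apply Cfsg.Agent.S5034.isMulCommutative_sup (hS.commutative A hA)
          (hS.commutative _ (hS.conj_mem C hC b⁻¹))
        intro a ha x hx
        exact commute_sup (fun c hc => AC a ha c hc) (fun f hf => AF₂ a ha f hf) x (hCb hx)
      · apply Cfsg.Agent.S5034.isMulCommutative_sup (hS.commutative _ (hS.conj_mem A hA b⁻¹))
          (hS.commutative C hC)
        intro y hy c hc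
        exact (commute_sup (fun a ha => (AC a ha c hc).symm) (fun f hf => CF₁ c hc f hf) y
          (hAb hy)).symm
    · right
      have h0' : ⁅C, ⁅A, B⁆⁆ ≠ ⊥ := by
        intro h1
        apply h0
        rw [Subgroup.commutator_comm, ← hCBeq]
        apply Subgroup.commutator_commutator_eq_bot_of_rotate
        · rw [hBAeq, Subgroup.commutator_comm]; exact h1
        · rw [hAC0]
          exact Subgroup.commutator_bot_left B
      refine ⟨⟨?_, hX2⟩, ⟨?_, hY2⟩⟩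
      · intro hcomm
        apply h0
        rw [commutator_eq_bot_iff_commute]
        intro a ha f hf
        obtain ⟨c, hc, hcf⟩ := exists_commutator_eq cBC hbi hbi1 hf
        have h1 : b⁻¹ * c * b⁻¹⁻¹ ∈ Cfsg.conjBy C b⁻¹ := conj_mem_conjBy hc b⁻¹
        have e : b⁻¹ * c * b⁻¹⁻¹ = f * c := by
          rw [← hcf, commutatorElement_def]; group
        rw [e] at h1
        have h2 := comm_of_mem hcomm (Subgroup.mem_sup_left ha : a ∈ A ⊔ Cfsg.conjBy C b⁻¹)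
          (Subgroup.mem_sup_right h1)
        have h3 := AC a ha c hc
        calc a * f = (a * (f * c)) * c⁻¹ := by group
          _ = (f * c * a) * c⁻¹ := by rw [h2]
          _ = f * (c * a) * c⁻¹ := by group
          _ = f * (a * c) * c⁻¹ := by rw [h3]
          _ = f * a := by group
      · intro hcomm
        apply h0'
        rw [commutator_eq_bot_iff_commute]
        intro c hc f hf
        rw [← hBAeq] at hf
        obtain ⟨a, ha, haf⟩ := exists_commutator_eq cBA hbi hbi1 hf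
        have h1 : b⁻¹ * a * b⁻¹⁻¹ ∈ Cfsg.conjBy A b⁻¹ := conj_mem_conjBy ha b⁻¹
        have e : b⁻¹ * a * b⁻¹⁻¹ = f * a := by
          rw [← haf, commutatorElement_def]; group
        rw [e] at h1
        have h2 := comm_of_mem hcomm (Subgroup.mem_sup_right hc : c ∈ Cfsg.conjBy A b⁻¹ ⊔ C)
          (Subgroup.mem_sup_left h1)
        have h3 := AC a ha c hc
        calc c * f = (c * (f * a)) * a⁻¹ := by group
          _ = (f * a * c) * a⁻¹ := by rw [h2]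
          _ = f * (a * c) * a⁻¹ := by group
          _ = f * (c * a) * a⁻¹ := by rw [h3]
          _ = f * c := by group
  · -- normality
    intro r hr
    rw [eqN]
    ext x
    rw [mem_conjBy_iff]
    constructor
    · intro hx
      have := hRN r hr _ hx
      have e : r * (r⁻¹ * x * r) * r⁻¹ = x := by group
      rwa [e] at this
    · intro hx
      have := hRN r⁻¹ (inv_mem hr) x hx
      rwa [inv_inv] at this
  · -- generation
    rw [eqN]
    apply le_antisymm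
    · refine sup_le (sup_le (sup_le (sup_le ?_ ?_) ?_) ?_) ?_
      · exact le_sup_of_le_left le_sup_left
      · exact le_sup_right
      · rw [Subgroup.commutator_le]
        intro a ha b' hb'
        rw [commutatorElement_def]
        have ha' : a ∈ A ⊔ B ⊔ C := Subgroup.mem_sup_left (Subgroup.mem_sup_left ha)
        have hb'' : b' ∈ A ⊔ B ⊔ C := Subgroup.mem_sup_left (Subgroup.mem_sup_right hb')
        exact mul_mem (mul_mem (mul_mem ha' hb'') (inv_mem ha')) (inv_mem hb'')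
      · rw [Subgroup.commutator_le]
        intro b' hb' c hc
        rw [commutatorElement_def]
        have hc' : c ∈ A ⊔ B ⊔ C := Subgroup.mem_sup_right hc
        have hb'' : b' ∈ A ⊔ B ⊔ C := Subgroup.mem_sup_left (Subgroup.mem_sup_right hb')
        exact mul_mem (mul_mem (mul_mem hb'' hc') (inv_mem hb'')) (inv_mem hc')
      · exact le_sup_of_le_left le_sup_right
    · refine sup_le (sup_le ?_ le_sup_right) ?_
      · exact le_sup_of_le_left (le_sup_of_le_left (le_sup_of_le_left le_sup_left))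
      · exact le_sup_of_le_left (le_sup_of_le_left (le_sup_of_le_left le_sup_right))
  · exact nilpotent_three AA BB CC AC F₁A F₁B F₂B F₂C abF bcF N2

end Cfsg.Agent.S5030
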