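import Cfsg.Statements.S5031
import Cfsg.Agent.S5029

set_option autoImplicit false
open Cfsg
open scoped commutatorElement

namespace Cfsg.Agent.S5031

open Cfsg.Agent.Lib.Helper83_RankOne Cfsg.Agent.Lib.Helper83_RootSets
  Cfsg.Agent.Lib.Helper83_CommCase Cfsg.Agent.Lib.Helper83_CommCase2

variable {G : Type*} [Group G]

/-- An element commuting with `A` and with `D` centralizes `A ⊔ D`. -/
theorem mem_centralizer_sup {A D : Subgroup G} {z : G} (h1 : ∀ a ∈ A, z * a = a * z)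
    (h2 : ∀ d ∈ D, z * d = d * z) : z ∈ Subgroup.centralizer ((A ⊔ D : Subgroup G) : Set G) := by
  rw [Subgroup.mem_centralizer_iff]
  intro x hx
  have hx' : x ∈ A ⊔ D := hx
  induction hx' using sup_induction with
  | left a' ha' => exact (h1 a' ha').symm
  | right d hd => exact (h2 d hd).symm
  | one => simp
  | mul y z' hy hz ihy ihz =>
    rw [mul_assoc, ihz hz, ← mul_assoc, ihy hy, mul_assoc]

theorem exists_ne_one_of_mem {S : Set (Subgroup G)} (hS : Cfsg.IsRootSubgroupSet S) {E : Subgroup G}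
    (hE : E ∈ S) : ∃ e ∈ E, e ≠ 1 := by
  by_contra hcon
  push Not at hcon
  apply hS.ne_bot E hE
  rw [eq_bot_iff]
  intro x hx
  rw [Subgroup.mem_bot]; exact hcon x hx

section oneSided

variable {S : Set (Subgroup G)} {A B D E : Subgroup G}

/-- Products `a * b` of non-identity elements on a line are root elements. -/
theorem mul_mem_rootElements (hS : Cfsg.IsRootSubgroupSet S) (hD : D ∈ S)
    (hAD : Cfsg.IsRankOnePair A D) (hB : B ∈ S) (hBA : B ≠ A)
    (hpart : Cfsg.IsSubgroupPartition (A ⊔ B) (Cfsg.membersIn S (A ⊔ B)))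
    {a b : G} (ha : a ∈ A) (ha1 : a ≠ 1) (hb : b ∈ B) :
    a * b ≠ 1 ∧ ∃ M ∈ Cfsg.membersIn S (A ⊔ B), a * b ∈ M := by
  have hinf : A ⊓ B = ⊥ := by
    rcases inf_eq_bot_or_eq hS hD hAD B hB with h | h
    · exact h
    · exact absurd h.symm hBA
  have hne : a * b ≠ 1 := by
    intro h1
    have h2 : a = b⁻¹ := eq_inv_iff_mul_eq_one.mpr h1
    have : a ∈ A ⊓ B := Subgroup.mem_inf.mpr ⟨ha, by rw [h2]; exact inv_mem hb⟩
    rw [hinf, Subgroup.mem_bot] at this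
    exact ha1 this
  exact ⟨hne, hpart.2.1 _ (mul_mem (Subgroup.mem_sup_left ha) (Subgroup.mem_sup_right hb)) hne⟩

/-- `(D, B)` is in the commutator case. -/
theorem commCase_DB (hS : Cfsg.IsRootSubgroupSet S) (hA : A ∈ S) (hD : D ∈ S)
    (hAD : Cfsg.IsRankOnePair A D) (hB : B ∈ S) (hBA : B ≠ A)
    (hAB : ∀ a ∈ A, ∀ b ∈ B, a * b = b * a)
    (hpart : Cfsg.IsSubgroupPartition (A ⊔ B) (Cfsg.membersIn S (A ⊔ B)))
    (hnDB : ¬ Cfsg.IsRankOnePair D B) : Cfsg.RootCommutatorCase S D B := by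
  rcases hS.pair D hD B hB with h | h | h
  · exfalso
    rw [commutator_eq_bot_iff_commute] at h
    obtain ⟨a, ha, ha1⟩ := exists_ne_one_left hAD
    obtain ⟨b, hb, hb1⟩ := exists_ne_one_of_mem hS hB
    have hz : b ∈ Subgroup.centralizer ((A ⊔ D : Subgroup G) : Set G) :=
      mem_centralizer_sup (fun a' ha' => (hAB a' ha' b hb).symm) (fun d hd => (h d hd b hb).symm)
    apply Cfsg.Agent.S5025.result hS hA ⟨hD, hAD⟩ hz hb1 a ha ha1
    obtain ⟨hne, M, hM, hmem⟩ := mul_mem_rootElements hS hD hAD hB hBA hpart ha ha1 hb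
    rw [← hAB a ha b hb]
    exact ⟨hne, M, hM.1, hmem⟩
  · exact absurd h hnDB
  · exact h

/-- `(A, ⁅D, B⁆)` is in the commutator case. -/
theorem commCase_AN (hS : Cfsg.IsRootSubgroupSet S) (hA : A ∈ S) (hD : D ∈ S)
    (hAD : Cfsg.IsRankOnePair A D) (hB : B ∈ S) (hBA : B ≠ A)
    (hAB : ∀ a ∈ A, ∀ b ∈ B, a * b = b * a)
    (hpart : Cfsg.IsSubgroupPartition (A ⊔ B) (Cfsg.membersIn S (A ⊔ B)))
    (hDB : Cfsg.RootCommutatorCase S D B) : Cfsg.RootCommutatorCase S A ⁅D, B⁆ := by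
  have hN : ⁅D, B⁆ ∈ S := hDB.1
  have hDA := Cfsg.RankOnePair_symm hAD
  rcases hS.pair A hA _ hN with h | h | h
  · exfalso
    rw [commutator_eq_bot_iff_commute] at h
    obtain ⟨d, hd, hd1⟩ := exists_ne_one_right hAD
    obtain ⟨b, hb, hb1⟩ := exists_ne_one_of_mem hS hB
    -- z = ⁅b, d⁆ ∈ N is not 1, centralizes ⟨D, A⟩, and z * d is a root element
    have hzN : ⁅b, d⁆ ∈ ⁅D, B⁆ := by
      rw [Subgroup.commutator_comm D B]
      exact Subgroup.commutator_mem_commutator hb hd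
    have hz1 : ⁅b, d⁆ ≠ 1 := by
      intro h1
      rw [commutatorElement_eq_one_iff_mul_comm] at h1
      exact hb1 (eq_one_of_commute hS hD hA hDA hDB hd hd1 hb h1.symm)
    have hz : ⁅b, d⁆ ∈ Subgroup.centralizer ((D ⊔ A : Subgroup G) : Set G) :=
      mem_centralizer_sup (fun d' hd' => comm_left hDB hzN hd')
        (fun a' ha' => (h a' ha' _ hzN).symm)
    apply Cfsg.Agent.S5025.result hS hD ⟨hA, hDA⟩ hz hz1 d hd hd1
    have e : ⁅b, d⁆ * d = b * d * b⁻¹ := by rw [commutatorElement_def]; group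
    rw [e]
    refine ⟨?_, Cfsg.conjBy D b, hS.conj_mem D hD b, conj_mem_conjBy hd b⟩
    intro h1
    apply hd1
    have : d = b⁻¹ * (b * d * b⁻¹) * b := by group
    rw [this, h1]; group
  · exfalso
    obtain ⟨a, ha, ha1⟩ := exists_ne_one_left hAD
    obtain ⟨b, hb, hb1⟩ := exists_ne_one_of_mem hS hB
    have hz : b ∈ Subgroup.centralizer ((A ⊔ ⁅D, B⁆ : Subgroup G) : Set G) :=
      mem_centralizer_sup (fun a' ha' => (hAB a' ha' b hb).symm)
        (fun n hn => (comm_right hDB hn hb).symm)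
    apply Cfsg.Agent.S5025.result hS hA ⟨hN, h⟩ hz hb1 a ha ha1
    obtain ⟨hne, M, hM, hmem⟩ := mul_mem_rootElements hS hD hAD hB hBA hpart ha ha1 hb
    rw [← hAB a ha b hb]
    exact ⟨hne, M, hM.1, hmem⟩
  · exact h

/-- The key identity: `⁅A, ⁅D, B⁆⁆ = B`. -/
theorem commutator_eq (hS : Cfsg.IsRootSubgroupSet S) (hA : A ∈ S) (hD : D ∈ S)
    (hAD : Cfsg.IsRankOnePair A D) (hB : B ∈ S) (hE : E ∈ S) (hBE : Cfsg.IsRankOnePair B E)
    (hBA : B ≠ A) (hAB : ∀ a ∈ A, ∀ b ∈ B, a * b = b * a)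
    (hpart : Cfsg.IsSubgroupPartition (A ⊔ B) (Cfsg.membersIn S (A ⊔ B)))
    (hDB : Cfsg.RootCommutatorCase S D B) (hAN : Cfsg.RootCommutatorCase S A ⁅D, B⁆) :
    ⁅A, ⁅D, B⁆⁆ = B := by
  have hDA := Cfsg.RankOnePair_symm hAD
  obtain ⟨a, ha, ha1⟩ := exists_ne_one_left hAD
  obtain ⟨d, hd, hd1, hconj⟩ := hAD.cond_left a ha ha1
  obtain ⟨b, hb, hb1⟩ := exists_ne_one_of_mem hS hB
  -- the element w = a * d⁻¹ conjugates A to D
  have hw : Cfsg.conjBy A (a * d⁻¹) = D := by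
    rw [← conjBy_mul, hconj, conjBy_mul, mul_inv_cancel, conjBy_one]
  -- n = ⁅d⁻¹, b⁆ ∈ N
  have hn : ⁅d⁻¹, b⁆ ∈ ⁅D, B⁆ := Subgroup.commutator_mem_commutator (inv_mem hd) hb
  have hb' : ⁅a, ⁅d⁻¹, b⁆⁆ ∈ ⁅A, ⁅D, B⁆⁆ := Subgroup.commutator_mem_commutator ha hn
  -- B commutes with ⁅A, N⁆
  have hBB' : ∀ x ∈ ⁅A, ⁅D, B⁆⁆, ∀ b₂ ∈ B, x * b₂ = b₂ * x := by
    intro x hx b₂ hb₂
    have hle : ⁅A, ⁅D, B⁆⁆ ≤ Subgroup.centralizer ({b₂} : Set G) := by
      rw [Subgroup.commutator_le]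
      intro a' ha' n' hn'
      rw [Subgroup.mem_centralizer_iff]
      intro y hy
      rw [Set.mem_singleton_iff] at hy
      rw [hy, commutatorElement_def]
      have h1 : b₂ * a' = a' * b₂ := (hAB a' ha' b₂ hb₂).symm
      have h2 : b₂ * n' = n' * b₂ := (comm_right hDB hn' hb₂).symm
      have h1' : b₂ * a'⁻¹ = a'⁻¹ * b₂ := by
        have : a'⁻¹ * (b₂ * a') * a'⁻¹ = a'⁻¹ * (a' * b₂) * a'⁻¹ := by rw [h1]
        have l : a'⁻¹ * (b₂ * a') * a'⁻¹ = a'⁻¹ * b₂ := by group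
        have r : a'⁻¹ * (a' * b₂) * a'⁻¹ = b₂ * a'⁻¹ := by group
        rw [l, r] at this; exact this.symm
      have h2' : b₂ * n'⁻¹ = n'⁻¹ * b₂ := by
        have : n'⁻¹ * (b₂ * n') * n'⁻¹ = n'⁻¹ * (n' * b₂) * n'⁻¹ := by rw [h2]
        have l : n'⁻¹ * (b₂ * n') * n'⁻¹ = n'⁻¹ * b₂ := by group
        have r : n'⁻¹ * (n' * b₂) * n'⁻¹ = b₂ * n'⁻¹ := by group
        rw [l, r] at this; exact this.symm
      calc b₂ * (a' * n' * a'⁻¹ * n'⁻¹) = (b₂ * a') * n' * a'⁻¹ * n'⁻¹ := by group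
        _ = a' * (b₂ * n') * a'⁻¹ * n'⁻¹ := by rw [h1]; group
        _ = a' * n' * (b₂ * a'⁻¹) * n'⁻¹ := by rw [h2]; group
        _ = a' * n' * a'⁻¹ * (b₂ * n'⁻¹) := by rw [h1']; group
        _ = a' * n' * a'⁻¹ * n'⁻¹ * b₂ := by rw [h2']; group
    have := Subgroup.mem_centralizer_iff.mp (hle hx) b₂ (Set.mem_singleton b₂)
    exact this.symm
  -- y = ⁅a, n⁆ * b
  set n := ⁅d⁻¹, b⁆ with hn_def
  set y := ⁅a, n⁆ * b with hy_def
  -- the conjugate of b by w is y * n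
  have hβ : (a * d⁻¹) * b * (a * d⁻¹)⁻¹ = y * n := by
    have e1 : (a * d⁻¹) * b * (a * d⁻¹)⁻¹ = a * (n * b) * a⁻¹ := by
      rw [hn_def, commutatorElement_def]; group
    have e2 : a * (n * b) * a⁻¹ = (a * n * a⁻¹) * (a * b * a⁻¹) := by group
    have e3 : a * b * a⁻¹ = b := by rw [hAB a ha b hb]; group
    have e4 : a * n * a⁻¹ = ⁅a, n⁆ * n := by rw [commutatorElement_def]; group
    rw [e1, e2, e3, e4, hy_def, mul_assoc, mul_assoc, comm_right hDB hn hb]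
  -- y commutes with A
  have hyA : ∀ a' ∈ A, y * a' = a' * y := by
    intro a' ha'
    rw [hy_def, mul_assoc, ← hAB a' ha' b hb, ← mul_assoc, comm_left hAN hb' ha', mul_assoc]
  -- y commutes with D
  have hyD : ∀ d' ∈ D, y * d' = d' * y := by
    intro d' hd'
    -- y * n commutes with D as it lies in the conjugate of B by w, which commutes with D = A^w
    have h1 : (y * n) * d' = d' * (y * n) := by
      rw [← hβ]
      have hd'' : d' ∈ Cfsg.conjBy A (a * d⁻¹) := by rw [hw]; exact hd'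
      rw [mem_conjBy_iff] at hd''
      set a'' := (a * d⁻¹)⁻¹ * d' * (a * d⁻¹) with ha''
      have h2 := hAB a'' hd'' b hb
      have e : d' = (a * d⁻¹) * a'' * (a * d⁻¹)⁻¹ := by rw [ha'']; group
      rw [e]
      calc (a * d⁻¹) * b * (a * d⁻¹)⁻¹ * ((a * d⁻¹) * a'' * (a * d⁻¹)⁻¹)
          = (a * d⁻¹) * (b * a'') * (a * d⁻¹)⁻¹ := by group
        _ = (a * d⁻¹) * (a'' * b) * (a * d⁻¹)⁻¹ := by rw [h2]
        _ = (a * d⁻¹) * a'' * (a * d⁻¹)⁻¹ * ((a * d⁻¹) * b * (a * d⁻¹)⁻¹) := by group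
    have h3 : n * d' = d' * n := comm_left hDB hn hd'
    have h4 : y * d' = (y * n) * d' * n⁻¹ := by
      rw [mul_assoc y n d', h3]; group
    rw [h4, h1]
    group
  -- hence y = 1
  have hy1 : y = 1 := by
    by_contra hy1
    have hz := mem_centralizer_sup hyA hyD
    apply Cfsg.Agent.S5025.result hS hA ⟨hD, hAD⟩ hz hy1 a ha ha1
    -- y * a is conjugate to b * a by n⁻¹
    obtain ⟨hne, M, hM, hmem⟩ := mul_mem_rootElements hS hD hAD hB hBA hpart ha ha1 hb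
    have e : y * a = n⁻¹ * (a * b) * n := by
      have e1 : n⁻¹ * a * n = ⁅a, n⁆ * a := by
        have h5 : n * ⁅a, n⁆ = ⁅a, n⁆ * n := (comm_right hAN hb' hn).symm
        have h6 : n⁻¹ * a * n = n⁻¹ * (⁅a, n⁆ * n) * a := by
          rw [commutatorElement_def]; group
        rw [h6, ← h5]; group
      have e2 : n⁻¹ * b * n = b := by
        have := comm_right hDB hn hb
        rw [mul_assoc, ← this]; group
      calc y * a = ⁅a, n⁆ * (b * a) := by rw [hy_def, mul_assoc]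
        _ = ⁅a, n⁆ * (a * b) := by rw [hAB a ha b hb]
        _ = (n⁻¹ * a * n) * (n⁻¹ * b * n) := by rw [e1, e2, mul_assoc]
        _ = n⁻¹ * (a * b) * n := by group
    rw [e]
    refine ⟨?_, Cfsg.conjBy M n⁻¹, hS.conj_mem M hM.1 n⁻¹, ?_⟩
    · intro h1
      apply hne
      have : a * b = n * (n⁻¹ * (a * b) * n) * n⁻¹ := by group
      rw [this, h1]; group
    · have := conj_mem_conjBy hmem n⁻¹
      rwa [inv_inv] at this
  -- so b⁻¹ ∈ ⁅A, N⁆ ⊓ B
  have hbinv : b⁻¹ = ⁅a, n⁆ := by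
    rw [hy_def] at hy1
    exact (eq_inv_of_mul_eq_one_left hy1).symm ▸ rfl
  rcases inf_eq_bot_or_eq hS hE hBE _ hAN.1 with h1 | h1
  · exfalso
    have : b⁻¹ ∈ B ⊓ ⁅A, ⁅D, B⁆⁆ := Subgroup.mem_inf.mpr ⟨inv_mem hb, by rw [hbinv]; exact hb'⟩
    rw [h1, Subgroup.mem_bot, inv_eq_one] at this
    exact hb1 this
  · exact h1.symm

/-- One half of the argument: every member of the line other than `B` is a rank one partner of
`D`. -/
theorem isRankOnePair_of_mem_line (hS : Cfsg.IsRootSubgroupSet S) (hA : A ∈ S) (hD : D ∈ S)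
    (hAD : Cfsg.IsRankOnePair A D) (hB : B ∈ S) (hE : E ∈ S) (hBE : Cfsg.IsRankOnePair B E)
    (hBA : B ≠ A) (hAB : ∀ a ∈ A, ∀ b ∈ B, a * b = b * a)
    (hpart : Cfsg.IsSubgroupPartition (A ⊔ B) (Cfsg.membersIn S (A ⊔ B)))
    (hnDB : ¬ Cfsg.IsRankOnePair D B) {M : Subgroup G} (hM : M ∈ Cfsg.membersIn S (A ⊔ B))
    (hMB : M ≠ B) : Cfsg.IsRankOnePair M D := by
  have hDB := commCase_DB hS hA hD hAD hB hBA hAB hpart hnDB
  have hAN := commCase_AN hS hA hD hAD hB hBA hAB hpart hDB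
  have heq := commutator_eq hS hA hD hAD hB hE hBE hBA hAB hpart hDB hAN
  have hmem := Cfsg.Agent.S5029.membersIn_eq hS hA hD hAD hAN
  rw [heq] at hmem
  rw [hmem] at hM
  rcases hM with ⟨n, hn, rfl⟩ | hM
  · have hnD : Cfsg.conjBy D n = D := by
      apply conjBy_of_mem_normalizer
      apply mem_normalizer_of_commute
      intro d hd
      exact comm_left hDB hn hd
    have := isRankOnePair_conj hAD n
    rwa [hnD] at this
  · exact absurd hM hMB

end oneSided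

section components

variable {S : Set (Subgroup G)}

theorem fadj_symm {A B : Subgroup G} (h : Cfsg.FAdj S A B) : Cfsg.FAdj S B A :=
  ⟨h.2.1, h.1, Cfsg.RankOnePair_symm h.2.2⟩

theorem conn_symm {A B : Subgroup G} (h : Relation.ReflTransGen (Cfsg.FAdj S) A B) :
    Relation.ReflTransGen (Cfsg.FAdj S) B A := by
  induction h with
  | refl => exact Relation.ReflTransGen.refl
  | tail _ hbc ih => exact Relation.ReflTransGen.head (fadj_symm hbc) ih

theorem componentOf_eq_of_conn {A B : Subgroup G} (h : Relation.ReflTransGen (Cfsg.FAdj S) A B) :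
    Cfsg.componentOf (Cfsg.FAdj S) S A = Cfsg.componentOf (Cfsg.FAdj S) S B := by
  ext C
  constructor
  · rintro ⟨hC, hAC⟩
    exact ⟨hC, (conn_symm h).trans hAC⟩
  · rintro ⟨hC, hBC⟩
    exact ⟨hC, h.trans hBC⟩

theorem exists_partner_of_component {A : Subgroup G}
    (h : ∃ A' ∈ Cfsg.componentOf (Cfsg.FAdj S) S A, A' ≠ A) :
    ∃ D ∈ S, Cfsg.IsRankOnePair A D := by
  obtain ⟨A', ⟨_, hconn⟩, hne⟩ := h
  rcases Relation.ReflTransGen.cases_head hconn with h1 | ⟨D, hD, _⟩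
  · exact absurd h1.symm hne
  · exact ⟨D, hD.2.1, hD.2.2⟩

end components

theorem result {G : Type*} [Group G] {S : Set (Subgroup G)} (hS : Cfsg.IsRootSubgroupSet S)
    {A B : Subgroup G} (hA : A ∈ S) (hB : B ∈ S)
    (hne : Cfsg.componentOf (Cfsg.FAdj S) S A ≠ Cfsg.componentOf (Cfsg.FAdj S) S B)
    (hA2 : ∃ A' ∈ Cfsg.componentOf (Cfsg.FAdj S) S A, A' ≠ A) (hB2 : ∃ B' ∈ Cfsg.componentOf (Cfsg.FAdj S) S B, B' ≠ B) :
    B ∉ Cfsg.linePartners S A := by
  intro hline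
  obtain ⟨⟨_, hBA, hcomm⟩, hpart⟩ := hline
  apply hne
  apply componentOf_eq_of_conn
  obtain ⟨D, hD, hAD⟩ := exists_partner_of_component hA2
  obtain ⟨E, hE, hBE⟩ := exists_partner_of_component hB2
  rw [commutator_eq_bot_iff_commute] at hcomm
  have hcomm' : ∀ b ∈ B, ∀ a ∈ A, b * a = a * b := fun b hb a ha => (hcomm a ha b hb).symm
  have hpart' : Cfsg.IsSubgroupPartition (B ⊔ A) (Cfsg.membersIn S (B ⊔ A)) := by
    rw [sup_comm]; exact hpart
  have hAD' : Relation.ReflTransGen (Cfsg.FAdj S) A D := Relation.ReflTransGen.single ⟨hA, hD, hAD⟩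
  have hEB' : Relation.ReflTransGen (Cfsg.FAdj S) E B :=
    Relation.ReflTransGen.single ⟨hE, hB, Cfsg.RankOnePair_symm hBE⟩
  by_cases h1 : Cfsg.IsRankOnePair D B
  · exact hAD'.trans (Relation.ReflTransGen.single ⟨hD, hB, h1⟩)
  by_cases h2 : Cfsg.IsRankOnePair E A
  · exact (Relation.ReflTransGen.single ⟨hA, hE, Cfsg.RankOnePair_symm h2⟩).trans hEB'
  -- a member of the line other than A and B
  obtain ⟨a, ha, ha1⟩ := exists_ne_one_left hAD
  obtain ⟨b, hb, hb1⟩ := exists_ne_one_left hBE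
  obtain ⟨hne1, M, hM, hmem⟩ := mul_mem_rootElements hS hD hAD hB hBA hpart ha ha1 hb
  have hinf : A ⊓ B = ⊥ := by
    rcases inf_eq_bot_or_eq hS hD hAD B hB with h | h
    · exact h
    · exact absurd h.symm hBA
  have hMB : M ≠ B := by
    intro h
    rw [h] at hmem
    have : a ∈ B := by
      have := mul_mem hmem (inv_mem hb)
      simpa using this
    have : a ∈ A ⊓ B := Subgroup.mem_inf.mpr ⟨ha, this⟩
    rw [hinf, Subgroup.mem_bot] at this
    exact ha1 this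
  have hMA : M ≠ A := by
    intro h
    rw [h] at hmem
    have : b ∈ A := by
      have := mul_mem (inv_mem ha) hmem
      simpa using this
    have : b ∈ A ⊓ B := Subgroup.mem_inf.mpr ⟨this, hb⟩
    rw [hinf, Subgroup.mem_bot] at this
    exact hb1 this
  have hM' : M ∈ Cfsg.membersIn S (B ⊔ A) := by rw [sup_comm]; exact hM
  have hMD := isRankOnePair_of_mem_line hS hA hD hAD hB hE hBE hBA hcomm hpart h1 hM hMB
  have hME := isRankOnePair_of_mem_line hS hB hE hBE hA hD hAD (Ne.symm hBA) hcomm' hpart' h2 hM' hMA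
  have hDM : Relation.ReflTransGen (Cfsg.FAdj S) D M :=
    Relation.ReflTransGen.single ⟨hD, hM.1, Cfsg.RankOnePair_symm hMD⟩
  have hME' : Relation.ReflTransGen (Cfsg.FAdj S) M E :=
    Relation.ReflTransGen.single ⟨hM.1, hE, hME⟩
  exact hAD'.trans (hDM.trans (hME'.trans hEB'))

end Cfsg.Agent.S5031
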