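import Cfsg.Statements.S5032
import Cfsg.Agent.S5031

set_option autoImplicit false
open Cfsg
open scoped commutatorElement

namespace Cfsg.Agent.S5032

open Cfsg.Agent.Lib.Helper83_RankOne Cfsg.Agent.Lib.Helper83_RootSets
  Cfsg.Agent.Lib.Helper83_CommCase Cfsg.Agent.Lib.Helper83_CommCase2

variable {G : Type*} [Group G] {S : Set (Subgroup G)}

/-- Line partners lie in the same component, when every member has a rank one partner. -/
theorem conn_of_linePartner (hS : Cfsg.IsRootSubgroupSet S)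
    (hall : ∀ A ∈ S, ∃ D ∈ S, Cfsg.IsRankOnePair A D) {A B : Subgroup G} (hA : A ∈ S) (hB : B ∈ S)
    (hline : B ∈ Cfsg.linePartners S A) : Relation.ReflTransGen (Cfsg.FAdj S) A B := by
  by_contra hconn
  obtain ⟨D, hD, hAD⟩ := hall A hA
  obtain ⟨E, hE, hBE⟩ := hall B hB
  have hne : Cfsg.componentOf (Cfsg.FAdj S) S A ≠ Cfsg.componentOf (Cfsg.FAdj S) S B := by
    intro h
    have hBmem : B ∈ Cfsg.componentOf (Cfsg.FAdj S) S B := ⟨hB, Relation.ReflTransGen.refl⟩
    rw [← h] at hBmem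
    exact hconn hBmem.2
  have hA2 : ∃ A' ∈ Cfsg.componentOf (Cfsg.FAdj S) S A, A' ≠ A :=
    ⟨D, ⟨hD, Relation.ReflTransGen.single ⟨hA, hD, hAD⟩⟩, hAD.ne.symm⟩
  have hB2 : ∃ B' ∈ Cfsg.componentOf (Cfsg.FAdj S) S B, B' ≠ B :=
    ⟨E, ⟨hE, Relation.ReflTransGen.single ⟨hB, hE, hBE⟩⟩, hBE.ne.symm⟩
  exact Cfsg.Agent.S5031.result hS hA hB hne hA2 hB2 hline

/-- Conjugating a member by an element of a member stays inside the component. -/
theorem conn_conjBy (hS : Cfsg.IsRootSubgroupSet S)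
    (hall : ∀ A ∈ S, ∃ D ∈ S, Cfsg.IsRankOnePair A D) {C E : Subgroup G} (hC : C ∈ S) (hE : E ∈ S)
    {e : G} (he : e ∈ E) : Relation.ReflTransGen (Cfsg.FAdj S) C (Cfsg.conjBy C e) := by
  have hC' : Cfsg.conjBy C e ∈ S := hS.conj_mem C hC e
  rcases hS.pair E hE C hC with h | h | h
  · rw [commutator_eq_bot_iff_commute] at h
    have : Cfsg.conjBy C e = C :=
      conjBy_of_mem_normalizer (mem_normalizer_of_commute (h e he))
    rw [this]
  · by_cases hne : Cfsg.conjBy C e = C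
    · rw [hne]
    · have hCE := Cfsg.RankOnePair_symm h
      have hmem : Cfsg.conjBy C e ∈ Cfsg.unipotentSubgroups C E :=
        ⟨e, Subgroup.mem_sup_right he, rfl⟩
      have hp := (isRankOnePair_of_mem hCE (self_mem_unipotentSubgroups C E) hmem (Ne.symm hne)).1
      exact Relation.ReflTransGen.single ⟨hC, hC', hp⟩
  · have hCE := commutatorCase_symm h
    obtain ⟨D, hD, hCD⟩ := hall C hC
    have hF : ⁅C, E⁆ ∈ S := hCE.1
    have hline := (Cfsg.Agent.S5029.result hS (not_isolated_of_partner hC hD hCD) hC hE hF).2.2.1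
    have h1 := conn_of_linePartner hS hall hF hC hline
    -- the same for the conjugate
    have hcomm_eq : ⁅Cfsg.conjBy C e, E⁆ = ⁅C, E⁆ := by
      have e1 : Cfsg.conjBy ⁅C, E⁆ e = ⁅Cfsg.conjBy C e, Cfsg.conjBy E e⁆ :=
        Subgroup.map_commutator C E _
      rw [conjBy_self_mem he] at e1
      rw [← e1, Subgroup.commutator_comm C E]
      exact conjBy_commutator_eq_left he
    have hF' : ⁅Cfsg.conjBy C e, E⁆ ∈ S := by rw [hcomm_eq]; exact hF
    obtain ⟨D', hD', hCD'⟩ := hall _ hC'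
    have hline' := (Cfsg.Agent.S5029.result hS (not_isolated_of_partner hC' hD' hCD') hC' hE hF').2.2.1
    rw [hcomm_eq] at hline'
    have h2 := conn_of_linePartner hS hall hF hC' hline'
    exact (Cfsg.Agent.S5031.conn_symm h1).trans h2

theorem conn_conjBy_all (hS : Cfsg.IsRootSubgroupSet S)
    (hall : ∀ A ∈ S, ∃ D ∈ S, Cfsg.IsRankOnePair A D) (g : G) :
    ∀ C ∈ S, Relation.ReflTransGen (Cfsg.FAdj S) C (Cfsg.conjBy C g) := by
  have hg : g ∈ ⨆ A : S, (A : Subgroup G) := by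
    have := hS.generates
    rw [iSup_subtype'] at this
    rw [this]; exact Subgroup.mem_top g
  refine Subgroup.iSup_induction (fun A : S => (A : Subgroup G))
    (C := fun g => ∀ C ∈ S, Relation.ReflTransGen (Cfsg.FAdj S) C (Cfsg.conjBy C g)) hg ?_ ?_ ?_
  · intro E e he C hC
    exact conn_conjBy hS hall hC E.2 he
  · intro C _
    rw [conjBy_one]
  · intro x y ihx ihy C hC
    rw [← conjBy_mul]
    exact (ihy C hC).trans (ihx _ (hS.conj_mem C hC y))

theorem conj_of_conn {A B : Subgroup G} (h : Relation.ReflTransGen (Cfsg.FAdj S) A B) :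
    ∃ g : G, B = Cfsg.conjBy A g := by
  induction h with
  | refl => exact ⟨1, (conjBy_one A).symm⟩
  | tail _ hbc ih =>
    obtain ⟨g, hg⟩ := ih
    obtain ⟨x, _, hx⟩ := right_mem_unipotentSubgroups hbc.2.2
    exact ⟨x * g, by rw [hx, hg, conjBy_mul]⟩

theorem result {G : Type*} [Group G] {S : Set (Subgroup G)} (hS : Cfsg.IsRootSubgroupSet S) (h2 : ∃ A ∈ S, ∃ B ∈ S, A ≠ B) :
    Cfsg.IsConnectedFamily (Cfsg.FAdj S) S ↔
      (Cfsg.IsConjClassOfSubgroups S ∧ ∃ A ∈ S, ¬ Cfsg.IsIsolatedIn (Cfsg.FAdj S) S A) := by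
  constructor
  · intro hconn
    obtain ⟨A, hA, B, hB, hAB⟩ := h2
    refine ⟨⟨⟨A, hA⟩, ?_⟩, A, hA, ?_⟩
    · intro A' hA' B' hB'
      exact conj_of_conn (hconn A' hA' B' hB')
    · intro hiso
      rcases Relation.ReflTransGen.cases_head (hconn A hA B hB) with h | ⟨C, hC, _⟩
      · exact hAB h
      · exact (hiso.2 C).1 hC
  · rintro ⟨⟨_, hclass⟩, A₀, hA₀, hiso⟩
    obtain ⟨D₀, hD₀, hAD₀⟩ := exists_partner hiso hA₀
    have hall : ∀ A ∈ S, ∃ D ∈ S, Cfsg.IsRankOnePair A D := by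
      intro A hA
      obtain ⟨g, rfl⟩ := hclass A₀ hA₀ A hA
      exact ⟨Cfsg.conjBy D₀ g, hS.conj_mem D₀ hD₀ g, isRankOnePair_conj hAD₀ g⟩
    intro A hA B hB
    obtain ⟨g, rfl⟩ := hclass A hA B hB
    exact conn_conjBy_all hS hall g A hA

end Cfsg.Agent.S5032
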