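import Cfsg.Statements.S5033
import Cfsg.Agent.S5034
import Cfsg.Agent.Lib.Helper83_Special
import Cfsg.Agent.Lib.Helper83_Nilpotent
import Cfsg.Agent.Lib.Helper29_Local

set_option autoImplicit false
open Cfsg

namespace Cfsg.Agent.S5033

open Cfsg.Agent.Lib.Helper83_RankOne
open Cfsg.Agent.Lib.Helper83_RootSets
open Cfsg.Agent.Lib.Helper83_CommCase
open Cfsg.Agent.Lib.Helper83_Special
open Cfsg.Agent.S5021 (rc rc_mul rc_one rc_of_mem rc_cancel Rel exists_rel_right)
open scoped commutatorElement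

variable {G : Type*} [Group G] {S : Set (Subgroup G)}

/-- Connectedness of the rank one graph makes `S` a single conjugacy class. -/
theorem conj_of_reach {A B : Subgroup G} (h : Relation.ReflTransGen (FAdj S) A B) :
    ∃ g : G, B = conjBy A g := by
  induction h with
  | refl => exact ⟨1, (conjBy_one A).symm⟩
  | tail _ hbc ih =>
    obtain ⟨g, hg⟩ := ih
    obtain ⟨x, _, hx⟩ := right_mem_unipotentSubgroups hbc.2.2
    refine ⟨x * g, ?_⟩
    rw [hx, hg, conjBy_mul]

theorem isClass (hS : IsRootSubgroupSet S) (h2 : ∃ A ∈ S, ∃ B ∈ S, A ≠ B)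
    (h1 : IsConnectedFamily (FAdj S) S) : IsRootSubgroupClass S := by
  obtain ⟨A, hA, -⟩ := h2
  exact ⟨hS, ⟨A, hA⟩, fun A hA B hB => conj_of_reach (h1 A hA B hB)⟩

theorem exists_rankOne_partner (h2 : ∃ A ∈ S, ∃ B ∈ S, A ≠ B)
    (h1 : IsConnectedFamily (FAdj S) S) {A : Subgroup G} (hA : A ∈ S) :
    ∃ B ∈ S, IsRankOnePair A B := by
  obtain ⟨A0, hA0, B0, hB0, hne⟩ := h2
  have : ∃ C ∈ S, C ≠ A := by
    by_cases h : A0 = A
    · exact ⟨B0, hB0, fun h' => hne (h.trans h'.symm)⟩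
    · exact ⟨A0, hA0, h⟩
  obtain ⟨C, hC, hCA⟩ := this
  rcases Relation.ReflTransGen.cases_head (h1 A hA C hC) with h | ⟨B, hAB, _⟩
  · exact absurd h.symm hCA
  · exact ⟨B, hAB.2.1, hAB.2.2⟩

theorem conjBy_le_normal {N C : Subgroup G} (hN : N.Normal) (h : C ≤ N) (g : G) : conjBy C g ≤ N := by
  intro x hx
  rw [mem_conjBy_iff] at hx
  have := hN.conj_mem _ (h hx) g
  have e : g * (g⁻¹ * x * g) * g⁻¹ = x := by group
  rwa [e] at this

/-- If every `c ∈ C` is congruent modulo the normal subgroup `N` to an element of `A`, and `E` commutes with `A`,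
then `⁅C, E⁆ ≤ N`. -/
theorem commutator_le_of_congr {N A C E : Subgroup G} (hN : N.Normal)
    (hcong : ∀ c ∈ C, ∃ a ∈ A, ∃ m ∈ N, c = a * m)
    (hAE : ∀ a ∈ A, ∀ e ∈ E, a * e = e * a) : ⁅C, E⁆ ≤ N := by
  rw [Subgroup.commutator_le]
  intro c hc e he
  obtain ⟨a, ha, m, hm, rfl⟩ := hcong c hc
  have hae := hAE a ha e he
  have : ⁅a * m, e⁆ = a * (m * (e * m⁻¹ * e⁻¹)) * a⁻¹ := by
    rw [commutatorElement_def]
    calc a * m * e * (a * m)⁻¹ * e⁻¹ = a * m * e * m⁻¹ * (a⁻¹ * e⁻¹) := by group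
      _ = a * m * e * m⁻¹ * (e * a)⁻¹ := by group
      _ = a * m * e * m⁻¹ * (a * e)⁻¹ := by rw [hae]
      _ = a * (m * (e * m⁻¹ * e⁻¹)) * a⁻¹ := by group
  rw [this]
  exact hN.conj_mem _ (N.mul_mem hm (hN.conj_mem _ (N.inv_mem hm) e)) a

/-- If the generators of `C ⊔ E` commute modulo `N`, then `⁅C ⊔ E, C ⊔ E⁆ ≤ N`. -/
theorem commutator_sup_le {N C E : Subgroup G} (hN : N.Normal) (hC : IsMulCommutative C)
    (hE : IsMulCommutative E) (hCE : ⁅C, E⁆ ≤ N) : ⁅C ⊔ E, C ⊔ E⁆ ≤ N := by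
  have hnorm : Cfsg.Agent.Lib.Helper83_Nilpotent.SetNormalizes ((C : Set G) ∪ E) N := by
    intro t _ z hz
    refine ⟨hN.conj_mem z hz t, ?_⟩
    have := hN.conj_mem z hz t⁻¹
    rwa [inv_inv] at this
  have hgen : ∀ s ∈ ((C : Set G) ∪ E), ∀ t ∈ ((C : Set G) ∪ E), s * t * s⁻¹ * t⁻¹ ∈ N := by
    rintro s (hs | hs) t (ht | ht)
    · have : s * t * s⁻¹ * t⁻¹ = 1 := by rw [comm_of_mem hC hs ht]; group
      rw [this]; exact one_mem _
    · exact hCE (Subgroup.commutator_mem_commutator hs ht)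
    · have h1 : t * s * t⁻¹ * s⁻¹ ∈ N := hCE (Subgroup.commutator_mem_commutator ht hs)
      have : s * t * s⁻¹ * t⁻¹ = (t * s * t⁻¹ * s⁻¹)⁻¹ := by group
      rw [this]; exact N.inv_mem h1
    · have : s * t * s⁻¹ * t⁻¹ = 1 := by rw [comm_of_mem hE hs ht]; group
      rw [this]; exact one_mem _
  have key := Cfsg.Agent.Lib.Helper83_Nilpotent.comm_mem_of_closure hnorm hnorm hgen
  rw [Subgroup.commutator_le]
  intro x hx y hy
  rw [Cfsg.Agent.Lib.Helper83_Nilpotent.sup_eq_closure] at hx hy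
  rw [commutatorElement_def]
  exact key x hx y hy

/-- In a special rank one pair `(C, E)` whose members commute modulo the normal subgroup `N`, every element of `E`
is congruent to an element of `C`. -/
theorem congr_of_special {N C E : Subgroup G} (hN : N.Normal) (hs : IsSpecialRankOnePair C E)
    (hCE : ⁅C, E⁆ ≤ N) : ∀ e ∈ E, ∃ c ∈ C, ∃ m ∈ N, e = c * m := by
  intro e he
  by_cases he1 : e = 1
  · exact ⟨1, one_mem _, 1, one_mem _, by rw [he1, one_mul]⟩
  obtain ⟨c, hR⟩ := Cfsg.Agent.S5021.exists_rel_left hs.1 he he1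
  have hc : c ∈ C := hR.1
  have E1 := Cfsg.Agent.S5021.Rel.special hs hR
  have k1 : ⁅c, e⁆ ∈ N := hCE (Subgroup.commutator_mem_commutator hc he)
  rw [commutatorElement_def] at k1
  have hce : c * e ∈ N := by
    rw [← QuotientGroup.ker_mk' N, MonoidHom.mem_ker] at k1 ⊢
    set x := (QuotientGroup.mk' N) c with hx
    set y := (QuotientGroup.mk' N) e with hy
    have hxy : x * y = y * x := by
      have : x * y * x⁻¹ * y⁻¹ = 1 := by
        rw [hx, hy, ← map_inv, ← map_inv, ← map_mul, ← map_mul, ← map_mul]; exact k1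
      calc x * y = (x * y * x⁻¹ * y⁻¹) * (y * x) := by group
        _ = y * x := by rw [this, one_mul]
    have E1' : y⁻¹ * x * y = x⁻¹ * y⁻¹ * x := by
      rw [hx, hy, ← map_inv, ← map_inv, ← map_mul, ← map_mul, ← map_mul, ← map_mul, E1]
    have l1 : y⁻¹ * x * y = x := by
      calc y⁻¹ * x * y = y⁻¹ * (x * y) := by group
        _ = y⁻¹ * (y * x) := by rw [hxy]
        _ = x := by group
    have l2 : x⁻¹ * y⁻¹ * x = y⁻¹ := by
      calc x⁻¹ * y⁻¹ * x = x⁻¹ * y⁻¹ * (x * y) * y⁻¹ := by group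
        _ = x⁻¹ * y⁻¹ * (y * x) * y⁻¹ := by rw [hxy]
        _ = y⁻¹ := by group
    rw [l1, l2] at E1'
    rw [map_mul, ← hx, ← hy, E1', inv_mul_cancel]
  refine ⟨c⁻¹, inv_mem hc, c * e, hce, by group⟩

/-- The hypotheses of the criterion. -/
structure Hyp (S : Set (Subgroup G)) : Prop where
  hS : IsRootSubgroupSet S
  h2 : ∃ A ∈ S, ∃ B ∈ S, A ≠ B
  h1 : IsConnectedFamily (FAdj S) S
  h2' : ∀ A ∈ S, ∀ C ∈ S, A ≠ C → centralizingMembers S A ≠ centralizingMembers S C
  h3 : IsDegenerateRootSet S → ∀ A ∈ S, 3 < ENat.card A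
  h4 : ∀ A ∈ S, ∀ B ∈ rankOnePartners S A, IsSpecialRankOnePair A B

theorem nondegenerate_of_not_degenerate (H : Hyp S) (hnd : ¬ IsDegenerateRootSet S) :
    IsNondegenerateRootSet S := by
  unfold IsDegenerateRootSet at hnd
  push Not at hnd
  obtain ⟨A, hA, B, hB, hc⟩ := hnd
  refine ⟨⟨A, hA, ⁅A, B⁆, hc.1, ne_commutator H.hS hc, ?_⟩, ?_, ⟨A, hA, B, hB, hc⟩⟩
  · rw [commutator_eq_bot_iff_commute]
    intro a ha c hc'
    exact (comm_left hc hc' ha).symm
  · obtain ⟨B', hB', hr⟩ := exists_rankOne_partner H.h2 H.h1 hA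
    exact ⟨A, hA, B', hB', hr⟩

/-- Unified step: two members of `S` which commute modulo a normal subgroup containing no member of `S`
commute. -/
theorem commute_of_commutator_le (H : Hyp S) {N : Subgroup G} (hN : N.Normal)
    (hC1 : ∀ F ∈ S, ¬ F ≤ N) {C E : Subgroup G} (hC : C ∈ S) (hE : E ∈ S) (hCE : ⁅C, E⁆ ≤ N) :
    ⁅C, E⁆ = ⊥ := by
  rcases H.hS.pair C hC E hE with h | h | h
  · exact h
  · exfalso
    have hs := H.h4 C hC E ⟨hE, h⟩
    by_cases hdeg : IsDegenerateRootSet S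
    · have h3 := H.h3 hdeg C hC
      have hle := le_commutator hs (H.hS.commutative C hC) h3
      exact hC1 C hC (hle.trans (commutator_sup_le hN (H.hS.commutative C hC)
        (H.hS.commutative E hE) hCE))
    · have hnd := nondegenerate_of_not_degenerate H hdeg
      have hclass := isClass H.hS H.h2 H.h1
      obtain ⟨⟨F, hFl, hFc⟩, -⟩ := Cfsg.Agent.S5034.result hclass hnd hC ⟨hE, h⟩
      obtain ⟨⟨hFS, -, hCF⟩, -⟩ := hFl
      rw [commutator_eq_bot_iff_commute] at hCF
      have hcong := congr_of_special hN hs hCE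
      have hle : ⁅E, F⁆ ≤ N := commutator_le_of_congr hN hcong hCF
      exact hC1 _ hFc.2 hle
  · exact absurd hCE (hC1 _ h.1)

theorem normal_le_center (H : Hyp S) {N : Subgroup G} (hN : N.Normal) (hne : N ≠ ⊤) :
    N ≤ Subgroup.center G := by
  have hS := H.hS
  have hclass := isClass H.hS H.h2 H.h1
  -- no member of S lies in N
  have hC1 : ∀ F ∈ S, ¬ F ≤ N := by
    intro F hF hFN
    apply hne
    rw [eq_top_iff, ← hS.generates]
    refine iSup₂_le ?_
    intro A hA
    obtain ⟨g, hg⟩ := hclass.2.2 F hF A hA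
    rw [hg]
    exact conjBy_le_normal hN hFN g
  -- N normalizes every member
  have hC2 : ∀ A ∈ S, ∀ n ∈ N, conjBy A n = A := by
    intro A hA n hn
    by_contra hCA
    have hCS : conjBy A n ∈ S := hS.conj_mem A hA n
    have hcong : ∀ c ∈ conjBy A n, ∃ a ∈ A, ∃ m ∈ N, c = a * m := by
      intro c hc
      rw [mem_conjBy_iff] at hc
      refine ⟨n⁻¹ * c * n, hc, (n⁻¹ * c * n)⁻¹ * c, ?_, by group⟩
      have : (n⁻¹ * c * n)⁻¹ * c = n⁻¹ * (c⁻¹ * n * c⁻¹⁻¹) := by group
      rw [this]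
      exact N.mul_mem (N.inv_mem hn) (hN.conj_mem n hn c⁻¹)
    have hcong' : ∀ a ∈ A, ∃ c ∈ conjBy A n, ∃ m ∈ N, a = c * m := by
      intro a ha
      refine ⟨n * a * n⁻¹, ?_, (n * a * n⁻¹)⁻¹ * a, ?_, by group⟩
      · rw [mem_conjBy_iff]
        have : n⁻¹ * (n * a * n⁻¹) * n = a := by group
        rw [this]; exact ha
      · have : (n * a * n⁻¹)⁻¹ * a = n * (a⁻¹ * n⁻¹ * a⁻¹⁻¹) := by group
        rw [this]
        exact N.mul_mem hn (hN.conj_mem _ (N.inv_mem hn) a⁻¹)
    have hAcomm : ∀ a ∈ A, ∀ a' ∈ A, a * a' = a' * a :=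
      fun a ha a' ha' => comm_of_mem (hS.commutative A hA) ha ha'
    have h1 : ⁅conjBy A n, A⁆ = ⊥ :=
      commute_of_commutator_le H hN hC1 hCS hA (commutator_le_of_congr hN hcong hAcomm)
    rw [commutator_eq_bot_iff_commute] at h1
    -- a member commuting with exactly one of A, conjBy A n
    have hex : ∃ E ∈ S, (E ≤ Subgroup.centralizer (A : Set G) ∧
        ¬ E ≤ Subgroup.centralizer ((conjBy A n : Subgroup G) : Set G)) ∨
        (E ≤ Subgroup.centralizer ((conjBy A n : Subgroup G) : Set G) ∧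
        ¬ E ≤ Subgroup.centralizer (A : Set G)) := by
      by_contra hno
      push Not at hno
      apply H.h2' A hA (conjBy A n) hCS (Ne.symm hCA)
      ext E
      constructor
      · rintro ⟨hE, hEA⟩
        exact ⟨hE, (hno E hE).1 hEA⟩
      · rintro ⟨hE, hEC⟩
        exact ⟨hE, (hno E hE).2 hEC⟩
    obtain ⟨E, hE, hcase | hcase⟩ := hex
    · obtain ⟨hEA, hEC⟩ := hcase
      apply hEC
      have hAE : ∀ a ∈ A, ∀ e ∈ E, a * e = e * a := by
        intro a ha e he
        exact Subgroup.mem_centralizer_iff.mp (hEA he) a ha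
      have h2 := commute_of_commutator_le H hN hC1 hCS hE (commutator_le_of_congr hN hcong hAE)
      rw [commutator_eq_bot_iff_commute] at h2
      intro e he
      rw [Subgroup.mem_centralizer_iff]
      intro c hc
      exact h2 c hc e he
    · obtain ⟨hEC, hEA⟩ := hcase
      apply hEA
      have hCE : ∀ c ∈ conjBy A n, ∀ e ∈ E, c * e = e * c := by
        intro c hc e he
        exact Subgroup.mem_centralizer_iff.mp (hEC he) c hc
      have h2 := commute_of_commutator_le H hN hC1 hA hE (commutator_le_of_congr hN hcong' hCE)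
      rw [commutator_eq_bot_iff_commute] at h2
      intro e he
      rw [Subgroup.mem_centralizer_iff]
      intro a ha
      exact h2 a ha e he
  -- A ∩ N = 1
  have hC3 : ∀ A ∈ S, ∀ a ∈ A, a ∈ N → a = 1 := by
    intro A hA a ha haN
    by_contra ha1
    obtain ⟨B, hB, hr⟩ := exists_rankOne_partner H.h2 H.h1 hA
    obtain ⟨b, hR⟩ := exists_rel_right hr ha ha1
    have h1 : rc B a = B := by
      unfold rc
      exact hC2 B hB a⁻¹ (N.inv_mem haN)
    have h2 : rc A b = B := by rw [hR.2.2, h1]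
    have h3 : A = B := by
      have : rc A b = rc B b := by rw [h2, rc_of_mem hR.2.1]
      exact rc_cancel this
    exact hr.ne h3
  -- N centralizes every member
  intro n hn
  rw [Subgroup.mem_center_iff]
  have hcen : (⊤ : Subgroup G) ≤ Subgroup.centralizer {n} := by
    rw [← hS.generates]
    refine iSup₂_le ?_
    intro A hA a ha
    rw [Subgroup.mem_centralizer_iff]
    intro y hy
    rw [Set.mem_singleton_iff] at hy
    subst hy
    -- a y a⁻¹ y⁻¹ ∈ A ∩ N
    have hmemA : a * (y * a⁻¹ * y⁻¹) ∈ A := by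
      refine A.mul_mem ha ?_
      have : y * a⁻¹ * y⁻¹ ∈ conjBy A y := by
        rw [mem_conjBy_iff]
        have : y⁻¹ * (y * a⁻¹ * y⁻¹) * y = a⁻¹ := by group
        rw [this]; exact A.inv_mem ha
      rwa [hC2 A hA y hn] at this
    have hmemN : a * (y * a⁻¹ * y⁻¹) ∈ N := by
      have : a * (y * a⁻¹ * y⁻¹) = (a * y * a⁻¹) * y⁻¹ := by group
      rw [this]
      exact N.mul_mem (hN.conj_mem y hn a) (N.inv_mem hn)
    have := hC3 A hA _ hmemA hmemN
    calc y * a = (a * (y * a⁻¹ * y⁻¹))⁻¹ * (a * y) := by group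
      _ = a * y := by rw [this, inv_one, one_mul]
  intro g
  have := Subgroup.mem_centralizer_iff.mp (hcen (Subgroup.mem_top g)) n (Set.mem_singleton n)
  exact this.symm

theorem perfect (H : Hyp S) : commutator G = ⊤ := by
  have hS := H.hS
  have hclass := isClass H.hS H.h2 H.h1
  rw [eq_top_iff, ← hS.generates]
  refine iSup₂_le ?_
  intro A hA
  by_cases hdeg : IsDegenerateRootSet S
  · obtain ⟨B, hB, hr⟩ := exists_rankOne_partner H.h2 H.h1 hA
    have hs := H.h4 A hA B ⟨hB, hr⟩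
    have hle := le_commutator hs (hS.commutative A hA) (H.h3 hdeg A hA)
    rw [commutator_def]
    exact hle.trans (Subgroup.commutator_mono le_top le_top)
  · unfold IsDegenerateRootSet at hdeg
    push Not at hdeg
    obtain ⟨A0, hA0, B0, hB0, hc⟩ := hdeg
    obtain ⟨g, hg⟩ := hclass.2.2 _ hc.1 A hA
    rw [hg]
    apply conjBy_le_normal inferInstance
    rw [commutator_def]
    exact Subgroup.commutator_mono le_top le_top

theorem quasisimple (H : Hyp S) : IsQuasisimple G := by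
  refine ⟨⟨perfect H⟩, ?_⟩
  -- the centre is proper
  have hcen : Subgroup.center G ≠ ⊤ := by
    intro htop
    obtain ⟨A, hA, -⟩ := H.h2
    obtain ⟨B, -, hr⟩ := exists_rankOne_partner H.h2 H.h1 hA
    apply not_commute hr
    intro a _ b _
    have : a ∈ Subgroup.center G := by rw [htop]; exact Subgroup.mem_top a
    exact (Subgroup.mem_center_iff.mp this b).symm
  have hnt : Nontrivial (G ⧸ Subgroup.center G) := by
    obtain ⟨g, hg⟩ : ∃ g : G, g ∉ Subgroup.center G := by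
      by_contra hall
      push Not at hall
      exact hcen (eq_top_iff.mpr fun g _ => hall g)
    refine ⟨(QuotientGroup.mk' (Subgroup.center G)) g, 1, ?_⟩
    intro h
    apply hg
    rw [← QuotientGroup.ker_mk' (Subgroup.center G), MonoidHom.mem_ker]
    exact h
  refine { toNontrivial := hnt, eq_bot_or_eq_top_of_normal := ?_ }
  intro M hM
  have hcomap : (M.comap (QuotientGroup.mk' (Subgroup.center G))).Normal := hM.comap _
  by_cases htop : M.comap (QuotientGroup.mk' (Subgroup.center G)) = ⊤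
  · right
    rw [eq_top_iff]
    intro y _
    obtain ⟨g, rfl⟩ := QuotientGroup.mk'_surjective (Subgroup.center G) y
    have : g ∈ M.comap (QuotientGroup.mk' (Subgroup.center G)) := by
      rw [htop]; exact Subgroup.mem_top g
    exact this
  · left
    have hle := normal_le_center H hcomap htop
    rw [eq_bot_iff]
    intro y hy
    obtain ⟨g, rfl⟩ := QuotientGroup.mk'_surjective (Subgroup.center G) y
    have hg : g ∈ Subgroup.center G := hle hy
    rw [Subgroup.mem_bot]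
    rw [← QuotientGroup.ker_mk' (Subgroup.center G), MonoidHom.mem_ker] at hg
    exact hg

theorem result {G : Type*} [Group G] {S : Set (Subgroup G)} (hS : Cfsg.IsRootSubgroupSet S) (h2 : ∃ A ∈ S, ∃ B ∈ S, A ≠ B)
    (h1 : Cfsg.IsConnectedFamily (Cfsg.FAdj S) S)
    (h2' : ∀ A ∈ S, ∀ C ∈ S, A ≠ C → Cfsg.centralizingMembers S A ≠ Cfsg.centralizingMembers S C)
    (h3 : Cfsg.IsDegenerateRootSet S → ∀ A ∈ S, 3 < ENat.card A)
    (h4 : ∀ A ∈ S, ∀ B ∈ Cfsg.rankOnePartners S A, Cfsg.IsSpecialRankOnePair A B) :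
    (∀ A ∈ S, commutator G ⊔ A = ⊤ ∧ A ⊓ commutator G ≠ ⊥) ∧ Cfsg.IsQuasisimple ↥(commutator G) ∧
    (Cfsg.IsNondegenerateRootSet S → commutator G = ⊤) ∧
    ((∃ A ∈ S, ∃ B ∈ Cfsg.rankOnePartners S A, Group.IsPerfect ↥(A ⊔ B)) → commutator G = ⊤) := by
  have H : Hyp S := ⟨hS, h2, h1, h2', h3, h4⟩
  have hperf := perfect H
  refine ⟨?_, ?_, fun _ => hperf, fun _ => hperf⟩
  · intro A hA
    rw [hperf]
    refine ⟨top_sup_eq _, ?_⟩
    rw [inf_top_eq]
    exact hS.ne_bot A hA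
  · have e : ↥(commutator G) ≃* G := (MulEquiv.subgroupCongr hperf).trans Subgroup.topEquiv
    exact Cfsg.Agent.Lib.Helper29_Local.isQuasisimple_of_mulEquiv e.symm (quasisimple H)

end Cfsg.Agent.S5033
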