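import Cfsg.Statements.S5035
import Cfsg.Agent.Lib.Helper83_RankOne

set_option autoImplicit false
open Cfsg

namespace Cfsg.Agent.S5035

open Cfsg.Agent.Lib.Helper83_RankOne

variable {G H : Type*} [Group G] [Group H]

theorem map_conjBy (f : G →* H) (A : Subgroup G) (g : G) :
    (Cfsg.conjBy A g).map f = Cfsg.conjBy (A.map f) (f g) := by
  ext y
  rw [mem_conjBy_iff, Subgroup.mem_map, Subgroup.mem_map]
  constructor
  · rintro ⟨x, hx, rfl⟩
    rw [mem_conjBy_iff] at hx
    exact ⟨g⁻¹ * x * g, hx, by simp⟩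
  · rintro ⟨x, hx, hxy⟩
    refine ⟨g * x * g⁻¹, conj_mem_conjBy hx g, ?_⟩
    rw [map_mul, map_mul, map_inv, hxy]
    group

theorem isNilpotent_map (f : G →* H) {A : Subgroup G} (hA : Group.IsNilpotent A) :
    Group.IsNilpotent (A.map f) :=
  Group.nilpotent_of_surjective (f.subgroupMap A) (f.subgroupMap_surjective A)

theorem rankOneCondition_map (f : G →* H) {A B : Subgroup G} (hc : Cfsg.RankOneCondition A B)
    (hne : A.map f ≠ B.map f) : Cfsg.RankOneCondition (A.map f) (B.map f) := by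
  rintro _ ⟨a, ha, rfl⟩ ha1
  have ha1' : a ≠ 1 := by
    rintro rfl
    exact ha1 (map_one f)
  obtain ⟨b, hb, -, hconj⟩ := hc a ha ha1'
  have h1 := congrArg (Subgroup.map f) hconj
  rw [map_conjBy, map_conjBy, map_inv, map_inv] at h1
  refine ⟨f b, Subgroup.mem_map_of_mem f hb, ?_, h1⟩
  intro hb1
  rw [hb1, inv_one, conjBy_one] at h1
  apply hne
  have h2 := conjBy_eq_iff.mp h1.symm
  rw [inv_inv, conjBy_self_mem (Subgroup.mem_map_of_mem f ha)] at h2
  exact h2.symm

theorem isRankOnePair_map (f : G →* H) {A B : Subgroup G} (h : Cfsg.IsRankOnePair A B)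
    (hne : A.map f ≠ B.map f) : Cfsg.IsRankOnePair (A.map f) (B.map f) where
  ne := hne
  nilpotent_left := isNilpotent_map f h.nilpotent_left
  nilpotent_right := isNilpotent_map f h.nilpotent_right
  cond_left := rankOneCondition_map f h.cond_left hne
  cond_right := rankOneCondition_map f h.cond_right hne.symm

theorem isMulCommutative_map (f : G →* H) {A : Subgroup G} (hA : IsMulCommutative A) :
    IsMulCommutative (A.map f) := by
  rw [isMulCommutative_iff]
  rintro ⟨_, ⟨x, hx, rfl⟩⟩ ⟨_, ⟨y, hy, rfl⟩⟩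
  apply Subtype.ext
  simp only [Subgroup.coe_mul]
  have := (isMulCommutative_iff.mp hA) ⟨x, hx⟩ ⟨y, hy⟩
  have h2 : x * y = y * x := congrArg Subtype.val this
  rw [← map_mul, ← map_mul, h2]

theorem commutator_self_eq_bot {K : Subgroup H} (hK : IsMulCommutative K) : ⁅K, K⁆ = ⊥ := by
  rw [Subgroup.commutator_eq_bot_iff_le_centralizer]
  intro x hx y hy
  have := (isMulCommutative_iff.mp hK) ⟨y, hy⟩ ⟨x, hx⟩
  exact congrArg Subtype.val this

theorem rootCommutatorCase_map (f : G →* H) {S : Set (Subgroup G)} {A B : Subgroup G}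
    (hc : Cfsg.RootCommutatorCase S A B) :
    Cfsg.RootCommutatorCase ((fun A : Subgroup G => A.map f) '' S) (A.map f) (B.map f) := by
  obtain ⟨h1, h2, h3, h4⟩ := hc
  have hmap : ⁅A.map f, B.map f⁆ = (⁅A, B⁆).map f := (Subgroup.map_commutator A B f).symm
  refine ⟨?_, ?_, ?_, ?_⟩
  · rw [hmap]
    exact ⟨⁅A, B⁆, h1, rfl⟩
  · rw [hmap, ← Subgroup.map_sup]
    rintro _ ⟨c, hc, rfl⟩ _ ⟨x, hx, rfl⟩
    rw [← map_mul, ← map_mul, h2 c hc x hx]
  · rintro _ ⟨a, ha, rfl⟩ ha1
    have ha1' : a ≠ 1 := by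
      rintro rfl
      exact ha1 (map_one f)
    rw [hmap, ← h3 a ha ha1', MonoidHom.map_closure]
    congr 1
    ext y
    constructor
    · rintro ⟨_, ⟨b, hb, rfl⟩, rfl⟩
      exact ⟨a * b * a⁻¹ * b⁻¹, ⟨b, hb, rfl⟩, by simp⟩
    · rintro ⟨_, ⟨b, hb, rfl⟩, rfl⟩
      exact ⟨f b, ⟨b, hb, rfl⟩, by simp⟩
  · rintro _ ⟨b, hb, rfl⟩ hb1
    have hb1' : b ≠ 1 := by
      rintro rfl
      exact hb1 (map_one f)
    rw [hmap, ← h4 b hb hb1', MonoidHom.map_closure]
    congr 1
    ext y
    constructor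
    · rintro ⟨_, ⟨a, ha, rfl⟩, rfl⟩
      exact ⟨a * b * a⁻¹ * b⁻¹, ⟨a, ha, rfl⟩, by simp⟩
    · rintro ⟨_, ⟨a, ha, rfl⟩, rfl⟩
      exact ⟨f a, ⟨a, ha, rfl⟩, by simp⟩

/-- Let S be a set of abstract root subgroups of G whose graph of rank one pairs is connected, and f a homomorphism from G onto a group H. Then either the images of the members of S form a set of abstract root subgroups of H whose graph of rank one pairs is again connected, or H equals the image of a member of S. -/
theorem result {G H : Type*} [Group G] [Group H] {S : Set (Subgroup G)} (hS : Cfsg.IsRootSubgroupSet S)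
    (hc : Cfsg.IsConnectedFamily (Cfsg.FAdj S) S) (f : G →* H) (hf : Function.Surjective f) :
    (Cfsg.IsRootSubgroupSet ((fun A : Subgroup G => A.map f) '' S) ∧
      Cfsg.IsConnectedFamily (Cfsg.FAdj ((fun A : Subgroup G => A.map f) '' S)) ((fun A : Subgroup G => A.map f) '' S)) ∨
    ∃ A ∈ S, A.map f = ⊤ := by
  have hgen : (⨆ A ∈ S, A.map f) = ⊤ := by
    have h1 : (⨆ A ∈ S, A).map f = ⨆ A ∈ S, A.map f := by
      rw [Subgroup.map_iSup]
      congr 1
      ext A : 1
      rw [Subgroup.map_iSup]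
    rw [← h1, hS.generates]
    exact Subgroup.map_top_of_surjective f hf
  by_cases h0 : ∃ A ∈ S, A.map f = ⊥
  · right
    obtain ⟨A₀, hA₀, hA₀bot⟩ := h0
    have hall : ∀ B ∈ S, B.map f = ⊥ := by
      intro B hB
      have hpath := hc A₀ hA₀ B hB
      induction hpath with
      | refl => exact hA₀bot
      | tail _ hstep ih =>
        obtain ⟨hA₁, hA₂, hr⟩ := hstep
        obtain ⟨g, -, hg⟩ := right_mem_unipotentSubgroups hr
        rw [hg, map_conjBy, ih hA₁, conjBy_bot]
    refine ⟨A₀, hA₀, ?_⟩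
    rw [hA₀bot, ← hgen]
    symm
    rw [eq_bot_iff]
    refine iSup_le fun A => iSup_le fun hA => ?_
    rw [hall A hA]
  · left
    push Not at h0
    refine ⟨⟨?_, ?_, ?_, ?_, ?_⟩, ?_⟩
    · rintro _ ⟨A, hA, rfl⟩
      exact isMulCommutative_map f (hS.commutative A hA)
    · rintro _ ⟨A, hA, rfl⟩
      exact h0 A hA
    · rw [iSup_image]
      exact hgen
    · rintro _ ⟨A, hA, rfl⟩ h
      obtain ⟨g, rfl⟩ := hf h
      exact ⟨Cfsg.conjBy A g, hS.conj_mem A hA g, map_conjBy f A g⟩
    · rintro _ ⟨A, hA, rfl⟩ _ ⟨B, hB, rfl⟩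
      rcases hS.pair A hA B hB with h1 | h1 | h1
      · left
        show ⁅A.map f, B.map f⁆ = ⊥
        rw [← Subgroup.map_commutator, h1, Subgroup.map_bot]
      · by_cases hne : A.map f = B.map f
        · left
          show ⁅A.map f, B.map f⁆ = ⊥
          rw [hne]
          exact commutator_self_eq_bot (isMulCommutative_map f (hS.commutative B hB))
        · right; left
          exact isRankOnePair_map f h1 hne
      · right; right
        exact rootCommutatorCase_map f h1
    · rintro _ ⟨A, hA, rfl⟩ _ ⟨B, hB, rfl⟩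
      have hpath := hc A hA B hB
      induction hpath with
      | refl => exact Relation.ReflTransGen.refl
      | @tail A₁ A₂ _ hstep ih =>
        obtain ⟨hA₁, hA₂, hr⟩ := hstep
        by_cases hne : A₁.map f = A₂.map f
        · show Relation.ReflTransGen _ (A.map f) (A₂.map f)
          rw [← hne]
          exact ih hA₁
        · exact Relation.ReflTransGen.tail (ih hA₁)
            ⟨⟨_, hA₁, rfl⟩, ⟨_, hA₂, rfl⟩, isRankOnePair_map f hr hne⟩

end Cfsg.Agent.S5035
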