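import Cfsg.Statements.S5041
import Cfsg.Agent.S5029
import Cfsg.Agent.S5032
import Cfsg.Agent.S5034

set_option autoImplicit false
open Cfsg

namespace Cfsg.Agent.S5041

open Cfsg.Agent.Lib.Helper83_RankOne Cfsg.Agent.Lib.Helper83_RootSets

variable {G : Type*} [Group G] {S : Set (Subgroup G)}

theorem not_isolated_of_pair {A B : Subgroup G} (hA : A ∈ S) (hB : B ∈ S)
    (hr : Cfsg.IsRankOnePair A B) : ¬ Cfsg.IsIsolatedIn (Cfsg.FAdj S) S A := by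
  intro hiso
  exact (hiso.2 B).1 ⟨hA, hB, hr⟩

theorem dAdj_of_eAdj {X Y : Subgroup G} (h : Cfsg.EAdj S S X Y) : Cfsg.DAdj S X Y :=
  ⟨h.1, h.2.1, Ne.symm h.2.2.1.2.1, h.2.2.1.2.2⟩

/-- Every edge of the rank one graph is joined by a path of length three in the line graph. -/
theorem path_of_edge (hS : Cfsg.IsRootSubgroupClass S) (hnd : Cfsg.IsNondegenerateRootSet S)
    {A₁ A₂ : Subgroup G} (h : Cfsg.FAdj S A₁ A₂) :
    Relation.ReflTransGen (Cfsg.EAdj S S) A₁ A₂ := by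
  obtain ⟨hA₁, hA₂, hr⟩ := h
  have hS' := hS.1
  obtain ⟨C, hCl, hCS, hF⟩ := Cfsg.Agent.S5034.exists_point hS hnd hA₁ ⟨hA₂, hr⟩
  -- `C` has a partner, by conjugacy
  obtain ⟨g, hg⟩ := hS.2.2 A₁ hA₁ C hCS
  have hCiso : ¬ Cfsg.IsIsolatedIn (Cfsg.FAdj S) S C := by
    apply not_isolated_of_pair hCS (hS'.conj_mem A₂ hA₂ g)
    rw [hg]
    exact isRankOnePair_conj hr g
  have hA₂iso : ¬ Cfsg.IsIsolatedIn (Cfsg.FAdj S) S A₂ :=
    not_isolated_of_pair hA₂ hA₁ (Cfsg.RankOnePair_symm hr)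
  have hF' : ⁅C, A₂⁆ ∈ S := by rw [Subgroup.commutator_comm]; exact hF
  obtain ⟨-, hpart, hlp, -⟩ := Cfsg.Agent.S5029.result hS' hCiso hCS hA₂ hF'
  obtain ⟨-, -, hlp₂, -⟩ := Cfsg.Agent.S5029.result hS' hA₂iso hA₂ hCS hF
  have e1 : Cfsg.EAdj S S A₁ C := ⟨hA₁, hCS, hCl⟩
  have e2 : Cfsg.EAdj S S C ⁅C, A₂⁆ := by
    refine ⟨hCS, hF', ⟨hF', Ne.symm hlp.1.2.1, ?_⟩, hpart⟩
    rw [Subgroup.commutator_comm]; exact hlp.1.2.2
  have e3 : Cfsg.EAdj S S ⁅C, A₂⁆ A₂ := by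
    refine ⟨hF', hA₂, ?_⟩
    rw [Subgroup.commutator_comm]; exact hlp₂
  exact ((Relation.ReflTransGen.single e1).tail e2).tail e3

theorem result {G : Type*} [Group G] {S : Set (Subgroup G)} (hS : Cfsg.IsRootSubgroupClass S) (hnd : Cfsg.IsNondegenerateRootSet S) :
    Cfsg.IsConnectedFamily (Cfsg.EAdj S S) S ∧ Cfsg.IsConnectedFamily (Cfsg.DAdj S) S := by
  have hF : Cfsg.IsConnectedFamily (Cfsg.FAdj S) S := by
    obtain ⟨A, hA, B, hB, hAB, -⟩ := hnd.1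
    obtain ⟨A', hA', B', hB', hr⟩ := hnd.2.1
    exact (Cfsg.Agent.S5032.result hS.1 ⟨A, hA, B, hB, hAB⟩).2
      ⟨hS.2, A', hA', not_isolated_of_pair hA' hB' hr⟩
  have hE : Cfsg.IsConnectedFamily (Cfsg.EAdj S S) S := by
    intro A hA B hB
    have h := hF A hA B hB
    clear hB
    induction h with
    | refl => exact Relation.ReflTransGen.refl
    | @tail A₁ A₂ _ hstep ih => exact ih.trans (path_of_edge hS hnd hstep)
  refine ⟨hE, ?_⟩
  intro A hA B hB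
  exact Relation.ReflTransGen.mono (fun X Y h => dAdj_of_eAdj h) _ _ (hE A hA B hB)

end Cfsg.Agent.S5041
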