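import Cfsg.Statements.S5042
import Cfsg.Agent.S5029
import Cfsg.Agent.S5034
import Cfsg.Agent.S5036
import Cfsg.Agent.S5041
import Cfsg.Agent.Lib.Helper83_RankOne
import Cfsg.Agent.Lib.Helper83_RootSets
import Cfsg.Agent.Lib.Helper83_CommCase
import Cfsg.Agent.Lib.Helper83_CommCase2
import Cfsg.Agent.Lib.Helper83_Lines
import Cfsg.Agent.Lib.Helper83_Lines2

set_option autoImplicit false
open Cfsg

namespace Cfsg.Agent.S5042

open Cfsg.Agent.Lib.Helper83_RankOne Cfsg.Agent.Lib.Helper83_RootSets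
open Cfsg.Agent.Lib.Helper83_CommCase Cfsg.Agent.Lib.Helper83_CommCase2
open Cfsg.Agent.Lib.Helper83_Lines

variable {G : Type*} [Group G] {S : Set (Subgroup G)}

/-- In a class with a rank one pair no member is isolated. -/
theorem not_isolated_of_class (hS : Cfsg.IsRootSubgroupClass S) {A B : Subgroup G} (hA : A ∈ S)
    (hB : B ∈ S) (hr : Cfsg.IsRankOnePair A B) :
    ∀ E ∈ S, ¬ Cfsg.IsIsolatedIn (Cfsg.FAdj S) S E := by
  intro E hE hiso
  obtain ⟨g, hg⟩ := hS.2.2 A hA E hE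
  apply (hiso.2 (Cfsg.conjBy B g)).1
  refine ⟨hE, hS.1.conj_mem B hB g, ?_⟩
  rw [hg]
  exact isRankOnePair_conj hr g

/-- Every line partner of `A` is conjugate to `A` under `⟨Λ_A, B⟩`. -/
theorem linePartner_conj (hS : Cfsg.IsRootSubgroupClass S) {A B : Subgroup G} (hA : A ∈ S)
    (hB : B ∈ Cfsg.rankOnePartners S A)
    (hAL : A ≤ ⨆ C ∈ Cfsg.linePartners S A, C) {T : Subgroup G} (hT : T ∈ Cfsg.linePartners S A) :
    ∃ g ∈ (⨆ C ∈ Cfsg.linePartners S A, C) ⊔ B, T = Cfsg.conjBy A g := by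
  have hS' := hS.1
  obtain ⟨hBS, hr⟩ := hB
  have hF := not_isolated_of_class hS hA hBS hr
  have hTL : T ≤ (⨆ C ∈ Cfsg.linePartners S A, C) ⊔ B :=
    le_sup_of_le_left (le_iSup₂_of_le T hT le_rfl)
  have hAG : A ≤ (⨆ C ∈ Cfsg.linePartners S A, C) ⊔ B := le_sup_of_le_left hAL
  have hBG : B ≤ (⨆ C ∈ Cfsg.linePartners S A, C) ⊔ B := le_sup_right
  have hNc := line_comm hS' hA hT
  have hT' := hT
  obtain ⟨⟨hTS, hTA, hAT0⟩, hpart⟩ := hT'
  have hAT : ∀ a ∈ A, ∀ t ∈ T, a * t = t * a := commutator_eq_bot_iff_commute.mp hAT0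
  have hTmem : T ∈ Cfsg.membersIn S (A ⊔ T) := ⟨hTS, le_sup_right⟩
  have hAmem : A ∈ Cfsg.membersIn S (A ⊔ T) := ⟨hA, le_sup_left⟩
  have hATinf : A ⊓ T = ⊥ := hpart.2.2 A hAmem T hTmem (Ne.symm hTA)
  rcases hS'.pair B hBS T hTS with h1 | h1 | h1
  · exfalso
    apply not_commute_point hS' hA hBS hr hNc hpart le_sup_left hTmem hTA
    rw [commutator_eq_bot_iff_commute] at h1
    exact fun p hp d hd => (h1 d hd p hp).symm
  · obtain ⟨x, hx, hxT⟩ := right_mem_unipotentSubgroups h1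
    obtain ⟨x', hx', hx'B⟩ := right_mem_unipotentSubgroups hr
    refine ⟨x * x', mul_mem (sup_le hBG hTL hx) (sup_le hAG hBG hx'), ?_⟩
    rw [hxT, hx'B, conjBy_mul]
  · -- commutator case
    have hFS : ⁅B, T⁆ ∈ S := h1.1
    have hroot : ∀ a ∈ A, a ≠ 1 → ∀ c ∈ T, c ≠ 1 → a * c ∈ Cfsg.rootElements S := by
      intro a ha ha1 c hc hc1
      have hac1 : a * c ≠ 1 := by
        intro h2
        have h3 : a = c⁻¹ := by
          calc a = (a * c) * c⁻¹ := by group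
            _ = c⁻¹ := by rw [h2, one_mul]
        have h4 : a ∈ A ⊓ T := Subgroup.mem_inf.mpr ⟨ha, by rw [h3]; exact inv_mem hc⟩
        rw [hATinf, Subgroup.mem_bot] at h4
        exact ha1 h4
      obtain ⟨E, hE, hmem⟩ := hpart.2.1 _
        (mul_mem (Subgroup.mem_sup_left ha) (Subgroup.mem_sup_right hc)) hac1
      exact ⟨hac1, E, hE.1, hmem⟩
    have hTeq : ⁅A, ⁅B, T⁆⁆ = T := commutator_commutator_eq hS' hA hBS hr hTS hAT hFS hroot
    have hC : ⁅A, ⁅B, T⁆⁆ ∈ S := by rw [hTeq]; exact hTS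
    obtain ⟨K', hK', hK'A⟩ := exists_opposite hS' hF hA hFS hC
    rw [hTeq] at hK'A
    -- K' is a line partner of A
    have hK'T : ⁅K', T⁆ ∈ S := by
      rw [Subgroup.commutator_comm, hK'A]; exact hA
    obtain ⟨-, -, hK'lp, -⟩ := Cfsg.Agent.S5029.result hS' (hF K' hK') hK' hTS hK'T
    rw [Subgroup.commutator_comm, hK'A] at hK'lp
    have hK'G : K' ≤ (⨆ C ∈ Cfsg.linePartners S A, C) ⊔ B :=
      le_sup_of_le_left (le_iSup₂_of_le K' hK'lp le_rfl)
    have hFG : ⁅B, T⁆ ≤ (⨆ C ∈ Cfsg.linePartners S A, C) ⊔ B := by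
      rw [Subgroup.commutator_le]
      intro b hb t ht
      rw [commutatorElement_def]
      exact mul_mem (mul_mem (mul_mem (hBG hb) (hTL ht)) (inv_mem (hBG hb))) (inv_mem (hTL ht))
    -- K' moves T
    have hTA' : ⁅T, K'⁆ ∈ S := by rw [hK'A]; exact hA
    have cTK' := commutatorCase_of_mem hS' hTS hK' hTA'
    obtain ⟨DT, hDT, hTDT⟩ := exists_partner (hF T hTS) hTS
    obtain ⟨k', hk', hk'1⟩ := Cfsg.Agent.S5036.exists_ne_one_of_ne_bot (hS'.ne_bot K' hK')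
    have hmove : Cfsg.conjBy T k' ≠ T := conjBy_ne_of_ne_one hS' hDT hTDT cTK' hk' hk'1
    have hPle : Cfsg.conjBy T k' ≤ A ⊔ ⁅A, ⁅B, T⁆⁆ := by
      rw [hTeq, sup_comm, ← hK'A]
      exact conjBy_le_sup hk'
    obtain ⟨hmem, -, -, -⟩ := Cfsg.Agent.S5029.result hS' (hF A hA) hA hFS hC
    have hPmem : Cfsg.conjBy T k' ∈ Cfsg.membersIn S (A ⊔ ⁅A, ⁅B, T⁆⁆) :=
      ⟨hS'.conj_mem T hTS k', hPle⟩
    rw [hmem] at hPmem
    rcases hPmem with ⟨f, hf, hfP⟩ | hPmem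
    · refine ⟨k'⁻¹ * f, mul_mem (inv_mem (hK'G hk')) (hFG hf), ?_⟩
      have h2 : Cfsg.conjBy A f = Cfsg.conjBy T k' := hfP
      rw [← conjBy_mul, h2, conjBy_inv_conjBy]
    · rw [Set.mem_singleton_iff, hTeq] at hPmem
      exact absurd hPmem hmove

theorem result {G : Type*} [Group G] {S : Set (Subgroup G)} (hS : Cfsg.IsRootSubgroupClass S) (hnd : Cfsg.IsNondegenerateRootSet S)
    {A B : Subgroup G} (hA : A ∈ S) (hB : B ∈ Cfsg.rankOnePartners S A) :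
    (⨆ C ∈ Cfsg.linePartners S A, C) ⊔ B = ⊤ := by
  have hS' := hS.1
  have hF := not_isolated_of_class hS hA hB.1 hB.2
  -- A lies in the subgroup generated by its line partners
  obtain ⟨C, hCl, -⟩ := Cfsg.Agent.S5034.exists_point hS hnd hA hB
  obtain ⟨K, hK, hCK, -⟩ := standard_line hS' hA hB.1 hB.2 hCl
  have hAL : A ≤ ⨆ C ∈ Cfsg.linePartners S A, C := le_iSup_linePartners hS' (hF A hA) hA hK hCK
  have hAG : A ≤ (⨆ C ∈ Cfsg.linePartners S A, C) ⊔ B := le_sup_of_le_left hAL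
  -- every member is conjugate to A under the subgroup
  have hconn := (Cfsg.Agent.S5041.result hS hnd).1
  have hall : ∀ E ∈ S, ∃ g ∈ (⨆ C ∈ Cfsg.linePartners S A, C) ⊔ B, E = Cfsg.conjBy A g := by
    intro E hE
    have hpath := hconn A hA E hE
    clear hE
    induction hpath with
    | refl => exact ⟨1, one_mem _, (conjBy_one A).symm⟩
    | @tail E₁ E₂ _ hstep ih =>
      obtain ⟨g₁, hg₁, hE₁⟩ := ih
      obtain ⟨-, -, hlp⟩ := hstep
      have h1 := linePartners_conjBy hS' hlp g₁⁻¹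
      rw [hE₁, conjBy_inv_conjBy] at h1
      obtain ⟨g, hg, hgE⟩ := linePartner_conj hS hA hB hAL h1
      refine ⟨g₁ * g, mul_mem hg₁ hg, ?_⟩
      rw [← conjBy_mul, ← hgE, conjBy_conjBy_inv]
  rw [eq_top_iff, ← hS'.generates]
  refine iSup₂_le ?_
  intro E hE
  obtain ⟨g, hg, rfl⟩ := hall E hE
  exact conjBy_le_of_mem hAG hg

end Cfsg.Agent.S5042
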