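import Cfsg.Statements.S5037
import Cfsg.Agent.S5036
import Cfsg.Agent.S5042
import Cfsg.Agent.Lib.Helper83_RankOne
import Cfsg.Agent.Lib.Helper83_RootSets
import Cfsg.Agent.Lib.Helper83_CommCase
import Cfsg.Agent.Lib.Helper83_CommCase2
import Cfsg.Agent.Lib.Helper83_Lines
import Cfsg.Agent.Lib.Helper83_Lines2
import Cfsg.Agent.Lib.Helper83_DLemma

set_option autoImplicit false
open Cfsg

namespace Cfsg.Agent.S5037

open Cfsg.Agent.Lib.Helper83_RankOne Cfsg.Agent.Lib.Helper83_RootSets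
open Cfsg.Agent.Lib.Helper83_CommCase Cfsg.Agent.Lib.Helper83_CommCase2
open Cfsg.Agent.Lib.Helper83_Lines

variable {G : Type*} [Group G] {S : Set (Subgroup G)}

/-- The invariant preorder trick.  Let `R` be a conjugation invariant transitive relation on
subgroups which never relates the two members of a rank one pair.  If `A` and `C` commute, have a
common rank one partner `B` and `R A C`, then `R C A`. -/
theorem rel_symm (R : Subgroup G → Subgroup G → Prop)
    (hconj : ∀ P Q : Subgroup G, ∀ g : G, R P Q → R (Cfsg.conjBy P g) (Cfsg.conjBy Q g))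
    (htrans : ∀ P Q T : Subgroup G, R P Q → R Q T → R P T)
    (hirr : ∀ P Q : Subgroup G, Cfsg.IsRankOnePair P Q → ¬ R P Q)
    {A B C : Subgroup G} (hAB : Cfsg.IsRankOnePair A B) (hCB : Cfsg.IsRankOnePair C B)
    (hAC : ∀ a ∈ A, ∀ c ∈ C, a * c = c * a) (hR : R A C) : R C A := by
  -- the basic step
  have key : ∀ a ∈ A, a ≠ 1 → ∃ b ∈ B, ∃ c ∈ C, Cfsg.conjBy A b⁻¹ = Cfsg.conjBy B a⁻¹ ∧
      Cfsg.conjBy B c⁻¹ = Cfsg.conjBy C b⁻¹ ∧ R B (Cfsg.conjBy B (a * c⁻¹)) := by
    intro a ha ha1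
    obtain ⟨b, hb, hb1, h1⟩ := hAB.cond_left a ha ha1
    obtain ⟨c, hc, -, h2⟩ := hCB.cond_right b hb hb1
    refine ⟨b, hb, c, hc, h1, h2, ?_⟩
    have h3 := hconj A C b⁻¹ hR
    rw [h1, ← h2] at h3
    have h4 := hconj _ _ a h3
    rw [conjBy_conjBy_inv, conjBy_mul] at h4
    exact h4
  obtain ⟨a, ha, ha1⟩ := exists_ne_one_left hAB
  obtain ⟨b, hb, c, hc, h1, h2, h3⟩ := key a ha ha1
  have ha1' : a⁻¹ ≠ 1 := fun h => ha1 (inv_eq_one.mp h)
  obtain ⟨b', -, c', hc', -, -, h3'⟩ := key a⁻¹ (inv_mem ha) ha1'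
  -- conjugate the second relation by `a * c⁻¹`
  have h4 := hconj _ _ (a * c⁻¹) h3'
  rw [conjBy_mul] at h4
  have e1 : a * c⁻¹ * (a⁻¹ * c'⁻¹) = c⁻¹ * c'⁻¹ := by
    have hcomm : a * c⁻¹ = c⁻¹ * a := hAC a ha c⁻¹ (inv_mem hc)
    rw [hcomm]; group
  rw [e1] at h4
  have h5 : R B (Cfsg.conjBy B (c⁻¹ * c'⁻¹)) := htrans _ _ _ h3 h4
  have hcc : c⁻¹ * c'⁻¹ ∈ C := mul_mem (inv_mem hc) (inv_mem hc')
  have hc1 : c⁻¹ * c'⁻¹ = 1 := by
    by_contra hne
    have hBC := Cfsg.RankOnePair_symm hCB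
    have hmem : Cfsg.conjBy B (c⁻¹ * c'⁻¹) ∈ Cfsg.unipotentSubgroups B C :=
      ⟨_, Subgroup.mem_sup_right hcc, rfl⟩
    have hne' : B ≠ Cfsg.conjBy B (c⁻¹ * c'⁻¹) := by
      intro h6
      exact hne (eq_one_of_mem_of_mem_normalizer hCB hcc (mem_normalizer_of_conjBy_eq h6.symm))
    have hp := (isRankOnePair_of_mem hBC (self_mem_unipotentSubgroups B C) hmem hne').1
    exact hirr _ _ hp h5
  rw [hc1, conjBy_one] at h4
  -- transport back
  have h6 := hconj _ _ a⁻¹ h4
  rw [conjBy_mul] at h6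
  have e2 : a⁻¹ * (a * c⁻¹) = c⁻¹ := by group
  rw [e2, h2, ← h1] at h6
  have h7 := hconj _ _ b h6
  rw [conjBy_conjBy_inv, conjBy_conjBy_inv] at h7
  exact h7

theorem mem_centralizingMembers_iff {P T : Subgroup G} :
    T ∈ Cfsg.centralizingMembers S P ↔ T ∈ S ∧ ∀ p ∈ P, ∀ t ∈ T, p * t = t * p := by
  unfold Cfsg.centralizingMembers
  constructor
  · rintro ⟨hT, hle⟩
    refine ⟨hT, fun p hp t ht => ?_⟩
    have := hle ht
    rw [Subgroup.mem_centralizer_iff] at this
    exact this p hp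
  · rintro ⟨hT, h⟩
    refine ⟨hT, fun t ht => ?_⟩
    rw [Subgroup.mem_centralizer_iff]
    exact fun p hp => h p hp t ht

/-- Elementwise commuting is preserved by conjugation. -/
theorem commute_conjBy {P T : Subgroup G} (h : ∀ p ∈ P, ∀ t ∈ T, p * t = t * p) (g : G) :
    ∀ p ∈ Cfsg.conjBy P g, ∀ t ∈ Cfsg.conjBy T g, p * t = t * p := by
  intro p hp t ht
  rw [mem_conjBy_iff] at hp ht
  have h1 := h _ hp _ ht
  calc p * t = g * ((g⁻¹ * p * g) * (g⁻¹ * t * g)) * g⁻¹ := by group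
    _ = g * ((g⁻¹ * t * g) * (g⁻¹ * p * g)) * g⁻¹ := by rw [h1]
    _ = t * p := by group

theorem centralizingMembers_conj (hS : Cfsg.IsRootSubgroupSet S) {P Q : Subgroup G}
    (h : Cfsg.centralizingMembers S P ⊆ Cfsg.centralizingMembers S Q) (g : G) :
    Cfsg.centralizingMembers S (Cfsg.conjBy P g) ⊆ Cfsg.centralizingMembers S (Cfsg.conjBy Q g) := by
  intro T hT
  rw [mem_centralizingMembers_iff] at hT ⊢
  obtain ⟨hTS, hT⟩ := hT
  refine ⟨hTS, ?_⟩
  have h1 : Cfsg.conjBy T g⁻¹ ∈ Cfsg.centralizingMembers S P := by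
    rw [mem_centralizingMembers_iff]
    refine ⟨hS.conj_mem T hTS _, ?_⟩
    have := commute_conjBy hT g⁻¹
    rwa [conjBy_inv_conjBy] at this
  have h2 := h h1
  rw [mem_centralizingMembers_iff] at h2
  have := commute_conjBy h2.2 g
  rwa [conjBy_conjBy_inv] at this

theorem rankOnePartners_conj (hS : Cfsg.IsRootSubgroupSet S) {P Q : Subgroup G}
    (h : Cfsg.rankOnePartners S P ⊆ Cfsg.rankOnePartners S Q) (g : G) :
    Cfsg.rankOnePartners S (Cfsg.conjBy P g) ⊆ Cfsg.rankOnePartners S (Cfsg.conjBy Q g) := by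
  rintro T ⟨hTS, hT⟩
  have h1 : Cfsg.conjBy T g⁻¹ ∈ Cfsg.rankOnePartners S P := by
    refine ⟨hS.conj_mem T hTS _, ?_⟩
    have := isRankOnePair_conj hT g⁻¹
    rwa [conjBy_inv_conjBy] at this
  obtain ⟨-, h2⟩ := h h1
  refine ⟨hTS, ?_⟩
  have := isRankOnePair_conj h2 g
  rwa [conjBy_conjBy_inv] at this

/-- Every member of the class has a rank one partner. -/
theorem exists_partner_of_class (hS : Cfsg.IsRootSubgroupClass S)
    (hdn : Cfsg.IsDegenerateRootSet S ∨ Cfsg.IsNondegenerateRootSet S)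
    {A C : Subgroup G} (hA : A ∈ S) (hC : C ∈ S) (hAC : A ≠ C) :
    ∀ E ∈ S, ∃ B ∈ S, Cfsg.IsRankOnePair E B := by
  have hpair : ∃ A₀ ∈ S, ∃ B₀ ∈ S, Cfsg.IsRankOnePair A₀ B₀ := by
    rcases hdn with hd | hn
    · by_contra hcon
      push Not at hcon
      -- all members commute
      have hall : ∀ P ∈ S, ∀ Q ∈ S, ∀ p ∈ P, ∀ q ∈ Q, p * q = q * p := by
        intro P hP Q hQ
        rcases hS.1.pair P hP Q hQ with h1 | h1 | h1
        · exact commutator_eq_bot_iff_commute.mp h1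
        · exact absurd h1 (hcon P hP Q hQ)
        · exact absurd h1 (hd P hP Q hQ)
      -- `A` is centralized by `G`
      have hcen : A ≤ Subgroup.centralizer ((⊤ : Subgroup G) : Set G) := by
        rw [← hS.1.generates]
        intro a ha
        rw [Subgroup.mem_centralizer_iff]
        intro x hx
        have hx' : x ∈ Subgroup.centralizer ({a} : Set G) := by
          refine (iSup₂_le (f := fun (P : Subgroup G) (_ : P ∈ S) => P) ?_) hx
          intro P hP p hp
          rw [Subgroup.mem_centralizer_iff]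
          intro y hy
          rw [Set.mem_singleton_iff] at hy
          subst hy
          exact hall A hA P hP y ha p hp
        rw [Subgroup.mem_centralizer_iff] at hx'
        exact (hx' a rfl).symm
      obtain ⟨g, hg⟩ := hS.2.2 A hA C hC
      apply hAC
      rw [hg]
      symm
      apply Cfsg.Agent.Lib.Helper83_DLemma.conjBy_eq_of_commute
      intro q hq
      have h1 := hcen hq
      rw [Subgroup.mem_centralizer_iff] at h1
      exact h1 g (Subgroup.mem_top _)
    · obtain ⟨-, ⟨A₀, hA₀, B₀, hB₀, hr⟩, -⟩ := hn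
      exact ⟨A₀, hA₀, B₀, hB₀, hr⟩
  obtain ⟨A₀, hA₀, B₀, hB₀, hr⟩ := hpair
  intro E hE
  exact exists_partner (Cfsg.Agent.S5042.not_isolated_of_class hS hA₀ hB₀ hr E hE) hE

/-- A rank one partner of `C` is a rank one partner of `A` when `C_Σ(A) ⊆ C_Σ(C)`. -/
theorem partner_of_subset (hS : Cfsg.IsRootSubgroupClass S)
    (hdn : Cfsg.IsDegenerateRootSet S ∨ Cfsg.IsNondegenerateRootSet S)
    {A C B : Subgroup G} (hA : A ∈ S) (hC : C ∈ S)
    (h : Cfsg.centralizingMembers S A ⊆ Cfsg.centralizingMembers S C)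
    (hAC : ∀ a ∈ A, ∀ c ∈ C, a * c = c * a)
    (hB : B ∈ S) (hCB : Cfsg.IsRankOnePair C B) : Cfsg.IsRankOnePair A B := by
  have hS' := hS.1
  rcases hS'.pair A hA B hB with h1 | h1 | h1
  · exfalso
    have h2 : B ∈ Cfsg.centralizingMembers S A := by
      rw [mem_centralizingMembers_iff]
      exact ⟨hB, commutator_eq_bot_iff_commute.mp h1⟩
    have h3 := h h2
    rw [mem_centralizingMembers_iff] at h3
    exact not_commute hCB h3.2
  · exact h1
  · exfalso
    rcases hdn with hd | hn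
    · exact hd A hA B hB h1
    · -- `⁅B, A⁆ ∈ S` commutes with `A`, hence with `C`
      have hBA : ⁅B, A⁆ ∈ S := by rw [Subgroup.commutator_comm]; exact h1.1
      have h2 : ⁅B, A⁆ ∈ Cfsg.centralizingMembers S A := by
        rw [mem_centralizingMembers_iff]
        refine ⟨hBA, fun p hp t ht => ?_⟩
        rw [Subgroup.commutator_comm] at ht
        exact (comm_left h1 ht hp).symm
      have h3 := h h2
      rw [mem_centralizingMembers_iff] at h3
      have h4 := commCase_of_point hS' hC hB hCB hA (fun c hc a ha => (hAC a ha c hc).symm) hBA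
      have h5 : ⁅C, ⁅B, A⁆⁆ = ⊥ := commutator_eq_bot_iff_commute.mpr h3.2
      exact hS'.ne_bot _ h4.1 h5

theorem result {G : Type*} [Group G] {S : Set (Subgroup G)} (hS : Cfsg.IsRootSubgroupClass S)
    (hdn : Cfsg.IsDegenerateRootSet S ∨ Cfsg.IsNondegenerateRootSet S)
    {A C : Subgroup G} (hA : A ∈ S) (hC : C ∈ S) (hAC : A ≠ C) :
    (Cfsg.centralizingMembers S A ⊆ Cfsg.centralizingMembers S C →
      Cfsg.centralizingMembers S A = Cfsg.centralizingMembers S C) ∧
    (Cfsg.rankOnePartners S A ⊆ Cfsg.rankOnePartners S C →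
      ⁅A, C⁆ = ⊥ ∧ Cfsg.rankOnePartners S A = Cfsg.rankOnePartners S C) := by
  have hS' := hS.1
  have hex := exists_partner_of_class hS hdn hA hC hAC
  refine ⟨fun h => ?_, fun h => ?_⟩
  · -- part (1)
    have hAA : A ∈ Cfsg.centralizingMembers S A := by
      rw [mem_centralizingMembers_iff]
      exact ⟨hA, fun p hp t ht => comm_of_mem (hS'.commutative A hA) hp ht⟩
    have hAC' := h hAA
    rw [mem_centralizingMembers_iff] at hAC'
    have hcomm : ∀ a ∈ A, ∀ c ∈ C, a * c = c * a := fun a ha c hc => (hAC'.2 c hc a ha).symm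
    obtain ⟨B, hB, hCB⟩ := hex C hC
    have hAB := partner_of_subset hS hdn hA hC h hcomm hB hCB
    apply Set.Subset.antisymm h
    have hmain := rel_symm
      (fun P Q => P ∈ S ∧ Cfsg.centralizingMembers S P ⊆ Cfsg.centralizingMembers S Q)
      (fun P Q g hPQ => ⟨hS'.conj_mem P hPQ.1 g, centralizingMembers_conj hS' hPQ.2 g⟩)
      (fun P Q T h1 h2 => ⟨h1.1, Set.Subset.trans h1.2 h2.2⟩) ?_ hAB hCB hcomm ⟨hA, h⟩
    · exact hmain.2
    · rintro P Q hPQ ⟨hP, hsub⟩
      -- `P` centralizes itself, hence `Q`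
      have h1 : P ∈ Cfsg.centralizingMembers S P := by
        rw [mem_centralizingMembers_iff]
        exact ⟨hP, fun p hp t ht => comm_of_mem (hS'.commutative P hP) hp ht⟩
      have h2 := hsub h1
      rw [mem_centralizingMembers_iff] at h2
      exact not_commute hPQ (fun p hp q hq => (h2.2 q hq p hp).symm)
  · -- part (2)
    have hF : ∀ E ∈ S, ¬ Cfsg.IsIsolatedIn (Cfsg.FAdj S) S E := by
      intro E hE
      obtain ⟨B, hB, hr⟩ := hex E hE
      exact not_isolated_of_partner hE hB hr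
    have hbot : ⁅A, C⁆ = ⊥ := by
      rcases hS'.pair A hA C hC with h1 | h1 | h1
      · exact h1
      · exfalso
        have h2 : C ∈ Cfsg.rankOnePartners S C := h ⟨hC, h1⟩
        exact h2.2.ne rfl
      · exfalso
        -- the hexagon: some `E` has `⁅⁅C, A⁆, E⁆ = C`, and then `E` is a rank one partner of `A`
        have hCA : ⁅C, A⁆ ∈ S := by rw [Subgroup.commutator_comm]; exact h1.1
        obtain ⟨E, hE, hEC⟩ := Cfsg.Agent.Lib.Helper83_Lines.exists_opposite hS' hF hC hA hCA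
        have hDC : ⁅E, ⁅C, A⁆⁆ = C := by rw [Subgroup.commutator_comm]; exact hEC
        obtain ⟨hAE, -⟩ := Cfsg.Agent.S5036.result hS' hC hA hCA hE hDC
        have h2 : E ∈ Cfsg.rankOnePartners S C := h ⟨hE, hAE⟩
        -- but `C = ⁅⁅C, A⁆, E⁆` commutes with `E`
        have hmem : ⁅⁅C, A⁆, E⁆ ∈ S := by rw [hEC]; exact hC
        have cc := commutatorCase_of_mem hS' hCA hE hmem
        apply not_commute h2.2
        intro c hc e he
        rw [← hEC] at hc
        exact comm_right cc hc he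
    refine ⟨hbot, ?_⟩
    have hcomm : ∀ a ∈ A, ∀ c ∈ C, a * c = c * a := commutator_eq_bot_iff_commute.mp hbot
    obtain ⟨B, hB, hAB⟩ := hex A hA
    have hCB : Cfsg.IsRankOnePair C B := (h ⟨hB, hAB⟩).2
    apply Set.Subset.antisymm h
    have hmain := rel_symm
      (fun P Q => Q ∈ S ∧ Cfsg.rankOnePartners S P ⊆ Cfsg.rankOnePartners S Q)
      (fun P Q g hPQ => ⟨hS'.conj_mem Q hPQ.1 g, rankOnePartners_conj hS' hPQ.2 g⟩)
      (fun P Q T h1 h2 => ⟨h2.1, Set.Subset.trans h1.2 h2.2⟩) ?_ hAB hCB hcomm ⟨hC, h⟩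
    · exact hmain.2
    · rintro P Q hPQ ⟨hQ, hsub⟩
      have h2 : Q ∈ Cfsg.rankOnePartners S Q := hsub ⟨hQ, hPQ⟩
      exact h2.2.ne rfl

end Cfsg.Agent.S5037
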