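import Cfsg.Statements.S5040
import Cfsg.Agent.S5036
import Cfsg.Agent.S5042
import Cfsg.Agent.Lib.Helper83_RankOne
import Cfsg.Agent.Lib.Helper83_RootSets
import Cfsg.Agent.Lib.Helper83_CommCase
import Cfsg.Agent.Lib.Helper83_CommCase2
import Cfsg.Agent.Lib.Helper83_DLemma
import Cfsg.Agent.Lib.Helper83_Lines
import Cfsg.Agent.Lib.Helper83_Lines2

set_option autoImplicit false
open Cfsg

namespace Cfsg.Agent.S5040

open Cfsg.Agent.Lib.Helper83_RankOne Cfsg.Agent.Lib.Helper83_RootSets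
open Cfsg.Agent.Lib.Helper83_CommCase Cfsg.Agent.Lib.Helper83_CommCase2
open Cfsg.Agent.Lib.Helper83_DLemma (conjBy_eq_of_commute)
open Cfsg.Agent.Lib.Helper83_Lines

variable {G : Type*} [Group G] {S : Set (Subgroup G)}

/-- The setwise stabilizer of a family of subgroups under conjugation. -/
def stab (Δ : Set (Subgroup G)) : Subgroup G where
  carrier := {g | ∀ P, P ∈ Δ ↔ Cfsg.conjBy P g ∈ Δ}
  one_mem' := by
    intro P
    rw [conjBy_one]
  mul_mem' := by
    intro g h hg hh P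
    rw [← conjBy_mul]
    exact (hh P).trans (hg _)
  inv_mem' := by
    intro g hg P
    have := hg (Cfsg.conjBy P g⁻¹)
    rw [conjBy_conjBy_inv] at this
    exact this.symm

theorem mem_stab_iff {Δ : Set (Subgroup G)} {g : G} :
    g ∈ stab Δ ↔ ∀ P, P ∈ Δ ↔ Cfsg.conjBy P g ∈ Δ := Iff.rfl

theorem mem_stab_of_image_eq {Δ : Set (Subgroup G)} {g : G}
    (h : (fun A => Cfsg.conjBy A g) '' Δ = Δ) : g ∈ stab Δ := by
  intro P
  constructor
  · intro hP
    rw [← h]
    exact ⟨P, hP, rfl⟩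
  · intro hP
    rw [← h] at hP
    obtain ⟨Q, hQ, hQP⟩ := hP
    have : Q = P := conjBy_injective hQP
    rw [← this]; exact hQ

/-- An element of a member of `S` mapping some member of `Δ` into `Δ` stabilizes `Δ`. -/
theorem mem_stab_of_weakTI {Δ : Set (Subgroup G)} (hΔ : Cfsg.IsWeakTISubset S Δ) {E P : Subgroup G}
    (hE : E ∈ S) {e : G} (he : e ∈ E) (hP : P ∈ Δ) (hPe : Cfsg.conjBy P e ∈ Δ) : e ∈ stab Δ := by
  by_cases he1 : e = 1
  · rw [he1]; exact one_mem _
  have hroot : e ∈ Cfsg.rootElements S := ⟨he1, E, hE, he⟩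
  rcases hΔ.2.2.2 e hroot with h | h
  · exact mem_stab_of_image_eq h
  · exfalso
    exact Set.disjoint_left.mp h ⟨P, hP, rfl⟩ hPe

theorem le_stab_of_normalizes {Δ : Set (Subgroup G)} (hΔ : Cfsg.IsWeakTISubset S Δ)
    {E P : Subgroup G} (hE : E ∈ S) (hP : P ∈ Δ) (h : ∀ e ∈ E, Cfsg.conjBy P e = P) :
    E ≤ stab Δ := by
  intro e he
  apply mem_stab_of_weakTI hΔ hE he hP
  rw [h e he]; exact hP

/-- The rank one case. -/
theorem rankOne_case (hS : Cfsg.IsRootSubgroupClass S) (hnd : Cfsg.IsNondegenerateRootSet S)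
    {Δ : Set (Subgroup G)} (hΔ : Cfsg.IsWeakTISubset S Δ) {A B : Subgroup G} (hA : A ∈ Δ)
    (hB : B ∈ Δ) (hr : Cfsg.IsRankOnePair A B) : False := by
  have hAS := hΔ.1 hA
  have hBS := hΔ.1 hB
  have hgen := Cfsg.Agent.S5042.result hS hnd hAS ⟨hBS, hr⟩
  have htop : (⊤ : Subgroup G) ≤ stab Δ := by
    rw [← hgen]
    refine sup_le (iSup₂_le ?_) ?_
    · intro C hC
      obtain ⟨⟨hCS, -, hAC0⟩, -⟩ := hC
      have hAC := commutator_eq_bot_iff_commute.mp hAC0
      exact le_stab_of_normalizes hΔ hCS hA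
        (fun c hc => conjBy_eq_of_commute (fun a ha => (hAC a ha c hc).symm))
    · exact le_stab_of_normalizes hΔ hBS hB (fun b hb => conjBy_self_mem hb)
  apply hΔ.2.2.1
  apply Set.Subset.antisymm hΔ.1
  intro E hE
  obtain ⟨g, hg⟩ := hS.2.2 A hAS E hE
  rw [hg]
  exact (mem_stab_iff.mp (htop (Subgroup.mem_top g)) A).mp hA

theorem result {G : Type*} [Group G] {S : Set (Subgroup G)} (hS : Cfsg.IsRootSubgroupClass S) (hnd : Cfsg.IsNondegenerateRootSet S)
    {Δ : Set (Subgroup G)} (hΔ : Cfsg.IsWeakTISubset S Δ) : Cfsg.IsAbelianFamily Δ := by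
  have hS' := hS.1
  intro A hA B hB a ha b hb
  by_contra hab
  have hAS := hΔ.1 hA
  have hBS := hΔ.1 hB
  obtain ⟨A₀, hA₀, B₀, hB₀, hr₀⟩ := hnd.2.1
  have hF := Cfsg.Agent.S5042.not_isolated_of_class hS hA₀ hB₀ hr₀
  rcases hS'.pair A hAS B hBS with h1 | h1 | h1
  · rw [commutator_eq_bot_iff_commute] at h1
    exact hab (h1 a ha b hb)
  · exact rankOne_case hS hnd hΔ hA hB h1
  · -- commutator case: produce a rank one pair inside Δ
    have hC : ⁅A, B⁆ ∈ S := h1.1
    obtain ⟨K', hK', hK'A⟩ := exists_opposite hS' hF hAS hBS hC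
    have hFK' : ⁅⁅A, B⁆, K'⁆ ∈ S := by rw [hK'A]; exact hAS
    have cFK' := commutatorCase_of_mem hS' hC hK' hFK'
    -- K' commutes with A, hence stabilizes Δ
    have hK'stab : K' ≤ stab Δ := by
      apply le_stab_of_normalizes hΔ hK' hA
      intro k hk
      apply conjBy_eq_of_commute
      intro q hq
      rw [← hK'A] at hq
      exact (comm_right cFK' hq hk).symm
    have hDC : ⁅K', ⁅A, B⁆⁆ = A := by rw [Subgroup.commutator_comm]; exact hK'A
    obtain ⟨hBK', -⟩ := Cfsg.Agent.S5036.result hS' hAS hBS hC hK' hDC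
    obtain ⟨k, hk, hk1⟩ := exists_ne_one_right hBK'
    have hB'Δ : Cfsg.conjBy B k ∈ Δ := (mem_stab_iff.mp (hK'stab hk) B).mp hB
    have hmem : Cfsg.conjBy B k ∈ Cfsg.unipotentSubgroups B K' :=
      conjBy_mem_unipotentSubgroups (self_mem_unipotentSubgroups B K') (Subgroup.mem_sup_right hk)
    have hne : Cfsg.conjBy B k ≠ B := by
      intro h5
      exact hk1 (eq_one_of_mem_of_mem_normalizer (Cfsg.RankOnePair_symm hBK') hk
        (mem_normalizer_of_conjBy_eq h5))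
    obtain ⟨hpair, -⟩ := isRankOnePair_of_mem hBK' (self_mem_unipotentSubgroups B K') hmem
      (Ne.symm hne)
    exact rankOne_case hS hnd hΔ hB hB'Δ hpair

end Cfsg.Agent.S5040
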