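import Mathlib
import Cfsg.Statements.S5043
import Cfsg.Agent.Lib.Helper5_RootSL

set_option autoImplicit false
open Cfsg

namespace Cfsg.Agent.S5043

open Matrix Cfsg.Agent.Lib.Helper5_Transv Cfsg.Agent.Lib.Helper5_RootSL
open Cfsg.Agent.Lib.Helper83_RankOne

lemma h01 (n : ℕ) : (0 : Fin (n + 3)) ≠ 1 := by
  intro h
  have := congrArg Fin.val h
  simp at this

lemma h02 (n : ℕ) : (0 : Fin (n + 3)) ≠ 2 := by
  intro h
  have := congrArg Fin.val h
  rw [Fin.val_zero, Fin.val_two] at this
  omega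

lemma h12 (n : ℕ) : (1 : Fin (n + 3)) ≠ 2 := by
  intro h
  have := congrArg Fin.val h
  rw [Fin.val_one, Fin.val_two] at this
  omega

/-- the root subgroup of the statement is the standard transvection subgroup -/
lemma closure_eq_T (k : Type*) [Field k] (n : ℕ) :
    Subgroup.closure {t : Matrix.SpecialLinearGroup (Fin (n + 3)) k |
      ∃ c : k, (t : Matrix (Fin (n + 3)) (Fin (n + 3)) k) = Matrix.transvection 0 1 c} =
    T (k := k) (e 0) (e 1) (e_dot_e (h01 n)) := by
  have hset : {t : Matrix.SpecialLinearGroup (Fin (n + 3)) k |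
      ∃ c : k, (t : Matrix (Fin (n + 3)) (Fin (n + 3)) k) = Matrix.transvection 0 1 c} =
      ((T (k := k) (e 0) (e 1) (e_dot_e (h01 n)) :
        Subgroup (Matrix.SpecialLinearGroup (Fin (n + 3)) k)) :
        Set (Matrix.SpecialLinearGroup (Fin (n + 3)) k)) := by
    ext t
    constructor
    · rintro ⟨c, hc⟩
      refine ⟨c, ?_⟩
      rw [← transvection_eq_tvS (h01 n) c]
      exact Subtype.ext hc
    · rintro ⟨c, rfl⟩
      refine ⟨c, ?_⟩
      rw [← transvection_eq_tvS (h01 n) c]
      rfl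
  rw [hset, Subgroup.closure_eq]

lemma set_eq (k : Type*) [Field k] (n : ℕ) :
    {A : Subgroup (Matrix.SpecialLinearGroup (Fin (n + 3)) k) |
        ∃ g : Matrix.SpecialLinearGroup (Fin (n + 3)) k,
          A = Cfsg.conjBy (Subgroup.closure {t : Matrix.SpecialLinearGroup (Fin (n + 3)) k |
            ∃ c : k, (t : Matrix (Fin (n + 3)) (Fin (n + 3)) k) = Matrix.transvection 0 1 c}) g} =
    TS k (Fin (n + 3)) := by
  ext A
  rw [Set.mem_setOf_eq, closure_eq_T]
  constructor
  · rintro ⟨g, rfl⟩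
    exact TS_conj_mem _ (T_mem_TS _ _ _ (e_ne_zero 0) (e_ne_zero 1)) g
  · intro hA
    exact exists_conjBy_eq (h01 n) (h02 n) (h12 n) A hA

/-- Let k be a field and n a natural number. In SL_{n+3}(k) (so in every dimension at least 3) the conjugates of the root subgroup of elementary transvections 1 + c E₁₂ (c ∈ k) — that is, the groups of transvections attached to an incident point–hyperplane pair — form a non-degenerate class of abstract k-root subgroups of SL_{n+3}(k) whose graph of rank one pairs is connected. -/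
theorem result (k : Type*) [Field k] (n : ℕ) :
    Cfsg.IsRootSubgroupClass {A : Subgroup (Matrix.SpecialLinearGroup (Fin (n + 3)) k) |
        ∃ g : Matrix.SpecialLinearGroup (Fin (n + 3)) k,
          A = Cfsg.conjBy (Subgroup.closure {t : Matrix.SpecialLinearGroup (Fin (n + 3)) k |
            ∃ c : k, (t : Matrix (Fin (n + 3)) (Fin (n + 3)) k) = Matrix.transvection 0 1 c}) g} ∧
    Cfsg.IsNondegenerateRootSet {A : Subgroup (Matrix.SpecialLinearGroup (Fin (n + 3)) k) |
        ∃ g : Matrix.SpecialLinearGroup (Fin (n + 3)) k,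
          A = Cfsg.conjBy (Subgroup.closure {t : Matrix.SpecialLinearGroup (Fin (n + 3)) k |
            ∃ c : k, (t : Matrix (Fin (n + 3)) (Fin (n + 3)) k) = Matrix.transvection 0 1 c}) g} ∧
    Cfsg.IsKRootSubgroupSet k {A : Subgroup (Matrix.SpecialLinearGroup (Fin (n + 3)) k) |
        ∃ g : Matrix.SpecialLinearGroup (Fin (n + 3)) k,
          A = Cfsg.conjBy (Subgroup.closure {t : Matrix.SpecialLinearGroup (Fin (n + 3)) k |
            ∃ c : k, (t : Matrix (Fin (n + 3)) (Fin (n + 3)) k) = Matrix.transvection 0 1 c}) g} ∧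
    Cfsg.IsConnectedFamily (Cfsg.FAdj {A : Subgroup (Matrix.SpecialLinearGroup (Fin (n + 3)) k) |
        ∃ g : Matrix.SpecialLinearGroup (Fin (n + 3)) k,
          A = Cfsg.conjBy (Subgroup.closure {t : Matrix.SpecialLinearGroup (Fin (n + 3)) k |
            ∃ c : k, (t : Matrix (Fin (n + 3)) (Fin (n + 3)) k) = Matrix.transvection 0 1 c}) g})
      {A : Subgroup (Matrix.SpecialLinearGroup (Fin (n + 3)) k) |
        ∃ g : Matrix.SpecialLinearGroup (Fin (n + 3)) k,
          A = Cfsg.conjBy (Subgroup.closure {t : Matrix.SpecialLinearGroup (Fin (n + 3)) k |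
            ∃ c : k, (t : Matrix (Fin (n + 3)) (Fin (n + 3)) k) = Matrix.transvection 0 1 c}) g} := by
  have : Nontrivial (Fin (n + 3)) := ⟨⟨0, 1, h01 n⟩⟩
  rw [set_eq]
  exact ⟨⟨TS_isRootSubgroupSet, TS_isConjClass (h01 n) (h02 n) (h12 n)⟩,
    TS_isNondegenerate (h01 n) (h02 n) (h12 n), TS_isKRootSubgroupSet, TS_connected⟩

end Cfsg.Agent.S5043
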