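import Cfsg.Statements.S5045
import Cfsg.Agent.S0199
import Cfsg.Agent.Lib.Helper71_Fitting
import Cfsg.Agent.Lib.Helper4_DihedralIso
import Cfsg.Agent.Lib.Helper83_RootInv

set_option autoImplicit false
open Cfsg

namespace Cfsg.Agent.S5045

open Cfsg.Agent.Lib.Helper83_RootInv

variable {G : Type*} [Group G] {D : Set G}

/-- The isolated vertices of the odd-order-product graph. -/
def W (D : Set G) : Set G := {w | Cfsg.IsIsolatedElem (Cfsg.OddAdj D) D w}

theorem W_subset : W D ⊆ D := fun _ hw => hw.1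

theorem not_odd_of_isolated (_hD : IsRootInvolutionSet D) {w b : G} (hw : w ∈ W D) (hb : b ∈ D)
    (ho : Odd (orderOf (w * b))) : w = b := by
  by_contra hne
  exact (hw.2 b).1 ⟨hw.1, hb, hne, ho⟩

theorem W_conj (hD : IsRootInvolutionSet D) {w : G} (hw : w ∈ W D) (g : G) : g * w * g⁻¹ ∈ W D := by
  refine ⟨hD.conj_mem w hw.1 g, ?_⟩
  have key : ∀ b, ¬ OddAdj D (g * w * g⁻¹) b := by
    intro b hb
    obtain ⟨_, hbD, hne, ho⟩ := hb
    have hb' : g⁻¹ * b * g ∈ D := by
      have := hD.conj_mem b hbD g⁻¹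
      rwa [inv_inv] at this
    have ho' : Odd (orderOf (w * (g⁻¹ * b * g))) := by
      have : g * (w * (g⁻¹ * b * g)) * g⁻¹ = (g * w * g⁻¹) * b := by group
      rw [← orderOf_conj' g, this]
      exact ho
    have := not_odd_of_isolated hD hw hb' ho'
    apply hne
    rw [this]; group
  intro b
  exact ⟨key b, fun h => key b (oddAdj_symm h)⟩

theorem closure_W_normal (hD : IsRootInvolutionSet D) : (Subgroup.closure (W D)).Normal := by
  constructor
  intro n hn g
  induction hn using Subgroup.closure_induction with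
  | mem x hx => exact Subgroup.subset_closure (W_conj hD hx g)
  | one => simp
  | mul x y _ _ hx hy =>
    have : g * (x * y) * g⁻¹ = (g * x * g⁻¹) * (g * y * g⁻¹) := by group
    rw [this]
    exact Subgroup.mul_mem _ hx hy
  | inv x _ hx =>
    have : g * x⁻¹ * g⁻¹ = (g * x * g⁻¹)⁻¹ := by group
    rw [this]
    exact Subgroup.inv_mem _ hx

theorem orderOf_isolated_mul (hD : IsRootInvolutionSet D) {w b : G} (hw : w ∈ W D) (hb : b ∈ D) :
    orderOf (w * b) = 1 ∨ orderOf (w * b) = 2 ∨ orderOf (w * b) = 4 := by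
  rcases hD.pair w hw.1 b hb with h | h | h
  · have h2 : (w * b) * (w * b) = 1 := by
      calc (w * b) * (w * b) = w * (b * w) * b := by group
        _ = w * (w * b) * b := by rw [h]
        _ = (w * w) * (b * b) := by group
        _ = 1 := by rw [sq_one hD hw.1, sq_one hD hb, one_mul]
    have hd : orderOf (w * b) ∣ 2 := orderOf_dvd_of_pow_eq_one (by rw [pow_two]; exact h2)
    have := (Nat.dvd_prime Nat.prime_two).mp hd
    rcases this with h | h
    · left; exact h
    · right; left; exact h
  · have := not_odd_of_isolated hD hw hb h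
    left
    rw [this, sq_one hD hb, orderOf_one]
  · right; right; exact h.1

theorem W_le_sylowCore [Finite G] (hD : IsRootInvolutionSet D) {w : G} (hw : w ∈ W D) :
    w ∈ Cfsg.Agent.Lib.Helper71_Fitting.sylowCore 2 G := by
  have : Fact (Nat.Prime 2) := ⟨Nat.prime_two⟩
  have hwD := hw.1
  have hww := sq_one hD hwD
  have hX : IsPGroup 2 (Subgroup.zpowers w) := by
    apply IsPGroup.of_card (n := 1)
    rw [Nat.card_zpowers, hD.orderOf_eq w hwD, pow_one]
  have h : ∀ g : G, IsPGroup 2 ↥(Subgroup.zpowers w ⊔ (Subgroup.zpowers w).map (MulAut.conj g).toMonoidHom) := by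
    intro g
    have hw' : g * w * g⁻¹ ∈ D := hD.conj_mem w hwD g
    have heq : Subgroup.zpowers w ⊔ (Subgroup.zpowers w).map (MulAut.conj g).toMonoidHom
        = Subgroup.closure ({w, g * w * g⁻¹} : Set G) := by
      rw [MonoidHom.map_zpowers, Subgroup.zpowers_eq_closure, Subgroup.zpowers_eq_closure,
        ← Subgroup.closure_union]
      rfl
    rw [heq]
    have hcard := Cfsg.Agent.Lib.Helper4_DihedralIso.card_closure hww (sq_one hD hw')
      (ne_one' hD hwD) (ne_one' hD hw')
    rcases orderOf_isolated_mul hD hw hw' with h1 | h1 | h1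
    · apply IsPGroup.of_card (n := 1); rw [hcard, h1]; norm_num
    · apply IsPGroup.of_card (n := 2); rw [hcard, h1]; norm_num
    · apply IsPGroup.of_card (n := 3); rw [hcard, h1]; norm_num
  obtain ⟨N, hN, hNp, hXN⟩ := Cfsg.Agent.S0199.result (Subgroup.zpowers w) hX h
  have := hN
  exact Cfsg.Agent.Lib.Helper71_Fitting.le_sylowCore_of_normal hNp (hXN (Subgroup.mem_zpowers w))

theorem closure_W_isPGroup [Finite G] (hD : IsRootInvolutionSet D) :
    IsPGroup 2 ↥(Subgroup.closure (W D)) := by
  have : Fact (Nat.Prime 2) := ⟨Nat.prime_two⟩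
  have hle : Subgroup.closure (W D) ≤ Cfsg.Agent.Lib.Helper71_Fitting.sylowCore 2 G :=
    (Subgroup.closure_le _).mpr (fun w hw => W_le_sylowCore hD hw)
  exact (Cfsg.Agent.Lib.Helper71_Fitting.sylowCore_isPGroup 2).to_le hle

theorem closure_W_inter [Finite G] (hD : IsRootInvolutionSet D) :
    (Subgroup.closure (W D) : Set G) ∩ D = W D := by
  ext d
  constructor
  · rintro ⟨hdN, hdD⟩
    have hN := closure_W_normal hD
    have hP := closure_W_isPGroup hD
    have key : ∀ b, ¬ OddAdj D d b := by
      intro b hb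
      obtain ⟨_, hbD, hne, ho⟩ := hb
      -- (d b)^2 ∈ N
      have hmem : (d * b) * (d * b) ∈ Subgroup.closure (W D) := by
        have : (d * b) * (d * b) = d * (b * d * b⁻¹) := by
          rw [inv_eq hD hbD]; group
        rw [this]
        exact Subgroup.mul_mem _ hdN (hN.conj_mem d hdN b)
      obtain ⟨k, hk⟩ := hP ⟨_, hmem⟩
      have hk' : ((d * b) * (d * b)) ^ (2 ^ k) = 1 := by
        have := congrArg Subtype.val hk
        simpa using this
      have hpow : (d * b) ^ (2 ^ (k + 1)) = 1 := by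
        rw [pow_succ, mul_comm, pow_mul, pow_two]; exact hk'
      have hdvd : orderOf (d * b) ∣ 2 ^ (k + 1) := orderOf_dvd_of_pow_eq_one hpow
      have hcop : Nat.Coprime (orderOf (d * b)) (2 ^ (k + 1)) :=
        Nat.Coprime.pow_right _ (Nat.coprime_two_right.mpr ho)
      have h1 : orderOf (d * b) = 1 := Nat.Coprime.eq_one_of_dvd hcop hdvd
      have h2 : d * b = 1 := orderOf_eq_one_iff.mp h1
      apply hne
      have h3 : d = b⁻¹ := eq_inv_of_mul_eq_one_left h2
      rw [h3, inv_eq hD hbD]
    exact ⟨hdD, fun b => ⟨key b, fun h => key b (oddAdj_symm h)⟩⟩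
  · intro hd
    exact ⟨Subgroup.subset_closure hd, hd.1⟩

theorem exists_neighbour {a : G} (h : ∃ a' ∈ Cfsg.elemComponentOf (Cfsg.OddAdj D) D a, a' ≠ a) :
    ∃ e, OddAdj D a e := by
  obtain ⟨a', ha', hne⟩ := h
  rcases Relation.ReflTransGen.cases_head ha'.2 with h | ⟨e, he, _⟩
  · exact absurd h.symm hne
  · exact ⟨e, he⟩

theorem partners_subset (hD : IsRootInvolutionSet D) {a : G}
    (h : ∃ a' ∈ Cfsg.elemComponentOf (Cfsg.OddAdj D) D a, a' ≠ a) :
    Cfsg.productPartners D a ⊆ Cfsg.elemComponentOf (Cfsg.OddAdj D) D a ∪ W D := by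
  obtain ⟨e, he⟩ := exists_neighbour h
  intro x hx
  by_cases hxW : x ∈ W D
  · exact Or.inr hxW
  · left
    have hxD : x ∈ D := hx.1.1
    have : ∃ y, OddAdj D x y := by
      by_contra hno
      push Not at hno
      exact hxW ⟨hxD, fun b => ⟨hno b, fun hb => hno b (oddAdj_symm hb)⟩⟩
    obtain ⟨y, hy⟩ := this
    exact ⟨hxD, reach_of_productPartner hD hx he hy⟩

theorem result {G : Type*} [Group G] [Finite G] {D : Set G} (hD : Cfsg.IsRootInvolutionSet D) :
    (∀ w ∈ {w | Cfsg.IsIsolatedElem (Cfsg.OddAdj D) D w}, ∀ g : G, g * w * g⁻¹ ∈ {w | Cfsg.IsIsolatedElem (Cfsg.OddAdj D) D w}) ∧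
    (Subgroup.closure {w | Cfsg.IsIsolatedElem (Cfsg.OddAdj D) D w}).Normal ∧
    IsPGroup 2 ↥(Subgroup.closure {w | Cfsg.IsIsolatedElem (Cfsg.OddAdj D) D w}) ∧
    (Subgroup.closure {w | Cfsg.IsIsolatedElem (Cfsg.OddAdj D) D w} : Set G) ∩ D = {w | Cfsg.IsIsolatedElem (Cfsg.OddAdj D) D w} ∧
    (∀ a ∈ D, ∀ b ∈ D, (∃ a' ∈ Cfsg.elemComponentOf (Cfsg.OddAdj D) D a, a' ≠ a) →
      (∃ b' ∈ Cfsg.elemComponentOf (Cfsg.OddAdj D) D b, b' ≠ b) →
      Cfsg.elemComponentOf (Cfsg.OddAdj D) D a ≠ Cfsg.elemComponentOf (Cfsg.OddAdj D) D b →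
        a * b * a⁻¹ * b⁻¹ ∈ Subgroup.closure {w | Cfsg.IsIsolatedElem (Cfsg.OddAdj D) D w}) ∧
    (∀ a ∈ D, (∃ a' ∈ Cfsg.elemComponentOf (Cfsg.OddAdj D) D a, a' ≠ a) →
      Cfsg.productPartners D a ⊆ Cfsg.elemComponentOf (Cfsg.OddAdj D) D a ∪ {w | Cfsg.IsIsolatedElem (Cfsg.OddAdj D) D w}) := by
  refine ⟨fun w hw g => W_conj hD hw g, closure_W_normal hD, closure_W_isPGroup hD,
    closure_W_inter hD, ?_, fun a _ h => partners_subset hD h⟩
  intro a ha b hb hca hcb hne
  -- a and b are not joined
  have hnot : ¬ Relation.ReflTransGen (OddAdj D) a b := by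
    intro hab
    apply hne
    ext c
    constructor
    · rintro ⟨hc, hac⟩
      exact ⟨hc, (reach_symm hab).trans hac⟩
    · rintro ⟨hc, hbc⟩
      exact ⟨hc, hab.trans hbc⟩
  have haa := sq_one hD ha
  have hbb := sq_one hD hb
  have hcomm_eq : a * b * a⁻¹ * b⁻¹ = (a * b) * (a * b) := by
    rw [inv_eq hD ha, inv_eq hD hb]; group
  rcases hD.pair a ha b hb with h | h | h
  · have : a * b * a⁻¹ * b⁻¹ = 1 := by
      rw [h]; group
    rw [this]; exact Subgroup.one_mem _
  · exfalso
    by_cases hab : a = b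
    · exact hnot (hab ▸ Relation.ReflTransGen.refl)
    · exact hnot (Relation.ReflTransGen.single ⟨ha, hb, hab, h⟩)
  · obtain ⟨h4, hz⟩ := h
    rw [pow_two] at hz
    rw [hcomm_eq]
    set z := (a * b) * (a * b) with hzdef
    have hp4 : (a * b) ^ 4 = 1 := by rw [← h4]; exact pow_orderOf_eq_one _
    have hzz : z * z = 1 := by
      rw [hzdef]
      calc (a * b) * (a * b) * ((a * b) * (a * b)) = (a * b) ^ 4 := by
            simp only [pow_succ, pow_zero, one_mul, mul_assoc]
        _ = 1 := hp4
    -- z = b a b a as well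
    have hz' : z = (b * a) * (b * a) := by
      have h1 : z * ((a * b) * (a * b)) = 1 := hzz
      have h2 : ((b * a) * (b * a)) * ((a * b) * (a * b)) = 1 := by
        calc ((b * a) * (b * a)) * ((a * b) * (a * b)) = b * a * b * (a * a) * b * a * b := by group
          _ = b * a * (b * b) * a * b := by rw [haa]; group
          _ = b * (a * a) * b := by rw [hbb]; group
          _ = 1 := by rw [haa, mul_one, hbb]
      exact mul_right_cancel (h1.trans h2.symm)
    have hza : z * a = b * a * b := by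
      rw [hz']
      calc (b * a) * (b * a) * a = b * a * b * (a * a) := by group
        _ = b * a * b := by rw [haa, mul_one]
    have haz : a * z = b * a * b := by
      rw [hzdef]
      calc a * ((a * b) * (a * b)) = (a * a) * b * a * b := by group
        _ = b * a * b := by rw [haa, one_mul]
    have hzb : z * b = a * b * a := by
      rw [hzdef]
      calc (a * b) * (a * b) * b = a * b * a * (b * b) := by group
        _ = a * b * a := by rw [hbb, mul_one]
    have hbz : b * z = a * b * a := by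
      rw [hz']
      calc b * ((b * a) * (b * a)) = (b * b) * a * b * a := by group
        _ = a * b * a := by rw [hbb, one_mul]
    have hza_ne : z ≠ a := by
      intro h
      have h1 : z * a = 1 := by rw [h]; exact haa
      rw [hza] at h1
      have : a = 1 := by
        have h2 : b * (b * a * b) * b = b * 1 * b := by rw [h1]
        have h3 : b * (b * a * b) * b = (b * b) * a * (b * b) := by group
        rw [h3, hbb, one_mul, mul_one, mul_one, hbb] at h2
        exact h2
      exact ne_one' hD ha this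
    have hzb_ne : z ≠ b := by
      intro h
      have h1 : z * b = 1 := by rw [h]; exact hbb
      rw [hzb] at h1
      have : b = 1 := by
        have h2 : a * (a * b * a) * a = a * 1 * a := by rw [h1]
        have h3 : a * (a * b * a) * a = (a * a) * b * (a * a) := by group
        rw [h3, haa, one_mul, mul_one, mul_one, haa] at h2
        exact h2
      exact ne_one' hD hb this
    have hzXa : z ∈ Cfsg.productPartners D a :=
      ⟨⟨hz, by rw [hza, haz], hza_ne⟩, by rw [hza]; exact conj_mem' hD ha hb⟩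
    have hzXb : z ∈ Cfsg.productPartners D b :=
      ⟨⟨hz, by rw [hzb, hbz], hzb_ne⟩, by rw [hzb]; exact conj_mem' hD hb ha⟩
    rcases partners_subset hD hca hzXa with h1 | h1
    · rcases partners_subset hD hcb hzXb with h2 | h2
      · exact absurd (h1.2.trans (reach_symm h2.2)) hnot
      · exact Subgroup.subset_closure h2
    · exact Subgroup.subset_closure h1

end Cfsg.Agent.S5045
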