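import Cfsg.Statements.S5047
import Cfsg.Agent.Lib.Helper83_RootE

set_option autoImplicit false
open Cfsg

namespace Cfsg.Agent.S5047

open Cfsg.Agent.Lib.Helper83_RootInv Cfsg.Agent.Lib.Helper83_RootInv2
open Cfsg.Agent.Lib.Helper83_RootBlocks Cfsg.Agent.Lib.Helper83_RootCycle
open Cfsg.Agent.Lib.Helper83_RootE

variable {G : Type*} [Group G] {D : Set G}

/-- From `[a, z] = b` and `[b, x] = z` to `o(a x) = 3`. -/
theorem order_three (hD : IsRootInvolutionSet D) {a b z x : G} (ha : a ∈ D) (hx : x ∈ D)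
    (hab : a * b = b * a) (habD : a * b ∈ D) (haz : orderOf (a * z) = 4) (hazb : (a * z) ^ 2 = b)
    (hz : z ∈ D) (hbx : orderOf (b * x) = 4) (hbxz : (b * x) ^ 2 = z) :
    orderOf (a * x) = 3 := by
  obtain ⟨hbD, -, hbz, -, haza, hb1, -⟩ := four_props hD ha hz haz
  rw [hazb] at hbD hbz haza hb1
  obtain ⟨-, -, hzx, hxbx, -, -, -⟩ := four_props hD hbD hx hbx
  rw [hbxz] at hzx hxbx
  have haa := sq_one hD ha
  have hxx := sq_one hD hx
  have hbb := sq_one hD hbD
  have hzz := sq_one hD hz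
  have hbz' : b ≠ z := by
    intro h
    have : a * z = z * a := by rw [← h]; exact hab
    exact not_commute_of_four hD ha hz haz this
  obtain ⟨hxa, hodd, k1, k2⟩ := odd_of_s3 hD ha hx hbb hzz hbz hb1 hbz' hab haza hzx.symm hxbx
  set r := a * x with hr
  have hrinv : r⁻¹ = x * a := by rw [hr, mul_inv_rev, inv_eq hD ha, inv_eq hD hx]
  -- r³ centralizes b
  have k3 : r * (z * b) * r⁻¹ = b := by
    calc r * (z * b) * r⁻¹ = (r * z * r⁻¹) * (r * b * r⁻¹) := by group
      _ = (z * b) * z := by rw [k1, k2]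
      _ = z * (b * z) := by group
      _ = z * (z * b) := by rw [hbz]
      _ = (z * z) * b := by group
      _ = b := by rw [hzz, one_mul]
  have hcube : (r * (r * r)) * b * (r * (r * r))⁻¹ = b := by
    calc (r * (r * r)) * b * (r * (r * r))⁻¹ = r * (r * (r * b * r⁻¹) * r⁻¹) * r⁻¹ := by group
      _ = b := by rw [k1, k2, k3]
  set c := r * (r * r) with hc
  -- a'' = c a c⁻¹
  have hara : a * r * a = r⁻¹ := by
    rw [hrinv, hr]
    calc a * (a * x) * a = (a * a) * x * a := by group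
      _ = x * a := by rw [haa, one_mul]
  have haca : a * c * a = c⁻¹ := by
    have h1 : a * c * a = (a * r * a) * ((a * r * a) * (a * r * a)) := by
      rw [hc]
      calc a * (r * (r * r)) * a = a * r * 1 * r * 1 * r * a := by group
        _ = a * r * (a * a) * r * (a * a) * r * a := by rw [haa]
        _ = (a * r * a) * ((a * r * a) * (a * r * a)) := by group
    rw [h1, hara, hc]; group
  set a'' := c * a * c⁻¹ with ha''
  have ha''D : a'' ∈ D := hD.conj_mem a ha c
  have hcomm : a'' * b = b * a'' := by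
    calc a'' * b = c * a * c⁻¹ * (c * b * c⁻¹) := by rw [hcube]
      _ = c * (a * b) * c⁻¹ := by group
      _ = c * (b * a) * c⁻¹ := by rw [hab]
      _ = (c * b * c⁻¹) * (c * a * c⁻¹) := by group
      _ = b * a'' := by rw [hcube]
  have hprod : a * a'' = c⁻¹ * c⁻¹ := by
    calc a * a'' = (a * c * a) * c⁻¹ := by rw [ha'']; group
      _ = c⁻¹ * c⁻¹ := by rw [haca]
  have hpow : c⁻¹ * c⁻¹ = (r ^ 6)⁻¹ := by
    rw [hc]
    have : r ^ 6 = r * (r * r) * (r * (r * r)) := by
      simp only [pow_succ, pow_zero, one_mul, mul_assoc]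
    rw [this]; group
  have hodd' : Odd (orderOf (a * a'')) := by
    rw [hprod, hpow, orderOf_inv]
    exact Odd.of_dvd_nat hodd (orderOf_pow_dvd 6)
  have heq : a = a'' := key_lemma hD ha hbD ha''D hab habD hcomm hodd'
  have h6 : r ^ 6 = 1 := by
    have h1 : a * a'' = 1 := by rw [← heq]; exact haa
    rw [hprod, hpow] at h1
    exact inv_eq_one.mp h1
  have hd6 : orderOf r ∣ 6 := orderOf_dvd_of_pow_eq_one h6
  have hne1 : orderOf r ≠ 1 := by
    intro h1
    have h2 : a * x = 1 := orderOf_eq_one_iff.mp h1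
    have h3 : a = x⁻¹ := eq_inv_of_mul_eq_one_left h2
    rw [inv_eq hD hx] at h3
    exact hxa h3.symm
  have key : ∀ n : ℕ, n ∣ 6 → Odd n → n ≠ 1 → n = 3 := by
    intro n hn ho h1
    have hle : n ≤ 6 := Nat.le_of_dvd (by norm_num) hn
    interval_cases n
    · exact absurd hn (by decide)
    · exact absurd rfl h1
    · exact absurd ho (by decide)
    · rfl
    · exact absurd hn (by decide)
    · exact absurd hn (by decide)
    · exact absurd ho (by decide)
  exact key _ hd6 hodd hne1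

/-- Let G be a finite group generated by a set D of root involutions whose odd-order-product graph is connected, a ∈ D, and b a member of D different from a, commuting with a, with ab ∈ D, but not having the same commuting members as a. Then some member x of D with bx of order 4 has ax of order 3. -/
theorem result {G : Type*} [Group G] [Finite G] {D : Set G} (hD : Cfsg.IsRootInvolutionSet D)
    (hc : Cfsg.IsConnectedSet (Cfsg.OddAdj D) D) {a b : G} (ha : a ∈ D) (hb : b ∈ Cfsg.productPartners D a)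
    (hbE : b ∉ Cfsg.sameCommutingClass D a) : ∃ x ∈ Cfsg.fourPartners D b, orderOf (a * x) = 3 := by
  obtain ⟨⟨hbD, hba, hbne⟩, hbaD⟩ := hb
  have hab : a * b = b * a := hba.symm
  have habD : a * b ∈ D := by rw [hab]; exact hbaD
  -- A_a ≠ A_b
  have hA : oddPartners D a ≠ oddPartners D b := by
    intro h
    exact hbE ⟨hbD, (sameClass_iff hD hc ha hbD).mpr h⟩
  obtain ⟨x, hxa, hxb⟩ := exists_mem_diff hD hc ha hbD hA
  obtain ⟨hx, hxne, hxo⟩ := hxa
  have hbx4 : orderOf (b * x) = 4 := by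
    rcases trichotomy hD hbD hx with h | h | h
    · exact absurd (key_lemma hD ha hbD hx hab habD h.symm hxo).symm hxne
    · exact absurd ⟨hx, h.1, h.2⟩ hxb
    · exact h
  have hcfg : Cfg D a x := ⟨hD, ha, hx, hxne, hxo⟩
  have hT : IsT D a x b := ⟨hbD, hab, hbne, habD, hbx4⟩
  obtain ⟨z, hzD, hz4, hzb, hzcomm⟩ := exists_commutator hcfg hT
  obtain ⟨-, -, hbz, -, haza, -, -⟩ := four_props hD ha hzD hz4
  rw [hzb] at hbz haza
  -- z ∈ X_b, with A_b ≠ A_z
  have hbzD : b * z ∈ D := by rw [hbz, ← haza]; exact conj_mem' hD hzD ha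
  have haz : a * z ≠ z * a := not_commute_of_four hD ha hzD hz4
  have hA' : oddPartners D b ≠ oddPartners D z := by
    intro h
    have := comm_subset hD hc hbD hzD h ⟨ha, hab⟩
    exact haz this.2
  obtain ⟨x₂, hx₂b, hx₂z⟩ := exists_mem_diff hD hc hbD hzD hA'
  obtain ⟨hx₂, hx₂ne, hx₂o⟩ := hx₂b
  have hzx4 : orderOf (z * x₂) = 4 := by
    rcases trichotomy hD hzD hx₂ with h | h | h
    · exact absurd (key_lemma hD hbD hzD hx₂ hbz hbzD h.symm hx₂o).symm hx₂ne
    · exact absurd ⟨hx₂, h.1, h.2⟩ hx₂z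
    · exact h
  have hcfg₂ : Cfg D b x₂ := ⟨hD, hbD, hx₂, hx₂ne, hx₂o⟩
  have hzb' : z ≠ b := by
    intro h
    apply haz
    rw [h]; exact hab
  have hT₂ : IsT D b x₂ z := ⟨hzD, hbz, hzb', hbzD, hzx4⟩
  obtain ⟨x', hx'D, hx'4, hx'z, -⟩ := exists_commutator hcfg₂ hT₂
  refine ⟨x', ⟨hx'D, hx'4⟩, ?_⟩
  exact order_three hD ha hx'D hab habD hz4 hzb hzD hx'4 hx'z

end Cfsg.Agent.S5047
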