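import Cfsg.Statements.S5048
import Cfsg.Agent.Lib.Helper83_RootInv
import Cfsg.Agent.Lib.Helper83_Nilpotent
import Cfsg.Agent.Lib.Helper22_Cores
import Cfsg.Agent.Lib.Helper1_Cores

set_option autoImplicit false
open Cfsg

namespace Cfsg.Agent.S5048

open Cfsg.Agent.Lib.Helper83_RootInv

variable {G : Type*} [Group G] {D : Set G}

/-- Involutions with product of odd order are conjugate. -/
theorem conj_of_oddAdj (hD : IsRootInvolutionSet D) {a b : G} (h : OddAdj D a b) :
    ∃ g : G, b = g * a * g⁻¹ := by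
  obtain ⟨ha, hb, _, k, hk⟩ := h
  have haa := sq_one hD ha
  have hbb := sq_one hD hb
  have hainv := inv_eq hD ha
  set r := a * b with hr
  have hr1 : r ^ (2 * k + 1) = 1 := by rw [← hk]; exact pow_orderOf_eq_one _
  have hconj : (MulAut.conj a) r = r⁻¹ := by
    rw [MulAut.conj_apply, hainv, hr]
    have : (a * b)⁻¹ = b * a := by
      rw [mul_inv_rev, inv_eq hD hb, hainv]
    rw [this]
    calc a * (a * b) * a = (a * a) * b * a := by group
      _ = b * a := by rw [haa, one_mul]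
  have hconjk : a * r ^ k * a = (r ^ k)⁻¹ := by
    have this : ((MulAut.conj a) r) ^ k = (r⁻¹) ^ k := by rw [hconj]
    rw [← map_pow, MulAut.conj_apply, hainv] at this
    rw [this, inv_pow]
  refine ⟨r ^ k, ?_⟩
  -- r^k a r^-k = r^(2k) a = r⁻¹ a = b
  have h1 : a * (r ^ k)⁻¹ = r ^ k * a := by
    have : a * (r ^ k)⁻¹ = a * (a * r ^ k * a) := by rw [hconjk]
    rw [this]
    calc a * (a * r ^ k * a) = (a * a) * r ^ k * a := by group
      _ = r ^ k * a := by rw [haa, one_mul]
  have h2 : r ^ k * a * (r ^ k)⁻¹ = r ^ (2 * k) * a := by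
    calc r ^ k * a * (r ^ k)⁻¹ = r ^ k * (a * (r ^ k)⁻¹) := by group
      _ = r ^ k * (r ^ k * a) := by rw [h1]
      _ = r ^ (2 * k) * a := by rw [two_mul, pow_add]; group
  have h3 : r ^ (2 * k) = r⁻¹ := by
    have : r ^ (2 * k) * r = 1 := by rw [← pow_succ]; exact hr1
    exact eq_inv_of_mul_eq_one_left this
  rw [h2, h3, hr, mul_inv_rev, inv_eq hD hb, hainv]
  calc b = b * (a * a) := by rw [haa, mul_one]
    _ = b * a * a := by group

theorem conj_of_reach (hD : IsRootInvolutionSet D) {a b : G}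
    (h : Relation.ReflTransGen (OddAdj D) a b) : ∃ g : G, b = g * a * g⁻¹ := by
  induction h with
  | refl => exact ⟨1, by group⟩
  | tail _ hbc ih =>
    obtain ⟨g, hg⟩ := ih
    obtain ⟨g', hg'⟩ := conj_of_oddAdj hD hbc
    refine ⟨g' * g, ?_⟩
    rw [hg', hg]; group

theorem exists_partner (hD : IsRootInvolutionSet D) (hc : IsConnectedSet (OddAdj D) D)
    (hDD : (D ∩ commutingProducts D).Nonempty) {a : G} (ha : a ∈ D) :
    ∃ b, b ∈ productPartners D a := by
  obtain ⟨c0, hc0D, a0, ha0, b0, hb0, hcomm, hne1, rfl⟩ := hDD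
  obtain ⟨g, hg⟩ := conj_of_reach hD (hc a0 ha0 a ha)
  refine ⟨g * b0 * g⁻¹, ⟨hD.conj_mem b0 hb0 g, ?_, ?_⟩, ?_⟩
  · rw [hg]
    calc g * b0 * g⁻¹ * (g * a0 * g⁻¹) = g * (b0 * a0) * g⁻¹ := by group
      _ = g * (a0 * b0) * g⁻¹ := by rw [hcomm]
      _ = g * a0 * g⁻¹ * (g * b0 * g⁻¹) := by group
  · intro h
    rw [hg] at h
    have : b0 = a0 := by
      have h1 : g⁻¹ * (g * b0 * g⁻¹) * g = g⁻¹ * (g * a0 * g⁻¹) * g := by rw [h]
      have e1 : g⁻¹ * (g * b0 * g⁻¹) * g = b0 := by group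
      have e2 : g⁻¹ * (g * a0 * g⁻¹) * g = a0 := by group
      rw [e1, e2] at h1
      exact h1
    apply hne1
    rw [this, sq_one hD ha0]
  · rw [hg]
    have : g * b0 * g⁻¹ * (g * a0 * g⁻¹) = g * (a0 * b0) * g⁻¹ := by
      calc g * b0 * g⁻¹ * (g * a0 * g⁻¹) = g * (b0 * a0) * g⁻¹ := by group
        _ = g * (a0 * b0) * g⁻¹ := by rw [hcomm]
    rw [this]
    exact hD.conj_mem _ hc0D g

theorem disjoint_of_ne_top (hD : IsRootInvolutionSet D) (hc : IsConnectedSet (OddAdj D) D)
    {N : Subgroup G} (hN : N.Normal) (hne : N ≠ ⊤) : ∀ d ∈ D, d ∉ N := by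
  intro d hd hdN
  apply hne
  rw [eq_top_iff, ← hD.generates, Subgroup.closure_le]
  intro b hb
  obtain ⟨g, hg⟩ := conj_of_reach hD (hc d hd b hb)
  rw [hg]
  exact hN.conj_mem d hdN g

/-- An element of odd order whose square lies in `N` lies in `N`. -/
theorem mem_of_sq_mem_of_odd {N : Subgroup G} {g : G} (h2 : g * g ∈ N) (ho : Odd (orderOf g)) :
    g ∈ N := by
  obtain ⟨k, hk⟩ := ho
  have h1 : g ^ (2 * k + 1) = 1 := by rw [← hk]; exact pow_orderOf_eq_one _
  have h3 : g = (g * g) ^ (k + 1) := by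
    rw [← pow_two, ← pow_mul]
    have : 2 * (k + 1) = (2 * k + 1) + 1 := by ring
    rw [this, pow_succ, h1, one_mul]
  rw [h3]
  exact Subgroup.pow_mem _ h2 _

/-- Key step: if the normal subgroup `N` avoids `D`, then each `a ∈ D` commutes with its `N`-conjugates. -/
theorem commute_conj (hD : IsRootInvolutionSet D) {N : Subgroup G} (hN : N.Normal)
    (hdis : ∀ d ∈ D, d ∉ N) {a : G} (ha : a ∈ D) (hX : ∃ b, b ∈ productPartners D a)
    {n : G} (hn : n ∈ N) : a * (n * a * n⁻¹) = (n * a * n⁻¹) * a := by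
  have hainv := inv_eq hD ha
  have haa := sq_one hD ha
  obtain ⟨f, hf⟩ : ∃ f, f = n * a * n⁻¹ := ⟨_, rfl⟩
  rw [← hf]
  have hfD : f ∈ D := by rw [hf]; exact hD.conj_mem a ha n
  have hff := sq_one hD hfD
  have hm : a * f ∈ N := by
    have : a * f = (a * n * a⁻¹) * n⁻¹ := by rw [hf, hainv]; group
    rw [this]
    exact N.mul_mem (hN.conj_mem n hn a) (N.inv_mem hn)
  rcases hD.pair a ha f hfD with h | h | h
  · exact h
  · by_cases haf : a = f
    · rw [← haf]
    · exfalso
      obtain ⟨b, ⟨hbD, hba, hbne⟩, hbaD⟩ := hX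
      have hbb := sq_one hD hbD
      have hab : a * b = b * a := hba.symm
      have habD : a * b ∈ D := by rw [hab]; exact hbaD
      -- (b f)^2 ∈ N
      have hsq : (b * f) * (b * f) ∈ N := by
        have hfa : (QuotientGroup.mk' N) f = (QuotientGroup.mk' N) a := by
          apply QuotientGroup.eq.mpr
          have : f⁻¹ * a = (a * f)⁻¹ := by rw [mul_inv_rev, hainv]
          rw [this]
          exact N.inv_mem hm
        rw [← QuotientGroup.ker_mk' N, MonoidHom.mem_ker]
        rw [map_mul, map_mul, hfa, ← map_mul, ← map_mul, sq_one hD hbaD, map_one]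
      rcases hD.pair b hbD f hfD with h' | h' | h'
      · exact haf (key_lemma hD ha hbD hfD hab habD h'.symm h)
      · have hbf : b * f ∈ N := mem_of_sq_mem_of_odd hsq h'
        have hbaN : b * a ∈ N := by
          have : b * a = (b * f) * (a * f)⁻¹ := by
            rw [mul_inv_rev, hainv, inv_eq hD hfD]
            calc b * a = b * (f * f) * a := by rw [hff, mul_one]
              _ = b * f * (f * a) := by group
          rw [this]
          exact N.mul_mem hbf (N.inv_mem hm)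
        exact hdis _ hbaD hbaN
      · have := h'.2
        rw [pow_two] at this
        exact hdis _ this hsq
  · exfalso
    have := h.2
    rw [pow_two] at this
    exact hdis _ this (N.mul_mem hm hm)

/-- The subgroup generated by the commutators `a * (n a n⁻¹)`, `n ∈ N`. -/
def K (N : Subgroup G) (a : G) : Subgroup G :=
  Subgroup.closure {t | ∃ n ∈ N, t = a * (n * a * n⁻¹)}

theorem comm_mem_pCore [Finite G] (hD : IsRootInvolutionSet D) {N : Subgroup G} (hN : N.Normal)
    (hdis : ∀ d ∈ D, d ∉ N) {a : G} (ha : a ∈ D) (hX : ∃ b, b ∈ productPartners D a)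
    {n : G} (hn : n ∈ N) : a * n * a⁻¹ * n⁻¹ ∈ pCore 2 G := by
  have hainv := inv_eq hD ha
  have haa := sq_one hD ha
  have hcc : ∀ m ∈ N, a * (m * a * m⁻¹) = (m * a * m⁻¹) * a :=
    fun m hm => commute_conj hD hN hdis ha hX hm
  -- conjugates of a under N commute pairwise
  have hcc2 : ∀ m ∈ N, ∀ m' ∈ N, (m * a * m⁻¹) * (m' * a * m'⁻¹) = (m' * a * m'⁻¹) * (m * a * m⁻¹) := by
    intro m hm m' hm'
    have h := hcc (m⁻¹ * m') (N.mul_mem (N.inv_mem hm) hm')
    have e1 : (m * a * m⁻¹) * (m' * a * m'⁻¹) = m * (a * ((m⁻¹ * m') * a * (m⁻¹ * m')⁻¹)) * m⁻¹ := by group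
    have e2 : (m' * a * m'⁻¹) * (m * a * m⁻¹) = m * (((m⁻¹ * m') * a * (m⁻¹ * m')⁻¹) * a) * m⁻¹ := by group
    rw [e1, e2, h]
  have hfsq : ∀ m : G, (m * a * m⁻¹) * (m * a * m⁻¹) = 1 := by
    intro m
    calc (m * a * m⁻¹) * (m * a * m⁻¹) = m * (a * a) * m⁻¹ := by group
      _ = 1 := by rw [haa]; group
  -- K ≤ N
  have hKN : K N a ≤ N := by
    rw [K, Subgroup.closure_le]
    rintro t ⟨m, hm, rfl⟩
    have : a * (m * a * m⁻¹) = (a * m * a⁻¹) * m⁻¹ := by rw [hainv]; group
    rw [this]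
    exact N.mul_mem (hN.conj_mem m hm a) (N.inv_mem hm)
  -- generators are involutions, pairwise commuting
  have hgen_comm : ∀ s ∈ {t | ∃ n ∈ N, t = a * (n * a * n⁻¹)},
      ∀ t ∈ {t | ∃ n ∈ N, t = a * (n * a * n⁻¹)}, s * t = t * s := by
    rintro s ⟨m, hm, rfl⟩ t ⟨m', hm', rfl⟩
    have c1 := hcc m hm
    have c2 := hcc m' hm'
    have c3 := hcc2 m hm m' hm'
    calc a * (m * a * m⁻¹) * (a * (m' * a * m'⁻¹))
        = a * ((m * a * m⁻¹) * a) * (m' * a * m'⁻¹) := by group
      _ = a * (a * (m * a * m⁻¹)) * (m' * a * m'⁻¹) := by rw [c1]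
      _ = a * a * ((m * a * m⁻¹) * (m' * a * m'⁻¹)) := by group
      _ = a * a * ((m' * a * m'⁻¹) * (m * a * m⁻¹)) := by rw [c3]
      _ = a * (a * (m' * a * m'⁻¹)) * (m * a * m⁻¹) := by group
      _ = a * ((m' * a * m'⁻¹) * a) * (m * a * m⁻¹) := by rw [c2]
      _ = a * (m' * a * m'⁻¹) * (a * (m * a * m⁻¹)) := by group
  have hKcomm : ∀ x ∈ K N a, ∀ y ∈ K N a, x * y = y * x :=
    Cfsg.Agent.Lib.Helper83_Nilpotent.commute_of_closure hgen_comm
  have hKsq : ∀ x ∈ K N a, x * x = 1 := by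
    intro x hx
    induction hx using Subgroup.closure_induction with
    | mem t ht =>
      obtain ⟨m, hm, rfl⟩ := ht
      calc a * (m * a * m⁻¹) * (a * (m * a * m⁻¹))
          = a * ((m * a * m⁻¹) * a) * (m * a * m⁻¹) := by group
        _ = a * (a * (m * a * m⁻¹)) * (m * a * m⁻¹) := by rw [hcc m hm]
        _ = (a * a) * ((m * a * m⁻¹) * (m * a * m⁻¹)) := by group
        _ = 1 := by rw [haa, hfsq, one_mul]
    | one => simp
    | mul x y hx hy ihx ihy =>
      calc x * y * (x * y) = x * (y * x) * y := by group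
        _ = x * (x * y) * y := by rw [hKcomm y hy x hx]
        _ = (x * x) * (y * y) := by group
        _ = 1 := by rw [ihx, ihy, one_mul]
    | inv x hx ihx =>
      have : x⁻¹ = x := inv_eq_of_mul_eq_one_left ihx
      rw [this]; exact ihx
  have hKp : IsPGroup 2 (K N a) := by
    intro ⟨x, hx⟩
    refine ⟨1, ?_⟩
    apply Subtype.ext
    simp only [pow_one, Subgroup.coe_one, pow_two]
    exact hKsq x hx
  -- N normalizes K
  have hconjK : ∀ m ∈ N, ∀ x ∈ K N a, m * x * m⁻¹ ∈ K N a := by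
    intro m hm x hx
    induction hx using Subgroup.closure_induction with
    | mem t ht =>
      obtain ⟨n', hn', rfl⟩ := ht
      have hmn : m * n' ∈ N := N.mul_mem hm hn'
      have e : m * (a * (n' * a * n'⁻¹)) * m⁻¹
          = (a * (m * a * m⁻¹))⁻¹ * (a * ((m * n') * a * (m * n')⁻¹)) := by
        have : (a * (m * a * m⁻¹))⁻¹ = (m * a * m⁻¹) * a := by
          rw [mul_inv_rev, hainv]
          have : (m * a * m⁻¹)⁻¹ = m * a * m⁻¹ := inv_eq_of_mul_eq_one_left (hfsq m)
          rw [this]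
        rw [this]
        calc m * (a * (n' * a * n'⁻¹)) * m⁻¹
            = (m * a * m⁻¹) * ((m * n') * a * (m * n')⁻¹) := by group
          _ = (m * a * m⁻¹) * (a * a) * ((m * n') * a * (m * n')⁻¹) := by rw [haa, mul_one]
          _ = (m * a * m⁻¹) * a * (a * ((m * n') * a * (m * n')⁻¹)) := by group
      rw [e]
      exact (K N a).mul_mem ((K N a).inv_mem (Subgroup.subset_closure ⟨m, hm, rfl⟩))
        (Subgroup.subset_closure ⟨m * n', hmn, rfl⟩)
    | one => simp
    | mul x y _ _ ihx ihy =>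
      have : m * (x * y) * m⁻¹ = (m * x * m⁻¹) * (m * y * m⁻¹) := by group
      rw [this]; exact (K N a).mul_mem ihx ihy
    | inv x _ ihx =>
      have : m * x⁻¹ * m⁻¹ = (m * x * m⁻¹)⁻¹ := by group
      rw [this]; exact (K N a).inv_mem ihx
  have hNK : N ≤ Subgroup.normalizer (K N a : Set G) := by
    intro m hm
    rw [Subgroup.mem_normalizer_iff]
    intro x
    constructor
    · exact hconjK m hm x
    · intro h
      have := hconjK m⁻¹ (N.inv_mem hm) _ h
      have e : m⁻¹ * (m * x * m⁻¹) * m⁻¹⁻¹ = x := by group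
      rwa [e] at this
  have hle := Cfsg.Agent.Lib.Helper22_Cores.le_pCore_of_le_isSubnormal 2 hN.isSubnormal hKN hNK hKp
  apply hle
  have : a * n * a⁻¹ * n⁻¹ = a * (n * a * n⁻¹) := by rw [hainv]; group
  rw [this]
  exact Subgroup.subset_closure ⟨n, hn, rfl⟩

theorem le_twoZCore [Finite G] (hD : IsRootInvolutionSet D) (hc : IsConnectedSet (OddAdj D) D)
    (hDD : (D ∩ commutingProducts D).Nonempty) {N : Subgroup G} (hN : N.Normal) (hne : N ≠ ⊤) :
    N ≤ twoZCore G := by
  have hdis := disjoint_of_ne_top hD hc hN hne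
  intro n hn
  rw [twoZCore, Subgroup.mem_comap, Subgroup.mem_center_iff]
  -- the set of g commuting with n modulo O_2(G) is a subgroup containing D
  let C : Subgroup G := (Subgroup.centralizer {(QuotientGroup.mk' (pCore 2 G)) n}).comap
    (QuotientGroup.mk' (pCore 2 G))
  have hDC : D ⊆ C := by
    intro a ha
    show (QuotientGroup.mk' (pCore 2 G)) a ∈ Subgroup.centralizer {(QuotientGroup.mk' (pCore 2 G)) n}
    rw [Subgroup.mem_centralizer_iff]
    intro y hy
    rw [Set.mem_singleton_iff] at hy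
    rw [hy, ← map_mul, ← map_mul]
    apply QuotientGroup.eq.mpr
    have h1 := comm_mem_pCore hD hN hdis ha (exists_partner hD hc hDD ha) hn
    have hQ : (pCore 2 G).Normal := inferInstance
    have h2 := hQ.conj_mem _ h1 (n * a)⁻¹
    have e : (n * a)⁻¹ * (a * n) = (n * a)⁻¹ * (a * n * a⁻¹ * n⁻¹) * (n * a)⁻¹⁻¹ := by group
    rw [e]
    exact h2
  have htop : C = ⊤ := by
    rw [eq_top_iff, ← hD.generates, Subgroup.closure_le]
    exact hDC
  intro y
  obtain ⟨g, rfl⟩ := QuotientGroup.mk'_surjective (pCore 2 G) y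
  have hg : g ∈ C := by rw [htop]; exact Subgroup.mem_top g
  have := (Subgroup.mem_centralizer_iff.mp hg) _ (Set.mem_singleton _)
  exact this.symm

/-- If all members of `D` are congruent modulo `O_{2,Z}(G)`, we get a contradiction. -/
theorem not_all_congruent [Finite G] (hD : IsRootInvolutionSet D) (hc : IsConnectedSet (OddAdj D) D)
    (hDD : (D ∩ commutingProducts D).Nonempty)
    (h : ∀ a ∈ D, ∀ b ∈ D, a⁻¹ * b ∈ twoZCore G) : False := by
  have hp2 : Fact (Nat.Prime 2) := ⟨Nat.prime_two⟩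
  obtain ⟨c0, _, a0, ha0, b0, hb0, _, hne1, rfl⟩ := hDD
  have hne : a0 ≠ b0 := by
    intro h0
    apply hne1
    rw [← h0, sq_one hD ha0]
  -- an edge from a0
  obtain ⟨e, hedge⟩ : ∃ e, OddAdj D a0 e := by
    rcases Relation.ReflTransGen.cases_head (hc a0 ha0 b0 hb0) with h0 | ⟨e, he, _⟩
    · exact absurd h0 hne
    · exact ⟨e, he⟩
  obtain ⟨_, heD, hae, ho⟩ := hedge
  have hainv := inv_eq hD ha0
  have haa := sq_one hD ha0
  have hee := sq_one hD heD
  have hrZ : a0 * e ∈ twoZCore G := by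
    have := h a0 ha0 e heD
    rwa [hainv] at this
  rw [twoZCore, Subgroup.mem_comap, Subgroup.mem_center_iff] at hrZ
  have h1 := hrZ ((QuotientGroup.mk' (pCore 2 G)) a0)
  rw [← map_mul, ← map_mul] at h1
  have h2 := QuotientGroup.eq.mp h1
  -- the element is r⁻²
  have e1 : (a0 * (a0 * e))⁻¹ * (a0 * e * a0) = ((a0 * e) * (a0 * e))⁻¹ := by
    have : a0 * (a0 * e) = e := by
      calc a0 * (a0 * e) = (a0 * a0) * e := by group
        _ = e := by rw [haa, one_mul]
    rw [this, inv_eq hD heD, mul_inv_rev, mul_inv_rev, inv_eq hD heD, hainv]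
    group
  rw [e1] at h2
  have h3 : (a0 * e) * (a0 * e) ∈ pCore 2 G := by
    have := (pCore 2 G).inv_mem h2
    rwa [inv_inv] at this
  obtain ⟨k, hk⟩ := (Cfsg.Agent.Lib.Helper1_Cores.pCore_isPGroup (G := G) 2) ⟨_, h3⟩
  have hk' : ((a0 * e) * (a0 * e)) ^ (2 ^ k) = 1 := by
    have := congrArg Subtype.val hk
    simpa using this
  have hpow : (a0 * e) ^ (2 ^ (k + 1)) = 1 := by
    rw [pow_succ, mul_comm, pow_mul, pow_two]; exact hk'
  have hdvd : orderOf (a0 * e) ∣ 2 ^ (k + 1) := orderOf_dvd_of_pow_eq_one hpow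
  have hcop : Nat.Coprime (orderOf (a0 * e)) (2 ^ (k + 1)) :=
    Nat.Coprime.pow_right _ (Nat.coprime_two_right.mpr ho)
  have h4 : orderOf (a0 * e) = 1 := Nat.Coprime.eq_one_of_dvd hcop hdvd
  have h5 : a0 * e = 1 := orderOf_eq_one_iff.mp h4
  apply hae
  have h6 : a0 = e⁻¹ := eq_inv_of_mul_eq_one_left h5
  rw [h6, inv_eq hD heD]

theorem twoZCore_ne_top [Finite G] (hD : IsRootInvolutionSet D) (hc : IsConnectedSet (OddAdj D) D)
    (hDD : (D ∩ commutingProducts D).Nonempty) : twoZCore G ≠ ⊤ := by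
  intro h
  apply not_all_congruent hD hc hDD
  intro a _ b _
  rw [h]; exact Subgroup.mem_top _

theorem isSimpleGroup_quotient [Finite G] (hD : IsRootInvolutionSet D)
    (hc : IsConnectedSet (OddAdj D) D) (hDD : (D ∩ commutingProducts D).Nonempty) :
    IsSimpleGroup (G ⧸ twoZCore G) := by
  have hne := twoZCore_ne_top hD hc hDD
  have hnt : Nontrivial (G ⧸ twoZCore G) := by
    obtain ⟨g, hg⟩ : ∃ g : G, g ∉ twoZCore G := by
      by_contra hall
      push Not at hall
      exact hne (eq_top_iff.mpr fun g _ => hall g)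
    refine ⟨(QuotientGroup.mk' (twoZCore G)) g, 1, ?_⟩
    intro h
    apply hg
    rw [← QuotientGroup.ker_mk' (twoZCore G), MonoidHom.mem_ker]
    exact h
  refine { toNontrivial := hnt, eq_bot_or_eq_top_of_normal := ?_ }
  intro H hH
  have hcomap : (H.comap (QuotientGroup.mk' (twoZCore G))).Normal := hH.comap _
  by_cases htop : H.comap (QuotientGroup.mk' (twoZCore G)) = ⊤
  · right
    rw [eq_top_iff]
    intro y _
    obtain ⟨g, rfl⟩ := QuotientGroup.mk'_surjective (twoZCore G) y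
    have : g ∈ H.comap (QuotientGroup.mk' (twoZCore G)) := by rw [htop]; exact Subgroup.mem_top g
    exact this
  · left
    have hle := le_twoZCore hD hc hDD hcomap htop
    rw [eq_bot_iff]
    intro y hy
    obtain ⟨g, rfl⟩ := QuotientGroup.mk'_surjective (twoZCore G) y
    have hg : g ∈ twoZCore G := hle hy
    rw [Subgroup.mem_bot]
    rw [← QuotientGroup.ker_mk' (twoZCore G), MonoidHom.mem_ker] at hg
    exact hg

theorem isSolvable_twoZCore [Finite G] : Group.IsSolvable ↥(twoZCore G) := by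
  have hp2 : Fact (Nat.Prime 2) := ⟨Nat.prime_two⟩
  have hQ : IsPGroup 2 ↥((pCore 2 G).subgroupOf (twoZCore G)) :=
    (Cfsg.Agent.Lib.Helper1_Cores.pCore_isPGroup (G := G) 2).comap_subtype
  have hnil : Group.IsNilpotent ↥((pCore 2 G).subgroupOf (twoZCore G)) := hQ.isNilpotent
  have hsol : Group.IsSolvable ↥((pCore 2 G).subgroupOf (twoZCore G)) := inferInstance
  let g : ↥(twoZCore G) →* ↥(Subgroup.center (G ⧸ pCore 2 G)) :=
    ((QuotientGroup.mk' (pCore 2 G)).comp (twoZCore G).subtype).codRestrict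
      (Subgroup.center (G ⧸ pCore 2 G)) (fun z => z.2)
  have hcen : Group.IsSolvable ↥(Subgroup.center (G ⧸ pCore 2 G)) :=
    Group.isSolvable_of_comm (fun a b => Subtype.ext (by
      have := Subgroup.mem_center_iff.mp b.2 a.1
      simpa using this))
  refine Group.isSolvable_of_ker_le_range ((pCore 2 G).subgroupOf (twoZCore G)).subtype g ?_
  intro z hz
  rw [MonoidHom.mem_ker] at hz
  have h1 : (QuotientGroup.mk' (pCore 2 G)) (z : G) = 1 := by
    have := congrArg Subtype.val hz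
    exact this
  have h2 : (z : G) ∈ pCore 2 G := by
    rw [← QuotientGroup.ker_mk' (pCore 2 G), MonoidHom.mem_ker]; exact h1
  rw [Subgroup.range_subtype]
  exact Subgroup.mem_subgroupOf.mpr h2

theorem result {G : Type*} [Group G] [Finite G] {D : Set G} (hD : Cfsg.IsRootInvolutionSet D)
    (hc : Cfsg.IsConnectedSet (Cfsg.OddAdj D) D) (hDD : (D ∩ Cfsg.commutingProducts D).Nonempty) :
    Cfsg.solvableRadical G = Cfsg.twoZCore G ∧ IsSimpleGroup (G ⧸ Cfsg.twoZCore G) := by
  have hsimple := isSimpleGroup_quotient hD hc hDD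
  refine ⟨?_, hsimple⟩
  apply le_antisymm
  · rw [solvableRadical]
    apply sSup_le
    rintro N ⟨hN, hsol⟩
    by_cases htop : N = ⊤
    · exfalso
      subst htop
      have hGsol : Group.IsSolvable G :=
        Group.isSolvable_of_surjective (f := (⊤ : Subgroup G).subtype)
          (fun g => ⟨⟨g, Subgroup.mem_top g⟩, rfl⟩)
      have hQsol : Group.IsSolvable (G ⧸ twoZCore G) := inferInstance
      have hcomm := IsSimpleGroup.comm_iff_isSolvable.mpr hQsol
      apply not_all_congruent hD hc hDD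
      intro a ha b hb
      obtain ⟨g, hg⟩ := conj_of_reach hD (hc a ha b hb)
      have h1 : (QuotientGroup.mk' (twoZCore G)) b = (QuotientGroup.mk' (twoZCore G)) a := by
        rw [hg, map_mul, map_mul, hcomm ((QuotientGroup.mk' (twoZCore G)) g), mul_assoc, ← map_mul,
          mul_inv_cancel, map_one, mul_one]
      exact QuotientGroup.eq.mp h1.symm
    · exact le_twoZCore hD hc hDD hN htop
  · rw [solvableRadical]
    exact le_sSup ⟨inferInstance, isSolvable_twoZCore⟩

end Cfsg.Agent.S5048
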