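import Cfsg.Statements.S5049
import Mathlib

set_option autoImplicit false
open Cfsg

namespace Cfsg.Agent.S5049

theorem pcore_normal (G : Type*) [Group G] : (Cfsg.pCore 2 G).Normal :=
  Subgroup.sSup_normal _ (fun _ h => h.1)

theorem pcore_pgroup (G : Type*) [Group G] : IsPGroup 2 (Cfsg.pCore 2 G) :=
  Sylow.sSup_of_normal _ (fun _ h => h.2) (fun _ h => h.1)

theorem two_elt {G : Type*} [Group G] (y : G) (hy : y ^ 2 ∈ Cfsg.pCore 2 G) :
    ∃ k : ℕ, y ^ (2 ^ k) = 1 := by
  obtain ⟨k, hk⟩ := pcore_pgroup G ⟨y ^ 2, hy⟩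
  refine ⟨k + 1, ?_⟩
  have h := congrArg Subtype.val hk
  simp only [Subgroup.coe_pow, Subgroup.coe_one] at h
  rw [pow_succ', pow_mul]; exact h

theorem inv_sq {G : Type*} [Group G] {D : Set G} (hD : Cfsg.IsOddTranspositionSet D) {d : G}
    (hd : d ∈ D) : d * d = 1 := by
  have h := pow_orderOf_eq_one d
  rw [hD.1.orderOf_eq d hd, pow_two] at h
  exact h

theorem comm_of_two_elt {G : Type*} [Group G] {D : Set G} (hD : Cfsg.IsOddTranspositionSet D)
    {d d' : G} (hd : d ∈ D) (hd' : d' ∈ D) (k : ℕ) (h : (d * d') ^ (2 ^ k) = 1) :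
    d * d' = d' * d := by
  rcases hD.1.pair d hd d' hd' with h1 | h1 | h1
  · exact h1
  · have hdvd := orderOf_dvd_of_pow_eq_one h
    have hc : Nat.Coprime (orderOf (d * d')) (2 ^ k) :=
      Nat.Coprime.pow_right k (Nat.coprime_two_right.mpr h1)
    have h1 : orderOf (d * d') = 1 := Nat.Coprime.eq_one_of_dvd hc hdvd
    have h1' : d * d' = 1 := orderOf_eq_one_iff.1 h1
    have h2 : d' * d = 1 := mul_eq_one_comm.1 h1'
    rw [h1', h2]
  · exact absurd h1.1 (hD.2 d hd d' hd')

theorem comm_conj {G : Type*} [Group G] {D : Set G} (hD : Cfsg.IsOddTranspositionSet D)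
    {e d x : G} (he : e ∈ D) (hd : d ∈ D) (hed : e * d = d * e) (hx : x ∈ Cfsg.pCore 2 G) :
    e * (x * d * x⁻¹) = (x * d * x⁻¹) * e := by
  have hN := pcore_normal G
  have hd' : x * d * x⁻¹ ∈ D := hD.1.conj_mem d hd x
  have hsq : (e * (x * d * x⁻¹)) ^ 2 ∈ Cfsg.pCore 2 G := by
    rw [← QuotientGroup.eq_one_iff]
    have hx1 : ((x : G) : G ⧸ Cfsg.pCore 2 G) = 1 := (QuotientGroup.eq_one_iff x).2 hx
    simp only [QuotientGroup.mk_pow, QuotientGroup.mk_mul, QuotientGroup.mk_inv, hx1, one_mul,
      mul_one, inv_one]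
    rw [← QuotientGroup.mk_mul, ← QuotientGroup.mk_pow]
    have h2 : (e * d) ^ 2 = 1 := by
      rw [pow_two]
      calc e * d * (e * d) = e * (d * e) * d := by group
        _ = e * (e * d) * d := by rw [hed]
        _ = (e * e) * (d * d) := by group
        _ = 1 := by rw [inv_sq hD he, inv_sq hD hd, one_mul]
    rw [h2]; rfl
  obtain ⟨k, hk⟩ := two_elt _ hsq
  exact comm_of_two_elt hD he hd' k hk

theorem zpow_cases {G : Type*} [Group G] {a : G} (ha : a * a = 1) (k : ℤ) :
    a ^ k = 1 ∨ a ^ k = a := by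
  rcases Int.even_or_odd' k with ⟨m, rfl | rfl⟩
  · left
    rw [zpow_mul, zpow_two, ha, one_zpow]
  · right
    rw [zpow_add, zpow_mul, zpow_two, ha, one_zpow, one_mul, zpow_one]

/-- Let G be a finite group generated by a set D of odd transpositions (root involutions with no product of order 4), Q = O₂(G), and for a ∈ D let Q_a be the commutator subgroup of Q with a. Then every member of D commuting with a centralizes Q_a; and for b ∈ D with ab of odd order greater than 1, the centralizer of ab in Q is the intersection of the centralizers of a and b in Q. -/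
theorem result {G : Type*} [Group G] [Finite G] {D : Set G} (hD : Cfsg.IsOddTranspositionSet D) {a : G} (ha : a ∈ D) :
    (∀ e ∈ Cfsg.commutingMembers D a, ∀ q ∈ ⁅Cfsg.pCore 2 G, Subgroup.zpowers a⁆, e * q = q * e) ∧
    (∀ b ∈ Cfsg.oddPartners D a,
      Cfsg.pCore 2 G ⊓ Subgroup.centralizer {a * b} = Cfsg.pCore 2 G ⊓ Subgroup.centralizer {a} ⊓ Subgroup.centralizer {b}) := by
  have haa : a * a = 1 := inv_sq hD ha
  have hainv : a⁻¹ = a := inv_eq_of_mul_eq_one_right haa
  refine ⟨?_, ?_⟩
  · rintro e ⟨he, hea⟩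
    have hle : ⁅Cfsg.pCore 2 G, Subgroup.zpowers a⁆ ≤ Subgroup.centralizer {e} := by
      rw [Subgroup.commutator_le]
      intro x hx y hy
      rw [Subgroup.mem_centralizer_singleton_iff]
      obtain ⟨k, rfl⟩ := Subgroup.mem_zpowers_iff.1 hy
      rcases zpow_cases haa k with h | h
      · rw [h]; simp
      · rw [h, commutatorElement_def, hainv]
        have h1 := comm_conj hD he ha hea hx
        calc x * a * x⁻¹ * a * e = x * a * x⁻¹ * (a * e) := by group
          _ = x * a * x⁻¹ * (e * a) := by rw [hea]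
          _ = (x * a * x⁻¹ * e) * a := by group
          _ = (e * (x * a * x⁻¹)) * a := by rw [h1]
          _ = e * (x * a * x⁻¹ * a) := by group
    intro q hq
    have := hle hq
    rw [Subgroup.mem_centralizer_singleton_iff] at this
    exact this.symm
  · rintro b ⟨hb, hba, hodd⟩
    have hbb : b * b = 1 := inv_sq hD hb
    ext x
    simp only [Subgroup.mem_inf, Subgroup.mem_centralizer_singleton_iff]
    constructor
    · rintro ⟨hxQ, hx⟩
      have ha'D : x * a * x⁻¹ ∈ D := hD.1.conj_mem a ha x
      have h1 : a * (x * a * x⁻¹) = (x * a * x⁻¹) * a := comm_conj hD ha ha rfl hxQ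
      have h2 : b * (x * b * x⁻¹) = (x * b * x⁻¹) * b := comm_conj hD hb hb rfl hxQ
      have h3 : (x * a * x⁻¹) * (x * b * x⁻¹) = a * b := by
        calc (x * a * x⁻¹) * (x * b * x⁻¹) = (x * (a * b)) * x⁻¹ := by group
          _ = a * b * x * x⁻¹ := by rw [hx]
          _ = a * b := by group
      have ha'2 : (x * a * x⁻¹) * (x * a * x⁻¹) = 1 := inv_sq hD ha'D
      -- t = a' * a
      have ht2 : (x * a * x⁻¹ * a) * (x * a * x⁻¹ * a) = 1 := by
        calc (x * a * x⁻¹ * a) * (x * a * x⁻¹ * a)
            = (x * a * x⁻¹) * (a * (x * a * x⁻¹)) * a := by group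
          _ = (x * a * x⁻¹) * ((x * a * x⁻¹) * a) * a := by rw [h1]
          _ = ((x * a * x⁻¹) * (x * a * x⁻¹)) * (a * a) := by group
          _ = 1 := by rw [ha'2, haa, one_mul]
      have hta : (x * a * x⁻¹ * a) * a = a * (x * a * x⁻¹ * a) := by
        calc (x * a * x⁻¹ * a) * a = ((x * a * x⁻¹) * a) * a := by group
          _ = (a * (x * a * x⁻¹)) * a := by rw [h1]
          _ = a * (x * a * x⁻¹ * a) := by group
      have hb' : x * b * x⁻¹ = (x * a * x⁻¹ * a) * b := by
        calc x * b * x⁻¹ = ((x * a * x⁻¹) * (x * a * x⁻¹)) * (x * b * x⁻¹) := by rw [ha'2, one_mul]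
          _ = (x * a * x⁻¹) * ((x * a * x⁻¹) * (x * b * x⁻¹)) := by group
          _ = (x * a * x⁻¹) * (a * b) := by rw [h3]
          _ = (x * a * x⁻¹ * a) * b := by group
      have htb : (x * a * x⁻¹ * a) * b = b * (x * a * x⁻¹ * a) := by
        have h2' := h2
        rw [hb'] at h2'
        -- b * (t * b) = t * b * b
        calc (x * a * x⁻¹ * a) * b = ((x * a * x⁻¹ * a) * b * b) * b := by
              rw [mul_assoc (x * a * x⁻¹ * a) b b, hbb, mul_one]
          _ = (b * ((x * a * x⁻¹ * a) * b)) * b := by rw [h2']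
          _ = b * (x * a * x⁻¹ * a) * (b * b) := by group
          _ = b * (x * a * x⁻¹ * a) := by rw [hbb, mul_one]
      have ht1 : x * a * x⁻¹ * a = 1 := by
        by_contra hne
        have hcomm : Commute (x * a * x⁻¹ * a) (a * b) := by
          show (x * a * x⁻¹ * a) * (a * b) = (a * b) * (x * a * x⁻¹ * a)
          calc (x * a * x⁻¹ * a) * (a * b) = ((x * a * x⁻¹ * a) * a) * b := by group
            _ = (a * (x * a * x⁻¹ * a)) * b := by rw [hta]
            _ = a * ((x * a * x⁻¹ * a) * b) := by group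
            _ = a * (b * (x * a * x⁻¹ * a)) := by rw [htb]
            _ = (a * b) * (x * a * x⁻¹ * a) := by group
        have hot : orderOf (x * a * x⁻¹ * a) = 2 := by
          apply orderOf_eq_prime
          · rw [pow_two]; exact ht2
          · exact hne
        have hcop : (orderOf (x * a * x⁻¹ * a)).Coprime (orderOf (a * b)) := by
          rw [hot]; exact (Nat.coprime_two_left).2 hodd
        have hord := hcomm.orderOf_mul_eq_mul_orderOf_of_coprime hcop
        rw [hot] at hord
        have hab' : (x * a * x⁻¹ * a) * (a * b) = (x * a * x⁻¹) * b := by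
          calc (x * a * x⁻¹ * a) * (a * b) = (x * a * x⁻¹) * (a * a) * b := by group
            _ = (x * a * x⁻¹) * b := by rw [haa, mul_one]
        rw [hab'] at hord
        rcases hD.1.pair _ ha'D b hb with h | h | h
        · -- commute: square is one
          have hsq : ((x * a * x⁻¹) * b) ^ 2 = 1 := by
            rw [pow_two]
            calc (x * a * x⁻¹) * b * ((x * a * x⁻¹) * b)
                = (x * a * x⁻¹) * (b * (x * a * x⁻¹)) * b := by group
              _ = (x * a * x⁻¹) * ((x * a * x⁻¹) * b) * b := by rw [h]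
              _ = ((x * a * x⁻¹) * (x * a * x⁻¹)) * (b * b) := by group
              _ = 1 := by rw [ha'2, hbb, one_mul]
          have hdvd := orderOf_dvd_of_pow_eq_one hsq
          rw [hord] at hdvd
          have hn1 : orderOf (a * b) = 1 := by
            have hpos : 0 < orderOf (a * b) := hodd.pos
            have := Nat.le_of_dvd (by norm_num) hdvd
            omega
          have hab1 : a * b = 1 := orderOf_eq_one_iff.1 hn1
          apply hba
          calc b = a⁻¹ * (a * b) := by group
            _ = a := by rw [hab1, mul_one, hainv]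
        · rw [hord] at h
          exact (Nat.not_odd_iff_even.2 (even_two_mul _)) h
        · exact hD.2 _ ha'D b hb h.1
      have hxa : x * a = a * x := by
        have h4 : x * a * x⁻¹ = a := by
          calc x * a * x⁻¹ = (x * a * x⁻¹ * a) * a⁻¹ := by group
            _ = a := by rw [ht1, one_mul, hainv]
        calc x * a = (x * a * x⁻¹) * x := by group
          _ = a * x := by rw [h4]
      refine ⟨⟨hxQ, hxa⟩, ?_⟩
      calc x * b = a⁻¹ * (a * x) * b := by group
        _ = a⁻¹ * (x * a) * b := by rw [hxa]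
        _ = a⁻¹ * (x * (a * b)) := by group
        _ = a⁻¹ * (a * b * x) := by rw [hx]
        _ = b * x := by group
    · rintro ⟨⟨hxQ, hxa⟩, hxb⟩
      refine ⟨hxQ, ?_⟩
      calc x * (a * b) = (x * a) * b := by group
        _ = a * (x * b) := by rw [hxa]; group
        _ = a * b * x := by rw [hxb]; group

end Cfsg.Agent.S5049
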