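import Cfsg.Statements.S5057
-- import your own Cfsg.Agent.* helpers here

set_option autoImplicit false
open Cfsg

namespace Cfsg.Agent.S5057

open Equiv Equiv.Perm

/-- the reference involution `(0 1)(2 3)` -/
def a0 : Perm (Fin 6) := swap 0 1 * swap 2 3

/-- the possible products of two root involutions, in terms of powers -/
def Q {M : Type*} [Monoid M] (x : M) : Prop :=
  x ^ 2 = 1 ∨ x ^ 3 = 1 ∨ x ^ 5 = 1 ∨ (x ^ 4 = 1 ∧ x ^ 2 ≠ 1)

instance (x : Perm (Fin 6)) : Decidable (Q x) := by
  unfold Q; infer_instance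

set_option maxRecDepth 1000000 in
theorem conj_a0 : ∀ b : Perm (Fin 6), b ≠ 1 → b ^ 2 = 1 → Perm.sign b = 1 →
    ∃ g : Perm (Fin 6), Perm.sign g = 1 ∧ b = g * a0 * g⁻¹ := by
  decide

set_option maxRecDepth 1000000 in
theorem pair_a0 : ∀ b : Perm (Fin 6), b ≠ 1 → b ^ 2 = 1 → Perm.sign b = 1 → Q (a0 * b) := by
  decide


/-- the set of involutions of `A₆` -/
abbrev D : Set ↥(alternatingGroup (Fin 6)) := {g | orderOf g = 2}

/-- the reference involution as a member of `A₆` -/
def A0 : ↥(alternatingGroup (Fin 6)) := ⟨a0, by rw [Equiv.Perm.mem_alternatingGroup]; decide⟩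

theorem mem_D_iff (d : ↥(alternatingGroup (Fin 6))) : d ∈ D ↔ d ≠ 1 ∧ d ^ 2 = 1 := by
  constructor
  · intro h
    have h2 : orderOf d = 2 := h
    refine ⟨?_, ?_⟩
    · rintro rfl
      simp at h2
    · rw [← h2]; exact pow_orderOf_eq_one d
  · rintro ⟨h1, h2⟩
    exact orderOf_eq_prime h2 h1

theorem A0_mem : A0 ∈ D := by
  rw [mem_D_iff]
  constructor
  · intro h
    have := congrArg Subtype.val h
    revert this
    simp only [A0]
    decide
  · apply Subtype.ext
    simp only [A0, Subgroup.coe_pow, Subgroup.coe_one]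
    decide

theorem conj_mem_D {d : ↥(alternatingGroup (Fin 6))} (hd : d ∈ D)
    (g : ↥(alternatingGroup (Fin 6))) : g * d * g⁻¹ ∈ D := by
  rw [mem_D_iff] at hd ⊢
  constructor
  · intro h
    apply hd.1
    have : d = g⁻¹ * (g * d * g⁻¹) * g := by group
    rw [this, h]; group
  · rw [conj_pow, hd.2]; group

theorem exists_conj {d : ↥(alternatingGroup (Fin 6))} (hd : d ∈ D) :
    ∃ g : ↥(alternatingGroup (Fin 6)), d = g * A0 * g⁻¹ := by
  rw [mem_D_iff] at hd
  have h1 : (d : Perm (Fin 6)) ≠ 1 := fun h => hd.1 (Subtype.ext h)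
  have h2 : (d : Perm (Fin 6)) ^ 2 = 1 := by
    have := congrArg Subtype.val hd.2
    simpa using this
  have h3 : Perm.sign (d : Perm (Fin 6)) = 1 := Equiv.Perm.mem_alternatingGroup.mp d.2
  obtain ⟨g, hg, h⟩ := conj_a0 _ h1 h2 h3
  refine ⟨⟨g, Equiv.Perm.mem_alternatingGroup.mpr hg⟩, ?_⟩
  apply Subtype.ext
  simp only [Subgroup.coe_mul, Subgroup.coe_inv, A0]
  exact h

theorem Q_A0 {b : ↥(alternatingGroup (Fin 6))} (hb : b ∈ D) : Q (A0 * b) := by
  rw [mem_D_iff] at hb
  have h1 : (b : Perm (Fin 6)) ≠ 1 := fun h => hb.1 (Subtype.ext h)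
  have h2 : (b : Perm (Fin 6)) ^ 2 = 1 := by
    have := congrArg Subtype.val hb.2
    simpa using this
  have h3 : Perm.sign (b : Perm (Fin 6)) = 1 := Equiv.Perm.mem_alternatingGroup.mp b.2
  have h := pair_a0 _ h1 h2 h3
  unfold Q at h ⊢
  simpa only [Subtype.ext_iff, Subgroup.coe_pow, Subgroup.coe_mul, Subgroup.coe_one, ne_eq, A0]
    using h

theorem Q_conj {G : Type*} [Group G] (g x : G) (h : Q x) : Q (g * x * g⁻¹) := by
  unfold Q at h ⊢
  simp only [conj_pow, ne_eq]
  have key : ∀ k : ℕ, g * x ^ k * g⁻¹ = 1 ↔ x ^ k = 1 := by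
    intro k
    constructor
    · intro h1
      have : x ^ k = g⁻¹ * (g * x ^ k * g⁻¹) * g := by group
      rw [this, h1]; group
    · intro h1
      rw [h1]; group
  simpa only [key] using h

theorem Q_D {a b : ↥(alternatingGroup (Fin 6))} (ha : a ∈ D) (hb : b ∈ D) : Q (a * b) := by
  obtain ⟨g, rfl⟩ := exists_conj ha
  have h1 : g⁻¹ * b * g ∈ D := by
    have := conj_mem_D hb g⁻¹
    simpa using this
  have h2 := Q_conj g _ (Q_A0 h1)
  have h3 : g * (A0 * (g⁻¹ * b * g)) * g⁻¹ = g * A0 * g⁻¹ * b := by group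
  rwa [h3] at h2

theorem pair_D {a b : ↥(alternatingGroup (Fin 6))} (ha : a ∈ D) (hb : b ∈ D) :
    a * b = b * a ∨ Odd (orderOf (a * b)) ∨ (orderOf (a * b) = 4 ∧ (a * b) ^ 2 ∈ D) := by
  have hQ := Q_D ha hb
  rw [mem_D_iff] at ha hb
  rcases hQ with h | h | h | ⟨h4, h2⟩
  · left
    have h1 : a * b * (a * b) = 1 := by rw [← pow_two]; exact h
    have ha2 : a * a = 1 := by rw [← pow_two]; exact ha.2
    have hb2 : b * b = 1 := by rw [← pow_two]; exact hb.2
    have hai : a⁻¹ = a := inv_eq_of_mul_eq_one_right ha2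
    have hbi : b⁻¹ = b := inv_eq_of_mul_eq_one_right hb2
    calc a * b = (a * b)⁻¹ := (inv_eq_of_mul_eq_one_right h1).symm
      _ = b * a := by rw [mul_inv_rev, hai, hbi]
  · right; left
    have hdvd := orderOf_dvd_of_pow_eq_one h
    rcases (Nat.dvd_prime Nat.prime_three).mp hdvd with h1 | h1 <;> rw [h1] <;> decide
  · right; left
    have hdvd := orderOf_dvd_of_pow_eq_one h
    rcases (Nat.dvd_prime Nat.prime_five).mp hdvd with h1 | h1 <;> rw [h1] <;> decide
  · right; right
    have h5 : orderOf (a * b) = 2 ^ (1 + 1) := orderOf_eq_prime_pow (by simpa using h2) (by simpa using h4)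
    refine ⟨by simpa using h5, ?_⟩
    rw [mem_D_iff]
    refine ⟨h2, ?_⟩
    rw [← pow_mul]; exact h4

theorem order_le {a b : ↥(alternatingGroup (Fin 6))} (ha : a ∈ D) (hb : b ∈ D) :
    orderOf (a * b) ≤ 5 := by
  rcases Q_D ha hb with h | h | h | ⟨h4, _⟩
  · exact (Nat.le_of_dvd (by norm_num) (orderOf_dvd_of_pow_eq_one h)).trans (by norm_num)
  · exact (Nat.le_of_dvd (by norm_num) (orderOf_dvd_of_pow_eq_one h)).trans (by norm_num)
  · exact (Nat.le_of_dvd (by norm_num) (orderOf_dvd_of_pow_eq_one h)).trans (by norm_num)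
  · exact (Nat.le_of_dvd (by norm_num) (orderOf_dvd_of_pow_eq_one h4)).trans (by norm_num)

theorem closure_D : Subgroup.closure D = ⊤ := by
  have h1 : Subgroup.closure D = Subgroup.normalClosure D := by
    unfold Subgroup.normalClosure
    congr 1
    apply Set.Subset.antisymm Group.subset_conjugatesOfSet
    intro x hx
    rw [Group.mem_conjugatesOfSet_iff] at hx
    obtain ⟨d, hd, hc⟩ := hx
    rw [isConj_iff] at hc
    obtain ⟨c, rfl⟩ := hc
    exact conj_mem_D hd c
  have : IsSimpleGroup ↥(alternatingGroup (Fin 6)) := alternatingGroup.isSimpleGroup (by simp)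
  rw [h1]
  apply Subgroup.normalClosure_normal.eq_bot_or_eq_top.resolve_left
  intro h
  have h2 : A0 ∈ Subgroup.normalClosure D := Subgroup.subset_normalClosure A0_mem
  rw [h, Subgroup.mem_bot] at h2
  exact ((mem_D_iff A0).mp A0_mem).1 h2

/-- The involutions of the alternating group of degree 6 form a class of root involutions (a single conjugacy class of involutions generating the group, any two of which commute, have product of odd order, or have product of order 4 whose square is again an involution of the class), and the product of any two of them has order at most 5. -/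
theorem result :
    Cfsg.IsRootInvolutionClass {g : ↥(alternatingGroup (Fin 6)) | orderOf g = 2} ∧
    ∀ d ∈ {g : ↥(alternatingGroup (Fin 6)) | orderOf g = 2}, ∀ e ∈ {g : ↥(alternatingGroup (Fin 6)) | orderOf g = 2},
      orderOf (d * e) ≤ 5 := by
  refine ⟨⟨⟨fun d hd => hd, closure_D, ?_, ?_⟩, ⟨A0, A0_mem⟩, ?_⟩, ?_⟩
  · intro d hd g
    exact conj_mem_D hd g
  · intro a ha b hb
    exact pair_D ha hb
  · intro a ha b hb
    obtain ⟨g1, h1⟩ := exists_conj ha
    obtain ⟨g2, h2⟩ := exists_conj hb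
    refine ⟨g2 * g1⁻¹, ?_⟩
    rw [h1, h2]
    group
  · intro a ha b hb
    exact order_le ha hb

end Cfsg.Agent.S5057
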