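import Mathlib
import Cfsg.Statements.S5058
import Cfsg.Agent.Lib.Helper5_RootSL
import Cfsg.Agent.Lib.Helper41_PSL2Inv
import Cfsg.Agent.S1339

set_option autoImplicit false
set_option linter.unusedSectionVars false
set_option linter.unusedSimpArgs false
set_option linter.unusedVariables false
open Cfsg

namespace Cfsg.Agent.S5058

open Matrix Cfsg.Agent.Lib.Helper5_Transv Cfsg.Agent.Lib.Helper5_RootSL

section general

variable {F : Type*} [Field F] [Fintype F] [CharP F 2] {ι : Type*} [Fintype ι] [DecidableEq ι]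

lemma add_self' (a : F) : a + a = 0 := CharTwo.add_self_eq_zero a

variable (F ι) in
/-- the set of all transvections -/
def DD : Set (Matrix.SpecialLinearGroup ι F) :=
  {t | ∃ (v φ : ι → F) (h : φ ⬝ᵥ v = 0), v ≠ 0 ∧ φ ≠ 0 ∧ t = tvS v φ h 1}

lemma tvS_mem_DD (v φ : ι → F) (h : φ ⬝ᵥ v = 0) (hv : v ≠ 0) (hφ : φ ≠ 0) :
    tvS v φ h 1 ∈ DD F ι := ⟨v, φ, h, hv, hφ, rfl⟩

lemma tvS_smul (v φ : ι → F) (h : φ ⬝ᵥ v = 0) (c : F) :
    tvS v φ h c = tvS (c • v) φ (by rw [dotProduct_smul, h, smul_zero]) 1 := by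
  apply Subtype.ext
  show tv v φ c = tv (c • v) φ 1
  rw [tv_smul_left, one_mul]

lemma tvS_mem_DD' (v φ : ι → F) (h : φ ⬝ᵥ v = 0) (hv : v ≠ 0) (hφ : φ ≠ 0) (c : F) (hc : c ≠ 0) :
    tvS v φ h c ∈ DD F ι := by
  rw [tvS_smul]
  exact tvS_mem_DD _ _ _ (smul_ne_zero hc hv) hφ

lemma sq_eq_one (v φ : ι → F) (h : φ ⬝ᵥ v = 0) (c : F) : tvS v φ h c * tvS v φ h c = 1 := by
  rw [tvS_add, add_self', tvS_zero]

lemma inv_eq_self (v φ : ι → F) (h : φ ⬝ᵥ v = 0) (c : F) : (tvS v φ h c)⁻¹ = tvS v φ h c :=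
  inv_eq_of_mul_eq_one_left (sq_eq_one v φ h c)

lemma orderOf_DD (d : Matrix.SpecialLinearGroup ι F) (hd : d ∈ DD F ι) : orderOf d = 2 := by
  obtain ⟨v, φ, h, hv, hφ, rfl⟩ := hd
  have : Fact (Nat.Prime 2) := ⟨Nat.prime_two⟩
  apply orderOf_eq_prime
  · rw [pow_two, sq_eq_one]
  · rw [Ne, tvS_eq_one_iff v φ h hv hφ]
    exact one_ne_zero

lemma conj_mem_DD (d : Matrix.SpecialLinearGroup ι F) (hd : d ∈ DD F ι)
    (g : Matrix.SpecialLinearGroup ι F) : g * d * g⁻¹ ∈ DD F ι := by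
  obtain ⟨v, φ, h, hv, hφ, rfl⟩ := hd
  rw [conj_tvS]
  exact tvS_mem_DD _ _ _ (mulVec_ne_zero g v hv) (vecMul_ne_zero g⁻¹ φ hφ)

lemma closure_DD [Nontrivial ι] : Subgroup.closure (DD F ι) = ⊤ := by
  rw [eq_top_iff]
  intro g _
  refine Cfsg.Agent.Lib.Helper5_SLGen.transvection_induction
    (fun g => g ∈ Subgroup.closure (DD F ι)) ?_ (fun A B hA hB => mul_mem hA hB) g
  intro i j hij c
  rw [transvection_eq_tvS hij c]
  by_cases hc : c = 0
  · rw [hc, tvS_zero]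
    exact one_mem _
  · exact Subgroup.subset_closure (tvS_mem_DD' _ _ _ (e_ne_zero i) (e_ne_zero j) c hc)

lemma orderOf_conj' {G : Type*} [Group G] (g x : G) : orderOf (g * x * g⁻¹) = orderOf x :=
  orderOf_injective (MulAut.conj g).toMonoidHom (MulAut.conj g).injective x

/-- the order four case -/
lemma order_four (v φ w ψ : ι → F) (hv : φ ⬝ᵥ v = 0) (hw : ψ ⬝ᵥ w = 0)
    (hvne : v ≠ 0) (hψne : ψ ≠ 0) (hα : φ ⬝ᵥ w ≠ 0) (hβ : ψ ⬝ᵥ v = 0) :
    orderOf (tvS v φ hv 1 * tvS w ψ hw 1) = 4 ∧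
      (tvS v φ hv 1 * tvS w ψ hw 1) ^ 2 ∈ DD F ι := by
  have hsq : (tvS v φ hv 1 * tvS w ψ hw 1) ^ 2 = tvS v ψ hβ (φ ⬝ᵥ w) := by
    have h1 := tvS_commutator v φ w ψ hv hw hβ 1 1
    rw [inv_eq_self, inv_eq_self, one_mul, one_mul] at h1
    rw [pow_two, ← h1]
    group
  refine ⟨?_, ?_⟩
  · have : Fact (Nat.Prime 2) := ⟨Nat.prime_two⟩
    have h4 : orderOf (tvS v φ hv 1 * tvS w ψ hw 1) = 2 ^ (1 + 1) := by
      apply orderOf_eq_prime_pow
      · rw [pow_one, hsq, tvS_eq_one_iff v ψ hβ hvne hψne]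
        exact hα
      · rw [pow_succ, pow_one, pow_mul, hsq, pow_two, sq_eq_one]
    rw [h4]
    norm_num
  · rw [hsq]
    exact tvS_mem_DD' _ _ _ hvne hψne _ hα

/-- elements of `SL₂` over a finite field of characteristic two with nonzero trace have odd
order -/
lemma odd_orderOf_of_trace_ne_zero (A : Matrix.SpecialLinearGroup (Fin 2) F)
    (ht : Matrix.trace (A : Matrix (Fin 2) (Fin 2) F) ≠ 0) : Odd (orderOf A) := by
  have h2 : (2 : F) = 0 := by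
    have := add_self' (1 : F)
    rw [one_add_one_eq_two] at this
    exact this
  have hodd := Cfsg.Agent.Lib.Helper41_PSL2Inv.odd_of_trace_ne_zero h2 A ht
  set m := orderOf (Cfsg.Agent.Lib.Helper41_PSL2Inv.proj A) with hm
  have h1 : Cfsg.Agent.Lib.Helper41_PSL2Inv.proj (A ^ m) = 1 := by
    show (QuotientGroup.mk (A ^ m) : Matrix.ProjectiveSpecialLinearGroup (Fin 2) F) = 1
    rw [QuotientGroup.mk_pow]
    exact pow_orderOf_eq_one _
  rw [Cfsg.Agent.Lib.Helper41_PSL2Inv.proj_eq_one_iff, Matrix.SpecialLinearGroup.mem_center_iff]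
    at h1
  obtain ⟨r, hr, hrA⟩ := h1
  have hr1 : r = 1 := by
    rw [Fintype.card_fin] at hr
    have h3 : (r + 1) ^ 2 = 0 := by
      have : (r + 1) ^ 2 = r ^ 2 + (r + r) + 1 := by ring
      rw [this, hr, add_self', add_zero, add_self']
    have h4 : r + 1 = 0 := by
      rcases pow_eq_zero_iff (n := 2) (by norm_num) |>.mp h3 with h
      exact h
    calc r = r + (1 + 1) := by rw [add_self', add_zero]
      _ = (r + 1) + 1 := by ring
      _ = 1 := by rw [h4, zero_add]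
  have h5 : A ^ m = 1 := by
    apply Subtype.ext
    rw [← hrA, hr1]
    simp
  exact Odd.of_dvd_nat hodd (orderOf_dvd_of_pow_eq_one h5)

/-- the odd order case -/
lemma odd_case (v φ w ψ : ι → F) (hv : φ ⬝ᵥ v = 0) (hw : ψ ⬝ᵥ w = 0)
    (hα : φ ⬝ᵥ w ≠ 0) (hβ : ψ ⬝ᵥ v ≠ 0) :
    Odd (orderOf (tvS v φ hv 1 * tvS w ψ hw 1)) ∧
      (Fintype.card F = 2 → (tvS v φ hv 1 * tvS w ψ hw 1) ^ 3 = 1) := by
  set Θ := pairEmb v φ w ψ hv hw hα hβ with hΘ
  have ha : tvS v φ hv 1 = Θ (Cfsg.Agent.S5016.upperElt (φ ⬝ᵥ w)) := by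
    rw [hΘ, pairEmb_upper, mul_inv_cancel₀ hα]
  have hb : tvS w ψ hw 1 = Θ (Cfsg.Agent.S5016.lowerElt (ψ ⬝ᵥ v)) := by
    rw [hΘ, pairEmb_lower, mul_inv_cancel₀ hβ]
  rw [ha, hb, ← map_mul]
  have hcoe : (Cfsg.Agent.S5016.upperElt (φ ⬝ᵥ w) * Cfsg.Agent.S5016.lowerElt (ψ ⬝ᵥ v)).1 =
      !![1 + (φ ⬝ᵥ w) * (ψ ⬝ᵥ v), φ ⬝ᵥ w; ψ ⬝ᵥ v, 1] := by
    show (Cfsg.Agent.S5016.upperElt (φ ⬝ᵥ w)).1 * (Cfsg.Agent.S5016.lowerElt (ψ ⬝ᵥ v)).1 = _
    rw [Cfsg.Agent.S5016.upperElt_coe, Cfsg.Agent.S5016.lowerElt_coe, Matrix.mul_fin_two]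
    simp
  constructor
  · rw [orderOf_injective Θ (pairEmb_injective v φ w ψ hv hw hα hβ)]
    apply odd_orderOf_of_trace_ne_zero
    show Matrix.trace (Cfsg.Agent.S5016.upperElt (φ ⬝ᵥ w) * Cfsg.Agent.S5016.lowerElt (ψ ⬝ᵥ v)).1 ≠ 0
    rw [hcoe, Matrix.trace_fin_two_of]
    have : 1 + (φ ⬝ᵥ w) * (ψ ⬝ᵥ v) + 1 = (φ ⬝ᵥ w) * (ψ ⬝ᵥ v) := by
      calc 1 + (φ ⬝ᵥ w) * (ψ ⬝ᵥ v) + 1 = (φ ⬝ᵥ w) * (ψ ⬝ᵥ v) + (1 + 1) := by ring
        _ = _ := by rw [add_self', add_zero]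
    rw [this]
    exact mul_ne_zero hα hβ
  · intro hcard
    rw [← map_pow]
    have h1 : ∀ x : F, x ≠ 0 → x = 1 := by
      intro x hx
      rcases Cfsg.Agent.S1339.eq_zero_or_one hcard x with h | h
      · exact absurd h hx
      · exact h
    have h3 : (Cfsg.Agent.S5016.upperElt (φ ⬝ᵥ w) * Cfsg.Agent.S5016.lowerElt (ψ ⬝ᵥ v)) ^ 3 = 1 := by
      apply Subtype.ext
      show (Cfsg.Agent.S5016.upperElt (φ ⬝ᵥ w) * Cfsg.Agent.S5016.lowerElt (ψ ⬝ᵥ v)).1 ^ 3 = 1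
      rw [hcoe, h1 _ hα, h1 _ hβ, mul_one, add_self', pow_succ, pow_two, Matrix.mul_fin_two,
        Matrix.mul_fin_two]
      simp only [mul_zero, mul_one, zero_add, add_zero, add_self', zero_mul, one_mul]
      exact Matrix.one_fin_two.symm
    rw [h3, map_one]

/-- the three cases for a pair of transvections -/
lemma pair_cases (a b : Matrix.SpecialLinearGroup ι F) (ha : a ∈ DD F ι) (hb : b ∈ DD F ι) :
    (a * b = b * a) ∨ (orderOf (a * b) = 4 ∧ (a * b) ^ 2 ∈ DD F ι) ∨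
      (Odd (orderOf (a * b)) ∧ (Fintype.card F = 2 → (a * b) ^ 3 = 1)) := by
  obtain ⟨v, φ, hv, hvne, hφne, rfl⟩ := ha
  obtain ⟨w, ψ, hw, hwne, hψne, rfl⟩ := hb
  by_cases hα : φ ⬝ᵥ w = 0
  · by_cases hβ : ψ ⬝ᵥ v = 0
    · exact Or.inl (tvS_commute v φ w ψ hv hw hα hβ 1 1)
    · right; left
      obtain ⟨h1, h2⟩ := order_four w ψ v φ hw hv hwne hφne hβ hα
      have hconj : tvS v φ hv 1 * tvS w ψ hw 1 =
          tvS v φ hv 1 * (tvS w ψ hw 1 * tvS v φ hv 1) * (tvS v φ hv 1)⁻¹ := by group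
      constructor
      · rw [hconj, orderOf_conj', h1]
      · rw [hconj, conj_pow]
        exact conj_mem_DD _ h2 _
  · by_cases hβ : ψ ⬝ᵥ v = 0
    · right; left
      exact order_four v φ w ψ hv hw hvne hψne hα hβ
    · right; right
      exact odd_case v φ w ψ hv hw hα hβ

theorem DD_isRootInvolutionSet [Nontrivial ι] : Cfsg.IsRootInvolutionSet (DD F ι) where
  orderOf_eq := orderOf_DD
  generates := closure_DD
  conj_mem := conj_mem_DD
  pair := by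
    intro a ha b hb
    rcases pair_cases a b ha hb with h | h | h
    · exact Or.inl h
    · exact Or.inr (Or.inr h)
    · exact Or.inr (Or.inl h.1)

theorem DD_isThreeFourPlus [Nontrivial ι] (hcard : Fintype.card F = 2) :
    Cfsg.IsThreeFourPlusTranspositionSet (DD F ι) := by
  refine ⟨DD_isRootInvolutionSet, ?_⟩
  intro a ha b hb hodd
  rcases pair_cases a b ha hb with h | h | h
  · left
    have h2 : (a * b) ^ 2 = 1 := by
      have ha2 : a ^ 2 = 1 := by rw [← orderOf_DD a ha]; exact pow_orderOf_eq_one a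
      have hb2 : b ^ 2 = 1 := by rw [← orderOf_DD b hb]; exact pow_orderOf_eq_one b
      rw [(Commute.mul_pow (show Commute a b from h) 2), ha2, hb2, one_mul]
    have h3 : orderOf (a * b) ∣ 2 := orderOf_dvd_of_pow_eq_one h2
    rcases (Nat.dvd_prime Nat.prime_two).mp h3 with h4 | h4
    · exact h4
    · rw [h4] at hodd
      exact absurd hodd (by decide)
  · rw [h.1] at hodd
    exact absurd hodd (by decide)
  · have h3 : orderOf (a * b) ∣ 3 := orderOf_dvd_of_pow_eq_one (h.2 hcard)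
    exact (Nat.dvd_prime Nat.prime_three).mp h3

end general

section final

variable (F : Type*) [Field F] [Fintype F] [CharP F 2] (n : ℕ)

lemma h01 : (0 : Fin (n + 3)) ≠ 1 := by
  intro h
  have := congrArg Fin.val h
  simp at this

lemma h02 : (0 : Fin (n + 3)) ≠ 2 := by
  intro h
  have := congrArg Fin.val h
  rw [Fin.val_zero, Fin.val_two] at this
  omega

lemma h12 : (1 : Fin (n + 3)) ≠ 2 := by
  intro h
  have := congrArg Fin.val h
  rw [Fin.val_one, Fin.val_two] at this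
  omega

lemma set_eq :
    {t : Matrix.SpecialLinearGroup (Fin (n + 3)) F | ∃ c : F, c ≠ 0 ∧
        ∃ g : Matrix.SpecialLinearGroup (Fin (n + 3)) F, ((g⁻¹ * t * g : Matrix.SpecialLinearGroup (Fin (n + 3)) F) :
          Matrix (Fin (n + 3)) (Fin (n + 3)) F) = Matrix.transvection 0 1 c} = DD F (Fin (n + 3)) := by
  ext t
  constructor
  · rintro ⟨c, hc, g, hg⟩
    have h1 : g⁻¹ * t * g = tvS (e 0) (e 1) (e_dot_e (h01 n)) c := by
      rw [← transvection_eq_tvS (h01 n) c]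
      exact Subtype.ext hg
    have h2 : t = g * tvS (e 0) (e 1) (e_dot_e (h01 n)) c * g⁻¹ := by
      rw [← h1]
      group
    rw [h2]
    exact conj_mem_DD _ (tvS_mem_DD' _ _ _ (e_ne_zero 0) (e_ne_zero 1) c hc) g
  · rintro ⟨v, φ, h, hv, hφ, rfl⟩
    obtain ⟨g, hg1, hg2⟩ := exists_conj (h01 n) (h02 n) (h12 n) v φ hv hφ h
    refine ⟨1, one_ne_zero, g, ?_⟩
    have h3 : tvS v φ h 1 = g * tvS (e 0) (e 1) (e_dot_e (h01 n)) 1 * g⁻¹ := by
      rw [conj_tvS]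
      apply Subtype.ext
      show tv v φ 1 = tv _ _ 1
      rw [hg1, hg2]
    rw [h3]
    have h4 : g⁻¹ * (g * tvS (e 0) (e 1) (e_dot_e (h01 n)) 1 * g⁻¹) * g =
        tvS (e 0) (e 1) (e_dot_e (h01 n)) 1 := by group
    rw [h4, ← transvection_eq_tvS (h01 n) 1]
    rfl

end final

/-- Let F be a finite field of characteristic 2 and n a natural number. Then the transvections of SL_{n+3}(F) (so in every dimension at least 3) (the conjugates of the elementary matrices 1 + c E₁₂, c ≠ 0) form a class of root involutions of SL_{n+3}(F); when F has two elements they form a class of {3,4}⁺-transpositions (every product of odd order has order 1 or 3). -/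
theorem result (F : Type*) [Field F] [Fintype F] [CharP F 2] (n : ℕ) :
    Cfsg.IsRootInvolutionClass {t : Matrix.SpecialLinearGroup (Fin (n + 3)) F | ∃ c : F, c ≠ 0 ∧
        ∃ g : Matrix.SpecialLinearGroup (Fin (n + 3)) F, ((g⁻¹ * t * g : Matrix.SpecialLinearGroup (Fin (n + 3)) F) :
          Matrix (Fin (n + 3)) (Fin (n + 3)) F) = Matrix.transvection 0 1 c} ∧
    (Fintype.card F = 2 → Cfsg.IsThreeFourPlusTranspositionSet {t : Matrix.SpecialLinearGroup (Fin (n + 3)) F | ∃ c : F, c ≠ 0 ∧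
        ∃ g : Matrix.SpecialLinearGroup (Fin (n + 3)) F, ((g⁻¹ * t * g : Matrix.SpecialLinearGroup (Fin (n + 3)) F) :
          Matrix (Fin (n + 3)) (Fin (n + 3)) F) = Matrix.transvection 0 1 c}) := by
  have : Nontrivial (Fin (n + 3)) := ⟨⟨0, 1, h01 n⟩⟩
  rw [set_eq]
  refine ⟨⟨DD_isRootInvolutionSet, ?_, ?_⟩, fun hcard => DD_isThreeFourPlus hcard⟩
  · exact ⟨_, tvS_mem_DD (e 0) (e 1) (e_dot_e (h01 n)) (e_ne_zero 0) (e_ne_zero 1)⟩
  · rintro a ⟨v, φ, hv, hvne, hφne, rfl⟩ b ⟨w, ψ, hw, hwne, hψne, rfl⟩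
    obtain ⟨g1, hg1, hg1'⟩ := exists_conj (h01 n) (h02 n) (h12 n) v φ hvne hφne hv
    obtain ⟨g2, hg2, hg2'⟩ := exists_conj (h01 n) (h02 n) (h12 n) w ψ hwne hψne hw
    have e1 : tvS v φ hv 1 = g1 * tvS (e 0) (e 1) (e_dot_e (h01 n)) 1 * g1⁻¹ := by
      rw [conj_tvS]
      apply Subtype.ext
      show tv v φ 1 = tv _ _ 1
      rw [hg1, hg1']
    have e2 : tvS w ψ hw 1 = g2 * tvS (e 0) (e 1) (e_dot_e (h01 n)) 1 * g2⁻¹ := by
      rw [conj_tvS]
      apply Subtype.ext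
      show tv w ψ 1 = tv _ _ 1
      rw [hg2, hg2']
    refine ⟨g2 * g1⁻¹, ?_⟩
    rw [e1, e2]
    group

end Cfsg.Agent.S5058
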