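import Mathlib
import Cfsg.Statements.S5059

set_option autoImplicit false
universe u
open Cfsg

namespace Cfsg.Agent.S5059


section

variable {k : Type u} [Field k] {M : Type u} [AddCommGroup M] [Module k M]

/-- the unit `1 + N` for a square-zero endomorphism -/
def unitOf (N : M →ₗ[k] M) (hN : N * N = 0) : LinearMap.GeneralLinearGroup k M where
  val := 1 + N
  inv := 1 - N
  val_inv := by
    rw [mul_sub, mul_one, add_mul, one_mul, hN]; abel
  inv_val := by
    rw [sub_mul, one_mul, mul_add, mul_one, hN]; abel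

theorem unitOf_val (N : M →ₗ[k] M) (hN : N * N = 0) :
    ((unitOf N hN : LinearMap.GeneralLinearGroup k M) : M →ₗ[k] M) = 1 + N := rfl

variable {G : Subgroup (LinearMap.GeneralLinearGroup k M)}
  {σ : LinearMap.GeneralLinearGroup k M}

theorem nil_mul {τ τ' : LinearMap.GeneralLinearGroup k M}
    (h : τ ∈ sameActionClass G σ) (h' : τ' ∈ sameActionClass G σ) :
    ((τ : M →ₗ[k] M) - 1) * ((τ' : M →ₗ[k] M) - 1) = 0 := by
  ext m
  rw [Module.End.mul_apply]
  have hm : ((τ' : M →ₗ[k] M) - 1) m ∈ LinearMap.range ((τ' : M →ₗ[k] M) - 1) :=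
    LinearMap.mem_range_self _ m
  rw [h'.2.2, ← h.2.2] at hm
  obtain ⟨m', hm'⟩ := hm
  rw [← hm', ← Module.End.mul_apply, h.1.1.2.1.1]
  simp

theorem inv_val_sub {τ : LinearMap.GeneralLinearGroup k M}
    (hq : ((τ : M →ₗ[k] M) - 1) * ((τ : M →ₗ[k] M) - 1) = 0) :
    ((τ⁻¹ : LinearMap.GeneralLinearGroup k M) : M →ₗ[k] M) - 1 = -((τ : M →ₗ[k] M) - 1) := by
  obtain ⟨N, hN⟩ : ∃ N : M →ₗ[k] M, N = (τ : M →ₗ[k] M) - 1 := ⟨_, rfl⟩
  rw [← hN] at hq ⊢
  have hτ : (τ : M →ₗ[k] M) = 1 + N := by rw [hN]; abel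
  have h1 : τ⁻¹ = unitOf (-N) (by rw [neg_mul_neg, hq]) := by
    rw [inv_eq_iff_eq_inv, eq_comm, inv_eq_iff_mul_eq_one]
    apply Units.ext
    rw [Units.val_mul, unitOf_val, Units.val_one, hτ, mul_add, mul_one, add_mul, one_mul, neg_mul,
      hq]
    abel
  rw [h1, unitOf_val]
  abel

theorem inv_mem {τ : LinearMap.GeneralLinearGroup k M}
    (h : τ ∈ sameActionClass G σ) : τ⁻¹ ∈ sameActionClass G σ := by
  have hq := h.1.1.2.1.1
  have hn := inv_val_sub hq
  refine ⟨⟨⟨G.inv_mem h.1.1.1, ⟨?_, ?_⟩, ?_⟩, ?_⟩, ?_, ?_⟩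
  · rw [hn, neg_mul_neg, hq]
  · rw [hn, neg_ne_zero]
    exact h.1.1.2.1.2
  · rintro ρ ⟨c, hc⟩
    apply h.1.1.2.2
    refine ⟨-c, ?_⟩
    rw [hc, hn, neg_smul, smul_neg]
  · intro ρ hρ
    have := h.1.2 ρ hρ
    unfold commutatorRank at this ⊢
    rw [hn, LinearMap.range_neg]
    exact this
  · rw [hn, LinearMap.ker_neg]
    exact h.2.1
  · rw [hn, LinearMap.range_neg]
    exact h.2.2


theorem mul_val_sub {τ τ' : LinearMap.GeneralLinearGroup k M}
    (h : ((τ : M →ₗ[k] M) - 1) * ((τ' : M →ₗ[k] M) - 1) = 0) :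
    ((τ * τ' : LinearMap.GeneralLinearGroup k M) : M →ₗ[k] M) - 1 =
      ((τ : M →ₗ[k] M) - 1) + ((τ' : M →ₗ[k] M) - 1) := by
  obtain ⟨N, hN⟩ : ∃ N : M →ₗ[k] M, N = (τ : M →ₗ[k] M) - 1 := ⟨_, rfl⟩
  obtain ⟨N', hN'⟩ : ∃ N' : M →ₗ[k] M, N' = (τ' : M →ₗ[k] M) - 1 := ⟨_, rfl⟩
  rw [← hN, ← hN'] at h ⊢
  have hτ : (τ : M →ₗ[k] M) = 1 + N := by rw [hN]; abel
  have hτ' : (τ' : M →ₗ[k] M) = 1 + N' := by rw [hN']; abel
  rw [Units.val_mul, hτ, hτ', mul_add, mul_one, add_mul, one_mul, h]
  abel

theorem mul_mem [FiniteDimensional k M] {τ τ' : LinearMap.GeneralLinearGroup k M}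
    (h : τ ∈ sameActionClass G σ) (h' : τ' ∈ sameActionClass G σ) :
    τ * τ' = 1 ∨ τ * τ' ∈ sameActionClass G σ := by
  have hNN' := nil_mul h h'
  have hN'N := nil_mul h' h
  have hNN := h.1.1.2.1.1
  have hN'N' := h'.1.1.2.1.1
  have hn := mul_val_sub hNN'
  have hr := h.2.2
  have hr' := h'.2.2
  have hk := h.2.1
  have hk' := h'.2.1
  have hmin := h.1.2
  have hsc := h.1.1.2.2
  have hsc' := h'.1.1.2.2
  have hG := h.1.1.1
  have hG' := h'.1.1.1
  obtain ⟨N, hN⟩ : ∃ N : M →ₗ[k] M, N = (τ : M →ₗ[k] M) - 1 := ⟨_, rfl⟩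
  obtain ⟨N', hN'⟩ : ∃ N' : M →ₗ[k] M, N' = (τ' : M →ₗ[k] M) - 1 := ⟨_, rfl⟩
  rw [← hN, ← hN'] at hNN' hN'N hn
  rw [← hN] at hNN hr hk
  rw [← hN'] at hN'N' hr' hk'
  by_cases h0 : N + N' = 0
  · left
    apply Units.ext
    rw [h0, sub_eq_zero] at hn
    rw [hn, Units.val_one]
  · right
    have hsq : (N + N') * (N + N') = 0 := by
      rw [add_mul, mul_add, mul_add, hNN, hNN', hN'N, hN'N']
      simp
    have hquad : τ * τ' ∈ quadraticElements G := by
      refine ⟨G.mul_mem hG hG', ⟨?_, ?_⟩, ?_⟩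
      · rw [hn]; exact hsq
      · rw [hn]; exact h0
      · rintro ρ ⟨c, hc⟩
        rw [hn] at hc
        have ha : unitOf (c • N) (by rw [smul_mul_smul_comm, hNN, smul_zero]) ∈ G := by
          apply hsc
          exact ⟨c, by rw [unitOf_val, ← hN]⟩
        have hb : unitOf (c • N') (by rw [smul_mul_smul_comm, hN'N', smul_zero]) ∈ G := by
          apply hsc'
          exact ⟨c, by rw [unitOf_val, ← hN']⟩
        have : ρ = unitOf (c • N) (by rw [smul_mul_smul_comm, hNN, smul_zero]) *
            unitOf (c • N') (by rw [smul_mul_smul_comm, hN'N', smul_zero]) := by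
          apply Units.ext
          rw [Units.val_mul, unitOf_val, unitOf_val, hc, mul_add, mul_one, add_mul, one_mul,
            smul_mul_smul_comm, hNN', smul_zero, smul_add]
          abel
        rw [this]
        exact G.mul_mem ha hb
    have hrange_le : LinearMap.range (N + N') ≤ LinearMap.range ((σ : M →ₗ[k] M) - 1) := by
      rintro _ ⟨m, rfl⟩
      rw [LinearMap.add_apply]
      apply Submodule.add_mem
      · rw [← hr]; exact LinearMap.mem_range_self _ m
      · rw [← hr']; exact LinearMap.mem_range_self _ m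
    have hrank : Module.finrank k (LinearMap.range ((σ : M →ₗ[k] M) - 1)) ≤
        Module.finrank k (LinearMap.range (N + N')) := by
      have := hmin _ hquad
      unfold commutatorRank at this
      rw [hn, ← hN, hr] at this
      exact this
    have hrange : LinearMap.range (N + N') = LinearMap.range ((σ : M →ₗ[k] M) - 1) :=
      Submodule.eq_of_le_of_finrank_le hrange_le hrank
    have hker_le : LinearMap.ker ((σ : M →ₗ[k] M) - 1) ≤ LinearMap.ker (N + N') := by
      intro m hm
      have h1 : N m = 0 := by rw [← hk] at hm; exact hm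
      have h2 : N' m = 0 := by rw [← hk'] at hm; exact hm
      rw [LinearMap.mem_ker, LinearMap.add_apply, h1, h2, add_zero]
    have hker : LinearMap.ker (N + N') = LinearMap.ker ((σ : M →ₗ[k] M) - 1) := by
      symm
      apply Submodule.eq_of_le_of_finrank_le hker_le
      have e1 := LinearMap.finrank_range_add_finrank_ker (N + N')
      have e2 := LinearMap.finrank_range_add_finrank_ker N
      rw [hrange] at e1
      rw [hr, hk] at e2
      omega
    refine ⟨⟨hquad, ?_⟩, ?_, ?_⟩
    · intro ρ hρ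
      have := hmin ρ hρ
      unfold commutatorRank at this ⊢
      rw [hn, hrange]
      rw [← hN, hr] at this
      exact this
    · rw [hn]; exact hker
    · rw [hn]; exact hrange


theorem closure_eq [FiniteDimensional k M] :
    (sameActionSubgroup G σ : Set (LinearMap.GeneralLinearGroup k M)) =
      sameActionClass G σ ∪ {1} := by
  apply Set.Subset.antisymm
  · intro x hx
    change x ∈ Subgroup.closure (sameActionClass G σ) at hx
    induction hx using Subgroup.closure_induction with
    | mem x hx => exact Or.inl hx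
    | one => exact Or.inr rfl
    | mul x y _ _ hx hy =>
      rcases hx with hx | hx
      · rcases hy with hy | hy
        · rcases mul_mem hx hy with h1 | h1
          · exact Or.inr h1
          · exact Or.inl h1
        · rw [Set.mem_singleton_iff] at hy
          rw [hy, mul_one]; exact Or.inl hx
      · rw [Set.mem_singleton_iff] at hx
        rw [hx, one_mul]; exact hy
    | inv x _ hx =>
      rcases hx with hx | hx
      · exact Or.inl (inv_mem hx)
      · rw [Set.mem_singleton_iff] at hx
        rw [hx, inv_one]; exact Or.inr rfl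
  · rintro x (hx | hx)
    · exact Subgroup.subset_closure hx
    · rw [Set.mem_singleton_iff] at hx
      rw [hx]
      exact Subgroup.one_mem _

theorem comm_of_mem {τ τ' : LinearMap.GeneralLinearGroup k M}
    (h : τ ∈ sameActionClass G σ) (h' : τ' ∈ sameActionClass G σ) : τ * τ' = τ' * τ := by
  apply Units.ext
  have h1 := mul_val_sub (nil_mul h h')
  have h2 := mul_val_sub (nil_mul h' h)
  rw [add_comm, ← h2, sub_left_inj] at h1
  exact h1

theorem one_add_pow (N : M →ₗ[k] M) (hN : N * N = 0) (n : ℕ) :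
    (1 + N) ^ n = 1 + (n : k) • N := by
  induction n with
  | zero => simp
  | succ n ih =>
    rw [pow_succ, ih, add_mul, one_mul, mul_add, mul_one, smul_mul_assoc, hN, smul_zero,
      Nat.cast_succ, add_smul, one_smul]
    abel

end



/-- Let k be a field of characteristic not 2 with k not of order 3, M a finite-dimensional k-vector space and G ≤ GL(M) such that (G, M) is a quadratic pair (M irreducible for G, and G generated by its quadratically acting elements σ whose scalar family 1 + c(σ − 1), c ∈ k, lies in G). Write 𝒬_d for the quadratic elements of G of minimal commutator rank, E(σ) for the subgroup generated by the members of 𝒬_d with the same fixed space and commutator space as σ, and Σ for the set of these subgroups. Then for σ ∈ 𝒬_d the subgroup E(σ) consists exactly of those members together with the identity, it is abelian, and if k has prime characteristic p every element of E(σ) has order dividing p. -/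
theorem result {k : Type u} [Field k] (hk2 : ringChar k ≠ 2) (hk3 : Nat.card k ≠ 3)
    {M : Type u} [AddCommGroup M] [Module k M] [FiniteDimensional k M]
    {G : Subgroup (LinearMap.GeneralLinearGroup k M)} (hG : Cfsg.IsQuadraticPair G)
    {σ : LinearMap.GeneralLinearGroup k M} (hσ : σ ∈ Cfsg.minimalQuadraticElements G) :
    (Cfsg.sameActionSubgroup G σ : Set (LinearMap.GeneralLinearGroup k M)) = Cfsg.sameActionClass G σ ∪ {1} ∧
    IsMulCommutative ↥(Cfsg.sameActionSubgroup G σ) ∧
    (∀ p : ℕ, p.Prime → ringChar k = p → ∀ x ∈ Cfsg.sameActionSubgroup G σ, x ^ p = 1) := by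
  have hcl := closure_eq (G := G) (σ := σ)
  refine ⟨hcl, ⟨⟨?_⟩⟩, ?_⟩
  · rintro ⟨a, ha⟩ ⟨b, hb⟩
    apply Subtype.ext
    change a * b = b * a
    have ha' : a ∈ (sameActionSubgroup G σ : Set (LinearMap.GeneralLinearGroup k M)) := ha
    have hb' : b ∈ (sameActionSubgroup G σ : Set (LinearMap.GeneralLinearGroup k M)) := hb
    rw [hcl] at ha' hb'
    rcases ha' with ha' | ha'
    · rcases hb' with hb' | hb'
      · exact comm_of_mem ha' hb'
      · rw [Set.mem_singleton_iff] at hb'
        rw [hb', mul_one, one_mul]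
    · rw [Set.mem_singleton_iff] at ha'
      rw [ha', mul_one, one_mul]
  · intro p _ hp x hx
    have hx' : x ∈ (sameActionSubgroup G σ : Set (LinearMap.GeneralLinearGroup k M)) := hx
    rw [hcl] at hx'
    rcases hx' with hx' | hx'
    · apply Units.ext
      have hq := hx'.1.1.2.1.1
      have hxv : (x : M →ₗ[k] M) = 1 + ((x : M →ₗ[k] M) - 1) := by abel
      rw [Units.val_pow_eq_pow_val, hxv, one_add_pow _ hq, Units.val_one]
      have : (p : k) = 0 := by
        rw [← hp]
        exact CharP.cast_eq_zero k (ringChar k)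
      rw [this, zero_smul, add_zero]
    · rw [Set.mem_singleton_iff] at hx'
      rw [hx', one_pow]

end Cfsg.Agent.S5059
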