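import Mathlib
import Cfsg.Statements.S5061

set_option autoImplicit false
open Cfsg

namespace Cfsg.Agent.S5061

variable {k : Type*} [Field k] {M : Type*} [AddCommGroup M] [Module k M]

/-- The product of the endomorphisms `g - 1` over a list of elements of `GL(M)`. -/
def pr (l : List (LinearMap.GeneralLinearGroup k M)) : M →ₗ[k] M :=
  (l.map fun g => (g : M →ₗ[k] M) - 1).prod

theorem pr_nil (v : M) : pr ([] : List (LinearMap.GeneralLinearGroup k M)) v = v := by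
  simp [pr]

theorem pr_cons (g : LinearMap.GeneralLinearGroup k M) (l : List (LinearMap.GeneralLinearGroup k M))
    (v : M) : pr (g :: l) v = (g : M →ₗ[k] M) (pr l v) - pr l v := by
  simp [pr, List.prod_cons, Module.End.mul_apply, LinearMap.sub_apply]

/-- `H` acts unipotently modulo the subspace `Z`. -/
def UnipMod (H : Subgroup (LinearMap.GeneralLinearGroup k M)) (Z : Submodule k M) : Prop :=
  ∃ n : ℕ, ∀ l : List (LinearMap.GeneralLinearGroup k M), (∀ g ∈ l, g ∈ H) → l.length = n →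
    ∀ v : M, pr l v ∈ Z

theorem isUnipotentOn_iff (H : Subgroup (LinearMap.GeneralLinearGroup k M)) :
    Cfsg.IsUnipotentOn H ↔ UnipMod H ⊥ := by
  unfold Cfsg.IsUnipotentOn UnipMod
  constructor
  · rintro ⟨n, hn⟩
    refine ⟨n, fun l hl hlen v => ?_⟩
    have := hn l hl hlen
    rw [Submodule.mem_bot]
    show (l.map fun g => (g : M →ₗ[k] M) - 1).prod v = 0
    rw [this]; rfl
  · rintro ⟨n, hn⟩
    refine ⟨n, fun l hl hlen => ?_⟩
    ext v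
    have := hn l hl hlen v
    rw [Submodule.mem_bot] at this
    exact this

theorem UnipMod.mono {H H' : Subgroup (LinearMap.GeneralLinearGroup k M)} {Z Z' : Submodule k M}
    (hH : H ≤ H') (hZ : Z' ≤ Z) (h : UnipMod H' Z') : UnipMod H Z := by
  obtain ⟨n, hn⟩ := h
  exact ⟨n, fun l hl hlen v => hZ (hn l (fun g hg => hH (hl g hg)) hlen v)⟩

/-- The subgroup of `GL(M)` stabilizing the subspace `Z`. -/
def stab (Z : Submodule k M) : Subgroup (LinearMap.GeneralLinearGroup k M) where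
  carrier := {g | ∀ z ∈ Z, (g : M →ₗ[k] M) z ∈ Z ∧ ((g⁻¹ : LinearMap.GeneralLinearGroup k M) : M →ₗ[k] M) z ∈ Z}
  one_mem' := by
    intro z hz
    simp [hz]
  mul_mem' := by
    intro a b ha hb z hz
    constructor
    · have := (hb z hz).1
      have h2 := (ha _ this).1
      simpa [Units.val_mul, Module.End.mul_apply] using h2
    · have := (ha z hz).2
      have h2 := (hb _ this).2
      simpa [mul_inv_rev, Units.val_mul, Module.End.mul_apply] using h2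
  inv_mem' := by
    intro a ha z hz
    constructor
    · exact (ha z hz).2
    · simpa using (ha z hz).1

theorem mem_stab {Z : Submodule k M} {g : LinearMap.GeneralLinearGroup k M} :
    g ∈ stab Z ↔ ∀ z ∈ Z, (g : M →ₗ[k] M) z ∈ Z ∧ ((g⁻¹ : LinearMap.GeneralLinearGroup k M) : M →ₗ[k] M) z ∈ Z :=
  Iff.rfl

theorem le_stab_of_forall {A : Subgroup (LinearMap.GeneralLinearGroup k M)} {Z : Submodule k M}
    (h : ∀ a ∈ A, ∀ z ∈ Z, (a : M →ₗ[k] M) z ∈ Z) : A ≤ stab Z := by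
  intro a ha z hz
  exact ⟨h a ha z hz, h a⁻¹ (A.inv_mem ha) z hz⟩

theorem inv_apply_apply (g : LinearMap.GeneralLinearGroup k M) (v : M) :
    ((g⁻¹ : LinearMap.GeneralLinearGroup k M) : M →ₗ[k] M) ((g : M →ₗ[k] M) v) = v := by
  have : ((g⁻¹ : LinearMap.GeneralLinearGroup k M) : M →ₗ[k] M) * (g : M →ₗ[k] M) = 1 := by
    rw [← Units.val_mul, inv_mul_cancel, Units.val_one]
  have h2 : (((g⁻¹ : LinearMap.GeneralLinearGroup k M) : M →ₗ[k] M) * (g : M →ₗ[k] M)) v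
      = (1 : M →ₗ[k] M) v := by rw [this]
  rw [Module.End.mul_apply, Module.End.one_apply] at h2
  exact h2

theorem apply_inv_apply (g : LinearMap.GeneralLinearGroup k M) (v : M) :
    (g : M →ₗ[k] M) (((g⁻¹ : LinearMap.GeneralLinearGroup k M) : M →ₗ[k] M) v) = v := by
  have := inv_apply_apply g⁻¹ v
  simpa using this

/-- The elements of `GL(M)` stabilizing `Z` and centralizing `X` modulo `Z`. -/
def centS (X Z : Submodule k M) : Subgroup (LinearMap.GeneralLinearGroup k M) where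
  carrier := {g | g ∈ stab Z ∧ ∀ x ∈ X, (g : M →ₗ[k] M) x - x ∈ Z}
  one_mem' := by
    refine ⟨(stab Z).one_mem, fun x _ => ?_⟩
    simp
  mul_mem' := by
    rintro a b ⟨ha, ha'⟩ ⟨hb, hb'⟩
    refine ⟨(stab Z).mul_mem ha hb, fun x hx => ?_⟩
    have h1 : ((a * b : LinearMap.GeneralLinearGroup k M) : M →ₗ[k] M) x - x =
        (a : M →ₗ[k] M) ((b : M →ₗ[k] M) x - x) + ((a : M →ₗ[k] M) x - x) := by
      simp [Units.val_mul, Module.End.mul_apply, map_sub]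
    rw [h1]
    exact Z.add_mem ((ha _ (hb' x hx)).1) (ha' x hx)
  inv_mem' := by
    rintro a ⟨ha, ha'⟩
    refine ⟨(stab Z).inv_mem ha, fun x hx => ?_⟩
    have h1 : ((a⁻¹ : LinearMap.GeneralLinearGroup k M) : M →ₗ[k] M) x - x =
        - ((a⁻¹ : LinearMap.GeneralLinearGroup k M) : M →ₗ[k] M) ((a : M →ₗ[k] M) x - x) := by
      rw [map_sub, inv_apply_apply]; abel
    rw [h1]
    exact Z.neg_mem ((ha _ (ha' x hx)).2)

theorem mem_centS {X Z : Submodule k M} {g : LinearMap.GeneralLinearGroup k M} :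
    g ∈ centS X Z ↔ g ∈ stab Z ∧ ∀ x ∈ X, (g : M →ₗ[k] M) x - x ∈ Z := Iff.rfl

theorem centS_anti {X X' Z : Submodule k M} (h : X ≤ X') : centS X' Z ≤ centS X Z := by
  intro g hg
  exact ⟨hg.1, fun x hx => hg.2 x (h hx)⟩

theorem centS_sup (X X' Z : Submodule k M) : centS (X ⊔ X') Z = centS X Z ⊓ centS X' Z := by
  apply le_antisymm
  · exact le_inf (centS_anti le_sup_left) (centS_anti le_sup_right)
  · rintro g ⟨h1, h2⟩
    refine ⟨h1.1, fun x hx => ?_⟩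
    obtain ⟨y, hy, z, hz, rfl⟩ := Submodule.mem_sup.mp hx
    have : (g : M →ₗ[k] M) (y + z) - (y + z) = ((g : M →ₗ[k] M) y - y) + ((g : M →ₗ[k] M) z - z) := by
      rw [map_add]; abel
    rw [this]
    exact Z.add_mem (h1.2 y hy) (h2.2 z hz)

theorem centS_le_stab {X Z : Submodule k M} (h : Z ≤ X) : centS X Z ≤ stab X := by
  apply le_stab_of_forall
  intro a ha x hx
  have := ha.2 x hx
  have h2 : (a : M →ₗ[k] M) x = ((a : M →ₗ[k] M) x - x) + x := by abel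
  rw [h2]
  exact X.add_mem (h this) hx

/-- The vectors fixed by `H` modulo `Z`. -/
def fixS (H : Subgroup (LinearMap.GeneralLinearGroup k M)) (Z : Submodule k M) : Submodule k M where
  carrier := {v | ∀ h ∈ H, (h : M →ₗ[k] M) v - v ∈ Z}
  add_mem' := by
    intro a b ha hb h hh
    have : (h : M →ₗ[k] M) (a + b) - (a + b) = ((h : M →ₗ[k] M) a - a) + ((h : M →ₗ[k] M) b - b) := by
      rw [map_add]; abel
    rw [this]
    exact Z.add_mem (ha h hh) (hb h hh)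
  zero_mem' := by
    intro h _
    simp
  smul_mem' := by
    intro c a ha h hh
    have : (h : M →ₗ[k] M) (c • a) - c • a = c • ((h : M →ₗ[k] M) a - a) := by
      rw [map_smul, smul_sub]
    rw [this]
    exact Z.smul_mem c (ha h hh)

theorem mem_fixS {H : Subgroup (LinearMap.GeneralLinearGroup k M)} {Z : Submodule k M} {v : M} :
    v ∈ fixS H Z ↔ ∀ h ∈ H, (h : M →ₗ[k] M) v - v ∈ Z := Iff.rfl

theorem fixS_anti {H H' : Subgroup (LinearMap.GeneralLinearGroup k M)} (Z : Submodule k M) (h : H ≤ H') :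
    fixS H' Z ≤ fixS H Z := fun _ hv g hg => hv g (h hg)

theorem le_fixS_of_le_stab {H : Subgroup (LinearMap.GeneralLinearGroup k M)} {Z : Submodule k M}
    (h : H ≤ stab Z) : Z ≤ fixS H Z := by
  intro z hz g hg
  exact Z.sub_mem ((h hg z hz).1) hz

theorem le_centS_iff {H : Subgroup (LinearMap.GeneralLinearGroup k M)} {X Z : Submodule k M} :
    H ≤ centS X Z ↔ H ≤ stab Z ∧ X ≤ fixS H Z := by
  constructor
  · intro h
    exact ⟨fun g hg => (h hg).1, fun x hx g hg => (h hg).2 x hx⟩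
  · rintro ⟨h1, h2⟩ g hg
    exact ⟨h1 hg, fun x hx => h2 hx g hg⟩

theorem pr_mem_of_stab {H : Subgroup (LinearMap.GeneralLinearGroup k M)} {X : Submodule k M}
    (hX : H ≤ stab X) (l : List (LinearMap.GeneralLinearGroup k M)) (hl : ∀ g ∈ l, g ∈ H)
    (x : M) (hx : x ∈ X) : pr l x ∈ X := by
  induction l with
  | nil => rw [pr_nil]; exact hx
  | cons g l ih =>
    rw [pr_cons]
    have h1 := ih (fun g' hg' => hl g' (List.mem_cons_of_mem _ hg'))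
    exact X.sub_mem ((hX (hl g (List.mem_cons_self)) _ h1).1) h1

/-- A group acting unipotently modulo `Z` and stabilizing `X ⊄ Z` fixes a vector of `X ∖ Z` modulo `Z`. -/
theorem exists_fixed {H : Subgroup (LinearMap.GeneralLinearGroup k M)} {Z X : Submodule k M}
    (hX : H ≤ stab X) (hU : UnipMod H Z) (hXZ : ¬ X ≤ Z) :
    ∃ x ∈ X, x ∉ Z ∧ x ∈ fixS H Z := by
  obtain ⟨n, hn⟩ := hU
  have key : ∀ n : ℕ, (∀ l : List (LinearMap.GeneralLinearGroup k M), (∀ g ∈ l, g ∈ H) → l.length = n →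
      ∀ x ∈ X, pr l x ∈ Z) → ∃ x ∈ X, x ∉ Z ∧ x ∈ fixS H Z := by
    intro n
    induction n with
    | zero =>
      intro h
      exfalso
      apply hXZ
      intro x hx
      have := h [] (by simp) rfl x hx
      rwa [pr_nil] at this
    | succ n ih =>
      intro h
      by_cases hc : ∀ l : List (LinearMap.GeneralLinearGroup k M), (∀ g ∈ l, g ∈ H) → l.length = n →
          ∀ x ∈ X, pr l x ∈ Z
      · exact ih hc
      · push Not at hc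
        obtain ⟨l, hl, hlen, x, hx, hxZ⟩ := hc
        refine ⟨pr l x, pr_mem_of_stab hX l hl x hx, hxZ, ?_⟩
        intro g hg
        have := h (g :: l) (by
          intro g' hg'
          rcases List.mem_cons.mp hg' with rfl | h'
          · exact hg
          · exact hl g' h') (by simp [hlen]) x hx
        rwa [pr_cons] at this
  exact key n (fun l hl hlen x _ => hn l hl hlen x)

/-- Unipotent modulo `X` and centralizing `X` modulo `Z` gives unipotent modulo `Z`. -/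
theorem UnipMod.of_centS {H : Subgroup (LinearMap.GeneralLinearGroup k M)} {X Z : Submodule k M}
    (h : UnipMod H X) (hc : H ≤ centS X Z) : UnipMod H Z := by
  obtain ⟨n, hn⟩ := h
  refine ⟨n + 1, fun l hl hlen v => ?_⟩
  match l, hlen with
  | g :: l', hlen' =>
    rw [pr_cons]
    have h1 : pr l' v ∈ X := hn l' (fun g' hg' => hl g' (List.mem_cons_of_mem _ hg')) (by simpa using hlen') v
    exact (hc (hl g List.mem_cons_self)).2 _ h1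

/-- The flag: vectors killed modulo `Z` by all products of `i` terms from `H`. -/
def flag (H : Subgroup (LinearMap.GeneralLinearGroup k M)) (Z : Submodule k M) (i : ℕ) : Submodule k M where
  carrier := {v | ∀ l : List (LinearMap.GeneralLinearGroup k M), (∀ g ∈ l, g ∈ H) → l.length = i → pr l v ∈ Z}
  add_mem' := by
    intro a b ha hb l hl hlen
    rw [map_add]
    exact Z.add_mem (ha l hl hlen) (hb l hl hlen)
  zero_mem' := by
    intro l _ _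
    rw [map_zero]
    exact Z.zero_mem
  smul_mem' := by
    intro c a ha l hl hlen
    rw [map_smul]
    exact Z.smul_mem c (ha l hl hlen)

theorem mem_flag {H : Subgroup (LinearMap.GeneralLinearGroup k M)} {Z : Submodule k M} {i : ℕ} {v : M} :
    v ∈ flag H Z i ↔ ∀ l : List (LinearMap.GeneralLinearGroup k M), (∀ g ∈ l, g ∈ H) → l.length = i →
      pr l v ∈ Z := Iff.rfl

theorem flag_zero_le (H : Subgroup (LinearMap.GeneralLinearGroup k M)) (Z : Submodule k M) :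
    flag H Z 0 ≤ Z := by
  intro v hv
  have := hv [] (by simp) rfl
  rwa [pr_nil] at this

theorem pr_append (l₁ l₂ : List (LinearMap.GeneralLinearGroup k M)) (v : M) :
    pr (l₁ ++ l₂) v = pr l₁ (pr l₂ v) := by
  simp [pr, List.map_append, List.prod_append, Module.End.mul_apply]

theorem sub_mem_flag {H : Subgroup (LinearMap.GeneralLinearGroup k M)} {Z : Submodule k M} {i : ℕ} {v : M}
    (hv : v ∈ flag H Z (i + 1)) {u : LinearMap.GeneralLinearGroup k M} (hu : u ∈ H) :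
    (u : M →ₗ[k] M) v - v ∈ flag H Z i := by
  intro l hl hlen
  have := hv (l ++ [u]) (by
    intro g hg
    rcases List.mem_append.mp hg with h | h
    · exact hl g h
    · rw [List.mem_singleton] at h; rw [h]; exact hu) (by simp [hlen])
  rw [pr_append] at this
  have h2 : pr [u] v = (u : M →ₗ[k] M) v - v := by rw [pr_cons, pr_nil]
  rwa [h2] at this

theorem le_flag {H : Subgroup (LinearMap.GeneralLinearGroup k M)} {Z : Submodule k M} (hH : H ≤ stab Z)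
    (i : ℕ) : Z ≤ flag H Z i := by
  intro z hz l hl _
  exact pr_mem_of_stab hH l hl z hz

theorem flag_mono {H : Subgroup (LinearMap.GeneralLinearGroup k M)} {Z : Submodule k M} (hH : H ≤ stab Z)
    (i : ℕ) : flag H Z i ≤ flag H Z (i + 1) := by
  intro v hv l hl hlen
  match l, hlen with
  | g :: l', hlen' =>
    rw [pr_cons]
    have h1 : pr l' v ∈ Z := hv l' (fun g' hg' => hl g' (List.mem_cons_of_mem _ hg')) (by simpa using hlen')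
    exact Z.sub_mem ((hH (hl g List.mem_cons_self) _ h1).1) h1

theorem apply_mem_flag {H : Subgroup (LinearMap.GeneralLinearGroup k M)} {Z : Submodule k M} (hH : H ≤ stab Z)
    {i : ℕ} {v : M} (hv : v ∈ flag H Z i) {u : LinearMap.GeneralLinearGroup k M} (hu : u ∈ H) :
    (u : M →ₗ[k] M) v ∈ flag H Z i := by
  cases i with
  | zero =>
    have hz : v ∈ Z := flag_zero_le H Z hv
    exact le_flag hH 0 ((hH hu v hz).1)
  | succ i =>
    have h1 := flag_mono hH i (sub_mem_flag hv hu)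
    have h2 : (u : M →ₗ[k] M) v = ((u : M →ₗ[k] M) v - v) + v := by abel
    rw [h2]
    exact (flag H Z (i + 1)).add_mem h1 hv

section Main

variable (Z : Submodule k M) (𝒜 : Set (Subgroup (LinearMap.GeneralLinearGroup k M)))

/-- The members of the family centralizing `X` modulo `Z`. -/
def Sg (X : Submodule k M) : Set (Subgroup (LinearMap.GeneralLinearGroup k M)) :=
  {A | A ∈ 𝒜 ∧ A ≤ centS X Z}

/-- The subgroup generated by the members of the family centralizing `X` modulo `Z`. -/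
def Ug (X : Submodule k M) : Subgroup (LinearMap.GeneralLinearGroup k M) := sSup (Sg Z 𝒜 X)

/-- The closure of `X`: the vectors fixed modulo `Z` by `Ug X`. -/
def cl (X : Submodule k M) : Submodule k M := fixS (Ug Z 𝒜 X) Z

theorem Ug_le_centS (X : Submodule k M) : Ug Z 𝒜 X ≤ centS X Z := sSup_le (fun _ hA => hA.2)

theorem le_cl (X : Submodule k M) : X ≤ cl Z 𝒜 X := (le_centS_iff.mp (Ug_le_centS Z 𝒜 X)).2

theorem le_cl_base (X : Submodule k M) : Z ≤ cl Z 𝒜 X :=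
  le_fixS_of_le_stab (le_centS_iff.mp (Ug_le_centS Z 𝒜 X)).1

theorem Sg_anti {X X' : Submodule k M} (h : X ≤ X') : Sg Z 𝒜 X' ⊆ Sg Z 𝒜 X :=
  fun _ hA => ⟨hA.1, hA.2.trans (centS_anti h)⟩

theorem Sg_cl (X : Submodule k M) : Sg Z 𝒜 (cl Z 𝒜 X) = Sg Z 𝒜 X := by
  apply Set.Subset.antisymm
  · exact Sg_anti Z 𝒜 (le_cl Z 𝒜 X)
  · intro A hA
    refine ⟨hA.1, ?_⟩
    rw [le_centS_iff]
    exact ⟨(le_centS_iff.mp hA.2).1, fixS_anti Z (le_sSup hA)⟩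

theorem Ug_cl (X : Submodule k M) : Ug Z 𝒜 (cl Z 𝒜 X) = Ug Z 𝒜 X := by
  unfold Ug
  rw [Sg_cl]

theorem cl_cl (X : Submodule k M) : cl Z 𝒜 (cl Z 𝒜 X) = cl Z 𝒜 X := by
  unfold cl
  rw [show Ug Z 𝒜 (fixS (Ug Z 𝒜 X) Z) = Ug Z 𝒜 X from Ug_cl Z 𝒜 X]

theorem Sg_sup (X X' : Submodule k M) : Sg Z 𝒜 (X ⊔ X') = Sg Z 𝒜 X ∩ Sg Z 𝒜 X' := by
  ext A
  simp only [Sg, Set.mem_ofPred_eq, Set.mem_inter_iff, centS_sup, le_inf_iff]
  tauto

/-- Closed subspaces strictly above `Z`. -/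
def closed (X : Submodule k M) : Prop := Z < X ∧ cl Z 𝒜 X = X

theorem closed_cl {X : Submodule k M} (h : Z < X) : closed Z 𝒜 (cl Z 𝒜 X) :=
  ⟨lt_of_lt_of_le h (le_cl Z 𝒜 X), cl_cl Z 𝒜 X⟩

/-- Inclusion-minimal closed subspaces. -/
def isMin (X : Submodule k M) : Prop := closed Z 𝒜 X ∧ ∀ X', closed Z 𝒜 X' → X' ≤ X → X' = X

theorem exists_isMin_le [FiniteDimensional k M] {X₀ : Submodule k M} (h : closed Z 𝒜 X₀) :
    ∃ X, isMin Z 𝒜 X ∧ X ≤ X₀ := by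
  have hwf : WellFounded ((· < ·) : Submodule k M → Submodule k M → Prop) := wellFounded_lt
  let S : Set (Submodule k M) := {X | closed Z 𝒜 X ∧ X ≤ X₀}
  have hne : S.Nonempty := ⟨X₀, h, le_rfl⟩
  refine ⟨hwf.min S hne, ⟨(hwf.min_mem S hne).1, fun X' hX' hle => ?_⟩, (hwf.min_mem S hne).2⟩
  by_contra hne'
  have hlt : X' < hwf.min S hne := lt_of_le_of_ne hle hne'
  have hmem : X' ∈ S := ⟨hX', hle.trans (hwf.min_mem S hne).2⟩
  exact hwf.not_lt_min S hmem hlt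

theorem conjBy_le_of_mem {K A : Subgroup (LinearMap.GeneralLinearGroup k M)} (hA : A ≤ K)
    {b : LinearMap.GeneralLinearGroup k M} (hb : b ∈ K) : Cfsg.conjBy A b ≤ K := by
  rintro _ ⟨a, ha, rfl⟩
  show MulAut.conj b a ∈ K
  rw [MulAut.conj_apply]
  exact K.mul_mem (K.mul_mem hb (hA ha)) (K.inv_mem hb)

theorem conj_apply_sub (a c : LinearMap.GeneralLinearGroup k M) (y : M) :
    ((MulAut.conj a c : LinearMap.GeneralLinearGroup k M) : M →ₗ[k] M) y - y =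
      (a : M →ₗ[k] M) ((c : M →ₗ[k] M) (((a⁻¹ : LinearMap.GeneralLinearGroup k M) : M →ₗ[k] M) y) -
        ((a⁻¹ : LinearMap.GeneralLinearGroup k M) : M →ₗ[k] M) y) := by
  rw [MulAut.conj_apply, map_sub, apply_inv_apply]
  simp [Units.val_mul, Module.End.mul_apply]

/-- The normalizer-type step: a member of `Sg X₁` outside `Sg X₂` stabilizing `cl (X₁ ⊔ X₂)`. -/
theorem exists_stab (hst : ∀ A ∈ 𝒜, A ≤ stab Z)
    (hconj : ∀ A ∈ 𝒜, ∀ B ∈ 𝒜, ∀ b ∈ B, Cfsg.conjBy A b ∈ 𝒜)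
    (key : ∀ X, Z < X → UnipMod (Ug Z 𝒜 X) Z)
    {X₁ X₂ : Submodule k M} (h1 : isMin Z 𝒜 X₁) (h2 : isMin Z 𝒜 X₂) (hne : X₁ ≠ X₂) :
    ∃ A, A ∈ Sg Z 𝒜 X₁ ∧ A ∉ Sg Z 𝒜 X₂ ∧ A ≤ stab (cl Z 𝒜 (X₁ ⊔ X₂)) := by
  have hU₁st : Ug Z 𝒜 X₁ ≤ stab Z := fun g hg => (Ug_le_centS Z 𝒜 X₁ hg).1
  obtain ⟨n, hn⟩ := key X₁ h1.1.1
  have hnot : ¬ Sg Z 𝒜 X₁ ⊆ Sg Z 𝒜 X₂ := by
    intro hsub
    have h3 : Ug Z 𝒜 X₁ ≤ Ug Z 𝒜 X₂ := sSup_le_sSup hsub
    have h4 : X₂ ≤ X₁ := by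
      rw [← h2.1.2, ← h1.1.2]
      exact fixS_anti Z h3
    exact hne (h1.2 X₂ h2.1 h4).symm
  have hex : ∃ i, ¬ {A | A ∈ Sg Z 𝒜 X₁ ∧ ∀ a ∈ A, ∀ y ∈ cl Z 𝒜 (X₁ ⊔ X₂),
      (a : M →ₗ[k] M) y - y ∈ flag (Ug Z 𝒜 X₁) Z i} ⊆ Sg Z 𝒜 X₂ := by
    refine ⟨n, fun hsub => hnot (fun A hA => hsub ⟨hA, fun a _ y _ => ?_⟩)⟩
    intro l hl hlen
    exact hn l hl hlen _
  classical
  obtain ⟨i₀, hi₀, hmin⟩ : ∃ i, (¬ {A | A ∈ Sg Z 𝒜 X₁ ∧ ∀ a ∈ A, ∀ y ∈ cl Z 𝒜 (X₁ ⊔ X₂),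
      (a : M →ₗ[k] M) y - y ∈ flag (Ug Z 𝒜 X₁) Z i} ⊆ Sg Z 𝒜 X₂) ∧
      ∀ j < i, {A | A ∈ Sg Z 𝒜 X₁ ∧ ∀ a ∈ A, ∀ y ∈ cl Z 𝒜 (X₁ ⊔ X₂),
      (a : M →ₗ[k] M) y - y ∈ flag (Ug Z 𝒜 X₁) Z j} ⊆ Sg Z 𝒜 X₂ :=
    ⟨Nat.find hex, Nat.find_spec hex, fun j hj => not_not.mp (Nat.find_min hex hj)⟩
  have hX₂Y : X₂ ≤ cl Z 𝒜 (X₁ ⊔ X₂) := le_sup_right.trans (le_cl Z 𝒜 _)
  have h0 : {A | A ∈ Sg Z 𝒜 X₁ ∧ ∀ a ∈ A, ∀ y ∈ cl Z 𝒜 (X₁ ⊔ X₂),
      (a : M →ₗ[k] M) y - y ∈ flag (Ug Z 𝒜 X₁) Z 0} ⊆ Sg Z 𝒜 X₂ := by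
    rintro A ⟨hA, hA'⟩
    refine ⟨hA.1, ?_⟩
    rw [le_centS_iff]
    refine ⟨hst A hA.1, fun x hx a ha => ?_⟩
    exact flag_zero_le _ _ (hA' a ha x (hX₂Y hx))
  obtain ⟨j, rfl⟩ : ∃ j, i₀ = j + 1 := by
    cases i₀ with
    | zero => exact absurd h0 hi₀
    | succ j => exact ⟨j, rfl⟩
  obtain ⟨A, ⟨hA, hA'⟩, hAX₂⟩ := Set.not_subset.mp hi₀
  refine ⟨A, hA, hAX₂, ?_⟩
  have hAU : A ≤ Ug Z 𝒜 X₁ := le_sSup hA
  have hSgY : Sg Z 𝒜 (cl Z 𝒜 (X₁ ⊔ X₂)) = Sg Z 𝒜 X₁ ∩ Sg Z 𝒜 X₂ := by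
    rw [Sg_cl, Sg_sup]
  -- conjugation by elements of `A` preserves `Sg Y`
  have hperm : ∀ a ∈ A, ∀ A' ∈ Sg Z 𝒜 (cl Z 𝒜 (X₁ ⊔ X₂)),
      Cfsg.conjBy A' a ∈ Sg Z 𝒜 (cl Z 𝒜 (X₁ ⊔ X₂)) := by
    intro a ha A' hA'Y
    have hA'12 := hA'Y
    rw [hSgY] at hA'12
    obtain ⟨hA'1, hA'2⟩ := hA'12
    have hc1 : Cfsg.conjBy A' a ∈ Sg Z 𝒜 X₁ :=
      ⟨hconj A' hA'1.1 A hA.1 a ha, conjBy_le_of_mem hA'1.2 (hA.2 ha)⟩
    have hc2 : Cfsg.conjBy A' a ∈ Sg Z 𝒜 X₂ := by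
      apply hmin j (Nat.lt_succ_self j)
      refine ⟨hc1, ?_⟩
      rintro _ ⟨a', ha', rfl⟩ y hy
      show ((MulAut.conj a a' : LinearMap.GeneralLinearGroup k M) : M →ₗ[k] M) y - y ∈ _
      rw [conj_apply_sub]
      apply apply_mem_flag hU₁st _ (hAU ha)
      -- w = a⁻¹ y = y + f
      have hf := hA' a⁻¹ (A.inv_mem ha) y hy
      set f := ((a⁻¹ : LinearMap.GeneralLinearGroup k M) : M →ₗ[k] M) y - y with hfdef
      have hw : ((a⁻¹ : LinearMap.GeneralLinearGroup k M) : M →ₗ[k] M) y = y + f := by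
        rw [hfdef]; abel
      rw [hw]
      have h5 : (a' : M →ₗ[k] M) (y + f) - (y + f) =
          ((a' : M →ₗ[k] M) y - y) + ((a' : M →ₗ[k] M) f - f) := by
        rw [map_add]; abel
      rw [h5]
      apply Submodule.add_mem
      · exact le_flag hU₁st j ((hA'Y.2 ha').2 y hy)
      · exact sub_mem_flag hf (le_sSup hA'1 ha')
    rw [hSgY]
    exact ⟨hc1, hc2⟩
  apply le_stab_of_forall
  intro a ha y hy
  show (a : M →ₗ[k] M) y ∈ fixS (Ug Z 𝒜 (X₁ ⊔ X₂)) Z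
  rw [mem_fixS]
  intro d hd
  -- a⁻¹ d a ∈ D
  have hD : Ug Z 𝒜 (X₁ ⊔ X₂) ≤ (Ug Z 𝒜 (X₁ ⊔ X₂)).comap (MulAut.conj a⁻¹).toMonoidHom := by
    apply sSup_le
    intro A' hA'
    have hA'Y : A' ∈ Sg Z 𝒜 (cl Z 𝒜 (X₁ ⊔ X₂)) := by rw [Sg_cl]; exact hA'
    have h6 := hperm a⁻¹ (A.inv_mem ha) A' hA'Y
    rw [Sg_cl] at h6
    intro a' ha'
    rw [Subgroup.mem_comap]
    exact (le_sSup h6 : Cfsg.conjBy A' a⁻¹ ≤ Ug Z 𝒜 (X₁ ⊔ X₂)) (Subgroup.mem_map_of_mem _ ha')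
  have hd' := hD hd
  rw [Subgroup.mem_comap] at hd'
  have hy' : y ∈ fixS (Ug Z 𝒜 (X₁ ⊔ X₂)) Z := hy
  have h7 := hy' _ hd'
  have h8 : (d : M →ₗ[k] M) ((a : M →ₗ[k] M) y) - (a : M →ₗ[k] M) y =
      (a : M →ₗ[k] M) ((((MulAut.conj a⁻¹).toMonoidHom d : LinearMap.GeneralLinearGroup k M) :
        M →ₗ[k] M) y - y) := by
    show _ = (a : M →ₗ[k] M) (((MulAut.conj a⁻¹ d : LinearMap.GeneralLinearGroup k M) : M →ₗ[k] M) y - y)
    rw [conj_apply_sub, inv_inv, apply_inv_apply]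
  rw [h8]
  exact ((hst A hA.1 ha) _ h7).1

/-- Adding a member outside `Sg X₂` strictly shrinks the closure of the join. -/
theorem cl_sup_lt (hst : ∀ A ∈ 𝒜, A ≤ stab Z) {X₁ X₂ X₃ : Submodule k M}
    {A₁ : Subgroup (LinearMap.GeneralLinearGroup k M)} (hA₁ : A₁ ∈ Sg Z 𝒜 X₁) (hA₁' : A₁ ∉ Sg Z 𝒜 X₂)
    (hsub : Sg Z 𝒜 (cl Z 𝒜 (X₁ ⊔ X₂)) ⊆ Sg Z 𝒜 X₃) (hA₁3 : A₁ ∈ Sg Z 𝒜 X₃) :
    cl Z 𝒜 (X₁ ⊔ X₃) < cl Z 𝒜 (X₁ ⊔ X₂) := by
  have hle1 : Ug Z 𝒜 (X₁ ⊔ X₂) ≤ Ug Z 𝒜 (X₁ ⊔ X₃) := by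
    apply sSup_le_sSup
    intro A hA
    have hA2 : A ∈ Sg Z 𝒜 (cl Z 𝒜 (X₁ ⊔ X₂)) := by rw [Sg_cl]; exact hA
    rw [Sg_sup] at hA ⊢
    exact ⟨hA.1, hsub hA2⟩
  have hle2 : A₁ ≤ Ug Z 𝒜 (X₁ ⊔ X₃) := by
    apply le_sSup
    rw [Sg_sup]
    exact ⟨hA₁, hA₁3⟩
  have hle : cl Z 𝒜 (X₁ ⊔ X₃) ≤ cl Z 𝒜 (X₁ ⊔ X₂) := fixS_anti Z hle1
  refine lt_of_le_of_ne hle (fun heq => hA₁' ⟨hA₁.1, ?_⟩)
  rw [le_centS_iff]
  refine ⟨hst A₁ hA₁.1, ?_⟩
  calc X₂ ≤ X₁ ⊔ X₂ := le_sup_right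
    _ ≤ cl Z 𝒜 (X₁ ⊔ X₂) := le_cl Z 𝒜 _
    _ = cl Z 𝒜 (X₁ ⊔ X₃) := heq.symm
    _ ≤ fixS A₁ Z := fixS_anti Z hle2

/-- The inductive step. -/
theorem step [FiniteDimensional k M] (hst : ∀ A ∈ 𝒜, A ≤ stab Z)
    (hconj : ∀ A ∈ 𝒜, ∀ B ∈ 𝒜, ∀ b ∈ B, Cfsg.conjBy A b ∈ 𝒜)
    (hpair : ∀ A ∈ 𝒜, ∀ B ∈ 𝒜, UnipMod (A ⊔ B) Z)
    (key : ∀ X, Z < X → UnipMod (Ug Z 𝒜 X) Z) : UnipMod (sSup 𝒜) Z := by
  by_cases hZ : Z = ⊤
  · exact ⟨0, fun l _ _ v => by rw [hZ]; trivial⟩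
  have hZlt : Z < ⊤ := lt_top_iff_ne_top.mpr hZ
  have hclosedTop : closed Z 𝒜 ⊤ := ⟨hZlt, top_le_iff.mp (le_cl Z 𝒜 ⊤)⟩
  by_cases huniq : ∀ X₁ X₂, isMin Z 𝒜 X₁ → isMin Z 𝒜 X₂ → X₁ = X₂
  · obtain ⟨X₁, hX₁, -⟩ := exists_isMin_le Z 𝒜 hclosedTop
    have hall : 𝒜 ⊆ Sg Z 𝒜 X₁ := by
      intro A hA
      have hAu : UnipMod A Z := by
        have := hpair A hA A hA
        rwa [sup_idem] at this
      obtain ⟨v, -, hvZ, hvfix⟩ := exists_fixed (X := ⊤) (H := A)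
        (le_stab_of_forall (fun _ _ _ _ => trivial)) hAu (fun h => hZ (top_le_iff.mp h))
      have hZY₀ : Z < fixS A Z := by
        rw [SetLike.lt_iff_le_and_exists]
        exact ⟨le_fixS_of_le_stab (hst A hA), v, hvfix, hvZ⟩
      have hASg : A ∈ Sg Z 𝒜 (fixS A Z) := ⟨hA, le_centS_iff.mpr ⟨hst A hA, le_rfl⟩⟩
      obtain ⟨X', hX', hle⟩ := exists_isMin_le Z 𝒜 (closed_cl Z 𝒜 hZY₀)
      have hX'eq : X' = X₁ := huniq X' X₁ hX' hX₁
      rw [hX'eq] at hle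
      have h5 : A ∈ Sg Z 𝒜 (cl Z 𝒜 (fixS A Z)) := by rw [Sg_cl]; exact hASg
      exact Sg_anti Z 𝒜 hle h5
    have hle : sSup 𝒜 ≤ Ug Z 𝒜 X₁ := sSup_le_sSup hall
    exact (key X₁ hX₁.1.1).mono hle le_rfl
  · exfalso
    push Not at huniq
    classical
    have hP : ∃ m, ∃ X₁ X₂, isMin Z 𝒜 X₁ ∧ isMin Z 𝒜 X₂ ∧ X₁ ≠ X₂ ∧
        Module.finrank k (cl Z 𝒜 (X₁ ⊔ X₂)) = m := by
      obtain ⟨X₁, X₂, h1, h2, hne⟩ := huniq
      exact ⟨_, X₁, X₂, h1, h2, hne, rfl⟩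
    obtain ⟨X₁, X₂, h1, h2, hne, hm⟩ := Nat.find_spec hP
    have hminP : ∀ X₁' X₂', isMin Z 𝒜 X₁' → isMin Z 𝒜 X₂' → X₁' ≠ X₂' →
        Module.finrank k (cl Z 𝒜 (X₁ ⊔ X₂)) ≤ Module.finrank k (cl Z 𝒜 (X₁' ⊔ X₂')) := by
      intro X₁' X₂' h1' h2' hne'
      rw [hm]
      exact Nat.find_min' hP ⟨X₁', X₂', h1', h2', hne', rfl⟩
    obtain ⟨A₁, hA₁, hA₁', hA₁st⟩ := exists_stab Z 𝒜 hst hconj key h1 h2 hne
    obtain ⟨A₂, hA₂, hA₂', hA₂st⟩ := exists_stab Z 𝒜 hst hconj key h2 h1 (Ne.symm hne)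
    rw [sup_comm X₂ X₁] at hA₂st
    have hQst : A₁ ⊔ A₂ ≤ stab (cl Z 𝒜 (X₁ ⊔ X₂)) := sup_le hA₁st hA₂st
    have hQu : UnipMod (A₁ ⊔ A₂) Z := hpair A₁ hA₁.1 A₂ hA₂.1
    have hX₁Y : X₁ ≤ cl Z 𝒜 (X₁ ⊔ X₂) := le_sup_left.trans (le_cl Z 𝒜 _)
    have hYZ : ¬ cl Z 𝒜 (X₁ ⊔ X₂) ≤ Z := fun h => not_le_of_gt h1.1.1 (hX₁Y.trans h)
    obtain ⟨y₀, hy₀Y, hy₀Z, hy₀fix⟩ := exists_fixed hQst hQu hYZ
    have hQstZ : A₁ ⊔ A₂ ≤ stab Z := sup_le (hst A₁ hA₁.1) (hst A₂ hA₂.1)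
    have hZYQ : Z < cl Z 𝒜 (X₁ ⊔ X₂) ⊓ fixS (A₁ ⊔ A₂) Z := by
      rw [SetLike.lt_iff_le_and_exists]
      exact ⟨le_inf (le_cl_base Z 𝒜 _) (le_fixS_of_le_stab hQstZ), y₀, ⟨hy₀Y, hy₀fix⟩, hy₀Z⟩
    obtain ⟨X₃, h3, hle3⟩ := exists_isMin_le Z 𝒜 (closed_cl Z 𝒜 hZYQ)
    have hsub : Sg Z 𝒜 (cl Z 𝒜 (X₁ ⊔ X₂)) ⊆ Sg Z 𝒜 X₃ := by
      intro A hA
      have h4 : A ∈ Sg Z 𝒜 (cl Z 𝒜 (X₁ ⊔ X₂) ⊓ fixS (A₁ ⊔ A₂) Z) := Sg_anti Z 𝒜 inf_le_left hA
      rw [← Sg_cl] at h4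
      exact Sg_anti Z 𝒜 hle3 h4
    have hmem : ∀ A ∈ 𝒜, A ≤ A₁ ⊔ A₂ → A ∈ Sg Z 𝒜 X₃ := by
      intro A hA hAQ
      have h4 : A ∈ Sg Z 𝒜 (cl Z 𝒜 (X₁ ⊔ X₂) ⊓ fixS (A₁ ⊔ A₂) Z) := by
        refine ⟨hA, ?_⟩
        rw [le_centS_iff]
        exact ⟨hst A hA, inf_le_right.trans (fixS_anti Z hAQ)⟩
      rw [← Sg_cl] at h4
      exact Sg_anti Z 𝒜 hle3 h4
    have hA₁3 : A₁ ∈ Sg Z 𝒜 X₃ := hmem A₁ hA₁.1 le_sup_left
    have hA₂3 : A₂ ∈ Sg Z 𝒜 X₃ := hmem A₂ hA₂.1 le_sup_right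
    have e13 : X₁ = X₃ := by
      by_contra hne13
      have hlt := cl_sup_lt Z 𝒜 hst hA₁ hA₁' hsub hA₁3
      have h5 := Submodule.finrank_lt_finrank_of_lt hlt
      have h6 := hminP X₁ X₃ h1 h3 hne13
      omega
    have e23 : X₂ = X₃ := by
      by_contra hne23
      have hsub' : Sg Z 𝒜 (cl Z 𝒜 (X₂ ⊔ X₁)) ⊆ Sg Z 𝒜 X₃ := by
        rw [sup_comm X₂ X₁]; exact hsub
      have hlt := cl_sup_lt Z 𝒜 hst hA₂ hA₂' hsub' hA₂3
      rw [sup_comm X₂ X₁] at hlt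
      have h5 := Submodule.finrank_lt_finrank_of_lt hlt
      have h6 := hminP X₂ X₃ h2 h3 hne23
      omega
    exact hne (e13.trans e23.symm)

end Main

/-- The main theorem in relative form, by induction on the codimension of `Z`. -/
theorem main [FiniteDimensional k M] : ∀ (n : ℕ) (Z : Submodule k M)
    (𝒜 : Set (Subgroup (LinearMap.GeneralLinearGroup k M))),
    Module.finrank k M - Module.finrank k Z = n → (∀ A ∈ 𝒜, A ≤ stab Z) →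
    (∀ A ∈ 𝒜, ∀ B ∈ 𝒜, ∀ b ∈ B, Cfsg.conjBy A b ∈ 𝒜) →
    (∀ A ∈ 𝒜, ∀ B ∈ 𝒜, UnipMod (A ⊔ B) Z) → UnipMod (sSup 𝒜) Z := by
  intro n
  induction n using Nat.strong_induction_on with
  | _ n ih =>
    intro Z 𝒜 hn hst hconj hpair
    apply step Z 𝒜 hst hconj hpair
    intro X hX
    have hlt : Module.finrank k M - Module.finrank k X < n := by
      have h1 := Submodule.finrank_lt_finrank_of_lt hX
      have h2 : Module.finrank k X ≤ Module.finrank k M := Submodule.finrank_le X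
      omega
    have h3 := ih _ hlt X (Sg Z 𝒜 X) rfl ?_ ?_ ?_
    · exact UnipMod.of_centS h3 (Ug_le_centS Z 𝒜 X)
    · intro A hA
      exact hA.2.trans (centS_le_stab hX.le)
    · intro A hA B hB b hb
      exact ⟨hconj A hA.1 B hB.1 b hb, conjBy_le_of_mem hA.2 (hB.2 hb)⟩
    · intro A hA B hB
      exact (hpair A hA.1 B hB.1).mono le_rfl hX.le

/-- Let M be a finite-dimensional vector space over a field k, G ≤ GL(M), and 𝒲 a set of subgroups of G, invariant under conjugation by G, such that any two members of 𝒲 generate a subgroup acting unipotently on M (for some n all products of n endomorphisms g − 1 from it vanish). Then the subgroup generated by all members of 𝒲 acts unipotently on M and is normal in G. -/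
theorem result {k : Type*} [Field k] {M : Type*} [AddCommGroup M] [Module k M] [FiniteDimensional k M]
    {G : Subgroup (LinearMap.GeneralLinearGroup k M)} {W : Set (Subgroup (LinearMap.GeneralLinearGroup k M))} (hWG : ∀ A ∈ W, A ≤ G)
    (hWW : ∀ A ∈ W, ∀ B ∈ W, Cfsg.IsUnipotentOn (A ⊔ B)) (hWconj : ∀ A ∈ W, ∀ g ∈ G, Cfsg.conjBy A g ∈ W) :
    Cfsg.IsUnipotentOn (⨆ A ∈ W, A) ∧ ∀ g ∈ G, Cfsg.conjBy (⨆ A ∈ W, A) g = ⨆ A ∈ W, A := by
  constructor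
  · rw [← sSup_eq_iSup, isUnipotentOn_iff]
    apply main _ ⊥ W rfl
    · intro A _ a _ z hz
      rw [Submodule.mem_bot] at hz
      subst hz
      simp
    · intro A hA B hB b hb
      exact hWconj A hA b (hWG B hB hb)
    · intro A hA B hB
      rw [← isUnipotentOn_iff]
      exact hWW A hA B hB
  · have hle : ∀ g ∈ G, Cfsg.conjBy (⨆ A ∈ W, A) g ≤ ⨆ A ∈ W, A := by
      intro g hg
      unfold Cfsg.conjBy
      rw [Subgroup.map_le_iff_le_comap]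
      apply iSup₂_le
      intro A hA
      rw [← Subgroup.map_le_iff_le_comap]
      exact le_iSup₂_of_le (Cfsg.conjBy A g) (hWconj A hA g hg) le_rfl
    intro g hg
    apply le_antisymm (hle g hg)
    have h2 := hle g⁻¹ (G.inv_mem hg)
    intro x hx
    have h3 : (MulAut.conj g⁻¹) x ∈ Cfsg.conjBy (⨆ A ∈ W, A) g⁻¹ := Subgroup.mem_map_of_mem _ hx
    have h4 := h2 h3
    have h5 : (MulAut.conj g) ((MulAut.conj g⁻¹) x) ∈ Cfsg.conjBy (⨆ A ∈ W, A) g :=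
      Subgroup.mem_map_of_mem _ h4
    have h6 : (MulAut.conj g) ((MulAut.conj g⁻¹) x) = x := by
      simp only [MulAut.conj_apply, inv_inv]
      group
    rw [h6] at h5
    exact h5

end Cfsg.Agent.S5061
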