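import Cfsg.Statements.S5067

set_option autoImplicit false
open Cfsg
open scoped Pointwise

namespace Cfsg.Agent.S5067

/-- The normal closure of a commutative subgroup of a non-commutative nilpotent group has smaller
nilpotency class. -/
theorem class_lt {P : Type*} [Group P] [Group.IsNilpotent P] (hna : ¬ IsMulCommutative P)
    {E : Subgroup P} (hE : IsMulCommutative ↥E) :
    Group.nilpotencyClass ↥(Subgroup.normalClosure (E : Set P)) < Group.nilpotencyClass P := by
  have hc : 2 ≤ Group.nilpotencyClass P := by
    by_contra h
    have h1 : Group.nilpotencyClass P ≤ 1 := by omega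
    rw [← Subgroup.lowerCentralSeries_eq_bot_iff_nilpotencyClass_le,
      Subgroup.top_lowerCentralSeries_one, commutator_eq_bot_iff] at h1
    exact hna h1
  set A := E ⊔ commutator P with hA
  have hAn : A.Normal := Subgroup.Normal.of_commutator_le P le_sup_right
  have hNA : Subgroup.normalClosure (E : Set P) ≤ A :=
    Subgroup.normalClosure_le_normal (fun x hx => (le_sup_left : E ≤ A) hx)
  have hAA : ⁅A, A⁆ ≤ (⊤ : Subgroup P).lowerCentralSeries 2 := by
    rw [Subgroup.commutator_le]
    intro a ha b hb
    have hmul : (A : Set P) = (E : Set P) * (commutator P : Set P) :=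
      Subgroup.mul_normal E (commutator P)
    rw [← SetLike.mem_coe, hmul] at ha hb
    obtain ⟨e, he, d, hd, rfl⟩ := Set.mem_mul.mp ha
    obtain ⟨e', he', d', hd', rfl⟩ := Set.mem_mul.mp hb
    haveI : ((⊤ : Subgroup P).lowerCentralSeries 2).Normal := inferInstance
    rw [← QuotientGroup.eq_one_iff, ← QuotientGroup.mk'_apply, map_commutatorElement,
      commutatorElement_eq_one_iff_commute]
    have hcentral : ∀ x ∈ commutator P, ∀ y : P,
        Commute ((QuotientGroup.mk' ((⊤ : Subgroup P).lowerCentralSeries 2)) x)
          ((QuotientGroup.mk' ((⊤ : Subgroup P).lowerCentralSeries 2)) y) := by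
      intro x hx y
      rw [← commutatorElement_eq_one_iff_commute, ← map_commutatorElement, QuotientGroup.mk'_apply,
        QuotientGroup.eq_one_iff]
      exact Subgroup.commutator_mem_commutator hx (Subgroup.mem_top y)
    have hee : Commute ((QuotientGroup.mk' ((⊤ : Subgroup P).lowerCentralSeries 2)) e)
        ((QuotientGroup.mk' ((⊤ : Subgroup P).lowerCentralSeries 2)) e') := by
      have h1 := hE.is_comm.comm ⟨e, he⟩ ⟨e', he'⟩
      have h2 : e * e' = e' * e := congrArg Subtype.val h1
      have h3 : Commute e e' := h2
      exact h3.map _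
    rw [map_mul, map_mul]
    exact Commute.mul_left (Commute.mul_right hee (hcentral d' hd' e).symm)
      (Commute.mul_right (hcentral d hd e') (hcentral d hd d'))
  set N := Subgroup.normalClosure (E : Set P) with hN
  have hind : ∀ i : ℕ, N.lowerCentralSeries (i + 1) ≤ (⊤ : Subgroup P).lowerCentralSeries (i + 2) := by
    intro i
    induction i with
    | zero =>
      rw [Subgroup.lowerCentralSeries_succ, Subgroup.lowerCentralSeries_zero]
      exact (Subgroup.commutator_mono hNA hNA).trans hAA
    | succ k ih =>
      rw [Subgroup.lowerCentralSeries_succ, Subgroup.lowerCentralSeries_succ (⊤ : Subgroup P) (k + 2)]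
      exact Subgroup.commutator_mono ih le_top
  obtain ⟨k, hk⟩ : ∃ k, Group.nilpotencyClass P = k + 2 := ⟨Group.nilpotencyClass P - 2, by omega⟩
  have hbot : (⊤ : Subgroup P).lowerCentralSeries (k + 2) = ⊥ := by
    rw [Subgroup.lowerCentralSeries_eq_bot_iff_nilpotencyClass_le, hk]
  have h1 : N.lowerCentralSeries (k + 1) = ⊥ := by
    rw [eq_bot_iff, ← hbot]; exact hind k
  have h2 : (⊤ : Subgroup N).lowerCentralSeries (k + 1) = ⊥ := by
    rw [← Subgroup.top_subtype_lowerCentralSeries] at h1
    exact (Subgroup.map_eq_bot_iff_of_injective _ N.subtype_injective).mp h1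
  rw [Subgroup.lowerCentralSeries_eq_bot_iff_nilpotencyClass_le] at h2
  omega

/-- Let P be a non-abelian nilpotent p-group (every element of p-power order; P possibly infinite) generated by two abelian subgroups E and F. Then the normal closure of E in P, and likewise that of F, has nilpotency class strictly smaller than that of P. -/
theorem result {P : Type*} [Group P] {p : ℕ} [Fact p.Prime] (hP : IsPGroup p P) [Group.IsNilpotent P]
    (hna : ¬ IsMulCommutative P) {E F : Subgroup P} (hE : IsMulCommutative ↥E) (hF : IsMulCommutative ↥F) (hgen : E ⊔ F = ⊤) :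
    Group.nilpotencyClass ↥(Subgroup.normalClosure (E : Set P)) < Group.nilpotencyClass P ∧
    Group.nilpotencyClass ↥(Subgroup.normalClosure (F : Set P)) < Group.nilpotencyClass P :=
  ⟨class_lt hna hE, class_lt hna hF⟩

end Cfsg.Agent.S5067
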