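import Cfsg.Statements.S5071
import Cfsg.Agent.Lib.Helper13_RootSub
import Cfsg.Agent.Lib.Helper13_Herm
import Cfsg.Agent.Lib.Helper94_HermBridge

set_option autoImplicit false
open Matrix
open Cfsg

namespace Cfsg.Agent.S5071

open Cfsg.Agent.Lib.Helper13_Herm Cfsg.Agent.Lib.Helper13_RootSL2 Cfsg.Agent.Lib.Helper13_RootSub
  Cfsg.Agent.Lib.Helper83_RankOne Cfsg.Agent.Lib.Helper94_Herm Cfsg.Agent.Lib.Helper94_HermBridge
open scoped commutatorElement

variable {F : Type*} [Field F] [Fintype F] {q : ℕ}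

/-- A field with `q` elements inside a field with `q ^ 2` elements, as the fixed field of `x ↦ x ^ q`. -/
theorem exists_subfield (hF : Fintype.card F = q ^ 2) :
    ∃ (L : Type) (_ : Field L) (_ : Fintype L) (ι : L →+* F), Fintype.card L = q ∧
      (∀ s : L, s ^ q = s) ∧ ∀ x : F, x ^ q = x → ∃ s : L, ι s = x := by
  classical
  obtain ⟨p, j, hp, hchar, rfl⟩ := exists_char_pow hF
  have hq2 := two_le_q hF
  have hj : j ≠ 0 := by
    rintro rfl
    simp at hq2
  have := Fact.mk hp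
  let _ : Algebra (ZMod p) F := ZMod.algebra F p
  have hfin : Finite (GaloisField p j) := inferInstance
  let _ : Fintype (GaloisField p j) := Fintype.ofFinite _
  have hcard : Fintype.card (GaloisField p j) = p ^ j := by
    rw [Fintype.card_eq_nat_card, GaloisField.card p j hj]
  have h1 : Module.finrank (ZMod p) (GaloisField p j) = j := GaloisField.finrank p hj
  have h2 : Module.finrank (ZMod p) F = 2 * j := by
    have h3 : Fintype.card F = p ^ Module.finrank (ZMod p) F := by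
      rw [Module.card_eq_pow_finrank (K := ZMod p) (V := F), ZMod.card]
    rw [hF, ← pow_mul] at h3
    exact (Nat.pow_right_injective hp.two_le h3).symm.trans (mul_comm j 2)
  obtain ⟨f⟩ := FiniteField.nonempty_algHom_of_finrank_dvd (F := ZMod p) (K := GaloisField p j)
    (L := F) (by rw [h1, h2]; exact dvd_mul_left _ _)
  have hpow : ∀ s : GaloisField p j, s ^ (p ^ j) = s := by
    intro s
    rw [← hcard, FiniteField.pow_card]
  refine ⟨GaloisField p j, inferInstance, inferInstance, f.toRingHom, hcard, hpow, ?_⟩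
  intro x hx
  -- root counting
  have hP0 : (Polynomial.X ^ (p ^ j) - Polynomial.X : Polynomial F) ≠ 0 :=
    FiniteField.X_pow_card_sub_X_ne_zero F (by omega)
  have hdeg : (Polynomial.X ^ (p ^ j) - Polynomial.X : Polynomial F).natDegree = p ^ j :=
    FiniteField.X_pow_card_sub_X_natDegree_eq F (by omega)
  have hroot : ∀ y : F, y ^ (p ^ j) = y →
      y ∈ (Polynomial.X ^ (p ^ j) - Polynomial.X : Polynomial F).roots.toFinset := by
    intro y hy
    rw [Multiset.mem_toFinset, Polynomial.mem_roots hP0]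
    simp [hy]
  have hsub : Finset.univ.image f.toRingHom ⊆
      (Polynomial.X ^ (p ^ j) - Polynomial.X : Polynomial F).roots.toFinset := by
    intro y hy
    obtain ⟨s, -, rfl⟩ := Finset.mem_image.mp hy
    apply hroot
    rw [← map_pow, hpow]
  have hc1 : (Finset.univ.image f.toRingHom).card = p ^ j := by
    rw [Finset.card_image_of_injective _ f.toRingHom.injective, Finset.card_univ, hcard]
  have hc2 : (Polynomial.X ^ (p ^ j) - Polynomial.X : Polynomial F).roots.toFinset.card ≤ p ^ j := by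
    calc _ ≤ Multiset.card (Polynomial.X ^ (p ^ j) - Polynomial.X : Polynomial F).roots :=
          Multiset.toFinset_card_le _
      _ ≤ _ := by
          have := Polynomial.card_roots' (Polynomial.X ^ (p ^ j) - Polynomial.X : Polynomial F)
          rwa [hdeg] at this
  have heq := Finset.eq_of_subset_of_card_le hsub (by rw [hc1]; exact hc2)
  have hx' := hroot x hx
  rw [← heq] at hx'
  obtain ⟨s, -, hs⟩ := Finset.mem_image.mp hx'
  exact ⟨s, hs⟩

variable {N : ℕ}

/-! ### Calculus in the special unitary group -/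

omit [Fintype F] in
theorem su_ext {g g' : ↥(Cfsg.SU N F q)}
    (H : ∀ v, ((g : Matrix.SpecialLinearGroup (Fin N) F) : Matrix (Fin N) (Fin N) F) *ᵥ v
      = ((g' : Matrix.SpecialLinearGroup (Fin N) F) : Matrix (Fin N) (Fin N) F) *ᵥ v) : g = g' :=
  Subtype.ext (Subtype.ext (Matrix.ext_iff_mulVec.mpr H))

omit [Fintype F] in
theorem su_mul_mulVec (g g' : ↥(Cfsg.SU N F q)) (v : Fin N → F) :
    (((g * g' : ↥(Cfsg.SU N F q)) : Matrix.SpecialLinearGroup (Fin N) F) :
      Matrix (Fin N) (Fin N) F) *ᵥ v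
      = ((g : Matrix.SpecialLinearGroup (Fin N) F) : Matrix (Fin N) (Fin N) F) *ᵥ
        (((g' : Matrix.SpecialLinearGroup (Fin N) F) : Matrix (Fin N) (Fin N) F) *ᵥ v) := by
  rw [Matrix.mulVec_mulVec]
  rfl

omit [Fintype F] in
theorem su_one_mulVec (v : Fin N → F) :
    (((1 : ↥(Cfsg.SU N F q)) : Matrix.SpecialLinearGroup (Fin N) F) :
      Matrix (Fin N) (Fin N) F) *ᵥ v = v := by
  rw [Subgroup.coe_one, Matrix.SpecialLinearGroup.coe_one, Matrix.one_mulVec]

omit [Fintype F] in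
theorem su_inv_mulVec_mulVec (g : ↥(Cfsg.SU N F q)) (v : Fin N → F) :
    (((g⁻¹ : ↥(Cfsg.SU N F q)) : Matrix.SpecialLinearGroup (Fin N) F) :
      Matrix (Fin N) (Fin N) F) *ᵥ
      (((g : Matrix.SpecialLinearGroup (Fin N) F) : Matrix (Fin N) (Fin N) F) *ᵥ v) = v := by
  rw [← su_mul_mulVec, inv_mul_cancel, su_one_mulVec]

omit [Fintype F] in
theorem su_mulVec_inv_mulVec (g : ↥(Cfsg.SU N F q)) (v : Fin N → F) :
    ((g : Matrix.SpecialLinearGroup (Fin N) F) : Matrix (Fin N) (Fin N) F) *ᵥ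
      ((((g⁻¹ : ↥(Cfsg.SU N F q)) : Matrix.SpecialLinearGroup (Fin N) F) :
        Matrix (Fin N) (Fin N) F) *ᵥ v) = v := by
  rw [← su_mul_mulVec, mul_inv_cancel, su_one_mulVec]

omit [Fintype F] in
theorem su_form (g : ↥(Cfsg.SU N F q)) (u v : Fin N → F) :
    Cfsg.hermForm N F q
      (((g : Matrix.SpecialLinearGroup (Fin N) F) : Matrix (Fin N) (Fin N) F) *ᵥ u)
      (((g : Matrix.SpecialLinearGroup (Fin N) F) : Matrix (Fin N) (Fin N) F) *ᵥ v)
      = Cfsg.hermForm N F q u v := g.2 u v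

theorem herm_swap_zero (hF : Fintype.card F = q ^ 2) {u v : Fin N → F}
    (h : Cfsg.hermForm N F q u v = 0) : Cfsg.hermForm N F q v u = 0 := by
  rw [← hermForm_pow_q N hF u v, h, zero_pow (by have := two_le_q hF; omega)]

theorem herm_swap_ne_zero (hF : Fintype.card F = q ^ 2) {u v : Fin N → F}
    (h : Cfsg.hermForm N F q u v ≠ 0) : Cfsg.hermForm N F q v u ≠ 0 :=
  fun h0 => h (herm_swap_zero hF h0)

theorem herm_swap_one (hF : Fintype.card F = q ^ 2) {u v : Fin N → F}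
    (h : Cfsg.hermForm N F q u v = 1) : Cfsg.hermForm N F q v u = 1 := by
  rw [← hermForm_pow_q N hF u v, h, one_pow]

/-! ### Unitary transvections -/

/-- `g` is the unitary transvection `v ↦ v + a h(v, p) p`. -/
def IsTv (p : Fin N → F) (a : F) (g : ↥(Cfsg.SU N F q)) : Prop :=
  ∀ v, ((g : Matrix.SpecialLinearGroup (Fin N) F) : Matrix (Fin N) (Fin N) F) *ᵥ v
    = v + (a * Cfsg.hermForm N F q v p) • p

omit [Fintype F] in
theorem isTv_unique {p : Fin N → F} {a : F} {g g' : ↥(Cfsg.SU N F q)} (h : IsTv p a g)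
    (h' : IsTv p a g') : g = g' :=
  su_ext fun v => (h v).trans (h' v).symm

omit [Fintype F] in
theorem isTv_one (p : Fin N → F) : IsTv p 0 (1 : ↥(Cfsg.SU N F q)) := by
  intro v
  rw [su_one_mulVec, zero_mul, zero_smul, add_zero]

omit [Fintype F] in
theorem isTv_mul {p : Fin N → F} (hp : Cfsg.hermForm N F q p p = 0) {a a' : F}
    {g g' : ↥(Cfsg.SU N F q)} (h : IsTv p a g) (h' : IsTv p a' g') : IsTv p (a + a') (g * g') := by
  intro v
  rw [su_mul_mulVec, h' v, h _, hermForm_add_left, hermForm_smul_left, hp, mul_zero, add_zero,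
    add_assoc, ← add_smul]
  congr 2
  ring

omit [Fintype F] in
theorem isTv_inv {p : Fin N → F} (hp : Cfsg.hermForm N F q p p = 0) {a : F}
    {g : ↥(Cfsg.SU N F q)} (h : IsTv p a g) : IsTv p (-a) g⁻¹ := by
  intro v
  have h1 := h (v + (-a * Cfsg.hermForm N F q v p) • p)
  rw [hermForm_add_left, hermForm_smul_left, hp, mul_zero, add_zero] at h1
  have h2 : v + (-a * Cfsg.hermForm N F q v p) • p + (a * Cfsg.hermForm N F q v p) • p = v := by
    rw [add_assoc, ← add_smul]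
    simp
  rw [h2] at h1
  have h3 := su_inv_mulVec_mulVec g (v + (-a * Cfsg.hermForm N F q v p) • p)
  rw [h1] at h3
  exact h3

omit [Fintype F] in
theorem isTv_conj {p : Fin N → F} {a : F} {y : ↥(Cfsg.SU N F q)} (h : IsTv p a y)
    (g : ↥(Cfsg.SU N F q)) :
    IsTv (((g : Matrix.SpecialLinearGroup (Fin N) F) : Matrix (Fin N) (Fin N) F) *ᵥ p) a
      (g * y * g⁻¹) := by
  intro v
  rw [su_mul_mulVec, su_mul_mulVec, h _, Matrix.mulVec_add, Matrix.mulVec_smul,
    su_mulVec_inv_mulVec]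
  congr 3
  rw [← su_form g, su_mulVec_inv_mulVec]

omit [Fintype F] in
theorem isTv_smul {p : Fin N → F} {a c : F} {g : ↥(Cfsg.SU N F q)} (h : IsTv (c • p) a g) :
    IsTv p (a * c ^ q * c) g := by
  intro v
  rw [h v, hermForm_smul_right, smul_smul]
  congr 2
  ring

theorem isTv_comm (hF : Fintype.card F = q ^ 2) {p p' : Fin N → F}
    (hpp' : Cfsg.hermForm N F q p p' = 0) {a a' : F} {g g' : ↥(Cfsg.SU N F q)}
    (h : IsTv p a g) (h' : IsTv p' a' g') : g * g' = g' * g := by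
  have hp'p := herm_swap_zero hF hpp'
  apply su_ext
  intro v
  rw [su_mul_mulVec, su_mul_mulVec, h' v, h v, h _, h' _]
  simp only [hermForm_add_left, hermForm_smul_left, hpp', hp'p, mul_zero, add_zero]
  abel

/-- Unitary transvections preserve the form. -/
theorem preserves_of_tv (hF : Fintype.card F = q ^ 2) {p : Fin N → F}
    (hp : Cfsg.hermForm N F q p p = 0) {a : F} (ha : a + a ^ q = 0)
    {A : Matrix (Fin N) (Fin N) F}
    (hA : ∀ v, A *ᵥ v = v + (a * Cfsg.hermForm N F q v p) • p) (u v : Fin N → F) :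
    Cfsg.hermForm N F q (A *ᵥ u) (A *ᵥ v) = Cfsg.hermForm N F q u v := by
  rw [hA u, hA v]
  simp only [hermForm_add_left, hermForm_add_right N hF, hermForm_smul_left, hermForm_smul_right,
    hp, mul_zero, add_zero, mul_pow]
  rw [← hermForm_pow_q N hF v p]
  linear_combination (Cfsg.hermForm N F q u p * Cfsg.hermForm N F q v p ^ q) * ha


/-! ### The transvection subgroups -/

omit [Fintype F] in
theorem exists_herm_one {p : Fin N → F} (hp0 : p ≠ 0) :
    ∃ w, Cfsg.hermForm N F q w p = 1 := by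
  obtain ⟨i, hi⟩ := Function.ne_iff.mp hp0
  have h1 : Cfsg.hermForm N F q (Pi.single i 1) p ≠ 0 := by
    rw [hermForm_single_left]
    exact pow_ne_zero _ hi
  refine ⟨(Cfsg.hermForm N F q (Pi.single i 1) p)⁻¹ • Pi.single i 1, ?_⟩
  rw [hermForm_smul_left, inv_mul_cancel₀ h1]

theorem gen_iff (hF : Fintype.card F = q ^ 2) {p : Fin N → F} (hp0 : p ≠ 0)
    (hp : Cfsg.hermForm N F q p p = 0) (g : ↥(Cfsg.SU N F q)) :
    ((∀ v : Fin N → F, ∃ c : F,
        ((g : Matrix.SpecialLinearGroup (Fin N) F) : Matrix (Fin N) (Fin N) F) *ᵥ v = v + c • p) ∧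
      ∀ v : Fin N → F, Cfsg.hermForm N F q v p = 0 →
        ((g : Matrix.SpecialLinearGroup (Fin N) F) : Matrix (Fin N) (Fin N) F) *ᵥ v = v)
      ↔ ∃ a : F, a + a ^ q = 0 ∧ IsTv p a g := by
  constructor
  · rintro ⟨H1, H2⟩
    obtain ⟨w, hw⟩ := exists_herm_one (q := q) hp0
    obtain ⟨a, ha⟩ := H1 w
    have hT : IsTv p a g := by
      intro v
      have hv' : Cfsg.hermForm N F q (v - Cfsg.hermForm N F q v p • w) p = 0 := by
        rw [sub_eq_add_neg, ← neg_smul, hermForm_add_left, hermForm_smul_left, hw]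
        ring
      have e1 : ((g : Matrix.SpecialLinearGroup (Fin N) F) : Matrix (Fin N) (Fin N) F) *ᵥ v
          = ((g : Matrix.SpecialLinearGroup (Fin N) F) : Matrix (Fin N) (Fin N) F) *ᵥ
              (v - Cfsg.hermForm N F q v p • w)
            + Cfsg.hermForm N F q v p •
              (((g : Matrix.SpecialLinearGroup (Fin N) F) : Matrix (Fin N) (Fin N) F) *ᵥ w) := by
        rw [← Matrix.mulVec_smul, ← Matrix.mulVec_add]
        congr 1
        abel
      rw [e1, H2 _ hv', ha, smul_add, smul_smul, mul_comm a]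
      abel
    refine ⟨a, ?_, hT⟩
    have h1 := su_form g w w
    rw [hT w, hw, mul_one] at h1
    have hpw : Cfsg.hermForm N F q p w = 1 := herm_swap_one hF hw
    simp only [hermForm_add_left, hermForm_add_right N hF, hermForm_smul_left,
      hermForm_smul_right, hp, hw, hpw, mul_zero, add_zero, mul_one] at h1
    linear_combination h1
  · rintro ⟨a, -, hT⟩
    refine ⟨fun v => ⟨_, hT v⟩, fun v hv => ?_⟩
    rw [hT v, hv, mul_zero, zero_smul, add_zero]

/-- The group of unitary transvections with centre spanned by `p`. -/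
def T (N : ℕ) (F : Type*) [Field F] (q : ℕ) (p : Fin N → F) : Subgroup ↥(Cfsg.SU N F q) :=
  Subgroup.closure {g : ↥(Cfsg.SU N F q) |
    (∀ v : Fin N → F, ∃ c : F,
      ((g : Matrix.SpecialLinearGroup (Fin N) F) : Matrix (Fin N) (Fin N) F) *ᵥ v = v + c • p) ∧
    ∀ v : Fin N → F, Cfsg.hermForm N F q v p = 0 →
      ((g : Matrix.SpecialLinearGroup (Fin N) F) : Matrix (Fin N) (Fin N) F) *ᵥ v = v}

theorem mem_T_iff (hF : Fintype.card F = q ^ 2) {p : Fin N → F} (hp0 : p ≠ 0)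
    (hp : Cfsg.hermForm N F q p p = 0) (g : ↥(Cfsg.SU N F q)) :
    g ∈ T N F q p ↔ ∃ a : F, a + a ^ q = 0 ∧ IsTv p a g := by
  have hq0 : q ≠ 0 := by have := two_le_q hF; omega
  constructor
  · intro hg
    unfold T at hg
    induction hg using Subgroup.closure_induction with
    | mem x hx => exact (gen_iff hF hp0 hp x).mp hx
    | one => exact ⟨0, by rw [zero_pow hq0, add_zero], isTv_one p⟩
    | mul x y _ _ hx hy =>
      obtain ⟨a, ha, hTa⟩ := hx
      obtain ⟨a', ha', hTa'⟩ := hy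
      refine ⟨a + a', ?_, isTv_mul hp hTa hTa'⟩
      rw [add_pow_q hF]
      linear_combination ha + ha'
    | inv x _ hx =>
      obtain ⟨a, ha, hTa⟩ := hx
      refine ⟨-a, ?_, isTv_inv hp hTa⟩
      rw [neg_pow_q hF]
      linear_combination -ha
  · intro h
    exact Subgroup.subset_closure ((gen_iff hF hp0 hp g).mpr h)

omit [Fintype F] in
theorem smul_iso {p : Fin N → F} (hp : Cfsg.hermForm N F q p p = 0) (c : F) :
    Cfsg.hermForm N F q (c • p) (c • p) = 0 := by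
  rw [hermForm_smul_left, hermForm_smul_right, hp, mul_zero, mul_zero]

theorem T_smul_le (hF : Fintype.card F = q ^ 2) {p : Fin N → F} (hp0 : p ≠ 0)
    (hp : Cfsg.hermForm N F q p p = 0) {c : F} (hc : c ≠ 0) :
    T N F q (c • p) ≤ T N F q p := by
  intro g hg
  rw [mem_T_iff hF (smul_ne_zero hc hp0) (smul_iso hp c)] at hg
  obtain ⟨a, ha, hT⟩ := hg
  rw [mem_T_iff hF hp0 hp]
  refine ⟨a * c ^ q * c, ?_, isTv_smul hT⟩
  rw [mul_pow, mul_pow, pow_q_pow_q hF]
  linear_combination (c ^ q * c) * ha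

theorem T_smul (hF : Fintype.card F = q ^ 2) {p : Fin N → F} (hp0 : p ≠ 0)
    (hp : Cfsg.hermForm N F q p p = 0) {c : F} (hc : c ≠ 0) :
    T N F q (c • p) = T N F q p := by
  apply le_antisymm (T_smul_le hF hp0 hp hc)
  have h1 := T_smul_le hF (smul_ne_zero hc hp0) (smul_iso hp c) (inv_ne_zero hc)
  rwa [smul_smul, inv_mul_cancel₀ hc, one_smul] at h1

theorem conjBy_T (hF : Fintype.card F = q ^ 2) {p : Fin N → F} (hp0 : p ≠ 0)
    (hp : Cfsg.hermForm N F q p p = 0) (g : ↥(Cfsg.SU N F q)) :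
    (((g : Matrix.SpecialLinearGroup (Fin N) F) : Matrix (Fin N) (Fin N) F) *ᵥ p ≠ 0 ∧
      Cfsg.hermForm N F q (((g : Matrix.SpecialLinearGroup (Fin N) F) :
        Matrix (Fin N) (Fin N) F) *ᵥ p) (((g : Matrix.SpecialLinearGroup (Fin N) F) :
        Matrix (Fin N) (Fin N) F) *ᵥ p) = 0) ∧
    Cfsg.conjBy (T N F q p) g
      = T N F q (((g : Matrix.SpecialLinearGroup (Fin N) F) : Matrix (Fin N) (Fin N) F) *ᵥ p) := by
  have h0 : ((g : Matrix.SpecialLinearGroup (Fin N) F) : Matrix (Fin N) (Fin N) F) *ᵥ p ≠ 0 := by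
    intro h
    apply hp0
    rw [← su_inv_mulVec_mulVec g p, h, Matrix.mulVec_zero]
  have h1 : Cfsg.hermForm N F q (((g : Matrix.SpecialLinearGroup (Fin N) F) :
        Matrix (Fin N) (Fin N) F) *ᵥ p) (((g : Matrix.SpecialLinearGroup (Fin N) F) :
        Matrix (Fin N) (Fin N) F) *ᵥ p) = 0 := by
    rw [su_form, hp]
  refine ⟨⟨h0, h1⟩, ?_⟩
  ext x
  rw [mem_conjBy_iff, mem_T_iff hF hp0 hp, mem_T_iff hF h0 h1]
  constructor
  · rintro ⟨a, ha, hT⟩
    refine ⟨a, ha, ?_⟩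
    have := isTv_conj hT g
    have e : g * (g⁻¹ * x * g) * g⁻¹ = x := by group
    rwa [e] at this
  · rintro ⟨a, ha, hT⟩
    refine ⟨a, ha, ?_⟩
    have := isTv_conj hT g⁻¹
    rwa [su_inv_mulVec_mulVec, inv_inv] at this


/-! ### Hyperbolic pairs give images of `SL₂` over the fixed field -/

/-- The vector of `q`-th powers. -/
def cj (q : ℕ) (u : Fin N → F) : Fin N → F := fun i => u i ^ q

omit [Fintype F] in
theorem cj_dot (u v : Fin N → F) : cj q u ⬝ᵥ v = Cfsg.hermForm N F q v u := by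
  unfold cj Cfsg.hermForm dotProduct
  exact Finset.sum_congr rfl fun i _ => mul_comm _ _

/-- A matrix preserving the form. -/
def PresM (q : ℕ) (A : Matrix (Fin N) (Fin N) F) : Prop :=
  ∀ u v, Cfsg.hermForm N F q (A *ᵥ u) (A *ᵥ v) = Cfsg.hermForm N F q u v

omit [Fintype F] in
theorem presM_mul {A A' : Matrix (Fin N) (Fin N) F} (h : PresM q A) (h' : PresM q A') :
    PresM q (A * A') := by
  intro u v
  rw [← Matrix.mulVec_mulVec, ← Matrix.mulVec_mulVec, h, h']

omit [Fintype F] in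
theorem map_up {L : Type*} [Field L] (ι : L →+* F) (s : L) :
    Matrix.SpecialLinearGroup.map ι (up s) = up (ι s) := by
  apply Subtype.ext
  ext i j
  fin_cases i <;> fin_cases j <;> simp [Matrix.SpecialLinearGroup.map_apply_coe]

omit [Fintype F] in
theorem map_lo {L : Type*} [Field L] (ι : L →+* F) (s : L) :
    Matrix.SpecialLinearGroup.map ι (lo s) = lo (ι s) := by
  apply Subtype.ext
  ext i j
  fin_cases i <;> fin_cases j <;> simp [Matrix.SpecialLinearGroup.map_apply_coe]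

section Plane

variable {L : Type*} [Field L] (ι : L →+* F) {μ : F} {e f : Fin N → F}
  (hF : Fintype.card F = q ^ 2) (hμ0 : μ ≠ 0) (hμq : μ ^ q = -μ) (hι : ∀ s : L, ι s ^ q = ι s)
  (he : Cfsg.hermForm N F q e e = 0) (hf : Cfsg.hermForm N F q f f = 0)
  (hef : Cfsg.hermForm N F q e f = 1)

include hF hμ0 he hf hef in
theorem plane_cond :
    rowMat (μ⁻¹ • cj q f) (cj q e) * colMat (μ • e) f = 1 := by
  apply rowMat_mul_colMat
  · rw [smul_dotProduct, dotProduct_smul, cj_dot, hef, smul_eq_mul, smul_eq_mul, mul_one,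
      inv_mul_cancel₀ hμ0]
  · rw [smul_dotProduct, cj_dot, hf, smul_zero]
  · rw [dotProduct_smul, cj_dot, he, smul_zero]
  · rw [cj_dot]
    exact herm_swap_one hF hef

omit [Fintype F] in
theorem plane_mulVec (μ : F) (e f : Fin N → F) (M : Matrix (Fin 2) (Fin 2) F) (v : Fin N → F) :
    planeMat (colMat (μ • e) f) (rowMat (μ⁻¹ • cj q f) (cj q e)) M *ᵥ v
      = v + ((M 0 0 - 1) * (μ⁻¹ * Cfsg.hermForm N F q v f) + M 0 1 * Cfsg.hermForm N F q v e)
          • (μ • e)
        + (M 1 0 * (μ⁻¹ * Cfsg.hermForm N F q v f) + (M 1 1 - 1) * Cfsg.hermForm N F q v e)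
          • f := by
  rw [planeMat_mulVec, smul_dotProduct, cj_dot, cj_dot, smul_eq_mul]

omit [Fintype F] in
theorem plane_up (μ : F) (e f : Fin N → F) (t : F) (v : Fin N → F) :
    planeMat (colMat (μ • e) f) (rowMat (μ⁻¹ • cj q f) (cj q e))
      ((up t : Matrix.SpecialLinearGroup (Fin 2) F) : Matrix (Fin 2) (Fin 2) F) *ᵥ v
      = v + ((μ * t) * Cfsg.hermForm N F q v e) • e := by
  rw [plane_mulVec, up_coe]
  simp [smul_smul]
  congr 1
  ring

omit [Fintype F] in
theorem plane_lo (μ : F) (e f : Fin N → F) (t : F) (v : Fin N → F) :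
    planeMat (colMat (μ • e) f) (rowMat (μ⁻¹ • cj q f) (cj q e))
      ((lo t : Matrix.SpecialLinearGroup (Fin 2) F) : Matrix (Fin 2) (Fin 2) F) *ᵥ v
      = v + ((μ⁻¹ * t) * Cfsg.hermForm N F q v f) • f := by
  rw [plane_mulVec, lo_coe]
  simp
  congr 1
  ring

include hF hμq he in
theorem plane_up_pres {t : F} (ht : t ^ q = t) :
    PresM q (planeMat (colMat (μ • e) f) (rowMat (μ⁻¹ • cj q f) (cj q e))
      ((up t : Matrix.SpecialLinearGroup (Fin 2) F) : Matrix (Fin 2) (Fin 2) F)) := by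
  intro u v
  apply preserves_of_tv hF he _ (plane_up μ e f t)
  rw [mul_pow, hμq, ht]
  ring

include hF hμq hf in
theorem plane_lo_pres {t : F} (ht : t ^ q = t) :
    PresM q (planeMat (colMat (μ • e) f) (rowMat (μ⁻¹ • cj q f) (cj q e))
      ((lo t : Matrix.SpecialLinearGroup (Fin 2) F) : Matrix (Fin 2) (Fin 2) F)) := by
  intro u v
  apply preserves_of_tv hF hf _ (plane_lo μ e f t)
  rw [mul_pow, inv_pow, hμq, ht, inv_neg]
  ring

include hF hμ0 hμq hι he hf hef in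
theorem plane_pres (M : Matrix.SpecialLinearGroup (Fin 2) L) :
    PresM q (planeMat (colMat (μ • e) f) (rowMat (μ⁻¹ • cj q f) (cj q e))
      ((Matrix.SpecialLinearGroup.map ι M : Matrix.SpecialLinearGroup (Fin 2) F) :
        Matrix (Fin 2) (Fin 2) F)) := by
  obtain ⟨x, y, z, w, rfl⟩ := exists_factor M
  simp only [map_mul, map_up, map_lo, Matrix.SpecialLinearGroup.coe_mul,
    planeMat_mul (plane_cond hF hμ0 he hf hef)]
  exact presM_mul (presM_mul (presM_mul (plane_lo_pres hF hμq hf (hι x))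
    (plane_up_pres hF hμq he (hι y))) (plane_lo_pres hF hμq hf (hι z)))
    (plane_up_pres hF hμq he (hι w))

/-- The homomorphism from `SL₂(L)` attached to a hyperbolic pair. -/
def planeHom : Matrix.SpecialLinearGroup (Fin 2) L →* ↥(Cfsg.SU N F q) where
  toFun M := ⟨⟨planeMat (colMat (μ • e) f) (rowMat (μ⁻¹ • cj q f) (cj q e))
      ((Matrix.SpecialLinearGroup.map ι M : Matrix.SpecialLinearGroup (Fin 2) F) :
        Matrix (Fin 2) (Fin 2) F), by
      rw [det_planeMat (plane_cond hF hμ0 he hf hef)]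
      exact (Matrix.SpecialLinearGroup.map ι M).2⟩,
    plane_pres ι hF hμ0 hμq hι he hf hef M⟩
  map_one' := by
    apply Subtype.ext
    apply Subtype.ext
    show planeMat _ _ _ = _
    rw [map_one, Matrix.SpecialLinearGroup.coe_one, planeMat_one]
    rfl
  map_mul' M M' := by
    apply Subtype.ext
    apply Subtype.ext
    show planeMat _ _ _ = planeMat _ _ _ * planeMat _ _ _
    rw [map_mul, Matrix.SpecialLinearGroup.coe_mul, planeMat_mul (plane_cond hF hμ0 he hf hef)]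

theorem planeHom_mulVec (M : Matrix.SpecialLinearGroup (Fin 2) L) (v : Fin N → F) :
    ((planeHom ι hF hμ0 hμq hι he hf hef M : Matrix.SpecialLinearGroup (Fin N) F) :
      Matrix (Fin N) (Fin N) F) *ᵥ v
      = planeMat (colMat (μ • e) f) (rowMat (μ⁻¹ • cj q f) (cj q e))
        ((Matrix.SpecialLinearGroup.map ι M : Matrix.SpecialLinearGroup (Fin 2) F) :
          Matrix (Fin 2) (Fin 2) F) *ᵥ v := rfl

theorem planeHom_up (s : L) :
    IsTv e (μ * ι s) (planeHom ι hF hμ0 hμq hι he hf hef (up s)) := by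
  intro v
  rw [planeHom_mulVec, map_up, plane_up]

theorem planeHom_lo (s : L) :
    IsTv f (μ⁻¹ * ι s) (planeHom ι hF hμ0 hμq hι he hf hef (lo s)) := by
  intro v
  rw [planeHom_mulVec, map_lo, plane_lo]

theorem planeHom_ker : (planeHom ι hF hμ0 hμq hι he hf hef).ker = ⊥ := by
  rw [Subgroup.eq_bot_iff_forall]
  intro M hM
  rw [MonoidHom.mem_ker] at hM
  have h1 : planeMat (colMat (μ • e) f) (rowMat (μ⁻¹ • cj q f) (cj q e))
      ((Matrix.SpecialLinearGroup.map ι M : Matrix.SpecialLinearGroup (Fin 2) F) :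
        Matrix (Fin 2) (Fin 2) F)
      = planeMat (colMat (μ • e) f) (rowMat (μ⁻¹ • cj q f) (cj q e)) 1 := by
    rw [planeMat_one]
    exact congrArg (fun g : ↥(Cfsg.SU N F q) =>
      ((g : Matrix.SpecialLinearGroup (Fin N) F) : Matrix (Fin N) (Fin N) F)) hM
  have h2 := planeMat_injective (plane_cond hF hμ0 he hf hef) h1
  apply Subtype.ext
  ext i j
  have h3 := congrFun (congrFun h2 i) j
  rw [Matrix.SpecialLinearGroup.map_apply_coe] at h3
  apply ι.injective
  rw [Matrix.SpecialLinearGroup.coe_one]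
  simp only [RingHom.mapMatrix_apply, Matrix.map_apply] at h3
  rw [h3]
  by_cases hij : i = j
  · subst hij
    simp
  · simp [hij]

end Plane


/-! ### Pairs of transvection subgroups -/

theorem psl2_of_hyp {L : Type*} [Field L] (ι : L →+* F) {μ : F} {e f : Fin N → F}
    (hF : Fintype.card F = q ^ 2) (hμ0 : μ ≠ 0) (hμq : μ ^ q = -μ) (hι : ∀ s : L, ι s ^ q = ι s)
    (hfix : ∀ x : F, x ^ q = x → ∃ s : L, ι s = x)
    (he : Cfsg.hermForm N F q e e = 0) (hf : Cfsg.hermForm N F q f f = 0)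
    (hef : Cfsg.hermForm N F q e f = 1) :
    Cfsg.IsPSL2PairOver L (T N F q e) (T N F q f) := by
  have hq0 : q ≠ 0 := by have := two_le_q hF; omega
  have he0 : e ≠ 0 := by
    rintro rfl
    rw [hermForm_zero_left] at hef
    exact zero_ne_one hef
  have hf0 : f ≠ 0 := by
    rintro rfl
    rw [hermForm_zero_right N hq0] at hef
    exact zero_ne_one hef
  apply isPSL2PairOver_of_hom (planeHom ι hF hμ0 hμq hι he hf hef)
  · rw [planeHom_ker]
    exact bot_le
  · apply map_upper_eq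
    · intro s
      rw [mem_T_iff hF he0 he]
      refine ⟨μ * ι s, ?_, planeHom_up ι hF hμ0 hμq hι he hf hef s⟩
      rw [mul_pow, hμq, hι]
      ring
    · intro g hg
      obtain ⟨a, ha, hT⟩ := (mem_T_iff hF he0 he g).mp hg
      have hfx : (μ⁻¹ * a) ^ q = μ⁻¹ * a := by
        rw [mul_pow, inv_pow, hμq, inv_neg]
        linear_combination (-μ⁻¹) * ha
      obtain ⟨s, hs⟩ := hfix _ hfx
      refine ⟨s, isTv_unique ?_ hT⟩
      have := planeHom_up ι hF hμ0 hμq hι he hf hef s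
      rwa [hs, mul_inv_cancel_left₀ hμ0] at this
  · apply map_lower_eq
    · intro s
      rw [mem_T_iff hF hf0 hf]
      refine ⟨μ⁻¹ * ι s, ?_, planeHom_lo ι hF hμ0 hμq hι he hf hef s⟩
      rw [mul_pow, inv_pow, hμq, hι, inv_neg]
      ring
    · intro g hg
      obtain ⟨a, ha, hT⟩ := (mem_T_iff hF hf0 hf g).mp hg
      have hfx : (μ * a) ^ q = μ * a := by
        rw [mul_pow, hμq]
        linear_combination (-μ) * ha
      obtain ⟨s, hs⟩ := hfix _ hfx
      refine ⟨s, isTv_unique ?_ hT⟩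
      have := planeHom_lo ι hF hμ0 hμq hι he hf hef s
      rwa [hs, inv_mul_cancel_left₀ hμ0] at this

theorem psl2_of_ne {L : Type*} [Field L] (ι : L →+* F) {μ : F} {p p' : Fin N → F}
    (hF : Fintype.card F = q ^ 2) (hμ0 : μ ≠ 0) (hμq : μ ^ q = -μ) (hι : ∀ s : L, ι s ^ q = ι s)
    (hfix : ∀ x : F, x ^ q = x → ∃ s : L, ι s = x)
    (hp : Cfsg.hermForm N F q p p = 0) (hp'0 : p' ≠ 0) (hp' : Cfsg.hermForm N F q p' p' = 0)
    (hpp' : Cfsg.hermForm N F q p p' ≠ 0) :
    Cfsg.IsPSL2PairOver L (T N F q p) (T N F q p') := by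
  have hc0 : ((Cfsg.hermForm N F q p p')⁻¹) ^ q ≠ 0 := pow_ne_zero _ (inv_ne_zero hpp')
  have hef : Cfsg.hermForm N F q p ((((Cfsg.hermForm N F q p p')⁻¹) ^ q) • p') = 1 := by
    rw [hermForm_smul_right, pow_q_pow_q hF, inv_mul_cancel₀ hpp']
  have := psl2_of_hyp ι hF hμ0 hμq hι hfix hp (smul_iso hp' _) hef
  rwa [T_smul hF hp'0 hp' hc0] at this

/-! ### The family -/

/-- The family of all transvection subgroups. -/
def fam (N : ℕ) (F : Type*) [Field F] (q : ℕ) : Set (Subgroup ↥(Cfsg.SU N F q)) :=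
  {A | ∃ p : Fin N → F, p ≠ 0 ∧ Cfsg.hermForm N F q p p = 0 ∧ A = T N F q p}

theorem exists_iso_vec (hF : Fintype.card F = q ^ 2) (hN : 2 ≤ N) :
    ∃ p : Fin N → F, p ≠ 0 ∧ Cfsg.hermForm N F q p p = 0 := by
  obtain ⟨σ, hσq, hσ⟩ := exists_frob hF
  have hB := hermB_isHerm (n := N) σ hσq hσ
  have h01 : (⟨0, by omega⟩ : Fin N) ≠ ⟨1, by omega⟩ := by
    intro h
    have := congrArg Fin.val h
    simp at this
  have hx : (Pi.single (⟨0, by omega⟩ : Fin N) (1 : F) : Fin N → F) ≠ 0 := by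
    intro h
    have := congrFun h ⟨0, by omega⟩
    simp at this
  have hy : (Pi.single (⟨1, by omega⟩ : Fin N) (1 : F) : Fin N → F) ∉
      Submodule.span F {(Pi.single (⟨0, by omega⟩ : Fin N) (1 : F) : Fin N → F)} := by
    intro h
    obtain ⟨c, hc⟩ := Submodule.mem_span_singleton.mp h
    have := congrFun hc ⟨1, by omega⟩
    simp [h01.symm] at this
  obtain ⟨a, b, h0, hiso⟩ := exists_iso hσ hB hx hy
  exact ⟨_, h0, hiso⟩

theorem main (hF : Fintype.card F = q ^ 2) (hN : 2 ≤ N) :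
    ∃ (L : Type) (_ : Field L) (_ : Fintype L), Fintype.card L = q ∧
      (Cfsg.IsRootSubgroupClass
        ((fun A : Subgroup ↥(Cfsg.SU N F q) => A.subgroupOf (⨆ B ∈ fam N F q, B)) '' fam N F q) ∧
      Cfsg.IsDegenerateRootSet
        ((fun A : Subgroup ↥(Cfsg.SU N F q) => A.subgroupOf (⨆ B ∈ fam N F q, B)) '' fam N F q) ∧
      Cfsg.IsKRootSubgroupSet L
        ((fun A : Subgroup ↥(Cfsg.SU N F q) => A.subgroupOf (⨆ B ∈ fam N F q, B)) '' fam N F q) ∧
      Cfsg.IsConnectedFamily (Cfsg.FAdj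
        ((fun A : Subgroup ↥(Cfsg.SU N F q) => A.subgroupOf (⨆ B ∈ fam N F q, B)) '' fam N F q))
        ((fun A : Subgroup ↥(Cfsg.SU N F q) => A.subgroupOf (⨆ B ∈ fam N F q, B)) '' fam N F q)) := by
  obtain ⟨L, instL, instFL, ι, hcard, hLq, hfix⟩ := exists_subfield hF
  refine ⟨L, instL, instFL, hcard, ?_⟩
  obtain ⟨σ, hσq, hσ⟩ := exists_frob hF
  have hB := hermB_isHerm (n := N) σ hσq hσ
  have hND := hermB_nondeg (n := N) σ hσq
  obtain ⟨μ, hμ0, hμ⟩ := exists_skew hσ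
  have hμq : μ ^ q = -μ := by rw [← hσq, hμ]
  have hι : ∀ s : L, ι s ^ q = ι s := fun s => by rw [← map_pow, hLq]
  have hpsl : ∀ {p p' : Fin N → F}, Cfsg.hermForm N F q p p = 0 → p' ≠ 0 →
      Cfsg.hermForm N F q p' p' = 0 → Cfsg.hermForm N F q p p' ≠ 0 →
      Cfsg.IsPSL2PairOver L (T N F q p) (T N F q p') :=
    fun hp hp'0 hp' hpp' => psl2_of_ne ι hF hμ0 hμq hι hfix hp hp'0 hp' hpp'
  apply root_class_of_pairs_sub L
  · obtain ⟨p, hp0, hp⟩ := exists_iso_vec hF hN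
    exact ⟨_, p, hp0, hp, rfl⟩
  · rintro A ⟨p, hp0, hp, rfl⟩ a ha b hb
    obtain ⟨c, -, hTa⟩ := (mem_T_iff hF hp0 hp a).mp ha
    obtain ⟨c', -, hTb⟩ := (mem_T_iff hF hp0 hp b).mp hb
    apply isTv_unique (isTv_mul hp hTa hTb)
    rw [add_comm]
    exact isTv_mul hp hTb hTa
  · rintro A ⟨p, hp0, hp, rfl⟩
    obtain ⟨f, -, hf, hpf⟩ := exists_partner hσ hB hND (Submodule.mem_top) hp0 hp
    have hf0 : f ≠ 0 := by
      rintro rfl
      rw [map_zero] at hpf
      exact zero_ne_one hpf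
    have h1 : Cfsg.hermForm N F q p f ≠ 0 := by
      have : Cfsg.hermForm N F q p f = 1 := hpf
      rw [this]
      exact one_ne_zero
    exact left_ne_bot (isRankOnePair_of_psl2 (hpsl hp hf0 hf h1))
  · rintro A ⟨p, hp0, hp, rfl⟩ g
    obtain ⟨⟨h0, h1⟩, h2⟩ := conjBy_T hF hp0 hp g
    exact ⟨_, h0, h1, h2⟩
  · rintro A ⟨p, hp0, hp, rfl⟩ B ⟨p', hp'0, hp', rfl⟩
    by_cases h : Cfsg.hermForm N F q p p' = 0
    · left
      intro a ha b hb
      obtain ⟨c, -, hTa⟩ := (mem_T_iff hF hp0 hp a).mp ha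
      obtain ⟨c', -, hTb⟩ := (mem_T_iff hF hp'0 hp' b).mp hb
      exact isTv_comm hF h hTa hTb
    · right
      exact hpsl hp hp'0 hp' h
  · rintro A ⟨p, hp0, hp, rfl⟩ B ⟨p', hp'0, hp', rfl⟩
    by_cases h : Cfsg.hermForm N F q p p' = 0
    · obtain ⟨r, -, hr, h1, h2⟩ := exists_connect hσ hB hND (Submodule.mem_top)
        (Submodule.mem_top) hp0 hp'0 hp h
      have h1' : Cfsg.hermForm N F q p r ≠ 0 := h1
      have h2' : Cfsg.hermForm N F q p' r ≠ 0 := h2
      have hr' : Cfsg.hermForm N F q r r = 0 := hr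
      have hr0 : r ≠ 0 := by
        rintro rfl
        apply h1
        rw [map_zero]
      exact Relation.ReflTransGen.tail
        (Relation.ReflTransGen.single ⟨⟨p, hp0, hp, rfl⟩, ⟨r, hr0, hr', rfl⟩,
          hpsl hp hr0 hr' h1'⟩)
        ⟨⟨r, hr0, hr', rfl⟩, ⟨p', hp'0, hp', rfl⟩,
          hpsl hr' hp'0 hp' (herm_swap_ne_zero hF h2')⟩
    · exact Relation.ReflTransGen.single ⟨⟨p, hp0, hp, rfl⟩, ⟨p', hp'0, hp', rfl⟩,
        hpsl hp hp'0 hp' h⟩


/-- Let F be a finite field with q² elements, n a natural number, and h the Hermitian form Σ uᵢ vᵢ^q on F^{n+2}. For a non-zero isotropic vector p let T(p) be the group of unitary transvections with centre ⟨p⟩: the elements of SU_{n+2}(q) moving every vector by a multiple of p and fixing every vector perpendicular to p. Let Σ be the set of these T(p) and G₀ the subgroup they generate. Then, viewed inside G₀, the members of Σ form a degenerate class of abstract k-root subgroups of G₀ for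 some field k with q elements (any two commute or are the unipotent subgroups of a rank one group that is an image of SL₂(k) with central kernel, never the commutator case), and their graph of rank one pairs is connected. -/
theorem result (F : Type*) [Field F] [Fintype F] (q n : ℕ) (hF : Fintype.card F = q ^ 2) :
    Cfsg.IsRootSubgroupClass ((fun A : Subgroup ↥(Cfsg.SU (n + 2) F q) => A.subgroupOf (⨆ B ∈ {A : Subgroup ↥(Cfsg.SU (n + 2) F q) | ∃ p : Fin (n + 2) → F, p ≠ 0 ∧ Cfsg.hermForm (n + 2) F q p p = 0 ∧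
          A = Subgroup.closure {g : ↥(Cfsg.SU (n + 2) F q) |
            (∀ v : Fin (n + 2) → F, ∃ c : F, ((g : Matrix.SpecialLinearGroup (Fin (n + 2)) F) : Matrix (Fin (n + 2)) (Fin (n + 2)) F) *ᵥ v = v + c • p) ∧
            ∀ v : Fin (n + 2) → F, Cfsg.hermForm (n + 2) F q v p = 0 →
              ((g : Matrix.SpecialLinearGroup (Fin (n + 2)) F) : Matrix (Fin (n + 2)) (Fin (n + 2)) F) *ᵥ v = v}}, B)) ''
      {A : Subgroup ↥(Cfsg.SU (n + 2) F q) | ∃ p : Fin (n + 2) → F, p ≠ 0 ∧ Cfsg.hermForm (n + 2) F q p p = 0 ∧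
          A = Subgroup.closure {g : ↥(Cfsg.SU (n + 2) F q) |
            (∀ v : Fin (n + 2) → F, ∃ c : F, ((g : Matrix.SpecialLinearGroup (Fin (n + 2)) F) : Matrix (Fin (n + 2)) (Fin (n + 2)) F) *ᵥ v = v + c • p) ∧
            ∀ v : Fin (n + 2) → F, Cfsg.hermForm (n + 2) F q v p = 0 →
              ((g : Matrix.SpecialLinearGroup (Fin (n + 2)) F) : Matrix (Fin (n + 2)) (Fin (n + 2)) F) *ᵥ v = v}}) ∧
    Cfsg.IsDegenerateRootSet ((fun A : Subgroup ↥(Cfsg.SU (n + 2) F q) => A.subgroupOf (⨆ B ∈ {A : Subgroup ↥(Cfsg.SU (n + 2) F q) | ∃ p : Fin (n + 2) → F, p ≠ 0 ∧ Cfsg.hermForm (n + 2) F q p p = 0 ∧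
          A = Subgroup.closure {g : ↥(Cfsg.SU (n + 2) F q) |
            (∀ v : Fin (n + 2) → F, ∃ c : F, ((g : Matrix.SpecialLinearGroup (Fin (n + 2)) F) : Matrix (Fin (n + 2)) (Fin (n + 2)) F) *ᵥ v = v + c • p) ∧
            ∀ v : Fin (n + 2) → F, Cfsg.hermForm (n + 2) F q v p = 0 →
              ((g : Matrix.SpecialLinearGroup (Fin (n + 2)) F) : Matrix (Fin (n + 2)) (Fin (n + 2)) F) *ᵥ v = v}}, B)) ''
      {A : Subgroup ↥(Cfsg.SU (n + 2) F q) | ∃ p : Fin (n + 2) → F, p ≠ 0 ∧ Cfsg.hermForm (n + 2) F q p p = 0 ∧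
          A = Subgroup.closure {g : ↥(Cfsg.SU (n + 2) F q) |
            (∀ v : Fin (n + 2) → F, ∃ c : F, ((g : Matrix.SpecialLinearGroup (Fin (n + 2)) F) : Matrix (Fin (n + 2)) (Fin (n + 2)) F) *ᵥ v = v + c • p) ∧
            ∀ v : Fin (n + 2) → F, Cfsg.hermForm (n + 2) F q v p = 0 →
              ((g : Matrix.SpecialLinearGroup (Fin (n + 2)) F) : Matrix (Fin (n + 2)) (Fin (n + 2)) F) *ᵥ v = v}}) ∧
    (∃ (L : Type) (_ : Field L) (_ : Fintype L), Fintype.card L = q ∧ Cfsg.IsKRootSubgroupSet L ((fun A : Subgroup ↥(Cfsg.SU (n + 2) F q) => A.subgroupOf (⨆ B ∈ {A : Subgroup ↥(Cfsg.SU (n + 2) F q) | ∃ p : Fin (n + 2) → F, p ≠ 0 ∧ Cfsg.hermForm (n + 2) F q p p = 0 ∧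
          A = Subgroup.closure {g : ↥(Cfsg.SU (n + 2) F q) |
            (∀ v : Fin (n + 2) → F, ∃ c : F, ((g : Matrix.SpecialLinearGroup (Fin (n + 2)) F) : Matrix (Fin (n + 2)) (Fin (n + 2)) F) *ᵥ v = v + c • p) ∧
            ∀ v : Fin (n + 2) → F, Cfsg.hermForm (n + 2) F q v p = 0 →
              ((g : Matrix.SpecialLinearGroup (Fin (n + 2)) F) : Matrix (Fin (n + 2)) (Fin (n + 2)) F) *ᵥ v = v}}, B)) ''
      {A : Subgroup ↥(Cfsg.SU (n + 2) F q) | ∃ p : Fin (n + 2) → F, p ≠ 0 ∧ Cfsg.hermForm (n + 2) F q p p = 0 ∧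
          A = Subgroup.closure {g : ↥(Cfsg.SU (n + 2) F q) |
            (∀ v : Fin (n + 2) → F, ∃ c : F, ((g : Matrix.SpecialLinearGroup (Fin (n + 2)) F) : Matrix (Fin (n + 2)) (Fin (n + 2)) F) *ᵥ v = v + c • p) ∧
            ∀ v : Fin (n + 2) → F, Cfsg.hermForm (n + 2) F q v p = 0 →
              ((g : Matrix.SpecialLinearGroup (Fin (n + 2)) F) : Matrix (Fin (n + 2)) (Fin (n + 2)) F) *ᵥ v = v}})) ∧
    Cfsg.IsConnectedFamily (Cfsg.FAdj ((fun A : Subgroup ↥(Cfsg.SU (n + 2) F q) => A.subgroupOf (⨆ B ∈ {A : Subgroup ↥(Cfsg.SU (n + 2) F q) | ∃ p : Fin (n + 2) → F, p ≠ 0 ∧ Cfsg.hermForm (n + 2) F q p p = 0 ∧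
          A = Subgroup.closure {g : ↥(Cfsg.SU (n + 2) F q) |
            (∀ v : Fin (n + 2) → F, ∃ c : F, ((g : Matrix.SpecialLinearGroup (Fin (n + 2)) F) : Matrix (Fin (n + 2)) (Fin (n + 2)) F) *ᵥ v = v + c • p) ∧
            ∀ v : Fin (n + 2) → F, Cfsg.hermForm (n + 2) F q v p = 0 →
              ((g : Matrix.SpecialLinearGroup (Fin (n + 2)) F) : Matrix (Fin (n + 2)) (Fin (n + 2)) F) *ᵥ v = v}}, B)) ''
      {A : Subgroup ↥(Cfsg.SU (n + 2) F q) | ∃ p : Fin (n + 2) → F, p ≠ 0 ∧ Cfsg.hermForm (n + 2) F q p p = 0 ∧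
          A = Subgroup.closure {g : ↥(Cfsg.SU (n + 2) F q) |
            (∀ v : Fin (n + 2) → F, ∃ c : F, ((g : Matrix.SpecialLinearGroup (Fin (n + 2)) F) : Matrix (Fin (n + 2)) (Fin (n + 2)) F) *ᵥ v = v + c • p) ∧
            ∀ v : Fin (n + 2) → F, Cfsg.hermForm (n + 2) F q v p = 0 →
              ((g : Matrix.SpecialLinearGroup (Fin (n + 2)) F) : Matrix (Fin (n + 2)) (Fin (n + 2)) F) *ᵥ v = v}})) ((fun A : Subgroup ↥(Cfsg.SU (n + 2) F q) => A.subgroupOf (⨆ B ∈ {A : Subgroup ↥(Cfsg.SU (n + 2) F q) | ∃ p : Fin (n + 2) → F, p ≠ 0 ∧ Cfsg.hermForm (n + 2) F q p p = 0 ∧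
          A = Subgroup.closure {g : ↥(Cfsg.SU (n + 2) F q) |
            (∀ v : Fin (n + 2) → F, ∃ c : F, ((g : Matrix.SpecialLinearGroup (Fin (n + 2)) F) : Matrix (Fin (n + 2)) (Fin (n + 2)) F) *ᵥ v = v + c • p) ∧
            ∀ v : Fin (n + 2) → F, Cfsg.hermForm (n + 2) F q v p = 0 →
              ((g : Matrix.SpecialLinearGroup (Fin (n + 2)) F) : Matrix (Fin (n + 2)) (Fin (n + 2)) F) *ᵥ v = v}}, B)) ''
      {A : Subgroup ↥(Cfsg.SU (n + 2) F q) | ∃ p : Fin (n + 2) → F, p ≠ 0 ∧ Cfsg.hermForm (n + 2) F q p p = 0 ∧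
          A = Subgroup.closure {g : ↥(Cfsg.SU (n + 2) F q) |
            (∀ v : Fin (n + 2) → F, ∃ c : F, ((g : Matrix.SpecialLinearGroup (Fin (n + 2)) F) : Matrix (Fin (n + 2)) (Fin (n + 2)) F) *ᵥ v = v + c • p) ∧
            ∀ v : Fin (n + 2) → F, Cfsg.hermForm (n + 2) F q v p = 0 →
              ((g : Matrix.SpecialLinearGroup (Fin (n + 2)) F) : Matrix (Fin (n + 2)) (Fin (n + 2)) F) *ᵥ v = v}}) := by
  obtain ⟨L, instL, instFL, hcard, h1, h2, h3, h4⟩ := main (N := n + 2) hF (by omega)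
  exact ⟨h1, h2, ⟨L, instL, instFL, hcard, h3⟩, h4⟩

end Cfsg.Agent.S5071
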