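import Cfsg.Statements.S5084
import Cfsg.Agent.Lib.Helper84_FusionEssential

set_option autoImplicit false
open Cfsg

namespace Cfsg.Agent.S5084

open Cfsg.FusionSystem Cfsg.Agent.Lib.Helper85_Fusion Cfsg.Agent.Lib.Helper84_FusionRS
  Cfsg.Agent.Lib.Helper84_FusionAlperin Cfsg.Agent.Lib.Helper84_FusionEssential

variable {Ω : Type*} [Group Ω]

/-- Transport of a fusion system along an equality of the underlying subgroups. -/
def castSystem {S S' : Subgroup Ω} (h : S = S') (F : FusionSystem S) : FusionSystem S' := h ▸ F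

theorem castSystem_Hom {S S' : Subgroup Ω} (h : S = S') (F : FusionSystem S) (P : Subgroup Ω) :
    (castSystem h F).Hom P = F.Hom P := by
  subst h
  rfl

/-- In a saturated fusion system over a finite p-group S, a subgroup Q is central in the system if and only if Q ≤ S and no element of Q is conjugate in the system to any element other than itself. -/
theorem result {Ω : Type*} [Group Ω] {S : Subgroup Ω} [Finite S] (p : ℕ) [Fact p.Prime] (hS : IsPGroup p S) (F : Cfsg.FusionSystem S) (hF : F.IsSaturated p) (Q : Subgroup Ω) : F.IsCentral Q ↔ (Q ≤ S ∧ ∀ x ∈ Q, ∀ y : Ω, F.IsConjElt x y → y = x) := by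
  constructor
  · rintro ⟨hQS, hext⟩
    refine ⟨hQS, ?_⟩
    rintro x hx y ⟨φ, hφ, rfl⟩
    obtain ⟨ψ, hψ, hψφ, hψQ⟩ := hext _ φ hφ
    have h1 := hψφ ⟨x, Subgroup.mem_zpowers x⟩
    have h2 := hψQ ⟨x, hx⟩
    rw [← h1]
    exact h2
  · rintro ⟨hQS, hsing⟩
    -- Q is central in S
    have hcomm : ∀ x ∈ Q, ∀ s ∈ S, s * x * s⁻¹ = x := by
      intro x hx s hs
      apply hsing x hx
      have hle : Subgroup.zpowers x ≤ S := by
        rw [Subgroup.zpowers_le]; exact hQS hx
      exact ⟨conjHom (Subgroup.zpowers x) s, F.conj_mem hle hs, rfl⟩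
    have hcs : centralizerIn S Q = S := by
      apply inf_eq_left.mpr
      intro s hs
      rw [Subgroup.mem_centralizer_iff]
      intro x hx
      have := hcomm x hx s hs
      calc x * s = (s * x * s⁻¹) * s := by rw [this]
        _ = s * x := by group
    set E : FusionSystem S := castSystem hcs (centralizerSystem F Q hQS) with hE
    have hEHom : ∀ P, E.Hom P = F.centralizerHom Q P := fun P => castSystem_Hom hcs _ P
    have hle : F ≤ E := by
      apply le_of_autGroup_le hS F hF E
      intro R hRn α hα
      have hRS : R ≤ S := hRn.1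
      have hRr := IsSaturated.isReceptive_of_isFullyNormalized hS hF hRn
      rw [mem_autGroup_iff E hRS, hEHom]
      have hα' := (mem_autGroup_iff F hRS α).1 hα
      obtain ⟨ψ₀, hψ₀, hψ₀α⟩ := hRr.2 R _ hα' (range_subtype_comp_equiv α)
      have hQC : Q ≤ centralizerIn S R := by
        intro x hx
        refine ⟨hQS hx, ?_⟩
        show x ∈ Subgroup.centralizer (R : Set Ω)
        rw [Subgroup.mem_centralizer_iff]
        intro r hr
        have := hcomm x hx r (hRS hr)
        calc r * x = (r * x * r⁻¹) * r := by group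
          _ = x * r := by rw [this]
      have hsup : R ⊔ Q ≤ extender S R (R.subtype.comp α.toMonoidHom) :=
        sup_le (le_extender_aut hRS α)
          (hQC.trans (Cfsg.Agent.Lib.Helper84_Fusion.centralizerIn_le_extender S R _))
      have hψ := restrict_mem F hsup hψ₀
      refine ⟨hα', by rw [hcs]; exact hRS, fun x => by rw [hcs]; exact hRS (α x).2, _, hψ, ?_, ?_⟩
      · intro x
        exact hψ₀α x x.2 (hsup (le_sup_left (a := R) (b := Q) x.2))
      · intro x
        apply hsing x x.2
        have hzle : Subgroup.zpowers (x : Ω) ≤ R ⊔ Q := by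
          rw [Subgroup.zpowers_le]; exact (le_sup_right : Q ≤ R ⊔ Q) x.2
        exact ⟨_, restrict_mem F hzle hψ, rfl⟩
    refine ⟨hQS, fun P φ hφ => ?_⟩
    have := hle P hφ
    rw [hEHom] at this
    exact this.2.2.2

end Cfsg.Agent.S5084
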