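import Cfsg.Statements.S5089
import Cfsg.Agent.S5088

set_option autoImplicit false
open Cfsg

namespace Cfsg.Agent.S5089

open Cfsg.FusionSystem Cfsg.Agent.Lib.Helper85_Fusion Cfsg.Agent.Lib.Helper84_FusionNormal
  Cfsg.Agent.Lib.Helper84_FusionSeries Cfsg.Agent.Lib.Helper84_FusionRS

/-- A saturated fusion system over a finite p-group has a nontrivial subgroup that is normal in the system (O_p(F) ≠ 1) if and only if some nontrivial abelian subgroup is strongly closed in the system. -/
theorem result {Ω : Type*} [Group Ω] {S : Subgroup Ω} [Finite S] (p : ℕ) [Fact p.Prime] (hS : IsPGroup p S) (F : Cfsg.FusionSystem S) (hF : F.IsSaturated p) : F.core ≠ ⊥ ↔ ∃ Q : Subgroup Ω, Q ≠ ⊥ ∧ IsMulCommutative Q ∧ F.StronglyClosed Q := by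
  constructor
  · intro hne
    have hC : F.IsNormal F.core := isNormal_core F
    have hCS : F.core ≤ S := hC.1
    have : Finite F.core := finite_of_le_S hCS
    have hCp : IsPGroup p F.core := hS.to_le hCS
    have : Nontrivial F.core := (Subgroup.nontrivial_iff_ne_bot _).2 hne
    have hZ : Nontrivial (Subgroup.center F.core) := hCp.center_nontrivial
    refine ⟨(Subgroup.center F.core).map F.core.subtype, ?_, inferInstance, ?_⟩
    · intro h
      rw [Subgroup.map_eq_bot_iff_of_injective _ (Subgroup.subtype_injective _)] at h
      rw [Subgroup.nontrivial_iff_ne_bot] at hZ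
      exact hZ h
    · apply IsNormal.stronglyClosed
      apply Cfsg.Agent.S5085.result F F.core _ hC (Subgroup.map_subtype_le _)
      show (((Subgroup.center F.core).map F.core.subtype).comap F.core.subtype).Characteristic
      rw [Subgroup.comap_map_eq_self_of_injective (Subgroup.subtype_injective _)]
      infer_instance
  · rintro ⟨Q, hne, hab, hsc⟩
    have hQ : F.IsNormal Q := by
      rw [Cfsg.Agent.S5088.result p hS F hF Q]
      refine ⟨1, ![⊥, Q], rfl, rfl, ?_, ?_⟩
      · intro i j hij
        fin_cases i <;> fin_cases j
        · exact le_rfl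
        · exact bot_le
        · exact absurd hij (by decide)
        · exact le_rfl
      · intro i
        fin_cases i
        refine ⟨hsc, ?_⟩
        show ⁅Q, Q⁆ ≤ ⊥
        rw [Subgroup.commutator_self_eq_bot_iff.2 hab]
    intro h
    apply hne
    have : Q ≤ F.core := le_sSup hQ
    rw [h] at this
    exact le_bot_iff.1 this

end Cfsg.Agent.S5089
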