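import Cfsg.Statements.S5105

set_option autoImplicit false
open Cfsg

namespace Cfsg.Agent.S5105

open scoped IsMulCommutative in
/-- Averaging lemma: an automorphism `ψ` of a finite group `G` that fixes a Sylow `p`-subgroup `T`
elementwise and moves every element only by an element of an abelian normal subgroup `A ≤ T`
is conjugation by an element of `A`. -/
theorem aut_eq_conj_of_fix_sylow {G : Type*} [Group G] [Finite G] {p : ℕ} [Fact p.Prime] (T : Sylow p G)
    (A : Subgroup G) [hAn : A.Normal] (hAT : A ≤ T) (hAc : ∀ a ∈ A, ∀ b ∈ A, a * b = b * a)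
    (ψ : G ≃* G) (hψT : ∀ t ∈ T, ψ t = t) (hu : ∀ g : G, ψ g * g⁻¹ ∈ A) :
    ∃ z ∈ A, ∀ g : G, ψ g = z * g * z⁻¹ := by
  classical
  have : IsMulCommutative A := ⟨⟨fun a b => Subtype.ext (hAc a a.2 b b.2)⟩⟩
  let _ : Fintype (G ⧸ (T : Subgroup G)) := Fintype.ofFinite _
  -- the cocycle
  let u : G → A := fun g => ⟨ψ g * g⁻¹, hu g⟩
  have hu_mul : ∀ g h : G, u (g * h) = u g * MulAut.conjNormal g (u h) := by
    intro g h
    apply Subtype.ext
    show ψ (g * h) * (g * h)⁻¹ = ψ g * g⁻¹ * (g * (ψ h * h⁻¹) * g⁻¹)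
    rw [map_mul]
    group
  have hu_T : ∀ (g t : G), t ∈ T → u (g * t) = u g := by
    intro g t ht
    apply Subtype.ext
    show ψ (g * t) * (g * t)⁻¹ = ψ g * g⁻¹
    rw [map_mul, hψT t ht]
    group
  let u' : G ⧸ (T : Subgroup G) → A := Quotient.lift u (by
    intro a b hab
    have h1 : a⁻¹ * b ∈ (T : Subgroup G) := QuotientGroup.leftRel_apply.1 hab
    have h2 := hu_T a (a⁻¹ * b) h1
    rw [mul_inv_cancel_left] at h2
    exact h2.symm)
  have hu'_mk : ∀ g : G, u' (QuotientGroup.mk g) = u g := fun g => rfl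
  set b : A := ∏ c : G ⧸ (T : Subgroup G), u' c with hb
  set n : ℕ := Fintype.card (G ⧸ (T : Subgroup G)) with hn
  have key : ∀ h : G, b = u h ^ n * MulAut.conjNormal h b := by
    intro h
    have h1 : b = ∏ c : G ⧸ (T : Subgroup G), u' (h • c) :=
      (Equiv.prod_comp (MulAction.toPerm h) u').symm
    have h2 : ∀ c : G ⧸ (T : Subgroup G), u' (h • c) = u h * MulAut.conjNormal h (u' c) := by
      intro c
      induction c using QuotientGroup.induction_on with
      | H g =>
        show u' (QuotientGroup.mk (h * g)) = _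
        rw [hu'_mk, hu'_mk, hu_mul]
    have h3 : ∏ c : G ⧸ (T : Subgroup G), u' (h • c) = u h ^ n * MulAut.conjNormal h b := by
      simp_rw [h2]
      rw [Finset.prod_mul_distrib, Finset.prod_const, Finset.card_univ, ← map_prod]
    exact h1.trans h3
  -- `n` is coprime to the order of `A`
  have hcop : (Nat.card A).Coprime n := by
    have hAp : IsPGroup p A := T.isPGroup'.to_le hAT
    obtain ⟨k, hk⟩ := IsPGroup.iff_card.1 hAp
    rw [hk]
    apply Nat.Coprime.pow_left
    have hp : p.Prime := Fact.out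
    rw [Nat.Prime.coprime_iff_not_dvd hp]
    have h3 : n = (T : Subgroup G).index := by
      rw [hn, Subgroup.index, Nat.card_eq_fintype_card]
    rw [h3]
    exact T.not_dvd_index
  obtain ⟨z, hz⟩ := (powCoprime hcop).surjective b
  have hz' : z ^ n = b := hz
  refine ⟨z, z.2, fun g => ?_⟩
  have h4 : u g ^ n = (z * (MulAut.conjNormal g z)⁻¹) ^ n := by
    rw [mul_pow, inv_pow, ← map_pow, hz']
    have := key g
    rw [eq_mul_inv_iff_mul_eq]
    exact this.symm
  have h5 : u g = z * (MulAut.conjNormal g z)⁻¹ := (powCoprime hcop).injective h4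
  have h6 := congrArg (fun a : A => (a : G)) h5
  simp only [Subgroup.coe_mul, Subgroup.coe_inv, MulAut.conjNormal_apply] at h6
  have h7 : ψ g * g⁻¹ = (z : G) * (g * (z : G) * g⁻¹)⁻¹ := h6
  have h8 : ψ g = ψ g * g⁻¹ * g := by group
  rw [h8, h7]
  group

/-- Model Theorem, rigidity: if G is a model of a constrained fusion system over a finite p-group S (through ι : S → G), then every automorphism of G fixing ι(S) elementwise is conjugation by ι(z) for some z in the centre of S. -/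
theorem result {Ω : Type*} [Group Ω] {S : Subgroup Ω} [Finite S] (p : ℕ) [Fact p.Prime] (hS : IsPGroup p S) (F : Cfsg.FusionSystem S) (hF : F.IsConstrained p) {G : Type*} [Group G] (ι : S →* G) (hG : F.IsModel p G ι) (ψ : G ≃* G) (hψ : ∀ x : S, ψ (ι x) = ι x) : ∃ z : S, z ∈ Subgroup.center S ∧ ∀ g : G, ψ g = ι z * g * (ι z)⁻¹ := by
  obtain ⟨hfin, ⟨hinj, -⟩, ⟨T, hT⟩, hcent⟩ := hG
  have := hfin
  have hQn : (pCore p G).Normal := Subgroup.sSup_normal _ (fun _ hH => hH.1)
  have hQp : IsPGroup p (pCore p G) := Sylow.sSup_of_normal _ (fun _ hH => hH.2) (fun _ hH => hH.1)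
  have hQT : pCore p G ≤ T := hQp.le_sylow_of_normal T
  have hψT : ∀ t ∈ T, ψ t = t := by
    intro t ht
    have ht' : t ∈ (T : Subgroup G) := ht
    rw [hT] at ht'
    obtain ⟨x, rfl⟩ := ht'
    exact hψ x
  have hAn : (Subgroup.centralizer ((pCore p G : Subgroup G) : Set G)).Normal := inferInstance
  have hAT : Subgroup.centralizer ((pCore p G : Subgroup G) : Set G) ≤ T := hcent.trans hQT
  have hAc : ∀ a ∈ Subgroup.centralizer ((pCore p G : Subgroup G) : Set G),
      ∀ b ∈ Subgroup.centralizer ((pCore p G : Subgroup G) : Set G), a * b = b * a := by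
    intro a ha b hb
    exact (Subgroup.mem_centralizer_iff.1 ha b (hcent hb)).symm
  have hu : ∀ g : G, ψ g * g⁻¹ ∈ Subgroup.centralizer ((pCore p G : Subgroup G) : Set G) := by
    intro g
    rw [Subgroup.mem_centralizer_iff]
    intro x hx
    have h1 : g⁻¹ * x * g ∈ pCore p G := by
      have := hQn.conj_mem x hx g⁻¹
      rwa [inv_inv] at this
    have h2 : ψ (g⁻¹ * x * g) = g⁻¹ * x * g := hψT _ (hQT h1)
    have h3 : ψ x = x := hψT _ (hQT hx)
    have h4 : ψ g * (g⁻¹ * x * g) * (ψ g)⁻¹ = x := by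
      rw [← h2, ← map_inv, ← map_mul, ← map_mul]
      have : g * (g⁻¹ * x * g) * g⁻¹ = x := by group
      rw [this, h3]
    have h5 : ψ g * g⁻¹ * x = ψ g * (g⁻¹ * x * g) * (ψ g)⁻¹ * (ψ g * g⁻¹) := by group
    rw [h5, h4]
  obtain ⟨z, hzA, hz⟩ := aut_eq_conj_of_fix_sylow T _ hAT hAc ψ hψT hu
  have hzT : z ∈ (T : Subgroup G) := hAT hzA
  rw [hT] at hzT
  obtain ⟨z₀, rfl⟩ := hzT
  refine ⟨z₀, ?_, hz⟩
  rw [Subgroup.mem_center_iff]
  intro s
  apply hinj
  rw [map_mul, map_mul]
  have h1 := hz (ι s)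
  rw [hψ s] at h1
  calc ι s * ι z₀ = ι z₀ * ι s * (ι z₀)⁻¹ * ι z₀ := by rw [← h1]
    _ = ι z₀ * ι s := by group

end Cfsg.Agent.S5105
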