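import Cfsg.Statements.S5107
import Cfsg.Agent.Lib.Helper85_GroupFusion
import Cfsg.Agent.Lib.Helper87_Alperin

set_option autoImplicit false
open Cfsg

namespace Cfsg.Agent.S5107

open Cfsg.FusionSystem Cfsg.Agent.Lib.Helper85_Fusion Cfsg.Agent.Lib.Helper85_GroupFusion
open scoped commutatorElement

variable {G : Type*} [Group G]

/-- The automorphisms of `P` fixing `Z` elementwise and acting trivially on `P/Z`. -/
def chainStab (P Z : Subgroup G) : Subgroup (MulAut P) where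
  carrier := {α | (∀ x : P, (x : G) ∈ Z → α x = x) ∧ ∀ x : P, (x : G)⁻¹ * ((α x : P) : G) ∈ Z}
  one_mem' := ⟨fun _ _ => rfl, fun x => by
    show (x : G)⁻¹ * (x : G) ∈ Z
    rw [inv_mul_cancel]
    exact Z.one_mem⟩
  mul_mem' := by
    rintro α β ⟨hα1, hα2⟩ ⟨hβ1, hβ2⟩
    refine ⟨fun x hx => ?_, fun x => ?_⟩
    · show α (β x) = x
      rw [hβ1 x hx, hα1 x hx]
    · show (x : G)⁻¹ * ((α (β x) : P) : G) ∈ Z
      have h1 := hβ2 x
      have h2 := hα2 (β x)
      have h3 := Z.mul_mem h1 h2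
      have e : (x : G)⁻¹ * ((β x : P) : G) * (((β x : P) : G)⁻¹ * ((α (β x) : P) : G)) =
          (x : G)⁻¹ * ((α (β x) : P) : G) := by group
      rwa [e] at h3
  inv_mem' := by
    rintro α ⟨hα1, hα2⟩
    refine ⟨fun x hx => ?_, fun x => ?_⟩
    · have h1 := hα1 x hx
      show α⁻¹ x = x
      rw [MulAut.inv_apply, MulEquiv.symm_apply_eq]
      exact h1.symm
    · have h1 := hα2 (α⁻¹ x)
      rw [MulAut.apply_inv_self] at h1
      have h2 := Z.inv_mem h1
      have e : (((α⁻¹ x : P) : G)⁻¹ * (x : G))⁻¹ = (x : G)⁻¹ * ((α⁻¹ x : P) : G) := by group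
      rwa [e] at h2

theorem chainStab_isPGroup {p : ℕ} [Fact p.Prime] (P Z : Subgroup G) [Finite P] (hP : IsPGroup p P) :
    IsPGroup p (chainStab P Z) := by
  apply Cfsg.Agent.Lib.Helper87_Alperin.isPGroup_of_coprime_eq_one
  intro β hβ
  have h1 : orderOf (β : MulAut P) = orderOf β := Subgroup.orderOf_coe β
  obtain ⟨hβ1, hβ2⟩ := β.2
  have h2 : (β : MulAut P) = 1 := by
    refine Cfsg.Agent.Lib.Helper87_Alperin.aut_eq_one_of_chain hP (β : MulAut P) (h1 ▸ hβ)
      (fun i => if i = 0 then P else if i = 1 then Z else ⊥) 2 ?_ ?_ ?_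
    · simp
    · simp
    · intro i hi x hx
      interval_cases i
      · simpa using hβ2 x
      · have hx' : (x : G) ∈ Z := by simpa using hx
        rw [hβ1 x hx']
        simp
  exact Subtype.ext h2

variable [Finite G] {p : ℕ} [Fact p.Prime]

/-- Step A: a conjugation map between subgroups of `S` can be realized by an element normalizing the
(strongly closed) centre of `S`. -/
theorem exists_normalizing_center (S : Sylow p G)
    (hZ : Cfsg.IsStronglyClosed ((S : Subgroup G) ⊓ Subgroup.centralizer ((S : Subgroup G) : Set G)) (S : Subgroup G))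
    {P : Subgroup G} (hP : P ≤ S) (g : G) (hg : conjSub g P ≤ S) :
    ∃ g' : G, (∀ x ∈ P, g' * x * g'⁻¹ = g * x * g⁻¹) ∧
      conjSub g' ((S : Subgroup G) ⊓ Subgroup.centralizer ((S : Subgroup G) : Set G)) =
        (S : Subgroup G) ⊓ Subgroup.centralizer ((S : Subgroup G) : Set G) := by
  set Z : Subgroup G := (S : Subgroup G) ⊓ Subgroup.centralizer ((S : Subgroup G) : Set G) with hZdef
  set C : Subgroup G := Subgroup.centralizer ((conjSub g P : Subgroup G) : Set G) with hCdef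
  have hZp : IsPGroup p Z := S.isPGroup'.to_le inf_le_left
  have hZC : Z ≤ C := by
    refine (inf_le_right : Z ≤ _).trans ?_
    exact Subgroup.centralizer_le hg
  have hgZC : conjSub g Z ≤ C := by
    rw [hCdef, ← conjSub_centralizer]
    refine conjSub_mono g ?_
    refine (inf_le_right : Z ≤ _).trans ?_
    exact Subgroup.centralizer_le hP
  obtain ⟨R, hgZR, hRC, hRp, hRsyl⟩ := exists_isSylowIn_ge hgZC (isPGroup_conjSub g hZp)
  obtain ⟨c, hcC, hcZ⟩ := hRsyl.exists_conj_le hZC hZp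
  obtain ⟨x, hx⟩ := exists_conjSub_le_sylow S hRp
  have hclosed : ∀ h : G, conjSub h Z ≤ S → conjSub h Z = Z := by
    intro h hh
    apply conjSub_eq_of_le
    rintro _ ⟨z, hz, rfl⟩
    exact hZ.2 z hz h (hh (conj_mem_conjSub hz))
  have h1 : conjSub (x * c) Z = Z := by
    apply hclosed
    rw [← conjSub_conjSub]
    exact (conjSub_mono x hcZ).trans hx
  have h2 : conjSub (x * g) Z = Z := by
    apply hclosed
    rw [← conjSub_conjSub]
    exact (conjSub_mono x hgZR).trans hx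
  refine ⟨c⁻¹ * g, ?_, ?_⟩
  · intro y hy
    have hy' : g * y * g⁻¹ ∈ conjSub g P := conj_mem_conjSub hy
    have h3 : g * y * g⁻¹ * c = c * (g * y * g⁻¹) := (Subgroup.mem_centralizer_iff.1 hcC) _ hy'
    have e : c⁻¹ * g * y * (c⁻¹ * g)⁻¹ = c⁻¹ * (g * y * g⁻¹ * c) := by group
    rw [e, h3]
    group
  · have e : c⁻¹ * g = (x * c)⁻¹ * (x * g) := by group
    rw [e, ← conjSub_conjSub, h2]
    have h4 := conjSub_inv_conjSub (x * c) Z
    rwa [h1] at h4

/-- Step D: for `Z(S) ≤ P ≤ S`, every automorphism of `P` induced by `N_G(P)` is induced by `N_G(S)`. -/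
theorem exists_normalizer_sylow_conj (S : Sylow p G)
    (hcl : ⁅(S : Subgroup G), (S : Subgroup G)⁆ ≤ (S : Subgroup G) ⊓ Subgroup.centralizer ((S : Subgroup G) : Set G))
    (hZ : Cfsg.IsStronglyClosed ((S : Subgroup G) ⊓ Subgroup.centralizer ((S : Subgroup G) : Set G)) (S : Subgroup G))
    {P : Subgroup G} (hP : P ≤ S)
    (hZP : (S : Subgroup G) ⊓ Subgroup.centralizer ((S : Subgroup G) : Set G) ≤ P)
    (d : G) (hd : d ∈ Subgroup.normalizer (P : Set G)) :
    ∃ n ∈ Subgroup.normalizer ((S : Subgroup G) : Set G), ∀ x ∈ P, n * x * n⁻¹ = d * x * d⁻¹ := by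
  classical
  set Z : Subgroup G := (S : Subgroup G) ⊓ Subgroup.centralizer ((S : Subgroup G) : Set G) with hZdef
  have hfinP : Finite P := Finite.of_injective _ (Subgroup.inclusion_injective hP)
  have hPp : IsPGroup p P := S.isPGroup'.to_le hP
  -- `S` normalizes `P`
  have hSN : (S : Subgroup G) ≤ Subgroup.normalizer (P : Set G) := by
    intro s hs
    rw [Subgroup.mem_normalizer_iff]
    have key : ∀ (t : G), t ∈ (S : Subgroup G) → ∀ x ∈ P, t * x * t⁻¹ ∈ P := by
      intro t ht x hx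
      have h1 : ⁅t, x⁆ ∈ ⁅(S : Subgroup G), (S : Subgroup G)⁆ :=
        Subgroup.commutator_mem_commutator ht (hP hx)
      have h2 : ⁅t, x⁆ ∈ P := hZP (hcl h1)
      have e : t * x * t⁻¹ = ⁅t, x⁆ * x := by rw [commutatorElement_def]; group
      rw [e]
      exact P.mul_mem h2 hx
    intro x
    constructor
    · exact key s hs x
    · intro hx
      have := key s⁻¹ ((S : Subgroup G).inv_mem hs) _ hx
      have e : s⁻¹ * (s * x * s⁻¹) * s⁻¹⁻¹ = x := by group
      rwa [e] at this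
  have hNS : normalizerIn (S : Subgroup G) P = S := inf_eq_left.2 hSN
  have hsyl : IsSylowIn p (normalizerIn (S : Subgroup G) P) (Subgroup.normalizer (P : Set G)) := by
    rw [hNS]
    exact isSylowIn_of_sylow_le S hSN
  -- `d` and `d⁻¹` normalize `Z`
  have hdZ : ∀ (e : G), e ∈ Subgroup.normalizer (P : Set G) → ∀ z ∈ Z, e * z * e⁻¹ ∈ Z := by
    intro e he z hz
    exact hZ.2 z hz e (hP ((Subgroup.mem_normalizer_iff.1 he z).1 (hZP hz)))
  have hd' : d⁻¹ ∈ Subgroup.normalizer (P : Set G) := Subgroup.inv_mem _ hd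
  -- the Sylow subgroup of `Aut_G(P)`
  obtain ⟨R, hR⟩ := aut_sylow_of_normalizer hsyl (autInducedBy ⊤ P) (mem_autInducedBy_top_iff P)
  -- the chain stabilizer inside `Aut_G(P)` is a `p`-group containing `R`, hence equals `R`
  have hKp : IsPGroup p ((chainStab P Z).subgroupOf (autInducedBy ⊤ P)) :=
    isPGroup_subgroupOf _ (chainStab_isPGroup P Z hPp)
  have hRK : (R : Subgroup (autInducedBy ⊤ P)) ≤ (chainStab P Z).subgroupOf (autInducedBy ⊤ P) := by
    rw [hR]
    intro α hα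
    rw [Subgroup.mem_subgroupOf, mem_autInducedBy_iff] at hα
    obtain ⟨s, hs, hαs⟩ := hα
    rw [Subgroup.mem_subgroupOf]
    refine ⟨fun x hx => ?_, fun x => ?_⟩
    · apply Subtype.ext
      rw [hαs]
      have hx' : (x : G) ∈ Subgroup.centralizer ((S : Subgroup G) : Set G) := hx.2
      have := (Subgroup.mem_centralizer_iff.1 hx') s hs
      rw [this]
      group
    · rw [hαs]
      have h1 : ⁅(x : G)⁻¹, s⁆ ∈ ⁅(S : Subgroup G), (S : Subgroup G)⁆ :=
        Subgroup.commutator_mem_commutator ((S : Subgroup G).inv_mem (hP x.2)) hs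
      have e : (x : G)⁻¹ * (s * (x : G) * s⁻¹) = ⁅(x : G)⁻¹, s⁆ := by
        rw [commutatorElement_def]; group
      rw [e]
      exact hcl h1
  have hKR : (chainStab P Z).subgroupOf (autInducedBy ⊤ P) = (R : Subgroup (autInducedBy ⊤ P)) :=
    R.is_maximal' hKp hRK
  -- `d S d⁻¹ ≤ N_S(P) C_G(P)`
  have hTM : conjSub d (S : Subgroup G) ≤
      normalizerIn (S : Subgroup G) P ⊔ Subgroup.centralizer (P : Set G) := by
    rintro _ ⟨s, hs, rfl⟩
    show d * s * d⁻¹ ∈ _
    have hdsN : d * s * d⁻¹ ∈ Subgroup.normalizer (P : Set G) :=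
      Subgroup.mul_mem _ (Subgroup.mul_mem _ hd (hSN hs)) hd'
    -- the automorphism induced by `d s d⁻¹`
    set α : MulAut P := P.normalizerMonoidHom ⟨d * s * d⁻¹, hdsN⟩ with hα
    have hαv : ∀ x : P, ((α x : P) : G) = d * s * d⁻¹ * x * (d * s * d⁻¹)⁻¹ := fun x => rfl
    have hαA : α ∈ autInducedBy ⊤ P := (mem_autInducedBy_top_iff P α).2 ⟨_, hαv⟩
    have hαK : α ∈ chainStab P Z := by
      refine ⟨fun x hx => ?_, fun x => ?_⟩
      · apply Subtype.ext
        rw [hαv]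
        have h1 : d⁻¹ * x * d⁻¹⁻¹ ∈ Z := hdZ d⁻¹ hd' x hx
        have h2 : d⁻¹ * x * d⁻¹⁻¹ ∈ Subgroup.centralizer ((S : Subgroup G) : Set G) := h1.2
        have h3 := (Subgroup.mem_centralizer_iff.1 h2) s hs
        have e : d * s * d⁻¹ * x * (d * s * d⁻¹)⁻¹ = d * (s * (d⁻¹ * x * d⁻¹⁻¹)) * s⁻¹ * d⁻¹ := by group
        rw [e, h3]
        group
      · rw [hαv]
        have hy : d⁻¹ * x * d⁻¹⁻¹ ∈ P := (Subgroup.mem_normalizer_iff.1 hd' x).1 x.2
        have h1 : ⁅(d⁻¹ * x * d⁻¹⁻¹)⁻¹, s⁆ ∈ ⁅(S : Subgroup G), (S : Subgroup G)⁆ :=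
          Subgroup.commutator_mem_commutator ((S : Subgroup G).inv_mem (hP hy)) hs
        have h2 := hdZ d hd _ (hcl h1)
        have e : d * ⁅(d⁻¹ * x * d⁻¹⁻¹)⁻¹, s⁆ * d⁻¹ =
            (x : G)⁻¹ * (d * s * d⁻¹ * x * (d * s * d⁻¹)⁻¹) := by
          rw [commutatorElement_def]; group
        rwa [e] at h2
    have hαR : (⟨α, hαA⟩ : autInducedBy ⊤ P) ∈ (R : Subgroup (autInducedBy ⊤ P)) := by
      rw [← hKR, Subgroup.mem_subgroupOf]
      exact hαK
    rw [hR, Subgroup.mem_subgroupOf, mem_autInducedBy_iff] at hαR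
    obtain ⟨s', hs', hαs'⟩ := hαR
    have hcent : s'⁻¹ * (d * s * d⁻¹) ∈ Subgroup.centralizer (P : Set G) := by
      rw [Subgroup.mem_centralizer_iff]
      intro x hx
      have h1 := hαs' ⟨x, hx⟩
      rw [hαv] at h1
      have h1' : d * s * d⁻¹ * x * (d * s * d⁻¹)⁻¹ = s' * x * s'⁻¹ := h1
      have e : s'⁻¹ * (d * s * d⁻¹) * x = s'⁻¹ * (d * s * d⁻¹ * x * (d * s * d⁻¹)⁻¹) * (d * s * d⁻¹) := by
        group
      rw [e, h1']
      group
    have e : d * s * d⁻¹ = s' * (s'⁻¹ * (d * s * d⁻¹)) := by group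
    rw [e]
    exact Subgroup.mul_mem_sup ⟨hs', hSN hs'⟩ hcent
  obtain ⟨c₀, hc₀, hc₀T⟩ := exists_centralizer_conj_le hsyl (isPGroup_conjSub d S.isPGroup') hTM
  rw [conjSub_conjSub, hNS] at hc₀T
  refine ⟨c₀ * d, mem_normalizer_of_conjSub_le hc₀T, fun x hx => ?_⟩
  have hdx : d * x * d⁻¹ ∈ P := (Subgroup.mem_normalizer_iff.1 hd x).1 hx
  have h1 : d * x * d⁻¹ * c₀ = c₀ * (d * x * d⁻¹) := (Subgroup.mem_centralizer_iff.1 hc₀) _ hdx
  have e : c₀ * d * x * (c₀ * d)⁻¹ = c₀ * (d * x * d⁻¹) * c₀⁻¹ := by group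
  rw [e, ← h1]
  group

/-- Control of fusion by `N_G(S)`. -/
theorem control (S : Sylow p G)
    (hcl : ⁅(S : Subgroup G), (S : Subgroup G)⁆ ≤ (S : Subgroup G) ⊓ Subgroup.centralizer ((S : Subgroup G) : Set G))
    (hZ : Cfsg.IsStronglyClosed ((S : Subgroup G) ⊓ Subgroup.centralizer ((S : Subgroup G) : Set G)) (S : Subgroup G))
    {P : Subgroup G} (hP : P ≤ S) (g : G) (hg : conjSub g P ≤ S) :
    ∃ n ∈ Subgroup.normalizer ((S : Subgroup G) : Set G), ∀ x ∈ P, n * x * n⁻¹ = g * x * g⁻¹ := by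
  set Z : Subgroup G := (S : Subgroup G) ⊓ Subgroup.centralizer ((S : Subgroup G) : Set G) with hZdef
  obtain ⟨g', hg'P, hg'Z⟩ := exists_normalizing_center S hZ hP g hg
  have hg'PS : conjSub g' P ≤ S := by
    rintro _ ⟨x, hx, rfl⟩
    show g' * x * g'⁻¹ ∈ _
    rw [hg'P x hx]
    exact hg (conj_mem_conjSub hx)
  -- enlarge `P` to `P₁ = P Z`
  set P₁ : Subgroup G := P ⊔ Z with hP₁
  have hP₁S : P₁ ≤ S := sup_le hP inf_le_left
  set P' : Subgroup G := conjSub g' P₁ with hP'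
  have hP'eq : P' = conjSub g' P ⊔ Z := by rw [hP', hP₁, conjSub_sup, hg'Z]
  have hP'S : P' ≤ S := by
    rw [hP'eq]
    exact sup_le hg'PS inf_le_left
  have hZP' : Z ≤ P' := by
    rw [hP'eq]
    exact le_sup_right
  -- `S` normalizes `P₁` and `P'`
  have hnorm : ∀ Q : Subgroup G, Q ≤ S → Z ≤ Q → (S : Subgroup G) ≤ Subgroup.normalizer (Q : Set G) := by
    intro Q hQ hZQ s hs
    rw [Subgroup.mem_normalizer_iff]
    have key : ∀ (t : G), t ∈ (S : Subgroup G) → ∀ x ∈ Q, t * x * t⁻¹ ∈ Q := by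
      intro t ht x hx
      have h1 : ⁅t, x⁆ ∈ ⁅(S : Subgroup G), (S : Subgroup G)⁆ :=
        Subgroup.commutator_mem_commutator ht (hQ hx)
      have h2 : ⁅t, x⁆ ∈ Q := hZQ (hcl h1)
      have e : t * x * t⁻¹ = ⁅t, x⁆ * x := by rw [commutatorElement_def]; group
      rw [e]
      exact Q.mul_mem h2 hx
    intro x
    constructor
    · exact key s hs x
    · intro hx
      have := key s⁻¹ ((S : Subgroup G).inv_mem hs) _ hx
      have e : s⁻¹ * (s * x * s⁻¹) * s⁻¹⁻¹ = x := by group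
      rwa [e] at this
  have hSN' : (S : Subgroup G) ≤ Subgroup.normalizer (P' : Set G) := hnorm P' hP'S hZP'
  have hSN₁ : (S : Subgroup G) ≤ Subgroup.normalizer (P₁ : Set G) := hnorm P₁ hP₁S le_sup_right
  have hgSN' : conjSub g' (S : Subgroup G) ≤ Subgroup.normalizer (P' : Set G) := by
    rw [hP', ← conjSub_normalizer]
    exact conjSub_mono g' hSN₁
  obtain ⟨c, hc, hcS⟩ := (isSylowIn_of_sylow_le S hSN').exists_conj_le hgSN'
    (isPGroup_conjSub g' S.isPGroup')
  rw [conjSub_conjSub] at hcS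
  have hm : c * g' ∈ Subgroup.normalizer ((S : Subgroup G) : Set G) := mem_normalizer_of_conjSub_le hcS
  obtain ⟨n', hn', hn'P⟩ := exists_normalizer_sylow_conj S hcl hZ hP'S hZP' c⁻¹
    (Subgroup.inv_mem _ hc)
  refine ⟨n' * (c * g'), Subgroup.mul_mem _ hn' hm, fun x hx => ?_⟩
  have hx1 : g' * x * g'⁻¹ ∈ P' := conj_mem_conjSub ((le_sup_left : P ≤ P₁) hx)
  have hx2 : c * (g' * x * g'⁻¹) * c⁻¹ ∈ P' := (Subgroup.mem_normalizer_iff.1 hc _).1 hx1
  have h1 := hn'P _ hx2
  have e : n' * (c * g') * x * (n' * (c * g'))⁻¹ = n' * (c * (g' * x * g'⁻¹) * c⁻¹) * n'⁻¹ := by group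
  rw [e, h1, ← hg'P x hx]
  group

/-- If a Sylow p-subgroup S of a finite group G has nilpotency class at most two and its centre is strongly closed in S with respect to G, then every map of the fusion system of G on S is conjugation by an element of N_G(S), and S is the largest subgroup normal in that fusion system. -/
theorem result {G : Type*} [Group G] [Finite G] (p : ℕ) [Fact p.Prime] (S : Sylow p G) (hcl : ⁅(S : Subgroup G), (S : Subgroup G)⁆ ≤ (S : Subgroup G) ⊓ Subgroup.centralizer ((S : Subgroup G) : Set G)) (hZ : Cfsg.IsStronglyClosed ((S : Subgroup G) ⊓ Subgroup.centralizer ((S : Subgroup G) : Set G)) (S : Subgroup G)) : (∀ (P : Subgroup G) (φ : P →* G), φ ∈ (Cfsg.groupFusionSystem (S : Subgroup G)).Hom P → ∃ g ∈ Subgroup.normalizer ((S : Subgroup G) : Set G), ∀ x : P, φ x = g * (x : G) * g⁻¹) ∧ (Cfsg.groupFusionSystem (S : Subgroup G)).core = S := by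
  have hctl : ∀ (P : Subgroup G) (φ : P →* G), φ ∈ (Cfsg.groupFusionSystem (S : Subgroup G)).Hom P →
      ∃ g ∈ Subgroup.normalizer ((S : Subgroup G) : Set G), ∀ x : P, φ x = g * (x : G) * g⁻¹ := by
    rintro P φ ⟨hP, hφS, g, hg⟩
    have hgS : conjSub g P ≤ S := by
      rintro _ ⟨x, hx, rfl⟩
      have := hφS ⟨x, hx⟩
      rw [hg] at this
      exact this
    obtain ⟨n, hn, hnP⟩ := control S hcl hZ hP g hgS
    exact ⟨n, hn, fun x => by rw [hg, hnP x x.2]⟩
  refine ⟨hctl, ?_⟩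
  have hnormal : (Cfsg.groupFusionSystem (S : Subgroup G)).IsNormal (S : Subgroup G) := by
    refine ⟨le_rfl, fun P φ hφ => ?_⟩
    obtain ⟨n, hn, hnφ⟩ := hctl P φ hφ
    have hPS : P ≤ S := hφ.1
    have hle : P ⊔ (S : Subgroup G) ≤ S := sup_le hPS le_rfl
    have hnS : conjSub n (S : Subgroup G) = S := conjSub_eq_of_mem_normalizer hn
    refine ⟨conjHom (P ⊔ (S : Subgroup G)) n, conjHom_mem_group hle n
      ((conjSub_mono n hle).trans hnS.le), fun x => (hnφ x).symm, ?_⟩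
    · ext y
      rw [mem_map_subgroupOf]
      constructor
      · rintro ⟨z, hz, hD, rfl⟩
        have : n * z * n⁻¹ ∈ conjSub n (S : Subgroup G) := conj_mem_conjSub hz
        rw [hnS] at this
        exact this
      · intro hy
        have hy' : y ∈ conjSub n (S : Subgroup G) := by rw [hnS]; exact hy
        rw [mem_conjSub] at hy'
        refine ⟨n⁻¹ * y * n, hy', (le_sup_right : (S : Subgroup G) ≤ P ⊔ S) hy', ?_⟩
        show n * (n⁻¹ * y * n) * n⁻¹ = y
        group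
  apply le_antisymm
  · exact sSup_le (fun Q hQ => hQ.1)
  · exact le_sSup hnormal

end Cfsg.Agent.S5107
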