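import Cfsg.Statements.S5114
import Cfsg.Agent.Lib.Helper88_AutInv
import Cfsg.Agent.Lib.Helper84_FusionRS

set_option autoImplicit false
open Cfsg

namespace Cfsg.Agent.S5114

open Cfsg.FusionSystem Cfsg.Agent.Lib.Helper87_Alperin Cfsg.Agent.Lib.Helper87_Alperin2
  Cfsg.Agent.Lib.Helper88_Centric Cfsg.Agent.Lib.Helper88_Centric2 Cfsg.Agent.Lib.Helper88_Essential
  Cfsg.Agent.Lib.Helper88_AutInv

variable {Ω : Type*} [Group Ω] {S : Subgroup Ω}

/-- The closure of a conjugation-invariant set is a normal subgroup. -/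
theorem closure_normal_of_conj {G : Type*} [Group G] (X : Set G)
    (hX : ∀ g x, x ∈ X → g * x * g⁻¹ ∈ X) : (Subgroup.closure X).Normal := by
  constructor
  intro n hn g
  induction hn using Subgroup.closure_induction with
  | mem x hx => exact Subgroup.subset_closure (hX g x hx)
  | one => simp
  | mul x y _ _ hx hy =>
    have : g * (x * y) * g⁻¹ = (g * x * g⁻¹) * (g * y * g⁻¹) := by group
    rw [this]
    exact Subgroup.mul_mem _ hx hy
  | inv x _ hx =>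
    have : g * x⁻¹ * g⁻¹ = (g * x * g⁻¹)⁻¹ := by group
    rw [this]
    exact Subgroup.inv_mem _ hx

theorem isMapOn_subsystemOf_iff (F : FusionSystem S) (G : Subgroup Ω → (Ω → Ω) → Prop)
    (hcongr : ∀ {P : Subgroup Ω} {f g : Ω → Ω}, G P f → (∀ x ∈ P, f x = g x) → G P g)
    (hconj : ∀ {P : Subgroup Ω} {a : Ω}, P ≤ S → a ∈ S → G P (fun x => a * x * a⁻¹))
    (hcomp : ∀ {P R : Subgroup Ω} {f g : Ω → Ω}, IsMapOn F P f → G P f → IsMapOn F R g → G R g →
      (∀ x ∈ P, f x ∈ R) → G P (g ∘ f))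
    (hinv : ∀ {P P' : Subgroup Ω} {f g : Ω → Ω}, IsMapOn F P f → G P f → IsImage P f P' →
      IsMapOn F P' g → (∀ x ∈ P, g (f x) = x) → G P' g) {P : Subgroup Ω} {f : Ω → Ω} :
    IsMapOn (subsystemOf F G hcongr hconj hcomp hinv) P f ↔ IsMapOn F P f ∧ G P f := by
  constructor
  · rintro ⟨φ, ⟨hφ, hG⟩, hφf⟩
    refine ⟨⟨φ, hφ, hφf⟩, hcongr hG (fun x hx => ?_)⟩
    rw [extHom_apply φ hx]
    exact hφf ⟨x, hx⟩
  · rintro ⟨⟨φ, hφ, hφf⟩, hG⟩
    refine ⟨φ, ⟨hφ, hcongr hG (fun x hx => ?_)⟩, hφf⟩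
    rw [extHom_apply φ hx]
    exact (hφf ⟨x, hx⟩).symm

/-- The maps of `F` of the form `α ∘ f₀`, `α ∈ Aut_F(S)`, `f₀` a map of the `Aut_F(S)`-stable part of `E`. -/
noncomputable def prodSys (F E : FusionSystem S) : FusionSystem S :=
  subsystemOf F (ProdPred F E) (fun h hfg => h.congr hfg)
    (fun hP ha => ProdPred.of_invSub (IsMapOn.conj (invSub F E) hP ha))
    (fun _ hf _ hg h => hf.comp hg h) (fun _ hf himg _ hgf => hf.inv himg hgf)

theorem isMapOn_prodSys_iff {F E : FusionSystem S} {P : Subgroup Ω} {f : Ω → Ω} :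
    IsMapOn (prodSys F E) P f ↔ IsMapOn F P f ∧ ProdPred F E P f := by
  unfold prodSys
  apply isMapOn_subsystemOf_iff
  exact fun hP ha => ProdPred.of_invSub (IsMapOn.conj (invSub F E) hP ha)

/-- `p`-elements of `Aut_F(P)`, `P` centric, lie in `Aut_E(P)`. -/
theorem mem_autGroup_of_pow {p : ℕ} [hp : Fact p.Prime] {F E : FusionSystem S}
    (h : ∀ P : Subgroup Ω, F.IsCentric P →
      (Subgroup.closure {α : ↥(F.autGroup P) | ∃ k : ℕ, orderOf α = p ^ k}).map (F.autGroup P).subtype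
        ≤ E.autGroup P)
    {P : Subgroup Ω} (hcen : F.IsCentric P) {δ : MulAut P} (hδ : δ ∈ F.autGroup P) {k : ℕ}
    (hk : δ ^ (p ^ k) = 1) : δ ∈ E.autGroup P := by
  apply h P hcen
  refine ⟨⟨δ, hδ⟩, Subgroup.subset_closure ?_, rfl⟩
  have h1 : (⟨δ, hδ⟩ : F.autGroup P) ^ (p ^ k) = 1 := Subtype.ext hk
  have h2 := orderOf_dvd_of_pow_eq_one h1
  obtain ⟨j, -, hj⟩ := (Nat.dvd_prime_pow hp.out).1 h2
  exact ⟨j, hj⟩

theorem conjFun_iterate {T : Subgroup Ω} (α : MulAut T) (f : Ω → Ω) {Q : Subgroup Ω} (hQT : Q ≤ T)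
    (hf : ∀ x ∈ Q, f x ∈ Q) (n : ℕ) {x : Ω} (hx : x ∈ Q) :
    (conjFun α f)^[n] (extFun α x) = extFun α (f^[n] x) := by
  induction n generalizing x with
  | zero => rfl
  | succ n ih =>
    rw [Function.iterate_succ_apply, Function.iterate_succ_apply, conjFun_extFun α f (hQT hx), ih (hf x hx)]

/-- `p`-elements of `Aut_F(Q)`, `Q` centric, are maps of the `Aut_F(S)`-stable part of `E`. -/
theorem isMapOn_invSub_of_pow [Finite S] {p : ℕ} [hp : Fact p.Prime] {F E : FusionSystem S}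
    (h : ∀ P : Subgroup Ω, F.IsCentric P →
      (Subgroup.closure {α : ↥(F.autGroup P) | ∃ k : ℕ, orderOf α = p ^ k}).map (F.autGroup P).subtype
        ≤ E.autGroup P)
    {Q : Subgroup Ω} (hcen : F.IsCentric Q) {δ : MulAut Q} (hδ : δ ∈ F.autGroup Q) {k : ℕ}
    (hk : δ ^ (p ^ k) = 1) : IsMapOn (invSub F E) Q (extFun δ) := by
  have hQS : Q ≤ S := hcen.1
  have hδE := mem_autGroup_of_pow h hcen hδ hk
  refine isMapOn_invSub_iff.2 ⟨(mem_autGroup_iff E hQS δ).1 hδE, hQS, fun α hα Q' hQ' => ?_⟩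
  have hαm : IsMapOn F S (extFun α) := (mem_autGroup_iff F le_rfl α).1 hα
  have hαi : α⁻¹ ∈ F.autGroup S := (F.autGroup S).inv_mem hα
  have hαim : IsMapOn F S (extFun α⁻¹) := (mem_autGroup_iff F le_rfl α⁻¹).1 hαi
  have hQ'S : Q' ≤ S := isImage_le_of_extFun hQ' hQS
  have hconj : F.IsConj Q Q' := isConj_of_isImage (hαm.mono hQS) hQ'
  have hcen' : F.IsCentric Q' := isCentric_of_isConj hcen hconj
  have hδm : IsMapOn F Q (extFun δ) := (mem_autGroup_iff F hQS δ).1 hδ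
  -- the conjugate is a map of `F` on `Q'` preserving `Q'`
  have hf' : IsMapOn F Q' (conjFun α (extFun δ)) := by
    have h1 : IsMapOn F Q' (extFun δ ∘ extFun α⁻¹) :=
      (hαim.mono hQ'S).comp hδm (fun y hy => isImage_inv_mem hQ' hQS hy)
    exact h1.comp hαm (fun y hy => hQS (extFun_mem δ (isImage_inv_mem hQ' hQS hy)))
  have hf'Q : ∀ y ∈ Q', conjFun α (extFun δ) y ∈ Q' := fun y hy =>
    hQ'.mem (extFun_mem δ (isImage_inv_mem hQ' hQS hy))
  obtain ⟨δ', hδ', hδ'f⟩ := exists_aut_of_isMapOn hf' hf'Q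
  have hpow : δ' ^ (p ^ k) = 1 := by
    ext y
    rw [pow_apply_eq_iterate δ' _ hδ'f]
    obtain ⟨x, hx, hxy⟩ := (hQ' y).1 y.2
    rw [← hxy, conjFun_iterate α (extFun δ) hQS (fun z hz => extFun_mem δ hz) _ hx]
    have h2 : (extFun δ)^[p ^ k] x = x := by
      have := pow_apply_eq_iterate δ (extFun δ) (fun z => (extFun_coe δ z).symm) (p ^ k) ⟨x, hx⟩
      rw [hk] at this
      exact this.symm
    rw [h2]
    exact hxy
  have hδ'E := mem_autGroup_of_pow h hcen' hδ' hpow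
  exact ((mem_autGroup_iff E hQ'S δ').1 hδ'E).congr (fun y hy => by
    rw [extFun_apply δ' hy]
    exact hδ'f ⟨y, hy⟩)

/-- **Every map of `F` is an element of `Aut_F(S)` after a map of the `Aut_F(S)`-stable part of `E`.** -/
theorem isMapOn_prodSys [Finite S] {p : ℕ} [hp : Fact p.Prime] (hS : IsPGroup p S) {F E : FusionSystem S}
    (hF : F.IsSaturated p)
    (h : ∀ P : Subgroup Ω, F.IsCentric P →
      (Subgroup.closure {α : ↥(F.autGroup P) | ∃ k : ℕ, orderOf α = p ^ k}).map (F.autGroup P).subtype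
        ≤ E.autGroup P) :
    ∀ (P : Subgroup Ω) (f : Ω → Ω), IsMapOn F P f → IsMapOn (prodSys F E) P f := by
  apply alperin_induction_isMapOn F hS hF (prodSys F E)
  intro Q hQa hQr hIH β hβ
  by_cases hcen : F.IsCentric Q
  swap
  · exact isMapOn_of_not_centric F _ hQr hIH hcen hβ
  have hQS : Q ≤ S := hcen.1
  have hfinQ : Finite Q := Finite.of_injective (Subgroup.inclusion hQS) (Subgroup.inclusion_injective hQS)
  set N : Subgroup (F.autGroup Q) := Subgroup.closure {α | ∃ k : ℕ, α ^ (p ^ k) = 1} with hN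
  have hNn : N.Normal := closure_normal_of_conj _ (by
    rintro g x ⟨k, hk⟩
    exact ⟨k, by rw [conj_pow, hk, mul_one, mul_inv_cancel]⟩)
  obtain ⟨-, R, hR⟩ := hQa
  have hRN : (R : Subgroup (F.autGroup Q)) ≤ N := by
    intro r hr
    obtain ⟨k, hk⟩ := R.isPGroup' ⟨r, hr⟩
    exact Subgroup.subset_closure ⟨k, congrArg Subtype.val hk⟩
  have hfr := Sylow.normalizer_sup_eq_top' R hRN
  have hβmem : (⟨β, hβ⟩ : F.autGroup Q) ∈
      (Subgroup.normalizer ((R : Subgroup (F.autGroup Q)) : Set (F.autGroup Q)) ⊔ N : Subgroup _) :=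
    hfr ▸ Subgroup.mem_top _
  rw [← SetLike.mem_coe, Subgroup.mul_normal] at hβmem
  obtain ⟨ν, hν, κ, hκ, hνκ⟩ := Set.mem_mul.1 hβmem
  -- the `κ` part
  have hNle : N ≤ ((invSub F E).autGroup Q).comap (F.autGroup Q).subtype := by
    rw [hN, Subgroup.closure_le]
    rintro α ⟨k, hk⟩
    show (α : MulAut Q) ∈ (invSub F E).autGroup Q
    rw [mem_autGroup_iff (invSub F E) hQS]
    exact isMapOn_invSub_of_pow h hcen α.2 (k := k) (congrArg Subtype.val hk)
  have hκ1 : IsMapOn (invSub F E) Q (extFun (κ : MulAut Q)) :=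
    (mem_autGroup_iff (invSub F E) hQS _).1 (hNle hκ)
  have hκ2 : IsMapOn (prodSys F E) Q (extFun (κ : MulAut Q)) :=
    isMapOn_prodSys_iff.2 ⟨(mem_autGroup_iff F hQS _).1 κ.2, ProdPred.of_invSub hκ1⟩
  -- the `ν` part
  have hν2 : IsMapOn (prodSys F E) Q (extFun (ν : MulAut Q)) := by
    by_cases hQeq : Q = S
    · subst hQeq
      exact isMapOn_prodSys_iff.2 ⟨(mem_autGroup_iff F le_rfl _).1 ν.2, ProdPred.of_aut E le_rfl ν.2⟩
    · have hlt : Q < normalizerIn S Q := lt_normalizerIn hS hQS hQeq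
      obtain ⟨g, hgN, hgQ⟩ := SetLike.exists_of_lt hlt
      refine isMapOn_of_lt_extender F _ hQr hIH ν.2 (g := g) ?_ hgQ
      apply Cfsg.Agent.Lib.Helper84_FusionEssential.mem_extender_of_conj_mem (ν : MulAut Q) hgN.1 hgN.2
      -- `c_g ∈ R`
      have hcg : Q.normalizerMonoidHom ⟨g, hgN.2⟩ ∈ autInducedBy S Q :=
        (mem_autInducedBy_iff S Q _).2 ⟨g, hgN.1, fun x => rfl⟩
      have hcgF : Q.normalizerMonoidHom ⟨g, hgN.2⟩ ∈ F.autGroup Q := autInducedBy_le_autGroup F hQS hcg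
      have hcgR : (⟨_, hcgF⟩ : F.autGroup Q) ∈ (R : Subgroup (F.autGroup Q)) := by
        rw [hR]
        exact Subgroup.mem_subgroupOf.2 hcg
      have h1 := (Subgroup.mem_normalizer_iff.1 hν _).1 hcgR
      rw [hR] at h1
      exact Subgroup.mem_subgroupOf.1 h1
  have hβe : β = (ν : MulAut Q) * (κ : MulAut Q) := by
    have := congrArg Subtype.val hνκ
    exact this.symm
  refine (hκ2.comp hν2 (fun x hx => extFun_mem _ hx)).congr (fun x hx => ?_)
  rw [hβe]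
  exact (extFun_mul _ _ hx).symm

/-- Function-level form of the Frattini decomposition. -/
theorem exists_decomp [Finite S] {p : ℕ} [hp : Fact p.Prime] (hS : IsPGroup p S) {F E : FusionSystem S}
    (hF : F.IsSaturated p)
    (h : ∀ P : Subgroup Ω, F.IsCentric P →
      (Subgroup.closure {α : ↥(F.autGroup P) | ∃ k : ℕ, orderOf α = p ^ k}).map (F.autGroup P).subtype
        ≤ E.autGroup P)
    {P : Subgroup Ω} {f : Ω → Ω} (hf : IsMapOn F P f) :
    ∃ α ∈ F.autGroup S, ∃ f₀ : Ω → Ω, IsMapOn E P f₀ ∧ ∀ x ∈ P, f x = extFun α (f₀ x) := by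
  obtain ⟨-, α, hα, f₀, hf₀, hff⟩ := isMapOn_prodSys_iff.1 (isMapOn_prodSys hS hF h P f hf)
  exact ⟨α, hα, f₀, IsMapOn.of_invSub hf₀, hff⟩

theorem exists_ppow_power {G : Type*} [Group G] [Finite G] (p : ℕ) [hp : Fact p.Prime] (g : G) (k : ℕ) :
    ∃ n j : ℕ, (g ^ n) ^ (p ^ j) = 1 ∧ n % p ^ k = 1 % p ^ k := by
  have ho : orderOf g ≠ 0 := (orderOf_pos g).ne'
  obtain ⟨a, m, hm, hom⟩ := Nat.exists_eq_pow_mul_and_not_dvd ho p hp.out.ne_one
  have hmp : Nat.Coprime (p ^ k) m :=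
    Nat.Coprime.pow_left k ((Nat.Prime.coprime_iff_not_dvd hp.out).2 hm)
  obtain ⟨n, hn1, hn0⟩ := Nat.chineseRemainder hmp 1 0
  refine ⟨n, a, ?_, hn1⟩
  rw [← pow_mul]
  apply orderOf_dvd_iff_pow_eq_one.1
  rw [hom, mul_comm n]
  exact Nat.mul_dvd_mul dvd_rfl ((Nat.modEq_zero_iff_dvd).1 hn0)

/-- `p`-elements of `Aut_F(P)` lie in `Aut_E(P)` when `P` is fully centralized. -/
theorem mem_autGroup_of_pow_of_isFullyCentralized [Finite S] {p : ℕ} [hp : Fact p.Prime] (hS : IsPGroup p S)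
    {F E : FusionSystem S} (hF : F.IsSaturated p)
    (h : ∀ P : Subgroup Ω, F.IsCentric P →
      (Subgroup.closure {α : ↥(F.autGroup P) | ∃ k : ℕ, orderOf α = p ^ k}).map (F.autGroup P).subtype
        ≤ E.autGroup P)
    {P : Subgroup Ω} (hfc : F.IsFullyCentralized P) {δ : MulAut P} (hδ : δ ∈ F.autGroup P) {k : ℕ}
    (hk : δ ^ (p ^ k) = 1) : δ ∈ E.autGroup P := by
  have hPS : P ≤ S := hfc.1
  have hPr : F.IsReceptive P := Cfsg.Agent.Lib.Helper84_FusionRS.IsSaturated.isReceptive hS hF hfc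
  obtain ⟨f, hf, hfδ⟩ := exists_extension_sup_centralizerIn hPr (φ := autHom δ)
    ((mem_autGroup_iff' F hPS δ).1 hδ) (autHom_range δ)
  set D : Subgroup Ω := P ⊔ centralizerIn S P with hD
  have hPD : P ≤ D := le_sup_left
  have hcenD : F.IsCentric D := isCentric_sup_centralizerIn hfc
  have hDS : D ≤ S := hcenD.1
  have hfinD : Finite D := Finite.of_injective (Subgroup.inclusion hDS) (Subgroup.inclusion_injective hDS)
  have hfP : ∀ (x : Ω) (hx : x ∈ P), f x = ((δ ⟨x, hx⟩ : P) : Ω) := fun x hx => hfδ ⟨x, hx⟩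
  -- `f` preserves `D`
  have hfD : ∀ z ∈ D, f z ∈ D := by
    obtain ⟨φ, hφ, hφf⟩ := hf
    let W : Subgroup Ω := (D.comap φ).map D.subtype
    have hW : D ≤ W := by
      refine sup_le ?_ ?_
      · intro x hx
        refine ⟨⟨x, hPD hx⟩, ?_, rfl⟩
        show φ ⟨x, hPD hx⟩ ∈ D
        rw [hφf, hfP x hx]
        exact hPD (δ ⟨x, hx⟩).2
      · intro c hc
        have hcD : c ∈ D := (le_sup_right : centralizerIn S P ≤ D) hc
        refine ⟨⟨c, hcD⟩, ?_, rfl⟩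
        show φ ⟨c, hcD⟩ ∈ D
        refine (le_sup_right : centralizerIn S P ≤ D) ?_
        rw [mem_centralizerIn_iff]
        refine ⟨hom_mem F hφ _, fun y hy => ?_⟩
        -- `y = f y'`
        have hy' : ((δ⁻¹ ⟨y, hy⟩ : P) : Ω) ∈ P := (δ⁻¹ ⟨y, hy⟩).2
        have h1 : φ ⟨((δ⁻¹ ⟨y, hy⟩ : P) : Ω), hPD hy'⟩ = y := by
          rw [hφf, hfP _ hy']
          simp
        have hcomm : ((δ⁻¹ ⟨y, hy⟩ : P) : Ω) * c = c * ((δ⁻¹ ⟨y, hy⟩ : P) : Ω) :=
          ((mem_centralizerIn_iff S P c).1 hc).2 _ hy'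
        have h2 : (⟨((δ⁻¹ ⟨y, hy⟩ : P) : Ω), hPD hy'⟩ : D) * ⟨c, hcD⟩ =
            ⟨c, hcD⟩ * ⟨((δ⁻¹ ⟨y, hy⟩ : P) : Ω), hPD hy'⟩ := Subtype.ext hcomm
        have h3 := congrArg φ h2
        rw [map_mul, map_mul, h1] at h3
        exact h3
    intro z hz
    obtain ⟨w, hw, hwz⟩ := hW hz
    have : w = ⟨z, hz⟩ := Subtype.ext hwz
    rw [← hφf ⟨z, hz⟩, ← this]
    exact hw
  obtain ⟨δD, hδD, hδDf⟩ := exists_aut_of_isMapOn hf hfD
  obtain ⟨n, j, hnj, hn⟩ := exists_ppow_power p δD k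
  have hE : δD ^ n ∈ E.autGroup D :=
    mem_autGroup_of_pow h hcenD ((F.autGroup D).pow_mem hδD n) hnj
  have hEm : IsMapOn E D (extFun (δD ^ n)) := (mem_autGroup_iff E hDS _).1 hE
  rw [mem_autGroup_iff E hPS]
  refine (hEm.mono hPD).congr (fun x hx => ?_)
  -- on `P`, `δD ^ n` is `δ ^ n = δ`
  have hiter : ∀ (m : ℕ) (y : P), f^[m] (y : Ω) = (((δ ^ m) y : P) : Ω) := by
    intro m
    induction m with
    | zero => intro y; rfl
    | succ m ih =>
      intro y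
      rw [Function.iterate_succ_apply', ih y, hfP _ ((δ ^ m) y).2, pow_succ', MulAut.mul_apply]
  rw [extFun_apply _ (hPD hx), pow_apply_eq_iterate δD f hδDf n ⟨x, hPD hx⟩, extFun_apply δ hx]
  have h4 : δ ^ n = δ := by
    rw [pow_eq_pow_mod n hk, hn, ← pow_eq_pow_mod 1 hk, pow_one]
  have h5 := hiter n ⟨x, hx⟩
  rw [h4] at h5
  exact h5

theorem card_centralizerIn_le [Finite S] {α : MulAut S} {P₀ P₁ : Subgroup Ω} (hP₀ : P₀ ≤ S)
    (himg : IsImage P₀ (extFun α) P₁) :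
    Nat.card (centralizerIn S P₁) ≤ Nat.card (centralizerIn S P₀) := by
  have hle : centralizerIn S P₀ ≤ S := inf_le_left
  have hfin : Finite (centralizerIn S P₀) :=
    Finite.of_injective (Subgroup.inclusion hle) (Subgroup.inclusion_injective hle)
  have key : ∀ c ∈ centralizerIn S P₁, extFun α⁻¹ c ∈ centralizerIn S P₀ := by
    intro c hc
    rw [mem_centralizerIn_iff] at hc ⊢
    refine ⟨extFun_mem α⁻¹ hc.1, fun y hy => ?_⟩
    have h1 := hc.2 _ (himg.mem hy)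
    have h2 := congrArg (extFun α⁻¹) h1
    rw [extFun_map_mul α⁻¹ (extFun_mem α (hP₀ hy)) hc.1, extFun_map_mul α⁻¹ hc.1 (extFun_mem α (hP₀ hy)),
      extFun_inv_apply α (hP₀ hy)] at h2
    exact h2
  apply Nat.card_le_card_of_injective
    (fun c : centralizerIn S P₁ => (⟨extFun α⁻¹ c, key c c.2⟩ : centralizerIn S P₀))
  intro c d hcd
  have h1 : extFun α⁻¹ (c : Ω) = extFun α⁻¹ (d : Ω) := congrArg Subtype.val hcd
  have h2 := congrArg (extFun α) h1
  rw [extFun_apply_inv α c.2.1, extFun_apply_inv α d.2.1] at h2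
  exact Subtype.ext h2

/-- `p`-elements of `Aut_F(P)` lie in `Aut_E(P)`, for every `P ≤ S`. -/
theorem mem_autGroup_of_pow_all [Finite S] {p : ℕ} [hp : Fact p.Prime] (hS : IsPGroup p S)
    {F E : FusionSystem S} (hF : F.IsSaturated p) (hEF : E.IsSubsystemOf F)
    (h : ∀ P : Subgroup Ω, F.IsCentric P →
      (Subgroup.closure {α : ↥(F.autGroup P) | ∃ k : ℕ, orderOf α = p ^ k}).map (F.autGroup P).subtype
        ≤ E.autGroup P)
    {P : Subgroup Ω} (hPS : P ≤ S) {δ : MulAut P} (hδ : δ ∈ F.autGroup P) {k : ℕ}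
    (hk : δ ^ (p ^ k) = 1) : δ ∈ E.autGroup P := by
  obtain ⟨P₁, hconj, hfc⟩ := Cfsg.Agent.Lib.Helper84_FusionRS.exists_isFullyCentralized_conj F hPS
  obtain ⟨g, hg, himg⟩ := exists_isMapOn_of_isConj hconj
  obtain ⟨α, hα, g₀, hg₀, hgg⟩ := exists_decomp hS hF h hg
  obtain ⟨P₀, hP₀, -⟩ := exists_isImage hg₀
  have hg₀F : IsMapOn F P g₀ := isMapOn_of_le hEF hg₀
  have hP₀S : P₀ ≤ S := hP₀.le hg₀
  have hαm : IsMapOn F S (extFun α) := (mem_autGroup_iff F le_rfl α).1 hα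
  have hP₁ : IsImage P₀ (extFun α) P₁ := by
    intro y
    rw [himg y]
    constructor
    · rintro ⟨x, hx, rfl⟩
      exact ⟨g₀ x, hP₀.mem hx, (hgg x hx).symm⟩
    · rintro ⟨z, hz, rfl⟩
      obtain ⟨x, hx, rfl⟩ := (hP₀ z).1 hz
      exact ⟨x, hx, hgg x hx⟩
  have hfc₀ : F.IsFullyCentralized P₀ := by
    refine ⟨hP₀S, fun Q hQ => ?_⟩
    have h01 : F.IsConj P₀ P₁ := isConj_of_isImage (hαm.mono hP₀S) hP₁
    have h1Q : F.IsConj P₁ Q :=
      isConj_trans (Cfsg.Agent.Lib.Helper85_Fusion.isConj_symm F h01) hQ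
    exact (hfc.2 Q h1Q).trans (card_centralizerIn_le hP₀S hP₁)
  obtain ⟨k', hk', hkg, hkP, hgk⟩ := hg₀.inv hP₀
  have hδm : IsMapOn F P (extFun δ) := (mem_autGroup_iff F hPS δ).1 hδ
  -- the transported automorphism of `P₀`
  have hu : IsMapOn F P₀ (g₀ ∘ extFun δ ∘ k') :=
    (((isMapOn_of_le hEF hk').comp hδm hkP).comp hg₀F (fun y hy => extFun_mem δ (hkP y hy)))
  have huP : ∀ y ∈ P₀, (g₀ ∘ extFun δ ∘ k') y ∈ P₀ := fun y hy =>
    hP₀.mem (extFun_mem δ (hkP y hy))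
  obtain ⟨δ₀, hδ₀, hδ₀u⟩ := exists_aut_of_isMapOn hu huP
  have hiter : ∀ (m : ℕ) (x : Ω), x ∈ P → (g₀ ∘ extFun δ ∘ k')^[m] (g₀ x) = g₀ ((extFun δ)^[m] x) := by
    intro m
    induction m with
    | zero => intro x _; rfl
    | succ m ih =>
      intro x hx
      rw [Function.iterate_succ_apply, Function.iterate_succ_apply]
      have : (g₀ ∘ extFun δ ∘ k') (g₀ x) = g₀ (extFun δ x) := by
        show g₀ (extFun δ (k' (g₀ x))) = _
        rw [hkg x hx]
      rw [this, ih _ (extFun_mem δ hx)]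
  have hpow : δ₀ ^ (p ^ k) = 1 := by
    ext y
    rw [pow_apply_eq_iterate δ₀ _ hδ₀u]
    obtain ⟨x, hx, hxy⟩ := (hP₀ y).1 y.2
    rw [← hxy, hiter _ x hx]
    have h2 : (extFun δ)^[p ^ k] x = x := by
      have := pow_apply_eq_iterate δ (extFun δ) (fun z => (extFun_coe δ z).symm) (p ^ k) ⟨x, hx⟩
      rw [hk] at this
      exact this.symm
    rw [h2]
    exact hxy
  have hδ₀E : IsMapOn E P₀ (extFun δ₀) :=
    (mem_autGroup_iff E hP₀S δ₀).1 (mem_autGroup_of_pow_of_isFullyCentralized hS hF h hfc₀ hδ₀ hpow)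
  rw [mem_autGroup_iff E hPS]
  refine ((hg₀.comp hδ₀E (fun x hx => hP₀.mem hx)).comp hk'
    (fun x hx => extFun_mem δ₀ (hP₀.mem hx))).congr (fun x hx => ?_)
  show k' (extFun δ₀ (g₀ x)) = extFun δ x
  rw [extFun_apply δ₀ (hP₀.mem hx), hδ₀u ⟨g₀ x, hP₀.mem hx⟩]
  show k' (g₀ (extFun δ (k' (g₀ x)))) = extFun δ x
  rw [hkg x hx, hkg _ (extFun_mem δ hx)]

/-- Let F be a saturated fusion system over a finite p-group S and E a fusion system over S contained in F. If Aut_E(P) contains the subgroup of Aut_F(P) generated by its elements of p-power order for every subgroup P that is centric in F, then the same holds for every subgroup of S (E has index prime to p in F), every map of F with source a subgroup P of S is an element of Aut_F(S) composed with a map of E, and a subgroup is centric in E exactly when it is centric in F. -/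
theorem result {Ω : Type*} [Group Ω] {S : Subgroup Ω} [Finite S] (p : ℕ) [Fact p.Prime] (hS : IsPGroup p S) (F : Cfsg.FusionSystem S) (hF : F.IsSaturated p) (E : Cfsg.FusionSystem S) (hEF : E.IsSubsystemOf F) (h : ∀ P : Subgroup Ω, F.IsCentric P → (Subgroup.closure {α : ↥(F.autGroup P) | ∃ k : ℕ, orderOf α = p ^ k}).map (F.autGroup P).subtype ≤ E.autGroup P) : E.HasPrimeToPIndexIn F p ∧ (∀ (P : Subgroup Ω) (φ : P →* Ω), φ ∈ F.Hom P → ∃ α ∈ F.autGroup S, ∃ φ₀ ∈ E.Hom P, ∀ (x : P) (hx : φ₀ x ∈ S), φ x = ((α ⟨φ₀ x, hx⟩ : S) : Ω)) ∧ ∀ P : Subgroup Ω, E.IsCentric P ↔ F.IsCentric P := by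
  refine ⟨⟨hEF, fun P hP => ?_⟩, ?_, ?_⟩
  · rw [Subgroup.map_le_iff_le_comap, Subgroup.closure_le]
    rintro α ⟨k, hk⟩
    show (α : MulAut P) ∈ E.autGroup P
    have h1 : α ^ (p ^ k) = 1 := by
      rw [← hk]
      exact pow_orderOf_eq_one α
    have h2 : (α : MulAut P) ^ (p ^ k) = 1 := by
      have := congrArg Subtype.val h1
      simpa using this
    exact mem_autGroup_of_pow_all hS hF hEF h hP α.2 h2
  · intro P φ hφ
    obtain ⟨α, hα, f₀, hf₀, hff⟩ := exists_decomp hS hF h (isMapOn_extHom F hφ)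
    obtain ⟨φ₀, hφ₀, hφ₀f⟩ := hf₀
    refine ⟨α, hα, φ₀, hφ₀, fun x hx => ?_⟩
    have h1 := hff x x.2
    rw [extHom_coe] at h1
    rw [h1, ← hφ₀f x, extFun_apply α hx]
  · intro P
    constructor
    · intro hP
      refine ⟨hP.1, fun Q hQ => ?_⟩
      obtain ⟨f, hf, himg⟩ := exists_isMapOn_of_isConj hQ
      obtain ⟨α, hα, f₀, hf₀, hff⟩ := exists_decomp hS hF h hf
      obtain ⟨Q₀, hQ₀, hconj₀⟩ := exists_isImage hf₀
      have hQ₀S : Q₀ ≤ S := hQ₀.le hf₀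
      have hC₀ := hP.2 Q₀ hconj₀
      have hQimg : IsImage Q₀ (extFun α) Q := by
        intro y
        rw [himg y]
        constructor
        · rintro ⟨x, hx, rfl⟩
          exact ⟨f₀ x, hQ₀.mem hx, (hff x hx).symm⟩
        · rintro ⟨z, hz, rfl⟩
          obtain ⟨x, hx, rfl⟩ := (hQ₀ z).1 hz
          exact ⟨x, hx, hff x hx⟩
      intro c hc
      have hcS : c ∈ S := hc.1
      have hc' : extFun α⁻¹ c ∈ centralizerIn S Q₀ := by
        rw [mem_centralizerIn_iff] at hc ⊢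
        refine ⟨extFun_mem α⁻¹ hc.1, fun y hy => ?_⟩
        have h1 := hc.2 _ (hQimg.mem hy)
        have h2 := congrArg (extFun α⁻¹) h1
        rw [extFun_map_mul α⁻¹ (extFun_mem α (hQ₀S hy)) hc.1,
          extFun_map_mul α⁻¹ hc.1 (extFun_mem α (hQ₀S hy)), extFun_inv_apply α (hQ₀S hy)] at h2
        exact h2
      have h3 := hQimg.mem (hC₀ hc')
      rwa [extFun_apply_inv α hcS] at h3
    · intro hP
      refine ⟨hP.1, fun Q hQ => hP.2 Q ?_⟩
      obtain ⟨φ, hφ, rfl⟩ := hQ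
      exact ⟨φ, hEF P hφ, rfl⟩

end Cfsg.Agent.S5114
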