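import Cfsg.Statements.S5115
import Cfsg.Agent.Lib.Helper87_Constrained
import Cfsg.Agent.Lib.Helper85_Transport
import Cfsg.Agent.S5118
import Cfsg.Agent.S0542

set_option autoImplicit false
open Cfsg

namespace Cfsg.Agent.S5115

open Cfsg.FusionSystem Cfsg.Agent.Lib Cfsg.Agent.Lib.Helper85_Transport Cfsg.Agent.Lib.Helper87_Constrained

/-- Transport of constrainedness of group fusion systems along a group isomorphism. -/
theorem constrained_of_mulEquiv {G₁ G₂ : Type*} [Group G₁] [Group G₂] (e : G₁ ≃* G₂) (S₁ : Subgroup G₁)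
    [Finite S₁] {p : ℕ} [Fact p.Prime] (h : (groupFusionSystem S₁).IsConstrained p) :
    (groupFusionSystem (S₁.map e.toMonoidHom)).IsConstrained p := by
  set ι : S₁ →* G₂ := e.toMonoidHom.comp S₁.subtype with hι
  have hreal : (groupFusionSystem S₁).IsRealizedBy ι := by
    refine ⟨fun a b hab => Subtype.ext (e.injective hab), fun P hP φ hφ => ?_⟩
    constructor
    · rintro ⟨-, -, g, hg⟩
      refine ⟨e g, fun x => ?_⟩
      show e (φ x) = e g * e (x : G₁) * (e g)⁻¹
      rw [hg x, map_mul, map_mul, map_inv]
    · rintro ⟨g, hg⟩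
      refine ⟨hP, hφ, e.symm g, fun x => ?_⟩
      apply e.injective
      have := hg x
      rw [map_mul, map_mul, map_inv, e.apply_symm_apply]
      exact this
  have hcorr := corr_of_isRealizedBy hreal
  have hrange : ι.range = S₁.map e.toMonoidHom := by
    rw [hι, MonoidHom.range_comp, Subgroup.range_subtype]
  have hfin : Finite ι.range := by
    rw [hrange]
    exact Finite.of_surjective (fun x : S₁ => (⟨e x, ⟨x, x.2, rfl⟩⟩ : S₁.map e.toMonoidHom))
      (by rintro ⟨_, x, hx, rfl⟩; exact ⟨⟨x, hx⟩, rfl⟩)
  have h2 : (groupFusionSystem ι.range).IsConstrained p := hcorr.symm.isConstrained h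
  rwa [hrange] at h2

theorem main {G : Type*} [Group G] [Finite G] {p : ℕ} [Fact p.Prime] (S : Sylow p G)
    (hF : (groupFusionSystem (S : Subgroup G)).IsConstrained p) (H : Subgroup G) (hH : H.IsSubnormal) :
    (groupFusionSystem ((S : Subgroup G).subgroupOf H)).IsConstrained p := by
  induction hH with
  | top =>
    have h := constrained_of_mulEquiv (Subgroup.topEquiv (G := G)).symm (S : Subgroup G) hF
    have e1 : (S : Subgroup G).map (Subgroup.topEquiv (G := G)).symm.toMonoidHom =
        (S : Subgroup G).subgroupOf ⊤ := by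
      ext x
      rw [Subgroup.mem_subgroupOf]
      constructor
      · rintro ⟨y, hy, rfl⟩
        exact hy
      · intro hx
        exact ⟨(x : G), hx, rfl⟩
    rwa [e1] at h
  | step H K hle hK hN ih =>
    obtain ⟨SK, hSK⟩ := Cfsg.Agent.S0542.result p K hK S
    have : (H.subgroupOf K).Normal := hN
    have hnorm := Cfsg.Agent.S5118.result p SK (H.subgroupOf K)
    have hFK : (groupFusionSystem (SK : Subgroup K)).IsConstrained p := by
      rw [hSK]
      exact ih
    have hc1 := isConstrained_of_isNormalIn SK.isPGroup' hFK hnorm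
    have hcorr := corr_subgroup (H.subgroupOf K) ((SK : Subgroup K) ⊓ H.subgroupOf K) inf_le_right
    have hc2 := hcorr.isConstrained hc1
    have hc3 := constrained_of_mulEquiv (Subgroup.subgroupOfEquivOfLe hle) _ hc2
    have e1 : (((SK : Subgroup K) ⊓ H.subgroupOf K).subgroupOf (H.subgroupOf K)).map
        (Subgroup.subgroupOfEquivOfLe hle).toMonoidHom = (S : Subgroup G).subgroupOf H := by
      ext x
      rw [Subgroup.mem_subgroupOf]
      constructor
      · rintro ⟨y, hy, rfl⟩
        rw [SetLike.mem_coe, Subgroup.mem_subgroupOf, Subgroup.mem_inf, hSK, Subgroup.mem_subgroupOf] at hy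
        exact hy.1
      · intro hx
        refine ⟨⟨⟨(x : G), hle x.2⟩, Subgroup.mem_subgroupOf.2 x.2⟩, ?_, ?_⟩
        · rw [SetLike.mem_coe, Subgroup.mem_subgroupOf, Subgroup.mem_inf, hSK, Subgroup.mem_subgroupOf]
          exact ⟨hx, Subgroup.mem_subgroupOf.2 x.2⟩
        · apply Subtype.ext
          rfl
    rwa [e1] at hc3

/-- If the 2-fusion system of a finite group G on a Sylow 2-subgroup S is constrained, then for every subnormal subgroup H of G the 2-fusion system of H on S ∩ H is constrained. -/
theorem result {G : Type*} [Group G] [Finite G] (S : Sylow 2 G) (hF : (Cfsg.groupFusionSystem (S : Subgroup G)).IsConstrained 2) (H : Subgroup G) (hH : H.IsSubnormal) : (Cfsg.groupFusionSystem ((S : Subgroup G).subgroupOf H)).IsConstrained 2 := by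
  exact main S hF H hH

end Cfsg.Agent.S5115
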