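import Cfsg.Statements.S5125
import Cfsg.Agent.Lib.Helper85_FusionNormal

set_option autoImplicit false
open Cfsg

namespace Cfsg.Agent.S5125

open Cfsg.FusionSystem Cfsg.Agent.Lib.Helper85_Fusion Cfsg.Agent.Lib.Helper85_FusionNormal
open scoped commutatorElement

variable {Ω : Type*} [Group Ω] {S : Subgroup Ω}

/-- The automorphisms in `Aut_F(U)` acting trivially on `U/(U ∩ Q)` and on `(U ∩ Q)/(U ∩ Q₁)`. -/
def chainK (F : FusionSystem S) (U Q Q₁ : Subgroup Ω) (hQ₁Q : Q₁ ≤ Q) : Subgroup (MulAut U) where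
  carrier := {α | α ∈ F.autGroup U ∧ (∀ x : U, (x : Ω)⁻¹ * ((α x : U) : Ω) ∈ Q) ∧
    ∀ x : U, (x : Ω) ∈ Q → (x : Ω)⁻¹ * ((α x : U) : Ω) ∈ Q₁}
  one_mem' := by
    refine ⟨Subgroup.one_mem _, fun x => ?_, fun x _ => ?_⟩
    · show (x : Ω)⁻¹ * (x : Ω) ∈ Q
      rw [inv_mul_cancel]; exact Q.one_mem
    · show (x : Ω)⁻¹ * (x : Ω) ∈ Q₁
      rw [inv_mul_cancel]; exact Q₁.one_mem
  mul_mem' := by
    rintro α β ⟨hα0, hα1, hα2⟩ ⟨hβ0, hβ1, hβ2⟩
    have e : ∀ x : U, (x : Ω)⁻¹ * ((α (β x) : U) : Ω) =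
        (x : Ω)⁻¹ * ((β x : U) : Ω) * (((β x : U) : Ω)⁻¹ * ((α (β x) : U) : Ω)) := by
      intro x; group
    refine ⟨Subgroup.mul_mem _ hα0 hβ0, fun x => ?_, fun x hx => ?_⟩
    · show (x : Ω)⁻¹ * ((α (β x) : U) : Ω) ∈ Q
      rw [e]
      exact Q.mul_mem (hβ1 x) (hα1 (β x))
    · show (x : Ω)⁻¹ * ((α (β x) : U) : Ω) ∈ Q₁
      rw [e]
      have h1 := hβ2 x hx
      have h2 : ((β x : U) : Ω) ∈ Q := by
        have := Q.mul_mem hx (hQ₁Q h1)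
        rwa [mul_inv_cancel_left] at this
      exact Q₁.mul_mem h1 (hα2 (β x) h2)
  inv_mem' := by
    rintro α ⟨hα0, hα1, hα2⟩
    have e : ∀ x : U, (x : Ω)⁻¹ * ((α⁻¹ x : U) : Ω) =
        (((α⁻¹ x : U) : Ω)⁻¹ * ((α (α⁻¹ x) : U) : Ω))⁻¹ := by
      intro x
      rw [MulAut.apply_inv_self]
      group
    refine ⟨Subgroup.inv_mem _ hα0, fun x => ?_, fun x hx => ?_⟩
    · rw [e]
      exact Q.inv_mem (hα1 _)
    · rw [e]
      have h1 := hα1 (α⁻¹ x)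
      rw [MulAut.apply_inv_self] at h1
      have h2 : ((α⁻¹ x : U) : Ω) ∈ Q := by
        have := Q.mul_mem hx (Q.inv_mem h1)
        rw [mul_inv_rev, inv_inv, mul_inv_cancel_left] at this
        exact this
      exact Q₁.inv_mem (hα2 _ h2)

/-- Let F be a saturated fusion system over a finite p-group S and Q a subgroup strongly closed in F. If Q has a subgroup Q₁ that is normal in F, with Q/Q₁ abelian and Aut_F(Q₁) a p-group, then Q is normal in F. -/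
theorem result {Ω : Type*} [Group Ω] {S : Subgroup Ω} [Finite S] (p : ℕ) [Fact p.Prime] (hS : IsPGroup p S) (F : Cfsg.FusionSystem S) (hF : F.IsSaturated p) (Q Q₁ : Subgroup Ω) (hQ : F.StronglyClosed Q) (hQ₁Q : Q₁ ≤ Q) (hQ₁ : F.IsNormal Q₁) (hab : ⁅Q, Q⁆ ≤ Q₁) (hAut : IsPGroup p ↥(F.autGroup Q₁)) : F.IsNormal Q := by
  have hQ₁sc : F.StronglyClosed Q₁ := stronglyClosed_of_isNormal hQ₁
  refine isNormal_of_le_essential hS F hF hQ ?_
  intro U hU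
  have hUc : F.IsCentric U := hU.1
  have hUr : F.IsRadical p U := Cfsg.Agent.S5080.result p hS F hF U hU
  have hUS : U ≤ S := hUc.1
  have hfinU : Finite U := Finite.of_injective _ (Subgroup.inclusion_injective hUS)
  have hUp : IsPGroup p U := hS.to_le hUS
  refine le_of_centric_radical hS F hUc hUr hQ.1 (fun s hs x hx => sc_conj_mem hQ hs hx)
    (chainK F U Q Q₁ hQ₁Q) (fun α hα => hα.1) ?_ ?_ ?_
  · -- normalized by `Aut_F(U)`
    rintro β hβ α ⟨hα0, hα1, hα2⟩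
    have hβinv : β⁻¹ ∈ F.autGroup U := Subgroup.inv_mem _ hβ
    have e : ∀ x : U, (x : Ω)⁻¹ * (((β * α * β⁻¹) x : U) : Ω) =
        ((β ((β⁻¹ x)⁻¹ * α (β⁻¹ x)) : U) : Ω) := by
      intro x
      have h1 : (β * α * β⁻¹) x = β (α (β⁻¹ x)) := rfl
      rw [h1, map_mul, map_inv, MulAut.apply_inv_self]
      rfl
    refine ⟨Subgroup.mul_mem _ (Subgroup.mul_mem _ hβ hα0) hβinv, fun x => ?_, fun x hx => ?_⟩
    · rw [e]
      exact sc_aut_apply_mem hQ hUS hβ _ (hα1 (β⁻¹ x))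
    · rw [e]
      have h2 : ((β⁻¹ x : U) : Ω) ∈ Q := sc_aut_apply_mem hQ hUS hβinv x hx
      exact sc_aut_apply_mem hQ₁sc hUS hβ _ (hα2 (β⁻¹ x) h2)
  · -- a `p`-group
    apply Cfsg.Agent.Lib.Helper87_Alperin.isPGroup_of_coprime_eq_one
    rintro ⟨α, hαK⟩ hcop
    have hord : orderOf (⟨α, hαK⟩ : chainK F U Q Q₁ hQ₁Q) = orderOf α :=
      (Subgroup.orderOf_coe (⟨α, hαK⟩ : chainK F U Q Q₁ hQ₁Q)).symm
    rw [hord] at hcop
    apply Subtype.ext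
    show α = 1
    obtain ⟨hα0, hα1, hα2⟩ := hαK
    -- the restriction of `α` to `U ⊓ Q₁` extends to an element of `Aut_F(Q₁)`
    have hφ := restrict_mem F (inf_le_left : U ⊓ Q₁ ≤ U) ((mem_autGroup_iff F hUS α).1 hα0)
    obtain ⟨β, hβ, hβα⟩ := exists_aut_of_isNormal hQ₁ (inf_le_right : U ⊓ Q₁ ≤ Q₁) hφ
    obtain ⟨k, hk⟩ := hAut ⟨β, hβ⟩
    have hβk : β ^ p ^ k = 1 := by
      have := congrArg Subtype.val hk
      simpa using this
    have hαQ₁ : ∀ x : U, (x : Ω) ∈ Q₁ → ((α x : U) : Ω) ∈ Q₁ :=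
      fun x hx => sc_aut_apply_mem hQ₁sc hUS hα0 x hx
    have hpow : ∀ (j : ℕ) (x : U) (hx : (x : Ω) ∈ Q₁),
        (((α ^ j) x : U) : Ω) = (((β ^ j) ⟨x, hx⟩ : Q₁) : Ω) := by
      intro j
      induction j with
      | zero => intro x hx; rfl
      | succ j ih =>
        intro x hx
        rw [pow_succ, pow_succ]
        show (((α ^ j) (α x) : U) : Ω) = (((β ^ j) (β ⟨x, hx⟩) : Q₁) : Ω)
        rw [ih (α x) (hαQ₁ x hx)]
        congr 2
        apply Subtype.ext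
        exact (hβα ⟨x, ⟨x.2, hx⟩⟩).symm
    have hαK' : α ∈ chainK F U Q Q₁ hQ₁Q := ⟨hα0, hα1, hα2⟩
    have hγK : α ^ p ^ k ∈ chainK F U Q Q₁ hQ₁Q := Subgroup.pow_mem _ hαK' _
    have hγ1 : α ^ p ^ k = 1 := by
      refine Cfsg.Agent.Lib.Helper87_Alperin.aut_eq_one_of_chain hUp (α ^ p ^ k) ?_
        (fun i => if i = 0 then U else if i = 1 then Q else if i = 2 then Q₁ else ⊥) 3 ?_ ?_ ?_
      · exact Nat.Coprime.coprime_dvd_left (orderOf_pow_dvd _) hcop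
      · simp
      · simp
      · intro i hi x hx
        interval_cases i
        · simpa using hγK.2.1 x
        · have hx' : (x : Ω) ∈ Q := by simpa using hx
          simpa using hγK.2.2 x hx'
        · have hx' : (x : Ω) ∈ Q₁ := by simpa using hx
          rw [hpow _ x hx', hβk]
          simp
    have hdvd : orderOf α ∣ p ^ k := orderOf_dvd_of_pow_eq_one hγ1
    have h1 : orderOf α = 1 := Nat.Coprime.eq_one_of_dvd (Nat.Coprime.pow_right k hcop) hdvd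
    exact orderOf_eq_one_iff.1 h1
  · -- contains the automorphisms induced by `N_Q(U)`
    intro r hrQ hrN
    have hrS : r ∈ S := hQ.1 hrQ
    refine ⟨?_, fun x => ?_, fun x hx => ?_⟩
    · rw [mem_autGroup_iff F hUS]
      exact mem_of_eq F (F.conj_mem hUS hrS) (fun x => rfl)
    · show (x : Ω)⁻¹ * (r * (x : Ω) * r⁻¹) ∈ Q
      have h1 : (x : Ω)⁻¹ * r * (x : Ω)⁻¹⁻¹ ∈ Q := sc_conj_mem hQ (S.inv_mem (hUS x.2)) hrQ
      have e : (x : Ω)⁻¹ * (r * (x : Ω) * r⁻¹) = (x : Ω)⁻¹ * r * (x : Ω)⁻¹⁻¹ * r⁻¹ := by group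
      rw [e]
      exact Q.mul_mem h1 (Q.inv_mem hrQ)
    · show (x : Ω)⁻¹ * (r * (x : Ω) * r⁻¹) ∈ Q₁
      have h1 : ⁅(x : Ω)⁻¹, r⁆ ∈ ⁅Q, Q⁆ := Subgroup.commutator_mem_commutator (Q.inv_mem hx) hrQ
      have e : (x : Ω)⁻¹ * (r * (x : Ω) * r⁻¹) = ⁅(x : Ω)⁻¹, r⁆ := by
        rw [commutatorElement_def]; group
      rw [e]
      exact hab h1

end Cfsg.Agent.S5125
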