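import Cfsg.Statements.S5130
import Cfsg.Agent.Lib.Helper85_DirectFactor
import Cfsg.Agent.S5099

set_option autoImplicit false
open Cfsg

namespace Cfsg.Agent.S5130

open Cfsg.FusionSystem Cfsg.Agent.Lib.Helper87_Alperin Cfsg.Agent.Lib.Helper88_Centric
  Cfsg.Agent.Lib.Helper88_Centric2 Cfsg.Agent.Lib.Helper88_Receptive Cfsg.Agent.Lib.Helper84_FusionRS
  Cfsg.Agent.Lib.Helper85_DirectFactor Cfsg.Agent.Lib.Helper85_Transport2

variable {Ω : Type*} [Group Ω] {S : Subgroup Ω}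

/-- The setting: `S = S₁ × S₂` with both factors strongly closed in the saturated system `F`. -/
structure Setting (p : ℕ) (F : FusionSystem S) (S₁ S₂ : Subgroup Ω) : Prop where
  hS : IsPGroup p S
  hF : F.IsSaturated p
  hprod : Cfsg.IsInternalDirectProduct S₁ S₂ S
  h₁ : F.StronglyClosed S₁
  h₂ : F.StronglyClosed S₂

namespace Setting

variable {p : ℕ} {F : FusionSystem S} {S₁ S₂ : Subgroup Ω}

theorem le₁ (h : Setting p F S₁ S₂) : S₁ ≤ S := h.hprod.1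
theorem le₂ (h : Setting p F S₁ S₂) : S₂ ≤ S := h.hprod.2.1
theorem comm (h : Setting p F S₁ S₂) : ∀ a ∈ S₁, ∀ b ∈ S₂, a * b = b * a := h.hprod.2.2.1
theorem sup_eq (h : Setting p F S₁ S₂) : S₁ ⊔ S₂ = S := h.hprod.2.2.2.2

theorem le_cent₁ (h : Setting p F S₁ S₂) {P : Subgroup Ω} (hP : P ≤ S₁) : S₂ ≤ centralizerIn S P := by
  intro s hs
  rw [mem_centralizerIn_iff]
  exact ⟨h.le₂ hs, fun y hy => h.comm y (hP hy) s hs⟩

theorem le_cent₂ (h : Setting p F S₁ S₂) : S₁ ≤ centralizerIn S S₂ := by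
  intro s hs
  rw [mem_centralizerIn_iff]
  exact ⟨h.le₁ hs, fun y hy => (h.comm s hs y hy).symm⟩

theorem exists_mul (h : Setting p F S₁ S₂) {s : Ω} (hs : s ∈ S) : ∃ a ∈ S₁, ∃ b ∈ S₂, s = a * b := by
  rw [← h.sup_eq] at hs
  exact exists_mul_of_mem_sup h.comm hs

variable [Finite S] [Fact p.Prime]

/-- An automorphism of `S₁` in `F` extends to an automorphism of `S` in `F`. -/
theorem exists_aut_ext (h : Setting p F S₁ S₂) {α : MulAut S₁} (hα : α ∈ F.autGroup S₁) :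
    ∃ β ∈ F.autGroup S, ∀ x ∈ S₁, extFun β x = extFun α x := by
  have hαm : IsMapOn F S₁ (extFun α) := (mem_autGroup_iff F h.le₁ α).1 hα
  obtain ⟨b, hb, hbα⟩ := exists_extension_of_stronglyClosed h.hS h.hF h.h₁ hαm
  have hle : S ≤ S₁ ⊔ centralizerIn S S₁ :=
    h.sup_eq.symm.le.trans (sup_le_sup_left (h.le_cent₁ le_rfl) S₁)
  have hbS : IsMapOn F S b := hb.mono hle
  obtain ⟨β, hβ, hβb⟩ := exists_aut_of_isMapOn hbS (fun x hx => hbS.mem hx)
  refine ⟨β, hβ, fun x hx => ?_⟩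
  rw [extFun_apply β (h.le₁ hx), hβb]
  exact hbα x hx

theorem aut_mem₂ (h : Setting p F S₁ S₂) {β : MulAut S} (hβ : β ∈ F.autGroup S) :
    ∀ y ∈ S₂, extFun β y ∈ S₂ :=
  apply_mem_of_stronglyClosed h.h₂ (((mem_autGroup_iff F le_rfl β).1 hβ).mono h.le₂) le_rfl

theorem aut_mem₁ (h : Setting p F S₁ S₂) {β : MulAut S} (hβ : β ∈ F.autGroup S) :
    ∀ y ∈ S₁, extFun β y ∈ S₁ :=
  apply_mem_of_stronglyClosed h.h₁ (((mem_autGroup_iff F le_rfl β).1 hβ).mono h.le₁) le_rfl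

variable {R' : FusionSystem S₁}

/-- Invariance of `R'` under `Aut_F(S₁)`. -/
theorem inv_cent (h : Setting p F S₁ S₂)
    (hR' : ∀ P : Subgroup Ω, P ≤ S₁ → R'.Hom P = F.centralizerHom S₂ P)
    {P P' : Subgroup Ω} {f : Ω → Ω} {α : MulAut S₁} (hα : α ∈ F.autGroup S₁) (hf : IsMapOn R' P f)
    (hP' : IsImage P (extFun α) P') : IsMapOn R' P' (extFun α ∘ f ∘ extFun α⁻¹) := by
  have hP : P ≤ S₁ := hf.le
  have hP'S₁ : P' ≤ S₁ := fun y hy => by
    obtain ⟨x, hx, rfl⟩ := (hP' y).1 hy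
    exact extFun_mem α (hP hx)
  obtain ⟨g, hg, hgP, hgQ⟩ := (isMapOn_cent hR' h.le_cent₂ h.h₁ hP).1 hf
  obtain ⟨β, hβ, hβα⟩ := h.exists_aut_ext hα
  have hβm : IsMapOn F S (extFun β) := (mem_autGroup_iff F le_rfl β).1 hβ
  have hβi : IsMapOn F S (extFun β⁻¹) := (mem_autGroup_iff F le_rfl β⁻¹).1 (inv_mem hβ)
  have hβαi : ∀ x ∈ S₁, extFun β⁻¹ x = extFun α⁻¹ x := by
    intro x hx
    have h1 : extFun α⁻¹ x ∈ S₁ := extFun_mem _ hx
    have h2 : extFun β (extFun α⁻¹ x) = x := by rw [hβα _ h1, extFun_apply_inv α hx]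
    calc extFun β⁻¹ x = extFun β⁻¹ (extFun β (extFun α⁻¹ x)) := by rw [h2]
      _ = extFun α⁻¹ x := extFun_inv_apply β (h.le₁ h1)
  have hβiS₂ : ∀ y ∈ S₂, extFun β⁻¹ y ∈ S₂ := h.aut_mem₂ (inv_mem hβ)
  have hle : P' ⊔ S₂ ≤ S := sup_le (hP'S₁.trans h.le₁) h.le₂
  have hmaps : ∀ x ∈ P' ⊔ S₂, extFun β⁻¹ x ∈ P ⊔ S₂ := by
    refine IsMapOn.mem_of_sup hβi hle ?_ ?_
    · intro x hx
      obtain ⟨x₀, hx₀, rfl⟩ := (hP' x).1 hx
      rw [hβαi _ (extFun_mem α (hP hx₀)), extFun_inv_apply α (hP hx₀)]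
      exact (le_sup_left : P ≤ P ⊔ S₂) hx₀
    · intro y hy
      exact (le_sup_right : S₂ ≤ P ⊔ S₂) (hβiS₂ y hy)
  have hg' : IsMapOn F (P' ⊔ S₂) (extFun β ∘ g ∘ extFun β⁻¹) :=
    ((hβi.mono hle).comp hg hmaps).comp hβm (fun x hx => hg.mem (hmaps x hx))
  refine (isMapOn_cent hR' h.le_cent₂ h.h₁ hP'S₁).2 ⟨_, hg', ?_, ?_⟩
  · intro x hx
    simp only [Function.comp_apply]
    rw [hβαi x (hP'S₁ hx)]
    obtain ⟨x₀, hx₀, rfl⟩ := (hP' x).1 hx
    rw [extFun_inv_apply α (hP hx₀), hgP x₀ hx₀]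
    exact hβα _ (hf.mem hx₀)
  · intro y hy
    simp only [Function.comp_apply]
    rw [hgQ _ (hβiS₂ y hy), extFun_apply_inv β (h.le₂ hy)]

/-- The Frattini property of `R'` in `F`. -/
theorem frattini_cent (h : Setting p F S₁ S₂)
    (hR' : ∀ P : Subgroup Ω, P ≤ S₁ → R'.Hom P = F.centralizerHom S₂ P)
    {P : Subgroup Ω} {f : Ω → Ω} (hP : P ≤ S₁) (hf : IsMapOn F P f) :
    ∃ α ∈ F.autGroup S₁, ∃ f₀ : Ω → Ω, IsMapOn R' P f₀ ∧ ∀ x ∈ P, f x = extFun α (f₀ x) := by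
  have hS := h.hS
  have hF := h.hF
  obtain ⟨P₁, hP₁, -⟩ := exists_isImage hf
  have hfS₁ : ∀ x ∈ P, f x ∈ S₁ := apply_mem_of_stronglyClosed h.h₁ hf hP
  have hP₁S₁ : P₁ ≤ S₁ := fun y hy => by
    obtain ⟨x, hx, rfl⟩ := (hP₁ y).1 hy
    exact hfS₁ x hx
  have hP₁S : P₁ ≤ S := hP₁S₁.trans h.le₁
  obtain ⟨P₂, hP₁P₂, hfn⟩ := exists_isFullyNormalized_conj F hP₁S
  have hP₂r : F.IsReceptive P₂ := IsSaturated.isReceptive_of_isFullyNormalized hS hF hfn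
  obtain ⟨ψ, hψ, hψimg⟩ := exists_isMapOn_of_isConj hP₁P₂
  have hψf : IsMapOn F P (ψ ∘ f) := hf.comp hψ (fun x hx => hP₁.mem hx)
  have hψfimg : IsImage P (ψ ∘ f) P₂ := by
    intro y
    rw [hψimg y]
    constructor
    · rintro ⟨x₁, hx₁, rfl⟩
      obtain ⟨x, hx, rfl⟩ := (hP₁ x₁).1 hx₁
      exact ⟨x, hx, rfl⟩
    · rintro ⟨x, hx, rfl⟩
      exact ⟨f x, hP₁.mem hx, rfl⟩
  obtain ⟨u, hu, huP⟩ := exists_extension_centralizerIn hP₂r hψf hψfimg
  obtain ⟨v, hv, hvP⟩ := exists_extension_centralizerIn hP₂r hψ hψimg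
  have hu' : IsMapOn F (P ⊔ S₂) u := hu.mono (sup_le_sup_left (h.le_cent₁ hP) P)
  have hv' : IsMapOn F (P₁ ⊔ S₂) v := hv.mono (sup_le_sup_left (h.le_cent₁ hP₁S₁) P₁)
  obtain ⟨V₂, hV₂, -⟩ := exists_isImage hv'
  obtain ⟨vi, hvi, hviv, -, -⟩ := hv'.inv hV₂
  have hvS₂ : ∀ y ∈ S₂, v y ∈ S₂ :=
    apply_mem_of_stronglyClosed h.h₂ (hv'.mono (le_sup_right : S₂ ≤ P₁ ⊔ S₂)) le_rfl
  obtain ⟨β₂, -, hβ₂⟩ := exists_aut_of_isMapOn (hv'.mono (le_sup_right : S₂ ≤ P₁ ⊔ S₂)) hvS₂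
  have hvsurj : ∀ y ∈ S₂, ∃ y' ∈ S₂, v y' = y := by
    intro y hy
    refine ⟨(β₂⁻¹ ⟨y, hy⟩ : S₂), (β₂⁻¹ ⟨y, hy⟩).2, ?_⟩
    rw [← hβ₂]
    simp
  have huS₂ : ∀ y ∈ S₂, u y ∈ S₂ :=
    apply_mem_of_stronglyClosed h.h₂ (hu'.mono (le_sup_right : S₂ ≤ P ⊔ S₂)) le_rfl
  have huV : ∀ x ∈ P ⊔ S₂, u x ∈ V₂ := by
    refine IsMapOn.mem_of_sup hu' le_rfl ?_ ?_
    · intro x hx
      rw [huP x hx]
      show ψ (f x) ∈ V₂
      rw [← hvP (f x) (hP₁.mem hx)]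
      exact hV₂.mem ((le_sup_left : P₁ ≤ P₁ ⊔ S₂) (hP₁.mem hx))
    · intro y hy
      obtain ⟨y', hy', hvy⟩ := hvsurj (u y) (huS₂ y hy)
      rw [← hvy]
      exact hV₂.mem ((le_sup_right : S₂ ≤ P₁ ⊔ S₂) hy')
  have hw : IsMapOn F (P ⊔ S₂) (vi ∘ u) := hu'.comp hvi huV
  have hwP : ∀ x ∈ P, vi (u x) = f x := by
    intro x hx
    rw [huP x hx]
    show vi (ψ (f x)) = f x
    rw [← hvP (f x) (hP₁.mem hx)]
    exact hviv _ ((le_sup_left : P₁ ≤ P₁ ⊔ S₂) (hP₁.mem hx))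
  obtain ⟨b, hb, hbS₂⟩ :=
    exists_extension_of_stronglyClosed hS hF h.h₂ (hw.mono (le_sup_right : S₂ ≤ P ⊔ S₂))
  have hSle : S ≤ S₂ ⊔ centralizerIn S S₂ :=
    h.sup_eq.symm.le.trans (sup_le (le_sup_of_le_right h.le_cent₂) le_sup_left)
  have hbS : IsMapOn F S b := hb.mono hSle
  obtain ⟨δ, hδ, hδb⟩ := exists_aut_of_isMapOn hbS (fun x hx => hbS.mem hx)
  have hδm : IsMapOn F S (extFun δ) := (mem_autGroup_iff F le_rfl δ).1 hδ
  have hδi : IsMapOn F S (extFun δ⁻¹) := (mem_autGroup_iff F le_rfl δ⁻¹).1 (inv_mem hδ)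
  have hδS₂ : ∀ y ∈ S₂, extFun δ y = vi (u y) := by
    intro y hy
    rw [extFun_apply δ (h.le₂ hy), hδb]
    exact hbS₂ y hy
  obtain ⟨α, hα, hαδ⟩ := exists_aut_of_isMapOn (hδm.mono h.le₁) (h.aut_mem₁ hδ)
  refine ⟨α, hα, extFun δ⁻¹ ∘ f, ?_, ?_⟩
  · refine (isMapOn_cent hR' h.le_cent₂ h.h₁ hP).2
      ⟨extFun δ⁻¹ ∘ (vi ∘ u), hw.comp hδi (fun x hx => hw.mem hx), ?_, ?_⟩
    · intro x hx
      simp only [Function.comp_apply]
      rw [hwP x hx]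
    · intro y hy
      simp only [Function.comp_apply]
      rw [← hδS₂ y hy]
      exact extFun_inv_apply δ (h.le₂ hy)
  · intro x hx
    simp only [Function.comp_apply]
    have h1 : extFun δ⁻¹ (f x) ∈ S₁ := h.aut_mem₁ (inv_mem hδ) _ (hfS₁ x hx)
    rw [extFun_apply α h1, hαδ]
    exact (extFun_apply_inv δ (h.le₁ (hfS₁ x hx))).symm

/-- Elements of `Z(S₁)` are carried to `Z(S₁)` by automorphisms. -/
theorem comm_of_central {T : Subgroup Ω} {E : FusionSystem T} {α : MulAut T}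
    (hαm : IsMapOn E T (extFun α)) {a : Ω} (ha : a ∈ T) (haZ : ∀ y ∈ T, y * a = a * y) :
    ∀ y ∈ T, y * (a⁻¹ * extFun α a) = a⁻¹ * extFun α a * y := by
  intro y hy
  have hαZ : y * extFun α a = extFun α a * y := by
    have hy₀ : extFun α⁻¹ y ∈ T := extFun_mem _ hy
    calc y * extFun α a = extFun α (extFun α⁻¹ y) * extFun α a := by rw [extFun_apply_inv α hy]
      _ = extFun α (extFun α⁻¹ y * a) := (hαm.map_mul hy₀ ha).symm
      _ = extFun α (a * extFun α⁻¹ y) := by rw [haZ _ hy₀]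
      _ = extFun α a * extFun α (extFun α⁻¹ y) := hαm.map_mul ha hy₀
      _ = extFun α a * y := by rw [extFun_apply_inv α hy]
  have haiZ : y * a⁻¹ = a⁻¹ * y := by
    have := haZ y hy
    calc y * a⁻¹ = a⁻¹ * (a * y) * a⁻¹ := by group
      _ = a⁻¹ * (y * a) * a⁻¹ := by rw [this]
      _ = a⁻¹ * y := by group
  calc y * (a⁻¹ * extFun α a) = (y * a⁻¹) * extFun α a := by group
    _ = a⁻¹ * y * extFun α a := by rw [haiZ]
    _ = a⁻¹ * (y * extFun α a) := by group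
    _ = a⁻¹ * (extFun α a * y) := by rw [hαZ]
    _ = a⁻¹ * extFun α a * y := by group

/-- The extension condition for `R'` in `F`. -/
theorem ext_cond_F (h : Setting p F S₁ S₂)
    (hR' : ∀ P : Subgroup Ω, P ≤ S₁ → R'.Hom P = F.centralizerHom S₂ P) :
    ∀ α ∈ R'.autGroup S₁, ∃ β ∈ F.autGroup (S₁ ⊔ centralizerIn S S₁),
      (∀ x : S₁, ((β (Subgroup.inclusion le_sup_left x) : ↥(S₁ ⊔ centralizerIn S S₁)) : Ω) = ((α x : S₁) : Ω)) ∧
      ∀ c : ↥(S₁ ⊔ centralizerIn S S₁), (c : Ω) ∈ centralizerIn S S₁ →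
        (c : Ω)⁻¹ * ((β c : ↥(S₁ ⊔ centralizerIn S S₁)) : Ω) ∈ S₁ ⊓ Subgroup.centralizer (S₁ : Set Ω) := by
  intro α hα
  have hαm : IsMapOn R' S₁ (extFun α) := (mem_autGroup_iff R' le_rfl α).1 hα
  obtain ⟨g, hg, hgP, hgQ⟩ := (isMapOn_cent hR' h.le_cent₂ h.h₁ le_rfl).1 hαm
  have hD : S₁ ⊔ centralizerIn S S₁ = S₁ ⊔ S₂ := by
    apply le_antisymm
    · rw [h.sup_eq]
      exact sup_le h.le₁ inf_le_left
    · exact sup_le_sup_left (h.le_cent₁ le_rfl) S₁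
  have hg' : IsMapOn F (S₁ ⊔ centralizerIn S S₁) g := by rw [hD]; exact hg
  have hgD : ∀ x ∈ S₁ ⊔ centralizerIn S S₁, g x ∈ S₁ ⊔ centralizerIn S S₁ := by
    intro x hx
    rw [hD, h.sup_eq]
    exact hg'.mem hx
  obtain ⟨β, hβ, hβg⟩ := exists_aut_of_isMapOn hg' hgD
  refine ⟨β, hβ, fun x => ?_, fun c hc => ?_⟩
  · rw [hβg]
    show g (x : Ω) = _
    rw [hgP _ x.2, extFun_coe]
  · rw [hβg]
    obtain ⟨hcS, hcc⟩ := (mem_centralizerIn_iff S S₁ c).1 hc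
    obtain ⟨a, ha, b, hb, hab⟩ := h.exists_mul hcS
    have hgc : g c = extFun α a * b := by
      rw [hab, hg.map_mul ((le_sup_left : S₁ ≤ S₁ ⊔ S₂) ha) ((le_sup_right : S₂ ≤ S₁ ⊔ S₂) hb),
        hgP a ha, hgQ b hb]
    have haZ : ∀ y ∈ S₁, y * a = a * y := by
      intro y hy
      have h1 := hcc y hy
      rw [hab] at h1
      have h2 := h.comm y hy b hb
      have : y * a * b = a * y * b := by
        calc y * a * b = y * (a * b) := by group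
          _ = a * b * y := h1
          _ = a * (b * y) := by group
          _ = a * (y * b) := by rw [h2]
          _ = a * y * b := by group
      exact mul_right_cancel this
    have hαa : extFun α a ∈ S₁ := extFun_mem α ha
    have hcomm' : (a⁻¹ * extFun α a) * b = b * (a⁻¹ * extFun α a) :=
      h.comm _ (S₁.mul_mem (S₁.inv_mem ha) hαa) b hb
    have hred : (c : Ω)⁻¹ * g c = a⁻¹ * extFun α a := by
      rw [hgc, hab]
      calc (a * b)⁻¹ * (extFun α a * b) = b⁻¹ * ((a⁻¹ * extFun α a) * b) := by group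
        _ = b⁻¹ * (b * (a⁻¹ * extFun α a)) := by rw [hcomm']
        _ = a⁻¹ * extFun α a := by group
    rw [hred]
    refine Subgroup.mem_inf.2 ⟨S₁.mul_mem (S₁.inv_mem ha) hαa, ?_⟩
    rw [Subgroup.mem_centralizer_iff]
    exact comm_of_central hαm ha haZ

/-- The extension condition for `R'` in `R`. -/
theorem ext_cond_R [Finite S₁] {R : FusionSystem S₁} (hsub : R'.IsSubsystemOf R) :
    ∀ α ∈ R'.autGroup S₁, ∃ β ∈ R.autGroup (S₁ ⊔ centralizerIn S₁ S₁),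
      (∀ x : S₁, ((β (Subgroup.inclusion le_sup_left x) : ↥(S₁ ⊔ centralizerIn S₁ S₁)) : Ω) = ((α x : S₁) : Ω)) ∧
      ∀ c : ↥(S₁ ⊔ centralizerIn S₁ S₁), (c : Ω) ∈ centralizerIn S₁ S₁ →
        (c : Ω)⁻¹ * ((β c : ↥(S₁ ⊔ centralizerIn S₁ S₁)) : Ω) ∈ S₁ ⊓ Subgroup.centralizer (S₁ : Set Ω) := by
  intro α hα
  have hαm' : IsMapOn R' S₁ (extFun α) := (mem_autGroup_iff R' le_rfl α).1 hα
  have hαm : IsMapOn R S₁ (extFun α) := isMapOn_of_isSubsystemOf hsub hαm'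
  have hD : S₁ ⊔ centralizerIn S₁ S₁ = S₁ := sup_eq_left.2 inf_le_left
  have hg' : IsMapOn R (S₁ ⊔ centralizerIn S₁ S₁) (extFun α) := by rw [hD]; exact hαm
  have hgD : ∀ x ∈ S₁ ⊔ centralizerIn S₁ S₁, extFun α x ∈ S₁ ⊔ centralizerIn S₁ S₁ := by
    intro x hx
    rw [hD] at hx ⊢
    exact extFun_mem α hx
  obtain ⟨β, hβ, hβg⟩ := exists_aut_of_isMapOn hg' hgD
  refine ⟨β, hβ, fun x => ?_, fun c hc => ?_⟩
  · rw [hβg]
    exact extFun_coe α x
  · rw [hβg]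
    obtain ⟨hcS, hcc⟩ := (mem_centralizerIn_iff S₁ S₁ c).1 hc
    refine Subgroup.mem_inf.2 ⟨S₁.mul_mem (S₁.inv_mem hcS) (extFun_mem α hcS), ?_⟩
    rw [Subgroup.mem_centralizer_iff]
    exact comm_of_central hαm hcS hcc

end Setting

/-- Let F be a saturated fusion system over a finite p-group S that is the direct product of two subgroups S₁ and S₂, each strongly closed in F. Let R be the full subsystem of F over S₁ (all maps of F between subgroups of S₁) and R′ the subsystem over S₁ of those maps that extend to the subgroup generated with S₂ fixing S₂ elementwise. Then R and R′ are saturated, R′ is normal in F and in R, and R is weakly normal in F. -/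
theorem result {Ω : Type*} [Group Ω] {S : Subgroup Ω} [Finite S] (p : ℕ) [Fact p.Prime] (hS : IsPGroup p S) (F : Cfsg.FusionSystem S) (hF : F.IsSaturated p) (S₁ S₂ : Subgroup Ω) (hprod : Cfsg.IsInternalDirectProduct S₁ S₂ S) (h₁ : F.StronglyClosed S₁) (h₂ : F.StronglyClosed S₂) (R R' : Cfsg.FusionSystem S₁) (hR : ∀ P : Subgroup Ω, P ≤ S₁ → R.Hom P = F.Hom P) (hR' : ∀ P : Subgroup Ω, P ≤ S₁ → R'.Hom P = F.centralizerHom S₂ P) : R.IsSaturated p ∧ R'.IsSaturated p ∧ R'.IsNormalIn F p ∧ R'.IsNormalIn R p ∧ R.IsWeaklyNormalIn F p := by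
  have h : Setting p F S₁ S₂ := ⟨hS, hF, hprod, h₁, h₂⟩
  have : Finite S₁ := finite_of_le_S h.le₁
  have hS₁p : IsPGroup p S₁ := hS.to_le h.le₁
  -- saturation of `R`
  have hRsat : R.IsSaturated p := by
    refine fullSub_isSaturated hS hF h₁ (fun s hs => ?_) R hR
    obtain ⟨a, ha, b, hb, hab⟩ := h.exists_mul hs
    exact ⟨a, ha, b, h.le_cent₁ le_rfl hb, hab⟩
  -- saturation of `R'`
  have hR'sat : R'.IsSaturated p := by
    have hE : F.IsCentralizerSystem S₂ (Lib.Helper85_Fusion.centralizerSystem F S₂ h.le₂) :=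
      Lib.Helper85_Fusion.centralizerSystem_isCentralizerSystem F S₂ h.le₂
    have hEsat := Cfsg.Agent.S5099.result p hS F hF S₂ (isFullyCentralized_of_stronglyClosed h₂) _ hE
    have : Finite ↥(centralizerIn S S₂) := finite_of_le_S inf_le_left
    have hSE : IsPGroup p ↥(centralizerIn S S₂) := hS.to_le inf_le_left
    refine fullSub_isSaturated hSE hEsat (T := S₁) ⟨h.le_cent₂, fun R₀ hR₀ φ hφ x => ?_⟩
      (fun s hs => ?_) R' (fun P hP => ?_)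
    · rw [hE R₀] at hφ
      exact h₁.2 R₀ hR₀ φ hφ.1 x
    · obtain ⟨hsS, hsc⟩ := (mem_centralizerIn_iff S S₂ s).1 hs
      obtain ⟨a, ha, b, hb, hab⟩ := h.exists_mul hsS
      refine ⟨a, ha, b, ?_, hab⟩
      rw [mem_centralizerIn_iff]
      refine ⟨?_, fun y hy => h.comm y hy b hb⟩
      rw [mem_centralizerIn_iff]
      refine ⟨h.le₂ hb, fun y hy => ?_⟩
      -- `b = a⁻¹ s` centralizes `S₂`
      have h1 := hsc y hy
      rw [hab] at h1
      have h2 := h.comm a ha y hy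
      have : a * (y * b) = a * (b * y) := by
        calc a * (y * b) = (a * y) * b := by group
          _ = y * a * b := by rw [h2]
          _ = y * (a * b) := by group
          _ = a * b * y := h1
          _ = a * (b * y) := by group
      exact mul_left_cancel this
    · rw [hR' P hP, hE P]
  have hsubF : R'.IsSubsystemOf F := by
    intro P φ hφ
    have hP : P ≤ S₁ := (R'.le_of_mem hφ).1
    rw [hR' P hP] at hφ
    exact hφ.1
  have hsubR : R'.IsSubsystemOf R := by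
    intro P φ hφ
    have hP : P ≤ S₁ := (R'.le_of_mem hφ).1
    rw [hR P hP]
    exact hsubF P hφ
  have hRsubF : R.IsSubsystemOf F := by
    intro P φ hφ
    have hP : P ≤ S₁ := (R.le_of_mem hφ).1
    rw [← hR P hP]
    exact hφ
  have hautR : R.autGroup S₁ = F.autGroup S₁ := by
    unfold FusionSystem.autGroup
    rw [hR S₁ le_rfl]
  have hscR : R.StronglyClosed S₁ := ⟨le_rfl, fun R₀ _ φ hφ x => (R.le_of_mem hφ).2 x⟩
  -- invariance of `R'` in `F`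
  have hinvF : R'.IsInvariantIn F := by
    refine isInvariantIn_intro hsubF h₁ ?_ ?_
    · intro P P' f α hα hf hP'
      exact h.inv_cent hR' hα hf hP'
    · intro P f hP hf
      exact h.frattini_cent hR' hP hf
  have hinvR : R'.IsInvariantIn R := by
    refine isInvariantIn_intro hsubR hscR ?_ ?_
    · intro P P' f α hα hf hP'
      rw [hautR] at hα
      exact h.inv_cent hR' hα hf hP'
    · intro P f hP hf
      obtain ⟨α, hα, f₀, hf₀, hff₀⟩ := h.frattini_cent hR' hP ((isMapOn_full hR hP).1 hf)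
      exact ⟨α, hautR ▸ hα, f₀, hf₀, hff₀⟩
  have hinvRF : R.IsInvariantIn F := by
    refine isInvariantIn_intro hRsubF h₁ ?_ ?_
    · intro P P' f α hα hf hP'
      have hP : P ≤ S₁ := hf.le
      have hP'S₁ : P' ≤ S₁ := fun y hy => by
        obtain ⟨x, hx, rfl⟩ := (hP' y).1 hy
        exact extFun_mem α (hP hx)
      have hαm : IsMapOn F S₁ (extFun α) := (mem_autGroup_iff F h.le₁ α).1 hα
      have hαi : IsMapOn F S₁ (extFun α⁻¹) := (mem_autGroup_iff F h.le₁ α⁻¹).1 (inv_mem hα)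
      have hfF : IsMapOn F P f := (isMapOn_full hR hP).1 hf
      have hmaps : ∀ x ∈ P', extFun α⁻¹ x ∈ P := by
        intro x hx
        obtain ⟨x₀, hx₀, rfl⟩ := (hP' x).1 hx
        rw [extFun_inv_apply α (hP hx₀)]
        exact hx₀
      rw [isMapOn_full hR hP'S₁]
      exact ((hαi.mono hP'S₁).comp hfF hmaps).comp hαm (fun x hx => hf.mem (hmaps x hx))
    · intro P f hP hf
      refine ⟨1, one_mem _, f, (isMapOn_full hR hP).2 hf, fun x hx => ?_⟩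
      have hfx : f x ∈ S₁ := apply_mem_of_stronglyClosed h₁ hf hP x hx
      rw [extFun_apply _ hfx]
      rfl
  exact ⟨hRsat, hR'sat, ⟨⟨hR'sat, hF, hinvF⟩, h.ext_cond_F hR'⟩,
    ⟨⟨hR'sat, hRsat, hinvR⟩, Setting.ext_cond_R hsubR⟩, ⟨hRsat, hF, hinvRF⟩⟩

end Cfsg.Agent.S5130
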