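import Mathlib
import Cfsg.Statements.S5135
import Cfsg.Agent.Lib.Helper53_Conj

set_option autoImplicit false
open Cfsg

namespace Cfsg.Agent.S5135

open Cfsg.Agent.Lib.Helper53_Conj

/-- A `p`-subgroup `Q ≤ S ⊔ H` (with `H` normal, `S` Sylow) is conjugate into `S` by an element of `H`. -/
theorem exists_mem_normal_cj_le {G : Type*} [Group G] [Finite G] {p : ℕ} [Fact p.Prime]
    (S : Sylow p G) (H : Subgroup G) [H.Normal] (Q : Subgroup G) (hQ : IsPGroup p ↥Q)
    (hQle : Q ≤ (S : Subgroup G) ⊔ H) : ∃ h ∈ H, ∀ q ∈ Q, h * q * h⁻¹ ∈ (S : Subgroup G) := by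
  obtain ⟨n, hn, hle⟩ := exists_mem_le_cj_sylow S ((S : Subgroup G) ⊔ H) Q le_sup_left hQle hQ
  have hn' : n ∈ (((H ⊔ (S : Subgroup G) : Subgroup G)) : Set G) := by
    rw [sup_comm]; exact hn
  rw [Subgroup.normal_mul] at hn'
  obtain ⟨h, hh, s, hs, rfl⟩ := Set.mem_mul.mp hn'
  refine ⟨h⁻¹, H.inv_mem hh, ?_⟩
  intro q hq
  have h1 := hle hq
  rw [mem_cj] at h1
  have h2 : h⁻¹ * q * h⁻¹⁻¹ = s * ((h * s)⁻¹ * q * (h * s)) * s⁻¹ := by
    group
  rw [h2]
  exact (S : Subgroup G).mul_mem ((S : Subgroup G).mul_mem hs h1) ((S : Subgroup G).inv_mem hs)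

/-- Let G be a finite group, S a Sylow p-subgroup and H a normal subgroup of G. Then the fusion system of G/H on the image SH/H of S is the factor system of the fusion system of G on S modulo S ∩ H, read through the quotient map restricted to S: for each subgroup P' of SH/H, the conjugation maps by elements of G/H defined on P' with values in SH/H are exactly the homomorphisms induced by the conjugation maps by elements of G defined on the full preimage of P' in S with values in S. -/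
theorem result {G : Type*} [Group G] [Finite G] (p : ℕ) [Fact p.Prime] (S : Sylow p G) (H : Subgroup G) [H.Normal] : (Cfsg.groupFusionSystem (S : Subgroup G)).IsFactorSystem ((S : Subgroup G) ⊓ H) ((QuotientGroup.mk' H).comp (S : Subgroup G).subtype) (Cfsg.groupFusionSystem ((S : Subgroup G).map (QuotientGroup.mk' H))) := by
  set θ : ↥(S : Subgroup G) →* G ⧸ H := (QuotientGroup.mk' H).comp (S : Subgroup G).subtype with hθ
  have hθapp : ∀ s : ↥(S : Subgroup G), θ s = ((s : G) : G ⧸ H) := fun s => rfl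
  refine ⟨inf_le_left, ?_, ?_, ?_⟩
  · intro s
    rw [hθapp, QuotientGroup.eq_one_iff]
    constructor
    · intro h; exact ⟨s.2, h⟩
    · intro h; exact h.2
  · rw [hθ, MonoidHom.range_comp, Subgroup.range_subtype]
  · intro P' φ'
    -- the preimage
    have hpre : ∀ x : G, x ∈ FusionSystem.preimageAlong θ P' ↔
        x ∈ (S : Subgroup G) ∧ ((x : G) : G ⧸ H) ∈ P' := by
      intro x
      unfold FusionSystem.preimageAlong
      constructor
      · rintro ⟨y, hy, rfl⟩
        exact ⟨y.2, hy⟩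
      · rintro ⟨hxS, hxP⟩
        exact ⟨⟨x, hxS⟩, hxP, rfl⟩
    constructor
    · rintro ⟨hP'S, hφ'S, gbar, hgbar⟩
      refine ⟨hP'S, ?_⟩
      obtain ⟨g, rfl⟩ := QuotientGroup.mk_surjective gbar
      set P : Subgroup G := FusionSystem.preimageAlong θ P' with hP
      have hPS : P ≤ (S : Subgroup G) := fun x hx => ((hpre x).mp hx).1
      -- Q := g P g⁻¹ ≤ S ⊔ H
      have hQle : cj g P ≤ (S : Subgroup G) ⊔ H := by
        intro q hq
        rw [mem_cj] at hq
        obtain ⟨x, hx, rfl⟩ : ∃ x, x ∈ P ∧ q = g * x * g⁻¹ :=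
          ⟨g⁻¹ * q * g, hq, by group⟩
        have hx' := (hpre x).mp hx
        have h1 : φ' ⟨(x : G ⧸ H), hx'.2⟩ ∈ (S : Subgroup G).map (QuotientGroup.mk' H) :=
          hφ'S _
        rw [hgbar] at h1
        obtain ⟨s, hs, hseq⟩ := h1
        have h2 : s⁻¹ * (g * x * g⁻¹) ∈ H := by
          rw [← QuotientGroup.eq]
          simpa using hseq
        have h3 : g * x * g⁻¹ = s * (s⁻¹ * (g * x * g⁻¹)) := by group
        rw [h3]
        exact Subgroup.mul_mem_sup hs h2
      have hQp : IsPGroup p ↥(cj g P) := isPGroup_cj (S.2.to_le hPS)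
      obtain ⟨h, hh, hconj⟩ := exists_mem_normal_cj_le S H (cj g P) hQp hQle
      have hval : ∀ x : ↥P, (h * g) * (x : G) * (h * g)⁻¹ ∈ (S : Subgroup G) := by
        intro x
        have := hconj (g * x * g⁻¹) (by
          rw [mem_cj]
          have e : g⁻¹ * (g * (x : G) * g⁻¹) * g = x := by group
          rw [e]; exact x.2)
        have e : h * g * (x : G) * (h * g)⁻¹ = h * (g * x * g⁻¹) * h⁻¹ := by group
        rw [e]; exact this
      refine ⟨Cfsg.conjHom P (h * g), ⟨hPS, hval, h * g, fun x => rfl⟩, ?_⟩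
      refine ⟨hPS, hval, fun x => ((hpre x).mp x.2).2, ?_⟩
      intro x
      refine (hgbar _).trans ?_
      show ((g : G) : G ⧸ H) * ((x : G) : G ⧸ H) * ((g : G) : G ⧸ H)⁻¹ =
        (((h * g) * (x : G) * (h * g)⁻¹ : G) : G ⧸ H)
      have hh1 : ((h : G) : G ⧸ H) = 1 := (QuotientGroup.eq_one_iff h).mpr hh
      simp only [QuotientGroup.mk_mul, QuotientGroup.mk_inv, hh1, one_mul]
    · rintro ⟨hP'S, φ, ⟨hPS, hφS, g, hg⟩, hPS', hφS', hP'', hind⟩
      refine ⟨hP'S, ?_, (g : G ⧸ H), ?_⟩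
      · intro y
        obtain ⟨s, hs, hsy⟩ := hP'S y.2
        have hsP : s ∈ FusionSystem.preimageAlong θ P' := by
          rw [hpre]
          refine ⟨hs, ?_⟩
          have : ((s : G) : G ⧸ H) = y := hsy
          rw [this]; exact y.2
        have h1 := hind ⟨s, hsP⟩
        have h2 : (⟨θ ⟨s, hPS' hsP⟩, hP'' ⟨s, hsP⟩⟩ : ↥P') = y := Subtype.ext hsy
        rw [h2] at h1
        rw [h1]
        exact ⟨_, hφS' ⟨s, hsP⟩, rfl⟩
      · intro y
        obtain ⟨s, hs, hsy⟩ := hP'S y.2
        have hsP : s ∈ FusionSystem.preimageAlong θ P' := by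
          rw [hpre]
          refine ⟨hs, ?_⟩
          have : ((s : G) : G ⧸ H) = y := hsy
          rw [this]; exact y.2
        have h1 := hind ⟨s, hsP⟩
        have h2 : (⟨θ ⟨s, hPS' hsP⟩, hP'' ⟨s, hsP⟩⟩ : ↥P') = y := Subtype.ext hsy
        rw [h2] at h1
        rw [h1, hθapp]
        show (((φ ⟨s, hsP⟩ : G)) : G ⧸ H) = _
        rw [hg ⟨s, hsP⟩]
        have : ((s : G) : G ⧸ H) = y := hsy
        simp only [QuotientGroup.mk_mul, QuotientGroup.mk_inv, this]

end Cfsg.Agent.S5135
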