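import Mathlib
import Cfsg.Statements.S5136

set_option autoImplicit false
open Cfsg

namespace Cfsg.Agent.S5136


section

variable {Ω₁ Ω₂ : Type*} [Group Ω₁] [Group Ω₂] {S₁ : Subgroup Ω₁} {S₂ : Subgroup Ω₂}
  (F₁ : Cfsg.FusionSystem S₁) (F₂ : Cfsg.FusionSystem S₂)

/-- the maps of the product system -/
def prodHoms (P : Subgroup (Ω₁ × Ω₂)) : Set (P →* Ω₁ × Ω₂) :=
  {φ | P ≤ S₁.prod S₂ ∧
      ∃ φ₁ ∈ F₁.Hom (P.map (MonoidHom.fst Ω₁ Ω₂)), ∃ φ₂ ∈ F₂.Hom (P.map (MonoidHom.snd Ω₁ Ω₂)),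
        ∀ (x : P) (h₁ : (x : Ω₁ × Ω₂).1 ∈ P.map (MonoidHom.fst Ω₁ Ω₂))
          (h₂ : (x : Ω₁ × Ω₂).2 ∈ P.map (MonoidHom.snd Ω₁ Ω₂)),
          φ x = (φ₁ ⟨(x : Ω₁ × Ω₂).1, h₁⟩, φ₂ ⟨(x : Ω₁ × Ω₂).2, h₂⟩)}

theorem fst_mem {P : Subgroup (Ω₁ × Ω₂)} (x : P) :
    (x : Ω₁ × Ω₂).1 ∈ P.map (MonoidHom.fst Ω₁ Ω₂) := ⟨x, x.2, rfl⟩

theorem snd_mem {P : Subgroup (Ω₁ × Ω₂)} (x : P) :
    (x : Ω₁ × Ω₂).2 ∈ P.map (MonoidHom.snd Ω₁ Ω₂) := ⟨x, x.2, rfl⟩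

theorem map_fst_le {P : Subgroup (Ω₁ × Ω₂)} (hP : P ≤ S₁.prod S₂) :
    P.map (MonoidHom.fst Ω₁ Ω₂) ≤ S₁ := by
  rintro _ ⟨x, hx, rfl⟩
  exact (Subgroup.mem_prod.1 (hP hx)).1

theorem map_snd_le {P : Subgroup (Ω₁ × Ω₂)} (hP : P ≤ S₁.prod S₂) :
    P.map (MonoidHom.snd Ω₁ Ω₂) ≤ S₂ := by
  rintro _ ⟨x, hx, rfl⟩
  exact (Subgroup.mem_prod.1 (hP hx)).2

/-- inverse, transported to an equal subgroup -/
theorem inv_mem_of_eq {Ω : Type*} [Group Ω] {S : Subgroup Ω} (F : Cfsg.FusionSystem S)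
    {P : Subgroup Ω} {φ : P →* Ω} (hφ : φ ∈ F.Hom P) (T : Subgroup Ω) (hT : φ.range = T) :
    ∃ ψ ∈ F.Hom T, ∀ (y : P) (hy : φ y ∈ T), ψ ⟨φ y, hy⟩ = (y : Ω) := by
  subst hT
  obtain ⟨ψ, hψ, h⟩ := F.inv_mem hφ
  exact ⟨ψ, hψ, fun y _ => h y⟩

/-- the product system -/
def prodSystem : Cfsg.FusionSystem (S₁.prod S₂) where
  Hom := prodHoms F₁ F₂
  le_of_mem := by
    rintro P φ ⟨hP, φ₁, hφ₁, φ₂, hφ₂, h⟩
    refine ⟨hP, fun x => ?_⟩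
    rw [h x (fst_mem x) (snd_mem x), Subgroup.mem_prod]
    exact ⟨(F₁.le_of_mem hφ₁).2 _, (F₂.le_of_mem hφ₂).2 _⟩
  injective_of_mem := by
    rintro P φ ⟨hP, φ₁, hφ₁, φ₂, hφ₂, h⟩ x y hxy
    rw [h x (fst_mem x) (snd_mem x), h y (fst_mem y) (snd_mem y), Prod.mk.injEq] at hxy
    have e1 := F₁.injective_of_mem hφ₁ hxy.1
    have e2 := F₂.injective_of_mem hφ₂ hxy.2
    rw [Subtype.mk.injEq] at e1 e2
    exact Subtype.ext (Prod.ext e1 e2)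
  conj_mem := by
    intro P g hP hg
    rw [Subgroup.mem_prod] at hg
    refine ⟨hP, conjHom _ g.1, F₁.conj_mem (map_fst_le hP) hg.1,
      conjHom _ g.2, F₂.conj_mem (map_snd_le hP) hg.2, ?_⟩
    intro x h₁ h₂
    rfl
  comp_mem := by
    rintro P Q φ ψ ⟨hP, φ₁, hφ₁, φ₂, hφ₂, h⟩ ⟨hQ, ψ₁, hψ₁, ψ₂, hψ₂, h'⟩ hPQ
    have hq1 : ∀ y : P.map (MonoidHom.fst Ω₁ Ω₂), φ₁ y ∈ Q.map (MonoidHom.fst Ω₁ Ω₂) := by
      rintro ⟨_, x, hx, rfl⟩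
      refine ⟨φ ⟨x, hx⟩, hPQ ⟨x, hx⟩, ?_⟩
      rw [h ⟨x, hx⟩ (fst_mem _) (snd_mem _)]
      rfl
    have hq2 : ∀ y : P.map (MonoidHom.snd Ω₁ Ω₂), φ₂ y ∈ Q.map (MonoidHom.snd Ω₁ Ω₂) := by
      rintro ⟨_, x, hx, rfl⟩
      refine ⟨φ ⟨x, hx⟩, hPQ ⟨x, hx⟩, ?_⟩
      rw [h ⟨x, hx⟩ (fst_mem _) (snd_mem _)]
      rfl
    refine ⟨hP, _, F₁.comp_mem hφ₁ hψ₁ hq1, _, F₂.comp_mem hφ₂ hψ₂ hq2, ?_⟩
    intro x h₁ h₂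
    rw [MonoidHom.comp_apply, h' _ (fst_mem _) (snd_mem _)]
    have e := h x h₁ h₂
    simp only [MonoidHom.comp_apply]
    congr 1
    · congr 1
      apply Subtype.ext
      simp only [MonoidHom.codRestrict_apply]
      rw [e]
    · congr 1
      apply Subtype.ext
      simp only [MonoidHom.codRestrict_apply]
      rw [e]
  inv_mem := by
    rintro P φ ⟨hP, φ₁, hφ₁, φ₂, hφ₂, h⟩
    have hr1 : φ₁.range = φ.range.map (MonoidHom.fst Ω₁ Ω₂) := by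
      ext z
      constructor
      · rintro ⟨⟨_, x, hx, rfl⟩, rfl⟩
        refine ⟨φ ⟨x, hx⟩, ⟨⟨x, hx⟩, rfl⟩, ?_⟩
        rw [h ⟨x, hx⟩ (fst_mem _) (snd_mem _)]
        rfl
      · rintro ⟨_, ⟨x, rfl⟩, rfl⟩
        refine ⟨⟨(x : Ω₁ × Ω₂).1, fst_mem x⟩, ?_⟩
        rw [h x (fst_mem _) (snd_mem _)]
        rfl
    have hr2 : φ₂.range = φ.range.map (MonoidHom.snd Ω₁ Ω₂) := by
      ext z
      constructor
      · rintro ⟨⟨_, x, hx, rfl⟩, rfl⟩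
        refine ⟨φ ⟨x, hx⟩, ⟨⟨x, hx⟩, rfl⟩, ?_⟩
        rw [h ⟨x, hx⟩ (fst_mem _) (snd_mem _)]
        rfl
      · rintro ⟨_, ⟨x, rfl⟩, rfl⟩
        refine ⟨⟨(x : Ω₁ × Ω₂).2, snd_mem x⟩, ?_⟩
        rw [h x (fst_mem _) (snd_mem _)]
        rfl
    obtain ⟨ψ₁, hψ₁, hinv1⟩ := inv_mem_of_eq F₁ hφ₁ _ hr1
    obtain ⟨ψ₂, hψ₂, hinv2⟩ := inv_mem_of_eq F₂ hφ₂ _ hr2
    have hR : φ.range ≤ S₁.prod S₂ := by
      rintro _ ⟨x, rfl⟩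
      rw [h x (fst_mem x) (snd_mem x), Subgroup.mem_prod]
      exact ⟨(F₁.le_of_mem hφ₁).2 _, (F₂.le_of_mem hφ₂).2 _⟩
    refine ⟨(ψ₁.comp ((MonoidHom.fst Ω₁ Ω₂).subgroupMap φ.range)).prod
      (ψ₂.comp ((MonoidHom.snd Ω₁ Ω₂).subgroupMap φ.range)), ⟨hR, ψ₁, hψ₁, ψ₂, hψ₂, ?_⟩, ?_⟩
    · intro x h₁ h₂
      rfl
    · intro x
      have e := h x (fst_mem x) (snd_mem x)
      rw [MonoidHom.prod_apply, MonoidHom.comp_apply, MonoidHom.comp_apply]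
      apply Prod.ext
      · simp only
        have h3 : φ₁ ⟨(x : Ω₁ × Ω₂).1, fst_mem x⟩ ∈ φ.range.map (MonoidHom.fst Ω₁ Ω₂) :=
          ⟨φ x, ⟨x, rfl⟩, by rw [e]; rfl⟩
        refine Eq.trans ?_ (hinv1 ⟨(x : Ω₁ × Ω₂).1, fst_mem x⟩ h3)
        congr 1
        apply Subtype.ext
        change (φ x).1 = _
        rw [e]
      · simp only
        have h3 : φ₂ ⟨(x : Ω₁ × Ω₂).2, snd_mem x⟩ ∈ φ.range.map (MonoidHom.snd Ω₁ Ω₂) :=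
          ⟨φ x, ⟨x, rfl⟩, by rw [e]; rfl⟩
        refine Eq.trans ?_ (hinv2 ⟨(x : Ω₁ × Ω₂).2, snd_mem x⟩ h3)
        congr 1
        apply Subtype.ext
        change (φ x).2 = _
        rw [e]

end



/-- Let F₁ and F₂ be fusion systems over finite p-groups S₁ and S₂ (inside ambient groups Ω₁ and Ω₂). Then their direct product exists: there is a fusion system over S₁ × S₂ inside Ω₁ × Ω₂ whose maps with source P ≤ S₁ × S₂ are exactly the restrictions to P of the homomorphisms (x₁, x₂) ↦ (φ₁ x₁, φ₂ x₂) with φ₁ a map of F₁ on the first projection of P and φ₂ a map of F₂ on the second projection. -/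
theorem result {Ω₁ Ω₂ : Type*} [Group Ω₁] [Group Ω₂] {S₁ : Subgroup Ω₁} {S₂ : Subgroup Ω₂} [Finite S₁] [Finite S₂] (p : ℕ) [Fact p.Prime] (h₁ : IsPGroup p S₁) (h₂ : IsPGroup p S₂) (F₁ : Cfsg.FusionSystem S₁) (F₂ : Cfsg.FusionSystem S₂) : ∃ E : Cfsg.FusionSystem (S₁.prod S₂), Cfsg.FusionSystem.IsProductSystem F₁ F₂ E := by
  exact ⟨prodSystem F₁ F₂, fun P φ => Iff.rfl⟩

end Cfsg.Agent.S5136
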