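import Mathlib
import Cfsg.Statements.S5137
import Cfsg.Agent.Lib.Helper85_Fusion
import Cfsg.Agent.Lib.Helper84_RelSylow
import Cfsg.Agent.Lib.Helper84_FusionSat
import Cfsg.Agent.Lib.Helper84_FusionRS

set_option autoImplicit false
open Cfsg Cfsg.FusionSystem

namespace Cfsg.Agent.S5137
open Cfsg.Agent.Lib.Helper85_Fusion Cfsg.Agent.Lib.Helper84_RelSylow Cfsg.Agent.Lib.Helper84_FusionSat
  Cfsg.Agent.Lib.Helper84_FusionRS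

section RelSylow
variable {G G' : Type*} [Group G] [Group G'] {p : ℕ}

theorem isSylowIn_subgroupOf {T H X : Subgroup G} (h : IsSylowIn p T H) (hHX : H ≤ X) :
    IsSylowIn p (T.subgroupOf X) (H.subgroupOf X) := by
  refine ⟨fun x hx => h.1 hx, h.2.1.comap_of_injective X.subtype X.subtype_injective, ?_⟩
  rw [Subgroup.relIndex_subgroupOf hHX]
  exact h.2.2

theorem isPGroup_prod {T₁ : Subgroup G} {T₂ : Subgroup G'} (h₁ : IsPGroup p T₁) (h₂ : IsPGroup p T₂) :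
    IsPGroup p (T₁.prod T₂) := by
  rintro ⟨⟨a, b⟩, ha, hb⟩
  obtain ⟨k, hk⟩ := h₁ ⟨a, ha⟩
  obtain ⟨l, hl⟩ := h₂ ⟨b, hb⟩
  have hk' : a ^ p ^ k = 1 := congrArg Subtype.val hk
  have hl' : b ^ p ^ l = 1 := congrArg Subtype.val hl
  refine ⟨k + l, Subtype.ext ?_⟩
  show (a, b) ^ p ^ (k + l) = 1
  rw [pow_add, Prod.pow_mk]
  rw [pow_mul, hk', one_pow, mul_comm, pow_mul, hl', one_pow]
  rfl

theorem relIndex_prod (T₁ A₁ : Subgroup G) (T₂ A₂ : Subgroup G') :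
    (T₁.prod T₂).relIndex (A₁.prod A₂) = T₁.relIndex A₁ * T₂.relIndex A₂ := by
  unfold Subgroup.relIndex
  rw [← Subgroup.index_prod, ← Subgroup.index_map_equiv _ (Subgroup.prodEquiv A₁ A₂)]
  congr 1
  ext ⟨x, y⟩
  constructor
  · rintro ⟨⟨⟨a, b⟩, hab⟩, hz, hzz⟩
    have h1 : (⟨a, hab.1⟩ : A₁) = x := congrArg Prod.fst hzz
    have h2 : (⟨b, hab.2⟩ : A₂) = y := congrArg Prod.snd hzz
    subst h1 h2
    exact hz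
  · intro h
    exact ⟨⟨(x.1, y.1), ⟨x.2, y.2⟩⟩, h, rfl⟩

theorem isSylowIn_prod {T₁ A₁ : Subgroup G} {T₂ A₂ : Subgroup G'} (h₁ : IsSylowIn p T₁ A₁)
    (h₂ : IsSylowIn p T₂ A₂) (hp : p.Prime) : IsSylowIn p (T₁.prod T₂) (A₁.prod A₂) := by
  refine ⟨Subgroup.prod_mono h₁.1 h₂.1, isPGroup_prod h₁.2.1 h₂.2.1, ?_⟩
  rw [relIndex_prod]
  intro hd
  rcases (Nat.Prime.dvd_mul hp).1 hd with h | h
  · exact h₁.2.2 h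
  · exact h₂.2.2 h

end RelSylow

section Pair
variable {Ω₁ Ω₂ : Type*} [Group Ω₁] [Group Ω₂] {Q₁ : Subgroup Ω₁} {Q₂ : Subgroup Ω₂}

/-- The inclusion of `Q₁ × Q₂` in `Ω₁ × Ω₂`. -/
def jHom (Q₁ : Subgroup Ω₁) (Q₂ : Subgroup Ω₂) : Q₁ × Q₂ →* Ω₁ × Ω₂ := Q₁.subtype.prodMap Q₂.subtype

theorem jHom_apply (x : Q₁ × Q₂) : jHom Q₁ Q₂ x = ((x.1 : Ω₁), (x.2 : Ω₂)) := rfl

theorem jHom_injective : Function.Injective (jHom Q₁ Q₂) := by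
  intro x y h
  have h1 : (x.1 : Ω₁) = y.1 := congrArg Prod.fst h
  have h2 : (x.2 : Ω₂) = y.2 := congrArg Prod.snd h
  exact Prod.ext (Subtype.ext h1) (Subtype.ext h2)

/-- Componentwise action of a pair of automorphisms, as a homomorphism. -/
def actHom (α : MulAut Q₁ × MulAut Q₂) : Q₁ × Q₂ →* Q₁ × Q₂ :=
  α.1.toMonoidHom.prodMap α.2.toMonoidHom

theorem actHom_apply (α : MulAut Q₁ × MulAut Q₂) (x : Q₁ × Q₂) : actHom α x = (α.1 x.1, α.2 x.2) := rfl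

theorem actHom_one (x : Q₁ × Q₂) : actHom (1 : MulAut Q₁ × MulAut Q₂) x = x := rfl

theorem actHom_mul (α β : MulAut Q₁ × MulAut Q₂) (x : Q₁ × Q₂) :
    actHom (α * β) x = actHom α (actHom β x) := rfl

theorem actHom_inv_actHom (α : MulAut Q₁ × MulAut Q₂) (x : Q₁ × Q₂) :
    actHom α⁻¹ (actHom α x) = x := by
  rw [← actHom_mul, inv_mul_cancel, actHom_one]

theorem actHom_actHom_inv (α : MulAut Q₁ × MulAut Q₂) (x : Q₁ × Q₂) :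
    actHom α (actHom α⁻¹ x) = x := by
  rw [← actHom_mul, mul_inv_cancel, actHom_one]

theorem actHom_injective (α : MulAut Q₁ × MulAut Q₂) : Function.Injective (actHom α) := by
  intro x y h
  rw [← actHom_inv_actHom α x, h, actHom_inv_actHom]

/-- The stabilizer of the subgroup `R` under the componentwise action. -/
def stab (Q₁ : Subgroup Ω₁) (Q₂ : Subgroup Ω₂) (R : Subgroup (Ω₁ × Ω₂)) :
    Subgroup (MulAut Q₁ × MulAut Q₂) where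
  carrier := {α | ∀ x : Q₁ × Q₂, jHom Q₁ Q₂ x ∈ R ↔ jHom Q₁ Q₂ (actHom α x) ∈ R}
  one_mem' := fun x => Iff.rfl
  mul_mem' := by
    intro α β hα hβ x
    rw [actHom_mul]
    exact (hβ x).trans (hα _)
  inv_mem' := by
    intro α hα x
    have := hα (actHom α⁻¹ x)
    rw [actHom_actHom_inv] at this
    exact this.symm

theorem mem_stab {R : Subgroup (Ω₁ × Ω₂)} {α : MulAut Q₁ × MulAut Q₂} :
    α ∈ stab Q₁ Q₂ R ↔ ∀ x : Q₁ × Q₂, jHom Q₁ Q₂ x ∈ R ↔ jHom Q₁ Q₂ (actHom α x) ∈ R := Iff.rfl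

/-- Lift an element of `R ≤ Q₁ × Q₂` to the product of the subgroup types. -/
def liftHom {R : Subgroup (Ω₁ × Ω₂)} (hR : R ≤ Q₁.prod Q₂) : R →* Q₁ × Q₂ where
  toFun x := (⟨x.1.1, (hR x.2).1⟩, ⟨x.1.2, (hR x.2).2⟩)
  map_one' := rfl
  map_mul' _ _ := rfl

theorem jHom_liftHom {R : Subgroup (Ω₁ × Ω₂)} (hR : R ≤ Q₁.prod Q₂) (x : R) :
    jHom Q₁ Q₂ (liftHom hR x) = x := rfl

theorem liftHom_mk {R : Subgroup (Ω₁ × Ω₂)} (hR : R ≤ Q₁.prod Q₂) (x : Q₁ × Q₂)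
    (hx : jHom Q₁ Q₂ x ∈ R) : liftHom hR ⟨jHom Q₁ Q₂ x, hx⟩ = x := rfl

/-- Restriction of a stabilizing pair to `R`, as an endomorphism. -/
def resEnd {R : Subgroup (Ω₁ × Ω₂)} (hR : R ≤ Q₁.prod Q₂) (α : stab Q₁ Q₂ R) : R →* R :=
  (((jHom Q₁ Q₂).comp (actHom α.1)).comp (liftHom hR)).codRestrict R
    (fun x => (α.2 (liftHom hR x)).1 x.2)

theorem coe_resEnd {R : Subgroup (Ω₁ × Ω₂)} (hR : R ≤ Q₁.prod Q₂) (α : stab Q₁ Q₂ R) (x : R) :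
    ((resEnd hR α x : R) : Ω₁ × Ω₂) = jHom Q₁ Q₂ (actHom α.1 (liftHom hR x)) := rfl

theorem liftHom_resEnd {R : Subgroup (Ω₁ × Ω₂)} (hR : R ≤ Q₁.prod Q₂) (α : stab Q₁ Q₂ R) (x : R) :
    liftHom hR (resEnd hR α x) = actHom α.1 (liftHom hR x) := rfl

theorem resEnd_mul {R : Subgroup (Ω₁ × Ω₂)} (hR : R ≤ Q₁.prod Q₂) (α β : stab Q₁ Q₂ R) :
    resEnd hR (α * β) = (resEnd hR α).comp (resEnd hR β) := rfl

theorem resEnd_one {R : Subgroup (Ω₁ × Ω₂)} (hR : R ≤ Q₁.prod Q₂) :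
    resEnd hR (1 : stab Q₁ Q₂ R) = MonoidHom.id R := rfl

/-- Restriction of a stabilizing pair to `R`, as a homomorphism into `MulAut R`. -/
def res {R : Subgroup (Ω₁ × Ω₂)} (hR : R ≤ Q₁.prod Q₂) : stab Q₁ Q₂ R →* MulAut R where
  toFun α := MonoidHom.toMulEquiv (resEnd hR α) (resEnd hR α⁻¹)
    (by rw [← resEnd_mul, inv_mul_cancel, resEnd_one]) (by rw [← resEnd_mul, mul_inv_cancel, resEnd_one])
  map_one' := MulEquiv.ext (fun _ => rfl)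
  map_mul' α β := MulEquiv.ext (fun _ => rfl)

theorem coe_res {R : Subgroup (Ω₁ × Ω₂)} (hR : R ≤ Q₁.prod Q₂) (α : stab Q₁ Q₂ R) (x : R) :
    ((res hR α x : R) : Ω₁ × Ω₂) = jHom Q₁ Q₂ (actHom α.1 (liftHom hR x)) := rfl

theorem le_prod_of_proj {R : Subgroup (Ω₁ × Ω₂)} (h₁ : R.map (MonoidHom.fst Ω₁ Ω₂) = Q₁)
    (h₂ : R.map (MonoidHom.snd Ω₁ Ω₂) = Q₂) : R ≤ Q₁.prod Q₂ := by
  intro x hx
  exact ⟨h₁ ▸ ⟨x, hx, rfl⟩, h₂ ▸ ⟨x, hx, rfl⟩⟩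

theorem exists_lift_fst {R : Subgroup (Ω₁ × Ω₂)} (h₁ : R.map (MonoidHom.fst Ω₁ Ω₂) = Q₁)
    (hR : R ≤ Q₁.prod Q₂) (y : Q₁) : ∃ x : R, (liftHom hR x).1 = y := by
  have hy : (y : Ω₁) ∈ R.map (MonoidHom.fst Ω₁ Ω₂) := h₁ ▸ y.2
  obtain ⟨x, hx, hxy⟩ := hy
  exact ⟨⟨x, hx⟩, Subtype.ext hxy⟩

theorem exists_lift_snd {R : Subgroup (Ω₁ × Ω₂)} (h₂ : R.map (MonoidHom.snd Ω₁ Ω₂) = Q₂)
    (hR : R ≤ Q₁.prod Q₂) (y : Q₂) : ∃ x : R, (liftHom hR x).2 = y := by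
  have hy : (y : Ω₂) ∈ R.map (MonoidHom.snd Ω₁ Ω₂) := h₂ ▸ y.2
  obtain ⟨x, hx, hxy⟩ := hy
  exact ⟨⟨x, hx⟩, Subtype.ext hxy⟩

theorem res_injective {R : Subgroup (Ω₁ × Ω₂)} (h₁ : R.map (MonoidHom.fst Ω₁ Ω₂) = Q₁)
    (h₂ : R.map (MonoidHom.snd Ω₁ Ω₂) = Q₂) (hR : R ≤ Q₁.prod Q₂) :
    Function.Injective (res (Q₁ := Q₁) (Q₂ := Q₂) hR) := by
  rw [injective_iff_map_eq_one]
  intro α hα
  have key : ∀ x : R, actHom α.1 (liftHom hR x) = liftHom hR x := by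
    intro x
    have h := congrArg (fun γ : MulAut R => liftHom hR (γ x)) hα
    exact h
  apply Subtype.ext
  apply Prod.ext
  · apply MulEquiv.ext
    intro y
    obtain ⟨x, hx⟩ := exists_lift_fst h₁ hR y
    have := congrArg Prod.fst (key x)
    rw [actHom_apply, hx] at this
    exact this
  · apply MulEquiv.ext
    intro y
    obtain ⟨x, hx⟩ := exists_lift_snd h₂ hR y
    have := congrArg Prod.snd (key x)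
    rw [actHom_apply, hx] at this
    exact this

theorem mem_stab_of_forall {R : Subgroup (Ω₁ × Ω₂)} (hR : R ≤ Q₁.prod Q₂)
    (α : MulAut Q₁ × MulAut Q₂) (γ : MulAut R)
    (h : ∀ x : R, ((γ x : R) : Ω₁ × Ω₂) = jHom Q₁ Q₂ (actHom α (liftHom hR x))) :
    α ∈ stab Q₁ Q₂ R := by
  intro x
  constructor
  · intro hx
    have := h ⟨jHom Q₁ Q₂ x, hx⟩
    rw [liftHom_mk] at this
    rw [← this]
    exact (γ _).2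
  · intro hx
    have h3 := h (γ.symm ⟨_, hx⟩)
    rw [MulEquiv.apply_symm_apply] at h3
    have h4 : x = liftHom hR (γ.symm ⟨_, hx⟩) := actHom_injective α (jHom_injective h3)
    rw [h4, jHom_liftHom]
    exact (γ.symm _).2

theorem res_eq_of_forall {R : Subgroup (Ω₁ × Ω₂)} (hR : R ≤ Q₁.prod Q₂)
    (α : MulAut Q₁ × MulAut Q₂) (γ : MulAut R)
    (h : ∀ x : R, ((γ x : R) : Ω₁ × Ω₂) = jHom Q₁ Q₂ (actHom α (liftHom hR x))) :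
    res hR ⟨α, mem_stab_of_forall hR α γ h⟩ = γ :=
  MulEquiv.ext (fun x => Subtype.ext (h x).symm)

/-- The image of `R` under a pair of automorphisms. -/
def img (β : MulAut Q₁ × MulAut Q₂) (R : Subgroup (Ω₁ × Ω₂)) : Subgroup (Ω₁ × Ω₂) :=
  (R.comap (jHom Q₁ Q₂)).map ((jHom Q₁ Q₂).comp (actHom β))

theorem jHom_mem_img {β : MulAut Q₁ × MulAut Q₂} {R : Subgroup (Ω₁ × Ω₂)} (x : Q₁ × Q₂) :
    jHom Q₁ Q₂ x ∈ img β R ↔ jHom Q₁ Q₂ (actHom β⁻¹ x) ∈ R := by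
  constructor
  · rintro ⟨z, hz, hzx⟩
    have h3 : actHom β z = x := jHom_injective hzx
    rw [← h3, actHom_inv_actHom]
    exact hz
  · intro h
    refine ⟨actHom β⁻¹ x, h, ?_⟩
    show jHom Q₁ Q₂ (actHom β (actHom β⁻¹ x)) = _
    rw [actHom_actHom_inv]

theorem img_le (β : MulAut Q₁ × MulAut Q₂) (R : Subgroup (Ω₁ × Ω₂)) : img β R ≤ Q₁.prod Q₂ := by
  rintro _ ⟨z, -, rfl⟩
  exact ⟨(β.1 z.1).2, (β.2 z.2).2⟩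

theorem img_fst {R : Subgroup (Ω₁ × Ω₂)} (h₁ : R.map (MonoidHom.fst Ω₁ Ω₂) = Q₁)
    (hR : R ≤ Q₁.prod Q₂) (β : MulAut Q₁ × MulAut Q₂) :
    (img β R).map (MonoidHom.fst Ω₁ Ω₂) = Q₁ := by
  apply le_antisymm
  · rintro _ ⟨y, hy, rfl⟩
    exact (img_le β R hy).1
  · intro y hy
    obtain ⟨x, hx⟩ := exists_lift_fst h₁ hR (β.1⁻¹ ⟨y, hy⟩)
    refine ⟨jHom Q₁ Q₂ (actHom β (liftHom hR x)), ⟨liftHom hR x, x.2, rfl⟩, ?_⟩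
    show ((β.1 (liftHom hR x).1 : Q₁) : Ω₁) = y
    rw [hx, MulAut.apply_inv_self]

theorem img_snd {R : Subgroup (Ω₁ × Ω₂)} (h₂ : R.map (MonoidHom.snd Ω₁ Ω₂) = Q₂)
    (hR : R ≤ Q₁.prod Q₂) (β : MulAut Q₁ × MulAut Q₂) :
    (img β R).map (MonoidHom.snd Ω₁ Ω₂) = Q₂ := by
  apply le_antisymm
  · rintro _ ⟨y, hy, rfl⟩
    exact (img_le β R hy).2
  · intro y hy
    obtain ⟨x, hx⟩ := exists_lift_snd h₂ hR (β.2⁻¹ ⟨y, hy⟩)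
    refine ⟨jHom Q₁ Q₂ (actHom β (liftHom hR x)), ⟨liftHom hR x, x.2, rfl⟩, ?_⟩
    show ((β.2 (liftHom hR x).2 : Q₂) : Ω₂) = y
    rw [hx, MulAut.apply_inv_self]

theorem stab_img (β : MulAut Q₁ × MulAut Q₂) (R : Subgroup (Ω₁ × Ω₂)) :
    stab Q₁ Q₂ (img β R) = (stab Q₁ Q₂ R).map (MulAut.conj β).toMonoidHom := by
  ext α
  rw [Subgroup.mem_map_equiv, MulAut.conj_symm_apply, mem_stab, mem_stab]
  constructor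
  · intro h z
    have h3 := h (actHom β z)
    rw [jHom_mem_img, jHom_mem_img, actHom_inv_actHom] at h3
    rw [actHom_mul, actHom_mul]
    exact h3
  · intro h x
    have h3 := h (actHom β⁻¹ x)
    rw [actHom_mul, actHom_mul, actHom_actHom_inv] at h3
    rw [jHom_mem_img, jHom_mem_img]
    exact h3

end Pair

section Prod
variable {Ω₁ Ω₂ : Type*} [Group Ω₁] [Group Ω₂] {S₁ : Subgroup Ω₁} {S₂ : Subgroup Ω₂}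
  {F₁ : FusionSystem S₁} {F₂ : FusionSystem S₂} {E : FusionSystem (S₁.prod S₂)}
  {Q₁ : Subgroup Ω₁} {Q₂ : Subgroup Ω₂} {R : Subgroup (Ω₁ × Ω₂)}

theorem hom_iff (hE : IsProductSystem F₁ F₂ E) (h₁ : R.map (MonoidHom.fst Ω₁ Ω₂) = Q₁)
    (h₂ : R.map (MonoidHom.snd Ω₁ Ω₂) = Q₂) (hR : R ≤ Q₁.prod Q₂) (φ : R →* Ω₁ × Ω₂) :
    φ ∈ E.Hom R ↔ R ≤ S₁.prod S₂ ∧ ∃ φ₁ ∈ F₁.Hom Q₁, ∃ φ₂ ∈ F₂.Hom Q₂,
      ∀ x : R, φ x = (φ₁ (liftHom hR x).1, φ₂ (liftHom hR x).2) := by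
  subst h₁
  subst h₂
  rw [hE R φ]
  constructor
  · rintro ⟨hRS, φ₁, hφ₁, φ₂, hφ₂, h⟩
    exact ⟨hRS, φ₁, hφ₁, φ₂, hφ₂, fun x => h x _ _⟩
  · rintro ⟨hRS, φ₁, hφ₁, φ₂, hφ₂, h⟩
    exact ⟨hRS, φ₁, hφ₁, φ₂, hφ₂, fun x _ _ => h x⟩

theorem res_mem_autGroup (hE : IsProductSystem F₁ F₂ E) (h₁ : R.map (MonoidHom.fst Ω₁ Ω₂) = Q₁)
    (h₂ : R.map (MonoidHom.snd Ω₁ Ω₂) = Q₂) (hR : R ≤ Q₁.prod Q₂) (hRS : R ≤ S₁.prod S₂)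
    (hQ₁ : Q₁ ≤ S₁) (hQ₂ : Q₂ ≤ S₂) (α : stab Q₁ Q₂ R)
    (hα : α.1 ∈ (F₁.autGroup Q₁).prod (F₂.autGroup Q₂)) : res hR α ∈ E.autGroup R := by
  rw [mem_autGroup_iff E hRS, hom_iff hE h₁ h₂ hR]
  refine ⟨hRS, _, (mem_autGroup_iff F₁ hQ₁ _).1 hα.1, _, (mem_autGroup_iff F₂ hQ₂ _).1 hα.2, ?_⟩
  intro x
  rfl

theorem exists_of_mem_autGroup (hE : IsProductSystem F₁ F₂ E)
    (h₁ : R.map (MonoidHom.fst Ω₁ Ω₂) = Q₁)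
    (h₂ : R.map (MonoidHom.snd Ω₁ Ω₂) = Q₂) (hR : R ≤ Q₁.prod Q₂) (hRS : R ≤ S₁.prod S₂)
    (hQ₁ : Q₁ ≤ S₁) (hQ₂ : Q₂ ≤ S₂) (γ : MulAut R) (hγ : γ ∈ E.autGroup R) :
    ∃ α : stab Q₁ Q₂ R, α.1 ∈ (F₁.autGroup Q₁).prod (F₂.autGroup Q₂) ∧ res hR α = γ := by
  rw [mem_autGroup_iff E hRS] at hγ
  obtain ⟨-, φ₁, hφ₁, φ₂, hφ₂, hφ⟩ := (hom_iff hE h₁ h₂ hR _).1 hγ
  have hγ1 : ∀ x : R, ((γ x : R) : Ω₁ × Ω₂) = (φ₁ (liftHom hR x).1, φ₂ (liftHom hR x).2) := hφ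
  have hr₁ : φ₁.range = Q₁ := by
    apply le_antisymm
    · rintro _ ⟨y, rfl⟩
      obtain ⟨x, hx⟩ := exists_lift_fst h₁ hR y
      have h3 := congrArg Prod.fst (hγ1 x)
      rw [hx] at h3
      simp only at h3
      rw [← h3]
      exact (hR (γ x).2).1
    · intro z hz
      obtain ⟨x', hx'⟩ := exists_lift_fst h₁ hR ⟨z, hz⟩
      have h3 := congrArg Prod.fst (hγ1 (γ.symm x'))
      rw [MulEquiv.apply_symm_apply] at h3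
      have h4 : ((x' : Ω₁ × Ω₂)).1 = z := congrArg Subtype.val hx'
      rw [h4] at h3
      exact ⟨_, h3.symm⟩
  have hr₂ : φ₂.range = Q₂ := by
    apply le_antisymm
    · rintro _ ⟨y, rfl⟩
      obtain ⟨x, hx⟩ := exists_lift_snd h₂ hR y
      have h3 := congrArg Prod.snd (hγ1 x)
      rw [hx] at h3
      simp only at h3
      rw [← h3]
      exact (hR (γ x).2).2
    · intro z hz
      obtain ⟨x', hx'⟩ := exists_lift_snd h₂ hR ⟨z, hz⟩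
      have h3 := congrArg Prod.snd (hγ1 (γ.symm x'))
      rw [MulEquiv.apply_symm_apply] at h3
      have h4 : ((x' : Ω₁ × Ω₂)).2 = z := congrArg Subtype.val hx'
      rw [h4] at h3
      exact ⟨_, h3.symm⟩
  have key : ∀ x : R, ((γ x : R) : Ω₁ × Ω₂) =
      jHom Q₁ Q₂ (actHom (isoOfRange φ₁ (F₁.injective_of_mem hφ₁) hr₁,
        isoOfRange φ₂ (F₂.injective_of_mem hφ₂) hr₂) (liftHom hR x)) := fun x => hγ1 x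
  refine ⟨⟨_, mem_stab_of_forall hR _ γ key⟩, ⟨?_, ?_⟩, res_eq_of_forall hR _ γ key⟩
  · exact (mem_autGroup_iff F₁ hQ₁ _).2 (mem_of_eq F₁ hφ₁ (fun x => rfl))
  · exact (mem_autGroup_iff F₂ hQ₂ _).2 (mem_of_eq F₂ hφ₂ (fun x => rfl))

theorem res_mem_autInducedBy (hR : R ≤ Q₁.prod Q₂) (α : stab Q₁ Q₂ R)
    (hα : α.1 ∈ (autInducedBy S₁ Q₁).prod (autInducedBy S₂ Q₂)) :
    res hR α ∈ autInducedBy (S₁.prod S₂) R := by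
  obtain ⟨g₁, hg₁, e1⟩ := (mem_autInducedBy_iff S₁ Q₁ α.1.1).1 hα.1
  obtain ⟨g₂, hg₂, e2⟩ := (mem_autInducedBy_iff S₂ Q₂ α.1.2).1 hα.2
  refine (mem_autInducedBy_iff _ R _).2 ⟨(g₁, g₂), ⟨hg₁, hg₂⟩, fun x => ?_⟩
  exact Prod.ext (e1 _) (e2 _)

theorem exists_of_mem_autInducedBy (h₁ : R.map (MonoidHom.fst Ω₁ Ω₂) = Q₁)
    (h₂ : R.map (MonoidHom.snd Ω₁ Ω₂) = Q₂) (hR : R ≤ Q₁.prod Q₂) (γ : MulAut R)
    (hγ : γ ∈ autInducedBy (S₁.prod S₂) R) :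
    ∃ α : stab Q₁ Q₂ R, α.1 ∈ (autInducedBy S₁ Q₁).prod (autInducedBy S₂ Q₂) ∧ res hR α = γ := by
  obtain ⟨⟨g₁, g₂⟩, hg, hγ1⟩ := (mem_autInducedBy_iff _ R γ).1 hγ
  have hN₁ : g₁ ∈ Subgroup.normalizer (Q₁ : Set Ω₁) := by
    intro n
    constructor
    · intro hn
      obtain ⟨x, hx⟩ := exists_lift_fst h₁ hR ⟨n, hn⟩
      have h3 : ((γ x : R) : Ω₁ × Ω₂).1 = g₁ * (x : Ω₁ × Ω₂).1 * g₁⁻¹ := congrArg Prod.fst (hγ1 x)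
      have h4 : ((x : Ω₁ × Ω₂)).1 = n := congrArg Subtype.val hx
      rw [h4] at h3
      rw [← h3]
      exact (hR (γ x).2).1
    · intro hn
      obtain ⟨x', hx'⟩ := exists_lift_fst h₁ hR ⟨_, hn⟩
      have h3 : ((γ (γ.symm x') : R) : Ω₁ × Ω₂).1 = g₁ * (γ.symm x' : Ω₁ × Ω₂).1 * g₁⁻¹ :=
        congrArg Prod.fst (hγ1 (γ.symm x'))
      rw [MulEquiv.apply_symm_apply] at h3
      have h4 : ((x' : Ω₁ × Ω₂)).1 = g₁ * n * g₁⁻¹ := congrArg Subtype.val hx'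
      rw [h4] at h3
      have h5 : n = (γ.symm x' : Ω₁ × Ω₂).1 := mul_left_cancel (mul_right_cancel h3)
      rw [h5]
      exact (hR (γ.symm x').2).1
  have hN₂ : g₂ ∈ Subgroup.normalizer (Q₂ : Set Ω₂) := by
    intro n
    constructor
    · intro hn
      obtain ⟨x, hx⟩ := exists_lift_snd h₂ hR ⟨n, hn⟩
      have h3 : ((γ x : R) : Ω₁ × Ω₂).2 = g₂ * (x : Ω₁ × Ω₂).2 * g₂⁻¹ := congrArg Prod.snd (hγ1 x)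
      have h4 : ((x : Ω₁ × Ω₂)).2 = n := congrArg Subtype.val hx
      rw [h4] at h3
      rw [← h3]
      exact (hR (γ x).2).2
    · intro hn
      obtain ⟨x', hx'⟩ := exists_lift_snd h₂ hR ⟨_, hn⟩
      have h3 : ((γ (γ.symm x') : R) : Ω₁ × Ω₂).2 = g₂ * (γ.symm x' : Ω₁ × Ω₂).2 * g₂⁻¹ :=
        congrArg Prod.snd (hγ1 (γ.symm x'))
      rw [MulEquiv.apply_symm_apply] at h3
      have h4 : ((x' : Ω₁ × Ω₂)).2 = g₂ * n * g₂⁻¹ := congrArg Subtype.val hx'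
      rw [h4] at h3
      have h5 : n = (γ.symm x' : Ω₁ × Ω₂).2 := mul_left_cancel (mul_right_cancel h3)
      rw [h5]
      exact (hR (γ.symm x').2).2
  have key : ∀ x : R, ((γ x : R) : Ω₁ × Ω₂) =
      jHom Q₁ Q₂ (actHom (Q₁.normalizerMonoidHom ⟨g₁, hN₁⟩, Q₂.normalizerMonoidHom ⟨g₂, hN₂⟩)
        (liftHom hR x)) := fun x => hγ1 x
  refine ⟨⟨_, mem_stab_of_forall hR _ γ key⟩, ⟨?_, ?_⟩, res_eq_of_forall hR _ γ key⟩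
  · exact normalizerMonoidHom_mem_autInducedBy hg.1 hN₁
  · exact normalizerMonoidHom_mem_autInducedBy hg.2 hN₂

theorem isFullyAutomized_of_isSylowIn_stab {p : ℕ} [Fact p.Prime] (hE : IsProductSystem F₁ F₂ E)
    (h₁ : R.map (MonoidHom.fst Ω₁ Ω₂) = Q₁)
    (h₂ : R.map (MonoidHom.snd Ω₁ Ω₂) = Q₂) (hR : R ≤ Q₁.prod Q₂) (hRS : R ≤ S₁.prod S₂)
    (hQ₁ : Q₁ ≤ S₁) (hQ₂ : Q₂ ≤ S₂)
    (hsyl : IsSylowIn p ((autInducedBy S₁ Q₁).prod (autInducedBy S₂ Q₂) ⊓ stab Q₁ Q₂ R)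
      ((F₁.autGroup Q₁).prod (F₂.autGroup Q₂) ⊓ stab Q₁ Q₂ R)) :
    E.IsFullyAutomized p R := by
  have h3 := (isSylowIn_subgroupOf hsyl inf_le_right).map_of_injective (res hR)
    (res_injective h₁ h₂ hR)
  have e1 : (((autInducedBy S₁ Q₁).prod (autInducedBy S₂ Q₂) ⊓ stab Q₁ Q₂ R).subgroupOf
      (stab Q₁ Q₂ R)).map (res hR) = autInducedBy (S₁.prod S₂) R := by
    ext γ
    constructor
    · rintro ⟨α, hα, rfl⟩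
      exact res_mem_autInducedBy hR α hα.1
    · intro hγ
      obtain ⟨α, hαT, rfl⟩ := exists_of_mem_autInducedBy h₁ h₂ hR γ hγ
      exact ⟨α, ⟨hαT, α.2⟩, rfl⟩
  have e2 : (((F₁.autGroup Q₁).prod (F₂.autGroup Q₂) ⊓ stab Q₁ Q₂ R).subgroupOf
      (stab Q₁ Q₂ R)).map (res hR) = E.autGroup R := by
    ext γ
    constructor
    · rintro ⟨α, hα, rfl⟩
      exact res_mem_autGroup hE h₁ h₂ hR hRS hQ₁ hQ₂ α hα.1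
    · intro hγ
      obtain ⟨α, hαT, rfl⟩ := exists_of_mem_autGroup hE h₁ h₂ hR hRS hQ₁ hQ₂ γ hγ
      exact ⟨α, ⟨hαT, α.2⟩, rfl⟩
  rw [e1, e2] at h3
  exact isFullyAutomized_of_isSylowIn E hRS h3

theorem isConj_img (hE : IsProductSystem F₁ F₂ E) (h₁ : R.map (MonoidHom.fst Ω₁ Ω₂) = Q₁)
    (h₂ : R.map (MonoidHom.snd Ω₁ Ω₂) = Q₂) (hR : R ≤ Q₁.prod Q₂) (hRS : R ≤ S₁.prod S₂)
    (hQ₁ : Q₁ ≤ S₁) (hQ₂ : Q₂ ≤ S₂) (β : MulAut Q₁ × MulAut Q₂)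
    (hβ : β ∈ (F₁.autGroup Q₁).prod (F₂.autGroup Q₂)) : E.IsConj R (img β R) := by
  refine ⟨((jHom Q₁ Q₂).comp (actHom β)).comp (liftHom hR), ?_, ?_⟩
  · rw [hom_iff hE h₁ h₂ hR]
    exact ⟨hRS, _, (mem_autGroup_iff F₁ hQ₁ _).1 hβ.1, _, (mem_autGroup_iff F₂ hQ₂ _).1 hβ.2,
      fun x => rfl⟩
  · ext y
    constructor
    · rintro ⟨x, rfl⟩
      exact ⟨liftHom hR x, x.2, rfl⟩
    · rintro ⟨z, hz, rfl⟩
      exact ⟨⟨jHom Q₁ Q₂ z, hz⟩, rfl⟩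

theorem map_conj_eq_self {G : Type*} [Group G] (A : Subgroup G) {β : G} (hβ : β ∈ A) :
    A.map (MulAut.conj β).toMonoidHom = A := by
  ext x
  rw [Subgroup.mem_map_equiv, MulAut.conj_symm_apply]
  constructor
  · intro h
    have := A.mul_mem (A.mul_mem hβ h) (A.inv_mem hβ)
    simpa [mul_assoc] using this
  · intro h
    exact A.mul_mem (A.mul_mem (A.inv_mem hβ) h) hβ

theorem exists_img_isFullyAutomized [Finite S₁] [Finite S₂] {p : ℕ} [Fact p.Prime]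
    (hE : IsProductSystem F₁ F₂ E) (h₁ : R.map (MonoidHom.fst Ω₁ Ω₂) = Q₁)
    (h₂ : R.map (MonoidHom.snd Ω₁ Ω₂) = Q₂) (hR : R ≤ Q₁.prod Q₂)
    (hQ₁ : Q₁ ≤ S₁) (hQ₂ : Q₂ ≤ S₂) (fa₁ : F₁.IsFullyAutomized p Q₁)
    (fa₂ : F₂.IsFullyAutomized p Q₂) :
    ∃ β ∈ (F₁.autGroup Q₁).prod (F₂.autGroup Q₂), E.IsFullyAutomized p (img β R) := by
  have : Finite Q₁ := finite_of_le_S hQ₁
  have : Finite Q₂ := finite_of_le_S hQ₂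
  have hT : IsSylowIn p ((autInducedBy S₁ Q₁).prod (autInducedBy S₂ Q₂))
      ((F₁.autGroup Q₁).prod (F₂.autGroup Q₂)) :=
    isSylowIn_prod (isSylowIn_of_isFullyAutomized F₁ fa₁) (isSylowIn_of_isFullyAutomized F₂ fa₂)
      Fact.out
  obtain ⟨Y, -, hY⟩ := exists_isSylowIn_ge (p := p)
    (H := (F₁.autGroup Q₁).prod (F₂.autGroup Q₂) ⊓ stab Q₁ Q₂ R) (K := ⊥) bot_le IsPGroup.of_bot
  obtain ⟨β, hβA, hβ⟩ := hT.exists_conj_le (K := Y) (hY.le.trans inf_le_left) hY.isPGroup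
  refine ⟨β, hβA, ?_⟩
  have hH' : (F₁.autGroup Q₁).prod (F₂.autGroup Q₂) ⊓ stab Q₁ Q₂ (img β R) =
      ((F₁.autGroup Q₁).prod (F₂.autGroup Q₂) ⊓ stab Q₁ Q₂ R).map (MulAut.conj β).toMonoidHom := by
    rw [stab_img, Subgroup.map_inf _ _ _ (MulAut.conj β).injective, map_conj_eq_self _ hβA]
  have hY' := hY.conj β
  rw [← hH'] at hY'
  have hle : Y.map (MulAut.conj β).toMonoidHom ≤ (autInducedBy S₁ Q₁).prod (autInducedBy S₂ Q₂) ⊓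
      ((F₁.autGroup Q₁).prod (F₂.autGroup Q₂) ⊓ stab Q₁ Q₂ (img β R)) := by
    refine le_inf ?_ hY'.le
    rintro _ ⟨y, hy, rfl⟩
    exact hβ y hy
  have heq := hY'.eq_of_le hle inf_le_right (hT.isPGroup.to_le inf_le_left)
  have e : (autInducedBy S₁ Q₁).prod (autInducedBy S₂ Q₂) ⊓ stab Q₁ Q₂ (img β R) =
      (autInducedBy S₁ Q₁).prod (autInducedBy S₂ Q₂) ⊓
        ((F₁.autGroup Q₁).prod (F₂.autGroup Q₂) ⊓ stab Q₁ Q₂ (img β R)) := by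
    rw [← inf_assoc, inf_eq_left.mpr hT.le]
  have hsyl : IsSylowIn p ((autInducedBy S₁ Q₁).prod (autInducedBy S₂ Q₂) ⊓ stab Q₁ Q₂ (img β R))
      ((F₁.autGroup Q₁).prod (F₂.autGroup Q₂) ⊓ stab Q₁ Q₂ (img β R)) := by
    rw [e, heq]
    exact hY'
  exact isFullyAutomized_of_isSylowIn_stab hE (img_fst h₁ hR β) (img_snd h₂ hR β) (img_le β R)
    ((img_le β R).trans (Subgroup.prod_mono hQ₁ hQ₂)) hQ₁ hQ₂ hsyl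

/-- Projection of a subgroup onto the first factor, as a homomorphism onto the image. -/
def fstR (N : Subgroup (Ω₁ × Ω₂)) : N →* N.map (MonoidHom.fst Ω₁ Ω₂) :=
  ((MonoidHom.fst Ω₁ Ω₂).comp N.subtype).codRestrict _ (fun x => ⟨x.1, x.2, rfl⟩)

/-- Projection of a subgroup onto the second factor, as a homomorphism onto the image. -/
def sndR (N : Subgroup (Ω₁ × Ω₂)) : N →* N.map (MonoidHom.snd Ω₁ Ω₂) :=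
  ((MonoidHom.snd Ω₁ Ω₂).comp N.subtype).codRestrict _ (fun x => ⟨x.1, x.2, rfl⟩)

theorem range_fst_of_mem {P : Subgroup (Ω₁ × Ω₂)}
    {φ : P →* Ω₁ × Ω₂} {φ₁ : P.map (MonoidHom.fst Ω₁ Ω₂) →* Ω₁}
    {φ₂ : P.map (MonoidHom.snd Ω₁ Ω₂) →* Ω₂}
    (hφe : ∀ (x : P) (h₁ : (x : Ω₁ × Ω₂).1 ∈ P.map (MonoidHom.fst Ω₁ Ω₂))
          (h₂ : (x : Ω₁ × Ω₂).2 ∈ P.map (MonoidHom.snd Ω₁ Ω₂)),
          φ x = (φ₁ ⟨(x : Ω₁ × Ω₂).1, h₁⟩, φ₂ ⟨(x : Ω₁ × Ω₂).2, h₂⟩)) :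
    φ₁.range = φ.range.map (MonoidHom.fst Ω₁ Ω₂) ∧ φ₂.range = φ.range.map (MonoidHom.snd Ω₁ Ω₂) := by
  constructor
  · ext y
    constructor
    · rintro ⟨⟨x₁, ⟨x, hx, rfl⟩⟩, rfl⟩
      refine ⟨φ ⟨x, hx⟩, ⟨_, rfl⟩, ?_⟩
      rw [hφe ⟨x, hx⟩ ⟨x, hx, rfl⟩ ⟨x, hx, rfl⟩]
      rfl
    · rintro ⟨_, ⟨x, rfl⟩, rfl⟩
      refine ⟨⟨(x : Ω₁ × Ω₂).1, ⟨x.1, x.2, rfl⟩⟩, ?_⟩
      rw [hφe x ⟨x.1, x.2, rfl⟩ ⟨x.1, x.2, rfl⟩]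
      rfl
  · ext y
    constructor
    · rintro ⟨⟨x₁, ⟨x, hx, rfl⟩⟩, rfl⟩
      refine ⟨φ ⟨x, hx⟩, ⟨_, rfl⟩, ?_⟩
      rw [hφe ⟨x, hx⟩ ⟨x, hx, rfl⟩ ⟨x, hx, rfl⟩]
      rfl
    · rintro ⟨_, ⟨x, rfl⟩, rfl⟩
      refine ⟨⟨(x : Ω₁ × Ω₂).2, ⟨x.1, x.2, rfl⟩⟩, ?_⟩
      rw [hφe x ⟨x.1, x.2, rfl⟩ ⟨x.1, x.2, rfl⟩]
      rfl

theorem extender_fst_le {P : Subgroup (Ω₁ × Ω₂)}
    {φ : P →* Ω₁ × Ω₂} {φ₁ : P.map (MonoidHom.fst Ω₁ Ω₂) →* Ω₁}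
    {φ₂ : P.map (MonoidHom.snd Ω₁ Ω₂) →* Ω₂}
    (hφe : ∀ (x : P) (h₁ : (x : Ω₁ × Ω₂).1 ∈ P.map (MonoidHom.fst Ω₁ Ω₂))
          (h₂ : (x : Ω₁ × Ω₂).2 ∈ P.map (MonoidHom.snd Ω₁ Ω₂)),
          φ x = (φ₁ ⟨(x : Ω₁ × Ω₂).1, h₁⟩, φ₂ ⟨(x : Ω₁ × Ω₂).2, h₂⟩)) :
    (extender (S₁.prod S₂) P φ).map (MonoidHom.fst Ω₁ Ω₂) ≤
      extender S₁ (P.map (MonoidHom.fst Ω₁ Ω₂)) φ₁ := by
  rintro _ ⟨g, hg, rfl⟩
  obtain ⟨hgS, hgN, h, hhS, hh⟩ := (mem_extender_iff φ g).1 hg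
  rw [mem_extender_iff]
  refine ⟨hgS.1, ?_, h.1, hhS.1, ?_⟩
  · intro n
    constructor
    · rintro ⟨x, hx, rfl⟩
      exact ⟨g * x * g⁻¹, (hgN x).1 hx, rfl⟩
    · rintro ⟨y, hy, hyn⟩
      have h3 : g⁻¹ * y * g ∈ P := by
        refine (hgN (g⁻¹ * y * g)).2 ?_
        have : g * (g⁻¹ * y * g) * g⁻¹ = y := by group
        rw [this]
        exact hy
      refine ⟨g⁻¹ * y * g, h3, ?_⟩
      show g.1⁻¹ * y.1 * g.1 = n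
      have hyn' : y.1 = g.1 * n * g.1⁻¹ := hyn
      rw [hyn']
      group
  · rintro ⟨_, ⟨x', hx', rfl⟩⟩ hx
    have h3 := hh ⟨x', hx'⟩ ((hgN x').1 hx')
    rw [hφe ⟨x', hx'⟩ ⟨x', hx', rfl⟩ ⟨x', hx', rfl⟩,
      hφe ⟨g * x' * g⁻¹, (hgN x').1 hx'⟩ ⟨_, (hgN x').1 hx', rfl⟩ ⟨_, (hgN x').1 hx', rfl⟩] at h3
    exact congrArg Prod.fst h3

theorem extender_snd_le {P : Subgroup (Ω₁ × Ω₂)}
    {φ : P →* Ω₁ × Ω₂} {φ₁ : P.map (MonoidHom.fst Ω₁ Ω₂) →* Ω₁}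
    {φ₂ : P.map (MonoidHom.snd Ω₁ Ω₂) →* Ω₂}
    (hφe : ∀ (x : P) (h₁ : (x : Ω₁ × Ω₂).1 ∈ P.map (MonoidHom.fst Ω₁ Ω₂))
          (h₂ : (x : Ω₁ × Ω₂).2 ∈ P.map (MonoidHom.snd Ω₁ Ω₂)),
          φ x = (φ₁ ⟨(x : Ω₁ × Ω₂).1, h₁⟩, φ₂ ⟨(x : Ω₁ × Ω₂).2, h₂⟩)) :
    (extender (S₁.prod S₂) P φ).map (MonoidHom.snd Ω₁ Ω₂) ≤
      extender S₂ (P.map (MonoidHom.snd Ω₁ Ω₂)) φ₂ := by
  rintro _ ⟨g, hg, rfl⟩
  obtain ⟨hgS, hgN, h, hhS, hh⟩ := (mem_extender_iff φ g).1 hg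
  rw [mem_extender_iff]
  refine ⟨hgS.2, ?_, h.2, hhS.2, ?_⟩
  · intro n
    constructor
    · rintro ⟨x, hx, rfl⟩
      exact ⟨g * x * g⁻¹, (hgN x).1 hx, rfl⟩
    · rintro ⟨y, hy, hyn⟩
      have h3 : g⁻¹ * y * g ∈ P := by
        refine (hgN (g⁻¹ * y * g)).2 ?_
        have : g * (g⁻¹ * y * g) * g⁻¹ = y := by group
        rw [this]
        exact hy
      refine ⟨g⁻¹ * y * g, h3, ?_⟩
      show g.2⁻¹ * y.2 * g.2 = n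
      have hyn' : y.2 = g.2 * n * g.2⁻¹ := hyn
      rw [hyn']
      group
  · rintro ⟨_, ⟨x', hx', rfl⟩⟩ hx
    have h3 := hh ⟨x', hx'⟩ ((hgN x').1 hx')
    rw [hφe ⟨x', hx'⟩ ⟨x', hx', rfl⟩ ⟨x', hx', rfl⟩,
      hφe ⟨g * x' * g⁻¹, (hgN x').1 hx'⟩ ⟨_, (hgN x').1 hx', rfl⟩ ⟨_, (hgN x').1 hx', rfl⟩] at h3
    exact congrArg Prod.snd h3

theorem isReceptive_of_proj (hE : IsProductSystem F₁ F₂ E) (hRS : R ≤ S₁.prod S₂)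
    (r₁ : F₁.IsReceptive (R.map (MonoidHom.fst Ω₁ Ω₂)))
    (r₂ : F₂.IsReceptive (R.map (MonoidHom.snd Ω₁ Ω₂))) : E.IsReceptive R := by
  refine ⟨hRS, fun P φ hφ hr => ?_⟩
  obtain ⟨hPS, φ₁, hφ₁, φ₂, hφ₂, hφe⟩ := (hE P φ).1 hφ
  obtain ⟨hr₁, hr₂⟩ := range_fst_of_mem hφe
  rw [hr] at hr₁ hr₂
  obtain ⟨ψ₁, hψ₁, hext₁⟩ := r₁.2 _ φ₁ hφ₁ hr₁
  obtain ⟨ψ₂, hψ₂, hext₂⟩ := r₂.2 _ φ₂ hφ₂ hr₂
  have hN₁ := extender_fst_le (S₁ := S₁) (S₂ := S₂) hφe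
  have hN₂ := extender_snd_le (S₁ := S₁) (S₂ := S₂) hφe
  refine ⟨MonoidHom.prod ((ψ₁.comp (Subgroup.inclusion hN₁)).comp (fstR _))
    ((ψ₂.comp (Subgroup.inclusion hN₂)).comp (sndR _)), ?_, ?_⟩
  · rw [hE]
    exact ⟨extender_le' φ, _, restrict_mem F₁ hN₁ hψ₁, _, restrict_mem F₂ hN₂ hψ₂,
      fun x _ _ => rfl⟩
  · intro x hP hN
    rw [hφe ⟨x, hP⟩ ⟨x, hP, rfl⟩ ⟨x, hP, rfl⟩]
    exact Prod.ext (hext₁ x.1 ⟨x, hP, rfl⟩ _) (hext₂ x.2 ⟨x, hP, rfl⟩ _)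

end Prod

/-- Let F₁ and F₂ be saturated fusion systems over finite p-groups S₁ and S₂. Then their direct product (the fusion system over S₁ × S₂ whose maps are the restrictions of the product maps (φ₁, φ₂)) is saturated. -/
theorem result {Ω₁ Ω₂ : Type*} [Group Ω₁] [Group Ω₂] {S₁ : Subgroup Ω₁} {S₂ : Subgroup Ω₂} [Finite S₁] [Finite S₂] (p : ℕ) [Fact p.Prime] (h₁ : IsPGroup p S₁) (h₂ : IsPGroup p S₂) (F₁ : Cfsg.FusionSystem S₁) (F₂ : Cfsg.FusionSystem S₂) (hF₁ : F₁.IsSaturated p) (hF₂ : F₂.IsSaturated p) (E : Cfsg.FusionSystem (S₁.prod S₂)) (hE : Cfsg.FusionSystem.IsProductSystem F₁ F₂ E) : E.IsSaturated p := by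
  intro P hP
  have hP₁ : P.map (MonoidHom.fst Ω₁ Ω₂) ≤ S₁ := by
    rintro _ ⟨x, hx, rfl⟩
    exact (hP hx).1
  have hP₂ : P.map (MonoidHom.snd Ω₁ Ω₂) ≤ S₂ := by
    rintro _ ⟨x, hx, rfl⟩
    exact (hP hx).2
  obtain ⟨Q₁, ⟨φ₁, hφ₁, hr₁⟩, fa₁, rc₁⟩ := hF₁ _ hP₁
  obtain ⟨Q₂, ⟨φ₂, hφ₂, hr₂⟩, fa₂, rc₂⟩ := hF₂ _ hP₂
  have hφe : ∀ (x : P) (h₁ : (x : Ω₁ × Ω₂).1 ∈ P.map (MonoidHom.fst Ω₁ Ω₂))
      (h₂ : (x : Ω₁ × Ω₂).2 ∈ P.map (MonoidHom.snd Ω₁ Ω₂)),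
      (MonoidHom.prod (φ₁.comp (fstR P)) (φ₂.comp (sndR P))) x =
        (φ₁ ⟨(x : Ω₁ × Ω₂).1, h₁⟩, φ₂ ⟨(x : Ω₁ × Ω₂).2, h₂⟩) := fun x _ _ => rfl
  have hφ : MonoidHom.prod (φ₁.comp (fstR P)) (φ₂.comp (sndR P)) ∈ E.Hom P :=
    (hE P _).2 ⟨hP, φ₁, hφ₁, φ₂, hφ₂, hφe⟩
  obtain ⟨e₁, e₂⟩ := range_fst_of_mem hφe
  have g₁ := e₁.symm.trans hr₁
  have g₂ := e₂.symm.trans hr₂
  have hR := le_prod_of_proj g₁ g₂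
  have hQ₁ : Q₁ ≤ S₁ := fa₁.1
  have hQ₂ : Q₂ ≤ S₂ := fa₂.1
  have hRS := range_le E hφ
  obtain ⟨β, hβ, hfa⟩ := exists_img_isFullyAutomized hE g₁ g₂ hR hQ₁ hQ₂ fa₁ fa₂
  refine ⟨img β _, isConj_trans E ⟨_, hφ, rfl⟩ (isConj_img hE g₁ g₂ hR hRS hQ₁ hQ₂ β hβ), hfa, ?_⟩
  apply isReceptive_of_proj hE hfa.1
  · rw [img_fst g₁ hR β]
    exact rc₁
  · rw [img_snd g₂ hR β]
    exact rc₂

end Cfsg.Agent.S5137
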