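import Cfsg.Statements.S5142
import Cfsg.Agent.Lib.Helper85_PExt4
import Cfsg.Agent.S5140

set_option autoImplicit false
set_option linter.style.haveILetI false
open Cfsg

namespace Cfsg.Agent.S5142

open Cfsg.FusionSystem Cfsg.Agent.Lib
open Cfsg.Agent.Lib.Helper87_Alperin Cfsg.Agent.Lib.Helper88_Centric
  Cfsg.Agent.Lib.Helper85_PExt1 Cfsg.Agent.Lib.Helper85_PExt2 Cfsg.Agent.Lib.Helper85_PExt3
  Cfsg.Agent.Lib.Helper85_PExt4
open Cfsg.Agent.Lib.Helper85_Index (PE Good)

/-- Let F be a saturated fusion system over a finite p-group S and E a normal subsystem of F over T. Then the p'-residual subsystem of E (the least saturated subsystem of E over T of index prime to p) is contained in every normal subsystem of F over T; together with its normality in F (the case of a weakly normal E) this makes it the least normal subsystem of F over T. -/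
theorem result {Ω : Type*} [Group Ω] {S : Subgroup Ω} [Finite S] (p : ℕ) [Fact p.Prime] (hS : IsPGroup p S) (F : Cfsg.FusionSystem S) (hF : F.IsSaturated p) {T : Subgroup Ω} (E : Cfsg.FusionSystem T) (hE : E.IsNormalIn F p) (D : Cfsg.FusionSystem T) (hD : E.IsPPrimeResidual p D) : ∀ D' : Cfsg.FusionSystem T, D'.IsNormalIn F p → D.IsSubsystemOf D' := by
  intro D' hD'
  have hEsat : E.IsSaturated p := hE.1.1
  have hEinv : E.IsInvariantIn F := hE.1.2.2
  have hD'sat : D'.IsSaturated p := hD'.1.1
  have hD'inv : D'.IsInvariantIn F := hD'.1.2.2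
  have hTS : T ≤ S := hEinv.2.1.1
  haveI : Finite T := Helper84_FusionRS.finite_of_le_S hTS
  have hTp : IsPGroup p T := hS.to_le hTS
  have h := pSetup_sup hS hF hEsat hEinv hD'sat hD'inv
  have hMsat := M_saturated h
  -- `D' ≤ M`
  have hD'M : D' ≤ M h := by
    refine le_of_good hTp hD'sat (M h) ?_ ?_
    · intro α hα
      rw [mem_autGroup_M_iff h]
      exact (le_sup_left : D'.autGroup T ≤ D'.autGroup T ⊔ E.autGroup T) hα
    · intro P hP
      have hPT : P ≤ T := hP.1
      rw [Subgroup.closure_le]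
      intro β hβ
      obtain ⟨k, hk⟩ := pe_pow hβ
      have h1 : β ∈ E.autGroup P :=
        pelt_le_of_invariant hS hTS hD'sat hD'inv.1 hEinv hPT hβ.1 hk
      exact Helper85_Index.autGroup_le_of_le (E_le_M h) P h1
  -- `D'` has index prime to `p` in `M`
  have hD'idx : D'.HasPrimeToPIndexIn (M h) p := by
    refine ⟨hD'M, fun P hPT => ?_⟩
    rw [Helper85_Index.map_closure_pe, Subgroup.closure_le]
    intro β hβ
    obtain ⟨k, hk⟩ := pe_pow hβ
    have h1 : β ∈ E.autGroup P := pelt_mem h hPT ((mem_autGroup_iff (M h) hPT β).1 hβ.1) hk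
    exact pelt_le_of_invariant hS hTS hEsat hEinv.1 hD'inv hPT h1 hk
  obtain ⟨R, hR⟩ := Cfsg.Agent.S5140.result p hTp (M h) hMsat
  have hRD' : R.IsSubsystemOf D' := hR.2.2 D' hD'sat hD'idx
  have hRE : R.IsSubsystemOf E := hR.2.2 E hEsat (index_E_M h)
  have hRidx : R.HasPrimeToPIndexIn E p := by
    refine ⟨hRE, fun P hPT => ?_⟩
    rw [Helper85_Index.map_closure_pe, Subgroup.closure_le]
    intro β hβ
    have h1 : β ∈ PE (M h) p P := ⟨Helper85_Index.autGroup_le_of_le (E_le_M h) P hβ.1, hβ.2⟩
    have h2 := hR.2.1.2 P hPT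
    rw [Helper85_Index.map_closure_pe] at h2
    exact h2 (Subgroup.subset_closure h1)
  have hDR : D.IsSubsystemOf R := hD.2.2 R hR.1 hRidx
  intro P φ hφ
  exact hRD' P (hDR P hφ)

end Cfsg.Agent.S5142
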