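import Cfsg.Statements.S5147
import Cfsg.Agent.Lib.Helper87_Constrained2
import Cfsg.Agent.Lib.Helper85_GroupFusion
import Cfsg.Agent.S5115
import Cfsg.Agent.S0542
import Cfsg.Agent.Lib.Helper84_FusionNormal
import Cfsg.Agent.Lib.Helper85_Fusion
import Mathlib

set_option autoImplicit false
open Cfsg

namespace Cfsg.Agent.S5147

open Cfsg.FusionSystem Cfsg.Agent.Lib Cfsg.Agent.Lib.Helper87_Alperin Cfsg.Agent.Lib.Helper87_Normal
  Cfsg.Agent.Lib.Helper87_Constrained Cfsg.Agent.Lib.Helper87_Constrained2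

variable {M : Type*} [Group M]

/-- A `p`-element whose image modulo a central subgroup `Z` lies in the image of a Sylow `p`-subgroup lies in that
Sylow subgroup. -/
theorem mem_sylow_of_map_mem [Finite M] {p : ℕ} [Fact p.Prime] (R : Sylow p M) (Z : Subgroup M) [Z.Normal]
    (hZ : Z ≤ Subgroup.center M) {y : M} (hy : ∃ k : ℕ, y ^ p ^ k = 1)
    (hπ : QuotientGroup.mk' Z y ∈ (R : Subgroup M).map (QuotientGroup.mk' Z)) : y ∈ R := by
  obtain ⟨s, hs, hsy⟩ := hπ
  have hz : s⁻¹ * y ∈ Z := by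
    rw [← QuotientGroup.eq]
    exact hsy
  set z := s⁻¹ * y with hzdef
  have hzc : ∀ g : M, g * z = z * g := fun g => Subgroup.mem_center_iff.1 (hZ hz) g
  obtain ⟨a, ha⟩ := hy
  obtain ⟨b, hb⟩ := R.isPGroup' ⟨s, hs⟩
  have hb' : s ^ p ^ b = 1 := by
    have := congrArg Subtype.val hb
    simpa using this
  have hyz : y = s * z := by rw [hzdef]; group
  have hcomm : Commute s z := hzc s
  have hzpow : z ^ p ^ (a + b) = 1 := by
    have h1 : y ^ p ^ (a + b) = 1 := by
      rw [pow_add, pow_mul, ha, one_pow]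
    have h2 : s ^ p ^ (a + b) = 1 := by
      rw [add_comm, pow_add, pow_mul, hb', one_pow]
    rw [hyz, hcomm.mul_pow, h2, one_mul] at h1
    exact h1
  -- `zpowers z` is a normal `p`-subgroup
  have hnorm : (Subgroup.zpowers z).Normal := by
    refine ⟨fun n hn g => ?_⟩
    obtain ⟨i, rfl⟩ := Subgroup.mem_zpowers_iff.1 hn
    have : g * z ^ i * g⁻¹ = z ^ i := by
      have h3 : Commute g (z ^ i) := (show Commute g z from hzc g).zpow_right i
      rw [h3.eq]
      group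
    rw [this]
    exact Subgroup.zpow_mem_zpowers z i
  have hpz : IsPGroup p (Subgroup.zpowers z) := by
    rintro ⟨n, hn⟩
    obtain ⟨i, rfl⟩ := Subgroup.mem_zpowers_iff.1 hn
    refine ⟨a + b, ?_⟩
    apply Subtype.ext
    show (z ^ i) ^ p ^ (a + b) = 1
    rw [← zpow_natCast, ← zpow_mul, mul_comm, zpow_mul, zpow_natCast, hzpow, one_zpow]
  have hsup : IsPGroup p ((R : Subgroup M) ⊔ Subgroup.zpowers z : Subgroup M) :=
    R.isPGroup'.to_sup_of_normal_right hpz
  have heq := R.is_maximal' hsup le_sup_left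
  have hzR : z ∈ (R : Subgroup M) := by
    rw [← heq]
    exact (le_sup_right : Subgroup.zpowers z ≤ _) (Subgroup.mem_zpowers z)
  rw [hyz]
  exact (R : Subgroup M).mul_mem hs hzR

theorem quotient_center_constrained [Finite M] {p : ℕ} [Fact p.Prime] (R : Sylow p M)
    (hF : (groupFusionSystem (R : Subgroup M)).IsConstrained p) (Z : Subgroup M) [Z.Normal]
    (hZ : Z ≤ Subgroup.center M) :
    (groupFusionSystem ((R : Subgroup M).map (QuotientGroup.mk' Z))).IsConstrained p := by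
  classical
  have hSp : IsPGroup p (R : Subgroup M) := R.isPGroup'
  have hQn : (groupFusionSystem (R : Subgroup M)).IsNormal (groupFusionSystem (R : Subgroup M)).core :=
    Cfsg.Agent.Lib.Helper85_Fusion.isNormal_core _
  set Q := (groupFusionSystem (R : Subgroup M)).core with hQdef
  have hQsc : (groupFusionSystem (R : Subgroup M)).StronglyClosed Q :=
    Cfsg.Agent.Lib.Helper84_FusionNormal.IsNormal.stronglyClosed hQn
  have hQS : Q ≤ (R : Subgroup M) := hQn.1
  -- saturated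
  have hsat : (groupFusionSystem ((R : Subgroup M).map (QuotientGroup.mk' Z))).IsSaturated p := by
    have := Cfsg.Agent.Lib.Helper85_GroupFusion.group_isSaturated
      (R.mapSurjective (QuotientGroup.mk'_surjective Z))
    rwa [Sylow.coe_mapSurjective] at this
  -- the image of `Q` is normal
  have hnormal : (groupFusionSystem ((R : Subgroup M).map (QuotientGroup.mk' Z))).IsNormal
      (Q.map (QuotientGroup.mk' Z)) := by
    refine ⟨Subgroup.map_mono hQS, fun P' φ' hφ' => ?_⟩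
    obtain ⟨hP'S, hφ'S, g', hg'⟩ := hφ'
    obtain ⟨g, rfl⟩ := QuotientGroup.mk'_surjective Z g'
    set P : Subgroup M := (R : Subgroup M) ⊓ P'.comap (QuotientGroup.mk' Z) with hPdef
    have hPS : P ≤ (R : Subgroup M) := inf_le_left
    have hP'P : P' ≤ P.map (QuotientGroup.mk' Z) := by
      intro x' hx'
      obtain ⟨s, hs, rfl⟩ := hP'S hx'
      exact ⟨s, ⟨hs, hx'⟩, rfl⟩
    have hgP : ∀ x : P, g * (x : M) * g⁻¹ ∈ (R : Subgroup M) := by
      intro x
      apply mem_sylow_of_map_mem R Z hZ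
      · obtain ⟨k, hk⟩ := hSp ⟨x, hPS x.2⟩
        refine ⟨k, ?_⟩
        have hk' : (x : M) ^ p ^ k = 1 := by simpa using congrArg Subtype.val hk
        rw [conj_pow, hk', mul_one, mul_inv_cancel]
      · have hx' : QuotientGroup.mk' Z (x : M) ∈ P' := x.2.2
        have := hφ'S ⟨QuotientGroup.mk' Z (x : M), hx'⟩
        rw [hg' ⟨QuotientGroup.mk' Z (x : M), hx'⟩] at this
        rw [map_mul, map_mul, map_inv]
        exact this
    have hφ : conjHom P g ∈ (groupFusionSystem (R : Subgroup M)).Hom P := ⟨hPS, hgP, g, fun x => rfl⟩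
    obtain ⟨ψ, hψ, hext, himg⟩ := hQn.2 P (conjHom P g) hφ
    obtain ⟨hPQS, hψS, g₁, hg₁⟩ := hψ
    have hsup : P' ⊔ Q.map (QuotientGroup.mk' Z) ≤ (P ⊔ Q).map (QuotientGroup.mk' Z) := by
      rw [Subgroup.map_sup]
      exact sup_le_sup_right hP'P _
    refine ⟨conjHom (P' ⊔ Q.map (QuotientGroup.mk' Z)) (QuotientGroup.mk' Z g₁),
      ⟨?_, ?_, QuotientGroup.mk' Z g₁, fun x => rfl⟩, ?_, ?_⟩
    · exact sup_le hP'S (Subgroup.map_mono hQS)
    · intro x
      obtain ⟨y, hy, hyx⟩ := hsup x.2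
      show QuotientGroup.mk' Z g₁ * (x : M ⧸ Z) * (QuotientGroup.mk' Z g₁)⁻¹ ∈ _
      rw [← hyx, ← map_mul, ← map_inv, ← map_mul]
      refine ⟨_, ?_, rfl⟩
      have := hψS ⟨y, hy⟩
      rwa [hg₁ ⟨y, hy⟩] at this
    · intro x
      obtain ⟨s, hs, hsx⟩ := hP'P x.2
      show QuotientGroup.mk' Z g₁ * ((x : M ⧸ Z)) * (QuotientGroup.mk' Z g₁)⁻¹ = φ' x
      rw [hg' x, ← hsx]
      have h1 := hext ⟨s, hs⟩
      rw [hg₁] at h1
      have h2 : g₁ * s * g₁⁻¹ = g * s * g⁻¹ := h1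
      rw [← map_mul, ← map_inv, ← map_mul, h2, map_mul, map_mul, map_inv]
    · ext y
      constructor
      · rintro ⟨x, hx, rfl⟩
        have hxQ : (x : M ⧸ Z) ∈ Q.map (QuotientGroup.mk' Z) := Subgroup.mem_subgroupOf.1 hx
        obtain ⟨q, hq, hqx⟩ := hxQ
        show QuotientGroup.mk' Z g₁ * (x : M ⧸ Z) * (QuotientGroup.mk' Z g₁)⁻¹ ∈ _
        rw [← hqx, ← map_mul, ← map_inv, ← map_mul]
        refine ⟨_, ?_, rfl⟩
        have hqPQ : q ∈ P ⊔ Q := (le_sup_right : Q ≤ P ⊔ Q) hq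
        have h1 : ψ ⟨q, hqPQ⟩ ∈ (Q.subgroupOf (P ⊔ Q)).map ψ :=
          ⟨⟨q, hqPQ⟩, Subgroup.mem_subgroupOf.2 hq, rfl⟩
        rw [himg, hg₁] at h1
        exact h1
      · intro hy
        obtain ⟨q, hq, rfl⟩ := hy
        rw [← himg] at hq
        obtain ⟨q₀, hq₀, hq₀q⟩ := hq
        have hq₀Q : (q₀ : M) ∈ Q := Subgroup.mem_subgroupOf.1 hq₀
        refine ⟨⟨QuotientGroup.mk' Z (q₀ : M),
          (le_sup_right : Q.map (QuotientGroup.mk' Z) ≤ P' ⊔ Q.map (QuotientGroup.mk' Z))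
            ⟨q₀, hq₀Q, rfl⟩⟩, ?_, ?_⟩
        · exact Subgroup.mem_subgroupOf.2 ⟨q₀, hq₀Q, rfl⟩
        · show QuotientGroup.mk' Z g₁ * QuotientGroup.mk' Z (q₀ : M) * (QuotientGroup.mk' Z g₁)⁻¹ = _
          rw [← hq₀q, hg₁, map_mul, map_mul, map_inv]
  refine ⟨hsat, Q.map (QuotientGroup.mk' Z), hnormal, Subgroup.map_mono hQS, fun R' hconj => ?_⟩
  obtain ⟨φ, hφ, hrange⟩ := hconj
  have hwc := weaklyClosed_of_stronglyClosed'
    (Cfsg.Agent.Lib.Helper84_FusionNormal.IsNormal.stronglyClosed hnormal)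
  rw [← hrange, hwc.2 φ hφ]
  rintro x' ⟨hx'S, hx'c⟩
  obtain ⟨x, hxS, rfl⟩ := hx'S
  have hY : (groupFusionSystem (R : Subgroup M)).StronglyClosed (Z ⊓ Q) := by
    refine ⟨inf_le_right.trans hQS, fun P hP φ hφ x => ?_⟩
    obtain ⟨-, -, g, hg⟩ := hφ
    have hxZ : (x : M) ∈ Subgroup.center M := hZ (hP x.2).1
    have h1 : g * (x : M) = (x : M) * g := Subgroup.mem_center_iff.1 hxZ g
    rw [hg x, h1, mul_inv_cancel_right]
    exact hP x.2
  have hxmem : x ∈ stabCent (R : Subgroup M) Q (Z ⊓ Q) := by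
    refine ⟨hxS, fun y hy => ?_, fun q hq => ⟨?_, ?_⟩⟩
    · exact (Subgroup.mem_center_iff.1 (hZ hy.1) x).symm
    · show q⁻¹ * (x * q * x⁻¹) ∈ Z
      rw [← QuotientGroup.eq_one_iff, ← QuotientGroup.mk'_apply, map_mul, map_mul, map_mul, map_inv, map_inv]
      have h1 := Subgroup.mem_centralizer_iff.1 hx'c (QuotientGroup.mk' Z q) ⟨q, hq, rfl⟩
      rw [← h1]
      group
    · exact Q.mul_mem (Q.inv_mem hq) (stronglyClosed_conj_mem hQsc hxS hq)
  exact ⟨x, stabCent_core_le hSp hF hY inf_le_right hxmem, rfl⟩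

/-- Let G be a finite group with Sylow 2-subgroup S whose 2-fusion system on S is constrained, and L a component of G (a subnormal quasisimple subgroup). Then the 2-fusion system of L/Z(L) on the image of S ∩ L is constrained. -/
theorem result {G : Type*} [Group G] [Finite G] (S : Sylow 2 G) (hF : (Cfsg.groupFusionSystem (S : Subgroup G)).IsConstrained 2) (L : Subgroup G) (hL : Cfsg.IsComponent L) : (Cfsg.groupFusionSystem (((S : Subgroup G).subgroupOf L).map (QuotientGroup.mk' (Subgroup.center L)))).IsConstrained 2 := by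
  obtain ⟨SL, hSL⟩ := Cfsg.Agent.S0542.result 2 L hL.1 S
  have h1 := Cfsg.Agent.S5115.main S hF L hL.1
  rw [← hSL] at h1 ⊢
  exact quotient_center_constrained SL h1 (Subgroup.center L) le_rfl

end Cfsg.Agent.S5147
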