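import Cfsg.Statements.S5256
import Cfsg.Agent.Lib.Helper87_Hyperfocal

set_option autoImplicit false
open Cfsg

namespace Cfsg.Agent.S5256

open Cfsg.FusionSystem Cfsg.Agent.Lib Cfsg.Agent.Lib.Helper87_Alperin Cfsg.Agent.Lib.Helper87_Alperin2
  Cfsg.Agent.Lib.Helper87_Normal Cfsg.Agent.Lib.Helper87_ModT Cfsg.Agent.Lib.Helper87_Factor
  Cfsg.Agent.Lib.Helper87_Hyperfocal

/-- Let F be a saturated fusion system over a finite p-group S, T a subgroup of S strongly closed in F, and E a factor system F/T realised along a homomorphism θ of S with kernel T. Then the hyperfocal subgroup of E is the image under θ of the hyperfocal subgroup of F (hyp(F/T) = T·hyp(F)/T). -/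
theorem result {Ω : Type*} [Group Ω] {S : Subgroup Ω} [Finite S] (p : ℕ) [Fact p.Prime] (hS : IsPGroup p S) (F : Cfsg.FusionSystem S) (hF : F.IsSaturated p) (T : Subgroup Ω) (hT : F.StronglyClosed T) {Ω' : Type*} [Group Ω'] {S' : Subgroup Ω'} (θ : ↥S →* Ω') (E : Cfsg.FusionSystem S') (hE : F.IsFactorSystem T θ E) : E.hyperfocalSubgroup p = ((F.hyperfocalSubgroup p).subgroupOf S).map θ := by
  classical
  have hE' := hE
  obtain ⟨hTS, hker, hrange, hEhom⟩ := hE'
  apply le_antisymm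
  · -- `hyp(E) ≤ θ(hyp(F))`
    apply hyperfocal_le
    intro P' hP' α' hα' hcop x'
    obtain ⟨α₀, hα₀F, hα₀⟩ := exists_aut_of_induced F hE hP' hα'
    have hPS : preimageAlong θ P' ≤ S := preimageAlong_le θ P'
    have hfin : Finite ↥(preimageAlong θ P') :=
      Finite.of_injective (Subgroup.inclusion hPS) (Subgroup.inclusion_injective hPS)
    obtain ⟨k, hk, hk1⟩ := exists_pow_coprime (p := p) α₀ (orderOf_pos α₀).ne' hcop
    have hα'k : α' ^ k = α' := by
      have := (pow_eq_pow_iff_modEq (x := α')).2 hk1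
      rwa [pow_one] at this
    -- a preimage of `x'`
    have hx'S' : (x' : Ω') ∈ θ.range := by
      rw [hrange]
      exact hP' x'.2
    obtain ⟨s, hs⟩ := hx'S'
    have hsP : (s : Ω) ∈ preimageAlong θ P' := by
      rw [mem_preimageAlong]
      refine ⟨s.2, ?_⟩
      rw [extOn_coe, hs]
      exact x'.2
    have hθ : ∀ x : ↥(preimageAlong θ P'), extOn θ (x : Ω) ∈ P' := fun x =>
      ((mem_preimageAlong θ P' _).1 x.2).2
    have hpow := pow_induced (extOn θ) α₀ α' hθ (fun x => hα₀ x (hθ x)) k ⟨s, hsP⟩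
    rw [hα'k] at hpow
    have hx'eq : x' = ⟨extOn θ ((⟨s, hsP⟩ : ↥(preimageAlong θ P')) : Ω), hθ ⟨s, hsP⟩⟩ := by
      apply Subtype.ext
      show (x' : Ω') = extOn θ (s : Ω)
      rw [extOn_coe, hs]
    have hgen := mem_hyperfocal (F := F) (p := p) hPS ((F.autGroup _).pow_mem hα₀F k) hk ⟨s, hsP⟩
    have hgenS : (s : Ω)⁻¹ * (((α₀ ^ k) ⟨s, hsP⟩ : ↥(preimageAlong θ P')) : Ω) ∈ S :=
      hyperfocal_le_base F p hgen
    refine ⟨⟨_, hgenS⟩, Subgroup.mem_subgroupOf.2 hgen, ?_⟩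
    rw [← extOn_apply θ hgenS, extOn_mul θ (S.inv_mem s.2) (hPS ((α₀ ^ k) ⟨s, hsP⟩).2),
      extOn_inv θ s.2, ← hpow, ← hx'eq, extOn_coe, hs]
  · -- `θ(hyp(F)) ≤ hyp(E)`
    have hle : F.hyperfocalSubgroup p ≤ ((E.hyperfocalSubgroup p).comap θ).map S.subtype := by
      apply hyperfocal_le
      intro P hP α hα hcop x
      obtain ⟨α', hα'E, hα', hord⟩ := exists_induced_aut F hS hF hT hE hP hα
      have hcop' : (orderOf α').Coprime p := Nat.Coprime.coprime_dvd_left hord hcop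
      have hP'S' : imageAlong θ P ≤ S' := by
        rw [← hrange]
        exact imageAlong_le_range θ P
      have hx' : extOn θ (x : Ω) ∈ imageAlong θ P := extOn_mem_imageAlong θ hP x.2
      have hgen := mem_hyperfocal (F := E) (p := p) hP'S' hα'E hcop' ⟨extOn θ (x : Ω), hx'⟩
      have hmemS : (x : Ω)⁻¹ * ((α x : P) : Ω) ∈ S := S.mul_mem (S.inv_mem (hP x.2)) (hP (α x).2)
      refine ⟨⟨_, hmemS⟩, ?_, rfl⟩
      show θ ⟨_, hmemS⟩ ∈ E.hyperfocalSubgroup p
      rw [← extOn_apply θ hmemS, extOn_mul θ (S.inv_mem (hP x.2)) (hP (α x).2), extOn_inv θ (hP x.2),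
        ← hα' x hx']
      exact hgen
    rintro _ ⟨s, hs, rfl⟩
    obtain ⟨s', hs', hss'⟩ := hle (Subgroup.mem_subgroupOf.1 hs)
    have : s' = s := Subtype.ext hss'
    rw [← this]
    exact hs'

end Cfsg.Agent.S5256
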