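import Cfsg.Statements.S5337
import Cfsg.Agent.Lib.Helper87_Alperin
import Cfsg.Agent.Lib.Helper84_Fusion

set_option autoImplicit false
open Cfsg Cfsg.FusionSystem

namespace Cfsg.Agent.S5337

open Cfsg.Agent.Lib.Helper87_Alperin

variable {Ω : Type*} [Group Ω] {S : Subgroup Ω}

/-! ### The inner fusion system of an abelian subgroup -/

/-- maps of the inner system of an abelian group are inclusions -/
theorem inner_apply {T : Subgroup Ω} (hab : ∀ x ∈ T, ∀ y ∈ T, x * y = y * x) {P : Subgroup Ω}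
    {φ : P →* Ω} (hφ : φ ∈ (innerFusionSystem T).Hom P) (x : P) : φ x = x := by
  obtain ⟨hP, g, hg, h⟩ := hφ
  rw [h x, hab g hg x (hP x.2), mul_inv_cancel_right]

theorem inner_autGroup_eq_one {T : Subgroup Ω} (hab : ∀ x ∈ T, ∀ y ∈ T, x * y = y * x) (P : Subgroup Ω)
    (α : MulAut P) (hα : α ∈ (innerFusionSystem T).autGroup P) : α = 1 := by
  have hle : (innerFusionSystem T).autGroup P ≤ ⊥ := by
    unfold FusionSystem.autGroup
    rw [Subgroup.closure_le]
    intro β hβ
    have hβ' : P.subtype.comp β.toMonoidHom ∈ (innerFusionSystem T).Hom P := hβ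
    rw [SetLike.mem_coe, Subgroup.mem_bot]
    ext x
    have := inner_apply hab hβ' x
    simpa using this
  exact Subgroup.mem_bot.1 (hle hα)

theorem extender_le (T P : Subgroup Ω) (φ : P →* Ω) : extender T P φ ≤ T := by
  unfold FusionSystem.extender
  rw [Subgroup.closure_le]
  intro g hg
  exact hg.1

theorem inner_isSaturated {T : Subgroup Ω} (hab : ∀ x ∈ T, ∀ y ∈ T, x * y = y * x) (p : ℕ)
    [Fact p.Prime] : (innerFusionSystem T).IsSaturated p := by
  intro P hP
  refine ⟨P, ⟨P.subtype, subtype_mem _ hP, Subgroup.range_subtype P⟩, ⟨hP, ?_⟩, ⟨hP, ?_⟩⟩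
  · have hsub : ∀ x : (innerFusionSystem T).autGroup P, x = 1 := by
      intro x
      apply Subtype.ext
      exact inner_autGroup_eq_one hab P x.1 x.2
    obtain ⟨R⟩ := (inferInstance : Nonempty (Sylow p ((innerFusionSystem T).autGroup P)))
    refine ⟨R, ?_⟩
    ext x
    rw [hsub x]
    simp only [one_mem]
  · intro P' φ hφ hr
    have hle : extender T P' φ ≤ T := extender_le T P' φ
    refine ⟨(extender T P' φ).subtype, subtype_mem _ hle, ?_⟩
    intro x hP' hN
    rw [inner_apply hab hφ]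
    rfl

/-- The inner system of an abelian strongly closed subgroup `T` is normal in `F` as soon as every map of `F`
defined on a subgroup of `T` extends to an element of `Aut_F(T)`. -/
theorem inner_isNormalIn (F : FusionSystem S) (p : ℕ) [Fact p.Prime] (hF : F.IsSaturated p)
    {T : Subgroup Ω} (hab : ∀ x ∈ T, ∀ y ∈ T, x * y = y * x) (hsc : F.StronglyClosed T)
    (hext : ∀ (P : Subgroup Ω) (hPT : P ≤ T) (φ : P →* Ω), φ ∈ F.Hom P →
      ∃ α ∈ F.autGroup T, ∀ x : P, φ x = ((α ⟨x, hPT x.2⟩ : T) : Ω)) :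
    (innerFusionSystem T).IsNormalIn F p := by
  have hTS : T ≤ S := hsc.1
  refine ⟨⟨inner_isSaturated hab p, hF, ?_, hsc, ?_, ?_⟩, ?_⟩
  · -- subsystem
    rintro P φ ⟨hP, g, hg, h⟩
    have : φ = conjHom P g := by
      ext x
      rw [h x]; rfl
    rw [this]
    exact F.conj_mem (hP.trans hTS) (hTS hg)
  · -- invariance
    intro P hPT φ hφ α hα
    have hle : (P.subgroupOf T).map (T.subtype.comp α.toMonoidHom) ≤ T := by
      rintro _ ⟨x, -, rfl⟩
      exact (α x).2
    refine ⟨((P.subgroupOf T).map (T.subtype.comp α.toMonoidHom)).subtype, subtype_mem _ hle, ?_⟩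
    intro x hφx hαx
    have h1 : (⟨φ x, hφx⟩ : T) = ⟨x, hPT x.2⟩ := by
      apply Subtype.ext
      exact inner_apply hab hφ x
    rw [h1]
    rfl
  · -- Frattini condition
    intro P hPT φ hφ
    obtain ⟨α, hα, hαφ⟩ := hext P hPT φ hφ
    refine ⟨α, hα, P.subtype, subtype_mem _ hPT, ?_⟩
    intro x hx
    exact hαφ x
  · -- extension condition
    intro α hα
    have hα1 : α = 1 := inner_autGroup_eq_one hab T α hα
    refine ⟨1, Subgroup.one_mem _, ?_, ?_⟩
    · intro x
      rw [hα1]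
      rfl
    · intro c hc
      simp


/-! ### Extending maps to automorphisms of an abelian `S` -/

/-- extension to `S` in the abelian case -/
theorem exists_ext_of_receptive (F : FusionSystem S) (hab : ∀ x ∈ S, ∀ y ∈ S, x * y = y * x)
    {P Q : Subgroup Ω} (hQr : F.IsReceptive Q) {φ : P →* Ω} (hφ : φ ∈ F.Hom P) (hr : φ.range = Q) :
    ∃ a : Ω → Ω, IsMapOn F S a ∧ ∀ x : P, a x = φ x := by
  obtain ⟨ψ, hψ, hψP⟩ := hQr.2 P φ hφ hr
  have hPS : P ≤ S := hom_le F hφ
  have hSle : S ≤ extender S P φ := by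
    intro g hg
    apply Cfsg.Agent.Lib.Helper84_Fusion.centralizerIn_le_extender S P φ
    have hgc : g ∈ Subgroup.centralizer (P : Set Ω) := by
      rw [Subgroup.mem_centralizer_iff]
      intro y hy
      exact hab y (hPS hy) g hg
    exact ⟨hg, hgc⟩
  refine ⟨extHom ψ, (isMapOn_extHom F hψ).mono hSle, ?_⟩
  intro x
  rw [extHom_apply ψ (hSle (hPS x.2))]
  exact hψP x x.2 _

theorem exists_aut_of_isMapOn (F : FusionSystem S) [Finite S] {a : Ω → Ω} (ha : IsMapOn F S a) :
    ∃ α ∈ F.autGroup S, ∀ x : S, ((α x : S) : Ω) = a x := by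
  obtain ⟨φ, hφ, hφa⟩ := ha
  have hφinj := F.injective_of_mem hφ
  have hφS : ∀ x : S, φ x ∈ S := hom_mem F hφ
  have hbij : Function.Bijective (φ.codRestrict S hφS) := by
    rw [← Finite.injective_iff_bijective]
    intro x y hxy
    exact hφinj (congrArg Subtype.val hxy)
  let α : MulAut S := MulEquiv.ofBijective (φ.codRestrict S hφS) hbij
  have hα : ∀ x : S, ((α x : S) : Ω) = φ x := fun x => rfl
  refine ⟨α, ?_, fun x => by rw [hα, hφa]⟩
  rw [mem_autGroup_iff F le_rfl]
  exact ⟨φ, hφ, fun x => by rw [extFun_coe, hα]⟩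

/-- In a saturated system over an abelian `S`, every map extends to an element of `Aut_F(S)`. -/
theorem exists_aut_ext (F : FusionSystem S) [Finite S] (p : ℕ) (hF : F.IsSaturated p)
    (hab : ∀ x ∈ S, ∀ y ∈ S, x * y = y * x) (P : Subgroup Ω) (hPS : P ≤ S) (φ : P →* Ω)
    (hφ : φ ∈ F.Hom P) :
    ∃ α ∈ F.autGroup S, ∀ x : P, φ x = ((α ⟨x, hPS x.2⟩ : S) : Ω) := by
  have hP'S : φ.range ≤ S := by
    rintro _ ⟨x, rfl⟩
    exact hom_mem F hφ x
  obtain ⟨Q, ⟨θ, hθ, hθr⟩, -, hQr⟩ := hF φ.range hP'S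
  have hφr : ∀ x : P, φ x ∈ φ.range := fun x => ⟨x, rfl⟩
  have hk := F.comp_mem hφ hθ hφr
  have hkr : (θ.comp (φ.codRestrict φ.range hφr)).range = Q := by
    rw [← hθr]
    ext y
    constructor
    · rintro ⟨x, rfl⟩
      exact ⟨_, rfl⟩
    · rintro ⟨⟨_, x, rfl⟩, rfl⟩
      exact ⟨x, rfl⟩
  obtain ⟨a₁, ha₁, ha₁P⟩ := exists_ext_of_receptive F hab hQr hk hkr
  obtain ⟨a₂, ha₂, ha₂P⟩ := exists_ext_of_receptive F hab hQr hθ hθr
  obtain ⟨α₁, hα₁, hα₁a⟩ := exists_aut_of_isMapOn F ha₁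
  obtain ⟨α₂, hα₂, hα₂a⟩ := exists_aut_of_isMapOn F ha₂
  refine ⟨α₂⁻¹ * α₁, (F.autGroup S).mul_mem ((F.autGroup S).inv_mem hα₂) hα₁, ?_⟩
  intro x
  have h1 : ((α₁ ⟨x, hPS x.2⟩ : S) : Ω) = θ ⟨φ x, hφr x⟩ := by
    rw [hα₁a]
    exact ha₁P x
  have h2 : ((α₂ ⟨φ x, hP'S (hφr x)⟩ : S) : Ω) = θ ⟨φ x, hφr x⟩ := by
    rw [hα₂a]
    exact ha₂P ⟨φ x, hφr x⟩
  have h3 : α₁ ⟨x, hPS x.2⟩ = α₂ ⟨φ x, hP'S (hφr x)⟩ := Subtype.ext (h1.trans h2.symm)
  rw [MulAut.mul_apply, h3, MulAut.inv_apply_self]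

/-- Let F be a saturated fusion system over a finite abelian p-group S. Then F is simple if and only if S has order p and F is the inner system of S (whose only maps are the inclusions, S being abelian). -/
theorem result {Ω : Type*} [Group Ω] {S : Subgroup Ω} [Finite S] (p : ℕ) [Fact p.Prime] (hS : IsPGroup p S) (F : Cfsg.FusionSystem S) (hF : F.IsSaturated p) (hab : ∀ x ∈ S, ∀ y ∈ S, x * y = y * x) : F.IsSimple p ↔ (Nat.card S = p ∧ ∀ P : Subgroup Ω, F.Hom P = (Cfsg.innerFusionSystem S).Hom P) := by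
  have hp : p.Prime := Fact.out
  constructor
  · rintro ⟨_, hS1, hsimple⟩
    have hscS : F.StronglyClosed S := ⟨le_rfl, fun R _ φ hφ x => hom_mem F hφ x⟩
    have hnorm := inner_isNormalIn F p hF hab hscS
      (fun P hPS φ hφ => exists_aut_ext F p hF hab P hPS φ hφ)
    have hinner : ∀ P : Subgroup Ω, F.Hom P = (innerFusionSystem S).Hom P := by
      rcases hsimple S _ hnorm with h | ⟨_, h⟩
      · exact absurd h hS1
      · intro P
        exact (h P).symm
    refine ⟨?_, hinner⟩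
    -- a subgroup of order `p`
    have hSnt : Nontrivial S := by
      rw [Subgroup.nontrivial_iff_ne_bot]; exact hS1
    obtain ⟨n, hn⟩ := IsPGroup.iff_card.mp hS
    have hn0 : n ≠ 0 := by
      rintro rfl
      rw [pow_zero] at hn
      have := (Finite.one_lt_card_iff_nontrivial (α := S)).mpr hSnt
      omega
    have hdvd : p ∣ Nat.card S := by
      rw [hn]; exact dvd_pow_self p hn0
    obtain ⟨t, ht⟩ := exists_prime_orderOf_dvd_card' (G := S) p hdvd
    have htΩ : orderOf (t : Ω) = p := by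
      rw [Subgroup.orderOf_coe]; exact ht
    have hTS : Subgroup.zpowers (t : Ω) ≤ S := by
      rw [Subgroup.zpowers_le]; exact t.2
    have hTcard : Nat.card (Subgroup.zpowers (t : Ω)) = p := by
      rw [Nat.card_zpowers]; exact htΩ
    have habT : ∀ x ∈ Subgroup.zpowers (t : Ω), ∀ y ∈ Subgroup.zpowers (t : Ω), x * y = y * x :=
      fun x hx y hy => hab x (hTS hx) y (hTS hy)
    have hscT : F.StronglyClosed (Subgroup.zpowers (t : Ω)) := by
      refine ⟨hTS, fun R hRT φ hφ x => ?_⟩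
      rw [hinner R] at hφ
      rw [inner_apply hab hφ x]
      exact hRT x.2
    have hnormT := inner_isNormalIn F p hF habT hscT (fun P hPT φ hφ => by
      refine ⟨1, Subgroup.one_mem _, fun x => ?_⟩
      rw [hinner P] at hφ
      rw [inner_apply hab hφ x]
      rfl)
    rcases hsimple _ _ hnormT with h | ⟨h, _⟩
    · exfalso
      rw [h] at hTcard
      rw [Subgroup.card_bot] at hTcard
      exact hp.one_lt.ne hTcard
    · rw [← h]
      exact hTcard
  · rintro ⟨hcard, hinner⟩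
    refine ⟨hF, ?_, ?_⟩
    · intro h
      rw [h, Subgroup.card_bot] at hcard
      exact hp.one_lt.ne hcard
    · intro T E hE
      have hsubE : E.IsSubsystemOf F := hE.1.2.2.1
      have hTS : T ≤ S := hE.1.2.2.2.1.1
      have hdvd : Nat.card T ∣ Nat.card S := Subgroup.card_dvd_of_le hTS
      rw [hcard] at hdvd
      rcases (Nat.dvd_prime hp).mp hdvd with h1 | h1
      · left
        exact Subgroup.card_eq_one.mp h1
      · right
        have hTeq : T = S := by
          apply Subgroup.eq_of_le_of_card_ge hTS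
          rw [h1, hcard]
        refine ⟨hTeq, ?_⟩
        subst hTeq
        intro P
        apply Set.Subset.antisymm (hsubE P)
        rw [hinner P]
        exact inner_hom_subset E P

end Cfsg.Agent.S5337
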