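import Cfsg.Statements.S5148
import Cfsg.Agent.Lib.Helper87_Hyperfocal
import Cfsg.Agent.S5132
import Cfsg.Agent.S5144
import Cfsg.Agent.S5256
import Cfsg.Agent.S5337

set_option autoImplicit false
open Cfsg

namespace Cfsg.Agent.S5148

open Cfsg.FusionSystem Cfsg.Agent.Lib Cfsg.Agent.Lib.Helper87_Alperin Cfsg.Agent.Lib.Helper87_Alperin2
  Cfsg.Agent.Lib.Helper87_Hyperfocal

/-- A subgroup central in a fusion system is strongly closed in it. -/
theorem stronglyClosed_of_isCentral {Ω : Type*} [Group Ω] {S : Subgroup Ω} {F : Cfsg.FusionSystem S}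
    {Z : Subgroup Ω} (hZ : F.IsCentral Z) : F.StronglyClosed Z := by
  refine ⟨hZ.1, fun R hRZ φ hφ x => ?_⟩
  obtain ⟨ψ, -, hext, hfix⟩ := hZ.2 R φ hφ
  have h1 := hfix ⟨x, hRZ x.2⟩
  have h2 : (Subgroup.inclusion (le_sup_right : Z ≤ R ⊔ Z) ⟨(x : Ω), hRZ x.2⟩) =
      Subgroup.inclusion (le_sup_left : R ≤ R ⊔ Z) x := rfl
  rw [h2, hext] at h1
  rw [h1]
  exact hRZ x.2

/-- A quasisimple fusion system over a finite p-group S (saturated, equal to its p-residual subsystem, with simple — in particular nontrivial — factor system modulo its centre) has S nonabelian. -/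
theorem result {Ω : Type*} [Group Ω] {S : Subgroup Ω} [Finite S] (p : ℕ) [Fact p.Prime] (hS : IsPGroup p S) (F : Cfsg.FusionSystem S) (hq : F.Quasisimple p) : ¬ IsMulCommutative S := by
  classical
  intro hab
  obtain ⟨hF, hhyp, hsimple⟩ := hq
  have hcomm : ∀ a b : S, a * b = b * a := isMulCommutative_iff.1 hab
  have hZc : F.IsCentral F.center := Cfsg.Agent.S5144.result F
  have hZsc : F.StronglyClosed F.center := stronglyClosed_of_isCentral hZc
  have hnorm : ((F.center).subgroupOf S).Normal := by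
    constructor
    intro n hn g
    rw [hcomm g n, mul_inv_cancel_right]
    exact hn
  obtain ⟨E, hE⟩ := Cfsg.Agent.S5132.result p hS F F.center hZsc
  have hEs : E.IsSimple p := hsimple E hE
  -- the quotient group is an abelian `p`-group
  have hTp : IsPGroup p (⊤ : Subgroup (↥S ⧸ (F.center).subgroupOf S)) :=
    (hS.to_quotient ((F.center).subgroupOf S)).to_subgroup ⊤
  have hTab : ∀ x ∈ (⊤ : Subgroup (↥S ⧸ (F.center).subgroupOf S)),
      ∀ y ∈ (⊤ : Subgroup (↥S ⧸ (F.center).subgroupOf S)), x * y = y * x := by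
    intro x _ y _
    obtain ⟨a, rfl⟩ := QuotientGroup.mk_surjective x
    obtain ⟨b, rfl⟩ := QuotientGroup.mk_surjective y
    rw [← QuotientGroup.mk_mul, ← QuotientGroup.mk_mul, hcomm]
  obtain ⟨hcard, hinner⟩ := (Cfsg.Agent.S5337.result p hTp E hEs.1 hTab).1 hEs
  -- the hyperfocal subgroup of `E` is trivial
  have hhypE : E.hyperfocalSubgroup p ≤ ⊥ := by
    apply hyperfocal_le
    intro P' hP' α hα _ x
    have h1 := (mem_autGroup_iff' E hP' α).1 hα
    rw [hinner] at h1
    obtain ⟨-, g, hg, hgx⟩ := h1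
    have h2 : ((α x : P') : ↥S ⧸ (F.center).subgroupOf S) = x := by
      have := hgx x
      rw [hTab g hg x (hP' x.2), mul_inv_cancel_right] at this
      exact this
    rw [h2, inv_mul_cancel]
    exact Subgroup.one_mem _
  -- but it is the image of `hyp(F) = S`
  have h256 := Cfsg.Agent.S5256.result p hS F hF F.center hZsc
    (QuotientGroup.mk' ((F.center).subgroupOf S)) E hE
  have htop : E.hyperfocalSubgroup p = ⊤ := by
    rw [h256, hhyp]
    rw [eq_top_iff]
    intro y _
    obtain ⟨a, rfl⟩ := QuotientGroup.mk_surjective y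
    exact ⟨a, Subgroup.mem_subgroupOf.2 a.2, rfl⟩
  rw [htop] at hhypE
  have hbot : (⊤ : Subgroup (↥S ⧸ (F.center).subgroupOf S)) = ⊥ := le_antisymm hhypE bot_le
  rw [hbot, Subgroup.card_bot] at hcard
  exact (Fact.out : p.Prime).one_lt.ne hcard

end Cfsg.Agent.S5148
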