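import Cfsg.Statements.S5153
import Cfsg.Agent.Lib.Helper84_FusionRS

set_option autoImplicit false
open Cfsg

namespace Cfsg.Agent.S5153

open Cfsg.FusionSystem Cfsg.Agent.Lib.Helper85_Fusion

/-- One step: a subgroup of a strongly closed `T` that is fully normalized in the saturated system `F`
is fully normalized in every subsystem of `F` over `T`. -/
theorem isFullyNormalized_of_subsystem {Ω : Type*} [Group Ω] {S : Subgroup Ω} [Finite S] {p : ℕ}
    [Fact p.Prime] (hS : IsPGroup p S) (F : FusionSystem S) (hF : F.IsSaturated p) {T : Subgroup Ω}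
    (E : FusionSystem T) (hEF : E.IsSubsystemOf F) (hT : F.StronglyClosed T) {P : Subgroup Ω}
    (hPT : P ≤ T) (hP : F.IsFullyNormalized P) : E.IsFullyNormalized P := by
  refine ⟨hPT, fun Q hQ => ?_⟩
  have hQF : F.IsConj P Q := by
    obtain ⟨φ, hφ, hr⟩ := hQ
    exact ⟨φ, hEF P hφ, hr⟩
  have hPa := Cfsg.Agent.Lib.Helper84_FusionRS.IsSaturated.isFullyAutomized hS hF hP
  have hPr := Cfsg.Agent.Lib.Helper84_FusionRS.IsSaturated.isReceptive_of_isFullyNormalized hS hF hP
  obtain ⟨φ, hφ, hφN, -⟩ := Cfsg.Agent.Lib.Helper84_FusionSat.exists_normalizer_map hS F hPa hPr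
    (isConj_symm F hQF)
  have hle : normalizerIn T Q ≤ normalizerIn S Q := inf_le_inf_right _ hT.1
  have hfin : Finite (normalizerIn T P) :=
    Finite.of_injective _ (Subgroup.inclusion_injective ((inf_le_left : normalizerIn T P ≤ T).trans hT.1))
  -- the restriction of `φ` to `N_T(Q)` takes values in `N_T(P)`
  have hres := restrict_mem F hle hφ
  have hval : ∀ x : normalizerIn T Q, φ (Subgroup.inclusion hle x) ∈ normalizerIn T P := by
    intro x
    refine ⟨?_, (hφN _).2⟩
    exact hT.2 (normalizerIn T Q) inf_le_left _ hres x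
  let f : normalizerIn T Q → normalizerIn T P := fun x => ⟨φ (Subgroup.inclusion hle x), hval x⟩
  have hf : Function.Injective f := by
    intro x y hxy
    have h1 : φ (Subgroup.inclusion hle x) = φ (Subgroup.inclusion hle y) := congrArg Subtype.val hxy
    have h2 := F.injective_of_mem hφ h1
    exact Subgroup.inclusion_injective hle h2
  exact Nat.card_le_card_of_injective f hf

/-- Induction along the subnormal chain. -/
theorem aux {Ω : Type*} [Group Ω] {T S : Subgroup Ω} {E : FusionSystem T} {F : FusionSystem S} {p : ℕ}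
    (h : E.IsSubnormalIn F p) : Fact p.Prime → Finite S → IsPGroup p S → F.IsSaturated p →
      T ≤ S ∧ ∀ P : Subgroup Ω, P ≤ T → F.IsFullyNormalized P → E.IsFullyNormalized P := by
  induction h with
  | refl F p =>
    intro _ _ _ _
    exact ⟨le_rfl, fun P _ hP => hP⟩
  | step hED hDF ih =>
    rename_i T U S E D F p
    intro hp hfin hS hF
    obtain ⟨⟨hDsat, -, hDsub, hUcl, -⟩, -⟩ := hDF
    have hUS : U ≤ S := hUcl.1
    have hfinU : Finite U := Finite.of_injective _ (Subgroup.inclusion_injective hUS)
    have hUp : IsPGroup p U := hS.to_le hUS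
    obtain ⟨hTU, ih2⟩ := ih hp hfinU hUp hDsat
    refine ⟨hTU.trans hUS, fun P hPT hP => ?_⟩
    exact ih2 P hPT (isFullyNormalized_of_subsystem hS F hF D hDsub hUcl (hPT.trans hTU) hP)

/-- Let F be a saturated fusion system over a finite p-group S and E a subnormal subsystem of F over T. Then every subgroup of T that is fully normalized in F is fully normalized in E. -/
theorem result {Ω : Type*} [Group Ω] {S : Subgroup Ω} [Finite S] (p : ℕ) [Fact p.Prime] (hS : IsPGroup p S) (F : Cfsg.FusionSystem S) (hF : F.IsSaturated p) {T : Subgroup Ω} (E : Cfsg.FusionSystem T) (hE : E.IsSubnormalIn F p) (P : Subgroup Ω) (hPT : P ≤ T) (hP : F.IsFullyNormalized P) : E.IsFullyNormalized P :=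
  (aux hE inferInstance inferInstance hS hF).2 P hPT hP

end Cfsg.Agent.S5153
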