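import Cfsg.Statements.S5156
import Cfsg.Agent.Lib.Helper85_TRS3
import Cfsg.Agent.Lib.Helper85_TRS4
import Cfsg.Agent.Lib.Helper69_PComplement
import Cfsg.Agent.S5090
import Cfsg.Agent.S5140

set_option autoImplicit false
set_option linter.style.haveILetI false
universe u
open Cfsg

namespace Cfsg.Agent.S5156

open Cfsg.FusionSystem Cfsg.Agent.Lib

/-- The index of the normal closure of a Sylow `p`-subgroup is prime to `p`. -/
theorem coprime_index_normalClosure {G : Type*} [Group G] [Finite G] {p : ℕ} [hp : Fact p.Prime]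
    (R : Sylow p G) (A : Subgroup G) (hR : (R : Subgroup G) = A) :
    ((Subgroup.normalClosure (A : Set G)).index).Coprime p := by
  have h2 : ¬ p ∣ (Subgroup.normalClosure (A : Set G)).index := by
    intro hdvd
    apply R.not_dvd_index
    have hle : (R : Subgroup G) ≤ Subgroup.normalClosure (A : Set G) := by
      rw [hR]
      exact Subgroup.subset_normalClosure
    exact hdvd.trans (Subgroup.index_dvd_of_le hle)
  exact ((Nat.Prime.coprime_iff_not_dvd hp.out).2 h2).symm

/-- The two residual models of a model of `F`. -/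
theorem exists_models {Ω : Type u} [Group Ω] {S : Subgroup Ω} [Finite S] {p : ℕ} [Fact p.Prime]
    (hS : IsPGroup p S) {F : FusionSystem S} (hF : F.IsSaturated p) {E : FusionSystem S}
    (hE : F.IsPPrimeResidual p E) {D : FusionSystem (E.hyperfocalSubgroup p)} (hD : E.IsPResidual p D)
    {G : Type u} [Group G] {ι : S →* G} (hM : F.IsModel p G ι) :
    ∃ ιK : ↥(E.hyperfocalSubgroup p) →* ↥(pResidual p ↥(Subgroup.normalClosure (ι.range : Set G))),
      D.IsModel p ↥(pResidual p ↥(Subgroup.normalClosure (ι.range : Set G))) ιK := by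
  have hFF : F.IsWeaklyNormalIn F p := ⟨hF, hF, Helper85_TRS3.isInvariantIn_self hS hF⟩
  have hEn : E.IsNormalIn F p := Cfsg.Agent.S5141.result p hS F hF F hFF E hE
  have hM₁ := Helper85_TRS4.isModel_pPrimeResidual hS hF hM hE hEn
  exact Helper85_TRS4.isModel_pResidual hS hM₁ hD

/-- A terminating residual series gives a constrained system with `p`-soluble models. -/
theorem forward {Ω : Type u} [Group Ω] {S : Subgroup Ω} {F : FusionSystem S} {p : ℕ}
    (h : F.HasTerminatingResidualSeries p) :
    ∀ [Finite S] [Fact p.Prime], IsPGroup p S → F.IsSaturated p →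
      F.IsConstrained p ∧ ∀ (G : Type u) [Group G] (ι : S →* G), F.IsModel p G ι →
        Cfsg.IsPSolvable p G := by
  induction h with
  | trivial F p hS0 =>
    intro _ hp hS hF
    refine ⟨⟨hF, ⊥, Helper85_Fusion.isNormal_bot F, bot_le, fun Q _ x hx => ?_⟩, fun G _ ι hM => ?_⟩
    · have h1 : x ∈ (⊥ : Subgroup Ω) := hS0.le hx.1
      rw [Subgroup.mem_bot.1 h1]
      exact Q.one_mem
    · obtain ⟨hfin, hreal, ⟨R, hR⟩, -⟩ := hM
      have hbot : ι.range = ⊥ := by
        rw [Subgroup.eq_bot_iff_forall]
        rintro _ ⟨s, rfl⟩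
        have h1 : (s : Ω) ∈ (⊥ : Subgroup Ω) := hS0.le s.2
        have h2 : s = 1 := Subtype.ext (Subgroup.mem_bot.1 h1)
        rw [h2, map_one]
      have h3 := R.not_dvd_index
      rw [hR, hbot, Subgroup.index_bot] at h3
      exact Helper85_TRS1.isPSolvable_of_card
        (Or.inr ((Nat.Prime.coprime_iff_not_dvd hp.out).2 h3).symm)
  | step F E p D hE hD _ ih =>
    intro _ hp hS hF
    have hTS : E.hyperfocalSubgroup p ≤ _ := Helper87_Hyperfocal.hyperfocal_le_base E p
    haveI : Finite ↥(E.hyperfocalSubgroup p) := Helper84_FusionRS.finite_of_le_S hTS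
    obtain ⟨hDc, hDm⟩ := ih (hS.to_le hTS) hD.1
    have hEc : E.IsConstrained p := Helper85_TRS3.isConstrained_of_pPower _ hS E hE.1 rfl D hD.1 hD.2 hDc
    have hFc : F.IsConstrained p := Helper85_TRS3.isConstrained_of_pPrimeResidual hS F hF E hE hEc
    refine ⟨hFc, fun G _ ι hM => ?_⟩
    obtain ⟨ιK, hMK⟩ := exists_models hS hF hE hD hM
    have hKsol := hDm _ ιK hMK
    obtain ⟨hfin, -, ⟨R, hR⟩, -⟩ := hM
    haveI hKn : (pResidual p ↥(Subgroup.normalClosure (ι.range : Set G))).Normal :=
      Helper34_Sylow.pResidual_normal p _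
    have hq : IsPGroup p (↥(Subgroup.normalClosure (ι.range : Set G)) ⧸
        pResidual p ↥(Subgroup.normalClosure (ι.range : Set G))) :=
      Helper34_Sylow.isPGroup_quotient_of_pprime_mem hp.out _ (fun g hg => Subgroup.subset_closure hg)
    have hH₁sol : Cfsg.IsPSolvable p ↥(Subgroup.normalClosure (ι.range : Set G)) :=
      Helper85_TRS1.isPSolvable_ext p _ _ (pResidual p ↥(Subgroup.normalClosure (ι.range : Set G))) rfl hKsol
        (Helper85_TRS1.isPSolvable_of_card (Or.inl hq.exists_card_eq))
    refine Helper85_TRS1.isPSolvable_ext p _ G (Subgroup.normalClosure (ι.range : Set G)) rfl hH₁sol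
      (Helper85_TRS1.isPSolvable_of_card (Or.inr ?_))
    rw [← Subgroup.index_eq_card]
    exact coprime_index_normalClosure R _ hR

/-- A saturated system with a `p`-soluble model has a terminating residual series. -/
theorem backward {Ω : Type u} [Group Ω] {p : ℕ} [hp : Fact p.Prime] :
    ∀ (n : ℕ) {S : Subgroup Ω} [Finite S] (F : FusionSystem S), IsPGroup p S → F.IsSaturated p →
      ∀ (G : Type u) [Group G] (ι : S →* G), F.IsModel p G ι → Cfsg.IsPSolvable p G →
      Nat.card G = n → F.HasTerminatingResidualSeries p := by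
  intro n
  induction n using Nat.strong_induction_on with
  | _ n ih =>
  intro S _ F hS hF G _ ι hM hsol hn
  by_cases hS0 : S = ⊥
  · exact .trivial F p hS0
  · obtain ⟨E, hE⟩ := Cfsg.Agent.S5140.result p hS F hF
    have hTS : E.hyperfocalSubgroup p ≤ S := Helper87_Hyperfocal.hyperfocal_le_base E p
    haveI : Finite ↥(E.hyperfocalSubgroup p) := Helper84_FusionRS.finite_of_le_S hTS
    obtain ⟨D, hDs, hDi⟩ := Helper85_PIdx6.exists_pPower _ hS E hE.1 rfl (E.hyperfocalSubgroup p) hTS le_rfl
    have hD : E.IsPResidual p D := ⟨hDs, hDi⟩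
    obtain ⟨ιK, hMK⟩ := exists_models hS hF hE hD hM
    obtain ⟨hfin, hreal, ⟨R, hR⟩, -⟩ := hM
    have hKsol : Cfsg.IsPSolvable p ↥(pResidual p ↥(Subgroup.normalClosure (ι.range : Set G))) :=
      Helper69_PComplement.isPSolvable_subgroup p
        (Helper69_PComplement.isPSolvable_subgroup p hsol _) _
    haveI : Nontrivial G := by
      obtain ⟨s, hs, hs1⟩ : ∃ s ∈ S, s ≠ 1 := by
        by_contra hne
        push Not at hne
        apply hS0
        rw [Subgroup.eq_bot_iff_forall]
        exact hne
      refine ⟨ι ⟨s, hs⟩, 1, fun h => hs1 ?_⟩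
      have h1 : ι ⟨s, hs⟩ = ι 1 := by rw [h, map_one]
      exact congrArg Subtype.val (hreal.1 h1)
    have hcard : Nat.card ↥(pResidual p ↥(Subgroup.normalClosure (ι.range : Set G))) < n := by
      rw [← hn]
      exact Helper85_TRS1.card_pResidual_normalClosure_lt p hsol ι.range (hR ▸ R.isPGroup')
    exact .step F E p D hE hD (ih _ hcard D (hS.to_le hTS) hDs _ ιK hMK hKsol rfl)

/-- A saturated fusion system over a finite p-group has a terminating alternating chain of p'-residual and p-residual subsystems (the chain reaches the trivial system — the notion of solvability adapted to fusion systems of p-solvable groups) if and only if it is constrained and its models are p-solvable (a model is a finite group realizing the system on a Sylow p-subgroup with self-centralizing largest normal p-subgroup; it exists and is unique up to isomorphism for constrained systems). -/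
theorem result {Ω : Type u} [Group Ω] {S : Subgroup Ω} [Finite S] (p : ℕ) [Fact p.Prime] (hS : IsPGroup p S) (F : Cfsg.FusionSystem S) (hF : F.IsSaturated p) : F.HasTerminatingResidualSeries p ↔ (F.IsConstrained p ∧ ∀ (G : Type u) [Group G] (ι : S →* G), F.IsModel p G ι → Cfsg.IsPSolvable p G) := by
  constructor
  · intro h
    exact forward h hS hF
  · rintro ⟨hFc, hmod⟩
    obtain ⟨G, _, ι, hM⟩ := Cfsg.Agent.S5090.result p hS F hFc
    exact backward _ F hS hF G ι hM (hmod G ι hM) rfl

end Cfsg.Agent.S5156
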