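-- Statement S5226: normal subgroups of a saturated fusion system via weakly closed central series.
import Cfsg.Statements.S5226
import Cfsg.Agent.Lib.Helper87_Normal

set_option autoImplicit false
open Cfsg

namespace Cfsg.Agent.S5226

open Cfsg.FusionSystem Cfsg.Agent.Lib Cfsg.Agent.Lib.Helper87_Alperin Cfsg.Agent.Lib.Helper87_Alperin2
  Cfsg.Agent.Lib.Helper87_Normal
open scoped commutatorElement

/-- The forward direction: a subgroup normal in the system is strongly closed and its upper central series is a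
central series of weakly closed subgroups. No saturation is needed. -/
theorem forward {Ω : Type*} [Group Ω] {S : Subgroup Ω} [Finite S] (p : ℕ) [Fact p.Prime]
    (hS : IsPGroup p S) (F : Cfsg.FusionSystem S) (Q : Subgroup Ω) (hN : F.IsNormal Q) :
    F.StronglyClosed Q ∧ ∃ (n : ℕ) (C : Fin (n + 1) → Subgroup Ω), C 0 = ⊥ ∧ C (Fin.last n) = Q ∧
      Monotone C ∧ (∀ i : Fin n, ⁅C i.succ, Q⁆ ≤ C i.castSucc) ∧
      ∀ i : Fin n, F.WeaklyClosed (C i.castSucc) := by
  classical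
  have hQS : Q ≤ S := hN.1
  have hsc : F.StronglyClosed Q := by
    refine ⟨hQS, fun R hRQ φ hφ x => ?_⟩
    obtain ⟨ψ, hψ, hext, himg⟩ := hN.2 R φ hφ
    rw [← hext x]
    exact Helper85_Fusion.apply_mem_of_map_eq ψ himg _ (hRQ x.2) _
  have hfinQ : Finite Q := Finite.of_injective (Subgroup.inclusion hQS) (Subgroup.inclusion_injective hQS)
  have hQp : IsPGroup p Q := hS.to_le hQS
  have : Group.IsNilpotent Q := hQp.isNilpotent
  -- every term of the upper central series is weakly closed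
  have hwc : ∀ k : ℕ, F.WeaklyClosed ((Subgroup.upperCentralSeries Q k).map Q.subtype) := by
    intro k
    have hle : (Subgroup.upperCentralSeries Q k).map Q.subtype ≤ Q := by
      rintro _ ⟨y, -, rfl⟩
      exact y.2
    refine ⟨hle.trans hQS, fun φ hφ => ?_⟩
    obtain ⟨ψ, hψ, hext, himg⟩ := hN.2 _ φ hφ
    have hψinj : Function.Injective ψ := F.injective_of_mem hψ
    -- the automorphism of `Q` induced by `ψ`
    have hψQ : ∀ y : Q, ψ ⟨y, (le_sup_right : Q ≤ _ ⊔ Q) y.2⟩ ∈ Q := fun y =>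
      Helper85_Fusion.apply_mem_of_map_eq ψ himg _ y.2 _
    let β₀ : Q →* Q :=
      { toFun := fun y => ⟨ψ ⟨y, (le_sup_right : Q ≤ _ ⊔ Q) y.2⟩, hψQ y⟩
        map_one' := by
          apply Subtype.ext
          exact ψ.map_one
        map_mul' := by
          intro a b
          apply Subtype.ext
          exact ψ.map_mul ⟨a, _⟩ ⟨b, _⟩ }
    have hβ₀inj : Function.Injective β₀ := by
      intro a b hab
      have h1 : ψ ⟨a, (le_sup_right : Q ≤ _ ⊔ Q) a.2⟩ = ψ ⟨b, (le_sup_right : Q ≤ _ ⊔ Q) b.2⟩ :=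
        congrArg Subtype.val hab
      have h2 := hψinj h1
      apply Subtype.ext
      exact Subtype.mk.inj h2
    have hβ₀bij : Function.Bijective β₀ := Finite.injective_iff_bijective.1 hβ₀inj
    let β : Q ≃* Q := MulEquiv.ofBijective β₀ hβ₀bij
    have hβ : ∀ y : Q, ((β y : Q) : Ω) = ψ ⟨y, (le_sup_right : Q ≤ _ ⊔ Q) y.2⟩ := fun y => rfl
    have hchar : (Subgroup.upperCentralSeries Q k).map β.toMonoidHom = Subgroup.upperCentralSeries Q k :=
      Subgroup.characteristic_iff_map_eq.1 inferInstance β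
    ext y
    constructor
    · rintro ⟨⟨x, hx⟩, rfl⟩
      obtain ⟨x', hx', rfl⟩ := hx
      have h1 : φ ⟨Q.subtype x', ⟨x', hx', rfl⟩⟩ = ((β x' : Q) : Ω) := by
        rw [← hext, hβ]
        rfl
      rw [h1]
      refine ⟨β x', ?_, rfl⟩
      rw [← hchar]
      exact ⟨x', hx', rfl⟩
    · rintro ⟨y', hy', rfl⟩
      rw [← hchar] at hy'
      obtain ⟨z', hz', rfl⟩ := hy'
      refine ⟨⟨Q.subtype z', ⟨z', hz', rfl⟩⟩, ?_⟩
      rw [← hext]
      rfl
  refine ⟨hsc, Group.nilpotencyClass Q,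
    fun i => (Subgroup.upperCentralSeries Q (i : ℕ)).map Q.subtype, ?_, ?_, ?_, ?_, ?_⟩
  · simp [Subgroup.upperCentralSeries_zero]
  · simp only [Fin.val_last, Subgroup.upperCentralSeries_nilpotencyClass]
    rw [← MonoidHom.range_eq_map, Subgroup.range_subtype]
  · intro i j hij
    exact Subgroup.map_mono (Subgroup.upperCentralSeries_mono Q hij)
  · intro i
    rw [Subgroup.commutator_le]
    rintro _ ⟨a, ha, rfl⟩ b hb
    simp only [Fin.val_succ] at ha
    have h1 := Subgroup.mem_upperCentralSeries_succ_iff.1 ha ⟨b, hb⟩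
    exact ⟨_, h1, rfl⟩
  · intro i
    exact hwc _

/-- The key step of the converse: every fully automized, receptive, centric and radical subgroup contains `Q`. -/
theorem le_of_frc {Ω : Type*} [Group Ω] {S : Subgroup Ω} [Finite S] (p : ℕ) [Fact p.Prime]
    (hS : IsPGroup p S) (F : Cfsg.FusionSystem S) (Q : Subgroup Ω) (hQ : F.StronglyClosed Q)
    (n : ℕ) (C : Fin (n + 1) → Subgroup Ω) (hC0 : C 0 = ⊥) (hCn : C (Fin.last n) = Q)
    (hmono : Monotone C) (hcomm : ∀ i : Fin n, ⁅C i.succ, Q⁆ ≤ C i.castSucc)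
    (hwc : ∀ i : Fin n, F.WeaklyClosed (C i.castSucc))
    (R : Subgroup Ω) (hRa : F.IsFullyAutomized p R) (hRc : F.IsCentric R) (hRrad : F.IsRadical p R) :
    Q ≤ R := by
  classical
  by_contra hQR
  have hRS : R ≤ S := hRa.1
  have hQS : Q ≤ S := hQ.1
  have hfinR : Finite R := Finite.of_injective (Subgroup.inclusion hRS) (Subgroup.inclusion_injective hRS)
  have hRp : IsPGroup p R := hS.to_le hRS
  -- the chain indexed by natural numbers
  let C' : ℕ → Subgroup Ω := fun j => if h : j < n + 1 then C ⟨j, h⟩ else Q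
  have hC'j : ∀ (j : ℕ) (h : j < n + 1), C' j = C ⟨j, h⟩ := fun j h => dif_pos h
  have hC'0 : C' 0 = ⊥ := by
    rw [hC'j 0 (Nat.succ_pos n)]
    exact hC0
  have hC'n : C' n = Q := by
    rw [hC'j n (Nat.lt_succ_self n)]
    exact hCn
  have hC'comm : ∀ j < n, ⁅C' (j + 1), Q⁆ ≤ C' j := by
    intro j hj
    rw [hC'j (j + 1) (by omega), hC'j j (by omega)]
    exact hcomm ⟨j, hj⟩
  have hC'wc : ∀ j < n, F.WeaklyClosed (C' j) := by
    intro j hj
    rw [hC'j j (by omega)]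
    exact hwc ⟨j, hj⟩
  have hC'Q : ∀ j ≤ n, C' j ≤ Q := by
    intro j hj
    rw [hC'j j (by omega), ← hCn]
    exact hmono (Fin.le_last _)
  have hC'conj : ∀ j ≤ n, ∀ g ∈ S, ∀ x ∈ C' j, g * x * g⁻¹ ∈ C' j := by
    intro j hj g hg x hx
    rcases Nat.lt_or_ge j n with hlt | hge
    · exact weaklyClosed_conj_mem (hC'wc j hlt) hg hx
    · obtain rfl : j = n := by omega
      rw [hC'n] at hx ⊢
      exact stronglyClosed_conj_mem hQ hg hx
  -- the minimal index with `C' i` not contained in `R`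
  have hex : ∃ j, ¬ C' j ≤ R := ⟨n, by rw [hC'n]; exact hQR⟩
  let i := Nat.find hex
  have hi : ¬ C' i ≤ R := Nat.find_spec hex
  have hmin : ∀ j < i, C' j ≤ R := fun j hj => not_not.1 (Nat.find_min hex hj)
  have hin : i ≤ n := Nat.find_min' hex (by rw [hC'n]; exact hQR)
  have hi0 : i ≠ 0 := by
    intro h0
    rw [h0, hC'0] at hi
    exact hi bot_le
  -- an element of `C' i` outside `R` normalizing `R`
  have hC'S : C' i ≤ S := (hC'Q i hin).trans hQS
  have hRnorm : R ≤ Subgroup.normalizer (C' i : Set Ω) :=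
    hRS.trans (le_normalizer_of_conj_mem (hC'conj i hin))
  obtain ⟨x, hxC, hxN, hxR⟩ := exists_mem_normalizer_not_mem hS hRS hC'S hRnorm hi
  have hxS : x ∈ S := hC'S hxC
  have hxQ : x ∈ Q := hC'Q i hin hxC
  -- the automorphism of `R` induced by `x`
  let β : MulAut R := Subgroup.normalizerMonoidHom R ⟨x, hxN⟩
  have hβ : ∀ y : R, ((β y : R) : Ω) = x * y * x⁻¹ := fun y => rfl
  have hβK : β ∈ F.autGroup R :=
    autInducedBy_le_autGroup F hRS ((mem_autInducedBy_iff S R β).2 ⟨x, hxS, hβ⟩)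
  -- the chain
  let D : ℕ → Subgroup Ω := fun j => if j < i then C' j else if j = i then R ⊓ Q else R
  have hDlt : ∀ j < i, D j = C' j := fun j hj => if_pos hj
  have hDi : D i = R ⊓ Q := by
    simp [D]
  have hDsucc : D (i + 1) = R := by
    simp [D]
  have hD0 : D 0 = ⊥ := by
    rw [hDlt 0 (Nat.pos_of_ne_zero hi0)]
    exact hC'0
  have hDm : R ≤ D (i + 1) := hDsucc.ge
  have hinv : ∀ j ≤ i + 1, ∀ α ∈ F.autGroup R, ∀ y : R, (y : Ω) ∈ D j → ((α y : R) : Ω) ∈ D j := by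
    intro j hj α hα y hy
    rcases Nat.lt_or_ge j i with hlt | hge
    · rw [hDlt j hlt] at hy ⊢
      exact weaklyClosed_aut_mem (hC'wc j (by omega)) hRS (hmin j hlt) hα y hy
    · rcases Nat.eq_or_lt_of_le hge with heq | hgt
      · rw [← heq, hDi] at hy ⊢
        exact ⟨(α y).2, stronglyClosed_aut_mem hQ hRS hα y hy.2⟩
      · obtain rfl : j = i + 1 := by omega
        rw [hDsucc]
        exact (α y).2
  have hstab : ∀ j < i + 1, ∀ y : R, (y : Ω) ∈ D (j + 1) →
      (y : Ω)⁻¹ * ((β y : R) : Ω) ∈ D j := by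
    intro j hj y hy
    rw [hβ]
    have hcommel : (y : Ω)⁻¹ * (x * (y : Ω) * x⁻¹) = ⁅(y : Ω)⁻¹, x⁆ := by
      rw [commutatorElement_def]
      group
    rcases Nat.lt_or_ge j i with hlt | hge
    · -- `j < i`
      rw [hDlt j hlt, hcommel]
      rcases Nat.lt_or_ge (j + 1) i with h1 | h1
      · rw [hDlt (j + 1) h1] at hy
        apply hC'comm j (by omega)
        exact Subgroup.commutator_mem_commutator ((C' (j + 1)).inv_mem hy) hxQ
      · have hji : j + 1 = i := by omega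
        rw [hji, hDi] at hy
        have h2 : ⁅x, (y : Ω)⁻¹⁆ ∈ C' j := by
          apply hC'comm j (by omega)
          rw [hji]
          exact Subgroup.commutator_mem_commutator hxC (Q.inv_mem hy.2)
        have h3 : ⁅(y : Ω)⁻¹, x⁆ = ⁅x, (y : Ω)⁻¹⁆⁻¹ := (commutatorElement_inv _ _).symm
        rw [h3]
        exact (C' j).inv_mem h2
    · -- `j = i`
      obtain rfl : j = i := by omega
      rw [hDi]
      refine ⟨?_, ?_⟩
      · exact R.mul_mem (R.inv_mem y.2) (β y).2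
      · have h1 : (y : Ω)⁻¹ * x * ((y : Ω)⁻¹)⁻¹ ∈ Q :=
          stronglyClosed_conj_mem hQ (S.inv_mem (hRS y.2)) hxQ
        have h2 : (y : Ω)⁻¹ * (x * (y : Ω) * x⁻¹) = ((y : Ω)⁻¹ * x * ((y : Ω)⁻¹)⁻¹) * x⁻¹ := by group
        rw [h2]
        exact Q.mul_mem h1 (Q.inv_mem hxQ)
  have hβcore : β ∈ (pCore p (F.autGroup R)).map (F.autGroup R).subtype :=
    mem_pCore_of_stabilizes_chain hRp (F.autGroup R) D (i + 1) hD0 hDm hinv β hβK hstab
  rw [hRrad.2] at hβcore
  obtain ⟨r, hr⟩ := hβcore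
  -- `r⁻¹ x` centralizes `R`
  have hcent : (r : Ω)⁻¹ * x ∈ centralizerIn S R := by
    refine ⟨S.mul_mem (S.inv_mem (hRS r.2)) hxS, ?_⟩
    intro y hy
    have h1 : ((MulAut.conj r) ⟨y, hy⟩ : R) = β ⟨y, hy⟩ := by rw [hr]
    have h2 : (r : Ω) * y * (r : Ω)⁻¹ = x * y * x⁻¹ := by
      have := congrArg Subtype.val h1
      simpa [MulAut.conj_apply, hβ] using this
    have h3 : y * ((r : Ω)⁻¹ * x) = (r : Ω)⁻¹ * ((r : Ω) * y * (r : Ω)⁻¹) * x := by group
    rw [h3, h2]
    group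
  have hcR : (r : Ω)⁻¹ * x ∈ R :=
    hRc.2 R ⟨R.subtype, subtype_mem F hRS, R.range_subtype⟩ hcent
  apply hxR
  have h4 : x = (r : Ω) * ((r : Ω)⁻¹ * x) := by group
  rw [h4]
  exact R.mul_mem r.2 hcR

/-- Let F be a saturated fusion system over a finite p-group S and Q a subgroup of S. Then Q is normal in F (F equals the normalizer system of Q) if and only if Q is strongly closed in F and admits a central series 1 = Q₀ ≤ Q₁ ≤ ⋯ ≤ Qₙ = Q ([Qᵢ₊₁, Q] ≤ Qᵢ) all of whose proper terms are weakly closed in F. -/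
theorem result {Ω : Type*} [Group Ω] {S : Subgroup Ω} [Finite S] (p : ℕ) [Fact p.Prime] (hS : IsPGroup p S) (F : Cfsg.FusionSystem S) (hF : F.IsSaturated p) (Q : Subgroup Ω) : F.IsNormal Q ↔ F.StronglyClosed Q ∧ ∃ (n : ℕ) (C : Fin (n + 1) → Subgroup Ω), C 0 = ⊥ ∧ C (Fin.last n) = Q ∧ Monotone C ∧ (∀ i : Fin n, ⁅C i.succ, Q⁆ ≤ C i.castSucc) ∧ ∀ i : Fin n, F.WeaklyClosed (C i.castSucc) := by
  constructor
  · exact forward p hS F Q
  · rintro ⟨hQ, n, C, hC0, hCn, hmono, hcomm, hwc⟩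
    apply isNormal_of_le_frc F hS hF hQ
    intro R hRa _ hRc hRrad
    exact le_of_frc p hS F Q hQ n C hC0 hCn hmono hcomm hwc R hRa hRc hRrad

end Cfsg.Agent.S5226
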