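import Cfsg.Statements.S5157
import Cfsg.Agent.Lib.Helper87_Factor2
import Cfsg.Agent.Lib.Helper85_Fusion
import Cfsg.Agent.Lib.Helper84_FusionNormal
import Cfsg.Agent.S5085
import Cfsg.Agent.S5128
import Cfsg.Agent.S5132
import Cfsg.Agent.S5133
import Cfsg.Agent.S5134
import Cfsg.Agent.S5226
import Mathlib

set_option autoImplicit false
open Cfsg

namespace Cfsg.Agent.S5157

open Cfsg.FusionSystem Cfsg.Agent.Lib Cfsg.Agent.Lib.Helper87_Alperin Cfsg.Agent.Lib.Helper87_Alperin2
  Cfsg.Agent.Lib.Helper87_Normal Cfsg.Agent.Lib.Helper87_ModT Cfsg.Agent.Lib.Helper87_Factor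
  Cfsg.Agent.Lib.Helper87_Factor2

universe u

variable {Ω : Type u} [Group Ω] {S : Subgroup Ω}

/-- A chain of strongly closed subgroups from `R` to `S` with abelian quotients. -/
def HasChain (F : FusionSystem S) (R : Subgroup Ω) : Prop :=
  ∃ (n : ℕ) (T : Fin (n + 1) → Subgroup Ω), T 0 = R ∧ T (Fin.last n) = S ∧ Monotone T ∧
    (∀ i, F.StronglyClosed (T i)) ∧ ∀ i : Fin n, ⁅T i.succ, T i.succ⁆ ≤ T (Fin.castSucc i)

theorem hasChain_self (F : FusionSystem S) (hSS : F.StronglyClosed S) : HasChain F S :=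
  ⟨0, fun _ => S, rfl, rfl, fun _ _ _ => le_rfl, fun _ => hSS, fun i => i.elim0⟩

theorem hasChain_cons (F : FusionSystem S) {R R' : Subgroup Ω} (hR : F.StronglyClosed R) (hRR' : R ≤ R')
    (hcomm : ⁅R', R'⁆ ≤ R) (h : HasChain F R') : HasChain F R := by
  obtain ⟨n, T, h0, hlast, hmono, hsc, hab⟩ := h
  refine ⟨n + 1, Fin.cons R T, rfl, ?_, ?_, ?_, ?_⟩
  · have : Fin.last (n + 1) = (Fin.last n).succ := rfl
    rw [this, Fin.cons_succ]
    exact hlast
  · intro i j hij
    induction i using Fin.cases with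
    | zero =>
      induction j using Fin.cases with
      | zero => exact le_rfl
      | succ j =>
        rw [Fin.cons_zero, Fin.cons_succ]
        calc R ≤ R' := hRR'
          _ = T 0 := h0.symm
          _ ≤ T j := hmono (Fin.zero_le j)
    | succ i =>
      induction j using Fin.cases with
      | zero => exact absurd hij (by simp)
      | succ j =>
        rw [Fin.cons_succ, Fin.cons_succ]
        exact hmono (Fin.succ_le_succ_iff.1 hij)
  · intro i
    induction i using Fin.cases with
    | zero => exact hR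
    | succ i => rw [Fin.cons_succ]; exact hsc i
  · intro i
    induction i using Fin.cases with
    | zero =>
      have h1 : (Fin.cons R T : Fin (n + 2) → Subgroup Ω) (0 : Fin (n + 1)).succ = T 0 := Fin.cons_succ _ _ _
      have h2 : (Fin.cons R T : Fin (n + 2) → Subgroup Ω) (Fin.castSucc (0 : Fin (n + 1))) = R := rfl
      rw [h1, h2, h0]
      exact hcomm
    | succ i =>
      have h1 : (Fin.cons R T : Fin (n + 2) → Subgroup Ω) i.succ.succ = T i.succ := Fin.cons_succ _ _ _
      have h2 : (Fin.cons R T : Fin (n + 2) → Subgroup Ω) (Fin.castSucc i.succ) = T (Fin.castSucc i) := by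
        rw [← Fin.succ_castSucc, Fin.cons_succ]
      rw [h1, h2]
      exact hab i

theorem stronglyClosed_top_self (F : FusionSystem S) : F.StronglyClosed S :=
  ⟨le_rfl, fun _ _ _ hφ x => hom_mem F hφ x⟩

theorem stronglyClosed_bot (F : FusionSystem S) : F.StronglyClosed ⊥ := by
  refine ⟨bot_le, fun R hR φ _ x => ?_⟩
  have hx : (x : Ω) = 1 := by
    have := hR x.2
    rwa [Subgroup.mem_bot] at this
  have hx1 : x = 1 := Subtype.ext hx
  rw [hx1, map_one]
  exact Subgroup.one_mem _

/-- One step up: in a solvable saturated system, above every proper strongly closed subgroup `R` there is a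
strictly larger strongly closed subgroup with abelian quotient. -/
theorem exists_step [Finite S] {p : ℕ} [Fact p.Prime] (hS : IsPGroup p S) (F : FusionSystem S)
    (hF : F.IsSaturated p) (hsol : F.IsSolvableSystem) {R : Subgroup Ω} (hR : F.StronglyClosed R)
    (hRS : R ≠ S) :
    ∃ R' : Subgroup Ω, F.StronglyClosed R' ∧ R ≤ R' ∧ R ≠ R' ∧ ⁅R', R'⁆ ≤ R := by
  classical
  have hnorm : S ≤ Subgroup.normalizer (R : Set Ω) := stronglyClosed_le_normalizer hR
  have hN : (R.subgroupOf S).Normal := by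
    rw [← Subgroup.normalizer_eq_top_iff]
    rw [eq_top_iff]
    intro s _
    have hs := hnorm s.2
    rw [Subgroup.mem_normalizer_iff] at hs ⊢
    intro h
    rw [Subgroup.mem_subgroupOf, Subgroup.mem_subgroupOf]
    have := hs (h : Ω)
    simpa using this
  obtain ⟨E, hE⟩ := Cfsg.Agent.S5132.result p hS F R hR
  have hcore : E.core ≠ ⊥ := hsol R hR hRS E hE
  set θ : S →* (S ⧸ R.subgroupOf S) := QuotientGroup.mk' (R.subgroupOf S) with hθ
  obtain ⟨hRS', hker, hrange, hEhom⟩ := id hE
  -- the core and its centre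
  have hQn : E.IsNormal E.core := Cfsg.Agent.Lib.Helper85_Fusion.isNormal_core E
  set Q := E.core with hQdef
  set Z : Subgroup (S ⧸ R.subgroupOf S) := (Subgroup.center Q).map Q.subtype with hZdef
  have hZQ : Z ≤ Q := by
    rintro _ ⟨z, -, rfl⟩
    exact z.2
  have hZchar : (Z.subgroupOf Q).Characteristic := by
    have : Z.subgroupOf Q = Subgroup.center Q := by
      rw [hZdef]
      exact Subgroup.comap_map_eq_self_of_injective Q.subtype_injective _
    rw [this]
    infer_instance
  have hZn : E.IsNormal Z := Cfsg.Agent.S5085.result E Q Z hQn hZQ hZchar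
  have hZsc : E.StronglyClosed Z := Cfsg.Agent.Lib.Helper84_FusionNormal.IsNormal.stronglyClosed hZn
  have hZcomm : ∀ a ∈ Z, ∀ b ∈ Z, a * b = b * a := by
    rintro _ ⟨a, ha, rfl⟩ _ ⟨b, hb, rfl⟩
    have := Subgroup.mem_center_iff.1 ha b
    have h2 := congrArg Q.subtype this
    rw [map_mul, map_mul] at h2
    exact h2.symm
  -- `Z` is not trivial
  have hQp : IsPGroup p Q := (hS.to_quotient (R.subgroupOf S)).to_subgroup Q
  have : Nontrivial Q := (Subgroup.nontrivial_iff_ne_bot Q).2 hcore
  have : Finite Q := inferInstance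
  have hZnt : Nontrivial (Subgroup.center Q) := hQp.center_nontrivial
  obtain ⟨z, hz⟩ := exists_ne (1 : Subgroup.center Q)
  have hzZ : ((z : Q) : S ⧸ R.subgroupOf S) ∈ Z := ⟨(z : Q), z.2, rfl⟩
  have hz1 : ((z : Q) : S ⧸ R.subgroupOf S) ≠ 1 := by
    intro h
    apply hz
    apply Subtype.ext
    apply Subtype.ext
    exact h
  refine ⟨preimageAlong θ Z, stronglyClosed_preimageAlong F hS hF hR hE hZsc,
    le_preimageAlong hker hRS' Z, ?_, commutator_preimageAlong_le hker hZcomm⟩
  intro hEq
  -- a preimage of `z`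
  obtain ⟨s, hs⟩ := QuotientGroup.mk'_surjective (R.subgroupOf S) ((z : Q) : S ⧸ R.subgroupOf S)
  have hs' : θ s = ((z : Q) : S ⧸ R.subgroupOf S) := hs
  have hsmem : (s : Ω) ∈ preimageAlong θ Z := by
    rw [mem_preimageAlong]
    refine ⟨s.2, ?_⟩
    rw [extOn_coe, hs']
    exact hzZ
  rw [← hEq] at hsmem
  apply hz1
  rw [← hs']
  exact (hker s).2 hsmem

theorem hasChain_of_solvable [Finite S] {p : ℕ} [Fact p.Prime] (hS : IsPGroup p S) (F : FusionSystem S)
    (hF : F.IsSaturated p) (hsol : F.IsSolvableSystem) :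
    ∀ (k : ℕ) (R : Subgroup Ω), F.StronglyClosed R → Nat.card S - Nat.card R = k → HasChain F R := by
  intro k
  induction k using Nat.strong_induction_on with
  | _ k ih =>
    intro R hR hk
    by_cases hRS : R = S
    · rw [hRS]
      exact hasChain_self F (stronglyClosed_top_self F)
    · obtain ⟨R', hR', hle, hne, hcomm⟩ := exists_step hS F hF hsol hR hRS
      have : Finite R' := Finite.of_injective (Subgroup.inclusion hR'.1) (Subgroup.inclusion_injective _)
      have : Finite R := Finite.of_injective (Subgroup.inclusion hR.1) (Subgroup.inclusion_injective _)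
      have hlt : Nat.card R < Nat.card R' := card_lt_of_lt (lt_of_le_of_ne hle hne)
      have hle' : Nat.card R' ≤ Nat.card S := Subgroup.card_le_of_le hR'.1
      refine hasChain_cons F hR hle hcomm (ih (Nat.card S - Nat.card R') ?_ R' hR' rfl)
      omega

theorem exists_jump {n : ℕ} (T : Fin (n + 1) → Subgroup Ω) {R : Subgroup Ω} (h0 : T 0 ≤ R)
    (hlast : ¬ T (Fin.last n) ≤ R) : ∃ j : Fin n, T (Fin.castSucc j) ≤ R ∧ ¬ T j.succ ≤ R := by
  by_contra h0'
  have h : ∀ j : Fin n, T (Fin.castSucc j) ≤ R → T j.succ ≤ R :=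
    fun j hj => by_contra fun hn => h0' ⟨j, hj, hn⟩
  apply hlast
  have : ∀ i : Fin (n + 1), T i ≤ R := by
    intro i
    induction i using Fin.induction with
    | zero => exact h0
    | succ i ih => exact h i ih
  exact this _

theorem weaklyClosed_bot {Ω' : Type*} [Group Ω'] {S' : Subgroup Ω'} (E : FusionSystem S') :
    E.WeaklyClosed ⊥ := by
  refine ⟨bot_le, fun φ _ => ?_⟩
  ext y
  rw [Subgroup.mem_bot]
  constructor
  · rintro ⟨x, rfl⟩
    have : x = 1 := Subsingleton.elim _ _
    rw [this, map_one]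
  · rintro rfl
    exact Subgroup.one_mem _

theorem core_ne_bot_of_chain [Finite S] {p : ℕ} [Fact p.Prime] (hS : IsPGroup p S) (F : FusionSystem S)
    (hF : F.IsSaturated p) {n : ℕ} (T : Fin (n + 1) → Subgroup Ω) (h0 : T 0 = ⊥) (hlast : T (Fin.last n) = S)
    (hsc : ∀ i, F.StronglyClosed (T i)) (hab : ∀ i : Fin n, ⁅T i.succ, T i.succ⁆ ≤ T (Fin.castSucc i))
    {R : Subgroup Ω} (hR : F.StronglyClosed R) (hRS : R ≠ S) [(R.subgroupOf S).Normal]
    (E : FusionSystem (⊤ : Subgroup (S ⧸ R.subgroupOf S)))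
    (hE : F.IsFactorSystem R (QuotientGroup.mk' (R.subgroupOf S)) E) : E.core ≠ ⊥ := by
  classical
  set θ : S →* (S ⧸ R.subgroupOf S) := QuotientGroup.mk' (R.subgroupOf S) with hθ
  obtain ⟨hRS', hker, hrange, hEhom⟩ := id hE
  have hnorm : S ≤ Subgroup.normalizer (R : Set Ω) := stronglyClosed_le_normalizer hR
  have hlast' : ¬ T (Fin.last n) ≤ R := by
    rw [hlast]
    intro h
    exact hRS (le_antisymm hR.1 h)
  have h0' : T 0 ≤ R := by
    rw [h0]
    exact bot_le
  obtain ⟨j, hj1, hj2⟩ := exists_jump T h0' hlast'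
  set A := T j.succ with hA
  have hAsc : F.StronglyClosed A := hsc _
  have hAA : ⁅A, A⁆ ≤ R := (hab j).trans hj1
  have hU : F.StronglyClosed (A ⊔ R) := Cfsg.Agent.S5128.result p hS F hF A R hAsc hR
  have hĀsc : E.StronglyClosed (imageAlong θ (A ⊔ R)) := stronglyClosed_imageAlong hE hU le_sup_right
  have hĀcomm : ∀ a ∈ imageAlong θ (A ⊔ R), ∀ b ∈ imageAlong θ (A ⊔ R), a * b = b * a :=
    fun a ha b hb => commute_of_mem_imageAlong_sup hker hRS' hAsc.1 (hAsc.1.trans hnorm) hAA ha hb
  -- the image is not trivial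
  obtain ⟨x, hxA, hxR⟩ := SetLike.not_le_iff_exists.1 hj2
  have hxĀ : extOn θ x ∈ imageAlong θ (A ⊔ R) :=
    extOn_mem_imageAlong θ hU.1 (le_sup_left (a := A) hxA)
  have hx1 : extOn θ x ≠ 1 := fun h => hxR ((extOn_eq_one_iff hker (hAsc.1 hxA)).1 h)
  -- the factor system is saturated
  have hEsat : E.IsSaturated p :=
    Cfsg.Agent.S5133.result p hS F hF E θ (Cfsg.Agent.S5134.result p hS F hF R hR θ E hE)
  have hS' : IsPGroup p (⊤ : Subgroup (S ⧸ R.subgroupOf S)) :=
    (hS.to_quotient (R.subgroupOf S)).to_subgroup ⊤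
  -- the image is normal in the factor system
  have hnormal : E.IsNormal (imageAlong θ (A ⊔ R)) := by
    rw [Cfsg.Agent.S5226.result p hS' E hEsat (imageAlong θ (A ⊔ R))]
    refine ⟨hĀsc, 1, fun i => if i = 0 then ⊥ else imageAlong θ (A ⊔ R), ?_, ?_, ?_, ?_, ?_⟩
    · simp
    · simp
    · intro i k hik
      by_cases hi : i = 0
      · simp [hi]
      · have hk : k ≠ 0 := by
          rintro rfl
          exact hi (Fin.le_zero_iff.1 hik)
        simp [hi, hk]
    · intro i
      have hi : i = 0 := Subsingleton.elim _ _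
      subst hi
      simp only [Fin.succ_zero_eq_one, Fin.castSucc_zero, if_true]
      rw [if_neg (by simp), Subgroup.commutator_le]
      intro a ha b hb
      rw [Subgroup.mem_bot, commutatorElement_eq_one_iff_mul_comm]
      exact hĀcomm a ha b hb
    · intro i
      have hi : i = 0 := Subsingleton.elim _ _
      subst hi
      simp only [Fin.castSucc_zero, if_true]
      exact weaklyClosed_bot E
  intro hcore
  have hle : imageAlong θ (A ⊔ R) ≤ E.core := le_sSup hnormal
  rw [hcore] at hle
  exact hx1 ((Subgroup.mem_bot).1 (hle hxĀ))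

/-- A saturated fusion system F over a finite p-group S is solvable (for every subgroup R other than S that is strongly closed in F, the factor system of F modulo R has a nontrivial subgroup normal in it) if and only if there is a chain 1 = S₀ ≤ S₁ ≤ ⋯ ≤ Sₘ = S of subgroups strongly closed in F with every quotient Sᵢ₊₁/Sᵢ abelian. -/
theorem result {Ω : Type*} [Group Ω] {S : Subgroup Ω} [Finite S] (p : ℕ) [Fact p.Prime] (hS : IsPGroup p S) (F : Cfsg.FusionSystem S) (hF : F.IsSaturated p) : F.IsSolvableSystem ↔ ∃ (n : ℕ) (T : Fin (n + 1) → Subgroup Ω), T 0 = ⊥ ∧ T (Fin.last n) = S ∧ Monotone T ∧ (∀ i, F.StronglyClosed (T i)) ∧ ∀ i : Fin n, ⁅T i.succ, T i.succ⁆ ≤ T (Fin.castSucc i) := by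
  constructor
  · intro hsol
    exact hasChain_of_solvable hS F hF hsol _ ⊥ (stronglyClosed_bot F) rfl
  · rintro ⟨n, T, h0, hlast, -, hsc, hab⟩
    intro R hR hRS _ E hE
    exact core_ne_bot_of_chain hS F hF T h0 hlast hsc hab hR hRS E hE

end Cfsg.Agent.S5157
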