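import Cfsg.Statements.S5159
import Cfsg.Agent.Lib.Helper87_Solvable
import Cfsg.Agent.S5133
import Cfsg.Agent.S5134

set_option autoImplicit false
open Cfsg

namespace Cfsg.Agent.S5159

open Cfsg.FusionSystem Cfsg.Agent.Lib Cfsg.Agent.Lib.Helper87_Alperin Cfsg.Agent.Lib.Helper87_Normal
  Cfsg.Agent.Lib.Helper87_Factor Cfsg.Agent.Lib.Helper87_Factor2 Cfsg.Agent.Lib.Helper87_Solvable

open scoped commutatorElement

universe u

variable {Ω : Type u} [Group Ω] {S T : Subgroup Ω}

/-- The last proper step of a chain with distinct ends. -/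
theorem exists_last_step {F : FusionSystem S} {A C : Subgroup Ω} (h : SCChain F A C) (hne : A ≠ C) :
    ∃ U, F.StronglyClosed U ∧ A ≤ U ∧ U ≤ C ∧ U ≠ C ∧ ⁅C, C⁆ ≤ U := by
  induction h with
  | refl A _ => exact absurd rfl hne
  | cons A B C hA hAB hcomm hBC ih =>
    by_cases hBC' : B = C
    · subst hBC'
      exact ⟨A, hA, le_rfl, hAB, hne, hcomm⟩
    · obtain ⟨U, hU, hBU, hUC, hUne, hCC⟩ := ih hBC'
      exact ⟨U, hU, hAB.trans hBU, hUC, hUne, hCC⟩

/-- The image of a subgroup `R` (meeting `T`) under an automorphism of `T`. -/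
def img (β : MulAut T) (R : Subgroup Ω) : Subgroup Ω :=
  (R.subgroupOf T).map (T.subtype.comp β.toMonoidHom)

theorem mem_img (β : MulAut T) (R : Subgroup Ω) (y : Ω) :
    y ∈ img β R ↔ ∃ t : T, (t : Ω) ∈ R ∧ ((β t : T) : Ω) = y := by
  constructor
  · rintro ⟨t, ht, rfl⟩
    exact ⟨t, Subgroup.mem_subgroupOf.1 ht, rfl⟩
  · rintro ⟨t, ht, rfl⟩
    exact ⟨t, Subgroup.mem_subgroupOf.2 ht, rfl⟩

/-- `R` is carried into itself by every element of `Aut_F(T)`. -/
def InvSub (F : FusionSystem S) (T R : Subgroup Ω) : Prop :=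
  ∀ α ∈ F.autGroup T, ∀ t : T, (t : Ω) ∈ R → ((α t : T) : Ω) ∈ R

/-- The image of a subgroup strongly closed in `E` under an element of `Aut_F(T)` is strongly closed in `E`. -/
theorem stronglyClosed_img {F : FusionSystem S} {E : FusionSystem T} (hinv : E.IsInvariantIn F)
    {R : Subgroup Ω} (hR : E.StronglyClosed R) {β : MulAut T} (hβ : β ∈ F.autGroup T) :
    E.StronglyClosed (img β R) := by
  obtain ⟨-, -, hinv', -⟩ := hinv
  refine ⟨?_, fun P hP φ hφ x => ?_⟩
  · intro y hy
    obtain ⟨t, -, rfl⟩ := (mem_img β R y).1 hy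
    exact (β t).2
  · have hPT : P ≤ T := hom_le E hφ
    have hβi : β⁻¹ ∈ F.autGroup T := (F.autGroup T).inv_mem hβ
    obtain ⟨χ, hχ, hχeq⟩ := hinv' P hPT φ hφ β⁻¹ hβi
    have hφx : φ x ∈ T := hom_mem E hφ x
    have hαx : ((β⁻¹ ⟨x, hPT x.2⟩ : T) : Ω) ∈ (P.subgroupOf T).map (T.subtype.comp (β⁻¹).toMonoidHom) :=
      ⟨⟨x, hPT x.2⟩, Subgroup.mem_subgroupOf.2 x.2, rfl⟩
    have h1 := hχeq x hφx hαx
    have hP'R : (P.subgroupOf T).map (T.subtype.comp (β⁻¹).toMonoidHom) ≤ R := by
      rintro _ ⟨t, ht, rfl⟩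
      have ht' : (t : Ω) ∈ img β R := hP (Subgroup.mem_subgroupOf.1 ht)
      obtain ⟨r, hr, hrt⟩ := (mem_img β R _).1 ht'
      have : β r = t := Subtype.ext hrt
      show ((β⁻¹ t : T) : Ω) ∈ R
      rw [← this, MulAut.inv_apply_self]
      exact hr
    have h2 := hR.2 _ hP'R χ hχ ⟨_, hαx⟩
    rw [h1] at h2
    rw [mem_img]
    refine ⟨β⁻¹ ⟨φ x, hφx⟩, h2, ?_⟩
    rw [MulAut.apply_inv_self]

/-- The least subgroup strongly closed in `E` containing `X`. -/
def cl (E : FusionSystem T) (X : Subgroup Ω) : Subgroup Ω :=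
  sInf {R : Subgroup Ω | E.StronglyClosed R ∧ X ≤ R}

theorem stronglyClosed_self (E : FusionSystem T) : E.StronglyClosed T :=
  ⟨le_rfl, fun _ _ _ hφ x => hom_mem E hφ x⟩

theorem le_cl (E : FusionSystem T) (X : Subgroup Ω) : X ≤ cl E X :=
  le_sInf fun _ hR => hR.2

theorem cl_le {E : FusionSystem T} {X R : Subgroup Ω} (hR : E.StronglyClosed R) (hXR : X ≤ R) :
    cl E X ≤ R :=
  sInf_le ⟨hR, hXR⟩

theorem stronglyClosed_cl {E : FusionSystem T} {X : Subgroup Ω} (hX : X ≤ T) :
    E.StronglyClosed (cl E X) := by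
  refine ⟨cl_le (stronglyClosed_self E) hX, fun P hP φ hφ x => ?_⟩
  rw [cl, Subgroup.mem_sInf]
  intro R hR
  exact hR.1.2 P (hP.trans (cl_le hR.1 hR.2)) φ hφ x

theorem invSub_cl {F : FusionSystem S} {E : FusionSystem T} (hinv : E.IsInvariantIn F) {X : Subgroup Ω}
    (hXT : X ≤ T) (hX : InvSub F T X) : InvSub F T (cl E X) := by
  intro α hα t ht
  have hαi : α⁻¹ ∈ F.autGroup T := (F.autGroup T).inv_mem hα
  have hsc : E.StronglyClosed (img α⁻¹ (cl E X)) := stronglyClosed_img hinv (stronglyClosed_cl hXT) hαi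
  have hle : X ≤ img α⁻¹ (cl E X) := by
    intro y hy
    rw [mem_img]
    refine ⟨α ⟨y, hXT hy⟩, le_cl E X (hX α hα ⟨y, hXT hy⟩ hy), ?_⟩
    rw [MulAut.inv_apply_self]
  have h1 := cl_le hsc hle ht
  obtain ⟨u, hu, hut⟩ := (mem_img α⁻¹ (cl E X) _).1 h1
  have : α⁻¹ u = t := Subtype.ext hut
  rw [← this, MulAut.apply_inv_self]
  exact hu

theorem invSub_commutator {F : FusionSystem S} {R : Subgroup Ω} (hRT : R ≤ T) (hR : InvSub F T R) :
    InvSub F T ⁅R, R⁆ := by
  intro α hα t ht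
  -- the subgroup of elements of `T` carried into `⁅R, R⁆`
  have hle : ⁅R, R⁆ ≤ ((⁅R, R⁆.subgroupOf T).comap α.toMonoidHom).map T.subtype := by
    rw [Subgroup.commutator_le]
    intro a ha b hb
    have haT : a ∈ T := hRT ha
    have hbT : b ∈ T := hRT hb
    refine ⟨⁅(⟨a, haT⟩ : T), ⟨b, hbT⟩⁆, ?_, rfl⟩
    show ((α ⁅(⟨a, haT⟩ : T), ⟨b, hbT⟩⁆ : T) : Ω) ∈ ⁅R, R⁆
    rw [map_commutatorElement]
    exact Subgroup.commutator_mem_commutator (hR α hα ⟨a, haT⟩ ha) (hR α hα ⟨b, hbT⟩ hb)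
  obtain ⟨t', ht', htt'⟩ := hle ht
  have : t' = t := Subtype.ext htt'
  rw [← this]
  exact Subgroup.mem_subgroupOf.1 (Subgroup.mem_comap.1 ht')

/-- A subgroup of `T` strongly closed in the invariant subsystem `E` and invariant under `Aut_F(T)` is strongly closed
in `F`. -/
theorem stronglyClosed_of_invSub {F : FusionSystem S} {E : FusionSystem T} (hinv : E.IsInvariantIn F)
    {R : Subgroup Ω} (hR : E.StronglyClosed R) (hRinv : InvSub F T R) : F.StronglyClosed R := by
  obtain ⟨-, hT, -, hfrat⟩ := hinv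
  refine ⟨hR.1.trans hT.1, fun P hP φ hφ x => ?_⟩
  obtain ⟨α, hα, φ₀, hφ₀, heq⟩ := hfrat P (hP.trans hR.1) φ hφ
  have hx : φ₀ x ∈ T := hom_mem E hφ₀ x
  rw [heq x hx]
  exact hRinv α hα ⟨φ₀ x, hx⟩ (hR.2 P hP φ₀ hφ₀ x)

theorem stronglyClosed_bot' (F : FusionSystem S) : F.StronglyClosed ⊥ :=
  Cfsg.Agent.S5157.stronglyClosed_bot F

/-- Below `T` a chain of `E` can be replaced by a chain of `F`. -/
theorem exists_chain_below [Finite S] {F : FusionSystem S} {E : FusionSystem T} (hinv : E.IsInvariantIn F)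
    (cE : SCChain E ⊥ T) :
    ∀ (k : ℕ) (R : Subgroup Ω), E.StronglyClosed R → InvSub F T R → Nat.card R = k → SCChain F ⊥ R := by
  intro k
  induction k using Nat.strong_induction_on with
  | _ k ih =>
    intro R hR hRinv hk
    by_cases hRbot : R = ⊥
    · rw [hRbot]
      exact SCChain.refl _ (stronglyClosed_bot' F)
    · have hTS : T ≤ S := hinv.2.1.1
      have hRT : R ≤ T := hR.1
      have c1 : SCChain E ⊥ R := by
        have := cE.inf_right hR
        rwa [bot_inf_eq, inf_eq_right.2 hRT] at this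
      obtain ⟨U, hU, -, hUR, hUne, hRR⟩ := exists_last_step c1 (Ne.symm hRbot)
      have hcT : ⁅R, R⁆ ≤ T := (hRR.trans hUR).trans hRT
      have hR'sc : E.StronglyClosed (cl E ⁅R, R⁆) := stronglyClosed_cl hcT
      have hR'inv : InvSub F T (cl E ⁅R, R⁆) := invSub_cl hinv hcT (invSub_commutator hRT hRinv)
      have hR'U : cl E ⁅R, R⁆ ≤ U := cl_le hU hRR
      have hR'R : cl E ⁅R, R⁆ ≤ R := hR'U.trans hUR
      have hlt : cl E ⁅R, R⁆ < R := lt_of_le_of_lt hR'U (lt_of_le_of_ne hUR hUne)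
      have hfinR : Finite R := Finite.of_injective (Subgroup.inclusion (hRT.trans hTS))
        (Subgroup.inclusion_injective _)
      have hcard : Nat.card (cl E ⁅R, R⁆) < k := by
        rw [← hk]
        exact card_lt_of_lt hlt
      have c2 : SCChain F ⊥ (cl E ⁅R, R⁆) := ih _ hcard _ hR'sc hR'inv rfl
      exact c2.trans (SCChain.single (stronglyClosed_of_invSub hinv hR'sc hR'inv)
        (stronglyClosed_of_invSub hinv hR hRinv) hR'R (le_cl E _))


/-- Let F be a saturated fusion system over a finite p-group S, E a normal subsystem over T, and D the factor system of F modulo T (read through any homomorphism on S with kernel T). Then F is solvable if and only if E and D are solvable (solvable, for a system over a subgroup S: for every subgroup R other than S that is strongly closed in F, the factor system of F modulo R has a nontrivial subgroup normal in it). -/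
theorem result {Ω : Type*} [Group Ω] {S : Subgroup Ω} [Finite S] (p : ℕ) [Fact p.Prime] (hS : IsPGroup p S) (F : Cfsg.FusionSystem S) (hF : F.IsSaturated p) {T : Subgroup Ω} (E : Cfsg.FusionSystem T) (hE : E.IsNormalIn F p) {Ω' : Type*} [Group Ω'] {S' : Subgroup Ω'} (θ : S →* Ω') (D : Cfsg.FusionSystem S') (hD : F.IsFactorSystem T θ D) : F.IsSolvableSystem ↔ (E.IsSolvableSystem ∧ D.IsSolvableSystem) := by
  classical
  obtain ⟨⟨hEsat, -, hinv⟩, -⟩ := id hE
  have hEF : E.IsSubsystemOf F := hinv.1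
  have hT : F.StronglyClosed T := hinv.2.1
  have hTS : T ≤ S := hT.1
  have hfinT : Finite T := Finite.of_injective (Subgroup.inclusion hTS) (Subgroup.inclusion_injective _)
  have hTp : IsPGroup p T := hS.to_le hTS
  obtain ⟨-, hker, hrange, -⟩ := id hD
  subst hrange
  have hfinS' : Finite θ.range := Finite.of_surjective θ.rangeRestrict θ.rangeRestrict_surjective
  have hS'p : IsPGroup p θ.range := hS.of_surjective θ.rangeRestrict θ.rangeRestrict_surjective
  have hDsat : D.IsSaturated p :=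
    Cfsg.Agent.S5133.result p hS F hF D θ (Cfsg.Agent.S5134.result p hS F hF T hT θ D hD)
  rw [isSolvableSystem_iff hS F hF, isSolvableSystem_iff hTp E hEsat, isSolvableSystem_iff hS'p D hDsat]
  have himgT : imageAlong θ T = ⊥ := by
    rw [eq_bot_iff]
    intro y hy
    obtain ⟨x, hxS, hxT, rfl⟩ := (mem_imageAlong θ T _).1 hy
    rw [Subgroup.mem_bot]
    exact (extOn_eq_one_iff hker hxS).2 hxT
  have himgS : imageAlong θ S = θ.range := by
    apply le_antisymm (imageAlong_le_range θ S)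
    rintro _ ⟨s, rfl⟩
    rw [← extOn_coe θ s]
    exact extOn_mem_imageAlong θ le_rfl s.2
  have hpreBot : preimageAlong θ ⊥ = T := by
    ext y
    rw [mem_preimageAlong, Subgroup.mem_bot]
    constructor
    · rintro ⟨hyS, hy⟩
      exact (extOn_eq_one_iff hker hyS).1 hy
    · intro hy
      exact ⟨hTS hy, (extOn_eq_one_iff hker (hTS hy)).2 hy⟩
  have hpreTop : preimageAlong θ θ.range = S := by
    apply le_antisymm (preimageAlong_le θ _)
    intro y hy
    rw [mem_preimageAlong]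
    refine ⟨hy, ?_⟩
    rw [extOn_apply θ hy]
    exact ⟨_, rfl⟩
  constructor
  · intro c
    constructor
    · have h1 := (c.inf_right hT).of_subsystem hEF inf_le_right
      rwa [bot_inf_eq, inf_eq_right.2 hTS] at h1
    · have h1 := (c.sup_right hS hF hT).imageAlong hD le_sup_right
      rwa [bot_sup_eq, sup_eq_left.2 hTS, himgT, himgS] at h1
  · rintro ⟨cE, cD⟩
    have c1 : SCChain F ⊥ T :=
      exists_chain_below hinv cE _ T (stronglyClosed_self E) (fun α _ t _ => (α t).2) rfl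
    have c2 := cD.preimageAlong hS hF hT hD
    rw [hpreBot, hpreTop] at c2
    exact c1.trans c2

end Cfsg.Agent.S5159
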