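import Cfsg.Statements.S5164
-- import your own Cfsg.Agent.* helpers here

set_option autoImplicit false
open Cfsg

namespace Cfsg.Agent.S5164

theorem sq_not_dvd_factorial (p : ℕ) (hp : p.Prime) : ¬ p ^ 2 ∣ p.factorial := by
  intro h
  have hp1 : p = (p - 1) + 1 := by have := hp.one_lt; omega
  rw [hp1, Nat.factorial_succ, ← hp1, pow_two] at h
  have h2 : p ∣ (p - 1).factorial := Nat.dvd_of_mul_dvd_mul_left hp.pos h
  have := (hp.dvd_factorial).mp h2
  have := hp.one_lt
  omega

/-- A p-subgroup of Perm α with |α| < p² is commutative. -/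
theorem comm_of_card_lt {α : Type*} [Fintype α] [DecidableEq α] (p : ℕ) [hp : Fact p.Prime]
    (Q : Subgroup (Equiv.Perm α)) (hQ : IsPGroup p Q) (hcard : Fintype.card α < p ^ 2)
    (x y : Equiv.Perm α) (hx : x ∈ Q) (hy : y ∈ Q) : x * y = y * x := by
  classical
  ext a
  -- orbit of a under Q
  let O := MulAction.orbit Q a
  let f : Q →* Equiv.Perm O := MulAction.toPermHom Q O
  have hR : IsPGroup p f.range := hQ.of_surjective f.rangeRestrict f.rangeRestrict_surjective
  obtain ⟨k, hk⟩ := hQ.card_orbit a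
  have hOle : Nat.card O ≤ Fintype.card α := by
    rw [← Nat.card_eq_fintype_card]
    exact Nat.card_le_card_of_injective _ Subtype.val_injective
  have hk1 : k ≤ 1 := by
    by_contra hcon
    push Not at hcon
    have : p ^ 2 ≤ p ^ k := Nat.pow_le_pow_right hp.out.pos hcon
    have hk' : Nat.card O = p ^ k := hk
    omega
  have hOp : Nat.card O ≤ p := by
    have hk' : Nat.card O = p ^ k := hk
    rw [hk']
    calc p ^ k ≤ p ^ 1 := Nat.pow_le_pow_right hp.out.pos hk1
      _ = p := pow_one p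
  obtain ⟨m, hm⟩ := (IsPGroup.iff_card).mp hR
  have hdvd : Nat.card f.range ∣ p.factorial := by
    have h1 : Nat.card f.range ∣ Nat.card (Equiv.Perm O) := Subgroup.card_subgroup_dvd_card _
    have h2 : Nat.card (Equiv.Perm O) = (Nat.card O).factorial := by
      rw [Nat.card_eq_fintype_card, Fintype.card_perm, Nat.card_eq_fintype_card]
    rw [h2] at h1
    exact h1.trans (Nat.factorial_dvd_factorial hOp)
  have hm1 : m ≤ 1 := by
    by_contra hcon
    push Not at hcon
    rw [hm] at hdvd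
    exact sq_not_dvd_factorial p hp.out ((pow_dvd_pow p hcon).trans hdvd)
  have hcomm : ∀ u v : f.range, u * v = v * u := by
    interval_cases m
    · intro u v
      have : Subsingleton f.range := by
        rw [← Finite.card_le_one_iff_subsingleton, hm]; simp
      exact Subsingleton.elim _ _
    · have hc : IsCyclic f.range := isCyclic_of_prime_card (p := p) (by simpa using hm)
      intro u v
      exact (IsCyclic.isMulCommutative (α := f.range)).is_comm.comm u v
  have h1 := hcomm ⟨f ⟨x, hx⟩, ⟨_, rfl⟩⟩ ⟨f ⟨y, hy⟩, ⟨_, rfl⟩⟩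
  have h2 : f ⟨x, hx⟩ * f ⟨y, hy⟩ = f ⟨y, hy⟩ * f ⟨x, hx⟩ := by
    have := congrArg Subtype.val h1
    simpa using this
  have h3 := congrArg (fun σ : Equiv.Perm O => (σ ⟨a, MulAction.mem_orbit_self a⟩ : α)) h2
  exact h3


section heisenberg
variable (p : ℕ) [hp : Fact p.Prime]


/-- the affine-shear permutation `(i, j) ↦ (i + a, j + b * i + c)` of `ZMod p × ZMod p`. -/
def tau (a b c : ZMod p) : Equiv.Perm (ZMod p × ZMod p) where
  toFun x := (x.1 + a, x.2 + b * x.1 + c)
  invFun x := (x.1 - a, x.2 - b * (x.1 - a) - c)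
  left_inv x := by ext <;> simp <;> ring
  right_inv x := by ext <;> simp <;> ring

theorem tau_mul (a b c a' b' c' : ZMod p) :
    tau p a b c * tau p a' b' c' = tau p (a + a') (b + b') (c + c' + b * a') := by
  ext x <;> simp [tau] <;> ring

theorem tau_zero : tau p 0 0 0 = 1 := by
  ext x <;> simp [tau]

theorem tau_inv (a b c : ZMod p) : (tau p a b c)⁻¹ = tau p (-a) (-b) (-c + b * a) := by
  rw [inv_eq_iff_mul_eq_one, tau_mul, ← tau_zero]
  congr 1 <;> ring

theorem tau_injective : Function.Injective (fun t : ZMod p × ZMod p × ZMod p => tau p t.1 t.2.1 t.2.2) := by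
  rintro ⟨a, b, c⟩ ⟨a', b', c'⟩ h
  have h0 := congrArg (fun σ : Equiv.Perm (ZMod p × ZMod p) => σ (0, 0)) h
  have h1 := congrArg (fun σ : Equiv.Perm (ZMod p × ZMod p) => σ (1, 0)) h
  simp [tau] at h0 h1
  obtain ⟨ha, hc⟩ := h0
  subst ha; subst hc
  simpa using h1

/-- the Heisenberg group of order `p^3` acting on `p^2` points. -/
def heis : Subgroup (Equiv.Perm (ZMod p × ZMod p)) where
  carrier := Set.range (fun t : ZMod p × ZMod p × ZMod p => tau p t.1 t.2.1 t.2.2)
  mul_mem' := by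
    rintro _ _ ⟨⟨a, b, c⟩, rfl⟩ ⟨⟨a', b', c'⟩, rfl⟩
    exact ⟨(a + a', b + b', c + c' + b * a'), (tau_mul p a b c a' b' c').symm⟩
  one_mem' := ⟨(0, 0, 0), tau_zero p⟩
  inv_mem' := by
    rintro _ ⟨⟨a, b, c⟩, rfl⟩
    exact ⟨(-a, -b, -c + b * a), (tau_inv p a b c).symm⟩

theorem heis_card : Nat.card (heis p) = p ^ 3 := by
  have : Nat.card (heis p) = Nat.card (Set.range (fun t : ZMod p × ZMod p × ZMod p => tau p t.1 t.2.1 t.2.2)) := rfl
  rw [this, Nat.card_range_of_injective (tau_injective p)]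
  simp [Nat.card_eq_fintype_card, ZMod.card]
  ring

theorem heis_isPGroup : IsPGroup p (heis p) := IsPGroup.of_card (heis_card p)

theorem heis_noncomm : tau p 1 0 0 * tau p 0 1 0 ≠ tau p 0 1 0 * tau p 1 0 0 := by
  rw [tau_mul, tau_mul]
  intro h
  have := tau_injective p (a₁ := (1 + 0, 0 + 1, 0 + 0 + 0 * 0)) (a₂ := (0 + 1, 1 + 0, 0 + 0 + 1 * 1)) h
  simp at this

end heisenberg


theorem sign_eq_one_of_pow {α : Type*} [Fintype α] [DecidableEq α] (p : ℕ) (hodd : Odd p)
    (σ : Equiv.Perm α) (k : ℕ) (h : σ ^ (p ^ k) = 1) : Equiv.Perm.sign σ = 1 := by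
  have h1 : (Equiv.Perm.sign σ) ^ (p ^ k) = 1 := by rw [← map_pow, h, map_one]
  rcases Int.units_eq_one_or (Equiv.Perm.sign σ) with h2 | h2
  · exact h2
  · rw [h2] at h1
    have : Odd (p ^ k) := hodd.pow
    rw [this.neg_one_pow] at h1
    exact absurd h1 (by decide)

/-- the sign-correcting homomorphism `ℤˣ → Perm (Fin 2)`. -/
def gsw : ℤˣ →* Equiv.Perm (Fin 2) where
  toFun u := if u = 1 then 1 else Equiv.swap 0 1
  map_one' := by simp
  map_mul' := by decide

theorem sign_gsw (u : ℤˣ) : Equiv.Perm.sign (gsw u) = u := by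
  revert u; decide

/-- `σ ↦ σ ⊕ (swap)^{sign σ}`: an injective homomorphism into the even permutations of `X ⊕ Fin 2`. -/
def evenize (X : Type*) [Fintype X] [DecidableEq X] : Equiv.Perm X →* Equiv.Perm (X ⊕ Fin 2) :=
  (Equiv.Perm.sumCongrHom X (Fin 2)).comp ((MonoidHom.id _).prod (gsw.comp Equiv.Perm.sign))

theorem evenize_apply_inl (X : Type*) [Fintype X] [DecidableEq X] (σ : Equiv.Perm X) (a : X) :
    evenize X σ (Sum.inl a) = Sum.inl (σ a) := by
  simp [evenize]

theorem sign_evenize (X : Type*) [Fintype X] [DecidableEq X] (σ : Equiv.Perm X) :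
    Equiv.Perm.sign (evenize X σ) = 1 := by
  simp [evenize, Equiv.Perm.sign_sumCongr, sign_gsw, Int.units_mul_self]

theorem evenize_injective (X : Type*) [Fintype X] [DecidableEq X] : Function.Injective (evenize X) := by
  intro σ τ h
  ext a
  have := congrArg (fun π : Equiv.Perm (X ⊕ Fin 2) => π (Sum.inl a)) h
  simpa [evenize_apply_inl] using this

theorem sign_viaEmbeddingHom {α β : Type*} [Fintype α] [DecidableEq α] [Fintype β] [DecidableEq β]
    (ι : α ↪ β) (e : Equiv.Perm α) :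
    Equiv.Perm.sign (Equiv.Perm.viaEmbeddingHom ι e) = Equiv.Perm.sign e := by
  classical
  rw [Equiv.Perm.viaEmbeddingHom_apply]
  unfold Equiv.Perm.viaEmbedding
  convert Equiv.Perm.sign_extendDomain e (Equiv.ofInjective ι.1 ι.2)

theorem exists_of_hom {X : Type*} [Fintype X] [DecidableEq X] (n p : ℕ) [Fact p.Prime]
    (θ : Equiv.Perm X →* Equiv.Perm (Fin n)) (hθ : Function.Injective θ)
    (Q : Subgroup (Equiv.Perm X)) (hQ : IsPGroup p Q) (hA : ∀ σ ∈ Q, Equiv.Perm.sign (θ σ) = 1)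
    (x y : Equiv.Perm X) (hx : x ∈ Q) (hy : y ∈ Q) (hxy : x * y ≠ y * x) :
    ∃ Q' : Subgroup (alternatingGroup (Fin n)), IsPGroup p Q' ∧
      ∃ x' ∈ Q', ∃ y' ∈ Q', x' * y' ≠ y' * x' := by
  refine ⟨(Q.map θ).subgroupOf (alternatingGroup (Fin n)), ?_, ?_⟩
  · exact (hQ.map θ).comap_of_injective (alternatingGroup (Fin n)).subtype
      (Subgroup.subtype_injective _)
  · refine ⟨⟨θ x, Equiv.Perm.mem_alternatingGroup.mpr (hA x hx)⟩, ?_,
      ⟨θ y, Equiv.Perm.mem_alternatingGroup.mpr (hA y hy)⟩, ?_, ?_⟩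
    · rw [Subgroup.mem_subgroupOf]; exact ⟨x, hx, rfl⟩
    · rw [Subgroup.mem_subgroupOf]; exact ⟨y, hy, rfl⟩
    · intro h
      apply hxy
      apply hθ
      have := congrArg Subtype.val h
      simpa using this


theorem exists_nonabelian (n p : ℕ) [hp : Fact p.Prime] (hn : 6 ≤ n) (hnp : p ^ 2 ≤ n) :
    ∃ Q' : Subgroup (alternatingGroup (Fin n)), IsPGroup p Q' ∧
      ∃ x' ∈ Q', ∃ y' ∈ Q', x' * y' ≠ y' * x' := by
  classical
  have hx : tau p 1 0 0 ∈ heis p := ⟨(1, 0, 0), rfl⟩
  have hy : tau p 0 1 0 ∈ heis p := ⟨(0, 1, 0), rfl⟩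
  rcases hp.out.eq_two_or_odd' with h2 | hodd
  · -- p = 2: use the sign trick on 4 + 2 points
    subst h2
    have hcard : Fintype.card ((ZMod 2 × ZMod 2) ⊕ Fin 2) ≤ Fintype.card (Fin n) := by
      simp; omega
    obtain ⟨ι⟩ := Function.Embedding.nonempty_of_card_le hcard
    refine exists_of_hom n 2 ((Equiv.Perm.viaEmbeddingHom ι).comp (evenize (ZMod 2 × ZMod 2)))
      ((Equiv.Perm.viaEmbeddingHom_injective ι).comp (evenize_injective _)) (heis 2) (heis_isPGroup 2)
      (fun σ _ => ?_) _ _ hx hy (heis_noncomm 2)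
    rw [MonoidHom.comp_apply, sign_viaEmbeddingHom, sign_evenize]
  · -- p odd: embed the p^2 points directly
    have hcard : Fintype.card (ZMod p × ZMod p) ≤ Fintype.card (Fin n) := by
      simp [ZMod.card]; nlinarith
    obtain ⟨ι⟩ := Function.Embedding.nonempty_of_card_le hcard
    refine exists_of_hom n p (Equiv.Perm.viaEmbeddingHom ι)
      (Equiv.Perm.viaEmbeddingHom_injective ι) (heis p) (heis_isPGroup p)
      (fun σ hσ => ?_) _ _ hx hy (heis_noncomm p)
    rw [sign_viaEmbeddingHom]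
    obtain ⟨k, hk⟩ := (heis_isPGroup p) ⟨σ, hσ⟩
    have hk' : σ ^ (p ^ k) = 1 := by
      have := congrArg Subtype.val hk
      simpa using this
    exact sign_eq_one_of_pow p hodd σ k hk'


/-- For n ≥ 6 and a prime p, a nontrivial Sylow p-subgroup of the alternating group of degree n is abelian if and only if n < p². -/
theorem result (n p : ℕ) (hn : 6 ≤ n) [Fact p.Prime] (S : Sylow p (alternatingGroup (Fin n))) (hS : (S : Subgroup (alternatingGroup (Fin n))) ≠ ⊥) : IsMulCommutative S ↔ n < p ^ 2 := by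
  classical
  constructor
  · intro hcomm
    by_contra hlt
    push Not at hlt
    obtain ⟨Q', hQ', x', hx', y', hy', hxy⟩ := exists_nonabelian n p hn hlt
    obtain ⟨S', hS'⟩ := hQ'.exists_le_sylow
    obtain ⟨g, hg⟩ := MulAction.exists_smul_eq (alternatingGroup (Fin n)) S' S
    -- conjugates of x', y' by g lie in S
    have hmem : ∀ z ∈ (S' : Subgroup (alternatingGroup (Fin n))),
        g * z * g⁻¹ ∈ (S : Subgroup (alternatingGroup (Fin n))) := by
      intro z hz
      rw [← hg, Sylow.coe_subgroup_smul, Subgroup.mem_pointwise_smul_iff_inv_smul_mem]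
      simp only [MulAut.smul_def, MulAut.conj_inv_apply]
      have : g⁻¹ * (g * z * g⁻¹) * g = z := by group
      rw [this]; exact hz
    have hX := hmem x' (hS' hx')
    have hY := hmem y' (hS' hy')
    have hc := hcomm.is_comm.comm ⟨g * x' * g⁻¹, hX⟩ ⟨g * y' * g⁻¹, hY⟩
    have hc' : (g * x' * g⁻¹) * (g * y' * g⁻¹) = (g * y' * g⁻¹) * (g * x' * g⁻¹) := by
      have := congrArg Subtype.val hc
      simpa using this
    apply hxy
    have h1 : g * (x' * y') * g⁻¹ = g * (y' * x') * g⁻¹ := by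
      calc g * (x' * y') * g⁻¹ = (g * x' * g⁻¹) * (g * y' * g⁻¹) := by group
        _ = (g * y' * g⁻¹) * (g * x' * g⁻¹) := hc'
        _ = g * (y' * x') * g⁻¹ := by group
    exact mul_left_cancel (mul_right_cancel h1)
  · intro hlt
    refine ⟨⟨fun x y => ?_⟩⟩
    have hQ : IsPGroup p ((S : Subgroup (alternatingGroup (Fin n))).map (alternatingGroup (Fin n)).subtype) :=
      S.isPGroup'.map _
    have hcard : Fintype.card (Fin n) < p ^ 2 := by simpa using hlt
    have := comm_of_card_lt p _ hQ hcard ((x : alternatingGroup (Fin n)) : Equiv.Perm (Fin n))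
      ((y : alternatingGroup (Fin n)) : Equiv.Perm (Fin n))
      ⟨(x : alternatingGroup (Fin n)), x.2, rfl⟩ ⟨(y : alternatingGroup (Fin n)), y.2, rfl⟩
    apply Subtype.ext
    apply Subtype.ext
    exact this

end Cfsg.Agent.S5164
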