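import Cfsg.Statements.S5178
import Cfsg.Agent.Lib.Helper87_ExtraIdx
import Cfsg.Agent.Lib.Helper87_ClassTwo
import Cfsg.Agent.Lib.Helper87_ClassTwo2

set_option autoImplicit false
universe u
open Cfsg

namespace Cfsg.Agent.S5178

/-- Let p be an odd prime, S a finite p-group containing an extraspecial subgroup Q of index p, and F a saturated fusion system over S whose largest subgroup normal in F is trivial. Then the centre of S equals the centre of Q. -/
theorem result {Ω : Type u} [Group Ω] {S : Subgroup Ω} [Finite S] (p : ℕ) [Fact p.Prime] (hp : Odd p) (hS : IsPGroup p S)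
    (Q : Subgroup Ω) (hQS : Q ≤ S) (hQ : Cfsg.IsExtraspecial p ↥Q) (hQi : (Q.subgroupOf S).index = p)
    (F : Cfsg.FusionSystem S) (hF : F.IsSaturated p) (hO : F.core = ⊥) :
    S ⊓ Subgroup.centralizer (S : Set Ω) = Q ⊓ Subgroup.centralizer (Q : Set Ω) := by
  classical
  have hp' : p.Prime := Fact.out
  have : Finite Q := Finite.of_injective (Subgroup.inclusion hQS) (Subgroup.inclusion_injective hQS)
  have hcard : Nat.card S = Nat.card Q * p := by
    rw [← hQi, ← Nat.card_congr (Subgroup.subgroupOfEquivOfLe hQS).toEquiv]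
    exact (Subgroup.card_mul_index _).symm
  have hZcard : Nat.card (Cfsg.Agent.Lib.Helper87_ExtraIdx.zq Q) = p :=
    Cfsg.Agent.Lib.Helper87_ExtraIdx.card_zq hQ
  show S ⊓ Subgroup.centralizer (S : Set Ω) = Cfsg.Agent.Lib.Helper87_ExtraIdx.zq Q
  by_contra hne
  by_cases hZleQ : S ⊓ Subgroup.centralizer (S : Set Ω) ≤ Q
  · -- the centre of `S` lies in the centre of `Q`
    have hle : S ⊓ Subgroup.centralizer (S : Set Ω) ≤ Cfsg.Agent.Lib.Helper87_ExtraIdx.zq Q := by
      intro x hx
      exact ⟨hZleQ hx, Subgroup.centralizer_le (show (Q : Set Ω) ⊆ S from hQS) hx.2⟩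
    -- the centre of `S` is not trivial
    have hnt : Nontrivial S := by
      rw [← Finite.one_lt_card_iff_nontrivial, hcard]
      have h1 : 0 < Nat.card Q := Nat.card_pos
      calc 1 < p := hp'.one_lt
        _ = 1 * p := (one_mul p).symm
        _ ≤ Nat.card Q * p := Nat.mul_le_mul_right p h1
    have hcn : Nontrivial (Subgroup.center S) := hS.center_nontrivial
    obtain ⟨c, hc⟩ := exists_ne (1 : Subgroup.center S)
    have hcZ : ((c : S) : Ω) ∈ S ⊓ Subgroup.centralizer (S : Set Ω) := by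
      refine ⟨(c : S).2, ?_⟩
      show ((c : S) : Ω) ∈ Subgroup.centralizer (S : Set Ω)
      rw [Subgroup.mem_centralizer_iff]
      intro g hg
      have := Subgroup.mem_center_iff.mp c.2 ⟨g, hg⟩
      exact congrArg Subtype.val this
    have hc1 : ((c : S) : Ω) ≠ 1 := by
      intro h
      apply hc
      apply Subtype.ext
      apply Subtype.ext
      exact h
    apply hne
    exact le_antisymm hle
      (Cfsg.Agent.Lib.Helper87_ExtraIdx.le_of_mem_of_card_prime hp' hZcard (hle hcZ) hcZ hc1)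
  · obtain ⟨t, htZ, htQ⟩ := SetLike.not_le_iff_exists.1 hZleQ
    have hC : Cfsg.Agent.Lib.Helper87_ClassTwo.CTwo p S (Cfsg.Agent.Lib.Helper87_ExtraIdx.zq Q) :=
      Cfsg.Agent.Lib.Helper87_ClassTwo2.ctwo_of_index hp' hQS hcard
        (Cfsg.Agent.Lib.Helper87_ExtraIdx.zq_le Q)
        (fun z hz g hg => Cfsg.Agent.Lib.Helper87_ExtraIdx.zq_comm hz hg) hZcard
        (fun x hx y hy => Cfsg.Agent.Lib.Helper87_ExtraIdx.comm_mem_zq hQ hx hy) htZ htQ
    exact Cfsg.Agent.Lib.Helper87_ClassTwo2.core_ne_bot hp hS hF hC (fun h => hne h.symm) hO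

end Cfsg.Agent.S5178
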