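import Cfsg.Statements.S5179
import Cfsg.Agent.Lib.Helper87_ExtraIdx
import Cfsg.Agent.Lib.Helper84_Fusion
import Cfsg.Agent.S5080

set_option autoImplicit false
universe u
open Cfsg

namespace Cfsg.Agent.S5179

/-- Let p be an odd prime, S a finite p-group of order at least p⁶ containing an extraspecial subgroup Q of index p, and F a saturated fusion system over S whose largest subgroup normal in F is trivial. Then no proper subgroup of Q is essential in F: an essential subgroup of F contained in Q equals Q. -/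
theorem result {Ω : Type u} [Group Ω] {S : Subgroup Ω} [Finite S] (p : ℕ) [Fact p.Prime] (hp : Odd p) (hS : IsPGroup p S)
    (Q : Subgroup Ω) (hQS : Q ≤ S) (hQ : Cfsg.IsExtraspecial p ↥Q) (hQi : (Q.subgroupOf S).index = p)
    (h6 : p ^ 6 ≤ Nat.card S)
    (F : Cfsg.FusionSystem S) (hF : F.IsSaturated p) (hO : F.core = ⊥)
    (E : Subgroup Ω) (hEQ : E ≤ Q) (hE : F.IsEssential p E) : E = Q := by
  classical
  have hp' : p.Prime := Fact.out
  have hES : E ≤ S := hEQ.trans hQS
  have hcen : Cfsg.FusionSystem.centralizerIn S E ≤ E :=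
    hE.1.2 E (Cfsg.Agent.Lib.Helper84_Fusion.isConj_refl F hES)
  have hrad : F.IsRadical p E := Cfsg.Agent.S5080.result p hS F hF E hE
  by_cases hab : ∀ a ∈ E, ∀ b ∈ E, a * b = b * a
  · exfalso
    have : Finite Q := Finite.of_injective (Subgroup.inclusion hQS) (Subgroup.inclusion_injective hQS)
    have hcard : Nat.card Q * p = Nat.card S := by
      rw [← hQi, ← Nat.card_congr (Subgroup.subgroupOfEquivOfLe hQS).toEquiv]
      exact Subgroup.card_mul_index _
    have h4 : p ^ 4 ≤ Nat.card Q := by
      have h5 : p ^ 5 * p ≤ Nat.card Q * p := by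
        rw [hcard]
        calc p ^ 5 * p = p ^ 6 := by ring
          _ ≤ Nat.card S := h6
      have h5' : p ^ 5 ≤ Nat.card Q := Nat.le_of_mul_le_mul_right h5 hp'.pos
      exact (Nat.pow_le_pow_right hp'.pos (by norm_num)).trans h5'
    exact Cfsg.Agent.Lib.Helper87_ExtraIdx.false_of_abelian hS F hQS hQ h4 hEQ hcen hE.2.2 hab
  · exact Cfsg.Agent.Lib.Helper87_ExtraIdx.eq_of_nonabelian hS F hQS hQ hEQ hcen hrad hab

end Cfsg.Agent.S5179
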