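import Cfsg.Statements.S5186
import Cfsg.Agent.Lib.Helper88_SmallEssential
import Cfsg.Agent.S5080

set_option autoImplicit false
universe u
open Cfsg

namespace Cfsg.Agent.S5186

/-- Let F be a saturated fusion system over a finite p-group S and H an essential subgroup of order p³. Then H is elementary abelian, or p is odd and H is extraspecial of exponent p, or p = 2 and H is the quaternion group of order 8. -/
theorem result {Ω : Type u} [Group Ω] {S : Subgroup Ω} [Finite S] (p : ℕ) [Fact p.Prime] (hS : IsPGroup p S)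
    (F : Cfsg.FusionSystem S) (hF : F.IsSaturated p) (H : Subgroup Ω) (hH : F.IsEssential p H) (hcard : Nat.card H = p ^ 3) :
    Cfsg.IsElementaryAbelian p H ∨ (Odd p ∧ Cfsg.IsExtraspecial p ↥H ∧ ∀ x ∈ H, x ^ p = 1) ∨
      (p = 2 ∧ Nonempty (↥H ≃* QuaternionGroup 2)) := by
  have hp : p.Prime := Fact.out
  have hrad := Cfsg.Agent.S5080.result p hS F hF H hH
  obtain ⟨hcen, -, hnorm, E, hE⟩ := hH
  have hHS : H ≤ S := hcen.1
  have : Finite H := Finite.of_injective (Subgroup.inclusion hHS) (Subgroup.inclusion_injective hHS)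
  rcases Cfsg.Agent.Lib.Helper88_SmallEssential.classify_cube (P := ↥H) (p := p) hcard with
    h | h | h | h
  · left
    refine ⟨⟨⟨fun a b => h.1 a b⟩⟩, fun a ha => ?_⟩
    exact congrArg Subtype.val (h.2 ⟨a, ha⟩)
  · right; left
    refine ⟨hp.odd_of_ne_two h.1, h.2.1, fun x hx => ?_⟩
    exact congrArg Subtype.val (h.2.2 ⟨x, hx⟩)
  · right; right
    exact h
  · exfalso
    exact Cfsg.Agent.Lib.Helper88_SmallEssential.false_of_hasCharChain3 hcard (F.autGroup H)
      hrad.2 hE.1 h

end Cfsg.Agent.S5186
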