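import Cfsg.Statements.S5188
import Cfsg.Agent.Lib.Helper88_OrderP4b
import Cfsg.Agent.Lib.Helper88_AbelianEssential
import Cfsg.Agent.S5080

set_option autoImplicit false
universe u
open Cfsg

namespace Cfsg.Agent.S5188

/-- Let F be a saturated fusion system over a finite p-group S and H an essential subgroup of order p⁴. Then H is isomorphic to one of: C_p⁴ or C_{p²} × C_p × C_p (any p); C_{p²} × C_{p²} with p ∈ {2, 3}; p^{1+2}_+ × C_p with p odd (the direct product of an extraspecial group of order p³ and exponent p with a group of order p); Q₈ × C₂ (p = 2); or the non-abelian group of order p⁴ of exponent p² whose centre is cyclic of order p² (the central product of an extraspecial group of order p³ with a cyclic group of order p²; for p = 2 this is D₈ ∘ C₄). -/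
theorem result {Ω : Type u} [Group Ω] {S : Subgroup Ω} [Finite S] (p : ℕ) [Fact p.Prime] (hS : IsPGroup p S)
    (F : Cfsg.FusionSystem S) (hF : F.IsSaturated p) (H : Subgroup Ω) (hH : F.IsEssential p H) (hcard : Nat.card H = p ^ 4) :
    Cfsg.IsElementaryAbelian p H ∨
      Nonempty (↥H ≃* Multiplicative (ZMod (p ^ 2) × ZMod p × ZMod p)) ∨
      ((p = 2 ∨ p = 3) ∧ Nonempty (↥H ≃* Multiplicative (ZMod (p ^ 2) × ZMod (p ^ 2)))) ∨
      (Odd p ∧ ∃ (E : Type) (_ : Group E) (_ : Finite E), Cfsg.IsExtraspecial p E ∧ Nat.card E = p ^ 3 ∧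
        (∀ x : E, x ^ p = 1) ∧ Nonempty (↥H ≃* E × Multiplicative (ZMod p))) ∨
      (p = 2 ∧ Nonempty (↥H ≃* QuaternionGroup 2 × Multiplicative (ZMod 2))) ∨
      (¬ IsMulCommutative ↥H ∧ (∀ x ∈ H, x ^ (p ^ 2) = 1) ∧ IsCyclic ↥(Subgroup.center ↥H) ∧
        Nat.card (Subgroup.center ↥H) = p ^ 2) := by
  have hp : p.Prime := Fact.out
  have hrad := Cfsg.Agent.S5080.result p hS F hF H hH
  obtain ⟨hcen, -, hnorm, E, hE⟩ := hH
  have hHS : H ≤ S := hcen.1
  have : Finite H := Finite.of_injective (Subgroup.inclusion hHS) (Subgroup.inclusion_injective hHS)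
  have hP : IsPGroup p H := hS.to_le hHS
  rcases Cfsg.Agent.Lib.Helper88_OrderP4.classify_p4 (P := ↥H) (p := p) hcard with
    h | h | h | h | h | h | h
  · left
    exact ⟨⟨⟨fun a b => h.1 a b⟩⟩, fun a ha => congrArg Subtype.val (h.2 ⟨a, ha⟩)⟩
  · right; left
    exact h
  · right; right; left
    have hidx : (frattini ↥H).index ≤ p ^ 2 := by
      have h1 := (frattini ↥H).card_mul_index
      rw [h.2, hcard] at h1
      have h2 : p ^ 2 * (frattini ↥H).index = p ^ 2 * p ^ 2 := by rw [h1]; ring
      exact (Nat.eq_of_mul_eq_mul_left (pow_pos hp.pos 2) h2).le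
    rcases Cfsg.Agent.Lib.Helper88_AbelianEssential.abelian_essential (P := ↥H) h.1 hP
      (F.autGroup H) hrad.2 hE.1 hidx with h' | ⟨hp3, k, ⟨e⟩⟩
    · exfalso
      rw [hcard] at h'
      have := Nat.pow_right_injective hp.two_le h'.2
      omega
    · have hk : k = 2 := by
        have hc := Nat.card_congr e.toEquiv
        rw [hcard] at hc
        have hc2 : Nat.card (Multiplicative (ZMod (p ^ k) × ZMod (p ^ k))) = p ^ k * p ^ k := by
          have : NeZero (p ^ k) := ⟨pow_ne_zero _ hp.ne_zero⟩
          show Nat.card (ZMod (p ^ k) × ZMod (p ^ k)) = _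
          rw [Nat.card_prod, Nat.card_eq_fintype_card, ZMod.card]
        rw [hc2, ← pow_add] at hc
        have := Nat.pow_right_injective hp.two_le hc
        omega
      subst hk
      refine ⟨?_, ⟨e⟩⟩
      have h2 := hp.two_le
      have : p = 2 ∨ p = 3 := by omega
      exact this
  · right; right; right; left
    obtain ⟨hp2, M, hMna, hMcard, hMexp, hiso⟩ := h
    exact ⟨hp.odd_of_ne_two hp2,
      Cfsg.Agent.Lib.Helper88_OrderP4.exists_extraspecial_model M hMna hMcard hMexp hiso⟩
  · right; right; right; right; left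
    exact h
  · right; right; right; right; right
    obtain ⟨hna, hexp, hcyc, hZ⟩ := h
    exact ⟨fun hc => hna (fun a b => hc.is_comm.comm a b),
      fun x hx => congrArg Subtype.val (hexp ⟨x, hx⟩), hcyc, hZ⟩
  · exfalso
    exact Cfsg.Agent.Lib.Helper88_OrderP4.false_of_badFlag (F.autGroup H) hrad.2 hE.1 h

end Cfsg.Agent.S5188
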