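import Cfsg.Statements.S5192
import Cfsg.Agent.Lib.Helper87_Alperin
import Cfsg.Agent.Lib.Helper85_Fusion
import Cfsg.Agent.Lib.Helper85_Transport
import Cfsg.Agent.Lib.Helper84_FusionRS
import Cfsg.Agent.Lib.Helper88_Biset11

set_option autoImplicit false
open Cfsg

namespace Cfsg.Agent.S5192

/-- A Thompson-type transfer for saturated fusion systems. Let F be a saturated fusion system on a finite 2-group S, T a subgroup of S of index 2, and i an involution of S such that every fully normalized F-conjugate of i lies in S but outside T. Then i does not lie in the hyperfocal subgroup of F (the Sylow group of the 2-residual subsystem). -/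
theorem result {Ω : Type*} [Group Ω] [Finite Ω] {S : Subgroup Ω}
    (hS : IsPGroup 2 ↥S) (F : Cfsg.FusionSystem S) (hF : F.IsSaturated 2)
    (T : Subgroup Ω) (hTS : T ≤ S) (hT : T.relIndex S = 2)
    (i : Ω) (hi : i ∈ S) (hi2 : orderOf i = 2)
    (h : ∀ j : Ω, F.IsConjElt i j → F.IsFullyNormalized (Subgroup.zpowers j) → j ∉ T) :
    i ∉ F.hyperfocalSubgroup 2 := by
  classical
  intro hihyp
  obtain ⟨m, V, -, hV1, -, hV3⟩ := Cfsg.Agent.Lib.Helper88_Biset11.exists_transfer' hS F hF
  -- the sign character of `S / T`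
  have hidx : (T.subgroupOf S).index = 2 := hT
  let θ : ↥S →* ℤˣ := MonoidHom.mk' (fun s => if (s : Ω) ∈ T then 1 else -1) (by
    intro a b
    have h1 := Subgroup.mul_mem_iff_of_index_two hidx (a := a) (b := b)
    rw [Subgroup.mem_subgroupOf, Subgroup.mem_subgroupOf, Subgroup.mem_subgroupOf] at h1
    by_cases ha : (a : Ω) ∈ T <;> by_cases hb : (b : Ω) ∈ T
    · have : ((a * b : ↥S) : Ω) ∈ T := h1.2 ⟨fun _ => hb, fun _ => ha⟩
      simp only [this, ha, hb, if_true, mul_one]
    · have : ((a * b : ↥S) : Ω) ∉ T := fun h => hb ((h1.1 h).1 ha)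
      simp only [this, ha, hb, if_true, if_false, one_mul]
    · have : ((a * b : ↥S) : Ω) ∉ T := fun h => ha ((h1.1 h).2 hb)
      simp only [this, ha, hb, if_true, if_false, mul_one]
    · have : ((a * b : ↥S) : Ω) ∈ T := h1.2 ⟨fun h => absurd h ha, fun h => absurd h hb⟩
      simp only [this, ha, hb, if_true, if_false]
      decide)
  have hθ : ∀ s : ↥S, (s : Ω) ∉ T → θ s = -1 := fun s hs => if_neg hs
  set W : ↥S →* ℤˣ := (Abelianization.lift θ).comp V with hWdef
  have hW : ∀ (P : Subgroup Ω) (f : Ω → Ω) (hf : Cfsg.Agent.Lib.Helper87_Alperin.IsMapOn F P f)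
      (x : Ω) (hx : x ∈ P), W ⟨f x, hf.mem hx⟩ = W ⟨x, hf.le hx⟩ := by
    intro P f hf x hx
    rw [hWdef, MonoidHom.comp_apply, MonoidHom.comp_apply, hV1 P f hf x hx]
  -- `W` kills the hyperfocal subgroup
  obtain ⟨_, hWi⟩ := Cfsg.Agent.Lib.Helper88_Biset11.exists_map_eq_one_of_mem_focal F W hW i
    (Cfsg.Agent.Lib.Helper88_Biset11.hyperfocal_le_focal F 2 hihyp)
  -- a fully normalized conjugate of `⟨i⟩`
  have hP₀ : Subgroup.zpowers i ≤ S := Subgroup.zpowers_le.2 hi
  obtain ⟨Q, hPQ, hQfn⟩ := Cfsg.Agent.Lib.Helper84_FusionRS.exists_isFullyNormalized_conj F hP₀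
  obtain ⟨f₀, hf₀, hQ⟩ := (Cfsg.Agent.Lib.Helper85_Transport.isConj_iff_isMapOn F _ _).1 hPQ
  have hii : i ∈ Subgroup.zpowers i := Subgroup.mem_zpowers i
  set j : Ω := f₀ i with hj
  have hi2' : i * i = 1 := by rw [← pow_two, ← hi2, pow_orderOf_eq_one]
  have hi1 : i ≠ 1 := by
    intro h1
    rw [h1, orderOf_one] at hi2
    omega
  have hjj : j * j = 1 := by
    rw [hj, ← hf₀.map_mul hii hii, hi2', hf₀.map_one]
  have hj1 : j ≠ 1 := by
    intro h1
    apply hi1
    apply hf₀.injOn hii (Subgroup.one_mem _)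
    rw [hf₀.map_one]
    exact h1
  have hjS : j ∈ S := hf₀.mem hii
  -- `Q = ⟨j⟩ = {1, j}`
  have hzi : ∀ x ∈ Subgroup.zpowers i, x = 1 ∨ x = i := by
    intro x hx
    obtain ⟨n, rfl⟩ := Subgroup.mem_zpowers_iff.1 hx
    rcases Int.even_or_odd' n with ⟨k, hk | hk⟩
    · left
      rw [hk, zpow_mul, zpow_two, hi2', one_zpow]
    · right
      rw [hk, zpow_add, zpow_mul, zpow_two, hi2', one_zpow, one_mul, zpow_one]
  have hQmem : ∀ y, y ∈ Q ↔ y = 1 ∨ y = j := by
    intro y
    rw [hQ]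
    constructor
    · rintro ⟨x, hx, rfl⟩
      rcases hzi x hx with rfl | rfl
      · exact Or.inl hf₀.map_one
      · exact Or.inr rfl
    · rintro (rfl | rfl)
      · exact ⟨1, Subgroup.one_mem _, hf₀.map_one⟩
      · exact ⟨i, hii, rfl⟩
  have hjQ : j ∈ Q := (hQmem j).2 (Or.inr rfl)
  have hWj : W ⟨j, hjS⟩ = W ⟨i, hi⟩ := hW _ f₀ hf₀ i hii
  -- Thompson's lemma
  have hj2 : j ^ 2 = 1 := by rw [pow_two, hjj]
  have key : Abelianization.lift θ (V ⟨j, hjS⟩) = -1 := by
    apply hV3 θ j hjS rfl hj2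
    intro Q' f hf hjQ' hC
    apply hθ
    show f j ∉ T
    have hfjS : f j ∈ S := hf.mem hjQ'
    have hff : f j * f j = 1 := by rw [← hf.map_mul hjQ' hjQ', hjj, hf.map_one]
    have hfj1 : f j ≠ 1 := by
      intro h1
      apply hj1
      apply hf.injOn hjQ' (Subgroup.one_mem _)
      rw [hf.map_one]
      exact h1
    have hQQ' : Q ≤ Q' := by
      intro y hy
      rcases (hQmem y).1 hy with rfl | rfl
      · exact Subgroup.one_mem _
      · exact hjQ'
    -- the image `R = {1, f j}` of `Q`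
    have hzfj : ∀ y, y ∈ Subgroup.zpowers (f j) ↔ y = 1 ∨ y = f j := by
      intro y
      constructor
      · intro hy
        obtain ⟨n, rfl⟩ := Subgroup.mem_zpowers_iff.1 hy
        rcases Int.even_or_odd' n with ⟨k, hk | hk⟩
        · left
          rw [hk, zpow_mul, zpow_two, hff, one_zpow]
        · right
          rw [hk, zpow_add, zpow_mul, zpow_two, hff, one_zpow, one_mul, zpow_one]
      · rintro (rfl | rfl)
        · exact Subgroup.one_mem _
        · exact Subgroup.mem_zpowers _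
    have hQR : F.IsConj Q (Subgroup.zpowers (f j)) := by
      rw [Cfsg.Agent.Lib.Helper85_Transport.isConj_iff_isMapOn]
      refine ⟨f, hf.mono hQQ', fun y => ?_⟩
      rw [hzfj]
      constructor
      · rintro (rfl | rfl)
        · exact ⟨1, Subgroup.one_mem _, hf.map_one⟩
        · exact ⟨j, hjQ, rfl⟩
      · rintro ⟨x, hx, rfl⟩
        rcases (hQmem x).1 hx with rfl | rfl
        · exact Or.inl hf.map_one
        · exact Or.inr rfl
    apply h (f j)
    · -- `f j` is conjugate to `i`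
      have hcomp := hf₀.comp (hf.mono hQQ') (fun x hx => (hQ (f₀ x)).2 ⟨x, hx, rfl⟩)
      obtain ⟨φ, hφ, hφf⟩ := hcomp
      exact ⟨φ, hφ, hφf ⟨i, hii⟩⟩
    · -- `⟨f j⟩` is fully normalized
      refine ⟨Subgroup.zpowers_le.2 hfjS, fun R hR => ?_⟩
      have h1 := hQfn.2 R (Cfsg.Agent.Lib.Helper85_Fusion.isConj_trans F hQR hR)
      refine h1.trans ?_
      -- `N_S(Q) = C_S(j)` maps injectively into `N_S(⟨f j⟩)`
      have hcomm : ∀ c ∈ Cfsg.FusionSystem.normalizerIn S Q, c ∈ S ∧ c * j = j * c := by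
        intro c hc
        refine ⟨hc.1, ?_⟩
        have h2 : c * j * c⁻¹ ∈ Q := (Subgroup.mem_normalizer_iff.1 hc.2 j).1 hjQ
        rcases (hQmem _).1 h2 with h3 | h3
        · exfalso
          apply hj1
          have : j = c⁻¹ * (c * j * c⁻¹) * c := by group
          rw [this, h3]
          group
        · calc c * j = (c * j * c⁻¹) * c := by group
            _ = j * c := by rw [h3]
      have hmap : ∀ c ∈ Cfsg.FusionSystem.normalizerIn S Q,
          f c ∈ Cfsg.FusionSystem.normalizerIn S (Subgroup.zpowers (f j)) := by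
        intro c hc
        obtain ⟨hcS, hcj⟩ := hcomm c hc
        have hcQ' : c ∈ Q' := hC c hcS hcj
        refine ⟨hf.mem hcQ', ?_⟩
        apply Subgroup.centralizer_le_normalizer
        rw [Subgroup.mem_centralizer_iff]
        intro y hy
        rcases (hzfj y).1 hy with rfl | rfl
        · rw [one_mul, mul_one]
        · rw [← hf.map_mul hjQ' hcQ', ← hf.map_mul hcQ' hjQ', hcj]
      apply Nat.card_le_card_of_injective
        (fun c : ↥(Cfsg.FusionSystem.normalizerIn S Q) =>
          (⟨f c, hmap c c.2⟩ : ↥(Cfsg.FusionSystem.normalizerIn S (Subgroup.zpowers (f j)))))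
      intro c c' hcc'
      have h2 : f (c : Ω) = f (c' : Ω) := congrArg Subtype.val hcc'
      obtain ⟨hcS, hcj⟩ := hcomm c c.2
      obtain ⟨hcS', hcj'⟩ := hcomm c' c'.2
      exact Subtype.ext (hf.injOn (hC c hcS hcj) (hC c' hcS' hcj') h2)
  have hkey' : W ⟨j, hjS⟩ = -1 := by
    rw [hWdef, MonoidHom.comp_apply]
    exact key
  rw [hWj, hWi] at hkey'
  exact absurd hkey' (by decide)

end Cfsg.Agent.S5192
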