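import Cfsg.Statements.S5193
import Cfsg.Agent.Lib.Helper72_FusWC7
import Cfsg.Agent.Lib.Helper72_FusPow
import Cfsg.Agent.Lib.Helper72_AbelianJ
import Cfsg.Agent.Lib.Helper50_CL2
import Cfsg.Agent.S2799

set_option autoImplicit false
open Cfsg

namespace Cfsg.Agent.S5193

open Cfsg.Agent.Lib.Helper72_AbelianJ in
/-- the centre lies in `J_A` -/
theorem center_le_JA.{v} {p : ℕ} (Q : Type v) [Group Q] [Finite Q] (_ : IsPGroup p Q) :
    Subgroup.center Q ≤ JA Q := by
  intro z hz
  obtain ⟨A₀, hA₀⟩ := Cfsg.Agent.Lib.Helper50_CL2.exists_maxAbelian (G := Q)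
  have h1 := Cfsg.Agent.Lib.Helper50_CL2.centralizer_eq_of_mem_maxAbelian hA₀
  have hz' : z ∈ Subgroup.centralizer (A₀ : Set Q) := by
    rw [Subgroup.mem_centralizer_iff]
    intro a _
    exact (Subgroup.mem_center_iff.1 hz a)
  rw [h1] at hz'
  exact (le_sSup hA₀) hz'

open Cfsg.Agent.Lib.Helper72_AbelianJ Cfsg.Agent.Lib.Helper72_FusWC in
/-- The common part: a subgroup `Z` of `Z(N_F(J(S)))` is central in `F` as soon as its elements satisfy (in the models)
one of the three conditions of Glauberman's theorem. -/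
theorem central_of_cond.{v} {Ω : Type v} [Group Ω] {S : Subgroup Ω} [Finite S] (p : ℕ) [Fact p.Prime]
    (hS : IsPGroup p S) (F : Cfsg.FusionSystem S) (hF : F.IsSaturated p)
    (N : Cfsg.FusionSystem (Cfsg.FusionSystem.normalizerIn S (Cfsg.thompsonSubgroupAOf S)))
    (hN : F.IsNormalizerSystem (Cfsg.thompsonSubgroupAOf S) N) (Z : Subgroup Ω) (hZN : Z ≤ N.center)
    (hcond : p ≠ 2 ∨ (∀ z ∈ Z, ∃ w ∈ S ⊓ Subgroup.centralizer (S : Set Ω), w ^ p = z) ∨
      F.IsSectionFree p (Equiv.Perm (Fin 4))) : F.IsCentral Z := by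
  classical
  have hW : IsCharPFunctor.{v} p JA := isCharPFunctor_JA
  have hWZ : ∀ (Q : Type v) [Group Q] [Finite Q], IsPGroup p Q → Subgroup.center Q ≤ JA Q :=
    fun Q _ _ hQ => center_le_JA Q hQ
  haveI : Finite (Cfsg.FusionSystem.normalizerIn S (Cfsg.thompsonSubgroupAOf S)) :=
    finite_of_le inf_le_left
  have hNc : N.IsCentral N.center := Cfsg.Agent.Lib.Helper85_Fusion.isCentral_center N
  have hSN : S ≤ Cfsg.FusionSystem.normalizerIn S (Cfsg.thompsonSubgroupAOf S) :=
    le_inf le_rfl (Subgroup.le_normalizer.trans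
      (Cfsg.Agent.Lib.Helper87_GTFunctor.normalizer_le hW S hS))
  have hZS : Z ≤ S := hZN.trans (hNc.1.trans inf_le_left)
  have hZ : ∀ z ∈ Z, ∀ s ∈ S, s * z = z * s := fun z hz s hs =>
    Cfsg.FusionSystem.center_le_centralizer N (hZN hz) s (hSN hs)
  have H0 : AutFix F Z (inducedFunctor JA S) := fun f hf hfV x hx hxZ =>
    autFix_center_normalizerSystem F N hN f hf hfV x hx (hZN hxZ)
  refine weakClosure_of_group' hS F hF hW hWZ Z hZS hZ H0 ?_
  intro R hRS _ hRa hRr hRc _ L _ _ ι T' hM hT' z hzZ hzcore hnorm g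
  have hinj : Function.Injective ι := hM.2.1.1
  have hzT' : ι z ∈ (T' : Subgroup L) := hT' ▸ ⟨z, rfl⟩
  have hzN : ι z ∈ Subgroup.normalizer ((Cfsg.thompsonSubgroupAOf (T' : Subgroup L) : Subgroup L) : Set L) :=
    (Subgroup.le_normalizer.trans
      (Cfsg.Agent.Lib.Helper87_GTFunctor.normalizer_le hW (T' : Subgroup L) T'.isPGroup')) hzT'
  have hzc : ι z ∈ (Subgroup.center ↥(Subgroup.normalizer
      ((Cfsg.thompsonSubgroupAOf (T' : Subgroup L)) : Set L))).map
      (Subgroup.normalizer ((Cfsg.thompsonSubgroupAOf (T' : Subgroup L)) : Set L)).subtype := by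
    refine ⟨⟨ι z, hzN⟩, ?_, rfl⟩
    rw [SetLike.mem_coe, Subgroup.mem_center_iff]
    intro n
    apply Subtype.ext
    have h1 := hnorm n n.2
    show (n : L) * ι z = ι z * (n : L)
    calc (n : L) * ι z = (n : L) * ι z * (n : L)⁻¹ * (n : L) := by group
      _ = ι z * (n : L) := by rw [h1]
  have hconj : g * ι z * g⁻¹ ∈ (T' : Subgroup L) := by
    have hNn : (Cfsg.pCore p L).Normal := Cfsg.pCore_normal p L
    exact Cfsg.Agent.Lib.Helper47_PLocal.pCore_le_sylow T' (hNn.conj_mem _ hzcore g)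
  refine Cfsg.Agent.S2799.result T' (ι z) hzT' hzc ?_ g hconj
  rcases hcond with h2 | hpow | hfree
  · exact Or.inl h2
  · refine Or.inr (Or.inl ?_)
    obtain ⟨w, hw, hwz⟩ := hpow (z : Ω) hzZ
    have hwS : w ∈ S := (Subgroup.mem_inf.1 hw).1
    have hwc : ∀ s ∈ S, s * w = w * s := fun s hs => (Subgroup.mem_inf.1 hw).2 s hs
    have hwR : w ∈ R :=
      hRc.2 R (Cfsg.Agent.Lib.Helper84_Fusion.isConj_refl F hRS)
        (Subgroup.mem_inf.2 ⟨hwS, fun r hr => hwc r (hRS hr)⟩)
    have hwT : w ∈ Cfsg.FusionSystem.normalizerIn S R :=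
      Subgroup.mem_inf.2 ⟨hwS, Subgroup.le_normalizer hwR⟩
    refine ⟨ι ⟨w, hwT⟩, Subgroup.mem_inf.2 ⟨hT' ▸ ⟨_, rfl⟩, ?_⟩, ?_⟩
    · rw [hT']
      rintro _ ⟨t, rfl⟩
      rw [← map_mul, ← map_mul]
      congr 1
      exact Subtype.ext (hwc t (inf_le_left (a := S) t.2))
    · rw [← map_pow]
      congr 1
      exact Subtype.ext hwz
  · refine Or.inr (Or.inr ?_)
    have hRn : F.IsFullyNormalized R :=
      Cfsg.Agent.S5301.isFullyNormalized_of_isFullyAutomized_of_isReceptive hS F hRa hRr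
    exact hfree R hRn hRc _ (Cfsg.Agent.Lib.Helper85_Fusion.normalizerSystem_isNormalizerSystem F R hRS)
      L ι hM


/-- Glauberman's Theorem for fusion systems. Let F be a saturated fusion system over a finite p-group S, let J(S) be the subgroup generated by the abelian subgroups of S of largest order, and let N be the normalizer fusion system of J(S) in F (a fusion system over N_S(J(S)) = S). Then every p-th power of an element of Z(S) that lies in the centre of N lies in the centre of F; and if p is odd, or if the symmetric group of degree 4 is not involved in any model of the normalizer system of a fully normalized F-centric subgroup (F is S₄-free), then the centre of N equals the centre of F. -/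
theorem result {Ω : Type*} [Group Ω] {S : Subgroup Ω} [Finite S] (p : ℕ) [Fact p.Prime] (hS : IsPGroup p S) (F : Cfsg.FusionSystem S) (hF : F.IsSaturated p) (N : Cfsg.FusionSystem (Cfsg.FusionSystem.normalizerIn S (Cfsg.thompsonSubgroupAOf S))) (hN : F.IsNormalizerSystem (Cfsg.thompsonSubgroupAOf S) N) : Subgroup.closure ((fun z : Ω => z ^ p) '' ((S ⊓ Subgroup.centralizer (S : Set Ω) : Subgroup Ω) : Set Ω)) ⊓ N.center ≤ F.center ∧ (p ≠ 2 ∨ F.IsSectionFree p (Equiv.Perm (Fin 4)) → N.center = F.center) := by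
  have hVS : Cfsg.thompsonSubgroupAOf S ≤ S :=
    Cfsg.Agent.Lib.Helper87_GTFunctor.ind_le (W := Cfsg.Agent.Lib.Helper72_AbelianJ.JA) S
  constructor
  · refine le_sSup (central_of_cond p hS F hF N hN _ inf_le_right (Or.inr (Or.inl ?_)))
    intro z hz
    exact Cfsg.Agent.Lib.Helper72_FusPow.exists_pow_of_mem_closure
      (S ⊓ Subgroup.centralizer (S : Set Ω) : Subgroup Ω)
      (fun a ha b hb => ((Subgroup.mem_inf.1 hb).2 a (Subgroup.mem_inf.1 ha).1)) p (Subgroup.mem_inf.1 hz).1
  · intro h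
    apply le_antisymm
    · refine le_sSup (central_of_cond p hS F hF N hN _ le_rfl ?_)
      rcases h with h | h
      · exact Or.inl h
      · exact Or.inr (Or.inr h)
    · exact Cfsg.Agent.Lib.Helper72_FusWC.center_le_center_normalizerSystem F hVS N hN

end Cfsg.Agent.S5193
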