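import Cfsg.Statements.S5196
import Cfsg.Agent.Lib.Helper72_FusWC6

set_option autoImplicit false
universe u
open Cfsg

namespace Cfsg.Agent.S5196

/-- Let p be an odd prime and W a positive characteristic p-functor: W assigns to every finite p-group Q (in a fixed universe) a subgroup W(Q), nontrivial when Q is, carried to W(R) by every isomorphism Q ≅ R; assume also Z(Q) ≤ W(Q) for every finite p-group Q. Suppose W satisfies the local condition: for every finite group G with Sylow p-subgroup P, O_p(G) ∩ Z(G) = O_p(G) ∩ Z(N_G(W(P))). Then W controls weak closure of elements in every saturated fusion system F over a finite p-group S: the centre of the normalizer fusion system of W(S) in F equals the centre of F. (For p = 2 no functor satisfies the local condition, so p is taken odd.) -/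
theorem result {p : ℕ} [Fact p.Prime] (hp : p ≠ 2) (W : ∀ (Q : Type u) [Group Q], Subgroup Q) (hW1 : ∀ (Q : Type u) [Group Q] [Finite Q], IsPGroup p Q → Nontrivial Q → W Q ≠ ⊥) (hW2 : ∀ (Q R : Type u) [Group Q] [Group R] [Finite Q], IsPGroup p Q → ∀ φ : Q ≃* R, (W Q).map φ.toMonoidHom = W R) (hWZ : ∀ (Q : Type u) [Group Q] [Finite Q], IsPGroup p Q → Subgroup.center Q ≤ W Q) (hC : ∀ (G : Type u) [Group G] [Finite G] (P : Sylow p G), Cfsg.pCore p G ⊓ Subgroup.center G = Cfsg.pCore p G ⊓ (Subgroup.center ↥(Subgroup.normalizer (((W ↥(P : Subgroup G)).map (P : Subgroup G).subtype : Subgroup G) : Set G))).map (Subgroup.normalizer (((W ↥(P : Subgroup G)).map (P : Subgroup G).subtype : Subgroup G) : Set G)).subtype) {Ω : Type u} [Group Ω] {S : Subgroup Ω} [Finite S] (hS : IsPGroup p S) (F : Cfsg.FusionSystem S) (hF : F.IsSaturated p) (N : Cfsg.FusionSystem (Cfsg.FusionSystem.normalizerIn S ((W ↥S).map S.subtype))) (hN : F.IsNormalizerSystem ((W ↥S).map S.subtype) N) : N.center = F.center := by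
  have hW : IsCharPFunctor p W := ⟨hW1, hW2⟩
  have hVS : inducedFunctor W S ≤ S := Cfsg.Agent.Lib.Helper87_GTFunctor.ind_le S
  haveI : Finite (Cfsg.FusionSystem.normalizerIn S ((W ↥S).map S.subtype)) :=
    Cfsg.Agent.Lib.Helper72_FusWC.finite_of_le inf_le_left
  apply le_antisymm
  · have hNc : N.IsCentral N.center := Cfsg.Agent.Lib.Helper85_Fusion.isCentral_center N
    have hZS : N.center ≤ S := hNc.1.trans inf_le_left
    have hSN : S ≤ Cfsg.FusionSystem.normalizerIn S ((W ↥S).map S.subtype) :=
      le_inf le_rfl (Subgroup.le_normalizer.trans (Cfsg.Agent.Lib.Helper87_GTFunctor.normalizer_le hW S hS))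
    have hZ : ∀ z ∈ N.center, ∀ s ∈ S, s * z = z * s := fun z hz s hs =>
      Cfsg.FusionSystem.center_le_centralizer N hz s (hSN hs)
    have H0 : Cfsg.Agent.Lib.Helper72_FusWC.AutFix F N.center (inducedFunctor W S) :=
      Cfsg.Agent.Lib.Helper72_FusWC.autFix_center_normalizerSystem F N hN
    refine le_sSup (Cfsg.Agent.Lib.Helper72_FusWC.weakClosure_of_group hS F hF hW hWZ N.center hZS hZ H0 ?_)
    intro R _ _ _ _ _ _ L _ _ ι T' _ hT' z _ hzcore hnorm g
    have hCL := hC L T'
    have hzT' : ι z ∈ (T' : Subgroup L) := hT' ▸ ⟨z, rfl⟩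
    have hzN : ι z ∈ Subgroup.normalizer (((W ↥(T' : Subgroup L)).map (T' : Subgroup L).subtype :
        Subgroup L) : Set L) :=
      (Subgroup.le_normalizer.trans
        (Cfsg.Agent.Lib.Helper87_GTFunctor.normalizer_le hW (T' : Subgroup L) T'.isPGroup')) hzT'
    have hzc : (⟨ι z, hzN⟩ : ↥(Subgroup.normalizer (((W ↥(T' : Subgroup L)).map
        (T' : Subgroup L).subtype : Subgroup L) : Set L))) ∈ Subgroup.center _ := by
      rw [Subgroup.mem_center_iff]
      intro n
      apply Subtype.ext
      have h1 := hnorm n n.2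
      show (n : L) * ι z = ι z * (n : L)
      calc (n : L) * ι z = (n : L) * ι z * (n : L)⁻¹ * (n : L) := by group
        _ = ι z * (n : L) := by rw [h1]
    have hmem : ι z ∈ Cfsg.pCore p L ⊓ Subgroup.center L := by
      rw [hCL]
      exact Subgroup.mem_inf.2 ⟨hzcore, ⟨_, hzc, rfl⟩⟩
    have hcen := (Subgroup.mem_inf.1 hmem).2
    rw [Subgroup.mem_center_iff] at hcen
    rw [hcen g, mul_inv_cancel_right]
  · exact Cfsg.Agent.Lib.Helper72_FusWC.center_le_center_normalizerSystem F hVS N hN

end Cfsg.Agent.S5196
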