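import Cfsg.Statements.S5329
import Cfsg.Agent.Lib.Helper87_Alperin
import Cfsg.Agent.Lib.Helper85_Fusion
import Cfsg.Agent.Lib.Helper88_Biset9

set_option autoImplicit false
open Cfsg

namespace Cfsg.Agent.S5329

/-- For a saturated fusion system F over a finite p-group S, the focal subgroup and the derived subgroup of S meet the centre Z(F) of the system in the same subgroup: foc(F) ∩ Z(F) = S′ ∩ Z(F). -/
theorem result {Ω : Type*} [Group Ω] {S : Subgroup Ω} [Finite S] (p : ℕ) [Fact p.Prime] (hS : IsPGroup p S) (F : Cfsg.FusionSystem S) (hF : F.IsSaturated p) : F.focalSubgroup ⊓ F.center = ⁅(S : Subgroup Ω), (S : Subgroup Ω)⁆ ⊓ F.center := by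
  classical
  obtain ⟨m, V, hm, hV1, hV2⟩ := Cfsg.Agent.Lib.Helper88_Biset9.exists_transfer hS F hF
  have hcen := Cfsg.Agent.Lib.Helper85_Fusion.isCentral_center F
  apply le_antisymm
  · rintro z ⟨hzf, hzc⟩
    refine ⟨?_, hzc⟩
    have hzS : z ∈ S := hcen.1 hzc
    -- the transfer kills the focal subgroup
    have hkill : ∀ y ∈ F.focalSubgroup, ∃ hy : y ∈ S, V ⟨y, hy⟩ = 1 := by
      intro y hy
      unfold Cfsg.FusionSystem.focalSubgroup at hy
      induction hy using Subgroup.closure_induction with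
      | mem y hy =>
        obtain ⟨P, φ, x, hφ, rfl⟩ := hy
        have hf : Cfsg.Agent.Lib.Helper87_Alperin.IsMapOn F P
            (Cfsg.Agent.Lib.Helper87_Alperin.extHom φ) :=
          Cfsg.Agent.Lib.Helper87_Alperin.isMapOn_extHom F hφ
        have hxS : (x : Ω) ∈ S := hf.le x.2
        have hφS : φ x ∈ S := by
          have := hf.mem x.2
          rwa [Cfsg.Agent.Lib.Helper87_Alperin.extHom_coe] at this
        have h1 := hV1 P _ hf x x.2
        refine ⟨S.mul_mem (S.inv_mem hxS) hφS, ?_⟩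
        have h2 : (⟨(x : Ω)⁻¹ * φ x, S.mul_mem (S.inv_mem hxS) hφS⟩ : ↥S) =
            (⟨x, hxS⟩ : ↥S)⁻¹ * ⟨φ x, hφS⟩ := rfl
        rw [h2, map_mul, map_inv]
        have h3 : (⟨Cfsg.Agent.Lib.Helper87_Alperin.extHom φ (x : Ω), hf.mem x.2⟩ : ↥S) =
            ⟨φ x, hφS⟩ := Subtype.ext (Cfsg.Agent.Lib.Helper87_Alperin.extHom_coe φ x)
        rw [h3] at h1
        rw [h1, inv_mul_cancel]
      | one => exact ⟨S.one_mem, map_one V⟩
      | mul a b _ _ ha hb =>
        obtain ⟨haS, hVa⟩ := ha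
        obtain ⟨hbS, hVb⟩ := hb
        refine ⟨S.mul_mem haS hbS, ?_⟩
        have h2 : (⟨a * b, S.mul_mem haS hbS⟩ : ↥S) = ⟨a, haS⟩ * ⟨b, hbS⟩ := rfl
        rw [h2, map_mul, hVa, hVb, one_mul]
      | inv a _ ha =>
        obtain ⟨haS, hVa⟩ := ha
        refine ⟨S.inv_mem haS, ?_⟩
        have h2 : (⟨a⁻¹, S.inv_mem haS⟩ : ↥S) = (⟨a, haS⟩ : ↥S)⁻¹ := rfl
        rw [h2, map_inv, hVa, inv_one]
    obtain ⟨_, hVz⟩ := hkill z hzf
    -- `z` and its powers are fixed by all maps of the system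
    have hfix : ∀ (Q : Subgroup Ω) (f : Ω → Ω), Cfsg.Agent.Lib.Helper87_Alperin.IsMapOn F Q f →
        ∀ k : ℕ, z ^ k ∈ Q → f (z ^ k) = z ^ k := by
      rintro Q f ⟨φ, hφ, hφf⟩ k hk
      obtain ⟨ψ, -, hψ1, hψ2⟩ := hcen.2 Q φ hφ
      have hzk : z ^ k ∈ F.center := F.center.pow_mem hzc k
      have h1 := hψ1 ⟨z ^ k, hk⟩
      have h2 := hψ2 ⟨z ^ k, hzk⟩
      have h3 : (Subgroup.inclusion (le_sup_left : Q ≤ Q ⊔ F.center) ⟨z ^ k, hk⟩) =
          Subgroup.inclusion (le_sup_right : F.center ≤ Q ⊔ F.center) ⟨z ^ k, hzk⟩ :=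
        Subtype.ext rfl
      rw [← hφf ⟨z ^ k, hk⟩, ← h1, h3, h2]
    have h1 := hV2 z hzS hfix
    rw [hVz] at h1
    -- `of z` has `p`-power order and `m` is prime to `p`
    have hp : IsPGroup p (Abelianization ↥S) :=
      hS.of_surjective Abelianization.of (QuotientGroup.mk_surjective)
    obtain ⟨k, hk⟩ := hp (Abelianization.of ⟨z, hzS⟩)
    have hd1 := orderOf_dvd_of_pow_eq_one hk
    have hd2 := orderOf_dvd_of_pow_eq_one h1.symm
    have hcop : Nat.Coprime (p ^ k) m :=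
      Nat.Coprime.pow_left k ((Nat.Prime.coprime_iff_not_dvd (Fact.out : p.Prime)).2 hm)
    have hone : orderOf (Abelianization.of (⟨z, hzS⟩ : ↥S)) = 1 :=
      Nat.eq_one_of_dvd_coprimes hcop hd1 hd2
    rw [orderOf_eq_one_iff] at hone
    have hmem : (⟨z, hzS⟩ : ↥S) ∈ commutator ↥S := by
      rw [← Abelianization.ker_of, MonoidHom.mem_ker]
      exact hone
    have h4 : (commutator ↥S).map S.subtype = ⁅(S : Subgroup Ω), (S : Subgroup Ω)⁆ :=
      Subgroup.map_subtype_commutator S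
    rw [← h4]
    exact ⟨⟨z, hzS⟩, hmem, rfl⟩
  · rintro z ⟨hzd, hzc⟩
    refine ⟨?_, hzc⟩
    have hle : ⁅(S : Subgroup Ω), (S : Subgroup Ω)⁆ ≤ F.focalSubgroup := by
      rw [Subgroup.commutator_le]
      intro a ha b hb
      have hgen : b * a * b⁻¹ * a⁻¹ ∈ F.focalSubgroup := by
        apply Subgroup.subset_closure
        refine ⟨S, Cfsg.conjHom S a, ⟨b⁻¹, S.inv_mem hb⟩, F.conj_mem le_rfl ha, ?_⟩
        show b * a * b⁻¹ * a⁻¹ = (b⁻¹)⁻¹ * (a * b⁻¹ * a⁻¹)
        group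
      have h5 : a * b * a⁻¹ * b⁻¹ = (b * a * b⁻¹ * a⁻¹)⁻¹ := by
        group
      rw [commutatorElement_def, h5]
      exact F.focalSubgroup.inv_mem hgen
    exact hle hzd

end Cfsg.Agent.S5329
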