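import Cfsg.Statements.S5198
import Cfsg.Agent.Lib.Helper87_Hyperfocal
import Cfsg.Agent.Lib.Helper87_AutSystem
import Cfsg.Agent.Lib.Helper2_PResidual

set_option autoImplicit false
open Cfsg

namespace Cfsg.Agent.S5198

open Cfsg.FusionSystem Cfsg.Agent.Lib Cfsg.Agent.Lib.Helper87_Alperin Cfsg.Agent.Lib.Helper87_Alperin2
  Cfsg.Agent.Lib.Helper87_Normal Cfsg.Agent.Lib.Helper87_ModT Cfsg.Agent.Lib.Helper87_Factor
  Cfsg.Agent.Lib.Helper87_Hyperfocal Cfsg.Agent.Lib.Helper87_AutSystem Cfsg.Agent.Lib.Helper2_PResidual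

/-- If `ψ ∈ Aut_F(D)` agrees modulo the strongly closed subgroup `T` with `α ∈ Aut(P)` on `P ≤ D`, then the same
holds for their powers. -/
theorem pow_agree {Ω : Type*} [Group Ω] {S : Subgroup Ω} {F : Cfsg.FusionSystem S} {T P D : Subgroup Ω}
    (hT : F.StronglyClosed T) (hDS : D ≤ S) (hPD : P ≤ D) (α : MulAut P) (ψ : MulAut D)
    (hψ : ψ ∈ F.autGroup D)
    (h : ∀ a : P, ((α a : P) : Ω)⁻¹ * ((ψ ⟨a, hPD a.2⟩ : D) : Ω) ∈ T) (j : ℕ) :
    ∀ a : P, (((α ^ j) a : P) : Ω)⁻¹ * (((ψ ^ j) ⟨a, hPD a.2⟩ : D) : Ω) ∈ T := by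
  induction j with
  | zero =>
    intro a
    simp
  | succ j ih =>
    intro a
    rw [pow_succ, pow_succ, MulAut.mul_apply, MulAut.mul_apply]
    -- `ψ a = α a * t₀`
    set t₀ : Ω := ((α a : P) : Ω)⁻¹ * ((ψ ⟨a, hPD a.2⟩ : D) : Ω) with ht₀
    have ht₀T : t₀ ∈ T := h a
    have ht₀D : t₀ ∈ D := D.mul_mem (D.inv_mem (hPD (α a).2)) (ψ ⟨a, hPD a.2⟩).2
    have h1 : ψ ⟨a, hPD a.2⟩ = ⟨((α a : P) : Ω), hPD (α a).2⟩ * ⟨t₀, ht₀D⟩ := by
      apply Subtype.ext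
      show ((ψ ⟨a, hPD a.2⟩ : D) : Ω) = ((α a : P) : Ω) * t₀
      rw [ht₀]
      group
    rw [h1, map_mul]
    have h2 := ih (α a)
    have hψj : ψ ^ j ∈ F.autGroup D := (F.autGroup D).pow_mem hψ j
    have h3 : (((ψ ^ j) ⟨t₀, ht₀D⟩ : D) : Ω) ∈ T := stronglyClosed_aut_mem hT hDS hψj ⟨t₀, ht₀D⟩ ht₀T
    have h4 : (((α ^ j) (α a) : P) : Ω)⁻¹ *
        ((((ψ ^ j) ⟨((α a : P) : Ω), hPD (α a).2⟩ * (ψ ^ j) ⟨t₀, ht₀D⟩ : D)) : Ω) =
        ((((α ^ j) (α a) : P) : Ω)⁻¹ * (((ψ ^ j) ⟨((α a : P) : Ω), hPD (α a).2⟩ : D) : Ω)) *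
          (((ψ ^ j) ⟨t₀, ht₀D⟩ : D) : Ω) := by
      rw [Subgroup.coe_mul, mul_assoc]
    rw [h4]
    exact T.mul_mem h2 h3

/-- Let F be a saturated fusion system over a finite p-group S and T a subgroup of S strongly closed in F (so T is normal in S). Then every element x of the hyperfocal subgroup of F acts on T by conjugation as an element of O^p(Aut_F(T))·Inn(T): there is an automorphism of T in the subgroup generated by the elements of Aut_F(T) of order prime to p together with the inner automorphisms of T that agrees with conjugation by x. -/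
theorem result {Ω : Type*} [Group Ω] {S : Subgroup Ω} [Finite S] (p : ℕ) [Fact p.Prime] (hS : IsPGroup p S) (F : Cfsg.FusionSystem S) (hF : F.IsSaturated p) (T : Subgroup Ω) (hT : F.StronglyClosed T) : ∀ x ∈ F.hyperfocalSubgroup p, ∃ α ∈ ((Cfsg.pResidual p ↥(F.autGroup T)).map (F.autGroup T).subtype ⊔ Cfsg.Inn ↥T : Subgroup (MulAut ↥T)), ∀ t : ↥T, ((α t : ↥T) : Ω) = x * (t : Ω) * x⁻¹ := by
  classical
  have hTS : T ≤ S := hT.1
  have hnormT : S ≤ Subgroup.normalizer (T : Set Ω) := stronglyClosed_le_normalizer hT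
  -- the conjugation action of `S` on `T`
  let c : S →* MulAut T := (Subgroup.normalizerMonoidHom T).comp (Subgroup.inclusion hnormT)
  have hc : ∀ (s : S) (t : T), ((c s t : T) : Ω) = (s : Ω) * t * (s : Ω)⁻¹ := fun s t => rfl
  have hcF : ∀ s : S, c s ∈ F.autGroup T := fun s =>
    autInducedBy_le_autGroup F hTS ((mem_autInducedBy_iff S T (c s)).2 ⟨s, s.2, hc s⟩)
  set A : Subgroup (MulAut T) :=
    (Cfsg.pResidual p ↥(F.autGroup T)).map (F.autGroup T).subtype ⊔ Cfsg.Inn ↥T with hA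
  have hle : F.hyperfocalSubgroup p ≤ (A.comap c).map S.subtype := by
    apply hyperfocal_le
    intro P hP α hα hcop x
    have hyS : (x : Ω)⁻¹ * ((α x : P) : Ω) ∈ S := S.mul_mem (S.inv_mem (hP x.2)) (hP (α x).2)
    refine ⟨⟨_, hyS⟩, ?_, rfl⟩
    show c ⟨_, hyS⟩ ∈ A
    -- the lift of `α`
    have hDS : P ⊔ T ≤ S := sup_le hP hTS
    have hfinD : Finite ↥(P ⊔ T) :=
      Finite.of_injective (Subgroup.inclusion hDS) (Subgroup.inclusion_injective hDS)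
    have hfinP : Finite P := Finite.of_injective (Subgroup.inclusion hP) (Subgroup.inclusion_injective hP)
    have hαmap : IsMapOn F P (extFun α) :=
      ⟨autHom α, (mem_autGroup_iff' F hP α).1 hα, fun y => (extFun_coe α y).symm⟩
    obtain ⟨g, hg, hgα⟩ := exists_lift F hS hF hT hαmap
    have hgD : ∀ y ∈ P ⊔ T, g y ∈ P ⊔ T := by
      intro y hy
      obtain ⟨a, ha, t, ht, rfl⟩ := (mem_sup_iff_exists_mul (hP.trans hnormT) y).1 hy
      rw [hg.map_mul (le_sup_left (a := P) ha) (le_sup_right (b := T) ht)]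
      have h1 : g a = extFun α a * ((extFun α a)⁻¹ * g a) := by group
      rw [h1]
      exact (P ⊔ T).mul_mem (Subgroup.mul_mem_sup (extFun_mem α ha) (hgα a ha))
        (le_sup_right (a := P) (IsMapOn.mem_stronglyClosed hT hg (le_sup_right (b := T) ht) ht))
    obtain ⟨φg, hφg, hφgg⟩ := hg
    have hφgD : ∀ y : ↥(P ⊔ T), φg y ∈ P ⊔ T := fun y => by
      rw [hφgg]
      exact hgD y y.2
    let ψ : MulAut ↥(P ⊔ T) := autOfInjective φg hφgD (F.injective_of_mem hφg)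
    have hψF : ψ ∈ F.autGroup (P ⊔ T) := by
      rw [mem_autGroup_iff' F hDS]
      have h1 : (P ⊔ T).subtype.comp ψ.toMonoidHom = φg := by
        ext y
        rfl
      rw [h1]
      exact hφg
    have hψα : ∀ a : P, ((α a : P) : Ω)⁻¹ * ((ψ ⟨a, (le_sup_left : P ≤ P ⊔ T) a.2⟩ : ↥(P ⊔ T)) : Ω) ∈ T := by
      intro a
      have h1 := hgα a a.2
      rw [extFun_coe] at h1
      show ((α a : P) : Ω)⁻¹ * φg ⟨a, _⟩ ∈ T
      rw [hφgg]
      exact h1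
    -- the part of order prime to `p`
    obtain ⟨k, hk, hk1⟩ := exists_pow_coprime (p := p) ψ (orderOf_pos ψ).ne' hcop
    have hαk : α ^ k = α := by
      have := (pow_eq_pow_iff_modEq (x := α)).2 hk1
      rwa [pow_one] at this
    have hψ₁F : ψ ^ k ∈ F.autGroup (P ⊔ T) := (F.autGroup _).pow_mem hψF k
    have hψ₁α := pow_agree hT hDS (le_sup_left : P ≤ P ⊔ T) α ψ hψF hψα k
    rw [hαk] at hψ₁α
    -- the restriction to `T`
    have hinvT : ∀ t : T, (((ψ ^ k) ⟨t, (le_sup_right : T ≤ P ⊔ T) t.2⟩ : ↥(P ⊔ T)) : Ω) ∈ T :=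
      fun t => stronglyClosed_aut_mem hT hDS hψ₁F ⟨t, (le_sup_right : T ≤ P ⊔ T) t.2⟩ t.2
    have hfinT : Finite T := Finite.of_injective (Subgroup.inclusion hTS) (Subgroup.inclusion_injective hTS)
    let β : MulAut T := restrictAut (le_sup_right : T ≤ P ⊔ T) (ψ ^ k) hinvT
    have hβF : β ∈ F.autGroup T := restrictAut_mem_autGroup F hDS le_sup_right (ψ ^ k) hψ₁F hinvT
    have hβcop : (orderOf β).Coprime p :=
      Nat.Coprime.coprime_dvd_left (orderOf_restrictAut_dvd _ (ψ ^ k) hinvT) hk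
    have hβR : β ∈ (Cfsg.pResidual p ↥(F.autGroup T)).map (F.autGroup T).subtype := by
      refine ⟨⟨β, hβF⟩, ?_, rfl⟩
      apply mem_pResidual_of_coprime
      rw [Subgroup.orderOf_mk]
      exact hβcop
    -- the element `t₀`
    set t₀ : Ω := ((α x : P) : Ω)⁻¹ * (((ψ ^ k) ⟨x, (le_sup_left : P ≤ P ⊔ T) x.2⟩ : ↥(P ⊔ T)) : Ω) with ht₀
    have ht₀T : t₀ ∈ T := hψ₁α x
    have hψ₁x : (((ψ ^ k) ⟨x, (le_sup_left : P ≤ P ⊔ T) x.2⟩ : ↥(P ⊔ T)) : Ω) = ((α x : P) : Ω) * t₀ := by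
      rw [ht₀]
      group
    -- the key relation
    have hrel : β * c ⟨x, hP x.2⟩ = c ⟨α x, hP (α x).2⟩ * c ⟨t₀, hTS ht₀T⟩ * β := by
      ext t
      simp only [MulAut.mul_apply]
      rw [hc, hc]
      show (((ψ ^ k) ⟨((c ⟨x, hP x.2⟩ t : T) : Ω), _⟩ : ↥(P ⊔ T)) : Ω) =
        ((α x : P) : Ω) * (t₀ * (((ψ ^ k) ⟨t, _⟩ : ↥(P ⊔ T)) : Ω) * t₀⁻¹) * ((α x : P) : Ω)⁻¹
      have h1 : (⟨((c ⟨x, hP x.2⟩ t : T) : Ω), (le_sup_right : T ≤ P ⊔ T) (c ⟨x, hP x.2⟩ t).2⟩ : ↥(P ⊔ T)) =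
          ⟨x, (le_sup_left : P ≤ P ⊔ T) x.2⟩ * ⟨t, (le_sup_right : T ≤ P ⊔ T) t.2⟩ *
            (⟨x, (le_sup_left : P ≤ P ⊔ T) x.2⟩ : ↥(P ⊔ T))⁻¹ := by
        apply Subtype.ext
        rw [hc]
        rfl
      rw [h1, map_mul, map_mul, map_inv]
      simp only [Subgroup.coe_mul, Subgroup.coe_inv]
      rw [hψ₁x]
      group
    have hcy : c ⟨_, hyS⟩ = (c ⟨x, hP x.2⟩)⁻¹ * c ⟨α x, hP (α x).2⟩ := by
      rw [← map_inv, ← map_mul]
      rfl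
    have hcα : c ⟨α x, hP (α x).2⟩ = β * c ⟨x, hP x.2⟩ * β⁻¹ * (c ⟨t₀, hTS ht₀T⟩)⁻¹ := by
      rw [hrel]
      group
    have hfinal : c ⟨_, hyS⟩ = ((c ⟨x, hP x.2⟩)⁻¹ * β * ((c ⟨x, hP x.2⟩)⁻¹)⁻¹) * β⁻¹ *
        (c ⟨t₀, hTS ht₀T⟩)⁻¹ := by
      rw [hcy, hcα]
      group
    rw [hfinal]
    have hconj : (c ⟨x, hP x.2⟩)⁻¹ * β * ((c ⟨x, hP x.2⟩)⁻¹)⁻¹ ∈
        (Cfsg.pResidual p ↥(F.autGroup T)).map (F.autGroup T).subtype := by
      obtain ⟨b, hb, hbβ⟩ := hβR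
      have hu : (c ⟨x, hP x.2⟩)⁻¹ ∈ F.autGroup T := (F.autGroup T).inv_mem (hcF _)
      have h1 := (pResidual_normal (G := ↥(F.autGroup T)) (p := p)).conj_mem b hb ⟨_, hu⟩
      refine ⟨_, h1, ?_⟩
      rw [← hbβ]
      rfl
    have hinn : (c ⟨t₀, hTS ht₀T⟩)⁻¹ ∈ Cfsg.Inn ↥T := by
      apply Subgroup.inv_mem
      refine ⟨⟨t₀, ht₀T⟩, ?_⟩
      ext t
      rfl
    exact Subgroup.mul_mem_sup
      (Subgroup.mul_mem _ hconj (Subgroup.inv_mem _ hβR)) hinn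
  intro x hx
  obtain ⟨s, hs, rfl⟩ := hle hx
  exact ⟨c s, hs, fun t => hc s t⟩

end Cfsg.Agent.S5198
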