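import Cfsg.Statements.S5199
import Cfsg.Agent.Lib.Helper87_Alperin2
import Cfsg.Agent.Lib.Helper2_PResidual

set_option autoImplicit false
open Cfsg

namespace Cfsg.Agent.S5199

open Cfsg.FusionSystem Cfsg.Agent.Lib Cfsg.Agent.Lib.Helper87_Alperin Cfsg.Agent.Lib.Helper87_Alperin2
  Cfsg.Agent.Lib.Helper2_PResidual

/-- The maps of a system `F₀` over `U` between subgroups of `T ≤ U`, when these all take values in `T`, form a
fusion system over `T`. -/
def restrictSystem {Ω : Type*} [Group Ω] {U T : Subgroup Ω} (F₀ : Cfsg.FusionSystem U) (hTU : T ≤ U)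
    (hcl : ∀ (P : Subgroup Ω) (φ : P →* Ω), φ ∈ F₀.Hom P → P ≤ T → ∀ x : P, φ x ∈ T) :
    Cfsg.FusionSystem T where
  Hom P := {φ | φ ∈ F₀.Hom P ∧ P ≤ T}
  le_of_mem := by
    rintro P φ ⟨hφ, hP⟩
    exact ⟨hP, hcl P φ hφ hP⟩
  injective_of_mem h := F₀.injective_of_mem h.1
  conj_mem := by
    intro P g hP hg
    exact ⟨F₀.conj_mem (hP.trans hTU) (hTU hg), hP⟩
  comp_mem := by
    rintro P Q φ ψ ⟨hφ, hP⟩ ⟨hψ, -⟩ h
    exact ⟨F₀.comp_mem hφ hψ h, hP⟩
  inv_mem := by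
    rintro P φ ⟨hφ, hP⟩
    obtain ⟨ψ, hψ, hψφ⟩ := F₀.inv_mem hφ
    refine ⟨ψ, ⟨hψ, ?_⟩, hψφ⟩
    rintro _ ⟨x, rfl⟩
    exact hcl P φ hφ hP x

/-- Let F be a saturated fusion system over a finite p-group S, E a normal subsystem of F over T, and F₀ a normal subsystem of F over a subgroup U containing both T and the hyperfocal subgroup of F, such that F₀ has p-power index in F. Then E is a subsystem of F₀. -/
theorem result {Ω : Type*} [Group Ω] {S : Subgroup Ω} [Finite S] (p : ℕ) [Fact p.Prime] (hS : IsPGroup p S) (F : Cfsg.FusionSystem S) (hF : F.IsSaturated p) {T U : Subgroup Ω} (E : Cfsg.FusionSystem T) (hE : E.IsNormalIn F p) (F₀ : Cfsg.FusionSystem U) (hF₀ : F₀.IsNormalIn F p) (hU : T ⊔ F.hyperfocalSubgroup p ≤ U) (hidx : F₀.HasPPowerIndexIn F p) : E.IsSubsystemOf F₀ := by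
  classical
  obtain ⟨⟨hEsat, -, hEF, hTsc, -, -⟩, -⟩ := hE
  obtain ⟨hF₀F, -, hres⟩ := hidx
  have hTU : T ≤ U := le_sup_left.trans hU
  have hTS : T ≤ S := hTsc.1
  have hfinT : Finite T := Finite.of_injective (Subgroup.inclusion hTS) (Subgroup.inclusion_injective hTS)
  have hTp : IsPGroup p T := hS.to_le hTS
  have hcl : ∀ (P : Subgroup Ω) (φ : P →* Ω), φ ∈ F₀.Hom P → P ≤ T → ∀ x : P, φ x ∈ T :=
    fun P φ hφ hP x => hTsc.2 P hP φ (hF₀F P hφ) x
  have key := weak_alperin E hTp hEsat (restrictSystem F₀ hTU hcl) ?_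
  · intro P φ hφ
    exact (key P hφ).1
  intro Q hQa _ α hα
  obtain ⟨hQT, Rsyl, hRsyl⟩ := hQa
  have hQU : Q ≤ U := hQT.trans hTU
  have hQS : Q ≤ S := hQT.trans hTS
  have hfinQ : Finite Q := Finite.of_injective (Subgroup.inclusion hQS) (Subgroup.inclusion_injective hQS)
  have hfinK : Finite (E.autGroup Q) := inferInstance
  refine ⟨?_, hQT⟩
  show autHom α ∈ F₀.Hom Q
  rw [← mem_autGroup_iff' F₀ hQU α]
  -- `Aut_E(Q) ≤ Aut_F(Q)`
  have hEFaut : E.autGroup Q ≤ F.autGroup Q := by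
    intro γ hγ
    rw [mem_autGroup_iff' F hQS]
    exact hEF Q ((mem_autGroup_iff' E hQT γ).1 hγ)
  -- decompose `α`
  have htop : (⟨α, hα⟩ : E.autGroup Q) ∈ (Rsyl : Subgroup (E.autGroup Q)) ⊔ Cfsg.pResidual p (E.autGroup Q) := by
    rw [sylow_sup_pResidual]
    exact Subgroup.mem_top _
  obtain ⟨s, hs, o, ho, hso⟩ := Subgroup.mem_sup_of_normal_right.1 htop
  have hαeq : α = (s : MulAut Q) * (o : MulAut Q) := by
    have := congrArg Subtype.val hso
    exact this.symm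
  rw [hαeq]
  apply Subgroup.mul_mem
  · -- the Sylow part is induced by `T ≤ U`
    rw [hRsyl, Subgroup.mem_subgroupOf, mem_autInducedBy_iff] at hs
    obtain ⟨g, hg, hgs⟩ := hs
    exact autInducedBy_le_autGroup F₀ hQU ((mem_autInducedBy_iff U Q _).2 ⟨g, hTU hg, hgs⟩)
  · -- the part of order prime to `p`
    apply hres Q hQU
    have hle : Cfsg.pResidual p (E.autGroup Q) ≤
        ((Cfsg.pResidual p (F.autGroup Q)).map (F.autGroup Q).subtype).comap (E.autGroup Q).subtype := by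
      unfold Cfsg.pResidual
      apply (Subgroup.closure_le _).2
      intro γ hγ
      have hγ' : (orderOf γ).Coprime p := hγ
      refine ⟨⟨(γ : MulAut Q), hEFaut γ.2⟩, ?_, rfl⟩
      apply Subgroup.subset_closure
      show (orderOf (⟨(γ : MulAut Q), hEFaut γ.2⟩ : F.autGroup Q)).Coprime p
      rw [Subgroup.orderOf_mk, Subgroup.orderOf_coe]
      exact hγ'
    exact hle ho

end Cfsg.Agent.S5199
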