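import Cfsg.Statements.S5204
import Cfsg.Agent.Lib.Helper84_KLMain
import Cfsg.Agent.Lib.Helper1_ZJFunctor
import Cfsg.Agent.S0659

set_option autoImplicit false
open Cfsg

namespace Cfsg.Agent.S5204

open Cfsg.Agent.Lib.Helper84_KLMain Cfsg.Agent.Lib.Helper1_ZJFunctor

/-- The Glauberman–Thompson normal p-complement criterion for fusion systems, p odd. Let F be a saturated fusion system over a finite p-group S with p odd, and let Z(J(S)) be the centre of the subgroup generated by the abelian subgroups of S of largest order. Then F is the inner fusion system of S if and only if the normalizer fusion system of Z(J(S)) in F is the inner fusion system of N_S(Z(J(S))) = S. -/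
theorem result {Ω : Type*} [Group Ω] {S : Subgroup Ω} [Finite S] (p : ℕ) [Fact p.Prime] (hS : IsPGroup p S) (F : Cfsg.FusionSystem S) (hF : F.IsSaturated p) (hp : p ≠ 2) : (∀ P : Subgroup Ω, F.Hom P = (Cfsg.innerFusionSystem S).Hom P) ↔ ∀ N : Cfsg.FusionSystem (Cfsg.FusionSystem.normalizerIn S (Cfsg.centerThompsonAOf S)), F.IsNormalizerSystem (Cfsg.centerThompsonAOf S) N → ∀ P : Subgroup Ω, N.Hom P = (Cfsg.innerFusionSystem (Cfsg.FusionSystem.normalizerIn S (Cfsg.centerThompsonAOf S))).Hom P := by
  constructor
  · intro h N hN P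
    exact normalizer_inner_of_inner h _ N hN P
  · have e : Cfsg.inducedFunctor WZJ S = Cfsg.centerThompsonAOf S := inducedFunctor_WZJ S
    rw [← e]
    intro h
    refine inner_of_normalizer_inner (isCharPFunctor_WZJ p) ?_ hS F hF h
    intro L _ _ P hL
    rw [inducedFunctor_WZJ] at hL
    exact Cfsg.Agent.S0659.result hp P hL

end Cfsg.Agent.S5204
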