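import Cfsg.Statements.S5206
import Cfsg.Agent.S5299
import Cfsg.Agent.S5091
import Cfsg.Agent.Lib.Helper34_NPC
import Cfsg.Agent.Lib.Helper76_PSolvable
import Cfsg.Agent.Lib.Helper85_Fusion
import Cfsg.Agent.Lib.Helper85_GroupFusion
import Cfsg.Agent.Lib.Helper87_QdPlane
import Cfsg.Agent.Lib.Helper87_QdPlane2
import Cfsg.Agent.Lib.Helper87_QdCentric
import Cfsg.Agent.Lib.Helper87_NormModel

set_option autoImplicit false
universe u
open Cfsg

namespace Cfsg.Agent.S5206

open Cfsg.FusionSystem Cfsg.Agent.Lib.Helper85_Fusion Cfsg.Agent.Lib.Helper85_GroupFusion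
  Cfsg.Agent.Lib.Helper87_QdPlane Cfsg.Agent.Lib.Helper87_QdPlane2
  Cfsg.Agent.Lib.Helper87_QdCentric Cfsg.Agent.Lib.Helper87_NormModel
  Cfsg.Agent.Lib.Helper76_PSolvable

/-- Conjugation carries `N_G(Q)` into `N_G(Q^g)`. -/
theorem involves_normalizer_conj {G : Type u} [Group G] {A : Type*} [Group A] (Q : Subgroup G)
    (g : G) (h : Cfsg.Involves A ↥(Subgroup.normalizer (Q : Set G))) :
    Cfsg.Involves A ↥(Subgroup.normalizer ((conjSub g Q : Subgroup G) : Set G)) := by
  have hmem : ∀ x : ↥(Subgroup.normalizer (Q : Set G)),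
      ((MulAut.conj g).toMonoidHom.comp (Subgroup.normalizer (Q : Set G)).subtype) x ∈
        Subgroup.normalizer ((conjSub g Q : Subgroup G) : Set G) := by
    intro x
    rw [← conjSub_normalizer]
    exact conj_mem_conjSub x.2
  refine Cfsg.Agent.S5299.involves_of_injective
    (((MulAut.conj g).toMonoidHom.comp (Subgroup.normalizer (Q : Set G)).subtype).codRestrict
      _ hmem) ?_ h
  intro x y hxy
  have h1 := congrArg Subtype.val hxy
  have h2 : g * (x : G) * g⁻¹ = g * (y : G) * g⁻¹ := h1
  exact Subtype.ext (mul_left_cancel (mul_right_cancel h2))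

/-- Let p be an odd prime, G a finite group and P a Sylow p-subgroup of G. Then the fusion system of G on P is Qd(p)-free (Qd(p), the natural semidirect product of an elementary abelian group of order p² by SL₂(p), is not involved in any model of the normalizer system of a fully normalized centric subgroup) if and only if Qd(p) is not involved in G. -/
theorem result {G : Type u} [Group G] [Finite G] {p : ℕ} [Fact p.Prime] (hp : p ≠ 2) (P : Sylow p G) : (Cfsg.groupFusionSystem (P : Subgroup G)).IsSectionFree p ↥(Cfsg.qd p) ↔ ¬ Cfsg.Involves ↥(Cfsg.qd p) G := by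
  constructor
  · intro hfree hinv
    obtain ⟨L, W, ψ, hdata, hWp⟩ := exists_planeData_of_involves hinv
    obtain ⟨Q₀, L', hWQ, hQp, hQc, hL'N, hdata'⟩ := exists_centric_planeData hdata hWp
    have h1 : Cfsg.Involves ↥(Cfsg.qd p) ↥L' := involves_qd_of_planeData hp hdata'
    have h2 : Cfsg.Involves ↥(Cfsg.qd p) ↥(Subgroup.normalizer (Q₀ : Set G)) :=
      Cfsg.Agent.S5299.involves_of_injective (Subgroup.inclusion hL'N)
        (Subgroup.inclusion_injective hL'N) h1
    -- conjugate into `P`, fully normalized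
    obtain ⟨g₁, hg₁⟩ := exists_conjSub_le_sylow P hQp
    obtain ⟨g₂, hg₂, hsyl⟩ := exists_conj_normalizer_sylow P (conjSub g₁ Q₀) hg₁
    rw [conjSub_conjSub] at hg₂ hsyl
    set Q : Subgroup G := conjSub (g₂ * g₁) Q₀ with hQ
    have hQc' : PCentric p Q := hQc.conj (g₂ * g₁)
    have h3 : Cfsg.Involves ↥(Cfsg.qd p) ↥(Subgroup.normalizer (Q : Set G)) :=
      involves_normalizer_conj Q₀ (g₂ * g₁) h2
    have hfn : (groupFusionSystem (P : Subgroup G)).IsFullyNormalized Q :=
      (group_isFullyNormalized_iff P Q hg₂).2 hsyl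
    have hcentric : (groupFusionSystem (P : Subgroup G)).IsCentric Q := by
      refine ⟨hg₂, fun R hR => ?_⟩
      obtain ⟨-, -, g', rfl⟩ := (group_isConj_iff _ _ _).1 hR
      exact (hQc'.conj g') _ inf_le_right (P.isPGroup'.to_le inf_le_left)
    have hcen : centralizerIn (P : Subgroup G) Q ≤ Q :=
      hQc' _ inf_le_right (P.isPGroup'.to_le inf_le_left)
    have hN := normalizerSystem_isNormalizerSystem (groupFusionSystem (P : Subgroup G)) Q hg₂
    have hmodel := isModel_normalizer_quotient hg₂ hsyl hcen _ hN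
    have h4 : Cfsg.Involves ↥(Cfsg.qd p) (↥(Subgroup.normalizer (Q : Set G)) ⧸
        pPrimeCore p ↥(Subgroup.normalizer (Q : Set G))) :=
      involves_qd_quotient _ (pPrimeCore_card_coprime p) h3
    exact hfree Q hfn hcentric _ hN _ _ hmodel h4
  · intro hno Q hfn hc N hN L _ ι hL hinvL
    apply hno
    have hQP : Q ≤ (P : Subgroup G) := hfn.1
    have hsyl := (group_isFullyNormalized_iff P Q hQP).1 hfn
    have hcen : centralizerIn (P : Subgroup G) Q ≤ Q :=
      hc.2 Q ((group_isConj_iff _ _ _).2 ⟨hQP, hQP, 1, conjSub_one Q⟩)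
    have hmodel := isModel_normalizer_quotient hQP hsyl hcen N hN
    have hcons := isConstrained_normalizerSystem P hfn hc N hN
    have hT : IsPGroup p ↥(normalizerIn (P : Subgroup G) Q) := P.isPGroup'.to_le inf_le_left
    obtain ⟨φ, -⟩ := Cfsg.Agent.S5091.result p hT N hcons ι _ hL hmodel
    have h1 : Cfsg.Involves ↥(Cfsg.qd p) (↥(Subgroup.normalizer (Q : Set G)) ⧸
        pPrimeCore p ↥(Subgroup.normalizer (Q : Set G))) :=
      Cfsg.Agent.S5299.involves_of_injective φ.toMonoidHom φ.injective hinvL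
    have h2 : Cfsg.Involves ↥(Cfsg.qd p) ↥(Subgroup.normalizer (Q : Set G)) :=
      Cfsg.Agent.Lib.Helper34_NPC.involves_of_surjective (QuotientGroup.mk' _)
        (QuotientGroup.mk'_surjective _) h1
    exact Cfsg.Agent.Lib.Helper34_NPC.involves_of_subgroup _ h2

end Cfsg.Agent.S5206
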