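import Cfsg.Statements.S5218
import Cfsg.Agent.Lib.Helper72_FusWCN3
import Cfsg.Agent.Lib.Helper72_ClassPow3

set_option autoImplicit false
open Cfsg

namespace Cfsg.Agent.S5218

open Cfsg.FusionSystem Cfsg.Agent.Lib.Helper87_Alperin Cfsg.Agent.Lib.Helper87_Alperin2
  Cfsg.Agent.Lib.Helper72_FusWC Cfsg.Agent.Lib.Helper72_FusWCN Cfsg.Agent.Lib.Helper72_ClassPow

universe u

/-- the identity functor -/
def Wid : ∀ (Q : Type u) [Group Q], Subgroup Q := fun _ _ => ⊤

theorem isCharPFunctor_Wid (p : ℕ) : IsCharPFunctor.{u} p Wid := by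
  refine ⟨fun Q _ _ _ hQ => ?_, fun Q R _ _ _ _ φ => ?_⟩
  · show (⊤ : Subgroup Q) ≠ ⊥
    exact top_ne_bot
  · show (⊤ : Subgroup Q).map φ.toMonoidHom = ⊤
    rw [← MonoidHom.range_eq_map]
    exact MonoidHom.range_eq_top.2 φ.surjective

theorem ind_Wid {G : Type u} [Group G] (P : Subgroup G) : inducedFunctor Wid P = P := by
  show (⊤ : Subgroup ↥P).map P.subtype = P
  rw [← MonoidHom.range_eq_map, Subgroup.range_subtype]

theorem isMapOn_map_pow {Ω : Type u} [Group Ω] {S : Subgroup Ω} {F : FusionSystem S} {P : Subgroup Ω}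
    {f : Ω → Ω} (hf : IsMapOn F P f) {x : Ω} (hx : x ∈ P) (k : ℕ) : f (x ^ k) = (f x) ^ k := by
  induction k with
  | zero => rw [pow_zero, pow_zero, hf.map_one]
  | succ k ih => rw [pow_succ, pow_succ, hf.map_mul (P.pow_mem hx k) hx, ih]

/-- A self-map of `P` in the system maps `℧ⁿ(Z(P))` into itself. -/
theorem selfmap_FP {Ω : Type u} [Group Ω] {S : Subgroup Ω} [Finite S] {F : FusionSystem S} {P : Subgroup Ω}
    {f : Ω → Ω} (hf : IsMapOn F P f) (hfP : ∀ x ∈ P, f x ∈ P) (p n : ℕ) :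
    ∀ x ∈ P, x ∈ FP p n P → f x ∈ FP p n P := by
  have himg := isImage_of_selfmap hf hfP
  -- the subgroup of the elements of `P` mapped into `FP`
  let K : Subgroup Ω :=
    { carrier := {x | x ∈ P ∧ f x ∈ FP p n P}
      one_mem' := ⟨P.one_mem, by rw [hf.map_one]; exact Subgroup.one_mem _⟩
      mul_mem' := by
        rintro a b ⟨ha, ha'⟩ ⟨hb, hb'⟩
        exact ⟨P.mul_mem ha hb, by rw [hf.map_mul ha hb]; exact Subgroup.mul_mem _ ha' hb'⟩
      inv_mem' := by
        rintro a ⟨ha, ha'⟩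
        exact ⟨P.inv_mem ha, by rw [hf.map_inv ha]; exact Subgroup.inv_mem _ ha'⟩ }
  have hle : FP p n P ≤ K := by
    unfold FP Cfsg.powerClosure
    rw [Subgroup.closure_le]
    rintro _ ⟨z, hz, rfl⟩
    refine ⟨P.pow_mem hz.1 _, ?_⟩
    rw [isMapOn_map_pow hf hz.1]
    refine Subgroup.subset_closure ⟨f z, Subgroup.mem_inf.2 ⟨hfP z hz.1, ?_⟩, rfl⟩
    rw [Subgroup.mem_centralizer_iff]
    intro s hs
    obtain ⟨s', hs', rfl⟩ := (himg s).1 hs
    rw [← hf.map_mul hs' hz.1, ← hf.map_mul hz.1 hs', Subgroup.mem_centralizer_iff.1 hz.2 s' hs']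
  intro x _ hxA
  exact (hle hxA).2

/-- Let p be a prime, n a natural number, S a nontrivial finite p-group of nilpotence class at most n(p−1)+1, and F a saturated fusion system over S. Then the subgroup generated by the pⁿ-th powers of the elements of Z(S) is normal in F. -/
theorem result {Ω : Type*} [Group Ω] {S : Subgroup Ω} [Finite S] (p : ℕ) [Fact p.Prime] (hS : IsPGroup p S) (F : Cfsg.FusionSystem S) (hF : F.IsSaturated p) (n : ℕ) (hS1 : S ≠ ⊥) (hcl : Subgroup.lowerCentralSeries S (n * (p - 1) + 1) = ⊥) : F.IsNormal (Cfsg.powerClosure p n (S ⊓ Subgroup.centralizer (S : Set Ω))) := by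
  have hAS : FP p n S ≤ S := (FP_le p n S).trans inf_le_left
  have hAc : ∀ z ∈ FP p n S, ∀ s ∈ S, s * z = z * s := fun z hz s hs =>
    Subgroup.mem_centralizer_iff.1 (FP_le p n S hz).2 s hs
  show F.IsNormal (FP p n S)
  refine isNormal_of_group hS F hF (isCharPFunctor_Wid p) (fun Q _ _ _ => le_top) (FP p n S) hAS hAc ?_ ?_
  · -- the automorphisms of `S`
    rw [ind_Wid]
    intro f hf hfS x hx hxA
    exact selfmap_FP hf hfS p n x hx hxA
  · intro R hRS hRne hRa hRr hRc hRrad L _ _ ι T' hM hT' hcore hnorm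
    rw [ind_Wid] at hnorm
    have hTS : normalizerIn S R ≤ S := inf_le_left
    -- the class of `T'`
    have hclT : (T' : Subgroup L).lowerCentralSeries (n * (p - 1) + 1) = ⊥ := by
      have h1 : (⊤ : Subgroup ↥(normalizerIn S R)).lowerCentralSeries (n * (p - 1) + 1) = ⊥ := by
        have h2 := Subgroup.top_subtype_lowerCentralSeries (normalizerIn S R) (n * (p - 1) + 1)
        have h3 := Subgroup.lowerCentralSeries_mono (n * (p - 1) + 1) hTS
        simp only at h3
        rw [hcl, ← h2, le_bot_iff] at h3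
        exact (Subgroup.map_eq_bot_iff_of_injective _ (Subgroup.subtype_injective _)).1 h3
      rw [hT', MonoidHom.range_eq_map, ← Subgroup.map_lowerCentralSeries, h1, Subgroup.map_bot]
    refine normal_of_class n T' hclT _ ?_ hcore hnorm
    -- the image of `A` lies in `℧ⁿ(Z(T'))`
    let K : Subgroup Ω := ((FP p n (T' : Subgroup L)).comap ι).map (normalizerIn S R).subtype
    have hle : FP p n S ≤ K := by
      unfold FP Cfsg.powerClosure
      rw [Subgroup.closure_le]
      rintro _ ⟨z, hz, rfl⟩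
      have hzT : z ∈ normalizerIn S R := by
        refine Subgroup.mem_inf.2 ⟨hz.1, ?_⟩
        refine (Subgroup.centralizer_le_normalizer (R : Set Ω)) ?_
        exact Subgroup.centralizer_le (by exact_mod_cast hRS) hz.2
      refine ⟨(⟨z, hzT⟩ : ↥(normalizerIn S R)) ^ (p ^ n), ?_, rfl⟩
      show ι ((⟨z, hzT⟩ : ↥(normalizerIn S R)) ^ (p ^ n)) ∈ FP p n (T' : Subgroup L)
      rw [map_pow]
      refine Subgroup.subset_closure ⟨ι ⟨z, hzT⟩, Subgroup.mem_inf.2 ⟨?_, ?_⟩, rfl⟩
      · rw [hT']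
        exact ⟨_, rfl⟩
      · rw [Subgroup.mem_centralizer_iff]
        intro y hy
        rw [SetLike.mem_coe, hT'] at hy
        obtain ⟨t, rfl⟩ := hy
        rw [← map_mul, ← map_mul]
        congr 1
        apply Subtype.ext
        exact Subgroup.mem_centralizer_iff.1 hz.2 t (hTS t.2)
    rintro _ ⟨t, ht, rfl⟩
    obtain ⟨t', ht', htt'⟩ := hle (Subgroup.mem_subgroupOf.1 ht)
    have : t' = t := Subtype.ext htt'
    rw [← this]
    exact ht'

end Cfsg.Agent.S5218
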