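import Cfsg.Statements.S5219
import Cfsg.Agent.S5218
import Cfsg.Agent.Lib.Helper72_ExpClass

set_option autoImplicit false
open Cfsg

namespace Cfsg.Agent.S5219

/-- Let p be a prime, n a natural number, S a nontrivial finite p-group of nilpotence class at most n(p−1)+1, and F a saturated fusion system over S with no nontrivial normal subgroup (O_p(F) = 1). Then S has exponent dividing p^(n²(p−1)+n). -/
theorem result {Ω : Type*} [Group Ω] {S : Subgroup Ω} [Finite S] (p : ℕ) [Fact p.Prime] (hS : IsPGroup p S) (F : Cfsg.FusionSystem S) (hF : F.IsSaturated p) (n : ℕ) (hS1 : S ≠ ⊥) (hcl : Subgroup.lowerCentralSeries S (n * (p - 1) + 1) = ⊥) (hcore : F.core = ⊥) : Monoid.exponent ↥S ∣ p ^ (n ^ 2 * (p - 1) + n) := by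
  have hN := Cfsg.Agent.S5218.result p hS F hF n hS1 hcl
  have hA : Cfsg.powerClosure p n (S ⊓ Subgroup.centralizer (S : Set Ω)) = ⊥ := by
    have h1 : Cfsg.powerClosure p n (S ⊓ Subgroup.centralizer (S : Set Ω)) ≤ F.core := le_sSup hN
    rw [hcore] at h1
    exact le_bot_iff.1 h1
  have hm : ∀ z ∈ Subgroup.center ↥S, z ^ (p ^ n) = 1 := by
    intro z hz
    have hzZ : (z : Ω) ∈ S ⊓ Subgroup.centralizer (S : Set Ω) := by
      refine Subgroup.mem_inf.2 ⟨z.2, ?_⟩
      rw [Subgroup.mem_centralizer_iff]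
      intro s hs
      have := Subgroup.mem_center_iff.1 hz ⟨s, hs⟩
      exact congrArg Subtype.val this
    have h1 : (z : Ω) ^ (p ^ n) ∈ Cfsg.powerClosure p n (S ⊓ Subgroup.centralizer (S : Set Ω)) :=
      Subgroup.subset_closure ⟨z, hzZ, rfl⟩
    rw [hA, Subgroup.mem_bot] at h1
    apply Subtype.ext
    rw [Subgroup.coe_pow, h1]
    rfl
  have hc : (⊤ : Subgroup ↥S).lowerCentralSeries (n * (p - 1) + 1) = ⊥ := by
    have h2 := Subgroup.top_subtype_lowerCentralSeries S (n * (p - 1) + 1)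
    rw [hcl] at h2
    exact (Subgroup.map_eq_bot_iff_of_injective _ (Subgroup.subtype_injective _)).1 h2
  have h3 := Cfsg.Agent.Lib.Helper72_ExpClass.exponent_dvd_of_class (p ^ n) (n * (p - 1) + 1) hm hc
  have e : n * (n * (p - 1) + 1) = n ^ 2 * (p - 1) + n := by ring
  rwa [← pow_mul, e] at h3

end Cfsg.Agent.S5219
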