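import Cfsg.Statements.S5220
import Cfsg.Agent.Lib.Helper72_Gen4

set_option autoImplicit false
open Cfsg

namespace Cfsg.Agent.S5220

/-- Let F be a saturated fusion system over a nontrivial finite p-group S, let J(S) be the subgroup generated by the abelian subgroups of S of largest order, and let V be the subgroup generated by the p-th powers of the elements of Z(S). Then F is generated by the centralizer fusion system of V and the normalizer fusion system of J(S): every fusion system over S containing the maps of both contains every map of F. -/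
theorem result {Ω : Type*} [Group Ω] {S : Subgroup Ω} [Finite S] (p : ℕ) [Fact p.Prime] (hS : IsPGroup p S) (F : Cfsg.FusionSystem S) (hF : F.IsSaturated p) (hS1 : S ≠ ⊥) (C : Cfsg.FusionSystem (Cfsg.FusionSystem.centralizerIn S (Cfsg.powerClosure p 1 (S ⊓ Subgroup.centralizer (S : Set Ω))))) (hC : F.IsCentralizerSystem (Cfsg.powerClosure p 1 (S ⊓ Subgroup.centralizer (S : Set Ω))) C) (N : Cfsg.FusionSystem (Cfsg.FusionSystem.normalizerIn S (Cfsg.thompsonSubgroupAOf S))) (hN : F.IsNormalizerSystem (Cfsg.thompsonSubgroupAOf S) N) (E : Cfsg.FusionSystem S) (hCE : C.IsSubsystemOf E) (hNE : N.IsSubsystemOf E) : F.IsSubsystemOf E := by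
  classical
  have hgen : Cfsg.Agent.Lib.Helper72_Gen.GenBy p F :=
    Cfsg.Agent.Lib.Helper72_Gen.mainGen (p := p) _ Ω S rfl hS F hF
  intro P φ hφ
  rw [Cfsg.Agent.Lib.Helper87_Alperin.mem_hom_iff_isMapOn]
  refine hgen E ?_ ?_ P _ (Cfsg.Agent.Lib.Helper87_Alperin.isMapOn_extHom F hφ)
  · intro P f hc
    obtain ⟨ψ, hψ, hψf⟩ := hc.1
    have h2 : Cfsg.Agent.Lib.Helper84_ThCent.CMap F
        (Cfsg.powerClosure p 1 (S ⊓ Subgroup.centralizer (S : Set Ω))) P
        (Cfsg.Agent.Lib.Helper87_Alperin.extHom ψ) := by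
      obtain ⟨h1, hPN, hφN, D, g, hPD, hUD, hg, hgφ, hgU⟩ := hc
      refine ⟨h1.congr (fun x hx => by
          rw [Cfsg.Agent.Lib.Helper87_Alperin.extHom_apply ψ hx, hψf]), hPN,
        fun x hx => by
          rw [Cfsg.Agent.Lib.Helper87_Alperin.extHom_apply ψ hx, hψf]; exact hφN x hx,
        D, g, hPD, hUD, hg,
        fun x hx => by
          rw [hgφ x hx, Cfsg.Agent.Lib.Helper87_Alperin.extHom_apply ψ hx, hψf], hgU⟩
    have h3 : ψ ∈ C.Hom P := by
      rw [hC P]
      exact Cfsg.Agent.Lib.Helper84_ThCent.mem_centralizerHom_of_cmap h2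
    exact ⟨ψ, hCE P h3, hψf⟩
  · intro P f hn
    obtain ⟨ψ, hψ, hψf⟩ := (Cfsg.Agent.Lib.Helper87_GTMain.isMapOn_normalizerSystem_iff hN P f).2 hn
    exact ⟨ψ, hNE P hψ, hψf⟩

end Cfsg.Agent.S5220
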