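import Cfsg.Statements.S5221
import Cfsg.Agent.Lib.Helper87_Sparse
import Cfsg.Agent.Lib.Helper87_Sparse2
import Cfsg.Agent.Lib.Helper88_FactorFree
import Cfsg.Agent.S5194

set_option autoImplicit false
open Cfsg

namespace Cfsg.Agent.S5221

/-- Let F be a sparse fusion system over a finite p-group S: a saturated fusion system, not the inner fusion system of S, whose only saturated fusion systems over S contained in it are F itself and the inner one. If p is odd, or F is S₄-free (the symmetric group of degree 4 is not involved in any model of the normalizer system of a fully normalized F-centric subgroup), then F is constrained. -/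
theorem result {Ω : Type*} [Group Ω] {S : Subgroup Ω} [Finite S] (p : ℕ) [Fact p.Prime] (hS : IsPGroup p S) (F : Cfsg.FusionSystem S) (hF : F.IsSaturated p) (hsp : ¬ (∀ P : Subgroup Ω, F.Hom P = (Cfsg.innerFusionSystem S).Hom P) ∧ ∀ E : Cfsg.FusionSystem S, E.IsSaturated p → E.IsSubsystemOf F → (∀ P : Subgroup Ω, E.Hom P = F.Hom P) ∨ (∀ P : Subgroup Ω, E.Hom P = (Cfsg.innerFusionSystem S).Hom P)) (hp : p ≠ 2 ∨ F.IsSectionFree p (Equiv.Perm (Fin 4))) : F.IsConstrained p := by
  refine Cfsg.Agent.Lib.Helper87_Sparse.isConstrained_of_isSparse hS F hF hsp ?_ ?_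
  · rcases hp with hp | hp
    · exact Cfsg.Agent.Lib.Helper87_Sparse.hasNormCrit_of_ne_two hp hS F hF
    · exact Cfsg.Agent.Lib.Helper87_Sparse2.hasNormCrit_of_thompson hS F hF
        (Cfsg.Agent.S5194.result p hS F hF (Or.inr hp))
  · intro Ω' _ S' _ E X θ hX hE hEsat
    have hS' : IsPGroup p S' := by
      have hr : θ.range = S' := hE.2.2.1
      rw [← hr]
      exact hS.of_surjective θ.rangeRestrict θ.rangeRestrict_surjective
    rcases hp with hp | hp
    · exact Cfsg.Agent.Lib.Helper87_Sparse.hasNormCrit_of_ne_two hp hS' E hEsat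
    · have hfree : E.IsSectionFree p (Equiv.Perm (Fin 4)) :=
        Cfsg.Agent.Lib.Helper88_FactorFree.isSectionFree_factorSystem hS F hF X hX _ hp θ E hE
      exact Cfsg.Agent.Lib.Helper87_Sparse2.hasNormCrit_of_thompson hS' E hEsat
        (Cfsg.Agent.S5194.result p hS' E hEsat (Or.inr hfree))

end Cfsg.Agent.S5221
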