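-- Statement S5223: a saturated fusion system with a terminating focal chain is the inner fusion system.
import Cfsg.Statements.S5223
import Cfsg.Agent.Lib.Helper87_Alperin

set_option autoImplicit false
open Cfsg

namespace Cfsg.Agent.S5223

open Cfsg.Agent.Lib.Helper87_Alperin

/-- Let F be a saturated fusion system over a finite p-group S. Suppose there are subgroups Q₀ = S, Q₁, …, Qₙ = 1 (not required to be nested) such that for each i < n the focal subgroup of Qᵢ (generated by the elements x⁻¹φ(x), x ∈ Qᵢ, φ a map of F defined on the cyclic group generated by x) lies in Qᵢ₊₁. Then F is the inner fusion system of S. -/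
theorem result {Ω : Type*} [Group Ω] {S : Subgroup Ω} [Finite S] (p : ℕ) [Fact p.Prime] (hS : IsPGroup p S) (F : Cfsg.FusionSystem S) (hF : F.IsSaturated p) (n : ℕ) (Q : Fin (n + 1) → Subgroup Ω) (hQ0 : Q 0 = S) (hQn : Q (Fin.last n) = ⊥) (hstep : ∀ i : Fin n, Subgroup.closure {y : Ω | ∃ x ∈ Q i.castSucc, ∃ φ ∈ F.Hom (Subgroup.zpowers x), y = x⁻¹ * φ ⟨x, Subgroup.mem_zpowers x⟩} ≤ Q i.succ) : ∀ P : Subgroup Ω, F.Hom P = (Cfsg.innerFusionSystem S).Hom P := by
  classical
  apply eq_inner_of_autGroup_isPGroup F hS hF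
  intro P hPa _
  have hPS : P ≤ S := hPa.1
  have hfinP : Finite P :=
    Finite.of_injective (Subgroup.inclusion hPS) (Subgroup.inclusion_injective hPS)
  have hPp : IsPGroup p P := hS.to_le hPS
  apply isPGroup_of_coprime_eq_one
  rintro ⟨β, hβ⟩ hcop
  have hcop' : (orderOf β).Coprime p := by
    rwa [← Subgroup.orderOf_mk β hβ]
  let C : ℕ → Subgroup Ω := fun i => if h : i < n + 1 then Q ⟨i, h⟩ else ⊥
  have hCi : ∀ (i : ℕ) (h : i < n + 1), C i = Q ⟨i, h⟩ := fun i h => dif_pos h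
  have hC0 : P ≤ C 0 := by
    rw [hCi 0 (Nat.succ_pos n)]
    have : (⟨0, Nat.succ_pos n⟩ : Fin (n + 1)) = 0 := rfl
    rw [this, hQ0]
    exact hPS
  have hCn : C n = ⊥ := by
    rw [hCi n (Nat.lt_succ_self n)]
    exact hQn
  have hβmap : P.subtype.comp β.toMonoidHom ∈ F.Hom P := (mem_autGroup_iff' F hPS β).1 hβ
  have hstep' : ∀ i < n, ∀ x : P, (x : Ω) ∈ C i → (x : Ω)⁻¹ * ((β x : P) : Ω) ∈ C (i + 1) := by
    intro i hi x hx
    rw [hCi i (by omega)] at hx
    rw [hCi (i + 1) (by omega)]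
    have hzP : Subgroup.zpowers (x : Ω) ≤ P := by
      rw [Subgroup.zpowers_le]
      exact x.2
    have hφ := restrict_mem F hβmap hzP
    have := hstep ⟨i, hi⟩ (Subgroup.subset_closure ⟨(x : Ω), hx, _, hφ, rfl⟩)
    exact this
  have : β = 1 := aut_eq_one_of_chain hPp β hcop' C n hC0 hCn hstep'
  exact Subtype.ext this

end Cfsg.Agent.S5223
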