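import Cfsg.Statements.S5224
import Cfsg.Agent.Lib.Helper84_TateFusion

set_option autoImplicit false
open Cfsg

namespace Cfsg.Agent.S5224

open scoped commutatorElement
open Cfsg.FusionSystem Cfsg.Agent.Lib.Helper87_Alperin Cfsg.Agent.Lib.Helper84_TateFusion

/-- Tate's Theorem for fusion systems. Let F be a saturated fusion system over a finite p-group S and H a saturated fusion system over S contained in F. Then the following are equivalent: the elementary focal subgroups Φ(S)·foc agree for F and H; the focal subgroups of F and H agree; the hyperfocal subgroups of F and H agree. -/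
theorem result {Ω : Type*} [Group Ω] {S : Subgroup Ω} [Finite S] (p : ℕ) [Fact p.Prime] (hS : IsPGroup p S) (F : Cfsg.FusionSystem S) (hF : F.IsSaturated p) (H : Cfsg.FusionSystem S) (hH : H.IsSaturated p) (hHF : H.IsSubsystemOf F) : (((frattini ↥S).map S.subtype ⊔ F.focalSubgroup) = ((frattini ↥S).map S.subtype ⊔ H.focalSubgroup) ↔ F.focalSubgroup = H.focalSubgroup) ∧ (F.focalSubgroup = H.focalSubgroup ↔ F.hyperfocalSubgroup p = H.hyperfocalSubgroup p) := by
  -- monotonicity
  have hfocle : H.focalSubgroup ≤ F.focalSubgroup := by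
    unfold focalSubgroup
    apply Subgroup.closure_mono
    rintro y ⟨P, φ, x, hφ, rfl⟩
    exact ⟨P, φ, x, hHF P hφ, rfl⟩
  have hhyple : H.hyperfocalSubgroup p ≤ F.hyperfocalSubgroup p := by
    apply Cfsg.Agent.Lib.Helper87_Hyperfocal.hyperfocal_le
    intro P hP α hα hcop x
    have h1 : IsMapOn H P (extFun α) := (Cfsg.Agent.Lib.Helper87_Alperin.mem_autGroup_iff H hP α).1 hα
    have h2 : IsMapOn F P (extFun α) := by
      obtain ⟨φ, hφ, hφf⟩ := h1
      exact ⟨φ, hHF P hφ, hφf⟩
    exact Cfsg.Agent.Lib.Helper87_Hyperfocal.mem_hyperfocal hP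
      ((Cfsg.Agent.Lib.Helper87_Alperin.mem_autGroup_iff F hP α).2 h2) hcop x
  have hFfoc := Cfsg.Agent.S5092.result p hS F hF
  have hHfoc := Cfsg.Agent.S5092.result p hS H hH
  -- commutators lie in the focal subgroup of `H`
  have hcomm : ∀ a ∈ S, ∀ b ∈ S, a * b * a⁻¹ * b⁻¹ ∈ H.focalSubgroup := by
    intro a ha b hb
    apply Subgroup.subset_closure
    refine ⟨S, conjHom S b, ⟨a⁻¹, S.inv_mem ha⟩, H.conj_mem le_rfl hb, ?_⟩
    show a * b * a⁻¹ * b⁻¹ = (a⁻¹)⁻¹ * (b * a⁻¹ * b⁻¹)
    group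
  refine ⟨⟨fun h => ?_, fun h => by rw [h]⟩, ⟨fun h => ?_, fun h => by rw [hFfoc, hHfoc, h]⟩⟩
  · apply le_antisymm _ hfocle
    apply focal_le_of_le_frattini_sup hS F hF H.focalSubgroup hfocle hcomm
    rw [← h]
    exact le_sup_right
  · apply le_antisymm _ hhyple
    have hKn : ((H.hyperfocalSubgroup p).subgroupOf S).Normal := by
      constructor
      intro x hx g
      rw [Subgroup.mem_subgroupOf] at hx ⊢
      exact hyperfocal_conj_mem hS H hH g g.2 x hx
    apply hyperfocal_le_of_le_frattini_sup hS F hF (H.hyperfocalSubgroup p) hhyple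
    have hKS : H.hyperfocalSubgroup p ≤ S :=
      Cfsg.Agent.Lib.Helper87_Hyperfocal.hyperfocal_le_base H p
    have hcS : ⁅(S : Subgroup Ω), (S : Subgroup Ω)⁆ ≤ S := by
      rw [Subgroup.commutator_le]
      intro a ha b hb
      exact S.mul_mem (S.mul_mem (S.mul_mem ha hb) (S.inv_mem ha)) (S.inv_mem hb)
    have h1 : F.hyperfocalSubgroup p ≤
        H.hyperfocalSubgroup p ⊔ ⁅(S : Subgroup Ω), (S : Subgroup Ω)⁆ := by
      rw [← hHfoc, ← h, hFfoc]
      exact le_sup_left
    have h2 : (F.hyperfocalSubgroup p).subgroupOf S ≤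
        (H.hyperfocalSubgroup p ⊔ ⁅(S : Subgroup Ω), (S : Subgroup Ω)⁆).subgroupOf S :=
      Subgroup.comap_mono h1
    rw [Subgroup.subgroupOf_sup hKS hcS] at h2
    have h3 : (⁅(S : Subgroup Ω), (S : Subgroup Ω)⁆).subgroupOf S ≤ commutator ↥S := by
      have h4 : ⁅(S : Subgroup Ω), (S : Subgroup Ω)⁆ ≤ (commutator ↥S).map S.subtype := by
        rw [Subgroup.commutator_le]
        intro a ha b hb
        refine ⟨⁅(⟨a, ha⟩ : ↥S), (⟨b, hb⟩ : ↥S)⁆, ?_, ?_⟩
        · rw [commutator_def]
          exact Subgroup.commutator_mem_commutator (Subgroup.mem_top _) (Subgroup.mem_top _)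
        · rw [commutatorElement_def, commutatorElement_def]
          rfl
      intro x hx
      obtain ⟨y, hy, hyx⟩ := h4 hx
      have : y = x := Subtype.ext hyx
      rw [← this]
      exact hy
    exact h2.trans (le_sup_of_le_right (sup_le_sup_left h3 _))

end Cfsg.Agent.S5224
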