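import Cfsg.Statements.S5225
import Cfsg.Agent.S5224
import Cfsg.Agent.S5098
import Cfsg.Agent.Lib.Helper11_FusYoshida

set_option autoImplicit false
open Cfsg

namespace Cfsg.Agent.S5225

/-- Yoshida's Theorem for fusion systems. Let F be a saturated fusion system over a finite p-group S and N the normalizer fusion system of S in F. If the focal subgroups of F and N differ (N does not control transfer in F), then S has a quotient isomorphic to the wreath product C_p ≀ C_p (realised as a Sylow p-subgroup of the symmetric group of degree p²). -/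
theorem result {Ω : Type*} [Group Ω] {S : Subgroup Ω} [Finite S] (p : ℕ) [Fact p.Prime] (hS : IsPGroup p S) (F : Cfsg.FusionSystem S) (hF : F.IsSaturated p) (N : Cfsg.FusionSystem (Cfsg.FusionSystem.normalizerIn S S)) (hN : F.IsNormalizerSystem S N) (hne : N.focalSubgroup ≠ F.focalSubgroup) : ∃ (W : Sylow p (Equiv.Perm (Fin (p ^ 2)))) (f : ↥S →* ↥(W : Subgroup (Equiv.Perm (Fin (p ^ 2))))), Function.Surjective f := by
  by_contra hno
  apply hne
  have hT₀ : Cfsg.FusionSystem.normalizerIn S S = S :=
    le_antisymm inf_le_left (le_inf le_rfl Subgroup.le_normalizer)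
  have h1 := Cfsg.Agent.Lib.Helper11_FusYoshida.focal_le_frattini_sup hS F hF hno N hN
  have hfn : F.IsFullyNormalized S := by
    refine ⟨le_rfl, fun Q _ => ?_⟩
    rw [hT₀]
    exact Subgroup.card_le_of_le inf_le_left
  have hNsat : N.IsSaturated p := Cfsg.Agent.S5098.result p hS F hF S hfn N hN
  have hNF : ∀ P : Subgroup Ω, N.Hom P ⊆ F.Hom P := by
    intro P φ hφ
    rw [hN P] at hφ
    exact hφ.1
  have hle : N.focalSubgroup ≤ F.focalSubgroup := by
    apply Subgroup.closure_mono
    rintro y ⟨P, φ, x, hφ, rfl⟩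
    exact ⟨P, φ, x, hNF P hφ, rfl⟩
  -- the normalizer system as a system over `S`
  obtain ⟨N', hN'hom, hN'sat⟩ : ∃ N' : Cfsg.FusionSystem S, (∀ P : Subgroup Ω, N'.Hom P = N.Hom P) ∧
      N'.IsSaturated p := by
    clear h1 hle hNF hN hne
    revert N
    rw [hT₀]
    intro N hNsat
    exact ⟨N, fun _ => rfl, hNsat⟩
  have hfoc : N'.focalSubgroup = N.focalSubgroup := by
    unfold Cfsg.FusionSystem.focalSubgroup
    simp only [hN'hom]
  have hsub : N'.IsSubsystemOf F := by
    intro P
    rw [hN'hom P]
    exact hNF P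
  have hT := (Cfsg.Agent.S5224.result p hS F hF N' hN'sat hsub).1
  rw [← hfoc]
  refine (hT.1 ?_).symm
  rw [hfoc]
  exact le_antisymm (sup_le le_sup_left h1) (sup_le_sup_left hle _)

end Cfsg.Agent.S5225
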