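import Cfsg.Statements.S5236
import Cfsg.Agent.Lib.Helper87_Normal2

set_option autoImplicit false
open Cfsg

namespace Cfsg.Agent.S5236

open Cfsg.FusionSystem Cfsg.Agent.Lib Cfsg.Agent.Lib.Helper87_Alperin Cfsg.Agent.Lib.Helper87_Alperin2
  Cfsg.Agent.Lib.Helper87_Normal Cfsg.Agent.Lib.Helper87_Normal2 Cfsg.Agent.Lib.Helper87_AutSystem
  Cfsg.Agent.Lib.Helper87_OddOmega
open scoped commutatorElement

/-- The forward direction: if `P` is normal in the system then the intersections of `Ω₁(P)` with the upper central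
series of `P` form the required chain. No saturation or oddness is needed. -/
theorem forward {Ω : Type*} [Group Ω] {S : Subgroup Ω} [Finite S] (p : ℕ) [Fact p.Prime]
    (hS : IsPGroup p S) (F : Cfsg.FusionSystem S) (P : Subgroup Ω) (hN : F.IsNormal P) :
    ∃ (n : ℕ) (Q : Fin (n + 1) → Subgroup Ω), Q 0 = ⊥ ∧ Q (Fin.last n) = Cfsg.omegaOne p P ∧ Monotone Q ∧
      (∀ i : Fin (n + 1), F.StronglyClosed (Q i)) ∧ ∀ i : Fin n, ⁅Q i.succ, P⁆ ≤ Q i.castSucc := by
  classical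
  have hPS : P ≤ S := hN.1
  have hfinP : Finite P := Finite.of_injective (Subgroup.inclusion hPS) (Subgroup.inclusion_injective hPS)
  have hPp : IsPGroup p P := hS.to_le hPS
  have : Group.IsNilpotent P := hPp.isNilpotent
  have hZle : ∀ k : ℕ, (Subgroup.upperCentralSeries P k).map P.subtype ≤ P := by
    intro k
    rintro _ ⟨y, -, rfl⟩
    exact y.2
  -- invariance under automorphisms of `P`
  have hinv : ∀ (k : ℕ) (β : MulAut P) (x : P),
      (x : Ω) ∈ Cfsg.omegaOne p P ⊓ (Subgroup.upperCentralSeries P k).map P.subtype →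
      ((β x : P) : Ω) ∈ Cfsg.omegaOne p P ⊓ (Subgroup.upperCentralSeries P k).map P.subtype := by
    intro k β x hx
    refine ⟨omegaOne_aut_mem p β x hx.1, ?_⟩
    have hchar : (Subgroup.upperCentralSeries P k).map β.toMonoidHom = Subgroup.upperCentralSeries P k :=
      Subgroup.characteristic_iff_map_eq.1 inferInstance β
    obtain ⟨x', hx', hxx⟩ := hx.2
    have h1 : x' = x := Subtype.ext hxx
    subst h1
    refine ⟨β x', ?_, rfl⟩
    rw [← hchar]
    exact ⟨x', hx', rfl⟩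
  have hsc : ∀ k : ℕ,
      F.StronglyClosed (Cfsg.omegaOne p P ⊓ (Subgroup.upperCentralSeries P k).map P.subtype) := by
    intro k
    refine ⟨(inf_le_right.trans (hZle k)).trans hPS, fun R hR φ hφ x => ?_⟩
    obtain ⟨β, hβ⟩ := exists_aut_of_isNormal hN hφ
    have hxP : (x : Ω) ∈ P := hZle k (hR x.2).2
    rw [hβ x hxP]
    exact hinv k β ⟨x, hxP⟩ (hR x.2)
  refine ⟨Group.nilpotencyClass P,
    fun i => Cfsg.omegaOne p P ⊓ (Subgroup.upperCentralSeries P (i : ℕ)).map P.subtype, ?_, ?_, ?_, ?_, ?_⟩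
  · simp [Subgroup.upperCentralSeries_zero]
  · simp only [Fin.val_last, Subgroup.upperCentralSeries_nilpotencyClass]
    rw [← MonoidHom.range_eq_map, Subgroup.range_subtype]
    exact inf_eq_left.2 (omegaOne_le p P)
  · intro i j hij
    exact inf_le_inf_left _ (Subgroup.map_mono (Subgroup.upperCentralSeries_mono P hij))
  · intro i
    exact hsc _
  · intro i
    rw [Subgroup.commutator_le]
    intro a ha b hb
    have haP : a ∈ P := omegaOne_le p P ha.1
    refine ⟨?_, ?_⟩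
    · -- `⁅a, b⁆ = a * (b * a⁻¹ * b⁻¹)`
      have h1 : ⁅a, b⁆ = a * (b * a⁻¹ * b⁻¹) := by
        rw [commutatorElement_def]
        group
      rw [h1]
      refine (Cfsg.omegaOne p P).mul_mem ha.1 ?_
      have h2 := omegaOne_aut_mem p (MulAut.conj (⟨b, hb⟩ : P)) ⟨a⁻¹, P.inv_mem haP⟩
        ((Cfsg.omegaOne p P).inv_mem ha.1)
      exact h2
    · obtain ⟨a', ha', rfl⟩ := ha.2
      simp only [Fin.val_succ] at ha'
      have h1 := Subgroup.mem_upperCentralSeries_succ_iff.1 ha' ⟨b, hb⟩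
      exact ⟨_, h1, rfl⟩

/-- The key step of the converse: every fully automized, centric and radical subgroup contains `P`. -/
theorem le_of_frc {Ω : Type*} [Group Ω] {S : Subgroup Ω} [Finite S] (p : ℕ) [Fact p.Prime]
    (hS : IsPGroup p S) (F : Cfsg.FusionSystem S) (hp : p ≠ 2) (P : Subgroup Ω) (hP : F.StronglyClosed P)
    (n : ℕ) (Q : Fin (n + 1) → Subgroup Ω) (hQ0 : Q 0 = ⊥) (hQn : Q (Fin.last n) = Cfsg.omegaOne p P)
    (hsc : ∀ i : Fin (n + 1), F.StronglyClosed (Q i)) (hcomm : ∀ i : Fin n, ⁅Q i.succ, P⁆ ≤ Q i.castSucc)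
    (R : Subgroup Ω) (hRa : F.IsFullyAutomized p R) (hRc : F.IsCentric R) (hRrad : F.IsRadical p R) :
    P ≤ R := by
  classical
  by_contra hPR
  have hRS : R ≤ S := hRa.1
  have hPS : P ≤ S := hP.1
  have hfinR : Finite R := Finite.of_injective (Subgroup.inclusion hRS) (Subgroup.inclusion_injective hRS)
  have hRp : IsPGroup p R := hS.to_le hRS
  -- the chain indexed by natural numbers
  let Q' : ℕ → Subgroup Ω := fun j => if h : j < n + 1 then Q ⟨j, h⟩ else Cfsg.omegaOne p P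
  have hQ'j : ∀ (j : ℕ) (h : j < n + 1), Q' j = Q ⟨j, h⟩ := fun j h => dif_pos h
  have hQ'0 : Q' 0 = ⊥ := by
    rw [hQ'j 0 (Nat.succ_pos n)]
    exact hQ0
  have hQ'n : Q' n = Cfsg.omegaOne p P := by
    rw [hQ'j n (Nat.lt_succ_self n)]
    exact hQn
  have hQ'comm : ∀ j < n, ⁅Q' (j + 1), P⁆ ≤ Q' j := by
    intro j hj
    rw [hQ'j (j + 1) (by omega), hQ'j j (by omega)]
    exact hcomm ⟨j, hj⟩
  have hQ'sc : ∀ j ≤ n, F.StronglyClosed (Q' j) := by
    intro j hj
    rw [hQ'j j (by omega)]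
    exact hsc ⟨j, by omega⟩
  -- an element of `P` outside `R` normalizing `R`
  have hRnorm : R ≤ Subgroup.normalizer (P : Set Ω) := hRS.trans (stronglyClosed_le_normalizer hP)
  obtain ⟨x, hxP, hxN, hxR⟩ := exists_mem_normalizer_not_mem hS hRS hPS hRnorm hPR
  have hxS : x ∈ S := hPS hxP
  let β : MulAut R := Subgroup.normalizerMonoidHom R ⟨x, hxN⟩
  have hβ : ∀ y : R, ((β y : R) : Ω) = x * y * x⁻¹ := fun y => rfl
  have hβK : β ∈ F.autGroup R :=
    autInducedBy_le_autGroup F hRS ((mem_autInducedBy_iff S R β).2 ⟨x, hxS, hβ⟩)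
  -- the pairs
  let U : ℕ → Subgroup Ω := fun j => if j = 0 then ⊤ else Q' j
  let V : ℕ → Subgroup Ω := fun j => if j = 0 then P else Q' (j - 1)
  have hU0 : U 0 = ⊤ := if_pos rfl
  have hV0 : V 0 = P := if_pos rfl
  have hUs : ∀ j, j ≠ 0 → U j = Q' j := fun j hj => if_neg hj
  have hVs : ∀ j, j ≠ 0 → V j = Q' (j - 1) := fun j hj => if_neg hj
  have hinvU : ∀ j < n + 1, ∀ α ∈ F.autGroup R, ∀ y : R, (y : Ω) ∈ U j → ((α y : R) : Ω) ∈ U j := by
    intro j hj α hα y hy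
    by_cases hj0 : j = 0
    · subst hj0
      rw [hU0]
      exact Subgroup.mem_top _
    · rw [hUs j hj0] at hy ⊢
      exact stronglyClosed_aut_mem (hQ'sc j (by omega)) hRS hα y hy
  have hinvV : ∀ j < n + 1, ∀ α ∈ F.autGroup R, ∀ y : R, (y : Ω) ∈ V j → ((α y : R) : Ω) ∈ V j := by
    intro j hj α hα y hy
    by_cases hj0 : j = 0
    · subst hj0
      rw [hV0] at hy ⊢
      exact stronglyClosed_aut_mem hP hRS hα y hy
    · rw [hVs j hj0] at hy ⊢
      exact stronglyClosed_aut_mem (hQ'sc (j - 1) (by omega)) hRS hα y hy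
  have hstab : ∀ j < n + 1, ∀ y : R, (y : Ω) ∈ U j → (y : Ω)⁻¹ * ((β y : R) : Ω) ∈ V j := by
    intro j hj y hy
    rw [hβ]
    by_cases hj0 : j = 0
    · subst hj0
      rw [hV0]
      have h1 : (y : Ω)⁻¹ * x * ((y : Ω)⁻¹)⁻¹ ∈ P :=
        stronglyClosed_conj_mem hP (S.inv_mem (hRS y.2)) hxP
      have h2 : (y : Ω)⁻¹ * (x * (y : Ω) * x⁻¹) = ((y : Ω)⁻¹ * x * ((y : Ω)⁻¹)⁻¹) * x⁻¹ := by group
      rw [h2]
      exact P.mul_mem h1 (P.inv_mem hxP)
    · rw [hUs j hj0] at hy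
      rw [hVs j hj0]
      have hcommel : (y : Ω)⁻¹ * (x * (y : Ω) * x⁻¹) = ⁅(y : Ω)⁻¹, x⁆ := by
        rw [commutatorElement_def]
        group
      rw [hcommel]
      apply hQ'comm (j - 1) (by omega)
      have hj1 : j - 1 + 1 = j := by omega
      rw [hj1]
      exact Subgroup.commutator_mem_commutator ((Q' j).inv_mem hy) hxP
  -- automorphisms of order prime to `p` stabilizing the pairs are trivial
  have htriv : ∀ α ∈ F.autGroup R, (orderOf α).Coprime p →
      (∀ j < n + 1, ∀ y : R, (y : Ω) ∈ U j → (y : Ω)⁻¹ * ((α y : R) : Ω) ∈ V j) → α = 1 := by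
    intro α hα hcop hst
    -- (i) `α` fixes `R ∩ Ω₁(P)`
    have hinv₁ : ∀ y : ↥(R ⊓ Cfsg.omegaOne p P),
        ((α ⟨y, (inf_le_left : R ⊓ Cfsg.omegaOne p P ≤ R) y.2⟩ : R) : Ω) ∈ R ⊓ Cfsg.omegaOne p P := by
      intro y
      refine ⟨(α _).2, ?_⟩
      have h1 := stronglyClosed_aut_mem (hQ'sc n le_rfl) hRS hα
        ⟨y, (inf_le_left : R ⊓ Cfsg.omegaOne p P ≤ R) y.2⟩ (by rw [hQ'n]; exact y.2.2)
      rwa [hQ'n] at h1
    have hfin₁ : Finite ↥(R ⊓ Cfsg.omegaOne p P) :=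
      Finite.of_injective (Subgroup.inclusion (inf_le_left : R ⊓ Cfsg.omegaOne p P ≤ R))
        (Subgroup.inclusion_injective _)
    have h₁ : restrictAut (inf_le_left : R ⊓ Cfsg.omegaOne p P ≤ R) α hinv₁ = 1 := by
      refine aut_eq_one_of_chain (hRp.to_le inf_le_left) _
        (Nat.Coprime.coprime_dvd_left (orderOf_restrictAut_dvd _ α hinv₁) hcop)
        (fun i => Q' (n - i)) n ?_ ?_ ?_
      · show R ⊓ Cfsg.omegaOne p P ≤ Q' (n - 0)
        rw [Nat.sub_zero, hQ'n]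
        exact inf_le_right
      · show Q' (n - n) = ⊥
        rw [Nat.sub_self]
        exact hQ'0
      · intro i hi y hy
        rw [restrictAut_apply]
        have hni : n - i ≠ 0 := by omega
        have h1 := hst (n - i) (by omega) ⟨y, (inf_le_left : R ⊓ Cfsg.omegaOne p P ≤ R) y.2⟩
          (by rw [hUs _ hni]; exact hy)
        rw [hVs _ hni] at h1
        have h2 : n - (i + 1) = n - i - 1 := by omega
        show _ ∈ Q' (n - (i + 1))
        rw [h2]
        exact h1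
    have hfix₁ : ∀ y : R, (y : Ω) ∈ Cfsg.omegaOne p P → α y = y := by
      intro y hy
      have h2 := restrictAut_apply (inf_le_left : R ⊓ Cfsg.omegaOne p P ≤ R) α hinv₁ ⟨y, ⟨y.2, hy⟩⟩
      rw [h₁] at h2
      apply Subtype.ext
      exact h2.symm
    -- (ii) `α` fixes `R ∩ P`
    have hinv₂ : ∀ y : ↥(R ⊓ P), ((α ⟨y, (inf_le_left : R ⊓ P ≤ R) y.2⟩ : R) : Ω) ∈ R ⊓ P := by
      intro y
      exact ⟨(α _).2, stronglyClosed_aut_mem hP hRS hα ⟨y, (inf_le_left : R ⊓ P ≤ R) y.2⟩ y.2.2⟩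
    have hfin₂ : Finite ↥(R ⊓ P) :=
      Finite.of_injective (Subgroup.inclusion (inf_le_left : R ⊓ P ≤ R))
        (Subgroup.inclusion_injective _)
    have h₂ : restrictAut (inf_le_left : R ⊓ P ≤ R) α hinv₂ = 1 := by
      refine aut_eq_one_of_fix_omega hp (hRp.to_le inf_le_left) _
        (Nat.Coprime.coprime_dvd_left (orderOf_restrictAut_dvd _ α hinv₂) hcop) ?_
      intro y hy
      apply Subtype.ext
      rw [restrictAut_apply]
      have hy' : (y : Ω) ^ p = 1 := by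
        have := congrArg Subtype.val hy
        simpa using this
      rw [hfix₁ ⟨y, (inf_le_left : R ⊓ P ≤ R) y.2⟩ (mem_omegaOne y.2.2 hy')]
    have hfix₂ : ∀ y : R, (y : Ω) ∈ P → α y = y := by
      intro y hy
      have h2 := restrictAut_apply (inf_le_left : R ⊓ P ≤ R) α hinv₂ ⟨y, ⟨y.2, hy⟩⟩
      rw [h₂] at h2
      apply Subtype.ext
      exact h2.symm
    -- (iii) `α = 1`
    let C : ℕ → Subgroup Ω := fun i => match i with
      | 0 => R
      | 1 => P
      | _ => ⊥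
    refine aut_eq_one_of_chain hRp α hcop C 2 le_rfl rfl ?_
    intro i hi y hy
    interval_cases i
    · have h1 := hst 0 (Nat.succ_pos n) y (by rw [hU0]; exact Subgroup.mem_top _)
      rw [hV0] at h1
      exact h1
    · have hyP : (y : Ω) ∈ P := hy
      show (y : Ω)⁻¹ * ((α y : R) : Ω) ∈ (⊥ : Subgroup Ω)
      rw [hfix₂ y hyP, inv_mul_cancel]
      exact Subgroup.one_mem _
  have hβcore : β ∈ (pCore p (F.autGroup R)).map (F.autGroup R).subtype :=
    mem_pCore_of_stabilizes_pairs (F.autGroup R) U V (n + 1) hinvU hinvV htriv β hβK hstab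
  rw [hRrad.2] at hβcore
  obtain ⟨r, hr⟩ := hβcore
  -- `r⁻¹ x` centralizes `R`
  have hcent : (r : Ω)⁻¹ * x ∈ centralizerIn S R := by
    refine ⟨S.mul_mem (S.inv_mem (hRS r.2)) hxS, ?_⟩
    intro y hy
    have h1 : ((MulAut.conj r) ⟨y, hy⟩ : R) = β ⟨y, hy⟩ := by rw [hr]
    have h2 : (r : Ω) * y * (r : Ω)⁻¹ = x * y * x⁻¹ := by
      have := congrArg Subtype.val h1
      simpa [MulAut.conj_apply, hβ] using this
    have h3 : y * ((r : Ω)⁻¹ * x) = (r : Ω)⁻¹ * ((r : Ω) * y * (r : Ω)⁻¹) * x := by group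
    rw [h3, h2]
    group
  have hcR : (r : Ω)⁻¹ * x ∈ R :=
    hRc.2 R ⟨R.subtype, subtype_mem F hRS, R.range_subtype⟩ hcent
  apply hxR
  have h4 : x = (r : Ω) * ((r : Ω)⁻¹ * x) := by group
  rw [h4]
  exact R.mul_mem r.2 hcR

/-- Let p be an odd prime, F a saturated fusion system over a finite p-group S and P a subgroup of S strongly closed in F. Then P is normal in F if and only if Ω₁(P) (the subgroup generated by the elements of order p of P) has a chain of subgroups 1 = Q₀ ≤ Q₁ ≤ ⋯ ≤ Qₙ = Ω₁(P), each strongly closed in F, with [Qᵢ₊₁, P] ≤ Qᵢ for all i. -/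
theorem result {Ω : Type*} [Group Ω] {S : Subgroup Ω} [Finite S] (p : ℕ) [Fact p.Prime] (hS : IsPGroup p S) (F : Cfsg.FusionSystem S) (hF : F.IsSaturated p) (hp : p ≠ 2) (P : Subgroup Ω) (hP : F.StronglyClosed P) : F.IsNormal P ↔ ∃ (n : ℕ) (Q : Fin (n + 1) → Subgroup Ω), Q 0 = ⊥ ∧ Q (Fin.last n) = Cfsg.omegaOne p P ∧ Monotone Q ∧ (∀ i : Fin (n + 1), F.StronglyClosed (Q i)) ∧ ∀ i : Fin n, ⁅Q i.succ, P⁆ ≤ Q i.castSucc := by
  constructor
  · exact forward p hS F P
  · rintro ⟨n, Q, hQ0, hQn, -, hsc, hcomm⟩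
    apply isNormal_of_le_frc F hS hF hP
    intro R hRa _ hRc hRrad
    exact le_of_frc p hS F hp P hP n Q hQ0 hQn hsc hcomm R hRa hRc hRrad

end Cfsg.Agent.S5236
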