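-- Statement S5243 (helper85): a p'-character on the automizer of a strongly closed subgroup gives a normal subsystem.
import Cfsg.Statements.S5243
import Cfsg.Agent.Lib.Helper85_Rel8

set_option autoImplicit false
open Cfsg

namespace Cfsg.Agent.S5243

open Cfsg.FusionSystem Cfsg.Agent.Lib
open Cfsg.Agent.Lib.Helper87_Alperin Cfsg.Agent.Lib.Helper85_Rel1 Cfsg.Agent.Lib.Helper85_Rel3
  Cfsg.Agent.Lib.Helper85_Rel7 Cfsg.Agent.Lib.Helper85_Rel8

section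
variable {Ω : Type*} [Group Ω] {S T : Subgroup Ω}

/-- The kernel of the character, as a subgroup of `Aut(T)`. -/
def kerN {F : FusionSystem S} {Δ : Type*} [Group Δ] (χ : ↥(F.autGroup T) →* Δ) : Subgroup (MulAut T) :=
  (χ.ker).map (F.autGroup T).subtype

theorem mem_kerN {F : FusionSystem S} {Δ : Type*} [Group Δ] (χ : ↥(F.autGroup T) →* Δ) (τ : MulAut T) :
    τ ∈ kerN χ ↔ ∃ hτ : τ ∈ F.autGroup T, χ ⟨τ, hτ⟩ = 1 := by
  constructor
  · rintro ⟨β, hβ, rfl⟩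
    exact ⟨β.2, MonoidHom.mem_ker.1 hβ⟩
  · rintro ⟨hτ, h1⟩
    exact ⟨⟨τ, hτ⟩, MonoidHom.mem_ker.2 h1, rfl⟩

theorem nHyp_kerN {p : ℕ} [Fact p.Prime] {F : FusionSystem S} {E : FusionSystem T} (hTS : T ≤ S)
    (hEF : E.IsSubsystemOf F) {Δ : Type*} [Group Δ] [Finite Δ] (hΔ : (Nat.card Δ).Coprime p)
    (χ : ↥(F.autGroup T) →* Δ) (hker : (E.autGroup T).subgroupOf (F.autGroup T) ≤ χ.ker) :
    NHyp p F E (kerN χ) where
  le := by
    intro τ hτ
    obtain ⟨hτF, -⟩ := (mem_kerN χ τ).1 hτ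
    exact hτF
  normal := by
    intro γ hγ n hn
    obtain ⟨hnF, hn1⟩ := (mem_kerN χ n).1 hn
    refine (mem_kerN χ _).2 ⟨(F.autGroup T).mul_mem ((F.autGroup T).mul_mem hγ hnF)
      ((F.autGroup T).inv_mem hγ), ?_⟩
    have e : (⟨γ * n * γ⁻¹, (F.autGroup T).mul_mem ((F.autGroup T).mul_mem hγ hnF)
        ((F.autGroup T).inv_mem hγ)⟩ : F.autGroup T) = ⟨γ, hγ⟩ * ⟨n, hnF⟩ * ⟨γ, hγ⟩⁻¹ := rfl
    rw [e, map_mul, map_mul, hn1, mul_one, ← map_mul, mul_inv_cancel, map_one]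
  autE := by
    intro τ hτ
    have hτF : τ ∈ F.autGroup T := by
      rw [mem_autGroup_iff' F hTS]
      exact hEF T ((mem_autGroup_iff' E le_rfl τ).1 hτ)
    refine (mem_kerN χ τ).2 ⟨hτF, ?_⟩
    exact MonoidHom.mem_ker.1 (hker (Subgroup.mem_subgroupOf.2 hτ))
  pelt := by
    intro β hβ k hk
    refine (mem_kerN χ β).2 ⟨hβ, ?_⟩
    have h1 : (χ ⟨β, hβ⟩) ^ (p ^ k) = 1 := by
      rw [← map_pow]
      have e : (⟨β, hβ⟩ : F.autGroup T) ^ (p ^ k) = 1 := Subtype.ext (by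
        rw [Subgroup.coe_pow, Subgroup.coe_one]
        exact hk)
      rw [e, map_one]
    have hd1 : orderOf (χ ⟨β, hβ⟩) ∣ p ^ k := orderOf_dvd_of_pow_eq_one h1
    have hd2 : orderOf (χ ⟨β, hβ⟩) ∣ Nat.card Δ := orderOf_dvd_natCard _
    have hc : (orderOf (χ ⟨β, hβ⟩)).Coprime (p ^ k) :=
      Nat.Coprime.coprime_dvd_left hd2 (Nat.Coprime.pow_right k hΔ)
    exact orderOf_eq_one_iff.1 (Nat.Coprime.eq_one_of_dvd hc hd1)

end

/-- Let F be a saturated fusion system over a finite p-group S, E a normal subsystem of F over T ≤ S, and χ a surjective homomorphism from Aut_F(T) onto a nontrivial finite group Δ of order prime to p whose kernel contains Aut_E(T). Then there is a proper normal subsystem F₀ of F over S containing E such that Aut_{F₀}(S) consists of those α ∈ Aut_F(S) whose restriction to T is an element of Aut_F(T) in the kernel of χ; moreover every p'-residual subsystem O^{p'}(F)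 of F is contained in F₀. -/
theorem result {Ω : Type*} [Group Ω] {S : Subgroup Ω} [Finite S] (p : ℕ) [Fact p.Prime] (hS : IsPGroup p S) (F : Cfsg.FusionSystem S) (hF : F.IsSaturated p) {T : Subgroup Ω} (hTS : T ≤ S) (E : Cfsg.FusionSystem T) (hE : E.IsNormalIn F p) {Δ : Type*} [Group Δ] [Finite Δ] [Nontrivial Δ] (hΔ : (Nat.card Δ).Coprime p) (χ : ↥(F.autGroup T) →* Δ) (hχ : Function.Surjective χ) (hker : (E.autGroup T).subgroupOf (F.autGroup T) ≤ χ.ker) : ∃ F₀ : Cfsg.FusionSystem S, F₀.IsNormalIn F p ∧ ¬ (∀ P : Subgroup Ω, F₀.Hom P = F.Hom P) ∧ E.IsSubsystemOf F₀ ∧ (∀ α : MulAut ↥S, α ∈ F₀.autGroup S ↔ α ∈ F.autGroup S ∧ ∃ β : ↥(F.autGroup T), χ β = 1 ∧ ∀ t : ↥T, (((β : MulAut ↥T) t : ↥T) : Ω) = ((α ⟨(t : Ω), hTS t.2⟩ : ↥S) : Ω)) ∧ ∀ R : Cfsg.FusionSystem S, F.IsPPrimeResidual p R → R.IsSubsystemOf F₀ := by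
  have hEF : E.IsInvariantIn F := hE.1.2.2
  have hN : NHyp p F E (kerN χ) := nHyp_kerN hTS hEF.1 hΔ χ hker
  have h : Setup p F E (kerN χ) := ⟨hS, hF, hE.1.1, hEF, hN⟩
  refine ⟨F0 h, F0_normal h, ?_, E_le_F0 h, ?_, ?_⟩
  · obtain ⟨d, hd⟩ := exists_ne (1 : Δ)
    obtain ⟨a, ha⟩ := hχ d
    refine F0_ne h a.2 ?_
    intro haN
    obtain ⟨ha', h1⟩ := (mem_kerN χ _).1 haN
    exact hd (ha ▸ h1)
  · intro α
    rw [mem_autGroup_F0_iff h α]
    constructor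
    · rintro ⟨hαF, b, hbN, hbα⟩
      obtain ⟨hbF, hb1⟩ := (mem_kerN χ b).1 hbN
      refine ⟨hαF, ⟨b, hbF⟩, hb1, fun t => ?_⟩
      have := hbα t t.2
      rw [extFun_coe, extFun_apply α (hTS t.2)] at this
      exact this
    · rintro ⟨hαF, β, hβ1, hβα⟩
      refine ⟨hαF, β, (mem_kerN χ _).2 ⟨β.2, hβ1⟩, fun x hx => ?_⟩
      rw [extFun_apply _ hx, extFun_apply α (hTS hx)]
      exact hβα ⟨x, hx⟩
  · intro R hR
    exact hR.2.2 (F0 h) (F0_saturated h) (index0 h)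

end Cfsg.Agent.S5243
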