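import Cfsg.Statements.S5244
import Cfsg.Agent.Lib.Helper87_IndexP
import Cfsg.Agent.Lib.Helper87_IndexP2
import Cfsg.Agent.Lib.Helper87_IndexP3
import Cfsg.Agent.Lib.Helper87_IndexP4

set_option autoImplicit false
open Cfsg

namespace Cfsg.Agent.S5244

/-- Let p be an odd prime, S a finite nonabelian p-group with a unique abelian subgroup A of index p, and F a saturated fusion system over S with no nontrivial normal subgroup (O_p(F) = 1) in which A is not F-essential. Then some subgroup Z(S)⟨x⟩ with x ∈ S outside A is F-essential, the centre Z(S) is contained in the commutator subgroup of S, and S has maximal nilpotency class (if S has order pⁿ with n ≥ 3, the term of index n − 2 of its lower central series, counting S itself as the term of index 0, is nontrivial). -/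
theorem result {Ω : Type*} [Group Ω] {S : Subgroup Ω} [Finite S] (p : ℕ) [Fact p.Prime] (hS : IsPGroup p S) (F : Cfsg.FusionSystem S) (hF : F.IsSaturated p) (hp : p ≠ 2) (hna : ¬ IsMulCommutative ↥S) (A : Subgroup Ω) (hA : A ≤ S ∧ IsMulCommutative ↥A ∧ (A.subgroupOf S).index = p) (huniq : ∀ B : Subgroup Ω, B ≤ S → IsMulCommutative ↥B → (B.subgroupOf S).index = p → B = A) (hcore : F.core = ⊥) (hAe : ¬ F.IsEssential p A) : (∃ x ∈ S, x ∉ A ∧ F.IsEssential p ((S ⊓ Subgroup.centralizer (S : Set Ω)) ⊔ Subgroup.zpowers x)) ∧ (S ⊓ Subgroup.centralizer (S : Set Ω)) ≤ (commutator ↥S).map S.subtype ∧ ∀ n : ℕ, Nat.card S = p ^ n → 3 ≤ n → Subgroup.lowerCentralSeries S (n - 2) ≠ ⊥ := by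
  classical
  have hp' : p.Prime := Fact.out
  have hodd : Odd p := hp'.eq_two_or_odd'.resolve_left hp
  have hab := Cfsg.Agent.Lib.Helper87_IndexP.abIdx_of_hyp hna hA huniq
  obtain ⟨P, x, hctx, habP⟩ :=
    Cfsg.Agent.Lib.Helper87_IndexP4.exists_abelian_essential hS hF hab hcore hAe
  have hZS' := Cfsg.Agent.Lib.Helper87_IndexP4.center_le_commutator hodd hS hF hab hcore hAe
  have hxS := hctx.xS
  have hxA := hctx.xA
  refine ⟨⟨x, hxS, hxA, ?_⟩, hZS', ?_⟩
  · have h1 := hctx.P_eq
    rw [hctx.P0_eq_of_abelian habP] at h1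
    rw [← h1]
    exact hctx.ess
  · intro n hn h3
    -- the centre has order `p`
    have hcomm := Cfsg.Agent.Lib.Helper87_IndexP3.commutator_eq hp' hab hxS hxA
    have hZ0 := hctx.card_Z0
    have hZle : S ⊓ Subgroup.centralizer (S : Set Ω) ≤ hab.kapIm hxS A := by
      rw [← hcomm]; exact hZS'
    have hcardZ : Nat.card (S ⊓ Subgroup.centralizer (S : Set Ω) : Subgroup Ω) = p := by
      rw [inf_eq_left.mpr hZle] at hZ0
      exact hZ0
    -- the lower central series lies in `S`
    have hlcs : ∀ k, Subgroup.lowerCentralSeries S k ≤ S := by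
      intro k
      induction k with
      | zero => exact le_rfl
      | succ k ih =>
        rw [Subgroup.lowerCentralSeries_succ, Subgroup.commutator_le]
        intro g₁ hg₁ g₂ hg₂
        rw [commutatorElement_def]
        exact S.mul_mem (S.mul_mem (S.mul_mem (ih hg₁) hg₂) (S.inv_mem (ih hg₁))) (S.inv_mem hg₂)
    obtain ⟨k, rfl⟩ : ∃ k, n = k + 3 := ⟨n - 3, by omega⟩
    have hnle : ¬ Subgroup.lowerCentralSeries S k ≤ S ⊓ Subgroup.centralizer (S : Set Ω) := by
      rcases Nat.eq_zero_or_pos k with hk | hk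
      · subst hk
        intro hle
        obtain ⟨a, ha, b, hb, hne⟩ := hab.nab
        apply hne
        exact (Subgroup.mem_centralizer_iff.mp (hle hb).2 a ha)
      · have hm : Nat.card S = Nat.card (S ⊓ Subgroup.centralizer (S : Set Ω) : Subgroup Ω) * p ^ (k + 2) := by
          rw [hcardZ, hn]; ring
        have := Cfsg.Agent.Lib.Helper87_IndexP3.not_lowerCentralSeries_le hp' hab hxS hxA hZ0 hm
          (by omega)
        rw [show k + 2 - 2 = k by omega] at this
        exact this
    intro hbot
    apply hnle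
    rw [show k + 3 - 2 = k + 1 by omega, Subgroup.lowerCentralSeries_succ,
      Subgroup.commutator_eq_bot_iff_le_centralizer] at hbot
    exact le_inf (hlcs k) hbot

end Cfsg.Agent.S5244
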