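import Cfsg.Statements.S5245
import Cfsg.Agent.Lib.Helper87_AutSystem

set_option autoImplicit false
open Cfsg Cfsg.FusionSystem Cfsg.Agent.Lib.Helper87_Alperin Cfsg.Agent.Lib.Helper87_Alperin2
  Cfsg.Agent.Lib.Helper87_AutSystem

namespace Cfsg.Agent.S5245

/-- The second half: once `F` is generated by `Inn S` and one automorphism `β₀` of prime order `q ≠ p`. -/
theorem main2 {Ω : Type*} [Group Ω] {S : Subgroup Ω} [Finite S] (p : ℕ) [Fact p.Prime] (hS : IsPGroup p S)
    (F : FusionSystem S)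
    (hsparse : ∀ (T : Subgroup Ω) (E : FusionSystem T), E.IsSaturated p → E.IsSubsystemOf F →
      (T = S ∧ ∀ P : Subgroup Ω, E.Hom P = F.Hom P) ∨
        (∀ P : Subgroup Ω, E.Hom P = (innerFusionSystem T).Hom P))
    (q : ℕ) (hq : q.Prime) (hqp : q ≠ p) (β₀ : MulAut S) (hβ₀o : orderOf β₀ = q)
    (hA : Inn S ≤ Inn S ⊔ Subgroup.zpowers β₀)
    (hEF : ∀ P : Subgroup Ω, (autSystem S (Inn S ⊔ Subgroup.zpowers β₀) hA).Hom P = F.Hom P) :
    F.IsNormal S ∧ F.focalSubgroup = S ∧ F.hyperfocalSubgroup p = S ∧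
      β₀ ∈ F.autGroup S ∧ (F.autGroup S : Subgroup (MulAut S)) = Inn S ⊔ Subgroup.zpowers β₀ := by
  classical
  have hqcop : q.Coprime p := (Nat.coprime_primes hq (Fact.out : p.Prime)).2 hqp
  have hβ₀cop : (orderOf β₀).Coprime p := by rw [hβ₀o]; exact hqcop
  have hβ₀1 : β₀ ≠ 1 := by
    intro h
    rw [h, orderOf_one] at hβ₀o
    exact hq.one_lt.ne' hβ₀o.symm
  -- (a) the automorphism group of `S`
  have hAut : F.autGroup S = Inn S ⊔ Subgroup.zpowers β₀ := by
    have h1 : F.autGroup S = (autSystem S _ hA).autGroup S := by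
      unfold FusionSystem.autGroup
      rw [hEF S]
    rw [h1]
    ext γ
    rw [mem_autGroup_autSystem le_rfl]
    constructor
    · rintro ⟨α, hα, h⟩
      have : γ = α := by
        ext x
        exact h x
      rw [this]
      exact hα
    · intro h
      exact ⟨γ, h, fun x => rfl⟩
  have hβ₀F : β₀ ∈ F.autGroup S := by
    rw [hAut]
    exact Subgroup.mem_sup_right (Subgroup.mem_zpowers β₀)
  -- (b) `S` is normal in `F`
  have hN : F.IsNormal S := by
    refine ⟨le_rfl, fun P φ hφ => ?_⟩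
    rw [← hEF P] at hφ
    obtain ⟨hP, α, hα, hφα⟩ := hφ
    have hle : P ⊔ S ≤ S := sup_le hP le_rfl
    refine ⟨(S.subtype.comp α.toMonoidHom).comp (Subgroup.inclusion hle), ?_, ?_, ?_⟩
    · rw [← hEF]
      exact ⟨hle, α, hα, fun x => rfl⟩
    · intro x
      rw [hφα]
      rfl
    · ext y
      constructor
      · rintro ⟨x, -, rfl⟩
        exact (α _).2
      · intro hy
        refine ⟨⟨((α.symm ⟨y, hy⟩ : S) : Ω), (le_sup_right : S ≤ P ⊔ S) (α.symm ⟨y, hy⟩).2⟩, ?_, ?_⟩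
        · rw [SetLike.mem_coe, Subgroup.mem_subgroupOf]
          exact (α.symm ⟨y, hy⟩).2
        · show ((α (α.symm ⟨y, hy⟩) : S) : Ω) = y
          rw [MulEquiv.apply_symm_apply]
  -- (c) the subgroup `W = [S, β₀]`
  set T : Set S := {y : S | ∃ x : S, y = x⁻¹ * β₀ x} with hT
  set W' : Subgroup S := Subgroup.closure T with hW'
  have hW'inv : W'.map β₀.toMonoidHom ≤ W' := by
    rw [hW', MonoidHom.map_closure]
    apply Subgroup.closure_mono
    rintro _ ⟨_, ⟨x, rfl⟩, rfl⟩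
    refine ⟨β₀ x, ?_⟩
    show β₀ (x⁻¹ * β₀ x) = (β₀ x)⁻¹ * β₀ (β₀ x)
    rw [map_mul, map_inv]
  set W : Subgroup Ω := W'.map S.subtype with hW
  have hWS : W ≤ S := by
    rintro _ ⟨w, -, rfl⟩
    exact w.2
  have hfinW : Finite W := Finite.of_injective (Subgroup.inclusion hWS) (Subgroup.inclusion_injective hWS)
  have hWp : IsPGroup p W := hS.to_le hWS
  have hinv : ∀ x : W, ((β₀ ⟨x, hWS x.2⟩ : S) : Ω) ∈ W := by
    rintro ⟨_, w, hw, rfl⟩
    exact ⟨β₀ w, hW'inv ⟨w, hw, rfl⟩, rfl⟩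
  have hgen : ∀ x : S, (x : Ω)⁻¹ * ((β₀ x : S) : Ω) ∈ W := by
    intro x
    exact ⟨x⁻¹ * β₀ x, Subgroup.subset_closure ⟨x, rfl⟩, rfl⟩
  -- (d) the restriction of `β₀` to `W` is nontrivial
  have hβW1 : restrictAut hWS β₀ hinv ≠ 1 := by
    intro h1
    apply hβ₀1
    let C : ℕ → Subgroup Ω := fun i => match i with
      | 0 => S
      | 1 => W
      | _ => ⊥
    refine aut_eq_one_of_chain hS β₀ hβ₀cop C 2 le_rfl rfl ?_
    intro i hi x hx
    interval_cases i
    · exact hgen x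
    · have hxW : (x : Ω) ∈ W := hx
      have h2 := restrictAut_apply hWS β₀ hinv ⟨x, hxW⟩
      rw [h1] at h2
      have h3 : ((β₀ x : S) : Ω) = (x : Ω) := h2.symm
      show (x : Ω)⁻¹ * ((β₀ x : S) : Ω) ∈ (⊥ : Subgroup Ω)
      rw [h3, inv_mul_cancel]
      exact Subgroup.one_mem _
  have hβWcop : (orderOf (restrictAut hWS β₀ hinv)).Coprime p :=
    Nat.Coprime.coprime_dvd_left (orderOf_restrictAut_dvd hWS β₀ hinv) hβ₀cop
  -- (e) the subsystem over `W`
  have hA' : Inn W ≤ Inn W ⊔ Subgroup.zpowers (restrictAut hWS β₀ hinv) := le_sup_left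
  have hAF' : Inn W ⊔ Subgroup.zpowers (restrictAut hWS β₀ hinv) ≤ F.autGroup W :=
    sup_le (inn_le_autGroup F hWS)
      ((Subgroup.zpowers_le).2 (restrictAut_mem_autGroup F le_rfl hWS β₀ hβ₀F hinv))
  have hE'sat := autSystem_isSaturated W hWp _ hA' (not_dvd_index_sup_zpowers _ hβWcop)
  have hE'sub := autSystem_isSubsystemOf F hWS hA' hAF'
  have hE'ninn := autSystem_not_inner hWp hA'
    (Subgroup.mem_sup_right (Subgroup.mem_zpowers _)) hβWcop hβW1
  have hWeq : W = S := by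
    rcases hsparse W _ hE'sat hE'sub with ⟨h, -⟩ | hinn
    · exact h
    · exact absurd hinn hE'ninn
  -- (f) focal and hyperfocal subgroups
  have hφ₀ : S.subtype.comp β₀.toMonoidHom ∈ F.Hom S := (mem_autGroup_iff' F le_rfl β₀).1 hβ₀F
  have hWle : W ≤ Subgroup.closure {y : Ω | ∃ x : S, y = (x : Ω)⁻¹ * ((β₀ x : S) : Ω)} := by
    rw [hW, hW', MonoidHom.map_closure]
    apply Subgroup.closure_mono
    rintro _ ⟨_, ⟨x, rfl⟩, rfl⟩
    exact ⟨x, rfl⟩
  refine ⟨hN, ?_, ?_, hβ₀F, hAut⟩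
  · apply le_antisymm
    · apply (Subgroup.closure_le _).2
      rintro _ ⟨P, φ, x, hφ, rfl⟩
      exact S.mul_mem (S.inv_mem (hom_le F hφ x.2)) (hom_mem F hφ x)
    · refine hWeq.ge.trans (hWle.trans ?_)
      apply Subgroup.closure_mono
      rintro _ ⟨x, rfl⟩
      exact ⟨S, _, x, hφ₀, rfl⟩
  · apply le_antisymm
    · apply (Subgroup.closure_le _).2
      rintro _ ⟨P, α, x, hP, -, rfl⟩
      exact S.mul_mem (S.inv_mem (hP x.2)) (hP ((α : MulAut P) x).2)
    · refine hWeq.ge.trans (hWle.trans ?_)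
      apply Subgroup.closure_mono
      rintro _ ⟨x, rfl⟩
      refine ⟨S, ⟨β₀, hβ₀F⟩, x, le_rfl, ?_, rfl⟩
      apply Subgroup.subset_closure
      show (orderOf (⟨β₀, hβ₀F⟩ : F.autGroup S)).Coprime p
      rw [Subgroup.orderOf_mk]
      exact hβ₀cop

/-- Let F be an extremely sparse fusion system over a finite p-group S (saturated, not the inner system, and every saturated fusion system over any subgroup T of S contained in F is F itself or the inner system of T). Then S is normal in F, the focal and hyperfocal subgroups of F are both S, and Aut_F(S) is generated by the inner automorphisms of S together with a single automorphism of prime order q ≠ p (F is the fusion system of the semidirect product of S by a cyclic group of prime order). -/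
theorem result {Ω : Type*} [Group Ω] {S : Subgroup Ω} [Finite S] (p : ℕ) [Fact p.Prime] (hS : IsPGroup p S) (F : Cfsg.FusionSystem S) (hF : F.IsSaturated p) (hxs : ¬ (∀ P : Subgroup Ω, F.Hom P = (Cfsg.innerFusionSystem S).Hom P) ∧ ∀ (T : Subgroup Ω) (E : Cfsg.FusionSystem T), E.IsSaturated p → E.IsSubsystemOf F → (T = S ∧ ∀ P : Subgroup Ω, E.Hom P = F.Hom P) ∨ (∀ P : Subgroup Ω, E.Hom P = (Cfsg.innerFusionSystem T).Hom P)) : F.IsNormal S ∧ F.focalSubgroup = S ∧ F.hyperfocalSubgroup p = S ∧ ∃ (q : ℕ) (β : MulAut ↥S), q.Prime ∧ q ≠ p ∧ β ∈ F.autGroup S ∧ orderOf β = q ∧ (F.autGroup S : Subgroup (MulAut ↥S)) = Cfsg.Inn ↥S ⊔ Subgroup.zpowers β := by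
  classical
  obtain ⟨hninn, hsparse⟩ := hxs
  -- Step 1: a fully automized receptive subgroup whose automizer is not a `p`-group
  have h1 : ∃ R : Subgroup Ω, F.IsFullyAutomized p R ∧ F.IsReceptive R ∧ ¬ IsPGroup p (F.autGroup R) := by
    by_contra hcon
    apply hninn
    apply eq_inner_of_autGroup_isPGroup F hS hF
    intro Q hQa hQr
    by_contra hQp
    exact hcon ⟨Q, hQa, hQr, hQp⟩
  obtain ⟨R, hRa, hRr, hRp⟩ := h1
  have hRS : R ≤ S := hRa.1
  have hfinR : Finite R := Finite.of_injective (Subgroup.inclusion hRS) (Subgroup.inclusion_injective hRS)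
  have hRpg : IsPGroup p R := hS.to_le hRS
  -- Step 2: an element of prime order `q ≠ p`
  have h2 : ∃ g : F.autGroup R, (orderOf g).Coprime p ∧ g ≠ 1 := by
    by_contra hcon
    apply hRp
    apply isPGroup_of_coprime_eq_one
    intro g hg
    by_contra hg1
    exact hcon ⟨g, hg, hg1⟩
  obtain ⟨g, hgcop, hg1⟩ := h2
  have hog1 : orderOf g ≠ 1 := fun h => hg1 (orderOf_eq_one_iff.1 h)
  obtain ⟨q, hq, hqdvd⟩ := Nat.exists_prime_and_dvd hog1
  have hog0 : orderOf g ≠ 0 := (orderOf_pos g).ne'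
  have hoq : orderOf (g ^ (orderOf g / q)) = q := orderOf_pow_orderOf_div hog0 hqdvd
  have hqp : q ≠ p := by
    rintro rfl
    have h4 : q ∣ Nat.gcd (orderOf g) q := Nat.dvd_gcd hqdvd dvd_rfl
    rw [hgcop] at h4
    exact hq.one_lt.ne' (Nat.dvd_one.1 h4)
  have hqcop : q.Coprime p := (Nat.coprime_primes hq (Fact.out : p.Prime)).2 hqp
  set β₀ : MulAut R := ((g ^ (orderOf g / q) : F.autGroup R) : MulAut R) with hβ₀
  have hβ₀F : β₀ ∈ F.autGroup R := (g ^ (orderOf g / q)).2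
  have hβ₀o : orderOf β₀ = q := by
    rw [hβ₀, Subgroup.orderOf_coe]
    exact hoq
  have hβ₀cop : (orderOf β₀).Coprime p := by rw [hβ₀o]; exact hqcop
  have hβ₀1 : β₀ ≠ 1 := by
    intro h
    rw [h, orderOf_one] at hβ₀o
    exact hq.one_lt.ne' hβ₀o.symm
  -- Step 3: the subsystem generated by `β₀`
  have hA : Inn R ≤ Inn R ⊔ Subgroup.zpowers β₀ := le_sup_left
  have hAF : Inn R ⊔ Subgroup.zpowers β₀ ≤ F.autGroup R :=
    sup_le (inn_le_autGroup F hRS) ((Subgroup.zpowers_le).2 hβ₀F)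
  have hEsat := autSystem_isSaturated R hRpg _ hA (not_dvd_index_sup_zpowers β₀ hβ₀cop)
  have hEsub := autSystem_isSubsystemOf F hRS hA hAF
  have hEninn := autSystem_not_inner hRpg hA
    (Subgroup.mem_sup_right (Subgroup.mem_zpowers β₀)) hβ₀cop hβ₀1
  rcases hsparse R _ hEsat hEsub with ⟨hRS', hEF⟩ | hinn
  swap
  · exact absurd hinn hEninn
  subst hRS'
  obtain ⟨h1, h2, h3, h4, h5⟩ := main2 p hS F hsparse q hq hqp β₀ hβ₀o hA hEF
  exact ⟨h1, h2, h3, q, β₀, hq, hqp, h4, hβ₀o, h5⟩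

end Cfsg.Agent.S5245
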