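import Cfsg.Statements.S5246
import Mathlib
import Cfsg.Agent.Lib.Helper85_GroupFusion
import Cfsg.Agent.Lib.Helper49_CharP
-- import your own Cfsg.Agent.* helpers here

set_option autoImplicit false
open Cfsg

namespace Cfsg.Agent.S5246

open Cfsg.Agent.Lib.Helper85_GroupFusion Cfsg.Agent.Lib.Helper85_Fusion Cfsg.Agent.Lib.Helper49_CharP
open scoped commutatorElement

/-- Membership in the `p`-core of a quotient, read off through any surjection with the same kernel. -/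
theorem mk_mem_pCore_iff {p : ℕ} {N B : Type*} [Group N] [Group B] (π : N →* B)
    (hπ : Function.Surjective π) (C' : Subgroup N) [C'.Normal] (hker : π.ker = C') (n : N) :
    (QuotientGroup.mk n : N ⧸ C') ∈ Cfsg.pCore p (N ⧸ C') ↔ π n ∈ Cfsg.pCore p B := by
  subst hker
  let e := QuotientGroup.quotientKerEquivOfSurjective π hπ
  have he : e (QuotientGroup.mk n) = π n := rfl
  rw [← map_pCore_mulEquiv (p := p) e, ← he]
  constructor
  · intro h; exact ⟨_, h, rfl⟩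
  · rintro ⟨y, hy, hyx⟩
    have : y = QuotientGroup.mk n := e.injective hyx
    rwa [this] at hy

/-- Quadratic action of `g` on `Q`, elementwise. -/
theorem quad_iff {Ω : Type*} [Group Ω] (Q : Subgroup Ω) (g : Ω) :
    ⁅⁅Q, Subgroup.zpowers g⁆, Subgroup.zpowers g⁆ = ⊥ ↔ ∀ a ∈ Q, g * ⁅a, g⁆ = ⁅a, g⁆ * g := by
  constructor
  · intro h a ha
    have h1 : ⁅Q, Subgroup.zpowers g⁆ ≤ Subgroup.centralizer (Subgroup.zpowers g : Set Ω) :=
      Subgroup.commutator_eq_bot_iff_le_centralizer.mp h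
    have h2 : ⁅a, g⁆ ∈ ⁅Q, Subgroup.zpowers g⁆ :=
      Subgroup.commutator_mem_commutator ha (Subgroup.mem_zpowers g)
    exact Subgroup.mem_centralizer_iff.mp (h1 h2) g (Subgroup.mem_zpowers g)
  · intro h
    rw [Subgroup.commutator_eq_bot_iff_le_centralizer, Subgroup.commutator_le]
    have hZ : ∀ z, g * z = z * g → z ∈ Subgroup.centralizer (Subgroup.zpowers g : Set Ω) := by
      intro z hz
      rw [Subgroup.mem_centralizer_iff]
      intro y hy
      obtain ⟨k, rfl⟩ := Subgroup.mem_zpowers_iff.mp hy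
      exact (Commute.zpow_left (show Commute g z from hz) k).eq
    let T : Subgroup Ω :=
      { carrier := {x | x ∈ Subgroup.centralizer (Subgroup.zpowers g : Set Ω) ∧
          ∀ a ∈ Q, ⁅a, x⁆ ∈ Subgroup.centralizer (Subgroup.zpowers g : Set Ω)}
        one_mem' := ⟨Subgroup.one_mem _, fun a _ => by
          rw [commutatorElement_one_right]; exact Subgroup.one_mem _⟩
        mul_mem' := by
          rintro x y ⟨hx1, hx2⟩ ⟨hy1, hy2⟩
          refine ⟨Subgroup.mul_mem _ hx1 hy1, fun a ha => ?_⟩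
          have e1 : ⁅a, x * y⁆ = ⁅a, x⁆ * (x * ⁅a, y⁆ * x⁻¹) := by
            simp only [commutatorElement_def]; group
          rw [e1]
          exact Subgroup.mul_mem _ (hx2 a ha)
            (Subgroup.mul_mem _ (Subgroup.mul_mem _ hx1 (hy2 a ha)) (Subgroup.inv_mem _ hx1))
        inv_mem' := by
          rintro x ⟨hx1, hx2⟩
          refine ⟨Subgroup.inv_mem _ hx1, fun a ha => ?_⟩
          have e1 : ⁅a, x⁻¹⁆ = x⁻¹ * ⁅a, x⁆⁻¹ * x := by
            simp only [commutatorElement_def]; group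
          rw [e1]
          exact Subgroup.mul_mem _ (Subgroup.mul_mem _ (Subgroup.inv_mem _ hx1)
            (Subgroup.inv_mem _ (hx2 a ha))) hx1 }
    have hgT : g ∈ T := ⟨hZ g rfl, fun a ha => hZ _ (h a ha)⟩
    intro a ha x hx
    exact ((Subgroup.zpowers_le.mpr hgT) hx).2 a ha

/-- Quadratic action of a conjugation automorphism, elementwise. -/
theorem aut_quad_iff {Ω : Type*} [Group Ω] (Q : Subgroup Ω) (g : Ω) (χ : MulAut Q)
    (hχ : ∀ x : Q, ((χ x : Q) : Ω) = g * x * g⁻¹) :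
    (∀ a : Q, (χ a⁻¹) * a * (χ a⁻¹) * (χ (χ a)) = 1) ↔ ∀ a ∈ Q, g * ⁅a, g⁆ = ⁅a, g⁆ * g := by
  have expand : ∀ a : Q, (((χ a⁻¹) * a * (χ a⁻¹) * (χ (χ a)) : Q) : Ω) =
      (g * (a : Ω)⁻¹ * g⁻¹) * a * (g * (a : Ω)⁻¹ * g⁻¹) * (g * (g * a * g⁻¹) * g⁻¹) := by
    intro a
    simp only [Subgroup.coe_mul, hχ, Subgroup.coe_inv]
  constructor
  · intro h a ha
    have h1 := expand ⟨a⁻¹, Q.inv_mem ha⟩
    rw [h ⟨a⁻¹, Q.inv_mem ha⟩] at h1
    simp only [Subgroup.coe_one, inv_inv] at h1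
    rw [commutatorElement_def]
    calc g * (a * g * a⁻¹ * g⁻¹)
        = a * g * a⁻¹ * g⁻¹ * ((g * a * g⁻¹) * a⁻¹ * (g * a * g⁻¹) * (g * (g * a⁻¹ * g⁻¹) * g⁻¹)) * g := by
          group
      _ = a * g * a⁻¹ * g⁻¹ * 1 * g := by rw [← h1]
      _ = a * g * a⁻¹ * g⁻¹ * g := by group
  · intro h a
    apply Subtype.ext
    rw [expand a]
    have hc := h (a : Ω)⁻¹ (Q.inv_mem a.2)
    rw [commutatorElement_def, inv_inv] at hc
    simp only [Subgroup.coe_one]
    calc (g * (a : Ω)⁻¹ * g⁻¹) * a * (g * (a : Ω)⁻¹ * g⁻¹) * (g * (g * a * g⁻¹) * g⁻¹)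
        = g * (a : Ω)⁻¹ * g⁻¹ * a * (g * ((a : Ω)⁻¹ * g * a * g⁻¹)) * g⁻¹ := by group
      _ = g * (a : Ω)⁻¹ * g⁻¹ * a * (((a : Ω)⁻¹ * g * a * g⁻¹) * g) * g⁻¹ := by rw [hc]
      _ = 1 := by group

theorem autGroup_eq_range {Ω : Type*} [Group Ω] {P Q : Subgroup Ω} (hQ : Q ≤ P) :
    (Cfsg.groupFusionSystem P).autGroup Q = Q.normalizerMonoidHom.range := by
  ext α
  rw [group_mem_autGroup_iff hQ]
  constructor
  · rintro ⟨g, hg⟩
    refine ⟨⟨g, mem_normalizer_of_aut α g hg⟩, ?_⟩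
    apply MulEquiv.ext
    intro x
    apply Subtype.ext
    exact (hg x).symm
  · rintro ⟨n, rfl⟩
    exact ⟨n, fun x => rfl⟩

/-- membership in `O_p(N_G(Q)/C_G(Q))` in terms of the induced automorphism -/
theorem mk_mem_iff_aut {Ω : Type*} [Group Ω] {p : ℕ} (Q : Subgroup Ω) (g : Ω)
    (hg : g ∈ Subgroup.normalizer (Q : Set Ω)) :
    (QuotientGroup.mk (s := (Subgroup.centralizer (Q : Set Ω)).subgroupOf (Subgroup.normalizer (Q : Set Ω)))
          (⟨g, hg⟩ : ↥(Subgroup.normalizer (Q : Set Ω)))) ∈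
        Cfsg.pCore p (↥(Subgroup.normalizer (Q : Set Ω)) ⧸
          (Subgroup.centralizer (Q : Set Ω)).subgroupOf (Subgroup.normalizer (Q : Set Ω))) ↔
      Q.normalizerMonoidHom ⟨g, hg⟩ ∈ (Cfsg.pCore p ↥(Q.normalizerMonoidHom.range)).map
        (Q.normalizerMonoidHom.range).subtype := by
  have hker : Q.normalizerMonoidHom.rangeRestrict.ker =
      (Subgroup.centralizer (Q : Set Ω)).subgroupOf (Subgroup.normalizer (Q : Set Ω)) := by
    rw [MonoidHom.ker_rangeRestrict, Subgroup.normalizerMonoidHom_ker]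
  rw [mk_mem_pCore_iff (p := p) Q.normalizerMonoidHom.rangeRestrict
    Q.normalizerMonoidHom.rangeRestrict_surjective _ hker ⟨g, hg⟩]
  constructor
  · intro h
    exact ⟨_, h, rfl⟩
  · rintro ⟨y, hy, hyx⟩
    have : y = Q.normalizerMonoidHom.rangeRestrict ⟨g, hg⟩ := Subtype.ext hyx
    rwa [this] at hy

/-- transport of the conclusion along conjugation -/
theorem mk_mem_conj_iff {Ω : Type*} [Group Ω] {p : ℕ} (Q : Subgroup Ω) (t g : Ω)
    (hg : g ∈ Subgroup.normalizer (Q : Set Ω))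
    (hg' : t * g * t⁻¹ ∈ Subgroup.normalizer ((conjSub t Q : Subgroup Ω) : Set Ω)) :
    (QuotientGroup.mk (s := (Subgroup.centralizer (Q : Set Ω)).subgroupOf (Subgroup.normalizer (Q : Set Ω)))
          (⟨g, hg⟩ : ↥(Subgroup.normalizer (Q : Set Ω)))) ∈
        Cfsg.pCore p (↥(Subgroup.normalizer (Q : Set Ω)) ⧸
          (Subgroup.centralizer (Q : Set Ω)).subgroupOf (Subgroup.normalizer (Q : Set Ω))) ↔
    (QuotientGroup.mk (s := (Subgroup.centralizer ((conjSub t Q : Subgroup Ω) : Set Ω)).subgroupOf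
            (Subgroup.normalizer ((conjSub t Q : Subgroup Ω) : Set Ω)))
          (⟨t * g * t⁻¹, hg'⟩ : ↥(Subgroup.normalizer ((conjSub t Q : Subgroup Ω) : Set Ω)))) ∈
        Cfsg.pCore p (↥(Subgroup.normalizer ((conjSub t Q : Subgroup Ω) : Set Ω)) ⧸
          (Subgroup.centralizer ((conjSub t Q : Subgroup Ω) : Set Ω)).subgroupOf
            (Subgroup.normalizer ((conjSub t Q : Subgroup Ω) : Set Ω))) := by
  have hmem : ∀ n : ↥(Subgroup.normalizer (Q : Set Ω)),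
      ((MulAut.conj t).toMonoidHom.comp (Subgroup.normalizer (Q : Set Ω)).subtype) n ∈
        Subgroup.normalizer ((conjSub t Q : Subgroup Ω) : Set Ω) := by
    intro n
    rw [← conjSub_normalizer]
    exact conj_mem_conjSub n.2
  let ψ : ↥(Subgroup.normalizer (Q : Set Ω)) →*
      ↥(Subgroup.normalizer ((conjSub t Q : Subgroup Ω) : Set Ω)) :=
    ((MulAut.conj t).toMonoidHom.comp (Subgroup.normalizer (Q : Set Ω)).subtype).codRestrict _ hmem
  let π := (QuotientGroup.mk' ((Subgroup.centralizer ((conjSub t Q : Subgroup Ω) : Set Ω)).subgroupOf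
            (Subgroup.normalizer ((conjSub t Q : Subgroup Ω) : Set Ω)))).comp ψ
  have hψ : Function.Surjective ψ := by
    rintro ⟨m, hm⟩
    have hm' : m ∈ conjSub t (Subgroup.normalizer (Q : Set Ω)) := by
      rw [conjSub_normalizer]; exact hm
    obtain ⟨n, hn, hnm⟩ := hm'
    exact ⟨⟨n, hn⟩, Subtype.ext hnm⟩
  have hπ : Function.Surjective π := (QuotientGroup.mk'_surjective _).comp hψ
  have hker : π.ker = (Subgroup.centralizer (Q : Set Ω)).subgroupOf (Subgroup.normalizer (Q : Set Ω)) := by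
    ext n
    rw [MonoidHom.mem_ker, MonoidHom.comp_apply, QuotientGroup.mk'_apply, QuotientGroup.eq_one_iff,
      Subgroup.mem_subgroupOf, Subgroup.mem_subgroupOf, ← conjSub_centralizer, mem_conjSub]
    have : t⁻¹ * ((ψ n : ↥(Subgroup.normalizer ((conjSub t Q : Subgroup Ω) : Set Ω))) : Ω) * t = (n : Ω) := by
      show t⁻¹ * (t * (n : Ω) * t⁻¹) * t = n
      group
    rw [this]
  rw [mk_mem_pCore_iff (p := p) π hπ _ hker ⟨g, hg⟩]
  rfl

/-- Let p be an odd prime, G a finite group and P a Sylow p-subgroup. Call a fusion system F p-stable when, for every fully normalized subgroup Q and every χ ∈ Aut_F(Q) acting quadratically on Q (that is, χ fixes a⁻¹χ(a) for every a ∈ Q; equivalently χ(a⁻¹)·a·χ(a⁻¹)·χ(χ(a)) = 1), χ lies in O_p(Aut_F(Q)). Then G is p-stable in the normalizer form (for every p-subgroup Q and x ∈ N_G(Q) with [Q, x, x] = 1, the image of x lies in O_p(N_G(Q)/C_G(Q))) if and only if the fusion system of G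 on P is p-stable. -/
theorem result {Ω : Type*} [Group Ω] [Finite Ω] {p : ℕ} [Fact p.Prime] (hp : p ≠ 2) (P : Sylow p Ω) : Cfsg.IsNormalizerPStable p Ω ↔ (∀ Q : Subgroup Ω, (Cfsg.groupFusionSystem (P : Subgroup Ω)).IsFullyNormalized Q → ∀ χ : MulAut ↥Q, χ ∈ (Cfsg.groupFusionSystem (P : Subgroup Ω)).autGroup Q → (∀ a : ↥Q, (χ a⁻¹) * a * (χ a⁻¹) * (χ (χ a)) = 1) → χ ∈ ((Cfsg.pCore p ↥((Cfsg.groupFusionSystem (P : Subgroup Ω)).autGroup Q)).map ((Cfsg.groupFusionSystem (P : Subgroup Ω)).autGroup Q).subtype : Subgroup (MulAut ↥Q))) := by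
  classical
  constructor
  · intro hst Q hQfn χ hχ hquad
    have hQP : Q ≤ (P : Subgroup Ω) := hQfn.1
    obtain ⟨g, hg⟩ := (group_mem_autGroup_iff hQP χ).mp hχ
    have hgN : g ∈ Subgroup.normalizer (Q : Set Ω) := mem_normalizer_of_aut χ g hg
    have hq : ⁅⁅Q, Subgroup.zpowers g⁆, Subgroup.zpowers g⁆ = ⊥ :=
      (quad_iff Q g).mpr ((aut_quad_iff Q g χ hg).mp hquad)
    have h1 := hst Q (P.isPGroup'.to_le hQP) g hgN hq
    rw [mk_mem_iff_aut] at h1
    have hχeq : Q.normalizerMonoidHom ⟨g, hgN⟩ = χ := by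
      apply MulEquiv.ext
      intro x
      apply Subtype.ext
      exact (hg x).symm
    rw [hχeq] at h1
    rw [autGroup_eq_range hQP]
    exact h1
  · intro hF Q₀ hQ₀ g hg hquad
    obtain ⟨h, hh⟩ := exists_conjSub_le_sylow P hQ₀
    obtain ⟨h', hQS, hsyl⟩ := exists_conj_normalizer_sylow P (conjSub h Q₀) hh
    rw [conjSub_conjSub] at hQS hsyl
    have hfn : (Cfsg.groupFusionSystem (P : Subgroup Ω)).IsFullyNormalized (conjSub (h' * h) Q₀) :=
      (group_isFullyNormalized_iff P _ hQS).mpr hsyl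
    have hg' : (h' * h) * g * (h' * h)⁻¹ ∈
        Subgroup.normalizer ((conjSub (h' * h) Q₀ : Subgroup Ω) : Set Ω) := by
      rw [← conjSub_normalizer]
      exact conj_mem_conjSub hg
    rw [mk_mem_conj_iff Q₀ (h' * h) g hg hg', mk_mem_iff_aut]
    have hχmem : (conjSub (h' * h) Q₀).normalizerMonoidHom ⟨_, hg'⟩ ∈
        (Cfsg.groupFusionSystem (P : Subgroup Ω)).autGroup (conjSub (h' * h) Q₀) := by
      rw [autGroup_eq_range hQS]
      exact ⟨_, rfl⟩
    have hq0 := (quad_iff Q₀ g).mp hquad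
    have hq1 : ∀ a ∈ conjSub (h' * h) Q₀, ((h' * h) * g * (h' * h)⁻¹) * ⁅a, (h' * h) * g * (h' * h)⁻¹⁆ =
        ⁅a, (h' * h) * g * (h' * h)⁻¹⁆ * ((h' * h) * g * (h' * h)⁻¹) := by
      rintro _ ⟨a, ha, rfl⟩
      have h2 := hq0 a ha
      rw [commutatorElement_def] at h2 ⊢
      show (h' * h) * g * (h' * h)⁻¹ * ((h' * h) * a * (h' * h)⁻¹ * ((h' * h) * g * (h' * h)⁻¹) *
          ((h' * h) * a * (h' * h)⁻¹)⁻¹ * ((h' * h) * g * (h' * h)⁻¹)⁻¹) =
        (h' * h) * a * (h' * h)⁻¹ * ((h' * h) * g * (h' * h)⁻¹) *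
          ((h' * h) * a * (h' * h)⁻¹)⁻¹ * ((h' * h) * g * (h' * h)⁻¹)⁻¹ * ((h' * h) * g * (h' * h)⁻¹)
      calc (h' * h) * g * (h' * h)⁻¹ * ((h' * h) * a * (h' * h)⁻¹ * ((h' * h) * g * (h' * h)⁻¹) *
          ((h' * h) * a * (h' * h)⁻¹)⁻¹ * ((h' * h) * g * (h' * h)⁻¹)⁻¹)
          = (h' * h) * (g * (a * g * a⁻¹ * g⁻¹)) * (h' * h)⁻¹ := by group
        _ = (h' * h) * ((a * g * a⁻¹ * g⁻¹) * g) * (h' * h)⁻¹ := by rw [h2]
        _ = _ := by group
    have hquad' := (aut_quad_iff (conjSub (h' * h) Q₀) _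
      ((conjSub (h' * h) Q₀).normalizerMonoidHom ⟨_, hg'⟩) (fun x => rfl)).mpr hq1
    have h3 := hF _ hfn _ hχmem hquad'
    rw [autGroup_eq_range hQS] at h3
    exact h3

end Cfsg.Agent.S5246
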