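import Cfsg.Statements.S5247
import Cfsg.Agent.Lib.Helper87_PStableSys

set_option autoImplicit false
open Cfsg

namespace Cfsg.Agent.S5247

/-- Let p be an odd prime and F a saturated fusion system over a finite p-group S. Call a fusion system E (over any subgroup) p-stable when, for every fully E-normalized subgroup Q and every χ ∈ Aut_E(Q) with χ(a⁻¹)·a·χ(a⁻¹)·χ(χ(a)) = 1 for all a ∈ Q (χ acts quadratically), χ lies in O_p(Aut_E(Q)). Then F is p-stable if and only if every normalizer fusion system N_F(R) of every non-cyclic fully F-normalized subgroup R of S is p-stable. -/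
theorem result {Ω : Type*} [Group Ω] {S : Subgroup Ω} [Finite S] (p : ℕ) [Fact p.Prime] (hS : IsPGroup p S) (F : Cfsg.FusionSystem S) (hF : F.IsSaturated p) (hp : p ≠ 2) : (∀ Q : Subgroup Ω, F.IsFullyNormalized Q → ∀ χ : MulAut ↥Q, χ ∈ F.autGroup Q → (∀ a : ↥Q, (χ a⁻¹) * a * (χ a⁻¹) * (χ (χ a)) = 1) → χ ∈ ((Cfsg.pCore p ↥(F.autGroup Q)).map (F.autGroup Q).subtype : Subgroup (MulAut ↥Q))) ↔ ∀ R : Subgroup Ω, F.IsFullyNormalized R → ¬ IsCyclic ↥R → ∀ N : Cfsg.FusionSystem (Cfsg.FusionSystem.normalizerIn S R), F.IsNormalizerSystem R N → (∀ Q : Subgroup Ω, N.IsFullyNormalized Q → ∀ χ : MulAut ↥Q, χ ∈ N.autGroup Q → (∀ a : ↥Q, (χ a⁻¹) * a * (χ a⁻¹) * (χ (χ a)) = 1) → χ ∈ ((Cfsg.pCore p ↥(N.autGroup Q)).map (N.autGroup Q).subtype : Subgroup (MulAut ↥Q))) := by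
  classical
  constructor
  · intro h R hR _ N hN
    have hst : Cfsg.Agent.Lib.Helper87_PStableSys.IsPStableSys p F := fun Q hQ χ hχ hq => h Q hQ χ hχ hq
    have hsub : N.IsSubsystemOf F := by
      intro P φ hφ
      rw [hN P] at hφ
      exact hφ.1
    have hN' := Cfsg.Agent.Lib.Helper87_PStableSys.IsPStableSys.of_subsystem hst
      (Cfsg.Agent.Lib.Helper87_Alperin.normalizerIn_le S R) hsub
    exact fun Q hQ χ hχ hq => hN' Q hQ χ hχ hq
  · intro h Q hQ χ hχ hq
    have hQS : Q ≤ S := hQ.1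
    have : Finite Q := Finite.of_injective (Subgroup.inclusion hQS) (Subgroup.inclusion_injective hQS)
    by_cases hcyc : IsCyclic ↥Q
    · exact Cfsg.Agent.Lib.Helper87_PStableSys.mem_pCore_of_isCyclic F (hS.to_le hQS) hcyc hχ hq
    · have hN := Cfsg.Agent.Lib.Helper85_Fusion.normalizerSystem_isNormalizerSystem F Q hQS
      have hTS : Cfsg.FusionSystem.normalizerIn S Q ≤ S := Cfsg.Agent.Lib.Helper87_Alperin.normalizerIn_le S Q
      have : Finite (Cfsg.FusionSystem.normalizerIn S Q) :=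
        Finite.of_injective (Subgroup.inclusion hTS) (Subgroup.inclusion_injective hTS)
      have hQT : Q ≤ Cfsg.FusionSystem.normalizerIn S Q := le_inf hQS Subgroup.le_normalizer
      have hTQ : Cfsg.FusionSystem.normalizerIn S Q ≤ Subgroup.normalizer (Q : Set Ω) := inf_le_right
      have hfn := Cfsg.Agent.Lib.Helper87_Henke.isFullyNormalized_of_le_normalizer
        (Cfsg.Agent.Lib.Helper85_Fusion.normalizerSystem F Q hQS) hQT hTQ
      have heq := Cfsg.Agent.Lib.Helper88_Model.autGroup_eq_of_isNormalizerSystem F hQS _ hN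
      have h1 := h Q hQ hcyc _ hN Q hfn χ (by rw [heq]; exact hχ) hq
      rw [heq] at h1
      exact h1

end Cfsg.Agent.S5247
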