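-- Statement S5251: centric subgroups meeting a normal subsystem non-centrally are not radical.
import Cfsg.Statements.S5251
import Cfsg.Agent.Lib.Helper87_Normal
import Cfsg.Agent.Lib.Helper87_Conj

set_option autoImplicit false
open Cfsg

namespace Cfsg.Agent.S5251

open Cfsg.FusionSystem Cfsg.Agent.Lib Cfsg.Agent.Lib.Helper87_Alperin Cfsg.Agent.Lib.Helper87_Alperin2
  Cfsg.Agent.Lib.Helper87_Normal Cfsg.Agent.Lib.Helper87_Conj

/-- Elements centralizing a subgroup normalize it. -/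
theorem mem_normalizer_of_mem_centralizer {Ω : Type*} [Group Ω] {U : Subgroup Ω} {c : Ω}
    (hc : c ∈ Subgroup.centralizer (U : Set Ω)) : c ∈ Subgroup.normalizer (U : Set Ω) := by
  have hcomm : ∀ x ∈ U, c * x * c⁻¹ = x := by
    intro x hx
    have := hc x hx
    rw [← this, mul_inv_cancel_right]
  rw [Subgroup.mem_normalizer_iff]
  intro h
  constructor
  · intro hh
    rw [hcomm h hh]
    exact hh
  · intro hh
    have h2 := hcomm _ hh
    have h4 : c * h * c⁻¹ = c⁻¹ * (c * (c * h * c⁻¹) * c⁻¹) * c := by group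
    rw [h2] at h4
    have h5 : c⁻¹ * (c * h * c⁻¹) * c = h := by group
    rw [h5] at h4
    rw [← h4]
    exact hh

/-- The key construction: an `F`-conjugate `R = φ(P)` of `P` and an element `x ∈ N_S(R)`, outside `R`, lying in
`T`, centralizing `R ∩ T`. -/
theorem exists_conj {Ω : Type*} [Group Ω] {S : Subgroup Ω} [Finite S] (p : ℕ) [Fact p.Prime]
    (hS : IsPGroup p S) (F : Cfsg.FusionSystem S) (hF : F.IsSaturated p) {T : Subgroup Ω}
    (E : Cfsg.FusionSystem T) (hsub : E.IsSubsystemOf F) (hT : F.StronglyClosed T) (P : Subgroup Ω)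
    (hPS : P ≤ S) (hPT : ¬ E.IsCentric (P ⊓ T)) :
    ∃ φ ∈ F.Hom P, ∃ x ∈ T, x ∈ Subgroup.normalizer (φ.range : Set Ω) ∧ x ∉ φ.range ∧
      ∀ y ∈ φ.range ⊓ T, x * y = y * x := by
  classical
  have hTS : T ≤ S := hT.1
  have hnormT : S ≤ Subgroup.normalizer (T : Set Ω) := stronglyClosed_le_normalizer hT
  -- an `E`-conjugate `U'` of `U = P ⊓ T` with `C_T(U')` not in `U'`
  have h1 : ∃ U', E.IsConj (P ⊓ T) U' ∧ ¬ centralizerIn T U' ≤ U' := by
    by_contra hcon
    apply hPT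
    refine ⟨inf_le_right, fun Q hQ => ?_⟩
    by_contra hQ'
    exact hcon ⟨Q, hQ, hQ'⟩
  obtain ⟨U', ⟨χ, hχE, hχr⟩, hU'⟩ := h1
  have hχ : χ ∈ F.Hom (P ⊓ T) := hsub _ hχE
  have hUS : P ⊓ T ≤ S := inf_le_left.trans hPS
  -- a fully automized receptive `F`-conjugate `U*` of `U`
  obtain ⟨Us, ⟨k₀, hk₀, hk₀r⟩, hUsa, hUsr⟩ := hF (P ⊓ T) hUS
  obtain ⟨α, hα, a, ha, haU⟩ := exists_extension F hS hUsa hUsr hk₀ hk₀r
  -- `P` normalizes `U`
  have hPN : P ≤ normalizerIn S (P ⊓ T) := by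
    intro g hg
    refine ⟨hPS hg, ?_⟩
    have hgN := hnormT (hPS hg)
    show g ∈ Subgroup.normalizer ((P ⊓ T : Subgroup Ω) : Set Ω)
    rw [Subgroup.mem_normalizer_iff]
    intro y
    constructor
    · rintro ⟨hyP, hyT⟩
      exact ⟨P.mul_mem (P.mul_mem hg hyP) (P.inv_mem hg), (Subgroup.mem_normalizer_iff.1 hgN y).1 hyT⟩
    · rintro ⟨hyP, hyT⟩
      refine ⟨?_, (Subgroup.mem_normalizer_iff.1 hgN y).2 hyT⟩
      have h2 : y = g⁻¹ * (g * y * g⁻¹) * g := by group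
      rw [h2]
      exact P.mul_mem (P.mul_mem (P.inv_mem hg) hyP) hg
  obtain ⟨φ, hφ, hφa⟩ := ha.mono hPN
  have hφinj : Function.Injective φ := F.injective_of_mem hφ
  -- values of `a` on `U`
  have haUs : ∀ (y : Ω) (hy : y ∈ P ⊓ T), a y ∈ Us := by
    intro y hy
    rw [haU ⟨y, hy⟩]
    refine extFun_mem α ?_
    rw [← hk₀r]
    exact ⟨_, rfl⟩
  have hUs_sub : ∀ z ∈ Us, ∃ y, ∃ hy : y ∈ P ⊓ T, a y = z := by
    intro z hz
    have h2 : extFun α⁻¹ z ∈ Us := extFun_mem _ hz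
    have h3 : extFun α⁻¹ z ∈ k₀.range := hk₀r.ge h2
    obtain ⟨y, hy⟩ := h3
    refine ⟨y, y.2, ?_⟩
    rw [haU y, hy]
    exact extFun_apply_inv α hz
  -- `φ(P) ∩ T = U*`
  have hrange_inf : φ.range ⊓ T = Us := by
    apply le_antisymm
    · rintro z ⟨⟨g, rfl⟩, hzT⟩
      -- `g ∈ T` since the inverse of `φ` is a map of the system and `T` is strongly closed
      obtain ⟨ψ, hψ, hψφ⟩ := F.inv_mem hφ
      have h2 := restrict_mem F hψ (inf_le_left : φ.range ⊓ T ≤ φ.range)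
      have h3 := hT.2 (φ.range ⊓ T) inf_le_right _ h2 ⟨φ g, ⟨⟨g, rfl⟩, hzT⟩⟩
      have h4 : (ψ.comp (Subgroup.inclusion (inf_le_left : φ.range ⊓ T ≤ φ.range)))
          ⟨φ g, ⟨⟨g, rfl⟩, hzT⟩⟩ = (g : Ω) := hψφ g
      rw [h4] at h3
      rw [hφa]
      exact haUs g ⟨g.2, h3⟩
    · intro z hz
      obtain ⟨y, hy, rfl⟩ := hUs_sub z hz
      refine ⟨⟨⟨y, hy.1⟩, hφa _⟩, ?_⟩
      have h2 := restrict_mem F hφ (inf_le_left : P ⊓ T ≤ P)
      have h3 := hT.2 (P ⊓ T) inf_le_right _ h2 ⟨y, hy⟩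
      have h4 : (φ.comp (Subgroup.inclusion (inf_le_left : P ⊓ T ≤ P))) ⟨y, hy⟩ = a y := hφa ⟨y, hy.1⟩
      rw [h4] at h3
      exact h3
  -- `C_T(U*)` is not contained in `U*`
  have hUs' : ¬ centralizerIn T Us ≤ Us := by
    intro hle
    apply hU'
    -- the map `k₁ = k₀ ∘ χ⁻¹ : U' → U*`
    have hχmap : IsMapOn F (P ⊓ T) (extHom χ) := isMapOn_extHom F hχ
    have hU'iff : ∀ y, y ∈ U' ↔ ∃ x ∈ P ⊓ T, extHom χ x = y := by
      intro y
      constructor
      · intro hy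
        have hy' : y ∈ χ.range := hχr.ge hy
        obtain ⟨x, rfl⟩ := hy'
        exact ⟨x, x.2, extHom_coe χ x⟩
      · rintro ⟨x, hx, rfl⟩
        rw [extHom_apply χ hx]
        exact hχr.le ⟨_, rfl⟩
    obtain ⟨χinv, hχinv, hχinv1, hχinv2, hχinv3⟩ := hχmap.inv hU'iff
    have hk₀map : IsMapOn F (P ⊓ T) (extHom k₀) := isMapOn_extHom F hk₀
    obtain ⟨k₁, hk₁, hk₁f⟩ := hχinv.comp hk₀map hχinv2
    have hk₁r : k₁.range = Us := by
      ext z
      constructor
      · rintro ⟨y, rfl⟩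
        rw [hk₁f, Function.comp_apply, extHom_apply k₀ (hχinv2 _ y.2)]
        exact hk₀r.le ⟨_, rfl⟩
      · intro hz
        have hz' : z ∈ k₀.range := hk₀r.ge hz
        obtain ⟨x, rfl⟩ := hz'
        have hx' : extHom χ x ∈ U' := (hU'iff _).2 ⟨x, x.2, rfl⟩
        refine ⟨⟨extHom χ x, hx'⟩, ?_⟩
        rw [hk₁f, Function.comp_apply, hχinv1 x x.2, extHom_coe]
    obtain ⟨α', hα', a', ha', ha'U⟩ := exists_extension F hS hUsa hUsr hk₁ hk₁r
    intro c hc
    have hU'S : U' ≤ S := hom_le F hk₁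
    have hcN : c ∈ normalizerIn S U' := ⟨hTS hc.1, mem_normalizer_of_mem_centralizer hc.2⟩
    -- `a' c ∈ C_T(U*)`
    have ha'c_T : a' c ∈ T := by
      obtain ⟨θ, hθ, hθa⟩ := ha'
      have h2 := restrict_mem F hθ (inf_le_left : normalizerIn S U' ⊓ T ≤ normalizerIn S U')
      have h3 := hT.2 _ inf_le_right _ h2 ⟨c, ⟨hcN, hc.1⟩⟩
      have h4 : (θ.comp (Subgroup.inclusion
          (inf_le_left : normalizerIn S U' ⊓ T ≤ normalizerIn S U'))) ⟨c, ⟨hcN, hc.1⟩⟩ = a' c :=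
        hθa ⟨c, hcN⟩
      rw [h4] at h3
      exact h3
    have hU'N : U' ≤ normalizerIn S U' := le_normalizerIn hU'S
    have ha'U' : ∀ z ∈ Us, ∃ y ∈ U', a' y = z := by
      intro z hz
      have h2 : extFun α'⁻¹ z ∈ Us := extFun_mem _ hz
      have h3 : extFun α'⁻¹ z ∈ k₁.range := hk₁r.ge h2
      obtain ⟨y, hy⟩ := h3
      refine ⟨y, y.2, ?_⟩
      rw [ha'U y, hy]
      exact extFun_apply_inv α' hz
    have ha'c_C : a' c ∈ Subgroup.centralizer (Us : Set Ω) := by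
      intro z hz
      obtain ⟨y, hy, rfl⟩ := ha'U' z hz
      rw [← ha'.map_mul (hU'N hy) hcN, ← ha'.map_mul hcN (hU'N hy)]
      congr 1
      exact hc.2 y hy
    have h5 : a' c ∈ Us := hle ⟨ha'c_T, ha'c_C⟩
    obtain ⟨y, hy, hyc⟩ := ha'U' _ h5
    have h6 := ha'.injOn (hU'N hy) hcN hyc
    rw [← h6]
    exact hy
  -- an element of `C_T(U*)` outside `R = φ(P)` normalizing it
  have hRS : φ.range ≤ S := by
    rintro _ ⟨g, rfl⟩
    exact hom_mem F hφ g
  have hNS : centralizerIn T Us ≤ S := inf_le_left.trans hTS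
  have hRN : φ.range ≤ Subgroup.normalizer ((centralizerIn T Us : Subgroup Ω) : Set Ω) := by
    intro g hg
    have hgT := hnormT (hRS hg)
    -- `g` normalizes `U* = R ⊓ T`
    have hgU : ∀ y, y ∈ Us ↔ g * y * g⁻¹ ∈ Us := by
      intro y
      rw [← hrange_inf]
      constructor
      · rintro ⟨hyR, hyT⟩
        exact ⟨(φ.range).mul_mem ((φ.range).mul_mem hg hyR) ((φ.range).inv_mem hg),
          (Subgroup.mem_normalizer_iff.1 hgT y).1 hyT⟩
      · rintro ⟨hyR, hyT⟩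
        refine ⟨?_, (Subgroup.mem_normalizer_iff.1 hgT y).2 hyT⟩
        have h2 : y = g⁻¹ * (g * y * g⁻¹) * g := by group
        rw [h2]
        exact (φ.range).mul_mem ((φ.range).mul_mem ((φ.range).inv_mem hg) hyR) hg
    rw [Subgroup.mem_normalizer_iff]
    intro c
    constructor
    · rintro ⟨hcT, hcC⟩
      refine ⟨(Subgroup.mem_normalizer_iff.1 hgT c).1 hcT, ?_⟩
      intro y hy
      have hy' : g⁻¹ * y * g ∈ Us := by
        have := (hgU (g⁻¹ * y * g)).2 (by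
          have h2 : g * (g⁻¹ * y * g) * g⁻¹ = y := by group
          rw [h2]
          exact hy)
        exact this
      have h3 := hcC _ hy'
      have h4 : y * (g * c * g⁻¹) = g * ((g⁻¹ * y * g) * c) * g⁻¹ := by group
      have h5 : g * c * g⁻¹ * y = g * (c * (g⁻¹ * y * g)) * g⁻¹ := by group
      rw [h4, h5, h3]
    · rintro ⟨hcT, hcC⟩
      refine ⟨(Subgroup.mem_normalizer_iff.1 hgT c).2 hcT, ?_⟩
      intro y hy
      have hy' : g * y * g⁻¹ ∈ Us := (hgU y).1 hy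
      have h3 := hcC _ hy'
      have h4 : y * c = g⁻¹ * ((g * y * g⁻¹) * (g * c * g⁻¹)) * g := by group
      have h5 : c * y = g⁻¹ * ((g * c * g⁻¹) * (g * y * g⁻¹)) * g := by group
      rw [h4, h5, h3]
  have hNR : ¬ centralizerIn T Us ≤ φ.range := by
    intro hle
    apply hUs'
    intro c hc
    rw [← hrange_inf]
    exact ⟨hle hc, hc.1⟩
  obtain ⟨x, hxN, hxnorm, hxR⟩ := exists_mem_normalizer_not_mem hS hRS hNS hRN hNR
  refine ⟨φ, hφ, x, hxN.1, hxnorm, hxR, ?_⟩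
  intro y hy
  rw [hrange_inf] at hy
  exact (hxN.2 y hy).symm

/-- Let F be a saturated fusion system over a finite p-group S, E a normal subsystem of F over T, and P an F-centric subgroup of S such that P ∩ T is not E-centric. Then some F-conjugate P* of P satisfies Out_S(P*) ∩ O_p(Out_F(P*)) ≠ 1: there is an element of N_S(P*) outside P* whose conjugation action on P* lies in O_p(Aut_F(P*)). In particular P is not both centric and radical in F. -/
theorem result {Ω : Type*} [Group Ω] {S : Subgroup Ω} [Finite S] (p : ℕ) [Fact p.Prime] (hS : IsPGroup p S) (F : Cfsg.FusionSystem S) (hF : F.IsSaturated p) {T : Subgroup Ω} (E : Cfsg.FusionSystem T) (hE : E.IsNormalIn F p) (P : Subgroup Ω) (hP : F.IsCentric P) (hPT : ¬ E.IsCentric (P ⊓ T)) : (∃ φ ∈ F.Hom P, ∃ x ∈ S ⊓ Subgroup.normalizer (φ.range : Set Ω), x ∉ φ.range ∧ ∃ α ∈ ((Cfsg.pCore p ↥(F.autGroup φ.range)).map (F.autGroup φ.range).subtype : Subgroup (MulAut ↥φ.range)),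 ∀ y : ↥φ.range, ((α y : ↥φ.range) : Ω) = x * (y : Ω) * x⁻¹) ∧ ¬ F.IsRadical p P := by
  classical
  have hsub : E.IsSubsystemOf F := hE.1.2.2.1
  have hT : F.StronglyClosed T := hE.1.2.2.2.1
  have hTS : T ≤ S := hT.1
  have hPS : P ≤ S := hP.1
  obtain ⟨φ, hφ, x, hxT, hxnorm, hxR, hxcent⟩ := exists_conj p hS F hF E hsub hT P hPS hPT
  have hRS : φ.range ≤ S := by
    rintro _ ⟨g, rfl⟩
    exact hom_mem F hφ g
  have hfinR : Finite φ.range :=
    Finite.of_injective (Subgroup.inclusion hRS) (Subgroup.inclusion_injective hRS)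
  have hRp : IsPGroup p φ.range := hS.to_le hRS
  have hxS : x ∈ S := hTS hxT
  -- the automorphism induced by `x`
  let β : MulAut φ.range := Subgroup.normalizerMonoidHom φ.range ⟨x, hxnorm⟩
  have hβ : ∀ y : φ.range, ((β y : φ.range) : Ω) = x * y * x⁻¹ := fun y => rfl
  have hβK : β ∈ F.autGroup φ.range :=
    autInducedBy_le_autGroup F hRS ((mem_autInducedBy_iff S φ.range β).2 ⟨x, hxS, hβ⟩)
  -- the chain `⊥ ≤ T ≤ ⊤`
  let D : ℕ → Subgroup Ω := fun j => if j = 0 then ⊥ else if j = 1 then T else ⊤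
  have hβcore : β ∈ (pCore p (F.autGroup φ.range)).map (F.autGroup φ.range).subtype := by
    refine mem_pCore_of_stabilizes_chain hRp (F.autGroup φ.range) D 2 (by simp [D]) (by simp [D]) ?_ β
      hβK ?_
    · intro j hj γ hγ y hy
      interval_cases j
      · simp only [D, if_true, Subgroup.mem_bot] at hy ⊢
        have : y = 1 := Subtype.ext hy
        rw [this, map_one]
        rfl
      · simp only [D] at hy ⊢
        norm_num at hy ⊢
        exact stronglyClosed_aut_mem hT hRS hγ y hy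
      · simp [D]
    · intro j hj y hy
      interval_cases j
      · simp only [D] at hy ⊢
        norm_num at hy ⊢
        rw [hβ]
        have h1 := hxcent y ⟨y.2, hy⟩
        rw [h1]
        group
      · simp only [D] at hy ⊢
        norm_num
        rw [hβ]
        have h1 : (y : Ω)⁻¹ * x * ((y : Ω)⁻¹)⁻¹ ∈ T :=
          stronglyClosed_conj_mem hT (S.inv_mem (hRS y.2)) hxT
        have h2 : (y : Ω)⁻¹ * (x * (y : Ω) * x⁻¹) = ((y : Ω)⁻¹ * x * ((y : Ω)⁻¹)⁻¹) * x⁻¹ := by group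
        rw [h2]
        exact T.mul_mem h1 (T.inv_mem hxT)
  refine ⟨⟨φ, hφ, x, ⟨hxS, hxnorm⟩, hxR, β, hβcore, hβ⟩, ?_⟩
  -- `P` is not radical
  intro hrad
  have hradR : F.IsRadical p φ.range := by
    -- radical is invariant under conjugation: use the inverse map
    obtain ⟨ψ, hψ, hψe⟩ := exists_inverse_hom F hφ
    have hψr : ψ.range = P := by
      ext z
      constructor
      · rintro ⟨y, rfl⟩
        rw [hψe]
        exact ((rangeEquiv F hφ).symm y).2
      · intro hz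
        refine ⟨rangeEquiv F hφ ⟨z, hz⟩, ?_⟩
        rw [hψe, MulEquiv.symm_apply_apply]
    apply isRadical_range F hψ
    rw [hψr]
    exact hrad
  rw [hradR.2] at hβcore
  obtain ⟨r, hr⟩ := hβcore
  have hcent : (r : Ω)⁻¹ * x ∈ centralizerIn S φ.range := by
    refine ⟨S.mul_mem (S.inv_mem (hRS r.2)) hxS, ?_⟩
    intro y hy
    have h1 : ((MulAut.conj r) ⟨y, hy⟩ : φ.range) = β ⟨y, hy⟩ := by rw [hr]
    have h2 : (r : Ω) * y * (r : Ω)⁻¹ = x * y * x⁻¹ := by
      have := congrArg Subtype.val h1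
      simpa [MulAut.conj_apply, hβ] using this
    have h3 : y * ((r : Ω)⁻¹ * x) = (r : Ω)⁻¹ * ((r : Ω) * y * (r : Ω)⁻¹) * x := by group
    rw [h3, h2]
    group
  have hcR : (r : Ω)⁻¹ * x ∈ φ.range := hP.2 φ.range ⟨φ, hφ, rfl⟩ hcent
  apply hxR
  have h4 : x = (r : Ω) * ((r : Ω)⁻¹ * x) := by group
  rw [h4]
  exact (φ.range).mul_mem r.2 hcR

end Cfsg.Agent.S5251
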