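import Cfsg.Statements.S5252
import Cfsg.Agent.Lib.Helper72_FocP

set_option autoImplicit false
open Cfsg

namespace Cfsg.Agent.S5252

/-- Let p ≥ 5 be a prime and F a saturated fusion system over a nontrivial finite p-group S such that Aut_F(S) is a p-group. Then the focal subgroup of F is a proper subgroup of S. -/
theorem result {Ω : Type*} [Group Ω] {S : Subgroup Ω} [Finite S] (p : ℕ) [Fact p.Prime] (hS : IsPGroup p S) (F : Cfsg.FusionSystem S) (hF : F.IsSaturated p) (hp : 5 ≤ p) (hS1 : S ≠ ⊥) (haut : IsPGroup p ↥(F.autGroup S)) : F.focalSubgroup < S := by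
  -- every automorphism of `S` in the system is inner
  have hinn : Cfsg.Agent.Lib.Helper72_FocP.AutInner F := by
    intro g hg
    have hfn : F.IsFullyNormalized S := Cfsg.Agent.Lib.Helper84_FusionAlperin.isFullyNormalized_S F
    obtain ⟨-, R, hR⟩ := Cfsg.Agent.Lib.Helper84_FusionRS.IsSaturated.isFullyAutomized hS hF hfn
    have htop : (⊤ : Subgroup ↥(F.autGroup S)) = (R : Subgroup ↥(F.autGroup S)) :=
      R.is_maximal' (haut.to_subgroup ⊤) le_top
    obtain ⟨α, hα, hαg⟩ := Cfsg.Agent.Lib.Helper84_KLBasic.exists_aut_of_isMapOn hg (fun x hx => hg.mem hx)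
    have h1 : (⟨α, hα⟩ : ↥(F.autGroup S)) ∈ (R : Subgroup ↥(F.autGroup S)) := htop ▸ Subgroup.mem_top _
    rw [hR, Subgroup.mem_subgroupOf] at h1
    obtain ⟨s, hs, hsα⟩ := (Cfsg.Agent.Lib.Helper87_Alperin.mem_autInducedBy_iff S S α).1 h1
    refine ⟨s, hs, fun x hx => ?_⟩
    rw [← hαg x hx, Cfsg.Agent.Lib.Helper87_Alperin.extFun_apply α hx]
    exact hsα ⟨x, hx⟩
  obtain ⟨X, hXS, hX⟩ := Cfsg.Agent.Lib.Helper72_FocP.mainFoc hp _ Ω S rfl hS hS1 F hF hinn
  exact lt_of_le_of_lt (Cfsg.Agent.Lib.Helper84_FocCentral.focalSubgroup_le_iff.2 hX) hXS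

end Cfsg.Agent.S5252
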