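import Cfsg.Statements.S5253
import Cfsg.Agent.Lib.Helper72_FusWC6
import Cfsg.Agent.Lib.Helper72_FusPow
import Cfsg.Agent.S1974
import Cfsg.Agent.S1971

set_option autoImplicit false
universe u
open Cfsg

namespace Cfsg.Agent.S5253

/-- Let p be a prime and W a positive characteristic p-functor with Z(Q) ≤ W(Q): W assigns to every finite p-group Q (in a fixed universe) a subgroup W(Q), nontrivial when Q is, carried to W(R) by every isomorphism Q ≅ R, and containing the centre of Q. Suppose that for every finite group G with Sylow p-subgroup P in which W(P) is not normal there is g ∈ P outside O_p(G) with [Z(O_p(G)), g, g] = 1. Then for every saturated fusion system F over a finite p-group S and every normalizer fusion system N of W(S) in F, every p-th power of an element of Z(S) that lies in the centre of N lies in the centre of F. -/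
theorem result {p : ℕ} [Fact p.Prime] (W : ∀ (Q : Type u) [Group Q], Subgroup Q) (hW1 : ∀ (Q : Type u) [Group Q] [Finite Q], IsPGroup p Q → Nontrivial Q → W Q ≠ ⊥) (hW2 : ∀ (Q R : Type u) [Group Q] [Group R] [Finite Q], IsPGroup p Q → ∀ φ : Q ≃* R, (W Q).map φ.toMonoidHom = W R) (hWZ : ∀ (Q : Type u) [Group Q] [Finite Q], IsPGroup p Q → Subgroup.center Q ≤ W Q) (hq : ∀ (G : Type u) [Group G] [Finite G] (P : Sylow p G), ¬ (((W ↥(P : Subgroup G)).map (P : Subgroup G).subtype : Subgroup G)).Normal → ∃ g : G, g ∈ (P : Subgroup G) ∧ g ∉ Cfsg.pCore p G ∧ ⁅⁅Subgroup.center ↥(Cfsg.pCore p G) |>.map (Cfsg.pCore p G).subtype, Subgroup.zpowers g⁆, Subgroup.zpowers g⁆ = ⊥) {Ω : Type u} [Group Ω] {S : Subgroup Ω} [Finite S] (hS : IsPGroup p S) (F : Cfsg.FusionSystem S) (hF : F.IsSaturated p) (N : Cfsg.FusionSystem (Cfsg.FusionSystem.normalizerIn S ((W ↥S).map S.subtype))) (hN : F.IsNormalizerSystem ((W ↥S).map S.subtype) N) : Subgroup.closure ((fun z => z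 ^ p) '' ((S ⊓ Subgroup.centralizer (S : Set Ω) : Subgroup Ω) : Set Ω)) ⊓ N.center ≤ F.center := by
  classical
  have hW : IsCharPFunctor p W := ⟨hW1, hW2⟩
  haveI : Finite (Cfsg.FusionSystem.normalizerIn S ((W ↥S).map S.subtype)) :=
    Cfsg.Agent.Lib.Helper72_FusWC.finite_of_le inf_le_left
  have hNc : N.IsCentral N.center := Cfsg.Agent.Lib.Helper85_Fusion.isCentral_center N
  have hSN : S ≤ Cfsg.FusionSystem.normalizerIn S ((W ↥S).map S.subtype) :=
    le_inf le_rfl (Subgroup.le_normalizer.trans (Cfsg.Agent.Lib.Helper87_GTFunctor.normalizer_le hW S hS))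
  set Z : Subgroup Ω := Subgroup.closure ((fun z => z ^ p) ''
    ((S ⊓ Subgroup.centralizer (S : Set Ω) : Subgroup Ω) : Set Ω)) ⊓ N.center with hZdef
  have hZS : Z ≤ S := inf_le_right.trans (hNc.1.trans inf_le_left)
  have hZ : ∀ z ∈ Z, ∀ s ∈ S, s * z = z * s := fun z hz s hs =>
    Cfsg.FusionSystem.center_le_centralizer N (Subgroup.mem_inf.1 hz).2 s (hSN hs)
  have H0 : Cfsg.Agent.Lib.Helper72_FusWC.AutFix F Z (inducedFunctor W S) :=
    fun f hf hfV x hx hxZ =>
      Cfsg.Agent.Lib.Helper72_FusWC.autFix_center_normalizerSystem F N hN f hf hfV x hx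
        (Subgroup.mem_inf.1 hxZ).2
  refine le_sSup (Cfsg.Agent.Lib.Helper72_FusWC.weakClosure_of_group hS F hF hW hWZ Z hZS hZ H0 ?_)
  intro R hRS _ _ _ hRc _ L _ _ ι T' hinj hT' z hzZ hzcore hnorm g
  -- `z` is the `p`-th power of an element `w` of `Z(S)`
  obtain ⟨w, hw, hwz⟩ := Cfsg.Agent.Lib.Helper72_FusPow.exists_pow_of_mem_closure
    (S ⊓ Subgroup.centralizer (S : Set Ω) : Subgroup Ω)
    (fun a ha b hb => ((Subgroup.mem_inf.1 hb).2 a (Subgroup.mem_inf.1 ha).1)) p (Subgroup.mem_inf.1 hzZ).1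
  have hwS : w ∈ S := (Subgroup.mem_inf.1 hw).1
  have hwc : ∀ s ∈ S, s * w = w * s := fun s hs => (Subgroup.mem_inf.1 hw).2 s hs
  have hwR : w ∈ R :=
    hRc.2 R (Cfsg.Agent.Lib.Helper84_Fusion.isConj_refl F hRS)
      (Subgroup.mem_inf.2 ⟨hwS, fun r hr => hwc r (hRS hr)⟩)
  have hwT : w ∈ Cfsg.FusionSystem.normalizerIn S R :=
    Subgroup.mem_inf.2 ⟨hwS, Subgroup.le_normalizer hwR⟩
  have hιw : ι ⟨w, hwT⟩ ^ p = ι z := by
    rw [← map_pow]
    congr 1
    exact Subtype.ext hwz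
  -- the group theorem in `L`
  have hWc := Cfsg.Agent.S1971.isConjugacyFunctor_induced hW L
  have hWZ' : ∀ P : Subgroup L, IsPGroup p ↥P →
      P ⊓ Subgroup.centralizer ((P : Subgroup L) : Set L) ≤ Cfsg.inducedFunctor W P := by
    intro P hP x hx
    exact Cfsg.Agent.Lib.Helper72_FusWC.center_le_ind hWZ P hP (Subgroup.mem_inf.1 hx).1
      (fun t ht => (Subgroup.mem_inf.1 hx).2 t ht)
  have key := (Cfsg.Agent.S1974.result T' (Cfsg.inducedFunctor W) hWc hWZ'
    (fun H T hTH hT hidx hn => Cfsg.Agent.Lib.Helper72_FusPow.hloc_of_type hW hq H T hTH hT hidx hn)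
    _ rfl).1
  refine key (ι z) (Subgroup.mem_inf.2 ⟨?_, ?_⟩) g ?_
  · apply Subgroup.subset_closure
    refine ⟨ι ⟨w, hwT⟩, Subgroup.mem_inf.2 ⟨hT' ▸ ⟨_, rfl⟩, ?_⟩, hιw⟩
    rw [hT']
    rintro _ ⟨t, rfl⟩
    rw [← map_mul, ← map_mul]
    congr 1
    exact Subtype.ext (hwc t (inf_le_left (a := S) t.2))
  · intro n hn
    have h1 := hnorm n hn
    calc n * ι z = n * ι z * n⁻¹ * n := by group
      _ = ι z * n := by rw [h1]
  · have hN : (Cfsg.pCore p L).Normal := Cfsg.pCore_normal p L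
    exact Cfsg.Agent.Lib.Helper47_PLocal.pCore_le_sylow T' (hN.conj_mem _ hzcore g)

end Cfsg.Agent.S5253
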