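import Cfsg.Statements.S5257
import Cfsg.Agent.Lib.Helper87_IndexP
import Cfsg.Agent.Lib.Helper87_IndexP2
import Cfsg.Agent.Lib.Helper87_IndexP3
import Cfsg.Agent.Lib.Helper84_Fusion

set_option autoImplicit false
open Cfsg

namespace Cfsg.Agent.S5257

/-- Let p be an odd prime, S a finite nonabelian p-group with a unique abelian subgroup A of index p, and F a saturated fusion system over S having an F-essential subgroup other than A. Then the second centre Z₂(S) lies in A; Z(S) ∩ [S, S] has order p; Z(S)[S, S] has index p in A; Z(S) has index p in Z₂(S); and S/Z(S) has maximal nilpotency class (if S/Z(S) has order pᵐ with m ≥ 3 then the term of index m − 2 of the lower central series of S, counting S as index 0, is not contained in Z(S)). -/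
theorem result {Ω : Type*} [Group Ω] {S : Subgroup Ω} [Finite S] (p : ℕ) [Fact p.Prime] (hS : IsPGroup p S) (F : Cfsg.FusionSystem S) (hF : F.IsSaturated p) (hp : p ≠ 2) (hna : ¬ IsMulCommutative ↥S) (A : Subgroup Ω) (hA : A ≤ S ∧ IsMulCommutative ↥A ∧ (A.subgroupOf S).index = p) (huniq : ∀ B : Subgroup Ω, B ≤ S → IsMulCommutative ↥B → (B.subgroupOf S).index = p → B = A) (P : Subgroup Ω) (hP : F.IsEssential p P) (hPA : P ≠ A) : ((upperCentralSeries ↥S 2).map S.subtype) ≤ A ∧ Nat.card ↥((S ⊓ Subgroup.centralizer (S : Set Ω)) ⊓ ((commutator ↥S).map S.subtype)) = p ∧ (((S ⊓ Subgroup.centralizer (S : Set Ω)) ⊔ ((commutator ↥S).map S.subtype)).subgroupOf A).index = p ∧ (((S ⊓ Subgroup.centralizer (S : Set Ω))).subgroupOf ((upperCentralSeries ↥S 2).map S.subtype)).index = p ∧ ∀ m : ℕ, ((S ⊓ Subgroup.centralizer (S : Set Ω)).subgroupOf S).index = p ^ m → 3 ≤ m → ¬ Subgroup.lowerCentralSeries S (m - 2) ≤ (S ⊓ Subgroup.centralizer (S : Set Ω)) := by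
  classical
  have hp' : p.Prime := Fact.out
  have hab := Cfsg.Agent.Lib.Helper87_IndexP.abIdx_of_hyp hna hA huniq
  have hPS : P ≤ S := hP.1.1
  have hcen : Cfsg.FusionSystem.centralizerIn S P ≤ P :=
    hP.1.2 P (Cfsg.Agent.Lib.Helper84_Fusion.isConj_refl F hPS)
  have hnle : ¬ P ≤ A := by
    intro hle
    apply hPA
    apply le_antisymm hle
    intro a ha
    apply hcen
    refine ⟨hab.le ha, ?_⟩
    show a ∈ Subgroup.centralizer (P : Set Ω)
    rw [Subgroup.mem_centralizer_iff]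
    intro y hy
    exact hab.ab y (hle hy) a ha
  obtain ⟨x, hxP, hxA⟩ := SetLike.not_le_iff_exists.1 hnle
  have hctx : Cfsg.Agent.Lib.Helper87_IndexP2.Ctx p S A F P x := ⟨hS, hF, hab, hP, hxP, hxA⟩
  have hxS : x ∈ S := hPS hxP
  have hcomm := Cfsg.Agent.Lib.Helper87_IndexP3.commutator_eq hp' hab hxS hxA
  have hZ0 := hctx.card_Z0
  have hfinA : Finite A := Finite.of_injective (Subgroup.inclusion hab.le) (Subgroup.inclusion_injective _)
  have hZ2 : Cfsg.Agent.Lib.Helper87_IndexP.Z2 S ≤ A := hctx.Z2_le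
  have hZ2S : Cfsg.Agent.Lib.Helper87_IndexP.Z2 S ≤ S := Cfsg.Agent.Lib.Helper87_IndexP.Z2_le S
  have hfinZ2 : Finite (Cfsg.Agent.Lib.Helper87_IndexP.Z2 S) :=
    Finite.of_injective (Subgroup.inclusion hZ2S) (Subgroup.inclusion_injective _)
  have hZle : S ⊓ Subgroup.centralizer (S : Set Ω) ≤ Cfsg.Agent.Lib.Helper87_IndexP.Z2 S := by
    rw [hctx.Z2_eq]
    exact hab.center_le_Yx hp' hxS
  refine ⟨hZ2, ?_, ?_, ?_, ?_⟩
  · rw [hcomm]
    exact hZ0
  · rw [hcomm, Cfsg.Agent.Lib.Helper87_IndexP.index_subgroupOf_eq_iff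
      (sup_le (hab.center_le hp') (hab.kapIm_le hxS A))]
    exact Cfsg.Agent.Lib.Helper87_IndexP3.card_sup hp' hab hxS hxA hZ0
  · have h1 := (Cfsg.Agent.Lib.Helper87_IndexP.index_subgroupOf_eq_iff (p := p) hZle).2 hctx.card_Z2
    exact h1
  · intro m hm h3
    have hm' := (Cfsg.Agent.Lib.Helper87_IndexP.index_subgroupOf_eq_iff
      (inf_le_left : S ⊓ Subgroup.centralizer (S : Set Ω) ≤ S)).1 hm
    exact Cfsg.Agent.Lib.Helper87_IndexP3.not_lowerCentralSeries_le hp' hab hxS hxA hZ0 hm' h3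

end Cfsg.Agent.S5257
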