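import Cfsg.Statements.S5272
import Cfsg.Agent.Lib.Helper87_AxMain

set_option autoImplicit false
open Cfsg

namespace Cfsg.Agent.S5272

open Cfsg.FusionSystem Cfsg.Agent.Lib Cfsg.Agent.Lib.Helper87_Alperin Cfsg.Agent.Lib.Helper87_PInner
  Cfsg.Agent.Lib.Helper87_GTMain Cfsg.Agent.Lib.Helper87_GTFinal Cfsg.Agent.Lib.Helper87_AxZJ
  Cfsg.Agent.Lib.Helper87_AxModel Cfsg.Agent.Lib.Helper87_AxMain

/-- An axiomatic Glauberman–Thompson nilpotency criterion for fusion systems. Let p be an odd prime, F a saturated fusion system over a finite p-group S, and 𝒜 a nonempty family of abelian subgroups of S. For Q ≤ S write I(Q) for the intersection of the members of 𝒜 contained in Q. Assume (invariance) that for every Q ≤ S containing a member of 𝒜, every F-automorphism of Q maps I(Q) into itself, and (replacement) that for every subgroup B of S of nilpotency class at most 2, if some member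 of 𝒜 contains [B,B] but not B, then B normalizes some member of 𝒜 that contains [B,B] but not B. Then F is the inner fusion system of S if and only if the normalizer fusion system of I(S) in F is the inner fusion system of N_S(I(S)). -/
theorem result {Ω : Type*} [Group Ω] {S : Subgroup Ω} [Finite S] (p : ℕ) [Fact p.Prime] (hS : IsPGroup p ↥S) (F : Cfsg.FusionSystem S) (hF : F.IsSaturated p) (hp : p ≠ 2) (𝒜 : Set (Subgroup Ω)) (h𝒜 : ∀ A ∈ 𝒜, A ≤ S ∧ IsMulCommutative ↥A) (hne : 𝒜.Nonempty) (hinv : ∀ Q : Subgroup Ω, Q ≤ S → (∃ A ∈ 𝒜, A ≤ Q) → ∀ α ∈ F.autGroup Q, ∀ x : ↥Q, (x : Ω) ∈ (⨅ A ∈ {A : Subgroup Ω | A ∈ 𝒜 ∧ A ≤ Q}, A) → (((α : MulAut ↥Q) x : ↥Q) : Ω) ∈ (⨅ A ∈ {A : Subgroup Ω | A ∈ 𝒜 ∧ A ≤ Q}, A)) (hrep : ∀ B : Subgroup Ω, B ≤ S → ⁅⁅B, B⁆, B⁆ = ⊥ → (∃ A ∈ 𝒜, ⁅B, B⁆ ≤ A ∧ ¬ B ≤ A) → ∃ A ∈ 𝒜, ⁅B, B⁆ ≤ A ∧ ¬ B ≤ A ∧ B ≤ Subgroup.normalizer (A : Set Ω)) : (∀ P : Subgroup Ω,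 F.Hom P = (Cfsg.innerFusionSystem S).Hom P) ↔ ∀ N : Cfsg.FusionSystem (Cfsg.FusionSystem.normalizerIn S (⨅ A ∈ 𝒜, A)), F.IsNormalizerSystem (⨅ A ∈ 𝒜, A) N → ∀ P : Subgroup Ω, N.Hom P = (Cfsg.innerFusionSystem (Cfsg.FusionSystem.normalizerIn S (⨅ A ∈ 𝒜, A))).Hom P := by
  constructor
  · intro h N hN P
    exact normalizerSystem_inner_of_inner h _ N hN P
  · intro h
    have hfam : FusFam F 𝒜 := by
      refine ⟨fun A hA => (h𝒜 A hA).1, ?_, hne, ?_, hrep⟩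
      · intro A hA x hx y hy
        have := (h𝒜 A hA).2.is_comm.comm ⟨x, hx⟩ ⟨y, hy⟩
        exact congrArg Subtype.val this
      · intro Q hQS hex α hα x hx
        have hI : Iof 𝒜 Q = ⨅ A ∈ {A : Subgroup Ω | A ∈ 𝒜 ∧ A ≤ Q}, A := sInf_eq_iInf
        rw [hI] at hx ⊢
        exact hinv Q hQS hex α ((Helper87_Alperin.mem_autGroup_iff F hQS α).2 hα) x hx
    have hV : (⨅ A ∈ 𝒜, A) = sInf 𝒜 := sInf_eq_iInf.symm
    obtain ⟨A₁, hA₁⟩ := hne
    have hVS : (⨅ A ∈ 𝒜, A) ≤ S := by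
      rw [hV]
      exact (sInf_le hA₁).trans (h𝒜 A₁ hA₁).1
    have hTS : normalizerIn S (⨅ A ∈ 𝒜, A) ≤ S := normalizerIn_le S _
    have hTp : IsPGroup p (normalizerIn S (⨅ A ∈ 𝒜, A)) := hS.to_le hTS
    have hN := Cfsg.Agent.Lib.Helper85_Fusion.normalizerSystem_isNormalizerSystem F (⨅ A ∈ 𝒜, A) hVS
    have h1 : PInnerOn p (IsMapOn (Cfsg.Agent.Lib.Helper85_Fusion.normalizerSystem F (⨅ A ∈ 𝒜, A) hVS)) :=
      pInnerOn_of_hom_eq_inner hTp _ (h _ hN)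
    have h2 : PInnerOn p (IsNormMapOn F (⨅ A ∈ 𝒜, A)) :=
      PInnerOn.mono (fun P f hf => (isMapOn_normalizerSystem_iff hN P f).2 hf) h1
    rw [hV] at h2
    exact hom_eq_inner_of_pInnerOn hS F hF (ax_main hp hS F hF hfam h2)

end Cfsg.Agent.S5272
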