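import Cfsg.Statements.S5276
import Cfsg.Agent.Lib.Helper84_TateInner

set_option autoImplicit false
open Cfsg

namespace Cfsg.Agent.S5276

open Cfsg.FusionSystem

/-- Let p be a prime and F a saturated fusion system over a finite p-group S. Then F is the inner fusion system of S if and only if the normalizer fusion system of S itself in F is the inner fusion system (equivalently, Aut_F(S) is induced by S) and the Frattini subgroup Φ(S) is strongly closed in F. -/
theorem result {Ω : Type*} [Group Ω] {S : Subgroup Ω} [Finite S] (p : ℕ) [Fact p.Prime] (hS : IsPGroup p ↥S) (F : Cfsg.FusionSystem S) (hF : F.IsSaturated p) : (∀ P : Subgroup Ω, F.Hom P = (Cfsg.innerFusionSystem S).Hom P) ↔ (∀ N : Cfsg.FusionSystem (Cfsg.FusionSystem.normalizerIn S S), F.IsNormalizerSystem S N → ∀ P : Subgroup Ω, N.Hom P = (Cfsg.innerFusionSystem (Cfsg.FusionSystem.normalizerIn S S)).Hom P) ∧ F.StronglyClosed ((frattini ↥S).map S.subtype) := by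
  constructor
  · intro hinn
    refine ⟨?_, ?_⟩
    · intro N hN P
      apply Set.Subset.antisymm
      · intro φ hφ
        rw [hN P] at hφ
        obtain ⟨hφF, hPle, -, -⟩ := hφ
        rw [hinn P] at hφF
        obtain ⟨-, g, hg, hφg⟩ := hφF
        exact ⟨hPle, g, ⟨hg, Subgroup.le_normalizer hg⟩, hφg⟩
      · exact Cfsg.Agent.Lib.Helper84_FusionAlperin.innerFusionSystem_le N P
    · refine ⟨Subgroup.map_subtype_le _, ?_⟩
      intro R hR φ hφ x
      rw [hinn R] at hφ
      obtain ⟨-, g, hg, hφg⟩ := hφ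
      rw [hφg]
      obtain ⟨y, hy, hyx⟩ := hR x.2
      have hn : (frattini ↥S).Normal := inferInstance
      refine ⟨(⟨g, hg⟩ : ↥S) * y * (⟨g, hg⟩ : ↥S)⁻¹, hn.conj_mem y hy _, ?_⟩
      rw [← hyx]
      rfl
  · rintro ⟨hN, hΦ⟩
    exact Cfsg.Agent.Lib.Helper84_TateInner.inner_of_frattini_stronglyClosed hS F hF hN hΦ

end Cfsg.Agent.S5276
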