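-- Statement S5287 (helper87): metacyclic p-groups of supersoluble type.
import Cfsg.Statements.S5287
import Cfsg.Agent.S5212
import Cfsg.Agent.S5234
import Cfsg.Agent.S5283
import Cfsg.Agent.S5284
import Cfsg.Agent.Lib.Helper87_NoChain
import Cfsg.Agent.Lib.Helper87_MetaAut
import Cfsg.Agent.Lib.Helper87_MetaSS

set_option autoImplicit false
set_option linter.style.haveILetI false
open Cfsg

namespace Cfsg.Agent.S5287

open Cfsg.Agent.Lib.Helper87_NoChain Cfsg.Agent.Lib.Helper87_MetaSS Cfsg.Agent.Lib.Helper87_MetaAut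

/-- Let S be a finite metacyclic p-group (an extension of a cyclic group by a cyclic group). Every saturated fusion system over S is supersoluble (S has a chain of F-strongly closed subgroups from 1 to S with cyclic steps) if and only if S is not homocyclic of rank two (isomorphic to Z/p^n × Z/p^n with n ≥ 1) and, when p = 2, S is not dihedral of order at least 4, not quasi-dihedral (semidihedral) and not generalized quaternion of order at least 8. -/
theorem result {Ω : Type*} [Group Ω] {S : Subgroup Ω} [Finite S] (p : ℕ) [Fact p.Prime] (hS : IsPGroup p ↥S) (hm : Cfsg.IsMetacyclic ↥S) : (∀ F : Cfsg.FusionSystem S, F.IsSaturated p → (∃ (m : ℕ) (c : Fin (m + 1) → Subgroup Ω), c 0 = ⊥ ∧ c (Fin.last m) = S ∧ (∀ i : Fin (m + 1), F.StronglyClosed (c i)) ∧ ∀ i : Fin m, c i.castSucc ≤ c i.succ ∧ ∃ x ∈ S, c i.succ = c i.castSucc ⊔ Subgroup.zpowers x)) ↔ ¬ ((∃ n : ℕ, 0 < n ∧ Nonempty (↥S ≃* Multiplicative (ZMod (p ^ n)) × Multiplicative (ZMod (p ^ n)))) ∨ (p = 2 ∧ ((∃ n : ℕ, 2 ≤ n ∧ Nonempty (↥S ≃*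 DihedralGroup n)) ∨ Cfsg.IsQuasiDihedral ↥S ∨ (∃ n : ℕ, 2 ≤ n ∧ Nonempty (↥S ≃* QuaternionGroup n))))) := by
  constructor
  · intro hch
    -- the homocyclic case, via S5284
    have hhomo : ∀ n : ℕ, 0 < n →
        (↥S ≃* Multiplicative (ZMod (p ^ n)) × Multiplicative (ZMod (p ^ n))) → False := by
      intro n hn e
      have hab : IsMulCommutative ↥S := ⟨⟨comm_of_mulEquiv e (fun a b => mul_comm a b)⟩⟩
      exact (Cfsg.Agent.S5284.result p hS hab).1 hch
        ⟨n, PUnit, inferInstance, hn, ⟨e.trans MulEquiv.prodUnique.symm⟩⟩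
    rintro (⟨n, hn, ⟨e⟩⟩ | ⟨rfl, hcases⟩)
    · exact hhomo n hn e
    · obtain ⟨k, hk⟩ := IsPGroup.iff_card.1 hS
      rcases hcases with ⟨n, hn, ⟨e⟩⟩ | hqd | ⟨n, hn, ⟨e⟩⟩
      · -- dihedral
        have hcard : 2 * n = 2 ^ k := by
          rw [← hk, Nat.card_congr e.toEquiv, DihedralGroup.nat_card]
        obtain ⟨k', rfl⟩ : ∃ k', k = k' + 1 := by
          refine ⟨k - 1, ?_⟩
          rcases Nat.eq_zero_or_pos k with rfl | hpos
          · rw [pow_zero] at hcard
            omega
          · omega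
        have hn2 : n = 2 ^ k' := by
          rw [pow_succ, mul_comm] at hcard
          exact Nat.eq_of_mul_eq_mul_right (by norm_num) hcard
        subst hn2
        by_cases hk' : 2 ≤ k'
        · obtain ⟨F, hF, hno⟩ := noChain_dihedral hk' e
          exact hno (hch F hF)
        · have hk1 : k' = 1 := by
            rcases Nat.lt_or_ge k' 1 with h | h
            · have : k' = 0 := by omega
              rw [this, pow_zero] at hn
              omega
            · omega
          subst hk1
          obtain ⟨e2⟩ := IsKleinFour.nonempty_mulEquiv (G₁ := DihedralGroup 2)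
            (G₂ := Multiplicative (ZMod 2 × ZMod 2))
          exact hhomo 1 Nat.one_pos ((e.trans e2).trans (MulEquiv.prodMultiplicative (ZMod 2) (ZMod 2)))
      · obtain ⟨F, hF, hno⟩ := noChain_quasiDihedral hqd
        exact hno (hch F hF)
      · -- quaternion
        haveI : NeZero n := ⟨by omega⟩
        have hcard : 4 * n = 2 ^ k := by
          rw [← hk, Nat.card_congr e.toEquiv, Nat.card_eq_fintype_card, QuaternionGroup.card]
        obtain ⟨k', rfl⟩ : ∃ k', k = k' + 2 := by
          refine ⟨k - 2, ?_⟩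
          rcases Nat.lt_or_ge k 2 with h | h
          · have h1 : 2 ^ k ≤ 2 ^ 1 := Nat.pow_le_pow_right (by norm_num) (by omega)
            omega
          · omega
        have hn2 : n = 2 ^ k' := by
          have : 4 * n = 4 * 2 ^ k' := by rw [hcard]; ring
          exact Nat.eq_of_mul_eq_mul_left (by norm_num) this
        subst hn2
        have hk' : 1 ≤ k' := by
          rcases Nat.eq_zero_or_pos k' with rfl | hpos
          · rw [pow_zero] at hn
            omega
          · exact hpos
        have e' : ↥S ≃* QuaternionGroup (2 ^ (k' + 1 - 1)) := e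
        obtain ⟨F, hF, hno⟩ := noChain_quaternion (m := k' + 1) (by omega) e'
        exact hno (hch F hF)
  · intro hno F hF
    by_cases hab : ∀ a b : ↥S, a * b = b * a
    · -- abelian
      have hab' : IsMulCommutative ↥S := ⟨⟨hab⟩⟩
      refine (Cfsg.Agent.S5284.result p hS hab').2 ?_ F hF
      rintro ⟨n, H, instH, hn, ⟨e⟩⟩
      haveI : Subsingleton H := subsingleton_of_iso hm hS hn e
      letI : Unique H := ⟨⟨1⟩, fun a => Subsingleton.elim _ _⟩
      exact hno (Or.inl ⟨n, hn, ⟨e.trans MulEquiv.prodUnique⟩⟩)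
    · by_cases hp : p = 2
      · subst hp
        have hd : ¬ ∃ m : ℕ, Nonempty (↥S ≃* DihedralGroup m) := by
          rintro ⟨m, ⟨e⟩⟩
          exact hno (Or.inr ⟨rfl, Or.inl ⟨m, two_le_of_dihedral hab e, ⟨e⟩⟩⟩)
        have hq : ¬ ∃ m : ℕ, Nonempty (↥S ≃* QuaternionGroup m) := by
          rintro ⟨m, ⟨e⟩⟩
          exact hno (Or.inr ⟨rfl, Or.inr (Or.inr ⟨m, two_le_of_quaternion hab e, ⟨e⟩⟩)⟩)
        have hsd : ¬ Cfsg.IsQuasiDihedral ↥S := fun h => hno (Or.inr ⟨rfl, Or.inr (Or.inl h)⟩)
        have hinner := Cfsg.Agent.S5212.result hS F hF hm (not_homocyclic_of_not_comm hab) hd hq hsd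
        exact exists_chain_of_inner 2 hS F hinner
      · refine (Cfsg.Agent.S5283.result p hS).2 ⟨fun F' hF' => ?_, fun H hH => ?_⟩ F hF
        · exact Cfsg.Agent.S5234.result p hS F' hF' S
            ⟨le_rfl, fun R _ φ hφ x => (F'.le_of_mem hφ).2 x⟩ hp hm
        · exact abelian_of_metacyclic_odd p hp hS hm hab H hH

end Cfsg.Agent.S5287
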