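import Cfsg.Statements.S5289
import Cfsg.Agent.S3888
import Cfsg.Agent.S5234
import Cfsg.Agent.Lib.Helper45_ResistMain

set_option autoImplicit false
open Cfsg

namespace Cfsg.Agent.S5289

/-- Let p ≥ 5 be a prime and S a finite p-group of p-rank two (it has an elementary abelian subgroup of order p² and none of order p³) which is not the extraspecial group of order p³ and exponent p. Then S is resistant: for every saturated fusion system F over S, S is normal in F, that is, every map of F extends to an F-automorphism of S. -/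
theorem result {Ω : Type*} [Group Ω] {S : Subgroup Ω} [Finite S] (p : ℕ) [Fact p.Prime] (hS : IsPGroup p S)
    (F : Cfsg.FusionSystem S) (hF : F.IsSaturated p)
    (hp : 5 ≤ p)
    (hrank2 : ∃ E : Subgroup Ω, E ≤ S ∧ Cfsg.IsElementaryAbelian p E ∧ Nat.card E = p ^ 2)
    (hrank3 : ∀ E : Subgroup Ω, E ≤ S → Cfsg.IsElementaryAbelian p E → Nat.card E ≤ p ^ 2)
    (hnotE : ¬ (Nat.card S = p ^ 3 ∧ Monoid.exponent ↥S = p)) : F.IsNormal S := by
  have hpr : p.Prime := Fact.out
  have hp2 : p ≠ 2 := by omega
  obtain ⟨n, hn⟩ := hS.exists_card_eq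
  have hrk : Cfsg.PRankLE p 2 ↥S := by
    intro A hAc hAe
    have hinj : Function.Injective S.subtype := S.subtype_injective
    have h1 := hrank3 (A.map S.subtype) (by rintro _ ⟨a, -, rfl⟩; exact a.2) ⟨?_, ?_⟩
    · rwa [← Nat.card_congr (A.equivMapOfInjective S.subtype hinj).toEquiv] at h1
    · refine ⟨⟨fun a b => ?_⟩⟩
      obtain ⟨_, a, ha, rfl⟩ := a
      obtain ⟨_, b, hb, rfl⟩ := b
      apply Subtype.ext
      show S.subtype a * S.subtype b = S.subtype b * S.subtype a
      rw [← map_mul, ← map_mul]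
      exact congrArg S.subtype (congrArg Subtype.val (hAc.is_comm.comm (⟨a, ha⟩ : ↥A) ⟨b, hb⟩))
    · rintro _ ⟨a, ha, rfl⟩
      rw [← map_pow, hAe a ha, map_one]
  rcases Cfsg.Agent.S3888.result hp2 n hn hrk with hm |
    ⟨h3, xb, yb, zb, hgen, hxp, hyp, hzp, hxz, hyz, hxy⟩ |
    ⟨h4, s, xc, yc, zc, hs, hgen, hxp, hyp, hzp, hyz, hxy, hxz⟩ | ⟨h3, -, -⟩
  · exact Cfsg.Agent.S5234.result p hS F hF S
      ⟨le_rfl, fun R _ φ hφ x => (F.le_of_mem hφ).2 x⟩ hp2 hm
  · have hfb : Cfsg.Agent.Lib.Helper45_ResistFamB.FB p (p ^ (n - 3)) xb yb zb :=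
      ⟨hgen, hxp, hyp, hxz, hyz, hxy⟩
    by_cases hn3 : n = 3
    · exfalso
      apply hnotE
      subst hn3
      refine ⟨hn, hfb.exponent_eq hpr hp2 (by simpa using hzp) ?_⟩
      rw [hn]
      exact Nat.one_lt_pow (by norm_num) hpr.one_lt
    · exact Cfsg.Agent.Lib.Helper45_ResistCore.isNormal_of_no_essential p hS F hF
        (Cfsg.Agent.Lib.Helper45_ResistMain.famB_not_essential p hS F hF hp n _ (by omega) hn
          xb yb zb hfb hzp)
  · have hfc : Cfsg.Agent.Lib.Helper45_ResistStruct.FC p n s (xc : Ω) (yc : Ω) (zc : Ω) S := by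
      refine ⟨h4, hp, ?_, hn, ?_, ?_, ?_, ?_, ?_, ?_, ?_⟩
      · intro hd
        rcases hs with rfl | hs
        · exact hpr.one_lt.ne' (Nat.dvd_one.1 hd)
        · apply hs
          rw [(ZMod.natCast_eq_zero_iff s p).2 hd]
          exact ⟨0, by simp⟩
      · have h1 := congrArg (Subgroup.map S.subtype) hgen
        rw [MonoidHom.map_closure, ← MonoidHom.range_eq_map, Subgroup.range_subtype,
          Set.image_insert_eq, Set.image_insert_eq, Set.image_singleton] at h1
        exact h1.symm
      · have := congrArg Subtype.val hxp; simpa using this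
      · have := congrArg Subtype.val hyp; simpa using this
      · have := congrArg Subtype.val hzp; simpa using this
      · have := congrArg Subtype.val hyz; simpa using this
      · have := congrArg Subtype.val hxy; simpa using this
      · have := congrArg Subtype.val hxz; simpa using this
    exact Cfsg.Agent.Lib.Helper45_ResistCore.isNormal_of_no_essential p hS F hF
      (Cfsg.Agent.Lib.Helper45_ResistMain.famC_not_essential p hS F hF hfc)
  · omega

end Cfsg.Agent.S5289
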