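import Cfsg.Statements.S5290
import Cfsg.Agent.S5106
import Cfsg.Agent.Lib.Helper87_AutSystem
import Cfsg.Agent.Lib.Helper84_FusionAlperin

set_option autoImplicit false
open Cfsg

namespace Cfsg.Agent.S5290

/-- The inner fusion system of a finite `p`-group is saturated. -/
theorem innerFusionSystem_isSaturated {Ω : Type*} [Group Ω] (Q : Subgroup Ω) [Finite Q] {p : ℕ} [Fact p.Prime]
    (hQ : IsPGroup p Q) : (Cfsg.innerFusionSystem Q).IsSaturated p := by
  have h : Cfsg.innerFusionSystem Q = Cfsg.Agent.Lib.Helper87_AutSystem.autSystem Q (Inn Q) le_rfl := by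
    apply Cfsg.Agent.Lib.Helper84_FusionAlperin.fusionSystem_ext
    intro P
    ext φ
    constructor
    · rintro ⟨hP, g, hg, h⟩
      exact ⟨hP, MulAut.conj ⟨g, hg⟩, ⟨_, rfl⟩, fun x => by rw [h x]; rfl⟩
    · rintro ⟨hP, α, ⟨g, rfl⟩, h⟩
      exact ⟨hP, g, g.2, fun x => by rw [h x]; rfl⟩
  rw [h]
  apply Cfsg.Agent.Lib.Helper87_AutSystem.autSystem_isSaturated Q hQ (Inn Q) le_rfl
  rw [Subgroup.subgroupOf_self, Subgroup.index_top]
  exact (Fact.out : p.Prime).not_dvd_one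

/-- Let F be a saturated fusion system over a finite p-group S and Q a subgroup of S. Then Q is normal in F (F = N_F(Q)) if and only if the inner fusion system of Q, consisting of the conjugations by elements of Q on subgroups of Q, is a weakly normal subsystem of F (both saturated, Q strongly closed, invariant under F-conjugation, with the Frattini property). -/
theorem result {Ω : Type*} [Group Ω] {S : Subgroup Ω} [Finite S] (p : ℕ) [Fact p.Prime] (hS : IsPGroup p S)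
    (F : Cfsg.FusionSystem S) (hF : F.IsSaturated p)
    (Q : Subgroup Ω) (hQ : Q ≤ S) :
    F.IsNormal Q ↔ (Cfsg.innerFusionSystem Q).IsWeaklyNormalIn F p := by
  have hfinQ : Finite Q := Finite.of_injective (Subgroup.inclusion hQ) (Subgroup.inclusion_injective hQ)
  constructor
  · intro hN
    refine ⟨innerFusionSystem_isSaturated Q (hS.to_le hQ), hF, ?_, ?_, ?_, ?_⟩
    · rintro P φ ⟨hP, g, hg, h⟩
      exact Cfsg.Agent.Lib.Helper85_Fusion.mem_of_eq F (F.conj_mem (hP.trans hQ) (hQ hg)) h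
    · exact Cfsg.Agent.Lib.Helper85_FusionNormal.stronglyClosed_of_isNormal hN
    · rintro P hPT φ ⟨hP, g, hg, h⟩ α hα
      have hle : (P.subgroupOf Q).map (Q.subtype.comp α.toMonoidHom) ≤ Q := by
        rintro _ ⟨z, -, rfl⟩
        exact (α z).2
      refine ⟨Cfsg.conjHom _ ((α ⟨g, hg⟩ : Q) : Ω), ⟨hle, _, (α ⟨g, hg⟩).2, fun x => rfl⟩, ?_⟩
      intro x hφx hαx
      have h1 : (⟨φ x, hφx⟩ : Q) = ⟨g, hg⟩ * ⟨x, hPT x.2⟩ * (⟨g, hg⟩ : Q)⁻¹ := Subtype.ext (h x)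
      rw [h1, map_mul, map_mul, map_inv]
      rfl
    · intro P hPQ φ hφ
      obtain ⟨α, hα, hαφ⟩ := Cfsg.Agent.Lib.Helper85_FusionNormal.exists_aut_of_isNormal hN hPQ hφ
      refine ⟨α, hα, P.subtype, ⟨hPQ, 1, Q.one_mem, fun x => by simp⟩, fun x hx => ?_⟩
      exact (hαφ x).symm
  · rintro ⟨-, -, -, -, -, hfr⟩
    rw [Cfsg.Agent.S5106.result p hS F hF Q hQ]
    intro P hPR φ hφ
    obtain ⟨α, hα, φ₀, ⟨hP, g, hg, hφ₀⟩, h⟩ := hfr P hPR φ hφ
    have hc : MulAut.conj (⟨g, hg⟩ : Q) ∈ F.autGroup Q :=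
      Cfsg.Agent.Lib.Helper87_Alperin2.inn_le_autGroup F hQ ⟨_, rfl⟩
    refine ⟨α * MulAut.conj (⟨g, hg⟩ : Q), (F.autGroup Q).mul_mem hα hc, fun x => ?_⟩
    have hx : φ₀ x ∈ Q := by
      rw [hφ₀ x]
      exact Q.mul_mem (Q.mul_mem hg (hPR x.2)) (Q.inv_mem hg)
    rw [h x hx]
    have h1 : (⟨φ₀ x, hx⟩ : Q) = ⟨g, hg⟩ * ⟨x, hPR x.2⟩ * (⟨g, hg⟩ : Q)⁻¹ := Subtype.ext (hφ₀ x)
    rw [h1]
    rfl

end Cfsg.Agent.S5290
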