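import Cfsg.Statements.S5292
import Cfsg.Agent.Lib.Helper88_PSolvModel
import Cfsg.Agent.Lib.Helper32_PSolvable
import Cfsg.Agent.Lib.Helper76_PSolvable
import Cfsg.Agent.S5090
import Cfsg.Agent.S5103

set_option autoImplicit false
universe u
open Cfsg

namespace Cfsg.Agent.S5292

/-- Let F be a saturated fusion system over a finite p-group S. Then F is the fusion system of some finite p-solvable group on a Sylow p-subgroup if and only if F is constrained (some subgroup normal in F is centric in F) and the group of automorphisms that F induces on its largest normal subgroup O_p(F) is p-solvable. -/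
theorem result {Ω : Type u} [Group Ω] {S : Subgroup Ω} [Finite S] (p : ℕ) [Fact p.Prime] (hS : IsPGroup p S)
    (F : Cfsg.FusionSystem S) (hF : F.IsSaturated p) :
    (∃ (G : Type u) (_ : Group G) (_ : Finite G) (ι : S →* G), Cfsg.IsPSolvable p G ∧ F.IsRealizedBy ι ∧
        ∃ T : Sylow p G, (T : Subgroup G) = ι.range) ↔
      (F.IsConstrained p ∧ Cfsg.IsPSolvable p ↥(F.autGroup F.core)) := by
  constructor
  · rintro ⟨G, iG, iF, ι, hsol, hreal, hT⟩
    have hM := Cfsg.Agent.Lib.Helper88_PSolvModel.isModel_quotient F ι hsol hreal hT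
    refine ⟨Cfsg.Agent.S5103.result p hS F _ hM, ?_⟩
    obtain ⟨θ, hrange, -⟩ := Cfsg.Agent.Lib.Helper88_PSolvModel.exists_theta F _ hM
    have hq : Cfsg.IsPSolvable p (G ⧸ Cfsg.pPrimeCore p G) :=
      Cfsg.Agent.Lib.Helper76_PSolvable.isPSolvable_quotient p (Cfsg.pPrimeCore p G) hsol
    have hr : Cfsg.IsPSolvable p θ.range :=
      Cfsg.Agent.Lib.Helper32_PSolvable.isPSolvable_of_surjective θ.rangeRestrict
        θ.rangeRestrict_surjective hq
    rw [hrange] at hr
    exact hr
  · rintro ⟨hcon, hps⟩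
    obtain ⟨G, iG, ι, hM⟩ := Cfsg.Agent.S5090.result p hS F hcon
    have iF : Finite G := hM.1
    obtain ⟨θ, hrange, hker⟩ := Cfsg.Agent.Lib.Helper88_PSolvModel.exists_theta F ι hM
    have hkp : IsPGroup p θ.ker :=
      (Cfsg.Agent.Lib.Helper76_PSolvable.pCore_isPGroup (G := G) p).to_le hker
    have hsol : Cfsg.IsPSolvable p G := by
      apply Cfsg.Agent.Lib.Helper88_PSolvModel.isPSolvable_of_ker_range θ
      · exact IsPGroup.iff_card.1 hkp
      · rw [hrange]
        exact hps
    exact ⟨G, iG, iF, ι, hsol, hM.2.1, hM.2.2.1⟩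

end Cfsg.Agent.S5292
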