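import Cfsg.Statements.S5294
import Cfsg.Agent.Lib.Helper88_Trace
import Cfsg.Agent.S5084
import Cfsg.Agent.Lib.Helper85_FusionNormal
import Cfsg.Agent.Lib.Helper84_FusionNormal
import Cfsg.Agent.Lib.Helper84_FusionRS

set_option autoImplicit false
universe u
open Cfsg

namespace Cfsg.Agent.S5294

open Cfsg.FusionSystem Cfsg.Agent.Lib.Helper87_Alperin Cfsg.Agent.Lib.Helper88_Trace
open scoped IsMulCommutative

/-- The action of `Aut_F(Q)` on the centre of `Q`. -/
@[reducible] noncomputable def centerAction {Ω : Type*} [Group Ω] {S : Subgroup Ω} (F : Cfsg.FusionSystem S) (Q : Subgroup Ω) :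
    MulDistribMulAction (F.autGroup Q) (Subgroup.center Q) :=
  MulDistribMulAction.compHom _ ((MulAut.characteristic (Subgroup.center ↥Q)).comp (F.autGroup Q).subtype)

attribute [local instance] centerAction

section
variable {Ω : Type*} [Group Ω] {S : Subgroup Ω}

theorem coe_smul_center (F : Cfsg.FusionSystem S) (Q : Subgroup Ω) (g : F.autGroup Q) (v : Subgroup.center Q) :
    ((g • v : Subgroup.center Q) : Q) = (g : MulAut Q) (v : Q) := rfl

/-- The fixed points of `Aut_S(Q)` on `Z(Q)` are the elements of `Z(S)`, when `Q` is normal in the system. -/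
theorem mem_fixedPts_autInducedBy_iff {F : Cfsg.FusionSystem S} {Q : Subgroup Ω} (hQn : F.IsNormal Q)
    (v : Subgroup.center Q) :
    v ∈ fixedPts (Subgroup.center Q) ((autInducedBy S Q).subgroupOf (F.autGroup Q)) ↔
      ((v : Q) : Ω) ∈ S ⊓ Subgroup.centralizer (S : Set Ω) := by
  have hQS : Q ≤ S := hQn.1
  constructor
  · intro hv
    rw [Subgroup.mem_inf, Subgroup.mem_centralizer_iff]
    refine ⟨hQS (v : Q).2, ?_⟩
    intro s hs
    have hsN : s ∈ Subgroup.normalizer (Q : Set Ω) :=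
      Cfsg.Agent.Lib.Helper84_FusionNormal.IsNormal.le_normalizer hQn hs
    have h1 : Q.normalizerMonoidHom ⟨s, hsN⟩ ∈ autInducedBy S Q :=
      Cfsg.Agent.Lib.Helper84_FusionSat.normalizerMonoidHom_mem_autInducedBy hs hsN
    have h2 : Q.normalizerMonoidHom ⟨s, hsN⟩ ∈ F.autGroup Q := autInducedBy_le_autGroup F hQS h1
    have h3 := hv ⟨_, h2⟩ (Subgroup.mem_subgroupOf.2 h1)
    have h4 : s * ((v : Q) : Ω) * s⁻¹ = ((v : Q) : Ω) :=
      congrArg (fun w : Subgroup.center Q => ((w : Q) : Ω)) h3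
    calc s * ((v : Q) : Ω) = (s * ((v : Q) : Ω) * s⁻¹) * s := by group
      _ = ((v : Q) : Ω) * s := by rw [h4]
  · intro hz g hg
    rw [Subgroup.mem_inf, Subgroup.mem_centralizer_iff] at hz
    obtain ⟨-, hc⟩ := hz
    rw [Subgroup.mem_subgroupOf] at hg
    obtain ⟨s, hs, hgs⟩ := (mem_autInducedBy_iff S Q _).1 hg
    apply Subtype.ext
    apply Subtype.ext
    rw [coe_smul_center, hgs]
    rw [hc s hs, mul_inv_cancel_right]

/-- The fixed points of `Aut_F(Q)` on `Z(Q)` are the elements of `Z(F)`, when `Q` is normal in the system. -/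
theorem mem_fixedPts_top_iff [Finite S] {p : ℕ} [Fact p.Prime] (hS : IsPGroup p S)
    {F : Cfsg.FusionSystem S} (hF : F.IsSaturated p) {Q : Subgroup Ω} (hQn : F.IsNormal Q)
    (v : Subgroup.center Q) :
    v ∈ fixedPts (Subgroup.center Q) (⊤ : Subgroup (F.autGroup Q)) ↔ ((v : Q) : Ω) ∈ F.center := by
  have hQS : Q ≤ S := hQn.1
  constructor
  · intro hv
    -- the image of the fixed points is central
    set C : Subgroup Ω := (fixedPts (Subgroup.center Q) (⊤ : Subgroup (F.autGroup Q))).map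
      (Q.subtype.comp (Subgroup.center Q).subtype) with hC
    have hCc : F.IsCentral C := by
      rw [Cfsg.Agent.S5084.result p hS F hF C]
      constructor
      · rintro _ ⟨w, -, rfl⟩
        exact hQS (w : Q).2
      · rintro _ ⟨w, hw, rfl⟩ y ⟨φ, hφ, hφx⟩
        have hle : Subgroup.zpowers ((Q.subtype.comp (Subgroup.center Q).subtype) w) ≤ Q := by
          rw [Subgroup.zpowers_le]
          exact (w : Q).2
        obtain ⟨α, hα, hαφ⟩ := Cfsg.Agent.Lib.Helper85_FusionNormal.exists_aut_of_isNormal hQn hle hφ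
        have h1 := hαφ ⟨_, Subgroup.mem_zpowers _⟩
        rw [hφx] at h1
        rw [← h1]
        have h2 := hw ⟨α, hα⟩ (Subgroup.mem_top _)
        exact congrArg (fun w : Subgroup.center Q => ((w : Q) : Ω)) h2
    have hmem : ((v : Q) : Ω) ∈ C := ⟨v, hv, rfl⟩
    exact (le_sSup (show C ∈ {Q : Subgroup Ω | F.IsCentral Q} from hCc)) hmem
  · intro hz g _
    have hcen := (Cfsg.Agent.S5084.result p hS F hF F.center).1
      (Cfsg.Agent.Lib.Helper85_Fusion.isCentral_center F)
    have hle : Subgroup.zpowers (((v : Q) : Ω)) ≤ Q := by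
      rw [Subgroup.zpowers_le]
      exact (v : Q).2
    have h1 := (mem_autGroup_iff' F hQS (g : MulAut Q)).1 g.2
    have h2 := restrict_mem F h1 hle
    have h3 := hcen.2 _ hz _ ⟨_, h2, rfl⟩
    apply Subtype.ext
    apply Subtype.ext
    rw [coe_smul_center]
    exact h3

end

/-- Let F be a saturated fusion system over a finite p-group S whose centre Z(S) lies in the largest subgroup O_p(F) normal in F. Then the centre Z(F) of F is a direct factor of Z(S): there is a subgroup K of Z(S) with Z(F) ∩ K = 1 and Z(F)K = Z(S). -/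
theorem result {Ω : Type u} [Group Ω] {S : Subgroup Ω} [Finite S] (p : ℕ) [Fact p.Prime] (hS : IsPGroup p S)
    (F : Cfsg.FusionSystem S) (hF : F.IsSaturated p) (hZ : (S ⊓ Subgroup.centralizer (S : Set Ω)) ≤ F.core) :
    ∃ K : Subgroup Ω, K ≤ (S ⊓ Subgroup.centralizer (S : Set Ω)) ∧ F.center ⊓ K = ⊥ ∧ F.center ⊔ K = (S ⊓ Subgroup.centralizer (S : Set Ω)) := by
  classical
  have hQn : F.IsNormal F.core := Cfsg.Agent.Lib.Helper85_Fusion.isNormal_core F
  obtain ⟨Q, hQdef⟩ : ∃ Q : Subgroup Ω, Q = F.core := ⟨_, rfl⟩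
  rw [← hQdef] at hQn hZ
  have hQS : Q ≤ S := hQn.1
  have hfinQ : Finite Q := Finite.of_injective (Subgroup.inclusion hQS) (Subgroup.inclusion_injective hQS)
  -- `Q` is fully automized
  have hQsc : F.StronglyClosed Q := Cfsg.Agent.Lib.Helper85_FusionNormal.stronglyClosed_of_isNormal hQn
  have hconj : ∀ Q' : Subgroup Ω, F.IsConj Q Q' → Q' = Q := by
    rintro Q' ⟨φ, hφ, rfl⟩
    apply Subgroup.eq_of_le_of_card_ge
    · rintro _ ⟨x, rfl⟩
      exact hQsc.2 Q le_rfl φ hφ x
    · exact le_of_eq (Nat.card_congr (Equiv.ofInjective φ (F.injective_of_mem hφ)))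
  have hfn : F.IsFullyNormalized Q := ⟨hQS, fun Q' h => by rw [hconj Q' h]⟩
  obtain ⟨-, R, hR⟩ := Cfsg.Agent.Lib.Helper84_FusionRS.IsSaturated.isFullyAutomized hS hF hfn
  -- coprimality
  have hfinA : Finite (F.autGroup Q) := inferInstance
  have hidx : ¬ p ∣ ((autInducedBy S Q).subgroupOf (F.autGroup Q)).index := by
    rw [← hR]
    exact R.not_dvd_index
  have hVp : IsPGroup p (Subgroup.center Q) := (hS.to_le hQS).to_subgroup _
  obtain ⟨n, hn⟩ := hVp.exists_card_eq
  have hcop : (Nat.card (Subgroup.center Q)).Coprime ((autInducedBy S Q).subgroupOf (F.autGroup Q)).index := by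
    rw [hn]
    exact Nat.Coprime.pow_left n ((Nat.Prime.coprime_iff_not_dvd Fact.out).2 hidx)
  let _ : Fintype (↥(F.autGroup Q) ⧸ (autInducedBy S Q).subgroupOf (F.autGroup Q)) := Fintype.ofFinite _
  obtain ⟨K, hK1, hK2, hK3⟩ := exists_compl_fixedPts (V := Subgroup.center Q)
    ((autInducedBy S Q).subgroupOf (F.autGroup Q)) hcop
  -- every element of `Z(S)` comes from `Z(Q)`
  have hlift : ∀ z ∈ S ⊓ Subgroup.centralizer (S : Set Ω), ∃ v : Subgroup.center Q, ((v : Q) : Ω) = z := by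
    intro z hz
    have hzQ : z ∈ Q := hZ hz
    refine ⟨⟨⟨z, hzQ⟩, ?_⟩, rfl⟩
    rw [Subgroup.mem_center_iff]
    intro y
    apply Subtype.ext
    rw [Subgroup.mem_inf, Subgroup.mem_centralizer_iff] at hz
    exact hz.2 y (hQS y.2)
  refine ⟨K.map (Q.subtype.comp (Subgroup.center Q).subtype), ?_, ?_, ?_⟩
  · rintro _ ⟨k, hk, rfl⟩
    exact (mem_fixedPts_autInducedBy_iff hQn k).1 (hK1 hk)
  · rw [eq_bot_iff]
    rintro x ⟨hx1, k, hk, rfl⟩
    have h1 : k ∈ fixedPts (Subgroup.center Q) (⊤ : Subgroup (F.autGroup Q)) ⊓ K :=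
      ⟨(mem_fixedPts_top_iff hS hF hQn k).2 hx1, hk⟩
    rw [hK2, Subgroup.mem_bot] at h1
    rw [h1]
    exact Subgroup.one_mem _
  · apply le_antisymm
    · apply sup_le
      · intro x hx
        have hcen := (Cfsg.Agent.S5084.result p hS F hF F.center).1
          (Cfsg.Agent.Lib.Helper85_Fusion.isCentral_center F)
        rw [Subgroup.mem_inf, Subgroup.mem_centralizer_iff]
        refine ⟨hcen.1 hx, ?_⟩
        intro s hs
        have h1 := hcen.2 x hx (s * x * s⁻¹)
          ⟨conjHom (Subgroup.zpowers x) s, F.conj_mem ((Subgroup.zpowers_le.2 (hcen.1 hx))) hs, rfl⟩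
        calc s * x = (s * x * s⁻¹) * s := by group
          _ = x * s := by rw [h1]
      · rintro _ ⟨k, hk, rfl⟩
        exact (mem_fixedPts_autInducedBy_iff hQn k).1 (hK1 hk)
    · intro z hz
      obtain ⟨v, rfl⟩ := hlift z hz
      have hv := (mem_fixedPts_autInducedBy_iff hQn v).2 hz
      rw [← hK3, Subgroup.mem_sup] at hv
      obtain ⟨a, ha, b, hb, rfl⟩ := hv
      have h1 : (((a * b : Subgroup.center Q) : Q) : Ω) = ((a : Q) : Ω) * ((b : Q) : Ω) := rfl
      rw [h1]
      exact Subgroup.mul_mem_sup ((mem_fixedPts_top_iff hS hF hQn a).1 ha) ⟨b, hb, rfl⟩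

end Cfsg.Agent.S5294
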