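import Cfsg.Statements.S5295
import Cfsg.Agent.Lib.Helper84_CenterFactor
import Cfsg.Agent.S5193

set_option autoImplicit false
universe u
open Cfsg

namespace Cfsg.Agent.S5295

/-- Let F be a saturated fusion system over a finite p-group S with p odd. Then the centre Z(F) of F is a direct factor of Z(S): there is a subgroup K of Z(S) with Z(F) ∩ K = 1 and Z(F)K = Z(S). (At the prime 2 this can fail.) -/
theorem result {Ω : Type u} [Group Ω] {S : Subgroup Ω} [Finite S] (p : ℕ) [Fact p.Prime] (hp : p ≠ 2) (hS : IsPGroup p S)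
    (F : Cfsg.FusionSystem S) (hF : F.IsSaturated p) :
    ∃ K : Subgroup Ω, K ≤ (S ⊓ Subgroup.centralizer (S : Set Ω)) ∧ F.center ⊓ K = ⊥ ∧ F.center ⊔ K = (S ⊓ Subgroup.centralizer (S : Set Ω)) := by
  have hW : Cfsg.IsCharPFunctor.{u} p Cfsg.Agent.Lib.Helper72_AbelianJ.JA :=
    Cfsg.Agent.Lib.Helper72_AbelianJ.isCharPFunctor_JA
  have hJS : Cfsg.thompsonSubgroupAOf S ≤ S :=
    Cfsg.Agent.Lib.Helper87_GTFunctor.ind_le (W := Cfsg.Agent.Lib.Helper72_AbelianJ.JA) S
  have hJn : S ≤ Subgroup.normalizer ((Cfsg.thompsonSubgroupAOf S : Subgroup Ω) : Set Ω) :=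
    Subgroup.le_normalizer.trans (Cfsg.Agent.Lib.Helper87_GTFunctor.normalizer_le hW S hS)
  have hZJ : S ⊓ Subgroup.centralizer (S : Set Ω) ≤ Cfsg.thompsonSubgroupAOf S := by
    intro z hz
    exact Cfsg.Agent.Lib.Helper72_FusWC.center_le_ind (W := Cfsg.Agent.Lib.Helper72_AbelianJ.JA)
      (fun Q _ _ hQ => Cfsg.Agent.S5193.center_le_JA Q hQ) S hS hz.1
      (fun t ht => (Subgroup.mem_centralizer_iff.1 hz.2 t ht))
  have hcen := (Cfsg.Agent.S5193.result p hS F hF
    (Cfsg.Agent.Lib.Helper85_Fusion.normalizerSystem F _ hJS)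
    (Cfsg.Agent.Lib.Helper85_Fusion.normalizerSystem_isNormalizerSystem F _ hJS)).2 (Or.inl hp)
  exact Cfsg.Agent.Lib.Helper84_CenterFactor.exists_complement hS F hF hJS hJn hZJ _
    (Cfsg.Agent.Lib.Helper85_Fusion.normalizerSystem_isNormalizerSystem F _ hJS) hcen.le

end Cfsg.Agent.S5295
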