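import Cfsg.Statements.S5297
import Mathlib
import Cfsg.Prelude.Def_FusionSystem
import Cfsg.Agent.Lib.Helper88_CyclicHyp
import Cfsg.Agent.Lib.Helper84_FusionEssential
import Cfsg.Agent.Lib.Helper84_FusionNormal
import Cfsg.Agent.Lib.Helper84_FusionAlperin
import Cfsg.Agent.Lib.Helper84_FusionRS
import Cfsg.Agent.Lib.Helper85_Fusion

set_option autoImplicit false
universe u
open Cfsg

namespace Cfsg.Agent.S5297

/-- Let F be a saturated fusion system over a finite p-group S. If every map of F between cyclic subgroups of the hyperfocal subgroup of F of order p or 4 is a map of the normalizer system of S (it extends to a map of F defined on all of S), then S is normal in F. -/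
theorem result {Ω : Type u} [Group Ω] {S : Subgroup Ω} [Finite S] (p : ℕ) [Fact p.Prime] (hS : IsPGroup p S)
    (F : Cfsg.FusionSystem S) (hF : F.IsSaturated p)
    (h : ∀ A B : Subgroup Ω, A ≤ (F.hyperfocalSubgroup p) → B ≤ (F.hyperfocalSubgroup p) → IsCyclic ↥A → (Nat.card ↥A = p ∨ Nat.card ↥A = 4) → IsCyclic ↥B → (Nat.card ↥B = p ∨ Nat.card ↥B = 4) →
      F.homSet A B ⊆ F.normalizerHom S A) :
    F.IsNormal S := by
  have hess : ∀ P : Subgroup Ω, F.IsEssential p P → P = S := by
    intro P hP
    by_contra hne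
    have hPS : P < S := lt_of_le_of_ne hP.1.1 hne
    have hPn : F.IsFullyNormalized P := hP.2.1
    have hPa := Cfsg.Agent.Lib.Helper84_FusionRS.IsSaturated.isFullyAutomized hS hF hPn
    have hPr := Cfsg.Agent.Lib.Helper84_FusionRS.IsSaturated.isReceptive_of_isFullyNormalized hS hF hPn
    have hnorm := Cfsg.Agent.Lib.Helper88_CyclicHyp.conj_mem_autInducedBy_of_normalizer hS F h hPa
    apply Cfsg.Agent.Lib.Helper84_FusionEssential.extClosure_ne_of_isEssential hS F hF hPS hP
    apply le_antisymm (Cfsg.Agent.Lib.Helper84_FusionEssential.extClosure_le_autGroup F)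
    intro α hα
    apply Subgroup.subset_closure
    apply Cfsg.Agent.Lib.Helper84_FusionEssential.mem_extSet_of_lt_extender F hPr hα
    have hlt : P < Cfsg.FusionSystem.normalizerIn S P :=
      Cfsg.Agent.Lib.Helper84_FusionAlperin.lt_normalizerIn hS hPS
    refine lt_of_lt_of_le hlt ?_
    intro g hg
    have hgS : g ∈ S := hg.1
    have hgN : g ∈ Subgroup.normalizer (P : Set Ω) := hg.2
    apply Cfsg.Agent.Lib.Helper84_FusionEssential.mem_extender_of_conj_mem α hgS hgN
    apply hnorm α hα
    rw [Cfsg.Agent.Lib.Helper85_Fusion.mem_autInducedBy_iff]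
    exact ⟨g, hgS, fun x => rfl⟩
  apply Cfsg.Agent.Lib.Helper84_FusionNormal.isNormal_of_autStabilizes hS F hF S
  intro P hP
  have hPeq : P = S := by
    rcases hP with rfl | hP
    · rfl
    · exact hess P hP
  subst hPeq
  refine ⟨le_rfl, ?_⟩
  intro α _
  rw [Subgroup.subgroupOf_self]
  exact Subgroup.map_top_of_surjective _ α.surjective

end Cfsg.Agent.S5297
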