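import Cfsg.Statements.S5298
import Mathlib
import Cfsg.Prelude.Def_FusionSystem
import Cfsg.Agent.Lib.Helper88_CyclicHyp
import Cfsg.Agent.Lib.Helper84_FusionEssential
import Cfsg.Agent.Lib.Helper84_FusionAlperin
import Cfsg.Agent.Lib.Helper84_FusionRS
import Cfsg.Agent.Lib.Helper85_Fusion

set_option autoImplicit false
universe u
open Cfsg

namespace Cfsg.Agent.S5298

/-- Let F be a saturated fusion system over a finite p-group S. If every map of F between cyclic subgroups of the hyperfocal subgroup of F of order p or 4 is conjugation by an element of S, then F is the inner fusion system of S. -/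
theorem result {Ω : Type u} [Group Ω] {S : Subgroup Ω} [Finite S] (p : ℕ) [Fact p.Prime] (hS : IsPGroup p S)
    (F : Cfsg.FusionSystem S) (hF : F.IsSaturated p)
    (h : ∀ A B : Subgroup Ω, A ≤ (F.hyperfocalSubgroup p) → B ≤ (F.hyperfocalSubgroup p) → IsCyclic ↥A → (Nat.card ↥A = p ∨ Nat.card ↥A = 4) → IsCyclic ↥B → (Nat.card ↥B = p ∨ Nat.card ↥B = 4) →
      F.homSet A B ⊆ (Cfsg.innerFusionSystem S).Hom A) :
    ∀ P : Subgroup Ω, F.Hom P = (Cfsg.innerFusionSystem S).Hom P := by
  have hle : F ≤ Cfsg.innerFusionSystem S := by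
    apply Cfsg.Agent.Lib.Helper84_FusionEssential.alperin_goldschmidt hS F hF
    intro P hP
    have hPn : F.IsFullyNormalized P := by
      rcases hP with rfl | hP
      · exact Cfsg.Agent.Lib.Helper84_FusionAlperin.isFullyNormalized_S F
      · exact hP.2.1
    have hPa := Cfsg.Agent.Lib.Helper84_FusionRS.IsSaturated.isFullyAutomized hS hF hPn
    exact (Cfsg.Agent.Lib.Helper88_CyclicHyp.autGroup_le_autInducedBy_of_inner hS F h hPa).trans
      (Cfsg.Agent.Lib.Helper85_Fusion.autInducedBy_le_autGroup (Cfsg.innerFusionSystem S) hPn.1)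
  intro P
  apply Set.Subset.antisymm (hle P)
  rintro φ ⟨hPS, g, hg, hφ⟩
  exact Cfsg.Agent.Lib.Helper85_Fusion.mem_of_eq F (F.conj_mem hPS hg) (fun x => hφ x)

end Cfsg.Agent.S5298
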