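import Cfsg.Statements.S5300
import Cfsg.Agent.S5301
import Cfsg.Agent.Lib.Helper88_FocalAut

set_option autoImplicit false
universe u
open Cfsg

namespace Cfsg.Agent.S5300

open Cfsg.FusionSystem Cfsg.Agent.Lib.Helper87_Alperin Cfsg.Agent.Lib.Helper88_FocalAut

/-- Let F be a saturated fusion system over a finite p-group S. If every cyclic subgroup of the focal subgroup of F of order p (of order 2 or 4 when p = 2) is normal in S, then S is normal in F. -/
theorem result {Ω : Type u} [Group Ω] {S : Subgroup Ω} [Finite S] (p : ℕ) [Fact p.Prime] (hS : IsPGroup p S)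
    (F : Cfsg.FusionSystem S) (hF : F.IsSaturated p)
    (hnorm : ∀ x ∈ F.focalSubgroup, (x ^ p = 1 ∨ (p = 2 ∧ x ^ 4 = 1)) → ∀ s ∈ S, s * x * s⁻¹ ∈ Subgroup.zpowers x) :
    F.IsNormal S := by
  apply Cfsg.Agent.S5301.result p hS F hF
  intro P hPn _ _
  have hPS : P ≤ S := hPn.1
  have hfinP : Finite P := Finite.of_injective (Subgroup.inclusion hPS) (Subgroup.inclusion_injective hPS)
  have hPp : IsPGroup p P := hS.to_le hPS
  obtain ⟨-, Tsyl, hT⟩ := Cfsg.Agent.Lib.Helper84_FusionRS.IsSaturated.isFullyAutomized hS hF hPn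
  refine ⟨Tsyl, ?_⟩
  -- the normal `p`-subgroup `N` of `Aut_F(P)` containing `Aut_S(P)`
  obtain ⟨N, hN⟩ : ∃ N : Subgroup (F.autGroup P),
      N = (omegaStab p F.focalSubgroup P).subgroupOf (F.autGroup P) := ⟨_, rfl⟩
  have hNnormal : N.Normal := by
    constructor
    intro b hb a
    rw [hN, Subgroup.mem_subgroupOf] at hb ⊢
    have ha' : ((a : MulAut P)⁻¹) ∈ F.autGroup P := (F.autGroup P).inv_mem a.2
    exact conj_mem_omegaStab (fun x hx => apply_mem_focal F hPS ha' x hx) hb
  have hNp : IsPGroup p N := by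
    apply isPGroup_of_coprime_eq_one
    intro g hg
    have hg1 : (g : F.autGroup P) ∈ (omegaStab p F.focalSubgroup P).subgroupOf (F.autGroup P) := by
      rw [← hN]
      exact g.2
    rw [Subgroup.mem_subgroupOf] at hg1
    have hgA : ((g : F.autGroup P) : MulAut P) ∈ F.autGroup P := (g : F.autGroup P).2
    have hord : orderOf ((g : F.autGroup P) : MulAut P) = orderOf g := by
      rw [Subgroup.orderOf_coe, Subgroup.orderOf_coe]
    have h1 := eq_one_of_mem_omegaStab hPp hg1 (fun x hx => apply_mem_focal F hPS hgA x hx)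
      (fun x => inv_mul_apply_mem_focal F hPS hgA x) (by rw [hord]; exact hg)
    apply Subtype.ext
    apply Subtype.ext
    exact h1
  have hTN : (Tsyl : Subgroup (F.autGroup P)) ≤ N := by
    rw [hT]
    intro g hg
    rw [Subgroup.mem_subgroupOf] at hg
    rw [hN, Subgroup.mem_subgroupOf]
    obtain ⟨s, hs, hgs⟩ := (mem_autInducedBy_iff S P _).1 hg
    obtain ⟨m, hm⟩ := hS ⟨s, hs⟩
    have hm' : s ^ (p ^ m) = 1 := by
      have := congrArg Subtype.val hm
      simpa using this
    refine mem_omegaStab_of_conj hm' hgs ?_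
    intro x hx hcase
    refine hnorm x hx ?_ s hs
    rcases hcase with h | ⟨h2, h⟩
    · left
      have := congrArg Subtype.val h
      simpa using this
    · right
      refine ⟨h2, ?_⟩
      have := congrArg Subtype.val h
      simpa using this
  have hEq : N = (Tsyl : Subgroup (F.autGroup P)) := Tsyl.is_maximal' hNp hTN
  rw [← hEq]
  exact hNnormal

end Cfsg.Agent.S5300
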