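import Cfsg.Statements.S5311
import Cfsg.Agent.Lib.Helper85_Transport3

set_option autoImplicit false
open Cfsg

namespace Cfsg.Agent.S5311

open Cfsg.FusionSystem Cfsg.Agent.Lib Cfsg.Agent.Lib.Helper85_Transport
  Cfsg.Agent.Lib.Helper85_Transport2 Cfsg.Agent.Lib.Helper85_Transport3
open Cfsg.Agent.Lib.Helper87_Alperin (IsMapOn extFun extHom)

/-- The layer is contained in its image under any automorphism of the system. -/
theorem layer_le_push {Ω : Type*} [Group Ω] {S : Subgroup Ω} [Finite S] {p : ℕ} [Fact p.Prime]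
    {F : FusionSystem S} {α : S ≃* S} (hα : Corr α F F) {T : Subgroup Ω} {E : FusionSystem T}
    (hE : E.IsLayerOf F p) (hT : T ≤ S) : E.IsSubsystemOf (pushSub α hT E) := by
  have hsub : SubCorr α E (pushSub α hT E) := subCorr_pushSub hT
  have hn : (pushSub α hT E).IsNormalIn F p := SubCorr.isNormalIn' hα hsub hE.1
  refine hE.2.2 _ _ hn (fun U C hC => ?_)
  have hU : U ≤ S := isSubnormalIn_le hC.1
  have hC₁ : SubCorr α.symm C (pushSub α.symm hU C) := subCorr_pushSub hU
  have hcomp : (pushSub α.symm hU C).IsComponentIn F p :=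
    isComponentIn_push hC hC₁ (subCorr_of_corr hα.symm)
  have hle := hE.2.1 _ _ hcomp
  have hC₁' : SubCorr α (pushSub α.symm hU C) C := by
    have := hC₁.symm
    rwa [MulEquiv.symm_symm] at this
  exact SubCorr.isSubsystemOf' hC₁' hsub hle

theorem base_le_of_isSubsystemOf {Ω : Type*} [Group Ω] {T U : Subgroup Ω} {E : FusionSystem T}
    {D : FusionSystem U} (h : E.IsSubsystemOf D) : T ≤ U :=
  Helper87_Alperin.hom_le D (h T (Helper87_Alperin.subtype_mem E le_rfl))

theorem result {Ω : Type*} [Group Ω] {S : Subgroup Ω} [Finite S] (p : ℕ) [Fact p.Prime] (hS : IsPGroup p S) (F : Cfsg.FusionSystem S) (hF : F.IsSaturated p)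
    (α : ↥S ≃* ↥S) (hα : F.IsMorphism F (S.subtype.comp α.toMonoidHom))
    (hα' : F.IsMorphism F (S.subtype.comp α.symm.toMonoidHom))
    {T : Subgroup Ω} (E : Cfsg.FusionSystem T) (hE : E.IsLayerOf F p) :
    Cfsg.FusionSystem.imageAlong (S.subtype.comp α.toMonoidHom) T = T ∧
      ∀ (P : Subgroup Ω) (φ : ↥P →* Ω), φ ∈ E.Hom P →
        ∀ φ' : ↥(Cfsg.FusionSystem.imageAlong (S.subtype.comp α.toMonoidHom) P) →* Ω,
          Cfsg.FusionSystem.InducedAlong (S.subtype.comp α.toMonoidHom) φ φ' →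
            φ' ∈ E.Hom (Cfsg.FusionSystem.imageAlong (S.subtype.comp α.toMonoidHom) P) := by
  have hcorr : Corr α F F := corr_of_isMorphism hα hα'
  have hT : T ≤ S := hE.1.1.2.2.2.1.1
  have hsub : SubCorr α E (pushSub α hT E) := subCorr_pushSub hT
  have hsub' : SubCorr α.symm E (pushSub α.symm hT E) := subCorr_pushSub hT
  have h1 : E.IsSubsystemOf (pushSub α hT E) := layer_le_push hcorr hE hT
  have h2 : E.IsSubsystemOf (pushSub α.symm hT E) := layer_le_push hcorr.symm hE hT
  have hsub'' : SubCorr α (pushSub α.symm hT E) E := by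
    have := hsub'.symm
    rwa [MulEquiv.symm_symm] at this
  have h3 : (pushSub α hT E).IsSubsystemOf E := SubCorr.isSubsystemOf' hsub hsub'' h2
  have hTeq : push α T = T := le_antisymm (base_le_of_isSubsystemOf h3) (base_le_of_isSubsystemOf h1)
  refine ⟨hTeq, fun P φ hφ φ' hind => ?_⟩
  obtain ⟨hPS, -, hind'⟩ := Helper87_Factor.extOn_of_inducedAlong hind
  obtain ⟨ψ, hψ, hψf⟩ := hsub.fwd P (extHom φ) (Helper87_Alperin.isMapOn_extHom E hφ)
  have hφψ : φ' = ψ := by
    ext y
    have hy : (y : Ω) ∈ push α P := y.2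
    have hx : ext α.symm (y : Ω) ∈ P := ext_symm_mem α hy
    have hyy : ext α (ext α.symm (y : Ω)) = y := ext_ext_symm α (push_le α P hy)
    have h4 := hind' ⟨_, hx⟩ (by rw [extOn_eq_ext]; exact ext_mem_push α hx (hPS hx))
    have h5 := hψf ⟨(y : Ω), hy⟩
    simp only [Function.comp_apply] at h5
    rw [Helper87_Alperin.extHom_apply φ hx] at h5
    have h6 : (⟨Helper87_Factor.extOn (S.subtype.comp α.toMonoidHom) ((⟨ext α.symm (y : Ω), hx⟩ : P) : Ω),
        (by rw [extOn_eq_ext]; exact ext_mem_push α hx (hPS hx))⟩ :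
        imageAlong (S.subtype.comp α.toMonoidHom) P) = y := Subtype.ext hyy
    rw [h6] at h4
    rw [h4]
    exact h5.symm
  rw [hφψ]
  exact h3 _ hψ

end Cfsg.Agent.S5311
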