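import Cfsg.Statements.S5315
import Cfsg.Agent.Lib.Helper87_Hyperfocal
import Cfsg.Agent.Lib.Helper2_PResidual
import Cfsg.Agent.S5084
import Cfsg.Agent.S5144
import Cfsg.Agent.S5148
import Cfsg.Agent.S5255

set_option autoImplicit false
open Cfsg

namespace Cfsg.Agent.S5315

open Cfsg.FusionSystem Cfsg.Agent.Lib Cfsg.Agent.Lib.Helper87_Alperin Cfsg.Agent.Lib.Helper87_Alperin2
  Cfsg.Agent.Lib.Helper87_Normal Cfsg.Agent.Lib.Helper87_ModT Cfsg.Agent.Lib.Helper87_Factor
  Cfsg.Agent.Lib.Helper87_Hyperfocal Cfsg.Agent.Lib.Helper2_PResidual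

/-- An element of `Z(S)` fixed by `Aut_F(R)` for every fully automized, receptive, centric, radical `R` is fixed by
every map of the saturated system `F` whose source contains it. -/
theorem fixed_of_fixed_frc {Ω : Type*} [Group Ω] {S : Subgroup Ω} [Finite S] (p : ℕ) [Fact p.Prime]
    (hS : IsPGroup p S) (F : Cfsg.FusionSystem S) (hF : F.IsSaturated p) (x : Ω) (hxS : x ∈ S)
    (hxZ : ∀ s ∈ S, s * x = x * s)
    (h : ∀ R : Subgroup Ω, F.IsFullyAutomized p R → F.IsReceptive R → F.IsCentric R → F.IsRadical p R →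
      ∀ α ∈ F.autGroup R, ∀ hx : x ∈ R, ((α ⟨x, hx⟩ : R) : Ω) = x) :
    ∀ (P : Subgroup Ω) (φ : P →* Ω), φ ∈ F.Hom P → ∀ hx : x ∈ P, φ ⟨x, hx⟩ = x := by
  have hD : ∀ g ∈ S, ∀ y ∈ S, (y ∈ ({x} : Set Ω) ↔ g * y * g⁻¹ ∈ ({x} : Set Ω)) := by
    intro g hg y _
    simp only [Set.mem_singleton_iff]
    constructor
    · rintro rfl
      rw [hxZ g hg, mul_inv_cancel_right]
    · intro hy
      have h1 : y = g⁻¹ * (g * y * g⁻¹) * g := by group
      rw [h1, hy, mul_assoc, ← hxZ g hg, inv_mul_cancel_left]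
  have hsub := alperin_frc F hS hF (Cfsg.Agent.S5255.stabSystem F ({x} : Set Ω) hD) ?_
  · intro P φ hφ hx
    have h1 := ((Cfsg.Agent.S5255.mem_stabSystem_hom F _ hD P φ).1 (hsub P hφ)).2 ⟨x, hx⟩
    exact h1.1 rfl
  · intro Q hQa hQr hQc hQrad α hα
    have hQS : Q ≤ S := hQa.1
    have hxQ : x ∈ Q := by
      apply hQc.2 Q ⟨Q.subtype, subtype_mem F hQS, Q.range_subtype⟩
      refine ⟨hxS, ?_⟩
      intro y hy
      exact hxZ y (hQS hy)
    have hαx := h Q hQa hQr hQc hQrad α hα hxQ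
    refine ⟨(mem_autGroup_iff' F hQS α).1 hα, fun y => ?_⟩
    simp only [Set.mem_singleton_iff]
    show (y : Ω) = x ↔ ((α y : Q) : Ω) = x
    constructor
    · intro hy
      have : y = ⟨x, hxQ⟩ := Subtype.ext hy
      rw [this]
      exact hαx
    · intro hy
      have h1 : α y = α ⟨x, hxQ⟩ := Subtype.ext (hy.trans hαx.symm)
      exact congrArg Subtype.val (α.injective h1)

/-- An analogue of Grün's lemma for fusion systems. Let F be a saturated fusion system over a finite p-group S that is perfect in the sense that its hyperfocal subgroup is all of S (F coincides with its p-residual subsystem). Then the second centre of F equals its centre: every fusion system over S/(Z(F) ∩ S) that is the factor system of F modulo its centre Z(F), read through the quotient map, has trivial centre. -/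
theorem result {Ω : Type*} [Group Ω] {S : Subgroup Ω} [Finite S] (p : ℕ) [Fact p.Prime] (hS : IsPGroup p S) (F : Cfsg.FusionSystem S) (hF : F.IsSaturated p)
    (hperf : F.hyperfocalSubgroup p = S)
    (E : Cfsg.FusionSystem (⊤ : Subgroup (↥S ⧸ (F.center).subgroupOf S)))
    (hE : F.IsFactorSystem F.center (QuotientGroup.mk' ((F.center).subgroupOf S)) E) : E.center = ⊥ := by
  classical
  have hE' := hE
  obtain ⟨hZS, hker, hrange, hEhom⟩ := hE'
  set Z : Subgroup Ω := F.center with hZdef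
  set θ : ↥S →* ↥S ⧸ Z.subgroupOf S := QuotientGroup.mk' (Z.subgroupOf S) with hθ
  have hZc : F.IsCentral Z := Cfsg.Agent.S5144.result F
  have hZsc : F.StronglyClosed Z := Cfsg.Agent.S5148.stronglyClosed_of_isCentral hZc
  have h84 := (Cfsg.Agent.S5084.result p hS F hF Z).1 hZc
  -- maps of `F` fix the elements of `Z`
  have hZfix : ∀ (P : Subgroup Ω) (φ : P →* Ω), φ ∈ F.Hom P → ∀ (z : Ω) (hz : z ∈ P), z ∈ Z →
      φ ⟨z, hz⟩ = z := by
    intro P φ hφ z hz hzZ
    have hle : Subgroup.zpowers z ≤ P := (Subgroup.zpowers_le).2 hz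
    exact h84.2 z hzZ _ ⟨_, restrict_mem F hφ hle, rfl⟩
  -- `Z` is central in `S`
  have hZcent : ∀ z ∈ Z, ∀ s ∈ S, s * z = z * s := by
    intro z hz s hs
    have h1 := hZfix S _ (F.conj_mem le_rfl hs) z (hZS hz) hz
    have h2 : s * z * s⁻¹ = z := h1
    calc s * z = (s * z * s⁻¹) * s := by group
      _ = z * s := by rw [h2]
  -- every central subgroup of `E` is trivial
  have hmain : ∀ Q' : Subgroup (↥S ⧸ Z.subgroupOf S), E.IsCentral Q' → Q' ≤ ⊥ := by
    intro Q' hQ'
    -- Step A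
    have hA : ∀ (x : Ω), x ∈ S → extOn θ x ∈ Q' → ∀ (P : Subgroup Ω) (φ : P →* Ω), φ ∈ F.Hom P →
        ∀ hx : x ∈ P, x⁻¹ * φ ⟨x, hx⟩ ∈ Z := by
      intro x hxS hxQ' P φ hφ hx
      have hPS : P ≤ S := hom_le F hφ
      obtain ⟨φ', hφ'E, hφ'⟩ := exists_induced_hom F hS hF hZsc hE hφ
      obtain ⟨ψ', -, hext, hfix⟩ := hQ'.2 _ φ' hφ'E
      have hx' : extOn θ x ∈ imageAlong θ P := extOn_mem_imageAlong θ hPS hx
      have h1 := hext ⟨extOn θ x, hx'⟩
      have h2 := hfix ⟨extOn θ x, hxQ'⟩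
      have h3 : (Subgroup.inclusion (le_sup_left : imageAlong θ P ≤ imageAlong θ P ⊔ Q')
          ⟨extOn θ x, hx'⟩) = Subgroup.inclusion (le_sup_right : Q' ≤ imageAlong θ P ⊔ Q')
          ⟨extOn θ x, hxQ'⟩ := rfl
      rw [h3, h2] at h1
      have h4 := hφ' ⟨x, hx⟩ hx'
      rw [← h1] at h4
      exact (extOn_eq_iff hker hxS (hom_mem F hφ ⟨x, hx⟩)).1 h4
    -- the preimage of `Q'` is central in `F`
    have hcentral : F.IsCentral (preimageAlong θ Q') := by
      rw [Cfsg.Agent.S5084.result p hS F hF]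
      refine ⟨preimageAlong_le θ Q', ?_⟩
      intro x hx y hxy
      obtain ⟨hxS, hxQ'⟩ := (mem_preimageAlong θ Q' x).1 hx
      -- Step B: `x` is central in `S`
      have hxZS : ∀ s ∈ S, s * x = x * s := by
        have hle : F.hyperfocalSubgroup p ≤ S ⊓ Subgroup.centralizer {x} := by
          apply hyperfocal_le
          intro P hP α hα _ y
          refine ⟨S.mul_mem (S.inv_mem (hP y.2)) (hP (α y).2), ?_⟩
          show _ ∈ Subgroup.centralizer {x}
          rw [Subgroup.mem_centralizer_iff]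
          intro w hw
          rw [Set.mem_singleton_iff] at hw
          rw [hw]
          clear hw w
          -- the induced map and its extension
          have hφ : autHom α ∈ F.Hom P := (mem_autGroup_iff' F hP α).1 hα
          obtain ⟨φ', hφ'E, hφ'⟩ := exists_induced_hom F hS hF hZsc hE hφ
          obtain ⟨ψ', hψ'E, hext, hfix⟩ := hQ'.2 _ φ' hφ'E
          obtain ⟨-, ψ, hψF, hind⟩ := (hEhom _ ψ').1 hψ'E
          obtain ⟨hpreS, hψS, hψ⟩ := extOn_of_inducedAlong hind
          have hmem_pre : ∀ u : Ω, u ∈ S → extOn θ u ∈ imageAlong θ P ⊔ Q' →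
              u ∈ preimageAlong θ (imageAlong θ P ⊔ Q') := fun u hu h =>
            (mem_preimageAlong θ _ u).2 ⟨hu, h⟩
          have hy' : extOn θ (y : Ω) ∈ imageAlong θ P := extOn_mem_imageAlong θ hP y.2
          have hypre : (y : Ω) ∈ preimageAlong θ (imageAlong θ P ⊔ Q') :=
            hmem_pre _ (hP y.2) (le_sup_left (b := Q') hy')
          have hxpre : x ∈ preimageAlong θ (imageAlong θ P ⊔ Q') :=
            hmem_pre _ hxS (le_sup_right (a := imageAlong θ P) hxQ')
          -- `ψ y ∈ α y * Z`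
          have hψy : ((α y : P) : Ω)⁻¹ * ψ ⟨y, hypre⟩ ∈ Z := by
            have h1 := hψ ⟨y, hypre⟩ (le_sup_left (b := Q') hy')
            have h2 := hext ⟨extOn θ (y : Ω), hy'⟩
            have h3 := hφ' y hy'
            have h4 : extOn θ (ψ ⟨y, hypre⟩) = extOn θ ((α y : P) : Ω) :=
              h1.symm.trans (h2.trans h3)
            exact (extOn_eq_iff hker (hP (α y).2) (hψS _)).1 h4.symm
          -- `ψ x ∈ x * Z`
          have hψx : x⁻¹ * ψ ⟨x, hxpre⟩ ∈ Z := by
            have h1 := hψ ⟨x, hxpre⟩ (le_sup_right (a := imageAlong θ P) hxQ')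
            have h2 := hfix ⟨extOn θ x, hxQ'⟩
            have h4 : extOn θ (ψ ⟨x, hxpre⟩) = extOn θ x := h1.symm.trans h2
            exact (extOn_eq_iff hker hxS (hψS _)).1 h4.symm
          -- the commutator of `y` and `x` lies in `Z`
          have hcomm : (y : Ω) * x * (y : Ω)⁻¹ * x⁻¹ ∈ Z := by
            have h1 := hA x hxS hxQ' S _ (F.conj_mem le_rfl (hP y.2)) hxS
            have h2 : x⁻¹ * ((y : Ω) * x * (y : Ω)⁻¹) ∈ Z := h1
            have h3 : (y : Ω) * x * (y : Ω)⁻¹ * x⁻¹ = x * (x⁻¹ * ((y : Ω) * x * (y : Ω)⁻¹)) * x⁻¹ := by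
              group
            rw [h3, hZcent _ h2 x hxS, mul_inv_cancel_right]
            exact h2
          have hcpre : (y : Ω) * x * (y : Ω)⁻¹ * x⁻¹ ∈ preimageAlong θ (imageAlong θ P ⊔ Q') :=
            Subgroup.mul_mem _ (Subgroup.mul_mem _ (Subgroup.mul_mem _ hypre hxpre)
              (Subgroup.inv_mem _ hypre)) (Subgroup.inv_mem _ hxpre)
          have hψc := hZfix _ ψ hψF _ hcpre hcomm
          have hψc' : ψ ⟨(y : Ω) * x * (y : Ω)⁻¹ * x⁻¹, hcpre⟩ =
              ψ ⟨y, hypre⟩ * ψ ⟨x, hxpre⟩ * (ψ ⟨y, hypre⟩)⁻¹ * (ψ ⟨x, hxpre⟩)⁻¹ := by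
            rw [← map_inv, ← map_inv, ← map_mul, ← map_mul, ← map_mul]
            rfl
          rw [hψc'] at hψc
          -- replace `ψ y` and `ψ x` by `α y` and `x` (they differ by central elements)
          set a : Ω := ((α y : P) : Ω) with ha
          set ζ₁ : Ω := a⁻¹ * ψ ⟨y, hypre⟩ with hζ₁
          set ζ₂ : Ω := x⁻¹ * ψ ⟨x, hxpre⟩ with hζ₂
          have haS : a ∈ S := hP (α y).2
          have e1 : ψ ⟨y, hypre⟩ = a * ζ₁ := by rw [hζ₁]; group
          have e2 : ψ ⟨x, hxpre⟩ = x * ζ₂ := by rw [hζ₂]; group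
          have c1a : a * ζ₁ = ζ₁ * a := hZcent ζ₁ hψy a haS
          have c1w : x * ζ₁ = ζ₁ * x := hZcent ζ₁ hψy x hxS
          have c2a : a * ζ₂ = ζ₂ * a := hZcent ζ₂ hψx a haS
          have c2w : x * ζ₂ = ζ₂ * x := hZcent ζ₂ hψx x hxS
          have c12 : ζ₁ * ζ₂ = ζ₂ * ζ₁ := (hZcent ζ₂ hψx ζ₁ (hZS hψy))
          have hkey : a * x * a⁻¹ * x⁻¹ = (y : Ω) * x * (y : Ω)⁻¹ * x⁻¹ := by
            rw [← hψc, e1, e2]
            have : a * ζ₁ * (x * ζ₂) * (a * ζ₁)⁻¹ * (x * ζ₂)⁻¹ = a * x * a⁻¹ * x⁻¹ := by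
              have s1 : a * ζ₁ * (x * ζ₂) = a * x * (ζ₁ * ζ₂) := by
                rw [mul_assoc a ζ₁, ← mul_assoc ζ₁ x, ← c1w]
                simp only [mul_assoc]
              have s2 : (a * ζ₁)⁻¹ = a⁻¹ * ζ₁⁻¹ := by
                rw [c1a, mul_inv_rev]
              have s3 : (x * ζ₂)⁻¹ = x⁻¹ * ζ₂⁻¹ := by
                rw [c2w, mul_inv_rev]
              rw [s1, s2, s3]
              -- move the central elements
              have c3 : ζ₁ * ζ₂ * a⁻¹ = a⁻¹ * (ζ₁ * ζ₂) := by
                have h5 : a * (ζ₁ * ζ₂) = (ζ₁ * ζ₂) * a := hZcent _ (Z.mul_mem hψy hψx) a haS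
                calc ζ₁ * ζ₂ * a⁻¹ = a⁻¹ * (a * (ζ₁ * ζ₂)) * a⁻¹ := by group
                  _ = a⁻¹ * (ζ₁ * ζ₂ * a) * a⁻¹ := by rw [h5]
                  _ = a⁻¹ * (ζ₁ * ζ₂) := by group
              have c4 : ζ₁ * ζ₂ * ζ₁⁻¹ = ζ₂ := by
                rw [c12, mul_inv_cancel_right]
              have c5 : ζ₂ * x⁻¹ = x⁻¹ * ζ₂ := by
                calc ζ₂ * x⁻¹ = x⁻¹ * (x * ζ₂) * x⁻¹ := by group
                  _ = x⁻¹ * (ζ₂ * x) * x⁻¹ := by rw [c2w]
                  _ = x⁻¹ * ζ₂ := by group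
              calc a * x * (ζ₁ * ζ₂) * (a⁻¹ * ζ₁⁻¹) * (x⁻¹ * ζ₂⁻¹)
                  = a * x * (ζ₁ * ζ₂ * a⁻¹) * ζ₁⁻¹ * (x⁻¹ * ζ₂⁻¹) := by simp only [mul_assoc]
                _ = a * x * (a⁻¹ * (ζ₁ * ζ₂)) * ζ₁⁻¹ * (x⁻¹ * ζ₂⁻¹) := by rw [c3]
                _ = a * x * a⁻¹ * (ζ₁ * ζ₂ * ζ₁⁻¹) * (x⁻¹ * ζ₂⁻¹) := by simp only [mul_assoc]
                _ = a * x * a⁻¹ * ζ₂ * (x⁻¹ * ζ₂⁻¹) := by rw [c4]
                _ = a * x * a⁻¹ * (ζ₂ * x⁻¹) * ζ₂⁻¹ := by simp only [mul_assoc]
                _ = a * x * a⁻¹ * (x⁻¹ * ζ₂) * ζ₂⁻¹ := by rw [c5]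
                _ = a * x * a⁻¹ * x⁻¹ := by simp only [mul_assoc, mul_inv_cancel, mul_one]
            exact this.symm
          -- conclude
          have h6 : a * x * a⁻¹ = (y : Ω) * x * (y : Ω)⁻¹ := by
            have := congrArg (fun t => t * x) hkey
            simpa [mul_assoc] using this
          calc x * ((y : Ω)⁻¹ * a) = (y : Ω)⁻¹ * ((y : Ω) * x * (y : Ω)⁻¹) * a := by group
            _ = (y : Ω)⁻¹ * (a * x * a⁻¹) * a := by rw [h6]
            _ = (y : Ω)⁻¹ * a * x := by group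
        intro s hs
        have h1 : s ∈ S ⊓ Subgroup.centralizer {x} := hle (by rw [hperf]; exact hs)
        exact ((Subgroup.mem_centralizer_iff.1 h1.2) x rfl).symm
      -- Step C: `Aut_F(R)` fixes `x` for the centric radical `R`
      have hC : ∀ R : Subgroup Ω, F.IsFullyAutomized p R → F.IsReceptive R → F.IsCentric R →
          F.IsRadical p R → ∀ α ∈ F.autGroup R, ∀ hx : x ∈ R, ((α ⟨x, hx⟩ : R) : Ω) = x := by
        intro R hRa _ _ _ α hα hxR
        obtain ⟨hRS, Rsyl, hRsyl⟩ := hRa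
        have hfinR : Finite R := Finite.of_injective (Subgroup.inclusion hRS) (Subgroup.inclusion_injective hRS)
        have hfinK : Finite (F.autGroup R) := inferInstance
        let Fix : Subgroup (F.autGroup R) := MulAction.stabilizer (F.autGroup R) (⟨x, hxR⟩ : R)
        have hFixmem : ∀ β : F.autGroup R, β ∈ Fix ↔ (β : MulAut R) ⟨x, hxR⟩ = ⟨x, hxR⟩ := fun β => Iff.rfl
        have hsyl : (Rsyl : Subgroup (F.autGroup R)) ≤ Fix := by
          intro β hβ
          rw [hRsyl, Subgroup.mem_subgroupOf, mem_autInducedBy_iff] at hβ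
          obtain ⟨g, hg, hgβ⟩ := hβ
          rw [hFixmem]
          apply Subtype.ext
          rw [hgβ]
          show g * x * g⁻¹ = x
          rw [hxZS g hg, mul_inv_cancel_right]
        have hres : Cfsg.pResidual p (F.autGroup R) ≤ Fix := by
          unfold Cfsg.pResidual
          apply (Subgroup.closure_le _).2
          intro β hβ
          have hβcop : (orderOf (β : MulAut R)).Coprime p := by
            rw [Subgroup.orderOf_coe]
            exact hβ
          rw [SetLike.mem_coe, hFixmem]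
          -- `β x = x ζ` with `ζ ∈ Z` fixed by `β`
          have hφ : autHom (β : MulAut R) ∈ F.Hom R := (mem_autGroup_iff' F hRS _).1 β.2
          set ζ : Ω := x⁻¹ * (((β : MulAut R) ⟨x, hxR⟩ : R) : Ω) with hζ
          have hζZ : ζ ∈ Z := hA x hxS hxQ' R _ hφ hxR
          have hζR : ζ ∈ R := R.mul_mem (R.inv_mem hxR) ((β : MulAut R) ⟨x, hxR⟩).2
          have hβζ : ∀ k : ℕ, (((β : MulAut R) ^ k) ⟨ζ, hζR⟩ : R) = ⟨ζ, hζR⟩ := by
            intro k
            induction k with
            | zero => simp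
            | succ k ih =>
              rw [pow_succ, MulAut.mul_apply]
              have h1 : (β : MulAut R) ⟨ζ, hζR⟩ = ⟨ζ, hζR⟩ := by
                apply Subtype.ext
                exact hZfix R _ hφ ζ hζR hζZ
              rw [h1, ih]
          have hβx : ∀ k : ℕ, ((((β : MulAut R) ^ k) ⟨x, hxR⟩ : R) : Ω) = x * ζ ^ k := by
            intro k
            induction k with
            | zero => simp
            | succ k ih =>
              rw [pow_succ, MulAut.mul_apply]
              have h1 : (β : MulAut R) ⟨x, hxR⟩ = ⟨x, hxR⟩ * ⟨ζ, hζR⟩ := by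
                apply Subtype.ext
                show (((β : MulAut R) ⟨x, hxR⟩ : R) : Ω) = x * ζ
                rw [hζ]
                group
              rw [h1, map_mul, hβζ k, Subgroup.coe_mul, ih, pow_succ, mul_assoc]
          have h2 := hβx (orderOf (β : MulAut R))
          rw [pow_orderOf_eq_one] at h2
          have h3 : ζ ^ orderOf (β : MulAut R) = 1 := by
            have : x = x * ζ ^ orderOf (β : MulAut R) := h2
            exact (left_eq_mul.1 this)
          obtain ⟨j, hj⟩ := hS ⟨ζ, hZS hζZ⟩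
          have h4 : ζ ^ p ^ j = 1 := by
            have := congrArg Subtype.val hj
            simpa using this
          have h5 : orderOf ζ ∣ orderOf (β : MulAut R) := orderOf_dvd_of_pow_eq_one h3
          have h6 : orderOf ζ ∣ p ^ j := orderOf_dvd_of_pow_eq_one h4
          have h7 : (orderOf ζ).Coprime (p ^ j) :=
            Nat.Coprime.pow_right j (Nat.Coprime.coprime_dvd_left h5 hβcop)
          have h8 : orderOf ζ = 1 := Nat.Coprime.eq_one_of_dvd h7 h6
          have h9 : ζ = 1 := orderOf_eq_one_iff.1 h8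
          apply Subtype.ext
          have h10 : (((β : MulAut R) ⟨x, hxR⟩ : R) : Ω) = x * ζ := by rw [hζ]; group
          rw [h10, h9, mul_one]
        have htop : (⟨α, hα⟩ : F.autGroup R) ∈ Fix := by
          have h1 : (⟨α, hα⟩ : F.autGroup R) ∈
              (Rsyl : Subgroup (F.autGroup R)) ⊔ Cfsg.pResidual p (F.autGroup R) := by
            rw [sylow_sup_pResidual]
            exact Subgroup.mem_top _
          exact (sup_le hsyl hres) h1
        have h2 := (hFixmem _).1 htop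
        exact congrArg Subtype.val h2
      -- conclude with the centrality criterion
      obtain ⟨φ, hφ, hφxy⟩ := hxy
      have := fixed_of_fixed_frc p hS F hF x hxS hxZS hC _ φ hφ (Subgroup.mem_zpowers x)
      rw [← hφxy]
      exact this
    -- hence the preimage lies in `Z` and `Q'` is trivial
    have hle : preimageAlong θ Q' ≤ Z := le_sSup hcentral
    intro z' hz'
    obtain ⟨s, rfl⟩ := QuotientGroup.mk_surjective z'
    have hs : (s : Ω) ∈ preimageAlong θ Q' := by
      rw [mem_preimageAlong]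
      refine ⟨s.2, ?_⟩
      rw [extOn_coe]
      exact hz'
    have hsZ : (s : Ω) ∈ Z := hle hs
    rw [Subgroup.mem_bot]
    exact (hker s).2 hsZ
  exact le_antisymm (sSup_le fun Q' hQ' => hmain Q' hQ') bot_le

end Cfsg.Agent.S5315
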