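import Cfsg.Statements.S5317
import Cfsg.Agent.Lib.Helper42_PSL2Syl2
import Cfsg.Agent.Lib.Helper85_GroupFusion

set_option autoImplicit false
open Cfsg

namespace Cfsg.Agent.S5317

/-- Let F be a finite field of odd order q with q² ≡ 1 mod 16 (so that a Sylow 2-subgroup of PSL(2,q), dihedral of order the 2-part of (q²−1)/2, has order at least 8). Then the 2-fusion system of PSL(2,F) on a Sylow 2-subgroup is simple: saturated, over a nontrivial 2-group, with no normal subsystem other than the trivial one and itself. -/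
theorem result {F : Type*} [Field F] [Fintype F] (hodd : Fintype.card F % 2 = 1) (h16 : 16 ∣ Fintype.card F ^ 2 - 1)
    (S : Sylow 2 (Matrix.ProjectiveSpecialLinearGroup (Fin 2) F)) :
    (Cfsg.groupFusionSystem (S : Subgroup (Matrix.ProjectiveSpecialLinearGroup (Fin 2) F))).IsSimple 2 := by
  classical
  haveI : Fact (Nat.Prime 2) := ⟨Nat.prime_two⟩
  have hsat := Cfsg.Agent.Lib.Helper85_GroupFusion.group_isSaturated S
  refine ⟨hsat, ?_, ?_⟩
  · -- `S ≠ ⊥`
    intro hbot
    have h8 := Cfsg.Agent.Lib.Helper42_PSL2Syl2.eight_le_card hodd h16 S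
    rw [hbot, Subgroup.card_bot] at h8
    omega
  · intro T E hE
    obtain ⟨⟨-, -, hsub, hstrong, -, hfrat⟩, -⟩ := hE
    by_cases hT : T = ⊥
    · left; exact hT
    right
    have hTS : T ≤ (S : Subgroup (Matrix.ProjectiveSpecialLinearGroup (Fin 2) F)) := hstrong.1
    have h2 := Cfsg.Agent.Lib.Helper42_PSL2Syl2.two_ne_zero_of_odd hodd
    -- strong closure for elements
    have hSC : ∀ t ∈ T, ∀ g : Matrix.ProjectiveSpecialLinearGroup (Fin 2) F,
        g * t * g⁻¹ ∈ (S : Subgroup (Matrix.ProjectiveSpecialLinearGroup (Fin 2) F)) →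
        g * t * g⁻¹ ∈ T := by
      intro t ht g hg
      have hR : Subgroup.zpowers t ≤ T := Subgroup.zpowers_le.mpr ht
      have hφ : Cfsg.conjHom (Subgroup.zpowers t) g ∈
          (Cfsg.groupFusionSystem (S : Subgroup (Matrix.ProjectiveSpecialLinearGroup (Fin 2) F))).Hom
            (Subgroup.zpowers t) := by
        refine ⟨hR.trans hTS, ?_, g, fun x => rfl⟩
        rintro ⟨x, hx⟩
        obtain ⟨k, rfl⟩ := Subgroup.mem_zpowers_iff.mp hx
        show g * t ^ k * g⁻¹ ∈ (S : Subgroup (Matrix.ProjectiveSpecialLinearGroup (Fin 2) F))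
        have : g * t ^ k * g⁻¹ = (g * t * g⁻¹) ^ k := by rw [conj_zpow]
        rw [this]
        exact Subgroup.zpow_mem _ hg k
      exact hstrong.2 _ hR _ hφ ⟨t, Subgroup.mem_zpowers t⟩
    -- an involution of `T`
    have hTp : IsPGroup 2 T := S.2.to_le hTS
    have hTnt : Nontrivial T := (Subgroup.nontrivial_iff_ne_bot T).mpr hT
    obtain ⟨n, hn0, hn⟩ := hTp.nontrivial_iff_card.mp hTnt
    have hdvd : 2 ∣ Nat.card T := by
      rw [hn]; exact dvd_pow_self 2 (by omega)
    obtain ⟨c, hc⟩ := exists_prime_orderOf_dvd_card' 2 hdvd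
    have hc1 : (c : Matrix.ProjectiveSpecialLinearGroup (Fin 2) F) ≠ 1 := by
      intro h1
      have : c = 1 := Subtype.ext h1
      rw [this, orderOf_one] at hc
      omega
    have hc2 : (c : Matrix.ProjectiveSpecialLinearGroup (Fin 2) F) * c = 1 := by
      have h3 : c ^ 2 = 1 := by
        have := pow_orderOf_eq_one c
        rwa [hc] at this
      have h4 := congrArg (fun w : T => (w : Matrix.ProjectiveSpecialLinearGroup (Fin 2) F)) h3
      simpa [pow_two] using h4
    -- `T = S`
    have hST : (S : Subgroup (Matrix.ProjectiveSpecialLinearGroup (Fin 2) F)) ≤ T := by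
      refine (Cfsg.Agent.Lib.Helper42_PSL2Syl2.le_closure_invol hodd h16 S).trans ?_
      rw [Subgroup.closure_le]
      rintro s ⟨hsS, hs1, hs2⟩
      obtain ⟨g, hg⟩ := Cfsg.Agent.Lib.Helper42_PSL2Syl2.invol_conj h2 hc1 hc2 hs1 hs2
      have := hSC c c.2 g (by rw [hg]; exact hsS)
      rw [hg] at this
      exact this
    have hTeq : T = (S : Subgroup (Matrix.ProjectiveSpecialLinearGroup (Fin 2) F)) :=
      le_antisymm hTS hST
    subst hTeq
    refine ⟨rfl, fun P => Set.Subset.antisymm (hsub P) ?_⟩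
    intro φ hφ
    have hP : P ≤ (S : Subgroup (Matrix.ProjectiveSpecialLinearGroup (Fin 2) F)) :=
      ((Cfsg.groupFusionSystem (S : Subgroup (Matrix.ProjectiveSpecialLinearGroup (Fin 2) F))).le_of_mem hφ).1
    obtain ⟨α, hα, φ₀, hφ₀, hform⟩ := hfrat P hP φ hφ
    obtain ⟨m, hm⟩ := (Cfsg.Agent.Lib.Helper85_GroupFusion.group_mem_autGroup_iff le_rfl α).mp hα
    have hmN := Cfsg.Agent.Lib.Helper85_GroupFusion.mem_normalizer_of_aut α m hm
    have hmS := Cfsg.Agent.Lib.Helper42_PSL2Syl2.normalizer_le hodd h16 S hmN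
    have hconj := E.conj_mem (le_refl (S : Subgroup (Matrix.ProjectiveSpecialLinearGroup (Fin 2) F))) hmS
    have hφ₀S := (E.le_of_mem hφ₀).2
    have hcomp := E.comp_mem hφ₀ hconj hφ₀S
    have heq : φ = (Cfsg.conjHom (S : Subgroup (Matrix.ProjectiveSpecialLinearGroup (Fin 2) F)) m).comp
        (φ₀.codRestrict _ hφ₀S) := by
      apply MonoidHom.ext
      intro x
      rw [hform x (hφ₀S x), hm]
      rfl
    rw [heq]
    exact hcomp

end Cfsg.Agent.S5317
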