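import Cfsg.Statements.S5320
import Cfsg.Agent.Lib.Helper76_S5320_Main

set_option autoImplicit false
open Cfsg

namespace Cfsg.Agent.S5320

/-- For a finite field F of odd order, the 2-fusion system of the projective symplectic group PSp(4,F) on a Sylow 2-subgroup is simple. -/
theorem result {F : Type*} [Field F] [Fintype F] (hodd : Fintype.card F % 2 = 1) (S : Sylow 2 (Cfsg.PSp 2 F)) :
    (Cfsg.groupFusionSystem (S : Subgroup (Cfsg.PSp 2 F))).IsSimple 2 := by
  classical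
  have : Fact (Nat.Prime 2) := ⟨Nat.prime_two⟩
  obtain ⟨a, b, h⟩ := Cfsg.Agent.Lib.Helper76_S5320Bas.exists_ab (F := F)
  obtain ⟨Q, hX, hY⟩ := Cfsg.Agent.Lib.Helper26_S5320_SLQS.exists_sylow a b h
  obtain ⟨P, hP⟩ := Cfsg.Agent.Lib.Helper73_S5320_SYL.syl hodd Q
  have hsurj : Function.Surjective
      (QuotientGroup.mk' (Subgroup.center (Matrix.symplecticGroup (Fin 2) F))) :=
    QuotientGroup.mk'_surjective _
  have hS₀ : ((Sylow.mapSurjective hsurj P : Sylow 2 (Cfsg.PSp 2 F)) : Subgroup (Cfsg.PSp 2 F)) =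
      (Cfsg.Agent.Lib.Helper76_S5320Defs.St (Q : Subgroup (Cfsg.Agent.Lib.Helper76_S5320Defs.SL2 F))).map
        (QuotientGroup.mk' (Subgroup.center (Matrix.symplecticGroup (Fin 2) F))) := by
    rw [Sylow.coe_mapSurjective, hP]
  by_cases h16 : 16 ∣ Fintype.card F ^ 2 - 1
  · have hmod := Cfsg.Agent.Lib.Helper76_S5320_Main.main1 hodd a b h Q hX hY P hP h16
    have hfl := Cfsg.Agent.Lib.Helper69_S5320_DESCENT.descent
      (Subgroup.center (Matrix.symplecticGroup (Fin 2) F)) _ _ hmod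
    rw [← hS₀] at hfl
    exact Cfsg.Agent.Lib.Helper88_FusFam.isSimple_of_exists_fusLocalFam 2 _ _ hfl S
  · have hmod := Cfsg.Agent.Lib.Helper76_S5320_Main.main3 hodd a b h Q hX hY P hP h16
    have hfl := Cfsg.Agent.Lib.Helper69_S5320_DESCENT.descent
      (Subgroup.center (Matrix.symplecticGroup (Fin 2) F)) _ _ hmod
    rw [← hS₀] at hfl
    exact Cfsg.Agent.Lib.Helper88_FusFam.isSimple_of_exists_fusLocalFam 2 _ _ hfl S

end Cfsg.Agent.S5320
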