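import Cfsg.Statements.S5327
import Cfsg.Agent.Lib.Helper88_InnerTop

set_option autoImplicit false
open Cfsg

namespace Cfsg.Agent.S5327

/-- Let F be a saturated fusion system over a finite p-group S. Call a family of subgroups of S generating when every fusion system over S whose automorphism group of each member R contains Aut_F(R) contains every map of F. If two families are each closed under F-conjugacy and each generating, then their intersection is generating. -/
theorem result {Ω : Type*} [Group Ω] {S : Subgroup Ω} [Finite S] (p : ℕ) [Fact p.Prime] (hS : IsPGroup p S) (F : Cfsg.FusionSystem S) (hF : F.IsSaturated p) (𝒬₁ 𝒬₂ : Set (Subgroup Ω)) (h₁ : ∀ R ∈ 𝒬₁, ∀ R' : Subgroup Ω, F.IsConj R R' → R' ∈ 𝒬₁) (h₂ : ∀ R ∈ 𝒬₂, ∀ R' : Subgroup Ω, F.IsConj R R' → R' ∈ 𝒬₂) (hg₁ : ∀ E : Cfsg.FusionSystem S, (∀ R ∈ 𝒬₁, F.autGroup R ≤ E.autGroup R) → F ≤ E) (hg₂ : ∀ E : Cfsg.FusionSystem S, (∀ R ∈ 𝒬₂, F.autGroup R ≤ E.autGroup R) → F ≤ E) (E : Cfsg.FusionSystem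 S) (hE : ∀ R ∈ 𝒬₁ ∩ 𝒬₂, F.autGroup R ≤ E.autGroup R) : F ≤ E := by
  apply Cfsg.Agent.Lib.Helper84_FusionEssential.alperin_goldschmidt hS F hF E
  intro P hP
  have key : ∀ 𝒬 : Set (Subgroup Ω), (∀ R ∈ 𝒬, ∀ R' : Subgroup Ω, F.IsConj R R' → R' ∈ 𝒬) →
      (∀ E' : Cfsg.FusionSystem S, (∀ R ∈ 𝒬, F.autGroup R ≤ E'.autGroup R) → F ≤ E') →
      P ∈ 𝒬 ∨ F.autGroup P ≤ E.autGroup P := by
    intro 𝒬 hc hg
    by_cases hPQ : P ∈ 𝒬
    · exact Or.inl hPQ
    right
    rcases hP with hPS | hess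
    · rw [hPS] at hPQ ⊢
      apply Cfsg.Agent.Lib.Helper88_InnerTop.autGroup_top_le_of_le_innerTop F E
      apply hg
      intro R hR
      by_cases hRS : R ≤ S
      · exact Cfsg.Agent.Lib.Helper88_InnerTop.autGroup_le_innerTop F hRS (fun h => hPQ (h ▸ hR))
      · rw [Cfsg.Agent.Lib.Helper88_InnerTop.autGroup_eq_bot_of_not_le F hRS]
        exact bot_le
    · exfalso
      have hQS := Cfsg.Agent.Lib.Helper88_Essential.lt_of_isEssential hS F hF hess
      have hQn := hess.2.1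
      have hQa := Cfsg.Agent.Lib.Helper84_FusionRS.IsSaturated.isFullyAutomized hS hF hQn
      have hQr := Cfsg.Agent.Lib.Helper84_FusionRS.IsSaturated.isReceptive_of_isFullyNormalized hS hF hQn
      apply Cfsg.Agent.Lib.Helper88_Essential.not_le_dropClass hS F P hQS hQa hQr
        (Cfsg.Agent.Lib.Helper84_FusionEssential.extClosure_ne_of_isEssential hS F hF hQS hess)
      apply hg
      intro R hR
      by_cases hRS : R ≤ S
      · apply Cfsg.Agent.Lib.Helper88_Essential.autGroup_le_dropClass hS F P hQS hQa hQr hRS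
        intro hconj
        exact hPQ (hc R hR P (Cfsg.Agent.Lib.Helper84_Fusion.isConj_symm F hconj))
      · rw [Cfsg.Agent.Lib.Helper88_InnerTop.autGroup_eq_bot_of_not_le F hRS]
        exact bot_le
  rcases key 𝒬₁ h₁ hg₁ with h1 | h1
  · rcases key 𝒬₂ h₂ hg₂ with h2 | h2
    · exact hE P ⟨h1, h2⟩
    · exact h2
  · exact h1

end Cfsg.Agent.S5327
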