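import Cfsg.Statements.S5330
import Cfsg.Agent.Lib.Helper88_FusionAbelian
import Cfsg.Agent.Lib.Helper88_CoprimeAbelian

set_option autoImplicit false
open Cfsg

namespace Cfsg.Agent.S5330

open Cfsg.FusionSystem Cfsg.Agent.Lib.Helper85_Fusion Cfsg.Agent.Lib.Helper88_FusionAbelian
  Cfsg.Agent.Lib.Helper88_CoprimeAbelian

/-- Let F be a saturated fusion system over a finite abelian p-group S. Then S is the internal direct product of the centre of the system and the focal subgroup: Z(F) ∩ foc(F) = 1 and Z(F)·foc(F) = S. -/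
theorem result {Ω : Type*} [Group Ω] {S : Subgroup Ω} [Finite S] (p : ℕ) [Fact p.Prime] (hS : IsPGroup p S) (F : Cfsg.FusionSystem S) (hF : F.IsSaturated p) (hab : ∀ x ∈ S, ∀ y ∈ S, x * y = y * x) : F.center ⊓ F.focalSubgroup = ⊥ ∧ F.center ⊔ F.focalSubgroup = S := by
  -- the automorphism group and the coprime decomposition inside `S`
  set A : Subgroup (MulAut S) := F.autGroup S with hA
  have hcopp : (Nat.card A).Coprime p := card_autGroup_coprime_of_abelian p F hF hab
  have hcop : (Nat.card A).Coprime (Nat.card S) := by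
    obtain ⟨k, hk⟩ := (IsPGroup.iff_card).1 hS
    rw [hk]
    exact Nat.Coprime.pow_right k hcopp
  let C₀ : Subgroup S :=
    { carrier := {x | ∀ α ∈ A, α x = x}
      mul_mem' := fun {a b} ha hb α hα => by rw [map_mul, ha α hα, hb α hα]
      one_mem' := fun α _ => map_one α
      inv_mem' := fun {a} ha α hα => by rw [map_inv, ha α hα] }
  let D₀ : Subgroup S := Subgroup.closure {y | ∃ (s : S) (α : MulAut S), α ∈ A ∧ y = s⁻¹ * α s}
  have hcommS : ∀ a b : S, a * b = b * a := fun a b => Subtype.ext (hab a a.2 b b.2)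
  obtain ⟨hinf, hsup⟩ := coprime_abelian_decomp hcommS A hcop C₀ D₀ (fun x => Iff.rfl) rfl
  -- the centre is the image of `C₀`
  have hcenter : F.center = C₀.map S.subtype := by
    apply le_antisymm
    · refine sSup_le fun Q hQ => ?_
      obtain ⟨hQS, hQc⟩ := hQ
      intro q hq
      refine ⟨⟨q, hQS hq⟩, ?_, rfl⟩
      intro α hα
      have hα' : S.subtype.comp α.toMonoidHom ∈ F.Hom S := (mem_autGroup_iff F le_rfl α).1 hα
      obtain ⟨ψ, -, h1, h2⟩ := hQc S _ hα'
      have e1 := h1 ⟨q, hQS hq⟩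
      have e2 := h2 ⟨q, hq⟩
      have e3 : (Subgroup.inclusion (le_sup_left : S ≤ S ⊔ Q) ⟨q, hQS hq⟩) =
          Subgroup.inclusion (le_sup_right : Q ≤ S ⊔ Q) ⟨q, hq⟩ := Subtype.ext rfl
      rw [e3, e2] at e1
      apply Subtype.ext
      exact e1.symm
    · apply le_sSup
      refine ⟨Subgroup.map_subtype_le C₀, ?_⟩
      intro P φ hφ
      have hP := source_le F hφ
      obtain ⟨ψ, hψ, hψext⟩ := exists_extension_of_abelian p F hF hab hφ
      obtain ⟨α, hα, hαψ⟩ := exists_aut_of_mem F hψ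
      have hle : P ⊔ C₀.map S.subtype ≤ S := sup_le hP (Subgroup.map_subtype_le C₀)
      refine ⟨ψ.comp (Subgroup.inclusion hle), restrict_mem F hle hψ, ?_, ?_⟩
      · intro x
        exact hψext x x.2 (hP x.2)
      · rintro ⟨_, ⟨c, hc, rfl⟩⟩
        show ψ c = c
        rw [← hαψ c, hc α hα]
  -- the focal subgroup is the image of `D₀`
  have hfocal : F.focalSubgroup = D₀.map S.subtype := by
    apply le_antisymm
    · unfold FusionSystem.focalSubgroup
      rw [Subgroup.closure_le]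
      rintro y ⟨P, φ, x, hφ, rfl⟩
      have hP := source_le F hφ
      obtain ⟨ψ, hψ, hψext⟩ := exists_extension_of_abelian p F hF hab hφ
      obtain ⟨α, hα, hαψ⟩ := exists_aut_of_mem F hψ
      refine ⟨(⟨x, hP x.2⟩ : S)⁻¹ * α ⟨x, hP x.2⟩, ?_, ?_⟩
      · exact Subgroup.subset_closure ⟨⟨x, hP x.2⟩, α, hα, rfl⟩
      · show (x : Ω)⁻¹ * ((α ⟨x, hP x.2⟩ : S) : Ω) = (x : Ω)⁻¹ * φ x
        rw [hαψ, hψext x x.2 (hP x.2)]
    · rw [Subgroup.map_le_iff_le_comap, Subgroup.closure_le]
      rintro y ⟨s, α, hα, rfl⟩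
      have hα' : S.subtype.comp α.toMonoidHom ∈ F.Hom S := (mem_autGroup_iff F le_rfl α).1 hα
      show S.subtype (s⁻¹ * α s) ∈ F.focalSubgroup
      unfold FusionSystem.focalSubgroup
      apply Subgroup.subset_closure
      exact ⟨S, _, s, hα', rfl⟩
  rw [hcenter, hfocal]
  constructor
  · rw [eq_bot_iff]
    rintro x ⟨⟨c, hc, rfl⟩, ⟨d, hd, hcd⟩⟩
    have hdc : d = c := Subtype.ext hcd
    rw [hdc] at hd
    have h1 : c ∈ C₀ ⊓ D₀ := ⟨hc, hd⟩
    rw [hinf, Subgroup.mem_bot] at h1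
    rw [h1]
    exact Subgroup.one_mem _
  · rw [← Subgroup.map_sup, hsup, ← MonoidHom.range_eq_map, Subgroup.range_subtype]

end Cfsg.Agent.S5330
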