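import Cfsg.Statements.S5331
import Cfsg.Agent.Lib.Helper88_FusionAbelian
import Cfsg.Agent.Lib.Helper88_DistinctInvariants

set_option autoImplicit false
open Cfsg

namespace Cfsg.Agent.S5331

open Cfsg.FusionSystem Cfsg.Agent.Lib.Helper85_Fusion Cfsg.Agent.Lib.Helper88_FusionAbelian
  Cfsg.Agent.Lib.Helper88_DistinctInvariants

/-- transport of an automorphism of `S` to the additive model -/
def transport {S N : Type*} [Group S] [AddCommGroup N] (e : S ≃* Multiplicative N) (α : MulAut S) :
    N ≃+ N where
  toFun x := Multiplicative.toAdd (e (α (e.symm (Multiplicative.ofAdd x))))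
  invFun x := Multiplicative.toAdd (e (α.symm (e.symm (Multiplicative.ofAdd x))))
  left_inv x := by simp
  right_inv x := by simp
  map_add' x y := by simp

theorem transport_iterate {S N : Type*} [Group S] [AddCommGroup N] (e : S ≃* Multiplicative N)
    (α : MulAut S) (j : ℕ) (x : N) :
    (⇑(transport e α))^[j] x = Multiplicative.toAdd (e ((α ^ j) (e.symm (Multiplicative.ofAdd x)))) := by
  induction j with
  | zero => simp
  | succ j ih =>
    rw [Function.iterate_succ_apply', ih, pow_succ', MulAut.mul_apply]
    show Multiplicative.toAdd (e (α (e.symm (Multiplicative.ofAdd (Multiplicative.toAdd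
      (e ((α ^ j) (e.symm (Multiplicative.ofAdd x))))))))) = _
    simp

/-- Let S be a finite abelian 2-group that is a direct product of cyclic groups of pairwise distinct orders 2^{a_1} < 2^{a_2} < ⋯ < 2^{a_n} (all a_i ≥ 1). Then every saturated fusion system over S is the inner one: its maps are exactly the conjugations by elements of S. -/
theorem result {Ω : Type*} [Group Ω] {S : Subgroup Ω} [Finite S] (n : ℕ) (a : Fin n → ℕ) (ha : StrictMono a) (ha1 : ∀ i, 1 ≤ a i) (e : ↥S ≃* Multiplicative ((i : Fin n) → ZMod (2 ^ a i))) (F : Cfsg.FusionSystem S) (hF : F.IsSaturated 2) (P : Subgroup Ω) : F.Hom P = (Cfsg.innerFusionSystem S).Hom P := by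
  have hab : ∀ x ∈ S, ∀ y ∈ S, x * y = y * x := by
    intro x hx y hy
    have h1 : e (⟨x, hx⟩ * ⟨y, hy⟩) = e (⟨y, hy⟩ * ⟨x, hx⟩) := by
      rw [map_mul, map_mul, mul_comm]
    exact congrArg Subtype.val (e.injective h1)
  have hcop : (Nat.card (F.autGroup S)).Coprime 2 := card_autGroup_coprime_of_abelian 2 F hF hab
  have hodd : Odd (Nat.card (F.autGroup S)) := Nat.coprime_two_right.1 hcop
  -- every element of `Aut_F(S)` is trivial
  have htriv : ∀ α ∈ F.autGroup S, ∀ s : S, α s = s := by
    intro α hα s
    have hpow : α ^ Nat.card (F.autGroup S) = 1 := by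
      have h1 : (⟨α, hα⟩ : F.autGroup S) ^ Nat.card (F.autGroup S) = 1 := pow_card_eq_one'
      exact congrArg Subtype.val h1
    have hit : ∀ x, (⇑(transport e α))^[Nat.card (F.autGroup S)] x = x := by
      intro x
      rw [transport_iterate, hpow]
      simp
    have h2 := aut_trivial ha.injective ha1 (transport e α) _ hodd hit (Multiplicative.toAdd (e s))
    have h3 : Multiplicative.toAdd (e (α (e.symm (Multiplicative.ofAdd (Multiplicative.toAdd (e s))))))
        = Multiplicative.toAdd (e s) := h2
    simp only [ofAdd_toAdd, MulEquiv.symm_apply_apply] at h3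
    exact e.injective (Multiplicative.toAdd.injective h3)
  apply Set.eq_of_subset_of_subset
  · intro φ hφ
    have hP := source_le F hφ
    obtain ⟨ψ, hψ, hψext⟩ := exists_extension_of_abelian 2 F hF hab hφ
    obtain ⟨α, hα, hαψ⟩ := exists_aut_of_mem F hψ
    refine ⟨hP, 1, S.one_mem, fun x => ?_⟩
    rw [← hψext x x.2 (hP x.2), ← hαψ, htriv α hα]
    simp
  · rintro φ ⟨hP, g, hg, h⟩
    exact mem_of_eq F (F.conj_mem hP hg) (fun x => h x)

end Cfsg.Agent.S5331
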