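import Cfsg.Statements.S5332
import Cfsg.Agent.S5221

set_option autoImplicit false
open Cfsg

namespace Cfsg.Agent.S5332

variable {Ω : Type*} [Group Ω] {S : Subgroup Ω}

/-- the subgroups of `S` form a finite type -/
theorem finite_subgroups_le [Finite S] : Finite {P : Subgroup Ω // P ≤ S} := by
  refine Finite.of_injective (fun P : {P : Subgroup Ω // P ≤ S} => ({s : S | (s : Ω) ∈ P.1} : Set S)) ?_
  intro P Q hPQ
  apply Subtype.ext
  ext x
  constructor
  · intro hx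
    have h1 : (⟨x, P.2 hx⟩ : S) ∈ ({s : S | (s : Ω) ∈ P.1} : Set S) := hx
    have h2 : (⟨x, P.2 hx⟩ : S) ∈ ({s : S | (s : Ω) ∈ Q.1} : Set S) := by
      have h3 : ({s : S | (s : Ω) ∈ P.1} : Set S) = {s : S | (s : Ω) ∈ Q.1} := hPQ
      rw [← h3]
      exact h1
    exact h2
  · intro hx
    have h1 : (⟨x, Q.2 hx⟩ : S) ∈ ({s : S | (s : Ω) ∈ Q.1} : Set S) := hx
    have h2 : (⟨x, Q.2 hx⟩ : S) ∈ ({s : S | (s : Ω) ∈ P.1} : Set S) := by
      have h3 : ({s : S | (s : Ω) ∈ P.1} : Set S) = {s : S | (s : Ω) ∈ Q.1} := hPQ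
      rw [h3]
      exact h1
    exact h2

/-- the maps of a system with a given source form a finite set -/
theorem finite_hom [Finite S] (F : FusionSystem S) (P : Subgroup Ω) : Finite (F.Hom P) := by
  by_cases hP : P ≤ S
  · have : Finite P := Finite.of_injective (Subgroup.inclusion hP) (Subgroup.inclusion_injective hP)
    refine Finite.of_injective (fun φ : F.Hom P => fun x : P => (⟨φ.1 x, (F.le_of_mem φ.2).2 x⟩ : S)) ?_
    intro φ ψ h
    apply Subtype.ext
    ext x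
    have := congrFun h x
    exact congrArg Subtype.val this
  · have : IsEmpty (F.Hom P) := ⟨fun φ => hP (F.le_of_mem φ.2).1⟩
    infer_instance

/-- the graph of a subsystem inside the graph of `F` -/
def graph (F E : FusionSystem S) : Set (Σ P : {P : Subgroup Ω // P ≤ S}, F.Hom P.1) :=
  {x | x.2.1 ∈ E.Hom x.1.1}

theorem finite_sigma [Finite S] (F : FusionSystem S) :
    Finite (Σ P : {P : Subgroup Ω // P ≤ S}, F.Hom P.1) := by
  have := finite_subgroups_le (S := S)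
  have : ∀ P : {P : Subgroup Ω // P ≤ S}, Finite (F.Hom P.1) := fun P => finite_hom F P.1
  infer_instance

theorem ncard_graph_lt [Finite S] (F E E' : FusionSystem S) (hEF : E.IsSubsystemOf F)
    (hE'E : E'.IsSubsystemOf E) (hne : ¬ ∀ P : Subgroup Ω, E'.Hom P = E.Hom P) :
    (graph F E').ncard < (graph F E).ncard := by
  have := finite_sigma F
  apply Set.ncard_lt_ncard _ (Set.toFinite _)
  refine ⟨fun x hx => hE'E _ hx, fun hsub => hne fun P => ?_⟩
  apply Set.Subset.antisymm (hE'E P)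
  intro φ hφ
  have hPS : P ≤ S := (E.le_of_mem hφ).1
  exact hsub (show (⟨⟨P, hPS⟩, ⟨φ, hEF P hφ⟩⟩ : Σ P : {P : Subgroup Ω // P ≤ S}, F.Hom P.1) ∈ graph F E from hφ)

/-- a minimal non-inner saturated subsystem -/
theorem exists_sparse [Finite S] (p : ℕ) (F : FusionSystem S) :
    ∀ (n : ℕ) (E : FusionSystem S), (graph F E).ncard = n → E.IsSubsystemOf F → E.IsSaturated p →
      ¬ (∀ P : Subgroup Ω, E.Hom P = (innerFusionSystem S).Hom P) →
      ∃ E₀ : FusionSystem S, E₀.IsSubsystemOf F ∧ E₀.IsSaturated p ∧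
        ¬ (∀ P : Subgroup Ω, E₀.Hom P = (innerFusionSystem S).Hom P) ∧
        ∀ E' : FusionSystem S, E'.IsSaturated p → E'.IsSubsystemOf E₀ →
          (∀ P : Subgroup Ω, E'.Hom P = E₀.Hom P) ∨ (∀ P : Subgroup Ω, E'.Hom P = (innerFusionSystem S).Hom P) := by
  intro n
  induction n using Nat.strong_induction_on with
  | _ n ih =>
    intro E hn hEF hEsat hEni
    by_cases hsp : ∀ E' : FusionSystem S, E'.IsSaturated p → E'.IsSubsystemOf E →
        (∀ P : Subgroup Ω, E'.Hom P = E.Hom P) ∨ (∀ P : Subgroup Ω, E'.Hom P = (innerFusionSystem S).Hom P)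
    · exact ⟨E, hEF, hEsat, hEni, hsp⟩
    · push Not at hsp
      obtain ⟨E', hE'sat, hE'E, hne, hE'ni⟩ := hsp
      have hE'F : E'.IsSubsystemOf F := fun P => (hE'E P).trans (hEF P)
      have hne' : ¬ ∀ P : Subgroup Ω, E'.Hom P = E.Hom P := by
        obtain ⟨P, hP⟩ := hne
        exact fun h => hP (h P)
      have hE'ni' : ¬ ∀ P : Subgroup Ω, E'.Hom P = (innerFusionSystem S).Hom P := by
        obtain ⟨P, hP⟩ := hE'ni
        exact fun h => hP (h P)
      have hlt := ncard_graph_lt F E E' hEF hE'E hne'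
      rw [hn] at hlt
      exact ih _ hlt E' rfl hE'F hE'sat hE'ni'

theorem result {Ω : Type*} [Group Ω] {S : Subgroup Ω} [Finite S] (p : ℕ) [Fact p.Prime] (hS : IsPGroup p S) (F : Cfsg.FusionSystem S) (hF : F.IsSaturated p) (hp : p ≠ 2) (hne : ∃ P : Subgroup Ω, F.Hom P ≠ (Cfsg.innerFusionSystem S).Hom P) : ∃ E : Cfsg.FusionSystem S, E ≤ F ∧ E.IsConstrained p ∧ ∃ P : Subgroup Ω, E.Hom P ≠ (Cfsg.innerFusionSystem S).Hom P := by
  have hni : ¬ (∀ P : Subgroup Ω, F.Hom P = (innerFusionSystem S).Hom P) := by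
    obtain ⟨P, hP⟩ := hne
    exact fun h => hP (h P)
  obtain ⟨E₀, hE₀F, hE₀sat, hE₀ni, hsp⟩ := exists_sparse p F _ F rfl (fun P => le_rfl) hF hni
  refine ⟨E₀, hE₀F, Cfsg.Agent.S5221.result p hS E₀ hE₀sat ⟨hE₀ni, hsp⟩ (Or.inl hp), ?_⟩
  by_contra hcon
  push Not at hcon
  exact hE₀ni hcon

end Cfsg.Agent.S5332
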