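import Cfsg.Statements.S5333
import Cfsg.Agent.Lib.Helper88_Receptive

set_option autoImplicit false
open Cfsg

namespace Cfsg.Agent.S5333

open Cfsg.FusionSystem Cfsg.Agent.Lib.Helper87_Alperin Cfsg.Agent.Lib.Helper88_Centric
  Cfsg.Agent.Lib.Helper88_Centric2 Cfsg.Agent.Lib.Helper88_Receptive

/-- A nontrivial finite `p`-group has a central element of order `p`. -/
theorem exists_central_orderOf_eq {G : Type*} [Group G] [Finite G] {p : ℕ} [Fact p.Prime] (hG : IsPGroup p G)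
    [Nontrivial G] : ∃ z : G, z ∈ Subgroup.center G ∧ orderOf z = p := by
  have hcn : Nontrivial (Subgroup.center G) := hG.center_nontrivial
  have hcp : IsPGroup p (Subgroup.center G) := hG.to_subgroup _
  obtain ⟨n, hn, hcard⟩ := (hcp.nontrivial_iff_card).1 hcn
  have hdvd : p ∣ Nat.card (Subgroup.center G) := by
    rw [hcard]
    exact dvd_pow_self p (Nat.pos_iff_ne_zero.1 hn)
  obtain ⟨z, hz⟩ := exists_prime_orderOf_dvd_card' p hdvd
  exact ⟨z, z.2, by rw [← hz, Subgroup.orderOf_coe]⟩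

/-- The key step, at the level of functions. -/
theorem isMapOn_of_centralizers {Ω : Type*} [Group Ω] {S : Subgroup Ω} [Finite S] {p : ℕ} [Fact p.Prime]
    (hS : IsPGroup p S) {F F' : Cfsg.FusionSystem S} (hF' : F'.IsSaturated p) (hle : F' ≤ F)
    (hZ : ∀ Z : Subgroup Ω, Z ≤ S → Nat.card Z = p → F'.IsFullyCentralized Z →
      F.Hom Z = F'.Hom Z ∧ ∀ P : Subgroup Ω, F.centralizerHom Z P = F'.centralizerHom Z P)
    {P : Subgroup Ω} {f : Ω → Ω} (hf : IsMapOn F P f) : IsMapOn F' P f := by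
  have hle' : ∀ P : Subgroup Ω, F'.Hom P ⊆ F.Hom P := hle
  have hPS : P ≤ S := hf.le
  have hfinP : Finite P := Finite.of_injective (Subgroup.inclusion hPS) (Subgroup.inclusion_injective hPS)
  by_cases hbot : P = ⊥
  · subst hbot
    refine (IsMapOn.id F' bot_le).congr ?_
    intro x hx
    rw [Subgroup.mem_bot] at hx
    subst hx
    exact hf.map_one.symm
  have hPp : IsPGroup p P := hS.to_le hPS
  have : Nontrivial P := (Subgroup.nontrivial_iff_ne_bot P).2 hbot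
  obtain ⟨z, hzc, hzo⟩ := exists_central_orderOf_eq hPp
  -- the subgroup `Z` of order `p` in the centre of `P`
  set Z : Subgroup Ω := Subgroup.zpowers (z : Ω) with hZdef
  have hZP : Z ≤ P := by
    rw [hZdef, Subgroup.zpowers_le]
    exact z.2
  have hZS : Z ≤ S := hZP.trans hPS
  have hzcomm : ∀ y ∈ P, (z : Ω) * y = y * (z : Ω) := by
    intro y hy
    have := (Subgroup.mem_center_iff.1 hzc) ⟨y, hy⟩
    exact (congrArg Subtype.val this).symm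
  have hZc : ∀ x ∈ Z, ∀ y ∈ P, x * y = y * x := by
    intro x hx y hy
    obtain ⟨k, rfl⟩ := Subgroup.mem_zpowers_iff.1 hx
    exact ((Commute.zpow_left (hzcomm y hy) k)).eq
  have hZcard : Nat.card Z = p := by
    rw [hZdef, Nat.card_zpowers, Subgroup.orderOf_coe, hzo]
  -- a fully centralized conjugate `Z'` of `Z` in `F'`
  obtain ⟨Z', hZZ', hZ'fc⟩ := Cfsg.Agent.Lib.Helper84_FusionRS.exists_isFullyCentralized_conj F' hZS
  obtain ⟨ψ, hψ, hψi⟩ := exists_isMapOn_of_isConj hZZ'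
  have hZ'S : Z' ≤ S := hZ'fc.1
  have hZ'card : Nat.card Z' = p := by rw [← card_eq_of_isImage hψ hψi, hZcard]
  obtain ⟨hHom, hCen⟩ := hZ Z' hZ'S hZ'card hZ'fc
  have hZ'r : F'.IsReceptive Z' := Cfsg.Agent.Lib.Helper84_FusionRS.IsSaturated.isReceptive hS hF' hZ'fc
  obtain ⟨ψ1, hψ1, hψ1ext⟩ := exists_extension_centralizerIn hZ'r hψ hψi
  have hPC : P ≤ Z ⊔ centralizerIn S Z := by
    intro x hx
    refine (le_sup_right : centralizerIn S Z ≤ Z ⊔ centralizerIn S Z) ?_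
    rw [mem_centralizerIn_iff]
    exact ⟨hPS hx, fun y hy => hZc y hy x hx⟩
  have hZC : Z ≤ Z ⊔ centralizerIn S Z := le_sup_left
  -- images under `f`
  obtain ⟨Z₂, hZ₂, -⟩ := exists_isImage (hf.mono hZP)
  obtain ⟨P', hP', -⟩ := exists_isImage hf
  have hZ₂P' : Z₂ ≤ P' := IsImage.mono hP' hZ₂ hZP
  have hP'S : P' ≤ S := hP'.le hf
  have hZ₂c : ∀ x ∈ Z₂, ∀ y ∈ P', x * y = y * x := by
    intro x hx y hy
    obtain ⟨x0, hx0, rfl⟩ := (hZ₂ x).1 hx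
    obtain ⟨y0, hy0, rfl⟩ := (hP' y).1 hy
    exact IsMapOn.map_comm hf (hZP hx0) hy0 (hZc x0 hx0 y0 hy0)
  -- the inverse of `ψ`
  obtain ⟨ψi, hψi', hψiψ, hψiZ, hψψi⟩ := hψ.inv hψi
  -- `k = f ∘ ψ⁻¹ : Z' → Z₂` is a map of `F`, hence of `F'`
  have hkF : IsMapOn F Z' (f ∘ ψi) := (isMapOn_of_le hle' hψi').comp (hf.mono hZP) hψiZ
  have hk : IsMapOn F' Z' (f ∘ ψi) := by
    obtain ⟨φ, hφ, h⟩ := hkF
    exact ⟨φ, hHom ▸ hφ, h⟩
  have hkimg : IsImage Z' (f ∘ ψi) Z₂ := by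
    intro y
    rw [hZ₂ y]
    constructor
    · rintro ⟨x, hx, rfl⟩
      exact ⟨ψ x, hψi.mem hx, by rw [Function.comp_apply, hψiψ x hx]⟩
    · rintro ⟨w, hw, rfl⟩
      exact ⟨ψi w, hψiZ w hw, rfl⟩
  obtain ⟨ψ₂, hψ₂, hψ₂k, hψ₂Z, hkψ₂⟩ := hk.inv hkimg
  have hψ₂img : IsImage Z₂ ψ₂ Z' := by
    intro w
    constructor
    · intro hw
      exact ⟨(f ∘ ψi) w, hkimg.mem hw, hψ₂k w hw⟩
    · rintro ⟨y, hy, rfl⟩
      exact hψ₂Z y hy
  have hψ₂f : ∀ x ∈ Z, ψ₂ (f x) = ψ x := by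
    intro x hx
    have h1 := hψ₂k (ψ x) (hψi.mem hx)
    rw [Function.comp_apply, hψiψ x hx] at h1
    exact h1
  obtain ⟨ψ3, hψ3, hψ3ext⟩ := exists_extension_centralizerIn hZ'r hψ₂ hψ₂img
  have hP'C : P' ≤ Z₂ ⊔ centralizerIn S Z₂ := by
    intro x hx
    refine (le_sup_right : centralizerIn S Z₂ ≤ Z₂ ⊔ centralizerIn S Z₂) ?_
    rw [mem_centralizerIn_iff]
    exact ⟨hP'S hx, fun y hy => hZ₂c y hy x hx⟩
  have hZ₂C : Z₂ ≤ Z₂ ⊔ centralizerIn S Z₂ := le_sup_left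
  -- the maps `a = ψ1|P` and `b = ψ3|P'` with their inverses
  have ha : IsMapOn F' P ψ1 := hψ1.mono hPC
  have hb : IsMapOn F' P' ψ3 := hψ3.mono hP'C
  obtain ⟨P₁, hP₁, -⟩ := exists_isImage ha
  obtain ⟨P₂, hP₂, -⟩ := exists_isImage hb
  obtain ⟨a', ha', ha'a, ha'P, haa'⟩ := ha.inv hP₁
  obtain ⟨b', hb', hb'b, hb'P, hbb'⟩ := hb.inv hP₂
  have hP₁S : P₁ ≤ S := hP₁.le ha
  -- `h = ψ3 ∘ f ∘ a'` on `P₁`
  have hh : IsMapOn F P₁ (ψ3 ∘ (f ∘ a')) :=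
    ((isMapOn_of_le hle' ha').comp hf ha'P).comp (isMapOn_of_le hle' hb) (fun x hx => hP'.mem (ha'P x hx))
  have hZ'P₁ : Z' ≤ P₁ := by
    intro w hw
    obtain ⟨x, hx, rfl⟩ := (hψi w).1 hw
    rw [← hψ1ext x hx]
    exact hP₁.mem (hZP hx)
  have hhfix : ∀ w ∈ Z', (ψ3 ∘ (f ∘ a')) w = w := by
    intro w hw
    obtain ⟨x, hx, rfl⟩ := (hψi w).1 hw
    have h1 : a' (ψ x) = x := by
      rw [← hψ1ext x hx]
      exact ha'a x (hZP hx)
    show ψ3 (f (a' (ψ x))) = ψ x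
    rw [h1, hψ3ext (f x) (hZ₂.mem hx), hψ₂f x hx]
  have hh' : IsMapOn F' P₁ (ψ3 ∘ (f ∘ a')) := by
    obtain ⟨χ, hχ, hχh⟩ := hh
    have hmem : χ ∈ F.centralizerHom Z' P₁ := by
      refine ⟨hχ, ?_, ?_, ?_⟩
      · intro y hy
        obtain ⟨x, hx, rfl⟩ := (hP₁ y).1 hy
        rw [mem_centralizerIn_iff]
        refine ⟨ha.mem hx, fun w hw => ?_⟩
        obtain ⟨x0, hx0, rfl⟩ := (hψi w).1 hw
        rw [← hψ1ext x0 hx0]
        exact IsMapOn.map_comm hψ1 (hZC hx0) (hPC hx) (hZc x0 hx0 x hx)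
      · intro y
        rw [hχh y, mem_centralizerIn_iff]
        have hy' : f (a' y) ∈ P' := hP'.mem (ha'P y y.2)
        refine ⟨hb.mem hy', fun w hw => ?_⟩
        obtain ⟨y0, hy0, rfl⟩ := (hψ₂img w).1 hw
        rw [← hψ3ext y0 hy0]
        exact IsMapOn.map_comm hψ3 (hZ₂C hy0) (hP'C hy') (hZ₂c y0 hy0 _ hy')
      · have hsup : P₁ ⊔ Z' ≤ P₁ := sup_le le_rfl hZ'P₁
        refine ⟨χ.comp (Subgroup.inclusion hsup), restrict_mem F hχ hsup, fun x => rfl, fun w => ?_⟩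
        show χ ⟨(w : Ω), hZ'P₁ w.2⟩ = w
        rw [hχh]
        exact hhfix w w.2
    rw [hCen P₁] at hmem
    exact ⟨χ, hmem.1, hχh⟩
  -- reassemble `f = b' ∘ h ∘ ψ1`
  have hfin : IsMapOn F' P (b' ∘ ((ψ3 ∘ (f ∘ a')) ∘ ψ1)) := by
    refine (ha.comp hh' (fun x hx => hP₁.mem hx)).comp hb' (fun x hx => ?_)
    exact hP₂.mem (hP'.mem (ha'P _ (hP₁.mem hx)))
  refine hfin.congr (fun x hx => ?_)
  show b' (ψ3 (f (a' (ψ1 x)))) = f x
  rw [ha'a x hx, hb'b (f x) (hP'.mem hx)]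

/-- Let F′ ≤ F be saturated fusion systems over the same finite p-group S. Suppose that for every subgroup Z ≤ S of order p that is fully centralized in F′, the maps of F and of F′ with source Z coincide and the centralizer systems C_F(Z) and C_{F′}(Z) coincide. Then F = F′. -/
theorem result {Ω : Type*} [Group Ω] {S : Subgroup Ω} [Finite S] (p : ℕ) [Fact p.Prime] (hS : IsPGroup p S) (F : Cfsg.FusionSystem S) (hF : F.IsSaturated p) (F' : Cfsg.FusionSystem S) (hF' : F'.IsSaturated p) (hle : F' ≤ F) (hZ : ∀ Z : Subgroup Ω, Z ≤ S → Nat.card Z = p → F'.IsFullyCentralized Z → F.Hom Z = F'.Hom Z ∧ ∀ (C C' : Cfsg.FusionSystem (Cfsg.FusionSystem.centralizerIn S Z)), F.IsCentralizerSystem Z C → F'.IsCentralizerSystem Z C' → ∀ P : Subgroup Ω, C.Hom P = C'.Hom P) (P : Subgroup Ω) : F.Hom P = F'.Hom P := by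
  apply Set.Subset.antisymm _ (hle P)
  intro φ hφ
  rw [mem_hom_iff_isMapOn]
  refine isMapOn_of_centralizers hS hF' hle ?_ (isMapOn_extHom F hφ)
  intro Z hZS hc hfc
  obtain ⟨h1, h2⟩ := hZ Z hZS hc hfc
  refine ⟨h1, fun P => ?_⟩
  exact h2 (Cfsg.Agent.Lib.Helper85_Fusion.centralizerSystem F Z hZS)
    (Cfsg.Agent.Lib.Helper85_Fusion.centralizerSystem F' Z hZS)
    (Cfsg.Agent.Lib.Helper85_Fusion.centralizerSystem_isCentralizerSystem F Z hZS)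
    (Cfsg.Agent.Lib.Helper85_Fusion.centralizerSystem_isCentralizerSystem F' Z hZS) P

end Cfsg.Agent.S5333
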