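import Cfsg.Statements.S5334
import Cfsg.Agent.Lib.Helper88_Centric

set_option autoImplicit false
open Cfsg

namespace Cfsg.Agent.S5334

open Cfsg.FusionSystem Cfsg.Agent.Lib.Helper87_Alperin Cfsg.Agent.Lib.Helper88_Centric

/-- Let F′ ≤ F be saturated fusion systems over the same finite p-group S, let Q and R be F-centric subgroups, φ a map of F with source Q and values in R, and ψ a map of F with source R. If two of φ, ψ and the composite ψ ∘ φ are maps of F′ then so is the third. -/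
theorem result {Ω : Type*} [Group Ω] {S : Subgroup Ω} [Finite S] (p : ℕ) [Fact p.Prime] (hS : IsPGroup p S) (F : Cfsg.FusionSystem S) (hF : F.IsSaturated p) (F' : Cfsg.FusionSystem S) (hF' : F'.IsSaturated p) (hle : F' ≤ F) (Q R : Subgroup Ω) (hQ : F.IsCentric Q) (hR : F.IsCentric R) (φ : ↥Q →* Ω) (hφ : φ ∈ F.Hom Q) (hφR : ∀ x : Q, φ x ∈ R) (ψ : ↥R →* Ω) (hψ : ψ ∈ F.Hom R) : (φ ∈ F'.Hom Q → ψ ∈ F'.Hom R → ψ.comp (φ.codRestrict R hφR) ∈ F'.Hom Q) ∧ (ψ ∈ F'.Hom R → ψ.comp (φ.codRestrict R hφR) ∈ F'.Hom Q → φ ∈ F'.Hom Q) ∧ (φ ∈ F'.Hom Q → ψ.comp (φ.codRestrict R hφR) ∈ F'.Hom Q → ψ ∈ F'.Hom R) := by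
  have hle' : ∀ P : Subgroup Ω, F'.Hom P ⊆ F.Hom P := hle
  have hfR : ∀ x ∈ Q, extHom φ x ∈ R := fun x hx => by
    rw [extHom_apply φ hx]
    exact hφR _
  -- the composite, as a function
  have hcomp : ∀ x : Q, (ψ.comp (φ.codRestrict R hφR)) x = (extHom ψ ∘ extHom φ) x := by
    intro x
    show ψ ⟨φ x, hφR x⟩ = extHom ψ (extHom φ x)
    rw [extHom_coe φ x, extHom_apply ψ (hφR x)]
  have hcompmap : ψ.comp (φ.codRestrict R hφR) ∈ F'.Hom Q → IsMapOn F' Q (extHom ψ ∘ extHom φ) :=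
    fun h => ⟨_, h, hcomp⟩
  refine ⟨fun h1 h2 => F'.comp_mem h1 h2 hφR, ?_, ?_⟩
  · intro h2 h3
    have hg : IsMapOn F' R (extHom ψ) := isMapOn_extHom F' h2
    have hgf := hcompmap h3
    obtain ⟨R2, hR2, -⟩ := exists_isImage hg
    obtain ⟨g', hg', hg'g, -, -⟩ := hg.inv hR2
    rw [mem_hom_iff_isMapOn]
    refine (hgf.comp hg' (fun x hx => hR2.mem (hfR x hx))).congr ?_
    intro x hx
    exact hg'g _ (hfR x hx)
  · intro h1 h3
    have hf : IsMapOn F' Q (extHom φ) := isMapOn_extHom F' h1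
    have hgf := hcompmap h3
    obtain ⟨Q2, hQ2, -⟩ := exists_isImage hf
    obtain ⟨f', hf', -, hf'Q, hff'⟩ := hf.inv hQ2
    have hQ2R : Q2 ≤ R := by
      intro y hy
      obtain ⟨x, hx, rfl⟩ := (hQ2 y).1 hy
      exact hfR x hx
    have hgQ2 : IsMapOn F' Q2 (extHom ψ) := by
      refine (hf'.comp hgf hf'Q).congr ?_
      intro y hy
      show extHom ψ (extHom φ (f' y)) = extHom ψ y
      rw [hff' y hy]
    have hQ2c : F.IsCentric Q2 :=
      isCentric_of_isConj hQ (isConj_of_isImage (isMapOn_of_le hle' hf) hQ2)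
    rw [mem_hom_iff_isMapOn]
    exact isMapOn_of_restrict_centric hS hF hF' hle' _ rfl hQ2R hQ2c (isMapOn_extHom F hψ) hgQ2

end Cfsg.Agent.S5334
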