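import Cfsg.Statements.S5335
import Cfsg.Agent.S5078
import Cfsg.Agent.Lib.Helper88_Centric2

set_option autoImplicit false
open Cfsg

namespace Cfsg.Agent.S5335

open Cfsg.FusionSystem Cfsg.Agent.Lib.Helper87_Alperin Cfsg.Agent.Lib.Helper88_Centric
  Cfsg.Agent.Lib.Helper88_Centric2

/-- Let F′ ≤ F be saturated fusion systems over the same finite p-group S. If the maps of F and of F′ with source Q coincide for every F-centric subgroup Q that is minimal among F-centric subgroups, then F = F′. -/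
theorem result {Ω : Type*} [Group Ω] {S : Subgroup Ω} [Finite S] (p : ℕ) [Fact p.Prime] (hS : IsPGroup p S) (F : Cfsg.FusionSystem S) (hF : F.IsSaturated p) (F' : Cfsg.FusionSystem S) (hF' : F'.IsSaturated p) (hle : F' ≤ F) (hmin : ∀ Q : Subgroup Ω, F.IsCentric Q → (∀ R : Subgroup Ω, R < Q → ¬ F.IsCentric R) → F.Hom Q = F'.Hom Q) (P : Subgroup Ω) : F.Hom P = F'.Hom P := by
  have hle' : ∀ P : Subgroup Ω, F'.Hom P ⊆ F.Hom P := hle
  refine Set.Subset.antisymm ?_ (hle' P)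
  refine weak_alperin F hS hF F' ?_ P
  intro Q _ hQr α hα
  have hQS : Q ≤ S := hQr.1
  have hφ : Q.subtype.comp (α : MulAut Q).toMonoidHom ∈ F.Hom Q := (mem_autGroup_iff' F hQS α).1 hα
  have hr : (Q.subtype.comp (α : MulAut Q).toMonoidHom).range = Q := by
    ext y
    constructor
    · rintro ⟨x, rfl⟩
      exact (α x).2
    · intro hy
      exact ⟨α⁻¹ ⟨y, hy⟩, by
        show ((α (α⁻¹ ⟨y, hy⟩) : Q) : Ω) = y
        rw [MulAut.apply_inv_self]⟩
  obtain ⟨f, hf, hfφ⟩ := exists_extension_sup_centralizerIn hQr hφ hr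
  have hDc : F.IsCentric (Q ⊔ centralizerIn S Q) :=
    isCentric_sup_centralizerIn (Cfsg.Agent.S5078.result F Q hQr)
  obtain ⟨M, hMD, hMc, hMmin⟩ := exists_minimal_centric hDc
  have hfM : IsMapOn F' M f := by
    obtain ⟨ψ, hψ, hψf⟩ := hf.mono hMD
    rw [hmin M hMc hMmin] at hψ
    exact ⟨ψ, hψ, hψf⟩
  have hfD : IsMapOn F' (Q ⊔ centralizerIn S Q) f :=
    isMapOn_of_restrict_centric hS hF hF' hle' _ rfl hMD hMc hf hfM
  rw [mem_hom_iff_isMapOn]
  refine (hfD.mono (le_sup_left : Q ≤ Q ⊔ centralizerIn S Q)).congr ?_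
  intro x hx
  rw [hfφ ⟨x, hx⟩, extHom_apply _ hx]

end Cfsg.Agent.S5335
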