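import Cfsg.Statements.S5336
import Cfsg.Agent.S5118

set_option autoImplicit false
open Cfsg

namespace Cfsg.Agent.S5336

/-- A normal subgroup meeting a Sylow `p`-subgroup trivially has order prime to `p`. -/
theorem coprime_card_of_inf_eq_bot {G : Type*} [Group G] [Finite G] (p : ℕ) [Fact p.Prime] (S : Sylow p G)
    (N : Subgroup G) [N.Normal] (h : (S : Subgroup G) ⊓ N = ⊥) : (Nat.card N).Coprime p := by
  rw [Nat.coprime_comm, Nat.Prime.coprime_iff_not_dvd Fact.out]
  intro hdvd
  obtain ⟨x, hx⟩ := exists_prime_orderOf_dvd_card' (G := N) p hdvd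
  have hxG : orderOf (x : G) = p := by rw [Subgroup.orderOf_coe]; exact hx
  have hB : IsPGroup p (Subgroup.zpowers (x : G)) :=
    IsPGroup.of_card (n := 1) (by rw [Nat.card_zpowers, hxG, pow_one])
  obtain ⟨S', hS'⟩ := hB.exists_le_sylow
  obtain ⟨g, hg⟩ := MulAction.exists_smul_eq G S' S
  have h1 : (x : G) ∈ (S' : Subgroup G) := hS' (Subgroup.mem_zpowers _)
  have h2 : g * (x : G) * g⁻¹ ∈ (S : Subgroup G) := by
    rw [← hg, Sylow.coe_subgroup_smul, Subgroup.pointwise_smul_def]
    exact ⟨(x : G), h1, rfl⟩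
  have h3 : g * (x : G) * g⁻¹ ∈ N := ‹N.Normal›.conj_mem _ x.2 g
  have h4 : g * (x : G) * g⁻¹ ∈ (S : Subgroup G) ⊓ N := ⟨h2, h3⟩
  rw [h, Subgroup.mem_bot] at h4
  have h5 : (x : G) = 1 := by
    have : (x : G) = g⁻¹ * (g * (x : G) * g⁻¹) * g := by group
    rw [this, h4]
    group
  rw [h5, orderOf_one] at hxG
  exact (Fact.out : p.Prime).one_lt.ne hxG

/-- The statement, assuming that the fusion system of a normal subgroup is a normal subsystem (S5118). -/
theorem result_of_normal {G : Type*} [Group G] [Finite G] (p : ℕ) [Fact p.Prime] (S : Sylow p G)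
    (h5118 : ∀ (H : Subgroup G) [H.Normal], (Cfsg.fusionSystemOfSubgroup H ((S : Subgroup G) ⊓ H)
      inf_le_right).IsNormalIn (Cfsg.groupFusionSystem (S : Subgroup G)) p)
    (hsimple : (Cfsg.groupFusionSystem (S : Subgroup G)).IsSimple p) (hcore : Cfsg.pPrimeCore p G = ⊥)
    (hmin : ∀ (H : Subgroup G) (hSH : (S : Subgroup G) ≤ H), H ≠ ⊤ → ∃ P : Subgroup G,
      (Cfsg.fusionSystemOfSubgroup H (S : Subgroup G) hSH).Hom P ≠
        (Cfsg.groupFusionSystem (S : Subgroup G)).Hom P) : IsSimpleGroup G := by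
  obtain ⟨-, hSne, hnorm⟩ := hsimple
  have hnt : Nontrivial G := by
    by_contra hcon
    rw [not_nontrivial_iff_subsingleton] at hcon
    apply hSne
    rw [eq_bot_iff]
    intro x _
    rw [Subgroup.mem_bot]
    exact Subsingleton.elim x 1
  refine ⟨fun N hN => ?_⟩
  rcases hnorm _ _ (h5118 N) with h | ⟨h1, h2⟩
  · left
    have hcop := coprime_card_of_inf_eq_bot p S N h
    have hle : N ≤ Cfsg.pPrimeCore p G := le_sSup ⟨hN, hcop⟩
    rw [hcore] at hle
    exact le_bot_iff.1 hle
  · right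
    by_contra hne
    have hSN : (S : Subgroup G) ≤ N := inf_eq_left.1 h1
    obtain ⟨P, hP⟩ := hmin N hSN hne
    apply hP
    rw [← h2 P]
    ext φ
    show (P ≤ (S : Subgroup G) ∧ _) ↔ (P ≤ (S : Subgroup G) ⊓ N ∧ _)
    rw [h1]

/-- Let G be a finite group with Sylow p-subgroup S whose fusion system F_S(G) is simple. If G has no nontrivial normal subgroup of order prime to p and no proper subgroup H containing S induces the same fusion system on S as G does, then G is a simple group. -/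
theorem result {G : Type*} [Group G] [Finite G] (p : ℕ) [Fact p.Prime] (S : Sylow p G) (hsimple : (Cfsg.groupFusionSystem (S : Subgroup G)).IsSimple p) (hcore : Cfsg.pPrimeCore p G = ⊥) (hmin : ∀ (H : Subgroup G) (hSH : (S : Subgroup G) ≤ H), H ≠ ⊤ → ∃ P : Subgroup G, (Cfsg.fusionSystemOfSubgroup H (S : Subgroup G) hSH).Hom P ≠ (Cfsg.groupFusionSystem (S : Subgroup G)).Hom P) : IsSimpleGroup G := by
  exact result_of_normal p S (fun H _ => Cfsg.Agent.S5118.result p S H) hsimple hcore hmin

end Cfsg.Agent.S5336
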