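import Cfsg.Statements.S5338
import Cfsg.Agent.Lib.Helper89_Fusion

set_option autoImplicit false
open Cfsg Cfsg.FusionSystem

namespace Cfsg.Agent.S5338

open Cfsg.Agent.Lib.Helper87_Alperin
open Cfsg.Agent.Lib.Helper89_Fusion

variable {Ω : Type*} [Group Ω] {S : Subgroup Ω}

/-- The conjugation invariance hypothesis makes `Aut_{F'}(Q)` invariant under conjugation by `Aut_F(Q)`. -/
theorem conj_mem_autGroup (F F' : FusionSystem S)
    (hinv : ∀ (Q : Subgroup Ω) (φ : ↥Q →* Ω), φ ∈ F.Hom Q → ∀ (R : Subgroup Ω) (hRQ : R ≤ Q) (ψ : ↥R →* Ω),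
      ψ ∈ F'.Hom R → ∀ (hψQ : ∀ x : R, ψ x ∈ Q), ∃ χ ∈ F'.Hom ((R.subgroupOf Q).map φ),
        ∀ (x : R) (hx : φ ⟨(x : Ω), hRQ x.2⟩ ∈ (R.subgroupOf Q).map φ),
          χ ⟨φ ⟨(x : Ω), hRQ x.2⟩, hx⟩ = φ ⟨ψ x, hψQ x⟩)
    {Q : Subgroup Ω} (hQS : Q ≤ S) (γ η : MulAut Q) (hγ : γ ∈ F.autGroup Q) (hη : η ∈ F'.autGroup Q) :
    γ * η * γ⁻¹ ∈ F'.autGroup Q := by
  have hφ : Q.subtype.comp γ.toMonoidHom ∈ F.Hom Q := (mem_autGroup_iff' F hQS γ).1 hγ
  have hψ : Q.subtype.comp η.toMonoidHom ∈ F'.Hom Q := (mem_autGroup_iff' F' hQS η).1 hη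
  have hψQ : ∀ x : Q, (Q.subtype.comp η.toMonoidHom) x ∈ Q := fun x => (η x).2
  obtain ⟨χ, hχ, hχeq⟩ := hinv Q _ hφ Q le_rfl _ hψ hψQ
  have hmap : (Q.subgroupOf Q).map (Q.subtype.comp γ.toMonoidHom) = Q := by
    ext y
    constructor
    · rintro ⟨x, -, rfl⟩
      exact (γ x).2
    · intro hy
      refine ⟨γ⁻¹ ⟨y, hy⟩, ?_, ?_⟩
      · exact Subgroup.mem_subgroupOf.2 (γ⁻¹ ⟨y, hy⟩).2
      · simp
  have h1 : IsMapOn F' ((Q.subgroupOf Q).map (Q.subtype.comp γ.toMonoidHom)) (extHom χ) :=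
    isMapOn_extHom F' hχ
  obtain ⟨f, hf⟩ : ∃ f : Ω → Ω, f = extHom χ := ⟨_, rfl⟩
  rw [← hf] at h1
  have hfval : ∀ x : Q, f ((γ x : Q) : Ω) = ((γ (η x) : Q) : Ω) := by
    intro x
    have hx : (Q.subtype.comp γ.toMonoidHom) ⟨(x : Ω), x.2⟩ ∈
        (Q.subgroupOf Q).map (Q.subtype.comp γ.toMonoidHom) :=
      ⟨x, Subgroup.mem_subgroupOf.2 x.2, rfl⟩
    have := hχeq x hx
    rw [hf, extHom_apply χ (show ((γ x : Q) : Ω) ∈ _ from hx)]
    exact this
  rw [hmap] at h1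
  rw [mem_autGroup_iff F' hQS]
  refine h1.congr fun y hy => ?_
  have hy' : y = ((γ (γ⁻¹ ⟨y, hy⟩) : Q) : Ω) := by simp
  rw [extFun_apply _ hy]
  conv_lhs => rw [hy']
  rw [hfval]
  rfl

/-- Let F be a saturated fusion system over a finite p-group S and F′ ≤ F a saturated subsystem over all of S that is invariant under F in the conjugation sense: for every map φ of F with source Q and every map ψ of F′ between subgroups R ≤ Q (with values in Q), the transported map φψφ⁻¹ defined on φ(R) is again a map of F′. If moreover Aut_{F′}(S) = Aut_F(S), then F′ = F. -/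
theorem result {Ω : Type*} [Group Ω] {S : Subgroup Ω} [Finite S] (p : ℕ) [Fact p.Prime] (hS : IsPGroup p S) (F : Cfsg.FusionSystem S) (hF : F.IsSaturated p) (F' : Cfsg.FusionSystem S) (hF' : F'.IsSaturated p) (hle : F' ≤ F) (hinv : ∀ (Q : Subgroup Ω) (φ : ↥Q →* Ω), φ ∈ F.Hom Q → ∀ (R : Subgroup Ω) (hRQ : R ≤ Q) (ψ : ↥R →* Ω), ψ ∈ F'.Hom R → ∀ (hψQ : ∀ x : R, ψ x ∈ Q), ∃ χ ∈ F'.Hom ((R.subgroupOf Q).map φ), ∀ (x : R) (hx : φ ⟨(x : Ω), hRQ x.2⟩ ∈ (R.subgroupOf Q).map φ), χ ⟨φ ⟨(x : Ω), hRQ x.2⟩, hx⟩ = φ ⟨ψ x, hψQ x⟩) (htop : F'.autGroup S = F.autGroup S) (P : Subgroup Ω) : F'.Hom P = F.Hom P := by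
  classical
  apply Set.Subset.antisymm (hle P)
  intro φ hφ
  rw [mem_hom_iff_isMapOn]
  refine weak_alperin_strong F hS hF F' ?_ P _ (isMapOn_extHom F hφ)
  intro Q hQa hQr hbig α hα
  have hQS : Q ≤ S := hQa.1
  have hfinQ : Finite Q := Finite.of_injective (Subgroup.inclusion hQS) (Subgroup.inclusion_injective hQS)
  by_cases hQeq : Q = S
  · subst hQeq
    rw [← htop] at hα
    exact (mem_autGroup_iff F' hQS α).1 hα
  · obtain ⟨_, R, hR⟩ := hQa
    have hfinA : Finite (F.autGroup Q) := inferInstance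
    -- the normal subgroup `N = Aut_{F'}(Q)` of `A = Aut_F(Q)`
    have hNnormal : ((F'.autGroup Q).subgroupOf (F.autGroup Q)).Normal := by
      constructor
      intro n hn g
      rw [Subgroup.mem_subgroupOf] at hn ⊢
      exact conj_mem_autGroup F F' hinv hQS g.1 n.1 g.2 hn
    have hRN : (R : Subgroup (F.autGroup Q)) ≤ (F'.autGroup Q).subgroupOf (F.autGroup Q) := by
      intro x hx
      rw [hR, Subgroup.mem_subgroupOf] at hx
      rw [Subgroup.mem_subgroupOf]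
      exact autInducedBy_le_autGroup F' hQS hx
    have hfrat := Sylow.normalizer_sup_eq_top' R hRN
    have hαtop : (⟨α, hα⟩ : F.autGroup Q) ∈ (⊤ : Subgroup (F.autGroup Q)) := Subgroup.mem_top _
    rw [← hfrat] at hαtop
    rw [← SetLike.mem_coe, Subgroup.mul_normal, Set.mem_mul] at hαtop
    obtain ⟨ν, hν, η, hη, hνη⟩ := hαtop
    have hαeq : α = (ν : MulAut Q) * (η : MulAut Q) := by
      have := congrArg Subtype.val hνη
      exact this.symm
    -- `η` is a map of `F'`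
    have hηmap : IsMapOn F' Q (extFun (η : MulAut Q)) :=
      (mem_autGroup_iff F' hQS _).1 (Subgroup.mem_subgroupOf.1 hη)
    -- `ν` extends to `N_S(Q)`, so is a map of `F'` by the inductive hypothesis
    have hνmap : IsMapOn F' Q (extFun (ν : MulAut Q)) := by
      have hφν : Q.subtype.comp (ν : MulAut Q).toMonoidHom ∈ F.Hom Q :=
        (mem_autGroup_iff' F hQS _).1 ν.2
      have hrange : (Q.subtype.comp (ν : MulAut Q).toMonoidHom).range = Q := by
        ext y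
        constructor
        · rintro ⟨x, rfl⟩
          exact ((ν : MulAut Q) x).2
        · intro hy
          exact ⟨(ν : MulAut Q)⁻¹ ⟨y, hy⟩, by simp⟩
      obtain ⟨ψ, hψ, hψQ⟩ := hQr.2 Q _ hφν hrange
      have hNle : normalizerIn S Q ≤ extender S Q (Q.subtype.comp (ν : MulAut Q).toMonoidHom) := by
        intro g hg
        apply Subgroup.subset_closure
        have hgN : g ∈ Subgroup.normalizer (Q : Set Ω) := normalizerIn_le_normalizer S Q hg
        have hgS : g ∈ S := normalizerIn_le S Q hg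
        -- the automorphism `c_g`
        let cg : MulAut Q := Subgroup.normalizerMonoidHom Q ⟨g, hgN⟩
        have hcg : ∀ x : Q, ((cg x : Q) : Ω) = g * x * g⁻¹ := fun x => rfl
        have hcgmem : cg ∈ autInducedBy S Q :=
          (mem_autInducedBy_iff S Q cg).2 ⟨g, hgS, hcg⟩
        have hcgA : cg ∈ F.autGroup Q := autInducedBy_le_autGroup F hQS hcgmem
        have hcgR : (⟨cg, hcgA⟩ : F.autGroup Q) ∈ (R : Subgroup (F.autGroup Q)) := by
          rw [hR, Subgroup.mem_subgroupOf]; exact hcgmem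
        have hconjR : ν * ⟨cg, hcgA⟩ * ν⁻¹ ∈ (R : Subgroup (F.autGroup Q)) :=
          (Subgroup.mem_normalizer_iff.mp hν _).mp hcgR
        rw [hR, Subgroup.mem_subgroupOf, mem_autInducedBy_iff] at hconjR
        obtain ⟨h, hhS, hh⟩ := hconjR
        refine ⟨hgS, hgN, h, hhS, ?_⟩
        intro x hx
        have h2 := hh ((ν : MulAut Q) x)
        simp only [Subgroup.coe_mul, Subgroup.coe_inv, MulAut.mul_apply, MulAut.inv_apply_self] at h2
        show (((ν : MulAut Q) ⟨g * x * g⁻¹, hx⟩ : Q) : Ω) = h * (((ν : MulAut Q) x : Q) : Ω) * h⁻¹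
        rw [← h2]
        congr 2
      have hlt : Q < normalizerIn S Q := lt_normalizerIn hS hQS hQeq
      have hfinN : Finite ↥(normalizerIn S Q) :=
        Finite.of_injective (Subgroup.inclusion (normalizerIn_le S Q)) (Subgroup.inclusion_injective _)
      have hcardlt : Nat.card Q < Nat.card ↥(normalizerIn S Q) := card_lt_of_lt hlt
      have h1 : IsMapOn F (normalizerIn S Q) (extHom ψ) := (isMapOn_extHom F hψ).mono hNle
      have h2 : IsMapOn F' (normalizerIn S Q) (extHom ψ) := hbig _ _ hcardlt h1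
      refine (h2.mono hlt.le).congr fun x hx => ?_
      have hxN : x ∈ extender S Q (Q.subtype.comp (ν : MulAut Q).toMonoidHom) := hNle (hlt.le hx)
      rw [extHom_apply ψ hxN, hψQ x hx hxN, extFun_apply _ hx]
      rfl
    rw [hαeq]
    refine (hηmap.comp hνmap fun x hx => extFun_mem _ hx).congr fun x hx => ?_
    rw [extFun_mul _ _ hx]
    rfl

end Cfsg.Agent.S5338
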