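import Cfsg.Statements.S5340

set_option autoImplicit false
open Cfsg

namespace Cfsg.Agent.S5340

/-- Let F be a saturated fusion system over a nontrivial finite p-group S such that S is generated by its elements of order p, any two subgroups of S of order p are F-conjugate, and Aut_F(S) consists of inner automorphisms only. Then F is simple. -/
theorem result {Ω : Type*} [Group Ω] {S : Subgroup Ω} [Finite S] (p : ℕ) [Fact p.Prime] (hS : IsPGroup p S) (F : Cfsg.FusionSystem S) (hF : F.IsSaturated p) (hS1 : S ≠ ⊥) (hgen : Subgroup.closure {x : Ω | x ∈ S ∧ orderOf x = p} = S) (htr : ∀ A B : Subgroup Ω, A ≤ S → B ≤ S → Nat.card A = p → Nat.card B = p → F.IsConj A B) (htop : F.autGroup S = Cfsg.Inn ↥S) : F.IsSimple p := by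
  have hp : p.Prime := Fact.out
  refine ⟨hF, hS1, ?_⟩
  intro T E hE
  obtain ⟨⟨hEsat, _, hsub, hTsc, hinv, hfrat⟩, hext⟩ := hE
  by_cases hT : T = ⊥
  · left; exact hT
  right
  have hTS : T ≤ S := hTsc.1
  -- T contains an element of order p
  have hTfin : Finite T := Finite.of_injective (Subgroup.inclusion hTS) (Subgroup.inclusion_injective hTS)
  have hTp : IsPGroup p T := hS.to_le hTS
  have hTnt : Nontrivial T := by
    rw [Subgroup.nontrivial_iff_ne_bot]; exact hT
  obtain ⟨n, hn⟩ := IsPGroup.iff_card.mp hTp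
  have hn0 : n ≠ 0 := by
    rintro rfl
    rw [pow_zero] at hn
    have := (Finite.one_lt_card_iff_nontrivial (α := T)).mpr hTnt
    omega
  have hdvd : p ∣ Nat.card T := by
    rw [hn]; exact dvd_pow_self p hn0
  obtain ⟨t, ht⟩ := exists_prime_orderOf_dvd_card' (G := T) p hdvd
  have htΩ : orderOf (t : Ω) = p := by
    rw [Subgroup.orderOf_coe]; exact ht
  have hAT : Subgroup.zpowers (t : Ω) ≤ T := by
    rw [Subgroup.zpowers_le]; exact t.2
  have hAcard : Nat.card (Subgroup.zpowers (t : Ω)) = p := by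
    rw [Nat.card_zpowers]; exact htΩ
  have hST : S ≤ T := by
    rw [← hgen, Subgroup.closure_le]
    rintro x ⟨hxS, hxo⟩
    have hBS : Subgroup.zpowers x ≤ S := by
      rw [Subgroup.zpowers_le]; exact hxS
    have hBcard : Nat.card (Subgroup.zpowers x) = p := by
      rw [Nat.card_zpowers]; exact hxo
    obtain ⟨φ, hφ, hrange⟩ := htr _ _ (hAT.trans hTS) hBS hAcard hBcard
    have hx : x ∈ φ.range := by
      rw [hrange]; exact Subgroup.mem_zpowers x
    obtain ⟨y, rfl⟩ := hx
    exact hTsc.2 _ hAT φ hφ y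
  have h : T = S := le_antisymm hTS hST
  refine ⟨h, ?_⟩
  subst h
  intro P
  apply Set.Subset.antisymm (hsub P)
  intro φ hφ
  have hPS : P ≤ T := (F.le_of_mem hφ).1
  obtain ⟨α, hα, φ₀, hφ₀, hcomp⟩ := hfrat P hPS φ hφ
  rw [htop] at hα
  obtain ⟨s, rfl⟩ := hα
  have hφ₀S : ∀ x : P, φ₀ x ∈ T := (E.le_of_mem hφ₀).2
  have := E.comp_mem hφ₀ (E.conj_mem (le_refl T) s.2) hφ₀S
  convert this using 1
  ext x
  rw [hcomp x (hφ₀S x)]
  rfl

end Cfsg.Agent.S5340
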