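import Cfsg.Statements.S5341
import Cfsg.Agent.Lib.Helper87_Alperin
import Cfsg.Agent.Lib.Helper84_Fusion

set_option autoImplicit false
open Cfsg Cfsg.FusionSystem

namespace Cfsg.Agent.S5341

open Cfsg.Agent.Lib.Helper87_Alperin (IsMapOn extFun extHom extHom_apply extHom_coe isMapOn_extHom
  extFun_apply extFun_mem extFun_apply_inv exists_extension hom_le hom_mem)

variable {Ω : Type*} [Group Ω] {S : Subgroup Ω}

/-- transfer of cardinalities along a map of the system, inside a strongly closed subgroup -/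
theorem card_le_of_map [Finite S] (F : FusionSystem S) (T : Subgroup Ω) (hT : F.StronglyClosed T)
    (Y : Subgroup Ω → Subgroup Ω) (P R : Subgroup Ω) (a : Ω → Ω) (ha : IsMapOn F (S ⊓ Y P) a)
    (haY : ∀ g ∈ S ⊓ Y P, a g ∈ Y R) :
    Nat.card ↥(T ⊓ Y P) ≤ Nat.card ↥(T ⊓ Y R) := by
  have hTS : T ≤ S := hT.1
  have hle : T ⊓ Y P ≤ S ⊓ Y P := inf_le_inf_right _ hTS
  have ha' : IsMapOn F (T ⊓ Y P) a := ha.mono hle
  obtain ⟨φ, hφ, hφa⟩ := ha'
  have hmemT : ∀ x : ↥(T ⊓ Y P), a x ∈ T := by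
    intro x
    rw [← hφa x]
    exact hT.2 (T ⊓ Y P) inf_le_left φ hφ x
  have hfin : Finite ↥(T ⊓ Y R) :=
    Finite.of_injective (Subgroup.inclusion ((inf_le_left : T ⊓ Y R ≤ T).trans hTS))
      (Subgroup.inclusion_injective _)
  apply Nat.card_le_card_of_injective
    (fun x : ↥(T ⊓ Y P) => (⟨a x, ⟨hmemT x, haY x (hle x.2)⟩⟩ : ↥(T ⊓ Y R)))
  intro x y hxy
  have h1 : a x = a y := congrArg Subtype.val hxy
  exact Subtype.ext (ha.injOn (hle x.2) (hle y.2) h1)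

/-- the reverse transfer, when the source is at least as large as the target -/
theorem card_le_of_map_rev [Finite S] (F : FusionSystem S) (T : Subgroup Ω) (hT : F.StronglyClosed T)
    (Y : Subgroup Ω → Subgroup Ω) (P R : Subgroup Ω) (a : Ω → Ω) (ha : IsMapOn F (S ⊓ Y P) a)
    (haY : ∀ g ∈ S ⊓ Y P, a g ∈ Y R)
    (hcard : Nat.card ↥(S ⊓ Y R) ≤ Nat.card ↥(S ⊓ Y P)) :
    Nat.card ↥(T ⊓ Y R) ≤ Nat.card ↥(T ⊓ Y P) := by
  have hfin : Finite ↥(S ⊓ Y R) :=
    Finite.of_injective (Subgroup.inclusion (inf_le_left : S ⊓ Y R ≤ S)) (Subgroup.inclusion_injective _)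
  -- the map on subtypes is bijective
  let f : ↥(S ⊓ Y P) → ↥(S ⊓ Y R) := fun x => ⟨a x, ⟨ha.mem x.2, haY x x.2⟩⟩
  have hfinj : Function.Injective f := by
    intro x y hxy
    have h1 : a x = a y := congrArg Subtype.val hxy
    exact Subtype.ext (ha.injOn x.2 y.2 h1)
  have hfbij : Function.Bijective f := hfinj.bijective_of_nat_card_le hcard
  have hiff : ∀ y, y ∈ S ⊓ Y R ↔ ∃ x ∈ S ⊓ Y P, a x = y := by
    intro y
    constructor
    · intro hy
      obtain ⟨x, hx⟩ := hfbij.2 ⟨y, hy⟩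
      exact ⟨x, x.2, congrArg Subtype.val hx⟩
    · rintro ⟨x, hx, rfl⟩
      exact ⟨ha.mem hx, haY x hx⟩
  obtain ⟨b, hb, _, hb2, _⟩ := ha.inv hiff
  exact card_le_of_map F T hT Y R P b hb (fun g hg => (hb2 g hg).2)

/-- Receptive target: a map onto `Q` extends to the centralizer, mapping it into the centralizer of `Q`. -/
theorem exists_centralizer_map (F : FusionSystem S) {P Q : Subgroup Ω} (hQr : F.IsReceptive Q)
    {φ : P →* Ω} (hφ : φ ∈ F.Hom P) (hr : φ.range = Q) :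
    ∃ a : Ω → Ω, IsMapOn F (S ⊓ Subgroup.centralizer (P : Set Ω)) a ∧
      ∀ g ∈ S ⊓ Subgroup.centralizer (P : Set Ω), a g ∈ Subgroup.centralizer (Q : Set Ω) := by
  obtain ⟨ψ, hψ, hψP⟩ := hQr.2 P φ hφ hr
  have hPS : P ≤ S := hom_le F hφ
  have hCle : S ⊓ Subgroup.centralizer (P : Set Ω) ≤ extender S P φ :=
    Cfsg.Agent.Lib.Helper84_Fusion.centralizerIn_le_extender S P φ
  have hPle : P ≤ extender S P φ :=
    Cfsg.Agent.Lib.Helper84_Fusion.le_extender S P φ hPS (hom_mem F hφ)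
  refine ⟨extHom ψ, (isMapOn_extHom F hψ).mono hCle, ?_⟩
  intro g hg
  rw [Subgroup.mem_centralizer_iff]
  intro y hy
  rw [← hr] at hy
  obtain ⟨x, rfl⟩ := hy
  have hx : φ x = ψ ⟨x, hPle x.2⟩ := (hψP x x.2 (hPle x.2)).symm
  rw [extHom_apply ψ (hCle hg), hx, ← map_mul, ← map_mul]
  congr 1
  apply Subtype.ext
  show (x : Ω) * g = g * x
  exact hg.2 x x.2

/-- Fully automized receptive target: a map onto `Q`, twisted by an automorphism, extends to the normalizer,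
mapping it into the normalizer of `Q`. -/
theorem exists_normalizer_map (F : FusionSystem S) [Finite S] {p : ℕ} [Fact p.Prime] (hS : IsPGroup p S)
    {P Q : Subgroup Ω} (hQa : F.IsFullyAutomized p Q) (hQr : F.IsReceptive Q)
    {φ : P →* Ω} (hφ : φ ∈ F.Hom P) (hr : φ.range = Q) :
    ∃ a : Ω → Ω, IsMapOn F (S ⊓ Subgroup.normalizer (P : Set Ω)) a ∧
      ∀ g ∈ S ⊓ Subgroup.normalizer (P : Set Ω), a g ∈ Subgroup.normalizer (Q : Set Ω) := by
  obtain ⟨α, hα, a, ha, haP⟩ := exists_extension F hS hQa hQr hφ hr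
  have hPS : P ≤ S := hom_le F hφ
  have hPN : P ≤ normalizerIn S P := le_inf hPS Subgroup.le_normalizer
  have hφQ : ∀ x : P, φ x ∈ Q := fun x => hr ▸ ⟨x, rfl⟩
  refine ⟨a, ha, ?_⟩
  -- `a` maps `P` onto `Q`
  have haPQ : ∀ x ∈ P, a x ∈ Q := by
    intro x hx
    rw [haP ⟨x, hx⟩]
    exact extFun_mem _ (hφQ _)
  have hsurj : ∀ y ∈ Q, ∃ x ∈ P, a x = y := by
    intro y hy
    have h1 : extFun α⁻¹ y ∈ Q := extFun_mem _ hy
    have h1' : extFun α⁻¹ y ∈ φ.range := hr.ge h1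
    obtain ⟨x, hx⟩ := h1'
    refine ⟨x, x.2, ?_⟩
    rw [haP x, hx]
    exact extFun_apply_inv _ hy
  -- forward inclusion
  have hfwd : ∀ g ∈ S ⊓ Subgroup.normalizer (P : Set Ω), ∀ y ∈ Q, a g * y * (a g)⁻¹ ∈ Q := by
    intro g hg y hy
    obtain ⟨x, hx, rfl⟩ := hsurj y hy
    have hgx : g * x * g⁻¹ ∈ P := (Subgroup.mem_normalizer_iff.mp hg.2 x).mp hx
    have h1 : a (g * x * g⁻¹) = a g * a x * (a g)⁻¹ := by
      rw [ha.map_mul ((normalizerIn S P).mul_mem hg (hPN hx)) ((normalizerIn S P).inv_mem hg),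
        ha.map_mul hg (hPN hx), ha.map_inv hg]
    rw [← h1]
    exact haPQ _ hgx
  intro g hg
  rw [Subgroup.mem_normalizer_iff]
  intro y
  constructor
  · exact hfwd g hg y
  · intro hy
    have hg' : g⁻¹ ∈ S ⊓ Subgroup.normalizer (P : Set Ω) := (S ⊓ Subgroup.normalizer (P : Set Ω)).inv_mem hg
    have := hfwd g⁻¹ hg' _ hy
    rw [ha.map_inv hg, inv_inv] at this
    have h2 : (a g)⁻¹ * (a g * y * (a g)⁻¹) * a g = y := by group
    rwa [h2] at this

/-- Let F be a saturated fusion system over a finite p-group S, T a subgroup strongly closed in F, and F′ any fusion system over T all of whose maps are maps of F. For a subgroup Q ≤ T: if Q is fully centralized in F then it is fully centralized in F′, and if Q is fully normalized in F then it is fully normalized in F′. -/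
theorem result {Ω : Type*} [Group Ω] {S : Subgroup Ω} [Finite S] (p : ℕ) [Fact p.Prime] (hS : IsPGroup p S) (F : Cfsg.FusionSystem S) (hF : F.IsSaturated p) (T : Subgroup Ω) (hT : F.StronglyClosed T) (F' : Cfsg.FusionSystem T) (hsub : F'.IsSubsystemOf F) (Q : Subgroup Ω) (hQT : Q ≤ T) : (F.IsFullyCentralized Q → F'.IsFullyCentralized Q) ∧ (F.IsFullyNormalized Q → F'.IsFullyNormalized Q) := by
  have hQS : Q ≤ S := hQT.trans hT.1
  obtain ⟨Qs, hconj, hQsa, hQsr⟩ := hF Q hQS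
  obtain ⟨θ, hθ, hθr⟩ := hconj
  constructor
  · rintro ⟨_, hfc⟩
    refine ⟨hQT, ?_⟩
    intro Q' hQ'
    obtain ⟨φ', hφ', hφ'r⟩ := hQ'
    have hQQ' : F.IsConj Q Q' := ⟨φ', hsub Q hφ', hφ'r⟩
    have hQ'Qs : F.IsConj Q' Qs :=
      Cfsg.Agent.Lib.Helper84_Fusion.isConj_trans F
        (Cfsg.Agent.Lib.Helper84_Fusion.isConj_symm F hQQ') ⟨θ, hθ, hθr⟩
    obtain ⟨φ₁, hφ₁, hφ₁r⟩ := hQ'Qs
    obtain ⟨a', ha', ha'Y⟩ := exists_centralizer_map F hQsr hφ₁ hφ₁r
    obtain ⟨a, ha, haY⟩ := exists_centralizer_map F hQsr hθ hθr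
    have h1 := card_le_of_map F T hT (fun P => Subgroup.centralizer (P : Set Ω)) Q' Qs a' ha' ha'Y
    have h2 := card_le_of_map_rev F T hT (fun P => Subgroup.centralizer (P : Set Ω)) Q Qs a ha haY
      (hfc Qs ⟨θ, hθ, hθr⟩)
    exact h1.trans h2
  · rintro ⟨_, hfn⟩
    refine ⟨hQT, ?_⟩
    intro Q' hQ'
    obtain ⟨φ', hφ', hφ'r⟩ := hQ'
    have hQQ' : F.IsConj Q Q' := ⟨φ', hsub Q hφ', hφ'r⟩
    have hQ'Qs : F.IsConj Q' Qs :=
      Cfsg.Agent.Lib.Helper84_Fusion.isConj_trans F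
        (Cfsg.Agent.Lib.Helper84_Fusion.isConj_symm F hQQ') ⟨θ, hθ, hθr⟩
    obtain ⟨φ₁, hφ₁, hφ₁r⟩ := hQ'Qs
    obtain ⟨a', ha', ha'Y⟩ := exists_normalizer_map F hS hQsa hQsr hφ₁ hφ₁r
    obtain ⟨a, ha, haY⟩ := exists_normalizer_map F hS hQsa hQsr hθ hθr
    have h1 := card_le_of_map F T hT (fun P => Subgroup.normalizer (P : Set Ω)) Q' Qs a' ha' ha'Y
    have h2 := card_le_of_map_rev F T hT (fun P => Subgroup.normalizer (P : Set Ω)) Q Qs a ha haY
      (hfn Qs ⟨θ, hθ, hθr⟩)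
    exact h1.trans h2

end Cfsg.Agent.S5341
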