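import Cfsg.Statements.S5343
import Cfsg.Agent.Lib.Helper87_Realized
import Cfsg.Agent.Lib.Helper85_GroupFusion

set_option autoImplicit false
set_option linter.style.haveILetI false
universe u
open Cfsg

namespace Cfsg.Agent.S5343

open Cfsg.FusionSystem Cfsg.Agent.Lib Cfsg.Agent.Lib.Helper87_Realized

section
variable {Ω : Type*} [Group Ω] {S : Subgroup Ω} {G : Type*} [Group G] {F : FusionSystem S}
  {ι : S →* G}

/-- Passing to the quotient by a normal subgroup meeting `ι(S)` trivially. -/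
theorem quotient_realizes [Finite G] {p : ℕ} [Fact p.Prime] (hS : IsPGroup p S)
    (hr : F.IsRealizedBy ι) (Sy : Sylow p G)
    (hSy : (Sy : Subgroup G) = ι.range) (N : Subgroup G) [hN : N.Normal] (hbot : ι.range ⊓ N = ⊥) :
    F.IsRealizedBy ((QuotientGroup.mk' N).comp ι) ∧
      ∃ T : Sylow p (G ⧸ N), (T : Subgroup (G ⧸ N)) = ((QuotientGroup.mk' N).comp ι).range := by
  have hinj : Function.Injective ((QuotientGroup.mk' N).comp ι) := by
    rw [injective_iff_map_eq_one]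
    intro a ha
    have h1 : ι a ∈ N := by
      have : (QuotientGroup.mk' N) (ι a) = 1 := ha
      rwa [QuotientGroup.mk'_apply, QuotientGroup.eq_one_iff] at this
    have h2 : ι a ∈ ι.range ⊓ N := ⟨⟨a, rfl⟩, h1⟩
    rw [hbot, Subgroup.mem_bot] at h2
    exact (injective_iff_map_eq_one ι).1 hr.1 a h2
  refine ⟨⟨hinj, ?_⟩, ?_⟩
  · intro P hP φ hφ
    rw [hr.2 P hP φ hφ]
    constructor
    · rintro ⟨g, hg⟩
      refine ⟨QuotientGroup.mk' N g, fun x => ?_⟩
      show QuotientGroup.mk' N (ι ⟨φ x, hφ x⟩) = _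
      rw [hg x]
      simp only [map_mul, map_inv]
      rfl
    · rintro ⟨q, hq⟩
      obtain ⟨g, rfl⟩ := QuotientGroup.mk'_surjective N q
      -- the elements `b x = g ι(x) g⁻¹` are congruent to `ι(φ x)` modulo `N`
      have hcong : ∀ x : P, (ι ⟨φ x, hφ x⟩)⁻¹ * (g * ι ⟨x, hP x.2⟩ * g⁻¹) ∈ N := by
        intro x
        have h1 : QuotientGroup.mk' N (ι ⟨φ x, hφ x⟩) =
            QuotientGroup.mk' N (g * ι ⟨x, hP x.2⟩ * g⁻¹) := by
          have := hq x
          simp only [map_mul, map_inv]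
          exact this
        rw [QuotientGroup.mk'_apply, QuotientGroup.mk'_apply, QuotientGroup.eq] at h1
        exact h1
      set B : Subgroup G := Helper85_GroupFusion.conjSub g ((P.subgroupOf S).map ι) with hB
      have hBmem : ∀ b ∈ B, ∃ x : P, b = g * ι ⟨x, hP x.2⟩ * g⁻¹ := by
        rintro _ ⟨_, ⟨y, hy, rfl⟩, rfl⟩
        exact ⟨⟨y, Subgroup.mem_subgroupOf.1 hy⟩, rfl⟩
      have hBp : IsPGroup p B := by
        apply Helper85_GroupFusion.isPGroup_conjSub
        exact (hS.of_surjective ι.rangeRestrict ι.rangeRestrict_surjective).to_le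
          (Subgroup.map_le_range ι _)
      have hBK : B ≤ (Sy : Subgroup G) ⊔ N := by
        intro b hb
        obtain ⟨x, rfl⟩ := hBmem b hb
        have h1 : g * ι ⟨x, hP x.2⟩ * g⁻¹ =
            ι ⟨φ x, hφ x⟩ * ((ι ⟨φ x, hφ x⟩)⁻¹ * (g * ι ⟨x, hP x.2⟩ * g⁻¹)) := by group
        rw [h1]
        refine Subgroup.mul_mem _ (Subgroup.mem_sup_left ?_) (Subgroup.mem_sup_right (hcong x))
        rw [hSy]
        exact ⟨_, rfl⟩
      have hsyl : Helper85_GroupFusion.IsSylowIn p (Sy : Subgroup G) ((Sy : Subgroup G) ⊔ N) :=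
        Helper85_GroupFusion.isSylowIn_of_sylow_le Sy le_sup_left
      obtain ⟨k, hk, hkB⟩ := hsyl.exists_conj_le hBK hBp
      obtain ⟨s, hs, m, hm, rfl⟩ := Subgroup.mem_sup_of_normal_right.1 hk
      have hmB : ∀ b ∈ B, m * b * m⁻¹ ∈ (Sy : Subgroup G) := by
        intro b hb
        have h1 : s * m * b * (s * m)⁻¹ ∈ (Sy : Subgroup G) := hkB ⟨b, hb, rfl⟩
        have h2 : m * b * m⁻¹ = s⁻¹ * (s * m * b * (s * m)⁻¹) * s := by group
        rw [h2]
        exact Subgroup.mul_mem _ (Subgroup.mul_mem _ (Subgroup.inv_mem _ hs) h1) hs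
      refine ⟨m * g, fun x => ?_⟩
      have hb : g * ι ⟨x, hP x.2⟩ * g⁻¹ ∈ B := ⟨_, ⟨⟨x, hP x.2⟩, Subgroup.mem_subgroupOf.2 x.2, rfl⟩, rfl⟩
      have h1 : (ι ⟨φ x, hφ x⟩)⁻¹ * (m * (g * ι ⟨x, hP x.2⟩ * g⁻¹) * m⁻¹) ∈ ι.range ⊓ N := by
        refine ⟨?_, ?_⟩
        · rw [← hSy]
          refine Subgroup.mul_mem _ (Subgroup.inv_mem _ ?_) (hmB _ hb)
          rw [hSy]; exact ⟨_, rfl⟩
        · have h2 : (ι ⟨φ x, hφ x⟩)⁻¹ * (m * (g * ι ⟨x, hP x.2⟩ * g⁻¹) * m⁻¹) =
              ((ι ⟨φ x, hφ x⟩)⁻¹ * (g * ι ⟨x, hP x.2⟩ * g⁻¹)) *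
                ((g * ι ⟨x, hP x.2⟩ * g⁻¹)⁻¹ * m * (g * ι ⟨x, hP x.2⟩ * g⁻¹)⁻¹⁻¹ * m⁻¹) := by
            group
          rw [h2]
          exact N.mul_mem (hcong x) (N.mul_mem (hN.conj_mem m hm _) (N.inv_mem hm))
      rw [hbot, Subgroup.mem_bot, inv_mul_eq_one] at h1
      rw [h1]
      group
  · refine ⟨Sy.mapSurjective (QuotientGroup.mk'_surjective N), ?_⟩
    rw [Sylow.coe_mapSurjective, hSy, MonoidHom.range_comp]

/-- A normal subgroup containing `ι(S)` and inducing the whole system realizes it. -/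
theorem normal_realizes [Finite G] {p : ℕ} [Fact p.Prime] (hr : F.IsRealizedBy ι) (Sy : Sylow p G)
    (hSy : (Sy : Subgroup G) = ι.range) (N : Subgroup G) [hN : N.Normal] (hT : subT ι N = S)
    (hEF : ∀ P : Subgroup Ω, (subSystem F ι N).Hom P = F.Hom P) :
    ∃ ι₁ : S →* ↥N, F.IsRealizedBy ι₁ ∧ ∃ T : Sylow p ↥N, (T : Subgroup ↥N) = ι₁.range := by
  have hιN : ∀ x : S, ι x ∈ N := by
    intro x
    have h1 : (x : Ω) ∈ subT ι N := by rw [hT]; exact x.2
    have h2 := (mem_subT.1 h1).2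
    rwa [J_coe] at h2
  refine ⟨ι.codRestrict N hιN, ⟨?_, ?_⟩, ?_⟩
  · intro a b hab
    apply hr.1
    exact congrArg Subtype.val hab
  · intro P hP φ hφ
    constructor
    · intro h
      rw [← hEF P] at h
      obtain ⟨-, -, n, hn, hφn⟩ := h
      refine ⟨⟨n, hn⟩, fun x => ?_⟩
      apply Subtype.ext
      show ι ⟨φ x, hφ x⟩ = n * ι ⟨x, hP x.2⟩ * n⁻¹
      rw [← J_apply ι (hφ x), ← J_apply ι (hP x.2)]
      exact hφn x
    · rintro ⟨g, hg⟩
      exact (hr.2 P hP φ hφ).2 ⟨(g : G), fun x => congrArg Subtype.val (hg x)⟩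
  · have hsylN : Helper85_GroupFusion.IsSylowIn p ((Sy : Subgroup G) ⊓ N) N :=
      (Helper85_GroupFusion.isSylowIn_of_sylow_le Sy le_top).inf_normal le_top le_top
        Subgroup.le_normalizer_of_normal
    obtain ⟨R, hR⟩ := hsylN
    refine ⟨R, ?_⟩
    rw [hR]
    ext y
    rw [Subgroup.mem_subgroupOf]
    constructor
    · rintro ⟨h1, -⟩
      rw [hSy] at h1
      obtain ⟨x, hx⟩ := h1
      exact ⟨x, Subtype.ext hx⟩
    · rintro ⟨x, rfl⟩
      refine ⟨?_, hιN x⟩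
      rw [hSy]
      exact ⟨x, rfl⟩

end

/-- Let F be a simple saturated fusion system over a finite p-group S that is realized by some finite group on a Sylow p-subgroup. Then F is realized by a finite simple group on a Sylow p-subgroup. -/
theorem result {Ω : Type u} [Group Ω] {S : Subgroup Ω} [Finite S] (p : ℕ) [Fact p.Prime] (hS : IsPGroup p S) (F : Cfsg.FusionSystem S) (hsimple : F.IsSimple p) (hreal : F.IsRealizable p) : ∃ (G : Type u) (_ : Group G) (_ : Finite G) (_ : IsSimpleGroup G) (ι : ↥S →* G), F.IsRealizedBy ι ∧ ∃ T : Sylow p G, (T : Subgroup G) = ι.range := by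
  classical
  obtain ⟨hFsat, hS1, hsimp⟩ := hsimple
  let Q : ℕ → Prop := fun n => ∃ (G : Type u) (_ : Group G) (_ : Finite G) (ι : ↥S →* G),
    F.IsRealizedBy ι ∧ (∃ T : Sylow p G, (T : Subgroup G) = ι.range) ∧ Nat.card G = n
  have hex : ∃ n, Q n := by
    obtain ⟨G, iG, iF, ι, hr, hT⟩ := hreal
    exact ⟨Nat.card G, G, iG, iF, ι, hr, hT, rfl⟩
  have hmin : ∀ m, Q m → Nat.find hex ≤ m := fun m hm => Nat.find_min' hex hm
  obtain ⟨G, iG, iF, ι, hr, ⟨Sy, hSy⟩, hcard⟩ := Nat.find_spec hex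
  have hnt : Nontrivial G := by
    obtain ⟨x, hx, hx1⟩ : ∃ x ∈ S, x ≠ 1 := by
      obtain ⟨x, hx⟩ := (Subgroup.ne_bot_iff_exists_ne_one).1 hS1
      exact ⟨(x : Ω), x.2, fun h => hx (Subtype.ext h)⟩
    refine ⟨ι ⟨x, hx⟩, 1, fun h => hx1 ?_⟩
    have : (⟨x, hx⟩ : S) = 1 := hr.1 (h.trans (map_one ι).symm)
    exact congrArg Subtype.val this
  have hsimpleG : IsSimpleGroup G := by
    refine { toNontrivial := hnt, eq_bot_or_eq_top_of_normal := ?_ }
    intro N hN
    by_contra hcon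
    have hNbot : N ≠ ⊥ := fun h => hcon (Or.inl h)
    have hNtop : N ≠ ⊤ := fun h => hcon (Or.inr h)
    by_cases hbot : ι.range ⊓ N = ⊥
    · -- the quotient is a smaller realizing group
      obtain ⟨hr', hT'⟩ := quotient_realizes hS hr Sy hSy N hbot
      have h1 : Nat.find hex ≤ Nat.card (G ⧸ N) :=
        hmin _ ⟨G ⧸ N, inferInstance, inferInstance, _, hr', hT', rfl⟩
      have h2 : Nat.card G = Nat.card (G ⧸ N) * Nat.card N :=
        Subgroup.card_eq_card_quotient_mul_card_subgroup N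
      have h3 : 1 < Nat.card N := (Subgroup.one_lt_card_iff_ne_bot N).2 hNbot
      have h4 : 0 < Nat.card (G ⧸ N) := Nat.card_pos
      rw [hcard] at h2
      nlinarith
    · -- the normal subgroup is a smaller realizing group
      have hTne : subT ι N ≠ ⊥ := by
        intro h
        apply hbot
        rw [eq_bot_iff]
        rintro y ⟨⟨x, rfl⟩, hy2⟩
        have hx : (x : Ω) ∈ subT ι N := mem_subT.2 ⟨x.2, by rw [J_coe]; exact hy2⟩
        rw [h, Subgroup.mem_bot] at hx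
        have : x = 1 := Subtype.ext hx
        rw [this, map_one]
        exact Subgroup.mem_bot.2 rfl
      have hnorm := subSystem_isNormalIn hFsat hr Sy hSy N
      rcases hsimp _ _ hnorm with h | ⟨hT, hEF⟩
      · exact hTne h
      · obtain ⟨ι₁, hr₁, hT₁⟩ := normal_realizes hr Sy hSy N hT hEF
        have h1 : Nat.find hex ≤ Nat.card N :=
          hmin _ ⟨N, inferInstance, inferInstance, ι₁, hr₁, hT₁, rfl⟩
        have h2 : Nat.card N < Nat.card (⊤ : Subgroup G) :=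
          Helper87_Alperin.card_lt_of_lt (lt_top_iff_ne_top.2 hNtop)
        rw [Subgroup.card_top, hcard] at h2
        omega
  exact ⟨G, iG, iF, hsimpleG, ι, hr, Sy, hSy⟩

end Cfsg.Agent.S5343
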