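import Cfsg.Statements.S5347

set_option autoImplicit false
open Cfsg

namespace Cfsg.Agent.S5347

/-- Let D be a conjugation-invariant generating set of 3-transpositions of a finite group G, p a prime bigger than 3, and P a p-subgroup of G. If a member d of D normalizes P then d centralizes P. -/
theorem result {G : Type*} [Group G] [Finite G] {D : Set G} (hD : Cfsg.IsThreeTranspositionGroup D) {p : ℕ} (hp : p.Prime) (hp3 : 3 < p) (P : Subgroup G) (hP : IsPGroup p P) {d : G} (hd : d ∈ D) (hnorm : d ∈ Subgroup.normalizer (P : Set G)) : ∀ x ∈ P, Commute d x := by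
  obtain ⟨⟨hord, hprod⟩, hconj, _⟩ := hD
  intro x hx
  have hd2 : orderOf d = 2 := hord d hd
  have hdd : d * d = 1 := by
    have := pow_orderOf_eq_one d
    rw [hd2, pow_two] at this; exact this
  have hdinv : d⁻¹ = d := inv_eq_of_mul_eq_one_right hdd
  -- the element y = d * (x * d * x⁻¹) lies in P
  have hy1 : d * x * d⁻¹ ∈ P := (Subgroup.mem_normalizer_iff.mp hnorm x).mp hx
  have hyP : d * (x * d * x⁻¹) ∈ P := by
    have : d * (x * d * x⁻¹) = (d * x * d⁻¹) * x⁻¹ := by
      rw [hdinv]; group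
    rw [this]
    exact P.mul_mem hy1 (P.inv_mem hx)
  -- its order is a power of p
  obtain ⟨k, hk⟩ := hP ⟨_, hyP⟩
  have hk' : (d * (x * d * x⁻¹)) ^ (p ^ k) = 1 := by
    have := congrArg Subtype.val hk
    simpa using this
  have hdvd : orderOf (d * (x * d * x⁻¹)) ∣ p ^ k := orderOf_dvd_of_pow_eq_one hk'
  -- and divides 2 or 3
  have h23 := hprod d hd (x * d * x⁻¹) (hconj x d hd)
  have hone : orderOf (d * (x * d * x⁻¹)) = 1 := by
    rcases h23 with h | h
    · have h2 : orderOf (d * (x * d * x⁻¹)) ∣ 2 := orderOf_dvd_of_pow_eq_one h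
      have hg : orderOf (d * (x * d * x⁻¹)) ∣ Nat.gcd 2 (p ^ k) := Nat.dvd_gcd h2 hdvd
      have hcop : Nat.Coprime 2 (p ^ k) := by
        apply Nat.Coprime.pow_right
        rw [Nat.coprime_primes Nat.prime_two hp]; omega
      rw [hcop] at hg
      exact Nat.dvd_one.mp hg
    · have h3 : orderOf (d * (x * d * x⁻¹)) ∣ 3 := orderOf_dvd_of_pow_eq_one h
      have hg : orderOf (d * (x * d * x⁻¹)) ∣ Nat.gcd 3 (p ^ k) := Nat.dvd_gcd h3 hdvd
      have hcop : Nat.Coprime 3 (p ^ k) := by
        apply Nat.Coprime.pow_right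
        rw [Nat.coprime_primes Nat.prime_three hp]; omega
      rw [hcop] at hg
      exact Nat.dvd_one.mp hg
  have hone' : d * (x * d * x⁻¹) = 1 := orderOf_eq_one_iff.mp hone
  -- hence d x = x d
  show d * x = x * d
  have h1 : x * d * x⁻¹ = d := by
    have : x * d * x⁻¹ = d⁻¹ := (inv_eq_of_mul_eq_one_right hone').symm
    rw [this, hdinv]
  calc d * x = (x * d * x⁻¹) * x := by rw [h1]
    _ = x * d := by group

end Cfsg.Agent.S5347
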