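import Mathlib
import Cfsg.Statements.S5350
import Cfsg.Agent.Lib.Helper89_Theta
import Cfsg.Agent.Lib.Helper89_TTClass
import Cfsg.Agent.Lib.Helper89_InvolSylow
import Cfsg.Agent.Lib.Helper1_Cores

set_option autoImplicit false
open Cfsg

namespace Cfsg.Agent.S5350

open Cfsg.Agent.Lib.Helper89_Theta Cfsg.Agent.Lib.Helper89_TTClass
  Cfsg.Agent.Lib.Helper89_InvolSylow

/-- `V_d = D ∩ d O_3(G)`. -/
theorem nbr_eq_iff {G : Type*} [Group G] [Finite G] {D : Set G}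
    (hD : Cfsg.IsThreeTranspositionClass D) {d w : G} (hd : d ∈ D) (hw : w ∈ D) :
    nbr D d = nbr D w ↔ d⁻¹ * w ∈ Cfsg.pCore 3 G := by
  have hdi := inv_of_orderOf_two (hD.1.1 d hd)
  have hwi := inv_of_orderOf_two (hD.1.1 w hw)
  constructor
  · intro h
    rw [hdi]
    exact mul_mem_pCore_three_of_nbr_eq hD hd hw h
  · intro h
    apply Set.Subset.antisymm (nbr_subset_of_mem_pCore hD hd hw h)
    apply nbr_subset_of_mem_pCore hD hw hd
    have e : w⁻¹ * d = (d⁻¹ * w)⁻¹ := by group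
    rw [e]
    exact inv_mem h

/-- Let D be a conjugacy class of 3-transpositions generating the finite group G, with at least two members, and d a member of D. Then the set of members w of D whose commuting partners in D (other than w) are exactly those of d (other than d) coincides with the set of members of D lying in the coset of d modulo the largest normal 3-subgroup of G, and also with the orbit of d under conjugation by that normal 3-subgroup. -/
theorem result {G : Type*} [Group G] [Finite G] {D : Set G} (hD : Cfsg.IsThreeTranspositionClass D) (hD2 : ∃ a ∈ D, ∃ b ∈ D, a ≠ b) {d : G} (hd : d ∈ D) : {w : G | w ∈ D ∧ {y : G | y ∈ D ∧ y ≠ d ∧ Commute d y} = {y : G | y ∈ D ∧ y ≠ w ∧ Commute w y}} = {w : G | w ∈ D ∧ d⁻¹ * w ∈ Cfsg.pCore 3 G} ∧ {w : G | w ∈ D ∧ {y : G | y ∈ D ∧ y ≠ d ∧ Commute d y} = {y : G | y ∈ D ∧ y ≠ w ∧ Commute w y}} = {w : G | ∃ g ∈ Cfsg.pCore 3 G, w = g * d * g⁻¹} := by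
  have hd2 := hD.1.1 d hd
  have hdi := inv_of_orderOf_two hd2
  have : Fact (Nat.Prime 3) := ⟨Nat.prime_three⟩
  have hRn : (Cfsg.pCore 3 G).Normal := Cfsg.Agent.Lib.Helper1_Cores.pCore_normal 3
  have h1 : {w : G | w ∈ D ∧ {y : G | y ∈ D ∧ y ≠ d ∧ Commute d y} = {y : G | y ∈ D ∧ y ≠ w ∧ Commute w y}} = {w : G | w ∈ D ∧ d⁻¹ * w ∈ Cfsg.pCore 3 G} := by
    ext w
    constructor
    · rintro ⟨hw, h⟩
      exact ⟨hw, (nbr_eq_iff hD hd hw).mp h⟩
    · rintro ⟨hw, h⟩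
      exact ⟨hw, (nbr_eq_iff hD hd hw).mpr h⟩
  refine ⟨h1, ?_⟩
  rw [h1]
  ext w
  constructor
  · rintro ⟨hw, h⟩
    have hw2 := hD.1.1 w hw
    rw [hdi] at h
    have hodd : Odd (orderOf (d * w)) := by
      obtain ⟨j, hj⟩ := (IsPGroup.iff_orderOf.mp
        (Cfsg.Agent.Lib.Helper1_Cores.pCore_isPGroup (G := G) 3)) ⟨_, h⟩
      rw [Subgroup.orderOf_mk] at hj
      rw [hj]
      exact Odd.pow (by decide)
    obtain ⟨k, hk⟩ := exists_pow_conj hd2 hw2 hodd
    exact ⟨(d * w) ^ k, pow_mem h k, hk.symm⟩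
  · rintro ⟨g, hg, rfl⟩
    refine ⟨conj_mem hD g hd, ?_⟩
    have e : d⁻¹ * (g * d * g⁻¹) = (d⁻¹ * g * d⁻¹⁻¹) * g⁻¹ := by group
    rw [e]
    exact mul_mem (hRn.conj_mem g hg d⁻¹) (inv_mem hg)

end Cfsg.Agent.S5350
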