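import Cfsg.Statements.S5355
import Cfsg.Agent.S2530

set_option autoImplicit false
open Cfsg

namespace Cfsg.Agent.S5355

open Equiv

variable {G : Type*} [Group G]

/-- `x'` is the unique partner of `x` in `D`: the only other member of `D` commuting with `x`, and
it commutes with exactly the same members of `D`. -/
structure Good (D : Set G) (x x' : G) : Prop where
  hx : x ∈ D
  hx' : x' ∈ D
  hne : x ≠ x'
  hcomm : Commute x x'
  hV : ∀ e ∈ D, Commute x' e ↔ Commute x e
  honly : ∀ y ∈ D, Commute x y → y = x ∨ y = x'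

theorem Good.symm {D : Set G} {x x' : G} (h : Good D x x') : Good D x' x where
  hx := h.hx'
  hx' := h.hx
  hne := h.hne.symm
  hcomm := h.hcomm.symm
  hV := fun e he => (h.hV e he).symm
  honly := fun y hy hc => by
    rcases h.honly y hy ((h.hV y hy).mp hc) with h1 | h1
    · right; exact h1
    · left; exact h1

theorem commute_conj_iff (g a b : G) :
    Commute (g * a * g⁻¹) (g * b * g⁻¹) ↔ Commute a b := by
  constructor
  · intro h
    have h' : g * a * g⁻¹ * (g * b * g⁻¹) = g * b * g⁻¹ * (g * a * g⁻¹) := h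
    have e1 : g * a * g⁻¹ * (g * b * g⁻¹) = g * (a * b) * g⁻¹ := by group
    have e2 : g * b * g⁻¹ * (g * a * g⁻¹) = g * (b * a) * g⁻¹ := by group
    rw [e1, e2] at h'
    have h'' : g * (a * b) = g * (b * a) := mul_right_cancel h'
    exact mul_left_cancel h''
  · intro h
    have h' : a * b = b * a := h
    show g * a * g⁻¹ * (g * b * g⁻¹) = g * b * g⁻¹ * (g * a * g⁻¹)
    have e1 : g * a * g⁻¹ * (g * b * g⁻¹) = g * (a * b) * g⁻¹ := by group
    have e2 : g * b * g⁻¹ * (g * a * g⁻¹) = g * (b * a) * g⁻¹ := by group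
    rw [e1, e2, h']

theorem Good.conj {D : Set G} (hconj : ∀ g y : G, y ∈ D → g * y * g⁻¹ ∈ D) {x x' : G}
    (h : Good D x x') (g : G) : Good D (g * x * g⁻¹) (g * x' * g⁻¹) where
  hx := hconj g x h.hx
  hx' := hconj g x' h.hx'
  hne := fun he => h.hne (by
    have := mul_right_cancel (mul_left_cancel (by simpa [mul_assoc] using he : g * (x * g⁻¹) = g * (x' * g⁻¹)))
    exact this)
  hcomm := (commute_conj_iff g x x').mpr h.hcomm
  hV := fun e he => by
    have he' : g⁻¹ * e * g ∈ D := by simpa using hconj g⁻¹ e he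
    have e1 : e = g * (g⁻¹ * e * g) * g⁻¹ := by group
    rw [e1, commute_conj_iff, commute_conj_iff]
    exact h.hV _ he'
  honly := fun y hy hc => by
    have hy' : g⁻¹ * y * g ∈ D := by simpa using hconj g⁻¹ y hy
    have e1 : y = g * (g⁻¹ * y * g) * g⁻¹ := by group
    rw [e1, commute_conj_iff] at hc
    rcases h.honly _ hy' hc with h1 | h1
    · left; rw [e1, h1]
    · right; rw [e1, h1]

theorem sq_of_mem {D : Set G} (hD : Cfsg.IsThreeTranspositionSet D) {x : G} (hx : x ∈ D) :
    x * x = 1 := by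
  have := hD.1 x hx
  rw [← pow_two, ← this, pow_orderOf_eq_one]

theorem cube_of_not_commute {D : Set G} (hD : Cfsg.IsThreeTranspositionSet D) {x y : G}
    (hx : x ∈ D) (hy : y ∈ D) (h : ¬ Commute x y) : (x * y) ^ 3 = 1 := by
  rcases hD.2 x hx y hy with h2 | h3
  · exfalso
    apply h
    have hxx := sq_of_mem hD hx
    have hyy := sq_of_mem hD hy
    rw [pow_two] at h2
    show x * y = y * x
    calc x * y = x * y * (x * y * (x * y))⁻¹ := by rw [h2, inv_one, mul_one]
      _ = (x * y)⁻¹ := by group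
      _ = y⁻¹ * x⁻¹ := by group
      _ = y * x := by
        rw [inv_eq_of_mul_eq_one_right hyy, inv_eq_of_mul_eq_one_right hxx]
  · exact h3

set_option maxRecDepth 100000 in
/-- every non-identity element of `S₄` has the double transposition `(0 1)(2 3)` in its normal
closure, in at most two steps -/
theorem s4_normal_aux : ∀ σ : Perm (Fin 4), σ ≠ 1 →
    ∃ τ₁ τ₂ : Perm (Fin 4), (τ₁ * σ * τ₁⁻¹) * (τ₂ * σ * τ₂⁻¹) = swap 0 1 * swap 2 3 ∨
      τ₁ * σ * τ₁⁻¹ = swap 0 1 * swap 2 3 := by
  decide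

/-- the homomorphism from `S₄` attached to a path `x — f — x'` -/
theorem exists_hom {D : Set G} (hD : Cfsg.IsThreeTranspositionSet D) {x x' f : G}
    (h : Good D x x') (hf : f ∈ D) (hxf : ¬ Commute x f) :
    ∃ Φ : Perm (Fin 4) →* G, Function.Injective Φ ∧ Φ (swap 0 1) = x ∧ Φ (swap 1 2) = f ∧
      Φ (swap 2 3) = x' := by
  have hxx := sq_of_mem hD h.hx
  have hff := sq_of_mem hD hf
  have hx'x' := sq_of_mem hD h.hx'
  have hx'f : ¬ Commute x' f := fun hc => hxf ((h.hV f hf).mp hc)
  have c12 : (x * f) ^ 3 = 1 := cube_of_not_commute hD h.hx hf hxf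
  have c23 : (f * x') ^ 3 = 1 := cube_of_not_commute hD hf h.hx' (fun hc => hx'f hc.symm)
  have c13 : (x * x') ^ 2 = 1 := by
    rw [pow_two]
    have : x * x' * (x * x') = (x * x) * (x' * x') := by
      rw [mul_assoc x x', ← mul_assoc x' x x', ← h.hcomm.eq]; group
    rw [this, hxx, hx'x', mul_one]
  have inv_sym : ∀ (s t : G) (n : ℕ), s * s = 1 → t * t = 1 → (s * t) ^ n = 1 → (t * s) ^ n = 1 := by
    intro s t n hs ht hst
    have : t * s = (s * t)⁻¹ := by
      rw [_root_.mul_inv_rev, inv_eq_of_mul_eq_one_right hs, inv_eq_of_mul_eq_one_right ht]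
    rw [this, inv_pow, hst, inv_one]
  have hlift : (CoxeterMatrix.A 3).IsLiftable ![x, f, x'] := by
    intro i j
    fin_cases i <;> fin_cases j
    · change (x * x) ^ 1 = 1
      rw [hxx, one_pow]
    · exact c12
    · exact c13
    · exact inv_sym _ _ 3 hxx hff c12
    · change (f * f) ^ 1 = 1
      rw [hff, one_pow]
    · exact c23
    · exact inv_sym _ _ 2 hxx hx'x' c13
    · exact inv_sym _ _ 3 hff hx'x' c23
    · change (x' * x') ^ 1 = 1
      rw [hx'x', one_pow]
  obtain ⟨cs, hcs⟩ := Cfsg.Agent.S2530.result 3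
  have h0 : cs.simple 0 = swap 0 1 := hcs 0
  have h1 : cs.simple 1 = swap 1 2 := hcs 1
  have h2 : cs.simple 2 = swap 2 3 := hcs 2
  have e0 : cs.lift ⟨_, hlift⟩ (swap 0 1) = x := by
    rw [← h0, cs.lift_apply_simple hlift]; rfl
  have e1 : cs.lift ⟨_, hlift⟩ (swap 1 2) = f := by
    rw [← h1, cs.lift_apply_simple hlift]; rfl
  have e2 : cs.lift ⟨_, hlift⟩ (swap 2 3) = x' := by
    rw [← h2, cs.lift_apply_simple hlift]; rfl
  refine ⟨cs.lift ⟨_, hlift⟩, ?_, e0, e1, e2⟩
  -- injectivity: the kernel misses the double transposition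
  have hz : cs.lift ⟨_, hlift⟩ (swap 0 1 * swap 2 3) ≠ 1 := by
    rw [map_mul, e0, e2]
    intro h1
    apply h.hne
    calc x = x * (x' * x') := by rw [hx'x', mul_one]
      _ = (x * x') * x' := by group
      _ = x' := by rw [h1, one_mul]
  rw [injective_iff_map_eq_one]
  intro σ hσ
  by_contra hne
  obtain ⟨τ₁, τ₂, h12 | h1'⟩ := s4_normal_aux σ hne
  · apply hz
    rw [← h12, map_mul, map_mul, map_mul, map_mul, map_mul, hσ]
    simp
  · apply hz
    rw [← h1', map_mul, map_mul, hσ]
    simp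

/-- conjugating `f` by `x x'` gives the partner of `f` -/
theorem conj_partner {D : Set G} (hD : Cfsg.IsThreeTranspositionSet D)
    (hconj : ∀ g y : G, y ∈ D → g * y * g⁻¹ ∈ D) {x x' f f' : G}
    (h : Good D x x') (hf : Good D f f') (hxf : ¬ Commute x f) :
    (x * x') * f * (x * x')⁻¹ = f' := by
  obtain ⟨Φ, hinj, e0, e1, e2⟩ := exists_hom hD h hf.hx hxf
  have k1 : (swap 0 1 * swap 2 3) * swap 1 2 * (swap 0 1 * swap 2 3)⁻¹
      = (swap 0 3 : Perm (Fin 4)) := by decide
  have k2 : (swap 0 3 : Perm (Fin 4)) * swap 1 2 = swap 1 2 * swap 0 3 := by decide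
  have k3 : (swap 0 3 : Perm (Fin 4)) ≠ swap 1 2 := by decide
  have hw : (x * x') * f * (x * x')⁻¹ = Φ (swap 0 3) := by
    rw [← k1, map_mul, map_mul, map_inv, map_mul, e0, e1, e2]
  have hwD : (x * x') * f * (x * x')⁻¹ ∈ D := hconj _ _ hf.hx
  have hc : Commute f ((x * x') * f * (x * x')⁻¹) := by
    rw [hw, ← e1]
    show Φ (swap 1 2) * Φ (swap 0 3) = Φ (swap 0 3) * Φ (swap 1 2)
    rw [← map_mul, ← map_mul, k2]
  rcases hf.honly _ hwD hc with h1 | h1
  · exfalso
    apply k3
    apply hinj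
    rw [← hw, h1, e1]
  · exact h1

/-- Let D be a conjugacy class of 3-transpositions generating the finite group G, with at least two members, and d a member of D. Suppose that every member of D commuting with d commutes with exactly the same members of D as d does, and that exactly one member of D other than d commutes with d. Then G is isomorphic to the symmetric group of degree 4. -/
theorem result {G : Type*} [Group G] [Finite G] {D : Set G} (hD : Cfsg.IsThreeTranspositionClass D) (hD2 : ∃ a ∈ D, ∃ b ∈ D, a ≠ b) {d : G} (hd : d ∈ D) (hV : {y : G | y ∈ D ∧ Commute d y} = {v : G | v ∈ D ∧ ∀ e ∈ D, Commute v e ↔ Commute d e}) (hm : {y : G | y ∈ D ∧ Commute d y}.ncard = 2) : Nonempty (G ≃* Equiv.Perm (Fin 4)) := by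
  obtain ⟨hTS, ⟨d0, hd0, hcl⟩, hgen⟩ := hD
  -- D is closed under conjugation, and transitive
  have hconj : ∀ g y : G, y ∈ D → g * y * g⁻¹ ∈ D := by
    intro g y hy
    rw [hcl] at hy ⊢
    obtain ⟨c, hc⟩ := isConj_iff.mp hy
    apply isConj_iff.mpr
    refine ⟨g * c, ?_⟩
    rw [← hc]; group
  have htrans : ∀ y ∈ D, ∃ g : G, g * d * g⁻¹ = y := by
    intro y hy
    rw [hcl] at hy hd
    obtain ⟨c, hc⟩ := isConj_iff.mp hy
    obtain ⟨c', hc'⟩ := isConj_iff.mp hd
    refine ⟨c * c'⁻¹, ?_⟩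
    rw [← hc, ← hc']; group
  -- the partner of d
  have hds : d ∈ {y : G | y ∈ D ∧ Commute d y} := ⟨hd, Commute.refl d⟩
  obtain ⟨d', hd's, hdd', honly⟩ : ∃ d', d' ∈ {y : G | y ∈ D ∧ Commute d y} ∧ d ≠ d' ∧
      ∀ y ∈ {y : G | y ∈ D ∧ Commute d y}, y = d ∨ y = d' := by
    obtain ⟨x, y, hxy, hs⟩ := Set.ncard_eq_two.mp hm
    rw [hs] at hds ⊢
    rcases hds with h1 | h1
    · refine ⟨y, by simp, by rw [h1]; exact hxy, ?_⟩
      intro z hz
      rcases hz with h2 | h2
      · left; rw [h2, h1]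
      · right; exact h2
    · have h1' : d = y := h1
      refine ⟨x, by simp, by rw [h1']; exact hxy.symm, ?_⟩
      intro z hz
      rcases hz with h2 | h2
      · right; exact h2
      · left; rw [h1']; exact h2
  have hgood : Good D d d' := by
    have h2 := hd's
    rw [hV] at h2
    exact ⟨hd, hd's.1, hdd', hd's.2, h2.2, fun y hy hc => honly y ⟨hy, hc⟩⟩
  have hpartner : ∀ y ∈ D, ∃ y', Good D y y' := by
    intro y hy
    obtain ⟨g, rfl⟩ := htrans y hy
    exact ⟨_, hgood.conj hconj g⟩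
  -- some member of D does not commute with d
  obtain ⟨e, he, hde⟩ : ∃ e ∈ D, ¬ Commute d e := by
    by_contra hcon
    push Not at hcon
    have hcen : ∀ g : G, g * d = d * g := by
      intro g
      have hle : Subgroup.closure D ≤ Subgroup.centralizer ({d} : Set G) := by
        rw [Subgroup.closure_le]
        intro y hy
        rw [SetLike.mem_coe, Subgroup.mem_centralizer_iff]
        intro h hh
        rw [Set.mem_singleton_iff] at hh
        rw [hh]
        exact (hcon y hy).eq
      have hg : g ∈ Subgroup.centralizer ({d} : Set G) := hle (by rw [hgen]; exact Subgroup.mem_top g)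
      rw [Subgroup.mem_centralizer_iff] at hg
      exact (hg d rfl).symm
    obtain ⟨g, hg⟩ := htrans d' hd's.1
    apply hdd'
    rw [← hg, hcen g]; group
  -- the copy of S₄
  obtain ⟨Φ, hinj, e0, e1, e2⟩ := exists_hom hTS hgood he hde
  have hDH : ∀ f ∈ D, f ∈ Φ.range := by
    intro f hf
    by_contra hfH
    obtain ⟨f', hff'⟩ := hpartner f hf
    obtain ⟨e', hee'⟩ := hpartner e he
    have hz1 : d * d' = Φ (swap 0 1 * swap 2 3) := by rw [map_mul, e0, e2]
    have k1 : (swap 0 1 * swap 2 3) * swap 1 2 * (swap 0 1 * swap 2 3)⁻¹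
        = (swap 0 3 : Perm (Fin 4)) := by decide
    have he' : e' = Φ (swap 0 3) := by
      rw [← conj_partner hTS hconj hgood hee' hde, hz1, ← e1, ← map_inv, ← map_mul, ← map_mul, k1]
    have hcc' : Good D (e * d * e⁻¹) (e * d' * e⁻¹) := hgood.conj hconj e
    have hc : e * d * e⁻¹ = Φ (swap 1 2 * swap 0 1 * (swap 1 2)⁻¹) := by
      rw [map_mul, map_mul, map_inv, e0, e1]
    have hc' : e * d' * e⁻¹ = Φ (swap 1 2 * swap 2 3 * (swap 1 2)⁻¹) := by
      rw [map_mul, map_mul, map_inv, e2, e1]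
    -- f commutes with none of d, e, c
    have hdf : ¬ Commute d f := by
      intro hc1
      rcases hgood.honly f hf hc1 with h1 | h1
      · exact hfH ⟨_, by rw [e0, h1]⟩
      · exact hfH ⟨_, by rw [e2, h1]⟩
    have hef : ¬ Commute e f := by
      intro hc1
      rcases hee'.honly f hf hc1 with h1 | h1
      · exact hfH ⟨_, by rw [e1, h1]⟩
      · exact hfH ⟨_, by rw [h1, he']⟩
    have hcf : ¬ Commute (e * d * e⁻¹) f := by
      intro hc1
      rcases hcc'.honly f hf hc1 with h1 | h1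
      · exact hfH ⟨_, by rw [h1, hc]⟩
      · exact hfH ⟨_, by rw [h1, hc']⟩
    have hef' : ¬ Commute e f' := by
      intro hc1
      exact hef ((hff'.hV e he).mp hc1.symm).symm
    -- the three conjugations
    have q1 := conj_partner hTS hconj hgood hff' hdf
    have q2 := conj_partner hTS hconj hee' hff'.symm hef'
    have q3 := conj_partner hTS hconj hcc' hff' hcf
    -- the product of the three double transpositions is trivial
    have hprod : (d * d') * (e * e') * ((e * d * e⁻¹) * (e * d' * e⁻¹)) = 1 := by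
      rw [hz1, he', hc, hc', ← e1, ← map_mul, ← map_mul, ← map_mul, ← map_mul]
      have : (swap 0 1 * swap 2 3) * (swap 1 2 * swap 0 3) *
          ((swap 1 2 * swap 0 1 * (swap 1 2)⁻¹) * (swap 1 2 * swap 2 3 * (swap 1 2)⁻¹))
          = (1 : Perm (Fin 4)) := by decide
      rw [this, map_one]
    apply hff'.hne
    set z1 := d * d' with hz1'
    set z2 := e * e' with hz2'
    set z3 := (e * d * e⁻¹) * (e * d' * e⁻¹) with hz3'
    calc f = (z1 * z2 * z3) * f * (z1 * z2 * z3)⁻¹ := by rw [hprod]; group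
      _ = z1 * (z2 * (z3 * f * z3⁻¹) * z2⁻¹) * z1⁻¹ := by group
      _ = z1 * (z2 * f' * z2⁻¹) * z1⁻¹ := by rw [q3]
      _ = z1 * f * z1⁻¹ := by rw [q2]
      _ = f' := q1
  have hsurj : Function.Surjective Φ := by
    rw [← MonoidHom.range_eq_top, eq_top_iff, ← hgen, Subgroup.closure_le]
    exact hDH
  exact ⟨(MulEquiv.ofBijective Φ ⟨hinj, hsurj⟩).symm⟩

end Cfsg.Agent.S5355
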