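import Cfsg.Statements.S5356
import Cfsg.Agent.S0199
import Cfsg.Agent.Lib.Helper89_Theta
import Cfsg.Agent.Lib.Helper8_InvSylowE

set_option autoImplicit false
open Cfsg

namespace Cfsg.Agent.S5356

open Cfsg.Agent.Lib.Helper89_InvolSylow Cfsg.Agent.Lib.Helper89_TTClass
  Cfsg.Agent.Lib.Helper89_Theta Cfsg.Agent.Lib.Helper8_InvSylow

variable {G : Type*} [Group G]

/-- commuting is transitive on `D` -/
theorem trans_commute {D : Set G} (hD : Cfsg.IsThreeTranspositionClass D) {d : G} (hd : d ∈ D)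
    (hV : {y : G | y ∈ D ∧ Commute d y} = {v : G | v ∈ D ∧ ∀ e ∈ D, Commute v e ↔ Commute d e})
    {x y e : G} (hx : x ∈ D) (hy : y ∈ D) (he : e ∈ D) (hxy : Commute x y) :
    Commute y e ↔ Commute x e := by
  obtain ⟨g, hg⟩ := exists_conj hD hx hd
  -- `g * x * g⁻¹ = d`
  have hy' : g * y * g⁻¹ ∈ D := conj_mem hD g hy
  have he' : g * e * g⁻¹ ∈ D := conj_mem hD g he
  have hc : Commute d (g * y * g⁻¹) := by
    rw [← hg]
    exact (Commute.conj_iff g).mpr hxy
  have hmem : g * y * g⁻¹ ∈ {y : G | y ∈ D ∧ Commute d y} := ⟨hy', hc⟩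
  rw [hV] at hmem
  have := hmem.2 _ he'
  rw [← hg, Commute.conj_iff, Commute.conj_iff] at this
  exact this

theorem isPGroup_zpowers {g : G} {k : ℕ} (h : g ^ (2 ^ k) = 1) :
    IsPGroup 2 (Subgroup.zpowers g) := by
  rintro ⟨t, ht⟩
  obtain ⟨i, rfl⟩ := Subgroup.mem_zpowers_iff.mp ht
  refine ⟨k, Subtype.ext ?_⟩
  rw [Subgroup.coe_pow, Subgroup.coe_one, ← zpow_natCast, ← zpow_mul, mul_comm, zpow_mul,
    zpow_natCast, h, one_zpow]

theorem isPGroup_two_of_dihedral {x y : G} (hx : x * x = 1) (hy : y * y = 1)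
    (h4 : (x * y) ^ 4 = 1) : IsPGroup 2 ↥(Subgroup.zpowers x ⊔ Subgroup.zpowers y) := by
  have hxinv : x⁻¹ = x := inv_eq_of_mul_eq_one_left hx
  have hyinv : y⁻¹ = y := inv_eq_of_mul_eq_one_left hy
  have h1 : IsPGroup 2 (Subgroup.zpowers x) := isPGroup_zpowers (k := 1) (by rw [pow_one, pow_two, hx])
  have h2 : IsPGroup 2 (Subgroup.zpowers (x * y)) :=
    isPGroup_zpowers (k := 2) (by rw [show (2 : ℕ) ^ 2 = 4 by norm_num]; exact h4)
  have hconj : ∀ t ∈ Subgroup.zpowers (x * y), x * t * x⁻¹ ∈ Subgroup.zpowers (x * y) := by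
    intro t ht
    obtain ⟨i, rfl⟩ := Subgroup.mem_zpowers_iff.mp ht
    have : x * (x * y) ^ i * x⁻¹ = ((x * y)⁻¹) ^ i := by
      have h : x * (x * y) ^ i * x⁻¹ = (x * (x * y) * x⁻¹) ^ i := by
        have := map_zpow (MulAut.conj x) (x * y) i
        simp only [MulAut.conj_apply] at this
        exact this
      rw [h]
      congr 1
      rw [mul_inv_rev, hxinv, hyinv]
      calc x * (x * y) * x = (x * x) * y * x := by group
        _ = y * x := by rw [hx, one_mul]
    rw [this]
    exact Subgroup.zpow_mem _ (Subgroup.inv_mem _ (Subgroup.mem_zpowers _)) i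
  have hnorm : Subgroup.zpowers x ≤ Subgroup.normalizer (Subgroup.zpowers (x * y) : Set G) := by
    rw [Subgroup.zpowers_le]
    rw [Subgroup.mem_normalizer_iff]
    intro t
    constructor
    · exact hconj t
    · intro ht
      have := hconj _ ht
      have h : x * (x * t * x⁻¹) * x⁻¹ = t := by
        rw [hxinv]
        calc x * (x * t * x) * x = (x * x) * t * (x * x) := by group
          _ = t := by rw [hx, one_mul, mul_one]
      rwa [h] at this
  have hT := IsPGroup.to_sup_of_normal_right' h1 h2 hnorm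
  apply hT.to_le
  rw [sup_le_iff]
  refine ⟨le_sup_left, ?_⟩
  rw [Subgroup.zpowers_le]
  have hxT : x ∈ Subgroup.zpowers x ⊔ Subgroup.zpowers (x * y) :=
    (le_sup_left : Subgroup.zpowers x ≤ _) (Subgroup.mem_zpowers x)
  have hrT : x * y ∈ Subgroup.zpowers x ⊔ Subgroup.zpowers (x * y) :=
    (le_sup_right : Subgroup.zpowers (x * y) ≤ _) (Subgroup.mem_zpowers (x * y))
  have h5 := Subgroup.mul_mem _ (Subgroup.inv_mem _ hxT) hrT
  rwa [inv_mul_cancel_left] at h5

theorem pow_four_of_comm {x y : G} (hx : x * x = 1) (hy : y * y = 1)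
    (hc : x * (y * x * y⁻¹) = (y * x * y⁻¹) * x) : (x * y) ^ 4 = 1 := by
  have hyinv : y⁻¹ = y := inv_eq_of_mul_eq_one_left hy
  rw [hyinv] at hc
  have h1 : x * y * x * y = y * x * y * x := by
    calc x * y * x * y = x * (y * x * y) := by group
      _ = (y * x * y) * x := hc
      _ = y * x * y * x := by group
  calc (x * y) ^ 4 = (x * y * x * y) * (x * y * x * y) := by
        rw [show (4 : ℕ) = 2 + 2 by norm_num, pow_add, pow_two]; group
    _ = (y * x * y * x) * (x * y * x * y) := by rw [← h1]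
    _ = y * x * y * (x * x) * y * x * y := by group
    _ = y * x * (y * y) * x * y := by rw [hx]; group
    _ = y * (x * x) * y := by rw [hy]; group
    _ = 1 := by rw [hx, mul_one, hy]

/-- products of commuting members of `D` lie in `O_2(G)` -/
theorem mul_mem_pCore_two [Finite G] {D : Set G} (hD : Cfsg.IsThreeTranspositionClass D)
    (hT : ∀ {x y e : G}, x ∈ D → y ∈ D → e ∈ D → Commute x y → (Commute y e ↔ Commute x e))
    {a b : G} (ha : a ∈ D) (hb : b ∈ D) (hab : Commute a b) : a * b ∈ Cfsg.pCore 2 G := by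
  have : Fact (Nat.Prime 2) := ⟨Nat.prime_two⟩
  have haa := sq_of_orderOf_two (hD.1.1 a ha)
  have hbb := sq_of_orderOf_two (hD.1.1 b hb)
  have hxx : (a * b) * (a * b) = 1 := by
    calc (a * b) * (a * b) = a * (b * a) * b := by group
      _ = a * (a * b) * b := by rw [hab.eq]
      _ = (a * a) * (b * b) := by group
      _ = 1 := by rw [haa, hbb, one_mul]
  have hX : IsPGroup 2 (Subgroup.zpowers (a * b)) :=
    isPGroup_zpowers (k := 1) (by rw [pow_one, pow_two, hxx])
  have key : ∀ g : G, IsPGroup 2 ↥(Subgroup.zpowers (a * b) ⊔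
      (Subgroup.zpowers (a * b)).map (MulAut.conj g).toMonoidHom) := by
    intro g
    rw [MonoidHom.map_zpowers]
    have hconjx : (MulAut.conj g).toMonoidHom (a * b) = (g * a * g⁻¹) * (g * b * g⁻¹) := by
      simp only [MulEquiv.coe_toMonoidHom, MulAut.conj_apply]
      group
    rw [hconjx]
    obtain ⟨a', ha'def⟩ : ∃ a', a' = g * a * g⁻¹ := ⟨_, rfl⟩
    obtain ⟨b', hb'def⟩ : ∃ b', b' = g * b * g⁻¹ := ⟨_, rfl⟩
    rw [← ha'def, ← hb'def]
    have ha' : a' ∈ D := by rw [ha'def]; exact conj_mem hD g ha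
    have hb' : b' ∈ D := by rw [hb'def]; exact conj_mem hD g hb
    have ha'b' : Commute a' b' := by
      rw [ha'def, hb'def]; exact (Commute.conj_iff g).mpr hab
    have ha'a' := sq_of_orderOf_two (hD.1.1 a' ha')
    have hb'b' := sq_of_orderOf_two (hD.1.1 b' hb')
    have hyy : (a' * b') * (a' * b') = 1 := by
      calc (a' * b') * (a' * b') = a' * (b' * a') * b' := by group
        _ = a' * (a' * b') * b' := by rw [ha'b'.eq]
        _ = (a' * a') * (b' * b') := by group
        _ = 1 := by rw [ha'a', hb'b', one_mul]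
    apply isPGroup_two_of_dihedral hxx hyy
    apply pow_four_of_comm hxx hyy
    have hyinv : (a' * b')⁻¹ = b' * a' := by
      rw [mul_inv_rev, inv_of_orderOf_two (hD.1.1 a' ha'), inv_of_orderOf_two (hD.1.1 b' hb')]
    by_cases hc : Commute a a'
    · -- everything commutes
      have h1 : Commute b a' := (hT ha hb ha' hab).mpr hc
      have h2 : Commute b' a := (hT ha' hb' ha ha'b').mpr hc.symm
      have h3 : Commute b' b := (hT ha' hb' hb ha'b').mpr h1.symm
      have hxy : Commute (a * b) (a' * b') :=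
        (hc.mul_right h2.symm).mul_left (h1.mul_right h3.symm)
      have : a' * b' * (a * b) * (a' * b')⁻¹ = a * b := by
        rw [← hxy.eq, mul_inv_cancel_right]
      rw [this]
    · have hn1 : ¬ Commute b a' := fun h => hc ((hT ha hb ha' hab).mp h)
      have hn2 : ¬ Commute a b' := fun h => hc ((hT ha' hb' ha ha'b').mp h.symm).symm
      have hn3 : ¬ Commute b b' := fun h => hn1 ((hT ha' hb' hb ha'b').mp h.symm).symm
      have br1 := braid_of_not_commute hD ha ha' hc
      have br2 := braid_of_not_commute hD ha hb' hn2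
      have br3 := braid_of_not_commute hD hb ha' hn1
      have br4 := braid_of_not_commute hD hb hb' hn3
      have hza := coxeter_commute (u := a') (y := b') (v := a) ha'b'.eq br1 br2
      have hzb := coxeter_commute (u := a') (y := b') (v := b) ha'b'.eq br3 br4
      have hzaD : a' * b' * a * b' * a' ∈ D := by
        have := conj_mem hD (a' * b') ha
        rw [hyinv] at this
        have e : a' * b' * a * (b' * a') = a' * b' * a * b' * a' := by group
        rwa [e] at this
      have hzbD : a' * b' * b * b' * a' ∈ D := by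
        have := conj_mem hD (a' * b') hb
        rw [hyinv] at this
        have e : a' * b' * b * (b' * a') = a' * b' * b * b' * a' := by group
        rwa [e] at this
      have c1 : Commute a (a' * b' * a * b' * a') := hza.symm
      have c2 : Commute b (a' * b' * b * b' * a') := hzb.symm
      have c3 : Commute (a' * b' * a * b' * a') b := (hT ha hzaD hb c1).mpr hab
      have c4 : Commute (a' * b' * b * b' * a') a := (hT hb hzbD ha c2).mpr hab.symm
      have hsplit : a' * b' * (a * b) * (a' * b')⁻¹ =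
          (a' * b' * a * b' * a') * (a' * b' * b * b' * a') := by
        rw [hyinv]
        calc a' * b' * (a * b) * (b' * a')
            = a' * b' * a * (b' * (a' * a') * b') * b * b' * a' := by
              rw [ha'a', mul_one, hb'b']; group
          _ = (a' * b' * a * b' * a') * (a' * b' * b * b' * a') := by group
      rw [hsplit]
      exact ((c1.mul_right c4.symm).mul_left (c3.symm.mul_right c2)).eq
  obtain ⟨N, hNn, hN2, hXN⟩ := Cfsg.Agent.S0199.result (Subgroup.zpowers (a * b)) hX key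
  exact Cfsg.Agent.Lib.Helper1_Cores.le_pCore hNn hN2 (hXN (Subgroup.mem_zpowers _))

/-- if `D` generates `G` and `d * e ∈ N` for all `e ∈ D`, then `G = N ∪ dN` -/
theorem cover {D : Set G} (hgen : Subgroup.closure D = ⊤) (N : Subgroup G) [hN : N.Normal] {d : G}
    (hdd : d * d = 1) (hDN : ∀ e ∈ D, d * e ∈ N) : ∀ g : G, g ∈ N ∨ d * g ∈ N := by
  have hdinv : d⁻¹ = d := inv_eq_of_mul_eq_one_left hdd
  intro g
  have hg : g ∈ Subgroup.closure D := by rw [hgen]; trivial
  induction hg using Subgroup.closure_induction with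
  | mem e he => exact Or.inr (hDN e he)
  | one => exact Or.inl N.one_mem
  | mul x y _ _ hx hy =>
    rcases hx with hx | hx <;> rcases hy with hy | hy
    · exact Or.inl (N.mul_mem hx hy)
    · right
      have : d * (x * y) = (d * x * d⁻¹) * (d * y) := by group
      rw [this]
      exact N.mul_mem (hN.conj_mem x hx d) hy
    · right
      rw [← mul_assoc]
      exact N.mul_mem hx hy
    · left
      have h1 := N.mul_mem (hN.conj_mem _ hx d) hy
      have e1 : (d * (d * x) * d⁻¹) * (d * y) = d * d * (x * y) := by group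
      rwa [e1, hdd, one_mul] at h1
  | inv x _ hx =>
    rcases hx with hx | hx
    · exact Or.inl (N.inv_mem hx)
    · right
      have h1 := hN.conj_mem _ (N.inv_mem hx) d
      have e1 : d * (d * x)⁻¹ * d⁻¹ = d * x⁻¹ * (d⁻¹ * d⁻¹) := by group
      rwa [e1, hdinv, hdd, mul_one] at h1

/-- Let D be a conjugacy class of 3-transpositions generating the finite group G, with at least two members, and d a member of D such that every member of D commuting with d commutes with exactly the same members of D as d. Then there is a Sylow 3-subgroup P of G normalized by d such that G is generated by d, P and the largest normal 2-subgroup of G. -/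
theorem result {G : Type*} [Group G] [Finite G] {D : Set G} (hD : Cfsg.IsThreeTranspositionClass D) (hD2 : ∃ a ∈ D, ∃ b ∈ D, a ≠ b) {d : G} (hd : d ∈ D) (hV : {y : G | y ∈ D ∧ Commute d y} = {v : G | v ∈ D ∧ ∀ e ∈ D, Commute v e ↔ Commute d e}) : ∃ P : Sylow 3 G, d ∈ Subgroup.normalizer (P : Set G) ∧ Subgroup.zpowers d ⊔ (P : Subgroup G) ⊔ Cfsg.pCore 2 G = ⊤ := by
  have : Fact (Nat.Prime 2) := ⟨Nat.prime_two⟩
  have : Fact (Nat.Prime 3) := ⟨Nat.prime_three⟩
  have hord := hD.1.1
  have hprod := hD.1.2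
  have hgen := hD.2.2
  have hQn : (Cfsg.pCore 2 G).Normal := Cfsg.Agent.Lib.Helper1_Cores.pCore_normal 2
  have hQ2 : IsPGroup 2 (Cfsg.pCore 2 G) := Cfsg.Agent.Lib.Helper1_Cores.pCore_isPGroup 2
  have hT : ∀ {x y e : G}, x ∈ D → y ∈ D → e ∈ D → Commute x y →
      (Commute y e ↔ Commute x e) := fun hx hy he hxy => trans_commute hD hd hV hx hy he hxy
  have hmul : ∀ a ∈ D, ∀ b ∈ D, Commute a b → a * b ∈ Cfsg.pCore 2 G :=
    fun a ha b hb hab => mul_mem_pCore_two hD hT ha hb hab
  have hdd : d * d = 1 := sq_of_orderOf_two (hord d hd)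
  have hdinv : d⁻¹ = d := inv_eq_of_mul_eq_one_left hdd
  by_cases hdQ : d ∈ Cfsg.pCore 2 G
  · -- degenerate case: `G` is a 2-group
    have hQtop : Cfsg.pCore 2 G = ⊤ := by
      rw [eq_top_iff, ← hgen, Subgroup.closure_le]
      intro e he
      obtain ⟨g, rfl⟩ := exists_conj hD hd he
      exact hQn.conj_mem d hdQ g
    obtain ⟨P⟩ : Nonempty (Sylow 3 G) := inferInstance
    refine ⟨P, ?_, ?_⟩
    · have hbot : ∀ x ∈ P, x = 1 := by
        intro x hx
        obtain ⟨m, hm⟩ := P.2 ⟨x, hx⟩
        have hm' : x ^ (3 ^ m) = 1 := by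
          have := congrArg Subtype.val hm
          simpa using this
        have hxQ : x ∈ Cfsg.pCore 2 G := by rw [hQtop]; trivial
        obtain ⟨k, hk⟩ := hQ2 ⟨x, hxQ⟩
        have hk' : x ^ (2 ^ k) = 1 := by
          have := congrArg Subtype.val hk
          simpa using this
        exact eq_one_of_pow2_of_pow3 hk' hm'
      rw [Subgroup.mem_set_normalizer_iff]
      intro x
      constructor
      · intro hx
        rw [hbot x hx]
        simp only [mul_one, mul_inv_cancel]
        exact P.one_mem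
      · intro hx
        have h1 := hbot _ hx
        have hx1 : x = 1 := by
          calc x = d⁻¹ * (d * x * d⁻¹) * d := by group
            _ = 1 := by rw [h1]; group
        rw [hx1]
        exact P.one_mem
    · rw [hQtop]
      exact sup_top_eq _
  · -- main case
    have hDQ : ∀ e ∈ D, e ∉ Cfsg.pCore 2 G := by
      intro e he heQ
      obtain ⟨g, hg⟩ := exists_conj hD he hd
      apply hdQ
      rw [← hg]
      exact hQn.conj_mem e heQ g
    have hsurj := QuotientGroup.mk'_surjective (Cfsg.pCore 2 G)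
    have hker : ∀ x : G, QuotientGroup.mk' (Cfsg.pCore 2 G) x = 1 ↔ x ∈ Cfsg.pCore 2 G :=
      fun x => QuotientGroup.eq_one_iff x
    -- the image of `D`
    have hordb : ∀ e ∈ (QuotientGroup.mk' (Cfsg.pCore 2 G)) '' D, orderOf e = 2 := by
      rintro _ ⟨e, he, rfl⟩
      apply orderOf_eq_prime
      · rw [← map_pow, pow_two, sq_of_orderOf_two (hord e he), map_one]
      · intro h1
        exact hDQ e he ((hker e).mp h1)
    have hconjb : ∀ g : G ⧸ Cfsg.pCore 2 G, ∀ e ∈ (QuotientGroup.mk' (Cfsg.pCore 2 G)) '' D,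
        g * e * g⁻¹ ∈ (QuotientGroup.mk' (Cfsg.pCore 2 G)) '' D := by
      rintro g _ ⟨e, he, rfl⟩
      obtain ⟨g, rfl⟩ := hsurj g
      exact ⟨g * e * g⁻¹, conj_mem hD g he, by simp only [map_mul, map_inv]⟩
    have hcubeb : ∀ a ∈ (QuotientGroup.mk' (Cfsg.pCore 2 G)) '' D,
        ∀ b ∈ (QuotientGroup.mk' (Cfsg.pCore 2 G)) '' D, (a * b) ^ 3 = 1 := by
      rintro _ ⟨a, ha, rfl⟩ _ ⟨b, hb, rfl⟩
      rw [← map_mul, ← map_pow]
      rcases hprod a ha b hb with h | h
      · have hc := commute_of_sq_eq_one (hord a ha) (hord b hb) h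
        rw [map_pow, (hker _).mpr (hmul a ha b hb hc), one_pow]
      · rw [h, map_one]
    have h3 := Cfsg.Agent.Lib.Helper89_WidthOne.mul_mem_pCore_three hordb hconjb hcubeb
    have hR3 : IsPGroup 3 (Cfsg.pCore 3 (G ⧸ Cfsg.pCore 2 G)) :=
      Cfsg.Agent.Lib.Helper1_Cores.pCore_isPGroup 3
    have hRn : (Cfsg.pCore 3 (G ⧸ Cfsg.pCore 2 G)).Normal :=
      Cfsg.Agent.Lib.Helper1_Cores.pCore_normal 3
    obtain ⟨K, hKdef⟩ : ∃ K : Subgroup G,
        K = (Cfsg.pCore 3 (G ⧸ Cfsg.pCore 2 G)).comap (QuotientGroup.mk' (Cfsg.pCore 2 G)) :=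
      ⟨_, rfl⟩
    have hKmem : ∀ x : G, x ∈ K ↔
        QuotientGroup.mk' (Cfsg.pCore 2 G) x ∈ Cfsg.pCore 3 (G ⧸ Cfsg.pCore 2 G) := by
      intro x; rw [hKdef, Subgroup.mem_comap]
    have hKn : K.Normal := by rw [hKdef]; exact hRn.comap _
    have hQK : Cfsg.pCore 2 G ≤ K := by
      intro q hq
      rw [hKmem, (hker q).mpr hq]
      exact Subgroup.one_mem _
    have hK3 : ∀ k ∈ K, ∃ m : ℕ, k ^ (3 ^ m) ∈ Cfsg.pCore 2 G := by
      intro k hk
      obtain ⟨m, hm⟩ := hR3 ⟨_, (hKmem k).mp hk⟩
      refine ⟨m, ?_⟩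
      rw [← hker, map_pow]
      have := congrArg Subtype.val hm
      simpa using this
    have hDK : ∀ e ∈ D, d * e ∈ K := by
      intro e he
      rw [hKmem, map_mul]
      exact h3 _ ⟨d, hd, rfl⟩ _ ⟨e, he, rfl⟩
    have h5 : ∀ g : G, g ∈ K ∨ d * g ∈ K := cover hgen K hdd hDK
    have hdag : ∀ g : G, d * (g * d * g⁻¹) ∈ Cfsg.pCore 2 G ∨ (d * (g * d * g⁻¹)) ^ 3 = 1 := by
      intro g
      have he : g * d * g⁻¹ ∈ D := conj_mem hD g hd
      rcases hprod d hd _ he with h | h
      · exact Or.inl (hmul d hd _ he (commute_of_sq_eq_one (hord d hd) (hord _ he) h))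
      · exact Or.inr h
    have hdK : d ∉ K := by
      intro hdK
      rw [hKmem] at hdK
      exact Cfsg.Agent.Lib.Helper89_WidthOne.not_mem_pCore_three (hordb _ ⟨d, hd, rfl⟩) hdK
    have hc3 : (∀ k ∈ K, d * k * d⁻¹ * k⁻¹ ∈ Cfsg.pCore 2 G) → K ≤ Cfsg.pCore 2 G := by
      intro hall
      have hDQ' : ∀ e ∈ D, d * e ∈ Cfsg.pCore 2 G := by
        intro e he
        have heinv : e⁻¹ = e := inv_of_orderOf_two (hord e he)
        have h1 := hall (d * e) (hDK e he)
        have e1 : d * (d * e) * d⁻¹ * (d * e)⁻¹ = (e * d) * (e * d) := by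
          rw [mul_inv_rev, heinv, hdinv]
          calc d * (d * e) * d * (e * d) = (d * d) * e * d * (e * d) := by group
            _ = (e * d) * (e * d) := by rw [hdd]; group
        rw [e1] at h1
        have hed : e * d ∈ Cfsg.pCore 2 G := by
          rcases hprod e he d hd with h | h
          · exact hmul e he d hd (commute_of_sq_eq_one (hord e he) (hord d hd) h)
          · have e2 : e * d = ((e * d) * (e * d))⁻¹ := by
              apply eq_inv_of_mul_eq_one_left
              rw [← h, pow_succ, pow_two]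
              group
            rw [e2]
            exact Subgroup.inv_mem _ h1
        have e3 : d * e = (e * d)⁻¹ := by rw [mul_inv_rev, heinv, hdinv]
        rw [e3]
        exact Subgroup.inv_mem _ hed
      have hcov := cover hgen (Cfsg.pCore 2 G) hdd hDQ'
      intro k hk
      rcases hcov k with h | h
      · exact h
      · exfalso
        apply hdK
        have h1 : d * k ∈ K := hQK h
        have : d = (d * k) * k⁻¹ := by group
        rw [this]
        exact K.mul_mem h1 (K.inv_mem hk)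
    obtain ⟨P, hP, hKP⟩ := exists_invariant_sylow (Cfsg.pCore 2 G) K d hQn hKn hQ2 hQK hK3 hdd h5
      hdag hc3
    refine ⟨P, Sylow.smul_eq_iff_mem_normalizer.mp hP, ?_⟩
    rw [eq_top_iff]
    intro g _
    have hle : K ≤ Subgroup.zpowers d ⊔ (P : Subgroup G) ⊔ Cfsg.pCore 2 G := by
      refine hKP.trans ?_
      rw [sup_assoc]
      exact le_sup_right
    have hdmem : d ∈ Subgroup.zpowers d ⊔ (P : Subgroup G) ⊔ Cfsg.pCore 2 G :=
      (le_sup_left : _ ≤ Subgroup.zpowers d ⊔ (P : Subgroup G) ⊔ Cfsg.pCore 2 G)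
        ((le_sup_left : _ ≤ Subgroup.zpowers d ⊔ (P : Subgroup G)) (Subgroup.mem_zpowers d))
    rcases h5 g with h | h
    · exact hle h
    · have : g = d⁻¹ * (d * g) := by group
      rw [this]
      exact Subgroup.mul_mem _ (Subgroup.inv_mem _ hdmem) (hle h)

end Cfsg.Agent.S5356
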