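import Cfsg.Statements.S5357
import Cfsg.Agent.Lib.Helper14_ReflClass

set_option autoImplicit false
open scoped MatrixGroups
open Cfsg

namespace Cfsg.Agent.S5357

open Matrix Cfsg.Agent.Lib.Helper44_Orth Cfsg.Agent.Lib.Helper44_Refl Cfsg.Agent.Lib.Helper44_Spinor
  Cfsg.Agent.Lib.Helper44_FinSq
  Cfsg.Agent.Lib.Helper14_OrthChars Cfsg.Agent.Lib.Helper14_CartanDieudonne
  Cfsg.Agent.Lib.Helper14_ThreeRefl Cfsg.Agent.Lib.Helper14_ReflClass

section general

variable {ι : Type} [Fintype ι] [DecidableEq ι] {F : Type*} [Field F]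
variable {Q : QuadraticForm F (ι → F)}

/-- a reflection is not the identity -/
theorem refl_ne_one (h2 : (2 : F) ≠ 0) {v : ι → F} (hv : Q v ≠ 0) : refl Q v hv ≠ 1 := by
  intro h
  have h1 : Cfsg.reflectionMatrix (⇑Q) v = 1 := by
    have := congrArg (fun g : ↥(Cfsg.isometryGroup F (⇑Q)) =>
      ((g : Matrix.GeneralLinearGroup ι F) : Matrix ι ι F)) h
    simpa [refl_coe] using this
  have h3 := reflection_self Q v hv
  rw [h1, Matrix.one_mulVec] at h3
  have hv0 : v = 0 := eq_zero_of_neg_eq h2 v h3.symm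
  apply hv
  rw [hv0, map_zero]

theorem orderOf_refl (h2 : (2 : F) ≠ 0) {v : ι → F} (hv : Q v ≠ 0) : orderOf (refl Q v hv) = 2 := by
  apply orderOf_eq_prime
  · rw [pow_two]; exact refl_mul_self Q v hv
  · exact refl_ne_one h2 hv

theorem refl_inv {v : ι → F} (hv : Q v ≠ 0) : (refl Q v hv)⁻¹ = refl Q v hv :=
  inv_eq_of_mul_eq_one_left (refl_mul_self Q v hv)

/-- orthogonal reflections commute -/
theorem refl_comm_of_orth {v w : ι → F} (hv : Q v ≠ 0) (hw : Q w ≠ 0)
    (hvw : QuadraticMap.polar (⇑Q) v w = 0) :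
    refl Q v hv * refl Q w hw = refl Q w hw * refl Q v hv := by
  obtain ⟨hw', hconj⟩ := conj_refl (refl Q v hv) w hw
  have e : Cfsg.reflectionMatrix (⇑Q) ((refl Q v hv : Matrix.GeneralLinearGroup ι F).1 *ᵥ w)
      = Cfsg.reflectionMatrix (⇑Q) w := by
    have : (refl Q v hv : Matrix.GeneralLinearGroup ι F).1 *ᵥ w = w := refl_fix Q v w hvw
    rw [this]
  have h1 : refl Q v hv * refl Q w hw * (refl Q v hv)⁻¹ = refl Q w hw := by
    rw [hconj]
    apply Subtype.ext
    apply Units.ext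
    exact e
  calc refl Q v hv * refl Q w hw
      = refl Q v hv * refl Q w hw * (refl Q v hv)⁻¹ * refl Q v hv := by group
    _ = refl Q w hw * refl Q v hv := by rw [h1]

/-- braid relation when `B(v,w)² = Q(v) Q(w)` -/
theorem refl_braid {v w : ι → F} (hv : Q v ≠ 0) (hw : Q w ≠ 0)
    (hb : QuadraticMap.polar (⇑Q) v w ^ 2 = Q v * Q w) :
    refl Q v hv * refl Q w hw * refl Q v hv = refl Q w hw * refl Q v hv * refl Q w hw := by
  have hb0 : QuadraticMap.polar (⇑Q) v w ≠ 0 := by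
    intro h
    rw [h] at hb
    have : Q v * Q w = 0 := by rw [← hb]; ring
    exact (mul_ne_zero hv hw) this
  obtain ⟨hw', hconj1⟩ := conj_refl (refl Q v hv) w hw
  obtain ⟨hv', hconj2⟩ := conj_refl (refl Q w hw) v hv
  rw [refl_inv] at hconj1 hconj2
  rw [hconj1, hconj2]
  apply Subtype.ext
  apply Units.ext
  show Cfsg.reflectionMatrix (⇑Q) (Cfsg.reflectionMatrix (⇑Q) v *ᵥ w)
    = Cfsg.reflectionMatrix (⇑Q) (Cfsg.reflectionMatrix (⇑Q) w *ᵥ v)
  have hl : -(QuadraticMap.polar (⇑Q) v w / Q w) ≠ 0 :=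
    neg_ne_zero.mpr (div_ne_zero hb0 hw)
  have e : Cfsg.reflectionMatrix (⇑Q) w *ᵥ v
      = (-(QuadraticMap.polar (⇑Q) v w / Q w)) • (Cfsg.reflectionMatrix (⇑Q) v *ᵥ w) := by
    rw [reflectionMatrix_mulVec, reflectionMatrix_mulVec, QuadraticMap.polar_comm (⇑Q) w v]
    have h1 : (-(QuadraticMap.polar (⇑Q) v w / Q w)) * ((Q v)⁻¹ * QuadraticMap.polar (⇑Q) v w)
        = -1 := by
      field_simp
      linear_combination -hb
    rw [smul_sub, smul_smul, h1]
    have h2 : (Q w)⁻¹ * QuadraticMap.polar (⇑Q) v w = QuadraticMap.polar (⇑Q) v w / Q w := by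
      field_simp
    rw [h2]
    module
  rw [e, reflectionMatrix_smul Q _ hl]

theorem pow_three_of_braid {G : Type*} [Group G] {a b : G} (ha : a * a = 1) (hb : b * b = 1)
    (h : a * b * a = b * a * b) : (a * b) ^ 3 = 1 := by
  have : (a * b) ^ 3 = (a * b * a) * (b * a * b) := by
    simp only [pow_succ, pow_zero, one_mul, mul_assoc]
  rw [this, h]
  have : b * a * b * (b * a * b) = b * a * (b * b) * a * b := by group
  rw [this, hb, mul_one]
  have : b * a * a * b = b * (a * a) * b := by group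
  rw [this, ha, mul_one, hb]

theorem conj_of_braid {G : Type*} [Group G] {a b : G} (ha : a * a = 1) (hb : b * b = 1)
    (h : a * b * a = b * a * b) : (a * b) * a * (a * b)⁻¹ = b := by
  have hb' : b⁻¹ = b := inv_eq_of_mul_eq_one_left hb
  have ha' : a⁻¹ = a := inv_eq_of_mul_eq_one_left ha
  have : (a * b) * a * (a * b)⁻¹ = (a * b * a) * b⁻¹ * a⁻¹ := by group
  rw [this, h, hb', ha']
  have : b * a * b * b * a = b * a * (b * b) * a := by group
  rw [this, hb, mul_one]
  have : b * a * a = b * (a * a) := by group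
  rw [this, ha, mul_one]

omit [DecidableEq ι] in
/-- in dimension at least 5 the orthogonal complement of two orthogonal non-singular vectors is universal -/
theorem exists_orth_norm [Fintype F] (h2 : (2 : F) ≠ 0)
    (hQ : (QuadraticMap.polarBilin Q).Nondegenerate) (hn : 5 ≤ Fintype.card ι) {v w : ι → F}
    (hv : Q v ≠ 0) (hw : Q w ≠ 0) (hvw : QuadraticMap.polar (⇑Q) v w = 0) (t : F) :
    ∃ y, Q y = t ∧ QuadraticMap.polar (⇑Q) v y = 0 ∧ QuadraticMap.polar (⇑Q) w y = 0 := by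
  have h4 := four_ne_zero' h2
  have hS2 : Module.finrank F (Submodule.span F (Set.range ![v, w])) ≤ 2 := by
    have := finrank_range_le_card (R := F) ![v, w]
    simpa [Set.finrank] using this
  obtain ⟨y₁, hy₁, hyS⟩ := exists_nonsingular_orth h2 Q hQ (Submodule.span F (Set.range ![v, w]))
    (v := v) (Submodule.subset_span ⟨0, rfl⟩) hv (by omega)
  have hvy : QuadraticMap.polar (⇑Q) v y₁ = 0 := hyS v (Submodule.subset_span ⟨0, rfl⟩)
  have hwy : QuadraticMap.polar (⇑Q) w y₁ = 0 := hyS w (Submodule.subset_span ⟨1, rfl⟩)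
  have hS3 : Module.finrank F (Submodule.span F (Set.range ![v, w, y₁])) ≤ 3 := by
    have := finrank_range_le_card (R := F) ![v, w, y₁]
    simpa [Set.finrank] using this
  have hrad : Submodule.span F (Set.range ![v, w, y₁]) ⊓
      LinearMap.BilinForm.orthogonal (QuadraticMap.polarBilin Q)
        (Submodule.span F (Set.range ![v, w, y₁])) ≤ ⊥ := by
    intro s hs
    obtain ⟨hs1, hs2⟩ := Submodule.mem_inf.mp hs
    obtain ⟨cf, rfl⟩ := (Submodule.mem_span_range_iff_exists_fun F).mp hs1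
    rw [LinearMap.BilinForm.mem_orthogonal_iff] at hs2
    have ey := hs2 y₁ (Submodule.subset_span ⟨2, rfl⟩)
    have ev := hs2 v (Submodule.subset_span ⟨0, rfl⟩)
    have ew := hs2 w (Submodule.subset_span ⟨1, rfl⟩)
    simp only [Fin.sum_univ_three, Matrix.cons_val_zero, Matrix.cons_val_one, Matrix.cons_val_two,
      Matrix.head_cons, Matrix.tail_cons, QuadraticMap.polarBilin_apply_apply,
      QuadraticMap.polar_add_right, QuadraticMap.polar_smul_right, polar_self, smul_eq_mul,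
      QuadraticMap.polar_comm (⇑Q) y₁ v, QuadraticMap.polar_comm (⇑Q) y₁ w,
      QuadraticMap.polar_comm (⇑Q) w v, hvy, hwy, hvw, mul_zero,
      zero_add, add_zero] at ey ev ew
    have hc2 : cf 2 = 0 := by
      rcases mul_eq_zero.mp ey with h | h
      · exact h
      · exact absurd h (mul_ne_zero h2 hy₁)
    have hc0 : cf 0 = 0 := by
      rcases mul_eq_zero.mp ev with h | h
      · exact h
      · exact absurd h (mul_ne_zero h2 hv)
    have hc1 : cf 1 = 0 := by
      rcases mul_eq_zero.mp ew with h | h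
      · exact h
      · exact absurd h (mul_ne_zero h2 hw)
    rw [Submodule.mem_bot]
    simp [Fin.sum_univ_three, hc0, hc1, hc2]
  have hrad0 : Module.finrank F ↥(Submodule.span F (Set.range ![v, w, y₁]) ⊓
      LinearMap.BilinForm.orthogonal (QuadraticMap.polarBilin Q)
        (Submodule.span F (Set.range ![v, w, y₁]))) ≤ 0 := by
    have := Submodule.finrank_mono hrad
    rwa [finrank_bot] at this
  obtain ⟨y₂, hy₂, hyS'⟩ := exists_nonsingular_orth' hQ
    (Submodule.span F (Set.range ![v, w, y₁])) 0 hrad0 (by omega)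
  have hvy' : QuadraticMap.polar (⇑Q) v y₂ = 0 := hyS' v (Submodule.subset_span ⟨0, rfl⟩)
  have hwy' : QuadraticMap.polar (⇑Q) w y₂ = 0 := hyS' w (Submodule.subset_span ⟨1, rfl⟩)
  have hyy' : QuadraticMap.polar (⇑Q) y₁ y₂ = 0 := hyS' y₁ (Submodule.subset_span ⟨2, rfl⟩)
  obtain ⟨l, m, hlm⟩ := binary_universal h2 Q y₁ y₂ hy₁ (by
    rw [hyy']
    have : 4 * Q y₁ * Q y₂ - 0 ^ 2 = 4 * Q y₁ * Q y₂ := by ring
    rw [this]
    exact mul_ne_zero (mul_ne_zero h4 hy₁) hy₂) t
  refine ⟨l • y₁ + m • y₂, hlm, ?_, ?_⟩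
  · rw [QuadraticMap.polar_add_right, QuadraticMap.polar_smul_right, QuadraticMap.polar_smul_right,
      hvy, hvy']
    simp
  · rw [QuadraticMap.polar_add_right, QuadraticMap.polar_smul_right, QuadraticMap.polar_smul_right,
      hwy, hwy']
    simp

end general

section F3

variable {n : ℕ} {Q : QuadraticForm (ZMod 3) (Fin n → ZMod 3)} {c : ZMod 3}

theorem two_ne : (2 : ZMod 3) ≠ 0 := by decide

theorem sq_eq : ∀ b c d : ZMod 3, b ≠ 0 → c ≠ 0 → d = c → b ^ 2 = c * d := by decide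

theorem refl_mem (hc : c ≠ 0) {v : Fin n → ZMod 3} (hv : Q v = c) :
    refl Q v (by rw [hv]; exact hc) ∈ Cfsg.reflectionSubgroup (⇑Q) c :=
  Subgroup.subset_closure ⟨v, hv, refl_coe Q v _⟩

/-- two reflections of norm `c` with non-orthogonal centres are conjugate under their product -/
theorem conj_step (hc : c ≠ 0) {v w : Fin n → ZMod 3} (hv : Q v = c) (hw : Q w = c)
    (hb : QuadraticMap.polar (⇑Q) v w ≠ 0) :
    ∃ g ∈ Cfsg.reflectionSubgroup (⇑Q) c,
      g * refl Q v (by rw [hv]; exact hc) * g⁻¹ = refl Q w (by rw [hw]; exact hc) := by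
  have hv' : Q v ≠ 0 := by rw [hv]; exact hc
  have hw' : Q w ≠ 0 := by rw [hw]; exact hc
  have hbraid := refl_braid hv' hw' (by rw [hv, hw]; exact sq_eq _ c c hb hc rfl)
  refine ⟨refl Q v hv' * refl Q w hw', ?_, ?_⟩
  · exact Subgroup.mul_mem _ (refl_mem hc hv) (refl_mem hc hw)
  · exact conj_of_braid (refl_mul_self Q v hv') (refl_mul_self Q w hw') hbraid

theorem conj_all (hn : 5 ≤ n) (hQ : (QuadraticMap.polarBilin Q).Nondegenerate) (hc : c ≠ 0)
    {v w : Fin n → ZMod 3} (hv : Q v = c) (hw : Q w = c) :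
    ∃ g ∈ Cfsg.reflectionSubgroup (⇑Q) c,
      g * refl Q v (by rw [hv]; exact hc) * g⁻¹ = refl Q w (by rw [hw]; exact hc) := by
  have hv' : Q v ≠ 0 := by rw [hv]; exact hc
  have hw' : Q w ≠ 0 := by rw [hw]; exact hc
  by_cases hb : QuadraticMap.polar (⇑Q) v w ≠ 0
  · exact conj_step hc hv hw hb
  rw [not_not] at hb
  obtain ⟨y, hy, hvy, hwy⟩ := exists_orth_norm two_ne hQ (by rw [Fintype.card_fin]; exact hn)
    hv' hw' hb (-c)
  obtain ⟨x, hxdef⟩ : ∃ x, x = v + w + y := ⟨_, rfl⟩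
  have hQx : Q x = c := by
    rw [hxdef, QuadraticMap.map_add (⇑Q), QuadraticMap.map_add (⇑Q), hv, hw, hy,
      QuadraticMap.polar_add_left, hb, hvy, hwy]
    have : ∀ c : ZMod 3, c + c + 0 + -c + (0 + 0) = c := by decide
    exact this c
  have hvx : QuadraticMap.polar (⇑Q) v x ≠ 0 := by
    rw [hxdef, QuadraticMap.polar_add_right, QuadraticMap.polar_add_right, polar_self, hb, hvy, hv]
    have : ∀ c : ZMod 3, c ≠ 0 → 2 * c + 0 + 0 ≠ 0 := by decide
    exact this c hc
  have hxw : QuadraticMap.polar (⇑Q) x w ≠ 0 := by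
    rw [hxdef, QuadraticMap.polar_add_left, QuadraticMap.polar_add_left, polar_self, hb,
      QuadraticMap.polar_comm (⇑Q) y w, hwy, hw]
    have : ∀ c : ZMod 3, c ≠ 0 → 0 + 2 * c + 0 ≠ 0 := by decide
    exact this c hc
  obtain ⟨g₁, hg₁, h1⟩ := conj_step hc hv hQx hvx
  obtain ⟨g₂, hg₂, h2⟩ := conj_step hc hQx hw hxw
  refine ⟨g₂ * g₁, Subgroup.mul_mem _ hg₂ hg₁, ?_⟩
  rw [← h2, ← h1]
  group

theorem mem_D_iff (hc : c ≠ 0) (g : ↥(Cfsg.reflectionSubgroup (⇑Q) c)) :
    (g : ↥(Cfsg.isometryGroup (ZMod 3) (⇑Q))) ∈ Cfsg.reflectionsOfNorm (⇑Q) c ↔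
      ∃ (v : Fin n → ZMod 3) (hv : Q v = c),
        (g : ↥(Cfsg.isometryGroup (ZMod 3) (⇑Q))) = refl Q v (by rw [hv]; exact hc) := by
  constructor
  · rintro ⟨v, hv, hg⟩
    exact ⟨v, hv, Subtype.ext (Units.ext (by rw [hg, refl_coe]))⟩
  · rintro ⟨v, hv, hg⟩
    exact ⟨v, hv, by rw [hg, refl_coe]⟩

end F3

/-- Let Q be a non-degenerate quadratic form on the n-dimensional coordinate space over the field with three elements, n ≥ 5, and c a non-zero scalar. In the subgroup of the isometry group of Q generated by the reflections in vectors v with Q(v) = c, these reflections form a single conjugacy class of 3-transpositions generating that subgroup. -/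
theorem result (n : ℕ) (hn : 5 ≤ n) (Q : QuadraticForm (ZMod 3) (Fin n → ZMod 3)) (hQ : (QuadraticMap.polarBilin Q).Nondegenerate) (c : ZMod 3) (hc : c ≠ 0) : Cfsg.IsThreeTranspositionClass {g : ↥(Cfsg.reflectionSubgroup (⇑Q) c) | (g : ↥(Cfsg.isometryGroup (ZMod 3) (⇑Q))) ∈ Cfsg.reflectionsOfNorm (⇑Q) c} := by
  classical
  refine ⟨⟨?_, ?_⟩, ?_, ?_⟩
  · intro d hd
    obtain ⟨v, hv, hdv⟩ := (mem_D_iff hc d).mp hd
    rw [← Subgroup.orderOf_coe, hdv]
    exact orderOf_refl two_ne _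
  · intro d hd e he
    obtain ⟨v, hv, hdv⟩ := (mem_D_iff hc d).mp hd
    obtain ⟨w, hw, hew⟩ := (mem_D_iff hc e).mp he
    have hv' : Q v ≠ 0 := by rw [hv]; exact hc
    have hw' : Q w ≠ 0 := by rw [hw]; exact hc
    by_cases hb : QuadraticMap.polar (⇑Q) v w = 0
    · left
      apply Subtype.ext
      rw [Subgroup.coe_pow, Subgroup.coe_mul, hdv, hew, Subgroup.coe_one]
      have hcomm := refl_comm_of_orth hv' hw' hb
      rw [pow_two]
      calc refl Q v hv' * refl Q w hw' * (refl Q v hv' * refl Q w hw')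
          = refl Q v hv' * (refl Q w hw' * refl Q v hv') * refl Q w hw' := by
            simp only [mul_assoc]
        _ = refl Q v hv' * (refl Q v hv' * refl Q w hw') * refl Q w hw' := by rw [← hcomm]
        _ = (refl Q v hv' * refl Q v hv') * (refl Q w hw' * refl Q w hw') := by
            simp only [mul_assoc]
        _ = 1 := by rw [refl_mul_self, refl_mul_self, one_mul]
    · right
      apply Subtype.ext
      rw [Subgroup.coe_pow, Subgroup.coe_mul, hdv, hew, Subgroup.coe_one]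
      exact pow_three_of_braid (refl_mul_self Q v hv') (refl_mul_self Q w hw')
        (refl_braid hv' hw' (by rw [hv, hw]; exact sq_eq _ c c hb hc rfl))
  · obtain ⟨v₀, hv₀⟩ := exists_norm_eq two_ne Q hQ (by rw [Fintype.card_fin]; omega) c
    refine ⟨⟨refl Q v₀ (by rw [hv₀]; exact hc), refl_mem hc hv₀⟩,
      (mem_D_iff hc _).mpr ⟨v₀, hv₀, rfl⟩, ?_⟩
    ext x
    show _ ↔ IsConj _ x
    rw [isConj_iff]
    constructor
    · intro hx
      obtain ⟨w, hw, hxw⟩ := (mem_D_iff hc x).mp hx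
      obtain ⟨g, hg, hconj⟩ := conj_all hn hQ hc hv₀ hw
      refine ⟨⟨g, hg⟩, ?_⟩
      apply Subtype.ext
      rw [Subgroup.coe_mul, Subgroup.coe_mul, Subgroup.coe_inv, hxw]
      exact hconj
    · rintro ⟨g, rfl⟩
      rw [Set.mem_ofPred_eq, mem_D_iff hc]
      obtain ⟨hv', hconj⟩ := conj_refl (g : ↥(Cfsg.isometryGroup (ZMod 3) (⇑Q))) v₀
        (by rw [hv₀]; exact hc)
      have hnorm : Q (((g : ↥(Cfsg.isometryGroup (ZMod 3) (⇑Q))) :
          Matrix.GeneralLinearGroup (Fin n) (ZMod 3)).1 *ᵥ v₀) = c := by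
        rw [(mem_isometryGroup_iff (⇑Q) (g : ↥(Cfsg.isometryGroup (ZMod 3) (⇑Q))).1).mp
          (g : ↥(Cfsg.isometryGroup (ZMod 3) (⇑Q))).2 v₀, hv₀]
      refine ⟨_, hnorm, ?_⟩
      rw [Subgroup.coe_mul, Subgroup.coe_mul, Subgroup.coe_inv]
      exact hconj
  · exact Subgroup.closure_closure_coe_preimage

end Cfsg.Agent.S5357
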