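import Cfsg.Statements.S5358

set_option autoImplicit false
open scoped MatrixGroups
open Cfsg

namespace Cfsg.Agent.S5358

theorem commute_one_sub {R : Type*} [Ring R] {x y : R} (h : Commute x y) : Commute (1 - x) (1 - y) :=
  (Commute.one_left _).sub_left ((Commute.one_right x).sub_right h)

theorem commute_one_sub_iff {R : Type*} [Ring R] (x y : R) : Commute (1 - x) (1 - y) ↔ Commute x y := by
  constructor
  · intro h
    have := commute_one_sub h
    rwa [sub_sub_cancel, sub_sub_cancel] at this
  · exact commute_one_sub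

theorem dot_polarVec {n : ℕ} {F : Type*} [Field F] (Q : QuadraticForm F (Fin n → F)) (u x : Fin n → F) :
    Cfsg.polarVec (⇑Q) u ⬝ᵥ x = QuadraticMap.polar (⇑Q) u x := by
  have h := LinearMap.pi_apply_eq_sum_univ (QuadraticMap.polarBilin Q u) x
  rw [QuadraticMap.polarBilin_apply_apply] at h
  rw [h]
  unfold dotProduct Cfsg.polarVec
  apply Finset.sum_congr rfl
  intro i _
  rw [QuadraticMap.polarBilin_apply_apply, smul_eq_mul, mul_comm]
  congr 2
  funext j
  simp [Pi.single_apply, eq_comm]

/-- Let Q be a non-degenerate quadratic form on the n-dimensional coordinate space over the field with three elements and u, v vectors of the same non-zero norm Q(u) = Q(v) spanning different lines (v ≠ u and v ≠ −u). Then the reflection matrices of u and v commute if and only if u and v are orthogonal for the polar form of Q. -/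
theorem result (n : ℕ) (Q : QuadraticForm (ZMod 3) (Fin n → ZMod 3)) (hQ : (QuadraticMap.polarBilin Q).Nondegenerate) (u v : Fin n → ZMod 3) (hu : Q u ≠ 0) (huv : Q u = Q v) (h1 : v ≠ u) (h2 : v ≠ -u) : Commute (Cfsg.reflectionMatrix (⇑Q) u) (Cfsg.reflectionMatrix (⇑Q) v) ↔ QuadraticMap.polar (⇑Q) u v = 0 := by
  have hv : Q v ≠ 0 := huv ▸ hu
  unfold Cfsg.reflectionMatrix
  rw [commute_one_sub_iff]
  set pu := Cfsg.polarVec (⇑Q) u with hpu
  set pv := Cfsg.polarVec (⇑Q) v with hpv
  set f := QuadraticMap.polar (⇑Q) u v with hf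
  have hfu : pu ⬝ᵥ v = f := dot_polarVec Q u v
  have hfv : pv ⬝ᵥ u = f := by
    rw [hpv, dot_polarVec Q v u, QuadraticMap.polar_comm]
  have hvv : pv ⬝ᵥ v = 2 * Q v := by
    rw [hpv, dot_polarVec Q v v, QuadraticMap.polar_self]
    simp [two_mul, two_smul]
  have hAB : ((Q u)⁻¹ • Matrix.vecMulVec u pu) * ((Q v)⁻¹ • Matrix.vecMulVec v pv)
      = ((Q u)⁻¹ * (Q v)⁻¹ * f) • Matrix.vecMulVec u pv := by
    rw [Matrix.smul_mul, Matrix.mul_smul, Matrix.vecMulVec_mul_vecMulVec, hfu, Matrix.vecMulVec_smul,
      smul_smul, smul_smul]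
  have hBA : ((Q v)⁻¹ • Matrix.vecMulVec v pv) * ((Q u)⁻¹ • Matrix.vecMulVec u pu)
      = ((Q u)⁻¹ * (Q v)⁻¹ * f) • Matrix.vecMulVec v pu := by
    rw [Matrix.smul_mul, Matrix.mul_smul, Matrix.vecMulVec_mul_vecMulVec, hfv, Matrix.vecMulVec_smul,
      smul_smul, smul_smul]
    congr 1
    ring
  constructor
  · intro hc
    by_contra hf0
    have hc' := hc.eq
    rw [hAB, hBA] at hc'
    have hcoef : (Q u)⁻¹ * (Q v)⁻¹ * f ≠ 0 :=
      mul_ne_zero (mul_ne_zero (inv_ne_zero hu) (inv_ne_zero hv)) hf0
    have hmat : Matrix.vecMulVec u pv = Matrix.vecMulVec v pu :=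
      smul_right_injective _ hcoef hc'
    -- entrywise: u i * pv j = v i * pu j
    have hentry : ∀ i j, u i * pv j = v i * pu j := by
      intro i j
      have := congrFun (congrFun hmat i) j
      simpa [Matrix.vecMulVec_apply] using this
    have hrow : ∀ i, u i * (2 * Q v) = v i * f := by
      intro i
      rw [← hvv, ← hfu]
      unfold dotProduct
      rw [Finset.mul_sum, Finset.mul_sum]
      apply Finset.sum_congr rfl
      intro j _
      rw [← mul_assoc, ← mul_assoc, hentry i j]
    have h2ne : (2 : ZMod 3) * Q v ≠ 0 := mul_ne_zero (by decide) hv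
    set c := f * (2 * Q v)⁻¹ with hc_def
    have hucv : u = c • v := by
      funext i
      rw [Pi.smul_apply, smul_eq_mul, hc_def]
      have h3 : u i = v i * f * (2 * Q v)⁻¹ := (eq_mul_inv_iff_mul_eq₀ h2ne).mpr (hrow i)
      rw [h3]; ring
    have hQu : Q u = c * c * Q v := by
      conv_lhs => rw [hucv]
      rw [QuadraticMap.map_smul, smul_eq_mul]
    have hcc : c * c = 1 := by
      have : c * c * Q v = 1 * Q v := by rw [← hQu, huv, one_mul]
      exact mul_right_cancel₀ hv this
    have hc1 : c = 1 ∨ c = -1 := by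
      revert hcc
      generalize c = c'
      revert c'
      decide
    rcases hc1 with hc1 | hc1
    · apply h1
      rw [hucv, hc1, one_smul]
    · apply h2
      rw [hucv, hc1, neg_smul, one_smul, neg_neg]
  · intro hf0
    show _ = _
    rw [hAB, hBA, hf0, mul_zero, zero_smul, zero_smul]

end Cfsg.Agent.S5358
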