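import Cfsg.Statements.S5359
import Cfsg.Agent.Lib.Helper14_ReflClass

set_option autoImplicit false
open Cfsg
open scoped MatrixGroups

namespace Cfsg.Agent.S5359

open Cfsg.Agent.Lib.Helper14_ReflClass

theorem sq_eq_one_zmod3 : ∀ t : ZMod 3, t ≠ 0 → t ^ 2 = 1 := by decide

theorem reflectionSubgroup_eq_HH {n : ℕ} (Q : QuadraticForm (ZMod 3) (Fin n → ZMod 3)) (c : ZMod 3) :
    Cfsg.reflectionSubgroup (⇑Q) c = HH Q c := by
  unfold Cfsg.reflectionSubgroup HH
  congr 1
  ext g
  constructor
  · rintro ⟨v, hv, hg⟩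
    exact ⟨v, 1, one_ne_zero, by rw [hv]; ring, hg⟩
  · rintro ⟨v, t, ht, hv, hg⟩
    exact ⟨v, by rw [hv, sq_eq_one_zmod3 t ht, mul_one], hg⟩

/-- Let Q be a non-degenerate quadratic form on the n-dimensional coordinate space over the field with three elements, n odd and at least 5, and c a non-zero scalar. Then the subgroup of the isometry group of Q generated by the reflections in vectors of norm c has index 2 in the isometry group. -/
theorem result (n : ℕ) (hn : 5 ≤ n) (hodd : Odd n) (Q : QuadraticForm (ZMod 3) (Fin n → ZMod 3)) (hQ : (QuadraticMap.polarBilin Q).Nondegenerate) (c : ZMod 3) (hc : c ≠ 0) : (Cfsg.reflectionSubgroup (⇑Q) c).index = 2 := by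
  rw [reflectionSubgroup_eq_HH]
  have hcard : Fintype.card (Fin n) = n := Fintype.card_fin n
  exact HH_index (by decide) hQ hc (by omega) (by omega) (by omega)

end Cfsg.Agent.S5359
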