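import Cfsg.Statements.S5360
import Cfsg.Agent.Lib.Helper35_ReflF3
import Cfsg.Agent.S5359
import Cfsg.Agent.S5357
import Cfsg.Agent.S5353

set_option autoImplicit false
open scoped MatrixGroups
open Cfsg

namespace Cfsg.Agent.S5360

open Cfsg.Agent.Lib.Helper35_ReflF3 Cfsg.Agent.Lib.Helper35_QSNormal
  Cfsg.Agent.Lib.Helper14_ReflClass

/-- `Ω(Q)` lies in the group generated by the reflections of norm `c` (over the field with three elements) -/
theorem omega_le_reflectionSubgroup (n : ℕ) (hn : 5 ≤ n) (Q : QuadraticForm (ZMod 3) (Fin n → ZMod 3))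
    (hQ : (QuadraticMap.polarBilin Q).Nondegenerate) (c : ZMod 3) (hc : c ≠ 0) :
    Cfsg.Omega (ZMod 3) (⇑Q) ≤ Cfsg.reflectionSubgroup (⇑Q) c := by
  rw [Cfsg.Agent.S5359.reflectionSubgroup_eq_HH]
  have hcard : Fintype.card (Fin n) = n := Fintype.card_fin n
  exact commutator_le_of_index_two _
    (HH_index (by decide) hQ hc (by omega) (by omega) (by omega))

/-- the commutator subgroup of the reflection group has index at most two -/
theorem index_omegaIn_le_two (n : ℕ) (Q : QuadraticForm (ZMod 3) (Fin n → ZMod 3))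
    (c : ZMod 3) (hc : c ≠ 0) :
    (omegaIn Q (Cfsg.reflectionSubgroup (⇑Q) c)).index ≤ 2 := by
  have hΩn : (Cfsg.Omega (ZMod 3) (⇑Q)).Normal := by
    unfold Cfsg.Omega
    infer_instance
  apply index_subgroupOf_closure_le_two (Cfsg.Omega (ZMod 3) (⇑Q)) (Cfsg.reflectionsOfNorm (⇑Q) c)
  rintro g ⟨v, hv, hg⟩ h ⟨w, hw, hh⟩
  apply refl_mul_refl_mem_omega (by decide) Q g h v w (by rw [hv]; exact hc) (by rw [hw]; exact hc)
    _ hg hh
  rw [hv, hw]
  exact ⟨c, rfl⟩

/-- Let Q be a non-degenerate quadratic form on the n-dimensional coordinate space over the field with three elements, n ≥ 5, c a non-zero scalar, and R the subgroup of the isometry group generated by the reflections of norm c. Then the commutator subgroup of R is quasisimple of index at most 2, the generalized Fitting subgroup of R is the product of the centre and the commutator subgroup, and R acts primitively by conjugation on its reflections of norm c. -/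
theorem result (n : ℕ) (hn : 5 ≤ n) (Q : QuadraticForm (ZMod 3) (Fin n → ZMod 3)) (hQ : (QuadraticMap.polarBilin Q).Nondegenerate) (c : ZMod 3) (hc : c ≠ 0) : Cfsg.IsQuasisimple (commutator ↥(Cfsg.reflectionSubgroup (⇑Q) c)) ∧ (commutator ↥(Cfsg.reflectionSubgroup (⇑Q) c)).index ≤ 2 ∧ Cfsg.generalizedFittingSubgroup ↥(Cfsg.reflectionSubgroup (⇑Q) c) = Subgroup.center ↥(Cfsg.reflectionSubgroup (⇑Q) c) ⊔ commutator ↥(Cfsg.reflectionSubgroup (⇑Q) c) ∧ Cfsg.IsPrimitiveUnderConj {g : ↥(Cfsg.reflectionSubgroup (⇑Q) c) | (g : ↥(Cfsg.isometryGroup (ZMod 3) (⇑Q))) ∈ Cfsg.reflectionsOfNorm (⇑Q) c} := by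
  have hcard : Fintype.card (Fin n) = n := Fintype.card_fin n
  have hn' : 5 ≤ Fintype.card (Fin n) := by omega
  have hΩR := omega_le_reflectionSubgroup n hn Q hQ c hc
  have hNn : (omegaIn Q (Cfsg.reflectionSubgroup (⇑Q) c)).Normal :=
    omegaIn_normal Q (Cfsg.reflectionSubgroup (⇑Q) c)
  have hNq := omegaIn_quasisimple Q hQ hn' (Cfsg.reflectionSubgroup (⇑Q) c) hΩR
  have hcomm := commutator_le_omegaIn Q (Cfsg.reflectionSubgroup (⇑Q) c)
  have hcent := centralizer_omegaIn_le Q hQ hn' (Cfsg.reflectionSubgroup (⇑Q) c) hΩR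
  have hceq : commutator ↥(Cfsg.reflectionSubgroup (⇑Q) c)
      = omegaIn Q (Cfsg.reflectionSubgroup (⇑Q) c) := commutator_eq _ hNq hcomm
  have hidx : (commutator ↥(Cfsg.reflectionSubgroup (⇑Q) c)).index ≤ 2 := by
    rw [hceq]
    exact index_omegaIn_le_two n Q c hc
  have hqs : Cfsg.IsQuasisimple (commutator ↥(Cfsg.reflectionSubgroup (⇑Q) c)) := by
    rw [hceq]
    exact hNq
  have hF : Cfsg.generalizedFittingSubgroup ↥(Cfsg.reflectionSubgroup (⇑Q) c)
      = Subgroup.center ↥(Cfsg.reflectionSubgroup (⇑Q) c)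
        ⊔ commutator ↥(Cfsg.reflectionSubgroup (⇑Q) c) := by
    rw [generalizedFittingSubgroup_eq _ hNq hcomm hcent, hceq]
  refine ⟨hqs, hidx, hF, ?_⟩
  -- primitivity from S5353
  have hD := Cfsg.Agent.S5357.result n hn Q hQ c hc
  have : Fact (Nat.Prime 2) := ⟨Nat.prime_two⟩
  have : Fact (Nat.Prime 3) := ⟨Nat.prime_three⟩
  have h2 : Cfsg.pCore 2 ↥(Cfsg.reflectionSubgroup (⇑Q) c)
      ≤ Subgroup.center ↥(Cfsg.reflectionSubgroup (⇑Q) c) := pCore_le_center _ hNq hcent 2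
  have h3 : Cfsg.pCore 3 ↥(Cfsg.reflectionSubgroup (⇑Q) c)
      ≤ Subgroup.center ↥(Cfsg.reflectionSubgroup (⇑Q) c) := pCore_le_center _ hNq hcent 3
  have hD2 : ∃ a ∈ {g : ↥(Cfsg.reflectionSubgroup (⇑Q) c) |
        (g : ↥(Cfsg.isometryGroup (ZMod 3) (⇑Q))) ∈ Cfsg.reflectionsOfNorm (⇑Q) c},
      ∃ b ∈ {g : ↥(Cfsg.reflectionSubgroup (⇑Q) c) |
        (g : ↥(Cfsg.isometryGroup (ZMod 3) (⇑Q))) ∈ Cfsg.reflectionsOfNorm (⇑Q) c}, a ≠ b := by
    by_contra hcon
    push Not at hcon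
    have hgen := hD.2.2
    have hic := Subgroup.isMulCommutative_closure
      (k := {g : ↥(Cfsg.reflectionSubgroup (⇑Q) c) |
        (g : ↥(Cfsg.isometryGroup (ZMod 3) (⇑Q))) ∈ Cfsg.reflectionsOfNorm (⇑Q) c})
      (fun x hx y hy => by rw [hcon x hx y hy])
    have hcommR : ∀ x y : ↥(Cfsg.reflectionSubgroup (⇑Q) c), x * y = y * x := by
      intro x y
      have hx : x ∈ Subgroup.closure {g : ↥(Cfsg.reflectionSubgroup (⇑Q) c) |
        (g : ↥(Cfsg.isometryGroup (ZMod 3) (⇑Q))) ∈ Cfsg.reflectionsOfNorm (⇑Q) c} := by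
        rw [hgen]; exact Subgroup.mem_top x
      have hy : y ∈ Subgroup.closure {g : ↥(Cfsg.reflectionSubgroup (⇑Q) c) |
        (g : ↥(Cfsg.isometryGroup (ZMod 3) (⇑Q))) ∈ Cfsg.reflectionsOfNorm (⇑Q) c} := by
        rw [hgen]; exact Subgroup.mem_top y
      have := hic.is_comm.comm (⟨x, hx⟩ : ↥(Subgroup.closure {g : ↥(Cfsg.reflectionSubgroup (⇑Q) c) |
        (g : ↥(Cfsg.isometryGroup (ZMod 3) (⇑Q))) ∈ Cfsg.reflectionsOfNorm (⇑Q) c})) ⟨y, hy⟩
      exact congrArg Subtype.val this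
    have hsolv : Group.IsSolvable ↥(omegaIn Q (Cfsg.reflectionSubgroup (⇑Q) c)) :=
      Group.isSolvable_of_comm (fun a b => Subtype.ext (hcommR a.1 b.1))
    exact Cfsg.Agent.Lib.Helper29_Local.IsQuasisimple.not_isSolvable hNq hsolv
  have hF' : Cfsg.generalizedFittingSubgroup ↥(Cfsg.reflectionSubgroup (⇑Q) c)
      = commutator ↥(Cfsg.reflectionSubgroup (⇑Q) c)
        ⊔ Subgroup.center ↥(Cfsg.reflectionSubgroup (⇑Q) c) := by
    rw [hF, sup_comm]
  exact (Cfsg.Agent.S5353.result hD hD2 h2 h3 (commutator ↥(Cfsg.reflectionSubgroup (⇑Q) c))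
    hqs hF').1 hidx

end Cfsg.Agent.S5360
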