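import Mathlib
import Cfsg.Statements.S5361
import Cfsg.Agent.S5352
import Cfsg.Agent.S5353
import Cfsg.Agent.Lib.Helper1_Cores
import Cfsg.Agent.Lib.Helper89_Prim
import Cfsg.Agent.Lib.Helper89_TTClass
import Cfsg.Agent.Lib.Helper89_TTQuasi
import Cfsg.Agent.Lib.Helper89_InvolSylow
import Cfsg.Agent.Lib.Helper21_Components

set_option autoImplicit false
open Cfsg

namespace Cfsg.Agent.S5361

open Cfsg.Agent.Lib.Helper89_TTClass Cfsg.Agent.Lib.Helper89_TTQuasi
  Cfsg.Agent.Lib.Helper89_InvolSylow Cfsg.Agent.Lib.Helper89_Prim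

open scoped commutatorElement

variable {G : Type*} [Group G]

/-- A quasisimple group with trivial centre is simple. -/
theorem isSimpleGroup_of_center_eq_bot {X : Type*} [Group X] (hX : Cfsg.IsQuasisimple X)
    (hc : Subgroup.center X = ⊥) : IsSimpleGroup X := by
  have hnt : Nontrivial X := by
    by_contra hcon
    rw [not_nontrivial_iff_subsingleton] at hcon
    have h1 : Nontrivial (X ⧸ Subgroup.center X) := hX.2.toNontrivial
    obtain ⟨x, y, hxy⟩ := h1
    obtain ⟨x', rfl⟩ := QuotientGroup.mk_surjective x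
    obtain ⟨y', rfl⟩ := QuotientGroup.mk_surjective y
    exact hxy (by rw [Subsingleton.elim x' y'])
  refine ⟨fun N hN => ?_⟩
  rcases Cfsg.Agent.Lib.Helper21_Components.IsQuasisimple.normal_eq_top_or_le_center hX N with h | h
  · right; exact h
  · left
    rw [hc] at h
    exact le_bot_iff.mp h

/-- Conditions (3) imply primitivity. -/
theorem prim_of_cores [Finite G] {D : Set G} (hD : Cfsg.IsThreeTranspositionClass D)
    (hD2 : ∃ a ∈ D, ∃ b ∈ D, a ≠ b) (h2 : Cfsg.pCore 2 G = ⊥) (h3 : Cfsg.pCore 3 G = ⊥)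
    (hconn : (Cfsg.commutingGraph D).Connected) : Cfsg.IsPrimitiveUnderConj D := by
  have h2' : Cfsg.pCore 2 G ≤ Subgroup.center G := h2 ▸ bot_le
  have h3' : Cfsg.pCore 3 G ≤ Subgroup.center G := h3 ▸ bot_le
  obtain ⟨L, hLn, hLq, hF, _⟩ := Cfsg.Agent.S5352.result hD hD2 h2' h3'
  have hr := Cfsg.Agent.S5353.result hD hD2 h2' h3' L hLq hF
  exact hr.1 (hr.2 hconn)

/-- Primitivity implies conditions (3). -/
theorem cores_of_prim [Finite G] {D : Set G} (hD : Cfsg.IsThreeTranspositionClass D)
    (hZ : Subgroup.center G = ⊥) (hw : ∃ a ∈ D, ∃ b ∈ D, a ≠ b ∧ Commute a b)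
    (hprim : Cfsg.IsPrimitiveUnderConj D) :
    Cfsg.pCore 2 G = ⊥ ∧ Cfsg.pCore 3 G = ⊥ ∧ (Cfsg.commutingGraph D).Connected := by
  refine ⟨?_, ?_, connected_of_prim hD hprim hw⟩
  · have := pCore_two_le_center_of_prim hD hprim
    rw [hZ] at this
    exact le_bot_iff.mp this
  · have := pCore_three_le_center_of_prim hD hprim hw
    rw [hZ] at this
    exact le_bot_iff.mp this

/-- Primitivity implies that the commutator subgroup is simple. -/
theorem simple_of_prim [Finite G] {D : Set G} (hD : Cfsg.IsThreeTranspositionClass D)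
    (hZ : Subgroup.center G = ⊥) (hw : ∃ a ∈ D, ∃ b ∈ D, a ≠ b ∧ Commute a b)
    (hprim : Cfsg.IsPrimitiveUnderConj D) : IsSimpleGroup (commutator G) := by
  obtain ⟨h2, h3, hconn⟩ := cores_of_prim hD hZ hw hprim
  have hD2 : ∃ a ∈ D, ∃ b ∈ D, a ≠ b := hprim.2.1
  have h2' : Cfsg.pCore 2 G ≤ Subgroup.center G := h2 ▸ bot_le
  have h3' : Cfsg.pCore 3 G ≤ Subgroup.center G := h3 ▸ bot_le
  obtain ⟨L, hLn, hLq, hF, _⟩ := Cfsg.Agent.S5352.result hD hD2 h2' h3'
  obtain ⟨a, ha, b, hb, hab⟩ := hD2
  have hsup : Subgroup.zpowers a ⊔ L = ⊤ := by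
    apply zpowers_sup_eq_top hD L
    intro x hx
    exact mul_mem_of_reachable hD L hLq (hconn.preconnected ⟨a, ha⟩ ⟨x, hx⟩)
  have hle : commutator G ≤ L := commutator_le_of_zpowers_sup L hsup
  -- the centre of `L` is trivial
  have hcL : Subgroup.center ↥L = ⊥ := by
    have h1 := center_map_le_center hD h2' h3' L
    rw [hZ, le_bot_iff] at h1
    exact (Subgroup.map_eq_bot_iff_of_injective _ L.subtype_injective).mp h1
  have hn : ((commutator G).subgroupOf L).Normal := inferInstance
  have heq : commutator G = L := by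
    rcases Cfsg.Agent.Lib.Helper21_Components.IsQuasisimple.normal_eq_top_or_le_center hLq
      ((commutator G).subgroupOf L) with h | h
    · exact le_antisymm hle (Subgroup.subgroupOf_eq_top.mp h)
    · exfalso
      rw [hcL, le_bot_iff, Subgroup.subgroupOf_eq_bot] at h
      have h1 : commutator G = ⊥ := by
        have := h.eq_bot
        rwa [inf_eq_left.mpr hle] at this
      -- `G` is abelian, so `a` is central
      have hac : a ∈ Subgroup.center G := by
        rw [Subgroup.mem_center_iff]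
        intro g
        have h4 : ⁅g, a⁆ ∈ commutator G :=
          Subgroup.commutator_mem_commutator (Subgroup.mem_top g) (Subgroup.mem_top a)
        rw [h1, Subgroup.mem_bot, commutatorElement_eq_one_iff_mul_comm] at h4
        exact h4
      exact hab (eq_of_mem_center hD ha hb hac)
  rw [heq]
  exact isSimpleGroup_of_center_eq_bot hLq hcL

/-- If the commutator subgroup is simple then every normal subgroup is trivial or contains
it. -/
theorem eq_bot_or_commutator_le (hZ : Subgroup.center G = ⊥)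
    (hS : IsSimpleGroup (commutator G)) (N : Subgroup G) [hN : N.Normal] :
    N = ⊥ ∨ commutator G ≤ N := by
  have hn : (N.subgroupOf (commutator G)).Normal := inferInstance
  rcases hn.eq_bot_or_eq_top with h | h
  · left
    rw [Subgroup.subgroupOf_eq_bot] at h
    have h1 : ⁅N, (⊤ : Subgroup G)⁆ ≤ N ⊓ commutator G :=
      le_inf (Subgroup.commutator_le_left _ _)
        (Subgroup.commutator_mono le_top le_rfl)
    rw [h.eq_bot, le_bot_iff, Subgroup.commutator_eq_bot_iff_le_centralizer] at h1
    rw [Subgroup.coe_top, Subgroup.centralizer_univ, hZ, le_bot_iff] at h1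
    exact h1
  · right
    exact Subgroup.subgroupOf_eq_top.mp h

/-- If the commutator subgroup is simple then `G` acts primitively on `D`. -/
theorem prim_of_simple [Finite G] {D : Set G} (hD : Cfsg.IsThreeTranspositionClass D)
    (hZ : Subgroup.center G = ⊥) (hw : ∃ a ∈ D, ∃ b ∈ D, a ≠ b ∧ Commute a b)
    (hS : IsSimpleGroup (commutator G)) : Cfsg.IsPrimitiveUnderConj D := by
  obtain ⟨a, ha, b, hb, hab, hc⟩ := hw
  have hD2 : ∃ a ∈ D, ∃ b ∈ D, a ≠ b := ⟨a, ha, b, hb, hab⟩
  have hai := inv_of_orderOf_two (hD.1.1 a ha)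
  -- products of two members of `D` lie in the commutator subgroup
  have hmul : ∀ x ∈ D, a⁻¹ * x ∈ commutator G := by
    intro x hx
    obtain ⟨g, rfl⟩ := exists_conj hD ha hx
    have h4 : ⁅a⁻¹, g⁆ ∈ commutator G :=
      Subgroup.commutator_mem_commutator (Subgroup.mem_top _) (Subgroup.mem_top g)
    have e : a⁻¹ * (g * a * g⁻¹) = ⁅a⁻¹, g⁆ := by
      rw [commutatorElement_def]; group
    rw [e]; exact h4
  have h2 : Cfsg.pCore 2 G = ⊥ := by
    have hn : (Cfsg.pCore 2 G).Normal := Cfsg.Agent.Lib.Helper1_Cores.pCore_normal 2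
    rcases eq_bot_or_commutator_le hZ hS (Cfsg.pCore 2 G) with h | h
    · exact h
    · exfalso
      have hac : a ∈ Subgroup.center G := by
        apply mem_center_of_mul_mem_pCore_two hD ha
        intro x hx
        have := h (hmul x hx)
        rwa [hai] at this
      exact hab (eq_of_mem_center hD ha hb hac)
  have h3 : Cfsg.pCore 3 G = ⊥ := by
    have hn : (Cfsg.pCore 3 G).Normal := Cfsg.Agent.Lib.Helper1_Cores.pCore_normal 3
    rcases eq_bot_or_commutator_le hZ hS (Cfsg.pCore 3 G) with h | h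
    · exact h
    · exfalso
      apply hab
      apply eq_of_commute_of_mul_mem_pCore_three hD ha hb hc
      have := h (hmul b hb)
      rwa [hai] at this
  have h2' : Cfsg.pCore 2 G ≤ Subgroup.center G := h2 ▸ bot_le
  have h3' : Cfsg.pCore 3 G ≤ Subgroup.center G := h3 ▸ bot_le
  obtain ⟨L, hLn, hLq, hF, _⟩ := Cfsg.Agent.S5352.result hD hD2 h2' h3'
  have hLbot : L ≠ ⊥ := by
    intro h
    apply not_le_center_of_isQuasisimple hLq
    rw [h]; exact bot_le
  have hle : commutator G ≤ L := by
    rcases eq_bot_or_commutator_le hZ hS L with h | h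
    · exact absurd h hLbot
    · exact h
  have hsup : Subgroup.zpowers a ⊔ L = ⊤ :=
    zpowers_sup_eq_top hD L (fun x hx => hle (hmul x hx))
  have hidx : L.index ≤ 2 := index_le_two_of_zpowers_sup (hD.1.1 a ha) L hsup
  exact Cfsg.Agent.S5353.isPrimitive hD hD2 h2' h3' L hLq hF hidx

/-- Let D be a conjugacy class of 3-transpositions generating the finite group G, and suppose the centre of G is trivial and some two different members of D commute. Then the following are equivalent: (1) the commutator subgroup of G is simple (possibly of prime order); (2) G acts primitively on D by conjugation; (3) the largest normal 2-subgroup and the largest normal 3-subgroup of G are trivial and the commuting graph of D is connected. -/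
theorem result {G : Type*} [Group G] [Finite G] {D : Set G} (hD : Cfsg.IsThreeTranspositionClass D) (hZ : Subgroup.center G = ⊥) (hw : ∃ a ∈ D, ∃ b ∈ D, a ≠ b ∧ Commute a b) : (IsSimpleGroup (commutator G) ↔ Cfsg.IsPrimitiveUnderConj D) ∧ (Cfsg.IsPrimitiveUnderConj D ↔ (Cfsg.pCore 2 G = ⊥ ∧ Cfsg.pCore 3 G = ⊥ ∧ (Cfsg.commutingGraph D).Connected)) := by
  have hD2 : ∃ a ∈ D, ∃ b ∈ D, a ≠ b := by
    obtain ⟨a, ha, b, hb, hab, _⟩ := hw
    exact ⟨a, ha, b, hb, hab⟩
  refine ⟨⟨fun hS => prim_of_simple hD hZ hw hS, fun hp => simple_of_prim hD hZ hw hp⟩,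
    ⟨fun hp => cores_of_prim hD hZ hw hp, fun h => prim_of_cores hD hD2 h.1 h.2.1 h.2.2⟩⟩

end Cfsg.Agent.S5361
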