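import Cfsg.Statements.S5363

set_option autoImplicit false
open Cfsg

namespace Cfsg.Agent.S5363

theorem sq_of_order_two {G : Type*} [Group G] {d : G} (h : orderOf d = 2) : d * d = 1 := by
  have := pow_orderOf_eq_one d
  rw [h, pow_two] at this; exact this

/-- Let D be a conjugation-invariant set of involutions of a finite group G. Then every product of two members of D has odd order or order 2 if and only if, for every a in D and every b in D different from a and commuting with a, the members of D commuting with a b are exactly those commuting with both a and b. -/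
theorem result {G : Type*} [Group G] [Finite G] {D : Set G} (hinv : ∀ d ∈ D, orderOf d = 2) (hconj : ∀ g : G, ∀ d ∈ D, g * d * g⁻¹ ∈ D) : (∀ a ∈ D, ∀ b ∈ D, Odd (orderOf (a * b)) ∨ orderOf (a * b) = 2) ↔ ∀ a ∈ D, ∀ b ∈ D, b ≠ a → Commute a b → {y : G | y ∈ D ∧ Commute (a * b) y} = {y : G | y ∈ D ∧ Commute a y} ∩ {y : G | y ∈ D ∧ Commute b y} := by
  constructor
  · intro hodd a ha b hb hba hab
    have haa : a * a = 1 := sq_of_order_two (hinv a ha)
    have hbb : b * b = 1 := sq_of_order_two (hinv b hb)
    have hainv : a⁻¹ = a := inv_eq_of_mul_eq_one_right haa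
    ext y
    constructor
    · rintro ⟨hy, hzy⟩
      have hyy : y * y = 1 := sq_of_order_two (hinv y hy)
      have hyinv : y⁻¹ = y := inv_eq_of_mul_eq_one_right hyy
      -- z = a * b is an involution commuting with a, b, y
      have hz1 : a * b ≠ 1 := by
        intro h
        apply hba
        have : b = a⁻¹ := (inv_eq_of_mul_eq_one_right h).symm
        rw [this, hainv]
      have hzz : (a * b) ^ 2 = 1 := by
        rw [pow_two]
        calc a * b * (a * b) = a * (b * a) * b := by group
          _ = a * (a * b) * b := by rw [hab.eq]
          _ = (a * a) * (b * b) := by group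
          _ = 1 := by rw [haa, hbb, one_mul]
      have hzord : orderOf (a * b) = 2 := orderOf_eq_prime hzz hz1
      have hza : Commute (a * b) a := (Commute.refl a).mul_left hab.symm
      suffices hay : Commute a y by
        refine ⟨⟨hy, hay⟩, hy, ?_⟩
        have : b = a⁻¹ * (a * b) := by group
        rw [this]
        exact (hay.inv_left).mul_left hzy
      rcases hodd a ha y hy with hn | hn
      · -- odd order case
        have hcomm : Commute (a * b) (a * y) := hza.mul_right hzy
        have hby : b * y = (a * b) * (a * y) := by
          calc b * y = (a * a) * b * y := by rw [haa, one_mul]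
            _ = a * (a * b) * y := by group
            _ = (a * b) * a * y := by rw [hza.eq]
            _ = (a * b) * (a * y) := by group
        have hcop : Nat.Coprime (orderOf (a * b)) (orderOf (a * y)) := by
          rw [hzord]
          exact (Nat.coprime_two_left).mpr hn
        have hord : orderOf (b * y) = 2 * orderOf (a * y) := by
          rw [hby, hcomm.orderOf_mul_eq_mul_orderOf_of_coprime hcop, hzord]
        rcases hodd b hb y hy with h2 | h2
        · exfalso
          rw [hord] at h2
          exact (Nat.not_odd_iff_even.mpr (even_two_mul _)) h2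
        · rw [hord] at h2
          have h1 : orderOf (a * y) = 1 := by omega
          have h1' : a * y = 1 := orderOf_eq_one_iff.mp h1
          have : y = a := by
            have : y = a⁻¹ := (inv_eq_of_mul_eq_one_right h1').symm
            rw [this, hainv]
          rw [this]
      · -- order two case
        have h2 : (a * y) ^ 2 = 1 := by
          rw [← hn]; exact pow_orderOf_eq_one _
        rw [pow_two] at h2
        show a * y = y * a
        have : a * y = (a * y)⁻¹ := (inv_eq_of_mul_eq_one_right h2).symm
        rw [this, mul_inv_rev, hainv, hyinv]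
    · rintro ⟨⟨hy, hay⟩, _, hby⟩
      exact ⟨hy, hay.mul_left hby⟩
  · intro hcent a ha b hb
    by_contra hcon
    push Not at hcon
    obtain ⟨hnodd, hn2⟩ := hcon
    have haa : a * a = 1 := sq_of_order_two (hinv a ha)
    have hbb : b * b = 1 := sq_of_order_two (hinv b hb)
    have hainv : a⁻¹ = a := inv_eq_of_mul_eq_one_right haa
    have hbinv : b⁻¹ = b := inv_eq_of_mul_eq_one_right hbb
    have heven : Even (orderOf (a * b)) := Nat.not_odd_iff_even.mp hnodd
    obtain ⟨m, hm⟩ := heven
    have hpos : 0 < orderOf (a * b) := orderOf_pos _
    have hm2 : 2 ≤ m := by omega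
    set r := a * b with hr
    -- conjugation by a inverts r
    have hconj_r : a * r * a⁻¹ = r⁻¹ := by
      rw [hr, mul_inv_rev, hainv, hbinv]
      calc a * (a * b) * a = (a * a) * b * a := by group
        _ = b * a := by rw [haa, one_mul]
    have hconj_pow : ∀ j : ℕ, a * r ^ j * a⁻¹ = (r ^ j)⁻¹ := by
      intro j
      rw [← conj_pow, hconj_r, inv_pow]
    have hshift : ∀ j : ℕ, (r ^ j)⁻¹ * a = a * r ^ j := by
      intro j
      rw [← hconj_pow j]; group
    set z := r ^ m with hz
    have hz1 : z ≠ 1 := by
      apply pow_ne_one_of_lt_orderOf (by omega)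
      omega
    have hzz : z * z = 1 := by
      rw [hz, ← pow_add, ← hm]; exact pow_orderOf_eq_one _
    have hzinv : z⁻¹ = z := inv_eq_of_mul_eq_one_right hzz
    have hza : Commute a z := by
      show a * z = z * a
      have h1 : a * z * a⁻¹ = z⁻¹ := hconj_pow m
      rw [hzinv] at h1
      calc a * z = (a * z * a⁻¹) * a := by group
        _ = z * a := by rw [h1]
    have hzr : Commute z r := by
      rw [hz]; exact (Commute.refl r).pow_left m
    have hzb : Commute z b := by
      have : b = a⁻¹ * r := by rw [hr]; group
      rw [this]
      exact (hza.symm.inv_right).mul_right hzr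
    -- a * z ∈ D
    have haz : a * z ∈ D := by
      rcases Nat.even_or_odd' m with ⟨j, hj | hj⟩
      · have : a * z = (r ^ j)⁻¹ * a * ((r ^ j)⁻¹)⁻¹ := by
          rw [inv_inv, hshift j, hz, hj, two_mul, pow_add, mul_assoc]
        rw [this]
        exact hconj _ a ha
      · have : a * z = (r ^ j)⁻¹ * b * ((r ^ j)⁻¹)⁻¹ := by
          have hb' : b = a * r := by
            rw [hr, ← mul_assoc, haa, one_mul]
          rw [inv_inv]
          calc a * z = a * r ^ (2 * j + 1) := by rw [hz, hj]
            _ = a * r ^ j * r * r ^ j := by
                have h3 : 2 * j + 1 = j + 1 + j := by ring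
                rw [h3, pow_add, pow_add, pow_one]
                simp only [mul_assoc]
            _ = (r ^ j)⁻¹ * a * r * r ^ j := by rw [hshift j]
            _ = (r ^ j)⁻¹ * b * r ^ j := by rw [hb']; group
        rw [this]
        exact hconj _ b hb
    have hne : a * z ≠ a := by
      intro h
      apply hz1
      have := mul_left_cancel (a := a) (b := z) (c := 1) (by rw [h, mul_one])
      exact this
    have hcomm : Commute a (a * z) := (Commute.refl a).mul_right hza
    have hset := hcent a ha (a * z) haz hne hcomm
    have hb_in : b ∈ {y : G | y ∈ D ∧ Commute (a * (a * z)) y} := by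
      refine ⟨hb, ?_⟩
      have : a * (a * z) = z := by rw [← mul_assoc, haa, one_mul]
      rw [this]; exact hzb
    rw [hset] at hb_in
    have hab : Commute a b := hb_in.1.2
    have hr2 : r ^ 2 = 1 := by
      rw [pow_two, hr]
      calc a * b * (a * b) = a * (b * a) * b := by group
        _ = a * (a * b) * b := by rw [hab.eq]
        _ = (a * a) * (b * b) := by group
        _ = 1 := by rw [haa, hbb, one_mul]
    have hdvd : orderOf r ∣ 2 := orderOf_dvd_of_pow_eq_one hr2
    have := Nat.le_of_dvd (by norm_num) hdvd
    omega

end Cfsg.Agent.S5363
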