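import Mathlib
import Cfsg.Statements.S5365
import Cfsg.Agent.Lib.Helper89_Theta
import Cfsg.Agent.Lib.Helper89_LineBasics
import Cfsg.Agent.Lib.Helper89_LineLocal
import Cfsg.Agent.Lib.Helper89_LinePetersen
import Cfsg.Agent.Lib.Helper89_LineK33

set_option autoImplicit false
open Cfsg

namespace Cfsg.Agent.S5365

open Cfsg.Agent.Lib.Helper89_Theta Cfsg.Agent.Lib.Helper89_LineBasics
  Cfsg.Agent.Lib.Helper89_LineLocal Cfsg.Agent.Lib.Helper89_LinePetersen
  Cfsg.Agent.Lib.Helper89_LineK33

/-- Let D be a non-empty conjugation-invariant set of involutions of a finite group G satisfying the 3-transposition order conditions, and suppose that for every d in D the members of D other than d commuting with d generate a subgroup isomorphic to the symmetric group of degree 3, and the largest normal 3-subgroup of the centralizer of d has order 3. Then the subgroup generated by D is isomorphic to the symmetric group of degree 5 or to the direct product of two symmetric groups of degree 3. -/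
theorem result {G : Type*} [Group G] [Finite G] {D : Set G} (hD : Cfsg.IsThreeTranspositionSet D) (hconj : ∀ g : G, ∀ d ∈ D, g * d * g⁻¹ ∈ D) (hne : D.Nonempty) (hloc : ∀ d ∈ D, Nonempty (↥(Subgroup.closure {y : G | y ∈ D ∧ y ≠ d ∧ Commute d y}) ≃* Equiv.Perm (Fin 3)) ∧ Nat.card (Cfsg.pCore 3 ↥(Subgroup.centralizer ({d} : Set G))) = 3) : Nonempty (↥(Subgroup.closure D) ≃* Equiv.Perm (Fin 5)) ∨ Nonempty (↥(Subgroup.closure D) ≃* Equiv.Perm (Fin 3) × Equiv.Perm (Fin 3)) := by
  have h : LineHyp D := lineHyp_of_local hD hconj (fun d hd => (hloc d hd).1)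
  by_cases hK : KHyp D
  · right
    exact nonempty_mulEquiv_of_KHyp h hK (fun d hd => (hloc d hd).2) (fun d hd => (hloc d hd).1) hne
  · left
    unfold KHyp at hK
    push Not at hK
    obtain ⟨x, hx, a, ha, c, hc, hca, x', hx', hx'x, hnc⟩ := hK
    exact nonempty_mulEquiv_of_not_commute h hx ha hc hca hx' hx'x hnc

end Cfsg.Agent.S5365
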