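import Cfsg.Statements.S5366

set_option autoImplicit false
open Cfsg Cfsg.LineSystem

namespace Cfsg.Agent.S5366

variable {X : Type*}

/-! ### Basic facts on lines with three points in a partial linear space -/

theorem third_unique {L : Set (Set X)} (hpl : IsPartialLinear L) {x y z z' : X} (hxy : x ≠ y)
    (hl : ({x, y, z} : Set X) ∈ L) (hz'x : z' ≠ x) (hz'y : z' ≠ y)
    (hl' : ({x, y, z'} : Set X) ∈ L) : z = z' := by
  have h := hpl _ hl _ hl' x y hxy (by simp) (by simp) (by simp) (by simp)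
  have hz'mem : z' ∈ ({x, y, z} : Set X) := by
    rw [h]; simp
  simp only [Set.mem_insert_iff, Set.mem_singleton_iff] at hz'mem
  rcases hz'mem with h1 | h1 | h1
  · exact absurd h1 hz'x
  · exact absurd h1 hz'y
  · exact h1.symm

theorem lineMap_of_line {L : Set (Set X)} (hpl : IsPartialLinear L) {x y z : X} (hxy : x ≠ y)
    (hzx : z ≠ x) (hzy : z ≠ y) (hl : ({x, y, z} : Set X) ∈ L) : lineMap L x y = z := by
  have h : ∃ z : X, z ≠ x ∧ z ≠ y ∧ x ≠ y ∧ ({x, y, z} : Set X) ∈ L := ⟨z, hzx, hzy, hxy, hl⟩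
  have hs := h.choose_spec
  have : lineMap L x y = h.choose := by
    unfold lineMap
    simp only [dif_pos h]
  rw [this]
  exact (third_unique hpl hxy hl hs.1 hs.2.1 hs.2.2.2).symm

theorem lineMap_of_not {L : Set (Set X)} {x y : X}
    (h : ¬ ∃ z : X, z ≠ x ∧ z ≠ y ∧ x ≠ y ∧ ({x, y, z} : Set X) ∈ L) : lineMap L x y = y := by
  unfold lineMap
  simp only [dif_neg h]

theorem lineMap_self {L : Set (Set X)} (x : X) : lineMap L x x = x := by
  apply lineMap_of_not
  rintro ⟨z, _, _, h, _⟩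
  exact h rfl

/-- the points of a line through `x` -/
theorem line_through {L : Set (Set X)} (h3 : ∀ l ∈ L, l.ncard = 3) {l : Set X} (hl : l ∈ L) {x : X}
    (hx : x ∈ l) : ∃ y z : X, y ≠ x ∧ z ≠ x ∧ y ≠ z ∧ l = {x, y, z} := by
  obtain ⟨a, b, c, hab, hac, hbc, rfl⟩ := Set.ncard_eq_three.mp (h3 l hl)
  simp only [Set.mem_insert_iff, Set.mem_singleton_iff] at hx
  rcases hx with rfl | rfl | rfl
  · exact ⟨b, c, hab.symm, hac.symm, hbc, rfl⟩
  · refine ⟨a, c, hab, hbc.symm, hac, ?_⟩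
    ext t
    simp only [Set.mem_insert_iff, Set.mem_singleton_iff]
    tauto
  · refine ⟨a, b, hac, hbc, hab, ?_⟩
    ext t
    simp only [Set.mem_insert_iff, Set.mem_singleton_iff]
    tauto

/-- the points of a line through two different points -/
theorem line_through_two {L : Set (Set X)} (h3 : ∀ l ∈ L, l.ncard = 3) {l : Set X} (hl : l ∈ L)
    {x y : X} (hx : x ∈ l) (hy : y ∈ l) (hxy : x ≠ y) :
    ∃ z : X, z ≠ x ∧ z ≠ y ∧ l = {x, y, z} := by
  obtain ⟨a, b, hax, hbx, hab, rfl⟩ := line_through h3 hl hx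
  simp only [Set.mem_insert_iff, Set.mem_singleton_iff] at hy
  rcases hy with rfl | rfl | rfl
  · exact absurd rfl hxy
  · exact ⟨b, hbx, hab.symm, rfl⟩
  · refine ⟨a, hax, hab, ?_⟩
    congr 1
    rw [Set.pair_comm]

theorem lineMap_involutive {L : Set (Set X)} (hpl : IsPartialLinear L) (x : X) :
    Function.Involutive (lineMap L x) := by
  intro y
  by_cases h : ∃ z : X, z ≠ x ∧ z ≠ y ∧ x ≠ y ∧ ({x, y, z} : Set X) ∈ L
  · obtain ⟨z, hzx, hzy, hxy, hl⟩ := h
    rw [lineMap_of_line hpl hxy hzx hzy hl]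
    apply lineMap_of_line hpl hzx.symm hxy.symm hzy.symm
    have : ({x, z, y} : Set X) = {x, y, z} := by
      congr 1
      rw [Set.pair_comm]
    rw [this]; exact hl
  · rw [lineMap_of_not h, lineMap_of_not h]

/-- the permutation `t(x)` -/
noncomputable def tPerm {L : Set (Set X)} (hpl : IsPartialLinear L) (x : X) : Equiv.Perm X :=
  (lineMap_involutive hpl x).toPerm

theorem tPerm_apply {L : Set (Set X)} (hpl : IsPartialLinear L) (x y : X) :
    tPerm hpl x y = lineMap L x y := rfl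

theorem tPerm_mul_self {L : Set (Set X)} (hpl : IsPartialLinear L) (x : X) :
    tPerm hpl x * tPerm hpl x = 1 := by
  ext y
  exact lineMap_involutive hpl x y

theorem tPerm_inv {L : Set (Set X)} (hpl : IsPartialLinear L) (x : X) :
    (tPerm hpl x)⁻¹ = tPerm hpl x :=
  inv_eq_of_mul_eq_one_right (tPerm_mul_self hpl x)

theorem tPerm_orderOf {L : Set (Set X)} (hpl : IsPartialLinear L) (h3 : ∀ l ∈ L, l.ncard = 3)
    (hnd : IsNondegenerate L) (x : X) : orderOf (tPerm hpl x) = 2 := by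
  apply orderOf_eq_prime
  · rw [pow_two]; exact tPerm_mul_self hpl x
  · obtain ⟨l, hl, hx⟩ := hnd x
    obtain ⟨y, z, hyx, hzx, hyz, rfl⟩ := line_through h3 hl hx
    intro h
    have h1 : tPerm hpl x y = z := lineMap_of_line hpl hyx.symm hzx hyz.symm hl
    rw [h] at h1
    exact hyz h1

/-- automorphisms commute with the formation of `t(x)` -/
theorem lineMap_map {L : Set (Set X)} (hpl : IsPartialLinear L) (σ : Equiv.Perm X)
    (hσ : IsIso L L σ) (x y : X) : lineMap L (σ x) (σ y) = σ (lineMap L x y) := by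
  have himg : ∀ a b c : X, σ '' ({a, b, c} : Set X) = {σ a, σ b, σ c} := by
    intro a b c
    simp [Set.image_insert_eq]
  by_cases h : ∃ z : X, z ≠ x ∧ z ≠ y ∧ x ≠ y ∧ ({x, y, z} : Set X) ∈ L
  · obtain ⟨z, hzx, hzy, hxy, hl⟩ := h
    rw [lineMap_of_line hpl hxy hzx hzy hl]
    apply lineMap_of_line hpl (σ.injective.ne hxy) (σ.injective.ne hzx) (σ.injective.ne hzy)
    rw [← himg]
    exact (hσ _).mp hl
  · rw [lineMap_of_not h]
    apply lineMap_of_not
    rintro ⟨w, hwx, hwy, hxy, hl⟩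
    apply h
    refine ⟨σ.symm w, ?_, ?_, ?_, ?_⟩
    · intro h1; apply hwx; rw [← h1]; simp
    · intro h1; apply hwy; rw [← h1]; simp
    · intro h1; apply hxy; rw [h1]
    · rw [hσ, himg]
      simpa using hl

theorem tPerm_conj {L : Set (Set X)} (hpl : IsPartialLinear L) (σ : Equiv.Perm X)
    (hσ : IsIso L L σ) (x : X) : σ * tPerm hpl x * σ⁻¹ = tPerm hpl (σ x) := by
  ext y
  simp only [Equiv.Perm.mul_apply, tPerm_apply]
  have := lineMap_map hpl σ hσ x (σ⁻¹ y)
  rw [← this]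
  simp

/-- abstract description of the maps `t(ξ)` of a model line system -/
structure IsModel {Y : Type*} (M : Set (Set Y)) (T : Y → Y → Y) : Prop where
  coll : ∀ ξ π ζ : Y, ζ ≠ ξ → ζ ≠ π → ξ ≠ π → ({ξ, π, ζ} : Set Y) ∈ M →
    T ξ π ≠ ξ ∧ T ξ π ≠ π ∧ ({ξ, π, T ξ π} : Set Y) ∈ M
  ncoll : ∀ ξ π : Y, (¬ ∃ ζ : Y, ζ ≠ ξ ∧ ζ ≠ π ∧ ξ ≠ π ∧ ({ξ, π, ζ} : Set Y) ∈ M) → T ξ π = π
  image : ∀ ξ : Y, ∀ l ∈ M, T ξ '' l ∈ M

theorem isSubspace_span (L : Set (Set X)) (A : Set X) : IsSubspace L (span L A) := by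
  intro l hl a ha b hb hab hal hbl p hp
  simp only [span, Set.mem_sInter, Set.mem_ofPred_eq] at ha hb ⊢
  intro T hT
  exact hT.2 l hl a (ha T hT) b (hb T hT) hab hal hbl hp

theorem subset_span (L : Set (Set X)) (A : Set X) : A ⊆ span L A := by
  intro a ha
  simp only [span, Set.mem_sInter, Set.mem_ofPred_eq]
  intro T hT
  exact hT.1 ha

section transport

variable {L : Set (Set X)} {Y : Type*} {M : Set (Set Y)} {S : Set X} (e : S ≃ Y)
  (he : IsIso (restrict L S) M e)

include he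

theorem iso_push {l : Set X} (hl : l ∈ L) (hlS : l ⊆ S) : e '' {q : S | (q : X) ∈ l} ∈ M :=
  (he _).mp ⟨l, hl, hlS, rfl⟩

theorem iso_pull {m : Set Y} (hm : m ∈ M) : Subtype.val '' (e.symm '' m) ∈ L := by
  have h1 : e.symm '' m ∈ restrict L S := by
    rw [he]
    rw [← Set.image_comp]
    simpa using hm
  obtain ⟨l, hl, hlS, h2⟩ := h1
  rw [h2]
  convert hl
  ext p
  simp only [Set.mem_image, Set.mem_ofPred_eq, Subtype.exists, exists_and_left, exists_prop,
    exists_eq_right_right]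
  exact ⟨fun h => h.1, fun h => ⟨h, hlS h⟩⟩

theorem iso_push_triple {a b c : X} (ha : a ∈ S) (hb : b ∈ S) (hc : c ∈ S)
    (hl : ({a, b, c} : Set X) ∈ L) : ({e ⟨a, ha⟩, e ⟨b, hb⟩, e ⟨c, hc⟩} : Set Y) ∈ M := by
  have hsub : ({a, b, c} : Set X) ⊆ S := by
    intro p hp
    simp only [Set.mem_insert_iff, Set.mem_singleton_iff] at hp
    rcases hp with rfl | rfl | rfl <;> assumption
  convert iso_push e he hl hsub using 1
  ext y
  simp only [Set.mem_insert_iff, Set.mem_singleton_iff, Set.mem_image, Set.mem_ofPred_eq,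
    Subtype.exists]
  constructor
  · rintro (rfl | rfl | rfl)
    · exact ⟨a, ha, Or.inl rfl, rfl⟩
    · exact ⟨b, hb, Or.inr (Or.inl rfl), rfl⟩
    · exact ⟨c, hc, Or.inr (Or.inr rfl), rfl⟩
  · rintro ⟨p, hp, (rfl | rfl | rfl), rfl⟩
    · exact Or.inl rfl
    · exact Or.inr (Or.inl rfl)
    · exact Or.inr (Or.inr rfl)

theorem iso_pull_triple {α β γ : Y} (hm : ({α, β, γ} : Set Y) ∈ M) :
    ({((e.symm α : S) : X), ((e.symm β : S) : X), ((e.symm γ : S) : X)} : Set X) ∈ L := by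
  convert iso_pull e he hm using 1
  simp [Set.image_insert_eq]

end transport


/-! ### the two model planes -/

/-- decidable form of "`{ξ, π, ζ}` is a line of the dual affine plane" -/
def dapLine (ξ π ζ : DualAffinePoint) : Prop :=
  ∃ i : Fin 4, ∀ s : DualAffinePoint, (s = ξ ∨ s = π ∨ s = ζ) ↔ i ∉ s.val

instance (ξ π ζ : DualAffinePoint) : Decidable (dapLine ξ π ζ) := by
  unfold dapLine; infer_instance

theorem dapLine_iff (ξ π ζ : DualAffinePoint) :
    ({ξ, π, ζ} : Set DualAffinePoint) ∈ dualAffinePlaneTwo ↔ dapLine ξ π ζ := by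
  unfold dualAffinePlaneTwo dapLine
  simp only [Set.mem_ofPred_eq, Set.ext_iff, Set.mem_insert_iff, Set.mem_singleton_iff]

/-- the map `t(ξ)` in the dual affine plane -/
def dapT (ξ π : DualAffinePoint) : DualAffinePoint :=
  if h : (symmDiff ξ.val π.val).card = 2 then ⟨symmDiff ξ.val π.val, h⟩ else π

set_option maxRecDepth 1000000 in
theorem dap_coll : ∀ ξ π ζ : DualAffinePoint, ζ ≠ ξ → ζ ≠ π → ξ ≠ π → dapLine ξ π ζ →
    dapT ξ π ≠ ξ ∧ dapT ξ π ≠ π ∧ dapLine ξ π (dapT ξ π) := by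
  decide

set_option maxRecDepth 1000000 in
theorem dap_ncoll : ∀ ξ π : DualAffinePoint,
    (¬ ∃ ζ : DualAffinePoint, ζ ≠ ξ ∧ ζ ≠ π ∧ ξ ≠ π ∧ dapLine ξ π ζ) → dapT ξ π = π := by
  decide

set_option maxRecDepth 1000000 in
theorem dap_image : ∀ (ξ : DualAffinePoint) (i : Fin 4), ∃ j : Fin 4, ∀ s : DualAffinePoint,
    (∃ r : DualAffinePoint, i ∉ r.val ∧ dapT ξ r = s) ↔ j ∉ s.val := by
  decide

theorem dap_isModel : IsModel dualAffinePlaneTwo dapT where
  coll := by
    intro ξ π ζ h1 h2 h3 h4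
    rw [dapLine_iff] at h4 ⊢
    exact dap_coll ξ π ζ h1 h2 h3 h4
  ncoll := by
    intro ξ π h
    apply dap_ncoll
    simpa only [dapLine_iff] using h
  image := by
    rintro ξ l ⟨i, rfl⟩
    obtain ⟨j, hj⟩ := dap_image ξ i
    refine ⟨j, ?_⟩
    ext s
    simp only [Set.mem_image, Set.mem_ofPred_eq]
    exact hj s

/-- the map `t(ξ)` in the affine plane of order three -/
def apT (ξ π : Fin 2 → ZMod 3) : Fin 2 → ZMod 3 := -ξ - π

theorem zmod3_a : ∀ a b : ZMod 3, -a - b = a + 2 * (b - a) := by decide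
theorem zmod3_b : ∀ a b : ZMod 3, -a - b = a → a = b := by decide
theorem zmod3_c : ∀ a b : ZMod 3, -a - b = b → a = b := by decide
theorem zmod3_d : ∀ a : ZMod 3, -a - a = a := by decide
theorem zmod3_e : ∀ c : ZMod 3, c = 0 ∨ c = 1 ∨ c = 2 := by decide

theorem ap_ne_left {ξ π : Fin 2 → ZMod 3} (h : ξ ≠ π) : apT ξ π ≠ ξ := by
  intro h1
  apply h
  funext i
  have := congrFun h1 i
  exact zmod3_b _ _ this

theorem ap_ne_right {ξ π : Fin 2 → ZMod 3} (h : ξ ≠ π) : apT ξ π ≠ π := by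
  intro h1
  apply h
  funext i
  have := congrFun h1 i
  exact zmod3_c _ _ this

theorem ap_line {ξ π : Fin 2 → ZMod 3} (h : ξ ≠ π) :
    ({ξ, π, apT ξ π} : Set (Fin 2 → ZMod 3)) ∈ affinePlaneThree := by
  refine ⟨ξ, π - ξ, sub_ne_zero.mpr h.symm, ?_⟩
  ext p
  simp only [Set.mem_insert_iff, Set.mem_singleton_iff, Set.mem_ofPred_eq]
  constructor
  · rintro (rfl | rfl | rfl)
    · exact ⟨0, by simp⟩
    · exact ⟨1, by simp⟩
    · refine ⟨2, ?_⟩
      funext i
      simp only [apT, Pi.sub_apply, Pi.neg_apply, Pi.add_apply, Pi.smul_apply, smul_eq_mul]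
      exact zmod3_a _ _
  · rintro ⟨c, rfl⟩
    rcases zmod3_e c with rfl | rfl | rfl
    · left; simp
    · right; left; simp
    · right; right
      funext i
      simp only [apT, Pi.sub_apply, Pi.neg_apply, Pi.add_apply, Pi.smul_apply, smul_eq_mul]
      exact (zmod3_a _ _).symm

theorem ap_isModel : IsModel affinePlaneThree apT where
  coll := by
    intro ξ π ζ _ _ h3 _
    exact ⟨ap_ne_left h3, ap_ne_right h3, ap_line h3⟩
  ncoll := by
    intro ξ π h
    by_cases h1 : ξ = π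
    · subst h1
      funext i
      exact zmod3_d _
    · exfalso
      exact h ⟨apT ξ π, ap_ne_left h1, ap_ne_right h1, h1, ap_line h1⟩
  image := by
    rintro ξ l ⟨v, w, hw, rfl⟩
    refine ⟨-ξ - v, -w, neg_ne_zero.mpr hw, ?_⟩
    ext p
    simp only [Set.mem_image, Set.mem_ofPred_eq]
    constructor
    · rintro ⟨q, ⟨c, rfl⟩, rfl⟩
      refine ⟨c, ?_⟩
      unfold apT
      rw [smul_neg]
      abel
    · rintro ⟨c, rfl⟩
      refine ⟨v + c • w, ⟨c, rfl⟩, ?_⟩
      unfold apT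
      rw [smul_neg]
      abel


/-! ### transport of the model facts to a plane of `L` -/

section plane

variable {L : Set (Set X)} (hpl : IsPartialLinear L) {Y : Type*} {M : Set (Set Y)}
  {T : Y → Y → Y} (hM : IsModel M T) {S : Set X} (hS : IsSubspace L S) (e : S ≃ Y)
  (he : IsIso (restrict L S) M e)

include hpl hM hS he

theorem lineMap_eq_model {x p : X} (hx : x ∈ S) (hp : p ∈ S) :
    lineMap L x p = ((e.symm (T (e ⟨x, hx⟩) (e ⟨p, hp⟩)) : S) : X) := by
  by_cases h : ∃ z : X, z ≠ x ∧ z ≠ p ∧ x ≠ p ∧ ({x, p, z} : Set X) ∈ L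
  · obtain ⟨z, hzx, hzp, hxp, hl⟩ := h
    have hz : z ∈ S := hS _ hl x hx p hp hxp (by simp) (by simp) (by simp)
    have h1 := iso_push_triple e he hx hp hz hl
    have hne1 : e ⟨z, hz⟩ ≠ e ⟨x, hx⟩ := fun h => hzx (by simpa using h)
    have hne2 : e ⟨z, hz⟩ ≠ e ⟨p, hp⟩ := fun h => hzp (by simpa using h)
    have hne3 : e ⟨x, hx⟩ ≠ e ⟨p, hp⟩ := fun h => hxp (by simpa using h)
    obtain ⟨h2, h3, h4⟩ := hM.coll _ _ _ hne1 hne2 hne3 h1
    have h5 := iso_pull_triple e he h4
    simp only [Equiv.symm_apply_apply] at h5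
    apply lineMap_of_line hpl hxp _ _ h5
    · intro h6
      apply h2
      rw [← e.symm.injective.eq_iff, Equiv.symm_apply_apply]
      exact Subtype.ext h6
    · intro h6
      apply h3
      rw [← e.symm.injective.eq_iff, Equiv.symm_apply_apply]
      exact Subtype.ext h6
  · rw [lineMap_of_not h]
    have h1 : ¬ ∃ ζ : Y, ζ ≠ e ⟨x, hx⟩ ∧ ζ ≠ e ⟨p, hp⟩ ∧ e ⟨x, hx⟩ ≠ e ⟨p, hp⟩ ∧
        ({e ⟨x, hx⟩, e ⟨p, hp⟩, ζ} : Set Y) ∈ M := by
      rintro ⟨ζ, h2, h3, h4, h5⟩
      apply h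
      have h6 := iso_pull_triple e he h5
      simp only [Equiv.symm_apply_apply] at h6
      refine ⟨_, ?_, ?_, ?_, h6⟩
      · intro h7
        apply h2
        rw [← e.symm.injective.eq_iff, Equiv.symm_apply_apply]
        exact Subtype.ext h7
      · intro h7
        apply h3
        rw [← e.symm.injective.eq_iff, Equiv.symm_apply_apply]
        exact Subtype.ext h7
      · intro h7
        apply h4
        subst h7
        rfl
    rw [hM.ncoll _ _ h1]
    simp

theorem image_mem_of_model {x : X} (hx : x ∈ S) {l : Set X} (hl : l ∈ L) (hlS : l ⊆ S) :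
    lineMap L x '' l ∈ L := by
  have h1 := iso_pull e he (hM.image (e ⟨x, hx⟩) _ (iso_push e he hl hlS))
  convert h1 using 1
  ext p
  simp only [Set.mem_image, Set.mem_ofPred_eq, Subtype.exists, exists_and_right, exists_eq_right]
  constructor
  · rintro ⟨a, ha, rfl⟩
    have h2 := lineMap_eq_model hpl hM hS e he hx (hlS ha)
    refine ⟨?_, _, ⟨_, ⟨a, hlS ha, ha, rfl⟩, rfl⟩, ?_⟩
    · rw [h2]; exact Subtype.coe_prop _
    · exact Subtype.ext h2.symm
  · rintro ⟨hpS, q, ⟨r, ⟨a, haS, ha, rfl⟩, rfl⟩, h2⟩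
    refine ⟨a, ha, ?_⟩
    rw [lineMap_eq_model hpl hM hS e he hx haS, h2]

end plane


/-! ### `t(x)` is an automorphism -/

theorem image_line_mem {L : Set (Set X)} (hL : IsFischerSpace L) (x : X) {l : Set X}
    (hl : l ∈ L) : lineMap L x '' l ∈ L := by
  obtain ⟨hpl, h3, hF⟩ := hL
  by_cases hx : x ∈ l
  · -- a line through `x` is fixed
    obtain ⟨y, z, hyx, hzx, hyz, rfl⟩ := line_through h3 hl hx
    have h1 : lineMap L x y = z := lineMap_of_line hpl hyx.symm hzx hyz.symm hl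
    have h2 : lineMap L x z = y := by
      apply lineMap_of_line hpl hzx.symm hyx hyz
      have : ({x, z, y} : Set X) = {x, y, z} := by
        congr 1
        rw [Set.pair_comm]
      rw [this]; exact hl
    have h4 : lineMap L x '' {x, y, z} = {x, y, z} := by
      simp only [Set.image_insert_eq, Set.image_singleton, lineMap_self, h1, h2]
      congr 1
      rw [Set.pair_comm]
    rw [h4]; exact hl
  · by_cases hc : ∃ y ∈ l, ∃ m ∈ L, x ∈ m ∧ y ∈ m
    · obtain ⟨y, hyl, m, hm, hxm, hym⟩ := hc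
      have hlm : l ≠ m := by
        rintro rfl
        exact hx hxm
      have hsub : l ∪ m ⊆ span L (l ∪ m) := subset_span L _
      have hxS : x ∈ span L (l ∪ m) := hsub (Or.inr hxm)
      have hlS : l ⊆ span L (l ∪ m) := fun p hp => hsub (Or.inl hp)
      rcases hF l hl m hm hlm ⟨y, hyl, hym⟩ with ⟨e, he⟩ | ⟨e, he⟩
      · exact image_mem_of_model hpl dap_isModel (isSubspace_span L _) e he hxS hl hlS
      · exact image_mem_of_model hpl ap_isModel (isSubspace_span L _) e he hxS hl hlS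
    · -- no point of `l` is collinear with `x`
      have h1 : ∀ p ∈ l, lineMap L x p = p := by
        intro p hp
        apply lineMap_of_not
        rintro ⟨z, _, _, _, hz⟩
        exact hc ⟨p, hp, _, hz, by simp, by simp⟩
      have h2 : lineMap L x '' l = l := by
        ext p
        simp only [Set.mem_image]
        constructor
        · rintro ⟨a, ha, rfl⟩
          rw [h1 a ha]; exact ha
        · intro hp
          exact ⟨p, hp, h1 p hp⟩
      rw [h2]; exact hl

theorem tPerm_isIso {L : Set (Set X)} (hL : IsFischerSpace L) (x : X) :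
    IsIso L L (tPerm hL.1 x) := by
  intro l
  constructor
  · intro hl
    exact image_line_mem hL x hl
  · intro hl
    have h1 := image_line_mem hL x hl
    have h2 : lineMap L x '' (⇑(tPerm hL.1 x) '' l) = l := by
      rw [← Set.image_comp]
      have : lineMap L x ∘ ⇑(tPerm hL.1 x) = id := by
        funext p
        exact lineMap_involutive hL.1 x p
      rw [this, Set.image_id]
    rwa [h2] at h1

/-! ### the 3-transposition property -/

theorem tPerm_prod {L : Set (Set X)} (hL : IsFischerSpace L) (x y : X) :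
    (tPerm hL.1 x * tPerm hL.1 y) ^ 2 = 1 ∨ (tPerm hL.1 x * tPerm hL.1 y) ^ 3 = 1 := by
  have hpl := hL.1
  set a := tPerm hL.1 x with ha
  set b := tPerm hL.1 y with hb
  have haa : a * a = 1 := tPerm_mul_self hpl x
  have hbb : b * b = 1 := tPerm_mul_self hpl y
  have hainv : a⁻¹ = a := tPerm_inv hpl x
  have hbinv : b⁻¹ = b := tPerm_inv hpl y
  by_cases h : ∃ z : X, z ≠ x ∧ z ≠ y ∧ x ≠ y ∧ ({x, y, z} : Set X) ∈ L
  · right
    obtain ⟨z, hzx, hzy, hxy, hl⟩ := h
    have h1 : a y = z := lineMap_of_line hpl hxy hzx hzy hl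
    have h2 : b x = z := by
      apply lineMap_of_line hpl hxy.symm hzy hzx
      have : ({y, x, z} : Set X) = {x, y, z} := Set.insert_comm _ _ _
      rw [this]; exact hl
    have h3 : a * b * a = tPerm hpl z := by
      have := tPerm_conj hpl a (tPerm_isIso hL x) y
      rw [hainv, h1] at this
      exact this
    have h4 : b * a * b = tPerm hpl z := by
      have := tPerm_conj hpl b (tPerm_isIso hL y) x
      rw [hbinv, h2] at this
      exact this
    have h5 : a * b * a = b * a * b := h3.trans h4.symm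
    calc (a * b) ^ 3 = (a * b * a) * b * a * b := by simp only [pow_succ, pow_zero, one_mul, mul_assoc]
      _ = b * (a * (b * b) * a) * b := by rw [h5]; simp only [mul_assoc]
      _ = 1 := by rw [hbb, mul_one, haa, mul_one, hbb]
  · left
    have h1 : a y = y := lineMap_of_not h
    have h3 : a * b * a = b := by
      have := tPerm_conj hpl a (tPerm_isIso hL x) y
      rw [hainv, h1] at this
      exact this
    calc (a * b) ^ 2 = (a * b * a) * b := by simp only [pow_succ, pow_zero, one_mul, mul_assoc]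
      _ = 1 := by rw [h3, hbb]

theorem result {X : Type*} (L : Set (Set X)) (hL : Cfsg.IsFischerSpace L) (hnd : Cfsg.LineSystem.IsNondegenerate L) : (∀ x : X, ∃ σ : Equiv.Perm X, ⇑σ = Cfsg.LineSystem.lineMap L x ∧ orderOf σ = 2 ∧ Cfsg.LineSystem.IsIso L L σ) ∧ Cfsg.IsThreeTranspositionSet {σ : Equiv.Perm X | ∃ x : X, ⇑σ = Cfsg.LineSystem.lineMap L x} := by
  have key : ∀ σ : Equiv.Perm X, ∀ x : X, ⇑σ = lineMap L x → σ = tPerm hL.1 x := by
    intro σ x h
    ext p
    rw [h]; rfl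
  refine ⟨fun x => ⟨tPerm hL.1 x, rfl, tPerm_orderOf hL.1 hL.2.1 hnd x, tPerm_isIso hL x⟩, ?_, ?_⟩
  · rintro σ ⟨x, hx⟩
    rw [key σ x hx]
    exact tPerm_orderOf hL.1 hL.2.1 hnd x
  · rintro σ ⟨x, hx⟩ τ ⟨y, hy⟩
    rw [key σ x hx, key τ y hy]
    exact tPerm_prod hL x y

end Cfsg.Agent.S5366
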