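import Cfsg.Statements.S5367
import Cfsg.Agent.Lib.Helper89_LineSystem
import Cfsg.Agent.S5344

set_option autoImplicit false
open Cfsg

namespace Cfsg.Agent.S5367

open Cfsg.LineSystem

section basic

variable {G : Type*} [Group G] {D : Set G}

theorem sq_one (hD : IsThreeTranspositionSet D) {d : G} (hd : d ∈ D) : d * d = 1 := by
  have := pow_orderOf_eq_one d
  rw [hD.1 d hd, pow_two] at this
  exact this

theorem inv_eq (hD : IsThreeTranspositionSet D) {d : G} (hd : d ∈ D) : d⁻¹ = d :=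
  inv_eq_of_mul_eq_one_right (sq_one hD hd)

/-- the braid relation for two non-commuting 3-transpositions -/
theorem braid (hD : IsThreeTranspositionSet D) {a b : G} (ha : a ∈ D) (hb : b ∈ D)
    (hab : ¬ Commute a b) : a * b * a = b * a * b := by
  have haa := sq_one hD ha
  have hbb := sq_one hD hb
  rcases hD.2 a ha b hb with h | h
  · exfalso
    apply hab
    have h1 : a * b * (a * b) = 1 := by rw [← pow_two]; exact h
    calc a * b = (a * b)⁻¹ := (inv_eq_of_mul_eq_one_right h1).symm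
      _ = b * a := by rw [mul_inv_rev, inv_eq hD ha, inv_eq hD hb]
  · have h1 : a * b * a * (b * a * b) = 1 := by
      have : (a * b) ^ 3 = a * b * a * (b * a * b) := by
        simp only [pow_succ, pow_zero, one_mul, mul_assoc]
      rw [← this]; exact h
    calc a * b * a = (b * a * b)⁻¹ := (inv_eq_of_mul_eq_one_left h1).symm ▸ rfl
      _ = b * a * b := by
        rw [mul_inv_rev, mul_inv_rev, inv_eq hD ha, inv_eq hD hb, mul_assoc]

end basic

section tri

variable {G : Type*} [Group G] {D : Set G}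

/-- `a, b` are non-commuting members of `D` and `c` is the third involution of `⟨a, b⟩` -/
def IsTri (D : Set G) (a b c : G) : Prop :=
  a ∈ D ∧ b ∈ D ∧ c ∈ D ∧ ¬ Commute a b ∧ c = b * a * b⁻¹

theorem IsTri.swap (hD : IsThreeTranspositionSet D) {a b c : G} (h : IsTri D a b c) :
    IsTri D b a c := by
  obtain ⟨ha, hb, hc, hab, rfl⟩ := h
  refine ⟨hb, ha, hc, fun h => hab h.symm, ?_⟩
  rw [inv_eq hD ha, inv_eq hD hb]
  exact (braid hD ha hb hab).symm

theorem IsTri.rot (hD : IsThreeTranspositionSet D) {a b c : G} (h : IsTri D a b c) :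
    IsTri D a c b := by
  have h' := h.swap hD
  obtain ⟨ha, hb, hc, hab, hc'⟩ := h
  have hc2 : c = a * b * a := by
    rw [h'.2.2.2.2, inv_eq hD ha]
  have haa := sq_one hD ha
  have hbb := sq_one hD hb
  have h1 : a * c * a = b := by
    rw [hc2]
    calc a * (a * b * a) * a = (a * a) * b * (a * a) := by group
      _ = b := by rw [haa, one_mul, mul_one]
  have hne : a ≠ b := by
    rintro rfl
    exact hab (Commute.refl a)
  refine ⟨ha, hc, hb, ?_, ?_⟩
  · intro hcomm
    have h2 : c = b := by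
      calc c = a * (a * c) := by rw [← mul_assoc, haa, one_mul]
        _ = a * (c * a) := by rw [hcomm.eq]
        _ = a * c * a := by rw [mul_assoc]
        _ = b := h1
    apply hne
    have h3 : b * a * b⁻¹ = b := hc'.symm.trans h2
    have : b * a = b * b := by
      calc b * a = (b * a * b⁻¹) * b := by group
        _ = b * b := by rw [h3]
    exact mul_left_cancel this
  · rw [inv_eq hD hc]
    have hbr := braid hD ha hb hab
    rw [hc2]
    calc b = a * (a * b * a) * a := by
          rw [show a * (a * b * a) * a = (a * a) * b * (a * a) by group, haa, one_mul, mul_one]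
      _ = a * (b * a * b) * a := by rw [hbr]
      _ = a * b * a * a * (a * b * a) := by
          rw [show a * b * a * a * (a * b * a) = a * b * (a * a) * a * b * a by group, haa,
            mul_one]
          group

/-- the set of points of a triangle, inside the subtype of `D` -/
def triSet (D : Set G) (a b c : G) : Set D := {z | (z : G) = a ∨ (z : G) = b ∨ (z : G) = c}

theorem mem_lines_iff (hconj : ∀ g : G, ∀ d ∈ D, g * d * g⁻¹ ∈ D) (l : Set D) :
    l ∈ threeTranspositionLines D ↔ ∃ a b c : G, IsTri D a b c ∧ l = triSet D a b c := by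
  constructor
  · rintro ⟨x, y, hxy, rfl⟩
    exact ⟨x, y, y * x * (y : G)⁻¹, ⟨x.2, y.2, hconj _ _ x.2, hxy, rfl⟩, rfl⟩
  · rintro ⟨a, b, c, ⟨ha, hb, hc, hab, rfl⟩, rfl⟩
    exact ⟨⟨a, ha⟩, ⟨b, hb⟩, hab, rfl⟩

theorem IsTri.ne (hD : IsThreeTranspositionSet D) {a b c : G} (h : IsTri D a b c) :
    a ≠ b ∧ a ≠ c ∧ b ≠ c := by
  have h1 : ∀ {x y z : G}, IsTri D x y z → x ≠ y := by
    rintro x y z h rfl
    exact h.2.2.2.1 (Commute.refl x)
  exact ⟨h1 h, h1 (h.rot hD), h1 ((h.swap hD).rot hD)⟩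

theorem triSet_comm₁ (a b c : G) : triSet D a b c = triSet D b a c := by
  ext z; simp only [triSet, Set.mem_ofPred_eq]; tauto

theorem triSet_comm₂ (a b c : G) : triSet D a b c = triSet D a c b := by
  ext z; simp only [triSet, Set.mem_ofPred_eq]; tauto

/-- a line is the line through any two of its points -/
theorem tri_through (hD : IsThreeTranspositionSet D) {a b c : G} (h : IsTri D a b c) {p q : D}
    (hp : p ∈ triSet D a b c) (hq : q ∈ triSet D a b c) (hpq : p ≠ q) :
    ∃ r : G, IsTri D p q r ∧ triSet D a b c = triSet D p q r := by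
  have hpq' : (p : G) ≠ q := fun h => hpq (Subtype.ext h)
  simp only [triSet, Set.mem_ofPred_eq] at hp hq
  rcases hp with hp | hp | hp <;> rcases hq with hq | hq | hq
  · exact absurd (hp.trans hq.symm) hpq'
  · exact ⟨c, by rw [hp, hq]; exact h, by rw [hp, hq]⟩
  · exact ⟨b, by rw [hp, hq]; exact h.rot hD, by rw [hp, hq, triSet_comm₂]⟩
  · exact ⟨c, by rw [hp, hq]; exact h.swap hD, by rw [hp, hq, triSet_comm₁]⟩
  · exact absurd (hp.trans hq.symm) hpq'
  · exact ⟨a, by rw [hp, hq]; exact (h.swap hD).rot hD,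
      by rw [hp, hq, triSet_comm₁, triSet_comm₂]⟩
  · exact ⟨b, by rw [hp, hq]; exact (h.rot hD).swap hD,
      by rw [hp, hq, triSet_comm₂, triSet_comm₁]⟩
  · exact ⟨a, by rw [hp, hq]; exact ((h.swap hD).rot hD).swap hD,
      by rw [hp, hq, triSet_comm₁, triSet_comm₂, triSet_comm₁]⟩
  · exact absurd (hp.trans hq.symm) hpq'

theorem isPartialLinear (hD : IsThreeTranspositionSet D)
    (hconj : ∀ g : G, ∀ d ∈ D, g * d * g⁻¹ ∈ D) :
    IsPartialLinear (threeTranspositionLines D) := by
  intro l hl m hm p q hpq hpl hql hpm hqm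
  obtain ⟨a, b, c, h, rfl⟩ := (mem_lines_iff hconj l).mp hl
  obtain ⟨a', b', c', h', rfl⟩ := (mem_lines_iff hconj m).mp hm
  obtain ⟨r, hr, e1⟩ := tri_through hD h hpl hql hpq
  obtain ⟨r', hr', e2⟩ := tri_through hD h' hpm hqm hpq
  rw [e1, e2, hr.2.2.2.2, hr'.2.2.2.2]

theorem ncard_triSet (hD : IsThreeTranspositionSet D) {a b c : G} (h : IsTri D a b c) :
    (triSet D a b c).ncard = 3 := by
  obtain ⟨hab, hac, hbc⟩ := h.ne hD
  rw [Set.ncard_eq_three]
  refine ⟨⟨a, h.1⟩, ⟨b, h.2.1⟩, ⟨c, h.2.2.1⟩, ?_, ?_, ?_, ?_⟩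
  · exact fun h => hab (congrArg Subtype.val h)
  · exact fun h => hac (congrArg Subtype.val h)
  · exact fun h => hbc (congrArg Subtype.val h)
  · ext z
    simp only [triSet, Set.mem_ofPred_eq, Set.mem_insert_iff, Set.mem_singleton_iff,
      Subtype.ext_iff]

end tri

section plane

variable {G : Type*} [Group G] {D : Set G}

open Cfsg.Agent.Lib.Helper89_LineSystem in
/-- the criterion `isomorphic_restrict_span` for the line system of a set of 3-transpositions -/
theorem plane_iso (hD : IsThreeTranspositionSet D) (hconj : ∀ g : G, ∀ d ∈ D, g * d * g⁻¹ ∈ D)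
    {Y : Type*} {M : Set (Set Y)} (ψ0 : Y → G) (hmem : ∀ y, ψ0 y ∈ D)
    (hinj : Function.Injective ψ0) (A : Set D) (hA : ∀ z ∈ A, ∃ y, ψ0 y = (z : G))
    (hgen : ∀ y, (⟨ψ0 y, hmem y⟩ : D) ∈ A ∨ ∃ m ∈ M, y ∈ m ∧ ∃ y1 ∈ m, ∃ y2 ∈ m, y1 ≠ y2 ∧
      (⟨ψ0 y1, hmem y1⟩ : D) ∈ A ∧ (⟨ψ0 y2, hmem y2⟩ : D) ∈ A)
    (hline : ∀ m ∈ M, ∃ y1 y2 y3, ¬ Commute (ψ0 y1) (ψ0 y2) ∧
      ψ0 y3 = ψ0 y2 * ψ0 y1 * (ψ0 y2)⁻¹ ∧ ∀ y, y ∈ m ↔ y = y1 ∨ y = y2 ∨ y = y3)
    (hcol : ∀ y1 y2, y1 ≠ y2 → ¬ Commute (ψ0 y1) (ψ0 y2) → ∃ m ∈ M, y1 ∈ m ∧ y2 ∈ m) :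
    Isomorphic (restrict (threeTranspositionLines D) (span (threeTranspositionLines D) A)) M := by
  have hψinj : Function.Injective (fun y => (⟨ψ0 y, hmem y⟩ : D)) := by
    intro y1 y2 h
    exact hinj (congrArg Subtype.val h)
  apply isomorphic_restrict_span (isPartialLinear hD hconj) _ (fun y => (⟨ψ0 y, hmem y⟩ : D))
    hψinj A
  · intro z hz
    obtain ⟨y, hy⟩ := hA z hz
    exact ⟨y, Subtype.ext hy⟩
  · exact hgen
  · intro m hm
    obtain ⟨y1, y2, y3, hnc, h3, hm'⟩ := hline m hm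
    refine ⟨⟨ψ0 y1, hmem y1⟩, ⟨ψ0 y2, hmem y2⟩, hnc, ?_⟩
    ext z
    simp only [Set.mem_image, Set.mem_ofPred_eq]
    constructor
    · rintro ⟨y, hy, rfl⟩
      rcases (hm' y).mp hy with rfl | rfl | rfl
      · left; rfl
      · right; left; rfl
      · right; right; exact h3
    · rintro (h | h | h)
      · exact ⟨y1, (hm' y1).mpr (Or.inl rfl), Subtype.ext h.symm⟩
      · exact ⟨y2, (hm' y2).mpr (Or.inr (Or.inl rfl)), Subtype.ext h.symm⟩
      · exact ⟨y3, (hm' y3).mpr (Or.inr (Or.inr rfl)), Subtype.ext (h3.trans h.symm)⟩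
  · rintro y1 y2 hne ⟨l, hl, h1, h2⟩
    apply hcol y1 y2 hne
    obtain ⟨a, b, c, h, rfl⟩ := (mem_lines_iff hconj l).mp hl
    obtain ⟨r, hr, _⟩ := tri_through hD h h1 h2 (hψinj.ne hne)
    exact hr.2.2.2.1
  · intro l hl
    obtain ⟨a, b, c, h, rfl⟩ := (mem_lines_iff hconj l).mp hl
    obtain ⟨hab, _, _⟩ := h.ne hD
    refine ⟨⟨a, h.1⟩, Or.inl rfl, ⟨b, h.2.1⟩, Or.inr (Or.inl rfl), ?_⟩
    exact fun h' => hab (congrArg Subtype.val h')

end plane

/-! ### the case of a commuting pair: the dual affine plane -/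

/-- the transposition of `Fin 4` attached to a two-element subset -/
def pt (s : DualAffinePoint) : Equiv.Perm (Fin 4) :=
  match (List.finRange 4).filter (fun i => i ∈ s.val) with
  | [i, j] => Equiv.swap i j
  | _ => 1

/-- the five points of the dual affine plane on the two lines through `{1, 2}` -/
def inA (s : DualAffinePoint) : Prop :=
  pt s = Equiv.swap 1 2 ∨ pt s = Equiv.swap 0 1 ∨ pt s = Equiv.swap 0 2 ∨ pt s = Equiv.swap 2 3 ∨
    pt s = Equiv.swap 1 3

instance (s : DualAffinePoint) : Decidable (inA s) := by unfold inA; infer_instance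

set_option maxRecDepth 1000000 in
theorem pt_conj : ∀ s : DualAffinePoint, ∃ σ : Equiv.Perm (Fin 4),
    pt s = σ * Equiv.swap 1 2 * σ⁻¹ := by decide

set_option maxRecDepth 1000000 in
theorem pt_inj : ∀ s t : DualAffinePoint, pt s = pt t → s = t := by decide

set_option maxRecDepth 1000000 in
theorem pt_line : ∀ k : Fin 4, ∃ s1 s2 s3 : DualAffinePoint,
    pt s1 * pt s2 ≠ pt s2 * pt s1 ∧ pt s3 = pt s2 * pt s1 * (pt s2)⁻¹ ∧
      ∀ s : DualAffinePoint, k ∉ s.val ↔ (s = s1 ∨ s = s2 ∨ s = s3) := by decide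

set_option maxRecDepth 1000000 in
theorem pt_col : ∀ s1 s2 : DualAffinePoint, s1 ≠ s2 → pt s1 * pt s2 ≠ pt s2 * pt s1 →
    ∃ k : Fin 4, k ∉ s1.val ∧ k ∉ s2.val := by decide

set_option maxRecDepth 1000000 in
theorem pt_gen : ∀ s : DualAffinePoint, inA s ∨ ∃ k : Fin 4, k ∉ s.val ∧
    ∃ y1 y2 : DualAffinePoint, k ∉ y1.val ∧ k ∉ y2.val ∧ y1 ≠ y2 ∧ inA y1 ∧ inA y2 := by decide

set_option maxRecDepth 1000000 in
theorem pt_surj : ∀ i j : Fin 4, i ≠ j → ∃ s : DualAffinePoint, pt s = Equiv.swap i j := by decide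

theorem swap_c : Equiv.swap (0 : Fin 4) 1 * Equiv.swap 1 2 * (Equiv.swap 0 1)⁻¹ = Equiv.swap 0 2 := by
  decide

theorem swap_e : Equiv.swap (2 : Fin 4) 3 * Equiv.swap 1 2 * (Equiv.swap 2 3)⁻¹ = Equiv.swap 1 3 := by
  decide


section caseI

variable {G : Type*} [Group G] {D : Set G}

theorem caseI (hD : IsThreeTranspositionSet D) (hconj : ∀ g : G, ∀ d ∈ D, g * d * g⁻¹ ∈ D)
    {a b c d e : G} (h1 : IsTri D a b c) (h2 : IsTri D a d e) (hbd : b ≠ d)
    (hcomm : Commute b d) :
    Isomorphic (restrict (threeTranspositionLines D)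
      (span (threeTranspositionLines D) (triSet D a b c ∪ triSet D a d e))) dualAffinePlaneTwo := by
  obtain ⟨φ, hφ, hφb, hφa, hφd⟩ := Cfsg.Agent.S5344.result hD h1.2.1 h1.1 h2.2.1 hbd hcomm
    (fun h => h1.2.2.2.1 h.symm) h2.2.2.2.1
  have hφc : φ (Equiv.swap 0 2) = c := by
    rw [← swap_c, map_mul, map_mul, map_inv, hφb, hφa, h1.2.2.2.2]
  have hφe : φ (Equiv.swap 1 3) = e := by
    rw [← swap_e, map_mul, map_mul, map_inv, hφd, hφa, h2.2.2.2.2]
  have hmem : ∀ s, φ (pt s) ∈ D := by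
    intro s
    obtain ⟨σ, hσ⟩ := pt_conj s
    rw [hσ, map_mul, map_mul, map_inv, hφa]
    exact hconj _ _ h1.1
  have hinA : ∀ s, inA s → (⟨φ (pt s), hmem s⟩ : D) ∈ triSet D a b c ∪ triSet D a d e := by
    intro s hs
    rcases hs with h | h | h | h | h
    · left; left; change φ (pt s) = a; rw [h, hφa]
    · left; right; left; change φ (pt s) = b; rw [h, hφb]
    · left; right; right; change φ (pt s) = c; rw [h, hφc]
    · right; right; left; change φ (pt s) = d; rw [h, hφd]
    · right; right; right; change φ (pt s) = e; rw [h, hφe]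
  apply plane_iso hD hconj (fun s => φ (pt s)) hmem
  · intro s t h
    exact pt_inj s t (hφ h)
  · rintro z (hz | hz)
    · rcases hz with hz | hz | hz
      · obtain ⟨s, hs⟩ := pt_surj 1 2 (by decide)
        exact ⟨s, by rw [hs, hφa, hz]⟩
      · obtain ⟨s, hs⟩ := pt_surj 0 1 (by decide)
        exact ⟨s, by rw [hs, hφb, hz]⟩
      · obtain ⟨s, hs⟩ := pt_surj 0 2 (by decide)
        exact ⟨s, by rw [hs, hφc, hz]⟩
    · rcases hz with hz | hz | hz
      · obtain ⟨s, hs⟩ := pt_surj 1 2 (by decide)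
        exact ⟨s, by rw [hs, hφa, hz]⟩
      · obtain ⟨s, hs⟩ := pt_surj 2 3 (by decide)
        exact ⟨s, by rw [hs, hφd, hz]⟩
      · obtain ⟨s, hs⟩ := pt_surj 1 3 (by decide)
        exact ⟨s, by rw [hs, hφe, hz]⟩
  · intro s
    rcases pt_gen s with h | ⟨k, hk, y1, y2, hy1, hy2, hne, hA1, hA2⟩
    · exact Or.inl (hinA s h)
    · exact Or.inr ⟨{t | k ∉ t.val}, ⟨k, rfl⟩, hk, y1, hy1, y2, hy2, hne, hinA y1 hA1, hinA y2 hA2⟩
  · rintro m ⟨k, rfl⟩
    obtain ⟨s1, s2, s3, hnc, h3, hall⟩ := pt_line k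
    refine ⟨s1, s2, s3, ?_, ?_, hall⟩
    · intro hc
      apply hnc
      apply hφ
      rw [map_mul, map_mul]
      exact hc.eq
    · rw [h3, map_mul, map_mul, map_inv]
  · intro s1 s2 hne hnc
    obtain ⟨k, hk1, hk2⟩ := pt_col s1 s2 hne (by
      intro hc
      apply hnc
      have := congrArg φ hc
      rw [map_mul, map_mul] at this
      exact this)
    exact ⟨{t | k ∉ t.val}, ⟨k, rfl⟩, hk1, hk2⟩

end caseI

/-! ### the case without commuting pairs: the affine plane of order three -/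

section caseII

variable {G : Type*} [Group G]

/-- the nine points of the affine plane generated by `a, b, d` -/
def ψp (a b d : G) (i j : Fin 3) : G :=
  ![![a, d, a * d * a], ![b, a * b * d * b * a, a * b * a * d * a * b * a],
    ![a * b * a, b * a * d * a * b, b * d * b]] i j

/-- the hypotheses of the affine case, in terms of words -/
structure AffRel (a b d : G) : Prop where
  haa : a * a = 1
  hbb : b * b = 1
  hdd : d * d = 1
  r1 : a * b * a = b * a * b
  r2 : a * d * a = d * a * d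
  r3 : b * d * b = d * b * d
  r4 : b * (a * d * a) * b = (a * d * a) * b * (a * d * a)
  r5 : (a * b * a) * d * (a * b * a) = d * (a * b * a) * d

variable {a b d : G}

theorem conj_a (h : AffRel a b d) (i j : Fin 3) : a * ψp a b d i j * a⁻¹ = ψp a b d (-i) (-j) := by
  have hai : a⁻¹ = a := inv_eq_of_mul_eq_one_right h.haa
  have ra : ∀ w, a * (a * w) = w := fun w => by rw [← mul_assoc, h.haa, one_mul]
  rw [hai]
  fin_cases i <;> fin_cases j <;> simp [ψp, mul_assoc, h.haa, ra]

theorem conj_b (h : AffRel a b d) (i j : Fin 3) :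
    b * ψp a b d i j * b⁻¹ = ψp a b d (2 - i) (-j) := by
  have hbi : b⁻¹ = b := inv_eq_of_mul_eq_one_right h.hbb
  have ra : ∀ w, a * (a * w) = w := fun w => by rw [← mul_assoc, h.haa, one_mul]
  have rb : ∀ w, b * (b * w) = w := fun w => by rw [← mul_assoc, h.hbb, one_mul]
  have hbab : b * (a * b) = a * (b * a) := by
    have := h.r1; simp only [mul_assoc] at this; exact this.symm
  have rbab : ∀ w, b * (a * (b * w)) = a * (b * (a * w)) := fun w => by
    calc b * (a * (b * w)) = (b * (a * b)) * w := by simp only [mul_assoc]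
      _ = (a * (b * a)) * w := by rw [hbab]
      _ = _ := by simp only [mul_assoc]
  rw [hbi]
  fin_cases i <;> fin_cases j <;> simp [ψp, mul_assoc, h.haa, h.hbb, ra, rb, hbab, rbab]

theorem conj_d (h : AffRel a b d) (i j : Fin 3) :
    d * ψp a b d i j * d⁻¹ = ψp a b d (-i) (2 - j) := by
  have hdi : d⁻¹ = d := inv_eq_of_mul_eq_one_right h.hdd
  have ra : ∀ w, a * (a * w) = w := fun w => by rw [← mul_assoc, h.haa, one_mul]
  have rb : ∀ w, b * (b * w) = w := fun w => by rw [← mul_assoc, h.hbb, one_mul]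
  have rd : ∀ w, d * (d * w) = w := fun w => by rw [← mul_assoc, h.hdd, one_mul]
  have hdad : d * (a * d) = a * (d * a) := by
    have := h.r2; simp only [mul_assoc] at this; exact this.symm
  have rdad : ∀ w, d * (a * (d * w)) = a * (d * (a * w)) := fun w => by
    calc d * (a * (d * w)) = (d * (a * d)) * w := by simp only [mul_assoc]
      _ = (a * (d * a)) * w := by rw [hdad]
      _ = _ := by simp only [mul_assoc]
  have hdbd : d * (b * d) = b * (d * b) := by
    have := h.r3; simp only [mul_assoc] at this; exact this.symm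
  have rdbd : ∀ w, d * (b * (d * w)) = b * (d * (b * w)) := fun w => by
    calc d * (b * (d * w)) = (d * (b * d)) * w := by simp only [mul_assoc]
      _ = (b * (d * b)) * w := by rw [hdbd]
      _ = _ := by simp only [mul_assoc]
  have h5 : d * (a * (b * (a * d))) = a * (b * (a * (d * (a * (b * a))))) := by
    have := h.r5; simp only [mul_assoc] at this; exact this.symm
  have r5' : ∀ w, d * (a * (b * (a * (d * w)))) = a * (b * (a * (d * (a * (b * (a * w)))))) :=
    fun w => by
    calc d * (a * (b * (a * (d * w)))) = (d * (a * (b * (a * d)))) * w := by simp only [mul_assoc]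
      _ = (a * (b * (a * (d * (a * (b * a)))))) * w := by rw [h5]
      _ = _ := by simp only [mul_assoc]
  have h4 : b * (a * (d * (a * b))) = a * (d * (a * (b * (a * (d * a))))) := by
    have := h.r4; simp only [mul_assoc] at this; exact this
  have r4' : ∀ w, b * (a * (d * (a * (b * w)))) = a * (d * (a * (b * (a * (d * (a * w)))))) :=
    fun w => by
    calc b * (a * (d * (a * (b * w)))) = (b * (a * (d * (a * b)))) * w := by simp only [mul_assoc]
      _ = (a * (d * (a * (b * (a * (d * a)))))) * w := by rw [h4]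
      _ = _ := by simp only [mul_assoc]
  rw [hdi]
  have c7 : d * (a * (b * (a * (d * (a * (b * (a * d))))))) = a * (b * a) := by
    rw [r5']
    simp only [ra, rb, h.hdd, mul_one]
  have c9 : d * (b * (a * (d * (a * (b * d))))) = a * (b * (d * (b * a))) := by
    rw [r4', rdad, ra, hdad, ra, rdbd]
  have c8 : d * (a * (b * (d * (b * (a * d))))) = b * (a * (d * (a * b))) := by
    calc d * (a * (b * (d * (b * (a * d))))) = d * ((a * (b * (d * (b * a)))) * d) := by
          simp only [mul_assoc]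
      _ = d * ((d * (b * (a * (d * (a * (b * d)))))) * d) := by rw [c9]
      _ = b * (a * (d * (a * b))) := by
          simp only [mul_assoc, rd, h.hdd, mul_one]
  fin_cases i <;> fin_cases j <;>
    simp [ψp, mul_assoc, h.haa, h.hbb, h.hdd, ra, rb, rd, hdad, rdad, hdbd, rdbd]
  · exact c8
  · exact c7
  · exact h5
  · exact c9

/-- the three generators -/
def gen (a b d : G) : Fin 3 → G := ![a, b, d]

/-- the reflections of the index plane attached to the generators -/
def refl (g : Fin 3) (P : Fin 3 × Fin 3) : Fin 3 × Fin 3 :=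
  ((![0, 2, 0] : Fin 3 → Fin 3) g - P.1, (![0, 0, 2] : Fin 3 → Fin 3) g - P.2)

/-- palindromic words for the nine points -/
def word (i j : Fin 3) : List (Fin 3) :=
  (![![[0], [2], [0, 2, 0]], ![[1], [0, 1, 2, 1, 0], [0, 1, 0, 2, 0, 1, 0]],
    ![[0, 1, 0], [1, 0, 2, 0, 1], [1, 2, 1]]] : Fin 3 → Fin 3 → List (Fin 3)) i j

theorem conj_gen (h : AffRel a b d) (g : Fin 3) (P : Fin 3 × Fin 3) :
    gen a b d g * ψp a b d P.1 P.2 * (gen a b d g)⁻¹ =
      ψp a b d (refl g P).1 (refl g P).2 := by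
  fin_cases g
  · simpa [gen, refl] using conj_a h P.1 P.2
  · simpa [gen, refl] using conj_b h P.1 P.2
  · simpa [gen, refl] using conj_d h P.1 P.2

theorem conj_word (h : AffRel a b d) (w : List (Fin 3)) (P : Fin 3 × Fin 3) :
    (w.map (gen a b d)).prod * ψp a b d P.1 P.2 * ((w.map (gen a b d)).prod)⁻¹ =
      ψp a b d (w.foldr refl P).1 (w.foldr refl P).2 := by
  induction w with
  | nil => simp
  | cons g w ih =>
    rw [List.map_cons, List.prod_cons, List.foldr_cons, ← conj_gen h g, ← ih]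
    group

theorem ψp_eq_word (i j : Fin 3) : ψp a b d i j = ((word i j).map (gen a b d)).prod := by
  fin_cases i <;> fin_cases j <;> simp [ψp, word, gen, mul_assoc]

theorem word_refl : ∀ i j k l : Fin 3, (word k l).foldr refl (i, j) = (-k - i, -l - j) := by
  decide

/-- conjugation among the nine points -/
theorem star (h : AffRel a b d) (i j k l : Fin 3) :
    ψp a b d k l * ψp a b d i j * (ψp a b d k l)⁻¹ = ψp a b d (-k - i) (-l - j) := by
  rw [ψp_eq_word k l]
  have := conj_word h (word k l) (i, j)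
  rw [word_refl] at this
  exact this

theorem refl_known : ∀ i j k l : Fin 3, (i, j) ≠ (k, l) → ∃ r s : Fin 3,
    ((-r - i = 0 ∨ -s - j = 0) ∧ (-r - k = 0 ∨ -s - l = 0)) ∧ (-r - i, -s - j) ≠ (-r - k, -s - l) := by
  decide

theorem ψp_injective (h : AffRel a b d)
    (hK : ∀ x y : Fin 3 × Fin 3, (x.1 = 0 ∨ x.2 = 0) → (y.1 = 0 ∨ y.2 = 0) → x ≠ y →
      ψp a b d x.1 x.2 ≠ ψp a b d y.1 y.2) (i j k l : Fin 3)
    (he : ψp a b d i j = ψp a b d k l) : (i, j) = (k, l) := by
  by_contra hne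
  obtain ⟨r, s, ⟨h1, h2⟩, h3⟩ := refl_known i j k l hne
  apply hK (-r - i, -s - j) (-r - k, -s - l) h1 h2 h3
  rw [← star h i j r s, ← star h k l r s, he]

theorem neg_sub_eq : ∀ i k : Fin 3, -k - i = i → k = i := by decide

theorem ψp_not_commute (h : AffRel a b d)
    (hK : ∀ x y : Fin 3 × Fin 3, (x.1 = 0 ∨ x.2 = 0) → (y.1 = 0 ∨ y.2 = 0) → x ≠ y →
      ψp a b d x.1 x.2 ≠ ψp a b d y.1 y.2) (i j k l : Fin 3) (hne : (i, j) ≠ (k, l)) :
    ¬ Commute (ψp a b d i j) (ψp a b d k l) := by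
  intro hc
  have h1 := star h i j k l
  have h2 : ψp a b d k l * ψp a b d i j * (ψp a b d k l)⁻¹ = ψp a b d i j := by
    rw [← hc.eq]; group
  rw [h2] at h1
  have h3 := ψp_injective h hK _ _ _ _ h1
  apply hne
  rw [Prod.mk.injEq] at h3 ⊢
  exact ⟨(neg_sub_eq _ _ h3.1.symm).symm, (neg_sub_eq _ _ h3.2.symm).symm⟩


/-- `ZMod 3` is `Fin 3` -/
def toFin (x : ZMod 3) : Fin 3 := x

theorem toFin_inj : ∀ x y : ZMod 3, toFin x = toFin y → x = y := by decide

theorem toFin_third : ∀ x y : ZMod 3, toFin (x + 2 * y) = -toFin (x + y) - toFin x := by decide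

theorem toFin_zero : ∀ x : ZMod 3, toFin x = 0 ↔ x = 0 := by decide

theorem zmod3_cases : ∀ c : ZMod 3, c = 0 ∨ c = 1 ∨ c = 2 := by decide

theorem zmod3_gen₁ : ∀ x : ZMod 3, x = -x + 2 * (0 - -x) := by decide

theorem zmod3_gen₂ : ∀ x : ZMod 3, x = 0 + 2 * (-x - 0) := by decide

theorem fin3_neg_neg : ∀ i : Fin 3, - -i - 0 = i := by decide

theorem known_mem : ∀ x : Fin 3 × Fin 3, (x.1 = 0 ∨ x.2 = 0) →
    x ∈ ([(0, 0), (1, 0), (2, 0), (0, 1), (0, 2)] : List (Fin 3 × Fin 3)) := by decide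

theorem ψp_mem {D : Set G} (hconj : ∀ g : G, ∀ d ∈ D, g * d * g⁻¹ ∈ D) (h : AffRel a b d)
    (ha : a ∈ D) (i j : Fin 3) : ψp a b d i j ∈ D := by
  have h1 := star h 0 0 (-i) (-j)
  rw [fin3_neg_neg, fin3_neg_neg] at h1
  rw [← h1]
  exact hconj _ _ ha

end caseII

section caseII'

variable {G : Type*} [Group G] {D : Set G}

theorem caseII (hD : IsThreeTranspositionSet D) (hconj : ∀ g : G, ∀ d ∈ D, g * d * g⁻¹ ∈ D)
    {a b c d e : G} (h1 : IsTri D a b c) (h2 : IsTri D a d e) (hbd : b ≠ d) (hbe : b ≠ e)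
    (hcd : c ≠ d) (hce : c ≠ e) (nbd : ¬ Commute b d) (nbe : ¬ Commute b e)
    (ncd : ¬ Commute c d) (_nce : ¬ Commute c e) :
    Isomorphic (restrict (threeTranspositionLines D)
      (span (threeTranspositionLines D) (triSet D a b c ∪ triSet D a d e))) affinePlaneThree := by
  have ha := h1.1
  have hb := h1.2.1
  have hd := h2.2.1
  have hc : c = a * b * a := by
    rw [(h1.swap hD).2.2.2.2, inv_eq hD ha]
  have he : e = a * d * a := by
    rw [(h2.swap hD).2.2.2.2, inv_eq hD ha]
  have hcD : a * b * a ∈ D := hc ▸ h1.2.2.1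
  have heD : a * d * a ∈ D := he ▸ h2.2.2.1
  have hrel : AffRel a b d :=
    { haa := sq_one hD ha
      hbb := sq_one hD hb
      hdd := sq_one hD hd
      r1 := braid hD ha hb h1.2.2.2.1
      r2 := braid hD ha hd h2.2.2.2.1
      r3 := braid hD hb hd nbd
      r4 := braid hD hb heD (he ▸ nbe)
      r5 := braid hD hcD hd (hc ▸ ncd) }
  obtain ⟨hab, hac, hbc⟩ := h1.ne hD
  obtain ⟨had, hae, hde⟩ := h2.ne hD
  rw [hc] at hac hbc hcd hce
  rw [he] at hae hde hbe hce
  have hK : ∀ x y : Fin 3 × Fin 3, (x.1 = 0 ∨ x.2 = 0) → (y.1 = 0 ∨ y.2 = 0) → x ≠ y →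
      ψp a b d x.1 x.2 ≠ ψp a b d y.1 y.2 := by
    have hnd : ([a, b, a * b * a, d, a * d * a] : List G).Nodup := by
      simp only [List.nodup_cons, List.mem_cons, List.not_mem_nil, not_or, List.nodup_nil,
        or_false, and_true, not_false_eq_true]
      exact ⟨⟨hab, hac, had, hae⟩, ⟨hbc, hbd, hbe⟩, ⟨hcd, hce⟩, hde⟩
    have hmap : ([(0, 0), (1, 0), (2, 0), (0, 1), (0, 2)] : List (Fin 3 × Fin 3)).map
        (fun x => ψp a b d x.1 x.2) = [a, b, a * b * a, d, a * d * a] := by
      simp [ψp]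
    rw [← hmap] at hnd
    intro x y hx hy hne heq
    exact hne (List.inj_on_of_nodup_map hnd (known_mem x hx) (known_mem y hy) heq)
  have hmemp : ∀ i j, ψp a b d i j ∈ D := ψp_mem hconj hrel ha
  have hidx : ∀ P Q : Fin 2 → ZMod 3, (toFin (P 0), toFin (P 1)) = (toFin (Q 0), toFin (Q 1)) →
      P = Q := by
    intro P Q h
    rw [Prod.mk.injEq] at h
    funext t
    fin_cases t
    · exact toFin_inj _ _ h.1
    · exact toFin_inj _ _ h.2
  have hknown : ∀ P : Fin 2 → ZMod 3, (P 0 = 0 ∨ P 1 = 0) →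
      (⟨ψp a b d (toFin (P 0)) (toFin (P 1)), hmemp _ _⟩ : D) ∈
        triSet D a b c ∪ triSet D a d e := by
    intro P hP
    rcases hP with h0 | h0
    · right
      rw [h0]
      rcases zmod3_cases (P 1) with h | h | h <;> rw [h]
      · left; rfl
      · right; left; rfl
      · right; right; exact he.symm
    · left
      rw [h0]
      rcases zmod3_cases (P 0) with h | h | h <;> rw [h]
      · left; rfl
      · right; left; rfl
      · right; right; exact hc.symm
  have hlineMem : ∀ v w : Fin 2 → ZMod 3, w ≠ 0 →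
      {x | ∃ c : ZMod 3, x = v + c • w} ∈ affinePlaneThree := fun v w hw => ⟨v, w, hw, rfl⟩
  apply plane_iso hD hconj (fun P : Fin 2 → ZMod 3 => ψp a b d (toFin (P 0)) (toFin (P 1)))
    (fun P => hmemp _ _)
  · intro P Q h
    exact hidx P Q (ψp_injective hrel hK _ _ _ _ h)
  · rintro z (hz | hz)
    · rcases hz with hz | hz | hz
      · exact ⟨![0, 0], hz.symm⟩
      · exact ⟨![1, 0], hz.symm⟩
      · exact ⟨![2, 0], by rw [hz, hc]; rfl⟩
    · rcases hz with hz | hz | hz
      · exact ⟨![0, 0], hz.symm⟩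
      · exact ⟨![0, 1], hz.symm⟩
      · exact ⟨![0, 2], by rw [hz, he]; rfl⟩
  · intro P
    by_cases hP : P 0 = 0 ∨ P 1 = 0
    · exact Or.inl (hknown P hP)
    · right
      push Not at hP
      have hw : (![0, -(P 1)] - ![-(P 0), 0] : Fin 2 → ZMod 3) ≠ 0 := by
        intro h
        have := congrFun h 0
        simp at this
        exact hP.1 this
      refine ⟨_, hlineMem ![-(P 0), 0] (![0, -(P 1)] - ![-(P 0), 0]) hw, ⟨2, ?_⟩,
        ![-(P 0), 0], ⟨0, by simp⟩, ![0, -(P 1)], ⟨1, by simp⟩, ?_, ?_, ?_⟩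
      · funext t
        fin_cases t
        · simpa using zmod3_gen₁ (P 0)
        · simpa using zmod3_gen₂ (P 1)
      · intro h
        have := congrFun h 0
        simp at this
        exact hP.1 this
      · exact hknown _ (Or.inr rfl)
      · exact hknown _ (Or.inl rfl)
  · rintro m ⟨v, w, hw, rfl⟩
    refine ⟨v, v + w, v + (2 : ZMod 3) • w, ?_, ?_, ?_⟩
    · apply ψp_not_commute hrel hK
      intro h
      have h' := hidx _ _ h
      apply hw
      have : v + w = v + 0 := by rw [add_zero]; exact h'.symm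
      exact add_left_cancel this
    · rw [star hrel]
      congr 1
      · simpa using toFin_third (v 0) (w 0)
      · simpa using toFin_third (v 1) (w 1)
    · intro y
      simp only [Set.mem_ofPred_eq]
      constructor
      · rintro ⟨c, rfl⟩
        rcases zmod3_cases c with rfl | rfl | rfl
        · left; simp
        · right; left; simp
        · right; right; rfl
      · rintro (rfl | rfl | rfl)
        · exact ⟨0, by simp⟩
        · exact ⟨1, by simp⟩
        · exact ⟨2, rfl⟩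
  · intro y1 y2 hne _
    have hw : y2 - y1 ≠ 0 := sub_ne_zero.mpr hne.symm
    exact ⟨_, hlineMem y1 (y2 - y1) hw, ⟨0, by simp⟩, ⟨1, by simp⟩⟩

end caseII'

section final

variable {G : Type*} [Group G] {D : Set G}

/-- two different lines through `a` have no further common point -/
theorem tri_disjoint (hD : IsThreeTranspositionSet D) {a b c d e : G} (h1 : IsTri D a b c)
    (h2 : IsTri D a d e) (hne : triSet D a b c ≠ triSet D a d e) :
    b ≠ d ∧ b ≠ e ∧ c ≠ d ∧ c ≠ e := by
  have key : ∀ {b c d e : G}, IsTri D a b c → IsTri D a d e → b = d →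
      triSet D a b c = triSet D a d e := by
    intro b c d e h1 h2 hbd
    subst hbd
    rw [h1.2.2.2.2, h2.2.2.2.2]
  refine ⟨fun h => hne (key h1 h2 h), fun h => hne ?_, fun h => hne ?_, fun h => hne ?_⟩
  · rw [triSet_comm₂ a d e]
    exact key h1 (h2.rot hD) h
  · rw [triSet_comm₂ a b c]
    exact key (h1.rot hD) h2 h
  · rw [triSet_comm₂ a b c, triSet_comm₂ a d e]
    exact key (h1.rot hD) (h2.rot hD) h

/-- a line through a given point -/
theorem tri_at (hD : IsThreeTranspositionSet D) (hconj : ∀ g : G, ∀ d ∈ D, g * d * g⁻¹ ∈ D)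
    {l : Set D} (hl : l ∈ threeTranspositionLines D) {p : D} (hp : p ∈ l) :
    ∃ b c : G, IsTri D p b c ∧ l = triSet D p b c := by
  obtain ⟨a0, b0, c0, h, rfl⟩ := (mem_lines_iff hconj l).mp hl
  obtain ⟨hab, _, _⟩ := h.ne hD
  by_cases hpa : (p : G) = a0
  · have hq : (⟨b0, h.2.1⟩ : D) ∈ triSet D a0 b0 c0 := Or.inr (Or.inl rfl)
    have hne : p ≠ ⟨b0, h.2.1⟩ := by
      intro h'
      apply hab
      rw [← hpa, h']
    obtain ⟨r, hr, e⟩ := tri_through hD h hp hq hne
    exact ⟨b0, r, hr, e⟩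
  · have hq : (⟨a0, h.1⟩ : D) ∈ triSet D a0 b0 c0 := Or.inl rfl
    have hne : p ≠ ⟨a0, h.1⟩ := by
      intro h'
      apply hpa
      rw [h']
    obtain ⟨r, hr, e⟩ := tri_through hD h hp hq hne
    exact ⟨a0, r, hr, e⟩

end final

/-- Let D be a conjugation-invariant generating set of 3-transpositions of a finite group G. Then the line system on D whose lines are the triples {x, y, y x y⁻¹} for non-commuting members x, y of D is a Fischer space: two points lie on at most one line, lines have three points, and two different meeting lines generate a subspace isomorphic to the dual affine plane of order two or to the affine plane of order three. -/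
theorem result {G : Type*} [Group G] [Finite G] {D : Set G} (hD : Cfsg.IsThreeTranspositionGroup D) : Cfsg.IsFischerSpace (Cfsg.threeTranspositionLines D) := by
  obtain ⟨hD3, hconj, _⟩ := hD
  refine ⟨isPartialLinear hD3 hconj, ?_, ?_⟩
  · intro l hl
    obtain ⟨a, b, c, h, rfl⟩ := (mem_lines_iff hconj l).mp hl
    exact ncard_triSet hD3 h
  · rintro l hl m hm hlm ⟨p, hpl, hpm⟩
    obtain ⟨b, c, h1, rfl⟩ := tri_at hD3 hconj hl hpl
    obtain ⟨d, e, h2, rfl⟩ := tri_at hD3 hconj hm hpm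
    obtain ⟨hbd, hbe, hcd, hce⟩ := tri_disjoint hD3 h1 h2 hlm
    by_cases c1 : Commute b d
    · exact Or.inl (caseI hD3 hconj h1 h2 hbd c1)
    by_cases c2 : Commute b e
    · left
      have := caseI hD3 hconj h1 (h2.rot hD3) hbe c2
      rwa [triSet_comm₂ (p : G) e d] at this
    by_cases c3 : Commute c d
    · left
      have := caseI hD3 hconj (h1.rot hD3) h2 hcd c3
      rwa [triSet_comm₂ (p : G) c b] at this
    by_cases c4 : Commute c e
    · left
      have := caseI hD3 hconj (h1.rot hD3) (h2.rot hD3) hce c4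
      rwa [triSet_comm₂ (p : G) c b, triSet_comm₂ (p : G) e d] at this
    · exact Or.inr (caseII hD3 hconj h1 h2 hbd hbe hcd hce c1 c2 c3 c4)

end Cfsg.Agent.S5367
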