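import Cfsg.Statements.S5388
import Cfsg.Agent.Lib.Helper92_O8e
import Cfsg.Agent.Lib.Helper23_CharP
import Cfsg.Agent.Lib.Helper63_Heisenberg
import Cfsg.Agent.S0397

/-!
The image `z` in Co₁ of the sign change `t` on the complement of the standard octad satisfies the
large extraspecial hypothesis.

The centraliser of `z` is the image of the centraliser `Ct` of `t` in the automorphism group of the
rank-24 lattice (`t` is not conjugate to `-t`: their fixed lattices have different norms).  `Ct` acts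
on the fixed lattice of `t`, a copy of `√2 E₈`, and reduction modulo 2 gives a homomorphism `rho` to
the orthogonal group of plus type in dimension 8 over the field with two elements
(`Helper92_O8a`).  Its kernel consists of the 512 monomial elements of `Helper92_E8f` and their
negatives (`Helper92_O8b`), its image is the commutator subgroup of the orthogonal group
(`Helper92_O8c`, `Helper92_O8d`), which is simple (`Helper92_O8e`).
-/

set_option autoImplicit false
open Cfsg

namespace Cfsg.Agent.S5388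

open Cfsg.Agent.Lib.Helper7_M24 Cfsg.Agent.Lib.Helper7_Leech Cfsg.Agent.Lib.Helper7_Mono
  Cfsg.Agent.Lib.Helper92_E8a Cfsg.Agent.Lib.Helper92_E8b Cfsg.Agent.Lib.Helper92_E8c
  Cfsg.Agent.Lib.Helper92_E8d Cfsg.Agent.Lib.Helper92_E8e Cfsg.Agent.Lib.Helper92_E8f
  Cfsg.Agent.Lib.Helper92_E8g Cfsg.Agent.Lib.Helper92_O8a Cfsg.Agent.Lib.Helper92_O8b
  Cfsg.Agent.Lib.Helper92_O8c Cfsg.Agent.Lib.Helper92_O8d Cfsg.Agent.Lib.Helper92_O8e
open Cfsg.Agent.S5546 (Lam)
open Cfsg.Agent.S0398 (negElt negElt_mem_center center_cases)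
open Matrix

instance finCo0 : Finite ↥Co0 :=
  Nat.finite_of_card_ne_zero (by rw [Cfsg.Agent.S0397.result]; norm_num)

/-! ### the quotient by the centre -/

abbrev Zc : Subgroup ↥Co0 := Subgroup.center ↥Co0

/-- The projection. -/
def pr : ↥Co0 →* Cfsg.Spor.Co1 := QuotientGroup.mk' Zc

theorem pr_eq_iff (a b : ↥Co0) : pr a = pr b ↔ b = a ∨ b = a * negElt := by
  show (QuotientGroup.mk a : ↥Co0 ⧸ Zc) = QuotientGroup.mk b ↔ _
  rw [QuotientGroup.eq]
  constructor
  · intro h
    rcases center_cases _ h with h1 | h1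
    · left
      exact (inv_mul_eq_one.mp h1).symm
    · right
      rw [← h1]
      group
  · rintro (h | h)
    · rw [h, inv_mul_cancel]
      exact Subgroup.one_mem _
    · rw [h, inv_mul_cancel_left]
      exact negElt_mem_center

theorem pr_negElt : pr negElt = 1 :=
  (QuotientGroup.eq_one_iff _).mpr negElt_mem_center

theorem pr_eq_one_iff (a : ↥Co0) : pr a = 1 ↔ a = 1 ∨ a = negElt := by
  rw [← map_one pr, eq_comm, pr_eq_iff, one_mul]

/-- The involution. -/
def z : Cfsg.Spor.Co1 := pr tE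

/-- Its centraliser. -/
abbrev Cz : Subgroup Cfsg.Spor.Co1 := Subgroup.centralizer ({z} : Set Cfsg.Spor.Co1)

theorem mem_Cz (c : Cfsg.Spor.Co1) : c ∈ Cz ↔ z * c = c * z := by
  rw [Subgroup.mem_centralizer_iff]
  constructor
  · intro h
    exact h z rfl
  · intro h x hx
    rw [Set.mem_singleton_iff] at hx
    rw [hx]
    exact h

theorem tE_ne_neg : tE ≠ negElt := by
  intro h
  have h1 : sgn8 tE none = sgn8 (negElt * 1) none := by rw [mul_one, h]
  rw [sgn8_tE' (by decide), sgn8_neg, sgn8_one] at h1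
  omega

theorem orderOf_z : orderOf z = 2 := by
  apply orderOf_eq_prime
  · show pr tE ^ 2 = 1
    rw [← map_pow, pow_two]
    have : tE * tE = 1 := eps_mul_self uT
    rw [this, map_one]
  · intro h
    rcases (pr_eq_one_iff tE).mp h with h1 | h1
    · exact tE_ne_one h1
    · exact tE_ne_neg h1

/-- The centraliser of `t` maps onto the centraliser of `z`. -/
def psi : ↥Ct →* ↥Cz where
  toFun g := ⟨pr g.1, (mem_Cz _).mpr (by
    show pr tE * pr g.1 = pr g.1 * pr tE
    rw [← map_mul, ← map_mul, (mem_Ct g.1).mp g.2])⟩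
  map_one' := Subtype.ext (map_one pr)
  map_mul' a b := Subtype.ext (map_mul pr a.1 b.1)

theorem psi_val (g : ↥Ct) : (psi g).1 = pr g.1 := rfl

theorem psi_surj : Function.Surjective psi := by
  intro c
  obtain ⟨g, hg⟩ := QuotientGroup.mk_surjective c.1
  have hg' : pr g = c.1 := hg
  have hc : z * c.1 = c.1 * z := (mem_Cz c.1).mp c.2
  rw [← hg'] at hc
  have h1 : pr (tE * g) = pr (g * tE) := by
    rw [map_mul, map_mul]
    exact hc
  rcases (pr_eq_iff _ _).mp h1 with h2 | h2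
  · exact ⟨⟨g, (mem_Ct g).mpr h2.symm⟩, Subtype.ext hg'⟩
  · exfalso
    apply not_conj_neg g
    rw [h2, mul_assoc tE, ← negElt_comm' g, ← mul_assoc, ← negElt_comm' tE]
    group

theorem psi_eq_one (g : ↥Ct) : psi g = 1 ↔ g.1 = 1 ∨ g.1 = negElt := by
  rw [← pr_eq_one_iff]
  constructor
  · intro h
    exact congrArg Subtype.val h
  · intro h
    exact Subtype.ext h

theorem psi_ker_le : psi.ker ≤ rho.ker := by
  intro g hg
  rw [MonoidHom.mem_ker] at hg ⊢
  apply Subtype.ext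
  apply Units.ext
  show rhoM g.1 = 1
  rcases (psi_eq_one g).mp hg with h | h
  · rw [h]
    exact rhoM_one
  · rw [h]
    exact rhoM_negElt

/-- The homomorphism from the centraliser of `z` to the orthogonal group. -/
noncomputable def rhoBar : ↥Cz →* ↥O8 :=
  psi.liftOfRightInverse (Function.surjInv psi_surj) (Function.rightInverse_surjInv psi_surj)
    ⟨rho, psi_ker_le⟩

theorem rhoBar_psi (g : ↥Ct) : rhoBar (psi g) = rho g :=
  MonoidHom.liftOfRightInverse_comp_apply _ _ _ ⟨rho, psi_ker_le⟩ g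

theorem rhoBar_range : rhoBar.range = Om8 := by
  have hO : Om8 = H8 := H8_eq.symm
  rw [hO]
  ext x
  constructor
  · rintro ⟨c, rfl⟩
    obtain ⟨g, rfl⟩ := psi_surj c
    exact ⟨g, (rhoBar_psi g).symm⟩
  · rintro ⟨g, rfl⟩
    exact ⟨psi g, rhoBar_psi g⟩

/-- The normal subgroup. -/
noncomputable abbrev Q : Subgroup ↥Cz := rhoBar.ker

/-- The quotient. -/
noncomputable def quotIso : ↥Cz ⧸ Q ≃* ↥Om8 :=
  (QuotientGroup.quotientKerEquivRange rhoBar).trans (MulEquiv.subgroupCongr rhoBar_range)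

theorem rho_eq_one_iff (g : ↥Ct) : rho g = 1 ↔ rhoM g.1 = 1 := by
  constructor
  · intro h
    exact congrArg (fun x : ↥O8 => ((x : GL J8 (ZMod 2)) : Matrix J8 J8 (ZMod 2))) h
  · intro h
    exact Subtype.ext (Units.ext h)

theorem psi_mem_Q (g : ↥Ct) : psi g ∈ Q ↔ rhoM g.1 = 1 := by
  rw [MonoidHom.mem_ker, rhoBar_psi, rho_eq_one_iff]

/-! ### the normal subgroup is the extraspecial group of `Helper92_E8f` -/

noncomputable def theta0 : R →* ↥Cz := psi.comp (incl.comp (phi.ker.subtype))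

theorem theta0_mem (r : R) : theta0 r ∈ Q := by
  show psi (incl r.1) ∈ Q
  rw [psi_mem_Q]
  exact rhoM_of_phiM r.1.2 (congrArg Subtype.val (MonoidHom.mem_ker.mp r.2))

noncomputable def theta : R →* ↥Q := theta0.codRestrict Q theta0_mem

theorem theta_inj : Function.Injective theta := by
  rw [injective_iff_map_eq_one]
  intro r hr
  have h1 : psi (incl r.1) = 1 := congrArg Subtype.val hr
  rcases (psi_eq_one _).mp h1 with h | h
  · exact ext_R h
  · exfalso
    have h2 : r.1.1 • UL = UL := ((mem_C0 r.1.1).mp r.1.2).2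
    have h3 : r.1.1 = negElt := h
    rw [h3, negElt_smul''] at h2
    exact UL_ne_neg h2.symm

theorem theta_surj : Function.Surjective theta := by
  intro q
  obtain ⟨g, hg⟩ := psi_surj q.1
  have h2 : rhoM g.1 = 1 := by
    rw [← psi_mem_Q, hg]
    exact q.2
  rcases ker_cases g.2 h2 with ⟨hc, hp⟩ | ⟨hc, hp⟩
  · refine ⟨⟨⟨g.1, hc⟩, MonoidHom.mem_ker.mpr (Subtype.ext hp)⟩, ?_⟩
    apply Subtype.ext
    rw [← hg]
    rfl
  · refine ⟨⟨⟨negElt * g.1, hc⟩, MonoidHom.mem_ker.mpr (Subtype.ext hp)⟩, ?_⟩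
    apply Subtype.ext
    apply Subtype.ext
    show pr (negElt * g.1) = q.1.1
    rw [← hg, map_mul, pr_negElt, one_mul]
    rfl

noncomputable def thetaIso : R ≃* ↥Q := MulEquiv.ofBijective theta ⟨theta_inj, theta_surj⟩

theorem card_Q : Nat.card ↥Q = 2 ^ 9 := by
  rw [← Nat.card_congr thetaIso.toEquiv]
  exact card_R

theorem extra_Q : Cfsg.IsExtraspecial 2 ↥Q :=
  Cfsg.Agent.Lib.Helper63_Heisenberg.isExtraspecial_of_mulEquiv thetaIso ker_extraspecial

/-! ### the generalized Fitting subgroup -/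

/-- The homomorphism onto the commutator subgroup of the orthogonal group. -/
noncomputable def rhoBar' : ↥Cz →* ↥Om8 :=
  rhoBar.codRestrict Om8 (fun c => by rw [← rhoBar_range]; exact ⟨c, rfl⟩)

theorem rhoBar'_surj : Function.Surjective rhoBar' := by
  intro y
  have hy : y.1 ∈ rhoBar.range := by
    rw [rhoBar_range]
    exact y.2
  obtain ⟨c, hc⟩ := hy
  exact ⟨c, Subtype.ext hc⟩

theorem rhoBar'_ker : rhoBar'.ker = Q := MonoidHom.ker_codRestrict _ _ _

theorem pCore_Cz : Cfsg.pCore 2 ↥Cz = Q := by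
  rw [← rhoBar'_ker]
  apply pCore_eq_ker rhoBar' rhoBar'_surj
  rw [rhoBar'_ker]
  exact IsPGroup.of_card (n := 9) card_Q

theorem of_card_two {α : Type*} (h : Nat.card α = 2) (x y w : α) (hxy : x ≠ y) : w = x ∨ w = y := by
  obtain ⟨a, b, hab, hu⟩ := Nat.card_eq_two_iff.mp h
  have hx : x ∈ ({a, b} : Set α) := by rw [hu]; trivial
  have hy : y ∈ ({a, b} : Set α) := by rw [hu]; trivial
  have hw : w ∈ ({a, b} : Set α) := by rw [hu]; trivial
  simp only [Set.mem_insert_iff, Set.mem_singleton_iff] at hx hy hw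
  rcases hx with rfl | rfl <;> rcases hy with rfl | rfl <;> rcases hw with rfl | rfl <;> tauto

/-- The image of `t` in the centraliser. -/
def tC : ↥Ct := ⟨tE, (mem_Ct tE).mpr rfl⟩

theorem psi_tC_mem : psi tC ∈ Q := by
  rw [psi_mem_Q]
  have h : zeta.1.1 = tE := zeta_val
  show rhoM tE = 1
  rw [← h]
  exact rhoM_of_phiM zeta.1.2 (congrArg Subtype.val (MonoidHom.mem_ker.mp zeta.2))

theorem psi_tC_central (c : ↥Cz) : psi tC * c = c * psi tC := by
  apply Subtype.ext
  exact (mem_Cz c.1).mp c.2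

/-- The elements of the centre of `Q`. -/
theorem center_Q_cases (x : ↥Q) (hx : x ∈ Subgroup.center ↥Q) :
    x.1 = 1 ∨ x.1 = psi tC := by
  have h2 : Nat.card ↥(Subgroup.center ↥Q) = 2 := extra_Q.2
  have hz : (⟨psi tC, psi_tC_mem⟩ : ↥Q) ∈ Subgroup.center ↥Q := by
    rw [Subgroup.mem_center_iff]
    intro y
    apply Subtype.ext
    exact (psi_tC_central y.1).symm
  have hne : (1 : ↥(Subgroup.center ↥Q)) ≠ ⟨⟨psi tC, psi_tC_mem⟩, hz⟩ := by
    intro h
    have h3 : (1 : ↥Cz) = psi tC := congrArg (fun y : ↥(Subgroup.center ↥Q) => y.1.1) h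
    rcases (psi_eq_one tC).mp h3.symm with h4 | h4
    · exact tE_ne_one h4
    · exact tE_ne_neg h4
  rcases of_card_two h2 1 ⟨⟨psi tC, psi_tC_mem⟩, hz⟩ ⟨x, hx⟩ hne with h | h
  · left
    exact congrArg (fun y : ↥(Subgroup.center ↥Q) => y.1.1) h
  · right
    exact congrArg (fun y : ↥(Subgroup.center ↥Q) => y.1.1) h

/-- The coordinate permutation `g2` and the sign change at `u1`, in the centraliser. -/
def cC : ↥Ct := ⟨g2, g2_mem⟩
def rC : ↥Ct := ⟨eps u1, C0_le_Ct (eps_mem_C0 CO_u1)⟩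

theorem psi_rC_mem : psi rC ∈ Q := by
  rw [psi_mem_Q]
  exact rhoM_of_fix (eps_fix CO_u1)

theorem centralizer_Q_le : Subgroup.centralizer (Q : Set ↥Cz) ≤ Q := by
  have hsimple := simple_Om8
  have hDn : (Subgroup.centralizer (Q : Set ↥Cz)).Normal := Subgroup.normal_centralizer
  have hmapn : ((Subgroup.centralizer (Q : Set ↥Cz)).map rhoBar').Normal :=
    hDn.map rhoBar' rhoBar'_surj
  rcases hmapn.eq_bot_or_eq_top with h | h
  · have h0 := (Subgroup.map_eq_bot_iff _).mp h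
    rwa [rhoBar'_ker] at h0
  · exfalso
    have h1 : rhoBar' (psi cC) ∈ (Subgroup.centralizer (Q : Set ↥Cz)).map rhoBar' := by
      rw [h]
      exact Subgroup.mem_top _
    obtain ⟨d, hd, hdc⟩ := h1
    -- `q = d⁻¹ c` lies in `Q`
    have hq : d⁻¹ * psi cC ∈ Q := by
      rw [← rhoBar'_ker, MonoidHom.mem_ker, map_mul, map_inv, hdc, inv_mul_cancel]
    set q : ↥Cz := d⁻¹ * psi cC with hqdef
    have hcq : psi cC = d * q := by
      rw [hqdef]
      group
    have hdcomm : ∀ y ∈ Q, y * d = d * y := fun y hy =>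
      (Subgroup.mem_centralizer_iff.mp hd) y hy
    have hn : Q.Normal := inferInstance
    have hconj : q * psi rC * q⁻¹ ∈ Q := hn.conj_mem _ psi_rC_mem q
    have e1 : psi cC * psi rC * (psi cC)⁻¹ = q * psi rC * q⁻¹ := by
      rw [hcq]
      have : d * q * psi rC * (d * q)⁻¹ = d * (q * psi rC * q⁻¹) * d⁻¹ := by group
      rw [this, ← hdcomm _ hconj]
      group
    -- the commutator lies in the centre of `Q`
    obtain ⟨qQ, hqQ⟩ : ∃ qQ : ↥Q, qQ = ⟨q, hq⟩ := ⟨_, rfl⟩
    obtain ⟨rQ, hrQ⟩ : ∃ rQ : ↥Q, rQ = ⟨psi rC, psi_rC_mem⟩ := ⟨_, rfl⟩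
    have hcomm : qQ * rQ * qQ⁻¹ * rQ⁻¹ ∈ Subgroup.center ↥Q := by
      rw [← extra_Q.1.2.2]
      exact Subgroup.commutator_mem_commutator (Subgroup.mem_top qQ) (Subgroup.mem_top rQ)
    have e2 : ((qQ * rQ * qQ⁻¹ * rQ⁻¹ : ↥Q) : ↥Cz) =
        psi cC * psi rC * (psi cC)⁻¹ * (psi rC)⁻¹ := by
      rw [e1, hqQ, hrQ]
      rfl
    have e3 : psi cC * psi rC * (psi cC)⁻¹ * (psi rC)⁻¹ =
        psi ⟨g2 * eps u1 * g2⁻¹ * (eps u1)⁻¹, Ct.mul_mem (Ct.mul_mem (Ct.mul_mem cC.2 rC.2)
          (Ct.inv_mem cC.2)) (Ct.inv_mem rC.2)⟩ := by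
      rw [← map_inv, ← map_inv, ← map_mul, ← map_mul, ← map_mul]
      rfl
    apply comm_ne
    rcases center_Q_cases _ hcomm with h5 | h5
    · rw [e2, e3, psi_eq_one] at h5
      rcases h5 with h6 | h6
      · left; exact h6
      · right; left; exact h6
    · rw [e2, e3] at h5
      have h6 := congrArg Subtype.val h5
      rw [psi_val, psi_val] at h6
      rcases (pr_eq_iff _ _).mp h6.symm with h7 | h7
      · right; right; left; exact h7
      · right; right; right
        have h7' : g2 * eps u1 * g2⁻¹ * (eps u1)⁻¹ = tE * negElt := h7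
        rw [h7']
        exact (negElt_comm' tE).symm

theorem fstar_Cz : Cfsg.generalizedFittingSubgroup ↥Cz = Q := by
  have : Fact (Nat.Prime 2) := ⟨Nat.prime_two⟩
  have hchar : Cfsg.Agent.Lib.Helper49_CharP.IsCharP 2 ↥Cz := by
    show Subgroup.centralizer (Cfsg.pCore 2 ↥Cz : Set ↥Cz) ≤ Cfsg.pCore 2 ↥Cz
    rw [pCore_Cz]
    exact centralizer_Q_le
  rw [Cfsg.Agent.Lib.Helper23_CharP.isCharP_iff_generalizedFitting_eq.mp hchar, pCore_Cz]

/-! ### a conjugate of `z` in `Q` -/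

theorem conj_eq : pr (perm s5) * z * (pr (perm s5))⁻¹ = pr X5 := by
  show pr (perm s5) * pr tE * (pr (perm s5))⁻¹ = pr X5
  rw [← map_inv, ← map_mul, ← map_mul, X5_eq]

theorem negElt_sq' : negElt * negElt = 1 := by
  apply Cfsg.Agent.Lib.Helper7_Mono.ext_elt
  intro v
  rw [mul_smul', negElt_smul'', negElt_smul'', neg_neg, one_smul]

theorem conj_ne : pr X5 ≠ z := by
  intro h
  rcases (pr_eq_iff X5 tE).mp h with h1 | h1
  · exact X5_ne.1 h1.symm
  · apply X5_ne.2
    have h3 : tE * negElt = X5 := by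
      rw [h1, mul_assoc, negElt_sq', mul_one]
    rw [← h3]
    exact (negElt_comm' tE).symm

/-- The first Conway group, the automorphism group of the Leech lattice modulo its centre, satisfies the large extraspecial hypothesis of plus type in dimension 8: it has an involution z whose centralizer C has generalized Fitting subgroup Q extraspecial of order 2^9, with C/Q isomorphic to the commutator subgroup of the isometry group of the hyperbolic quadratic form in dimension 8 over the field with two elements, and some conjugate of z other than z lies in Q. -/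
theorem result : ∃ z : Cfsg.Spor.Co1, orderOf z = 2 ∧ ∃ (Q : Subgroup (Subgroup.centralizer ({z} : Set Cfsg.Spor.Co1))) (_ : Q.Normal), Cfsg.generalizedFittingSubgroup (Subgroup.centralizer ({z} : Set Cfsg.Spor.Co1)) = Q ∧ Cfsg.IsExtraspecial 2 Q ∧ Nat.card Q = 2 ^ 9 ∧ Nonempty ((Subgroup.centralizer ({z} : Set Cfsg.Spor.Co1)) ⧸ Q ≃* Cfsg.Omega (ZMod 2) (Cfsg.quadFormPlus 4 (ZMod 2))) ∧ ∃ g : Cfsg.Spor.Co1, (∃ hq : g * z * g⁻¹ ∈ Subgroup.centralizer ({z} : Set Cfsg.Spor.Co1), (⟨g * z * g⁻¹, hq⟩ : Subgroup.centralizer ({z} : Set Cfsg.Spor.Co1)) ∈ Q) ∧ g * z * g⁻¹ ≠ z := by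
  refine ⟨z, orderOf_z, Q, inferInstance, fstar_Cz, extra_Q, card_Q, ⟨quotIso⟩, pr (perm s5),
    ⟨?_, ?_⟩, ?_⟩
  · rw [conj_eq]
    exact (psi ⟨X5, X5_mem_Ct⟩).2
  · have h : (⟨pr (perm s5) * z * (pr (perm s5))⁻¹, by rw [conj_eq]; exact (psi ⟨X5, X5_mem_Ct⟩).2⟩ :
        ↥Cz) = psi ⟨X5, X5_mem_Ct⟩ := Subtype.ext conj_eq
    rw [h, psi_mem_Q]
    exact rhoM_X5
  · rw [conj_eq]
    exact conj_ne

end Cfsg.Agent.S5388
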