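import Cfsg.Statements.S5393
import Cfsg.Agent.S5548
import Cfsg.Agent.Lib.Helper7_M24

set_option autoImplicit false
open Cfsg

namespace Cfsg.Agent.S5393

open Cfsg.Agent.Lib.Helper7_M24

theorem one_eq : (fun _ : Cfsg.GolayPt => (1 : ZMod 2)) = (1 : GolayPt → ZMod 2) := rfl

/-- The length-24 code built from the squares modulo 23 contains the all-ones word, and the code modulo the all-ones word is an irreducible module over the field with two elements for the code's automorphism group: a subspace of the code that contains the all-ones word and is invariant under every coordinate permutation preserving the code is either the span of the all-ones word or the whole code. -/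
theorem result : (fun _ : Cfsg.GolayPt => (1 : ZMod 2)) ∈ Cfsg.golayCode ∧ ∀ W : Submodule (ZMod 2) (Cfsg.GolayPt → ZMod 2), (fun _ => (1 : ZMod 2)) ∈ W → W ≤ Cfsg.golayCode → (∀ σ ∈ Cfsg.M24, ∀ w ∈ W, (fun p => w (σ.symm p)) ∈ W) → W = Submodule.span (ZMod 2) {fun _ => (1 : ZMod 2)} ∨ W = Cfsg.golayCode := by
  refine ⟨one_mem, ?_⟩
  intro W h1 hWC hW
  by_cases h2 : ∀ c ∈ W, c = 0 ∨ c = (1 : GolayPt → ZMod 2)
  · left
    apply le_antisymm
    · intro c hc
      rcases h2 c hc with rfl | rfl
      · exact Submodule.zero_mem _
      · exact Submodule.subset_span (Set.mem_singleton _)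
    · rw [Submodule.span_le]
      intro c hc
      rw [Set.mem_singleton_iff] at hc
      rw [hc]
      exact h1
  · right
    push Not at h2
    obtain ⟨c, hcW, hc0, hc1⟩ := h2
    have hInv : Cfsg.Agent.S5548.Inv W := fun σ hσ w hw => hW σ hσ w hw
    exact le_antisymm hWC (Cfsg.Agent.S5548.F2 W hInv hWC c hcW hc0 hc1)

end Cfsg.Agent.S5393
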