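import Cfsg.Statements.S5606
import Cfsg.Agent.Lib.Helper93_S5606a

set_option autoImplicit false
open scoped Pointwise
open Cfsg

namespace Cfsg.Agent.S5606

open Cfsg.Agent.Lib.Helper26_Golay Cfsg.Agent.Lib.Helper93_M24Obj Cfsg.Agent.Lib.Helper93_S5606a

/-- A fixed-point-free involution of `M24` is conjugate to the representative. -/
theorem reduce (g : Equiv.Perm GolayPt) (hg : g ∈ M24) (h₂ : orderOf g = 2)
    (h₀ : ∀ p, g p ≠ p) :
    ∃ ε ∈ M24, Represents ε E ∧ ∃ k ∈ M24, (k * g * k⁻¹ = ε ∨ k * g * k⁻¹ = ε⁻¹) := by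
  have hg2 : g ^ 2 = 1 := by rw [← h₂]; exact pow_orderOf_eq_one g
  have hgg : ∀ p, g (g p) = p := by
    intro p
    have := congrArg (fun τ : Equiv.Perm GolayPt => τ p) hg2
    simpa [pow_succ, Equiv.Perm.mul_apply] using this
  let a : GolayPt := pt 0
  have h1 : g a ≠ a := h₀ a
  obtain ⟨b, -, hb⟩ := Finset.exists_mem_notMem_of_card_lt_card
    (s := ({a, g a} : Finset GolayPt)) (t := Finset.univ) (by
      refine lt_of_le_of_lt (Finset.card_le_two) ?_
      rw [Finset.card_univ]; decide)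
  simp only [Finset.mem_insert, Finset.mem_singleton, not_or] at hb
  obtain ⟨hb0, hb1⟩ := hb
  have hgb0 : g b ≠ a := by
    intro h
    apply hb1
    have := hgg b
    rw [h] at this
    exact this.symm
  have hgb1 : g b ≠ g a := fun h => hb0 (g.injective h)
  have hgbb : g b ≠ b := h₀ b
  obtain ⟨c, -, hc⟩ := Finset.exists_mem_notMem_of_card_lt_card
    (s := ({a, g a, b, g b} : Finset GolayPt)) (t := Finset.univ) (by
      refine lt_of_le_of_lt (Finset.card_le_four) ?_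
      rw [Finset.card_univ]; decide)
  simp only [Finset.mem_insert, Finset.mem_singleton, not_or] at hc
  obtain ⟨hc0, hc1, hc2, hc3⟩ := hc
  have hinj : Function.Injective ![a, g a, b, g b, c] := by
    rw [← List.nodup_ofFn]
    simp only [List.ofFn_succ, List.ofFn_zero, Matrix.cons_val_zero, Matrix.cons_val_succ,
      List.nodup_cons, List.mem_cons,
      List.not_mem_nil, or_false, not_or, List.nodup_nil, and_true, not_false_eq_true]
    refine ⟨⟨Ne.symm h1, Ne.symm hb0, Ne.symm hgb0, Ne.symm hc0⟩,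
      ⟨Ne.symm hb1, Ne.symm hgb1, Ne.symm hc1⟩, ⟨Ne.symm hgbb, Ne.symm hc2⟩, Ne.symm hc3⟩
  obtain ⟨k₀, hk₀, e0, e1, e2, e3, -⟩ := exists_map5 _ hinj
  simp only [Matrix.cons_val_zero, Matrix.cons_val_one, Matrix.cons_val] at e0 e1 e2 e3
  have hg' : k₀ * g * k₀⁻¹ ∈ M24 := M24.mul_mem (M24.mul_mem hk₀ hg) (M24.inv_mem hk₀)
  have app : ∀ p q, k₀ p = q → (k₀ * g * k₀⁻¹) q = k₀ (g p) := by
    intro p q h
    rw [← h]
    simp [Equiv.Perm.mul_apply]
  obtain ⟨t23, t0, t1, t2⟩ := T0_img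
  obtain ⟨ε, hε, hεT, k, hk, hconj⟩ := class_reduce4 T0 T0_in E E rep_in inv_ok ok K
    (fun _ => false) class_ok hg'
    (by rw [app _ _ e0, t23, e1]) (by rw [app _ _ e1, t0, hgg, e0])
    (by rw [app _ _ e2, t1, e3]) (by rw [app _ _ e3, t2, hgg, e2])
    (by
      intro f hrep
      unfold ok
      rw [Bool.and_eq_true, beq_iff_eq]
      constructor
      · apply sqId_of_pow hrep
        rw [conj_pow', hg2, mul_one, mul_inv_cancel]
      · rw [← card_fixed_eq hrep, card_fixed_conj, Finset.card_eq_zero,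
          Finset.filter_eq_empty_iff]
        intro p _
        exact h₀ p)
  refine ⟨ε, hε, hεT, k * k₀, M24.mul_mem hk hk₀, ?_⟩
  have hmul : k * k₀ * g * (k * k₀)⁻¹ = k * (k₀ * g * k₀⁻¹) * k⁻¹ := by
    rw [mul_inv_rev]; group
  rw [hmul]
  exact hconj

theorem result (g : Equiv.Perm Cfsg.GolayPt) (hg : g ∈ Cfsg.M24) (h₂ : orderOf g = 2) (h₀ : ∀ p, g p ≠ p) : {o : Finset Cfsg.GolayPt | o ∈ Cfsg.octads ∧ g • o = o}.ncard = 15 ∧ {T : Finset (Finset Cfsg.GolayPt) | T ∈ Cfsg.trios ∧ g • T = T}.ncard = 75 ∧ {S : Finset (Finset Cfsg.GolayPt) | S ∈ Cfsg.sextets ∧ g • S = S}.ncard = 51 := by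
  obtain ⟨ε, hε, hεT, k, hk, hconj⟩ := reduce g hg h₂ h₀
  refine ⟨?_, ?_, ?_⟩
  · rw [ncard_fixed_of_conj octads (fun g hg X hX => smul_mem_octads hg hX) hk hconj,
      ncard_fixed_octads hεT, cnt_oct]
  · rw [ncard_fixed_of_conj trios (fun g hg X hX => smul_mem_trios hg hX) hk hconj,
      ncard_fixed_trios hεT, cnt_trio]
  · rw [ncard_fixed_of_conj sextets (fun g hg X hX => smul_mem_sextets hg hX) hk hconj,
      ncard_fixed_sextets hεT, cnt_sext]

end Cfsg.Agent.S5606
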