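import Cfsg.Statements.S5394
import Cfsg.Agent.S5606
import Cfsg.Agent.Lib.Helper93_S5605a
import Cfsg.Agent.Lib.Helper93_M24Fix
import Cfsg.Agent.Lib.Helper93_M24Six
import Cfsg.Agent.Lib.Helper93_M24Count4

set_option autoImplicit false
open scoped Pointwise
open Cfsg

namespace Cfsg.Agent.S5394

open Cfsg.Agent.Lib.Helper26_Golay Cfsg.Agent.Lib.Helper93_M24Obj

/-- An involution of `M24` with eight fixed points is conjugate to the representative. -/
theorem reduceA (g : Equiv.Perm GolayPt) (hg : g ∈ M24) (h₂ : orderOf g = 2)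
    (h₈ : (Finset.univ.filter fun p => g p = p).card = 8) :
    ∃ ε ∈ M24, Represents ε (f5At 1) ∧ ∃ k ∈ M24, (k * g * k⁻¹ = ε ∨ k * g * k⁻¹ = ε⁻¹) := by
  obtain ⟨A, hAsub, hAcard⟩ := Finset.exists_subset_card_eq
    (s := Finset.univ.filter fun p => g p = p) (n := 5) (by omega)
  have hfix : ∀ p ∈ A, g p = p := fun p hp => (Finset.mem_filter.mp (hAsub hp)).2
  have hg2 : g ^ 2 = 1 := by rw [← h₂]; exact pow_orderOf_eq_one g
  exact class_reduce (f5At 1) (f5At 1) Cfsg.Agent.Lib.Helper93_S5605a.rep_in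
    Cfsg.Agent.Lib.Helper93_S5605a.inv_ok Cfsg.Agent.Lib.Helper93_S5605a.ok
    Cfsg.Agent.Lib.Helper93_S5605a.K (fun _ => false) Cfsg.Agent.Lib.Helper93_S5605a.class_ok hg A
    hAcard hfix (by
      intro k _ j _ hrep
      unfold Cfsg.Agent.Lib.Helper93_S5605a.ok
      rw [Bool.and_eq_true, beq_iff_eq]
      constructor
      · apply sqId_of_pow (repF_of_represents hrep)
        rw [conj_pow', hg2, mul_one, mul_inv_cancel]
      · rw [← card_fixed_eq (repF_of_represents hrep), card_fixed_conj, h₈])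

theorem sqA : sqId (img (f5At 1)) = true := by decide +kernel

theorem sqB : sqId (img Cfsg.Agent.Lib.Helper93_S5606a.E) = true := by decide +kernel

theorem fixA : fixCount (img (f5At 1)) = 8 := by decide +kernel

theorem fixB : fixCount (img Cfsg.Agent.Lib.Helper93_S5606a.E) = 0 := by decide +kernel

theorem maskA : allFold (fun i => (octAt 36).testBit i == (img (f5At 1) i == i)) 24 = true := by
  decide +kernel

/-- Two elements reducing to the same involution representative are conjugate. -/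
theorem conj_of_reduce {T : ℕ} (hsq : sqId (img T) = true) {g h : Equiv.Perm GolayPt}
    (hg : ∃ ε ∈ M24, Represents ε T ∧ ∃ k ∈ M24, (k * g * k⁻¹ = ε ∨ k * g * k⁻¹ = ε⁻¹))
    (hh : ∃ ε ∈ M24, Represents ε T ∧ ∃ k ∈ M24, (k * h * k⁻¹ = ε ∨ k * h * k⁻¹ = ε⁻¹)) :
    ∃ k ∈ M24, k * g * k⁻¹ = h := by
  obtain ⟨ε, -, hεT, k₁, hk₁, h1⟩ := hg
  obtain ⟨ε', -, hεT', k₂, hk₂, h2⟩ := hh
  have hεε : ε' = ε := (repF_of_represents hεT').unique (repF_of_represents hεT)
  subst hεε
  have hsq2 : ε' ^ 2 = 1 := pow_of_sqId (repF_of_represents hεT) hsq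
  have hinv : ε'⁻¹ = ε' := inv_eq_of_mul_eq_one_right (by rw [← pow_two]; exact hsq2)
  rw [hinv, or_self] at h1 h2
  refine ⟨k₂⁻¹ * k₁, M24.mul_mem (M24.inv_mem hk₂) hk₁, ?_⟩
  have : k₂⁻¹ * k₁ * g * (k₂⁻¹ * k₁)⁻¹ = k₂⁻¹ * (k₁ * g * k₁⁻¹) * k₂ := by
    rw [mul_inv_rev]; group
  rw [this, h1, ← h2]
  group

/-- The fixed points of a conjugate. -/
theorem fixed_conj (g k : Equiv.Perm GolayPt) :
    (Finset.univ.filter fun p => g p = p) =
      k⁻¹ • (Finset.univ.filter fun p => (k * g * k⁻¹) p = p) := by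
  ext p
  rw [Finset.mem_inv_smul_finset_iff, Finset.mem_filter, Finset.mem_filter]
  have h0 : k⁻¹ (k p) = p := by simp
  simp only [Finset.mem_univ, true_and, Equiv.Perm.smul_def, Equiv.Perm.mul_apply, h0,
    EmbeddingLike.apply_eq_iff_eq]

/-- The fixed points of the representative with eight fixed points form an octad. -/
theorem fixedA {ε : Equiv.Perm GolayPt} (hε : Represents ε (f5At 1)) :
    (Finset.univ.filter fun p => ε p = p) = oct8 := by
  ext p
  unfold oct8
  rw [Finset.mem_filter, mem_dec]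
  have h := (allFold_eq_true _ _).mp maskA (idx p) (idx_lt p)
  rw [beq_iff_eq] at h
  rw [h, beq_iff_eq, ← hε p]
  simp only [Finset.mem_univ, true_and]
  constructor
  · intro e
    rw [e]
  · intro e
    exact idx_injective e

theorem orderOf_two {ε : Equiv.Perm GolayPt} {T : ℕ} (hε : Represents ε T)
    (hsq : sqId (img T) = true) (hfix : fixCount (img T) < 24) : orderOf ε = 2 := by
  apply orderOf_eq_prime (pow_of_sqId (repF_of_represents hε) hsq)
  intro h1
  have := card_fixed_eq (repF_of_represents hε)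
  rw [h1] at this
  simp only [Equiv.Perm.coe_one, id_eq, Finset.filter_true, Finset.card_univ] at this
  have hc : Fintype.card GolayPt = 24 := by decide
  omega

/-- The automorphism group of the length-24 code built from the squares modulo 23 has exactly two conjugacy classes of involutions: an involution either fixes exactly the eight points of an octad or has no fixed points, both kinds occur, and any two involutions of the same kind are conjugate in the group. -/
theorem result : (∀ g ∈ Cfsg.M24, orderOf g = 2 → (Finset.univ.filter fun p => g p = p) ∈ Cfsg.octads ∨ ∀ p, g p ≠ p) ∧ (∃ g ∈ Cfsg.M24, orderOf g = 2 ∧ (Finset.univ.filter fun p => g p = p) ∈ Cfsg.octads) ∧ (∃ g ∈ Cfsg.M24, orderOf g = 2 ∧ ∀ p, g p ≠ p) ∧ ∀ g ∈ Cfsg.M24, ∀ h ∈ Cfsg.M24, orderOf g = 2 → orderOf h = 2 → ((∀ p, g p ≠ p) ↔ (∀ p, h p ≠ p)) → ∃ k ∈ Cfsg.M24, k * g * k⁻¹ = h := by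
  have noFix : ∀ {g : Equiv.Perm GolayPt}, (Finset.univ.filter fun p => g p = p).card = 0 →
      ∀ p, g p ≠ p := by
    intro g h p hp
    rw [Finset.card_eq_zero, Finset.filter_eq_empty_iff] at h
    exact h (Finset.mem_univ p) hp
  refine ⟨?_, ?_, ?_, ?_⟩
  · intro g hg h₂
    rcases fix_of_order2 hg h₂ with h8 | h0
    · left
      obtain ⟨ε, hε, hεT, k, hk, hconj⟩ := reduceA g hg h₂ h8
      have hsq2 : ε ^ 2 = 1 := pow_of_sqId (repF_of_represents hεT) sqA
      have hinv : ε⁻¹ = ε := inv_eq_of_mul_eq_one_right (by rw [← pow_two]; exact hsq2)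
      rw [hinv, or_self] at hconj
      rw [fixed_conj g k, hconj, fixedA hεT]
      exact smul_mem_octads (M24.inv_mem hk) oct8_mem
    · right
      exact noFix h0
  · obtain ⟨hε, hεT⟩ := tblPerm_spec Cfsg.Agent.Lib.Helper93_S5605a.rep_in
    refine ⟨_, hε, orderOf_two hεT sqA (by rw [fixA]; norm_num), ?_⟩
    rw [fixedA hεT]
    exact oct8_mem
  · obtain ⟨hε, hεT⟩ := tblPerm_spec Cfsg.Agent.Lib.Helper93_S5606a.rep_in
    refine ⟨_, hε, orderOf_two hεT sqB (by rw [fixB]; norm_num), ?_⟩
    apply noFix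
    rw [card_fixed_eq (repF_of_represents hεT), fixB]
  · intro g hg h hh og oh hiff
    by_cases hfpf : ∀ p, g p ≠ p
    · exact conj_of_reduce sqB (Cfsg.Agent.S5606.reduce g hg og hfpf)
        (Cfsg.Agent.S5606.reduce h hh oh (hiff.mp hfpf))
    · have hg8 : (Finset.univ.filter fun p => g p = p).card = 8 := by
        rcases fix_of_order2 hg og with h8 | h0
        · exact h8
        · exact absurd (noFix h0) hfpf
      have hh8 : (Finset.univ.filter fun p => h p = p).card = 8 := by
        rcases fix_of_order2 hh oh with h8 | h0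
        · exact h8
        · exact absurd (hiff.mpr (noFix h0)) hfpf
      exact conj_of_reduce sqA (reduceA g hg og hg8) (reduceA h hh oh hh8)

end Cfsg.Agent.S5394
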