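import Cfsg.Statements.S5395

set_option autoImplicit false
open Cfsg
open scoped commutatorElement IsMulCommutative

namespace Cfsg.Agent.S5395

/-- For an automorphism `φ` that is trivial modulo the centre, the map `x ↦ φ x * x⁻¹` is a homomorphism into the centre. -/
def quotHom {E : Type*} [Group E] (φ : E ≃* E) (hφ : ∀ x : E, φ x * x⁻¹ ∈ Subgroup.center E) :
    E →* Subgroup.center E where
  toFun x := ⟨φ x * x⁻¹, hφ x⟩
  map_one' := by
    apply Subtype.ext
    simp
  map_mul' x y := by
    apply Subtype.ext
    simp only [map_mul, mul_inv_rev, Subgroup.coe_mul]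
    have hc := (Subgroup.mem_center_iff.mp (hφ y)) x⁻¹
    calc φ x * φ y * (y⁻¹ * x⁻¹) = φ x * ((φ y * y⁻¹) * x⁻¹) := by group
      _ = φ x * (x⁻¹ * (φ y * y⁻¹)) := by rw [hc]
      _ = φ x * x⁻¹ * (φ y * y⁻¹) := by group

theorem quotHom_apply {E : Type*} [Group E] (φ : E ≃* E) (hφ : ∀ x : E, φ x * x⁻¹ ∈ Subgroup.center E)
    (x : E) : ((quotHom φ hφ x : Subgroup.center E) : E) = φ x * x⁻¹ := rfl

theorem conj_mem_center {E : Type*} [Group E] (hcomm : commutator E = Subgroup.center E) (g x : E) :
    (MulAut.conj g) x * x⁻¹ ∈ Subgroup.center E := by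
  rw [← hcomm, commutator_def]
  have : (MulAut.conj g) x * x⁻¹ = ⁅g, x⁆ := by
    rw [MulAut.conj_apply, commutatorElement_def]
  rw [this]
  exact Subgroup.commutator_mem_commutator (Subgroup.mem_top g) (Subgroup.mem_top x)

/-- For a finite extraspecial 2-group E, an automorphism of E that induces the identity on E modulo its centre is inner (so these automorphisms form exactly the inner automorphism group, an elementary abelian 2-group of order |E|/2). -/
theorem result {E : Type*} [Group E] [Finite E] (hE : Cfsg.IsExtraspecial 2 E) (φ : E ≃* E) (hφ : ∀ x : E, φ x * x⁻¹ ∈ Subgroup.center E) : ∃ g : E, ∀ x : E, φ x = g * x * g⁻¹ := by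
  obtain ⟨⟨hp, hfrat, hcomm⟩, hcard⟩ := hE
  -- a character of the centre with trivial kernel
  have : NeZero (Monoid.exponent (Subgroup.center E)) := ⟨Monoid.exponent_ne_zero_of_finite⟩
  obtain ⟨a, ha, hauniq⟩ := (Nat.card_eq_two_iff' (1 : Subgroup.center E)).mp hcard
  obtain ⟨χ, hχ⟩ := CommGroup.exists_apply_ne_one_of_hasEnoughRootsOfUnity (Subgroup.center E) ℂ ha
  have hχker : ∀ c : Subgroup.center E, χ c = 1 → c = 1 := by
    intro c hc
    by_contra hne
    have := hauniq c hne
    rw [this] at hc
    exact hχ hc
  -- the dual of the abelianization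
  have : NeZero (Monoid.exponent (Abelianization E)) := ⟨Monoid.exponent_ne_zero_of_finite⟩
  -- the pairing homomorphism
  let Ψ : E →* (Abelianization E →* ℂˣ) :=
    { toFun := fun g => Abelianization.lift (χ.comp (quotHom (MulAut.conj g) (conj_mem_center hcomm g)))
      map_one' := by
        apply Abelianization.hom_ext
        apply MonoidHom.ext
        intro x
        rw [MonoidHom.comp_apply, MonoidHom.comp_apply]
        have h1 : quotHom (MulAut.conj (1 : E)) (conj_mem_center hcomm 1) x = 1 := by
          apply Subtype.ext
          rw [quotHom_apply]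
          simp
        change (Abelianization.lift (χ.comp (quotHom (MulAut.conj (1 : E)) (conj_mem_center hcomm 1))))
          (Abelianization.of x) = 1
        rw [Abelianization.lift_apply_of, MonoidHom.comp_apply, h1, map_one]
      map_mul' := by
        intro g h
        apply Abelianization.hom_ext
        apply MonoidHom.ext
        intro x
        rw [MonoidHom.comp_apply, MonoidHom.comp_apply]
        have h1 : quotHom (MulAut.conj (g * h)) (conj_mem_center hcomm (g * h)) x
            = quotHom (MulAut.conj g) (conj_mem_center hcomm g) x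
              * quotHom (MulAut.conj h) (conj_mem_center hcomm h) x := by
          apply Subtype.ext
          rw [Subgroup.coe_mul, quotHom_apply, quotHom_apply, quotHom_apply]
          have hc := (Subgroup.mem_center_iff.mp (conj_mem_center hcomm h x)) g
          simp only [MulAut.conj_apply] at hc ⊢
          calc g * h * x * (g * h)⁻¹ * x⁻¹ = (g * (h * x * h⁻¹ * x⁻¹)) * x * g⁻¹ * x⁻¹ := by group
            _ = ((h * x * h⁻¹ * x⁻¹) * g) * x * g⁻¹ * x⁻¹ := by rw [hc]
            _ = (h * x * h⁻¹ * x⁻¹) * (g * x * g⁻¹ * x⁻¹) := by group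
            _ = g * x * g⁻¹ * x⁻¹ * (h * x * h⁻¹ * x⁻¹) := by
              have hc2 := (Subgroup.mem_center_iff.mp (conj_mem_center hcomm h x)) (g * x * g⁻¹ * x⁻¹)
              simp only [MulAut.conj_apply] at hc2
              exact hc2.symm
        change (Abelianization.lift (χ.comp (quotHom (MulAut.conj (g * h)) (conj_mem_center hcomm (g * h)))))
          (Abelianization.of x) =
          (Abelianization.lift (χ.comp (quotHom (MulAut.conj g) (conj_mem_center hcomm g))))
            (Abelianization.of x) *
          (Abelianization.lift (χ.comp (quotHom (MulAut.conj h) (conj_mem_center hcomm h))))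
            (Abelianization.of x)
        rw [Abelianization.lift_apply_of, Abelianization.lift_apply_of, Abelianization.lift_apply_of,
          MonoidHom.comp_apply, MonoidHom.comp_apply, MonoidHom.comp_apply, h1, map_mul] }
  have hΨ : ∀ g x, Ψ g (Abelianization.of x) = χ (quotHom (MulAut.conj g) (conj_mem_center hcomm g) x) := by
    intro g x
    change (Abelianization.lift (χ.comp (quotHom (MulAut.conj g) (conj_mem_center hcomm g))))
          (Abelianization.of x) = _
    rw [Abelianization.lift_apply_of, MonoidHom.comp_apply]
  -- kernel of Ψ lies in the centre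
  have hker : Ψ.ker ≤ Subgroup.center E := by
    intro g hg
    rw [MonoidHom.mem_ker] at hg
    rw [Subgroup.mem_center_iff]
    intro x
    have h1 : Ψ g (Abelianization.of x) = 1 := by rw [hg]; rfl
    rw [hΨ] at h1
    have h2 := hχker _ h1
    have h3 : (MulAut.conj g) x * x⁻¹ = 1 := by
      have := congrArg Subtype.val h2
      rwa [quotHom_apply] at this
    rw [MulAut.conj_apply] at h3
    have h4 : g * x * g⁻¹ = x := by
      have := mul_inv_eq_one.mp h3
      exact this
    calc x * g = (g * x * g⁻¹) * g := by rw [h4]
      _ = g * x := by group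
  -- Ψ is surjective by counting
  have hsurj : Function.Surjective Ψ := by
    apply MonoidHom.surjective_of_card_ker_le_div
    rw [CommGroup.card_monoidHom_of_hasEnoughRootsOfUnity]
    have h1 : Nat.card (Abelianization E) = (commutator E).index := rfl
    have h2 : Nat.card E = (commutator E).index * Nat.card (commutator E) := by
      rw [mul_comm]; exact (Subgroup.card_mul_index (commutator E)).symm
    rw [h1, h2, Nat.mul_div_cancel_left _ (Nat.pos_of_ne_zero (Subgroup.index_ne_zero_of_finite)), hcomm]
    exact Subgroup.card_le_of_le hker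
  -- apply to φ
  obtain ⟨g, hg⟩ := hsurj (Abelianization.lift (χ.comp (quotHom φ hφ)))
  refine ⟨g, fun x => ?_⟩
  have h1 : Ψ g (Abelianization.of x) = (Abelianization.lift (χ.comp (quotHom φ hφ))) (Abelianization.of x) := by
    rw [hg]
  rw [hΨ, Abelianization.lift_apply_of, MonoidHom.comp_apply] at h1
  have h2 : (quotHom (MulAut.conj g) (conj_mem_center hcomm g) x) * (quotHom φ hφ x)⁻¹ = 1 := by
    apply hχker
    rw [map_mul, map_inv, h1, mul_inv_cancel]
  have h3 := congrArg Subtype.val (mul_inv_eq_one.mp h2)
  rw [quotHom_apply, quotHom_apply, MulAut.conj_apply] at h3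
  exact (mul_right_cancel h3).symm

end Cfsg.Agent.S5395
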