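import Cfsg.Statements.S5405
import Cfsg.Agent.Lib.Helper8_H1Orth
import Cfsg.Agent.Lib.Helper44_OmegaMinusCount

set_option autoImplicit false
open scoped MatrixGroups
open Cfsg

namespace Cfsg.Agent.S5405


open Cfsg.Agent.Lib.Helper44_StdForms

/-- Non-degeneracy from a non-zero Gram determinant in the standard basis (helper14's argument). -/
theorem nondeg_of_gram_det {ι : Type} [Fintype ι] [DecidableEq ι]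
    (Q : QuadraticForm (ZMod 2) (ι → ZMod 2))
    (h : (Matrix.of (fun i j : ι =>
      QuadraticMap.polar (⇑Q) (Pi.single i 1) (Pi.single j 1))).det ≠ 0) :
    (QuadraticMap.polarBilin Q).Nondegenerate := by
  apply LinearMap.BilinForm.nondegenerate_of_det_ne_zero (QuadraticMap.polarBilin Q)
    (Pi.basisFun (ZMod 2) ι)
  convert h using 2
  ext i j
  simp [LinearMap.BilinForm.toMatrix_apply]

theorem hab_one : ∀ z₁ z₂ : ZMod 2, z₁ ^ 2 + 1 * z₁ * z₂ + 1 * z₂ ^ 2 = 0 → z₁ = 0 ∧ z₂ = 0 := by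
  decide

theorem nondeg_minus (m : ℕ) :
    (QuadraticMap.polarBilin (qfMinus m (ZMod 2) 1 1)).Nondegenerate := by
  apply nondeg_of_gram_det
  rw [coe_qfMinus, det_gram_quadFormMinus]
  have h1 : ((4 : ZMod 2) * 1 - 1 ^ 2) = 1 := by decide
  rw [h1, mul_one]
  exact pow_ne_zero _ (by decide)

theorem nondeg_plus (m : ℕ) :
    (QuadraticMap.polarBilin (qfPlus m (ZMod 2))).Nondegenerate := by
  apply nondeg_of_gram_det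
  rw [coe_qfPlus, det_gram_quadFormPlus]
  exact pow_ne_zero _ (by decide)

section m4

/-- The index type. -/
abbrev Im4 := (Fin 1 ⊕ Fin 1) ⊕ Fin 2

/-- The plain quadratic function. -/
abbrev Qfm4 : (Im4 → ZMod 2) → ZMod 2 := Cfsg.quadFormMinus 1 (ZMod 2) 1 1

def am4 : Fin 4 → Im4 → ZMod 2 :=
  ![Sum.elim (Sum.elim ![0] ![0]) ![0, 1], Sum.elim (Sum.elim ![0] ![0]) ![1, 0], Sum.elim (Sum.elim ![0] ![1]) ![0, 1], Sum.elim (Sum.elim ![1] ![1]) ![0, 0]]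

def dm4 : Fin 4 → Im4 → ZMod 2 :=
  ![Sum.elim (Sum.elim ![1] ![1]) ![1, 0], Sum.elim (Sum.elim ![0] ![0]) ![0, 1], Sum.elim (Sum.elim ![1] ![1]) ![0, 0], Sum.elim (Sum.elim ![0] ![1]) ![0, 0]]

def nbm4 : Fin 4 → Fin 4 := ![1, 0, 1, 2]

def tblm4 : List ℕ := [0, 0, 0, 0, 0, 3, 2, 0, 0, 1, 0, 0, 1, 2, 1, 0]

def codem4 (x : Im4 → ZMod 2) : ℕ :=
  1 * (x (.inl (.inl 0))).val + 2 * (x (.inl (.inr 0))).val + 4 * (x (.inr 0)).val + 8 * (x (.inr 1)).val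

def rkm4 (x : Im4 → ZMod 2) : ℕ := (tblm4).getD (codem4 x) 0

theorem ha_m4 : ∀ i, Qfm4 (am4 i) = 1 := by decide +kernel

theorem hnb_m4 : ∀ i, QuadraticMap.polar Qfm4 (am4 (nbm4 i)) (am4 i) = 1 := by
  decide +kernel

theorem hlt_m4 : ∀ i : Fin 4, i ≠ 0 → nbm4 i < i := by decide +kernel

theorem htree_m4 : ∀ i j, QuadraticMap.polar Qfm4 (am4 i) (am4 j) = 1 → i ≠ nbm4 j →
    QuadraticMap.polar Qfm4 (am4 i) (am4 (nbm4 j)) = 0 ∧ am4 i ≠ am4 (nbm4 j) := by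
  decide +kernel

theorem hd_m4 : ∀ i j, QuadraticMap.polar Qfm4 (am4 i) (dm4 j) = if i = j then 1 else 0 := by
  decide +kernel

set_option maxRecDepth 100000 in
theorem hstep_m4 : ∀ x : Im4 → ZMod 2, Qfm4 x = 1 → (∃ i, x = am4 i) ∨
    ∃ k, QuadraticMap.polar Qfm4 x (am4 k) = 1 ∧ rkm4 (x + am4 k) < rkm4 x := by
  decide +kernel

theorem vanish_m4 (Qf : (Im4 → ZMod 2) → ZMod 2) (hQf : Qf = Qfm4)
    (f : ↥(Cfsg.Omega (ZMod 2) Qf) → (Im4 → ZMod 2))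
    (hf : ∀ g h : ↥(Cfsg.Omega (ZMod 2) Qf), f (g * h) = f g +
      Matrix.mulVec (((g : ↥(Cfsg.isometryGroup (ZMod 2) Qf)) :
        Matrix.GeneralLinearGroup Im4 (ZMod 2)) : Matrix Im4 Im4 (ZMod 2)) (f h)) :
    ∃ v : Im4 → ZMod 2, ∀ g : ↥(Cfsg.Omega (ZMod 2) Qf), f g =
      Matrix.mulVec (((g : ↥(Cfsg.isometryGroup (ZMod 2) Qf)) :
        Matrix.GeneralLinearGroup Im4 (ZMod 2)) : Matrix Im4 Im4 (ZMod 2)) v - v := by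
  have hcoe : ⇑(qfMinus 1 (ZMod 2) 1 1) = Qfm4 := coe_qfMinus 1 (ZMod 2) 1 1
  have hQf' : Qf = ⇑(qfMinus 1 (ZMod 2) 1 1) := by rw [hcoe, hQf]
  subst hQf'
  have hQ : (QuadraticMap.polarBilin (qfMinus 1 (ZMod 2) 1 1)).Nondegenerate := nondeg_minus 1
  have hCD : ∀ g : ↥(Cfsg.isometryGroup (ZMod 2) (⇑(qfMinus 1 (ZMod 2) 1 1))),
      ∃ vs : List (Im4 → ZMod 2), (∀ v ∈ vs, (qfMinus 1 (ZMod 2) 1 1) v ≠ 0) ∧
        g = (vs.map (Cfsg.Agent.Lib.Helper44_Spinor.reflT (qfMinus 1 (ZMod 2) 1 1))).prod := Cfsg.Agent.Lib.Helper44_OmegaMinusCount.hasCD_minus (n := 1) 1 1 (by decide) hab_one hQ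
  refine Cfsg.Agent.Lib.Helper8_H1Orth.main (qfMinus 1 (ZMod 2) 1 1) (n := 3) am4 dm4 nbm4 rkm4
    ?_ ?_ hlt_m4 f hf ?_ hQ hCD ?_ ?_
  · intro i
    have := ha_m4 i
    rw [← hcoe] at this
    exact this
  · intro i
    have := hnb_m4 i
    rw [← hcoe] at this
    exact this
  · intro i j
    have := htree_m4 i j
    rw [← hcoe] at this
    exact this
  · intro x
    have := hstep_m4 x
    rw [← hcoe] at this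
    exact this
  · intro i j
    have := hd_m4 i j
    rw [← hcoe] at this
    exact this

end m4

section m6

/-- The index type. -/
abbrev Im6 := (Fin 2 ⊕ Fin 2) ⊕ Fin 2

/-- The plain quadratic function. -/
abbrev Qfm6 : (Im6 → ZMod 2) → ZMod 2 := Cfsg.quadFormMinus 2 (ZMod 2) 1 1

def am6 : Fin 6 → Im6 → ZMod 2 :=
  ![Sum.elim (Sum.elim ![0, 0] ![0, 0]) ![0, 1], Sum.elim (Sum.elim ![0, 0] ![0, 0]) ![1, 0], Sum.elim (Sum.elim ![0, 0] ![0, 1]) ![0, 1], Sum.elim (Sum.elim ![0, 1] ![0, 1]) ![0, 0], Sum.elim (Sum.elim ![1, 0] ![1, 1]) ![0, 0], Sum.elim (Sum.elim ![0, 1] ![1, 1]) ![0, 0]]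

def dm6 : Fin 6 → Im6 → ZMod 2 :=
  ![Sum.elim (Sum.elim ![0, 1] ![1, 1]) ![1, 0], Sum.elim (Sum.elim ![0, 0] ![0, 0]) ![0, 1], Sum.elim (Sum.elim ![0, 1] ![1, 1]) ![0, 0], Sum.elim (Sum.elim ![1, 0] ![1, 1]) ![0, 0], Sum.elim (Sum.elim ![0, 0] ![1, 0]) ![0, 0], Sum.elim (Sum.elim ![1, 0] ![1, 0]) ![0, 0]]

def nbm6 : Fin 6 → Fin 6 := ![1, 0, 1, 2, 3, 2]

def tblm6 : List ℕ := [0, 0, 0, 0, 0, 10, 0, 1, 0, 0, 0, 9, 0, 0, 0, 0, 0, 5, 3, 6, 4, 0, 3, 0, 2, 5, 0, 0, 4, 0, 0, 4, 0, 3, 1, 8, 6, 0, 1, 0, 0, 7, 0, 0, 2, 0, 0, 2, 1, 4, 2, 7, 5, 0, 2, 0, 1, 6, 0, 0, 3, 0, 0, 3]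

def codem6 (x : Im6 → ZMod 2) : ℕ :=
  1 * (x (.inl (.inl 0))).val + 2 * (x (.inl (.inl 1))).val + 4 * (x (.inl (.inr 0))).val + 8 * (x (.inl (.inr 1))).val + 16 * (x (.inr 0)).val + 32 * (x (.inr 1)).val

def rkm6 (x : Im6 → ZMod 2) : ℕ := (tblm6).getD (codem6 x) 0

theorem ha_m6 : ∀ i, Qfm6 (am6 i) = 1 := by decide +kernel

theorem hnb_m6 : ∀ i, QuadraticMap.polar Qfm6 (am6 (nbm6 i)) (am6 i) = 1 := by
  decide +kernel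

theorem hlt_m6 : ∀ i : Fin 6, i ≠ 0 → nbm6 i < i := by decide +kernel

theorem htree_m6 : ∀ i j, QuadraticMap.polar Qfm6 (am6 i) (am6 j) = 1 → i ≠ nbm6 j →
    QuadraticMap.polar Qfm6 (am6 i) (am6 (nbm6 j)) = 0 ∧ am6 i ≠ am6 (nbm6 j) := by
  decide +kernel

theorem hd_m6 : ∀ i j, QuadraticMap.polar Qfm6 (am6 i) (dm6 j) = if i = j then 1 else 0 := by
  decide +kernel

set_option maxRecDepth 100000 in
theorem hstep_m6 : ∀ x : Im6 → ZMod 2, Qfm6 x = 1 → (∃ i, x = am6 i) ∨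
    ∃ k, QuadraticMap.polar Qfm6 x (am6 k) = 1 ∧ rkm6 (x + am6 k) < rkm6 x := by
  decide +kernel

theorem vanish_m6 (Qf : (Im6 → ZMod 2) → ZMod 2) (hQf : Qf = Qfm6)
    (f : ↥(Cfsg.Omega (ZMod 2) Qf) → (Im6 → ZMod 2))
    (hf : ∀ g h : ↥(Cfsg.Omega (ZMod 2) Qf), f (g * h) = f g +
      Matrix.mulVec (((g : ↥(Cfsg.isometryGroup (ZMod 2) Qf)) :
        Matrix.GeneralLinearGroup Im6 (ZMod 2)) : Matrix Im6 Im6 (ZMod 2)) (f h)) :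
    ∃ v : Im6 → ZMod 2, ∀ g : ↥(Cfsg.Omega (ZMod 2) Qf), f g =
      Matrix.mulVec (((g : ↥(Cfsg.isometryGroup (ZMod 2) Qf)) :
        Matrix.GeneralLinearGroup Im6 (ZMod 2)) : Matrix Im6 Im6 (ZMod 2)) v - v := by
  have hcoe : ⇑(qfMinus 2 (ZMod 2) 1 1) = Qfm6 := coe_qfMinus 2 (ZMod 2) 1 1
  have hQf' : Qf = ⇑(qfMinus 2 (ZMod 2) 1 1) := by rw [hcoe, hQf]
  subst hQf'
  have hQ : (QuadraticMap.polarBilin (qfMinus 2 (ZMod 2) 1 1)).Nondegenerate := nondeg_minus 2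
  have hCD : ∀ g : ↥(Cfsg.isometryGroup (ZMod 2) (⇑(qfMinus 2 (ZMod 2) 1 1))),
      ∃ vs : List (Im6 → ZMod 2), (∀ v ∈ vs, (qfMinus 2 (ZMod 2) 1 1) v ≠ 0) ∧
        g = (vs.map (Cfsg.Agent.Lib.Helper44_Spinor.reflT (qfMinus 2 (ZMod 2) 1 1))).prod := Cfsg.Agent.Lib.Helper44_OmegaMinusCount.hasCD_minus (n := 2) 1 1 (by decide) hab_one hQ
  refine Cfsg.Agent.Lib.Helper8_H1Orth.main (qfMinus 2 (ZMod 2) 1 1) (n := 5) am6 dm6 nbm6 rkm6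
    ?_ ?_ hlt_m6 f hf ?_ hQ hCD ?_ ?_
  · intro i
    have := ha_m6 i
    rw [← hcoe] at this
    exact this
  · intro i
    have := hnb_m6 i
    rw [← hcoe] at this
    exact this
  · intro i j
    have := htree_m6 i j
    rw [← hcoe] at this
    exact this
  · intro x
    have := hstep_m6 x
    rw [← hcoe] at this
    exact this
  · intro i j
    have := hd_m6 i j
    rw [← hcoe] at this
    exact this

end m6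

section p8

/-- The index type. -/
abbrev Ip8 := Fin 4 ⊕ Fin 4

/-- The plain quadratic function. -/
abbrev Qfp8 : (Ip8 → ZMod 2) → ZMod 2 := Cfsg.quadFormPlus 4 (ZMod 2)

def ap8 : Fin 8 → Ip8 → ZMod 2 :=
  ![Sum.elim ![0, 0, 0, 1] ![0, 0, 0, 1], Sum.elim ![0, 0, 1, 0] ![0, 0, 1, 1], Sum.elim ![0, 0, 0, 1] ![0, 1, 0, 1], Sum.elim ![0, 1, 0, 0] ![0, 1, 0, 0], Sum.elim ![0, 0, 0, 1] ![0, 1, 1, 1], Sum.elim ![0, 0, 1, 0] ![0, 0, 1, 0], Sum.elim ![0, 0, 0, 1] ![1, 0, 1, 1], Sum.elim ![1, 1, 1, 0] ![1, 1, 1, 0]]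

def dp8 : Fin 8 → Ip8 → ZMod 2 :=
  ![Sum.elim ![1, 1, 0, 0] ![1, 1, 0, 1], Sum.elim ![0, 0, 0, 1] ![0, 0, 0, 1], Sum.elim ![1, 1, 1, 0] ![1, 1, 1, 0], Sum.elim ![0, 0, 0, 0] ![1, 1, 0, 0], Sum.elim ![1, 0, 1, 0] ![1, 0, 1, 0], Sum.elim ![0, 0, 0, 1] ![1, 0, 1, 1], Sum.elim ![1, 0, 0, 0] ![1, 0, 0, 0], Sum.elim ![0, 0, 0, 0] ![1, 0, 0, 0]]

def nbp8 : Fin 8 → Fin 8 := ![1, 0, 1, 2, 3, 4, 5, 2]

def tblp8 : List ℕ := [0, 0, 0, 0, 0, 0, 0, 0, 0, 0, 0, 0, 0, 0, 0, 0, 0, 28, 0, 11, 0, 3, 0, 8, 0, 5, 0, 2, 0, 6, 0, 7, 0, 0, 0, 11, 0, 0, 3, 12, 0, 0, 15, 22, 0, 0, 4, 9, 0, 12, 16, 0, 0, 7, 15, 0, 0, 3, 5, 0, 0, 6, 18, 0, 0, 0, 0, 0, 0, 15, 13, 24, 0, 0, 0, 0, 1, 6, 2, 9, 0, 4, 0, 9, 12, 0, 3, 0, 0, 5, 0, 6, 21, 0, 18, 0, 0, 0, 2, 11, 12, 25, 0, 0, 0, 0, 5, 10, 1, 8, 0, 0, 0, 8, 16, 0, 2, 0, 0, 0, 0, 5, 17, 0, 19,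 0, 0, 9, 0, 0, 0, 0, 0, 0, 0, 0, 0, 5, 1, 10, 11, 26, 2, 13, 0, 4, 0, 3, 0, 5, 0, 8, 22, 0, 17, 0, 1, 0, 14, 0, 0, 0, 16, 21, 0, 0, 3, 10, 0, 9, 0, 0, 1, 14, 0, 0, 0, 4, 6, 0, 0, 7, 17, 0, 18, 0, 0, 10, 13, 0, 0, 9, 0, 0, 0, 0, 0, 7, 3, 8, 10, 27, 1, 12, 0, 0, 0, 0, 0, 4, 0, 7, 20, 0, 19, 0, 0, 0, 15, 0, 0, 6, 0, 1, 0, 0, 4, 11, 2, 7, 0, 0, 0, 13, 0, 0, 0, 0, 14, 23, 0, 6, 16, 0, 20, 0, 0, 8, 14, 0, 0, 10, 0, 2, 4, 0]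

def codep8 (x : Ip8 → ZMod 2) : ℕ :=
  1 * (x (.inl 0)).val + 2 * (x (.inl 1)).val + 4 * (x (.inl 2)).val + 8 * (x (.inl 3)).val + 16 * (x (.inr 0)).val + 32 * (x (.inr 1)).val + 64 * (x (.inr 2)).val + 128 * (x (.inr 3)).val

def rkp8 (x : Ip8 → ZMod 2) : ℕ := (tblp8).getD (codep8 x) 0

theorem ha_p8 : ∀ i, Qfp8 (ap8 i) = 1 := by decide +kernel

theorem hnb_p8 : ∀ i, QuadraticMap.polar Qfp8 (ap8 (nbp8 i)) (ap8 i) = 1 := by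
  decide +kernel

theorem hlt_p8 : ∀ i : Fin 8, i ≠ 0 → nbp8 i < i := by decide +kernel

theorem htree_p8 : ∀ i j, QuadraticMap.polar Qfp8 (ap8 i) (ap8 j) = 1 → i ≠ nbp8 j →
    QuadraticMap.polar Qfp8 (ap8 i) (ap8 (nbp8 j)) = 0 ∧ ap8 i ≠ ap8 (nbp8 j) := by
  decide +kernel

theorem hd_p8 : ∀ i j, QuadraticMap.polar Qfp8 (ap8 i) (dp8 j) = if i = j then 1 else 0 := by
  decide +kernel

set_option maxRecDepth 100000 in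
theorem hstep_p8 : ∀ x : Ip8 → ZMod 2, Qfp8 x = 1 → (∃ i, x = ap8 i) ∨
    ∃ k, QuadraticMap.polar Qfp8 x (ap8 k) = 1 ∧ rkp8 (x + ap8 k) < rkp8 x := by
  decide +kernel

theorem vanish_p8 (Qf : (Ip8 → ZMod 2) → ZMod 2) (hQf : Qf = Qfp8)
    (f : ↥(Cfsg.Omega (ZMod 2) Qf) → (Ip8 → ZMod 2))
    (hf : ∀ g h : ↥(Cfsg.Omega (ZMod 2) Qf), f (g * h) = f g +
      Matrix.mulVec (((g : ↥(Cfsg.isometryGroup (ZMod 2) Qf)) :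
        Matrix.GeneralLinearGroup Ip8 (ZMod 2)) : Matrix Ip8 Ip8 (ZMod 2)) (f h)) :
    ∃ v : Ip8 → ZMod 2, ∀ g : ↥(Cfsg.Omega (ZMod 2) Qf), f g =
      Matrix.mulVec (((g : ↥(Cfsg.isometryGroup (ZMod 2) Qf)) :
        Matrix.GeneralLinearGroup Ip8 (ZMod 2)) : Matrix Ip8 Ip8 (ZMod 2)) v - v := by
  have hcoe : ⇑(qfPlus 4 (ZMod 2)) = Qfp8 := coe_qfPlus 4 (ZMod 2)
  have hQf' : Qf = ⇑(qfPlus 4 (ZMod 2)) := by rw [hcoe, hQf]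
  subst hQf'
  have hQ : (QuadraticMap.polarBilin (qfPlus 4 (ZMod 2))).Nondegenerate := nondeg_plus 4
  have hCD : ∀ g : ↥(Cfsg.isometryGroup (ZMod 2) (⇑(qfPlus 4 (ZMod 2)))),
      ∃ vs : List (Ip8 → ZMod 2), (∀ v ∈ vs, (qfPlus 4 (ZMod 2)) v ≠ 0) ∧
        g = (vs.map (Cfsg.Agent.Lib.Helper44_Spinor.reflT (qfPlus 4 (ZMod 2)))).prod := fun g => Cfsg.Agent.Lib.Helper44_OmegaAll.exists_list_reflT_all _ hQ (Or.inr (by decide)) g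
  refine Cfsg.Agent.Lib.Helper8_H1Orth.main (qfPlus 4 (ZMod 2)) (n := 7) ap8 dp8 nbp8 rkp8
    ?_ ?_ hlt_p8 f hf ?_ hQ hCD ?_ ?_
  · intro i
    have := ha_p8 i
    rw [← hcoe] at this
    exact this
  · intro i
    have := hnb_p8 i
    rw [← hcoe] at this
    exact this
  · intro i j
    have := htree_p8 i j
    rw [← hcoe] at this
    exact this
  · intro x
    have := hstep_p8 x
    rw [← hcoe] at this
    exact this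
  · intro i j
    have := hd_p8 i j
    rw [← hcoe] at this
    exact this

end p8

/-- Vanishing of first cohomology on the natural module for three small orthogonal groups over the field with two elements: for the commutator subgroup of the isometry group of the elliptic quadratic form in dimension 4, of the elliptic form in dimension 6, and of the hyperbolic form in dimension 8, every crossed homomorphism into the natural module (a map f with f(gh) = f(g) + g·f(h)) is principal (of the form g ↦ g·v − v). -/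
theorem result : (∀ f : ↥(Cfsg.Omega (ZMod 2) (Cfsg.quadFormMinus 1 (ZMod 2) 1 1)) → ((Fin 1 ⊕ Fin 1) ⊕ Fin 2 → ZMod 2), (∀ g h : ↥(Cfsg.Omega (ZMod 2) (Cfsg.quadFormMinus 1 (ZMod 2) 1 1)), f (g * h) = f g + Matrix.mulVec (((g : ↥(Cfsg.isometryGroup (ZMod 2) (Cfsg.quadFormMinus 1 (ZMod 2) 1 1))) : GL ((Fin 1 ⊕ Fin 1) ⊕ Fin 2) (ZMod 2)) : Matrix ((Fin 1 ⊕ Fin 1) ⊕ Fin 2) ((Fin 1 ⊕ Fin 1) ⊕ Fin 2) (ZMod 2)) (f h)) → ∃ v : (Fin 1 ⊕ Fin 1) ⊕ Fin 2 → ZMod 2, ∀ g : ↥(Cfsg.Omega (ZMod 2) (Cfsg.quadFormMinus 1 (ZMod 2) 1 1)), f g = Matrix.mulVec (((g : ↥(Cfsg.isometryGroup (ZMod 2) (Cfsg.quadFormMinus 1 (ZMod 2) 1 1))) : GL ((Fin 1 ⊕ Fin 1) ⊕ Fin 2) (ZMod 2)) : Matrix ((Fin 1 ⊕ Fin 1) ⊕ Fin 2) ((Fin 1 ⊕ Fin 1) ⊕ Fin 2) (ZMod 2)) v - v) ∧ (∀ f : ↥(Cfsg.Omega (ZMod 2) (Cfsg.quadFormMinus 2 (ZMod 2) 1 1)) → ((Fin 2 ⊕ Fin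 2) ⊕ Fin 2 → ZMod 2), (∀ g h : ↥(Cfsg.Omega (ZMod 2) (Cfsg.quadFormMinus 2 (ZMod 2) 1 1)), f (g * h) = f g + Matrix.mulVec (((g : ↥(Cfsg.isometryGroup (ZMod 2) (Cfsg.quadFormMinus 2 (ZMod 2) 1 1))) : GL ((Fin 2 ⊕ Fin 2) ⊕ Fin 2) (ZMod 2)) : Matrix ((Fin 2 ⊕ Fin 2) ⊕ Fin 2) ((Fin 2 ⊕ Fin 2) ⊕ Fin 2) (ZMod 2)) (f h)) → ∃ v : (Fin 2 ⊕ Fin 2) ⊕ Fin 2 → ZMod 2, ∀ g : ↥(Cfsg.Omega (ZMod 2) (Cfsg.quadFormMinus 2 (ZMod 2) 1 1)), f g = Matrix.mulVec (((g : ↥(Cfsg.isometryGroup (ZMod 2) (Cfsg.quadFormMinus 2 (ZMod 2) 1 1))) : GL ((Fin 2 ⊕ Fin 2) ⊕ Fin 2) (ZMod 2)) : Matrix ((Fin 2 ⊕ Fin 2) ⊕ Fin 2) ((Fin 2 ⊕ Fin 2) ⊕ Fin 2) (ZMod 2)) v - v) ∧ (∀ f : ↥(Cfsg.Omega (ZMod 2) (Cfsg.quadFormPlus 4 (ZMod 2))) → (Fin 4 ⊕ Fin 4 → ZMod 2), (∀ g h : ↥(Cfsg.Omega (ZMod 2) (Cfsg.quadFormPlus 4 (ZMod 2))), f (g * h) = f g + Matrix.mulVec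 (((g : ↥(Cfsg.isometryGroup (ZMod 2) (Cfsg.quadFormPlus 4 (ZMod 2)))) : GL (Fin 4 ⊕ Fin 4) (ZMod 2)) : Matrix (Fin 4 ⊕ Fin 4) (Fin 4 ⊕ Fin 4) (ZMod 2)) (f h)) → ∃ v : Fin 4 ⊕ Fin 4 → ZMod 2, ∀ g : ↥(Cfsg.Omega (ZMod 2) (Cfsg.quadFormPlus 4 (ZMod 2))), f g = Matrix.mulVec (((g : ↥(Cfsg.isometryGroup (ZMod 2) (Cfsg.quadFormPlus 4 (ZMod 2)))) : GL (Fin 4 ⊕ Fin 4) (ZMod 2)) : Matrix (Fin 4 ⊕ Fin 4) (Fin 4 ⊕ Fin 4) (ZMod 2)) v - v) := by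
  refine ⟨fun f hf => ?_, fun f hf => ?_, fun f hf => ?_⟩
  · exact vanish_m4 _ rfl f hf
  · exact vanish_m6 _ rfl f hf
  · exact vanish_p8 _ rfl f hf

end Cfsg.Agent.S5405
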