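import Cfsg.Statements.S5406
import Cfsg.Agent.Lib.Helper63_MonsterCls

set_option autoImplicit false
open Cfsg

namespace Cfsg.Agent.S5406

open Cfsg.Agent.Lib.Helper89_ESClass Cfsg.Agent.Lib.Helper63_ESForm
open Cfsg.Agent.Lib.Helper63_MonsterForm Cfsg.Agent.Lib.Helper63_MonsterConj
open Cfsg.Agent.Lib.Helper63_MonsterKey Cfsg.Agent.Lib.Helper63_MonsterCls

/-- Let G be a finite group of Monster type at the involution z with Q the extraspecial normal subgroup of order 2^25 of C = C_G(z) (so C/Q is identified with the first Conway group with Q modulo its centre the Leech lattice modulo 2, and z is not weakly closed in Q). Then C acts transitively by conjugation on the conjugates of z that lie in Q and differ from z. -/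
theorem result {G : Type*} [Group G] [Finite G] (z : G) (Q : Subgroup (Subgroup.centralizer ({z} : Set G))) [Q.Normal] (hM : Cfsg.IsOfMonsterType z Q) (s t : G) (hsQ : ∃ hsc : s ∈ Subgroup.centralizer ({z} : Set G), (⟨s, hsc⟩ : Subgroup.centralizer ({z} : Set G)) ∈ Q) (htQ : ∃ htc : t ∈ Subgroup.centralizer ({z} : Set G), (⟨t, htc⟩ : Subgroup.centralizer ({z} : Set G)) ∈ Q) (hs : IsConj z s) (ht : IsConj z t) (hs1 : s ≠ z) (ht1 : t ≠ z) : ∃ h ∈ Subgroup.centralizer ({z} : Set G), h * s * h⁻¹ = t := by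
  obtain ⟨⟨hz, hF, hes, hcard, -⟩, e, ψ, hψ⟩ := hM
  have hcard' : Nat.card Q = 2 ^ 25 := by rw [hcard]
  obtain ⟨hsc, hsQ⟩ := hsQ
  obtain ⟨htc, htQ⟩ := htQ
  obtain ⟨gs, hgs⟩ := isConj_iff.1 hs
  obtain ⟨gt, hgt⟩ := isConj_iff.1 ht
  let sQ : Q := ⟨⟨s, hsc⟩, hsQ⟩
  let tQ : Q := ⟨⟨t, htc⟩, htQ⟩
  have hgs' : gs * z * gs⁻¹ = ((sQ : Subgroup.centralizer ({z} : Set G)) : G) := hgs
  have hgt' : gt * z * gt⁻¹ = ((tQ : Subgroup.centralizer ({z} : Set G)) : G) := hgt
  obtain ⟨v, hv, hsv⟩ := conj_type_four hz hF hes hcard' hψ sQ gs hgs' hs1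
  obtain ⟨w, hw, htw⟩ := conj_type_four hz hF hes hcard' hψ tQ gt hgt' ht1
  obtain ⟨g0, u, hu, hgu⟩ := Cfsg.Agent.S5593.result v w hv hw
  obtain ⟨h, hh⟩ := conj_of_congr hz hF hes hcard' hψ hu hgu hsv htw
    (conj_noncentral hz hF hes hcard' hψ sQ gs hgs' hs1)
  refine ⟨(h : G), h.2, ?_⟩
  have := congrArg (fun c : Subgroup.centralizer ({z} : Set G) => (c : G)) hh
  simpa using this

end Cfsg.Agent.S5406
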