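import Cfsg.Statements.S5409
import Cfsg.Agent.Lib.Helper63_MonsterFrame
import Cfsg.Agent.Lib.Helper98_LESPair

set_option autoImplicit false
open Cfsg

namespace Cfsg.Agent.S5409

open Cfsg.Agent.Lib.Helper89_ESClass Cfsg.Agent.Lib.Helper63_ESForm
open Cfsg.Agent.Lib.Helper63_MonsterForm Cfsg.Agent.Lib.Helper63_MonsterConj
open Cfsg.Agent.Lib.Helper63_MonsterKey Cfsg.Agent.Lib.Helper63_MonsterCls
open Cfsg.Agent.Lib.Helper63_MonsterE2 Cfsg.Agent.Lib.Helper63_MonsterFrame
open Cfsg.Agent.Lib.Helper92_LeechMod2 Cfsg.Agent.Lib.Helper92_Co0Order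
open Cfsg.Agent.S5546 (e8)

/-- the data attached to a conjugate of `z` in `Q`: a vector of squared length 64 and a lattice
automorphism moving its class to the standard one -/
theorem exists_frame {G : Type*} [Group G] [Finite G] {z : G}
    {Q : Subgroup (Subgroup.centralizer ({z} : Set G))} [Q.Normal]
    {e : (Subgroup.centralizer ({z} : Set G)) ⧸ Q ≃* Spor.Co1}
    {ψ : leechLattice → Q ⧸ Subgroup.center Q}
    (hz : orderOf z = 2)
    (hF : generalizedFittingSubgroup (Subgroup.centralizer ({z} : Set G)) = Q)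
    (hes : IsExtraspecial 2 Q) (hcard : Nat.card Q = 2 ^ 25) (hψ : IsLeechModTwoIso Q e ψ)
    (x : Q) (g : G) (hg : g * z * g⁻¹ = ((x : Subgroup.centralizer ({z} : Set G)) : G))
    (hxz : ((x : Subgroup.centralizer ({z} : Set G)) : G) ≠ z) :
    ∃ (v : leechLattice) (g0 : ↥Co0), ψ v = QuotientGroup.mk x ∧ cls (g0 • v) = cls (e8 none) := by
  obtain ⟨v, hv, hxv⟩ := conj_type_four hz hF hes hcard hψ x g hg hxz
  obtain ⟨g0, u, hu, hgu⟩ := Cfsg.Agent.S5593.result v (e8 none) hv (sqNorm_e8 none)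
  exact ⟨v, g0, hxv, (cls_eq_iff _ _).2 ⟨u, hu, hgu⟩⟩

/-- the order of `Q ∩ Q^g` -/
theorem card_inf {G : Type*} [Group G] [Finite G] {z : G}
    {Q : Subgroup (Subgroup.centralizer ({z} : Set G))} [Q.Normal]
    {e : (Subgroup.centralizer ({z} : Set G)) ⧸ Q ≃* Spor.Co1}
    {ψ : leechLattice → Q ⧸ Subgroup.center Q}
    (hz : orderOf z = 2)
    (hF : generalizedFittingSubgroup (Subgroup.centralizer ({z} : Set G)) = Q)
    (hes : IsExtraspecial 2 Q) (hcard : Nat.card Q = 2 ^ 25) (hψ : IsLeechModTwoIso Q e ψ)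
    (x : Q) (g : G) (hg : g * z * g⁻¹ = ((x : Subgroup.centralizer ({z} : Set G)) : G))
    (hxz : ((x : Subgroup.centralizer ({z} : Set G)) : G) ≠ z) :
    Nat.card ↥((Q.map (Subgroup.centralizer ({z} : Set G)).subtype) ⊓
      (Q.map (Subgroup.centralizer ({z} : Set G)).subtype).map (MulAut.conj g).toMonoidHom) =
      2 ^ 13 := by
  obtain ⟨v, g0, hxv, hg0⟩ := exists_frame hz hF hes hcard hψ x g hg hxz
  have hM := card_map_E2 hz hF hes hcard hψ x g hg hxz v hxv g0 hg0
  have hE2 := card_E2 hz hF hes hcard x g hg hxz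
  let f : ↥(E2 Q g) →* Spor.Co1 := (rho e).comp (E2 Q g).subtype
  have hrange : f.range = (E2 Q g).map (rho e) := by
    rw [← MonoidHom.map_range, Subgroup.range_subtype]
  have h1 := Subgroup.card_mul_index f.ker
  rw [Subgroup.index_ker, hrange, hM, hE2] at h1
  have hker : Nat.card f.ker = 2 ^ 13 := by
    have : (2 : ℕ) ^ 24 = 2 ^ 13 * 2 ^ 11 := by norm_num
    rw [this] at h1
    exact Nat.eq_of_mul_eq_mul_right (by norm_num) h1
  -- identify the kernel with the intersection
  have hset : (fun a : ↥(E2 Q g) => (((a : Subgroup.centralizer ({z} : Set G))) : G)) ''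
      (f.ker : Set ↥(E2 Q g)) =
      (((Q.map (Subgroup.centralizer ({z} : Set G)).subtype) ⊓
      (Q.map (Subgroup.centralizer ({z} : Set G)).subtype).map (MulAut.conj g).toMonoidHom :
        Subgroup G) : Set G) := by
    ext b
    constructor
    · rintro ⟨a, ha, rfl⟩
      have ha1 : rho e (a : Subgroup.centralizer ({z} : Set G)) = 1 := ha
      rw [rho_eq_one_iff] at ha1
      refine ⟨coe_mem_Q1 ⟨_, ha1⟩, ?_⟩
      show ((a : Subgroup.centralizer ({z} : Set G)) : G) ∈
        (Q1 Q).map (MulAut.conj g).toMonoidHom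
      rw [Cfsg.Agent.Lib.Helper98_LESPair.mem_map_conj_iff]
      exact mem_E2.1 a.2
    · rintro ⟨hb1, hb2⟩
      obtain ⟨q, rfl⟩ := mem_Q1.1 hb1
      have hb2' : g⁻¹ * ((q : Subgroup.centralizer ({z} : Set G)) : G) * g ∈ Q1 Q :=
        (Cfsg.Agent.Lib.Helper98_LESPair.mem_map_conj_iff (Q1 Q) g _).1 hb2
      refine ⟨⟨(q : Subgroup.centralizer ({z} : Set G)), mem_E2.2 hb2'⟩, ?_, rfl⟩
      show rho e (q : Subgroup.centralizer ({z} : Set G)) = 1
      rw [rho_eq_one_iff]
      exact q.2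
  have hinj : Function.Injective
      (fun a : ↥(E2 Q g) => (((a : Subgroup.centralizer ({z} : Set G))) : G)) := by
    intro a b h
    exact Subtype.ext (Subtype.ext h)
  have h2 := Nat.card_image_of_injective hinj (f.ker : Set ↥(E2 Q g))
  rw [hset] at h2
  exact h2.trans hker

/-- Let G be a finite group of Monster type at the involution z with Q the extraspecial normal subgroup of order 2^25 of C = C_G(z) (so C/Q is identified with the first Conway group with Q modulo its centre the Leech lattice modulo 2, and z is not weakly closed in Q). Then for a conjugate s = g z g⁻¹ of z lying in Q and different from z, the intersection of Q with its conjugate g Q g⁻¹ (both regarded as subgroups of G) has order 2^13. -/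
theorem result {G : Type*} [Group G] [Finite G] (z : G) (Q : Subgroup (Subgroup.centralizer ({z} : Set G))) [Q.Normal] (hM : Cfsg.IsOfMonsterType z Q) (s : G) (hsQ : ∃ hsc : s ∈ Subgroup.centralizer ({z} : Set G), (⟨s, hsc⟩ : Subgroup.centralizer ({z} : Set G)) ∈ Q) (hs : IsConj z s) (hs1 : s ≠ z) (g : G) (hg : g * z * g⁻¹ = s) : Nat.card ↥((Q.map (Subgroup.centralizer ({z} : Set G)).subtype) ⊓ (Q.map (Subgroup.centralizer ({z} : Set G)).subtype).map (MulAut.conj g).toMonoidHom) = 2 ^ 13 := by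
  obtain ⟨⟨hz, hF, hes, hcard, -⟩, e, ψ, hψ⟩ := hM
  have hcard' : Nat.card Q = 2 ^ 25 := by rw [hcard]
  obtain ⟨hsc, hsQ⟩ := hsQ
  exact card_inf hz hF hes hcard' hψ ⟨⟨s, hsc⟩, hsQ⟩ g hg hs1

end Cfsg.Agent.S5409
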