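import Cfsg.Statements.S5410
import Cfsg.Agent.Lib.Helper63_MonsterFrame
import Cfsg.Agent.Lib.Helper98_LESPair
import Cfsg.Agent.S5409

set_option autoImplicit false
open Cfsg

namespace Cfsg.Agent.S5410

open Cfsg.Agent.Lib.Helper89_ESClass Cfsg.Agent.Lib.Helper63_ESForm
open Cfsg.Agent.Lib.Helper63_MonsterForm Cfsg.Agent.Lib.Helper63_MonsterConj
open Cfsg.Agent.Lib.Helper63_MonsterKey Cfsg.Agent.Lib.Helper63_MonsterCls
open Cfsg.Agent.Lib.Helper63_MonsterE2 Cfsg.Agent.Lib.Helper63_MonsterFrame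
open Cfsg.Agent.Lib.Helper63_MonoNormal Cfsg.Agent.Lib.Helper7_Mono
open Cfsg.Agent.Lib.Helper92_LeechMod2 Cfsg.Agent.Lib.Helper92_Co0Order
open Cfsg.Agent.S5546 (e8)

/-- the coordinate permutations conjugated by `g0⁻¹`, in `Co1` -/
noncomputable def PK (g0 : ↥Co0) : ↥M24 →* Spor.Co1 :=
  (QuotientGroup.mk' (Subgroup.center ↥Co0)).comp ((MulAut.conj g0⁻¹).toMonoidHom.comp permHom)

theorem PK_apply (g0 : ↥Co0) (σ : ↥M24) :
    PK g0 σ = (QuotientGroup.mk (g0⁻¹ * perm σ * g0) : Spor.Co1) := by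
  show (QuotientGroup.mk (g0⁻¹ * perm σ * g0⁻¹⁻¹) : Spor.Co1) = _
  rw [inv_inv]

/-- a monomial element which is central has trivial permutation part -/
theorem perm_eq_one_of_central {u : ↥golayCode} {σ : ↥M24}
    (h : eps u * perm σ ∈ Subgroup.center ↥Co0) : σ = 1 ∧ (u = 0 ∨ u = oneWord) := by
  rcases Cfsg.Agent.S0398.center_cases _ h with h1 | h1
  · have h2 : eps u * perm σ = eps 0 * perm 1 := by rw [h1, eps_zero, perm_one, one_mul]
    obtain ⟨h3, h4⟩ := mono_injective h2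
    exact ⟨h3, Or.inl h4⟩
  · have h2 : eps u * perm σ = eps oneWord * perm 1 := by rw [h1, negElt_eq, perm_one, mul_one]
    obtain ⟨h3, h4⟩ := mono_injective h2
    exact ⟨h3, Or.inr h4⟩

theorem PK_injective (g0 : ↥Co0) : Function.Injective (PK g0) := by
  rw [injective_iff_map_eq_one]
  intro σ hσ
  rw [PK_apply, QuotientGroup.eq_one_iff, conj_mem_center_iff] at hσ
  have h1 : eps 0 * perm σ ∈ Subgroup.center ↥Co0 := by rw [eps_zero, one_mul]; exact hσ
  exact (perm_eq_one_of_central h1).1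

theorem mk_conj_mul (g0 a b : ↥Co0) :
    (QuotientGroup.mk (g0⁻¹ * (a * b) * g0) : Spor.Co1) =
      QuotientGroup.mk (g0⁻¹ * a * g0) * QuotientGroup.mk (g0⁻¹ * b * g0) := by
  rw [← QuotientGroup.mk_mul]
  congr 1
  group

/-- Let G be a finite group of Monster type at the involution z with Q the extraspecial normal subgroup of order 2^25 of C = C_G(z) (so C/Q is identified with the first Conway group with Q modulo its centre the Leech lattice modulo 2, and z is not weakly closed in Q). Let g in G with s = g z g⁻¹ a member of Q other than z, let X be the image in C/Q of the centralizer of s in C, and let E be the image in C/Q of the intersection of g Q g⁻¹ with C. Then E is a normal subgroup of X, elementary abelian of order 2^11, and it has a complement in X isomorphic to the Mathieu group of degree 24 (the automorphism group of the length-24 binary Golay code). -/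
theorem result {G : Type*} [Group G] [Finite G] (z : G) (Q : Subgroup (Subgroup.centralizer ({z} : Set G))) [Q.Normal] (hM : Cfsg.IsOfMonsterType z Q) (s : G) (hsQ : ∃ hsc : s ∈ Subgroup.centralizer ({z} : Set G), (⟨s, hsc⟩ : Subgroup.centralizer ({z} : Set G)) ∈ Q) (hs : IsConj z s) (hs1 : s ≠ z) (g : G) (hg : g * z * g⁻¹ = s) (X E : Subgroup ((Subgroup.centralizer ({z} : Set G)) ⧸ Q)) (hX : X = ((Subgroup.centralizer ({z} : Set G) ⊓ Subgroup.centralizer ({s} : Set G)).subgroupOf (Subgroup.centralizer ({z} : Set G))).map (QuotientGroup.mk' Q)) (hE : E = (((Q.map (Subgroup.centralizer ({z} : Set G)).subtype).map (MulAut.conj g).toMonoidHom ⊓ Subgroup.centralizer ({z} : Set G)).subgroupOf (Subgroup.centralizer ({z} : Set G))).map (QuotientGroup.mk' Q)) : E ≤ X ∧ (∀ x ∈ X, ∀ y ∈ E, x * y * x⁻¹ ∈ E) ∧ Cfsg.IsElementaryAbelian 2 E ∧ Nat.card E = 2 ^ 11 ∧ ∃ K : Subgroup ((Subgroup.centralizer ({z} : Set G)) ⧸ Q), K ≤ X ∧ E ⊓ K = ⊥ ∧ E ⊔ K = X ∧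 Nonempty (K ≃* Cfsg.M24) := by
  obtain ⟨⟨hz, hF, hes, hcard, -⟩, e, ψ, hψ⟩ := hM
  have hcard' : Nat.card Q = 2 ^ 25 := by rw [hcard]
  obtain ⟨hsc, hsQ⟩ := hsQ
  let x : Q := ⟨⟨s, hsc⟩, hsQ⟩
  have hgx : g * z * g⁻¹ = ((x : Subgroup.centralizer ({z} : Set G)) : G) := hg
  have hxz : ((x : Subgroup.centralizer ({z} : Set G)) : G) ≠ z := hs1
  obtain ⟨v, g0, hxv, hg0⟩ := Cfsg.Agent.S5409.exists_frame hz hF hes hcard' hψ x g hgx hxz
  -- membership in `X`
  have memX : ∀ c : (Subgroup.centralizer ({z} : Set G)) ⧸ Q, c ∈ X ↔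
      ∃ n ∈ N, e c = (QuotientGroup.mk (g0⁻¹ * n * g0) : Spor.Co1) := by
    intro c
    rw [hX, Subgroup.mem_map]
    constructor
    · rintro ⟨k, hk, rfl⟩
      rw [Subgroup.mem_subgroupOf, Subgroup.mem_inf] at hk
      have hkx : k * (x : Subgroup.centralizer ({z} : Set G)) = x * k := by
        apply Subtype.ext
        have := (Subgroup.mem_centralizer_iff.1 hk.2) s (Set.mem_singleton s)
        exact this.symm
      obtain ⟨γ, hγ⟩ := QuotientGroup.mk_surjective (rho e k)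
      have hn := rho_Kx_sub hz hF hes hcard' hψ x g hgx hxz v hxv g0 hg0 hkx hγ.symm
      refine ⟨g0 * γ * g0⁻¹, hn, ?_⟩
      have h1 : g0⁻¹ * (g0 * γ * g0⁻¹) * g0 = γ := by group
      rw [h1, hγ]
      rfl
    · rintro ⟨n, hn, hc⟩
      obtain ⟨k, hkx, hk⟩ :=
        exists_Kx_of_mem_N hz hF hes hcard' hψ x g hgx hxz v hxv g0 hg0 hn
      refine ⟨k, ?_, ?_⟩
      · rw [Subgroup.mem_subgroupOf, Subgroup.mem_inf]
        refine ⟨k.2, ?_⟩
        rw [Subgroup.mem_centralizer_iff]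
        intro h hh
        rw [Set.mem_singleton_iff] at hh
        rw [hh]
        exact (congrArg Subtype.val hkx).symm
      · apply e.injective
        rw [hc, ← hk]
        rfl
  -- membership in `E`
  have hE2 : (((Q.map (Subgroup.centralizer ({z} : Set G)).subtype).map
      (MulAut.conj g).toMonoidHom ⊓ Subgroup.centralizer ({z} : Set G)).subgroupOf
      (Subgroup.centralizer ({z} : Set G))) = E2 Q g := by
    ext a
    rw [Subgroup.mem_subgroupOf, Subgroup.mem_inf, mem_E2]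
    constructor
    · rintro ⟨h1, -⟩
      exact (Cfsg.Agent.Lib.Helper98_LESPair.mem_map_conj_iff (Q1 Q) g _).1 h1
    · intro h1
      exact ⟨(Cfsg.Agent.Lib.Helper98_LESPair.mem_map_conj_iff (Q1 Q) g _).2 h1, a.2⟩
  have hEmap : E.map e.toMonoidHom = (FE g0).range := by
    rw [hE, hE2, Subgroup.map_map]
    exact map_E2_eq hz hF hes hcard' hψ x g hgx hxz v hxv g0 hg0
  have memE : ∀ c : (Subgroup.centralizer ({z} : Set G)) ⧸ Q, c ∈ E ↔
      ∃ u : ↥golayCode, e c = (QuotientGroup.mk (g0⁻¹ * eps u * g0) : Spor.Co1) := by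
    intro c
    have h1 : c ∈ E ↔ e c ∈ E.map e.toMonoidHom := by
      constructor
      · intro h; exact ⟨c, h, rfl⟩
      · rintro ⟨c', hc', hcc⟩
        have : c' = c := e.injective hcc
        rwa [← this]
    rw [h1, hEmap]
    constructor
    · rintro ⟨u, hu⟩
      exact ⟨Multiplicative.toAdd u, by rw [← hu]; exact (FE_apply g0 _).symm⟩
    · rintro ⟨u, hu⟩
      exact ⟨Multiplicative.ofAdd u, by rw [FE_apply, hu]⟩
  -- the complement
  let K : Subgroup ((Subgroup.centralizer ({z} : Set G)) ⧸ Q) :=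
    (PK g0).range.map e.symm.toMonoidHom
  have memK : ∀ c : (Subgroup.centralizer ({z} : Set G)) ⧸ Q, c ∈ K ↔
      ∃ σ : ↥M24, e c = (QuotientGroup.mk (g0⁻¹ * perm σ * g0) : Spor.Co1) := by
    intro c
    constructor
    · rintro ⟨_, ⟨σ, rfl⟩, rfl⟩
      refine ⟨σ, ?_⟩
      show e (e.symm (PK g0 σ)) = _
      rw [MulEquiv.apply_symm_apply, PK_apply]
    · rintro ⟨σ, hσ⟩
      refine ⟨PK g0 σ, ⟨σ, rfl⟩, ?_⟩
      show e.symm (PK g0 σ) = c
      rw [PK_apply, ← hσ, MulEquiv.symm_apply_apply]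
  have hEX : E ≤ X := by
    intro c hc
    obtain ⟨u, hu⟩ := (memE c).1 hc
    exact (memX c).2 ⟨eps u, eps_mem_N u, hu⟩
  have hKX : K ≤ X := by
    intro c hc
    obtain ⟨σ, hσ⟩ := (memK c).1 hc
    exact (memX c).2 ⟨perm σ, perm_mem_N σ, hσ⟩
  refine ⟨hEX, ?_, ⟨?_, ?_⟩, ?_, K, hKX, ?_, ?_, ?_⟩
  · -- normal
    intro c hc y hy
    obtain ⟨n, hn, hcn⟩ := (memX c).1 hc
    obtain ⟨u, hu⟩ := (memE y).1 hy
    obtain ⟨u', hu'⟩ := conj_eps_of_mem_N hn u
    refine (memE _).2 ⟨u', ?_⟩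
    rw [map_mul, map_mul, map_inv, hcn, hu, ← hu', ← QuotientGroup.mk_inv, ← QuotientGroup.mk_mul,
      ← QuotientGroup.mk_mul]
    congr 1
    group
  · -- commutative
    rw [isMulCommutative_iff]
    rintro ⟨a, ha⟩ ⟨b, hb⟩
    apply Subtype.ext
    show a * b = b * a
    obtain ⟨u, hu⟩ := (memE a).1 ha
    obtain ⟨w, hw⟩ := (memE b).1 hb
    apply e.injective
    rw [map_mul, map_mul, hu, hw, ← mk_conj_mul, ← mk_conj_mul, eps_comm]
  · -- exponent two
    intro a ha
    obtain ⟨u, hu⟩ := (memE a).1 ha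
    apply e.injective
    rw [map_pow, hu, pow_two, ← mk_conj_mul, eps_mul_self, map_one]
    have : g0⁻¹ * 1 * g0 = 1 := by rw [mul_one, inv_mul_cancel]
    rw [this]
    rfl
  · -- order
    rw [← Subgroup.card_map_of_injective (f := e.toMonoidHom) e.injective, hEmap]
    exact card_range_FE g0
  · -- trivial intersection
    rw [eq_bot_iff]
    rintro c ⟨hcE, hcK⟩
    obtain ⟨u, hu⟩ := (memE c).1 hcE
    obtain ⟨σ, hσ⟩ := (memK c).1 hcK
    rw [Subgroup.mem_bot]
    apply e.injective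
    rw [map_one]
    have h1 : (QuotientGroup.mk (g0⁻¹ * (eps u * (perm σ)⁻¹) * g0) : Spor.Co1) = 1 := by
      rw [mk_conj_mul, ← hu]
      have h2 : (QuotientGroup.mk (g0⁻¹ * (perm σ)⁻¹ * g0) : Spor.Co1) = (e c)⁻¹ := by
        rw [hσ, ← QuotientGroup.mk_inv]
        have h5 : (g0⁻¹ * perm σ * g0)⁻¹ = g0⁻¹ * (perm σ)⁻¹ * g0 := by
          rw [mul_inv_rev, mul_inv_rev, inv_inv, mul_assoc]
        rw [h5]
      rw [h2, mul_inv_cancel]
    rw [QuotientGroup.eq_one_iff, conj_mem_center_iff] at h1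
    have hp : (perm σ)⁻¹ = perm σ⁻¹ := by
      apply inv_eq_of_mul_eq_one_left
      rw [← perm_mul, inv_mul_cancel, perm_one]
    rw [hp] at h1
    have h3 := (perm_eq_one_of_central h1).1
    have h4 : σ = 1 := by rw [← inv_inv σ, h3, inv_one]
    rw [hσ, h4, perm_one]
    have : g0⁻¹ * 1 * g0 = 1 := by rw [mul_one, inv_mul_cancel]
    rw [this]
    rfl
  · -- product
    apply le_antisymm (sup_le hEX hKX)
    intro c hc
    obtain ⟨n, hn, hcn⟩ := (memX c).1 hc
    obtain ⟨σ, u, rfl⟩ := exists_of_mem_N hn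
    rw [mk_conj_mul] at hcn
    have hc1 : e.symm (QuotientGroup.mk (g0⁻¹ * eps u * g0) : Spor.Co1) ∈ E :=
      (memE _).2 ⟨u, by rw [MulEquiv.apply_symm_apply]⟩
    have hc2 : e.symm (QuotientGroup.mk (g0⁻¹ * perm σ * g0) : Spor.Co1) ∈ K :=
      (memK _).2 ⟨σ, by rw [MulEquiv.apply_symm_apply]⟩
    have hcc : c = e.symm (QuotientGroup.mk (g0⁻¹ * eps u * g0) : Spor.Co1) *
        e.symm (QuotientGroup.mk (g0⁻¹ * perm σ * g0) : Spor.Co1) := by
      apply e.injective
      rw [map_mul, MulEquiv.apply_symm_apply, MulEquiv.apply_symm_apply, hcn]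
    rw [hcc]
    exact Subgroup.mul_mem_sup hc1 hc2
  · -- the complement is `M24`
    exact ⟨((MonoidHom.ofInjective (PK_injective g0)).trans
      (e.symm.subgroupMap (PK g0).range)).symm⟩

end Cfsg.Agent.S5410
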