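import Cfsg.Statements.S5412
import Cfsg.Agent.Lib.Helper63_BabyMain
import Cfsg.Agent.Lib.Helper63_BabyMove
import Cfsg.Agent.Lib.Helper63_BabyWC

set_option autoImplicit false
set_option linter.unusedSectionVars false
open Cfsg

namespace Cfsg.Agent.S5412

open Cfsg.Agent.Lib.Helper89_ESClass Cfsg.Agent.Lib.Helper63_ESForm
open Cfsg.Agent.Lib.Helper63_MonsterForm Cfsg.Agent.Lib.Helper63_MonsterConj
open Cfsg.Agent.Lib.Helper63_MonsterKey Cfsg.Agent.Lib.Helper63_MonsterCls
open Cfsg.Agent.Lib.Helper63_BabyHom Cfsg.Agent.Lib.Helper63_BabyPF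
open Cfsg.Agent.Lib.Helper63_BabyData Cfsg.Agent.Lib.Helper63_BabyMain

section setup

variable {G : Type*} [Group G] [Finite G] {z : G}
  {Q : Subgroup (Subgroup.centralizer ({z} : Set G))} [Q.Normal] {tq : Q}

/-- elements of `XX tq` centralize `t` -/
theorem coe_mem_cent_t (c : XX tq) :
    ((c : Subgroup.centralizer ({z} : Set G)) : G) ∈
      Subgroup.centralizer ({((tq : Subgroup.centralizer ({z} : Set G)) : G)} : Set G) := by
  rw [Subgroup.mem_centralizer_iff]
  intro y hy
  rw [Set.mem_singleton_iff] at hy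
  subst hy
  have := mem_XX.1 c.2
  exact (congrArg Subtype.val this).symm

/-- the inclusion of `XX tq` in the centralizer of `t` -/
def iota (tq : Q) : XX tq →*
    ↥(Subgroup.centralizer ({((tq : Subgroup.centralizer ({z} : Set G)) : G)} : Set G)) :=
  ((Subgroup.centralizer ({z} : Set G)).subtype.comp (XX tq).subtype).codRestrict _ coe_mem_cent_t

theorem iota_coe (c : XX tq) :
    ((iota tq c : ↥(Subgroup.centralizer
      ({((tq : Subgroup.centralizer ({z} : Set G)) : G)} : Set G))) : G) =
      ((c : Subgroup.centralizer ({z} : Set G)) : G) := rfl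

end setup

/-- the statement with `t` given as an element of `Q` -/
theorem main {G : Type*} [Group G] [Finite G] (z : G)
    (Q : Subgroup (Subgroup.centralizer ({z} : Set G))) [Q.Normal]
    (hM : Cfsg.IsOfMonsterType z Q) (tq : Q)
    (ht2 : orderOf ((tq : Subgroup.centralizer ({z} : Set G)) : G) = 2)
    (ht : ¬ IsConj z ((tq : Subgroup.centralizer ({z} : Set G)) : G))
    [hn : ((Subgroup.zpowers ((tq : Subgroup.centralizer ({z} : Set G)) : G)).subgroupOf
      (Subgroup.centralizer ({((tq : Subgroup.centralizer ({z} : Set G)) : G)} : Set G))).Normal] :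
    Cfsg.IsOfBabyMonsterType
      (↥(Subgroup.centralizer ({((tq : Subgroup.centralizer ({z} : Set G)) : G)} : Set G)) ⧸
        (Subgroup.zpowers ((tq : Subgroup.centralizer ({z} : Set G)) : G)).subgroupOf
          (Subgroup.centralizer ({((tq : Subgroup.centralizer ({z} : Set G)) : G)} : Set G))) := by
  classical
  have hM' := hM
  obtain ⟨hS, e, ψ, hψ⟩ := hM
  have hS' := hS
  obtain ⟨hz, hF, hes, hcard, -⟩ := hS
  have hcard' : Nat.card Q = 2 ^ 25 := by rw [hcard]
  have hE := isES2_zQ hz hF hes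
  obtain ⟨htc, v, hv, htv⟩ := Cfsg.Agent.S5411.type_two hS' hψ tq ht2 ht
  obtain ⟨g₁, hg₁⟩ := Cfsg.Agent.S0400.result Spor.leechU v sqNorm_leechU hv
  -- basic facts
  set tG : G := ((tq : Subgroup.centralizer ({z} : Set G)) : G) with htG
  have htt : tG * tG = 1 := by
    rw [← pow_two, ← ht2]; exact pow_orderOf_eq_one _
  have htq2 : tq * tq = 1 := Subtype.ext (Subtype.ext htt)
  have hzz : z * z = 1 := by
    rw [← pow_two, ← hz]; exact pow_orderOf_eq_one _
  have hz1 : z ≠ 1 := by
    intro h
    rw [h, orderOf_one] at hz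
    omega
  have hzi : z⁻¹ = z := inv_eq_of_mul_eq_one_left hzz
  have htz : tG * z = z * tG := mem_cent_iff.1 (tq : Subgroup.centralizer ({z} : Set G)).2
  have hflip : ∃ q : G, q * tG * q⁻¹ = tG * z := by
    obtain ⟨q, hq⟩ := exists_flip hE tq htc
    exact ⟨((q : Subgroup.centralizer ({z} : Set G)) : G),
      congrArg (fun r : Q => ((r : Subgroup.centralizer ({z} : Set G)) : G)) hq⟩
  have hnot : ∀ d : G, d * z * d⁻¹ ≠ tG * z := by
    intro d hd
    apply ht
    obtain ⟨q, hq⟩ := hflip
    rw [isConj_iff]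
    refine ⟨q⁻¹ * d, ?_⟩
    calc q⁻¹ * d * z * (q⁻¹ * d)⁻¹ = q⁻¹ * (d * z * d⁻¹) * q := by group
      _ = q⁻¹ * (q * tG * q⁻¹) * q := by rw [hd, hq]
      _ = tG := by group
  have hzt_ne : z ≠ tG := by
    intro h
    apply ht
    rw [← h]
  -- the quotient
  have hzCt : z ∈ Subgroup.centralizer ({tG} : Set G) := by
    rw [Subgroup.mem_centralizer_iff]
    intro y hy
    rw [Set.mem_singleton_iff] at hy
    rw [hy]
    exact htz
  have mk_eq_one : ∀ d : ↥(Subgroup.centralizer ({tG} : Set G)),
      (QuotientGroup.mk d : ↥(Subgroup.centralizer ({tG} : Set G)) ⧸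
        (Subgroup.zpowers tG).subgroupOf (Subgroup.centralizer ({tG} : Set G))) = 1 ↔
      (d : G) = 1 ∨ (d : G) = tG := by
    intro d
    rw [QuotientGroup.eq_one_iff, Subgroup.mem_subgroupOf, mem_zpowers_two htt]
  set ζ : ↥(Subgroup.centralizer ({tG} : Set G)) ⧸
      (Subgroup.zpowers tG).subgroupOf (Subgroup.centralizer ({tG} : Set G)) :=
    QuotientGroup.mk ⟨z, hzCt⟩ with hζdef
  have hζ : orderOf ζ = 2 := by
    apply orderOf_eq_prime
    · rw [pow_two, hζdef, ← QuotientGroup.mk_mul]
      have : (⟨z, hzCt⟩ : ↥(Subgroup.centralizer ({tG} : Set G))) * ⟨z, hzCt⟩ = 1 :=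
        Subtype.ext hzz
      rw [this, QuotientGroup.mk_one]
    · rw [hζdef, Ne, mk_eq_one]
      rintro (h | h)
      · exact hz1 h
      · exact hzt_ne h
  -- the map
  let p₀ : XX tq →* ↥(Subgroup.centralizer ({tG} : Set G)) ⧸
      (Subgroup.zpowers tG).subgroupOf (Subgroup.centralizer ({tG} : Set G)) :=
    (QuotientGroup.mk' _).comp (iota tq)
  have hp₀ : ∀ c : XX tq, p₀ c = QuotientGroup.mk (iota tq c) := fun c => rfl
  have hp₀ζ : ∀ c : XX tq, p₀ c ∈ Subgroup.centralizer ({ζ} : Set _) := by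
    intro c
    rw [Subgroup.mem_centralizer_iff]
    intro y hy
    rw [Set.mem_singleton_iff] at hy
    rw [hy, hp₀, hζdef, ← QuotientGroup.mk_mul, ← QuotientGroup.mk_mul]
    congr 1
    apply Subtype.ext
    show z * ((c : Subgroup.centralizer ({z} : Set G)) : G) =
      ((c : Subgroup.centralizer ({z} : Set G)) : G) * z
    exact (mem_cent_iff.1 (c : Subgroup.centralizer ({z} : Set G)).2).symm
  let p : XX tq →* ↥(Subgroup.centralizer ({ζ} : Set _)) := p₀.codRestrict _ hp₀ζ
  have hpc : ∀ c : XX tq, ((p c : ↥(Subgroup.centralizer ({ζ} : Set _))) :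
      ↥(Subgroup.centralizer ({tG} : Set G)) ⧸
        (Subgroup.zpowers tG).subgroupOf (Subgroup.centralizer ({tG} : Set G))) =
      QuotientGroup.mk (iota tq c) := fun c => rfl
  -- surjectivity
  have hp : Function.Surjective p := by
    intro ξ
    obtain ⟨d, hd⟩ := QuotientGroup.mk_surjective (ξ : ↥(Subgroup.centralizer ({tG} : Set G)) ⧸
        (Subgroup.zpowers tG).subgroupOf (Subgroup.centralizer ({tG} : Set G)))
    have hξ := ξ.2
    rw [Subgroup.mem_centralizer_iff] at hξ
    have h1 := hξ ζ (Set.mem_singleton ζ)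
    rw [← hd, hζdef, ← QuotientGroup.mk_mul, ← QuotientGroup.mk_mul, QuotientGroup.eq,
      Subgroup.mem_subgroupOf, mem_zpowers_two htt] at h1
    have hdt : (d : G) * tG = tG * d := by
      have := d.2
      rw [Subgroup.mem_centralizer_iff] at this
      exact (this tG (Set.mem_singleton tG)).symm
    rcases h1 with h1 | h1
    · have hdz : (d : G) * z = z * d := by
        have h2 : (z * (d : G))⁻¹ * ((d : G) * z) = 1 := h1
        calc (d : G) * z = (z * (d : G)) * ((z * (d : G))⁻¹ * ((d : G) * z)) := by group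
          _ = z * d := by rw [h2, mul_one]
      let dC : Subgroup.centralizer ({z} : Set G) := ⟨(d : G), mem_cent_iff.2 hdz⟩
      have hdX : dC ∈ XX tq := by
        rw [mem_XX]
        apply Subtype.ext
        exact hdt
      refine ⟨⟨dC, hdX⟩, ?_⟩
      apply Subtype.ext
      rw [hpc, ← hd]
      rfl
    · exfalso
      have h2 : (z * (d : G))⁻¹ * ((d : G) * z) = tG := h1
      apply hnot (d : G)⁻¹
      have h3 : (d : G)⁻¹ * z⁻¹ * (d : G) = ((z * (d : G))⁻¹ * ((d : G) * z)) * z⁻¹ := by group
      rw [hzi, h2] at h3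
      rw [inv_inv]
      exact h3
  -- the kernel
  have hpker : ∀ a : XX tq, p a = 1 ↔ ((a : Subgroup.centralizer ({z} : Set G)) = 1 ∨
      (a : Subgroup.centralizer ({z} : Set G)) = tq) := by
    intro a
    have h1 : p a = 1 ↔ ((p a : ↥(Subgroup.centralizer ({ζ} : Set _))) :
        ↥(Subgroup.centralizer ({tG} : Set G)) ⧸
          (Subgroup.zpowers tG).subgroupOf (Subgroup.centralizer ({tG} : Set G))) = 1 :=
      ⟨fun h => congrArg Subtype.val h, fun h => Subtype.ext h⟩
    rw [h1, hpc, mk_eq_one, iota_coe]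
    constructor
    · rintro (h | h)
      · left; exact Subtype.ext h
      · right; exact Subtype.ext h
    · rintro (h | h)
      · left; rw [h]; rfl
      · right; rw [h]
  have hpz : ∀ a : XX tq, (a : Subgroup.centralizer ({z} : Set G)) = zQ hF → p a = zetaC ζ := by
    intro a ha
    apply Subtype.ext
    rw [hpc]
    show _ = ζ
    rw [hζdef]
    congr 1
    apply Subtype.ext
    rw [iota_coe, ha]
    rfl
  -- not weakly closed
  have hwc : ∃ g : ↥(Subgroup.centralizer ({tG} : Set G)) ⧸
      (Subgroup.zpowers tG).subgroupOf (Subgroup.centralizer ({tG} : Set G)),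
      g * ζ * g⁻¹ ≠ ζ ∧ ∃ a : XX tq, (a : Subgroup.centralizer ({z} : Set G)) ∈ Q ∧
        ((p a : ↥(Subgroup.centralizer ({ζ} : Set _))) :
          ↥(Subgroup.centralizer ({tG} : Set G)) ⧸
          (Subgroup.zpowers tG).subgroupOf (Subgroup.centralizer ({tG} : Set G))) =
          g * ζ * g⁻¹ := by
    obtain ⟨y, hyt, hyz, s, hs⟩ := Cfsg.Agent.Lib.Helper63_BabyWC.exists_wc hM' tq ht2 ht
    have hyCt : y ∈ Subgroup.centralizer ({tG} : Set G) := by
      rw [Subgroup.mem_centralizer_iff]
      intro w hw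
      rw [Set.mem_singleton_iff] at hw
      rw [hw]
      exact hyt.symm
    let yC : ↥(Subgroup.centralizer ({tG} : Set G)) := ⟨y, hyCt⟩
    have hconj : (QuotientGroup.mk yC : ↥(Subgroup.centralizer ({tG} : Set G)) ⧸
        (Subgroup.zpowers tG).subgroupOf (Subgroup.centralizer ({tG} : Set G))) * ζ *
        (QuotientGroup.mk yC)⁻¹ = QuotientGroup.mk (yC * ⟨z, hzCt⟩ * yC⁻¹) := by
      rw [hζdef, QuotientGroup.mk_mul, QuotientGroup.mk_mul, QuotientGroup.mk_inv]
    refine ⟨QuotientGroup.mk yC, ?_, ?_⟩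
    · rw [hconj, hζdef, Ne, QuotientGroup.eq, Subgroup.mem_subgroupOf, mem_zpowers_two htt]
      have hcoe : (((yC * ⟨z, hzCt⟩ * yC⁻¹)⁻¹ * ⟨z, hzCt⟩ :
          ↥(Subgroup.centralizer ({tG} : Set G))) : G) = (y * z * y⁻¹)⁻¹ * z := rfl
      rw [hcoe]
      rintro (h | h)
      · apply hyz
        calc y * z * y⁻¹ = (y * z * y⁻¹) * ((y * z * y⁻¹)⁻¹ * z) := by rw [h, mul_one]
          _ = z := by group
      · apply hnot y
        have hti : tG⁻¹ = tG := inv_eq_of_mul_eq_one_left htt
        calc y * z * y⁻¹ = z * ((y * z * y⁻¹)⁻¹ * z)⁻¹ := by group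
          _ = tG * z := by rw [h, hti, htz]
    · have hsX : (s : Subgroup.centralizer ({z} : Set G)) ∈ XX tq := by
        rw [mem_XX]
        apply Subtype.ext
        show ((s : Subgroup.centralizer ({z} : Set G)) : G) * tG = tG * s
        rw [hs]
        calc y * z * y⁻¹ * tG = y * z * (y⁻¹ * (tG * y)) * y⁻¹ := by group
          _ = y * z * (y⁻¹ * (y * tG)) * y⁻¹ := by rw [hyt]
          _ = y * (z * tG) * y⁻¹ := by group
          _ = y * (tG * z) * y⁻¹ := by rw [htz]
          _ = (y * tG) * z * y⁻¹ := by group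
          _ = (tG * y) * z * y⁻¹ := by rw [hyt]
          _ = tG * (y * z * y⁻¹) := by group
      refine ⟨⟨(s : Subgroup.centralizer ({z} : Set G)), hsX⟩, s.2, ?_⟩
      rw [hpc, hconj]
      congr 1
      apply Subtype.ext
      rw [iota_coe]
      exact hs
  exact baby_of_monster hE hψ hcard' hv htv hg₁ htq2 htc hζ p hp hpker hpz hwc
    Cfsg.Agent.Lib.Helper63_BabyMove.exists_move

/-- Let G be a finite group of Monster type at the involution z with Q the extraspecial normal subgroup of order 2^25 of C = C_G(z) (so C/Q is identified with the first Conway group with Q modulo its centre the Leech lattice modulo 2, and z is not weakly closed in Q). Let t be an involution of Q not conjugate to z in G. Then the centralizer of t modulo the subgroup generated by t is a group of Baby Monster type (an involution whose centralizer D has generalized Fitting subgroup R extraspecial of order 2^23 with D/R identified with the second Conway group acting on R modulo its centre as on the vectors of the Leech lattice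 modulo 2 orthogonal to a short vector, modulo that vector; the involution not weakly closed in R). -/
theorem result {G : Type*} [Group G] [Finite G] (z : G) (Q : Subgroup (Subgroup.centralizer ({z} : Set G))) [Q.Normal] (hM : Cfsg.IsOfMonsterType z Q) (t : G) (htQ : ∃ htc : t ∈ Subgroup.centralizer ({z} : Set G), (⟨t, htc⟩ : Subgroup.centralizer ({z} : Set G)) ∈ Q) (ht2 : orderOf t = 2) (ht : ¬ IsConj z t) [hn : ((Subgroup.zpowers t).subgroupOf (Subgroup.centralizer ({t} : Set G))).Normal] : Cfsg.IsOfBabyMonsterType (↥(Subgroup.centralizer ({t} : Set G)) ⧸ (Subgroup.zpowers t).subgroupOf (Subgroup.centralizer ({t} : Set G))) := by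
  obtain ⟨htc, htQ'⟩ := htQ
  exact @main G _ _ z Q _ hM ⟨⟨t, htc⟩, htQ'⟩ ht2 ht hn

end Cfsg.Agent.S5412
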