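import Cfsg.Statements.S5420

set_option autoImplicit false
open Cfsg

namespace Cfsg.Agent.S5420

/-- The `p`-core is a `p`-group. -/
theorem pCore_isPGroup {G : Type*} [Group G] (p : ℕ) :
    IsPGroup p (Cfsg.pCore p G) :=
  Sylow.sSup_of_normal _ (fun _ h => h.2) (fun _ h => h.1)

/-- An odd-order subgroup meets a 2-subgroup trivially. -/
theorem odd_inf_two_group {G : Type*} [Group G] [Finite G] (K P : Subgroup G)
    (hK : Odd (Nat.card K)) (hP : IsPGroup 2 P) : K ⊓ P = ⊥ := by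
  have : Fact (Nat.Prime 2) := ⟨Nat.prime_two⟩
  apply disjoint_iff.mp
  apply Subgroup.disjoint_of_coprime_natCard
  obtain ⟨n, hn⟩ := hP.exists_card_eq
  rw [hn]
  exact Nat.Coprime.pow_right n (Nat.coprime_two_right.mpr hK)

/-- Let Q be an extraspecial 2-subgroup of the finite group G whose centralizer in G is its centre Z and which is normal in the centralizer of Z. If Z lies in the largest normal 2-subgroup of G, then Q is a large extraspecial 2-subgroup of G: it normalizes no non-trivial subgroup of G of odd order. -/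
theorem result {G : Type*} [Group G] [Finite G] (Q : Subgroup G) (hL1 : Cfsg.IsExtraspecial 2 ↥Q) (hL2 : Subgroup.centralizer (Q : Set G) = ((Subgroup.center ↥Q).map Q.subtype)) (hL3 : Subgroup.centralizer (((Subgroup.center ↥Q).map Q.subtype) : Set G) ≤ Subgroup.normalizer (Q : Set G)) (hZ : ((Subgroup.center ↥Q).map Q.subtype) ≤ Cfsg.pCore 2 G) : Cfsg.IsLargeExtraspecial Q := by
  refine ⟨hL1, hL2, hL3, ?_⟩
  intro K hKodd hQK
  have hO2 : IsPGroup 2 (Cfsg.pCore 2 G) := pCore_isPGroup 2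
  have hQ2 : IsPGroup 2 Q := hL1.1.1
  have hZQ : ((Subgroup.center ↥Q).map Q.subtype) ≤ Q := by
    rintro _ ⟨x, _, rfl⟩
    exact x.2
  -- Step 1: K centralizes Z
  have h1 : K ≤ Subgroup.centralizer (((Subgroup.center ↥Q).map Q.subtype : Subgroup G) : Set G) := by
    intro k hk
    rw [Subgroup.mem_centralizer_iff]
    intro z hz
    have hzQ : z ∈ Q := hZQ hz
    have hzN : z ∈ Subgroup.normalizer (K : Set G) := hQK hzQ
    have hmemK : z * k * z⁻¹ * k⁻¹ ∈ K := by
      have : z * k * z⁻¹ ∈ K := (Subgroup.mem_normalizer_iff.mp hzN k).mp hk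
      exact K.mul_mem this (K.inv_mem hk)
    have hmemO : z * k * z⁻¹ * k⁻¹ ∈ Cfsg.pCore 2 G := by
      have hz' : z ∈ Cfsg.pCore 2 G := hZ hz
      have : k * z⁻¹ * k⁻¹ ∈ Cfsg.pCore 2 G :=
        (Cfsg.pCore_normal 2 G).conj_mem _ ((Cfsg.pCore 2 G).inv_mem hz') k
      have h2 := (Cfsg.pCore 2 G).mul_mem hz' this
      simpa [mul_assoc] using h2
    have hbot : z * k * z⁻¹ * k⁻¹ ∈ K ⊓ Cfsg.pCore 2 G := ⟨hmemK, hmemO⟩
    rw [odd_inf_two_group K _ hKodd hO2, Subgroup.mem_bot] at hbot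
    have h3 : z * k * z⁻¹ = k := mul_inv_eq_one.mp hbot
    calc z * k = z * k * z⁻¹ * z := by group
      _ = k * z := by rw [h3]
  -- Step 2: K normalizes Q, so [K, Q] ≤ K ⊓ Q = ⊥ and K centralizes Q
  have h2 : K ≤ Subgroup.normalizer (Q : Set G) := h1.trans hL3
  have h3 : K ≤ Subgroup.centralizer (Q : Set G) := by
    intro k hk
    rw [Subgroup.mem_centralizer_iff]
    intro q hq
    have hqN : q ∈ Subgroup.normalizer (K : Set G) := hQK hq
    have hmemK : q * k * q⁻¹ * k⁻¹ ∈ K := by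
      have : q * k * q⁻¹ ∈ K := (Subgroup.mem_normalizer_iff.mp hqN k).mp hk
      exact K.mul_mem this (K.inv_mem hk)
    have hmemQ : q * k * q⁻¹ * k⁻¹ ∈ Q := by
      have : k * q⁻¹ * k⁻¹ ∈ Q := (Subgroup.mem_normalizer_iff.mp (h2 hk) q⁻¹).mp (Q.inv_mem hq)
      have h2 := Q.mul_mem hq this
      simpa [mul_assoc] using h2
    have hbot : q * k * q⁻¹ * k⁻¹ ∈ K ⊓ Q := ⟨hmemK, hmemQ⟩
    rw [odd_inf_two_group K _ hKodd hQ2, Subgroup.mem_bot] at hbot
    have h3 : q * k * q⁻¹ = k := mul_inv_eq_one.mp hbot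
    calc q * k = q * k * q⁻¹ * q := by group
      _ = k * q := by rw [h3]
  -- Step 3: K ≤ Z ≤ Q, so K = K ⊓ Q = ⊥
  have h4 : K ≤ Q := by
    rw [hL2] at h3
    exact h3.trans hZQ
  have := odd_inf_two_group K _ hKodd hQ2
  rwa [inf_eq_left.mpr h4] at this

end Cfsg.Agent.S5420
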