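import Cfsg.Statements.S5421

set_option autoImplicit false
open Cfsg
open scoped commutatorElement

namespace Cfsg.Agent.S5421

/-- The `p`-core is a `p`-group. -/
theorem pCore_isPGroup {G : Type*} [Group G] (p : ℕ) :
    IsPGroup p (Cfsg.pCore p G) :=
  Sylow.sSup_of_normal _ (fun _ h => h.2) (fun _ h => h.1)

/-- An odd-order subgroup meets a 2-subgroup trivially. -/
theorem odd_inf_two_group {G : Type*} [Group G] [Finite G] (K P : Subgroup G)
    (hK : Odd (Nat.card K)) (hP : IsPGroup 2 P) : K ⊓ P = ⊥ := by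
  have : Fact (Nat.Prime 2) := ⟨Nat.prime_two⟩
  apply disjoint_iff.mp
  apply Subgroup.disjoint_of_coprime_natCard
  obtain ⟨n, hn⟩ := hP.exists_card_eq
  rw [hn]
  exact Nat.Coprime.pow_right n (Nat.coprime_two_right.mpr hK)

/-- In a group of order two, any two non-identity elements coincide. -/
theorem eq_of_ne_one_of_card_two {Z : Type*} [Group Z] (h : Nat.card Z = 2) (a b : Z)
    (ha : a ≠ 1) (hb : b ≠ 1) : a = b := by
  obtain ⟨y, _, hy⟩ := (Nat.card_eq_two_iff' (1 : Z)).mp h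
  rw [hy a ha, hy b hb]

/-- An involution normalizing a finite subgroup `K` and commuting with no non-identity element of
`K` inverts every element of `K`. -/
theorem inverts_of_fixedPointFree {G : Type*} [Group G] (K : Subgroup G) [Finite K] (t : G)
    (htt : t * t = 1) (hN : ∀ k ∈ K, t * k * t⁻¹ ∈ K) (hfpf : ∀ k ∈ K, t * k = k * t → k = 1) :
    ∀ k ∈ K, t * k * t⁻¹ = k⁻¹ := by
  have htinv : t⁻¹ = t := inv_eq_of_mul_eq_one_left htt
  let φ : K → K := fun k => ⟨(k : G)⁻¹ * (t * k * t⁻¹), K.mul_mem (K.inv_mem k.2) (hN k k.2)⟩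
  have hinj : Function.Injective φ := by
    intro k l hkl
    have h1 : (k : G)⁻¹ * (t * k * t⁻¹) = (l : G)⁻¹ * (t * l * t⁻¹) := congrArg Subtype.val hkl
    -- l k⁻¹ is fixed by t
    have h2 : t * ((l : G) * (k : G)⁻¹) = ((l : G) * (k : G)⁻¹) * t := by
      have h3 : (l : G) * (k : G)⁻¹ = (t * l * t⁻¹) * (t * k * t⁻¹)⁻¹ := by
        have : (t * k * t⁻¹) = (k : G) * ((l : G)⁻¹ * (t * l * t⁻¹)) := by
          rw [← h1]; group
        rw [this]; group
      have h4 : (t * l * t⁻¹) * (t * k * t⁻¹)⁻¹ = t * ((l : G) * (k : G)⁻¹) * t⁻¹ := by group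
      rw [h4] at h3
      calc t * ((l : G) * (k : G)⁻¹) = (t * ((l : G) * (k : G)⁻¹) * t⁻¹) * t := by group
        _ = ((l : G) * (k : G)⁻¹) * t := by rw [← h3]
    have h5 := hfpf _ (K.mul_mem l.2 (K.inv_mem k.2)) h2
    have h6 : (l : G) = k := by
      have := mul_inv_eq_one.mp h5
      exact this
    exact Subtype.ext h6.symm
  have hsurj : Function.Surjective φ := Finite.injective_iff_surjective.mp hinj
  intro k hk
  obtain ⟨m, hm⟩ := hsurj ⟨k, hk⟩
  have hk' : k = (m : G)⁻¹ * (t * m * t⁻¹) := (congrArg Subtype.val hm).symm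
  rw [hk']
  calc t * ((m : G)⁻¹ * (t * m * t⁻¹)) * t⁻¹ = t * (m : G)⁻¹ * t * m * (t⁻¹ * t⁻¹) := by group
    _ = t * (m : G)⁻¹ * t * m := by rw [htinv, htt, mul_one]
    _ = t * (m : G)⁻¹ * t⁻¹ * m := by rw [htinv]
    _ = ((m : G)⁻¹ * (t * m * t⁻¹))⁻¹ := by group

/-- Let Q be an extraspecial 2-subgroup of the finite group G whose centralizer in G is its centre Z and which is normal in the centralizer of Z. If some involution b of Q outside Z has Z inside the largest normal 2-subgroup of the centralizer of b, then Q is a large extraspecial 2-subgroup of G. -/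
theorem result {G : Type*} [Group G] [Finite G] (Q : Subgroup G) (hL1 : Cfsg.IsExtraspecial 2 ↥Q) (hL2 : Subgroup.centralizer (Q : Set G) = ((Subgroup.center ↥Q).map Q.subtype)) (hL3 : Subgroup.centralizer (((Subgroup.center ↥Q).map Q.subtype) : Set G) ≤ Subgroup.normalizer (Q : Set G)) (b : G) (hbQ : b ∈ Q) (hbZ : b ∉ ((Subgroup.center ↥Q).map Q.subtype)) (hb : orderOf b = 2) (hZ : ((Subgroup.center ↥Q).map Q.subtype) ≤ (Cfsg.pCore 2 ↥(Subgroup.centralizer ({b} : Set G))).map (Subgroup.centralizer ({b} : Set G)).subtype) : Cfsg.IsLargeExtraspecial Q := by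
  refine ⟨hL1, hL2, hL3, ?_⟩
  intro K hKodd hQK
  have hQ2 : IsPGroup 2 Q := hL1.1.1
  have hcardZ : Nat.card (Subgroup.center Q) = 2 := hL1.2
  set Z : Subgroup G := (Subgroup.center ↥Q).map Q.subtype with hZdef
  have hZQ : Z ≤ Q := by
    rintro _ ⟨x, _, rfl⟩
    exact x.2
  have hcardZ' : Nat.card Z = 2 := by
    rw [hZdef, Subgroup.card_map_of_injective Q.subtype_injective]; exact hcardZ
  have hKQ : K ⊓ Q = ⊥ := odd_inf_two_group K _ hKodd hQ2
  -- conjugation by elements of Q preserves K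
  have hconjK : ∀ q ∈ Q, ∀ k ∈ K, q * k * q⁻¹ ∈ K := fun q hq k hk =>
    (Subgroup.mem_normalizer_iff.mp (hQK hq) k).mp hk
  -- (1) an element of K centralizing Z is trivial
  have h1 : ∀ k ∈ K, (∀ z ∈ Z, z * k = k * z) → k = 1 := by
    intro k hk hkz
    have hkC : k ∈ Subgroup.centralizer (Z : Set G) := by
      rw [Subgroup.mem_centralizer_iff]; exact fun z hz => hkz z hz
    have hkN : k ∈ Subgroup.normalizer (Q : Set G) := hL3 hkC
    have hkCQ : k ∈ Subgroup.centralizer (Q : Set G) := by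
      rw [Subgroup.mem_centralizer_iff]
      intro q hq
      have hmemK : q * k * q⁻¹ * k⁻¹ ∈ K := K.mul_mem (hconjK q hq k hk) (K.inv_mem hk)
      have hmemQ : q * k * q⁻¹ * k⁻¹ ∈ Q := by
        have : k * q⁻¹ * k⁻¹ ∈ Q := (Subgroup.mem_normalizer_iff.mp hkN q⁻¹).mp (Q.inv_mem hq)
        have h2 := Q.mul_mem hq this
        simpa [mul_assoc] using h2
      have hbot : q * k * q⁻¹ * k⁻¹ ∈ K ⊓ Q := ⟨hmemK, hmemQ⟩
      rw [hKQ, Subgroup.mem_bot] at hbot
      have h3 : q * k * q⁻¹ = k := mul_inv_eq_one.mp hbot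
      calc q * k = q * k * q⁻¹ * q := by group
        _ = k * q := by rw [h3]
    rw [hL2] at hkCQ
    have : k ∈ K ⊓ Q := ⟨hk, hZQ hkCQ⟩
    rw [hKQ, Subgroup.mem_bot] at this
    exact this
  -- (2) an element of K centralizing b is trivial
  set Cb := Subgroup.centralizer ({b} : Set G) with hCbdef
  set R : Subgroup G := (Cfsg.pCore 2 ↥Cb).map Cb.subtype with hRdef
  have hR2 : IsPGroup 2 R := (pCore_isPGroup (G := ↥Cb) 2).map _
  have hKR : K ⊓ R = ⊥ := odd_inf_two_group K _ hKodd hR2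
  have hRnorm : ∀ c ∈ Cb, ∀ r ∈ R, c * r * c⁻¹ ∈ R := by
    rintro c hc _ ⟨r, hr, rfl⟩
    refine ⟨⟨c, hc⟩ * r * ⟨c, hc⟩⁻¹, ?_, rfl⟩
    exact (Cfsg.pCore_normal 2 ↥Cb).conj_mem r hr ⟨c, hc⟩
  have h2 : ∀ k ∈ K, b * k = k * b → k = 1 := by
    intro k hk hkb
    apply h1 k hk
    intro z hz
    have hkCb : k ∈ Cb := by
      rw [hCbdef, Subgroup.mem_centralizer_iff]
      intro y hy
      rw [Set.mem_singleton_iff] at hy
      subst hy
      exact hkb
    have hzR : z ∈ R := hZ hz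
    have hmemK : z * k * z⁻¹ * k⁻¹ ∈ K := K.mul_mem (hconjK z (hZQ hz) k hk) (K.inv_mem hk)
    have hmemR : z * k * z⁻¹ * k⁻¹ ∈ R := by
      have : k * z⁻¹ * k⁻¹ ∈ R := hRnorm k hkCb _ (R.inv_mem hzR)
      have h3 := R.mul_mem hzR this
      simpa [mul_assoc] using h3
    have hbot : z * k * z⁻¹ * k⁻¹ ∈ K ⊓ R := ⟨hmemK, hmemR⟩
    rw [hKR, Subgroup.mem_bot] at hbot
    have h3 : z * k * z⁻¹ = k := mul_inv_eq_one.mp hbot
    calc z * k = z * k * z⁻¹ * z := by group
      _ = k * z := by rw [h3]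
  -- (3) b is conjugate in Q to z * b for a non-identity z ∈ Z
  obtain ⟨q, hq, z, hz, hz1, hqb⟩ : ∃ q ∈ Q, ∃ z ∈ Z, z ≠ 1 ∧ q * b * q⁻¹ = z * b := by
    have hb' : (⟨b, hbQ⟩ : Q) ∉ Subgroup.center Q := by
      intro h
      exact hbZ ⟨⟨b, hbQ⟩, h, rfl⟩
    rw [Subgroup.mem_center_iff] at hb'
    push Not at hb'
    obtain ⟨q, hq⟩ := hb'
    have hcomm : ⁅q, (⟨b, hbQ⟩ : Q)⁆ ∈ Subgroup.center Q := by
      have h3 : commutator Q = Subgroup.center Q := hL1.1.2.2
      rw [← h3]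
      exact Subgroup.commutator_mem_commutator (Subgroup.mem_top _) (Subgroup.mem_top _)
    refine ⟨q, q.2, ((⁅q, (⟨b, hbQ⟩ : Q)⁆ : Q) : G), ⟨_, hcomm, rfl⟩, ?_, ?_⟩
    · intro h
      apply hq
      have h3 : ⁅q, (⟨b, hbQ⟩ : Q)⁆ = 1 := Subtype.ext h
      rw [commutatorElement_eq_one_iff_mul_comm] at h3
      exact h3
    · rw [commutatorElement_def]
      show (q : G) * b * (q : G)⁻¹ = ((q : G) * b * (q : G)⁻¹ * b⁻¹) * b
      group
  -- the elements of Z are 1 and z
  have hZelts : ∀ z' ∈ Z, z' = 1 ∨ z' = z := by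
    intro z' hz'
    by_cases h : z' = 1
    · exact Or.inl h
    · right
      have := eq_of_ne_one_of_card_two hcardZ' ⟨z', hz'⟩ ⟨z, hz⟩
        (fun h' => h (congrArg Subtype.val h')) (fun h' => hz1 (congrArg Subtype.val h'))
      exact congrArg Subtype.val this
  have hzz : z * z = 1 := by
    have hmem : z * z ∈ Z := Z.mul_mem hz hz
    rcases hZelts _ hmem with h | h
    · exact h
    · exfalso; apply hz1
      have : z * z = z * 1 := by rw [mul_one]; exact h
      exact mul_left_cancel this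
  have hbb : b * b = 1 := by
    have h : b ^ 2 = 1 := by rw [← hb]; exact pow_orderOf_eq_one b
    rw [← pow_two]; exact h
  -- (4) an element of K centralizing z * b is trivial
  have h4 : ∀ k ∈ K, (z * b) * k = k * (z * b) → k = 1 := by
    intro k hk hkzb
    have hk' : q⁻¹ * k * q ∈ K := by
      have := hconjK q⁻¹ (Q.inv_mem hq) k hk
      simpa using this
    have hcomm : b * (q⁻¹ * k * q) = (q⁻¹ * k * q) * b := by
      have hb2 : b = q⁻¹ * (z * b) * q := by rw [← hqb]; group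
      calc b * (q⁻¹ * k * q) = q⁻¹ * (z * b) * q * (q⁻¹ * k * q) := by rw [← hb2]
        _ = q⁻¹ * ((z * b) * k) * q := by group
        _ = q⁻¹ * (k * (z * b)) * q := by rw [hkzb]
        _ = (q⁻¹ * k * q) * (q⁻¹ * (z * b) * q) := by group
        _ = (q⁻¹ * k * q) * b := by rw [← hb2]
    have h5 := h2 _ hk' hcomm
    have : k = q * (q⁻¹ * k * q) * q⁻¹ := by group
    rw [this, h5]; group
  -- (5) z and b invert K
  have hKfin : Finite K := inferInstance
  have hzinv : ∀ k ∈ K, z * k * z⁻¹ = k⁻¹ := by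
    apply inverts_of_fixedPointFree K z hzz (hconjK z (hZQ hz))
    intro k hk hzk
    apply h1 k hk
    intro z' hz'
    rcases hZelts z' hz' with h | h
    · rw [h, one_mul, mul_one]
    · rw [h]; exact hzk
  have hbinv : ∀ k ∈ K, b * k * b⁻¹ = k⁻¹ :=
    inverts_of_fixedPointFree K b hbb (hconjK b hbQ) h2
  -- (6) so z * b centralizes K, hence K is trivial
  rw [eq_bot_iff]
  intro k hk
  rw [Subgroup.mem_bot]
  apply h4 k hk
  have e1 : b * k = k⁻¹ * b := by
    have := hbinv k hk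
    calc b * k = b * k * b⁻¹ * b := by group
      _ = k⁻¹ * b := by rw [this]
  have e2 : z * k⁻¹ = k * z := by
    have := hzinv k⁻¹ (K.inv_mem hk)
    rw [inv_inv] at this
    calc z * k⁻¹ = z * k⁻¹ * z⁻¹ * z := by group
      _ = k * z := by rw [this]
  calc z * b * k = z * (b * k) := by group
    _ = z * (k⁻¹ * b) := by rw [e1]
    _ = (z * k⁻¹) * b := by group
    _ = k * z * b := by rw [e2]
    _ = k * (z * b) := by group

end Cfsg.Agent.S5421
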