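import Cfsg.Statements.S5422
-- import your own Cfsg.Agent.* helpers here
import Cfsg.Agent.Lib.Helper98_LESGen
import Cfsg.Agent.S5421

set_option autoImplicit false
open Cfsg

namespace Cfsg.Agent.S5422

open Cfsg.Agent.Lib.Helper93_LES Cfsg.Agent.Lib.Helper98_LESGen

section general

variable {G : Type*} [Group G]

/-- index of a centralizer in a subgroup as the size of a conjugation orbit -/
theorem relIndex_centralizer_eq_ncard (N : Subgroup G) (x : G) :
    (Subgroup.centralizer ({x} : Set G)).relIndex N = {y | ∃ n ∈ N, n * x * n⁻¹ = y}.ncard := by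
  let _ : MulAction ↥N G := MulAction.compHom G ((MulAut.conj (G := G)).comp N.subtype)
  have hsmul : ∀ (n : ↥N) (y : G), n • y = (n : G) * y * (n : G)⁻¹ := fun n y => rfl
  have h1 := MulAction.index_stabilizer (G := ↥N) (x := x)
  have h2 : MulAction.stabilizer ↥N x = (Subgroup.centralizer ({x} : Set G)).subgroupOf N := by
    ext n
    rw [MulAction.mem_stabilizer_iff, hsmul, Subgroup.mem_subgroupOf, Subgroup.mem_centralizer_iff]
    constructor
    · intro h y hy
      rw [Set.mem_singleton_iff] at hy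
      subst hy
      calc y * (n : G) = ((n : G) * y * (n : G)⁻¹) * n := by rw [h]
        _ = n * y := by group
    · intro h
      have := h x rfl
      calc (n : G) * x * (n : G)⁻¹ = (x * n) * (n : G)⁻¹ := by rw [this]
        _ = x := by group
  have h3 : MulAction.orbit ↥N x = {y | ∃ n ∈ N, n * x * n⁻¹ = y} := by
    ext y
    constructor
    · rintro ⟨n, rfl⟩
      exact ⟨n, n.2, rfl⟩
    · rintro ⟨n, hn, rfl⟩
      exact ⟨⟨n, hn⟩, rfl⟩
  rw [Subgroup.relIndex, ← h2, h1, h3]

/-- the elements of a four-group -/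
theorem four_cases {z u : G} (hz : z * z = 1) (hu : u * u = 1) (hzu : z * u = u * z) {v : G}
    (hv : v ∈ Subgroup.closure ({z, u} : Set G)) : v = 1 ∨ v = z ∨ v = u ∨ v = z * u := by
  have hzinv : z⁻¹ = z := inv_eq_iff_mul_eq_one.mpr hz
  have huinv : u⁻¹ = u := inv_eq_iff_mul_eq_one.mpr hu
  induction hv using Subgroup.closure_induction with
  | mem x hx =>
    rcases hx with rfl | rfl
    · exact Or.inr (Or.inl rfl)
    · exact Or.inr (Or.inr (Or.inl rfl))
  | one => exact Or.inl rfl
  | mul x y _ _ hx hy =>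
    rcases hx with rfl | rfl | rfl | rfl
    · rw [one_mul]; exact hy
    · rcases hy with rfl | rfl | rfl | rfl
      · rw [mul_one]; exact Or.inr (Or.inl rfl)
      · rw [hz]; exact Or.inl rfl
      · exact Or.inr (Or.inr (Or.inr rfl))
      · rw [← mul_assoc, hz, one_mul]; exact Or.inr (Or.inr (Or.inl rfl))
    · rcases hy with rfl | rfl | rfl | rfl
      · rw [mul_one]; exact Or.inr (Or.inr (Or.inl rfl))
      · rw [← hzu]; exact Or.inr (Or.inr (Or.inr rfl))
      · rw [hu]; exact Or.inl rfl
      · rw [hzu, ← mul_assoc, hu, one_mul]; exact Or.inr (Or.inl rfl)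
    · rcases hy with rfl | rfl | rfl | rfl
      · rw [mul_one]; exact Or.inr (Or.inr (Or.inr rfl))
      · rw [hzu, mul_assoc, hz, mul_one]; exact Or.inr (Or.inr (Or.inl rfl))
      · rw [mul_assoc, hu, mul_one]; exact Or.inr (Or.inl rfl)
      · left
        calc z * u * (z * u) = z * (u * z) * u := by group
          _ = z * (z * u) * u := by rw [hzu]
          _ = (z * z) * (u * u) := by group
          _ = 1 := by rw [hz, hu, one_mul]
  | inv x _ hx =>
    rcases hx with rfl | rfl | rfl | rfl
    · rw [inv_one]; exact Or.inl rfl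
    · rw [hzinv]; exact Or.inr (Or.inl rfl)
    · rw [huinv]; exact Or.inr (Or.inr (Or.inl rfl))
    · rw [mul_inv_rev, hzinv, huinv, ← hzu]; exact Or.inr (Or.inr (Or.inr rfl))

/-- an element mapping both generators (and so does its inverse) into the four-group
normalizes it -/
theorem mem_normalizer_closure {z u n : G}
    (h1 : n * z * n⁻¹ ∈ Subgroup.closure ({z, u} : Set G))
    (h2 : n * u * n⁻¹ ∈ Subgroup.closure ({z, u} : Set G))
    (h3 : n⁻¹ * z * n ∈ Subgroup.closure ({z, u} : Set G))
    (h4 : n⁻¹ * u * n ∈ Subgroup.closure ({z, u} : Set G)) :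
    n ∈ Subgroup.normalizer ((Subgroup.closure ({z, u} : Set G) : Subgroup G) : Set G) := by
  have key : ∀ m : G, m * z * m⁻¹ ∈ Subgroup.closure ({z, u} : Set G) →
      m * u * m⁻¹ ∈ Subgroup.closure ({z, u} : Set G) →
      ∀ v ∈ Subgroup.closure ({z, u} : Set G), m * v * m⁻¹ ∈ Subgroup.closure ({z, u} : Set G) := by
    intro m hz hu v hv
    induction hv using Subgroup.closure_induction with
    | mem x hx =>
      rcases hx with rfl | rfl
      · exact hz
      · exact hu
    | one =>
      have : m * 1 * m⁻¹ = 1 := by group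
      rw [this]; exact Subgroup.one_mem _
    | mul x y _ _ hx hy =>
      have : m * (x * y) * m⁻¹ = (m * x * m⁻¹) * (m * y * m⁻¹) := by group
      rw [this]; exact Subgroup.mul_mem _ hx hy
    | inv x _ hx =>
      have : m * x⁻¹ * m⁻¹ = (m * x * m⁻¹)⁻¹ := by group
      rw [this]; exact Subgroup.inv_mem _ hx
  rw [Subgroup.mem_normalizer_iff]
  intro h
  constructor
  · exact key n h1 h2 h
  · intro hh
    have := key n⁻¹ (by rwa [inv_inv]) (by rwa [inv_inv]) _ hh
    have e : n⁻¹ * (n * h * n⁻¹) * n⁻¹⁻¹ = h := by group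
    rwa [e] at this

theorem index_six (z u : G) (hz : z * z = 1) (hu : u * u = 1) (hzu : z * u = u * z)
    (hz1 : z ≠ 1) (hu1 : u ≠ 1) (hne : z ≠ u)
    (q0 : G) (hq0z : q0 * z * q0⁻¹ = z) (hq0u : q0 * u * q0⁻¹ = u * z)
    (a0 : G) (ha0u : a0 * u * a0⁻¹ = u) (ha0z : a0 * z * a0⁻¹ = z * u) :
    (Subgroup.centralizer ((Subgroup.closure ({z, u} : Set G) : Subgroup G) : Set G)).relIndex
      (Subgroup.normalizer ((Subgroup.closure ({z, u} : Set G) : Subgroup G) : Set G)) = 6 := by
  set V : Subgroup G := Subgroup.closure ({z, u} : Set G) with hV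
  have hzV : z ∈ V := Subgroup.subset_closure (by simp)
  have huV : u ∈ V := Subgroup.subset_closure (by simp)
  have hzuV : z * u ∈ V := Subgroup.mul_mem _ hzV huV
  have hC : Subgroup.centralizer (V : Set G) =
      Subgroup.centralizer ({z} : Set G) ⊓ Subgroup.centralizer ({u} : Set G) := by
    rw [hV, Subgroup.centralizer_closure]
    ext c
    simp only [Subgroup.mem_inf, Subgroup.mem_centralizer_iff, Set.mem_insert_iff,
      Set.mem_singleton_iff]
    constructor
    · intro h
      exact ⟨fun y hy => h y (Or.inl hy), fun y hy => h y (Or.inr hy)⟩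
    · rintro ⟨h1, h2⟩ y (hy | hy)
      · exact h1 y hy
      · exact h2 y hy
  -- inverse conjugations
  have inv_conj : ∀ {n x y : G}, n * x * n⁻¹ = y → n⁻¹ * y * n = x := by
    intro n x y h
    rw [← h]; group
  have hq0uz : q0 * (u * z) * q0⁻¹ = u := by
    calc q0 * (u * z) * q0⁻¹ = (q0 * u * q0⁻¹) * (q0 * z * q0⁻¹) := by group
      _ = u * z * z := by rw [hq0u, hq0z]
      _ = u := by rw [mul_assoc, hz, mul_one]
  have ha0zu : a0 * (z * u) * a0⁻¹ = z := by
    calc a0 * (z * u) * a0⁻¹ = (a0 * z * a0⁻¹) * (a0 * u * a0⁻¹) := by group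
      _ = z * u * u := by rw [ha0z, ha0u]
      _ = z := by rw [mul_assoc, hu, mul_one]
  have huzV : u * z ∈ V := Subgroup.mul_mem _ huV hzV
  have hq0N : q0 ∈ Subgroup.normalizer (V : Set G) := by
    apply mem_normalizer_closure
    · rw [hq0z]; exact hzV
    · rw [hq0u]; exact huzV
    · rw [inv_conj hq0z]; exact hzV
    · rw [inv_conj hq0uz]; exact huzV
  have ha0N : a0 ∈ Subgroup.normalizer (V : Set G) := by
    apply mem_normalizer_closure
    · rw [ha0z]; exact hzuV
    · rw [ha0u]; exact huV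
    · rw [inv_conj ha0zu]; exact hzuV
    · rw [inv_conj ha0u]; exact huV
  set N : Subgroup G := Subgroup.normalizer (V : Set G) with hN
  have hconjV : ∀ n ∈ N, ∀ v ∈ V, n * v * n⁻¹ ∈ V := fun n hn v hv =>
    (Subgroup.mem_normalizer_iff.mp hn v).mp hv
  -- orbit of z
  have horb1 : {y | ∃ n ∈ N, n * z * n⁻¹ = y} = {z, u, z * u} := by
    ext y
    simp only [Set.mem_ofPred_eq, Set.mem_insert_iff, Set.mem_singleton_iff]
    constructor
    · rintro ⟨n, hn, rfl⟩
      rcases four_cases hz hu hzu (hconjV n hn z hzV) with h | h | h | h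
      · exfalso
        apply hz1
        have : z = n⁻¹ * (n * z * n⁻¹) * n := by group
        rw [this, h]; group
      · exact Or.inl h
      · exact Or.inr (Or.inl h)
      · exact Or.inr (Or.inr h)
    · rintro (h | h | h)
      · exact ⟨1, Subgroup.one_mem _, by rw [h]; group⟩
      · refine ⟨q0 * a0, Subgroup.mul_mem _ hq0N ha0N, ?_⟩
        rw [h]
        calc q0 * a0 * z * (q0 * a0)⁻¹ = q0 * (a0 * z * a0⁻¹) * q0⁻¹ := by group
          _ = q0 * (z * u) * q0⁻¹ := by rw [ha0z]
          _ = q0 * (u * z) * q0⁻¹ := by rw [hzu]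
          _ = u := hq0uz
      · exact ⟨a0, ha0N, by rw [h]; exact ha0z⟩
  have hcard1 : ({z, u, z * u} : Set G).ncard = 3 := by
    rw [Set.ncard_eq_three]
    refine ⟨z, u, z * u, hne, ?_, ?_, rfl⟩
    · intro h
      apply hu1
      calc u = z⁻¹ * (z * u) := by group
        _ = 1 := by rw [← h]; group
    · intro h
      apply hz1
      calc z = (z * u) * u⁻¹ := by group
        _ = 1 := by rw [← h]; group
  have hidx1 : (Subgroup.centralizer ({z} : Set G)).relIndex N = 3 := by
    rw [relIndex_centralizer_eq_ncard, horb1, hcard1]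
  -- orbit of u under the stabilizer of z
  have horb2 : {y | ∃ n ∈ N ⊓ Subgroup.centralizer ({z} : Set G), n * u * n⁻¹ = y} =
      {u, u * z} := by
    ext y
    simp only [Set.mem_ofPred_eq, Set.mem_insert_iff, Set.mem_singleton_iff]
    constructor
    · rintro ⟨n, hn, rfl⟩
      have hnz : z * n = n * z :=
        Subgroup.mem_centralizer_iff.mp (Subgroup.mem_inf.mp hn).2 z rfl
      rcases four_cases hz hu hzu (hconjV n (Subgroup.mem_inf.mp hn).1 u huV) with h | h | h | h
      · exfalso
        apply hu1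
        have : u = n⁻¹ * (n * u * n⁻¹) * n := by group
        rw [this, h]; group
      · exfalso
        apply hne
        have : u = n⁻¹ * (n * u * n⁻¹) * n := by group
        rw [this, h]
        calc z = n⁻¹ * (n * z) := by group
          _ = n⁻¹ * (z * n) := by rw [hnz]
          _ = n⁻¹ * z * n := by group
      · exact Or.inl h
      · right; rw [h, hzu]
    · rintro (h | h)
      · exact ⟨1, Subgroup.one_mem _, by rw [h]; group⟩
      · refine ⟨q0, Subgroup.mem_inf.mpr ⟨hq0N, ?_⟩, by rw [h]; exact hq0u⟩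
        rw [Subgroup.mem_centralizer_iff]
        intro y' hy'
        rw [Set.mem_singleton_iff] at hy'
        rw [hy']
        calc z * q0 = (q0 * z * q0⁻¹) * q0 := by rw [hq0z]
          _ = q0 * z := by group
  have hcard2 : ({u, u * z} : Set G).ncard = 2 := by
    apply Set.ncard_pair
    intro h
    apply hz1
    calc z = u⁻¹ * (u * z) := by group
      _ = 1 := by rw [← h]; group
  have hidx2 : (Subgroup.centralizer ({u} : Set G)).relIndex
      (N ⊓ Subgroup.centralizer ({z} : Set G)) = 2 := by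
    rw [relIndex_centralizer_eq_ncard, horb2, hcard2]
  -- combine
  have hCN : Subgroup.centralizer (V : Set G) ≤ N := Subgroup.centralizer_le_normalizer _
  have hC' : Subgroup.centralizer (V : Set G) =
      (N ⊓ Subgroup.centralizer ({z} : Set G)) ⊓ Subgroup.centralizer ({u} : Set G) := by
    rw [hC]
    apply le_antisymm
    · intro c hc
      have hcV : c ∈ Subgroup.centralizer (V : Set G) := by rw [hC]; exact hc
      exact Subgroup.mem_inf.mpr ⟨Subgroup.mem_inf.mpr ⟨hCN hcV, (Subgroup.mem_inf.mp hc).1⟩,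
        (Subgroup.mem_inf.mp hc).2⟩
    · intro c hc
      exact Subgroup.mem_inf.mpr ⟨(Subgroup.mem_inf.mp (Subgroup.mem_inf.mp hc).1).2,
        (Subgroup.mem_inf.mp hc).2⟩
  have h1 : (Subgroup.centralizer (V : Set G)).relIndex
      (N ⊓ Subgroup.centralizer ({z} : Set G)) = 2 := by
    rw [hC', Subgroup.inf_relIndex_left, hidx2]
  have h2 : (N ⊓ Subgroup.centralizer ({z} : Set G)).relIndex N = 3 := by
    rw [Subgroup.inf_relIndex_left, hidx1]
  have h3 := Subgroup.relIndex_mul_relIndex (Subgroup.centralizer (V : Set G))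
    (N ⊓ Subgroup.centralizer ({z} : Set G)) N
    (by rw [hC']; exact inf_le_left) inf_le_left
  rw [h1, h2] at h3
  exact h3.symm

end general

/-- elements of the group generated by an involution -/
theorem mem_zpowers_two {L : Type*} [Group L] {z y : L} (hz : z * z = 1)
    (hy : y ∈ Subgroup.zpowers z) : y = 1 ∨ y = z := by
  have hz' : z ^ 2 = 1 := by rw [pow_two]; exact hz
  obtain ⟨k, rfl⟩ := Subgroup.mem_zpowers_iff.mp hy
  rcases Int.even_or_odd' k with ⟨m, rfl | rfl⟩
  · left
    rw [zpow_mul, zpow_ofNat, hz', one_zpow]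
  · right
    rw [zpow_add, zpow_mul, zpow_ofNat, hz', one_zpow, one_mul, zpow_one]

/-- Let Q be an extraspecial 2-subgroup of the finite group G whose centralizer in G is its centre Z and which is normal in the centralizer of Z; suppose Q has width at least 2 (order 2^(2w+1) with w ≥ 2) and g is an element of G not normalizing Z with g Z g⁻¹ inside Q. Then Z lies inside g Q g⁻¹; writing V for the subgroup generated by Z and g Z g⁻¹ (a four-group), the normalizer of V induces on V its full automorphism group, that is, the centralizer of V has index 6 in the normalizer of V; and Q is a large extraspecial 2-subgroup of G. -/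
theorem result {G : Type*} [Group G] [Finite G] (Q : Subgroup G) (hL1 : Cfsg.IsExtraspecial 2 ↥Q) (hL2 : Subgroup.centralizer (Q : Set G) = ((Subgroup.center ↥Q).map Q.subtype)) (hL3 : Subgroup.centralizer (((Subgroup.center ↥Q).map Q.subtype) : Set G) ≤ Subgroup.normalizer (Q : Set G)) (w : ℕ) (hw : 2 ≤ w) (hcard : Nat.card ↥Q = 2 ^ (2 * w + 1)) (g : G) (hg : g ∉ Subgroup.normalizer (((Subgroup.center ↥Q).map Q.subtype) : Set G)) (hZg : (((Subgroup.center ↥Q).map Q.subtype)).map (MulAut.conj g).toMonoidHom ≤ Q) : ((Subgroup.center ↥Q).map Q.subtype) ≤ (Q).map (MulAut.conj g).toMonoidHom ∧ (Subgroup.centralizer ((((Subgroup.center ↥Q).map Q.subtype) ⊔ (((Subgroup.center ↥Q).map Q.subtype)).map (MulAut.conj g).toMonoidHom : Subgroup G) : Set G)).relIndex (Subgroup.normalizer ((((Subgroup.center ↥Q).map Q.subtype) ⊔ (((Subgroup.center ↥Q).map Q.subtype)).map (MulAut.conj g).toMonoidHom : Subgroup G) : Set G)) = 6 ∧ Cfsg.IsLargeExtraspecial Q := by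
  obtain ⟨z, hzord, hZ, hles⟩ := exists_les Q hL1 hL2
  have hnorm := norm_of Q hZ hL3
  have hQ2 : IsPGroup 2 Q := hL1.1.1
  have hzz := hles.sq
  have hz1 := hles.ne_one
  have huQ : g * z * g⁻¹ ∈ Q :=
    hZg ⟨z, (by rw [hZ]; exact Subgroup.mem_zpowers z), by simp [MulAut.conj_apply]⟩
  have huz : g * z * g⁻¹ ≠ z := by
    intro h
    apply hg
    have hc : Commute g z := by
      calc g * z = (g * z * g⁻¹) * g := by group
        _ = z * g := by rw [h]
    rw [hZ, Subgroup.mem_normalizer_iff]
    intro y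
    constructor
    · intro hy
      obtain ⟨k, rfl⟩ := Subgroup.mem_zpowers_iff.mp hy
      have := (hc.zpow_right k).eq
      rw [this]
      have e : z ^ k * g * g⁻¹ = z ^ k := by group
      rw [e]; exact Subgroup.zpow_mem_zpowers z k
    · intro hy
      obtain ⟨k, hk⟩ := Subgroup.mem_zpowers_iff.mp hy
      have h2 := (hc.zpow_right k).eq
      have : y = z ^ k := by
        calc y = g⁻¹ * (g * y * g⁻¹) * g := by group
          _ = g⁻¹ * z ^ k * g := by rw [hk]
          _ = g⁻¹ * (z ^ k * g) := by group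
          _ = g⁻¹ * (g * z ^ k) := by rw [h2]
          _ = z ^ k := by group
      rw [this]; exact Subgroup.zpow_mem_zpowers z k
  have hu1 : g * z * g⁻¹ ≠ 1 := by
    intro h
    apply hz1
    have : z = g⁻¹ * (g * z * g⁻¹) * g := by group
    rw [this, h]; group
  have huu : g * z * g⁻¹ * (g * z * g⁻¹) = 1 := by
    calc g * z * g⁻¹ * (g * z * g⁻¹) = g * (z * z) * g⁻¹ := by group
      _ = 1 := by rw [hzz]; group
  have hsym : g⁻¹ * z * g ∈ Q := sym hles hnorm hQ2 g huQ
  -- (1)
  have h1 : ((Subgroup.center ↥Q).map Q.subtype) ≤ (Q).map (MulAut.conj g).toMonoidHom := by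
    rw [hZ, Subgroup.zpowers_le]
    refine ⟨g⁻¹ * z * g, hsym, ?_⟩
    simp only [MulEquiv.coe_toMonoidHom, MulAut.conj_apply]
    group
  refine ⟨h1, ?_, ?_⟩
  · -- (2)
    have hV : (((Subgroup.center ↥Q).map Q.subtype) ⊔
        (((Subgroup.center ↥Q).map Q.subtype)).map (MulAut.conj g).toMonoidHom : Subgroup G) =
        Subgroup.closure ({z, g * z * g⁻¹} : Set G) := by
      rw [hZ, MonoidHom.map_zpowers, Subgroup.zpowers_eq_closure, Subgroup.zpowers_eq_closure,
        ← Subgroup.closure_union, Set.singleton_union]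
      simp [MulAut.conj_apply]
    rw [hV]
    have hzu : z * (g * z * g⁻¹) = (g * z * g⁻¹) * z := (hles.central _ huQ).symm
    obtain ⟨q0, hq0, hq0u⟩ := Cfsg.Agent.Lib.Helper98_LESGen.exists_q0 Q hles huQ hu1 huz
    have hq0z : q0 * z * q0⁻¹ = z := by
      rw [hles.central q0 hq0]; group
    have hx1 : g⁻¹ * z * g ≠ 1 := by
      intro h
      apply hz1
      have : z = g * (g⁻¹ * z * g) * g⁻¹ := by group
      rw [this, h]; group
    have hxz : g⁻¹ * z * g ≠ z := by
      intro h
      apply huz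
      have : z * g = g * z := by
        calc z * g = g * (g⁻¹ * z * g) := by group
          _ = g * z := by rw [h]
      calc g * z * g⁻¹ = (z * g) * g⁻¹ := by rw [this]
        _ = z := by group
    obtain ⟨q1, hq1, hq1x⟩ := Cfsg.Agent.Lib.Helper98_LESGen.exists_q0 Q hles hsym hx1 hxz
    have hq1z : q1 * z * q1⁻¹ = z := by
      rw [hles.central q1 hq1]; group
    refine index_six z (g * z * g⁻¹) hzz huu hzu hz1 hu1 (Ne.symm huz) q0 hq0z hq0u
      (g * q1 * g⁻¹) ?_ ?_
    · calc g * q1 * g⁻¹ * (g * z * g⁻¹) * (g * q1 * g⁻¹)⁻¹ = g * (q1 * z * q1⁻¹) * g⁻¹ := by group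
        _ = g * z * g⁻¹ := by rw [hq1z]
    · calc g * q1 * g⁻¹ * z * (g * q1 * g⁻¹)⁻¹ = g * (q1 * (g⁻¹ * z * g) * q1⁻¹) * g⁻¹ := by group
        _ = g * (g⁻¹ * z * g * z) * g⁻¹ := by rw [hq1x]
        _ = z * (g * z * g⁻¹) := by group
  · -- (3)
    refine Cfsg.Agent.S5421.result Q hL1 hL2 hL3 (g * z * g⁻¹) huQ ?_ ?_ ?_
    · intro h
      rw [hZ] at h
      rcases mem_zpowers_two hzz h with h' | h'
      · exact hu1 h'
      · exact huz h'
    · exact orderOf_eq_prime (by rw [pow_two]; exact huu) hu1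
    · refine le_trans h1 ?_
      apply le_tc (x := g * z * g⁻¹) (Q.map (MulAut.conj g).toMonoidHom)
      · rintro _ ⟨q, hq, rfl⟩
        rw [Subgroup.mem_centralizer_iff]
        intro y hy
        rw [Set.mem_singleton_iff] at hy
        rw [hy]
        simp only [MulEquiv.coe_toMonoidHom, MulAut.conj_apply]
        have := hles.central q hq
        calc g * z * g⁻¹ * (g * q * g⁻¹) = g * (z * q) * g⁻¹ := by group
          _ = g * (q * z) * g⁻¹ := by rw [this]
          _ = g * q * g⁻¹ * (g * z * g⁻¹) := by group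
      · rintro c hc _ ⟨q, hq, rfl⟩
        have hc' : (g⁻¹ * c * g) * z = z * (g⁻¹ * c * g) := by
          have := Subgroup.mem_centralizer_iff.mp hc (g * z * g⁻¹) rfl
          calc (g⁻¹ * c * g) * z = g⁻¹ * (c * (g * z * g⁻¹)) * g := by group
            _ = g⁻¹ * ((g * z * g⁻¹) * c) * g := by rw [this]
            _ = z * (g⁻¹ * c * g) := by group
        refine ⟨(g⁻¹ * c * g) * q * (g⁻¹ * c * g)⁻¹, hnorm _ hc' q hq, ?_⟩
        simp only [MulEquiv.coe_toMonoidHom, MulAut.conj_apply]
        group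
      · exact hQ2.map _

end Cfsg.Agent.S5422
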