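import Cfsg.Statements.S5426
import Cfsg.Agent.Lib.Helper69_LESBase
import Cfsg.Agent.Lib.Helper69_LESDecomp
import Cfsg.Agent.Lib.Helper69_LESOrbit
import Cfsg.Agent.Lib.Helper69_LESTwo
import Cfsg.Agent.Lib.Helper22_Layer

set_option autoImplicit false
open Cfsg

namespace Cfsg.Agent.S5426

/-- Let Q be a large extraspecial 2-subgroup of the finite group G (extraspecial; centralizer equal to its centre; normal in the centralizer of its centre; normalizing no non-trivial subgroup of odd order) with centre generated by z, and let M be the normal closure of z in G. Then one of the following holds: Q is normal in G; or M is abelian and the generalized Fitting subgroup of G is its largest normal 2-subgroup; or M is the generalized Fitting subgroup of G and is a non-abelian simple group; or M is the generalized Fitting subgroup of G and is the direct product of a non-abelian simple subgroup L and its conjugate u L u⁻¹ by some u in Q (the two meet trivially and commute elementwise), with z = z₁ (u z₁ u⁻¹) for some z₁ in L whose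 centralizer in L is a Sylow 2-subgroup of L with Frattini subgroup inside the subgroup generated by z₁, and Q is not the largest normal 2-subgroup of the centralizer of z. -/
theorem result {G : Type*} [Group G] [Finite G] (Q : Subgroup G) (hQ : Cfsg.IsLargeExtraspecial Q) (z : G) (hz : ((Subgroup.center ↥Q).map Q.subtype) = Subgroup.zpowers z) (M : Subgroup G) (hM : M = Subgroup.normalClosure ({z} : Set G)) : Q.Normal ∨ (IsMulCommutative ↥M ∧ Cfsg.generalizedFittingSubgroup G = Cfsg.pCore 2 G) ∨ (M = Cfsg.generalizedFittingSubgroup G ∧ IsSimpleGroup ↥M ∧ ¬ IsMulCommutative ↥M) ∨ (M = Cfsg.generalizedFittingSubgroup G ∧ ∃ (L : Subgroup G) (u : G), u ∈ Q ∧ IsSimpleGroup ↥L ∧ ¬ IsMulCommutative ↥L ∧ L ⊓ (L).map (MulAut.conj u).toMonoidHom = ⊥ ∧ (∀ x ∈ L, ∀ y ∈ (L).map (MulAut.conj u).toMonoidHom, x * y = y * x) ∧ L ⊔ (L).map (MulAut.conj u).toMonoidHom = M ∧ ∃ z₁ ∈ L, z = z₁ * (u * z₁ * u⁻¹) ∧ (∃ R : Sylow 2 ↥L, (R : Subgroup ↥L) = (Subgroup.centralizer ({z₁} : Set G)).subgroupOf L ∧ (frattini ↥(R : Subgroup ↥L)).map ((L.subtype).comp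 (R : Subgroup ↥L).subtype) ≤ Subgroup.zpowers z₁) ∧ Q ≠ (Cfsg.pCore 2 ↥(Subgroup.centralizer ({z} : Set G))).map (Subgroup.centralizer ({z} : Set G)).subtype) := by
  have hles := Cfsg.Agent.Lib.Helper69_LESBase.les_of_large Q hQ z hz
  by_cases hR : Cfsg.pCore 2 G = ⊥
  · have hF : Cfsg.fittingSubgroup G = ⊥ := by rw [hles.fitting_eq_pCore, hR]
    have hzE := Cfsg.Agent.Lib.Helper69_LESDecomp.mem_layer hles hR
    have hME : M = Cfsg.layer G := by
      rw [hM]; exact Cfsg.Agent.Lib.Helper69_LESDecomp.normalClosure_eq_layer hles hzE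
    have hFs : Cfsg.generalizedFittingSubgroup G = Cfsg.layer G := by
      unfold Cfsg.generalizedFittingSubgroup
      rw [hF, sup_bot_eq]
    have hex : ∃ L : Subgroup G, Cfsg.IsComponent L := by
      by_contra hno
      have hle : Cfsg.layer G ≤ ⊥ := by
        rw [Cfsg.Agent.Lib.Helper22_Layer.layer_le_iff]
        intro L hL
        exact absurd ⟨L, hL⟩ hno
      have := hle hzE
      rw [Subgroup.mem_bot] at this
      exact hles.z1 this
    obtain ⟨L, hL⟩ := hex
    have hctx : Cfsg.Agent.Lib.Helper69_LESOrbit.Ctx Q z L := ⟨hles, hF, hzE, hL⟩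
    by_cases hQN : Q ≤ Subgroup.normalizer (L : Set G)
    · right; right; left
      have hEL := hctx.layer_eq_of_normalizes hQN
      have hML : M = L := by rw [hME, hEL]
      refine ⟨by rw [hFs, hME], ?_, ?_⟩
      · rw [hML]; exact hctx.simple
      · rw [hML]
        intro hc
        exact hctx.not_comm (fun x y => hc.is_comm.comm x y)
    · right; right; right
      obtain ⟨u, hu, huN⟩ := SetLike.not_le_iff_exists.mp hQN
      obtain ⟨a, b, hdec⟩ := hctx.exists_dec
      have htwo : Cfsg.Agent.Lib.Helper69_LESTwo.Two Q z L a b u := ⟨hdec, hu, huN⟩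
      refine ⟨by rw [hFs, hME], L, u, hu, hctx.simple, ?_, ?_, ?_, ?_, a, hdec.aL, ?_,
        htwo.exists_sylow, htwo.ne_pCore⟩
      · intro hc
        exact hctx.not_comm (fun x y => hc.is_comm.comm x y)
      · rw [eq_bot_iff]
        intro x hx
        obtain ⟨hx1, hx2⟩ := Subgroup.mem_inf.mp hx
        rw [← hctx.inf_cent]
        exact Subgroup.mem_inf.mpr ⟨hx1, htwo.cj_le hx2⟩
      · intro x hx y hy
        exact Subgroup.mem_centralizer_iff.mp (htwo.cj_le hy) x hx
      · rw [hME, htwo.layer_eq]
      · rw [← htwo.b_eq]; exact hdec.zab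
  · right; left
    rw [hM]
    exact hles.case_pCore_ne_bot hR

end Cfsg.Agent.S5426
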