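import Cfsg.Statements.S5433

set_option autoImplicit false
open Cfsg

namespace Cfsg.Agent.S5433

/-- In a group of order two, any two non-identity elements coincide. -/
theorem eq_of_ne_one_of_card_two {Z : Type*} [Group Z] (h : Nat.card Z = 2) (a b : Z)
    (ha : a ≠ 1) (hb : b ≠ 1) : a = b := by
  obtain ⟨y, _, hy⟩ := (Nat.card_eq_two_iff' (1 : Z)).mp h
  rw [hy a ha, hy b hb]

/-- Let Q be a large extraspecial 2-subgroup of the finite group G (extraspecial; centralizer equal to its centre; normal in the centralizer of its centre; normalizing no non-trivial subgroup of odd order), and L a normal subgroup of G containing Q. Then G is the product of L and the normalizer of Q. -/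
theorem result {G : Type*} [Group G] [Finite G] (Q : Subgroup G) (hQ : Cfsg.IsLargeExtraspecial Q) (L : Subgroup G) [L.Normal] (hQL : Q ≤ L) : L ⊔ Subgroup.normalizer (Q : Set G) = ⊤ := by
  obtain ⟨hL1, hL2, hL3, -⟩ := hQ
  have : Fact (Nat.Prime 2) := ⟨Nat.prime_two⟩
  have hQ2 : IsPGroup 2 Q := hL1.1.1
  have hcardZ : Nat.card (Subgroup.center Q) = 2 := hL1.2
  set Z : Subgroup G := (Subgroup.center ↥Q).map Q.subtype with hZdef
  have hZQ : Z ≤ Q := by
    rintro _ ⟨x, _, rfl⟩
    exact x.2
  have hcardZ' : Nat.card Z = 2 := by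
    rw [hZdef, Subgroup.card_map_of_injective Q.subtype_injective]; exact hcardZ
  -- a Sylow 2-subgroup of L containing Q
  have hQL2 : IsPGroup 2 (Q.subgroupOf L) := hQ2.comap_of_injective L.subtype L.subtype_injective
  obtain ⟨P, hP⟩ := hQL2.exists_le_sylow
  set T : Subgroup G := (P : Subgroup L).map L.subtype with hTdef
  have hQT : Q ≤ T := by
    intro q hq
    exact ⟨⟨q, hQL hq⟩, hP (by simpa [Subgroup.mem_subgroupOf] using hq), rfl⟩
  have hT2 : IsPGroup 2 T := P.isPGroup'.map _
  have hfr : Subgroup.normalizer (T : Set G) ⊔ L = ⊤ := Sylow.normalizer_sup_eq_top P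
  -- the centre of T, as a subgroup of G, is Z
  have hZT : (Subgroup.center T).map T.subtype = Z := by
    have hle : (Subgroup.center T).map T.subtype ≤ Z := by
      rintro _ ⟨x, hx, rfl⟩
      show T.subtype x ∈ Z
      rw [← hL2, Subgroup.mem_centralizer_iff]
      intro q hq
      have := Subgroup.mem_center_iff.mp hx ⟨q, hQT hq⟩
      exact congrArg Subtype.val this
    -- T is nontrivial, so its centre is nontrivial
    have hntZ : Nontrivial Z := by
      apply (Finite.one_lt_card_iff_nontrivial).mp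
      omega
    have hntT : Nontrivial T := by
      obtain ⟨a, b, hab⟩ := hntZ
      exact ⟨⟨a.1, hQT (hZQ a.2)⟩, ⟨b.1, hQT (hZQ b.2)⟩, fun h => hab (Subtype.ext (Subtype.mk.inj h))⟩
    have hntC : Nontrivial (Subgroup.center T) := hT2.center_nontrivial
    have hcard1 : 1 < Nat.card ((Subgroup.center T).map T.subtype) := by
      rw [Subgroup.card_map_of_injective T.subtype_injective]
      exact Finite.one_lt_card_iff_nontrivial.mpr hntC
    have hcard2 : Nat.card ((Subgroup.center T).map T.subtype) ≤ Nat.card Z :=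
      Subgroup.card_le_of_le hle
    apply Subgroup.eq_of_le_of_card_ge hle
    omega
  -- the normalizer of T normalizes Q
  have hNT : Subgroup.normalizer (T : Set G) ≤ Subgroup.normalizer (Q : Set G) := by
    intro n hn
    apply hL3
    rw [Subgroup.mem_centralizer_iff]
    intro z hz
    -- n⁻¹ * z * n ∈ Z
    have hzT : z ∈ (Subgroup.center T).map T.subtype := by rw [hZT]; exact hz
    obtain ⟨⟨z', hz'T⟩, hz'c, rfl⟩ := hzT
    have hconjT : n⁻¹ * z' * n ∈ T := by
      have hn' : n⁻¹ ∈ Subgroup.normalizer (T : Set G) := Subgroup.inv_mem _ hn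
      have := (Subgroup.mem_normalizer_iff.mp hn' z').mp hz'T
      simpa using this
    have hconjZ : n⁻¹ * z' * n ∈ Z := by
      rw [← hZT]
      refine ⟨⟨n⁻¹ * z' * n, hconjT⟩, ?_, rfl⟩
      apply Subgroup.mem_center_iff.mpr
      rintro ⟨t, ht⟩
      apply Subtype.ext
      show t * (n⁻¹ * z' * n) = n⁻¹ * z' * n * t
      have ht' : n * t * n⁻¹ ∈ T := (Subgroup.mem_normalizer_iff.mp hn t).mp ht
      have hc := Subgroup.mem_center_iff.mp hz'c ⟨n * t * n⁻¹, ht'⟩
      have hc' : n * t * n⁻¹ * z' = z' * (n * t * n⁻¹) := congrArg Subtype.val hc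
      calc t * (n⁻¹ * z' * n) = n⁻¹ * (n * t * n⁻¹ * z') * n := by group
        _ = n⁻¹ * (z' * (n * t * n⁻¹)) * n := by rw [hc']
        _ = n⁻¹ * z' * n * t := by group
    show z' * n = n * z'
    by_cases h1 : z' = 1
    · subst h1; simp
    · have h2 : n⁻¹ * z' * n ≠ 1 := by
        intro h
        apply h1
        have : z' = n * (n⁻¹ * z' * n) * n⁻¹ := by group
        rw [this, h]; group
      have := eq_of_ne_one_of_card_two hcardZ' ⟨z', hz⟩ ⟨n⁻¹ * z' * n, hconjZ⟩
        (fun h => h1 (congrArg Subtype.val h)) (fun h => h2 (congrArg Subtype.val h))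
      have h3 : z' = n⁻¹ * z' * n := congrArg Subtype.val this
      calc z' * n = n * (n⁻¹ * z' * n) := by group
        _ = n * z' := by rw [← h3]
  rw [eq_top_iff, ← hfr, sup_comm]
  exact sup_le_sup_left hNT L

end Cfsg.Agent.S5433
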