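import Cfsg.Statements.S5427
import Cfsg.Agent.S5426
import Cfsg.Agent.S5421
import Cfsg.Agent.S5422
import Cfsg.Agent.S5433
import Cfsg.Agent.Lib.Helper69_LESBase
import Cfsg.Agent.Lib.Helper21_FStar
import Cfsg.Agent.Lib.Helper29_Local
import Cfsg.Agent.Lib.Helper1_Cores

set_option autoImplicit false
open Cfsg

namespace Cfsg.Agent.S5427

open Cfsg.Agent.Lib.Helper69_LESBase in
/-- the centralizer setting: `z` an involution with `F*(C_G(z)) = Q` extraspecial -/
theorem setting {G : Type*} [Group G] [Finite G] (z : G) (hz : orderOf z = 2) (Q : Subgroup G)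
    (hF : (Cfsg.generalizedFittingSubgroup ↥(Subgroup.centralizer ({z} : Set G))).map
      (Subgroup.centralizer ({z} : Set G)).subtype = Q)
    (hQ : Cfsg.IsExtraspecial 2 ↥Q) :
    z ∈ Q ∧ (Subgroup.center ↥Q).map Q.subtype = Subgroup.zpowers z ∧
      Subgroup.centralizer (Q : Set G) = (Subgroup.center ↥Q).map Q.subtype ∧
      Subgroup.centralizer (((Subgroup.center ↥Q).map Q.subtype : Subgroup G) : Set G) ≤
        Subgroup.normalizer (Q : Set G) ∧
      Q = (Cfsg.pCore 2 ↥(Subgroup.centralizer ({z} : Set G))).map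
        (Subgroup.centralizer ({z} : Set G)).subtype := by
  have : Fact (Nat.Prime 2) := ⟨Nat.prime_two⟩
  have hQ2 : IsPGroup 2 ↥Q := hQ.1.1
  have hmemQ : ∀ g : G, g ∈ Q ↔ ∃ hg : g ∈ Subgroup.centralizer ({z} : Set G),
      (⟨g, hg⟩ : ↥(Subgroup.centralizer ({z} : Set G))) ∈
        Cfsg.generalizedFittingSubgroup ↥(Subgroup.centralizer ({z} : Set G)) := by
    intro g
    rw [← hF]
    constructor
    · rintro ⟨y, hy, rfl⟩
      exact ⟨y.2, hy⟩
    · rintro ⟨hg, hy⟩
      exact ⟨⟨g, hg⟩, hy, rfl⟩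
  have hQC : Q ≤ Subgroup.centralizer ({z} : Set G) := by
    intro g hg
    exact ((hmemQ g).mp hg).1
  have hzC : z ∈ Subgroup.centralizer ({z} : Set G) := mem_centralizer_singleton.mpr rfl
  have hcle := Cfsg.Agent.Lib.Helper21_FStar.centralizer_generalizedFitting_le
    (G := ↥(Subgroup.centralizer ({z} : Set G)))
  -- (a)
  have hzQ : z ∈ Q := by
    rw [hmemQ]
    refine ⟨hzC, hcle ?_⟩
    rw [Subgroup.mem_centralizer_iff]
    intro y _
    apply Subtype.ext
    exact mem_centralizer_singleton.mp y.2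
  -- (b)
  have hzcen : (⟨z, hzQ⟩ : ↥Q) ∈ Subgroup.center ↥Q := by
    rw [Subgroup.mem_center_iff]
    intro q
    apply Subtype.ext
    exact mem_centralizer_singleton.mp (hQC q.2)
  have hcen : Subgroup.zpowers (⟨z, hzQ⟩ : ↥Q) = Subgroup.center ↥Q := by
    apply Subgroup.eq_of_le_of_card_ge
    · rw [Subgroup.zpowers_le]; exact hzcen
    · rw [hQ.2, Nat.card_zpowers, Subgroup.orderOf_mk, hz]
  have hZ : (Subgroup.center ↥Q).map Q.subtype = Subgroup.zpowers z := by
    rw [← hcen, MonoidHom.map_zpowers]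
    rfl
  have hzz : z * z = 1 := by
    have := pow_orderOf_eq_one z
    rwa [hz, pow_two] at this
  refine ⟨hzQ, hZ, ?_, ?_, ?_⟩
  · -- `C_G(Q) = Z(Q)`
    apply le_antisymm
    · intro g hg
      have hgc := Subgroup.mem_centralizer_iff.mp hg
      have hgC : g ∈ Subgroup.centralizer ({z} : Set G) :=
        mem_centralizer_singleton.mpr (hgc z hzQ).symm
      have hgQ : g ∈ Q := by
        rw [hmemQ]
        refine ⟨hgC, hcle ?_⟩
        rw [Subgroup.mem_centralizer_iff]
        intro y hy
        apply Subtype.ext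
        exact hgc (y : G) ((hmemQ _).mpr ⟨y.2, hy⟩)
      have hgcen : (⟨g, hgQ⟩ : ↥Q) ∈ Subgroup.center ↥Q := by
        rw [Subgroup.mem_center_iff]
        intro q
        apply Subtype.ext
        exact hgc q q.2
      exact ⟨⟨g, hgQ⟩, hgcen, rfl⟩
    · rintro _ ⟨x, hx, rfl⟩
      rw [Subgroup.mem_centralizer_iff]
      intro q hq
      have := Subgroup.mem_center_iff.mp hx ⟨q, hq⟩
      exact congrArg Subtype.val this
  · -- `C_G(Z(Q)) ≤ N_G(Q)`
    have hn : (Cfsg.generalizedFittingSubgroup ↥(Subgroup.centralizer ({z} : Set G))).Normal :=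
      Cfsg.Agent.Lib.Helper29_Local.generalizedFittingSubgroup_normal _
    have hconj : ∀ g : G, g ∈ Subgroup.centralizer ({z} : Set G) → ∀ q ∈ Q, g * q * g⁻¹ ∈ Q := by
      intro g hgC q hq
      obtain ⟨hqC, hqF⟩ := (hmemQ q).mp hq
      rw [hmemQ]
      have := hn.conj_mem _ hqF ⟨g, hgC⟩
      exact ⟨_, this⟩
    intro g hg
    have hgC : g ∈ Subgroup.centralizer ({z} : Set G) := by
      rw [mem_centralizer_singleton]
      have hzZ : z ∈ (((Subgroup.center ↥Q).map Q.subtype : Subgroup G) : Set G) := by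
        rw [hZ]; exact Subgroup.mem_zpowers z
      exact (Subgroup.mem_centralizer_iff.mp hg z hzZ).symm
    rw [Subgroup.mem_normalizer_iff]
    intro q
    constructor
    · exact hconj g hgC q
    · intro hq
      have := hconj g⁻¹ (Subgroup.inv_mem _ hgC) _ hq
      have e : g⁻¹ * (g * q * g⁻¹) * g⁻¹⁻¹ = q := by group
      rwa [e] at this
  · -- `Q = O_2(C)`
    rw [← hF]
    congr 1
    apply le_antisymm
    · have hn : (Cfsg.generalizedFittingSubgroup ↥(Subgroup.centralizer ({z} : Set G))).Normal :=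
        Cfsg.Agent.Lib.Helper29_Local.generalizedFittingSubgroup_normal _
      apply Cfsg.Agent.Lib.Helper1_Cores.le_pCore hn
      intro y
      have hyQ : ((y : ↥(Subgroup.centralizer ({z} : Set G))) : G) ∈ Q :=
        (hmemQ _).mpr ⟨(y : ↥(Subgroup.centralizer ({z} : Set G))).2, y.2⟩
      obtain ⟨k, hk⟩ := hQ2 ⟨_, hyQ⟩
      refine ⟨k, ?_⟩
      apply Subtype.ext
      apply Subtype.ext
      have := congrArg Subtype.val hk
      simpa using this
    · refine (Cfsg.Agent.Lib.Helper1_Cores.pCore_le_fittingSubgroup 2).trans ?_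
      unfold Cfsg.generalizedFittingSubgroup
      exact le_sup_right


/-- Let z be an involution of the finite group G whose centralizer C has generalized Fitting subgroup Q, an extraspecial 2-group of width at least 2 (order 2^(2w+1), w ≥ 2). Let K be a subgroup of G such that the subgroup U generated by the K-conjugates of z is abelian and C is generated by the C-conjugates of U. Suppose that either some K-conjugate of z other than z lies in Q, or some element u of U ∩ Q outside the subgroup generated by z has z in the largest normal 2-subgroup of its centralizer. Then G is simple and Q is a large extraspecial 2-subgroup of G. -/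
theorem result {G : Type*} [Group G] [Finite G] (z : G) (hz : orderOf z = 2) (Q : Subgroup G) (hQC : Q ≤ Subgroup.centralizer ({z} : Set G)) (hF : (Cfsg.generalizedFittingSubgroup ↥(Subgroup.centralizer ({z} : Set G))).map (Subgroup.centralizer ({z} : Set G)).subtype = Q) (hQ : Cfsg.IsExtraspecial 2 ↥Q) (w : ℕ) (hw : 2 ≤ w) (hcard : Nat.card ↥Q = 2 ^ (2 * w + 1)) (K U : Subgroup G) (hU : U = Subgroup.closure {x : G | ∃ k ∈ K, x = k * z * k⁻¹}) (hUab : IsMulCommutative ↥U) (hgen : Subgroup.closure {x : G | ∃ c ∈ Subgroup.centralizer ({z} : Set G), ∃ u ∈ U, x = c * u * c⁻¹} = Subgroup.centralizer ({z} : Set G)) (h3 : (∃ k ∈ K, k * z * k⁻¹ ∈ Q ∧ k * z * k⁻¹ ≠ z) ∨ ∃ u ∈ U ⊓ Q, u ∉ Subgroup.zpowers z ∧ (∃ hz' : z ∈ Subgroup.centralizer ({u} : Set G), (⟨z, hz'⟩ : ↥(Subgroup.centralizer ({u} : Set G))) ∈ Cfsg.pCore 2 ↥(Subgroup.centralizer ({u} : Set G)))) : IsSimpleGroup G ∧ Cfsg.IsLargeExtraspecial Q := by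
  obtain ⟨hzQ, hZ, hL2, hL3, hO2⟩ := setting z hz Q hF hQ
  have hzz : z * z = 1 := by
    have := pow_orderOf_eq_one z
    rwa [hz, pow_two] at this
  have hz1 : z ≠ 1 := by
    intro h
    rw [h, orderOf_one] at hz
    omega
  have hconj1 : ∀ g : G, g * z * g⁻¹ ≠ 1 := by
    intro g h
    apply hz1
    calc z = g⁻¹ * (g * z * g⁻¹) * g := by group
      _ = 1 := by rw [h]; group
  -- squares in `U`
  have hUsq : ∀ x ∈ U, x * x = 1 := by
    intro x hx
    rw [hU] at hx
    induction hx using Subgroup.closure_induction with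
    | mem y hy =>
      obtain ⟨k, _, rfl⟩ := hy
      calc k * z * k⁻¹ * (k * z * k⁻¹) = k * (z * z) * k⁻¹ := by group
        _ = 1 := by rw [hzz]; group
    | one => exact one_mul 1
    | mul x y hx hy hx2 hy2 =>
      have hc : x * y = y * x := by
        have := hUab.is_comm.comm ⟨x, hU ▸ hx⟩ ⟨y, hU ▸ hy⟩
        exact congrArg Subtype.val this
      calc x * y * (x * y) = x * (y * x) * y := by group
        _ = x * (x * y) * y := by rw [hc]
        _ = (x * x) * (y * y) := by group
        _ = 1 := by rw [hx2, hy2, one_mul]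
    | inv x hx hx2 =>
      calc x⁻¹ * x⁻¹ = (x * x)⁻¹ := by group
        _ = 1 := by rw [hx2, inv_one]
  -- `Q` is large
  have hlarge : Cfsg.IsLargeExtraspecial Q := by
    rcases h3 with ⟨k, _, hkQ, hkz⟩ | ⟨u, hu, huz, hz', hzO⟩
    · refine (Cfsg.Agent.S5422.result Q hQ hL2 hL3 w hw hcard k ?_ ?_).2.2
      · rw [hZ]
        intro hkN
        have := (Subgroup.mem_normalizer_iff.mp hkN z).mp (Subgroup.mem_zpowers z)
        rcases Cfsg.Agent.Lib.Helper69_LESBase.mem_zpowers_invol hzz this with h | h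
        · exact hconj1 k h
        · exact hkz h
      · rw [hZ, MonoidHom.map_zpowers, Subgroup.zpowers_le]
        exact hkQ
    · obtain ⟨huU, huQ⟩ := Subgroup.mem_inf.mp hu
      refine Cfsg.Agent.S5421.result Q hQ hL2 hL3 u huQ ?_ ?_ ?_
      · rw [hZ]; exact huz
      · apply orderOf_eq_prime
        · rw [pow_two]; exact hUsq u huU
        · intro h
          apply huz
          rw [h]; exact Subgroup.one_mem _
      · rw [hZ, Subgroup.zpowers_le]
        exact ⟨⟨z, hz'⟩, hzO, rfl⟩
  refine ⟨?_, hlarge⟩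
  have hles := Cfsg.Agent.Lib.Helper69_LESBase.les_of_large Q hlarge z hZ
  obtain ⟨M, hM⟩ : ∃ M : Subgroup G, M = Subgroup.normalClosure ({z} : Set G) := ⟨_, rfl⟩
  have hMn : M.Normal := by rw [hM]; exact Subgroup.normalClosure_normal
  have hzM : z ∈ M := by
    rw [hM]; exact Subgroup.subset_normalClosure (Set.mem_singleton z)
  -- `C ≤ M`
  have hCM : Subgroup.centralizer ({z} : Set G) ≤ M := by
    rw [← hgen, Subgroup.closure_le]
    rintro x ⟨c, _, u, hu, rfl⟩
    have huM : u ∈ M := by
      rw [hU] at hu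
      refine (Subgroup.closure_le M).mpr ?_ hu
      rintro y ⟨k, _, rfl⟩
      exact hMn.conj_mem _ hzM k
    exact hMn.conj_mem _ huM c
  -- the normalizer of `Q` centralizes `z`
  have hNC : ∀ g : G, (∀ q ∈ Q, g⁻¹ * q * g ∈ Q) → g * z * g⁻¹ = z := by
    intro g hg
    have hcomm : ∀ q ∈ Q, q * (g * z * g⁻¹) = (g * z * g⁻¹) * q := by
      intro q hq
      have := hles.zc _ (hg q hq)
      calc q * (g * z * g⁻¹) = g * ((g⁻¹ * q * g) * z) * g⁻¹ := by group
        _ = g * (z * (g⁻¹ * q * g)) * g⁻¹ := by rw [this]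
        _ = (g * z * g⁻¹) * q := by group
    rcases hles.cent _ hcomm with h | h
    · exact absurd h (hconj1 g)
    · exact h
  rcases Cfsg.Agent.S5426.result Q hlarge z hZ M hM with h1 | ⟨h1, _⟩ | ⟨_, h2, _⟩ | h4
  · -- `Q` normal: `z` is central
    exfalso
    have hzc : ∀ g : G, g * z * g⁻¹ = z := by
      intro g
      apply hNC
      intro q hq
      have := h1.conj_mem q hq g⁻¹
      rwa [inv_inv] at this
    rcases h3 with ⟨k, _, _, hkz⟩ | ⟨u, hu, huz, _⟩
    · exact hkz (hzc k)
    · apply huz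
      have hUle : U ≤ Subgroup.zpowers z := by
        rw [hU, Subgroup.closure_le]
        rintro y ⟨k, _, rfl⟩
        rw [hzc k]; exact Subgroup.mem_zpowers z
      exact hUle (Subgroup.mem_inf.mp hu).1
  · -- `M` abelian: then `Q` is abelian
    exfalso
    have hcen : Subgroup.center ↥Q = ⊤ := by
      rw [eq_top_iff]
      intro x _
      rw [Subgroup.mem_center_iff]
      intro y
      apply Subtype.ext
      have := h1.is_comm.comm ⟨(y : G), hCM (hQC y.2)⟩ ⟨(x : G), hCM (hQC x.2)⟩
      have h5 : (y : G) * (x : G) = (x : G) * (y : G) := congrArg Subtype.val this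
      exact h5
    have hc2 : Nat.card (Subgroup.center ↥Q) = 2 := hQ.2
    rw [hcen, Subgroup.card_top, hcard] at hc2
    have : 2 ^ 1 < 2 ^ (2 * w + 1) := Nat.pow_lt_pow_right (by norm_num) (by omega)
    omega
  · -- `M` simple and `G = M N_G(Q) = M`
    have htop := Cfsg.Agent.S5433.result Q hlarge M (hQC.trans hCM)
    have hNM : Subgroup.normalizer (Q : Set G) ≤ M := by
      intro g hg
      apply hCM
      rw [Cfsg.Agent.Lib.Helper69_LESBase.mem_centralizer_singleton]
      have h5 : g * z * g⁻¹ = z := by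
        apply hNC
        intro q hq
        have := (Subgroup.mem_normalizer_iff.mp (Subgroup.inv_mem _ hg) q).mp hq
        rwa [inv_inv] at this
      calc g * z = (g * z * g⁻¹) * g := by group
        _ = z * g := by rw [h5]
    have hMtop : M = ⊤ := by
      rw [← htop]
      exact (sup_eq_left.mpr hNM).symm
    rw [hMtop] at h2
    exact (Subgroup.topEquiv.isSimpleGroup_congr).mp h2
  · -- `Q = O_2(C_G(z))`
    exfalso
    obtain ⟨-, L, u, -, -, -, -, -, -, z₁, -, -, -, hne⟩ := h4
    exact hne hO2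

end Cfsg.Agent.S5427
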