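import Cfsg.Statements.S5428
import Cfsg.Agent.Lib.Helper63_LESOdd
import Cfsg.Agent.Lib.Helper63_MonsterKey
import Cfsg.Agent.Lib.Helper63_ESCount
import Cfsg.Agent.Lib.Helper29_Local

set_option autoImplicit false
open Cfsg

namespace Cfsg.Agent.S5428

open Cfsg.Agent.Lib.Helper93_LES Cfsg.Agent.Lib.Helper98_LESPair Cfsg.Agent.Lib.Helper63_QuotInv
open Cfsg.Agent.Lib.Helper63_LESQuot Cfsg.Agent.Lib.Helper63_MonsterKey
open Cfsg.Agent.Lib.Helper63_MonsterConj Cfsg.Agent.Lib.Helper89_ESClass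
open Cfsg.Agent.Lib.Helper63_LESOdd

/-- Let z be an involution of the finite group G whose centralizer C has generalized Fitting subgroup Q extraspecial (as a 2-group), let A be a subgroup of C of odd order, and let R be the centralizer of A in Q; suppose R has order at least 32, the largest normal subgroup of odd order of the centralizer of the subgroup generated by A and R lies in A, the order of that centralizer is not divisible by 4, and g is an element of G with g z g⁻¹ in R but outside the centre Z of Q. Let M be the subgroup generated by A and the centralizer of A (A is normal in it). Then: the centralizer in M of the subgroup generated by R and A, joined with A, equals the subgroup generated by A and Z; the image of R in M/A is a large extraspecial 2-subgroup of M/A; and g z g⁻¹ is conjugate to z inside the subgroup generated by R and the centralizer of A in g Q g⁻¹. -/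
theorem result {G : Type*} [Group G] [Finite G] (z : G) (hz : orderOf z = 2) (Q : Subgroup G) (hQC : Q ≤ Subgroup.centralizer ({z} : Set G)) (hF : (Cfsg.generalizedFittingSubgroup ↥(Subgroup.centralizer ({z} : Set G))).map (Subgroup.centralizer ({z} : Set G)).subtype = Q) (hQ : Cfsg.IsExtraspecial 2 ↥Q) (A : Subgroup G) (hA : A ≤ Subgroup.centralizer ({z} : Set G)) (hAodd : Odd (Nat.card ↥A)) (R : Subgroup G) (hR : R = Q ⊓ Subgroup.centralizer (A : Set G)) (hR32 : 32 ≤ Nat.card ↥R) (hO : (Cfsg.oddCore ↥(Subgroup.centralizer ((A ⊔ R : Subgroup G) : Set G))).map (Subgroup.centralizer ((A ⊔ R : Subgroup G) : Set G)).subtype ≤ A) (h4 : ¬ 4 ∣ Nat.card ↥(Subgroup.centralizer ((A ⊔ R : Subgroup G) : Set G))) (g : G) (hgR : g * z * g⁻¹ ∈ R) (hgZ : g * z * g⁻¹ ∉ ((Subgroup.center ↥Q).map Q.subtype)) (M : Subgroup G) (hM : M = Subgroup.centralizer (A : Set G) ⊔ A) [hn : (A.subgroupOf M).Normal] : (M ⊓ Subgroup.centralizer ((R ⊔ A : Subgroup G) : Set G)) ⊔ A = A ⊔ ((Subgroup.center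 ↥Q).map Q.subtype) ∧ Cfsg.IsLargeExtraspecial ((R.subgroupOf M).map (QuotientGroup.mk' (A.subgroupOf M))) ∧ ∃ x ∈ R ⊔ ((Q).map (MulAut.conj g).toMonoidHom ⊓ Subgroup.centralizer (A : Set G)), x * (g * z * g⁻¹) * x⁻¹ = z := by
  classical
  subst hR
  subst hM
  -- the generalized Fitting subgroup as a subgroup of `G`
  have hQ1 : Q1 (generalizedFittingSubgroup ↥(Subgroup.centralizer ({z} : Set G))) = Q := hF
  have hes' : IsExtraspecial 2 ↥(generalizedFittingSubgroup ↥(Subgroup.centralizer ({z} : Set G))) := by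
    have e1 : ↥(generalizedFittingSubgroup ↥(Subgroup.centralizer ({z} : Set G))) ≃*
        ↥((generalizedFittingSubgroup ↥(Subgroup.centralizer ({z} : Set G))).map
          (Subgroup.centralizer ({z} : Set G)).subtype) :=
      Subgroup.equivMapOfInjective _ _ (Subgroup.subtype_injective _)
    have e2 : ↥((generalizedFittingSubgroup ↥(Subgroup.centralizer ({z} : Set G))).map
        (Subgroup.centralizer ({z} : Set G)).subtype) ≃* ↥Q := MulEquiv.subgroupCongr hF
    exact Cfsg.Agent.Lib.Helper63_Heisenberg.isExtraspecial_of_mulEquiv (e1.trans e2).symm hQ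
  have hles : LES Q z := by
    have := les_Q1 hz rfl hes'
    rwa [hQ1] at this
  have hnorm : ∀ c : G, c * z = z * c → ∀ q ∈ Q, c * q * c⁻¹ ∈ Q := by
    have := norm_Q1 (Q := generalizedFittingSubgroup ↥(Subgroup.centralizer ({z} : Set G)))
    rwa [hQ1] at this
  have hE' := isES2_zQ hz rfl hes'
  have hsq : ∀ a ∈ Q, a * a = 1 ∨ a * a = z := by
    intro a ha
    rw [← hQ1] at ha
    obtain ⟨q, rfl⟩ := mem_Q1.1 ha
    rcases hE'.sqs q with h | h
    · left
      exact congrArg (fun r : ↥(generalizedFittingSubgroup ↥(Subgroup.centralizer ({z} : Set G))) =>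
        ((r : Subgroup.centralizer ({z} : Set G)) : G)) h
    · right
      exact congrArg (fun r : ↥(generalizedFittingSubgroup ↥(Subgroup.centralizer ({z} : Set G))) =>
        ((r : Subgroup.centralizer ({z} : Set G)) : G)) h
  have hp2 : IsPGroup 2 ↥Q := hQ.1.1
  -- the conjugate
  have hlesS : LES (Q.map (MulAut.conj g).toMonoidHom) (g * z * g⁻¹) :=
    les_map Q (MulAut.conj g) hles
  have hnormS : ∀ c : G, c * (g * z * g⁻¹) = (g * z * g⁻¹) * c →
      ∀ q ∈ Q.map (MulAut.conj g).toMonoidHom, c * q * c⁻¹ ∈ Q.map (MulAut.conj g).toMonoidHom :=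
    norm_map Q (MulAut.conj g) hnorm
  have hsqS : ∀ a ∈ Q.map (MulAut.conj g).toMonoidHom, a * a = 1 ∨ a * a = g * z * g⁻¹ :=
    sq_map Q (MulAut.conj g) hsq
  have hp2S : IsPGroup 2 ↥(Q.map (MulAut.conj g).toMonoidHom) := hp2.map _
  have hgQ : g * z * g⁻¹ ∈ Q := hgR.1
  have hzQs : z ∈ Q.map (MulAut.conj g).toMonoidHom :=
    (mem_map_conj_iff Q g z).2 (Cfsg.Agent.Lib.Helper98_LESGen.sym hles hnorm hp2 g hgQ)
  have hne : z ≠ g * z * g⁻¹ := by
    intro h
    apply hgZ
    rw [← h, mem_center_map]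
    exact ⟨hles.mem, fun r hr => hles.central r hr⟩
  have hpair : Pair Q (Q.map (MulAut.conj g).toMonoidHom) z (g * z * g⁻¹) :=
    ⟨hles, hlesS, hnorm, hnormS, hsq, hsqS, hzQs, hgQ, hne⟩
  -- `A`
  have hAz : ∀ a ∈ A, a * z = z * a := fun a ha => mem_cent_iff.1 (hA ha)
  have hAs : ∀ a ∈ A, a * (g * z * g⁻¹) = (g * z * g⁻¹) * a := mem_cA.1 hgR.2
  have hctx : CtxA Q (Q.map (MulAut.conj g).toMonoidHom) A z (g * z * g⁻¹) :=
    ⟨hpair, hp2, hp2S, hAodd, hAz, hAs⟩
  have hzz : z * z = 1 := hles.sq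
  have hz1 : z ≠ 1 := hles.ne_one
  have hzR : z ∈ Q ⊓ Subgroup.centralizer (A : Set G) :=
    Subgroup.mem_inf.2 ⟨hles.mem, mem_cA.2 hAz⟩
  -- `M = C_G(A) A`
  have hCM : Subgroup.centralizer (A : Set G) ≤ Subgroup.centralizer (A : Set G) ⊔ A := le_sup_left
  have hrep : ∀ m ∈ Subgroup.centralizer (A : Set G) ⊔ A,
      ∃ c ∈ Subgroup.centralizer (A : Set G), ∃ a ∈ A, m = c * a := by
    intro m hm
    have hset := Subgroup.coe_mul_of_left_le_normalizer_right (Subgroup.centralizer (A : Set G)) A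
      (Subgroup.centralizer_le_normalizer (A : Set G))
    have hm' : m ∈ ((Subgroup.centralizer (A : Set G) ⊔ A : Subgroup G) : Set G) := hm
    rw [hset] at hm'
    obtain ⟨c, hc, a, ha, hca⟩ := Set.mem_mul.1 hm'
    exact ⟨c, hc, a, ha, hca.symm⟩
  -- the structure of `C_G(A R)`
  have hDstruct := struct_two_odd
    (Subgroup.centralizer ((A ⊔ (Q ⊓ Subgroup.centralizer (A : Set G)) : Subgroup G) : Set G)) A
    (z := z)
    (mem_centralizer_sup.2 ⟨hAz, fun r hr => hles.central r hr.1⟩)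
    (fun d hd => ((mem_centralizer_sup.1 hd).2 z hzR).symm) hzz hz1 h4 hO
  have hD : ∀ d : G, (∀ a ∈ A, a * d = d * a) →
      (∀ r ∈ Q, (∀ a ∈ A, a * r = r * a) → r * d = d * r) → d ∈ A ∨ ∃ a ∈ A, d = z * a := by
    intro d hdA hdR
    apply hDstruct d
    exact mem_centralizer_sup.2 ⟨hdA, fun r hr => hdR r hr.1 (mem_cA.1 hr.2)⟩
  -- a noncommuting pair in `R`
  have hna : ∃ x ∈ Q, ∃ y ∈ Q, (∀ a ∈ A, a * x = x * a) ∧ (∀ a ∈ A, a * y = y * a) ∧
      x * y ≠ y * x := by
    by_contra hcon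
    push Not at hcon
    have hall : ∀ x : ↥(Q ⊓ Subgroup.centralizer (A : Set G)), x = 1 ∨ x = ⟨z, hzR⟩ := by
      intro x
      by_contra hx
      push Not at hx
      have hx1 : (x : G) ≠ 1 := fun h => hx.1 (Subtype.ext h)
      have hxz : (x : G) ≠ z := fun h => hx.2 (Subtype.ext h)
      obtain ⟨r, hrQ, hrA, hrx⟩ := exists_fixed_not_comm hles hp2 hAodd
        (fun a ha => hnorm a (hAz a ha)) hAz x.2.1 (mem_cA.1 x.2.2) hx1 hxz
      have hcomm := hcon r hrQ (x : G) x.2.1 hrA (mem_cA.1 x.2.2)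
      rw [hcomm, mul_assoc, mul_inv_cancel, mul_one] at hrx
      apply hz1
      calc z = z * (x : G) * (x : G)⁻¹ := by group
        _ = (x : G) * (x : G)⁻¹ := by rw [← hrx]
        _ = 1 := mul_inv_cancel _
    have := Cfsg.Agent.Lib.Helper63_ESCount.card_le_two_of _ _ hall
    omega
  refine ⟨?_, hctx.isLargeExtraspecial hCM hrep hD hna, hctx.conj_to_z⟩
  -- the centralizer of `R A` in `M`
  apply le_antisymm
  · apply sup_le _ le_sup_left
    intro x hx
    have hx2 : x ∈ Subgroup.centralizer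
        ((A ⊔ (Q ⊓ Subgroup.centralizer (A : Set G)) : Subgroup G) : Set G) := by
      have := hx.2
      rwa [sup_comm] at this
    have hzZ : z ∈ (Subgroup.center ↥Q).map Q.subtype :=
      mem_center_map.2 ⟨hles.mem, fun r hr => hles.central r hr⟩
    rcases hDstruct x hx2 with h | ⟨a, ha, rfl⟩
    · exact Subgroup.mem_sup_left h
    · rw [sup_comm]
      exact Subgroup.mul_mem_sup hzZ ha
  · apply sup_le le_sup_right
    intro x hx
    apply Subgroup.mem_sup_left
    obtain ⟨hxQ, hxc⟩ := mem_center_map.1 hx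
    have hx01 : x = 1 ∨ x = z := hles.selfcent x (fun b hb => (hxc b hb).symm)
    have hzin : z ∈ (Subgroup.centralizer (A : Set G) ⊔ A) ⊓ Subgroup.centralizer
        (((Q ⊓ Subgroup.centralizer (A : Set G)) ⊔ A : Subgroup G) : Set G) := by
      refine Subgroup.mem_inf.2 ⟨Subgroup.mem_sup_left (mem_cA.2 hAz), ?_⟩
      exact mem_centralizer_sup.2 ⟨fun r hr => hles.central r hr.1, hAz⟩
    rcases hx01 with rfl | rfl
    · exact Subgroup.one_mem _
    · exact hzin

end Cfsg.Agent.S5428
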