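import Cfsg.Statements.S5429
import Cfsg.Agent.Lib.Helper63_LESQuot
import Cfsg.Agent.Lib.Helper63_MonsterKey
import Cfsg.Agent.Lib.Helper63_BabyData
import Cfsg.Agent.Lib.Helper29_Local

set_option autoImplicit false
open Cfsg

namespace Cfsg.Agent.S5429

open Cfsg.Agent.Lib.Helper93_LES Cfsg.Agent.Lib.Helper98_LESPair Cfsg.Agent.Lib.Helper63_QuotInv
open Cfsg.Agent.Lib.Helper63_LESQuot Cfsg.Agent.Lib.Helper63_MonsterKey
open Cfsg.Agent.Lib.Helper63_MonsterConj Cfsg.Agent.Lib.Helper89_ESClass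

/-- Let z be an involution of the finite group G with centralizer C whose generalized Fitting subgroup Q is extraspecial of width at least 3 (order 2^(2w+1), w ≥ 3); let g be an element of G with g z g⁻¹ in Q but outside the centre Z of Q, and t an involution lying in both Q and g Q g⁻¹ that is not conjugate to z; write P for the centralizer of t in Q and suppose that the elements of C acting trivially by conjugation on P modulo the subgroup generated by t and z are exactly the elements of Q. Then the image of P in the centralizer of t modulo the subgroup generated by t is a large extraspecial 2-subgroup there, and g z g⁻¹ is conjugate to z inside the subgroup generated by P and the centralizer of t in g Q g⁻¹. -/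
theorem result {G : Type*} [Group G] [Finite G] (z : G) (hz : orderOf z = 2) (Q : Subgroup G) (hQC : Q ≤ Subgroup.centralizer ({z} : Set G)) (hF : (Cfsg.generalizedFittingSubgroup ↥(Subgroup.centralizer ({z} : Set G))).map (Subgroup.centralizer ({z} : Set G)).subtype = Q) (hQ : Cfsg.IsExtraspecial 2 ↥Q) (w : ℕ) (hw : 3 ≤ w) (hcard : Nat.card ↥Q = 2 ^ (2 * w + 1)) (g : G) (hgQ : g * z * g⁻¹ ∈ Q) (hgZ : g * z * g⁻¹ ∉ ((Subgroup.center ↥Q).map Q.subtype)) (t : G) (ht : orderOf t = 2) (htQ : t ∈ Q ⊓ (Q).map (MulAut.conj g).toMonoidHom) (htz : ¬ IsConj z t) (P : Subgroup G) (hP : P = Q ⊓ Subgroup.centralizer ({t} : Set G)) (hCP : ∀ c ∈ Subgroup.centralizer ({z} : Set G), (∀ x ∈ P, ∃ y ∈ Subgroup.closure ({t, z} : Set G), c * x * c⁻¹ = x * y) ↔ c ∈ Q) [hn : ((Subgroup.zpowers t).subgroupOf (Subgroup.centralizer ({t} : Set G))).Normal] : Cfsg.IsLargeExtraspecial ((P.subgroupOf (Subgroup.centralizer ({t} : Set G))).map (QuotientGroup.mk' ((Subgroup.zpowers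 t).subgroupOf (Subgroup.centralizer ({t} : Set G))))) ∧ ∃ x ∈ P ⊔ ((Q).map (MulAut.conj g).toMonoidHom ⊓ Subgroup.centralizer ({t} : Set G)), x * (g * z * g⁻¹) * x⁻¹ = z := by
  classical
  subst hP
  -- the generalized Fitting subgroup as a subgroup of `G`
  have hQ1 : Q1 (generalizedFittingSubgroup ↥(Subgroup.centralizer ({z} : Set G))) = Q := hF
  have hes' : IsExtraspecial 2 ↥(generalizedFittingSubgroup ↥(Subgroup.centralizer ({z} : Set G))) := by
    have e1 : ↥(generalizedFittingSubgroup ↥(Subgroup.centralizer ({z} : Set G))) ≃*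
        ↥((generalizedFittingSubgroup ↥(Subgroup.centralizer ({z} : Set G))).map
          (Subgroup.centralizer ({z} : Set G)).subtype) :=
      Subgroup.equivMapOfInjective _ _ (Subgroup.subtype_injective _)
    have e2 : ↥((generalizedFittingSubgroup ↥(Subgroup.centralizer ({z} : Set G))).map
        (Subgroup.centralizer ({z} : Set G)).subtype) ≃* ↥Q := MulEquiv.subgroupCongr hF
    exact Cfsg.Agent.Lib.Helper63_Heisenberg.isExtraspecial_of_mulEquiv (e1.trans e2).symm hQ
  have hles : LES Q z := by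
    have := les_Q1 hz rfl hes'
    rwa [hQ1] at this
  have hnorm : ∀ c : G, c * z = z * c → ∀ q ∈ Q, c * q * c⁻¹ ∈ Q := by
    have := norm_Q1 (Q := generalizedFittingSubgroup ↥(Subgroup.centralizer ({z} : Set G)))
    rwa [hQ1] at this
  have hE' := isES2_zQ hz rfl hes'
  have hsq : ∀ a ∈ Q, a * a = 1 ∨ a * a = z := by
    intro a ha
    rw [← hQ1] at ha
    obtain ⟨q, rfl⟩ := mem_Q1.1 ha
    rcases hE'.sqs q with h | h
    · left
      exact congrArg (fun r : ↥(generalizedFittingSubgroup ↥(Subgroup.centralizer ({z} : Set G))) =>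
        ((r : Subgroup.centralizer ({z} : Set G)) : G)) h
    · right
      exact congrArg (fun r : ↥(generalizedFittingSubgroup ↥(Subgroup.centralizer ({z} : Set G))) =>
        ((r : Subgroup.centralizer ({z} : Set G)) : G)) h
  have hp2 : IsPGroup 2 ↥Q := hQ.1.1
  -- the conjugate
  have hlesS : LES (Q.map (MulAut.conj g).toMonoidHom) (g * z * g⁻¹) :=
    les_map Q (MulAut.conj g) hles
  have hnormS : ∀ c : G, c * (g * z * g⁻¹) = (g * z * g⁻¹) * c →
      ∀ q ∈ Q.map (MulAut.conj g).toMonoidHom, c * q * c⁻¹ ∈ Q.map (MulAut.conj g).toMonoidHom :=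
    norm_map Q (MulAut.conj g) hnorm
  have hsqS : ∀ a ∈ Q.map (MulAut.conj g).toMonoidHom, a * a = 1 ∨ a * a = g * z * g⁻¹ :=
    sq_map Q (MulAut.conj g) hsq
  have hp2S : IsPGroup 2 ↥(Q.map (MulAut.conj g).toMonoidHom) := hp2.map _
  have hzQs : z ∈ Q.map (MulAut.conj g).toMonoidHom :=
    (mem_map_conj_iff Q g z).2 (Cfsg.Agent.Lib.Helper98_LESGen.sym hles hnorm hp2 g hgQ)
  have hne : z ≠ g * z * g⁻¹ := by
    intro h
    apply hgZ
    rw [← h, mem_center_map]
    exact ⟨hles.mem, fun r hr => hles.central r hr⟩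
  have hpair : Pair Q (Q.map (MulAut.conj g).toMonoidHom) z (g * z * g⁻¹) :=
    ⟨hles, hlesS, hnorm, hnormS, hsq, hsqS, hzQs, hgQ, hne⟩
  -- `t`
  have htt : t * t = 1 := by
    rw [← pow_two, ← ht]; exact pow_orderOf_eq_one t
  have ht1 : t ≠ 1 := by
    intro h
    rw [h, orderOf_one] at ht
    omega
  have htz' : t ≠ z := by
    intro h
    apply htz
    rw [h]
  have hts : t ≠ g * z * g⁻¹ := by
    intro h
    apply htz
    rw [h, isConj_iff]
    exact ⟨g, rfl⟩
  have nz : ∀ d : G, d * z * d⁻¹ ≠ t * z := by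
    intro d hd
    obtain ⟨q0, -, hq0⟩ := Cfsg.Agent.Lib.Helper98_LESGen.exists_q0 Q hles htQ.1 ht1 htz'
    apply htz
    rw [isConj_iff]
    refine ⟨q0⁻¹ * d, ?_⟩
    calc q0⁻¹ * d * z * (q0⁻¹ * d)⁻¹ = q0⁻¹ * (d * z * d⁻¹) * q0 := by group
      _ = q0⁻¹ * (q0 * t * q0⁻¹) * q0 := by rw [hd, hq0]
      _ = t := by group
  have ns : ∀ d : G, d * (g * z * g⁻¹) * d⁻¹ ≠ t * (g * z * g⁻¹) := by
    intro d hd
    obtain ⟨q1, -, hq1⟩ := Cfsg.Agent.Lib.Helper98_LESGen.exists_q0 _ hlesS htQ.2 ht1 hts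
    apply htz
    rw [isConj_iff]
    refine ⟨q1⁻¹ * d * g, ?_⟩
    calc q1⁻¹ * d * g * z * (q1⁻¹ * d * g)⁻¹ = q1⁻¹ * (d * (g * z * g⁻¹) * d⁻¹) * q1 := by group
      _ = q1⁻¹ * (q1 * t * q1⁻¹) * q1 := by rw [hd, hq1]
      _ = t := by group
  have stz : g * z * g⁻¹ ≠ t * z := nz g
  have zts : z ≠ t * (g * z * g⁻¹) := by
    intro h
    apply ns g⁻¹
    rw [← h]
    group
  have hctx : Ctx Q (Q.map (MulAut.conj g).toMonoidHom) z (g * z * g⁻¹) t :=
    ⟨hpair, hp2, hp2S, htQ.1, htQ.2, htt, ht1, nz, ns, htz', hts, stz, zts⟩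
  -- the hypothesis on the action
  have hCP' : ∀ c : G, c * z = z * c →
      (∀ x ∈ Q, x * t = t * x → c * x * c⁻¹ = x ∨ c * x * c⁻¹ = x * t) → c ∈ Q := by
    intro c hcz hact
    apply (hCP c (mem_cent_iff.2 hcz)).1
    intro x hx
    rcases hact x hx.1 (mem_ct.1 hx.2) with h | h
    · exact ⟨1, Subgroup.one_mem _, by rw [mul_one]; exact h⟩
    · exact ⟨t, Subgroup.subset_closure (Or.inl rfl), h⟩
  -- a noncommuting pair in the centralizer of `t`
  have hna : ∃ x ∈ Q, ∃ y ∈ Q, x * t = t * x ∧ y * t = t * y ∧ x * y ≠ y * x := by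
    obtain ⟨t₀, hE₀⟩ := isES2_of_isExtraspecial hQ
    have h8 : 8 < Nat.card ↥Q := by
      rw [hcard]
      calc 8 < 2 ^ 7 := by norm_num
        _ ≤ 2 ^ (2 * w + 1) := Nat.pow_le_pow_right (by norm_num) (by omega)
    obtain ⟨a, b, ha, hb, hab⟩ :=
      Cfsg.Agent.Lib.Helper63_BabyData.exists_noncomm hE₀ h8 (⟨t, htQ.1⟩ : ↥Q)
    refine ⟨a, a.2, b, b.2, congrArg Subtype.val ha, congrArg Subtype.val hb, fun h => hab ?_⟩
    exact Subtype.ext h
  exact ⟨hctx.isLargeExtraspecial_Pbar hCP' hna, hctx.conj_to_z⟩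

end Cfsg.Agent.S5429
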