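import Cfsg.Statements.S5430
import Cfsg.Agent.Lib.Helper98_LESPair2

set_option autoImplicit false
open Cfsg

namespace Cfsg.Agent.S5430

/-- Let Q be a large extraspecial 2-subgroup of the finite group G (extraspecial; centralizer equal to its centre; normal in the centralizer of its centre; normalizing no non-trivial subgroup of odd order) with centre generated by z, an involution, of width w ≥ 2 (order 2^(2w+1)); let g be an element outside the centralizer H of z with g z g⁻¹ in Q; write V for the subgroup generated by z and g z g⁻¹, X for the subgroup generated by Q and g Q g⁻¹, R for the subgroup generated by the centralizer of z in g Q g⁻¹ and the centralizer of g z g⁻¹ in Q, and E for the intersection of Q and g Q g⁻¹. Then R is the centralizer of V in X and is the largest normal 2-subgroup of X, and X/R is isomorphic to the symmetric group of degree 3; moreover the normalizer of V is the product of X and the centralizer of V in H, X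 is normal in it, and modulo R it is the direct product of X/R and of the centralizer of V in H modulo R. -/
theorem result {G : Type*} [Group G] [Finite G] (Q : Subgroup G) (hQ : Cfsg.IsLargeExtraspecial Q) (z : G) (hz : ((Subgroup.center ↥Q).map Q.subtype) = Subgroup.zpowers z) (hz2 : orderOf z = 2) (w : ℕ) (hw : 2 ≤ w) (hcard : Nat.card ↥Q = 2 ^ (2 * w + 1)) (g : G) (hgH : g ∉ Subgroup.centralizer ({z} : Set G)) (hgQ : g * z * g⁻¹ ∈ Q) (V X R E : Subgroup G) (hV : V = Subgroup.closure ({z, g * z * g⁻¹} : Set G)) (hX : X = Q ⊔ (Q).map (MulAut.conj g).toMonoidHom) (hR : R = ((Q).map (MulAut.conj g).toMonoidHom ⊓ Subgroup.centralizer ({z} : Set G)) ⊔ (Q ⊓ Subgroup.centralizer ({g * z * g⁻¹} : Set G))) (hE : E = Q ⊓ (Q).map (MulAut.conj g).toMonoidHom) : R = X ⊓ Subgroup.centralizer (V : Set G) ∧ R = (Cfsg.pCore 2 ↥X).map X.subtype ∧ (∃ h : (R.subgroupOf X).Normal, Nonempty (↥X ⧸ R.subgroupOf X ≃* Equiv.Perm (Fin 3))) ∧ Subgroup.normalizer (V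 : Set G) = X ⊔ (Subgroup.centralizer ({z} : Set G) ⊓ Subgroup.centralizer (V : Set G)) ∧ (∀ y ∈ Subgroup.normalizer (V : Set G), ∀ x ∈ X, y * x * y⁻¹ ∈ X) ∧ R ≤ Subgroup.centralizer ({z} : Set G) ⊓ Subgroup.centralizer (V : Set G) ∧ (∀ x ∈ X, ∀ c ∈ Subgroup.centralizer ({z} : Set G) ⊓ Subgroup.centralizer (V : Set G), x * c * x⁻¹ * c⁻¹ ∈ R) ∧ X ⊓ (Subgroup.centralizer ({z} : Set G) ⊓ Subgroup.centralizer (V : Set G)) = R := by
  open Cfsg.Agent.Lib.Helper93_LES Cfsg.Agent.Lib.Helper98_LESGen Cfsg.Agent.Lib.Helper98_LESPair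
    Cfsg.Agent.Lib.Helper98_LESPair2 in
  obtain ⟨hL1, hL2, hL3, _⟩ := hQ
  have hles : LES Q z := les_of Q hL1 hL2 hz hz2
  have hnorm : ∀ c : G, c * z = z * c → ∀ q ∈ Q, c * q * c⁻¹ ∈ Q := norm_of Q hz hL3
  have hQ2 : IsPGroup 2 ↥Q := hL1.1.1
  have hsym : g⁻¹ * z * g ∈ Q := sym hles hnorm hQ2 g hgQ
  have hsq : ∀ a ∈ Q, a * a = 1 ∨ a * a = z := fun a ha => sq_cases Q hL1 hles hz ha
  have hne : z ≠ g * z * g⁻¹ := by
    intro h
    apply hgH
    rw [mem_cs]
    calc z * g = (g * z * g⁻¹) * g := by rw [← h]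
      _ = g * z := by group
  have hP : Pair Q (Q.map (MulAut.conj g).toMonoidHom) z (g * z * g⁻¹) :=
    { l1 := hles
      l2 := les_map Q (MulAut.conj g) hles
      n1 := hnorm
      n2 := norm_map Q (MulAut.conj g) hnorm
      s1 := hsq
      s2 := sq_map Q (MulAut.conj g) hsq
      m12 := (mem_map_conj_iff Q g z).mpr hsym
      m21 := hgQ
      ne := hne }
  have hU : UPair Q (Q.map (MulAut.conj g).toMonoidHom) z (g * z * g⁻¹) := by
    refine ⟨hP, ?_⟩
    intro k hk a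
    rw [mem_map_conj_iff]
    have hc : (g⁻¹ * k) * z = z * (g⁻¹ * k) := by
      calc (g⁻¹ * k) * z = g⁻¹ * (k * z * k⁻¹) * k := by group
        _ = g⁻¹ * (g * z * g⁻¹) * k := by rw [hk]
        _ = z * (g⁻¹ * k) := by group
    have hc' : (g⁻¹ * k)⁻¹ * z = z * (g⁻¹ * k)⁻¹ := by
      calc (g⁻¹ * k)⁻¹ * z = (g⁻¹ * k)⁻¹ * (z * (g⁻¹ * k)) * (g⁻¹ * k)⁻¹ := by group
        _ = (g⁻¹ * k)⁻¹ * ((g⁻¹ * k) * z) * (g⁻¹ * k)⁻¹ := by rw [hc]
        _ = z * (g⁻¹ * k)⁻¹ := by group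
    constructor
    · intro h
      have := hnorm _ hc' _ h
      have e : (g⁻¹ * k)⁻¹ * (g⁻¹ * a * g) * (g⁻¹ * k)⁻¹⁻¹ = k⁻¹ * a * k := by group
      rwa [e] at this
    · intro h
      have := hnorm _ hc _ h
      have e : (g⁻¹ * k) * (k⁻¹ * a * k) * (g⁻¹ * k)⁻¹ = g⁻¹ * a * g := by group
      rwa [e] at this
  obtain ⟨q, t, F⟩ := hU.exists_flips
  have hR' : R = RR Q (Q.map (MulAut.conj g).toMonoidHom) z (g * z * g⁻¹) := hR
  subst hV hX hR'
  have h6 : RR Q (Q.map (MulAut.conj g).toMonoidHom) z (g * z * g⁻¹) ≤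
      Subgroup.centralizer ({z} : Set G) ⊓ Subgroup.centralizer
        ((Subgroup.closure ({z, g * z * g⁻¹} : Set G) : Subgroup G) : Set G) := by
    apply le_inf hU.RR_le_cent1
    rw [F.RR_eq]
    exact inf_le_right
  refine ⟨F.RR_eq, F.pCore_eq, ⟨hU.RR_normal, ?_⟩, F.normalizer_eq, F.X_normal, h6, F.comm_mem, ?_⟩
  · haveI := hU.RR_normal
    obtain ⟨Φ, _⟩ := F.exists_iso
    exact ⟨Φ.symm⟩
  · apply le_antisymm
    · intro x hx
      rw [F.RR_eq]
      exact Subgroup.mem_inf.mpr ⟨(Subgroup.mem_inf.mp hx).1,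
        (Subgroup.mem_inf.mp (Subgroup.mem_inf.mp hx).2).2⟩
    · exact le_inf hU.RR_le_X h6

end Cfsg.Agent.S5430
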