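import Cfsg.Statements.S5431
import Cfsg.Agent.Lib.Helper98_LESPair

set_option autoImplicit false
open Cfsg

namespace Cfsg.Agent.S5431

/-- Let Q be a large extraspecial 2-subgroup of the finite group G (extraspecial; centralizer equal to its centre; normal in the centralizer of its centre; normalizing no non-trivial subgroup of odd order) with centre generated by z, an involution, of width w ≥ 2 (order 2^(2w+1)); let g be an element outside the centralizer H of z with g z g⁻¹ in Q; write V for the subgroup generated by z and g z g⁻¹, X for the subgroup generated by Q and g Q g⁻¹, R for the subgroup generated by the centralizer of z in g Q g⁻¹ and the centralizer of g z g⁻¹ in Q, and E for the intersection of Q and g Q g⁻¹. Then V is the centre of R, E lies in the second centre of R, R is nilpotent of class at most 3, E and R/E are elementary abelian, R/E is the direct product of the images of the centralizer of g z g⁻¹ in Q and of the centralizer of z in g Q g⁻¹ (R is their product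 and they meet in E), and the commutator subgroup of X and E lies in V. -/
theorem result {G : Type*} [Group G] [Finite G] (Q : Subgroup G) (hQ : Cfsg.IsLargeExtraspecial Q) (z : G) (hz : ((Subgroup.center ↥Q).map Q.subtype) = Subgroup.zpowers z) (hz2 : orderOf z = 2) (w : ℕ) (hw : 2 ≤ w) (hcard : Nat.card ↥Q = 2 ^ (2 * w + 1)) (g : G) (hgH : g ∉ Subgroup.centralizer ({z} : Set G)) (hgQ : g * z * g⁻¹ ∈ Q) (V X R E : Subgroup G) (hV : V = Subgroup.closure ({z, g * z * g⁻¹} : Set G)) (hX : X = Q ⊔ (Q).map (MulAut.conj g).toMonoidHom) (hR : R = ((Q).map (MulAut.conj g).toMonoidHom ⊓ Subgroup.centralizer ({z} : Set G)) ⊔ (Q ⊓ Subgroup.centralizer ({g * z * g⁻¹} : Set G))) (hE : E = Q ⊓ (Q).map (MulAut.conj g).toMonoidHom) : (Subgroup.center ↥R).map R.subtype = V ∧ E ≤ (Subgroup.upperCentralSeries ↥R 2).map R.subtype ∧ Subgroup.upperCentralSeries ↥R 3 = ⊤ ∧ Cfsg.IsElementaryAbelian 2 E ∧ (∀ x ∈ R, ∀ y ∈ R, x * y * x⁻¹ * y⁻¹ ∈ E ∧ x ^ 2 ∈ E) ∧ ((Q).map (MulAut.conj g).toMonoidHom ⊓ Subgroup.centralizer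 ({z} : Set G)) ⊓ (Q ⊓ Subgroup.centralizer ({g * z * g⁻¹} : Set G)) = E ∧ ⁅X, E⁆ ≤ V := by
  open Cfsg.Agent.Lib.Helper93_LES Cfsg.Agent.Lib.Helper98_LESGen Cfsg.Agent.Lib.Helper98_LESPair in
  obtain ⟨hL1, hL2, hL3, _⟩ := hQ
  have hles : LES Q z := les_of Q hL1 hL2 hz hz2
  have hnorm : ∀ c : G, c * z = z * c → ∀ q ∈ Q, c * q * c⁻¹ ∈ Q := norm_of Q hz hL3
  have hQ2 : IsPGroup 2 ↥Q := hL1.1.1
  have hsym : g⁻¹ * z * g ∈ Q := sym hles hnorm hQ2 g hgQ
  have hsq : ∀ a ∈ Q, a * a = 1 ∨ a * a = z := fun a ha => sq_cases Q hL1 hles hz ha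
  have hne : z ≠ g * z * g⁻¹ := by
    intro h
    apply hgH
    rw [mem_cs]
    calc z * g = (g * z * g⁻¹) * g := by rw [← h]
      _ = g * z := by group
  have hP : Pair Q (Q.map (MulAut.conj g).toMonoidHom) z (g * z * g⁻¹) :=
    { l1 := hles
      l2 := les_map Q (MulAut.conj g) hles
      n1 := hnorm
      n2 := norm_map Q (MulAut.conj g) hnorm
      s1 := hsq
      s2 := sq_map Q (MulAut.conj g) hsq
      m12 := (mem_map_conj_iff Q g z).mpr hsym
      m21 := hgQ
      ne := hne }
  subst hV hX hE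
  refine ⟨hP.center_eq R hR, hP.E_le_Z2 R hR, hP.Z3_top R hR, hP.elem_abelian, ?_, hP.inf_eq,
    hP.commutator_le⟩
  intro x hx y hy
  rw [hR] at hx hy
  have := hP.comm_sq x hx y hy
  rw [pow_two]
  exact this

end Cfsg.Agent.S5431
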