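import Cfsg.Statements.S5432
import Cfsg.Agent.Lib.Helper63_QG
import Cfsg.Agent.Lib.Helper63_QGStd
import Cfsg.Agent.Lib.Helper89_ESClass
import Cfsg.Agent.Lib.Helper89_ESRank

set_option autoImplicit false
open Cfsg

namespace Cfsg.Agent.S5432

open Cfsg.Agent.Lib.Helper63_QG Cfsg.Agent.Lib.Helper63_QGStd Cfsg.Agent.Lib.Helper89_ESClass
  Cfsg.Agent.Lib.Helper89_ESRank Cfsg.Agent.S5396

theorem congr_conj' {G H : Type*} [Group G] [Group H] (e : G ≃* H) (g : G) :
    MulAut.congr e (MulAut.conj g) = MulAut.conj (e g) := by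
  refine MulEquiv.ext fun y => ?_
  simp [MulAut.congr, MulAut.conj_apply, map_mul, map_inv]

/-- isomorphic groups have isomorphic outer automorphism groups -/
theorem out_congr {G H : Type*} [Group G] [Group H] (e : G ≃* H) :
    Nonempty (Cfsg.Out G ≃* Cfsg.Out H) := by
  refine ⟨QuotientGroup.congr (Cfsg.Inn G) (Cfsg.Inn H) (MulAut.congr e) ?_⟩
  ext α
  constructor
  · rintro ⟨_, ⟨g, rfl⟩, rfl⟩
    exact ⟨e g, (congr_conj' e g).symm⟩
  · rintro ⟨h, rfl⟩
    refine ⟨MulAut.conj (e.symm h), ⟨e.symm h, rfl⟩, ?_⟩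
    show MulAut.congr e (MulAut.conj (e.symm h)) = _
    rw [congr_conj', MulEquiv.apply_symm_apply]

theorem out_plus (n : ℕ) :
    Nonempty (Cfsg.Out (ES n 0) ≃* Cfsg.isometryGroup (ZMod 2) (Cfsg.quadFormPlus n (ZMod 2))) := by
  obtain ⟨e1⟩ := out_congr (isoPlus n)
  obtain ⟨e2⟩ := QG.out_iso (nondeg_betaPlus n)
  rw [q_betaPlus] at e2
  exact ⟨e1.trans e2⟩

theorem out_minus (m : ℕ) (h : 1 ≤ m + 1) :
    Nonempty (Cfsg.Out (ES (m + 1) (Pi.single (⟨0, h⟩ : Fin (m + 1)) (1 : ZMod 2))) ≃*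
      Cfsg.isometryGroup (ZMod 2) (Cfsg.quadFormMinus m (ZMod 2) 1 1)) := by
  obtain ⟨e1⟩ := out_congr (isoMinus m h)
  obtain ⟨e2⟩ := QG.out_iso (nondeg_betaMinus m)
  rw [q_betaMinus] at e2
  exact ⟨e1.trans e2⟩

/-- Let E be an extraspecial 2-group of order 2^(2n+1), n ≥ 1. If E contains an elementary abelian subgroup of order 2^(n+1) (plus type), then its outer automorphism group is isomorphic to the full isometry group of the hyperbolic quadratic form in dimension 2n over the field with two elements; otherwise (minus type) it is isomorphic to the full isometry group of the elliptic quadratic form in dimension 2n over that field. -/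
theorem result {E : Type*} [Group E] [Finite E] (hE : Cfsg.IsExtraspecial 2 E) (n : ℕ) (hn : 1 ≤ n) (hcard : Nat.card E = 2 ^ (2 * n + 1)) : ((∃ A : Subgroup E, Cfsg.IsElementaryAbelian 2 A ∧ Nat.card ↥A = 2 ^ (n + 1)) → Nonempty (Cfsg.Out E ≃* Cfsg.isometryGroup (ZMod 2) (Cfsg.quadFormPlus n (ZMod 2)))) ∧ ((¬ ∃ A : Subgroup E, Cfsg.IsElementaryAbelian 2 A ∧ Nat.card ↥A = 2 ^ (n + 1)) → Nonempty (Cfsg.Out E ≃* Cfsg.isometryGroup (ZMod 2) (Cfsg.quadFormMinus (n - 1) (ZMod 2) 1 1))) := by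
  obtain ⟨m, b, ⟨Φ⟩⟩ := exists_iso_std hE
  have hc := card_eq_of_iso Φ
  rw [hcard] at hc
  have hm : n = m := eq_of_card_eq hc
  subst hm
  constructor
  · rintro ⟨A, hA, hAc⟩
    cases b with
    | true =>
      exfalso
      rw [eStd_true n hn] at Φ
      have h1 := prankLE_congr Φ (prankLE_minus n hn) A hA.1 hA.2
      rw [hAc] at h1
      have h2 : n + 1 ≤ n := (Nat.pow_le_pow_iff_right (by norm_num)).mp h1
      omega
    | false =>
      rw [eStd_false] at Φ
      obtain ⟨e1⟩ := out_congr Φ.symm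
      obtain ⟨e2⟩ := out_plus n
      exact ⟨e1.trans e2⟩
  · intro hno
    cases b with
    | false =>
      exfalso
      rw [eStd_false] at Φ
      apply hno
      refine ⟨(ES.stdSub n 0).map Φ.toMonoidHom, ⟨?_, ?_⟩, ?_⟩
      · haveI := (ES.stdSub_elementary (n := n) (e := 0)).1
        infer_instance
      · rintro _ ⟨a, ha, rfl⟩
        show (Φ a) ^ 2 = 1
        rw [← map_pow, (ES.stdSub_elementary (n := n) (e := 0)).2 a ha, map_one]
      · rw [Subgroup.card_map_of_injective Φ.injective, ES.card_stdSub]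
        simp [pow_succ]
    | true =>
      rw [eStd_true n hn] at Φ
      obtain ⟨k, rfl⟩ : ∃ k, n = k + 1 := ⟨n - 1, by omega⟩
      obtain ⟨e1⟩ := out_congr Φ.symm
      obtain ⟨e2⟩ := out_minus k hn
      exact ⟨e1.trans e2⟩

end Cfsg.Agent.S5432
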