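import Mathlib
import Cfsg.Statements.S5434
import Cfsg.Agent.Lib.Helper1_Frattini
import Cfsg.Agent.Lib.Helper24_CoprimeAction

set_option autoImplicit false
open Cfsg

namespace Cfsg.Agent.S5434

open Cfsg.Agent.Lib.Helper1_Frattini
open Cfsg.Agent.Lib.Helper24_CoprimeAction
open scoped commutatorElement

/-- a subgroup of a subgroup of prime order is trivial or everything -/
theorem eq_bot_or_eq_of_le_of_card_prime {G : Type*} [Group G] {p : ℕ} (hp : p.Prime)
    {K Z : Subgroup G} [Finite Z] (hKZ : K ≤ Z) (hZ : Nat.card Z = p) : K = ⊥ ∨ K = Z := by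
  have h1 : Nat.card K ∣ p := hZ ▸ Subgroup.card_dvd_of_le hKZ
  rcases (Nat.dvd_prime hp).mp h1 with h | h
  · left
    exact Subgroup.card_eq_one.mp h
  · right
    exact Subgroup.eq_of_le_of_card_ge hKZ (by rw [hZ, h])

theorem map_center_subtype {G : Type*} [Group G] (R : Subgroup G) :
    (Subgroup.center ↥R).map R.subtype = R ⊓ Subgroup.centralizer (R : Set G) := by
  ext x
  rw [Subgroup.mem_map, Subgroup.mem_inf]
  constructor
  · rintro ⟨⟨y, hy⟩, hyc, rfl⟩
    refine ⟨hy, ?_⟩
    rw [Subgroup.mem_centralizer_iff]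
    intro r hr
    have := Subgroup.mem_center_iff.mp hyc ⟨r, hr⟩
    exact congrArg Subtype.val this
  · rintro ⟨hxR, hxc⟩
    refine ⟨⟨x, hxR⟩, ?_, rfl⟩
    rw [Subgroup.mem_center_iff]
    rintro ⟨r, hr⟩
    apply Subtype.ext
    exact Subgroup.mem_centralizer_iff.mp hxc r hr

/-- Lemma E: a non-abelian subgroup `R` of an extraspecial group `Q` whose centre is the centre of
`Q` is extraspecial. -/
theorem isExtraspecial_of_center_eq {G : Type*} [Group G] [Finite G] {p : ℕ} [hp : Fact p.Prime]
    (Q R : Subgroup G) (hRQ : R ≤ Q) (hQ : Cfsg.IsExtraspecial p ↥Q)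
    (hcen : R ⊓ Subgroup.centralizer (R : Set G) = (Subgroup.center ↥Q).map Q.subtype)
    (hnc : ∃ a ∈ R, ∃ b ∈ R, a * b ≠ b * a) :
    Cfsg.IsExtraspecial p ↥R := by
  obtain ⟨⟨hQp, hQfr, hQcomm⟩, hQcard⟩ := hQ
  set Z : Subgroup G := (Subgroup.center ↥Q).map Q.subtype with hZdef
  have hZcard : Nat.card Z = p := by
    rw [hZdef, Subgroup.card_map_of_injective Q.subtype_injective, hQcard]
  have hQQ : ⁅Q, Q⁆ = Z := by
    rw [← Subgroup.map_subtype_commutator, hQcomm]
  have hQpow : ∀ x ∈ Q, x ^ p ∈ Z := by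
    intro x hx
    have h1 := pow_mem_frattini_of_isPGroup hQp (⟨x, hx⟩ : ↥Q)
    rw [hQfr] at h1
    exact ⟨_, h1, rfl⟩
  have hRp : IsPGroup p ↥R := hQp.to_le hRQ
  have hRR : ⁅R, R⁆ = Z := by
    have h1 : ⁅R, R⁆ ≤ Z := hQQ ▸ Subgroup.commutator_mono hRQ hRQ
    rcases eq_bot_or_eq_of_le_of_card_prime hp.out h1 hZcard with h | h
    · exfalso
      obtain ⟨a, ha, b, hb, hab⟩ := hnc
      have h2 : ⁅a, b⁆ ∈ ⁅R, R⁆ := Subgroup.commutator_mem_commutator ha hb
      rw [h, Subgroup.mem_bot, commutatorElement_eq_one_iff_mul_comm] at h2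
      exact hab h2
    · exact h
  have hcenR : (Subgroup.center ↥R).map R.subtype = Z := by
    rw [map_center_subtype, hcen]
  have hcommR : commutator ↥R = Subgroup.center ↥R := by
    apply Subgroup.map_injective R.subtype_injective
    rw [Subgroup.map_subtype_commutator, hRR, hcenR]
  have hfrR : frattini ↥R = Subgroup.center ↥R := by
    apply le_antisymm
    · apply frattini_le_of_elementary_quotient (p := p) _ (le_of_eq hcommR)
      rintro ⟨x, hx⟩
      have h1 : x ^ p ∈ Z := hQpow x (hRQ hx)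
      rw [← hcenR] at h1
      obtain ⟨y, hy, hyx⟩ := h1
      have : y = ⟨x, hx⟩ ^ p := by
        apply Subtype.ext
        simpa using hyx
      rw [← this]
      exact hy
    · rw [← hcommR]
      exact commutator_le_frattini_of_isPGroup hRp
  refine ⟨⟨hRp, hfrR, hcommR⟩, ?_⟩
  rw [← Subgroup.card_map_of_injective R.subtype_injective, hcenR, hZcard]

/-- elements of a group of order two -/
theorem eq_of_ne_one_of_card_eq_two {G : Type*} [Group G] (Z : Subgroup G) (h : Nat.card Z = 2)
    {a b : G} (ha : a ∈ Z) (hb : b ∈ Z) (ha1 : a ≠ 1) (hb1 : b ≠ 1) : a = b := by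
  have : Finite Z := Nat.finite_of_card_ne_zero (by rw [h]; norm_num)
  by_contra hab
  have h3 : 3 ≤ Nat.card Z := by
    classical
    have : Fintype Z := Fintype.ofFinite Z
    rw [Nat.card_eq_fintype_card]
    have hinj : Function.Injective (fun i : Fin 3 => (![⟨1, Z.one_mem⟩, ⟨a, ha⟩, ⟨b, hb⟩] i : Z)) := by
      intro i j hij
      fin_cases i <;> fin_cases j <;> simp_all [Subtype.ext_iff]
    simpa using Fintype.card_le_of_injective _ hinj
  omega

theorem sq_eq_one_of_card_eq_two {G : Type*} [Group G] (Z : Subgroup G) (h : Nat.card Z = 2)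
    {a : G} (ha : a ∈ Z) : a ^ 2 = 1 := by
  have : Finite Z := Nat.finite_of_card_ne_zero (by rw [h]; norm_num)
  have h1 : (⟨a, ha⟩ : Z) ^ Nat.card Z = 1 := pow_card_eq_one'
  rw [h] at h1
  simpa using congrArg Subtype.val h1


/-- Let Q be a large extraspecial 2-subgroup of the finite group G (extraspecial; centralizer equal to its centre; normal in the centralizer of its centre; normalizing no non-trivial subgroup of odd order), and A a non-trivial subgroup of odd order of the normalizer of Q. Then Q is the central product of the centralizer of A in Q and the commutator subgroup [Q, A] (they generate Q and commute elementwise), [Q, A] is extraspecial, and the centralizer of A in Q is either the centre of Q or extraspecial. -/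
theorem result {G : Type*} [Group G] [Finite G] (Q : Subgroup G) (hQ : Cfsg.IsLargeExtraspecial Q) (A : Subgroup G) (hA : A ≤ Subgroup.normalizer (Q : Set G)) (hAodd : Odd (Nat.card ↥A)) (hA1 : A ≠ ⊥) : (Q ⊓ Subgroup.centralizer (A : Set G)) ⊔ ⁅Q, A⁆ = Q ∧ (∀ x ∈ Q ⊓ Subgroup.centralizer (A : Set G), ∀ y ∈ ⁅Q, A⁆, x * y = y * x) ∧ Cfsg.IsExtraspecial 2 ↥⁅Q, A⁆ ∧ (Q ⊓ Subgroup.centralizer (A : Set G) = ((Subgroup.center ↥Q).map Q.subtype) ∨ Cfsg.IsExtraspecial 2 ↥(Q ⊓ Subgroup.centralizer (A : Set G))) := by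
  classical
  have : Fact (Nat.Prime 2) := ⟨Nat.prime_two⟩
  obtain ⟨hE, hCQ, hCZ, hodd⟩ := hQ
  have hE' := hE
  obtain ⟨⟨hQp, hQfr, hQcomm⟩, hQcard⟩ := hE'
  set Z : Subgroup G := (Subgroup.center ↥Q).map Q.subtype with hZdef
  set C : Subgroup G := Q ⊓ Subgroup.centralizer (A : Set G) with hCdef
  set R : Subgroup G := ⁅Q, A⁆ with hRdef
  have hZcard : Nat.card Z = 2 := by
    rw [hZdef, Subgroup.card_map_of_injective Q.subtype_injective, hQcard]
  have hZQ : Z ≤ Q := Subgroup.map_subtype_le _
  have hQQ : ⁅Q, Q⁆ = Z := by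
    rw [← Subgroup.map_subtype_commutator, hQcomm]
  have hRQ : R ≤ Q := commutator_le_of_le_normalizer Q A hA
  have hCQ' : C ≤ Q := inf_le_left
  -- coprimality
  have hcop : (Nat.card A).Coprime (Nat.card Q) := by
    obtain ⟨k, hk⟩ := IsPGroup.iff_card.mp hQp
    rw [hk]
    apply Nat.Coprime.pow_right
    exact Nat.coprime_two_right.mpr hAodd
  have hQsolv : Group.IsSolvable ↥Q := by
    have : Group.IsNilpotent ↥Q := hQp.isNilpotent
    infer_instance
  -- (1)
  have h1 : C ⊔ R = Q := by
    apply le_antisymm (sup_le hCQ' hRQ)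
    intro k hk
    obtain ⟨d, hd, c, hc, rfl⟩ := coprime_decomp A Q hA hcop (Or.inr hQsolv) hk
    exact Subgroup.mul_mem _ (Subgroup.mem_sup_right hd) (Subgroup.mem_sup_left hc)
  -- A centralizes Z
  have hAZ : ∀ a ∈ A, ∀ z ∈ Z, a * z * a⁻¹ = z := by
    intro a ha z hz
    by_cases hz1 : z = 1
    · subst hz1; group
    · have hmem : a * z * a⁻¹ ∈ Z := by
        rw [← hCQ, Subgroup.mem_centralizer_iff]
        intro q hq
        have hq' : a⁻¹ * q * a ∈ Q := by
          have := (Subgroup.mem_normalizer_iff.mp (Subgroup.inv_mem _ (hA ha)) q).mp hq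
          simpa using this
        have hzc : z ∈ Subgroup.centralizer (Q : Set G) := hCQ ▸ hz
        have := Subgroup.mem_centralizer_iff.mp hzc _ hq'
        -- (a⁻¹ q a) z = z (a⁻¹ q a)
        calc q * (a * z * a⁻¹) = a * ((a⁻¹ * q * a) * z) * a⁻¹ := by group
          _ = a * (z * (a⁻¹ * q * a)) * a⁻¹ := by rw [this]
          _ = a * z * a⁻¹ * q := by group
      have hne : a * z * a⁻¹ ≠ 1 := by
        intro h
        apply hz1
        have : z = a⁻¹ * (a * z * a⁻¹) * a := by group
        rw [this, h]; group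
      exact eq_of_ne_one_of_card_eq_two Z hZcard hmem hz hne hz1
  have hZcentA : Z ≤ Subgroup.centralizer (A : Set G) := by
    intro z hz
    rw [Subgroup.mem_centralizer_iff]
    intro a ha
    have := hAZ a ha z hz
    calc a * z = (a * z * a⁻¹) * a := by group
      _ = z * a := by rw [this]
  have hZC : Z ≤ C := le_inf hZQ hZcentA
  -- three subgroups
  have hRC : ⁅R, C⁆ = ⊥ := by
    apply Subgroup.commutator_commutator_eq_bot_of_rotate
    · have : ⁅A, C⁆ = ⊥ := by
        rw [Subgroup.commutator_eq_bot_iff_le_centralizer, Subgroup.le_centralizer_iff]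
        exact inf_le_right
      rw [this, Subgroup.commutator_bot_left]
    · have h2 : ⁅C, Q⁆ ≤ Z := hQQ ▸ Subgroup.commutator_mono hCQ' le_rfl
      have h3 : ⁅Z, A⁆ = ⊥ := Subgroup.commutator_eq_bot_iff_le_centralizer.mpr hZcentA
      exact le_bot_iff.mp (h3 ▸ Subgroup.commutator_mono h2 le_rfl)
  have hRcentC : R ≤ Subgroup.centralizer (C : Set G) :=
    Subgroup.commutator_eq_bot_iff_le_centralizer.mp hRC
  have h2 : ∀ x ∈ C, ∀ y ∈ R, x * y = y * x := by
    intro x hx y hy
    exact Subgroup.mem_centralizer_iff.mp (hRcentC hy) x hx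
  -- F10
  have hF10 : ∀ x : G, x ∈ Subgroup.centralizer (C : Set G) → x ∈ Subgroup.centralizer (R : Set G) →
      x ∈ Z := by
    intro x hxC hxR
    rw [← hCQ, Subgroup.mem_centralizer_iff]
    have h3 : C ⊔ R ≤ Subgroup.centralizer ({x} : Set G) := by
      apply sup_le
      · intro c hc
        rw [Subgroup.mem_centralizer_iff]
        intro y hy
        rw [Set.mem_singleton_iff] at hy
        subst hy
        exact (Subgroup.mem_centralizer_iff.mp hxC c hc).symm
      · intro c hc
        rw [Subgroup.mem_centralizer_iff]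
        intro y hy
        rw [Set.mem_singleton_iff] at hy
        subst hy
        exact (Subgroup.mem_centralizer_iff.mp hxR c hc).symm
    rw [h1] at h3
    intro q hq
    exact (Subgroup.mem_centralizer_iff.mp (h3 hq) x rfl).symm
  have hZcentQ : Z ≤ Subgroup.centralizer (Q : Set G) := le_of_eq hCQ.symm
  -- F11
  have hRnc : ∃ a ∈ R, ∃ b ∈ R, a * b ≠ b * a := by
    by_contra hcon
    push Not at hcon
    have hRZ : R ≤ Z := by
      intro r hr
      apply hF10 r (hRcentC hr)
      rw [Subgroup.mem_centralizer_iff]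
      intro y hy
      exact hcon y hy r hr
    apply hA1
    have hAcent : A ≤ Subgroup.centralizer (Q : Set G) := by
      intro a ha
      rw [Subgroup.mem_centralizer_iff]
      intro q hq
      -- w = a q a⁻¹ q⁻¹
      have hw : ⁅a, q⁆ ∈ Z := by
        apply hRZ
        have : ⁅a, q⁆ = ⁅q, a⁆⁻¹ := (commutatorElement_inv q a).symm
        rw [this]
        exact Subgroup.inv_mem _ (Subgroup.commutator_mem_commutator hq ha)
      set w := ⁅a, q⁆ with hwdef
      have haq : a * q * a⁻¹ = w * q := by rw [hwdef, commutatorElement_def]; group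
      have haw : a * w * a⁻¹ = w := hAZ a ha w hw
      have hpow : ∀ n : ℕ, a ^ n * q * (a ^ n)⁻¹ = w ^ n * q := by
        intro n
        induction n with
        | zero => simp
        | succ n ih =>
          have hawn : a * w ^ n * a⁻¹ = w ^ n := by
            have := conj_pow (a := a) (b := w) (i := n)
            rw [← this, haw]
          calc a ^ (n + 1) * q * (a ^ (n + 1))⁻¹ = a * (a ^ n * q * (a ^ n)⁻¹) * a⁻¹ := by
                rw [pow_succ']; group
            _ = a * (w ^ n * q) * a⁻¹ := by rw [ih]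
            _ = (a * w ^ n * a⁻¹) * (a * q * a⁻¹) := by group
            _ = w ^ n * (w * q) := by rw [hawn, haq]
            _ = w ^ (n + 1) * q := by rw [pow_succ]; group
      have hord : Odd (orderOf a) := by
        have hdvd : orderOf a ∣ Nat.card A := by
          have := orderOf_dvd_natCard (⟨a, ha⟩ : A)
          rwa [Subgroup.orderOf_mk] at this
        exact Odd.of_dvd_nat hAodd hdvd
      have h5 := hpow (orderOf a)
      rw [pow_orderOf_eq_one] at h5
      have h6 : w ^ orderOf a = 1 := by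
        have : q = w ^ orderOf a * q := by simpa using h5
        exact (mul_eq_right.mp this.symm)
      have hw2 : w ^ 2 = 1 := sq_eq_one_of_card_eq_two Z hZcard hw
      obtain ⟨m, hm⟩ := hord
      have hw1 : w = 1 := by
        rw [hm, pow_add, pow_mul, hw2, one_pow, one_mul, pow_one] at h6
        exact h6
      have : a * q * a⁻¹ = q := by rw [haq, hw1, one_mul]
      calc q * a = (a * q * a⁻¹)⁻¹⁻¹ * a := by rw [this]; group
        _ = a * q := by group
    have hAZ' : A ≤ Z := hCQ ▸ hAcent
    have hdvd : Nat.card A ∣ 2 := hZcard ▸ Subgroup.card_dvd_of_le hAZ'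
    have hcard1 : Nat.card A = 1 := by
      rcases (Nat.dvd_prime Nat.prime_two).mp hdvd with h | h
      · exact h
      · exfalso
        rw [h] at hAodd
        exact (by decide : ¬ Odd 2) hAodd
    exact Subgroup.card_eq_one.mp hcard1
  -- F12
  have hRRZ : ⁅R, R⁆ = Z := by
    have h3 : ⁅R, R⁆ ≤ Z := hQQ ▸ Subgroup.commutator_mono hRQ hRQ
    rcases eq_bot_or_eq_of_le_of_card_prime Nat.prime_two h3 hZcard with h | h
    · exfalso
      obtain ⟨a, ha, b, hb, hab⟩ := hRnc
      have h4 : ⁅a, b⁆ ∈ ⁅R, R⁆ := Subgroup.commutator_mem_commutator ha hb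
      rw [h, Subgroup.mem_bot, commutatorElement_eq_one_iff_mul_comm] at h4
      exact hab h4
    · exact h
  have hZR : Z ≤ R := hRRZ ▸ Subgroup.commutator_le_self R
  have hcenR : R ⊓ Subgroup.centralizer (R : Set G) = Z := by
    apply le_antisymm
    · rintro x ⟨hxR, hxc⟩
      exact hF10 x (hRcentC hxR) hxc
    · apply le_inf hZR
      exact hZcentQ.trans (Subgroup.centralizer_le hRQ)
  have h3 : Cfsg.IsExtraspecial 2 ↥R := isExtraspecial_of_center_eq Q R hRQ hE hcenR hRnc
  have hcenC : C ⊓ Subgroup.centralizer (C : Set G) = Z := by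
    apply le_antisymm
    · rintro x ⟨hxC, hxc⟩
      apply hF10 x hxc
      rw [Subgroup.mem_centralizer_iff]
      intro y hy
      exact (h2 x hxC y hy).symm
    · apply le_inf hZC
      exact hZcentQ.trans (Subgroup.centralizer_le hCQ')
  refine ⟨h1, h2, h3, ?_⟩
  by_cases hCab : ∃ a ∈ C, ∃ b ∈ C, a * b ≠ b * a
  · right
    exact isExtraspecial_of_center_eq Q C hCQ' hE hcenC hCab
  · left
    push Not at hCab
    rw [← hcenC]
    apply le_antisymm
    · apply le_inf le_rfl
      intro c hc
      rw [Subgroup.mem_centralizer_iff]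
      intro y hy
      exact hCab y hy c hc
    · exact inf_le_left

end Cfsg.Agent.S5434
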