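import Cfsg.Statements.S5435
-- import your own Cfsg.Agent.* helpers here
import Cfsg.Agent.Lib.Helper1_Frattini
import Cfsg.Agent.Lib.Helper76_Transfer
import Cfsg.Agent.Lib.Helper48_ZTransfer
import Cfsg.Agent.Lib.Helper54_TwoGroups
import Cfsg.Agent.S1782

set_option autoImplicit false
set_option linter.unusedSectionVars false
open Cfsg

namespace Cfsg.Agent.S5435

open Cfsg.Agent.Lib.Helper1_Frattini

/-- elements of the group generated by an involution -/
theorem mem_zpowers_two {L : Type*} [Group L] {z y : L} (hz : z ^ 2 = 1) (hy : y ∈ Subgroup.zpowers z) :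
    y = 1 ∨ y = z := by
  obtain ⟨k, rfl⟩ := Subgroup.mem_zpowers_iff.mp hy
  rcases Int.even_or_odd' k with ⟨m, rfl | rfl⟩
  · left
    rw [zpow_mul, zpow_ofNat, hz, one_zpow]
  · right
    rw [zpow_add, zpow_mul, zpow_ofNat, hz, one_zpow, one_mul, zpow_one]

/-- a simple non-commutative group has no nontrivial homomorphism to a commutative group -/
theorem hom_trivial {L : Type*} [Group L] [IsSimpleGroup L] (hL : ¬ IsMulCommutative L)
    {A : Type*} [CommGroup A] (ϕ : L →* A) (g : L) : ϕ g = 1 := by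
  rcases ϕ.normal_ker.eq_bot_or_eq_top with h | h
  · exfalso
    apply hL
    rw [isMulCommutative_iff]
    intro a b
    apply (MonoidHom.ker_eq_bot_iff ϕ).mp h
    rw [map_mul, map_mul, mul_comm]
  · rw [← MonoidHom.mem_ker, h]
    trivial

section

variable {L : Type*} [Group L] [Finite L] (z : L) (R : Sylow 2 L)
  (hR : (R : Subgroup L) = Subgroup.centralizer ({z} : Set L))
  (hΦ : (frattini ↥(R : Subgroup L)).map (R : Subgroup L).subtype = Subgroup.zpowers z)

include hR in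
theorem mem_R_iff (x : L) : x ∈ (R : Subgroup L) ↔ z * x = x * z := by
  rw [hR, Subgroup.mem_centralizer_iff]
  constructor
  · intro h; exact h z rfl
  · intro h y hy
    rw [Set.mem_singleton_iff] at hy
    rw [hy]; exact h

include hR in
theorem z_mem : z ∈ (R : Subgroup L) := (mem_R_iff z R hR z).mpr rfl

include hΦ in
theorem sq_mem (hz : z ^ 2 = 1) {x : L} (hx : x ∈ (R : Subgroup L)) : x ^ 2 = 1 ∨ x ^ 2 = z := by
  apply mem_zpowers_two hz
  rw [← hΦ]
  have h := pow_mem_frattini_of_isPGroup (p := 2) R.isPGroup' (⟨x, hx⟩ : ↥(R : Subgroup L))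
  exact ⟨_, h, rfl⟩

include hΦ in
theorem comm_mem (hz : z ^ 2 = 1) {x y : L} (hx : x ∈ (R : Subgroup L)) (hy : y ∈ (R : Subgroup L)) :
    x * y * x⁻¹ * y⁻¹ = 1 ∨ x * y * x⁻¹ * y⁻¹ = z := by
  apply mem_zpowers_two hz
  rw [← hΦ]
  have h := commutator_le_frattini_of_isPGroup (p := 2) R.isPGroup'
    (Subgroup.commutator_mem_commutator (Subgroup.mem_top (⟨x, hx⟩ : ↥(R : Subgroup L)))
      (Subgroup.mem_top (⟨y, hy⟩ : ↥(R : Subgroup L))))
  exact ⟨_, h, by simp [commutatorElement_def]⟩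

end

open Classical in
/-- the sign homomorphism of a subgroup of index two -/
noncomputable def signOf {G : Type*} [Group G] (M : Subgroup G) (h : M.index = 2) : G →* ℤˣ where
  toFun g := if g ∈ M then 1 else -1
  map_one' := by simp [M.one_mem]
  map_mul' a b := by
    by_cases ha : a ∈ M <;> by_cases hb : b ∈ M <;>
      simp [ha, hb, Subgroup.mul_mem_iff_of_index_two h]

theorem signOf_of_mem {G : Type*} [Group G] (M : Subgroup G) (h : M.index = 2) {g : G}
    (hg : g ∈ M) : signOf M h g = 1 := by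
  simp [signOf, hg]

theorem signOf_of_notMem {G : Type*} [Group G] (M : Subgroup G) (h : M.index = 2) {g : G}
    (hg : g ∉ M) : signOf M h g = -1 := by
  simp [signOf, hg]

section main

variable {L : Type*} [Group L] [Finite L] [IsSimpleGroup L] (hL : ¬ IsMulCommutative L)
  (z : L) (hz : orderOf z = 2) (R : Sylow 2 L)
  (hR : (R : Subgroup L) = Subgroup.centralizer ({z} : Set L))
  (hΦ : (frattini ↥(R : Subgroup L)).map (R : Subgroup L).subtype = Subgroup.zpowers z)

include hz in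
theorem z_sq : z ^ 2 = 1 := by rw [← hz]; exact pow_orderOf_eq_one z

include hz in
theorem z_ne_one : z ≠ 1 := by
  intro h
  rw [h, orderOf_one] at hz
  omega

include hz hΦ in
/-- an element of order four in `R` -/
theorem exists_sq_eq : ∃ x ∈ (R : Subgroup L), x ^ 2 = z := by
  have hne : frattini ↥(R : Subgroup L) ≠ ⊥ := by
    intro h
    rw [h, Subgroup.map_bot] at hΦ
    exact z_ne_one z hz (Subgroup.zpowers_eq_bot.mp hΦ.symm)
  obtain ⟨x, hx, hx2⟩ := Cfsg.Agent.S1782.exists_sq_ne_one (R : Subgroup L) hne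
  rcases sq_mem z R hΦ (z_sq z hz) hx with h | h
  · exact absurd h hx2
  · exact ⟨x, hx, h⟩

include hΦ in
theorem z_mem_frattini (hzR : z ∈ (R : Subgroup L)) :
    (⟨z, hzR⟩ : ↥(R : Subgroup L)) ∈ frattini ↥(R : Subgroup L) := by
  have h : z ∈ (frattini ↥(R : Subgroup L)).map (R : Subgroup L).subtype := by
    rw [hΦ]; exact Subgroup.mem_zpowers z
  obtain ⟨w, hw, hwz⟩ := h
  have : w = ⟨z, hzR⟩ := Subtype.ext hwz
  rwa [this] at hw

include hL hz hR hΦ in
/-- `z` is not isolated in `R` -/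
theorem exists_conj : ∃ g : L, g⁻¹ * z * g ∈ (R : Subgroup L) ∧ g⁻¹ * z * g ≠ z := by
  by_contra hiso
  push Not at hiso
  have hz2 := z_sq z hz
  have hz1 := z_ne_one z hz
  have hzR := z_mem z R hR
  obtain ⟨x, hx, hx2⟩ := exists_sq_eq z hz R hΦ
  -- `x` is not in the Frattini subgroup
  have hxΦ : (⟨x, hx⟩ : ↥(R : Subgroup L)) ∉ frattini ↥(R : Subgroup L) := by
    intro h
    have h' : x ∈ (frattini ↥(R : Subgroup L)).map (R : Subgroup L).subtype := ⟨_, h, rfl⟩
    rw [hΦ] at h'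
    rcases mem_zpowers_two hz2 h' with h'' | h''
    · rw [h'', one_pow] at hx2; exact hz1 hx2.symm
    · rw [h'', hz2] at hx2; exact hz1 hx2.symm
  rw [mem_frattini_iff] at hxΦ
  push Not at hxΦ
  obtain ⟨M, hM, hxM⟩ := hxΦ
  have hidx : M.index = 2 := index_of_isCoatom_of_isPGroup (p := 2) R.isPGroup' hM
  have hzM : (⟨z, hzR⟩ : ↥(R : Subgroup L)) ∈ M :=
    mem_frattini_iff.mp (z_mem_frattini z R hΦ hzR) M hM
  -- the transfer of the sign
  have key : ∀ (k : ℕ) (g₀ : L) (hk : g₀⁻¹ * x ^ k * g₀ ∈ (R : Subgroup L)),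
      signOf M hidx ⟨g₀⁻¹ * x ^ k * g₀, hk⟩ / (-1 : ℤˣ) ^ k ∈ (⊥ : Subgroup ℤˣ) := by
    intro k g₀ hk
    rw [Subgroup.mem_bot, div_eq_one]
    rcases Nat.even_or_odd' k with ⟨m, rfl | rfl⟩
    · -- even exponent
      have hpow : ((-1 : ℤˣ)) ^ (2 * m) = 1 := by
        rw [pow_mul]; simp
      rw [hpow]
      apply signOf_of_mem
      have hxk : x ^ (2 * m) = z ^ m := by rw [pow_mul, hx2]
      rcases Nat.even_or_odd' m with ⟨n, rfl | rfl⟩
      · have : g₀⁻¹ * x ^ (2 * (2 * n)) * g₀ = 1 := by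
          rw [hxk, pow_mul, hz2, one_pow]; group
        have h1 : (⟨g₀⁻¹ * x ^ (2 * (2 * n)) * g₀, hk⟩ : ↥(R : Subgroup L)) = 1 := Subtype.ext this
        rw [h1]; exact M.one_mem
      · have hzn : z ^ (2 * n + 1) = z := by rw [pow_succ, pow_mul, hz2, one_pow, one_mul]
        have h0 : g₀⁻¹ * x ^ (2 * (2 * n + 1)) * g₀ = g₀⁻¹ * z * g₀ := by rw [hxk, hzn]
        have h1 : g₀⁻¹ * z * g₀ = z := hiso g₀ (h0 ▸ hk)
        have h2 : (⟨g₀⁻¹ * x ^ (2 * (2 * n + 1)) * g₀, hk⟩ : ↥(R : Subgroup L)) = ⟨z, hzR⟩ :=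
          Subtype.ext (h0.trans h1)
        rw [h2]; exact hzM
    · -- odd exponent
      have hsq : (g₀⁻¹ * x ^ (2 * m + 1) * g₀) ^ 2 = g₀⁻¹ * z * g₀ := by
        have : (x ^ (2 * m + 1)) ^ 2 = z := by
          rw [← pow_mul, mul_comm, pow_mul, hx2, pow_succ, pow_mul, hz2, one_pow, one_mul]
        rw [pow_two, ← this, pow_two]; group
      have hg₀ : g₀ ∈ (R : Subgroup L) := by
        rw [mem_R_iff z R hR]
        rcases sq_mem z R hΦ hz2 hk with h | h
        · exfalso
          rw [hsq] at h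
          apply hz1
          have : z = g₀ * (g₀⁻¹ * z * g₀) * g₀⁻¹ := by group
          rw [this, h]; group
        · rw [hsq] at h
          have : z * g₀ = g₀ * (g₀⁻¹ * z * g₀) := by group
          rw [this, h]
      have hxk : x ^ (2 * m + 1) ∈ (R : Subgroup L) := Subgroup.pow_mem _ hx _
      have h1 : (⟨g₀⁻¹ * x ^ (2 * m + 1) * g₀, hk⟩ : ↥(R : Subgroup L)) =
          (⟨g₀, hg₀⟩ : ↥(R : Subgroup L))⁻¹ * (⟨x, hx⟩ : ↥(R : Subgroup L)) ^ (2 * m + 1) *
            ⟨g₀, hg₀⟩ := Subtype.ext (by simp)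
      rw [h1, map_mul, map_mul, map_inv, map_pow, signOf_of_notMem M hidx hxM]
      rw [mul_comm, ← mul_assoc, mul_inv_cancel, one_mul]
  have h1 := Cfsg.Agent.Lib.Helper76_Transfer.transfer_div_pow_mem (signOf M hidx) ⊥ x (-1 : ℤˣ) key
  rw [Subgroup.mem_bot, div_eq_one, hom_trivial hL (MonoidHom.transfer (signOf M hidx)) x] at h1
  have hodd : ¬ 2 ∣ (R : Subgroup L).index := R.not_dvd_index
  have hodd' : Odd (R : Subgroup L).index := by
    rcases Nat.even_or_odd (R : Subgroup L).index with h | h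
    · exact absurd (even_iff_two_dvd.mp h) hodd
    · exact h
  rw [hodd'.neg_one_pow] at h1
  exact absurd h1 (by decide)

omit [Finite L] [IsSimpleGroup L] in
theorem commute_of_conj {g y : L} (h : g * y * g⁻¹ = y) : g * y = y * g := by
  calc g * y = (g * y * g⁻¹) * g := by group
    _ = y * g := by rw [h]

omit [Finite L] [IsSimpleGroup L] in
theorem conj_inv_of_commute {g y : L} (h : g * y = y * g) : g⁻¹ * y * g = y := by
  calc g⁻¹ * y * g = g⁻¹ * (y * g) := by group
    _ = g⁻¹ * (g * y) := by rw [h]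
    _ = y := by group

include hz hΦ in
/-- conjugation keeping an element of order four inside `R` fixes `z` -/
theorem conj_z_of_conj_mem {g x : L} (hx2 : x ^ 2 = z)
    (h1 : g * x * g⁻¹ ∈ (R : Subgroup L)) : g * z * g⁻¹ = z := by
  have hsq : (g * x * g⁻¹) ^ 2 = g * z * g⁻¹ := by
    rw [pow_two, ← hx2, pow_two]; group
  rcases sq_mem z R hΦ (z_sq z hz) h1 with h | h
  · exfalso
    rw [hsq] at h
    apply z_ne_one z hz
    have : z = g⁻¹ * (g * z * g⁻¹) * g := by group
    rw [this, h]; group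
  · rw [hsq] at h
    exact h

include hL hz hR hΦ in
/-- the centre of `R` is generated by `z` -/
theorem central_eq {w : L} (hwR : w ∈ (R : Subgroup L))
    (hwc : ∀ r ∈ (R : Subgroup L), w * r = r * w) (hw2 : w ^ 2 = 1) : w = 1 ∨ w = z := by
  by_contra hcon
  push Not at hcon
  have hz2 := z_sq z hz
  have hz1 := z_ne_one z hz
  have hwΦ : (⟨w, hwR⟩ : ↥(R : Subgroup L)) ∉ frattini ↥(R : Subgroup L) := by
    intro h
    have h' : w ∈ (frattini ↥(R : Subgroup L)).map (R : Subgroup L).subtype := ⟨_, h, rfl⟩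
    rw [hΦ] at h'
    rcases mem_zpowers_two hz2 h' with h'' | h''
    · exact hcon.1 h''
    · exact hcon.2 h''
  rw [mem_frattini_iff] at hwΦ
  push Not at hwΦ
  obtain ⟨M, hM, hwM⟩ := hwΦ
  have hidx : M.index = 2 := index_of_isCoatom_of_isPGroup (p := 2) R.isPGroup' hM
  obtain ⟨x, hx, hx2⟩ := exists_sq_eq z hz R hΦ
  have hN : ∀ g ∈ Subgroup.normalizer ((R : Subgroup L) : Set L), g⁻¹ * w * g = w := by
    intro g hg
    have hgx : g * x * g⁻¹ ∈ (R : Subgroup L) := (Subgroup.mem_normalizer_iff.mp hg x).mp hx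
    have hgR : g ∈ (R : Subgroup L) := by
      rw [mem_R_iff z R hR]
      exact (commute_of_conj (conj_z_of_conj_mem z hz R hΦ hx2 hgx)).symm
    rw [mul_assoc, hwc g hgR, ← mul_assoc, inv_mul_cancel, one_mul]
  have hne := Cfsg.Agent.Lib.Helper48_ZTransfer.transfer_ne_one_of_central_involution
    (R : Subgroup L) R.isPGroup' R.not_dvd_index
    (by rw [Nat.card_eq_fintype_card, Fintype.card_units_int]) (signOf M hidx) w hwR
    (Subgroup.mem_centralizer_iff.mpr (fun r hr => (hwc r hr).symm)) hw2 hN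
    (by rw [signOf_of_notMem M hidx hwM]; decide)
  exact hne (hom_trivial hL _ w)

theorem ncard_le_eight {α : Type*} (a b c d e f g h : α) :
    ({a, b, c, d, e, f, g, h} : Set α).ncard ≤ 8 := by
  refine (Set.ncard_insert_le _ _).trans (Nat.succ_le_succ ?_)
  refine (Set.ncard_insert_le _ _).trans (Nat.succ_le_succ ?_)
  refine (Set.ncard_insert_le _ _).trans (Nat.succ_le_succ ?_)
  refine (Set.ncard_insert_le _ _).trans (Nat.succ_le_succ ?_)
  refine (Set.ncard_insert_le _ _).trans (Nat.succ_le_succ ?_)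
  refine (Set.ncard_insert_le _ _).trans (Nat.succ_le_succ ?_)
  refine (Set.ncard_insert_le _ _).trans (Nat.succ_le_succ ?_)
  rw [Set.ncard_singleton]

/-- a non-commutative finite 2-group has order at least eight -/
theorem eight_le_card {G : Type*} [Group G] [Finite G] (hG : IsPGroup 2 G)
    (hnc : ∃ a b : G, a * b ≠ b * a) : ∃ n, 3 ≤ n ∧ Nat.card G = 2 ^ n := by
  obtain ⟨n, hn⟩ := IsPGroup.iff_card.mp hG
  refine ⟨n, ?_, hn⟩
  by_contra hlt
  push Not at hlt
  obtain ⟨a, b, hab⟩ := hnc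
  apply hab
  interval_cases n
  · have : Subsingleton G := (Nat.card_eq_one_iff_unique.mp (by simpa using hn)).1
    exact Subsingleton.elim _ _
  · have : IsCyclic G := isCyclic_of_prime_card (p := 2) (by simpa using hn)
    exact (IsCyclic.commGroup (α := G)).mul_comm a b
  · exact isMulCommutative_iff.mp (IsPGroup.isMulCommutative_of_card_eq_prime_sq (p := 2) hn) a b

end main

section abstract

variable {G : Type*} [Group G] (z t x₀ : G) (hz2 : z * z = 1) (hzc : ∀ r : G, z * r = r * z)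
  (hcomm : ∀ a b : G, a * b * a⁻¹ * b⁻¹ = 1 ∨ a * b * a⁻¹ * b⁻¹ = z)
  (ht2 : t * t = 1) (hx₀ : t * x₀ ≠ x₀ * t)
  (hB2 : ∀ y : G, t * y = y * t → y * y = 1)
  (hZ : ∀ w : G, (∀ r : G, w * r = r * w) → w * w = 1 → w = 1 ∨ w = z)

include hcomm in
theorem conj_cases (a : G) : t * a * t⁻¹ = a ∨ t * a * t⁻¹ = z * a := by
  have e : t * a * t⁻¹ = (t * a * t⁻¹ * a⁻¹) * a := by group
  rcases hcomm t a with h | h
  · left; rw [e, h, one_mul]
  · right; rw [e, h]

theorem commute_iff_conj (a : G) : t * a = a * t ↔ t * a * t⁻¹ = a := by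
  constructor
  · intro h; rw [h]; group
  · intro h
    calc t * a = (t * a * t⁻¹) * t := by group
      _ = a * t := by rw [h]

include hcomm hx₀ in
theorem conj_x₀ : t * x₀ * t⁻¹ = z * x₀ := by
  rcases conj_cases z t hcomm x₀ with h | h
  · exact absurd ((commute_iff_conj t x₀).mpr h) hx₀
  · exact h

include hz2 hcomm hx₀ in
theorem coset_cases (r : G) : t * r = r * t ∨ t * (x₀⁻¹ * r) = (x₀⁻¹ * r) * t := by
  rcases conj_cases z t hcomm r with h | h
  · left; exact (commute_iff_conj t r).mpr h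
  · right
    rw [commute_iff_conj]
    have e : t * (x₀⁻¹ * r) * t⁻¹ = (t * x₀ * t⁻¹)⁻¹ * (t * r * t⁻¹) := by group
    rw [e, conj_x₀ z t x₀ hcomm hx₀, h]
    group

include hB2 in
theorem comm_B {y₁ y₂ : G} (c1 : t * y₁ = y₁ * t) (c2 : t * y₂ = y₂ * t) : y₁ * y₂ = y₂ * y₁ := by
  have e1 := hB2 y₁ c1
  have e2 := hB2 y₂ c2
  have e3 := hB2 (y₁ * y₂) (by rw [← mul_assoc, c1, mul_assoc, c2, ← mul_assoc])
  have i1 : y₁⁻¹ = y₁ := inv_eq_iff_mul_eq_one.mpr e1
  have i2 : y₂⁻¹ = y₂ := inv_eq_iff_mul_eq_one.mpr e2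
  have : y₁ * y₂ = (y₁ * y₂)⁻¹ := (inv_eq_iff_mul_eq_one.mpr e3).symm
  rw [this, mul_inv_rev, i1, i2]

include hz2 hcomm hx₀ hB2 hZ in
/-- elements commuting with `t` and `x₀` are central, hence in `{1, z}` -/
theorem B_central {y : G} (c1 : t * y = y * t) (c2 : y * x₀ = x₀ * y) : y = 1 ∨ y = z := by
  apply hZ y _ (hB2 y c1)
  intro r
  rcases coset_cases z t x₀ hz2 hcomm hx₀ r with h | h
  · exact comm_B t hB2 c1 h
  · have h1 : y * (x₀⁻¹ * r) = (x₀⁻¹ * r) * y := comm_B t hB2 c1 h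
    calc y * r = y * x₀ * (x₀⁻¹ * r) := by group
      _ = x₀ * y * (x₀⁻¹ * r) := by rw [c2]
      _ = x₀ * (y * (x₀⁻¹ * r)) := by group
      _ = x₀ * ((x₀⁻¹ * r) * y) := by rw [h1]
      _ = r * y := by group

include hz2 hzc hcomm ht2 hx₀ hB2 hZ in
theorem B_cases {y : G} (c1 : t * y = y * t) : y = 1 ∨ y = z ∨ y = t ∨ y = z * t := by
  have htinv : t⁻¹ = t := inv_eq_iff_mul_eq_one.mpr ht2
  rcases hcomm y x₀ with h | h
  · have c2 : y * x₀ = x₀ * y := by
      calc y * x₀ = (y * x₀ * y⁻¹ * x₀⁻¹) * x₀ * y := by group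
        _ = x₀ * y := by rw [h, one_mul]
    rcases B_central z t x₀ hz2 hcomm hx₀ hB2 hZ c1 c2 with h' | h'
    · exact Or.inl h'
    · exact Or.inr (Or.inl h')
  · have c1' : t * (y * t) = (y * t) * t := by rw [← mul_assoc, c1]
    have c2' : (y * t) * x₀ = x₀ * (y * t) := by
      have e : y * t * x₀ = y * (t * x₀ * t⁻¹) * t := by group
      rw [e, conj_x₀ z t x₀ hcomm hx₀]
      calc y * (z * x₀) * t = y * (x₀ * z) * t := by rw [hzc x₀]
        _ = (y * x₀ * y⁻¹ * x₀⁻¹) * x₀ * y * z * t := by group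
        _ = z * x₀ * y * z * t := by rw [h]
        _ = x₀ * z * y * z * t := by rw [hzc x₀]
        _ = x₀ * (z * y) * z * t := by group
        _ = x₀ * (y * z) * z * t := by rw [hzc y]
        _ = x₀ * y * (z * z) * t := by group
        _ = x₀ * (y * t) := by rw [hz2]; group
    rcases B_central z t x₀ hz2 hcomm hx₀ hB2 hZ c1' c2' with h' | h'
    · right; right; left
      calc y = (y * t) * t⁻¹ := by group
        _ = t := by rw [h', one_mul, htinv]
    · right; right; right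
      calc y = (y * t) * t⁻¹ := by group
        _ = z * t := by rw [h', htinv]

include hz2 hzc hcomm ht2 hx₀ hB2 hZ in
theorem all_cases (r : G) : r ∈ ({1, z, t, z * t, x₀, x₀ * z, x₀ * t, x₀ * (z * t)} : Set G) := by
  simp only [Set.mem_insert_iff, Set.mem_singleton_iff]
  rcases coset_cases z t x₀ hz2 hcomm hx₀ r with h | h
  · rcases B_cases z t x₀ hz2 hzc hcomm ht2 hx₀ hB2 hZ h with h' | h' | h' | h'
    · exact Or.inl h'
    · exact Or.inr (Or.inl h')
    · exact Or.inr (Or.inr (Or.inl h'))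
    · exact Or.inr (Or.inr (Or.inr (Or.inl h')))
  · have e : r = x₀ * (x₀⁻¹ * r) := by group
    rcases B_cases z t x₀ hz2 hzc hcomm ht2 hx₀ hB2 hZ h with h' | h' | h' | h'
    · right; right; right; right; left
      rw [e, h', mul_one]
    · right; right; right; right; right; left
      rw [e, h']
    · right; right; right; right; right; right; left
      rw [e, h']
    · right; right; right; right; right; right; right
      rw [e, h']

end abstract

section abstract2

variable {G : Type*} [Group G] [Finite G] (hG : IsPGroup 2 G) (z t x₀ : G) (hz2 : z * z = 1)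
  (hz1 : z ≠ 1) (hzc : ∀ r : G, z * r = r * z)
  (hsq : ∀ r : G, r * r = 1 ∨ r * r = z)
  (hcomm : ∀ a b : G, a * b * a⁻¹ * b⁻¹ = 1 ∨ a * b * a⁻¹ * b⁻¹ = z)
  (ht2 : t * t = 1) (hx₀ : t * x₀ ≠ x₀ * t)
  (hB2 : ∀ y : G, t * y = y * t → y * y = 1)
  (hZ : ∀ w : G, (∀ r : G, w * r = r * w) → w * w = 1 → w = 1 ∨ w = z)

include hG hz2 hzc hcomm ht2 hx₀ hB2 hZ in
theorem card_eq_eight : Nat.card G = 8 := by
  have hle : Nat.card G ≤ 8 := by
    rw [← Set.ncard_univ]
    refine (Set.ncard_le_ncard (fun r _ => all_cases z t x₀ hz2 hzc hcomm ht2 hx₀ hB2 hZ r)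
      (Set.toFinite _)).trans (ncard_le_eight _ _ _ _ _ _ _ _)
  obtain ⟨n, hn3, hn⟩ := eight_le_card hG ⟨t, x₀, hx₀⟩
  rw [hn] at hle ⊢
  have : n ≤ 3 := by
    by_contra hcon
    push Not at hcon
    have : 2 ^ 4 ≤ 2 ^ n := Nat.pow_le_pow_right (by norm_num) hcon
    omega
  have : n = 3 := le_antisymm this hn3
  rw [this]
  norm_num

include hG hz2 hz1 hzc hsq hcomm ht2 hx₀ hB2 hZ in
theorem abstract_D8 : Nonempty (G ≃* DihedralGroup 4) := by
  have hcard := card_eq_eight hG z t x₀ hz2 hzc hcomm ht2 hx₀ hB2 hZ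
  have htinv : t⁻¹ = t := inv_eq_iff_mul_eq_one.mpr ht2
  have hcx := conj_x₀ z t x₀ hcomm hx₀
  -- an element `c` with `c * c = z` inverted by `t`
  obtain ⟨c, hcc, htc⟩ : ∃ c : G, c * c = z ∧ t * c * t⁻¹ = c⁻¹ := by
    rcases hsq x₀ with h | h
    · refine ⟨x₀ * t, ?_, ?_⟩
      · calc x₀ * t * (x₀ * t) = x₀ * (t * x₀ * t⁻¹) * (t * t) := by group
          _ = x₀ * (z * x₀) := by rw [hcx, ht2, mul_one]
          _ = x₀ * (x₀ * z) := by rw [hzc x₀]
          _ = (x₀ * x₀) * z := by group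
          _ = z := by rw [h, one_mul]
      · have hx₀inv : x₀⁻¹ = x₀ := inv_eq_iff_mul_eq_one.mpr h
        calc t * (x₀ * t) * t⁻¹ = (t * x₀ * t⁻¹) * t := by group
          _ = z * x₀ * t := by rw [hcx]
          _ = (t * x₀ * t⁻¹) * t := by rw [hcx]
          _ = t * x₀ := by group
          _ = t⁻¹ * x₀⁻¹ := by rw [htinv, hx₀inv]
          _ = (x₀ * t)⁻¹ := by group
    · refine ⟨x₀, h, ?_⟩
      rw [hcx]
      symm
      rw [inv_eq_iff_mul_eq_one]
      calc x₀ * (z * x₀) = x₀ * (x₀ * z) := by rw [hzc x₀]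
        _ = (x₀ * x₀) * z := by group
        _ = 1 := by rw [h, hz2]
  have hc2 : c ^ 2 = z := by rw [pow_two]; exact hcc
  have hord : orderOf c = 4 := by
    have h := orderOf_eq_prime_pow (x := c) (p := 2) (n := 1)
      (by rw [pow_one, hc2]; exact hz1)
      (by
        have : c ^ 2 ^ (1 + 1) = (c ^ 2) ^ 2 := by rw [← pow_mul]; norm_num
        rw [this, hc2, pow_two, hz2])
    rw [h]
    norm_num
  have htn : t ∉ Subgroup.zpowers c := by
    intro h
    obtain ⟨k, hk⟩ := Subgroup.mem_zpowers_iff.mp h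
    have hcomm' : t * c = c * t := by
      rw [← hk]
      exact ((Commute.refl c).zpow_left k).eq
    have h1 : c⁻¹ = c := by
      rw [← htc]
      exact (commute_iff_conj t c).mp hcomm'
    apply hz1
    rw [← hcc]
    exact inv_eq_iff_mul_eq_one.mp h1
  exact Cfsg.Agent.Lib.Helper54_TwoGroups.nonempty_mulEquiv_dihedralGroup 4 c t hord ht2 htc htn
    (by rw [hcard])

end abstract2

/-- Let L be a finite non-abelian simple group with an involution z whose centralizer R is a Sylow 2-subgroup of L whose Frattini subgroup is the subgroup generated by z. Then R is dihedral of order 8. -/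
theorem result {L : Type*} [Group L] [Finite L] [IsSimpleGroup L] (hL : ¬ IsMulCommutative L) (z : L) (hz : orderOf z = 2) (R : Sylow 2 L) (hR : (R : Subgroup L) = Subgroup.centralizer ({z} : Set L)) (hΦ : (frattini ↥(R : Subgroup L)).map (R : Subgroup L).subtype = Subgroup.zpowers z) : Nonempty (↥(R : Subgroup L) ≃* DihedralGroup 4) := by
  have hz2 := z_sq z hz
  have hz1 := z_ne_one z hz
  have hzR := z_mem z R hR
  obtain ⟨g, htR, htz⟩ := exists_conj hL z hz R hR hΦ
  obtain ⟨x, hx, hx2⟩ := exists_sq_eq z hz R hΦ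
  generalize ht : g⁻¹ * z * g = t at htR htz
  have ht2 : t * t = 1 := by
    rw [← ht]
    calc g⁻¹ * z * g * (g⁻¹ * z * g) = g⁻¹ * z ^ 2 * g := by rw [pow_two]; group
      _ = 1 := by rw [hz2]; group
  -- the centralizer of `t` is the conjugate of `R`
  have hCt : ∀ y, t * y = y * t → g * y * g⁻¹ ∈ (R : Subgroup L) := by
    intro y hy
    rw [mem_R_iff z R hR]
    have h1 : z = g * t * g⁻¹ := by rw [← ht]; group
    rw [h1]
    calc g * t * g⁻¹ * (g * y * g⁻¹) = g * (t * y) * g⁻¹ := by group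
      _ = g * (y * t) * g⁻¹ := by rw [hy]
      _ = g * y * g⁻¹ * (g * t * g⁻¹) := by group
  have hkey : ∀ y ∈ (R : Subgroup L), y ^ 2 = z → t * y ≠ y * t := by
    intro y _ hy2 hyt
    have h2 := conj_z_of_conj_mem z hz R hΦ hy2 (hCt y hyt)
    apply htz
    rw [← ht]
    exact conj_inv_of_commute (commute_of_conj h2)
  have hB2 : ∀ y ∈ (R : Subgroup L), t * y = y * t → y * y = 1 := by
    intro y hy hyt
    rcases sq_mem z R hΦ hz2 hy with h | h
    · rw [← pow_two]; exact h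
    · exact absurd hyt (hkey y hy h)
  refine abstract_D8 (G := ↥(R : Subgroup L)) R.isPGroup' ⟨z, hzR⟩ ⟨t, htR⟩ ⟨x, hx⟩ ?_ ?_ ?_ ?_ ?_ ?_
    ?_ ?_ ?_
  · exact Subtype.ext (by rw [← pow_two] at *; exact hz2)
  · exact fun h => hz1 (congrArg Subtype.val h)
  · intro r
    exact Subtype.ext ((mem_R_iff z R hR r.1).mp r.2)
  · intro r
    rcases sq_mem z R hΦ hz2 r.2 with h | h
    · left; exact Subtype.ext (by rw [← pow_two]; exact h)
    · right; exact Subtype.ext (by rw [← pow_two]; exact h)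
  · intro a b
    rcases comm_mem z R hΦ hz2 a.2 b.2 with h | h
    · left; exact Subtype.ext h
    · right; exact Subtype.ext h
  · exact Subtype.ext ht2
  · exact fun h => hkey x hx hx2 (congrArg Subtype.val h)
  · intro y hy
    exact Subtype.ext (hB2 y.1 y.2 (congrArg Subtype.val hy))
  · intro w hw hw2
    have h1 : (w : L) ^ 2 = 1 := by
      rw [pow_two]; exact congrArg Subtype.val hw2
    rcases central_eq hL z hz R hR hΦ w.2
      (fun r hr => congrArg Subtype.val (hw ⟨r, hr⟩)) h1 with h | h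
    · left; exact Subtype.ext h
    · right; exact Subtype.ext h

end Cfsg.Agent.S5435
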