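import Cfsg.Statements.S5436
import Cfsg.Agent.S5427
import Cfsg.Agent.S5426
import Cfsg.Agent.S5422
import Cfsg.Agent.S5433
import Cfsg.Agent.Lib.Helper69_LESBase
import Cfsg.Agent.Lib.Helper63_Heisenberg

set_option autoImplicit false
open Cfsg

namespace Cfsg.Agent.S5436

/-- the closure of a conjugation-invariant set is normal -/
theorem closure_normal_of_conj_invariant {H : Type*} [Group H] (s : Set H)
    (hs : ∀ x ∈ s, ∀ c : H, c * x * c⁻¹ ∈ s) : (Subgroup.closure s).Normal := by
  constructor
  intro n hn c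
  induction hn using Subgroup.closure_induction with
  | mem y hy => exact Subgroup.subset_closure (hs y hy c)
  | one => simp
  | mul x y _ _ hx hy =>
    have e : c * (x * y) * c⁻¹ = (c * x * c⁻¹) * (c * y * c⁻¹) := by group
    rw [e]; exact Subgroup.mul_mem _ hx hy
  | inv x _ hx =>
    have e : c * x⁻¹ * c⁻¹ = (c * x * c⁻¹)⁻¹ := by group
    rw [e]; exact Subgroup.inv_mem _ hx

/-- a normal subgroup containing a normal subgroup with simple quotient -/
theorem eq_or_eq_top_of_simple_quotient {H : Type*} [Group H] (Q : Subgroup H) [Q.Normal]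
    (hs : IsSimpleGroup (H ⧸ Q)) (N : Subgroup H) [hN : N.Normal] (hQN : Q ≤ N) :
    N = Q ∨ N = ⊤ := by
  have hn : (N.map (QuotientGroup.mk' Q)).Normal :=
    hN.map _ (QuotientGroup.mk'_surjective Q)
  rcases hs.eq_bot_or_eq_top_of_normal _ hn with h | h
  · left
    apply le_antisymm _ hQN
    rw [Subgroup.map_eq_bot_iff, QuotientGroup.ker_mk'] at h
    exact h
  · right
    have h2 := Subgroup.comap_map_eq (QuotientGroup.mk' Q) N
    rw [h, Subgroup.comap_top, QuotientGroup.ker_mk', sup_eq_left.mpr hQN] at h2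
    exact h2.symm


/-- Let z be an involution of the finite group G with centralizer H whose generalized Fitting subgroup Q is extraspecial of width at least 2 (order 2^(2w+1), w ≥ 2); suppose some conjugate of z other than z lies in Q, H/Q is a non-abelian simple group, H acts irreducibly by conjugation on Q modulo the subgroup generated by z (the only H-invariant subgroups of Q containing z are that subgroup and Q), and Q is not the subgroup generated by the conjugates of z lying in H. Then G is simple. -/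
theorem result {G : Type*} [Group G] [Finite G] (z : G) (hz : orderOf z = 2) (Q : Subgroup (Subgroup.centralizer ({z} : Set G))) [Q.Normal] (hF : Cfsg.generalizedFittingSubgroup ↥(Subgroup.centralizer ({z} : Set G)) = Q) (hQ : Cfsg.IsExtraspecial 2 ↥Q) (w : ℕ) (hw : 2 ≤ w) (hcard : Nat.card ↥Q = 2 ^ (2 * w + 1)) (hnwc : ∃ g : G, (∃ hq : g * z * g⁻¹ ∈ Subgroup.centralizer ({z} : Set G), (⟨g * z * g⁻¹, hq⟩ : Subgroup.centralizer ({z} : Set G)) ∈ Q) ∧ g * z * g⁻¹ ≠ z) (hsimp : IsSimpleGroup (↥(Subgroup.centralizer ({z} : Set G)) ⧸ Q)) (hna : ¬ IsMulCommutative (↥(Subgroup.centralizer ({z} : Set G)) ⧸ Q)) (hirr : ∀ W : Subgroup (Subgroup.centralizer ({z} : Set G)), W.Normal → W ≤ Q → (W = Q ∨ ∀ x ∈ W, (x : G) ∈ Subgroup.zpowers z)) (hwcl : Subgroup.closure {x : Subgroup.centralizer ({z} : Set G) | IsConj z (x : G)} ≠ Q) : IsSimpleGroup G := by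
  have : Fact (Nat.Prime 2) := ⟨Nat.prime_two⟩
  obtain ⟨QG, hQG⟩ : ∃ QG : Subgroup G,
    QG = Q.map (Subgroup.centralizer ({z} : Set G)).subtype := ⟨_, rfl⟩
  have hmemQG : ∀ x : ↥(Subgroup.centralizer ({z} : Set G)), (x : G) ∈ QG ↔ x ∈ Q := by
    intro x
    rw [hQG]
    constructor
    · rintro ⟨y, hy, hxy⟩
      have : y = x := Subtype.ext hxy
      rwa [← this]
    · intro hx
      exact ⟨x, hx, rfl⟩
  have hQGC : QG ≤ Subgroup.centralizer ({z} : Set G) := by
    rw [hQG]
    rintro _ ⟨y, _, rfl⟩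
    exact y.2
  have hF' : (Cfsg.generalizedFittingSubgroup ↥(Subgroup.centralizer ({z} : Set G))).map
      (Subgroup.centralizer ({z} : Set G)).subtype = QG := by rw [hF, hQG]
  have hQ' : Cfsg.IsExtraspecial 2 ↥QG := by
    rw [hQG]
    exact Cfsg.Agent.Lib.Helper63_Heisenberg.isExtraspecial_of_mulEquiv
      (Q.equivMapOfInjective _ (Subgroup.subtype_injective _)) hQ
  have hcard' : Nat.card ↥QG = 2 ^ (2 * w + 1) := by
    rw [hQG, Subgroup.card_map_of_injective (Subgroup.subtype_injective _)]
    exact hcard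
  obtain ⟨hzQ, hZ, hL2, hL3, hO2⟩ := Cfsg.Agent.S5427.setting z hz QG hF' hQ'
  have hzz : z * z = 1 := by
    have := pow_orderOf_eq_one z
    rwa [hz, pow_two] at this
  have hz1 : z ≠ 1 := by
    intro h
    rw [h, orderOf_one] at hz
    omega
  have hconj1 : ∀ g : G, g * z * g⁻¹ ≠ 1 := by
    intro g h
    apply hz1
    calc z = g⁻¹ * (g * z * g⁻¹) * g := by group
      _ = 1 := by rw [h]; group
  obtain ⟨g, ⟨hq, hgQ⟩, hgz⟩ := hnwc
  have hgQG : g * z * g⁻¹ ∈ QG := (hmemQG ⟨_, hq⟩).mpr hgQ
  have hgnz : g * z * g⁻¹ ∉ Subgroup.zpowers z := by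
    intro h
    rcases Cfsg.Agent.Lib.Helper69_LESBase.mem_zpowers_invol hzz h with h | h
    · exact hconj1 g h
    · exact hgz h
  -- `QG` is large
  have hlarge : Cfsg.IsLargeExtraspecial QG := by
    refine (Cfsg.Agent.S5422.result QG hQ' hL2 hL3 w hw hcard' g ?_ ?_).2.2
    · rw [hZ]
      intro hgN
      exact hgnz ((Subgroup.mem_normalizer_iff.mp hgN z).mp (Subgroup.mem_zpowers z))
    · rw [hZ, MonoidHom.map_zpowers, Subgroup.zpowers_le]
      exact hgQG
  have hles := Cfsg.Agent.Lib.Helper69_LESBase.les_of_large QG hlarge z hZ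
  obtain ⟨M, hM⟩ : ∃ M : Subgroup G, M = Subgroup.normalClosure ({z} : Set G) := ⟨_, rfl⟩
  have hMn : M.Normal := by rw [hM]; exact Subgroup.normalClosure_normal
  have hzM : z ∈ M := by
    rw [hM]; exact Subgroup.subset_normalClosure (Set.mem_singleton z)
  -- the normalizer of `QG` centralizes `z`
  have hNC : ∀ k : G, (∀ q ∈ QG, k⁻¹ * q * k ∈ QG) → k * z * k⁻¹ = z := by
    intro k hk
    have hcomm : ∀ q ∈ QG, q * (k * z * k⁻¹) = (k * z * k⁻¹) * q := by
      intro q hq
      have := hles.zc _ (hk q hq)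
      calc q * (k * z * k⁻¹) = k * ((k⁻¹ * q * k) * z) * k⁻¹ := by group
        _ = k * (z * (k⁻¹ * q * k)) * k⁻¹ := by rw [this]
        _ = (k * z * k⁻¹) * q := by group
    rcases hles.cent _ hcomm with h | h
    · exact absurd h (hconj1 k)
    · exact h
  -- `QG ≤ M`
  have hMCn : (M.subgroupOf (Subgroup.centralizer ({z} : Set G))).Normal := inferInstance
  have hQM : QG ≤ M := by
    have hWn : (M.subgroupOf (Subgroup.centralizer ({z} : Set G)) ⊓ Q).Normal := inferInstance
    rcases hirr _ hWn inf_le_right with h | h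
    · intro x hx
      have hxC := hQGC hx
      have hxQ : (⟨x, hxC⟩ : ↥(Subgroup.centralizer ({z} : Set G))) ∈ Q := (hmemQG ⟨x, hxC⟩).mp hx
      rw [← h] at hxQ
      exact Subgroup.mem_subgroupOf.mp (Subgroup.mem_inf.mp hxQ).1
    · exfalso
      apply hgnz
      apply h ⟨g * z * g⁻¹, hq⟩
      refine Subgroup.mem_inf.mpr ⟨?_, hgQ⟩
      rw [Subgroup.mem_subgroupOf]
      exact hMn.conj_mem z hzM g
  rcases Cfsg.Agent.S5426.result QG hlarge z hZ M hM with h1 | ⟨h1, _⟩ | ⟨_, h2, _⟩ | h4
  · -- `QG` normal: `z` is central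
    exfalso
    apply hgz
    apply hNC
    intro q hq
    have := h1.conj_mem q hq g⁻¹
    rwa [inv_inv] at this
  · -- `M` abelian: then `QG` is abelian
    exfalso
    have hcen : Subgroup.center ↥QG = ⊤ := by
      rw [eq_top_iff]
      intro x _
      rw [Subgroup.mem_center_iff]
      intro y
      apply Subtype.ext
      have := h1.is_comm.comm ⟨(y : G), hQM y.2⟩ ⟨(x : G), hQM x.2⟩
      have h5 : (y : G) * (x : G) = (x : G) * (y : G) := congrArg Subtype.val this
      exact h5
    have hc2 : Nat.card (Subgroup.center ↥QG) = 2 := hQ'.2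
    rw [hcen, Subgroup.card_top, hcard'] at hc2
    have : 2 ^ 1 < 2 ^ (2 * w + 1) := Nat.pow_lt_pow_right (by norm_num) (by omega)
    omega
  · -- `M` simple
    have htop := Cfsg.Agent.S5433.result QG hlarge M hQM
    have hNCz : Subgroup.normalizer (QG : Set G) ≤ Subgroup.centralizer ({z} : Set G) := by
      intro k hk
      rw [Cfsg.Agent.Lib.Helper69_LESBase.mem_centralizer_singleton]
      have h5 : k * z * k⁻¹ = z := by
        apply hNC
        intro q hq
        have := (Subgroup.mem_normalizer_iff.mp (Subgroup.inv_mem _ hk) q).mp hq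
        rwa [inv_inv] at this
      calc k * z = (k * z * k⁻¹) * k := by group
        _ = z * k := by rw [h5]
    have hQMC : Q ≤ M.subgroupOf (Subgroup.centralizer ({z} : Set G)) := by
      intro x hx
      rw [Subgroup.mem_subgroupOf]
      exact hQM ((hmemQG x).mpr hx)
    rcases eq_or_eq_top_of_simple_quotient Q hsimp _ hQMC with h | h
    · -- contradiction with `hwcl`
      exfalso
      apply hwcl
      have hle : Subgroup.closure {x : ↥(Subgroup.centralizer ({z} : Set G)) | IsConj z (x : G)} ≤ Q := by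
        rw [Subgroup.closure_le]
        intro x hx
        rw [← h, SetLike.mem_coe, Subgroup.mem_subgroupOf]
        obtain ⟨c, hc⟩ := isConj_iff.mp hx
        rw [← hc]
        exact hMn.conj_mem z hzM c
      have hWn : (Subgroup.closure
          {x : ↥(Subgroup.centralizer ({z} : Set G)) | IsConj z (x : G)}).Normal := by
        apply closure_normal_of_conj_invariant
        intro x hx c
        obtain ⟨d, hd⟩ := isConj_iff.mp hx
        apply isConj_iff.mpr
        refine ⟨(c : G) * d, ?_⟩
        simp only [Subgroup.coe_mul, Subgroup.coe_inv]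
        rw [← hd]
        group
      rcases hirr _ hWn hle with h' | h'
      · exact h'
      · exfalso
        apply hgnz
        apply h' ⟨g * z * g⁻¹, hq⟩
        apply Subgroup.subset_closure
        exact isConj_iff.mpr ⟨g, rfl⟩
    · have hCM : Subgroup.centralizer ({z} : Set G) ≤ M := by
        intro x hx
        have : (⟨x, hx⟩ : ↥(Subgroup.centralizer ({z} : Set G))) ∈
            M.subgroupOf (Subgroup.centralizer ({z} : Set G)) := by
          rw [h]; exact Subgroup.mem_top _
        exact Subgroup.mem_subgroupOf.mp this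
      have hMtop : M = ⊤ := by
        rw [← htop]
        exact (sup_eq_left.mpr (hNCz.trans hCM)).symm
      rw [hMtop] at h2
      exact (Subgroup.topEquiv.isSimpleGroup_congr).mp h2
  · -- `QG = O_2(C_G(z))`
    exfalso
    obtain ⟨-, L, u, -, -, -, -, -, -, z₁, -, -, -, hne⟩ := h4
    exact hne hO2

end Cfsg.Agent.S5436
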