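import Cfsg.Statements.S5438

set_option autoImplicit false
open Cfsg

namespace Cfsg.Agent.S5438

theorem smul_mk_eq_iff {G : Type*} [Group G] (H : Subgroup G) (g x : G) :
    x • (g : G ⧸ H) = (g : G ⧸ H) ↔ g⁻¹ * x * g ∈ H := by
  rw [MulAction.Quotient.smul_mk, eq_comm, QuotientGroup.eq]
  simp [mul_assoc]

/-- An involution acting on a finite set: the number of points is congruent mod 2 to the number
of fixed points. -/
theorem card_modEq_two {C α : Type*} [Group C] [MulAction C α] [Finite α] (t : C) (ht : t * t = 1) :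
    Nat.card α ≡ Nat.card {p : α // t • p = p} [MOD 2] := by
  have : Fact (Nat.Prime 2) := ⟨Nat.prime_two⟩
  have hp : IsPGroup 2 (Subgroup.zpowers t) := by
    rintro ⟨s, hs⟩
    refine ⟨1, ?_⟩
    obtain ⟨n, rfl⟩ := Subgroup.mem_zpowers_iff.mp hs
    apply Subtype.ext
    show (t ^ n) ^ (2 ^ 1) = 1
    rw [pow_one, ← zpow_natCast, ← zpow_mul, mul_comm, zpow_mul, zpow_natCast, pow_two, ht, one_zpow]
  have h := hp.card_modEq_card_fixedPoints α
  have hset : (MulAction.fixedPoints (Subgroup.zpowers t) α) = {p : α | t • p = p} := by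
    ext p
    show (∀ m : Subgroup.zpowers t, m • p = p) ↔ t • p = p
    constructor
    · intro h
      exact h ⟨t, Subgroup.mem_zpowers t⟩
    · rintro h ⟨s, hs⟩
      have : Subgroup.zpowers t ≤ MulAction.stabilizer C p :=
        Subgroup.zpowers_le.mpr (MulAction.mem_stabilizer_iff.mpr h)
      exact MulAction.mem_stabilizer_iff.mp (this hs)
  rw [hset] at h
  exact h

/-- Let z be a 2-central involution of the finite group G (an involution central in some Sylow 2-subgroup) and H a subgroup containing z such that the coset H is the only coset of H fixed by z (in the action of G on the cosets of H). Then H has odd index in G, and for every 2-element x of H the conjugates of x lying in H form a single H-class. -/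
theorem result {G : Type*} [Group G] [Finite G] (z : G) (hz : Cfsg.IsTwoCentralInvolution z) (H : Subgroup G) (hzH : z ∈ H) (hfix : ∀ g : G, g⁻¹ * z * g ∈ H → g ∈ H) : Odd H.index ∧ ∀ x ∈ H, (∃ k : ℕ, orderOf x = 2 ^ k) → ∀ g : G, g * x * g⁻¹ ∈ H → ∃ h ∈ H, h * x * h⁻¹ = g * x * g⁻¹ := by
  have : Fact (Nat.Prime 2) := ⟨Nat.prime_two⟩
  obtain ⟨hz2, P, hzP, hzc⟩ := hz
  have hzz : z * z = 1 := by
    have h : z ^ 2 = 1 := by rw [← hz2]; exact pow_orderOf_eq_one z
    rw [← pow_two]; exact h
  -- the centralizer of z lies in H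
  have hCz : ∀ g : G, g * z = z * g → g ∈ H := by
    intro g hg
    apply hfix
    have : g⁻¹ * z * g = z := by rw [mul_assoc, ← hg, ← mul_assoc, inv_mul_cancel, one_mul]
    rw [this]; exact hzH
  have hPH : (P : Subgroup G) ≤ H := fun x hx => hCz x (hzc x hx)
  -- converse of hfix
  have hfix' : ∀ g : G, g⁻¹ * z * g ∈ H ↔ g ∈ H :=
    fun g => ⟨hfix g, fun hg => H.mul_mem (H.mul_mem (H.inv_mem hg) hzH) hg⟩
  refine ⟨?_, ?_⟩
  · have h1 : H.index ∣ (P : Subgroup G).index := Subgroup.index_dvd_of_le hPH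
    have h2 : ¬ 2 ∣ (P : Subgroup G).index := P.not_dvd_index
    have h3 : ¬ 2 ∣ H.index := fun h => h2 (h.trans h1)
    exact Nat.odd_iff.mpr (Nat.two_dvd_ne_zero.mp h3)
  · intro x hxH ⟨e, he⟩ g hgx
    -- Step A: for each fixed coset of x, an involution commuting with x fixing only that coset
    have stepA : ∀ k : G, k⁻¹ * x * k ∈ H → ∃ t : G, t * t = 1 ∧ t * x = x * t ∧
        ∀ j : G, (j⁻¹ * t * j ∈ H ↔ k⁻¹ * j ∈ H) := by
      intro k hk
      -- y = k⁻¹ x k is a 2-element of H
      set y : H := ⟨k⁻¹ * x * k, hk⟩ with hydef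
      have hy2 : IsPGroup 2 (Subgroup.zpowers y) := by
        rintro ⟨s, hs⟩
        refine ⟨e, ?_⟩
        obtain ⟨n, rfl⟩ := Subgroup.mem_zpowers_iff.mp hs
        apply Subtype.ext
        apply Subtype.ext
        show ((k⁻¹ * x * k) ^ n) ^ (2 ^ e) = 1
        have hx1 : x ^ (2 ^ e) = 1 := by rw [← he]; exact pow_orderOf_eq_one x
        have hc : (k⁻¹ * x * k) ^ (2 ^ e) = 1 := by
          have := conj_pow (a := k⁻¹) (b := x) (i := 2 ^ e)
          rw [inv_inv] at this
          rw [this, hx1]; group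
        rw [← zpow_natCast, ← zpow_mul, mul_comm, zpow_mul, zpow_natCast, hc, one_zpow]
      obtain ⟨R, hR⟩ := hy2.exists_le_sylow
      obtain ⟨h, hh⟩ := MulAction.exists_smul_eq H (P.subtype hPH) R
      have hyR : y ∈ (R : Subgroup H) := hR (Subgroup.mem_zpowers y)
      rw [← hh, Sylow.coe_subgroup_smul, Subgroup.mem_smul_pointwise_iff_exists] at hyR
      obtain ⟨s, hs, hsy⟩ := hyR
      rw [Sylow.coe_subtype, Subgroup.mem_subgroupOf] at hs
      -- y = h s h⁻¹ with s ∈ P
      have hsy' : (h : G) * (s : G) * (h : G)⁻¹ = k⁻¹ * x * k := by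
        have := congrArg (Subtype.val) hsy
        simpa [MulAut.smul_def, MulAut.conj_apply] using this
      have hsz : (s : G) * z = z * (s : G) := hzc _ hs
      refine ⟨k * h * z * (h : G)⁻¹ * k⁻¹, ?_, ?_, ?_⟩
      · calc k * h * z * (h : G)⁻¹ * k⁻¹ * (k * h * z * (h : G)⁻¹ * k⁻¹)
            = k * h * (z * z) * (h : G)⁻¹ * k⁻¹ := by group
          _ = 1 := by rw [hzz]; group
      · have hx : x = k * (h * s * (h : G)⁻¹) * k⁻¹ := by rw [hsy']; group
        calc k * h * z * (h : G)⁻¹ * k⁻¹ * x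
            = k * h * z * (h : G)⁻¹ * k⁻¹ * (k * (h * s * (h : G)⁻¹) * k⁻¹) := by rw [← hx]
          _ = k * h * (z * s) * (h : G)⁻¹ * k⁻¹ := by group
          _ = k * h * (s * z) * (h : G)⁻¹ * k⁻¹ := by rw [hsz]
          _ = (k * (h * s * (h : G)⁻¹) * k⁻¹) * (k * h * z * (h : G)⁻¹ * k⁻¹) := by group
          _ = x * (k * h * z * (h : G)⁻¹ * k⁻¹) := by rw [← hx]
      · intro j
        have h1 : j⁻¹ * (k * h * z * (h : G)⁻¹ * k⁻¹) * j
            = ((h : G)⁻¹ * k⁻¹ * j)⁻¹ * z * ((h : G)⁻¹ * k⁻¹ * j) := by group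
        rw [h1, hfix']
        constructor
        · intro hm
          have := H.mul_mem h.2 hm
          simpa [mul_assoc] using this
        · intro hm
          have := H.mul_mem (H.inv_mem h.2) hm
          simpa [mul_assoc] using this
    -- Step B: the centralizer of x is transitive on the fixed cosets of x
    obtain ⟨t₁, ht₁, hc₁, hf₁⟩ := stepA 1 (by simpa using hxH)
    obtain ⟨t₂, ht₂, hc₂, hf₂⟩ := stepA g⁻¹ (by simpa using hgx)
    have hmemC : ∀ t : G, t * x = x * t → t ∈ Subgroup.centralizer ({x} : Set G) := by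
      intro t ht
      rw [Subgroup.mem_centralizer_iff]
      intro y hy
      rw [Set.mem_singleton_iff] at hy
      subst hy
      exact ht.symm
    set C := Subgroup.centralizer ({x} : Set G) with hCdef
    set ω₂ : G ⧸ H := ((g⁻¹ : G) : G ⧸ H) with hω₂
    have key : ((1 : G) : G ⧸ H) ∈ MulAction.orbit C ω₂ := by
      by_contra hnot
      let T₁ : C := ⟨t₁, hmemC t₁ hc₁⟩
      let T₂ : C := ⟨t₂, hmemC t₂ hc₂⟩
      have hT₁ : T₁ * T₁ = 1 := Subtype.ext ht₁
      have hT₂ : T₂ * T₂ = 1 := Subtype.ext ht₂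
      have e1 := card_modEq_two (α := MulAction.orbit C ω₂) T₁ hT₁
      have e2 := card_modEq_two (α := MulAction.orbit C ω₂) T₂ hT₂
      -- T₁ has no fixed points on the orbit
      have c1 : Nat.card {p : MulAction.orbit C ω₂ // T₁ • p = p} = 0 := by
        have : IsEmpty {p : MulAction.orbit C ω₂ // T₁ • p = p} := by
          constructor
          rintro ⟨⟨p, hp⟩, hfixp⟩
          have hfp : t₁ • p = p := congrArg Subtype.val hfixp
          induction p using QuotientGroup.induction_on with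
          | H j =>
            rw [smul_mk_eq_iff, hf₁ j] at hfp
            apply hnot
            have : ((1 : G) : G ⧸ H) = (j : G ⧸ H) := QuotientGroup.eq.mpr hfp
            rw [this]; exact hp
        exact Nat.card_of_isEmpty
      -- T₂ has exactly one fixed point on the orbit
      have c2 : Nat.card {p : MulAction.orbit C ω₂ // T₂ • p = p} = 1 := by
        have hω₂fix : t₂ • ω₂ = ω₂ := by
          rw [hω₂, smul_mk_eq_iff, hf₂]; simp
        rw [Nat.card_eq_one_iff_unique]
        refine ⟨⟨?_⟩, ⟨⟨⟨ω₂, MulAction.mem_orbit_self ω₂⟩, ?_⟩⟩⟩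
        · rintro ⟨⟨p, hp⟩, hfixp⟩ ⟨⟨q, hq⟩, hfixq⟩
          have hfp : t₂ • p = p := congrArg Subtype.val hfixp
          have hfq : t₂ • q = q := congrArg Subtype.val hfixq
          have huniq : ∀ r : G ⧸ H, t₂ • r = r → r = ω₂ := by
            intro r hr
            induction r using QuotientGroup.induction_on with
            | H j =>
              rw [smul_mk_eq_iff, hf₂ j] at hr
              exact (QuotientGroup.eq.mpr hr).symm
          apply Subtype.ext
          apply Subtype.ext
          show p = q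
          rw [huniq p hfp, huniq q hfq]
        · apply Subtype.ext
          show T₂ • ω₂ = ω₂
          exact hω₂fix
      rw [c1] at e1
      rw [c2] at e2
      have := e1.symm.trans e2
      exact absurd this (by decide)
    obtain ⟨⟨c, hcC⟩, hc⟩ := key
    -- c • ↑g⁻¹ = ↑1
    have hc' : ((c * g⁻¹ : G) : G ⧸ H) = ((1 : G) : G ⧸ H) := hc
    have hcg : c * g⁻¹ ∈ H := by
      have := QuotientGroup.eq.mp hc'
      simpa using H.inv_mem this
    refine ⟨(c * g⁻¹)⁻¹, H.inv_mem hcg, ?_⟩
    rw [Subgroup.mem_centralizer_iff] at hcC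
    have hcx : x * c = c * x := hcC x rfl
    have : c⁻¹ * x * c = x := by rw [mul_assoc, hcx, ← mul_assoc, inv_mul_cancel, one_mul]
    calc (c * g⁻¹)⁻¹ * x * (c * g⁻¹)⁻¹⁻¹ = g * (c⁻¹ * x * c) * g⁻¹ := by group
      _ = g * x * g⁻¹ := by rw [this]

end Cfsg.Agent.S5438
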