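import Cfsg.Statements.S5439

set_option autoImplicit false
open Cfsg

namespace Cfsg.Agent.S5439

theorem smul_mk_eq_iff {G : Type*} [Group G] (H : Subgroup G) (g x : G) :
    x • (g : G ⧸ H) = (g : G ⧸ H) ↔ g⁻¹ * x * g ∈ H := by
  rw [MulAction.Quotient.smul_mk, eq_comm, QuotientGroup.eq]
  simp [mul_assoc]

theorem mul_self_of_orderOf_two {G : Type*} [Group G] {a : G} (ha : orderOf a = 2) : a * a = 1 := by
  have h : a ^ 2 = 1 := by rw [← ha]; exact pow_orderOf_eq_one a
  rw [← pow_two]; exact h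

/-- For involutions `a`, `b`: `a (ab)^k = (ba)^k a`. -/
theorem mul_pow_comm {G : Type*} [Group G] {a b : G} (ha : a * a = 1) (k : ℕ) :
    a * (a * b) ^ k = (b * a) ^ k * a := by
  induction k with
  | zero => simp
  | succ k ih =>
    calc a * (a * b) ^ (k + 1) = (a * (a * b) ^ k) * (a * b) := by rw [pow_succ]; group
      _ = (b * a) ^ k * a * (a * b) := by rw [ih]
      _ = (b * a) ^ k * ((a * a) * b) := by group
      _ = (b * a) ^ k * b := by rw [ha, one_mul]
      _ = (b * a) ^ k * (b * (a * a)) := by rw [ha, mul_one]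
      _ = (b * a) ^ (k + 1) * a := by rw [pow_succ]; group

theorem ba_eq_inv {G : Type*} [Group G] {a b : G} (ha : a * a = 1) (hb : b * b = 1) :
    b * a = (a * b)⁻¹ := by
  apply eq_inv_of_mul_eq_one_left
  calc b * a * (a * b) = b * (a * a) * b := by group
    _ = 1 := by rw [ha, mul_one, hb]

/-- `a (ab)^k = ((ab)^k)⁻¹ a`. -/
theorem mul_pow_comm' {G : Type*} [Group G] {a b : G} (ha : a * a = 1) (hb : b * b = 1) (k : ℕ) :
    a * (a * b) ^ k = ((a * b) ^ k)⁻¹ * a := by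
  rw [mul_pow_comm ha k, ba_eq_inv ha hb, inv_pow]

/-- `((ab)^k)⁻¹ = a (ab)^k a`. -/
theorem inv_pow_eq {G : Type*} [Group G] {a b : G} (ha : a * a = 1) (hb : b * b = 1) (k : ℕ) :
    ((a * b) ^ k)⁻¹ = a * (a * b) ^ k * a := by
  rw [mul_pow_comm' ha hb k, mul_assoc, ha, mul_one]

/-- If `ab` has odd order then `a` and `b` are conjugate. -/
theorem isConj_of_pow_odd {G : Type*} [Group G] {a b : G} (ha : a * a = 1) (hb : b * b = 1) (k : ℕ)
    (h : (a * b) ^ (2 * k + 1) = 1) : IsConj a b := by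
  rw [isConj_iff]
  refine ⟨(a * b) ^ k, ?_⟩
  have h2 : (a * b) ^ k * (a * b) ^ k = b * a := by
    rw [ba_eq_inv ha hb]
    apply eq_inv_of_mul_eq_one_left
    rw [← pow_add, ← pow_succ]
    have : k + k + 1 = 2 * k + 1 := by ring
    rw [this]; exact h
  calc (a * b) ^ k * a * ((a * b) ^ k)⁻¹ = (a * b) ^ k * a * (a * (a * b) ^ k * a) := by
        rw [inv_pow_eq ha hb k]
    _ = (a * b) ^ k * (a * a) * (a * b) ^ k * a := by group
    _ = ((a * b) ^ k * (a * b) ^ k) * a := by rw [ha, mul_one]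
    _ = b * (a * a) := by rw [h2, mul_assoc]
    _ = b := by rw [ha, mul_one]

/-- `a (ab)^(2k)` is conjugate to `a`. -/
theorem isConj_mul_pow_even {G : Type*} [Group G] {a b : G} (ha : a * a = 1) (hb : b * b = 1) (k : ℕ) :
    IsConj a (a * (a * b) ^ (2 * k)) := by
  rw [isConj_iff]
  refine ⟨((a * b) ^ k)⁻¹, ?_⟩
  rw [inv_inv, ← mul_pow_comm' ha hb k, two_mul, pow_add]
  group

/-- `a (ab)^(2k+1)` is conjugate to `b`. -/
theorem isConj_mul_pow_odd {G : Type*} [Group G] {a b : G} (ha : a * a = 1) (hb : b * b = 1) (k : ℕ) :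
    IsConj b (a * (a * b) ^ (2 * k + 1)) := by
  rw [isConj_iff]
  refine ⟨((a * b) ^ k)⁻¹, ?_⟩
  rw [inv_inv]
  have h1 : a * (a * b) ^ (2 * k + 1) = (a * (a * b) ^ k) * (a * b) * (a * b) ^ k := by
    have : 2 * k + 1 = k + 1 + k := by ring
    rw [this, pow_add, pow_succ]; group
  rw [h1, mul_pow_comm' ha hb k]
  have h2 : ((a * b) ^ k)⁻¹ * a * (a * b) = ((a * b) ^ k)⁻¹ * ((a * a) * b) := by group
  rw [h2, ha, one_mul]

/-- Let I and J be two different conjugacy classes of involutions of the finite group G and H a subgroup such that every member of I ∪ J fixes exactly one coset in the action on the cosets of H, and such that for every a in I ∩ H and every b in (I ∪ J) ∩ H different from a and commuting with it, the centralizer of a b lies in H. Then H = G. -/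
theorem result {G : Type*} [Group G] [Finite G] (I J : Set G) (a₀ b₀ : G) (ha₀ : orderOf a₀ = 2) (hb₀ : orderOf b₀ = 2) (hI : I = {x | IsConj a₀ x}) (hJ : J = {x | IsConj b₀ x}) (hIJ : I ≠ J) (H : Subgroup G) (hfix : ∀ x ∈ I ∪ J, ∃! c : G ⧸ H, x • c = c) (hcent : ∀ a ∈ I, a ∈ H → ∀ b ∈ I ∪ J, b ∈ H → a ≠ b → a * b = b * a → Subgroup.centralizer ({a * b} : Set G) ≤ H) : H = ⊤ := by
  by_contra hH
  obtain ⟨g, hg⟩ : ∃ g : G, g ∉ H := by
    by_contra h
    exact hH (eq_top_iff.mpr fun x _ => by_contra fun hx => h ⟨x, hx⟩)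
  -- a key consequence of uniqueness: if x ∈ I ∪ J fixes two cosets they agree
  have huniq : ∀ x ∈ I ∪ J, ∀ g₁ g₂ : G, g₁⁻¹ * x * g₁ ∈ H → g₂⁻¹ * x * g₂ ∈ H → g₁⁻¹ * g₂ ∈ H := by
    intro x hx g₁ g₂ h1 h2
    obtain ⟨c, _, hc⟩ := hfix x hx
    have e1 : ((g₁ : G) : G ⧸ H) = c := hc _ (by show x • ((g₁ : G) : G ⧸ H) = _; rw [smul_mk_eq_iff]; exact h1)
    have e2 : ((g₂ : G) : G ⧸ H) = c := hc _ (by show x • ((g₂ : G) : G ⧸ H) = _; rw [smul_mk_eq_iff]; exact h2)
    exact QuotientGroup.eq.mp (e1.trans e2.symm)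
  have ha₀I : a₀ ∈ I := by rw [hI]; exact IsConj.refl a₀
  have hb₀J : b₀ ∈ J := by rw [hJ]; exact IsConj.refl b₀
  -- find a ∈ I ∩ H
  obtain ⟨g₁, hg₁⟩ : ∃ g₁ : G, g₁⁻¹ * a₀ * g₁ ∈ H := by
    obtain ⟨c, hc, _⟩ := hfix a₀ (Or.inl ha₀I)
    induction c using QuotientGroup.induction_on with
    | H g₁ => exact ⟨g₁, (smul_mk_eq_iff H g₁ a₀).mp hc⟩
  obtain ⟨g₂, hg₂⟩ : ∃ g₂ : G, g₂⁻¹ * b₀ * g₂ ∈ H := by
    obtain ⟨c, hc, _⟩ := hfix b₀ (Or.inr hb₀J)
    induction c using QuotientGroup.induction_on with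
    | H g₂ => exact ⟨g₂, (smul_mk_eq_iff H g₂ b₀).mp hc⟩
  obtain ⟨a, hadef⟩ : ∃ a : G, a = g₁⁻¹ * a₀ * g₁ := ⟨_, rfl⟩
  obtain ⟨b', hb'def⟩ : ∃ b' : G, b' = g₂⁻¹ * b₀ * g₂ := ⟨_, rfl⟩
  obtain ⟨b, hbdef⟩ : ∃ b : G, b = g * b' * g⁻¹ := ⟨_, rfl⟩
  rw [← hadef] at hg₁
  rw [← hb'def] at hg₂
  have haI : a ∈ I := by
    rw [hI]; show IsConj a₀ a
    rw [isConj_iff]; exact ⟨g₁⁻¹, by rw [inv_inv, hadef]⟩
  have hbJ : b ∈ J := by
    rw [hJ]; show IsConj b₀ b
    rw [isConj_iff]; exact ⟨g * g₂⁻¹, by rw [hbdef, hb'def]; group⟩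
  have haa : a * a = 1 := by
    have := mul_self_of_orderOf_two ha₀
    calc a * a = g₁⁻¹ * (a₀ * a₀) * g₁ := by rw [hadef]; group
      _ = 1 := by rw [this]; group
  have hbb : b * b = 1 := by
    have := mul_self_of_orderOf_two hb₀
    calc b * b = g * g₂⁻¹ * (b₀ * b₀) * g₂ * g⁻¹ := by rw [hbdef, hb'def]; group
      _ = 1 := by rw [this]; group
  have hab : ¬ IsConj a b := by
    intro h
    apply hIJ
    have h0 : IsConj a₀ b₀ := by
      have h1 : IsConj a₀ a := by rw [hI] at haI; exact haI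
      have h2 : IsConj b₀ b := by rw [hJ] at hbJ; exact hbJ
      exact (h1.trans h).trans h2.symm
    rw [hI, hJ]
    ext x
    exact ⟨fun hx => h0.symm.trans hx, fun hx => h0.trans hx⟩
  -- b fixes the coset of g
  have hbg : g⁻¹ * b * g ∈ H := by
    have : g⁻¹ * b * g = b' := by rw [hbdef]; group
    rw [this]; exact hg₂
  -- the order of a * b is even
  obtain ⟨r, hrdef⟩ : ∃ r : G, r = a * b := ⟨_, rfl⟩
  have hnpos : 0 < orderOf r := orderOf_pos r
  obtain ⟨m, hm⟩ : ∃ m, orderOf r = 2 * m := by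
    rcases Nat.even_or_odd' (orderOf r) with ⟨k, hk | hk⟩
    · exact ⟨k, hk⟩
    · exfalso
      apply hab
      apply isConj_of_pow_odd haa hbb k
      rw [← hrdef, ← hk]; exact pow_orderOf_eq_one r
  have hmpos : 0 < m := by omega
  obtain ⟨u, hudef⟩ : ∃ u : G, u = r ^ m := ⟨_, rfl⟩
  have hu1 : u ≠ 1 := by
    intro h
    rw [hudef] at h
    have := orderOf_dvd_of_pow_eq_one h
    rw [hm] at this
    have := Nat.le_of_dvd hmpos this
    omega
  have huu : u * u = 1 := by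
    rw [hudef, ← pow_add, ← two_mul, ← hm]; exact pow_orderOf_eq_one r
  have huinv : u⁻¹ = u := inv_eq_of_mul_eq_one_left huu
  -- u commutes with a and b
  have hau : a * u = u * a := by
    rw [hudef, hrdef, mul_pow_comm' haa hbb m]
    rw [← hrdef, ← hudef, huinv]
  have hbu : b * u = u * b := by
    -- from u = a u a and r = a b
    have h1 : u * b = u * (a * r) := by
      rw [hrdef, ← mul_assoc a a b, haa, one_mul]
    have h2 : r * u = u * r := by rw [hudef, ← pow_succ', ← pow_succ]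
    have h3 : b = a * r := by rw [hrdef, ← mul_assoc, haa, one_mul]
    calc b * u = a * r * u := by rw [← h3]
      _ = a * (u * r) := by rw [mul_assoc, h2]
      _ = (a * u) * r := by rw [mul_assoc]
      _ = u * (a * r) := by rw [hau, mul_assoc]
      _ = u * b := by rw [← h3]
  have haH : a ∈ H := hg₁
  -- u ∈ H since a fixes the coset of u
  have huH : u ∈ H := by
    have h1 : (1 : G)⁻¹ * a * 1 ∈ H := by simpa using haH
    have h2 : u⁻¹ * a * u ∈ H := by
      have : u⁻¹ * a * u = a := by rw [mul_assoc, hau, ← mul_assoc, inv_mul_cancel, one_mul]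
      rw [this]; exact haH
    have := huniq a (Or.inl haI) 1 u h1 h2
    simpa using this
  -- a * u ∈ I ∪ J
  have hauIJ : a * u ∈ I ∪ J := by
    rcases Nat.even_or_odd' m with ⟨k, hk | hk⟩
    · left
      rw [hI]; show IsConj a₀ (a * u)
      have h1 : IsConj a₀ a := by rw [hI] at haI; exact haI
      refine h1.trans ?_
      rw [hudef, hk, hrdef]
      exact isConj_mul_pow_even haa hbb k
    · right
      rw [hJ]; show IsConj b₀ (a * u)
      have h2 : IsConj b₀ b := by rw [hJ] at hbJ; exact hbJ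
      refine h2.trans ?_
      rw [hudef, hk, hrdef]
      exact isConj_mul_pow_odd haa hbb k
  have hauH : a * u ∈ H := H.mul_mem haH huH
  have hne : a ≠ a * u := by
    intro h
    apply hu1
    have : a * 1 = a * u := by rw [mul_one]; exact h
    exact (mul_left_cancel this).symm
  have hcomm : a * (a * u) = (a * u) * a := by
    rw [mul_assoc, hau]
  have hC := hcent a haI haH (a * u) hauIJ hauH hne hcomm
  have hprod : a * (a * u) = u := by rw [← mul_assoc, haa, one_mul]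
  rw [hprod] at hC
  have hbH : b ∈ H := by
    apply hC
    rw [Subgroup.mem_centralizer_iff]
    intro y hy
    rw [Set.mem_singleton_iff] at hy
    subst hy
    exact hbu.symm
  -- b fixes the cosets of 1 and of g
  have h1 : (1 : G)⁻¹ * b * 1 ∈ H := by simpa using hbH
  have := huniq b (Or.inr hbJ) 1 g h1 hbg
  exact hg (by simpa using this)

end Cfsg.Agent.S5439
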