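import Cfsg.Statements.S5459
-- import your own Cfsg.Agent.* helpers here
set_option autoImplicit false
open Cfsg
open scoped commutatorElement

namespace Cfsg.Agent.S5459

variable {G : Type*} [Group G]

theorem mem_conj_iff {d x : G} : x ∈ conjugatesOf d ↔ ∃ g : G, g * d * g⁻¹ = x := by
  show IsConj d x ↔ _
  rw [isConj_iff]

theorem conj_mem {d x : G} (g : G) (hx : x ∈ conjugatesOf d) : g * x * g⁻¹ ∈ conjugatesOf d := by
  rw [mem_conj_iff] at hx ⊢
  obtain ⟨h, rfl⟩ := hx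
  exact ⟨g * h, by group⟩

/-- conjugation preserves adjacency in the commuting graph of a class -/
theorem adj_conj {d : G} (g : G) {a b : conjugatesOf d}
    (h : (commutingGraph (conjugatesOf d)).Adj a b) :
    (commutingGraph (conjugatesOf d)).Adj ⟨g * a.1 * g⁻¹, conj_mem g a.2⟩ ⟨g * b.1 * g⁻¹, conj_mem g b.2⟩ := by
  unfold commutingGraph at h ⊢
  rw [SimpleGraph.fromRel_adj] at h ⊢
  obtain ⟨hne, hc⟩ := h
  refine ⟨?_, ?_⟩
  · intro he
    apply hne
    have := congrArg Subtype.val he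
    simp only [mul_left_inj, mul_right_inj] at this
    exact Subtype.ext this
  · have hc' : Commute a.1 b.1 := hc.elim id Commute.symm
    left
    have : Commute (g * a.1 * g⁻¹) (g * b.1 * g⁻¹) := by
      have := hc'.eq
      unfold Commute SemiconjBy
      calc g * a.1 * g⁻¹ * (g * b.1 * g⁻¹) = g * (a.1 * b.1) * g⁻¹ := by group
        _ = g * (b.1 * a.1) * g⁻¹ := by rw [this]
        _ = _ := by group
    exact this

theorem reach_conj {d : G} (g : G) {a b : conjugatesOf d}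
    (h : (commutingGraph (conjugatesOf d)).Reachable a b) :
    (commutingGraph (conjugatesOf d)).Reachable ⟨g * a.1 * g⁻¹, conj_mem g a.2⟩ ⟨g * b.1 * g⁻¹, conj_mem g b.2⟩ := by
  rw [SimpleGraph.reachable_iff_reflTransGen] at h ⊢
  induction h with
  | refl => exact Relation.ReflTransGen.refl
  | tail _ hbc ih => exact Relation.ReflTransGen.tail ih (adj_conj g hbc)

/-- reachability in the commuting graph of the class of `d`, stated on elements of `G` -/
def R (d a b : G) : Prop :=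
  ∃ (ha : a ∈ conjugatesOf d) (hb : b ∈ conjugatesOf d),
    (commutingGraph (conjugatesOf d)).Reachable ⟨a, ha⟩ ⟨b, hb⟩

theorem R.refl' {d a : G} (ha : a ∈ conjugatesOf d) : R d a a := ⟨ha, ha, SimpleGraph.Reachable.refl _⟩

theorem R.symm' {d a b : G} (h : R d a b) : R d b a := by
  obtain ⟨ha, hb, h⟩ := h
  exact ⟨hb, ha, h.symm⟩

theorem R.trans' {d a b c : G} (h : R d a b) (h' : R d b c) : R d a c := by
  obtain ⟨ha, hb, h⟩ := h
  obtain ⟨hb', hc, h'⟩ := h'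
  exact ⟨ha, hc, h.trans h'⟩

theorem R.conj' {d a b : G} (g : G) (h : R d a b) : R d (g * a * g⁻¹) (g * b * g⁻¹) := by
  obtain ⟨ha, hb, h⟩ := h
  exact ⟨conj_mem g ha, conj_mem g hb, reach_conj g h⟩

theorem R.of_commute {d a b : G} (ha : a ∈ conjugatesOf d) (hb : b ∈ conjugatesOf d) (hne : a ≠ b)
    (hc : Commute a b) : R d a b := by
  refine ⟨ha, hb, SimpleGraph.Adj.reachable ?_⟩
  unfold commutingGraph
  rw [SimpleGraph.fromRel_adj]
  exact ⟨fun h => hne (congrArg Subtype.val h), Or.inl hc⟩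

/-- the stabilizer of the connected component of `d` -/
def compStab (d : G) : Subgroup G where
  carrier := {g | R d d (g * d * g⁻¹)}
  one_mem' := by
    show R d d (1 * d * 1⁻¹)
    simpa using R.refl' (mem_conjugatesOf_self)
  mul_mem' := by
    intro g h hg hh
    show R d d (g * h * d * (g * h)⁻¹)
    have h1 : R d (g * d * g⁻¹) (g * (h * d * h⁻¹) * g⁻¹) := R.conj' g hh
    have h2 : g * (h * d * h⁻¹) * g⁻¹ = g * h * d * (g * h)⁻¹ := by group
    rw [h2] at h1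
    exact R.trans' hg h1
  inv_mem' := by
    intro g hg
    show R d d (g⁻¹ * d * g⁻¹⁻¹)
    have h1 : R d (g⁻¹ * d * g⁻¹⁻¹) (g⁻¹ * (g * d * g⁻¹) * g⁻¹⁻¹) := R.conj' g⁻¹ hg
    have h2 : g⁻¹ * (g * d * g⁻¹) * g⁻¹⁻¹ = d := by group
    rw [h2] at h1
    exact h1.symm'

theorem mem_compStab {d g : G} : g ∈ compStab d ↔ R d d (g * d * g⁻¹) := Iff.rfl

theorem mem_compStab_of_R {d t : G} (h : R d d t) : t ∈ compStab d := by
  rw [mem_compStab]
  have h1 : R d (t * d * t⁻¹) (t * t * t⁻¹) := R.conj' t h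
  have h2 : t * t * t⁻¹ = t := by group
  rw [h2] at h1
  exact h.trans' h1.symm'

/-- commutator computation: central factors drop out -/
theorem comm_eq (L : Subgroup G) {a b z₁ z₂ : G} (ha : a ∈ L) (hb : b ∈ L) (_h₁ : z₁ ∈ L) (h₂ : z₂ ∈ L)
    (hz₁ : ∀ l ∈ L, z₁ * l = l * z₁) (hz₂ : ∀ l ∈ L, z₂ * l = l * z₂) :
    ⁅a * z₁, b * z₂⁆ = ⁅a, b⁆ := by
  have e1 : z₁ * b = b * z₁ := hz₁ b hb
  have e2 : z₁ * z₂ = z₂ * z₁ := hz₁ z₂ h₂
  have e3 : z₂ * a⁻¹ = a⁻¹ * z₂ := hz₂ _ (L.inv_mem ha)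
  rw [commutatorElement_def, commutatorElement_def]
  calc a * z₁ * (b * z₂) * (a * z₁)⁻¹ * (b * z₂)⁻¹
      = a * (z₁ * b) * z₂ * z₁⁻¹ * a⁻¹ * z₂⁻¹ * b⁻¹ := by group
    _ = a * (b * z₁) * z₂ * z₁⁻¹ * a⁻¹ * z₂⁻¹ * b⁻¹ := by rw [e1]
    _ = a * b * (z₁ * z₂) * z₁⁻¹ * a⁻¹ * z₂⁻¹ * b⁻¹ := by group
    _ = a * b * (z₂ * z₁) * z₁⁻¹ * a⁻¹ * z₂⁻¹ * b⁻¹ := by rw [e2]
    _ = a * b * (z₂ * a⁻¹) * z₂⁻¹ * b⁻¹ := by group
    _ = a * b * (a⁻¹ * z₂) * z₂⁻¹ * b⁻¹ := by rw [e3]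
    _ = a * b * a⁻¹ * b⁻¹ := by group

theorem result {G : Type*} [Group G] [Finite G] (L : Subgroup G) [L.Normal] (hL : Cfsg.IsQuasisimple ↥L) (d : G) (hd : orderOf d = 2) (hgen : L ⊔ Subgroup.zpowers d = ⊤) (hodd : Odd (Nat.card ↥(Subgroup.center ↥L))) (hinv : ∀ c ∈ (Subgroup.center ↥L).map L.subtype, d * c * d⁻¹ = c⁻¹) [hn : ((Subgroup.center ↥L).map L.subtype).Normal] (hconn : (Cfsg.commutingGraph (conjugatesOf (QuotientGroup.mk d : G ⧸ (Subgroup.center ↥L).map L.subtype))).Connected) : (Cfsg.commutingGraph (conjugatesOf d)).Connected := by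
  set Z : Subgroup G := (Subgroup.center ↥L).map L.subtype with hZ
  obtain ⟨hperf, hsimple⟩ := hL
  have hLL : ⁅L, L⁆ = L := Subgroup.isPerfect_iff.mp hperf
  -- F1
  have hZL : ∀ z ∈ Z, z ∈ L := by
    rintro z ⟨c, -, rfl⟩
    exact c.2
  have hZc : ∀ z ∈ Z, ∀ l ∈ L, z * l = l * z := by
    rintro z ⟨c, hc, rfl⟩ l hl
    have := Subgroup.mem_center_iff.mp hc ⟨l, hl⟩
    have := congrArg Subtype.val this
    simpa using this.symm
  -- F2
  have hsq : ∀ z ∈ Z, ∃ u ∈ Z, u ^ 2 = z := by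
    obtain ⟨k, hk⟩ := hodd
    rintro z hz
    have hzn : z ^ (2 * k + 1) = 1 := by
      obtain ⟨c, hc, rfl⟩ := hz
      have h1 : (⟨c, hc⟩ : Subgroup.center ↥L) ^ Nat.card (Subgroup.center ↥L) = 1 := pow_card_eq_one'
      rw [hk] at h1
      have h2 := congrArg (fun x : Subgroup.center ↥L => ((x : ↥L) : G)) h1
      simpa using h2
    refine ⟨z ^ (k + 1), Z.pow_mem hz _, ?_⟩
    rw [← pow_mul]
    have : (k + 1) * 2 = (2 * k + 1) + 1 := by ring
    rw [this, pow_succ, hzn, one_mul]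
  -- F3
  have hinvD : ∀ x ∈ conjugatesOf d, ∀ c ∈ Z, x * c * x⁻¹ = c⁻¹ := by
    intro x hx c hc
    obtain ⟨g, rfl⟩ := mem_conj_iff.mp hx
    have h1 : g⁻¹ * c * g⁻¹⁻¹ ∈ Z := hn.conj_mem c hc g⁻¹
    have h2 := hinv _ h1
    calc g * d * g⁻¹ * c * (g * d * g⁻¹)⁻¹ = g * (d * (g⁻¹ * c * g⁻¹⁻¹) * d⁻¹) * g⁻¹ := by group
      _ = g * (g⁻¹ * c * g⁻¹⁻¹)⁻¹ * g⁻¹ := by rw [h2]
      _ = c⁻¹ := by group
  -- F4
  have hmulD : ∀ x ∈ conjugatesOf d, ∀ z ∈ Z, x * z ∈ conjugatesOf d := by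
    intro x hx z hz
    obtain ⟨u, hu, rfl⟩ := hsq z hz
    have h1 := hinvD x hx u hu
    have h3 : x⁻¹ * u⁻¹ * x = u := by rw [← h1]; group
    have h2 : u⁻¹ * x * u⁻¹⁻¹ = x * u ^ 2 := by
      calc u⁻¹ * x * u⁻¹⁻¹ = x * (x⁻¹ * u⁻¹ * x) * u := by group
        _ = x * u * u := by rw [h3]
        _ = x * u ^ 2 := by rw [pow_two, mul_assoc]
    rw [← h2]
    exact conj_mem _ hx
  -- single step lifting
  have hlift : ∀ x ∈ conjugatesOf d, ∀ w ∈ conjugatesOf (QuotientGroup.mk d : G ⧸ Z),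
      Commute (QuotientGroup.mk x : G ⧸ Z) w → (QuotientGroup.mk x : G ⧸ Z) ≠ w →
      ∃ y ∈ conjugatesOf d, (QuotientGroup.mk y : G ⧸ Z) = w ∧ Commute x y := by
    intro x hx w hw hc hne
    obtain ⟨gbar, rfl⟩ := mem_conj_iff.mp hw
    obtain ⟨g, rfl⟩ := QuotientGroup.mk_surjective gbar
    have hy₀D : g * d * g⁻¹ ∈ conjugatesOf d := mem_conj_iff.mpr ⟨g, rfl⟩
    have hπy₀ : (QuotientGroup.mk (g * d * g⁻¹) : G ⧸ Z)
        = (QuotientGroup.mk g : G ⧸ Z) * QuotientGroup.mk d * (QuotientGroup.mk g)⁻¹ := by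
      simp
    rw [← hπy₀] at hc hne ⊢
    generalize g * d * g⁻¹ = y₀ at *
    have hz : (y₀ * x)⁻¹ * (x * y₀) ∈ Z := by
      have : (QuotientGroup.mk (y₀ * x) : G ⧸ Z) = QuotientGroup.mk (x * y₀) := by
        rw [QuotientGroup.mk_mul, QuotientGroup.mk_mul]; exact hc.eq.symm
      exact QuotientGroup.eq.mp this
    obtain ⟨u, hu, hu2⟩ := hsq ((y₀ * x)⁻¹ * (x * y₀))⁻¹ (Z.inv_mem hz)
    refine ⟨y₀ * u, hmulD y₀ hy₀D u hu, ?_, ?_⟩
    · rw [QuotientGroup.mk_mul, (QuotientGroup.eq_one_iff u).mpr hu, mul_one]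
    · have e1 : x * y₀ = y₀ * x * ((y₀ * x)⁻¹ * (x * y₀)) := by group
      have e2 : u * x = x * u⁻¹ := by
        have := hinvD x hx u⁻¹ (Z.inv_mem hu)
        calc u * x = u⁻¹⁻¹ * x := by rw [inv_inv]
          _ = x * u⁻¹ * x⁻¹ * x := by rw [this]
          _ = x * u⁻¹ := by group
      have e3 : ((y₀ * x)⁻¹ * (x * y₀)) * u = u⁻¹ := by
        have : ((y₀ * x)⁻¹ * (x * y₀)) = (u ^ 2)⁻¹ := by rw [hu2, inv_inv]
        rw [this, pow_two]; group
      show x * (y₀ * u) = y₀ * u * x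
      calc x * (y₀ * u) = (x * y₀) * u := by group
        _ = y₀ * x * ((y₀ * x)⁻¹ * (x * y₀)) * u := by rw [← e1]
        _ = y₀ * x * (((y₀ * x)⁻¹ * (x * y₀)) * u) := by group
        _ = y₀ * x * u⁻¹ := by rw [e3]
        _ = y₀ * (x * u⁻¹) := by group
        _ = y₀ * (u * x) := by rw [e2]
        _ = y₀ * u * x := by group
  -- path lifting
  have hpath : ∀ w : conjugatesOf (QuotientGroup.mk d : G ⧸ Z),
      (commutingGraph (conjugatesOf (QuotientGroup.mk d : G ⧸ Z))).Reachable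
        ⟨QuotientGroup.mk d, mem_conjugatesOf_self⟩ w →
      ∃ t, R d d t ∧ (QuotientGroup.mk t : G ⧸ Z) = w.1 := by
    intro w hw
    rw [SimpleGraph.reachable_iff_reflTransGen] at hw
    induction hw with
    | refl => exact ⟨d, R.refl' mem_conjugatesOf_self, rfl⟩
    | @tail b c _ hbc ih =>
      obtain ⟨t, hRt, hπt⟩ := ih
      unfold commutingGraph at hbc
      rw [SimpleGraph.fromRel_adj] at hbc
      obtain ⟨hne, hcomm⟩ := hbc
      have htD : t ∈ conjugatesOf d := by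
        obtain ⟨_, h, _⟩ := hRt
        exact h
      have hcomm' : Commute (QuotientGroup.mk t : G ⧸ Z) c.1 := by
        rw [hπt]; exact hcomm.elim id Commute.symm
      have hne' : (QuotientGroup.mk t : G ⧸ Z) ≠ c.1 := by
        rw [hπt]; exact fun h => hne (Subtype.ext h)
      obtain ⟨y, hyD, hπy, hcy⟩ := hlift t htD c.1 c.2 hcomm' hne'
      have hty : t ≠ y := by
        intro h
        apply hne'
        rw [h, hπy]
      exact ⟨y, hRt.trans' (R.of_commute htD hyD hty hcy), hπy⟩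
  -- the normal closure of the image of `d`, pulled back to `G`
  have hKdef : Subgroup.normalClosure {(QuotientGroup.mk d : G ⧸ Z)}
      = Subgroup.closure (Group.conjugatesOfSet {(QuotientGroup.mk d : G ⧸ Z)}) := rfl
  obtain ⟨Kbar, hKbar⟩ : ∃ Kbar : Subgroup (G ⧸ Z),
      Kbar = Subgroup.normalClosure {(QuotientGroup.mk d : G ⧸ Z)} := ⟨_, rfl⟩
  have hKbarn : Kbar.Normal := by rw [hKbar]; infer_instance
  obtain ⟨K', hK'⟩ : ∃ K' : Subgroup G, K' = Kbar.comap (QuotientGroup.mk' Z) := ⟨_, rfl⟩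
  have hK'n : K'.Normal := by rw [hK']; infer_instance
  have hmemK' : ∀ g : G, g ∈ K' ↔ (QuotientGroup.mk g : G ⧸ Z) ∈ Kbar := by
    intro g; rw [hK']; rfl
  have hdK' : d ∈ K' := by
    rw [hmemK', hKbar]
    exact Subgroup.subset_normalClosure (Set.mem_singleton _)
  have hZK' : Z ≤ K' := by
    intro z hz
    rw [hmemK', (QuotientGroup.eq_one_iff z).mpr hz]
    exact Kbar.one_mem
  have hMn : (K'.subgroupOf L).Normal := inferInstance
  have hNn : ((K'.subgroupOf L).map (QuotientGroup.mk' (Subgroup.center ↥L))).Normal :=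
    hMn.map _ (QuotientGroup.mk'_surjective _)
  rcases hNn.eq_bot_or_eq_top with hbot | htop
  · -- `d` is central: the class is a singleton
    have hdl : ∀ l ∈ L, d * l * d⁻¹ * l⁻¹ ∈ Z := by
      intro l hl
      have h1 : d * l * d⁻¹ * l⁻¹ ∈ L :=
        L.mul_mem (Subgroup.Normal.conj_mem ‹L.Normal› l hl d) (L.inv_mem hl)
      have h2 : d * l * d⁻¹ * l⁻¹ ∈ K' := by
        have : d * l * d⁻¹ * l⁻¹ = d * (l * d⁻¹ * l⁻¹) := by group
        rw [this]
        exact K'.mul_mem hdK' (hK'n.conj_mem _ (K'.inv_mem hdK') l)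
      have h3 : (⟨_, h1⟩ : L) ∈ K'.subgroupOf L := Subgroup.mem_subgroupOf.mpr h2
      have h4 : QuotientGroup.mk' (Subgroup.center ↥L) ⟨_, h1⟩
          ∈ (K'.subgroupOf L).map (QuotientGroup.mk' _) := Subgroup.mem_map_of_mem _ h3
      rw [hbot, Subgroup.mem_bot, QuotientGroup.mk'_apply, QuotientGroup.eq_one_iff] at h4
      exact ⟨⟨_, h1⟩, h4, rfl⟩
    have hcent : ∀ a ∈ L, ∀ b ∈ L, d * ⁅a, b⁆ * d⁻¹ = ⁅a, b⁆ := by
      intro a ha b hb
      have h1 : d * ⁅a, b⁆ * d⁻¹ = ⁅d * a * d⁻¹, d * b * d⁻¹⁆ := by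
        simp only [commutatorElement_def]; group
      have ea : d * a * d⁻¹ = a * (d * a * d⁻¹ * a⁻¹) := by
        rw [← hZc _ (hdl a ha) a ha]; group
      have eb : d * b * d⁻¹ = b * (d * b * d⁻¹ * b⁻¹) := by
        rw [← hZc _ (hdl b hb) b hb]; group
      rw [h1, ea, eb]
      exact comm_eq L ha hb (hZL _ (hdl a ha)) (hZL _ (hdl b hb)) (hZc _ (hdl a ha)) (hZc _ (hdl b hb))
    have hLC : L ≤ Subgroup.centralizer {d} := by
      rw [← hLL, Subgroup.commutator_le]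
      intro a ha b hb
      rw [Subgroup.mem_centralizer_iff]
      intro h hh
      rw [Set.mem_singleton_iff] at hh
      subst hh
      have := hcent a ha b hb
      calc h * ⁅a, b⁆ = h * ⁅a, b⁆ * h⁻¹ * h := by group
        _ = ⁅a, b⁆ * h := by rw [this]
    have hdC : Subgroup.zpowers d ≤ Subgroup.centralizer {d} := by
      rw [Subgroup.zpowers_le, Subgroup.mem_centralizer_iff]
      intro h hh
      rw [Set.mem_singleton_iff] at hh
      rw [hh]
    have htopC : ∀ g : G, d * g = g * d := by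
      intro g
      have : g ∈ Subgroup.centralizer {d} := by
        have h1 : L ⊔ Subgroup.zpowers d ≤ Subgroup.centralizer {d} := sup_le hLC hdC
        rw [hgen] at h1
        exact h1 (Subgroup.mem_top g)
      exact Subgroup.mem_centralizer_iff.mp this d (Set.mem_singleton d)
    have hall : ∀ x : conjugatesOf d, x = ⟨d, mem_conjugatesOf_self⟩ := by
      intro x
      obtain ⟨g, hg⟩ := mem_conj_iff.mp x.2
      apply Subtype.ext
      rw [← hg, ← htopC g]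
      group
    have : Nonempty (conjugatesOf d) := ⟨⟨d, mem_conjugatesOf_self⟩⟩
    refine ⟨fun a b => ?_⟩
    rw [hall a, hall b]
  · have hLK' : L ≤ K' := by
      intro l hl
      have : QuotientGroup.mk' (Subgroup.center ↥L) ⟨l, hl⟩
          ∈ (K'.subgroupOf L).map (QuotientGroup.mk' _) := by
        rw [htop]; trivial
      obtain ⟨m, hm, hml⟩ := this
      have h1 : m⁻¹ * ⟨l, hl⟩ ∈ Subgroup.center ↥L := QuotientGroup.eq.mp hml
      have h2 : ((m⁻¹ * ⟨l, hl⟩ : L) : G) ∈ Z := ⟨_, h1, rfl⟩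
      have h3 : (m : G) ∈ K' := Subgroup.mem_subgroupOf.mp hm
      have : l = (m : G) * ((m⁻¹ * ⟨l, hl⟩ : L) : G) := by simp
      rw [this]
      exact K'.mul_mem h3 (hZK' h2)
    have hK'top : K' = ⊤ := by
      rw [eq_top_iff, ← hgen, sup_le_iff]
      exact ⟨hLK', (Subgroup.zpowers_le).mpr hdK'⟩
    have hle : Kbar ≤ (compStab d).map (QuotientGroup.mk' Z) := by
      rw [hKbar, hKdef, Subgroup.closure_le]
      intro w hw
      rw [Group.mem_conjugatesOfSet_iff] at hw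
      obtain ⟨a, ha, haw⟩ := hw
      rw [Set.mem_singleton_iff] at ha
      subst ha
      have hwD : w ∈ conjugatesOf (QuotientGroup.mk d : G ⧸ Z) := haw
      obtain ⟨t, hRt, hπt⟩ := hpath ⟨w, hwD⟩ (hconn.preconnected _ _)
      exact ⟨t, mem_compStab_of_R hRt, hπt⟩
    have hSsurj : ∀ g : G, ∃ s ∈ compStab d, ∃ z ∈ Z, g = s * z := by
      intro g
      have hg : (QuotientGroup.mk g : G ⧸ Z) ∈ Kbar := by
        rw [← hmemK', hK'top]; trivial
      obtain ⟨s, hs, hsg⟩ := hle hg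
      refine ⟨s, hs, s⁻¹ * g, QuotientGroup.eq.mp hsg, by group⟩
    have hLS : L ≤ compStab d := by
      rw [← hLL, Subgroup.commutator_le]
      intro a ha b hb
      obtain ⟨s₁, hs₁, z₁, hz₁, rfl⟩ := hSsurj a
      obtain ⟨s₂, hs₂, z₂, hz₂, rfl⟩ := hSsurj b
      have hs₁L : s₁ ∈ L := by
        have := L.mul_mem ha (L.inv_mem (hZL z₁ hz₁))
        simpa using this
      have hs₂L : s₂ ∈ L := by
        have := L.mul_mem hb (L.inv_mem (hZL z₂ hz₂))
        simpa using this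
      rw [comm_eq L hs₁L hs₂L (hZL _ hz₁) (hZL _ hz₂) (hZc _ hz₁) (hZc _ hz₂), commutatorElement_def]
      exact (compStab d).mul_mem ((compStab d).mul_mem ((compStab d).mul_mem hs₁ hs₂)
        ((compStab d).inv_mem hs₁)) ((compStab d).inv_mem hs₂)
    have hdS : d ∈ compStab d := mem_compStab_of_R (R.refl' mem_conjugatesOf_self)
    have hStop : ∀ g : G, g ∈ compStab d := by
      intro g
      have h1 : L ⊔ Subgroup.zpowers d ≤ compStab d := sup_le hLS ((Subgroup.zpowers_le).mpr hdS)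
      rw [hgen] at h1
      exact h1 (Subgroup.mem_top g)
    have hreach : ∀ x : conjugatesOf d,
        (commutingGraph (conjugatesOf d)).Reachable ⟨d, mem_conjugatesOf_self⟩ x := by
      intro x
      obtain ⟨g, hg⟩ := mem_conj_iff.mp x.2
      have := mem_compStab.mp (hStop g)
      obtain ⟨_, _, h⟩ := this
      have hx : x = ⟨g * d * g⁻¹, by rw [hg]; exact x.2⟩ := Subtype.ext hg.symm
      rw [hx]
      exact h
    have : Nonempty (conjugatesOf d) := ⟨⟨d, mem_conjugatesOf_self⟩⟩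
    exact ⟨fun a b => (hreach a).symm.trans (hreach b)⟩

end Cfsg.Agent.S5459
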