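import Cfsg.Statements.S5515
import Cfsg.Agent.Lib.Helper45_S5515Abs
import Cfsg.Agent.Lib.Helper14_D4Out
import Cfsg.Agent.Lib.Helper21_FStar

set_option autoImplicit false
open Cfsg

namespace Cfsg.Agent.S5515

/-- The centre of `PΩ₈⁺(3)` is trivial. -/
theorem center_P :
    Subgroup.center (Cfsg.POmega (ZMod 3) (Cfsg.quadFormPlus 4 (ZMod 3))) = ⊥ := by
  obtain ⟨e⟩ := Cfsg.Agent.Lib.Helper14_D4Iso.d4_iso (F := ZMod 3)
  rw [eq_bot_iff]
  intro z hz
  have h1 : e.symm z ∈ Subgroup.center ↥(Cfsg.Lie.chevD4.group (ZMod 3)) := by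
    rw [Subgroup.mem_center_iff] at hz ⊢
    intro g
    apply e.injective
    rw [map_mul, map_mul, e.apply_symm_apply]
    exact hz (e g)
  rw [Cfsg.Agent.Lib.Helper18_D4OutA.centerD4, Subgroup.mem_bot] at h1
  rw [Subgroup.mem_bot]
  have h := congrArg e h1
  rwa [e.apply_symm_apply, map_one] at h

theorem card_quot {G : Type*} [Group G] (K : Subgroup G) [K.Normal]
    (hq : Nonempty (G ⧸ K ≃* Equiv.Perm (Fin 3))) : Nat.card (G ⧸ K) = 6 := by
  obtain ⟨q⟩ := hq
  rw [Nat.card_congr q.toEquiv, Nat.card_eq_fintype_card, Fintype.card_perm, Fintype.card_fin]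
  rfl

/-- Let G and G′ be finite groups whose generalized Fitting subgroups are isomorphic to PΩ⁺(8, 3) (the commutator subgroup of the isometry group of the hyperbolic quadratic form in dimension 8 over the field with three elements, modulo its centre) with quotients isomorphic to the symmetric group of degree 3. Then G and G′ are isomorphic. -/
theorem result {G G' : Type*} [Group G] [Finite G] [Group G'] [Finite G'] (hF : Nonempty (↥(Cfsg.generalizedFittingSubgroup G) ≃* Cfsg.POmega (ZMod 3) (Cfsg.quadFormPlus 4 (ZMod 3)))) (hF' : Nonempty (↥(Cfsg.generalizedFittingSubgroup G') ≃* Cfsg.POmega (ZMod 3) (Cfsg.quadFormPlus 4 (ZMod 3)))) [hn : (Cfsg.generalizedFittingSubgroup G).Normal] [hn' : (Cfsg.generalizedFittingSubgroup G').Normal] (hq : Nonempty (G ⧸ Cfsg.generalizedFittingSubgroup G ≃* Equiv.Perm (Fin 3))) (hq' : Nonempty (G' ⧸ Cfsg.generalizedFittingSubgroup G' ≃* Equiv.Perm (Fin 3))) : Nonempty (G ≃* G') := by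
  obtain ⟨e⟩ := hF
  obtain ⟨e'⟩ := hF'
  have hcard : Fintype.card (ZMod 3) = 3 ^ 1 := by rw [ZMod.card, pow_one]
  obtain ⟨ψ⟩ := Cfsg.Agent.Lib.Helper14_D4Out.out_D4_odd (F := ZMod 3) (p := 3) (f := 1) le_rfl hcard
    (by norm_num)
  exact Cfsg.Agent.Lib.Helper45_S5515Abs.iso_of_out center_P ψ (Cfsg.generalizedFittingSubgroup G)
    (Cfsg.generalizedFittingSubgroup G') e e'
    Cfsg.Agent.Lib.Helper21_FStar.centralizer_generalizedFitting_le
    Cfsg.Agent.Lib.Helper21_FStar.centralizer_generalizedFitting_le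
    (card_quot _ hq) (card_quot _ hq')

end Cfsg.Agent.S5515
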