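import Cfsg.Statements.S5521
import Cfsg.Agent.S0364

set_option autoImplicit false
open Cfsg
open scoped Pointwise

namespace Cfsg.Agent.S5521

open Cfsg.Agent.Lib.Helper7_M24 Cfsg.Agent.Lib.Helper7_Bits Cfsg.Agent.Lib.Helper7_Perm
  Cfsg.Agent.Lib.Helper7_Code Cfsg.Agent.Lib.Helper7_Base

/-- For each point code `q` outside the five base points `∞, 0, 1, 2, 3`: a non-identity
permutation (images, preimages) fixing the base points and `q`. -/
def table : List (ℕ × List ℕ × List ℕ) :=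
  [(5,[0,1,2,3,10,5,11,12,19,22,4,6,7,20,14,16,15,17,21,8,13,18,9,23],[0,1,2,3,10,5,11,12,19,22,4,6,7,20,14,16,15,17,21,8,13,18,9,23]),
   (14,[0,1,2,3,10,5,11,12,19,22,4,6,7,20,14,16,15,17,21,8,13,18,9,23],[0,1,2,3,10,5,11,12,19,22,4,6,7,20,14,16,15,17,21,8,13,18,9,23]),
   (17,[0,1,2,3,10,5,11,12,19,22,4,6,7,20,14,16,15,17,21,8,13,18,9,23],[0,1,2,3,10,5,11,12,19,22,4,6,7,20,14,16,15,17,21,8,13,18,9,23]),
   (4,[0,1,2,3,4,14,15,10,21,8,12,19,7,22,17,18,13,5,6,20,11,9,16,23],[0,1,2,3,4,17,18,12,9,21,7,20,10,16,5,6,22,14,15,11,19,8,13,23]),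
   (6,[0,1,2,3,18,14,6,21,10,22,13,9,20,8,17,4,12,5,15,7,16,19,11,23],[0,1,2,3,15,17,6,19,13,11,8,22,16,10,5,18,20,14,4,21,12,7,9,23]),
   (7,[0,1,2,3,12,14,19,7,20,16,4,15,10,11,17,13,18,5,9,21,22,6,8,23],[0,1,2,3,10,17,21,7,22,18,12,13,4,15,5,11,9,14,16,6,8,19,20,23]),
   (8,[0,1,2,3,9,14,13,22,8,21,6,18,11,10,17,19,15,5,12,16,7,4,20,23],[0,1,2,3,21,17,10,20,8,4,13,12,18,6,5,16,19,14,11,15,22,9,7,23]),
   (9,[0,1,2,3,21,14,11,18,4,9,20,22,13,19,17,10,7,5,16,12,15,8,6,23],[0,1,2,3,8,17,22,16,21,9,15,6,19,12,5,20,18,14,7,13,10,4,11,23]),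
   (10,[0,1,2,3,7,14,8,12,13,15,10,16,4,6,17,20,21,5,22,18,9,11,19,23],[0,1,2,3,12,17,13,4,6,20,10,21,7,8,5,9,11,14,19,22,15,16,18,23]),
   (11,[0,1,2,3,20,14,22,13,12,6,21,11,18,15,17,7,10,5,8,4,19,16,9,23],[0,1,2,3,19,17,9,15,18,22,16,11,8,7,5,13,21,14,12,20,4,10,6,23]),
   (12,[0,1,2,3,10,14,16,4,18,19,7,8,12,9,17,21,20,5,11,13,6,22,15,23],[0,1,2,3,7,17,20,10,11,13,4,18,12,19,5,22,6,14,8,9,16,15,21,23]),
   (13,[0,1,2,3,16,14,10,15,6,12,8,7,19,13,17,11,22,5,21,9,18,20,4,23],[0,1,2,3,22,17,8,11,10,19,6,15,9,13,5,7,4,14,20,12,21,18,16,23]),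
   (15,[0,1,2,3,6,14,18,11,16,20,9,13,22,7,17,15,19,5,4,8,10,12,21,23],[0,1,2,3,18,17,4,13,19,10,20,7,21,11,5,15,8,14,6,16,9,22,12,23]),
   (16,[0,1,2,3,22,14,20,9,19,18,11,21,6,4,17,8,16,5,7,15,12,10,13,23],[0,1,2,3,13,17,12,18,15,7,21,10,20,22,5,19,16,14,9,8,6,11,4,23]),
   (18,[0,1,2,3,15,14,4,16,11,7,19,12,8,20,17,6,9,5,18,22,21,13,10,23],[0,1,2,3,6,17,15,9,12,16,22,8,11,21,5,4,7,14,18,10,13,20,19,23]),
   (19,[0,1,2,3,11,14,21,6,15,13,22,20,9,12,17,16,8,5,10,19,4,7,18,23],[0,1,2,3,20,17,7,21,16,12,18,4,13,9,5,8,15,14,22,19,11,6,10,23]),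
   (20,[0,1,2,3,19,14,12,8,22,10,15,4,16,21,17,9,6,5,13,11,20,18,7,23],[0,1,2,3,11,17,16,22,7,15,9,19,6,18,5,10,12,14,21,4,20,13,8,23]),
   (21,[0,1,2,3,8,14,7,19,9,4,16,10,15,18,17,22,11,5,20,6,13,21,12,23],[0,1,2,3,9,17,19,6,4,8,11,16,22,20,5,12,10,14,13,7,18,21,15,23]),
   (22,[0,1,2,3,13,14,9,20,7,11,18,6,21,16,17,12,4,5,19,10,8,15,22,23],[0,1,2,3,16,17,11,8,20,6,19,9,15,4,5,21,13,14,10,18,7,12,22,23])]

/-- Test for one entry. -/
def goodEntry (q : ℕ) (e : ℕ × List ℕ × List ℕ) : Bool :=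
  e.1 == q && checkM24 e.2.1 e.2.2 &&
    ([23, 0, 1, 2, 3].all fun i => e.2.1.getD i 0 == i) &&
    (e.2.1.getD q 0 == q) &&
    (decide (dec (e.2.1.getD 4 0) ≠ dec 4) || decide (dec (e.2.1.getD 5 0) ≠ dec 5))

/-- The codes of the 19 points outside the base. -/
def nonBase : List ℕ := [4, 5, 6, 7, 8, 9, 10, 11, 12, 13, 14, 15, 16, 17, 18, 19, 20, 21, 22]

/-- Test for the whole table. -/
def checkTable : Bool := nonBase.all fun q => table.any (goodEntry q)

theorem checkTable_true : checkTable = true := by decide +kernel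

theorem nonBase_cases : ∀ p : GolayPt, S0364.baseMask5.testBit (enc p) = false →
    enc p ∈ nonBase := by decide

theorem base_cases : ∀ p : GolayPt, S0364.baseMask5.testBit (enc p) = true →
    ∃ i : Fin 5, p = S0366.baseEmb i := by decide

/-- A non-identity element fixing the five base points and one further given point. -/
theorem exists_stab (p : GolayPt) (hp : S0364.baseMask5.testBit (enc p) = false) :
    ∃ h ∈ M24, h ≠ 1 ∧ (∀ x ∈ S0364.baseSet, h x = x) ∧ h p = p := by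
  have h := checkTable_true
  unfold checkTable at h
  rw [List.all_eq_true] at h
  have h1 := h (enc p) (nonBase_cases p hp)
  rw [List.any_eq_true] at h1
  obtain ⟨e, _, he⟩ := h1
  unfold goodEntry at he
  simp only [Bool.and_eq_true, Bool.or_eq_true, beq_iff_eq, List.all_eq_true,
    decide_eq_true_eq] at he
  obtain ⟨⟨⟨⟨_, hm⟩, hfix⟩, hq⟩, hne⟩ := he
  obtain ⟨g, hg, hgp⟩ := exists_of_checkM24 hm
  refine ⟨g, hg, ?_, fun x hx => ?_, ?_⟩
  · intro h1
    rcases hne with hne | hne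
    · apply hne
      have := hgp (dec 4)
      rw [h1, Equiv.Perm.one_apply, enc_dec 4 (by norm_num)] at this
      exact this.symm
    · apply hne
      have := hgp (dec 5)
      rw [h1, Equiv.Perm.one_apply, enc_dec 5 (by norm_num)] at this
      exact this.symm
  · rw [S0364.mem_baseSet_iff] at hx
    rw [hgp, hfix _ (S0364.base5_cases x hx), dec_enc]
  · rw [hgp, hq, dec_enc]

theorem part1 (B : Finset GolayPt) (hB : B.card ≤ 6) :
    ∃ g ∈ M24, g ≠ 1 ∧ ∀ b ∈ B, g b = b := by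
  obtain ⟨B6, hsub, hcard⟩ :=
    Finset.exists_superset_card_eq hB (by decide : 6 ≤ Fintype.card GolayPt)
  have hne : B6.Nonempty := Finset.card_pos.mp (by omega)
  obtain ⟨q, hq⟩ := hne
  have h5 : (B6.erase q).card = 5 := by rw [Finset.card_erase_of_mem hq, hcard]
  let e : ↥(B6.erase q) ≃ Fin 5 := Finset.equivFinOfCardEq h5
  let x : Fin 5 ↪ GolayPt := e.symm.toEmbedding.trans (Function.Embedding.subtype _)
  have hx : ∀ i, x i = ((e.symm i : ↥(B6.erase q)) : GolayPt) := fun i => rfl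
  obtain ⟨g, hg⟩ := (MulAction.isMultiplyPretransitive_iff.mp S0366.result) x S0366.baseEmb
  have hgx : ∀ i, (g : Equiv.Perm GolayPt) (x i) = S0366.baseEmb i := by
    intro i
    have := congrArg (fun f : Fin 5 ↪ GolayPt => f i) hg
    exact this
  -- the image of `q` is not a base point
  have hq' : S0364.baseMask5.testBit (enc ((g : Equiv.Perm GolayPt) q)) = false := by
    by_contra hcon
    rw [Bool.not_eq_false] at hcon
    obtain ⟨i, hi⟩ := base_cases _ hcon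
    rw [← hgx i] at hi
    have h1 : q = x i := (g : Equiv.Perm GolayPt).injective hi
    have h2 : x i ∈ B6.erase q := by rw [hx]; exact (e.symm i).2
    rw [← h1] at h2
    exact (Finset.notMem_erase q B6) h2
  obtain ⟨h, hh, hh1, hhfix, hhq⟩ := exists_stab _ hq'
  refine ⟨(g : Equiv.Perm GolayPt)⁻¹ * h * (g : Equiv.Perm GolayPt),
    M24.mul_mem (M24.mul_mem (M24.inv_mem g.2) hh) g.2, ?_, ?_⟩
  · intro h1
    apply hh1
    have : h = (g : Equiv.Perm GolayPt) * ((g : Equiv.Perm GolayPt)⁻¹ * h *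
        (g : Equiv.Perm GolayPt)) * (g : Equiv.Perm GolayPt)⁻¹ := by group
    rw [this, h1]
    group
  · intro b hb
    have hb6 : b ∈ B6 := hsub hb
    rw [Equiv.Perm.mul_apply, Equiv.Perm.mul_apply, Equiv.Perm.inv_eq_iff_eq]
    by_cases hbq : b = q
    · rw [hbq]; exact hhq
    · have hb5 : b ∈ B6.erase q := Finset.mem_erase.mpr ⟨hbq, hb6⟩
      have hbx : b = x (e ⟨b, hb5⟩) := by
        rw [hx, Equiv.symm_apply_apply]
      have h3 : (g : Equiv.Perm GolayPt) b = S0366.baseEmb (e ⟨b, hb5⟩) := by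
        conv_lhs => rw [hbx]
        exact hgx _
      rw [h3]
      apply hhfix
      rw [S0364.mem_baseSet_iff, S0366.enc_baseEmb]
      generalize e ⟨b, hb5⟩ = i
      revert i
      decide

theorem card_base7 : (maskSet S0364.baseMask7).card = 7 := by
  rw [maskSet, card_support₂_toWord]
  decide

/-- The Mathieu group M₂₄ in its natural action on the 24 coordinate positions of the binary Golay code has minimal base size exactly 7: every set of at most 6 positions is fixed pointwise by some non-identity element of M₂₄, while some set of 7 positions is fixed pointwise only by the identity. -/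
theorem result :
    (∀ B : Finset Cfsg.GolayPt, B.card ≤ 6 → ∃ g ∈ Cfsg.M24, g ≠ 1 ∧ ∀ b ∈ B, g b = b) ∧
    (∃ B : Finset Cfsg.GolayPt, B.card = 7 ∧ ∀ g ∈ Cfsg.M24, (∀ b ∈ B, g b = b) → g = 1) :=
  ⟨part1, maskSet S0364.baseMask7, card_base7, fun g hg h => S0364.base7 g hg h⟩

end Cfsg.Agent.S5521
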