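import Cfsg.Statements.S5522
import Cfsg.Agent.Lib.Helper93_GolayConcrete
import Cfsg.Agent.Lib.Helper7_Base

set_option autoImplicit false
open Cfsg
open scoped Pointwise

namespace Cfsg.Agent.S5522

open Cfsg.Agent.Lib.Helper7_M24 Cfsg.Agent.Lib.Helper93_Code24 Cfsg.Agent.Lib.Helper93_GolayConcrete

/-! ### fixed points modulo `p` -/

/-- For a permutation with `g ^ p = 1` and an invariant finite set `T`, the number of fixed points
in `T` is congruent to the size of `T` modulo `p`. -/
theorem card_fixed_modEq {X : Type*} [Fintype X] [DecidableEq X] (g : Equiv.Perm X) (p : ℕ)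
    [hp : Fact p.Prime] (hgp : g ^ p = 1) (T : Finset X) (hT : ∀ x, g x ∈ T ↔ x ∈ T) :
    (T.filter (fun x => g x = x)).card ≡ T.card [MOD p] := by
  let σ : Equiv.Perm {x // x ∈ T} := g.subtypePerm hT
  have hσ : σ ^ p ^ 1 = 1 := by
    rw [pow_one]
    show (g.subtypePerm hT) ^ p = 1
    rw [Equiv.Perm.subtypePerm_pow]
    apply Equiv.ext
    intro x
    apply Subtype.ext
    simp [hgp]
  have h := Equiv.Perm.card_compl_support_modEq hσ
  rw [Fintype.card_coe] at h
  have hc : σ.supportᶜ.card = (T.filter (fun x => g x = x)).card := by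
    apply Finset.card_bij (fun x _ => x.1)
    · intro x hx
      rw [Finset.mem_compl, Equiv.Perm.mem_support, not_not] at hx
      rw [Finset.mem_filter]
      refine ⟨x.2, ?_⟩
      have := congrArg Subtype.val hx
      exact this
    · intro x _ y _ hxy
      exact Subtype.ext hxy
    · intro y hy
      rw [Finset.mem_filter] at hy
      refine ⟨⟨y, hy.1⟩, ?_, rfl⟩
      rw [Finset.mem_compl, Equiv.Perm.mem_support, not_not]
      apply Subtype.ext
      exact hy.2
  rw [← hc]
  exact h

/-! ### self-duality of the code -/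

/-- A word orthogonal to the whole code lies in the code. -/
theorem mem_of_orth (w : GolayPt → ZMod 2) (h : ∀ c ∈ golayCode, ∑ i, w i * c i = 0) :
    w ∈ golayCode := by
  let E := dotProductEquiv (ZMod 2) GolayPt
  let P : Submodule (ZMod 2) (GolayPt → ZMod 2) := golayCode.dualAnnihilator.comap E.toLinearMap
  have hle : golayCode ≤ P := by
    intro c hc
    rw [Submodule.mem_comap, Submodule.mem_dualAnnihilator]
    intro c' hc'
    exact Cfsg.Agent.Lib.Helper8_GolayEven.golay_orth c c' hc hc'
  have hfin : Module.finrank (ZMod 2) P = Module.finrank (ZMod 2) golayCode := by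
    have e : P ≃ₗ[ZMod 2] golayCode.dualAnnihilator := E.ofSubmodule' golayCode.dualAnnihilator
    rw [e.finrank_eq]
    have h1 := Subspace.finrank_add_finrank_dualAnnihilator_eq (K := ZMod 2) golayCode
    rw [Module.finrank_fintype_fun_eq_card, Cfsg.Agent.S0358.result] at h1
    have hc : Fintype.card GolayPt = 24 := by decide
    rw [hc] at h1
    rw [Cfsg.Agent.S0358.result]
    omega
  have heq : golayCode = P := Submodule.eq_of_le_of_finrank_eq hle hfin.symm
  rw [heq, Submodule.mem_comap, Submodule.mem_dualAnnihilator]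
  intro c hc
  exact h c hc

/-! ### the dodecad and the hypotheses -/

/-- the dodecad of squares -/
abbrev D : Finset GolayPt := Spor.squareDodecad

theorem D_card : D.card = 12 := Cfsg.Agent.Lib.Helper8_GolayEven.qr_card 0

theorem zero_mem_D : (some 0 : GolayPt) ∈ D := by decide

theorem qr_mem : qrWord 0 ∈ golayCode := qrWord_mem 0

theorem supp_qr : supp (qrWord 0) = D := rfl

theorem mem_M11 (g : Equiv.Perm GolayPt) (hg : g ∈ Spor.M11) :
    g ∈ M24 ∧ g • D = D ∧ g (some 0) = some 0 := by
  have h1 := Subgroup.mem_inf.mp hg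
  have h2 := Subgroup.mem_inf.mp h1.1
  exact ⟨h2.1, MulAction.mem_stabilizer_iff.mp h2.2, MulAction.mem_stabilizer_iff.mp h1.2⟩

theorem inv_of_smul (g : Equiv.Perm GolayPt) (S : Finset GolayPt) (h : g • S = S) (x : GolayPt) :
    g x ∈ S ↔ x ∈ S := by
  conv_lhs => rw [← h]
  exact Finset.smul_mem_smul_finset_iff g

theorem smul_of_inv (g : Equiv.Perm GolayPt) (S : Finset GolayPt) (h : ∀ x, g x ∈ S ↔ x ∈ S) :
    g • S = S := by
  ext x
  rw [Finset.mem_smul_finset]
  constructor
  · rintro ⟨y, hy, rfl⟩
    exact (h y).mpr hy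
  · intro hx
    refine ⟨g⁻¹ x, ?_, by simp⟩
    rw [← h]
    simpa using hx

/-- An invariant 5-subset lies in an invariant octad. -/
theorem exists_inv_octad (g : Equiv.Perm GolayPt) (hM : g ∈ M24) (S : Finset GolayPt)
    (hS : S.card = 5) (hinv : ∀ x, g x ∈ S ↔ x ∈ S) :
    ∃ c ∈ golayCode, hammingNorm c = 8 ∧ S ⊆ supp c ∧ ∀ x, g x ∈ supp c ↔ x ∈ supp c := by
  obtain ⟨c, hc, h8, hSc⟩ := exists_octad golayLike S hS
  refine ⟨c, hc, h8, hSc, ?_⟩
  have hc' : permWord g c ∈ golayCode := permWord_mem_of_mem_M24 hM hc
  have hsupp : supp (permWord g c) = g • supp c := support₂_permWord g c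
  have h8' : hammingNorm (permWord g c) = 8 := by
    rw [hammingNorm_eq, hsupp, Finset.card_smul_finset, ← hammingNorm_eq, h8]
  have hSc' : S ⊆ supp (permWord g c) := by
    rw [hsupp, ← smul_of_inv g S hinv]
    exact Finset.smul_finset_subset_smul_finset hSc
  have heq : c = permWord g c := octad_unique golayLike hc hc' h8 h8' S hS hSc hSc'
  apply inv_of_smul
  rw [← hsupp, ← heq]

/-- An octad meeting the dodecad in at least five points meets it in exactly six. -/
theorem octad_inter_D (c : GolayPt → ZMod 2) (hc : c ∈ golayCode) (h8 : hammingNorm c = 8)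
    (h5 : 5 ≤ (supp c ∩ D).card) : (supp c \ D).card = 2 := by
  have heven : Even (supp c ∩ D).card :=
    Cfsg.Agent.Lib.Helper8_GolayEven.even_card_inter c (qrWord 0) hc qr_mem
  have hle : (supp c ∩ D).card ≤ 8 := by
    rw [hammingNorm_eq] at h8
    rw [← h8]
    exact Finset.card_le_card Finset.inter_subset_left
  have hsplit : (supp c \ D).card + (supp c ∩ D).card = 8 := by
    rw [hammingNorm_eq] at h8
    rw [← h8]
    exact Finset.card_sdiff_add_card_inter (supp c) D
  have hne8 : (supp c ∩ D).card ≠ 8 := by
    intro h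
    have hw := wt_add c (qrWord 0)
    rw [supp_qr, h, h8] at hw
    have hq : hammingNorm (qrWord 0) = 12 := by rw [hammingNorm_eq, supp_qr, D_card]
    rw [hq] at hw
    have hmem : c + qrWord 0 ∈ golayCode := golayCode.add_mem hc qr_mem
    have hne : c + qrWord 0 ≠ 0 := by
      intro h0
      rw [h0] at hw
      simp at hw
    have := golayLike.minwt _ hmem hne
    omega
  obtain ⟨k, hk⟩ := heven
  omega

/-! ### order three -/

theorem case_three (g : Equiv.Perm GolayPt) (hM : g ∈ M24) (hinv : ∀ x, g x ∈ D ↔ x ∈ D)
    (h0 : g (some 0) = some 0) (h3 : g ^ 3 = 1) : ∃ x, x ∉ D ∧ g x = x := by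
  have : Fact (Nat.Prime 3) := ⟨by norm_num⟩
  have hggg : ∀ x, g (g (g x)) = x := by
    intro x
    have := congrArg (fun σ : Equiv.Perm GolayPt => σ x) h3
    simpa [pow_succ, Equiv.Perm.mul_apply] using this
  -- a second fixed point in the dodecad
  have hmod := card_fixed_modEq g 3 h3 D hinv
  rw [D_card] at hmod
  have hmem0 : (some 0 : GolayPt) ∈ D.filter (fun x => g x = x) :=
    Finset.mem_filter.mpr ⟨zero_mem_D, h0⟩
  have hpos : 0 < (D.filter (fun x => g x = x)).card := Finset.card_pos.mpr ⟨_, hmem0⟩
  have h1lt : 1 < (D.filter (fun x => g x = x)).card := by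
    unfold Nat.ModEq at hmod
    omega
  obtain ⟨x1, hx1, hx10⟩ := Finset.exists_mem_ne h1lt (some 0)
  rw [Finset.mem_filter] at hx1
  -- an invariant 5-subset of the dodecad
  have hS : ∃ S : Finset GolayPt, S ⊆ D ∧ S.card = 5 ∧ ∀ x, g x ∈ S ↔ x ∈ S := by
    by_cases hall : ∀ y ∈ D, g y = y
    · obtain ⟨S, hSD, hS5⟩ := Finset.exists_subset_card_eq (s := D) (n := 5) (by rw [D_card]; norm_num)
      refine ⟨S, hSD, hS5, fun x => ?_⟩
      constructor
      · intro hx
        have hxD : x ∈ D := (hinv x).mp (hSD hx)
        rw [hall x hxD] at hx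
        exact hx
      · intro hx
        rw [hall x (hSD hx)]
        exact hx
    · simp only [not_forall] at hall
      obtain ⟨y, hyD, hy⟩ := hall
      have hgyD : g y ∈ D := (hinv y).mpr hyD
      have hggyD : g (g y) ∈ D := (hinv (g y)).mpr hgyD
      have hy1 : g (g y) ≠ g y := fun h => hy (g.injective h)
      have hy2 : g (g y) ≠ y := by
        intro h
        apply hy
        have := hggg y
        rw [h] at this
        exact this
      have n1 : (some 0 : GolayPt) ≠ x1 := fun h => hx10 h.symm
      have n2 : (some 0 : GolayPt) ≠ y := by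
        intro h; apply hy; rw [← h]; exact h0
      have n3 : (some 0 : GolayPt) ≠ g y := by
        intro h; apply hy1; rw [← h]; exact h0
      have n4 : (some 0 : GolayPt) ≠ g (g y) := by
        intro h; apply hy2
        have := hggg y
        rw [← h, h0, h] at this
        exact this
      have n5 : x1 ≠ y := by
        intro h; apply hy; rw [← h]; exact hx1.2
      have n6 : x1 ≠ g y := by
        intro h; apply hy1; rw [← h]; exact hx1.2
      have n7 : x1 ≠ g (g y) := by
        intro h; apply hy2
        have := hggg y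
        rw [← h, hx1.2, h] at this
        exact this
      refine ⟨{some 0, x1, y, g y, g (g y)}, ?_, ?_, fun x => ?_⟩
      · intro z hz
        simp only [Finset.mem_insert, Finset.mem_singleton] at hz
        rcases hz with rfl | rfl | rfl | rfl | rfl
        · exact zero_mem_D
        · exact hx1.1
        · exact hyD
        · exact hgyD
        · exact hggyD
      · rw [Finset.card_insert_of_notMem, Finset.card_insert_of_notMem,
          Finset.card_insert_of_notMem, Finset.card_insert_of_notMem, Finset.card_singleton]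
        · simp only [Finset.mem_singleton]; exact fun h => hy1 h.symm
        · simp only [Finset.mem_insert, Finset.mem_singleton, not_or]
          exact ⟨fun h => hy h.symm, fun h => hy2 h.symm⟩
        · simp only [Finset.mem_insert, Finset.mem_singleton, not_or]
          exact ⟨n5, n6, n7⟩
        · simp only [Finset.mem_insert, Finset.mem_singleton, not_or]
          exact ⟨n1, n2, n3, n4⟩
      · simp only [Finset.mem_insert, Finset.mem_singleton]
        constructor
        · rintro (h | h | h | h | h)
          · left; apply g.injective; rw [h, h0]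
          · right; left; apply g.injective; rw [h, hx1.2]
          · right; right; right; right; apply g.injective; rw [h, hggg]
          · right; right; left; exact g.injective h
          · right; right; right; left; exact g.injective h
        · rintro (h | h | h | h | h)
          · left; rw [h, h0]
          · right; left; rw [h, hx1.2]
          · right; right; right; left; rw [h]
          · right; right; right; right; rw [h]
          · right; right; left; rw [h, hggg]
  obtain ⟨S, hSD, hS5, hSinv⟩ := hS
  obtain ⟨c, hc, h8, hSc, hcinv⟩ := exists_inv_octad g hM S hS5 hSinv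
  have h5 : 5 ≤ (supp c ∩ D).card := by
    rw [← hS5]
    exact Finset.card_le_card (Finset.subset_inter hSc hSD)
  have h2 := octad_inter_D c hc h8 h5
  have hTinv : ∀ x, g x ∈ supp c \ D ↔ x ∈ supp c \ D := by
    intro x
    rw [Finset.mem_sdiff, Finset.mem_sdiff, hcinv, hinv]
  have hmod2 := card_fixed_modEq g 3 h3 (supp c \ D) hTinv
  rw [h2] at hmod2
  have hpos2 : 0 < ((supp c \ D).filter (fun x => g x = x)).card := by
    unfold Nat.ModEq at hmod2
    omega
  obtain ⟨x, hx⟩ := Finset.card_pos.mp hpos2
  rw [Finset.mem_filter, Finset.mem_sdiff] at hx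
  exact ⟨x, hx.1.2, hx.2⟩

/-! ### order two -/

open Cfsg.Agent.Lib.Helper7_Bits Cfsg.Agent.Lib.Helper7_Base in
/-- An element of `M24` fixing the dodecad pointwise fixes a point outside it. -/
theorem fixed_outside (g : Equiv.Perm GolayPt) (hM : g ∈ M24) (hfix : ∀ x ∈ D, g x = x) :
    ∃ x, x ∉ D ∧ g x = x := by
  have hD : ∀ p : GolayPt, (340831 : ℕ).testBit (enc p) = true → p ∈ D := by decide
  have hstep : stepOK 340831 20 3416079 1384564 = true := by decide +kernel
  have h := step_sound g hM 340831 20 3416079 1384564
    (fun p hp => hfix p (hD p ((mem_maskSet _ _).mp hp))) hstep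
  refine ⟨dec 20, by decide, h _ ?_⟩
  rw [mem_maskSet]
  decide

theorem case_two (g : Equiv.Perm GolayPt) (hM : g ∈ M24)
    (h0 : g (some 0) = some 0) (h2 : g ^ 2 = 1) : ∃ x, x ∉ D ∧ g x = x := by
  have : Fact (Nat.Prime 2) := ⟨by norm_num⟩
  have hgg : ∀ x, g (g x) = x := by
    intro x
    have := congrArg (fun σ : Equiv.Perm GolayPt => σ x) h2
    simpa [pow_succ, Equiv.Perm.mul_apply] using this
  have hsymm : ∀ x, g.symm x = g x := by
    intro x
    rw [Equiv.symm_apply_eq, hgg]
  by_contra hcon
  simp only [not_exists, not_and] at hcon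
  -- the set of all fixed points
  set F : Finset GolayPt := Finset.univ.filter (fun x => g x = x) with hF
  have hFD : F ⊆ D := by
    intro x hx
    rw [hF, Finset.mem_filter] at hx
    by_contra hxD
    exact hcon x hxD hx.2
  have h0F : (some 0 : GolayPt) ∈ F := by
    rw [hF, Finset.mem_filter]; exact ⟨Finset.mem_univ _, h0⟩
  -- it meets every code word evenly
  have heven : ∀ c ∈ golayCode, Even (supp c ∩ F).card := by
    intro c hc
    have hc' : permWord g c ∈ golayCode := permWord_mem_of_mem_M24 hM hc
    have hI : Even (supp c ∩ supp (permWord g c)).card :=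
      Cfsg.Agent.Lib.Helper8_GolayEven.even_card_inter c (permWord g c) hc hc'
    have hmem' : ∀ x, x ∈ supp (permWord g c) ↔ g x ∈ supp c := by
      intro x
      rw [mem_supp, mem_supp, permWord_apply, hsymm]
    have hIinv : ∀ x, g x ∈ supp c ∩ supp (permWord g c) ↔ x ∈ supp c ∩ supp (permWord g c) := by
      intro x
      rw [Finset.mem_inter, Finset.mem_inter, hmem', hmem', hgg]
      exact and_comm
    have hmod := card_fixed_modEq g 2 h2 _ hIinv
    have hfe : (supp c ∩ supp (permWord g c)).filter (fun x => g x = x) = supp c ∩ F := by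
      ext x
      rw [Finset.mem_filter, Finset.mem_inter, Finset.mem_inter, hF, Finset.mem_filter, hmem']
      constructor
      · rintro ⟨⟨h1, _⟩, h3⟩
        exact ⟨h1, Finset.mem_univ _, h3⟩
      · rintro ⟨h1, _, h3⟩
        refine ⟨⟨h1, ?_⟩, h3⟩
        rw [h3]; exact h1
    rw [hfe] at hmod
    obtain ⟨k, hk⟩ := hI
    rw [Nat.even_iff]
    unfold Nat.ModEq at hmod
    omega
  -- hence it is a code word
  have hFC : ind F ∈ golayCode := by
    apply mem_of_orth
    intro c hc
    rw [dot_eq_card_inter, supp_ind, Finset.inter_comm]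
    exact (ZMod.natCast_eq_zero_iff_even).mpr (heven c hc)
  have hF0 : ind F ≠ 0 := by
    intro h
    have := (supp_eq_empty_iff (ind F)).mpr h
    rw [supp_ind] at this
    rw [this] at h0F
    exact absurd h0F (Finset.notMem_empty _)
  have hF8 := golayLike.minwt _ hFC hF0
  rw [hammingNorm_eq, supp_ind] at hF8
  -- so it is the whole dodecad
  have hw := wt_add (ind F) (qrWord 0)
  rw [supp_ind, supp_qr, Finset.inter_eq_left.mpr hFD, hammingNorm_eq (ind F), supp_ind,
    hammingNorm_eq (qrWord 0), supp_qr, D_card] at hw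
  have hsum : ind F + qrWord 0 = 0 := by
    by_contra hne
    have := golayLike.minwt _ (golayCode.add_mem hFC qr_mem) hne
    omega
  rw [hsum] at hw
  have hFcard : F.card = 12 := by
    have : hammingNorm (0 : GolayPt → ZMod 2) = 0 := by simp
    rw [this] at hw
    omega
  have hFeq : F = D := Finset.eq_of_subset_of_card_le hFD (by rw [hFcard, D_card])
  have hfix : ∀ x ∈ D, g x = x := by
    intro x hx
    rw [← hFeq, hF, Finset.mem_filter] at hx
    exact hx.2
  obtain ⟨x, hxD, hx⟩ := fixed_outside g hM hfix
  exact hcon x hxD hx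

/-! ### the statement -/

/-- The Mathieu group M₁₁, realised as the stabiliser of one point of the dodecad of squares inside the stabiliser M₁₂ of that dodecad in M₂₄, acts on the twelve coordinate positions outside the dodecad of squares (its 3-transitive action of degree 12); in this action every element of prime order fixes a point, i.e. the action is elusive. -/
theorem result (g : Equiv.Perm Cfsg.GolayPt) (hg : g ∈ Cfsg.Spor.M11) (hord : (orderOf g).Prime) :
    ∃ x : Cfsg.GolayPt, x ∉ Cfsg.Spor.squareDodecad ∧ g x = x := by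
  obtain ⟨hM, hD, h0⟩ := mem_M11 g hg
  have hinv : ∀ x, g x ∈ D ↔ x ∈ D := inv_of_smul g D hD
  have hgp : g ^ orderOf g = 1 := pow_orderOf_eq_one g
  by_cases hdvd : orderOf g ∣ 12
  · have hle : orderOf g ≤ 12 := Nat.le_of_dvd (by norm_num) hdvd
    have h23 : orderOf g = 2 ∨ orderOf g = 3 := by
      generalize orderOf g = p at hord hdvd hle
      interval_cases p <;> first | omega | (exfalso; revert hord; norm_num)
    rcases h23 with h | h
    · rw [h] at hgp
      exact case_two g hM h0 hgp
    · rw [h] at hgp
      exact case_three g hM hinv h0 hgp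
  · have : Fact (orderOf g).Prime := ⟨hord⟩
    have hcinv : ∀ x, g x ∈ Dᶜ ↔ x ∈ Dᶜ := by
      intro x
      rw [Finset.mem_compl, Finset.mem_compl, hinv]
    have hmod := card_fixed_modEq g (orderOf g) hgp Dᶜ hcinv
    have hcard : (Dᶜ : Finset GolayPt).card = 12 := by
      rw [Finset.card_compl, D_card]
      decide
    rw [hcard] at hmod
    have hpos : 0 < ((Dᶜ : Finset GolayPt).filter (fun x => g x = x)).card := by
      rw [Nat.pos_iff_ne_zero]
      intro h
      rw [h] at hmod
      exact hdvd ((Nat.modEq_zero_iff_dvd).mp hmod.symm)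
    obtain ⟨x, hx⟩ := Finset.card_pos.mp hpos
    rw [Finset.mem_filter, Finset.mem_compl] at hx
    exact ⟨x, hx.1, hx.2⟩

end Cfsg.Agent.S5522
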