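import Cfsg.Statements.S5529
import Cfsg.Agent.Lib.Helper86_M23Gen
import Cfsg.Agent.Lib.Helper86_M23NoGen

set_option autoImplicit false
open Cfsg

namespace Cfsg.Agent.S5529

open Cfsg.Agent.Lib.Helper86_M23Gen in
/-- the table of the forty triples -/
theorem lookup : ∀ p ∈ [2, 3, 5, 7, 11, 23], ∀ q ∈ [2, 3, 5, 7, 11, 23],
    ∀ r ∈ [2, 3, 5, 7, 11, 23], p ≤ q → q ≤ r → ¬ (p = 2 ∧ q = 2) →
    ¬ ((p = 2 ∧ q = 3) ∨ (p = 2 ∧ q = 5 ∧ r = 5) ∨ (p = 2 ∧ q = 5 ∧ r = 7) ∨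
      (p = 3 ∧ q = 3 ∧ r ≤ 7)) →
    ∃ i < 40, byteAt PP i = p ∧ byteAt QQ i = q ∧ byteAt RR i = r := by
  decide +kernel

theorem prime_cases {p : ℕ} (hp : p.Prime) (h : p ∣ 10200960) :
    p ∈ [2, 3, 5, 7, 11, 23] := by
  have e : 10200960 = 2 ^ 7 * 3 ^ 2 * 5 * 7 * 11 * 23 := by norm_num
  rw [e] at h
  simp only [List.mem_cons, List.not_mem_nil, or_false]
  rcases (Nat.Prime.dvd_mul hp).1 h with h | h
  · rcases (Nat.Prime.dvd_mul hp).1 h with h | h
    · rcases (Nat.Prime.dvd_mul hp).1 h with h | h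
      · rcases (Nat.Prime.dvd_mul hp).1 h with h | h
        · rcases (Nat.Prime.dvd_mul hp).1 h with h | h
          · left
            exact (Nat.prime_dvd_prime_iff_eq hp Nat.prime_two).1 (hp.dvd_of_dvd_pow h)
          · right; left
            exact (Nat.prime_dvd_prime_iff_eq hp Nat.prime_three).1 (hp.dvd_of_dvd_pow h)
        · right; right; left
          exact (Nat.prime_dvd_prime_iff_eq hp Nat.prime_five).1 h
      · right; right; right; left
        exact (Nat.prime_dvd_prime_iff_eq hp (by norm_num)).1 h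
    · right; right; right; right; left
      exact (Nat.prime_dvd_prime_iff_eq hp (by norm_num)).1 h
  · right; right; right; right; right
    exact (Nat.prime_dvd_prime_iff_eq hp (by norm_num)).1 h

/-- Generation of the Mathieu group M₂₃ (the stabiliser of a point in the Mathieu group M₂₄ acting on 24 points) by triples of prime orders. Let p ≤ q ≤ r be primes dividing |M₂₃| = 10200960 = 2⁷·3²·5·7·11·23, not both p and q equal to 2. Then M₂₃ contains elements x, y, z of orders p, q, r with xyz = 1 and ⟨x, y⟩ = M₂₃ if and only if (p, q, r) is none of: (2, 3, r) for any r, (2, 5, 5), (2, 5, 7), (3, 3, 3), (3, 3, 5), (3, 3, 7). -/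
theorem result (p q r : ℕ) (hp : p.Prime) (hq : q.Prime)
    (hr : r.Prime) (hpq : p ≤ q) (hqr : q ≤ r) (hp2 : ¬ (p = 2 ∧ q = 2))
    (hdvd : p ∣ 10200960 ∧ q ∣ 10200960 ∧ r ∣ 10200960) :
    (∃ x y z : Cfsg.Spor.M23, orderOf x = p ∧ orderOf y = q ∧ orderOf z = r ∧ x * y * z = 1 ∧
        Subgroup.closure {x, y} = ⊤) ↔
      ¬ ((p = 2 ∧ q = 3) ∨ (p = 2 ∧ q = 5 ∧ r = 5) ∨ (p = 2 ∧ q = 5 ∧ r = 7) ∨ (p = 3 ∧ q = 3 ∧ r ≤ 7)) := by
  constructor
  · rintro ⟨x, y, z, ox, oy, oz, hxyz, hcl⟩ hexc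
    exact Cfsg.Agent.Lib.Helper86_M23NoGen.no_gen x y z hp hq hr hqr ox oy oz hxyz hcl hexc
  · intro hne
    obtain ⟨i, hi, e1, e2, e3⟩ := lookup p (prime_cases hp hdvd.1) q (prime_cases hq hdvd.2.1) r
      (prime_cases hr hdvd.2.2) hpq hqr hp2 hne
    have := Cfsg.Agent.Lib.Helper86_M23Gen.exists_gens i hi (by rw [e1]; exact hp)
      (by rw [e2]; exact hq) (by rw [e3]; exact hr)
    rw [e1, e2, e3] at this
    exact this

end Cfsg.Agent.S5529
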