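import Cfsg.Statements.S5541

set_option autoImplicit false
open Cfsg

namespace Cfsg.Agent.S5541

section aux
variable {H : Type*} [Group H] {U : Type*} [AddCommGroup U] [Module ℝ U]

/-- An irreducible representation with a non-zero invariant symmetric form: the form is left-separating. -/
theorem sepLeft (ρ : Representation ℝ H U)
    (hirr : ∀ W : Submodule ℝ U, (∀ g : H, W.map (ρ g) ≤ W) → W = ⊥ ∨ W = ⊤)
    (B : LinearMap.BilinForm ℝ U) (hB0 : B ≠ 0)
    (hBi : ∀ (g : H) (u v : U), B (ρ g u) (ρ g v) = B u v) :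
    ∀ x : U, (∀ y : U, B x y = 0) → x = 0 := by
  have hinv : ∀ g : H, (LinearMap.ker B).map (ρ g) ≤ LinearMap.ker B := by
    intro g
    rintro _ ⟨u, hu, rfl⟩
    rw [SetLike.mem_coe, LinearMap.mem_ker] at hu
    rw [LinearMap.mem_ker]
    ext v
    have h1 : ρ g (ρ g⁻¹ v) = v := by
      have : (ρ g * ρ g⁻¹) v = v := by
        rw [← map_mul, mul_inv_cancel, map_one]; rfl
      exact this
    have : B (ρ g u) v = B u (ρ g⁻¹ v) := by
      conv_lhs => rw [← h1]
      exact hBi g u _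
    rw [this, hu]; rfl
  rcases hirr _ hinv with h | h
  · intro x hx
    have : x ∈ LinearMap.ker B := by
      rw [LinearMap.mem_ker]; ext y; exact hx y
    rw [h] at this
    exact (Submodule.mem_bot ℝ).mp this
  · exfalso
    apply hB0
    ext u v
    have : u ∈ LinearMap.ker B := by rw [h]; trivial
    rw [LinearMap.mem_ker] at this
    rw [this]; rfl

end aux

theorem result {H : Type*} [Group H] {U : Type*} [AddCommGroup U] [Module ℝ U] [FiniteDimensional ℝ U] (ρ : Representation ℝ H U) (hirr : ∀ W : Submodule ℝ U, (∀ g : H, W.map (ρ g) ≤ W) → W = ⊥ ∨ W = ⊤) (B : LinearMap.BilinForm ℝ U) (hB0 : B ≠ 0) (hBs : ∀ u v, B u v = B v u) (hBi : ∀ (g : H) (u v : U), B (ρ g u) (ρ g v) = B u v) : (∃ m : U →ₗ[ℝ] U →ₗ[ℝ] U, m ≠ 0 ∧ (∀ u v, m u v = m v u) ∧ (∀ (g : H) (u v : U), m (ρ g u) (ρ g v) = ρ g (m u v)) ∧ ∀ m' : U →ₗ[ℝ] U →ₗ[ℝ] U, (∀ (g : H) (u v : U), m' (ρ g u) (ρ g v) = ρ g (m' u v)) → ∃ c : ℝ, m' = c • m) ↔ (∃ t : U →ₗ[ℝ] U →ₗ[ℝ] U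 →ₗ[ℝ] ℝ, t ≠ 0 ∧ (∀ u v w, t u v w = t v u w ∧ t u v w = t u w v) ∧ (∀ (g : H) (u v w : U), t (ρ g u) (ρ g v) (ρ g w) = t u v w) ∧ ∀ t' : U →ₗ[ℝ] U →ₗ[ℝ] U →ₗ[ℝ] ℝ, (∀ (g : H) (u v w : U), t' (ρ g u) (ρ g v) (ρ g w) = t' u v w) → ∃ c : ℝ, t' = c • t) := by
  have hL := sepLeft ρ hirr B hB0 hBi
  have hND : B.Nondegenerate := ⟨hL, fun y hy => hL y (fun x => by rw [hBs]; exact hy x)⟩
  -- cancellation
  have hcancel : ∀ a b : U, (∀ w, B a w = B b w) → a = b := by
    intro a b h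
    have : a - b = 0 := hL _ (fun w => by rw [map_sub, LinearMap.sub_apply, h w, sub_self])
    exact sub_eq_zero.mp this
  have hgg : ∀ (g : H) (v : U), ρ g (ρ g⁻¹ v) = v := by
    intro g v
    have : (ρ g * ρ g⁻¹) v = v := by
      rw [← map_mul, mul_inv_cancel, map_one]; rfl
    exact this
  -- B (ρ g a) w = B a (ρ g⁻¹ w)
  have hBadj : ∀ (g : H) (a w : U), B (ρ g a) w = B a (ρ g⁻¹ w) := by
    intro g a w
    conv_lhs => rw [← hgg g w]
    exact hBi g a _
  set β := B.toDual hND with hβ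
  -- from t' build m'
  have build : ∀ t' : U →ₗ[ℝ] U →ₗ[ℝ] U →ₗ[ℝ] ℝ,
      ∃ m' : U →ₗ[ℝ] U →ₗ[ℝ] U, ∀ u v w, B (m' u v) w = t' u v w := by
    intro t'
    refine ⟨t'.compr₂ β.symm.toLinearMap, ?_⟩
    intro u v w
    rw [LinearMap.compr₂_apply]
    exact LinearMap.BilinForm.apply_toDual_symm_apply (hB := hND) (t' u v) w
  -- equivariance transfer
  have equiv_of_inv : ∀ (m' : U →ₗ[ℝ] U →ₗ[ℝ] U) (t' : U →ₗ[ℝ] U →ₗ[ℝ] U →ₗ[ℝ] ℝ),
      (∀ u v w, B (m' u v) w = t' u v w) →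
      (∀ (g : H) (u v w : U), t' (ρ g u) (ρ g v) (ρ g w) = t' u v w) →
      ∀ (g : H) (u v : U), m' (ρ g u) (ρ g v) = ρ g (m' u v) := by
    intro m' t' hmt hinv g u v
    apply hcancel
    intro w
    rw [hmt, hBadj, hmt]
    conv_lhs => rw [← hgg g w]
    exact hinv g u v _
  have inv_of_equiv : ∀ (m' : U →ₗ[ℝ] U →ₗ[ℝ] U) (t' : U →ₗ[ℝ] U →ₗ[ℝ] U →ₗ[ℝ] ℝ),
      (∀ u v w, B (m' u v) w = t' u v w) →
      (∀ (g : H) (u v : U), m' (ρ g u) (ρ g v) = ρ g (m' u v)) →
      ∀ (g : H) (u v w : U), t' (ρ g u) (ρ g v) (ρ g w) = t' u v w := by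
    intro m' t' hmt heq g u v w
    rw [← hmt, heq, hBi, hmt]
  constructor
  · rintro ⟨m, hm0, hmc, hme, hmu⟩
    set t : U →ₗ[ℝ] U →ₗ[ℝ] U →ₗ[ℝ] ℝ := m.compr₂ B with ht
    have htm : ∀ u v w, B (m u v) w = t u v w := by
      intro u v w; rw [ht, LinearMap.compr₂_apply]
    have ht0 : t ≠ 0 := by
      intro h0
      apply hm0
      ext u v
      apply hcancel
      intro w
      rw [htm, h0]; simp
    have htinv := inv_of_equiv m t htm hme
    have htuniv : ∀ t' : U →ₗ[ℝ] U →ₗ[ℝ] U →ₗ[ℝ] ℝ,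
        (∀ (g : H) (u v w : U), t' (ρ g u) (ρ g v) (ρ g w) = t' u v w) → ∃ c : ℝ, t' = c • t := by
      intro t' hinv'
      obtain ⟨m', hm't'⟩ := build t'
      obtain ⟨c, hc⟩ := hmu m' (equiv_of_inv m' t' hm't' hinv')
      refine ⟨c, ?_⟩
      ext u v w
      rw [← hm't', hc]
      simp only [LinearMap.smul_apply, map_smul, smul_eq_mul]
      rw [htm]
    have hsym12 : ∀ u v w, t u v w = t v u w := by
      intro u v w
      rw [← htm, ← htm, hmc]
    -- the flipped form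
    obtain ⟨m2, hm2⟩ := build t
    have hsym23 : ∀ u v w, t u v w = t u w v := by
      -- t'' u v w = t u w v
      let t'' : U →ₗ[ℝ] U →ₗ[ℝ] U →ₗ[ℝ] ℝ :=
        LinearMap.mk₂ ℝ (fun u v => (t u).flip v)
          (by intro u1 u2 v; ext w; simp)
          (by intro c u v; ext w; simp)
          (by intro u v1 v2; ext w; simp)
          (by intro c u v; ext w; simp)
      have ht'' : ∀ u v w, t'' u v w = t u w v := by
        intro u v w; rfl
      have hinv'' : ∀ (g : H) (u v w : U), t'' (ρ g u) (ρ g v) (ρ g w) = t'' u v w := by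
        intro g u v w
        rw [ht'', ht'', htinv]
      obtain ⟨c, hc⟩ := htuniv t'' hinv''
      have hc' : ∀ u v w, t u w v = c * t u v w := by
        intro u v w
        rw [← ht'', hc]; simp
      -- find nonzero value
      have hex : ∃ u v w, t u v w ≠ 0 := by
        by_contra hcon
        apply ht0
        ext u v w
        by_contra hne
        exact hcon ⟨u, v, w, hne⟩
      obtain ⟨u0, v0, w0, h0⟩ := hex
      have hcc : c * c = 1 := by
        have h1 := hc' u0 v0 w0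
        have h2 := hc' u0 w0 v0
        rw [h1] at h2
        have : (c * c - 1) * t u0 v0 w0 = 0 := by linarith
        rcases mul_eq_zero.mp this with h | h
        · linarith
        · exact absurd h h0
      have hc1 : c = 1 ∨ c = -1 := by
        have : (c - 1) * (c + 1) = 0 := by ring_nf; linarith
        rcases mul_eq_zero.mp this with h | h
        · left; linarith
        · right; linarith
      rcases hc1 with h1 | h1
      · intro u v w
        have := hc' u w v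
        rw [h1, one_mul] at this
        exact this
      · exfalso
        apply h0
        have e1 := hc' u0 v0 w0   -- t u0 w0 v0 = - t u0 v0 w0
        have e2 := hsym12 u0 w0 v0 -- t u0 w0 v0 = t w0 u0 v0
        have e3 := hc' w0 v0 u0   -- t w0 u0 v0 = - t w0 v0 u0
        have e4 := hsym12 w0 v0 u0 -- t w0 v0 u0 = t v0 w0 u0
        have e5 := hc' v0 u0 w0   -- t v0 w0 u0 = - t v0 u0 w0
        have e6 := hsym12 v0 u0 w0 -- t v0 u0 w0 = t u0 v0 w0
        rw [h1] at e1 e3 e5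
        linarith
    exact ⟨t, ht0, fun u v w => ⟨hsym12 u v w, hsym23 u v w⟩, htinv, htuniv⟩
  · rintro ⟨t, ht0, hts, htinv, htuniv⟩
    obtain ⟨m, hmt⟩ := build t
    refine ⟨m, ?_, ?_, equiv_of_inv m t hmt htinv, ?_⟩
    · intro h0
      apply ht0
      ext u v w
      rw [← hmt, h0]; simp
    · intro u v
      apply hcancel
      intro w
      rw [hmt, hmt]
      exact (hts u v w).1
    · intro m' hm'e
      set t' : U →ₗ[ℝ] U →ₗ[ℝ] U →ₗ[ℝ] ℝ := m'.compr₂ B with ht'
      have ht'm : ∀ u v w, B (m' u v) w = t' u v w := by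
        intro u v w; rw [ht', LinearMap.compr₂_apply]
      obtain ⟨c, hc⟩ := htuniv t' (inv_of_equiv m' t' ht'm hm'e)
      refine ⟨c, ?_⟩
      ext u v
      apply hcancel
      intro w
      rw [ht'm, hc]
      simp only [LinearMap.smul_apply, map_smul, smul_eq_mul]
      rw [hmt]

end Cfsg.Agent.S5541
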