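import Cfsg.Statements.S5543

set_option autoImplicit false
set_option linter.unusedSimpArgs false
open Cfsg

namespace Cfsg.Agent.S5543

/-- Bookkeeping in an elementary abelian 2-group generated by three independent involutions. -/
theorem seven {G : Type*} [Group G] (x y z : G) (hxx : x * x = 1) (hyy : y * y = 1) (hzz : z * z = 1)
    (hxy : y * x = x * y) (hxz : z * x = x * z) (hyz : z * y = y * z)
    (hx : x ≠ 1) (hy : y ≠ 1) (hyx : y ≠ x) (hz1 : z ≠ 1) (hzx : z ≠ x) (hzy : z ≠ y) (hzxy : z ≠ x * y) :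
    (x * y ≠ 1 ∧ x * z ≠ 1 ∧ y * z ≠ 1 ∧ x * (y * z) ≠ 1) ∧
    (x ≠ y ∧ x ≠ x * y ∧ x ≠ z ∧ x ≠ x * z ∧ x ≠ y * z ∧ x ≠ x * (y * z) ∧ y ≠ z ∧ y ≠ x * z ∧
      x * y ≠ z ∧ x * y ≠ x * z ∧ y * z ≠ x * (y * z)) ∧
    (x * (x * y) = y ∧ x * (x * z) = z ∧ x * (x * (y * z)) = y * z ∧ y * (x * z) = x * (y * z) ∧
      (x * y) * z = x * (y * z) ∧ (x * y) * (x * z) = y * z ∧ (y * z) * (x * (y * z)) = x) := by
  have hxx' : ∀ w, x * (x * w) = w := fun w => by rw [← mul_assoc, hxx, one_mul]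
  have hyy' : ∀ w, y * (y * w) = w := fun w => by rw [← mul_assoc, hyy, one_mul]
  have hzz' : ∀ w, z * (z * w) = w := fun w => by rw [← mul_assoc, hzz, one_mul]
  have hxy' : ∀ w, y * (x * w) = x * (y * w) := fun w => by rw [← mul_assoc, hxy, mul_assoc]
  have hxz' : ∀ w, z * (x * w) = x * (z * w) := fun w => by rw [← mul_assoc, hxz, mul_assoc]
  have hyz' : ∀ w, z * (y * w) = y * (z * w) := fun w => by rw [← mul_assoc, hyz, mul_assoc]
  have c1 : x * y ≠ 1 := fun h => hyx (by have := hxx' y; rw [h, mul_one] at this; exact this.symm)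
  have c2 : x * z ≠ 1 := fun h => hzx (by have := hxx' z; rw [h, mul_one] at this; exact this.symm)
  have c3 : y * z ≠ 1 := fun h => hzy (by have := hyy' z; rw [h, mul_one] at this; exact this.symm)
  have c4 : x * (y * z) ≠ 1 := fun h => hzxy (by
    have h1 := hxx' (y * z); rw [h, mul_one] at h1
    have h2 := hyy' z; rw [← h1] at h2
    rw [← h2, hxy])
  have key : ∀ a b : G, a = b → a * b = b * b := fun a b h => by rw [h]
  refine ⟨⟨c1, c2, c3, c4⟩, ?_, ?_⟩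
  · refine ⟨?_, ?_, ?_, ?_, ?_, ?_, ?_, ?_, ?_, ?_, ?_⟩
    all_goals
      intro h
      have h' := key _ _ h
      simp only [mul_assoc, hxx, hyy, hzz, hxy, hxz, hyz, hxx', hyy', hzz', hxy', hxz', hyz', mul_one, one_mul] at h'
      first
        | exact hx h' | exact hy h' | exact hz1 h' | exact c1 h' | exact c2 h' | exact c3 h' | exact c4 h'
  · refine ⟨?_, ?_, ?_, ?_, ?_, ?_, ?_⟩ <;>
      simp only [mul_assoc, hxx, hyy, hzz, hxy, hxz, hyz, hxx', hyy', hzz', hxy', hxz', hyz', mul_one, one_mul]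

section linalg
variable {V : Type*} [AddCommGroup V] [Module ℝ V]

/-- A vector in the sum of the 1- and 0-eigenspaces that is also a 1/4-eigenvector is zero. -/
theorem eigen_disjoint (mul : V →ₗ[ℝ] V →ₗ[ℝ] V) (a w : V)
    (h10 : w ∈ Cfsg.Axial.eigenSum mul a ({1, 0} : Set ℝ))
    (h4 : mul a w = (1 / 4 : ℝ) • w) : w = 0 := by
  unfold Cfsg.Axial.eigenSum at h10
  rw [iSup_insert, iSup_singleton] at h10
  obtain ⟨w1, hw1, w0, hw0, rfl⟩ := Submodule.mem_sup.mp h10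
  unfold Cfsg.Axial.eigen at hw1 hw0
  rw [Module.End.mem_eigenspace_iff] at hw1 hw0
  rw [map_add, hw1, hw0] at h4
  simp only [one_smul, zero_smul, add_zero, smul_add] at h4
  -- h4 : w1 = (1/4) w1 + (1/4) w0
  have h5 : (3 : ℝ) • w1 = w0 := by
    have : (4 : ℝ) • w1 = (4 : ℝ) • ((1 / 4 : ℝ) • w1 + (1 / 4 : ℝ) • w0) := by rw [← h4]
    rw [smul_add, smul_smul, smul_smul] at this
    norm_num at this
    have h6 : (4 : ℝ) • w1 - w1 = w0 := by rw [this]; abel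
    have h7 : (4 : ℝ) • w1 - w1 = (3 : ℝ) • w1 := by
      have : (4 : ℝ) • w1 - w1 = (4 : ℝ) • w1 - (1 : ℝ) • w1 := by rw [one_smul]
      rw [this, ← sub_smul]; norm_num
    rw [← h7]; exact h6
  -- apply mul a to h5
  have h8 : (3 : ℝ) • w1 = 0 := by
    have := congrArg (mul a) h5
    rw [map_smul, hw1, hw0, one_smul, zero_smul] at this
    exact this
  have hw1z : w1 = 0 := by
    rcases smul_eq_zero.mp h8 with h | h
    · norm_num at h
    · exact h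
  rw [← h5, hw1z]; simp

/-- The linear-algebra core: seven idempotent-like vectors with 2A products force `r1 = r2`. -/
theorem core (mul : V →ₗ[ℝ] V →ₗ[ℝ] V) (a p1 p2 q1 q2 r1 r2 : V)
    (hfus : ∀ u v : V, mul a u = (1 / 4 : ℝ) • u → mul a v = (1 / 4 : ℝ) • v →
      mul u v ∈ Cfsg.Axial.eigenSum mul a ({1, 0} : Set ℝ))
    (hap1 : mul a p1 = (1 / 8 : ℝ) • (a + p1 - p2)) (hap2 : mul a p2 = (1 / 8 : ℝ) • (a + p2 - p1))
    (haq1 : mul a q1 = (1 / 8 : ℝ) • (a + q1 - q2)) (haq2 : mul a q2 = (1 / 8 : ℝ) • (a + q2 - q1))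
    (har1 : mul a r1 = (1 / 8 : ℝ) • (a + r1 - r2)) (har2 : mul a r2 = (1 / 8 : ℝ) • (a + r2 - r1))
    (h11 : mul p1 q1 = (1 / 8 : ℝ) • (p1 + q1 - r1)) (h12 : mul p1 q2 = (1 / 8 : ℝ) • (p1 + q2 - r2))
    (h21 : mul p2 q1 = (1 / 8 : ℝ) • (p2 + q1 - r2)) (h22 : mul p2 q2 = (1 / 8 : ℝ) • (p2 + q2 - r1)) :
    r1 = r2 := by
  have hv1 : mul a (p1 - p2) = (1 / 4 : ℝ) • (p1 - p2) := by
    rw [map_sub, hap1, hap2]
    module
  have hv2 : mul a (q1 - q2) = (1 / 4 : ℝ) • (q1 - q2) := by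
    rw [map_sub, haq1, haq2]
    module
  have hv3 : mul a (r1 - r2) = (1 / 4 : ℝ) • (r1 - r2) := by
    rw [map_sub, har1, har2]
    module
  have hprod : mul (p1 - p2) (q1 - q2) = (-(1 / 4) : ℝ) • (r1 - r2) := by
    rw [map_sub, map_sub, LinearMap.sub_apply, LinearMap.sub_apply, h11, h12, h21, h22]
    module
  have hmem := hfus _ _ hv1 hv2
  rw [hprod] at hmem
  have h4 : mul a ((-(1 / 4) : ℝ) • (r1 - r2)) = (1 / 4 : ℝ) • ((-(1 / 4) : ℝ) • (r1 - r2)) := by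
    rw [map_smul, hv3, smul_comm]
  have hz := eigen_disjoint mul a _ hmem h4
  rcases smul_eq_zero.mp hz with h | h
  · norm_num at h
  · exact sub_eq_zero.mp h

end linalg

theorem result {V : Type*} [AddCommGroup V] [Module ℝ V] [FiniteDimensional ℝ V] (mul : V →ₗ[ℝ] V →ₗ[ℝ] V) (B : LinearMap.BilinForm ℝ V) (hV : Cfsg.Axial.IsMajoranaAmbient mul B) (X : Subgroup (V ≃ₗ[ℝ] V)) (hX : ∀ x ∈ X, x * x = 1) (ax : (V ≃ₗ[ℝ] V) → V) (hax : ∀ x ∈ X, x ≠ 1 → Cfsg.Axial.IsMajoranaPair mul B x (ax x)) (h1 : ∀ x ∈ X, x ≠ 1 → B (ax x) (ax x) = 1) (h2A : ∀ x ∈ X, ∀ y ∈ X, x ≠ 1 → y ≠ 1 → x ≠ y → mul (ax x) (ax y) = (1 / 8 : ℝ) • (ax x + ax y - ax (x * y))) : Nat.card ↥X ≤ 4 := by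
  classical
  -- commutativity in X
  have hcomm : ∀ g ∈ X, ∀ h ∈ X, h * g = g * h := by
    intro g hg h hh
    have hgh := hX (g * h) (X.mul_mem hg hh)
    have hgg := hX g hg
    have hhh := hX h hh
    -- g h g h = 1 → h g = g h
    calc h * g = (g * g) * (h * g) * (h * h) := by rw [hgg, hhh, one_mul, mul_one]
      _ = g * ((g * h) * (g * h)) * h := by group
      _ = g * h := by rw [hgh, mul_one]
  -- a helper to bound the cardinality
  have bound : ∀ S : Finset (V ≃ₗ[ℝ] V), S.card ≤ 4 → (∀ g ∈ X, g ∈ S) → Nat.card ↥X ≤ 4 := by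
    intro S hS hsub
    have h1 : Nat.card ↥X = (X : Set (V ≃ₗ[ℝ] V)).ncard := by
      exact (Nat.card_coe_set_eq (X : Set (V ≃ₗ[ℝ] V)))
    rw [h1]
    have h2 : (X : Set (V ≃ₗ[ℝ] V)) ⊆ (S : Set (V ≃ₗ[ℝ] V)) := fun g hg => hsub g hg
    calc (X : Set (V ≃ₗ[ℝ] V)).ncard ≤ (S : Set (V ≃ₗ[ℝ] V)).ncard :=
          Set.ncard_le_ncard h2 (Finset.finite_toSet S)
      _ = S.card := Set.ncard_coe_finset S
      _ ≤ 4 := hS
  by_cases hx : ∃ x ∈ X, x ≠ 1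
  swap
  · refine bound {1} (by simp) ?_
    intro g hg
    by_contra h
    exact hx ⟨g, hg, by simpa using h⟩
  obtain ⟨x, hxX, hx1⟩ := hx
  by_cases hy : ∃ y ∈ X, y ≠ 1 ∧ y ≠ x
  swap
  · refine bound {1, x} (Finset.card_le_two.trans (by norm_num)) ?_
    intro g hg
    by_contra h
    simp only [Finset.mem_insert, Finset.mem_singleton, not_or] at h
    exact hy ⟨g, hg, h.1, h.2⟩
  obtain ⟨y, hyX, hy1, hyx⟩ := hy
  by_cases hz : ∃ z ∈ X, z ≠ 1 ∧ z ≠ x ∧ z ≠ y ∧ z ≠ x * y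
  swap
  · refine bound {1, x, y, x * y} Finset.card_le_four ?_
    intro g hg
    by_contra h
    simp only [Finset.mem_insert, Finset.mem_singleton, not_or] at h
    exact hz ⟨g, hg, h.1, h.2.1, h.2.2.1, h.2.2.2⟩
  obtain ⟨z, hzX, hz1, hzx, hzy, hzxy⟩ := hz
  exfalso
  obtain ⟨⟨c1, c2, c3, c4⟩, ⟨d1, d2, d3, d4, d5, d6, d7, d8, d9, d10, d11⟩, ⟨e1, e2, e3, e4, e5, e6, e7⟩⟩ :=
    seven x y z (hX x hxX) (hX y hyX) (hX z hzX) (hcomm x hxX y hyX) (hcomm x hxX z hzX)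
      (hcomm y hyX z hzX) hx1 hy1 hyx hz1 hzx hzy hzxy
  have mxy := X.mul_mem hxX hyX
  have mxz := X.mul_mem hxX hzX
  have myz := X.mul_mem hyX hzX
  have mxyz := X.mul_mem hxX myz
  -- the products
  have hap1 := h2A x hxX y hyX hx1 hy1 d1
  have hap2 := h2A x hxX (x * y) mxy hx1 c1 d2
  rw [e1] at hap2
  have haq1 := h2A x hxX z hzX hx1 hz1 d3
  have haq2 := h2A x hxX (x * z) mxz hx1 c2 d4
  rw [e2] at haq2
  have har1 := h2A x hxX (y * z) myz hx1 c3 d5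
  have har2 := h2A x hxX (x * (y * z)) mxyz hx1 c4 d6
  rw [e3] at har2
  have h11 := h2A y hyX z hzX hy1 hz1 d7
  have h12 := h2A y hyX (x * z) mxz hy1 c2 d8
  rw [e4] at h12
  have h21 := h2A (x * y) mxy z hzX c1 hz1 d9
  rw [e5] at h21
  have h22 := h2A (x * y) mxy (x * z) mxz c1 c2 d10
  rw [e6] at h22
  have hrr := h2A (y * z) myz (x * (y * z)) mxyz c3 c4 d11
  rw [e7] at hrr
  -- fusion law for ax x
  obtain ⟨-, -, ⟨⟨-, -, -, hfusion⟩, -⟩, -⟩ := hax x hxX hx1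
  have hfus : ∀ u v : V, mul (ax x) u = (1 / 4 : ℝ) • u → mul (ax x) v = (1 / 4 : ℝ) • v →
      mul u v ∈ Cfsg.Axial.eigenSum mul (ax x) ({1, 0} : Set ℝ) := by
    intro u v hu hv
    have h4 : (1 / 4 : ℝ) ∈ Cfsg.Axial.majoranaSpectrum := by
      unfold Cfsg.Axial.majoranaSpectrum; simp
    have := hfusion (1 / 4) h4 (1 / 4) h4 u
      (by unfold Cfsg.Axial.eigen; rw [Module.End.mem_eigenspace_iff]; exact hu) v
      (by unfold Cfsg.Axial.eigen; rw [Module.End.mem_eigenspace_iff]; exact hv)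
    have hlaw : Cfsg.Axial.monsterLaw (1 / 4 : ℝ) (1 / 32) (1 / 4) (1 / 4) = ({1, 0} : Set ℝ) := by
      unfold Cfsg.Axial.monsterLaw
      norm_num
    rw [hlaw] at this
    exact this
  have hreq : ax (y * z) = ax (x * (y * z)) :=
    core mul (ax x) (ax y) (ax (x * y)) (ax z) (ax (x * z)) (ax (y * z)) (ax (x * (y * z)))
      hfus hap1 hap2 haq1 haq2 har1 har2 h11 h12 h21 h22
  -- idempotent
  obtain ⟨-, -, ⟨⟨-, hidem, -, -⟩, -⟩, -⟩ := hax (y * z) myz c3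
  rw [← hreq, hidem] at hrr
  -- hrr : r = (1/8) (r + r - ax x)
  have h6 : ax x = (-6 : ℝ) • ax (y * z) := by
    have h8 : (8 : ℝ) • ax (y * z) = (8 : ℝ) • ((1 / 8 : ℝ) • (ax (y * z) + ax (y * z) - ax x)) := by
      rw [← hrr]
    rw [smul_smul] at h8
    norm_num at h8
    -- h8 : 8 r = r + r - ax x
    have : ax x = ax (y * z) + ax (y * z) - (8 : ℝ) • ax (y * z) := by rw [h8]; abel
    rw [this]; module
  have hn1 := h1 x hxX hx1
  have hn2 := h1 (y * z) myz c3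
  rw [h6] at hn1
  simp only [map_smul, LinearMap.smul_apply, smul_eq_mul] at hn1
  rw [hn2] at hn1
  norm_num at hn1

end Cfsg.Agent.S5543
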