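import Cfsg.Statements.S5545

set_option autoImplicit false
set_option linter.unusedSimpArgs false
open Cfsg

namespace Cfsg.Agent.S5545

open Cfsg.Axial

section linalg
variable {V : Type*} [AddCommGroup V] [Module ℝ V]

theorem mem_eigen_iff (mul : V →ₗ[ℝ] V →ₗ[ℝ] V) (a v : V) (c : ℝ) :
    v ∈ eigen mul a c ↔ mul a v = c • v := by
  unfold eigen
  exact Module.End.mem_eigenspace_iff

/-- eigenspaces are transported by automorphisms of the product. -/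
theorem eigen_map (mul : V →ₗ[ℝ] V →ₗ[ℝ] V) (φ : V ≃ₗ[ℝ] V)
    (hφ : ∀ u v, φ (mul u v) = mul (φ u) (φ v)) (a : V) (c : ℝ) :
    eigen mul (φ a) c = (eigen mul a c).map (φ : V →ₗ[ℝ] V) := by
  ext v
  rw [mem_eigen_iff, Submodule.mem_map]
  constructor
  · intro h
    refine ⟨φ.symm v, ?_, by simp⟩
    rw [mem_eigen_iff]
    apply φ.injective
    rw [hφ, map_smul]
    simp [h]
  · rintro ⟨w, hw, rfl⟩
    rw [mem_eigen_iff] at hw
    show mul (φ a) (φ w) = c • φ w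
    rw [← hφ, hw, map_smul]

theorem eigenSum_map (mul : V →ₗ[ℝ] V →ₗ[ℝ] V) (φ : V ≃ₗ[ℝ] V)
    (hφ : ∀ u v, φ (mul u v) = mul (φ u) (φ v)) (a : V) (S : Set ℝ) :
    eigenSum mul (φ a) S = (eigenSum mul a S).map (φ : V →ₗ[ℝ] V) := by
  unfold eigenSum
  simp only [Submodule.map_iSup, eigen_map mul φ hφ]

/-- Transport of a Majorana pair along an automorphism commuting with the involution. -/
theorem transport (mul : V →ₗ[ℝ] V →ₗ[ℝ] V) (B : LinearMap.BilinForm ℝ V) (μ φ : V ≃ₗ[ℝ] V) (a : V)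
    (hφ : ∀ u v, φ (mul u v) = mul (φ u) (φ v))
    (hcomm : ∀ v, μ (φ v) = φ (μ v))
    (h : IsMajoranaPair mul B μ a) : IsMajoranaPair mul B μ (φ a) := by
  obtain ⟨hμmul, hμB, ⟨⟨hne, hidem, htop, hfus⟩, hprim⟩, hmiy1, hmiy2⟩ := h
  refine ⟨hμmul, hμB, ⟨⟨?_, ?_, ?_, ?_⟩, ?_⟩, ?_, ?_⟩
  · intro h0
    apply hne
    exact φ.map_eq_zero_iff.mp h0
  · rw [← hφ, hidem]
  · rw [eigenSum_map mul φ hφ, htop]
    exact Submodule.map_top _ |>.trans (LinearMap.range_eq_top.mpr φ.surjective)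
  · intro c hc d hd u hu v hv
    rw [eigen_map mul φ hφ] at hu hv
    obtain ⟨u', hu', rfl⟩ := hu
    obtain ⟨v', hv', rfl⟩ := hv
    rw [eigenSum_map mul φ hφ]
    refine ⟨mul u' v', hfus c hc d hd u' hu' v' hv', ?_⟩
    show φ (mul u' v') = mul (φ u') (φ v')
    exact hφ u' v'
  · rw [eigen_map mul φ hφ, hprim, Submodule.map_span]
    simp
  · intro v hv
    rw [eigenSum_map mul φ hφ] at hv
    obtain ⟨w, hw, rfl⟩ := hv
    show μ (φ w) = φ w
    rw [hcomm]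
    have := hmiy1 w hw
    exact congrArg φ this
  · intro v hv
    rw [eigen_map mul φ hφ] at hv
    obtain ⟨w, hw, rfl⟩ := hv
    show μ (φ w) = -(φ w)
    rw [hcomm]
    have := hmiy2 w hw
    have h2 : μ w = -w := this
    rw [h2, map_neg]

/-- A vector in the sum of the 1- and 0-eigenspaces that is also a 1/4-eigenvector is zero. -/
theorem eigen_disjoint (mul : V →ₗ[ℝ] V →ₗ[ℝ] V) (a w : V)
    (h10 : w ∈ Cfsg.Axial.eigenSum mul a ({1, 0} : Set ℝ))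
    (h4 : mul a w = (1 / 4 : ℝ) • w) : w = 0 := by
  unfold Cfsg.Axial.eigenSum at h10
  rw [iSup_insert, iSup_singleton] at h10
  obtain ⟨w1, hw1, w0, hw0, rfl⟩ := Submodule.mem_sup.mp h10
  rw [mem_eigen_iff] at hw1 hw0
  rw [map_add, hw1, hw0] at h4
  simp only [one_smul, zero_smul, add_zero, smul_add] at h4
  have h5 : (3 : ℝ) • w1 = w0 := by
    linear_combination (norm := module) (4 : ℝ) • h4
  have h8 : (3 : ℝ) • w1 = 0 := by
    have := congrArg (mul a) h5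
    rw [map_smul, hw1, hw0, one_smul, zero_smul] at this
    exact this
  have hw1z : w1 = 0 := by
    rcases smul_eq_zero.mp h8 with h | h
    · norm_num at h
    · exact h
  rw [← h5, hw1z]; simp

/-- Decomposition of a vector fixed by the Miyamoto involution of the axis `a`. -/
theorem decomp (mul : V →ₗ[ℝ] V →ₗ[ℝ] V) (B : LinearMap.BilinForm ℝ V)
    (hcm : ∀ u v : V, mul u v = mul v u)
    (hassoc : ∀ u v w : V, B u (mul v w) = B (mul u v) w)
    (μ : V ≃ₗ[ℝ] V) (a b : V) (h : IsMajoranaPair mul B μ a) (hn : B a a = 1)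
    (hfix : μ b = b) (hbb : mul b b = b) :
    ∃ β₀ β₁ : V, b = (B a b) • a + β₀ + β₁ ∧ mul a β₀ = 0 ∧ mul a β₁ = (1 / 4 : ℝ) • β₁ ∧
      ((B a b) / 2) • β₁ + (2 : ℝ) • mul β₀ β₁ = β₁ := by
  obtain ⟨hμmul, hμB, ⟨⟨hne, hidem, htop, hfus⟩, hprim⟩, hmiy1, hmiy2⟩ := h
  have hbtop : b ∈ eigenSum mul a majoranaSpectrum := by rw [htop]; trivial
  unfold eigenSum majoranaSpectrum at hbtop
  rw [iSup_insert, iSup_insert, iSup_insert, iSup_singleton] at hbtop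
  obtain ⟨b1, hb1, t1, ht1, rfl⟩ := Submodule.mem_sup.mp hbtop
  obtain ⟨b0, hb0, t2, ht2, rfl⟩ := Submodule.mem_sup.mp ht1
  obtain ⟨bq, hbq, br, hbr, rfl⟩ := Submodule.mem_sup.mp ht2
  -- the Miyamoto map
  have hS1 : eigen mul a 1 ≤ eigenSum mul a ({1, 0, 1 / 4} : Set ℝ) := by
    unfold eigenSum
    exact le_iSup₂_of_le (1 : ℝ) (by simp) le_rfl
  have hS0 : eigen mul a 0 ≤ eigenSum mul a ({1, 0, 1 / 4} : Set ℝ) := by
    unfold eigenSum
    exact le_iSup₂_of_le (0 : ℝ) (by simp) le_rfl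
  have hSq : eigen mul a (1 / 4) ≤ eigenSum mul a ({1, 0, 1 / 4} : Set ℝ) := by
    unfold eigenSum
    exact le_iSup₂_of_le (1 / 4 : ℝ) (by simp) le_rfl
  have m1 : μ b1 = b1 := hmiy1 b1 (hS1 hb1)
  have m0 : μ b0 = b0 := hmiy1 b0 (hS0 hb0)
  have mq : μ bq = bq := hmiy1 bq (hSq hbq)
  have mr : μ br = -br := hmiy2 br hbr
  have hbr0 : br = 0 := by
    rw [map_add, map_add, map_add, m1, m0, mq, mr] at hfix
    have h2 : (2 : ℝ) • br = 0 := by
      linear_combination (norm := module) (-1 : ℝ) • hfix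
    rcases smul_eq_zero.mp h2 with h | h
    · norm_num at h
    · exact h
  subst hbr0
  rw [hprim] at hb1
  obtain ⟨l, rfl⟩ := Submodule.mem_span_singleton.mp hb1
  rw [mem_eigen_iff] at hb0 hbq
  rw [zero_smul] at hb0
  -- compute B a b
  have hB0 : B a b0 = 0 := by
    have := hassoc a a b0
    rw [hb0, hidem, map_zero] at this
    exact this.symm
  have hBq : B a bq = 0 := by
    have := hassoc a a bq
    rw [hbq, hidem, map_smul, smul_eq_mul] at this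
    linarith
  have hl : B a (l • a + (b0 + (bq + 0))) = l := by
    rw [map_add, map_add, map_add, map_smul, hn, hB0, hBq, map_zero]
    simp
  rw [hl]
  refine ⟨b0, bq, by module, hb0, hbq, ?_⟩
  -- the fusion computation
  have hq : (1 / 4 : ℝ) ∈ majoranaSpectrum := by unfold majoranaSpectrum; simp
  have h0 : (0 : ℝ) ∈ majoranaSpectrum := by unfold majoranaSpectrum; simp
  have e0 : b0 ∈ eigen mul a 0 := by rw [mem_eigen_iff, zero_smul]; exact hb0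
  have eq : bq ∈ eigen mul a (1 / 4) := by rw [mem_eigen_iff]; exact hbq
  have f00 := hfus 0 h0 0 h0 b0 e0 b0 e0
  have f0q := hfus 0 h0 (1 / 4) hq b0 e0 bq eq
  have fqq := hfus (1 / 4) hq (1 / 4) hq bq eq bq eq
  have l00 : monsterLaw (1 / 4 : ℝ) (1 / 32) 0 0 = ({0} : Set ℝ) := by
    unfold monsterLaw; norm_num
  have l0q : monsterLaw (1 / 4 : ℝ) (1 / 32) 0 (1 / 4) = ({1 / 4} : Set ℝ) := by
    unfold monsterLaw; norm_num
  have lqq : monsterLaw (1 / 4 : ℝ) (1 / 32) (1 / 4) (1 / 4) = ({1, 0} : Set ℝ) := by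
    unfold monsterLaw; norm_num
  rw [l00] at f00
  rw [l0q] at f0q
  rw [lqq] at fqq
  unfold eigenSum at f00 f0q
  rw [iSup_singleton] at f00 f0q
  rw [mem_eigen_iff] at f0q
  -- E1 ⊔ E0 memberships
  have hE1 : eigen mul a 1 ≤ eigenSum mul a ({1, 0} : Set ℝ) := by
    unfold eigenSum
    exact le_iSup₂_of_le (1 : ℝ) (by simp) le_rfl
  have hE0 : eigen mul a 0 ≤ eigenSum mul a ({1, 0} : Set ℝ) := by
    unfold eigenSum
    exact le_iSup₂_of_le (0 : ℝ) (by simp) le_rfl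
  have ha1 : a ∈ eigen mul a 1 := by rw [mem_eigen_iff, one_smul]; exact hidem
  set W := eigenSum mul a ({1, 0} : Set ℝ) with hW
  have hX : (l ^ 2 - l) • a + mul b0 b0 + mul bq bq - b0 ∈ W := by
    refine W.sub_mem (W.add_mem (W.add_mem (W.smul_mem _ (hE1 ha1)) (hE0 f00)) fqq) (hE0 e0)
  -- expand b*b = b
  have hexp : mul (l • a + (b0 + (bq + 0))) (l • a + (b0 + (bq + 0))) =
      (l ^ 2) • a + mul b0 b0 + mul bq bq + (l / 2) • bq + (2 : ℝ) • mul b0 bq := by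
    simp only [add_zero, map_add, map_smul, LinearMap.add_apply, LinearMap.smul_apply, hidem, hb0, hbq,
      hcm b0 a, hcm bq a, hcm bq b0, smul_zero, zero_smul]
    module
  rw [hexp] at hbb
  set Y := (l / 2) • bq + (2 : ℝ) • mul b0 bq - bq with hY
  have hYX : Y = -((l ^ 2 - l) • a + mul b0 b0 + mul bq bq - b0) := by
    rw [hY]
    linear_combination (norm := module) hbb
  have hYW : Y ∈ W := by rw [hYX]; exact W.neg_mem hX
  have hYq : mul a Y = (1 / 4 : ℝ) • Y := by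
    rw [hY, map_sub, map_add, map_smul, map_smul, hbq, f0q]
    module
  have hY0 := eigen_disjoint mul a Y hYW hYq
  rw [hY] at hY0
  exact sub_eq_zero.mp hY0

/-- The purely algebraic core. -/
theorem alg_core (mul : V →ₗ[ℝ] V →ₗ[ℝ] V) (hcm : ∀ u v : V, mul u v = mul v u)
    (a b : V) (l : ℝ) (haa : mul a a = a) (hbb : mul b b = b)
    (β₀ β₁ α₀ α₁ : V)
    (hb : b = l • a + β₀ + β₁) (hβ₀ : mul a β₀ = 0) (hβ₁ : mul a β₁ = (1 / 4 : ℝ) • β₁)
    (hB : (l / 2) • β₁ + (2 : ℝ) • mul β₀ β₁ = β₁)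
    (ha : a = l • b + α₀ + α₁) (hα₀ : mul b α₀ = 0) (hα₁ : mul b α₁ = (1 / 4 : ℝ) • α₁)
    (hA : (l / 2) • α₁ + (2 : ℝ) • mul α₀ α₁ = α₁) :
    mul a (mul a b) = (1 / 4 : ℝ) • mul a b + (3 * l / 4) • a ∧
    mul b (mul a b) = (1 / 4 : ℝ) • mul a b + (3 * l / 4) • b ∧
    (16 : ℝ) • mul (mul a b) (mul a b) = (4 * l - 1) • mul a b + (3 * l) • b + (8 * l ^ 2 + 2 * l) • a ∧
    (16 : ℝ) • mul (mul a b) (mul a b) = (4 * l - 1) • mul a b + (3 * l) • a + (8 * l ^ 2 + 2 * l) • b := by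
  have hba : mul b a = mul a b := hcm b a
  set p := mul a b with hp
  -- p = l a + (1/4) β₁
  have hp1 : p = l • a + (1 / 4 : ℝ) • β₁ := by
    rw [hp]
    conv_lhs => rw [hb]
    rw [map_add, map_add, map_smul, haa, hβ₀, hβ₁]
    module
  have hβ₁' : β₁ = (4 : ℝ) • (p - l • a) := by
    linear_combination (norm := module) (-4 : ℝ) • hp1
  have hβ₀' : β₀ = b + (3 * l) • a - (4 : ℝ) • p := by
    linear_combination (norm := module) (-1 : ℝ) • hb + (4 : ℝ) • hp1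
  have hp2 : p = l • b + (1 / 4 : ℝ) • α₁ := by
    rw [← hba]
    conv_lhs => rw [ha]
    rw [map_add, map_add, map_smul, hbb, hα₀, hα₁]
    module
  have hα₁' : α₁ = (4 : ℝ) • (p - l • b) := by
    linear_combination (norm := module) (-4 : ℝ) • hp2
  have hα₀' : α₀ = a + (3 * l) • b - (4 : ℝ) • p := by
    linear_combination (norm := module) (-1 : ℝ) • ha + (4 : ℝ) • hp2
  have hap : mul a p = (1 / 4 : ℝ) • p + (3 * l / 4) • a := by
    have h1 := hβ₁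
    rw [hβ₁'] at h1
    simp only [map_smul, map_sub, haa] at h1
    linear_combination (norm := module) (1 / 4 : ℝ) • h1
  have hbp : mul b p = (1 / 4 : ℝ) • p + (3 * l / 4) • b := by
    have h1 := hα₁
    rw [hα₁'] at h1
    simp only [map_smul, map_sub, hbb] at h1
    linear_combination (norm := module) (1 / 4 : ℝ) • h1
  have hpa : mul p a = (1 / 4 : ℝ) • p + (3 * l / 4) • a := by rw [hcm p a]; exact hap
  have hpb : mul p b = (1 / 4 : ℝ) • p + (3 * l / 4) • b := by rw [hcm p b]; exact hbp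
  refine ⟨hap, hbp, ?_, ?_⟩
  · have h1 := hB
    rw [hβ₁', hβ₀'] at h1
    simp only [map_add, map_sub, map_smul, LinearMap.add_apply, LinearMap.sub_apply,
      LinearMap.smul_apply, haa, hbb, hba, hap, hbp, hpa, hpb, ← hp] at h1
    linear_combination (norm := module) (-1 / 2 : ℝ) • h1
  · have h1 := hA
    rw [hα₁', hα₀'] at h1
    simp only [map_add, map_sub, map_smul, LinearMap.add_apply, LinearMap.sub_apply,
      LinearMap.smul_apply, haa, hbb, hba, hap, hbp, hpa, hpb, ← hp] at h1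
    linear_combination (norm := module) (-1 / 2 : ℝ) • h1

end linalg

theorem result {V : Type*} [AddCommGroup V] [Module ℝ V] [FiniteDimensional ℝ V] (mul : V →ₗ[ℝ] V →ₗ[ℝ] V) (B : LinearMap.BilinForm ℝ V) (hV : Cfsg.Axial.IsMajoranaAmbient mul B) (μ₀ μ₁ : V ≃ₗ[ℝ] V) (a₀ a₁ : V) (h₀ : Cfsg.Axial.IsMajoranaPair mul B μ₀ a₀) (h₁ : Cfsg.Axial.IsMajoranaPair mul B μ₁ a₁) (hu₀ : ∀ a : V, Cfsg.Axial.IsMajoranaPair mul B μ₀ a → a = a₀) (hu₁ : ∀ a : V, Cfsg.Axial.IsMajoranaPair mul B μ₁ a → a = a₁) (hn₀ : B a₀ a₀ = 1) (hn₁ : B a₁ a₁ = 1) (hc : μ₀ * μ₁ = μ₁ * μ₀) (hne : a₀ ≠ a₁) : (B a₀ a₁ = 0 ∧ mul a₀ a₁ = 0) ∨ (B a₀ a₁ = 1 / 8 ∧ mul (a₀ + a₁ - (8 : ℝ) • mul a₀ a₁) (a₀ + a₁ - (8 : ℝ) • mul a₀ a₁) = a₀ + a₁ - (8 : ℝ) • mul a₀ a₁ ∧ mul a₀ (a₀ + a₁ - (8 : ℝ) • mul a₀ a₁) = (1 / 8 : ℝ) • (a₀ + (a₀ + a₁ - (8 : ℝ) • mul a₀ a₁) - a₁) ∧ mul a₁ (a₀ + a₁ - (8 : ℝ) • mul a₀ a₁) = (1 / 8 : ℝ) • (a₁ + (a₀ + a₁ - (8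 : ℝ) • mul a₀ a₁) - a₀)) := by
  obtain ⟨hcm, hsym, hpos, hassoc, hnorton⟩ := hV
  have hcm' : ∀ u v : V, mul u v = mul v u := hcm
  have hcomm01 : ∀ v, μ₀ (μ₁ v) = μ₁ (μ₀ v) := by
    intro v
    have := congrArg (fun f : V ≃ₗ[ℝ] V => f v) hc
    simpa [LinearEquiv.mul_apply] using this
  -- fixed axes
  have hfix0 : μ₁ a₀ = a₀ := hu₀ _ (transport mul B μ₀ μ₁ a₀ h₁.1 hcomm01 h₀)
  have hfix1 : μ₀ a₁ = a₁ := hu₁ _ (transport mul B μ₁ μ₀ a₁ h₀.1 (fun v => (hcomm01 v).symm) h₁)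
  have hidem0 : mul a₀ a₀ = a₀ := h₀.2.2.1.1.2.1
  have hidem1 : mul a₁ a₁ = a₁ := h₁.2.2.1.1.2.1
  obtain ⟨β₀, β₁, hb, hβ₀, hβ₁, hBB⟩ := decomp mul B hcm' hassoc μ₀ a₀ a₁ h₀ hn₀ hfix1 hidem1
  obtain ⟨α₀, α₁, ha, hα₀, hα₁, hAA⟩ := decomp mul B hcm' hassoc μ₁ a₁ a₀ h₁ hn₁ hfix0 hidem0
  rw [hsym a₁ a₀] at ha hAA
  set l := B a₀ a₁ with hl
  obtain ⟨hap, hbp, hpp1, hpp2⟩ := alg_core mul hcm' a₀ a₁ l hidem0 hidem1 β₀ β₁ α₀ α₁ hb hβ₀ hβ₁ hBB
    ha hα₀ hα₁ hAA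
  have hba : mul a₁ a₀ = mul a₀ a₁ := hcm' a₁ a₀
  set p := mul a₀ a₁ with hp
  have hpa : mul p a₀ = (1 / 4 : ℝ) • p + (3 * l / 4) • a₀ := by rw [hcm' p a₀]; exact hap
  have hpb : mul p a₁ = (1 / 4 : ℝ) • p + (3 * l / 4) • a₁ := by rw [hcm' p a₁]; exact hbp
  -- dichotomy
  have hdich : (l * (8 * l - 1)) • (a₀ - a₁) = 0 := by
    linear_combination (norm := module) hpp2 - hpp1
  have hsub : a₀ - a₁ ≠ 0 := sub_ne_zero.mpr hne
  rcases smul_eq_zero.mp hdich with h | h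
  swap
  · exact absurd h hsub
  rcases mul_eq_zero.mp h with hl0 | hl8
  · left
    refine ⟨hl0, ?_⟩
    -- p is a 1/4-eigenvector of a₀ with p*p = -(1/16) p
    rw [hl0] at hap hpp1
    have hq : (1 / 4 : ℝ) ∈ majoranaSpectrum := by unfold majoranaSpectrum; simp
    have hpe : p ∈ eigen mul a₀ (1 / 4) := by
      rw [mem_eigen_iff, hap]; module
    have fqq := h₀.2.2.1.1.2.2.2 (1 / 4) hq (1 / 4) hq p hpe p hpe
    have lqq : monsterLaw (1 / 4 : ℝ) (1 / 32) (1 / 4) (1 / 4) = ({1, 0} : Set ℝ) := by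
      unfold monsterLaw; norm_num
    rw [lqq] at fqq
    have hpp : mul p p = (-(1 / 16) : ℝ) • p := by
      linear_combination (norm := module) (1 / 16 : ℝ) • hpp1
    rw [hpp] at fqq
    have hpW : p ∈ eigenSum mul a₀ ({1, 0} : Set ℝ) := by
      have := (eigenSum mul a₀ ({1, 0} : Set ℝ)).smul_mem (-16 : ℝ) fqq
      rw [smul_smul] at this
      norm_num at this
      exact this
    exact eigen_disjoint mul a₀ p hpW (by rw [hap]; module)
  · right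
    have hl8' : l = 1 / 8 := by linarith
    rw [hl8'] at hap hbp hpp1 hpa hpb
    refine ⟨hl8', ?_, ?_, ?_⟩
    · simp only [map_add, map_sub, map_smul, LinearMap.add_apply, LinearMap.sub_apply,
        LinearMap.smul_apply, hidem0, hidem1, hba, hap, hbp, hpa, hpb, ← hp]
      linear_combination (norm := module) (4 : ℝ) • hpp1
    · simp only [map_add, map_sub, map_smul, LinearMap.add_apply, LinearMap.sub_apply,
        LinearMap.smul_apply, hidem0, hidem1, hba, hap, hbp, hpa, hpb, ← hp]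
      module
    · simp only [map_add, map_sub, map_smul, LinearMap.add_apply, LinearMap.sub_apply,
        LinearMap.smul_apply, hidem0, hidem1, hba, hap, hbp, hpa, hpb, ← hp]
      module

end Cfsg.Agent.S5545
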