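import Cfsg.Statements.S5547
import Cfsg.Agent.S1696
import Cfsg.Agent.Lib.Helper28_Fi22Rep78

set_option autoImplicit false
open Cfsg

namespace Cfsg.Agent.S5547

open Cfsg.Agent.Lib.Helper28_Fi22Rep78

/-- The Fischer group Fi₂₂ (the finitely presented 3-transposition group of the definitions) is isomorphic to a subgroup of the general linear group of degree 78 over the field with 13 elements: there is an injective homomorphism into it. -/
theorem result : ∃ f : Cfsg.Spor.Fi22 →* GL (Fin 78) (ZMod 13), Function.Injective f := by
  refine ⟨rep, ?_⟩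
  have : IsSimpleGroup Cfsg.Spor.Fi22 := Cfsg.Agent.S1696.result.1
  rw [← MonoidHom.ker_eq_bot_iff]
  rcases (MonoidHom.normal_ker rep).eq_bot_or_eq_top with h | h
  · exact h
  · exfalso
    apply rep_a_ne_one
    have : (PresentedGroup.of Cfsg.Spor.Fi22.Gen.a : Cfsg.Spor.Fi22) ∈ rep.ker := by
      rw [h]; exact Subgroup.mem_top _
    exact this

end Cfsg.Agent.S5547
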