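import Cfsg.Statements.S5549
import Cfsg.Agent.Lib.Helper93_S5549b

set_option autoImplicit false
open Cfsg

namespace Cfsg.Agent.S5549

open scoped Pointwise
open Cfsg.Agent.Lib.Helper7_M24 Cfsg.Agent.Lib.Helper26_Golay Cfsg.Agent.Lib.Helper93_S5549b

theorem support₂_add_one (w : GolayPt → ZMod 2) :
    support₂ (w + fun _ => (1 : ZMod 2)) = (support₂ w)ᶜ := by
  rw [support₂_add]
  have h1 : support₂ (fun _ : GolayPt => (1 : ZMod 2)) = Finset.univ := by
    ext p
    simp [mem_support₂]
  rw [h1]
  ext p
  simp [Finset.mem_symmDiff]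

theorem support₂_inj {v w : GolayPt → ZMod 2} (h : support₂ v = support₂ w) : v = w := by
  rw [← wordOf_enc_support₂ v, ← wordOf_enc_support₂ w, h]

/-- Let X be a group of linear automorphisms of the length-24 binary Golay code of the definitions that fix the all-ones word, containing the coordinate-permutation action of every element of the code's automorphism group (the Mathieu group of degree 24), and such that every element of X sends each codeword into its orbit under that Mathieu group up to adding the all-ones word (X has the same orbits as the Mathieu group on the code modulo the all-ones word). Then every element of X agrees, modulo the all-ones word, with the action of a single element of the Mathieu group: X induces exactly the Mathieu group on the code modulo the all-ones word. -/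
theorem result (X : Subgroup (↥Cfsg.golayCode ≃ₗ[ZMod 2] ↥Cfsg.golayCode)) (h1 : ∀ x ∈ X, ∀ e : ↥Cfsg.golayCode, (e : (Cfsg.GolayPt → ZMod 2)) = (fun _ => (1 : ZMod 2)) → x e = e) (hM : ∀ σ ∈ Cfsg.M24, ∃ x ∈ X, ∀ c : ↥Cfsg.golayCode, ((x c : ↥Cfsg.golayCode) : (Cfsg.GolayPt → ZMod 2)) = fun p => (c : (Cfsg.GolayPt → ZMod 2)) (σ.symm p)) (horb : ∀ x ∈ X, ∀ c : ↥Cfsg.golayCode, ∃ σ ∈ Cfsg.M24, ((x c : ↥Cfsg.golayCode) : (Cfsg.GolayPt → ZMod 2)) = (fun p => (c : (Cfsg.GolayPt → ZMod 2)) (σ.symm p)) ∨ ((x c : ↥Cfsg.golayCode) : (Cfsg.GolayPt → ZMod 2)) = (fun p => (c : (Cfsg.GolayPt → ZMod 2)) (σ.symm p)) + fun _ => (1 : ZMod 2)) (x : ↥Cfsg.golayCode ≃ₗ[ZMod 2] ↥Cfsg.golayCode) (hx : x ∈ X) : ∃ σ ∈ Cfsg.M24, ∀ c : ↥Cfsg.golayCode, ((x c : ↥Cfsg.golayCode) : (Cfsg.GolayPt → ZMod 2)) = (fun p => (c : (Cfsg.GolayPt → ZMod 2)) (σ.symm p)) ∨ ((x c : ↥Cfsg.golayCode) : (Cfsg.GolayPt → ZMod 2)) = (fun p => (c : (Cfsg.GolayPt → ZMod 2)) (σ.symm p)) + fun _ => (1 : ZMod 2) := by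
  classical
  -- the supports of the images
  let F : ↥golayCode → Finset GolayPt := fun c => S (x c)
  have hadd : ∀ a c, F (a + c) = symmDiff (F a) (F c) := by
    intro a c
    show S (x (a + c)) = symmDiff (S (x a)) (S (x c))
    rw [map_add, S_add]
  have hcls : ∀ a, SameCls (F a) (S a) := by
    intro a
    obtain ⟨σ, _, h⟩ := horb x hx a
    show SameCls (S (x a)) (S a)
    have e : (fun p => (a : GolayPt → ZMod 2) (σ.symm p)) = permWord σ (a : GolayPt → ZMod 2) := rfl
    rw [e] at h
    unfold SameCls S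
    rcases h with h | h
    · left
      rw [h, support₂_permWord, Finset.card_smul_finset]
    · right
      rw [h, support₂_add_one, card_compl', support₂_permWord, Finset.card_smul_finset]
      have := card_le (support₂ (a : GolayPt → ZMod 2))
      omega
  have hsupp : ∀ a, F a ∈ supports (golayCode : Set (GolayPt → ZMod 2)) := by
    intro a
    exact ⟨_, (x a).2, rfl⟩
  obtain ⟨σ, hσ, h⟩ := exists_perm F hadd hcls hsupp
  refine ⟨σ, hσ, ?_⟩
  intro c
  have e : (fun p => (c : GolayPt → ZMod 2) (σ.symm p)) = permWord σ (c : GolayPt → ZMod 2) := rfl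
  rw [e]
  rcases h c with h1 | h1
  · left
    apply support₂_inj
    rw [support₂_permWord]
    exact h1
  · right
    apply support₂_inj
    rw [support₂_add_one, support₂_permWord]
    exact h1

end Cfsg.Agent.S5549
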